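import Cfsg.Statements.S0173
import Cfsg.Agent.Lib.Characters.Counting
-- import your own Cfsg.Agent.* helpers here

set_option autoImplicit false
open Cfsg

namespace Cfsg.Agent.S0173

/-- Brauer's permutation lemma for a single automorphism: the number of conjugacy classes mapped to themselves equals the number of irreducible complex characters χ with χ ∘ α = χ. -/
theorem result {G : Type*} [Group G] [Finite G] (α : G ≃* G) : Nat.card {C : ConjClasses G // ConjClasses.map α.toMonoidHom C = C} = Nat.card {χ : Cfsg.IrrCharacter G // (χ : G → ℂ) ∘ α = (χ : G → ℂ)} := by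
  classical
  haveI := Fintype.ofFinite G
  haveI := Fintype.ofFinite (Cfsg.IrrCharacter G)
  set P : ConjClasses G → Prop := fun C => ConjClasses.map α.toMonoidHom C = C with hP
  have hPiff : ∀ g : G, P (ConjClasses.mk g) ↔ IsConj (α g) g := fun g =>
    ConjClasses.mk_eq_mk_iff_isConj (a := α g) (b := g)
  have hleft : ∑ χ : Cfsg.IrrCharacter G,
      Cfsg.classInner (Characters.irrAutEquiv α χ : G → ℂ) (χ : G → ℂ) =
      (Nat.card {χ : Cfsg.IrrCharacter G // (χ : G → ℂ) ∘ α = (χ : G → ℂ)} : ℂ) := by
    have hiff : ∀ χ : Cfsg.IrrCharacter G,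
        Characters.irrAutEquiv α χ = χ ↔ (χ : G → ℂ) ∘ α = (χ : G → ℂ) := fun χ =>
      Subtype.ext_iff
    simp only [Characters.classInner_irr, hiff]
    rw [Finset.sum_boole, Nat.card_eq_fintype_card, Fintype.card_subtype]
  have hright : ∑ χ : Cfsg.IrrCharacter G,
      Cfsg.classInner (Characters.irrAutEquiv α χ : G → ℂ) (χ : G → ℂ) =
      (Nat.card {C : ConjClasses G // P C} : ℂ) := by
    simp only [Characters.classInner_def]
    rw [← Finset.mul_sum, Finset.sum_comm,
      inv_mul_eq_iff_eq_mul₀ Characters.natCard_ne_zero, ← Characters.sum_card_centralizer P]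
    refine Finset.sum_congr rfl fun g _ => ?_
    simp only [Characters.irrAutEquiv, Equiv.coe_fn_mk, Function.comp_apply]
    rw [Characters.second_orthogonality (α g) g]
    simp only [hPiff]
    split_ifs <;> rfl
  exact_mod_cast hright.symm.trans hleft

end Cfsg.Agent.S0173
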