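import Cfsg.Statements.S1415
import Cfsg.Agent.OddLocal.Compl
import Cfsg.Agent.S1405
-- import your own Cfsg.Agent.* helpers here

set_option autoImplicit false
open Cfsg

namespace Cfsg.Agent.S1415

/-- Let G be a minimal simple group of odd order, M a maximal subgroup and E a complement to M_σ in M. Then the derived subgroup E' is nilpotent; every Hall τ₁(M)-subgroup of E is cyclic; and every Hall τ₃(M)-subgroup E₃ of E is cyclic, contained in E' and normal in E. -/
theorem result {G : Type*} [Group G] [Finite G] (hG : Cfsg.IsMinSimpleOddOrder G)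
    (M : Subgroup G) (hM : IsCoatom M) (E : Subgroup G) (hE : Cfsg.IsComplIn E (Cfsg.sigmaCore M) M) :
    Group.IsNilpotent ↥⁅E, E⁆ ∧
      (∀ E₁ : Subgroup G, Cfsg.IsPiHallOf (Cfsg.tau1 M) E₁ E → IsCyclic E₁) ∧
      ∀ E₃ : Subgroup G, Cfsg.IsPiHallOf (Cfsg.tau3 M) E₃ E → IsCyclic E₃ ∧ E₃ ≤ ⁅E, E⁆ ∧ E ≤ Subgroup.normalizer (E₃ : Set G) := by
  classical
  have hnil : Group.IsNilpotent ↥⁅E, E⁆ := by
    have h1 := (S1405.result hG M hM).2.2.2.2
    have hle : piCore (alpha M) ↥M ≤ (piCore (sigma M) ↥M).comap (MonoidHom.id ↥M) := by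
      rw [Subgroup.comap_id]; exact Cores.piCore_mono (OddLocal.Sigma.alpha_subset_sigma hG hM)
    have h2 := Cores.isNilpotent_map _ (QuotientGroup.map _ _ (MonoidHom.id ↥M) hle) h1
    rw [Subgroup.map_map] at h2
    let g : ↥⁅E, E⁆ →* ↥M ⧸ piCore (sigma M) ↥M :=
      (OddLocal.Compl.proj hE).comp (Subgroup.inclusion (Subgroup.commutator_le_self E))
    have hg : Function.Injective g :=
      (OddLocal.Compl.proj_bijective hE).injective.comp (Subgroup.inclusion_injective _)
    have h3 : g.range ≤ (commutator ↥M).map ((QuotientGroup.map _ _ (MonoidHom.id ↥M) hle).comp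
        (QuotientGroup.mk' _)) := by
      rintro _ ⟨x, rfl⟩
      refine ⟨⟨(x : G), hE.1 (Subgroup.commutator_le_self E x.2)⟩, ?_, rfl⟩
      rw [SetLike.mem_coe, ← Subgroup.mem_map_iff_mem M.subtype_injective, Subgroup.map_subtype_commutator]
      exact Subgroup.commutator_mono hE.1 hE.1 x.2
    have := Cores.isNilpotent_to_le h3 h2
    exact Group.nilpotent_of_mulEquiv (MonoidHom.ofInjective hg).symm
  have hcyc : ∀ (p : ℕ), p.Prime → PRankLE p 1 M → ∀ H : Subgroup G, H ≤ E →
      ∀ P : Sylow p H, IsCyclic P := by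
    intro p hp hr H hH P
    have := Fact.mk hp
    have h1 := OddLocal.Compl.isCyclic_of_rankOne hG hr (P.isPGroup'.map H.subtype)
      ((Subgroup.map_subtype_le _).trans (hH.trans hE.1))
    exact isCyclic_of_surjective _
      (Subgroup.equivMapOfInjective _ _ H.subtype_injective).symm.surjective
  have hZ : ∀ {π : Set ℕ} {H : Subgroup G}, IsPiHallOf π H E → (∀ p ∈ π, PRankLE p 1 M) → IsZGroup H := by
    intro π H hH hπ
    refine ⟨fun p hp P => ?_⟩
    by_cases hd : p ∣ Nat.card H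
    · exact hcyc p hp (hπ p (hH.2.1 p hp hd)) H hH.1 P
    · have := Fact.mk hp
      have : Nat.card P = 1 := by
        obtain ⟨n, hn⟩ := P.isPGroup'.exists_card_eq
        rcases n.eq_zero_or_pos with rfl | hn0
        · simpa using hn
        · exact absurd ((hn ▸ dvd_pow_self p hn0.ne').trans (Subgroup.card_subgroup_dvd_card _)) hd
      have : Subsingleton P := Finite.card_le_one_iff_subsingleton.mp this.le
      exact isCyclic_of_subsingleton
  refine ⟨hnil, fun E₁ hE₁ => ?_, fun E₃ hE₃ => ?_⟩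
  · have := hZ hE₁ fun p hp => hp.2.2.2.2
    have h1 : E₁ ⊓ ⁅E, E⁆ = ⊥ := by
      refine Subgroup.eq_bot_of_card_eq _ (Nat.eq_one_iff_not_exists_prime_dvd.mpr fun p hp hd => ?_)
      refine (hE₁.2.1 p hp (hd.trans (Subgroup.card_dvd_of_le inf_le_left))).2.2.2.1 ?_
      exact hd.trans (Subgroup.card_dvd_of_le (inf_le_right.trans (Subgroup.commutator_mono hE.1 hE.1)))
    have h2 : IsMulCommutative E₁ := by
      refine ⟨⟨fun a b => Subtype.ext ?_⟩⟩
      have h3 : ((a : G) * b * (a : G)⁻¹ * (b : G)⁻¹) ∈ E₁ ⊓ ⁅E, E⁆ :=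
        Subgroup.mem_inf.mpr ⟨mul_mem (mul_mem (mul_mem a.2 b.2) (inv_mem a.2)) (inv_mem b.2),
          Subgroup.commutator_mem_commutator (hE₁.1 a.2) (hE₁.1 b.2)⟩
      rw [h1, Subgroup.mem_bot, mul_inv_eq_one, mul_inv_eq_iff_eq_mul] at h3
      exact h3
    have : Group.IsNilpotent E₁ := @CommGroup.isNilpotent _
      { (inferInstance : Group E₁) with mul_comm := fun a b => h2.is_comm.comm a b }
    infer_instance
  · have hZ3 := hZ hE₃ fun p hp => hp.2.2.2
    have hidx : ∀ p : ℕ, p.Prime → p ∈ tau3 M → ¬ p ∣ (commutator ↥E).index := by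
      intro p hp hτ hd
      have := Fact.mk hp
      have h1 := OddLocal.Compl.dvd_commutator hG hM hE hτ.2.1 hτ.2.2.1
      rw [← Subgroup.map_subtype_commutator,
        ← Nat.card_congr (Subgroup.equivMapOfInjective _ _ E.subtype_injective).toEquiv] at h1
      obtain ⟨S⟩ := (inferInstance : Nonempty (Sylow p E))
      have := hcyc p hp hτ.2.2.2 E le_rfl S
      exact (Sylow.not_dvd_card_commutator_or_not_dvd_index_commutator S).elim (· h1) (· hd)
    have hle : E₃ ≤ ⁅E, E⁆ := by
      intro x hx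
      rw [← Subgroup.map_subtype_commutator]
      refine ⟨⟨x, hE₃.1 hx⟩, ?_, rfl⟩
      refine (QuotientGroup.eq_one_iff _).mp (orderOf_eq_one_iff.mp ?_)
      refine Nat.eq_one_of_dvd_coprimes (a := (commutator ↥E).index) (b := Nat.card E₃) ?_
        (orderOf_dvd_natCard _) ?_
      · exact Nat.coprime_of_dvd fun p hp h1 h2 => hidx p hp (hE₃.2.1 p hp h2) h1
      · refine (orderOf_map_dvd (QuotientGroup.mk' _) _).trans ?_
        have e : orderOf (⟨x, hE₃.1 hx⟩ : E) = orderOf (⟨x, hx⟩ : E₃) := by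
          simp [← Subgroup.orderOf_coe]
        rw [e]; exact orderOf_dvd_natCard _
    have hn3 := Cores.isNilpotent_to_le hle hnil
    refine ⟨inferInstance, hle, ?_⟩
    intro e he
    rw [← Transfer.Fusion.map_conj_eq_self_iff]
    set X := E₃.map (MulAut.conj e).toMonoidHom with hX
    refine Subgroup.eq_of_le_of_card_ge ?_ (by rw [hX, Transfer.Fusion.card_map_conj])
    have hcXE : ⁅E, E⁆.map (MulAut.conj e).toMonoidHom = ⁅E, E⁆ := by
      rw [Subgroup.map_commutator, Transfer.Fusion.map_conj_eq_self_iff.mpr (Subgroup.le_normalizer he)]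
    refine OddLocal.Compl.le_of_nilpotent_hall hnil hle (hcXE ▸ Subgroup.map_mono hle) fun q hq hd hd' => ?_
    rw [hX, Transfer.Fusion.card_map_conj] at hd
    refine hE₃.2.2 q hq (hE₃.2.1 q hq hd) (hd'.trans ?_)
    exact Dvd.intro _ (Subgroup.relIndex_mul_relIndex E₃ ⁅E, E⁆ E hle (Subgroup.commutator_le_self E))

end Cfsg.Agent.S1415
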