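import Cfsg.Statements.S1364
import Cfsg.Agent.OddLocal.FcoreStructure
-- import your own Cfsg.Agent.* helpers here

set_option autoImplicit false
open Cfsg

namespace Cfsg.Agent.S1364

/-- Let G be a minimal simple group of odd order, M a maximal subgroup with standard factorisation M = K U M_σ and K ≠ 1, and put K* = M_σ ∩ C_G(K). Then K* is cyclic, nontrivial and contained in M_F, while M_F itself is not cyclic. -/
theorem result {G : Type*} [Group G] [Finite G] (hG : Cfsg.IsMinSimpleOddOrder G)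
    (M : Subgroup G) (hM : IsCoatom M) (K U : Subgroup G) (hKU : Cfsg.IsSigmaDecomposition M K U) (hK1 : K ≠ ⊥) :
    IsCyclic ↥(Cfsg.sigmaCore M ⊓ Subgroup.centralizer (K : Set G)) ∧ (Cfsg.sigmaCore M ⊓ Subgroup.centralizer (K : Set G)) ≠ ⊥ ∧ (Cfsg.sigmaCore M ⊓ Subgroup.centralizer (K : Set G)) ≤ Cfsg.fittingHallOf M ∧ ¬ IsCyclic (Cfsg.fittingHallOf M) := by
  obtain ⟨S, h⟩ := OddLocal.PType.exists_pair hG hM hKU.hall hK1
  have := h.cyclic
  have hne : Cfsg.sigmaCore M ⊓ Subgroup.centralizer (K : Set G) ≠ ⊥ := fun e => by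
    have h1 := (h.symm hG).hK1
    exact h1 e
  refine ⟨isCyclic_of_injective (Subgroup.inclusion
    (le_sup_right : OddLocal.PType.star M K ≤ K ⊔ OddLocal.PType.star M K)) (Subgroup.inclusion_injective _),
    hne, ?_, ?_⟩
  · by_cases hn : Group.IsNilpotent (Cfsg.sigmaCore M)
    · rw [← OddLocal.SigmaParts.sigmaCore_eq_fittingHallOf hG hM hn]
      exact inf_le_left
    · obtain ⟨q, Q, c⟩ := OddLocal.NonNilpotent.exists_core hG hM hKU hn
      exact c.star_le.trans c.le_F
  · intro hcyc
    by_cases hn : Group.IsNilpotent (Cfsg.sigmaCore M)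
    · rw [← OddLocal.SigmaParts.sigmaCore_eq_fittingHallOf hG hM hn] at hcyc
      exact OddLocal.CyclicFixed.not_isCyclic_sigmaCore hG hM hKU hK1 hne hcyc
    · obtain ⟨q, Q, c⟩ := OddLocal.NonNilpotent.exists_core hG hM hKU hn
      exact OddLocal.CyclicFixed.not_isCyclic_core hG hM hKU c
        (isCyclic_of_injective (Subgroup.inclusion c.le_F) (Subgroup.inclusion_injective _))

end Cfsg.Agent.S1364
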