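import Cfsg.Statements.S0854
import Mathlib
import Cfsg.Agent.Lib.CharTheory.Basics
import Cfsg.Agent.Lib.CharTheory.Clifford

set_option autoImplicit false
open Cfsg Cfsg.Agent.Characters
open Cfsg.Agent.CharTheory

namespace Cfsg.Agent.S0854

/-- Let H be a normal subgroup of the finite group G, ϑ an irreducible character of H, and T the inertia group of ϑ (the elements g with ϑ(g n g⁻¹) = ϑ(n) for all n in H). If χ is an irreducible character of G whose restriction to H has nonzero inner product with ϑ, then χ is induced from some irreducible character ψ of T, and the restrictions of ψ and of χ to H have the same inner product with ϑ. -/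
theorem result {G : Type*} [Group G] [Fintype G] (H : Subgroup G) [hN : H.Normal] [Fintype H] (ϑ : H → ℂ) (hϑ : Cfsg.IsIrrCharacter H ϑ) (T : Subgroup G) [Fintype T] (hT : ∀ g : G, g ∈ T ↔ ∀ n : H, ϑ ⟨g * n * g⁻¹, hN.conj_mem (n : G) n.2 g⟩ = ϑ n) (hHT : H ≤ T) (χ : G → ℂ) (hχ : Cfsg.IsIrrCharacter G χ) (hcon : Cfsg.classInner (fun n : H => χ n) ϑ ≠ 0) : ∃ ψ : T → ℂ, Cfsg.IsIrrCharacter T ψ ∧ Cfsg.indFun T ψ = χ ∧ Cfsg.classInner (fun n : H => ψ ⟨(n : G), hHT n.2⟩) ϑ = Cfsg.classInner (fun n : H => χ n) ϑ := by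
  classical
  haveI := Fintype.ofFinite (Cfsg.IrrCharacter T)
  have hT' : ∀ g : G, g ∈ T ↔ Clifford.conjBy H g ϑ = ϑ := fun g =>
    (hT g).trans ⟨fun h => funext h, fun h n => congrFun h n⟩
  obtain ⟨hχc, hθc⟩ : Cfsg.IsCharacter G χ ∧ Cfsg.IsCharacter H ϑ :=
    ⟨isCharacter_of_isIrr hχ, isCharacter_of_isIrr hϑ⟩
  obtain ⟨e, he⟩ := classInner_char_nat (isCharacter_restrict H hχc) hθc
  let ι : H →* T := Subgroup.inclusion hHT
  have hχT : Cfsg.IsCharacter T (fun t : T => χ t) := isCharacter_restrict T hχc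
  have hcomp : ∀ ψ : T → ℂ, Cfsg.IsCharacter T ψ →
      Cfsg.IsCharacter H (fun n : H => ψ ⟨(n : G), hHT n.2⟩) := fun ψ h => isCharacter_comp ι h
  choose a ha using fun ψ : Cfsg.IrrCharacter T => classInner_char_nat hχT (irr_isCharacter ψ)
  choose b hb using fun ψ : Cfsg.IrrCharacter T =>
    classInner_char_nat (hcomp _ (irr_isCharacter ψ)) hθc
  have hexp : (fun n : H => χ n) = ∑ ψ : Cfsg.IrrCharacter T,
      (a ψ : ℂ) • (fun n : H => (ψ : T → ℂ) ⟨(n : G), hHT n.2⟩) := by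
    funext n
    have := congrFun (classFun_eq_sum (char_isClassFunction hχT)) ⟨(n : G), hHT n.2⟩
    simpa [ha, Finset.sum_apply] using this
  have hsum : e = ∑ ψ, a ψ * b ψ := by
    rw [hexp, classInner_sum_left] at he
    simp only [classInner_smul_left, hb] at he
    exact_mod_cast he.symm
  have he0 : e ≠ 0 := by rintro rfl; exact hcon (by rw [he, Nat.cast_zero])
  obtain ⟨ψ, -, hψ⟩ : ∃ ψ ∈ Finset.univ, a ψ * b ψ ≠ 0 :=
    Finset.exists_ne_zero_of_sum_ne_zero (hsum ▸ he0)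
  obtain ⟨haψ, hbψ⟩ := mul_ne_zero_iff.mp hψ
  have hbe : b ψ ≤ e := by
    rw [hsum]
    exact (Nat.le_mul_of_pos_left _ (Nat.pos_of_ne_zero haψ)).trans
      (Finset.single_le_sum (f := fun ψ => a ψ * b ψ) (fun _ _ => Nat.zero_le _)
        (Finset.mem_univ ψ))
  -- Clifford inside `T`
  let H' : Subgroup T := H.subgroupOf T
  let ε : H' ≃* H := Subgroup.subgroupOfEquivOfLe hHT
  have hθ' : Cfsg.IsIrrCharacter H' (ϑ ∘ ε) := Basics.isIrrCharacter_comp_equiv ε hϑ
  have hinv' : ∀ t : T, Clifford.conjBy H' t (ϑ ∘ ε) = ϑ ∘ ε := fun t => funext fun x => by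
    have h := (hT t).mp t.2 (ε x)
    exact Eq.trans (congrArg ϑ (Subtype.ext rfl)) h
  have hres' : Cfsg.classInner (fun x : H' => (ψ : T → ℂ) x) (ϑ ∘ ε) = (b ψ : ℂ) := by
    rw [← hb, ← Basics.classInner_comp_equiv ε _ ϑ]
    rfl
  have hψres := Clifford.restrict_eq_smul_of_invariant H' ψ.2 hθ'
    (by rw [hres']; exact_mod_cast hbψ) hinv'
  rw [hres'] at hψres
  have hψ1 : (ψ : T → ℂ) 1 = (b ψ : ℂ) * ϑ 1 := by
    have := congrFun hψres 1
    simpa using this
  have hdeg := Clifford.card_mul_degree H hχ hϑ hcon T hT'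
  rw [he] at hdeg
  obtain ⟨d, hd0, hd⟩ := irr_one_pos hϑ
  obtain ⟨c, hc⟩ := char_one_nat hχc
  have hind : Cfsg.IsCharacter G (Cfsg.indFun T (ψ : T → ℂ)) :=
    isCharacter_indFun T (irr_isCharacter ψ)
  have hindχ : Cfsg.classInner (Cfsg.indFun T (ψ : T → ℂ)) χ = (a ψ : ℂ) := by
    rw [frobenius_reciprocity T _ (char_isClassFunction hχc), classInner_conj_symm, ha, map_natCast]
  have hind1 : Cfsg.indFun T (ψ : T → ℂ) 1 = ((T.index * (b ψ * d) : ℕ) : ℂ) := by
    rw [indFun_one, hψ1, hd]; push_cast; ring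
  have hle := Basics.degree_le hind hχ hindχ hind1 hc
  have hcT : c = T.index * (e * d) := by
    rw [hc, hd] at hdeg
    have h2 : Nat.card T * c = e * (Nat.card G * d) := by exact_mod_cast hdeg
    refine Nat.eq_of_mul_eq_mul_left (Nat.card_pos (α := T)) ?_
    rw [h2, ← T.index_mul_card]; ring
  have hidx : 0 < T.index := Nat.pos_of_ne_zero Subgroup.index_ne_zero_of_finite
  have hbe' : b ψ = e := by
    rw [hcT] at hle
    by_contra hne
    have hlt : b ψ < e := lt_of_le_of_ne hbe hne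
    have h1 : T.index * (e * d) ≤ T.index * (b ψ * d) :=
      (Nat.le_mul_of_pos_left _ (Nat.pos_of_ne_zero haψ)).trans hle
    have h2 : T.index * (b ψ * d) < T.index * (e * d) :=
      Nat.mul_lt_mul_of_pos_left (Nat.mul_lt_mul_of_pos_right hlt hd0) hidx
    omega
  have ha1 : a ψ = 1 := by
    rw [hcT, hbe'] at hle
    have : 0 < T.index * (e * d) :=
      Nat.mul_pos hidx (Nat.mul_pos (Nat.pos_of_ne_zero he0) hd0)
    have := Nat.pos_of_ne_zero haψ
    nlinarith
  refine ⟨ψ.1, ψ.2, ?_, by rw [hb, he, hbe']⟩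
  have := Basics.eq_of_degree_eq hind hχ hindχ
    (by rw [hind1, hc, ha1, hcT, hbe']; simp)
  rw [this, ha1]
  simp

end Cfsg.Agent.S0854
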