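import Cfsg.Statements.S0887
import Mathlib
import Cfsg.Agent.S0854
import Cfsg.Agent.Lib.CharTheory.DegreeIndex

set_option autoImplicit false
open Cfsg Cfsg.Agent.Characters Cfsg.Agent.CharTheory

namespace Cfsg.Agent.S0887

/-- Let N be a normal subgroup of the finite group G, χ an irreducible character of G and ϑ an irreducible character of N having nonzero inner product with the restriction of χ. If χ 1 = c and ϑ 1 = d as natural numbers, then d divides c and c / d divides the index of N. -/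
theorem result {G : Type*} [Group G] [Fintype G] (N : Subgroup G) [N.Normal] [Fintype N] (χ : G → ℂ) (hχ : Cfsg.IsIrrCharacter G χ) (ϑ : N → ℂ) (hϑ : Cfsg.IsIrrCharacter N ϑ) (hcon : Cfsg.classInner (fun n : N => χ n) ϑ ≠ 0) (c d : ℕ) (hc : χ 1 = c) (hd : ϑ 1 = d) : d ∣ c ∧ c / d ∣ N.index := by
  classical
  have hN : N.Normal := inferInstance
  let T : Subgroup G :=
    { carrier := {g | Clifford.conjBy N g ϑ = ϑ}
      one_mem' := Clifford.conjBy_one N ϑ
      mul_mem' := fun {a b} ha hb => by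
        show Clifford.conjBy N (a * b) ϑ = ϑ
        rw [← Clifford.conjBy_conjBy, show Clifford.conjBy N a ϑ = ϑ from ha,
          show Clifford.conjBy N b ϑ = ϑ from hb]
      inv_mem' := fun {a} ha => by
        show Clifford.conjBy N a⁻¹ ϑ = ϑ
        apply Clifford.conjBy_injective N a
        rw [Clifford.conjBy_conjBy, inv_mul_cancel, Clifford.conjBy_one,
          show Clifford.conjBy N a ϑ = ϑ from ha] }
  haveI : Fintype T := Fintype.ofFinite T
  have hT : ∀ g : G, g ∈ T ↔ ∀ n : N, ϑ ⟨g * n * g⁻¹, hN.conj_mem (n : G) n.2 g⟩ = ϑ n :=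
    fun g => ⟨fun h n => congrFun h n, fun h => funext h⟩
  have hNT : N ≤ T := by
    intro g hg
    funext n
    exact char_isClassFunction (isCharacter_of_isIrr hϑ) n ⟨g, hg⟩
  obtain ⟨ψ, hψ, hind, hres⟩ := Cfsg.Agent.S0854.result N ϑ hϑ T hT hNT χ hχ hcon
  obtain ⟨e, he⟩ := classInner_char_nat (isCharacter_restrict N (isCharacter_of_isIrr hχ))
    (isCharacter_of_isIrr hϑ)
  rw [he] at hres
  have he0 : e ≠ 0 := by rintro rfl; exact hcon (by rw [he, Nat.cast_zero])
  let N' : Subgroup T := N.subgroupOf T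
  haveI : Fintype N' := Fintype.ofFinite N'
  let ε : N' ≃* N := Subgroup.subgroupOfEquivOfLe hNT
  have hθ' : Cfsg.IsIrrCharacter N' (ϑ ∘ ε) := Basics.isIrrCharacter_comp_equiv ε hϑ
  have hinv' : ∀ t : T, Clifford.conjBy N' t (ϑ ∘ ε) = ϑ ∘ ε := fun t => funext fun x =>
    Eq.trans (congrArg ϑ (Subtype.ext rfl)) (congrFun t.2 (ε x))
  have hres' : Cfsg.classInner (fun x : N' => ψ x) (ϑ ∘ ε) = (e : ℂ) := by
    rw [← hres, ← Basics.classInner_comp_equiv ε _ ϑ]
    rfl
  have hdvd := DegreeIndex.ramification_dvd_index N' hθ' hinv' hψ hres' he0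
  have hψN := Clifford.restrict_eq_smul_of_invariant N' hψ hθ'
    (by rw [hres']; exact_mod_cast he0) hinv'
  rw [hres'] at hψN
  have hψ1 : ψ 1 = (e : ℂ) * d := by
    rw [← hd]
    simpa using congrFun hψN 1
  have hce : c = T.index * e * d := by
    rw [← hind, indFun_one, hψ1] at hc
    rw [← Nat.cast_inj (R := ℂ), ← hc]
    push_cast
    ring
  obtain ⟨d', hd'pos, hd'⟩ := irr_one_pos hϑ
  have hdd : d = d' := by rw [hd] at hd'; exact_mod_cast hd'
  refine ⟨hce ▸ dvd_mul_left d _, ?_⟩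
  rw [hce, Nat.mul_div_cancel _ (hdd ▸ hd'pos), ← Subgroup.relIndex_mul_index hNT, mul_comm]
  exact mul_dvd_mul hdvd dvd_rfl

end Cfsg.Agent.S0887
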