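import Cfsg.Statements.S0900
import Mathlib
import Cfsg.Agent.Lib.CharTheory.Clifford

set_option autoImplicit false
open Cfsg Cfsg.Agent.Characters
open Cfsg.Agent.CharTheory
open scoped ComplexConjugate

namespace Cfsg.Agent.S0900

/-- Let N be a normal subgroup of the finite group G, χ an irreducible character of G and ϑ an irreducible character of N having nonzero inner product with the restriction of χ. Consider: (a) the restriction of χ to N is e • ϑ for a natural number e with e ^ 2 equal to the index of N; (b) χ vanishes outside N and ϑ is invariant under conjugation by G; (c) ϑ is invariant and every irreducible character of G having nonzero inner product with the function induced from ϑ equals χ. Then (a) ↔ (b) and (a) ↔ (c). -/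
theorem result {G : Type*} [Group G] [Fintype G] (N : Subgroup G) [hN : N.Normal] [Fintype N] (χ : G → ℂ) (hχ : Cfsg.IsIrrCharacter G χ) (ϑ : N → ℂ) (hϑ : Cfsg.IsIrrCharacter N ϑ) (hcon : Cfsg.classInner (fun n : N => χ n) ϑ ≠ 0) : ((∃ e : ℕ, (fun n : N => χ n) = (e : ℂ) • ϑ ∧ e ^ 2 = N.index) ↔ ((∀ g : G, g ∉ N → χ g = 0) ∧ ∀ (g : G) (n : N), ϑ ⟨g * n * g⁻¹, hN.conj_mem (n : G) n.2 g⟩ = ϑ n)) ∧ ((∃ e : ℕ, (fun n : N => χ n) = (e : ℂ) • ϑ ∧ e ^ 2 = N.index) ↔ (∀ (g : G) (n : N), ϑ ⟨g * n * g⁻¹, hN.conj_mem (n : G) n.2 g⟩ = ϑ n ∧ ∀ ψ : G → ℂ, Cfsg.IsIrrCharacter G ψ → Cfsg.classInner (Cfsg.indFun N ϑ) ψ ≠ 0 → ψ = χ)) := by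
  classical
  obtain ⟨hχc, hθc⟩ : Cfsg.IsCharacter G χ ∧ Cfsg.IsCharacter N ϑ :=
    ⟨isCharacter_of_isIrr hχ, isCharacter_of_isIrr hϑ⟩
  obtain ⟨e, he⟩ := classInner_char_nat (isCharacter_restrict N hχc) hθc
  have he0 : e ≠ 0 := by rintro rfl; exact hcon (by rw [he, Nat.cast_zero])
  have hcl := char_isClassFunction hχc
  -- the restriction is a multiple of `ϑ` exactly when `ϑ` is invariant
  have hres : (∀ g : G, Clifford.conjBy N g ϑ = ϑ) →
      (fun n : N => χ n) = (e : ℂ) • ϑ := fun hinv => by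
    rw [← he]; exact Clifford.restrict_eq_smul_of_invariant N hχ hϑ hcon hinv
  have hinvof : ∀ k : ℕ, (fun n : N => χ n) = (k : ℂ) • ϑ →
      k = e ∧ ∀ g : G, Clifford.conjBy N g ϑ = ϑ := by
    intro k hk
    have hke : k = e := by
      rw [hk, classInner_smul_left, classInner_isIrr_self hϑ, mul_one] at he
      exact_mod_cast he
    refine ⟨hke, fun g => funext fun n => ?_⟩
    have h1 := congrFun (Clifford.conjBy_restrict N hcl g) n
    rw [hk] at h1
    simp only [Clifford.conjBy_apply, Pi.smul_apply, smul_eq_mul] at h1 ⊢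
    exact mul_left_cancel₀ (Nat.cast_ne_zero.mpr (hke ▸ he0)) (h1.trans (congrFun hk n))
  have hnormG : ∑ g : G, χ g * conj (χ g) = (Nat.card G : ℂ) := by
    have := classInner_isIrr_self hχ
    rw [classInner_def, inv_mul_eq_one₀ natCard_ne_zero] at this
    exact this.symm
  have hnormN : (∀ g : G, Clifford.conjBy N g ϑ = ϑ) →
      ∑ g ∈ Finset.univ.filter (fun g : G => g ∈ N), χ g * conj (χ g) =
        (e ^ 2 : ℕ) * (Nat.card N : ℂ) := by
    intro hinv
    rw [← Finset.sum_subtype_eq_sum_filter, Finset.subtype_univ]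
    have h1 : Cfsg.classInner (fun n : N => χ n) (fun n : N => χ n) = ((e ^ 2 : ℕ) : ℂ) := by
      rw [hres hinv, classInner_smul_left, classInner_smul_right, classInner_isIrr_self hϑ,
        map_natCast]
      push_cast; ring
    rw [classInner_def, inv_mul_eq_iff_eq_mul₀ natCard_ne_zero] at h1
    rw [mul_comm, ← h1]
  have hidx : (Nat.card G : ℂ) = (N.index : ℂ) * (Nat.card N : ℂ) := by
    rw [← Nat.cast_mul, N.index_mul_card]
  have hvanish : (∀ g : G, Clifford.conjBy N g ϑ = ϑ) →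
      ((∀ g : G, g ∉ N → χ g = 0) ↔ e ^ 2 = N.index) := by
    intro hinv
    have hsplit := Finset.sum_filter_add_sum_filter_not Finset.univ (fun g : G => g ∈ N)
      (fun g => χ g * conj (χ g))
    rw [hnormG, hnormN hinv, hidx] at hsplit
    have hzero : (∀ g : G, g ∉ N → χ g = 0) ↔
        ∑ g ∈ Finset.univ.filter (fun g : G => g ∉ N), χ g * conj (χ g) = 0 := by
      constructor
      · intro h
        exact Finset.sum_eq_zero fun g hg => by rw [h g (Finset.mem_filter.mp hg).2, zero_mul]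
      · intro h g hg
        simp only [Complex.mul_conj, ← Complex.ofReal_sum, Complex.ofReal_eq_zero] at h
        exact Complex.normSq_eq_zero.mp ((Finset.sum_eq_zero_iff_of_nonneg
          fun g _ => Complex.normSq_nonneg (χ g)).mp h g (Finset.mem_filter.mpr ⟨Finset.mem_univ _, hg⟩))
    rw [hzero]
    constructor
    · intro h
      rw [h, add_zero] at hsplit
      exact_mod_cast mul_right_cancel₀ natCard_ne_zero hsplit
    · intro h
      rw [h] at hsplit
      simpa using hsplit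
  have huniq : (∀ g : G, Clifford.conjBy N g ϑ = ϑ) →
      ((∀ ψ : G → ℂ, Cfsg.IsIrrCharacter G ψ → Cfsg.classInner (Cfsg.indFun N ϑ) ψ ≠ 0 → ψ = χ) ↔
        e ^ 2 = N.index) := by
    intro hinv
    haveI := Fintype.ofFinite (Cfsg.IrrCharacter G)
    set Φ := Cfsg.indFun N ϑ with hΦdef
    have hΦ : Cfsg.IsCharacter G Φ := isCharacter_indFun N hθc
    choose a ha using fun ψ : Cfsg.IrrCharacter G => classInner_char_nat hΦ (irr_isCharacter ψ)
    have hsum : ∑ ψ, a ψ ^ 2 = N.index := by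
      have h1 := classInner_eq_sum Φ (char_isClassFunction hΦ)
      rw [hΦdef, Clifford.classInner_indFun_self N hϑ hinv, ← hΦdef] at h1
      simp only [fun ψ : Cfsg.IrrCharacter G => classInner_conj_symm Φ (ψ : G → ℂ), ha,
        map_natCast, ← sq] at h1
      exact_mod_cast h1.symm
    have haχ : a ⟨χ, hχ⟩ = e := by
      have h1 : Cfsg.classInner Φ χ = (a ⟨χ, hχ⟩ : ℂ) := ha ⟨χ, hχ⟩
      rw [hΦdef, frobenius_reciprocity N ϑ hcl, classInner_conj_symm, he, map_natCast] at h1
      exact_mod_cast h1.symm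
    rw [← hsum, ← haχ, ← Finset.add_sum_erase _ _ (Finset.mem_univ (⟨χ, hχ⟩ : Cfsg.IrrCharacter G))]
    constructor
    · intro h
      rw [Finset.sum_eq_zero, add_zero]
      intro ψ hψ
      by_contra hne
      refine (Finset.mem_erase.mp hψ).1 (Subtype.ext (h ψ.1 ψ.2 ?_))
      rw [ha]
      exact_mod_cast fun h0 : a ψ = 0 => hne (by rw [h0]; rfl)
    · intro h ψ hψ hne
      by_contra hψχ
      have hz : ∑ x ∈ Finset.univ.erase (⟨χ, hχ⟩ : Cfsg.IrrCharacter G), a x ^ 2 = 0 := by omega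
      have h0 := (Finset.sum_eq_zero_iff.mp hz) (⟨ψ, hψ⟩ : Cfsg.IrrCharacter G)
        (Finset.mem_erase.mpr ⟨fun he' => hψχ (congrArg Subtype.val he'), Finset.mem_univ _⟩)
      exact hne (by rw [show Cfsg.classInner Φ ψ = _ from ha ⟨ψ, hψ⟩,
        pow_eq_zero_iff two_ne_zero |>.mp h0, Nat.cast_zero])
  refine ⟨⟨fun ⟨k, hk, hk2⟩ => ?_, fun ⟨hv, hinv⟩ => ?_⟩, ⟨fun ⟨k, hk, hk2⟩ => ?_, fun h => ?_⟩⟩
  · obtain ⟨rfl, hinv⟩ := hinvof k hk
    exact ⟨(hvanish hinv).mpr hk2, fun g n => congrFun (hinv g) n⟩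
  · have hinv' : ∀ g : G, Clifford.conjBy N g ϑ = ϑ := fun g => funext (hinv g)
    exact ⟨e, hres hinv', (hvanish hinv').mp hv⟩
  · obtain ⟨rfl, hinv⟩ := hinvof k hk
    exact fun g n => ⟨congrFun (hinv g) n, (huniq hinv).mpr hk2⟩
  · have hinv' : ∀ g : G, Clifford.conjBy N g ϑ = ϑ := fun g => funext fun n => (h g n).1
    exact ⟨e, hres hinv', (huniq hinv').mp (h 1 1).2⟩

end Cfsg.Agent.S0900
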