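import Cfsg.Statements.S0857
import Cfsg.Agent.Lib.CharTheory.Clifford
import Cfsg.Agent.Lib.CharTheory.Basics
import Cfsg.Agent.Lib.Characters.Kernel
import Cfsg.Agent.S0900

set_option autoImplicit false
open Cfsg

namespace Cfsg.Agent.S0857

open Cfsg.Agent.Characters Cfsg.Agent.CharTheory
open scoped ComplexConjugate

universe u

variable {K : Type u} [Group K] [Fintype K] (N : Subgroup K) [N.Normal]

/-- The homomorphisms into `ℂˣ` trivial on `N`. -/
def lins : Subgroup (K →* ℂˣ) where
  carrier := {f | ∀ n ∈ N, f n = 1}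
  one_mem' := fun n _ => rfl
  mul_mem' := fun {a b} ha hb n hn => by simp [ha n hn, hb n hn]
  inv_mem' := fun {a} ha n hn => by simp [ha n hn]

theorem exists_lin_ne (hab : commutator K ≤ N) {k : K} (hk : k ∉ N) :
    ∃ f : K →* ℂˣ, (∀ n ∈ N, f n = 1) ∧ f k ≠ 1 := by
  have hk1 : (QuotientGroup.mk' N k) ≠ 1 := fun h => hk ((QuotientGroup.eq_one_iff k).1 h)
  obtain ⟨χ, hχ, hne⟩ := exists_irr_ne hk1
  have hcomm : ∀ a b : K ⧸ N, a * b = b * a := by
    intro a b
    induction a using QuotientGroup.induction_on with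
    | H x =>
      induction b using QuotientGroup.induction_on with
      | H y =>
        rw [← QuotientGroup.mk_mul, ← QuotientGroup.mk_mul, QuotientGroup.eq]
        have h := hab (Subgroup.commutator_mem_commutator (Subgroup.mem_top y⁻¹)
          (Subgroup.mem_top x⁻¹))
        simpa [commutatorElement_def, mul_assoc] using h
  have h1 : χ 1 = 1 := irr_degree_one_of_comm hcomm hχ
  refine ⟨(linearOfDegreeOne (isCharacter_of_isIrr hχ) h1).comp (QuotientGroup.mk' N),
    fun n hn => ?_, fun h => hne ?_⟩
  · rw [MonoidHom.comp_apply, QuotientGroup.mk'_apply, (QuotientGroup.eq_one_iff n).2 hn, map_one]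
  · rw [h1]; simpa using congrArg (Units.val) h

theorem sum_ite_mem (a : K → ℂ) [Fintype N] [DecidablePred (· ∈ N)] :
    ∑ k : K, (if k ∈ N then a k else 0) = ∑ n : N, a n := by
  rw [← Finset.sum_filter]
  exact Finset.sum_subtype _ (fun x => by simp) a

/-- An irreducible character is fixed by some nontrivial linear character of an abelian quotient,
or has irreducible restriction. -/
theorem restrict_norm_one (hab : commutator K ≤ N) [Fintype N] {θ : K → ℂ}
    (hθ : Cfsg.IsIrrCharacter K θ)
    (hfix : ∀ f : K →* ℂˣ, (∀ n ∈ N, f n = 1) → (∀ x, θ x * f x = θ x) → f = 1) :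
    Cfsg.classInner (fun n : N => θ n) (fun n : N => θ n) = 1 := by
  classical
  haveI : Finite (K →* ℂˣ) :=
    Nat.finite_of_card_ne_zero (by rw [card_linear_hom]; exact Subgroup.index_ne_zero_of_finite)
  haveI := Fintype.ofFinite (lins N)
  set r : ℂ := (Fintype.card (lins N) : ℂ) with hr
  have horth : ∀ k : K, ∑ f : lins N, (f.1 k : ℂ) = if k ∈ N then r else 0 := by
    intro k
    by_cases hk : k ∈ N
    · rw [if_pos hk, Finset.sum_congr rfl (fun f _ => show (f.1 k : ℂ) = 1 by
        rw [f.2 k hk, Units.val_one]), Finset.sum_const, Finset.card_univ, nsmul_one]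
    · rw [if_neg hk]
      obtain ⟨f, hf, hfk⟩ := exists_lin_ne N hab hk
      have h := Fintype.sum_equiv (Equiv.mulLeft (⟨f, hf⟩ : lins N))
        (fun g => (f k : ℂ) * (g.1 k : ℂ)) (fun g => (g.1 k : ℂ)) fun g => by simp
      rw [← Finset.mul_sum, ← sub_eq_zero, ← sub_one_mul, mul_eq_zero] at h
      refine h.resolve_left fun h' => hfk (Units.ext ?_)
      simpa using sub_eq_zero.1 h'
  -- double count
  have hdc : ∀ a : K → ℂ, ∑ f : lins N, ∑ k : K, a k * (f.1 k : ℂ) = r * ∑ n : N, a n := by
    intro a
    rw [Finset.sum_comm, ← sum_ite_mem N a, Finset.mul_sum]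
    refine Finset.sum_congr rfl fun k _ => ?_
    rw [← Finset.mul_sum, horth]
    split_ifs <;> ring
  have hone : r * (Nat.card N : ℂ) = Nat.card K := by
    have h := hdc fun _ => 1
    rw [Finset.sum_eq_single (1 : lins N)] at h
    · simpa [Nat.card_eq_fintype_card] using h.symm
    · intro f _ hf
      have hb : Cfsg.classInner (fun k : K => (f.1 k : ℂ)) (fun _ => 1) = 0 := by
        refine classInner_isIrr_ne (isIrrCharacter_linear f.1) isIrrCharacter_one fun he => hf ?_
        exact Subtype.ext (MonoidHom.ext fun k => Units.ext (congrFun he k))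
      simp only [classInner_def, map_one, mul_one, mul_eq_zero, inv_eq_zero] at hb
      simpa using hb.resolve_left natCard_ne_zero
    · simp
  have hmain : r * (Nat.card N : ℂ) * Cfsg.classInner (fun n : N => θ n) (fun n : N => θ n) =
      Nat.card K := by
    have hK0 : (Nat.card K : ℂ) ≠ 0 := natCard_ne_zero
    rw [classInner_def, mul_assoc, mul_inv_cancel_left₀ natCard_ne_zero,
      ← hdc fun k => θ k * conj (θ k), Finset.sum_eq_single (1 : lins N)]
    · have h := classInner_isIrr_self hθ
      rw [classInner_def, inv_mul_eq_one₀ hK0] at h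
      rw [h]
      simp
    · intro f _ hf
      have hb : Cfsg.classInner (fun k : K => (f.1 k : ℂ) * θ k) θ = 0 := by
        refine classInner_isIrr_ne (isIrrCharacter_mul_linear hθ f.1) hθ fun he => hf ?_
        exact Subtype.ext (hfix f.1 f.2 fun x => (mul_comm _ _).trans (congrFun he x))
      simp only [classInner_def, mul_eq_zero, inv_eq_zero] at hb
      refine (Finset.sum_congr rfl fun k _ => ?_).trans (hb.resolve_left natCard_ne_zero)
      ring
    · simp
  rw [hone] at hmain
  exact mul_left_cancel₀ natCard_ne_zero (hmain.trans (mul_one _).symm)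

/-- Let L < K be normal subgroups of the finite group G with no normal subgroup of G strictly between them and with K / L abelian (the commutator subgroup of K lies in L). Let ϑ be an irreducible character of K invariant under conjugation by G. Then the restriction of ϑ to L is irreducible; or it equals e times an irreducible character of L with e ^ 2 equal to the index of L in K; or it is the sum of a family of pairwise distinct irreducible characters of L indexed by a set whose size is the index of L in K. -/
theorem result {G : Type*} [Group G] [Fintype G] (K L : Subgroup G) [hK : K.Normal] [L.Normal] (hLK : L < K) (hchief : ∀ M : Subgroup G, M.Normal → L ≤ M → M ≤ K → M = L ∨ M = K) (hab : ⁅K, K⁆ ≤ L) (ϑ : K → ℂ) (hϑ : Cfsg.IsIrrCharacter K ϑ) (hinv : ∀ (g : G) (n : K), ϑ ⟨g * n * g⁻¹, hK.conj_mem (n : G) n.2 g⟩ = ϑ n) : Cfsg.IsIrrCharacter L (fun x : L => ϑ ⟨(x : G), hLK.le x.2⟩) ∨ (∃ (φ : L → ℂ) (e : ℕ), Cfsg.IsIrrCharacter L φ ∧ (fun x : L => ϑ ⟨(x : G), hLK.le x.2⟩) = (e : ℂ) • φ ∧ e ^ 2 = L.relIndex K) ∨ (∃ F : Finset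 (L → ℂ), (∀ φ ∈ F, Cfsg.IsIrrCharacter L φ) ∧ F.card = L.relIndex K ∧ (fun x : L => ϑ ⟨(x : G), hLK.le x.2⟩) = ∑ φ ∈ F, φ) := by
  classical
  set N : Subgroup K := L.subgroupOf K with hN
  let e : N ≃* L := Subgroup.subgroupOfEquivOfLe hLK.le
  set θL : L → ℂ := fun x : L => ϑ ⟨(x : G), hLK.le x.2⟩ with hθL
  set θN : N → ℂ := fun n : N => ϑ n with hθN
  have hθLe : θL ∘ e = θN := rfl
  have htoL : ∀ ψ : N → ℂ, Cfsg.IsIrrCharacter N ψ → Cfsg.IsIrrCharacter L (ψ ∘ e.symm) :=
    fun ψ h => Basics.isIrrCharacter_comp_equiv e.symm h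
  have hθLN : θN ∘ e.symm = θL := by
    funext x
    simp [← hθLe]
  have habK : commutator K ≤ N := by
    rw [commutator_def, Subgroup.commutator_le]
    intro a _ b _
    exact hab (Subgroup.commutator_mem_commutator a.2 b.2)
  -- a constituent
  have hθc : Cfsg.IsCharacter N θN := isCharacter_restrict N (isCharacter_of_isIrr hϑ)
  obtain ⟨φ, hφ, hφne⟩ : ∃ φ, Cfsg.IsIrrCharacter N φ ∧ Cfsg.classInner θN φ ≠ 0 := by
    by_contra h
    push Not at h
    haveI := Fintype.ofFinite (Cfsg.IrrCharacter N)
    have h1 := congrFun (classFun_eq_sum (char_isClassFunction hθc)) 1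
    rw [Finset.sum_eq_zero (fun ψ _ => by rw [h _ ψ.2, zero_smul])] at h1
    exact irr_one_ne_zero hϑ h1
  obtain ⟨d, hd⟩ := classInner_char_nat hθc (isCharacter_of_isIrr hφ)
  have hd0 : d ≠ 0 := by rintro rfl; exact hφne (by rw [hd, Nat.cast_zero])
  set φL : L → ℂ := φ ∘ e.symm with hφL
  have hφLe : φL ∘ e = φ := by
    funext x
    simp [φL]
  have hcj : ∀ (k : K) (ψ : L → ℂ),
      Clifford.conjBy N k (ψ ∘ e) = Clifford.conjBy L (k : G) ψ ∘ e := fun k ψ => rfl
  have hbk : ∀ ψ : N → ℂ, (ψ ∘ e.symm) ∘ e = ψ := fun ψ => by funext x; simp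
  let T : Subgroup G :=
    { carrier := {g | Clifford.conjBy L g φL = φL}
      one_mem' := Clifford.conjBy_one L φL
      mul_mem' := fun {a b} ha hb => by
        simp only [Set.mem_ofPred_eq] at ha hb ⊢
        rw [← Clifford.conjBy_conjBy, ha, hb]
      inv_mem' := fun {a} ha => by
        simp only [Set.mem_ofPred_eq] at ha ⊢
        conv_lhs => rw [← ha, Clifford.conjBy_conjBy, mul_inv_cancel, Clifford.conjBy_one] }
  have hTmem : ∀ g : G, g ∈ T ↔ Clifford.conjBy L g φL = φL := fun g => Iff.rfl
  -- Frattini argument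
  have hGTK : ∀ g : G, ∃ k : K, g * (k : G)⁻¹ ∈ T := by
    intro g
    have hθinv : Clifford.conjBy L g θL = θL := by
      funext x
      exact hinv g ⟨(x : G), hLK.le x.2⟩
    have hne : Cfsg.classInner θN (Clifford.conjBy L g φL ∘ e) ≠ 0 := by
      rw [← hθLe, Basics.classInner_comp_equiv, ← hθinv, Clifford.classInner_conjBy,
        ← Basics.classInner_comp_equiv e, hθLe, hφLe]
      exact hφne
    have hirr : Cfsg.IsIrrCharacter N (Clifford.conjBy L g φL ∘ e) :=
      Basics.isIrrCharacter_comp_equiv e (Clifford.isIrrCharacter_conjBy L g (htoL φ hφ))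
    obtain ⟨k, hk⟩ := Clifford.exists_conjBy_eq N hϑ hφ hirr hφne hne
    refine ⟨k, ?_⟩
    have h2 : Clifford.conjBy L (k : G) φL = Clifford.conjBy L g φL := by
      funext x
      have := congrFun hk (e.symm x)
      rw [← hφLe, hcj] at this
      simpa using this
    rw [hTmem, ← Clifford.conjBy_conjBy, ← h2, Clifford.conjBy_conjBy, mul_inv_cancel,
      Clifford.conjBy_one]
  have hLT : L ≤ T := by
    intro l hl
    rw [hTmem]
    funext x
    have := char_isClassFunction (isCharacter_of_isIrr (htoL φ hφ)) x ⟨l, hl⟩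
    exact (congrArg φL (Subtype.ext rfl)).trans this
  have hMnorm : (T ⊓ K).Normal := by
    constructor
    intro m hm g
    obtain ⟨k, hk⟩ := hGTK g
    have hcom : (k : G) * m * (k : G)⁻¹ * m⁻¹ ∈ T ⊓ K := by
      have h := hab (Subgroup.commutator_mem_commutator k.2 hm.2)
      rw [commutatorElement_def] at h
      exact ⟨hLT h, hLK.le h⟩
    have h1 : (k : G) * m * (k : G)⁻¹ ∈ T ⊓ K := by
      simpa using (T ⊓ K).mul_mem hcom hm
    refine ⟨?_, hK.conj_mem m hm.2 g⟩
    have h2 : g * m * g⁻¹ =
        g * (k : G)⁻¹ * ((k : G) * m * (k : G)⁻¹) * (g * (k : G)⁻¹)⁻¹ := by group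
    rw [h2]
    exact T.mul_mem (T.mul_mem hk h1.1) (T.inv_mem hk)
  have hres : ∀ n : N, θN n = ϑ n := fun n => rfl
  have hidx : N.index = L.relIndex K := rfl
  rcases hchief (T ⊓ K) hMnorm (le_inf hLT hLK.le) inf_le_right with hM | hM
  · -- the inertia group in `K` is `L`
    right; right
    have hTN : ∀ k : K, k ∈ N ↔ Clifford.conjBy N k φ = φ := by
      intro k
      rw [← hφLe, hcj]
      constructor
      · intro hk
        rw [(hTmem k).1 (hLT hk)]
      · intro hk
        have h2 : (k : G) ∈ T ⊓ K := by
          refine ⟨(hTmem _).2 ?_, k.2⟩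
          funext x
          simpa using congrFun hk (e.symm x)
        rw [hM] at h2
        exact h2
    have hform := Clifford.card_smul_restrict N hϑ hφ hφne N hTN
    rw [show (fun n : N => ϑ n) = θN from rfl, hd] at hform
    have hd1 : d = 1 := by
      have h := congrArg (fun f => Cfsg.classInner f θN) hform
      simp only [classInner_smul_left, classInner_sum_left] at h
      rw [Finset.sum_congr rfl (g := fun _ => (d : ℂ)) (fun x _ => by
        rw [classInner_conj_symm, hθN,
          Clifford.classInner_restrict_conjBy N (char_isClassFunction (isCharacter_of_isIrr hϑ))]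
        rw [show Cfsg.classInner (fun n : N => ϑ n) φ = (d : ℂ) from hd, map_natCast]),
        Finset.sum_const, Finset.card_univ, nsmul_eq_mul, classInner_def,
        mul_inv_cancel_left₀ natCard_ne_zero] at h
      have hall := classInner_isIrr_self hϑ
      rw [classInner_def, inv_mul_eq_one₀ natCard_ne_zero] at hall
      simp only [Complex.mul_conj, ← Complex.ofReal_sum] at h hall
      have h' : ∑ n : N, Complex.normSq (θN n) = (d : ℝ) * (Fintype.card K * d) := by
        exact_mod_cast h
      have hall' : (Nat.card K : ℝ) = ∑ k : K, Complex.normSq (ϑ k) := by exact_mod_cast hall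
      have hle : ∑ n : N, Complex.normSq (θN n) ≤ ∑ k : K, Complex.normSq (ϑ k) := by
        rw [← Finset.sum_subtype (Finset.univ.filter (· ∈ N)) (fun x => by simp)
          (fun k => Complex.normSq (ϑ k))]
        exact Finset.sum_le_univ_sum_of_nonneg fun k => Complex.normSq_nonneg _
      rw [h', ← hall', Nat.card_eq_fintype_card] at hle
      have hle' : d * (Fintype.card K * d) ≤ Fintype.card K := by exact_mod_cast hle
      have hpos : 0 < Fintype.card K := Fintype.card_pos
      have h1 : d * d ≤ 1 := Nat.le_of_mul_le_mul_right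
        (c := Fintype.card K) (by linarith) hpos
      nlinarith [Nat.pos_of_ne_zero hd0]
    rw [hd1, Nat.cast_one, one_smul] at hform
    set f : K → L → ℂ := fun x => Clifford.conjBy L (x : G) φL with hf
    have hfib : ∀ x : K, (Finset.univ.filter fun y => f y = f x).card = Nat.card N := by
      intro x
      have hiff : ∀ y : K, f y = f x ↔ y * x⁻¹ ∈ N := by
        intro y
        rw [hTN, ← hφLe, hcj]
        simp only [f, Subgroup.coe_mul, Subgroup.coe_inv]
        constructor
        · intro h
          rw [← Clifford.conjBy_conjBy, h, Clifford.conjBy_conjBy, mul_inv_cancel,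
            Clifford.conjBy_one]
        · intro h
          have h' : Clifford.conjBy L ((y : G) * (x : G)⁻¹) φL = φL := by
            funext z
            simpa using congrFun h (e.symm z)
          have h'' := congrArg (Clifford.conjBy L (x : G)) h'
          rwa [Clifford.conjBy_conjBy, inv_mul_cancel_right] at h''
      rw [Finset.filter_congr (fun y _ => hiff y), ← Fintype.card_subtype,
        Nat.card_eq_fintype_card]
      exact Fintype.card_congr ((Equiv.mulRight x⁻¹).subtypeEquiv fun y => Iff.rfl)
    refine ⟨Finset.univ.image f, fun ψ hψ => ?_, ?_, ?_⟩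
    · obtain ⟨x, -, rfl⟩ := Finset.mem_image.1 hψ
      exact Clifford.isIrrCharacter_conjBy L (x : G) (htoL φ hφ)
    · have h := Finset.card_eq_sum_card_image f (Finset.univ : Finset K)
      rw [Finset.sum_congr rfl (g := fun _ => Nat.card N) (fun ψ hψ => by
          obtain ⟨x, -, rfl⟩ := Finset.mem_image.1 hψ
          exact hfib x), Finset.sum_const, smul_eq_mul, Finset.card_univ,
        ← Nat.card_eq_fintype_card, ← N.card_mul_index, mul_comm] at h
      rw [← hidx]
      exact (Nat.eq_of_mul_eq_mul_right Nat.card_pos h).symm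
    · apply smul_right_injective (L → ℂ) (natCard_ne_zero (G := N))
      have hL : (Nat.card N : ℂ) • θL = ∑ x : K, f x := by
        funext z
        have := congrFun hform (e.symm z)
        simp only [Pi.smul_apply, Finset.sum_apply, smul_eq_mul] at this ⊢
        rw [← hθLN]
        refine this.trans (Finset.sum_congr rfl fun x _ => ?_)
        rw [← hφLe, hcj]
        simp [f]
      simp only
      rw [hL, Finset.smul_sum, ← Finset.sum_fiberwise_of_maps_to
        (fun x hx => Finset.mem_image_of_mem f hx) f]
      refine Finset.sum_congr rfl fun ψ hψ => ?_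
      rw [Finset.sum_congr rfl (fun y hy => (Finset.mem_filter.1 hy).2), Finset.sum_const,
        ← Nat.cast_smul_eq_nsmul ℂ]
      obtain ⟨x, -, rfl⟩ := Finset.mem_image.1 hψ
      rw [hfib x]
  · -- the constituent is `K`-invariant
    have hinvφ : ∀ k : K, Clifford.conjBy N k φ = φ := by
      intro k
      have hk : (k : G) ∈ T ⊓ K := by rw [hM]; exact k.2
      rw [← hφLe, hcj, (hTmem k).1 hk.1]
    have hmul : θN = (d : ℂ) • φ := by
      rw [← hd]
      exact Clifford.restrict_eq_smul_of_invariant N hϑ hφ hφne hinvφ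
    let U : Subgroup K :=
      { carrier := {k | ∀ f : K →* ℂˣ, (∀ n ∈ N, f n = 1) → (∀ x, ϑ x * f x = ϑ x) → f k = 1}
        one_mem' := fun f _ _ => map_one f
        mul_mem' := fun {a b} ha hb f h1 h2 => by rw [map_mul, ha f h1 h2, hb f h1 h2, mul_one]
        inv_mem' := fun {a} ha f h1 h2 => by rw [map_inv, ha f h1 h2, inv_one] }
    have hUn : (U.map K.subtype).Normal := by
      constructor
      rintro _ ⟨u, hu, rfl⟩ g
      refine ⟨⟨g * u * g⁻¹, hK.conj_mem _ u.2 g⟩, fun f h1 h2 => ?_, rfl⟩
      have h := hu (f.comp (MulAut.conjNormal g : K ≃* K).toMonoidHom) (fun n hn => h1 _ ?_)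
        (fun x => ?_)
      · exact (congrArg f (Subtype.ext (by simp))).trans h
      · rw [hN, Subgroup.mem_subgroupOf] at hn ⊢
        simpa using (inferInstance : L.Normal).conj_mem _ hn g
      · have := h2 (MulAut.conjNormal g x)
        have he : ϑ (MulAut.conjNormal g x) = ϑ x := by
          rw [← hinv g x]
          exact congrArg ϑ (Subtype.ext (by simp))
        rw [he] at this
        exact this
    rcases hchief _ hUn (fun l hl => ⟨⟨l, hLK.le hl⟩, fun f h1 _ => h1 _ hl, rfl⟩)
      (Subgroup.map_subtype_le U) with hU | hU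
    · -- full ramification
      right; left
      have hvan : ∀ k : K, k ∉ N → ϑ k = 0 := by
        intro k hk
        have hku : k ∉ U := fun h => hk (by
          have h2 : (k : G) ∈ U.map K.subtype := ⟨k, h, rfl⟩
          rw [hU] at h2
          exact h2)
        obtain ⟨f, -, h2, hfk⟩ : ∃ f : K →* ℂˣ, (∀ n ∈ N, f n = 1) ∧
            (∀ x, ϑ x * f x = ϑ x) ∧ f k ≠ 1 := by
          by_contra h
          push Not at h
          exact hku h
        by_contra h0
        exact hfk (Units.ext (mul_left_cancel₀ h0 ((h2 k).trans (mul_one _).symm)))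
      obtain ⟨c, hc, hc2⟩ := (Cfsg.Agent.S0900.result N ϑ hϑ φ hφ hφne).1.2
        ⟨hvan, fun k n => congrFun (hinvφ k) n⟩
      refine ⟨φL, c, htoL φ hφ, ?_, hc2⟩
      rw [← hθLN, show θN = (fun n : N => ϑ n) from rfl, hc]
      rfl
    · -- irreducible restriction
      left
      have h1 : Cfsg.classInner θN θN = 1 := by
        refine restrict_norm_one N habK hϑ fun f h1 h2 => MonoidHom.ext fun k => ?_
        have hk : (k : G) ∈ U.map K.subtype := by rw [hU]; exact k.2
        obtain ⟨u, hu, huk⟩ := hk
        rw [show u = k from Subtype.ext huk] at hu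
        exact hu f h1 h2
      rw [← hθLN]
      exact htoL θN (isIrr_of_isCharacter_of_norm_one hθc h1)

end Cfsg.Agent.S0857
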