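import Cfsg.Statements.S0096
import Cfsg.Agent.Lib.Transfer.Special

set_option autoImplicit false
open Cfsg

namespace Cfsg.Agent.S0096

/-- For odd p, in a p-group of class at most two the elements of order dividing p generate a subgroup of exponent dividing p. -/
theorem result {P : Type*} [Group P] [Finite P] {p : ℕ} [Fact p.Prime] (hp : p ≠ 2) (hP : IsPGroup p P) (h2 : ⁅commutator P, (⊤ : Subgroup P)⁆ = ⊥) (g : P) (hg : g ∈ Subgroup.closure {x : P | x ^ p = 1}) : g ^ p = 1 := by
  have hc : commutator P ≤ Subgroup.center P := by
    rw [← Subgroup.centralizer_univ, ← Subgroup.coe_top]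
    exact Subgroup.commutator_eq_bot_iff_le_centralizer.mp h2
  induction hg using Subgroup.closure_induction with
  | mem x hx => exact hx
  | one => exact one_pow p
  | mul a b _ _ iha ihb =>
    rw [Cfsg.Agent.Transfer.Special.mul_pow_of_class_two hp hc a b (by rw [ihb]; exact one_mem _),
      iha, ihb, one_mul]
  | inv a _ iha => rw [inv_pow, iha, inv_one]

end Cfsg.Agent.S0096
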