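import Cfsg.Statements.S0120
import Cfsg.Agent.OddLocal.Coprime

set_option autoImplicit false
open Cfsg

namespace Cfsg.Agent.S0120

/-- For odd p, a p'-automorphism of a p-group acting trivially on the elements of order dividing p is trivial. -/
theorem result {G : Type*} [Group G] [Finite G] {p : ℕ} [Fact p.Prime] (hp : p ≠ 2) (hG : IsPGroup p G) (a : MulAut G) (ha : Nat.Coprime (orderOf a) p) (h : ∀ x : G, x ^ p = 1 → a x = x) : a = 1 := by
  have hcopA : (Nat.card ↥(Subgroup.zpowers a)).Coprime p := by rw [Nat.card_zpowers]; exact ha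
  let φ : ↥(Subgroup.zpowers a) →* MulAut G := (Subgroup.zpowers a).subtype
  let ι : G →* G ⋊[φ] ↥(Subgroup.zpowers a) := SemidirectProduct.inl
  let j : ↥(Subgroup.zpowers a) →* G ⋊[φ] ↥(Subgroup.zpowers a) := SemidirectProduct.inr
  have hle : j.range ≤ Subgroup.normalizer (ι.range : Set _) := by
    have : ι.range.Normal := by
      rw [SemidirectProduct.range_inl_eq_ker_rightHom]; infer_instance
    rw [Subgroup.normalizer_eq_top]
    exact le_top
  have hfin : Finite (G ⋊[φ] ↥(Subgroup.zpowers a)) :=
    Finite.of_equiv _ SemidirectProduct.equivProd.symm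
  have hfix : ∀ b ∈ Subgroup.zpowers a, ∀ x : G, x ^ p = 1 → b x = x := by
    intro b hb x hx
    have : Subgroup.zpowers a ≤ MulAction.stabilizer (MulAut G) x := by
      rw [Subgroup.zpowers_le, MulAction.mem_stabilizer_iff]
      exact h x hx
    exact this hb
  have hP : IsPGroup p ↥ι.range :=
    hG.of_surjective ι.rangeRestrict ι.rangeRestrict_surjective
  have key := Cfsg.Agent.OddLocal.Coprime.le_centralizer_of_fix_order_p hp hP hle
    (by
      rw [MonoidHom.range_eq_map, Subgroup.card_map_of_injective SemidirectProduct.inr_injective,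
        Subgroup.card_top]
      exact hcopA)
    (by
      rintro _ ⟨x, rfl⟩ hx _ ⟨b, rfl⟩
      have hx' : x ^ p = 1 := SemidirectProduct.inl_injective (by rw [map_pow, map_one]; exact hx)
      have hb : φ b x = x := hfix b b.2 x hx'
      have e := SemidirectProduct.inl_aut (φ := φ) b x
      rw [hb, map_inv] at e
      change j b * ι x = ι x * j b
      exact (mul_inv_eq_iff_eq_mul.mp e.symm))
  ext x
  have hj := key ⟨⟨a, Subgroup.mem_zpowers a⟩, rfl⟩ (ι x) ⟨x, rfl⟩
  have e := SemidirectProduct.inl_aut (φ := φ) ⟨a, Subgroup.mem_zpowers a⟩ x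
  rw [map_inv] at e
  exact SemidirectProduct.inl_injective (e.trans (mul_inv_eq_iff_eq_mul.mpr hj.symm))

end Cfsg.Agent.S0120
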