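import Cfsg.Statements.S0121

set_option autoImplicit false
open Cfsg

namespace Cfsg.Agent.S0121

/-- A p'-automorphism of a p-group acting trivially on a critical subgroup is trivial. -/
theorem result {G : Type*} [Group G] [Finite G] {p : ℕ} [Fact p.Prime] (hG : IsPGroup p G) (H : Subgroup G) (hH : H.Characteristic) (h1 : (frattini H).map H.subtype ≤ Subgroup.centralizer (H : Set G)) (h2 : ⁅H, (⊤ : Subgroup G)⁆ ≤ H ⊓ Subgroup.centralizer (H : Set G)) (h3 : Subgroup.centralizer (H : Set G) ≤ H) (a : MulAut G) (ha : Nat.Coprime (orderOf a) p) (h : ∀ x ∈ H, a x = x) : a = 1 := by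
  have hstep : ∀ g : G, g⁻¹ * a g ∈ H := by
    intro g
    refine h3 fun x hx => ?_
    have hc : g * x * g⁻¹ ∈ H := (inferInstance : H.Normal).conj_mem x hx g
    have e := h _ hc
    rw [map_mul, map_mul, map_inv, h x hx] at e
    calc x * (g⁻¹ * a g) = g⁻¹ * (g * x * g⁻¹) * a g := by group
      _ = g⁻¹ * (a g * x * (a g)⁻¹) * a g := by rw [e]
      _ = g⁻¹ * a g * x := by group
  ext g
  have hfix := h _ (hstep g)
  have hpow : ∀ m : ℕ, (a ^ m) g = g * (g⁻¹ * a g) ^ m := by
    intro m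
    induction m with
    | zero => simp
    | succ m ih =>
      rw [pow_succ', MulAut.mul_apply, ih, map_mul, map_pow, hfix, pow_succ', ← mul_assoc g,
        mul_inv_cancel_left]
  have h1 := hpow (orderOf a)
  rw [pow_orderOf_eq_one, MulAut.one_apply, left_eq_mul] at h1
  obtain ⟨k, hk⟩ := IsPGroup.iff_orderOf.mp hG (g⁻¹ * a g)
  have h2 : orderOf (g⁻¹ * a g) = 1 :=
    Nat.eq_one_of_dvd_coprimes (Nat.Coprime.pow_right k ha) (orderOf_dvd_of_pow_eq_one h1)
      (hk ▸ dvd_rfl)
  rw [orderOf_eq_one_iff, inv_mul_eq_one] at h2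
  exact h2.symm

end Cfsg.Agent.S0121
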