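import Cfsg.Statements.S1460
import Cfsg.Agent.Lib.Coprime.SchurZassenhaus

set_option autoImplicit false
open Cfsg

namespace Cfsg.Agent.S1460

open scoped Pointwise

/-- Let G be a finite solvable group, K a normal subgroup and U a subgroup with G = KU, and H ≤ U a subgroup whose order is coprime to that of K. Then H ∩ G' = H ∩ U'; N_G(H) is generated by K ∩ C_G(H) and U ∩ N_G(H); and if gHg⁻¹ ≤ U for some g ∈ G then g = u c with u ∈ U and c ∈ K ∩ C_G(H). -/
theorem result {G : Type*} [Group G] [Finite G] [Group.IsSolvable G] (K U H : Subgroup G) [K.Normal] (hKU : K ⊔ U = ⊤) (hH : H ≤ U) (hcop : (Nat.card H).Coprime (Nat.card K)) :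
    H ⊓ commutator G = H ⊓ ⁅U, U⁆ ∧
      Subgroup.normalizer (H : Set G) = (K ⊓ Subgroup.centralizer (H : Set G)) ⊔ (U ⊓ Subgroup.normalizer (H : Set G)) ∧
      ∀ g : G, H.map (MulAut.conj g).toMonoidHom ≤ U → ∃ u ∈ U, ∃ c ∈ K ⊓ Subgroup.centralizer (H : Set G), g = u * c := by
  have hKH : H ≤ Subgroup.normalizer (K : Set G) := Subgroup.le_normalizer_of_normal
  have hsup : K ⊔ U = ⊤ := hKU
  have part3 : ∀ g : G, H.map (MulAut.conj g).toMonoidHom ≤ U →
      ∃ u ∈ U, ∃ c ∈ K ⊓ Subgroup.centralizer (H : Set G), g = u * c := by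
    intro g hg
    obtain ⟨u, hu, k, hk, rfl⟩ :=
      Subgroup.mem_sup_of_normal_right.mp (show g ∈ U ⊔ K by rw [sup_comm, hsup]; trivial)
    set D := K ⊓ U with hD
    have hUD : U ≤ Subgroup.normalizer (D : Set G) := by
      refine le_trans (le_inf ?_ Subgroup.le_normalizer) Subgroup.inf_normalizer_le_normalizer_inf
      exact Subgroup.le_normalizer_of_normal
    have hHk : ∀ h ∈ H, k * h * k⁻¹ ∈ U := by
      intro h hh
      have h1 : u * k * h * (u * k)⁻¹ ∈ U := hg ⟨h, hh, rfl⟩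
      have e : k * h * k⁻¹ = u⁻¹ * (u * k * h * (u * k)⁻¹) * u := by group
      rw [e]; exact mul_mem (mul_mem (inv_mem hu) h1) hu
    have hrel : ∀ h ∈ H, k * h * k⁻¹ * h⁻¹ ∈ D := fun h hh =>
      ⟨by
        have e : k * h * k⁻¹ * h⁻¹ = k * (h * k⁻¹ * h⁻¹) := by group
        rw [e]; exact mul_mem hk ((inferInstance : K.Normal).conj_mem _ (inv_mem hk) h),
       Subgroup.mul_mem U (hHk h hh) (inv_mem (hH hh))⟩
    set H' := MulAut.conj k • H with hH'
    have hH'U : H' ≤ U := by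
      rintro _ ⟨h, hh, rfl⟩; exact hHk h hh
    have heq : D ⊔ H = D ⊔ H' := by
      refine le_antisymm (sup_le le_sup_left ?_) (sup_le le_sup_left ?_)
      · intro h hh
        have e : h = (k * h * k⁻¹ * h⁻¹)⁻¹ * (k * h * k⁻¹) := by group
        rw [e]
        exact Subgroup.mul_mem_sup (inv_mem (hrel h hh)) ⟨h, hh, rfl⟩
      · rintro _ ⟨h, hh, rfl⟩
        show k * h * k⁻¹ ∈ D ⊔ H
        have e : k * h * k⁻¹ = (k * h * k⁻¹ * h⁻¹) * h := by group
        rw [e]
        exact Subgroup.mul_mem_sup (hrel h hh) hh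
    have hcD : (Nat.card D).Coprime (Nat.card H) :=
      hcop.symm.coprime_dvd_left (Subgroup.card_dvd_of_le inf_le_left)
    obtain ⟨d, hd, hdH⟩ := Cfsg.Agent.Coprime.exists_conj_eq_of_sup_eq (hH.trans hUD) (hH'U.trans hUD)
      heq hcD (by rw [hH', Cfsg.Agent.Coprime.card_conj_smul]; exact hcD) (Or.inl inferInstance)
    refine ⟨u * d, mul_mem hu hd.2, d⁻¹ * k, ?_, by group⟩
    have hck : d⁻¹ * k ∈ K := mul_mem (inv_mem hd.1) hk
    refine ⟨hck, (?_ : d⁻¹ * k ∈ Subgroup.centralizer (H : Set G))⟩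
    have hnorm : ∀ h ∈ H, (d⁻¹ * k) * h * (d⁻¹ * k)⁻¹ ∈ H := by
      intro h hh
      have h1 : k * h * k⁻¹ ∈ H' := Cfsg.Agent.Coprime.conj_mem_conj_smul hh
      rw [← hdH, Cfsg.Agent.Coprime.mem_conj_smul] at h1
      have e : (d⁻¹ * k) * h * (d⁻¹ * k)⁻¹ = d⁻¹ * (k * h * k⁻¹) * d := by group
      rw [e]; exact h1
    rw [Subgroup.mem_centralizer_iff]
    intro h hh
    set c := d⁻¹ * k with hc
    have h1 : c * h * c⁻¹ * h⁻¹ ∈ K ⊓ H := by
      refine ⟨?_, Subgroup.mul_mem H (hnorm h hh) (inv_mem hh)⟩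
      have e : c * h * c⁻¹ * h⁻¹ = c * (h * c⁻¹ * h⁻¹) := by group
      rw [e]; exact mul_mem hck ((inferInstance : K.Normal).conj_mem _ (inv_mem hck) h)
    rw [(Subgroup.disjoint_of_coprime_natCard hcop.symm).eq_bot, Subgroup.mem_bot] at h1
    exact (mul_inv_eq_iff_eq_mul.mp (mul_inv_eq_one.mp h1)).symm
  refine ⟨?_, ?_, part3⟩
  · refine le_antisymm ?_ (le_inf (inf_le_left) (le_trans inf_le_right ?_))
    · intro x hx
      have hxH : x ∈ H := hx.1
      refine ⟨hxH, ?_⟩
      set f := QuotientGroup.mk' K with hf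
      have hmap : (commutator G).map f = ⁅U, U⁆.map f := by
        rw [commutator_def, Subgroup.map_commutator, Subgroup.map_commutator]
        congr 1 <;>
        · rw [← hKU, Subgroup.map_sup, (Subgroup.map_eq_bot_iff K).mpr (QuotientGroup.ker_mk' K).ge,
            bot_sup_eq]
      obtain ⟨w, hw, hwx⟩ : f x ∈ ⁅U, U⁆.map f := hmap ▸ Subgroup.mem_map_of_mem f hx.2
      have hd : w⁻¹ * x ∈ K := QuotientGroup.eq.mp hwx
      have hwU : w ∈ U := U.commutator_le_self hw
      have hxU : x ∈ U := hH hxH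
      let q : U →* Abelianization U := Abelianization.of
      have h1 : q ⟨x, hxU⟩ = q ⟨w⁻¹ * x, mul_mem (inv_mem hwU) hxU⟩ := by
        have hw1 : q ⟨w, hwU⟩ = 1 := by
          refine (QuotientGroup.eq_one_iff _).mpr ?_
          have : (⟨w, hwU⟩ : U) ∈ (⁅U, U⁆ : Subgroup G).subgroupOf U := hw
          rwa [← Subgroup.map_subtype_commutator, Subgroup.subgroupOf,
            Subgroup.comap_map_eq_self_of_injective U.subtype_injective] at this
        have e : (⟨w⁻¹ * x, mul_mem (inv_mem hwU) hxU⟩ : U) = ⟨w, hwU⟩⁻¹ * ⟨x, hxU⟩ := rfl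
        rw [e, map_mul, map_inv, hw1, inv_one, one_mul]
      have h2 : orderOf (q ⟨x, hxU⟩) = 1 := by
        refine Nat.eq_one_of_dvd_coprimes hcop
          ((orderOf_map_dvd q _).trans ?_) (h1 ▸ (orderOf_map_dvd q _).trans ?_)
        · rw [Subgroup.orderOf_mk]; exact Subgroup.orderOf_dvd_natCard H hxH
        · rw [Subgroup.orderOf_mk]; exact Subgroup.orderOf_dvd_natCard K hd
      have h3 := (QuotientGroup.eq_one_iff (N := commutator U) (⟨x, hxU⟩ : U)).mp (orderOf_eq_one_iff.mp h2)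
      rw [← Subgroup.map_subtype_commutator]
      exact ⟨⟨x, hxU⟩, h3, rfl⟩
    · rw [commutator_def]; exact Subgroup.commutator_mono le_top le_top
  · refine le_antisymm ?_ (sup_le ?_ inf_le_right)
    · intro g hg
      have hg' : H.map (MulAut.conj g).toMonoidHom ≤ U :=
        (Subgroup.mem_normalizer_iff_map_conj_eq.mp hg).le.trans hH
      obtain ⟨u, hu, c, hc, rfl⟩ := part3 g hg'
      refine mul_mem (Subgroup.mem_sup_right ⟨hu, ?_⟩) (Subgroup.mem_sup_left hc)
      have hcn : c ∈ Subgroup.normalizer (H : Set G) := Subgroup.centralizer_le_normalizer _ hc.2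
      exact (mul_mem_cancel_right hcn).mp hg
    · exact inf_le_right.trans (Subgroup.centralizer_le_normalizer _)

end Cfsg.Agent.S1460
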