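import Cfsg.Statements.S0007
-- import your own Cfsg.Agent.* helpers here

set_option autoImplicit false
open Cfsg

namespace Cfsg.Agent.S0007

/-- Subgroups of coprime index: the intersection has index equal to the product of the indices, and every element is a product of an element of the first subgroup and an element of the second. -/
theorem result {G : Type*} [Group G] [Finite G] (H K : Subgroup G)
    (h : H.index.Coprime K.index) :
    (H ⊓ K).index = H.index * K.index ∧ ∀ g : G, ∃ x ∈ H, ∃ y ∈ K, g = x * y := by
  have hidx : (H ⊓ K).index = H.index * K.index := by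
    refine le_antisymm Subgroup.index_inf_le ?_
    apply Nat.le_of_dvd (Nat.pos_of_ne_zero Subgroup.index_ne_zero_of_finite)
    exact h.mul_dvd_of_dvd_of_dvd (Subgroup.index_dvd_of_le inf_le_left) (Subgroup.index_dvd_of_le inf_le_right)
  refine ⟨hidx, fun g => ?_⟩
  have h1 : K.relIndex H = K.index := by
    have := Subgroup.relIndex_mul_index (inf_le_left : H ⊓ K ≤ H)
    rw [hidx, Subgroup.inf_relIndex_left] at this
    have hH : 0 < H.index := Nat.pos_of_ne_zero Subgroup.index_ne_zero_of_finite
    rw [mul_comm H.index] at this
    exact Nat.eq_of_mul_eq_mul_right hH this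
  let f : H ⧸ K.subgroupOf H → G ⧸ K := Quotient.map' (↑) (fun a b hab => by
    simp only [QuotientGroup.leftRel_apply, Subgroup.mem_subgroupOf] at hab ⊢
    simpa using hab)
  have hf : Function.Bijective f := by
    rw [Nat.bijective_iff_injective_and_card]
    refine ⟨?_, h1⟩
    intro a b
    induction a using QuotientGroup.induction_on
    induction b using QuotientGroup.induction_on
    intro hab
    exact QuotientGroup.eq.mpr (by simpa [f, Subgroup.mem_subgroupOf] using QuotientGroup.eq.mp hab)
  obtain ⟨a, ha⟩ := hf.2 (g : G ⧸ K)
  induction a using QuotientGroup.induction_on with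
  | _ x =>
    refine ⟨x, x.2, (x:G)⁻¹ * g, QuotientGroup.eq.mp ha, by simp⟩

end Cfsg.Agent.S0007
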