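import Cfsg.Statements.S1445
import Cfsg.Agent.OddLocal.FPFFitting
-- import your own Cfsg.Agent.* helpers here

set_option autoImplicit false
open Cfsg

namespace Cfsg.Agent.S1445

/-- Let G be a solvable group of odd order, K a normal subgroup and R a subgroup with G = KR and the orders of K and R coprime. Suppose K ∩ C_G(x) = K ∩ C_G(R) for every non-identity x ∈ R, and F(K) ∩ C_G(R) = 1. Then [K, R] is contained in the Fitting subgroup of K. -/
theorem result {G : Type*} [Group G] [Finite G] [Group.IsSolvable G] (hodd : Odd (Nat.card G)) (K R : Subgroup G) [K.Normal] (hKR : K ⊔ R = ⊤) (hcop : (Nat.card K).Coprime (Nat.card R))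
    (hprime : ∀ x ∈ R, x ≠ 1 → K ⊓ Subgroup.centralizer ({x} : Set G) = (K ⊓ Subgroup.centralizer (R : Set G)))
    (hF : Cfsg.fittingOf K ⊓ Subgroup.centralizer (R : Set G) = ⊥) :
    ⁅K, R⁆ ≤ Cfsg.fittingOf K := by
  classical
  by_cases hR : R = ⊥
  · rw [hR, Subgroup.commutator_bot_right]; exact bot_le
  have hRn : Nat.card R ≠ 1 := fun e => hR (Subgroup.card_eq_one.mp e)
  obtain ⟨r, hr, hrd⟩ := Nat.exists_prime_and_dvd hRn
  have := Fact.mk hr
  obtain ⟨x, hxo⟩ := exists_prime_orderOf_dvd_card' (G := R) r hrd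
  set X := Subgroup.zpowers (x : G) with hX
  have hXR : X ≤ R := Subgroup.zpowers_le.mpr x.2
  have hx1 : (x : G) ≠ 1 := fun e => hr.ne_one (by rw [← hxo, ← Subgroup.orderOf_coe, e, orderOf_one])
  have hXc : Nat.card X = r := by rw [hX, Nat.card_zpowers, Subgroup.orderOf_coe, hxo]
  have hCX : K ⊓ Subgroup.centralizer (X : Set G) = K ⊓ Subgroup.centralizer (R : Set G) := by
    rw [← hprime x x.2 hx1, hX, Subgroup.zpowers_eq_closure, Subgroup.centralizer_closure]
  have hFK : Cfsg.fittingOf K ≤ K := Subgroup.map_subtype_le _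
  have hFX : Cfsg.fittingOf K ⊓ Subgroup.centralizer (X : Set G) = ⊥ := by
    rw [← hF, ← inf_eq_left.mpr hFK, inf_assoc, hCX, ← inf_assoc]
  have hcop' := hcop.coprime_dvd_right (Subgroup.card_dvd_of_le hXR)
  have h1 := OddLocal.FPFFitting.commutator_le_fittingOf (K := K) (X := X) inferInstance
    (hodd.of_dvd_nat (Subgroup.card_subgroup_dvd_card K)) hXc hr hcop' hFX
  have := OddLocal.FPFFitting.fittingOf_normal (K := K)
  refine le_trans (Coprime.commutator_le_of_forall_eq_mul (X := Cfsg.fittingOf K) fun k hk => ?_)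
    (Subgroup.commutator_le_left _ _)
  obtain ⟨c, hc, u, hu, rfl⟩ := Coprime.exists_eq_centralizer_mul_commutator (A := X) (K := K)
    Subgroup.le_normalizer_of_normal hcop'.symm (Or.inr inferInstance) hk
  rw [hCX] at hc
  exact ⟨c * u * c⁻¹, (inferInstance : (Cfsg.fittingOf K).Normal).conj_mem u (h1 hu) c, c,
    (Subgroup.mem_inf.mp hc).2, by group⟩

end Cfsg.Agent.S1445
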