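import Cfsg.Statements.S1446
import Cfsg.Agent.OddLocal.FrobeniusNilpotent
-- import your own Cfsg.Agent.* helpers here

set_option autoImplicit false
open Cfsg

namespace Cfsg.Agent.S1446

/-- Let X be a finite group with subgroups K, R, M such that: K and R are nontrivial, K ∩ R = 1, R normalizes K, no non-identity element of R centralizes a non-identity element of K, K ⊔ R is solvable of odd order; M is nilpotent and nontrivial, normalized by K and by R, with order coprime to that of K ⊔ R, M ∩ C(K) = 1, and M ∩ C(x) = M ∩ C(R) for all non-identity x ∈ R. Then R has prime order p, #M = #(M ∩ C(R)) ^ p, and if M ∩ C(R) is cyclic then [K, K] centralizes M. -/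
theorem result {X : Type*} [Group X] [Finite X] (K R M : Subgroup X) (hK1 : K ≠ ⊥) (hR1 : R ≠ ⊥) (hKR : K ⊓ R = ⊥)
    (hRK : R ≤ Subgroup.normalizer (K : Set X)) (hfrob : ∀ r ∈ R, r ≠ 1 → K ⊓ Subgroup.centralizer ({r} : Set X) = ⊥)
    (hsolv : Group.IsSolvable ↥(K ⊔ R)) (hodd : Odd (Nat.card ↥(K ⊔ R)))
    (hM1 : M ≠ ⊥) (hMn : Group.IsNilpotent M) (hKM : K ≤ Subgroup.normalizer (M : Set X)) (hRM : R ≤ Subgroup.normalizer (M : Set X))
    (hcop : (Nat.card ↥(K ⊔ R)).Coprime (Nat.card M)) (hCK : M ⊓ Subgroup.centralizer (K : Set X) = ⊥)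
    (hpr : ∀ x ∈ R, x ≠ 1 → M ⊓ Subgroup.centralizer ({x} : Set X) = M ⊓ Subgroup.centralizer (R : Set X)) :
    (Nat.card R).Prime ∧ Nat.card M = Nat.card ↥(M ⊓ Subgroup.centralizer (R : Set X)) ^ Nat.card R ∧
      (IsCyclic ↥(M ⊓ Subgroup.centralizer (R : Set X)) → ⁅K, K⁆ ≤ Subgroup.centralizer (M : Set X)) := by
  classical
  have hfpf : ∀ a ∈ R, a ≠ 1 → ∀ u ∈ K, a * u = u * a → u = 1 := fun a ha ha1 u hu e => by
    have hm : u ∈ K ⊓ Subgroup.centralizer ({a} : Set X) :=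
      Subgroup.mem_inf.mpr ⟨hu, Subgroup.mem_centralizer_singleton_iff.mpr e.symm⟩
    rwa [hfrob a ha ha1, Subgroup.mem_bot] at hm
  have hcard : Nat.card ↥(K ⊔ R) = Nat.card K * Nat.card R :=
    Coprime.card_sup_of_disjoint hRK (disjoint_iff.mpr hKR)
  rw [hcard] at hcop
  have := hMn
  have hH : ∀ R₀ : Subgroup X, R₀ ≤ R → OddLocal.FrobeniusFormula.Hyp M K R₀ := fun R₀ h₀ =>
    ⟨h₀.trans hRK, fun a ha => hfpf a (h₀ ha), hKM, h₀.trans hRM, inferInstance,
      hcop.symm.coprime_dvd_right (Nat.mul_dvd_mul_left _ (Subgroup.card_dvd_of_le h₀))⟩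
  have hform : ∀ R₀ : Subgroup X, R₀ ≤ R → R₀ ≠ ⊥ →
      Nat.card M = Nat.card ↥(M ⊓ Subgroup.centralizer (R : Set X)) ^ Nat.card R₀ := by
    intro R₀ h₀ hne
    have h1 := OddLocal.FrobeniusFormula.formula (hH R₀ h₀)
    unfold OddLocal.FrobeniusFormula.Formula at h1
    rw [OddLocal.FrobeniusFormula.centralizer_sup, ← inf_assoc, hCK, bot_inf_eq, Subgroup.card_bot, one_pow,
      one_mul, mul_one] at h1
    obtain ⟨x, hx, hx1⟩ := (Subgroup.bot_or_exists_ne_one _).resolve_left hne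
    have e : M ⊓ Subgroup.centralizer (R₀ : Set X) = M ⊓ Subgroup.centralizer (R : Set X) := by
      refine le_antisymm ?_ (inf_le_inf_left _ (Subgroup.centralizer_le h₀))
      rw [← hpr x (h₀ hx) hx1]
      exact inf_le_inf_left _ (Subgroup.centralizer_le (Set.singleton_subset_iff.mpr hx))
    rw [h1, e]
  have hM' := hform R le_rfl hR1
  have hW : 1 < Nat.card ↥(M ⊓ Subgroup.centralizer (R : Set X)) := by
    refine (Subgroup.one_lt_card_iff_ne_bot _).mpr fun e => hM1 (Subgroup.card_eq_one.mp ?_)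
    rw [hM', e, Subgroup.card_bot, one_pow]
  refine ⟨?_, hM', fun hcyc => OddLocal.FrobeniusNilpotent.commutator_le_centralizer (hH R le_rfl) hR1 hMn hCK hcyc⟩
  obtain ⟨r, hr, hrd⟩ := Nat.exists_prime_and_dvd ((Subgroup.one_lt_card_iff_ne_bot _).mpr hR1).ne'
  have := Fact.mk hr
  obtain ⟨x, hx⟩ := exists_prime_orderOf_dvd_card' (G := R) r hrd
  have hxc : Nat.card (Subgroup.zpowers (x : X)) = r := by rw [Nat.card_zpowers, Subgroup.orderOf_coe, hx]
  have h1 := hform (Subgroup.zpowers (x : X)) (Subgroup.zpowers_le.mpr x.2) (fun e => hr.ne_one (by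
    rw [← hxc, e, Subgroup.card_bot]))
  rw [hxc, hM'] at h1
  rw [Nat.pow_right_injective hW h1]
  exact hr

end Cfsg.Agent.S1446
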