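import Cfsg.Statements.S1443
import Cfsg.Agent.OddLocal.Coprime

set_option autoImplicit false
open Cfsg

namespace Cfsg.Agent.S1443

/-- Let G be a finite group, p an odd prime, H a p-subgroup, E an elementary abelian subgroup of H, and A a subgroup of order coprime to p normalizing H. If A centralizes every element of order p in H ∩ C_G(E), then A centralizes H. -/
theorem result {G : Type*} [Group G] [Finite G] (p : ℕ) [Fact p.Prime] (hp : p ≠ 2) (H E A : Subgroup G) (hH : IsPGroup p H) (hE : E ≤ H) (hEe : Cfsg.IsElementaryAbelian p E)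
    (hA : (A ≤ Subgroup.normalizer (H : Set G))) (hcop : (Nat.card A).Coprime p)
    (hfix : ∀ x ∈ (H ⊓ Subgroup.centralizer (E : Set G)), orderOf x = p → A ≤ Subgroup.centralizer ({x} : Set G)) :
    A ≤ Subgroup.centralizer (H : Set G) := by
  have hEC : ∀ x ∈ E, x ∈ H ⊓ Subgroup.centralizer (E : Set G) := fun x hx =>
    ⟨hE hx, Subgroup.mem_centralizer_iff.mpr fun y hy =>
      haveI := hEe.1
      Subgroup.mul_comm_of_mem_isMulCommutative E hy hx⟩
  have hkey : ∀ x ∈ H ⊓ Subgroup.centralizer (E : Set G), x ^ p = 1 → ∀ a ∈ A, a * x = x * a := by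
    intro x hx hxp a ha
    rcases eq_or_ne x 1 with rfl | hx1
    · simp
    · exact (Subgroup.mem_centralizer_singleton_iff.mp (hfix x hx (orderOf_eq_prime hxp hx1) ha))
  have hAE : A ≤ Subgroup.centralizer (E : Set G) := fun a ha =>
    Subgroup.mem_centralizer_iff.mpr fun x hx => (hkey x (hEC x hx) (hEe.2 x hx) a ha).symm
  have hAC : A ≤ Subgroup.normalizer ((H ⊓ Subgroup.centralizer (E : Set G) : Subgroup G) : Set G) := by
    intro a ha
    apply Subgroup.mem_normalizer_fintype (S := ((H ⊓ Subgroup.centralizer (E : Set G) : Subgroup G) : Set G))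
    intro x hx
    refine ⟨(Subgroup.mem_normalizer_iff.mp (hA ha) x).mp hx.1, ?_⟩
    have hac : a ∈ Subgroup.centralizer (E : Set G) := hAE ha
    exact Subgroup.mul_mem _ (Subgroup.mul_mem _ hac hx.2) (Subgroup.inv_mem _ hac)
  have hCA : A ≤ Subgroup.centralizer ((H ⊓ Subgroup.centralizer (E : Set G) : Subgroup G) : Set G) :=
    OddLocal.Coprime.le_centralizer_of_fix_order_p hp (hH.to_le inf_le_left) hAC hcop hkey
  exact Cfsg.Agent.Coprime.le_centralizer_of_pxq (hH.to_le hE) hcop hH
    (Subgroup.le_centralizer_iff.mp hAE) (hE.trans Subgroup.le_normalizer) hA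
    (Subgroup.le_centralizer_iff.mp hCA)

end Cfsg.Agent.S1443
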