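import Cfsg.Statements.S1407
import Cfsg.Agent.OddLocal.SigmaRank
-- import your own Cfsg.Agent.* helpers here

set_option autoImplicit false
open Cfsg

namespace Cfsg.Agent.S1407

/-- Let G be a minimal simple group of odd order, M a maximal subgroup with M_α ≠ 1, p a prime dividing the order of M but not in σ(M), and P a Sylow p-subgroup of M. Then there is an element x of order p in the centre of P such that M_α ∩ C_G(x) has all Sylow subgroups cyclic and M is not the unique maximal subgroup of G containing C_G(x). -/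
theorem result {G : Type*} [Group G] [Finite G] (hG : Cfsg.IsMinSimpleOddOrder G)
    (M : Subgroup G) (hM : IsCoatom M) (hMα : Cfsg.alphaCore M ≠ ⊥) (p : ℕ) [Fact p.Prime] (hpM : p ∣ Nat.card M) (hp : p ∉ Cfsg.sigma M) (P : Sylow p M) :
    ∃ x : G, x ∈ ((Subgroup.center ↥(P : Subgroup M)).map (P : Subgroup M).subtype).map M.subtype ∧ orderOf x = p ∧
        IsZGroup ↥(Cfsg.alphaCore M ⊓ Subgroup.centralizer ({x} : Set G)) ∧
        ¬ (Subgroup.centralizer ({x} : Set G) ≤ M ∧ ∀ L : Subgroup G, IsCoatom L → Subgroup.centralizer ({x} : Set G) ≤ L → L = M) := by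
  have hpp : p.Prime := Fact.out
  set T := (P : Subgroup M).map M.subtype with hT
  have hTM : T ≤ M := Subgroup.map_subtype_le _
  have hmem : ∀ x : G, x ∈ ((Subgroup.center ↥(P : Subgroup M)).map (P : Subgroup M).subtype).map M.subtype ↔
      x ∈ T ∧ x ∈ Subgroup.centralizer (T : Set G) := by
    intro x
    constructor
    · rintro ⟨y, hy, rfl⟩
      obtain ⟨hyP, hyC⟩ := OddLocal.Sigma.map_subtype_center.mp hy
      refine ⟨⟨y, hyP, rfl⟩, Subgroup.mem_centralizer_iff.mpr ?_⟩
      rintro _ ⟨h, hh, rfl⟩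
      exact congrArg Subtype.val (Subgroup.mem_centralizer_iff.mp hyC h hh)
    · rintro ⟨⟨y, hy, rfl⟩, hc⟩
      refine ⟨y, OddLocal.Sigma.map_subtype_center.mpr ⟨hy, Subgroup.mem_centralizer_iff.mpr fun h hh => ?_⟩, rfl⟩
      exact Subtype.ext (Subgroup.mem_centralizer_iff.mp hc (h : G) ⟨h, hh, rfl⟩)
  by_contra hcon
  have key : ∀ x : G, x ∈ T → x ∈ Subgroup.centralizer (T : Set G) → orderOf x = p →
      Subgroup.centralizer ({x} : Set G) ≤ M ∧
        ∀ L : Subgroup G, IsCoatom L → Subgroup.centralizer ({x} : Set G) ≤ L → L = M := by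
    intro x hxT hxC hxo
    by_contra hnot
    refine hcon ⟨x, (hmem x).mpr ⟨hxT, hxC⟩, hxo, ?_, hnot⟩
    have hxM := hTM hxT
    have hset : Subgroup.centralizer (Subgroup.zpowers x : Set G) = Subgroup.centralizer ({x} : Set G) := by
      rw [Subgroup.zpowers_eq_closure, Subgroup.centralizer_closure]
    by_contra hz
    have hr : ¬ RankLE 1 ↥(alphaCore M ⊓ Subgroup.centralizer ({x} : Set G)) := by
      simp only [isZGroup_iff, not_forall] at hz
      obtain ⟨q, hq, S, hS⟩ := hz
      have := Fact.mk hq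
      have hqd : q ∣ Nat.card (alphaCore M) := by
        have hne : (S : Subgroup ↥(alphaCore M ⊓ Subgroup.centralizer ({x} : Set G))) ≠ ⊥ := fun e =>
          hS (by rw [e]; infer_instance)
        obtain ⟨k, hk⟩ := S.isPGroup'.exists_card_eq
        refine ((dvd_pow_self q fun e => hne (Subgroup.eq_bot_of_card_eq _ (by rw [hk, e, pow_zero]))).trans
          ((hk ▸ Subgroup.card_subgroup_dvd_card _) : q ^ k ∣ _)).trans (Subgroup.card_dvd_of_le inf_le_left)
      intro h
      exact OddLocal.Unique.not_pRankLE_one_of_not_isCyclic (OddLocal.Unique.ne_two hG hqd) S.isPGroup' hS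
        (OddLocal.RankTwoFitting.pRankLE_of_le (h q hq))
    have hU := OddLocal.Sigma.unique_inf_centralizer hG hM (X := Subgroup.zpowers x)
      (Subgroup.zpowers_le.mpr hxM) (fun q hq hd hqα => hp ?_) (by rwa [hset])
    · rw [hset] at hU
      have hx1 : x ≠ 1 := fun e => hpp.ne_one (by rw [← hxo, e, orderOf_one])
      have hCtop := OddLocal.Transitivity.centralizer_ne_top hG (s := ({x} : Set G)) rfl hx1
      refine hnot ⟨OddLocal.Unique.le_max hU hM inf_le_left hCtop inf_le_right, fun L hL hCL => ?_⟩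
      exact hU.unique ⟨hL, inf_le_right.trans hCL⟩ ⟨hM, inf_le_left⟩
    · rw [Nat.card_zpowers, hxo, Nat.prime_dvd_prime_iff_eq hq hpp] at hd
      exact hd ▸ OddLocal.Sigma.alpha_subset_sigma hG hM hqα
  refine OddLocal.Sigma.normalizer_sylow_not_le hp hpM P fun g hg => ?_
  obtain ⟨x, hxT, hxC, hxo⟩ := OddLocal.Sigma.exists_central_order p hpM P
  have h1 := key (g * x * g⁻¹) ((Subgroup.mem_normalizer_iff.mp hg x).mp hxT)
    (OddLocal.Sigma.centralizer_conj hg hxC)
    ((orderOf_injective (MulAut.conj g).toMonoidHom (MulAut.conj g).injective x).trans hxo)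
  have h2 : M.map (MulAut.conj g).toMonoidHom = M := by
    refine h1.2 _ (OddLocal.Unique.isCoatom_map_conj hM g) fun y hy => ?_
    refine Transfer.Fusion.mem_map_conj.mpr ((key x hxT hxC hxo).1 (Subgroup.mem_centralizer_singleton_iff.mpr ?_))
    have := Subgroup.mem_centralizer_singleton_iff.mp hy
    calc g⁻¹ * y * g * x = g⁻¹ * (y * (g * x * g⁻¹)) * g := by group
      _ = g⁻¹ * (g * x * g⁻¹ * y) * g := by rw [this]
      _ = x * (g⁻¹ * y * g) := by group
  have h3 := Transfer.Fusion.map_conj_eq_self_iff.mp h2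
  rwa [OddLocal.Sigma.normalizer_eq_self hG hM] at h3

end Cfsg.Agent.S1407
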