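import Cfsg.Statements.S1450
import Cfsg.Agent.OddLocal.RankTwoSolvable
-- import your own Cfsg.Agent.* helpers here

set_option autoImplicit false
open Cfsg

namespace Cfsg.Agent.S1450

open Subgroup in
theorem complement_of_index {H : Type*} [Group H] [Finite H] {p : ℕ} [Fact p.Prime] {n : ℕ}
    (hn : (Cfsg.pPrimeCore p H).index = p ^ n) :
    Cfsg.HasNormalPComplement p H ∧
      ∀ L : Subgroup H, (Nat.card L).Coprime p → L ≤ Cfsg.pPrimeCore p H := by
  set N := Cfsg.pPrimeCore p H
  have hc : (Nat.card N).Coprime p := Cores.pPrimeCore_card_coprime p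
  obtain ⟨P⟩ := (inferInstance : Nonempty (Sylow p H))
  have hP : Nat.card (P : Subgroup H) = p ^ n := by
    rw [P.card_eq_multiplicity, ← N.card_mul_index, hn,
      Nat.factorization_mul Nat.card_pos.ne' (pow_ne_zero n (Fact.out : p.Prime).ne_zero)]
    simp [Nat.factorization_eq_zero_of_not_dvd
      (((Fact.out : p.Prime).coprime_iff_not_dvd).mp hc.symm), (Fact.out : p.Prime).factorization_pow]
  refine ⟨⟨P, N, inferInstance, isComplement'_of_coprime ?_ ?_⟩, fun L hL x hx => ?_⟩
  · rw [hP, ← hn, N.card_mul_index]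
  · rw [hP]; exact hc.pow_right n
  · refine (QuotientGroup.eq_one_iff x).mp (orderOf_eq_one_iff.mp ?_)
    refine Nat.eq_one_of_dvd_coprimes (hL.pow_right n) ((orderOf_map_dvd (QuotientGroup.mk' N) x).trans
      (L.orderOf_dvd_natCard hx)) ?_
    rw [← hn]
    exact orderOf_dvd_natCard _

/-- Let G be a solvable group of odd order, p a prime dividing its order with G having no elementary abelian subgroup of order p ^ 3. Then every prime dividing the index of O_{p'}(G) is at most p; if p = 3 or p is the smallest prime divisor of #G then G has a normal p-complement; the derived subgroup G' has a normal p-complement; every subgroup of G' of order coprime to p lies in O_{p'}(G'); and G/O_{p',p}(G) is abelian of order coprime to p. -/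
theorem result {G : Type*} [Group G] [Finite G] [Group.IsSolvable G] (hodd : Odd (Nat.card G)) (p : ℕ) [Fact p.Prime] (hpG : p ∣ Nat.card G) (hr : Cfsg.PRankLE p 2 G) :
    (∀ q : ℕ, q.Prime → q ∣ (Cfsg.pPrimeCore p G).index → q ≤ p) ∧
      ((p = 3 ∨ ∀ q : ℕ, q.Prime → q ∣ Nat.card G → p ≤ q) → Cfsg.HasNormalPComplement p G) ∧
      Cfsg.HasNormalPComplement p ↥(commutator G) ∧
      (∀ L : Subgroup ↥(commutator G), (Nat.card L).Coprime p → L ≤ Cfsg.pPrimeCore p ↥(commutator G)) ∧
      commutator G ≤ Cfsg.pPrimePCore p G ∧ ((Cfsg.pPrimePCore p G).index).Coprime p := by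
  obtain ⟨h1, h2, h3⟩ := OddLocal.RankTwoSolvable.structure_rankTwo hodd hpG hr
  have hp : p.Prime := Fact.out
  obtain ⟨m, hm⟩ : ∃ m, (Cfsg.pPrimeCore p ↥(commutator G)).index = p ^ m := by
    set N := Cfsg.pPrimeCore p G
    set K := N.subgroupOf (commutator G) with hK
    have hle : K ≤ Cfsg.pPrimeCore p ↥(commutator G) := Cores.le_pPrimeCore <|
      (Cores.pPrimeCore_card_coprime p).coprime_dvd_left (by
        rw [← Subgroup.card_map_of_injective (commutator G).subtype_injective,
          Subgroup.subgroupOf_map_subtype]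
        exact Subgroup.card_dvd_of_le inf_le_left)
    have hd : K.index ∣ Nat.card (Cfsg.pCore p (G ⧸ N)) := by
      show N.relIndex (commutator G) ∣ _
      have h4 : Nat.card ((commutator G).map (QuotientGroup.mk' N)) = N.relIndex (commutator G) := by
        rw [← Subgroup.relIndex_ker, QuotientGroup.ker_mk']
      rw [← h4]
      exact Subgroup.card_dvd_of_le (Subgroup.map_le_iff_le_comap.mpr h1)
    obtain ⟨j, hj⟩ := (Cores.pCore_isPGroup (G := G ⧸ N) p).exists_card_eq
    obtain ⟨i, -, hi⟩ := (Nat.dvd_prime_pow hp).mp ((Subgroup.index_dvd_of_le hle).trans (hj ▸ hd))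
    exact ⟨i, hi⟩
  refine ⟨h3, fun hsm => ?_, (complement_of_index hm).1, (complement_of_index hm).2, h1, h2⟩
  refine (complement_of_index (n := (Cfsg.pPrimeCore p G).index.primeFactorsList.length) ?_).1
  refine Nat.eq_prime_pow_of_unique_prime_dvd Subgroup.index_ne_zero_of_finite fun {q} hq hqd => ?_
  have hqG : q ∣ Nat.card G := hqd.trans (Subgroup.index_dvd_card _)
  rcases hsm with rfl | hsm
  · have h5 := h3 q hq hqd
    have h6 : q ≠ 2 := by
      rintro rfl
      exact Nat.not_even_iff_odd.mpr hodd (even_iff_two_dvd.mpr hqG)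
    have := hq.two_le
    omega
  · exact le_antisymm (h3 q hq hqd) (hsm q hq hqG)

end Cfsg.Agent.S1450
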