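import Cfsg.Statements.S1414
import Cfsg.Agent.OddLocal.NonIdeal
import Cfsg.Agent.S1450
import Cfsg.Agent.Lib.Hall.Solvable
-- import your own Cfsg.Agent.* helpers here

set_option autoImplicit false
open Cfsg

namespace Cfsg.Agent.S1414

/-- Let G be a minimal simple group of odd order, M a maximal subgroup, β(M) the set of ideal primes in α(M), and M_β = O_{β(M)}(M). Then M_β is a Hall β(M)-subgroup of M and of G; M' and M_σ each have a nilpotent Hall β(M)'-subgroup; and for each prime p dividing the order of M with p ∉ β(M), both M' and M_σ have normal p-complements and every prime dividing the index of O_{p'}(M) in M is at most p. -/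
theorem result {G : Type*} [Group G] [Finite G] (hG : Cfsg.IsMinSimpleOddOrder G)
    (M : Subgroup G) (hM : IsCoatom M) :
    Cfsg.IsPiHallOf (Cfsg.beta M) (Cfsg.piCoreOf (Cfsg.beta M) M) M ∧ Cfsg.IsPiHall (Cfsg.beta M) (Cfsg.piCoreOf (Cfsg.beta M) M) ∧
      (∃ H : Subgroup G, Cfsg.IsPiHallOf {q | q.Prime ∧ q ∉ Cfsg.beta M} H ⁅M, M⁆ ∧ Group.IsNilpotent H) ∧
      (∃ H : Subgroup G, Cfsg.IsPiHallOf {q | q.Prime ∧ q ∉ Cfsg.beta M} H (Cfsg.sigmaCore M) ∧ Group.IsNilpotent H) ∧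
      ∀ p : ℕ, p.Prime → p ∣ Nat.card M → p ∉ Cfsg.beta M →
        Cfsg.HasNormalPComplement p ↥⁅M, M⁆ ∧ Cfsg.HasNormalPComplement p ↥(Cfsg.sigmaCore M) ∧
        ∀ q : ℕ, q.Prime → q ∣ (Cfsg.pPrimeCore p ↥M).index → q ≤ p := by
  classical
  have hM' : ⁅M, M⁆ ≤ M := Cfsg.Agent.Coprime.commutator_le_of_le_normalizer Subgroup.le_normalizer
  have hσ : Cfsg.sigmaCore M ≤ ⁅M, M⁆ := Cfsg.Agent.OddLocal.Sigma.sigmaCore_le_commutator hG hM
  have hall : ∀ N : Subgroup G, N ≤ ⁅M, M⁆ → ∃ H : Subgroup G,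
      Cfsg.IsPiHallOf {q | q.Prime ∧ q ∉ Cfsg.beta M} H N ∧ Group.IsNilpotent H := by
    intro N hN
    have : Group.IsSolvable N := Cfsg.Agent.OddLocal.Transitivity.isSolvable_of_ne_top hG fun e =>
      hM.1 (top_le_iff.mp (e ▸ hN.trans hM'))
    obtain ⟨K, hK1, hK2⟩ := Cfsg.Agent.Hall.exists_hall {q | q.Prime ∧ q ∉ Cfsg.beta M} N
    have hKN : K.map N.subtype ≤ N := Subgroup.map_subtype_le _
    refine ⟨K.map N.subtype, ⟨hKN, fun q hq hd => hK1 q hq ?_, fun q hq hqπ => ?_⟩,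
      Cfsg.Agent.OddLocal.NonIdeal.isNilpotent_of_index_pow fun q hq hd => ?_⟩
    · rwa [Subgroup.card_map_of_injective N.subtype_injective] at hd
    · rw [Subgroup.relIndex, Subgroup.subgroupOf, Subgroup.comap_map_eq_self_of_injective N.subtype_injective]
      exact hK2 q hq hqπ
    · have := Fact.mk hq
      have hqM : q ∣ Nat.card M := hd.trans (Subgroup.card_dvd_of_le (hKN.trans (hN.trans hM')))
      rw [Subgroup.card_map_of_injective N.subtype_injective] at hd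
      exact Cfsg.Agent.OddLocal.NonIdeal.exists_index_pow hG hM hqM (hK1 q hq hd).2 (hKN.trans hN)
  obtain ⟨h1, h2⟩ := Cfsg.Agent.OddLocal.NonIdeal.betaCore_hall hG hM
  refine ⟨h1, h2, hall _ le_rfl, hall _ hσ, fun p hp hpM hβ => ?_⟩
  have := Fact.mk hp
  obtain ⟨k, hk⟩ := Cfsg.Agent.OddLocal.NonIdeal.exists_index_pow hG hM hpM hβ le_rfl
  obtain ⟨j, hj⟩ := Cfsg.Agent.OddLocal.NonIdeal.exists_index_pow hG hM hpM hβ hσ
  exact ⟨(Cfsg.Agent.S1450.complement_of_index hk).1, (Cfsg.Agent.S1450.complement_of_index hj).1,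
    (Cfsg.Agent.OddLocal.NonIdeal.structure_nonbeta hG hM hpM hβ).2.2⟩

end Cfsg.Agent.S1414
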