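import Cfsg.Statements.S1461
import Cfsg.Agent.S1460
import Cfsg.Agent.OddLocal.PLength
-- import your own Cfsg.Agent.* helpers here

set_option autoImplicit false
open Cfsg

namespace Cfsg.Agent.S1461

/-- Let G be a finite solvable group, p a prime with G = O_{p',p,p'}(G), and S a Sylow p-subgroup. Then: if S ≤ G' then S ≤ [N_G(S), N_G(S)]; if Y ⊆ S and xYx⁻¹ ⊆ S then x = g c for some g ∈ N_G(S) and c centralizing Y; and for every p-subgroup Q there is x ∈ C_G(Q ∩ S) with xQx⁻¹ ≤ S. -/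
theorem result {G : Type*} [Group G] [Finite G] [Group.IsSolvable G] (p : ℕ) [Fact p.Prime] (hpl : Cfsg.PLengthLE p 1 G) (S : Sylow p G) :
    ((S : Subgroup G) ≤ commutator G → (S : Subgroup G) ≤ ⁅Subgroup.normalizer ((S : Subgroup G) : Set G), Subgroup.normalizer ((S : Subgroup G) : Set G)⁆) ∧
      (∀ (Y : Set G) (x : G), Y ⊆ (S : Subgroup G) → (fun y => x * y * x⁻¹) '' Y ⊆ (S : Subgroup G) →
        ∃ g ∈ Subgroup.normalizer ((S : Subgroup G) : Set G), ∃ c ∈ Subgroup.centralizer Y, g * c = x) ∧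
      ∀ Q : Subgroup G, IsPGroup p Q → ∃ x ∈ Subgroup.centralizer ((Q ⊓ (S : Subgroup G) : Subgroup G) : Set G), Q.map (MulAut.conj x).toMonoidHom ≤ (S : Subgroup G) := by
  set N := Subgroup.normalizer ((S : Subgroup G) : Set G) with hN
  set K := pPrimeCore p G with hK
  have hKU : K ⊔ N = ⊤ := OddLocal.pPrimeCore_sup_normalizer hpl S
  have hSN : (S : Subgroup G) ≤ N := Subgroup.le_normalizer
  have hcop : ∀ H : Subgroup G, H ≤ S → (Nat.card H).Coprime (Nat.card K) := fun H hH => by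
    obtain ⟨k, hk⟩ := (S.isPGroup'.to_le hH).exists_card_eq
    rw [hk]
    exact (PLocal.Cores.coprime_card_pPrimeCore.symm.pow_left k)
  refine ⟨fun hle => ?_, fun Y x hY hxY => ?_, fun Q hQ => ?_⟩
  · have := (S1460.result K N S hKU hSN (hcop _ le_rfl)).1
    rw [inf_eq_left.mpr hle] at this
    exact inf_eq_left.mp this.symm
  · have hH : Subgroup.closure Y ≤ (S : Subgroup G) := (Subgroup.closure_le _).mpr hY
    obtain ⟨u, hu, c, hc, rfl⟩ := (S1460.result K N (Subgroup.closure Y) hKU (hH.trans hSN)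
      (hcop _ hH)).2.2 x (by
        rw [MonoidHom.map_closure, Subgroup.closure_le]
        rintro _ ⟨y, hy, rfl⟩
        exact hSN (hxY ⟨y, hy, rfl⟩))
    exact ⟨u, hu, c, Subgroup.centralizer_le Subgroup.subset_closure hc.2, rfl⟩
  · obtain ⟨T, hT⟩ := hQ.exists_le_sylow
    obtain ⟨g, hg⟩ := MulAction.exists_smul_eq G T S
    have hgQ : ∀ q ∈ Q, g * q * g⁻¹ ∈ (S : Subgroup G) := by
      intro q hq
      rw [← hg, Sylow.coe_subgroup_smul]
      exact ⟨q, hT hq, rfl⟩
    obtain ⟨u, hu, c, hc, rfl⟩ := (S1460.result K N (Q ⊓ S) hKU (inf_le_right.trans hSN)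
      (hcop _ inf_le_right)).2.2 g (by
        rintro _ ⟨y, hy, rfl⟩
        exact hSN (hgQ y hy.1))
    refine ⟨c, hc.2, ?_⟩
    rintro _ ⟨q, hq, rfl⟩
    have h1 := hgQ q hq
    have e : u * c * q * (u * c)⁻¹ = u * (c * q * c⁻¹) * u⁻¹ := by group
    rw [e] at h1
    exact (Subgroup.mem_normalizer_iff.mp hu _).mpr h1


end Cfsg.Agent.S1461
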