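import Cfsg.Statements.S1457
import Cfsg.Agent.OddLocal.Stability
import Cfsg.Agent.Lib.Cores.Basic
-- import your own Cfsg.Agent.* helpers here

set_option autoImplicit false
open Cfsg
open scoped commutatorElement

namespace Cfsg.Agent.S1457

/-- Let G be a solvable group of odd order, p a prime, S a Sylow p-subgroup of G and A an abelian subgroup of S normal in S. Then A ≤ O_{p',p}(G). -/
theorem result {G : Type*} [Group G] [Finite G] [Group.IsSolvable G] (hodd : Odd (Nat.card G)) (p : ℕ) [Fact p.Prime] (S : Sylow p G) (A : Subgroup G) (hA : A ≤ (S : Subgroup G)) (hAc : IsMulCommutative A)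
    (hAn : (S : Subgroup G) ≤ Subgroup.normalizer (A : Set G)) :
    A ≤ Cfsg.pPrimePCore p G := by
  intro a ha
  rcases eq_or_ne a 1 with rfl | ha1
  · exact one_mem _
  have hp2 : p ≠ 2 := by
    rintro rfl
    obtain ⟨k, hk⟩ := S.isPGroup' ⟨a, hA ha⟩
    obtain ⟨j, -, hj⟩ := (Nat.dvd_prime_pow Nat.prime_two).mp
      (orderOf_dvd_of_pow_eq_one (congrArg Subtype.val hk : a ^ 2 ^ k = 1))
    rcases Nat.eq_zero_or_pos j with rfl | hj0
    · exact ha1 (orderOf_eq_one_iff.mp (by simpa using hj))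
    · exact (Nat.not_even_iff_odd.mpr (hodd.of_dvd_nat (orderOf_dvd_natCard a)))
        (hj ▸ even_two.pow_of_ne_zero hj0.ne')
  set K := pPrimeCore p G with hK
  rw [PLocal.Cores.mem_pPrimePCore_iff]
  have hs : Function.Surjective (QuotientGroup.mk' K) := QuotientGroup.mk'_surjective K
  refine OddLocal.Stability.quadratic_mem_pCore_of_pPrimeCore_eq_bot hp2
    (hodd.of_dvd_nat (Subgroup.card_quotient_dvd_card K))
    (Cores.pPrimeCore_quotient_self p) ?_
  intro u hu
  obtain ⟨s, hs', rfl⟩ := PLocal.Cores.pCore_le_sylow (S.mapSurjective hs) hu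
  have h1 : ⁅s, a⁆ ∈ A := by
    rw [commutatorElement_def]
    exact mul_mem ((Subgroup.mem_normalizer_iff.mp (hAn hs') a).mp ha) (inv_mem ha)
  have h2 : Commute ⁅s, a⁆ a := setLike_mul_comm h1 ha
  have h3 := h2.map (QuotientGroup.mk' K)
  rw [map_commutatorElement] at h3
  exact h3


end Cfsg.Agent.S1457
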