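import Cfsg.Statements.S1462
import Cfsg.Agent.S1443
import Cfsg.Agent.OddLocal.PLength
import Cfsg.Agent.Solvable.Fitting
import Cfsg.Agent.Lib.Cores.Basic
-- import your own Cfsg.Agent.* helpers here

set_option autoImplicit false
open Cfsg

namespace Cfsg.Agent.S1462

/-- Let G be a finite solvable group, p an odd prime with G = O_{p',p,p'}(G), E an elementary abelian p-subgroup contained in no larger elementary abelian p-subgroup of G, and L a subgroup of order coprime to p normalized by E. Then L ≤ O_{p'}(G). -/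
theorem result {G : Type*} [Group G] [Finite G] [Group.IsSolvable G] (p : ℕ) [Fact p.Prime] (hp : p ≠ 2) (hpl : Cfsg.PLengthLE p 1 G) (E L : Subgroup G) (hE : Cfsg.IsElementaryAbelian p E)
    (hEmax : ∀ B : Subgroup G, Cfsg.IsElementaryAbelian p B → E ≤ B → B = E) (hL : (Nat.card L).Coprime p) (hEL : E ≤ Subgroup.normalizer (L : Set G)) :
    L ≤ Cfsg.pPrimeCore p G := by
  obtain ⟨hEc, hEe⟩ := hE
  have hEp : IsPGroup p E := fun a => ⟨1, by rw [pow_one]; exact Subtype.ext (hEe a a.2)⟩
  obtain ⟨S, hES⟩ := hEp.exists_le_sylow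
  set K := pPrimeCore p G with hK
  set f := QuotientGroup.mk' K with hf
  have hfs : Function.Surjective f := QuotientGroup.mk'_surjective _
  have hSb : (S : Subgroup G).map f = pCore p (G ⧸ K) := by
    rw [← PLocal.Cores.map_pPrimePCore, ← OddLocal.pPrimeCore_sup_sylow hpl S, Subgroup.map_sup,
      (Subgroup.map_eq_bot_iff (f := f) K).mpr (by rw [hf, QuotientGroup.ker_mk']), bot_sup_eq]
  have hSK : (S : Subgroup G) ⊓ K = ⊥ :=
    PLocal.Cores.inf_eq_bot_of_isPGroup_of_coprime S.isPGroup' PLocal.Cores.coprime_card_pPrimeCore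
  have hLc : (Nat.card (L.map f)).Coprime p := hL.coprime_dvd_left (Subgroup.card_map_dvd L f)
  have hdisj : pCore p (G ⧸ K) ⊓ L.map f = ⊥ :=
    PLocal.Cores.inf_eq_bot_of_isPGroup_of_coprime PLocal.Cores.isPGroup_pCore hLc
  have hLE : L.map f ≤ Subgroup.centralizer ((E.map f : Subgroup (G ⧸ K)) : Set (G ⧸ K)) := by
    rintro _ ⟨l, hl, rfl⟩
    rw [Subgroup.mem_centralizer_iff]
    rintro _ ⟨e, he, rfl⟩
    have hc : l * e * l⁻¹ * e⁻¹ ∈ L := by
      have h1 : e * l⁻¹ * e⁻¹ ∈ L := (Subgroup.mem_normalizer_iff.mp (hEL he) _).mp (inv_mem hl)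
      have e2 : l * e * l⁻¹ * e⁻¹ = l * (e * l⁻¹ * e⁻¹) := by group
      rw [e2]; exact mul_mem hl h1
    have he' : f e ∈ pCore p (G ⧸ K) := hSb ▸ ⟨e, hES he, rfl⟩
    have h2 : f (l * e * l⁻¹ * e⁻¹) = 1 := by
      rw [← Subgroup.mem_bot, ← hdisj]
      refine ⟨?_, l * e * l⁻¹ * e⁻¹, hc, rfl⟩
      simp only [map_mul, map_inv]
      exact Subgroup.mul_mem _ ((inferInstance : (pCore p (G ⧸ K)).Normal).conj_mem _ he' (f l)) (Subgroup.inv_mem _ he')
    simp only [map_mul, map_inv] at h2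
    rw [mul_inv_eq_one, mul_inv_eq_iff_eq_mul] at h2
    exact h2.symm
  have hEb : E.map f ≤ pCore p (G ⧸ K) := hSb ▸ Subgroup.map_mono hES
  have hEe' : IsElementaryAbelian p (E.map f) := by
    refine ⟨⟨⟨?_⟩⟩, ?_⟩
    · rintro ⟨_, a, ha, rfl⟩ ⟨_, b, hb, rfl⟩
      exact Subtype.ext (by
        show f a * f b = f b * f a
        rw [← map_mul, ← map_mul, setLike_mul_comm ha hb])
    · rintro _ ⟨a, ha, rfl⟩
      rw [← map_pow, hEe a ha, map_one]
  have hLS : L.map f ≤ Subgroup.centralizer (pCore p (G ⧸ K) : Set (G ⧸ K)) := by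
    refine S1443.result p hp _ _ _ PLocal.Cores.isPGroup_pCore hEb hEe'
      Subgroup.le_normalizer_of_normal hLc ?_
    intro x hx hord
    obtain ⟨hxS, hxC⟩ := hx
    rw [SetLike.mem_coe, ← hSb] at hxS
    obtain ⟨s, hs, rfl⟩ := hxS
    have hinj : ∀ y ∈ (S : Subgroup G), f y = 1 → y = 1 := fun y hy h => by
      rw [← Subgroup.mem_bot, ← hSK]
      exact ⟨hy, (QuotientGroup.eq_one_iff y).mp h⟩
    have hsp : s ^ p = 1 := hinj _ (pow_mem hs p) ((map_pow f s p).trans (orderOf_dvd_iff_pow_eq_one.mp hord.dvd))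
    have hse : ∀ e ∈ E, s * e = e * s := fun e he => by
      have := hinj _ (mul_mem (mul_mem (mul_mem hs (hES he)) (inv_mem hs)) (inv_mem (hES he)))
        (by
          simp only [map_mul, map_inv]
          rw [mul_inv_eq_one, mul_inv_eq_iff_eq_mul]
          exact (Subgroup.mem_centralizer_iff.mp hxC (f e) ⟨e, he, rfl⟩).symm)
      rwa [mul_inv_eq_one, mul_inv_eq_iff_eq_mul] at this
    have hcomm : ∀ a ∈ ((E : Set G) ∪ {s}), ∀ b ∈ ((E : Set G) ∪ {s}), a * b = b * a := by
      rintro a (ha | rfl) b (hb | rfl)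
      · exact setLike_mul_comm ha hb
      · exact (hse a ha).symm
      · exact hse b hb
      · rfl
    have hBc := Subgroup.isMulCommutative_closure hcomm
    have hB : Subgroup.closure ((E : Set G) ∪ {s}) = E := by
      refine hEmax _ ⟨hBc, fun a ha => ?_⟩ (fun a ha => Subgroup.subset_closure (Or.inl ha))
      induction ha using Subgroup.closure_induction with
      | mem a ha =>
        rcases ha with ha | rfl
        · exact hEe a ha
        · exact hsp
      | one => exact one_pow p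
      | mul a b ha hb iha ihb =>
        rw [(show Commute a b from
          setLike_mul_comm ha hb).mul_pow, iha, ihb, one_mul]
      | inv a _ iha => rw [inv_pow, iha, inv_one]
    have hsE : s ∈ E := hB ▸ Subgroup.subset_closure (Or.inr rfl)
    exact hLE.trans (Subgroup.centralizer_le (by simpa using ⟨s, hsE, rfl⟩))
  have h0 : pPrimeCore p (G ⧸ K) = ⊥ := Cores.pPrimeCore_quotient_self p
  have hle : L.map f ≤ pCore p (G ⧸ K) :=
    hLS.trans (Solvable.Fitting.centralizer_pCore_le p h0)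
  have : L.map f = ⊥ := by rw [← hdisj, inf_eq_right.mpr hle]
  rw [Subgroup.map_eq_bot_iff, hf, QuotientGroup.ker_mk'] at this
  exact this


end Cfsg.Agent.S1462
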