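import Cfsg.Statements.S1396
import Cfsg.Agent.OddLocal.TransitivityHyp
import Cfsg.Agent.S1462
-- import your own Cfsg.Agent.* helpers here

set_option autoImplicit false
open Cfsg

namespace Cfsg.Agent.S1396

/-- Let G be a minimal simple group of odd order, p a prime dividing the order of G and A an abelian p-subgroup. Suppose either (1) A consists exactly of the elements x of C_G(A) with x^p = 1, and every proper subgroup of G has p-length at most one, or (2) A is normal and self-centralizing in some Sylow p-subgroup of G and has rank at least 2. Then A satisfies the transitivity hypothesis. -/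
theorem result {G : Type*} [Group G] [Finite G] (hG : Cfsg.IsMinSimpleOddOrder G)
    (p : ℕ) [Fact p.Prime] (hp : p ∣ Nat.card G) (A : Subgroup G) (hAp : IsPGroup p A) (hAc : IsMulCommutative A)
    (h : (∀ x ∈ Subgroup.centralizer (A : Set G), x ^ p = 1 ↔ x ∈ A) ∧ (∀ H : Subgroup G, H ≠ ⊤ → Cfsg.PLengthLE p 1 H) ∨
      ∃ P : Sylow p G, Cfsg.IsSCN (P : Subgroup G) A ∧ ¬ Cfsg.PRankLE p 1 A) :
    Cfsg.TransitivityHypothesis A := by
  have hpp : p.Prime := Fact.out
  have hA1 : A ≠ ⊥ := by
    rintro rfl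
    rcases h with ⟨hΩ, -⟩ | ⟨P, -, hr⟩
    · obtain ⟨x, hx⟩ := exists_prime_orderOf_dvd_card' p hp
      have hx1 : x ∈ (⊥ : Subgroup G) :=
        (hΩ x (Subgroup.mem_centralizer_iff.mpr fun y hy => by
          rw [SetLike.mem_coe, Subgroup.mem_bot] at hy
          simp [hy])).mp (by rw [← hx, pow_orderOf_eq_one])
      rw [Subgroup.mem_bot] at hx1
      rw [hx1, orderOf_one] at hx
      exact hpp.ne_one hx.symm
    · refine hr fun B _ _ => ?_
      have hs : Nat.card B ≤ Nat.card (⊥ : Subgroup G) :=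
        Nat.le_of_dvd Nat.card_pos (Subgroup.card_subgroup_dvd_card B)
      rw [Subgroup.card_bot] at hs
      exact hs.trans (Nat.one_le_pow _ _ hpp.pos)
  have hAtop : A ≠ ⊤ := by
    rintro rfl
    exact hG.2.2.1 ⟨⟨fun a b => setLike_mul_comm (s := (⊤ : Subgroup G)) (Subgroup.mem_top a) (Subgroup.mem_top b)⟩⟩
  obtain ⟨k, hk⟩ := hAp.exists_card_eq
  have hk0 : k ≠ 0 := fun h0 => hA1 (Subgroup.eq_bot_of_card_eq A (by rw [hk, h0, pow_zero]))
  have hπ : ∀ r : ℕ, r ∈ Cfsg.primesNotDvd (Nat.card A) ↔ r.Prime ∧ r ≠ p := by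
    intro r
    show r.Prime ∧ ¬ r ∣ Nat.card A ↔ _
    refine and_congr_right fun hr => ?_
    rw [hk, not_iff_not]
    exact ⟨fun hd => (Nat.prime_dvd_prime_iff_eq hr hpp).mp (hr.dvd_of_dvd_pow hd),
      fun hd => hd ▸ dvd_pow_self p hk0⟩
  refine ⟨hA1, hAtop, fun X hX hAX => le_antisymm (sSup_le ?_) ?_⟩
  swap
  · exact le_sSup ⟨OddLocal.Transitivity.piCoreOf_le _ X, OddLocal.Transitivity.isPi_piCoreOf _ X,
      hAX.trans (OddLocal.Transitivity.le_normalizer_piCoreOf _ X)⟩
  rintro Y ⟨hYX, hY, hAY⟩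
  have hYc : (Nat.card Y).Coprime p :=
    (hpp.coprime_iff_not_dvd.mpr fun hd => ((hπ p).mp (hY p hpp hd)).2 rfl).symm
  suffices hle : Y ≤ (Cfsg.pPrimeCore p X).map X.subtype by
    refine hle.trans (OddLocal.Transitivity.le_piCoreOf_of_normal (Subgroup.map_subtype_le _)
      ?_ fun r hr hd => (hπ r).mpr ⟨hr, ?_⟩)
    · refine Subgroup.le_normalizer_of_normal_subgroupOf (hK := ?_) (Subgroup.map_subtype_le _)
      rw [Subgroup.subgroupOf, Subgroup.comap_map_eq_self_of_injective X.subtype_injective]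
      infer_instance
    · rintro rfl
      rw [Subgroup.card_map_of_injective X.subtype_injective] at hd
      exact Cores.pPrimeCore_not_dvd r hd
  rcases h with ⟨hΩ, hlen⟩ | ⟨P, hscn, hr⟩
  · have hXs : Group.IsSolvable X := OddLocal.Transitivity.isSolvable_of_ne_top hG hX
    have hp2 : p ≠ 2 := by
      rintro rfl
      exact Nat.not_even_iff_odd.mpr hG.1 (even_iff_two_dvd.mpr hp)
    have hAe : Cfsg.IsElementaryAbelian p (A.subgroupOf X) := by
      refine ⟨⟨⟨fun a b => Subtype.ext (Subtype.ext (setLike_mul_comm (s := A) a.2 b.2))⟩⟩, fun a ha => ?_⟩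
      exact Subtype.ext ((hΩ (a : G) (Subgroup.le_centralizer A ha)).mpr ha)
    have hmax : ∀ B : Subgroup X, Cfsg.IsElementaryAbelian p B → A.subgroupOf X ≤ B →
        B = A.subgroupOf X := by
      intro B hB hle
      refine le_antisymm (fun b hb => ?_) hle
      refine (hΩ (b : G) (Subgroup.mem_centralizer_iff.mpr fun a ha => ?_)).mp
        (congrArg Subtype.val (hB.2 b hb))
      have := hB.1
      exact congrArg Subtype.val (setLike_mul_comm (s := B) (hle (show (⟨a, hAX ha⟩ : X) ∈ A.subgroupOf X from ha)) hb)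
    have h1 := S1462.result p hp2 (hlen X hX) (A.subgroupOf X) (Y.subgroupOf X) hAe hmax
      (by rw [Nat.card_congr (Subgroup.subgroupOfEquivOfLe hYX).toEquiv]; exact hYc)
      (fun x hx => by
        rw [Subgroup.mem_normalizer_iff]
        intro y
        simp only [Subgroup.mem_subgroupOf, Subgroup.coe_mul, Subgroup.coe_inv]
        exact Subgroup.mem_normalizer_iff.mp (hAY hx) (y : G))
    rw [← Subgroup.map_subgroupOf_eq_of_le hYX]
    exact Subgroup.map_mono h1
  · exact OddLocal.TransitivityHyp.le_core_of_scn hG P hscn hAc hr hX hAX hYX hYc hAY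


end Cfsg.Agent.S1396
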