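import Cfsg.Statements.S1378
import Cfsg.Agent.OddLocal.SigmaPartition
import Cfsg.Agent.OddLocal.Max2Basic
-- import your own Cfsg.Agent.* helpers here

set_option autoImplicit false
open Cfsg

namespace Cfsg.Agent.S1378

/-- Let G be a minimal simple group of odd order. Then every prime dividing the order of G belongs to σ(M) for some maximal subgroup M, and if σ(M) and σ(N) have a prime in common for maximal subgroups M, N then N is conjugate to M; so the sets σ(M_i) over representatives of the conjugacy classes of maximal subgroups partition the prime divisors of #G. -/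
theorem result {G : Type*} [Group G] [Finite G] (hG : Cfsg.IsMinSimpleOddOrder G) :
    (∀ p : ℕ, p.Prime → p ∣ Nat.card G → ∃ M : Subgroup G, IsCoatom M ∧ p ∈ Cfsg.sigma M) ∧
      ∀ M N : Subgroup G, IsCoatom M → IsCoatom N → (Cfsg.sigma M ∩ Cfsg.sigma N).Nonempty → ∃ g : G, N = M.map (MulAut.conj g).toMonoidHom := by
  refine ⟨fun p hp hpG => ?_, fun M N hM hN h => ?_⟩
  · have := Fact.mk hp
    obtain ⟨S⟩ : Nonempty (Sylow p G) := inferInstance
    have hS1 : (S : Subgroup G) ≠ ⊥ := S.ne_bot_of_dvd_card hpG
    have hSt : (S : Subgroup G) ≠ ⊤ := fun e => by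
      apply hG.2.2.1
      have hp2 : IsPGroup p (⊤ : Subgroup G) := e ▸ S.isPGroup'
      have := hG.2.1
      have hpG' : IsPGroup p G := hp2.of_equiv Subgroup.topEquiv
      have : Nontrivial G := inferInstance
      have hc := hpG'.center_nontrivial
      have hz : Subgroup.center G = ⊤ := (Subgroup.Normal.eq_bot_or_eq_top inferInstance).resolve_left
        ((Subgroup.nontrivial_iff_ne_bot _).mp hc)
      exact ⟨⟨fun a b => (Subgroup.mem_center_iff.mp (hz ▸ Subgroup.mem_top b) a)⟩⟩
    have hNt := OddLocal.Transitivity.normalizer_ne_top hG hS1 hSt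
    obtain ⟨M, hM, hle⟩ := (eq_top_or_exists_le_coatom _).resolve_left hNt
    exact ⟨M, hM, OddLocal.mem_sigma hG S hpG hle⟩
  · by_contra hcon
    push Not at hcon
    obtain ⟨q, hqM, hqN⟩ := h
    exact OddLocal.SigmaPartition.sigma_disjoint hG hM hN hcon hqM hqN

end Cfsg.Agent.S1378
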