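import Cfsg.Statements.S0161
import Cfsg.Agent.Lib.Characters.Counting
import Cfsg.Agent.Lib.Characters.Integrality
-- import your own Cfsg.Agent.* helpers here

set_option autoImplicit false
open Cfsg

namespace Cfsg.Agent.S0161

/-- In a finite group of odd order, a real-valued irreducible complex character is the trivial character. -/
theorem result {G : Type*} [Group G] [Finite G] (hodd : Odd (Nat.card G)) (χ : Cfsg.IrrCharacter G) (hreal : ∀ g : G, ((χ : G → ℂ) g).im = 0) : (χ : G → ℂ) = fun _ => 1 := by
  classical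
  haveI := Fintype.ofFinite G
  by_contra hne
  have hc := Characters.irr_isCharacter χ
  have hconj : ∀ g : G, (χ : G → ℂ) g⁻¹ = (χ : G → ℂ) g := fun g => by
    rw [Characters.char_inv hc, Complex.conj_eq_iff_im.2 (hreal g)]
  have h0 := Characters.classInner_isIrr_ne χ.2 Characters.isIrrCharacter_one hne
  rw [Characters.classInner_def, mul_eq_zero, inv_eq_zero] at h0
  replace h0 := h0.resolve_left Characters.natCard_ne_zero
  simp only [map_one, mul_one] at h0
  -- pair each nontrivial element with its inverse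
  have hne' : ∀ g : G, g⁻¹ = g → g = 1 := by
    intro g hg
    have h2 : g ^ 2 = 1 := by rw [sq]; nth_rw 1 [← hg]; exact inv_mul_cancel g
    rw [← orderOf_eq_one_iff]
    exact Nat.eq_one_of_dvd_coprimes (Nat.coprime_two_left.2 hodd)
      (orderOf_dvd_of_pow_eq_one h2) (orderOf_dvd_natCard g)
  let e := Fintype.equivFin G
  set S : Finset G := Finset.univ.filter fun g => e g < e g⁻¹
  set S' : Finset G := Finset.univ.filter fun g => e g⁻¹ < e g
  have hsplit : (Finset.univ.erase (1 : G)) = S ∪ S' := by
    ext g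
    simp only [S, S', Finset.mem_erase, Finset.mem_univ, and_true, Finset.mem_union,
      Finset.mem_filter, true_and]
    constructor
    · intro hg
      exact lt_or_gt_of_ne fun h => hg (hne' g (e.injective h).symm)
    · rintro h rfl
      simp at h
  have hdisj : Disjoint S S' := by
    rw [Finset.disjoint_left]
    intro g h h'
    exact lt_asymm (Finset.mem_filter.1 h).2 (Finset.mem_filter.1 h').2
  have hS' : ∑ g ∈ S', (χ : G → ℂ) g = ∑ g ∈ S, (χ : G → ℂ) g := by
    refine Finset.sum_equiv (Equiv.inv G) (fun g => by simp [S, S']) (fun g _ => ?_)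
    exact (hconj g).symm
  rw [← Finset.add_sum_erase _ _ (Finset.mem_univ (1 : G)), hsplit, Finset.sum_union hdisj, hS'] at h0
  obtain ⟨n, hn1, hnpos, hdvd⟩ : ∃ n : ℕ, (χ : G → ℂ) 1 = (n : ℂ) ∧ 0 < n ∧ n ∣ Nat.card G :=
    Characters.irr_degree_dvd_card χ.2
  have h2 : IsIntegral ℤ ((n : ℂ) / ((2 : ℕ) : ℂ)) := by
    have : (n : ℂ) / ((2 : ℕ) : ℂ) = -∑ g ∈ S, (χ : G → ℂ) g := by
      rw [← hn1, Nat.cast_two]; linear_combination h0 / 2
    rw [this]
    exact (IsIntegral.sum _ fun g _ => Characters.char_value_isIntegral hc g).neg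
  exact (Nat.not_even_iff_odd.2 hodd)
    (even_iff_two_dvd.2 ((Characters.dvd_of_isIntegral_div two_ne_zero h2).trans hdvd))

end Cfsg.Agent.S0161
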