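import Cfsg.Statements.S1526
import Cfsg.Agent.Lib.CN.Main
import Cfsg.Agent.Solvable.Thompson

set_option autoImplicit false
set_option linter.style.haveILetI false
open Cfsg

namespace Cfsg.Agent.S1526

open scoped Classical in
/-- A Frobenius configuration `H ⋊ ⟨e⟩` cannot act fixed-point-freely on a nontrivial abelian
normal subgroup of coprime order. -/
private theorem fpf_frobenius_false {G : Type*} [Group G] [Finite G] (N H : Subgroup G) [N.Normal]
    (hc : ∀ a ∈ N, ∀ b ∈ N, a * b = b * a) (e : G)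
    (hfe : ∀ v ∈ N, e * v = v * e → v = 1)
    (hH : H ≠ ⊥) (hfH : ∀ h ∈ H, h ≠ 1 → ∀ v ∈ N, h * v = v * h → v = 1)
    (heH : ∀ x ∈ Subgroup.zpowers e, ∀ h ∈ H, x * h * x⁻¹ ∈ H)
    (hHe : ∀ x ∈ Subgroup.zpowers e, x ≠ 1 → ∀ h ∈ H, x * h = h * x → h = 1)
    (hcop : Nat.Coprime (Nat.card H) (Nat.card N)) : N = ⊥ := by
  letI : CommGroup N := { N.toGroup with mul_comm := fun a b => Subtype.ext (hc a a.2 b b.2) }
  haveI : Fintype H := Fintype.ofFinite _
  haveI : Fintype (Subgroup.zpowers e) := Fintype.ofFinite _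
  let T : G →* MulAut N := MulAut.conjNormal
  have hT : ∀ (g : G) (w : N), (T g w : G) = g * w * g⁻¹ := fun g w => MulAut.conjNormal_apply g w
  have hTT : ∀ (g g' : G) (w : N), T g (T g' w) = T (g * g') w := fun g g' w => by
    rw [map_mul]; rfl
  obtain ⟨h0, hh0, hne⟩ := H.ne_bot_iff_exists_ne_one.mp hH |> fun ⟨⟨a, ha⟩, hne⟩ =>
    (⟨a, ha, fun h => hne (Subtype.ext h)⟩ : ∃ a, a ∈ H ∧ a ≠ 1)
  have hS : ∀ w : N, ∏ h : H, T h w = 1 := fun w => by
    have hfix : T h0 (∏ h : H, T h w) = ∏ h : H, T h w := by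
      rw [map_prod]
      exact Fintype.prod_equiv (Equiv.mulLeft (⟨h0, hh0⟩ : H)) _ _ fun h => hTT _ _ _
    have := congrArg (fun z : N => (z : G)) hfix
    rw [hT] at this
    exact Subtype.ext (hfH h0 hh0 hne _ (Subtype.prop _) (mul_inv_eq_iff_eq_mul.1 this))
  have hA : ∀ w : N, ∏ x : Subgroup.zpowers e, T x w = 1 := fun w => by
    have hfix : T e (∏ x : Subgroup.zpowers e, T x w) = ∏ x : Subgroup.zpowers e, T x w := by
      rw [map_prod]
      exact Fintype.prod_equiv (Equiv.mulLeft (⟨e, Subgroup.mem_zpowers e⟩ : Subgroup.zpowers e))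
        _ _ fun h => hTT _ _ _
    have := congrArg (fun z : N => (z : G)) hfix
    rw [hT] at this
    exact Subtype.ext (hfe _ (Subtype.prop _) (mul_inv_eq_iff_eq_mul.1 this))
  rw [Subgroup.eq_bot_iff_forall]
  intro v hv
  set w : N := ⟨v, hv⟩
  have h1 : ∀ h : H, ∏ x : Subgroup.zpowers e, T (h * x * (h : G)⁻¹) w = 1 := fun h => by
    have := congrArg (T (h : G)) (hA (T (h : G)⁻¹ w))
    rw [map_prod, map_one] at this
    simpa only [hTT, ← mul_assoc] using this
  have h2 : ∀ x : Subgroup.zpowers e, x ≠ 1 → ∏ h : H, T (h * x * (h : G)⁻¹) w = 1 := fun x hx => by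
    have hx' : (x : G) ≠ 1 := fun h => hx (Subtype.ext h)
    let ψ : H → H := fun h => ⟨(h : G) * ((x : G) * (h : G)⁻¹ * (x : G)⁻¹),
      H.mul_mem h.2 (heH x x.2 _ (H.inv_mem h.2))⟩
    have hψ : Function.Injective ψ := fun a b hab => by
      have hab' : (a : G) * ((x : G) * (a : G)⁻¹ * (x : G)⁻¹)
          = (b : G) * ((x : G) * (b : G)⁻¹ * (x : G)⁻¹) := congrArg Subtype.val hab
      have : (x : G) * ((b : G)⁻¹ * a) = ((b : G)⁻¹ * a) * x := by
        calc (x : G) * ((b : G)⁻¹ * a)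
            = ((b : G)⁻¹ * ((b : G) * ((x : G) * (b : G)⁻¹ * (x : G)⁻¹))) * x * a := by group
          _ = ((b : G)⁻¹ * ((a : G) * ((x : G) * (a : G)⁻¹ * (x : G)⁻¹))) * x * a := by rw [hab']
          _ = ((b : G)⁻¹ * a) * x := by group
      exact Subtype.ext (inv_mul_eq_one.1 (hHe x x.2 hx' _ (H.mul_mem (H.inv_mem b.2) a.2) this)).symm
    rw [← hS (T (x : G) w)]
    refine Fintype.prod_equiv (Equiv.ofBijective ψ (Finite.injective_iff_bijective.1 hψ)) _ _ ?_
    intro h
    rw [hTT]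
    congr 2
    simp only [Equiv.ofBijective_apply, ψ]
    group
  have h3 : ∏ x : Subgroup.zpowers e, ∏ h : H, T (h * x * (h : G)⁻¹) w = 1 := by
    rw [Finset.prod_comm]
    exact Finset.prod_eq_one fun h _ => h1 h
  rw [Finset.prod_eq_single (1 : Subgroup.zpowers e) (fun x _ hx => h2 x hx)
    (fun h => absurd (Finset.mem_univ _) h)] at h3
  simp only [OneMemClass.coe_one, mul_one, mul_inv_cancel, map_one, MulAut.one_apply,
    Finset.prod_const, Finset.card_univ] at h3
  have hd1 : orderOf w ∣ Nat.card H := by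
    rw [Nat.card_eq_fintype_card]; exact orderOf_dvd_of_pow_eq_one h3
  have : orderOf w = 1 := Nat.eq_one_of_dvd_coprimes hcop hd1 (orderOf_dvd_natCard w)
  exact congrArg Subtype.val (orderOf_eq_one_iff.1 this)

/-- Let G be a finite group of odd order and (L i, H i), i in a finite index type with at least two elements, pairs of subgroups with H i a nontrivial proper normal subgroup of L i such that every non-identity element of H i has its centraliser within L i contained in H i (L i is a Frobenius group with kernel H i), the orders of the H i pairwise coprime, and the underlying set of each H i a TI-subset of G with normaliser L i. If every non-identity element of G is conjugate to an element of some H i, we reach a contradiction. -/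
theorem result {G : Type*} [Group G] [Finite G] (hodd : Odd (Nat.card G)) {ι : Type*} [Fintype ι] (hι : 2 ≤ Fintype.card ι) (L H : ι → Subgroup G) (hHL : ∀ i, H i < L i) (hH1 : ∀ i, H i ≠ ⊥) (hHn : ∀ i, ∀ x ∈ L i, ∀ h ∈ H i, x * h * x⁻¹ ∈ H i) (hfrob : ∀ i, ∀ h ∈ H i, h ≠ 1 → L i ⊓ Subgroup.centralizer ({h} : Set G) ≤ H i) (hcop : ∀ i j, i ≠ j → Nat.Coprime (Nat.card (H i)) (Nat.card (H j))) (hTI : ∀ i, Cfsg.IsTISubset (H i : Set G) ∧ Subgroup.normalizer (H i : Set G) = L i) (hcover : ∀ g : G, g ≠ 1 → ∃ i, ∃ x : G, x * g * x⁻¹ ∈ H i) : False := by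
  classical
  have hcent : ∀ i, ∀ h ∈ H i, h ≠ 1 → Subgroup.centralizer ({h} : Set G) ≤ H i := by
    intro i h hh h1 y hy
    refine hfrob i h hh h1 ⟨?_, hy⟩
    by_contra hyL
    refine h1 ((hTI i).1 y (fun hyN => hyL ((hTI i).2 ▸ hyN)) h hh ?_)
    have : y * h * y⁻¹ = h :=
      mul_inv_eq_iff_eq_mul.2 (Subgroup.mem_centralizer_singleton_iff.1 hy)
    rw [this]; exact hh
  have hel : ∀ i, ∃ e, e ∈ L i ∧ (orderOf e).Prime ∧ e ∉ H i := by
    intro i
    obtain ⟨l, hlL, hlH⟩ := SetLike.exists_of_lt (hHL i)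
    have hl1 : l ≠ 1 := fun h => hlH (h ▸ (H i).one_mem)
    have hm : orderOf l ≠ 1 := fun h => hl1 (orderOf_eq_one_iff.1 h)
    have hp := Nat.minFac_prime hm
    have he : orderOf (l ^ (orderOf l / (orderOf l).minFac)) = (orderOf l).minFac :=
      orderOf_pow_orderOf_div (orderOf_pos l).ne' (Nat.minFac_dvd _)
    refine ⟨_, (L i).pow_mem hlL _, he ▸ hp, fun hmem => hlH ?_⟩
    refine hcent i _ hmem ?_ (Subgroup.mem_centralizer_singleton_iff.2
      ((Commute.refl l).pow_right _).eq)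
    intro h
    rw [h, orderOf_one] at he
    exact hp.ne_one he.symm
  have hnil : ∀ i, Group.IsNilpotent (H i) := by
    intro i
    obtain ⟨e, heL, hep, heH⟩ := hel i
    have heN : e ∈ Subgroup.normalizer (H i : Set G) := by rw [(hTI i).2]; exact heL
    refine Cfsg.Agent.Solvable.Thompson.isNilpotent_of_fixedPointFree
      ((H i).normalizerMonoidHom ⟨e, heN⟩) hep ?_ ?_
    · intro x hx
      by_contra h1
      have hx' : e * x * e⁻¹ = x := congrArg Subtype.val hx
      refine heH (hcent i x x.2 (fun h => h1 (Subtype.ext h))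
        (Subgroup.mem_centralizer_singleton_iff.2 (mul_inv_eq_iff_eq_mul.1 hx')))
    · rw [← map_pow]
      have : (⟨e, heN⟩ : Subgroup.normalizer (H i : Set G)) ^ orderOf e = 1 :=
        Subtype.ext (pow_orderOf_eq_one e)
      rw [this, map_one]
  have hCN : Cfsg.IsCNGroup G := by
    intro g hg
    obtain ⟨i, x, hx⟩ := hcover g hg
    have hne : x * g * x⁻¹ ≠ 1 := fun h => hg (by simpa using h)
    have hle : (Subgroup.centralizer ({g} : Set G)).map (MulAut.conj x).toMonoidHom ≤ H i := by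
      rintro _ ⟨y, hy, rfl⟩
      refine hcent i _ hx hne (Subgroup.mem_centralizer_singleton_iff.2 ?_)
      have hy' : y * g = g * y := Subgroup.mem_centralizer_singleton_iff.1 hy
      simp only [MulEquiv.coe_toMonoidHom, MulAut.conj_apply]
      calc x * y * x⁻¹ * (x * g * x⁻¹) = x * (y * g) * x⁻¹ := by group
        _ = x * (g * y) * x⁻¹ := by rw [hy']
        _ = x * g * x⁻¹ * (x * y * x⁻¹) := by group
    haveI := Cfsg.Agent.CN.isNilpotent_le hle (hnil i)
    exact Group.nilpotent_of_mulEquiv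
      (Subgroup.equivMapOfInjective _ (MulAut.conj x).toMonoidHom (MulAut.conj x).injective).symm
  have hsolv := Cfsg.Agent.CN.isSolvable_of_odd_cn _ G rfl hodd hCN
  obtain ⟨i0⟩ : Nonempty ι := Fintype.card_pos_iff.1 (by omega)
  have hex : ∃ n, derivedSeries G n = ⊥ := (Group.isSolvable_def G).1 hsolv
  obtain ⟨m, hm⟩ : ∃ m, Nat.find hex = m + 1 := by
    refine Nat.exists_eq_succ_of_ne_zero fun h => hH1 i0 (le_bot_iff.1 ?_)
    have h0 := Nat.find_spec hex
    rw [h, derivedSeries_zero] at h0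
    exact h0 ▸ le_top
  set N := derivedSeries G m with hNdef
  have hN1 : N ≠ ⊥ := Nat.find_min hex (by omega)
  have hNc : ∀ a ∈ N, ∀ b ∈ N, a * b = b * a := by
    intro a ha b hb
    have h0 := Nat.find_spec hex
    rw [hm, derivedSeries_succ] at h0
    exact commutatorElement_eq_one_iff_mul_comm.1
      (Subgroup.mem_bot.1 (h0 ▸ Subgroup.commutator_mem_commutator ha hb))
  obtain ⟨⟨n, hn⟩, hn1⟩ := N.ne_bot_iff_exists_ne_one.1 hN1
  have hn1' : n ≠ 1 := fun h => hn1 (Subtype.ext h)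
  obtain ⟨i, x, hx⟩ := hcover n hn1'
  have hxN : x * n * x⁻¹ ∈ N := (derivedSeries_normal G m).conj_mem n hn x
  have hxne : x * n * x⁻¹ ≠ 1 := fun h => hn1' (by simpa using h)
  have hNH : N ≤ H i := fun a ha =>
    hcent i _ hx hxne (Subgroup.mem_centralizer_singleton_iff.2 (hNc a ha _ hxN))
  have hLi : ∀ g : G, g ∈ L i := by
    intro g
    by_contra hg
    refine hxne ((hTI i).1 g (fun h => hg ((hTI i).2 ▸ h)) _ hx ?_)
    exact hNH ((derivedSeries_normal G m).conj_mem _ hxN g)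
  obtain ⟨j, hji⟩ := Fintype.exists_ne_of_one_lt_card (by omega) i
  have hdisj : ∀ a ∈ H j, a ∈ H i → a = 1 := fun a haj hai => by
    have := Subgroup.disjoint_of_coprime_natCard (hcop j i hji)
    exact Subgroup.disjoint_def.1 this haj hai
  have hLH : ∀ a ∈ L j, a ∈ H i → a = 1 := by
    intro a haL haH
    obtain ⟨⟨h, hh⟩, hh1⟩ := (H j).ne_bot_iff_exists_ne_one.1 (hH1 j)
    have hh1' : h ≠ 1 := fun e => hh1 (Subtype.ext e)
    have c1 : a * h * a⁻¹ * h⁻¹ = 1 := by
      refine hdisj _ ((H j).mul_mem (hHn j a haL h hh) ((H j).inv_mem hh)) ?_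
      have := (H i).mul_mem haH (hHn i h (hLi h) a⁻¹ ((H i).inv_mem haH))
      convert this using 1
      group
    refine hdisj a (hcent j h hh hh1' (Subgroup.mem_centralizer_singleton_iff.2 ?_)) haH
    exact mul_inv_eq_iff_eq_mul.1 (mul_inv_eq_one.1 c1)
  have hact : ∀ y ∈ L j, y ≠ 1 → ∀ v ∈ N, y * v = v * y → v = 1 := by
    intro y hy hy1 v hv hyv
    by_contra hv1
    exact hy1 (hLH y hy (hcent i v (hNH hv) hv1 (Subgroup.mem_centralizer_singleton_iff.2 hyv)))
  obtain ⟨e, heL, hep, heH⟩ := hel j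
  haveI : N.Normal := derivedSeries_normal G m
  refine hN1 (fpf_frobenius_false N (H j) hNc e
    (hact e heL (fun h => heH (h ▸ (H j).one_mem))) (hH1 j)
    (fun h hh h1 => hact h ((hHL j).le hh) h1) ?_ ?_ ?_)
  · exact fun y hy h hh => hHn j y ((Subgroup.zpowers_le.2 heL) hy) h hh
  · intro y hy hy1 h hh hyh
    by_contra h1
    have hyH : y ∈ H j := hcent j h hh h1 (Subgroup.mem_centralizer_singleton_iff.2 hyh)
    apply heH
    have hd : orderOf y = orderOf e :=
      ((Nat.dvd_prime hep).1 (orderOf_dvd_of_mem_zpowers hy)).resolve_left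
        (fun h' => hy1 (orderOf_eq_one_iff.1 h'))
    have heq : Subgroup.zpowers y = Subgroup.zpowers e := Subgroup.eq_of_le_of_card_ge
      (Subgroup.zpowers_le.2 hy) (by rw [Nat.card_zpowers, Nat.card_zpowers, hd])
    exact (Subgroup.zpowers_le.2 hyH) (heq ▸ Subgroup.mem_zpowers e)
  · exact (hcop j i hji).coprime_dvd_right (Subgroup.card_dvd_of_le hNH)

end Cfsg.Agent.S1526
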