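import Cfsg.Statements.S1383
import Cfsg.Agent.OddLocal.NonTIMain
-- import your own Cfsg.Agent.* helpers here

set_option autoImplicit false
open Cfsg

namespace Cfsg.Agent.S1383

/-- Let G be a minimal simple group of odd order and M a maximal subgroup with standard factorisation M = K U M_σ. Then M is of Type V if and only if K ≠ 1, U = 1 and M_F = M_σ. -/
theorem result {G : Type*} [Group G] [Finite G] (hG : Cfsg.IsMinSimpleOddOrder G)
    (M : Subgroup G) (hM : IsCoatom M) (K U : Subgroup G) (hKU : Cfsg.IsSigmaDecomposition M K U) :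
    Cfsg.IsOfTypeV M ↔ (K ≠ ⊥ ∧ U = ⊥ ∧ Cfsg.fittingHallOf M = Cfsg.sigmaCore M) := by
  refine ⟨OddLocal.Types.of_typeV hG hM hKU, fun ⟨hK1, hU, heq⟩ => ?_⟩
  have hnil : Group.IsNilpotent (sigmaCore M) := heq ▸ OddLocal.NonNilpotent.isNilpotent_fittingHallOf M
  refine ⟨K, U, _, OddLocal.Types.typePWith_of hG hM hKU hK1 (by subst hU; infer_instance) hKU.normal
    (OddLocal.Types.compl_of_nilpotent hG hM hKU hK1 hnil), hU, ?_⟩
  by_cases h : ∀ x ∈ sigmaCore M, (orderOf x).Prime → Subgroup.centralizer ({x} : Set G) ≤ M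
  · left
    intro g hg a ha hga
    by_contra ha1
    refine hg ?_
    obtain ⟨p, hp, hd⟩ := Nat.exists_prime_and_dvd (fun e => ha1 (orderOf_eq_one_iff.mp e))
    set x := a ^ (orderOf a / p)
    have hxo : orderOf x = p := orderOf_pow_orderOf_div (orderOf_pos a).ne' hd
    have hx : x ∈ fittingHallOf M := pow_mem ha _
    have hgx : g * x * g⁻¹ ∈ fittingHallOf M := by rw [← conj_pow]; exact pow_mem hga _
    have hHM := OddLocal.FittingStructure.fittingHallOf_le M
    obtain ⟨m, hm, he⟩ := OddLocal.Signalizer.fusion_core hG hM (heq.le hx) (hHM hgx)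
    have h1 : m⁻¹ * g ∈ Subgroup.centralizer ({x} : Set G) := Subgroup.mem_centralizer_singleton_iff.mpr (by
      calc m⁻¹ * g * x = m⁻¹ * (g * x * g⁻¹) * g := by group
        _ = m⁻¹ * (m * x * m⁻¹) * g := by rw [he]
        _ = x * (m⁻¹ * g) := by group)
    have h2 : g ∈ M := by simpa using mul_mem hm (h x (heq.le hx) (hxo.symm ▸ hp) h1)
    exact OddLocal.FittingStructure.le_normalizer_fittingHallOf M h2
  · push Not at h
    obtain ⟨x, hx, hxp, hxM⟩ := h
    obtain ⟨p, hp, hd, hcyc, halt⟩ :=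
      OddLocal.NonTI.alternatives hG hM hKU hK1 hU hnil hx hxp hxM
    rw [heq]
    rcases halt with h1 | ⟨h2, h3⟩
    · exact Or.inr (Or.inl ⟨p, hp, hd, h1, hcyc⟩)
    · exact Or.inr (Or.inr ⟨p, hp, hd, h2, h3, hcyc⟩)

end Cfsg.Agent.S1383
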