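import Cfsg.Statements.S1408
import Cfsg.Agent.OddLocal.SigmaRank
-- import your own Cfsg.Agent.* helpers here

set_option autoImplicit false
open Cfsg

namespace Cfsg.Agent.S1408

/-- Let G be a minimal simple group of odd order, M a maximal subgroup, and p a prime not in σ(M) such that M has p-rank exactly 2. Then p is not an ideal prime for G, and every elementary abelian subgroup of M of order p ^ 2 is maximal among elementary abelian p-subgroups of G. -/
theorem result {G : Type*} [Group G] [Finite G] (hG : Cfsg.IsMinSimpleOddOrder G)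
    (M : Subgroup G) (hM : IsCoatom M) (p : ℕ) [Fact p.Prime] (hp : p ∉ Cfsg.sigma M) (hr2 : Cfsg.PRankLE p 2 M) (hr1 : ¬ Cfsg.PRankLE p 1 M) :
    ¬ Cfsg.IsIdealPrime p G ∧ ∀ A : Subgroup G, A ≤ M → Cfsg.IsElementaryAbelian p A → Nat.card A = p ^ 2 →
        ∀ B : Subgroup G, Cfsg.IsElementaryAbelian p B → A ≤ B → B = A := by
  have hpp : p.Prime := Fact.out
  have hmax : ∀ A : Subgroup G, A ≤ M → IsElementaryAbelian p A → Nat.card A = p ^ 2 →
      ∀ B : Subgroup G, IsElementaryAbelian p B → A ≤ B → B = A := by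
    intro A hAM hAe hAc B hBe hAB
    by_contra hne
    obtain ⟨n, hn⟩ := (Components.Hyperplane.isPGroup hBe).exists_card_eq
    have hlt : Nat.card A < Nat.card B := OddLocal.Sigma.card_lt_of_lt (lt_of_le_of_ne hAB (Ne.symm hne))
    have h3 : p ^ (2 + 1) ≤ Nat.card B := by
      rw [hAc, hn, Nat.pow_lt_pow_iff_right hpp.one_lt] at hlt
      rw [hn]
      exact Nat.pow_le_pow_right hpp.pos hlt
    have hBC : B ≤ Subgroup.centralizer (A : Set G) := fun b hb =>
      Subgroup.mem_centralizer_iff.mpr fun a ha => Components.Hyperplane.mem_comm hBe (hAB ha) hb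
    have hA1 : A ≠ ⊥ := fun e => by
      rw [e, Subgroup.card_bot] at hAc
      exact absurd hAc.symm (Nat.one_lt_pow two_ne_zero hpp.one_lt).ne'
    have hU := OddLocal.Unique.uniqueness hG (K := A)
      (fun e => hM.1 (top_le_iff.mp (e ▸ hAM))) (OddLocal.Sigma.not_rankLE_one_of_card_sq hAe hAc)
      (Or.inr fun h => OddLocal.Unique.not_pRankLE_of_elementary hBC hBe h3 (h p hpp))
    have hAtop : A ≠ ⊤ := fun e => hM.1 (top_le_iff.mp (e ▸ hAM))
    have hCtop : Subgroup.centralizer (A : Set G) ≠ ⊤ := fun e => by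
      obtain ⟨a, ha, ha1⟩ := (Subgroup.bot_or_exists_ne_one A).resolve_left hA1
      exact OddLocal.Transitivity.centralizer_ne_top hG (s := (A : Set G)) ha ha1 e
    have hCM := OddLocal.Unique.le_max hU hM hAM hCtop (fun a ha =>
      Subgroup.mem_centralizer_iff.mpr fun b hb => Components.Hyperplane.mem_comm hAe hb ha)
    exact OddLocal.Unique.not_pRankLE_of_elementary (hBC.trans hCM) hBe h3 hr2
  refine ⟨fun hid => ?_, hmax⟩
  obtain ⟨A, hAM, hAe, hAc⟩ := OddLocal.Unique.exists_elementary_of_not_pRankLE hr1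
  obtain ⟨P, hP⟩ := (Components.Hyperplane.isPGroup hAe).exists_le_sylow
  obtain ⟨B, -, hBe, hlt⟩ := hid.2.2 P A hP hAe hAc
  exact hlt.ne (hmax A hAM hAe hAc B hBe hlt.le).symm

end Cfsg.Agent.S1408
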