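import Cfsg.Statements.S1416
import Cfsg.Agent.OddLocal.P2Elem
-- import your own Cfsg.Agent.* helpers here

set_option autoImplicit false
open Cfsg

namespace Cfsg.Agent.S1416

/-- Let G be a minimal simple group of odd order, M a maximal subgroup, p a prime and A ≤ M elementary abelian of order p ^ 2. Then C_G(A) ≤ M. If moreover for every subgroup A₀ of A of order p, M is not the unique maximal subgroup containing N_G(A₀), then p ∈ σ(M), M_α = 1 and M_σ is nilpotent. -/
theorem result {G : Type*} [Group G] [Finite G] (hG : Cfsg.IsMinSimpleOddOrder G)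
    (M : Subgroup G) (hM : IsCoatom M) (p : ℕ) [Fact p.Prime] (A : Subgroup G) (hA : (A ≤ M ∧ Cfsg.IsElementaryAbelian p A ∧ Nat.card A = p ^ 2)) :
    Subgroup.centralizer (A : Set G) ≤ M ∧
      ((∀ A₀ : Subgroup G, A₀ ≤ A → Nat.card A₀ = p →
          ¬ (Subgroup.normalizer (A₀ : Set G) ≤ M ∧ ∀ L : Subgroup G, IsCoatom L → Subgroup.normalizer (A₀ : Set G) ≤ L → L = M)) →
        p ∈ Cfsg.sigma M ∧ Cfsg.alphaCore M = ⊥ ∧ Group.IsNilpotent (Cfsg.sigmaCore M)) := by
  have hAe := hA.2.1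
  have hAc := hA.2.2
  have hAM := hA.1
  have hA1 : A ≠ ⊥ := fun e => by
    rw [e, Subgroup.card_bot] at hAc
    exact (Nat.one_lt_pow two_ne_zero (Fact.out : p.Prime).one_lt).ne hAc
  have hAtop : A ≠ ⊤ := fun e => hM.1 (top_le_iff.mp (e ▸ hAM))
  have key : ∀ {a : G}, a ∈ A → a ≠ 1 → ¬ (∃ L : Subgroup G, IsCoatom L ∧ L ≠ M ∧
      Subgroup.normalizer (Subgroup.zpowers a : Set G) ≤ L) →
      Subgroup.normalizer (Subgroup.zpowers a : Set G) ≤ M ∧ ∀ L : Subgroup G, IsCoatom L →
        Subgroup.normalizer (Subgroup.zpowers a : Set G) ≤ L → L = M := by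
    intro a ha ha1 h
    refine ⟨?_, fun L hL hNL => by_contra fun hne => h ⟨L, hL, hne, hNL⟩⟩
    obtain ⟨L, hL, hNL⟩ := (eq_top_or_exists_le_coatom _).resolve_left
      (OddLocal.Transitivity.normalizer_ne_top hG (Subgroup.zpowers_ne_bot.mpr ha1)
        fun e => hAtop (top_le_iff.mp (e ▸ Subgroup.zpowers_le.mpr ha)))
    by_cases hne : L = M
    · exact hne ▸ hNL
    · exact absurd ⟨L, hL, hne, hNL⟩ h
  refine ⟨?_, fun hno => OddLocal.P2Elem.main hG hM hAM hAe hAc fun a ha ha1 => ?_⟩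
  · by_cases hn : OddLocal.P2Elem.NoLine A M
    · exact OddLocal.P2Elem.centralizer_le_of_noLine hG hM hAM hAe hAc hn
    · simp only [OddLocal.P2Elem.NoLine, not_forall] at hn
      obtain ⟨a, ha, ha1, h⟩ := hn
      exact ((OddLocal.P2Elem.centralizer_le_singleton ha).trans
        (OddLocal.P2Elem.centralizer_singleton_le a)).trans (key ha ha1 h).1
  · by_contra h
    refine hno (Subgroup.zpowers a) (Subgroup.zpowers_le.mpr ha) ?_ (key ha ha1 h)
    rw [Nat.card_zpowers, Components.Hyperplane.orderOf_eq hAe ha ha1]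

end Cfsg.Agent.S1416
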