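import Cfsg.Statements.S1371
import Cfsg.Agent.OddLocal.PTypeSupport
import Cfsg.Agent.OddLocal.RegularMain
import Cfsg.Agent.S1434
-- import your own Cfsg.Agent.* helpers here

set_option autoImplicit false
open Cfsg

namespace Cfsg.Agent.S1371

/-- Let G be a minimal simple group of odd order, M a maximal subgroup with standard factorisation M = K U M_σ, K ≠ 1, K* = M_σ ∩ C_G(K), and Ẑ the set of elements of K K* outside K ∪ K*. Then the union of the M-conjugates of Ẑ equals A₀(M) with A(M) removed, and it is a TI-subset of G. -/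
theorem result {G : Type*} [Group G] [Finite G] (hG : Cfsg.IsMinSimpleOddOrder G)
    (M : Subgroup G) (hM : IsCoatom M) (K U : Subgroup G) (hKU : Cfsg.IsSigmaDecomposition M K U) (hK1 : K ≠ ⊥) :
    {a : G | ∃ m ∈ M, ∃ z ∈ ((↑(K ⊔ (Cfsg.sigmaCore M ⊓ Subgroup.centralizer (K : Set G))) : Set G) \ ((K : Set G) ∪ ↑(Cfsg.sigmaCore M ⊓ Subgroup.centralizer (K : Set G)))), a = m * z * m⁻¹} = Cfsg.sigmaA0 M K \ Cfsg.sigmaA M U ∧
      Cfsg.IsTISubset (Cfsg.sigmaA0 M K \ Cfsg.sigmaA M U) := by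
  obtain ⟨Mstar, h⟩ := OddLocal.PType.exists_pair hG hM hKU.hall hK1
  obtain ⟨-, -, -, hfour, -⟩ :=
    S1434.result hG M hM K U hKU hK1 Mstar h.hH h.hKeq.symm h.hKs
  set Ks := Cfsg.sigmaCore M ⊓ Subgroup.centralizer (K : Set G) with hKs
  have hle : K ⊔ Ks ≤ M := sup_le hKU.hall.1 (inf_le_left.trans (OddLocal.Sigma.sigmaCore_le M))
  have hKC : K ≤ Subgroup.centralizer (Ks : Set G) := Subgroup.le_centralizer_iff.mp inf_le_right
  have heq : {a : G | ∃ m ∈ M, ∃ z ∈ ((↑(K ⊔ Ks) : Set G) \ ((K : Set G) ∪ ↑Ks)), a = m * z * m⁻¹} =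
      Cfsg.sigmaA0 M K \ Cfsg.sigmaA M U := by
    ext a
    constructor
    · rintro ⟨m, hm, z, ⟨hz, hzn⟩, rfl⟩
      obtain ⟨k, hk, s, hs, rfl⟩ := OddLocal.KappaDecomp.exists_mul_sup
        ((inf_le_right : Ks ≤ _).trans (Subgroup.centralizer_le_normalizer _)) hz
      have hk1 : k ≠ 1 := fun e => hzn (Or.inr (by rw [e, one_mul]; exact hs))
      have hs1 : s ≠ 1 := fun e => hzn (Or.inl (by rw [e, mul_one]; exact hk))
      have hks : Commute k s := Subgroup.mem_centralizer_iff.mp hs.2 k hk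
      have hsσ := OddLocal.SigmaParts.mem_sigma_core hs.1
      have hkκ : OddLocal.SigmaParts.IsPiEl (Cfsg.kappa M) k := fun p hp hd =>
        hKU.hall.2.1 p hp (hd.trans (Subgroup.orderOf_dvd_natCard K hk))
      have hco : (orderOf k).Coprime (orderOf s) := Nat.coprime_of_dvd fun p hp h1 h2 =>
        OddLocal.KappaDecomp.kappa_not_sigma (hkκ p hp h1) (hsσ p hp h2)
      have hconj : ∀ x : G, orderOf (m * x * m⁻¹) = orderOf x := fun x => (MulAut.conj m).orderOf_eq x
      have hzh : k * s ∈ Cfsg.sigmaHat M :=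
        ⟨hle hz, s, hs.1, hs1, (hks.mul_left (Commute.refl s)).eq⟩
      refine ⟨⟨OddLocal.PType.sigmaHat_conj hm hzh, ?_⟩, fun hA => ?_⟩
      · rintro ⟨k', hk', -, m', -, e⟩
        have h1 : orderOf (k * s) = orderOf k' := by
          rw [← hconj (k * s), e]; exact (MulAut.conj m').orderOf_eq k'
        obtain ⟨p, hp, hd⟩ := Nat.exists_prime_and_dvd (fun e' => hs1 (orderOf_eq_one_iff.mp e'))
        refine OddLocal.KappaDecomp.kappa_not_sigma (hKU.hall.2.1 p hp ?_) (hsσ p hp hd)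
        refine (hd.trans ?_).trans (Subgroup.orderOf_dvd_natCard K hk')
        rw [← h1, hks.orderOf_mul_eq_mul_orderOf_of_coprime hco]
        exact dvd_mul_left _ _
      · obtain ⟨p, hp, hd⟩ := Nat.exists_prime_and_dvd (fun e' => hk1 (orderOf_eq_one_iff.mp e'))
        have hκ := hkκ p hp hd
        have hd' : p ∣ Nat.card ↥(U ⊔ Cfsg.sigmaCore M) := by
          refine (hd.trans ?_).trans (Subgroup.orderOf_dvd_natCard _ hA.2)
          rw [hconj, hks.orderOf_mul_eq_mul_orderOf_of_coprime hco]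
          exact dvd_mul_right _ _
        have hn : U ≤ Subgroup.normalizer (Cfsg.sigmaCore M : Set G) :=
          hKU.compl.1.trans (OddLocal.Sigma.le_normalizer_sigmaCore M)
        rw [sup_comm] at hd'
        rcases hp.dvd_mul.mp (hd'.trans (OddLocal.RegularMain.card_sup_dvd hn)) with h1 | h1
        · exact OddLocal.KappaDecomp.kappa_not_sigma hκ
            (OddLocal.Transitivity.isPi_piCoreOf (Cfsg.sigma M) M p hp h1)
        · exact OddLocal.KappaDecomp.not_kappa_of_dvd hKU hp h1 hκ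
    · rintro ⟨⟨hhat, hnK⟩, hnA⟩
      have haM : a ∈ M := hhat.1
      obtain ⟨b, c, e, hbc, hb, hc, hba, hca⟩ := OddLocal.SigmaParts.exists_parts (Cfsg.kappa M) a
      have hb1 : b ≠ 1 := by
        rintro rfl
        rw [one_mul] at e
        exact hnA ⟨hhat, OddLocal.KappaDecomp.mem_sup_of_not_kappa hG hM hKU haM (e ▸ hc)⟩
      have hbM : b ∈ M := (Subgroup.zpowers_le.mpr haM) hba
      obtain ⟨m, hm, hle'⟩ := OddLocal.PType.exists_conj_le_hall hG hM hKU.hall
        (Subgroup.zpowers_le.mpr hbM) (fun p hp hd => hb p hp (by rwa [Nat.card_zpowers] at hd))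
      obtain ⟨k, hk, hkb⟩ := hle' (Subgroup.mem_zpowers b)
      have hkb' : b = m * k * m⁻¹ := hkb.symm
      have hk1 : k ≠ 1 := fun e' => hb1 (by rw [hkb', e']; group)
      have hz : m⁻¹ * a * m ∈ M ⊓ Subgroup.centralizer ({k} : Set G) := by
        refine Subgroup.mem_inf.mpr ⟨mul_mem (mul_mem (inv_mem hm) haM) hm,
          Subgroup.mem_centralizer_singleton_iff.mpr ?_⟩
        have hab : a * b = b * a := by rw [e]; exact ((Commute.refl b).mul_left hbc.symm).eq
        rw [hkb'] at hab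
        calc m⁻¹ * a * m * k = m⁻¹ * (a * (m * k * m⁻¹)) * m := by group
          _ = m⁻¹ * (m * k * m⁻¹ * a) * m := by rw [hab]
          _ = k * (m⁻¹ * a * m) := by group
      rw [h.centralizer_kappa hG hk hk1] at hz
      refine ⟨m, hm, _, ⟨hz, ?_⟩, by group⟩
      rintro (hzK | hzs)
      · by_cases h1 : m⁻¹ * a * m = 1
        · refine hnA ⟨hhat, ?_⟩
          have : a = 1 := by simpa using conj_eq_one_iff.mp (show m⁻¹ * a * m⁻¹⁻¹ = 1 by rwa [inv_inv])
          rw [this]; exact one_mem _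
        · exact hnK ⟨_, hzK, h1, m, hm, by group⟩
      · refine hnA ⟨hhat, ?_⟩
        have := (Subgroup.mem_normalizer_iff.mp
          (OddLocal.Sigma.le_normalizer_sigmaCore M hm) _).mp (Subgroup.mem_inf.mp hzs).1
        exact Subgroup.mem_sup_right (by simpa [mul_assoc] using this)
  refine ⟨heq, ?_⟩
  rw [← heq]
  intro g hg a ⟨m, hm, z, hz, e⟩ ⟨m', hm', z', hz', e'⟩
  refine absurd (OddLocal.PType.mem_normalizer_of_stable (M := M) ?_ ?_) hg
  · rintro n hn b ⟨i, hi, w, hw, rfl⟩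
    exact ⟨n * i, mul_mem hn hi, w, hw, by group⟩
  by_contra hgM
  refine hfour (m⁻¹ * g⁻¹ * m') (fun h' => hgM ?_) z hz ?_
  · have : m' * (m⁻¹ * g⁻¹ * m')⁻¹ * m⁻¹ ∈ M := mul_mem (mul_mem hm' (inv_mem h')) (inv_mem hm)
    simpa [mul_assoc] using this
  · rw [OddLocal.SigmaParts.mem_conj_iff]
    have h1 : (m⁻¹ * g⁻¹ * m')⁻¹ * z * (m⁻¹ * g⁻¹ * m') = z' := by
      calc (m⁻¹ * g⁻¹ * m')⁻¹ * z * (m⁻¹ * g⁻¹ * m') = m'⁻¹ * (g * (m * z * m⁻¹) * g⁻¹) * m' := by group
        _ = m'⁻¹ * (m' * z' * m'⁻¹) * m' := by rw [← e, e']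
        _ = z' := by group
    exact h1 ▸ hle hz'.1

end Cfsg.Agent.S1371
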