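import Cfsg.Statements.S1432
import Cfsg.Agent.OddLocal.KappaCentral
-- import your own Cfsg.Agent.* helpers here

set_option autoImplicit false
open Cfsg

namespace Cfsg.Agent.S1432

/-- Let G be a minimal simple group of odd order, M a maximal subgroup, x a non-identity element of M_σ and x' a non-identity element of C_M(x) no prime divisor of whose order lies in σ(M). Then either all prime divisors of the order of x' lie in κ(M) and C_G(x) ≤ M; or all of them lie in τ₂(M), they all lie in σ(L) for a single maximal subgroup L, and C_G(x') ≤ M with M the unique maximal subgroup containing C_G(x'). -/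
theorem result {G : Type*} [Group G] [Finite G] (hG : Cfsg.IsMinSimpleOddOrder G)
    (M : Subgroup G) (hM : IsCoatom M) (x : G) (hx : x ∈ Cfsg.sigmaCore M) (hx1 : x ≠ 1) (x' : G) (hx' : x' ∈ M ⊓ Subgroup.centralizer ({x} : Set G)) (hx'1 : x' ≠ 1)
    (hσ : ∀ p : ℕ, p.Prime → p ∣ orderOf x' → p ∉ Cfsg.sigma M) :
    ((∀ p : ℕ, p.Prime → p ∣ orderOf x' → p ∈ Cfsg.kappa M) ∧ Subgroup.centralizer ({x} : Set G) ≤ M) ∨
      ((∀ p : ℕ, p.Prime → p ∣ orderOf x' → p ∈ Cfsg.tau2 M) ∧
        (∃ L : Subgroup G, IsCoatom L ∧ ∀ p : ℕ, p.Prime → p ∣ orderOf x' → p ∈ Cfsg.sigma L) ∧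
        (Subgroup.centralizer ({x'} : Set G) ≤ M ∧ ∀ L : Subgroup G, IsCoatom L → Subgroup.centralizer ({x'} : Set G) ≤ L → L = M)) := by
  have hxM : x ∈ M := OddLocal.Sigma.sigmaCore_le M hx
  obtain ⟨hx'M, hx'C⟩ := Subgroup.mem_inf.mp hx'
  have hxx' : Commute x' x := Subgroup.mem_centralizer_singleton_iff.mp hx'C
  set n := orderOf x' with hn
  have hn1 : n ≠ 1 := fun e => hx'1 (orderOf_eq_one_iff.mp e)
  have hu : ∀ r : ℕ, r ∣ n → orderOf (x' ^ (n / r)) = r := fun r hr =>
    orderOf_pow_orderOf_div (orderOf_pos x').ne' hr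
  by_cases hall : ∀ r : ℕ, r.Prime → r ∣ n → PRankLE r 1 M
  · refine Or.inl ⟨fun r hr hd => ?_, ?_⟩
    · have := Fact.mk hr
      set u := x' ^ (n / r) with hudef
      have huM : u ∈ M := pow_mem hx'M _
      have huo : orderOf u = r := hu r hd
      refine ⟨hr, ?_, hσ r hr hd, fun P => ⟨?_, ?_⟩⟩
      · exact hd.trans (M.orderOf_dvd_natCard hx'M)
      · have := OddLocal.Compl.isCyclic_of_rankOne hG (hall r hr hd) (P.isPGroup'.map M.subtype)
          (Subgroup.map_subtype_le _)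
        exact isCyclic_of_surjective _
          ((P : Subgroup M).equivMapOfInjective M.subtype M.subtype_injective).symm.surjective
      · obtain ⟨S, huS⟩ := ((OddLocal.PrimeAction.isPGroup_of_card (p := r)
          (X := Subgroup.zpowers u) (by rw [Nat.card_zpowers, huo])).comap_subtype (K := M)).exists_le_sylow
        obtain ⟨a, ha⟩ := MulAction.exists_smul_eq M S P
        refine ⟨a * ⟨u, huM⟩ * a⁻¹, ?_, fun e => hr.ne_one ?_, (a : G) * x * (a : G)⁻¹,
          (Subgroup.mem_normalizer_iff.mp (OddLocal.Sigma.le_normalizer_sigmaCore M a.2) x).mp hx,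
          fun e => hx1 (conj_eq_one_iff.mp e), ?_⟩
        · rw [← ha, Transfer.Fusion.coe_smul_eq_map]
          exact ⟨_, huS (Subgroup.mem_subgroupOf.mpr (Subgroup.mem_zpowers _)), rfl⟩
        · have h1 : (⟨u, huM⟩ : M) = 1 := conj_eq_one_iff.mp e
          rw [← huo, show u = 1 from congrArg Subtype.val h1, orderOf_one]
        · have h2 : u * x = x * u := (hxx'.pow_left _).eq
          simp only [Subgroup.coe_mul, Subgroup.coe_inv]
          calc (a : G) * u * (a : G)⁻¹ * (a * x * (a : G)⁻¹) = a * (u * x) * (a : G)⁻¹ := by group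
            _ = a * (x * u) * (a : G)⁻¹ := by rw [h2]
            _ = _ := by group
    · set r := n.minFac
      have := Fact.mk (Nat.minFac_prime hn1)
      set m := orderOf x with hm
      have hm1 : m ≠ 1 := fun e => hx1 (orderOf_eq_one_iff.mp e)
      have := Fact.mk (Nat.minFac_prime hm1)
      have hyo : orderOf (x ^ (m / m.minFac)) = m.minFac :=
        orderOf_pow_orderOf_div (orderOf_pos x).ne' (Nat.minFac_dvd m)
      have h := (OddLocal.KappaCentral.centralizer_le hG hM (pow_mem hx'M _)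
        (hu r (Nat.minFac_dvd n)) (hσ r Fact.out (Nat.minFac_dvd n))
        (hall r Fact.out (Nat.minFac_dvd n)) (pow_mem hx _) hyo
        ((hxx'.pow_pow _ _).eq)).2
      exact fun w hw => h (Subgroup.mem_centralizer_singleton_iff.mpr
        ((show Commute w x from Subgroup.mem_centralizer_singleton_iff.mp hw).pow_right _).eq)
  push_neg at hall
  obtain ⟨t, ht, htd, ht1⟩ := hall
  have := Fact.mk ht
  have htτ : t ∈ tau2 M := ⟨ht, hσ t ht htd, OddLocal.SigmaCompl.rank_le hG hM ht (hσ t ht htd), ht1⟩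
  have hτ : ∀ r : ℕ, r.Prime → r ∣ n → r ∈ tau2 M := fun r hr hd => by
    have := Fact.mk hr
    refine ⟨hr, hσ r hr hd, OddLocal.SigmaCompl.rank_le hG hM hr (hσ r hr hd), fun h1 => ?_⟩
    exact OddLocal.KappaCentral.no_mixed hG hM htτ (pow_mem hx'M _) (hu r hd) (hσ r hr hd) h1
      (pow_mem hx'M _) (hu t htd) ((Commute.refl x').pow_pow _ _).eq hx hx1
      (hxx'.pow_left _).eq (hxx'.pow_left _).eq
  refine Or.inr ⟨hτ, ?_, OddLocal.SigmaCompl.centralizer_unique hG hM hx'M hx'1 hτ hx hx1 hxx'.eq⟩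
  obtain ⟨E, hE, hxE⟩ := OddLocal.Compl.exists_compl_ge hG hM (Subgroup.zpowers_le.mpr hx'M)
    fun r hr hd => hσ r hr (by rwa [Nat.card_zpowers] at hd)
  obtain ⟨A, hAE, h⟩ := OddLocal.SigmaCompl.exists_ctx hG hM hE htτ
  obtain ⟨L, hL, hNL⟩ := OddLocal.PrimeAction.exists_normalizer_le hG h.hA.ne_bot h.hAM hM
  have htL := OddLocal.KappaCentral.sigma_of_normalizer hG h.hA hL hNL
  have hAL : A ≤ L := Subgroup.le_normalizer.trans hNL
  have hne : L ≠ M := fun e => by
    obtain ⟨k, hk, hkM⟩ := OddLocal.TauTwo.exists_not_mem hG hM htτ h.hA h.hAM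
    exact hkM (e ▸ hNL hk)
  refine ⟨L, hL, fun r hr hd => ?_⟩
  have := Fact.mk hr
  by_contra hrL
  obtain ⟨B, hBE, h'⟩ := OddLocal.SigmaCompl.exists_ctx hG hM hE (hτ r hr hd)
  have hBL : B ≤ L := hBE.trans ((h.le_normalizer_compl hE hAE).trans hNL)
  have h'' : OddLocal.TauTwo.Ctx r B L := OddLocal.TauTwo.Ctx.mk' hG hL
    ⟨hr, hrL, OddLocal.SigmaCompl.rank_le hG hL hr hrL,
      OddLocal.Unique.not_pRankLE_of_elementary hBL h'.hA.el h'.hA.card.ge⟩ hBL h'.hA.el h'.hA.card
  refine h.hA.ne_bot (le_bot_iff.mp (le_of_le_of_eq (le_inf ?_ h.hAM) (h''.sigma_inf hM hne.symm h'.hAM)))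
  exact OddLocal.Sigma.sylow_le_sigmaCore hG hL htL h.hA.isPGroup hAL

end Cfsg.Agent.S1432
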