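import Cfsg.Statements.S1372
import Cfsg.Agent.OddLocal.FittingTI
import Cfsg.Agent.OddLocal.PTypeU
-- import your own Cfsg.Agent.* helpers here

set_option autoImplicit false
open Cfsg

namespace Cfsg.Agent.S1372

/-- Let G be a minimal simple group of odd order and M a maximal subgroup with standard factorisation M = K U M_σ, K ≠ 1 and U ≠ 1. Then K has prime order, and the Fitting subgroup F(M) contains M_σ and is a TI-subset of G. -/
theorem result {G : Type*} [Group G] [Finite G] (hG : Cfsg.IsMinSimpleOddOrder G)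
    (M : Subgroup G) (hM : IsCoatom M) (K U : Subgroup G) (hKU : Cfsg.IsSigmaDecomposition M K U) (hK1 : K ≠ ⊥) (hU1 : U ≠ ⊥) :
    (Nat.card K).Prime ∧ Cfsg.IsTISubset (Cfsg.fittingOf M : Set G) ∧ Cfsg.sigmaCore M ≤ Cfsg.fittingOf M := by
  obtain ⟨Mstar, h⟩ := OddLocal.PType.exists_pair hG hM hKU.hall hK1
  obtain ⟨u, P⟩ := OddLocal.PType.P2.exists_gen hG h hKU hU1
  refine ⟨?_, OddLocal.FittingTI.isTI hG hM hKU (fun x _ hxσ hxp => ?_), ?_⟩
  · rw [← P.hKu, Nat.card_zpowers]
    exact P.hup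
  · by_contra hC
    obtain ⟨N, hN⟩ := OddLocal.Signalizer.exists_sig hG hM hxσ
      (fun e => hxp.ne_one (by rw [e, orderOf_one])) hC
    have := Fact.mk hxp
    exact P.not_tau2 (OddLocal.SigmaParts.mem_sigma_core hxσ _ hxp dvd_rfl) hN.hN (hN.htau _ hxp dvd_rfl)
  · have hnil := (OddLocal.PType.fixed_eq_bot hG hM hKU.hall P.data P.notP1).2
    rw [OddLocal.SigmaParts.sigmaCore_eq_fittingHallOf hG hM hnil]
    exact OddLocal.FittingTI.fittingHallOf_le_fittingOf hG hM

end Cfsg.Agent.S1372
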