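import Cfsg.Statements.S1374
import Cfsg.Agent.OddLocal.SupportR
-- import your own Cfsg.Agent.* helpers here

set_option autoImplicit false
open Cfsg

namespace Cfsg.Agent.S1374

/-- Let G be a minimal simple group of odd order, M a maximal subgroup and x a non-identity element of M_σ. Then C_M(x) has order coprime to its index in C_G(x), and C_G(x) has a normal subgroup R complementing C_M(x) such that for every conjugate gMg⁻¹ containing x there is exactly one r ∈ R with rMr⁻¹ = gMg⁻¹. -/
theorem result {G : Type*} [Group G] [Finite G] (hG : Cfsg.IsMinSimpleOddOrder G)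
    (M : Subgroup G) (hM : IsCoatom M) (x : G) (hx : x ∈ Cfsg.sigmaCore M) (hx1 : x ≠ 1) :
    (Nat.card ↥(M ⊓ Subgroup.centralizer ({x} : Set G))).Coprime ((M ⊓ Subgroup.centralizer ({x} : Set G)).relIndex (Subgroup.centralizer ({x} : Set G))) ∧
      ∃ R : Subgroup G, Subgroup.centralizer ({x} : Set G) ≤ Subgroup.normalizer (R : Set G) ∧ Cfsg.IsComplIn (M ⊓ Subgroup.centralizer ({x} : Set G)) R (Subgroup.centralizer ({x} : Set G)) ∧
        ∀ g : G, x ∈ M.map (MulAut.conj g).toMonoidHom → ∃! r : G, r ∈ R ∧ M.map (MulAut.conj r).toMonoidHom = M.map (MulAut.conj g).toMonoidHom := by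
  have hC : Subgroup.centralizer ({x} : Set G) ≤ Subgroup.centralizer ({x} : Set G) := le_rfl
  refine ⟨?_, ?_⟩
  · by_cases hle : Subgroup.centralizer ({x} : Set G) ≤ M
    · rw [inf_eq_right.mpr hle, Subgroup.relIndex_self]
      exact Nat.coprime_one_right _
    obtain ⟨N, h⟩ := OddLocal.Signalizer.exists_sig hG hM hx hx1 hle
    have hc := h.compl_centralizer
    have hcard : (M ⊓ Subgroup.centralizer ({x} : Set G)).relIndex (Subgroup.centralizer ({x} : Set G)) =
        Nat.card ↥(Cfsg.sigmaCore N ⊓ Subgroup.centralizer ({x} : Set G)) := by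
      refine Subgroup.IsComplement'.index_eq_card (Subgroup.isComplement'_of_disjoint_and_mul_eq_univ
        ?_ ?_) |>.trans (Nat.card_congr (Subgroup.subgroupOfEquivOfLe hc.2.1).toEquiv) <;>
        try skip
      · rw [disjoint_iff, eq_bot_iff]
        intro a ha
        exact Subgroup.mem_bot.mpr (Subtype.ext (Subgroup.mem_bot.mp (hc.2.2.1.le
          (Subgroup.mem_inf.mpr ⟨Subgroup.mem_subgroupOf.mp (Subgroup.mem_inf.mp ha).2,
            Subgroup.mem_subgroupOf.mp (Subgroup.mem_inf.mp ha).1⟩)) ) ) 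
      · refine Set.eq_univ_of_forall fun c => ?_
        obtain ⟨e, he, r, hr, hcer⟩ := hc.2.2.2 c c.2
        exact ⟨⟨e * r * e⁻¹, mul_mem (mul_mem (hc.1 he) (hc.2.1 hr)) (inv_mem (hc.1 he))⟩,
          Subgroup.mem_subgroupOf.mpr ((Subgroup.mem_normalizer_iff.mp (h.normal (hc.1 he)) r).mp hr),
          ⟨e, hc.1 he⟩, Subgroup.mem_subgroupOf.mpr he, Subtype.ext (by
            show e * r * e⁻¹ * e = _
            rw [inv_mul_cancel_right, hcer])⟩
    rw [hcard]
    refine Nat.coprime_of_dvd fun p hp h1 h2 => ?_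
    have hσN : p ∈ Cfsg.sigma N := OddLocal.Transitivity.isPi_piCoreOf (sigma N) N p hp
      (h2.trans (Subgroup.card_dvd_of_le inf_le_left))
    exact OddLocal.Compl.not_sigma hG h.hN h.compl hp (h1.trans (Subgroup.card_dvd_of_le
      (le_inf inf_le_left (inf_le_right.trans h.hC)))) hσN
  · refine ⟨Cfsg.supportR M x, ?_, ?_, fun g hg => OddLocal.SupportR.exists_unique_conj hG hM hx hx1 hg⟩
    · rcases OddLocal.SupportR.cases hG hM hx hx1 with ⟨-, he⟩ | ⟨N, h, he⟩
      · rw [he, Subgroup.normalizer_eq_top]; exact le_top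
      · rw [he]; exact h.normal
    · rcases OddLocal.SupportR.cases hG hM hx hx1 with ⟨hle, he⟩ | ⟨N, h, he⟩
      · rw [he]
        exact ⟨inf_le_right, bot_le, inf_bot_eq _, fun c hc =>
          ⟨c, Subgroup.mem_inf.mpr ⟨hle hc, hc⟩, 1, one_mem _, (mul_one c).symm⟩⟩
      · rw [he]; exact h.compl_centralizer

end Cfsg.Agent.S1374
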