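import Cfsg.Statements.S1409
import Cfsg.Agent.OddLocal.SigmaRank
import Cfsg.Agent.S1408
-- import your own Cfsg.Agent.* helpers here

set_option autoImplicit false
open Cfsg

namespace Cfsg.Agent.S1409

/-- Let G be a minimal simple group of odd order, M a maximal subgroup, p a prime not in σ(M), and X a subgroup of order p with N_G(X) ≤ M. Then M has p-rank exactly 2, p is not an ideal prime for G, and X is contained in some elementary abelian subgroup of G of order p ^ 2. -/
theorem result {G : Type*} [Group G] [Finite G] (hG : Cfsg.IsMinSimpleOddOrder G)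
    (M : Subgroup G) (hM : IsCoatom M) (p : ℕ) [Fact p.Prime] (hp : p ∉ Cfsg.sigma M) (X : Subgroup G) (hX : Nat.card X = p)
    (hNX : Subgroup.normalizer (X : Set G) ≤ M) :
    (Cfsg.PRankLE p 2 M ∧ ¬ Cfsg.PRankLE p 1 M) ∧ ¬ Cfsg.IsIdealPrime p G ∧
      ∃ A : Subgroup G, Cfsg.IsElementaryAbelian p A ∧ Nat.card A = p ^ 2 ∧ X ≤ A := by
  have hpp : p.Prime := Fact.out
  have hXM : X ≤ M := Subgroup.le_normalizer.trans hNX
  have hXp : IsPGroup p X := IsPGroup.of_card (n := 1) (by rw [hX, pow_one])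
  have hpM : p ∣ Nat.card M := hX ▸ Subgroup.card_dvd_of_le hXM
  have hr2 : PRankLE p 2 M := not_not.mp fun h => hp (OddLocal.Sigma.alpha_subset_sigma hG hM ⟨hpp, h⟩)
  obtain ⟨P, hXP⟩ := (hXp.comap_subtype (K := M)).exists_le_sylow
  set T := (P : Subgroup M).map M.subtype with hT
  have hXT : X ≤ T := fun x hx => ⟨⟨x, hXM hx⟩, hXP hx, rfl⟩
  have hXc : IsCyclic X := isCyclic_of_prime_card hX
  have hXe : IsElementaryAbelian p X := ⟨IsCyclic.isMulCommutative, fun x hx =>
    orderOf_dvd_iff_pow_eq_one.mp (hX ▸ X.orderOf_dvd_natCard hx)⟩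
  obtain ⟨z, hzT, hzC, hzo, hzX⟩ : ∃ z ∈ T, z ∈ Subgroup.centralizer (T : Set G) ∧ orderOf z = p ∧ z ∉ X := by
    by_contra hcon
    refine OddLocal.Sigma.normalizer_sylow_not_le hp hpM P fun g hg => hNX ?_
    obtain ⟨x, hxT, hxC, hxo⟩ := OddLocal.Sigma.exists_central_order p hpM P
    have hin : ∀ y ∈ T, y ∈ Subgroup.centralizer (T : Set G) → orderOf y = p → Subgroup.zpowers y = X :=
      fun y hyT hyC hyo => Subgroup.eq_of_le_of_card_ge
        (Subgroup.zpowers_le.mpr (by_contra fun h => hcon ⟨y, hyT, hyC, hyo, h⟩))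
        (by rw [hX, Nat.card_zpowers, hyo])
    rw [← Transfer.Fusion.map_conj_eq_self_iff, ← hin x hxT hxC hxo, MonoidHom.map_zpowers,
      hin x hxT hxC hxo]
    exact hin _ ((Subgroup.mem_normalizer_iff.mp hg x).mp hxT) (OddLocal.Sigma.centralizer_conj hg hxC)
      ((orderOf_injective (MulAut.conj g).toMonoidHom (MulAut.conj g).injective x).trans hxo)
  set A := X ⊔ Subgroup.zpowers z with hA
  have hZe : IsElementaryAbelian p (Subgroup.zpowers z) := by
    refine ⟨inferInstance, ?_⟩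
    rintro _ ⟨m, rfl⟩
    show (z ^ m) ^ p = 1
    rw [← zpow_natCast, ← zpow_mul, mul_comm, zpow_mul, zpow_natCast, ← hzo, pow_orderOf_eq_one, one_zpow]
  have hcomm : X ≤ Subgroup.centralizer (Subgroup.zpowers z : Set G) := fun x hx =>
    Subgroup.mem_centralizer_iff.mpr fun y hy =>
      (Subgroup.mem_centralizer_iff.mp ((Subgroup.zpowers_le.mpr hzC) hy) x (hXT hx)).symm
  have hAe : IsElementaryAbelian p A := PLocal.ThompsonSubgroup.IsElementaryAbelian.sup hXe hZe hcomm
  have hAM : A ≤ M := sup_le hXM (Subgroup.zpowers_le.mpr (Subgroup.map_subtype_le _ hzT))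
  obtain ⟨n, hn⟩ := (Components.Hyperplane.isPGroup hAe).exists_card_eq
  have hAX : X < A := lt_of_le_of_ne le_sup_left fun e => hzX (by
    rw [e]; exact Subgroup.mem_sup_right (Subgroup.mem_zpowers z))
  have hlt := OddLocal.Sigma.card_lt_of_lt hAX
  rw [hX, hn] at hlt
  have hn1 : 1 < n := (Nat.pow_lt_pow_iff_right hpp.one_lt).mp (by rwa [pow_one])
  have hn2 : n ≤ 2 := by
    have h := hr2 (A.subgroupOf M)
      ⟨⟨fun a b => Subtype.ext (Subtype.ext (Components.Hyperplane.mem_comm hAe a.2 b.2))⟩⟩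
      (fun a ha => Subtype.ext (hAe.2 _ ha))
    rw [Nat.card_congr (Subgroup.subgroupOfEquivOfLe hAM).toEquiv, hn] at h
    exact (Nat.pow_le_pow_iff_right hpp.one_lt).mp h
  have hAc : Nat.card A = p ^ 2 := by rw [hn, show n = 2 by omega]
  have hr1 : ¬ PRankLE p 1 M := OddLocal.Unique.not_pRankLE_of_elementary hAM hAe hAc.ge
  exact ⟨⟨hr2, hr1⟩, (S1408.result hG M hM p hp hr2 hr1).1, A, hAe, hAc, le_sup_left⟩

end Cfsg.Agent.S1409
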