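import Cfsg.Statements.S1417
import Cfsg.Agent.OddLocal.TauTwoNormal
-- import your own Cfsg.Agent.* helpers here

set_option autoImplicit false
open Cfsg

namespace Cfsg.Agent.S1417

/-- Let G be a minimal simple group of odd order, M a maximal subgroup, p ∈ τ₂(M) and A ≤ M elementary abelian of order p ^ 2. Then (a) M_σ is nilpotent; (b) every Sylow p-subgroup P of M is abelian, and if A ≤ P then the elements of P of order dividing p are exactly those of A and N_G(P) is not contained in M; (c) M normalizes M_σA; (d) M_σ ∩ C_G(A) = 1; (e) M_σ ∩ M* = 1 for every maximal subgroup M* ≠ M containing A; (f) M_σ ∩ C_G(A₁) = 1 for some subgroup A₁ ≤ A of order p. -/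
theorem result {G : Type*} [Group G] [Finite G] (hG : Cfsg.IsMinSimpleOddOrder G)
    (M : Subgroup G) (hM : IsCoatom M) (p : ℕ) [Fact p.Prime] (hp : p ∈ Cfsg.tau2 M) (A : Subgroup G) (hA : (A ≤ M ∧ Cfsg.IsElementaryAbelian p A ∧ Nat.card A = p ^ 2)) :
    Group.IsNilpotent (Cfsg.sigmaCore M) ∧
      (∀ P : Sylow p M, IsMulCommutative (P : Subgroup M) ∧
        (A ≤ (P : Subgroup M).map M.subtype →
          (∀ x ∈ (P : Subgroup M).map M.subtype, x ^ p = 1 ↔ x ∈ A) ∧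
          ¬ Subgroup.normalizer ((((P : Subgroup M).map M.subtype : Subgroup G)) : Set G) ≤ M)) ∧
      M ≤ Subgroup.normalizer ((Cfsg.sigmaCore M ⊔ A : Subgroup G) : Set G) ∧
      Cfsg.sigmaCore M ⊓ Subgroup.centralizer (A : Set G) = ⊥ ∧
      (∀ Mstar : Subgroup G, IsCoatom Mstar → Mstar ≠ M → A ≤ Mstar → Cfsg.sigmaCore M ⊓ Mstar = ⊥) ∧
      ∃ A₁ : Subgroup G, A₁ ≤ A ∧ Nat.card A₁ = p ∧ Cfsg.sigmaCore M ⊓ Subgroup.centralizer (A₁ : Set G) = ⊥ := by
  obtain ⟨hAM, hAe, hAc⟩ := hA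
  have h := OddLocal.TauTwo.Ctx.mk' hG hM hp hAM hAe hAc
  obtain ⟨E, hE, hAE⟩ := OddLocal.Compl.exists_compl_ge hG hM hAM fun q hq hd =>
    (show q = p from (Cores.isPi_iff_isPGroup A).mpr h.hA.isPGroup q hq hd) ▸ h.hσ
  refine ⟨h.sigmaCore_nilpotent, fun P => ⟨?_, fun hAP => ?_⟩, ?_, h.inf_centralizer,
    fun L hL hne hAL => h.sigma_inf hL hne hAL, ?_⟩
  · have := h.pgroup_comm (P.isPGroup'.map M.subtype) (Subgroup.map_subtype_le _)
    exact ⟨⟨fun x y => Subtype.ext (Subtype.ext (setLike_mul_comm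
      (s := (P : Subgroup M).map M.subtype) (Subgroup.mem_map_of_mem M.subtype x.2)
      (Subgroup.mem_map_of_mem M.subtype y.2)))⟩⟩
  · exact ⟨(OddLocal.TauTwo.sylow_structure hG hM hp h.hA P hAP).2.1,
      OddLocal.Sigma.normalizer_sylow_not_le h.hσ (h.hA.dvd_card.trans (Subgroup.card_dvd_of_le hAM)) P⟩
  · intro m hm
    obtain ⟨e, he, s, hs, rfl⟩ := hE.2.2.2 m hm
    refine mul_mem ?_ (Subgroup.le_normalizer (Subgroup.mem_sup_left hs))
    rw [← Transfer.Fusion.map_conj_eq_self_iff, Subgroup.map_sup,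
      Transfer.Fusion.map_conj_eq_self_iff.mpr (OddLocal.Sigma.le_normalizer_sigmaCore M (hE.1 he)),
      Transfer.Fusion.map_conj_eq_self_iff.mpr (h.le_normalizer_compl hE hAE he)]
  · obtain ⟨a, ha, ha1, hfix⟩ := h.exists_fpf h.good_sigma (k := ⊥)
      fun e => h.hA.ne_bot (le_bot_iff.mp e)
    refine ⟨Subgroup.zpowers a, Subgroup.zpowers_le.mpr ha,
      h.hA.card_zpowers ha fun e => ha1 (e ▸ one_mem _), ?_⟩
    rw [← le_bot_iff, ← hfix]
    exact inf_le_inf_left _ (Subgroup.centralizer_le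
      (Set.singleton_subset_iff.mpr (Subgroup.mem_zpowers a)))

end Cfsg.Agent.S1417
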