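import Cfsg.Statements.S1418
import Cfsg.Agent.OddLocal.TauTwoNormal
-- import your own Cfsg.Agent.* helpers here

set_option autoImplicit false
open Cfsg

namespace Cfsg.Agent.S1418

/-- Let G be a minimal simple group of odd order, M a maximal subgroup, E a complement to M_σ in M, p ∈ τ₂(M), and A ≤ E elementary abelian of order p ^ 2. Then A is normal in E and contains every subgroup of E of order p; C_G(A) ≤ M ∩ N_G(A) = E and N_G(A) is not contained in M; and for every subgroup X ≤ A of order p centralizing a non-identity element of M_σ, C_G(X) ≤ M and M is the unique maximal subgroup containing C_G(X). -/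
theorem result {G : Type*} [Group G] [Finite G] (hG : Cfsg.IsMinSimpleOddOrder G)
    (M : Subgroup G) (hM : IsCoatom M) (E : Subgroup G) (hE : Cfsg.IsComplIn E (Cfsg.sigmaCore M) M) (p : ℕ) [Fact p.Prime] (hp : p ∈ Cfsg.tau2 M) (A : Subgroup G) (hA : (A ≤ E ∧ Cfsg.IsElementaryAbelian p A ∧ Nat.card A = p ^ 2)) :
    (E ≤ Subgroup.normalizer (A : Set G) ∧ ∀ X : Subgroup G, X ≤ E → Nat.card X = p → X ≤ A) ∧
      (Subgroup.centralizer (A : Set G) ≤ M ⊓ Subgroup.normalizer (A : Set G) ∧ M ⊓ Subgroup.normalizer (A : Set G) = E ∧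
        ¬ Subgroup.normalizer (A : Set G) ≤ M) ∧
      ∀ X : Subgroup G, X ≤ A → Nat.card X = p → Cfsg.sigmaCore M ⊓ Subgroup.centralizer (X : Set G) ≠ ⊥ → (Subgroup.centralizer (X : Set G) ≤ M ∧ ∀ L : Subgroup G, IsCoatom L → Subgroup.centralizer (X : Set G) ≤ L → L = M) := by
  obtain ⟨hAE, hAe, hAc⟩ := hA
  have h := OddLocal.TauTwo.Ctx.mk' hG hM hp (hAE.trans hE.1) hAe hAc
  refine ⟨⟨h.le_normalizer_compl hE hAE, fun X hX hc x hx => h.mem_of_pow hE hAE (hX hx) ?_⟩,
    ⟨le_inf h.hCA (Subgroup.centralizer_le_normalizer _), h.inf_normalizer hE hAE, fun hle => ?_⟩,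
    fun X hX hc hne => ?_⟩
  · exact orderOf_dvd_iff_pow_eq_one.mp (hc ▸ Subgroup.orderOf_dvd_natCard X hx)
  · obtain ⟨n, hn, hnM⟩ := OddLocal.TauTwo.exists_not_mem hG hM hp h.hA h.hAM
    exact hnM (hle hn)
  · obtain ⟨a, ha, ha1⟩ := (Subgroup.bot_or_exists_ne_one X).resolve_left fun e => by
      rw [e, Subgroup.card_bot] at hc
      exact (Fact.out : p.Prime).ne_one hc.symm
    have hXa : Subgroup.zpowers a = X := Subgroup.eq_of_le_of_card_ge (Subgroup.zpowers_le.mpr ha)
      (by rw [hc, h.hA.card_zpowers (hX ha) ha1])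
    have heq : Subgroup.centralizer (X : Set G) = Subgroup.centralizer ({a} : Set G) := by
      rw [← hXa, Subgroup.zpowers_eq_closure, Subgroup.centralizer_closure]
    rw [heq] at hne ⊢
    exact ⟨h.good_centralizer_le h.good_sigma (hX ha) ha1 hne,
      fun L hL hCL => h.good_unique h.good_sigma (hX ha) hne hL hCL⟩

end Cfsg.Agent.S1418
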