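import Cfsg.Statements.S1375
import Cfsg.Agent.OddLocal.Signalizer
import Cfsg.Agent.OddLocal.KappaDecomp
-- import your own Cfsg.Agent.* helpers here

set_option autoImplicit false
open Cfsg

namespace Cfsg.Agent.S1375

/-- Let G be a minimal simple group of odd order, M a maximal subgroup, x ≠ 1 in M_σ with C_G(x) not contained in M. Then exactly one maximal subgroup N contains C_G(x); for it N_σ = N_F, C_{N_σ}(x) is a normal subgroup of C_G(x) complementing C_M(x), M ∩ N is a complement to N_σ in N, and for every standard factorisation N = K' U' N_σ one has U' ≠ 1 and x ∈ A(N) with x ∉ N_σ. -/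
theorem result {G : Type*} [Group G] [Finite G] (hG : Cfsg.IsMinSimpleOddOrder G)
    (M : Subgroup G) (hM : IsCoatom M) (x : G) (hx : x ∈ Cfsg.sigmaCore M) (hx1 : x ≠ 1) (hxM : ¬ Subgroup.centralizer ({x} : Set G) ≤ M) :
    ∃ N : Subgroup G, (IsCoatom N ∧ Subgroup.centralizer ({x} : Set G) ≤ N) ∧ (∀ L : Subgroup G, IsCoatom L → Subgroup.centralizer ({x} : Set G) ≤ L → L = N) ∧
        Cfsg.sigmaCore N = Cfsg.fittingHallOf N ∧
        Subgroup.centralizer ({x} : Set G) ≤ Subgroup.normalizer ((Cfsg.sigmaCore N ⊓ Subgroup.centralizer ({x} : Set G) : Subgroup G) : Set G) ∧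
        Cfsg.IsComplIn (M ⊓ Subgroup.centralizer ({x} : Set G)) (Cfsg.sigmaCore N ⊓ Subgroup.centralizer ({x} : Set G)) (Subgroup.centralizer ({x} : Set G)) ∧
        Cfsg.IsComplIn (M ⊓ N) (Cfsg.sigmaCore N) N ∧
        ∀ K' U' : Subgroup G, Cfsg.IsSigmaDecomposition N K' U' → U' ≠ ⊥ ∧ x ∈ Cfsg.sigmaA N U' ∧ x ∉ Cfsg.sigmaCore N := by
  obtain ⟨N, h⟩ := OddLocal.Signalizer.exists_sig hG hM hx hx1 hxM
  refine ⟨N, ⟨h.hN, h.hC⟩, h.uniq, OddLocal.SigmaParts.sigmaCore_eq_fittingHallOf hG h.hN h.nil,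
    h.normal, h.compl_centralizer, h.compl, fun K' U' hKU => ?_⟩
  obtain ⟨hxMN, hxN⟩ := Subgroup.mem_inf.mp (h.mem_inf hx)
  obtain ⟨c, hc, hc1, hxc⟩ := h.fixed
  have hκ : OddLocal.SigmaParts.IsPiEl {p | p ∉ kappa N} x := fun p hp hd hκ => by
    have := Fact.mk hp
    exact (h.htau p hp hd).2.2.2 (OddLocal.KappaStructure.rank_of_kappa hκ)
  refine ⟨fun e => ?_, ⟨⟨hxN, c, hc, hc1, hxc⟩, OddLocal.KappaDecomp.mem_sup_of_not_kappa hG h.hN hKU hxN hκ⟩,
    fun hxN' => ?_⟩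
  · obtain ⟨p, hp, hd⟩ := Nat.exists_prime_and_dvd (mt orderOf_eq_one_iff.mp hx1)
    have hpU := OddLocal.KappaDecomp.dvd_of_not hKU hp (hd.trans (N.orderOf_dvd_natCard hxN))
      (h.htau p hp hd).2.1 (hκ p hp hd)
    rw [e, Subgroup.card_bot] at hpU
    exact hp.not_dvd_one hpU
  · obtain ⟨p, hp, hd⟩ := Nat.exists_prime_and_dvd (mt orderOf_eq_one_iff.mp hx1)
    exact (h.htau p hp hd).2.1 (OddLocal.SigmaParts.mem_sigma_core hxN' p hp hd)

end Cfsg.Agent.S1375
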