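import Cfsg.Statements.S1436
import Cfsg.Agent.OddLocal.SigDisjoint
-- import your own Cfsg.Agent.* helpers here

set_option autoImplicit false
open Cfsg

namespace Cfsg.Agent.S1436

/-- Let G be a minimal simple group of odd order, M a maximal subgroup, x ≠ 1 in M_σ with C_G(x) ⊄ M, and N a maximal subgroup containing C_G(x). (a) If some prime of σ(N) divides the order of M, then κ(M) = ∅ and τ₂(M) = ∅. (b) If y ≠ 1 in M_σ has C_G(y) ⊄ M, N' is a maximal subgroup containing C_G(y), and gN'g⁻¹ = N for some g ∈ G, then mN'm⁻¹ = N for some m ∈ M. -/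
theorem result {G : Type*} [Group G] [Finite G] (hG : Cfsg.IsMinSimpleOddOrder G)
    (M : Subgroup G) (hM : IsCoatom M) (x : G) (hx : x ∈ Cfsg.sigmaCore M) (hx1 : x ≠ 1) (hxM : ¬ Subgroup.centralizer ({x} : Set G) ≤ M)
    (N : Subgroup G) (hN : IsCoatom N) (hxN : Subgroup.centralizer ({x} : Set G) ≤ N) :
    ((∃ p ∈ Cfsg.sigma N, p ∣ Nat.card M) → Cfsg.kappa M = ∅ ∧ Cfsg.tau2 M = ∅) ∧
      ∀ (y : G) (N' : Subgroup G) (g : G), y ∈ Cfsg.sigmaCore M → y ≠ 1 → ¬ Subgroup.centralizer ({y} : Set G) ≤ M → IsCoatom N' → Subgroup.centralizer ({y} : Set G) ≤ N' →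
        N'.map (MulAut.conj g).toMonoidHom = N → ∃ m ∈ M, N'.map (MulAut.conj m).toMonoidHom = N := by
  obtain ⟨N₀, h₀⟩ := OddLocal.Signalizer.exists_sig hG hM hx hx1 hxM
  obtain rfl := h₀.uniq N hN hxN
  refine ⟨fun ⟨p, hp, hpd⟩ => ⟨OddLocal.SigDisjoint.kappa_empty hG hM hx hx1 h₀ hp hpd,
    OddLocal.SigDisjoint.tau2_empty hG hM hx hx1 h₀ hp hpd⟩, ?_⟩
  intro y N' g hy hy1 hyM hN' hyN hconj
  have hconjmem : ∀ z : G, g * z * g⁻¹ ∈ M.map (MulAut.conj g).toMonoidHom ↔ z ∈ M := fun z => by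
    rw [OddLocal.SigmaParts.mem_conj_iff]; simp [mul_assoc]
  have hM' := OddLocal.Unique.isCoatom_map_conj hM g
  have hy' : g * y * g⁻¹ ∈ Cfsg.sigmaCore (M.map (MulAut.conj g).toMonoidHom) :=
    OddLocal.SigmaParts.mem_core_of_piEl hG hM' ((hconjmem y).mpr (OddLocal.Sigma.sigmaCore_le M hy))
      (fun p hp hd => by
        rw [OddLocal.SigmaParts.sigma_eq]
        exact OddLocal.SigmaParts.mem_sigma_core hy p hp (((MulAut.conj g).orderOf_eq y) ▸ hd))
  have hCy : Subgroup.centralizer ({g * y * g⁻¹} : Set G) =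
      (Subgroup.centralizer ({y} : Set G)).map (MulAut.conj g).toMonoidHom :=
    OddLocal.TauTwo.centralizer_map_conj y g
  have hC' : ¬ Subgroup.centralizer ({g * y * g⁻¹} : Set G) ≤ M.map (MulAut.conj g).toMonoidHom := fun hle =>
    hyM fun z hz => (hconjmem z).mp (hle (hCy.ge (Subgroup.mem_map_of_mem _ hz)))
  obtain ⟨N₁, h'⟩ := OddLocal.Signalizer.exists_sig hG hM' hy' (fun e => hy1 (conj_eq_one_iff.mp e)) hC'
  obtain rfl := h'.uniq N hN (by rw [hCy, ← hconj]; exact Subgroup.map_mono hyN)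
  obtain ⟨s, hs, hle⟩ := OddLocal.PType.exists_conj_le_hall_solvable
    (OddLocal.Transitivity.isSolvable_of_ne_top hG hN.1)
    (π := {p | p ∉ Cfsg.sigma N}) (D := M.map (MulAut.conj g).toMonoidHom ⊓ N)
    ⟨inf_le_right, fun p hp hd => OddLocal.Compl.not_sigma hG hN h'.compl hp hd, fun p hp hσ hd => hσ (by
      rw [OddLocal.Compl.relIndex_eq h'.compl] at hd
      exact OddLocal.Transitivity.isPi_piCoreOf (Cfsg.sigma N) N p hp hd)⟩
    (Y := M ⊓ N) inf_le_right (fun p hp hd => OddLocal.Compl.not_sigma hG hN h₀.compl hp hd)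
  have h1 := hle (h₀.mem_inf hx)
  rw [OddLocal.SigmaParts.mem_conj_iff] at h1
  have h2 := OddLocal.SigmaParts.mem_conj_iff.mp (Subgroup.mem_inf.mp h1).1
  obtain ⟨m, hm, he⟩ := OddLocal.Signalizer.fusion_core hG hM hx (g := (s * g)⁻¹)
    (by simpa [mul_assoc] using h2)
  have hc : s * g * m ∈ N := hxN (Subgroup.mem_centralizer_singleton_iff.mpr (by
    calc s * g * m * x = s * g * (m * x * m⁻¹) * m := by group
      _ = s * g * ((s * g)⁻¹ * x * (s * g)⁻¹⁻¹) * m := by rw [he]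
      _ = x * (s * g * m) := by group))
  have hgm : g * m ∈ N := by
    have := mul_mem (inv_mem hs) hc
    simpa [mul_assoc] using this
  refine ⟨m⁻¹, inv_mem hm, le_antisymm ?_ fun z hz => ?_⟩
  · rintro _ ⟨z, hz, rfl⟩
    have h3 : g * z * g⁻¹ ∈ N := hconj ▸ Subgroup.mem_map_of_mem _ hz
    show m⁻¹ * z * m⁻¹⁻¹ ∈ N
    have := mul_mem (mul_mem (inv_mem hgm) h3) hgm
    simpa [mul_assoc] using this
  · rw [OddLocal.SigmaParts.mem_conj_iff]
    have h3 : g * m * z * (g * m)⁻¹ ∈ N'.map (MulAut.conj g).toMonoidHom :=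
      hconj.symm ▸ mul_mem (mul_mem hgm hz) (inv_mem hgm)
    rw [OddLocal.SigmaParts.mem_conj_iff] at h3
    simpa [mul_assoc] using h3

end Cfsg.Agent.S1436
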