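import Cfsg.Statements.S1514
import Cfsg.Agent.OddChar.Signed
import Cfsg.Agent.OddChar.Isometry

set_option autoImplicit false
open Cfsg

namespace Cfsg.Agent.S1514

/-- Let S be a nonempty set of irreducible characters of the finite group L, closed under complex conjugation and containing no real-valued member, and τ a linear isometry on the integer combinations of S vanishing at 1, with values virtual characters of G vanishing at 1. Then there is a choice R making (S, τ, R) a coherence system. -/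
theorem result {L : Type*} [Group L] [Fintype L] {G : Type*} [Group G] [Fintype G] (S : Set (L → ℂ)) (hS : S.Nonempty) (hirr : ∀ χ ∈ S, Cfsg.IsIrrCharacter L χ) (hconj : ∀ χ ∈ S, Cfsg.conjFun χ ∈ S ∧ Cfsg.conjFun χ ≠ χ) (τ : (L → ℂ) → (G → ℂ)) (hτ : Cfsg.IsLinearIsometryOn (Cfsg.zspanOn S {1}ᶜ) τ) (hτ1 : ∀ α ∈ Cfsg.zspanOn S {1}ᶜ, τ α 1 = 0) : ∃ R : (L → ℂ) → Finset (G → ℂ), Cfsg.IsCoherenceSystem S τ R := by
  classical
  have hm : ∀ χ ∈ S, χ - Cfsg.conjFun χ ∈ Cfsg.zspanOn S {1}ᶜ := by
    intro χ hχ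
    refine OddChar.Isometry.mem_zspanOn_compl_one
      ((OddChar.Isometry.zS S).sub_mem (OddChar.Isometry.mem_zS hχ)
        (OddChar.Isometry.mem_zS (hconj χ hχ).1)) ?_
    obtain ⟨n, -, e⟩ := Characters.irr_one_pos (hirr χ hχ)
    simp [Cfsg.conjFun, e]
  have hin : ∀ φ ∈ S, ∀ χ ∈ S, Cfsg.classInner φ χ = if φ = χ then 1 else 0 := by
    intro φ hφ χ hχ
    split_ifs with h
    · rw [h, Characters.classInner_isIrr_self (hirr χ hχ)]
    · exact Characters.classInner_isIrr_ne (hirr φ hφ) (hirr χ hχ) h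
  have hex : ∀ χ, ∃ a b : Cfsg.IrrCharacter G, χ ∈ S →
      a ≠ b ∧ τ (χ - Cfsg.conjFun χ) = (a : G → ℂ) - (b : G → ℂ) := by
    intro χ
    by_cases hχ : χ ∈ S
    · have hn : Cfsg.classInner (τ (χ - Cfsg.conjFun χ)) (τ (χ - Cfsg.conjFun χ)) = 2 := by
        rw [hτ.2.2.1 _ (hm χ hχ) _ (hm χ hχ)]
        have hc := (hconj χ hχ).1
        simp only [Characters.classInner_sub_left, Characters.classInner_sub_right, hin _ hχ _ hχ,
          hin _ hc _ hc, hin _ hχ _ hc, hin _ hc _ hχ, if_pos, if_neg (hconj χ hχ).2,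
          if_neg (hconj χ hχ).2.symm]
        norm_num
      obtain ⟨a, b, h⟩ := OddChar.Lattice.norm_two_deg_zero (hτ.2.2.2 _ (hm χ hχ)) hn
        (hτ1 _ (hm χ hχ))
      exact ⟨a, b, fun _ => h⟩
    · exact ⟨Characters.trivIrr G, Characters.trivIrr G, fun h => absurd h hχ⟩
  choose a b hab using hex
  have hne : ∀ χ, ((a χ : G → ℂ)) ≠ -(b χ : G → ℂ) := by
    intro χ h
    obtain ⟨n, hn, e⟩ := Characters.irr_one_pos (a χ).2
    obtain ⟨m, hm', e'⟩ := Characters.irr_one_pos (b χ).2
    have := congrFun h 1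
    simp only [e, Pi.neg_apply, e'] at this
    have h2 : ((n + m : ℕ) : ℂ) = 0 := by push_cast; linear_combination this
    rw [Nat.cast_eq_zero] at h2
    omega
  have hneg : ∀ f g : G → ℂ, Cfsg.classInner f (-g) = -Cfsg.classInner f g := fun f g => by
    simp [Characters.classInner_def]
  refine ⟨fun χ => {(a χ : G → ℂ), -(b χ : G → ℂ)}, hS, fun χ hχ =>
    Characters.isCharacter_of_isIrr (hirr χ hχ), fun χ hχ => (hconj χ hχ).1,
    fun χ hχ => (hconj χ hχ).2, hτ, hτ1, fun χ hχ φ hφ h => by rw [hin χ hχ φ hφ, if_neg h],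
    ?_, ?_, ?_, ?_⟩
  · intro χ hχ f hf g hg
    simp only [Finset.mem_insert, Finset.mem_singleton] at hf hg
    have h1 := (hab χ hχ).1
    rcases hf with rfl | rfl <;> rcases hg with rfl | rfl <;>
      simp [Characters.classInner_neg_left, hneg, Characters.classInner_irr, h1, h1.symm, hne χ,
        (hne χ).symm]
  · intro χ _ f hf
    simp only [Finset.mem_insert, Finset.mem_singleton] at hf
    rcases hf with rfl | rfl
    · exact Characters.isGen_of_isCharacter (Characters.irr_isCharacter _)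
    · exact Characters.isGen_neg (Characters.isGen_of_isCharacter (Characters.irr_isCharacter _))
  · intro χ hχ
    rw [(hab χ hχ).2, Finset.sum_pair (hne χ), sub_eq_add_neg]
  · intro χ hχ φ hφ h1 h2 f hf g hg
    have hχ' := (hconj χ hχ).1
    have hφ' := (hconj φ hφ).1
    rw [hin φ hφ χ hχ] at h1
    rw [hin φ hφ _ hχ'] at h2
    have hn1 : φ ≠ χ := fun e => by simp [e] at h1
    have hn2 : φ ≠ Cfsg.conjFun χ := fun e => by simp [e] at h2
    have hcc : ∀ f : L → ℂ, Cfsg.conjFun (Cfsg.conjFun f) = f := fun f => by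
      funext x; simp [Cfsg.conjFun]
    have hn3 : Cfsg.conjFun φ ≠ χ := fun e => hn2 (by rw [← e, hcc])
    have hn4 : Cfsg.conjFun φ ≠ Cfsg.conjFun χ := fun e => hn1 (by rw [← hcc φ, e, hcc])
    have h0 := hτ.2.2.1 _ (hm φ hφ) _ (hm χ hχ)
    rw [(hab φ hφ).2, (hab χ hχ).2, OddChar.Lattice.inner_sub_sub] at h0
    simp only [Characters.classInner_sub_left, Characters.classInner_sub_right, hin _ hφ _ hχ,
      hin _ hφ _ hχ', hin _ hφ' _ hχ, hin _ hφ' _ hχ', if_neg hn1, if_neg hn2, if_neg hn3,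
      if_neg hn4, sub_zero] at h0
    rw [Int.cast_eq_zero] at h0
    have hA := (hab φ hφ).1
    have hB := (hab χ hχ).1
    have hall : a φ ≠ a χ ∧ a φ ≠ b χ ∧ b φ ≠ a χ ∧ b φ ≠ b χ := by
      by_cases p : a φ = a χ <;> by_cases q : a φ = b χ <;> by_cases r : b φ = a χ <;>
        by_cases t : b φ = b χ <;> first
          | exact ⟨p, q, r, t⟩
          | exact absurd (p.trans r.symm) hA
          | exact absurd (q.trans t.symm) hA
          | exact absurd (p.symm.trans q) hB
          | exact absurd (r.symm.trans t) hB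
          | (simp [p, q, r, t, hA, Ne.symm hA, hB, Ne.symm hB] at h0; done)
    obtain ⟨n1, n2, n3, n4⟩ := hall
    simp only [Finset.mem_insert, Finset.mem_singleton] at hf hg
    rcases hf with rfl | rfl <;> rcases hg with rfl | rfl <;>
      simp [Characters.classInner_neg_left, hneg, Characters.classInner_irr, n1, n2, n3, n4]

end Cfsg.Agent.S1514
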