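import Cfsg.Statements.S1523
import Cfsg.Agent.Lib.Characters.Counting
import Cfsg.Agent.Lib.Characters.Integrality
import Cfsg.Agent.Lib.Characters.Induction
import Cfsg.Agent.Lib.SmallSimple.Basic

set_option autoImplicit false
open Cfsg

namespace Cfsg.Agent.S1523

/-- Let G be a finite group, p a prime, P a Sylow p-subgroup whose underlying set is a TI-subset of G, with L the set normaliser of P of odd order. Let Z ≠ ⊥ be a subgroup of P, normal in L and central in P, such that the centralisers in L of any two non-identity elements of Z have the same order. If ψ is an irreducible character of G taking the same value at all non-identity elements of Z, then for z ∈ Z, z ≠ 1, the value ψ z is an integer n with Nat.card P dividing ψ(1) − n (as integers, ψ 1 being the degree). -/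
theorem result {G : Type*} [Group G] [Finite G] (p : ℕ) [Fact p.Prime] (P : Sylow p G) (hTI : Cfsg.IsTISubset ((P : Subgroup G) : Set G)) (hodd : Odd (Nat.card (Subgroup.normalizer ((P : Subgroup G) : Set G)))) (Z : Subgroup G) (hZ1 : Z ≠ ⊥) (hZP : Z ≤ P) (hZn : ∀ x ∈ Subgroup.normalizer ((P : Subgroup G) : Set G), ∀ z ∈ Z, x * z * x⁻¹ ∈ Z) (hZc : ∀ z ∈ Z, ∀ y ∈ (P : Subgroup G), z * y = y * z) (hCL : ∀ z ∈ Z, ∀ z' ∈ Z, z ≠ 1 → z' ≠ 1 → Nat.card ↥(Subgroup.normalizer ((P : Subgroup G) : Set G) ⊓ Subgroup.centralizer ({z} : Set G)) = Nat.card ↥(Subgroup.normalizer ((P : Subgroup G) : Set G) ⊓ Subgroup.centralizer ({z'} : Set G))) (ψ : G → ℂ) (hψ : Cfsg.IsIrrCharacter G ψ) (hconst : ∀ z ∈ Z, ∀ z' ∈ Z, z ≠ 1 → z' ≠ 1 → ψ z = ψ z') (z : G) (hz : z ∈ Z) (hz1 : z ≠ 1) : ∃ n d : ℤ, ψ z = n ∧ ψ 1 = d ∧ (Nat.card (P : Subgroup G) : ℤ) ∣ d - n := by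
  classical
  haveI := Fintype.ofFinite G
  have hp : p.Prime := Fact.out
  set N := Subgroup.normalizer ((P : Subgroup G) : Set G) with hN
  have hPN : (P : Subgroup G) ≤ N := Subgroup.le_normalizer
  haveI : Fintype Z := Fintype.ofFinite Z
  set c : ℂ := ψ z with hc
  have hval : ∀ w ∈ Z, w ≠ 1 → ψ w = c := fun w hw hw1 => hconst w hw z hz hw1 hz1
  obtain ⟨dn, hdn⟩ := Characters.char_one_nat (Characters.isCharacter_of_isIrr hψ)
  -- the value is an integer
  obtain ⟨n, hn⟩ : ∃ n : ℤ, c = n := by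
    obtain ⟨m, hm⟩ := Characters.classInner_gen_int
      (Characters.isGen_of_isCharacter
        (Characters.isCharacter_restrict Z (Characters.isCharacter_of_isIrr hψ)))
      (Characters.isGen_of_isCharacter (Characters.isCharacter_one (G := Z)))
    rw [Characters.classInner_def, inv_mul_eq_iff_eq_mul₀ Characters.natCard_ne_zero] at hm
    simp only [map_one, mul_one] at hm
    rw [← Finset.add_sum_erase _ _ (Finset.mem_univ (1 : Z)),
      Finset.sum_congr rfl fun (x : Z) hx => show ψ (x : G) = c from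
        hval x x.2 fun e => Finset.ne_of_mem_erase hx (Subtype.ext e),
      Finset.sum_const, nsmul_eq_mul, Finset.card_erase_of_mem (Finset.mem_univ _),
      Finset.card_univ, ← Nat.card_eq_fintype_card, OneMemClass.coe_one, hdn] at hm
    have hZ2 : 1 < Nat.card Z := Subgroup.one_lt_card_iff_ne_bot Z |>.2 hZ1
    have hq : c = (((m * Nat.card Z - dn : ℤ) : ℚ) / ((Nat.card Z - 1 : ℕ) : ℚ) : ℚ) := by
      push_cast
      rw [eq_div_iff (by exact_mod_cast (show Nat.card Z - 1 ≠ 0 by omega))]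
      linear_combination hm
    have hi := Characters.char_value_isIntegral (Characters.isCharacter_of_isIrr hψ) z
    rw [← hc, hq] at hi
    obtain ⟨k, hk⟩ := Characters.exists_int_of_isIntegral_ratCast hi
    exact ⟨k, hq.trans hk⟩
  -- fusion in `Z`
  have hfus : ∀ w ∈ Z, w ≠ 1 → ∀ g : G, g * w * g⁻¹ ∈ (P : Subgroup G) → g ∈ N := by
    intro w hw hw1 g hg
    by_contra hgN
    exact hw1 (hTI g hgN w (hZP hw) hg)
  -- the pairs that are not regular
  have hreg : ∀ w ∈ Z, w ≠ 1 → ∀ y, IsConj w y → y ∉ Z →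
      ∀ a ∈ (P : Subgroup G), a * y * a⁻¹ = y → a = 1 := by
    intro w hw hw1 y hy hyZ a ha hfix
    by_contra ha1
    have hyN : y ∈ N := by
      by_contra hyN
      refine ha1 (hTI y hyN a ha ?_)
      have : y * a = a * y := by
        conv_lhs => rw [← hfix]
        group
      rw [this, mul_inv_cancel_right]; exact ha
    obtain ⟨g, rfl⟩ := isConj_iff.1 hy
    obtain ⟨k, hk⟩ := P.2 ⟨w, hZP hw⟩
    have hk' : w ^ p ^ k = 1 := congrArg Subtype.val hk
    have hyp : IsPGroup p (Subgroup.zpowers (g * w * g⁻¹)) := by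
      obtain ⟨j, -, hj⟩ := (Nat.dvd_prime_pow hp).1 (orderOf_dvd_of_pow_eq_one
        (show (g * w * g⁻¹) ^ p ^ k = 1 by rw [conj_pow, hk', mul_one, mul_inv_cancel]))
      exact IsPGroup.of_card (n := j) (by rw [Nat.card_zpowers, hj])
    have hsup : IsPGroup p (Subgroup.zpowers (g * w * g⁻¹) ⊔ (P : Subgroup G) : Subgroup G) :=
      hyp.to_sup_of_normal_right' P.2 (Subgroup.zpowers_le.2 hyN)
    have hle := P.3 hsup le_sup_right
    have hyP : g * w * g⁻¹ ∈ (P : Subgroup G) :=
      hle ▸ Subgroup.mem_sup_left (Subgroup.mem_zpowers _)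
    exact hyZ (hZn g (hfus w hw hw1 g hyP) w hw)
  -- sums over a class
  let C : G → Finset G := fun b => Finset.univ.filter fun y => IsConj b y
  have hC : ∀ b, ∑ x : G, ψ (z * (x * b * x⁻¹)) =
      (Nat.card (Subgroup.centralizer ({b} : Set G)) : ℂ) * ∑ y ∈ C b, ψ (z * y) := by
    intro b
    rw [← Finset.sum_fiberwise_of_maps_to (g := fun x : G => x * b * x⁻¹)
      (t := C b) (fun x _ => Finset.mem_filter.2 ⟨Finset.mem_univ _, isConj_iff.2 ⟨x, rfl⟩⟩), Finset.mul_sum]
    refine Finset.sum_congr rfl fun y hy => ?_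
    rw [Finset.sum_congr rfl fun x hx => show ψ (z * (x * b * x⁻¹)) = ψ (z * y) by
      rw [(Finset.mem_filter.1 hx).2], Finset.sum_const, nsmul_eq_mul]
    congr 2
    rw [← SmallSimple.Basic.card_conjugating_eq_centralizer (Finset.mem_filter.1 hy).2,
      Nat.card_eq_fintype_card, Fintype.card_subtype]
  have hmod : ∀ w ∈ Z, w ≠ 1 → ∃ A : ℂ, IsIntegral ℤ A ∧
      ∑ y ∈ C w, ψ (z * y) =
        ∑ y ∈ (C w).filter (fun y => y ∈ Z), ψ (z * y) + (Nat.card (P : Subgroup G) : ℂ) * A := by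
    intro w hw hw1
    let X := {y : G // IsConj w y ∧ y ∉ Z}
    letI : MulAction (P : Subgroup G) X :=
      { smul := fun a y => ⟨(a : G) * y * (a : G)⁻¹, y.2.1.trans (isConj_iff.2 ⟨a, rfl⟩), fun h => y.2.2 (by
          have := hZn _ ((Subgroup.inv_mem _ (hPN a.2))) _ h
          simpa [mul_assoc] using this)⟩
        one_smul := fun y => Subtype.ext (by
          show ((1 : (P : Subgroup G)) : G) * y * ((1 : (P : Subgroup G)) : G)⁻¹ = y; simp)
        mul_smul := fun a b y => Subtype.ext (by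
          show ((a * b : (P : Subgroup G)) : G) * y * ((a * b : (P : Subgroup G)) : G)⁻¹ =
            (a : G) * ((b : G) * y * (b : G)⁻¹) * (a : G)⁻¹
          rw [Subgroup.coe_mul]; group) }
    haveI : Fintype X := Fintype.ofFinite X
    haveI := Fintype.ofFinite (MulAction.orbitRel.Quotient (P : Subgroup G) X)
    have horb : ∀ y : X, Nat.card (MulAction.orbit (P : Subgroup G) y) = Nat.card (P : Subgroup G) := by
      intro y
      rw [Nat.card_coe_set_eq, ← MulAction.index_stabilizer (P : Subgroup G) y,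
        show MulAction.stabilizer (P : Subgroup G) y = ⊥ from ?_, Subgroup.index_bot]
      rw [eq_bot_iff]
      intro a ha
      exact Subgroup.mem_bot.2 (Subtype.ext (hreg w hw hw1 y y.2.1 y.2.2 a a.2 (congrArg Subtype.val ha)))
    refine ⟨∑ q : MulAction.orbitRel.Quotient (P : Subgroup G) X, ψ (z * (q.out : G)),
      IsIntegral.sum _ fun q _ =>
        Characters.char_value_isIntegral (Characters.isCharacter_of_isIrr hψ) _, ?_⟩
    rw [← Finset.sum_filter_add_sum_filter_not (C w) (fun y => y ∈ Z)]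
    congr 1
    rw [show ∑ y ∈ (C w).filter (fun y => y ∉ Z), ψ (z * y) = ∑ y : X, ψ (z * (y : G)) from
      (Finset.sum_subtype _ (fun y => by simp [C]) (fun y => ψ (z * y))),
      ← Finset.sum_fiberwise_of_maps_to (g := fun y : X =>
        (Quotient.mk'' y : MulAction.orbitRel.Quotient (P : Subgroup G) X)) (t := Finset.univ)
        (fun _ _ => Finset.mem_univ _), Finset.mul_sum]
    refine Finset.sum_congr rfl fun q _ => ?_
    have hconst' : ∀ y ∈ Finset.univ.filter (fun y : X =>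
        (Quotient.mk'' y : MulAction.orbitRel.Quotient (P : Subgroup G) X) = q),
        ψ (z * (y : G)) = ψ (z * (q.out : G)) := by
      intro y hy
      have hrel : (MulAction.orbitRel (P : Subgroup G) X) y q.out := by
        rw [← Quotient.eq'', (Finset.mem_filter.1 hy).2, Quotient.out_eq']
      obtain ⟨a, ha⟩ := MulAction.orbitRel_apply.1 hrel
      rw [← ha]
      show ψ (z * ((a : G) * q.out * (a : G)⁻¹)) = _
      rw [← mul_assoc, ← mul_assoc, hZc z hz a a.2, mul_assoc (a : G)]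
      exact Characters.char_isClassFunction (Characters.isCharacter_of_isIrr hψ) _ _
    rw [Finset.sum_congr rfl hconst', Finset.sum_const, nsmul_eq_mul]
    congr 2
    rw [← horb q.out, Nat.card_eq_fintype_card, ← Fintype.card_subtype]
    refine Fintype.card_congr (Equiv.subtypeEquivRight fun y => ?_)
    rw [← MulAction.orbitRel_apply, ← Quotient.eq'', Quotient.out_eq']
  -- the two classes
  have hzi : z⁻¹ ∈ Z := Z.inv_mem hz
  have hzi1 : z⁻¹ ≠ 1 := inv_ne_one.2 hz1
  have hodd' : ∀ x : G, x ∈ N → Odd (orderOf x) := fun x hx =>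
    hodd.of_dvd_nat (Subgroup.orderOf_dvd_natCard _ hx)
  have hzN : z ∈ N := hPN (hZP hz)
  have hnc : ¬ IsConj z z⁻¹ := by
    intro h
    obtain ⟨g, hg⟩ := isConj_iff.1 h
    have hgN := hfus z hz hz1 g (hg ▸ (P : Subgroup G).inv_mem (hZP hz))
    have hg2 : Commute (g ^ 2) z := by
      have hi : g * z⁻¹ * g⁻¹ = z := by
        have := congrArg (·⁻¹) hg
        simpa [mul_assoc] using this
      show g ^ 2 * z = z * g ^ 2
      calc g ^ 2 * z = g * (g * z * g⁻¹) * g⁻¹ * g ^ 2 := by rw [pow_two]; group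
        _ = z * g ^ 2 := by rw [hg, hi]
    obtain ⟨j, hj⟩ := hodd' g hgN
    have hgz : Commute g z := by
      have h1 := hg2.pow_left (j + 1)
      have e : (g ^ 2) ^ (j + 1) = g := by
        rw [← pow_mul, show 2 * (j + 1) = 2 * j + 1 + 1 by ring, pow_succ, ← hj,
          pow_orderOf_eq_one, one_mul]
      rwa [e] at h1
    rw [hgz.eq, mul_inv_cancel_right] at hg
    have h2 : z ^ 2 = 1 := by rw [pow_two]; nth_rw 2 [hg]; rw [mul_inv_cancel]
    have h3 := orderOf_dvd_of_pow_eq_one h2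
    rcases (Nat.dvd_prime Nat.prime_two).1 h3 with e | e
    · exact hz1 (orderOf_eq_one_iff.1 e)
    · have := hodd' z hzN; rw [e] at this; exact (Nat.not_odd_iff_even.2 even_two) this
  have hcent : Subgroup.centralizer ({z⁻¹} : Set G) = Subgroup.centralizer ({z} : Set G) := by
    ext x
    rw [Subgroup.mem_centralizer_singleton_iff, Subgroup.mem_centralizer_singleton_iff]
    exact ⟨fun h => by simpa using (Commute.inv_right (show Commute x z⁻¹ from h)).eq,
      fun h => (Commute.inv_right (show Commute x z from h)).eq⟩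
  have heq : ∑ y ∈ C z, ψ (z * y) = ∑ y ∈ C z⁻¹, ψ (z * y) := by
    have h1 := hC z
    have h2 := hC z⁻¹
    rw [Characters.sum_mul_conjugates hψ] at h1 h2
    rw [hval z⁻¹ hzi hzi1] at h2
    rw [hcent] at h2
    exact mul_left_cancel₀ (Nat.cast_ne_zero.2 Nat.card_pos.ne') (h1.symm.trans h2)
  obtain ⟨A, hA, hA'⟩ := hmod z hz hz1
  obtain ⟨B, hB, hB'⟩ := hmod z⁻¹ hzi hzi1
  -- the parts inside `Z`
  have hZpart : ∀ b, ∑ y ∈ (C b).filter (fun y => y ∈ Z), ψ (z * y) =
      (((C b).filter (fun y => y ∈ Z)).card : ℂ) * c +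
        if IsConj b z⁻¹ then ψ 1 - c else 0 := by
    intro b
    have : ∀ y ∈ (C b).filter (fun y => y ∈ Z), ψ (z * y) = c + if y = z⁻¹ then ψ 1 - c else 0 := by
      intro y hy
      split_ifs with e
      · rw [e, mul_inv_cancel]; ring
      · rw [hval _ (Z.mul_mem hz (Finset.mem_filter.1 hy).2) fun h => e (eq_inv_of_mul_eq_one_right h)]
        ring
    rw [Finset.sum_congr rfl this, Finset.sum_add_distrib, Finset.sum_const, nsmul_eq_mul,
      Finset.sum_ite_eq']
    congr 1
    exact if_congr (by simp [C, hzi]) rfl rfl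
  have hcard : ((C z).filter (fun y => y ∈ Z)).card = ((C z⁻¹).filter (fun y => y ∈ Z)).card := by
    refine Finset.card_bij (fun y _ => y⁻¹) ?_ (fun a _ b _ e => inv_injective e) ?_
    · intro y hy
      simp only [C, Finset.mem_filter, Finset.mem_univ, true_and] at hy ⊢
      obtain ⟨g, rfl⟩ := isConj_iff.1 hy.1
      exact ⟨isConj_iff.2 ⟨g, by group⟩, Z.inv_mem hy.2⟩
    · intro y hy
      simp only [C, Finset.mem_filter, Finset.mem_univ, true_and] at hy ⊢
      obtain ⟨g, rfl⟩ := isConj_iff.1 hy.1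
      exact ⟨(g * z⁻¹ * g⁻¹)⁻¹, ⟨isConj_iff.2 ⟨g, by group⟩, Z.inv_mem hy.2⟩, inv_inv _⟩
  rw [hA', hB', hZpart, hZpart, if_neg hnc, if_pos (IsConj.refl _), hcard] at heq
  have hkey : ψ 1 - c = (Nat.card (P : Subgroup G) : ℂ) * (A - B) := by linear_combination -heq
  refine ⟨n, dn, hn, by rw [hdn, Int.cast_natCast], ?_⟩
  have hP0 : (Nat.card (P : Subgroup G) : ℚ) ≠ 0 := Nat.cast_ne_zero.2 Nat.card_pos.ne'
  have hq : A - B = ((((dn : ℤ) - n : ℤ) : ℚ) / (Nat.card (P : Subgroup G) : ℚ) : ℚ) := by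
    push_cast
    rw [eq_div_iff (Nat.cast_ne_zero.2 Nat.card_pos.ne'), mul_comm, ← hkey, hdn, hn]
  obtain ⟨k, hk⟩ := Characters.exists_int_of_isIntegral_ratCast (hq ▸ hA.sub hB)
  refine ⟨k, ?_⟩
  have hk0 : (((dn : ℤ) - n : ℤ) : ℚ) / (Nat.card (P : Subgroup G) : ℚ) = (k : ℚ) := by
    exact_mod_cast hk
  clear hk
  rename' hk0 => hk
  rw [div_eq_iff hP0] at hk
  have hk' : (((dn : ℤ) - n : ℤ) : ℚ) = (((Nat.card (P : Subgroup G) : ℤ) * k : ℤ) : ℚ) := by
    rw [hk]; push_cast; ring
  exact_mod_cast hk'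

end Cfsg.Agent.S1523
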