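import Cfsg.Statements.S1500
import Cfsg.Agent.OddChar.Dade.Sum

set_option autoImplicit false
open Cfsg

namespace Cfsg.Agent.S1500

/-- Under the Dade hypothesis for (A, L, H), let α be a class function of L vanishing outside A. Then (i) for every class function β of L vanishing outside A, the inner product over G of the Dade images of α and β equals the inner product of α and β over L; and (ii) for every class function χ of G and every function ψ on L whose value at each a ∈ A is the average of χ over the coset a·H(a), the inner product over G of the Dade image of α with χ equals the inner product over L of α with ψ. -/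
theorem result {G : Type*} [Group G] [Fintype G] (A : Set G) (L : Subgroup G) [Fintype L] (H : G → Subgroup G) (hD : Cfsg.DadeHypothesis A L H) (α : L → ℂ) (hα : Cfsg.IsClassFunction L α) (hαA : ∀ x : L, (x : G) ∉ A → α x = 0) : (∀ β : L → ℂ, Cfsg.IsClassFunction L β → (∀ x : L, (x : G) ∉ A → β x = 0) → Cfsg.classInner (Cfsg.dadeIsometry A L H α) (Cfsg.dadeIsometry A L H β) = Cfsg.classInner α β) ∧ (∀ (χ : G → ℂ) (ψ : L → ℂ), Cfsg.IsClassFunction G χ → (∀ a : L, (a : G) ∈ A → ψ a = (Nat.card (H a) : ℂ)⁻¹ * ∑ᶠ u ∈ (H a : Set G), χ (a * u)) → Cfsg.classInner (Cfsg.dadeIsometry A L H α) χ = Cfsg.classInner α ψ) := by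
  classical
  constructor
  · intro β hβ hβA
    refine OddChar.Dade.inner_eq hD hα hαA (OddChar.Dade.isClassFunction hD hβ) fun a ha => ?_
    rw [Finset.sum_congr rfl fun u hu => OddChar.Dade.apply_eq hD hβ ha (Finset.mem_filter.1 hu).2
      (x := 1) (g := (a : G) * u) (by simp), Finset.sum_const, nsmul_eq_mul]
    have hc : ((Finset.univ.filter fun u : G => u ∈ H a).card : ℂ) = (Nat.card (H a) : ℂ) := by
      rw [← Fintype.card_subtype, ← Nat.card_eq_fintype_card]
    rw [hc, ← mul_assoc, inv_mul_cancel₀ (Nat.cast_ne_zero.2 Nat.card_pos.ne'), one_mul]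
  · intro χ ψ hχ hψ
    refine OddChar.Dade.inner_eq hD hα hαA hχ fun a ha => ?_
    rw [hψ a ha, finsum_mem_eq_toFinset_sum]
    congr 1
    refine Finset.sum_congr ?_ fun _ _ => rfl
    ext u
    simp

end Cfsg.Agent.S1500
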