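import Cfsg.Statements.S1496
import Mathlib
import Cfsg.Agent.Lib.Coprime.Action

set_option autoImplicit false
open Cfsg

namespace Cfsg.Agent.S1496

/-- Let H be a subgroup of the finite group G and g an element normalising H whose order is coprime to the order of H. Then for every h ∈ H there are x ∈ H and c ∈ H commuting with g such that x * (h * g) * x⁻¹ = c * g. -/
theorem result {G : Type*} [Group G] [Finite G] (H : Subgroup G) (g : G) (hg : g ∈ Subgroup.normalizer (H : Set G)) (hcop : Nat.Coprime (orderOf g) (Nat.card H)) (h : G) (hh : h ∈ H) : ∃ x ∈ H, ∃ c ∈ H, c * g = g * c ∧ x * (h * g) * x⁻¹ = c * g := by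
  classical
  set n := orderOf g with hn
  set m := Nat.card H with hm
  set A := Subgroup.zpowers g with hA
  have hAH : A ≤ Subgroup.normalizer (H : Set G) := Subgroup.zpowers_le.2 hg
  set N := Subgroup.normalizer (H : Set G) with hN
  have hhN : h * g ∈ N := mul_mem (Subgroup.le_normalizer hh) hg
  let π : N →* N ⧸ H.subgroupOf N := QuotientGroup.mk' _
  have hker : ∀ (y : G) (hy : y ∈ N), π ⟨y, hy⟩ = 1 ↔ y ∈ H := fun y hy =>
    (QuotientGroup.eq_one_iff _).trans Subgroup.mem_subgroupOf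
  set x : N := ⟨h * g, hhN⟩ with hx
  set g' : N := ⟨g, hg⟩ with hg'
  have hπ : π x = π g' := by
    have : x = (⟨h, Subgroup.le_normalizer hh⟩ : N) * g' := rfl
    rw [this, map_mul, (hker h _).2 hh, one_mul]
  have hg'n : g' ^ n = 1 := Subtype.ext (by simp [hg', hn, pow_orderOf_eq_one])
  have hxn : (x : G) ^ n ∈ H := by
    have : π (x ^ n) = 1 := by rw [map_pow, hπ, ← map_pow, hg'n, map_one]
    exact (hker _ (x ^ n).2).1 this
  have hxnm : x ^ (n * m) = 1 := Subtype.ext (by
    rw [SubmonoidClass.coe_pow, pow_mul]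
    exact congrArg Subtype.val (pow_card_eq_one' (x := (⟨_, hxn⟩ : H))))
  obtain ⟨a, b, hab⟩ : ∃ a b : ℤ, (n : ℤ) * a + (m : ℤ) * b = 1 := by
    refine ⟨Nat.gcdA n m, Nat.gcdB n m, ?_⟩
    rw [← Nat.gcd_eq_gcd_ab, Nat.coprime_iff_gcd_eq_one.1 hcop, Nat.cast_one]
  set u : N := x ^ ((n : ℤ) * a) with hu
  set v : N := x ^ ((m : ℤ) * b) with hv
  have huv : u * v = x := by rw [hu, hv, ← zpow_add, hab, zpow_one]
  have huH : (u : G) ∈ H := by
    rw [hu, zpow_mul, zpow_natCast]
    simpa using H.zpow_mem hxn a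
  have hπv : π v = π g' := by
    have := congrArg π huv
    rwa [map_mul, (hker _ u.2).2 huH, one_mul, hπ] at this
  have hvn : v ^ n = 1 := by
    rw [hv, ← zpow_natCast, ← zpow_mul, show (m : ℤ) * b * n = ((n * m : ℕ) : ℤ) * b by push_cast; ring,
      zpow_mul, zpow_natCast, hxnm, one_zpow]
  set M := Subgroup.zpowers (v : G) with hM
  have hdiff : (v : G) * g⁻¹ ∈ H := by
    have : π (v * g'⁻¹) = 1 := by rw [map_mul, map_inv, hπv, mul_inv_cancel]
    exact (hker _ (v * g'⁻¹).2).1 this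
  have hHM : H ⊔ M = H ⊔ A := by
    refine le_antisymm (sup_le le_sup_left ?_) (sup_le le_sup_left ?_)
    · rw [hM, Subgroup.zpowers_le]
      have h2 := Subgroup.mul_mem_sup (T := A) hdiff (Subgroup.mem_zpowers g)
      rwa [inv_mul_cancel_right] at h2
    · rw [hA, Subgroup.zpowers_le]
      have h2 := Subgroup.mul_mem_sup (T := M) (H.inv_mem hdiff) (Subgroup.mem_zpowers (v : G))
      simpa using h2
  obtain ⟨k, hk, hkM⟩ := Cfsg.Agent.Coprime.exists_le_conj_smul (M := M) hAH
    (by rw [hA, Nat.card_zpowers]; exact hcop) (Or.inl inferInstance) hHM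
  have hg2 := hkM (Subgroup.mem_zpowers g)
  rw [Subgroup.mem_pointwise_smul_iff_inv_smul_mem, MulAut.smul_def, MulAut.inv_apply,
    MulAut.conj_symm_apply, hM, Subgroup.mem_zpowers_iff] at hg2
  obtain ⟨j, hj⟩ := hg2
  have hkv : k⁻¹ * g * k = (v : G) := by
    have h1 : π (v ^ j) = π g' := by
      have he : v ^ j = (⟨k, Subgroup.le_normalizer hk⟩ : N)⁻¹ * g' * ⟨k, Subgroup.le_normalizer hk⟩ :=
        Subtype.ext (by simpa using hj)
      rw [he, map_mul, map_mul, map_inv, (hker k _).2 hk, inv_one, one_mul, mul_one]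
    have h2 : v ^ (j - 1) = 1 := by
      have h3 : ((v ^ (j - 1) : N) : G) ∈ H := by
        refine (hker _ (v ^ (j - 1)).2).1 ?_
        rw [show π ⟨_, (v ^ (j - 1)).2⟩ = π (v ^ (j - 1)) from rfl, zpow_sub_one, map_mul, map_inv, h1, hπv,
          mul_inv_cancel]
      have h4 : orderOf ((v ^ (j - 1) : N) : G) = 1 := by
        refine Nat.eq_one_of_dvd_coprimes hcop ?_ (Subgroup.orderOf_dvd_natCard _ h3)
        rw [Subgroup.orderOf_coe]
        exact (orderOf_dvd_of_mem_zpowers (Subgroup.zpow_mem_zpowers v (j - 1))).trans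
          (orderOf_dvd_of_pow_eq_one hvn)
      rw [Subgroup.orderOf_coe] at h4
      exact orderOf_eq_one_iff.1 h4
    rw [zpow_sub_one, mul_inv_eq_one] at h2
    calc k⁻¹ * g * k = ((v ^ j : N) : G) := by simpa using hj.symm
      _ = (v : G) := by rw [h2]
  refine ⟨k, hk, k * (u : G) * k⁻¹, mul_mem (mul_mem hk huH) (inv_mem hk), ?_, ?_⟩
  · have hcomm : (u : G) * (v : G) = (v : G) * (u : G) := by
      have : u * v = v * u := by rw [hu, hv, ← zpow_add, ← zpow_add, add_comm]
      exact congrArg Subtype.val this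
    have hg3 : g = k * (v : G) * k⁻¹ := by rw [← hkv]; group
    rw [hg3]
    calc k * (u : G) * k⁻¹ * (k * (v : G) * k⁻¹) = k * ((u : G) * (v : G)) * k⁻¹ := by group
      _ = k * ((v : G) * (u : G)) * k⁻¹ := by rw [hcomm]
      _ = k * (v : G) * k⁻¹ * (k * (u : G) * k⁻¹) := by group
  · have hg3 : g = k * (v : G) * k⁻¹ := by rw [← hkv]; group
    have hx' : h * g = (u : G) * (v : G) := (congrArg Subtype.val huv).symm
    rw [hx']
    conv_rhs => rw [hg3]
    group

end Cfsg.Agent.S1496
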