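import Cfsg.Statements.S1498
import Mathlib

set_option autoImplicit false
open Cfsg

namespace Cfsg.Agent.S1498

/-- Under the Dade hypothesis for (A, L, H): for a ∈ A and x ∈ L, the subgroup attached to x * a * x⁻¹ is the conjugate of H a by x. -/
theorem result {G : Type*} [Group G] [Finite G] (A : Set G) (L : Subgroup G) (H : G → Subgroup G) (hD : Cfsg.DadeHypothesis A L H) (a : G) (ha : a ∈ A) (x : G) (hx : x ∈ L) : H (x * a * x⁻¹) = (H a).map (MulAut.conj x).toMonoidHom := by
  have key : ∀ b ∈ A, ∀ y ∈ L, ∀ u ∈ H b, y * u * y⁻¹ ∈ H (y * b * y⁻¹) := by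
    intro b hb y hy u hu
    set b' := y * b * y⁻¹ with hb'
    have hb'A : b' ∈ A := hD.conj_mem y hy b hb
    have hv : y * u * y⁻¹ ∈ Subgroup.centralizer ({b'} : Set G) := by
      rw [Subgroup.mem_centralizer_singleton_iff, hb']
      have hc : u * b = b * u := Subgroup.mem_centralizer_singleton_iff.1 (hD.le_centralizer b hb hu)
      calc y * u * y⁻¹ * (y * b * y⁻¹) = y * (u * b) * y⁻¹ := by group
        _ = y * (b * u) * y⁻¹ := by rw [hc]
        _ = y * b * y⁻¹ * (y * u * y⁻¹) := by group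
    have hle : L ⊓ Subgroup.centralizer ({b'} : Set G) ≤ Subgroup.normalizer (H b' : Set G) := by
      intro c hc
      rw [Subgroup.mem_normalizer_iff]
      intro w
      refine ⟨hD.conj_mem_H b' hb'A c hc.2 w, fun hw => ?_⟩
      simpa [mul_assoc] using hD.conj_mem_H b' hb'A c⁻¹ (inv_mem hc.2) _ hw
    rw [← hD.sup_eq b' hb'A, ← SetLike.mem_coe,
      Subgroup.coe_mul_of_right_le_normalizer_left (H b') _ hle] at hv
    obtain ⟨h, hh, c, hc, hhc⟩ := hv
    simp only [SetLike.mem_coe] at hh hc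
    have hmod : ∀ k : ℕ, (h * c) ^ k * (c ^ k)⁻¹ ∈ H b' := by
      intro k
      induction k with
      | zero => simp
      | succ k ih =>
        have e : (h * c) ^ (k + 1) * (c ^ (k + 1))⁻¹ =
            h * (c * ((h * c) ^ k * (c ^ k)⁻¹) * c⁻¹) := by
          rw [pow_succ' (h * c), pow_succ' c]; group
        rw [e]
        exact mul_mem hh (hD.conj_mem_H b' hb'A c hc.2 _ ih)
    have hpow : (h * c) ^ Nat.card (H b) = 1 := by
      have hu1 : u ^ Nat.card (H b) = 1 := congrArg Subtype.val (pow_card_eq_one' (x := (⟨u, hu⟩ : H b)))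
      rw [show h * c = y * u * y⁻¹ from hhc, conj_pow, hu1, mul_one, mul_inv_cancel]
    have hcm : c ^ Nat.card (H b) = 1 := by
      have h2 := hmod (Nat.card (H b))
      rw [hpow, one_mul, inv_mem_iff] at h2
      exact (Subgroup.mem_bot).1 (hD.inf_eq_bot b' hb'A ▸ ⟨h2, pow_mem hc (Nat.card (H b))⟩)
    have hco : orderOf c = 1 := Nat.eq_one_of_dvd_coprimes (hD.coprime b hb b' hb'A)
      (orderOf_dvd_of_pow_eq_one hcm)
      (Subgroup.orderOf_dvd_natCard _ hc)
    rw [orderOf_eq_one_iff] at hco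
    rw [← hhc, hco]
    simpa using hh
  ext v
  rw [Subgroup.mem_map]
  constructor
  · intro hv
    refine ⟨x⁻¹ * v * x, ?_, by simp [mul_assoc]⟩
    have := key (x * a * x⁻¹) (hD.conj_mem x hx a ha) x⁻¹ (inv_mem hx) v hv
    simpa [mul_assoc] using this
  · rintro ⟨u, hu, rfl⟩
    exact key a ha x hx u hu

end Cfsg.Agent.S1498
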