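import Cfsg.Statements.S1524
import Cfsg.Agent.OddChar.Coherence.SibleyMain

set_option autoImplicit false
open Cfsg

namespace Cfsg.Agent.S1524

/-- Let G be a finite group and H ≤ L subgroups with L of odd order, H ≠ ⊥ nilpotent and normal in L with a nontrivial complement W₁ in L (H ⊓ W₁ = ⊥, H ⊔ W₁ = L) acting on H without non-identity fixed points (L is a Frobenius group with kernel H), and suppose the underlying set of H is a TI-subset of G whose normaliser is L. Let S be the set of functions on L induced from the non-principal irreducible characters of H. Then (S, L minus 1, induction to G) is coherent. -/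
theorem result {G : Type*} [Group G] [Fintype G] (H L W₁ : Subgroup G) [Fintype L] (hodd : Odd (Nat.card L)) (hHL : H ≤ L) (hW₁L : W₁ ≤ L) (hH1 : H ≠ ⊥) (hW1 : W₁ ≠ ⊥) (hnil : Group.IsNilpotent H) (hHn : ∀ x ∈ L, ∀ h ∈ H, x * h * x⁻¹ ∈ H) (hinf : H ⊓ W₁ = ⊥) (hsup : H ⊔ W₁ = L) (hfpf : ∀ w ∈ W₁, w ≠ 1 → ∀ h ∈ H, w * h = h * w → h = 1) (hTI : Cfsg.IsTISubset (H : Set G)) (hN : Subgroup.normalizer (H : Set G) = L) : Cfsg.IsCoherent (Cfsg.inducedIrrAbove (H.subgroupOf L) ⊥) {1}ᶜ (fun α : L → ℂ => Cfsg.indFun L α) := by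
  subst hN
  have hC : ∀ k ∈ H, k ≠ 1 → Subgroup.centralizer ({k} : Set G) ≤ H := by
    intro k hk hk1 x hx
    rw [Subgroup.mem_centralizer_singleton_iff] at hx
    have hxL : x ∈ Subgroup.normalizer (H : Set G) := by
      by_contra h
      refine hk1 (hTI x h k hk ?_)
      rw [hx, mul_inv_cancel_right]; exact hk
    have hn : W₁ ≤ Subgroup.normalizer (H : Set G) := hW₁L
    rw [← hsup] at hxL
    obtain ⟨u, hu, w, hw, rfl⟩ : ∃ u ∈ H, ∃ w ∈ W₁, u * w = x := by
      rw [← SetLike.mem_coe, Subgroup.coe_mul_of_right_le_normalizer_left H W₁ hn] at hxL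
      obtain ⟨u, hu, w, hw, h⟩ := hxL
      exact ⟨u, hu, w, hw, h⟩
    by_cases hw1 : w = 1
    · rw [hw1, mul_one]; exact hu
    exfalso
    haveI := Fintype.ofFinite H
    let f : H → H := fun a => ⟨(a : G) * (w * (a : G)⁻¹ * w⁻¹),
      H.mul_mem a.2 (hHn w (hn hw) _ (H.inv_mem a.2))⟩
    have hf : Function.Injective f := fun a b hab => by
      have h : (a : G) * (w * (a : G)⁻¹ * w⁻¹) = (b : G) * (w * (b : G)⁻¹ * w⁻¹) :=
        congrArg Subtype.val hab
      have h2 : w * ((b : G)⁻¹ * a) = ((b : G)⁻¹ * a) * w := by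
        have h3 : (b : G)⁻¹ * ((a : G) * (w * (a : G)⁻¹ * w⁻¹)) * (w * a) =
            (b : G)⁻¹ * ((b : G) * (w * (b : G)⁻¹ * w⁻¹)) * (w * a) := by rw [h]
        simp only [mul_assoc, inv_mul_cancel_left, inv_mul_cancel, mul_one] at h3
        rw [mul_assoc]; exact h3.symm
      have h4 := hfpf w hw hw1 _ (H.mul_mem (H.inv_mem b.2) a.2) h2
      exact Subtype.ext (inv_mul_eq_one.1 h4).symm
    obtain ⟨a, ha⟩ := (Finite.injective_iff_surjective.1 hf) ⟨u, hu⟩
    have ha' : u = (a : G) * (w * (a : G)⁻¹ * w⁻¹) := (congrArg Subtype.val ha).symm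
    have hxa : u * w = (a : G) * w * (a : G)⁻¹ := by rw [ha']; group
    rw [hxa] at hx
    have hk' : (a : G)⁻¹ * k * a ∈ H := H.mul_mem (H.mul_mem (H.inv_mem a.2) hk) a.2
    have := hfpf w hw hw1 _ hk' (by
      calc w * ((a : G)⁻¹ * k * a) = (a : G)⁻¹ * ((a : G) * w * (a : G)⁻¹ * k) * a := by group
        _ = (a : G)⁻¹ * (k * ((a : G) * w * (a : G)⁻¹)) * a := by rw [hx]
        _ = (a : G)⁻¹ * k * a * w := by group)
    apply hk1
    calc k = (a : G) * ((a : G)⁻¹ * k * a) * (a : G)⁻¹ := by group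
      _ = 1 := by rw [this, mul_one, mul_inv_cancel]
  have hlt : H < Subgroup.normalizer (H : Set G) := by
    refine lt_of_le_of_ne Subgroup.le_normalizer fun e => hW1 ?_
    have h : W₁ ≤ H := hW₁L.trans e.symm.le
    rw [eq_bot_iff, ← hinf]
    exact le_inf h le_rfl
  haveI : (H.subgroupOf (Subgroup.normalizer (H : Set G))).Normal := Subgroup.normal_in_normalizer
  rw [OddChar.Coherence.TI.inducedIrrAbove_eq _ _
    (OddChar.Coherence.Sibley.cent_transfer H _ hC)]
  have hoddH : Odd (Nat.card H) := hodd.of_dvd_nat (Subgroup.card_dvd_of_le hHL)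
  rcases OddChar.Coherence.Sibley.feit_sibley H hC hH1 hnil hTI hlt with
    ⟨-, h2, -⟩ | ⟨h2, -⟩ | h
  · exfalso
    have hi := hodd.of_dvd_nat (H.subgroupOf (Subgroup.normalizer (H : Set G))).index_dvd_card
    rw [Nat.odd_iff] at hi hoddH
    omega
  · exfalso
    have h1 : 1 < Nat.card H := Subgroup.one_lt_card_iff_ne_bot H |>.2 hH1
    rw [h2] at hoddH h1
    rcases Nat.eq_zero_or_pos ((Nat.card G).factorization 2) with h | h
    · rw [h] at h1; simp at h1
    · exact (Nat.not_odd_iff_even.2 (even_iff_two_dvd.2 (dvd_pow_self 2 h.ne'))) hoddH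
  · exact h

end Cfsg.Agent.S1524
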