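import Cfsg.Statements.S1387
import Cfsg.Agent.OddLocal.Basics

set_option autoImplicit false
open Cfsg

namespace Cfsg.Agent.S1387

/-- Let M be a subgroup of a finite group G with type-P data (W₁, U, W₂) and H = M_F. Then the Fitting subgroup F(M) is generated by H and the centralizer of H in U. -/
theorem result {G : Type*} [Group G] [Finite G] (M W₁ U W₂ : Subgroup G) (hP : Cfsg.IsTypePWith M W₁ U W₂) :
    Cfsg.fittingOf M = Cfsg.fittingHallOf M ⊔ (U ⊓ Subgroup.centralizer (Cfsg.fittingHallOf M : Set G)) := by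
  set H := Cfsg.fittingHallOf M with hH
  have hHM : H ≤ M := OddLocal.Basics.fittingHallOf_le M
  rw [← hP.fitting_eq]
  refine le_antisymm (sup_le le_sup_left ?_) (sup_le_sup_left ?_ _)
  · intro c hc
    have hcD : c ∈ ⁅M, M⁆ := hP.fitting_le (hP.fitting_eq ▸ Subgroup.mem_sup_right hc)
    obtain ⟨hHD, hUD, hHU, hfac⟩ := hP.U_compl
    obtain ⟨h, hh, u, hu, rfl⟩ := hfac c hcD
    have hcop : (Nat.card U).Coprime (Nat.card H) := by
      have hDM : ⁅M, M⁆ ≤ M := M.commutator_le_self
      have e := OddLocal.Basics.card_eq_of_isCompl' hHD hUD hHU hfac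
      have e2 : Nat.card H * H.relIndex ⁅M, M⁆ = Nat.card ↥⁅M, M⁆ := by
        rw [← Subgroup.relIndex_bot_left, ← Subgroup.relIndex_bot_left]
        exact Subgroup.relIndex_mul_relIndex ⊥ H _ bot_le hHD
      have e3 : H.relIndex ⁅M, M⁆ = Nat.card U :=
        Nat.eq_of_mul_eq_mul_left Nat.card_pos (e2.trans e)
      have e4 : Nat.card U ∣ H.relIndex M :=
        e3 ▸ ⟨_, (Subgroup.relIndex_mul_relIndex H ⁅M, M⁆ M hHD hDM).symm⟩
      exact ((OddLocal.Basics.fittingHallOf_coprime M).coprime_dvd_right e4).symm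
    have hcC : ∀ z ∈ H, z * (h * u) = h * u * z := Subgroup.mem_centralizer_iff.mp hc.2
    have hk1 : h ^ Nat.card H = 1 := by
      have := pow_card_eq_one' (x := (⟨h, hh⟩ : H))
      exact congrArg Subtype.val this
    have hcomm : Commute h⁻¹ (h * u) := (show Commute h (h * u) from hcC h hh).inv_left
    have hpow : u ^ Nat.card H = (h * u) ^ Nat.card H := by
      have e : u = h⁻¹ * (h * u) := by group
      conv_lhs => rw [e]
      rw [hcomm.mul_pow, inv_pow, hk1, inv_one, one_mul]
    have huC : u ∈ Subgroup.centralizer (H : Set G) := by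
      have h1 : u ^ Nat.card H ∈ Subgroup.centralizer (H : Set G) := by
        rw [hpow]; exact pow_mem hc.2 _
      have h3 : (Nat.card (Subgroup.zpowers u)).Coprime (Nat.card H) :=
        Nat.Coprime.coprime_dvd_left (Subgroup.card_dvd_of_le (Subgroup.zpowers_le.mpr hu)) hcop
      rw [Nat.card_zpowers] at h3
      obtain ⟨m, hm⟩ := exists_pow_eq_self_of_coprime h3.symm
      rw [← hm]; exact pow_mem h1 m
    exact mul_mem (Subgroup.mem_sup_left hh) (Subgroup.mem_sup_right ⟨hu, huC⟩)
  · exact inf_le_inf_right _ (hP.U_compl.2.1.trans M.commutator_le_self)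

end Cfsg.Agent.S1387
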