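import Cfsg.Statements.S1388
import Cfsg.Agent.OddLocal.Basics
import Cfsg.Agent.S1387

set_option autoImplicit false
open Cfsg

namespace Cfsg.Agent.S1388

/-- Let M be a subgroup of a finite group G with type-P data (W₁, U, W₂) and H = M_F. Then the derived subgroup of U centralizes H, and if U ≠ 1 then U does not centralize H. -/
theorem result {G : Type*} [Group G] [Finite G] (M W₁ U W₂ : Subgroup G) (hP : Cfsg.IsTypePWith M W₁ U W₂) :
    ⁅U, U⁆ ≤ Subgroup.centralizer (Cfsg.fittingHallOf M : Set G) ∧ (U ≠ ⊥ → ¬ U ≤ Subgroup.centralizer (Cfsg.fittingHallOf M : Set G)) := by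
  set H := Cfsg.fittingHallOf M with hH
  obtain ⟨hHD, hUD, hHU, hfac⟩ := hP.U_compl
  have hDM : ⁅M, M⁆ ≤ M := M.commutator_le_self
  have hF : Cfsg.fittingOf M = H ⊔ (U ⊓ Subgroup.centralizer (H : Set G)) := S1387.result M W₁ U W₂ hP
  have hMH : M ≤ Subgroup.normalizer (H : Set G) := by
    rw [hH, Cfsg.fittingHallOf]
    refine le_trans ?_ (Subgroup.le_normalizer_map M.subtype)
    rw [Subgroup.normalizer_eq_top, ← MonoidHom.range_eq_map, Subgroup.range_subtype]
  constructor
  · intro c hc
    have hcD : c ∈ ⁅⁅M, M⁆, ⁅M, M⁆⁆ := Subgroup.commutator_mono hUD hUD hc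
    have hcU : c ∈ U := U.commutator_le_self hc
    have hc2 : c ∈ H ⊔ (U ⊓ Subgroup.centralizer (H : Set G)) := by
      rw [← hF, ← hP.fitting_eq]; exact hP.derived_two_le hcD
    rw [sup_comm] at hc2
    obtain ⟨v, hv, h, hh, rfl⟩ := (OddLocal.Basics.mem_sup_of_normalizing
      (inf_le_left.trans ((hUD.trans hDM).trans hMH))).mp hc2
    have hhU : h ∈ U := (mul_mem_cancel_left (show v ∈ U from hv.1)).mp hcU
    have h1 : h = 1 := Subgroup.disjoint_def.mp (disjoint_iff.mpr hHU) hh hhU
    rw [h1, mul_one]; exact hv.2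
  · intro hU hUC
    apply hU
    have hUH : U ≤ H := by
      apply OddLocal.Basics.le_fittingHallOf (hUD.trans hDM) ?_ hP.U_nilpotent ?_
      · -- M normalizes U
        intro m hm
        obtain ⟨d, hd, w, hw, rfl⟩ := hP.W₁_compl.2.2.2 m hm
        refine mul_mem ?_ (hP.U_normal hw)
        obtain ⟨h, hh, u, hu, rfl⟩ := hfac d hd
        refine mul_mem (Subgroup.centralizer_le_normalizer (U : Set G) ?_) (Subgroup.le_normalizer hu)
        rw [Subgroup.mem_centralizer_iff]
        exact fun z hz => (Subgroup.mem_centralizer_iff.mp (hUC hz) h hh).symm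
      · -- U is a Hall subgroup of M
        have e := OddLocal.Basics.card_eq_of_isCompl' hHD hUD hHU hfac
        have eM := OddLocal.Basics.card_eq_of_isCompl' hP.W₁_compl.1 hP.W₁_compl.2.1
          hP.W₁_compl.2.2.1 hP.W₁_compl.2.2.2
        have lag : ∀ A B : Subgroup G, A ≤ B → Nat.card A * A.relIndex B = Nat.card B := by
          intro A B hAB
          rw [← Subgroup.relIndex_bot_left, ← Subgroup.relIndex_bot_left]
          exact Subgroup.relIndex_mul_relIndex ⊥ A B bot_le hAB
        have e2 : U.relIndex M = Nat.card H * Nat.card W₁ := by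
          apply Nat.eq_of_mul_eq_mul_left (n := Nat.card U) Nat.card_pos
          rw [lag U M (hUD.trans hDM), eM, e]; ring
        have e3 : H.relIndex ⁅M, M⁆ = Nat.card U :=
          Nat.eq_of_mul_eq_mul_left Nat.card_pos ((lag H _ hHD).trans e)
        have e4 : Nat.card U ∣ H.relIndex M :=
          e3 ▸ ⟨_, (Subgroup.relIndex_mul_relIndex H ⁅M, M⁆ M hHD hDM).symm⟩
        have e5 : W₁.relIndex M = Nat.card ↥⁅M, M⁆ :=
          Nat.eq_of_mul_eq_mul_left Nat.card_pos
            ((lag W₁ M hP.W₁_compl.2.1).trans (eM.trans (mul_comm _ _)))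
        have e6 : (Nat.card U).Coprime (Nat.card W₁) := by
          have := hP.W₁_hall
          rw [e5] at this
          exact (this.coprime_dvd_right (Subgroup.card_dvd_of_le hUD)).symm
        rw [e2]
        exact Nat.Coprime.mul_right
          ((OddLocal.Basics.fittingHallOf_coprime M).coprime_dvd_right e4).symm e6
    exact le_bot_iff.mp (hHU ▸ le_inf hUH le_rfl)

end Cfsg.Agent.S1388
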