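import Cfsg.Statements.S0205
import Cfsg.Agent.OddChar.TypeP.Pair.Unconditional

set_option autoImplicit false
open Cfsg

namespace Cfsg.Agent.S0205

/-- The Odd Order Theorem: a finite group of odd order is solvable. -/
theorem result {G : Type*} [Group G] [Finite G] (hG : Odd (Nat.card G)) : Group.IsSolvable G := by
  exact Cfsg.Agent.OddChar.TypeP.Pair.odd_order Cfsg.Agent.OddChar.TypeP.noTypeV Cfsg.Agent.OddChar.TypeP.TypeThree.typeThree Cfsg.Agent.OddChar.TypeP.chiefStatement_proof Cfsg.Agent.OddChar.TypeP.dichotomyStatement_proof Cfsg.Agent.OddChar.TypeP.Centralizer.centralizer Cfsg.Agent.OddChar.TypeP.Pair.exceptional_uncond Cfsg.Agent.OddChar.TypeP.Pair.normalizes_uncond hG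

end Cfsg.Agent.S0205
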