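import Cfsg.Statements.S0754

set_option autoImplicit false
open Cfsg

namespace Cfsg.Agent.S0754

/-- In a field F with q^2 elements, every non-zero μ with μ^q = μ (that is, μ in the subfield of order q) has exactly q + 1 solutions λ of λ^(q+1) = μ. -/
theorem result {F : Type*} [Field F] [Fintype F] {q : ℕ} (hF : Fintype.card F = q ^ 2) (μ : F) (hμ : μ ≠ 0) (hμq : μ ^ q = μ) : Nat.card {x : F // x ^ (q + 1) = μ} = q + 1 := by
  classical
  have hq : 1 < q ^ 2 := hF ▸ Fintype.one_lt_card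
  have hq1 : 1 ≤ q := by rcases q with _ | _ <;> simp_all
  obtain ⟨r, rfl⟩ : ∃ r, q = r + 1 := ⟨q - 1, by omega⟩
  have hcard : Nat.card Fˣ = r * (r + 1 + 1) := by
    rw [Nat.card_units, Nat.card_eq_fintype_card, hF]
    have : (r + 1) ^ 2 = r * (r + 1 + 1) + 1 := by ring
    omega
  set f : Fˣ →* Fˣ := powMonoidHom (r + 1 + 1) with hf
  have hker : Nat.card f.ker = r + 1 + 1 := by
    rw [hf, IsCyclic.card_powMonoidHom_ker, hcard, Nat.gcd_mul_left_left]
  have hrange : Nat.card f.range = r := by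
    rw [hf, IsCyclic.card_powMonoidHom_range, hcard, Nat.gcd_mul_left_left]
    simp
  have hker2 : Nat.card (powMonoidHom r : Fˣ →* Fˣ).ker = r := by
    rw [IsCyclic.card_powMonoidHom_ker, hcard, Nat.gcd_mul_right_left]
  have hle : f.range ≤ (powMonoidHom r : Fˣ →* Fˣ).ker := by
    rintro x ⟨y, rfl⟩
    simp only [MonoidHom.mem_ker, hf, powMonoidHom_apply, ← pow_mul]
    rw [mul_comm, ← hcard]
    exact pow_card_eq_one'
  have heq : f.range = (powMonoidHom r : Fˣ →* Fˣ).ker :=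
    Subgroup.eq_of_le_of_card_ge hle (by omega)
  have hμr : μ ^ r = 1 := by
    rw [pow_succ] at hμq
    exact mul_right_cancel₀ hμ (hμq.trans (one_mul μ).symm)
  obtain ⟨z, hz⟩ : Units.mk0 μ hμ ∈ f.range := by
    rw [heq, MonoidHom.mem_ker]
    ext
    simpa using hμr
  have hz' : (z : F) ^ (r + 1 + 1) = μ := congrArg Units.val hz
  have htoF : ∀ k : f.ker, ((k : Fˣ) * z : Fˣ).val ^ (r + 1 + 1) = μ := fun k => by
    have hk : ((k : Fˣ) : F) ^ (r + 1 + 1) = 1 := congrArg Units.val k.2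
    simp [mul_pow, hk, hz']
  have hne : ∀ x : {x : F // x ^ (r + 1 + 1) = μ}, (x : F) * (z : F)⁻¹ ≠ 0 := fun x => by
    refine mul_ne_zero (fun h => hμ ?_) (inv_ne_zero z.ne_zero)
    rw [← x.2, h, zero_pow (by omega)]
  have hinv : ∀ x : {x : F // x ^ (r + 1 + 1) = μ}, Units.mk0 _ (hne x) ∈ f.ker := fun x => by
    rw [MonoidHom.mem_ker]
    ext
    simp [hf, mul_pow, x.2, hz', hμ]
  refine Eq.trans ?_ hker
  exact Nat.card_congr
    { toFun := fun x => ⟨Units.mk0 _ (hne x), hinv x⟩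
      invFun := fun k => ⟨((k : Fˣ) * z : Fˣ), htoF k⟩
      left_inv := fun x => by ext; simp
      right_inv := fun k => by ext; simp }

end Cfsg.Agent.S0754
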