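import Cfsg.Statements.S0282
import Cfsg.Agent.Lib.Classical.UnitaryFrames
import Cfsg.Agent.Lib.Characters.Burnside

set_option autoImplicit false
open Cfsg

namespace Cfsg.Agent.S0282

/-- PSU_3(2) is a solvable group of order 72. -/
theorem result {F : Type*} [Field F] [Fintype F] (hF : Fintype.card F = 4) : Nat.card (Cfsg.PSU 3 F 2) = 72 ∧ Group.IsSolvable (Cfsg.PSU 3 F 2) := by
  have hF' : Fintype.card F = 2 ^ 2 := by rw [hF]; norm_num
  have h := Cfsg.Agent.Classical.Unitary.natCard_PSU_mul hF' (n := 3) (by norm_num)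
  rw [Cfsg.Agent.Classical.Unitary.natCard_GU hF'] at h
  norm_num [Finset.prod_range_succ, -Nat.card_eq_fintype_card] at h
  have h72 : Nat.card (Cfsg.PSU 3 F 2) = 72 := by omega
  exact ⟨h72, Cfsg.Agent.Characters.burnside_pa_qb (p := 2) (q := 3) (a := 3) (b := 2) Nat.prime_two
    Nat.prime_three h72⟩

end Cfsg.Agent.S0282
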