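import Cfsg.Statements.S0827
import Cfsg.Agent.Lib.Forms.SU32Data
import Cfsg.Agent.Lib.Classical.UnitaryBasic
import Cfsg.Agent.S0282
-- import your own Cfsg.Agent.* helpers here

set_option autoImplicit false
open Cfsg

namespace Cfsg.Agent.S0827

open Cfsg.Agent.Forms Cfsg.Agent.Classical

section eval

variable {F : Type*} [Field F] (ω : F)

/-- evaluation -/
def ev [CharP F 2] (x : SU32.E4) : F :=
  ZMod.castHom (dvd_refl 2) F x.1 + ZMod.castHom (dvd_refl 2) F x.2 * ω

variable [CharP F 2]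

/-- evaluation of rows -/
def evV (r : SU32.V3) : Fin 3 → F := ![ev ω r.1, ev ω r.2.1, ev ω r.2.2]

/-- evaluation of matrices -/
def evM (X : SU32.M3) : Matrix (Fin 3) (Fin 3) F :=
  Matrix.of ![evV ω X.1, evV ω X.2.1, evV ω X.2.2]

theorem ev_add (x y : SU32.E4) : ev ω (x + y) = ev ω x + ev ω y := by
  simp only [ev, Prod.fst_add, Prod.snd_add, map_add]
  ring

theorem ev_mul (hω : ω * ω = ω + 1) (x y : SU32.E4) : ev ω (SU32.mE x y) = ev ω x * ev ω y := by
  simp only [ev, SU32.mE, map_add, map_mul]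
  linear_combination -(ZMod.castHom (dvd_refl 2) F x.2 * ZMod.castHom (dvd_refl 2) F y.2) * hω

theorem ev_injective (hω : ω * ω = ω + 1) : Function.Injective (ev ω) := by
  have h2 : (2 : F) = 0 := CharTwo.two_eq_zero
  have hne : ∀ x : SU32.E4, ev ω x = 0 → x = 0 := by
    rintro ⟨a, b⟩ h
    have hab : ∀ a : ZMod 2, a = 0 ∨ a = 1 := by decide
    rcases hab a with rfl | rfl <;> rcases hab b with rfl | rfl <;>
      simp only [ev, map_zero, map_one, zero_mul, one_mul, add_zero, zero_add] at h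
    · rfl
    · exact absurd (by linear_combination (ω - 1) * h - hω : (1 : F) = 0) one_ne_zero
    · exact absurd h one_ne_zero
    · exact absurd (by linear_combination (ω - 2) * h - hω + (1 : F) * h2 : (1 : F) = 0) one_ne_zero
  intro x y h
  have : ev ω (x + y) = 0 := by rw [ev_add, h, CharTwo.add_self_eq_zero]
  have e := hne _ this
  have hxy : ∀ x y : SU32.E4, x + y = 0 → x = y := by decide
  exact hxy x y e

theorem evM_mul (hω : ω * ω = ω + 1) (X Y : SU32.M3) :
    evM ω (SU32.mulM X Y) = evM ω X * evM ω Y := by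
  ext i j
  fin_cases i <;> fin_cases j <;>
    simp [evM, evV, SU32.mulM, SU32.rowMul, Matrix.mul_apply, Fin.sum_univ_three, ev_add, ev_mul ω hω]

theorem evM_tr (X : SU32.M3) : evM ω (SU32.tr X) = (evM ω X).transpose := by
  ext i j
  fin_cases i <;> fin_cases j <;> simp [evM, evV, SU32.tr, Matrix.transpose_apply]

theorem evM_one : evM ω SU32.oneM = 1 := by
  ext i j
  fin_cases i <;> fin_cases j <;> simp [evM, evV, ev, SU32.oneM, SU32.o, SU32.l]

theorem evM_injective (hω : ω * ω = ω + 1) : Function.Injective (evM ω) := by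
  intro X Y h
  have e : ∀ i j, evM ω X i j = evM ω Y i j := fun i j => by rw [h]
  have hi := ev_injective ω hω
  obtain ⟨⟨a, b, c⟩, ⟨d, e', f⟩, ⟨g, k, n⟩⟩ := X
  obtain ⟨⟨a1, b1, c1⟩, ⟨d1, e1, f1⟩, ⟨g1, k1, n1⟩⟩ := Y
  have h00 := hi (e 0 0); have h01 := hi (e 0 1); have h02 := hi (e 0 2)
  have h10 := hi (e 1 0); have h11 := hi (e 1 1); have h12 := hi (e 1 2)
  have h20 := hi (e 2 0); have h21 := hi (e 2 1); have h22 := hi (e 2 2)
  simp only at h00 h01 h02 h10 h11 h12 h20 h21 h22
  rw [h00, h01, h02, h10, h11, h12, h20, h21, h22]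

end eval


/-- U_3(2) ≅ 3².Q_8: PSU_3(2) (form over the field with 4 elements) has a normal subgroup N which is elementary abelian of order 9 such that the quotient by N is isomorphic to the quaternion group of order 8. -/
theorem result {F : Type*} [Field F] [Fintype F] (hF : Fintype.card F = 4) : ∃ (N : Subgroup (Cfsg.PSU 3 F 2)) (_ : N.Normal), Nat.card N = 9 ∧ (∀ x ∈ N, x ^ 3 = 1) ∧ Nonempty (Cfsg.PSU 3 F 2 ⧸ N ≃* QuaternionGroup 2) := by
  classical
  haveI : CharP F 2 := by
    obtain ⟨p, hp⟩ := CharP.exists F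
    haveI := hp
    haveI : Fact p.Prime := ⟨CharP.char_is_prime F p⟩
    obtain ⟨n, -, hn⟩ := FiniteField.card F p
    have : p ∣ 2 ^ 2 := by rw [show 2 ^ 2 = 4 from rfl, ← hF, hn]; exact dvd_pow_self p n.ne_zero
    have hp2 := (Nat.prime_dvd_prime_iff_eq (Fact.out : p.Prime) Nat.prime_two).1
      ((Fact.out : p.Prime).dvd_of_dvd_pow this)
    subst hp2
    exact hp
  have hF' : Fintype.card F = 2 ^ 2 := by rw [hF]; norm_num
  obtain ⟨ω, hω0, hω1⟩ : ∃ ω : F, ω ≠ 0 ∧ ω ≠ 1 := by
    by_contra h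
    push Not at h
    have : (Finset.univ : Finset F) ⊆ {0, 1} := fun x _ => by
      by_cases hx : x = 0
      · simp [hx]
      · simp [h x hx]
    have := Finset.card_le_card this
    rw [Finset.card_univ, hF] at this
    have := this.trans Finset.card_le_two
    omega
  have hω : ω * ω = ω + 1 := by
    have h4 := FiniteField.pow_card ω
    rw [hF] at h4
    have h2 : (2 : F) = 0 := CharTwo.two_eq_zero
    have : ω * (ω - 1) * (ω * ω + ω + 1) = 0 := by linear_combination h4
    have := (mul_eq_zero.1 this).resolve_left (mul_ne_zero hω0 (sub_ne_zero.2 hω1))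
    linear_combination this - (ω + 1) * h2
  have hmem : ∀ i : Fin 216, SU32.mulM (SU32.tr (SU32.el i).1) (SU32.cj (SU32.el i).1) = SU32.oneM ∧
      SU32.det3 (SU32.el i).1 = SU32.l := by
    intro i
    have h := SU32.mem_table
    rw [List.all_eq_true] at h
    have := h (SU32.el i) (by
      rw [SU32.el, List.getD_eq_getElem _ _ (by rw [SU32.length_table]; exact i.2)]
      exact List.getElem_mem _)
    simpa using this
  have hcj : ∀ X, evM ω (SU32.cj X) = (evM ω X).map (HermStd.qHom hF') := by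
    intro X
    have hq : ∀ x : F, HermStd.qHom hF' x = x ^ 2 := fun x => rfl
    ext i j
    fin_cases i <;> fin_cases j <;> simp [evM, evV, SU32.cj, ev_mul ω hω, hq, pow_two]
  have hdet : ∀ i : Fin 216, (evM ω (SU32.el i).1).det = 1 := by
    intro i
    have h := congrArg (ev ω) (hmem i).2
    have hl : ev ω SU32.l = 1 := by simp [ev, SU32.l]
    have hs : ∀ a b : F, a - b = a + b := fun a b => CharTwo.sub_eq_add a b
    simp only [SU32.det3, ev_add, ev_mul ω hω, hl] at h
    rw [Matrix.det_fin_three]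
    simp only [evM, evV, Matrix.of_apply, Matrix.cons_val_zero, Matrix.cons_val_one, Matrix.cons_val, hs]
    linear_combination h
  let toSU : Fin 216 → Cfsg.SU 3 F 2 := fun i => Unitary.suMk (evM ω (SU32.el i).1) (hdet i)
    ((Unitary.preserves_iff hF' _).2 (by
      rw [← evM_tr, ← hcj, ← evM_mul ω hω, (hmem i).1, evM_one]))
  have hmat : ∀ i, Unitary.mat (toSU i) = evM ω (SU32.el i).1 := fun i => rfl
  have hext : ∀ a b : Cfsg.SU 3 F 2, Unitary.mat a = Unitary.mat b → a = b :=
    fun a b h => Unitary.SU_ext fun x => by rw [h]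
  have hinj : Function.Injective toSU := by
    intro i j h
    have e := evM_injective ω hω (congrArg Unitary.mat h)
    have hi : (i : ℕ) < (SU32.table.map Prod.fst).length := by
      rw [List.length_map, SU32.length_table]; exact i.2
    have hj : (j : ℕ) < (SU32.table.map Prod.fst).length := by
      rw [List.length_map, SU32.length_table]; exact j.2
    refine Fin.ext ((SU32.nodup_table.getElem_inj_iff (hi := hi) (hj := hj)).1 ?_)
    rw [List.getElem_map, List.getElem_map]
    rw [SU32.el, SU32.el, List.getD_eq_getElem _ _ (by rw [SU32.length_table]; exact i.2),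
      List.getD_eq_getElem _ _ (by rw [SU32.length_table]; exact j.2)] at e
    exact e
  have h72 := (S0282.result hF).1
  have h3 : Nat.card (Subgroup.center (Cfsg.SU 3 F 2)) = 3 := Unitary.natCard_center hF' (by norm_num)
  have hSU : Nat.card (Cfsg.SU 3 F 2) = 216 := by
    rw [Subgroup.card_eq_card_quotient_mul_card_subgroup (Subgroup.center (Cfsg.SU 3 F 2)), h3, h72]
  haveI : Fintype (Cfsg.SU 3 F 2) := Fintype.ofFinite _
  have hbij : Function.Bijective toSU := (Fintype.bijective_iff_injective_and_card _).2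
    ⟨hinj, by rw [Fintype.card_fin, ← Nat.card_eq_fintype_card, hSU]⟩
  set inv := Equiv.ofBijective toSU hbij with hinv
  let f : Cfsg.SU 3 F 2 → QuaternionGroup 2 := fun a => (SU32.el (inv.symm a)).2
  have hf : ∀ i, f (toSU i) = (SU32.el i).2 := fun i => by
    show (SU32.el (inv.symm (inv i))).2 = _
    rw [Equiv.symm_apply_apply]
  have hstep : ∀ g : ℕ, ∀ hg : g < 216, (g = SU32.gi.1 ∨ g = SU32.gi.2) → ∀ x,
      f (toSU ⟨g, hg⟩ * x) = (SU32.el g).2 * f x := by
    intro g hg hgg x
    obtain ⟨j, rfl⟩ := hbij.2 x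
    obtain ⟨k, hk, e1, e2⟩ : ∃ k, k < 216 ∧ (SU32.el k).1 = SU32.mulM (SU32.el g).1 (SU32.el j).1 ∧
        (SU32.el k).2 = (SU32.el g).2 * (SU32.el j).2 := by
      rcases hgg with rfl | rfl
      · exact ⟨_, SU32.nxt0_spec j j.2⟩
      · exact ⟨_, SU32.nxt1_spec j j.2⟩
    have : toSU ⟨g, hg⟩ * toSU j = toSU ⟨k, hk⟩ := by
      refine hext _ _ ?_
      rw [Unitary.mat_mul, hmat, hmat, hmat]
      show _ = evM ω (SU32.el k).1
      rw [e1, evM_mul ω hω]
    rw [this, hf, hf]
    exact e2
  have hone : ∀ h : 0 < 216, toSU ⟨0, h⟩ = 1 := fun h => hext _ _ (by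
    rw [hmat, Unitary.mat_one]
    show evM ω (SU32.el 0).1 = 1
    rw [SU32.el_zero, evM_one])
  have hmul : ∀ i : ℕ, ∀ hi : i < 216, ∀ x, f (toSU ⟨i, hi⟩ * x) = (SU32.el i).2 * f x := by
    intro i
    induction i using Nat.strong_induction_on with
    | _ i ih =>
      intro hi x
      rcases SU32.par_spec i hi with rfl | ⟨hs, h⟩
      · rw [hone, one_mul, SU32.el_zero]
        exact (one_mul _).symm
      · have hs' : (SU32.par.getD i (0, 0)).2 < 216 := hs.trans hi
        set s := (SU32.par.getD i (0, 0)).2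
        obtain ⟨g, hg, hgg, e1, e2⟩ : ∃ g, g < 216 ∧ (g = SU32.gi.1 ∨ g = SU32.gi.2) ∧
            (SU32.el i).1 = SU32.mulM (SU32.el g).1 (SU32.el s).1 ∧
            (SU32.el i).2 = (SU32.el g).2 * (SU32.el s).2 := by
          rcases h with ⟨-, e⟩ | ⟨-, e⟩
          · exact ⟨_, SU32.gi_lt.1, Or.inl rfl, e ▸ (SU32.nxt0_spec s hs').2⟩
          · exact ⟨_, SU32.gi_lt.2, Or.inr rfl, e ▸ (SU32.nxt1_spec s hs').2⟩
        have : toSU ⟨i, hi⟩ = toSU ⟨g, hg⟩ * toSU ⟨s, hs'⟩ := by
          refine hext _ _ ?_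
          rw [Unitary.mat_mul, hmat, hmat, hmat]
          show evM ω (SU32.el i).1 = _
          rw [e1, evM_mul ω hω]
        rw [this, mul_assoc, hstep g hg hgg, ih s hs hs', e2, mul_assoc]
  let φ : Cfsg.SU 3 F 2 →* QuaternionGroup 2 := MonoidHom.mk' f fun a b => by
    obtain ⟨⟨i, hi⟩, rfl⟩ := hbij.2 a
    rw [hmul i hi b, hf]
  have hall : ∀ i : Fin 216, SU32.el i ∈ SU32.table := fun i => by
    rw [SU32.el, List.getD_eq_getElem _ _ (by rw [SU32.length_table]; exact i.2)]
    exact List.getElem_mem _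
  have hsc : ∀ (X : SU32.M3) (a : F), evM ω X = a • (1 : Matrix (Fin 3) (Fin 3) F) →
      SU32.isScalar X = true := by
    intro X a h
    have ha : ev ω X.1.1 = a := by
      have := congrFun (congrFun h 0) 0
      simpa [evM, evV] using this
    refine decide_eq_true (evM_injective ω hω ?_)
    rw [h, ← ha]
    ext i j
    fin_cases i <;> fin_cases j <;> simp [evM, evV, ev, SU32.o]
  have hcen : Subgroup.center (Cfsg.SU 3 F 2) ≤ φ.ker := by
    intro z hz
    obtain ⟨a, ha⟩ := (Unitary.mem_center_iff hF' (by norm_num) z).1 hz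
    obtain ⟨i, rfl⟩ := hbij.2 z
    have h := List.all_eq_true.1 SU32.scalar_label _ (hall i)
    rw [hsc _ a ha] at h
    show f (toSU i) = 1
    rw [hf]
    simpa [← QuaternionGroup.one_def] using h
  let ψ : Cfsg.PSU 3 F 2 →* QuaternionGroup 2 := QuotientGroup.lift _ φ hcen
  have hψ : Function.Surjective ψ := by
    intro x
    obtain ⟨⟨X, y⟩, hy, rfl⟩ := List.mem_map.1 (SU32.label_surjective x)
    obtain ⟨k, hk, e⟩ := List.getElem_of_mem hy
    rw [SU32.length_table] at hk
    refine ⟨QuotientGroup.mk (toSU ⟨k, hk⟩), ?_⟩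
    show f (toSU ⟨k, hk⟩) = _
    rw [hf]
    show (SU32.el k).2 = _
    rw [SU32.el, List.getD_eq_getElem _ _ (by rw [SU32.length_table]; exact hk), e]
  have e := QuotientGroup.quotientKerEquivOfSurjective ψ hψ
  refine ⟨ψ.ker, inferInstance, ?_, ?_, ⟨e⟩⟩
  · have h := ψ.ker.card_mul_index
    rw [show ψ.ker.index = Nat.card (Cfsg.PSU 3 F 2 ⧸ ψ.ker) from rfl, Nat.card_congr e.toEquiv, h72,
      Nat.card_eq_fintype_card (α := QuaternionGroup 2), QuaternionGroup.card] at h
    omega
  · intro x hx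
    obtain ⟨a, rfl⟩ := QuotientGroup.mk_surjective x
    obtain ⟨i, rfl⟩ := hbij.2 a
    rw [← QuotientGroup.mk_pow, QuotientGroup.eq_one_iff, Unitary.mem_center_iff hF' (by norm_num)]
    have hl : (SU32.el i).2 = QuaternionGroup.a 0 := by
      rw [← hf]; exact hx
    have h := List.all_eq_true.1 SU32.cube_scalar _ (hall i)
    rw [hl] at h
    simp only [decide_true, Bool.not_true, Bool.false_or] at h
    set C := SU32.mulM (SU32.mulM (SU32.el i).1 (SU32.el i).1) (SU32.el i).1 with hC
    refine ⟨ev ω C.1.1, ?_⟩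
    rw [pow_succ, pow_two, Unitary.mat_mul, Unitary.mat_mul, hmat, ← evM_mul ω hω, ← evM_mul ω hω, ← hC]
    conv_lhs => rw [of_decide_eq_true h]
    ext r c
    fin_cases r <;> fin_cases c <;> simp [evM, evV, ev, SU32.o]

end Cfsg.Agent.S0827
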