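import Cfsg.Statements.S4438
import Cfsg.Agent.BlockCharsA.CoveringDefect

set_option autoImplicit false
set_option linter.style.haveILetI false
open Cfsg
open Cfsg.Agent.Blocks Cfsg.Agent.Characters Cfsg.Agent.BlockCharsA.NormalSupport Cfsg.Agent.BlockCharsA.CoveringDefect

namespace Cfsg.Agent.S4438

/-- Let N be a normal subgroup of the finite group G, b a block of N with defect group Q, and B a block of G covering b (some member of B has a constituent in b on restriction to N), all relative to a maximal ideal M of the algebraic integers containing p. Then B has a defect group P with P ⊓ N = Q. -/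
theorem result {G : Type*} [Group G] [Fintype G] (p : ℕ) [Fact p.Prime] (M : Ideal Cfsg.AlgInt) (hM : Cfsg.IsPModular p M) (N : Subgroup G) [hN : N.Normal] [Fintype N] (b : Set (Cfsg.IrrCharacter N)) (hb : Cfsg.IsPBlock M b) (Q : Subgroup G) (hQN : Q ≤ N) (hQ : Cfsg.IsDefectGroup p M b (Q.subgroupOf N)) (B : Set (Cfsg.IrrCharacter G)) (hB : Cfsg.IsPBlock M B) (hcov : (∃ χ ∈ B, ∃ θ ∈ b, Cfsg.classInner (fun n : N => (χ : G → ℂ) n) (θ : N → ℂ) ≠ 0)) : ∃ P : Subgroup G, Cfsg.IsDefectGroup p M B P ∧ P ⊓ N = Q := by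
  obtain ⟨P₀, hP₀⟩ := exists_defectGroup hM hB
  obtain ⟨hne, a, ha, hau⟩ := covering_data hM hB hb hcov hP₀
  obtain ⟨c', hc', hsub, hu⟩ := exists_block_coeff_unit hM (A := orbitSet (G := G) b)
    (fun η h η' hs => orbitSet_closed hM hb h hs) hau
  obtain ⟨g, hg⟩ := exists_conj_eq hM hb hc' hsub
  rw [blockCoeff_conj g hg] at hu
  have hP₁ := defectGroup_conj hM hP₀ g⁻¹
  have hR := defect_of_coeff hM hB hb hne hP₁ (a := ⟨g⁻¹ * a * g, by
      simpa using hN.conj_mem a a.2 g⁻¹⟩) (Subgroup.mem_centralizer_iff.2 fun x hx => by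
      obtain ⟨y, hy, rfl⟩ := Subgroup.mem_map.1 hx
      have h : y * (a : G) = a * y := Subgroup.mem_centralizer_iff.1 ha y hy
      show g⁻¹ * y * g⁻¹⁻¹ * (g⁻¹ * a * g) = g⁻¹ * a * g * (g⁻¹ * y * g⁻¹⁻¹)
      calc g⁻¹ * y * g⁻¹⁻¹ * (g⁻¹ * a * g) = g⁻¹ * (y * a) * g := by group
        _ = g⁻¹ * (a * y) * g := by rw [h]
        _ = _ := by group) hu
  obtain ⟨m, hm⟩ := exists_defectGroup_conj_eq hM hb hR hQ
  refine ⟨_, defectGroup_conj hM hP₁ (m : G), ?_⟩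
  set P₁ := P₀.map (MulAut.conj g⁻¹).toMonoidHom
  have key : ∀ (H : Subgroup G) (n : N), (n : G) ∈ H.map (MulAut.conj (m : G)).toMonoidHom ↔
      (m : G)⁻¹ * n * m ∈ H := fun H n =>
    ⟨fun ⟨y, hy, he⟩ => by
      rw [← he]; simpa [mul_assoc] using hy,
    fun h => ⟨_, h, by simp [mul_assoc]⟩⟩
  ext x
  constructor
  · rintro ⟨hx1, hx2⟩
    have h1 := (key P₁ ⟨x, hx2⟩).1 hx1
    have h2 : (⟨x, hx2⟩ : N) ∈ Q.subgroupOf N := by
      rw [hm]
      exact ⟨m⁻¹ * ⟨x, hx2⟩ * m, ⟨h1, show (m : G)⁻¹ * x * m ∈ N from N.mul_mem (N.mul_mem (inv_mem m.2) hx2) m.2⟩, Subtype.ext (by simp [mul_assoc])⟩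
    exact h2
  · intro hx
    have h2 : (⟨x, hQN hx⟩ : N) ∈ Q.subgroupOf N := hx
    rw [hm] at h2
    obtain ⟨y, hy, he⟩ := h2
    refine ⟨⟨(y : G), (Subgroup.mem_inf.1 hy).1, ?_⟩, hQN hx⟩
    exact congrArg Subtype.val he

end Cfsg.Agent.S4438
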