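import Cfsg.Statements.S0870
import Mathlib
import Cfsg.Agent.Lib.CharTheory.IndBasic

set_option autoImplicit false
open Cfsg
open Cfsg.Agent.CharTheory.IndBasic

namespace Cfsg.Agent.S0870

/-- For subgroups H and K of a finite group G, the pointwise product of the functions induced from the constant function 1 on H and on K is a sum, over subgroups U of H with natural-number coefficients, of the functions induced from the constant function 1 on U. -/
theorem result {G : Type*} [Group G] [Fintype G] (H K : Subgroup G) : ∃ a : Subgroup G → ℕ, (∀ U, a U ≠ 0 → U ≤ H) ∧ Cfsg.indFun H (fun _ => 1) * Cfsg.indFun K (fun _ => 1) = ∑ U : Subgroup G, (a U : ℂ) • Cfsg.indFun U (fun _ => 1) := by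
  classical
  set U : G ⧸ K → Subgroup G := fun c => H ⊓ MulAction.stabilizer G c with hU
  have hmap : ∀ (h : H) (c : G ⧸ K), U (h • c) = (U c).map (MulAut.conj (h : G)).toMonoidHom := by
    intro h c
    have hs : h • c = (h : G) • c := rfl
    simp only [hU]
    rw [hs, MulAction.stabilizer_smul_eq_stabilizer_map_conj]
    rw [Subgroup.map_inf _ _ _ (MulAut.conj (h : G)).injective]
    congr 1
    ext x
    simp only [Subgroup.mem_map, MulEquiv.coe_toMonoidHom, MulAut.conj_apply]
    constructor
    · intro hx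
      exact ⟨(h : G)⁻¹ * x * h, H.mul_mem (H.mul_mem (H.inv_mem h.2) hx) h.2, by simp [mul_assoc]⟩
    · rintro ⟨y, hy, rfl⟩
      exact H.mul_mem (H.mul_mem h.2 hy) (H.inv_mem h.2)
  refine ⟨fun V => Nat.card {w : MulAction.orbitRel.Quotient H (G ⧸ K) // U w.out = V},
    fun V hV => ?_, funext fun g => ?_⟩
  · obtain ⟨⟨w, rfl⟩, _⟩ := (Nat.card_ne_zero.mp hV)
    exact inf_le_left
  · have h0 : (Nat.card H : ℂ) ≠ 0 := Nat.cast_ne_zero.mpr Nat.card_pos.ne'
    have hR : (∑ V : Subgroup G, (Nat.card {w : MulAction.orbitRel.Quotient H (G ⧸ K) //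
        U w.out = V} : ℂ) • Cfsg.indFun V (fun _ => 1)) g =
        ∑ w : MulAction.orbitRel.Quotient H (G ⧸ K), Cfsg.indFun (U w.out) (fun _ => 1) g := by
      rw [Finset.sum_apply, ← Finset.sum_fiberwise Finset.univ
        (fun w : MulAction.orbitRel.Quotient H (G ⧸ K) => U w.out)]
      refine Finset.sum_congr rfl fun V _ => ?_
      rw [Finset.sum_congr rfl (g := fun _ => Cfsg.indFun V (fun _ => 1) g)
        (fun w hw => by rw [(Finset.mem_filter.mp hw).2]), Finset.sum_const,
        Nat.card_eq_fintype_card, Fintype.card_subtype]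
      simp
    rw [hR, Pi.mul_apply]
    have hL : (Nat.card H : ℂ) * (Cfsg.indFun H (fun _ => 1) g * Cfsg.indFun K (fun _ => 1) g) =
        ∑ c : G ⧸ K, (Nat.card (U c) : ℂ) * Cfsg.indFun (U c) (fun _ => 1) g := by
      simp_rw [card_mul_indFun]
      rw [← mul_assoc, card_mul_indFun, Finset.sum_mul, Finset.sum_comm]
      refine Finset.sum_congr rfl fun x _ => ?_
      rw [← indFun_inv_conj K (fun _ => 1) g x, indFun_one_eq_card_fixed, Nat.card_eq_fintype_card,
        Fintype.card_subtype, ← Finset.sum_boole, Finset.mul_sum]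
      refine Finset.sum_congr rfl fun c _ => ?_
      simp only [extendByZero_one, hU, Subgroup.mem_inf, MulAction.mem_stabilizer_iff]
      split_ifs <;> simp_all
    apply mul_left_cancel₀ h0
    rw [hL, Finset.mul_sum,
      ← Finset.sum_fiberwise Finset.univ (fun c => (⟦c⟧ : MulAction.orbitRel.Quotient H (G ⧸ K)))]
    refine Finset.sum_congr rfl fun w _ => ?_
    have hconst : ∀ c : G ⧸ K, (⟦c⟧ : MulAction.orbitRel.Quotient H (G ⧸ K)) = w →
        (Nat.card (U c) : ℂ) * Cfsg.indFun (U c) (fun _ => 1) g =
        (Nat.card (U w.out) : ℂ) * Cfsg.indFun (U w.out) (fun _ => 1) g := by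
      intro c hc
      have : (⟦c⟧ : MulAction.orbitRel.Quotient H (G ⧸ K)) = ⟦w.out⟧ :=
        hc.trans (Quotient.out_eq w).symm
      obtain ⟨h, hh⟩ := MulAction.orbitRel_apply.mp (Quotient.exact this)
      rw [← hh]
      simp only []
      rw [hmap, indFun_one_map_conj,
        Subgroup.card_map_of_injective (MulAut.conj (h : G)).injective]
    rw [Finset.sum_congr rfl (g := fun _ =>
      (Nat.card (U w.out) : ℂ) * Cfsg.indFun (U w.out) (fun _ => 1) g)
      (fun c hc => hconst c (Finset.mem_filter.mp hc).2), Finset.sum_const, nsmul_eq_mul, ← mul_assoc]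
    congr 1
    have horb : (Finset.univ.filter
        fun c => (⟦c⟧ : MulAction.orbitRel.Quotient H (G ⧸ K)) = w).card =
        Nat.card (MulAction.orbit H w.out) := by
      rw [Nat.card_eq_fintype_card, ← Fintype.card_subtype]
      refine Fintype.card_congr (Equiv.subtypeEquivRight fun c => ?_)
      conv_lhs => rw [← Quotient.out_eq w]
      exact ⟨fun h => MulAction.orbitRel_apply.mp (Quotient.exact h),
        fun h => Quotient.sound (MulAction.orbitRel_apply.mpr h)⟩
    have hstab : Nat.card (MulAction.stabilizer H w.out) = Nat.card (U w.out) := by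
      rw [← Subgroup.card_map_of_injective H.subtype_injective]
      congr 2
      congr 1
      ext x
      simp [hU, Subgroup.mem_map]
      exact ⟨fun ⟨hx, he⟩ => ⟨hx, he⟩, fun ⟨hx, he⟩ => ⟨hx, he⟩⟩
    rw [horb, ← hstab, ← Nat.cast_mul, Nat.card_eq_fintype_card, Nat.card_eq_fintype_card,
      Nat.card_eq_fintype_card, MulAction.card_orbit_mul_card_stabilizer_eq_card_group]

end Cfsg.Agent.S0870
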