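import Cfsg.Statements.S0873
import Mathlib
import Cfsg.Agent.Lib.Characters.Basic

set_option autoImplicit false
open Cfsg

namespace Cfsg.Agent.S0873

/-- Let C be a normal subgroup of the finite group G of order prime to p and P a p-subgroup with C ⊔ P = G. Let λ be a character of C of degree 1 invariant under conjugation by G and equal to 1 at every element of C centralized by P. Then λ is identically 1. -/
theorem result {G : Type*} [Group G] [Finite G] (p : ℕ) [Fact p.Prime] (C P : Subgroup G) [hC : C.Normal] (hP : IsPGroup p P) (hcop : Nat.Coprime (Nat.card C) p) (hCP : C ⊔ P = ⊤) (lam : C → ℂ) (hlam : Cfsg.IsCharacter C lam ∧ lam 1 = 1) (hinv : ∀ (g : G) (c : C), lam ⟨g * c * g⁻¹, hC.conj_mem (c : G) c.2 g⟩ = lam c) (hker : ∀ c : C, (c : G) ∈ Subgroup.centralizer (P : Set G) → lam c = 1) : lam = fun _ => 1 := by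
  classical
  have := Fintype.ofFinite G
  obtain ⟨hl, hl1⟩ := hlam
  let f : C →* ℂ :=
    { toFun := lam, map_one' := hl1,
      map_mul' := Cfsg.Agent.Characters.char_mul_of_degree_one hl hl1 }
  funext c
  let X := {x : C // f x = f c}
  -- `P` acts on the fibre through `c` by conjugation
  letI act : MulAction P X :=
    { smul := fun g x => ⟨⟨(g : G) * x.1 * (g : G)⁻¹, hC.conj_mem _ x.1.2 _⟩,
        (hinv g x.1).trans x.2⟩
      one_smul := fun x => Subtype.ext (Subtype.ext (by
        show ((1 : P) : G) * (x.1 : G) * ((1 : P) : G)⁻¹ = (x.1 : G); simp))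
      mul_smul := fun g h x => Subtype.ext (Subtype.ext (by
        show ((g * h : P) : G) * (x.1 : G) * ((g * h : P) : G)⁻¹ =
          (g : G) * ((h : G) * (x.1 : G) * (h : G)⁻¹) * (g : G)⁻¹
        simp [mul_assoc])) }
  have hunit : IsUnit (f c) := (Group.isUnit c).map f
  have hX : Nat.card X = Nat.card f.ker := by
    refine Nat.card_congr (Equiv.subtypeEquiv (Equiv.mulLeft c⁻¹) fun x => ?_)
    show f x = f c ↔ f (c⁻¹ * x) = 1
    constructor
    · intro h
      rw [map_mul, h, ← map_mul, inv_mul_cancel, map_one]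
    · intro h
      rw [← mul_inv_cancel_left c x, map_mul, h, mul_one]
  have hnd : ¬ p ∣ Nat.card X := by
    rw [hX]
    intro h
    have := Nat.eq_one_of_dvd_coprimes hcop (h.trans f.ker.card_subgroup_dvd_card) dvd_rfl
    exact (Fact.out : p.Prime).one_lt.ne' this
  obtain ⟨x, hx⟩ := hP.nonempty_fixed_point_of_prime_not_dvd_card X hnd
  have hcen : (x.1 : G) ∈ Subgroup.centralizer (P : Set G) := by
    refine Subgroup.mem_centralizer_iff.mpr fun g hg => ?_
    have h : (g : G) * (x.1 : G) * g⁻¹ = (x.1 : G) :=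
      congrArg (fun y : X => ((y.1 : C) : G)) (hx ⟨g, hg⟩)
    exact mul_inv_eq_iff_eq_mul.mp h
  exact (x.2.symm).trans (hker x.1 hcen)

end Cfsg.Agent.S0873
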