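import Cfsg.Statements.S4435
import Cfsg.Agent.Lib.Blocks.FongReynolds

set_option autoImplicit false
open Cfsg

namespace Cfsg.Agent.S4435
open Cfsg.Agent.Blocks Cfsg.Agent.Blocks.FongReynolds
/-- Let N be a normal subgroup of the finite group G, b a block of N (relative to a maximal ideal M of the algebraic integers containing p), and T the stabilizer of b in G (the elements g such that conjugating any member of b by g gives a member of b); N ≤ T. Say that a block of T (or of G) covers b when some member has a constituent in b on restriction to N. Then: (i) every block B′ of T covering b induces a block B of G, B covers b, every ψ ∈ B′ induces to an irreducible character of G, and B consists exactly of the characters induced from members of B′; (ii) distinct blocks of T covering b induce distinct blocks of G; (iii) every block of G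 covering b is induced by some block of T covering b. -/
theorem result {G : Type*} [Group G] [Fintype G] (p : ℕ) [Fact p.Prime] (M : Ideal Cfsg.AlgInt) (hM : Cfsg.IsPModular p M) (N : Subgroup G) [hN : N.Normal] [Fintype N] (b : Set (Cfsg.IrrCharacter N)) (hb : Cfsg.IsPBlock M b) (T : Subgroup G) [Fintype T] (hT : ∀ g : G, g ∈ T ↔ ∀ θ ∈ b, ∀ θ' : Cfsg.IrrCharacter N, (∀ n : N, (θ' : N → ℂ) n = (θ : N → ℂ) ⟨g * n * g⁻¹, hN.conj_mem n n.2 g⟩) → θ' ∈ b) (hNT : N ≤ T) : (∀ B' : Set (Cfsg.IrrCharacter T), Cfsg.IsPBlock M B' → (∃ ψ ∈ B', ∃ θ ∈ b, Cfsg.classInner (fun n : N => (ψ : T → ℂ) ⟨(n : G), hNT n.2⟩) (θ : N → ℂ) ≠ 0) → ∃ B : Set (Cfsg.IrrCharacter G), Cfsg.IsInducedBlock M T B' B ∧ (∃ χ ∈ B, ∃ θ ∈ b, Cfsg.classInner (fun n : N => (χ : G → ℂ) n) (θ : N → ℂ) ≠ 0) ∧ (∀ ψ ∈ B', Cfsg.IsIrrCharacter G (Cfsg.indFun T (ψ : T → ℂ))) ∧ ∀ χ :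 Cfsg.IrrCharacter G, χ ∈ B ↔ ∃ ψ ∈ B', (χ : G → ℂ) = Cfsg.indFun T (ψ : T → ℂ)) ∧ (∀ B'₁ B'₂ : Set (Cfsg.IrrCharacter T), Cfsg.IsPBlock M B'₁ → Cfsg.IsPBlock M B'₂ → (∃ ψ ∈ B'₁, ∃ θ ∈ b, Cfsg.classInner (fun n : N => (ψ : T → ℂ) ⟨(n : G), hNT n.2⟩) (θ : N → ℂ) ≠ 0) → (∃ ψ ∈ B'₂, ∃ θ ∈ b, Cfsg.classInner (fun n : N => (ψ : T → ℂ) ⟨(n : G), hNT n.2⟩) (θ : N → ℂ) ≠ 0) → ∀ B : Set (Cfsg.IrrCharacter G), Cfsg.IsInducedBlock M T B'₁ B → Cfsg.IsInducedBlock M T B'₂ B → B'₁ = B'₂) ∧ (∀ B : Set (Cfsg.IrrCharacter G), Cfsg.IsPBlock M B → (∃ χ ∈ B, ∃ θ ∈ b, Cfsg.classInner (fun n : N => (χ : G → ℂ) n) (θ : N → ℂ) ≠ 0) → ∃ B' : Set (Cfsg.IrrCharacter T), Cfsg.IsPBlock M B' ∧ (∃ ψ ∈ B', ∃ θ ∈ b, Cfsg.classInner (fun n : N => (ψ : T → ℂ) ⟨(n : G), hNT n.2⟩) (θ : N → ℂ) ≠ 0) ∧ Cfsg.IsInducedBlock M T B' B) := by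
  have hs : ∀ g : G, g ∈ T ↔ ∀ θ ∈ b, conjIrr g θ ∈ b := fun g => (hT g).trans
    ⟨fun h θ hθ => h θ hθ _ fun n => rfl, fun h θ hθ θ' e => by
      rw [show θ' = conjIrr g θ from Subtype.ext (funext e)]; exact h θ hθ⟩
  have hcv : ∀ B' : Set (Cfsg.IrrCharacter T), Cfsg.IsPBlock M B' →
      (∃ ψ ∈ B', ∃ θ ∈ b, Cfsg.classInner (fun n : N => (ψ : T → ℂ) ⟨(n : G), hNT n.2⟩)
        (θ : N → ℂ) ≠ 0) → ∀ ψ ∈ B', CoversOnly hNT b (ψ : T → ℂ) := by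
    rintro B' hB' ⟨ψ₀, hψ₀, h⟩ ψ hψ
    exact coversOnly_of_sameBlock hM hb hs hNT (sameBlock_of_mem hM hB' hψ₀ hψ)
      ((coversOnly_iff_constituent hs hNT ψ₀).2 h)
  refine ⟨fun B' hB' hc => ?_, fun B₁ B₂ h₁ h₂ c₁ c₂ B i₁ i₂ => ?_, fun B hB hc => ?_⟩
  · obtain ⟨ψ₀, hψ₀, -⟩ := id hc
    have hall := hcv B' hB' hc
    have hind := isInduced_blockOf hM hb hs hNT hB' hψ₀ (hall _ hψ₀)
    refine ⟨_, hind, ?_, fun ψ hψ => isIrr_indFun hM hb hs hNT ψ (hall ψ hψ),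
      mem_iff_indFun hM hb hs hNT hind hall⟩
    obtain ⟨χ, hχ, e⟩ := mem_induced hM hb hs hNT hind hψ₀ (hall _ hψ₀)
    obtain ⟨θ, hθ, hne⟩ := exists_constituent_indFun hM hb hs hNT ψ₀ (hall _ hψ₀)
    exact ⟨χ, hχ, θ, hθ, by rw [e]; exact hne⟩
  · obtain ⟨ψ₁, hψ₁, -⟩ := id c₁
    obtain ⟨ψ₂, hψ₂, -⟩ := id c₂
    have a₁ := hcv B₁ h₁ c₁ _ hψ₁
    have a₂ := hcv B₂ h₂ c₂ _ hψ₂
    obtain ⟨χ₁, hχ₁, e₁⟩ := mem_induced hM hb hs hNT i₁ hψ₁ a₁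
    obtain ⟨χ₂, hχ₂, e₂⟩ := mem_induced hM hb hs hNT i₂ hψ₂ a₂
    refine block_eq_of_mem hM h₁ h₂ hψ₁ (mem_of_sameBlock hM h₂ hψ₂ ?_)
    refine sameBlock_of_indFun hM hb hs hNT ψ₂ ψ₁ a₂ a₁ ?_
    rw [← e₁, ← e₂]
    exact sameBlock_of_mem hM i₁.2.1 hχ₂ hχ₁
  · obtain ⟨χ, hχ, θ, hθ, hne⟩ := hc
    obtain ⟨ψ, hψ, e⟩ := exists_indFun_eq hM hb hs hNT χ hθ hne
    refine ⟨_, isPBlock_blockOf M ψ,
      ⟨ψ, mem_blockOf_self hM ψ, (coversOnly_iff_constituent hs hNT ψ).1 hψ⟩, ?_⟩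
    rw [block_eq_blockOf hM hB hχ, e]
    exact isInduced_indFun hM T ψ (isIrr_indFun hM hb hs hNT ψ hψ)

end Cfsg.Agent.S4435
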