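import Cfsg.Statements.S4959
import Cfsg.Agent.Lib.CharTheory.KGV.RealVector
import Cfsg.Agent.Lib.CharTheory.KGV.Values

set_option autoImplicit false
open Cfsg

namespace Cfsg.Agent.S4959

open scoped ComplexConjugate

/-- At an element of an abelian normal Sylow subgroup the value is congruent to the degree, which is
prime to `p`. -/
theorem irr_not_ideal {X : Type*} [Group X] [Finite X] {p : ℕ} [Fact p.Prime] (V : Subgroup X)
    [V.Normal] (hidx : ¬ p ∣ V.index) (hab : ∀ a ∈ V, ∀ b ∈ V, a * b = b * a) (hV : IsPGroup p V)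
    (χ : Cfsg.IrrCharacter X) {v : X} (hv : v ∈ V) {M : Ideal Cfsg.AlgInt}
    (hM : Cfsg.IsPModular p M) : ¬ Cfsg.MemLocalIdeal M ((χ : X → ℂ) v) := by
  obtain ⟨d, hd, hdvd⟩ := CharTheory.Ito.degree_dvd_index_abelian V hab χ.2
  obtain ⟨n, ρ, hρ, e⟩ := χ.2
  obtain ⟨w, hw, h⟩ := Characters.exists_rootsOfUnity_sum ρ v
  obtain ⟨k, hk⟩ := IsPGroup.iff_orderOf.1 hV ⟨v, hv⟩
  rw [Subgroup.orderOf_mk] at hk
  have hcong : Blocks.Cong M ((χ : X → ℂ) v) ((χ : X → ℂ) 1) := by
    rw [← e]
    have h1 : ρ.character v = ∑ i, w i := by simpa using h 1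
    have h0 : ρ.character 1 = ∑ i, (w i) ^ 0 := by simpa using h 0
    rw [h1, h0]
    refine Blocks.cong_sum hM fun i _ => ?_
    rw [pow_zero]
    exact Blocks.cong_one_of_pow_prime_pow hM (k := k) (by rw [← hk, hw i])
  intro h0
  have h2 := Blocks.cong_trans hM (Blocks.cong_symm hM hcong) (Blocks.cong_zero_iff.2 h0)
  rw [hd] at h2
  exact hidx (((Blocks.ideal_natCast_iff hM d).1 (Blocks.cong_zero_iff.1 h2)).trans hdvd)

/-- Conjugation between the elements `v * c`. -/
theorem conj_decomp {X : Type*} [Group X] [Finite X] (V G : Subgroup X) [V.Normal]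
    (hGV : Subgroup.IsComplement' V G) (hab : ∀ a ∈ V, ∀ b ∈ V, a * b = b * a)
    {v c d x : X} (hv : v ∈ V) (hc : c ∈ G) (hd : d ∈ G) (hcv : c * v = v * c) (hdv : d * v = v * d)
    (hcop : (Nat.card G).Coprime (Nat.card V)) (hx : x * (v * c) * x⁻¹ = v * d) :
    ∃ w ∈ V, ∃ g ∈ G, g * v = v * g ∧ x = w * g ∧ g * c * g⁻¹ = d ∧ w * d * w⁻¹ = d := by
  obtain ⟨e, he1, he0⟩ := Nat.chineseRemainder hcop.symm 1 0
  have hpow : ∀ a ∈ G, a * v = v * a → (v * a) ^ e = v := by
    intro a ha hav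
    rw [(show Commute v a from hav.symm).mul_pow]
    have h1 : a ^ e = 1 := by
      obtain ⟨k, hk⟩ := Nat.modEq_zero_iff_dvd.1 he0
      have h3 : (⟨a, ha⟩ : G) ^ Nat.card G = 1 := pow_card_eq_one'
      have h4 := congrArg Subtype.val h3
      simp only [SubmonoidClass.coe_pow, OneMemClass.coe_one] at h4
      rw [hk, pow_mul, h4, one_pow]
    have h2 : (⟨v, hv⟩ : V) ^ e = (⟨v, hv⟩ : V) := by
      conv_rhs => rw [← pow_one (⟨v, hv⟩ : V)]
      exact pow_eq_pow_iff_modEq.2 (he1.of_dvd (orderOf_dvd_natCard _))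
    rw [h1, mul_one]
    simpa using congrArg Subtype.val h2
  have hxv : x * v * x⁻¹ = v := by
    have := congrArg (fun y => y ^ e) hx
    simp only [conj_pow, hpow c hc hcv, hpow d hd hdv] at this
    exact this
  have hxc : x * c * x⁻¹ = d := by
    have h1 : (x * v * x⁻¹) * (x * c * x⁻¹) = v * d := by rw [← hx]; group
    rw [hxv] at h1
    exact mul_left_cancel h1
  obtain ⟨w, hw, g, hg, rfl⟩ := Subgroup.mem_sup_of_normal_left.1
    (hGV.sup_eq_top ▸ Subgroup.mem_top x)
  have hgv : g * v * g⁻¹ = v := by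
    have hwv : Commute w v := hab w hw v hv
    calc g * v * g⁻¹ = w⁻¹ * (w * g * v * (w * g)⁻¹) * w := by group
      _ = w⁻¹ * v * w := by rw [hxv]
      _ = v := by rw [mul_assoc, ← hwv.eq]; group
  set k := g * c * g⁻¹ with hk
  have hkG : k ∈ G := G.mul_mem (G.mul_mem hg hc) (G.inv_mem hg)
  have hwk : w * k * w⁻¹ = d := by rw [hk, ← hxc]; group
  have hone : d * k⁻¹ = 1 := by
    refine Subgroup.mem_bot.1 (hGV.disjoint.le_bot ⟨?_, G.mul_mem hd (G.inv_mem hkG)⟩)
    rw [← hwk, show w * k * w⁻¹ * k⁻¹ = w * (k * w⁻¹ * k⁻¹) by group]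
    exact V.mul_mem hw (Subgroup.Normal.conj_mem inferInstance _ (V.inv_mem hw) k)
  have hkd : k = d := (mul_inv_eq_one.1 hone).symm
  exact ⟨w, hw, g, hg, mul_inv_eq_iff_eq_mul.1 hgv, rfl, hkd, hkd ▸ hwk⟩


/-- Let X be a finite group and V a normal subgroup of X in which every element has order dividing the prime p, whose index in X is prime to p and which is its own centralizer in X; so V is an elementary abelian normal Sylow p-subgroup, and any complement G to V in X is a group of order prime to p acting faithfully on the vector space V by conjugation (the coprime linear setting of the k(GV) problem). Let G be a complement to V in X, let v be in V and let H be the centralizer of v in G. Suppose there is a subgroup U of V normalized by H, on which H acts faithfully, and carrying an H-invariant bi-additive pairing β with values in the integers modulo p that is nondegenerate on U (equivalently: the restriction of the module V to H has a faithful self-dual submodule;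 such a v is called a real vector for G). Then the number of conjugacy classes of X is at most the order of V (the real-vector criterion for the k(GV) problem). The pairing is given as a function on X whose relevant values are those on pairs from U. -/
theorem result {X : Type*} [Group X] [Finite X] (p : ℕ) [Fact p.Prime] (V : Subgroup X) [V.Normal] (hVexp : ∀ v ∈ V, v ^ p = 1) (hidx : ¬ p ∣ V.index) (hself : Subgroup.centralizer (V : Set X) = V) (G : Subgroup X) (hGV : Subgroup.IsComplement' V G) (v : X) (hv : v ∈ V) (U : Subgroup X) (hUV : U ≤ V) (hUinv : ∀ h ∈ G, h * v * h⁻¹ = v → ∀ u ∈ U, h * u * h⁻¹ ∈ U) (hUfaith : ∀ h ∈ G, h * v * h⁻¹ = v → (∀ u ∈ U, h * u * h⁻¹ = u) → h = 1) (β : X → X → ZMod p) (hβl : ∀ u ∈ U, ∀ u' ∈ U, ∀ w ∈ U, β (u * u') w = β u w + β u' w) (hβr : ∀ u ∈ U, ∀ w ∈ U, ∀ w' ∈ U, β u (w * w') = β u w + β u w') (hβinv : ∀ h ∈ G, h * v * h⁻¹ = v → ∀ u ∈ U, ∀ w ∈ U, β (h * u * h⁻¹) (h * w * h⁻¹) = β u w) (hβnd : ∀ u ∈ U, (∀ w ∈ U, β u w = 0) → u = 1)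 : Nat.card (ConjClasses X) ≤ Nat.card V := by
  classical
  have hp : p.Prime := Fact.out
  have habV : ∀ a ∈ V, ∀ b ∈ V, a * b = b * a := fun a ha b hb =>
    (Subgroup.mem_centralizer_iff.1 (hself.ge hb : b ∈ Subgroup.centralizer (V : Set X)) a ha)
  have hVp : IsPGroup p V := fun a => ⟨1, Subtype.ext (by simpa using hVexp a a.2)⟩
  set C := G ⊓ Subgroup.centralizer ({v} : Set X) with hCdef
  haveI := Fintype.ofFinite ↥C
  haveI := Fintype.ofFinite X
  haveI := Fintype.ofFinite (Cfsg.IrrCharacter X)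
  have hcv : ∀ c : ↥C, (c : X) * v = v * c := fun c =>
    Subgroup.mem_centralizer_singleton_iff.1 c.2.2
  have hcconj : ∀ c : ↥C, (c : X) * v * (c : X)⁻¹ = v := fun c => by
    rw [hcv c, mul_inv_cancel_right]
  have hpG : ¬ p ∣ Nat.card G := by rwa [← hGV.symm.index_eq_card]
  have hpC : ¬ p ∣ Nat.card ↥C := fun h => hpG (h.trans (Subgroup.card_dvd_of_le inf_le_left))
  have hcop : (Nat.card G).Coprime (Nat.card V) := by
    obtain ⟨a, ha⟩ := hVp.exists_card_eq
    rw [ha]
    exact Nat.Coprime.pow_right a ((hp.coprime_iff_not_dvd).2 hpG).symm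
  -- the module
  letI : CommGroup ↥U :=
    { (inferInstance : Group ↥U) with
      mul_comm := fun a b => Subtype.ext (habV a (hUV a.2) b (hUV b.2)) }
  letI : DistribMulAction ↥C (Additive ↥U) :=
    { smul := fun c u => Additive.ofMul ⟨(c : X) * (Additive.toMul u : ↥U) * (c : X)⁻¹,
        hUinv c c.2.1 (hcconj c) _ (Additive.toMul u).2⟩
      one_smul := fun u => Additive.toMul.injective (Subtype.ext (by
        show ((1 : ↥C) : X) * _ * ((1 : ↥C) : X)⁻¹ = _
        simp))
      mul_smul := fun c c' u => Additive.toMul.injective (Subtype.ext (by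
        show ((c * c' : ↥C) : X) * _ * ((c * c' : ↥C) : X)⁻¹ = (c : X) * ((c' : X) * _ * (c' : X)⁻¹) * (c : X)⁻¹
        simp [mul_assoc]))
      smul_zero := fun c => Additive.toMul.injective (Subtype.ext (by
        show (c : X) * ((1 : ↥U) : X) * (c : X)⁻¹ = ((1 : ↥U) : X)
        simp))
      smul_add := fun c a b => Additive.toMul.injective (Subtype.ext (by
        show (c : X) * ((Additive.toMul a * Additive.toMul b : ↥U) : X) * (c : X)⁻¹ =
          (c : X) * (Additive.toMul a : ↥U) * (c : X)⁻¹ * ((c : X) * (Additive.toMul b : ↥U) * (c : X)⁻¹)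
        simp [mul_assoc])) }
  letI : Module (ZMod p) (Additive ↥U) := AddCommGroup.zmodModule fun u =>
    Additive.toMul.injective (Subtype.ext (by
      show (((Additive.toMul u) ^ p : ↥U) : X) = _
      rw [Subgroup.coe_pow, hVexp _ (hUV (Additive.toMul u).2)]
      rfl))
  haveI : Finite (Additive ↥U) := Finite.of_equiv ↥U Additive.ofMul
  let bb : Additive ↥U →+ Additive ↥U →+ ZMod p :=
    AddMonoidHom.mk' (fun a => AddMonoidHom.mk'
        (fun b => β ((Additive.toMul a : ↥U) : X) ((Additive.toMul b : ↥U) : X))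
        fun b b' => hβr _ (Additive.toMul a).2 _ (Additive.toMul b).2 _ (Additive.toMul b').2)
      fun a a' => AddMonoidHom.ext fun b =>
        hβl _ (Additive.toMul a).2 _ (Additive.toMul a').2 _ (Additive.toMul b).2
  obtain ⟨f, hf⟩ := CharTheory.KGV.RealVector.exists_good_of_pairing hpC bb
    (fun c a b => hβinv c c.2.1 (hcconj c) _ (Additive.toMul a).2 _ (Additive.toMul b).2)
    (fun a ha => Additive.toMul.injective (Subtype.ext
      (hβnd _ (Additive.toMul a).2 fun w hw => ha (Additive.ofMul ⟨w, hw⟩))))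
    (fun c hc => Subtype.ext (hUfaith c c.2.1 (hcconj c) fun u hu =>
      congrArg (fun a => ((Additive.toMul a : ↥U) : X)) (hc (Additive.ofMul ⟨u, hu⟩))))
  -- the coefficients
  set N := Nat.card X * p with hN
  have hN0 : 0 < N := Nat.mul_pos Nat.card_pos hp.pos
  set ζ := Complex.exp (2 * Real.pi * Complex.I / N)
  have hζ : IsPrimitiveRoot ζ N := Complex.isPrimitiveRoot_exp N hN0.ne'
  have hC0 : (Nat.card ↥C : ℂ) ≠ 0 := Nat.cast_ne_zero.2 Nat.card_pos.ne'
  let z : Cfsg.IrrCharacter X → ℂ := fun χ =>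
    (Nat.card ↥C : ℂ)⁻¹ * ∑ c : ↥C, (χ : X → ℂ) (v * (c : X)) * f c
  have hint : ∀ χ, IsIntegral ℤ (z χ) := by
    intro χ
    letI : CommGroup ↥(Subgroup.zpowers v) := IsCyclic.commGroup
    haveI := Fintype.ofFinite ↥(Subgroup.zpowers v)
    let ψ : ↥C × ↥(Subgroup.zpowers v) →* X :=
      MonoidHom.noncommCoprod C.subtype (Subgroup.zpowers v).subtype (fun c t => by
        obtain ⟨k, hk⟩ := Subgroup.mem_zpowers_iff.1 t.2
        simp only [Subgroup.subtype_apply, ← hk]
        exact (show Commute (c : X) v from hcv c).zpow_right k)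
    obtain ⟨I, hI, a, η, ha, hη, hsum⟩ := CharTheory.KGV.Integrality.exists_slice
      (Characters.isCharacter_comp ψ (Characters.irr_isCharacter χ))
      (⟨v, Subgroup.mem_zpowers v⟩ : ↥(Subgroup.zpowers v))
    have he : z χ = ∑ i, a i * ((Nat.card ↥C : ℂ)⁻¹ * ∑ c : ↥C, η i c * f c) := by
      simp only [z, Finset.mul_sum]
      rw [Finset.sum_comm]
      refine Finset.sum_congr rfl fun c _ => ?_
      have h1 := hsum c
      simp only [Function.comp_apply] at h1
      rw [show ψ (c, ⟨v, Subgroup.mem_zpowers v⟩) = v * (c : X) from hcv c] at h1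
      rw [h1, Finset.sum_mul, Finset.mul_sum]
      exact Finset.sum_congr rfl fun i _ => by ring
    rw [he]
    exact IsIntegral.sum _ fun i _ => (ha i).mul (hf.coeff (η i) (hη i))
  have hz : ∀ χ, CharTheory.KGV.CycInt ζ (z χ) := fun χ => ⟨hint χ, by
    refine mul_mem ?_ (sum_mem fun c _ => mul_mem ?_ ?_)
    · rw [show (Nat.card ↥C : ℂ)⁻¹ = algebraMap ℚ ℂ ((Nat.card ↥C : ℚ)⁻¹) by simp]
      exact Subalgebra.algebraMap_mem _ _
    · exact (CharTheory.KGV.cycInt_value hN0 hζ (dvd_mul_right _ p) χ (v * c)).2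
    · exact hf.mem_adjoin hN0 hζ (mul_dvd_mul_right C.card_subgroup_dvd_card p) c⟩
  have hne : ∀ χ, z χ ≠ 0 := by
    intro χ h0
    obtain ⟨M, hM⟩ := BlockCharsA.DefectZeroVanish.exists_modular hp
    have hs : ∑ c : ↥C, (χ : X → ℂ) (v * (c : X)) * f c = 0 := (mul_eq_zero.1 h0).resolve_left
      (inv_ne_zero hC0)
    rw [← Finset.add_sum_erase _ _ (Finset.mem_univ (1 : ↥C)), hf.one, mul_one, OneMemClass.coe_one,
      mul_one] at hs
    refine irr_not_ideal V hidx habV hVp χ hv hM ?_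
    rw [eq_neg_of_add_eq_zero_left hs]
    exact Blocks.ideal_neg hM (Blocks.ideal_sum hM fun c hc => Blocks.ideal_mul_left hM
      (Blocks.ring_of_isIntegral hM (Characters.char_value_isIntegral (Characters.irr_isCharacter χ) _))
      (hf.ideal c (Finset.ne_of_mem_erase hc) M hM))
  -- fixed points and centralizers
  let CV : ↥C → Subgroup X := fun c => V ⊓ Subgroup.centralizer ({(c : X)} : Set X)
  have hfixU : ∀ c : ↥C, Nat.card (CharTheory.KGV.Fix.fix (U := Additive ↥U) c) =
      Nat.card ↥(U ⊓ Subgroup.centralizer ({(c : X)} : Set X)) := by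
    intro c
    refine Nat.card_congr
      { toFun := fun a => ⟨((Additive.toMul a.1 : ↥U) : X), (Additive.toMul a.1).2, ?_⟩
        invFun := fun b => ⟨Additive.ofMul ⟨b.1, b.2.1⟩, ?_⟩
        left_inv := fun a => rfl
        right_inv := fun b => rfl }
    · have h1 : (c : X) * ((Additive.toMul a.1 : ↥U) : X) * (c : X)⁻¹ =
          ((Additive.toMul a.1 : ↥U) : X) :=
        congrArg (fun u => ((Additive.toMul u : ↥U) : X)) a.2
      exact Subgroup.mem_centralizer_singleton_iff.2 (mul_inv_eq_iff_eq_mul.1 h1).symm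
    · refine Additive.toMul.injective (Subtype.ext ?_)
      show (c : X) * b.1 * (c : X)⁻¹ = b.1
      rw [mul_inv_eq_iff_eq_mul]
      exact (Subgroup.mem_centralizer_singleton_iff.1 b.2.2).symm
  set r : ↥C → ℕ := fun c => (Subgroup.centralizer ({(c : X)} : Set X)).relIndex U with hr
  have hnorm : ∀ c, f c * conj (f c) = (r c : ℂ) := by
    intro c
    have h1 := hf.norm c
    rw [hfixU, Nat.card_congr Additive.toMul] at h1
    have h2 : r c * Nat.card ↥(U ⊓ Subgroup.centralizer ({(c : X)} : Set X)) = Nat.card ↥U := by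
      simp only [hr]
      rw [← Subgroup.inf_relIndex_left, mul_comm,
        ← Nat.card_congr (Subgroup.subgroupOfEquivOfLe inf_le_left).toEquiv]
      exact Subgroup.card_mul_index _
    rw [← h2, Nat.cast_mul] at h1
    exact mul_right_cancel₀ (Nat.cast_ne_zero.2 Nat.card_pos.ne') h1
  have hbound : ∀ c : ↥C, r c * Nat.card (CV c) ≤ Nat.card V := by
    intro c
    have h2 : Nat.card (CV c) * (Subgroup.centralizer ({(c : X)} : Set X)).relIndex V = Nat.card V := by
      rw [← Subgroup.inf_relIndex_left,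
        ← Nat.card_congr (Subgroup.subgroupOfEquivOfLe (inf_le_left : CV c ≤ V)).toEquiv]
      exact Subgroup.card_mul_index _
    rw [← h2, mul_comm (r c)]
    exact Nat.mul_le_mul_left _ (Subgroup.relIndex_le_of_le_right hUV Subgroup.index_ne_zero_of_finite)
  have hconj : ∀ c d : ↥C, IsConj (v * (c : X)) (v * (d : X)) ↔ IsConj c d := by
    intro c d
    refine ⟨fun h => ?_, fun h => ?_⟩
    · obtain ⟨x, hx⟩ := isConj_iff.1 h
      obtain ⟨w, -, g, hg, hgv, -, hgc, -⟩ := conj_decomp V G hGV habV hv c.2.1 d.2.1 (hcv c) (hcv d)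
        hcop hx
      exact isConj_iff.2 ⟨⟨g, hg, Subgroup.mem_centralizer_singleton_iff.2 hgv⟩, Subtype.ext hgc⟩
    · obtain ⟨g, hg⟩ := isConj_iff.1 h
      refine isConj_iff.2 ⟨g, ?_⟩
      rw [← hg]
      push_cast
      calc (g : X) * (v * c) * (g : X)⁻¹ = ((g : X) * v * (g : X)⁻¹) * ((g : X) * c * (g : X)⁻¹) := by group
        _ = _ := by rw [hcconj g]
  have hcent : ∀ c : ↥C, Nat.card (Subgroup.centralizer ({v * (c : X)} : Set X)) =
      Nat.card (CV c) * Nat.card (Subgroup.centralizer ({c} : Set ↥C)) := by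
    intro c
    rw [← Nat.card_prod]
    let F : ↥(CV c) × ↥(Subgroup.centralizer ({c} : Set ↥C)) →
        ↥(Subgroup.centralizer ({v * (c : X)} : Set X)) := fun wg =>
      ⟨(wg.1 : X) * ((wg.2 : ↥C) : X), by
        refine Subgroup.mem_centralizer_singleton_iff.2 ?_
        have hw : Commute (wg.1 : X) (v * (c : X)) := Commute.mul_right
          (habV _ wg.1.2.1 v hv) (Subgroup.mem_centralizer_singleton_iff.1 wg.1.2.2)
        have hg : Commute ((wg.2 : ↥C) : X) (v * (c : X)) := Commute.mul_right (hcv _)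
          (congrArg Subtype.val (Subgroup.mem_centralizer_singleton_iff.1 wg.2.2))
        exact (hw.mul_left hg).eq⟩
    symm
    refine Nat.card_congr (Equiv.ofBijective F ⟨fun a b e => ?_, fun x => ?_⟩)
    · have e1 : (a.1 : X) * ((a.2 : ↥C) : X) = (b.1 : X) * ((b.2 : ↥C) : X) := congrArg Subtype.val e
      have h2 := (hGV.existsUnique ((a.1 : X) * ((a.2 : ↥C) : X))).unique
        (y₁ := (⟨(a.1 : X), a.1.2.1⟩, ⟨((a.2 : ↥C) : X), a.2.1.2.1⟩))
        (y₂ := (⟨(b.1 : X), b.1.2.1⟩, ⟨((b.2 : ↥C) : X), b.2.1.2.1⟩)) rfl e1.symm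
      simp only [Prod.mk.injEq, Subtype.mk.injEq] at h2
      exact Prod.ext (Subtype.ext h2.1) (Subtype.ext (Subtype.ext h2.2))
    · have hx := Subgroup.mem_centralizer_singleton_iff.1 x.2
      obtain ⟨w, hw, g, hg, hgv, hxe, hgc, hwc⟩ := conj_decomp V G hGV habV hv c.2.1 c.2.1 (hcv c)
        (hcv c) hcop (x := (x : X)) (by rw [hx, mul_inv_cancel_right])
      refine ⟨(⟨w, hw, Subgroup.mem_centralizer_singleton_iff.2 (mul_inv_eq_iff_eq_mul.1 hwc)⟩,
        ⟨⟨g, hg, Subgroup.mem_centralizer_singleton_iff.2 hgv⟩,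
          Subgroup.mem_centralizer_singleton_iff.2 (Subtype.ext (mul_inv_eq_iff_eq_mul.1 hgc))⟩),
        Subtype.ext hxe.symm⟩
  -- the sum of the squares
  set T : ℕ := ∑ c : ↥C, r c * Nat.card (CV c) with hT
  have hq : ∑ χ, ((1 : ℚ) : ℝ) * ‖z χ‖ ^ 2 = (((Nat.card ↥C : ℚ)⁻¹ * T : ℚ) : ℝ) := by
    apply Complex.ofReal_injective
    push_cast
    simp only [one_mul, ← Complex.mul_conj', z, map_mul, map_inv₀, Complex.conj_natCast, map_sum]
    have hexp : ∀ χ : Cfsg.IrrCharacter X,
        (Nat.card ↥C : ℂ)⁻¹ * (∑ c : ↥C, (χ : X → ℂ) (v * (c : X)) * f c) *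
          ((Nat.card ↥C : ℂ)⁻¹ * ∑ d : ↥C, conj ((χ : X → ℂ) (v * (d : X))) * conj (f d)) =
        ∑ c : ↥C, ∑ d : ↥C, (Nat.card ↥C : ℂ)⁻¹ * (Nat.card ↥C : ℂ)⁻¹ * (f c * conj (f d)) *
          ((χ : X → ℂ) (v * (c : X)) * conj ((χ : X → ℂ) (v * (d : X)))) := by
      intro χ
      rw [Finset.mul_sum, Finset.mul_sum, Finset.sum_mul_sum]
      exact Finset.sum_congr rfl fun c _ => Finset.sum_congr rfl fun d _ => by ring
    rw [Finset.sum_congr rfl fun χ _ => hexp χ, Finset.sum_comm, hT, Nat.cast_sum, Finset.mul_sum]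
    refine Finset.sum_congr rfl fun c _ => ?_
    rw [Finset.sum_comm]
    have hd : ∀ d : ↥C, ∑ χ : Cfsg.IrrCharacter X,
        (Nat.card ↥C : ℂ)⁻¹ * (Nat.card ↥C : ℂ)⁻¹ * (f c * conj (f d)) *
          ((χ : X → ℂ) (v * (c : X)) * conj ((χ : X → ℂ) (v * (d : X)))) =
        if d ∈ (ConjClasses.mk c).carrier then (Nat.card ↥C : ℂ)⁻¹ * (Nat.card ↥C : ℂ)⁻¹ *
          (r c : ℂ) * (Nat.card (Subgroup.centralizer ({v * (c : X)} : Set X)) : ℂ) else 0 := by
      intro d
      rw [← Finset.mul_sum, Characters.second_orthogonality, mul_ite, mul_zero]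
      by_cases h : IsConj c d
      · obtain ⟨g, hg⟩ := isConj_iff.1 h
        rw [if_pos ((hconj c d).2 h), if_pos (ConjClasses.mem_carrier_iff_mk_eq.2
          (ConjClasses.mk_eq_mk_iff_isConj.2 h.symm)), ← hnorm]
        have hfd : f d = f c := by rw [← hg, hf.classFun]
        rw [hfd]
        congr 2
        have e1 := Characters.card_carrier_mul_card_centralizer (v * (c : X))
        have e2 := Characters.card_carrier_mul_card_centralizer (v * (d : X))
        rw [ConjClasses.mk_eq_mk_iff_isConj.2 ((hconj c d).2 h)] at e1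
        refine Nat.eq_of_mul_eq_mul_left (Nat.pos_of_ne_zero fun h0 => ?_) (e2.trans e1.symm)
        rw [h0, zero_mul] at e2
        exact Nat.card_pos.ne' e2.symm
      · rw [if_neg (fun e => h ((hconj c d).1 e)), if_neg fun e => h
          (ConjClasses.mk_eq_mk_iff_isConj.1 (ConjClasses.mem_carrier_iff_mk_eq.1 e)).symm]
    rw [Finset.sum_congr rfl fun d _ => hd d, ← Finset.sum_filter, Finset.sum_const, nsmul_eq_mul]
    have hcls : (Finset.univ.filter fun d : ↥C => d ∈ (ConjClasses.mk c).carrier).card *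
        Nat.card (Subgroup.centralizer ({c} : Set ↥C)) = Nat.card ↥C := by
      rw [← Fintype.card_subtype, ← Nat.card_eq_fintype_card]
      exact Characters.card_carrier_mul_card_centralizer c
    have hcls' : ((Finset.univ.filter fun d : ↥C => d ∈ (ConjClasses.mk c).carrier).card : ℂ) *
        (Nat.card (Subgroup.centralizer ({c} : Set ↥C)) : ℂ) = (Nat.card ↥C : ℂ) := by
      exact_mod_cast hcls
    rw [hcent, Nat.cast_mul, Nat.cast_mul]
    have h0 : (Nat.card ↥C : ℂ)⁻¹ * (Nat.card ↥C : ℂ) = 1 := inv_mul_cancel₀ hC0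
    linear_combination ((Nat.card ↥C : ℂ)⁻¹ * (Nat.card ↥C : ℂ)⁻¹ * (r c : ℂ) *
      (Nat.card (CV c) : ℂ)) * hcls' + ((Nat.card ↥C : ℂ)⁻¹ * (r c : ℂ) * (Nat.card (CV c) : ℂ)) * h0
  have hle := CharTheory.KGV.sum_weight_le hN0 hζ (fun _ => (1 : ℚ)) (fun _ => zero_le_one) z hz hq
  simp only [hne, if_false, Finset.sum_const, Finset.card_univ, nsmul_one,
    ← Nat.card_eq_fintype_card, Characters.card_irrCharacter] at hle
  have hT2 : T ≤ Nat.card ↥C * Nat.card V := by
    rw [hT]
    refine (Finset.sum_le_card_nsmul Finset.univ _ (Nat.card V) fun c _ => hbound c).trans ?_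
    rw [Finset.card_univ, ← Nat.card_eq_fintype_card, smul_eq_mul]
  have hC1 : (0 : ℚ) < Nat.card ↥C := Nat.cast_pos.2 Nat.card_pos
  have h3 : (T : ℚ) ≤ (Nat.card ↥C : ℚ) * Nat.card V := by exact_mod_cast hT2
  have h4 : (Nat.card ↥C : ℚ)⁻¹ * T ≤ Nat.card V := by
    rw [inv_mul_le_iff₀ hC1]; exact h3
  exact_mod_cast hle.trans h4

end Cfsg.Agent.S4959
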