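import Cfsg.Statements.S3742
import Mathlib

set_option autoImplicit false
open Cfsg
open scoped commutatorElement

namespace Cfsg.Agent.S3742
abbrev Q8 := QuaternionGroup 2

/-- the candidate automorphism with `a 1 ↦ uv.1` and `xa 0 ↦ uv.2` -/
def F (uv : Q8 × Q8) : Q8 → Q8
  | QuaternionGroup.a i => uv.1 ^ i.val
  | QuaternionGroup.xa i => uv.2 * uv.1 ^ i.val

/-- possible images of the two generators -/
def Valid (uv : Q8 × Q8) : Prop :=
  uv.1 * uv.1 = QuaternionGroup.a 2 ∧ uv.2 * uv.2 = QuaternionGroup.a 2 ∧ uv.2 * uv.1 ≠ uv.1 * uv.2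

instance : DecidablePred Valid := fun _ => inferInstanceAs (Decidable (_ ∧ _ ∧ _))

/-- the four diagonals, as right handed triples -/
def diag : Fin 4 → Finset Q8
  | 0 => {QuaternionGroup.a 1, QuaternionGroup.xa 0, QuaternionGroup.a 1 * QuaternionGroup.xa 0}
  | 1 => {QuaternionGroup.a 1, (QuaternionGroup.xa 0)⁻¹, (QuaternionGroup.a 1 * QuaternionGroup.xa 0)⁻¹}
  | 2 => {(QuaternionGroup.a 1)⁻¹, QuaternionGroup.xa 0, (QuaternionGroup.a 1 * QuaternionGroup.xa 0)⁻¹}
  | 3 => {(QuaternionGroup.a 1)⁻¹, (QuaternionGroup.xa 0)⁻¹, QuaternionGroup.a 1 * QuaternionGroup.xa 0}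

/-- `s` is the diagonal `i` or its opposite -/
def OnDiag (s : Finset Q8) (i : Fin 4) : Prop := s = diag i ∨ s = (diag i).image fun x => x⁻¹

instance (s : Finset Q8) (i : Fin 4) : Decidable (OnDiag s i) := inferInstanceAs (Decidable (_ ∨ _))

theorem onDiag_unique : ∀ i j k : Fin 4, OnDiag (diag i) j → OnDiag (diag i) k → j = k := by decide

theorem onDiag_unique' (s : Finset Q8) (j k : Fin 4) (hj : OnDiag s j) (hk : OnDiag s k) : j = k := by
  revert hj hk
  rintro (rfl | rfl) hk
  · exact onDiag_unique j j k (Or.inl rfl) hk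
  · revert hk; revert j k; decide

theorem exists_onDiag : ∀ uv : Q8 × Q8, Valid uv → ∀ i : Fin 4, ∃ j : Fin 4, OnDiag ((diag i).image (F uv)) j := by
  decide

theorem diag_faithful : ∀ uv : Q8 × Q8, Valid uv → (∀ i : Fin 4, OnDiag ((diag i).image (F uv)) i) →
    uv = (QuaternionGroup.a 1, QuaternionGroup.xa 0) := by
  decide

theorem F_hom : ∀ uv : Q8 × Q8, Valid uv → ∀ g h : Q8, F uv (g * h) = F uv g * F uv h := by decide

theorem F_inj : ∀ uv : Q8 × Q8, Valid uv → ∀ g h : Q8, F uv g = F uv h → g = h := by decide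

theorem card_valid : (Finset.univ.filter Valid).card = 24 := by decide

theorem gen (σ : MulAut Q8) : ⇑σ = F (σ (QuaternionGroup.a 1), σ (QuaternionGroup.xa 0)) := by
  funext g
  rcases g with i | i <;> simp only [F, ← map_pow, ← map_mul, QuaternionGroup.a_one_pow, QuaternionGroup.xa_mul_a,
    ZMod.natCast_zmod_val, zero_add]

theorem fix_two : ∀ z : Q8, z * z = 1 → z ≠ 1 → z = QuaternionGroup.a 2 := by decide

theorem valid_image (σ : MulAut Q8) : Valid (σ (QuaternionGroup.a 1), σ (QuaternionGroup.xa 0)) := by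
  have h2 : σ (QuaternionGroup.a 2) = QuaternionGroup.a 2 := by
    refine fix_two _ ?_ ?_
    · rw [← map_mul, show (QuaternionGroup.a 2 * QuaternionGroup.a 2 : Q8) = 1 by decide, map_one]
    · exact fun h => absurd (σ.injective (h.trans (map_one σ).symm)) (by decide)
  refine ⟨?_, ?_, ?_⟩
  · show σ _ * σ _ = _
    rw [← map_mul, show (QuaternionGroup.a 1 * QuaternionGroup.a 1 : Q8) = QuaternionGroup.a 2 by decide, h2]
  · show σ _ * σ _ = _
    rw [← map_mul, show (QuaternionGroup.xa 0 * QuaternionGroup.xa 0 : Q8) = QuaternionGroup.a 2 by decide, h2]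
  · show σ _ * σ _ ≠ σ _ * σ _
    rw [← map_mul, ← map_mul]
    exact fun h => absurd (σ.injective h) (by decide)

theorem exists_act (σ : MulAut Q8) (i : Fin 4) : ∃ j : Fin 4, OnDiag ((diag i).image σ) j := by
  rw [gen σ]; exact exists_onDiag _ (valid_image σ) i

/-- the action on the diagonals -/
noncomputable def act (σ : MulAut Q8) (i : Fin 4) : Fin 4 := (exists_act σ i).choose

theorem onDiag_image (σ : MulAut Q8) {s : Finset Q8} {i j : Fin 4} (hs : OnDiag s i)
    (hj : OnDiag ((diag i).image σ) j) : OnDiag (s.image σ) j := by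
  rcases hs with rfl | rfl
  · exact hj
  · have e : ((diag i).image fun x => x⁻¹).image σ = ((diag i).image σ).image fun x => x⁻¹ := by
      rw [Finset.image_image, Finset.image_image]
      exact Finset.image_congr fun x _ => map_inv σ x
    rw [e]
    rcases hj with h | h <;> rw [h]
    · exact Or.inr rfl
    · left
      rw [Finset.image_image]
      exact (Finset.image_congr fun x _ => inv_inv x).trans Finset.image_id

theorem act_mul (σ τ : MulAut Q8) (i : Fin 4) : act (σ * τ) i = act σ (act τ i) := by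
  refine onDiag_unique' _ _ _ (exists_act (σ * τ) i).choose_spec ?_
  have h := onDiag_image σ (exists_act τ i).choose_spec (exists_act σ _).choose_spec
  rw [Finset.image_image] at h
  exact h

theorem act_one (i : Fin 4) : act 1 i = i := by
  refine onDiag_unique' _ _ _ (exists_act 1 i).choose_spec (Or.inl ?_)
  exact Finset.image_id

/-- the representation on the diagonals -/
noncomputable def ψ : MulAut Q8 →* Equiv.Perm (Fin 4) :=
  { toFun := fun σ => ⟨act σ, act σ⁻¹, fun i => by rw [← act_mul, inv_mul_cancel, act_one],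
      fun i => by rw [← act_mul, mul_inv_cancel, act_one]⟩
    map_one' := Equiv.ext act_one
    map_mul' := fun σ τ => Equiv.ext (act_mul σ τ) }

theorem ψ_injective : Function.Injective ψ := by
  rw [injective_iff_map_eq_one]
  intro σ hσ
  have h : ∀ i, OnDiag ((diag i).image (F (σ (QuaternionGroup.a 1), σ (QuaternionGroup.xa 0)))) i := by
    intro i
    rw [← gen σ]
    have := (exists_act σ i).choose_spec
    rwa [show (exists_act σ i).choose = i from DFunLike.congr_fun hσ i] at this
  have huv := diag_faithful _ (valid_image σ) h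
  refine MulEquiv.ext fun g => ?_
  show σ g = g
  rw [gen σ, huv]
  revert g; decide

/-- an automorphism for each valid pair -/
noncomputable def mk (uv : {uv : Q8 × Q8 // Valid uv}) : MulAut Q8 :=
  MulEquiv.ofBijective ({ toFun := F uv.1, map_mul' := F_hom uv.1 uv.2 } : Q8 →ₙ* Q8)
    (Finite.injective_iff_bijective.mp (F_inj uv.1 uv.2))

theorem mk_injective : Function.Injective mk := by
  intro uv uv' h
  have h1 : F uv.1 (QuaternionGroup.a 1) = F uv'.1 (QuaternionGroup.a 1) := DFunLike.congr_fun h (QuaternionGroup.a 1)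
  have h2 : F uv.1 (QuaternionGroup.xa 0) = F uv'.1 (QuaternionGroup.xa 0) := DFunLike.congr_fun h (QuaternionGroup.xa 0)
  simp only [F, ZMod.val_zero, pow_zero, mul_one] at h2
  simp only [F, show ((1 : ZMod (2 * 2)).val) = 1 from rfl, pow_one] at h1
  exact Subtype.ext (Prod.ext h1 h2)


/-- The automorphism group of the quaternion group of order 8 is isomorphic to the symmetric group of degree 4. -/
theorem result : Nonempty (MulAut (QuaternionGroup 2) ≃* Equiv.Perm (Fin 4)) := by
  haveI : Finite (MulAut (QuaternionGroup 2)) := Finite.of_injective _ ψ_injective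
  refine ⟨MulEquiv.ofBijective ψ ((Nat.bijective_iff_injective_and_card ψ).mpr
    ⟨ψ_injective, le_antisymm (Nat.card_le_card_of_injective _ ψ_injective) ?_⟩)⟩
  have h1 := Nat.card_le_card_of_injective _ mk_injective
  rw [Nat.card_eq_fintype_card (α := {uv : Q8 × Q8 // Valid uv}), Fintype.card_subtype, card_valid] at h1
  rw [Nat.card_perm, Nat.card_fin]
  exact h1

end Cfsg.Agent.S3742
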