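import Cfsg.Statements.S0188
import Cfsg.Agent.Lib.Characters.Counting
-- import your own Cfsg.Agent.* helpers here

set_option autoImplicit false
open Cfsg

namespace Cfsg.Agent.S0188

/-- The irreducible complex characters of G × H are precisely the functions (g, h) ↦ φ g * ψ h with φ, ψ irreducible characters of G and H. -/
theorem result {G : Type*} [Group G] [Finite G] {H : Type*} [Group H] [Finite H] (θ : G × H → ℂ) : Cfsg.IsIrrCharacter (G × H) θ ↔ ∃ (φ : G → ℂ) (ψ : H → ℂ), Cfsg.IsIrrCharacter G φ ∧ Cfsg.IsIrrCharacter H ψ ∧ θ = fun x => φ x.1 * ψ x.2 := by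
  classical
  constructor
  · intro hθ
    haveI := Fintype.ofFinite G
    haveI := Fintype.ofFinite H
    by_contra hcon
    push Not at hcon
    have hcl := Characters.char_isClassFunction (Characters.isCharacter_of_isIrr hθ)
    have hprod : ∀ (φ : G → ℂ) (ψ : H → ℂ), Cfsg.IsIrrCharacter G φ → Cfsg.IsIrrCharacter H ψ →
        ∑ x : G, ∑ y : H, θ (x, y) * starRingEnd ℂ (φ x) * starRingEnd ℂ (ψ y) = 0 := by
      intro φ ψ hφ hψ
      have hirr : Cfsg.IsIrrCharacter (G × H) (fun x => φ x.1 * ψ x.2) := by
        refine Characters.isIrr_of_isCharacter_of_norm_one (Characters.isCharacter_mul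
          (Characters.isCharacter_comp (MonoidHom.fst G H) (Characters.isCharacter_of_isIrr hφ))
          (Characters.isCharacter_comp (MonoidHom.snd G H) (Characters.isCharacter_of_isIrr hψ))) ?_
        have h1 := Characters.classInner_isIrr_self hφ
        have h2 := Characters.classInner_isIrr_self hψ
        rw [Characters.classInner_def] at h1 h2 ⊢
        rw [Fintype.sum_prod_type, Nat.card_prod, Nat.cast_mul, mul_inv]
        rw [← one_mul (1 : ℂ)]
        nth_rw 1 [← h1]
        rw [← h2, mul_mul_mul_comm, Finset.sum_mul]
        congr 1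
        refine Finset.sum_congr rfl fun x _ => ?_
        rw [Finset.mul_sum]
        exact Finset.sum_congr rfl fun y _ => by rw [map_mul]; ring
      have h0 := Characters.classInner_isIrr_ne hθ hirr (hcon φ ψ hφ hψ)
      rw [Characters.classInner_def, mul_eq_zero, inv_eq_zero] at h0
      replace h0 := h0.resolve_left Characters.natCard_ne_zero
      rw [Fintype.sum_prod_type] at h0
      simpa [map_mul, mul_assoc] using h0
    have hz : ∀ x y, θ (x, y) = 0 := by
      have hF : ∀ φ : G → ℂ, Cfsg.IsIrrCharacter G φ →
          (fun y : H => ∑ x : G, θ (x, y) * starRingEnd ℂ (φ x)) = 0 := fun φ hφ => by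
        refine Characters.classFun_eq_zero (fun a b => Finset.sum_congr rfl fun x _ => ?_)
          fun ψ hψ => ?_
        · congr 1
          simpa using hcl (x, a) (1, b)
        · rw [Characters.classInner_def]
          simp only [Finset.sum_mul]
          rw [Finset.sum_comm, hprod φ ψ hφ hψ, mul_zero]
      intro x y
      refine congrFun (Characters.classFun_eq_zero (f := fun x : G => θ (x, y))
        (fun a b => by simpa using hcl (a, y) (b, 1)) fun φ hφ => ?_) x
      rw [Characters.classInner_def]
      exact mul_eq_zero_of_right _ (congrFun (hF φ hφ) y)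
    exact Characters.irr_one_ne_zero hθ (hz 1 1)
  · rintro ⟨φ, ψ, hφ, hψ, rfl⟩
    haveI := Fintype.ofFinite G
    haveI := Fintype.ofFinite H
    refine Characters.isIrr_of_isCharacter_of_norm_one (Characters.isCharacter_mul
      (Characters.isCharacter_comp (MonoidHom.fst G H) (Characters.isCharacter_of_isIrr hφ))
      (Characters.isCharacter_comp (MonoidHom.snd G H) (Characters.isCharacter_of_isIrr hψ))) ?_
    have h1 := Characters.classInner_isIrr_self hφ
    have h2 := Characters.classInner_isIrr_self hψ
    rw [Characters.classInner_def] at h1 h2 ⊢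
    rw [Fintype.sum_prod_type, Nat.card_prod, Nat.cast_mul, mul_inv]
    rw [← one_mul (1 : ℂ)]
    nth_rw 1 [← h1]
    rw [← h2, mul_mul_mul_comm, Finset.sum_mul]
    congr 1
    refine Finset.sum_congr rfl fun x _ => ?_
    rw [Finset.mul_sum]
    exact Finset.sum_congr rfl fun y _ => by simp only [Pi.mul_apply, Function.comp_apply, map_mul, MonoidHom.coe_fst, MonoidHom.coe_snd]; ring

end Cfsg.Agent.S0188
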