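import Cfsg.Statements.S4750
import Mathlib
import Cfsg.Agent.BlocksChars.TIFixed
import Cfsg.Agent.Lib.Characters.Inner
-- import your own Cfsg.Agent.* helpers here

set_option autoImplicit false
open scoped Pointwise
open Cfsg

namespace Cfsg.Agent.S4750

open Cfsg.Agent.Characters

/-- Let P be a Sylow p-subgroup of the finite group G that meets each conjugate g P g⁻¹ with g outside N_G(P) trivially, χ a character of G with χ(1)² ≤ |P|, and H a subgroup of G containing N_G(P). Then the inner product of χ with itself over G equals the inner product over H of the restriction of χ to H. -/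
theorem result {G : Type*} [Group G] [Fintype G] [DecidableEq G] (p : ℕ) [Fact p.Prime] (P : Sylow p G) (hTI : ∀ g : G, g ∉ Subgroup.normalizer ((P : Subgroup G) : Set G) → (P : Subgroup G) ⊓ (MulAut.conj g • (P : Subgroup G)) = ⊥) (χ : G → ℂ) (hχ : Cfsg.IsCharacter G χ) (hdeg : Cfsg.charDegree χ ^ 2 ≤ Nat.card ↥(P : Subgroup G)) (H : Subgroup G) [Fintype ↥H] (hH : Subgroup.normalizer ((P : Subgroup G) : Set G) ≤ H) : Cfsg.classInner χ χ = Cfsg.classInner (fun h : ↥H => χ h) (fun h : ↥H => χ h) := by
  classical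
  by_cases hHtop : H = ⊤
  · subst hHtop
    rw [Cfsg.classInner, Cfsg.classInner, Subgroup.card_top]
    congr 1
    exact (Fintype.sum_equiv Subgroup.topEquiv.toEquiv _ _ fun h => rfl).symm
  have hPp : IsPGroup p (P : Subgroup G) := P.2
  have hP1 : (P : Subgroup G) ≠ ⊥ := fun h => hHtop (top_le_iff.1 (le_trans (by
    rw [h, Subgroup.normalizer_eq_top]) hH))
  have hPH : (P : Subgroup G) ≤ H := Subgroup.le_normalizer.trans hH
  haveI : Fact (Nat.Prime p) := inferInstance
  have hfree : ∀ u ∈ (P : Subgroup G), u ≠ 1 → ∀ g : G, g⁻¹ * u * g ∈ H → g ∈ H := by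
    intro u hu hu1 g hg
    set P' := P.subtype hPH
    obtain ⟨k, hk⟩ := IsPGroup.iff_orderOf.1 hPp ⟨u, hu⟩
    rw [Subgroup.orderOf_mk] at hk
    set c : H := ⟨g⁻¹ * u * g, hg⟩
    have hc : IsPGroup p (Subgroup.zpowers c) := IsPGroup.of_card (n := k) (by
      rw [Nat.card_zpowers, Subgroup.orderOf_mk, ← hk]
      simpa using (MulAut.conj g⁻¹).orderOf_eq u)
    obtain ⟨Q, hQ⟩ := hc.exists_le_sylow
    obtain ⟨h, hh⟩ := MulAction.exists_smul_eq H Q P'
    have hmem : h * c * h⁻¹ ∈ (P' : Subgroup H) := by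
      rw [← hh]
      exact ⟨c, hQ (Subgroup.mem_zpowers c), rfl⟩
    have hP' : (h : G) * (g⁻¹ * u * g) * (h : G)⁻¹ ∈ (P : Subgroup G) := hmem
    by_contra hgH
    set x := (h : G) * g⁻¹ with hx
    have hxN : x⁻¹ ∉ Subgroup.normalizer ((P : Subgroup G) : Set G) := fun hN => hgH (by
      have h1 := H.mul_mem (hH hN) h.2
      simpa [hx, mul_assoc] using h1)
    refine hu1 (Subgroup.mem_bot.1 (hTI x⁻¹ hxN ▸ ⟨hu, ?_⟩))
    show u ∈ MulAut.conj x⁻¹ • (P : Subgroup G)
    rw [Subgroup.mem_pointwise_smul_iff_inv_smul_mem, ← map_inv, inv_inv, MulAut.smul_def,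
      MulAut.conj_apply, hx]
    simpa [mul_assoc] using hP'
  obtain ⟨n, ρ, rfl⟩ := hχ
  have hdegn : Cfsg.charDegree ρ.character = n := by
    simp [Cfsg.charDegree, Representation.char_one]
  rw [hdegn, pow_two] at hdeg
  let ρH : Representation ℂ H (Fin n → ℂ) := ρ.comp H.subtype
  have key : ∀ (K : Type _) [Group K] [Fintype K] (σ : Representation ℂ K (Fin n → ℂ)),
      Cfsg.classInner σ.character σ.character =
        (Module.finrank ℂ (Representation.linHom σ σ).invariants : ℂ) := by
    intro K _ _ σ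
    haveI : Invertible (Nat.card K : ℂ) := invertibleOfNonzero (Nat.cast_ne_zero.2 Nat.card_pos.ne')
    rw [← Representation.card_inv_mul_sum_char_eq_finrank, classInner_def]
    congr 1
    refine Finset.sum_congr rfl fun g _ => ?_
    rw [Representation.char_linHom, char_inv (χ := σ.character) ⟨n, σ, rfl⟩, mul_comm]
  show Cfsg.classInner ρ.character ρ.character = Cfsg.classInner ρH.character ρH.character
  rw [key G ρ, key H ρH]
  have heq : ∀ f, f ∈ (Representation.linHom ρ ρ).invariants ↔
      f ∈ (Representation.linHom ρH ρH).invariants := by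
    intro f
    have hiff : ∀ g : G, Representation.linHom ρ ρ g f = f ↔ ρ g ∘ₗ f = f ∘ₗ ρ g := by
      intro g
      rw [Representation.linHom_apply]
      constructor
      · intro h
        conv_rhs => rw [← h]
        rw [LinearMap.comp_assoc, LinearMap.comp_assoc, ← Module.End.mul_eq_comp (ρ g⁻¹), ← map_mul,
          inv_mul_cancel, map_one, Module.End.one_eq_id, LinearMap.comp_id]
      · intro h
        rw [← LinearMap.comp_assoc, h, LinearMap.comp_assoc, ← Module.End.mul_eq_comp (ρ g), ← map_mul,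
          mul_inv_cancel, map_one, Module.End.one_eq_id, LinearMap.comp_id]
    refine ⟨fun h k => h k, fun h g => (hiff g).2 ?_⟩
    exact Cfsg.Agent.BlocksChars.TIFixed.commute_of_commute (P : Subgroup G) H hPp hP1 hPH hfree
      hdeg ρ f (fun k hk => (hiff k).1 (h ⟨k, hk⟩)) g
  rw [show (Representation.linHom ρ ρ).invariants = (Representation.linHom ρH ρH).invariants from
    Submodule.ext heq]

end Cfsg.Agent.S4750
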