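import Cfsg.Statements.S0149
import Cfsg.Agent.Lib.Characters.Induction
-- import your own Cfsg.Agent.* helpers here

set_option autoImplicit false
open Cfsg

namespace Cfsg.Agent.S0149

/-- Let T be a subset of G meeting each of its conjugates by elements outside its normalizer N only in the identity, and let ψ be a class function of N vanishing on N away from T. Then the function induced from ψ agrees with ψ at every non-identity element of T. -/
theorem result {G : Type*} [Group G] [Fintype G] (T : Set G) (hTI : ∀ g : G, g ∉ Subgroup.normalizer T → ∀ t ∈ T, g * t * g⁻¹ ∈ T → t = 1) (hTN : T ⊆ Subgroup.normalizer T) (ψ : Subgroup.normalizer T → ℂ) (hψ : Cfsg.IsClassFunction (Subgroup.normalizer T) ψ) (hψT : ∀ x : Subgroup.normalizer T, (x : G) ∉ T → ψ x = 0) (t : Subgroup.normalizer T) (htT : (t : G) ∈ T) (ht1 : t ≠ 1) : Cfsg.indFun (Subgroup.normalizer T) ψ t = ψ t := by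
  have hN : (Nat.card (Subgroup.normalizer T) : ℂ) ≠ 0 := Nat.cast_ne_zero.mpr Nat.card_pos.ne'
  apply mul_left_cancel₀ hN
  rw [CharTheory.IndBasic.card_mul_indFun]
  classical
  have hval : ∀ x : G, Cfsg.extendByZero (Subgroup.normalizer T) ψ (x⁻¹ * (t : G) * x) =
      if x ∈ Subgroup.normalizer T then ψ t else 0 := by
    intro x
    by_cases hx : x ∈ Subgroup.normalizer T
    · rw [if_pos hx]
      have h := hψ t (⟨x, hx⟩⁻¹ : Subgroup.normalizer T)
      rw [inv_inv] at h
      rw [← h, ← CharTheory.IndBasic.extendByZero_coe (Subgroup.normalizer T) ψ]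
      simp
    · rw [if_neg hx]
      by_cases hy : x⁻¹ * (t : G) * x ∈ Subgroup.normalizer T
      · rw [CharTheory.IndBasic.extendByZero_of_mem _ _ hy]
        refine hψT _ fun hT => ht1 (Subtype.ext ?_)
        exact hTI x⁻¹ (fun h => hx (by simpa using Subgroup.inv_mem _ h)) t htT (by simpa using hT)
      · exact CharTheory.IndBasic.extendByZero_of_notMem _ _ hy
  simp only [hval, Finset.sum_ite, Finset.sum_const, nsmul_eq_mul, mul_zero, add_zero]
  congr 2
  rw [Nat.card_eq_fintype_card, Fintype.card_subtype]

end Cfsg.Agent.S0149
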