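import Cfsg.Statements.S0851
import Cfsg.Agent.Lib.CharTheory.TIFrobenius
import Cfsg.Agent.Lib.Characters.Coherence
import Cfsg.Agent.S0150

set_option autoImplicit false
open Cfsg

namespace Cfsg.Agent.S0851

open Cfsg.Agent.Characters Cfsg.Agent.CharTheory
open scoped ComplexConjugate

/-- Let K be a subgroup of the finite group G that meets each conjugate by an element outside its normalizer N trivially, is properly contained in N, and contains the centralizer of each of its non-identity elements (a T.I. subgroup with Frobenius normalizer). Suppose K is abelian, let e be the index of K in N, and call an irreducible character of N relevant when it takes at some element of K a value different from its degree. Then either there is exactly one relevant character and K is an elementary abelian p-group of order e + 1 for some prime p, or there are a sign ε and an injective map f from the relevant characters to the irreducible characters of G such that inducing χ - ξ to G gives ε (f χ - f ξ) for all relevant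 χ and ξ. -/
theorem result {G : Type*} [Group G] [Fintype G] (K : Subgroup G) (hTI : ∀ g : G, g ∉ Subgroup.normalizer (K : Set G) → ∀ k ∈ K, g * k * g⁻¹ ∈ K → k = 1) (hlt : K < Subgroup.normalizer (K : Set G)) (hC : ∀ k ∈ K, k ≠ 1 → Subgroup.centralizer ({k} : Set G) ≤ K) (hab : ∀ a ∈ K, ∀ b ∈ K, a * b = b * a) : (Nat.card {χ : Cfsg.IrrCharacter (Subgroup.normalizer (K : Set G)) // ∃ k : Subgroup.normalizer (K : Set G), (k : G) ∈ K ∧ (χ : ↥(Subgroup.normalizer (K : Set G)) → ℂ) k ≠ (χ : ↥(Subgroup.normalizer (K : Set G)) → ℂ) 1} = 1 ∧ ∃ p : ℕ, p.Prime ∧ Cfsg.IsElementaryAbelian p K ∧ Nat.card K = (K.subgroupOf (Subgroup.normalizer (K : Set G))).index + 1) ∨ ∃ (ε : ℂ) (f : {χ : Cfsg.IrrCharacter (Subgroup.normalizer (K : Set G)) // ∃ k : Subgroup.normalizer (K : Set G), (k : G) ∈ K ∧ (χ : ↥(Subgroup.normalizer (K : Set G)) → ℂ) k ≠ (χ : ↥(Subgroup.normalizer (K : Set G)) → ℂ) 1} → Cfsg.IrrCharacter G), (ε = 1 ∨ ε = -1) ∧ Function.Injective f ∧ ∀ χ ξ, Cfsg.indFun (Subgroup.normalizer (K : Set G)) ((χ.1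 : ↥(Subgroup.normalizer (K : Set G)) → ℂ) - (ξ.1 : ↥(Subgroup.normalizer (K : Set G)) → ℂ)) = ε • ((f χ : G → ℂ) - (f ξ : G → ℂ)) := by
  classical
  set N := Subgroup.normalizer (K : Set G) with hN
  set K' : Subgroup N := K.subgroupOf N with hK'
  haveI : K'.Normal := (Subgroup.normal_subgroupOf_iff_le_normalizer hlt.le).2 le_rfl
  have hCK : TIFrobenius.CentLe K' := fun k hk hk1 y hy =>
    hC k hk (fun h => hk1 (Subtype.ext h))
      (Subgroup.mem_centralizer_singleton_iff.2
        (congrArg Subtype.val (Subgroup.mem_centralizer_singleton_iff.1 hy)))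
  right
  haveI : Fintype N := Fintype.ofFinite N
  set R := {χ : Cfsg.IrrCharacter N //
    ∃ k : N, (k : G) ∈ K ∧ (χ : N → ℂ) k ≠ (χ : N → ℂ) 1} with hR
  haveI : Fintype R := Fintype.ofFinite R
  have hirr : ∀ χ : R, Cfsg.IsIrrCharacter N (χ.1 : N → ℂ) := fun χ => χ.1.2
  have hdeg : ∀ χ : R, (χ.1 : N → ℂ) 1 = (K'.index : ℂ) := by
    intro χ
    obtain ⟨θ, hθ, -, he⟩ := TIFrobenius.exists_theta hCK (hirr χ) χ.2
    rw [← he, indFun_one, irr_degree_one_of_comm (fun a b => Subtype.ext (Subtype.ext
      (hab _ a.2 _ b.2))) hθ, mul_one]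
  set m := Fintype.card R with hm
  let e : R ≃ Fin m := Fintype.equivFin R
  rcases Nat.eq_zero_or_pos m with h0 | hpos
  · haveI : IsEmpty R := Fintype.card_eq_zero_iff.1 h0
    exact ⟨1, isEmptyElim, Or.inl rfl, fun a => isEmptyElim a, fun a => isEmptyElim a⟩
  let i₀ : Fin m := ⟨0, hpos⟩
  set d : Fin m → (N → ℂ) := fun i => ((e.symm i).1 : N → ℂ) - ((e.symm i₀).1 : N → ℂ) with hd
  have hgen : ∀ i, Cfsg.IsGeneralizedCharacter N (d i) := fun i =>
    isGen_sub (isGen_of_isCharacter (irr_isCharacter _)) (isGen_of_isCharacter (irr_isCharacter _))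
  have hd1 : ∀ i, d i 1 = 0 := fun i => by simp [d, hdeg]
  have hoff : ∀ i, ∀ x : N, (x : G) ∉ (K : Set G) → d i x = 0 := fun i x hx => by
    simp only [d, Pi.sub_apply]
    rw [TIFrobenius.vanish_off hCK (hirr _) (e.symm i).2 hx,
      TIFrobenius.vanish_off hCK (hirr _) (e.symm i₀).2 hx, sub_self]
  have hne : ∀ i j, i ≠ j → ((e.symm i).1 : N → ℂ) ≠ ((e.symm j).1 : N → ℂ) := fun i j h h' =>
    h (e.symm.injective (Subtype.ext (Subtype.ext h')))
  obtain ⟨ε, hε, μ, hμ, hinjμ, hτ⟩ := exists_coherent_family i₀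
    (fun i => Cfsg.indFun N (d i))
    (by simp only [d, sub_self]; exact indFun_zero N)
    (fun i => isGen_indFun N (hgen i))
    (fun i => by rw [Cfsg.Agent.Characters.indFun_one, hd1, mul_zero])
    (fun i j hi hj => by
      rw [Cfsg.Agent.S0150.result (K : Set G) hTI Subgroup.le_normalizer (d i) (d j)
        (isGen_isClassFunction (hgen i)) (isGen_isClassFunction (hgen j)) (hoff i) (hoff j) (hd1 i)]
      simp only [d]
      rw [classInner_sub_left, classInner_sub_right, classInner_sub_right,
        classInner_isIrr_self (hirr (e.symm i₀)),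
        classInner_isIrr_ne (hirr _) (hirr _) (hne i i₀ hi),
        classInner_isIrr_ne (hirr _) (hirr _) (hne i₀ j (Ne.symm hj))]
      by_cases hij : i = j
      · subst hij
        rw [classInner_isIrr_self (hirr _), if_pos rfl]
        norm_num
      · rw [classInner_isIrr_ne (hirr _) (hirr _) (hne i j hij), if_neg hij]
        norm_num)
  refine ⟨ε, fun χ => ⟨μ (e χ), hμ _⟩, hε, fun a b h => e.injective (hinjμ (congrArg Subtype.val h)),
    fun χ ξ => ?_⟩
  have hval : ∀ η : R, Cfsg.indFun N (η.1 : N → ℂ) =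
      Cfsg.indFun N ((e.symm i₀).1 : N → ℂ) + ε • (μ (e η) - μ i₀) := fun η => by
    rw [← hτ (e η), show d (e η) = (η.1 : N → ℂ) - ((e.symm i₀).1 : N → ℂ) by simp [d],
      indFun_sub, add_sub_cancel]
  rw [indFun_sub, hval χ, hval ξ]
  module

end Cfsg.Agent.S0851
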