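import Mathlib
import Cfsg.Statements.S4496

set_option autoImplicit false
open Cfsg

namespace Cfsg.Agent.S4496

open scoped commutatorElement


/-- Let the finite group G contain an element x of prime order p with C_G(x) = ⟨x⟩. Then: (a) every normal subgroup of order divisible by p contains the commutator subgroup; (b) every normal subgroup S of order prime to p has order dividing the number of subgroups of order p of G and congruent to 1 modulo p, and in G/S the image of x again has prime order p and commutes only with its own powers. -/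
theorem result {G : Type*} [Group G] [Finite G] (p : ℕ) (hp : p.Prime) (x : G) (hx : orderOf x = p) (hC : Subgroup.centralizer ({x} : Set G) = Subgroup.zpowers x) (S : Subgroup G) [S.Normal] : (p ∣ Nat.card S → commutator G ≤ S) ∧ (¬ p ∣ Nat.card S → Nat.card S ∣ Nat.card {H : Subgroup G // Nat.card H = p} ∧ Nat.card S % p = 1 ∧ orderOf (QuotientGroup.mk x : G ⧸ S) = p ∧ Subgroup.centralizer ({(QuotientGroup.mk x : G ⧸ S)} : Set (G ⧸ S)) = Subgroup.zpowers (QuotientGroup.mk x : G ⧸ S)) := by
  haveI := Fact.mk hp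
  have hc : ∀ y : G, y * x = x * y → y ∈ Subgroup.zpowers x := fun y hy => by
    rw [← hC]; exact Subgroup.mem_centralizer_singleton_iff.2 hy
  have hcx : Nat.card (Subgroup.zpowers x) = p := by rw [Nat.card_zpowers, hx]
  -- the subgroup generated by `x` is a Sylow subgroup
  obtain ⟨P, hPx⟩ := (IsPGroup.of_card (n := 1) (by rw [hcx, pow_one])).exists_le_sylow
  have hPeq : (P : Subgroup G) = Subgroup.zpowers x := by
    refine le_antisymm ?_ hPx
    have hxP : x ∈ (P : Subgroup G) := hPx (Subgroup.mem_zpowers x)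
    haveI : Nontrivial P := ⟨⟨x, hxP⟩, 1, fun h => by
      have : x = 1 := congrArg Subtype.val h
      rw [this, orderOf_one] at hx
      exact hp.ne_one hx.symm⟩
    haveI := P.2.center_nontrivial
    obtain ⟨⟨z, hz⟩, hzne⟩ := exists_ne (1 : Subgroup.center P)
    have hzne' : (z : G) ≠ 1 := fun h => hzne (Subtype.ext (Subtype.ext h))
    have hzc : ∀ y ∈ (P : Subgroup G), y * (z : G) = (z : G) * y := fun y hy =>
      congrArg Subtype.val (Subgroup.mem_center_iff.1 hz ⟨y, hy⟩)
    have hzx : (z : G) ∈ Subgroup.zpowers x := hc _ (hzc x hxP).symm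
    have hxz : x ∈ Subgroup.zpowers (z : G) := by
      have : Subgroup.zpowers (z : G) = Subgroup.zpowers x := by
        refine Subgroup.eq_of_le_of_card_ge (Subgroup.zpowers_le.2 hzx) ?_
        have hd : Nat.card (Subgroup.zpowers (z : G)) ∣ p :=
          (Subgroup.card_dvd_of_le (Subgroup.zpowers_le.2 hzx)).trans (dvd_of_eq hcx)
        rcases (Nat.dvd_prime hp).1 hd with h | h
        · rw [Subgroup.card_eq_one, Subgroup.zpowers_eq_bot] at h
          exact absurd h hzne'
        · rw [hcx, h]
      exact this ▸ Subgroup.mem_zpowers x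
    intro y hy
    obtain ⟨k, hk⟩ := Subgroup.mem_zpowers_iff.1 hxz
    refine hc y ?_
    have : Commute y ((z : G) ^ k) := Commute.zpow_right (hzc y hy) k
    rw [hk] at this
    exact this
  have hPcard : Nat.card P = p := (congrArg (fun K : Subgroup G => Nat.card K) hPeq).trans hcx
  constructor
  · intro hdvd
    -- all elements of order `p` lie in `S`
    obtain ⟨s, hs⟩ := exists_prime_orderOf_dvd_card' p hdvd
    obtain ⟨Q, hQ⟩ := (IsPGroup.of_card (n := 1)
      (show Nat.card (Subgroup.zpowers (s : G)) = p ^ 1 by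
        rw [Nat.card_zpowers, Subgroup.orderOf_coe, hs, pow_one])).exists_le_sylow
    have hQeq : (Q : Subgroup G) = Subgroup.zpowers (s : G) := by
      refine (Subgroup.eq_of_le_of_card_ge hQ ?_).symm
      rw [Nat.card_zpowers, Subgroup.orderOf_coe, hs, Q.card_eq_multiplicity,
        ← P.card_eq_multiplicity, hPcard]
    have hQS : (Q : Subgroup G) ≤ S := hQeq ▸ Subgroup.zpowers_le.2 s.2
    obtain ⟨g, hg⟩ := MulAction.exists_smul_eq G Q P
    have hPS : (P : Subgroup G) ≤ S := by
      rw [← hg, Sylow.coe_subgroup_smul]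
      intro y hy
      rw [Subgroup.mem_pointwise_smul_iff_inv_smul_mem] at hy
      have hy' : g⁻¹ * y * g ∈ (Q : Subgroup G) := by simpa using hy
      have := (inferInstance : S.Normal).conj_mem _ (hQS hy') g
      simpa [mul_assoc] using this
    have htop := Sylow.normalizer_sup_eq_top' P hPS
    have hdec : ∀ a : G, ∃ n ∈ Subgroup.normalizer ((P : Subgroup G) : Set G),
        (QuotientGroup.mk a : G ⧸ S) = QuotientGroup.mk n := by
      intro a
      have : a ∈ Subgroup.normalizer ((P : Subgroup G) : Set G) ⊔ S := htop ▸ Subgroup.mem_top a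
      obtain ⟨n, hn, t, ht, rfl⟩ := Subgroup.mem_sup_of_normal_right.1 this
      exact ⟨n, hn, by simp [(QuotientGroup.eq_one_iff t).2 ht]⟩
    rw [commutator_def, Subgroup.commutator_le]
    intro a _ b _
    obtain ⟨m, hm, hma⟩ := hdec a
    obtain ⟨n, hn, hnb⟩ := hdec b
    rw [← QuotientGroup.eq_one_iff]
    have hmn : (n * m)⁻¹ * (m * n) ∈ Subgroup.zpowers x := by
      refine hc _ ?_
      rw [hPeq] at hm hn
      have e1 : ∀ u ∈ Subgroup.normalizer ((Subgroup.zpowers x : Subgroup G) : Set G),
          ∃ k : ℤ, u * x * u⁻¹ = x ^ k := fun u hu => by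
        obtain ⟨k, hk⟩ := Subgroup.mem_zpowers_iff.1
          ((Subgroup.mem_normalizer_iff.1 hu x).1 (Subgroup.mem_zpowers x))
        exact ⟨k, hk.symm⟩
      obtain ⟨i, hi⟩ := e1 m hm
      obtain ⟨j, hj⟩ := e1 n hn
      have hpow : ∀ (u : G) (k : ℤ), u * x ^ k * u⁻¹ = (u * x * u⁻¹) ^ k := fun u k => by
        rw [conj_zpow]
      have hmul : m * n * x * (m * n)⁻¹ = n * m * x * (n * m)⁻¹ := by
        calc m * n * x * (m * n)⁻¹ = m * (n * x * n⁻¹) * m⁻¹ := by group
          _ = (x ^ i) ^ j := by rw [hj, hpow, hi]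
          _ = (x ^ j) ^ i := by rw [← zpow_mul, ← zpow_mul, mul_comm]
          _ = n * (m * x * m⁻¹) * n⁻¹ := by rw [hi, hpow, hj]
          _ = n * m * x * (n * m)⁻¹ := by group
      rw [← mul_inv_eq_iff_eq_mul]
      calc (n * m)⁻¹ * (m * n) * x * ((n * m)⁻¹ * (m * n))⁻¹
          = (n * m)⁻¹ * (m * n * x * (m * n)⁻¹) * (n * m) := by group
        _ = x := by rw [hmul]; group
    have hxS : Subgroup.zpowers x ≤ S := hPeq ▸ hPS
    have h4 := (QuotientGroup.eq_one_iff _).2 (hxS hmn)
    simp only [QuotientGroup.mk_mul, QuotientGroup.mk_inv, inv_mul_eq_one] at h4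
    simp only [commutatorElement_def, QuotientGroup.mk_mul, QuotientGroup.mk_inv]
    rw [hma, hnb, ← h4]; group
  · intro hnd
    have hxS : x ∉ S := fun h => hnd ((dvd_of_eq hcx.symm).trans (Subgroup.card_dvd_of_le (Subgroup.zpowers_le.2 h)))
    have hdisj : ∀ y ∈ S, y ∈ Subgroup.zpowers x → y = 1 := by
      intro y hyS hyx
      have h1 : orderOf y ∣ p := (Subgroup.orderOf_dvd_natCard _ hyx).trans (dvd_of_eq hcx)
      rcases (Nat.dvd_prime hp).1 h1 with h | h
      · exact orderOf_eq_one_iff.1 h
      · exact absurd (h ▸ Subgroup.orderOf_dvd_natCard S hyS) hnd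
    have hN : ∀ y ∈ S, y ∈ Subgroup.normalizer ((P : Subgroup G) : Set G) → y = 1 := by
      intro y hyS hyN
      rw [hPeq] at hyN
      refine hdisj y hyS (hc y ?_)
      have h1 : y * x * y⁻¹ * x⁻¹ ∈ S := by
        have h := S.mul_mem hyS ((inferInstance : S.Normal).conj_mem _ (S.inv_mem hyS) x)
        simpa [mul_assoc] using h
      have h2 : y * x * y⁻¹ * x⁻¹ ∈ Subgroup.zpowers x :=
        Subgroup.mul_mem _ ((Subgroup.mem_normalizer_iff.1 hyN x).1 (Subgroup.mem_zpowers x))
          (Subgroup.inv_mem _ (Subgroup.mem_zpowers x))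
      have h3 := hdisj _ h1 h2
      rwa [mul_inv_eq_one, mul_inv_eq_iff_eq_mul] at h3
    refine ⟨?_, ?_, ?_, ?_⟩
    · have hcount : Nat.card {H : Subgroup G // Nat.card H = p} = Nat.card (Sylow p G) := by
        have hmult : p ^ (Nat.card G).factorization p = p := by
          rw [← P.card_eq_multiplicity, hPcard]
        refine Nat.card_congr ?_
        exact
          { toFun := fun H => Sylow.ofCard H.1 (H.2.trans hmult.symm)
            invFun := fun Q => ⟨Q, by rw [Q.card_eq_multiplicity, hmult]⟩
            left_inv := fun H => rfl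
            right_inv := fun Q => by ext : 1; rfl }
      rw [hcount, Sylow.card_eq_index_normalizer P]
      set N := Subgroup.normalizer ((P : Subgroup G) : Set G)
      let f : N →* G ⧸ S := (QuotientGroup.mk' S).comp N.subtype
      have hf : Function.Injective f := by
        rw [injective_iff_map_eq_one]
        intro n hn
        exact Subtype.ext (hN n ((QuotientGroup.eq_one_iff _).1 hn) n.2)
      obtain ⟨k, hk⟩ := Subgroup.card_dvd_of_injective f hf
      refine ⟨k, ?_⟩
      have h1 : Nat.card N * N.index = Nat.card G := N.card_mul_index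
      rw [Subgroup.card_eq_card_quotient_mul_card_subgroup S, hk, mul_assoc] at h1
      rw [mul_comm]
      exact mul_left_cancel₀ Nat.card_pos.ne' h1
    · have hZ : IsPGroup p (Subgroup.zpowers x) := IsPGroup.of_card (n := 1) (by rw [hcx, pow_one])
      letI : MulAction (Subgroup.zpowers x) S :=
        MulAction.compHom S ((MulAut.conjNormal (H := S)).comp (Subgroup.zpowers x).subtype)
      have h := hZ.card_modEq_card_fixedPoints (α := S)
      have : Nat.card (MulAction.fixedPoints (Subgroup.zpowers x) S) = 1 := by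
        rw [Nat.card_eq_one_iff_exists]
        refine ⟨⟨1, fun g => ?_⟩, fun s => Subtype.ext (Subtype.ext ?_)⟩
        · exact map_one (MulAut.conjNormal (H := S) (g : G))
        have h1 := congrArg Subtype.val (s.2 ⟨x, Subgroup.mem_zpowers x⟩)
        change ((MulAut.conjNormal (H := S) x) s.1 : G) = (s.1 : G) at h1
        rw [MulAut.conjNormal_apply, mul_inv_eq_iff_eq_mul] at h1
        exact hdisj _ s.1.2 (hc _ h1.symm)
      rw [this] at h
      rwa [Nat.ModEq, Nat.one_mod_eq_one.2 hp.ne_one] at h
    · refine orderOf_eq_prime ?_ fun h => hxS ((QuotientGroup.eq_one_iff x).1 h)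
      rw [← QuotientGroup.mk_pow, ← hx, pow_orderOf_eq_one]; simp
    · refine le_antisymm ?_ (Subgroup.zpowers_le.2 (Subgroup.mem_centralizer_singleton_iff.2 rfl))
      intro q hq
      induction q using QuotientGroup.induction_on with
      | _ g =>
        rw [Subgroup.mem_centralizer_singleton_iff, ← QuotientGroup.mk_mul,
          ← QuotientGroup.mk_mul] at hq
        have hgs : g * x * g⁻¹ * x⁻¹ ∈ S := by
          have h := (inferInstance : S.Normal).conj_mem _ (QuotientGroup.eq.1 hq.symm) (x * g)
          simpa [mul_assoc] using h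
        let φ : S → S := fun s => ⟨(s : G) * x * (s : G)⁻¹ * x⁻¹, by
          simpa [mul_assoc] using
            S.mul_mem s.2 ((inferInstance : S.Normal).conj_mem _ (S.inv_mem s.2) x)⟩
        have hinj : Function.Injective φ := by
          intro s t hst
          have h1 : (s : G) * x * (s : G)⁻¹ = (t : G) * x * (t : G)⁻¹ :=
            mul_right_cancel (congrArg Subtype.val hst)
          have h2 : ((t⁻¹ * s : S) : G) * x = x * ((t⁻¹ * s : S) : G) := by
            have h3 := congrArg (fun z => (t : G)⁻¹ * z * (s : G)) h1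
            simpa [mul_assoc] using h3
          have h4 : (t⁻¹ * s : S) = 1 := Subtype.ext (hdisj _ (t⁻¹ * s : S).2 (hc _ h2))
          exact (inv_mul_eq_one.1 h4).symm
        obtain ⟨s, hs⟩ := (Finite.injective_iff_surjective.1 hinj) ⟨_, hgs⟩
        have hs' : (s : G) * x * (s : G)⁻¹ = g * x * g⁻¹ :=
          mul_right_cancel (congrArg Subtype.val hs)
        have h5 : ((s : G)⁻¹ * g) * x = x * ((s : G)⁻¹ * g) := by
          have h3 := congrArg (fun z => (s : G)⁻¹ * z * g) hs'
          simp only [mul_assoc, inv_mul_cancel_left, inv_mul_cancel, mul_one] at h3 ⊢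
          exact h3.symm
        obtain ⟨k, hk⟩ := Subgroup.mem_zpowers_iff.1 (hc _ h5)
        refine Subgroup.mem_zpowers_iff.2 ⟨k, ?_⟩
        rw [← QuotientGroup.mk_zpow, hk, QuotientGroup.mk_mul, QuotientGroup.mk_inv,
          (QuotientGroup.eq_one_iff (s : G)).2 s.2, inv_one, one_mul]

end Cfsg.Agent.S4496
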