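import Cfsg.Statements.S4571
import Cfsg.Agent.Lib.Blocks.PQuotient
import Cfsg.Agent.Lib.Blocks.RegularSum

set_option autoImplicit false
open Cfsg

namespace Cfsg.Agent.S4571
open Cfsg.Agent.Blocks Cfsg.Agent.Characters
/-- Let Q be a normal p-subgroup of the finite group G with G = Q·C_G(Q), and M a maximal ideal of the algebraic integers containing p. Then the principal p-blocks of G and of G/Q have the same p-regular rank (the same number of irreducible Brauer characters). -/
theorem result {G : Type*} [Group G] [Finite G] (p : ℕ) [Fact p.Prime] (M : Ideal Cfsg.AlgInt) (hM : Cfsg.IsPModular p M) (Q : Subgroup G) [Q.Normal] (hQ : IsPGroup p Q) (hsup : Q ⊔ Subgroup.centralizer (Q : Set G) = ⊤) : Cfsg.blockRank p (Cfsg.principalBlock M G) = Cfsg.blockRank p (Cfsg.principalBlock M (G ⧸ Q)) := by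
  classical
  haveI := Fintype.ofFinite G
  haveI := Fintype.ofFinite (G ⧸ Q)
  haveI := Fintype.ofFinite (Cfsg.IrrCharacter (G ⧸ Q))
  have hp : p.Prime := Fact.out
  have hC : ∃ k : ℕ, (Subgroup.centralizer (Q : Set G)).index = p ^ k := by
    obtain ⟨n, hn⟩ := hQ.exists_card_eq
    set C := Subgroup.centralizer (Q : Set G) with hCdef
    let f : Q → G ⧸ C := fun q => ((q : G) : G ⧸ C)
    have hf : Function.Surjective f := fun y => by
      obtain ⟨g, rfl⟩ := QuotientGroup.mk_surjective y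
      have hg : g ∈ ((Q ⊔ C : Subgroup G) : Set G) := by rw [hsup]; trivial
      rw [Subgroup.normal_mul] at hg
      obtain ⟨q, hq, c, hc, rfl⟩ := Set.mem_mul.1 hg
      exact ⟨⟨q, hq⟩, QuotientGroup.eq.2 (by simpa using hc)⟩
    let φ : Q →* G ⧸ C := (QuotientGroup.mk' C).comp Q.subtype
    have hdvd : C.index ∣ Nat.card Q := by
      rw [Subgroup.index_eq_card]
      exact Subgroup.card_dvd_of_surjective φ hf
    obtain ⟨k, -, hk⟩ := (Nat.dvd_prime_pow hp).1 (hn ▸ hdvd)
    exact ⟨k, hk⟩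
  set B := Cfsg.principalBlock M G with hBdef
  set Bq := Cfsg.principalBlock M (G ⧸ Q) with hBqdef
  have hB : Cfsg.IsPBlock M B := isPBlock_principal M G
  let ι : Cfsg.IrrCharacter (G ⧸ Q) → Cfsg.IrrCharacter G := fun ψ =>
    ⟨_, isIrrCharacter_comp_surjective _ (QuotientGroup.mk'_surjective Q) ψ.2⟩
  have hι : ∀ ψ, ψ ∈ Bq ↔ ι ψ ∈ B := fun ψ =>
    sameBlock_inflate_iff hM hQ hC (trivIrr (G ⧸ Q)) ψ
  let L : ((G ⧸ Q) → ℂ) →ₗ[ℂ] (G → ℂ) :=
    { toFun := fun f g => if ¬ p ∣ orderOf g then f (g : G ⧸ Q) else 0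
      map_add' := fun a b => funext fun g => by simp only [Pi.add_apply]; split <;> simp
      map_smul' := fun c a => funext fun g => by
        simp only [Pi.smul_apply, RingHom.id_apply]; split <;> simp }
  have hLψ : ∀ ψ : Cfsg.IrrCharacter (G ⧸ Q),
      L (Cfsg.pRegularPart p (ψ : G ⧸ Q → ℂ)) = Cfsg.pRegularPart p (ι ψ : G → ℂ) := by
    intro ψ
    funext g
    by_cases hg : p ∣ orderOf g
    · simp [L, Cfsg.pRegularPart, Cfsg.IsPRegular, hg]
    · have hg' : ¬ p ∣ orderOf (g : G ⧸ Q) := fun h => hg (singular_of_mk g h)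
      simp [L, ι, Cfsg.pRegularPart, Cfsg.IsPRegular, hg, hg']
  have hmap : Submodule.map L (Submodule.span ℂ
      ((fun ψ : Cfsg.IrrCharacter (G ⧸ Q) => Cfsg.pRegularPart p (ψ : G ⧸ Q → ℂ)) '' Bq)) =
      Submodule.span ℂ ((fun χ : Cfsg.IrrCharacter G => Cfsg.pRegularPart p (χ : G → ℂ)) '' B) := by
    rw [Submodule.map_span]
    apply le_antisymm
    · refine Submodule.span_le.2 ?_
      rintro _ ⟨_, ⟨ψ, hψ, rfl⟩, rfl⟩
      exact Submodule.subset_span ⟨ι ψ, (hι ψ).1 hψ, (hLψ ψ).symm⟩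
    · refine Submodule.span_le.2 ?_
      rintro _ ⟨χ, hχ, rfl⟩
      set F : G ⧸ Q → ℂ := fun k => if h : ¬ p ∣ orderOf k then
        (χ : G → ℂ) (exists_regular_lift hp h).choose else 0 with hF
      have hFeq : ∀ g : G, ¬ p ∣ orderOf g → F (g : G ⧸ Q) = (χ : G → ℂ) g := by
        intro g hg
        have h : ¬ p ∣ orderOf (g : G ⧸ Q) := fun e => hg (singular_of_mk g e)
        rw [hF]
        simp only [dif_pos h]
        obtain ⟨h1, h2⟩ := (exists_regular_lift hp h).choose_spec
        rw [regular_lift_unique hp hQ hC h1 hg h2]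
      have hFcl : Cfsg.IsClassFunction (G ⧸ Q) F := by
        intro a b
        have ho : orderOf (b * a * b⁻¹) = orderOf a := MulEquiv.orderOf_eq (MulAut.conj b) a
        by_cases h : p ∣ orderOf a
        · rw [hF]
          simp only [dif_neg (not_not.2 h), dif_neg (not_not.2 (ho.symm ▸ h))]
        · obtain ⟨g, hg, rfl⟩ := exists_regular_lift hp h
          obtain ⟨c, rfl⟩ := QuotientGroup.mk_surjective b
          rw [← QuotientGroup.mk_inv, ← QuotientGroup.mk_mul, ← QuotientGroup.mk_mul, hFeq g hg,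
            hFeq _ (by rwa [show orderOf (c * g * c⁻¹) = orderOf g from
              MulEquiv.orderOf_eq (MulAut.conj c) g])]
          exact irr_isClassFunction χ g c
      set a : Cfsg.IrrCharacter (G ⧸ Q) → ℂ := fun ψ => Cfsg.classInner F (ψ : G ⧸ Q → ℂ) with ha
      set u : G → ℂ := ∑ ψ ∈ Finset.univ.filter (· ∈ Bq),
        a ψ • Cfsg.pRegularPart p (ι ψ : G → ℂ) with hu
      set v : G → ℂ := ∑ ψ ∈ Finset.univ.filter (fun ψ => ¬ ψ ∈ Bq),
        a ψ • Cfsg.pRegularPart p (ι ψ : G → ℂ) with hv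
      have hsum : Cfsg.pRegularPart p (χ : G → ℂ) = u + v := by
        rw [hu, hv, Finset.sum_filter_add_sum_filter_not]
        funext g
        simp only [Finset.sum_apply, Pi.smul_apply, smul_eq_mul]
        by_cases hg : p ∣ orderOf g
        · simp [Cfsg.pRegularPart, Cfsg.IsPRegular, hg]
        · have hr : Cfsg.IsPRegular p g := hg
          simp only [Cfsg.pRegularPart, if_pos hr]
          rw [← hFeq g hg]
          conv_lhs => rw [classFun_eq_sum hFcl]
          simp only [Finset.sum_apply, Pi.smul_apply, smul_eq_mul]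
          rfl
      have hort : ∀ ψ, ψ ∉ Bq → ∀ θ ∈ B, regSum p (ι ψ : G → ℂ) (θ : G → ℂ) = 0 := fun ψ hψ θ hθ =>
        regSum_eq_zero_of_not_sameBlock hM fun h =>
          hψ ((hι ψ).2 (mem_of_sameBlock hM hB hθ (sameBlock_symm hM h)))
      have hprod : ∀ ψ θ : G → ℂ, ∑ g : G, Cfsg.pRegularPart p ψ g *
          (starRingEnd ℂ) (Cfsg.pRegularPart p θ g) = regSum p ψ θ := by
        intro ψ θ
        rw [regSum_eq_sum]
        refine Finset.sum_congr rfl fun g _ => ?_
        by_cases hg : p ∣ orderOf g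
        · simp [Cfsg.pRegularPart, Cfsg.IsPRegular, hg]
        · simp [Cfsg.pRegularPart, Cfsg.IsPRegular, hg]
      have hvort : ∀ θ ∈ B, ∑ g : G, v g *
          (starRingEnd ℂ) (Cfsg.pRegularPart p (θ : G → ℂ) g) = 0 := by
        intro θ hθ
        simp only [hv, Finset.sum_apply, Pi.smul_apply, smul_eq_mul, Finset.sum_mul]
        rw [Finset.sum_comm]
        refine Finset.sum_eq_zero fun ψ hψ => ?_
        simp only [mul_assoc]
        rw [← Finset.mul_sum, hprod, hort ψ (Finset.mem_filter.1 hψ).2 θ hθ, mul_zero]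
      have hv0 : ∑ g : G, v g * (starRingEnd ℂ) (v g) = 0 := by
        have h1 : ∑ g : G, v g * (starRingEnd ℂ) (u g) = 0 := by
          simp only [hu, Finset.sum_apply, Pi.smul_apply, smul_eq_mul, map_sum, map_mul,
            Finset.mul_sum]
          rw [Finset.sum_comm]
          refine Finset.sum_eq_zero fun ψ hψ => ?_
          simp only [mul_left_comm (v _)]
          rw [← Finset.mul_sum, hvort _ ((hι ψ).1 (Finset.mem_filter.1 hψ).2), mul_zero]
        have h2 := hvort χ hχ
        simp only [hsum, Pi.add_apply, map_add, mul_add, Finset.sum_add_distrib, h1, zero_add] at h2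
        exact h2
      have hvz : v = 0 := by
        funext g
        have h3 : ∀ x : G, v x * (starRingEnd ℂ) (v x) = ((Complex.normSq (v x) : ℝ) : ℂ) :=
          fun x => (Complex.mul_conj (v x))
        simp only [h3, ← Complex.ofReal_sum, Complex.ofReal_eq_zero] at hv0
        exact Complex.normSq_eq_zero.1 ((Finset.sum_eq_zero_iff_of_nonneg fun x _ =>
          Complex.normSq_nonneg _).1 hv0 g (Finset.mem_univ g))
      show Cfsg.pRegularPart p (χ : G → ℂ) ∈ _
      rw [hsum, hvz, add_zero, hu]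
      refine Submodule.sum_mem _ fun ψ hψ => Submodule.smul_mem _ _ (Submodule.subset_span ?_)
      exact ⟨_, ⟨ψ, (Finset.mem_filter.1 hψ).2, rfl⟩, hLψ ψ⟩
  rw [Cfsg.blockRank, Cfsg.blockRank, ← hmap]
  set S := Submodule.span ℂ
    ((fun ψ : Cfsg.IrrCharacter (G ⧸ Q) => Cfsg.pRegularPart p (ψ : G ⧸ Q → ℂ)) '' Bq) with hS
  have hsupp : ∀ f ∈ S, ∀ k : G ⧸ Q, p ∣ orderOf k → f k = 0 := by
    intro f hf k hk
    induction hf using Submodule.span_induction with
    | mem x hx =>
      obtain ⟨ψ, -, rfl⟩ := hx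
      simp [Cfsg.pRegularPart, Cfsg.IsPRegular, hk]
    | zero => rfl
    | add x y _ _ hx hy => simp [hx, hy]
    | smul c x _ hx => simp [hx]
  refine (LinearEquiv.finrank_eq (LinearEquiv.ofBijective (L.submoduleMap S)
    ⟨?_, L.submoduleMap_surjective S⟩)).symm
  rw [injective_iff_map_eq_zero]
  rintro ⟨f, hf⟩ h
  refine Subtype.ext (funext fun k => ?_)
  by_cases hk : p ∣ orderOf k
  · exact hsupp f hf k hk
  · obtain ⟨g, hg, rfl⟩ := exists_regular_lift hp hk
    have h1 := congrFun (congrArg Subtype.val h) g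
    simp only [LinearMap.submoduleMap_coe_apply] at h1
    change (if ¬ p ∣ orderOf g then f (g : G ⧸ Q) else 0) = 0 at h1
    rwa [if_pos hg] at h1

end Cfsg.Agent.S4571
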