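import Cfsg.Statements.S4646
import Cfsg.Agent.BlockCharsA.PairNilpotent
import Cfsg.Agent.Lib.Blocks.Inflation
import Cfsg.Agent.Lib.Transfer.NormalPComplement

set_option autoImplicit false
open Cfsg Cfsg.Agent.Blocks Cfsg.Agent.Characters Cfsg.Agent.BlockCharsA

namespace Cfsg.Agent.S4646

/-- For a finite group G, a prime p and a maximal ideal M of the algebraic integers containing p: the principal block of G is nilpotent if and only if its p-regular rank is 1 (the trivial Brauer character is its only irreducible Brauer character). -/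
theorem result {G : Type*} [Group G] [Finite G] (p : ℕ) [Fact p.Prime] (M : Ideal Cfsg.AlgInt) (hM : Cfsg.IsPModular p M) : Cfsg.IsNilpotentBlock p M (Cfsg.principalBlock M G) ↔ Cfsg.blockRank p (Cfsg.principalBlock M G) = 1 := by
  classical
  rw [PairNilpotent.principal_nilpotent_iff hM, Cfsg.Agent.Transfer.NormalPComplement.hasNormalPComplement_iff_exists]
  haveI := Fintype.ofFinite G
  have hB := isPBlock_principal M G
  set v : G → ℂ := Cfsg.pRegularPart p (trivIrr G : G → ℂ) with hv
  have hv0 : v ≠ 0 := fun h => by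
    have := congrFun h 1
    simp [v, Cfsg.pRegularPart, Cfsg.IsPRegular, trivIrr, (Fact.out : p.Prime).ne_one] at this
  set S := Submodule.span ℂ ((fun χ : Cfsg.IrrCharacter G => Cfsg.pRegularPart p (χ : G → ℂ)) ''
    Cfsg.principalBlock M G)
  have hvS : v ∈ S := Submodule.subset_span ⟨trivIrr G, trivIrr_mem_principal hM, rfl⟩
  have hle : ℂ ∙ v ≤ S := (Submodule.span_singleton_le_iff_mem _ _).2 hvS
  constructor
  · rintro ⟨N, hN, hcop, k, hk⟩
    have hNp : ¬ p ∣ Nat.card N := (Nat.Prime.coprime_iff_not_dvd Fact.out).1 hcop.symm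
    have : S = ℂ ∙ v := by
      refine le_antisymm (Submodule.span_le.2 ?_) hle
      rintro _ ⟨χ, hχ, rfl⟩
      have hker := (sameBlock_one_iff hM hNp ⟨k, hk⟩ χ).1 hχ
      refine Submodule.mem_span_singleton.2 ⟨(χ : G → ℂ) 1, funext fun g => ?_⟩
      by_cases hg : p ∣ orderOf g
      · simp [v, Cfsg.pRegularPart, Cfsg.IsPRegular, hg]
      · simp [v, Cfsg.pRegularPart, Cfsg.IsPRegular, hg, trivIrr,
          hker g (mem_of_regular Fact.out ⟨k, hk⟩ hg)]
    show Module.finrank ℂ S = 1
    rw [this]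
    exact finrank_span_singleton hv0
  · intro h
    have hS : ℂ ∙ v = S := Submodule.eq_of_le_of_finrank_eq hle
      ((finrank_span_singleton hv0).trans h.symm)
    obtain ⟨K, hKn, hK, hKp, -, -⟩ := exists_blockKer hM hB (trivIrr_mem_principal hM)
    haveI := hKn
    have hreg : ∀ g : G, ¬ p ∣ orderOf g → g ∈ K := fun g hg => by
      rw [← SetLike.mem_coe, hK]
      intro χ hχ
      have hmem : Cfsg.pRegularPart p (χ : G → ℂ) ∈ ℂ ∙ v := by
        rw [hS]; exact Submodule.subset_span ⟨χ, hχ, rfl⟩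
      obtain ⟨c, hc⟩ := Submodule.mem_span_singleton.1 hmem
      have e1 := congrFun hc g
      have e2 := congrFun hc 1
      simp [v, Cfsg.pRegularPart, Cfsg.IsPRegular, hg, trivIrr,
        (Fact.out : p.Prime).ne_one] at e1 e2
      rw [← e1, ← e2]
    have hq : IsPGroup p (G ⧸ K) := by
      rw [isPGroup_iff_pow_pow_eq_one]
      intro y
      obtain ⟨g, rfl⟩ := QuotientGroup.mk_surjective y
      refine ⟨(orderOf g).factorization p, ?_⟩
      rw [← QuotientGroup.mk_pow, QuotientGroup.eq_one_iff]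
      refine hreg _ ?_
      rw [orderOf_pow_of_dvd (pow_ne_zero _ (Fact.out : p.Prime).ne_zero) (Nat.ordProj_dvd _ _)]
      exact Nat.not_dvd_ordCompl Fact.out (orderOf_pos g).ne'
    obtain ⟨t, ht⟩ := hq.exists_card_eq
    exact ⟨K, hKn, ((Nat.Prime.coprime_iff_not_dvd Fact.out).2 hKp).symm, t, ht⟩

end Cfsg.Agent.S4646
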