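import Mathlib
import Cfsg.Statements.S4652
import Cfsg.Agent.BlockCharsA.DegreeSum

set_option autoImplicit false
open Cfsg

namespace Cfsg.Agent.S4652

open Cfsg.Agent.Blocks Cfsg.Agent.Characters Cfsg.Agent.BlockCharsA.DegreeSum

theorem defect_principal {G : Type*} [Group G] [Finite G] {p : ℕ} {M : Ideal Cfsg.AlgInt}
    (hM : Cfsg.IsPModular p M) :
    Cfsg.blockDefect p (Cfsg.principalBlock M G) = (Nat.card G).factorization p := by
  have h : sInf ((fun χ : Cfsg.IrrCharacter G => (Cfsg.charDegree (χ : G → ℂ)).factorization p) ''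
      Cfsg.principalBlock M G) = 0 := by
    rw [Nat.sInf_eq_zero]
    refine Or.inl ⟨trivIrr G, trivIrr_mem_principal hM, ?_⟩
    simp [Cfsg.charDegree, trivIrr]
  rw [Cfsg.blockDefect, h, Nat.sub_zero]


/-- Fix a prime p and a maximal ideal M of the algebraic integers containing p. The defect groups of the principal p-block of a finite group G are exactly the Sylow p-subgroups of G: a subgroup D is a defect group of the principal block if and only if D is a Sylow p-subgroup. -/
theorem result {G : Type*} [Group G] [Fintype G] (p : ℕ) [Fact p.Prime] (M : Ideal Cfsg.AlgInt) (hM : Cfsg.IsPModular p M) (D : Subgroup G) : Cfsg.IsDefectGroup p M (Cfsg.principalBlock M G) D ↔ ∃ S : Sylow p G, (S : Subgroup G) = D := by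
  classical
  have hB := isPBlock_principal M G
  constructor
  · intro hD
    exact ⟨Sylow.ofCard D (by rw [card_defectGroup hM hB hD, defect_principal hM]), rfl⟩
  · rintro ⟨S, rfl⟩
    obtain ⟨g, hg⟩ := exists_defectClass hM hB
    obtain ⟨D₀, hD₀⟩ := exists_isSylCent p g
    have hc : Nat.card D₀ = p ^ (Nat.card G).factorization p := by
      rw [card_defectGroup hM hB ⟨g, hg, hD₀⟩, defect_principal hM]
    obtain ⟨x, hx⟩ := MulAction.exists_smul_eq G (Sylow.ofCard D₀ hc) S
    have hS : (S : Subgroup G) = D₀.map (MulAut.conj x).toMonoidHom := by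
      rw [← hx]; rfl
    refine ⟨x * g * x⁻¹, ⟨?_, ?_, fun χ hχ => ?_⟩, ?_⟩
    · rw [← coeff_blockIdem, central_blockIdem, coeff_blockIdem]; exact hg.1
    · rw [← coeff_blockIdem, central_blockIdem, coeff_blockIdem]; exact hg.2.1
    · rw [← omega_classSum (irr_isClassFunction χ)]
      have : classSum (x * g * x⁻¹) = classSum g := el_ext fun y => by
        simp only [coeff_classSum]
        by_cases hy : IsConj g y
        · rw [if_pos hy, if_pos ((isConj_conj_right_iff.2 (IsConj.refl g)).symm.trans hy)]
        · rw [if_neg hy, if_neg fun h => hy ((isConj_conj_right_iff.2 (IsConj.refl g)).trans h)]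
      rw [this, omega_classSum (irr_isClassFunction χ)]
      exact hg.2.2 χ hχ
    · rw [hS]
      exact isSylCent_conj hD₀ x

end Cfsg.Agent.S4652
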