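import Cfsg.Statements.S0944
import Cfsg.Agent.Lib.Characters.Basic

set_option autoImplicit false
open Cfsg

namespace Cfsg.Agent.S0944

open Cfsg.Agent.Characters

/-- Let χ be an irreducible character of the finite group G and u an involution. Then χ u is a rational integer n with n ≡ χ 1 (mod 2). -/
theorem result {G : Type*} [Group G] [Finite G] (χ : Cfsg.IrrCharacter G) (u : G) (hu : orderOf u = 2) : ∃ n : ℤ, (χ : G → ℂ) u = (n : ℂ) ∧ (2 : ℤ) ∣ (Cfsg.charDegree (χ : G → ℂ) : ℤ) - n := by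
  obtain ⟨n, ρ, hρ, hchar⟩ := χ.2
  obtain ⟨w, hw, hk⟩ := exists_rootsOfUnity_sum ρ u
  have hw2 : ∀ i, w i = 1 ∨ w i = -1 := fun i => sq_eq_one_iff.1 (by rw [← hu]; exact hw i)
  classical
  set s := Finset.univ.filter fun i => w i = 1
  refine ⟨2 * (s.card : ℤ) - (Module.finrank ℂ (Fin n → ℂ) : ℤ), ?_, ?_⟩
  · rw [← hchar]
    have h1 := hk 1
    rw [pow_one] at h1
    simp only [pow_one] at h1
    rw [h1, Finset.sum_congr rfl (g := fun i => (2 : ℂ) * (if w i = 1 then 1 else 0) - 1)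
      fun i _ => ?_]
    · rw [Finset.sum_sub_distrib, ← Finset.mul_sum, Finset.sum_boole, Finset.sum_const,
        Finset.card_univ, Fintype.card_fin]
      push_cast
      simp [s]
    · rcases hw2 i with h | h <;> rw [h] <;> norm_num
  · have hd : Cfsg.charDegree (χ : G → ℂ) = Module.finrank ℂ (Fin n → ℂ) := by
      rw [Cfsg.charDegree, ← hchar, ρ.char_one, Complex.natCast_re, Nat.floor_natCast]
    rw [hd]
    exact ⟨(Module.finrank ℂ (Fin n → ℂ) : ℤ) - s.card, by ring⟩

end Cfsg.Agent.S0944
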