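import Cfsg.Statements.S4722
import Mathlib
import Cfsg.Agent.BlocksChars.SectionOrth
import Cfsg.Agent.Lib.Blocks.Covering
import Cfsg.Agent.Lib.Characters.Kernel
import Cfsg.Agent.Lib.Cores.Basic
-- import your own Cfsg.Agent.* helpers here

set_option autoImplicit false
open Cfsg

namespace Cfsg.Agent.S4722

open Cfsg.Agent.Blocks Cfsg.Agent.Characters Cfsg.Agent.BlocksChars
open scoped ComplexConjugate

/-- With three vanishing moments and one positive weight, all weighted points coincide. -/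
theorem eq_of_moments {ι : Type*} [Fintype ι] (b r : ι → ℝ) (h0 : ∑ i, b i = 0)
    (h1 : ∑ i, b i * r i = 0) (h2 : ∑ i, b i * r i ^ 2 = 0)
    (hone : ∀ i j, 0 < b i → 0 < b j → i = j) {i j : ι} (hi : b i ≠ 0) (hj : b j ≠ 0) :
    r i = r j := by
  obtain ⟨k, -, hk⟩ : ∃ k ∈ Finset.univ, 0 < b k := by
    by_contra hcon
    push Not at hcon
    exact hi ((Finset.sum_eq_zero_iff_of_nonpos hcon).1 h0 i (Finset.mem_univ i))
  suffices h : ∀ l, b l ≠ 0 → r l = r k by rw [h i hi, h j hj]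
  intro l hl
  have hsum : ∑ m, b m * (r m - r k) ^ 2 = 0 := by
    calc ∑ m, b m * (r m - r k) ^ 2
        = ∑ m, (b m * r m ^ 2 - 2 * r k * (b m * r m) + r k ^ 2 * b m) :=
          Finset.sum_congr rfl fun m _ => by ring
      _ = 0 := by
          rw [Finset.sum_add_distrib, Finset.sum_sub_distrib, ← Finset.mul_sum, ← Finset.mul_sum,
            h0, h1, h2]
          ring
  have hnp : ∀ m ∈ Finset.univ, b m * (r m - r k) ^ 2 ≤ 0 := by
    intro m _
    rcases le_or_gt (b m) 0 with hm | hm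
    · exact mul_nonpos_of_nonpos_of_nonneg hm (sq_nonneg _)
    · rw [hone m k hm hk]; simp
  have := (Finset.sum_eq_zero_iff_of_nonpos hnp).1 hsum l (Finset.mem_univ l)
  exact sub_eq_zero.1 (pow_eq_zero_iff (two_ne_zero) |>.1 ((mul_eq_zero.1 this).resolve_left hl))

/-- A class combination vanishing on the sections of elements not inverted by conjugates of `t`. -/
theorem involution_section_eq_zero {G : Type*} [Group G] [Finite G] {p : ℕ} (hp : p.Prime)
    [Fintype (Cfsg.IrrCharacter G)] {t v : G} (ht : t * t = 1)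
    (hv : ∀ g : G, (g * t * g⁻¹) * v * (g * t * g⁻¹)⁻¹ ≠ v⁻¹) {g x : G}
    (hx : Cfsg.IsPPart p g x) (hvx : IsConj v x) :
    ∑ χ : Cfsg.IrrCharacter G,
      (χ : G → ℂ) t ^ 2 / (χ : G → ℂ) 1 * (χ : G → ℂ) g = 0 := by
  classical
  haveI := Fintype.ofFinite G
  have hinv : t⁻¹ = t := inv_eq_of_mul_eq_one_right ht
  have h : (Nat.card G : ℂ) * ∑ χ : Cfsg.IrrCharacter G,
      (χ : G → ℂ) t ^ 2 / (χ : G → ℂ) 1 * (χ : G → ℂ) g = 0 := by
    calc (Nat.card G : ℂ) * ∑ χ : Cfsg.IrrCharacter G,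
          (χ : G → ℂ) t ^ 2 / (χ : G → ℂ) 1 * (χ : G → ℂ) g
        = ∑ χ : Cfsg.IrrCharacter G, ∑ w : G,
            (χ : G → ℂ) (g * (w * t * w⁻¹)) * conj ((χ : G → ℂ) t) := by
          rw [Finset.mul_sum]
          refine Finset.sum_congr rfl fun χ _ => ?_
          rw [← Finset.sum_mul, sum_char_mul_conj, ← char_inv (irr_isCharacter χ), hinv]
          ring
      _ = 0 := by
          rw [Finset.sum_comm]
          refine Finset.sum_eq_zero fun w _ => ?_
          rw [second_orthogonality, if_neg]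
          intro hc
          obtain ⟨c, hc⟩ := isConj_iff.1 hc.symm
          set a := w * t * w⁻¹ with ha
          have haa : a * a = 1 := by
            rw [ha, show w * t * w⁻¹ * (w * t * w⁻¹) = w * (t * t) * w⁻¹ by group, ht]; group
          have h2 : (g * a) * (g * a) = 1 := by
            rw [← hc, show c * t * c⁻¹ * (c * t * c⁻¹) = c * (t * t) * c⁻¹ by group, ht]; group
          have hag : a * g * a⁻¹ = g⁻¹ := by
            rw [inv_eq_of_mul_eq_one_right haa]
            refine eq_inv_of_mul_eq_one_right ?_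
            rw [show g * (a * g * a) = g * a * (g * a) by simp only [mul_assoc]]; exact h2
          obtain ⟨y, hgy, hcom, ⟨k, hk⟩, hy⟩ := hx
          have h3 : Cfsg.IsPPart p g⁻¹ (a * x * a⁻¹) := by
            refine ⟨a * y * a⁻¹, ?_, hcom.map (MulAut.conj a).toMonoidHom, ⟨k, ?_⟩, ?_⟩
            · rw [← hag, ← hgy]; group
            · rw [← hk]; exact MulEquiv.orderOf_eq (MulAut.conj a) x
            · rw [show orderOf (a * y * a⁻¹) = orderOf y from
                MulEquiv.orderOf_eq (MulAut.conj a) y]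
              exact hy
          have h4 : Cfsg.IsPPart p g⁻¹ x⁻¹ :=
            ⟨y⁻¹, by rw [← hgy, mul_inv_rev]; exact hcom.inv_inv.eq, hcom.inv_inv,
              ⟨k, by rw [orderOf_inv, hk]⟩, by rw [orderOf_inv]; exact hy⟩
          have h5 := ppart_unique hp h3 h4
          obtain ⟨d, rfl⟩ := isConj_iff.1 hvx
          apply hv (d⁻¹ * w)
          rw [show d⁻¹ * w * t * (d⁻¹ * w)⁻¹ = d⁻¹ * a * d by rw [ha]; group]
          calc d⁻¹ * a * d * v * (d⁻¹ * a * d)⁻¹ = d⁻¹ * (a * (d * v * d⁻¹) * a⁻¹) * d := by group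
            _ = d⁻¹ * (d * v * d⁻¹)⁻¹ * d := by rw [h5]
            _ = v⁻¹ := by group
  exact (mul_eq_zero.1 h).resolve_left natCard_ne_zero

/-- Let M be a maximal ideal of the algebraic integers containing 2, P a 2-subgroup of the finite group G, U a subset of P, and t an involution of G such that no element of U is inverted by any conjugate of t. Let θ be a generalized character of P vanishing outside U, and for χ in the principal 2-block B₀ put a_χ = #P⁻¹ Σ_{y ∈ P} χ(y) θ(y⁻¹). Then Σ_{χ ∈ B₀} a_χ χ(t)^2/χ(1) = 0, Σ_{χ ∈ B₀} a_χ χ(1) = 0 and Σ_{χ ∈ B₀} a_χ χ(t) = 0. If moreover #P⁻¹ Σ_{y ∈ P} θ(y) ≠ 0, then either at least two of the a_χ have positive real part and at least two have negative real part, or G has a proper normal subgroup containing O_2'(G) and t. -/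
theorem result {G : Type*} [Group G] [Finite G] (M : Ideal Cfsg.AlgInt) (hM : Cfsg.IsPModular 2 M) (P : Subgroup G) (hP : IsPGroup 2 P) (U : Set G) (hUP : U ⊆ (P : Set G)) (t : G) (ht : orderOf t = 2) (hinv : ∀ u ∈ U, ∀ g : G, (g * t * g⁻¹) * u * (g * t * g⁻¹)⁻¹ ≠ u⁻¹) (θ : ↥P → ℂ) (hθ : Cfsg.IsGeneralizedCharacter ↥P θ) (hθU : ∀ y : ↥P, (y : G) ∉ U → θ y = 0) : (∑ᶠ χ ∈ Cfsg.principalBlock M G, ((Nat.card ↥P : ℂ)⁻¹ * ∑ᶠ y : ↥P, (χ : G → ℂ) (y : G) * θ y⁻¹) * (χ : G → ℂ) t ^ 2 / (χ : G → ℂ) 1 = 0) ∧ (∑ᶠ χ ∈ Cfsg.principalBlock M G, ((Nat.card ↥P : ℂ)⁻¹ * ∑ᶠ y : ↥P, (χ : G → ℂ) (y : G) * θ y⁻¹) * (χ : G → ℂ) 1 = 0) ∧ (∑ᶠ χ ∈ Cfsg.principalBlock M G, ((Nat.card ↥P : ℂ)⁻¹ * ∑ᶠ y : ↥P, (χ : G → ℂ) (y : G) * θ y⁻¹) * (χ : G → ℂ) t = 0) ∧ ((Nat.card ↥P : ℂ)⁻¹ * ∑ᶠ y : ↥P, θ y ≠ 0 → (2 ≤ Nat.card {χ : Cfsg.IrrCharacter G // χ ∈ Cfsg.principalBlock M G ∧ 0 < (((Nat.card ↥P : ℂ)⁻¹ * ∑ᶠ y : ↥P, (χ : G → ℂ) (y : G) * θ y⁻¹)).re} ∧ 2 ≤ Nat.card {χ : Cfsg.IrrCharacter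 G // χ ∈ Cfsg.principalBlock M G ∧ (((Nat.card ↥P : ℂ)⁻¹ * ∑ᶠ y : ↥P, (χ : G → ℂ) (y : G) * θ y⁻¹)).re < 0}) ∨ ∃ K : Subgroup G, K.Normal ∧ K ≠ ⊤ ∧ Cfsg.pPrimeCore 2 G ≤ K ∧ t ∈ K) := by
  classical
  haveI := Fintype.ofFinite G
  haveI : Fintype P := Fintype.ofFinite P
  haveI := Fintype.ofFinite (Cfsg.IrrCharacter G)
  have ht2 : t * t = 1 := by
    have := pow_orderOf_eq_one t; rwa [ht, pow_two] at this
  have htinv : t⁻¹ = t := inv_eq_of_mul_eq_one_right ht2
  have hord := fun y : P => SectionOrth.exists_orderOf_eq hP y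
  set B := Cfsg.principalBlock M G with hBdef
  have hBb : Cfsg.IsPBlock M B := isPBlock_principal M G
  set a : Cfsg.IrrCharacter G → ℂ := fun χ =>
    (Nat.card P : ℂ)⁻¹ * ∑ y : P, (χ : G → ℂ) (y : G) * θ y⁻¹ with hadef
  simp only [finsum_eq_sum_of_fintype (α := ↥P)]
  have hinvU : ∀ y : P, θ y⁻¹ ≠ 0 →
      ∀ g : G, (g * t * g⁻¹) * (y : G) * (g * t * g⁻¹)⁻¹ ≠ (y : G)⁻¹ := by
    intro y hy g hgy
    have hu : ((y⁻¹ : P) : G) ∈ U := by_contra fun h => hy (hθU _ h)
    refine hinv _ hu g ?_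
    rw [Subgroup.coe_inv, ← conj_inv, hgy]
  have hvanish : ∀ f : Cfsg.IrrCharacter G → ℂ,
      (∀ y : P, θ y⁻¹ ≠ 0 →
        ∑ χ : Cfsg.IrrCharacter G, (if χ ∈ B then f χ * (χ : G → ℂ) y else 0) = 0) →
      ∑ χ : Cfsg.IrrCharacter G, (if χ ∈ B then a χ * f χ else 0) = 0 := by
    intro f hf
    calc ∑ χ : Cfsg.IrrCharacter G, (if χ ∈ B then a χ * f χ else 0)
        = (Nat.card P : ℂ)⁻¹ * ∑ y : P, θ y⁻¹ *
            ∑ χ : Cfsg.IrrCharacter G, (if χ ∈ B then f χ * (χ : G → ℂ) y else 0) := by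
          simp only [Finset.mul_sum, mul_ite, mul_zero]
          rw [Finset.sum_comm]
          refine Finset.sum_congr rfl fun χ _ => ?_
          split_ifs
          · simp only [hadef, Finset.mul_sum, Finset.sum_mul]
            exact Finset.sum_congr rfl fun y _ => by ring
          · simp
      _ = 0 := by
          rw [Finset.sum_eq_zero, mul_zero]
          intro y _
          by_cases hy : θ y⁻¹ = 0
          · rw [hy, zero_mul]
          · rw [hf y hy, mul_zero]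
  have hpair : ∀ w : G, (∃ k : ℕ, orderOf w = 2 ^ k) →
      (∀ y : P, θ y⁻¹ ≠ 0 → ¬ IsConj (y : G) w⁻¹) →
      ∑ χ : Cfsg.IrrCharacter G, (if χ ∈ B then a χ * (χ : G → ℂ) w else 0) = 0 := by
    intro w hw hne
    refine hvanish _ fun y hy => ?_
    obtain ⟨k, hk⟩ := hw
    have h0 := SectionOrth.sum_pElement_eq_zero hM hBb (hord y) (v := w⁻¹)
      ⟨k, by rw [orderOf_inv, hk]⟩ (hne y hy)
    rw [finsum_mem_def, finsum_eq_sum_of_fintype] at h0
    simp only [Set.indicator_apply] at h0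
    refine Eq.trans ?_ h0
    refine Finset.sum_congr rfl fun χ _ => ?_
    split_ifs
    · rw [char_inv (irr_isCharacter χ), Complex.conj_conj, mul_comm]
    · rfl
  have E2 : ∑ χ : Cfsg.IrrCharacter G, (if χ ∈ B then a χ * (χ : G → ℂ) 1 else 0) = 0 := by
    refine hpair 1 ⟨0, by simp⟩ fun y hy hc => ?_
    rw [inv_one] at hc
    have h1 := isConj_one_left.1 hc
    exact hinvU y hy 1 (by rw [h1]; group)
  have E3 : ∑ χ : Cfsg.IrrCharacter G, (if χ ∈ B then a χ * (χ : G → ℂ) t else 0) = 0 := by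
    refine hpair t ⟨1, by rw [ht]; norm_num⟩ fun y hy hc => ?_
    rw [htinv] at hc
    obtain ⟨c, hc⟩ := isConj_iff.1 hc.symm
    refine hinvU y hy c ?_
    rw [← hc, mul_inv_cancel_right, conj_inv, htinv]
  have E1 : ∑ χ : Cfsg.IrrCharacter G,
      (if χ ∈ B then a χ * ((χ : G → ℂ) t ^ 2 / (χ : G → ℂ) 1) else 0) = 0 := by
    refine hvanish _ fun y hy => SectionOrth.blockSum_eq_zero_of_section hM hBb (hord y) _ ?_
    exact fun g x hx hvx => involution_section_eq_zero hM.1 ht2 (hinvU y hy) hx hvx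
  refine ⟨?_, ?_, ?_, fun hne => ?_⟩
  · rw [finsum_mem_def, finsum_eq_sum_of_fintype]
    simp only [Set.indicator_apply]
    refine Eq.trans ?_ E1
    exact Finset.sum_congr rfl fun χ _ => if_congr Iff.rfl (by rw [mul_div_assoc]) rfl
  · rw [finsum_mem_def, finsum_eq_sum_of_fintype]
    simp only [Set.indicator_apply]
    exact E2
  · rw [finsum_mem_def, finsum_eq_sum_of_fintype]
    simp only [Set.indicator_apply]
    exact E3
  have hreal : ∀ χ : Cfsg.IrrCharacter G, ∃ z : ℤ, a χ = (z : ℂ) := by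
    intro χ
    have hres : Cfsg.IsGeneralizedCharacter P (fun y : P => (χ : G → ℂ) (y : G)) :=
      isGen_of_isCharacter (isCharacter_restrict P (irr_isCharacter χ))
    obtain ⟨z, hz⟩ := classInner_gen_int hres hθ
    refine ⟨z, ?_⟩
    rw [← hz, classInner_def, hadef]
    simp only [SectionOrth.gen_inv hθ]
  choose z hz using hreal
  have hre : ∀ χ : Cfsg.IrrCharacter G, (a χ).re = (z χ : ℝ) := fun χ => by rw [hz χ]; simp
  have htr : ∀ χ : Cfsg.IrrCharacter G, (((χ : G → ℂ) t).re : ℂ) = (χ : G → ℂ) t := fun χ => by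
    rw [← Complex.conj_eq_iff_re, ← char_inv (irr_isCharacter χ), htinv]
  set d : Cfsg.IrrCharacter G → ℝ := fun χ => (Cfsg.charDegree (χ : G → ℂ) : ℝ) with hd
  have hdC : ∀ χ : Cfsg.IrrCharacter G, (d χ : ℂ) = (χ : G → ℂ) 1 := fun χ => by
    rw [hd]; simp [charDegree_cast χ]
  have hd0 : ∀ χ : Cfsg.IrrCharacter G, 0 < d χ := fun χ => Nat.cast_pos.2 (charDegree_pos χ)
  set b : Cfsg.IrrCharacter G → ℝ := fun χ => if χ ∈ B then (z χ : ℝ) * d χ else 0 with hb
  set r : Cfsg.IrrCharacter G → ℝ := fun χ => ((χ : G → ℂ) t).re / d χ with hr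
  have hb0 : ∑ χ, b χ = 0 := by
    apply Complex.ofReal_injective
    rw [Complex.ofReal_sum, Complex.ofReal_zero]
    refine Eq.trans ?_ E2
    refine Finset.sum_congr rfl fun χ _ => ?_
    simp only [hb]
    split_ifs
    · rw [Complex.ofReal_mul, hdC, hz]; simp
    · simp
  have hb1 : ∑ χ, b χ * r χ = 0 := by
    apply Complex.ofReal_injective
    rw [Complex.ofReal_sum, Complex.ofReal_zero]
    refine Eq.trans ?_ E3
    refine Finset.sum_congr rfl fun χ _ => ?_
    simp only [hb, hr]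
    split_ifs
    · rw [Complex.ofReal_mul, Complex.ofReal_mul, Complex.ofReal_div, hdC, htr, hz]
      field_simp [irr_one_ne_zero χ.2]
      push_cast
      ring
    · simp
  have hb2 : ∑ χ, b χ * r χ ^ 2 = 0 := by
    apply Complex.ofReal_injective
    rw [Complex.ofReal_sum, Complex.ofReal_zero]
    refine Eq.trans ?_ E1
    refine Finset.sum_congr rfl fun χ _ => ?_
    simp only [hb, hr]
    split_ifs
    · rw [Complex.ofReal_mul, Complex.ofReal_mul, Complex.ofReal_pow, Complex.ofReal_div, hdC, htr,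
        hz]
      field_simp [irr_one_ne_zero χ.2]
      push_cast
      ring
    · simp
  have htrivB : trivIrr G ∈ B := trivIrr_mem_principal hM
  have hz1 : z (trivIrr G) ≠ 0 := by
    intro h
    apply hne
    have := hz (trivIrr G)
    rw [h, Int.cast_zero] at this
    rw [← this, hadef]
    simp only [trivIrr_coe, one_mul]
    congr 1
    exact (Fintype.sum_equiv (Equiv.inv P) _ _ fun y => by simp)
  have hbtriv : b (trivIrr G) ≠ 0 := by
    simp only [hb, if_pos htrivB]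
    exact mul_ne_zero (Int.cast_ne_zero.2 hz1) (hd0 _).ne'
  by_cases hcount : (∀ i j, 0 < b i → 0 < b j → i = j) ∨ (∀ i j, b i < 0 → b j < 0 → i = j)
  swap
  · left
    push Not at hcount
    obtain ⟨⟨i, j, hi, hj, hij⟩, k, l, hk, hl, hkl⟩ := hcount
    have hB_of : ∀ χ, b χ ≠ 0 → χ ∈ B := fun χ h => by
      by_contra hn; exact h (by simp [hb, hn])
    refine ⟨?_, ?_⟩ <;> refine Finite.one_lt_card_iff_nontrivial.2 ?_
    · have key : ∀ χ, 0 < b χ → χ ∈ B ∧ 0 < (a χ).re := fun χ h => by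
        have hχ := hB_of χ h.ne'
        simp only [hb, if_pos hχ] at h
        exact ⟨hχ, by rw [hre]; exact pos_of_mul_pos_left h (hd0 χ).le⟩
      exact ⟨⟨i, key i hi⟩, ⟨j, key j hj⟩, fun e => hij (congrArg Subtype.val e)⟩
    · have key : ∀ χ, b χ < 0 → χ ∈ B ∧ (a χ).re < 0 := fun χ h => by
        have hχ := hB_of χ h.ne
        simp only [hb, if_pos hχ] at h
        exact ⟨hχ, by rw [hre]; exact neg_of_mul_neg_left h (hd0 χ).le⟩
      exact ⟨⟨k, key k hk⟩, ⟨l, key l hl⟩, fun e => hkl (congrArg Subtype.val e)⟩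
  right
  have hr1 : ∀ χ, b χ ≠ 0 → r χ = 1 := by
    intro χ hχ
    have htriv : r (trivIrr G) = 1 := by
      have h1 : d (trivIrr G) = 1 := by
        apply Complex.ofReal_injective; rw [hdC]; simp
      simp [hr, h1]
    rw [← htriv]
    rcases hcount with h | h
    · exact eq_of_moments b r hb0 hb1 hb2 h hχ hbtriv
    · refine eq_of_moments (fun i => -b i) r (by simp [hb0]) (by simp [hb1]) (by simp [hb2])
        (fun i j hi hj => h i j (by simpa using hi) (by simpa using hj)) ?_ ?_ <;> simp [hχ, hbtriv]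
  obtain ⟨χ, hχne, hχb⟩ : ∃ χ, χ ≠ trivIrr G ∧ b χ ≠ 0 := by
    by_contra hcon
    push Not at hcon
    rw [Finset.sum_eq_single (trivIrr G) (fun χ _ h => hcon χ h) (by simp)] at hb0
    exact hbtriv hb0
  have hχB : χ ∈ B := by by_contra hn; exact hχb (by simp [hb, hn])
  haveI := charKernel_normal (irr_isCharacter χ)
  refine ⟨charKernel (χ : G → ℂ) (irr_isCharacter χ), inferInstance, ?_, ?_, ?_⟩
  · intro htop
    refine hχne ?_
    have hall : ∀ g : G, (χ : G → ℂ) g = (χ : G → ℂ) 1 := fun g =>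
      mem_charKernel.1 (htop ▸ Subgroup.mem_top g : g ∈ charKernel (χ : G → ℂ) (irr_isCharacter χ))
    by_contra hne'
    have hin := classInner_irr χ (trivIrr G)
    rw [if_neg hne', classInner_def] at hin
    simp only [hall, trivIrr_coe, map_one, mul_one, Finset.sum_const, Finset.card_univ,
      ← Nat.card_eq_fintype_card, nsmul_eq_mul] at hin
    rw [← mul_assoc, inv_mul_cancel₀ natCard_ne_zero, one_mul] at hin
    exact irr_one_ne_zero χ.2 hin
  · intro n hn
    refine mem_charKernel.2 ?_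
    haveI : Fact (Nat.Prime 2) := ⟨hM.1⟩
    haveI := Cores.pPrimeCore_normal (G := G) 2
    exact trivial_on_transfer (N := Cfsg.pPrimeCore 2 G) hM (Cores.pPrimeCore_not_dvd 2)
      (χ := trivIrr G) hχB (fun _ _ => rfl) n hn
  · refine mem_charKernel.2 ?_
    have h1 := hr1 χ hχb
    rw [hr, div_eq_one_iff_eq (hd0 χ).ne'] at h1
    rw [← htr χ, h1, hdC]

end Cfsg.Agent.S4722
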