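import Cfsg.Statements.S4503
import Cfsg.Agent.BlockCharsA.FTMain

set_option autoImplicit false
open Cfsg

namespace Cfsg.Agent.S4503

/-- Let G be a finite group whose order is divisible by the prime p exactly once and which has no normal subgroup of order p. Then every faithful character χ of G has degree at least (p − 1)/2: 2·χ(1) + 1 ≥ p. -/
theorem result {G : Type*} [Group G] [Finite G] (p : ℕ) (hp : p.Prime) (hdiv : p ∣ Nat.card G) (hsq : ¬ p ^ 2 ∣ Nat.card G) (hnn : ∀ H : Subgroup G, H.Normal → Nat.card H ≠ p) (χ : G → ℂ) (hχ : Cfsg.IsCharacter G χ) (hfaith : ∀ g : G, χ g = χ 1 → g = 1) : p ≤ 2 * Cfsg.charDegree χ + 1 := by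
  classical
  haveI := Fintype.ofFinite G
  haveI : Fact p.Prime := ⟨hp⟩
  by_contra hlt
  push Not at hlt
  obtain ⟨P⟩ : Nonempty (Sylow p G) := inferInstance
  have hP : Nat.card (P : Subgroup G) = p := by
    obtain ⟨k, hk⟩ := IsPGroup.iff_card.mp P.isPGroup'
    have hd : p ^ k ∣ Nat.card G := hk ▸ Subgroup.card_subgroup_dvd_card _
    have hle : k ≤ 1 := by
      by_contra h
      exact hsq ((pow_dvd_pow p (by omega : 2 ≤ k)).trans hd)
    have hk0 : k ≠ 0 := by
      intro h
      rw [h, pow_zero] at hk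
      have := P.dvd_card_of_dvd_card hdiv
      rw [hk, Nat.dvd_one] at this
      exact hp.ne_one this
    rw [hk, show k = 1 by omega, pow_one]
  obtain ⟨d, hd⟩ := Cfsg.Agent.Characters.char_one_nat hχ
  have hdd : Cfsg.charDegree χ = d := by simp [Cfsg.charDegree, hd]
  rw [hdd] at hlt
  have hd0 : d ≠ 0 := by
    intro h
    rw [h, Nat.cast_zero] at hd
    have hz := Cfsg.Agent.CharTheory.Basics.char_eq_zero_of_one hχ hd
    obtain ⟨g, hg⟩ := exists_prime_orderOf_dvd_card' (G := G) p hdiv
    rw [hfaith g (by rw [hz]; rfl), orderOf_one] at hg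
    exact hp.ne_one hg.symm
  obtain ⟨t, ht⟩ := hp.odd_of_ne_two (by omega)
  exact hnn _ (Cfsg.Agent.BlockCharsA.FeitThompson.normal_of_small hp (Nat.card G) G rfl P hP χ hχ
    hfaith (by rw [hdd]; omega)) hP

end Cfsg.Agent.S4503
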