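import Cfsg.Statements.S0178
import Cfsg.Agent.Lib.Characters.Counting
-- import your own Cfsg.Agent.* helpers here

set_option autoImplicit false
open Cfsg

namespace Cfsg.Agent.S0178

/-- The degree of an irreducible complex representation of a finite group is at most the index of any abelian subgroup. -/
theorem result {G : Type*} [Group G] [Finite G] {V : Type*} [AddCommGroup V] [Module ℂ V] [FiniteDimensional ℂ V] (ρ : Representation ℂ G V) [ρ.IsIrreducible] (A : Subgroup G) (hA : ∀ a ∈ A, ∀ b ∈ A, a * b = b * a) : Module.finrank ℂ V ≤ A.index := by
  classical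
  haveI := Fintype.ofFinite G
  haveI := Fintype.ofFinite A
  have hr := Characters.isCharacter_restrict A (Characters.isCharacter_character ρ)
  obtain ⟨lam, hlam, hne⟩ : ∃ lam : A → ℂ, Cfsg.IsIrrCharacter A lam ∧
      Cfsg.classInner (fun x : A => ρ.character x) lam ≠ 0 := by
    by_contra h
    push Not at h
    have h1 := congrFun (Characters.classFun_eq_zero (Characters.char_isClassFunction hr) h) 1
    simp only [OneMemClass.coe_one, ρ.char_one, Pi.zero_apply] at h1
    exact (Characters.finrank_pos_of_isIrreducible ρ).ne' (by exact_mod_cast h1)
  have hind : Cfsg.classInner (Cfsg.indFun A lam) ρ.character ≠ 0 := by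
    rw [Characters.frobenius_reciprocity A lam (Characters.rep_isClassFunction ρ),
      Characters.classInner_conj_symm (fun x : A => ρ.character x) lam]
    exact fun h => hne ((map_eq_zero _).1 h)
  have h := Characters.irr_degree_le
    (Characters.isCharacter_indFun A (Characters.isCharacter_of_isIrr hlam))
    (Characters.isIrrCharacter_character ρ) hind
  rw [ρ.char_one, Characters.indFun_one,
    Characters.irr_degree_one_of_comm (fun a b => Subtype.ext (hA a a.2 b b.2)) hlam, mul_one,
    Complex.natCast_re, Complex.natCast_re] at h
  exact_mod_cast h

end Cfsg.Agent.S0178
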