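import Cfsg.Statements.S0860
import Mathlib
import Cfsg.Agent.Lib.Characters.Inner

set_option autoImplicit false
open Cfsg Cfsg.Agent.Characters
open scoped ComplexConjugate

namespace Cfsg.Agent.S0860

/-- Let a group A act on the set of irreducible characters and on the set of conjugacy classes of a finite group G in such a way that (a • χ) evaluated on the class a • C equals χ evaluated on C, for all a, χ and C. Then every element of A fixes exactly as many irreducible characters as it fixes conjugacy classes. -/
theorem result {G : Type*} [Group G] [Finite G] {A : Type*} [Group A] [MulAction A (Cfsg.IrrCharacter G)] [MulAction A (ConjClasses G)] (hcompat : ∀ (a : A) (χ : Cfsg.IrrCharacter G) (g g' : G), ConjClasses.mk g' = a • ConjClasses.mk g → ((a • χ : Cfsg.IrrCharacter G) : G → ℂ) g' = (χ : G → ℂ) g) (a : A) : Nat.card {χ : Cfsg.IrrCharacter G // a • χ = χ} = Nat.card {C : ConjClasses G // a • C = C} := by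
  classical
  have := Fintype.ofFinite G
  have := Fintype.ofFinite (Cfsg.IrrCharacter G)
  -- a representative of the translated class
  choose σ hσ using fun g : G => ConjClasses.mk_surjective (a⁻¹ • ConjClasses.mk g)
  have hval : ∀ (χ : Cfsg.IrrCharacter G) (g : G),
      ((a • χ : Cfsg.IrrCharacter G) : G → ℂ) g = (χ : G → ℂ) (σ g) := by
    intro χ g
    exact hcompat a χ (σ g) g (by rw [hσ g, smul_inv_smul])
  have hfix : ∀ g : G, IsConj (σ g) g ↔ a • ConjClasses.mk g = ConjClasses.mk g := by
    intro g
    rw [← ConjClasses.mk_eq_mk_iff_isConj, hσ g, inv_smul_eq_iff, eq_comm]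
  have hL : (Nat.card {χ : Cfsg.IrrCharacter G // a • χ = χ} : ℂ) =
      ∑ χ : Cfsg.IrrCharacter G,
        Cfsg.classInner ((a • χ : Cfsg.IrrCharacter G) : G → ℂ) (χ : G → ℂ) := by
    rw [Finset.sum_congr rfl fun χ _ => classInner_irr (a • χ) χ, Finset.sum_boole,
      Nat.card_eq_fintype_card, Fintype.card_subtype]
  -- sum over the elements lying in fixed classes
  have hR : ∑ χ : Cfsg.IrrCharacter G,
        Cfsg.classInner ((a • χ : Cfsg.IrrCharacter G) : G → ℂ) (χ : G → ℂ) =
      (Nat.card G : ℂ)⁻¹ * ∑ g : G, if a • ConjClasses.mk g = ConjClasses.mk g then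
        (Nat.card (Subgroup.centralizer ({g} : Set G)) : ℂ) else 0 := by
    simp only [classInner_def, hval, ← Finset.mul_sum]
    rw [Finset.sum_comm]
    congr 1
    refine Finset.sum_congr rfl fun g _ => ?_
    refine (second_orthogonality (σ g) g).trans ?_
    split_ifs with h1 h2 h2 <;> first | rfl | exact absurd ((hfix g).mp h1) h2 | exact absurd ((hfix g).mpr h2) h1
  have := Fintype.ofFinite (ConjClasses G)
  have key : (Nat.card {χ : Cfsg.IrrCharacter G // a • χ = χ} : ℂ) =
      (Nat.card {C : ConjClasses G // a • C = C} : ℂ) := by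
    rw [hL, hR, Nat.card_eq_fintype_card (α := {C : ConjClasses G // a • C = C}),
      Fintype.card_subtype, ← Finset.sum_boole, ← Finset.sum_fiberwise Finset.univ ConjClasses.mk,
      Finset.mul_sum]
    refine Finset.sum_congr rfl fun C _ => ?_
    by_cases hC : a • C = C
    · rw [if_pos hC]
      obtain ⟨h, rfl⟩ := ConjClasses.mk_surjective C
      have hterm : ∀ g ∈ Finset.univ.filter (fun g : G => ConjClasses.mk g = ConjClasses.mk h),
          (if a • ConjClasses.mk g = ConjClasses.mk g then
            (Nat.card (Subgroup.centralizer ({g} : Set G)) : ℂ) else 0) =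
            (Nat.card (Subgroup.centralizer ({h} : Set G)) : ℂ) := by
        intro g hg
        rw [Finset.mem_filter] at hg
        rw [hg.2, if_pos hC]
        have h1 := card_carrier_mul_card_centralizer g
        have h2 := card_carrier_mul_card_centralizer h
        rw [hg.2] at h1
        have : 0 < Nat.card (ConjClasses.mk h).carrier := by
          rw [Nat.card_pos_iff]
          exact ⟨⟨⟨h, ConjClasses.mem_carrier_mk⟩⟩, inferInstance⟩
        rw [Nat.eq_of_mul_eq_mul_left this (h1.trans h2.symm)]
      rw [Finset.sum_congr rfl hterm, Finset.sum_const, nsmul_eq_mul]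
      have hc : (Finset.univ.filter fun g : G => ConjClasses.mk g = ConjClasses.mk h).card =
          Nat.card (ConjClasses.mk h).carrier := by
        rw [Nat.card_eq_fintype_card, ← Fintype.card_subtype]
        exact Fintype.card_congr (Equiv.subtypeEquivRight fun g =>
          ConjClasses.mem_carrier_iff_mk_eq.symm)
      rw [hc, ← Nat.cast_mul, card_carrier_mul_card_centralizer,
        inv_mul_cancel₀ natCard_ne_zero]
    · rw [if_neg hC, Finset.sum_eq_zero, mul_zero]
      intro g hg
      rw [(Finset.mem_filter.mp hg).2, if_neg hC]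
  exact_mod_cast key

end Cfsg.Agent.S0860
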