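import Cfsg.Statements.S0896
import Cfsg.Agent.Lib.CharTheory.BrauerInduction

set_option autoImplicit false
open scoped ComplexConjugate
open Cfsg

namespace Cfsg.Agent.S0896

open Cfsg.Agent.Characters Cfsg.Agent.CharTheory
open scoped ComplexConjugate

universe u

/-- A sum of an invariant function is divisible by `p` if every orbit is, and so are the fixed
terms. -/
theorem dvd_sum_of_orbits {E α : Type*} [Group E] [MulAction E α] [Fintype α] (p : ℕ) (f : α → ℕ)
    (hinv : ∀ (g : E) (a : α), f (g • a) = f a)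
    (h : ∀ a : α, p ∣ (MulAction.stabilizer E a).index ∨ p ∣ f a) : p ∣ ∑ a, f a := by
  classical
  rw [← Finset.sum_fiberwise Finset.univ (fun a => (⟦a⟧ : MulAction.orbitRel.Quotient E α)) f]
  refine Finset.dvd_sum fun q _ => ?_
  induction q using Quotient.inductionOn with
  | h a =>
    have hfil : ∀ b, b ∈ Finset.univ.filter (fun b : α =>
        (⟦b⟧ : MulAction.orbitRel.Quotient E α) = ⟦a⟧) ↔ b ∈ MulAction.orbit E a := fun b => by
      rw [Finset.mem_filter, Quotient.eq, MulAction.orbitRel_apply]
      simp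
    rw [Finset.sum_congr rfl (g := fun _ => f a) fun b hb => by
      obtain ⟨g, rfl⟩ := (hfil b).1 hb
      exact hinv g a, Finset.sum_const, smul_eq_mul]
    rcases h a with h | h
    · refine Dvd.dvd.mul_right ?_ _
      rw [MulAction.index_stabilizer, ← Nat.card_coe_set_eq, Nat.card_eq_fintype_card] at h
      rwa [← Finset.card_univ, ← Finset.card_map (Function.Embedding.subtype _),
        show (Finset.univ : Finset (MulAction.orbit E a)).map (Function.Embedding.subtype _) =
          Finset.univ.filter (fun b : α => (⟦b⟧ : MulAction.orbitRel.Quotient E α) = ⟦a⟧) from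
          Finset.ext fun b => by rw [hfil]; simp] at h
    · exact Dvd.dvd.mul_left h _

/-- The multiplicity of the invariant constituents decides divisibility by `p` of a twisted
norm. -/
theorem dvd_twisted_norm {E : Type u} [Group E] [Fintype E] (D : Subgroup E) [D.Normal]
    [Fintype D] {p : ℕ} (hp : p.Prime) (hpow : ∃ k, D.index ∣ p ^ k) {θ : D → ℂ}
    (hθ : Cfsg.IsCharacter D θ) (hinv : ∀ g : E, Clifford.conjBy D g θ = θ) {ψ : E → ℂ}
    (hψ : Cfsg.IsCharacter E ψ)
    (hfix : ∀ φ : D → ℂ, Cfsg.IsIrrCharacter D φ → (∀ g : E, Clifford.conjBy D g φ = φ) →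
      ∀ m : ℕ, Cfsg.classInner θ φ = (m : ℂ) → p ∣ m) :
    ∃ m : ℕ, p ∣ m ∧ Cfsg.classInner (fun d : D => ψ d * θ d) θ = (m : ℂ) := by
  classical
  haveI := Fintype.ofFinite (Cfsg.IrrCharacter D)
  have hψθ : Cfsg.IsCharacter D (fun d : D => ψ d * θ d) :=
    isCharacter_mul (isCharacter_restrict D hψ) hθ
  choose a ha using fun φ : Cfsg.IrrCharacter D => classInner_char_nat hθ (irr_isCharacter φ)
  choose b hb using fun φ : Cfsg.IrrCharacter D => classInner_char_nat hψθ (irr_isCharacter φ)
  refine ⟨∑ φ, a φ * b φ, ?_, ?_⟩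
  · letI act : MulAction E (Cfsg.IrrCharacter D) :=
      { smul := fun g φ =>
          ⟨Clifford.conjBy D g⁻¹ (φ : D → ℂ), Clifford.isIrrCharacter_conjBy D g⁻¹ φ.2⟩
        one_smul := fun φ => Subtype.ext (by
          show Clifford.conjBy D 1⁻¹ (φ : D → ℂ) = φ
          rw [inv_one, Clifford.conjBy_one])
        mul_smul := fun g h φ => Subtype.ext (by
          show Clifford.conjBy D (g * h)⁻¹ (φ : D → ℂ) =
            Clifford.conjBy D g⁻¹ (Clifford.conjBy D h⁻¹ (φ : D → ℂ))
          rw [Clifford.conjBy_conjBy, mul_inv_rev]) }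
    have hsmul : ∀ (g : E) (φ : Cfsg.IrrCharacter D),
        ((g • φ : Cfsg.IrrCharacter D) : D → ℂ) = Clifford.conjBy D g⁻¹ (φ : D → ℂ) :=
      fun g φ => rfl
    refine dvd_sum_of_orbits (E := E) p _ (fun g φ => ?_) fun φ => ?_
    · have h1 : a (g • φ) = a φ := by
        have h := ha (g • φ)
        conv_lhs at h => rw [hsmul, ← hinv g⁻¹, Clifford.classInner_conjBy, ha φ]
        exact_mod_cast h.symm
      have h2 : b (g • φ) = b φ := by
        have h := hb (g • φ)
        have hinv' : Clifford.conjBy D g⁻¹ (fun d : D => ψ d * θ d) =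
            fun d : D => ψ d * θ d := by
          funext d
          show _ * _ = _
          rw [← Clifford.conjBy_apply D g⁻¹ θ d, hinv]
          congr 1
          exact char_isClassFunction hψ (d : E) g⁻¹
        rw [hsmul] at h
        conv_lhs at h => rw [← hinv', Clifford.classInner_conjBy, hb φ]
        exact_mod_cast h.symm
      simp only [h1, h2]
    · by_cases hf : ∀ g : E, Clifford.conjBy D g (φ : D → ℂ) = φ
      · exact Or.inr ((hfix _ φ.2 hf _ (ha φ)).mul_right _)
      · left
        have hle : D ≤ MulAction.stabilizer E φ := by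
          intro d hd
          rw [MulAction.mem_stabilizer_iff]
          refine Subtype.ext (funext fun x => ?_)
          rw [hsmul, Clifford.conjBy_apply]
          have := irr_isClassFunction φ x ⟨d⁻¹, D.inv_mem hd⟩
          exact (congrArg (φ : D → ℂ) (Subtype.ext rfl)).trans this
        obtain ⟨k, hk⟩ := hpow
        obtain ⟨i, -, hi⟩ := (Nat.dvd_prime_pow hp).1
          ((Subgroup.index_dvd_of_le hle).trans hk)
        rw [hi]
        refine dvd_pow_self p fun h0 => hf fun g => ?_
        rw [h0, pow_zero, Subgroup.index_eq_one] at hi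
        have : g⁻¹ • φ = φ := MulAction.mem_stabilizer_iff.1 (hi ▸ Subgroup.mem_top g⁻¹)
        have h := congrArg Subtype.val this
        rwa [hsmul, inv_inv] at h
  · conv_lhs => arg 2; rw [classFun_eq_sum (char_isClassFunction hθ)]
    rw [classInner_sum_right]
    push_cast
    refine Finset.sum_congr rfl fun φ _ => ?_
    rw [classInner_smul_right, hb, ha, map_natCast]

/-- Let N be a normal subgroup of the finite group G with the index of N a power of the prime p, and ϑ an irreducible character of N invariant under conjugation by G. Then there are a p-elementary subgroup E of G with E ⊔ N = ⊤ and an irreducible character φ of the subgroup E ⊓ N, invariant under conjugation by E, such that the inner product of the restriction of ϑ to E ⊓ N with φ is an integer not divisible by p. -/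
theorem result {G : Type*} [Group G] [Fintype G] (p : ℕ) (hp : p.Prime) (N : Subgroup G) [hN : N.Normal] (hind : ∃ k : ℕ, N.index = p ^ k) (ϑ : N → ℂ) (hϑ : Cfsg.IsIrrCharacter N ϑ) (hinv : ∀ (g : G) (n : N), ϑ ⟨g * n * g⁻¹, hN.conj_mem (n : G) n.2 g⟩ = ϑ n) : ∃ (E : Subgroup G) (φ : ↥(E ⊓ N) → ℂ), Cfsg.IsElementary p E ∧ E ⊔ N = ⊤ ∧ Cfsg.IsIrrCharacter ↥(E ⊓ N) φ ∧ (∀ (g : G) (hg : g ∈ E) (x : ↥(E ⊓ N)), φ ⟨g * x * g⁻¹, ⟨(E.mul_mem (E.mul_mem hg x.2.1) (E.inv_mem hg)), hN.conj_mem (x : G) x.2.2 g⟩⟩ = φ x) ∧ ∃ m : ℕ, ¬ p ∣ m ∧ (Nat.card ↥(E ⊓ N) : ℂ)⁻¹ * ∑ᶠ x : ↥(E ⊓ N), ϑ ⟨(x : G), x.2.2⟩ * conj (φ x) = (m : ℂ) := by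
  classical
  obtain ⟨k, hk⟩ := hind
  haveI := Fintype.ofFinite N
  by_contra hcon
  push Not at hcon
  obtain ⟨m, hm, hmem⟩ := Cfsg.Agent.CharTheory.BrauerInduction.exists_constant_mem hp G
  let F : N → ℂ := fun n => ϑ n * conj (ϑ n)
  let L : (G → ℂ) → ℂ := fun f => (Nat.card N : ℂ)⁻¹ * ∑ n : N, f n * F n
  have hN0 : (Nat.card N : ℂ) ≠ 0 := natCard_ne_zero
  have key : ∀ f ∈ Cfsg.Agent.CharTheory.BrauerInduction.elemSpan p G,
      ∃ z : ℤ, (p : ℤ) ∣ z ∧ L f = (z : ℂ) := by
    intro f hf
    induction hf using AddSubgroup.closure_induction with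
    | mem f hf =>
      obtain ⟨E, ψ, hE, hψ, rfl⟩ := hf
      haveI := Fintype.ofFinite E
      set D : Subgroup E := N.subgroupOf E with hD
      haveI := Fintype.ofFinite D
      let θD : D → ℂ := fun d => ϑ ⟨((d : E) : G), d.2⟩
      have hθD : Cfsg.IsCharacter D θD :=
        isCharacter_comp ({ toFun := fun d => ⟨((d : E) : G), d.2⟩
                            map_one' := rfl
                            map_mul' := fun _ _ => rfl } : D →* N) (isCharacter_of_isIrr hϑ)
      have hinvD : ∀ g : E, Clifford.conjBy D g θD = θD := fun g =>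
        funext fun d => hinv (g : G) ⟨((d : E) : G), d.2⟩
      have hψD : Cfsg.IsCharacter D (fun d : D => ψ d * θD d) :=
        isCharacter_mul (isCharacter_restrict D hψ) hθD
      have hval : L (Cfsg.indFun E ψ) =
          ((E ⊔ N).index : ℂ) * Cfsg.classInner (fun d : D => ψ d * θD d) θD := by
        have hx : ∀ x : G, ∑ n : N, Cfsg.extendByZero E ψ (x⁻¹ * n * x) * F n =
            ∑ d : D, ψ d * F ⟨((d : E) : G), d.2⟩ := by
          intro x
          rw [← Fintype.sum_equiv (MulAut.conjNormal x : N ≃* N).toEquiv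
            (fun n : N => Cfsg.extendByZero E ψ n * F n)
            (fun n : N => Cfsg.extendByZero E ψ (x⁻¹ * n * x) * F n) fun n => ?_]
          · symm
            refine Fintype.sum_of_injective (fun d : D => (⟨((d : E) : G), d.2⟩ : N))
              (fun a b h => Subtype.ext (Subtype.ext (congrArg Subtype.val h :)))
              (fun d : D => ψ d * F ⟨((d : E) : G), d.2⟩) _ (fun n hn => ?_) fun d => ?_
            · rw [IndBasic.extendByZero_of_notMem E ψ fun h => hn ⟨⟨⟨n, h⟩, n.2⟩, rfl⟩, zero_mul]
            · rw [IndBasic.extendByZero_coe]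
          · have h1 : x⁻¹ * ((MulAut.conjNormal x n : N) : G) * x = n := by simp [mul_assoc]
            have h2 : ϑ (MulAut.conjNormal x n) = ϑ n :=
              (congrArg ϑ (Subtype.ext (by simp))).trans (hinv x n)
            show _ = Cfsg.extendByZero E ψ (x⁻¹ * ((MulAut.conjNormal x n : N) : G) * x) *
              F (MulAut.conjNormal x n)
            rw [h1]
            simp only [F, h2]
        have hcard : Nat.card G * Nat.card D = (E ⊔ N).index * (Nat.card N * Nat.card E) := by
          have h1 : Nat.card D * N.relIndex E = Nat.card E := D.card_mul_index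
          have h2 : Nat.card N * N.relIndex E = Nat.card ↥(E ⊔ N) := by
            have := Subgroup.relIndex_mul_relIndex ⊥ N (E ⊔ N) bot_le le_sup_right
            rwa [Subgroup.relIndex_bot_left, Subgroup.relIndex_bot_left,
              Subgroup.relIndex_sup_right] at this
          rw [← (E ⊔ N).card_mul_index, ← h2, ← h1]
          ring
        have hswap : (Nat.card N : ℂ) * ((Nat.card E : ℂ) * L (Cfsg.indFun E ψ)) =
            (Nat.card G : ℂ) * ∑ d : D, ψ d * F ⟨((d : E) : G), d.2⟩ := by
          simp only [L, mul_left_comm ((Nat.card E : ℂ)), mul_inv_cancel_left₀ hN0]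
          rw [Finset.mul_sum, Finset.sum_congr rfl fun n _ => by
            rw [← mul_assoc, IndBasic.card_mul_indFun, Finset.sum_mul], Finset.sum_comm,
            Finset.sum_congr rfl fun x _ => hx x, Finset.sum_const, Finset.card_univ,
            nsmul_eq_mul, Nat.card_eq_fintype_card]
        have hc : (Nat.card G : ℂ) * (Nat.card D : ℂ) =
            ((E ⊔ N).index : ℂ) * ((Nat.card N : ℂ) * (Nat.card E : ℂ)) := by exact_mod_cast hcard
        apply mul_left_cancel₀ (mul_ne_zero hN0 (natCard_ne_zero (G := E)))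
        rw [mul_assoc, hswap, classInner_def,
          show ∑ d : D, ψ d * θD d * conj (θD d) = ∑ d : D, ψ d * F ⟨((d : E) : G), d.2⟩ from
            Finset.sum_congr rfl fun d _ => by simp only [F, θD]; ring]
        field_simp [natCard_ne_zero (G := D)]
        linear_combination (∑ d : D, ψ d * F ⟨((d : E) : G), d.2⟩) * hc
      by_cases htop : E ⊔ N = ⊤
      · obtain ⟨c, hc, hce⟩ := dvd_twisted_norm D hp
          ⟨k, hk ▸ (Subgroup.relIndex_dvd_index_of_normal N E)⟩ hθD hinvD hψ
          (fun φ hφ hfix c hc => by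
            let e : ↥(E ⊓ N) ≃* D :=
              { toFun := fun x => ⟨⟨(x : G), x.2.1⟩, x.2.2⟩
                invFun := fun d => ⟨((d : E) : G), ⟨(d : E).2, d.2⟩⟩
                left_inv := fun _ => rfl
                right_inv := fun _ => rfl
                map_mul' := fun _ _ => rfl }
            by_contra hpc
            refine hcon E (φ ∘ e) hE htop (Basics.isIrrCharacter_comp_equiv e hφ)
              (fun g hg x => congrFun (hfix ⟨g, hg⟩) (e x)) c hpc ?_
            haveI := Fintype.ofFinite ↥(E ⊓ N)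
            rw [finsum_eq_sum_of_fintype, ← hc, ← Basics.classInner_comp_equiv e, classInner_def]
            rfl)
        refine ⟨c, by exact_mod_cast hc, ?_⟩
        rw [hval, hce, htop, Subgroup.index_top]
        push_cast
        ring
      · obtain ⟨c, hc⟩ := classInner_char_nat hψD hθD
        obtain ⟨i, -, hi⟩ := (Nat.dvd_prime_pow hp).1
          (hk ▸ Subgroup.index_dvd_of_le (le_sup_right : N ≤ E ⊔ N))
        have hi0 : i ≠ 0 := fun h => htop (Subgroup.index_eq_one.1 (by rw [hi, h, pow_zero]))
        refine ⟨(p ^ i * c : ℕ), ?_, ?_⟩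
        · exact_mod_cast (dvd_pow_self p hi0).mul_right c
        · rw [hval, hc, hi]
          push_cast
          ring
    | zero => exact ⟨0, dvd_zero _, by simp [L]⟩
    | add f g _ _ hf hg =>
      obtain ⟨a, ha, ha'⟩ := hf
      obtain ⟨b, hb, hb'⟩ := hg
      refine ⟨a + b, dvd_add ha hb, ?_⟩
      push_cast
      rw [← ha', ← hb']
      simp [L, add_mul, Finset.sum_add_distrib, mul_add]
    | neg f _ hf =>
      obtain ⟨a, ha, ha'⟩ := hf
      refine ⟨-a, dvd_neg.2 ha, ?_⟩
      push_cast
      rw [← ha']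
      simp [L]
  obtain ⟨z, hz, hLz⟩ := key _ hmem
  apply hm
  have h1 := classInner_isIrr_self hϑ
  rw [classInner_def] at h1
  have : L (fun _ : G => (m : ℂ)) = (m : ℂ) := by
    simp only [L, F, ← Finset.mul_sum]
    rw [mul_left_comm, h1, mul_one]
  rw [this] at hLz
  exact (show m = z by exact_mod_cast hLz) ▸ hz

end Cfsg.Agent.S0896
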