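import Cfsg.Statements.S0897
import Cfsg.Agent.Lib.CharTheory.DegreeIndex
import Cfsg.Agent.Lib.Characters.Kernel
import Cfsg.Agent.S0896

set_option autoImplicit false
open Cfsg

namespace Cfsg.Agent.S0897

open Cfsg.Agent.Characters Cfsg.Agent.CharTheory
open scoped ComplexConjugate

universe u

theorem exists_hom_extension {A : Type u} [Group A] [Finite A] (hcomm : ∀ a b : A, a * b = b * a)
    (H : Subgroup A) (f : H →* ℂˣ) : ∃ F : A →* ℂˣ, ∀ h : H, F (h : A) = f h := by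
  letI : CommGroup A := { (inferInstance : Group A) with mul_comm := hcomm }
  haveI : NeZero (Monoid.exponent A) := ⟨Monoid.exponent_ne_zero_of_finite⟩
  haveI : NeZero (Monoid.exponent A : ℂ) :=
    ⟨Nat.cast_ne_zero.2 Monoid.exponent_ne_zero_of_finite⟩
  obtain ⟨F, hF⟩ := MonoidHom.domRestrict_surjective ℂ H f
  exact ⟨F, fun h => DFunLike.congr_fun hF h⟩

/-- Let N be a normal subgroup of the finite group G with the index of N a power of the prime p, and P a Sylow p-subgroup of G such that P ⊓ N lies in the centre of P and every character of degree 1 of P ⊓ N is the restriction of a character of degree 1 of P. Then every irreducible character of N invariant under conjugation by G is the restriction of an irreducible character of G. -/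
theorem result {G : Type*} [Group G] [Fintype G] (p : ℕ) [Fact p.Prime] (N : Subgroup G) [hN : N.Normal] (hind : ∃ k : ℕ, N.index = p ^ k) (P : Sylow p G) (hcent : ∀ x ∈ (P : Subgroup G) ⊓ N, ∀ y ∈ (P : Subgroup G), x * y = y * x) (hlin : ∀ lam : ↥((P : Subgroup G) ⊓ N) → ℂ, Cfsg.IsCharacter ↥((P : Subgroup G) ⊓ N) lam → lam 1 = 1 → ∃ μ : ↥(P : Subgroup G) → ℂ, Cfsg.IsCharacter ↥(P : Subgroup G) μ ∧ μ 1 = 1 ∧ ∀ x : ↥((P : Subgroup G) ⊓ N), μ ⟨(x : G), x.2.1⟩ = lam x) (ϑ : N → ℂ) (hϑ : Cfsg.IsIrrCharacter N ϑ) (hinv : ∀ (g : G) (n : N), ϑ ⟨g * n * g⁻¹, hN.conj_mem (n : G) n.2 g⟩ = ϑ n) : ∃ χ : G → ℂ, Cfsg.IsIrrCharacter G χ ∧ ∀ n : N, χ n = ϑ n := by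
  classical
  obtain ⟨k, hk⟩ := id hind
  have hp : p.Prime := Fact.out
  haveI := Fintype.ofFinite N
  obtain ⟨E, φ, hE, hEN, hφ, -, m, hm, hmval⟩ :=
    Cfsg.Agent.S0896.result p hp N hind ϑ hϑ hinv
  haveI := Fintype.ofFinite E
  haveI := Fintype.ofFinite ↥(E ⊓ N)
  obtain ⟨x, hxc, hxcop, j, hj⟩ := hE
  set C : Subgroup E := Subgroup.zpowers x with hC
  haveI : C.Normal := ⟨fun c hc g => by
    have : c ∈ Subgroup.center E := Subgroup.zpowers_le.2 hxc hc
    rwa [Subgroup.mem_center_iff.1 this g, mul_inv_cancel_right]⟩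
  obtain ⟨P₀⟩ : Nonempty (Sylow p E) := inferInstance
  -- `C` lies in `N`
  have hxN : (x : G) ∈ N := by
    rw [← QuotientGroup.eq_one_iff, ← orderOf_eq_one_iff]
    refine Nat.eq_one_of_dvd_coprimes (hxcop.pow_right k) ?_ ?_
    · refine orderOf_dvd_of_pow_eq_one ?_
      rw [← QuotientGroup.mk_pow, ← SubmonoidClass.coe_pow, pow_orderOf_eq_one]
      simp
    · exact hk ▸ orderOf_dvd_natCard _
  have hCN : ∀ c ∈ C, (c : G) ∈ N := by
    rintro _ ⟨i, rfl⟩
    simpa using N.zpow_mem hxN i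
  -- `E = C × P₀`
  have hCp : ∀ y ∈ C, y ∈ (P₀ : Subgroup E) → y = 1 := by
    intro y hy hy'
    obtain ⟨i, hi⟩ := IsPGroup.iff_card.1 P₀.2
    refine orderOf_eq_one_iff.1 (Nat.eq_one_of_dvd_coprimes (hxcop.pow_right i) ?_ ?_)
    · obtain ⟨l, rfl⟩ := hy
      exact orderOf_dvd_of_pow_eq_one (by
        show (x ^ l) ^ orderOf x = 1
        rw [← zpow_natCast (x ^ l), ← zpow_mul, mul_comm, zpow_mul, zpow_natCast,
          pow_orderOf_eq_one, one_zpow])
    · exact hi ▸ Subgroup.orderOf_dvd_natCard _ hy'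
  have hsup : C ⊔ (P₀ : Subgroup E) = ⊤ := by
    rw [← Subgroup.index_eq_one]
    by_contra hne
    obtain ⟨q, hq, hqd⟩ := Nat.exists_prime_and_dvd hne
    have h1 : q ∣ p ^ j := hj ▸ hqd.trans (Subgroup.index_dvd_of_le le_sup_left)
    have h2 : q ∣ (P₀ : Subgroup E).index := hqd.trans (Subgroup.index_dvd_of_le le_sup_right)
    exact P₀.not_dvd_index ((Nat.prime_dvd_prime_iff_eq hq hp).mp (hq.dvd_of_dvd_pow h1) ▸ h2)
  -- a conjugate of `P₀` lies in `P`
  obtain ⟨P', hP'⟩ := IsPGroup.exists_le_sylow (P₀.2.map E.subtype)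
  obtain ⟨g, hg⟩ := MulAction.exists_smul_eq G P P'
  have hgP : ∀ y ∈ (P₀ : Subgroup E), g⁻¹ * (y : G) * g ∈ (P : Subgroup G) := by
    intro y hy
    have h1 : (y : G) ∈ (P' : Subgroup G) := hP' ⟨y, hy, rfl⟩
    rw [← hg, Sylow.coe_subgroup_smul, Subgroup.mem_pointwise_smul_iff_inv_smul_mem] at h1
    simpa [MulAut.smul_def] using h1
  have hgN : ∀ y : G, y ∈ N → g⁻¹ * y * g ∈ N := fun y hy => by
    simpa using hN.conj_mem y hy g⁻¹
  -- `E ⊓ N` is central in `E`
  have hDcen : ∀ (y : E), (y : G) ∈ N → y ∈ Subgroup.center E := by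
    intro y hy
    obtain ⟨c, hc, z, hz, rfl⟩ := Subgroup.mem_sup_of_normal_left.1 (hsup ▸ Subgroup.mem_top y)
    have hcc : c ∈ Subgroup.center E := Subgroup.zpowers_le.2 hxc hc
    refine mul_mem hcc (Subgroup.mem_center_iff.2 fun w => ?_)
    obtain ⟨c', hc', z', hz', rfl⟩ := Subgroup.mem_sup_of_normal_left.1 (hsup ▸ Subgroup.mem_top w)
    have hc'c : c' ∈ Subgroup.center E := Subgroup.zpowers_le.2 hxc hc'
    have hzN : (z : G) ∈ N := by
      have := N.mul_mem (N.inv_mem (hCN c hc)) hy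
      simpa using this
    have h1 := hcent _ ⟨hgP z hz, hgN _ hzN⟩ _ (hgP z' hz')
    have h2 : (z : G) * z' = z' * z := by
      have h3 := congrArg (fun t => g * t * g⁻¹) h1
      simpa [mul_assoc] using h3
    have h2' : z * z' = z' * z := Subtype.ext h2
    calc c' * z' * z = c' * (z * z') := by rw [mul_assoc, h2']
      _ = c' * z * z' := by rw [mul_assoc]
      _ = z * c' * z' := by rw [Subgroup.mem_center_iff.1 hc'c z]
      _ = z * (c' * z') := by rw [mul_assoc]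
  -- `φ` is linear
  have hDcomm : ∀ a b : ↥(E ⊓ N), a * b = b * a := by
    intro a b
    have h := Subgroup.mem_center_iff.1 (hDcen ⟨(b : G), b.2.1⟩ b.2.2) ⟨(a : G), a.2.1⟩
    exact Subtype.ext (show (a : G) * b = b * a from congrArg Subtype.val h)
  have hφ1 : φ 1 = 1 := irr_degree_one_of_comm hDcomm hφ
  set f : ↥(E ⊓ N) →* ℂˣ := linearOfDegreeOne (isCharacter_of_isIrr hφ) hφ1 with hf
  -- extend `f` restricted to `P₀` up to conjugation
  set A : Subgroup G := (P : Subgroup G) ⊓ N with hA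
  let ι : ↥((P₀ : Subgroup E) ⊓ N.subgroupOf E) →* A :=
    { toFun := fun y => ⟨g⁻¹ * ((y : E) : G) * g, hgP _ y.2.1, hgN _ y.2.2⟩
      map_one' := Subtype.ext (by simp)
      map_mul' := fun a b => Subtype.ext (by simp [mul_assoc]) }
  have hιinj : Function.Injective ι := fun a b h => by
    have h1 : g⁻¹ * ((a : E) : G) * g = g⁻¹ * ((b : E) : G) * g := congrArg Subtype.val h
    exact Subtype.ext (Subtype.ext (mul_left_cancel (mul_right_cancel h1)))
  let ι' := MonoidHom.ofInjective hιinj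
  let f₀ : ↥((P₀ : Subgroup E) ⊓ N.subgroupOf E) →* ℂˣ :=
    f.comp { toFun := fun y => ⟨((y : E) : G), (y : E).2, y.2.2⟩
             map_one' := rfl
             map_mul' := fun _ _ => rfl }
  obtain ⟨F, hF⟩ := exists_hom_extension (A := A)
    (fun a b => Subtype.ext (hcent _ a.2 _ b.2.1)) ι.range (f₀.comp ι'.symm.toMonoidHom)
  obtain ⟨μP, hμPc, hμP1, hμP⟩ := hlin (fun y => (F y : ℂ)) (isCharacter_linear F) (by simp)
  set μP' : ↥(P : Subgroup G) →* ℂˣ := linearOfDegreeOne hμPc hμP1 with hμP'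
  let ν : ↥(P₀ : Subgroup E) →* ℂˣ := μP'.comp
    { toFun := fun y => ⟨g⁻¹ * ((y : E) : G) * g, hgP _ y.2⟩
      map_one' := Subtype.ext (by simp)
      map_mul' := fun a b => Subtype.ext (by simp [mul_assoc]) }
  have hν : ∀ (y : E) (hy : y ∈ (P₀ : Subgroup E)) (hyN : (y : G) ∈ N),
      (ν ⟨y, hy⟩ : ℂ) = φ ⟨(y : G), y.2, hyN⟩ := by
    intro y hy hyN
    have h1 := hμP (ι ⟨y, hy, hyN⟩)
    have h3 := hF ⟨ι ⟨y, hy, hyN⟩, ⟨⟨y, hy, hyN⟩, rfl⟩⟩
    have h4 : ι'.symm ⟨ι ⟨y, hy, hyN⟩, ⟨⟨y, hy, hyN⟩, rfl⟩⟩ = ⟨y, hy, hyN⟩ := by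
      apply ι'.injective
      rw [MulEquiv.apply_symm_apply]
      rfl
    simp only [MonoidHom.comp_apply, MulEquiv.coe_toMonoidHom, h4] at h3
    refine h1.trans ?_
    show (F _ : ℂ) = _
    rw [h3]
    rfl
  let fC : C →* ℂˣ := f.comp
    { toFun := fun c => ⟨((c : E) : G), (c : E).2, hCN _ c.2⟩
      map_one' := rfl
      map_mul' := fun _ _ => rfl }
  have hcommCP : ∀ (c : C) (y : (P₀ : Subgroup E)), Commute (C.subtype c) ((P₀ : Subgroup E).subtype y) :=
    fun c y => (Subgroup.mem_center_iff.1 (Subgroup.zpowers_le.2 hxc c.2) (y : E)).symm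
  let Ψ : C × (P₀ : Subgroup E) →* E := C.subtype.noncommCoprod (P₀ : Subgroup E).subtype hcommCP
  have hΨ : Function.Bijective Ψ := by
    refine ⟨(injective_iff_map_eq_one _).2 fun cy h => ?_, fun e => ?_⟩
    · have h' : (cy.1 : E) * (cy.2 : E) = 1 := h
      have h1 : (cy.1 : E) = 1 := by
        refine hCp _ cy.1.2 ?_
        rw [eq_inv_of_mul_eq_one_left h']
        exact inv_mem cy.2.2
      refine Prod.ext (Subtype.ext h1) (Subtype.ext ?_)
      rwa [h1, one_mul] at h'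
    · obtain ⟨c, hc, z, hz, rfl⟩ := Subgroup.mem_sup_of_normal_left.1 (hsup ▸ Subgroup.mem_top e)
      exact ⟨(⟨c, hc⟩, ⟨z, hz⟩), rfl⟩
  let Φ := MulEquiv.ofBijective Ψ hΨ
  let μ : E →* ℂˣ := (fC.coprod ν).comp Φ.symm.toMonoidHom
  have hμ : ∀ (y : E) (hy : (y : G) ∈ N), (μ y : ℂ) = φ ⟨(y : G), y.2, hy⟩ := by
    intro y hy
    obtain ⟨⟨c, z⟩, rfl⟩ := hΨ.2 y
    have hsymm : Φ.symm (Ψ (c, z)) = (c, z) := Φ.symm_apply_apply (c, z)
    have hzN : ((z : E) : G) ∈ N := by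
      have := N.mul_mem (N.inv_mem (hCN _ c.2)) hy
      simpa [Ψ] using this
    simp only [μ, MonoidHom.comp_apply, MulEquiv.coe_toMonoidHom, hsymm, MonoidHom.coprod_apply,
      Units.val_mul, hν _ z.2 hzN]
    rw [show fC c = f ⟨((c : E) : G), (c : E).2, hCN _ c.2⟩ from rfl, hf,
      linearOfDegreeOne_apply, ← char_mul_of_degree_one (isCharacter_of_isIrr hφ) hφ1]
    exact congrArg φ (Subtype.ext rfl)
  -- induce to `G`
  set Θ : G → ℂ := Cfsg.indFun E (fun e => (μ e : ℂ)) with hΘ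
  have hΘc : Cfsg.IsCharacter G Θ := isCharacter_indFun E (isCharacter_linear μ)
  have hΘN : Cfsg.classInner (fun n : N => Θ n) ϑ = (m : ℂ) := by
    have hx : ∀ y : G,
        ∑ n : N, Cfsg.extendByZero E (fun e => (μ e : ℂ)) (y⁻¹ * n * y) * conj (ϑ n) =
          ∑ d : ↥(E ⊓ N), φ d * conj (ϑ ⟨(d : G), d.2.2⟩) := by
      intro y
      rw [← Fintype.sum_equiv (MulAut.conjNormal y : N ≃* N).toEquiv
        (fun n : N => Cfsg.extendByZero E (fun e => (μ e : ℂ)) n * conj (ϑ n))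
        (fun n : N => Cfsg.extendByZero E (fun e => (μ e : ℂ)) (y⁻¹ * n * y) * conj (ϑ n))
        fun n => ?_]
      · symm
        refine Fintype.sum_of_injective (fun d : ↥(E ⊓ N) => (⟨(d : G), d.2.2⟩ : N))
          (fun a b h => Subtype.ext (congrArg Subtype.val h :))
          (fun d => φ d * conj (ϑ ⟨(d : G), d.2.2⟩)) _ (fun n hn => ?_) fun d => ?_
        · rw [IndBasic.extendByZero_of_notMem E _ fun h => hn ⟨⟨n, h, n.2⟩, rfl⟩, zero_mul]
        · rw [IndBasic.extendByZero_of_mem E _ d.2.1, hμ ⟨(d : G), d.2.1⟩ d.2.2]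
      · have h1 : y⁻¹ * ((MulAut.conjNormal y n : N) : G) * y = n := by simp [mul_assoc]
        have h2 : ϑ (MulAut.conjNormal y n) = ϑ n :=
          (congrArg ϑ (Subtype.ext (by simp))).trans (hinv y n)
        show _ = Cfsg.extendByZero E (fun e => (μ e : ℂ))
          (y⁻¹ * ((MulAut.conjNormal y n : N) : G) * y) * conj (ϑ (MulAut.conjNormal y n))
        rw [h1, h2]
    have hcard : Nat.card G * Nat.card ↥(E ⊓ N) = Nat.card N * Nat.card E := by
      have h1 : Nat.card ↥(E ⊓ N) * (E ⊓ N).relIndex E = Nat.card E := by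
        have := Subgroup.relIndex_mul_relIndex ⊥ (E ⊓ N) E bot_le inf_le_left
        rwa [Subgroup.relIndex_bot_left, Subgroup.relIndex_bot_left] at this
      have h2 : Nat.card N * N.relIndex E = Nat.card G := by
        have := Subgroup.relIndex_mul_relIndex ⊥ N (E ⊔ N) bot_le le_sup_right
        rwa [Subgroup.relIndex_bot_left, Subgroup.relIndex_bot_left,
          Subgroup.relIndex_sup_right, hEN, Subgroup.card_top] at this
      rw [Subgroup.inf_relIndex_left] at h1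
      rw [← h2, ← h1]
      ring
    rw [classInner_def, ← hmval, finsum_eq_sum_of_fintype]
    have hswap : (Nat.card E : ℂ) * ∑ n : N, Θ n * conj (ϑ n) =
        (Nat.card G : ℂ) * ∑ d : ↥(E ⊓ N), φ d * conj (ϑ ⟨(d : G), d.2.2⟩) := by
      rw [Finset.mul_sum, Finset.sum_congr rfl fun n _ => by
        rw [← mul_assoc, hΘ, IndBasic.card_mul_indFun, Finset.sum_mul], Finset.sum_comm,
        Finset.sum_congr rfl fun y _ => hx y, Finset.sum_const, Finset.card_univ, nsmul_eq_mul,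
        Nat.card_eq_fintype_card]
    -- compare with the complex conjugate
    have hreal : ∑ d : ↥(E ⊓ N), φ d * conj (ϑ ⟨(d : G), d.2.2⟩) =
        ∑ d : ↥(E ⊓ N), ϑ ⟨(d : G), d.2.2⟩ * conj (φ d) := by
      have h := congrArg conj hmval
      rw [map_mul, map_inv₀, map_natCast, map_natCast, ← hmval, finsum_eq_sum_of_fintype,
        map_sum, mul_right_inj' (inv_ne_zero natCard_ne_zero)] at h
      refine (Finset.sum_congr rfl fun d _ => ?_).trans h
      simp [mul_comm]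
    rw [hreal] at hswap
    have hc : (Nat.card G : ℂ) * (Nat.card ↥(E ⊓ N) : ℂ) = (Nat.card N : ℂ) * (Nat.card E : ℂ) := by
      exact_mod_cast hcard
    rw [inv_mul_eq_iff_eq_mul₀ (natCard_ne_zero (G := N))]
    apply mul_left_cancel₀ (natCard_ne_zero (G := E))
    rw [mul_left_comm (Nat.card N : ℂ), mul_left_comm (Nat.card E : ℂ) ((Nat.card ↥(E ⊓ N) : ℂ)⁻¹),
      eq_inv_mul_iff_mul_eq₀ (natCard_ne_zero (G := ↥(E ⊓ N)))]
    linear_combination (Nat.card ↥(E ⊓ N) : ℂ) * hswap +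
      (∑ d : ↥(E ⊓ N), ϑ ⟨(d : G), d.2.2⟩ * conj (φ d)) * hc
  haveI := Fintype.ofFinite (Cfsg.IrrCharacter G)
  choose a ha using fun χ : Cfsg.IrrCharacter G => classInner_char_nat hΘc (irr_isCharacter χ)
  choose b hb using fun χ : Cfsg.IrrCharacter G =>
    classInner_char_nat (isCharacter_restrict N (irr_isCharacter χ)) (isCharacter_of_isIrr hϑ)
  obtain ⟨χ, hχ⟩ : ∃ χ, ¬ p ∣ b χ := by
    by_contra hall
    push Not at hall
    apply hm
    have hexp : (fun n : N => Θ n) =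
        ∑ χ : Cfsg.IrrCharacter G, (a χ : ℂ) • (fun n : N => (χ : G → ℂ) n) := by
      funext n
      have := congrFun (classFun_eq_sum (char_isClassFunction hΘc)) (n : G)
      simpa [ha, Finset.sum_apply] using this
    rw [hexp, classInner_sum_left] at hΘN
    simp only [classInner_smul_left, hb] at hΘN
    have hsum : ∑ χ : Cfsg.IrrCharacter G, a χ * b χ = m := by exact_mod_cast hΘN
    exact hsum ▸ Finset.dvd_sum fun χ _ => (hall χ).mul_left _
  have hb0 : b χ ≠ 0 := fun h => hχ (h ▸ dvd_zero p)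
  have hinv' : ∀ y : G, Clifford.conjBy N y ϑ = ϑ := fun y => funext (hinv y)
  have hdvd := DegreeIndex.ramification_dvd_index N hϑ hinv' χ.2 (hb χ) hb0
  have hb1 : b χ = 1 :=
    Nat.Coprime.eq_one_of_dvd ((hp.coprime_iff_not_dvd.2 hχ).symm.pow_right k) (hk ▸ hdvd)
  refine ⟨(χ : G → ℂ), χ.2, fun n => ?_⟩
  have h := congrFun (Clifford.restrict_eq_smul_of_invariant N χ.2 hϑ
    (by rw [hb]; exact_mod_cast hb0) hinv') n
  simpa [hb, hb1] using h

end Cfsg.Agent.S0897
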