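import Cfsg.Statements.S0740
import Mathlib

set_option autoImplicit false
open Cfsg

namespace Cfsg.Agent.S0740

/-- In a finite Zassenhaus group any two points `a ≠ b` are swapped by an involution; every such involution has exactly one fixed point when the degree is odd and 0 or 2 fixed points when the degree is even; and if the two-point stabiliser has even order, some such involution has exactly 2 fixed points. -/
theorem result {G Ω : Type*} [Group G] [Finite G] [MulAction G Ω] [Fintype Ω] (hZ : Cfsg.IsZassenhausGroup G Ω) {a b : Ω} (hab : a ≠ b) : (∃ s : G, orderOf s = 2 ∧ s • a = b ∧ s • b = a) ∧ (∀ s : G, orderOf s = 2 → s • a = b → s • b = a → (Odd (Fintype.card Ω) → Nat.card (MulAction.fixedBy Ω s) = 1) ∧ (Even (Fintype.card Ω) → Nat.card (MulAction.fixedBy Ω s) = 0 ∨ Nat.card (MulAction.fixedBy Ω s) = 2)) ∧ (Even (Fintype.card Ω) → Even (Nat.card ↥(MulAction.stabilizer G a ⊓ MulAction.stabilizer G b)) → ∃ s : G, orderOf s = 2 ∧ s • a = b ∧ s • b = a ∧ Nat.card (MulAction.fixedBy Ω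 s) = 2) := by
  classical
  obtain ⟨hfaith, h2, h3pt, -, -⟩ := hZ
  have h2' : ∀ {x y z w : Ω}, x ≠ y → z ≠ w → ∃ g : G, g • x = z ∧ g • y = w :=
    MulAction.is_two_pretransitive_iff.1 h2
  have : Fact (Nat.Prime 2) := ⟨Nat.prime_two⟩
  -- an involution exists
  obtain ⟨g, hga, hgb⟩ := h2' hab hab.symm
  have heven : 2 ∣ orderOf g := by
    by_contra hodd
    obtain ⟨j, hj⟩ : Odd (orderOf g) := Nat.not_even_iff_odd.1 (fun h => hodd h.two_dvd)
    have hgg : g • g • a = a := by rw [hga, hgb]
    have h1 : g ^ (2 * j) • a = a := by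
      clear hj
      induction j with
      | zero => simp
      | succ j ih =>
        rw [show 2 * (j + 1) = 2 + 2 * j by ring, pow_add, mul_smul, ih, pow_two, mul_smul, hgg]
    have h2'' : g ^ (2 * j + 1) • a = b := by rw [pow_succ', mul_smul, h1, hga]
    rw [← hj, pow_orderOf_eq_one, one_smul] at h2''
    exact hab h2''
  obtain ⟨t, ht⟩ := exists_prime_orderOf_dvd_card' (G := G) 2 (heven.trans (orderOf_dvd_natCard g))
  have ht1 : t ≠ 1 := fun h => by simp [h] at ht
  -- conjugating an involution so that it swaps a and b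
  have hconj : ∀ s : G, orderOf s = 2 → ∀ u : Ω, s • u ≠ u →
      ∃ k : G, orderOf (k * s * k⁻¹) = 2 ∧ (k * s * k⁻¹) • a = b ∧ (k * s * k⁻¹) • b = a := by
    intro s hs u hu
    obtain ⟨k, hk1, hk2⟩ := h2' hu.symm hab
    have hss : s • s • u = u := by
      rw [← mul_smul, ← pow_two, ← hs, pow_orderOf_eq_one, one_smul]
    refine ⟨k, by rw [← MulAut.conj_apply, MulEquiv.orderOf_eq, hs], ?_, ?_⟩
    · rw [mul_smul, mul_smul, ← hk1, inv_smul_smul, hk2]
    · rw [mul_smul, mul_smul, ← hk2, inv_smul_smul, hss, hk1]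
  have hmove : ∀ s : G, s ≠ 1 → ∃ u : Ω, s • u ≠ u := by
    intro s hs
    by_contra h
    push Not at h
    exact hs (hfaith.eq_of_smul_eq_smul fun u => by rw [h u, one_smul])
  have hle : ∀ s : G, s ≠ 1 → Nat.card (MulAction.fixedBy Ω s) ≤ 2 := by
    intro s hs
    by_contra h
    push Not at h
    rw [Nat.card_eq_fintype_card, Fintype.card_subtype] at h
    obtain ⟨x, y, z, hx, hy, hz, hxy, hxz, hyz⟩ := Finset.two_lt_card_iff.1 h
    simp only [Finset.mem_filter, Finset.mem_univ, true_and, MulAction.mem_fixedBy] at hx hy hz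
    exact hs (h3pt s x y z hxy hyz hxz hx hy hz)
  have hpar : ∀ s : G, orderOf s = 2 →
      Nat.card (MulAction.fixedBy Ω s) % 2 = Fintype.card Ω % 2 := by
    intro s hs
    have hp : IsPGroup 2 (Subgroup.zpowers s) :=
      IsPGroup.of_card (n := 1) (by rw [Nat.card_zpowers, hs, pow_one])
    have h1 := hp.card_modEq_card_fixedPoints Ω
    rw [Nat.card_eq_fintype_card] at h1
    have h4 : MulAction.fixedPoints (Subgroup.zpowers s) Ω = MulAction.fixedBy Ω s := by
      ext x
      constructor
      · exact fun hx => hx ⟨s, Subgroup.mem_zpowers s⟩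
      · rintro hx ⟨k, hk⟩
        obtain ⟨j, rfl⟩ := Subgroup.mem_zpowers_iff.1 hk
        exact MulAction.fixedBy_subset_fixedBy_zpow Ω s j hx
    rw [h4] at h1
    exact h1.symm
  refine ⟨?_, ?_, ?_⟩
  · obtain ⟨u, hu⟩ := hmove t ht1
    obtain ⟨k, h⟩ := hconj t ht u hu
    exact ⟨_, h⟩
  · intro s hs _ _
    have h1 := hpar s hs
    have h4 := hle s (fun h => by simp [h] at hs)
    constructor
    · intro hodd
      rw [Nat.odd_iff] at hodd
      omega
    · intro hev
      rw [Nat.even_iff] at hev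
      omega
  · intro hev hH
    obtain ⟨v, hv⟩ := exists_prime_orderOf_dvd_card'
      (G := ↥(MulAction.stabilizer G a ⊓ MulAction.stabilizer G b)) 2 hH.two_dvd
    have hv' : orderOf (v : G) = 2 := by rw [Subgroup.orderOf_coe, hv]
    have hv1 : (v : G) ≠ 1 := fun h => by simp [h] at hv'
    have hge : 2 ≤ Nat.card (MulAction.fixedBy Ω (v : G)) := by
      rw [Nat.card_eq_fintype_card, Fintype.card_subtype]
      refine Finset.one_lt_card.2 ⟨a, ?_, b, ?_, hab⟩
      · simpa using v.2.1
      · simpa using v.2.2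
    obtain ⟨u, hu⟩ := hmove _ hv1
    obtain ⟨k, h1, h4, h5⟩ := hconj _ hv' u hu
    refine ⟨_, h1, h4, h5, ?_⟩
    have h6 : MulAction.fixedBy Ω (k * (v : G) * k⁻¹) =
        (fun x => k • x) '' MulAction.fixedBy Ω (v : G) := by
      ext x
      simp only [Set.mem_image, MulAction.mem_fixedBy, mul_smul]
      constructor
      · intro hx
        exact ⟨k⁻¹ • x, eq_inv_smul_iff.2 hx, smul_inv_smul k x⟩
      · rintro ⟨y, hy, rfl⟩
        rw [inv_smul_smul, hy]
    rw [h6, Nat.card_image_of_injective (MulAction.injective k)]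
    exact le_antisymm (hle _ hv1) hge

end Cfsg.Agent.S0740
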