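import Cfsg.Statements.S0881
import Cfsg.Agent.Lib.CharTheory.Zassenhaus.Basic
import Cfsg.Agent.Lib.CharTheory.Basics
import Cfsg.Agent.Lib.CharTheory.IndBasic
import Cfsg.Agent.Lib.Characters.Induction

set_option autoImplicit false
open Cfsg

namespace Cfsg.Agent.S0881

/-- Let G be a finite simple Zassenhaus group on Ω with n points, a ≠ b points with two-point stabilizer E of odd order less than n - 2, and let H be the subgroup of the stabilizer of a consisting of the identity and the elements fixing no point other than a (given here as a subgroup of the stabilizer of order one less than the number of points whose non-identity elements fix only a; it is the Frobenius kernel of the stabilizer). Let μ be a character of degree 1 of the stabilizer of a that is identically 1 on H but not identically 1. Then the function induced from μ to G is an irreducible character of G, and it takes the value 1 at every non-identity element of H. -/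
theorem result {G Ω : Type*} [Group G] [Fintype G] [MulAction G Ω] [Fintype Ω] (hZ : Cfsg.IsZassenhausGroup G Ω) {a b : Ω} (hab : a ≠ b) [IsSimpleGroup G] (hodd : Odd (Nat.card ↥(MulAction.stabilizer G a ⊓ MulAction.stabilizer G b : Subgroup G))) (hlt : Nat.card ↥(MulAction.stabilizer G a ⊓ MulAction.stabilizer G b : Subgroup G) < Fintype.card Ω - 2) (H : Subgroup G) (hHa : H ≤ MulAction.stabilizer G a) (hHcard : Nat.card H + 1 = Fintype.card Ω) (hHfix : ∀ u ∈ H, u ≠ 1 → ∀ c : Ω, u • c = c → c = a) (μ : MulAction.stabilizer G a → ℂ) (hμ : Cfsg.IsCharacter (MulAction.stabilizer G a) μ ∧ μ 1 = 1) (hμH : ∀ u : MulAction.stabilizer G a, (u : G) ∈ H → μ u = 1) (hμne : μ ≠ fun _ => 1) : Cfsg.IsIrrCharacter G (Cfsg.indFun (MulAction.stabilizer G a) μ) ∧ ∀ u ∈ H, u ≠ 1 → Cfsg.indFun (MulAction.stabilizer G a) μ u = 1 := by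
  classical
  have hc : CharTheory.Zassenhaus.Config a b H := ⟨hZ, hab, hHa, hHcard, hHfix⟩
  let N := MulAction.stabilizer G a
  obtain ⟨hμc, hμ1⟩ := hμ
  have hmul : ∀ x y : N, μ (x * y) = μ x * μ y := Characters.char_mul_of_degree_one hμc hμ1
  let μ' : N →* ℂ := { toFun := μ, map_one' := hμ1, map_mul' := hmul }
  let f : N →* ℂˣ := μ'.toHomUnits
  have hf : ∀ x : N, ((f x : ℂˣ) : ℂ) = μ x := fun _ => rfl
  have hinv : ∀ x : N, (starRingEnd ℂ) (μ x) * μ x = 1 := fun x => by
    rw [mul_comm]; exact CharTheory.Basics.char_norm_eq_one hμc hμ1 x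
  set M := Cfsg.extendByZero N μ with hM
  have hMmem : ∀ g (hg : g ∈ N), M g = μ ⟨g, hg⟩ := fun g hg =>
    CharTheory.IndBasic.extendByZero_of_mem N μ hg
  have hMnot : ∀ g, g ∉ N → M g = 0 := fun g hg => CharTheory.IndBasic.extendByZero_of_notMem N μ hg
  have hMconj : ∀ x ∈ N, ∀ g, M (x⁻¹ * g * x) = M g := by
    intro x hx g
    by_cases hg : g ∈ N
    · rw [hMmem _ (mul_mem (mul_mem (inv_mem hx) hg) hx), hMmem g hg,
        show (⟨x⁻¹ * g * x, mul_mem (mul_mem (inv_mem hx) hg) hx⟩ : N) = (⟨x, hx⟩ : N)⁻¹ * ⟨g, hg⟩ * ⟨x, hx⟩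
          from rfl, hmul, hmul, mul_comm (μ _) (μ ⟨g, hg⟩), mul_assoc, ← hmul, inv_mul_cancel,
        hμ1, mul_one]
    · have : x⁻¹ * g * x ∉ N := fun h => hg (by
        have h' := mul_mem (mul_mem hx h) (inv_mem hx)
        rwa [show x * (x⁻¹ * g * x) * x⁻¹ = g by group] at h')
      rw [hMnot _ this, hMnot g hg]
  obtain ⟨s, hs, hsa, hsb⟩ := CharTheory.Zassenhaus.exists_swap hc
  -- some element of the two-point stabilizer has `μ² ≠ 1`
  obtain ⟨z₀, hz₀, hne₀⟩ : ∃ z₀ : N, (z₀ : G) • b = b ∧ μ z₀ * μ z₀ ≠ 1 := by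
    obtain ⟨g, hg⟩ := Function.ne_iff.1 hμne
    obtain ⟨v, hv, z, hz, hvz⟩ := CharTheory.Zassenhaus.exists_decomp hc g.2
    have hg' : g = (⟨v, hHa hv⟩ : N) * ⟨z, hz.1⟩ := Subtype.ext hvz
    rw [hg', hmul, hμH ⟨v, hHa hv⟩ hv, one_mul] at hg
    refine ⟨⟨z, hz.1⟩, hz.2, fun h2 => hg ?_⟩
    obtain ⟨k, hk⟩ : Odd (orderOf (⟨z, hz.1⟩ : N)) :=
      Odd.of_dvd_nat hodd (by
        rw [← orderOf_injective N.subtype N.subtype_injective]
        exact Subgroup.orderOf_dvd_natCard _ hz)
    have h3 : μ' ((⟨z, hz.1⟩ : N) ^ (2 * k + 1)) = 1 := by rw [← hk, pow_orderOf_eq_one, map_one]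
    rw [map_pow, pow_succ, pow_mul, sq] at h3
    change (μ ⟨z, hz.1⟩ * μ ⟨z, hz.1⟩) ^ k * μ ⟨z, hz.1⟩ = 1 at h3
    rwa [h2, one_pow, one_mul] at h3
  have hswap : ∀ (z : G) (hz : z ∈ CharTheory.Zassenhaus.two (G := G) a b),
      (starRingEnd ℂ) (M (s⁻¹ * z * s)) = M z := by
    intro z hz
    have h1 := congrArg (fun w : ℂˣ => (w : ℂ)) (CharTheory.Zassenhaus.hom_mul_swap hc f hsa hsb hz)
    simp only [Units.val_mul, Units.val_one, hf] at h1
    rw [hMmem z hz.1, hMmem _ (CharTheory.Zassenhaus.swap_conj_two hc hsa hsb hz).1]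
    calc _ = (starRingEnd ℂ) (μ ⟨_, (CharTheory.Zassenhaus.swap_conj_two hc hsa hsb hz).1⟩) *
          (μ ⟨z, hz.1⟩ * μ ⟨_, (CharTheory.Zassenhaus.swap_conj_two hc hsa hsb hz).1⟩) := by
            rw [h1, mul_one]
      _ = μ ⟨z, hz.1⟩ := by rw [mul_left_comm, hinv, mul_one]
  have hsq : ∑ z : G, (if z ∈ CharTheory.Zassenhaus.two (G := G) a b then M z * M z else 0) = 0 := by
    set T := ∑ z : G, (if z ∈ CharTheory.Zassenhaus.two (G := G) a b then M z * M z else 0)
    have hz0 : (z₀ : G) ∈ CharTheory.Zassenhaus.two (G := G) a b := ⟨z₀.2, hz₀⟩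
    have hT : (μ z₀ * μ z₀) * T = T := by
      show _ = ∑ z : G, _
      rw [Finset.mul_sum]
      refine Fintype.sum_equiv (Equiv.mulLeft (z₀ : G)) _ _ fun z => ?_
      show _ = if (z₀ : G) * z ∈ CharTheory.Zassenhaus.two (G := G) a b then
        M ((z₀ : G) * z) * M ((z₀ : G) * z) else 0
      by_cases hz : z ∈ CharTheory.Zassenhaus.two (G := G) a b
      · rw [if_pos hz, if_pos (mul_mem hz0 hz), hMmem z hz.1, hMmem _ (mul_mem z₀.2 hz.1),
          show (⟨(z₀ : G) * z, mul_mem z₀.2 hz.1⟩ : N) = z₀ * ⟨z, hz.1⟩ from rfl, hmul]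
        ring
      · rw [if_neg hz, if_neg (fun h => hz (by
          have := mul_mem (inv_mem hz0) h
          rwa [inv_mul_cancel_left] at this)), mul_zero]
    by_contra hT0
    exact hne₀ (mul_right_cancel₀ hT0 (hT.trans (one_mul _).symm))
  have houter : ∀ x : G, x ∉ N → ∑ g : G, M g * (starRingEnd ℂ) (M (x⁻¹ * g * x)) = 0 := by
    intro x hx
    obtain ⟨u, hu, hub⟩ := CharTheory.Zassenhaus.exists_mem_smul hc (c := x • a) hx
    have hua : u • a = a := hHa hu
    have hy : s⁻¹ * u⁻¹ * x ∈ N := by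
      show (s⁻¹ * u⁻¹ * x) • a = a
      rw [mul_smul, mul_smul, ← hub, inv_smul_smul, inv_smul_eq_iff, hsa]
    refine Eq.trans ?_ hsq
    refine Fintype.sum_equiv (MulAut.conj u⁻¹).toEquiv _ _ fun g => ?_
    show _ = if u⁻¹ * g * u⁻¹⁻¹ ∈ CharTheory.Zassenhaus.two (G := G) a b then
      M (u⁻¹ * g * u⁻¹⁻¹) * M (u⁻¹ * g * u⁻¹⁻¹) else 0
    rw [inv_inv]
    have h1 : M g = M (u⁻¹ * g * u) := (hMconj u (hHa hu) g).symm
    have h2 : M (x⁻¹ * g * x) = M (s⁻¹ * (u⁻¹ * g * u) * s) := by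
      rw [← hMconj _ hy (s⁻¹ * (u⁻¹ * g * u) * s)]
      congr 1; group
    rw [h1, h2]
    split_ifs with hz
    · rw [hswap _ hz]
    · by_cases hza : (u⁻¹ * g * u) • a = a
      · have hzb : (u⁻¹ * g * u) • b ≠ b := fun h => hz ⟨hza, h⟩
        rw [hMnot (s⁻¹ * (u⁻¹ * g * u) * s) (fun h => hzb (by
          have h' : (s⁻¹ * (u⁻¹ * g * u) * s) • a = a := h
          rwa [mul_smul, hsa, mul_smul, inv_smul_eq_iff, hsa] at h')), map_zero, mul_zero]
      · rw [hMnot (u⁻¹ * g * u) hza, zero_mul]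
  have hN0 : (Nat.card N : ℂ) ≠ 0 := Nat.cast_ne_zero.2 Nat.card_pos.ne'
  constructor
  · refine Characters.isIrr_of_isCharacter_of_norm_one (Characters.isCharacter_indFun _ hμc) ?_
    haveI : Fintype N := Fintype.ofFinite _
    rw [Characters.frobenius_reciprocity _ _ (Characters.indFun_isClassFunction _ _),
      Characters.classInner_def]
    have hkey : (Nat.card N : ℂ) * ∑ g : N, μ g * (starRingEnd ℂ) (Cfsg.indFun N μ g) =
        (Nat.card N : ℂ) * Nat.card N := by
      have h1 : ∀ g : N, (Nat.card N : ℂ) * (μ g * (starRingEnd ℂ) (Cfsg.indFun N μ g)) =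
          ∑ x : G, μ g * (starRingEnd ℂ) (M (x⁻¹ * g * x)) := fun g => by
        rw [← Finset.mul_sum, ← map_sum, ← CharTheory.IndBasic.card_mul_indFun N μ g, map_mul,
          Complex.conj_natCast]
        ring
      rw [Finset.mul_sum, Finset.sum_congr rfl fun g _ => h1 g, Finset.sum_comm]
      have h2 : ∀ x : G, (∑ g : N, μ g * (starRingEnd ℂ) (M (x⁻¹ * g * x))) =
          if x ∈ N then (Nat.card N : ℂ) else 0 := by
        intro x
        split_ifs with hx
        · have h3 : ∀ g : N, μ g * (starRingEnd ℂ) (M (x⁻¹ * g * x)) = 1 := fun g => by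
            rw [hMconj x hx, hMmem g g.2]
            exact CharTheory.Basics.char_norm_eq_one hμc hμ1 g
          rw [Finset.sum_congr rfl fun g _ => h3 g, Finset.sum_const, Finset.card_univ, nsmul_one,
            Nat.card_eq_fintype_card]
        · exact (Characters.sum_extendByZero_mul N μ fun g : G =>
            (starRingEnd ℂ) (M (x⁻¹ * g * x))).symm.trans (houter x hx)
      rw [Finset.sum_congr rfl fun x _ => h2 x, ← Finset.sum_filter, Finset.sum_const, nsmul_eq_mul,
        ← Fintype.card_subtype, ← Nat.card_eq_fintype_card]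
    rw [mul_left_cancel₀ hN0 hkey, inv_mul_cancel₀ hN0]
  · intro u hu hu1
    refine mul_left_cancel₀ hN0 ?_
    rw [CharTheory.IndBasic.card_mul_indFun, mul_one]
    have h2 : ∀ x : G, Cfsg.extendByZero N μ (x⁻¹ * u * x) = if x ∈ N then 1 else 0 := by
      intro x
      rw [← hM]
      split_ifs with hx
      · rw [hMconj x hx, hMmem u (hHa hu)]; exact hμH _ hu
      · refine hMnot _ fun h => hx ?_
        have h' : (x⁻¹ * u * x) • a = a := h
        rw [mul_smul, mul_smul, inv_smul_eq_iff] at h'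
        exact hHfix u hu hu1 _ h'
    rw [Finset.sum_congr rfl fun x _ => h2 x, Finset.sum_boole, ← Fintype.card_subtype,
      ← Nat.card_eq_fintype_card]

end Cfsg.Agent.S0881
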