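import Cfsg.Statements.S0850
import Mathlib
import Cfsg.Agent.Lib.CharTheory.IndBasic

set_option autoImplicit false
open Cfsg
open Cfsg.Agent.CharTheory.IndBasic

namespace Cfsg.Agent.S0850

/-- Let K be a subgroup of the finite group G that meets each conjugate by an element outside its normalizer N trivially, is properly contained in N, and contains the centralizer of each of its non-identity elements (a T.I. subgroup with Frobenius normalizer). Then no element of N outside K is conjugate in G to an element of K, and for every class function ϑ of N that vanishes on N away from K and at the identity, the function induced from ϑ to G agrees with ϑ on all of N. -/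
theorem result {G : Type*} [Group G] [Fintype G] (K : Subgroup G) (hTI : ∀ g : G, g ∉ Subgroup.normalizer (K : Set G) → ∀ k ∈ K, g * k * g⁻¹ ∈ K → k = 1) (hlt : K < Subgroup.normalizer (K : Set G)) (hC : ∀ k ∈ K, k ≠ 1 → Subgroup.centralizer ({k} : Set G) ≤ K) : (∀ x ∈ Subgroup.normalizer (K : Set G), x ∉ K → ∀ g : G, g * x * g⁻¹ ∉ K) ∧ ∀ (ϑ : Subgroup.normalizer (K : Set G) → ℂ), Cfsg.IsClassFunction (Subgroup.normalizer (K : Set G)) ϑ → (∀ x : Subgroup.normalizer (K : Set G), (x : G) ∉ K → ϑ x = 0) → ϑ 1 = 0 → ∀ x : Subgroup.normalizer (K : Set G), Cfsg.indFun (Subgroup.normalizer (K : Set G)) ϑ x = ϑ x := by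
  classical
  set N := Subgroup.normalizer (K : Set G) with hN
  have hKN : K ≤ N := hlt.le
  have part1 : ∀ x ∈ N, x ∉ K → ∀ g : G, g * x * g⁻¹ ∉ K := by
    intro x hxN hxK g hgx
    have hx1 : x ≠ 1 := fun h => hxK (h ▸ K.one_mem)
    have hg : g ∉ N := by
      intro hg
      exact hxK ((Subgroup.mem_normalizer_iff.mp hg x).mpr hgx)
    -- powers of `x` meet `K` trivially
    have hpow : ∀ k : ℕ, x ^ k ∈ K → x ^ k = 1 := fun k hk =>
      hTI g hg _ hk (conj_pow (a := g) (b := x) (i := k) ▸ K.pow_mem hgx k)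
    have ho : orderOf x ≠ 1 := mt orderOf_eq_one_iff.mp hx1
    obtain ⟨q, hq, hqd⟩ := Nat.exists_prime_and_dvd ho
    haveI := Fact.mk hq
    set y := x ^ (orderOf x / q) with hy
    have hyo : orderOf y = q := orderOf_pow_orderOf_div (orderOf_pos x).ne' hqd
    have hy1 : y ≠ 1 := fun h => hq.one_lt.ne' (hyo ▸ h ▸ orderOf_one)
    have hgy : g * y * g⁻¹ ∈ K := conj_pow (a := g) (b := x) ▸ K.pow_mem hgx _
    have hyN : y ∈ N := N.pow_mem hxN _
    have hqK : q ∣ Nat.card K := by
      have h1 : orderOf (⟨_, hgy⟩ : K) = q := by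
        rw [← Subgroup.orderOf_coe]
        exact ((MulAut.conj g).orderOf_eq y).trans hyo
      exact h1 ▸ orderOf_dvd_natCard _
    letI act : MulAction (Subgroup.zpowers y) K :=
      { smul := fun z k => ⟨(z : G) * k * (z : G)⁻¹,
          (Subgroup.mem_normalizer_iff.mp ((Subgroup.zpowers_le (H := N)).mpr hyN z.2) k).mp k.2⟩
        one_smul := fun k => Subtype.ext (by
          show ((1 : Subgroup.zpowers y) : G) * (k : G) * ((1 : Subgroup.zpowers y) : G)⁻¹ = (k : G)
          simp)
        mul_smul := fun z w k => Subtype.ext (by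
          show ((z * w : Subgroup.zpowers y) : G) * (k : G) * ((z * w : Subgroup.zpowers y) : G)⁻¹ =
            (z : G) * ((w : G) * (k : G) * (w : G)⁻¹) * (z : G)⁻¹
          simp [mul_assoc]) }
    have hfix : (1 : K) ∈ MulAction.fixedPoints (Subgroup.zpowers y) K := fun z =>
      Subtype.ext (show (z : G) * ((1 : K) : G) * (z : G)⁻¹ = ((1 : K) : G) by simp)
    have hP : IsPGroup q (Subgroup.zpowers y) :=
      IsPGroup.of_card (n := 1) (by rw [Nat.card_zpowers, hyo, pow_one])
    obtain ⟨k, hk, hk1⟩ := hP.exists_fixed_point_of_prime_dvd_card_of_fixed_point K hqK hfix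
    have hkG : (k : G) ≠ 1 := fun h => hk1 (Subtype.ext (h.symm))
    have hcom : y * (k : G) * y⁻¹ = (k : G) :=
      congrArg Subtype.val (hk ⟨y, Subgroup.mem_zpowers y⟩)
    have hyC : y ∈ Subgroup.centralizer ({(k : G)} : Set G) :=
      Subgroup.mem_centralizer_singleton_iff.mpr (mul_inv_eq_iff_eq_mul.mp hcom)
    exact hy1 (hpow _ (hC _ k.2 hkG hyC))
  refine ⟨part1, fun ϑ hϑ hsupp hone x => ?_⟩
  have hN0 : (Nat.card N : ℂ) ≠ 0 := Nat.cast_ne_zero.mpr Nat.card_pos.ne'
  have hterm : ∀ g : G, Cfsg.extendByZero N ϑ (g⁻¹ * (x : G) * g) = if g ∈ N then ϑ x else 0 := by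
    intro g
    by_cases hg : g ∈ N
    · rw [if_pos hg, extendByZero_of_mem N ϑ (N.mul_mem (N.mul_mem (N.inv_mem hg) x.2) hg)]
      have h := hϑ x ⟨g⁻¹, N.inv_mem hg⟩
      convert h using 2
      exact Subtype.ext (by simp)
    · rw [if_neg hg]
      by_cases hm : g⁻¹ * (x : G) * g ∈ N
      · rw [extendByZero_of_mem N ϑ hm]
        by_cases hmK : g⁻¹ * (x : G) * g ∈ K
        · by_cases hxK : (x : G) ∈ K
          · have hx : (x : G) = 1 := hTI g⁻¹ (fun h => hg (inv_mem_iff.mp h)) _ hxK (by simpa using hmK)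
            convert hone using 2
            exact Subtype.ext (by simp [hx])
          · exact absurd (by simpa using hmK) (part1 x x.2 hxK g⁻¹)
        · exact hsupp _ hmK
      · exact extendByZero_of_notMem N ϑ hm
  apply mul_left_cancel₀ hN0
  rw [card_mul_indFun, Finset.sum_congr rfl fun g _ => hterm g, ← Finset.sum_filter,
    Finset.sum_const, nsmul_eq_mul, Nat.card_eq_fintype_card, Fintype.card_subtype]

end Cfsg.Agent.S0850
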