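import Cfsg.Statements.S0852
import Cfsg.Agent.Lib.CharTheory.TIFrobenius
import Cfsg.Agent.Lib.Characters.Coherence
import Cfsg.Agent.S0850

set_option autoImplicit false
open Cfsg

namespace Cfsg.Agent.S0852

open Cfsg.Agent.Characters Cfsg.Agent.CharTheory
open scoped ComplexConjugate

/-- Let K be a subgroup of the finite group G that meets each conjugate by an element outside its normalizer N trivially, is properly contained in N, and contains the centralizer of each of its non-identity elements (a T.I. subgroup with Frobenius normalizer). Let S be the set of irreducible characters of N taking at some element of K a value different from their degree, suppose S has at least two members, and let star be a linear isometry on the integer span of S into the generalized characters of G that agrees with induction on the members vanishing at the identity (so S is coherent, with star as the extending isometry). Then an irreducible character ψ of G is of the form star χ or -star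 χ for some χ in S if and only if ψ is not constant on the non-identity elements of K. -/
theorem result {G : Type*} [Group G] [Fintype G] (K : Subgroup G) (hTI : ∀ g : G, g ∉ Subgroup.normalizer (K : Set G) → ∀ k ∈ K, g * k * g⁻¹ ∈ K → k = 1) (hlt : K < Subgroup.normalizer (K : Set G)) (hC : ∀ k ∈ K, k ≠ 1 → Subgroup.centralizer ({k} : Set G) ≤ K) [Fintype ↥(Subgroup.normalizer (K : Set G))] (S : Set (↥(Subgroup.normalizer (K : Set G)) → ℂ)) (hS : S = {χ : ↥(Subgroup.normalizer (K : Set G)) → ℂ | Cfsg.IsIrrCharacter ↥(Subgroup.normalizer (K : Set G)) χ ∧ ∃ k : ↥(Subgroup.normalizer (K : Set G)), (k : G) ∈ K ∧ χ k ≠ χ 1}) (htwo : ∃ χ ∈ S, ∃ ξ ∈ S, χ ≠ ξ) (star : (↥(Subgroup.normalizer (K : Set G)) → ℂ) → (G → ℂ)) (hstar : Cfsg.IsLinearIsometryOn (Cfsg.zspan S) star) (hext : ∀ α ∈ Cfsg.zspanOn S ({1}ᶜ : Set ↥(Subgroup.normalizer (K : Set G))), star α = Cfsg.indFun (Subgroup.normalizer (K : Set G)) α) (ψ : G → ℂ) (hψ : Cfsg.IsIrrCharacter G ψ) : (∃ χ ∈ S, ψ = star χ ∨ ψ = -star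 χ) ↔ ∃ a ∈ K, ∃ b ∈ K, a ≠ 1 ∧ b ≠ 1 ∧ ψ a ≠ ψ b := by
  classical
  set K' : Subgroup (Subgroup.normalizer (K : Set G)) := K.subgroupOf (Subgroup.normalizer (K : Set G)) with hK'
  haveI : K'.Normal := (Subgroup.normal_subgroupOf_iff_le_normalizer hlt.le).2 le_rfl
  have hCK : TIFrobenius.CentLe K' := fun k hk hk1 y hy =>
    hC k hk (fun h => hk1 (Subtype.ext h))
      (Subgroup.mem_centralizer_singleton_iff.2
        (congrArg Subtype.val (Subgroup.mem_centralizer_singleton_iff.1 hy)))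
  subst hS
  have hψc := char_isClassFunction (isCharacter_of_isIrr hψ)
  have hrc : Cfsg.IsClassFunction (Subgroup.normalizer (K : Set G)) (fun x : (Subgroup.normalizer (K : Set G)) => ψ x) := classFun_restrict (Subgroup.normalizer (K : Set G)) hψc
  constructor
  · rintro ⟨χ, hχ, hψχ⟩
    by_contra hcon
    push Not at hcon
    obtain ⟨ξ, hξ, hne⟩ : ∃ ξ, (Cfsg.IsIrrCharacter (Subgroup.normalizer (K : Set G)) ξ ∧
        ∃ k : (Subgroup.normalizer (K : Set G)), (k : G) ∈ K ∧ ξ k ≠ ξ 1) ∧ ξ ≠ χ := by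
      obtain ⟨a, ha, b, hb, hab⟩ := htwo
      by_cases h : a = χ
      · exact ⟨b, hb, fun h' => hab (h.trans h'.symm)⟩
      · exact ⟨a, ha, h⟩
    obtain ⟨k₀, hk₀, hk₀'⟩ := hξ.2
    have hk1 : (k₀ : G) ≠ 1 := fun h => hk₀' (by rw [show k₀ = 1 from Subtype.ext h])
    have hc : ∀ k ∈ K', k ≠ 1 → (fun x : (Subgroup.normalizer (K : Set G)) => ψ x) k = ψ k₀ := fun k hk hk' =>
      hcon _ hk _ hk₀ (fun h => hk' (Subtype.ext h)) hk1
    have e1 := TIFrobenius.card_mul_inner_of_const hCK hc hχ.1 hχ.2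
    have e2 := TIFrobenius.card_mul_inner_of_const hCK hc hξ.1 hξ.2
    obtain ⟨n, -, hn⟩ := irr_one_pos hχ.1
    obtain ⟨n', hn0', hn'⟩ := irr_one_pos hξ.1
    have h := TIFrobenius.restrict_inner_comb hstar hext hψc hχ hξ hn hn'
    have hz : (n' : ℂ) * Cfsg.classInner (fun x : (Subgroup.normalizer (K : Set G)) => ψ x) χ -
        (n : ℂ) * Cfsg.classInner (fun x : (Subgroup.normalizer (K : Set G)) => ψ x) ξ = 0 := by
      apply mul_left_cancel₀ (natCard_ne_zero (G := ↥(Subgroup.normalizer (K : Set G))))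
      linear_combination (n' : ℂ) * e1 - (n : ℂ) * e2 +
        ((fun x : (Subgroup.normalizer (K : Set G)) => ψ x) 1 - ψ k₀) * ((n' : ℂ) * hn - (n : ℂ) * hn')
    rw [hz] at h
    have hmem := fun η (hη : η ∈ {χ : (Subgroup.normalizer (K : Set G)) → ℂ | Cfsg.IsIrrCharacter (Subgroup.normalizer (K : Set G)) χ ∧
        ∃ k : (Subgroup.normalizer (K : Set G)), (k : G) ∈ K ∧ χ k ≠ χ 1}) => OddChar.Isometry.mem_zS hη
    have h1 := hstar.2.2.1 χ (hmem χ hχ) χ (hmem χ hχ)
    have h2 := hstar.2.2.1 χ (hmem χ hχ) ξ (hmem ξ hξ)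
    rw [classInner_isIrr_self hχ.1] at h1
    rw [classInner_isIrr_ne hχ.1 hξ.1 hne.symm] at h2
    rcases hψχ with hψ' | hψ' <;> rw [hψ'] at h <;>
      simp only [classInner_neg_left, h1, h2, mul_zero, neg_zero, mul_neg, mul_one, sub_zero] at h
    · exact hn0'.ne' (by exact_mod_cast h.symm)
    · exact hn0'.ne' (by exact_mod_cast neg_eq_zero.1 h.symm)
  · rintro ⟨a, ha, b, hb, ha1, hb1, hne⟩
    by_contra hcon
    push Not at hcon
    have hzero : ∀ ξ : (Subgroup.normalizer (K : Set G)) → ℂ, (Cfsg.IsIrrCharacter (Subgroup.normalizer (K : Set G)) ξ ∧ ∃ k : (Subgroup.normalizer (K : Set G)), (k : G) ∈ K ∧ ξ k ≠ ξ 1) →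
        Cfsg.classInner ψ (star ξ) = 0 := by
      intro ξ hξ
      have hm := OddChar.Isometry.mem_zS (S := {χ : (Subgroup.normalizer (K : Set G)) → ℂ | Cfsg.IsIrrCharacter (Subgroup.normalizer (K : Set G)) χ ∧
        ∃ k : (Subgroup.normalizer (K : Set G)), (k : G) ∈ K ∧ χ k ≠ χ 1}) hξ
      have h1 := hstar.2.2.1 ξ hm ξ hm
      rw [classInner_isIrr_self hξ.1] at h1
      rcases isGen_norm_one (hstar.2.2.2 ξ hm) h1 with h | h
      · exact classInner_isIrr_ne hψ h (hcon ξ hξ).1
      · have := classInner_isIrr_ne hψ h (hcon ξ hξ).2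
        have h2 : Cfsg.classInner ψ (-(star ξ)) = - Cfsg.classInner ψ (star ξ) := by
          simp [classInner_def]
        rwa [h2, neg_eq_zero] at this
    obtain ⟨c, hc⟩ := TIFrobenius.const_of_proportional (K := K') hrc
      fun ξ ξ' hξ hrel hξ' hrel' => by
        obtain ⟨n, hn⟩ := char_one_nat (isCharacter_of_isIrr hξ)
        obtain ⟨n', hn'⟩ := char_one_nat (isCharacter_of_isIrr hξ')
        have h := TIFrobenius.restrict_inner_comb hstar hext hψc
          (ξ := ξ) (ξ' := ξ') ⟨hξ, hrel⟩ ⟨hξ', hrel'⟩ hn hn'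
        rw [hzero ξ ⟨hξ, hrel⟩, hzero ξ' ⟨hξ', hrel'⟩] at h
        rw [hn, hn']
        linear_combination h
    exact hne ((hc ⟨a, hlt.le ha⟩ ha (fun h => ha1 (congrArg Subtype.val h))).trans
      (hc ⟨b, hlt.le hb⟩ hb (fun h => hb1 (congrArg Subtype.val h))).symm)

end Cfsg.Agent.S0852
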