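import Cfsg.Statements.S0853
import Cfsg.Agent.Lib.CharTheory.TIFrobenius
import Cfsg.Agent.Lib.Characters.Integrality
import Cfsg.Agent.S0850

set_option autoImplicit false
open Cfsg

namespace Cfsg.Agent.S0853

open Cfsg.Agent.Characters Cfsg.Agent.CharTheory
open scoped ComplexConjugate

/-- Let K be a subgroup of the finite group G that meets each conjugate by an element outside its normalizer N trivially, is properly contained in N, and contains the centralizer of each of its non-identity elements (a T.I. subgroup with Frobenius normalizer). Let S be the set of irreducible characters of N taking at some element of K a value different from their degree, suppose S has at least two members, and let star be a linear isometry on the integer span of S into the generalized characters of G that agrees with induction on the members vanishing at the identity (so S is coherent, with star as the extending isometry). Then there is a single integer m such that star χ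 k - χ k = m * χ 1 / e for every χ in S and every non-identity element k of K, where e is the index of K in N. -/
theorem result {G : Type*} [Group G] [Fintype G] (K : Subgroup G) (hTI : ∀ g : G, g ∉ Subgroup.normalizer (K : Set G) → ∀ k ∈ K, g * k * g⁻¹ ∈ K → k = 1) (hlt : K < Subgroup.normalizer (K : Set G)) (hC : ∀ k ∈ K, k ≠ 1 → Subgroup.centralizer ({k} : Set G) ≤ K) [Fintype ↥(Subgroup.normalizer (K : Set G))] (S : Set (↥(Subgroup.normalizer (K : Set G)) → ℂ)) (hS : S = {χ : ↥(Subgroup.normalizer (K : Set G)) → ℂ | Cfsg.IsIrrCharacter ↥(Subgroup.normalizer (K : Set G)) χ ∧ ∃ k : ↥(Subgroup.normalizer (K : Set G)), (k : G) ∈ K ∧ χ k ≠ χ 1}) (htwo : ∃ χ ∈ S, ∃ ξ ∈ S, χ ≠ ξ) (star : (↥(Subgroup.normalizer (K : Set G)) → ℂ) → (G → ℂ)) (hstar : Cfsg.IsLinearIsometryOn (Cfsg.zspan S) star) (hext : ∀ α ∈ Cfsg.zspanOn S ({1}ᶜ : Set ↥(Subgroup.normalizer (K : Set G))), star α = Cfsg.indFun (Subgroup.normalizer (K : Set G)) α) : ∃ m : ℤ, ∀ χ ∈ S, ∀ k : ↥(Subgroup.normalizer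 (K : Set G)), (k : G) ∈ K → k ≠ 1 → star χ k - χ k = (m : ℂ) * χ 1 / ((K.subgroupOf (Subgroup.normalizer (K : Set G))).index : ℂ) := by
  classical
  set K' : Subgroup (Subgroup.normalizer (K : Set G)) := K.subgroupOf (Subgroup.normalizer (K : Set G)) with hK'
  haveI : K'.Normal := (Subgroup.normal_subgroupOf_iff_le_normalizer hlt.le).2 le_rfl
  have hCK : TIFrobenius.CentLe K' := fun k hk hk1 y hy =>
    hC k hk (fun h => hk1 (Subtype.ext h))
      (Subgroup.mem_centralizer_singleton_iff.2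
        (congrArg Subtype.val (Subgroup.mem_centralizer_singleton_iff.1 hy)))
  subst hS
  set S := {χ : (Subgroup.normalizer (K : Set G)) → ℂ | Cfsg.IsIrrCharacter (Subgroup.normalizer (K : Set G)) χ ∧ ∃ k : (Subgroup.normalizer (K : Set G)), (k : G) ∈ K ∧ χ k ≠ χ 1} with hS
  haveI : Fintype K' := Fintype.ofFinite K'
  haveI : Fintype (Cfsg.IrrCharacter K') := Fintype.ofFinite _
  have hmem : ∀ χ ∈ S, χ ∈ Cfsg.zspan S := fun χ hχ => OddChar.Isometry.mem_zS hχ
  have hgen : ∀ χ ∈ S, Cfsg.IsGeneralizedCharacter (Subgroup.normalizer (K : Set G))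
      ((fun x : (Subgroup.normalizer (K : Set G)) => star χ x) - χ) := fun χ hχ =>
    isGen_sub (isGen_restrict (Subgroup.normalizer (K : Set G)) (hstar.2.2.2 χ (hmem χ hχ)))
      (isGen_of_isCharacter (isCharacter_of_isIrr hχ.1))
  -- the difference is constant on the nontrivial elements
  have hconst : ∀ χ ∈ S, ∃ c : ℂ, ∀ k ∈ K', k ≠ 1 → star χ (k : G) - χ k = c := by
    intro χ hχ
    refine TIFrobenius.const_of_proportional (f := (fun x : (Subgroup.normalizer (K : Set G)) => star χ x) - χ)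
      (isGen_isClassFunction (hgen χ hχ)) fun ξ ξ' hξ hrel hξ' hrel' => ?_
    obtain ⟨n, hn⟩ := char_one_nat (isCharacter_of_isIrr hξ)
    obtain ⟨n', hn'⟩ := char_one_nat (isCharacter_of_isIrr hξ')
    have h := TIFrobenius.restrict_inner_comb hstar hext
      (isGen_isClassFunction (hstar.2.2.2 χ (hmem χ hχ)))
      (ξ := ξ) (ξ' := ξ') ⟨hξ, hrel⟩ ⟨hξ', hrel'⟩ hn hn'
    rw [hstar.2.2.1 χ (hmem χ hχ) ξ (hmem ξ ⟨hξ, hrel⟩),
      hstar.2.2.1 χ (hmem χ hχ) ξ' (hmem ξ' ⟨hξ', hrel'⟩)] at h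
    rw [classInner_sub_left, classInner_sub_left, hn, hn']
    linear_combination h
  choose! c hc using hconst
  obtain ⟨χ₀, hχ₀, -⟩ := htwo
  obtain ⟨k₀, hk₀, hk₀'⟩ := id hχ₀.2
  have hk1 : k₀ ≠ 1 := fun h => hk₀' (by rw [h])
  -- proportional to the degree
  have hprop : ∀ χ ∈ S, ∀ ξ ∈ S, c χ * ξ 1 = c ξ * χ 1 := by
    intro χ hχ ξ hξ
    obtain ⟨n, hn⟩ := char_one_nat (isCharacter_of_isIrr hχ.1)
    obtain ⟨n', hn'⟩ := char_one_nat (isCharacter_of_isIrr hξ.1)
    have hg := TIFrobenius.star_comb hstar hext hχ hξ hn hn'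
    set α := (n' : ℂ) • χ - (n : ℂ) • ξ with hα
    have hval := (Cfsg.Agent.S0850.result K hTI hlt hC).2 α
      (fun g h => by
        simp only [α, Pi.sub_apply, Pi.smul_apply,
          char_isClassFunction (isCharacter_of_isIrr hχ.1) g h,
          char_isClassFunction (isCharacter_of_isIrr hξ.1) g h])
      (fun x hx => by
        simp only [α, Pi.sub_apply, Pi.smul_apply]
        rw [TIFrobenius.vanish_off hCK hχ.1 hχ.2 hx, TIFrobenius.vanish_off hCK hξ.1 hξ.2 hx]
        simp)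
      (by simp [α, hn, hn', mul_comm]) k₀
    rw [hg] at hval
    simp only [α, Pi.sub_apply, Pi.smul_apply, smul_eq_mul] at hval
    rw [← hc χ hχ k₀ hk₀ hk1, ← hc ξ hξ k₀ hk₀ hk1, hn, hn']
    linear_combination hval
  -- integrality
  have hint : ∀ χ ∈ S, ∃ z : ℤ, c χ = (z : ℂ) := by
    intro χ hχ
    set f := (fun x : (Subgroup.normalizer (K : Set G)) => star χ x) - χ with hf
    have hf' := isGen_restrict K' (hgen χ hχ)
    obtain ⟨z, hz⟩ := classInner_gen_int hf'
      (isGen_of_isCharacter (isCharacter_one (G := K')))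
    obtain ⟨a, b, ha, hb, hab⟩ := hgen χ hχ
    obtain ⟨na, hna⟩ := char_one_nat ha
    obtain ⟨nb, hnb⟩ := char_one_nat hb
    have hsum : (Nat.card K' : ℂ) * z = ((na : ℂ) - nb) + ((Nat.card K' : ℂ) - 1) * c χ := by
      rw [← hz, classInner_def, mul_inv_cancel_left₀ natCard_ne_zero,
        ← Finset.add_sum_erase _ _ (Finset.mem_univ (1 : K')),
        Finset.sum_congr rfl (g := fun _ => c χ) fun k hk => ?_, Finset.sum_const,
        Finset.card_erase_of_mem (Finset.mem_univ _), Finset.card_univ, nsmul_eq_mul,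
        Nat.cast_sub Fintype.card_pos, Nat.card_eq_fintype_card]
      · simpa [← hna, ← hnb] using congrFun hab 1
      · rw [map_one, mul_one]
        exact hc χ hχ k k.2 (fun h => Finset.ne_of_mem_erase hk (Subtype.ext h))
    have hcard : 1 < Nat.card K' := by
      rw [Finite.one_lt_card_iff_nontrivial]
      exact ⟨⟨⟨k₀, hk₀⟩, 1, fun h => hk1 (congrArg Subtype.val h)⟩⟩
    have hrat : c χ = ((((Nat.card K' : ℚ) * z - ((na : ℚ) - nb)) / ((Nat.card K' : ℚ) - 1) : ℚ) : ℂ) := by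
      push_cast
      rw [eq_div_iff]
      · linear_combination -hsum
      · rw [sub_ne_zero, ne_eq, Nat.cast_eq_one]
        omega
    have hi : IsIntegral ℤ (c χ) := by
      rw [← hc χ hχ k₀ hk₀ hk1]
      have h1 : IsIntegral ℤ (star χ (k₀ : G)) := by
        obtain ⟨a, b, ha, hb, hab⟩ := hstar.2.2.2 χ (hmem χ hχ)
        rw [hab]
        exact (char_value_isIntegral ha _).sub (char_value_isIntegral hb _)
      exact h1.sub (char_value_isIntegral (isCharacter_of_isIrr hχ.1) _)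
    obtain ⟨w, hw⟩ := exists_int_of_isIntegral_ratCast (hrat ▸ hi)
    exact ⟨w, hrat.trans hw⟩
  choose! z hz using hint
  have hidx : (K'.index : ℂ) ≠ 0 := Nat.cast_ne_zero.2 Subgroup.index_ne_zero_of_finite
  set u : ℂ := c χ₀ * (K'.index : ℂ) / χ₀ 1 with hu
  have hx0 := irr_one_ne_zero hχ₀.1
  have hmain : ∀ χ ∈ S, c χ = u * χ 1 / (K'.index : ℂ) := by
    intro χ hχ
    rw [hu]
    field_simp
    linear_combination hprop χ hχ χ₀ hχ₀
  suffices hm : ∃ m : ℤ, u = (m : ℂ) by
    obtain ⟨m, hm⟩ := hm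
    refine ⟨m, fun χ hχ k hk hk' => ?_⟩
    rw [hc χ hχ k hk hk', hmain χ hχ, hm]
  -- `u` is an integer
  choose n hn _ hndvd using fun θ : Cfsg.IrrCharacter K' => irr_degree_dvd_card θ.2
  have hu' : ∀ θ : Cfsg.IrrCharacter K', θ ≠ trivIrr K' →
      u * (n θ : ℂ) = (z (Cfsg.indFun K' (θ : K' → ℂ)) : ℂ) := by
    intro θ hθ
    have hθ1 : (θ : K' → ℂ) ≠ fun _ => 1 := fun h => hθ (Subtype.ext h)
    have hS' : Cfsg.indFun K' (θ : K' → ℂ) ∈ S :=
      ⟨TIFrobenius.isIrr_indFun hCK θ.2 hθ1, TIFrobenius.rel_indFun θ.2 hθ1⟩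
    rw [← hz _ hS', hmain _ hS', Cfsg.Agent.Characters.indFun_one, hn]
    field_simp
  obtain ⟨θ₀, hθ₀⟩ : ∃ θ : Cfsg.IrrCharacter K', θ ≠ trivIrr K' := by
    obtain ⟨θ, hθ, hθ1, -⟩ := TIFrobenius.exists_theta hCK hχ₀.1 hχ₀.2
    exact ⟨⟨θ, hθ⟩, fun h => hθ1 (congrArg Subtype.val h)⟩
  obtain ⟨r, hr⟩ := hndvd θ₀
  have hsq := sum_degree_sq (G := K')
  rw [← Finset.add_sum_erase _ _ (Finset.mem_univ (trivIrr K')), trivIrr_coe] at hsq
  have h1 : u * ((Nat.card K' : ℂ) - 1) =
      ((∑ θ ∈ Finset.univ.erase (trivIrr K'),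
        z (Cfsg.indFun K' (θ : K' → ℂ)) * n θ : ℤ) : ℂ) := by
    rw [← hsq, one_pow, add_sub_cancel_left, Finset.mul_sum]
    push_cast
    refine Finset.sum_congr rfl fun θ hθ => ?_
    rw [← hu' θ (Finset.ne_of_mem_erase hθ), hn, sq, mul_assoc]
  refine ⟨z (Cfsg.indFun K' (θ₀ : K' → ℂ)) * r - ∑ θ ∈ Finset.univ.erase (trivIrr K'),
    z (Cfsg.indFun K' (θ : K' → ℂ)) * n θ, ?_⟩
  rw [Int.cast_sub, ← h1, Int.cast_mul, ← hu' θ₀ hθ₀, hr]
  push_cast
  ring

end Cfsg.Agent.S0853
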