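import Cfsg.Statements.S0884
import Cfsg.Agent.Lib.CharTheory.Zassenhaus.Classes

set_option autoImplicit false
open Cfsg

namespace Cfsg.Agent.S0884

/-- Let G be a finite simple Zassenhaus group on Ω with h + 1 points whose two-point stabilizer E has odd order e with 2e < h - 1, and let H be the subgroup of the stabilizer of a consisting of the identity and the elements fixing no point other than a (given here as a subgroup of the stabilizer of order one less than the number of points whose non-identity elements fix only a; it is the Frobenius kernel of the stabilizer). Then at least e conjugacy classes of G contain no element of H. -/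
theorem result {G Ω : Type*} [Group G] [Finite G] [MulAction G Ω] [Fintype Ω] (hZ : Cfsg.IsZassenhausGroup G Ω) {a b : Ω} (hab : a ≠ b) [IsSimpleGroup G] (h e : ℕ) (hh : Fintype.card Ω = h + 1) (he : Nat.card ↥(MulAction.stabilizer G a ⊓ MulAction.stabilizer G b : Subgroup G) = e) (hodd : Odd e) (hlt : 2 * e < h - 1) (H : Subgroup G) (hHa : H ≤ MulAction.stabilizer G a) (hHcard : Nat.card H + 1 = Fintype.card Ω) (hHfix : ∀ u ∈ H, u ≠ 1 → ∀ c : Ω, u • c = c → c = a) : e ≤ Nat.card {C : ConjClasses G // ∀ g : G, ConjClasses.mk g = C → g ∉ H} := by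
  classical
  haveI := Fintype.ofFinite G
  have hc : CharTheory.Zassenhaus.Config a b H := ⟨hZ, hab, hHa, hHcard, hHfix⟩
  have ho : Odd (Nat.card (CharTheory.Zassenhaus.two (G := G) a b)) := by
    show Odd (Nat.card ↥(MulAction.stabilizer G a ⊓ MulAction.stabilizer G b : Subgroup G))
    rw [he]; exact hodd
  have hH : Nat.card H = h := by omega
  have hG : Fintype.card G = (h + 1) * (h * e) := by
    rw [← Nat.card_eq_fintype_card, CharTheory.Zassenhaus.card_group hc, hh, hH]
    show (h + 1) * (h * Nat.card ↥(MulAction.stabilizer G a ⊓ MulAction.stabilizer G b : Subgroup G)) = _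
    rw [he]
  let J : Finset G := Finset.univ.filter fun x => orderOf x = 2
  let S : Finset (G × G) :=
    (J ×ˢ J).filter fun p => p.1 ≠ p.2 ∧ ¬ ∃ c : Ω, p.1 • c = c ∧ p.2 • c = c
  have hmain : S.card ≤ Nat.card {C : ConjClasses G // ∀ g : G, ConjClasses.mk g = C → g ∉ H} *
      Fintype.card G := by
    refine CharTheory.Zassenhaus.card_real_pairs_le S (fun p hp => ?_) _ fun p hp g hg hgH => ?_
    · simp only [S, J, Finset.mem_filter, Finset.mem_product, Finset.mem_univ, true_and] at hp
      exact hp.1
    simp only [S, J, Finset.mem_filter, Finset.mem_product, Finset.mem_univ, true_and] at hp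
    obtain ⟨⟨hx, hy⟩, hne, hfix⟩ := hp
    obtain ⟨t, ht⟩ := isConj_iff.1 (ConjClasses.mk_eq_mk_iff_isConj.1 hg)
    have hord : ∀ z : G, orderOf (t⁻¹ * z * t) = orderOf z := fun z => by
      have := orderOf_injective (MulAut.conj t⁻¹).toMonoidHom (MulEquiv.injective _) z
      simpa using this
    have hprod : (t⁻¹ * p.1 * t) * (t⁻¹ * p.2 * t) = g := by
      calc (t⁻¹ * p.1 * t) * (t⁻¹ * p.2 * t) = t⁻¹ * (p.1 * p.2) * t := by group
        _ = g := by rw [← ht]; group
    have hg1 : g ≠ 1 := by
      rintro rfl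
      rw [mul_one, mul_inv_cancel, eq_comm, mul_eq_one_iff_eq_inv,
        CharTheory.Zassenhaus.inv_eq hy] at ht
      exact hne ht
    obtain ⟨h1, h2⟩ := CharTheory.Zassenhaus.real_in_H hc ho hgH hg1 ((hord _).trans hx)
      ((hord _).trans hy) hprod
    refine hfix ⟨t • a, ?_, ?_⟩
    · rwa [mul_smul, mul_smul, inv_smul_eq_iff] at h1
    · rwa [mul_smul, mul_smul, inv_smul_eq_iff] at h2
  set k := Nat.card {C : ConjClasses G // ∀ g : G, ConjClasses.mk g = C → g ∉ H}
  rw [hG] at hmain
  have hJ : J.card = Nat.card {x : G // orderOf x = 2} := by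
    rw [Nat.card_eq_fintype_card, Fintype.card_subtype]
  have hS : S.card = ∑ x ∈ J, (J.filter fun y => x ≠ y ∧ ¬ ∃ c : Ω, x • c = c ∧ y • c = c).card := by
    simp only [S, Finset.card_filter, Finset.sum_product]
  by_cases hev : Even h
  · have hevH : Even (Nat.card H) := hH.symm ▸ hev
    have hI : J.card = e * (h + 1) := by
      rw [hJ, CharTheory.Zassenhaus.card_involutions_even hc ho hevH, hh]
      exact congrArg (· * (h + 1)) he
    have hrow : ∀ x ∈ J, J.card ≤
        (J.filter fun y => x ≠ y ∧ ¬ ∃ c : Ω, x • c = c ∧ y • c = c).card + e := by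
      intro x hx
      have hx2 : orderOf x = 2 := (Finset.mem_filter.1 hx).2
      have h1 := CharTheory.Zassenhaus.fixed_card hc ho hx2
      rw [if_pos hevH] at h1
      obtain ⟨⟨⟨c, hxc⟩⟩⟩ := (Nat.card_pos_iff (α := MulAction.fixedBy Ω x)).1 (h1 ▸ one_pos)
      have h2 : (Finset.univ.filter fun y : G => orderOf y = 2 ∧ y • c = c).card = e := by
        rw [← Fintype.card_subtype, ← Nat.card_eq_fintype_card,
          CharTheory.Zassenhaus.card_fixing hc ho hevH c]
        exact he
      rw [← h2]
      refine le_trans (Finset.card_le_card ?_) (Finset.card_union_le _ _)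
      intro y hy
      simp only [Finset.mem_union, Finset.mem_filter, Finset.mem_univ, true_and]
      by_cases hyc : y • c = c
      · exact Or.inr ⟨(Finset.mem_filter.1 hy).2, hyc⟩
      · refine Or.inl ⟨hy, fun h => hyc (h ▸ hxc), ?_⟩
        rintro ⟨d, hxd, hyd⟩
        exact hyc (CharTheory.Zassenhaus.fix_unique hc ho hx2 hxc hxd ▸ hyd)
    have hsum : J.card * J.card ≤ S.card + J.card * e := by
      have := Finset.sum_le_sum hrow
      rw [Finset.sum_const, smul_eq_mul, Finset.sum_add_distrib, ← hS, Finset.sum_const,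
        smul_eq_mul] at this
      exact this
    rw [hI] at hsum
    by_contra hlt'
    push Not at hlt'
    have h4 : k * ((h + 1) * (h * e)) + (h + 1) * (h * e) ≤ e * ((h + 1) * (h * e)) := by
      rw [← Nat.succ_mul]; exact Nat.mul_le_mul_right _ hlt'
    have h5 : 0 < (h + 1) * (h * e) := hG ▸ Fintype.card_pos
    nlinarith
  · have hevH : ¬ Even (Nat.card H) := hH.symm ▸ hev
    have hI : J.card = e * h := by
      rw [hJ, CharTheory.Zassenhaus.card_involutions_odd hc ho hevH, hH]
      exact congrArg (· * h) he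
    have hS2 : S = J.offDiag := by
      ext p
      simp only [S, J, Finset.mem_filter, Finset.mem_product, Finset.mem_offDiag, Finset.mem_univ,
        true_and]
      exact ⟨fun h' => ⟨h'.1.1, h'.1.2, h'.2.1⟩, fun h' => ⟨⟨h'.1, h'.2.1⟩, h'.2.2,
        fun ⟨c, hc1, _⟩ => CharTheory.Zassenhaus.no_fix hc ho hevH h'.1 c hc1⟩⟩
    rw [hS2, Finset.offDiag_card, hI] at hmain
    have hmain' : e * h * (e * h) ≤ k * ((h + 1) * (h * e)) + e * h := by omega
    by_contra hlt'
    push Not at hlt'
    have h4 : k * ((h + 1) * (h * e)) + (h + 1) * (h * e) ≤ e * ((h + 1) * (h * e)) := by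
      rw [← Nat.succ_mul]; exact Nat.mul_le_mul_right _ hlt'
    have he1 : 1 ≤ e := by rcases hodd with ⟨r, hr⟩; omega
    have h6 : e * (h * e) + 1 * (h * e) ≤ h * (h * e) := by
      rw [← Nat.add_mul]; exact Nat.mul_le_mul_right _ (by omega)
    have h7 : 0 < h * e := Nat.mul_pos (by omega) he1
    nlinarith

end Cfsg.Agent.S0884
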