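import Cfsg.Statements.S4146
import Cfsg.Agent.GStructClassType.BadApart

/-!
Groups with class sizes `1, n, m, n m` for coprime `n, m` are nilpotent.
-/

set_option autoImplicit false
open Cfsg

namespace Cfsg.Agent.S4146

open Cfsg.Agent.GStructClassType
open Cfsg.Agent.GStructB.TwoSizes (IsL)

/-- Let G be a finite group whose conjugacy class sizes are exactly 1, n, m and nm for coprime integers n, m > 1. Then G is nilpotent and n and m are prime powers. -/
theorem result {G : Type*} [Group G] [Finite G] (n m : ℕ) (hn : 1 < n) (hm : 1 < m) (hcop : n.Coprime m)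
    (h : Set.range (fun x : G => (Subgroup.centralizer ({x} : Set G)).index) = ({1, n, m, n * m} : Set ℕ)) :
    Group.IsNilpotent G ∧ IsPrimePow n ∧ IsPrimePow m := by
  have H : IT G n m :=
    { one_lt_n := hn, one_lt_m := hm, cop := hcop
      vals := fun x => by
        have hx : ix x ∈ ({1, n, m, n * m} : Set ℕ) := h ▸ ⟨x, rfl⟩
        simpa using hx
      exN := by
        obtain ⟨x, hx⟩ := h.ge (show n ∈ ({1, n, m, n * m} : Set ℕ) by simp)
        exact ⟨x, hx⟩
      exM := by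
        obtain ⟨x, hx⟩ := h.ge (show m ∈ ({1, n, m, n * m} : Set ℕ) by simp)
        exact ⟨x, hx⟩
      exNM := by
        obtain ⟨x, hx⟩ := h.ge (show n * m ∈ ({1, n, m, n * m} : Set ℕ) by simp)
        exact ⟨x, hx⟩ }
  by_cases h1 : ∃ q v, q.Prime ∧ IsL q v ∧ ix (G := G) v = m ∧ ¬ q ∣ n
  · obtain ⟨q, v, hq, hv, hvm, hqn⟩ := h1
    exact H.nilpotent_of_good hq hv hvm hqn
  by_cases h2 : ∃ p u, p.Prime ∧ IsL p u ∧ ix (G := G) u = n ∧ ¬ p ∣ m
  · obtain ⟨p, u, hp, hu, hun, hpm⟩ := h2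
    obtain ⟨h3, h4, h5⟩ := H.symm.nilpotent_of_good hp hu hun hpm
    exact ⟨h3, h5, h4⟩
  exfalso
  have hB : Bad G n m :=
    ⟨fun p u hp hu hun => Classical.byContradiction fun hd => h2 ⟨p, u, hp, hu, hun, hd⟩,
      fun q v hq hv hvm => Classical.byContradiction fun hd => h1 ⟨q, v, hq, hv, hvm, hd⟩⟩
  by_cases h3 : ∀ (p' q' : ℕ) (a b : G), p'.Prime → q'.Prime → IsL p' a → IsL q' b → ix a = n →
      ix b = m → Commute a b
  · obtain ⟨p, u, hp, hu, hun⟩ := H.exists_primary_n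
    obtain ⟨q, v, hq, hv, hvm⟩ := H.symm.exists_primary_n
    exact CPair.false (p := p) (q := q) (u := u) (v := v) ⟨H, hB, hp, hq, hu, hv, hun, hvm, h3⟩
  push Not at h3
  obtain ⟨p, q, a, b, hp, hq, ha, hb, han, hbm, hab⟩ := h3
  refine APair.false_apart (p := p) (q := q) (u := a) (c := b)
    ⟨H, hB, hp, hq, ha, hb, han, hbm, fun g hg => hab ?_⟩
  have := H.commute_conj han ((ix_cj g b).trans hbm) hg 1 g⁻¹
  rw [cj_inv_cj] at this
  simpa [cj] using this

end Cfsg.Agent.S4146
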