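import Cfsg.Statements.S0734
import Mathlib

set_option autoImplicit false
open Cfsg

namespace Cfsg.Agent.S0734

/-- Higman's criterion for primitivity: a transitive action on a finite set is primitive if and only if every non-trivial orbital graph (edges = images of a fixed pair of distinct points) is connected. -/
theorem result {G : Type*} [Group G] {Ω : Type*} [Finite Ω] [MulAction G Ω] [MulAction.IsPretransitive G Ω] [Nontrivial Ω] : MulAction.IsPreprimitive G Ω ↔ ∀ a b : Ω, a ≠ b → (SimpleGraph.fromRel fun x y : Ω => ∃ g : G, g • a = x ∧ g • b = y).Connected := by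
  classical
  constructor
  · intro hprim a b hab
    set Γ := SimpleGraph.fromRel fun x y : Ω => ∃ g : G, g • a = x ∧ g • b = y with hΓ
    have hadj : ∀ (g : G) (x y : Ω), Γ.Adj x y → Γ.Adj (g • x) (g • y) := by
      intro g x y h
      rw [hΓ, SimpleGraph.fromRel_adj] at h ⊢
      refine ⟨fun e => h.1 (MulAction.injective g e), ?_⟩
      rcases h.2 with ⟨k, rfl, rfl⟩ | ⟨k, rfl, rfl⟩
      · exact Or.inl ⟨g * k, mul_smul _ _ _, mul_smul _ _ _⟩
      · exact Or.inr ⟨g * k, mul_smul _ _ _, mul_smul _ _ _⟩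
    have hreach : ∀ (g : G) (x y : Ω), Γ.Reachable x y → Γ.Reachable (g • x) (g • y) := by
      intro g x y h
      obtain ⟨w⟩ := h
      induction w with
      | nil => exact SimpleGraph.Reachable.refl _
      | cons h _ ih => exact (hadj g _ _ h).reachable.trans ih
    let B : Set Ω := {x | Γ.Reachable a x}
    have hB : MulAction.IsBlock G B := by
      rw [MulAction.isBlock_iff_smul_eq_of_nonempty]
      rintro g ⟨_, ⟨u, hu, rfl⟩, hgu⟩
      have hga : Γ.Reachable a (g • a) := SimpleGraph.Reachable.trans hgu (hreach g _ _ hu).symm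
      apply Set.eq_of_subset_of_ncard_le ?_ ?_ (Set.toFinite _)
      · rintro _ ⟨x, hx, rfl⟩
        exact hga.trans (hreach g _ _ hx)
      · exact (Set.ncard_image_of_injective _ (MulAction.injective g)).ge
    rcases hB.subsingleton_or_eq_univ with h | h
    · exfalso
      refine hab (h (SimpleGraph.Reachable.refl a) (SimpleGraph.Adj.reachable ?_))
      rw [hΓ, SimpleGraph.fromRel_adj]
      exact ⟨hab, Or.inl ⟨1, one_smul _ _, one_smul _ _⟩⟩
    · exact ⟨fun x y => (h ▸ Set.mem_univ x : x ∈ B).symm.trans (h ▸ Set.mem_univ y : y ∈ B)⟩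
  · intro h
    refine ⟨fun {B} hB => ?_⟩
    by_contra hcon
    simp only [MulAction.IsTrivialBlock, not_or, Set.not_subsingleton_iff] at hcon
    obtain ⟨⟨a, ha, b, hb, hab⟩, huniv⟩ := hcon
    set Γ := SimpleGraph.fromRel fun x y : Ω => ∃ g : G, g • a = x ∧ g • b = y with hΓ
    have hadj : ∀ x y, Γ.Adj x y → x ∈ B → y ∈ B := by
      intro x y hxy hx
      rw [hΓ, SimpleGraph.fromRel_adj] at hxy
      rcases hxy.2 with ⟨g, rfl, rfl⟩ | ⟨g, rfl, rfl⟩
      · rw [← MulAction.isBlock_iff_smul_eq_of_nonempty.1 hB (g := g) ⟨g • a, ⟨a, ha, rfl⟩, hx⟩]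
        exact ⟨b, hb, rfl⟩
      · rw [← MulAction.isBlock_iff_smul_eq_of_nonempty.1 hB (g := g) ⟨g • b, ⟨b, hb, rfl⟩, hx⟩]
        exact ⟨a, ha, rfl⟩
    apply huniv
    refine Set.eq_univ_of_forall fun x => ?_
    obtain ⟨w⟩ := (h a b hab).preconnected a x
    suffices hw : ∀ u v : Ω, Γ.Walk u v → u ∈ B → v ∈ B from hw a x w ha
    intro u v w'
    induction w' with
    | nil => exact id
    | cons hxy _ ih => exact fun hu => ih (hadj _ _ hxy hu)

end Cfsg.Agent.S0734
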