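import Cfsg.Statements.S0743
import Cfsg.Agent.Lib.Perm.Basic

set_option autoImplicit false
open Cfsg

namespace Cfsg.Agent.S0743

/-- Gleason's Lemma: let `p` be a prime and `1 ≤ k < n`; if every `k`-subset of the `n` points is exactly the fixed-point set of some `p`-subgroup of `G`, then `G` is `k`-transitive. -/
theorem result {α : Type*} [Fintype α] [DecidableEq α] (G : Subgroup (Equiv.Perm α)) {p k : ℕ} (hp : p.Prime) (hk : 1 ≤ k) (hkn : k < Fintype.card α) (h : ∀ s : Finset α, s.card = k → ∃ P : Subgroup G, IsPGroup p P ∧ MulAction.fixedPoints P α = (s : Set α)) : MulAction.IsMultiplyPretransitive G α k := by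
  classical
  refine Cfsg.Agent.Perm.Basic.isMultiplyPretransitive_of_fixing_pred hkn ?_
  intro t ht x y hx hy
  set F : Subgroup G := fixingSubgroup G (t : Set α) with hF
  suffices hO : y ∈ MulAction.orbit F x by
    obtain ⟨g, hg⟩ := hO
    exact ⟨(g : G), fun z hz => (mem_fixingSubgroup_iff G).1 g.2 z hz, hg⟩
  by_contra hne
  -- the p-subgroup attached to t ∪ {z} fixes only z outside t
  have key : ∀ z w : α, z ∉ t → w ∉ t →
      Nat.card (MulAction.orbit F w) ≡ (if z ∈ MulAction.orbit F w then 1 else 0) [MOD p] := by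
    intro z w hz hw
    have : Fact p.Prime := ⟨hp⟩
    obtain ⟨P, hP, hfix⟩ := h (insert z t) (by rw [Finset.card_insert_of_notMem hz]; exact ht)
    have hPF : P ≤ F := by
      intro g hg
      rw [hF, mem_fixingSubgroup_iff]
      intro u hu
      have h0 : u ∈ MulAction.fixedPoints P α := by
        rw [hfix]; simpa using Or.inr hu
      exact h0 ⟨g, hg⟩
    have hnot : ∀ v ∈ MulAction.orbit F w, v ∉ t := by
      rintro v ⟨g, rfl⟩ hv
      have h1 := (mem_fixingSubgroup_iff G).1 (inv_mem g.2) _ hv
      apply hw
      have h2 : ((g : G)⁻¹) • (g • w) = w := inv_smul_smul (g : G) w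
      rw [h1] at h2
      exact (h2 ▸ hv : w ∈ t)
    let _ : MulAction P (MulAction.orbit F w) :=
      MulAction.compHom _ (Subgroup.inclusion hPF)
    have hmod := hP.card_modEq_card_fixedPoints (MulAction.orbit F w)
    refine hmod.trans ?_
    have heq : ∀ v : MulAction.orbit F w,
        v ∈ MulAction.fixedPoints P (MulAction.orbit F w) ↔ (v : α) = z := by
      intro v
      constructor
      · intro hv
        have h0 : (v : α) ∈ MulAction.fixedPoints P α := fun g => congrArg Subtype.val (hv g)
        rw [hfix] at h0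
        simp only [Finset.coe_insert, Set.mem_insert_iff, Finset.mem_coe] at h0
        exact h0.resolve_right (hnot _ v.2)
      · intro hv g
        have h0 : z ∈ MulAction.fixedPoints P α := by rw [hfix]; simp
        refine Subtype.ext ?_
        show (g : G) • (v : α) = v
        rw [hv]; exact h0 g
    split_ifs with hzw
    · rw [show MulAction.fixedPoints P (MulAction.orbit F w) = {⟨z, hzw⟩} from
        Set.ext fun v => (heq v).trans ⟨fun h => Subtype.ext h, fun h => congrArg Subtype.val h⟩]
      simp [Nat.ModEq]
    · rw [show MulAction.fixedPoints P (MulAction.orbit F w) = ∅ from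
        Set.eq_empty_of_forall_notMem fun v hv => hzw ((heq v).1 hv ▸ v.2)]
      simp [Nat.ModEq]
  have h1 := key x x hx hx
  rw [if_pos (MulAction.mem_orbit_self x)] at h1
  have h2 := key y x hy hx
  rw [if_neg hne] at h2
  have h3 : 1 % p = 0 % p := h1.symm.trans h2
  rw [Nat.one_mod_eq_one.2 hp.one_lt.ne', Nat.zero_mod] at h3
  exact one_ne_zero h3

end Cfsg.Agent.S0743
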