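import Cfsg.Statements.S0735
import Mathlib

set_option autoImplicit false
open Cfsg

namespace Cfsg.Agent.S0735

open scoped Pointwise

/-- A 2-homogeneous permutation group (transitive on 2-subsets) of even order is doubly transitive; a non-trivial 2-homogeneous group is primitive. -/
theorem result {α : Type*} [Fintype α] [DecidableEq α] (G : Subgroup (Equiv.Perm α)) (h2 : MulAction.IsPretransitive G (Set.powersetCard α 2)) (hα : 3 ≤ Fintype.card α) : (Even (Nat.card G) → MulAction.IsMultiplyPretransitive G α 2) ∧ (G ≠ ⊥ → MulAction.IsPreprimitive G α) := by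
  classical
  have hpair : ∀ a b c d : α, a ≠ b → c ≠ d →
      ∃ g : G, (g • a = c ∧ g • b = d) ∨ (g • a = d ∧ g • b = c) := by
    intro a b c d hab hcd
    obtain ⟨g, hg⟩ := h2.exists_smul_eq ⟨{a, b}, Finset.card_pair hab⟩ ⟨{c, d}, Finset.card_pair hcd⟩
    refine ⟨g, ?_⟩
    have hg' : g • ({a, b} : Finset α) = {c, d} :=
      congrArg (fun s : Set.powersetCard α 2 => (s : Finset α)) hg
    rw [Finset.smul_finset_insert, Finset.smul_finset_singleton] at hg'
    have hne : g • a ≠ g • b := fun e => hab (MulAction.injective g e)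
    have h1 := Finset.ext_iff.1 hg' (g • a)
    have h1' := Finset.ext_iff.1 hg' (g • b)
    simp only [Finset.mem_insert, Finset.mem_singleton, true_or, or_true, true_iff] at h1 h1'
    grind
  refine ⟨fun heven => ?_, fun hne => ?_⟩
  · have : Fact (Nat.Prime 2) := ⟨Nat.prime_two⟩
    obtain ⟨t, ht⟩ := exists_prime_orderOf_dvd_card' (G := G) 2 heven.two_dvd
    have ht1 : t ≠ 1 := fun h => by simp [h] at ht
    obtain ⟨u, hu⟩ : ∃ u : α, t • u ≠ u := by
      by_contra h
      push Not at h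
      exact ht1 (Subtype.ext (Equiv.ext h))
    have htt : t • t • u = u := by
      rw [← mul_smul, ← pow_two, ← ht, pow_orderOf_eq_one, one_smul]
    rw [MulAction.is_two_pretransitive_iff]
    intro a b c d hab hcd
    obtain ⟨g, hg⟩ := hpair a b u (t • u) hab hu.symm
    obtain ⟨k, hk⟩ := hpair c d u (t • u) hcd hu.symm
    rcases hg with ⟨g1, g2⟩ | ⟨g1, g2⟩ <;> rcases hk with ⟨k1, k2⟩ | ⟨k1, k2⟩
    · exact ⟨k⁻¹ * g, by rw [mul_smul, g1, inv_smul_eq_iff, k1],
        by rw [mul_smul, g2, inv_smul_eq_iff, k2]⟩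
    · exact ⟨k⁻¹ * t * g, by rw [mul_smul, mul_smul, g1, inv_smul_eq_iff, k1],
        by rw [mul_smul, mul_smul, g2, htt, inv_smul_eq_iff, k2]⟩
    · exact ⟨k⁻¹ * t * g, by rw [mul_smul, mul_smul, g1, htt, inv_smul_eq_iff, k1],
        by rw [mul_smul, mul_smul, g2, inv_smul_eq_iff, k2]⟩
    · exact ⟨k⁻¹ * g, by rw [mul_smul, g1, inv_smul_eq_iff, k1],
        by rw [mul_smul, g2, inv_smul_eq_iff, k2]⟩
  · obtain ⟨g₀, hg₀, hg₀1⟩ := (Subgroup.bot_or_exists_ne_one G).resolve_left hne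
    obtain ⟨u, hu⟩ : ∃ u : α, (⟨g₀, hg₀⟩ : G) • u ≠ u := by
      by_contra h
      push Not at h
      exact hg₀1 (Equiv.ext h)
    have hfix : u ∉ MulAction.fixedPoints G α := fun h => hu (h _)
    refine MulAction.IsPreprimitive.of_isTrivialBlock_of_notMem_fixedPoints hfix
      fun {B} huB hB => ?_
    rw [MulAction.IsTrivialBlock, or_iff_not_imp_left, Set.not_subsingleton_iff]
    rintro ⟨a, ha, b, hb, hab⟩
    refine Set.eq_univ_of_forall fun c => ?_
    by_cases hca : c = a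
    · exact hca ▸ ha
    obtain ⟨g, hg⟩ := hpair a b a c hab (fun e => hca e.symm)
    rcases hg with ⟨g1, g2⟩ | ⟨g1, g2⟩
    · rw [← MulAction.isBlock_iff_smul_eq_of_nonempty.1 hB (g := g) ⟨a, ⟨a, ha, g1⟩, ha⟩]
      exact ⟨b, hb, g2⟩
    · rw [← MulAction.isBlock_iff_smul_eq_of_nonempty.1 hB (g := g) ⟨a, ⟨b, hb, g2⟩, ha⟩]
      exact ⟨a, ha, g1⟩

end Cfsg.Agent.S0735
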