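import Cfsg.Statements.S0744
import Cfsg.Agent.Lib.Perm.Basic

set_option autoImplicit false
open Cfsg

namespace Cfsg.Agent.S0744

/-- If for some `k > 1` the pointwise stabilisers of all `(k-1)`-subsets have the same order `> 1` and those of all `k`-subsets have the same order, then the group is `(k-1)`-transitive. -/
theorem result {α : Type*} [Fintype α] [DecidableEq α] (G : Subgroup (Equiv.Perm α)) {k : ℕ} (hk : 1 < k) (hkn : k ≤ Fintype.card α) (l m : ℕ) (hl : 1 < l) (hkm1 : ∀ s : Finset α, s.card = k - 1 → Nat.card (fixingSubgroup G (s : Set α)) = l) (hkm : ∀ s : Finset α, s.card = k → Nat.card (fixingSubgroup G (s : Set α)) = m) : MulAction.IsMultiplyPretransitive G α (k - 1) := by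
  classical
  refine Cfsg.Agent.Perm.Basic.isMultiplyPretransitive_of_fixing_pred (by omega) ?_
  intro t ht x y hx hy
  set F : Subgroup G := fixingSubgroup G (t : Set α) with hF
  suffices hO : y ∈ MulAction.orbit F x by
    obtain ⟨g, hg⟩ := hO
    exact ⟨(g : G), fun z hz => (mem_fixingSubgroup_iff G).1 g.2 z hz, hg⟩
  -- orbit sizes of the pointwise stabiliser of k - 1 points
  have hsize : ∀ (s : Finset α), s.card = k - 1 → ∀ w, w ∉ s →
      Nat.card (MulAction.orbit (fixingSubgroup G (s : Set α)) w) * m = l := by
    intro s hs w hw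
    have h0 := hkm (insert w s) (by rw [Finset.card_insert_of_notMem hw]; omega)
    rw [← hkm1 s hs, ← h0]
    let S := fixingSubgroup G (s : Set α)
    have e : Nat.card (MulAction.stabilizer S w) =
        Nat.card (fixingSubgroup G ((insert w s : Finset α) : Set α)) := by
      refine Nat.card_congr
        { toFun := fun g => ⟨(g : G), ?_⟩
          invFun := fun g => ⟨⟨(g : G), ?_⟩, ?_⟩
          left_inv := fun g => rfl
          right_inv := fun g => rfl }
      · rw [mem_fixingSubgroup_iff]
        intro u hu
        simp only [Finset.coe_insert, Set.mem_insert_iff, Finset.mem_coe] at hu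
        rcases hu with rfl | hu
        · exact g.2
        · exact (mem_fixingSubgroup_iff G).1 g.1.2 u hu
      · rw [mem_fixingSubgroup_iff]
        intro u hu
        exact (mem_fixingSubgroup_iff G).1 g.2 u (by simp [Finset.mem_coe.1 hu])
      · exact (mem_fixingSubgroup_iff G).1 g.2 w (by simp)
    rw [← e, mul_comm, Nat.card_coe_set_eq, ← MulAction.index_stabilizer]
    exact (MulAction.stabilizer S w).card_mul_index
  have hm : 0 < m := by
    rcases Nat.eq_zero_or_pos m with h0 | h0
    · exfalso
      obtain ⟨s, -, hs⟩ := Finset.exists_subset_card_eq (s := (Finset.univ : Finset α)) (n := k)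
        (by rw [Finset.card_univ]; exact hkn)
      rw [h0] at hkm
      have := hkm s hs
      exact Nat.card_pos.ne' this
    · exact h0
  obtain ⟨w₀, hw₀⟩ : ∃ w, w ∈ (insert x t)ᶜ := by
    refine Finset.card_pos.1 ?_
    rw [Finset.card_compl, Finset.card_insert_of_notMem hx]; omega
  obtain ⟨d, hdl⟩ : m ∣ l :=
    ⟨_, (hsize (insert x t) (by rw [Finset.card_insert_of_notMem hx]; omega) w₀
      (Finset.mem_compl.1 hw₀)).symm.trans (mul_comm _ _)⟩
  have hd : ∀ (s : Finset α), s.card = k - 1 → ∀ w, w ∉ s →
      Nat.card (MulAction.orbit (fixingSubgroup G (s : Set α)) w) = d := by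
    intro s hs w hw
    have := hsize s hs w hw
    rw [hdl, mul_comm] at this
    exact Nat.eq_of_mul_eq_mul_left hm this
  have hd1 : d ≠ 1 := by
    intro h1
    obtain ⟨s, -, hs⟩ := Finset.exists_subset_card_eq (s := (Finset.univ : Finset α)) (n := k - 1)
      (by rw [Finset.card_univ]; omega)
    have hbot : fixingSubgroup G (s : Set α) = ⊥ := by
      rw [Subgroup.eq_bot_iff_forall]
      intro g hg
      refine Subtype.ext (Equiv.ext fun u => ?_)
      by_cases hu : u ∈ s
      · exact (mem_fixingSubgroup_iff G).1 hg u hu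
      · have h2 := hd s hs u hu
        rw [h1, Nat.card_eq_one_iff_unique] at h2
        exact congrArg Subtype.val (h2.1.elim ⟨g • u, MulAction.mem_orbit u (⟨g, hg⟩ : fixingSubgroup G (s : Set α))⟩
          ⟨u, MulAction.mem_orbit_self u⟩)
    have := hkm1 s hs
    rw [hbot, Subgroup.card_bot] at this
    omega
  by_contra hne
  -- d divides the size of each orbit, and one less
  have key : ∀ z w : α, z ∉ t → w ∉ t →
      d ∣ (Nat.card (MulAction.orbit F w) - if z ∈ MulAction.orbit F w then 1 else 0) := by
    intro z w hz hw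
    set S : Subgroup G := fixingSubgroup G ((insert z t : Finset α) : Set α) with hS
    have hSF : S ≤ F := by
      intro g hg
      rw [hF, mem_fixingSubgroup_iff]
      intro u hu
      exact (mem_fixingSubgroup_iff G).1 hg u (by simp [Finset.mem_coe.1 hu])
    have hnot : ∀ v ∈ MulAction.orbit F w, v ∉ t := by
      rintro v ⟨g, rfl⟩ hv
      have h1 := (mem_fixingSubgroup_iff G).1 (inv_mem g.2) _ hv
      apply hw
      have h2 : ((g : G)⁻¹) • (g • w) = w := inv_smul_smul (g : G) w
      rw [h1] at h2
      exact (h2 ▸ hv : w ∈ t)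
    let T : Finset α := Finset.univ.filter (fun v => v ∈ MulAction.orbit F w ∧ v ≠ z)
    have hT : T.card = Nat.card (MulAction.orbit F w) -
        if z ∈ MulAction.orbit F w then 1 else 0 := by
      have h0 : Nat.card (MulAction.orbit F w) =
          (Finset.univ.filter (fun v => v ∈ MulAction.orbit F w)).card := by
        rw [Nat.card_eq_fintype_card, Fintype.card_subtype]
      have h1 : T = (Finset.univ.filter (fun v => v ∈ MulAction.orbit F w)).erase z := by
        ext v; simp [T, and_comm]
      rw [h0, h1, Finset.card_erase_eq_ite]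
      simp only [Finset.mem_filter, Finset.mem_univ, true_and]
      split_ifs <;> omega
    rw [← hT]
    let f : α → Quotient (MulAction.orbitRel S α) := Quotient.mk''
    rw [Finset.card_eq_sum_card_image f T]
    refine Finset.dvd_sum fun q hq => ?_
    obtain ⟨v, hv, rfl⟩ := Finset.mem_image.1 hq
    simp only [T, Finset.mem_filter, Finset.mem_univ, true_and] at hv
    have hvs : v ∉ insert z t := by simp [hv.2, hnot _ hv.1]
    refine dvd_of_eq ?_
    rw [← hd (insert z t) (by rw [Finset.card_insert_of_notMem hz]; omega) v hvs,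
      Nat.card_eq_fintype_card, Fintype.card_subtype]
    congr 1
    ext u
    simp only [T, f, Finset.mem_filter, Finset.mem_univ, true_and, Quotient.eq'']
    constructor
    · rintro ⟨g, rfl⟩
      refine ⟨⟨?_, ?_⟩, ⟨g, rfl⟩⟩
      · obtain ⟨g', hg'⟩ := hv.1
        refine ⟨⟨g, hSF g.2⟩ * g', ?_⟩
        show (⟨(g : G), hSF g.2⟩ * g' : F) • w = _
        rw [mul_smul]
        exact congrArg ((g : G) • ·) hg'
      · intro h
        apply hvs
        have h1 := (mem_fixingSubgroup_iff G).1 (inv_mem g.2) z (by simp)
        have h2 : v = z := by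
          have h3 : ((g : G)⁻¹) • (g • v) = v := inv_smul_smul (g : G) v
          rw [show g • v = z from h, h1] at h3
          exact h3.symm
        simp [h2]
    · exact fun h => h.2
  have h1 := key x x hx hx
  rw [if_pos (MulAction.mem_orbit_self x)] at h1
  have h2 := key y x hy hx
  rw [if_neg hne, Nat.sub_zero] at h2
  have hpos : 0 < Nat.card (MulAction.orbit F x) := by
    have : Nonempty (MulAction.orbit F x) := ⟨⟨x, MulAction.mem_orbit_self x⟩⟩
    exact Nat.card_pos
  have h3 := Nat.dvd_sub h2 h1
  rw [Nat.sub_sub_self hpos] at h3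
  exact hd1 (Nat.dvd_one.1 h3)

end Cfsg.Agent.S0744
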