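import Cfsg.Statements.S0739
import Cfsg.Agent.CharactersDeep.Zassenhaus
import Cfsg.Agent.Lib.Characters.Frobenius
import Cfsg.Agent.Lib.Coprime.FixedPointFree
import Cfsg.Agent.Lib.Perm.HomogTrans
import Cfsg.Agent.S0740

set_option autoImplicit false
open Cfsg

namespace Cfsg.Agent.S0739


/-- An involutive automorphism of a cyclic group of odd prime power order is the identity or inversion. -/
theorem invert_or_fix {Q : Type*} [Group Q] [IsCyclic Q] {q : ℕ} [hq : Fact q.Prime] (hq2 : q ≠ 2)
    (hQ : IsPGroup q Q) [Finite Q] (α : Q →* Q) (hα : ∀ x, α (α x) = x) :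
    (∀ x, α x = x) ∨ ∀ x, α x = x⁻¹ := by
  obtain ⟨y, hy⟩ := IsCyclic.exists_generator (α := Q)
  obtain ⟨m, hm⟩ := Subgroup.mem_zpowers_iff.1 (hy (α y))
  have hmm : y ^ (m * m - 1) = 1 := by
    have h := hα y
    rw [← hm, map_zpow, ← hm, ← zpow_mul] at h
    rw [zpow_sub, h, zpow_one, mul_inv_cancel]
  obtain ⟨j, hj⟩ := IsPGroup.iff_orderOf.1 hQ y
  have hdvd : ((q : ℤ) ^ j) ∣ (m - 1) * (m + 1) := by
    have := orderOf_dvd_iff_zpow_eq_one.2 hmm
    rw [hj] at this
    push_cast at this
    rwa [show (m - 1) * (m + 1) = m * m - 1 by ring]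
  have hqp : Prime (q : ℤ) := Nat.prime_iff_prime_int.1 hq.out
  have hcases : ((q : ℤ) ^ j) ∣ m - 1 ∨ ((q : ℤ) ^ j) ∣ m + 1 := by
    by_cases h1 : (q : ℤ) ∣ m - 1
    · left
      refine hqp.pow_dvd_of_dvd_mul_right j (fun h2 => ?_) hdvd
      have h3 : (q : ℤ) ∣ 2 := by
        have := dvd_sub h2 h1
        rwa [show m + 1 - (m - 1) = 2 by ring] at this
      have h4 : q ∣ 2 := by exact_mod_cast h3
      exact hq2 ((Nat.prime_dvd_prime_iff_eq hq.out Nat.prime_two).1 h4)
    · exact Or.inr (hqp.pow_dvd_of_dvd_mul_left j h1 hdvd)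
  have hgen : ∀ x : Q, ∃ i : ℤ, y ^ i = x := fun x => Subgroup.mem_zpowers_iff.1 (hy x)
  rcases hcases with h | h
  · left
    intro x
    obtain ⟨i, rfl⟩ := hgen x
    have : y ^ (m - 1) = 1 := by
      rw [← orderOf_dvd_iff_zpow_eq_one, hj]; exact_mod_cast h
    rw [zpow_sub, zpow_one, mul_inv_eq_one] at this
    rw [map_zpow, ← hm, this]
  · right
    intro x
    obtain ⟨i, rfl⟩ := hgen x
    have : y ^ (m + 1) = 1 := by
      rw [← orderOf_dvd_iff_zpow_eq_one, hj]; exact_mod_cast h
    rw [zpow_add, zpow_one, mul_eq_one_iff_eq_inv] at this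
    rw [map_zpow, ← hm, this, inv_zpow]

open scoped Pointwise in
/-- Two-point stabilisers of odd order in a finite Zassenhaus group are Z-groups. -/
theorem isZGroup {G Ω : Type*} [Group G] [Finite G] [MulAction G Ω] [Fintype Ω]
    (hZ : Cfsg.IsZassenhausGroup G Ω) {a b : Ω} (hab : a ≠ b)
    (hodd : Odd (Nat.card ↥(MulAction.stabilizer G a ⊓ MulAction.stabilizer G b))) :
    IsZGroup ↥(MulAction.stabilizer G a ⊓ MulAction.stabilizer G b) := by
  classical
  set D := MulAction.stabilizer G a ⊓ MulAction.stabilizer G b with hD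
  set S := MulAction.stabilizer G a with hS
  have hDS : D ≤ S := inf_le_left
  set H := D.subgroupOf S with hHdef
  have hHmem : ∀ x : S, x ∈ H ↔ (x : G) • b = b := fun x => by
    rw [hHdef, Subgroup.mem_subgroupOf, hD, Subgroup.mem_inf, MulAction.mem_stabilizer_iff,
      MulAction.mem_stabilizer_iff]
    exact ⟨fun h => h.2, fun h => ⟨x.2, h⟩⟩
  have hne : H ≠ ⊥ := by
    rw [hHdef, Ne, Subgroup.subgroupOf_eq_bot]
    intro h
    exact CharactersDeep.Zassenhaus.two_point_ne_bot hZ hab (disjoint_self.1 (h.mono_right hDS))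
  obtain ⟨c, hca, hcb⟩ : ∃ c : Ω, c ≠ a ∧ c ≠ b := by
    have h3 := CharactersDeep.Zassenhaus.three_le_card hZ
    by_contra! hall
    have hsub : (Finset.univ : Finset Ω) ⊆ {a, b} := fun z _ => by
      simp only [Finset.mem_insert, Finset.mem_singleton]
      by_cases hza : z = a
      · exact Or.inl hza
      · exact Or.inr (hall z hza)
    have := (Finset.card_le_card hsub).trans Finset.card_le_two
    rw [Finset.card_univ] at this
    omega
  have hfc : Cfsg.IsFrobeniusComplement H := by
    refine ⟨hne, fun htop => ?_, fun g hg => ?_⟩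
    · obtain ⟨x, hxa, hxb⟩ := CharactersDeep.Zassenhaus.two_trans hZ hab hca.symm
      have h : (⟨x, hxa⟩ : S) ∈ H := htop ▸ Subgroup.mem_top _
      exact hcb (hxb.symm.trans ((hHmem _).1 h))
    · rw [Subgroup.eq_bot_iff_forall]
      rintro z ⟨hz1, hz2⟩
      replace hz1 := (hHmem z).1 hz1
      replace hz2 : z ∈ MulAut.conj g • H := hz2
      rw [Subgroup.mem_pointwise_smul_iff_inv_smul_mem, hHmem] at hz2
      have hz3 : (z : G) • ((g : G) • b) = (g : G) • b := by
        have h' : ((g : G)⁻¹ * z * g) • b = b := by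
          simpa [MulAut.smul_def] using hz2
        rwa [mul_smul, mul_smul, inv_smul_eq_iff] at h'
      apply Subtype.ext
      refine CharactersDeep.Zassenhaus.eq_one_of_fix_three hZ hab (c := (g : G) • b) ?_ ?_ z.2 hz1 hz3
      · exact fun h => hg ((hHmem g).2 h.symm)
      · intro h
        exact hab (MulAction.injective (g : G) (g.2.trans h))
  obtain ⟨N, -, hNn, hcompl⟩ := Cfsg.Agent.Characters.frobenius_kernel_theorem hfc
  haveI := hNn
  have hNne : N ≠ ⊥ := by
    intro h
    rw [h, Subgroup.isComplement'_bot_left] at hcompl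
    exact hfc.2.1 hcompl
  have hfpf : ∀ h ∈ H, h ≠ 1 → N ⊓ Subgroup.centralizer {h} = ⊥ := by
    intro h hh h1
    rw [Subgroup.eq_bot_iff_forall]
    rintro n ⟨hn, hnc⟩
    have hcomm : n * h = h * n := Subgroup.mem_centralizer_singleton_iff.1 hnc
    have hnb : (n : G) • b = b := by
      by_contra hnb
      apply h1
      apply Subtype.ext
      have hb := (hHmem h).1 hh
      refine CharactersDeep.Zassenhaus.eq_one_of_fix_three hZ hab (c := (n : G) • b)
        (Ne.symm hnb) ?_ h.2 hb ?_
      · intro e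
        exact hab (MulAction.injective (n : G) (n.2.trans e))
      · rw [← mul_smul, ← Subgroup.coe_mul, ← hcomm, Subgroup.coe_mul, mul_smul, hb]
    exact Subgroup.disjoint_def.1 hcompl.disjoint hn ((hHmem n).2 hnb)
  have hHc : Nat.card H = Nat.card D := Nat.card_congr (Subgroup.subgroupOfEquivOfLe hDS).toEquiv
  have hZH : IsZGroup H := ⟨fun p hp P => by
    haveI := Fact.mk hp
    have hPH : (P : Subgroup H).map H.subtype ≤ H := Subgroup.map_subtype_le _
    have hnorm : (P : Subgroup H).map H.subtype ≤ Subgroup.normalizer (N : Set S) := by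
      rw [Subgroup.normalizer_eq_top_iff.2 hNn]; exact le_top
    rcases Coprime.fpf_isCyclic_or_quaternion (P.isPGroup'.map H.subtype) hnorm
      (fun x hx hx1 => hfpf x (hPH hx) hx1) hNne with h | ⟨h2, -⟩
    · exact (MulEquiv.isCyclic ((P : Subgroup H).equivMapOfInjective _ H.subtype_injective)).mpr h
    · subst h2
      obtain ⟨j, hj⟩ := P.isPGroup'.exists_card_eq
      rcases Nat.eq_zero_or_pos j with rfl | hj0
      · haveI : Subsingleton (P : Subgroup H) := (Nat.card_eq_one_iff_unique.mp (by simpa using hj)).1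
        exact isCyclic_of_subsingleton
      · have h2d : 2 ∣ Nat.card D := hHc ▸
          (dvd_pow_self 2 hj0.ne').trans (hj ▸ Subgroup.card_subgroup_dvd_card (P : Subgroup H))
        exact absurd (even_iff_two_dvd.2 h2d) (Nat.not_even_iff_odd.2 hodd)⟩
  haveI := hZH
  exact IsZGroup.of_injective (f := (Subgroup.subgroupOfEquivOfLe hDS).symm.toMonoidHom)
    (Subgroup.subgroupOfEquivOfLe hDS).symm.injective

/-- In a finite Zassenhaus group whose two-point stabiliser `H = G_{a,b}` has odd order `d`, and which has no normal `q`-complement for any prime `q ∣ d`, `H` is cyclic, `C_G(H) = H`, and every element swapping `a` and `b` inverts each element of `H`. -/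
theorem result {G Ω : Type*} [Group G] [Finite G] [MulAction G Ω] [Fintype Ω] (hZ : Cfsg.IsZassenhausGroup G Ω) {a b : Ω} (hab : a ≠ b) (hodd : Odd (Nat.card ↥(MulAction.stabilizer G a ⊓ MulAction.stabilizer G b))) (hnil : ∀ q : ℕ, q.Prime → q ∣ Nat.card ↥(MulAction.stabilizer G a ⊓ MulAction.stabilizer G b) → ¬ ∃ N : Subgroup G, N.Normal ∧ N.index = q ^ (Nat.card G).factorization q) : IsCyclic ↥(MulAction.stabilizer G a ⊓ MulAction.stabilizer G b) ∧ Subgroup.centralizer ((MulAction.stabilizer G a ⊓ MulAction.stabilizer G b : Subgroup G) : Set G) = MulAction.stabilizer G a ⊓ MulAction.stabilizer G b ∧ ∀ s : G, s • a = b → s • b = a → ∀ h ∈ MulAction.stabilizer G a ⊓ MulAction.stabilizer G b, s * h * s⁻¹ = h⁻¹ := by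
  classical
  haveI hzg := isZGroup hZ hab hodd
  set D := MulAction.stabilizer G a ⊓ MulAction.stabilizer G b with hDdef
  obtain ⟨⟨s, hs2, hsa, hsb⟩, -, -⟩ := S0740.result hZ hab
  have hDmem : ∀ x : G, x ∈ D ↔ x • a = a ∧ x • b = b := fun x => Iff.rfl
  have hnormswap : ∀ g : G, g • a = b → g • b = a → ∀ x ∈ D, g * x * g⁻¹ ∈ D := fun g h1 h2 x hx =>
    (Subgroup.mem_normalizer_iff.1
      ((CharactersDeep.Zassenhaus.mem_normalizer_two_point hZ hab g).2 (Or.inr ⟨h1, h2⟩)) x).1 hx
  have hswapmul : ∀ g : G, g • a = b → g • b = a → s⁻¹ * g ∈ D := fun g h1 h2 =>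
    ⟨by show (s⁻¹ * g) • a = a
        rw [mul_smul, h1, inv_smul_eq_iff, hsa],
     by show (s⁻¹ * g) • b = b
        rw [mul_smul, h2, inv_smul_eq_iff, hsb]⟩
  -- conjugation by the swapping involution
  let σ : D →* D :=
    { toFun := fun x => ⟨s * (x : G) * s⁻¹, hnormswap s hsa hsb x x.2⟩
      map_one' := Subtype.ext (by simp)
      map_mul' := fun x y => Subtype.ext (by push_cast; group) }
  have hσval : ∀ x : D, ((σ x : D) : G) = s * (x : G) * s⁻¹ := fun x => rfl
  set C := commutator D with hCdef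
  have hcop := IsZGroup.coprime_commutator_index D
  haveI hCcyc : IsCyclic C := IsZGroup.isCyclic_commutator D
  have hσC : ∀ c ∈ C, σ c ∈ C := by
    have hle : C ≤ C.comap σ := by
      rw [← Subgroup.map_le_iff_le_comap, hCdef, commutator_def, Subgroup.map_commutator]
      exact Subgroup.commutator_mono le_top le_top
    exact fun c hc => hle hc
  have hDpos : 0 < Nat.card D := Nat.card_pos
  -- the inversion modulo the commutator
  have key : ∀ q : ℕ, q.Prime → q ∣ Nat.card D → ¬ q ∣ Nat.card C → ∀ Q : Sylow q D,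
      ∀ y ∈ (Q : Subgroup D), σ y * y ∈ C := by
    intro q hq hqd hqC Q
    haveI := Fact.mk hq
    have hq2 : q ≠ 2 := by
      rintro rfl
      exact Nat.not_even_iff_odd.2 hodd (even_iff_two_dvd.2 hqd)
    set QG := (Q : Subgroup D).map D.subtype with hQG
    have hQGc : Nat.card QG = Nat.card (Q : Subgroup D) :=
      Subgroup.card_map_of_injective D.subtype_injective
    -- `Q` is a Sylow subgroup of `G`
    have hidx : ¬ q ∣ D.index := by
      obtain ⟨h0, hh0⟩ := exists_prime_orderOf_dvd_card' (G := D) q hqd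
      have hh1 : (h0 : G) ≠ 1 := by
        intro h
        have : h0 = 1 := Subtype.ext h
        rw [this, orderOf_one] at hh0
        exact hq.one_lt.ne hh0
      have hp : IsPGroup q (Subgroup.zpowers (h0 : G)) :=
        IsPGroup.of_card (n := 1) (by rw [Nat.card_zpowers, Subgroup.orderOf_coe, hh0, pow_one])
      have hmod := hp.card_modEq_card_fixedPoints Ω
      have hfix : MulAction.fixedPoints (Subgroup.zpowers (h0 : G)) Ω = ({a, b} : Set Ω) := by
        ext x
        constructor
        · intro hx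
          by_contra hne
          simp only [Set.mem_insert_iff, Set.mem_singleton_iff, not_or] at hne
          exact hh1 (CharactersDeep.Zassenhaus.eq_one_of_fix_three hZ hab (Ne.symm hne.2)
            (Ne.symm hne.1) h0.2.1 h0.2.2 (hx ⟨_, Subgroup.mem_zpowers _⟩))
        · intro hx
          rintro ⟨k, hk⟩
          obtain ⟨j, rfl⟩ := Subgroup.mem_zpowers_iff.1 hk
          refine MulAction.fixedBy_subset_fixedBy_zpow Ω (h0 : G) j ?_
          rcases hx with rfl | rfl
          · exact h0.2.1
          · exact h0.2.2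
      rw [hfix, Nat.card_coe_set_eq, Set.ncard_pair hab, Nat.card_eq_fintype_card] at hmod
      let z : Fin 2 ↪ Ω := ⟨![a, b], by
        intro i j hij
        fin_cases i <;> fin_cases j <;> simp [hab, Ne.symm hab] at hij ⊢⟩
      have hcard := Perm.HomogTrans.card_tuple (H := G) 2 hZ.2.1 z
      have hstab : MulAction.stabilizer G z = D := by
        ext g
        rw [MulAction.mem_stabilizer_iff, hDmem]
        constructor
        · exact fun h => ⟨DFunLike.congr_fun h 0, DFunLike.congr_fun h 1⟩
        · rintro ⟨h1, h2⟩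
          refine DFunLike.ext _ _ fun i => ?_
          show g • z i = z i
          fin_cases i
          · exact h1
          · exact h2
      rw [hstab, ← D.index_mul_card] at hcard
      rw [← Nat.eq_of_mul_eq_mul_right hDpos hcard]
      intro hd
      have hn3 := CharactersDeep.Zassenhaus.three_le_card hZ
      have hmod' : Fintype.card Ω ≡ 2 [MOD q] := hmod
      have hdf : (Fintype.card Ω).descFactorial 2 = Fintype.card Ω * (Fintype.card Ω - 1) := by
        rw [Nat.descFactorial_succ, Nat.descFactorial_one, mul_comm]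
      rw [hdf] at hd
      have hq3 : 3 ≤ q := by have := hq.two_le; omega
      rcases hq.dvd_mul.1 hd with h | h
      · have := (Nat.modEq_zero_iff_dvd.2 h).symm.trans hmod'
        unfold Nat.ModEq at this
        rw [Nat.zero_mod, Nat.mod_eq_of_lt (by omega : 2 < q)] at this
        omega
      · have h1 : Fintype.card Ω ≡ 1 [MOD q] := by
          have := (Nat.modEq_zero_iff_dvd.2 h).add_right 1
          rwa [Nat.sub_add_cancel (by omega), zero_add] at this
        have := h1.symm.trans hmod'
        unfold Nat.ModEq at this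
        rw [Nat.mod_eq_of_lt (by omega : 1 < q), Nat.mod_eq_of_lt (by omega : 2 < q)] at this
        omega
    have hQGidx : ¬ q ∣ QG.index := by
      rw [hQG, Subgroup.index_map_subtype]
      intro h
      rcases hq.dvd_mul.1 h with h | h
      · exact Q.not_dvd_index h
      · exact hidx h
    let P : Sylow q G := (Q.isPGroup'.map D.subtype).toSylow hQGidx
    have hP : (P : Subgroup G) = QG := IsPGroup.toSylow_coe _ _
    have hQne : (Q : Subgroup D) ≠ ⊥ := Q.ne_bot_of_dvd_card hqd
    -- some element normalises but does not centralise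
    obtain ⟨g, hgN, hgC⟩ : ∃ g, g ∈ Subgroup.normalizer (QG : Set G) ∧
        g ∉ Subgroup.centralizer (QG : Set G) := by
      by_contra! h
      have hle : Subgroup.normalizer ((P : Subgroup G) : Set G) ≤
          Subgroup.centralizer ((P : Subgroup G) : Set G) := by
        rw [hP]; exact fun g hg => h g hg
      refine hnil q hq hqd ⟨(MonoidHom.transferSylow P hle).ker, inferInstance, ?_⟩
      have hc := (MonoidHom.ker_transferSylow_isComplement' P hle).symm.index_eq_card
      rw [hc, P.card_eq_multiplicity]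
    -- inside `D` the normaliser centralises `Q`
    have hQC : ∀ z ∈ (Q : Subgroup D), z ∈ C → z = 1 := by
      intro z hz hzC
      by_contra hz1
      apply hqC
      obtain ⟨j, hj⟩ := IsPGroup.iff_orderOf.1 Q.isPGroup' ⟨z, hz⟩
      rw [Subgroup.orderOf_mk] at hj
      have hj0 : j ≠ 0 := by rintro rfl; exact hz1 (orderOf_eq_one_iff.1 (by simpa using hj))
      have h1 := orderOf_dvd_natCard (G := C) ⟨z, hzC⟩
      rw [Subgroup.orderOf_mk, hj] at h1
      exact (dvd_pow_self q hj0).trans h1
    have hQGmem : ∀ {x : G}, x ∈ QG ↔ ∃ y : D, y ∈ (Q : Subgroup D) ∧ (y : G) = x := fun {x} =>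
      ⟨fun ⟨y, h1, h2⟩ => ⟨y, h1, h2⟩, fun ⟨y, h1, h2⟩ => ⟨y, h1, h2⟩⟩
    have hinD : ∀ x : D, (x : G) ∈ Subgroup.normalizer (QG : Set G) →
        ∀ y ∈ (Q : Subgroup D), x * y = y * x := by
      intro x hx y hy
      obtain ⟨y', hy', hy'eq⟩ := hQGmem.1
        ((Subgroup.mem_normalizer_iff.1 hx (y : G)).1 (hQGmem.2 ⟨y, hy, rfl⟩))
      have he : x * y * x⁻¹ = y' := Subtype.ext (by rw [hy'eq]; rfl)
      have h1 : x * y * x⁻¹ * y⁻¹ = 1 := by
        refine hQC _ ?_ (Subgroup.commutator_mem_commutator (Subgroup.mem_top x) (Subgroup.mem_top y))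
        rw [he]
        exact mul_mem hy' (inv_mem hy)
      rwa [mul_inv_eq_one, mul_inv_eq_iff_eq_mul] at h1
    have hgab : g • a = b ∧ g • b = a := by
      obtain ⟨z, hz, hz1⟩ := (Q : Subgroup D).bot_or_exists_ne_one.resolve_left hQne
      have hzG : (z : G) ∈ QG := hQGmem.2 ⟨z, hz, rfl⟩
      obtain ⟨z', -, hz'eq⟩ := hQGmem.1 ((Subgroup.mem_normalizer_iff.1 hgN _).1 hzG)
      have hmem : g * z * g⁻¹ ∈ D := hz'eq ▸ z'.2
      rcases CharactersDeep.Zassenhaus.two_point_TI hZ hab z.2.1 z.2.2 hmem.1 hmem.2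
        (fun h => hz1 (Subtype.ext h)) with h | h
      · exfalso
        apply hgC
        rw [Subgroup.mem_centralizer_iff]
        intro w hw
        obtain ⟨w', hw', rfl⟩ := hQGmem.1 hw
        have := congrArg (fun t : D => (t : G)) (hinD ⟨g, h⟩ hgN w' hw')
        simpa using this.symm
      · exact h
    have hgQ : ∀ y : (Q : Subgroup D), (⟨g * ((y : D) : G) * g⁻¹, hnormswap g hgab.1 hgab.2 _ (y : D).2⟩ : D)
        ∈ (Q : Subgroup D) := by
      intro y
      obtain ⟨y', hy', he⟩ := hQGmem.1
        ((Subgroup.mem_normalizer_iff.1 hgN _).1 (hQGmem.2 ⟨(y : D), y.2, rfl⟩))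
      convert hy' using 1
      exact Subtype.ext he.symm
    let α : (Q : Subgroup D) →* (Q : Subgroup D) :=
      { toFun := fun y => ⟨_, hgQ y⟩
        map_one' := Subtype.ext (Subtype.ext (by simp))
        map_mul' := fun y z => Subtype.ext (Subtype.ext (by push_cast; group)) }
    have hαval : ∀ y, (((α y : (Q : Subgroup D)) : D) : G) = g * ((y : D) : G) * g⁻¹ := fun y => rfl
    have hg2 : (g * g) ∈ D := ⟨by show (g * g) • a = a; rw [mul_smul, hgab.1, hgab.2],
      by show (g * g) • b = b; rw [mul_smul, hgab.2, hgab.1]⟩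
    have hαα : ∀ y, α (α y) = y := by
      intro y
      refine Subtype.ext (Subtype.ext ?_)
      rw [hαval, hαval]
      have := congrArg (fun t : D => (t : G)) (hinD ⟨g * g, hg2⟩
        ((Subgroup.normalizer (QG : Set G)).mul_mem hgN hgN) _ y.2)
      simp only [Subgroup.coe_mul] at this
      calc g * (g * ((y : D) : G) * g⁻¹) * g⁻¹ = (g * g * ((y : D) : G)) * (g * g)⁻¹ := by group
        _ = _ := by rw [this, mul_inv_cancel_right]
    have hQcyc : IsCyclic (Q : Subgroup D) := inferInstance
    rcases invert_or_fix hq2 Q.isPGroup' α hαα with hid | hinv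
    · exfalso
      apply hgC
      rw [Subgroup.mem_centralizer_iff]
      intro w hw
      obtain ⟨w', hw', rfl⟩ := hQGmem.1 hw
      have := congrArg (fun t : (Q : Subgroup D) => ((t : D) : G)) (hid ⟨w', hw'⟩)
      rw [hαval] at this
      exact (mul_inv_eq_iff_eq_mul.1 this).symm
    · intro y hy
      set h : D := ⟨s⁻¹ * g, hswapmul g hgab.1 hgab.2⟩ with hh
      have h1 : σ (h * y * h⁻¹) * y = 1 := by
        refine Subtype.ext ?_
        have e := congrArg (fun t : (Q : Subgroup D) => ((t : D) : G)) (hinv ⟨y, hy⟩)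
        rw [hαval] at e
        rw [Subgroup.coe_mul, hσval, Subgroup.coe_one, mul_eq_one_iff_eq_inv]
        calc s * ((h * y * h⁻¹ : D) : G) * s⁻¹ = g * (y : G) * g⁻¹ := by
              simp only [hh, Subgroup.coe_mul, Subgroup.coe_inv]; group
          _ = _ := by rw [e]; rfl
      have h2 : σ (h * y * h⁻¹ * y⁻¹) ∈ C :=
        hσC _ (Subgroup.commutator_mem_commutator (Subgroup.mem_top h) (Subgroup.mem_top y))
      have h3 : σ (h * y * h⁻¹ * y⁻¹) = (σ y * y)⁻¹ := by
        rw [MonoidHom.map_mul σ (h * y * h⁻¹) y⁻¹, map_inv, mul_eq_one_iff_eq_inv.1 h1, mul_inv_rev]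
      rw [h3, inv_mem_iff] at h2
      exact h2
  -- inversion of the abelianisation
  haveI : C.Normal := inferInstance
  have hinvmod : ∀ x : D, σ x * x ∈ C := by
    let π : D →* D ⧸ C := QuotientGroup.mk' C
    have hcomm : ∀ x y : D ⧸ C, x * y = y * x := by
      intro x y
      obtain ⟨x, rfl⟩ := QuotientGroup.mk'_surjective C x
      obtain ⟨y, rfl⟩ := QuotientGroup.mk'_surjective C y
      rw [← map_mul, ← map_mul]
      apply QuotientGroup.eq.2
      have h := Subgroup.commutator_mem_commutator (Subgroup.mem_top y⁻¹) (Subgroup.mem_top x⁻¹)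
      rw [hCdef, commutator_def]
      convert h using 1
      rw [commutatorElement_def]
      group
    let M : Subgroup D :=
      { carrier := {x | σ x * x ∈ C}
        one_mem' := by
          show σ 1 * 1 ∈ C
          rw [map_one, one_mul]; exact C.one_mem
        mul_mem' := fun {x y} hx hy => by
          show σ (x * y) * (x * y) ∈ C
          have hx' : π (σ x) * π x = 1 := by rw [← map_mul]; exact (QuotientGroup.eq_one_iff _).2 hx
          have hy' : π (σ y) * π y = 1 := by rw [← map_mul]; exact (QuotientGroup.eq_one_iff _).2 hy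
          refine (QuotientGroup.eq_one_iff _).1 ?_
          show π (σ (x * y) * (x * y)) = 1
          rw [map_mul π, map_mul σ, map_mul π, map_mul π,
            show π (σ x) * π (σ y) * (π x * π y) = (π (σ x) * π x) * (π (σ y) * π y) by
              rw [mul_assoc (π (σ x)) (π (σ y)), ← mul_assoc (π (σ y)) (π x), hcomm (π (σ y)) (π x)]
              group,
            hx', hy', one_mul]
        inv_mem' := fun {x} hx => by
          show σ x⁻¹ * x⁻¹ ∈ C
          have hx' : π (σ x) * π x = 1 := by rw [← map_mul]; exact (QuotientGroup.eq_one_iff _).2 hx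
          refine (QuotientGroup.eq_one_iff _).1 ?_
          show π (σ x⁻¹ * x⁻¹) = 1
          rw [map_inv σ, map_mul π, map_inv π, map_inv π, ← mul_inv_rev, hcomm, hx', inv_one] }
    intro x
    suffices h : M = ⊤ from (h ▸ Subgroup.mem_top x : x ∈ M)
    have hCM : C ≤ M := fun c hc => by
      show σ c * c ∈ C
      exact C.mul_mem (hσC c hc) hc
    refine Subgroup.eq_top_of_card_eq M (Nat.dvd_antisymm (Subgroup.card_subgroup_dvd_card M) ?_)
    rw [Nat.dvd_iff_prime_pow_dvd_dvd]
    intro q e hq hqe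
    rcases Nat.eq_zero_or_pos e with rfl | he
    · simp
    have hqd : q ∣ Nat.card D := (dvd_pow_self q he.ne').trans hqe
    haveI := Fact.mk hq
    by_cases hqC : q ∣ Nat.card C
    · have hqi : ¬ q ∣ C.index := fun h => Nat.not_coprime_of_dvd_of_dvd hq.one_lt hqC h hcop
      rw [← C.card_mul_index] at hqe
      exact ((Nat.Coprime.pow_left e ((hq.coprime_iff_not_dvd).2 hqi)).dvd_of_dvd_mul_right hqe).trans
        (Subgroup.card_dvd_of_le hCM)
    · obtain ⟨Q⟩ : Nonempty (Sylow q D) := inferInstance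
      refine (Q.pow_dvd_card_of_pow_dvd_card hqe).trans (Subgroup.card_dvd_of_le ?_)
      exact fun y hy => key q hq hqd hqC Q y hy
  -- the commutator is central
  have hcentral : C ≤ Subgroup.center D := by
    obtain ⟨c0, hc0⟩ := IsCyclic.exists_generator (α := C)
    have hgen : ∀ c ∈ C, ∃ i : ℤ, (c0 : D) ^ i = c := by
      intro c hc
      obtain ⟨i, hi⟩ := Subgroup.mem_zpowers_iff.1 (hc0 ⟨c, hc⟩)
      exact ⟨i, by rw [← SubgroupClass.coe_zpow, hi]⟩
    have hcommC : ∀ c ∈ C, ∀ d ∈ C, c * d = d * c := by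
      intro c hc d hd
      obtain ⟨i, rfl⟩ := hgen c hc
      obtain ⟨j, rfl⟩ := hgen d hd
      rw [← zpow_add, ← zpow_add, add_comm]
    have hx2 : ∀ x : D, (x * x) * (c0 : D) = (c0 : D) * (x * x) := by
      intro x
      obtain ⟨m, hm⟩ := hgen (x * c0 * x⁻¹) (‹C.Normal›.conj_mem _ c0.2 x)
      obtain ⟨r, hr⟩ := hgen (σ c0) (hσC _ c0.2)
      -- conjugation by `σ x` agrees with conjugation by `x` on `c0`
      have h1 : σ x * c0 * (σ x)⁻¹ = (c0 : D) ^ m := by
        have hσσ : ∀ z, σ (σ z) = z := fun z => Subtype.ext (by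
          rw [hσval, hσval]
          have hss : s * s = 1 := by rw [← pow_two, ← hs2, pow_orderOf_eq_one]
          calc s * (s * (z : G) * s⁻¹) * s⁻¹ = (s * s) * (z : G) * (s * s)⁻¹ := by group
            _ = _ := by rw [hss, one_mul, inv_one, mul_one])
        have h2 : (c0 : D) = σ ((c0 : D) ^ r) := by rw [hr, hσσ]
        have h3 : x * (c0 : D) ^ r * x⁻¹ = ((c0 : D) ^ m) ^ r := by rw [hm, conj_zpow]
        calc σ x * c0 * (σ x)⁻¹ = σ (x * (c0 : D) ^ r * x⁻¹) := by
              conv_lhs => rw [h2]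
              rw [map_mul σ, map_mul σ, map_inv σ]
          _ = σ (((c0 : D) ^ r) ^ m) := by rw [h3, ← zpow_mul, ← zpow_mul, mul_comm]
          _ = (c0 : D) ^ m := by rw [map_zpow, ← h2]
      set c := σ x * x with hc
      have hcC : c ∈ C := hinvmod x
      have h4 : x⁻¹ * c0 * x = (c0 : D) ^ m := by
        have hσx : σ x = c * x⁻¹ := by rw [hc, mul_inv_cancel_right]
        rw [hσx] at h1
        have h5 : x⁻¹ * c0 * x ∈ C := by
          have := ‹C.Normal›.conj_mem _ c0.2 x⁻¹
          rwa [inv_inv] at this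
        have h6 : c * (x⁻¹ * c0 * x) * c⁻¹ = x⁻¹ * c0 * x := by
          rw [hcommC c hcC _ h5, mul_inv_cancel_right]
        rw [← h6, ← h1]
        group
      have h7 : x⁻¹ * c0 * x = x * c0 * x⁻¹ := h4.trans hm
      calc x * x * c0 = x * (x * c0 * x⁻¹) * x := by group
        _ = x * (x⁻¹ * c0 * x) * x := by rw [h7]
        _ = _ := by group
    intro c hc
    obtain ⟨i, rfl⟩ := hgen c hc
    refine zpow_mem (Subgroup.mem_center_iff.2 fun x => ?_) i
    obtain ⟨j, hj⟩ : Odd (orderOf x) := Odd.of_dvd_nat hodd (orderOf_dvd_natCard x)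
    have hx : (x * x) ^ (j + 1) = x := by
      rw [← pow_two, ← pow_mul, show 2 * (j + 1) = orderOf x + 1 by omega, pow_succ,
        pow_orderOf_eq_one, one_mul]
    have h8 : Commute ((x * x) ^ (j + 1)) (c0 : D) :=
      Commute.pow_left (show Commute (x * x) (c0 : D) from hx2 x) (j + 1)
    rw [hx] at h8
    exact h8.eq
  have habel : ∀ x y : D, x * y = y * x := by
    haveI : IsCyclic (D ⧸ C) := IsZGroup.isCyclic_abelianization (G := D)
    exact commutative_of_cyclic_center_quotient (QuotientGroup.mk' C)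
      (by rw [QuotientGroup.ker_mk']; exact hcentral)
  have hCbot : C = ⊥ := by
    rw [eq_bot_iff, hCdef, commutator_def, Subgroup.commutator_le]
    intro x _ y _
    rw [Subgroup.mem_bot, commutatorElement_eq_one_iff_mul_comm]
    exact habel x y
  have hcyc : IsCyclic D := by
    haveI : IsCyclic (D ⧸ C) := IsZGroup.isCyclic_abelianization (G := D)
    exact isCyclic_of_injective (QuotientGroup.mk' C)
      ((MonoidHom.ker_eq_bot_iff _).1 (by rw [QuotientGroup.ker_mk', hCbot]))
  have hinvert : ∀ g : G, g • a = b → g • b = a → ∀ h ∈ D, g * h * g⁻¹ = h⁻¹ := by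
    intro g h1 h2 h hh
    have h3 := hinvmod ⟨h, hh⟩
    rw [hCbot, Subgroup.mem_bot, mul_eq_one_iff_eq_inv] at h3
    have h4 := congrArg (fun t : D => (t : G)) (habel ⟨_, hswapmul g h1 h2⟩ ⟨h, hh⟩)
    simp only [Subgroup.coe_mul] at h4
    have h5 := congrArg (fun t : D => (t : G)) h3
    rw [hσval] at h5
    calc g * h * g⁻¹ = s * ((s⁻¹ * g) * h * (s⁻¹ * g)⁻¹) * s⁻¹ := by group
      _ = s * h * s⁻¹ := by rw [h4, mul_inv_cancel_right]
      _ = h⁻¹ := h5
  refine ⟨hcyc, ?_, hinvert⟩
  apply le_antisymm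
  · intro g hg
    obtain ⟨x, hx, hx1⟩ := D.bot_or_exists_ne_one.resolve_left
      (CharactersDeep.Zassenhaus.two_point_ne_bot hZ hab)
    have hgx : g * x * g⁻¹ = x := by
      rw [← Subgroup.mem_centralizer_iff.1 hg x hx, mul_inv_cancel_right]
    rcases CharactersDeep.Zassenhaus.two_point_TI hZ hab hx.1 hx.2 (by rw [hgx]; exact hx.1)
      (by rw [hgx]; exact hx.2) hx1 with h | h
    · exact h
    · exfalso
      apply hx1
      have h5 := hinvert g h.1 h.2 x hx
      rw [hgx] at h5
      have h6 : x ^ 2 = 1 := by rw [pow_two, mul_eq_one_iff_eq_inv]; exact h5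
      have h7 : orderOf x ∣ Nat.card D := Subgroup.orderOf_mk x hx ▸ orderOf_dvd_natCard _
      have h8 := Nat.dvd_gcd (orderOf_dvd_of_pow_eq_one h6) h7
      rw [Nat.coprime_two_left.2 hodd, Nat.dvd_one] at h8
      exact orderOf_eq_one_iff.1 h8
  · intro x hx
    rw [Subgroup.mem_centralizer_iff]
    intro y hy
    exact congrArg Subtype.val (habel ⟨y, hy⟩ ⟨x, hx⟩)

end Cfsg.Agent.S0739
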