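import Cfsg.Statements.S0741
import Cfsg.Agent.CharactersDeep.Zassenhaus
import Cfsg.Agent.Lib.Perm.AltSet

set_option autoImplicit false
open Cfsg

namespace Cfsg.Agent.S0741

/-- If the two-point stabilisers of a finite Zassenhaus group of degree `n + 1` have even order `d`, then `2d ≥ n - 1`. -/
theorem result {G Ω : Type*} [Group G] [Finite G] [MulAction G Ω] [Fintype Ω] (hZ : Cfsg.IsZassenhausGroup G Ω) {a b : Ω} (hab : a ≠ b) (heven : Even (Nat.card ↥(MulAction.stabilizer G a ⊓ MulAction.stabilizer G b))) : Fintype.card Ω - 2 ≤ 2 * Nat.card ↥(MulAction.stabilizer G a ⊓ MulAction.stabilizer G b) := by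
  classical
  haveI : FaithfulSMul G Ω := hZ.1
  set P : Subgroup (Equiv.Perm Ω) := (MulAction.toPermHom G Ω).range with hP
  have hinj : Function.Injective (MulAction.toPermHom G Ω) := MulAction.toPerm_injective
  have hE : Perm.AltSet.Ext P 2 := by
    intro s hs π
    obtain ⟨x, y, hxy, rfl⟩ := Finset.card_eq_two.1 hs
    obtain ⟨g, hgx, hgy⟩ := MulAction.is_two_pretransitive_iff.1 hZ.2.1 hxy (π.injective.ne hxy)
    refine ⟨MulAction.toPermHom G Ω g, ⟨g, rfl⟩, fun z hz => ?_⟩
    rcases Finset.mem_insert.1 hz with rfl | hz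
    · exact hgx
    · rw [Finset.mem_singleton.1 hz]; exact hgy
  have hS : Perm.AltSet.Small P 2 := by
    rintro _ ⟨g, rfl⟩ T hT hfix
    obtain ⟨x, y, z, hx, hy, hz, hxy, hxz, hyz⟩ := Finset.two_lt_card_iff.1 hT
    rw [hZ.2.2.1 g x y z hxy hyz hxz (hfix x hx) (hfix y hy) (hfix z hz), map_one]
  have hcard : Nat.card (Perm.AltSet.fx P ({a, b} : Finset Ω)) =
      Nat.card ↥(MulAction.stabilizer G a ⊓ MulAction.stabilizer G b) := by
    refine (Nat.card_eq_of_bijective (fun g : ↥(MulAction.stabilizer G a ⊓ MulAction.stabilizer G b) => (⟨MulAction.toPermHom G Ω (g : G), ⟨g, rfl⟩, fun z hz => ?_⟩ :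
      Perm.AltSet.fx P ({a, b} : Finset Ω))) ⟨fun g h e => ?_, fun σ => ?_⟩).symm
    · rcases Finset.mem_insert.1 hz with rfl | hz
      · exact g.2.1
      · rw [Finset.mem_singleton.1 hz]; exact g.2.2
    · exact Subtype.ext (hinj (congrArg Subtype.val e))
    · obtain ⟨g, hg⟩ := σ.2.1
      refine ⟨⟨g, ?_, ?_⟩, Subtype.ext hg⟩
      · have := σ.2.2 a (Finset.mem_insert_self a {b})
        rw [← hg] at this
        exact this
      · have := σ.2.2 b (Finset.mem_insert_of_mem (Finset.mem_singleton_self b))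
        rw [← hg] at this
        exact this
  rw [← hcard] at heven ⊢
  exact Perm.AltSet.few_of_even le_rfl (by have := CharactersDeep.Zassenhaus.three_le_card hZ; omega)
    hE hS (Finset.card_pair hab) heven

end Cfsg.Agent.S0741
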