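import Cfsg.Statements.S0338
import Cfsg.Agent.Lib.CharTheory.Zassenhaus.Exists
import Cfsg.Agent.Lib.CharTheory.Zassenhaus.Reduction
import Cfsg.Agent.Lib.CharTheory.Zassenhaus.Involutions

set_option autoImplicit false
open Cfsg

namespace Cfsg.Agent.S0338

/-- A Zassenhaus group of odd degree is a simple group. -/
theorem result {G Ω : Type*} [Group G] [MulAction G Ω] [Fintype Ω]
    (hZ : Cfsg.IsZassenhausGroup G Ω) (hodd : Odd (Fintype.card Ω)) : IsSimpleGroup G := by
  classical
  haveI := hZ.1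
  haveI : Finite G := Finite.of_injective _ (MulAction.toPerm_injective (α := G) (β := Ω))
  haveI : Nontrivial G := by
    obtain ⟨g, hg, -⟩ := hZ.2.2.2.1
    exact ⟨g, 1, hg⟩
  refine { eq_bot_or_eq_top_of_normal := fun M hM => ?_ }
  rw [or_iff_not_imp_left]
  intro hM1
  obtain ⟨a⟩ : Nonempty Ω := by
    have := Cfsg.Agent.CharactersDeep.Zassenhaus.three_le_card hZ
    exact Fintype.card_pos_iff.1 (by omega)
  obtain ⟨b, hb⟩ := Cfsg.Agent.CharactersDeep.Zassenhaus.exists_ne hZ a
  obtain ⟨H, hc⟩ := CharTheory.Zassenhaus.exists_config hZ hb.symm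
  have hHM : H ≤ M := (CharTheory.Zassenhaus.le_normal hc M hM1).1
  -- an involution with a unique fixed point
  have hHeven : 2 ∣ Nat.card H := by
    obtain ⟨k, hk⟩ := hodd
    have := hc.card
    omega
  haveI : Fact (Nat.Prime 2) := ⟨Nat.prime_two⟩
  obtain ⟨⟨s₀, hs₀⟩, hso⟩ := exists_prime_orderOf_dvd_card' 2 hHeven
  have hso' : orderOf s₀ = 2 := by rwa [Subgroup.orderOf_mk] at hso
  have hs2 : s₀ * s₀ = 1 := CharTheory.Zassenhaus.inv_mul_self hso'
  have hs1 : s₀ ≠ 1 := fun e => by simp [e] at hso'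
  have hfix₀ : ∀ c : Ω, s₀ • c = c ↔ c = a :=
    fun c => ⟨hc.fix s₀ hs₀ hs1 c, fun e => e ▸ hc.le hs₀⟩
  have hfixg : ∀ (g : G) (c : Ω), (g * s₀ * g⁻¹) • c = c ↔ c = g • a := fun g c => by
    rw [mul_smul, mul_smul, smul_eq_iff_eq_inv_smul, hfix₀, inv_smul_eq_iff]
  -- every involution fixes at most one point
  have huni : ∀ z : G, z ≠ 1 → z * z = 1 → ∀ c d : Ω, z • c = c → z • d = d → c = d := by
    intro z hz1 hz2 c d hzc hzd
    by_contra hcd
    obtain ⟨e, he, hee⟩ : ∃ e : Ω, z • e = e ∧ e ≠ c ∧ e ≠ d := by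
      haveI : Fact (Nat.Prime 2) := ⟨Nat.prime_two⟩
      have h2 : Odd (Finset.univ.filter fun e : Ω => z • e = e).card := by
        have hσ : (MulAction.toPerm z : Equiv.Perm Ω) ^ 2 ^ 1 = 1 := by
          refine Equiv.ext fun e => ?_
          rw [pow_one, pow_two, Equiv.Perm.mul_apply, MulAction.toPerm_apply,
            MulAction.toPerm_apply, ← mul_smul, hz2, one_smul, Equiv.Perm.one_apply]
        have h3 := Equiv.Perm.card_compl_support_modEq hσ
        have he : (MulAction.toPerm z : Equiv.Perm Ω).supportᶜ =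
            Finset.univ.filter fun e : Ω => z • e = e := by
          ext e
          simp [Equiv.Perm.mem_support]
        rw [he] at h3
        rw [Nat.odd_iff] at hodd ⊢
        rw [← hodd]
        exact h3
      by_contra! hall
      have h4 : (Finset.univ.filter fun e : Ω => z • e = e) = {c, d} := by
        ext e
        simp only [Finset.mem_filter, Finset.mem_univ, true_and, Finset.mem_insert,
          Finset.mem_singleton]
        refine ⟨fun h => ?_, ?_⟩
        · by_cases hec : e = c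
          · exact Or.inl hec
          · exact Or.inr (hall e h hec)
        · rintro (rfl | rfl) <;> assumption
      rw [h4, Finset.card_pair hcd] at h2
      exact absurd h2 (by decide)
    exact hz1 (hZ.2.2.1 z c d e hcd hee.2.symm hee.1.symm hzc hzd he)
  -- conjugates with different fixed points are conjugate in `M`
  have hinM : ∀ g : G, g * s₀ * g⁻¹ ∈ M := fun g => hM.conj_mem _ (hHM hs₀) g
  have hdiff : ∀ g k : G, g • a ≠ k • a →
      ∃ m ∈ M, m * (g * s₀ * g⁻¹) * m⁻¹ = k * s₀ * k⁻¹ := by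
    intro g k hne
    have key : ∀ s t : G, s * s = 1 → t * t = 1 → s ∈ M → t ∈ M →
        (∀ z, z ≠ 1 → z * z = 1 → s * z = z * s → t * z = z * t → False) →
        ∃ m ∈ M, m * s * m⁻¹ = t := by
      intro s t hss htt hsM htM hno
      have hs' : s⁻¹ = s := inv_eq_of_mul_eq_one_right hss
      have ht' : t⁻¹ = t := inv_eq_of_mul_eq_one_right htt
      obtain ⟨r, hr⟩ : ∃ r, s * t = r := ⟨_, rfl⟩
      have hsr : s * r * s⁻¹ = r⁻¹ := by
        rw [← hr, mul_inv_rev, hs', ht', ← mul_assoc, hss, one_mul]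
      rcases Nat.even_or_odd (orderOf r) with ⟨j, hj⟩ | ⟨j, hj⟩
      · exfalso
        have hpos : 0 < orderOf r := orderOf_pos r
        obtain ⟨z, hz⟩ : ∃ z, r ^ j = z := ⟨_, rfl⟩
        have hz1 : z ≠ 1 := hz ▸ pow_ne_one_of_lt_orderOf (by omega) (by omega)
        have hz2 : z * z = 1 := by rw [← hz, ← pow_add, ← hj, pow_orderOf_eq_one]
        have hsz : s * z * s⁻¹ = z := by
          rw [← hz, ← conj_pow, hsr, inv_pow, hz]
          exact inv_eq_of_mul_eq_one_right hz2
        have hsz' : s * z = z * s := mul_inv_eq_iff_eq_mul.1 hsz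
        refine hno z hz1 hz2 hsz' ?_
        have e : t = s * r := by rw [← hr, ← mul_assoc, hss, one_mul]
        rw [e, mul_assoc, ← hz, (Commute.self_pow r j).eq, ← mul_assoc, hz, hsz', mul_assoc]
      · refine ⟨r ^ j, M.pow_mem (hr ▸ M.mul_mem hsM htM) j, ?_⟩
        have e1 : s * r ^ j = (r ^ j)⁻¹ * s := by
          rw [← mul_inv_eq_iff_eq_mul, ← conj_pow, hsr, inv_pow]
        have e2 : s * (r ^ j)⁻¹ = r ^ j * s := by
          rw [mul_inv_eq_iff_eq_mul, mul_assoc, e1, mul_inv_cancel_left]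
        have e3 : r ^ (2 * j) = r⁻¹ := by
          rw [eq_inv_iff_mul_eq_one, ← pow_succ, ← hj, pow_orderOf_eq_one]
        rw [mul_assoc, e2, ← mul_assoc, ← pow_add, ← two_mul, e3, ← hr, mul_inv_rev, hs', ht',
          mul_assoc, hss, mul_one]
    refine key _ _ (by rw [conj_mul, hs2, mul_one, mul_inv_cancel])
      (by rw [conj_mul, hs2, mul_one, mul_inv_cancel]) (hinM g) (hinM k) fun z hz1 hz2 hsz htz => ?_
    have h1 : z • (g • a) = g • a :=
      (hfixg g _).1 (by rw [← mul_smul, hsz, mul_smul, (hfixg g _).2 rfl])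
    have h2 : z • (k • a) = k • a :=
      (hfixg k _).1 (by rw [← mul_smul, htz, mul_smul, (hfixg k _).2 rfl])
    exact hne (huni z hz1 hz2 _ _ h1 h2)
  have hall : ∀ g : G, ∃ m ∈ M, m * s₀ * m⁻¹ = g * s₀ * g⁻¹ := by
    intro g
    by_cases hga : g • a = a
    · obtain ⟨k, hk, -⟩ := Cfsg.Agent.CharactersDeep.Zassenhaus.two_trans hZ
        (show a ≠ b from hb.symm) hb
      obtain ⟨m, hm, em⟩ := hdiff 1 k (by rw [one_smul, hk]; exact hb.symm)
      obtain ⟨m', hm', em'⟩ := hdiff k g (by rw [hk, hga]; exact hb)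
      refine ⟨m' * m, M.mul_mem hm' hm, ?_⟩
      rw [one_mul, inv_one, mul_one] at em
      rw [← em', ← em]; group
    · obtain ⟨m, hm, em⟩ := hdiff 1 g (by rw [one_smul]; exact fun e => hga e.symm)
      exact ⟨m, hm, by simpa using em⟩
  rw [eq_top_iff]
  intro g _
  obtain ⟨m, hm, em⟩ := hall g
  set x := m⁻¹ * g with hx
  have hxc : x * s₀ = s₀ * x := by
    rw [hx]
    have e := congrArg (fun y => m⁻¹ * y * g) em
    simp only [mul_assoc, inv_mul_cancel_left, inv_mul_cancel, mul_one] at e ⊢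
    exact e.symm
  have hxa : x • a = a := (hfix₀ _).1 (by rw [← mul_smul, ← hxc, mul_smul, (hfix₀ a).2 rfl])
  have hxH : x ∈ H := by
    by_cases hx1 : x = 1
    · rw [hx1]; exact H.one_mem
    refine Cfsg.Agent.CharactersDeep.Zassenhaus.mem_of_fix_only hZ a H hc.le hc.card hc.fix hxa
      fun d hd => ?_
    by_contra hda
    refine hx1 (hZ.2.2.1 x a d (s₀ • d) (Ne.symm hda) (fun e => hda ((hfix₀ d).1 e.symm)) ?_
      hxa hd (by rw [← mul_smul, hxc, mul_smul, hd]))
    exact fun e => hda (smul_left_cancel s₀ (e.symm.trans ((hfix₀ a).2 rfl).symm))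
  have : g = m * x := by rw [hx, mul_inv_cancel_left]
  rw [this]
  exact M.mul_mem hm (hHM hxH)

end Cfsg.Agent.S0338
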