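import Cfsg.Statements.S0738
import Cfsg.Agent.CharactersDeep.Zassenhaus

set_option autoImplicit false
open Cfsg

namespace Cfsg.Agent.S0738

/-- Let a finite Zassenhaus group of degree `n + 1` have two-point stabilisers of order `d` with `2d ≥ n - 1`. Then a normal subgroup of a point stabiliser acting regularly on the remaining points is elementary abelian, and the degree is a prime power plus one. -/
theorem result {G Ω : Type*} [Group G] [Finite G] [MulAction G Ω] [Fintype Ω] (hZ : Cfsg.IsZassenhausGroup G Ω) {a b : Ω} (hab : a ≠ b) (hd : Fintype.card Ω - 2 ≤ 2 * Nat.card ↥(MulAction.stabilizer G a ⊓ MulAction.stabilizer G b)) (F : Subgroup G) (hFle : F ≤ MulAction.stabilizer G a) (hFn : (F.subgroupOf (MulAction.stabilizer G a)).Normal) (hreg : ∀ y z : Ω, y ≠ a → z ≠ a → ∃! u : F, (u : G) • y = z) : IsMulCommutative F ∧ ∃ p f : ℕ, p.Prime ∧ (∀ u ∈ F, u ^ p = 1) ∧ Fintype.card Ω = p ^ f + 1 := by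
  classical
  have := Fintype.ofFinite G
  set D := MulAction.stabilizer G a ⊓ MulAction.stabilizer G b with hDdef
  have hDpos : 0 < Nat.card D := Nat.card_pos
  have hconj : ∀ (h : D) (x : F), (h : G) * x * (h : G)⁻¹ ∈ F := by
    intro h x
    have h1 : (⟨(x : G), hFle x.2⟩ : MulAction.stabilizer G a) ∈ F.subgroupOf (MulAction.stabilizer G a) :=
      Subgroup.mem_subgroupOf.2 x.2
    have h2 := hFn.conj_mem _ h1 ⟨(h : G), h.2.1⟩
    simpa [Subgroup.mem_subgroupOf] using h2
  let c : D → F → F := fun h x => ⟨_, hconj h x⟩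
  have hcval : ∀ h x, ((c h x : F) : G) = (h : G) * x * (h : G)⁻¹ := fun h x => rfl
  have hcomm : ∀ h : D, ∀ x : F, x ≠ 1 → c h x = x → h = 1 := by
    intro h x hx e
    by_contra hh
    apply hx
    have e' : (h : G) * x = x * h := mul_inv_eq_iff_eq_mul.1 (congrArg Subtype.val e)
    have hxa : (x : G) • a = a := hFle x.2
    have hhb : (h : G) • b = b := h.2.2
    have h1 : (h : G) • ((x : G) • b) = (x : G) • b := by rw [← mul_smul, e', mul_smul, hhb]
    have h2 : (x : G) • b = b := by
      by_contra hne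
      refine hh (Subtype.ext (CharactersDeep.Zassenhaus.eq_one_of_fix_three hZ hab (c := (x : G) • b)
        (Ne.symm hne) (fun e2 => hab (MulAction.injective (x : G) (hxa.trans e2))) h.2.1 hhb h1))
    obtain ⟨u, -, huniq⟩ := hreg b b hab.symm hab.symm
    exact (huniq x h2).trans (huniq 1 (by simp)).symm
  have hFc : Nat.card F + 1 = Fintype.card Ω := by
    have h1 : Nat.card F = Nat.card {y : Ω // y ≠ a} := by
      refine Nat.card_eq_of_bijective (fun u => ⟨(u : G) • b, fun e => hab ?_⟩) ⟨?_, ?_⟩
      · exact MulAction.injective (u : G) ((hFle u.2 : (u : G) • a = a).trans e.symm)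
      · intro u v e
        obtain ⟨w, -, hw⟩ := hreg b ((u : G) • b) hab.symm (fun e2 => hab
          (MulAction.injective (u : G) ((hFle u.2 : (u : G) • a = a).trans e2.symm)))
        exact (hw u rfl).trans (hw v (congrArg Subtype.val e).symm).symm
      · rintro ⟨y, hy⟩
        obtain ⟨u, hu, -⟩ := hreg b y hab.symm hy
        exact ⟨u, Subtype.ext hu⟩
    rw [h1, Nat.card_eq_fintype_card, Fintype.card_subtype_compl, Fintype.card_subtype_eq]
    have : 0 < Fintype.card Ω := Fintype.card_pos_iff.2 ⟨a⟩
    omega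
  -- orbits
  let orb : F → Finset F := fun x => Finset.univ.image fun h : D => c h x
  have hc1 : ∀ x, c 1 x = x := fun x => Subtype.ext (by simp [hcval])
  have hcmul : ∀ g h x, c (g * h) x = c g (c h x) := fun g h x => Subtype.ext (by
    simp only [hcval, Subgroup.coe_mul]; group)
  have horb : ∀ x, x ≠ 1 → (orb x).card = Nat.card D := by
    intro x hx
    rw [Finset.card_image_of_injective _ (fun g h e => ?_), Finset.card_univ, Nat.card_eq_fintype_card]
    have : h⁻¹ * g = 1 := hcomm _ x hx (by rw [hcmul, show c g x = c h x from e, ← hcmul, inv_mul_cancel, hc1])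
    exact (inv_mul_eq_one.1 this).symm
  have hmem : ∀ x, x ∈ orb x := fun x => Finset.mem_image.2 ⟨1, Finset.mem_univ _, hc1 x⟩
  have hne1 : ∀ x, x ≠ 1 → ∀ y ∈ orb x, y ≠ 1 := by
    intro x hx y hy e
    obtain ⟨h, -, rfl⟩ := Finset.mem_image.1 hy
    have := congrArg (c h⁻¹) e
    rw [← hcmul, inv_mul_cancel, hc1, show c h⁻¹ 1 = 1 from Subtype.ext (by simp [hcval])] at this
    exact hx this
  -- at most two orbits
  have htwo : ∀ x y : F, x ≠ 1 → y ≠ 1 → y ∉ orb x → ∀ z : F, z ≠ 1 → z ∈ orb x ∨ z ∈ orb y := by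
    intro x y hx hy hxy z hz
    by_contra! hcon
    have hd' : ∀ u v : F, v ∉ orb u → Disjoint (orb u) (orb v) := by
      intro u v huv
      rw [Finset.disjoint_left]
      intro w hw hw'
      obtain ⟨g, -, rfl⟩ := Finset.mem_image.1 hw
      obtain ⟨k, -, hk⟩ := Finset.mem_image.1 hw'
      refine huv (Finset.mem_image.2 ⟨k⁻¹ * g, Finset.mem_univ _, ?_⟩)
      rw [hcmul, ← hk, ← hcmul, inv_mul_cancel, hc1]
    have hsub : orb x ∪ orb y ∪ orb z ⊆ Finset.univ.erase 1 := by
      intro w hw
      simp only [Finset.mem_union] at hw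
      refine Finset.mem_erase.2 ⟨?_, Finset.mem_univ _⟩
      rcases hw with (hw | hw) | hw
      exacts [hne1 x hx w hw, hne1 y hy w hw, hne1 z hz w hw]
    have h := Finset.card_le_card hsub
    rw [Finset.card_union_of_disjoint (Finset.disjoint_union_left.2 ⟨hd' x z hcon.1, hd' y z hcon.2⟩),
      Finset.card_union_of_disjoint (hd' x y hxy), horb x hx, horb y hy, horb z hz,
      Finset.card_erase_of_mem (Finset.mem_univ _), Finset.card_univ, ← Nat.card_eq_fintype_card] at h
    omega
  have hord : ∀ x, ∀ y ∈ orb x, orderOf y = orderOf x := by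
    intro x y hy
    obtain ⟨h, -, rfl⟩ := Finset.mem_image.1 hy
    rw [← Subgroup.orderOf_coe, ← Subgroup.orderOf_coe x, hcval, ← MulAut.conj_apply,
      MulEquiv.orderOf_eq]
  have hnpos : 2 ≤ Nat.card F := by
    have := CharactersDeep.Zassenhaus.three_le_card hZ
    omega
  obtain ⟨p, hp, hpn⟩ := Nat.exists_prime_and_dvd (show Nat.card F ≠ 1 by omega)
  haveI := Fact.mk hp
  obtain ⟨x, hx⟩ := exists_prime_orderOf_dvd_card' (G := F) p hpn
  have hx1 : x ≠ 1 := by intro e; rw [e, orderOf_one] at hx; exact hp.one_lt.ne hx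
  have hsplit : ∀ u v : F, u ≠ 1 → v ≠ 1 → v ∉ orb u → Nat.card F = 2 * Nat.card D + 1 := by
    intro u v hu hv huv
    have hdisj : Disjoint (orb u) (orb v) := by
      rw [Finset.disjoint_left]
      intro w hw hw'
      obtain ⟨g, -, rfl⟩ := Finset.mem_image.1 hw
      obtain ⟨k, -, hk⟩ := Finset.mem_image.1 hw'
      refine huv (Finset.mem_image.2 ⟨k⁻¹ * g, Finset.mem_univ _, ?_⟩)
      rw [hcmul, ← hk, ← hcmul, inv_mul_cancel, hc1]
    have heq : Finset.univ.erase 1 = orb u ∪ orb v := by
      ext w
      rw [Finset.mem_erase, Finset.mem_union]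
      exact ⟨fun hw => htwo u v hu hv huv w hw.1, fun hw => ⟨hw.elim (hne1 u hu w) (hne1 v hv w),
        Finset.mem_univ _⟩⟩
    have h := congrArg Finset.card heq
    rw [Finset.card_union_of_disjoint hdisj, horb u hu, horb v hv,
      Finset.card_erase_of_mem (Finset.mem_univ _), Finset.card_univ, ← Nat.card_eq_fintype_card] at h
    omega
  -- an invariant proper subgroup is impossible
  have hinvK : ∀ K : Subgroup F, K ≠ ⊥ → (∀ h, ∀ z ∈ K, c h z ∈ K) → K = ⊤ := by
    intro K hK hKc
    by_contra hKtop
    obtain ⟨k, hk, hk1⟩ := K.bot_or_exists_ne_one.resolve_left hK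
    obtain ⟨w, hw⟩ : ∃ w, w ∉ K := by
      by_contra! h
      exact hKtop (eq_top_iff.2 fun z _ => h z)
    have hw1 : w ≠ 1 := fun e => hw (e ▸ K.one_mem)
    have hback : ∀ h z, c h z ∈ K → z ∈ K := by
      intro h z hz
      have := hKc h⁻¹ _ hz
      rwa [← hcmul, inv_mul_cancel, hc1] at this
    have hkw : w ∉ orb k := by
      intro hm
      obtain ⟨h, -, rfl⟩ := Finset.mem_image.1 hm
      exact hw (hKc h k hk)
    have hn := hsplit k w hk1 hw1 hkw
    have heq : (Finset.univ.filter (fun z : F => z ∈ K)).erase 1 = orb k := by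
      ext z
      simp only [Finset.mem_erase, Finset.mem_filter, Finset.mem_univ, true_and]
      constructor
      · rintro ⟨hz1, hz⟩
        rcases htwo k w hk1 hw1 hkw z hz1 with h | h
        · exact h
        · obtain ⟨g, -, rfl⟩ := Finset.mem_image.1 h
          exact absurd (hback g w hz) hw
      · intro hz
        refine ⟨hne1 k hk1 z hz, ?_⟩
        obtain ⟨g, -, rfl⟩ := Finset.mem_image.1 hz
        exact hKc g k hk
    have hKcard := congrArg Finset.card heq
    rw [Finset.card_erase_of_mem (Finset.mem_filter.2 ⟨Finset.mem_univ _, K.one_mem⟩), horb k hk1,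
      show (Finset.univ.filter (fun z : F => z ∈ K)).card = Nat.card K by
        rw [Nat.card_eq_fintype_card, Fintype.card_subtype]] at hKcard
    have hdvd := Subgroup.card_subgroup_dvd_card K
    rw [hn, show Nat.card K = Nat.card D + 1 by omega] at hdvd
    have h2 : Nat.card D + 1 ∣ Nat.card D := by
      rw [show 2 * Nat.card D + 1 = (Nat.card D + 1) + Nat.card D by ring] at hdvd
      exact (Nat.dvd_add_right (dvd_refl _)).1 hdvd
    have := Nat.le_of_dvd hDpos h2
    omega
  -- `F` is a `p`-group
  have hpgroup : IsPGroup p F := by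
    have honly : ∀ q : ℕ, q.Prime → q ∣ Nat.card F → q = p := by
      intro q hq hqn
      by_contra hqp
      haveI := Fact.mk hq
      obtain ⟨y, hy⟩ := exists_prime_orderOf_dvd_card' (G := F) q hqn
      have hy1 : y ≠ 1 := by intro e; rw [e, orderOf_one] at hy; exact hq.one_lt.ne hy
      have hxy : y ∉ orb x := fun h => hqp (by rw [← hy, hord x y h, hx])
      have hn := hsplit x y hx1 hy1 hxy
      have hall : ∀ z : F, z ≠ 1 → orderOf z = p ∨ orderOf z = q := fun z hz =>
        (htwo x y hx1 hy1 hxy z hz).imp (fun h => (hord x z h).trans hx) fun h => (hord y z h).trans hy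
      have hset : ∀ z : F, orderOf z = p ↔ z ∈ orb x := fun z => ⟨fun h => by
        have hz1 : z ≠ 1 := by intro e; rw [e, orderOf_one] at h; exact hp.one_lt.ne h
        refine (htwo x y hx1 hy1 hxy z hz1).resolve_right fun h' => hqp ?_
        rw [← hy, ← hord y z h', h], fun h => (hord x z h).trans hx⟩
      let T : SubMulAction (Subgroup.zpowers (ConjAct.toConjAct y)) F :=
        { carrier := {z | orderOf z = p}
          smul_mem' := fun g z hz => by
            show orderOf ((g : ConjAct F) • z) = p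
            rw [ConjAct.smul_def, ← MulAut.conj_apply, MulEquiv.orderOf_eq]
            exact hz }
      have hP : IsPGroup q (Subgroup.zpowers (ConjAct.toConjAct y)) :=
        IsPGroup.of_card (n := 1) (by rw [Nat.card_zpowers, MulEquiv.orderOf_eq, hy, pow_one])
      have hmod := hP.card_modEq_card_fixedPoints T
      have hTc : Nat.card T = Nat.card D := by
        rw [← horb x hx1, ← Nat.card_eq_finsetCard]
        exact Nat.card_congr (Equiv.subtypeEquivRight hset)
      have hempty : MulAction.fixedPoints (Subgroup.zpowers (ConjAct.toConjAct y)) T = ∅ := by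
        rw [Set.eq_empty_iff_forall_notMem]
        rintro ⟨z, hz⟩ hfix
        have h1 := congrArg Subtype.val (hfix ⟨ConjAct.toConjAct y, Subgroup.mem_zpowers _⟩)
        replace h1 : y * z * y⁻¹ = z := h1
        have hc : Commute y z := mul_inv_eq_iff_eq_mul.1 h1
        have hzp : orderOf z = p := hz
        have ho := hc.orderOf_mul_eq_mul_orderOf_of_coprime
          (by rw [hy, hzp]; exact (Nat.coprime_primes hq hp).2 hqp)
        rw [hy, hzp] at ho
        have h2 : y * z ≠ 1 := by
          intro e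
          rw [e, orderOf_one] at ho
          have := Nat.eq_one_of_mul_eq_one_left ho.symm
          exact hp.one_lt.ne this.symm
        rcases hall _ h2 with h | h <;> rw [ho] at h
        · have : q = 1 := Nat.eq_of_mul_eq_mul_right hp.pos (h.trans (one_mul p).symm)
          exact hq.one_lt.ne this.symm
        · have : p = 1 := Nat.eq_of_mul_eq_mul_left hq.pos (h.trans (mul_one q).symm)
          exact hp.one_lt.ne this.symm
      rw [hempty, hTc, Nat.card_coe_set_eq, Set.ncard_empty, Nat.modEq_zero_iff_dvd] at hmod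
      rw [hn] at hqn
      have : q ∣ 1 := (Nat.dvd_add_right (hmod.mul_left 2)).1 hqn
      exact hq.one_lt.ne (Nat.dvd_one.1 this).symm
    exact IsPGroup.of_card (n := (Nat.card F).primeFactorsList.length)
      (Nat.eq_prime_pow_of_unique_prime_dvd (by omega) fun {q} hq hqn => honly q hq hqn)
  haveI : Nontrivial F := Finite.one_lt_card_iff_nontrivial.1 (by omega)
  have hZtop : Subgroup.center F = ⊤ := hinvK _ hpgroup.bot_lt_center.ne' fun h z hz => by
    rw [Subgroup.mem_center_iff] at hz ⊢
    intro w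
    have e := congrArg (c h) (hz (c h⁻¹ w))
    have hmul : ∀ u v, c h (u * v) = c h u * c h v := fun u v => Subtype.ext (by
      simp only [hcval, Subgroup.coe_mul]; group)
    rw [hmul, hmul, ← hcmul, mul_inv_cancel, hc1] at e
    exact e
  have hab' : ∀ u v : F, u * v = v * u := fun u v =>
    Subgroup.mem_center_iff.1 (hZtop ▸ Subgroup.mem_top v : v ∈ Subgroup.center F) u
  let K : Subgroup F :=
    { carrier := {z | z ^ p = 1}
      one_mem' := one_pow p
      mul_mem' := fun {u v} hu hv => by
        show (u * v) ^ p = 1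
        rw [Commute.mul_pow (hab' u v) p, hu, hv, one_mul]
      inv_mem' := fun {u} hu => by
        show u⁻¹ ^ p = 1
        rw [inv_pow, hu, inv_one] }
  have hKtop : K = ⊤ := hinvK K (fun e => hx1 (by
      have : x ∈ K := by show x ^ p = 1; rw [← hx, pow_orderOf_eq_one]
      rwa [e, Subgroup.mem_bot] at this)) fun h z hz => by
    show c h z ^ p = 1
    refine Subtype.ext ?_
    rw [SubgroupClass.coe_pow, hcval, conj_pow, ← SubgroupClass.coe_pow, show z ^ p = 1 from hz]
    simp
  obtain ⟨f, hf⟩ := IsPGroup.iff_card.1 hpgroup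
  refine ⟨⟨⟨hab'⟩⟩, p, f, hp, fun u hu => ?_, by omega⟩
  have h : (⟨u, hu⟩ : F) ∈ K := hKtop ▸ Subgroup.mem_top _
  exact congrArg Subtype.val (show (⟨u, hu⟩ : F) ^ p = 1 from h)

end Cfsg.Agent.S0738
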