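import Cfsg.Statements.S4035
import Mathlib
import Cfsg.Agent.GStructB.PElements
import Cfsg.Agent.GStructB.Cover
import Cfsg.Agent.Lib.Cores.Fitting

set_option autoImplicit false
open Cfsg

namespace Cfsg.Agent.S4035

/-- Let G be a finite group and p a prime such that p divides the size of no conjugacy class of p-regular elements (elements of order prime to p). Then G is the internal direct product of a Sylow p-subgroup P and a normal subgroup H of order prime to p: P is normal, P ⊓ H = 1 and PH = G. -/
theorem result {G : Type*} [Group G] [Finite G] {p : ℕ} [Fact p.Prime]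
    (h : ∀ x : G, (orderOf x).Coprime p → ¬ p ∣ (ConjClasses.mk x).carrier.ncard) (P : Sylow p G) :
    (P : Subgroup G).Normal ∧ ∃ H : Subgroup G, H.Normal ∧ ¬ p ∣ Nat.card H ∧
      (P : Subgroup G) ⊓ H = ⊥ ∧ (P : Subgroup G) ⊔ H = ⊤ := by
  have hp := (Fact.out : p.Prime)
  set C := Subgroup.centralizer ((P : Subgroup G) : Set G) with hC
  -- every element is conjugate into `C ⊔ P`
  have hcover : C ⊔ (P : Subgroup G) = ⊤ := by
    apply GStructB.Cover.eq_top_of_forall_conj
    intro g
    obtain ⟨a, s, ha, hs, hsp⟩ := GStructB.PElements.exists_split p g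
    have hcop : (p ^ a).Coprime s := (hp.coprime_iff_not_dvd.mpr hs).pow_left _
    set y := g ^ p ^ a with hy
    set K := Subgroup.centralizer ({y} : Set G) with hK
    have hyo : (orderOf y).Coprime p := by
      rw [hy, orderOf_pow' g (pow_ne_zero _ hp.ne_zero), ha, Nat.gcd_eq_right (dvd_mul_right _ _),
        Nat.mul_div_cancel_left _ (pow_pos hp.pos a)]
      exact (hp.coprime_iff_not_dvd.mpr hs).symm
    have hidx : ¬ p ∣ K.index := by
      have h1 := h y hyo
      have h2 : K.index = (ConjClasses.mk y).carrier.ncard := by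
        rw [← Nat.card_coe_set_eq, hK, Subgroup.centralizer_eq_comap_stabilizer]
        refine (Subgroup.index_comap_of_surjective _ (MulEquiv.surjective _)).trans ?_
        rw [Subgroup.index,
          ← Nat.card_congr (MulAction.orbitEquivQuotientStabilizer (ConjAct G) y),
          ConjAct.orbit_eq_carrier_conjClasses]
      rwa [h2]
    -- the `p`-part lies in a Sylow subgroup of the centraliser
    have hgs : g ^ s ∈ K := Subgroup.mem_centralizer_singleton_iff.mpr
      ((Commute.refl g).pow_pow s (p ^ a)).eq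
    have hpg : IsPGroup p (Subgroup.zpowers (⟨g ^ s, hgs⟩ : K)) :=
      GStructB.PElements.isPGroup_zpowers (k := a) (by rw [Subgroup.orderOf_mk, hsp])
    obtain ⟨T, hT⟩ := hpg.exists_le_sylow
    have hTG : ∃ R : Sylow p G, (R : Subgroup G) = (T : Subgroup K).map K.subtype := by
      obtain ⟨R, hR⟩ := (T.2.map K.subtype).exists_le_sylow
      refine ⟨R, ((Subgroup.eq_of_le_of_card_ge hR ?_).symm)⟩
      rw [Subgroup.card_subtype, T.card_eq_multiplicity, R.card_eq_multiplicity]
      apply le_of_eq
      congr 1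
      rw [← K.card_mul_index, Nat.factorization_mul Nat.card_pos.ne' Subgroup.index_ne_zero_of_finite,
        Finsupp.add_apply, Nat.factorization_eq_zero_of_not_dvd hidx, add_zero]
    obtain ⟨R, hR⟩ := hTG
    obtain ⟨c, rfl⟩ := MulAction.exists_smul_eq G P R
    have hmem : ∀ w : G, w ∈ ((c • P : Sylow p G) : Subgroup G) ↔ c⁻¹ * w * c ∈ (P : Subgroup G) :=
      fun w => by rw [Sylow.coe_subgroup_smul, GStructB.PElements.mem_conj_smul]
    refine ⟨c, ?_⟩
    have hy' : c⁻¹ * y * c ∈ C := by
      rw [hC, Subgroup.mem_centralizer_iff]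
      intro w hw
      have h1 : c * w * c⁻¹ ∈ K := by
        have h2 : c * w * c⁻¹ ∈ ((c • P : Sylow p G) : Subgroup G) := by
          rw [hmem, show c⁻¹ * (c * w * c⁻¹) * c = w by group]
          exact hw
        rw [hR] at h2
        obtain ⟨k, -, hk⟩ := h2
        rw [← hk]
        exact k.2
      have h3 := Subgroup.mem_centralizer_singleton_iff.mp h1
      calc w * (c⁻¹ * y * c) = c⁻¹ * ((c * w * c⁻¹) * y) * c := by group
        _ = (c⁻¹ * y * c) * w := by rw [h3]; group
    have hs' : c⁻¹ * g ^ s * c ∈ (P : Subgroup G) := (hmem _).mp (hR ▸ ⟨_, hT (Subgroup.mem_zpowers _), rfl⟩)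
    have e : ∀ n : ℕ, (c⁻¹ * g * c) ^ n = c⁻¹ * g ^ n * c := by
      intro n
      have := conj_pow (i := n) (a := c⁻¹) (b := g)
      rwa [inv_inv] at this
    refine GStructB.PElements.mem_of_pow_mem_coprime hcop ?_ ?_
    · rw [e]; exact Subgroup.mem_sup_left hy'
    · rw [e]; exact Subgroup.mem_sup_right hs'
  have hPn : (P : Subgroup G).Normal := by
    rw [← Subgroup.normalizer_eq_top_iff, eq_top_iff, ← hcover]
    exact sup_le (GStructB.Cover.centralizer_le_normalizer _) Subgroup.le_normalizer
  obtain ⟨K, hK⟩ := Subgroup.exists_right_complement'_of_coprime P.card_coprime_index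
  refine ⟨hPn, K, ?_, ?_, hK.disjoint.eq_bot, hK.sup_eq_top⟩
  swap
  · rw [← hK.symm.index_eq_card]
    exact P.not_dvd_index
  -- `K` centralises `P`
  have hCidx : ∃ n, C.index = p ^ n := by
    obtain ⟨n, hn⟩ := P.2.exists_card_eq
    have h1 : C.index ∣ p ^ n := by
      rw [← hn, ← Subgroup.relIndex_top_right, ← hcover, Subgroup.relIndex_sup_left]
      exact Subgroup.relIndex_dvd_card _ _
    exact (Nat.dvd_prime_pow hp).mp h1 |>.imp fun i hi => hi.2
  have : C.Normal := by
    have := hPn
    rw [hC]; infer_instance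
  obtain ⟨n, hn⟩ := hCidx
  have hKC : K ≤ C := by
    intro k hk
    rw [← QuotientGroup.eq_one_iff, ← orderOf_eq_one_iff]
    refine Nat.eq_one_of_dvd_coprimes (?_ : (p ^ n).Coprime (Nat.card K)) ?_
      ((orderOf_map_dvd (QuotientGroup.mk' C) k).trans (K.orderOf_dvd_natCard hk))
    · rw [← hK.symm.index_eq_card]
      exact (hp.coprime_iff_not_dvd.mpr P.not_dvd_index).pow_left _
    · rw [← hn]; exact orderOf_dvd_natCard _
  rw [← Subgroup.normalizer_eq_top_iff, eq_top_iff, ← hK.sup_eq_top, sup_le_iff]
  exact ⟨(Subgroup.le_centralizer_iff.mp hKC).trans (GStructB.Cover.centralizer_le_normalizer K),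
    Subgroup.le_normalizer⟩

end Cfsg.Agent.S4035
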