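import Cfsg.Statements.S4033
import Cfsg.Agent.TwoRegClass.Main
import Cfsg.Agent.GStructClassType.Good

set_option autoImplicit false
set_option linter.style.haveILetI false
open Cfsg

namespace Cfsg.Agent.S4033

open Cfsg.Agent.TwoRegClass
open Cfsg.Agent.GStructB.TwoSizes (IsL isL_of_mem)

/-- With a single moving prime `q`, the group is a central product of a `{p, q}`-group. -/
theorem single_moving {G : Type*} [Group G] [Finite G] {p q : ℕ} (hp : p.Prime)
    (hmov : Moving G p q) (hq : ∀ s, Moving G p s → s = q) :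
    ∃ (q : ℕ) (_ : Fact q.Prime) (P : Sylow p G) (Q : Sylow q G) (A : Subgroup G), q ≠ p ∧
      A ≤ Subgroup.center G ∧
      Nat.card ↥((P : Subgroup G) ⊔ (Q : Subgroup G)) = Nat.card P * Nat.card Q ∧
      ((P : Subgroup G) ⊔ (Q : Subgroup G)).Normal ∧
      ((P : Subgroup G) ⊔ (Q : Subgroup G)) ⊓ A = ⊥ ∧
      ((P : Subgroup G) ⊔ (Q : Subgroup G)) ⊔ A = ⊤ := by
  classical
  obtain ⟨hqP, hqp, -⟩ := hmov
  haveI := Fact.mk hp
  haveI := Fact.mk hqP
  let A : Subgroup G :=
    { carrier := {x | x ∈ Subgroup.center G ∧ (orderOf x).Coprime (p * q)}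
      one_mem' := ⟨one_mem _, by simp⟩
      mul_mem' := fun {a b} ha hb => ⟨mul_mem ha.1 hb.1, Nat.Coprime.coprime_dvd_left
        ((Commute.orderOf_mul_dvd_lcm (Subgroup.mem_center_iff.1 hb.1 a)).trans
          (Nat.lcm_dvd_mul _ _)) (Nat.Coprime.mul_left ha.2 hb.2)⟩
      inv_mem' := fun {a} ha => ⟨inv_mem ha.1, by rw [orderOf_inv]; exact ha.2⟩ }
  have hA : A ≤ Subgroup.center G := fun x hx => hx.1
  haveI hAn : A.Normal := ⟨fun a ha g => by
    rw [Subgroup.mem_center_iff.1 ha.1 g, mul_inv_cancel_right]; exact ha⟩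
  -- primes dividing the order and the index
  have hAcard : ∀ d : ℕ, d.Prime → d ∣ Nat.card A → d ≠ p ∧ d ≠ q := by
    intro d hd hdA
    haveI := Fact.mk hd
    obtain ⟨⟨a, ha⟩, hao⟩ := exists_prime_orderOf_dvd_card' d hdA
    rw [Subgroup.orderOf_mk] at hao
    have h1 : d.Coprime (p * q) := hao ▸ ha.2
    exact ⟨fun e => hd.ne_one (Nat.eq_one_of_dvd_coprimes h1 dvd_rfl (e ▸ dvd_mul_right p q)),
      fun e => hd.ne_one (Nat.eq_one_of_dvd_coprimes h1 dvd_rfl (e ▸ dvd_mul_left q p))⟩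
  have hAidx : ∀ d : ℕ, d.Prime → d ∣ A.index → d = p ∨ d = q := by
    intro d hd hdi
    by_contra hcon
    push Not at hcon
    haveI := Fact.mk hd
    refine not_dvd_index_of_forall (H := A) (fun x hx => ⟨?_, ?_⟩) hdi
    · by_contra hxc
      exact hcon.2 (hq d ⟨hd, hcon.1, x, hx, hxc⟩)
    · obtain ⟨i, hi⟩ := hx
      rw [hi]
      exact (Nat.Coprime.mul_right ((Nat.coprime_primes hd hp).2 hcon.1)
        ((Nat.coprime_primes hd hqP).2 hcon.2)).pow_left i
  have hco : (Nat.card A).Coprime A.index := Nat.coprime_of_dvd fun d hd h1 h2 =>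
    (hAidx d hd h2).elim (hAcard d hd h1).1 (hAcard d hd h1).2
  obtain ⟨K, hK⟩ := Subgroup.exists_right_complement'_of_coprime hco
  haveI hKn : K.Normal := by
    refine Subgroup.normalizer_eq_top_iff.1 (top_unique (hK.sup_eq_top ▸ sup_le ?_ Subgroup.le_normalizer))
    intro a ha
    refine Subgroup.mem_normalizer_iff.2 fun k => ?_
    rw [(Subgroup.mem_center_iff.1 ha.1 k).symm, mul_inv_cancel_right]
  obtain ⟨P⟩ := (inferInstance : Nonempty (Sylow p G))
  obtain ⟨Q⟩ := (inferInstance : Nonempty (Sylow q G))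
  have hKidx : K.index = Nat.card A := hK.index_eq_card
  have hKcard : Nat.card K = A.index := hK.symm.index_eq_card.symm
  have hmem : ∀ (l : ℕ) (x : G), (l.Coprime K.index) → IsL l x → x ∈ K := by
    intro l x hl hx
    obtain ⟨i, hi⟩ := hx
    exact (QuotientGroup.eq_one_iff x).1 (orderOf_eq_one_iff.1 (Nat.eq_one_of_dvd_coprimes
      (Nat.Coprime.pow_left i hl) ((orderOf_map_dvd (QuotientGroup.mk' K) x).trans (by rw [hi]))
      (orderOf_dvd_natCard _)))
  have hpK : p.Coprime K.index := by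
    rw [hKidx, hp.coprime_iff_not_dvd]
    exact fun h => (hAcard p hp h).1 rfl
  have hqK : q.Coprime K.index := by
    rw [hKidx, hqP.coprime_iff_not_dvd]
    exact fun h => (hAcard q hqP h).2 rfl
  have hle : (P : Subgroup G) ⊔ Q ≤ K :=
    sup_le (fun x hx => hmem p x hpK (isL_of_mem P.2 hx))
      (fun x hx => hmem q x hqK (isL_of_mem Q.2 hx))
  have hcPQ : (Nat.card P).Coprime (Nat.card Q) := by
    rw [P.card_eq_multiplicity, Q.card_eq_multiplicity]
    exact ((Nat.coprime_primes hp hqP).2 hqp.symm).pow _ _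
  have hdvd : Nat.card P * Nat.card Q ∣ Nat.card ↥((P : Subgroup G) ⊔ (Q : Subgroup G)) :=
    hcPQ.mul_dvd_of_dvd_of_dvd (Subgroup.card_dvd_of_le le_sup_left)
      (Subgroup.card_dvd_of_le le_sup_right)
  -- the order of `K` divides that of `P` times that of `Q`
  have hK2 : Nat.card K ∣ Nat.card P * Nat.card Q := by
    rw [Nat.dvd_iff_prime_pow_dvd_dvd]
    intro d i hd hdi
    rcases Nat.eq_zero_or_pos i with rfl | hi
    · simp
    have hdG : d ^ i ∣ Nat.card G := hdi.trans (Subgroup.card_subgroup_dvd_card K)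
    rcases hAidx d hd (hKcard ▸ (dvd_pow_self d hi.ne').trans hdi) with rfl | rfl
    · exact (P.pow_dvd_card_of_pow_dvd_card hdG).trans (dvd_mul_right _ _)
    · exact (Q.pow_dvd_card_of_pow_dvd_card hdG).trans (dvd_mul_left _ _)
  have heq : (P : Subgroup G) ⊔ Q = K := Subgroup.eq_of_le_of_card_ge hle
    (Nat.le_of_dvd Nat.card_pos (hK2.trans hdvd))
  refine ⟨q, ⟨hqP⟩, P, Q, A, hqp, hA, Nat.dvd_antisymm ?_ hdvd, heq ▸ hKn, ?_, ?_⟩
  · rw [heq]; exact hK2
  · rw [heq, inf_comm]; exact hK.disjoint.eq_bot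
  · rw [heq, sup_comm]; exact hK.sup_eq_top

/-- Let G be a finite group and p a prime, and suppose the conjugacy classes of p-regular elements of G (elements of order prime to p) have exactly two distinct sizes. Then either G has an abelian p-complement (an abelian subgroup of order prime to p and p-power index), or there are a prime q ≠ p, a Sylow p-subgroup P, a Sylow q-subgroup Q and a central subgroup A such that PQ is a normal subgroup of order #P·#Q and G is the internal direct product PQ × A. -/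
theorem result {G : Type*} [Group G] [Finite G] {p : ℕ} (hp : p.Prime)
    (h2 : Set.ncard (Set.range fun x : {x : G // (orderOf x).Coprime p} => (ConjClasses.mk (x : G)).carrier.ncard) = 2) :
    (∃ H : Subgroup G, IsMulCommutative H ∧ ¬ p ∣ Nat.card H ∧ ∃ k : ℕ, H.index = p ^ k) ∨
    (∃ (q : ℕ) (_ : Fact q.Prime) (P : Sylow p G) (Q : Sylow q G) (A : Subgroup G), q ≠ p ∧
        A ≤ Subgroup.center G ∧ Nat.card ↥((P : Subgroup G) ⊔ (Q : Subgroup G)) = Nat.card P * Nat.card Q ∧
        ((P : Subgroup G) ⊔ (Q : Subgroup G)).Normal ∧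
        ((P : Subgroup G) ⊔ (Q : Subgroup G)) ⊓ A = ⊥ ∧ ((P : Subgroup G) ⊔ (Q : Subgroup G)) ⊔ A = ⊤) := by
  classical
  haveI := Fact.mk hp
  set f := fun x : {x : G // (orderOf x).Coprime p} => (ConjClasses.mk (x : G)).carrier.ncard with hf
  have hcs : ∀ x : G, (ConjClasses.mk x).carrier.ncard =
      (Subgroup.centralizer ({x} : Set G)).index := GStructClassType.ncard_carrier
  obtain ⟨a, b, hab, hr⟩ := Set.ncard_eq_two.1 h2
  have hone : (1 : ℕ) ∈ Set.range f := by
    refine ⟨⟨1, by simp⟩, ?_⟩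
    show (ConjClasses.mk (1 : G)).carrier.ncard = 1
    rw [hcs, Subgroup.index_eq_one]
    exact eq_top_iff.2 fun g _ => Subgroup.mem_centralizer_singleton_iff.2 (by simp)
  obtain ⟨m, hm1, hm⟩ : ∃ m, m ≠ 1 ∧ Set.range f = {1, m} := by
    rw [hr] at hone ⊢
    rcases hone with h | h
    · exact ⟨b, fun e => hab (h.symm.trans e.symm), by rw [← h]⟩
    · rw [Set.mem_singleton_iff] at h
      exact ⟨a, fun e => hab (e.trans h), by rw [← h, Set.pair_comm]⟩
  have hcenter : ∀ x : G, (Subgroup.centralizer ({x} : Set G)).index = 1 → x ∈ Subgroup.center G :=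
    fun x h => Subgroup.mem_center_iff.2 fun g => Subgroup.mem_centralizer_singleton_iff.1
      (Subgroup.index_eq_one.1 h ▸ Subgroup.mem_top g)
  have hG : TwoReg G p m := by
    refine ⟨hp, fun x hx hxc => ?_, ?_⟩
    · have h1 : f ⟨x, hx⟩ ∈ ({1, m} : Set ℕ) := hm ▸ Set.mem_range_self _
      rcases h1 with h1 | h1
      · exact absurd (hcenter x ((hcs x).symm.trans h1)) hxc
      · exact (hcs x).symm.trans h1
    · obtain ⟨⟨x, hx⟩, hfx⟩ : m ∈ Set.range f := hm ▸ Set.mem_insert_of_mem _ rfl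
      refine ⟨x, hx, fun hc => hm1 ?_⟩
      rw [← hfx]
      show (ConjClasses.mk x).carrier.ncard = 1
      rw [hcs, Subgroup.index_eq_one]
      exact eq_top_iff.2 fun g _ =>
        Subgroup.mem_centralizer_singleton_iff.2 (Subgroup.mem_center_iff.1 hc g)
  by_cases htwo : ∀ t : ℕ, ∃ s, Moving G p s ∧ s ≠ t
  · -- two moving primes: an abelian `p`-complement
    obtain ⟨x, hx, hxc⟩ := hG.exists_noncentral
    refine Or.inl ⟨hG.regPart htwo hx hxc, hG.regPart_comm htwo hx hxc,
      hG.regPart_not_dvd_card htwo hx hxc, ⟨_, Nat.eq_prime_pow_of_unique_prime_dvd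
        Subgroup.index_ne_zero_of_finite fun {d} hd hdi => ?_⟩⟩
    by_contra hdp
    exact hdp (hG.prime_dvd_m_eq htwo hd (hG.dvd_m_of_dvd_index htwo hx hxc hd hdp hdi))
  · -- a single moving prime
    push Not at htwo
    obtain ⟨q, hq⟩ := htwo
    obtain ⟨x, hx, hxc⟩ := hG.exists_noncentral
    obtain ⟨t, ht, -⟩ := hG.exists_component hx hxc
    have htq := hq t ht
    subst htq
    exact Or.inr (single_moving hp ht hq)

end Cfsg.Agent.S4033
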