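import Cfsg.Statements.S0560
import Cfsg.Agent.Lib.Hall.Product

set_option autoImplicit false
open Pointwise
open Cfsg

namespace Cfsg.Agent.S0560

/-- Let the finite group G be the product HK of two subgroups and p a prime. Then there are Sylow p-subgroups P of H and Q of K and a Sylow p-subgroup R of G whose underlying set is the product set of P and Q. -/
theorem result {G : Type*} [Group G] [Finite G] (H K : Subgroup G) (hHK : ∀ g : G, ∃ h ∈ H, ∃ k ∈ K, g = h * k) (p : ℕ) [Fact p.Prime] : ∃ (P : Sylow p H) (Q : Sylow p K) (R : Sylow p G), ((R : Subgroup G) : Set G) = (((P : Subgroup H).map H.subtype : Subgroup G) : Set G) * (((Q : Subgroup K).map K.subtype : Subgroup G) : Set G) := by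
  obtain ⟨P₀⟩ : Nonempty (Sylow p H) := inferInstance
  obtain ⟨Q₀⟩ : Nonempty (Sylow p K) := inferInstance
  obtain ⟨R₀, hR₀⟩ := (P₀.isPGroup'.map H.subtype).exists_le_sylow
  obtain ⟨R₁, hR₁⟩ := (Q₀.isPGroup'.map K.subtype).exists_le_sylow
  obtain ⟨g, hg⟩ := MulAction.exists_smul_eq G R₀ R₁
  obtain ⟨k, hk, h, hh, rfl⟩ := Hall.factorization_symm hHK g
  -- `R = h • R₀` contains Sylow subgroups of both factors
  set R := h • R₀ with hR
  have hR' : k • R = R₁ := by rw [hR, ← mul_smul, hg]
  set P := (⟨h, hh⟩ : H) • P₀ with hP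
  set Q := (⟨k⁻¹, K.inv_mem hk⟩ : K) • Q₀ with hQ
  have hPR : (P : Subgroup H).map H.subtype ≤ R := by
    rintro _ ⟨x, hx, rfl⟩
    rw [hP, Sylow.smul_def, Sylow.pointwise_smul_def, SetLike.mem_coe,
      Coprime.mem_conj_smul] at hx
    rw [hR, Sylow.coe_subgroup_smul, Coprime.mem_conj_smul]
    have := hR₀ ⟨_, hx, rfl⟩
    simpa using this
  have hQR : (Q : Subgroup K).map K.subtype ≤ R := by
    rintro _ ⟨x, hx, rfl⟩
    rw [hQ, Sylow.smul_def, Sylow.pointwise_smul_def, SetLike.mem_coe,
      Coprime.mem_conj_smul] at hx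
    have h1 := hR₁ ⟨_, hx, rfl⟩
    rw [← hR', Sylow.coe_subgroup_smul, Coprime.mem_conj_smul] at h1
    simpa [mul_assoc] using h1
  refine ⟨P, Q, R, ?_⟩
  set P' := (P : Subgroup H).map H.subtype
  set Q' := (Q : Subgroup K).map K.subtype
  have hsub : (P' : Set G) * (Q' : Set G) ⊆ ((R : Subgroup G) : Set G) := by
    rintro _ ⟨x, hx, y, hy, rfl⟩
    exact (R : Subgroup G).mul_mem (hPR hx) (hQR hy)
  refine (Set.eq_of_subset_of_ncard_le hsub ?_ (Set.toFinite _)).symm
  have hP' : Nat.card P' = p ^ (Nat.card H).factorization p := by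
    rw [Subgroup.card_map_of_injective H.subtype_injective, P.card_eq_multiplicity]
  have hQ' : Nat.card Q' = p ^ (Nat.card K).factorization p := by
    rw [Subgroup.card_map_of_injective K.subtype_injective, Q.card_eq_multiplicity]
  have hPQ : Nat.card ↥(P' ⊓ Q') ≤ p ^ (Nat.card ↥(H ⊓ K)).factorization p := by
    obtain ⟨m, hm⟩ := IsPGroup.iff_card.1 ((P.isPGroup'.map H.subtype).to_le
      (inf_le_left : P' ⊓ Q' ≤ P'))
    rw [hm]
    refine Nat.pow_le_pow_right (Fact.out : p.Prime).pos ?_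
    rw [← (Fact.out : p.Prime).pow_dvd_iff_le_factorization Nat.card_pos.ne', ← hm]
    exact Subgroup.card_dvd_of_le
      (inf_le_inf (Subgroup.map_subtype_le _) (Subgroup.map_subtype_le _))
  have hfac : (Nat.card G).factorization p + (Nat.card ↥(H ⊓ K)).factorization p =
      (Nat.card H).factorization p + (Nat.card K).factorization p := by
    have := congrArg (fun n => n.factorization p) (Hall.card_factorization hHK)
    rwa [Nat.factorization_mul Nat.card_pos.ne' Nat.card_pos.ne',
      Nat.factorization_mul Nat.card_pos.ne' Nat.card_pos.ne', Finsupp.add_apply,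
      Finsupp.add_apply] at this
  have h1 := Hall.card_mul_inf P' Q'
  have hpp : 0 < p ^ (Nat.card ↥(H ⊓ K)).factorization p := pow_pos (Fact.out : p.Prime).pos _
  rw [← Nat.card_coe_set_eq, ← Nat.card_coe_set_eq]
  refine Nat.le_of_mul_le_mul_right ?_ hpp
  calc Nat.card ↥((R : Subgroup G) : Set G) * p ^ (Nat.card ↥(H ⊓ K)).factorization p
      = Nat.card P' * Nat.card Q' := by
        change Nat.card (R : Subgroup G) * _ = _
        rw [R.card_eq_multiplicity, hP', hQ', ← pow_add, ← pow_add, hfac]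
    _ = Nat.card ↥((P' : Set G) * (Q' : Set G)) * Nat.card ↥(P' ⊓ Q') := h1.symm
    _ ≤ _ := Nat.mul_le_mul_left _ hPQ

end Cfsg.Agent.S0560
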