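import Mathlib
import Cfsg.Statements.S2476

set_option autoImplicit false
open Cfsg
open Polynomial
open scoped Matrix

namespace Cfsg.Agent.S2476

section

variable {F : Type*} [Field F] [Fintype F]

local notation "q" => Fintype.card F
local notation "d" => Nat.gcd 3 (Fintype.card F - 1)
local notation "Mat3" => Matrix (Fin 3) (Fin 3) F
local notation "SL3" => Matrix.SpecialLinearGroup (Fin 3) F
local notation "Z3" => Subgroup.center (Matrix.SpecialLinearGroup (Fin 3) F)

theorem one_lt_q : 1 < q := Fintype.one_lt_card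

theorem dvd_N : d ∣ q ^ 2 + q + 1 := by
  obtain ⟨a, ha⟩ := Nat.le.dest (one_lt_q (F := F)).le
  have h3 : d ∣ 3 := Nat.gcd_dvd_left _ _
  have ha' : d ∣ a := by simpa [← ha] using Nat.gcd_dvd_right 3 (q - 1)
  rw [show q ^ 2 + q + 1 = a * (a + 3) + 3 by rw [← ha]; ring]
  exact dvd_add (dvd_mul_of_dvd_left ha' _) h3

theorem dvd_N2 : d ∣ q + 2 := by
  obtain ⟨a, ha⟩ := Nat.le.dest (one_lt_q (F := F)).le
  have h3 : d ∣ 3 := Nat.gcd_dvd_left _ _
  have ha' : d ∣ a := by simpa [← ha] using Nat.gcd_dvd_right 3 (q - 1)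
  rw [show q + 2 = a + 3 by omega]
  exact dvd_add ha' h3

theorem dvd_sq : d ∣ q ^ 2 - 1 := (Nat.gcd_dvd_right _ _).trans (Nat.sub_one_dvd_pow_sub_one q 2)

/-- Roots of unity of order dividing `d` in an extension lie in the base field. -/
theorem mem_base {K : Type*} [Field K] [Algebra F K] {k : K} (hk : k ^ d = 1) :
    ∃ c : F, c ^ d = 1 ∧ algebraMap F K c = k := by
  haveI : NeZero d := ⟨(Nat.gcd_pos_of_pos_left _ (by norm_num)).ne'⟩
  obtain ⟨ζ, hζ⟩ : ∃ z : F, IsPrimitiveRoot z d := by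
    obtain ⟨u, hu⟩ := IsCyclic.exists_generator (α := Fˣ)
    have ho : orderOf u = q - 1 := by
      rw [orderOf_eq_card_of_forall_mem_zpowers hu, Nat.card_units, Nat.card_eq_fintype_card]
    obtain ⟨t, ht⟩ := Nat.gcd_dvd_right 3 (q - 1)
    exact ⟨((u ^ t : Fˣ) : F), IsPrimitiveRoot.coe_units_iff.2
      ((ho ▸ IsPrimitiveRoot.orderOf u).pow (Nat.sub_pos_of_lt one_lt_q) (ht.trans (mul_comm _ _)))⟩
  obtain ⟨i, -, hi⟩ := (hζ.map_of_injective (algebraMap F K).injective).eq_pow_of_pow_eq_one hk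
  exact ⟨ζ ^ i, by rw [← pow_mul, mul_comm, pow_mul, hζ.pow_eq_one, one_pow], by rw [map_pow, hi]⟩

theorem scalar_pow_d {c : F} (h3 : c ^ 3 = 1) : c ^ d = 1 := by
  have hc : c ≠ 0 := fun e => by simp [e] at h3
  exact pow_gcd_eq_one.2 ⟨h3, FiniteField.pow_card_sub_one_eq_one c hc⟩

/-- If a power is scalar then the image has order dividing the exponent. -/
theorem orderOf_mk_dvd (g : SL3) {j : ℕ} {c : F} (h : (g : Mat3) ^ j = algebraMap F Mat3 c) :
    orderOf (QuotientGroup.mk' Z3 g) ∣ j := by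
  refine orderOf_dvd_of_pow_eq_one ?_
  rw [← map_pow]
  refine (QuotientGroup.eq_one_iff _).2 (Matrix.SpecialLinearGroup.mem_center_iff.2 ⟨c, ?_, ?_⟩)
  · have h1 := congrArg Matrix.det h
    rw [Matrix.det_pow, g.prop, one_pow, Matrix.algebraMap_eq_diagonal, Matrix.det_diagonal] at h1
    simpa using h1.symm
  · rw [Matrix.SpecialLinearGroup.coe_pow, h]; rfl

theorem exists_scalar (g : SL3) :
    ∃ c : F, c ^ d = 1 ∧ (g : Mat3) ^ orderOf (QuotientGroup.mk' Z3 g) = algebraMap F Mat3 c := by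
  have hmem : g ^ orderOf (QuotientGroup.mk' Z3 g) ∈ Z3 := by
    refine (QuotientGroup.eq_one_iff _).1 ?_
    exact (map_pow (QuotientGroup.mk' Z3) g _).trans (pow_orderOf_eq_one _)
  obtain ⟨c, hc, hcg⟩ := Matrix.SpecialLinearGroup.mem_center_iff.1 hmem
  rw [Fintype.card_fin] at hc
  rw [Matrix.SpecialLinearGroup.coe_pow] at hcg
  exact ⟨c, scalar_pow_d hc, hcg.symm⟩

theorem pow_eq_scalar {g : Mat3} {P : F[X]} {j : ℕ} {c : F} (hg : aeval g P = 0)
    (h : P ∣ X ^ j - C c) : g ^ j = algebraMap F Mat3 c := by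
  obtain ⟨Q, hQ⟩ := h
  have h1 : aeval g (X ^ j - C c) = 0 := by rw [hQ, map_mul, hg, zero_mul]
  rw [map_sub, map_pow, aeval_X, aeval_C, sub_eq_zero] at h1
  exact h1

theorem root_norm {P : F[X]} (hmon : P.Monic) [Fact (Irreducible P)] :
    (AdjoinRoot.root P) ^ ((q ^ P.natDegree - 1) / (q - 1)) =
      algebraMap F (AdjoinRoot P) ((-1) ^ P.natDegree * P.coeff 0) := by
  have hP0 : P ≠ 0 := hmon.ne_zero
  haveI : Module.Finite F (AdjoinRoot P) := (AdjoinRoot.powerBasis hP0).finite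
  haveI : Finite (AdjoinRoot P) := Module.finite_of_finite F
  have hfin : Module.finrank F (AdjoinRoot P) = P.natDegree := by
    rw [(AdjoinRoot.powerBasis hP0).finrank, AdjoinRoot.powerBasis_dim]
  have h := FiniteField.algebraMap_norm_eq_pow (K := F) (x := AdjoinRoot.root P)
  rw [Module.natCard_eq_pow_finrank (K := F), hfin, Nat.card_eq_fintype_card] at h
  rw [← h]
  congr 1
  have h2 := Algebra.PowerBasis.norm_gen_eq_coeff_zero_minpoly (AdjoinRoot.powerBasis hP0)
  rw [AdjoinRoot.powerBasis_gen, AdjoinRoot.powerBasis_dim, AdjoinRoot.minpoly_root hP0, hmon.leadingCoeff,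
    inv_one, map_one, mul_one] at h2
  exact h2

theorem coprime_aux {a b : F} (h : a ≠ b) : IsCoprime (X - C a) (X - C b) :=
  (irreducible_X_sub_C a).coprime_iff_not_dvd.2 fun hd => h (by
    have := dvd_iff_isRoot.1 hd
    simpa [sub_eq_zero] using this)

/-- The upper bound. -/
theorem order_cases (p : ℕ) [Fact p.Prime] [CharP F p] (g : SL3) :
    orderOf (QuotientGroup.mk' Z3 g) ∣ (q ^ 2 + q + 1) / d ∨
      orderOf (QuotientGroup.mk' Z3 g) ∣ (q ^ 2 - 1) / d ∨
      orderOf (QuotientGroup.mk' Z3 g) ∣ q - 1 ∨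
      orderOf (QuotientGroup.mk' Z3 g) ∣ p * (q - 1) / d ∨
      (p = 2 ∧ orderOf (QuotientGroup.mk' Z3 g) ∣ 4) := by
  classical
  have hq := one_lt_q (F := F)
  have hd0 : 0 < d := Nat.gcd_pos_of_pos_left _ (by norm_num)
  set χ := Matrix.charpoly (g : Mat3) with hχdef
  have hχ : aeval (g : Mat3) χ = 0 := Matrix.aeval_self_charpoly _
  have hmon : χ.Monic := Matrix.charpoly_monic _
  have hdeg : χ.natDegree = 3 := by rw [hχdef, Matrix.charpoly_natDegree_eq_dim, Fintype.card_fin]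
  have hc0 : χ.coeff 0 = -1 := by
    have h := Matrix.det_eq_sign_charpoly_coeff (g : Mat3)
    rw [g.prop, Fintype.card_fin, ← hχdef] at h
    linear_combination h
  by_cases hroot : ∃ a, χ.IsRoot a
  swap
  · -- irreducible
    left
    have hirr : Irreducible χ := by
      rw [Polynomial.Monic.irreducible_iff_roots_eq_zero_of_degree_le_three hmon (by omega) (by omega)]
      refine Multiset.eq_zero_of_forall_notMem fun a ha => hroot ⟨a, ?_⟩
      exact (mem_roots'.1 ha).2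
    haveI := Fact.mk hirr
    have hN : (q ^ χ.natDegree - 1) / (q - 1) = q ^ 2 + q + 1 := by
      rw [hdeg, ← Nat.geomSum_eq hq]; simp [Finset.sum_range_succ]; ring
    have h1 : AdjoinRoot.root χ ^ (q ^ 2 + q + 1) = 1 := by
      rw [← hN, root_norm hmon, hdeg, hc0]; norm_num
    obtain ⟨c, -, hc⟩ := mem_base (F := F) (k := AdjoinRoot.root χ ^ ((q ^ 2 + q + 1) / d))
      (by rw [← pow_mul, Nat.div_mul_cancel dvd_N, h1])
    refine orderOf_mk_dvd g (c := c) (pow_eq_scalar hχ (AdjoinRoot.mk_eq_zero.1 ?_))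
    rw [map_sub, map_pow, AdjoinRoot.mk_X, AdjoinRoot.mk_C, ← AdjoinRoot.algebraMap_eq, hc, sub_self]
  obtain ⟨a, ha⟩ := hroot
  obtain ⟨h, hh⟩ := dvd_iff_isRoot.2 ha
  have hhmon : h.Monic := (monic_X_sub_C a).of_mul_monic_left (hh ▸ hmon)
  have hhdeg : h.natDegree = 2 := by
    have := hdeg
    rw [hh, (monic_X_sub_C a).natDegree_mul hhmon, natDegree_X_sub_C] at this
    omega
  have ha0 : a * h.coeff 0 = 1 := by
    have h1 := hc0
    rw [hh, mul_coeff_zero, coeff_sub, coeff_X_zero, coeff_C_zero] at h1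
    linear_combination -h1
  by_cases hroot2 : ∃ b, h.IsRoot b
  swap
  · -- a point and an irreducible quadratic
    right; left
    have hirr : Irreducible h := by
      rw [Polynomial.Monic.irreducible_iff_roots_eq_zero_of_degree_le_three hhmon (by omega) (by omega)]
      refine Multiset.eq_zero_of_forall_notMem fun b hb => hroot2 ⟨b, ?_⟩
      exact (mem_roots'.1 hb).2
    haveI := Fact.mk hirr
    have hN : (q ^ h.natDegree - 1) / (q - 1) = q + 1 := by
      rw [hhdeg, ← Nat.geomSum_eq hq]; simp [Finset.sum_range_succ]; ring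
    have h1 : AdjoinRoot.root h ^ (q + 1) = algebraMap F (AdjoinRoot h) (h.coeff 0) := by
      rw [← hN, root_norm hhmon, hhdeg]; norm_num
    have hq2 : q ^ 2 - 1 = (q + 1) * (q - 1) := by simpa using Nat.sq_sub_sq q 1
    have hb0 : h.coeff 0 ≠ 0 := right_ne_zero_of_mul_eq_one ha0
    obtain ⟨c, hcd, hc⟩ := mem_base (F := F) (k := AdjoinRoot.root h ^ ((q ^ 2 - 1) / d))
      (by rw [← pow_mul, Nat.div_mul_cancel dvd_sq, hq2, pow_mul, h1, ← map_pow,
        FiniteField.pow_card_sub_one_eq_one _ hb0, map_one])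
    have haj : a ^ ((q ^ 2 - 1) / d) = c := by
      have e1 : h.coeff 0 ^ ((q ^ 2 - 1) / d) = c ^ (q + 1) := by
        apply (algebraMap F (AdjoinRoot h)).injective
        rw [map_pow, map_pow, ← h1, ← pow_mul, mul_comm, pow_mul, hc]
      have e2 : a ^ ((q ^ 2 - 1) / d) * c ^ (q + 1) = 1 := by rw [← e1, ← mul_pow, ha0, one_pow]
      obtain ⟨t, ht⟩ := dvd_N2 (F := F)
      have e3 : c * c ^ (q + 1) = 1 := by rw [← pow_succ', ht, pow_mul, hcd, one_pow]
      exact mul_right_cancel₀ (right_ne_zero_of_mul_eq_one e3) (e2.trans e3.symm)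
    refine orderOf_mk_dvd g (c := c) (pow_eq_scalar hχ ?_)
    rw [hh]
    refine ((irreducible_X_sub_C a).coprime_iff_not_dvd.2 fun hd => hroot2 ⟨a, dvd_iff_isRoot.1 hd⟩).mul_dvd
      (dvd_iff_isRoot.2 (by simp [IsRoot, haj])) (AdjoinRoot.mk_eq_zero.1 ?_)
    rw [map_sub, map_pow, AdjoinRoot.mk_X, AdjoinRoot.mk_C, ← AdjoinRoot.algebraMap_eq, hc, sub_self]
  obtain ⟨b, hb⟩ := hroot2
  obtain ⟨h', hh'⟩ := dvd_iff_isRoot.2 hb
  have hh'mon : h'.Monic := (monic_X_sub_C b).of_mul_monic_left (hh' ▸ hhmon)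
  obtain ⟨c, rfl⟩ : ∃ c, h' = X - C c := by
    have := hhdeg
    rw [hh', (monic_X_sub_C b).natDegree_mul hh'mon, natDegree_X_sub_C] at this
    refine ⟨-h'.coeff 0, ?_⟩
    rw [map_neg, sub_neg_eq_add]
    exact hh'mon.eq_X_add_C (by omega)
  have habc : a * b * c = 1 := by
    rw [hh', mul_coeff_zero, coeff_sub, coeff_sub, coeff_X_zero, coeff_C_zero, coeff_C_zero] at ha0
    linear_combination ha0
  rw [hh'] at hh
  clear hh' hhdeg hhmon hb ha hh'mon ha0 h
  by_cases hall : a ≠ b ∧ a ≠ c ∧ b ≠ c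
  · right; right; left
    obtain ⟨hab, hac, hbc⟩ := hall
    have hone : ∀ x : F, x ≠ 0 → X - C x ∣ X ^ (q - 1) - C 1 := fun x hx =>
      dvd_iff_isRoot.2 (by simp [IsRoot, FiniteField.pow_card_sub_one_eq_one x hx])
    refine orderOf_mk_dvd g (c := 1) (pow_eq_scalar hχ ?_)
    rw [hh]
    refine ((coprime_aux hab).mul_right (coprime_aux hac)).mul_dvd (hone a ?_)
      ((coprime_aux hbc).mul_dvd (hone b ?_) (hone c ?_)) <;>
    · intro e; rw [e] at habc; simp at habc
  -- a repeated root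
  have key : ∀ u v : F, u * u * v = 1 → χ = (X - C u) ^ 2 * (X - C v) →
      orderOf (QuotientGroup.mk' Z3 g) ∣ p * (q - 1) / d ∨
        (p = 2 ∧ orderOf (QuotientGroup.mk' Z3 g) ∣ 4) := by
    intro u v huv hχ'
    by_cases h4 : p = 2 ∧ u = v
    · refine Or.inr ⟨h4.1, orderOf_mk_dvd g (c := u ^ 4) (pow_eq_scalar hχ ?_)⟩
      obtain ⟨rfl, rfl⟩ := h4
      haveI : CharP F[X] 2 := inferInstance
      have e : (X : F[X]) ^ 4 - C (u ^ 4) = (X - C u) ^ (2 ^ 2) := by
        rw [sub_pow_char_pow, map_pow]; norm_num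
      rw [hχ', ← pow_succ, e]
      exact pow_dvd_pow _ (by norm_num)
    left
    have hu : u ≠ 0 := fun e => by simp [e] at huv
    have hj : ((q - 1) / d) * d = q - 1 := Nat.div_mul_cancel (Nat.gcd_dvd_right _ _)
    set s := u ^ ((q - 1) / d) with hs
    have hsd : s ^ d = 1 := by rw [hs, ← pow_mul, hj, FiniteField.pow_card_sub_one_eq_one u hu]
    have hs3 : s * s * s = 1 := by
      obtain ⟨t, ht⟩ := Nat.gcd_dvd_left 3 (q - 1)
      rw [← pow_three', ht, pow_mul, hsd, one_pow]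
    have hv : v ^ ((q - 1) / d) = s := by
      have e2 : s * s * v ^ ((q - 1) / d) = 1 := by rw [hs, ← mul_pow, ← mul_pow, huv, one_pow]
      exact mul_left_cancel₀ (left_ne_zero_of_mul_eq_one hs3) (e2.trans hs3.symm)
    rw [Nat.mul_div_assoc p (Nat.gcd_dvd_right _ _)]
    refine orderOf_mk_dvd g (c := s ^ p) (pow_eq_scalar hχ ?_)
    rw [hχ', map_pow, mul_comm p, pow_mul, ← sub_pow_char]
    have h1 : X - C u ∣ X ^ ((q - 1) / d) - C s := dvd_iff_isRoot.2 (by simp [IsRoot, hs])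
    have h2 : X - C v ∣ X ^ ((q - 1) / d) - C s := dvd_iff_isRoot.2 (by simp [IsRoot, hv])
    by_cases hp2 : p = 2
    · have huv' : u ≠ v := fun e => h4 ⟨hp2, e⟩
      rw [hp2]
      exact (coprime_aux huv').pow_left.mul_dvd (pow_dvd_pow_of_dvd h1 2) (dvd_pow h2 two_ne_zero)
    · have hp3 : 3 ≤ p := by have := (Fact.out : p.Prime).two_le; omega
      refine Dvd.dvd.trans (mul_dvd_mul (pow_dvd_pow_of_dvd h1 2) h2) ?_
      rw [← pow_succ]
      exact pow_dvd_pow _ hp3
  right; right; right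
  rw [not_and_or, not_and_or, not_ne_iff, not_ne_iff, not_ne_iff] at hall
  rcases hall with e | e | e
  · subst e; exact key a c habc (by rw [hh, sq, mul_assoc])
  · subst e; exact key a b (by linear_combination habc) (by rw [hh]; ring)
  · subst e; exact key b a (by linear_combination habc) (by rw [hh]; ring)

theorem exists_order_of_dvd {m : ℕ} (g : SL3) (h : m ∣ orderOf (QuotientGroup.mk' Z3 g)) :
    ∃ x : Matrix.ProjectiveSpecialLinearGroup (Fin 3) F, orderOf x = m :=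
  ⟨_, orderOf_pow_orderOf_div (orderOf_pos (QuotientGroup.mk' Z3 g)).ne' h⟩

theorem exists_singer : ∃ g : SL3, (q ^ 2 + q + 1) / d ∣ orderOf (QuotientGroup.mk' Z3 g) := by
  obtain ⟨c, hchar⟩ := CharP.exists F
  haveI := hchar
  haveI : Fact c.Prime := ⟨CharP.char_is_prime F c⟩
  let K := FiniteField.Extension F c 3
  have hK : Nat.card K = q ^ 3 := by rw [FiniteField.natCard_extension, Nat.card_eq_fintype_card]
  let b : Module.Basis (Fin 3) F K := Module.finBasisOfFinrankEq F K (FiniteField.finrank_extension F c 3)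
  obtain ⟨u, hu⟩ := IsCyclic.exists_generator (α := Kˣ)
  have ho : orderOf u = q ^ 3 - 1 := by rw [orderOf_eq_card_of_forall_mem_zpowers hu, Nat.card_units, hK]
  have hq := one_lt_q (F := F)
  have hN : (q ^ 3 - 1) / (q - 1) = q ^ 2 + q + 1 := by
    rw [← Nat.geomSum_eq hq]; simp [Finset.sum_range_succ]; ring
  set y : K := ((u ^ (q - 1) : Kˣ) : K) with hydef
  have hy : orderOf y = q ^ 2 + q + 1 := by
    rw [hydef, orderOf_units, orderOf_pow_of_dvd (by omega) (ho ▸ Nat.sub_one_dvd_pow_sub_one q 3), ho, hN]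
  have hnorm : Algebra.norm F y = 1 := by
    apply (algebraMap F K).injective
    rw [map_one, FiniteField.algebraMap_norm_eq_pow, hK, Nat.card_eq_fintype_card, hN, ← hy, pow_orderOf_eq_one]
  refine ⟨⟨Algebra.leftMulMatrix b y, by rw [← Algebra.norm_eq_matrix_det, hnorm]⟩, ?_⟩
  set g : SL3 := ⟨Algebra.leftMulMatrix b y, by rw [← Algebra.norm_eq_matrix_det, hnorm]⟩
  obtain ⟨s, hs, hgs⟩ := exists_scalar g
  have hys : y ^ orderOf (QuotientGroup.mk' Z3 g) = algebraMap F K s := by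
    apply Algebra.leftMulMatrix_injective b
    rw [map_pow, AlgHom.commutes]
    exact hgs
  refine (Nat.div_dvd_iff_dvd_mul dvd_N (Nat.gcd_pos_of_pos_left _ (by norm_num))).2 ?_
  · rw [← hy, mul_comm]
    exact orderOf_dvd_of_pow_eq_one (by rw [pow_mul, hys, ← map_pow, hs, map_one])

theorem exists_quadratic : ∃ g : SL3, (q ^ 2 - 1) / d ∣ orderOf (QuotientGroup.mk' Z3 g) := by
  obtain ⟨c, hchar⟩ := CharP.exists F
  haveI := hchar
  haveI : Fact c.Prime := ⟨CharP.char_is_prime F c⟩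
  let K := FiniteField.Extension F c 2
  have hK : Nat.card K = q ^ 2 := by rw [FiniteField.natCard_extension, Nat.card_eq_fintype_card]
  let b : Module.Basis (Fin 2) F K := Module.finBasisOfFinrankEq F K (FiniteField.finrank_extension F c 2)
  obtain ⟨u, hu⟩ := IsCyclic.exists_generator (α := Kˣ)
  set y : K := (u : K)
  have hy : orderOf y = q ^ 2 - 1 := by
    rw [orderOf_units, orderOf_eq_card_of_forall_mem_zpowers hu, Nat.card_units, hK]
  have hν : (Algebra.leftMulMatrix b y).det ≠ 0 := by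
    rw [← Algebra.norm_eq_matrix_det]; exact Algebra.norm_ne_zero_iff.2 u.ne_zero
  let Φ := Matrix.reindexAlgEquiv F F (finSumFinEquiv : Fin 2 ⊕ Fin 1 ≃ Fin 3)
  set D : Matrix (Fin 1) (Fin 1) F := Matrix.diagonal fun _ => (Algebra.leftMulMatrix b y).det⁻¹
  set M := Φ (Matrix.fromBlocks (Algebra.leftMulMatrix b y) 0 0 D) with hM
  have hdet : M.det = 1 := by
    rw [hM, Matrix.det_reindexAlgEquiv, Matrix.det_fromBlocks_zero₂₁, Matrix.det_diagonal]
    simp [mul_inv_cancel₀ hν]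
  refine ⟨⟨M, hdet⟩, ?_⟩
  obtain ⟨s, hs, hgs⟩ := exists_scalar (⟨M, hdet⟩ : SL3)
  set o := orderOf (QuotientGroup.mk' Z3 (⟨M, hdet⟩ : SL3))
  have hpow : ∀ l : ℕ, Matrix.fromBlocks (Algebra.leftMulMatrix b y) 0 0 D ^ l =
      Matrix.fromBlocks (Algebra.leftMulMatrix b y ^ l) 0 0 (D ^ l) := fun l => by
    induction l with
    | zero => simp [Matrix.fromBlocks_one]
    | succ l ih => rw [pow_succ, pow_succ, pow_succ, ih, Matrix.fromBlocks_multiply]; simp
  have hblock : Matrix.fromBlocks (Algebra.leftMulMatrix b y ^ o) 0 0 (D ^ o) = s • 1 := by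
    apply Φ.injective
    rw [← hpow, map_pow, map_smul, map_one, ← Algebra.algebraMap_eq_smul_one]
    exact hgs
  rw [← Matrix.fromBlocks_one, Matrix.fromBlocks_smul] at hblock
  have hys : y ^ o = algebraMap F K s := by
    apply Algebra.leftMulMatrix_injective b
    rw [map_pow, AlgHom.commutes, (Matrix.fromBlocks_inj.1 hblock).1, Algebra.algebraMap_eq_smul_one]
  refine (Nat.div_dvd_iff_dvd_mul dvd_sq (Nat.gcd_pos_of_pos_left _ (by norm_num))).2 ?_
  · rw [← hy, mul_comm]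
    exact orderOf_dvd_of_pow_eq_one (by rw [pow_mul, hys, ← map_pow, hs, map_one])

theorem exists_split : ∃ g : SL3, q - 1 ∣ orderOf (QuotientGroup.mk' Z3 g) := by
  obtain ⟨u, hu⟩ := IsCyclic.exists_generator (α := Fˣ)
  have ho : orderOf (u : F) = q - 1 := by
    rw [orderOf_units, orderOf_eq_card_of_forall_mem_zpowers hu, Nat.card_units, Nat.card_eq_fintype_card]
  have hdet : (Matrix.diagonal ![(u : F), (u : F)⁻¹, 1]).det = 1 := by
    rw [Matrix.det_diagonal, Fin.prod_univ_three]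
    simp
  refine ⟨⟨_, hdet⟩, ?_⟩
  obtain ⟨s, -, hgs⟩ := exists_scalar (⟨_, hdet⟩ : SL3)
  generalize orderOf (QuotientGroup.mk' Z3 (⟨_, hdet⟩ : SL3)) = o at hgs ⊢
  rw [Matrix.diagonal_pow, Matrix.algebraMap_eq_diagonal] at hgs
  have h2 := congrFun (Matrix.diagonal_injective hgs) 2
  have h0 := congrFun (Matrix.diagonal_injective hgs) 0
  simp at h2 h0
  rw [← ho]
  exact orderOf_dvd_of_pow_eq_one (by rw [h0, ← h2])

/-- A matrix `[[a, 1, 0], [0, a, 0], [0, 0, b]]`. -/
def jordan2 (a b : F) : Mat3 := !![a, 1, 0; 0, a, 0; 0, 0, b]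

theorem jordan2_pow (a b : F) (l : ℕ) :
    a • jordan2 a b ^ l = !![a ^ (l + 1), l * a ^ l, 0; 0, a ^ (l + 1), 0; 0, 0, a * b ^ l] := by
  induction l with
  | zero => ext i j; fin_cases i <;> fin_cases j <;> simp
  | succ l ih =>
    rw [pow_succ, ← smul_mul_assoc, ih, jordan2]
    ext i j
    fin_cases i <;> fin_cases j <;> simp [Matrix.mul_apply, Fin.sum_univ_three, pow_succ] <;> ring

theorem exists_jordan (p : ℕ) [Fact p.Prime] [CharP F p] :
    ∃ g : SL3, p * (q - 1) / d ∣ orderOf (QuotientGroup.mk' Z3 g) := by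
  obtain ⟨u, hu⟩ := IsCyclic.exists_generator (α := Fˣ)
  have ho : orderOf (u : F) = q - 1 := by
    rw [orderOf_units, orderOf_eq_card_of_forall_mem_zpowers hu, Nat.card_units, Nat.card_eq_fintype_card]
  have hu0 : (u : F) ≠ 0 := u.ne_zero
  have hdet : (jordan2 (u : F) ((u : F)⁻¹ * (u : F)⁻¹)).det = 1 := by
    rw [jordan2, Matrix.det_fin_three]
    simp; field_simp
  refine ⟨⟨_, hdet⟩, ?_⟩
  obtain ⟨s, hs, hgs⟩ := exists_scalar (⟨_, hdet⟩ : SL3)
  set o := orderOf (QuotientGroup.mk' Z3 (⟨_, hdet⟩ : SL3))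
  have h := jordan2_pow (u : F) ((u : F)⁻¹ * (u : F)⁻¹) o
  rw [show jordan2 (u : F) ((u : F)⁻¹ * (u : F)⁻¹) ^ o = algebraMap F Mat3 s from hgs] at h
  have h00 := congrFun (congrFun h 0) 0
  have h01 := congrFun (congrFun h 0) 1
  simp [Matrix.algebraMap_eq_diagonal] at h00 h01
  have hpo : p ∣ o := by
    rw [← CharP.cast_eq_zero_iff F p]
    exact h01
  have hqo : (q - 1) / d ∣ o := by
    refine (Nat.div_dvd_iff_dvd_mul (Nat.gcd_dvd_right _ _) (Nat.gcd_pos_of_pos_left _ (by norm_num))).2 ?_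
    rw [← ho, mul_comm]
    refine orderOf_dvd_of_pow_eq_one ?_
    have e : (u : F) ^ o = s := mul_left_cancel₀ hu0 (by rw [← pow_succ', ← h00])
    rw [pow_mul, e, ho, hs]
  have hcop : p.Coprime ((q - 1) / d) := by
    refine (Nat.Prime.coprime_iff_not_dvd Fact.out).2 fun hd => ?_
    have h1 : p ∣ q - 1 := hd.trans (Nat.div_dvd_of_dvd (Nat.gcd_dvd_right _ _))
    obtain ⟨f, -, hf⟩ := FiniteField.card F p
    have h2 : p ∣ q := hf ▸ dvd_pow_self p f.pos.ne'
    have h3 := Nat.dvd_sub h2 h1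
    rw [Nat.sub_sub_self (one_lt_q (F := F)).le] at h3
    exact (Fact.out : p.Prime).ne_one (Nat.dvd_one.1 h3)
  rw [Nat.mul_div_assoc p (Nat.gcd_dvd_right _ _)]
  exact hcop.mul_dvd_of_dvd_of_dvd hpo hqo

theorem exists_regular_unipotent (p : ℕ) [Fact p.Prime] [CharP F p] (hp : p = 2) :
    ∃ g : SL3, 4 ∣ orderOf (QuotientGroup.mk' Z3 g) := by
  subst hp
  have hdet : (!![1, 1, 0; 0, 1, 1; 0, 0, 1] : Mat3).det = 1 := by rw [Matrix.det_fin_three]; simp
  refine ⟨⟨_, hdet⟩, ?_⟩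
  have h2 : (2 : F) = 0 := by exact_mod_cast CharP.cast_eq_zero F 2
  have h4 : (!![1, 1, 0; 0, 1, 1; 0, 0, 1] : Mat3) ^ 4 = algebraMap F Mat3 1 := by
    rw [show (4 : ℕ) = 2 + 2 from rfl, pow_add, sq, map_one]
    ext i j
    fin_cases i <;> fin_cases j <;> simp [Matrix.mul_apply, Fin.sum_univ_three] <;>
      first
        | linear_combination h2
        | linear_combination (2 : F) * h2
        | linear_combination (3 : F) * h2
  have hd := orderOf_mk_dvd (⟨_, hdet⟩ : SL3) h4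
  obtain ⟨s, -, hgs⟩ := exists_scalar (⟨_, hdet⟩ : SL3)
  set o := orderOf (QuotientGroup.mk' Z3 (⟨_, hdet⟩ : SL3))
  have hne : ¬ o ∣ 2 := by
    rintro ⟨t, ht⟩
    have e := congrArg (· ^ t) hgs
    simp only [← pow_mul, ← map_pow] at e
    rw [← ht] at e
    have h22 : (!![1, 1, 0; 0, 1, 1; 0, 0, 1] : Mat3) ^ 2 = algebraMap F Mat3 (s ^ t) := e
    have := congrFun (congrFun h22 0) 2
    simp [sq, Matrix.mul_apply, Fin.sum_univ_three, Matrix.algebraMap_eq_diagonal] at this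
  obtain ⟨i, hi, hoi⟩ := (Nat.dvd_prime_pow Nat.prime_two).1 (show o ∣ 2 ^ 2 from hd)
  rw [hoi] at hne ⊢
  interval_cases i <;> simp_all

end

/-- The set of element orders of PSL(3,q): let F be a finite field of characteristic p with q elements and d = gcd(3, q − 1). The orders of elements of PSL(3,F) are exactly the divisors of (q² + q + 1)/d, of (q² − 1)/d, of q − 1, of p(q − 1)/d, and, when p = 2, of 4. -/
theorem result {F : Type*} [Field F] [Fintype F] (p : ℕ) [Fact p.Prime] [CharP F p] :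
    Set.range (orderOf : Matrix.ProjectiveSpecialLinearGroup (Fin 3) F → ℕ) =
      {m : ℕ | m ∣ (Fintype.card F ^ 2 + Fintype.card F + 1) / Nat.gcd 3 (Fintype.card F - 1) ∨
        m ∣ (Fintype.card F ^ 2 - 1) / Nat.gcd 3 (Fintype.card F - 1) ∨ m ∣ Fintype.card F - 1 ∨
        m ∣ p * (Fintype.card F - 1) / Nat.gcd 3 (Fintype.card F - 1) ∨ (p = 2 ∧ m ∣ 4)} := by
  ext m
  constructor
  · rintro ⟨x, rfl⟩
    obtain ⟨g, rfl⟩ := QuotientGroup.mk'_surjective (Subgroup.center (Matrix.SpecialLinearGroup (Fin 3) F)) x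
    exact order_cases p g
  · rintro (h | h | h | h | ⟨hp, h⟩)
    · obtain ⟨g, hg⟩ := exists_singer (F := F); exact exists_order_of_dvd g (h.trans hg)
    · obtain ⟨g, hg⟩ := exists_quadratic (F := F); exact exists_order_of_dvd g (h.trans hg)
    · obtain ⟨g, hg⟩ := exists_split (F := F); exact exists_order_of_dvd g (h.trans hg)
    · obtain ⟨g, hg⟩ := exists_jordan (F := F) p; exact exists_order_of_dvd g (h.trans hg)
    · obtain ⟨g, hg⟩ := exists_regular_unipotent (F := F) p hp; exact exists_order_of_dvd g (h.trans hg)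

end Cfsg.Agent.S2476
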