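import Cfsg.Statements.S0228
import Mathlib

set_option autoImplicit false
open Cfsg

namespace Cfsg.Agent.S0228

/-- A group of order 12 in which no involution is central is isomorphic to the alternating group on four letters. -/
theorem result {G : Type*} [Group G] [Finite G] (hG : Nat.card G = 12) (hz : ∀ z : G, orderOf z = 2 → z ∉ Subgroup.center G) : Nonempty (G ≃* alternatingGroup (Fin 4)) := by
  classical
  have : Fact (Nat.Prime 3) := ⟨Nat.prime_three⟩
  have : Fact (Nat.Prime 2) := ⟨Nat.prime_two⟩
  obtain ⟨K, hK⟩ := Sylow.exists_subgroup_card_pow_prime (G := G) 3 (n := 1) (by rw [hG]; norm_num)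
  rw [pow_one] at hK
  have hidx : K.index = 4 := by
    have := K.index_mul_card
    rw [hK, hG] at this
    omega
  by_cases hn : K.Normal
  · exfalso
    have hKC : IsMulCommutative K := (isCyclic_of_prime_card hK).isMulCommutative
    set C := Subgroup.centralizer (K : Set G) with hC
    have hKleC : K ≤ C := fun k hk => by
      rw [hC, Subgroup.mem_centralizer_iff]
      intro l hl
      exact congrArg Subtype.val (mul_comm' (⟨l, hl⟩ : K) ⟨k, hk⟩)
    have hCn : C.Normal := by rw [hC]; infer_instance
    -- a complement of order four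
    obtain ⟨P, hP⟩ := Sylow.exists_subgroup_card_pow_prime (G := G) 2 (n := 2) (by rw [hG]; norm_num)
    have hPc : IsMulCommutative P := IsPGroup.isMulCommutative_of_card_eq_prime_sq hP
    obtain ⟨y, hy⟩ : ∃ y : G, K = Subgroup.zpowers y := by
      have := isCyclic_of_prime_card hK
      obtain ⟨⟨y, hy⟩, h⟩ := IsCyclic.exists_generator (α := K)
      refine ⟨y, le_antisymm (fun k hk => ?_) (Subgroup.zpowers_le.mpr hy)⟩
      obtain ⟨i, hi⟩ := Subgroup.mem_zpowers_iff.mp (h ⟨k, hk⟩)
      exact Subgroup.mem_zpowers_iff.mpr ⟨i, congrArg Subtype.val hi⟩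
    have hyo : orderOf y = 3 := by rw [← Nat.card_zpowers, ← hy, hK]
    have hcop : K ⊓ P = ⊥ := Subgroup.inf_eq_bot_of_coprime (by rw [hK, hP]; norm_num)
    have htop : K ⊔ P = ⊤ := by
      refine Subgroup.eq_top_of_card_eq _ ?_
      have h1 := Subgroup.card_dvd_of_le (le_sup_left : K ≤ K ⊔ P)
      have h2 := Subgroup.card_dvd_of_le (le_sup_right : P ≤ K ⊔ P)
      rw [hK] at h1
      rw [hP] at h2
      have h3 := (Nat.Coprime.mul_dvd_of_dvd_of_dvd (by norm_num) h1 h2)
      have h4 := Subgroup.card_le_card_group (K ⊔ P)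
      have h5 : 0 < Nat.card ↥(K ⊔ P) := Nat.card_pos
      have := Nat.le_of_dvd h5 h3
      omega
    -- an involution of `P` centralizing `y`
    obtain ⟨z, hzP, hz2, hzy⟩ : ∃ z ∈ P, orderOf z = 2 ∧ z * y = y * z := by
      have conj2 : ∀ g : G, g * y * g⁻¹ = y ∨ g * y * g⁻¹ = y⁻¹ := by
        intro g
        have hm : g * y * g⁻¹ ∈ Subgroup.zpowers y := by
          rw [← hy]; exact hn.conj_mem y (hy ▸ Subgroup.mem_zpowers y) g
        obtain ⟨i, hi : y ^ i = g * y * g⁻¹⟩ := hm
        have h3 : y ^ (3 : ℤ) = 1 := by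
          rw [show (3 : ℤ) = ((3 : ℕ) : ℤ) from rfl, zpow_natCast, ← hyo, pow_orderOf_eq_one]
        rw [← hi, ← Int.emod_add_mul_ediv i 3, zpow_add, zpow_mul, h3, one_zpow, mul_one]
        rcases (show i % 3 = 0 ∨ i % 3 = 1 ∨ i % 3 = 2 by omega) with e | e | e
        · exfalso
          rw [← Int.emod_add_mul_ediv i 3, zpow_add, zpow_mul, h3, one_zpow, mul_one, e, zpow_zero] at hi
          have : y = 1 := by simpa using hi.symm
          rw [this, orderOf_one] at hyo
          omega
        · rw [e]; simp
        · rw [e]; right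
          refine eq_inv_of_mul_eq_one_left ?_
          nth_rw 2 [← zpow_one y]
          rw [← zpow_add]; exact h3
      obtain ⟨⟨w, hwP⟩, hw⟩ := exists_prime_orderOf_dvd_card' (G := P) 2 (by rw [hP]; norm_num)
      rw [Subgroup.orderOf_mk] at hw
      rcases conj2 w with h | h
      · exact ⟨w, hwP, hw, mul_inv_eq_iff_eq_mul.mp h⟩
      · -- some element of `P` outside `⟨w⟩`
        obtain ⟨v, hvP, hvw⟩ : ∃ v ∈ P, v ∉ Subgroup.zpowers w := by
          by_contra hc
          push Not at hc
          have := Subgroup.card_dvd_of_le (fun v hv => hc v hv : P ≤ Subgroup.zpowers w)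
          rw [hP, Nat.card_zpowers, hw] at this
          norm_num at this
        have hv4 : v ^ 4 = 1 := by
          have := pow_card_eq_one' (x := (⟨v, hvP⟩ : P))
          rw [hP] at this
          exact congrArg Subtype.val this
        have hv2c : v ^ 2 * y = y * v ^ 2 := by
          rw [← mul_inv_eq_iff_eq_mul]
          have e : v ^ 2 * y * (v ^ 2)⁻¹ = v * (v * y * v⁻¹) * v⁻¹ := by rw [pow_two]; group
          rw [e]
          rcases conj2 v with h' | h' <;> rw [h']
          · exact h'
          · rw [show v * y⁻¹ * v⁻¹ = (v * y * v⁻¹)⁻¹ by group, h', inv_inv]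
        by_cases hv2 : v ^ 2 = 1
        · have hov : orderOf v = 2 := orderOf_eq_prime hv2
            (fun e => hvw (e ▸ one_mem _))
          rcases conj2 v with h' | h'
          · exact ⟨v, hvP, hov, mul_inv_eq_iff_eq_mul.mp h'⟩
          · refine ⟨v * w, mul_mem hvP hwP, ?_, ?_⟩
            · refine orderOf_eq_prime ?_ (fun e => hvw ?_)
              · have hc : Commute v w :=
                  congrArg Subtype.val (mul_comm' (⟨v, hvP⟩ : P) ⟨w, hwP⟩)
                rw [hc.mul_pow, hv2, ← hw, pow_orderOf_eq_one, one_mul]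
              · rw [eq_inv_of_mul_eq_one_left e]; exact inv_mem (Subgroup.mem_zpowers w)
            · rw [← mul_inv_eq_iff_eq_mul, show v * w * y * (v * w)⁻¹ = v * (w * y * w⁻¹) * v⁻¹ by group,
                h, show v * y⁻¹ * v⁻¹ = (v * y * v⁻¹)⁻¹ by group, h', inv_inv]
        · exact ⟨v ^ 2, pow_mem hvP 2, orderOf_eq_prime (by rw [← pow_mul]; exact hv4) hv2, hv2c⟩
    refine hz z hz2 (Subgroup.mem_center_iff.mpr fun g => ?_)
    have hle : K ⊔ P ≤ Subgroup.centralizer ({z} : Set G) := by
      refine sup_le ?_ ?_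
      · rw [hy]
        exact Subgroup.zpowers_le.mpr (Subgroup.mem_centralizer_singleton_iff.mpr hzy.symm)
      · intro p hp
        exact Subgroup.mem_centralizer_singleton_iff.mpr
          (congrArg Subtype.val (mul_comm' (⟨p, hp⟩ : P) ⟨z, hzP⟩))
    rw [htop] at hle
    exact Subgroup.mem_centralizer_singleton_iff.mp (hle (Subgroup.mem_top g))
  · -- the action on the cosets of `K` is faithful
    set φ := MulAction.toPermHom G (G ⧸ K) with hφ
    have hinj : Function.Injective φ := by
      rw [← MonoidHom.ker_eq_bot_iff, hφ, ← Subgroup.normalCore_eq_ker]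
      have hle := Subgroup.card_dvd_of_le (Subgroup.normalCore_le K)
      rw [hK] at hle
      rcases (Nat.dvd_prime Nat.prime_three).mp hle with h | h
      · exact Subgroup.eq_bot_of_card_eq _ h
      · exfalso
        apply hn
        have : K.normalCore = K := Subgroup.eq_of_le_of_card_ge (Subgroup.normalCore_le K)
          (by rw [h, hK])
        rw [← this]
        infer_instance
    let e : G ⧸ K ≃ Fin 4 := by
      refine Finite.equivFinOfCardEq ?_
      exact hidx
    set ψ : G →* Equiv.Perm (Fin 4) := e.permCongrHom.toMonoidHom.comp φ with hψ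
    have hψi : Function.Injective ψ := e.permCongrHom.injective.comp hinj
    have hrange : ψ.range = alternatingGroup (Fin 4) := by
      apply Equiv.Perm.eq_alternatingGroup_of_index_eq_two
      have h := ψ.range.index_mul_card
      rw [← Nat.card_congr (MonoidHom.ofInjective hψi).toEquiv, hG,
        Nat.card_eq_fintype_card (α := Equiv.Perm (Fin 4)), Fintype.card_perm, Fintype.card_fin] at h
      norm_num [Nat.factorial] at h
      omega
    exact ⟨(MonoidHom.ofInjective hψi).trans (MulEquiv.subgroupCongr hrange)⟩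

end Cfsg.Agent.S0228
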