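import Cfsg.Statements.S0800

set_option autoImplicit false
open Cfsg

namespace Cfsg.Agent.S0800

/-- Tori of SL_2(q): if g ∈ SL_2(q) has order coprime to the characteristic p, then the order of g divides q − 1 or q + 1. -/
theorem result {F : Type*} [Field F] [Fintype F] {q : ℕ} (hF : Fintype.card F = q) (p : ℕ) [Fact p.Prime] [CharP F p] (g : Matrix.SpecialLinearGroup (Fin 2) F) (hg : Nat.Coprime (orderOf g) p) : orderOf g ∣ q - 1 ∨ orderOf g ∣ q + 1 := by
  classical
  set M := (g : Matrix (Fin 2) (Fin 2) F) with hM
  have hdet : M.det = 1 := g.2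
  have hch : M * M - M.trace • M + 1 = 0 := by
    rw [Matrix.det_fin_two] at hdet
    ext a b
    fin_cases a <;> fin_cases b <;>
      simp [Matrix.mul_apply, Fin.sum_univ_two, Matrix.trace_fin_two] <;> first | linear_combination hdet | linear_combination -hdet | ring1
  set tr := M.trace
  have hcast : ∀ k : ℕ, ((g ^ k : Matrix.SpecialLinearGroup (Fin 2) F) :
      Matrix (Fin 2) (Fin 2) F) = M ^ k := fun k => Matrix.SpecialLinearGroup.coe_pow g k
  have hdvd : ∀ {k : ℕ}, M ^ k = 1 → orderOf g ∣ k := fun {k} h =>
    orderOf_dvd_of_pow_eq_one (Subtype.ext ((hcast k).trans h))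
  subst hF
  have hq1 : 1 ≤ Fintype.card F := Fintype.card_pos
  by_cases hroot : ∃ l : F, l * l - tr * l + 1 = 0
  · obtain ⟨l, hl⟩ := hroot
    left
    have hl0 : l ≠ 0 := by
      intro h
      subst h
      simp at hl
    have hlq : l ^ (Fintype.card F - 1) = 1 := FiniteField.pow_card_sub_one_eq_one l hl0
    have htr : tr = l + l⁻¹ := by field_simp; linear_combination -hl
    have hprod : (M - l • 1) * (M - l⁻¹ • 1) = 0 := by
      rw [← hch]
      simp only [sub_mul, mul_sub, smul_mul_assoc, mul_smul_comm, mul_one, one_mul, htr]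
      match_scalars <;> field_simp <;> ring
    by_cases hll : l = l⁻¹
    · -- repeated eigenvalue: `M - l` is nilpotent
      rw [← hll] at hprod
      have hcharP : CharP (Matrix (Fin 2) (Fin 2) F) p := inferInstance
      have hp := (Fact.out : p.Prime)
      have h0 : (M - l • 1) ^ p = 0 := by
        obtain ⟨k, hk⟩ := Nat.exists_eq_add_of_le hp.two_le
        rw [hk, pow_add, pow_two, hprod, zero_mul]
      have hcomm : Commute M (l • (1 : Matrix (Fin 2) (Fin 2) F)) :=
        (Commute.one_right M).smul_right l
      rw [sub_pow_char_of_commute (p := p) hcomm, smul_pow, one_pow, sub_eq_zero] at h0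
      have hkq : M ^ (p * (Fintype.card F - 1)) = 1 := by
        rw [pow_mul, h0, smul_pow, one_pow, ← pow_mul, mul_comm, pow_mul, hlq, one_pow, one_smul]
      exact (hg.dvd_of_dvd_mul_left (hdvd hkq))
    · have hd : l - l⁻¹ ≠ 0 := sub_ne_zero.2 hll
      obtain ⟨E, hE⟩ : ∃ E, (l - l⁻¹) • E = M - l⁻¹ • (1 : Matrix (Fin 2) (Fin 2) F) :=
        ⟨(l - l⁻¹)⁻¹ • (M - l⁻¹ • 1), by rw [smul_smul, mul_inv_cancel₀ hd, one_smul]⟩
      have hME : M * E = l • E := by
        have h1 : M * (M - l⁻¹ • 1) = l • (M - l⁻¹ • 1) := by
          rw [← sub_eq_zero, ← hprod]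
          simp only [sub_mul, smul_mul_assoc, one_mul]
        rw [← hE, mul_smul_comm, smul_comm l] at h1
        exact smul_right_injective _ hd h1
      have hMF : M * (1 - E) = l⁻¹ • (1 - E) := by
        simp only [mul_sub, mul_one, hME, smul_sub]
        rw [sub_smul] at hE
        linear_combination (norm := module) -hE
      have hpow : ∀ k : ℕ, M ^ k = l ^ k • E + (l⁻¹) ^ k • (1 - E) := by
        intro k
        induction k with
        | zero => simp
        | succ k ih =>
          rw [pow_succ', ih, mul_add, mul_smul_comm, mul_smul_comm, hME, hMF, smul_smul, smul_smul,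
            pow_succ, pow_succ]
      refine hdvd ?_
      rw [hpow, hlq, inv_pow, hlq]
      simp
  · -- no eigenvalue in `F`
    push Not at hroot
    set f : Polynomial F := Polynomial.X * Polynomial.X - Polynomial.C tr * Polynomial.X + 1
    have hdeg : f.natDegree = 2 := by simp only [f]; compute_degree!
    have hirr : Irreducible f :=
      Polynomial.irreducible_of_degree_le_three_of_not_isRoot
        (by simp [Finset.mem_Icc, hdeg]) fun x hx => hroot x (by simpa [f] using hx)
    haveI := Fact.mk hirr
    have haev : Polynomial.aeval M f = 0 := by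
      rw [← hch]; simp [f, Algebra.algebraMap_eq_smul_one]
    set r := AdjoinRoot.root f
    have hpowM : ∀ {k : ℕ}, r ^ k = 1 → M ^ k = 1 := fun {k} h => by
      have h1 : AdjoinRoot.mk f (Polynomial.X ^ k) = AdjoinRoot.mk f 1 := by
        rw [map_pow, AdjoinRoot.mk_X, map_one]; exact h
      obtain ⟨c, hc⟩ := AdjoinRoot.mk_eq_mk.1 h1
      have h2 := congrArg (Polynomial.aeval M) hc
      rw [map_sub, map_pow, Polynomial.aeval_X, map_one, map_mul, haev, zero_mul, sub_eq_zero] at h2
      exact h2
    have hr : r * r - algebraMap F (AdjoinRoot f) tr * r + 1 = 0 := by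
      have := AdjoinRoot.eval₂_root f
      simpa [f] using this
    haveI : CharP (AdjoinRoot f) p := charP_of_injective_algebraMap
      (algebraMap F (AdjoinRoot f)).injective p
    obtain ⟨k, hk⟩ : ∃ k : ℕ, Fintype.card F = p ^ k :=
      ⟨_, (FiniteField.card F p).choose_spec.2⟩
    have hfix : ∀ a : F, (algebraMap F (AdjoinRoot f) a) ^ Fintype.card F =
        algebraMap F (AdjoinRoot f) a := fun a => by rw [← map_pow, FiniteField.pow_card]
    have hs : r ^ Fintype.card F * r ^ Fintype.card F -
        algebraMap F (AdjoinRoot f) tr * r ^ Fintype.card F + 1 = 0 := by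
      have h1 := congrArg (iterateFrobenius (AdjoinRoot f) p k) hr
      rw [map_add, map_sub, map_mul, map_mul, map_one, map_zero] at h1
      simp only [iterateFrobenius_def, ← hk, hfix] at h1
      exact h1
    set s := r ^ Fintype.card F with hsdef
    have hr0 : r ≠ 0 := fun h => by
      rw [h] at hr; simp at hr
    have hfac : (s - r) * (s * r - 1) = 0 := by linear_combination r * hs - s * hr
    rcases mul_eq_zero.1 hfac with h | h
    · left
      refine hdvd (hpowM ?_)
      have : r ^ (Fintype.card F - 1) = 1 := by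
        refine mul_right_cancel₀ hr0 ?_
        rw [← pow_succ, Nat.sub_add_cancel hq1, one_mul]
        exact sub_eq_zero.1 h
      exact this
    · right
      refine hdvd (hpowM ?_)
      rw [pow_succ, ← hsdef, sub_eq_zero.1 h]

end Cfsg.Agent.S0800
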