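import Cfsg.Statements.S3116
import Mathlib
import Cfsg.Agent.InvChar.CyclicIndexTwo

set_option linter.all false

set_option autoImplicit false
open Cfsg

namespace Cfsg.Agent.S3116

/-- The automorphism group of a dihedral 2-group of order at least 8, or of a quasi-dihedral (semidihedral) 2-group of order at least 16, is a 2-group. -/
theorem result {X : Type*} [Group X] [Finite X] (h2 : IsPGroup 2 X)
    (h : (∃ n : ℕ, 4 ≤ n ∧ Nonempty (X ≃* DihedralGroup n)) ∨ Cfsg.IsQuasiDihedral X) : IsPGroup 2 (MulAut X) := by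
  classical
  haveI : Fact (Nat.Prime 2) := ⟨Nat.prime_two⟩
  rcases h with ⟨n, hn, ⟨e⟩⟩ | ⟨n, hn, hcard, x, y, hx, hy, hrel⟩
  · haveI : NeZero n := ⟨by omega⟩
    set h₀ := e.symm (DihedralGroup.r 1) with hh₀
    have hout : ∀ y, y ∉ Subgroup.zpowers h₀ → y ^ 2 = 1 := by
      intro y hy
      cases hey : e y with
      | r i =>
        refine absurd ⟨((i.val : ℕ) : ℤ), e.injective ?_⟩ hy
        simp only [zpow_natCast, map_pow, hh₀, MulEquiv.apply_symm_apply, DihedralGroup.r_one_pow,
          ZMod.natCast_zmod_val, hey]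
      | sr i =>
        apply e.injective
        rw [map_pow, hey, map_one, pow_two, DihedralGroup.sr_mul_self]
    have ho : orderOf h₀ = n := by rw [hh₀, MulEquiv.orderOf_eq, DihedralGroup.orderOf_r_one]
    have hk : h₀ ^ 2 ≠ 1 := fun h => by
      have h2 := Nat.le_of_dvd (by norm_num) (orderOf_dvd_of_pow_eq_one h)
      omega
    refine Cfsg.Agent.InvChar.CyclicIndexTwo.isPGroup_mulAut h2 (Subgroup.zpowers h₀) inferInstance
      (fun φ h hh => Cfsg.Agent.InvChar.CyclicIndexTwo.map_mem_of_pow _ rfl 2 hout hk φ hh) (le_of_eq ?_)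
    have hmul := (Subgroup.zpowers h₀).card_mul_index
    rw [Nat.card_zpowers, ho, Nat.card_congr e.toEquiv, DihedralGroup.nat_card] at hmul
    exact Nat.eq_of_mul_eq_mul_left (by omega) (hmul.trans (mul_comm 2 n))
  · have h8 : 2 ^ 3 ≤ 2 ^ n := Nat.pow_le_pow_right (by norm_num) hn
    have hhalf : 2 ^ (n - 1) * 2 = 2 ^ n := by rw [← pow_succ]; congr 1; omega
    have hidx : (Subgroup.zpowers x).index = 2 := by
      have hmul := (Subgroup.zpowers x).card_mul_index
      rw [Nat.card_zpowers, hx, hcard, pow_succ] at hmul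
      exact Nat.eq_of_mul_eq_mul_left (Nat.two_pow_pos n) hmul
    have hyx : y ∉ Subgroup.zpowers x := by
      intro hmem
      obtain ⟨i, hi⟩ := hmem
      simp only at hi
      rw [← hi, (Commute.zpow_left (Commute.refl x) i).eq, mul_inv_cancel_right] at hrel
      have h2' : x ^ (2 ^ (n - 1) - 1) = x ^ 1 := by rw [pow_one]; exact hrel.symm
      rw [pow_eq_pow_iff_modEq, hx] at h2'
      have := Nat.ModEq.eq_of_lt_of_lt h2' (by omega) (by omega)
      omega
    have hy2 : y * y = 1 := by
      have := pow_orderOf_eq_one y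
      rwa [hy, pow_two] at this
    have hout : ∀ w, w ∉ Subgroup.zpowers x → w ^ 4 = 1 := by
      intro w hw
      have hd : y⁻¹ * w ∈ Subgroup.zpowers x := (Subgroup.mul_mem_iff_of_index_two hidx).2
        (iff_of_false (fun h => hyx (by simpa using Subgroup.inv_mem _ h)) hw)
      obtain ⟨i, hi⟩ := hd
      simp only at hi
      have e1 : w = y * x ^ i := by rw [hi, mul_inv_cancel_left]
      have hyi : y⁻¹ = y := inv_eq_of_mul_eq_one_right hy2
      have e2 : y * x ^ i * y⁻¹ = (x ^ (2 ^ (n - 1) - 1)) ^ i := by rw [← conj_zpow, hrel]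
      have e3 : w ^ 2 = x ^ (((2 ^ (n - 1) : ℕ) : ℤ) * i) := by
        rw [e1, pow_two]
        calc y * x ^ i * (y * x ^ i) = (y * x ^ i * y⁻¹) * (y * y) * x ^ i := by group
          _ = x ^ (((2 ^ (n - 1) - 1 : ℕ) : ℤ) * i) * x ^ i := by
            rw [e2, hy2, mul_one, ← zpow_natCast, ← zpow_mul]
          _ = _ := by
            rw [← zpow_add, Nat.cast_sub (Nat.one_le_two_pow), Nat.cast_one]
            congr 1
            ring
      rw [show (4 : ℕ) = 2 * 2 from rfl, pow_mul, e3, pow_two, ← zpow_add, ← add_mul, zpow_mul,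
        ← Nat.cast_add, zpow_natCast, ← mul_two, hhalf, ← hx, pow_orderOf_eq_one, one_zpow]
    have hk : x ^ 4 ≠ 1 := fun h => by
      have h2 := Nat.le_of_dvd (by norm_num) (orderOf_dvd_of_pow_eq_one h)
      omega
    exact Cfsg.Agent.InvChar.CyclicIndexTwo.isPGroup_mulAut h2 (Subgroup.zpowers x) inferInstance
      (fun φ h hh => Cfsg.Agent.InvChar.CyclicIndexTwo.map_mem_of_pow _ rfl 4 hout hk φ hh) hidx.le

end Cfsg.Agent.S3116
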