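import Cfsg.Statements.S5317
import Cfsg.Agent.Lib.Fusion.TwoGroupAut
import Cfsg.Agent.Lib.Fusion.Group
import Cfsg.Agent.Lib.Fusion.Subsystems
import Cfsg.Agent.S3116
import Cfsg.Agent.Lib.Forms.DicksonDihedral
import Cfsg.Agent.Lib.Forms.KleinPSL
import Cfsg.Agent.Lib.Classical.SmallIso

set_option autoImplicit false
open Cfsg

namespace Cfsg.Agent.S5317

open Cfsg.FusionSystem Cfsg.Agent.Fusion.Basic Cfsg.Agent.Fusion.Group Cfsg.Agent.Fusion.Subsystems Cfsg.Agent.Fusion.TwoGroupAut

theorem exists_sylow_iso {G : Type*} [Group G] [Finite G] {H : Subgroup G} {n : ℕ}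
    (hn : 4 ∣ n) (hn0 : n ≠ 0) (e : ↥H ≃* DihedralGroup n) (hodd : Odd H.index) (S : Sylow 2 G) :
    ∃ a : ℕ, 2 ≤ a ∧ Nonempty (↥(S : Subgroup G) ≃* DihedralGroup (2 ^ a)) := by
  have : Fact (Nat.Prime 2) := ⟨Nat.prime_two⟩
  obtain ⟨a, t, ht, hnt⟩ := Nat.exists_eq_two_pow_mul_odd hn0
  have ha : 2 ≤ a := by
    by_contra h
    obtain ⟨j, hj⟩ := ht
    obtain ⟨i, hi⟩ := hn
    rcases a with _ | _ | a <;> omega
  have : NeZero n := ⟨hn0⟩
  set x := e.symm (DihedralGroup.r (t : ZMod n))
  set y := e.symm (DihedralGroup.sr 0)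
  have ho : orderOf x = 2 ^ a := by
    rw [MulEquiv.orderOf_eq, DihedralGroup.orderOf_r, ZMod.val_natCast, hnt]
    have h1 : 1 < 2 ^ a := Nat.one_lt_two_pow (by omega)
    have ht0 : 0 < t := ht.pos
    have hlt : t < 2 ^ a * t := (Nat.lt_mul_iff_one_lt_left ht0).2 h1
    rw [Nat.mod_eq_of_lt hlt, Nat.gcd_mul_left_left, Nat.mul_div_cancel _ ht0]
  have hy : y * y = 1 := by rw [← map_mul, DihedralGroup.sr_mul_self, map_one]
  have hxy : y * x * y⁻¹ = x⁻¹ := by
    rw [← map_inv, ← map_inv, ← map_mul, ← map_mul]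
    congr 1
    simp [DihedralGroup.inv_sr, DihedralGroup.sr_mul_r, DihedralGroup.sr_mul_sr, DihedralGroup.inv_r]
  have hyx : y ∉ Subgroup.zpowers x := by
    rintro ⟨k, hk⟩
    simp only [x, y] at hk
    rw [← map_zpow] at hk
    have := e.symm.injective hk
    rw [DihedralGroup.r_zpow] at this
    cases this
  obtain ⟨f, hf, -, -⟩ := Cfsg.Agent.Classical.CyclicExt.exists_dihedral_hom x y ho hy hxy hyx
  set g := H.subtype.comp f with hg
  have hginj : Function.Injective g := H.subtype_injective.comp hf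
  have hcard : Nat.card g.range = 2 ^ (a + 1) := by
    rw [← Nat.card_congr (g.ofInjective hginj).toEquiv, DihedralGroup.nat_card, pow_succ']
  obtain ⟨T, hT⟩ := (IsPGroup.of_card hcard).exists_le_sylow
  have hTc : Nat.card T = Nat.card g.range := by
    rw [Sylow.card_eq_multiplicity, hcard]
    congr 1
    rw [← H.card_mul_index, Nat.card_congr e.toEquiv, DihedralGroup.nat_card, hnt,
      Nat.factorization_mul (mul_ne_zero two_ne_zero (mul_ne_zero (by positivity) ht.pos.ne')) hodd.pos.ne', Finsupp.add_apply, ← mul_assoc, ← pow_succ',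
      Nat.factorization_mul (by positivity) ht.pos.ne', Finsupp.add_apply,
      Nat.prime_two.factorization_pow, Finsupp.single_eq_same,
      Nat.factorization_eq_zero_of_not_dvd (fun h => Nat.not_even_iff_odd.2 ht (even_iff_two_dvd.2 h)),
      Nat.factorization_eq_zero_of_not_dvd (fun h => Nat.not_even_iff_odd.2 hodd (even_iff_two_dvd.2 h))]
  have heq : g.range = (T : Subgroup G) := Subgroup.eq_of_le_of_card_ge hT hTc.le
  exact ⟨a, ha, ⟨(S.equiv T).trans ((MulEquiv.subgroupCongr heq.symm).trans (g.ofInjective hginj).symm)⟩⟩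

theorem exists_pair (m : ℕ) [NeZero m] (hm : 2 < m) (x : DihedralGroup m) :
    ∃ a b : DihedralGroup m, orderOf a = 2 ∧ orderOf b = 2 ∧ (x = a ∨ x = a * b) := by
  cases x with
  | r i => exact ⟨.sr 0, .sr i, DihedralGroup.orderOf_sr 0, DihedralGroup.orderOf_sr i,
      Or.inr (by rw [DihedralGroup.sr_mul_sr, sub_zero])⟩
  | sr i => exact ⟨.sr i, .sr i, DihedralGroup.orderOf_sr i, DihedralGroup.orderOf_sr i, Or.inl rfl⟩

/-- Let F be a finite field of odd order q with q² ≡ 1 mod 16 (so that a Sylow 2-subgroup of PSL(2,q), dihedral of order the 2-part of (q²−1)/2, has order at least 8). Then the 2-fusion system of PSL(2,F) on a Sylow 2-subgroup is simple: saturated, over a nontrivial 2-group, with no normal subsystem other than the trivial one and itself. -/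
theorem result {F : Type*} [Field F] [Fintype F] (hodd : Fintype.card F % 2 = 1) (h16 : 16 ∣ Fintype.card F ^ 2 - 1)
    (S : Sylow 2 (Matrix.ProjectiveSpecialLinearGroup (Fin 2) F)) :
    (Cfsg.groupFusionSystem (S : Subgroup (Matrix.ProjectiveSpecialLinearGroup (Fin 2) F))).IsSimple 2 := by
    have : Fact (Nat.Prime 2) := ⟨Nat.prime_two⟩
    have h3 : 2 < Fintype.card F := by
      have := Fintype.one_lt_card (α := F)
      omega
    have h2 : (2 : F) ≠ 0 := by
      intro h
      have hc : ringChar F = 2 := CharP.ringChar_of_prime_eq_zero Nat.prime_two h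
      have := FiniteField.even_card_iff_char_two.1 hc
      omega
    set q := Fintype.card F with hq
    obtain ⟨k, hk⟩ : ∃ k, q = 2 * k + 1 := ⟨q / 2, by omega⟩
    have hgcd : Nat.gcd 2 (q - 1) = 2 := Nat.gcd_eq_left ⟨k, by omega⟩
    have hG : 2 * Nat.card (Matrix.ProjectiveSpecialLinearGroup (Fin 2) F) = q * ((q - 1) * (q + 1)) := by
      have h := Cfsg.Agent.Classical.SmallIso.natCard_pslTwo F
      rw [hgcd, Cfsg.Agent.Classical.GL2.natCard_SL_two] at h
      rw [h]
    have h4 : 4 ∣ k * (k + 1) := by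
      have e : Fintype.card F ^ 2 - 1 = 4 * (k * (k + 1)) := by
        rw [← hq, hk, show (2 * k + 1) ^ 2 = 4 * (k * (k + 1)) + 1 by ring, Nat.add_sub_cancel]
      rw [e] at h16
      exact (Nat.mul_dvd_mul_iff_left (by norm_num : 0 < 4)).1 h16
    obtain ⟨H, n, ⟨e⟩, hn, hn0, hidx⟩ : ∃ (H : Subgroup (Matrix.ProjectiveSpecialLinearGroup (Fin 2) F))
        (n : ℕ), Nonempty (↥H ≃* DihedralGroup n) ∧ 4 ∣ n ∧ n ≠ 0 ∧ Odd H.index := by
      rcases Nat.even_or_odd k with he | ho
      · obtain ⟨H, hc, hiso, -⟩ := Cfsg.Agent.Forms.DicksonDihedral.exists_minus (F := F)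
        rw [← hq, hgcd, show (q - 1) / 2 = k by omega] at hc hiso
        refine ⟨H, k, hiso, ?_, by omega, ?_⟩
        · exact (Nat.Coprime.dvd_of_dvd_mul_right (Nat.Coprime.pow_left 2
            (Nat.coprime_two_left.2 he.add_one)) (show 2 ^ 2 ∣ k * (k + 1) from h4))
        · have h := H.card_mul_index
          rw [hc] at h
          have hi : H.index = q * (k + 1) := by
            rw [← h, hk, Nat.add_sub_cancel] at hG
            have hk0 : 0 < k := by omega
            refine Nat.eq_of_mul_eq_mul_left (show 0 < 4 * k by omega) ?_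
            rw [hk]
            linarith
          rw [hi]
          exact Nat.odd_mul.2 ⟨Nat.odd_iff.2 (by omega), he.add_one⟩
      · obtain ⟨H, hc, hiso, -⟩ := Cfsg.Agent.Forms.DicksonDihedral.exists_plus (F := F)
        rw [← hq, hgcd, show (q + 1) / 2 = k + 1 by omega] at hc hiso
        refine ⟨H, k + 1, hiso, ?_, by omega, ?_⟩
        · exact (Nat.Coprime.dvd_of_dvd_mul_left (Nat.Coprime.pow_left 2
            (Nat.coprime_two_left.2 ho)) (show 2 ^ 2 ∣ k * (k + 1) from h4))
        · have h := H.card_mul_index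
          rw [hc] at h
          have hi : H.index = q * k := by
            rw [← h, hk, Nat.add_sub_cancel] at hG
            refine Nat.eq_of_mul_eq_mul_left (show 0 < 4 * (k + 1) by omega) ?_
            rw [hk]
            linarith
          rw [hi]
          exact Nat.odd_mul.2 ⟨Nat.odd_iff.2 (by omega), ho⟩
    obtain ⟨a, ha, ⟨d⟩⟩ := exists_sylow_iso hn hn0 e hidx S
    have hm : 4 ≤ 2 ^ a := Nat.pow_le_pow_right two_pos ha
    have : NeZero (2 ^ a) := ⟨by omega⟩
    have hsat := group_saturated S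
    refine simple_of_no_stronglyClosed hsat ?_
      (autGroup_eq_inn S.2 hsat (Cfsg.Agent.S3116.result S.2 (Or.inl ⟨2 ^ a, hm, ⟨d⟩⟩))) fun T hT => ?_
    · intro h
      have := Nat.card_congr d.toEquiv
      rw [h, Subgroup.card_bot, DihedralGroup.nat_card] at this
      omega
    by_cases hT1 : T = ⊥
    · exact Or.inl hT1
    right
    refine le_antisymm hT.1 fun x hx => ?_
    have hTp : IsPGroup 2 ↥T := S.2.to_le hT.1
    obtain ⟨t, htT, ht⟩ : ∃ t ∈ T, orderOf t = 2 := by
      have : Nontrivial T := (Subgroup.nontrivial_iff_ne_bot T).2 hT1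
      obtain ⟨j, hj, hcard⟩ := hTp.nontrivial_iff_card.1 inferInstance
      obtain ⟨w, hw⟩ := exists_prime_orderOf_dvd_card' (G := T) 2 (hcard ▸ dvd_pow_self 2 (by omega))
      exact ⟨w, w.2, by rw [Subgroup.orderOf_coe, hw]⟩
    have hinv : ∀ i ∈ (S : Subgroup (Matrix.ProjectiveSpecialLinearGroup (Fin 2) F)), orderOf i = 2 →
        i ∈ T := by
      intro i hi hi2
      obtain ⟨g, hg⟩ := isConj_iff.1 (Cfsg.Agent.Forms.KleinPSL.involutions_isConj h2 t i ht hi2)
      have hm : IsMap (groupFusionSystem (S : Subgroup (Matrix.ProjectiveSpecialLinearGroup (Fin 2) F)))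
          (Subgroup.zpowers t) (cj g) := by
        refine isMap_group_iff.2 ⟨Subgroup.zpowers_le.2 (hT.1 htT), ?_, g, fun _ _ => rfl⟩
        rintro _ ⟨j, rfl⟩
        show g * t ^ j * g⁻¹ ∈ _
        rw [← conj_zpow, hg]
        exact Subgroup.zpow_mem _ hi j
      rw [← hg]
      exact Cfsg.Agent.Fusion.Normal.stronglyClosed_mem hT hm (Subgroup.mem_zpowers t) htT
    obtain ⟨u, v, hu, hv, hxe⟩ := exists_pair (2 ^ a) (by omega) (d ⟨x, hx⟩)
    have hu' := hinv (d.symm u).1 (d.symm u).2
      (by rw [Subgroup.orderOf_coe, MulEquiv.orderOf_eq, hu])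
    have hv' := hinv (d.symm v).1 (d.symm v).2
      (by rw [Subgroup.orderOf_coe, MulEquiv.orderOf_eq, hv])
    rcases hxe with h | h
    · have := congrArg d.symm h
      rw [MulEquiv.symm_apply_apply] at this
      rw [← this] at hu'
      exact hu'
    · have := congrArg d.symm h
      rw [MulEquiv.symm_apply_apply, map_mul] at this
      have hxy := congrArg Subtype.val this
      rw [Subgroup.coe_mul] at hxy
      simp only at hxy
      rw [hxy]
      exact T.mul_mem hu' hv'

end Cfsg.Agent.S5317
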