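import Cfsg.Statements.S0306
import Cfsg.Agent.Lib.Classical.DihedralO2

set_option autoImplicit false
open Cfsg

namespace Cfsg.Agent.S0306

/-- GO^-_2(q) is dihedral of order 2(q+1). -/
theorem result {F : Type*} [Field F] [Fintype F] {q : ℕ} (hF : Fintype.card F = q) (a b : F) (hab : ∀ z₁ z₂ : F, z₁ ^ 2 + a * z₁ * z₂ + b * z₂ ^ 2 = 0 → z₁ = 0 ∧ z₂ = 0) : Nonempty (Cfsg.isometryGroup F (Cfsg.quadFormMinus 0 F a b) ≃* DihedralGroup (q + 1)) := by
  subst hF
  have hA : Fact (∀ r : F, r ^ 2 ≠ -b + a * r) := ⟨fun r hr =>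
    one_ne_zero (hab (-r) 1 (by linear_combination hr)).2⟩
  let e : Fin 2 ≃ (Fin 0 ⊕ Fin 0) ⊕ Fin 2 := (Equiv.emptySum (Fin 0 ⊕ Fin 0) (Fin 2)).symm
  let φ : Matrix.GeneralLinearGroup (Fin 2) F ≃*
      Matrix.GeneralLinearGroup ((Fin 0 ⊕ Fin 0) ⊕ Fin 2) F :=
    Units.mapEquiv (Matrix.reindexAlgEquiv F F e).toMulEquiv
  have key : ∀ g : Matrix.GeneralLinearGroup (Fin 2) F,
      φ g ∈ isometryGroup F (quadFormMinus 0 F a b) ↔ ∀ v : Fin 2 → F,
      QuadraticAlgebra.norm (⟨((g : Matrix (Fin 2) (Fin 2) F).mulVec v) 0,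
        ((g : Matrix (Fin 2) (Fin 2) F).mulVec v) 1⟩ : QuadraticAlgebra F (-b) a) =
      QuadraticAlgebra.norm (⟨v 0, v 1⟩ : QuadraticAlgebra F (-b) a) := by
    intro g
    have hQ : ∀ u : (Fin 0 ⊕ Fin 0) ⊕ Fin 2 → F, quadFormMinus 0 F a b u =
        QuadraticAlgebra.norm (⟨u (e 0), u (e 1)⟩ : QuadraticAlgebra F (-b) a) := by
      intro u
      simp [quadFormMinus, e, QuadraticAlgebra.norm_def]
      ring
    have happ : ∀ (u : (Fin 0 ⊕ Fin 0) ⊕ Fin 2 → F) (i : Fin 2),
        ((φ g : Matrix ((Fin 0 ⊕ Fin 0) ⊕ Fin 2) ((Fin 0 ⊕ Fin 0) ⊕ Fin 2) F).mulVec u) (e i) =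
          ((g : Matrix (Fin 2) (Fin 2) F).mulVec (u ∘ e)) i := by
      intro u i
      show (((g : Matrix (Fin 2) (Fin 2) F).submatrix e.symm e.symm).mulVec u) (e i) = _
      rw [Matrix.submatrix_mulVec_equiv]
      simp
    constructor
    · intro h v
      have := h (v ∘ e.symm) 0
      change quadFormMinus 0 F a b ((φ g : Matrix ((Fin 0 ⊕ Fin 0) ⊕ Fin 2) ((Fin 0 ⊕ Fin 0) ⊕ Fin 2) F).mulVec _) = quadFormMinus 0 F a b _ at this
      rw [hQ, hQ, happ, happ] at this
      simpa [Function.comp_assoc] using this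
    · intro h u _
      show quadFormMinus 0 F a b ((φ g : Matrix ((Fin 0 ⊕ Fin 0) ⊕ Fin 2) ((Fin 0 ⊕ Fin 0) ⊕ Fin 2) F).mulVec u) = quadFormMinus 0 F a b u
      rw [hQ, hQ, happ, happ]
      exact h _
  have hT : ∀ z : Classical.Torus.normOne F (-b) a,
      φ (Classical.Torus.unitMat z.1) ∈ isometryGroup F (quadFormMinus 0 F a b) := by
    intro z
    rw [key]
    intro v
    show QuadraticAlgebra.norm (⟨((Classical.Torus.mulMat z.1.1).mulVec v) 0,
        ((Classical.Torus.mulMat z.1.1).mulVec v) 1⟩ : QuadraticAlgebra F (-b) a) = _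
    rw [Classical.DihedralO2.mulMat_col]
    simp only [Matrix.cons_val_zero, Matrix.cons_val_one, QuadraticAlgebra.mk_eta, map_mul,
      Classical.Torus.mem_normOne.1 z.2, one_mul]
  have hS : φ (Classical.DihedralO2.starGL a) ∈ isometryGroup F (quadFormMinus 0 F a b) := by
    rw [key]
    intro v
    simp [Classical.DihedralO2.starGL, Classical.Torus.starMat, QuadraticAlgebra.norm_def,
      Matrix.mulVec, dotProduct, Fin.sum_univ_two]
    ring
  refine Classical.DihedralO2.nonempty_dihedral Classical.Torus.natCard_normOne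
    ((φ.toMonoidHom.comp (Classical.Torus.unitMat.comp (Classical.Torus.normOne F (-b) a).subtype)).codRestrict
      (isometryGroup F (quadFormMinus 0 F a b)) hT) ?_ ⟨_, hS⟩ ?_ ?_ ?_ ?_
  · intro x y h
    refine Subtype.ext (Units.ext (Classical.Torus.mulMat_injective ?_))
    exact congrArg Units.val (φ.injective (congrArg Subtype.val h))
  · refine Subtype.ext ?_
    show φ _ * φ _ = 1
    rw [← map_mul, ← map_one φ]
    exact congrArg φ (Units.ext (Classical.Torus.starMat_mul_starMat a))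
  · intro z
    refine Subtype.ext ?_
    show φ _ * φ _ * (φ _)⁻¹ = φ _
    rw [← map_inv, ← map_mul, ← map_mul]
    refine congrArg φ ?_
    rw [mul_inv_eq_iff_eq_mul]
    refine Units.ext ?_
    show Classical.Torus.starMat a * Classical.Torus.mulMat z.1.1 =
      Classical.Torus.mulMat _ * Classical.Torus.starMat a
    rw [Classical.Torus.starMat_mul_mulMat]
    have hz := congrArg (algebraMap F (QuadraticAlgebra F (-b) a)) (Classical.Torus.mem_normOne.1 z.2)
    rw [QuadraticAlgebra.algebraMap_norm_eq_mul_star, map_one] at hz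
    rw [← Units.inv_eq_of_mul_eq_one_right hz]
    rfl
  · intro z h
    have h' : Classical.Torus.unitMat z.1 = Classical.DihedralO2.starGL a :=
      φ.injective (congrArg Subtype.val h)
    have h00 := congrArg (fun g : Matrix.GeneralLinearGroup (Fin 2) F => (g : Matrix (Fin 2) (Fin 2) F) 0 0) h'
    have h10 := congrArg (fun g : Matrix.GeneralLinearGroup (Fin 2) F => (g : Matrix (Fin 2) (Fin 2) F) 1 0) h'
    have h11 := congrArg (fun g : Matrix.GeneralLinearGroup (Fin 2) F => (g : Matrix (Fin 2) (Fin 2) F) 1 1) h'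
    have h01 := congrArg (fun g : Matrix.GeneralLinearGroup (Fin 2) F => (g : Matrix (Fin 2) (Fin 2) F) 0 1) h'
    simp [Classical.Torus.unitMat, Classical.Torus.mulMat_apply, Classical.DihedralO2.starGL,
      Classical.Torus.starMat] at h00 h10 h11 h01
    rw [h00, h10] at h11
    rw [h10] at h01
    simp at h11 h01
    refine hA.out 1 ?_
    have hb : b ≠ 0 := by
      intro hb
      exact hA.out 0 (by simp [hb])
    exfalso
    obtain ⟨r, hr⟩ := FiniteField.isSquare_of_char_two (F := F) (by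
      by_contra hc; exact Ring.two_ne_zero hc (by linear_combination h11)) (-b)
    exact hA.out r (by rw [← h01, hr]; ring)
  · rintro ⟨g, hg⟩
    obtain ⟨g', rfl⟩ := φ.surjective g
    obtain ⟨c, rfl | rfl⟩ := Classical.DihedralO2.exists_of_preserves_norm g' ((key g').1 hg)
    · exact ⟨c, Or.inl (Subtype.ext rfl)⟩
    · exact ⟨c, Or.inr (Subtype.ext (map_mul φ _ _))⟩

end Cfsg.Agent.S0306
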