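import Cfsg.Statements.S0790
import Cfsg.Agent.Lib.Forms.SpecialOrth
import Cfsg.Agent.Lib.Forms.PlusStd

set_option autoImplicit false
open Cfsg Cfsg.Agent.Forms.QuadStd Cfsg.Agent.Forms.Reflections Cfsg.Agent.Forms.Spinor Cfsg.Agent.Forms.SpecialOrth Cfsg.Agent.Forms.PlusStd

namespace Cfsg.Agent.S0790

/-- −1 ∈ Ω⁺_2m(q) iff q^m ≡ 1 (mod 4), for q odd and m ≥ 1 (so that in the other case SO⁺_2m(q) = 2 × Ω⁺_2m(q)). -/
theorem result {F : Type*} [Field F] [Fintype F] {q : ℕ} (hF : Fintype.card F = q) (hodd : Odd q) (m : ℕ) (hm : 1 ≤ m) : (∃ g : ↥(Cfsg.isometryGroup F (Cfsg.quadFormPlus m F)), g ∈ Cfsg.Omega F (Cfsg.quadFormPlus m F) ∧ ((g : Matrix.GeneralLinearGroup (Fin m ⊕ Fin m) F) : Matrix (Fin m ⊕ Fin m) (Fin m ⊕ Fin m) F) = -1) ↔ q ^ m % 4 = 1 := by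
  classical
  have hQ' : Cfsg.quadFormPlus m F = ⇑(plusQ F m) := funext fun v => (plusQ_apply F m v).symm
  have h2 : (2 : F) ≠ 0 := by
    refine Ring.two_ne_zero fun h => ?_
    have := FiniteField.even_card_of_char_two h
    rw [hF] at this
    exact absurd (Nat.odd_iff.1 hodd) (by omega)
  rw [hQ', neg_one_mem_omega_iff (plusQ_nondeg F m) h2 (by simp; omega) ⟨m, by simp⟩]
  have hg : Cfsg.Agent.Forms.Disc.gram (polB (plusQ F m)) (Pi.basisFun F (Fin m ⊕ Fin m)) =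
      Matrix.fromBlocks 0 1 1 0 := by
    ext (i | i) (j | j) <;>
      simp [Cfsg.Agent.Forms.Disc.gram, polB_apply, plusQ_polar, Pi.single_apply, Matrix.one_apply,
        eq_comm]
  rw [hg, Cfsg.Agent.Forms.Disc.det_swap_blocks]
  subst hF
  rcases Nat.even_or_odd m with he | ho
  · rw [he.neg_one_pow]
    obtain ⟨k, rfl⟩ := he
    refine iff_of_true IsSquare.one ?_
    rw [← two_mul, pow_mul, Nat.pow_mod]
    have hm2 : Fintype.card F ^ 2 % 4 = 1 := by
      rw [Nat.pow_mod]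
      rcases (show Fintype.card F % 4 = 1 ∨ Fintype.card F % 4 = 3 by
        rw [Nat.odd_iff] at hodd; omega) with h | h <;> rw [h]
    rw [hm2, one_pow]
    rfl
  · rw [ho.neg_one_pow, FiniteField.isSquare_neg_one_iff]
    obtain ⟨k, rfl⟩ := ho
    have hm2 : Fintype.card F ^ (2 * k + 1) % 4 = Fintype.card F % 4 := by
      rw [pow_succ, Nat.mul_mod, pow_mul, Nat.pow_mod]
      have : Fintype.card F ^ 2 % 4 = 1 := by
        rw [Nat.pow_mod]
        rcases (show Fintype.card F % 4 = 1 ∨ Fintype.card F % 4 = 3 by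
          rw [Nat.odd_iff] at hodd; omega) with h | h <;> rw [h]
      rw [this, one_pow]
      omega
    rw [hm2]
    rw [Nat.odd_iff] at hodd
    omega

end Cfsg.Agent.S0790
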