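import Cfsg.Statements.S0791
import Cfsg.Agent.Lib.Forms.SpecialOrth
import Cfsg.Agent.Lib.Forms.PlusStd

set_option autoImplicit false
open Cfsg Cfsg.Agent.Forms.QuadStd Cfsg.Agent.Forms.Reflections Cfsg.Agent.Forms.Spinor Cfsg.Agent.Forms.SpecialOrth Cfsg.Agent.Forms.PlusStd

namespace Cfsg.Agent.S0791

/-- `quadFormMinus` as a quadratic form. -/
noncomputable def minusQ (F : Type*) [Field F] (k : ℕ) (a b : F) :
    QuadraticForm F ((Fin k ⊕ Fin k) ⊕ Fin 2 → F) :=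
  let p := fun i : (Fin k ⊕ Fin k) ⊕ Fin 2 =>
    LinearMap.proj (R := F) (φ := fun _ : (Fin k ⊕ Fin k) ⊕ Fin 2 => F) i
  (∑ i : Fin k, QuadraticMap.linMulLin (p (Sum.inl (Sum.inl i))) (p (Sum.inl (Sum.inr i))))
    + (QuadraticMap.linMulLin (p (Sum.inr 0)) (p (Sum.inr 0))
      + a • QuadraticMap.linMulLin (p (Sum.inr 0)) (p (Sum.inr 1))
      + b • QuadraticMap.linMulLin (p (Sum.inr 1)) (p (Sum.inr 1)))

theorem minusQ_apply {F : Type*} [Field F] (k : ℕ) (a b : F) (v : (Fin k ⊕ Fin k) ⊕ Fin 2 → F) :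
    minusQ F k a b v = Cfsg.quadFormMinus k F a b v := by
  simp [minusQ, Cfsg.quadFormMinus]
  ring

theorem minusQ_polar {F : Type*} [Field F] (k : ℕ) (a b : F)
    (u v : (Fin k ⊕ Fin k) ⊕ Fin 2 → F) :
    QuadraticMap.polar (minusQ F k a b) u v =
      (∑ i, (u (.inl (.inl i)) * v (.inl (.inr i)) + u (.inl (.inr i)) * v (.inl (.inl i)))) +
      (2 * u (.inr 0) * v (.inr 0) + a * (u (.inr 0) * v (.inr 1) + u (.inr 1) * v (.inr 0)) +
        2 * b * u (.inr 1) * v (.inr 1)) := by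
  simp only [QuadraticMap.polar, minusQ_apply, Cfsg.quadFormMinus, Pi.add_apply, add_mul, mul_add,
    Finset.sum_add_distrib]
  have h : ∑ x, v (Sum.inl (Sum.inl x)) * u (Sum.inl (Sum.inr x)) =
      ∑ x, u (Sum.inl (Sum.inr x)) * v (Sum.inl (Sum.inl x)) :=
    Finset.sum_congr rfl fun x _ => mul_comm _ _
  linear_combination h

/-- −1 ∈ Ω⁻_2m(q) iff q^m ≡ −1 (mod 4), for q odd and m ≥ 1; for the minus-type form quadFormMinus (m−1) with anisotropic binary part. -/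
theorem result {F : Type*} [Field F] [Fintype F] {q : ℕ} (hF : Fintype.card F = q) (hodd : Odd q) (m : ℕ) (hm : 1 ≤ m) (a b : F) (hab : ∀ z₁ z₂ : F, z₁ ^ 2 + a * z₁ * z₂ + b * z₂ ^ 2 = 0 → z₁ = 0 ∧ z₂ = 0) : (∃ g : ↥(Cfsg.isometryGroup F (Cfsg.quadFormMinus (m - 1) F a b)), g ∈ Cfsg.Omega F (Cfsg.quadFormMinus (m - 1) F a b) ∧ ((g : Matrix.GeneralLinearGroup ((Fin (m - 1) ⊕ Fin (m - 1)) ⊕ Fin 2) F) : Matrix ((Fin (m - 1) ⊕ Fin (m - 1)) ⊕ Fin 2) ((Fin (m - 1) ⊕ Fin (m - 1)) ⊕ Fin 2) F) = -1) ↔ q ^ m % 4 = 3 := by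
  classical
  obtain ⟨k, rfl⟩ : ∃ k, m = k + 1 := ⟨m - 1, by omega⟩
  rw [show k + 1 - 1 = k from rfl]
  have h2 : (2 : F) ≠ 0 := by
    refine Ring.two_ne_zero fun h => ?_
    have := FiniteField.even_card_of_char_two h
    rw [hF] at this
    exact absurd (Nat.odd_iff.1 hodd) (by omega)
  have hD : ¬ IsSquare (a ^ 2 - 4 * b) := by
    rintro ⟨s, hs⟩
    exact one_ne_zero (α := F) (hab ((-a + s) / 2) 1 (by field_simp; linear_combination -hs)).2
  have hQ' : Cfsg.quadFormMinus k F a b = ⇑(minusQ F k a b) := funext fun v => (minusQ_apply k a b v).symm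
  have hg : (Cfsg.Agent.Forms.Disc.gram (polB (minusQ F k a b))
      (Pi.basisFun F ((Fin k ⊕ Fin k) ⊕ Fin 2))) = Matrix.fromBlocks
        (Matrix.fromBlocks 0 1 1 0) 0 0 !![2, a; a, 2 * b] := by
    ext ((i | i) | i) ((j | j) | j)
    all_goals simp [Cfsg.Agent.Forms.Disc.gram, polB_apply, minusQ_polar, Pi.single_apply,
      Matrix.one_apply, eq_comm]
    fin_cases i <;> fin_cases j <;> simp <;> ring
  have hdet : (Cfsg.Agent.Forms.Disc.gram (polB (minusQ F k a b))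
      (Pi.basisFun F ((Fin k ⊕ Fin k) ⊕ Fin 2))).det = (-1) ^ (k + 1) * (a ^ 2 - 4 * b) := by
    rw [hg, Matrix.det_fromBlocks_zero₂₁, Cfsg.Agent.Forms.Disc.det_swap_blocks, Matrix.det_fin_two]
    simp [pow_succ]
    ring
  have hnd : (QuadraticMap.polarBilin (minusQ F k a b)).Nondegenerate := by
    have h0 : (Cfsg.Agent.Forms.Disc.gram (polB (minusQ F k a b))
        (Pi.basisFun F ((Fin k ⊕ Fin k) ⊕ Fin 2))).det ≠ 0 := by
      rw [hdet]
      refine mul_ne_zero (pow_ne_zero _ (neg_ne_zero.2 one_ne_zero)) fun h => hD ⟨0, by rw [h, mul_zero]⟩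
    have e : Cfsg.Agent.Forms.Disc.gram (polB (minusQ F k a b)) (Pi.basisFun F ((Fin k ⊕ Fin k) ⊕ Fin 2)) =
        LinearMap.BilinForm.toMatrix (Pi.basisFun F ((Fin k ⊕ Fin k) ⊕ Fin 2)) (polB (minusQ F k a b)) := by
      ext i j; simp [Cfsg.Agent.Forms.Disc.gram, LinearMap.BilinForm.toMatrix_apply]
    rw [e] at h0
    exact (LinearMap.BilinForm.nondegenerate_iff_det_ne_zero _).2 h0
  rw [hQ', neg_one_mem_omega_iff hnd h2 (by simp) ⟨k + 1, by simp; ring⟩, hdet]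
  subst hF
  have hm2 : Fintype.card F ^ 2 % 4 = 1 := by
    rw [Nat.pow_mod]
    rcases (show Fintype.card F % 4 = 1 ∨ Fintype.card F % 4 = 3 by
      rw [Nat.odd_iff] at hodd; omega) with h | h <;> rw [h]
  rcases Nat.even_or_odd (k + 1) with he | ho
  · rw [he.neg_one_pow, one_mul]
    obtain ⟨l, hl⟩ := he
    refine iff_of_false hD ?_
    rw [hl, ← two_mul, pow_mul, Nat.pow_mod, hm2, one_pow]
    omega
  · rw [ho.neg_one_pow]
    obtain ⟨l, hl⟩ := ho
    have e : Fintype.card F ^ (2 * l + 1) % 4 = Fintype.card F % 4 := by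
      rw [pow_succ, Nat.mul_mod, pow_mul, Nat.pow_mod, hm2, one_pow]
      omega
    rw [hl, e]
    have hq : (Fintype.card F % 4 = 1 ∨ Fintype.card F % 4 = 3) := by
      rw [Nat.odd_iff] at hodd; omega
    by_cases hs : IsSquare (-1 : F)
    · refine iff_of_false (fun hh => hD ?_) ?_
      · obtain ⟨r, hr⟩ := hh
        obtain ⟨i, hi⟩ := hs
        exact ⟨i * r, by linear_combination (-1 : F) * hr + (r * r) * hi⟩
      · have := FiniteField.isSquare_neg_one_iff.1 hs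
        omega
    · refine iff_of_true (Cfsg.Agent.Forms.Bases.isSquare_mul_of_not hs hD) ?_
      have : Fintype.card F % 4 = 3 := by
        by_contra hne
        exact hs (FiniteField.isSquare_neg_one_iff.2 hne)
      omega

end Cfsg.Agent.S0791
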