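import Cfsg.Statements.S0292
import Cfsg.Agent.Lib.Classical.OrthOrders

set_option autoImplicit false
open Cfsg

namespace Cfsg.Agent.S0292

/-- 2 |PΩ_{2m+1}(q)| = q^(m^2) prod_{i=1}^{m} (q^(2i) - 1), for q odd and m at least 3 (type B_m). -/
theorem result {F : Type*} [Field F] [Fintype F] {q : ℕ} (hF : Fintype.card F = q) (hodd : Odd q) (m : ℕ) (hm : 3 ≤ m) : 2 * Nat.card (Cfsg.POmega F (Cfsg.quadFormOdd m F)) = q ^ (m ^ 2) * ∏ i ∈ Finset.range m, (q ^ (2 * (i + 1)) - 1) := by
  have h2 := Classical.OrthForms.two_ne_zero_of_odd (F := F) (hF ▸ hodd)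
  have hQ := Classical.OrthForms.oddQ_nondeg h2 m
  have hn : 5 ≤ Fintype.card (Unit ⊕ (Fin m ⊕ Fin m)) := by simp; omega
  have hO := Classical.OrthForms.natCard_O_odd hF h2 m
  rw [Classical.OrthOrders.natCard_O_eq, Forms.Spinor.omega_index hQ h2 (by omega),
    Classical.Orth.natCard_center_one hQ (Classical.OrthForms.oddFrame F (by omega)) hn
      (Or.inr ?_)] at hO
  · rw [← Classical.OrthForms.oddQ_eq]
    linarith
  · rintro ⟨g, hg, hgm⟩
    have hdet : g ∈ (Matrix.GeneralLinearGroup.det.comp (Cfsg.isometryGroup F _).subtype).ker :=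
      Abelianization.commutator_subset_ker _ hg
    have hd := congrArg Units.val (MonoidHom.mem_ker.1 hdet)
    simp only [MonoidHom.comp_apply, Matrix.GeneralLinearGroup.val_det_apply, Units.val_one] at hd
    change ((g.1 : Matrix.GeneralLinearGroup (Unit ⊕ (Fin m ⊕ Fin m)) F) :
      Matrix (Unit ⊕ (Fin m ⊕ Fin m)) (Unit ⊕ (Fin m ⊕ Fin m)) F).det = 1 at hd
    rw [hgm, Matrix.det_neg, Matrix.det_one, mul_one, Fintype.card_sum, Fintype.card_sum,
      Fintype.card_fin, Fintype.card_unit, pow_add, ← two_mul m, pow_mul] at hd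
    simp at hd
    exact h2 (by linear_combination -hd)

end Cfsg.Agent.S0292
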