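import Cfsg.Statements.S0293
import Cfsg.Agent.Lib.Classical.OrthOrders

set_option autoImplicit false
open Cfsg

namespace Cfsg.Agent.S0293

/-- gcd(4, q^m - 1) |PΩ^+_{2m}(q)| = q^(m(m-1)) (q^m - 1) prod_{i=1}^{m-1} (q^(2i) - 1), m at least 4 (type D_m). -/
theorem result {F : Type*} [Field F] [Fintype F] {q : ℕ} (hF : Fintype.card F = q) (m : ℕ) (hm : 4 ≤ m) : Nat.gcd 4 (q ^ m - 1) * Nat.card (Cfsg.POmega F (Cfsg.quadFormPlus m F)) = q ^ (m * (m - 1)) * (q ^ m - 1) * ∏ i ∈ Finset.range (m - 1), (q ^ (2 * (i + 1)) - 1) := by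
  obtain ⟨k, rfl⟩ : ∃ k, m = k + 1 := ⟨m - 1, by omega⟩
  rw [show k + 1 - 1 = k from rfl]
  rw [← Classical.OrthForms.plusQ_eq]
  have hQ := Forms.PlusStd.plusQ_nondeg F (k + 1)
  have hO := Classical.OrthForms.natCard_O_plus hF k
  have hn : 5 ≤ Fintype.card (Fin (k + 1) ⊕ Fin (k + 1)) := by simp; omega
  set f := Classical.OrthForms.plusFrame F (m := k + 1) (by omega)
  by_cases h2 : (2 : F) = 0
  · rw [Classical.OrthOrders.natCard_O_char_two h2 hQ f hn] at hO
    have := Classical.OrthOrders.char_two_of h2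
    have heven : Even q := by
      rw [← hF]
      exact Nat.even_iff.2 (FiniteField.even_card_of_char_two (ringChar.eq F 2))
    have hg : Nat.gcd 4 (q ^ (k + 1) - 1) = 1 :=
      (Classical.OrthOrders.gcd_four_of_even (hF ▸ Fintype.one_lt_card) heven k.succ_ne_zero).1
    rw [hg, one_mul]
    linarith
  have hodd : Odd q := by
    rw [← hF]
    exact Nat.odd_iff.2 (FiniteField.odd_card_of_char_ne_two (fun h => h2 (by
      have : CharP F 2 := h ▸ ringChar.charP F
      exact CharTwo.two_eq_zero)))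
  have hq := S0790.result (F := F) hF hodd (k + 1) (by omega)
  rw [← Classical.OrthForms.plusQ_eq] at hq
  have hmod : q ^ (k + 1) % 2 = 1 := Nat.odd_iff.1 hodd.pow
  rw [Classical.OrthOrders.natCard_O_eq, Forms.Spinor.omega_index hQ h2 (by omega)] at hO
  by_cases hneg : q ^ (k + 1) % 4 = 1
  · rw [Classical.Orth.natCard_center_two hQ f hn h2 (hq.2 hneg)] at hO
    rw [show Nat.gcd 4 (q ^ (k + 1) - 1) = 4 from Nat.gcd_eq_left (by omega)]
    linarith
  · rw [Classical.Orth.natCard_center_one hQ f hn (Or.inr (fun h => hneg (hq.1 h)))] at hO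
    have hg : Nat.gcd 4 (q ^ (k + 1) - 1) = 2 := by
      rw [Nat.gcd_rec, show (q ^ (k + 1) - 1) % 4 = 2 by omega]; rfl
    rw [hg]
    linarith

end Cfsg.Agent.S0293
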