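import Cfsg.Statements.S2363
import Cfsg.Agent.SimpleFacts.LieOrderBounds

set_option autoImplicit false
open Cfsg

namespace Cfsg.Agent.S2363

/-- Let G be a finite simple group of Lie type in characteristic p and let p^k be the exact power of p dividing the order of G. Then the order of G is less than p^(3k); and unless G is isomorphic to PSL(2, F) for the field F with p^k elements, the cube of the order of G is less than p^(8k) (that is, the order is below p^(8k/3)). -/
theorem result {G : Type*} [Group G] [Finite G] (p : ℕ) (hp : p.Prime) (hG : Cfsg.IsLieTypeChar p G) :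
    Nat.card G < p ^ (3 * (Nat.card G).factorization p) ∧
      ((¬ ∃ (F : Type) (_ : Field F) (_ : Fintype F), Fintype.card F = p ^ (Nat.card G).factorization p ∧
          Nonempty (G ≃* Matrix.ProjectiveSpecialLinearGroup (Fin 2) F)) →
        Nat.card G ^ 3 < p ^ (8 * (Nat.card G).factorization p)) := by
  obtain ⟨f, N, e, d, M, hf, hN, hd, hM, hlt, hcard, he, h3⟩ :=
    Cfsg.Agent.SimpleFacts.LieOrderBounds.shape hp hG
  have hd0 : d ≠ 0 := fun h => hd (h ▸ dvd_zero p)
  have hM0 : M ≠ 0 := fun h => hM (h ▸ dvd_zero p)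
  have hG0 : Nat.card G ≠ 0 := Nat.card_pos.ne'
  have hk : (Nat.card G).factorization p = f * N := by
    have hc := congrArg (fun x => x.factorization p) hcard
    rw [← pow_mul] at hc
    simp only [Nat.factorization_mul hG0 hd0, Nat.factorization_mul (pow_pos hp.pos _).ne' hM0,
      Finsupp.add_apply, Nat.factorization_eq_zero_of_not_dvd hd,
      Nat.factorization_eq_zero_of_not_dvd hM, hp.factorization_pow, Finsupp.single_eq_same,
      add_zero] at hc
    exact hc
  have hle : Nat.card G < p ^ (f * (N + e)) := by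
    calc Nat.card G ≤ Nat.card G * d := Nat.le_mul_of_pos_right _ (Nat.pos_of_ne_zero hd0)
      _ = (p ^ f) ^ N * M := hcard
      _ < (p ^ f) ^ N * (p ^ f) ^ e :=
        Nat.mul_lt_mul_of_pos_left hlt (pow_pos (pow_pos hp.pos _) _)
      _ = p ^ (f * (N + e)) := by rw [← pow_add, ← pow_mul]
  rw [hk]
  refine ⟨hle.trans_le (Nat.pow_le_pow_right hp.pos (by nlinarith)), fun hne => ?_⟩
  rcases h3 with h3 | ⟨rfl, F, iF, iFt, hF, he0⟩
  · calc Nat.card G ^ 3 < (p ^ (f * (N + e))) ^ 3 := Nat.pow_lt_pow_left hle (by norm_num)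
      _ = p ^ (f * (N + e) * 3) := (pow_mul _ _ _).symm
      _ ≤ p ^ (8 * (f * N)) := Nat.pow_le_pow_right hp.pos (by nlinarith)
  · exact absurd ⟨F, iF, iFt, by rw [mul_one]; exact hF, he0⟩ hne

end Cfsg.Agent.S2363
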