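import Cfsg.Statements.S5160
import Cfsg.Agent.Lib.Fusion.WeaklyNormalTop

set_option autoImplicit false
open Cfsg

namespace Cfsg.Agent.S5160

open Cfsg.FusionSystem Cfsg.Agent.Fusion.Basic Cfsg.Agent.Fusion.Saturation

variable {G : Type*} [Group G] [Finite G] {p : ℕ} [Fact p.Prime] (S : Sylow p G)
  {E : FusionSystem (S : Subgroup G)}

/-- A map of `E` on a centric subgroup which is induced by `g` is induced by `g` on `g`-invariant
subgroups of its normalizer. -/
theorem isMap_cj_step (hE : E.IsSaturated p)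
    (hsub : E.IsSubsystemOf (Cfsg.groupFusionSystem (S : Subgroup G))) {R N : Subgroup G}
    (hRc : (Cfsg.groupFusionSystem (S : Subgroup G)).IsCentric R) (hRN : R ≤ N)
    (hNn : N ≤ normalizerIn (S : Subgroup G) R) {g : G}
    (hgR : g ∈ Subgroup.normalizer (R : Set G)) (hgN : g ∈ Subgroup.normalizer (N : Set G))
    (hm : IsMap E R (cj g)) : IsMap E N (cj g) := by
  have hNS : N ≤ (S : Subgroup G) := hNn.trans normalizerIn_le
  have hRS : R ≤ (S : Subgroup G) := hRc.1
  have hEc : E.IsCentric R := ⟨hRS, fun Q hQ => hRc.2 Q (by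
    obtain ⟨f, hf, he⟩ := isConj_iff_map.1 hQ
    exact isConj_iff_map.2 ⟨f, isMap_of_subset hsub hf, he⟩)⟩
  have hRimg : img (cj g) R = R := img_cj_eq_of_mem_normalizer hgR
  have hNsub : N ≤ nSub (S : Subgroup G) R (cj g) := fun s hs =>
    ⟨hNS hs, (hNn hs).2, g * s * g⁻¹, hNS ((Subgroup.mem_normalizer_iff.1 hgN s).1 hs),
      fun x _ => by simp [cj, mul_assoc]⟩
  obtain ⟨h, hh, hhe⟩ := exists_extension S.isPGroup' hE hm
    (by rw [hRimg]; exact centric_fullyCentralized hEc)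
  have hhN := hh.restrict hNsub
  obtain ⟨-, -, g', hg'⟩ :=
    Cfsg.Agent.Fusion.Group.isMap_group_iff.1 (isMap_of_subset hsub hhN)
  set y := g⁻¹ * g' with hy
  have hyR : ∀ x ∈ R, y * x * y⁻¹ = x := fun x hx => by
    have h1 := (hhe x hx).symm.trans (hg' x (hRN hx))
    rw [cj_apply, cj_apply] at h1
    calc y * x * y⁻¹ = g⁻¹ * (g' * x * g'⁻¹) * g := by rw [hy]; group
      _ = x := by rw [← h1]; group
  have hcomm : ∀ x ∈ R, x * y = y * x := fun x hx => (mul_inv_eq_iff_eq_mul.1 (hyR x hx)).symm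
  have hCR : ∀ c ∈ (S : Subgroup G), (∀ x ∈ R, x * c = c * x) → c ∈ R := fun c hc hcx =>
    centric_centralizerIn_le hRc ⟨hc, fun x hx => hcx x hx⟩
  -- `y` normalizes `N` and moves its elements within cosets of `R`
  have hmove : ∀ s ∈ N, s⁻¹ * (y * s * y⁻¹) ∈ R := by
    intro s hs
    have hsR : ∀ x ∈ R, s * x * s⁻¹ ∈ R := fun x hx => (Subgroup.mem_normalizer_iff.1 (hNn hs).2 x).1 hx
    have hcen : ∀ x ∈ R, x * (s⁻¹ * (y * s * y⁻¹)) = s⁻¹ * (y * s * y⁻¹) * x := fun x hx => by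
      have h1 := hyR _ (hsR x hx)
      have h2 := hyR x hx
      calc x * (s⁻¹ * (y * s * y⁻¹)) = s⁻¹ * (y * (s * x * s⁻¹) * y⁻¹) * (y * s * y⁻¹) := by
            rw [h1]; group
        _ = s⁻¹ * (y * s * y⁻¹) * (y * x * y⁻¹) := by group
        _ = _ := by rw [h2]
    have hS1 : g' * s * g'⁻¹ ∈ (S : Subgroup G) := by
      rw [← cj_apply, ← hg' s hs]
      exact hhN.mem hs
    set d := (g * s * g⁻¹)⁻¹ * (g' * s * g'⁻¹)
    have hd : d = g * (s⁻¹ * (y * s * y⁻¹)) * g⁻¹ := by simp [d, hy, mul_assoc]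
    have hdR : d ∈ R := by
      refine hCR d (Subgroup.mul_mem _ (Subgroup.inv_mem _
        (hNS ((Subgroup.mem_normalizer_iff.1 hgN s).1 hs))) hS1) fun x hx => ?_
      have hx' : g⁻¹ * x * g ∈ R := (Subgroup.mem_normalizer_iff''.1 hgR x).1 hx
      rw [hd]
      calc x * (g * (s⁻¹ * (y * s * y⁻¹)) * g⁻¹)
          = g * ((g⁻¹ * x * g) * (s⁻¹ * (y * s * y⁻¹))) * g⁻¹ := by group
        _ = _ := by rw [hcen _ hx']; group
    have h3 : g⁻¹ * d * g ∈ R := (Subgroup.mem_normalizer_iff''.1 hgR d).1 hdR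
    rw [hd] at h3
    simpa [mul_assoc] using h3
  have hynorm : y ∈ Subgroup.normalizer (N : Set G) := mem_normalizer_of_forall fun s hs => by
    simpa using N.mul_mem hs (hRN (hmove s hs))
  -- the part of order prime to `p` centralizes `N`
  set n := orderOf y with hn
  obtain ⟨e, m, hm', hnem⟩ :=
    Nat.exists_eq_pow_mul_and_not_dvd (orderOf_pos y).ne' p (Fact.out : p.Prime).ne_one
  have hcop : (p ^ e).Coprime m :=
    Nat.Coprime.pow_left e ((Fact.out : p.Prime).coprime_iff_not_dvd.2 hm')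
  have hu : ∀ s ∈ N, (y ^ (p ^ e)) * s * (y ^ (p ^ e))⁻¹ = s := by
    intro s hs
    have hpow : ∀ k : ℕ, ∀ s ∈ N, s⁻¹ * (y ^ k * s * (y ^ k)⁻¹) ∈ R := by
      intro k
      induction k with
      | zero => intro s _; simp [R.one_mem]
      | succ k ih =>
        intro s hs
        set t := y * s * y⁻¹
        have ht : t ∈ N := (Subgroup.mem_normalizer_iff.1 hynorm s).1 hs
        have h1 := R.mul_mem (hmove s hs) (ih t ht)
        simpa [t, pow_succ, mul_assoc] using h1
    set u := y ^ (p ^ e)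
    set z := s⁻¹ * (u * s * u⁻¹) with hz
    have hzR : z ∈ R := hpow _ s hs
    have huz : Commute u z := ((show Commute y z from (hcomm z hzR).symm)).pow_left _
    have hiter : ∀ k : ℕ, u ^ k * s * (u ^ k)⁻¹ = s * z ^ k := by
      intro k
      induction k with
      | zero => simp
      | succ k ih =>
        calc u ^ (k + 1) * s * (u ^ (k + 1))⁻¹ = u * (u ^ k * s * (u ^ k)⁻¹) * u⁻¹ := by
              rw [pow_succ']; group
          _ = (u * s * u⁻¹) * (u * z ^ k * u⁻¹) := by rw [ih]; group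
          _ = s * z ^ (k + 1) := by
              rw [(huz.pow_right k).eq, mul_inv_cancel_right, pow_succ', ← mul_assoc]
              congr 1
              rw [hz]; group
    have h1 := hiter m
    have hum : u ^ m = 1 := by
      rw [← pow_mul, ← hnem, pow_orderOf_eq_one]
    rw [hum, one_mul, inv_one, mul_one] at h1
    have hzm : z ^ m = 1 := mul_eq_left.1 h1.symm
    obtain ⟨j, hj⟩ := IsPGroup.iff_orderOf.1 S.isPGroup' ⟨z, hRS hzR⟩
    rw [Subgroup.orderOf_mk] at hj
    have hz1 : z = 1 := orderOf_eq_one_iff.1 (Nat.eq_one_of_dvd_coprimes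
      ((Nat.Coprime.pow_left j ((Fact.out : p.Prime).coprime_iff_not_dvd.2 hm')))
      (hj ▸ dvd_rfl) (orderOf_dvd_of_pow_eq_one hzm))
    exact (inv_mul_eq_one.1 hz1).symm
  -- the part of `p`-power order lies in `R`
  have hv : y ^ m ∈ R := by
    have hsyl : Cfsg.Agent.Fusion.SylIn.SylIn p (centralizerIn (S : Subgroup G) R)
        (centralizerIn ⊤ R) := by
      refine (Cfsg.Agent.Fusion.Group.fullyCentralized_iff (Cfsg.Agent.Fusion.SylIn.of_sylow S) hRS).1 ?_
      rw [← Cfsg.Agent.Fusion.Group.group_eq_sub_top]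
      exact centric_fullyCentralized hRc
    have hvc : y ^ m ∈ centralizerIn (⊤ : Subgroup G) R :=
      ⟨Subgroup.mem_top _, fun x hx => ((show Commute x y from hcomm x hx).pow_right m)⟩
    have hnorm : Subgroup.zpowers (y ^ m) ≤
        Subgroup.normalizer ((centralizerIn (S : Subgroup G) R : Subgroup G) : Set G) := by
      refine le_trans (Subgroup.zpowers_le.2 hvc) fun c hc => ?_
      refine mem_normalizer_of_forall fun x hx => ?_
      have : c * x = x * c := (hc.2 x (centric_centralizerIn_le hRc hx)).symm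
      rwa [this, mul_inv_cancel_right]
    have hp1 : IsPGroup p (Subgroup.zpowers (y ^ m)) := by
      refine IsPGroup.of_card (n := e) ?_
      rw [Nat.card_zpowers, orderOf_pow, ← hn, show n = p ^ e * m from hn.trans hnem,
        Nat.gcd_eq_right (dvd_mul_left m _), Nat.mul_div_cancel _ (Nat.pos_of_ne_zero fun h => by
          simp [h] at hm')]
    have hsup : IsPGroup p
        (centralizerIn (S : Subgroup G) R ⊔ Subgroup.zpowers (y ^ m) : Subgroup G) :=
      IsPGroup.to_sup_of_normal_left' (S.isPGroup'.to_le inf_le_left) hp1 hnorm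
    have h4 := hsyl.eq_of_le le_sup_left (sup_le hsyl.1 (Subgroup.zpowers_le.2 hvc)) hsup
    refine centric_centralizerIn_le hRc ?_
    rw [h4]
    exact Subgroup.mem_sup_right (Subgroup.mem_zpowers _)
  obtain ⟨a, b, hab⟩ : ∃ a b : ℤ, (p ^ e : ℤ) * a + (m : ℤ) * b = 1 := by
    have h := Nat.gcd_eq_gcd_ab (p ^ e) m
    rw [hcop.gcd_eq_one] at h
    exact ⟨_, _, by exact_mod_cast h.symm⟩
  have hyz : ∀ s ∈ N, y * s * y⁻¹ = (y ^ m) ^ b * s * ((y ^ m) ^ b)⁻¹ := fun s hs => by
    have hys : y = (y ^ m) ^ b * (y ^ (p ^ e)) ^ a := by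
      rw [← zpow_natCast, ← zpow_natCast, ← zpow_mul, ← zpow_mul, ← zpow_add]
      push_cast
      rw [add_comm, hab, zpow_one]
    have h2 : (y ^ (p ^ e)) ^ a * s * ((y ^ (p ^ e)) ^ a)⁻¹ = s := by
      rw [mul_inv_eq_iff_eq_mul]
      exact ((show Commute (y ^ (p ^ e)) s from mul_inv_eq_iff_eq_mul.1 (hu s hs)).zpow_left a)
    conv_lhs => rw [hys]
    calc (y ^ m) ^ b * (y ^ (p ^ e)) ^ a * s * ((y ^ m) ^ b * (y ^ (p ^ e)) ^ a)⁻¹
        = (y ^ m) ^ b * ((y ^ (p ^ e)) ^ a * s * ((y ^ (p ^ e)) ^ a)⁻¹) * ((y ^ m) ^ b)⁻¹ := by group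
      _ = _ := by rw [h2]
  set z := (y ^ m) ^ b
  have hzN : z ∈ N := hRN (R.zpow_mem hv b)
  have hc : IsMap E N (cj z⁻¹) := isMap_cj hNS (hNS (N.inv_mem hzN))
  refine (hhN.comp hc fun s hs => N.mul_mem (N.mul_mem (N.inv_mem hzN) hs)
    (N.inv_mem (N.inv_mem hzN))).congr fun s hs => ?_
  have hs' : cj z⁻¹ s ∈ N :=
    N.mul_mem (N.mul_mem (N.inv_mem hzN) hs) (N.inv_mem (N.inv_mem hzN))
  rw [hg' _ hs', show g' = g * y by rw [hy]; group]
  calc cj (g * y) (cj z⁻¹ s) = g * (y * (cj z⁻¹ s) * y⁻¹) * g⁻¹ := by simp [cj, mul_assoc]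
    _ = g * (z * (cj z⁻¹ s) * z⁻¹) * g⁻¹ := by rw [hyz _ hs']
    _ = cj g s := by simp [cj, mul_assoc]

theorem isMap_cj_top (hF : (Cfsg.groupFusionSystem (S : Subgroup G)).IsSaturated p)
    (hE : E.IsSaturated p) (hinv : E.IsInvariantIn (Cfsg.groupFusionSystem (S : Subgroup G)))
    {R : Subgroup G} (hR : (Cfsg.groupFusionSystem (S : Subgroup G)).IsFullyNormalized R)
    (hRc : (Cfsg.groupFusionSystem (S : Subgroup G)).IsCentric R) {g : G}
    (hg : g ∈ Subgroup.closure {g : G | g ∈ Subgroup.normalizer (R : Set G) ∧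
      ∃ k : ℕ, orderOf g = p ^ k})
    (hgS : g ∈ Subgroup.normalizer ((S : Subgroup G) : Set G)) :
    IsMap E (S : Subgroup G) (cj g) := by
  have hgN : ∀ g, g ∈ Subgroup.closure {g : G | g ∈ Subgroup.normalizer (R : Set G) ∧
      ∃ k : ℕ, orderOf g = p ^ k} → g ∈ Subgroup.normalizer (R : Set G) :=
    fun g hg => (Subgroup.closure_le _).2 (fun x hx => hx.1) hg
  have hR' : IsMap E R (cj g) := by
    let f : normalizerIn ⊤ R →* MulAut R := conjAut ⊤ R
    suffices h : ∀ g' (hg' : g' ∈ Subgroup.normalizer (R : Set G)),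
        g' ∈ Subgroup.closure {g : G | g ∈ Subgroup.normalizer (R : Set G) ∧
          ∃ k : ℕ, orderOf g = p ^ k} → f ⟨g', Subgroup.mem_top _, hg'⟩ ∈ E.autGroup R from
      (isMap_of_mem_autGroup hR.1 (h g (hgN g hg) hg)).congr fun x hx => conjAut_apply _ hx
    intro g' hg' hc
    induction hc using Subgroup.closure_induction with
    | mem x hx =>
      obtain ⟨k, hk⟩ := hx.2
      have h1 : f ⟨x, Subgroup.mem_top _, hg'⟩ ∈
          (Cfsg.groupFusionSystem (S : Subgroup G)).autGroup R := by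
        rw [Cfsg.Agent.Fusion.Group.autGroup_group hR.1, ← conjAut_range]
        exact ⟨_, rfl⟩
      have h2 : orderOf (f ⟨x, Subgroup.mem_top _, hg'⟩) ∣ p ^ k :=
        (orderOf_map_dvd f _).trans (dvd_of_eq ((Subgroup.orderOf_coe _).symm.trans hk))
      obtain ⟨j, -, hj⟩ := (Nat.dvd_prime_pow (Fact.out : p.Prime)).1 h2
      exact Cfsg.Agent.Fusion.WeaklyNormalTop.pElement_mem S.isPGroup' hF hinv hR h1 hj
    | one =>
      rw [show (⟨1, Subgroup.mem_top _, hg'⟩ : normalizerIn ⊤ R) = 1 from rfl, map_one]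
      exact Subgroup.one_mem _
    | mul a b ha hb iha ihb =>
      rw [show (⟨a * b, Subgroup.mem_top _, hg'⟩ : normalizerIn ⊤ R) =
        ⟨a, Subgroup.mem_top _, hgN a ha⟩ * ⟨b, Subgroup.mem_top _, hgN b hb⟩ from rfl, map_mul]
      exact Subgroup.mul_mem _ (iha (hgN a ha)) (ihb (hgN b hb))
    | inv a ha iha =>
      rw [show (⟨a⁻¹, Subgroup.mem_top _, hg'⟩ : normalizerIn ⊤ R) =
        ⟨a, Subgroup.mem_top _, hgN a ha⟩⁻¹ from rfl, map_inv]
      exact Subgroup.inv_mem _ (iha (hgN a ha))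
  suffices ∀ n, ∀ N : Subgroup G, Nat.card (S : Subgroup G) - Nat.card N = n →
      (Cfsg.groupFusionSystem (S : Subgroup G)).IsCentric N →
      g ∈ Subgroup.normalizer (N : Set G) → IsMap E N (cj g) → IsMap E (S : Subgroup G) (cj g) from
    this _ R rfl hRc (hgN g hg) hR'
  intro n
  induction n using Nat.strong_induction_on with
  | _ n ih =>
    intro N hn hNc hgNn hm
    rcases eq_or_lt_of_le hNc.1 with h | h
    · exact h ▸ hm
    set M := normalizerIn (S : Subgroup G) N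
    have hlt : N < M := lt_normalizerIn S.isPGroup' h
    have hgM : g ∈ Subgroup.normalizer (M : Set G) := mem_normalizer_of_forall fun s hs =>
      ⟨(Subgroup.mem_normalizer_iff.1 hgS s).1 hs.1,
        Subgroup.mul_mem _ (Subgroup.mul_mem _ hgNn hs.2) (Subgroup.inv_mem _ hgNn)⟩
    have hMc : (Cfsg.groupFusionSystem (S : Subgroup G)).IsCentric M := by
      refine ⟨normalizerIn_le, fun Q hQ => ?_⟩
      obtain ⟨f, hf, rfl⟩ := isConj_iff_map.1 hQ
      intro x hx
      exact img_mono f hlt.le (hNc.2 _ (isConj_iff_map.2 ⟨f, hf.restrict hlt.le, rfl⟩)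
        ⟨hx.1, fun y hy => hx.2 y (img_mono f hlt.le hy)⟩)
    have h1 : Nat.card N < Nat.card M := card_lt_card hlt
    have h2 : Nat.card M ≤ Nat.card (S : Subgroup G) := card_le_card hMc.1
    exact ih _ (by omega) M rfl hMc hgM (isMap_cj_step S hE hinv.1 hNc hlt.le le_rfl hgNn hgM hm)

/-- Let G be a finite group with nontrivial Sylow p-subgroup S and F its fusion system on S. Suppose (a) no nontrivial proper subgroup of S is strongly closed in F, and (b) the automorphisms of S induced by G are generated by those induced, for R running over the fully normalized radical centric subgroups of F, by the subgroup of N_G(R) generated by its elements of p-power order. Then F is simple. -/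
theorem result {G : Type*} [Group G] [Finite G] (p : ℕ) [Fact p.Prime] (S : Sylow p G) (hS1 : (S : Subgroup G) ≠ ⊥) (ha : ∀ T : Subgroup G, (Cfsg.groupFusionSystem (S : Subgroup G)).StronglyClosed T → T = ⊥ ∨ T = (S : Subgroup G)) (hb : Cfsg.autInducedBy ⊤ (S : Subgroup G) = ⨆ (R : Subgroup G) (_ : (Cfsg.groupFusionSystem (S : Subgroup G)).IsFullyNormalized R ∧ (Cfsg.groupFusionSystem (S : Subgroup G)).IsRadical p R ∧ (Cfsg.groupFusionSystem (S : Subgroup G)).IsCentric R), Cfsg.autInducedBy (Subgroup.closure {g : G | g ∈ Subgroup.normalizer (R : Set G) ∧ ∃ k : ℕ, orderOf g = p ^ k}) (S : Subgroup G)) : (Cfsg.groupFusionSystem (S : Subgroup G)).IsSimple p := by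
  set F := Cfsg.groupFusionSystem (S : Subgroup G)
  have hF : F.IsSaturated p := Cfsg.Agent.Fusion.Group.group_saturated S
  refine ⟨hF, hS1, fun T E hE => ?_⟩
  have hinv : E.IsInvariantIn F := hE.1.2.2
  refine (ha T hinv.2.1).imp id fun hTS => ?_
  subst hTS
  refine ⟨rfl, fun P => Set.Subset.antisymm (hinv.1 P) fun φ hφ => ?_⟩
  have haut : F.autGroup (S : Subgroup G) ≤ E.autGroup (S : Subgroup G) := by
    rw [Cfsg.Agent.Fusion.Group.autGroup_group le_rfl, hb]
    refine iSup₂_le fun R hR α hα => ?_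
    obtain ⟨g, hg, hge⟩ := mem_autInducedBy_iff'.1 hα
    exact (mem_autGroup_iff le_rfl).2
      ((isMap_cj_top S hF hE.1.1 hinv hR.1 hR.2.2 hg.1 hg.2).congr fun x hx => (hge x hx).symm)
  obtain ⟨α, hα, f₀, hf₀, he⟩ :=
    Cfsg.Agent.Fusion.Subsystems.invariant_frattini hinv (F.le_of_mem hφ).1 (IsMap.of_hom hφ)
  refine ((isMap_of_mem_autGroup le_rfl (haut hα)).comp hf₀ fun x hx => hf₀.mem hx).hom_mem
    fun x => ?_
  rw [← ext_apply φ x, he x x.2]

end Cfsg.Agent.S5160
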