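import Cfsg.Statements.S4625
import Cfsg.Agent.Lib.SylowAb.LieTwoClassical
import Cfsg.Agent.Lib.SylowAb.LieTwoExc
import Cfsg.Agent.Lib.Suzuki.LieEquiv
-- import your own Cfsg.Agent.* helpers here

set_option autoImplicit false
open Cfsg

namespace Cfsg.Agent.S4625

/-- Let G be a finite simple group of Lie type in characteristic 2, not counting the Tits group ²F₄(2)′. Then a Sylow 2-subgroup P of G has P/P' elementary abelian: the square of every element of P lies in the derived subgroup of P. -/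
theorem result {G : Type*} [Group G] [Finite G] [IsSimpleGroup G] (hG : Cfsg.IsLieTypeChar 2 G) (P : Sylow 2 G) :
    ∀ x : (P : Subgroup G), x ^ 2 ∈ commutator (P : Subgroup G) := by
  classical
  open Cfsg.Agent.SylowAb in
  exact by
    have tr : ∀ {H : Type} [Group H] [Finite H] (_ : G ≃* H),
        (∀ Q : Sylow 2 H, SqDer (Q : Subgroup H)) → SqDer (P : Subgroup G) := by
      intro H _ _ e h
      have : Fact (Nat.Prime 2) := ⟨Nat.prime_two⟩
      exact sqDer_mulEquiv ((P : Subgroup G).equivMapOfInjective e.toMonoidHom e.injective).symm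
        (h (P.mapSurjective (f := e.toMonoidHom) e.surjective))
    rcases hG with ⟨F, _, _, _, n, hn, -, ⟨e⟩⟩ | ⟨F, _, _, _, m, hm, -, ⟨e⟩⟩ |
      ⟨F, _, _, _, n, q, hF, hn, -, ⟨e⟩⟩ | ⟨F, _, _, _, m, -, hodd, -⟩ |
      ⟨F, _, _, _, m, hm, ⟨e⟩⟩ | ⟨F, _, _, _, m, a, b, hm, hab, ⟨e⟩⟩ |
      ⟨F, _, _, _, h⟩ | ⟨F, _, _, _, q, hq, h⟩ | ⟨-, h⟩ | ⟨-, h⟩ | ⟨h2, -⟩
    · exact tr e (LieTwoClassical.psl (by omega))
    · exact tr e (LieTwoClassical.psp (by omega))
    · exact tr e (LieTwoClassical.psu hF (by omega))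
    · exfalso
      exact Nat.not_even_iff_odd.2 hodd (Nat.even_iff.2
        (FiniteField.even_card_iff_char_two.1 (ringChar.eq F 2)))
    · exact tr e (LieTwoClassical.pomegaPlus hm)
    · exact tr e (LieTwoClassical.pomegaMinus (by omega) hab)
    · rcases h with ⟨-, ⟨e⟩⟩ | ⟨⟨e⟩⟩ | ⟨⟨e⟩⟩ | ⟨⟨e⟩⟩ | ⟨⟨e⟩⟩
      all_goals exact tr e (LieTwoExc.chevalley _ (by simp))
    · rcases h with ⟨hF, ⟨e⟩⟩ | ⟨hF, ⟨e⟩⟩
      · exact tr e (LieTwoExc.twistedE6 hq hF)
      · exact tr e (LieTwoExc.twistedD4 hq hF)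
    · obtain ⟨F, _, _, m, hm, hF, ⟨e⟩⟩ := h
      have := Suzuki.charTwo hF
      obtain ⟨e'⟩ := Suzuki.lieEquiv (F := F) hm hF
      exact tr (e.trans e'.symm) (LieTwoExc.suzuki hm hF)
    · obtain ⟨F, _, _, m, hm, hF, ⟨e⟩⟩ := h
      have := Suzuki.charTwo hF
      exact tr e (LieTwoExc.twistedF4 hm hF)
    · exact absurd h2 (by norm_num)

end Cfsg.Agent.S4625
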