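import Cfsg.Statements.S0867
import Mathlib
import Cfsg.Agent.Lib.CharTheory.ExtendChar

set_option autoImplicit false
open Cfsg Cfsg.Agent.Characters Cfsg.Agent.CharTheory

namespace Cfsg.Agent.S0867

/-- Let N be a normal subgroup of the finite group G and ϑ an irreducible character of N of degree d, invariant under conjugation by G, such that the index of N is coprime to the product of d and the determinantal order of ϑ. Then there is an irreducible character χ of G restricting to ϑ whose determinantal order equals that of ϑ, and χ is the only irreducible character of G restricting to ϑ whose determinantal order is coprime to the index of N. -/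
theorem result {G : Type*} [Group G] [Finite G] (N : Subgroup G) [hN : N.Normal] (ϑ : N → ℂ) (hϑ : Cfsg.IsIrrCharacter N ϑ) (hinv : ∀ (g : G) (n : N), ϑ ⟨g * n * g⁻¹, hN.conj_mem (n : G) n.2 g⟩ = ϑ n) (d : ℕ) (hd : ϑ 1 = d) (hcop : Nat.Coprime N.index (Cfsg.detOrder ϑ * d)) : ∃ χ : G → ℂ, (Cfsg.IsIrrCharacter G χ ∧ (∀ n : N, χ n = ϑ n) ∧ Cfsg.detOrder χ = Cfsg.detOrder ϑ) ∧ ∀ χ' : G → ℂ, Cfsg.IsIrrCharacter G χ' → (∀ n : N, χ' n = ϑ n) → Nat.Coprime N.index (Cfsg.detOrder χ') → χ' = χ := by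
  have hϑc := isCharacter_of_isIrr hϑ
  have hdet := ExtendChar.detChar_isLinear hϑc
  have hdinv : ∀ (g : G) (n : N),
      Cfsg.detChar ϑ ⟨g * n * g⁻¹, hN.conj_mem (n : G) n.2 g⟩ = Cfsg.detChar ϑ n := by
    intro g n
    have h := congrFun (ExtendChar.detChar_comp (MulAut.conjNormal g : N ≃* N).toMonoidHom hϑc) n
    rw [← Clifford.conjBy_eq_comp, show Clifford.conjBy N g ϑ = ϑ from funext (hinv g)] at h
    refine Eq.trans ?_ h.symm
    exact congrArg (Cfsg.detChar ϑ) (Subtype.ext (by simp))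
  have hc1 : Nat.Coprime N.index (orderOf (Cfsg.detChar ϑ)) :=
    hcop.coprime_mul_right_right
  have hc2 : Nat.Coprime N.index d := hcop.coprime_mul_left_right
  obtain ⟨μ, hres, hord⟩ := ExtendChar.exists_linear_extension_coprime N hdet hdinv hc1
  obtain ⟨η, hη, hηN⟩ :=
    ExtendChar.exists_extension_det N hϑ (fun g => funext (hinv g)) hd hc2 μ hres
  obtain ⟨χ, ⟨hχ, hχN, hχdet⟩, huniq⟩ := ExtendChar.existsUnique_extension_det N hϑ hd hc2 hη hηN
    (ExtendChar.hom_isLinear μ).1 (ExtendChar.hom_isLinear μ).2 hres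
  refine ⟨χ, ⟨hχ, hχN, ?_⟩, fun χ' hχ' hχ'N hcop' => huniq χ' ⟨hχ', hχ'N, ?_⟩⟩
  · unfold Cfsg.detOrder
    rw [hχdet, hord]
  · have h := ExtendChar.detChar_isLinear (isCharacter_of_isIrr hχ')
    exact ExtendChar.linear_extension_unique N (ExtendChar.hom_isLinear μ).1
      (ExtendChar.hom_isLinear μ).2 h.1 h.2
      (fun n => (ExtendChar.detChar_restrict N (isCharacter_of_isIrr hχ') hχ'N n).trans (hres n).symm)
      (hord ▸ hc1) hcop'

end Cfsg.Agent.S0867
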