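import Cfsg.Statements.S2507
import Mathlib
import Cfsg.Agent.Lib.GL2.PSLClassSizes

set_option autoImplicit false
open Cfsg Matrix
open scoped MatrixGroups
open Cfsg.Agent.GL2 Classes Counts PSLProducts PSLClassSizes

namespace Cfsg.Agent.S2507

/-- Let F be a finite field with q = 2^f ≥ 4 elements. The conjugacy class sizes of PSL(2,F) are exactly 1, q(q − 1), q² − 1 and q(q + 1). -/
theorem result {F : Type*} [Field F] [Fintype F]
    (h2 : 2 ∣ Fintype.card F) (h4 : 4 ≤ Fintype.card F) :
    Set.range (fun g : (Matrix.ProjectiveSpecialLinearGroup (Fin 2) F) => (Subgroup.centralizer ({g} : Set (Matrix.ProjectiveSpecialLinearGroup (Fin 2) F))).index) =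
      {1, Fintype.card F * (Fintype.card F - 1), Fintype.card F ^ 2 - 1, Fintype.card F * (Fintype.card F + 1)} := by
  classical
  haveI : CharP F 2 := by
    obtain ⟨p, hp⟩ := CharP.exists F
    obtain ⟨k, hpp, hk⟩ := FiniteField.card F p
    have hp2 : 2 ∣ p := Nat.prime_two.dvd_of_dvd_pow (hk ▸ h2)
    rwa [← ((Nat.prime_dvd_prime_iff_eq Nat.prime_two hpp).1 hp2)] at hp
  have htwo : (2 : F) = 0 := CharTwo.two_eq_zero
  have hfour : (4 : F) = 0 := by linear_combination 2 * htwo
  have hone : (Subgroup.centralizer ({1} : Set (Matrix.ProjectiveSpecialLinearGroup (Fin 2) F))).index = 1 := by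
    rw [Subgroup.index_eq_one, Subgroup.centralizer_eq_top_iff_subset]
    simp
  have huni : ¬ IsScalar (Classical.GL2.uniSL (1 : F) : Matrix (Fin 2) (Fin 2) F) := fun h => by
    simpa [Classical.GL2.coe_uniSL] using ((isScalar_iff _).1 h).1
  obtain ⟨te, hte0, hte⟩ := exists_elliptic_trace (F := F) (by omega)
  set q := Fintype.card F with hq
  have hsq : q ^ 2 - 1 = (q - 1) * (q + 1) := by rw [mul_comm, ← Nat.sq_sub_sq, one_pow]
  have key : ∀ g : SL(2, F), ¬ IsScalar (g : Matrix (Fin 2) (Fin 2) F) →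
      ((g : Matrix (Fin 2) (Fin 2) F).trace = 0 →
        (Subgroup.centralizer ({toPSL g} : Set _)).index = q ^ 2 - 1) ∧
      ((g : Matrix (Fin 2) (Fin 2) F).trace ≠ 0 →
        (∀ r, r ^ 2 - (g : Matrix (Fin 2) (Fin 2) F).trace * r + 1 = 0 →
          (Subgroup.centralizer ({toPSL g} : Set _)).index = q * (q + 1)) ∧
        ((∀ r, r ^ 2 - (g : Matrix (Fin 2) (Fin 2) F).trace * r + 1 ≠ 0) →
          (Subgroup.centralizer ({toPSL g} : Set _)).index = q * (q - 1))) := by
    intro g hg
    have hidx := index_pre g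
    rw [pre_eq_of_trace g (Or.inl htwo), ← hq] at hidx
    refine ⟨fun ht => ?_, fun ht => ⟨fun r hr => ?_, fun hno => ?_⟩⟩
    · rw [natCard_centralizer_SL_parabolic g hg (s := 1) (one_pow 2) (by rw [ht, htwo, zero_mul]),
        sq_eq_one_card_two, mul_one] at hidx
      refine Nat.eq_of_mul_eq_mul_right (show 0 < q by omega) (hidx.trans ?_)
      rw [hsq]; ring
    · rw [natCard_centralizer_split g (by rw [hfour]; exact pow_ne_zero 2 ht) hr] at hidx
      refine Nat.eq_of_mul_eq_mul_right (show 0 < q - 1 by omega) (hidx.trans ?_)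
      ring
    · rw [natCard_centralizer_elliptic_SL g hno] at hidx
      refine Nat.eq_of_mul_eq_mul_right (show 0 < q + 1 by omega) (hidx.trans ?_)
      ring
  refine Set.Subset.antisymm ?_ ?_
  · rintro _ ⟨x, rfl⟩
    obtain ⟨g, rfl⟩ := QuotientGroup.mk_surjective x
    simp only [Set.mem_insert_iff, Set.mem_singleton_iff]
    by_cases hg : IsScalar (g : Matrix (Fin 2) (Fin 2) F)
    · left
      exact (congrArg (fun z : Matrix.ProjectiveSpecialLinearGroup (Fin 2) F =>
        (Subgroup.centralizer ({z} : Set _)).index) ((toPSL_eq_one_iff g).2 hg)).trans hone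
    by_cases ht : (g : Matrix (Fin 2) (Fin 2) F).trace = 0
    · exact Or.inr (Or.inr (Or.inl ((key g hg).1 ht)))
    by_cases hr : ∃ r, r ^ 2 - (g : Matrix (Fin 2) (Fin 2) F).trace * r + 1 = 0
    · obtain ⟨r, hr⟩ := hr
      exact Or.inr (Or.inr (Or.inr (((key g hg).2 ht).1 r hr)))
    · exact Or.inr (Or.inl (((key g hg).2 ht).2 (not_exists.1 hr)))
  · obtain ⟨r, hr0, hr1⟩ : ∃ r : F, r ≠ 0 ∧ r ≠ 1 := by
      by_contra hh
      push Not at hh
      have : Fintype.card F ≤ 2 := (Finset.card_le_card (s := (Finset.univ : Finset F)) (t := {0, 1})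
        fun y _ => by by_cases hy : y = 0 <;> simp [hy, hh y]).trans (Finset.card_le_two)
      omega
    have hco : ∀ t : F, (companionSL t : Matrix (Fin 2) (Fin 2) F).trace = t ∧
        ¬ IsScalar (companionSL t : Matrix (Fin 2) (Fin 2) F) := fun t => by
      rw [coe_companionSL]; exact ⟨trace_companion t 1, not_isScalar_companion t 1⟩
    have hts : r + r⁻¹ ≠ 0 := fun e => by
      have hrr : (r - 1) ^ 2 = 0 := by
        field_simp at e
        linear_combination e - r * htwo
      exact hr1 (sub_eq_zero.1 ((pow_eq_zero_iff two_ne_zero).1 hrr))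
    intro v hv
    simp only [Set.mem_insert_iff, Set.mem_singleton_iff] at hv
    rcases hv with rfl | rfl | rfl | rfl
    · exact ⟨1, hone⟩
    · refine ⟨toPSL (companionSL te), ((key _ (hco te).2).2 (by rw [(hco te).1]; exact hte0)).2 ?_⟩
      rw [(hco te).1]; exact hte
    · refine ⟨toPSL (Classical.GL2.uniSL 1), (key _ huni).1 ?_⟩
      rw [Classical.GL2.coe_uniSL, trace_fin_two]
      simp
      linear_combination htwo
    · refine ⟨toPSL (companionSL (r + r⁻¹)), ((key _ (hco _).2).2 (by rw [(hco _).1]; exact hts)).1 r ?_⟩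
      rw [(hco _).1]
      field_simp
      ring

end Cfsg.Agent.S2507
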