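import Cfsg.Statements.S3192
import Cfsg.Agent.ClassRankThree.Contain
import Cfsg.Agent.S2507
import Cfsg.Agent.Lib.Classical.Linear

set_option autoImplicit false
open Cfsg

namespace Cfsg.Agent.S3192

/-- Simple groups of conjugate type rank three. For a finite group G consider the set of indices of the centralizers of the non-central elements of G. Then G is a non-abelian simple group for which this set has exactly three members if and only if G is isomorphic to PSL(2, 2^m) for some m ≥ 2. -/
theorem result (G : Type*) [Group G] [Finite G] :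
    (IsSimpleGroup G ∧ ¬ IsMulCommutative G ∧
        Set.ncard {m : ℕ | ∃ x : G, x ∉ Subgroup.center G ∧ m = (Subgroup.centralizer ({x} : Set G)).index} = 3) ↔
      ∃ (m : ℕ) (F : Type) (_ : Field F) (_ : Fintype F), 2 ≤ m ∧ Fintype.card F = 2 ^ m ∧
        Nonempty (G ≃* Matrix.ProjectiveSpecialLinearGroup (Fin 2) F) := by
  refine ⟨fun ⟨hs, hc, h3⟩ => ClassRankThree.forward hc h3, ?_⟩
  rintro ⟨m, F, iF, iT, hm, hF, ⟨e⟩⟩
  classical
  have h4 : 4 ≤ Fintype.card F := by
    rw [hF]; exact (show (4 : ℕ) = 2 ^ 2 from rfl) ▸ Nat.pow_le_pow_right two_pos hm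
  have h2 : 2 ∣ Fintype.card F := hF ▸ dvd_pow_self 2 (by omega)
  haveI hsP := Classical.Linear.isSimpleGroup_PSL_fin (F := F) (le_refl 2) fun _ => h4
  haveI hsG : IsSimpleGroup G := e.isSimpleGroup
  set q := Fintype.card F with hq
  have hrange := S2507.result h2 h4
  rw [← hq] at hrange
  have hcs : ∀ x : G, (Subgroup.centralizer ({x} : Set G)).index =
      (Subgroup.centralizer ({e x} : Set (Matrix.ProjectiveSpecialLinearGroup (Fin 2) F))).index := by
    intro x
    rw [show Subgroup.centralizer ({e x} : Set _) =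
      (Subgroup.centralizer ({x} : Set G)).map e.toMonoidHom from ?_]
    · exact (Subgroup.index_map_equiv _ e).symm
    · ext y
      rw [Subgroup.mem_map_equiv, Subgroup.mem_centralizer_singleton_iff,
        Subgroup.mem_centralizer_singleton_iff, ← e.injective.eq_iff, map_mul, map_mul,
        MulEquiv.apply_symm_apply]
  obtain ⟨k, hk⟩ : ∃ k, q = k + 1 := ⟨q - 1, by omega⟩
  have hA : q * (q - 1) = q * k := by rw [hk, Nat.add_sub_cancel]
  have hB : q ^ 2 - 1 = q * k + k := by
    rw [hk]; exact Nat.sub_eq_of_eq_add (by ring)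
  have hC : q * (q + 1) = q * k + 2 * k + 2 := by rw [hk]; ring
  have hqk : 2 ≤ q * k := le_trans (by omega) (Nat.le_mul_of_pos_left k (by omega : 0 < q))
  have hset : {m : ℕ | ∃ x : G, x ∉ Subgroup.center G ∧ m = (Subgroup.centralizer ({x} : Set G)).index} =
      {q * (q - 1), q ^ 2 - 1, q * (q + 1)} := by
    ext v
    constructor
    · rintro ⟨x, hx, rfl⟩
      have hne : (Subgroup.centralizer ({x} : Set G)).index ≠ 1 := fun h1 => hx <| by
        rwa [Subgroup.index_eq_one, Subgroup.centralizer_eq_top_iff_subset, Set.singleton_subset_iff] at h1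
      have hmem := hrange.subset ⟨e x, rfl⟩
      simp only [← hcs, Set.mem_insert_iff, Set.mem_singleton_iff] at hmem
      simpa [Set.mem_insert_iff, hne] using hmem
    · intro hv
      have hv1 : v ≠ 1 := by
        simp only [Set.mem_insert_iff, Set.mem_singleton_iff] at hv
        omega
      obtain ⟨y, rfl⟩ := hrange.symm.subset (Set.mem_insert_of_mem 1 hv)
      refine ⟨e.symm y, fun hy => hv1 ?_, by rw [hcs, MulEquiv.apply_symm_apply]⟩
      show (Subgroup.centralizer ({y} : Set _)).index = 1
      rw [← MulEquiv.apply_symm_apply e y, ← hcs, Subgroup.index_eq_one,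
        Subgroup.centralizer_eq_top_iff_subset, Set.singleton_subset_iff]
      exact hy
  have h3 : Set.ncard {m : ℕ | ∃ x : G, x ∉ Subgroup.center G ∧
      m = (Subgroup.centralizer ({x} : Set G)).index} = 3 := by
    rw [hset, Set.ncard_eq_three]
    exact ⟨_, _, _, by omega, by omega, by omega, rfl⟩
  refine ⟨hsG, fun hc => ?_, h3⟩
  have hempty : {m : ℕ | ∃ x : G, x ∉ Subgroup.center G ∧
      m = (Subgroup.centralizer ({x} : Set G)).index} = ∅ :=
    Set.eq_empty_of_forall_notMem fun v ⟨x, hx, _⟩ =>
      hx (Subgroup.mem_center_iff.2 fun g => hc.is_comm.comm g x)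
  rw [hempty, Set.ncard_empty] at h3
  omega

end Cfsg.Agent.S3192
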