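import Cfsg.Statements.S5628
import Cfsg.Agent.Lib.PlaneFour.Hyperovals

set_option autoImplicit false
open Cfsg

namespace Cfsg.Agent.S5628

open Cfsg.Agent.PlaneFour.Hyperovals Cfsg.Agent.PlaneFour.Coord
open scoped Pointwise

theorem mem_aut_iff {α : Type*} [Fintype α] [DecidableEq α] (L : Set (Finset α)) (g : Equiv.Perm α) :
    g ∈ Cfsg.setSystemAut L ↔ ∀ s : Finset α, s.image g ∈ L ↔ s ∈ L := by
  rw [MulAction.mem_stabilizer_iff]
  constructor
  · intro h s
    have : g • s = s.image g := rfl
    rw [← this]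
    conv_lhs => rw [← h]
    exact Set.smul_mem_smul_set_iff
  · intro h
    ext s
    rw [Set.mem_smul_set_iff_inv_smul_mem, ← h (g⁻¹ • s)]
    rw [show (g⁻¹ • s).image g = g • (g⁻¹ • s) from rfl, smul_inv_smul]

/-- In a projective plane of order 4 (a Steiner system S(2, 5, 21)), every permutation of the six points of a hyperoval (a 6-set met by no line in more than two points) is the restriction of exactly one automorphism of the plane. In particular the stabiliser of a hyperoval in the automorphism group is isomorphic to the symmetric group of degree 6 acting faithfully on the hyperoval. -/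
theorem result {α : Type*} [Fintype α] [DecidableEq α] (hα : Fintype.card α = 21) (L : Set (Finset α)) (hL : Cfsg.IsSteinerSystem 2 5 L) (H : Finset α) (hH : (H.card = 6 ∧ ∀ l ∈ L, (l ∩ H).card ≤ 2)) (σ : Equiv.Perm ↥H) : ∃! g : Equiv.Perm α, g ∈ Cfsg.setSystemAut L ∧ ∀ p : ↥H, g p = σ p := by
  classical
  obtain ⟨e, he, heH⟩ := exists_std_at hL hα hH.1 hH.2
  have hmem : ∀ p : Fin 21, p ∈ H0 ↔ e p ∈ H := fun p => by
    rw [← heH, e.injective.mem_finset_image]
  let E : H0 ≃ H := e.subtypeEquiv hmem
  obtain ⟨g, hg, hgσ⟩ := extend_perm ((E.trans σ).trans E.symm)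
  refine ⟨(e.symm.trans g).trans e, ⟨?_, fun p => ?_⟩, fun k hk => ?_⟩
  · rw [mem_aut_iff]
    intro s
    have e1 : s.image ((e.symm.trans g).trans e) = ((s.image e.symm).image g).image e := by
      simp [Finset.image_image, Function.comp_def]
    rw [e1, he, hg, ← he]
    simp [Finset.image_image, Function.comp_def]
  · have h := hgσ (E.symm p)
    show e (g (e.symm p)) = σ p
    rw [show e.symm (p : α) = (E.symm p : Fin 21) from rfl, h]
    simp [E, Equiv.subtypeEquiv]
  · obtain ⟨hkL, hkσ⟩ := hk
    rw [mem_aut_iff] at hkL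
    set m : Equiv.Perm (Fin 21) := g⁻¹ * (e.trans k).trans e.symm
    have hm : m ∈ stdAut := by
      refine mul_mem (inv_mem hg) fun s => ?_
      rw [← he, ← he, ← hkL (s.image e)]
      simp [Finset.image_image, Function.comp_def]
    have hm1 : m = 1 := fix_hyperoval hm fun p hp => by
      show g⁻¹ (e.symm (k (e p))) = p
      rw [Equiv.Perm.inv_eq_iff_eq, hgσ ⟨p, hp⟩, show k (e p) = σ (E ⟨p, hp⟩) from hkσ (E ⟨p, hp⟩)]
      simp [E, Equiv.subtypeEquiv]
    have hk' : (e.trans k).trans e.symm = g := (inv_mul_eq_one.1 hm1).symm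
    ext x
    rw [← hk']
    simp

end Cfsg.Agent.S5628
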