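import Cfsg.Statements.S1219


set_option autoImplicit false
open scoped MatrixGroups
open Cfsg

namespace Cfsg.Agent.S1219

open Matrix
open scoped MatrixGroups

variable {F : Type*} [Field F]

/-- An involution of determinant one is similar to `diag (-1, -1, 1)`. -/
theorem exists_diag (h2 : (2 : F) ≠ 0) (M : Matrix (Fin 3) (Fin 3) F) (hM : M * M = 1) (hd : M.det = 1)
    (h1 : M ≠ 1) : ∃ P : GL (Fin 3) F, M * (P : Matrix (Fin 3) (Fin 3) F) =
      (P : Matrix (Fin 3) (Fin 3) F) * diagonal ![-1, -1, 1] := by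
  have hMM : ∀ x, M *ᵥ (M *ᵥ x) = x := fun x => by rw [mulVec_mulVec, hM, one_mulVec]
  obtain ⟨w, hw0, hw⟩ : ∃ w : Fin 3 → F, w ≠ 0 ∧ M *ᵥ w = -w := by
    obtain ⟨i, hi⟩ : ∃ i : Fin 3, M *ᵥ Pi.single i 1 ≠ Pi.single i 1 := by
      by_contra h
      push Not at h
      refine h1 (Matrix.ext fun j i => ?_)
      have := congrFun (h i) j
      rw [mulVec_single_one] at this
      simpa [Matrix.col, Matrix.one_apply, Pi.single_apply] using this
    exact ⟨Pi.single i 1 - M *ᵥ Pi.single i 1, sub_ne_zero.2 (Ne.symm hi), by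
      rw [mulVec_sub, hMM]; abel⟩
  obtain ⟨v, hv0, hv⟩ : ∃ v : Fin 3 → F, v ≠ 0 ∧ M *ᵥ v = v := by
    by_contra h
    push Not at h
    have hneg : ∀ x, M *ᵥ x = -x := fun x => by
      by_contra hne
      exact h (x + M *ᵥ x) (fun e => hne (eq_neg_of_add_eq_zero_right e))
        (by rw [mulVec_add, hMM, add_comm])
    have hM1 : M = -1 := Matrix.ext fun j i => by
      have := congrFun (hneg (Pi.single i 1)) j
      rw [mulVec_single_one] at this
      simpa [Matrix.col, Matrix.one_apply, Pi.single_apply] using this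
    rw [hM1, det_neg, det_one, Fintype.card_fin] at hd
    exact h2 (by linear_combination -hd)
  set W := Submodule.span F ({w, v} : Set (Fin 3 → F))
  have hW : W ≠ ⊤ := by
    intro hW
    classical
    have h3 := finrank_span_finset_le_card (R := F) ({w, v} : Finset (Fin 3 → F))
    rw [Set.finrank, Finset.coe_pair] at h3
    change Module.finrank F W ≤ _ at h3
    rw [hW, finrank_top, Module.finrank_fin_fun] at h3
    exact absurd (h3.trans Finset.card_le_two) (by norm_num)
  obtain ⟨x, hx⟩ : ∃ x, x ∉ W := by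
    by_contra h
    push Not at h
    exact hW (Submodule.eq_top_iff'.2 h)
  obtain ⟨y, e, hy, hye⟩ : ∃ y e, y ∉ W ∧ (e = 1 ∨ e = -1) ∧ M *ᵥ y = (e : F) • y := by
    by_cases hp : x + M *ᵥ x ∈ W
    · refine ⟨x - M *ᵥ x, -1, fun hm => hx ?_, Or.inr rfl, by rw [mulVec_sub, hMM]; simp⟩
      have := W.smul_mem (2⁻¹ : F) (W.add_mem hp hm)
      rwa [show x + M *ᵥ x + (x - M *ᵥ x) = (2 : F) • x by rw [two_smul]; abel, smul_smul,
        inv_mul_cancel₀ h2, one_smul] at this
    · exact ⟨x + M *ᵥ x, 1, hp, Or.inl rfl, by rw [mulVec_add, hMM, one_smul, add_comm]⟩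
  let B : Matrix (Fin 3) (Fin 3) F := Matrix.of fun i j => ![w, y, v] j i
  have hBx : ∀ c : Fin 3 → F, B *ᵥ c = c 0 • w + c 1 • y + c 2 • v := by
    intro c
    funext i
    simp [B, mulVec, dotProduct, Fin.sum_univ_three]
    ring
  have hdet : B.det ≠ 0 := by
    intro h
    obtain ⟨c, hc, hBc⟩ := Matrix.exists_mulVec_eq_zero_iff.2 h
    rw [hBx] at hBc
    have h1c : c 1 = 0 := by
      by_contra hc1
      refine hy ?_
      have e1 : y = (-(c 0) / c 1) • w + (-(c 2) / c 1) • v := by
        funext i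
        have := congrFun hBc i
        simp at this ⊢
        field_simp
        linear_combination this
      rw [e1]
      exact W.add_mem (W.smul_mem _ (Submodule.subset_span (by simp)))
        (W.smul_mem _ (Submodule.subset_span (by simp)))
    rw [h1c, zero_smul, add_zero] at hBc
    have h3 := congrArg (fun z => M *ᵥ z) hBc
    simp only [mulVec_add, mulVec_smul, hw, hv, mulVec_zero] at h3
    have h4 : (2 * c 2) • v = 0 := by
      have := congrArg₂ (· + ·) hBc h3
      simp only [add_zero] at this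
      rw [← this, smul_neg, two_mul, add_smul]; abel
    rcases smul_eq_zero.1 h4 with h5 | h5
    · have h6 : c 2 = 0 := (mul_eq_zero.1 h5).resolve_left h2
      rw [h6, zero_smul, add_zero] at hBc
      exact hc (by
        ext i; fin_cases i
        exacts [(smul_eq_zero.1 hBc).resolve_right hw0, h1c, h6])
    · exact hv0 h5
  have hMB : M * B = B * diagonal ![-1, e, 1] := by
    refine Matrix.ext fun i j => ?_
    have hcol : (M * B) i j = (M *ᵥ (![w, y, v] j)) i := rfl
    rw [hcol, mul_diagonal]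
    fin_cases j
    · simp [B, hw]
    · simp [B, hye.2, mul_comm]
    · simp [B, hv]
  refine ⟨GeneralLinearGroup.mkOfDetNeZero B hdet, ?_⟩
  show M * B = B * _
  rw [hMB]
  congr 2
  have h := congrArg Matrix.det hMB
  rw [det_mul, det_mul, hd, one_mul, det_diagonal, Fin.prod_univ_three] at h
  simp at h
  have he : e = -1 := by
    rcases hye.1 with e1 | e1
    · subst e1
      exfalso
      apply h2
      have h3 : B.det * 2 = 0 := by linear_combination h
      exact (mul_eq_zero.1 h3).resolve_left hdet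
    · exact e1
  rw [he]

/-- The matrix `diag (A, det A⁻¹)`. -/
def blockMat (A : GL (Fin 2) F) : Matrix (Fin 3) (Fin 3) F :=
  !![A 0 0, A 0 1, 0; A 1 0, A 1 1, 0; 0, 0, (A : Matrix (Fin 2) (Fin 2) F).det⁻¹]

/-- `GL₂` inside `SL₃`. -/
def blockHom (F : Type*) [Field F] : GL (Fin 2) F →* SL(3, F) where
  toFun A := ⟨blockMat A, by
    have hd : (A : Matrix (Fin 2) (Fin 2) F).det ≠ 0 := (GeneralLinearGroup.det A).ne_zero
    rw [blockMat, det_fin_three]
    simp [det_fin_two] at hd ⊢
    field_simp⟩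
  map_one' := Subtype.ext (by
    ext i j
    fin_cases i <;> fin_cases j <;> simp [blockMat])
  map_mul' A B := Subtype.ext (by
    show blockMat (A * B) = blockMat A * blockMat B
    ext i j
    fin_cases i <;> fin_cases j <;>
      simp [blockMat, Matrix.mul_apply, Fin.sum_univ_three, Fin.sum_univ_two, Units.val_mul, det_mul]
    all_goals ring)

theorem coe_blockHom (A : GL (Fin 2) F) : (blockHom F A : Matrix (Fin 3) (Fin 3) F) = blockMat A := rfl

/-- Conjugation by an element of `GL₃`. -/
def conjSL (P : GL (Fin 3) F) : SL(3, F) →* SL(3, F) where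
  toFun g := ⟨(P : Matrix (Fin 3) (Fin 3) F) * g * (P⁻¹ : GL (Fin 3) F), by
    rw [det_mul, det_mul, g.2, mul_one, ← det_mul, Units.mul_inv, det_one]⟩
  map_one' := Subtype.ext (by simp)
  map_mul' g h := Subtype.ext (by
    show _ = (P : Matrix (Fin 3) (Fin 3) F) * g * (P⁻¹ : GL (Fin 3) F) * (P * h * (P⁻¹ : GL (Fin 3) F))
    simp [Matrix.mul_assoc, ← Matrix.mul_assoc ((P⁻¹ : GL (Fin 3) F) : Matrix (Fin 3) (Fin 3) F)])

theorem coe_conjSL (P : GL (Fin 3) F) (g : SL(3, F)) : (conjSL P g : Matrix (Fin 3) (Fin 3) F) =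
    (P : Matrix (Fin 3) (Fin 3) F) * g * (P⁻¹ : GL (Fin 3) F) := rfl

/-- Let F be a finite field of odd order q and t an involution of PSL(3,F). Then C(t) is isomorphic to the quotient of GL(2,F) by a central subgroup of order gcd(q−1, 3). -/
theorem result {F : Type*} [Field F] [Fintype F] (hF : Odd (Fintype.card F)) (t : Matrix.ProjectiveSpecialLinearGroup (Fin 3) F) (ht : orderOf t = 2) : ∃ (Z : Subgroup (GL (Fin 2) F)) (_ : Z.Normal), Z ≤ Subgroup.center (GL (Fin 2) F) ∧ Nat.card Z = Nat.gcd (Fintype.card F - 1) 3 ∧ Nonempty (↥(Subgroup.centralizer ({t} : Set (Matrix.ProjectiveSpecialLinearGroup (Fin 3) F))) ≃* GL (Fin 2) F ⧸ Z) := by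
  classical
  have : Fact (Nat.Prime 2) := ⟨Nat.prime_two⟩
  have h2 : (2 : F) ≠ 0 := by
    intro h
    have hr : ringChar F ∣ 2 := ringChar.dvd (by exact_mod_cast h)
    have := FiniteField.even_card_of_char_two
      ((Nat.prime_two.eq_one_or_self_of_dvd _ hr).resolve_left (CharP.ringChar_ne_one))
    rw [Nat.odd_iff] at hF
    omega
  let π := QuotientGroup.mk' (Subgroup.center SL(3, F))
  have hzodd : ∀ z ∈ Subgroup.center SL(3, F), z * z = 1 → z = 1 := by
    intro z hz hzz
    obtain ⟨r, hr, hzr⟩ := Matrix.SpecialLinearGroup.mem_center_iff.1 hz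
    have h' := congrArg Subtype.val hzz
    rw [Matrix.SpecialLinearGroup.coe_mul, ← hzr, ← map_mul, Matrix.SpecialLinearGroup.coe_one,
      ← map_one (Matrix.scalar (Fin 3))] at h'
    have hr2 : r * r = 1 := Matrix.scalar_inj.1 h'
    rw [Fintype.card_fin] at hr
    have hr1 : r = 1 := by linear_combination hr - r * hr2
    exact Subtype.ext (by rw [← hzr, hr1, map_one]; rfl)
  obtain ⟨s, hs2, hs1, hst⟩ : ∃ s : SL(3, F), s * s = 1 ∧ s ≠ 1 ∧ π s = t := by
    obtain ⟨g, rfl⟩ := QuotientGroup.mk'_surjective _ t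
    have hg : g ^ 2 ∈ Subgroup.center SL(3, F) := by
      rw [← QuotientGroup.eq_one_iff, QuotientGroup.mk_pow, ← ht]
      exact pow_orderOf_eq_one _
    obtain ⟨r, hr, hgr⟩ := Matrix.SpecialLinearGroup.mem_center_iff.1 hg
    rw [Fintype.card_fin] at hr
    refine ⟨g * g ^ 2, ?_, fun h => ?_, ?_⟩
    · refine Subtype.ext ?_
      have h3 : (g ^ 2) ^ 3 = 1 := Subtype.ext (by
        rw [Matrix.SpecialLinearGroup.coe_pow, ← hgr, ← map_pow, hr, map_one]; rfl)
      rw [show g * g ^ 2 * (g * g ^ 2) = (g ^ 2) ^ 3 by group, h3]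
    · have h1 : π g = 1 := by
        have h' := congrArg π h
        rw [map_mul, map_one, show π (g ^ 2) = 1 from (QuotientGroup.eq_one_iff _).2 hg, mul_one] at h'
        exact h'
      change orderOf (π g) = 2 at ht
      rw [h1, orderOf_one] at ht
      omega
    · rw [map_mul]
      show π g * π (g ^ 2) = π g
      rw [show π (g ^ 2) = 1 from (QuotientGroup.eq_one_iff _).2 hg, mul_one]
  obtain ⟨P, hP⟩ := exists_diag h2 (s : Matrix (Fin 3) (Fin 3) F)
    (by rw [← Matrix.SpecialLinearGroup.coe_mul, hs2]; rfl) s.2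
    (fun h => hs1 (Subtype.ext h))
  have hs : (s : Matrix (Fin 3) (Fin 3) F) = (P : Matrix (Fin 3) (Fin 3) F) * diagonal ![-1, -1, 1] *
      ((P⁻¹ : GL (Fin 3) F) : Matrix (Fin 3) (Fin 3) F) := by
    rw [← hP, Matrix.mul_assoc, Units.mul_inv, Matrix.mul_one]
  let Φ : GL (Fin 2) F →* Matrix.ProjectiveSpecialLinearGroup (Fin 3) F :=
    π.comp ((conjSL P).comp (blockHom F))
  have hcomm : ∀ A, conjSL P (blockHom F A) * s = s * conjSL P (blockHom F A) := by
    intro A
    refine Subtype.ext ?_
    rw [Matrix.SpecialLinearGroup.coe_mul, Matrix.SpecialLinearGroup.coe_mul, coe_conjSL, hs]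
    simp only [Matrix.mul_assoc]
    simp only [← Matrix.mul_assoc ((P⁻¹ : GL (Fin 3) F) : Matrix (Fin 3) (Fin 3) F) (P : Matrix (Fin 3) (Fin 3) F), Units.inv_mul, Matrix.one_mul]
    simp only [← Matrix.mul_assoc (blockHom F A : Matrix (Fin 3) (Fin 3) F), ← Matrix.mul_assoc (diagonal ![(-1 : F), -1, 1])]
    congr 2
    rw [coe_blockHom]
    ext i j
    fin_cases i <;> fin_cases j <;> simp [blockMat, Matrix.mul_diagonal, Matrix.diagonal_mul]
  have hrange : Φ.range = Subgroup.centralizer ({t} : Set (Matrix.ProjectiveSpecialLinearGroup (Fin 3) F)) := by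
    apply le_antisymm
    · rintro _ ⟨A, rfl⟩
      rw [Subgroup.mem_centralizer_singleton_iff, ← hst]
      show π (conjSL P (blockHom F A)) * π s = π s * π (conjSL P (blockHom F A))
      rw [← map_mul, ← map_mul, hcomm]
    · intro x hx
      obtain ⟨g, rfl⟩ := QuotientGroup.mk'_surjective _ x
      rw [Subgroup.mem_centralizer_singleton_iff, ← hst] at hx
      have hz : s⁻¹ * (g * s * g⁻¹) ∈ Subgroup.center SL(3, F) := by
        rw [← QuotientGroup.eq_one_iff]
        show π (s⁻¹ * (g * s * g⁻¹)) = 1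
        simp only [map_mul, map_inv]
        change π g * π s = π s * π g at hx
        rw [hx]; group
      have hc1 : s⁻¹ * (g * s * g⁻¹) = 1 := by
        refine hzodd _ hz ?_
        set z := s⁻¹ * (g * s * g⁻¹) with hzdef
        have h1 : (s * z) * (s * z) = 1 := by
          rw [hzdef, mul_inv_cancel_left]
          calc g * s * g⁻¹ * (g * s * g⁻¹) = g * (s * s) * g⁻¹ := by group
            _ = 1 := by rw [hs2]; group
        calc z * z = s * s * (z * z) := by rw [hs2, one_mul]
          _ = s * (s * z) * z := by simp only [mul_assoc]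
          _ = s * (z * s) * z := by rw [Subgroup.mem_center_iff.1 hz s]
          _ = (s * z) * (s * z) := by simp only [mul_assoc]
          _ = 1 := h1
      have hgs : g * s = s * g := by
        rw [inv_mul_eq_one] at hc1
        calc g * s = g * s * g⁻¹ * g := by group
          _ = s * g := by rw [← hc1]
      set h := ((P⁻¹ : GL (Fin 3) F) : Matrix (Fin 3) (Fin 3) F) * g * (P : Matrix (Fin 3) (Fin 3) F) with hh
      have hJ : h * diagonal ![-1, -1, 1] = diagonal ![-1, -1, 1] * h := by
        have e := congrArg Subtype.val hgs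
        rw [Matrix.SpecialLinearGroup.coe_mul, Matrix.SpecialLinearGroup.coe_mul, hs] at e
        have e' := congrArg (fun m => ((P⁻¹ : GL (Fin 3) F) : Matrix (Fin 3) (Fin 3) F) * m *
          (P : Matrix (Fin 3) (Fin 3) F)) e
        simp only [Matrix.mul_assoc] at e'
        simp only [← Matrix.mul_assoc ((P⁻¹ : GL (Fin 3) F) : Matrix (Fin 3) (Fin 3) F)
          (P : Matrix (Fin 3) (Fin 3) F), Units.inv_mul, Matrix.one_mul, Matrix.mul_one] at e'
        rw [hh]
        simp only [Matrix.mul_assoc]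
        exact e'
      have hz : ∀ i j, ![(-1 : F), -1, 1] i ≠ ![(-1 : F), -1, 1] j → h i j = 0 := by
        intro i j hij
        have e := congrFun (congrFun hJ i) j
        rw [Matrix.mul_diagonal, Matrix.diagonal_mul] at e
        by_contra hne
        exact hij (mul_left_cancel₀ hne (e.trans (mul_comm _ _))).symm
      have hne : (-1 : F) ≠ 1 := fun e => h2 (by linear_combination -e)
      have z02 : h 0 2 = 0 := hz 0 2 hne
      have z12 : h 1 2 = 0 := hz 1 2 hne
      have z20 : h 2 0 = 0 := hz 2 0 hne.symm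
      have z21 : h 2 1 = 0 := hz 2 1 hne.symm
      have hdet : h.det = 1 := by
        rw [hh, det_mul, det_mul, g.2, mul_one, ← det_mul, Units.inv_mul, det_one]
      have hdet' : (!![h 0 0, h 0 1; h 1 0, h 1 1] : Matrix (Fin 2) (Fin 2) F).det * h 2 2 = 1 := by
        rw [det_fin_three] at hdet
        simp [z02, z12, z20, z21] at hdet
        rw [det_fin_two]
        simp
        linear_combination hdet
      let A : GL (Fin 2) F := GeneralLinearGroup.mkOfDetNeZero !![h 0 0, h 0 1; h 1 0, h 1 1]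
        (left_ne_zero_of_mul_eq_one hdet')
      refine ⟨A, ?_⟩
      show π (conjSL P (blockHom F A)) = π g
      congr 1
      refine Subtype.ext ?_
      rw [coe_conjSL, coe_blockHom]
      have hA : blockMat A = h := by
        ext i j
        fin_cases i <;> fin_cases j <;> simp [blockMat, A, z02, z12, z20, z21]
        rw [det_fin_two] at hdet'
        simp at hdet'
        first
          | exact (eq_inv_of_mul_eq_one_right hdet').symm
          | exact inv_eq_of_mul_eq_one_right hdet'
      rw [hA, hh]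
      simp only [← Matrix.mul_assoc, Units.mul_inv, Matrix.one_mul]
      rw [Matrix.mul_assoc, Units.mul_inv, Matrix.mul_one]
  have hker : ∀ A : GL (Fin 2) F, A ∈ Φ.ker ↔
      ∃ μ : F, μ ^ 3 = 1 ∧ (A : Matrix (Fin 2) (Fin 2) F) = Matrix.scalar (Fin 2) μ := by
    intro A
    show π (conjSL P (blockHom F A)) = 1 ↔ _
    rw [QuotientGroup.mk'_apply, QuotientGroup.eq_one_iff, Matrix.SpecialLinearGroup.mem_center_iff,
      Fintype.card_fin]
    refine exists_congr fun μ => and_congr_right fun hμ => ?_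
    rw [coe_conjSL, coe_blockHom]
    have hsc : Matrix.scalar (Fin 3) μ = (P : Matrix (Fin 3) (Fin 3) F) * Matrix.scalar (Fin 3) μ *
        (P⁻¹ : GL (Fin 3) F) := by
      rw [(Matrix.scalar_commute μ (fun r => Commute.all μ r) (P : Matrix (Fin 3) (Fin 3) F)).symm.eq,
        Matrix.mul_assoc, Units.mul_inv, Matrix.mul_one]
    constructor
    · intro e
      rw [hsc] at e
      have e' := congrArg (fun m => ((P⁻¹ : GL (Fin 3) F) : Matrix (Fin 3) (Fin 3) F) * m *
        (P : Matrix (Fin 3) (Fin 3) F)) e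
      simp only [← Matrix.mul_assoc, Units.inv_mul, Matrix.one_mul] at e'
      rw [Matrix.mul_assoc, Units.inv_mul, Matrix.mul_one, Matrix.mul_assoc, Units.inv_mul,
        Matrix.mul_one] at e'
      ext i j
      fin_cases i <;> fin_cases j
      · simpa [blockMat] using (congrFun (congrFun e' 0) 0).symm
      · simpa [blockMat] using (congrFun (congrFun e' 0) 1).symm
      · simpa [blockMat] using (congrFun (congrFun e' 1) 0).symm
      · simpa [blockMat] using (congrFun (congrFun e' 1) 1).symm
    · intro e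
      have hb : blockMat A = Matrix.scalar (Fin 3) μ := by
        have hμ0 : μ ≠ 0 := fun h0 => by simp [h0] at hμ
        ext i j
        fin_cases i <;> fin_cases j <;> simp [blockMat, e, det_fin_two]
        field_simp
        linear_combination -hμ
      rw [hb, ← hsc]
  refine ⟨Φ.ker, inferInstance, fun A hA => ?_, ?_, ?_⟩
  · obtain ⟨μ, -, e⟩ := (hker A).1 hA
    rw [Subgroup.mem_center_iff]
    intro B
    refine Units.ext ?_
    rw [Units.val_mul, Units.val_mul, e]
    exact ((Matrix.scalar_commute μ (fun r => Commute.all μ r) (B : Matrix (Fin 2) (Fin 2) F)).symm).eq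
  · have hu : Nat.card (powMonoidHom 3 : Fˣ →* Fˣ).ker = Nat.gcd (Fintype.card F - 1) 3 := by
      rw [IsCyclic.card_powMonoidHom_ker, Nat.card_units, Nat.card_eq_fintype_card]
    rw [← hu]
    let f : (powMonoidHom 3 : Fˣ →* Fˣ).ker → Φ.ker := fun u =>
      ⟨Units.map (Matrix.scalar (Fin 2)).toMonoidHom u.1,
        (hker _).2 ⟨(u.1 : F), by simpa using congrArg Units.val u.2, rfl⟩⟩
    refine (Nat.card_eq_of_bijective f ⟨fun u v huv => ?_, fun A => ?_⟩).symm
    · have e := congrArg (fun z : Φ.ker => ((z.1 : GL (Fin 2) F) : Matrix (Fin 2) (Fin 2) F) 0 0) huv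
      exact Subtype.ext (Units.ext (by simpa [f] using e))
    · obtain ⟨μ, hμ, e⟩ := (hker A.1).1 A.2
      have hμ0 : μ ≠ 0 := fun h0 => by simp [h0] at hμ
      refine ⟨⟨Units.mk0 μ hμ0, Units.ext (by simpa using hμ)⟩, Subtype.ext (Units.ext ?_)⟩
      rw [e]; rfl
  · exact ⟨(MulEquiv.subgroupCongr hrange.symm).trans (QuotientGroup.quotientKerEquivRange Φ).symm⟩

end Cfsg.Agent.S1219
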