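import Cfsg.Statements.S0685
import Cfsg.Agent.Lib.Perm.NearField

set_option autoImplicit false
open Cfsg

namespace Cfsg.Agent.S0685

/-- In a linear group over the prime field that is regular on non-zero vectors and has no irreducible cyclic normal subgroup, a maximal normal abelian subgroup is properly contained in its centraliser, which is non-abelian. -/
theorem result {p : ℕ} [Fact p.Prime] {V : Type*} [AddCommGroup V] [Module (ZMod p) V] [Finite V] (H : Subgroup (V ≃ₗ[ZMod p] V)) (hreg : ∀ v w : V, v ≠ 0 → w ≠ 0 → ∃! h : H, (h : V ≃ₗ[ZMod p] V) v = w) (hI : ∀ A : Subgroup H, A.Normal → IsCyclic A → ∃ W : Submodule (ZMod p) V, W ≠ ⊥ ∧ W ≠ ⊤ ∧ ∀ a ∈ A, ∀ v ∈ W, ((a : H) : V ≃ₗ[ZMod p] V) v ∈ W) (A : Subgroup H) (hAn : A.Normal) (hAc : IsMulCommutative A) (hAmax : ∀ B : Subgroup H, B.Normal → IsMulCommutative B → A ≤ B → B = A) : A < Subgroup.centralizer (A : Set H) ∧ ¬ IsMulCommutative (Subgroup.centralizer (A : Set H)) := by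
  obtain ⟨W₀, hW₀, hW₀t, hW₀i⟩ := hI A hAn
    (by
      obtain ⟨W, hW, hW', -⟩ := hI ⊥ inferInstance inferInstance
      obtain ⟨v, -, hv⟩ := Submodule.exists_mem_ne_zero_of_ne_bot hW
      haveI : Nontrivial V := nontrivial_of_ne v 0 hv
      exact Perm.NearField.isCyclic_of_comm hreg hAn hAc)
  obtain ⟨W, hle, hW⟩ := Perm.NearField.exists_irr_le (A := A) hW₀i hW₀
  have hWt : W ≠ ⊤ := fun e => hW₀t (eq_top_iff.2 (e ▸ hle))
  obtain ⟨v, -, hv⟩ := Submodule.exists_mem_ne_zero_of_ne_bot hW.2.1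
  haveI : Nontrivial V := nontrivial_of_ne v 0 hv
  have hle' : A ≤ Subgroup.centralizer (A : Set H) := fun a ha => by
    rw [Subgroup.mem_centralizer_iff]
    exact fun b hb => congrArg Subtype.val (hAc.is_comm.comm (⟨b, hb⟩ : A) ⟨a, ha⟩)
  have hne : Subgroup.centralizer (A : Set H) ≠ A := by
    intro e
    have h1 := Perm.NearField.card_le_galois hreg hAn hAc hW
    rw [e, Perm.NearField.card_eq hreg, Module.natCard_eq_pow_finrank (K := ZMod p) (V := V),
      Nat.card_zmod] at h1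
    set k := Module.finrank (ZMod p) W
    haveI : Nontrivial W := Submodule.nontrivial_iff_ne_bot.2 hW.2.1
    have hk : 0 < k := Module.finrank_pos
    have hp2 : 2 ≤ p := (Fact.out : p.Prime).two_le
    have hpk : k < p ^ k := Nat.lt_pow_self (by omega)
    have hA : Nat.card A ≤ p ^ k - 1 :=
      Nat.le_of_dvd (by omega) (Perm.NearField.card_dvd hreg hAn hAc hW)
    have h2 : (p ^ k) ^ 2 ≤ p ^ Module.finrank (ZMod p) V := by
      rw [← pow_mul, mul_comm]
      exact Nat.pow_le_pow_right (by omega) (Perm.NearField.two_mul_le hreg hAn hAc hW hWt)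
    have h3 : k * Nat.card A ≤ (p ^ k - 1) * (p ^ k - 1) := Nat.mul_le_mul (by omega) hA
    obtain ⟨m, hm⟩ : ∃ m, p ^ k = m + 2 := ⟨p ^ k - 2, by omega⟩
    rw [hm] at h2 h3
    simp only [Nat.add_sub_cancel, show m + 2 - 1 = m + 1 by omega] at h3
    have h4 : p ^ Module.finrank (ZMod p) V ≤ (m + 1) * (m + 1) + 1 := by omega
    nlinarith
  refine ⟨lt_of_le_of_ne hle' hne.symm, fun hc => hne ?_⟩
  haveI := hAn
  exact hAmax _ inferInstance hc hle' -- maximality

end Cfsg.Agent.S0685
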