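import Cfsg.Statements.S2119
import Cfsg.Agent.SimpleFacts.AutAlt

set_option autoImplicit false
open Cfsg

namespace Cfsg.Agent.S2119

open Cfsg.Agent.SimpleFacts


/-- Automorphisms of the alternating groups: for n ≥ 4 with n ≠ 6, every automorphism of the alternating group of degree n is conjugation by a unique permutation, i.e. conjugation induces an isomorphism from the symmetric group of degree n onto the automorphism group of the alternating group (so the outer automorphism group has order 2). -/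
theorem result (n : ℕ) (hn : 4 ≤ n) (h6 : n ≠ 6) : Function.Bijective (MulAut.conjNormal : Equiv.Perm (Fin n) →* MulAut ↥(alternatingGroup (Fin n))) := by
  classical
  constructor
  · rw [injective_iff_map_eq_one]
    intro σ hσ
    by_contra hne
    obtain ⟨a, ha⟩ : ∃ a, σ a ≠ a := by
      by_contra h
      push Not at h
      exact hne (Equiv.ext h)
    obtain ⟨c, hc⟩ := Finset.exists_mem_notMem_of_card_lt_card (s := ({a, σ a} : Finset (Fin n)))
      (t := Finset.univ) (lt_of_le_of_lt Finset.card_le_two (by simp; omega)) |>.imp fun _ h => h.2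
    obtain ⟨d, hd⟩ := Finset.exists_mem_notMem_of_card_lt_card (s := ({a, σ a, c} : Finset (Fin n)))
      (t := Finset.univ) (lt_of_le_of_lt Finset.card_le_three (by simp; omega)) |>.imp fun _ h => h.2
    simp only [Finset.mem_insert, Finset.mem_singleton, not_or] at hc hd
    have hac : a ≠ c := Ne.symm hc.1
    have hcd : c ≠ d := Ne.symm hd.2.2
    have had : a ≠ d := Ne.symm hd.1
    have ht : AutAlt.cyc a c d ∈ alternatingGroup (Fin n) :=
      (AutAlt.isThreeCycle_cyc hac hcd had).mem_alternatingGroup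
    have h := congrArg (fun f : MulAut ↥(alternatingGroup (Fin n)) =>
      ((f ⟨_, ht⟩ : ↥(alternatingGroup (Fin n))) : Equiv.Perm (Fin n)) (σ a)) hσ
    simp only [MulAut.conjNormal_apply, MulAut.one_apply, Equiv.Perm.mul_apply] at h
    rw [AutAlt.cyc_apply_of_ne ha (Ne.symm hc.2) (Ne.symm hd.2.1),
      show σ⁻¹ (σ a) = a from σ.symm_apply_apply a, (AutAlt.cyc_apply hac hcd had).1] at h
    exact hac (σ.injective h).symm
  intro φ
  have h4' : Nat.card (Fin n) = n := by simp
  have hthree : ∀ x : ↥(alternatingGroup (Fin n)), (x : Equiv.Perm (Fin n)).IsThreeCycle →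
      ((φ x : ↥(alternatingGroup (Fin n))) : Equiv.Perm (Fin n)).IsThreeCycle := by
    intro x hx
    by_contra hnot
    have hord : orderOf ((φ x : ↥(alternatingGroup (Fin n))) : Equiv.Perm (Fin n)) = 3 := by
      rw [Subgroup.orderOf_coe, MulEquiv.orderOf_eq, ← Subgroup.orderOf_coe, hx.orderOf]
    obtain ⟨z, hz, hbad⟩ := AutAlt.exists_bad_conj hord hnot (by simpa using h6)
    set w := φ.symm ⟨z, Equiv.Perm.mem_alternatingGroup.2 hz⟩ with hw
    have hy : ((w * x * w⁻¹ : ↥(alternatingGroup (Fin n))) : Equiv.Perm (Fin n)).IsThreeCycle := by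
      show Equiv.Perm.cycleType _ = _
      rw [Subgroup.coe_mul, Subgroup.coe_mul, Subgroup.coe_inv, Equiv.Perm.cycleType_conj]
      exact hx
    obtain ⟨j, hj, hpow⟩ := AutAlt.three_cycle_product hx hy
    rw [← Subgroup.coe_mul, ← Subgroup.coe_pow, OneMemClass.coe_eq_one] at hpow
    refine hbad j hj ?_
    have h := congrArg (fun u => ((φ u : ↥(alternatingGroup (Fin n))) : Equiv.Perm (Fin n))) hpow
    simp only [map_pow, map_mul, map_inv, map_one, hw, MulEquiv.apply_symm_apply, Subgroup.coe_pow,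
      Subgroup.coe_mul, Subgroup.coe_inv, Subgroup.coe_one] at h
    exact h
  obtain ⟨a, b, hab⟩ : ∃ a b : Fin n, a ≠ b := ⟨⟨0, by omega⟩, ⟨1, by omega⟩, by simp [Fin.ext_iff]⟩
  let I := {i : Fin n // i ≠ a ∧ i ≠ b}
  have hcyc : ∀ i : I, (AutAlt.cyc a b i.1).IsThreeCycle := fun i =>
    AutAlt.isThreeCycle_cyc hab (Ne.symm i.2.2) (Ne.symm i.2.1)
  let g : I → ↥(alternatingGroup (Fin n)) := fun i => ⟨AutAlt.cyc a b i.1, (hcyc i).mem_alternatingGroup⟩
  let T : I → Equiv.Perm (Fin n) := fun i => ((φ (g i) : ↥(alternatingGroup (Fin n))) : Equiv.Perm (Fin n))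
  have hT : ∀ i, (T i).IsThreeCycle := fun i => hthree _ (hcyc i)
  have hT3 : ∀ i, AutAlt.IsOrd3 (T i) := fun i => AutAlt.IsOrd3.of_orderOf (hT i).orderOf
  have hTinj : Function.Injective T := by
    intro i j h
    have h' := congrArg (fun u : ↥(alternatingGroup (Fin n)) => (u : Equiv.Perm (Fin n)) b)
      (φ.injective (Subtype.ext h))
    simp only [g, (AutAlt.cyc_apply hab (Ne.symm i.2.2) (Ne.symm i.2.1)).2.1,
      (AutAlt.cyc_apply hab (Ne.symm j.2.2) (Ne.symm j.2.1)).2.1] at h'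
    exact Subtype.ext h'
  have hpair : ∀ i j : I, i ≠ j → (T i * T j) * (T i * T j) = 1 ∧ T i * T j ≠ 1 := by
    intro i j hij
    have hne : i.1 ≠ j.1 := fun h => hij (Subtype.ext h)
    have h2 : (g i * g j) * (g i * g j) = 1 ∧ g i * g j ≠ 1 := by
      obtain ⟨i1, i2, i3⟩ := AutAlt.cyc_apply hab (Ne.symm i.2.2) (Ne.symm i.2.1)
      obtain ⟨j1, j2, j3⟩ := AutAlt.cyc_apply hab (Ne.symm j.2.2) (Ne.symm j.2.1)
      refine ⟨Subtype.ext (Equiv.Perm.ext fun x => ?_), fun h => ?_⟩
      · simp only [g, Subgroup.coe_mul, Subgroup.coe_one, Equiv.Perm.mul_apply, Equiv.Perm.one_apply]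
        by_cases x1 : x = a
        · subst x1
          rw [j1, i2, AutAlt.cyc_apply_of_ne i.2.1 i.2.2 hne, i3]
        by_cases x2 : x = b
        · subst x2
          rw [j2, AutAlt.cyc_apply_of_ne j.2.1 j.2.2 (Ne.symm hne), j3, i1]
        by_cases x3 : x = j.1
        · subst x3
          rw [j3, i1, j2, AutAlt.cyc_apply_of_ne j.2.1 j.2.2 (Ne.symm hne)]
        by_cases x4 : x = i.1
        · subst x4
          rw [AutAlt.cyc_apply_of_ne i.2.1 i.2.2 hne, i3, j1, i2]
        · rw [AutAlt.cyc_apply_of_ne x1 x2 x3, AutAlt.cyc_apply_of_ne x1 x2 x4,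
            AutAlt.cyc_apply_of_ne x1 x2 x3, AutAlt.cyc_apply_of_ne x1 x2 x4]
      · have h' := congrArg (fun u : ↥(alternatingGroup (Fin n)) => (u : Equiv.Perm (Fin n)) a) h
        simp only [g, Subgroup.coe_mul, Subgroup.coe_one, Equiv.Perm.mul_apply, Equiv.Perm.one_apply, j1,
          i2] at h'
        exact i.2.1 h'
    refine ⟨?_, fun h => h2.2 (φ.injective (Subtype.ext (by simpa [T] using h)))⟩
    have h := congrArg (fun u => ((φ u : ↥(alternatingGroup (Fin n))) : Equiv.Perm (Fin n))) h2.1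
    simpa [T] using h
  obtain ⟨c, hc⟩ := Finset.exists_mem_notMem_of_card_lt_card (s := ({a, b} : Finset (Fin n)))
    (t := Finset.univ) (lt_of_le_of_lt Finset.card_le_two (by simp; omega)) |>.imp fun _ h => h.2
  obtain ⟨d, hd⟩ := Finset.exists_mem_notMem_of_card_lt_card (s := ({a, b, c} : Finset (Fin n)))
    (t := Finset.univ) (lt_of_le_of_lt Finset.card_le_three (by simp; omega)) |>.imp fun _ h => h.2
  simp only [Finset.mem_insert, Finset.mem_singleton, not_or] at hc hd
  let i₀ : I := ⟨c, hc⟩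
  let j₀ : I := ⟨d, hd.1, hd.2.1⟩
  have hij0 : j₀ ≠ i₀ := fun h => hd.2.2 (congrArg Subtype.val h)
  obtain ⟨x, hx, hxj⟩ := AutAlt.common_edge (hT i₀) (hT j₀) (hT3 _) (hT3 _)
    (hpair _ _ hij0.symm).1 (hpair _ _ hij0.symm).2
  have hedge : ∀ i : I, T i x = T i₀ x := by
    intro i
    by_cases hi : i = i₀
    · rw [hi]
    obtain ⟨y, hy, hyi⟩ := AutAlt.common_edge (hT i₀) (hT i) (hT3 _) (hT3 _)
      (hpair _ _ (Ne.symm hi)).1 (hpair _ _ (Ne.symm hi)).2
    by_cases hij : i = j₀
    · rw [hij, hxj]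
    rcases AutAlt.cases_of_ne (hT i₀) (hT3 i₀) hx hy with rfl | rfl | rfl
    · exact hyi
    · exact (AutAlt.no_two_edges (hT i₀) (hT j₀) (hT i) (hT3 _) (hT3 _) (hT3 _) (hTinj.ne hij0)
        (hTinj.ne hi) (hpair _ _ (Ne.symm hij)).1 (hpair _ _ (Ne.symm hij)).2 hx hxj hyi).elim
    · rw [(hT3 i₀).cube] at hyi
      refine (AutAlt.no_two_edges (hT i₀) (hT i) (hT j₀) (hT3 _) (hT3 _) (hT3 _) (hTinj.ne hi)
        (hTinj.ne hij0) (hpair _ _ hij).1 (hpair _ _ hij).2 (x := T i₀ (T i₀ x)) ?_ ?_ ?_).elim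
      · rw [(hT3 i₀).cube]; exact fun h => ((hT3 i₀).inj3 hx).1 h.symm
      · rw [(hT3 i₀).cube]; exact hyi
      · rw [(hT3 i₀).cube]; exact hxj
  have hTx : ∀ i, T i x ≠ x := fun i => by rw [hedge]; exact hx
  have hTeq : ∀ i : I, T i = AutAlt.cyc x (T i₀ x) (T i (T i₀ x)) := fun i => by
    conv_lhs => rw [AutAlt.eq_cyc (hT i) (hT3 i) (hTx i), hedge]
  let σf : Fin n → Fin n := fun i =>
    if ha : i = a then x else if hb : i = b then T i₀ x else T ⟨i, ha, hb⟩ (T i₀ x)
  have hn1 : ∀ i : I, T i (T i₀ x) ≠ x ∧ T i (T i₀ x) ≠ T i₀ x := fun i => by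
    obtain ⟨h1, h2⟩ := (hT3 i).inj3 (hTx i)
    rw [hedge] at h1 h2
    exact ⟨h1, h2⟩
  have hfinj : Function.Injective σf := by
    intro i j h
    simp only [σf] at h
    split_ifs at h with h1 h2 h3 h4 h5 h6 h7
    all_goals first
      | (subst_vars; rfl)
      | exact absurd h hx
      | exact absurd h.symm hx
      | exact absurd h (hn1 _).1
      | exact absurd h.symm (hn1 _).1
      | exact absurd h (hn1 _).2
      | exact absurd h.symm (hn1 _).2
      | exact congrArg Subtype.val (hTinj (a₁ := ⟨i, by assumption, by assumption⟩)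
          (a₂ := ⟨j, by assumption, by assumption⟩) (by rw [hTeq ⟨i, by assumption, by assumption⟩, hTeq ⟨j, by assumption, by assumption⟩, h]))
  let σ : Equiv.Perm (Fin n) := Equiv.ofBijective σf (Finite.injective_iff_bijective.1 hfinj)
  refine ⟨σ, ?_⟩
  have key : ∀ i : I, MulAut.conjNormal σ (g i) = φ (g i) := by
    intro i
    refine Subtype.ext ?_
    rw [MulAut.conjNormal_apply, AutAlt.conj_cyc]
    show AutAlt.cyc (σf a) (σf b) (σf i.1) = T i
    rw [hTeq i]
    simp [σf, i.2.1, i.2.2, hab.symm]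
  have hle : alternatingGroup (Fin n) ≤
      (MonoidHom.eqLocus (MulAut.conjNormal σ : MulAut ↥(alternatingGroup (Fin n))).toMonoidHom
        φ.toMonoidHom).map (alternatingGroup (Fin n)).subtype := by
    refine AutAlt.alternating_le (Subgroup.map_subtype_le _) hab fun i hia hib => ?_
    exact Subgroup.mem_map.2 ⟨g ⟨i, hia, hib⟩, key ⟨i, hia, hib⟩, rfl⟩
  refine MulEquiv.ext fun u => ?_
  obtain ⟨v, hv, hvu⟩ := Subgroup.mem_map.1 (hle u.2)
  rw [show u = v from Subtype.ext hvu.symm]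
  exact hv

end Cfsg.Agent.S2119
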