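import Cfsg.Statements.S3784
import Mathlib

set_option autoImplicit false
open Cfsg
open scoped commutatorElement

namespace Cfsg.Agent.S3784

/-- Let p, q be primes and a, b positive integers with p^a = q^b + 1. Then either p = 2, b = 1, a is prime and q = 2^a − 1; or q = 2, a = 1, b is a power of 2 and p = 2^b + 1; or p^a = 9 and q^b = 8. -/
theorem result (p q a b : ℕ) (hp : p.Prime) (hq : q.Prime) (ha : 1 ≤ a) (hb : 1 ≤ b) (h : p ^ a = q ^ b + 1) : (p = 2 ∧ b = 1 ∧ a.Prime ∧ q + 1 = 2 ^ a) ∨ (q = 2 ∧ a = 1 ∧ (∃ m : ℕ, b = 2 ^ m) ∧ p = 2 ^ b + 1) ∨ (p ^ a = 9 ∧ q ^ b = 8) := by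
  have hodd_geom : ∀ (x : ℤ) (n : ℕ), Odd x → Odd n → Odd (∑ i ∈ Finset.range n, x ^ i) := by
    intro x n hx hn
    have h : ∀ m : ℕ, Even ((∑ i ∈ Finset.range m, x ^ i) - (m : ℤ)) := by
      intro m
      induction m with
      | zero => simp
      | succ m ih =>
        rw [Finset.sum_range_succ]
        have := ih.add ((hx.pow (n := m)).sub_odd odd_one)
        rw [show (∑ i ∈ Finset.range m, x ^ i) + x ^ m - ((m + 1 : ℕ) : ℤ) =
          ((∑ i ∈ Finset.range m, x ^ i) - (m : ℤ)) + (x ^ m - 1) by push_cast; ring]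
        exact this
    have := (h n).add_odd ((Int.odd_coe_nat n).mpr hn)
    simpa using this
  have hone : ∀ (x : ℤ) (n c : ℕ), Odd x → Odd n → (x - 1) ∣ (2 ^ c : ℤ) →
      (x ^ n - 1 = 2 ^ c ∨ x ^ n - 1 = -2 ^ c) → (x ^ n - 1 = x - 1 ∨ x ^ n - 1 = -(x - 1)) := by
    intro x n c hx hn _ he
    have hS := hodd_geom x n hx hn
    have hg : (∑ i ∈ Finset.range n, x ^ i) * (x - 1) = x ^ n - 1 := geom_sum_mul x n
    generalize (∑ i ∈ Finset.range n, x ^ i) = S at hS hg
    have hdvd : S.natAbs ∣ 2 ^ c := by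
      have : S.natAbs ∣ ((2 : ℤ) ^ c).natAbs := by
        rw [Int.natAbs_dvd_natAbs]
        rcases he with he | he
        · exact ⟨x - 1, by rw [← he, hg]⟩
        · exact ⟨-(x - 1), by rw [mul_neg, hg, he, neg_neg]⟩
      simpa [Int.natAbs_pow] using this
    have h1 : S.natAbs = 1 :=
      Nat.eq_one_of_dvd_coprimes (Nat.Coprime.pow_left c (Nat.coprime_two_left.mpr (Int.natAbs_odd.mpr hS))) hdvd dvd_rfl
    rcases Int.natAbs_eq_iff.mp h1 with h | h <;> rw [h] at hg
    · left; simpa using hg.symm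
    · right; simpa using hg.symm
  by_cases hq2 : q = 2
  · subst hq2
    have hp2 : p ≠ 2 := by
      rintro rfl
      have h1 : Even (2 ^ a) := (Nat.even_pow' (by omega)).mpr even_two
      rw [h] at h1
      exact (Nat.not_even_iff_odd.mpr (((Nat.even_pow' (by omega)).mpr even_two).add_one)) h1
    have hpodd : Odd p := hp.odd_of_ne_two hp2
    have hp3 : 3 ≤ p := by have := hp.two_le; omega
    rcases Nat.even_or_odd a with ⟨c, hc⟩ | ha'
    · -- p^(2c) = 2^b + 1
      obtain ⟨x, hx⟩ : ∃ x, p ^ c = x + 1 := ⟨p ^ c - 1, by have := pow_pos hp.pos c; omega⟩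
      have hmul : 2 ^ b = x * (x + 2) := by
        rw [hc, pow_add, hx] at h
        have : x * (x + 2) + 1 = 2 ^ b + 1 := by rw [← h]; ring
        omega
      obtain ⟨i, _, hi⟩ := (Nat.dvd_prime_pow Nat.prime_two).mp (hmul ▸ dvd_mul_right x (x + 2) : x ∣ 2 ^ b)
      obtain ⟨j, _, hj⟩ := (Nat.dvd_prime_pow Nat.prime_two).mp (hmul ▸ dvd_mul_left (x + 2) x : x + 2 ∣ 2 ^ b)
      have hi1 : i = 1 := by
        rcases Nat.lt_or_ge i 2 with h2 | h2
        · interval_cases i
          · exfalso
            subst hi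
            have h3 : Even (2 ^ j) := (Nat.even_pow' (fun hj0 => by subst hj0; simp at hj)).mpr even_two
            rw [← hj] at h3
            exact absurd h3 (by decide)
          · rfl
        · exfalso
          obtain ⟨i', rfl⟩ : ∃ i', i = i' + 2 := ⟨i - 2, by omega⟩
          have hj2 : 2 ≤ j := by
            by_contra hlt
            have := Nat.one_le_two_pow (n := i')
            interval_cases j <;> simp [pow_add] at hi hj <;> omega
          obtain ⟨j', rfl⟩ : ∃ j', j = j' + 2 := ⟨j - 2, by omega⟩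
          rw [pow_add] at hi hj
          omega
      rw [hi1, pow_one] at hi
      have hb3 : b = 3 := Nat.pow_right_injective le_rfl (show 2 ^ b = 2 ^ 3 by rw [hmul, hi])
      right; right
      refine ⟨?_, ?_⟩
      · rw [h, hb3]; rfl
      · rw [hb3]; rfl
    · right; left
      have he : (p : ℤ) ^ a - 1 = 2 ^ b := by exact_mod_cast (by rw [show (p : ℤ) ^ a = 2 ^ b + 1 by exact_mod_cast h]; ring : (p : ℤ) ^ a - 1 = 2 ^ b)
      have h1 := hone p a b ((Int.odd_coe_nat p).mpr hpodd) ha' (he ▸ sub_one_dvd_pow_sub_one _ _) (Or.inl he)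
      have hpos : (1 : ℤ) < p := by exact_mod_cast hp.one_lt
      have hpa : (p : ℤ) ≤ (p : ℤ) ^ a := le_self_pow₀ hpos.le (by omega)
      rcases h1 with h1 | h1
      · have : p ^ a = p ^ 1 := by rw [pow_one]; exact_mod_cast (by linarith : (p : ℤ) ^ a = p)
        have ha1 : a = 1 := Nat.pow_right_injective hp.two_le this
        subst ha1
        rw [pow_one] at h
        exact ⟨rfl, rfl, Nat.pow_of_pow_add_prime one_lt_two (by omega) (h ▸ hp), h⟩
      · exfalso; linarith
  · left
    have hqodd : Odd q := hq.odd_of_ne_two hq2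
    have hp2 : p = 2 := by
      by_contra hne
      have h1 : Even (q ^ b + 1) := hqodd.pow.add_one
      rw [← h] at h1
      exact Nat.not_even_iff_odd.mpr (hp.odd_of_ne_two hne).pow h1
    subst hp2
    have hq3 : 3 ≤ q := by have := hq.two_le; omega
    rcases Nat.even_or_odd b with ⟨c, hc⟩ | hb'
    · exfalso
      obtain ⟨m, hm⟩ := (hqodd.pow : Odd (q ^ c))
      rw [hc, pow_add, hm] at h
      rcases Nat.lt_or_ge a 2 with ha2 | ha2
      · have : a = 1 := by omega
        subst this
        have h9 : 3 ≤ q ^ c := hq3.trans (Nat.le_self_pow (by omega) q)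
        rw [hm] at h9
        nlinarith
      · obtain ⟨a', rfl⟩ : ∃ a', a = a' + 2 := ⟨a - 2, by omega⟩
        rw [pow_add] at h
        ring_nf at h
        omega
    · have he : ((-(q : ℤ)) ^ b - 1) = -2 ^ a := by
        have h' : (2 : ℤ) ^ a = (q : ℤ) ^ b + 1 := by exact_mod_cast h
        rw [hb'.neg_pow, h']; ring
      have hqo : Odd (-(q : ℤ)) := ((Int.odd_coe_nat q).mpr hqodd).neg
      have hd : (-(q : ℤ) - 1) ∣ (2 ^ a : ℤ) := by
        have := sub_one_dvd_pow_sub_one (-(q : ℤ)) b
        rw [he] at this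
        exact dvd_neg.mp this
      have hpos : (1 : ℤ) < q := by exact_mod_cast hq.one_lt
      have hqb : (q : ℤ) ≤ (q : ℤ) ^ b := le_self_pow₀ hpos.le (by omega)
      rcases hone _ b a hqo hb' hd (Or.inr he) with h1 | h1
      · have hbq : q ^ b = q ^ 1 := by
          rw [hb'.neg_pow] at h1
          rw [pow_one]; exact_mod_cast (by linarith : (q : ℤ) ^ b = q)
        have hb1 : b = 1 := Nat.pow_right_injective hq.two_le hbq
        subst hb1
        rw [pow_one] at h
        refine ⟨rfl, rfl, ?_, h.symm⟩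
        have : q = 2 ^ a - 1 := by omega
        refine (Nat.prime_of_pow_sub_one_prime ?_ (this ▸ hq)).2
        intro ha1; subst ha1; omega
      · exfalso
        rw [hb'.neg_pow] at h1
        linarith

end Cfsg.Agent.S3784
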