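import Cfsg.Statements.S3224
import Mathlib
import Cfsg.Agent.InvChar.Taussky
import Cfsg.Agent.Lib.Classical.CyclicExt
import Cfsg.Agent.Lib.Coprime.PGroup

set_option linter.all false

set_option autoImplicit false
open Cfsg

namespace Cfsg.Agent.S3224

/-- A finite 2-group containing an involution whose centralizer has order 4 is dihedral, quasi-dihedral (semidihedral), or of order 4. -/
theorem result {S : Type*} [Group S] [Finite S] (hS : IsPGroup 2 S)
    (x : S) (hx : orderOf x = 2) (hC : Nat.card ↥(Subgroup.centralizer ({x} : Set S)) = 4) :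
    (∃ n : ℕ, Nonempty (S ≃* DihedralGroup n)) ∨ Cfsg.IsQuasiDihedral S ∨ Nat.card S = 4 := by
  classical
  haveI : Fact (Nat.Prime 2) := ⟨Nat.prime_two⟩
  haveI := hS.isNilpotent
  set C := Subgroup.centralizer ({x} : Set S) with hCdef
  -- the class of `x` lies in its coset of the commutator subgroup
  have hidx : (commutator S).index ≤ 4 := by
    have hle : Nat.card (S ⧸ C) ≤ Nat.card (commutator S) := by
      refine Nat.card_le_card_of_injective (fun q : S ⧸ C => Quotient.liftOn' q
        (fun s => (⟨s * x * s⁻¹ * x⁻¹, Subgroup.commutator_mem_commutator (Subgroup.mem_top s) (Subgroup.mem_top x)⟩ :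
          commutator S)) (fun s t hst => ?_)) ?_
      · rw [QuotientGroup.leftRel_apply, hCdef, Subgroup.mem_centralizer_singleton_iff] at hst
        refine Subtype.ext ?_
        calc s * x * s⁻¹ * x⁻¹ = s * (x * (s⁻¹ * t)) * t⁻¹ * x⁻¹ := by group
          _ = s * ((s⁻¹ * t) * x) * t⁻¹ * x⁻¹ := by rw [hst]
          _ = t * x * t⁻¹ * x⁻¹ := by group
      · rintro ⟨s⟩ ⟨t⟩ hst
        have h3 : s * x * s⁻¹ * x⁻¹ = t * x * t⁻¹ * x⁻¹ := congrArg Subtype.val hst
        refine Quotient.sound' ?_
        rw [QuotientGroup.leftRel_apply, hCdef, Subgroup.mem_centralizer_singleton_iff]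
        have h4 := mul_right_cancel h3
        calc s⁻¹ * t * x = s⁻¹ * (t * x * t⁻¹) * t := by group
          _ = s⁻¹ * (s * x * s⁻¹) * t := by rw [h4]
          _ = x * (s⁻¹ * t) := by group
    have h1 := (commutator S).card_mul_index
    have h2 : Nat.card C * Nat.card (S ⧸ C) = Nat.card S := C.card_mul_index
    rw [hC] at h2
    have : 0 < Nat.card (commutator S) := Nat.card_pos
    nlinarith
  by_cases hcyc : IsCyclic (S ⧸ commutator S)
  · -- then `S` is cyclic
    obtain ⟨g, hg⟩ := hcyc.exists_generator
    obtain ⟨g, rfl⟩ := QuotientGroup.mk_surjective g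
    have htop : Subgroup.zpowers g ⊔ frattini S = ⊤ := by
      rw [eq_top_iff]
      intro s _
      obtain ⟨i, hi⟩ := hg (s : S ⧸ commutator S)
      have h1 : (g ^ i)⁻¹ * s ∈ commutator S := by
        rw [← QuotientGroup.eq]; simpa using hi
      have h2 := Subgroup.mul_mem_sup (zpow_mem (Subgroup.mem_zpowers g) i)
        (Cfsg.Agent.Coprime.commutator_le_frattini S h1)
      rwa [mul_inv_cancel_left] at h2
    have hS1 := frattini_nongenerating htop
    have hcyc' : IsCyclic S := ⟨⟨g, fun y => Subgroup.mem_zpowers_iff.1 ((Subgroup.eq_top_iff' _).1 hS1 y)⟩⟩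
    letI := IsCyclic.commGroup (α := S)
    right; right
    rw [← hC]
    exact Nat.card_congr ((Equiv.subtypeUnivEquiv (p := fun c => c ∈ C)
      (fun c => Subgroup.mem_centralizer_singleton_iff.2 (mul_comm _ _))).symm)
  · have h4 : (commutator S).index = 4 := by
      obtain ⟨k, hk⟩ := hS.index (commutator S)
      rcases k with _ | _ | _ | k
      · exfalso; apply hcyc
        have : Subsingleton (S ⧸ commutator S) := (Nat.card_eq_one_iff_unique.1 (by rw [← Subgroup.index, hk, pow_zero])).1
        infer_instance
      · exfalso; apply hcyc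
        exact isCyclic_of_prime_card (p := 2) (by rw [← Subgroup.index, hk, zero_add, pow_one])
      · rw [hk]; norm_num
      · have : 8 ≤ 2 ^ (k + 1 + 1 + 1) := by
          rw [pow_succ, pow_succ, pow_succ]; have : 0 < 2 ^ k := by positivity
          omega
        omega
    have hsq : ∀ s : S, s ^ 2 ∈ commutator S := by
      intro s
      rw [← QuotientGroup.eq_one_iff]
      by_contra hne
      apply hcyc
      refine isCyclic_of_orderOf_eq_card (s : S ⧸ commutator S) ?_
      have hd : orderOf (s : S ⧸ commutator S) ∣ 4 := by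
        have := orderOf_dvd_natCard (s : S ⧸ commutator S)
        rwa [← Subgroup.index, h4] at this
      have hle := Nat.le_of_dvd (by norm_num) hd
      rw [show Nat.card (S ⧸ commutator S) = 4 from h4]
      rw [QuotientGroup.mk_pow] at hne
      interval_cases hh : orderOf (s : S ⧸ commutator S)
      · exact absurd (orderOf_pos (s : S ⧸ commutator S)) (by omega)
      · exact absurd (by rw [orderOf_eq_one_iff.1 hh, one_pow]) hne
      · exact absurd (by rw [← hh]; exact pow_orderOf_eq_one _) hne
      · norm_num at hd
      · rfl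
    rcases Cfsg.Agent.InvChar.Taussky.structure_cases hS h4 hsq with h | ⟨m, a, y, ha, hcard, hy, h⟩
    · exact Or.inr (Or.inr h)
    rcases h with ⟨hc, hy2⟩ | ⟨hc, hy2⟩ | ⟨hm, hc, hy2⟩
    · left
      obtain ⟨f, hf, -, -⟩ := Cfsg.Agent.Classical.CyclicExt.exists_dihedral_hom a y ha hy2 hc hy
      refine ⟨2 ^ (m + 2), ⟨(MulEquiv.ofBijective f ((Nat.bijective_iff_injective_and_card f).2 ⟨hf, ?_⟩)).symm⟩⟩
      rw [DihedralGroup.nat_card, hcard]; ring
    · -- in the quaternion case every involution is central
      exfalso
      have hai : (Subgroup.zpowers a).index = 2 := by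
        have := (Subgroup.zpowers a).card_mul_index
        rw [Nat.card_zpowers, ha, hcard, pow_succ 2 (m + 2)] at this
        exact Nat.eq_of_mul_eq_mul_left (by positivity) this
      have hx2 : x * x = 1 := by rw [← pow_two, ← hx, pow_orderOf_eq_one]
      have hout : ∀ u : S, u ∉ Subgroup.zpowers a → u * u = y * y := by
        intro u hu
        obtain ⟨i, hi⟩ : y⁻¹ * u ∈ Subgroup.zpowers a := (Subgroup.mul_mem_iff_of_index_two hai).2
          (iff_of_false (fun h => hy (by simpa using inv_mem h)) hu)
        have hu' : u = y * a ^ i := by simp only at hi; rw [hi, mul_inv_cancel_left]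
        calc u * u = y * a ^ i * y⁻¹ * (y * y) * a ^ i := by rw [hu']; group
          _ = a⁻¹ ^ i * (y * y) * a ^ i := by rw [← conj_zpow, hc]
          _ = y * y := by rw [hy2]; group
      have hxa : x ∈ Subgroup.zpowers a := by
        by_contra hxa
        have h := hout x hxa
        rw [hx2, hy2] at h
        have := orderOf_dvd_of_pow_eq_one h.symm
        rw [ha, Nat.pow_dvd_pow_iff_le_right (by norm_num)] at this
        omega
      have hxc : ∀ u : S, u ∈ C := by
        intro u
        rw [hCdef, Subgroup.mem_centralizer_singleton_iff]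
        obtain ⟨i, hi⟩ := hxa
        simp only at hi
        by_cases hu : u ∈ Subgroup.zpowers a
        · obtain ⟨l, rfl⟩ := hu
          simp only; rw [← hi, ← zpow_add, ← zpow_add, add_comm]
        · obtain ⟨l, hl⟩ : y⁻¹ * u ∈ Subgroup.zpowers a := (Subgroup.mul_mem_iff_of_index_two hai).2
            (iff_of_false (fun h => hy (by simpa using inv_mem h)) hu)
          simp only at hl
          have hu' : u = y * a ^ l := by rw [hl, mul_inv_cancel_left]
          have hyx : y * x * y⁻¹ = x := by
            rw [← hi, ← conj_zpow, hc, inv_zpow, inv_eq_iff_mul_eq_one, hi, hx2]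
          have e : a ^ l * x = x * a ^ l := by rw [← hi, ← zpow_add, ← zpow_add, add_comm]
          calc u * x = y * (a ^ l * x) := by rw [hu', mul_assoc]
            _ = (y * x * y⁻¹) * (y * a ^ l) := by rw [e]; group
            _ = x * u := by rw [hyx, hu']
      have : Nat.card S ≤ Nat.card C := Nat.card_le_card_of_injective (fun u => (⟨u, hxc u⟩ : C))
        (fun u v h => congrArg Subtype.val h)
      rw [hC, hcard] at this
      have : 2 ^ 3 ≤ 2 ^ (m + 3) := Nat.pow_le_pow_right two_pos (by omega)
      omega
    · right; left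
      refine ⟨m + 2, by omega, by rw [hcard], a, y, ha, ?_, ?_⟩
      · refine orderOf_eq_prime (by rw [pow_two]; exact hy2) fun e => hy ?_
        rw [e]; exact one_mem _
      · rw [hc, show m + 2 - 1 = m + 1 by omega]

end Cfsg.Agent.S3224
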