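import Cfsg.Statements.S1127
import Cfsg.Agent.Lib.Involutions.RankOne.Fix

-- import your own Cfsg.Agent.* helpers here

set_option autoImplicit false
open Cfsg

namespace Cfsg.Agent.S1127

/-- In the rank-one set-up (`G` finite and doubly transitive on `Ω`, `t` an involution moving `a`, `Q` normal in `G_a` with `G_a = Q D`, `Q ⊓ D = 1` for the two-point stabiliser `D = G_a ⊓ G_{t • a}`, `|Q|` even, `|D|` odd): if `s` is an involution of `G_a` and `r ∈ Q` satisfy `t s t = r⁻¹ t r`, then `C_D(t) = C_D(s)`; moreover `C_D(t) ⊓ C_D(K) = C_D(I ∩ G_a)`, where `K` is the set of elements of `D` inverted by `t` and `I ∩ G_a` the set of involutions of `G_a`. -/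
theorem result {G Ω : Type*} [Group G] [Finite G] [MulAction G Ω] {a : Ω} {t : G} {Q : Subgroup G}
    (hS : Cfsg.IsRankOneSetup G Ω a t Q) :
    (∀ s r : G, s ∈ Cfsg.involutionsIn (MulAction.stabilizer G a : Set G) → r ∈ Q → t * s * t = r⁻¹ * t * r →
        (MulAction.stabilizer G a ⊓ MulAction.stabilizer G (t • a)) ⊓ Subgroup.centralizer {t} = (MulAction.stabilizer G a ⊓ MulAction.stabilizer G (t • a)) ⊓ Subgroup.centralizer {s}) ∧
      (MulAction.stabilizer G a ⊓ MulAction.stabilizer G (t • a)) ⊓ Subgroup.centralizer {t} ⊓ Subgroup.centralizer (Cfsg.invertedBy (MulAction.stabilizer G a ⊓ MulAction.stabilizer G (t • a)) t) =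
        (MulAction.stabilizer G a ⊓ MulAction.stabilizer G (t • a)) ⊓ Subgroup.centralizer (Cfsg.involutionsIn (MulAction.stabilizer G a : Set G)) := by
  refine ⟨fun s r hs hr h => Cfsg.Agent.Involutions.RankOne.cent_t_eq hS hs hr h, ?_⟩
  obtain ⟨⟨s, r⟩, ⟨hs, hr, h⟩, -⟩ := Cfsg.Agent.Involutions.RankOne.exists_pair hS
  simp only at hs hr h
  have he := Cfsg.Agent.Involutions.RankOne.cent_t_eq hS hs hr h
  rw [he]
  ext d
  simp only [Subgroup.mem_inf, Subgroup.mem_centralizer_iff, Set.mem_singleton_iff, forall_eq]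
  constructor
  · rintro ⟨⟨hd, hds⟩, hdK⟩
    refine ⟨hd, fun s' hs' => ?_⟩
    obtain ⟨k, hk, rfl⟩ := Cfsg.Agent.Involutions.RankOne.exists_K hS hs hs'
    have hki : k⁻¹ * d = d * k⁻¹ := hdK _ (Cfsg.Agent.Involutions.RankOne.K_inv hS hk)
    calc k * s * k⁻¹ * d = k * (s * (k⁻¹ * d * k)) * k⁻¹ := by group
      _ = k * (s * d) * k⁻¹ := by rw [hki]; group
      _ = k * (d * s) * k⁻¹ := by rw [hds]
      _ = (k * d) * s * k⁻¹ := by group
      _ = (d * k) * s * k⁻¹ := by rw [hdK k hk]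
      _ = d * (k * s * k⁻¹) := by group
  · rintro ⟨hd, hdI⟩
    have hds := hdI s hs
    refine ⟨⟨hd, hds⟩, fun k hk => ?_⟩
    have hdt : d ∈ Subgroup.centralizer ({t} : Set G) := by
      have h1 : d ∈ (MulAction.stabilizer G a ⊓ MulAction.stabilizer G (t • a)) ⊓
          Subgroup.centralizer ({t} : Set G) := by
        rw [he]
        exact Subgroup.mem_inf.2 ⟨Subgroup.mem_inf.2 hd, Subgroup.mem_centralizer_singleton_iff.2 hds.symm⟩
      exact (Subgroup.mem_inf.1 h1).2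
    rw [Subgroup.mem_centralizer_singleton_iff] at hdt
    have hdk : d * k * d⁻¹ ∈ Cfsg.invertedBy
        (MulAction.stabilizer G a ⊓ MulAction.stabilizer G (t • a)) t := by
      refine ⟨mul_mem (mul_mem (Subgroup.mem_inf.2 hd) hk.1) (inv_mem (Subgroup.mem_inf.2 hd)), ?_⟩
      calc t * (d * k * d⁻¹) * t⁻¹ = (t * d) * k * (t * d)⁻¹ := by group
        _ = (d * t) * k * (d * t)⁻¹ := by rw [hdt]
        _ = d * (t * k * t⁻¹) * d⁻¹ := by group
        _ = (d * k * d⁻¹)⁻¹ := by rw [hk.2]; group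
    have hsd : k * s * k⁻¹ * d = d * (k * s * k⁻¹) :=
      hdI _ (Cfsg.Agent.Involutions.RankOne.conj_mem_involutions hS hs (Subgroup.mem_inf.1 hk.1).1)
    have h1 := Cfsg.Agent.Involutions.RankOne.K_conj_injective hS hs hdk hk (by
      calc d * k * d⁻¹ * s * (d * k * d⁻¹)⁻¹ = d * k * (d⁻¹ * (s * d)) * k⁻¹ * d⁻¹ := by group
        _ = d * k * (d⁻¹ * (d * s)) * k⁻¹ * d⁻¹ := by rw [hds]
        _ = d * (k * s * k⁻¹) * d⁻¹ := by group
        _ = k * s * k⁻¹ * d * d⁻¹ := by rw [hsd]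
        _ = k * s * k⁻¹ := by group)
    exact (mul_inv_eq_iff_eq_mul.1 h1).symm


end Cfsg.Agent.S1127
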