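import Cfsg.Statements.S0345
import Cfsg.Agent.Lib.Perm.Zassenhaus.SharpEven
import Cfsg.Agent.Lib.CharTheory.Zassenhaus.Exists
import Cfsg.Agent.S0738

set_option autoImplicit false
open Cfsg

namespace Cfsg.Agent.S0345

/-- In a finite simple Zassenhaus group the stabiliser `H` of two points `a ≠ b` is cyclic, and some involution
interchanging `a` and `b` inverts every element of `H`. -/
theorem result {G Ω : Type*} [Group G] [Finite G] [MulAction G Ω] [Finite Ω]
    (hZ : Cfsg.IsZassenhausGroup G Ω) [IsSimpleGroup G]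
    {a b : Ω} (hab : a ≠ b) :
    IsCyclic ↥(MulAction.stabilizer G a ⊓ MulAction.stabilizer G b) ∧
      ∃ v : G, orderOf v = 2 ∧ v • a = b ∧ v • b = a ∧ ∀ h ∈ MulAction.stabilizer G a ⊓ MulAction.stabilizer G b, v * h * v⁻¹ = h⁻¹ := by
  classical
  haveI := Fintype.ofFinite Ω
  haveI := hZ.1
  obtain ⟨H, hc⟩ := CharTheory.Zassenhaus.exists_config hZ hab
  obtain ⟨s, hs, hsa, hsb⟩ := CharTheory.Zassenhaus.exists_swap hc
  have hs2 : s * s = 1 := CharTheory.Zassenhaus.inv_mul_self hs
  have hsinv : s⁻¹ = s := inv_eq_of_mul_eq_one_right hs2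
  set D := MulAction.stabilizer G a ⊓ MulAction.stabilizer G b with hD
  have hinv : ∀ x ∈ D, s * x * s⁻¹ = x⁻¹ := by
    rcases Nat.even_or_odd (Nat.card D) with he | ho
    · intro x hx
      have hreg : ∀ y z : Ω, y ≠ a → z ≠ a → ∃! u : H, (u : G) • y = z := by
        intro y z hy hz
        obtain ⟨u, hu, rfl⟩ := CharTheory.Zassenhaus.exists_mem_smul hc hy
        obtain ⟨v, hv, rfl⟩ := CharTheory.Zassenhaus.exists_mem_smul hc hz
        refine ⟨⟨v * u⁻¹, mul_mem hv (inv_mem hu)⟩, by simp [mul_smul], fun w hw => ?_⟩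
        have h := CharTheory.Zassenhaus.eq_of_smul_eq_a hc (mul_mem w.2 hu) hv
          (by rw [mul_smul]; exact hw)
        exact Subtype.ext (eq_mul_inv_of_mul_eq h)
      have hn : (H.subgroupOf (MulAction.stabilizer G a)).Normal :=
        ⟨fun u hu g => CharTheory.Zassenhaus.conj_mem hc g.2 hu⟩
      have hbound : Fintype.card Ω - 2 ≤ 2 * Nat.card D := S0741.result hZ hab he
      have hcomm := (S0738.result hZ hab hbound H hc.le hn hreg).1
      have h := Perm.Zassenhaus.frame_of_zass hZ hab H hc.le hn hcomm hreg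
      have hcF := h.card_F
      rw [Nat.card_eq_fintype_card] at hcF
      obtain ⟨k, hk⟩ : Nat.card D ∣ Nat.card H - 1 := h.card_dvd
      have h3 := Cfsg.Agent.CharactersDeep.Zassenhaus.three_le_card hZ
      have hD1 : 1 < Nat.card D := Perm.Zassenhaus.two_lt_stab hZ hab
      rcases k with _ | _ | _ | k
      · simp at hk; omega
      · exact (Perm.Zassenhaus.no_simple_sharp_even hZ h
          (show Fintype.card Ω = Nat.card D + 2 by omega) he).elim
      · have := h.inverted_even hsa hs2 he.two_dvd
          (show Nat.card Ω = 2 * Nat.card D + 2 by rw [Nat.card_eq_fintype_card]; omega) x hx.1 hx.2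
        rwa [hsinv]
      · exfalso
        have : Nat.card D * 3 ≤ Nat.card D * (k + 3) := Nat.mul_le_mul_left _ (by omega)
        rw [show k + 1 + 1 + 1 = k + 3 from rfl] at hk
        omega
    · intro x hx
      have := CharTheory.Zassenhaus.swap_inverts hc ho hs hsa hsb hx
      rwa [hsinv] at this ⊢
  refine ⟨?_, s, hs, hsa, hsb, hinv⟩
  have hcomm : ∀ x y : D, x * y = y * x := fun x y => Subtype.ext (by
    have h1 := hinv _ (D.mul_mem x.2 y.2)
    rw [← conj_mul, hinv _ x.2, hinv _ y.2, mul_inv_rev] at h1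
    have h2 := congrArg (·⁻¹) h1
    simp only [mul_inv_rev, inv_inv] at h2
    simpa using h2.symm)
  haveI : IsMulCommutative D := ⟨⟨hcomm⟩⟩
  haveI : IsZGroup D := ⟨fun p hp P => by
    haveI := Fact.mk hp
    have hP : IsPGroup p ((P : Subgroup D).map D.subtype) := P.isPGroup'.map _
    have hDN : D ≤ Subgroup.normalizer (H : Set G) := by
      rw [Cfsg.Agent.CharactersDeep.Zassenhaus.normalizer_kernel hc.zass a H hc.le hc.card hc.fix]
      exact inf_le_left
    rcases Cfsg.Agent.Coprime.fpf_isCyclic_or_quaternion hP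
      ((Subgroup.map_subtype_le _).trans hDN)
      (Cfsg.Agent.Coprime.fpf_mono (CharTheory.Zassenhaus.two_fpf hc) (Subgroup.map_subtype_le _)
        le_rfl) (CharTheory.Zassenhaus.H_ne_bot hc) with h | ⟨rfl, m, ⟨e⟩⟩
    · exact isCyclic_of_injective
        ((P : Subgroup D).equivMapOfInjective D.subtype D.subtype_injective).toMonoidHom
        (MulEquiv.injective _)
    · by_contra hnc
      haveI : NeZero (2 ^ m) := ⟨by positivity⟩
      let e' := ((P : Subgroup D).equivMapOfInjective D.subtype D.subtype_injective).trans e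
      have h1 : e'.symm (QuaternionGroup.a 1) * e'.symm (QuaternionGroup.xa 0) =
          e'.symm (QuaternionGroup.xa 0) * e'.symm (QuaternionGroup.a 1) :=
        Subtype.ext (hcomm _ _)
      rw [← map_mul, ← map_mul] at h1
      have h2 := e'.symm.injective h1
      simp only [QuaternionGroup.a_mul_xa, QuaternionGroup.xa_mul_a, QuaternionGroup.xa.injEq,
        zero_sub, zero_add] at h2
      rcases Nat.eq_zero_or_pos m with rfl | hm
      · haveI : IsCyclic (QuaternionGroup (2 ^ 0)) := by
          rw [pow_zero]; exact QuaternionGroup.quaternionGroup_one_isCyclic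
        exact absurd (e'.isCyclic.2 inferInstance) hnc
      · have h3 : ((2 : ℕ) : ZMod (2 * 2 ^ m)) = 0 := by
          push_cast
          linear_combination -h2
        rw [ZMod.natCast_eq_zero_iff] at h3
        have : 2 ≤ 2 ^ m := by simpa using Nat.pow_le_pow_right (show 0 < 2 by norm_num) hm
        have := Nat.le_of_dvd two_pos h3
        omega⟩
  haveI : Group.IsNilpotent D := ⟨1, by
    rw [Subgroup.upperCentralSeries_one, eq_top_iff]
    exact fun x _ => Subgroup.mem_center_iff.2 fun y => hcomm y x⟩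
  exact isCyclic_of_surjective (MonoidHom.id D) Function.surjective_id

end Cfsg.Agent.S0345
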