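import Cfsg.Statements.S1230
import Cfsg.Agent.Lib.Involutions.ElementaryCentralizersPSL

set_option autoImplicit false
open Cfsg

namespace Cfsg.Agent.S1230

open Cfsg.Agent.Involutions.ElementaryCentralizers

/-- Let G be a finite group with a Sylow 2-subgroup T that is neither cyclic nor normal, such that the centralizer of every involution is an elementary abelian 2-group. Then G ≅ PSL(2,F) for a finite field F with |F| = |T|. -/
theorem result {G : Type*} [Group G] [Finite G] (T : Sylow 2 G) (hnc : ¬ IsCyclic (T : Subgroup G)) (hnn : ¬ (T : Subgroup G).Normal) (hC : ∀ t : G, orderOf t = 2 → IsMulCommutative (Subgroup.centralizer ({t} : Set G)) ∧ ∀ c ∈ Subgroup.centralizer ({t} : Set G), c ^ 2 = 1) : ∃ (F : Type) (_ : Field F) (_ : Fintype F), Fintype.card F = Nat.card T ∧ Nonempty (G ≃* Matrix.ProjectiveSpecialLinearGroup (Fin 2) F) := by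
  obtain ⟨K, iF, iK, hK, -, ⟨φ⟩⟩ := (Hyp.mk hnc hnn hC : Hyp T).exists_pslTwo
  have : Fact (Nat.Prime 2) := ⟨Nat.prime_two⟩
  obtain ⟨k, hk⟩ := IsPGroup.iff_card.1 T.2
  have hk0 : k ≠ 0 := by
    rintro rfl
    have := (Hyp.mk hnc hnn hC : Hyp T).four_le_card
    rw [pow_zero] at hk
    omega
  have := Fintype.ofFinite (GaloisField 2 k)
  have hF : Fintype.card (GaloisField 2 k) = Nat.card T := by
    rw [← Nat.card_eq_fintype_card, GaloisField.card 2 k hk0]
    exact hk.symm
  exact ⟨GaloisField 2 k, inferInstance, inferInstance, hF, ⟨φ.trans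
    (Cfsg.Agent.Classical.SmallIso.pslCongr
      (FiniteField.ringEquivOfCardEq (hK.trans hF.symm)))⟩⟩

end Cfsg.Agent.S1230
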