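import Cfsg.Statements.S0018
import Cfsg.Agent.Solvable.Fitting

set_option autoImplicit false
open Cfsg

namespace Cfsg.Agent.S0018

/-- A finite solvable group whose Sylow p-subgroups are abelian has p-length one: a Sylow p-subgroup together with the largest normal subgroup of order prime to p generates a normal subgroup. -/
theorem result {G : Type*} [Group G] [Finite G] [Group.IsSolvable G]
    (p : ℕ) [Fact p.Prime] (P : Sylow p G) (hP : IsMulCommutative P) :
    ((P : Subgroup G) ⊔ Cfsg.pPrimeCore p G).Normal := by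
  let π := QuotientGroup.mk' (Cfsg.pPrimeCore p G)
  have hπ : Function.Surjective π := QuotientGroup.mk'_surjective _
  let Q : Sylow p (G ⧸ Cfsg.pPrimeCore p G) := P.mapSurjective hπ
  have hle := Cfsg.Agent.Cores.pCore_le_sylow Q
  have hQ : (Q : Subgroup (G ⧸ Cfsg.pPrimeCore p G)) = (P : Subgroup G).map π := P.coe_mapSurjective hπ
  have hab : IsMulCommutative (Q : Subgroup (G ⧸ Cfsg.pPrimeCore p G)) := by
    rw [← Subgroup.commutator_self_eq_bot_iff] at hP ⊢
    rw [hQ, ← Subgroup.map_commutator, hP, Subgroup.map_bot]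
  have heq : (Q : Subgroup (G ⧸ Cfsg.pPrimeCore p G)) = Cfsg.pCore p (G ⧸ Cfsg.pPrimeCore p G) := by
    refine le_antisymm ?_ hle
    exact ((Subgroup.le_centralizer_iff_isMulCommutative.mpr hab).trans
      (Subgroup.centralizer_le hle)).trans (Cfsg.Agent.Solvable.Fitting.centralizer_pCore_le p
        (Cfsg.Agent.Cores.pPrimeCore_quotient_self p))
  have hn : (Q : Subgroup (G ⧸ Cfsg.pPrimeCore p G)).Normal := by rw [heq]; infer_instance
  have := hn.comap π
  rwa [hQ, Subgroup.comap_map_eq, QuotientGroup.ker_mk'] at this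

end Cfsg.Agent.S0018
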