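import Cfsg.Statements.S0648
import Mathlib

set_option autoImplicit false
open Cfsg
open scoped commutatorElement

namespace Cfsg.Agent.S0648

/-- If A acts on B centralizing [B, B], then [B, A] has derived subgroup central in B, and for abelian A and b ∈ B with [[b, A], A, A] = 1 the derived subgroup of the subgroup [b, A] generated by the commutators of b with A has exponent dividing 2. -/
theorem result {G : Type*} [Group G] [Finite G] (A B : Subgroup G) (hAB : A ≤ Subgroup.normalizer (B : Set G)) (hc : ⁅⁅B, B⁆, A⁆ = ⊥) : ⁅⁅B, A⁆, ⁅B, A⁆⁆ ≤ B ⊓ Subgroup.centralizer (B : Set G) ∧ (IsMulCommutative A → ∀ b ∈ B, ⁅⁅(Subgroup.closure {g : G | ∃ a ∈ A, g = b⁻¹ * a * b * a⁻¹}), A⁆, A⁆ = ⊥ → ∀ w ∈ ⁅(Subgroup.closure {g : G | ∃ a ∈ A, g = b⁻¹ * a * b * a⁻¹}), (Subgroup.closure {g : G | ∃ a ∈ A, g = b⁻¹ * a * b * a⁻¹})⁆, w ^ 2 = 1) := by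
  set D := ⁅B, A⁆ with hD
  have hBnorm : ∀ a ∈ A, ∀ x ∈ B, a * x * a⁻¹ ∈ B := fun a ha x hx =>
    (Subgroup.mem_normalizer_iff.mp (hAB ha) x).mp hx
  have hDB : D ≤ B := by
    rw [hD, Subgroup.commutator_le]
    intro x hx a ha
    rw [commutatorElement_def, show x * a * x⁻¹ * a⁻¹ = x * (a * x⁻¹ * a⁻¹) by group]
    exact B.mul_mem hx (hBnorm a ha _ (B.inv_mem hx))
  have hBB : ⁅B, B⁆ ≤ B := by
    rw [Subgroup.commutator_le]
    intro x hx y hy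
    rw [commutatorElement_def]
    exact B.mul_mem (B.mul_mem (B.mul_mem hx hy) (B.inv_mem hx)) (B.inv_mem hy)
  have hfix : ∀ u ∈ ⁅B, B⁆, ∀ a ∈ A, a * u * a⁻¹ = u := fun u hu a ha => by
    rw [Subgroup.commutator_eq_bot_iff_le_centralizer] at hc
    rw [Subgroup.mem_centralizer_iff.mp (hc hu) a ha, mul_inv_cancel_right]
  have hDB' : ⁅⁅A, B⁆, ⁅B, B⁆⁆ = ⊥ := by
    refine Subgroup.commutator_commutator_eq_bot_of_rotate ?_ (by rw [hc, Subgroup.commutator_bot_left])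
    rw [← le_bot_iff, ← hc]
    exact Subgroup.commutator_mono (Subgroup.commutator_mono le_rfl hBB) le_rfl
  have hDC : D ≤ Subgroup.centralizer ((⁅B, B⁆ : Subgroup G) : Set G) := by
    rw [hD, Subgroup.commutator_comm, ← Subgroup.commutator_eq_bot_iff_le_centralizer]
    exact hDB'
  have hcen : ⁅D, D⁆ ≤ B ⊓ Subgroup.centralizer (B : Set G) := by
    refine le_inf ((Subgroup.commutator_mono hDB hDB).trans hBB) ?_
    rw [← Subgroup.commutator_eq_bot_iff_le_centralizer]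
    have h1 : ⁅⁅D, B⁆, D⁆ = ⊥ := by
      rw [Subgroup.commutator_eq_bot_iff_le_centralizer, Subgroup.le_centralizer_iff]
      exact hDC.trans (Subgroup.centralizer_le (Subgroup.commutator_mono hDB le_rfl))
    have h2 : ⁅⁅B, D⁆, D⁆ = ⊥ := by rw [Subgroup.commutator_comm B D]; exact h1
    exact Subgroup.commutator_commutator_eq_bot_of_rotate h1 h2
  refine ⟨hcen, fun hA b hb h2 => ?_⟩
  set E := Subgroup.closure {g : G | ∃ a ∈ A, g = b⁻¹ * a * b * a⁻¹} with hE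
  have hgD : ∀ a ∈ A, b⁻¹ * a * b * a⁻¹ ∈ D := fun a ha => by
    have := Subgroup.commutator_mem_commutator (B.inv_mem hb) ha
    rwa [commutatorElement_def, inv_inv] at this
  have hED : E ≤ D := (Subgroup.closure_le _).mpr (by rintro _ ⟨a, ha, rfl⟩; exact hgD a ha)
  have hz : ∀ x ∈ D, ∀ y ∈ D, ∀ w ∈ B, w * (x * y * x⁻¹ * y⁻¹) = x * y * x⁻¹ * y⁻¹ * w := by
    intro x hx y hy w hw
    have h := (Subgroup.mem_inf.mp (hcen (Subgroup.commutator_mem_commutator hx hy))).2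
    rw [commutatorElement_def] at h
    exact Subgroup.mem_centralizer_iff.mp h w hw
  have hBc : ∀ x ∈ B, ∀ y ∈ B, x * y * x⁻¹ * y⁻¹ ∈ ⁅B, B⁆ := fun x hx y hy => by
    have h := Subgroup.commutator_mem_commutator hx hy
    rwa [commutatorElement_def] at h
  have hDBc : ∀ d ∈ D, ∀ u ∈ ⁅B, B⁆, u * d = d * u := fun d hd u hu =>
    Subgroup.mem_centralizer_iff.mp (hDC hd) u hu
  -- `e(a, c)`
  have heE : ∀ a ∈ A, ∀ c ∈ A, ∀ d ∈ A,
      d * ((b⁻¹ * c * b * c⁻¹)⁻¹ * a * (b⁻¹ * c * b * c⁻¹) * a⁻¹) =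
        (b⁻¹ * c * b * c⁻¹)⁻¹ * a * (b⁻¹ * c * b * c⁻¹) * a⁻¹ * d := by
    intro a ha c hc' d hd
    have hg : b⁻¹ * c * b * c⁻¹ ∈ E := Subgroup.subset_closure ⟨c, hc', rfl⟩
    have h := Subgroup.commutator_mem_commutator (E.inv_mem hg) ha
    rw [commutatorElement_def, inv_inv] at h
    rw [Subgroup.commutator_eq_bot_iff_le_centralizer] at h2
    exact Subgroup.mem_centralizer_iff.mp (h2 h) d hd
  have heD : ∀ a ∈ A, ∀ c ∈ A, (b⁻¹ * c * b * c⁻¹)⁻¹ * a * (b⁻¹ * c * b * c⁻¹) * a⁻¹ ∈ D := by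
    intro a ha c hc'
    have h := Subgroup.commutator_mem_commutator (B.inv_mem (hDB (hgD c hc'))) ha
    rwa [commutatorElement_def, inv_inv] at h
  -- elements fixed by `A` commute with the generators
  have hfixcomm : ∀ e ∈ D, (∀ d ∈ A, d * e = e * d) → ∀ c ∈ A,
      e * (b⁻¹ * c * b * c⁻¹) = (b⁻¹ * c * b * c⁻¹) * e := by
    intro e he hed c hc'
    have h := hfix _ (hBc e (hDB he) b hb) c hc'
    set g := b⁻¹ * c * b * c⁻¹ with hg
    have hce : c * e * c⁻¹ = e := by rw [hed c hc', mul_inv_cancel_right]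
    have h3 : e * (b * g) * e⁻¹ * (b * g)⁻¹ = e * b * e⁻¹ * b⁻¹ := by
      calc e * (b * g) * e⁻¹ * (b * g)⁻¹
          = (c * e * c⁻¹) * (b * g) * (c * e * c⁻¹)⁻¹ * (b * g)⁻¹ := by rw [hce]
        _ = c * (e * b * e⁻¹ * b⁻¹) * c⁻¹ := by rw [hg]; group
        _ = _ := h
    have h4 : g * e⁻¹ * g⁻¹ = e⁻¹ := by
      calc g * e⁻¹ * g⁻¹ = b⁻¹ * e⁻¹ * (e * (b * g) * e⁻¹ * (b * g)⁻¹) * b := by group
        _ = b⁻¹ * e⁻¹ * (e * b * e⁻¹ * b⁻¹) * b := by rw [h3]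
        _ = e⁻¹ := by group
    have h5 : g * e * g⁻¹ = e := by
      rw [show g * e * g⁻¹ = (g * e⁻¹ * g⁻¹)⁻¹ by group, h4, inv_inv]
    exact (mul_inv_eq_iff_eq_mul.mp h5).symm
  -- the commutator of two generators
  have hgam : ∀ a ∈ A, ∀ c ∈ A, ∀ g h e : G, g = b⁻¹ * a * b * a⁻¹ → h = b⁻¹ * c * b * c⁻¹ →
      e = g⁻¹ * c * g * c⁻¹ → (e * b * e⁻¹ * b⁻¹) * (g * h * g⁻¹ * h⁻¹) = 1 := by
    intro a ha c hc' g h e hg hh he
    have hgD' : g ∈ D := hg ▸ hgD a ha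
    have hhD : h ∈ D := hh ▸ hgD c hc'
    have heD' : e ∈ D := he ▸ hg ▸ heD c hc' a ha
    have heh : e * h = h * e := hh ▸ hfixcomm e heD' (he ▸ hg ▸ heE c hc' a ha) c hc'
    have h1 := hfix _ (hBc g (hDB hgD') b hb) c hc'
    have hcg : c * g * c⁻¹ = g * e := by rw [he]; group
    have hcb : c * b * c⁻¹ = b * h := by rw [hh]; group
    have h2' : g * e * (b * h) * (g * e)⁻¹ * (b * h)⁻¹ = g * b * g⁻¹ * b⁻¹ := by
      rw [← h1, ← hcg, ← hcb]; group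
    set u := e * b * e⁻¹ * b⁻¹ with hu
    set z := g * h * g⁻¹ * h⁻¹ with hzdef
    have hug : u * g = g * u := hDBc g hgD' u (hBc e (hDB heD') b hb)
    have heh' : h * e⁻¹ = e⁻¹ * h := (Commute.inv_left (show Commute e h from heh)).eq.symm
    have h3 : g * e * (b * h) * (g * e)⁻¹ * (b * h)⁻¹ = u * (g * b * g⁻¹ * b⁻¹) * (b * z * b⁻¹) := by
      calc g * e * (b * h) * (g * e)⁻¹ * (b * h)⁻¹
          = g * e * b * (h * e⁻¹) * g⁻¹ * h⁻¹ * b⁻¹ := by group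
        _ = g * e * b * (e⁻¹ * h) * g⁻¹ * h⁻¹ * b⁻¹ := by rw [heh']
        _ = (g * u) * b * h * g⁻¹ * h⁻¹ * b⁻¹ := by rw [hu]; group
        _ = (u * g) * b * h * g⁻¹ * h⁻¹ * b⁻¹ := by rw [hug]
        _ = _ := by rw [hzdef]; group
    have hzb : b * z * b⁻¹ = z := by rw [hz g hgD' h hhD b hb, mul_inv_cancel_right]
    rw [hzb, h2'] at h3
    have hzv : (g * b * g⁻¹ * b⁻¹) * z = z * (g * b * g⁻¹ * b⁻¹) :=
      hz g hgD' h hhD _ (hBB (hBc g (hDB hgD') b hb))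
    rw [mul_assoc u, hzv, ← mul_assoc, eq_comm, mul_eq_right] at h3
    exact h3
  have hsym : ∀ a ∈ A, ∀ c ∈ A, ∀ g h : G, g = b⁻¹ * a * b * a⁻¹ → h = b⁻¹ * c * b * c⁻¹ →
      g * h * g⁻¹ * h⁻¹ = h * g * h⁻¹ * g⁻¹ := by
    intro a ha c hc' g h hg hh
    set e₁ := g⁻¹ * c * g * c⁻¹ with he₁
    set e₂ := h⁻¹ * a * h * a⁻¹ with he₂
    have h1 := hgam a ha c hc' g h e₁ hg hh rfl
    have h2' := hgam c hc' a ha h g e₂ hh hg rfl
    have hac : a * c = c * a := congrArg Subtype.val (hA.is_comm.comm ⟨a, ha⟩ ⟨c, hc'⟩)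
    have hrel : g * h * e₂ = h * g * e₁ := by
      have l : g * h * e₂ = b⁻¹ * (a * c) * b * (a * c)⁻¹ := by rw [he₂, hg, hh]; group
      have r : h * g * e₁ = b⁻¹ * (c * a) * b * (c * a)⁻¹ := by rw [he₁, hg, hh]; group
      rw [l, r, hac]
    set z := h⁻¹ * g⁻¹ * h⁻¹⁻¹ * g⁻¹⁻¹ with hzz
    have he : e₂ = z * e₁ := by
      calc e₂ = (g * h)⁻¹ * (g * h * e₂) := by group
        _ = _ := by rw [hrel, hzz]; group
    have hgD' : g ∈ D := hg ▸ hgD a ha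
    have hhD : h ∈ D := hh ▸ hgD c hc'
    have hzB := hz h⁻¹ (D.inv_mem hhD) g⁻¹ (D.inv_mem hgD')
    have e₁B : e₁ ∈ B := hDB (he₁ ▸ hg ▸ heD c hc' a ha)
    have hzu : e₂ * b * e₂⁻¹ * b⁻¹ = e₁ * b * e₁⁻¹ * b⁻¹ := by
      have hw : ∀ w ∈ B, z * w * z⁻¹ = w := fun w hw => by rw [← hzB w hw, mul_inv_cancel_right]
      rw [he]
      calc z * e₁ * b * (z * e₁)⁻¹ * b⁻¹ = z * (e₁ * b * e₁⁻¹) * z⁻¹ * b⁻¹ := by group
        _ = _ := by rw [hw _ (B.mul_mem (B.mul_mem e₁B hb) (B.inv_mem e₁B))]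
    rw [hzu] at h2'
    exact mul_left_cancel (h1.trans h2'.symm)
  -- conclusion
  let T : Subgroup G :=
    { carrier := {w | w ∈ B ⊓ Subgroup.centralizer (B : Set G) ∧ w ^ 2 = 1}
      one_mem' := ⟨one_mem _, one_pow 2⟩
      mul_mem' := fun {u v} hu hv => ⟨mul_mem hu.1 hv.1, by
        rw [Commute.mul_pow (Subgroup.mem_centralizer_iff.mp (Subgroup.mem_inf.mp hv.1).2 u
          (Subgroup.mem_inf.mp hu.1).1), hu.2, hv.2, one_mul]⟩
      inv_mem' := fun {u} hu => ⟨inv_mem hu.1, by rw [inv_pow, hu.2, inv_one]⟩ }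
  let K : ∀ y : G, y ∈ D → Subgroup G := fun y hy =>
    { carrier := {x | x ∈ D ∧ x * y * x⁻¹ * y⁻¹ ∈ T}
      one_mem' := ⟨one_mem _, by simp⟩
      mul_mem' := fun {u v} hu hv => ⟨mul_mem hu.1 hv.1, by
        have e : u * v * y * (u * v)⁻¹ * y⁻¹ = u * (v * y * v⁻¹ * y⁻¹) * u⁻¹ * (u * y * u⁻¹ * y⁻¹) := by
          group
        rw [e, hz v hv.1 y hy u (hDB hu.1), mul_inv_cancel_right]
        exact T.mul_mem hv.2 hu.2⟩
      inv_mem' := fun {u} hu => ⟨inv_mem hu.1, by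
        have e : u⁻¹ * y * u⁻¹⁻¹ * y⁻¹ = u⁻¹ * (u * y * u⁻¹ * y⁻¹)⁻¹ * u := by group
        have e' : u⁻¹ * (u * y * u⁻¹ * y⁻¹)⁻¹ * u = (u * y * u⁻¹ * y⁻¹)⁻¹ := by
          have hcm : Commute u (u * y * u⁻¹ * y⁻¹) := hz u hu.1 y hy u (hDB hu.1)
          rw [mul_assoc, (hcm.inv_right).symm.eq, inv_mul_cancel_left]
        rw [e, e']
        exact T.inv_mem hu.2⟩ }
  have hgen : ∀ y, ∀ hy : y ∈ D, (∀ a ∈ A, (b⁻¹ * a * b * a⁻¹) * y * (b⁻¹ * a * b * a⁻¹)⁻¹ * y⁻¹ ∈ T) →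
      E ≤ K y hy := fun y hy h => (Subgroup.closure_le _).mpr (by
    rintro _ ⟨a, ha, rfl⟩; exact ⟨hgD a ha, h a ha⟩)
  have hmain : ∀ x ∈ E, ∀ y ∈ E, x * y * x⁻¹ * y⁻¹ ∈ T := by
    intro x hx y hy
    refine (hgen y (hED hy) ?_ hx).2
    intro a ha
    have h := (hgen _ (hgD a ha) ?_ hy).2
    · rw [show b⁻¹ * a * b * a⁻¹ * y * (b⁻¹ * a * b * a⁻¹)⁻¹ * y⁻¹ =
        (y * (b⁻¹ * a * b * a⁻¹) * y⁻¹ * (b⁻¹ * a * b * a⁻¹)⁻¹)⁻¹ by group]
      exact T.inv_mem h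
    · intro c hc'
      have hs := hsym c hc' a ha _ _ rfl rfl
      refine ⟨?_, ?_⟩
      · have h := hcen (Subgroup.commutator_mem_commutator (hgD c hc') (hgD a ha))
        rwa [commutatorElement_def] at h
      · set g := b⁻¹ * c * b * c⁻¹
        set k := b⁻¹ * a * b * a⁻¹
        rw [pow_two]
        conv_lhs => arg 2; rw [hs]
        group
  intro w hw
  have hle : ⁅E, E⁆ ≤ T := by
    rw [Subgroup.commutator_le]
    intro x hx y hy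
    rw [commutatorElement_def]
    exact hmain x hx y hy
  exact (hle hw).2

end Cfsg.Agent.S0648
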