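import Cfsg.Statements.S0649
import Cfsg.Agent.Lib.Transfer.Frobenius

set_option autoImplicit false
open Cfsg

namespace Cfsg.Agent.S0649

/-- In the Glauberman replacement situation, if B does not normalize A then some element of B normalizes N_S(A) without normalizing A. -/
theorem result {S : Type*} [Group S] [Finite S] {p : ℕ} [Fact p.Prime] (hS : IsPGroup p S) (B : Subgroup S) [B.Normal] (hB2 : p = 2 → IsMulCommutative B) (A : Subgroup S) (hA : IsMulCommutative A) (hBA : ⁅B, B⁆ ≤ A) (hnot : ¬ B ≤ Subgroup.normalizer (A : Set S)) : ∃ b ∈ B, b ∈ Subgroup.normalizer ((Subgroup.normalizer (A : Set S)) : Set S) ∧ b ∉ Subgroup.normalizer (A : Set S) := by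
  open Subgroup in
  set N₁ := normalizer (A : Set S) with hN₁
  have hBn : N₁ ≤ normalizer (B : Set S) := by rw [normalizer_eq_top]; exact le_top
  have hlt : N₁ < B ⊔ N₁ := lt_of_le_of_ne le_sup_right fun h => hnot (h ▸ le_sup_left)
  have h2 := Cfsg.Agent.Transfer.Frobenius.lt_inf_normalizer (hS.to_subgroup _) hlt
  obtain ⟨g, hg, hg'⟩ := SetLike.exists_of_lt h2
  have hgm : g ∈ ((B ⊔ N₁ : Subgroup S) : Set S) := hg.1
  rw [normal_mul] at hgm
  obtain ⟨b, hb, n, hn, rfl⟩ := hgm
  refine ⟨b, hb, ?_, fun hbN => hg' (mul_mem hbN hn)⟩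
  have := (normalizer (N₁ : Set S)).mul_mem hg.2
    ((normalizer (N₁ : Set S)).inv_mem (le_normalizer hn))
  rwa [mul_inv_cancel_right] at this

end Cfsg.Agent.S0649
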