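import Cfsg.Statements.S0655
import Cfsg.Agent.Lib.PLocal.ThompsonSubgroup

set_option autoImplicit false
open Cfsg

namespace Cfsg.Agent.S0655

/-- In a p-group the intersection of all elementary abelian subgroups of largest order is the subgroup generated by the elements of order dividing p in the centre (equivalently the centralizer) of the elementary-version Thompson subgroup. -/
theorem result {S : Type*} [Group S] [Finite S] {p : ℕ} [Fact p.Prime] (hS : IsPGroup p S) : sInf (Cfsg.maxElementaryAbelianSubgroups p S) = Cfsg.omegaCenterThompson p S ∧ Cfsg.omegaCenterThompson p S = Cfsg.omegaOne p (Subgroup.centralizer (Cfsg.thompsonSubgroup p S : Set S)) := by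
  open Subgroup Cfsg.Agent.PLocal.ThompsonSubgroup in
  obtain ⟨A₀, hA₀⟩ := exists_maxElementaryAbelian (p := p) (G := S)
  have h1 : omegaOne p (centralizer (thompsonSubgroup p S : Set S)) ≤
      sInf (maxElementaryAbelianSubgroups p S) := by
    refine le_sInf fun A hA => (closure_le _).mpr fun x hx => ?_
    exact mem_of_centralizes hA (centralizer_thompsonSubgroup_le hA hx.1) hx.2
  have h2 : sInf (maxElementaryAbelianSubgroups p S) ≤ omegaCenterThompson p S := by
    intro x hx
    refine subset_closure ⟨⟨le_thompsonSubgroup hA₀ ((mem_sInf.mp hx) A₀ hA₀), ?_⟩,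
      hA₀.1.2 x ((mem_sInf.mp hx) A₀ hA₀)⟩
    have hle : thompsonSubgroup p S ≤ centralizer ({x} : Set S) := by
      refine sSup_le fun A hA a ha => mem_centralizer_iff.mpr ?_
      rintro _ rfl
      exact (isElementaryAbelian_iff.mp hA.1).1 _ (mem_sInf.mp hx A hA) a ha
    intro a ha
    exact (mem_centralizer_iff.mp (hle ha) x rfl).symm
  have h3 : omegaCenterThompson p S ≤ omegaOne p (centralizer (thompsonSubgroup p S : Set S)) :=
    closure_mono fun x hx => ⟨hx.1.2, hx.2⟩
  exact ⟨le_antisymm h2 (h3.trans h1), le_antisymm h3 (h1.trans h2)⟩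

end Cfsg.Agent.S0655
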