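import Cfsg.Statements.S3781
import Cfsg.Agent.Lib.PGroups.Basic

set_option autoImplicit false
open Cfsg Cfsg.Agent.PGroups.Basic

namespace Cfsg.Agent.S3781

/-- Let G be a finite p-group and n ≥ 1, and write γ_1(G) = G, γ_{k+1}(G) = [γ_k(G), G], and likewise γ_k(N) for a subgroup N. Let N be a normal subgroup of G contained in γ_n(G). If i > 1 and γ_{i+1}(N) ≠ 1, then |γ_i(N) : γ_{i+1}(N)| ≥ p^n. -/
theorem result {G : Type*} [Group G] [Finite G] {p : ℕ} [Fact p.Prime] (hG : IsPGroup p G) (n : ℕ) (hn : 1 ≤ n) (N : Subgroup G) [N.Normal] (hN : N ≤ (⊤ : Subgroup G).lowerCentralSeries (n - 1)) (i : ℕ) (hi : 1 < i) (hne : N.lowerCentralSeries i ≠ ⊥) : p ^ n ≤ (N.lowerCentralSeries i).relIndex (N.lowerCentralSeries (i - 1)) := by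
  obtain ⟨i, rfl⟩ : ∃ m, i = m + 1 := ⟨i - 1, by omega⟩
  simp only [Nat.add_sub_cancel]
  have hG' : Group.IsNilpotent G := hG.isNilpotent
  have hnorm : ∀ j, (N.lowerCentralSeries j).Normal := by
    intro j
    induction j with
    | zero => exact (inferInstance : N.Normal)
    | succ j ih => exact inferInstanceAs (⁅N.lowerCentralSeries j, N⁆).Normal
  set A := N.lowerCentralSeries i
  set B := N.lowerCentralSeries (i + 1)
  have := hnorm i
  have := hnorm (i + 1)
  have hBA : B ≤ A := N.lowerCentralSeries_antitone (Nat.le_succ i)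
  set J : ℕ → Subgroup G := fun j => iterTop A j ⊔ B
  have hJ0 : J 0 = A := sup_eq_left.mpr hBA
  have hJle : ∀ j, J (j + 1) ≤ J j := fun j => sup_le_sup_right (iterTop_succ_le A j) B
  by_contra hlt
  push_neg at hlt
  obtain ⟨k, hk⟩ : ∃ k, B.relIndex A = p ^ k := (hG.to_subgroup A).index _
  have hkn : k < n := by rw [hk] at hlt; exact (Nat.pow_lt_pow_iff_right (Fact.out : p.Prime).one_lt).mp hlt
  have hdesc : ∀ j, iterTop A j ≤ B ∨ (B.relIndex (J j) * p ^ j ≤ p ^ k) := by
    intro j
    induction j with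
    | zero => right; rw [hJ0, hk]; simp
    | succ j ih =>
      rcases ih with h | h
      · exact Or.inl ((iterTop_succ_le A j).trans h)
      by_cases hjB : iterTop A j ≤ B
      · exact Or.inl ((iterTop_succ_le A j).trans hjB)
      right
      have hne : (J (j + 1)).relIndex (J j) ≠ 1 := by
        intro h1
        rw [Subgroup.relIndex_eq_one] at h1
        have := iterTop_normal A j
        exact hjB (le_of_le_commutator_sup _ B ((le_sup_left).trans h1))
      obtain ⟨e, he⟩ : ∃ e, (J (j + 1)).relIndex (J j) = p ^ e := (hG.to_subgroup (J j)).index _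
      have hp : p ≤ (J (j + 1)).relIndex (J j) := by
        rw [he]; rcases e with _ | e
        · simp [he] at hne
        · exact Nat.le_self_pow (by omega) p
      have hmul : B.relIndex (J (j + 1)) * (J (j + 1)).relIndex (J j) = B.relIndex (J j) :=
        Subgroup.relIndex_mul_relIndex B _ _ le_sup_right (hJle j)
      calc B.relIndex (J (j + 1)) * p ^ (j + 1) = B.relIndex (J (j + 1)) * p * p ^ j := by ring
        _ ≤ B.relIndex (J j) * p ^ j := by
          rw [← hmul]; exact Nat.mul_le_mul_right _ (Nat.mul_le_mul_left _ hp)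
        _ ≤ p ^ k := h
  have hkB : iterTop A k ≤ B := by
    rcases hdesc k with h | h
    · exact h
    · have hpos : 0 < p ^ k := pow_pos (Fact.out : p.Prime).pos _
      have : B.relIndex (J k) ≤ 1 := Nat.le_of_mul_le_mul_right (by simpa using h) hpos
      have h1 : B.relIndex (J k) = 1 :=
        le_antisymm this (Nat.one_le_iff_ne_zero.mpr Subgroup.FiniteIndex.index_ne_zero)
      exact le_sup_left.trans (Subgroup.relIndex_eq_one.mp h1)
  have hB : B ≤ ⁅B, (⊤ : Subgroup G)⁆ := by
    have h1 : B ≤ iterTop A n := by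
      refine (Subgroup.commutator_mono le_rfl hN).trans ?_
      have := commutator_lowerCentral_le (n - 1) A
      rwa [Nat.sub_add_cancel hn] at this
    refine h1.trans ((iterTop_antitone A (show k + 1 ≤ n by omega)).trans ?_)
    exact Subgroup.commutator_mono hkB le_rfl
  exact hne (le_bot_iff.mp (le_of_le_commutator_sup B ⊥ (by simpa using hB)))

end Cfsg.Agent.S3781
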