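import Cfsg.Statements.S0713
import Mathlib
import Cfsg.Agent.Lib.Perm.Agree

set_option autoImplicit false
open Cfsg

namespace Cfsg.Agent.S0713

theorem inv_self_apply {α : Type*} (σ : Equiv.Perm α) (x : α) : σ⁻¹ (σ x) = x :=
  σ.symm_apply_apply x

/-- Jordan's Theorem: a primitive permutation group of degree `n ≥ 5` containing a `p`-cycle for a prime `p ≤ n - 3` contains the alternating group. -/
theorem result {α : Type*} [Fintype α] [DecidableEq α] (G : Subgroup (Equiv.Perm α)) (hG : MulAction.IsPreprimitive G α) {p : ℕ} (hp : p.Prime) (hn : 5 ≤ Fintype.card α) (hpn : p + 3 ≤ Fintype.card α) {g : Equiv.Perm α} (hgc : g.IsCycle) (hgp : g.support.card = p) (hg : g ∈ G) : alternatingGroup α ≤ G := by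
  classical
  have hp2 := hp.two_le
  have : Fact p.Prime := ⟨hp⟩
  set s : Set α := (g.support : Set α)ᶜ with hs
  have hsc : s.ncard = Fintype.card α - p := by
    rw [hs, Set.ncard_compl, Set.ncard_coe_finset, hgp, Nat.card_eq_fintype_card]
  set k := Fintype.card α - p with hk
  have hprim : MulAction.IsPreprimitive (fixingSubgroup G s) (SubMulAction.ofFixingSubgroup G s) := by
    have := Equiv.Perm.isPretransitive_of_isCycle_mem hgc hg
    apply MulAction.IsPreprimitive.of_prime_card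
    rw [show Nat.card (SubMulAction.ofFixingSubgroup G s) = p from ?_]
    · exact hp
    · rw [Nat.card_eq_fintype_card, Fintype.card_subtype, ← hgp]
      congr 1
      ext x
      simp [hs, SubMulAction.mem_ofFixingSubgroup_iff]
  have hkt : MulAction.IsMultiplyPretransitive G α k := by
    obtain ⟨n, hn'⟩ : ∃ n, k = n + 1 := ⟨k - 1, by omega⟩
    have h1 := hG.isMultiplyPreprimitive (n := n) (hsc.trans hn')
      (by rw [Nat.card_eq_fintype_card]; omega) hprim
    exact MulAction.isMultiplyPretransitive_of_le (n := n + 2) (by omega)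
      (by rw [Nat.card_eq_fintype_card]; omega)
  obtain ⟨u, hu⟩ : ∃ u, g u ≠ u := by
    obtain ⟨x, hx, -⟩ := hgc; exact ⟨x, hx⟩
  have hord : orderOf g = p := by rw [hgc.orderOf, hgp]
  -- elements inducing given permutations of the fixed points and normalising the cycle
  have hind : ∀ σ : Equiv.Perm α, (∀ x, g x ≠ x → σ x = x) → ∃ y : Equiv.Perm α, y ∈ G ∧
      (∀ x, g x = x → y x = σ x) ∧ y * g * y⁻¹ ∈ Subgroup.zpowers g := by
    intro σ hσ
    have hσfix : ∀ x, g x = x → g (σ x) = σ x := by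
      intro x hx
      by_contra h
      have := σ.injective (hσ _ h)
      exact h (by rw [this, hx])
    obtain ⟨x, hx⟩ := Cfsg.Agent.Perm.Agree.exists_smul_eq
      (by rw [Nat.card_eq_fintype_card]; omega) hkt (g.supportᶜ)
      (by rw [Finset.card_compl, hgp]) σ σ.injective.injOn
    have hxd : ∀ z, g z = z → (x : Equiv.Perm α) z = σ z := fun z hz =>
      hx z (by rw [Finset.mem_compl, Equiv.Perm.notMem_support]; exact hz)
    set g' := (x : Equiv.Perm α) * g * (x : Equiv.Perm α)⁻¹ with hg'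
    have hg'fix : ∀ z, g z = z → g' z = z := by
      intro z hz
      obtain ⟨w, hw, rfl⟩ : ∃ w, g w = w ∧ σ w = z := by
        refine ⟨σ.symm z, ?_, σ.apply_symm_apply z⟩
        by_contra h
        have h1 := hσ _ h
        rw [σ.apply_symm_apply] at h1
        exact h (by rw [← h1]; exact hz)
      rw [← hxd w hw]
      simp only [hg', Equiv.Perm.coe_mul, Function.comp_apply, inv_self_apply, hw]
    -- the pointwise stabiliser of the fixed points has cyclic Sylow p-subgroups of order p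
    let F : Subgroup (Equiv.Perm α) :=
      G ⊓ fixingSubgroup (Equiv.Perm α) ((g.supportᶜ : Finset α) : Set α)
    have hmemF : ∀ z : Equiv.Perm α, z ∈ F ↔ z ∈ G ∧ ∀ v, g v = v → z v = v := by
      intro z
      rw [Subgroup.mem_inf, mem_fixingSubgroup_iff]
      simp [Equiv.Perm.smul_def]
    have hgF : g ∈ F := (hmemF g).2 ⟨hg, fun v hv => hv⟩
    have hg'F : g' ∈ F := (hmemF g').2 ⟨mul_mem (mul_mem x.2 hg) (inv_mem x.2), hg'fix⟩
    let ψ : F → Equiv.Perm {v // g v ≠ v} := fun z =>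
      (z : Equiv.Perm α).subtypePerm (fun v => by
        constructor
        · intro hv h
          exact hv (by rw [((hmemF z).1 z.2).2 v h]; exact h)
        · intro hv h
          have h1 := ((hmemF z).1 z.2).2 _ h
          exact hv (by rw [← (z : Equiv.Perm α).injective h1]; exact h))
    have hψm : ∀ z w : F, ψ (z * w) = ψ z * ψ w := fun z w => Equiv.ext fun v => Subtype.ext rfl
    have hψ : Function.Injective (MonoidHom.mk' ψ hψm) := by
      intro z w hzw
      refine Subtype.ext (Equiv.ext fun v => ?_)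
      by_cases hv : g v = v
      · rw [((hmemF z).1 z.2).2 v hv, ((hmemF w).1 w.2).2 v hv]
      · exact congrArg (fun e : Equiv.Perm {v // g v ≠ v} => ((e ⟨v, hv⟩ : {v // g v ≠ v}) : α)) hzw
    have hFdvd := Subgroup.card_dvd_of_injective _ hψ
    rw [Nat.card_perm, Nat.card_eq_fintype_card (α := {v // g v ≠ v}), Fintype.card_subtype,
      show (Finset.univ.filter fun v => g v ≠ v) = g.support from rfl, hgp] at hFdvd
    have hordF : orderOf (⟨g, hgF⟩ : F) = p := by rw [Subgroup.orderOf_mk, hord]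
    have hordF' : orderOf (⟨g', hg'F⟩ : F) = p := by
      rw [Subgroup.orderOf_mk, hg', ← MulAut.conj_apply, MulEquiv.orderOf_eq, hord]
    have hfac : (Nat.card F).factorization p = 1 := by
      have h0 : Nat.card F ≠ 0 := Nat.card_pos.ne'
      have h1 : p ∣ Nat.card F := hordF ▸ orderOf_dvd_natCard _
      have h2 : ¬ p ^ 2 ∣ Nat.card F := fun h => by
        have h3 : p ^ 2 ∣ p * (p - 1).factorial := by
          rw [Nat.mul_factorial_pred hp.ne_zero]; exact h.trans hFdvd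
        rw [pow_two] at h3
        have := (Nat.Prime.dvd_factorial hp).1 (Nat.dvd_of_mul_dvd_mul_left hp.pos h3)
        omega
      have h4 := (hp.dvd_iff_one_le_factorization h0).1 h1
      have h5 : (Nat.card F).factorization p < 2 := by
        by_contra h
        exact h2 ((hp.pow_dvd_iff_le_factorization h0).2 (by omega))
      omega
    let S : ∀ z : F, orderOf z = p → Sylow p F := fun z hz =>
      Sylow.ofCard (Subgroup.zpowers z) (by rw [hfac, pow_one, Nat.card_zpowers, hz])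
    obtain ⟨z, hz⟩ := MulAction.exists_smul_eq F (S _ hordF') (S _ hordF)
    refine ⟨(z : Equiv.Perm α) * x, mul_mem ((hmemF z).1 z.2).1 x.2, fun v hv => ?_, ?_⟩
    · rw [Equiv.Perm.coe_mul, Function.comp_apply, hxd v hv,
        ((hmemF z).1 z.2).2 _ (hσfix v hv)]
    · have h1 : z * ⟨g', hg'F⟩ * z⁻¹ ∈ ((S _ hordF : Sylow p F) : Subgroup F) := by
        rw [← hz]
        exact ⟨⟨g', hg'F⟩, Subgroup.mem_zpowers _, rfl⟩
      obtain ⟨i, hi⟩ := Subgroup.mem_zpowers_iff.1 h1
      refine ⟨i, ?_⟩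
      show g ^ i = _
      have h2 := congrArg Subtype.val hi
      simp only [SubgroupClass.coe_zpow, Subgroup.coe_mul, Subgroup.coe_inv] at h2
      rw [h2, hg']
      group
  -- three fixed points
  have hcompl : 2 < (g.supportᶜ).card := by rw [Finset.card_compl, hgp]; omega
  obtain ⟨a, b, c, ha, hb, hc, hab, hac, hbc⟩ := Finset.two_lt_card_iff.1 hcompl
  rw [Finset.mem_compl, Equiv.Perm.notMem_support] at ha hb hc
  set s₁ := Equiv.swap a b with hs₁
  set s₂ := Equiv.swap a c with hs₂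
  have h₁ : ∀ x, g x ≠ x → s₁ x = x := fun x hx =>
    Equiv.swap_apply_of_ne_of_ne (fun e => hx (e ▸ ha)) (fun e => hx (e ▸ hb))
  have h₂ : ∀ x, g x ≠ x → s₂ x = x := fun x hx =>
    Equiv.swap_apply_of_ne_of_ne (fun e => hx (e ▸ ha)) (fun e => hx (e ▸ hc))
  obtain ⟨y₁, hy₁, hd₁, hn₁⟩ := hind s₁ h₁
  obtain ⟨y₂, hy₂, hd₂, hn₂⟩ := hind s₂ h₂
  obtain ⟨i, hi⟩ := Subgroup.mem_zpowers_iff.1 hn₁
  obtain ⟨j, hj⟩ := Subgroup.mem_zpowers_iff.1 hn₂
  have e12 : (y₁ * y₂) * g * (y₁ * y₂)⁻¹ = g ^ (i * j) := by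
    calc (y₁ * y₂) * g * (y₁ * y₂)⁻¹ = y₁ * (y₂ * g * y₂⁻¹) * y₁⁻¹ := by group
      _ = (y₁ * g * y₁⁻¹) ^ j := by rw [← hj, conj_zpow]
      _ = _ := by rw [← hi, zpow_mul]
  have e21 : (y₂ * y₁) * g * (y₂ * y₁)⁻¹ = g ^ (i * j) := by
    calc (y₂ * y₁) * g * (y₂ * y₁)⁻¹ = y₂ * (y₁ * g * y₁⁻¹) * y₂⁻¹ := by group
      _ = (y₂ * g * y₂⁻¹) ^ i := by rw [← hi, conj_zpow]
      _ = _ := by rw [← hj, ← zpow_mul, mul_comm]
  set x := (y₂ * y₁)⁻¹ * (y₁ * y₂) with hx
  have hxg : x * g = g * x := by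
    have : x * g * x⁻¹ = g := by
      calc x * g * x⁻¹ = (y₂ * y₁)⁻¹ * ((y₁ * y₂) * g * (y₁ * y₂)⁻¹) * (y₂ * y₁) := by
            rw [hx]; group
        _ = (y₂ * y₁)⁻¹ * ((y₂ * y₁) * g * (y₂ * y₁)⁻¹) * (y₂ * y₁) := by rw [e12, e21]
        _ = g := by group
    exact mul_inv_eq_iff_eq_mul.1 this
  have hxG : x ∈ G := mul_mem (inv_mem (mul_mem hy₂ hy₁)) (mul_mem hy₁ hy₂)
  -- on the support x is a power of g
  have hgxu : g (x u) ≠ x u := by
    intro h
    apply hu
    have h1 : x (g u) = g (x u) := congrArg (fun σ : Equiv.Perm α => σ u) hxg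
    exact x.injective (h1.trans h)
  obtain ⟨n, hn'⟩ := hgc.sameCycle hu hgxu
  have hsupp : ∀ v, g v ≠ v → x v = (g ^ n) v := by
    intro v hv
    obtain ⟨m, rfl⟩ := hgc.sameCycle hu hv
    have h1 : x ((g ^ m) u) = (g ^ m) (x u) :=
      congrArg (fun σ : Equiv.Perm α => σ u) ((show Commute x g from hxg).zpow_right m).eq
    rw [h1, ← hn']
    exact congrArg (fun σ : Equiv.Perm α => σ u) (zpow_mul_comm g m n)
  have hfixσ : ∀ σ : Equiv.Perm α, (∀ v, g v ≠ v → σ v = v) → ∀ v, g v = v → g (σ v) = σ v := by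
    intro σ hσ v hv
    by_contra h
    exact h (by rw [σ.injective (hσ _ h), hv])
  set w := s₁ * s₂ with hw
  have hw3 := Equiv.Perm.isThreeCycle_swap_mul_swap_same hab hac hbc
  have hfix : ∀ v, g v = v → x v = (w * w) v := by
    intro v hv
    have hinv : (y₂ * y₁)⁻¹ = y₁⁻¹ * y₂⁻¹ := mul_inv_rev _ _
    have e2 : ∀ z, g z = z → y₂⁻¹ z = s₂ z := fun z hz => by
      rw [Equiv.Perm.inv_eq_iff_eq, hd₂ _ (hfixσ s₂ h₂ z hz), hs₂, Equiv.swap_apply_self]
    have e1 : ∀ z, g z = z → y₁⁻¹ z = s₁ z := fun z hz => by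
      rw [Equiv.Perm.inv_eq_iff_eq, hd₁ _ (hfixσ s₁ h₁ z hz), hs₁, Equiv.swap_apply_self]
    have f2 := hfixσ s₂ h₂ v hv
    have f1 := hfixσ s₁ h₁ _ f2
    rw [hx, hinv]
    simp only [hw, Equiv.Perm.coe_mul, Function.comp_apply]
    rw [hd₂ v hv, hd₁ _ f2, e2 _ f1, e1 _ (hfixσ s₂ h₂ _ f1)]
  have hcyc : g ^ (-n) * x = w * w := by
    refine Equiv.ext fun v => ?_
    rw [Equiv.Perm.coe_mul, Function.comp_apply]
    by_cases hv : g v = v
    · rw [hfix v hv]
      exact Equiv.Perm.zpow_apply_eq_self_of_apply_eq_self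
        (by simp only [hw, Equiv.Perm.coe_mul, Function.comp_apply]
            exact hfixσ s₁ h₁ _ (hfixσ s₂ h₂ _ (hfixσ s₁ h₁ _ (hfixσ s₂ h₂ v hv)))) _
    · rw [hsupp v hv, ← Equiv.Perm.mul_apply, ← zpow_add, neg_add_cancel, zpow_zero,
        Equiv.Perm.one_apply, hw]
      simp only [Equiv.Perm.coe_mul, Function.comp_apply, h₂ v hv, h₁ v hv]
  refine Equiv.Perm.alternatingGroup_le_of_isPreprimitive_of_isThreeCycle_mem hG
    (g := g ^ (-n) * x) ?_ (mul_mem (zpow_mem hg _) hxG)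
  rw [hcyc]
  exact hw3.isThreeCycle_sq

end Cfsg.Agent.S0713
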