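import Cfsg.Statements.S0606
import Cfsg.Agent.Lib.PLocal.ThompsonSubgroup
import Cfsg.Agent.Lib.CharP.Basic

set_option autoImplicit false
open Cfsg
open scoped commutatorElement

namespace Cfsg.Agent.S0606

/-- Elementary abelian p-subgroups of maximal order are best offenders on any normal elementary abelian p-subgroup. -/
theorem result {G : Type*} [Group G] [Finite G] {p : ℕ} [Fact p.Prime] (V : Subgroup G) [V.Normal] (hV : Cfsg.IsElementaryAbelian p V) (A : Subgroup G) (hA : A ∈ Cfsg.maxElementaryAbelianSubgroups p G) : Cfsg.IsBestOffenderOn p V A := by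
  open Subgroup Cfsg.Agent.PLocal.ThompsonSubgroup in
  refine ⟨fun B hB => ?_, ?_, ?_⟩
  · set C := V ⊓ centralizer (B : Set G) with hC
    have hBC : B ≤ centralizer (C : Set G) := le_centralizer_iff.mp inf_le_right
    have hE : IsElementaryAbelian p (B ⊔ C) :=
      IsElementaryAbelian.sup (IsElementaryAbelian.mono hA.1 hB)
        (IsElementaryAbelian.mono hV inf_le_left) hBC
    have hBn : B ≤ normalizer (C : Set G) := hBC.trans (centralizer_le_normalizer _)
    have hinf : B ⊓ C ≤ V ⊓ centralizer (A : Set G) := fun x hx =>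
      ⟨hx.2.1, fun a ha => (isElementaryAbelian_iff.mp hA.1).1 a ha x (hB hx.1)⟩
    exact (Cfsg.Agent.CharP.card_mul_le_card_sup_mul_card_inf B C).trans
      (Nat.mul_le_mul (hA.2 _ hE) (card_le_of_le hinf))
  · refine (le_bot_iff.mp ?_).le.trans bot_le
    rw [commutator_le]
    intro a ha b hb
    rw [mem_bot, commutatorElement_eq_one_iff_commute]
    exact (isElementaryAbelian_iff.mp hA.1).1 a ha b hb
  · intro a ha
    rw [hA.1.2 a ha]
    exact one_mem _

end Cfsg.Agent.S0606
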