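import Cfsg.Statements.S3754
import Mathlib
import Cfsg.Agent.Lib.PLocal.Offender.Section
import Cfsg.Agent.Lib.Components.Hyperplane
import Cfsg.Agent.Lib.Transfer.NormalPComplement
import Cfsg.Agent.Solvable.Basics
import Cfsg.Agent.Lib.Coprime.PGroup

set_option autoImplicit false
open Cfsg
open scoped commutatorElement

namespace Cfsg.Agent.S3754
open Cfsg.Agent.PLocal
open scoped Pointwise

/-- The hyperplane of `A` to be used. -/
theorem exists_hyperplane {M : Type*} [Group M] [Finite M] {p : ℕ} [hp : Fact p.Prime] {A K : Subgroup M}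
    (hA : Cfsg.IsElementaryAbelian p A) (hA1 : A ≠ ⊥) (hK : ¬ p ∣ Nat.card K)
    (hAK : A ≤ Subgroup.normalizer (K : Set M)) (hfaith : ¬ K ≤ Subgroup.centralizer (A : Set M)) :
    ∃ B : Subgroup M, B ≤ A ∧ B.relIndex A = p ∧
      ¬ K ⊓ Subgroup.centralizer (B : Set M) ≤ Subgroup.centralizer (A : Set M) := by
  by_cases h : p ^ 2 ≤ Nat.card A
  · by_contra hno
    push Not at hno
    refine hfaith ?_
    rw [Cfsg.Agent.Components.Hyperplane.eq_iSup_hyperplane hA h hK hAK]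
    exact iSup_le fun D => hno D.1 D.2.1 D.2.2
  · refine ⟨⊥, bot_le, ?_, ?_⟩
    · rw [Subgroup.relIndex_bot_left]
      obtain ⟨k, hk⟩ := (Cfsg.Agent.Components.Hyperplane.isPGroup hA).exists_card_eq
      rw [hk] at h ⊢
      rcases k with _ | _ | k
      · exact absurd (Subgroup.card_eq_one.mp hk) hA1
      · rw [zero_add, pow_one]
      · exact absurd (Nat.pow_le_pow_right hp.out.pos (by omega)) h
    · rwa [Cfsg.Agent.PLocal.Offender.inf_centralizer_bot]

/-- Let M be a finite p-soluble group and A a p-subgroup of M with Φ(A) ≤ O_p(M) but A ≰ O_p(M). Then there is x ∈ O_{p,p'}(M) such that L = ⟨A, xAx⁻¹⟩ satisfies: x ∈ O^p(L) and O^p(L) ≤ O_{p,p'}(M); [O^p(L), A] = O^p(L); A ∩ O_p(L) has index p in A; and [A ∩ O_p(L), L] ≤ O_p(M). Here O^p(L) is the subgroup generated by the p'-elements of L and O_{p,p'}(M) the preimage of O_{p'}(M/O_p(M)). -/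
theorem result {M : Type*} [Group M] [Finite M] {p : ℕ} [Fact p.Prime] (hM : Cfsg.IsPSolvable p M) (A : Subgroup M) (hA : IsPGroup p A) (hΦ : (frattini ↥A).map A.subtype ≤ Cfsg.pCore p M) (hnot : ¬ A ≤ Cfsg.pCore p M) : ∃ x ∈ (Cfsg.pPrimeCore p (M ⧸ Cfsg.pCore p M)).comap (QuotientGroup.mk' (Cfsg.pCore p M)), x ∈ (Cfsg.pResidual p ↥(A ⊔ A.map (MulAut.conj x).toMonoidHom)).map (A ⊔ A.map (MulAut.conj x).toMonoidHom).subtype ∧ (Cfsg.pResidual p ↥(A ⊔ A.map (MulAut.conj x).toMonoidHom)).map (A ⊔ A.map (MulAut.conj x).toMonoidHom).subtype ≤ (Cfsg.pPrimeCore p (M ⧸ Cfsg.pCore p M)).comap (QuotientGroup.mk' (Cfsg.pCore p M)) ∧ ⁅(Cfsg.pResidual p ↥(A ⊔ A.map (MulAut.conj x).toMonoidHom)).map (A ⊔ A.map (MulAut.conj x).toMonoidHom).subtype, A⁆ = (Cfsg.pResidual p ↥(A ⊔ A.map (MulAut.conj x).toMonoidHom)).map (A ⊔ A.map (MulAut.conj x).toMonoidHom).subtype ∧ (A ⊓ (Cfsg.pCore p ↥(A ⊔ A.map (MulAut.conj x).toMonoidHom)).map (A ⊔ A.map (MulAut.conj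 x).toMonoidHom).subtype).relIndex A = p ∧ ⁅A ⊓ (Cfsg.pCore p ↥(A ⊔ A.map (MulAut.conj x).toMonoidHom)).map (A ⊔ A.map (MulAut.conj x).toMonoidHom).subtype, A ⊔ A.map (MulAut.conj x).toMonoidHom⁆ ≤ Cfsg.pCore p M := by
  classical
  set Q := Cfsg.pCore p M with hQdef
  set π := QuotientGroup.mk' Q with hπ
  have hπs : Function.Surjective π := QuotientGroup.mk'_surjective Q
  have hQp : IsPGroup p Q := Cores.isPGroup_pCore
  set K := Cfsg.pPrimeCore p (M ⧸ Q) with hK
  have hKcop : ¬ p ∣ Nat.card K := Cores.not_dvd_card_pPrimeCore (Fact.out : p.Prime).ne_one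
  set Ab := A.map π with hAb
  have hAbel : Cfsg.IsElementaryAbelian p Ab := by
    have hΦQ : ∀ u : ↥A, u ∈ frattini ↥A → π (u : M) = 1 := fun u hu =>
      (QuotientGroup.eq_one_iff _).mpr (hΦ ⟨u, hu, rfl⟩)
    refine ⟨⟨⟨?_⟩⟩, ?_⟩
    · rintro ⟨_, a, ha, rfl⟩ ⟨_, b, hb, rfl⟩
      refine Subtype.ext ?_
      show π a * π b = π b * π a
      rw [← commutatorElement_eq_one_iff_mul_comm, ← map_commutatorElement]
      haveI : Group.IsNilpotent ↥A := hA.isNilpotent
      refine hΦQ ⁅(⟨a, ha⟩ : ↥A), ⟨b, hb⟩⁆ ?_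
      exact Cfsg.Agent.Coprime.commutator_le_frattini ↥A (Subgroup.commutator_mem_commutator (Subgroup.mem_top _) (Subgroup.mem_top _))
    · rintro _ ⟨a, ha, rfl⟩
      rw [← map_pow]
      exact hΦQ ((⟨a, ha⟩ : ↥A) ^ p) (Cfsg.Agent.Solvable.Basics.pow_mem_frattini hA _)
  have hAb1 : Ab ≠ ⊥ := by rwa [Ne, hAb, Subgroup.map_eq_bot_iff, QuotientGroup.ker_mk']
  have hKn : Ab ≤ Subgroup.normalizer (K : Set (M ⧸ Q)) := fun x _ => by rw [Subgroup.normalizer_eq_top]; trivial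
  have hfaith : ¬ K ≤ Subgroup.centralizer (Ab : Set (M ⧸ Q)) := by
    intro h
    have h1 := (Subgroup.le_centralizer_iff.mp h).trans
      (Offender.centralizer_pPrimeCore_le (Cores.pCore_quotient_pCore) (PSolvable.quotient hM Q))
    obtain ⟨k, hk⟩ := (Cfsg.Agent.Components.Hyperplane.isPGroup hAbel).exists_card_eq
    rcases k with _ | k
    · exact hAb1 (Subgroup.card_eq_one.mp (by rw [hk, pow_zero]))
    · exact hKcop ((dvd_pow_self p (by omega)).trans (hk ▸ Subgroup.card_dvd_of_le h1))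
  obtain ⟨B, hBA, hBidx, hBfix⟩ := exists_hyperplane hAbel hAb1 hKcop hKn hfaith
  set D := K ⊓ Subgroup.centralizer (B : Set (M ⧸ Q)) with hD
  haveI := hAbel.1
  have hAD : Ab ≤ Subgroup.normalizer (D : Set (M ⧸ Q)) := Offender.le_normalizer_inf hKn
    (le_trans (fun a ha => Subgroup.centralizer_le_normalizer _ (Subgroup.mem_centralizer_iff.mpr fun b hb =>
      congrArg Subtype.val (hAbel.1.is_comm.comm (⟨b, hBA hb⟩ : Ab) ⟨a, ha⟩)))
      (Offender.le_normalizer_centralizer le_rfl))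
  set P := D.comap π with hP
  set W := Ab ⊔ D with hW
  let L : M → Subgroup M := fun x => A ⊔ A.map (MulAut.conj x).toMonoidHom
  let R : M → Subgroup M := fun x => (Cfsg.pResidual p ↥(L x)).map (L x).subtype
  have hLW : ∀ x ∈ P, (L x).map π ≤ W := by
    intro x hx
    rw [Subgroup.map_sup]
    refine sup_le le_sup_left ?_
    rintro _ ⟨_, ⟨a, ha, rfl⟩, rfl⟩
    show π (x * a * x⁻¹) ∈ W
    rw [map_mul, map_mul, map_inv]
    exact W.mul_mem (W.mul_mem (Subgroup.mem_sup_right hx) (Subgroup.mem_sup_left ⟨a, ha, rfl⟩)) (W.inv_mem (Subgroup.mem_sup_right hx))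
  -- `p'`-elements of `A D` lie in `D`
  have hcopW : ∀ w ∈ W, (orderOf w).Coprime p → w ∈ D := by
    intro w hw ho
    obtain ⟨a, ha, d, hd, rfl⟩ := (show w ∈ ((Ab : Set (M ⧸ Q)) * (D : Set (M ⧸ Q))) by
      rw [← Subgroup.coe_mul_of_left_le_normalizer_right Ab D hAD]; exact hw)
    set N := Subgroup.normalizer (D : Set (M ⧸ Q))
    haveI : (D.subgroupOf N).Normal := Subgroup.normal_in_normalizer
    set q := QuotientGroup.mk' (D.subgroupOf N)
    have hwN : a * d ∈ N := N.mul_mem (hAD ha) (Subgroup.le_normalizer hd)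
    have e : q ⟨a * d, hwN⟩ = q ⟨a, hAD ha⟩ := by
      show q (⟨a, hAD ha⟩ * ⟨d, Subgroup.le_normalizer hd⟩) = _
      rw [map_mul, show q ⟨d, Subgroup.le_normalizer hd⟩ = 1 from (QuotientGroup.eq_one_iff _).mpr hd, mul_one]
    have h1 : orderOf (q ⟨a * d, hwN⟩) ∣ orderOf (a * d) := by
      exact (orderOf_map_dvd q _).trans (dvd_of_eq (Subgroup.orderOf_coe (⟨a * d, hwN⟩ : N)).symm)
    have h2 : orderOf (q ⟨a * d, hwN⟩) ∣ p := by
      rw [e]
      refine (orderOf_map_dvd q _).trans ?_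
      rw [← Subgroup.orderOf_coe (⟨a, hAD ha⟩ : N)]
      exact orderOf_dvd_of_pow_eq_one (hAbel.2 a ha)
    have h3 := Nat.eq_one_of_dvd_coprimes ho h1 h2
    have h4 : (⟨a * d, hwN⟩ : N) ∈ D.subgroupOf N := (QuotientGroup.eq_one_iff _).mp (orderOf_eq_one_iff.mp h3)
    exact h4
  have hRP : ∀ x ∈ P, R x ≤ P := by
    intro x hx
    show (Cfsg.pResidual p ↥(L x)).map (L x).subtype ≤ P
    rw [Cfsg.pResidual, MonoidHom.map_closure, Subgroup.closure_le]
    rintro _ ⟨g, hg, rfl⟩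
    refine hcopW _ (hLW x hx ⟨g, g.2, rfl⟩) (Nat.Coprime.coprime_dvd_left ?_ hg)
    rw [← Subgroup.orderOf_coe g]
    exact orderOf_map_dvd π _
  haveI hRn : ∀ x, (Cfsg.pResidual p ↥(L x)).Normal := fun x => Cfsg.Agent.Transfer.NormalPComplement.pResidual_normal
  have hRLn : ∀ x, L x ≤ Subgroup.normalizer (R x : Set M) := fun x g hg => by
    exact Subgroup.le_normalizer_map (L x).subtype (H := Cfsg.pResidual p ↥(L x)) ⟨⟨g, hg⟩, by rw [Subgroup.normalizer_eq_top]; trivial, rfl⟩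
  have hDcop : ∀ d ∈ D, (orderOf d).Coprime p := fun d hd =>
    ((Fact.out : p.Prime).coprime_iff_not_dvd.mpr fun h => hKcop (h.trans (Subgroup.orderOf_dvd_natCard K hd.1))).symm
  -- the commutators of `x` with `A` lie in the image of `R`
  have hcR : ∀ x ∈ P, ∀ a ∈ A, π (x * a * x⁻¹ * a⁻¹) ∈ D ∧ π (x * a * x⁻¹ * a⁻¹) ∈ (R x).map π := by
    intro x hx a ha
    have hd : π (x * a * x⁻¹ * a⁻¹) ∈ D := by
      rw [map_mul, map_mul, map_mul, map_inv, map_inv]
      rw [show π x * π a * (π x)⁻¹ * (π a)⁻¹ = π x * (π a * (π x)⁻¹ * (π a)⁻¹) by group]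
      exact D.mul_mem hx ((Subgroup.mem_normalizer_iff.mp (hAD ⟨a, ha, rfl⟩) _).mp (D.inv_mem hx))
    refine ⟨hd, ?_⟩
    have hcL : x * a * x⁻¹ * a⁻¹ ∈ L x :=
      (L x).mul_mem (Subgroup.mem_sup_right ⟨a, ha, rfl⟩) ((L x).inv_mem (Subgroup.mem_sup_left ha))
    obtain ⟨k, hk⟩ := Cfsg.Agent.Transfer.NormalPComplement.pow_pResidual_mem (p := p) (⟨_, hcL⟩ : ↥(L x))
    refine Cfsg.Agent.Transfer.NormalPComplement.mem_of_pow_mem (Nat.Coprime.pow_right k (hDcop _ hd)) ?_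
    rw [← map_pow]
    exact ⟨_, ⟨_, hk, rfl⟩, rfl⟩
  have hmove : ∀ x ∈ P, Ab.map (MulAut.conj (π x)).toMonoidHom ≠ Ab →
      ∃ y ∈ R x, Ab.map (MulAut.conj (π y)).toMonoidHom ≠ Ab := by
    intro x hx hne
    by_contra hno
    push Not at hno
    refine hne (Subgroup.eq_of_le_of_card_ge ?_ ?_)
    swap
    · exact (Nat.card_congr ((Ab.equivMapOfInjective (MulAut.conj (π x)).toMonoidHom (MulAut.conj (π x)).injective).toEquiv)).le
    rintro _ ⟨_, ⟨a, ha, rfl⟩, rfl⟩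
    show π x * π a * (π x)⁻¹ ∈ Ab
    obtain ⟨hd, ⟨r, hr, hrd⟩⟩ := hcR x hx a ha
    set d := π (x * a * x⁻¹ * a⁻¹) with hd'
    have hdN : d ∈ Subgroup.normalizer (Ab : Set (M ⧸ Q)) := by
      rw [← hrd]
      exact Cfsg.Agent.Coprime.conj_smul_eq_self_iff.mp ((Cfsg.Agent.Coprime.conj_smul_eq_map _ _).trans (hno r hr))
    have haAb : π a ∈ Ab := ⟨a, ha, rfl⟩
    have hcomm : Commute d (π a) := by
      have h1 : d * π a * d⁻¹ * (π a)⁻¹ ∈ Ab ⊓ D :=
        ⟨Ab.mul_mem ((Subgroup.mem_normalizer_iff.mp hdN _).mp haAb) (Ab.inv_mem haAb), by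
          rw [show d * π a * d⁻¹ * (π a)⁻¹ = d * (π a * d⁻¹ * (π a)⁻¹) by group]
          exact D.mul_mem hd ((Subgroup.mem_normalizer_iff.mp (hAD haAb) _).mp (D.inv_mem hd))⟩
      have h2 : (d * π a * d⁻¹ * (π a)⁻¹) = 1 :=
        orderOf_eq_one_iff.mp (Nat.eq_one_of_dvd_coprimes (hDcop _ h1.2) dvd_rfl (orderOf_dvd_of_pow_eq_one (hAbel.2 _ h1.1)))
      rwa [mul_inv_eq_one, mul_inv_eq_iff_eq_mul] at h2
    have e : π x * π a * (π x)⁻¹ = d * π a := by
      rw [hd', map_mul, map_mul, map_mul, map_inv, map_inv]; group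
    have hd1 : d = 1 := by
      have h1 : (π x * π a * (π x)⁻¹) ^ p = 1 := by rw [conj_pow, hAbel.2 _ haAb, mul_one, mul_inv_cancel]
      rw [e, hcomm.mul_pow, hAbel.2 _ haAb, mul_one] at h1
      exact orderOf_eq_one_iff.mp (Nat.eq_one_of_dvd_coprimes (hDcop _ hd) dvd_rfl (orderOf_dvd_of_pow_eq_one h1))
    rw [e, hd1, one_mul]
    exact haAb
  -- a minimal choice
  have hne : {x : M | x ∈ P ∧ Ab.map (MulAut.conj (π x)).toMonoidHom ≠ Ab}.Nonempty := by
    by_contra hno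
    rw [Set.not_nonempty_iff_eq_empty, Set.eq_empty_iff_forall_notMem] at hno
    refine hBfix fun d hd => ?_
    obtain ⟨x, rfl⟩ := hπs d
    have hfix : Ab.map (MulAut.conj (π x)).toMonoidHom = Ab := by
      by_contra h
      exact hno x ⟨hd, h⟩
    rw [Subgroup.mem_centralizer_iff]
    intro u hu
    have hN : π x ∈ Subgroup.normalizer (Ab : Set (M ⧸ Q)) :=
      Cfsg.Agent.Coprime.conj_smul_eq_self_iff.mp ((Cfsg.Agent.Coprime.conj_smul_eq_map _ _).trans hfix)
    have h1 : π x * u * (π x)⁻¹ * u⁻¹ ∈ Ab ⊓ D :=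
      ⟨Ab.mul_mem ((Subgroup.mem_normalizer_iff.mp hN _).mp hu) (Ab.inv_mem hu), by
        rw [show π x * u * (π x)⁻¹ * u⁻¹ = π x * (u * (π x)⁻¹ * u⁻¹) by group]
        exact D.mul_mem hd ((Subgroup.mem_normalizer_iff.mp (hAD hu) _).mp (D.inv_mem hd))⟩
    have h2 := orderOf_eq_one_iff.mp (Nat.eq_one_of_dvd_coprimes (hDcop _ h1.2) dvd_rfl (orderOf_dvd_of_pow_eq_one (hAbel.2 _ h1.1)))
    rw [mul_inv_eq_one, mul_inv_eq_iff_eq_mul] at h2
    exact h2.symm
  obtain ⟨x0, ⟨hx0P, hx0⟩, hmin⟩ := Set.exists_min_image _ (fun x => Nat.card (L x)) (Set.toFinite _) hne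
  obtain ⟨y, hyR0, hy⟩ := hmove x0 hx0P hx0
  have hyP : y ∈ P := hRP x0 hx0P hyR0
  have hyL : y ∈ L x0 := Subgroup.map_subtype_le _ hyR0
  have hLy : L y = L x0 := by
    refine Subgroup.eq_of_le_of_card_ge (sup_le le_sup_left ?_) (hmin y ⟨hyP, hy⟩)
    rintro _ ⟨a, ha, rfl⟩
    exact (L x0).mul_mem ((L x0).mul_mem hyL (Subgroup.mem_sup_left ha)) ((L x0).inv_mem hyL)
  have hRy : R y = R x0 := congrArg (fun S : Subgroup M => (Cfsg.pResidual p ↥S).map S.subtype) hLy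
  have hyR : y ∈ R y := hRy ▸ hyR0
  refine ⟨y, hyP.1, hyR, fun g hg => (hRP y hyP hg).1, ?_, ?_, ?_⟩
  · -- `[R, A] = R`
    show ⁅R y, A⁆ = R y
    set N := ⁅R y, A⁆ with hN
    have hAR : A ≤ Subgroup.normalizer (R y : Set M) := le_sup_left.trans (hRLn y)
    have hNR : N ≤ R y := Cfsg.Agent.Coprime.commutator_le_of_le_normalizer hAR
    have hAN : A ≤ Subgroup.normalizer (N : Set M) := Subgroup.normalizer_commutator_ge_right (R y) A
    refine le_antisymm hNR ?_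
    have hLN : L y ≤ N ⊔ A := by
      refine sup_le le_sup_right ?_
      rintro _ ⟨a, ha, rfl⟩
      show y * a * y⁻¹ ∈ N ⊔ A
      rw [show y * a * y⁻¹ = ⁅y, a⁆ * a by rw [commutatorElement_def]; group]
      exact Subgroup.mul_mem _ (Subgroup.mem_sup_left (Subgroup.commutator_mem_commutator hyR ha)) (Subgroup.mem_sup_right ha)
    have hNn : L y ≤ Subgroup.normalizer (N : Set M) := hLN.trans (sup_le Subgroup.le_normalizer hAN)
    have hNL : N ≤ L y := hNR.trans (Subgroup.map_subtype_le _)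
    haveI : (N.subgroupOf (L y)).Normal := Subgroup.normal_subgroupOf_of_le_normalizer hNn
    have hp' : IsPGroup p (↥(L y) ⧸ N.subgroupOf (L y)) := by
      let φ : ↥A →* ↥(L y) ⧸ N.subgroupOf (L y) := (QuotientGroup.mk' _).comp (Subgroup.inclusion le_sup_left)
      refine hA.of_surjective φ fun u => ?_
      obtain ⟨⟨g, hg⟩, rfl⟩ := QuotientGroup.mk'_surjective _ u
      obtain ⟨n, hn, a, ha, rfl⟩ := (show g ∈ ((N : Set M) * (A : Set M)) by
        rw [← Subgroup.coe_mul_of_right_le_normalizer_left N A hAN]; exact hLN hg)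
      refine ⟨⟨a, ha⟩, ?_⟩
      refine (QuotientGroup.eq (s := N.subgroupOf (L y))).mpr ?_
      show a⁻¹ * (n * a) ∈ N
      rw [← mul_assoc]
      simpa using (Subgroup.mem_normalizer_iff.mp (hAN (A.inv_mem ha)) n).mp hn
    rintro _ ⟨g, hg, rfl⟩
    exact Cfsg.Agent.Transfer.NormalPComplement.pResidual_le hp' hg
  all_goals
    set Op := (Cfsg.pCore p ↥(L y)).map (L y).subtype with hOp
    have hBW : ∀ b ∈ B, ∀ w ∈ W, b * w = w * b := by
      intro b hb w hw
      have hle : W ≤ Subgroup.centralizer (B : Set (M ⧸ Q)) := sup_le (fun a ha =>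
        Subgroup.mem_centralizer_iff.mpr fun c hc => congrArg Subtype.val (hAbel.1.is_comm.comm (⟨c, hBA hc⟩ : Ab) ⟨a, ha⟩)) inf_le_right
      exact Subgroup.mem_centralizer_iff.mp (hle hw) b hb
    have hinf : A ⊓ Op = A ⊓ B.comap π := by
      refine le_antisymm ?_ ?_
      · rintro a ⟨ha, ⟨o, ho, hoa⟩⟩
        refine ⟨ha, ?_⟩
        by_contra haB
        have haAb : π a ∈ Ab := ⟨a, ha, rfl⟩
        apply hy
        have hcy : ∀ u ∈ Ab, π y * u = u * π y := by
          have hc : Commute (π y) (π a) := by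
            have hyo : (⟨y, Subgroup.map_subtype_le _ hyR⟩ : ↥(L y)) * o * (⟨y, Subgroup.map_subtype_le _ hyR⟩)⁻¹ * o⁻¹ ∈ Cfsg.pCore p ↥(L y) :=
              Subgroup.mul_mem _ (Subgroup.Normal.conj_mem inferInstance o ho _) (Subgroup.inv_mem _ ho)
            have hoa' : (o : M) = a := hoa
            obtain ⟨j, hj⟩ := Cores.isPGroup_pCore ⟨_, hyo⟩
            have hj' : (y * a * y⁻¹ * a⁻¹) ^ p ^ j = 1 := by
              have := congrArg (fun z : ↥(Cfsg.pCore p ↥(L y)) => ((z : ↥(L y)) : M)) hj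
              simpa [hoa'] using this
            obtain ⟨hd, -⟩ := hcR y hyP a ha
            have h1 : π (y * a * y⁻¹ * a⁻¹) = 1 := orderOf_eq_one_iff.mp (Nat.eq_one_of_dvd_coprimes
              (Nat.Coprime.pow_right j (hDcop _ hd)) dvd_rfl (orderOf_dvd_of_pow_eq_one (by rw [← map_pow, hj', map_one])))
            rw [map_mul, map_mul, map_mul, map_inv, map_inv, mul_inv_eq_one, mul_inv_eq_iff_eq_mul] at h1
            exact h1
          have hle : Ab ≤ Subgroup.centralizer ({π y} : Set (M ⧸ Q)) := by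
            have h1 : B ⊔ Subgroup.zpowers (π a) = Ab := by
              refine Subgroup.eq_of_le_of_card_ge (sup_le hBA (Subgroup.zpowers_le.mpr haAb)) ?_
              rw [Offender.card_sup_zpowers hAbel hBA haAb haB]
              have h2 := Subgroup.relIndex_mul_relIndex (⊥ : Subgroup (M ⧸ Q)) B Ab bot_le hBA
              rw [Subgroup.relIndex_bot_left, Subgroup.relIndex_bot_left, hBidx, mul_comm] at h2
              exact h2.ge
            rw [← h1]
            refine sup_le (fun b hb => Subgroup.mem_centralizer_singleton_iff.mpr ?_) (Subgroup.zpowers_le.mpr (Subgroup.mem_centralizer_singleton_iff.mpr hc.eq.symm))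
            exact hBW b hb _ (Subgroup.mem_sup_right hyP)
          exact fun u hu => (Subgroup.mem_centralizer_singleton_iff.mp (hle hu)).symm
        refine Subgroup.eq_of_le_of_card_ge ?_ ?_
        · rintro _ ⟨u, hu, rfl⟩
          show π y * u * (π y)⁻¹ ∈ Ab
          rw [hcy u hu, mul_inv_cancel_right]; exact hu
        · exact (Nat.card_congr ((Ab.equivMapOfInjective (MulAut.conj (π y)).toMonoidHom (MulAut.conj (π y)).injective).toEquiv)).le
      · rintro a ⟨ha, haB⟩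
        refine ⟨ha, ?_⟩
        haveI : ((B.comap π).subgroupOf (L y)).Normal := by
          refine ⟨fun u hu g => ?_⟩
          show π ((g : M) * u * (g : M)⁻¹) ∈ B
          have hu' : π (u : M) ∈ B := hu
          rw [map_mul, map_mul, map_inv, ← hBW _ hu' _ (hLW y hyP ⟨g, g.2, rfl⟩), mul_inv_cancel_right]
          exact hu'
        have hker : IsPGroup p π.ker := by rw [hπ, QuotientGroup.ker_mk']; exact hQp
        have hBp : IsPGroup p (B.comap π) :=
          IsPGroup.comap_of_ker_isPGroup ((Cfsg.Agent.Components.Hyperplane.isPGroup hAbel).to_le hBA) π hker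
        exact ⟨⟨a, Subgroup.mem_sup_left ha⟩, Cores.le_pCore (N := (B.comap π).subgroupOf (L y)) hBp.comap_subtype haB, rfl⟩
  · show (A ⊓ Op).relIndex A = p
    rw [hinf, Subgroup.inf_relIndex_left, Subgroup.relIndex_comap]
    exact hBidx
  · show ⁅A ⊓ Op, L y⁆ ≤ Q
    rw [hinf, Subgroup.commutator_le]
    rintro a ⟨-, haB⟩ g hg
    rw [← QuotientGroup.eq_one_iff]
    show π ⁅a, g⁆ = 1
    rw [map_commutatorElement, commutatorElement_eq_one_iff_mul_comm]
    exact hBW _ haB _ (hLW y hyP ⟨g, hg, rfl⟩)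

end Cfsg.Agent.S3754
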