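import Cfsg.Statements.S3007
import Cfsg.Agent.Lib.CharP.ChermakDelgado

set_option autoImplicit false
open Cfsg

namespace Cfsg.Agent.S3007

open scoped Pointwise commutatorElement

theorem card_sup_le {P : Type*} [Group P] [Finite P] {H K : Subgroup P}
    (h : ((H ⊔ K : Subgroup P) : Set P) = (H : Set P) * (K : Set P)) :
    Nat.card ↥(H ⊔ K) * Nat.card ↥(H ⊓ K) ≤ Nat.card ↥H * Nat.card ↥K := by
  classical
  let f : ↥(H ⊔ K) × ↥(H ⊓ K) → ↥H × ↥K := fun x =>
    have hx : (x.1 : P) ∈ (H : Set P) * (K : Set P) := h ▸ x.1.2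
    (⟨hx.choose * (x.2 : P), mul_mem hx.choose_spec.1 x.2.2.1⟩,
      ⟨(x.2 : P)⁻¹ * hx.choose_spec.2.choose,
        mul_mem (inv_mem x.2.2.2) hx.choose_spec.2.choose_spec.1⟩)
  rw [← Nat.card_prod, ← Nat.card_prod]
  refine Nat.card_le_card_of_injective f ?_
  rintro ⟨⟨x, hx⟩, ⟨u, hu⟩⟩ ⟨⟨y, hy⟩, ⟨v, hv⟩⟩ he
  simp only [f, Prod.mk.injEq, Subtype.mk.injEq] at he
  obtain ⟨e1, e2⟩ := he
  have hxs : x ∈ (H : Set P) * (K : Set P) := h ▸ hx
  have hys : y ∈ (H : Set P) * (K : Set P) := h ▸ hy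
  have hxe : hxs.choose * hxs.choose_spec.2.choose = x := hxs.choose_spec.2.choose_spec.2
  have hye : hys.choose * hys.choose_spec.2.choose = y := hys.choose_spec.2.choose_spec.2
  have hxy : x = y := by
    calc x = (hxs.choose * u) * (u⁻¹ * hxs.choose_spec.2.choose) := by
          conv_lhs => rw [← hxe]
          group
      _ = (hys.choose * v) * (v⁻¹ * hys.choose_spec.2.choose) := by rw [e1, e2]
      _ = y := by
          conv_rhs => rw [← hye]
          group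
  subst hxy
  simp only [mul_left_cancel_iff] at e1
  subst e1
  rfl

theorem key {P : Type*} [Group P] [Finite P] (Q R : Subgroup P)
    (hQ : Cfsg.IsMinimalCentrallyLarge Q) (hR : Cfsg.IsMinimalCentrallyLarge R) :
    (Q ⊓ R) ⊔ Subgroup.centralizer (Q : Set P) = Q ∧
      ((Q ⊓ R) ⊓ Subgroup.centralizer (Q : Set P) =
          (Q ⊓ R) ⊓ Subgroup.centralizer ((Q ⊓ R : Subgroup P) : Set P) ∧
        (Q : Set P) = ((Q ⊓ R : Subgroup P) : Set P) *
          (Subgroup.centralizer (Q : Set P) : Set P)) := by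
  obtain ⟨hQl, hQc⟩ := CharP.isCentrallyLarge_iff.1 hQ.1
  obtain ⟨hRl, hRc⟩ := CharP.isCentrallyLarge_iff.1 hR.1
  obtain ⟨-, hX, -, hCX, -⟩ := CharP.isCentralizerLarge_sup_inf hQl hRl
  obtain ⟨hTl, -, hset, -, -⟩ :=
    CharP.isCentralizerLarge_sup_inf hX (CharP.IsCentralizerLarge.centralizer hQl)
  set CQ := Subgroup.centralizer (Q : Set P)
  set CR := Subgroup.centralizer (R : Set P)
  have hT : Cfsg.IsCentrallyLarge ((Q ⊓ R) ⊔ CQ) := by
    refine CharP.isCentrallyLarge_iff.2 ⟨hTl, ?_⟩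
    rw [CharP.centralizer_sup_eq, hCX, CharP.IsCentralizerLarge.centralizer_centralizer hQl]
    have h := (CharP.isCentralizerLarge_sup_inf (CharP.IsCentralizerLarge.centralizer hQl)
      (CharP.IsCentralizerLarge.centralizer hRl)).2.2.1
    rintro x ⟨hx, hxQ⟩
    obtain ⟨a, ha, b, hb, rfl⟩ := CharP.exists_mul_of_card_eq h hx
    have hbQ : b ∈ Q := by
      have := Q.mul_mem (Q.inv_mem (hQc ha)) hxQ
      simpa using this
    exact mul_mem (Subgroup.mem_sup_right ha) (Subgroup.mem_sup_left ⟨hbQ, hRc hb⟩)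
  have he := hQ.2 _ (sup_le inf_le_left hQc) hT
  refine ⟨he, le_antisymm (inf_le_inf_left _
    (Subgroup.centralizer_le (SetLike.coe_subset_coe.2 inf_le_left))) ?_, ?_⟩
  · refine le_inf inf_le_left ?_
    rw [Subgroup.le_centralizer_iff]
    conv_lhs => rw [← he]
    refine sup_le ((Subgroup.le_centralizer_iff.1 inf_le_right)) ?_
    exact Subgroup.centralizer_le (SetLike.coe_subset_coe.2 (inf_le_left.trans inf_le_left))
  · rw [← CharP.coe_sup_eq_mul_of_card hset, he]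

theorem derived_eq {P : Type*} [Group P] [Finite P] {Q R : Subgroup P}
    (hQ : Cfsg.IsMinimalCentrallyLarge Q) (hR : Cfsg.IsMinimalCentrallyLarge R) :
    ⁅Q, Q⁆ = ⁅R, R⁆ := by
  have h : ∀ Q R : Subgroup P, Cfsg.IsMinimalCentrallyLarge Q →
      Cfsg.IsMinimalCentrallyLarge R → ⁅Q, Q⁆ = ⁅Q ⊓ R, Q ⊓ R⁆ := by
    intro Q R hQ hR
    refine le_antisymm ?_ (Subgroup.commutator_mono inf_le_left inf_le_left)
    refine Subgroup.commutator_le.2 fun a ha b hb => ?_
    obtain ⟨he, -, hset⟩ := key Q R hQ hR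
    obtain ⟨x, hx, c, hc, rfl⟩ := hset.le ha
    obtain ⟨y, hy, d, hd, rfl⟩ := hset.le hb
    have e : ⁅x * c, y * d⁆ = ⁅x, y⁆ := by
      have h1 : c * y = y * c := (hc y hy.1).symm
      have h2 : d * x = x * d := (hd x hx.1).symm
      have h3 : c * d = d * c := (hc d ((CharP.isCentrallyLarge_iff.1 hQ.1).2 hd)).symm
      rw [commutatorElement_mul_left_eq_conj_mul, commutatorElement_mul_right_eq_mul_conj,
        commutatorElement_mul_right_eq_mul_conj]
      have a1 : ⁅c, y⁆ = 1 := commutatorElement_eq_one_iff_mul_comm.2 h1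
      have a2 : ⁅x, d⁆ = 1 := commutatorElement_eq_one_iff_mul_comm.2 h2.symm
      have a3 : ⁅c, d⁆ = 1 := commutatorElement_eq_one_iff_mul_comm.2 h3
      simp [a1, a2, a3]
    rw [e]
    exact Subgroup.commutator_mem_commutator hx hy
  rw [h Q R hQ hR, h R Q hR hQ, inf_comm]

/-- Let P be a finite p-group and Q, R minimal centrally large subgroups of P (centrally large: |Q|·|Z(Q)| maximal among subgroups of P; minimal among such under inclusion). Then Q = (Q ∩ R)·Z(Q), the derived subgroups [Q, Q] and [R, R] coincide, |Q| = |R| and |Z(Q)| = |Z(R)|; and if Q is abelian then the minimal centrally large subgroups of P are exactly the abelian subgroups of P of largest order. -/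
theorem result {p : ℕ} [Fact p.Prime] (P : Type*) [Group P] [Finite P] (hP : IsPGroup p P) (Q R : Subgroup P) (hQ : Cfsg.IsMinimalCentrallyLarge Q) (hR : Cfsg.IsMinimalCentrallyLarge R) : (Q ⊓ R) ⊔ (Q ⊓ Subgroup.centralizer (Q : Set P)) = Q ∧ ⁅Q, Q⁆ = ⁅R, R⁆ ∧ Nat.card ↥Q = Nat.card ↥R ∧ Nat.card ↥(Q ⊓ Subgroup.centralizer (Q : Set P)) = Nat.card ↥(R ⊓ Subgroup.centralizer (R : Set P)) ∧ (IsMulCommutative ↥Q → ∀ X : Subgroup P, Cfsg.IsMinimalCentrallyLarge X ↔ X ∈ Cfsg.maxAbelianSubgroups P) := by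
  obtain ⟨hQl, hQc⟩ := CharP.isCentrallyLarge_iff.1 hQ.1
  obtain ⟨hRl, hRc⟩ := CharP.isCentrallyLarge_iff.1 hR.1
  rw [inf_eq_right.2 hQc, inf_eq_right.2 hRc]
  obtain ⟨h1, h2⟩ := key Q R hQ hR
  obtain ⟨h1', h2'⟩ := key R Q hR hQ
  rw [inf_comm R Q] at h1' h2'
  have hXM : ∀ Z : Subgroup P, Cfsg.IsCentralizerLarge Z →
      Nat.card ↥Z * Nat.card ↥(Subgroup.centralizer (Z : Set P)) =
        Cfsg.maxCentralizerProduct P := fun _ h => h
  set CQ := Subgroup.centralizer (Q : Set P)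
  set CR := Subgroup.centralizer (R : Set P)
  set X := Q ⊓ R
  set ZX := X ⊓ Subgroup.centralizer (X : Set P)
  have hsz : ∀ (T C : Subgroup P), X ⊔ C = T → X ⊓ C = ZX →
      ((T : Set P) = (X : Set P) * (C : Set P)) →
      Nat.card ↥T * Nat.card ↥ZX = Nat.card ↥X * Nat.card ↥C := by
    intro T C hT hZ hset
    rw [← hT, ← hZ]
    refine le_antisymm ?_ (CharP.card_mul_le_card_sup_mul_card_inf X C)
    exact card_sup_le (hT.symm ▸ hset)
  have eQ := hsz Q CQ h1 h2.1 h2.2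
  have eR := hsz R CR h1' h2'.1 h2'.2
  have hcC : Nat.card ↥CQ = Nat.card ↥CR := by
    have e : Nat.card ↥CQ * Nat.card ↥CQ * Nat.card ↥X =
        Nat.card ↥CR * Nat.card ↥CR * Nat.card ↥X := by
      calc _ = Nat.card ↥CQ * (Nat.card ↥X * Nat.card ↥CQ) := by ring
        _ = Nat.card ↥Q * Nat.card ↥CQ * Nat.card ↥ZX := by rw [← eQ]; ring
        _ = Nat.card ↥R * Nat.card ↥CR * Nat.card ↥ZX := by rw [hXM Q hQl, hXM R hRl]
        _ = Nat.card ↥CR * (Nat.card ↥X * Nat.card ↥CR) := by rw [← eR]; ring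
        _ = _ := by ring
    exact Nat.mul_self_inj.1 (Nat.eq_of_mul_eq_mul_right Nat.card_pos e)
  have hcQ : Nat.card ↥Q = Nat.card ↥R :=
    Nat.eq_of_mul_eq_mul_right (Nat.card_pos (α := ↥CQ))
      (by rw [hXM Q hQl, hcC, hXM R hRl])
  refine ⟨h1, derived_eq hQ hR, hcQ, hcC, fun hQab Y => ?_⟩
  have hCQ : CQ = Q := le_antisymm hQc (Subgroup.le_centralizer Q)
  have hmaxQ : Q ∈ Cfsg.maxAbelianSubgroups P := by
    refine ⟨hQab, fun B hB => Nat.mul_self_le_mul_self_iff.1 ?_⟩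
    calc Nat.card ↥B * Nat.card ↥B ≤ Nat.card ↥B * Nat.card ↥(Subgroup.centralizer (B : Set P)) :=
          Nat.mul_le_mul_left _ (Subgroup.card_le_of_le
            (haveI := hB; Subgroup.le_centralizer B))
      _ ≤ _ := CharP.card_mul_centralizer_le B
      _ = _ := by rw [← hXM Q hQl]; rw [show Subgroup.centralizer (Q : Set P) = Q from hCQ]
  have hM : Cfsg.maxCentralizerProduct P = Nat.card ↥Q * Nat.card ↥Q := by
    rw [← hXM Q hQl]; rw [show Subgroup.centralizer (Q : Set P) = Q from hCQ]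
  constructor
  · intro hY
    have hYab : IsMulCommutative ↥Y := by
      rw [← Subgroup.commutator_self_eq_bot_iff, derived_eq hY hQ, Subgroup.commutator_self_eq_bot_iff]
      exact hQab
    haveI := hYab
    refine ⟨hYab, fun B hB => (hmaxQ.2 B hB).trans (le_of_eq (Nat.mul_self_inj.1 ?_))⟩
    obtain ⟨hYl, hYc⟩ := CharP.isCentrallyLarge_iff.1 hY.1
    rw [← hM, ← hXM Y hYl, le_antisymm hYc (Subgroup.le_centralizer Y)]
  · intro hY
    haveI : IsMulCommutative ↥Y := hY.1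
    have hcard : Nat.card ↥Y = Nat.card ↥Q :=
      le_antisymm (hmaxQ.2 Y hY.1) (hY.2 Q hQab)
    have hYl : Cfsg.IsCentrallyLarge Y := CharP.isCentrallyLarge_iff.2
      ⟨CharP.isCentralizerLarge_of_le (by rw [CharP.centralizer_eq_of_maxAbelian hY, hcard, hM]),
        (CharP.centralizer_eq_of_maxAbelian hY).le⟩
    refine ⟨hYl, fun Y' hle hY' => ?_⟩
    obtain ⟨hY'l, hY'c⟩ := CharP.isCentrallyLarge_iff.1 hY'
    refine Subgroup.eq_of_le_of_card_ge hle (Nat.mul_self_le_mul_self_iff.1 ?_)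
    rw [hcard, ← hM, ← hXM Y' hY'l]
    exact Nat.mul_le_mul_left _ (Subgroup.card_le_of_le hY'c)

end Cfsg.Agent.S3007
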