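import Cfsg.Statements.S2769
import Cfsg.Agent.Lib.CharP.PushingUpZJ

set_option autoImplicit false
open Cfsg

namespace Cfsg.Agent.S2769

/-- Let G be a finite group and p a prime with C_G(O_p(G)) ≤ O_p(G), S a Sylow p-subgroup lying in exactly one maximal subgroup of G, and G/K ≅ PSL₂(p^n) for some normal K and n ≥ 1. Let J(S) be generated by the abelian subgroups of S of largest order. If [Z(J(S)), S] ≠ 1, then either [Z(J(S)), S] ∩ Z(S) is normal in G or C_S(Z(J(S))) is normal in G. -/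
theorem result {G : Type*} [Group G] [Finite G] {p : ℕ} [Fact p.Prime] (S : Sylow p G) (hE₁ : Subgroup.centralizer (Cfsg.pCore p G : Set G) ≤ Cfsg.pCore p G) (hE₂ : ∃! M : Subgroup G, IsCoatom M ∧ (S : Subgroup G) ≤ M) (K : Subgroup G) [K.Normal] (F : Type) [Field F] [Fintype F] (n : ℕ) (hn : 1 ≤ n) (hF : Fintype.card F = p ^ n) (hE₃ : Nonempty (G ⧸ K ≃* Matrix.ProjectiveSpecialLinearGroup (Fin 2) F)) (h : ⁅(Cfsg.centerThompsonAOf (S : Subgroup G)), (S : Subgroup G)⁆ ≠ ⊥) : (⁅(Cfsg.centerThompsonAOf (S : Subgroup G)), (S : Subgroup G)⁆ ⊓ ((S : Subgroup G) ⊓ Subgroup.centralizer ((S : Subgroup G) : Set G))).Normal ∨ (((S : Subgroup G) ⊓ Subgroup.centralizer (Cfsg.centerThompsonAOf (S : Subgroup G) : Set G))).Normal := by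
  open Cfsg.Agent.CharP in
  open scoped commutatorElement in
  have hE := PushingUpZJ.isPushingUp hE₁ hE₂ K F hn hF hE₃
  by_cases hCS : Subgroup.centralizer (PushingUpCL.omegaCore p G : Set G) ⊔ (S : Subgroup G) = ⊤
  · exact Or.inl (PushingUpZJ.normal_of_central fun z hz => PushingUpCL.central_of_sup hE hCS z hz.2)
  by_cases hall : ∀ A ∈ Cfsg.Agent.PLocal.MaxAbelian.family 0 (S : Subgroup G), A ≤ Cfsg.pCore p G
  · exact Or.inr (PushingUpZJ.jt_normal hE hCS hall)
  push Not at hall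
  obtain ⟨A, hA, hAP⟩ := hall
  obtain ⟨a, haA, haP⟩ := Set.not_subset.mp hAP
  left
  have hle : ⁅Cfsg.centerThompsonAOf (S : Subgroup G), (S : Subgroup G)⁆ ≤
      Subgroup.centralizer (Subgroup.normalClosure (A : Set G) : Set G) := by
    refine Subgroup.commutator_le.mpr fun w hw s hs => ?_
    obtain ⟨v, c, rfl, hv, hc⟩ := PushingUpZJ.decomposition hE hCS hA hAP hw
    have hvs : ⁅v, s⁆ = 1 := commutatorElement_eq_one_iff_mul_comm.2 (Subgroup.mem_centralizer_iff.1 hv s hs).symm
    rw [commutatorElement_mul_left_eq_conj_mul, hvs, mul_one]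
    refine Subgroup.Normal.conj_mem inferInstance _ ?_ v
    rw [commutatorElement_def, mul_assoc c s, mul_assoc c]
    exact mul_mem hc (Subgroup.Normal.conj_mem inferInstance _ (inv_mem hc) s)
  refine PushingUpZJ.normal_of_central fun z hz => PushingUpZJ.central_of_centralizes hE
    (N := Subgroup.normalClosure (A : Set G)) (hA.1 haA) (Subgroup.subset_normalClosure haA) haP hz.2.2 (hle hz.1)

end Cfsg.Agent.S2769
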