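import Cfsg.Statements.S2770
import Cfsg.Agent.Lib.CharP.PushingUpZJ

set_option autoImplicit false
open Cfsg

namespace Cfsg.Agent.S2770

/-- Let G be a finite group and p a prime with C_G(O_p(G)) ≤ O_p(G), S a Sylow p-subgroup lying in exactly one maximal subgroup of G, and G/K ≅ PSL₂(p^n) for some normal K and n ≥ 1. If Z(S) is not elementary abelian, then either ℧¹(Z(S)) (the subgroup generated by the p-th powers of the elements of Z(S)) is normal in G or C_S(Z(J(S))) is normal in G, J(S) being generated by the abelian subgroups of S of largest order. -/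
theorem result {G : Type*} [Group G] [Finite G] {p : ℕ} [Fact p.Prime] (S : Sylow p G) (hE₁ : Subgroup.centralizer (Cfsg.pCore p G : Set G) ≤ Cfsg.pCore p G) (hE₂ : ∃! M : Subgroup G, IsCoatom M ∧ (S : Subgroup G) ≤ M) (K : Subgroup G) [K.Normal] (F : Type) [Field F] [Fintype F] (n : ℕ) (hn : 1 ≤ n) (hF : Fintype.card F = p ^ n) (hE₃ : Nonempty (G ⧸ K ≃* Matrix.ProjectiveSpecialLinearGroup (Fin 2) F)) (h : ¬ Cfsg.IsElementaryAbelian p ((S : Subgroup G) ⊓ Subgroup.centralizer ((S : Subgroup G) : Set G))) : (Cfsg.powerClosure p 1 ((S : Subgroup G) ⊓ Subgroup.centralizer ((S : Subgroup G) : Set G))).Normal ∨ (((S : Subgroup G) ⊓ Subgroup.centralizer (Cfsg.centerThompsonAOf (S : Subgroup G) : Set G))).Normal := by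
  open Cfsg.Agent.CharP in
  have hE := PushingUpZJ.isPushingUp hE₁ hE₂ K F hn hF hE₃
  have hcentral : (∀ x ∈ (S : Subgroup G) ⊓ Subgroup.centralizer ((S : Subgroup G) : Set G),
      x ^ p ∈ Subgroup.center G) →
      (Cfsg.powerClosure p 1 ((S : Subgroup G) ⊓ Subgroup.centralizer ((S : Subgroup G) : Set G))).Normal := by
    intro hc
    refine PushingUpZJ.normal_of_central fun z hz g => ?_
    have hle : Cfsg.powerClosure p 1 ((S : Subgroup G) ⊓ Subgroup.centralizer ((S : Subgroup G) : Set G)) ≤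
        Subgroup.center G := (Subgroup.closure_le _).2 (by
      rintro _ ⟨x, hx, rfl⟩
      rw [pow_one]
      exact hc x hx)
    exact Subgroup.mem_center_iff.1 (hle hz) g
  by_cases hCS : Subgroup.centralizer (PushingUpCL.omegaCore p G : Set G) ⊔ (S : Subgroup G) = ⊤
  · exact Or.inl (hcentral fun x hx => Subgroup.mem_center_iff.2
      (PushingUpCL.central_of_sup hE hCS _ (pow_mem hx p)))
  by_cases hall : ∀ A ∈ Cfsg.Agent.PLocal.MaxAbelian.family 0 (S : Subgroup G), A ≤ Cfsg.pCore p G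
  · exact Or.inr (PushingUpZJ.jt_normal hE hCS hall)
  push Not at hall
  obtain ⟨A, hA, hAP⟩ := hall
  obtain ⟨a, haA, haP⟩ := Set.not_subset.mp hAP
  obtain ⟨hZP, hPS⟩ := PushingUpCL.center_le_pCore hE
  set P := Cfsg.pCore p G
  set Y := P ⊓ Subgroup.centralizer (P : Set G)
  have hcov := PushingUpZJ.cover hE hCS hA hAP (Y := Y) inf_le_left
    (inf_le_right.trans (Subgroup.centralizer_le (SetLike.coe_subset_coe.2 inf_le_left)))
    (inf_le_right.trans (Subgroup.centralizer_le (SetLike.coe_subset_coe.2 inf_le_right)))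
    (fun v hv => ⟨hv.1, hv.2.1⟩)
  left
  refine hcentral fun z hz => Subgroup.mem_center_iff.2 (PushingUpZJ.central_of_centralizes hE
    (N := Subgroup.normalClosure (A : Set G)) (hA.1 haA) (Subgroup.subset_normalClosure haA) haP
    (pow_mem hz.2 p) ?_)
  have hzY : z ∈ Y := ⟨hZP hz, Subgroup.centralizer_le (SetLike.coe_subset_coe.2 hPS) hz.2⟩
  have key : ∀ y ∈ Y, y ^ p ∈ A := by
    intro y hy
    rw [← hcov, Subgroup.mem_sup_of_normal_left] at hy
    obtain ⟨v, hv, u, hu, rfl⟩ := hy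
    rw [(show Commute v u from (Subgroup.mem_centralizer_iff.1 hv.2.1 u hu.1.1).symm).mul_pow, hv.2.2,
      one_mul]
    exact pow_mem hu.2 p
  intro x hx
  have hle : Subgroup.normalClosure (A : Set G) ≤ Subgroup.centralizer ({z ^ p} : Set G) := by
    refine (Subgroup.closure_le _).mpr fun x hx => ?_
    obtain ⟨b, hb, h, rfl⟩ := by simpa [Group.mem_conjugatesOfSet_iff, isConj_iff] using hx
    refine Subgroup.mem_centralizer_singleton_iff.mpr ?_
    have h1 := key (h⁻¹ * z * h⁻¹⁻¹) (Subgroup.Normal.conj_mem inferInstance z hzY h⁻¹)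
    rw [conj_pow, inv_inv] at h1
    have h2 := hA.2.1.1 b hb _ h1
    calc h * b * h⁻¹ * z ^ p = h * (b * (h⁻¹ * z ^ p * h)) * h⁻¹ := by group
      _ = h * (h⁻¹ * z ^ p * h * b) * h⁻¹ := by rw [h2]
      _ = z ^ p * (h * b * h⁻¹) := by group
  exact Subgroup.mem_centralizer_singleton_iff.mp (hle hx)

end Cfsg.Agent.S2770
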