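import Cfsg.Statements.S2990
import Cfsg.Agent.Lib.CharP.PushingUpMCL

set_option autoImplicit false
open Cfsg

namespace Cfsg.Agent.S2990

open Cfsg.Agent.CharP in
theorem char_derived {S : Type*} [Group S] [Finite S] {p : ℕ} [Fact p.Prime] (hS : IsPGroup p S)
    {Q : Subgroup S} (hQ : Cfsg.IsMinimalCentrallyLarge Q) : (⁅Q, Q⁆).Characteristic := by
  refine Subgroup.characteristic_iff_map_eq.2 fun φ => ?_
  rw [Subgroup.map_commutator]
  refine S3007.derived_eq ?_ hQ
  exact PushingUpCL.minimal_of_equiv (fun Q R hQ hR => (S3007.result S hS Q R hQ hR).2.2.1) hQ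
    (Q.equivMapOfInjective _ φ.injective)

/-- Let G be a finite group and S a Sylow p-subgroup of G in the basic pushing-up situation (G ≠ 1, C_G(O_p(G)) ≤ O_p(G), S lies in a unique maximal subgroup of G, and some quotient of G is isomorphic to PSL₂ over a field of order a power of p), and suppose that S centralizes Z(J(S)), where J(S) is generated by the abelian subgroups of S of largest order (that is, J̃(S) = C_S(Z(J(S))) = S). Call a subgroup R of S centrally large if |R|·|Z(R)| is as large as possible among subgroups of S, let Q be a minimal centrally large subgroup of S and let S_MCL be the subgroup generated by all minimal centrally large subgroups of S. Then the derived subgroup [Q, Q] is characteristic in S; Z(S) ∩ [Q, Q] or S_MCL is normal in G; and if [Q, Q] = 1, the minimal centrally large subgroups of S are exactly the abelian subgroups of S of largest order. -/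
theorem result {G : Type*} [Group G] [Finite G] {p : ℕ} [Fact p.Prime] (S : Subgroup G) (hE : Cfsg.IsPushingUpSituation p S) (hJ : S ≤ Subgroup.centralizer (Cfsg.centerThompsonAOf S : Set G)) (Q : Subgroup ↥S) (hQ : Cfsg.IsMinimalCentrallyLarge Q) : (⁅Q, Q⁆).Characteristic ∧ (((S ⊓ Subgroup.centralizer (S : Set G)) ⊓ (⁅Q, Q⁆).map S.subtype).Normal ∨ ((Cfsg.minimalCentrallyLargeJoin ↥S).map S.subtype).Normal) ∧ (⁅Q, Q⁆ = ⊥ → ∀ R : Subgroup ↥S, Cfsg.IsMinimalCentrallyLarge R ↔ R ∈ Cfsg.maxAbelianSubgroups ↥S) := by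
  open Cfsg.Agent.CharP in
  have hS := PushingUpMCL.isPGroup hE
  refine ⟨char_derived hS hQ, ?_, fun h =>
    (S3007.result ↥S hS Q Q hQ hQ).2.2.2.2 (Subgroup.commutator_self_eq_bot_iff.1 h)⟩
  obtain ⟨hZP, hPS⟩ := PushingUpCL.center_le_pCore hE
  rcases PushingUpCL.dichotomy hE with hz | ⟨hinf, hoff⟩
  · exact Or.inl (PushingUpMCL.normal_of_central fun z hz' => hz z hz'.1)
  obtain ⟨hVP, hPV, -⟩ := PushingUpMCL.subgroupOf_le_centralizer (G := G) (p := p) (S := S)
  set P := (Cfsg.pCore p G).subgroupOf S with hPdef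
  set V := (PushingUpCL.omegaCore p G).subgroupOf S
  by_cases hall : ∀ R : Subgroup S, Cfsg.IsMinimalCentrallyLarge R → R ≤ P
  · right
    refine PushingUpMCL.normal_of_forall_conj (D := (Cfsg.minimalCentrallyLargeJoin ↥S).map S.subtype)
      (A := fun R : {R : Subgroup S // Cfsg.IsMinimalCentrallyLarge R} => R.1.map S.subtype) ?_ ?_
    · rw [Cfsg.minimalCentrallyLargeJoin, sSup_eq_iSup', Subgroup.map_iSup]
      rfl
    · rintro ⟨R, hR⟩ g
      obtain ⟨R', hR', he, -⟩ := PushingUpMCL.exists_conj hE hR (hall R hR) g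
      show (R.map S.subtype).map _ ≤ _
      rw [Subgroup.map_map, ← he]
      exact Subgroup.map_mono (le_sSup hR')
  left
  push Not at hall
  obtain ⟨Q1, hQ1, hQ1P⟩ := hall
  have h07 : ∀ Q R : Subgroup S, Cfsg.IsMinimalCentrallyLarge Q → Cfsg.IsMinimalCentrallyLarge R →
      (Q ⊓ R) ⊔ (Q ⊓ Subgroup.centralizer (Q : Set S)) = Q ∧ Nat.card Q = Nat.card R :=
    fun Q R hQ hR => ⟨(S3007.result S hS Q R hQ hR).1, (S3007.result S hS Q R hQ hR).2.2.1⟩
  have hoff' := PushingUpMCL.hoff_subgroupOf hE hoff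
  obtain ⟨hXm, -, -⟩ := PushingUpCL.exchange_minimal hS hVP hPV hoff' h07 hQ
  obtain ⟨-, hQ1eq, -⟩ := PushingUpCL.exchange_minimal hS hVP hPV hoff' h07 hQ1
  set D := (⁅Q, Q⁆).map S.subtype with hD
  haveI hDn : D.Normal := by
    refine PushingUpMCL.normal_of_forall_conj (A := fun _ : Unit => D) (iSup_const).symm fun _ g => ?_
    obtain ⟨X', hX', he, -⟩ := PushingUpMCL.exists_conj hE hXm (sup_le inf_le_right hVP) g
    show D.map _ ≤ D
    have e : D.map (MulAut.conj g).toMonoidHom = D := by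
      rw [hD, ← S3007.derived_eq hXm hQ, Subgroup.map_map, Subgroup.map_commutator, ← he,
        ← Subgroup.map_commutator, S3007.derived_eq hX' hXm]
    exact e.le
  obtain ⟨z, hz, hzP⟩ : ∃ z ∈ Subgroup.centralizer (Q1 : Set S), z ∉ P := by
    by_contra h
    push Not at h
    exact hQ1P (hQ1eq ▸ sup_le inf_le_right h)
  have htop : Subgroup.centralizer (D : Set G) ⊔ S = ⊤ := by
    by_contra h
    refine hzP (hinf _ inferInstance h ⟨?_, z.2⟩)
    rintro _ ⟨d, hd, rfl⟩
    rw [SetLike.mem_coe, ← S3007.derived_eq hQ1 hQ] at hd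
    exact congrArg Subtype.val (Subgroup.mem_centralizer_iff.1 hz d (Subgroup.commutator_le_self Q1 hd))
  refine PushingUpMCL.normal_of_central fun x hx g => ?_
  obtain ⟨-, ⟨P0, hP0⟩, -⟩ := id hE
  have h : Subgroup.centralizer ({x} : Set G) = ⊤ := PushingUpCL.eq_top_of_forall P0
    (fun y hy => Subgroup.mem_centralizer_singleton_iff.mpr
      (Subgroup.mem_centralizer_iff.mp hx.1.2 y (hP0 ▸ hy))) fun y hy =>
    Subgroup.mem_centralizer_singleton_iff.mpr
      (Subgroup.mem_centralizer_iff.mp (PushingUpCL.mem_of_sup_eq_top hS htop hy) x hx.2).symm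
  exact Subgroup.mem_centralizer_singleton_iff.mp (h.symm ▸ Subgroup.mem_top g)

end Cfsg.Agent.S2990
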