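import Cfsg.Statements.S0798
import Cfsg.Agent.Lib.Forms.SpecialOrth
-- import your own Cfsg.Agent.* helpers here

set_option autoImplicit false
open Cfsg

namespace Cfsg.Agent.S0798

open Matrix Cfsg.Agent.Forms.QuadStd Cfsg.Agent.Forms.Reflections Cfsg.Agent.Forms.Spinor
  Cfsg.Agent.Forms.SpecialOrth

section

variable {F : Type*} [Field F] [Fintype F] {n : ℕ} {Q : QuadraticForm F (Fin n → F)}

local notation "B" => QuadraticMap.polar Q

theorem polar_self2 (x : Fin n → F) : B x x = 2 * Q x := by simp [QuadraticMap.polar_self]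

theorem val_comb {a u : Fin n → F} (hau : B a u = 0) (x y : F) :
    Q (x • a + y • u) = Q a * x ^ 2 + Q u * y ^ 2 := by
  rw [QuadraticMap.map_add Q, QuadraticMap.map_smul, QuadraticMap.map_smul,
    QuadraticMap.polar_smul_left, QuadraticMap.polar_smul_right, hau, smul_eq_mul, smul_eq_mul]
  simp
  ring

theorem refl_coord {a u : Fin n → F} (hau : B a u = 0) {z : Fin n → F} (hza : B a z = 0)
    (hzu : B u z = 0) (x y X Y : F) :
    act (reflect Q (x • a + y • u)) (X • a + Y • u + z) =
      (X - (Q a * x ^ 2 + Q u * y ^ 2)⁻¹ * (2 * Q a * x * X + 2 * Q u * y * Y) * x) • a +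
      (Y - (Q a * x ^ 2 + Q u * y ^ 2)⁻¹ * (2 * Q a * x * X + 2 * Q u * y * Y) * y) • u + z := by
  rw [act_reflect, val_comb hau]
  have hk : B (x • a + y • u) (X • a + Y • u + z) = 2 * Q a * x * X + 2 * Q u * y * Y := by
    simp only [QuadraticMap.polar_add_left, QuadraticMap.polar_add_right,
      QuadraticMap.polar_smul_left, QuadraticMap.polar_smul_right, QuadraticMap.polar_comm _ u a,
      hau, hza, hzu, polar_self2, smul_eq_mul]
    ring
  rw [hk]
  module

theorem three_comm (h2 : (2 : F) ≠ 0) {a u : Fin n → F} (hau : B a u = 0) (ha : Q a ≠ 0)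
    (hu : Q u ≠ 0) {x y x' y' : F} (hN : Q a * x ^ 2 + Q u * y ^ 2 ≠ 0)
    (hN' : Q a * x' ^ 2 + Q u * y' ^ 2 ≠ 0) :
    reflect Q (x • a + y • u) * reflect Q a * reflect Q (x' • a + y' • u) =
      reflect Q (x' • a + y' • u) * reflect Q a * reflect Q (x • a + y • u) := by
  refine iso_ext fun z => ?_
  rw [← act_apply, ← act_apply]
  obtain ⟨X, Y, w, hwa, hwu, rfl⟩ : ∃ X Y w, B a w = 0 ∧ B u w = 0 ∧ z = X • a + Y • u + w := by
    refine ⟨B a z / (2 * Q a), B u z / (2 * Q u),
      z - (B a z / (2 * Q a)) • a - (B u z / (2 * Q u)) • u, ?_, ?_, by module⟩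
    · simp only [QuadraticMap.polar_sub_right, QuadraticMap.polar_smul_right, hau, polar_self2,
        smul_eq_mul]
      field_simp
      ring
    · simp only [QuadraticMap.polar_sub_right, QuadraticMap.polar_smul_right,
        QuadraticMap.polar_comm _ u a, hau, polar_self2, smul_eq_mul]
      field_simp
      ring
  have hra : ∀ X Y : F, act (reflect Q a) (X • a + Y • u + w) = (-X) • a + Y • u + w := by
    intro X Y
    have := refl_coord hau hwa hwu 1 0 X Y
    rw [one_smul, zero_smul, add_zero] at this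
    rw [this]
    congr 2
    · congr 1
      rw [show Q a * 1 ^ 2 + Q u * 0 ^ 2 = Q a by ring]
      field_simp
      ring
    · congr 1
      ring
  simp only [act_mul, refl_coord hau hwa hwu, hra]
  congr 2
  · congr 1
    field_simp
    ring
  · congr 1
    field_simp
    ring

variable (h2 : (2 : F) ≠ 0) {c d : F} (hc : c ≠ 0) (hd : d ≠ 0)
variable {R : Subgroup (Cfsg.isometryGroup F ⇑Q)} [hRn : R.Normal]
variable (hR : ∀ v, Q v = c → reflect Q v ∈ R)

include h2 hc hd hR in
theorem plane {a b : Fin n → F} (ha : Q a = d) (hb : Q b = d) (hne : B a b ^ 2 ≠ 4 * d ^ 2) :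
    reflect Q a * reflect Q b ∈ R := by
  set t := B a b / (2 * d) with ht
  set u := b - t • a with hu
  have hau : B a u = 0 := by
    rw [hu, QuadraticMap.polar_sub_right, QuadraticMap.polar_smul_right, polar_self2, ha, ht,
      smul_eq_mul]
    field_simp
    ring
  have hQu : 4 * d * Q u = 4 * d ^ 2 - B a b ^ 2 := by
    rw [hu, sub_eq_add_neg, ← neg_smul, QuadraticMap.map_add Q, QuadraticMap.map_smul,
      QuadraticMap.polar_smul_right, QuadraticMap.polar_comm _ b a, ha, hb, ht, smul_eq_mul,
      smul_eq_mul]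
    field_simp
    ring
  have hu0 : Q u ≠ 0 := fun h => hne (by rw [h, mul_zero] at hQu; linear_combination hQu)
  obtain ⟨x, y, hxy⟩ := Forms.Bases.exists_sq_add_sq h2 hd hu0 c
  have hbu : b = t • a + (1 : F) • u := by rw [hu]; module
  have hab : a - b = (1 - t) • a + (-1 : F) • u := by rw [hu]; module
  have hs : Q (a - b) = 2 * d - B a b := by
    rw [sub_eq_add_neg, QuadraticMap.map_add Q, QuadraticMap.map_neg, QuadraticMap.polar_neg_right,
      ha, hb]
    ring
  have hs0 : Q (a - b) ≠ 0 := fun h => hne (by rw [hs] at h; linear_combination (-2 * d - B a b) * h)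
  have hsa : act (reflect Q (a - b)) a = b := by
    rw [act_reflect, QuadraticMap.polar_sub_left, polar_self2, ha, QuadraticMap.polar_comm _ b a, ← hs,
      inv_mul_cancel₀ hs0, one_smul, sub_sub_cancel]
  have hrb : reflect Q b = reflect Q (a - b) * reflect Q a * reflect Q (a - b) := by
    conv_lhs => rw [← hsa]
    rw [← reflect_conj, inv_reflect]
  have hw : Q (x • a + y • u) = c := by rw [val_comb hau, ha]; exact hxy
  have hcomm := three_comm h2 hau (by rw [ha]; exact hd) hu0
    (x := x) (y := y) (x' := 1 - t) (y' := -1)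
    (by rw [ha, hxy]; exact hc)
    (by rw [← val_comb hau, ← hab]; exact hs0)
  rw [← hab] at hcomm
  set rw' := reflect Q (x • a + y • u)
  set ra := reflect Q a
  set rs := reflect Q (a - b)
  have hmem : rw' * ((rs * ra) * rw' * (rs * ra)⁻¹) ∈ R :=
    mul_mem (hR _ hw) (hRn.conj_mem _ (hR _ hw) _)
  have e : rw' * ((rs * ra) * rw' * (rs * ra)⁻¹) = ra * reflect Q b := by
    rw [hrb, _root_.mul_inv_rev, show ra⁻¹ = ra from inv_reflect _, show rs⁻¹ = rs from inv_reflect _,
      ← hcomm]
    simp only [← mul_assoc]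
    rw [show rw' * rw' = 1 from reflect_sq _, one_mul]
  rwa [e] at hmem

include h2 hc hd hR in
theorem two_d (hn : 2 ≤ n) (heven : Even n) (h43 : ¬ (n = 4 ∧ Fintype.card F = 3))
    (hQ : (QuadraticMap.polarBilin Q).Nondegenerate) {a b : Fin n → F} (ha : Q a = d) (hb : Q b = d) :
    reflect Q a * reflect Q b ∈ R := by
  by_cases hne : B a b ^ 2 ≠ 4 * d ^ 2
  · exact plane h2 hc hd hR ha hb hne
  push Not at hne
  set t := B a b / (2 * d) with ht
  have ht2 : t ^ 2 = 1 := by
    rw [ht, div_pow, hne]
    field_simp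
    ring
  set u := b - t • a with hu
  have hau : B a u = 0 := by
    rw [hu, QuadraticMap.polar_sub_right, QuadraticMap.polar_smul_right, polar_self2, ha, ht,
      smul_eq_mul]
    field_simp
    ring
  rcases eq_or_ne u 0 with h0 | hu0
  · have hbt : b = t • a := by rw [hu] at h0; exact sub_eq_zero.1 h0
    rw [hbt, reflect_smul a (fun h => by rw [h] at ht2; simp at ht2), reflect_sq]
    exact one_mem _
  have hQu : Q u = 0 := by
    have h4 : 4 * d * Q u = 4 * d ^ 2 - B a b ^ 2 := by
      rw [hu, sub_eq_add_neg, ← neg_smul, QuadraticMap.map_add Q, QuadraticMap.map_smul,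
        QuadraticMap.polar_smul_right, QuadraticMap.polar_comm _ b a, ha, hb, ht, smul_eq_mul,
        smul_eq_mul]
      field_simp
      ring
    have h4' : (4 : F) * d ≠ 0 := mul_ne_zero (by
      rw [show (4 : F) = 2 * 2 by norm_num]; exact mul_ne_zero h2 h2) hd
    rw [hne, sub_self] at h4
    exact (mul_eq_zero.1 h4).resolve_left h4'
  -- a partner of `u` orthogonal to `a`
  obtain ⟨z, hz⟩ : ∃ z, B u z ≠ 0 := by
    by_contra hh
    push Not at hh
    exact hu0 (hQ.1 u hh)
  set z' := (B u z)⁻¹ • (z - (B a z / (2 * d)) • a) with hz'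
  have huz' : B u z' = 1 := by
    rw [hz', QuadraticMap.polar_smul_right, QuadraticMap.polar_sub_right,
      QuadraticMap.polar_smul_right, QuadraticMap.polar_comm _ u a, hau, smul_zero, sub_zero,
      smul_eq_mul, inv_mul_cancel₀ hz]
  have haz' : B a z' = 0 := by
    rw [hz', QuadraticMap.polar_smul_right, QuadraticMap.polar_sub_right,
      QuadraticMap.polar_smul_right, polar_self2, ha, smul_eq_mul, smul_eq_mul]
    field_simp
    ring
  clear_value z'
  set v := z' - Q z' • u with hv
  have huu : B u u = 0 := by rw [polar_self2, hQu, mul_zero]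
  have huv : B u v = 1 := by
    rw [hv, QuadraticMap.polar_sub_right, huz', QuadraticMap.polar_smul_right, huu]
    simp
  have hav : B a v = 0 := by
    rw [hv, QuadraticMap.polar_sub_right, haz', QuadraticMap.polar_smul_right, hau]
    simp
  have hvv : Q v = 0 := by
    rw [hv, sub_eq_add_neg, ← neg_smul, QuadraticMap.map_add Q, QuadraticMap.map_smul,
      QuadraticMap.polar_smul_right, QuadraticMap.polar_comm _ z' u, huz', hQu, smul_eq_mul,
      smul_eq_mul]
    ring
  have hbexp : b = t • a + u := by rw [hu]; module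
  suffices he : ∃ e, Q e = d ∧ B a e = 0 ∧ B b e ^ 2 ≠ 4 * d ^ 2 by
    obtain ⟨e, he, hae, hbe⟩ := he
    have h1 := plane h2 hc hd hR ha he (by
      rw [hae]; intro h
      have : (4 : F) * d ^ 2 ≠ 0 := mul_ne_zero (by
        rw [show (4 : F) = 2 * 2 by norm_num]; exact mul_ne_zero h2 h2) (pow_ne_zero _ hd)
      exact this (by rw [← h]; ring))
    have h3 := plane h2 hc hd hR he hb (by rwa [QuadraticMap.polar_comm])
    have h4 := mul_mem h1 h3
    rwa [mul_assoc, ← mul_assoc (reflect Q e), reflect_sq, one_mul] at h4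
  have h4d : (4 : F) * d ^ 2 ≠ 0 := mul_ne_zero (by
    rw [show (4 : F) = 2 * 2 by norm_num]; exact mul_ne_zero h2 h2) (pow_ne_zero _ hd)
  rcases Nat.lt_or_ge n 5 with hn5 | hn5
  · -- small dimension: the field has at least five elements
    have hcard : Fintype.card F ≠ 3 := by
      intro h3
      rcases heven with ⟨k, hk⟩
      have : n = 2 := by
        have : n ≠ 4 := fun h => h43 ⟨h, h3⟩
        omega
      let L : (Fin 3 → F) →ₗ[F] (Fin n → F) :=
        Fintype.linearCombination F ![a, u, v]
      have hL : Function.Injective L := by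
        rw [injective_iff_map_eq_zero]
        intro x hx
        simp only [L, Fintype.linearCombination_apply, Fin.sum_univ_three, Matrix.cons_val_zero,
          Matrix.cons_val_one, Matrix.cons_val] at hx
        have q1 := congrArg (fun w => B a w) hx
        have q2 := congrArg (fun w => B u w) hx
        have q3 := congrArg (fun w => B v w) hx
        simp only [QuadraticMap.polar_add_right, QuadraticMap.polar_smul_right,
          QuadraticMap.polar_zero_right, QuadraticMap.polar_comm _ u a, QuadraticMap.polar_comm _ v a,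
          QuadraticMap.polar_comm _ v u, hau, hav, huu, huv, polar_self2, ha, hvv, smul_eq_mul,
          mul_zero, zero_add, add_zero, mul_one] at q1 q2 q3
        have x0 : x 0 = 0 := (mul_eq_zero.1 q1).resolve_right (mul_ne_zero h2 hd)
        funext i
        fin_cases i <;> assumption
      have h9 := LinearMap.finrank_le_finrank_of_injective hL
      simp at h9
      omega
    obtain ⟨μ, hμ0, hμ⟩ : ∃ μ : F, μ ≠ 0 ∧ μ ^ 2 ≠ 4 * d ^ 2 := by
      classical
      by_contra hh
      push Not at hh
      have hsub : Finset.univ ⊆ ({0, 2 * d, -(2 * d)} : Finset F) := fun μ _ => by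
        rcases eq_or_ne μ 0 with h | h
        · simp [h]
        · have : μ ^ 2 = (2 * d) ^ 2 := by rw [hh μ h]; ring
          rcases sq_eq_sq_iff_eq_or_eq_neg.1 this with h' | h' <;> simp [h']
      have h5 := (Finset.card_le_card hsub).trans Finset.card_le_three
      rw [Finset.card_univ] at h5
      have h6 := Fintype.one_lt_card (α := F)
      have h7 := two_ne_card (Q := Q) hQ h2
      omega
    refine ⟨(d / μ) • u + μ • v, ?_, ?_, ?_⟩
    · rw [QuadraticMap.map_add Q, QuadraticMap.map_smul, QuadraticMap.map_smul, hQu, hvv,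
        QuadraticMap.polar_smul_left, QuadraticMap.polar_smul_right, huv]
      simp only [smul_eq_mul, mul_zero, zero_add, mul_one]
      exact div_mul_cancel₀ d hμ0
    · rw [QuadraticMap.polar_add_right, QuadraticMap.polar_smul_right, QuadraticMap.polar_smul_right,
        hau, hav]
      simp
    · rw [hbexp]
      simp only [QuadraticMap.polar_add_left, QuadraticMap.polar_smul_left,
        QuadraticMap.polar_add_right, QuadraticMap.polar_smul_right, hau, hav, huu, huv, smul_eq_mul,
        mul_zero, zero_add, add_zero, mul_one]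
      exact hμ
  · -- large dimension
    let W : Submodule F (Fin n → F) :=
      LinearMap.ker (polB Q a) ⊓ (LinearMap.ker (polB Q u) ⊓ LinearMap.ker (polB Q v))
    have hmem : ∀ x, x ∈ W ↔ B a x = 0 ∧ B u x = 0 ∧ B v x = 0 := fun x => by
      simp [W, polB_apply]
    have hWn : Forms.Bases.NondegOn (polB Q) W := by
      intro x hx h
      obtain ⟨h1, h2', h3⟩ := (hmem x).1 hx
      refine hQ.1 x fun s => ?_
      show B x s = 0
      set p := s - (B a s / (2 * d)) • a - B v s • u - B u s • v with hp
      have hpW : p ∈ W := by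
        rw [hmem]
        simp only [hp, QuadraticMap.polar_sub_right, QuadraticMap.polar_smul_right, hau, hav, huv, huu,
          QuadraticMap.polar_comm _ u a, QuadraticMap.polar_comm _ v a, QuadraticMap.polar_comm _ v u,
          polar_self2, ha, hvv, smul_eq_mul]
        refine ⟨?_, by ring, by ring⟩
        field_simp
        ring
      have h5 := h p hpW
      rw [polB_apply, hp, QuadraticMap.polar_sub_right, QuadraticMap.polar_sub_right,
        QuadraticMap.polar_sub_right, QuadraticMap.polar_smul_right, QuadraticMap.polar_smul_right,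
        QuadraticMap.polar_smul_right, QuadraticMap.polar_comm _ x a, QuadraticMap.polar_comm _ x u,
        QuadraticMap.polar_comm _ x v, h1, h2', h3] at h5
      simpa using h5
    have hfin : 2 ≤ Module.finrank F W := by
      have hk : ∀ w, n ≤ Module.finrank F (LinearMap.ker (polB Q w)) + 1 := by
        intro w
        have e1 := LinearMap.finrank_range_add_finrank_ker (polB Q w)
        have e2 := Submodule.finrank_le (LinearMap.range (polB Q w))
        rw [Module.finrank_self] at e2
        rw [Module.finrank_fin_fun] at e1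
        omega
      have e3 := Submodule.finrank_sup_add_finrank_inf_eq (LinearMap.ker (polB Q u))
        (LinearMap.ker (polB Q v))
      have e4 := Submodule.finrank_le (LinearMap.ker (polB Q u) ⊔ LinearMap.ker (polB Q v))
      have e5 := Submodule.finrank_sup_add_finrank_inf_eq (LinearMap.ker (polB Q a))
        (LinearMap.ker (polB Q u) ⊓ LinearMap.ker (polB Q v))
      have e6 := Submodule.finrank_le (LinearMap.ker (polB Q a) ⊔
        (LinearMap.ker (polB Q u) ⊓ LinearMap.ker (polB Q v)))
      rw [Module.finrank_fin_fun] at e4 e6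
      have := hk a
      have := hk u
      have := hk v
      simp only [W]
      omega
    obtain ⟨e, he, hee, -⟩ := Forms.Bases.exists_symm_unit h2 (polB Q)
      ⟨fun u v => QuadraticMap.polar_comm _ u v⟩ W hWn hfin (2 * d) (mul_ne_zero h2 hd)
    rw [polB_apply, polar_self2] at hee
    obtain ⟨h1, h2', -⟩ := (hmem e).1 he
    refine ⟨e, mul_left_cancel₀ h2 hee, h1, ?_⟩
    rw [hbexp, QuadraticMap.polar_add_left, QuadraticMap.polar_smul_left, h1, h2']
    intro h
    exact h4d (by rw [← h]; simp)

omit hRn in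
theorem index_two (h2 : (2 : F) ≠ 0) (hn : 2 ≤ n) (heven : Even n)
    (h43 : ¬ (n = 4 ∧ Fintype.card F = 3)) (hQ : (QuadraticMap.polarBilin Q).Nondegenerate)
    {c : F} (hc : c ≠ 0) :
    (Subgroup.closure {g : ↥(Cfsg.isometryGroup F ⇑Q) | ∃ (v : Fin n → F) (t : F), t ≠ 0 ∧
      Q v = c * t ^ 2 ∧ ((g : Matrix.GeneralLinearGroup (Fin n) F) : Matrix (Fin n) (Fin n) F) =
        Cfsg.reflectionMatrix ⇑Q v}).index = 2 := by
  classical
  set S := {g : ↥(Cfsg.isometryGroup F ⇑Q) | ∃ (v : Fin n → F) (t : F), t ≠ 0 ∧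
      Q v = c * t ^ 2 ∧ ((g : Matrix.GeneralLinearGroup (Fin n) F) : Matrix (Fin n) (Fin n) F) =
        Cfsg.reflectionMatrix ⇑Q v}
  set R := Subgroup.closure S
  have hS : ∀ g ∈ S, ∃ v t, t ≠ 0 ∧ Q v = c * t ^ 2 ∧ g = reflect Q v := by
    rintro g ⟨v, t, ht, hv, hg⟩
    exact ⟨v, t, ht, hv, Subtype.ext (Units.ext hg)⟩
  have hR : ∀ v, Q v = c → reflect Q v ∈ R := fun v hv =>
    Subgroup.subset_closure ⟨v, 1, one_ne_zero, by rw [hv]; ring, rfl⟩
  have hRn' : R.Normal := by
    refine ⟨fun x hx g => ?_⟩
    suffices R ≤ R.comap (MulAut.conj g).toMonoidHom from this hx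
    refine (Subgroup.closure_le _).2 fun y hy => ?_
    obtain ⟨v, t, ht, hv, rfl⟩ := hS y hy
    show g * reflect Q v * g⁻¹ ∈ R
    rw [reflect_conj]
    exact Subgroup.subset_closure ⟨act g v, t, ht, by rw [act_map, hv], rfl⟩
  obtain ⟨α, hα⟩ := FiniteField.exists_nonsquare (F := F) (fun h => h2 (by
    have : CharP F 2 := h ▸ ringChar.charP F
    exact CharTwo.two_eq_zero))
  have hα0 : α ≠ 0 := fun h => hα (h ▸ ⟨0, by simp⟩)
  set d := c * α with hdd
  have hd : d ≠ 0 := mul_ne_zero hc hα0
  obtain ⟨a, ha⟩ := exists_value hQ h2 (by rw [Fintype.card_fin]; exact hn) hd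
  have hcls : ∀ v, Q v ≠ 0 → reflect Q v ∈ R ∨ reflect Q v * reflect Q a ∈ R := by
    intro v hv
    by_cases hsq : IsSquare (Q v / c)
    · left
      obtain ⟨t, ht⟩ := hsq
      refine Subgroup.subset_closure ⟨v, t, ?_, ?_, rfl⟩
      · rintro rfl
        exact div_ne_zero hv hc (by rw [ht, mul_zero])
      · rw [pow_two, ← ht, mul_div_cancel₀ _ hc]
    · right
      obtain ⟨t, ht⟩ := Forms.Bases.isSquare_mul_of_not hsq hα
      have ht0 : t ≠ 0 := by
        rintro rfl
        exact mul_ne_zero (div_ne_zero hv hc) hα0 (by rw [ht, mul_zero])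
      have hb : Q ((α / t) • v) = d := by
        rw [QuadraticMap.map_smul, smul_eq_mul, hdd]
        field_simp at ht ⊢
        linear_combination ht
      rw [← reflect_smul (Q := Q) v (div_ne_zero hα0 ht0)]
      exact two_d h2 hc hd hR hn heven h43 hQ hb ha
  let π := QuotientGroup.mk' R
  have hπa : π (reflect Q a) * π (reflect Q a) = 1 := by rw [← map_mul, reflect_sq, map_one]
  have hall : ∀ g, π g = 1 ∨ π g = π (reflect Q a) := by
    have hle : refGroup Q ≤ (Subgroup.zpowers (π (reflect Q a))).comap π := by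
      refine (Subgroup.closure_le _).2 ?_
      rintro _ ⟨v, hv, rfl⟩
      show π (reflect Q v) ∈ Subgroup.zpowers _
      rcases hcls v hv with h | h
      · rw [show π (reflect Q v) = 1 from (QuotientGroup.eq_one_iff _).2 h]
        exact one_mem _
      · have h1 : π (reflect Q v) * π (reflect Q a) = 1 := by
          rw [← map_mul]; exact (QuotientGroup.eq_one_iff _).2 h
        rw [eq_inv_of_mul_eq_one_left h1]
        exact inv_mem (Subgroup.mem_zpowers _)
    intro g
    obtain ⟨i, hi⟩ := Subgroup.mem_zpowers_iff.1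
      (hle (refGroup_eq_top hQ (Or.inl (two_ne_card hQ h2)) ▸ Subgroup.mem_top g) :)
    rcases Int.even_or_odd i with ⟨j, rfl⟩ | ⟨j, rfl⟩
    · left; rw [← hi, ← two_mul, _root_.zpow_mul, zpow_two, hπa, _root_.one_zpow]
    · right; rw [← hi, _root_.zpow_add, _root_.zpow_mul, zpow_two, hπa, _root_.one_zpow, one_mul, zpow_one]
  have ha' : reflect Q a ∉ R := by
    intro hmem
    have hne : R ≠ ⊤ := by
      intro htop
      have hle : R ≤ (Subgroup.zpowers ((-1, if IsSquare c then -1 else 1) : ℤˣ × ℤˣ)).comap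
          (pairHom hQ h2) := by
        refine (Subgroup.closure_le _).2 fun y hy => ?_
        obtain ⟨v, t, ht, hv, rfl⟩ := hS y hy
        have hv0 : Q v ≠ 0 := by rw [hv]; exact mul_ne_zero hc (pow_ne_zero _ ht)
        have hiff : IsSquare (Q v) ↔ IsSquare c := by
          rw [hv]
          constructor
          · rintro ⟨r, hr⟩
            exact ⟨r / t, by field_simp at hr ⊢; linear_combination hr⟩
          · rintro ⟨r, hr⟩
            exact ⟨r * t, by rw [hr]; ring⟩
        show pairHom hQ h2 (reflect Q v) ∈ Subgroup.zpowers _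
        rw [pairHom_reflect hQ h2 hv0, if_congr hiff rfl rfl]
        exact Subgroup.mem_zpowers _
      have hsub : (⊤ : Subgroup (ℤˣ × ℤˣ)) ≤
          Subgroup.zpowers ((-1, if IsSquare c then -1 else 1) : ℤˣ × ℤˣ) := by
        intro x _
        obtain ⟨g, rfl⟩ := pairHom_surjective hQ h2 (by rw [Fintype.card_fin]; exact hn) x
        exact hle (htop ▸ Subgroup.mem_top g)
      have h1 := hsub (Subgroup.mem_top ((1 : ℤˣ), (-1 : ℤˣ)))
      obtain ⟨i, hi⟩ := Subgroup.mem_zpowers_iff.1 h1
      rw [Prod.ext_iff] at hi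
      simp only [Prod.pow_fst, Prod.pow_snd] at hi
      rcases Int.even_or_odd i with he | ho
      · obtain ⟨j, rfl⟩ := he
        have hs : (if IsSquare c then (-1 : ℤˣ) else 1) ^ (j + j) = 1 := by
          rw [← two_mul, _root_.zpow_mul, zpow_two, Int.units_mul_self, _root_.one_zpow]
        rw [hs] at hi
        exact absurd hi.2 (by decide)
      · obtain ⟨j, rfl⟩ := ho
        rw [_root_.zpow_add, _root_.zpow_mul, zpow_two, Int.units_mul_self, _root_.one_zpow, one_mul, zpow_one] at hi
        exact absurd hi.1 (by decide)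
    apply hne
    rw [eq_top_iff]
    intro g _
    rcases hall g with h | h
    · exact (QuotientGroup.eq_one_iff g).1 h
    · refine (QuotientGroup.eq_one_iff g).1 ?_
      exact h.trans ((QuotientGroup.eq_one_iff _).2 hmem)
  rw [Subgroup.index_eq_two_iff]
  refine ⟨reflect Q a, fun b => ?_⟩
  rcases hall b with h | h
  · refine Or.inr ⟨(QuotientGroup.eq_one_iff b).1 h, fun h' => ha' ?_⟩
    have := R.mul_mem (R.inv_mem ((QuotientGroup.eq_one_iff b).1 h)) h'
    rwa [inv_mul_cancel_left] at this
  · refine Or.inl ⟨?_, fun h' => ha' ?_⟩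
    · refine (QuotientGroup.eq_one_iff _).1 ?_
      show π (b * reflect Q a) = 1
      rw [map_mul, h, hπa]
    · refine (QuotientGroup.eq_one_iff _).1 ?_
      show π (reflect Q a) = 1
      rw [← h]; exact (QuotientGroup.eq_one_iff _).2 h'

end



/-- For q odd, n ≥ 2 even, Q with non-degenerate polar form (n, |F|) ≠ (4, 3), and a fixed c ≠ 0: the subgroup of the isometry group generated by the reflections r_v with Q(v) ∈ c·(F^×)² has index 2. -/
theorem result {F : Type*} [Field F] [Fintype F] (h2 : (2 : F) ≠ 0) {n : ℕ} (hn : 2 ≤ n) (heven : Even n) (Q : QuadraticForm F (Fin n → F)) (hQ : (QuadraticMap.polarBilin Q).Nondegenerate) (h43 : ¬ (n = 4 ∧ Fintype.card F = 3)) (c : F) (hc : c ≠ 0) : (Subgroup.closure {g : ↥(Cfsg.isometryGroup F ⇑Q) | ∃ (v : Fin n → F) (t : F), t ≠ 0 ∧ Q v = c * t ^ 2 ∧ ((g : Matrix.GeneralLinearGroup (Fin n) F) : Matrix (Fin n) (Fin n) F) = Cfsg.reflectionMatrix ⇑Q v}).index = 2 := by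
  exact index_two h2 hn heven h43 hQ hc

end Cfsg.Agent.S0798
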