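import Cfsg.Statements.S4700
import Cfsg.Agent.Lib.PrimeBlock.Artin.Reduce

set_option autoImplicit false
set_option linter.style.haveILetI false
open Cfsg

namespace Cfsg.Agent.S4700

/-- The Sylow numbers of a quotient divide those of the group. -/
theorem card_sylow_map_dvd {G K : Type*} [Group G] [Finite G] [Group K] [Finite K] {p : ℕ}
    [Fact p.Prime] {f : G →* K} (hf : Function.Surjective f) (P : Sylow p G) :
    Nat.card (Sylow p K) ∣ Nat.card (Sylow p G) := by
  rw [(P.mapSurjective hf).card_eq_index_normalizer, P.card_eq_index_normalizer]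
  refine (Subgroup.index_dvd_of_le ?_).trans (Subgroup.index_map_dvd _ hf)
  exact Subgroup.le_normalizer_map f

/-- Let G be a finite perfect group and p a prime such that a Sylow p-subgroup of G has order p, and write the number of Sylow p-subgroups as 1 + np. Let H = O_p'(G). Then either p > 3 and G/H is isomorphic to PSL(2, p); or p = 2^m + 1 > 3 and G/H is isomorphic to SL(2, 2^m); or n = (hup + u^2 + u + h)/(u + 1) for some positive integers h and u. -/
theorem result {G : Type*} [Group G] [Finite G] (hperf : commutator G = ⊤) (p : ℕ) [Fact p.Prime] (P : Sylow p G) (hP : Nat.card P = p) (n : ℕ) (hn : Nat.card (Sylow p G) = 1 + n * p) : (∃ (F : Type) (_ : Field F) (_ : Fintype F), Fintype.card F = p ∧ 3 < p ∧ Nonempty (G ⧸ Cfsg.pPrimeCore p G ≃* Matrix.ProjectiveSpecialLinearGroup (Fin 2) F)) ∨ (∃ (m : ℕ) (F : Type) (_ : Field F) (_ : Fintype F), Fintype.card F = 2 ^ m ∧ p = 2 ^ m + 1 ∧ 3 < p ∧ Nonempty (G ⧸ Cfsg.pPrimeCore p G ≃* Matrix.SpecialLinearGroup (Fin 2) F)) ∨ (∃ h u :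 ℕ, 0 < h ∧ 0 < u ∧ n * (u + 1) = h * u * p + u ^ 2 + u + h) := by
  classical
  have hp : p.Prime := Fact.out
  by_cases h3 : Cfsg.Agent.PrimeBlock.Brauer.Third p n
  · obtain ⟨h, u, hh, hu, he⟩ := h3
    exact Or.inr (Or.inr ⟨h, u, hh, hu, he⟩)
  have hsurj : Function.Surjective (QuotientGroup.mk' (Cfsg.pPrimeCore p G)) :=
    QuotientGroup.mk'_surjective _
  have hperf' : commutator (G ⧸ Cfsg.pPrimeCore p G) = ⊤ := by
    rw [commutator_def, ← Subgroup.map_top_of_surjective _ hsurj, ← Subgroup.map_commutator,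
      ← commutator_def, hperf]
  set P' := P.mapSurjective hsurj with hP'
  have hd : Nat.card (P' : Subgroup (G ⧸ Cfsg.pPrimeCore p G)) ∣ p := by
    rw [hP', Sylow.coe_mapSurjective]
    exact (Subgroup.card_map_dvd _ _).trans (dvd_of_eq hP)
  have hP'c : Nat.card (P' : Subgroup (G ⧸ Cfsg.pPrimeCore p G)) = p := by
    refine ((Nat.dvd_prime hp).1 hd).resolve_left fun h1 => ?_
    have hb := Subgroup.card_eq_one.1 h1
    rw [hP', Sylow.coe_mapSurjective, Subgroup.map_eq_bot_iff, QuotientGroup.ker_mk'] at hb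
    have h2 := Subgroup.card_dvd_of_le hb
    rw [hP] at h2
    exact Cfsg.Agent.Cores.pPrimeCore_not_dvd p h2
  rcases Cfsg.Agent.PrimeBlock.Artin.isSimpleGroup_and_recognize hperf'
      (Cfsg.Agent.Cores.pPrimeCore_quotient_self p) P' hP'c (r := n)
      ((card_sylow_map_dvd hsurj P).trans (by rw [hn])) h3 with h | h
  · exact Or.inl h
  · exact Or.inr (Or.inl h)

end Cfsg.Agent.S4700
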