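import Cfsg.Statements.S0556
import Cfsg.Agent.Lib.Characters.Frobenius
import Cfsg.Agent.Lib.Coprime.FixedPointFree

set_option autoImplicit false
open Cfsg

namespace Cfsg.Agent.S0556

open scoped commutatorElement Pointwise

/-- If a finite group has a maximal subgroup that is abelian, then the third term of its derived series is trivial (so the group is solvable of derived length at most three). -/
theorem result {G : Type*} [Group G] [Finite G] (A : Subgroup G) (hA : IsCoatom A) [IsMulCommutative A] : derivedSeries G 3 = ⊥ := by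
  have hcomm : ∀ a ∈ A, ∀ a' ∈ A, a * a' = a' * a := fun a ha a' ha' =>
    congrArg Subtype.val (IsMulCommutative.is_comm.comm (⟨a, ha⟩ : A) ⟨a', ha'⟩)
  -- groups with an abelian normal subgroup and abelian quotient
  have hmeta : ∀ {H : Type _} [Group H] (V : Subgroup H), (∀ x ∈ V, ∀ y ∈ V, x * y = y * x) →
      derivedSeries H 1 ≤ V → derivedSeries H 2 = ⊥ := by
    intro H _ V hV hle
    refine le_bot_iff.1 ?_
    rw [derivedSeries_succ, Subgroup.commutator_le]
    exact fun x hx y hy => Subgroup.mem_bot.2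
      (commutatorElement_eq_one_iff_mul_comm.2 (hV x (hle hx) y (hle hy)))
  by_cases hn : A.Normal
  · haveI := hn
    obtain ⟨g, hg⟩ : ∃ g, g ∉ A := by
      by_contra hcon
      push Not at hcon
      exact hA.1 (top_le_iff.1 fun g _ => hcon g)
    have hsup : A ⊔ Subgroup.zpowers g = ⊤ := hA.2 _ (lt_of_le_of_ne le_sup_left fun h =>
      hg (h ▸ Subgroup.mem_sup_right (Subgroup.mem_zpowers g)))
    set f := QuotientGroup.mk' A
    have hle : derivedSeries G 1 ≤ A := by
      rw [derivedSeries_one, commutator_def, Subgroup.commutator_le]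
      intro x _ y _
      refine (QuotientGroup.eq_one_iff _).1 (?_ : f _ = 1)
      rw [map_commutatorElement, commutatorElement_eq_one_iff_mul_comm]
      have key : ∀ x : G, f x ∈ Subgroup.zpowers (f g) := by
        intro x
        obtain ⟨a, ha, z, hz, rfl⟩ := Subgroup.mem_sup_of_normal_left.1
          (show x ∈ A ⊔ Subgroup.zpowers g by rw [hsup]; trivial)
        obtain ⟨i, rfl⟩ := Subgroup.mem_zpowers_iff.1 hz
        rw [map_mul, show f a = 1 from (QuotientGroup.eq_one_iff a).2 ha, one_mul, map_zpow]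
        exact Subgroup.zpow_mem_zpowers _ i
      obtain ⟨i, hi⟩ := Subgroup.mem_zpowers_iff.1 (key x)
      obtain ⟨j, hj⟩ := Subgroup.mem_zpowers_iff.1 (key y)
      rw [← hi, ← hj, ← zpow_add, ← zpow_add, add_comm]
    exact le_bot_iff.1 ((derivedSeries_antitone G (by norm_num : 2 ≤ 3)).trans
      (hmeta A hcomm hle).le)
  have hNA : Subgroup.normalizer (A : Set G) = A :=
    (hA.le_iff.1 Subgroup.le_normalizer).resolve_left fun h =>
      hn (Subgroup.normalizer_eq_top_iff.1 h)
  set Z := Subgroup.center G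
  have hZA : Z ≤ A := (Subgroup.center_le_normalizer _).trans hNA.le
  have hint : ∀ g : G, g ∉ A → ∀ x ∈ A, g⁻¹ * x * g ∈ A → x ∈ Z := by
    intro g hg x hx hx'
    have hgA : ¬ MulAut.conj g • A ≤ A := fun hle => hg (hNA ▸ Coprime.conj_smul_eq_self_iff.1
      (Subgroup.eq_of_le_of_card_ge hle (Coprime.card_conj_smul g A).ge))
    have hne : A < A ⊔ MulAut.conj g • A :=
      lt_of_le_not_ge le_sup_left fun h => hgA ((le_sup_right : MulAut.conj g • A ≤ _).trans h)
    have hsup : A ⊔ MulAut.conj g • A = ⊤ := hA.2 _ hne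
    have hle : A ⊔ MulAut.conj g • A ≤ Subgroup.centralizer {x} := by
      refine sup_le (fun a ha => Subgroup.mem_centralizer_singleton_iff.2 (hcomm a ha x hx)) ?_
      intro w hw
      rw [Coprime.mem_conj_smul] at hw
      refine Subgroup.mem_centralizer_singleton_iff.2 ?_
      calc w * x = g * ((g⁻¹ * w * g) * (g⁻¹ * x * g)) * g⁻¹ := by group
        _ = g * ((g⁻¹ * x * g) * (g⁻¹ * w * g)) * g⁻¹ := by rw [hcomm _ hw _ hx']
        _ = x * w := by group
    rw [Subgroup.mem_center_iff]
    exact fun y => Subgroup.mem_centralizer_singleton_iff.1 (hle (show y ∈ A ⊔ MulAut.conj g • A by rw [hsup]; trivial))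
  set f := QuotientGroup.mk' Z
  have hfs : Function.Surjective f := QuotientGroup.mk'_surjective Z
  set A' := A.map f
  have hcomap : A'.comap f = A := by
    rw [Subgroup.comap_map_eq, QuotientGroup.ker_mk', sup_eq_left.2 hZA]
  have hfmem : ∀ g, f g ∈ A' ↔ g ∈ A := fun g => by rw [← Subgroup.mem_comap, hcomap]
  have hA' : IsCoatom A' := by
    refine ⟨fun h => hA.1 ?_, fun K hK => ?_⟩
    · rw [← hcomap, h, Subgroup.comap_top]
    · refine Subgroup.comap_injective hfs ?_
      rw [Subgroup.comap_top]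
      refine hA.2 _ (hcomap ▸ ?_)
      exact (Subgroup.comap_lt_comap_of_surjective hfs).2 hK
  have hbot : A' ≠ ⊥ := by
    intro h
    refine hn ?_
    have : A = Z := le_antisymm (fun a ha => (QuotientGroup.eq_one_iff a).1
      (Subgroup.mem_bot.1 (h ▸ (hfmem a).2 ha))) hZA
    rw [this]; infer_instance
  have hfrob : Cfsg.IsFrobeniusComplement A' := by
    refine ⟨hbot, hA'.1, fun g hg => le_bot_iff.1 ?_⟩
    obtain ⟨g, rfl⟩ := hfs g
    intro x hx
    have h1 : x ∈ A' := (Subgroup.mem_inf.1 hx).1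
    have h2 := Coprime.mem_conj_smul.1 (Subgroup.mem_inf.1 hx).2
    obtain ⟨a, ha, rfl⟩ := h1
    rw [← map_inv, ← map_mul, ← map_mul, hfmem] at h2
    exact Subgroup.mem_bot.2 ((QuotientGroup.eq_one_iff a).2
      (hint g (fun h => hg ((hfmem g).2 h)) a ha h2))
  obtain ⟨N, -, hNn, hc⟩ := Characters.frobenius_kernel_theorem hfrob
  have hAN : A' ≤ Subgroup.normalizer (N : Set (G ⧸ Z)) := by
    rw [Subgroup.normalizer_eq_top_iff.2 hNn]; exact le_top
  have hfpf : ∀ a ∈ A', a ≠ 1 → N ⊓ Subgroup.centralizer {a} = ⊥ := by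
    intro a ha ha1
    refine le_bot_iff.1 fun x hx => ?_
    have hx1 : x * a = a * x := Subgroup.mem_centralizer_singleton_iff.1 (Subgroup.mem_inf.1 hx).2
    have hxA : x ∈ A' := by
      by_contra hxA
      refine ha1 (Subgroup.mem_bot.1 ((hfrob.2.2 x hxA).le (Subgroup.mem_inf.2 ⟨ha, ?_⟩)))
      rw [Coprime.mem_conj_smul, mul_assoc, ← hx1, inv_mul_cancel_left]
      exact ha
    exact hc.disjoint.le_bot ⟨(Subgroup.mem_inf.1 hx).1, hxA⟩
  haveI : IsMulCommutative A' := Subgroup.map_isMulCommutative A f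
  have hN0 : N ≠ ⊥ := fun h => hfrob.2.1 (by simpa [h] using hc.sup_eq_top)
  obtain ⟨V, hVN, hV0, hVc, hAV⟩ := Coprime.fpf_exists_abelian hAN hfpf
    (Or.inl (Coprime.isSolvable_of_isMulCommutative A')) hN0
  have hAVtop : A' ⊔ V = ⊤ := hA'.2 _ (lt_of_le_of_ne le_sup_left fun h => hV0 (le_bot_iff.1
    ((le_inf hVN (h ▸ le_sup_right)).trans hc.disjoint.le_bot)))
  haveI hVn : V.Normal := Subgroup.normalizer_eq_top_iff.1 (top_le_iff.1
    (hAVtop ▸ sup_le hAV Subgroup.le_normalizer))
  have hle : derivedSeries (G ⧸ Z) 1 ≤ V := by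
    rw [derivedSeries_one, commutator_def, Subgroup.commutator_le]
    intro x _ y _
    obtain ⟨a, ha, v, hv, rfl⟩ := Subgroup.mem_sup_of_normal_right.1
      (show x ∈ A' ⊔ V by rw [hAVtop]; trivial)
    obtain ⟨b, hb, w, hw, rfl⟩ := Subgroup.mem_sup_of_normal_right.1
      (show y ∈ A' ⊔ V by rw [hAVtop]; trivial)
    refine (QuotientGroup.eq_one_iff _).1 (?_ : QuotientGroup.mk' V _ = 1)
    rw [map_commutatorElement, map_mul, map_mul,
      show QuotientGroup.mk' V v = 1 from (QuotientGroup.eq_one_iff v).2 hv,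
      show QuotientGroup.mk' V w = 1 from (QuotientGroup.eq_one_iff w).2 hw, mul_one, mul_one,
      ← map_commutatorElement, show ⁅a, b⁆ = 1 from commutatorElement_eq_one_iff_mul_comm.2
        (congrArg Subtype.val (IsMulCommutative.is_comm.comm (⟨a, ha⟩ : A') ⟨b, hb⟩)), map_one]
  have h2 := hmeta V (fun x hx y hy =>
    congrArg Subtype.val (IsMulCommutative.is_comm.comm (⟨x, hx⟩ : V) ⟨y, hy⟩)) hle
  have hG2 : derivedSeries G 2 ≤ Z := fun x hx => (QuotientGroup.eq_one_iff x).1
    (Subgroup.mem_bot.1 (h2 ▸ map_derivedSeries_le_derivedSeries f 2 ⟨x, hx, rfl⟩))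
  refine le_bot_iff.1 ?_
  rw [derivedSeries_succ, Subgroup.commutator_le]
  exact fun x hx y hy => Subgroup.mem_bot.2 (commutatorElement_eq_one_iff_mul_comm.2
    (Subgroup.mem_center_iff.1 (hG2 hy) x))

end Cfsg.Agent.S0556
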