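import Cfsg.Statements.S3939
import Mathlib
import Cfsg.Agent.Lib.Cores.Fitting
import Cfsg.Agent.Lib.Cores.Residual
import Cfsg.Agent.Lib.Involutions.BaerSuzuki
import Cfsg.Agent.Lib.Transfer.NormalPComplement

set_option autoImplicit false
open Cfsg
open scoped commutatorElement

namespace Cfsg.Agent.S3939


/-- elements of coprime orders commute in a finite nilpotent group -/
theorem commute_of_coprime_orders {H : Type*} [Group H] [Finite H] [Group.IsNilpotent H] {x y : H}
    (h : (orderOf x).Coprime (orderOf y)) : Commute x y := by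
  classical
  obtain ⟨e⟩ := ((Group.isNilpotent_of_finite_tfae (G := H)).out 0 4 rfl rfl).mp inferInstance
  obtain ⟨a, rfl⟩ := e.surjective x
  obtain ⟨b, rfl⟩ := e.surjective y
  rw [MulEquiv.orderOf_eq, MulEquiv.orderOf_eq] at h
  refine Commute.map ?_ e
  funext q P
  haveI : Fact (q : ℕ).Prime := ⟨Nat.prime_of_mem_primeFactors q.2⟩
  obtain ⟨i, hi⟩ := (IsPGroup.iff_orderOf.mp P.isPGroup') (a q P)
  obtain ⟨j, hj⟩ := (IsPGroup.iff_orderOf.mp P.isPGroup') (b q P)
  have hda : orderOf (a q P) ∣ orderOf a := by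
    refine orderOf_dvd_of_pow_eq_one ?_
    have := congrFun (congrFun (pow_orderOf_eq_one a) q) P
    simpa using this
  have hdb : orderOf (b q P) ∣ orderOf b := by
    refine orderOf_dvd_of_pow_eq_one ?_
    have := congrFun (congrFun (pow_orderOf_eq_one b) q) P
    simpa using this
  have hc : ((q : ℕ) ^ i).Coprime ((q : ℕ) ^ j) := hi ▸ hj ▸ h.of_dvd hda hdb
  show a q P * b q P = b q P * a q P
  rcases Nat.eq_zero_or_pos i with rfl | hi'
  · rw [pow_zero, orderOf_eq_one_iff] at hi; simp [hi]
  · rcases Nat.eq_zero_or_pos j with rfl | hj'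
    · rw [pow_zero, orderOf_eq_one_iff] at hj; simp [hj]
    · rw [Nat.coprime_pow_left_iff hi', Nat.coprime_pow_right_iff hj', Nat.coprime_self] at hc
      exact absurd hc (Fact.out : (q : ℕ).Prime).ne_one

/-- a `p`-element of a finite nilpotent group lies in the `p`-core -/
theorem mem_pCore_of_nilpotent {H : Type*} [Group H] [Finite H] [Group.IsNilpotent H] {p : ℕ} [Fact p.Prime] {x : H}
    {k : ℕ} (hk : orderOf x = p ^ k) : x ∈ Cfsg.pCore p H := by
  obtain ⟨S, hS⟩ := IsPGroup.exists_le_sylow (G := H) (P := Subgroup.zpowers x) (IsPGroup.of_card (by rw [Nat.card_zpowers, hk]))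
  haveI hSn : (S : Subgroup H).Normal :=
    ((Group.isNilpotent_of_finite_tfae (G := H)).out 0 3 rfl rfl).mp inferInstance p inferInstance S
  exact Cfsg.Agent.Cores.le_pCore S.isPGroup' (hS (Subgroup.mem_zpowers _))

theorem isPGroup_of_pElements {G : Type*} [Group G] [Finite G] {p : ℕ} [Fact p.Prime] (H : Subgroup G)
    (hH : Group.IsNilpotent H) {a b : G} (ha : a ∈ H) (hb : b ∈ H) {i j : ℕ} (hi : orderOf a = p ^ i)
    (hj : orderOf b = p ^ j) : IsPGroup p ↥(Subgroup.zpowers a ⊔ Subgroup.zpowers b) := by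
  haveI := hH
  have hO : IsPGroup p ↥((Cfsg.pCore p H).map H.subtype) := (Cfsg.Agent.Cores.pCore_isPGroup p).map _
  refine hO.to_le (sup_le ?_ ?_)
  · rw [Subgroup.zpowers_le]
    exact ⟨⟨a, ha⟩, mem_pCore_of_nilpotent (k := i) (by rw [Subgroup.orderOf_mk, hi]), rfl⟩
  · rw [Subgroup.zpowers_le]
    exact ⟨⟨b, hb⟩, mem_pCore_of_nilpotent (k := j) (by rw [Subgroup.orderOf_mk, hj]), rfl⟩

/-- an element centralising a normal supplement of a Sylow subgroup, and hypercentral in it, is hypercentral -/
theorem mem_ucs_of_centralizes {G : Type*} [Group G] (R O P : Subgroup G) [R.Normal] [O.Normal]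
    (hOP : O ≤ P) (hRP : R ⊔ P = ⊤) :
    ∀ n : ℕ, ∀ w : G, (hw : w ∈ O) → (∀ y ∈ R, y * w = w * y) →
      (⟨w, hOP hw⟩ : ↥P) ∈ Subgroup.upperCentralSeries ↥P n → w ∈ Subgroup.upperCentralSeries G n := by
  intro n
  induction n with
  | zero =>
    intro w hw _ hwn
    rw [Subgroup.upperCentralSeries_zero, Subgroup.mem_bot] at hwn ⊢
    exact congrArg Subtype.val hwn
  | succ n ihn =>
    intro w hw hwc hwn
    rw [Subgroup.mem_upperCentralSeries_succ_iff] at hwn ⊢
    intro x
    obtain ⟨a, ha, b, hb, rfl⟩ := Subgroup.mem_sup_of_normal_left.mp (hRP.symm ▸ Subgroup.mem_top x : x ∈ R ⊔ P)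
    have hwO : w * b * w⁻¹ * b⁻¹ ∈ O := by
      rw [show w * b * w⁻¹ * b⁻¹ = w * (b * w⁻¹ * b⁻¹) by group]
      exact mul_mem hw (‹O.Normal›.conj_mem _ (inv_mem hw) b)
    have hwbc : w * b * w⁻¹ * b⁻¹ ∈ Subgroup.upperCentralSeries G n := by
      refine ihn _ hwO ?_ (hwn ⟨b, hb⟩)
      intro z hz
      have hn2 : Commute (b⁻¹ * z * b) w := by
        have := hwc _ (‹R.Normal›.conj_mem z hz b⁻¹)
        rw [inv_inv] at this
        exact this
      have hn3 := hwc z hz
      calc z * (w * b * w⁻¹ * b⁻¹) = (z * w) * b * w⁻¹ * b⁻¹ := by group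
        _ = w * b * ((b⁻¹ * z * b) * w⁻¹) * b⁻¹ := by rw [hn3]; group
        _ = w * b * w⁻¹ * b⁻¹ * z := by rw [hn2.inv_right.eq]; group
    have hwa := hwc a ha
    have : w * (a * b) * w⁻¹ * (a * b)⁻¹ = a * (w * b * w⁻¹ * b⁻¹) * a⁻¹ := by
      rw [← mul_assoc w, ← hwa]; group
    rw [commutatorElement_def, this]
    exact (inferInstance : (Subgroup.upperCentralSeries G n).Normal).conj_mem _ hwbc a


/-- In a finite group G the set of elements g such that the subgroup generated by g and x is nilpotent for every x ∈ G is exactly the hypercenter of G (the last term of the upper central series). -/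
theorem result {G : Type*} [Group G] [Finite G] (g : G) :
    (∀ x : G, Group.IsNilpotent ↥(Subgroup.closure ({x, g} : Set G))) ↔ g ∈ ⨆ n : ℕ, Subgroup.upperCentralSeries G n := by
  classical
  constructor
  · intro h
    -- each prime power part of `g` lies in the hypercentre
    have hpart : ∀ (p : ℕ) [Fact p.Prime] (u : G), u ∈ Subgroup.zpowers g → (∃ k : ℕ, orderOf u = p ^ k) →
        u ∈ ⨆ n : ℕ, Subgroup.upperCentralSeries G n := by
      intro p _ u hu ⟨k, hk⟩
      have hnil : ∀ x : G, Group.IsNilpotent ↥(Subgroup.closure ({x, u} : Set G)) := by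
        intro x
        have hle : Subgroup.closure ({x, u} : Set G) ≤ Subgroup.closure ({x, g} : Set G) := by
          rw [Subgroup.closure_le]
          rintro y (rfl | rfl)
          · exact Subgroup.subset_closure (Set.mem_insert _ _)
          · obtain ⟨i, rfl⟩ := hu
            show g ^ i ∈ Subgroup.closure ({x, g} : Set G)
            have hgc : g ∈ Subgroup.closure ({x, g} : Set G) := Subgroup.subset_closure (Set.mem_insert_of_mem x (Set.mem_singleton g))
            exact Subgroup.zpow_mem (Subgroup.closure ({x, g} : Set G)) hgc i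
        exact Cfsg.Agent.Cores.isNilpotent_to_le hle (h x)
      -- `u` commutes with `p'`-elements
      have hcomm : ∀ y : G, (orderOf y).Coprime p → y * u = u * y := by
        intro y hy
        haveI := hnil y
        exact congrArg Subtype.val (commute_of_coprime_orders (H := ↥(Subgroup.closure ({y, u} : Set G)))
          (x := ⟨y, Subgroup.subset_closure (Set.mem_insert _ _)⟩)
          (y := ⟨u, Subgroup.subset_closure (Set.mem_insert_of_mem _ rfl)⟩)
          (by rw [Subgroup.orderOf_mk, Subgroup.orderOf_mk, hk]; exact Nat.Coprime.pow_right k hy)).eq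
      -- `u` lies in the `p`-core
      have huO : u ∈ Cfsg.pCore p G := by
        obtain ⟨N, hN, hNp, hle⟩ := Cfsg.Agent.Involutions.BaerSuzuki.baer_suzuki (p := p) (Subgroup.zpowers u)
          (IsPGroup.of_card (by rw [Nat.card_zpowers, hk])) (by
            intro y
            rw [MonoidHom.map_zpowers]
            refine isPGroup_of_pElements (Subgroup.closure ({y, u} : Set G)) (hnil y)
              (Subgroup.subset_closure (Set.mem_insert_of_mem _ rfl)) ?_ hk (j := k) ?_
            · exact Subgroup.mul_mem _ (Subgroup.mul_mem _ (Subgroup.subset_closure (Set.mem_insert _ _))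
                (Subgroup.subset_closure (Set.mem_insert_of_mem _ rfl))) (Subgroup.inv_mem _ (Subgroup.subset_closure (Set.mem_insert _ _)))
            · show orderOf (MulAut.conj y u) = p ^ k
              rw [MulEquiv.orderOf_eq, hk])
        haveI := hN
        exact Cfsg.Agent.Cores.le_pCore hNp (hle (Subgroup.mem_zpowers u))
      -- the normal subgroup of such elements is hypercentral
      obtain ⟨P⟩ : Nonempty (Sylow p G) := inferInstance
      have hWP : Cfsg.pCore p G ≤ (P : Subgroup G) := Cfsg.Agent.Cores.pCore_le_sylow P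
      haveI : (Cfsg.pResidual p G).Characteristic := Cfsg.Agent.Cores.pResidual_characteristic p
      haveI : Group.IsNilpotent ↥(P : Subgroup G) := P.isPGroup'.isNilpotent
      refine Subgroup.mem_iSup_of_mem (Group.nilpotencyClass ↥(P : Subgroup G))
        (mem_ucs_of_centralizes (Cfsg.pResidual p G) (Cfsg.pCore p G) (P : Subgroup G) hWP
          (Cfsg.Agent.Transfer.NormalPComplement.pResidual_sup_sylow P) _ u huO ?_ ?_)
      · intro y hy
        have : Cfsg.pResidual p G ≤ Subgroup.centralizer ({u} : Set G) :=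
          (Subgroup.closure_le _).mpr fun z hz => Subgroup.mem_centralizer_singleton_iff.mpr (hcomm z hz)
        exact Subgroup.mem_centralizer_singleton_iff.mp (this hy)
      · rw [Subgroup.upperCentralSeries_nilpotencyClass]; exact Subgroup.mem_top _
    -- assemble `g` from its parts
    have hall : ∀ n : ℕ, ∀ u ∈ Subgroup.zpowers g, orderOf u = n → u ∈ ⨆ n : ℕ, Subgroup.upperCentralSeries G n := by
      intro n
      induction n using Nat.recOnPosPrimePosCoprime with
      | prime_pow p k hp hk =>
        intro u hu hn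
        haveI : Fact p.Prime := ⟨hp⟩
        exact hpart p u hu ⟨k, hn⟩
      | zero => intro u _ hn; exact absurd hn (orderOf_pos u).ne'
      | one => intro u _ hn; rw [orderOf_eq_one_iff.mp hn]; exact one_mem _
      | coprime a b ha hb hab iha ihb =>
        intro u hu hn
        have h1 : orderOf (u ^ b) = a := by
          rw [orderOf_pow_of_dvd (by omega) (hn ▸ dvd_mul_left b a), hn, Nat.mul_div_cancel _ (by omega)]
        have h2 : orderOf (u ^ a) = b := by
          rw [orderOf_pow_of_dvd (by omega) (hn ▸ dvd_mul_right a b), hn, Nat.mul_div_cancel_left _ (by omega)]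
        have m1 := iha _ (pow_mem hu b) h1
        have m2 := ihb _ (pow_mem hu a) h2
        have hbez := Nat.gcd_eq_gcd_ab a b
        rw [Nat.Coprime.gcd_eq_one hab] at hbez
        have : u = (u ^ a) ^ Nat.gcdA a b * (u ^ b) ^ Nat.gcdB a b := by
          rw [← zpow_natCast, ← zpow_natCast, ← zpow_mul, ← zpow_mul, ← zpow_add, ← hbez]; simp
        rw [this]
        exact mul_mem (zpow_mem m2 _) (zpow_mem m1 _)
    exact hall _ g (Subgroup.mem_zpowers g) rfl
  · intro hg x
    obtain ⟨n, hn⟩ := (Subgroup.mem_iSup_of_directed (Monotone.directed_le (Subgroup.upperCentralSeries_mono G))).mp hg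
    set H := Subgroup.closure ({x, g} : Set G)
    have hres : ∀ j : ℕ, ∀ y : H, (y : G) ∈ Subgroup.upperCentralSeries G j → y ∈ Subgroup.upperCentralSeries H j := by
      intro j
      induction j with
      | zero =>
        intro y hy
        rw [Subgroup.upperCentralSeries_zero, Subgroup.mem_bot] at hy ⊢
        exact Subtype.ext hy
      | succ j ihj =>
        intro y hy
        rw [Subgroup.mem_upperCentralSeries_succ_iff] at hy ⊢
        exact fun z => ihj _ (hy z)
    set f := QuotientGroup.mk' (Subgroup.upperCentralSeries H n)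
    have hxH : x ∈ H := Subgroup.subset_closure (Set.mem_insert _ _)
    have hgH : g ∈ H := Subgroup.subset_closure (Set.mem_insert_of_mem _ rfl)
    have hcyc : ∀ y : H, ∃ k : ℤ, f y = f ⟨x, hxH⟩ ^ k := by
      suffices hS : H ≤ ((Subgroup.zpowers (f ⟨x, hxH⟩)).comap f).map H.subtype by
        intro y
        obtain ⟨z, hz, hze⟩ := hS y.2
        obtain ⟨k, hk⟩ := hz
        exact ⟨k, by rw [← Subtype.ext hze]; exact hk.symm⟩
      refine (Subgroup.closure_le _).mpr ?_
      rintro y (rfl | rfl)
      · exact ⟨⟨y, hxH⟩, Subgroup.mem_zpowers _, rfl⟩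
      · refine ⟨⟨y, hgH⟩, ?_, rfl⟩
        show f ⟨y, hgH⟩ ∈ Subgroup.zpowers (f ⟨x, hxH⟩)
        rw [show f ⟨y, hgH⟩ = 1 from (QuotientGroup.eq_one_iff _).mpr (hres n ⟨y, hgH⟩ hn)]
        exact one_mem _
    refine ⟨n + 1, eq_top_iff.mpr fun y _ => ?_⟩
    rw [Subgroup.mem_upperCentralSeries_succ_iff]
    intro z
    rw [← QuotientGroup.eq_one_iff, ← QuotientGroup.mk'_apply, commutatorElement_def, map_mul, map_mul, map_mul, map_inv, map_inv]
    obtain ⟨a, ha⟩ := hcyc y
    obtain ⟨b, hb⟩ := hcyc z
    change f y * f z * (f y)⁻¹ * (f z)⁻¹ = 1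
    rw [ha, hb]; group

end Cfsg.Agent.S3939
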