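import Cfsg.Statements.S3919
import Mathlib
import Cfsg.Agent.InvChar.Taussky
import Cfsg.Agent.Lib.PGroups.UniqueSubgroup
import Cfsg.Agent.Lib.Coprime.PGroup
import Cfsg.Agent.Lib.PLocal.Cores

set_option autoImplicit false
open Cfsg
open scoped commutatorElement

namespace Cfsg.Agent.S3919
section
variable {p : ℕ} [Fact p.Prime]

/-- A centraliser of order at most `p²` forces maximal class. -/
theorem class_large : ∀ (n : ℕ) (G : Type*) [Group G] [Finite G], Nat.card G = p ^ n → 2 ≤ n →
    ∀ t : G, Nat.card ↥(Subgroup.centralizer ({t} : Set G)) ≤ p ^ 2 → (⊤ : Subgroup G).lowerCentralSeries (n - 2) ≠ ⊥ := by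
  intro n
  induction n with
  | zero => intro G _ _ _ h; omega
  | succ n ih =>
    intro G _ _ hcard h2 t ht hbot
    have hp : p.Prime := Fact.out
    rcases Nat.lt_or_ge n 2 with hn | hn
    · have hn1 : n = 1 := by omega
      subst hn1
      rw [Subgroup.lowerCentralSeries_zero] at hbot
      have : Nat.card G = 1 := by rw [← Subgroup.card_top, hbot, Subgroup.card_bot]
      rw [hcard] at this
      exact absurd this (one_lt_pow₀ hp.one_lt (by omega)).ne'
    have hG : IsPGroup p G := IsPGroup.of_card hcard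
    set C := Subgroup.centralizer ({t} : Set G) with hC
    set Z := Subgroup.center G
    have hZC : Z ≤ C := Subgroup.center_le_centralizer _
    have hnt : Nontrivial G := Finite.one_lt_card_iff_nontrivial.mp (hcard ▸ one_lt_pow₀ hp.one_lt (by omega))
    have htc : t ∉ Z := fun h => by
      have hCt : C = ⊤ := by
        rw [eq_top_iff]
        exact fun g _ => Subgroup.mem_centralizer_singleton_iff.mpr (Subgroup.mem_center_iff.mp h g)
      rw [hCt, Subgroup.card_top, hcard] at ht
      exact absurd ((Nat.pow_le_pow_iff_right hp.one_lt).mp ht) (by omega)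
    obtain ⟨a, ha⟩ := (hG.to_subgroup C).exists_card_eq
    obtain ⟨b, hb⟩ := (hG.to_subgroup Z).exists_card_eq
    have hb1 : 1 ≤ b := by
      by_contra h0
      haveI := hG.center_nontrivial
      have := Finite.one_lt_card (α := Z)
      rw [hb, show b = 0 by omega] at this
      simp at this
    have hba : b < a := by
      by_contra h0
      have : C = Z := (Subgroup.eq_of_le_of_card_ge hZC (by rw [ha, hb]; exact Nat.pow_le_pow_right hp.pos (by omega))).symm
      exact htc (this ▸ Subgroup.mem_centralizer_singleton_iff.mpr rfl)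
    have ha2 : a ≤ 2 := (Nat.pow_le_pow_iff_right hp.one_lt).mp (ha ▸ ht)
    have hbe : b = 1 := by omega
    subst hbe
    rw [pow_one] at hb
    have hq : Nat.card (G ⧸ Z) = p ^ n := by
      have := Subgroup.card_eq_card_quotient_mul_card_subgroup Z
      rw [hcard, hb, pow_succ] at this
      exact (Nat.eq_of_mul_eq_mul_right hp.pos this).symm
    set π := QuotientGroup.mk' Z with hπ
    set Cq := Subgroup.centralizer ({π t} : Set (G ⧸ Z))
    have hqc : Nat.card Cq ≤ p ^ 2 := by
      set T := Cq.comap π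
      have hc' : ∀ g : T, (g : G) * t * (g : G)⁻¹ * t⁻¹ ∈ Z := fun g => by
        rw [← QuotientGroup.eq_one_iff]
        show π ((g : G) * t * (g : G)⁻¹ * t⁻¹) = 1
        rw [map_mul, map_mul, map_mul, map_inv, map_inv, Subgroup.mem_centralizer_singleton_iff.mp g.2,
          mul_inv_cancel_right, mul_inv_cancel]
      let φ : T →* Z := MonoidHom.mk' (fun g => ⟨_, hc' g⟩) fun u v => Subtype.ext (by
        show (u : G) * v * t * ((u : G) * v)⁻¹ * t⁻¹ = ((u : G) * t * (u : G)⁻¹ * t⁻¹) * ((v : G) * t * (v : G)⁻¹ * t⁻¹)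
        rw [Subgroup.mem_center_iff.mp (hc' v) ((u : G) * t * (u : G)⁻¹ * t⁻¹)]
        calc (u : G) * v * t * ((u : G) * v)⁻¹ * t⁻¹ = u * ((v : G) * t * (v : G)⁻¹ * t⁻¹) * (t * (u : G)⁻¹ * t⁻¹) := by group
          _ = ((v : G) * t * (v : G)⁻¹ * t⁻¹) * u * (t * (u : G)⁻¹ * t⁻¹) := by rw [Subgroup.mem_center_iff.mp (hc' v) u]
          _ = _ := by group)
      have hT : Nat.card T ≤ p * p ^ 2 := by
        rw [← Subgroup.card_mul_index φ.ker, Subgroup.index_ker, mul_comm]
        refine Nat.mul_le_mul ((Subgroup.card_le_card_group _).trans hb.le) (le_trans ?_ ht)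
        refine Nat.card_le_card_of_injective (fun g => (⟨((g : T) : G), Subgroup.mem_centralizer_singleton_iff.mpr
          (mul_inv_eq_iff_eq_mul.mp (mul_inv_eq_one.mp (congrArg Subtype.val g.2 : (((g : T) : G) * t * ((g : T) : G)⁻¹ * t⁻¹ = 1))))⟩ : C))
          fun x y h => Subtype.ext (Subtype.ext (congrArg (fun z : C => (z : G)) h))
      rw [Cfsg.Agent.PLocal.Cores.card_comap_eq _ (QuotientGroup.mk'_surjective Z), QuotientGroup.ker_mk', hb] at hT
      exact Nat.le_of_mul_le_mul_left hT hp.pos
    refine ih (G ⧸ Z) hq hn (π t) hqc ?_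
    rw [← Subgroup.map_top_of_surjective π (QuotientGroup.mk'_surjective Z), ← Subgroup.map_lowerCentralSeries,
      Subgroup.map_eq_bot_iff, QuotientGroup.ker_mk']
    intro g hg
    rw [Subgroup.mem_center_iff]
    intro x
    have hm : ⁅g, x⁆ ∈ (⊤ : Subgroup G).lowerCentralSeries (n - 2 + 1) :=
      Subgroup.commutator_mem_commutator hg (Subgroup.mem_top x)
    rw [show n - 2 + 1 = n + 1 - 2 by omega, hbot, Subgroup.mem_bot, commutatorElement_eq_one_iff_mul_comm] at hm
    exact hm.symm

/-- The lower central series drops by at least `p` at each step. -/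
theorem card_lcs {G : Type*} [Group G] [Finite G] (hG : IsPGroup p G) :
    ∀ i j, (⊤ : Subgroup G).lowerCentralSeries (i + j) ≠ ⊥ →
      p ^ j * Nat.card ↥((⊤ : Subgroup G).lowerCentralSeries (i + j)) ≤ Nat.card ↥((⊤ : Subgroup G).lowerCentralSeries i) := by
  intro i j
  induction j with
  | zero => simp
  | succ j ih =>
    intro hne
    have hanti : (⊤ : Subgroup G).lowerCentralSeries (i + j + 1) ≤ (⊤ : Subgroup G).lowerCentralSeries (i + j) :=
      Subgroup.lowerCentralSeries_antitone _ (Nat.le_succ _)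
    have hne' : (⊤ : Subgroup G).lowerCentralSeries (i + j) ≠ ⊥ := fun h => hne (le_bot_iff.mp (h ▸ hanti))
    have hlt : (⊤ : Subgroup G).lowerCentralSeries (i + j + 1) < (⊤ : Subgroup G).lowerCentralSeries (i + j) := by
      refine lt_of_le_of_ne hanti fun h => hne ?_
      haveI := hG.isNilpotent
      obtain ⟨N, hN⟩ := Subgroup.nilpotent_iff_lowerCentralSeries.mp this
      have hst : ∀ d, (⊤ : Subgroup G).lowerCentralSeries (i + j + d) = (⊤ : Subgroup G).lowerCentralSeries (i + j) := by
        intro d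
        induction d with
        | zero => rfl
        | succ d ihd => rw [← add_assoc, Subgroup.lowerCentralSeries_succ, ihd]; exact h
      rw [← add_assoc, h, ← hst N, eq_bot_iff, ← hN]
      exact Subgroup.lowerCentralSeries_antitone _ (by omega)
    obtain ⟨a, ha⟩ := (hG.to_subgroup ((⊤ : Subgroup G).lowerCentralSeries (i + j))).exists_card_eq
    obtain ⟨b, hb⟩ := (hG.to_subgroup ((⊤ : Subgroup G).lowerCentralSeries (i + j + 1))).exists_card_eq
    have hba : b < a := by
      by_contra h0
      exact hlt.ne (Subgroup.eq_of_le_of_card_ge hanti (by rw [ha, hb]; exact Nat.pow_le_pow_right (Fact.out : p.Prime).pos (by omega)))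
    refine le_trans ?_ (ih hne')
    rw [← add_assoc, pow_succ, mul_assoc, ha, hb, ← pow_succ']
    exact Nat.mul_le_mul_left _ (Nat.pow_le_pow_right (Fact.out : p.Prime).pos hba)

end

section
variable {G : Type*} [Group G] [Finite G]

theorem forward (hna : ¬ IsMulCommutative G) (n : ℕ) (hG : Nat.card G = 2 ^ n)
    (h : ∀ H : Subgroup G, ¬ IsCyclic ↥H → Subgroup.centralizer (H : Set G) ≤ H) :
    (⊤ : Subgroup G).lowerCentralSeries (n - 2) ≠ ⊥ := by
  classical
  haveI : Fact (Nat.Prime 2) := ⟨Nat.prime_two⟩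
  have hp : IsPGroup 2 G := IsPGroup.of_card hG
  haveI : Nontrivial G := by
    by_contra hn; rw [not_nontrivial_iff_subsingleton] at hn
    exact hna ⟨⟨fun a b => Subsingleton.elim _ _⟩⟩
  have hn2 : 2 ≤ n := by
    by_contra hlt
    haveI : IsCyclic G := by
      rcases Nat.eq_zero_or_pos n with rfl | hn
      · haveI := Finite.one_lt_card (α := G); simp at hG; omega
      · exact isCyclic_of_prime_card (p := 2) (by rw [hG, show n = 1 by omega, pow_one])
    exact hna (IsCyclic.commutative)
  haveI := hp.center_nontrivial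
  obtain ⟨⟨z, hz⟩, hzo⟩ := exists_prime_orderOf_dvd_card' 2 (G := Subgroup.center G) (by
    obtain ⟨k, hk⟩ := (hp.to_subgroup (Subgroup.center G)).exists_card_eq
    have := Finite.one_lt_card (α := Subgroup.center G)
    rw [hk] at this ⊢
    exact dvd_pow_self 2 fun h0 => by simp [h0] at this)
  rw [Subgroup.orderOf_mk] at hzo
  by_cases hex : ∃ t : G, orderOf t = 2 ∧ t ≠ z
  · obtain ⟨t, hto, htz⟩ := hex
    have hz2 : z * z = 1 := by rw [← pow_two, ← hzo, pow_orderOf_eq_one]
    have ht2 : t * t = 1 := by rw [← pow_two, ← hto, pow_orderOf_eq_one]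
    have hc : z * t = t * z := (Subgroup.mem_center_iff.mp hz t).symm
    let V : Subgroup G :=
      { carrier := {1, z, t, z * t}
        one_mem' := Or.inl rfl
        mul_mem' := fun {a b} ha hb => by
          rcases ha with rfl | rfl | rfl | rfl <;> rcases hb with rfl | rfl | rfl | rfl <;>
            simp only [Set.mem_insert_iff, Set.mem_singleton_iff, one_mul, mul_one, true_or, or_true, hz2, ht2]
          all_goals first
            | (rw [← hc]; simp)
            | (rw [← mul_assoc, hz2, one_mul]; simp)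
            | (rw [hc, mul_assoc, hz2, mul_one]; simp)
            | (rw [mul_assoc, ht2, mul_one]; simp)
            | (rw [hc, ← mul_assoc, ht2, one_mul]; simp)
            | (rw [show z * t * (z * t) = z * (t * z) * t by group, ← hc, ← mul_assoc, hz2, one_mul, ht2]; simp)
        inv_mem' := fun {a} ha => by
          rcases ha with rfl | rfl | rfl | rfl
          · simp
          · rw [inv_eq_of_mul_eq_one_right hz2]; simp
          · rw [inv_eq_of_mul_eq_one_right ht2]; simp
          · rw [mul_inv_rev, inv_eq_of_mul_eq_one_right hz2, inv_eq_of_mul_eq_one_right ht2, ← hc]; simp }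
    have hV : ¬ IsCyclic V := by
      intro hcy
      haveI := Fintype.ofFinite V
      have hle : ({⟨z, Or.inr (Or.inl rfl)⟩, ⟨t, Or.inr (Or.inr (Or.inl rfl))⟩, 1} : Finset V) ⊆
          (Finset.univ.filter fun x : V => x ^ 2 = 1) := fun x hx => by
        simp only [Finset.mem_insert, Finset.mem_singleton] at hx
        refine Finset.mem_filter.mpr ⟨Finset.mem_univ _, ?_⟩
        rcases hx with rfl | rfl | rfl
        · exact Subtype.ext (by rw [Subgroup.coe_pow, pow_two]; exact hz2)
        · exact Subtype.ext (by rw [Subgroup.coe_pow, pow_two]; exact ht2)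
        · exact one_pow 2
      have h3 := (Finset.card_le_card hle).trans (IsCyclic.card_pow_eq_one_le (α := V) two_pos)
      rw [Finset.card_eq_three.mpr ⟨_, _, _, fun e => htz (congrArg Subtype.val e).symm,
        fun e => by rw [show z = 1 from congrArg Subtype.val e, orderOf_one] at hzo; omega, fun e => by rw [show t = 1 from congrArg Subtype.val e, orderOf_one] at hto; omega, rfl⟩] at h3
      omega
    refine class_large (p := 2) n G hG hn2 t ?_
    have hsub : Subgroup.centralizer ({t} : Set G) ≤ V := fun g hg => h V hV (fun v hv => by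
      have hgt := Subgroup.mem_centralizer_singleton_iff.mp hg
      have hgz := (Subgroup.mem_center_iff.mp hz g)
      rcases hv with rfl | rfl | rfl | rfl
      · simp
      · exact hgz.symm
      · exact hgt.symm
      · rw [← mul_assoc g, hgz, mul_assoc z g, hgt, mul_assoc])
    refine (Subgroup.card_le_of_le hsub).trans (le_of_eq_of_le (Nat.card_coe_set_eq (({1, z, t, z * t} : Set G))) ?_)
    refine ((Set.ncard_insert_le _ _).trans (Nat.add_le_add_right ((Set.ncard_insert_le _ _).trans
      (Nat.add_le_add_right ((Set.ncard_insert_le _ _).trans (by rw [Set.ncard_singleton])) 1)) 1)).trans (by norm_num)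
  · push Not at hex
    have huniq : ∀ U V : Subgroup G, Nat.card U = 2 → Nat.card V = 2 → U = V := by
      have hz' : ∀ U : Subgroup G, Nat.card U = 2 → U = Subgroup.zpowers z := by
        intro U hU
        obtain ⟨⟨u, hu⟩, hu2⟩ := exists_prime_orderOf_dvd_card' 2 (by rw [hU] : 2 ∣ Nat.card U)
        rw [Subgroup.orderOf_mk] at hu2
        rw [← hex u hu2]
        exact (Subgroup.eq_of_le_of_card_ge (Subgroup.zpowers_le.mpr hu) (by rw [hU, Nat.card_zpowers, hu2])).symm
      intro U V hU hV; rw [hz' U hU, hz' V hV]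
    rcases Cfsg.Agent.PGroups.UniqueSubgroup.isCyclic_or_quaternion hp huniq with hc | ⟨-, m, ⟨f⟩⟩
    · exact absurd IsCyclic.commutative hna
    refine class_large (p := 2) n G hG hn2 (f.symm (QuaternionGroup.xa 0)) ?_
    haveI : NeZero (2 ^ m) := ⟨by positivity⟩
    set S := Subgroup.centralizer ({QuaternionGroup.xa 0} : Set (QuaternionGroup (2 ^ m)))
    have h4 : Nat.card S ≤ 4 := by
      have hsub : (S : Set (QuaternionGroup (2 ^ m))) ⊆
          {.a 0, .a ((2 ^ m : ℕ) : ZMod (2 * 2 ^ m)), .xa 0, .xa ((2 ^ m : ℕ) : ZMod (2 * 2 ^ m))} := by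
        intro q hq
        have hq' := Subgroup.mem_centralizer_singleton_iff.mp hq
        have key : ∀ i : ZMod (2 * 2 ^ m), 2 * i = 0 → i = 0 ∨ i = ((2 ^ m : ℕ) : ZMod (2 * 2 ^ m)) := by
          intro i hi
          have h2 : ((2 * i.val : ℕ) : ZMod (2 * 2 ^ m)) = 0 := by
            rw [Nat.cast_mul, ZMod.natCast_zmod_val]; exact_mod_cast hi
          rw [ZMod.natCast_eq_zero_iff] at h2
          obtain ⟨c, hc⟩ := h2
          have hlt := i.val_lt
          have hc2 : c < 2 := by
            by_contra h0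
            have : 2 * (2 * 2 ^ m) ≤ 2 * 2 ^ m * c := by rw [mul_comm]; exact Nat.mul_le_mul_left _ (by omega)
            omega
          interval_cases c
          · left; rw [← ZMod.natCast_zmod_val i, show i.val = 0 by omega, Nat.cast_zero]
          · right; rw [← ZMod.natCast_zmod_val i, show i.val = 2 ^ m by omega]
        cases q with
        | a i =>
          simp only [QuaternionGroup.a_mul_xa, QuaternionGroup.xa_mul_a, QuaternionGroup.xa.injEq] at hq'
          rcases key i (by linear_combination -hq') with rfl | rfl <;> simp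
        | xa i =>
          simp only [QuaternionGroup.xa_mul_xa, QuaternionGroup.a.injEq] at hq'
          rcases key i (by linear_combination -hq') with rfl | rfl <;> simp
      refine (Set.ncard_le_ncard hsub (Set.toFinite _)).trans' (le_of_eq (Nat.card_coe_set_eq _)) |>.trans ?_
      refine ((Set.ncard_insert_le _ _).trans (Nat.add_le_add_right ((Set.ncard_insert_le _ _).trans
        (Nat.add_le_add_right ((Set.ncard_insert_le _ _).trans (by rw [Set.ncard_singleton])) 1)) 1)).trans (by norm_num)
    refine le_trans (Nat.card_le_card_of_injective (fun g => (⟨f (g : G), ?_⟩ : S)) ?_) h4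
    · have hg := congrArg f (Subgroup.mem_centralizer_singleton_iff.mp g.2)
      rw [map_mul, map_mul, f.apply_symm_apply] at hg
      exact Subgroup.mem_centralizer_singleton_iff.mpr hg
    · exact fun a b h => Subtype.ext (f.injective (congrArg Subtype.val h))

theorem backward (hna : ¬ IsMulCommutative G) (n : ℕ) (hG : Nat.card G = 2 ^ n)
    (h : (⊤ : Subgroup G).lowerCentralSeries (n - 2) ≠ ⊥) (H : Subgroup G) (hH : ¬ IsCyclic ↥H) :
    Subgroup.centralizer (H : Set G) ≤ H := by
  haveI : Fact (Nat.Prime 2) := ⟨Nat.prime_two⟩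
  have hp : IsPGroup 2 G := IsPGroup.of_card hG
  have hcom : commutator G ≠ ⊥ := fun he => hna ⟨⟨fun a b => by
    have : ⁅a, b⁆ ∈ commutator G := Subgroup.commutator_mem_commutator (Subgroup.mem_top a) (Subgroup.mem_top b)
    rwa [he, Subgroup.mem_bot, commutatorElement_eq_one_iff_mul_comm] at this⟩⟩
  have hqnc : ¬ IsCyclic (G ⧸ commutator G) := fun hc => by
    haveI := hp.isNilpotent
    have hle : commutator G ≤ frattini G := Cfsg.Agent.Coprime.commutator_le_frattini G
    obtain ⟨g, hg⟩ := hc.exists_generator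
    obtain ⟨g, rfl⟩ := QuotientGroup.mk'_surjective _ g
    have htop : Subgroup.zpowers g = ⊤ := by
      refine frattini_nongenerating (eq_top_iff.mpr fun x _ => ?_)
      obtain ⟨i, hi⟩ := Subgroup.mem_zpowers_iff.mp (hg (QuotientGroup.mk' _ x))
      rw [← map_zpow] at hi
      rw [← mul_inv_cancel_left (g ^ i) x]
      exact mul_mem (Subgroup.mem_sup_left (zpow_mem (Subgroup.mem_zpowers g) i)) (Subgroup.mem_sup_right (hle (QuotientGroup.eq.mp hi)))
    haveI : IsCyclic G := ⟨⟨g, fun x => (Subgroup.eq_top_iff' _).mp htop x⟩⟩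
    exact hna IsCyclic.commutative
  obtain ⟨k, hk⟩ := (hp.to_quotient (commutator G)).exists_card_eq
  have hk2 : 2 ≤ k := by
    by_contra hlt
    apply hqnc
    rcases Nat.eq_zero_or_pos k with rfl | hk0
    · haveI : Subsingleton (G ⧸ commutator G) := Finite.card_le_one_iff_subsingleton.mp (by rw [hk]; rfl)
      exact isCyclic_of_subsingleton
    · exact isCyclic_of_prime_card (p := 2) (by rw [hk, show k = 1 by omega, pow_one])
  have hn3 : 3 ≤ n := by
    have h1 := Subgroup.card_eq_card_quotient_mul_card_subgroup (commutator G)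
    have h2 : 1 < Nat.card (commutator G) := (Subgroup.one_lt_card_iff_ne_bot _).mpr hcom
    rw [hk, hG] at h1
    have h4 : 4 ≤ 2 ^ k := le_trans (by norm_num) (Nat.pow_le_pow_right two_pos hk2)
    have h8 : 2 ^ 2 < 2 ^ n := by nlinarith
    exact (Nat.pow_lt_pow_iff_right one_lt_two).mp h8
  have hidx : (commutator G).index = 4 := by
    have h1 := card_lcs (p := 2) hp 1 (n - 3) (by rwa [show 1 + (n - 3) = n - 2 by omega])
    rw [show 1 + (n - 3) = n - 2 by omega, Subgroup.top_lowerCentralSeries_one] at h1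
    have h2 : 2 ≤ Nat.card ↥((⊤ : Subgroup G).lowerCentralSeries (n - 2)) := (Subgroup.one_lt_card_iff_ne_bot _).mpr h
    have h3 : 2 ^ (n - 3) * 2 ≤ Nat.card ↥(commutator G) := (Nat.mul_le_mul_left _ h2).trans h1
    have h4 := Subgroup.card_mul_index (commutator G)
    have h5 : (commutator G).index = 2 ^ k := hk
    rw [hG, h5] at h4
    rw [h5]
    have h6 : 2 ^ (n - 3) * 2 * 2 ^ k ≤ 2 ^ n := h4 ▸ Nat.mul_le_mul_right _ h3
    rw [← pow_succ, ← pow_add] at h6
    have := (Nat.pow_le_pow_iff_right one_lt_two).mp h6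
    rw [show k = 2 by omega]; norm_num
  have hexp : ∀ x : G, x ^ 2 ∈ commutator G := by
    intro x
    rw [← QuotientGroup.eq_one_iff]
    by_contra hne
    have h4 : Nat.card (G ⧸ commutator G) = 4 := hidx
    have hd : orderOf (QuotientGroup.mk x : G ⧸ commutator G) ∣ 2 ^ 2 := by rw [show (2 : ℕ) ^ 2 = 4 by norm_num, ← h4]; exact orderOf_dvd_natCard _
    obtain ⟨i, hi, hi'⟩ := (Nat.dvd_prime_pow Nat.prime_two).mp hd
    have hi2 : i = 2 := by
      by_contra h'
      apply hne
      rw [QuotientGroup.mk_pow, ← orderOf_dvd_iff_pow_eq_one, hi']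
      exact (pow_dvd_pow 2 (show i ≤ 1 by omega)).trans (by norm_num)
    exact hqnc (isCyclic_of_orderOf_eq_card _ (by rw [hi', hi2, h4]; norm_num))
  rcases Cfsg.Agent.InvChar.Taussky.structure_cases hp hidx hexp with h4 | ⟨m, a, y, hao, hcard, hy, hcases⟩
  · rw [hG] at h4
    have : 2 ^ 3 ≤ 2 ^ n := Nat.pow_le_pow_right two_pos hn3
    omega
  set A := Subgroup.zpowers a with hA
  have hAi : A.index = 2 := by
    have := A.card_mul_index
    rw [hA, Nat.card_zpowers, hao, hcard, pow_succ' 2 (m + 2), mul_comm] at this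
    exact Nat.eq_of_mul_eq_mul_right (by positivity) this
  obtain ⟨e, he, hfix⟩ : ∃ e : ℕ, y * a * y⁻¹ = a ^ e ∧ ∀ b ∈ A, b ^ e = b → b * b = 1 := by
    have hinv : y * a * y⁻¹ = a⁻¹ → ∃ e : ℕ, y * a * y⁻¹ = a ^ e ∧ ∀ b ∈ A, b ^ e = b → b * b = 1 := by
      intro hi
      have hb' : ∀ b ∈ A, b ^ (orderOf a - 1) = b⁻¹ := by
        intro b hb
        refine eq_inv_of_mul_eq_one_left ?_
        rw [← pow_succ, Nat.sub_add_cancel (orderOf_pos a), ← orderOf_dvd_iff_pow_eq_one, ← Nat.card_zpowers a]
        exact Subgroup.orderOf_dvd_natCard A hb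
      refine ⟨orderOf a - 1, by rw [hi, hb' a (Subgroup.mem_zpowers a)], fun b hb hbe => ?_⟩
      rw [hb' b hb] at hbe
      exact inv_eq_iff_mul_eq_one.mp hbe
    rcases hcases with ⟨hi, -⟩ | ⟨hi, -⟩ | ⟨hm, hi, -⟩
    · exact hinv hi
    · exact hinv hi
    · refine ⟨2 ^ (m + 1) - 1, hi, fun b hb hbe => ?_⟩
      obtain ⟨j, hj⟩ := IsPGroup.iff_orderOf.mp hp b
      have h1 : b ^ (2 ^ (m + 1) - 2) = 1 := by
        have hb2 : b ^ (2 ^ (m + 1) - 2) * b = b := by
          rw [← pow_succ, show 2 ^ (m + 1) - 2 + 1 = 2 ^ (m + 1) - 1 by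
            have : 2 ≤ 2 ^ (m + 1) := Nat.le_self_pow (by omega) 2
            omega]
          exact hbe
        exact mul_eq_right.mp hb2
      have h2 := orderOf_dvd_of_pow_eq_one h1
      rw [hj] at h2
      rcases j with _ | _ | j
      · rw [pow_zero, orderOf_eq_one_iff] at hj; rw [hj, one_mul]
      · rw [← pow_two, show 2 = orderOf b by rw [hj]; norm_num, pow_orderOf_eq_one]
      · exfalso
        obtain ⟨c, hc⟩ := (pow_dvd_pow 2 (show 2 ≤ j + 1 + 1 by omega)).trans h2
        have hpos : 0 < 2 ^ (m - 1) := Nat.two_pow_pos _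
        have : 2 ^ (m + 1) = 4 * 2 ^ (m - 1) := by
          rw [show (4 : ℕ) = 2 ^ 2 by norm_num, ← pow_add]; congr 1; omega
        omega
  -- the centraliser of an element outside `A` meets `A` in involutions
  have hinv2 : ∀ w, w ∉ A → ∀ b ∈ A, w * b * w⁻¹ = b → b * b = 1 := by
    intro w hw b hb hwb
    refine hfix b hb ?_
    obtain ⟨i, rfl⟩ := Subgroup.mem_zpowers_iff.mp hb
    have hd : y⁻¹ * w ∈ A := (Subgroup.mul_mem_iff_of_index_two hAi).2
      (iff_of_false (fun h' => hy (by simpa using A.inv_mem h')) hw)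
    obtain ⟨l, hl⟩ := Subgroup.mem_zpowers_iff.mp hd
    have hw' : w = y * a ^ l := by rw [hl, mul_inv_cancel_left]
    rw [← zpow_natCast, ← zpow_mul, mul_comm, zpow_mul, zpow_natCast, ← he, conj_zpow]
    calc y * a ^ i * y⁻¹ = w * a ^ i * w⁻¹ := by rw [hw']; group
      _ = a ^ i := hwb
  intro g hg
  obtain ⟨w, hwH, hwA⟩ : ∃ w ∈ H, w ∉ A := by
    by_contra hc
    push Not at hc
    exact hH (Subgroup.isCyclic_of_le (H' := A) hc)
  obtain ⟨c, hcH, hcA, hc1⟩ : ∃ c ∈ H, c ∈ A ∧ c ≠ 1 := by
    by_contra hc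
    push Not at hc
    have h1 : ∀ x ∈ H, x ≠ 1 → x = w := by
      intro x hx hx1
      have : w⁻¹ * x ∈ A := (Subgroup.mul_mem_iff_of_index_two hAi).2
        (iff_of_false (fun h' => hwA (by simpa using A.inv_mem h')) (fun h' => hx1 (hc x hx h')))
      exact (inv_mul_eq_one.mp (hc _ (mul_mem (inv_mem hwH) hx) this)).symm
    refine hH (Subgroup.isCyclic_of_le (H' := Subgroup.zpowers w) fun x hx => ?_)
    rcases eq_or_ne x 1 with rfl | hx1
    · exact one_mem _
    · exact h1 x hx hx1 ▸ Subgroup.mem_zpowers w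
  obtain ⟨z₀, hz₀H, hz₀A, hz₀⟩ : ∃ z ∈ H, z ∈ A ∧ orderOf z = 2 := by
    obtain ⟨j, hj⟩ := IsPGroup.iff_orderOf.mp hp c
    rcases j with _ | j
    · exact absurd (orderOf_eq_one_iff.mp (by rw [hj, pow_zero])) hc1
    · refine ⟨c ^ 2 ^ j, pow_mem hcH _, pow_mem hcA _, ?_⟩
      rw [orderOf_pow' _ (by positivity), hj, pow_succ, Nat.gcd_mul_right_left, Nat.mul_div_cancel_left _ (by positivity)]
  have huniq : ∀ b ∈ A, b * b = 1 → b = 1 ∨ b = z₀ := by
    intro b hb hb2
    classical
    haveI := Fintype.ofFinite A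
    by_contra hne
    rw [not_or] at hne
    haveI := (inferInstance : IsCyclic A)
    have hle : ({⟨b, hb⟩, ⟨z₀, hz₀A⟩, 1} : Finset A) ⊆ (Finset.univ.filter fun x : A => x ^ 2 = 1) := fun x hx => by
      simp only [Finset.mem_insert, Finset.mem_singleton] at hx
      refine Finset.mem_filter.mpr ⟨Finset.mem_univ _, ?_⟩
      rcases hx with rfl | rfl | rfl
      · exact Subtype.ext (by rw [Subgroup.coe_pow, pow_two]; exact hb2)
      · exact Subtype.ext (by rw [Subgroup.coe_pow, ← hz₀]; exact pow_orderOf_eq_one _)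
      · exact one_pow 2
    have h3 := (Finset.card_le_card hle).trans (IsCyclic.card_pow_eq_one_le (α := A) two_pos)
    rw [Finset.card_eq_three.mpr ⟨_, _, _, fun e' => hne.2 (congrArg Subtype.val e'),
      fun e' => hne.1 (congrArg Subtype.val e'), fun e' => by simp [show z₀ = 1 from congrArg Subtype.val e'] at hz₀, rfl⟩] at h3
    omega
  have hmemz : ∀ b ∈ A, b * b = 1 → b ∈ H := fun b hb hb2 => by
    rcases huniq b hb hb2 with rfl | rfl
    exacts [one_mem H, hz₀H]
  have hgw : g * w = w * g := (hg w hwH).symm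
  by_cases hgA : g ∈ A
  · exact hmemz g hgA (hinv2 w hwA g hgA (by rw [← hgw, mul_inv_cancel_right]))
  · have hd : w⁻¹ * g ∈ A := (Subgroup.mul_mem_iff_of_index_two hAi).2
      (iff_of_false (fun h' => hwA (by simpa using A.inv_mem h')) hgA)
    have := hmemz _ hd (hinv2 w hwA _ hd (by rw [mul_inv_cancel_left]; exact (Commute.inv_right (hgw : Commute g w)).eq))
    simpa using mul_mem hwH this

end

/-- Say that a group has self-centralizing non-cyclic subgroups when every non-cyclic subgroup H satisfies C_G(H) ≤ H. A finite non-abelian 2-group G of order 2^n has self-centralizing non-cyclic subgroups if and only if G has nilpotency class n − 1 (that is, G is dihedral, semidihedral or generalized quaternion). -/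
theorem result {G : Type*} [Group G] [Finite G] (hna : ¬ IsMulCommutative G) (n : ℕ) (hG : Nat.card G = 2 ^ n) :
    (∀ H : Subgroup G, ¬ IsCyclic ↥H → Subgroup.centralizer (H : Set G) ≤ H) ↔ (⊤ : Subgroup G).lowerCentralSeries (n - 2) ≠ ⊥ := by
  exact ⟨forward hna n hG, fun h H hH => backward hna n hG h H hH⟩

end Cfsg.Agent.S3919
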