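import Cfsg.Statements.S0132
import Cfsg.Agent.Lib.Transfer.Frobenius
import Cfsg.Agent.Lib.Coprime.Basic
import Cfsg.Agent.Solvable.Thompson

set_option autoImplicit false
open Cfsg

namespace Cfsg.Agent.S0132

/-- A minimal non-p-nilpotent finite group is a minimal non-nilpotent group with a normal Sylow p-subgroup. -/
theorem result {G : Type*} [Group G] [Finite G] {p : ℕ} [Fact p.Prime] (h1 : ¬ Cfsg.HasNormalPComplement p G) (h2 : ∀ H : Subgroup G, H ≠ ⊤ → Cfsg.HasNormalPComplement p H) : (∀ H : Subgroup G, H ≠ ⊤ → Group.IsNilpotent H) ∧ ¬ Group.IsNilpotent G ∧ ∀ P : Sylow p G, (P : Subgroup G).Normal := by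
  have hp : p.Prime := Fact.out
  obtain ⟨Q, hQ, g, hg, hgo, hgc⟩ : ∃ Q : Subgroup G, IsPGroup p Q ∧
      ∃ g ∈ Subgroup.normalizer (Q : Set G), (orderOf g).Coprime p ∧
        g ∉ Subgroup.centralizer (Q : Set G) := by
    by_contra hcon
    push Not at hcon
    exact h1 (Cfsg.Agent.Transfer.Frobenius.hasNormalPComplement_iff_condition.mpr
      fun Q hQ g hg ho => hcon Q hQ g hg ho)
  set L := Q ⊔ Subgroup.zpowers g with hL
  have hLtop : L = ⊤ := by
    by_contra hne
    have hc := Cfsg.Agent.Transfer.Frobenius.condition_of_hasNormalPComplement (h2 L hne)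
    have hQL : Q ≤ L := le_sup_left
    have hgL : g ∈ L := Subgroup.mem_sup_right (Subgroup.mem_zpowers g)
    have h3 := hc (Q.subgroupOf L) hQ.comap_subtype ⟨g, hgL⟩ (by
      rw [← Subgroup.subgroupOf_normalizer_eq hQL, Subgroup.mem_subgroupOf]
      exact hg) (by rwa [← Subgroup.orderOf_coe])
    exact hgc fun q hq => congrArg Subtype.val (h3 ⟨q, hQL hq⟩ hq)
  haveI hQn : Q.Normal := Subgroup.normalizer_eq_top_iff.mp (top_le_iff.mp
    (hLtop ▸ sup_le Subgroup.le_normalizer (Subgroup.zpowers_le.mpr hg)))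
  set f := QuotientGroup.mk' Q with hf
  have hgen : ∀ y : G ⧸ Q, y ∈ Subgroup.zpowers (f g) := by
    intro y
    obtain ⟨x, rfl⟩ := QuotientGroup.mk'_surjective Q y
    obtain ⟨q, hq, z, hz, rfl⟩ := Subgroup.mem_sup_of_normal_left.mp (hLtop ▸ Subgroup.mem_top x : x ∈ L)
    rw [map_mul, show QuotientGroup.mk' Q q = 1 from (QuotientGroup.eq_one_iff q).mpr hq, one_mul]
    obtain ⟨i, rfl⟩ := Subgroup.mem_zpowers_iff.mp hz
    exact ⟨i, (map_zpow f g i).symm⟩
  have hidx : ¬ p ∣ Q.index := by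
    intro hd
    rw [Subgroup.index_eq_card, ← orderOf_eq_card_of_forall_mem_zpowers hgen] at hd
    exact hp.ne_one (Nat.eq_one_of_dvd_coprimes hgo (hd.trans (orderOf_map_dvd f g)) dvd_rfl)
  let S : Sylow p G := hQ.toSylow hidx
  haveI hcomm : IsMulCommutative (G ⧸ Q) := isMulCommutative_iff.mpr fun a b => by
    obtain ⟨i, rfl⟩ := Subgroup.mem_zpowers_iff.mp (hgen a)
    obtain ⟨j, rfl⟩ := Subgroup.mem_zpowers_iff.mp (hgen b)
    rw [← zpow_add, ← zpow_add, Int.add_comm]
  refine ⟨fun H hH => ?_, fun hG => ?_, fun P => ?_⟩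
  · haveI : (Cfsg.pPrimeCore p H).Normal := by
      haveI := Cfsg.Agent.PLocal.Cores.pPrimeCore_characteristic (p := p) (G := H)
      infer_instance
    haveI : Group.IsNilpotent (H ⧸ Cfsg.pPrimeCore p H) :=
      (Cfsg.Agent.Transfer.NormalPComplement.hasNormalPComplement_iff_isPGroup_quotient.mp
        (h2 H hH)).isNilpotent
    haveI : Group.IsNilpotent (G ⧸ Q) := by
      open scoped IsMulCommutative in infer_instance
    refine Subgroup.isNilpotent_of_ker_le_center
      ((f.comp H.subtype).prod (QuotientGroup.mk' (Cfsg.pPrimeCore p H))) ?_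
    intro x hx
    rw [MonoidHom.ker_prod, Subgroup.mem_inf, MonoidHom.mem_ker, MonoidHom.mem_ker] at hx
    have hxQ : x ∈ Q.subgroupOf H := (QuotientGroup.eq_one_iff (x : G)).mp hx.1
    have hxK : x ∈ Cfsg.pPrimeCore p H := (QuotientGroup.eq_one_iff x).mp hx.2
    have h4 : x ∈ Q.subgroupOf H ⊓ Cfsg.pPrimeCore p H := ⟨hxQ, hxK⟩
    rw [Cfsg.Agent.PLocal.Cores.inf_eq_bot_of_isPGroup_of_coprime (p := p) (A := Q.subgroupOf H) hQ.comap_subtype
      Cfsg.Agent.PLocal.Cores.coprime_card_pPrimeCore, Subgroup.mem_bot] at h4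
    rw [h4]
    exact one_mem _
  · haveI := hG
    exact h1 Cfsg.Agent.Solvable.Thompson.hasNormalPComplement_of_nilpotent
  · obtain ⟨c, rfl⟩ := MulAction.exists_smul_eq G S P
    haveI : (S : Subgroup G).Normal := hQn
    rw [Sylow.smul_eq_of_normal]
    exact hQn

end Cfsg.Agent.S0132
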