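import Cfsg.Statements.S2588
import Cfsg.Agent.Lib.Classical.UnitaryConj

set_option autoImplicit false
set_option maxHeartbeats 1600000
open Cfsg
open Cfsg.Agent.Classical

namespace Cfsg.Agent.S2588

/-- An invertible matrix A over the field with q² elements is conjugate in GL_n(q²) to an element of the general unitary group GU_n(q) (isometries of the Hermitian form Σ u_i v_i^q) if and only if A is similar to the inverse transpose of its entrywise q-th power (A ~ A^(−qT), the image of A under the map sending a matrix to the inverse transpose of its entrywise q-th power — inverse transpose composed with the field automorphism — whose fixed points form GU_n(q)). -/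
theorem result {K : Type*} [Field K] [Fintype K] {q n : ℕ} (hK : Fintype.card K = q ^ 2) (A : GL (Fin n) K) : (∃ B : ↥(Cfsg.GU n K q), IsConj A (B : GL (Fin n) K)) ↔ IsConj (A : Matrix (Fin n) (Fin n) K) (((A : Matrix (Fin n) (Fin n) K).map (fun x : K => x ^ q)).transpose)⁻¹ := by
  classical
  have hM : ((A : Matrix (Fin n) (Fin n) K).map (fun x : K => x ^ q)).transpose
      = (UnitaryConj.adj hK) (A : Matrix (Fin n) (Fin n) K) := rfl
  rw [hM]
  have hadA : IsUnit ((UnitaryConj.adj hK) (A : Matrix (Fin n) (Fin n) K)) := UnitaryConj.isUnit_adj hK A.isUnit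
  have hdet := (Matrix.isUnit_iff_isUnit_det _).1 hadA
  constructor
  · rintro ⟨B, hB⟩
    obtain ⟨g, hg⟩ := isConj_iff.1 hB
    have hB1 := (UnitaryConj.mem_GU_iff hK (B : GL (Fin n) K)).1 B.2
    rw [← hg, Units.val_mul, Units.val_mul, UnitaryConj.adj_mul, UnitaryConj.adj_mul] at hB1
    set H := (UnitaryConj.adj hK) (g : Matrix (Fin n) (Fin n) K) * (g : Matrix (Fin n) (Fin n) K) with hH
    have h2 := congrArg
      (fun M => (UnitaryConj.adj hK) (g : Matrix (Fin n) (Fin n) K) * M * (g : Matrix (Fin n) (Fin n) K)) hB1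
    have hgg : (UnitaryConj.adj hK) (g : Matrix (Fin n) (Fin n) K) * (UnitaryConj.adj hK) ((g⁻¹ : GL (Fin n) K) : Matrix (Fin n) (Fin n) K)
        = 1 := by rw [← UnitaryConj.adj_mul, Units.inv_mul, UnitaryConj.adj_one]
    simp only [mul_one, mul_assoc, Units.inv_mul] at h2
    simp only [← mul_assoc, hgg, one_mul] at h2
    rw [mul_assoc _ ((UnitaryConj.adj hK) (g : Matrix (Fin n) (Fin n) K)), ← hH] at h2
    have hHu : IsUnit H := (UnitaryConj.isUnit_adj hK g.isUnit).mul g.isUnit
    refine ⟨hHu.unit, ?_⟩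
    show H * _ = _ * H
    conv_rhs => rw [← h2]
    rw [← mul_assoc, ← mul_assoc, Matrix.nonsing_inv_mul _ hdet, one_mul]
  · rintro ⟨X, hX⟩
    set Xm := (X : Matrix (Fin n) (Fin n) K) with hXm
    have hAX : (UnitaryConj.adj hK) (A : Matrix (Fin n) (Fin n) K) * Xm * (A : Matrix (Fin n) (Fin n) K) = Xm := by
      rw [mul_assoc, hX.eq, ← mul_assoc, Matrix.mul_nonsing_inv _ hdet, one_mul]
    have hAXs : (UnitaryConj.adj hK) (A : Matrix (Fin n) (Fin n) K) * (UnitaryConj.adj hK) Xm * (A : Matrix (Fin n) (Fin n) K) = (UnitaryConj.adj hK) Xm := by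
      have h := congrArg (UnitaryConj.adj hK) hAX
      rwa [UnitaryConj.adj_mul, UnitaryConj.adj_mul, UnitaryConj.adj_adj, ← mul_assoc] at h
    set Xi := ((X⁻¹ : (Matrix (Fin n) (Fin n) K)ˣ) : Matrix (Fin n) (Fin n) K) with hXi
    have hXX : Xm * Xi = 1 := X.mul_inv
    have hiX : Xi * Xm = 1 := X.inv_mul
    set U := Xi * (UnitaryConj.adj hK) Xm with hU
    have hUu : IsUnit U := X⁻¹.isUnit.mul (UnitaryConj.isUnit_adj hK X.isUnit)
    obtain ⟨τ, hτd⟩ : ∃ τ : Matrix (Fin n) (Fin n) K → Matrix (Fin n) (Fin n) K,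
        ∀ a, τ a = Xi * (UnitaryConj.adj hK) a * Xm := ⟨_, fun _ => rfl⟩
    have hτττ : ∀ a, τ (τ a) * U = U * a := fun a => by
      rw [hτd, hτd]
      rw [hU, UnitaryConj.adj_mul, UnitaryConj.adj_mul, UnitaryConj.adj_adj]
      simp only [mul_assoc]
      rw [← mul_assoc Xm Xi, hXX, one_mul, ← UnitaryConj.adj_mul hK Xm Xi, hXX, UnitaryConj.adj_one,
        mul_one]
    have hτU : τ U * U = 1 := by
      rw [hτd, hU]
      rw [UnitaryConj.adj_mul, UnitaryConj.adj_adj]
      simp only [mul_assoc]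
      rw [← mul_assoc Xm Xi, hXX, one_mul, ← mul_assoc Xi Xm, hiX, one_mul,
        ← UnitaryConj.adj_mul, hXX, UnitaryConj.adj_one]
    have hτmem : τ U ∈ Algebra.adjoin K {U} := by
      have : Finite (Matrix (Fin n) (Fin n) K)ˣ := inferInstance
      obtain ⟨k, hk, hpow⟩ := isOfFinOrder_iff_pow_eq_one.1 (isOfFinOrder_of_finite hUu.unit)
      have hU1 : U ^ k = 1 := by simpa using congrArg Units.val hpow
      have : τ U = U ^ (k - 1) := by
        calc τ U = τ U * U ^ k := by rw [hU1, mul_one]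
          _ = τ U * U * U ^ (k - 1) := by
            rw [mul_assoc (τ U) U, ← pow_succ', Nat.sub_add_cancel (show 1 ≤ k from hk)]
          _ = U ^ (k - 1) := by rw [hτU, one_mul]
      rw [this]
      exact pow_mem (Algebra.subset_adjoin (R := K) (Set.mem_singleton U)) _
    obtain ⟨a, hac, hτa, hau⟩ := (UnitaryConj.exists_twist hK U hUu τ
      (fun a b => by simp only [hτd, UnitaryConj.adj_add, mul_add, add_mul])
      (fun a b => by
        simp only [hτd, UnitaryConj.adj_mul, mul_assoc]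
        rw [← mul_assoc Xm Xi, hXX, one_mul])
      (fun c => by
        simp only [hτd, UnitaryConj.adj_algebraMap]
        rw [← Algebra.commutes, mul_assoc, hiX, mul_one])
      hτmem
      (fun a ha => hUu.mul_right_cancel ((hτττ a).trans ha.eq.symm))).1
    have hXU : Xm * U = (UnitaryConj.adj hK) Xm := by rw [hU, ← mul_assoc, hXX, one_mul]
    have hUA : Commute (A : Matrix (Fin n) (Fin n) K) U := by
      have h1 : (UnitaryConj.adj hK) (A : Matrix (Fin n) (Fin n) K) * Xm * ((A : Matrix (Fin n) (Fin n) K) * U)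
          = (UnitaryConj.adj hK) (A : Matrix (Fin n) (Fin n) K) * Xm * (U * (A : Matrix (Fin n) (Fin n) K)) := by
        rw [← mul_assoc, hAX, hXU, ← mul_assoc, mul_assoc _ Xm U, hXU, hAXs]
      exact (hadA.mul X.isUnit).mul_left_cancel h1
    have hAa : (UnitaryConj.adj hK) (A : Matrix (Fin n) (Fin n) K) * (Xm * a) * (A : Matrix (Fin n) (Fin n) K)
        = Xm * a := by
      rw [← mul_assoc, mul_assoc _ a, (hac _ hUA).symm.eq, ← mul_assoc, hAX]
    have hAb : (UnitaryConj.adj hK) (A : Matrix (Fin n) (Fin n) K) * (UnitaryConj.adj hK) (Xm * a) * (A : Matrix (Fin n) (Fin n) K)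
        = (UnitaryConj.adj hK) (Xm * a) := by
      have h := congrArg (UnitaryConj.adj hK) hAa
      rwa [UnitaryConj.adj_mul hK (_ * _) (A : Matrix (Fin n) (Fin n) K),
        UnitaryConj.adj_mul hK (UnitaryConj.adj hK _) (Xm * a), UnitaryConj.adj_adj, ← mul_assoc] at h
    set H := Xm * a + (UnitaryConj.adj hK) (Xm * a) with hH
    have hHeq : H = Xm * (a + U * τ a) := by
      rw [mul_add, hτa.eq]
      have e2 : Xm * (τ a * U) = (UnitaryConj.adj hK) (Xm * a) := by
        rw [hτd]
        rw [UnitaryConj.adj_mul, ← hXU]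
        simp only [← mul_assoc, hXX, one_mul]
      rw [e2]
    have hHu : IsUnit H := hHeq ▸ X.isUnit.mul hau
    have hHh : (UnitaryConj.adj hK) H = H := by
      rw [hH]
      rw [UnitaryConj.adj_add, UnitaryConj.adj_adj, add_comm]
    have hHA : (UnitaryConj.adj hK) (A : Matrix (Fin n) (Fin n) K) * H * (A : Matrix (Fin n) (Fin n) K) = H := by
      rw [hH, mul_add, add_mul, hAa, hAb]
    obtain ⟨Y, -, hY⟩ := UnitaryConj.exists_root hK H hHu hHh
    have hmem : Y * A * Y⁻¹ ∈ Cfsg.GU n K q := by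
      rw [UnitaryConj.mem_GU_iff hK, Units.val_mul, Units.val_mul, UnitaryConj.adj_mul,
        UnitaryConj.adj_mul]
      simp only [mul_assoc]
      rw [← mul_assoc _ (Y : Matrix (Fin n) (Fin n) K), hY]
      simp only [← mul_assoc] at hHA ⊢
      rw [mul_assoc _ _ H, mul_assoc _ (_ * H), hHA, ← hY, ← mul_assoc, ← UnitaryConj.adj_mul,
        Units.mul_inv, UnitaryConj.adj_one, one_mul, Units.mul_inv]
    exact ⟨⟨_, hmem⟩, isConj_iff.2 ⟨Y, rfl⟩⟩

end Cfsg.Agent.S2588
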