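import Cfsg.Statements.S2586
import Cfsg.Agent.Lib.Classical.TransposeConj

set_option autoImplicit false
open Cfsg

namespace Cfsg.Agent.S2586

/-- Over a finite field, every element of the symplectic group Sp_2m(F) is conjugate by an invertible matrix to its inverse. -/
theorem result {F : Type*} [Field F] [Finite F] {m : ℕ} (A : Matrix.symplecticGroup (Fin m) F) : IsConj (A : Matrix (Fin m ⊕ Fin m) (Fin m ⊕ Fin m) F) ((A⁻¹ : Matrix.symplecticGroup (Fin m) F) : Matrix (Fin m ⊕ Fin m) (Fin m ⊕ Fin m) F) := by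
  classical
  let e : Fin m ⊕ Fin m ≃ Fin (m + m) := finSumFinEquiv
  let φ := (Matrix.reindexAlgEquiv F F e)
  set M : Matrix (Fin m ⊕ Fin m) (Fin m ⊕ Fin m) F := (A : Matrix (Fin m ⊕ Fin m) (Fin m ⊕ Fin m) F)
    with hM
  have hT : IsConj M M.transpose := by
    have h := Classical.TransposeConj.isConj_transpose (φ M)
    have h2 := φ.symm.toAlgHom.toMonoidHom.map_isConj h
    have e1 : (φ M).transpose = φ M.transpose := by
      simp [φ, Matrix.coe_reindexAlgEquiv, Matrix.transpose_reindex]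
    rw [e1] at h2
    simpa using h2
  refine hT.trans ?_
  have hJ : IsUnit (Matrix.J (Fin m) F) :=
    (Matrix.isUnit_iff_isUnit_det _).2 (Matrix.isUnit_det_J (Fin m) F)
  have key := SymplecticGroup.mem_iff'.1 A.2
  have hinv : M * ((A⁻¹ : Matrix.symplecticGroup (Fin m) F) :
      Matrix (Fin m ⊕ Fin m) (Fin m ⊕ Fin m) F) = 1 :=
    congrArg Subtype.val (mul_inv_cancel A)
  refine (IsConj.symm ⟨hJ.unit, ?_⟩)
  show Matrix.J (Fin m) F * _ = M.transpose * Matrix.J (Fin m) F
  conv_lhs => rw [← key]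
  rw [← hM, mul_assoc, hinv, mul_one]

end Cfsg.Agent.S2586
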