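import Cfsg.Statements.S2581
import Cfsg.Agent.Lib.Classical.JordanCentralizer
-- import your own Cfsg.Agent.* helpers here

set_option autoImplicit false
open Cfsg

namespace Cfsg.Agent.S2581

open Cfsg.Agent.Classical Module

theorem shift {F : Type*} [Field F] {t : ℕ} (d : Fin t → ℕ) (k : Fin t) (j : ℕ) (hj : j < d k) :
    Matrix.toLin' (Cfsg.jordanTypeMatrix d F - 1)
        (Pi.basisFun F (JordanChains.Idx d) ⟨k, ⟨j, hj⟩⟩) =
      if h : j + 1 < d k then Pi.basisFun F (JordanChains.Idx d) ⟨k, ⟨j + 1, h⟩⟩ else 0 := by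
  classical
  rw [Pi.basisFun_apply, Matrix.toLin'_apply, Matrix.mulVec_single_one]
  ext ⟨k', j'⟩
  simp only [Matrix.col_apply, Cfsg.jordanTypeMatrix, Matrix.sub_apply]
  by_cases hk : k' = k
  · subst hk
    rw [Matrix.blockDiagonal'_apply_eq]
    simp only [Cfsg.jordanBlock, Matrix.of_apply, Matrix.one_apply, Sigma.mk.injEq, heq_eq_eq,
      true_and]
    split_ifs with h1 h2 h3 <;>
      simp only [Pi.basisFun_apply, Pi.single_apply, Sigma.mk.injEq, heq_eq_eq, true_and, Fin.ext_iff,
        Pi.zero_apply] at * <;>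
      (try split_ifs) <;> first | omega | simp
  · rw [Matrix.blockDiagonal'_apply_ne _ _ _ hk]
    have hne : ∀ i : Fin (d k), (⟨k', j'⟩ : JordanChains.Idx d) ≠ ⟨k, i⟩ := fun i e =>
      hk (congrArg Sigma.fst e)
    rw [Matrix.one_apply_ne (hne _)]
    split_ifs <;> simp [hne _]

/-- Order of the centraliser in GL of a unipotent matrix of given Jordan type over the field with q elements: if the type has a_i blocks of size i (all block sizes at least 1), the invertible matrices commuting with it number q^γ · Π_i |GL_(a_i)(q)| with γ = 2 Σ_(i<j) i a_i a_j + Σ_i (i − 1) a_i² (a group of order q^γ extended by Π GL_(a_i)(q)). -/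
theorem result {F : Type*} [Field F] [Fintype F] {q : ℕ} (hF : Fintype.card F = q) {t : ℕ} (d : Fin t → ℕ) (hd : ∀ k, 1 ≤ d k) : Nat.card {g : GL ((k : Fin t) × Fin (d k)) F // (g : Matrix ((k : Fin t) × Fin (d k)) ((k : Fin t) × Fin (d k)) F) * Cfsg.jordanTypeMatrix d F = Cfsg.jordanTypeMatrix d F * (g : Matrix ((k : Fin t) × Fin (d k)) ((k : Fin t) × Fin (d k)) F)} = q ^ (2 * (∑ i ∈ Finset.range (Finset.univ.sup d + 1), ∑ j ∈ Finset.range (Finset.univ.sup d + 1), if i < j then i * (Finset.univ.filter (fun k : Fin t => d k = i)).card * (Finset.univ.filter (fun k : Fin t => d k = j)).card else 0) + ∑ i ∈ Finset.range (Finset.univ.sup d + 1), (i - 1) * (Finset.univ.filter (fun k : Fin t => d k = i)).card ^ 2) * ∏ i ∈ Finset.range (Finset.univ.sup d + 1), ∏ j : Fin ((Finset.univ.filter (fun k : Fin t => d k = i)).card), (q ^ (Finset.univ.filter (fun k : Fin t => d k = i)).card - q ^ (j : ℕ)) := by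
  classical
  subst hF
  set Jm := Cfsg.jordanTypeMatrix d F with hJm
  have h := JordanChains.chains_of_shift hd (Matrix.toLin' (Jm - 1))
    (Pi.basisFun F (JordanChains.Idx d)) (shift d)
  rw [← JordanChains.exponent_eq d hd, ← JordanChains.natCard_commutant_units h]
  have key : ∀ M : Matrix (JordanChains.Idx d) (JordanChains.Idx d) F,
      M * Jm = Jm * M ↔
        ∀ x, Matrix.toLin' M (Matrix.toLin' (Jm - 1) x) = Matrix.toLin' (Jm - 1) (Matrix.toLin' M x) := by
    intro M
    simp only [Matrix.toLin'_apply, Matrix.mulVec_mulVec, ← Matrix.ext_iff_mulVec, mul_sub, sub_mul,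
      mul_one, one_mul, sub_left_inj]
  refine Nat.card_congr
    { toFun := fun g => ⟨Matrix.toLin' (g.1 : Matrix (JordanChains.Idx d) (JordanChains.Idx d) F),
        (key _).1 g.2, ?_⟩
      invFun := fun f => ⟨Matrix.GeneralLinearGroup.mkOfDetNeZero (LinearMap.toMatrix' f.1) ?_, ?_⟩
      left_inv := fun g => Subtype.ext (Units.ext (by simp [LinearMap.toMatrix'_toLin']))
      right_inv := fun f => Subtype.ext (Matrix.toLin'_toMatrix' f.1) }
  · intro x y e
    simp only [Matrix.toLin'_apply] at e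
    have := congrArg (Matrix.mulVec ((g.1⁻¹ : GL (JordanChains.Idx d) F) :
      Matrix (JordanChains.Idx d) (JordanChains.Idx d) F)) e
    rwa [Matrix.mulVec_mulVec, Matrix.mulVec_mulVec, Units.inv_mul, Matrix.one_mulVec,
      Matrix.one_mulVec] at this
  · rw [← isUnit_iff_ne_zero, ← Matrix.isUnit_iff_isUnit_det, ← Matrix.mulVec_injective_iff_isUnit]
    intro x y e
    rw [LinearMap.toMatrix'_mulVec, LinearMap.toMatrix'_mulVec] at e
    exact f.2.2 e
  · show LinearMap.toMatrix' f.1 * Jm = Jm * LinearMap.toMatrix' f.1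
    rw [key]
    simpa only [Matrix.toLin'_toMatrix'] using f.2.1

end Cfsg.Agent.S2581
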