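import Cfsg.Statements.S5463
import Cfsg.Agent.Lib.ThreeTransp.Factor.Triples

set_option autoImplicit false
open Cfsg

namespace Cfsg.Agent.S5463

/-- Let G be a finite group with trivial centre generated by a conjugation-invariant set D of 3-transpositions on which it acts primitively, such that for some d in D the subgroup generated by the members of D other than d commuting with d has central largest normal 2- and 3-subgroups, and suppose G with D is of type M(22). A product j of two distinct commuting members of D determines the pair: any two 2-element sets of commuting members of D with product j coincide. A product j of three distinct pairwise commuting members of D arises from exactly two such 3-element sets. -/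
theorem result {G : Type*} [Group G] [Finite G] {D : Set G} (hD : Cfsg.IsThreeTranspositionGroup D) (hprim : Cfsg.IsPrimitiveUnderConj D) (d₀ : G) (hd₀ : d₀ ∈ D) (h3 : Cfsg.pCore 3 ↥(Subgroup.closure {y : G | y ∈ D ∧ y ≠ d₀ ∧ Commute d₀ y}) ≤ Subgroup.center ↥(Subgroup.closure {y : G | y ∈ D ∧ y ≠ d₀ ∧ Commute d₀ y})) (h2 : Cfsg.pCore 2 ↥(Subgroup.closure {y : G | y ∈ D ∧ y ≠ d₀ ∧ Commute d₀ y}) ≤ Subgroup.center ↥(Subgroup.closure {y : G | y ∈ D ∧ y ≠ d₀ ∧ Commute d₀ y})) (h22 : Cfsg.IsOfTypeM22 G D) : (∀ (j : G) (l l' : List G), (l.Nodup ∧ l.length = 2 ∧ (∀ a ∈ l, a ∈ D) ∧ (∀ a ∈ l, ∀ b ∈ l, Commute a b) ∧ l.prod = j) → (l'.Nodup ∧ l'.length = 2 ∧ (∀ a ∈ l', a ∈ D) ∧ (∀ a ∈ l', ∀ b ∈ l', Commute a b) ∧ l'.prod = j) → (∀ x : G, x ∈ l ↔ x ∈ l')) ∧ ∀ (j : G) (l₀ : List G), (l₀.Nodup ∧ l₀.length = 3 ∧ (∀ a ∈ l₀, a ∈ D) ∧ (∀ a ∈ l₀, ∀ b ∈ l₀, Commute a b) ∧ l₀.prod = j) → ∃ l₁ l₂ : List G, (l₁.Nodup ∧ l₁.length = 3 ∧ (∀ a ∈ l₁, a ∈ D) ∧ (∀ a ∈ l₁, ∀ b ∈ l₁,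 Commute a b) ∧ l₁.prod = j) ∧ (l₂.Nodup ∧ l₂.length = 3 ∧ (∀ a ∈ l₂, a ∈ D) ∧ (∀ a ∈ l₂, ∀ b ∈ l₂, Commute a b) ∧ l₂.prod = j) ∧ ¬ (∀ x : G, x ∈ l₁ ↔ x ∈ l₂) ∧ ∀ l : List G, (l.Nodup ∧ l.length = 3 ∧ (∀ a ∈ l, a ∈ D) ∧ (∀ a ∈ l, ∀ b ∈ l, Commute a b) ∧ l.prod = j) → ((∀ x : G, x ∈ l ↔ x ∈ l₁) ∨ (∀ x : G, x ∈ l ↔ x ∈ l₂)) := by
  obtain ⟨-, h5, -⟩ := Cfsg.Agent.ThreeTransp.Factor.M22_core hD h22
  have h4 : Cfsg.Agent.ThreeTransp.Factor.Rel 4 D := h5.mono (by norm_num)
  refine ⟨fun j l l' hl hl' => Cfsg.Agent.ThreeTransp.Factor.list_pair hD h4 j l l' hl hl', ?_⟩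
  intro j l₀ hl₀
  obtain ⟨hn, hlen, hm, hc, hp⟩ := hl₀
  obtain ⟨a, b, c, rfl⟩ := List.length_eq_three.1 hlen
  have hn' := hn
  simp only [List.nodup_cons, List.mem_cons, List.not_mem_nil, or_false, not_or, List.nodup_nil,
    and_true, not_false_eq_true] at hn'
  obtain ⟨⟨hab, hac⟩, hbc⟩ := hn'
  have ha := hm a (by simp)
  have hb := hm b (by simp)
  have hcD := hm c (by simp)
  have cab := hc a (by simp) b (by simp)
  have cac := hc a (by simp) c (by simp)
  have cbc := hc b (by simp) c (by simp)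
  obtain ⟨x, y, z, hx, hy, hz, hnd, ⟨cxy, cxz, cyz⟩, hall, hprod⟩ :=
    Cfsg.Agent.ThreeTransp.Factor.exists_other hD hprim h22 ha hb hcD hab hac hbc cab cac cbc
  have hj : a * b * c = j := by rw [← hp]; simp [mul_assoc]
  have hn2 : [x, y, z].Nodup := hnd.sublist (List.sublist_append_right [a, b, c] [x, y, z])
  refine ⟨[a, b, c], [x, y, z], ⟨hn, rfl, hm, hc, hp⟩, ⟨hn2, rfl, ?_, ?_, ?_⟩, ?_, ?_⟩
  · intro w hw
    simp only [List.mem_cons, List.not_mem_nil, or_false] at hw
    rcases hw with rfl | rfl | rfl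
    · exact hx.1
    · exact hy.1
    · exact hz.1
  · intro u hu w hw
    simp only [List.mem_cons, List.not_mem_nil, or_false] at hu hw
    rcases hu with rfl | rfl | rfl <;> rcases hw with rfl | rfl | rfl <;>
      first
        | exact Commute.refl _
        | exact cxy | exact cxz | exact cyz | exact cxy.symm | exact cxz.symm | exact cyz.symm
  · rw [← hj, hprod]; simp [mul_assoc]
  · intro h
    exact (List.nodup_append.1 (show ([a, b, c] ++ [x, y, z]).Nodup from hnd)).2.2 a (by simp) a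
      ((h a).1 (by simp)) rfl
  · rintro l ⟨hln, hllen, hlm, hlc, hlp⟩
    obtain ⟨p, q, r, rfl⟩ := List.length_eq_three.1 hllen
    have hj' : p * q * r = j := by rw [← hlp]; simp [mul_assoc]
    rcases Cfsg.Agent.ThreeTransp.Factor.triple_cases hD h4 ⟨hn, hm, hc⟩ ⟨hln, hlm, hlc⟩
      (hj.trans hj'.symm) with h | ⟨hnd6, hcom6⟩
    · exact Or.inl fun w => (h w).symm
    right
    have hln' := hln
    simp only [List.nodup_cons, List.mem_cons, List.not_mem_nil, or_false, not_or, List.nodup_nil,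
      and_true, not_false_eq_true] at hln'
    obtain ⟨⟨hpq, hpr⟩, hqr⟩ := hln'
    have hsub : [p, q, r] ⊆ [x, y, z] := by
      intro w hw
      have key : Cfsg.Agent.ThreeTransp.Factor.Third D a b c w := by
        have hne := (List.nodup_append.1 (show ([a, b, c] ++ [p, q, r]).Nodup from hnd6)).2.2
        refine ⟨hlm w hw, ⟨(hne a (by simp) w hw).symm, (hne b (by simp) w hw).symm,
          (hne c (by simp) w hw).symm⟩, ⟨hcom6 w (by simp at hw ⊢; tauto) a (by simp),
          hcom6 w (by simp at hw ⊢; tauto) b (by simp),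
          hcom6 w (by simp at hw ⊢; tauto) c (by simp)⟩, fun f hf h1 h2 h3 => ?_⟩
        have hfj : Commute f (p * q * r) := by
          rw [hj', ← hj]; exact (h1.mul_right h2).mul_right h3
        obtain ⟨f1, f2, f3⟩ := Cfsg.Agent.ThreeTransp.Factor.commute_each_three hD
          (hlm p (by simp)) (hlm q (by simp)) (hlm r (by simp)) hf hpq hpr hqr
          (hlc p (by simp) q (by simp)) (hlc p (by simp) r (by simp))
          (hlc q (by simp) r (by simp)) hfj
        simp only [List.mem_cons, List.not_mem_nil, or_false] at hw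
        rcases hw with rfl | rfl | rfl
        · exact f1
        · exact f2
        · exact f3
      simpa using hall w key
    have hperm := (List.subperm_of_subset hln hsub).perm_of_length_le (by simp)
    exact fun w => hperm.mem_iff

end Cfsg.Agent.S5463
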