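import Cfsg.Statements.S5361
import Cfsg.Agent.Lib.ThreeTransp.Primitive

set_option autoImplicit false
open Cfsg

namespace Cfsg.Agent.S5361

open scoped commutatorElement

theorem commutator_eq_component {G : Type*} [Group G] {L : Subgroup G} [L.Normal]
    (hL : Cfsg.IsComponent L) (hi : L.index ≤ 2) (h0 : L.index ≠ 0) : commutator G = L := by
  refine le_antisymm ?_ ?_
  · have hcard : Nat.card (G ⧸ L) ≤ 2 := hi
    have hcomm : IsMulCommutative (G ⧸ L) := by
      rcases (show Nat.card (G ⧸ L) = 1 ∨ Nat.card (G ⧸ L) = 2 by
        have : Nat.card (G ⧸ L) ≠ 0 := h0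
        omega) with h | h
      · have := (Nat.card_eq_one_iff_unique.1 h).1
        exact ⟨⟨fun a b => Subsingleton.elim _ _⟩⟩
      · haveI : Fact (Nat.Prime 2) := ⟨Nat.prime_two⟩
        haveI := isCyclic_of_prime_card h
        exact IsCyclic.commutative
    exact Subgroup.Normal.quotient_commutative_iff_commutator_le.mp hcomm
  · rw [← Components.Basic.component_commutator_self hL, commutator_def]
    exact Subgroup.commutator_mono le_top le_top

/-- Let D be a conjugacy class of 3-transpositions generating the finite group G, and suppose the centre of G is trivial and some two different members of D commute. Then the following are equivalent: (1) the commutator subgroup of G is simple (possibly of prime order); (2) G acts primitively on D by conjugation; (3) the largest normal 2-subgroup and the largest normal 3-subgroup of G are trivial and the commuting graph of D is connected. -/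
theorem result {G : Type*} [Group G] [Finite G] {D : Set G} (hD : Cfsg.IsThreeTranspositionClass D) (hZ : Subgroup.center G = ⊥) (hw : ∃ a ∈ D, ∃ b ∈ D, a ≠ b ∧ Commute a b) : (IsSimpleGroup (commutator G) ↔ Cfsg.IsPrimitiveUnderConj D) ∧ (Cfsg.IsPrimitiveUnderConj D ↔ (Cfsg.pCore 2 G = ⊥ ∧ Cfsg.pCore 3 G = ⊥ ∧ (Cfsg.commutingGraph D).Connected)) := by
  obtain ⟨hG, htrans⟩ := ThreeTransp.Classes.of_class hD
  have h2 : ∃ a ∈ D, ∃ b ∈ D, a ≠ b := by
    obtain ⟨a, ha, b, hb, hab, -⟩ := hw; exact ⟨a, ha, b, hb, hab⟩
  have hfwd : Cfsg.IsPrimitiveUnderConj D →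
      IsSimpleGroup (commutator G) ∧
        (Cfsg.pCore 2 G = ⊥ ∧ Cfsg.pCore 3 G = ⊥ ∧ (Cfsg.commutingGraph D).Connected) := by
    intro hprim
    obtain ⟨z2, z3⟩ := ThreeTransp.Primitive.cores_central hG hprim hw
    obtain ⟨L, hLn, hL, hF⟩ := ThreeTransp.Structure.exists_component hG htrans h2 z2 z3
    have hi := ThreeTransp.Primitive.component_index hG hprim hL
    haveI := hLn
    have hcomm := commutator_eq_component hL hi Subgroup.index_ne_zero_of_finite
    rw [hZ, le_bot_iff] at z2 z3
    refine ⟨?_, z2, z3, ThreeTransp.Primitive.connected hG hprim hw⟩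
    rw [hcomm]
    have hcen : Subgroup.center L = ⊥ := by
      haveI : ((Subgroup.center L).map L.subtype).Normal :=
        Cores.normal_map_subtype L (Subgroup.center L)
      have h1 : (Subgroup.center L).map L.subtype ≤ Cfsg.fittingSubgroup G := by
        exact Components.Fitting.le_fitting (Components.Fitting.isNilpotent_of_isMulCommutative _)
      have h3 := h1.trans (ThreeTransp.Structure.fitting_le_center hG
        (by rw [z2]; exact bot_le) (by rw [z3]; exact bot_le))
      rw [hZ, le_bot_iff, Subgroup.map_eq_bot_iff_of_injective _ L.subtype_injective] at h3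
      exact h3
    haveI := hL.2.2
    exact ((QuotientGroup.quotientMulEquivOfEq hcen).trans QuotientGroup.quotientBot).isSimpleGroup_congr.1
      inferInstance
  have hback : Cfsg.pCore 2 G = ⊥ → Cfsg.pCore 3 G = ⊥ →
      (∀ L : Subgroup G, Cfsg.IsComponent L → L.index ≤ 2) → Cfsg.IsPrimitiveUnderConj D := by
    intro e2 e3 hi
    have z2 : Cfsg.pCore 2 G ≤ Subgroup.center G := by rw [e2]; exact bot_le
    have z3 : Cfsg.pCore 3 G ≤ Subgroup.center G := by rw [e3]; exact bot_le
    obtain ⟨L, hLn, hL, hF⟩ := ThreeTransp.Structure.exists_component hG htrans h2 z2 z3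
    haveI := hLn
    exact ThreeTransp.Primitive.primitive_of_index hG htrans h2 z2 z3 hL.2 hF (hi L hL)
  constructor
  · refine ⟨fun hs => ?_, fun h => (hfwd h).1⟩
    obtain ⟨d, hd, -⟩ := id hw
    haveI := hs
    haveI hcn : (commutator G).Normal := inferInstance
    -- the derived subgroup together with d is everything
    have hcong : ∀ x ∈ D, d⁻¹ * x ∈ commutator G := by
      intro x hx
      obtain ⟨g, rfl⟩ := htrans d hd x hx
      rw [show d⁻¹ * (g * d * g⁻¹) = ⁅d⁻¹, g⁆ by rw [commutatorElement_def]; group, commutator_def]
      exact Subgroup.commutator_mem_commutator (Subgroup.mem_top _) (Subgroup.mem_top _)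
    have hidx := ThreeTransp.Primitive.index_le_two hG htrans hd hcong
    have hp : ∀ p : ℕ, p.Prime → (p = 2 ∨ p = 3) → Cfsg.pCore p G = ⊥ := by
      intro p hp hp23
      by_contra hne
      haveI : Fact p.Prime := ⟨hp⟩
      haveI : (Cfsg.pCore p G).Normal := Cores.pCore_normal p
      haveI : ((Cfsg.pCore p G).subgroupOf (commutator G)).Normal := inferInstance
      rcases ((inferInstance : ((Cfsg.pCore p G).subgroupOf (commutator G)).Normal)).eq_bot_or_eq_top
        with hb | ht
      · -- then the core is central
        refine hne (le_bot_iff.1 (hZ ▸ fun x hx => Subgroup.mem_center_iff.2 fun g => ?_))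
        have hm : g * x * g⁻¹ * x⁻¹ ∈ Cfsg.pCore p G :=
          mul_mem (Subgroup.Normal.conj_mem inferInstance x hx g) (inv_mem hx)
        have hc : g * x * g⁻¹ * x⁻¹ ∈ commutator G := by
          rw [← commutatorElement_def, commutator_def]
          exact Subgroup.commutator_mem_commutator (Subgroup.mem_top g) (Subgroup.mem_top x)
        have h1 : (⟨_, hc⟩ : commutator G) ∈ (Cfsg.pCore p G).subgroupOf (commutator G) := hm
        rw [hb, Subgroup.mem_bot] at h1
        exact mul_inv_eq_iff_eq_mul.1 (mul_inv_eq_one.1 (congrArg Subtype.val h1))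
      · rw [Subgroup.subgroupOf_eq_top] at ht
        have hpg : IsPGroup p (commutator G) := (Cores.pCore_isPGroup p).to_le ht
        haveI := hpg.isNilpotent
        have hab : ∀ a b : commutator G, a * b = b * a :=
          IsSimpleGroup.comm_iff_isSolvable.2 inferInstance
        have hpr := Characters.prime_card_of_simple_of_comm hab
        obtain ⟨k, hk⟩ := IsPGroup.iff_card.1 hpg
        have hk1 : Nat.card (commutator G) = p := by
          rw [hk] at hpr ⊢
          obtain ⟨-, rfl⟩ := Nat.Prime.pow_eq_iff hpr |>.1 rfl
          simp
        have hcard : Nat.card G ≤ 2 * p := by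
          rw [← (commutator G).card_mul_index, hk1, mul_comm]
          exact Nat.mul_le_mul_right p hidx
        obtain ⟨a, ha, b, hb, hne', hab'⟩ := hw
        rcases hp23 with rfl | rfl
        · -- a normal subgroup of order 2 is central
          have hle : commutator G ≤ Subgroup.center G := by
            intro x hx
            rw [Subgroup.mem_center_iff]
            intro g
            have hgx := hcn.conj_mem x hx g
            by_cases hx1 : x = 1
            · simp [hx1]
            have huniq : ∀ y ∈ commutator G, y ≠ 1 → y = x := by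
              intro y hy hy1
              obtain ⟨z, -, hz⟩ := (Nat.card_eq_two_iff' (1 : commutator G)).1 hk1
              exact congrArg Subtype.val ((hz ⟨y, hy⟩ fun h => hy1 (congrArg Subtype.val h)).trans
                (hz ⟨x, hx⟩ fun h => hx1 (congrArg Subtype.val h)).symm)
            exact mul_inv_eq_iff_eq_mul.1 (huniq _ hgx (by simpa using hx1))
          rw [hZ, le_bot_iff] at hle
          rw [hle] at hk1
          simp at hk1
        · -- a four-group would have order dividing six
          have hb' : b * b = 1 := ThreeTransp.Classes.sq hG hb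
          have ha' : a * a = 1 := ThreeTransp.Classes.sq hG ha
          have haI : a⁻¹ = a := ThreeTransp.Classes.inv hG ha
          have hbI : b⁻¹ = b := ThreeTransp.Classes.inv hG hb
          have hba : b * a = a * b := hab'.eq.symm
          have hb2 : ∀ t : G, b * (b * t) = t := ThreeTransp.WidthOne.mul_mul_cancel_left hb'
          have ha2 : ∀ t : G, a * (a * t) = t := ThreeTransp.WidthOne.mul_mul_cancel_left ha'
          have hba2 : ∀ t : G, b * (a * t) = a * (b * t) := fun t => by
            rw [← mul_assoc, hba, mul_assoc]
          let K : Subgroup G :=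
            { carrier := {1, a, b, a * b}
              one_mem' := by simp
              mul_mem' := fun {x y} hx hy => by
                rcases hx with rfl | rfl | rfl | rfl <;> rcases hy with rfl | rfl | rfl | rfl <;>
                  simp [mul_assoc, ha', hb', ha2, hb2, hba2, hba]
              inv_mem' := fun {x} hx => by
                rcases hx with rfl | rfl | rfl | rfl <;> simp [haI, hbI, hba] }
          have hK : Nat.card K = 4 := by
            show Set.ncard ({1, a, b, a * b} : Set G) = 4
            have n1 : a ≠ 1 := ThreeTransp.Basic.ne_one hG.1 ha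
            have n2 : b ≠ 1 := ThreeTransp.Basic.ne_one hG.1 hb
            have n3 : a * b ≠ 1 := fun h => hne' (by rw [eq_inv_of_mul_eq_one_left h, hbI])
            rw [Set.ncard_insert_of_notMem (by simp [Ne.symm n1, Ne.symm n2, Ne.symm n3]),
              Set.ncard_insert_of_notMem (by simp [hne', n2]),
              Set.ncard_pair (by simpa using n1)]
          have h4 : 4 ∣ Nat.card G := hK ▸ Subgroup.card_subgroup_dvd_card K
          have h3 : 3 ∣ Nat.card G := hk1 ▸ Subgroup.card_subgroup_dvd_card (commutator G)
          have h12 : 12 ∣ Nat.card G := Nat.Coprime.mul_dvd_of_dvd_of_dvd (by norm_num) h4 h3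
          have := Nat.le_of_dvd Nat.card_pos h12
          omega
    refine hback (hp 2 Nat.prime_two (Or.inl rfl)) (hp 3 Nat.prime_three (Or.inr rfl)) fun L hL => ?_
    have hle : L ≤ commutator G := by
      rw [← Components.Basic.component_commutator_self hL, commutator_def]
      exact Subgroup.commutator_mono le_top le_top
    haveI := ThreeTransp.Structure.component_normal hG hL
    rcases (inferInstance : (L.subgroupOf (commutator G)).Normal).eq_bot_or_eq_top with hb | ht
    · rw [Subgroup.subgroupOf_eq_bot, disjoint_iff, inf_eq_left.2 hle] at hb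
      exact absurd hb (Components.Basic.component_ne_bot hL)
    · exact le_antisymm hle (Subgroup.subgroupOf_eq_top.1 ht) ▸ hidx
  · refine ⟨fun h => (hfwd h).2, fun ⟨e2, e3, hc⟩ => hback e2 e3 fun L hL => ?_⟩
    haveI := ThreeTransp.Structure.component_normal hG hL
    exact ThreeTransp.Primitive.index_of_connected hG htrans h2 hL hc

end Cfsg.Agent.S5361
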