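import Cfsg.Statements.S3761
import Mathlib
import Cfsg.Agent.Lib.PLocal.CyclicExtension
import Cfsg.Agent.Lib.Classical.CyclicExt
import Cfsg.Agent.Lib.PGroups.UniqueSubgroup
import Cfsg.Agent.Lib.Coprime.Basic
import Cfsg.Agent.Lib.Involutions.Basic

set_option autoImplicit false
open Cfsg
open scoped commutatorElement

namespace Cfsg.Agent.S3761
section
variable {G : Type*} [Group G] [Finite G]

/-- The second alternative, given an outside element of `M`. -/
theorem modular {p : ℕ} [Fact p.Prime] (hG : IsPGroup p G) (U : Subgroup G) [U.Normal] (u : G)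
    (hu : U = Subgroup.zpowers u) (n : ℕ) (hn : 2 ≤ n) (hn3 : p = 2 → 3 ≤ n) (huo : orderOf u = p ^ n)
    (hC : Subgroup.centralizer (U : Set G) = U)
    (g₀ : G) (hg₀ : g₀ ∉ U) (hg₀M : Commute g₀ (u ^ p)) :
    U.relIndex (Subgroup.centralizer (Cfsg.powerClosure p 1 U : Set G)) = p ∧
      Cfsg.IsElementaryAbelian p (Cfsg.omegaOne p (Subgroup.centralizer (Cfsg.powerClosure p 1 U : Set G))) ∧
      Nat.card ↥(Cfsg.omegaOne p (Subgroup.centralizer (Cfsg.powerClosure p 1 U : Set G))) = p ^ 2 ∧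
      (Cfsg.omegaOne p (Subgroup.centralizer (Cfsg.powerClosure p 1 U : Set G))).Characteristic := by
  classical
  have hp : p.Prime := Fact.out
  have hP : Cfsg.powerClosure p 1 U = Subgroup.zpowers (u ^ p) := by
    refine le_antisymm ((Subgroup.closure_le _).mpr ?_) (Subgroup.zpowers_le.mpr (Subgroup.subset_closure ⟨u, hu ▸ Subgroup.mem_zpowers u, by rw [pow_one]⟩))
    rintro y ⟨x, hx, rfl⟩
    rw [hu] at hx
    obtain ⟨i, rfl⟩ := Subgroup.mem_zpowers_iff.mp hx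
    refine Subgroup.mem_zpowers_iff.mpr ⟨i, ?_⟩
    rw [pow_one, ← zpow_natCast u, ← zpow_natCast (u ^ i), ← zpow_mul, ← zpow_mul, mul_comm]
  set M := Subgroup.centralizer (Cfsg.powerClosure p 1 U : Set G) with hMdef
  have hMmem : ∀ g : G, g ∈ M ↔ Commute g (u ^ p) := by
    intro g
    rw [hMdef, hP]
    constructor
    · intro h; exact (Subgroup.mem_centralizer_iff.mp h _ (Subgroup.mem_zpowers _)).symm
    · intro h
      refine Subgroup.mem_centralizer_iff.mpr fun y hy => ?_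
      obtain ⟨i, rfl⟩ := Subgroup.mem_zpowers_iff.mp hy
      exact (h.zpow_right i).eq.symm
  have hUM : U ≤ M := by
    intro x hx
    rw [hu] at hx
    obtain ⟨i, rfl⟩ := Subgroup.mem_zpowers_iff.mp hx
    exact (hMmem _).mpr (((Commute.refl u).zpow_left i).pow_right p)
  haveI : (Cfsg.powerClosure p 1 U).Normal := by
    rw [hP]
    refine ⟨fun y hy g => ?_⟩
    obtain ⟨i, rfl⟩ := Subgroup.mem_zpowers_iff.mp hy
    have hconj : g * u * g⁻¹ ∈ U := (inferInstance : U.Normal).conj_mem u (hu ▸ Subgroup.mem_zpowers u) g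
    rw [hu] at hconj
    obtain ⟨j, hj⟩ := Subgroup.mem_zpowers_iff.mp hconj
    refine Subgroup.mem_zpowers_iff.mpr ⟨j * i, ?_⟩
    rw [← conj_zpow, ← conj_pow, ← hj]
    simp only [← zpow_natCast, ← zpow_mul]
    ring_nf
  haveI hMn : M.Normal := by rw [hMdef]; infer_instance
  have h1ord : ∀ i : ℤ, u ^ i = 1 ↔ ((p ^ n : ℕ) : ℤ) ∣ i := fun i => by
    rw [← huo]; exact orderOf_dvd_iff_zpow_eq_one.symm
  set z := u ^ p ^ (n - 1) with hz
  have hzo : orderOf z = p := by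
    rw [hz, orderOf_pow' _ (pow_ne_zero _ hp.ne_zero), huo, Nat.gcd_eq_right (pow_dvd_pow p (by omega)),
      Nat.pow_div (by omega) hp.pos, show n - (n - 1) = 1 by omega, pow_one]
  set Z := Subgroup.zpowers z with hZdef
  have hZc : Z ≤ Subgroup.center G := by
    haveI : Z.Normal := ⟨fun y hy g => by
      obtain ⟨i, rfl⟩ := Subgroup.mem_zpowers_iff.mp hy
      have hconj : g * u * g⁻¹ ∈ U := (inferInstance : U.Normal).conj_mem u (hu ▸ Subgroup.mem_zpowers u) g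
      rw [hu] at hconj
      obtain ⟨j, hj⟩ := Subgroup.mem_zpowers_iff.mp hconj
      refine Subgroup.mem_zpowers_iff.mpr ⟨j * i, ?_⟩
      rw [hz, ← conj_zpow, ← conj_pow, ← hj]
      simp only [← zpow_natCast, ← zpow_mul]
      ring_nf⟩
    exact Cfsg.Agent.PLocal.CyclicExtension.le_center_of_card_eq hG (by rw [hZdef, Nat.card_zpowers, hzo])
  have hUp : ∀ x ∈ U, x ^ p = 1 → x ∈ Z := by
    intro x hx hxp
    rw [hu] at hx
    obtain ⟨i, rfl⟩ := Subgroup.mem_zpowers_iff.mp hx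
    rw [← zpow_natCast, ← zpow_mul, h1ord] at hxp
    have hd : ((p ^ (n - 1) : ℕ) : ℤ) ∣ i := by
      rw [show (p ^ n : ℕ) = p ^ (n - 1) * p by rw [← pow_succ]; congr 1; omega] at hxp
      push_cast at hxp ⊢
      exact Int.dvd_of_mul_dvd_mul_right (by exact_mod_cast hp.ne_zero) hxp
    obtain ⟨j, rfl⟩ := hd
    exact Subgroup.mem_zpowers_iff.mpr ⟨j, by rw [hz, zpow_mul, zpow_natCast]⟩
  -- commutators of elements of `M` with `u` lie in `Z`
  have hcomm : ∀ g : G, g ∈ M ↔ g * u * g⁻¹ * u⁻¹ ∈ Z := by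
    intro g
    have hcU : g * u * g⁻¹ * u⁻¹ ∈ U := by
      have huU : u ∈ U := hu ▸ Subgroup.mem_zpowers u
      exact U.mul_mem ((inferInstance : U.Normal).conj_mem u huU g) (U.inv_mem huU)
    have hcu : Commute (g * u * g⁻¹ * u⁻¹) u := by
      rw [hu] at hcU
      obtain ⟨i, hi⟩ := Subgroup.mem_zpowers_iff.mp hcU
      rw [← hi]; exact (Commute.refl u).zpow_left i
    have key : g * u ^ p * g⁻¹ = (g * u * g⁻¹ * u⁻¹) ^ p * u ^ p := by
      rw [← hcu.mul_pow, inv_mul_cancel_right, conj_pow]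
    rw [hMmem]
    constructor
    · intro h
      refine hUp _ hcU ?_
      rw [h.eq, mul_inv_cancel_right] at key
      exact mul_eq_right.mp key.symm
    · intro h
      have h1 : (g * u * g⁻¹ * u⁻¹) ^ p = 1 := by
        rw [← orderOf_dvd_iff_pow_eq_one]; exact (Subgroup.orderOf_dvd_natCard _ h).trans (by rw [Nat.card_zpowers, hzo])
      rw [h1, one_mul] at key
      exact mul_inv_eq_iff_eq_mul.mp key
  have hg₀' : g₀ ∈ M := (hMmem g₀).mpr hg₀M
  have hrel : U.relIndex M = p := by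
    let φ : M →* Z := MonoidHom.mk' (fun g => ⟨(g : G) * u * (g : G)⁻¹ * u⁻¹, (hcomm g).mp g.2⟩) fun a b => Subtype.ext (by
      show (a : G) * b * u * ((a : G) * b)⁻¹ * u⁻¹ = ((a : G) * u * (a : G)⁻¹ * u⁻¹) * ((b : G) * u * (b : G)⁻¹ * u⁻¹)
      have hzb := Subgroup.mem_center_iff.mp (hZc ((hcomm b).mp b.2))
      rw [hzb ((a : G) * u * (a : G)⁻¹ * u⁻¹)]
      calc (a : G) * b * u * ((a : G) * b)⁻¹ * u⁻¹ = a * ((b : G) * u * (b : G)⁻¹ * u⁻¹) * (u * (a : G)⁻¹ * u⁻¹) := by group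
        _ = ((b : G) * u * (b : G)⁻¹ * u⁻¹) * a * (u * (a : G)⁻¹ * u⁻¹) := by rw [hzb]
        _ = _ := by group)
    have hker : φ.ker = U.subgroupOf M := by
      ext g
      simp only [MonoidHom.mem_ker, φ, MonoidHom.mk'_apply, Subgroup.mem_subgroupOf, Subtype.ext_iff, Subgroup.coe_one, mul_inv_eq_one, mul_inv_eq_iff_eq_mul, one_mul]
      constructor
      · intro h
        rw [← hC]
        refine Subgroup.mem_centralizer_iff.mpr fun y hy => ?_
        have hy' : y ∈ Subgroup.zpowers u := hu ▸ hy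
        obtain ⟨i, rfl⟩ := Subgroup.mem_zpowers_iff.mp hy'
        exact ((show Commute (g : G) u from h).zpow_right i).eq.symm
      · intro h
        have hg : (g : G) ∈ Subgroup.centralizer (U : Set G) := hC.symm ▸ h
        exact (Subgroup.mem_centralizer_iff.mp hg u (hu ▸ Subgroup.mem_zpowers u : u ∈ U)).symm
    have h1 : U.relIndex M ∣ p := by
      rw [Subgroup.relIndex, ← hker, Subgroup.index_ker]
      exact (Subgroup.card_subgroup_dvd_card _).trans (by rw [hZdef, Nat.card_zpowers, hzo])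
    exact ((Nat.dvd_prime hp).mp h1).resolve_left fun h => hg₀ (Subgroup.relIndex_eq_one.mp h hg₀')
  -- exponents
  have hexp : ∀ g ∈ M, ∃ r : ℕ, g * u * g⁻¹ = u ^ r ∧ r % p = 1 ∧ (p = 2 → r % 4 = 1) := by
    intro g hg
    obtain ⟨k, hk⟩ := mem_powers_iff_mem_zpowers.mpr ((hcomm g).mp hg)
    refine ⟨p ^ (n - 1) * k + 1, ?_, ?_, fun h2 => ?_⟩
    · rw [pow_add, pow_mul, pow_one, ← hz, show z ^ k = g * u * g⁻¹ * u⁻¹ from hk]; group
    · obtain ⟨m, hm⟩ := Nat.exists_eq_add_of_le (show 1 ≤ n - 1 by omega)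
      rw [hm, pow_add, pow_one, mul_assoc, Nat.mul_add_mod, Nat.one_mod_eq_one.mpr hp.ne_one]
    · subst h2
      obtain ⟨m, hm⟩ := Nat.exists_eq_add_of_le (show 2 ≤ n - 1 from by have := hn3 rfl; omega)
      rw [hm, pow_add, mul_assoc, show (2 : ℕ) ^ 2 = 4 by norm_num, Nat.mul_add_mod]
  -- powers of `u ^ i * g`
  have hpw : ∀ g ∈ M, ∃ w : ℕ, ¬ p ∣ w ∧ ∀ i : ℕ, (u ^ i * g) ^ p = u ^ (i * (p * w)) * g ^ p := by
    intro g hg
    obtain ⟨r, hr, hr1, hr4⟩ := hexp g hg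
    obtain ⟨w, hw, hwp⟩ := Cfsg.Agent.PGroups.UniqueSubgroup.geom_sum_of_mod hp hr1 hr4
    exact ⟨w, hwp, fun i => by rw [Cfsg.Agent.PGroups.UniqueSubgroup.mul_pow_eq hr, hw]⟩
  obtain ⟨e, heM, heU, hep⟩ : ∃ e ∈ M, e ∉ U ∧ e ^ p = 1 := by
    have hgp : g₀ ^ p ∈ U := by
      have := (U.subgroupOf M).pow_index_mem ⟨g₀, hg₀'⟩
      rw [show (U.subgroupOf M).index = p from hrel] at this
      exact this
    rw [hu] at hgp
    obtain ⟨s, hs⟩ := mem_powers_iff_mem_zpowers.mpr hgp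
    have hs' : u ^ s = g₀ ^ p := hs
    obtain ⟨w, hwp, hw⟩ := hpw g₀ hg₀'
    have hps : p ∣ s := by
      by_contra hns
      apply hg₀
      obtain ⟨t, -, ht⟩ := Nat.exists_mul_mod_eq_one_of_coprime ((hp.coprime_iff_not_dvd.mpr hns).symm.pow_right n) (Nat.one_lt_pow (by omega) hp.one_lt)
      rw [← hC]
      refine Subgroup.mem_centralizer_iff.mpr fun y hy => ?_
      have hy' : y ∈ Subgroup.zpowers u := hu ▸ hy
      obtain ⟨i, rfl⟩ := Subgroup.mem_zpowers_iff.mp hy'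
      have hcu : Commute g₀ u := by
        have : u = (g₀ ^ p) ^ t := by rw [← hs', ← pow_mul, ← pow_mod_orderOf, huo, ht, pow_one]
        rw [this]; exact ((Commute.refl g₀).pow_right p).pow_right t
      exact (hcu.zpow_right i).eq.symm
    obtain ⟨s', rfl⟩ := hps
    obtain ⟨t, -, ht⟩ := Nat.exists_mul_mod_eq_one_of_coprime ((hp.coprime_iff_not_dvd.mpr hwp).symm.pow_right n) (Nat.one_lt_pow (by omega) hp.one_lt)
    obtain ⟨i, hi⟩ : ∃ i, (p ^ n) ∣ i * (p * w) + p * s' := by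
      refine ⟨(p ^ n - 1) * s' * t, ?_⟩
      have h1 : w * t ≡ 1 [MOD p ^ n] := by rw [Nat.ModEq, ht, Nat.mod_eq_of_lt (Nat.one_lt_pow (by omega) hp.one_lt)]
      rw [← Nat.modEq_zero_iff_dvd]
      calc (p ^ n - 1) * s' * t * (p * w) + p * s' = (p ^ n - 1) * (p * s') * (w * t) + p * s' := by ring
        _ ≡ (p ^ n - 1) * (p * s') * 1 + p * s' [MOD p ^ n] := (h1.mul_left _).add_right _
        _ = p ^ n * (p * s') := by
          rw [mul_one, Nat.sub_mul, one_mul, Nat.sub_add_cancel (Nat.le_mul_of_pos_left _ (pow_pos hp.pos n))]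
        _ ≡ 0 [MOD p ^ n] := Nat.modEq_zero_iff_dvd.mpr (dvd_mul_right _ _)
    refine ⟨u ^ i * g₀, M.mul_mem (hUM (hu ▸ Subgroup.pow_mem _ (Subgroup.mem_zpowers u) i)) hg₀', fun h => hg₀ ?_, ?_⟩
    · have hui : u ^ i ∈ U := hu ▸ Subgroup.pow_mem _ (Subgroup.mem_zpowers u) i
      have := U.mul_mem (U.inv_mem hui) h
      rwa [inv_mul_cancel_left] at this
    · rw [hw, ← hs', ← pow_add, ← orderOf_dvd_iff_pow_eq_one, huo]
      exact hi
  -- the elements of order dividing `p` in `M`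
  have hΩ : ∀ x ∈ M, x ^ p = 1 → x ∈ Z ⊔ Subgroup.zpowers e := by
    intro x hx hxp
    have hker : ∃ j : ℕ, x * (e ^ j)⁻¹ ∈ U := by
      haveI : IsCyclic (M ⧸ U.subgroupOf M) := isCyclic_of_prime_card (p := p) hrel
      have hne : (QuotientGroup.mk' (U.subgroupOf M) ⟨e, heM⟩) ≠ 1 := fun h => heU ((QuotientGroup.eq_one_iff (N := U.subgroupOf M) (⟨e, heM⟩ : M)).mp h)
      have hmem : QuotientGroup.mk' (U.subgroupOf M) ⟨x, hx⟩ ∈ Subgroup.zpowers (QuotientGroup.mk' (U.subgroupOf M) ⟨e, heM⟩) :=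
        mem_zpowers_of_prime_card (p := p) hrel hne
      obtain ⟨j, hj⟩ := mem_powers_iff_mem_zpowers.mpr hmem
      refine ⟨j, ?_⟩
      have hj' : QuotientGroup.mk' (U.subgroupOf M) (⟨x, hx⟩ * (⟨e, heM⟩ ^ j)⁻¹) = 1 := by
        rw [map_mul, map_inv, map_pow, show (QuotientGroup.mk' (U.subgroupOf M) ⟨e, heM⟩) ^ j = _ from hj, mul_inv_cancel]
      exact (QuotientGroup.eq_one_iff (N := U.subgroupOf M) _).mp hj'
    obtain ⟨j, hj⟩ := hker
    rw [hu] at hj
    obtain ⟨i, hi⟩ := mem_powers_iff_mem_zpowers.mpr hj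
    have hxe : x = u ^ i * e ^ j := by rw [show u ^ i = x * (e ^ j)⁻¹ from hi, inv_mul_cancel_right]
    obtain ⟨w, hwp, hw⟩ := hpw (e ^ j) (M.pow_mem heM j)
    rw [hxe, hw, show (e ^ j) ^ p = 1 by rw [← pow_mul, mul_comm, pow_mul, hep, one_pow], mul_one, ← orderOf_dvd_iff_pow_eq_one, huo] at hxp
    have hiz : u ^ i ∈ Z := by
      refine hUp _ (hu ▸ Subgroup.pow_mem _ (Subgroup.mem_zpowers u) i) ?_
      rw [← pow_mul, ← orderOf_dvd_iff_pow_eq_one, huo]
      rw [← mul_assoc] at hxp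
      exact ((hp.coprime_iff_not_dvd.mpr hwp).pow_left n).dvd_of_dvd_mul_right hxp
    rw [hxe]
    exact Subgroup.mul_mem_sup hiz (Subgroup.pow_mem _ (Subgroup.mem_zpowers e) j)
  set E := Cfsg.omegaOne p M with hEdef
  have hEle : E ≤ Z ⊔ Subgroup.zpowers e := (Subgroup.closure_le _).mpr fun x hx => hΩ x hx.1 hx.2
  have hZU : Z ≤ U := Subgroup.zpowers_le.mpr (hu ▸ Subgroup.pow_mem _ (Subgroup.mem_zpowers u) _)
  have hzp : z ^ p = 1 := by rw [← hzo, pow_orderOf_eq_one]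
  have hEeq : E = Z ⊔ Subgroup.zpowers e := le_antisymm hEle (sup_le
    (Subgroup.zpowers_le.mpr (Subgroup.subset_closure ⟨hUM (hZU (Subgroup.mem_zpowers z)), hzp⟩))
    (Subgroup.zpowers_le.mpr (Subgroup.subset_closure ⟨heM, hep⟩)))
  haveI : Z.Normal := ⟨fun y hy g => by rw [Subgroup.mem_center_iff.mp (hZc hy) g, mul_inv_cancel_right]; exact hy⟩
  have hcommE : ∀ a ∈ E, ∀ b ∈ E, a * b = b * a := by
    intro a ha b hb
    rw [hEeq] at ha hb
    obtain ⟨z1, hz1, e1, he1, rfl⟩ := Subgroup.mem_sup_of_normal_left.mp ha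
    obtain ⟨z2, hz2, e2, he2, rfl⟩ := Subgroup.mem_sup_of_normal_left.mp hb
    obtain ⟨j1, rfl⟩ := Subgroup.mem_zpowers_iff.mp he1
    obtain ⟨j2, rfl⟩ := Subgroup.mem_zpowers_iff.mp he2
    have c1 := Subgroup.mem_center_iff.mp (hZc hz1)
    have c2 := Subgroup.mem_center_iff.mp (hZc hz2)
    calc z1 * e ^ j1 * (z2 * e ^ j2) = z1 * (e ^ j1 * z2) * e ^ j2 := by group
      _ = z1 * z2 * (e ^ j1 * e ^ j2) := by rw [c2]; group
      _ = z2 * z1 * (e ^ j2 * e ^ j1) := by rw [← c1 z2, ((Commute.refl e).zpow_zpow j1 j2).eq]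
      _ = z2 * (z1 * e ^ j2) * e ^ j1 := by group
      _ = _ := by rw [← c1 (e ^ j2)]; group
  have hexpE : ∀ a ∈ E, a ^ p = 1 := by
    intro a ha
    rw [hEeq] at ha
    obtain ⟨z1, hz1, e1, he1, rfl⟩ := Subgroup.mem_sup_of_normal_left.mp ha
    obtain ⟨j1, rfl⟩ := Subgroup.mem_zpowers_iff.mp he1
    obtain ⟨k1, rfl⟩ := Subgroup.mem_zpowers_iff.mp hz1
    have hc : Commute (z ^ k1) (e ^ j1) :=
      ((show Commute e z from Subgroup.mem_center_iff.mp (hZc (Subgroup.mem_zpowers z)) e).zpow_zpow j1 k1).symm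
    rw [hc.mul_pow, ← zpow_natCast (z ^ k1), ← zpow_natCast (e ^ j1), zpow_comm z, zpow_comm e, zpow_natCast, zpow_natCast, hzp, hep, one_zpow, one_zpow, one_mul]
  have hEM : E ≤ M := (Subgroup.closure_le _).mpr fun x hx => hx.1
  have hcard : Nat.card E = p ^ 2 := by
    have hZE : Z ≤ E := hEeq ▸ le_sup_left
    have hdisj : Disjoint Z (Subgroup.zpowers e) := by
      rw [Subgroup.disjoint_def]
      intro y hy hy'
      by_contra hy1
      haveI : Fact (1 < p) := ⟨hp.one_lt⟩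
      have hoe : orderOf e = p := orderOf_eq_prime hep fun h => heU (h ▸ U.one_mem)
      have hgen : Subgroup.zpowers y = Subgroup.zpowers e := by
        refine Subgroup.eq_of_le_of_card_ge (Subgroup.zpowers_le.mpr hy') ?_
        rw [Nat.card_zpowers, Nat.card_zpowers, hoe]
        exact (((Nat.dvd_prime hp).mp (hoe ▸ (Nat.card_zpowers e ▸ Subgroup.orderOf_dvd_natCard _ hy'))).resolve_left
          (fun h => hy1 (orderOf_eq_one_iff.mp h))).ge
      exact heU (hZU (Subgroup.zpowers_le.mpr hy (hgen ▸ Subgroup.mem_zpowers e)))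
    rw [hEeq, Cfsg.Agent.Coprime.card_sup_of_disjoint (le_of_le_of_eq le_top (Subgroup.normalizer_eq_top_iff.mpr inferInstance).symm) hdisj, hZdef, Nat.card_zpowers, Nat.card_zpowers, hzo, orderOf_eq_prime hep fun h => heU (h ▸ U.one_mem), sq]
  refine ⟨hrel, ⟨⟨⟨fun a b => Subtype.ext (hcommE a a.2 b b.2)⟩⟩, hexpE⟩, hcard, ?_⟩
  haveI hEn : E.Normal := by
    refine Subgroup.Normal.mk fun x hx g => ?_
    refine Subgroup.closure_induction (p := fun x _ => g * x * g⁻¹ ∈ E) ?_ ?_ ?_ ?_ hx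
    · intro y hy
      exact Subgroup.subset_closure ⟨hMn.conj_mem y hy.1 g, by rw [conj_pow, hy.2, mul_one, mul_inv_cancel]⟩
    · simp [one_mem]
    · intro a b _ _ ha hb
      have := E.mul_mem ha hb
      rwa [show g * a * g⁻¹ * (g * b * g⁻¹) = g * (a * b) * g⁻¹ by group] at this
    · intro a _ ha
      have := E.inv_mem ha
      rwa [show (g * a * g⁻¹)⁻¹ = g * a⁻¹ * g⁻¹ by group] at this
  refine Subgroup.characteristic_iff_map_eq.mpr fun φ => ?_
  set F := E.map φ.toMonoidHom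
  haveI hFn : F.Normal := hEn.map _ φ.surjective
  have hFp : ∀ x ∈ F, x ^ p = 1 := by
    rintro _ ⟨a, ha, rfl⟩; rw [← map_pow, hexpE a ha, map_one]
  refine Subgroup.eq_of_le_of_card_ge (fun x hx => ?_) (by rw [Subgroup.card_map_of_injective (f := φ.toMonoidHom) φ.injective])
  refine Subgroup.subset_closure ⟨(hcomm x).mpr (hUp _ ?_ (hFp _ ?_)), hFp x hx⟩
  · have huU : u ∈ U := hu ▸ Subgroup.mem_zpowers u
    exact U.mul_mem ((inferInstance : U.Normal).conj_mem u huU x) (U.inv_mem huU)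
  · rw [show x * u * x⁻¹ * u⁻¹ = x * (u * x⁻¹ * u⁻¹) by group]
    exact F.mul_mem hx (hFn.conj_mem _ (F.inv_mem hx) u)

end

/-- Let G be a finite non-abelian p-group with a cyclic normal subgroup U of order p^n such that C_G(U) = U. Then either p = 2 and G is dihedral, generalized quaternion or semidihedral of order 2^(n+1); or, writing U₁ for the subgroup generated by the p-th powers of elements of U and M = C_G(U₁), the subgroup U has index p in M and the subgroup Ω₁(M) generated by the elements of M of order dividing p is elementary abelian of order p² and characteristic in G. -/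
theorem result {G : Type*} [Group G] [Finite G] {p : ℕ} [Fact p.Prime] (hG : IsPGroup p G) (hna : ¬ IsMulCommutative G) (U : Subgroup G) [U.Normal] (hU : IsCyclic U) (n : ℕ) (hUn : Nat.card U = p ^ n) (hC : Subgroup.centralizer (U : Set G) = U) : (p = 2 ∧ Nat.card G = 2 ^ (n + 1) ∧ ((∃ m : ℕ, Nonempty (G ≃* DihedralGroup m)) ∨ (∃ m : ℕ, Nonempty (G ≃* QuaternionGroup m)) ∨ Cfsg.IsQuasiDihedral G)) ∨ (U.relIndex (Subgroup.centralizer (Cfsg.powerClosure p 1 U : Set G)) = p ∧ Cfsg.IsElementaryAbelian p (Cfsg.omegaOne p (Subgroup.centralizer (Cfsg.powerClosure p 1 U : Set G))) ∧ Nat.card ↥(Cfsg.omegaOne p (Subgroup.centralizer (Cfsg.powerClosure p 1 U : Set G))) = p ^ 2 ∧ (Cfsg.omegaOne p (Subgroup.centralizer (Cfsg.powerClosure p 1 U : Set G))).Characteristic) := by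
  classical
  have hp : p.Prime := Fact.out
  obtain ⟨⟨u, huU⟩, hu⟩ := hU.exists_generator
  have hueq : U = Subgroup.zpowers u := by
    refine le_antisymm (fun x hx => ?_) (Subgroup.zpowers_le.mpr huU)
    obtain ⟨i, hi⟩ := Subgroup.mem_zpowers_iff.mp (hu ⟨x, hx⟩)
    exact Subgroup.mem_zpowers_iff.mpr ⟨i, congrArg Subtype.val hi⟩
  have huo : orderOf u = p ^ n := by rw [← hUn, hueq, Nat.card_zpowers]
  have hmemU : ∀ g : G, g * u * g⁻¹ = u → g ∈ U := fun g hg => by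
    rw [← hC]
    refine Subgroup.mem_centralizer_iff.mpr fun y hy => ?_
    have hy' : y ∈ Subgroup.zpowers u := hueq ▸ hy
    obtain ⟨i, rfl⟩ := Subgroup.mem_zpowers_iff.mp hy'
    exact ((show Commute g u from mul_inv_eq_iff_eq_mul.mp hg).zpow_right i).eq.symm
  have hr : ∀ g : G, ∃ r : ℕ, g * u * g⁻¹ = u ^ r := fun g => by
    have hconj : g * u * g⁻¹ ∈ U := (inferInstance : U.Normal).conj_mem u huU g
    rw [hueq] at hconj
    obtain ⟨r, hr⟩ := mem_powers_iff_mem_zpowers.mpr hconj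
    exact ⟨r, hr.symm⟩
  have hUne : U ≠ ⊤ := fun h => hna ⟨⟨fun a b => by
    have ha : a ∈ Subgroup.centralizer (U : Set G) := hC.symm ▸ h ▸ Subgroup.mem_top a
    exact (Subgroup.mem_centralizer_iff.mp ha b (h ▸ Subgroup.mem_top b : b ∈ U)).symm⟩⟩
  have hn1 : 2 ≤ n := by
    by_contra hlt
    apply hUne
    rw [eq_top_iff]
    intro g _
    rcases Nat.eq_zero_or_pos n with rfl | hn0
    · apply hmemU
      have : u = 1 := orderOf_eq_one_iff.mp (by rw [huo, pow_zero])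
      rw [this]; simp
    · have hcard : Nat.card U = p := by rw [hUn, show n = 1 by omega, pow_one]
      have hUc := Cfsg.Agent.PLocal.CyclicExtension.le_center_of_card_eq hG hcard
      apply hmemU
      rw [Subgroup.mem_center_iff.mp (hUc huU) g, mul_inv_cancel_right]
  -- an element of order `p` modulo `U`
  have hcomU : ∀ g : G, g ^ p ∈ U → ∀ r : ℕ, g * u * g⁻¹ = u ^ r → r ^ p ≡ 1 [MOD p ^ n] := by
    intro g hg r hgr
    have h1 := Cfsg.Agent.PGroups.UniqueSubgroup.pow_conj_eq hgr p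
    rw [hueq] at hg
    obtain ⟨i, hi⟩ := Subgroup.mem_zpowers_iff.mp hg
    rw [← hi, ((Commute.refl u).zpow_left i).eq, mul_inv_cancel_right] at h1
    have h2 : u ^ 1 = u ^ (r ^ p) := by rwa [pow_one]
    rw [pow_eq_pow_iff_modEq, huo] at h2
    exact h2.symm
  -- `r ≡ 1` modulo `p ^ (n - 1)` puts `g` into `M`
  have hinM : ∀ (g : G) (r : ℕ), g * u * g⁻¹ = u ^ r → ((p ^ (n - 1) : ℕ) : ℤ) ∣ (r : ℤ) - 1 → Commute g (u ^ p) := by
    intro g r hgr hd
    apply mul_inv_eq_iff_eq_mul.mp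
    rw [← conj_pow, hgr, ← pow_mul, pow_eq_pow_iff_modEq, huo, Nat.modEq_iff_dvd]
    obtain ⟨c, hc⟩ := hd
    refine ⟨-c, ?_⟩
    push_cast at hc ⊢
    rw [show (p : ℤ) ^ n = (p : ℤ) ^ (n - 1) * p by rw [← pow_succ]; congr 1; omega]
    linear_combination (-(p : ℤ)) * hc
  have hfac : ∀ r : ℕ, r % p = 1 → (p = 2 → r % 4 = 1) → r ^ p ≡ 1 [MOD p ^ n] → ((p ^ (n - 1) : ℕ) : ℤ) ∣ (r : ℤ) - 1 := by
    intro r hr1 hr4 hrp
    obtain ⟨w, hw, hwp⟩ := Cfsg.Agent.PGroups.UniqueSubgroup.geom_sum_of_mod hp hr1 hr4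
    have h1 : ((p ^ n : ℕ) : ℤ) ∣ (r : ℤ) ^ p - 1 := by
      have := Nat.modEq_iff_dvd.mp hrp.symm; simpa using this
    rw [← geom_sum_mul (r : ℤ) p, show (∑ i ∈ Finset.range p, (r : ℤ) ^ i) = ((p * w : ℕ) : ℤ) by rw [← hw]; push_cast; rfl] at h1
    push_cast at h1 ⊢
    rw [show (p : ℤ) ^ n = (p : ℤ) * (p : ℤ) ^ (n - 1) by rw [← pow_succ']; congr 1; omega, mul_assoc] at h1
    refine IsCoprime.dvd_of_dvd_mul_left ?_ (Int.dvd_of_mul_dvd_mul_left (by exact_mod_cast hp.ne_zero) h1)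
    exact (Nat.isCoprime_iff_coprime.mpr (hp.coprime_iff_not_dvd.mpr hwp)).pow_left
  by_cases hex : ∃ g : G, g ∉ U ∧ Commute g (u ^ p) ∧ (p = 2 → 3 ≤ n)
  · obtain ⟨g, hg, hgM, h3⟩ := hex
    exact Or.inr (modular hG U u hueq n hn1 h3 huo hC g hg hgM)
  left
  push Not at hex
  -- some element of order `p` modulo `U`
  obtain ⟨g₀, hg₀, hg₀p⟩ : ∃ g, g ∉ U ∧ g ^ p ∈ U := by
    obtain ⟨x, hx⟩ : ∃ x, x ∉ U := by
      by_contra h; push Not at h; exact hUne ((Subgroup.eq_top_iff' U).mpr h)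
    obtain ⟨k, hk⟩ := hG x
    obtain ⟨j, hj, hj'⟩ : ∃ j, x ^ p ^ j ∉ U ∧ x ^ p ^ (j + 1) ∈ U := by
      have hex' : ∃ j, x ^ p ^ j ∈ U := ⟨k, by rw [hk]; exact one_mem U⟩
      have h0 : Nat.find hex' ≠ 0 := fun h => hx (by have := Nat.find_spec hex'; rw [h, pow_zero, pow_one] at this; exact this)
      exact ⟨Nat.find hex' - 1, Nat.find_min hex' (by omega), by rw [Nat.sub_add_cancel (by omega)]; exact Nat.find_spec hex'⟩
    exact ⟨x ^ p ^ j, hj, by rwa [← pow_mul, ← pow_succ]⟩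
  have hp2 : p = 2 := by
    by_contra hne
    obtain ⟨r, hgr⟩ := hr g₀
    have hrp := hcomU g₀ hg₀p r hgr
    have hr1 : r % p = 1 := by
      have h1 : ((r : ZMod p)) ^ p = 1 := by
        have := hrp.of_dvd (dvd_pow_self p (by omega : n ≠ 0))
        rw [← ZMod.natCast_eq_natCast_iff, Nat.cast_pow, Nat.cast_one] at this
        exact this
      rw [ZMod.pow_card] at h1
      have h2 := (ZMod.natCast_eq_natCast_iff r 1 p).mp (by rw [Nat.cast_one]; exact h1)
      rw [Nat.ModEq, Nat.one_mod_eq_one.mpr hp.ne_one] at h2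
      exact h2
    exact hne (hex g₀ hg₀ (hinM g₀ r hgr (hfac r hr1 (fun h => absurd h hne) hrp))).1
  subst hp2
  -- all elements outside `U` have exponent `≡ 3` modulo `4`
  have hodd : ∀ g r, g * u * g⁻¹ = u ^ r → r % 2 = 1 := by
    intro g r hgr
    by_contra hev
    have ho : orderOf (u ^ r) = 2 ^ n := by rw [← hgr, Cfsg.Agent.Involutions.Basic.orderOf_conj, huo]
    have hd : orderOf (u ^ r) ∣ 2 ^ (n - 1) := orderOf_dvd_of_pow_eq_one (by
      rw [← pow_mul, ← orderOf_dvd_iff_pow_eq_one, huo, show 2 ^ n = 2 * 2 ^ (n - 1) by rw [← pow_succ']; congr 1; omega]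
      exact Nat.mul_dvd_mul (Nat.dvd_of_mod_eq_zero (by omega)) dvd_rfl)
    rw [ho, Nat.pow_dvd_pow_iff_le_right (by norm_num)] at hd
    omega
  have h4 : ∀ g, g ∉ U → g ^ 2 ∈ U → ∀ r, g * u * g⁻¹ = u ^ r → r % 4 = 3 := by
    intro g hg hg2 r hgr
    have := hodd g r hgr
    by_contra hne
    have hr4 : r % 4 = 1 := by omega
    rcases Nat.lt_or_ge n 3 with h3 | h3
    · have hn2 : n = 2 := by omega
      subst hn2
      apply hg; apply hmemU
      rw [hgr, ← pow_mod_orderOf, huo, show (2 : ℕ) ^ 2 = 4 by norm_num, hr4, pow_one]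
    · have := (hex g hg (hinM g r hgr (hfac r (by omega) (fun _ => hr4) (hcomU g hg2 r hgr)))).2
      omega
  have hsq : ∀ g : G, g ^ 2 ∈ U := by
    intro h
    by_contra hh
    obtain ⟨k, hk⟩ := hG h
    have hex' : ∃ j, h ^ 2 ^ j ∈ U := ⟨k, by rw [hk]; exact one_mem U⟩
    have hge : 2 ≤ Nat.find hex' := by
      by_contra hlt
      have := Nat.find_spec hex'
      interval_cases hj : Nat.find hex'
      · rw [pow_zero, pow_one] at this; exact hh (U.pow_mem this 2)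
      · rw [pow_one] at this; exact hh this
    set g := h ^ 2 ^ (Nat.find hex' - 1) with hgdef
    have hg : g ∉ U := Nat.find_min hex' (by omega)
    have hg2 : g ^ 2 ∈ U := by
      rw [hgdef, ← pow_mul, ← pow_succ, Nat.sub_add_cancel (by omega)]; exact Nat.find_spec hex'
    obtain ⟨s, hs⟩ := hr (h ^ 2 ^ (Nat.find hex' - 2))
    have hgs : g = (h ^ 2 ^ (Nat.find hex' - 2)) ^ 2 := by
      rw [hgdef, ← pow_mul, ← pow_succ]; congr 2; omega
    have := h4 g hg hg2 (s ^ 2) (by rw [hgs]; exact Cfsg.Agent.PGroups.UniqueSubgroup.pow_conj_eq hs 2)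
    have h5 := hodd _ s hs
    rw [sq, Nat.mul_mod] at this
    rcases (show s % 4 = 1 ∨ s % 4 = 3 by omega) with h6 | h6 <;> rw [h6] at this <;> omega
  have hidx : U.index = 2 := by
    rw [Subgroup.index_eq_two_iff]
    refine ⟨g₀, fun b => ?_⟩
    by_cases hb : b ∈ U
    · right
      refine ⟨hb, fun h => hg₀ ?_⟩
      have := U.mul_mem (U.inv_mem hb) h
      rwa [inv_mul_cancel_left] at this
    · left
      refine ⟨?_, hb⟩
      by_contra hbg
      obtain ⟨r, hgr⟩ := hr g₀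
      obtain ⟨s, hbs⟩ := hr b
      have h1 := h4 g₀ hg₀ (hsq g₀) r hgr
      have h2 := h4 b hb (hsq b) s hbs
      have h3 := h4 (b * g₀) hbg (hsq _) (s * r) (by
        calc b * g₀ * u * (b * g₀)⁻¹ = b * (g₀ * u * g₀⁻¹) * b⁻¹ := by group
          _ = u ^ (s * r) := by rw [hgr, ← conj_pow, hbs, ← pow_mul])
      rw [Nat.mul_mod, h1, h2] at h3
      omega
  have hcard : Nat.card G = 2 ^ (n + 1) := by rw [← U.card_mul_index, hUn, hidx, pow_succ]
  refine ⟨rfl, hcard, ?_⟩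
  obtain ⟨r, hgr⟩ := hr g₀
  have hr3 := h4 g₀ hg₀ (hsq g₀) r hgr
  have hN : ∀ i : ℤ, u ^ i = 1 ↔ (2 : ℤ) ^ n ∣ i := fun i => by
    rw [← orderOf_dvd_iff_zpow_eq_one, huo]; push_cast; rfl
  have hrsq : (2 : ℤ) ^ n ∣ ((r : ℤ) - 1) * ((r : ℤ) + 1) := by
    have := Nat.modEq_iff_dvd.mp (hcomU g₀ (hsq g₀) r hgr).symm
    push_cast at this
    rwa [show ((r : ℤ) - 1) * ((r : ℤ) + 1) = (r : ℤ) ^ 2 - 1 by ring]
  obtain ⟨o, ho⟩ : (2 : ℤ) ∣ (r : ℤ) - 1 := by omega
  have hoo : ¬ (2 : ℤ) ∣ o := by omega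
  have hcop : IsCoprime ((2 : ℤ) ^ (n - 1)) o := ((Prime.coprime_iff_not_dvd Int.prime_two).2 hoo).pow_left
  have hk1 : (2 : ℤ) ^ (n - 1) ∣ (r : ℤ) + 1 := by
    rw [ho, show (2 : ℤ) ^ n = 2 * 2 ^ (n - 1) by rw [← pow_succ']; congr 1; omega, mul_assoc] at hrsq
    exact hcop.dvd_of_dvd_mul_left (Int.dvd_of_mul_dvd_mul_left (by norm_num) hrsq)
  have hhalf : ∀ i : ℤ, (2 : ℤ) ^ (n - 1) ∣ i → u ^ i = 1 ∨ u ^ i = u ^ (2 ^ (n - 1) : ℕ) := by
    rintro i ⟨c, rfl⟩
    rcases Int.even_or_odd c with ⟨d, rfl⟩ | ⟨d, rfl⟩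
    · left; rw [hN]; exact ⟨d, by rw [show (2 : ℤ) ^ n = 2 * 2 ^ (n - 1) by rw [← pow_succ']; congr 1; omega]; ring⟩
    · right
      rw [← zpow_natCast, show (2 : ℤ) ^ (n - 1) * (2 * d + 1) = (2 : ℤ) ^ n * d + ((2 ^ (n - 1) : ℕ) : ℤ) by
        rw [show (2 : ℤ) ^ n = 2 * 2 ^ (n - 1) by rw [← pow_succ']; congr 1; omega]; push_cast; ring,
        zpow_add, (hN _).mpr (dvd_mul_right _ _), one_mul]
  have hgg : g₀ * g₀ = 1 ∨ g₀ * g₀ = u ^ (2 ^ (n - 1) : ℕ) := by
    have h2 := hsq g₀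
    rw [hueq] at h2
    obtain ⟨j, hj⟩ := Subgroup.mem_zpowers_iff.mp h2
    rw [← sq, ← hj]
    refine hhalf j ?_
    have h1 : g₀ * u ^ j * g₀⁻¹ = u ^ j := by rw [hj]; group
    rw [← conj_zpow, hgr, ← zpow_natCast, ← zpow_mul] at h1
    have h3 : u ^ (((r : ℤ) - 1) * j) = 1 := by rw [sub_one_mul, zpow_sub, h1, mul_inv_cancel]
    rw [hN, ho, show (2 : ℤ) ^ n = 2 * 2 ^ (n - 1) by rw [← pow_succ']; congr 1; omega, mul_assoc] at h3
    exact hcop.dvd_of_dvd_mul_left (Int.dvd_of_mul_dvd_mul_left (by norm_num) h3)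
  have hnot : g₀ ∉ Subgroup.zpowers u := hueq ▸ hg₀
  rcases hhalf _ hk1 with hk | hk
  · have hinv : g₀ * u * g₀⁻¹ = u⁻¹ := by
      rw [hgr]
      refine eq_inv_of_mul_eq_one_left ?_
      rw [← pow_succ, ← zpow_natCast]; push_cast; exact hk
    rcases hgg with h | h
    · left
      obtain ⟨f, hf, -, -⟩ := Cfsg.Agent.Classical.CyclicExt.exists_dihedral_hom u g₀ huo h hinv hnot
      refine ⟨2 ^ n, ⟨(MulEquiv.ofBijective f ⟨hf, ?_⟩).symm⟩⟩
      exact ((Nat.bijective_iff_injective_and_card f).mpr ⟨hf, by rw [hcard, DihedralGroup.nat_card, pow_succ']⟩).2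
    · right; left
      obtain ⟨f, hf⟩ := Cfsg.Agent.Classical.CyclicExt.exists_quaternion_hom (n := 2 ^ (n - 1)) u g₀
        (by rw [huo, ← pow_succ']; congr 1; omega) h hinv hnot
      refine ⟨2 ^ (n - 1), ⟨(MulEquiv.ofBijective f ⟨hf, ?_⟩).symm⟩⟩
      haveI : NeZero (2 ^ (n - 1)) := ⟨by positivity⟩
      exact ((Nat.bijective_iff_injective_and_card f).mpr ⟨hf, by
        rw [hcard, Nat.card_eq_fintype_card, QuaternionGroup.card, show (4 : ℕ) = 2 ^ 2 by norm_num, ← pow_add]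
        congr 1; omega⟩).2
  · right; right
    have hsd : g₀ * u * g₀⁻¹ = u ^ (2 ^ (n - 1) - 1 : ℕ) := by
      rw [hgr, ← zpow_natCast, ← zpow_natCast, Nat.cast_sub (Nat.one_le_two_pow), Nat.cast_one, zpow_sub_one,
        zpow_natCast u (2 ^ (n - 1)), ← hk, zpow_add_one, mul_inv_cancel_right]
    have hn3 : 3 ≤ n := by
      by_contra hlt
      have hn2 : n = 2 := by omega
      subst hn2
      have h := hodd g₀ r hgr
      norm_num at hsd
      rw [← pow_mod_orderOf, huo] at hgr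
      norm_num [hr3] at hgr
      rw [hsd] at hgr
      have h2 : u ^ 2 = 1 := by
        calc u ^ 2 = u ^ 3 * u⁻¹ := by group
          _ = 1 := by rw [← hgr, mul_inv_cancel]
      have := orderOf_dvd_of_pow_eq_one h2
      rw [huo] at this
      norm_num at this
    rcases hgg with h | h
    · exact ⟨n, hn3, hcard, u, g₀, huo, orderOf_eq_prime (by rw [sq]; exact h) (fun e => hg₀ (e ▸ one_mem U)), hsd⟩
    · refine ⟨n, hn3, hcard, u, g₀ * u, huo, orderOf_eq_prime ?_ (fun e => hg₀ ?_), ?_⟩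
      · calc (g₀ * u) ^ 2 = (g₀ * u * g₀⁻¹) * (g₀ * g₀) * u := by rw [sq]; group
          _ = u ^ (2 ^ (n - 1) - 1 : ℕ) * u ^ (2 ^ (n - 1) : ℕ) * u := by rw [hsd, h]
          _ = u ^ (2 ^ n) := by
            rw [← pow_add, ← pow_succ]; congr 1
            have := Nat.one_le_two_pow (n := n - 1)
            have : 2 ^ n = 2 ^ (n - 1) * 2 := by rw [← pow_succ]; congr 1; omega
            omega
          _ = 1 := by rw [← huo, pow_orderOf_eq_one]
      · have := U.mul_mem (e ▸ one_mem U : g₀ * u ∈ U) (U.inv_mem huU)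
        rwa [mul_inv_cancel_right] at this
      · rw [← hsd]; group

end Cfsg.Agent.S3761
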