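import Cfsg.Statements.S3734
import Mathlib
import Cfsg.Agent.Lib.Coprime.Generation
import Cfsg.Agent.Lib.Coprime.Commutator

set_option autoImplicit false
open Cfsg
open scoped commutatorElement

namespace Cfsg.Agent.S3734
open Cfsg.Agent.Coprime in
theorem le_of_fixed_le {X : Type*} [Group X] [Finite X] (A : Subgroup X) [hA : IsMulCommutative A] (R : Subgroup X) :
    ∀ n : ℕ, ∀ K : Subgroup X, A ≤ Subgroup.normalizer (K : Set X) → (Nat.card A).Coprime (Nat.card K) →
      (A ⊓ Subgroup.centralizer (K : Set X)).relIndex A = n →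
      (∀ L : Subgroup X, L ≤ K → (∃ a ∈ A, (A ⊓ Subgroup.centralizer (L : Set X)) ⊔ Subgroup.zpowers a = A) → L ≤ R) →
      K ≤ R := by
  classical
  intro n
  induction n using Nat.strong_induction_on with
  | _ n ih =>
    intro K hAK hcop hn hR
    set D := A ⊓ Subgroup.centralizer (K : Set X) with hD
    by_cases hcyc : ∃ a ∈ A, D ⊔ Subgroup.zpowers a = A
    · exact hR K le_rfl hcyc
    let φ : ↥A →* MulAut ↥K := (Subgroup.normalizerMonoidHom K).comp (Subgroup.inclusion hAK)
    have hφ : ∀ (a : ↥A) (k : ↥K), ((φ a k : ↥K) : X) = (a : X) * k * (a : X)⁻¹ := fun a k => rfl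
    have hker : ∀ a : ↥A, φ a = 1 → (a : X) ∈ D := by
      intro a h
      refine ⟨a.2, Subgroup.mem_centralizer_iff.mpr fun k hk => ?_⟩
      have h1 := hφ a ⟨k, hk⟩
      rw [h] at h1
      exact (mul_inv_eq_iff_eq_mul.mp h1.symm).symm
    let ι : ↥K →* SemidirectProduct ↥K ↥φ.range φ.range.subtype := SemidirectProduct.inl
    let κ : ↥φ.range →* SemidirectProduct ↥K ↥φ.range φ.range.subtype := SemidirectProduct.inr
    haveI : Finite (SemidirectProduct ↥K ↥φ.range φ.range.subtype) := Finite.of_equiv _ SemidirectProduct.equivProd.symm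
    haveI hAc' : IsMulCommutative ↥κ.range := by
      refine ⟨⟨fun x y => ?_⟩⟩
      obtain ⟨⟨_, a, rfl⟩, hx⟩ := x.2
      obtain ⟨⟨_, b, rfl⟩, hy⟩ := y.2
      refine Subtype.ext ?_
      show (x : SemidirectProduct ↥K ↥φ.range φ.range.subtype) * (y : SemidirectProduct ↥K ↥φ.range φ.range.subtype) = (y : SemidirectProduct ↥K ↥φ.range φ.range.subtype) * x
      rw [← hx, ← hy, ← map_mul, ← map_mul]
      congr 1
      refine Subtype.ext ?_
      show φ a * φ b = φ b * φ a
      rw [← map_mul, ← map_mul, hA.is_comm.comm a b]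
    have hnc : ¬ IsCyclic ↥κ.range := by
      intro hc
      obtain ⟨g, hg⟩ := hc.exists_generator
      obtain ⟨⟨_, a, rfl⟩, hga⟩ := g.2
      refine hcyc ⟨a, a.2, le_antisymm (sup_le inf_le_left (Subgroup.zpowers_le.mpr a.2)) fun b hb => ?_⟩
      obtain ⟨i, hi⟩ := hg ⟨κ ⟨φ ⟨b, hb⟩, ⟨b, hb⟩, rfl⟩, _, rfl⟩
      have h1 : (g : SemidirectProduct ↥K ↥φ.range φ.range.subtype) ^ i = κ ⟨φ ⟨b, hb⟩, ⟨b, hb⟩, rfl⟩ := by
        have := congrArg Subtype.val hi
        simpa using this
      rw [← hga, ← map_zpow] at h1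
      have h2 : φ a ^ i = φ ⟨b, hb⟩ := congrArg Subtype.val (SemidirectProduct.inr_injective h1)
      have h3 : (((⟨b, hb⟩ : ↥A) * (a ^ i)⁻¹ : ↥A) : X) ∈ D := hker _ (by rw [map_mul, map_inv, map_zpow, h2, mul_inv_cancel])
      have h4 := Subgroup.mul_mem_sup h3 (Subgroup.zpow_mem_zpowers (a : X) i)
      simpa using h4
    have hnorm : κ.range ≤ Subgroup.normalizer (ι.range : Set (SemidirectProduct ↥K ↥φ.range φ.range.subtype)) := by
      haveI : ι.range.Normal := by
        show (SemidirectProduct.inl : ↥K →* _).range.Normal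
        rw [SemidirectProduct.range_inl_eq_ker_rightHom]
        infer_instance
      exact Subgroup.le_normalizer_of_normal
    have hcop' : (Nat.card κ.range).Coprime (Nat.card ι.range) := by
      rw [← Nat.card_congr (MonoidHom.ofInjective (SemidirectProduct.inr_injective (φ := φ.range.subtype))).toEquiv,
        ← Nat.card_congr (MonoidHom.ofInjective (SemidirectProduct.inl_injective (φ := φ.range.subtype))).toEquiv]
      exact hcop.coprime_dvd_left (Subgroup.card_range_dvd φ)
    have hgen := fixedGen_eq hnc hnorm hcop'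
    intro k hk
    have hmem : ι ⟨k, hk⟩ ∈ ι.range := ⟨_, rfl⟩
    rw [← hgen] at hmem
    have hle : fixedGen κ.range ι.range ≤ (R.subgroupOf K).map ι := by
      refine iSup₂_le fun t ht => ?_
      obtain ⟨⟨⟨_, a, rfl⟩, rfl⟩, ht1⟩ := ht
      set L := K ⊓ Subgroup.centralizer ({(a : X)} : Set X) with hL
      have hLR : L ≤ R := by
        have haA : A ≤ Subgroup.centralizer ({(a : X)} : Set X) := fun b hb =>
          Subgroup.mem_centralizer_singleton_iff.mpr (congrArg Subtype.val (hA.is_comm.comm ⟨b, hb⟩ a))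
        have hAL : A ≤ Subgroup.normalizer (L : Set X) := fun b hb =>
          Subgroup.mem_normalizer_fintype fun y hy => ⟨(Subgroup.mem_normalizer_iff.mp (hAK hb) y).mp hy.1,
            Subgroup.mul_mem _ (Subgroup.mul_mem _ (haA hb) hy.2) (Subgroup.inv_mem _ (haA hb))⟩
        have hlt : (A ⊓ Subgroup.centralizer (L : Set X)).relIndex A < n := by
          have hDD : D ≤ A ⊓ Subgroup.centralizer (L : Set X) :=
            inf_le_inf_left A (Subgroup.centralizer_le (inf_le_left : L ≤ K))
          have h1 := Subgroup.relIndex_mul_relIndex D _ A hDD inf_le_left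
          rw [hn] at h1
          refine lt_of_le_of_ne (Nat.le_of_dvd ?_ (Dvd.intro_left _ h1)) fun he => ?_
          · rw [← hn]; exact Nat.pos_of_ne_zero Subgroup.index_ne_zero_of_finite
          · rw [he] at h1
            have h2 : D.relIndex (A ⊓ Subgroup.centralizer (L : Set X)) = 1 :=
              (Nat.mul_eq_right (hn ▸ Subgroup.index_ne_zero_of_finite)).mp h1
            have haD : (a : X) ∈ D := Subgroup.relIndex_eq_one.mp h2 ⟨a.2, Subgroup.mem_centralizer_iff.mpr fun y hy =>
              Subgroup.mem_centralizer_singleton_iff.mp hy.2⟩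
            refine ht1 ?_
            have : φ a = 1 := by
              refine MulEquiv.ext fun y => Subtype.ext ?_
              rw [hφ]
              show (a : X) * y * (a : X)⁻¹ = y
              rw [← Subgroup.mem_centralizer_iff.mp haD.2 y y.2, mul_inv_cancel_right]
            simp only [this]
            exact map_one κ
        exact ih _ hlt L hAL (hcop.coprime_dvd_right (Subgroup.card_dvd_of_le inf_le_left)) rfl
          (fun M hM hex => hR M (hM.trans inf_le_left) hex)
      rintro _ ⟨⟨y, rfl⟩, hy⟩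
      refine ⟨y, hLR ⟨y.2, Subgroup.mem_centralizer_singleton_iff.mpr ?_⟩, rfl⟩
      have h1 := Subgroup.mem_centralizer_singleton_iff.mp hy
      have h2 : κ ⟨φ a, a, rfl⟩ * ι y * (κ ⟨φ a, a, rfl⟩)⁻¹ = ι y := by rw [← h1, mul_inv_cancel_right]
      rw [← map_inv] at h2
      have h3 : ι (φ a y) = ι y := (SemidirectProduct.inl_aut (φ := φ.range.subtype) ⟨φ a, a, rfl⟩ y).trans h2
      have h4 := congrArg Subtype.val (SemidirectProduct.inl_injective h3)
      rw [hφ] at h4
      exact (mul_inv_eq_iff_eq_mul.mp h4).symm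
    obtain ⟨y, hy, hye⟩ := hle hmem
    have := SemidirectProduct.inl_injective hye
    subst this
    exact hy


/-- Let A and G be subgroups of a finite group with A abelian, A normalizing G and the orders of A and G coprime. Then G is generated by the fixed-point subgroups C_G(B) of those subgroups B of A for which A/B is cyclic (that is, A = ⟨B, a⟩ for some a), and [G, A] is generated by the commutator subgroups [C_G(B), A] over the same subgroups B. -/
theorem result {X : Type*} [Group X] [Finite X] (A G : Subgroup X) (hAab : IsMulCommutative A) (hAG : A ≤ Subgroup.normalizer (G : Set X)) (hcop : (Nat.card A).Coprime (Nat.card G)) : (⨆ B ∈ {B : Subgroup X | B ≤ A ∧ ∃ a ∈ A, B ⊔ Subgroup.zpowers a = A}, G ⊓ Subgroup.centralizer (B : Set X)) = G ∧ (⨆ B ∈ {B : Subgroup X | B ≤ A ∧ ∃ a ∈ A, B ⊔ Subgroup.zpowers a = A}, ⁅G ⊓ Subgroup.centralizer (B : Set X), A⁆) = ⁅G, A⁆ := by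
  classical
  haveI := hAab
  set S : Set (Subgroup X) := {B : Subgroup X | B ≤ A ∧ ∃ a ∈ A, B ⊔ Subgroup.zpowers a = A} with hS
  have hterm : ∀ B ∈ S, G ⊓ Subgroup.centralizer (B : Set X) ≤ ⨆ B ∈ S, G ⊓ Subgroup.centralizer (B : Set X) :=
    fun B hB => le_iSup_of_le B (le_iSup (fun _ : B ∈ S => G ⊓ Subgroup.centralizer (B : Set X)) hB)
  have h1 : (⨆ B ∈ S, G ⊓ Subgroup.centralizer (B : Set X)) = G := by
    refine le_antisymm (iSup₂_le fun B _ => inf_le_left) ?_
    refine le_of_fixed_le A (⨆ B ∈ S, G ⊓ Subgroup.centralizer (B : Set X)) ((A ⊓ Subgroup.centralizer (G : Set X)).relIndex A) G hAG hcop rfl fun L hL hex => ?_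
    refine le_trans (le_inf hL ?_) (hterm (A ⊓ Subgroup.centralizer (L : Set X)) ⟨inf_le_left, hex⟩)
    exact (Subgroup.le_centralizer_iff (H := A ⊓ Subgroup.centralizer (L : Set X)) (K := L)).mp inf_le_right
  refine ⟨h1, le_antisymm (iSup₂_le fun B _ => Subgroup.commutator_mono inf_le_left le_rfl) ?_⟩
  set R := ⨆ B ∈ S, ⁅G ⊓ Subgroup.centralizer (B : Set X), A⁆ with hR
  have hsolv : Group.IsSolvable A := Cfsg.Agent.Coprime.isSolvable_of_isMulCommutative A
  have hinv : ∀ x : X, x ∈ Subgroup.normalizer (G : Set X) → x ∈ Subgroup.centralizer (A : Set X) →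
      x ∈ Subgroup.normalizer (R : Set X) := by
    intro x hxG hxA
    refine Subgroup.mem_normalizer_fintype fun y hy => ?_
    have hle : R.map (MulAut.conj x).toMonoidHom ≤ R := by
      rw [hR, Subgroup.map_iSup]
      refine iSup_le fun B => ?_
      rw [Subgroup.map_iSup]
      refine iSup_le fun hB => ?_
      refine le_trans ?_ (le_iSup_of_le B (le_iSup (fun _ : B ∈ S => ⁅G ⊓ Subgroup.centralizer (B : Set X), A⁆) hB))
      rw [Subgroup.map_commutator]
      refine Subgroup.commutator_mono ?_ ?_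
      · rintro _ ⟨c, hc, rfl⟩
        refine ⟨(Subgroup.mem_normalizer_iff.mp hxG c).mp hc.1, ?_⟩
        have hxB : x ∈ Subgroup.centralizer (B : Set X) := Subgroup.centralizer_le hB.1 hxA
        exact Subgroup.mul_mem _ (Subgroup.mul_mem _ hxB hc.2) (Subgroup.inv_mem _ hxB)
      · rintro _ ⟨c, hc, rfl⟩
        show x * c * x⁻¹ ∈ A
        rw [← Subgroup.mem_centralizer_iff.mp hxA c hc, mul_inv_cancel_right]; exact hc
    exact hle ⟨y, hy, rfl⟩
  have hAA : A ≤ Subgroup.centralizer (A : Set X) := Subgroup.le_centralizer A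
  set C := G ⊓ Subgroup.centralizer (A : Set X) with hC
  have hCR : C ≤ Subgroup.normalizer (R : Set X) := fun x hx => hinv x (Subgroup.le_normalizer hx.1) hx.2
  have hcover : G ≤ R ⊔ C := by
    rw [← h1]
    refine iSup₂_le fun B hB => ?_
    set L := G ⊓ Subgroup.centralizer (B : Set X)
    have hAL : A ≤ Subgroup.normalizer (L : Set X) := fun a ha => Subgroup.mem_normalizer_fintype fun y hy =>
      ⟨(Subgroup.mem_normalizer_iff.mp (hAG ha) y).mp hy.1,
        Subgroup.mul_mem _ (Subgroup.mul_mem _ (Subgroup.centralizer_le hB.1 (hAA ha)) hy.2)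
          (Subgroup.inv_mem _ (Subgroup.centralizer_le hB.1 (hAA ha)))⟩
    rw [← Cfsg.Agent.Coprime.commutator_sup_inf_centralizer hAL (hcop.coprime_dvd_right (Subgroup.card_dvd_of_le inf_le_left)) (Or.inl hsolv)]
    exact sup_le (le_trans (le_iSup_of_le B (le_iSup (fun _ : B ∈ S => ⁅G ⊓ Subgroup.centralizer (B : Set X), A⁆) hB)) le_sup_left)
      (le_trans (inf_le_inf_right _ inf_le_left) le_sup_right)
  rw [Subgroup.commutator_le]
  intro g hg a ha
  have hg' : g ∈ ((R ⊔ C : Subgroup X) : Set X) := hcover hg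
  rw [Subgroup.coe_mul_of_right_le_normalizer_left _ _ hCR] at hg'
  obtain ⟨r, hr, c, hc, rfl⟩ := hg'
  have hca : c * a = a * c := (Subgroup.mem_centralizer_iff.mp hc.2 a ha).symm
  rw [show ⁅r * c, a⁆ = r * (a * r⁻¹ * a⁻¹) by
    rw [commutatorElement_def, mul_assoc r c a, hca]; group]
  exact R.mul_mem hr ((Subgroup.mem_normalizer_iff.mp (hinv a (hAG ha) (hAA ha)) _).mp (R.inv_mem hr))

end Cfsg.Agent.S3734
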