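import Cfsg.Statements.S0204
import Cfsg.Agent.Lib.ZStar.Consequences
import Cfsg.Agent.S0205
-- import your own Cfsg.Agent.* helpers here

set_option autoImplicit false
open Cfsg

namespace Cfsg.Agent.S0204

/-- A non-cyclic finite simple group contains a subgroup which is a Klein four-group; this combines the Odd Order Theorem, Burnside's transfer argument for cyclic Sylow 2-subgroups and the Brauer–Suzuki Theorem. -/
theorem result {G : Type*} [Group G] [Finite G] [IsSimpleGroup G] (hG : ¬ IsCyclic G) : ∃ E : Subgroup G, IsKleinFour E := by
  by_contra h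
  rcases Nat.even_or_odd (Nat.card G) with heven | hodd
  · haveI : Fact (Nat.Prime 2) := ⟨Nat.prime_two⟩
    obtain ⟨z, hz⟩ := exists_prime_orderOf_dvd_card' 2 (even_iff_two_dvd.1 heven)
    have hO : Cfsg.oddCore G = ⊥ := by
      refine ((inferInstance : (Cfsg.oddCore G).Normal).eq_bot_or_eq_top).resolve_right fun htop => ?_
      have := Agent.InvChar.Core.odd_card_oddCore (G := G)
      rw [htop, Subgroup.card_top] at this
      exact (Nat.not_odd_iff_even.2 heven) this
    have hzc := Agent.ZStar.Main.mem_center_of_isolated hO
      (Agent.ZStar.UniqueInvolution.isolated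
        (Agent.ZStar.Consequences.commInvEq_of_no_klein (not_exists.1 h)) hz)
    rcases (inferInstance : (Subgroup.center G).Normal).eq_bot_or_eq_top with hb | ht
    · rw [hb, Subgroup.mem_bot] at hzc
      rw [hzc, orderOf_one] at hz
      omega
    · have hc : ∀ a b : G, a * b = b * a := fun a b =>
        (Subgroup.mem_center_iff.mp (ht ▸ Subgroup.mem_top b) a)
      letI : CommGroup G := { ‹Group G› with mul_comm := hc }
      exact hG IsSimpleGroup.isCyclic
  · haveI : Group.IsSolvable G := Cfsg.Agent.S0205.result hodd
    letI : CommGroup G := { ‹Group G› with mul_comm := IsSimpleGroup.comm_iff_isSolvable.2 inferInstance }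
    exact hG IsSimpleGroup.isCyclic

end Cfsg.Agent.S0204
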