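import Cfsg.Statements.S0695
import Cfsg.Agent.Lib.Perm.RegularNormal

set_option autoImplicit false
open Cfsg

namespace Cfsg.Agent.S0695

/-- A regular normal subgroup of a doubly primitive group of finite degree at least 2 is an elementary abelian 2-group (and the degree is a power of 2), unless the degree is 3. -/
theorem result {G : Type*} [Group G] {X : Type*} [Fintype X] [MulAction G X] (hX : 2 ≤ Fintype.card X) (h2 : MulAction.IsMultiplyPreprimitive G X 2) (N : Subgroup G) [N.Normal] (htrans : MulAction.IsPretransitive N X) (hreg : ∀ x : X, MulAction.stabilizer N x = ⊥) : Fintype.card X = 3 ∨ (IsMulCommutative N ∧ (∀ n ∈ N, n ^ 2 = 1) ∧ ∃ m : ℕ, Fintype.card X = 2 ^ m) := by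
  classical
  have hX' : Nonempty X := Fintype.card_pos_iff.1 (by omega)
  obtain ⟨a⟩ := hX'
  have : MulAction.IsPretransitive G X :=
    ⟨fun x y => let ⟨g, hg⟩ := htrans.exists_smul_eq x y; ⟨g, hg⟩⟩
  have hbij := Cfsg.Agent.Perm.Basic.orbitMap_bijective N htrans hreg a
  have : Finite N := Finite.of_injective _ hbij.injective
  have hcard : Nat.card N = Fintype.card X := by
    rw [Nat.card_eq_of_bijective _ hbij, Nat.card_eq_fintype_card]
  have : Nontrivial N := Finite.one_lt_card_iff_nontrivial.1 (by omega)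
  have hprim : MulAction.IsPreprimitive (MulAction.stabilizer G a)
      (SubMulAction.ofStabilizer G a) := by
    rw [← MulAction.is_one_preprimitive_iff]
    exact MulAction.isMultiplyPreprimitive_ofStabilizer (n := 1) G X
  have hst : ∀ x y : X, x ≠ a → y ≠ a → ∃ g : G, g • a = a ∧ g • x = y := by
    intro x y hx hy
    obtain ⟨g, hg⟩ := hprim.toIsPretransitive.exists_smul_eq
      (⟨x, hx⟩ : SubMulAction.ofStabilizer G a) ⟨y, hy⟩
    exact ⟨g, g.2, congrArg Subtype.val hg⟩
  obtain ⟨p, hpp, hpg, hab, hexp⟩ := Cfsg.Agent.Perm.RegularNormal.elementaryAbelian_of_conj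
    (Cfsg.Agent.Perm.RegularNormal.exists_conj htrans hreg hst)
  have : Fact p.Prime := ⟨hpp⟩
  by_cases h2 : p = 2
  · refine Or.inr ⟨hab, fun n hn => ?_, ?_⟩
    · have := congrArg Subtype.val (hexp ⟨n, hn⟩)
      rw [h2] at this
      exact this
    · have : Fact (Nat.Prime 2) := ⟨Nat.prime_two⟩
      obtain ⟨m, hm⟩ := IsPGroup.iff_card.1 (h2 ▸ hpg : IsPGroup 2 N)
      exact ⟨m, by rw [← hcard, hm]⟩
  left
  obtain ⟨n, hn⟩ := exists_ne (1 : N)
  have hne : ∀ k : N, k ≠ 1 → (k : G) • a ≠ a := by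
    intro k hk h
    apply hk
    rw [← Subgroup.mem_bot, ← hreg a]
    exact h
  have hni : n⁻¹ ≠ n := by
    intro h
    have h' : n ^ 2 = 1 := by rw [pow_two]; nth_rewrite 1 [← h]; exact inv_mul_cancel n
    have := Nat.le_of_dvd two_pos (orderOf_dvd_of_pow_eq_one h')
    have hor : orderOf n = p := orderOf_eq_prime (hexp n) hn
    have := hpp.two_le
    omega
  let B : Set (SubMulAction.ofStabilizer G a) :=
    {x | (x : X) = (n : G) • a ∨ (x : X) = ((n⁻¹ : N) : G) • a}
  have hmemB : ∀ (g : MulAction.stabilizer G a) (x : SubMulAction.ofStabilizer G a) (m : N),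
      x ∈ B → ((g • x : SubMulAction.ofStabilizer G a) : X) = (m : G) • a →
      (m : G) = g * n * (g : G)⁻¹ ∨ (m : G) = g * (n : G)⁻¹ * (g : G)⁻¹ := by
    rintro g x m (hx | hx) hgx
    · exact Or.inl (Cfsg.Agent.Perm.RegularNormal.eq_conj htrans hreg g.2 n m (by rw [← hx]; exact hgx))
    · exact Or.inr (Cfsg.Agent.Perm.RegularNormal.eq_conj htrans hreg g.2 n⁻¹ m (by rw [← hx]; exact hgx))
  have hB : MulAction.IsBlock (MulAction.stabilizer G a) B := by
    rw [MulAction.isBlock_iff_smul_eq_of_nonempty]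
    rintro g ⟨_, ⟨u, hu, rfl⟩, hgu⟩
    have hconj : (g : G) * n * (g : G)⁻¹ = n ∨ (g : G) * n * (g : G)⁻¹ = (n : G)⁻¹ := by
      rcases hgu with h | h
      · rcases hmemB g u n hu h with e | e
        · exact Or.inl e.symm
        · exact Or.inr (by rw [← inv_inj, mul_inv_rev, mul_inv_rev, inv_inv, inv_inv, ← mul_assoc] at e; exact e.symm)
      · rcases hmemB g u n⁻¹ hu h with e | e
        · exact Or.inr e.symm
        · exact Or.inl (by rw [InvMemClass.coe_inv, ← inv_inj, mul_inv_rev, mul_inv_rev, inv_inv, inv_inv, ← mul_assoc] at e; exact e.symm)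
    have hconj' : (g : G) * (n : G)⁻¹ * (g : G)⁻¹ = ((g : G) * n * (g : G)⁻¹)⁻¹ := conj_inv.symm
    have hsub : ∀ x : SubMulAction.ofStabilizer G a, x ∈ B → g • x ∈ B := by
      intro x hx
      rcases hx with hx | hx <;>
      · show _ ∨ _
        rw [SetLike.val_smul, hx, Subgroup.smul_def,
          Cfsg.Agent.Perm.Basic.smul_smul_base g.2]
        rcases hconj with e | e <;> simp [e, hconj']
    apply Set.eq_of_subset_of_ncard_le ?_ ?_ (Set.toFinite _)
    · rintro _ ⟨x, hx, rfl⟩
      exact hsub x hx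
    · exact (Set.ncard_image_of_injective _ (MulAction.injective g)).ge
  have hm1 : ((n⁻¹ : N) : G) • a ≠ a := hne _ (inv_ne_one.2 hn)
  rcases hB.subsingleton_or_eq_univ with hsub | huniv
  · exfalso
    apply hni
    have := congrArg Subtype.val
      (hsub (x := ⟨_, hm1⟩) (Or.inr rfl) (y := ⟨_, hne n hn⟩) (Or.inl rfl))
    exact hbij.injective this
  · have : (Finset.univ : Finset X) ⊆ {a, (n : G) • a, ((n⁻¹ : N) : G) • a} := by
      intro x _
      by_cases hx : x = a
      · simp [hx]
      · have : (⟨x, hx⟩ : SubMulAction.ofStabilizer G a) ∈ B := huniv ▸ Set.mem_univ _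
        rcases this with e | e <;> simp [show x = _ from e]
    have h3 := (Finset.card_le_card this).trans Finset.card_le_three
    rw [Finset.card_univ] at h3
    by_contra h
    have hc2 : Fintype.card X = 2 := by omega
    have hdvd : p ∣ Nat.card N := by
      rw [← orderOf_eq_prime (hexp n) hn]; exact orderOf_dvd_natCard n
    rw [hcard, hc2] at hdvd
    exact h2 ((Nat.prime_dvd_prime_iff_eq hpp Nat.prime_two).1 hdvd)

end Cfsg.Agent.S0695
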