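import Cfsg.Statements.S0696
import Cfsg.Agent.Lib.Perm.RegularNormal
import Cfsg.Agent.S0695

set_option autoImplicit false
open Cfsg

namespace Cfsg.Agent.S0696

/-- A triply primitive group of degree at least 3 having a regular normal subgroup has degree 3 or 4. -/
theorem result {G : Type*} [Group G] {X : Type*} [Fintype X] [MulAction G X] (hX : 3 ≤ Fintype.card X) (h3 : MulAction.IsMultiplyPreprimitive G X 3) (N : Subgroup G) [N.Normal] (htrans : MulAction.IsPretransitive N X) (hreg : ∀ x : X, MulAction.stabilizer N x = ⊥) : Fintype.card X = 3 ∨ Fintype.card X = 4 := by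
  classical
  have h2 : MulAction.IsMultiplyPreprimitive G X 2 :=
    MulAction.isMultiplyPreprimitive_of_le G X h3 (by omega)
      (by rw [ENat.card_eq_coe_fintype_card]; exact_mod_cast hX)
  rcases S0695.result (by omega) h2 N htrans hreg with h | ⟨hab, hexp, -⟩
  · exact Or.inl h
  by_contra hcon
  push Not at hcon
  have h5 : 5 ≤ Fintype.card X := by omega
  obtain ⟨a⟩ : Nonempty X := Fintype.card_pos_iff.1 (by omega)
  have hbij := Cfsg.Agent.Perm.Basic.orbitMap_bijective N htrans hreg a
  have : Finite N := Finite.of_injective _ hbij.injective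
  have hcard : Nat.card N = Fintype.card X := by
    rw [Nat.card_eq_of_bijective _ hbij, Nat.card_eq_fintype_card]
  have : Nontrivial N := Finite.one_lt_card_iff_nontrivial.1 (by omega)
  obtain ⟨n, hn⟩ := exists_ne (1 : N)
  obtain ⟨m, hm1, hmn⟩ : ∃ m : N, m ≠ 1 ∧ m ≠ n := by
    by_contra hh
    push Not at hh
    have : Fintype N := Fintype.ofFinite N
    have h6 : (Finset.univ : Finset N) ⊆ {1, n} := by
      intro m _
      by_cases hm : m = 1
      · simp [hm]
      · simp [hh m hm]
    have := (Finset.card_le_card h6).trans Finset.card_le_two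
    rw [Finset.card_univ, ← Nat.card_eq_fintype_card] at this
    omega
  let s : Set X := {a, (n : G) • a}
  have hne : a ≠ (n : G) • a := fun h => hn (by
    rw [← Subgroup.mem_bot, ← hreg a]; exact h.symm)
  have hs : s.encard + 1 = (3 : ℕ) := by
    rw [Set.encard_pair hne]; norm_num
  have hprim := h3.isPreprimitive_ofFixingSubgroup (M := G) (n := 3) hs
  have hnn : (n : G) * n = 1 := by rw [← pow_two]; exact hexp n n.2
  have hinj : ∀ u v : N, (u : G) • a = (v : G) • a → u = v := fun u v h => hbij.injective h
  let B : Set (SubMulAction.ofFixingSubgroup G s) :=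
    {x | (x : X) = (m : G) • a ∨ (x : X) = ((n * m : N) : G) • a}
  have hB : MulAction.IsBlock (fixingSubgroup G s) B := by
    rw [MulAction.isBlock_iff_smul_eq_of_nonempty]
    rintro g ⟨_, ⟨u, hu, rfl⟩, hgu⟩
    have hga : (g : G) • a = a := (mem_fixingSubgroup_iff G).1 g.2 a (by simp [s])
    have hgn : (g : G) * n * (g : G)⁻¹ = n :=
      (Cfsg.Agent.Perm.RegularNormal.eq_conj htrans hreg hga n n
        ((mem_fixingSubgroup_iff G).1 g.2 _ (by simp [s]))).symm
    let c : N := ⟨(g : G) * m * (g : G)⁻¹, Subgroup.Normal.conj_mem ‹N.Normal› _ m.2 _⟩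
    have e1 : (g : G) • (m : G) • a = (c : G) • a :=
      Cfsg.Agent.Perm.Basic.smul_smul_base hga _
    have e2 : (g : G) • ((n * m : N) : G) • a = ((n * c : N) : G) • a := by
      rw [Cfsg.Agent.Perm.Basic.smul_smul_base hga]
      congr 1
      show (g : G) * (n * m) * (g : G)⁻¹ = n * ((g : G) * m * (g : G)⁻¹)
      nth_rewrite 2 [← hgn]
      group
    have hnc : n * (n * m) = m := by
      rw [← mul_assoc, show n * n = 1 from Subtype.ext hnn, one_mul]
    have hcm : c = m ∨ c = n * m := by
      have hnn' : n * n = 1 := Subtype.ext hnn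
      rcases hu with hu | hu <;> rcases hgu with h | h <;>
        simp only [SetLike.val_smul, Subgroup.smul_def, hu, e1, e2] at h <;>
        have h' := hinj _ _ h
      · exact Or.inl h'
      · exact Or.inr h'
      · right; rw [← h', ← mul_assoc, hnn', one_mul]
      · exact Or.inl (mul_left_cancel h')
    have hsub : ∀ x : SubMulAction.ofFixingSubgroup G s, x ∈ B → g • x ∈ B := by
      intro x hx
      show _ ∨ _
      rcases hx with hx | hx <;> simp only [SetLike.val_smul, Subgroup.smul_def, hx, e1, e2] <;>
        rcases hcm with e | e <;> simp [e, hnc]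
    apply Set.eq_of_subset_of_ncard_le ?_ ?_ (Set.toFinite _)
    · rintro _ ⟨x, hx, rfl⟩
      exact hsub x hx
    · exact (Set.ncard_image_of_injective _ (MulAction.injective g)).ge
  have hout : ∀ k : N, k ≠ 1 → k ≠ n → (k : G) • a ∈ SubMulAction.ofFixingSubgroup G s := by
    intro k hk hkn h
    rcases h with h | h
    · exact hk (by rw [← Subgroup.mem_bot, ← hreg a]; exact h)
    · exact hkn (hinj _ _ h)
  have hnm1 : n * m ≠ 1 := fun h => hmn (mul_left_cancel (h.trans (Subtype.ext hnn : n * n = 1).symm))
  have hnmn : n * m ≠ n := fun h => hm1 (mul_eq_left.1 h)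
  rcases hB.subsingleton_or_eq_univ with hsub | huniv
  · have := congrArg Subtype.val (hsub (x := ⟨_, hout m hm1 hmn⟩) (Or.inl rfl)
      (y := ⟨_, hout (n * m) hnm1 hnmn⟩) (Or.inr rfl))
    exact hn (mul_eq_right.1 (hinj _ _ this).symm)
  · have : (Finset.univ : Finset X) ⊆
        {a, (n : G) • a, (m : G) • a, ((n * m : N) : G) • a} := by
      intro x _
      by_cases hx : x ∈ s
      · rcases hx with e | e <;> simp [show x = _ from e]
      · have : (⟨x, hx⟩ : SubMulAction.ofFixingSubgroup G s) ∈ B := huniv ▸ Set.mem_univ _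
        rcases this with e | e <;> simp [show x = _ from e]
    have h7 := (Finset.card_le_card this).trans Finset.card_le_four
    rw [Finset.card_univ] at h7
    omega

end Cfsg.Agent.S0696
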