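import Cfsg.Statements.S0672
import Mathlib

set_option autoImplicit false
open Cfsg

namespace Cfsg.Agent.S0672

open scoped Pointwise

/-- Let a finite group act faithfully and doubly transitively with point stabilisers of even order, and let `K` have characteristic `p` dividing the degree. If the heart of the permutation module admits no non-zero equivariant map to the permutation module on unordered pairs (phrased: every intertwining map from the sum-zero functions vanishing on the constants is zero), the action is triply transitive. -/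
theorem result {G : Type*} [Group G] [Finite G] {K : Type*} [Field K] {p : ℕ} [Fact p.Prime] [CharP K p] {Ω : Type*} [Fintype Ω] [DecidableEq Ω] [MulAction G Ω] [FaithfulSMul G Ω] (h2 : MulAction.IsMultiplyPretransitive G Ω 2) (hp : p ∣ Fintype.card Ω) (heven : ∀ a : Ω, Even (Nat.card (MulAction.stabilizer G a))) (h : ∀ f : Representation.IntertwiningMap (Cfsg.permSumZero K G Ω).toRepresentation (Cfsg.permRep K G (Set.powersetCard Ω 2)), (∀ v : (Cfsg.permSumZero K G Ω).toSubmodule, (v : Ω → K) ∈ (Cfsg.permConstants K G Ω).toSubmodule → f v = 0) → f = 0) : MulAction.IsMultiplyPretransitive G Ω 3 := by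
  classical
  set n := Fintype.card Ω with hn
  by_cases hn3 : n < 3
  · refine ⟨fun e => absurd (Fintype.card_le_of_embedding e) ?_⟩
    rw [Fintype.card_fin]; omega
  push Not at hn3
  have h2' : ∀ {a b c d : Ω}, a ≠ b → c ≠ d → ∃ g : G, g • a = c ∧ g • b = d :=
    MulAction.is_two_pretransitive_iff.1 h2
  have hpK : (n : K) = 0 := (CharP.cast_eq_zero_iff K p n).2 hp
  let E := Set.powersetCard Ω 2
  have hsm : ∀ (g : G) (s : E) (x : Ω), g • x ∈ ((g • s : E) : Finset Ω) ↔ x ∈ (s : Finset Ω) := by
    intro g s x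
    rw [Set.powersetCard.coe_smul]
    exact Finset.smul_mem_smul_finset_iff g
  -- any invariant kernel with vanishing row sums has constant rows
  have crit : ∀ M : E → Ω → K, (∀ (g : G) s x, M (g • s) (g • x) = M s x) →
      (∀ s, ∑ x, M s x = 0) → ∀ s x y, M s x = M s y := by
    intro M hM hsum s x y
    let L : (Cfsg.permSumZero K G Ω).toSubmodule →ₗ[K] (E → K) :=
      { toFun := fun v s => ∑ x, M s x * (v : Ω → K) x
        map_add' := fun v w => funext fun s => by
          simp [mul_add, Finset.sum_add_distrib]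
        map_smul' := fun c v => funext fun s => by
          simp [Finset.mul_sum, mul_left_comm] }
    let f := L.intertwiningMap_of_isIntertwiningMap
      (ρ := (Cfsg.permSumZero K G Ω).toRepresentation) (σ := Cfsg.permRep K G E) (by
        intro g v
        funext s
        show ∑ x, M s x * (v : Ω → K) (g⁻¹ • x) = ∑ x, M (g⁻¹ • s) x * (v : Ω → K) x
        refine Fintype.sum_equiv (MulAction.toPerm g⁻¹) _ _ fun x => ?_
        show _ = M (g⁻¹ • s) (g⁻¹ • x) * _
        rw [hM]
        rfl)
    have hf : f = 0 := h f (fun v hv => by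
      have hv' : (v : Ω → K) ∈ Submodule.span K {fun _ : Ω => (1 : K)} := hv
      obtain ⟨c, hc⟩ := Submodule.mem_span_singleton.1 hv'
      funext s
      show ∑ x, M s x * (v : Ω → K) x = 0
      simp only [← hc, Pi.smul_apply, smul_eq_mul, mul_one, ← Finset.sum_mul, hsum, zero_mul])
    by_contra hne
    have hxy : x ≠ y := fun e => hne (by rw [e])
    have hv : (Pi.single x 1 - Pi.single y 1 : Ω → K) ∈ (Cfsg.permSumZero K G Ω).toSubmodule := by
      show ∑ z, (Pi.single x 1 - Pi.single y 1 : Ω → K) z = 0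
      simp [Finset.sum_sub_distrib]
    have h0 : ∑ z, M s z * (Pi.single x 1 - Pi.single y 1 : Ω → K) z = 0 :=
      congrFun (DFunLike.congr_fun hf ⟨_, hv⟩) s
    simp [mul_sub, Finset.sum_sub_distrib, Pi.single_apply, sub_eq_zero] at h0
    exact hne h0
  obtain ⟨a₀, b₀, hab₀⟩ := Fintype.exists_pair_of_one_lt_card (by omega : 1 < n)
  obtain ⟨c₀, hca₀, hcb₀⟩ : ∃ c, c ≠ a₀ ∧ c ≠ b₀ := by
    by_contra hh
    push Not at hh
    have : (Finset.univ : Finset Ω) ⊆ {a₀, b₀} := fun c _ => by
      by_cases hca : c = a₀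
      · simp [hca]
      · simp [hh c hca]
    have := (Finset.card_le_card this).trans Finset.card_le_two
    rw [Finset.card_univ] at this
    omega
  let s₀ : E := ⟨{a₀, b₀}, Finset.card_pair hab₀⟩
  -- the prime is odd
  have hp2 : (2 : K) ≠ 0 := by
    intro htwo
    have h1 := crit (fun s x => if x ∈ (s : Finset Ω) then 1 else 0)
      (fun g s x => if_congr (hsm g s x) rfl rfl)
      (fun s => by
        rw [Finset.sum_boole, Finset.filter_univ_mem, show (s : Finset Ω).card = 2 from s.2]
        simpa using htwo)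
      s₀ a₀ c₀
    simp [s₀, hca₀, hcb₀] at h1
  -- one orbit on points with a disjoint pair
  let O : Ω → E → Prop := fun x s => ∃ g : G, g • c₀ = x ∧ g • s₀ = s
  have hO : ∀ (g : G) x s, O (g • x) (g • s) ↔ O x s := by
    intro g x s
    constructor
    · rintro ⟨k, h1, h1'⟩
      exact ⟨g⁻¹ * k, by rw [mul_smul, h1, inv_smul_smul], by rw [mul_smul, h1', inv_smul_smul]⟩
    · rintro ⟨k, rfl, rfl⟩
      exact ⟨g * k, mul_smul _ _ _, mul_smul _ _ _⟩
  have hOout : ∀ x s, O x s → x ∉ (s : Finset Ω) := by
    rintro x s ⟨g, rfl, rfl⟩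
    rw [hsm]
    simp [s₀, hca₀, hcb₀]
  let k : E → K := fun s => ((Finset.univ.filter fun x => O x s).card : K)
  have hk : ∀ (g : G) s, k (g • s) = k s := by
    intro g s
    have : (Finset.univ.filter fun x => O x (g • s)) =
        (Finset.univ.filter fun x => O x s).image (g • ·) := by
      ext x
      simp only [Finset.mem_filter, Finset.mem_univ, true_and, Finset.mem_image]
      constructor
      · intro hx
        exact ⟨g⁻¹ • x, (hO g _ s).1 (by rwa [smul_inv_smul]), smul_inv_smul g x⟩
      · rintro ⟨y, hy, rfl⟩; exact (hO g y s).2 hy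
    simp only [k]
    rw [this, Finset.card_image_of_injective _ (MulAction.injective g)]
  let M : E → Ω → K := fun s x =>
    if x ∈ (s : Finset Ω) then -(k s) / 2 else if O x s then 1 else 0
  have hM : ∀ s, ∑ x, M s x = 0 := by
    intro s
    simp only [M]
    rw [Finset.sum_ite, Finset.sum_const, Finset.sum_boole, Finset.filter_univ_mem,
      show (s : Finset Ω).card = 2 from s.2, Finset.filter_filter]
    rw [show (Finset.univ.filter fun x => ¬ x ∈ (s : Finset Ω) ∧ O x s) =
      Finset.univ.filter fun x => O x s from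
        Finset.filter_congr fun x _ => ⟨fun h => h.2, fun h => ⟨hOout x s h, h⟩⟩]
    simp only [k, nsmul_eq_mul, Nat.cast_ofNat]
    rw [mul_div_cancel₀ _ hp2, neg_add_cancel]
  have hconst := crit M (fun g s x => by
    simp only [M, hsm, hk, hO]) hM
  have hall : ∀ (s : E) x, x ∉ (s : Finset Ω) → O x s := by
    intro s x hx
    -- move `s` to `s₀`
    obtain ⟨u, v, huv, hsuv⟩ := Finset.card_eq_two.1 (show (s : Finset Ω).card = 2 from s.2)
    obtain ⟨g, hga, hgb⟩ := h2' huv hab₀
    have hgs : g • s = s₀ := Subtype.ext (by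
      rw [Set.powersetCard.coe_smul, hsuv, Finset.smul_finset_insert, Finset.smul_finset_singleton,
        hga, hgb])
    have hgx : g • x ∉ (s₀ : Finset Ω) := by rw [← hgs, hsm]; exact hx
    have hc₀s : c₀ ∉ (s₀ : Finset Ω) := by simp [s₀, hca₀, hcb₀]
    have := hconst s₀ (g • x) c₀
    simp only [M, hgx, hc₀s, if_false, show O c₀ s₀ from ⟨1, one_smul _ _, one_smul _ _⟩, if_true] at this
    rw [← hO g, hgs]
    by_contra hno
    rw [if_neg hno] at this
    exact zero_ne_one this
  -- a fixed point with a swap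
  have hswap : ∀ x u v : Ω, x ≠ u → x ≠ v → u ≠ v → ∃ g : G, g • x = x ∧ g • u = v ∧ g • v = u := by
    intro x u v hxu hxv huv
    have : Fact (Nat.Prime 2) := ⟨Nat.prime_two⟩
    obtain ⟨t, ht⟩ := exists_prime_orderOf_dvd_card' (G := MulAction.stabilizer G x) 2
      (heven x).two_dvd
    have ht' : orderOf (t : G) = 2 := by rw [Subgroup.orderOf_coe, ht]
    obtain ⟨w, hw⟩ : ∃ w : Ω, (t : G) • w ≠ w := by
      by_contra hh
      push Not at hh
      have : (t : G) = 1 := eq_of_smul_eq_smul fun w : Ω => by rw [hh w, one_smul]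
      simp [this] at ht'
    have htx : (t : G) • x = x := t.2
    have htt : (t : G) • (t : G) • w = w := by
      rw [← mul_smul, ← pow_two, ← ht', pow_orderOf_eq_one, one_smul]
    have hwx : x ≠ w := fun e => hw (by rw [← e]; exact htx)
    have htwx : x ≠ (t : G) • w := fun e => hwx (MulAction.injective (t : G) (htx.trans e))
    obtain ⟨g₁, e1, e1'⟩ := hall ⟨{u, v}, Finset.card_pair huv⟩ x (by simp [hxu, hxv])
    obtain ⟨g₂, e2, e2'⟩ := hall ⟨{w, (t : G) • w}, Finset.card_pair hw.symm⟩ x (by simp [hwx, htwx])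
    let d := g₂ * g₁⁻¹
    have hdx : d • x = x := by
      show (g₂ * g₁⁻¹) • x = x
      rw [mul_smul, show g₁⁻¹ • x = c₀ by rw [inv_smul_eq_iff, e1], e2]
    have hd : d • (⟨{u, v}, Finset.card_pair huv⟩ : E) = ⟨{w, (t : G) • w}, Finset.card_pair hw.symm⟩ := by
      show (g₂ * g₁⁻¹) • _ = _
      rw [← e1', mul_smul, inv_smul_smul, e2']
    have hd' : ({d • u, d • v} : Finset Ω) = {w, (t : G) • w} := by
      rw [← Finset.smul_finset_singleton, ← Finset.smul_finset_insert]
      exact congrArg Subtype.val hd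
    have hne : d • u ≠ d • v := fun e => huv (MulAction.injective d e)
    have hu' := Finset.ext_iff.1 hd' (d • u)
    have hv' := Finset.ext_iff.1 hd' (d • v)
    simp only [Finset.mem_insert, Finset.mem_singleton, true_or, or_true, true_iff] at hu' hv'
    refine ⟨d⁻¹ * t * d, by rw [mul_smul, mul_smul, hdx, htx, inv_smul_eq_iff, hdx], ?_, ?_⟩
    · rw [mul_smul, mul_smul, inv_smul_eq_iff]
      rcases hu' with e | e <;> rcases hv' with e' | e'
      · exact absurd (e.trans e'.symm) hne
      · rw [e, e']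
      · rw [e, e', htt]
      · exact absurd (e.trans e'.symm) hne
    · rw [mul_smul, mul_smul, inv_smul_eq_iff]
      rcases hu' with e | e <;> rcases hv' with e' | e'
      · exact absurd (e.trans e'.symm) hne
      · rw [e, e', htt]
      · rw [e, e']
      · exact absurd (e.trans e'.symm) hne
  refine ⟨fun e e' => ?_⟩
  have hne : ∀ (e : Fin 3 ↪ Ω) i j, i ≠ j → e i ≠ e j := fun e i j hij hh => hij (e.injective hh)
  obtain ⟨g₁, e1, e1'⟩ := hall ⟨{e 1, e 2}, Finset.card_pair (hne e 1 2 (by decide))⟩ (e 0)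
    (by simp [hne e 0 1 (by decide), hne e 0 2 (by decide)])
  obtain ⟨g₂, e2, e2'⟩ := hall ⟨{e' 1, e' 2}, Finset.card_pair (hne e' 1 2 (by decide))⟩ (e' 0)
    (by simp [hne e' 0 1 (by decide), hne e' 0 2 (by decide)])
  let d := g₂ * g₁⁻¹
  have hd0 : d • e 0 = e' 0 := by
    show (g₂ * g₁⁻¹) • e 0 = _
    rw [mul_smul, ← e1, inv_smul_smul, e2]
  have hd : ({d • e 1, d • e 2} : Finset Ω) = {e' 1, e' 2} := by
    rw [← Finset.smul_finset_singleton, ← Finset.smul_finset_insert]
    exact congrArg Subtype.val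
      (show d • (⟨{e 1, e 2}, Finset.card_pair (hne e 1 2 (by decide))⟩ : E) =
        ⟨{e' 1, e' 2}, Finset.card_pair (hne e' 1 2 (by decide))⟩ by
        show (g₂ * g₁⁻¹) • _ = _
        rw [← e1', mul_smul, inv_smul_smul, e2'])
  have h12 : d • e 1 ≠ d • e 2 := fun hh => hne e 1 2 (by decide) (MulAction.injective d hh)
  have hu' := Finset.ext_iff.1 hd (d • e 1)
  have hv' := Finset.ext_iff.1 hd (d • e 2)
  simp only [Finset.mem_insert, Finset.mem_singleton, true_or, or_true, true_iff] at hu' hv'
  rcases hu' with u1 | u1 <;> rcases hv' with v1 | v1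
  · exact absurd (u1.trans v1.symm) h12
  · exact ⟨d, Function.Embedding.ext fun i => by fin_cases i; exacts [hd0, u1, v1]⟩
  · obtain ⟨g, g0, g1, g2⟩ := hswap (e' 0) (e' 2) (e' 1) (hne e' 0 2 (by decide))
      (hne e' 0 1 (by decide)) (hne e' 2 1 (by decide))
    refine ⟨g * d, Function.Embedding.ext fun i => ?_⟩
    show (g * d) • e i = e' i
    rw [mul_smul]
    fin_cases i
    · show g • d • e 0 = e' 0; rw [hd0, g0]
    · show g • d • e 1 = e' 1; rw [u1, g1]
    · show g • d • e 2 = e' 2; rw [v1, g2]
  · exact absurd (u1.trans v1.symm) h12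

end Cfsg.Agent.S0672
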