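import Cfsg.Statements.S0673
import Mathlib

set_option autoImplicit false
open Cfsg

namespace Cfsg.Agent.S0673

/-- In characteristic `p`, the translation-invariant subspaces of the space of functions on `ZMod p` are exactly the spaces of polynomial functions of degree less than `r`, one for each `r ≤ p`, of dimension `r`. -/
theorem result {p : ℕ} [Fact p.Prime] {K : Type*} [Field K] [CharP K p] (W : Submodule K (ZMod p → K)) (hW : ∀ f ∈ W, (fun j => f (j - 1)) ∈ W) : ∃ r : ℕ, r ≤ p ∧ Module.finrank K W = r ∧ ∀ f : ZMod p → K, f ∈ W ↔ ∃ P : Polynomial K, P.degree < r ∧ ∀ j : ZMod p, f j = P.eval (ZMod.cast j : K) := by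
  classical
  have hp : p.Prime := Fact.out
  let ι : ZMod p →+* K := ZMod.castHom dvd_rfl K
  have hι : ∀ j : ZMod p, (ZMod.cast j : K) = ι j := fun j => (ZMod.castHom_apply j).symm
  have hinj : Function.Injective ι := RingHom.injective ι
  let ev : Polynomial K →ₗ[K] (ZMod p → K) :=
    LinearMap.pi fun j => Polynomial.leval (ι j)
  have hev : ∀ P j, ev P j = P.eval (ι j) := fun P j => rfl
  have hev0 : ∀ P : Polynomial K, P.degree < p → ev P = 0 → P = 0 := by
    intro P hP h0
    refine Polynomial.eq_zero_of_degree_lt_of_eval_index_eq_zero (v := fun j => ι j)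
      (Finset.univ : Finset (ZMod p)) (hinj.injOn) ?_ (fun j _ => congrFun h0 j)
    rw [Finset.card_univ, ZMod.card]; exact hP
  have hsurj : ∀ f : ZMod p → K, ∃ P : Polynomial K, P.degree < p ∧ ev P = f := by
    intro f
    refine ⟨Lagrange.interpolate Finset.univ (fun j => ι j) f, ?_, ?_⟩
    · have := Lagrange.degree_interpolate_lt (r := f) (s := (Finset.univ : Finset (ZMod p)))
        (v := fun j => ι j) hinj.injOn
      rwa [Finset.card_univ, ZMod.card] at this
    · funext j
      exact Lagrange.eval_interpolate_at_node _ hinj.injOn (Finset.mem_univ j)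
  let W' : Submodule K (Polynomial K) := W.comap ev
  have hshift : ∀ P ∈ W', P.comp (Polynomial.X + Polynomial.C (-1)) ∈ W' := by
    intro P hP
    show ev _ ∈ W
    have : ev (P.comp (Polynomial.X + Polynomial.C (-1))) = fun j => ev P (j - 1) := by
      funext j
      simp [hev, map_sub, sub_eq_add_neg]
    rw [this]
    exact hW _ hP
  have hdown : ∀ d : ℕ, d < p → ∀ P ∈ W', P ≠ 0 → P.natDegree = d →
      ∀ e ≤ d, (Polynomial.X : Polynomial K) ^ e ∈ W' := by
    intro d
    induction d using Nat.strongRecOn with
    | ind d ih =>
      intro hd P hP hP0 hPd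
      have hlower : ∀ e, e < d → (Polynomial.X : Polynomial K) ^ e ∈ W' := by
        intro e he
        set D := P - Polynomial.taylor (-1 : K) P with hD
        have hDmem : D ∈ W' := W'.sub_mem hP (by rw [Polynomial.taylor_apply]; exact hshift P hP)
        have htop : ∀ k, d ≤ k → D.coeff k = 0 := by
          intro k hk
          rw [hD, Polynomial.coeff_sub, sub_eq_zero]
          rcases Nat.lt_or_ge d k with hk' | hk'
          · rw [Polynomial.coeff_eq_zero_of_natDegree_lt (by omega),
              Polynomial.coeff_eq_zero_of_natDegree_lt (by rw [Polynomial.natDegree_taylor]; omega)]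
          · obtain rfl : k = d := by omega
            subst hPd
            rw [Polynomial.coeff_natDegree, ← Polynomial.natDegree_taylor P (-1 : K),
              Polynomial.coeff_natDegree, Polynomial.leadingCoeff_taylor]
        have hnext : D.coeff (d - 1) = (d : K) * P.leadingCoeff := by
          rw [hD, Polynomial.coeff_sub, Polynomial.taylor_coeff]
          have h1 : Polynomial.hasseDeriv (d - 1) P =
              Polynomial.C (P.coeff (d - 1)) + Polynomial.C ((d : K) * P.leadingCoeff) * Polynomial.X := by
            ext m
            rw [Polynomial.hasseDeriv_coeff, Polynomial.coeff_add, Polynomial.coeff_C,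
              Polynomial.coeff_C_mul, Polynomial.coeff_X]
            match m with
            | 0 => simp
            | 1 =>
              have h2 : 1 + (d - 1) = d := by omega
              rw [h2, Polynomial.leadingCoeff, hPd]
              have h3 : d.choose (d - 1) = d := by
                obtain ⟨c, rfl⟩ : ∃ c, d = c + 1 := ⟨d - 1, by omega⟩
                simp
              simp [h3]
            | m + 2 =>
              rw [Polynomial.coeff_eq_zero_of_natDegree_lt (n := m + 2 + (d - 1)) (by omega)]
              simp
          rw [h1]
          simp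
        have hdne : (d : K) * P.leadingCoeff ≠ 0 := by
          refine mul_ne_zero ?_ (Polynomial.leadingCoeff_ne_zero.2 hP0)
          rw [Ne, CharP.cast_eq_zero_iff K p]
          intro hdvd
          have := Nat.le_of_dvd (by omega) hdvd
          omega
        have hD0 : D ≠ 0 := fun hh => hdne (by rw [← hnext, hh, Polynomial.coeff_zero])
        have hDdeg : D.natDegree = d - 1 := by
          refine le_antisymm (Polynomial.natDegree_le_iff_coeff_eq_zero.2 fun k hk => htop k (by omega))
            (Polynomial.le_natDegree_of_ne_zero (by rwa [hnext]))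
        exact ih (d - 1) (by omega) (by omega) D hDmem hD0 hDdeg e (by omega)
      intro e he
      rcases Nat.lt_or_eq_of_le he with he | rfl
      · exact hlower e he
      · have h1 : Polynomial.C P.leadingCoeff * Polynomial.X ^ e ∈ W' := by
          have h2 : Polynomial.C P.leadingCoeff * Polynomial.X ^ e = P - P.eraseLead := by
            rw [← hPd]
            exact eq_sub_of_add_eq' (Polynomial.eraseLead_add_C_mul_X_pow P)
          rw [h2]
          refine W'.sub_mem hP ?_
          rw [Polynomial.as_sum_support_C_mul_X_pow P.eraseLead]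
          refine W'.sum_mem fun k hk => ?_
          rw [← Polynomial.smul_eq_C_mul]
          refine W'.smul_mem _ (hlower k ?_)
          exact hPd ▸ Polynomial.lt_natDegree_of_mem_eraseLead_support hk
        rw [← Polynomial.smul_eq_C_mul] at h1
        have := W'.smul_mem P.leadingCoeff⁻¹ h1
        rwa [inv_smul_smul₀ (Polynomial.leadingCoeff_ne_zero.2 hP0)] at this
  let S : Finset ℕ := (Finset.range p).filter fun d => (Polynomial.X : Polynomial K) ^ d ∈ W'
  have hS : ∀ d, d ∈ S ↔ d < p ∧ (Polynomial.X : Polynomial K) ^ d ∈ W' := fun d => by simp [S]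
  have hSclosed : ∀ d ∈ S, ∀ e ≤ d, e ∈ S := by
    intro d hd e he
    rw [hS] at hd ⊢
    exact ⟨by omega, hdown d hd.1 _ hd.2 (pow_ne_zero _ Polynomial.X_ne_zero)
      (Polynomial.natDegree_X_pow d) e he⟩
  have hSr : ∀ d, d ∈ S ↔ d < S.card := by
    intro d
    constructor
    · intro hd
      have : Finset.range (d + 1) ⊆ S := fun e he =>
        hSclosed d hd e (Nat.lt_succ_iff.1 (Finset.mem_range.1 he))
      have := Finset.card_le_card this
      rw [Finset.card_range] at this
      omega
    · intro hd
      by_contra hno
      have : S ⊆ Finset.range d := fun e he => Finset.mem_range.2 (by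
        by_contra hde
        exact hno (hSclosed e he d (by omega)))
      have := Finset.card_le_card this
      rw [Finset.card_range] at this
      omega
  set r := S.card with hr
  have hrp : r ≤ p := by
    refine (Finset.card_filter_le _ _).trans ?_
    rw [Finset.card_range]
  have hdeg : ∀ P : Polynomial K, P.degree < r → P ∈ W' := by
    intro P hP
    rw [Polynomial.as_sum_support_C_mul_X_pow P]
    refine W'.sum_mem fun k hk => ?_
    rw [← Polynomial.smul_eq_C_mul]
    refine W'.smul_mem _ ((hS k).1 ((hSr k).2 ?_)).2
    exact_mod_cast (Polynomial.le_degree_of_mem_supp k hk).trans_lt hP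
  have hmem : ∀ f : ZMod p → K, f ∈ W ↔ ∃ P : Polynomial K, P.degree < r ∧ ev P = f := by
    intro f
    constructor
    · intro hf
      obtain ⟨P, hPp, rfl⟩ := hsurj f
      refine ⟨P, ?_, rfl⟩
      by_cases hP0 : P = 0
      · rw [hP0, Polynomial.degree_zero]; exact WithBot.bot_lt_coe _
      · have hdp : P.natDegree < p := (Polynomial.natDegree_lt_iff_degree_lt hP0).2 hPp
        have := (hS _).2 ⟨hdp, hdown _ hdp P hf hP0 rfl _ le_rfl⟩
        exact (Polynomial.natDegree_lt_iff_degree_lt hP0).1 ((hSr _).1 this)
    · rintro ⟨P, hP, rfl⟩
      exact hdeg P hP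
  refine ⟨r, hrp, ?_, fun f => ?_⟩
  · have hmap : W = (Polynomial.degreeLT K r).map ev := by
      ext f
      rw [hmem, Submodule.mem_map]
      simp [Polynomial.mem_degreeLT]
    have hker : Function.Injective (ev.comp (Polynomial.degreeLT K r).subtype) := by
      rw [injective_iff_map_eq_zero]
      intro P hP
      refine Subtype.ext (hev0 _ ?_ hP)
      exact (Polynomial.mem_degreeLT.1 P.2).trans_le (by exact_mod_cast hrp)
    rw [hmap, ← Submodule.range_subtype (Polynomial.degreeLT K r), ← LinearMap.range_comp,
      LinearMap.finrank_range_of_inj hker,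
      (Polynomial.degreeLTEquiv K r).finrank_eq, Module.finrank_fin_fun]
  · rw [hmem]
    simp only [funext_iff, hev, hι, eq_comm]

end Cfsg.Agent.S0673
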