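import Cfsg.Statements.S0674
import Cfsg.Agent.S0673
import Cfsg.Agent.Lib.Perm.PrimeDegree

set_option autoImplicit false
open Cfsg

namespace Cfsg.Agent.S0674

open Polynomial in
/-- If the powers `f ^ j` for `j < r` are orthogonal to the monomials of degree below `p - r`,
and `4 ≤ 2r ≤ p`, then the permutation `f` is affine. -/
theorem affine {p : ℕ} [Fact p.Prime] (f : ZMod p → ZMod p) (hf : Function.Bijective f) (r : ℕ)
    (hr : 2 ≤ r) (hrp : 2 * r ≤ p)
    (h : ∀ i j, i < p - r → j < r → ∑ x, x ^ i * f x ^ j = 0) :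
    ∃ a b : ZMod p, a ≠ 0 ∧ ∀ x, f x = a * x + b := by
  let P : (ZMod p)[X] := Lagrange.interpolate Finset.univ id f
  have hPf : ∀ x, P.eval x = f x := fun x =>
    Lagrange.eval_interpolate_at_node (v := id) _ (fun x _ y _ hxy => hxy) (Finset.mem_univ x)
  have hP0 : P ≠ 0 := fun hh => zero_ne_one (hf.injective (by
    rw [← hPf, ← hPf, hh]; simp : f 0 = f 1))
  have hPd : P.natDegree < p := by
    have h1 := Lagrange.degree_interpolate_lt (s := (Finset.univ : Finset (ZMod p))) (v := id) f
      (fun x _ y _ hxy => hxy)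
    rw [Finset.card_univ, ZMod.card] at h1
    exact (natDegree_lt_iff_degree_lt hP0).2 h1
  have hn1 : 1 ≤ P.natDegree := by
    by_contra hn
    have h1 := eq_C_of_natDegree_eq_zero (by omega : P.natDegree = 0)
    exact zero_ne_one (hf.injective (show f 0 = f 1 by rw [← hPf, ← hPf, h1]; simp))
  have hdeg : ∀ j, j < r → j * P.natDegree < p → j * P.natDegree < r := by
    intro j hj hjp
    by_contra hge
    push Not at hge
    set Q := P ^ j with hQ
    have hd : Q.natDegree = j * P.natDegree := natDegree_pow P j
    set i := p - 1 - Q.natDegree with hi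
    have hip : i + Q.natDegree = p - 1 := by omega
    have h1 := h i j (by omega) hj
    have h2 : ∀ x : ZMod p, f x ^ j = ∑ k ∈ Finset.range (Q.natDegree + 1), Q.coeff k * x ^ k :=
      fun x => by rw [← eval_eq_sum_range, hQ, eval_pow, hPf]
    simp only [h2, Finset.mul_sum] at h1
    rw [Finset.sum_comm, Finset.sum_range_succ, Finset.sum_eq_zero, zero_add] at h1
    · have h3 : ∀ x : ZMod p, x ^ i * (Q.coeff Q.natDegree * x ^ Q.natDegree) =
          Q.coeff Q.natDegree * x ^ (p - 1) := fun x => by
        rw [← mul_left_comm, ← pow_add, hip]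
      simp only [h3, ← Finset.mul_sum] at h1
      rcases mul_eq_zero.1 h1 with h4 | h4
      · rw [coeff_natDegree, leadingCoeff_eq_zero] at h4
        exact pow_ne_zero j hP0 h4
      · have hp := (Fact.out : p.Prime)
        rw [← Finset.add_sum_erase _ _ (Finset.mem_univ (0 : ZMod p)),
          zero_pow (by omega), zero_add,
          Finset.sum_congr rfl (fun x hx => ZMod.pow_card_sub_one_eq_one (Finset.ne_of_mem_erase hx)),
          Finset.sum_const, Finset.card_erase_of_mem (Finset.mem_univ _), Finset.card_univ,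
          ZMod.card, nsmul_one, ZMod.natCast_eq_zero_iff] at h4
        have := Nat.le_of_dvd (by omega) h4
        omega
    · intro k hk
      rw [Finset.mem_range] at hk
      have h3 : ∀ x : ZMod p, x ^ i * (Q.coeff k * x ^ k) = Q.coeff k * x ^ (i + k) := fun x => by
        rw [← mul_left_comm, ← pow_add]
      simp only [h3, ← Finset.mul_sum]
      rw [FiniteField.sum_pow_lt_card_sub_one (ZMod p) _ (by rw [ZMod.card]; omega), mul_zero]
  have hn : P.natDegree < r := by
    have := hdeg 1 (by omega) (by rwa [one_mul])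
    rwa [one_mul] at this
  have hall : ∀ j, j < r → j * P.natDegree < r := by
    intro j
    induction j with
    | zero => intro hj; simpa using hj
    | succ j ih =>
      intro hj
      have h1 := ih (by omega)
      refine hdeg _ hj ?_
      rw [Nat.succ_mul]
      omega
  have h1 := hall (r - 1) (by omega)
  have hone : P.natDegree = 1 := by
    by_contra hn2
    have : (r - 1) * 2 ≤ (r - 1) * P.natDegree := Nat.mul_le_mul_left _ (by omega)
    omega
  obtain ⟨a, ha, b, hb⟩ := natDegree_eq_one.1 hone
  exact ⟨a, b, ha, fun x => by rw [← hPf, ← hb]; simp⟩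

/-- Let `G` be a non-solvable transitive permutation group of prime degree `p` and `K` a field of characteristic `p`. Then the heart of the permutation module is irreducible: an invariant subspace containing the constants and contained in the sum-zero functions is one or the other. -/
theorem result {α : Type*} [Fintype α] [DecidableEq α] {p : ℕ} [Fact p.Prime] (hα : Fintype.card α = p) (G : Subgroup (Equiv.Perm α)) [MulAction.IsPretransitive G α] (hG : ¬ Group.IsSolvable G) {K : Type*} [Field K] [CharP K p] (W : Subrepresentation (Cfsg.permRep K G α)) (h₁ : (Cfsg.permConstants K G α).toSubmodule ≤ W.toSubmodule) (h₂ : W.toSubmodule ≤ (Cfsg.permSumZero K G α).toSubmodule) : W = Cfsg.permConstants K G α ∨ W = Cfsg.permSumZero K G α := by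
  classical
  have hp : p.Prime := Fact.out
  have hαn : Nat.card α = p := by rw [Nat.card_eq_fintype_card, hα]
  obtain ⟨e, t, -, ht⟩ := Cfsg.Agent.Perm.PrimeDegree.exists_coord (p := p) hαn G
  let T : (ZMod p → K) ≃ₗ[K] (α → K) := LinearEquiv.funCongrLeft K K e.symm
  have hT : ∀ u x, T u x = u (e.symm x) := fun u x => rfl
  have hmove : ∀ (g : G) (u : ZMod p → K), T u ∈ W.toSubmodule →
      (fun k => u (e.symm (g • e k))) ∈ W.toSubmodule.comap T.toLinearMap := by
    intro g u hu
    have h := W.apply_mem_toSubmodule g⁻¹ hu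
    show T _ ∈ W.toSubmodule
    convert h using 1
    funext x
    show u (e.symm (g • e (e.symm x))) = T u (g⁻¹⁻¹ • x)
    rw [inv_inv, hT, Equiv.apply_symm_apply]
  have hshift : ∀ u ∈ W.toSubmodule.comap T.toLinearMap,
      (fun j => u (j - 1)) ∈ W.toSubmodule.comap T.toLinearMap := by
    intro u hu
    have h := hmove t⁻¹ u hu
    convert h using 1
    funext k
    congr 1
    rw [eq_comm, Equiv.symm_apply_eq, inv_smul_eq_iff, ht, sub_add_cancel]
  obtain ⟨r, hrp, hdim, hmem⟩ := S0673.result (W.toSubmodule.comap T.toLinearMap) hshift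
  let ι : ZMod p →+* K := ZMod.castHom dvd_rfl K
  have hmem' : ∀ u : ZMod p → K, T u ∈ W.toSubmodule ↔
      ∃ P : Polynomial K, P.degree < r ∧ ∀ j : ZMod p, u j = P.eval (ι j) := by
    intro u
    exact hmem u
  have hsumK : ∀ k, k < p - 1 → ∑ x : ZMod p, (ι x) ^ k = 0 := by
    intro k hk
    simp only [← map_pow, ← map_sum]
    rw [FiniteField.sum_pow_lt_card_sub_one (ZMod p) k (by rwa [ZMod.card]), map_zero]
  -- constants and the sum-zero functions bound r
  have hr1 : 1 ≤ r := by
    by_contra hr
    have h1 : T (fun _ => (1 : K)) ∈ W.toSubmodule :=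
      h₁ (Submodule.mem_span_singleton_self _)
    obtain ⟨P, hP, hPe⟩ := (hmem' _).1 h1
    have : r = 0 := by omega
    rw [this, Nat.cast_zero, ← Polynomial.degree_one (R := K)] at hP
    have hP0 : P = 0 := by
      by_contra hP0
      rw [Polynomial.degree_one] at hP
      exact absurd (Polynomial.zero_le_degree_iff.2 hP0) (not_le.2 hP)
    exact one_ne_zero ((hPe 0).trans (by rw [hP0, Polynomial.eval_zero]))
  have hr2 : r + 1 ≤ p := by
    by_contra hr
    have hone : T (Pi.single 0 1) ∈ W.toSubmodule := by
      let Q : Polynomial K := Lagrange.interpolate Finset.univ (fun j => ι j) (Pi.single 0 1)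
      have hinj : Set.InjOn (fun j => ι j) ((Finset.univ : Finset (ZMod p)) : Set (ZMod p)) :=
        (RingHom.injective ι).injOn
      refine (hmem' _).2 ⟨Q, ?_, fun j =>
        (Lagrange.eval_interpolate_at_node _ hinj (Finset.mem_univ j)).symm⟩
      have := Lagrange.degree_interpolate_lt (r := (Pi.single 0 1 : ZMod p → K)) hinj
      rw [Finset.card_univ, ZMod.card] at this
      exact lt_of_lt_of_le this (by exact_mod_cast (by omega : p ≤ r))
    have h2 : ∑ x, T (Pi.single 0 1) x = 0 := h₂ hone
    rw [Fintype.sum_equiv e.symm (fun x => T (Pi.single 0 1) x) (Pi.single 0 1) (fun x => rfl)] at h2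
    simp at h2
  rcases Nat.lt_or_ge r 2 with hr | hr
  · left
    refine Subrepresentation.toSubmodule_injective (le_antisymm (fun v hv => ?_) h₁)
    show v ∈ Submodule.span K {fun _ : α => (1 : K)}
    rw [← LinearEquiv.apply_symm_apply T v] at hv ⊢
    obtain ⟨P, hP, hPe⟩ := (hmem' _).1 hv
    have hr' : r = 1 := by omega
    rw [hr'] at hP
    have hP' : P.degree ≤ 0 := by
      by_cases hP0 : P = 0
      · simp [hP0]
      · have := (Polynomial.natDegree_lt_iff_degree_lt hP0).2 hP
        rw [← Polynomial.natDegree_eq_zero_iff_degree_le_zero]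
        omega
    rw [Submodule.mem_span_singleton]
    refine ⟨P.coeff 0, funext fun x => ?_⟩
    show P.coeff 0 * 1 = T (T.symm v) x
    rw [mul_one, hT, hPe, Polynomial.eq_C_of_degree_le_zero hP', Polynomial.eval_C,
      Polynomial.coeff_C_zero]
  rcases Nat.lt_or_ge (r + 1) p with hrp' | hrp'
  swap
  · right
    refine Subrepresentation.toSubmodule_injective (Submodule.eq_of_le_of_finrank_le h₂ ?_)
    have hW : Module.finrank K W.toSubmodule = r := by
      rw [← hdim]
      exact (T.ofSubmodule' W.toSubmodule).finrank_eq.symm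
    rw [hW]
    have hlt : Module.finrank K (Cfsg.permSumZero K G α).toSubmodule < Fintype.card α := by
      rw [← Module.finrank_fintype_fun_eq_card K (η := α)]
      apply Submodule.finrank_lt
      intro htop
      have hm : (Pi.single (e 0) 1 : α → K) ∈ (Cfsg.permSumZero K G α).toSubmodule :=
        htop ▸ Submodule.mem_top
      have hm' : ∑ x, (Pi.single (e 0) 1 : α → K) x = 0 := hm
      simp at hm'
    omega
  -- now 2 ≤ r ≤ p - 2
  exfalso
  apply hG
  refine Cfsg.Agent.Perm.PrimeDegree.isSolvable_of_affine G e fun g => ?_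
  let f : G → ZMod p → ZMod p := fun g k => e.symm (g • e k)
  have hf : ∀ g, Function.Bijective (f g) := fun g =>
    e.symm.bijective.comp ((MulAction.bijective g).comp e.bijective)
  have hsum : ∀ (g : G) (i j : ℕ), i < r → j < p - r → ∑ x, f g x ^ i * x ^ j = 0 := by
    intro g i j hi hj
    apply RingHom.injective ι
    rw [map_sum, map_zero]
    have h1 : T (fun x => (ι x) ^ i) ∈ W.toSubmodule :=
      (hmem' _).2 ⟨Polynomial.X ^ i, by rw [Polynomial.degree_X_pow]; exact_mod_cast hi,
        fun x => by simp⟩
    obtain ⟨P, hP, hPe⟩ := (hmem' _).1 (hmove g _ h1)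
    have hPn : P.natDegree < r := by
      by_cases hP0 : P = 0
      · rw [hP0, Polynomial.natDegree_zero]; omega
      · exact (Polynomial.natDegree_lt_iff_degree_lt hP0).2 hP
    calc ∑ x, ι (f g x ^ i * x ^ j) = ∑ x, P.eval (ι x) * ι x ^ j := by
          refine Finset.sum_congr rfl fun x _ => ?_
          rw [map_mul, map_pow, map_pow, ← hPe]
      _ = ∑ k ∈ Finset.range r, P.coeff k * ∑ x, ι x ^ (k + j) := by
          simp only [Polynomial.eval_eq_sum_range' hPn, Finset.sum_mul, Finset.mul_sum, mul_assoc,
            pow_add]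
          exact Finset.sum_comm
      _ = 0 := Finset.sum_eq_zero fun k hk => by
          rw [Finset.mem_range] at hk
          rw [hsumK _ (by omega), mul_zero]
  obtain ⟨a, b, ha, hab⟩ : ∃ a b : ZMod p, a ≠ 0 ∧ ∀ x, f g x = a * x + b := by
    rcases Nat.lt_or_ge p (2 * r) with hbig | hbig
    · refine affine (f g) (hf g) (p - r) (by omega) (by omega) fun i j hi hj => ?_
      -- the condition for the inverse permutation
      refine Eq.trans ?_ (hsum g⁻¹ i j (by omega) hj)
      refine (Fintype.sum_equiv (Equiv.ofBijective (f g) (hf g)) _ _ fun x => ?_)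
      show x ^ i * f g x ^ j = f g⁻¹ (f g x) ^ i * f g x ^ j
      congr 2
      show x = e.symm (g⁻¹ • e (e.symm (g • e x)))
      rw [Equiv.apply_symm_apply, inv_smul_smul, Equiv.symm_apply_apply]
    · exact affine (f g) (hf g) r hr hbig fun i j hi hj => by
        refine Eq.trans ?_ (hsum g j i hj hi)
        exact Finset.sum_congr rfl fun x _ => mul_comm _ _
  exact ⟨a, b, ha, fun k => by
    rw [← hab]; exact (e.apply_symm_apply _).symm⟩

end Cfsg.Agent.S0674
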