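import Cfsg.Statements.S0676
import Cfsg.Agent.S0672
import Cfsg.Agent.S0674
import Cfsg.Agent.Lib.Perm.EvenNormalizer

set_option autoImplicit false
open Cfsg

namespace Cfsg.Agent.S0676

open scoped Pointwise

theorem two_cases : ∀ k : ZMod 2, k = 0 ∨ k = 1 := by decide

theorem two_ne_cases : ∀ x y : ZMod 2, x ≠ y → x = 1 + y := by decide

/-- A non-solvable transitive permutation group of prime degree `p` whose Sylow `p`-normaliser has even order is triply transitive. -/
theorem result {α : Type*} [Fintype α] [DecidableEq α] {p : ℕ} [Fact p.Prime] (hα : Fintype.card α = p) (G : Subgroup (Equiv.Perm α)) [MulAction.IsPretransitive G α] (hG : ¬ Group.IsSolvable G) (P : Sylow p G) (heven : Even (Nat.card (Subgroup.normalizer ((P : Subgroup G) : Set G)))) : MulAction.IsMultiplyPretransitive G α 3 := by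
  classical
  have hp : p.Prime := Fact.out
  have hαn : Nat.card α = p := by rw [Nat.card_eq_fintype_card, hα]
  have hp2 : p ≠ 2 := by
    rintro rfl
    apply hG
    obtain ⟨e, t, -, ht⟩ := Cfsg.Agent.Perm.PrimeDegree.exists_coord (p := 2) hαn G
    refine Cfsg.Agent.Perm.PrimeDegree.isSolvable_of_affine G e fun g => ⟨1, e.symm (g • e 0),
      one_ne_zero, fun k => ?_⟩
    rw [one_mul]
    have hk : k = 0 ∨ k = 1 := two_cases k
    rcases hk with rfl | rfl
    · simp
    · have hne : g • e 1 ≠ g • e 0 := fun h => one_ne_zero (e.injective (MulAction.injective g h))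
      apply e.symm.injective
      rw [Equiv.symm_apply_apply]
      have hne' : e.symm (g • e 1) ≠ e.symm (g • e 0) := fun h => hne (e.symm.injective h)
      generalize e.symm (g • e 1) = x at hne' ⊢
      generalize e.symm (g • e 0) = y at hne' ⊢
      exact two_ne_cases x y hne'
  obtain ⟨e, t, h, -, ht, hh⟩ :=
    Cfsg.Agent.Perm.EvenNormalizer.exists_coord_neg hαn hp2 G P heven
  have h2 : MulAction.IsMultiplyPretransitive G α 2 :=
    (Cfsg.Agent.Perm.PrimeDegree.two_transitive_or_affine G e t ht).resolve_right
      fun haff => hG (Cfsg.Agent.Perm.PrimeDegree.isSolvable_of_affine G e haff)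
  have h21 : (1 : ZMod p) ≠ -1 := by
    intro hh
    have : ((2 : ℕ) : ZMod p) = 0 := by push_cast; linear_combination hh
    rw [ZMod.natCast_eq_zero_iff] at this
    exact hp2 ((Nat.prime_dvd_prime_iff_eq hp Nat.prime_two).1 this)
  refine S0672.result (K := ZMod p) (p := p) h2 (by rw [hα]) (fun a => ?_) ?_
  · obtain ⟨g, hg⟩ := MulAction.exists_smul_eq G (e 0) a
    have hmem : g * h * g⁻¹ ∈ MulAction.stabilizer G a := by
      rw [MulAction.mem_stabilizer_iff, mul_smul, mul_smul, inv_smul_eq_iff.2 hg.symm, hh, neg_zero, hg]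
    have ho : orderOf (⟨_, hmem⟩ : MulAction.stabilizer G a) = 2 := by
      rw [Subgroup.orderOf_mk]
      refine orderOf_eq_prime ?_ fun hone => ?_
      · have hh2 : h * h = 1 := by
          refine Subtype.ext (Equiv.ext fun x => ?_)
          obtain ⟨k, rfl⟩ := e.surjective x
          show (h * h) • e k = e k
          rw [mul_smul, hh, hh, neg_neg]
        rw [conj_pow, pow_two, hh2, mul_one, mul_inv_cancel]
      · rw [conj_eq_one_iff] at hone
        have := hh 1
        rw [hone, one_smul] at this
        exact h21 (e.injective this)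
    exact even_iff_two_dvd.2 (ho ▸ orderOf_dvd_natCard _)
  intro f hf
  by_contra hf0
  -- the kernel is the line of constants
  let W : Subrepresentation (Cfsg.permRep (ZMod p) G α) :=
    { toSubmodule := (LinearMap.ker f.toLinearMap).map (Cfsg.permSumZero (ZMod p) G α).toSubmodule.subtype
      apply_mem_toSubmodule := fun g v hv => by
        obtain ⟨w, hw, rfl⟩ := hv
        refine ⟨(Cfsg.permSumZero (ZMod p) G α).toRepresentation g w, ?_, rfl⟩
        show f _ = 0
        rw [f.isIntertwining, show f w = 0 from hw, map_zero] }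
  have hone : (fun _ => (1 : ZMod p)) ∈ (Cfsg.permSumZero (ZMod p) G α).toSubmodule := by
    show ∑ _x : α, (1 : ZMod p) = 0
    rw [Finset.sum_const, Finset.card_univ, hα, nsmul_one, ZMod.natCast_self]
  have hW : W = Cfsg.permConstants (ZMod p) G α := by
    refine (S0674.result hα G hG W ?_ ?_).resolve_right fun hW => hf0 ?_
    · show Submodule.span _ _ ≤ _
      rw [Submodule.span_singleton_le_iff_mem]
      exact ⟨⟨_, hone⟩, hf _ (Submodule.mem_span_singleton_self _), rfl⟩
    · rintro _ ⟨w, -, rfl⟩
      exact w.2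
    · apply Representation.IntertwiningMap.ext
      refine LinearMap.ext fun w => ?_
      have : (w : α → ZMod p) ∈ W.toSubmodule := by rw [hW]; exact w.2
      obtain ⟨w', hw', he⟩ := this
      rw [← Subtype.ext he]
      exact hw'
  -- the linear function
  let v : α → ZMod p := fun x => e.symm x
  have hv : v ∈ (Cfsg.permSumZero (ZMod p) G α).toSubmodule := by
    show ∑ x, e.symm x = 0
    rw [e.symm.sum_comp fun k => k]
    have h2 : ∑ k : ZMod p, k = ∑ k : ZMod p, -k :=
      Fintype.sum_equiv (Equiv.neg _) _ _ fun k => by simp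
    rw [Finset.sum_neg_distrib] at h2
    have h3 : (2 : ZMod p) * ∑ k : ZMod p, k = 0 := by linear_combination h2
    refine (mul_eq_zero.1 h3).resolve_left fun h4 => h21 ?_
    linear_combination h4
  set F := f ⟨v, hv⟩ with hF
  have hFt : ∀ s, F (t⁻¹ • s) = F s := by
    intro s
    have h1 : (Cfsg.permSumZero (ZMod p) G α).toRepresentation t ⟨v, hv⟩ =
        ⟨v, hv⟩ - ⟨_, hone⟩ := by
      apply Subtype.ext
      funext x
      obtain ⟨k, rfl⟩ := e.surjective x
      show v (t⁻¹ • e k) = v (e k) - 1
      rw [show t⁻¹ • e k = e (k - 1) from by rw [inv_smul_eq_iff, ht, sub_add_cancel]]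
      simp [v]
    have h3 := congrFun (f.isIntertwining _ _ t ⟨v, hv⟩) s
    rw [h1, map_sub, hf ⟨_, hone⟩ (Submodule.mem_span_singleton_self _), sub_zero] at h3
    exact h3.symm
  have hFh : ∀ s, F (h⁻¹ • s) = - F s := by
    intro s
    have h1 : (Cfsg.permSumZero (ZMod p) G α).toRepresentation h ⟨v, hv⟩ = - ⟨v, hv⟩ := by
      apply Subtype.ext
      funext x
      obtain ⟨k, rfl⟩ := e.surjective x
      show v (h⁻¹ • e k) = - v (e k)
      rw [show h⁻¹ • e k = e (-k) from by rw [inv_smul_eq_iff, hh, neg_neg]]
      simp [v]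
    have h3 := congrFun (f.isIntertwining _ _ h ⟨v, hv⟩) s
    rw [h1, map_neg] at h3
    exact h3.symm
  have htn : ∀ (n : ℕ) s, F ((t ^ n) • s) = F s := by
    intro n
    induction n with
    | zero => simp
    | succ n ih =>
      intro s
      rw [← hFt, pow_succ', mul_smul, inv_smul_smul, ih]
  have hF0 : F = 0 := by
    funext s
    obtain ⟨x, y, hxy, hs⟩ := Finset.card_eq_two.1 s.2
    have htk : ∀ (n : ℕ) (k : ZMod p), (t ^ n) • e k = e (k + n) := by
      intro n
      induction n with
      | zero => simp
      | succ n ih =>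
        intro k
        rw [pow_succ', mul_smul, ih, ht, Nat.cast_succ, add_assoc]
    set c : ZMod p := -(e.symm x + e.symm y) with hc
    have hsame : (t ^ c.val) • s = h⁻¹ • s := by
      apply Subtype.ext
      change (t ^ c.val) • (s.1 : Finset α) = h⁻¹ • (s.1 : Finset α)
      rw [hs, Finset.smul_finset_insert, Finset.smul_finset_singleton, Finset.smul_finset_insert,
        Finset.smul_finset_singleton]
      have key : ∀ z, h⁻¹ • z = e (-e.symm z) := fun z => by
        rw [inv_smul_eq_iff, hh, neg_neg, Equiv.apply_symm_apply]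
      have key' : ∀ z, (t ^ c.val) • z = e (e.symm z + c) := fun z => by
        conv_lhs => rw [← e.apply_symm_apply z, htk, ZMod.natCast_rightInverse c]
      rw [key, key, key', key', Finset.pair_comm]
      congr 2
      · rw [hc]; ring
      · rw [hc]; congr 1; ring
    have h1 := htn c.val s
    rw [hsame, hFh] at h1
    have h3 : (2 : ZMod p) * F s = 0 := by linear_combination -h1
    refine (mul_eq_zero.1 h3).resolve_left fun h4 => h21 ?_
    linear_combination h4
  have hvW : v ∈ W.toSubmodule := ⟨⟨v, hv⟩, hF0, rfl⟩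
  rw [hW] at hvW
  obtain ⟨c, hc⟩ := Submodule.mem_span_singleton.1 hvW
  have e1 := congrFun hc (e 0)
  have e2 := congrFun hc (e 1)
  simp [v] at e1 e2
  exact one_ne_zero (e2.symm.trans e1)

end Cfsg.Agent.S0676
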