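import Cfsg.Statements.S0369
import Cfsg.Agent.Lib.Golay.Trans

set_option autoImplicit false
open Cfsg

namespace Cfsg.Agent.S0369

open Cfsg.Agent.Golay.Basic Cfsg.Agent.Golay.Design Cfsg.Agent.Golay.Perm Cfsg.Agent.Golay.M24 Cfsg.Agent.Golay.Trans
open scoped Pointwise

/-- The group of the length-24 code coincides with the automorphism group of its octad system. -/
theorem result : Cfsg.M24 = Cfsg.setSystemAut Cfsg.octads := by
  apply le_antisymm
  · intro g hg
    show g • Cfsg.octads = Cfsg.octads
    exact Set.eq_of_subset_of_ncard_le (by rintro _ ⟨o, ho, rfl⟩; exact smul_mem_octads hg ho)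
      (by rw [Set.ncard_smul_set]) (Set.toFinite _)
  · intro g hg
    have hg' : g • Cfsg.octads = Cfsg.octads := hg
    refine mem_M24_of_basis fun b hb => ?_
    have hb8 : maskSet b ∈ Cfsg.octads := mem_octads_iff.2 (by revert b; decide +kernel)
    have : g • maskSet b ∈ Cfsg.octads := by
      rw [← hg']; exact Set.smul_mem_smul_set hb8
    exact this.1

end Cfsg.Agent.S0369
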