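import Cfsg.Statements.S5604
import Cfsg.Agent.Lib.M24Module.CentBase
import Cfsg.Agent.Lib.M24Module.CentData
import Cfsg.Agent.Lib.M24Module.Enum

set_option autoImplicit false
open scoped Pointwise
open Cfsg

namespace Cfsg.Agent.S5604

open Cfsg.Agent.M24Module Cfsg.Agent.Golay.Basic Cfsg.Agent.Golay.Perm Cfsg.Agent.Golay.M24 Cfsg.Agent.Golay.Cert Cfsg.Agent.Golay.Orbit Cfsg.Agent.M24Module.ClassData Cfsg.Agent.M24Module.Classes Cfsg.Agent.M24Module.FixCount Cfsg.Agent.M24Module.ObjOrbit Cfsg.Agent.M24Module.Config Cfsg.Agent.M24Module.CentBase Cfsg.Agent.M24Module.CentData Cfsg.Agent.M24Module.Enum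
open scoped Pointwise
set_option maxRecDepth 10000

/-- The representative. -/
def rep : ℕ := sevenReps.getD 0 0

/-- The table of a power of the representative. -/
def powTab (j : ℕ) : ℕ := packTab (fun i => powAt rep j i) 24

theorem rep_facts' :
    tabOK rep = true ∧ packTab (fun i => tabAt rep i) 24 = rep ∧
    (sevenReps.all fun r => tabOK r && [1, 6].any fun j => (List.range 24).all fun i =>
      tabAt r i == powAt rep j i) = true ∧
    ((List.range 24).all fun i => powAt rep 7 i == i) = true ∧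
    ((List.range 24).any fun i => !(tabAt rep i == i)) = true := by decide +kernel

theorem chain_facts :
    normSevenTabs.all tabOK = true ∧ chainOK normSevenTabs [] normSevenChain = true ∧
    chainProd normSevenChain = 126 ∧
    (normSevenTabs.all fun x => [1, 2, 4].any fun j => (List.range 24).all fun i =>
      tabAt x (tabAt rep i) == powAt rep j (tabAt x i)) = true ∧
    centSevenTabs.all tabOK = true ∧ chainOK centSevenTabs [] centSevenChain = true ∧
    chainProd centSevenChain = 42 ∧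
    (centSevenTabs.all fun x => (List.range 24).all fun i =>
      tabAt x (tabAt rep i) == tabAt rep (tabAt x i)) = true ∧
    (centSevenTabs.any fun x => centSevenTabs.any fun y => (List.range 24).any fun i =>
      !(tabAt x (tabAt y i) == tabAt y (tabAt x i))) = true := by decide +kernel

theorem trio_facts :
    trioOK trioSeven = true ∧
    (trioSeven.all fun m => trioSeven.contains (imgTab rep m)) = true ∧
    ((trioList.filter fun l => listCode (actList rep l) == listCode l).map listCode) = [listCode trioSeven] ∧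
    trioSevenTabs.all tabOK = true ∧
    (trioSevenTabs.all fun x => trioSeven.all fun m => trioSeven.contains (imgTab x m)) = true ∧
    conjTreeOK trioSevenTabs trioSevenTree rep 1536 = true ∧
    ([3, 5, 6].all fun j =>
      !((orbitList conjTab trioSevenTabs trioSevenTree rep).contains (powTab j))) = true := by
  decide +kernel

/-- The representative as an element. -/
noncomputable def R : Cfsg.M24 := ⟨tabPerm rep, tabPerm_mem rep_facts'.1⟩

theorem orderOf_R : orderOf R = 7 := by
  haveI : Fact (Nat.Prime 7) := ⟨by norm_num⟩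
  rw [← Subgroup.orderOf_coe]
  exact orderOf_rep rep_facts'.1 (by rw [rep_facts'.2.2.2.1, rep_facts'.2.2.2.2]; rfl)

theorem pow_coe (j : ℕ) : ((R ^ j : Cfsg.M24) : Equiv.Perm Cfsg.GolayPt) = tabPerm rep ^ j := rfl

theorem ix_R_pow (j : ℕ) (p : Cfsg.GolayPt) : ix ((tabPerm rep ^ j) p) = powAt rep j (ix p) :=
  ix_pow (isTab_tabPerm rep_facts'.1) j p

theorem permTab_pow (j : ℕ) : permTab (tabPerm rep ^ j) = powTab j :=
  packTab_congr 24 _ _ fun i hi => by rw [ix_R_pow, ix_pt hi]

/-- The subgroup. -/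
noncomputable def S₀ : Subgroup Cfsg.M24 := Subgroup.zpowers R

theorem card_S₀ : Nat.card S₀ = 7 := by rw [S₀, Nat.card_zpowers, orderOf_R]

theorem eq_pow_of_mem {x : Cfsg.M24} (hx : x ∈ S₀) : ∃ j, j < 7 ∧ x = R ^ j := by
  obtain ⟨k, hk, e⟩ := (isOfFinOrder_of_finite R).mem_zpowers_iff_mem_range_orderOf.1 hx |>
    Finset.mem_image.1
  exact ⟨k, by rw [← orderOf_R]; exact Finset.mem_range.1 hk, e.symm⟩

/-- The centraliser of the representative. -/
def cz : Subgroup (Equiv.Perm Cfsg.GolayPt) := Cfsg.M24 ⊓ Subgroup.centralizer {tabPerm rep}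

theorem mem_cz {g : Equiv.Perm Cfsg.GolayPt} :
    g ∈ cz ↔ g ∈ Cfsg.M24 ∧ g * tabPerm rep = tabPerm rep * g := by
  rw [cz, Subgroup.mem_inf, Subgroup.mem_centralizer_singleton_iff]

theorem cent_iff (g : Cfsg.M24) :
    g ∈ Subgroup.centralizer (S₀ : Set Cfsg.M24) ↔ (g : Equiv.Perm Cfsg.GolayPt) ∈ cz := by
  rw [mem_cz, Subgroup.mem_centralizer_iff]
  refine ⟨fun h => ⟨g.2, congrArg Subtype.val (h R (Subgroup.mem_zpowers R)).symm⟩, fun h x hx => ?_⟩
  obtain ⟨j, -, rfl⟩ := eq_pow_of_mem hx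
  exact ((Subtype.ext h.2 : g * R = R * g) |> fun e => (Commute.pow_right e j).eq.symm)

theorem norm_trio {n : Cfsg.M24} (hn : n ∈ Subgroup.normalizer (S₀ : Set Cfsg.M24)) :
    n • obj trioSeven = obj trioSeven := by
  obtain ⟨hok, hfix, hu, -⟩ := trio_facts
  obtain ⟨hlok, hnd, hmem⟩ := trioList_spec
  have hl0 : listOK trioSeven = true := by
    simp only [trioOK, Bool.and_eq_true] at hok
    exact hok.1.1.1
  have hR : R ∈ MulAction.stabilizer Cfsg.M24 (obj trioSeven) :=
    le_stabilizer_obj (X := [rep]) (by decide +kernel) (v := trioSeven)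
      (by simpa using hfix) R (Subgroup.subset_closure ⟨rep, List.mem_singleton_self _, rfl⟩)
  have hS : S₀ ≤ MulAction.stabilizer Cfsg.M24 (obj trioSeven) := Subgroup.zpowers_le.2 hR
  have hnT : R • n • obj trioSeven = n • obj trioSeven := by
    have hi : n⁻¹ * R * n ∈ S₀ :=
      (Subgroup.mem_normalizer_iff''.1 hn R).1 (Subgroup.mem_zpowers R)
    have h' : (n⁻¹ * R * n) • obj trioSeven = obj trioSeven := hS hi
    conv_rhs => rw [← h']
    simp only [← mul_smul]
    group
  obtain ⟨l, hl, e⟩ := (hmem _).1 (smul_mem_trios n.2 (obj_mem_trios hok))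
  obtain ⟨l0, hl0m, e0⟩ := (hmem _).1 (obj_mem_trios hok)
  have e' : obj l = n • obj trioSeven := e
  have hlf : l ∈ trioList.filter fun l => listCode (actList rep l) == listCode l := by
    rw [List.mem_filter]
    refine ⟨hl, beq_iff_eq.2 ?_⟩
    rw [← objCode_obj (actList_ok rep_facts'.1 (hlok l hl)), ← objCode_obj (hlok l hl)]
    refine congrArg objCode ?_
    rw [show obj (actList rep l) = tabPerm rep • obj l from (smul_obj rep_facts'.1 l).symm, e']
    exact hnT
  have hc : listCode l = listCode trioSeven := by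
    have := List.mem_map_of_mem (f := listCode) hlf
    rw [hu, List.mem_singleton] at this
    exact this
  have hc0 : listCode l0 = listCode trioSeven := by
    rw [← objCode_obj (hlok l0 hl0m), e0, objCode_obj hl0]
  rw [← e', List.inj_on_of_nodup_map hnd hl hl0m (hc.trans hc0.symm), e0]

theorem cz_trio (g : Cfsg.M24) (hg : (g : Equiv.Perm Cfsg.GolayPt) ∈ cz) :
    g ∈ MulAction.stabilizer Cfsg.M24 (obj trioSeven) := by
  refine norm_trio ?_
  exact Subgroup.centralizer_le_normalizer _ ((cent_iff g).2 hg)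

theorem card_cz : Nat.card cz = 42 ∧
    (MulAction.orbit (MulAction.stabilizer Cfsg.M24 (obj trioSeven)) (⟨tabPerm rep⟩ : Conj)).ncard = 1536 := by
  obtain ⟨-, -, -, -, hX, hch, hprod, hcomm, -⟩ := chain_facts
  obtain ⟨hok, -, -, hY, hYfix, htree, -⟩ := trio_facts
  simp only [List.all_eq_true, List.mem_range, beq_iff_eq] at hcomm
  have hr := rep_facts'.1
  have h1 : 42 ≤ Nat.card cz := hprod ▸ le_card_of_chain hX hch (K := cz) fun x hx => by
    have hx' : tabOK x = true := List.all_eq_true.1 hX x hx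
    refine mem_cz.2 ⟨tabPerm_mem hx', Equiv.ext fun p => ix_injective ?_⟩
    rw [Equiv.Perm.mul_apply, Equiv.Perm.mul_apply, isTab_tabPerm hx', isTab_tabPerm hr,
      isTab_tabPerm hr, isTab_tabPerm hx', hcomm x hx _ (ix_lt p)]
  have hrep : rep = permTab (tabPerm rep) := rep_facts'.2.1.symm.trans (isTab_eq (isTab_tabPerm hr))
  obtain ⟨-, hn⟩ := le_ncard_conj hY (H := MulAction.stabilizer Cfsg.M24 (obj trioSeven))
    (le_stabilizer_obj hY hYfix) hrep htree
  have h2 := card_cent_mul (H := MulAction.stabilizer Cfsg.M24 (obj trioSeven)) (K := cz)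
    (g₀ := tabPerm rep) (fun g => mem_cz) cz_trio
  rw [card_stabilizer_trio (obj_mem_trios hok)] at h2
  generalize (MulAction.orbit (MulAction.stabilizer Cfsg.M24 (obj trioSeven))
    (⟨tabPerm rep⟩ : Conj)).ncard = N at hn h2 ⊢
  have h3 : 1536 * Nat.card cz ≤ 64512 := h2 ▸ Nat.mul_le_mul_right _ hn
  have h4 : Nat.card cz = 42 := by omega
  rw [h4] at h2
  exact ⟨h4, by omega⟩

theorem norm_conj {n : Cfsg.M24} (hn : n ∈ Subgroup.normalizer (S₀ : Set Cfsg.M24)) :
    ∃ j, (j = 1 ∨ j = 2 ∨ j = 4) ∧ n * R * n⁻¹ = R ^ j := by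
  classical
  obtain ⟨j, hj, e⟩ := eq_pow_of_mem ((Subgroup.mem_normalizer_iff.1 hn R).1 (Subgroup.mem_zpowers R))
  refine ⟨j, ?_, e⟩
  obtain ⟨-, -, -, hY, hYfix, htree, hnot⟩ := trio_facts
  have hrep : rep = permTab (tabPerm rep) :=
    rep_facts'.2.1.symm.trans (isTab_eq (isTab_tabPerm rep_facts'.1))
  obtain ⟨hnodes, -⟩ := le_ncard_conj hY (H := MulAction.stabilizer Cfsg.M24 (obj trioSeven))
    (le_stabilizer_obj hY hYfix) hrep htree
  simp only [conjTreeOK, Bool.and_eq_true, beq_iff_eq] at htree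
  have hndl : (orbitList conjTab trioSevenTabs trioSevenTree rep).Nodup :=
    List.Nodup.of_map _ (Trie.nodup_of_distinct htree.1)
  set O := MulAction.orbit (MulAction.stabilizer Cfsg.M24 (obj trioSeven)) (⟨tabPerm rep⟩ : Conj)
  have himg : ((orbitList conjTab trioSevenTabs trioSevenTree rep).toFinset : Set ℕ) =
      (fun y : Conj => permTab y.val) '' O := by
    refine Set.eq_of_subset_of_ncard_le (fun c hc => ?_) ?_ (Set.toFinite _)
    · obtain ⟨y, hy, e⟩ := hnodes c (List.mem_toFinset.1 hc)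
      exact ⟨y, hy, e⟩
    · rw [Set.ncard_coe_finset, List.toFinset_card_of_nodup hndl, htree.2, ← card_cz.2]
      exact Set.ncard_image_le (Set.toFinite _)
  have hmem : powTab j ∈ orbitList conjTab trioSevenTabs trioSevenTree rep := by
    rw [← List.mem_toFinset, ← Finset.mem_coe, himg]
    refine ⟨(⟨n, norm_trio hn⟩ : MulAction.stabilizer Cfsg.M24 (obj trioSeven)) •
      (⟨tabPerm rep⟩ : Conj), ⟨_, rfl⟩, ?_⟩
    show permTab ((n : Equiv.Perm Cfsg.GolayPt) * tabPerm rep * (n : Equiv.Perm Cfsg.GolayPt)⁻¹) = _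
    rw [← permTab_pow, ← pow_coe, ← e]
    rfl
  simp only [List.all_eq_true, Bool.not_eq_true', List.contains_eq_mem, decide_eq_false_iff_not] at hnot
  have hj0 : j ≠ 0 := fun h0 => by
    rw [h0, pow_zero] at e
    have hR1 : R = 1 := by
      calc R = n⁻¹ * (n * R * n⁻¹) * n := by group
        _ = 1 := by rw [e]; group
    have := orderOf_R
    rw [hR1, orderOf_one] at this
    omega
  interval_cases j <;> first | omega | exact absurd hmem (hnot _ (by decide))

theorem card_norm : Nat.card (Subgroup.normalizer (S₀ : Set Cfsg.M24)) = 126 := by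
  classical
  obtain ⟨hX, hch, hprod, hconj, -⟩ := chain_facts
  simp only [List.all_eq_true, List.any_eq_true, List.mem_range, beq_iff_eq] at hconj
  have hr := rep_facts'.1
  let N := Subgroup.normalizer (S₀ : Set Cfsg.M24)
  have h1 : 126 ≤ Nat.card N := by
    have h := le_card_of_chain hX hch (K := N.map Cfsg.M24.subtype) fun x hx => ?_
    · rwa [hprod, Subgroup.card_map_of_injective Subtype.val_injective] at h
    have hx' : tabOK x = true := List.all_eq_true.1 hX x hx
    obtain ⟨j, hj, hxj⟩ := hconj x hx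
    refine ⟨⟨tabPerm x, tabPerm_mem hx'⟩, ?_, rfl⟩
    have e : (⟨tabPerm x, tabPerm_mem hx'⟩ : Cfsg.M24) * R * (⟨tabPerm x, tabPerm_mem hx'⟩ : Cfsg.M24)⁻¹ =
        R ^ j := by
      rw [mul_inv_eq_iff_eq_mul]
      refine Subtype.ext (Equiv.ext fun p => ix_injective ?_)
      show ix (tabPerm x (tabPerm rep p)) = ix ((tabPerm rep ^ j) (tabPerm x p))
      rw [isTab_tabPerm hx', isTab_tabPerm hr, ix_R_pow, isTab_tabPerm hx', hxj _ (ix_lt p)]
    have hmap : S₀.map (MulAut.conj (⟨tabPerm x, tabPerm_mem hx'⟩ : Cfsg.M24)).toMonoidHom = S₀ := by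
      refine Subgroup.eq_of_le_of_card_ge ?_ ?_
      · rw [S₀, MonoidHom.map_zpowers, Subgroup.zpowers_le]
        show _ * R * _⁻¹ ∈ _
        rw [e]; exact pow_mem (Subgroup.mem_zpowers R) j
      · rw [Subgroup.card_map_of_injective (MulEquiv.injective _)]
    refine Subgroup.mem_normalizer_iff.2 fun h => ?_
    conv_rhs => rw [← hmap]
    exact (Subgroup.mem_map_iff_mem (MulEquiv.injective _)).symm
  have h2 := card_cent_mul (H := N) (K := cz) (g₀ := tabPerm rep) (fun g => mem_cz)
    fun g hg => Subgroup.centralizer_le_normalizer _ ((cent_iff g).2 hg)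
  rw [card_cz.1] at h2
  have h3 : (MulAction.orbit N (⟨tabPerm rep⟩ : Conj)).ncard ≤ 3 := by
    refine (Set.ncard_le_ncard (t := ↑(({1, 2, 4} : Finset ℕ).image fun j => (⟨tabPerm rep ^ j⟩ : Conj)))
      ?_ (Set.toFinite _)).trans ?_
    · rintro _ ⟨n, rfl⟩
      obtain ⟨j, hj, e⟩ := norm_conj n.2
      refine Finset.mem_coe.2 (Finset.mem_image.2 ⟨j, by simpa using hj, ?_⟩)
      rw [← pow_coe, ← e]
      rfl
    · rw [Set.ncard_coe_finset]
      exact Finset.card_image_le.trans Finset.card_le_three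
  generalize (MulAction.orbit N (⟨tabPerm rep⟩ : Conj)).ncard = M at h2 h3
  have h4 : Nat.card N ≤ 126 := by
    rw [← h2]
    exact (Nat.mul_le_mul_right 42 h3).trans (by norm_num)
  exact le_antisymm h4 h1

theorem card_cent : Nat.card (Subgroup.centralizer (S₀ : Set Cfsg.M24)) = 42 := by
  rw [← card_cz.1]
  exact Nat.card_congr
    { toFun := fun g => ⟨g.1.1, (cent_iff g.1).1 g.2⟩
      invFun := fun g => ⟨⟨g.1, (mem_cz.1 g.2).1⟩, (cent_iff _).2 g.2⟩
      left_inv := fun _ => rfl
      right_inv := fun _ => rfl }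

theorem noncomm : ∃ x ∈ Subgroup.centralizer (S₀ : Set Cfsg.M24),
    ∃ y ∈ Subgroup.centralizer (S₀ : Set Cfsg.M24), x * y ≠ y * x := by
  obtain ⟨-, -, -, -, hX, -, -, hcomm, hne⟩ := chain_facts
  simp only [List.all_eq_true, List.any_eq_true, List.mem_range, beq_iff_eq, Bool.not_eq_true',
    beq_eq_false_iff_ne] at hcomm hne
  have hr := rep_facts'.1
  have hmem : ∀ x (hx : x ∈ centSevenTabs), (⟨tabPerm x, tabPerm_mem (List.all_eq_true.1 hX x hx)⟩ :
      Cfsg.M24) ∈ Subgroup.centralizer (S₀ : Set Cfsg.M24) := fun x hx => by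
    have hx' : tabOK x = true := List.all_eq_true.1 hX x hx
    refine (cent_iff _).2 (mem_cz.2 ⟨tabPerm_mem hx', Equiv.ext fun p => ix_injective ?_⟩)
    show ix (tabPerm x (tabPerm rep p)) = ix (tabPerm rep (tabPerm x p))
    rw [isTab_tabPerm hx', isTab_tabPerm hr, isTab_tabPerm hr, isTab_tabPerm hx', hcomm x hx _ (ix_lt p)]
  obtain ⟨x, hx, y, hy, i, hi, hxy⟩ := hne
  refine ⟨_, hmem x hx, _, hmem y hy, fun e => hxy ?_⟩
  have h := congrArg (fun g : Cfsg.M24 => ix ((g : Equiv.Perm Cfsg.GolayPt) (pt i))) e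
  simp only [Subgroup.coe_mul, Equiv.Perm.mul_apply, isTab_tabPerm (List.all_eq_true.1 hX x hx) _,
    isTab_tabPerm (List.all_eq_true.1 hX y hy) _, ix_pt hi] at h
  exact h

theorem exists_conj {S : Subgroup Cfsg.M24} (hS : Nat.card S = 7) :
    ∃ k : Cfsg.M24, S.map (MulAut.conj k).toMonoidHom = S₀ := by
  haveI : Fact (Nat.Prime 7) := ⟨by norm_num⟩
  haveI : Finite S := Nat.finite_of_card_ne_zero (by rw [hS]; norm_num)
  obtain ⟨g, hg⟩ := exists_prime_orderOf_dvd_card' (G := S) 7 (by rw [hS])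
  have hg' : orderOf (g : Cfsg.M24) = 7 := by rw [Subgroup.orderOf_coe, hg]
  obtain ⟨a, ha, r, hr, e⟩ := classify_seven (g : Cfsg.M24).2
    (by rw [Subgroup.orderOf_coe, hg'])
  have hrep := List.all_eq_true.1 rep_facts'.2.2.1 r hr
  simp only [Bool.and_eq_true, List.any_eq_true, List.all_eq_true, List.mem_range, beq_iff_eq] at hrep
  obtain ⟨hrtab, j, -, hrj⟩ := hrep
  refine ⟨⟨a, ha⟩, Subgroup.eq_of_le_of_card_ge ?_ ?_⟩
  · have heq : S = Subgroup.zpowers (g : Cfsg.M24) := by
      refine (Subgroup.eq_of_le_of_card_ge (Subgroup.zpowers_le.2 g.2) ?_).symm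
      rw [Nat.card_zpowers, hg', hS]
    rw [heq, MonoidHom.map_zpowers, Subgroup.zpowers_le]
    have e2 : (MulAut.conj (⟨a, ha⟩ : Cfsg.M24)).toMonoidHom (g : Cfsg.M24) = R ^ j := by
      refine Subtype.ext ?_
      show a * ((g : Cfsg.M24) : Equiv.Perm Cfsg.GolayPt) * a⁻¹ = tabPerm rep ^ j
      rw [e]
      exact Equiv.ext fun p => ix_injective (by rw [isTab_tabPerm hrtab, ix_R_pow, hrj _ (ix_lt p)])
    rw [e2]
    exact pow_mem (Subgroup.mem_zpowers R) j
  · rw [Subgroup.card_map_of_injective (MulEquiv.injective _), hS, card_S₀]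

/-- For a subgroup S of order 7 of the group of the length-24 code (a Sylow 7-subgroup): the normaliser of S has order 126, the centraliser of S has order 42 and is non-abelian, and the whole normaliser leaves some trio invariant. (These are the orders of a Frobenius group of order 21 times a symmetric group of degree 3; the isomorphism type itself is not asserted here.) -/
theorem result (S : Subgroup ↥Cfsg.M24) (hS : Nat.card S = 7) : Nat.card ↥(Subgroup.normalizer (S : Set ↥Cfsg.M24)) = 126 ∧ Nat.card ↥(Subgroup.centralizer (S : Set ↥Cfsg.M24)) = 42 ∧ (∃ x ∈ Subgroup.centralizer (S : Set ↥Cfsg.M24), ∃ y ∈ Subgroup.centralizer (S : Set ↥Cfsg.M24), x * y ≠ y * x) ∧ ∃ T ∈ Cfsg.trios, ∀ n ∈ Subgroup.normalizer (S : Set ↥Cfsg.M24), ((n : ↥Cfsg.M24) : Equiv.Perm Cfsg.GolayPt) • T = T := by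
  obtain ⟨k, hk⟩ := exists_conj hS
  have hmem : ∀ h, h ∈ S ↔ k * h * k⁻¹ ∈ S₀ := fun h => by
    rw [← hk]; exact (Subgroup.mem_map_iff_mem (MulEquiv.injective _)).symm
  have hN : ∀ n, n ∈ Subgroup.normalizer (S : Set Cfsg.M24) ↔
      k * n * k⁻¹ ∈ Subgroup.normalizer (S₀ : Set Cfsg.M24) := fun n => by
    rw [Subgroup.mem_normalizer_iff, Subgroup.mem_normalizer_iff]
    constructor
    · intro h x
      have := h (k⁻¹ * x * k)
      rw [hmem, hmem] at this
      convert this using 2 <;> group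
    · intro h x
      rw [hmem, hmem]
      convert h (k * x * k⁻¹) using 2
      group
  have hC : ∀ n, n ∈ Subgroup.centralizer (S : Set Cfsg.M24) ↔
      k * n * k⁻¹ ∈ Subgroup.centralizer (S₀ : Set Cfsg.M24) := fun n => by
    rw [Subgroup.mem_centralizer_iff, Subgroup.mem_centralizer_iff]
    constructor
    · intro h x hx
      have hx' : k⁻¹ * x * k ∈ S := by
        rw [hmem, show k * (k⁻¹ * x * k) * k⁻¹ = x by group]
        exact hx
      have := congrArg (fun y => k * y * k⁻¹) (h _ hx')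
      convert this using 1 <;> group
    · intro h x hx
      have := congrArg (fun y => k⁻¹ * y * k) (h _ ((hmem x).1 hx))
      convert this using 1 <;> group
  refine ⟨?_, ?_, ?_, k⁻¹ • obj trioSeven, smul_mem_trios (k⁻¹).2 (obj_mem_trios trio_facts.1), fun n hn => ?_⟩
  · rw [← card_norm]
    exact Nat.card_congr ((MulAut.conj k).toEquiv.subtypeEquiv hN)
  · rw [← card_cent]
    exact Nat.card_congr ((MulAut.conj k).toEquiv.subtypeEquiv hC)
  · obtain ⟨x, hx, y, hy, hne⟩ := noncomm
    refine ⟨k⁻¹ * x * k, (hC _).2 (by convert hx using 1; group), k⁻¹ * y * k,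
      (hC _).2 (by convert hy using 1; group), fun e => hne ?_⟩
    have := congrArg (fun z => k * z * k⁻¹) e
    convert this using 1 <;> group
  · show n • k⁻¹ • obj trioSeven = k⁻¹ • obj trioSeven
    rw [eq_inv_smul_iff, ← mul_smul, ← mul_smul, norm_trio ((hN n).1 hn)]

end Cfsg.Agent.S5604
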