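import Cfsg.Statements.S0253
import Cfsg.Agent.Lib.Classical.GL2
import Cfsg.Agent.Lib.Classical.SmallIso
import Cfsg.Agent.Lib.Classical.PermModel

set_option autoImplicit false
open Cfsg

namespace Cfsg.Agent.S0253

/-- The objects. -/
def objTab : Fin 5 → Finset (Matrix (Fin 2) (Fin 2) (ZMod 5)) := ![
  {!![0, 1; 4, 0], !![0, 2; 2, 0], !![0, 3; 3, 0], !![0, 4; 1, 0], !![2, 0; 0, 3], !![3, 0; 0, 2]},
  {!![1, 3; 1, 4], !![2, 0; 2, 3], !![2, 1; 0, 3], !![3, 0; 3, 2], !![3, 4; 0, 2], !![4, 2; 4, 1]},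
  {!![1, 4; 2, 4], !![2, 0; 4, 3], !![2, 3; 0, 3], !![3, 0; 1, 2], !![3, 2; 0, 2], !![4, 1; 3, 1]},
  {!![1, 1; 3, 4], !![2, 0; 1, 3], !![2, 2; 0, 3], !![3, 0; 4, 2], !![3, 3; 0, 2], !![4, 4; 2, 1]},
  {!![1, 2; 4, 4], !![2, 0; 3, 3], !![2, 4; 0, 3], !![3, 0; 2, 2], !![3, 1; 0, 2], !![4, 3; 1, 1]}]

/-- The permutation of a generator. -/
def perm0 : Equiv.Perm (Fin 5) :=
  ⟨![1, 3, 4, 2, 0], ![4, 0, 3, 1, 2], by decide, by decide⟩

/-- The permutation of a generator. -/
def perm1 : Equiv.Perm (Fin 5) :=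
  ⟨![2, 3, 4, 0, 1], ![3, 4, 0, 1, 2], by decide, by decide⟩

theorem objTab_injective : Function.Injective objTab := by decide +kernel

theorem act0 : ∀ i, Classical.PermModel.setAct Classical.PermModel.adj2
    (Matrix.SpecialLinearGroup.transvection (show (0 : Fin 2) ≠ 1 by decide) (1 : ZMod 5))
    (objTab i) = objTab (perm0 i) := by decide +kernel

theorem act1 : ∀ i, Classical.PermModel.setAct Classical.PermModel.adj2
    (Matrix.SpecialLinearGroup.transvection (show (1 : Fin 2) ≠ 0 by decide) (1 : ZMod 5))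
    (objTab i) = objTab (perm1 i) := by decide +kernel

/-- PSL_2(5) is isomorphic to A_5. -/
theorem result {F : Type*} [Field F] [Fintype F] (hF : Fintype.card F = 5) : Nonempty (Matrix.ProjectiveSpecialLinearGroup (Fin 2) F ≃* alternatingGroup (Fin 5)) := by
  have : Fact (Nat.Prime 5) := ⟨Nat.prime_five⟩
  let e : F ≃+* ZMod 5 := FiniteField.ringEquivOfCardEq (by simp [hF])
  have hs := Matrix.ProjectiveSpecialLinearGroup.rank_two_simple (F := ZMod 5) (by simp)
  obtain ⟨f, hf⟩ := Classical.PermModel.exists_injective_hom (fun (a : Equiv.Perm (Fin 5)) i => a i)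
    (fun _ => rfl) (fun _ _ _ => rfl) (fun _ _ h => Equiv.ext h) Classical.PermModel.adj2
    Classical.PermModel.adj2_mul Classical.PermModel.adj2_center objTab objTab_injective _
    (Classical.PermModel.closure_zmod_transvections 5) (by
      rintro s ⟨i, j, h, rfl⟩
      fin_cases i <;> fin_cases j <;> try exact absurd rfl h
      · exact ⟨perm0, act0⟩
      · exact ⟨perm1, act1⟩) hs ⟨_, 0, fun h => by
        rw [act0] at h; exact absurd (objTab_injective h) (by decide)⟩
  obtain ⟨g⟩ := Classical.SmallIso.nonempty_mulEquiv_alternating f hf (by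
    have h := Classical.SmallIso.natCard_pslTwo (ZMod 5)
    rw [Classical.GL2.natCard_SL_two, ZMod.card] at h
    norm_num [Nat.reduceGcd, -Nat.card_eq_fintype_card] at h
    rw [Fintype.card_fin, show Nat.factorial 5 = 120 from rfl]
    omega)
  exact ⟨(Classical.SmallIso.pslCongr e).trans g⟩

end Cfsg.Agent.S0253
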