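import Cfsg.Statements.S0494
import Cfsg.Agent.Lib.SmallSimple.PrimeChecks
import Cfsg.Agent.S0253

set_option autoImplicit false
set_option linter.style.haveILetI false
open Cfsg

namespace Cfsg.Agent.S0494

/-- A simple group of order 60 is isomorphic to the alternating group of degree 5. -/
theorem result {G : Type*} [Group G] [Finite G] [IsSimpleGroup G]
    (h : Nat.card G = 60) : Nonempty (G ≃* alternatingGroup (Fin 5)) := by
  haveI : Fact (Nat.Prime 5) := ⟨by norm_num⟩
  haveI : NeZero 5 := ⟨by norm_num⟩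
  obtain ⟨e⟩ := Cfsg.Agent.SmallSimple.Recognize.mulEquiv_psl (q := 5) (by norm_num)
    Cfsg.Agent.SmallSimple.ProjectiveLine.check5 Cfsg.Agent.SmallSimple.ProjectiveLine.div5
    (G := G) (by rw [h]; norm_num) (F := ZMod 5) (ZMod.card 5)
  obtain ⟨e'⟩ := Cfsg.Agent.S0253.result (F := ZMod 5) (ZMod.card 5)
  exact ⟨e.trans e'⟩

end Cfsg.Agent.S0494
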