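import Cfsg.Statements.S0497
import Cfsg.Agent.Lib.SmallSimple.Order360

set_option autoImplicit false
set_option linter.style.haveILetI false
open Cfsg

namespace Cfsg.Agent.S0497

/-- A simple group of order 360 is isomorphic to the alternating group of degree 6. -/
theorem result {G : Type*} [Group G] [Finite G] [IsSimpleGroup G]
    (h : Nat.card G = 360) : Nonempty (G ≃* alternatingGroup (Fin 6)) := by
  haveI : IsSimpleGroup (alternatingGroup (Fin 6)) := alternatingGroup.isSimpleGroup (by simp)
  have h6 : Nat.card (alternatingGroup (Fin 6)) = 360 := by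
    have := two_mul_nat_card_alternatingGroup (α := Fin 6)
    rw [Nat.card_perm, Nat.card_fin] at this
    norm_num [Nat.factorial] at this ⊢
    omega
  obtain ⟨e⟩ := Cfsg.Agent.SmallSimple.Order360.mulEquiv_model h
  obtain ⟨e'⟩ := Cfsg.Agent.SmallSimple.Order360.mulEquiv_model h6
  exact ⟨e.trans e'.symm⟩

end Cfsg.Agent.S0497
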