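import Cfsg.Statements.S3433
import Cfsg.Agent.Lib.FiveOrders.Main

set_option autoImplicit false
set_option linter.all false
open Cfsg

namespace Cfsg.Agent.S3433

/-- A finite group whose set of element orders is exactly {1, 2, 3, 4, 5} is isomorphic to the alternating group of degree 6, or has a normal elementary abelian 2-subgroup with quotient isomorphic to the alternating group of degree 5. -/
theorem result {G : Type*} [Group G] [Finite G] (h : Set.range (orderOf : G → ℕ) = {k : ℕ | 1 ≤ k ∧ k ≤ 5}) :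
    Nonempty (G ≃* ↥(alternatingGroup (Fin 6))) ∨
      ∃ (N : Subgroup G) (_ : N.Normal), Cfsg.IsElementaryAbelian 2 N ∧ Nonempty (G ⧸ N ≃* ↥(alternatingGroup (Fin 5))) := by
  have h5 : FiveOrders.Ord5 G := fun g => ((h.subset ⟨g, rfl⟩ : orderOf g ∈ {k : ℕ | 1 ≤ k ∧ k ≤ 5})).2
  have hd : ∀ k, 1 ≤ k → k ≤ 5 → k ∣ Nat.card G := fun k hk hk5 => by
    obtain ⟨g, hg⟩ := h.superset (show k ∈ {k : ℕ | 1 ≤ k ∧ k ≤ 5} from ⟨hk, hk5⟩)
    exact hg ▸ orderOf_dvd_natCard g
  have hns : ¬ Group.IsSolvable G := fun hs =>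
    h5.not_all_dvd (hd 2 (by norm_num) (by norm_num)) (hd 3 (by norm_num) (by norm_num)) (hd 5 (by norm_num) le_rfl)
  exact (FiveOrders.Ord5.concl _ G rfl h5 hns).symm

end Cfsg.Agent.S3433
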