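import Cfsg.Statements.S0948
import Cfsg.Agent.Lib.ZStar.KleinFour
-- import your own Cfsg.Agent.* helpers here

set_option autoImplicit false
open Cfsg

namespace Cfsg.Agent.S0948

/-- Let the finite group G have a Sylow 2-subgroup P that is a Klein four-group, suppose all involutions of G are conjugate, and fix a maximal ideal M of the algebraic integers containing 2. Then the principal block consists of exactly four irreducible characters, the principal character and ζ₂, ζ₃, ζ₄, and there is a sign ε such that for every involution z: ζ₂ z = 1, ζ₃ z = ε, ζ₄ z = -1; moreover ζ₂ 1 ≡ 1, ζ₃ 1 ≡ ε, ζ₄ 1 ≡ -1 (mod 4), and 1 + ζ₂ y + ε ζ₃ y - ζ₄ y = 0 for every y of odd order. -/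
theorem result {G : Type*} [Group G] [Finite G] (M : Ideal Cfsg.AlgInt) (hM : Cfsg.IsPModular 2 M) (P : Sylow 2 G) (hP : IsKleinFour (P : Subgroup G)) (hone : ∀ s t : G, orderOf s = 2 → orderOf t = 2 → IsConj s t) : ∃ ζ₂ ζ₃ ζ₄ : Cfsg.IrrCharacter G, ∃ ε : ℤ, (ε = 1 ∨ ε = -1) ∧ (ζ₂ : G → ℂ) ≠ (fun _ => 1) ∧ (ζ₃ : G → ℂ) ≠ (fun _ => 1) ∧ ζ₂ ≠ ζ₃ ∧ ζ₂ ≠ ζ₄ ∧ ζ₃ ≠ ζ₄ ∧ Cfsg.principalBlock M G = {χ : Cfsg.IrrCharacter G | (χ : G → ℂ) = (fun _ => 1) ∨ χ = ζ₂ ∨ χ = ζ₃ ∨ χ = ζ₄} ∧ (∀ z : G, orderOf z = 2 → (ζ₂ : G → ℂ) z = 1 ∧ (ζ₃ : G → ℂ) z = (ε : ℂ) ∧ (ζ₄ : G → ℂ) z = -1) ∧ (4 : ℤ) ∣ (Cfsg.charDegree (ζ₂ : G → ℂ) : ℤ) - 1 ∧ (4 : ℤ) ∣ (Cfsg.charDegree (ζ₃ : G → ℂ) : ℤ) - ε ∧ (4 : ℤ) ∣ (Cfsg.charDegree (ζ₄ : G → ℂ) : ℤ) + 1 ∧ ∀ y : G, Odd (orderOf y) → 1 + (ζ₂ : G → ℂ) y + (ε : ℂ) * (ζ₃ : G → ℂ) y - (ζ₄ : G → ℂ) y = 0 := by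
  classical
  haveI := Fintype.ofFinite G
  haveI := Fintype.ofFinite (Cfsg.IrrCharacter G)
  obtain ⟨B, a, hB, hcard, hpm, hval, ha1, hsum, hdeg⟩ :=
    Cfsg.Agent.ZStar.KleinFour.principal P hP hone hM
  set o := Cfsg.Agent.Characters.trivIrr G with ho
  have hoB : o ∈ B := (hB o).2 (Cfsg.Agent.Blocks.trivIrr_mem_principal hM)
  choose d hdpos hd using fun χ : Cfsg.IrrCharacter G => Cfsg.Agent.Characters.irr_one_pos χ.2
  have hdsum : ∑ χ ∈ B, a χ * (d χ : ℤ) = 0 := by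
    have h := hsum 1
    rw [if_neg (by simp), Finset.sum_congr rfl fun χ _ => by rw [hd χ]] at h
    exact_mod_cast h
  have hd1 : (d o : ℤ) = 1 := by
    have h := hd o
    simp only [ho, Cfsg.Agent.Characters.trivIrr] at h
    exact_mod_cast h.symm
  rw [← Finset.add_sum_erase B _ hoB, ha1, hd1, one_mul] at hdsum
  have hcard3 : (B.erase o).card = 3 := by rw [Finset.card_erase_of_mem hoB, hcard]
  have hpos : ∃ χ ∈ B.erase o, a χ = 1 := by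
    by_contra hcon
    have hneg : ∀ χ ∈ B.erase o, a χ * (d χ : ℤ) ≤ -1 := by
      intro χ hχ
      have h1 : a χ = -1 := (hpm χ (Finset.mem_of_mem_erase hχ)).resolve_left fun h => hcon ⟨χ, hχ, h⟩
      have := hdpos χ
      rw [h1]; omega
    have := Finset.sum_le_card_nsmul (B.erase o) _ (-1) hneg
    rw [hcard3] at this
    simp at this
    omega
  have hneg : ∃ χ ∈ B.erase o, a χ = -1 := by
    by_contra hcon
    have hp : ∀ χ ∈ B.erase o, 0 ≤ a χ * (d χ : ℤ) := by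
      intro χ hχ
      have h1 : a χ = 1 := (hpm χ (Finset.mem_of_mem_erase hχ)).resolve_right fun h => hcon ⟨χ, hχ, h⟩
      rw [h1]; omega
    have := Finset.sum_nonneg hp
    omega
  obtain ⟨p2, hp2, ha2⟩ := hpos
  obtain ⟨p4, hp4, ha4⟩ := hneg
  have h24 : p2 ≠ p4 := fun e => by rw [e, ha4] at ha2; omega
  obtain ⟨p3, hp3⟩ := Finset.card_eq_one.1 (show (((B.erase o).erase p2).erase p4).card = 1 by
    rw [Finset.card_erase_of_mem (Finset.mem_erase.2 ⟨h24.symm, hp4⟩), Finset.card_erase_of_mem hp2,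
      hcard3])
  have hp3m : p3 ∈ ((B.erase o).erase p2).erase p4 := by rw [hp3]; exact Finset.mem_singleton_self _
  simp only [Finset.mem_erase] at hp3m hp2 hp4
  have hsplit : ∀ χ, χ ∈ B ↔ χ = o ∨ χ = p2 ∨ χ = p3 ∨ χ = p4 := by
    intro χ
    constructor
    · intro hχ
      by_contra hcon
      simp only [not_or] at hcon
      have : χ ∈ ((B.erase o).erase p2).erase p4 := by simp [hcon, hχ]
      rw [hp3, Finset.mem_singleton] at this
      exact hcon.2.2.1 this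
    · rintro (rfl | rfl | rfl | rfl)
      exacts [hoB, hp2.2, hp3m.2.2.2, hp4.2]
  have hne1 : ∀ χ : Cfsg.IrrCharacter G, χ ≠ o → (χ : G → ℂ) ≠ fun _ => 1 :=
    fun χ h e => h (Subtype.ext e)
  refine ⟨p2, p3, p4, a p3, hpm p3 hp3m.2.2.2, hne1 _ hp2.1, hne1 _ hp3m.2.2.1, hp3m.2.1.symm,
    h24, hp3m.1, ?_, fun z hz => ⟨?_, ?_, ?_⟩, ?_, ?_, ?_, fun y hy => ?_⟩
  · ext χ
    rw [← hB, hsplit, Set.mem_ofPred_eq]
    simp only [ho, Subtype.ext_iff, Cfsg.Agent.Characters.trivIrr]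
  · rw [hval p2 hp2.2 z (by rw [hz]), ha2, Int.cast_one]
  · rw [hval p3 hp3m.2.2.2 z (by rw [hz])]
  · rw [hval p4 hp4.2 z (by rw [hz]), ha4]; simp
  · obtain ⟨k, hk⟩ := hdeg p2 hp2.2
    rw [← Cfsg.Agent.Blocks.charDegree_cast, ha2] at hk
    have : (Cfsg.charDegree (p2 : G → ℂ) : ℤ) = 1 + 4 * k := by exact_mod_cast hk
    exact ⟨k, by omega⟩
  · obtain ⟨k, hk⟩ := hdeg p3 hp3m.2.2.2
    rw [← Cfsg.Agent.Blocks.charDegree_cast] at hk
    have : (Cfsg.charDegree (p3 : G → ℂ) : ℤ) = a p3 + 4 * k := by exact_mod_cast hk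
    exact ⟨k, by omega⟩
  · obtain ⟨k, hk⟩ := hdeg p4 hp4.2
    rw [← Cfsg.Agent.Blocks.charDegree_cast, ha4] at hk
    have : (Cfsg.charDegree (p4 : G → ℂ) : ℤ) = -1 + 4 * k := by exact_mod_cast hk
    exact ⟨k, by omega⟩
  · have h := hsum y
    rw [if_neg (Nat.two_dvd_ne_zero.2 (Nat.odd_iff.1 hy))] at h
    rw [show B = {o, p2, p3, p4} by ext χ; simp [hsplit]] at h
    rw [Finset.sum_insert (by simp [hp2.1.symm, hp3m.2.2.1.symm, hp4.1.symm]),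
      Finset.sum_insert (by simp [hp3m.2.1.symm, h24]), Finset.sum_insert (by simp [hp3m.1]),
      Finset.sum_singleton, ha1, ha2, ha4] at h
    simp [ho, Cfsg.Agent.Characters.trivIrr] at h
    linear_combination h

end Cfsg.Agent.S0948
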