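import Mathlib
import Cfsg.Statements.S0107
import Cfsg.Agent.Lib.Involutions.ThompsonTransfer
import Cfsg.Agent.Lib.Cores.Residual

set_option autoImplicit false
open Cfsg

namespace Cfsg.Agent.S0107

theorem aux {G : Type*} [Group G] {g a : G} {h : ℕ} (hg : orderOf g = 2 * h) (ha : orderOf a = 2) (hm : a ∈ Subgroup.zpowers g) : a = g ^ h := by
  obtain ⟨i, rfl⟩ := hm
  simp only at ha ⊢
  have h1 : (g ^ i) ^ (2:ℤ) = 1 := by
    rw [zpow_ofNat, ← ha, pow_orderOf_eq_one]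
  rw [← zpow_mul] at h1
  obtain ⟨k, hk⟩ := orderOf_dvd_iff_zpow_eq_one.mpr h1
  rw [hg] at hk
  push_cast at hk
  have hi : i = h * k := by linarith
  have hgg : g ^ ((2:ℤ) * h) = 1 := by
    rw [show (2:ℤ) * h = ((2*h : ℕ):ℤ) by push_cast; rfl, zpow_natCast, ← hg, pow_orderOf_eq_one]
  rcases Int.even_or_odd k with ⟨m, rfl⟩ | ⟨m, rfl⟩
  · exfalso
    have : g ^ i = 1 := by
      rw [hi, show (h:ℤ) * (m + m) = (2 * h) * m by ring, zpow_mul, hgg, one_zpow]
    rw [this, orderOf_one] at ha; omega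
  · rw [hi, show (h:ℤ) * (2 * m + 1) = (2 * h) * m + h by ring, zpow_add, zpow_mul, hgg, one_zpow, one_mul, zpow_natCast]


/-- A finite group with no nontrivial 2-group quotient and dihedral Sylow 2-subgroups of order at least 8 has a single class of involutions. -/
theorem result {G : Type*} [Group G] [Finite G] (T : Sylow 2 G) (n : ℕ) (hn : 2 ≤ n) (hT : Nonempty ((T : Subgroup G) ≃* DihedralGroup (2 ^ n))) (hO : Cfsg.pResidual 2 G = ⊤) (x y : G) (hx : orderOf x = 2) (hy : orderOf y = 2) : ∃ g : G, g * x * g⁻¹ = y := by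
  obtain ⟨e⟩ := hT
  have hG : ∀ H : Subgroup G, H.index ≠ 2 := by
    intro H hH
    have hle : Cfsg.pResidual 2 G ≤ H := by
      rw [Cfsg.pResidual, Subgroup.closure_le]
      intro g hg
      have hodd : Odd (orderOf g) := Nat.coprime_two_right.mp hg
      obtain ⟨k, hk⟩ := hodd
      have h1 : g ^ (orderOf g) = 1 := pow_orderOf_eq_one g
      rw [hk, pow_add, pow_one, pow_mul, mul_eq_one_iff_inv_eq] at h1
      rw [SetLike.mem_coe, ← h1]
      exact H.inv_mem (H.pow_mem (Subgroup.sq_mem_of_index_two hH g) k)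
    rw [hO] at hle
    rw [eq_top_iff.mpr hle, Subgroup.index_top] at hH
    omega
  set r₀ := e.symm (DihedralGroup.r 1) with hr₀
  set g₀ : G := (r₀ : G) with hg₀
  have hord : orderOf g₀ = 2 * 2 ^ (n - 1) := by
    rw [hg₀, Subgroup.orderOf_coe, hr₀, MulEquiv.orderOf_eq, DihedralGroup.orderOf_r_one]
    obtain ⟨m, rfl⟩ : ∃ m, n = m + 1 := ⟨n - 1, by omega⟩
    rw [Nat.add_sub_cancel, pow_succ']
  have hrel : (Subgroup.zpowers g₀).relIndex (T : Subgroup G) = 2 := by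
    have hle : Subgroup.zpowers g₀ ≤ (T : Subgroup G) := Subgroup.zpowers_le.mpr r₀.2
    have h := Subgroup.card_mul_index ((Subgroup.zpowers g₀).subgroupOf (T : Subgroup G))
    rw [Nat.card_congr (Subgroup.subgroupOfEquivOfLe hle).toEquiv, Nat.card_zpowers, hord,
      Nat.card_congr e.toEquiv, DihedralGroup.nat_card] at h
    have : 2 * 2 ^ (n-1) = 2 ^ n := by
      obtain ⟨m, rfl⟩ : ∃ m, n = m + 1 := ⟨n - 1, by omega⟩
      rw [Nat.add_sub_cancel, pow_succ']
    rw [this] at h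
    exact Nat.eq_of_mul_eq_mul_left (pow_pos two_pos n) (h.trans (mul_comm _ _))
  have key : ∀ t : G, orderOf t = 2 → ∃ g : G, g * t * g⁻¹ = g₀ ^ (2 ^ (n-1)) := by
    intro t ht
    obtain ⟨g, hg⟩ := Cfsg.Agent.Involutions.ThompsonTransfer.exists_conj_mem hG T
      (Subgroup.zpowers g₀) (Subgroup.zpowers_le.mpr r₀.2) hrel t ht
    exact ⟨g, aux hord (by rw [← MulAut.conj_apply, MulEquiv.orderOf_eq, ht]) hg⟩
  obtain ⟨g, hg⟩ := key x hx
  obtain ⟨k, hk⟩ := key y hy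
  refine ⟨k⁻¹ * g, ?_⟩
  calc k⁻¹ * g * x * (k⁻¹ * g)⁻¹ = k⁻¹ * (g * x * g⁻¹) * k := by group
    _ = k⁻¹ * (k * y * k⁻¹) * k := by rw [hg, hk]
    _ = y := by group

end Cfsg.Agent.S0107
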