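import Cfsg.Statements.S0984
import Cfsg.Agent.Lib.SmallSimple.Order2520.Final

set_option autoImplicit false
set_option linter.style.haveILetI false
open Cfsg

namespace Cfsg.Agent.S0984

/-- A simple group of order 2520 is isomorphic to the alternating group of degree 7. -/
theorem result {G : Type*} [Group G] [Finite G] [IsSimpleGroup G] (h : Nat.card G = 2520) : Nonempty (G ≃* alternatingGroup (Fin 7)) := by
  classical
  haveI : Fact (Nat.Prime 7) := ⟨by norm_num⟩
  haveI : Fact (Nat.Prime 5) := ⟨by norm_num⟩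
  haveI : Fact (Nat.Prime 3) := ⟨by norm_num⟩
  haveI : Fact (Nat.Prime 2) := ⟨Nat.prime_two⟩
  haveI := Fintype.ofFinite G
  obtain ⟨K, hK⟩ := Cfsg.Agent.SmallSimple.Order2520.exists_index_seven h
  have hemb := Cfsg.Agent.SmallSimple.Basic.exists_alternating_embedding
    (Cfsg.Agent.SmallSimple.Order2520.notComm h) K (fun e => by
      rw [e, Subgroup.index_top] at hK
      omega)
  rw [hK] at hemb
  obtain ⟨f, hf⟩ := hemb
  have hcard : Nat.card (alternatingGroup (Fin 7)) = 2520 := by
    have h2 : 2 * Nat.card (alternatingGroup (Fin 7)) = Nat.card (Equiv.Perm (Fin 7)) :=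
      two_mul_nat_card_alternatingGroup
    rw [Nat.card_perm, Nat.card_fin] at h2
    norm_num [Nat.factorial, Fintype.card_fin] at h2 ⊢
    omega
  exact ⟨MulEquiv.ofBijective f
    ((Nat.bijective_iff_injective_and_card f).2 ⟨hf, h.trans hcard.symm⟩)⟩

end Cfsg.Agent.S0984
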