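import Cfsg.Statements.S0992
import Mathlib
import Cfsg.Agent.Lib.SmallSimple.Basic

set_option autoImplicit false
open Cfsg

namespace Cfsg.Agent.S0992

/-- Let G be a non-abelian finite simple group of even order not divisible by 8, and T a Sylow 2-subgroup. Then T is a Klein four-group and the centralizer of T has index 3 in the normalizer of T. -/
theorem result {G : Type*} [Group G] [Finite G] [IsSimpleGroup G] (hG : ¬ IsMulCommutative G) (h2 : Even (Nat.card G)) (h8 : ¬ 8 ∣ Nat.card G) (T : Sylow 2 G) : IsKleinFour ↥(T : Subgroup G) ∧ (Subgroup.centralizer ((T : Subgroup G) : Set G)).relIndex (Subgroup.normalizer ((T : Subgroup G) : Set G)) = 3 := by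
  classical
  haveI : Fact (Nat.Prime 2) := ⟨Nat.prime_two⟩
  have h2' : 2 ∣ Nat.card G := even_iff_two_dvd.1 h2
  have hmin : (Nat.card G).minFac = 2 := (Nat.minFac_eq_two_iff _).2 h2'
  have hnc : ¬ IsCyclic (T : Subgroup G) := fun hc =>
    Cfsg.Agent.SmallSimple.Basic.not_normalizer_le_centralizer hG h2' T
      (hc.normalizer_le_centralizer hmin)
  have hdvd : ¬ 2 ^ 3 ∣ Nat.card G := by norm_num; exact h8
  have hle : (Nat.card G).factorization 2 ≤ 2 := by
    by_contra h
    exact hdvd ((Nat.prime_two.pow_dvd_iff_le_factorization Nat.card_pos.ne').2 (by omega))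
  have hT := Cfsg.Agent.SmallSimple.Basic.card_sylow_eq T
  have hfac : (Nat.card G).factorization 2 = 2 := by
    by_contra h
    rcases Nat.lt_or_ge ((Nat.card G).factorization 2) 1 with h' | h'
    · exact hnc (isCyclic_of_card_dvd_prime (p := 2) (by rw [hT, Nat.lt_one_iff.1 h']; norm_num))
    · exact hnc (isCyclic_of_card_dvd_prime (p := 2) (by
        rw [hT, show (Nat.card G).factorization 2 = 1 by omega]; norm_num))
  have h4 : Nat.card (T : Subgroup G) = 4 := by rw [hT, hfac]; norm_num
  haveI := Fintype.ofFinite (T : Subgroup G)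
  have hne4 : ∀ t : (T : Subgroup G), orderOf t ≠ 4 := fun t ht =>
    hnc (isCyclic_of_orderOf_eq_card t (by rw [ht, h4]))
  have hexp : Monoid.exponent (T : Subgroup G) = 2 := by
    haveI : Nontrivial (T : Subgroup G) := Finite.one_lt_card_iff_nontrivial.1 (by rw [h4]; norm_num)
    refine (Nat.prime_two.eq_one_or_self_of_dvd _ (Monoid.exponent_dvd_of_forall_pow_eq_one fun t => ?_)).resolve_left ?_
    · obtain ⟨k, hk, hk'⟩ := (Nat.dvd_prime_pow Nat.prime_two).1
        (show orderOf t ∣ 2 ^ 2 by rw [show (2:ℕ)^2 = 4 by norm_num, ← h4]; exact orderOf_dvd_natCard t)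
      have : k ≠ 2 := fun h => hne4 t (by rw [hk', h]; norm_num)
      rw [← orderOf_dvd_iff_pow_eq_one, hk']
      exact (pow_dvd_pow 2 (by omega : k ≤ 1)).trans (by norm_num)
    · intro h
      exact not_subsingleton (T : Subgroup G) (Monoid.exp_eq_one_iff.1 h)
  refine ⟨{ card_four := h4, exponent_two := hexp }, ?_⟩
  set N := Subgroup.normalizer ((T : Subgroup G) : Set G) with hN
  set C := Subgroup.centralizer ((T : Subgroup G) : Set G) with hC
  have hne1 : C.relIndex N ≠ 1 := fun h =>
    Cfsg.Agent.SmallSimple.Basic.not_normalizer_le_centralizer hG h2' T (Subgroup.relIndex_eq_one.1 h)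
  haveI : IsMulCommutative (T : Subgroup G) := ⟨⟨mul_comm_of_exponent_two hexp⟩⟩
  have hTC : (T : Subgroup G) ≤ C := Subgroup.le_centralizer _
  have hodd : ¬ 2 ∣ C.relIndex N := by
    intro h
    have h1 := h.trans (Subgroup.relIndex_dvd_of_le_left N hTC)
    exact T.not_dvd_index (h1.trans (Subgroup.relIndex_dvd_index_of_le Subgroup.le_normalizer))
  let r : MulAut (T : Subgroup G) →* Equiv.Perm {t : (T : Subgroup G) // t ≠ 1} :=
    { toFun := fun a => (a.toEquiv).subtypeEquiv fun t => not_congr (map_eq_one_iff a a.injective).symm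
      map_one' := by ext t; rfl
      map_mul' := fun a b => by ext t; rfl }
  have hr : Function.Injective r := by
    intro a b hab
    ext t
    rcases eq_or_ne t 1 with rfl | ht
    · simp
    · have := congrArg (fun e : Equiv.Perm {t : (T : Subgroup G) // t ≠ 1} => ((e ⟨t, ht⟩ : _) : (T : Subgroup G))) hab
      exact congrArg Subtype.val this
  have h6 : Nat.card (MulAut (T : Subgroup G)) ∣ 6 := by
    refine (Subgroup.card_dvd_of_injective r hr).trans ?_
    rw [Nat.card_perm, Nat.card_eq_fintype_card, Fintype.card_subtype_compl, Fintype.card_subtype_eq,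
      ← Nat.card_eq_fintype_card, h4]
    rfl
  have hker := Subgroup.normalizerMonoidHom_ker (T : Subgroup G)
  have hdvd6 : C.relIndex N ∣ 6 := by
    refine Dvd.dvd.trans ?_ h6
    rw [Subgroup.relIndex, hC, hN, ← hker, Subgroup.index_ker]
    exact Subgroup.card_subgroup_dvd_card _
  have h3 : C.relIndex N ∣ 3 :=
    (((Nat.prime_two.coprime_iff_not_dvd).2 hodd).symm).dvd_of_dvd_mul_left (by exact hdvd6)
  exact (Nat.prime_three.eq_one_or_self_of_dvd _ h3).resolve_left hne1

end Cfsg.Agent.S0992
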