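import Cfsg.Statements.S4479
import Cfsg.Agent.BlockCharsA.KleinOrder

set_option autoImplicit false
open Cfsg Cfsg.Agent.Blocks Cfsg.Agent.Characters Cfsg.Agent.BlockCharsA

namespace Cfsg.Agent.S4479

/-- An order formula from the principal 2-block. Let G be a finite group of order 4·g₀ with g₀ odd having no normal 2-complement (no normal subgroup of order g₀); let P be a Sylow 2-subgroup, J an involution of P, and fix a maximal ideal M of the algebraic integers containing 2. Suppose the principal 2-block consists of the principal character and three further distinct characters χ₁, χ₂, χ₃ of degrees x₁, x₂, x₃, with χ_i(J) = ε_i = ±1. Then, writing c(J) and c(P) for the orders of the centralizers of J and of P, the order of G equals 8·α·c(J)³/c(P)² with α = x₁x₂x₃ / ((x₁ + ε₁)(x₂ + ε₂)(x₃ + ε₃)). -/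
theorem result {G : Type*} [Group G] [Finite G] (M : Ideal Cfsg.AlgInt) (hM : Cfsg.IsPModular 2 M) (g₀ : ℕ) (hg₀ : Odd g₀) (hG : Nat.card G = 4 * g₀) (hnc : ¬ ∃ N : Subgroup G, N.Normal ∧ Nat.card N = g₀) (P : Sylow 2 G) (J : G) (hJ : J ∈ (P : Subgroup G)) (hJ2 : orderOf J = 2) (χ₁ χ₂ χ₃ : Cfsg.IrrCharacter G) (ε₁ ε₂ ε₃ : ℤ) (hB : Cfsg.principalBlock M G = {χ : Cfsg.IrrCharacter G | (χ : G → ℂ) = (fun _ => 1) ∨ χ = χ₁ ∨ χ = χ₂ ∨ χ = χ₃}) (hdist : (χ₁ : G → ℂ) ≠ (fun _ => 1) ∧ (χ₂ : G → ℂ) ≠ (fun _ => 1) ∧ (χ₃ : G → ℂ) ≠ (fun _ => 1) ∧ χ₁ ≠ χ₂ ∧ χ₁ ≠ χ₃ ∧ χ₂ ≠ χ₃) (hε : (ε₁ = 1 ∨ ε₁ = -1) ∧ (ε₂ = 1 ∨ ε₂ = -1) ∧ (ε₃ = 1 ∨ ε₃ = -1)) (hval : (χ₁ : G → ℂ) J = ε₁ ∧ (χ₂ : G → ℂ) J = ε₂ ∧ (χ₃ : G → ℂ) J = ε₃) : (Nat.card G : ℚ) = 8 * (((Cfsg.charDegree (χ₁ : G → ℂ) : ℚ) * Cfsg.charDegree (χ₂ : G → ℂ) * Cfsg.charDegree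 (χ₃ : G → ℂ)) / ((Cfsg.charDegree (χ₁ : G → ℂ) + ε₁) * (Cfsg.charDegree (χ₂ : G → ℂ) + ε₂) * (Cfsg.charDegree (χ₃ : G → ℂ) + ε₃))) * (Nat.card (Subgroup.centralizer ({J} : Set G)) : ℚ) ^ 3 / (Nat.card (Subgroup.centralizer ((P : Subgroup G) : Set G)) : ℚ) ^ 2 := by
  classical
  haveI := Fintype.ofFinite G
  haveI := Fintype.ofFinite (Cfsg.IrrCharacter G)
  obtain ⟨hV, hone⟩ := KleinOrder.setting P hg₀ hG hnc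
  obtain ⟨B, a, hmem, -, hval', h0, hS⟩ := KleinOrder.order_formula hM P hV hone hJ hJ2
  obtain ⟨hd1, hd2, hd3, h12, h13, h23⟩ := hdist
  obtain ⟨he1, he2, he3⟩ := hε
  obtain ⟨hv1, hv2, hv3⟩ := hval
  have hBeq : B = {trivIrr G, χ₁, χ₂, χ₃} := by
    ext χ
    rw [hmem, hB]
    simp [Subtype.ext_iff, trivIrr]
  have hne : ∀ χ : Cfsg.IrrCharacter G, (χ : G → ℂ) ≠ (fun _ => 1) → trivIrr G ≠ χ :=
    fun χ h e => h (by rw [← e]; rfl)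
  have hn1 : trivIrr G ∉ ({χ₁, χ₂, χ₃} : Finset (Cfsg.IrrCharacter G)) := by
    simp [hne _ hd1, hne _ hd2, hne _ hd3]
  have hn2 : χ₁ ∉ ({χ₂, χ₃} : Finset (Cfsg.IrrCharacter G)) := by simp [h12, h13]
  have hn3 : χ₂ ∉ ({χ₃} : Finset (Cfsg.IrrCharacter G)) := by simp [h23]
  have e0 : (a (trivIrr G) : ℂ) = 1 := by
    rw [← hval' _ (by simp [hBeq])]; rfl
  have e1 : (a χ₁ : ℂ) = ε₁ := by rw [← hval' _ (by simp [hBeq]), hv1]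
  have e2 : (a χ₂ : ℂ) = ε₂ := by rw [← hval' _ (by simp [hBeq]), hv2]
  have e3 : (a χ₃ : ℂ) = ε₃ := by rw [← hval' _ (by simp [hBeq]), hv3]
  have t1 : (trivIrr G : G → ℂ) 1 = 1 := rfl
  rw [hBeq, Finset.sum_insert hn1, Finset.sum_insert hn2, Finset.sum_insert hn3,
    Finset.sum_singleton, e0, e1, e2, e3, t1, ← charDegree_cast χ₁, ← charDegree_cast χ₂,
    ← charDegree_cast χ₃] at h0 hS
  set x₁ := Cfsg.charDegree (χ₁ : G → ℂ)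
  set x₂ := Cfsg.charDegree (χ₂ : G → ℂ)
  set x₃ := Cfsg.charDegree (χ₃ : G → ℂ)
  set cJ := Nat.card (Subgroup.centralizer ({J} : Set G))
  set cP := Nat.card (Subgroup.centralizer ((P : Subgroup G) : Set G))
  have p1 : (x₁ : ℚ) ≠ 0 := Nat.cast_ne_zero.2 (charDegree_pos χ₁).ne'
  have p2 : (x₂ : ℚ) ≠ 0 := Nat.cast_ne_zero.2 (charDegree_pos χ₂).ne'
  have p3 : (x₃ : ℚ) ≠ 0 := Nat.cast_ne_zero.2 (charDegree_pos χ₃).ne'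
  have pJ : (cJ : ℚ) ≠ 0 := Nat.cast_ne_zero.2 Nat.card_pos.ne'
  have pP : (cP : ℚ) ≠ 0 := Nat.cast_ne_zero.2 Nat.card_pos.ne'
  have q0 : (1 : ℚ) * 1 + ((ε₁ : ℚ) * x₁ + ((ε₂ : ℚ) * x₂ + (ε₃ : ℚ) * x₃)) = 0 := by
    exact_mod_cast h0
  have qS : (Nat.card G : ℚ) * ((1 : ℚ) / 1 + ((ε₁ : ℚ) / x₁ + ((ε₂ : ℚ) / x₂ + (ε₃ : ℚ) / x₃))) =
      8 * (cJ : ℚ) ^ 3 / (cP : ℚ) ^ 2 := by
    have h : (((Nat.card G : ℚ) * ((1 : ℚ) / 1 + ((ε₁ : ℚ) / x₁ + ((ε₂ : ℚ) / x₂ + (ε₃ : ℚ) / x₃))) : ℚ) : ℂ) =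
        ((8 * (cJ : ℚ) ^ 3 / (cP : ℚ) ^ 2 : ℚ) : ℂ) := by
      push_cast
      exact hS
    exact_mod_cast h
  have hsq : ((ε₁ : ℚ) * ε₁ = 1) ∧ ((ε₂ : ℚ) * ε₂ = 1) ∧ ((ε₃ : ℚ) * ε₃ = 1) := by
    refine ⟨?_, ?_, ?_⟩
    · rcases he1 with e | e <;> simp [e]
    · rcases he2 with e | e <;> simp [e]
    · rcases he3 with e | e <;> simp [e]
  have hprod : (1 : ℚ) / 1 + ((ε₁ : ℚ) / x₁ + ((ε₂ : ℚ) / x₂ + (ε₃ : ℚ) / x₃)) =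
      ((x₁ : ℚ) + ε₁) * (x₂ + ε₂) * (x₃ + ε₃) / ((x₁ : ℚ) * x₂ * x₃) := by
    field_simp
    linear_combination (-(ε₁ : ℚ) * ε₂ * ε₃) * q0 + (ε₂ : ℚ) * ε₃ * x₁ * hsq.1 +
      (ε₁ : ℚ) * ε₃ * x₂ * hsq.2.1 + (ε₁ : ℚ) * ε₂ * x₃ * hsq.2.2
  rw [hprod] at qS
  have hne0 : ((x₁ : ℚ) + ε₁) * (x₂ + ε₂) * (x₃ + ε₃) ≠ 0 := by
    intro h
    rw [h, zero_div, mul_zero, eq_comm, div_eq_zero_iff] at qS
    simp [pJ, pP] at qS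
  have hpos : (x₁ : ℚ) * x₂ * x₃ ≠ 0 := mul_ne_zero (mul_ne_zero p1 p2) p3
  generalize ((x₁ : ℚ) + ε₁) * (x₂ + ε₂) * (x₃ + ε₃) = D at qS hne0 ⊢
  generalize (x₁ : ℚ) * x₂ * x₃ = E at qS hpos ⊢
  rw [show 8 * (E / D) * (cJ : ℚ) ^ 3 / (cP : ℚ) ^ 2 = E / D * (8 * (cJ : ℚ) ^ 3 / (cP : ℚ) ^ 2)
    by ring, ← qS]
  field_simp

end Cfsg.Agent.S4479
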