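import Cfsg.Statements.S3278
import Mathlib
import Cfsg.Agent.InvChar.ThreeInvolutions
import Cfsg.Agent.Lib.Involutions.BrauerFowler
import Cfsg.Agent.BlockCharsA.DefectZeroVanish
import Cfsg.Agent.S0948
import Cfsg.Agent.S4479
import Cfsg.Agent.S0992
import Cfsg.Agent.S0494
set_option linter.all false

set_option autoImplicit false
open Cfsg

namespace Cfsg.Agent.S3278

/-- The degree bound. -/
theorem bound (n x₁ x₂ x₃ : ℕ) (ε : ℤ) (hε : ε = 1 ∨ ε = -1) (h1 : 1 ≤ x₁) (h2 : 1 ≤ x₂) (h2' : ε = -1 → 3 ≤ x₂) (h3 : 3 ≤ x₃)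
    (heq : 3 * (n : ℤ) * ((x₁ + 1) * (x₂ + ε) * ((x₃ : ℤ) - 1)) = 8 * (x₁ * x₂ * x₃)) : n ≤ 5 := by
  by_contra hn
  push Not at hn
  have hn6 : (6 : ℤ) ≤ n := by exact_mod_cast hn
  have a3 : 2 * (x₃ : ℤ) ≤ 3 * ((x₃ : ℤ) - 1) := by
    have : (3 : ℤ) ≤ x₃ := by exact_mod_cast h3
    linarith
  have a1 : (x₁ : ℤ) < x₁ + 1 := by linarith
  have a2 : 2 * (x₂ : ℤ) ≤ 3 * ((x₂ : ℤ) + ε) := by
    rcases hε with rfl | rfl
    · linarith
    · have : (3 : ℤ) ≤ x₂ := by exact_mod_cast h2' rfl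
      linarith
  have p2 : (0 : ℤ) < (x₂ : ℤ) + ε := by
    have : (1 : ℤ) ≤ x₂ := by exact_mod_cast h2
    nlinarith
  have p1 : (0 : ℤ) < x₁ := by exact_mod_cast h1
  have p2' : (0 : ℤ) < x₂ := by exact_mod_cast h2
  have p3 : (0 : ℤ) < x₃ := by
    have : (3 : ℤ) ≤ x₃ := by exact_mod_cast h3
    linarith
  have p3' : (0 : ℤ) < (x₃ : ℤ) - 1 := by linarith
  have m1 : 4 * ((x₂ : ℤ) * x₃) ≤ 9 * (((x₂ : ℤ) + ε) * ((x₃ : ℤ) - 1)) := by
    have := mul_le_mul a2 a3 (by positivity) (by linarith)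
    linarith
  have m2 : (x₁ : ℤ) * (4 * ((x₂ : ℤ) * x₃)) < ((x₁ : ℤ) + 1) * (9 * (((x₂ : ℤ) + ε) * ((x₃ : ℤ) - 1))) :=
    mul_lt_mul a1 m1 (by positivity) (by linarith)
  have pD : (0 : ℤ) < (x₁ + 1) * (x₂ + ε) * ((x₃ : ℤ) - 1) := by positivity
  nlinarith

/-- Let G be a finite simple group with an involution x such that a Sylow 2-subgroup of C_G(x) is a Klein four-group which is normal in C_G(x). Then G is isomorphic to the alternating group of degree 5 (that is, to PSL(2, 5)). -/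
theorem result {G : Type*} [Group G] [Finite G] [IsSimpleGroup G] (x : G) (hx : orderOf x = 2)
    (S₀ : Subgroup G) (hle : S₀ ≤ Subgroup.centralizer ({x} : Set G)) (hK : IsKleinFour ↥S₀)
    (hodd : ¬ 2 ∣ S₀.relIndex (Subgroup.centralizer ({x} : Set G))) (hn : (S₀.subgroupOf (Subgroup.centralizer ({x} : Set G))).Normal) :
    Nonempty (G ≃* ↥(alternatingGroup (Fin 5))) := by
  classical
  haveI : Fact (Nat.Prime 2) := ⟨Nat.prime_two⟩
  set C := Subgroup.centralizer ({x} : Set G) with hC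
  haveI := hn
  have hS4 : Nat.card ↥S₀ = 4 := hK.card_four
  -- the 2-subgroups of the centralizer
  have hinS : ∀ P : Subgroup G, P ≤ C → IsPGroup 2 ↥P → P ≤ S₀ := by
    intro P hPC hP p hp
    let c : ↥C := ⟨p, hPC hp⟩
    obtain ⟨k, hk⟩ := hP ⟨p, hp⟩
    have hk' : p ^ 2 ^ k = 1 := congrArg Subtype.val hk
    have hd2 : orderOf (QuotientGroup.mk c : ↥C ⧸ S₀.subgroupOf C) ∣ 2 ^ k := orderOf_dvd_of_pow_eq_one (by
      rw [← QuotientGroup.mk_pow, show c ^ 2 ^ k = 1 from Subtype.ext hk', QuotientGroup.mk_one])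
    have hd1 : orderOf (QuotientGroup.mk c : ↥C ⧸ S₀.subgroupOf C) ∣ S₀.relIndex C := by
      rw [Subgroup.relIndex, Subgroup.index_eq_card]; exact orderOf_dvd_natCard _
    have hcop : Nat.Coprime (S₀.relIndex C) (2 ^ k) :=
      ((Nat.prime_two.coprime_iff_not_dvd.2 hodd).symm).pow_right k
    have : orderOf (QuotientGroup.mk c : ↥C ⧸ S₀.subgroupOf C) = 1 := Nat.eq_one_of_dvd_coprimes hcop hd1 hd2
    exact (QuotientGroup.eq_one_iff c).1 (orderOf_eq_one_iff.1 this)
  have hnab : ¬ IsMulCommutative G := by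
    intro hh
    haveI := hh
    letI : CommGroup G := { mul_comm := fun a b => mul_comm' a b }
    haveI : S₀.Normal := inferInstance
    have htop : S₀ = ⊤ := (IsSimpleGroup.eq_bot_or_eq_top_of_normal S₀ inferInstance).resolve_left (by
      rintro rfl; simp at hS4)
    have hp := IsSimpleGroup.prime_card (α := G)
    rw [← Subgroup.card_top (G := G), ← htop, hS4] at hp
    norm_num at hp
  have hgt : 2 < Nat.card G := lt_of_lt_of_le (by rw [hS4]; norm_num) (Subgroup.card_le_card_group S₀)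
  have h3 : Nat.card {u : ↥C // orderOf u = 2} ≤ 3 := by
    have hmem : ∀ u : {u : ↥C // orderOf u = 2}, ((u.1 : ↥C) : G) ∈ S₀ := fun u => by
      refine hinS (Subgroup.zpowers ((u.1 : ↥C) : G)) (Subgroup.zpowers_le.2 u.1.2) ?_ (Subgroup.mem_zpowers _)
      exact InvChar.ThreeInvolutions.isPGroup_zpowers (by
        have := pow_orderOf_eq_one u.1
        rw [u.2, pow_two] at this
        exact congrArg Subtype.val this)
    refine le_trans (Nat.card_le_card_of_injective (fun u => (⟨⟨_, hmem u⟩, fun e => by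
        have h := u.2
        rw [← Subgroup.orderOf_coe, show ((u.1 : ↥C) : G) = 1 from congrArg Subtype.val e, orderOf_one] at h
        norm_num at h⟩ : {s : ↥S₀ // s ≠ 1})) (fun u v e => Subtype.ext (Subtype.ext (congrArg (fun s => ((s.1 : ↥S₀) : G)) e)))) ?_
    haveI := Fintype.ofFinite ↥S₀
    rw [Nat.card_eq_fintype_card] at hS4
    rw [Nat.card_eq_fintype_card, Fintype.card_subtype_compl, hS4, Fintype.card_subtype_eq]
  have hO : Cfsg.oddCore G = ⊥ := by
    rcases IsSimpleGroup.eq_bot_or_eq_top_of_normal (Cfsg.oddCore G) inferInstance with h | h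
    · exact h
    · exfalso
      have h1 := InvChar.Core.odd_card_oddCore (G := G)
      rw [h, Subgroup.card_top] at h1
      exact Nat.not_even_iff_odd.2 (h1.of_dvd_nat (hx ▸ orderOf_dvd_natCard x)) even_two
  have H : InvChar.ThreeInvolutions.Hyp x := ⟨hx, h3, Involutions.BrauerFowler.no_index_two hgt, fun z hz => by
    by_contra hh
    push Not at hh
    have hzc := ZStar.Main.mem_center_of_isolated hO (z := z) ⟨hz, hh⟩
    rcases IsSimpleGroup.eq_bot_or_eq_top_of_normal (Subgroup.center G) inferInstance with e | e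
    · rw [e, Subgroup.mem_bot] at hzc
      rw [hzc, orderOf_one] at hz; norm_num at hz
    · exact hnab ⟨⟨fun a b => (Subgroup.mem_center_iff.1 (e ▸ Subgroup.mem_top b : b ∈ Subgroup.center G) a)⟩⟩⟩
  have hone : ∀ s t : G, orderOf s = 2 → orderOf t = 2 → IsConj s t := InvChar.ThreeInvolutions.all_conj H
  obtain ⟨T, hT⟩ := InvChar.ThreeInvolutions.exists_sylow H
  have hS2 : IsPGroup 2 ↥S₀ := IsPGroup.of_card (n := 2) (by rw [hS4]; norm_num)
  have hTS : (T : Subgroup G) = S₀ := by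
    refine le_antisymm (hinS _ hT T.2) ?_
    obtain ⟨Q, hQ⟩ := hS2.exists_le_sylow
    refine (Subgroup.eq_of_le_of_card_ge (hinS _ hT T.2) ?_).ge
    rw [T.card_eq_multiplicity, ← Q.card_eq_multiplicity]
    exact Subgroup.card_le_of_le hQ
  have hTK : IsKleinFour ↥(T : Subgroup G) := by rw [hTS]; exact hK
  have hT4 : Nat.card ↥(T : Subgroup G) = 4 := hTK.card_four
  have hxT : x ∈ (T : Subgroup G) := by
    rw [hTS]
    exact hinS (Subgroup.zpowers x) (Subgroup.zpowers_le.2 (Subgroup.mem_centralizer_singleton_iff.2 rfl))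
      (InvChar.ThreeInvolutions.isPGroup_zpowers (by rw [← pow_two, ← hx, pow_orderOf_eq_one])) (Subgroup.mem_zpowers x)
  -- the centralizer of `x` centralizes the four-group
  have hScomm : ∀ a ∈ S₀, ∀ b ∈ S₀, a * b = b * a := fun a ha b hb => by
    haveI := hK
    have := IsKleinFour.isMulCommutative (G := ↥S₀)
    exact congrArg Subtype.val (mul_comm' (⟨a, ha⟩ : ↥S₀) ⟨b, hb⟩)
  have hCC : C = Subgroup.centralizer ((T : Subgroup G) : Set G) := by
    rw [hTS]
    refine le_antisymm ?_ (Subgroup.centralizer_le (by simpa [hTS] using hxT))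
    intro c hc
    rw [Subgroup.mem_centralizer_iff]
    intro s hs
    have hcon : ∀ d ∈ C, ∀ t ∈ S₀, d * t * d⁻¹ ∈ S₀ := fun d hd t ht =>
      hn.conj_mem ⟨t, hle ht⟩ ht ⟨d, hd⟩
    -- the centralizer of `S₀` in `C` has index at most two and odd index
    let D : Subgroup ↥C := (Subgroup.centralizer (S₀ : Set G)).subgroupOf C
    by_contra hne
    have hcD : (⟨c, hc⟩ : ↥C) ∉ D := fun hh => hne ((Subgroup.mem_centralizer_iff.1 hh) s hs)
    have swap : ∀ d ∈ C, ∀ t ∈ S₀, d * t * d⁻¹ = t ∨ d * t * d⁻¹ = x * t := by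
      intro d hd t ht
      haveI := hK
      have hxS : x ∈ S₀ := hTS ▸ hxT
      have hdx : d * x * d⁻¹ = x := by rw [Subgroup.mem_centralizer_singleton_iff.1 hd, mul_inv_cancel_right]
      by_cases ht1 : t = 1
      · subst ht1; left; group
      by_cases htx : t = x
      · subst htx; exact Or.inl hdx
      by_cases hdt : d * t * d⁻¹ = t
      · exact Or.inl hdt
      right
      refine congrArg Subtype.val (IsKleinFour.eq_mul_of_ne_all (G := ↥S₀) (x := ⟨x, hxS⟩) (y := ⟨t, ht⟩)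
        (z := ⟨d * t * d⁻¹, hcon d hd t ht⟩) ?_ ?_ ?_ ?_ ?_ ?_) <;> intro e <;> have e' := congrArg Subtype.val e
      · exact (show x ≠ 1 from fun e => by rw [e, orderOf_one] at hx; norm_num at hx) e'
      · exact ht1 e'
      · exact htx e'.symm
      · exact ht1 (by simpa using e')
      · exact htx (mul_left_cancel (mul_right_cancel (e'.trans hdx.symm)))
      · exact hdt e'
    have hidx : D.index = 2 := by
      refine Subgroup.index_eq_two_iff.2 ⟨⟨c, hc⟩, fun d => ?_⟩
      by_cases hd : d ∈ D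
      · exact Or.inr ⟨hd, fun hh => hcD ((D.mul_mem_cancel_left hd).1 hh)⟩
      · refine Or.inl ⟨?_, hd⟩
        show (d : G) * c ∈ Subgroup.centralizer (S₀ : Set G)
        have hxc : x * x = 1 := by rw [← pow_two, ← hx, pow_orderOf_eq_one]
        have hfix : ∀ e ∈ C, (e : G) ∉ Subgroup.centralizer (S₀ : Set G) → ∀ t ∈ S₀, t ≠ 1 → t ≠ x → e * t * e⁻¹ = x * t := by
          intro e he hec t ht ht1 htx
          refine (swap e he t ht).resolve_left fun h1 => hec (Subgroup.mem_centralizer_iff.2 fun u hu => ?_)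
          have hu' : e * u * e⁻¹ = u := by
            haveI := hK
            by_cases hu1 : u = 1
            · subst hu1; group
            have hdx : e * x * e⁻¹ = x := by rw [Subgroup.mem_centralizer_singleton_iff.1 he, mul_inv_cancel_right]
            by_cases hux : u = x
            · subst hux; exact hdx
            by_cases hut : u = t
            · subst hut; exact h1
            have hu3 : u = x * t := congrArg Subtype.val (IsKleinFour.eq_mul_of_ne_all (G := ↥S₀) (x := ⟨x, hTS ▸ hxT⟩)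
              (y := ⟨t, ht⟩) (z := ⟨u, hu⟩) (fun q => by
                have q' : x = 1 := congrArg Subtype.val q
                rw [q', orderOf_one] at hx; norm_num at hx) (fun q => ht1 (congrArg Subtype.val q))
              (fun q => htx (congrArg Subtype.val q).symm) (fun q => hu1 (congrArg Subtype.val q))
              (fun q => hux (congrArg Subtype.val q)) (fun q => hut (congrArg Subtype.val q)))
            rw [hu3, show e * (x * t) * e⁻¹ = (e * x * e⁻¹) * (e * t * e⁻¹) by group, hdx, h1]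
          exact (mul_inv_eq_iff_eq_mul.1 hu').symm
        rw [Subgroup.mem_centralizer_iff]
        intro t ht
        refine (mul_inv_eq_iff_eq_mul.1 ?_).symm
        have hdx : ∀ e ∈ C, e * x * e⁻¹ = x := fun e he => by
          rw [Subgroup.mem_centralizer_singleton_iff.1 he, mul_inv_cancel_right]
        by_cases ht1 : t = 1
        · subst ht1; group
        by_cases htx : t = x
        · subst htx; exact hdx _ (C.mul_mem d.2 hc)
        calc (d : G) * c * t * ((d : G) * c)⁻¹ = (d : G) * (c * t * c⁻¹) * (d : G)⁻¹ := by group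
          _ = ((d : G) * x * (d : G)⁻¹) * ((d : G) * t * (d : G)⁻¹) := by
            rw [hfix c hc hcD t ht ht1 htx]; group
          _ = x * (x * t) := by rw [hdx _ d.2, hfix d d.2 hd t ht ht1 htx]
          _ = t := by rw [← mul_assoc, hxc, one_mul]
    refine hodd ?_
    have hle2 : S₀.subgroupOf C ≤ D := fun q hq => Subgroup.mem_centralizer_iff.2 fun t ht => hScomm t ht _ hq
    rw [Subgroup.relIndex]
    exact hidx ▸ Subgroup.index_dvd_of_le hle2
  -- orders
  set c := Nat.card ↥C with hc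
  have hcT : Nat.card ↥(Subgroup.centralizer ((T : Subgroup G) : Set G)) = c := by rw [hc, hCC]
  have h8 : ¬ 8 ∣ Nat.card G := fun h8 => by
    rw [← Subgroup.card_mul_index (T : Subgroup G), hT4] at h8
    exact T.not_dvd_index (by omega)
  have heven : Even (Nat.card G) := even_iff_two_dvd.2 (hx ▸ orderOf_dvd_natCard x)
  obtain ⟨-, hrel⟩ := S0992.result hnab heven h8 T
  set n := (Subgroup.normalizer ((T : Subgroup G) : Set G)).index with hndef
  have hGn : Nat.card G = 3 * c * n := by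
    rw [← (Subgroup.normalizer ((T : Subgroup G) : Set G)).card_mul_index, ← hndef, ← hcT]
    congr 1
    have hle' : Subgroup.centralizer ((T : Subgroup G) : Set G) ≤ Subgroup.normalizer ((T : Subgroup G) : Set G) :=
      Subgroup.centralizer_le_normalizer _
    have := (Subgroup.centralizer ((T : Subgroup G) : Set G)).subgroupOf (Subgroup.normalizer ((T : Subgroup G) : Set G))
      |>.card_mul_index
    rw [Nat.card_congr (Subgroup.subgroupOfEquivOfLe hle').toEquiv] at this
    rw [Subgroup.relIndex] at hrel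
    rw [hrel] at this
    rw [← this, mul_comm]
  have hg₀ : Odd (T : Subgroup G).index := Nat.odd_iff.2 (Nat.two_dvd_ne_zero.1 T.not_dvd_index)
  have hG4 : Nat.card G = 4 * (T : Subgroup G).index := by rw [← hT4, Subgroup.card_mul_index]
  have hnc : ¬ ∃ N : Subgroup G, N.Normal ∧ Nat.card N = (T : Subgroup G).index := by
    rintro ⟨N, hN, hNc⟩
    rcases IsSimpleGroup.eq_bot_or_eq_top_of_normal N hN with e | e
    · rw [e, Subgroup.card_bot] at hNc
      rw [← hNc, mul_one] at hG4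
      refine hnab ⟨⟨fun a b => ?_⟩⟩
      have htop : (T : Subgroup G) = ⊤ := Subgroup.index_eq_one.1 hNc.symm
      exact hScomm a (hTS ▸ htop ▸ Subgroup.mem_top a) b (hTS ▸ htop ▸ Subgroup.mem_top b)
    · rw [e, Subgroup.card_top] at hNc
      have := T.not_dvd_index
      omega
  obtain ⟨M, hM⟩ := BlockCharsA.DefectZeroVanish.exists_modular Nat.prime_two
  obtain ⟨ζ₂, ζ₃, ζ₄, ε, hε, hd2, hd3, h23, h24, h34, hB, hval, -, hm3, hm4, -⟩ := S0948.result M hM T hTK hone
  obtain ⟨v2, v3, v4⟩ := hval x hx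
  have hd4 : (ζ₄ : G → ℂ) ≠ (fun _ => 1) := fun e => by rw [e] at v4; norm_num at v4
  have hF := S4479.result M hM _ hg₀ hG4 hnc T x hxT hx ζ₂ ζ₃ ζ₄ 1 ε (-1) hB ⟨hd2, hd3, hd4, h23, h24, h34⟩
    ⟨Or.inl rfl, hε, Or.inr rfl⟩ ⟨by rw [v2]; norm_num, v3, by rw [v4]; norm_num⟩
  set x₁ := Cfsg.charDegree (ζ₂ : G → ℂ)
  set x₂ := Cfsg.charDegree (ζ₃ : G → ℂ)
  set x₃ := Cfsg.charDegree (ζ₄ : G → ℂ)
  have p1 : 1 ≤ x₁ := Blocks.charDegree_pos ζ₂
  have p2 : 1 ≤ x₂ := Blocks.charDegree_pos ζ₃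
  have p3 : 3 ≤ x₃ := by
    obtain ⟨q, hq⟩ := hm4
    omega
  have p2' : ε = -1 → 3 ≤ x₂ := by
    rintro rfl
    obtain ⟨q, hq⟩ := hm3
    omega
  have hn5 : n ≤ 5 := by
    refine bound n x₁ x₂ x₃ ε hε p1 p2 p2' p3 ?_
    rw [hcT, ← hC, ← hc, hGn] at hF
    have hc0 : (c : ℚ) ≠ 0 := Nat.cast_ne_zero.2 Nat.card_pos.ne'
    have hD : ((x₁ : ℚ) + 1) * (x₂ + (ε : ℚ)) * ((x₃ : ℚ) - 1) ≠ 0 := by
      have a1 : (1 : ℚ) ≤ x₁ := by exact_mod_cast p1
      have a2 : (1 : ℚ) ≤ x₂ := by exact_mod_cast p2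
      have a3 : (3 : ℚ) ≤ x₃ := by exact_mod_cast p3
      refine mul_ne_zero (mul_ne_zero (by positivity) ?_) (by linarith)
      rcases hε with rfl | rfl
      · push_cast; linarith
      · have : (3 : ℚ) ≤ x₂ := by exact_mod_cast p2' rfl
        push_cast; linarith
    push_cast at hF
    rw [← sub_eq_add_neg] at hF
    have : (3 * (n : ℚ)) * (((x₁ : ℚ) + 1) * (x₂ + (ε : ℚ)) * ((x₃ : ℚ) - 1)) = 8 * ((x₁ : ℚ) * x₂ * x₃) := by
      generalize ((x₁ : ℚ) + 1) * (x₂ + (ε : ℚ)) * ((x₃ : ℚ) - 1) = D at hF hD ⊢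
      field_simp at hF
      linarith
    exact_mod_cast this
  have hne : Subgroup.normalizer ((T : Subgroup G) : Set G) ≠ ⊤ := fun e => by
    haveI : (T : Subgroup G).Normal := Subgroup.normalizer_eq_top_iff.1 e
    rcases IsSimpleGroup.eq_bot_or_eq_top_of_normal (T : Subgroup G) inferInstance with e | e
    · rw [e, Subgroup.card_bot] at hT4; norm_num at hT4
    · exact hnab ⟨⟨fun a b => hScomm a (hTS ▸ e ▸ Subgroup.mem_top a) b (hTS ▸ e ▸ Subgroup.mem_top b)⟩⟩
  have hdvd := Involutions.BrauerFowler.card_dvd_factorial hne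
  rw [← hndef] at hdvd
  have h12 : 12 ∣ Nat.card G := by
    have : 4 ∣ c := by rw [hc]; exact hS4 ▸ Subgroup.card_dvd_of_le hle
    obtain ⟨k, hk⟩ := this
    exact ⟨k * n, by rw [hGn, hk]; ring⟩
  refine S0494.result ?_
  have h5 : n = 5 := by
    by_contra h5
    have hn4 : n ≤ 4 := by omega
    have hfac : n.factorial ∣ 24 := by
      interval_cases n <;> decide
    have h24 := Nat.le_of_dvd (by norm_num) (hdvd.trans hfac)
    have hn1 : n ≠ 1 := fun e => hne (Subgroup.index_eq_one.1 (hndef.symm.trans e))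
    have hn0 : n ≠ 0 := Subgroup.index_ne_zero_of_finite
    have hle4 : 4 ∣ c := by rw [hc]; exact hS4 ▸ Subgroup.card_dvd_of_le hle
    obtain ⟨m, hm⟩ := hle4
    have hm0 : m ≠ 0 := by
      rintro rfl
      have : 0 < c := hc ▸ Nat.card_pos
      omega
    have : 2 ≤ m * n := le_trans (show 2 ≤ n by omega) (Nat.le_mul_of_pos_left n (Nat.pos_of_ne_zero hm0))
    have hGm : Nat.card G = 12 * (m * n) := by rw [hGn, hm]; ring
    exact h8 ⟨3, by omega⟩
  rw [h5] at hdvd hGn
  simp [Nat.factorial] at hdvd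
  obtain ⟨k, hk⟩ := h12
  have h60 : Nat.card G = 15 * c := by rw [hGn]; ring
  have hle4 : 4 ∣ c := by rw [hc]; exact hS4 ▸ Subgroup.card_dvd_of_le hle
  obtain ⟨m, hm⟩ := hle4
  have := Nat.le_of_dvd (by norm_num) hdvd
  have hm1 : m = 1 ∨ m = 2 := by
    have : 0 < m := Nat.pos_of_ne_zero (by rintro rfl; rw [hm] at h60; simp at h60; omega)
    omega
  rcases hm1 with rfl | rfl
  · omega
  · exact absurd ⟨15, by omega⟩ h8

end Cfsg.Agent.S3278
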