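import Cfsg.Statements.S3277
import Mathlib
import Cfsg.Agent.InvChar.FourCentralizerFusion
import Cfsg.Agent.BlockCharsA.DefectZeroVanish
import Cfsg.Agent.Lib.Involutions.KleinSylow
import Cfsg.Agent.S0948
import Cfsg.Agent.S4479
import Cfsg.Agent.S3278
set_option linter.all false

set_option autoImplicit false
open Cfsg

namespace Cfsg.Agent.S3277

/-- Let G be a finite group containing an involution whose centralizer is elementary abelian of order 4. If G has no normal 2-complement and no normal elementary abelian 2-subgroup of order 2 or 4, then G is isomorphic to the alternating group of degree 5 (that is, to PSL(2, 5)). -/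
theorem result {G : Type*} [Group G] [Finite G] (x : G) (hx : orderOf x = 2)
    (hC4 : Nat.card ↥(Subgroup.centralizer ({x} : Set G)) = 4) (hCe : ∀ c ∈ Subgroup.centralizer ({x} : Set G), c ^ 2 = 1)
    (hnc : ¬ Cfsg.HasNormalPComplement 2 G)
    (hne : ∀ E : Subgroup G, E.Normal → Cfsg.IsElementaryAbelian 2 E → Nat.card ↥E ≠ 2 ∧ Nat.card ↥E ≠ 4) :
    Nonempty (G ≃* ↥(alternatingGroup (Fin 5))) := by
  classical
  haveI := Fintype.ofFinite G
  haveI : Fact (Nat.Prime 2) := ⟨Nat.prime_two⟩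
  obtain ⟨T, hTV⟩ := InvChar.FourCentralizerFusion.sylow_four x hx hC4 hne hCe
  have hT4 : Nat.card ↥(T : Subgroup G) = 4 := by rw [hTV]; exact hC4
  have hT2 : ∀ t ∈ (T : Subgroup G), t * t = 1 := fun t ht => by rw [← pow_two]; exact hCe t (hTV ▸ ht)
  have hxT : x ∈ (T : Subgroup G) := by rw [hTV]; exact Subgroup.mem_centralizer_singleton_iff.2 rfl
  have hg₀ : Odd (T : Subgroup G).index := Nat.odd_iff.2 (Nat.two_dvd_ne_zero.1 T.not_dvd_index)
  have hG4 : Nat.card G = 4 * (T : Subgroup G).index := by rw [← hT4, Subgroup.card_mul_index]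
  have hnc' : ¬ ∃ N : Subgroup G, N.Normal ∧ Nat.card N = (T : Subgroup G).index := by
    rintro ⟨N, hN, hNc⟩
    refine hnc ⟨T, N, hN, Subgroup.isComplement'_of_coprime ?_ ?_⟩
    · rw [hNc, mul_comm]; exact (T : Subgroup G).card_mul_index
    · rw [hNc]; exact T.card_coprime_index.symm
  obtain ⟨hTK, hone⟩ := BlockCharsA.KleinOrder.setting T hg₀ hG4 hnc'
  have hTcomm : ∀ a ∈ (T : Subgroup G), ∀ b ∈ (T : Subgroup G), a * b = b * a := fun a ha b hb => by
    have e := inv_eq_of_mul_eq_one_right (hT2 _ (mul_mem ha hb))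
    rw [mul_inv_rev, inv_eq_of_mul_eq_one_right (hT2 a ha), inv_eq_of_mul_eq_one_right (hT2 b hb)] at e
    exact e.symm
  have hCT : Subgroup.centralizer ((T : Subgroup G) : Set G) = (T : Subgroup G) := by
    refine le_antisymm ((Subgroup.centralizer_le (Set.singleton_subset_iff.2 hxT)).trans hTV.ge) fun a ha => ?_
    exact Subgroup.mem_centralizer_iff.2 fun b hb => hTcomm b hb a ha
  set N := Subgroup.normalizer ((T : Subgroup G) : Set G) with hN
  set n := N.index with hndef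
  -- the normalizer has order twelve
  have hN12 : Nat.card ↥N = 12 := by
    let V : Subgroup ↥N := (Subgroup.centralizer ({x} : Set G)).subgroupOf N
    have hVN : (T : Subgroup G) ≤ N := Subgroup.le_normalizer
    have hV4 : Nat.card ↥V = 4 := by
      rw [Nat.card_congr (Subgroup.subgroupOfEquivOfLe (hTV ▸ hVN)).toEquiv, hC4]
    have hmem : ∀ k : ↥N, ((k : G) * x * (k : G)⁻¹) ∈ (T : Subgroup G) ∧ (k : G) * x * (k : G)⁻¹ ≠ 1 := fun k =>
      ⟨(Subgroup.mem_normalizer_iff.1 k.2 x).1 hxT, fun e =>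
        InvChar.FourCentralizerFusion.ne_one_of_two hx (conj_eq_one_iff.1 e)⟩
    have hb : Function.Bijective (fun q : ↥N ⧸ V =>
        (⟨⟨_, (hmem q.out).1⟩, fun e => (hmem q.out).2 (congrArg Subtype.val e)⟩ : {s : ↥(T : Subgroup G) // s ≠ 1})) := by
      constructor
      · intro q q' e
        have e' : (q.out : G) * x * (q.out : G)⁻¹ = (q'.out : G) * x * (q'.out : G)⁻¹ :=
          congrArg (fun s : {s : ↥(T : Subgroup G) // s ≠ 1} => ((s.1 : ↥(T : Subgroup G)) : G)) e
        rw [← QuotientGroup.out_eq' q, ← QuotientGroup.out_eq' q']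
        refine QuotientGroup.eq.2 (Subgroup.mem_centralizer_singleton_iff.2 ?_)
        show (q.out : G)⁻¹ * (q'.out : G) * x = x * ((q.out : G)⁻¹ * (q'.out : G))
        calc (q.out : G)⁻¹ * (q'.out : G) * x = (q.out : G)⁻¹ * ((q'.out : G) * x * (q'.out : G)⁻¹) * (q'.out : G) := by group
          _ = _ := by rw [← e']; group
      · rintro ⟨⟨s, hs⟩, hs1⟩
        have hso : orderOf s = 2 := orderOf_eq_prime (by rw [pow_two]; exact hT2 s hs) (fun e => hs1 (Subtype.ext e))
        obtain ⟨g, hg⟩ := isConj_iff.1 (hone x s hx hso)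
        obtain ⟨k, hk, hke⟩ := Involutions.KleinSylow.exists_normalizer_conj T hTK hxT (g := g) (by rw [hg]; exact hs)
        refine ⟨QuotientGroup.mk ⟨k, hk⟩, ?_⟩
        refine Subtype.ext (Subtype.ext ?_)
        obtain ⟨r, hr⟩ : ∃ r : ↥N, r = (QuotientGroup.mk (⟨k, hk⟩ : ↥N) : ↥N ⧸ V).out := ⟨_, rfl⟩
        have hrV : r⁻¹ * ⟨k, hk⟩ ∈ V := by
          rw [hr]
          exact QuotientGroup.eq.1 (QuotientGroup.out_eq' _)
        have hm' : (r : G)⁻¹ * k * x = x * ((r : G)⁻¹ * k) :=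
          Subgroup.mem_centralizer_singleton_iff.1 (Subgroup.mem_subgroupOf.1 hrV)
        dsimp only
        rw [← hr]
        calc (r : G) * x * (r : G)⁻¹ = r * (x * ((r : G)⁻¹ * k)) * k⁻¹ := by group
          _ = r * ((r : G)⁻¹ * k * x) * k⁻¹ := by rw [hm']
          _ = k * x * k⁻¹ := by group
          _ = s := hke.trans hg
    have h3 : V.index = 3 := by
      rw [Subgroup.index_eq_card, Nat.card_congr (Equiv.ofBijective _ hb)]
      haveI := Fintype.ofFinite ↥(T : Subgroup G)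
      rw [Nat.card_eq_fintype_card, Fintype.card_subtype_compl, Fintype.card_subtype_eq, ← Nat.card_eq_fintype_card, hT4]
    rw [← V.card_mul_index, hV4, h3]
  have hGn : Nat.card G = 12 * n := by rw [← N.card_mul_index, hN12]
  obtain ⟨M, hM⟩ := BlockCharsA.DefectZeroVanish.exists_modular Nat.prime_two
  obtain ⟨ζ₂, ζ₃, ζ₄, ε, hε, hd2, hd3, h23, h24, h34, hB, hval, -, hm3, hm4, -⟩ := S0948.result M hM T hTK hone
  obtain ⟨v2, v3, v4⟩ := hval x hx
  have hd4 : (ζ₄ : G → ℂ) ≠ (fun _ => 1) := fun e => by rw [e] at v4; norm_num at v4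
  have hF := S4479.result M hM _ hg₀ hG4 hnc' T x hxT hx ζ₂ ζ₃ ζ₄ 1 ε (-1) hB ⟨hd2, hd3, hd4, h23, h24, h34⟩
    ⟨Or.inl rfl, hε, Or.inr rfl⟩ ⟨by rw [v2]; norm_num, v3, by rw [v4]; norm_num⟩
  set x₁ := Cfsg.charDegree (ζ₂ : G → ℂ)
  set x₂ := Cfsg.charDegree (ζ₃ : G → ℂ)
  set x₃ := Cfsg.charDegree (ζ₄ : G → ℂ)
  have p1 : 1 ≤ x₁ := Blocks.charDegree_pos ζ₂
  have p2 : 1 ≤ x₂ := Blocks.charDegree_pos ζ₃
  have p3 : 3 ≤ x₃ := by obtain ⟨q, hq⟩ := hm4; omega
  have p2' : ε = -1 → 3 ≤ x₂ := by rintro rfl; obtain ⟨q, hq⟩ := hm3; omega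
  have hn5 : n ≤ 5 := by
    refine S3278.bound n x₁ x₂ x₃ ε hε p1 p2 p2' p3 ?_
    rw [hCT, hT4, hC4, hGn] at hF
    have hD : ((x₁ : ℚ) + 1) * (x₂ + (ε : ℚ)) * ((x₃ : ℚ) - 1) ≠ 0 := by
      have a1 : (1 : ℚ) ≤ x₁ := by exact_mod_cast p1
      have a2 : (1 : ℚ) ≤ x₂ := by exact_mod_cast p2
      have a3 : (3 : ℚ) ≤ x₃ := by exact_mod_cast p3
      refine mul_ne_zero (mul_ne_zero (by positivity) ?_) (by linarith)
      rcases hε with rfl | rfl
      · push_cast; linarith
      · have : (3 : ℚ) ≤ x₂ := by exact_mod_cast p2' rfl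
        push_cast; linarith
    push_cast at hF
    rw [← sub_eq_add_neg] at hF
    have : (3 * (n : ℚ)) * (((x₁ : ℚ) + 1) * (x₂ + (ε : ℚ)) * ((x₃ : ℚ) - 1)) = 8 * ((x₁ : ℚ) * x₂ * x₃) := by
      generalize ((x₁ : ℚ) + 1) * (x₂ + (ε : ℚ)) * ((x₃ : ℚ) - 1) = D at hF hD ⊢
      field_simp at hF
      linarith
    exact_mod_cast this
  -- the action on the conjugates of `T`
  set K := N.normalCore with hK
  have hKN : K ≤ N := N.normalCore_le
  have hinT : ∀ t ∈ K, orderOf t = 2 → t ∈ (T : Subgroup G) := by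
    intro t ht hto
    let T' : Sylow 2 ↥N := T.subtype Subgroup.le_normalizer
    haveI : (T' : Subgroup ↥N).Normal := Subgroup.normal_in_normalizer
    obtain ⟨Q, hQ⟩ := (IsPGroup.of_card (n := 1) (show Nat.card ↥(Subgroup.zpowers (⟨t, hKN ht⟩ : ↥N)) = 2 ^ 1 by
      rw [Nat.card_zpowers, pow_one, ← Subgroup.orderOf_coe]; exact hto)).exists_le_sylow
    obtain ⟨g, hg⟩ := MulAction.exists_smul_eq ↥N T' Q
    have : Q = T' := by
      rw [← hg, Sylow.smul_eq_iff_mem_normalizer]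
      exact (Subgroup.normalizer_eq_top (T' : Subgroup ↥N)).ge (Subgroup.mem_top g)
    exact (this ▸ hQ) (Subgroup.mem_zpowers _)
  have hKodd : ¬ 2 ∣ Nat.card ↥K := by
    intro h2
    obtain ⟨⟨t, ht⟩, hto⟩ := exists_prime_orderOf_dvd_card' 2 h2
    rw [← Subgroup.orderOf_coe] at hto
    change orderOf t = 2 at hto
    have hall : ∀ s : G, orderOf s = 2 → s ∈ K := by
      intro s hs
      obtain ⟨g, rfl⟩ := isConj_iff.1 (hone t s hto hs)
      exact (Subgroup.normalCore_normal N).conj_mem t ht g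
    refine (hne (T : Subgroup G) ⟨fun a ha g => ?_⟩ ⟨⟨⟨fun a b => Subtype.ext (hTcomm a a.2 b b.2)⟩⟩, fun a ha => by
      rw [pow_two]; exact hT2 a ha⟩).2 hT4
    by_cases ha1 : a = 1
    · subst ha1; simp
    have hao : orderOf a = 2 := orderOf_eq_prime (by rw [pow_two]; exact hT2 a ha) ha1
    exact hinT _ ((Subgroup.normalCore_normal N).conj_mem a (hall a hao) g) ((MulEquiv.orderOf_eq (MulAut.conj g) a).trans hao)
  have hKbot : K = ⊥ := by
    refine (Subgroup.eq_bot_iff_forall K).2 fun k hk => ?_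
    have hk2 : k ∈ (T : Subgroup G) := by
      rw [← hCT, Subgroup.mem_centralizer_iff]
      intro t ht
      have hm : t * k * t⁻¹ * k⁻¹ ∈ K :=
        K.mul_mem ((Subgroup.normalCore_normal N).conj_mem k hk t) (K.inv_mem hk)
      have hm2 : t * k * t⁻¹ * k⁻¹ ∈ (T : Subgroup G) := by
        rw [show t * k * t⁻¹ * k⁻¹ = t * (k * t⁻¹ * k⁻¹) by group]
        exact mul_mem ht ((Subgroup.mem_normalizer_iff.1 (hKN hk) _).1 (inv_mem ht))
      have h1 : t * k * t⁻¹ * k⁻¹ = 1 := by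
        by_contra hne'
        exact hKodd (by
          rw [← orderOf_eq_prime (p := 2) (by rw [pow_two]; exact hT2 _ hm2) hne']
          exact K.orderOf_dvd_natCard hm)
      exact mul_inv_eq_iff_eq_mul.1 (mul_inv_eq_one.1 h1)
    by_contra hk1
    exact hKodd (by
      rw [← orderOf_eq_prime (p := 2) (by rw [pow_two]; exact hT2 _ hk2) hk1]
      exact K.orderOf_dvd_natCard hk)
  haveI : Fintype (G ⧸ N) := Fintype.ofFinite _
  let φ := MulAction.toPermHom G (G ⧸ N)
  have hφ : Function.Injective φ := by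
    rw [← MonoidHom.ker_eq_bot_iff, ← Subgroup.normalCore_eq_ker]; exact hKbot
  have hdvd : Nat.card G ∣ n.factorial := by
    have := Subgroup.card_dvd_of_injective φ hφ
    rwa [Nat.card_eq_fintype_card (α := Equiv.Perm (G ⧸ N)), Fintype.card_perm, ← Nat.card_eq_fintype_card] at this
  have hn0 : n ≠ 0 := Subgroup.index_ne_zero_of_finite
  have hn : n = 5 := by
    by_contra h5
    have hlt : n ≤ 4 := by omega
    rw [hGn] at hdvd
    interval_cases n <;> simp [Nat.factorial] at hdvd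
  have hcard5 : Fintype.card (G ⧸ N) = 5 := by
    rw [← Nat.card_eq_fintype_card, ← Subgroup.index_eq_card, ← hndef, hn]
  have hidx : φ.range.index = 2 := by
    have h1 := φ.range.card_mul_index
    rw [Nat.card_congr (MonoidHom.ofInjective hφ).toEquiv.symm, hGn, hn,
      Nat.card_eq_fintype_card (α := Equiv.Perm (G ⧸ N)), Fintype.card_perm, hcard5] at h1
    norm_num [Nat.factorial] at h1
    omega
  have halt := Equiv.Perm.eq_alternatingGroup_of_index_eq_two hidx
  exact ⟨((MonoidHom.ofInjective hφ).trans (MulEquiv.subgroupCongr halt)).trans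
    (Equiv.altCongrHom (Fintype.equivFinOfCardEq hcard5))⟩

end Cfsg.Agent.S3277
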