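import Cfsg.Statements.S3331
import Cfsg.Agent.Lib.SelfThree.Main
import Cfsg.Agent.S0494
import Cfsg.Agent.S0495

set_option autoImplicit false
set_option linter.style.haveILetI false
open Cfsg

namespace Cfsg.Agent.S3331

open Subgroup Cfsg.Agent.SelfThree

theorem perm_three {Q : Type*} [Group Q] [Finite Q] {x : Q} (hx : Self x) (h6 : Nat.card Q = 6) :
    Nonempty (Q ≃* Equiv.Perm (Fin 3)) := by
  classical
  haveI : Fact (Nat.Prime 2) := ⟨Nat.prime_two⟩
  obtain ⟨t, ht⟩ := exists_prime_orderOf_dvd_card' (G := Q) 2 (by rw [h6]; norm_num)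
  set H := zpowers t with hH
  have hi : Nat.card (Q ⧸ H) = 3 := by
    have := card_mul_index H
    rw [Nat.card_zpowers, ht, h6, index_eq_card] at this
    omega
  have hker : (MulAction.toPermHom Q (Q ⧸ H)).ker = ⊥ := by
    rw [← normalCore_eq_ker]
    by_contra hne
    have hle := normalCore_le H
    have hcard : Nat.card H.normalCore = 2 := by
      have h := card_dvd_of_le hle
      rw [Nat.card_zpowers, ht] at h
      rcases (Nat.dvd_prime Nat.prime_two).1 h with h1 | h2
      · exact absurd (card_eq_one.1 h1) hne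
      · exact h2
    have heq : H.normalCore = H := eq_of_le_of_card_ge hle (by rw [hcard, Nat.card_zpowers, ht])
    have hm : x * t * x⁻¹ ∈ H := by
      have := (normalCore_normal H).conj_mem t (heq.symm ▸ mem_zpowers t) x
      rwa [heq] at this
    obtain ⟨k, hk⟩ := hm
    simp only at hk
    have hk' : t ^ k = 1 ∨ t ^ k = t := by
      rw [← zpow_mod_orderOf, ht]
      rcases Int.emod_two_eq k with e | e <;> simp [e]
    rcases hk' with e | e
    · rw [e, eq_comm, mul_inv_eq_one, mul_eq_left] at hk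
      rw [hk, orderOf_one] at ht
      omega
    · rw [e, eq_comm, mul_inv_eq_iff_eq_mul] at hk
      have := orderOf_dvd_natCard (⟨t, hx.cent t hk⟩ : zpowers x)
      rw [Nat.card_zpowers, hx.order, orderOf_mk, ht] at this
      omega
  let e : Q ⧸ H ≃ Fin 3 := (Finite.equivFin _).trans (finCongr hi)
  have hinj : Function.Injective (MulAction.toPermHom Q (Q ⧸ H)) := (MonoidHom.ker_eq_bot_iff _).1 hker
  have hinj' : Function.Injective (e.permCongrHom.toMonoidHom.comp (MulAction.toPermHom Q (Q ⧸ H))) :=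
    e.permCongrHom.injective.comp hinj
  refine ⟨MulEquiv.ofBijective _ ((Nat.bijective_iff_injective_and_card _).2 ⟨hinj', ?_⟩)⟩
  rw [h6, Nat.card_perm, Nat.card_eq_fintype_card, Fintype.card_fin]
  rfl

/-- Let G be a finite group containing a subgroup X of order 3 with C_G(X) = X. Then one of the following holds: G has a nilpotent normal subgroup N of order prime to 3 with G/N of order 3 or isomorphic to Sym(3); or G has an elementary abelian normal 2-subgroup N with G/N isomorphic to the alternating group of degree 5; or G is isomorphic to PSL(2,7). -/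
theorem result {G : Type*} [Group G] [Finite G]
    (X : Subgroup G) (hX : Nat.card X = 3) (hC : Subgroup.centralizer (X : Set G) = X) :
    (∃ (N : Subgroup G) (hN : N.Normal), Group.IsNilpotent N ∧ (Nat.card N).Coprime 3 ∧
        (Nat.card (G ⧸ N) = 3 ∨ Nonempty (G ⧸ N ≃* Equiv.Perm (Fin 3)))) ∨
    (∃ (N : Subgroup G) (hN : N.Normal), IsMulCommutative N ∧ (∀ n ∈ N, n ^ 2 = 1) ∧
        Nonempty (G ⧸ N ≃* alternatingGroup (Fin 5))) ∨
    Nonempty (G ≃* Matrix.ProjectiveSpecialLinearGroup (Fin 2) (ZMod 7)) := by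
  haveI : Fact (Nat.Prime 3) := ⟨Nat.prime_three⟩
  haveI : Fact (Nat.Prime 7) := ⟨by norm_num⟩
  obtain ⟨⟨x, hxX⟩, hxo⟩ := exists_prime_orderOf_dvd_card' (G := X) 3 (by rw [hX])
  rw [orderOf_mk] at hxo
  have hXe : X = zpowers x := (eq_of_le_of_card_ge (zpowers_le.2 hxX)
    (by rw [hX, Nat.card_zpowers, hxo])).symm
  have hx : Self x := ⟨hxo, fun g hg => by
    rw [← hXe, ← hC, mem_centralizer_iff]
    intro y hy
    rw [hXe] at hy
    obtain ⟨k, rfl⟩ := hy
    exact Commute.zpow_left hg k⟩
  obtain ⟨N, hN, h3, h | S | ⟨hb, hs, h168⟩⟩ := shape_of_self _ hx rfl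
  · left
    refine ⟨N, hN, hx.isNilpotent (by rw [SelfThree.Inv, normalizer_eq_top]; exact mem_top _) h3,
      Nat.Coprime.symm (Nat.prime_three.coprime_iff_not_dvd.2 h3), ?_⟩
    rw [← index_eq_card]
    exact h.imp id fun h6 => perm_three (hx.quotient N h3) (by rw [← index_eq_card]; exact h6)
  · right; left
    haveI := S.simple
    exact ⟨N, hN, ⟨⟨fun a b => Subtype.ext (S.comm a a.2 b b.2)⟩⟩, S.sq,
      Cfsg.Agent.S0494.result (by rw [← index_eq_card]; exact S.index)⟩
  · right; right
    haveI := hs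
    exact Cfsg.Agent.S0495.result h168 (ZMod.card 7)

end Cfsg.Agent.S3331
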