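import Cfsg.Statements.S3280
import Cfsg.Agent.Lib.CentFour.TwoGroup
import Cfsg.Agent.Lib.CentFour.Finish
import Cfsg.Agent.Lib.Classical.CyclicExt
import Cfsg.Agent.Lib.Transfer.SmallSylow
import Cfsg.Agent.Lib.GLTwoThree.Fusion
import Cfsg.Agent.InvChar.DihedralEightCentralizer
import Cfsg.Agent.S0107
import Cfsg.Agent.S0495
import Cfsg.Agent.S0497
import Cfsg.Agent.S0984
import Cfsg.Agent.S3277
import Cfsg.Agent.S3331
-- import your own Cfsg.Agent.* helpers here

set_option autoImplicit false
open Cfsg
set_option linter.style.haveILetI false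

namespace Cfsg.Agent.S3280

/-- A non-cyclic finite simple group containing an element whose centralizer has order at most 4 is isomorphic to the alternating group of degree 5, 6 or 7, or to PSL(2, 7). -/
theorem result {G : Type*} [Group G] [Finite G] [IsSimpleGroup G] (hG : ¬ IsCyclic G)
    (w : G) (hw : Nat.card ↥(Subgroup.centralizer ({w} : Set G)) ≤ 4) :
    Nonempty (G ≃* ↥(alternatingGroup (Fin 5))) ∨ Nonempty (G ≃* ↥(alternatingGroup (Fin 6))) ∨
      Nonempty (G ≃* ↥(alternatingGroup (Fin 7))) ∨
      (∃ (F : Type) (_ : Field F) (_ : Fintype F), Fintype.card F = 7 ∧ Nonempty (G ≃* Matrix.ProjectiveSpecialLinearGroup (Fin 2) F)) := by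
  classical
  haveI : Fact (Nat.Prime 2) := ⟨Nat.prime_two⟩
  haveI : Fact (Nat.Prime 7) := ⟨by norm_num⟩
  have hGc : ¬ IsMulCommutative G := by
    rintro hc
    letI : CommGroup G := { ‹Group G› with mul_comm := fun a b => mul_comm' a b }
    exact hG IsSimpleGroup.isCyclic
  have hnc : ∃ a b : G, a * b ≠ b * a := by
    by_contra hcon
    exact hGc ⟨⟨fun a b => not_not.1 fun hab => hcon ⟨a, b, hab⟩⟩⟩
  have h5 : 4 < Nat.card G := by
    obtain ⟨E, hE⟩ := S0204.result hG
    rcases (Nat.le_of_dvd Nat.card_pos (hE.card_four ▸ E.card_subgroup_dvd_card)).lt_or_eq with h | h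
    · exact h
    · exfalso
      have hEtop : E = ⊤ := Subgroup.eq_top_of_card_eq E (hE.card_four.trans h)
      refine hGc ⟨⟨fun a b => ?_⟩⟩
      exact congrArg Subtype.val (mul_comm_of_exponent_two hE.exponent_two
        (⟨a, hEtop ▸ Subgroup.mem_top a⟩ : E) ⟨b, hEtop ▸ Subgroup.mem_top b⟩)
  have hwne : w ≠ 1 := by
    rintro rfl
    have htop : Subgroup.centralizer ({1} : Set G) = ⊤ :=
      (Subgroup.eq_top_iff' _).2 fun g => Subgroup.mem_centralizer_singleton_iff.2 (by simp)
    rw [htop, Subgroup.card_top] at hw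
    omega
  set C := Subgroup.centralizer ({w} : Set G) with hCdef
  have hwC : w ∈ C := Subgroup.mem_centralizer_singleton_iff.2 rfl
  have hdvd : orderOf w ∣ Nat.card C := by
    rw [← Subgroup.orderOf_mk w hwC]; exact orderOf_dvd_natCard _
  have hw1 : orderOf w ≠ 1 := fun e => hwne (orderOf_eq_one_iff.1 e)
  have h0 := Nat.le_of_dvd Nat.card_pos hdvd
  have h0' := orderOf_pos w
  -- the three possible orders of `w`
  rcases (show orderOf w = 2 ∨ orderOf w = 3 ∨ orderOf w = 4 by omega) with ho | ho | ho
  · -- an involution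
    obtain ⟨P, hP⟩ := (IsPGroup.of_card (n := 1) (show Nat.card (Subgroup.zpowers w) = 2 ^ 1 by
      rw [Nat.card_zpowers, ho, pow_one])).exists_le_sylow
    have hwP : w ∈ (P : Subgroup G) := hP (Subgroup.mem_zpowers w)
    obtain ⟨u, v, hu1, hv1, huv, hu2, hv2⟩ :=
      CentFour.exists_klein_in_sylow (S0204.result hG) P
    haveI : Nontrivial (P : Subgroup G) := ⟨u, 1, hu1⟩
    obtain ⟨z, hz⟩ := exists_prime_orderOf_dvd_card' (G := Subgroup.center (P : Subgroup G)) 2 (by
      obtain ⟨n, hn⟩ := IsPGroup.iff_card.1 (P.2.to_subgroup (Subgroup.center (P : Subgroup G)))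
      rcases n with _ | n
      · have := P.2.bot_lt_center
        rw [pow_zero, Subgroup.card_eq_one] at hn
        exact absurd hn.symm this.ne
      · exact hn ▸ dvd_pow_self 2 (Nat.succ_ne_zero n))
    have hzc : ∀ s : (P : Subgroup G), Commute (((z : (P : Subgroup G))) : G) (s : G) := fun s =>
      congrArg Subtype.val (Subgroup.mem_center_iff.1 z.2 s).symm
    set z' : G := ((z : (P : Subgroup G)) : G)
    have hz' : orderOf z' = 2 := by simp only [z', Subgroup.orderOf_coe]; exact hz
    -- a four-group in the centralizer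
    obtain ⟨a, b, ha, hb, ha1, hb1, hab, ha2, hb2⟩ : ∃ a b : G, a ∈ C ∧ b ∈ C ∧ a ≠ 1 ∧ b ≠ 1 ∧
        a ≠ b ∧ a * a = 1 ∧ b * b = 1 := by
      have hww : w * w = 1 := by rw [← pow_two, ← ho, pow_orderOf_eq_one]
      have hzz : z' * z' = 1 := by rw [← pow_two, ← hz', pow_orderOf_eq_one]
      have hz1 : z' ≠ 1 := fun e => by rw [e, orderOf_one] at hz'; omega
      by_cases hzw : z' = w
      · refine ⟨u, v, ?_, ?_, fun e => hu1 (Subtype.ext e), fun e => hv1 (Subtype.ext e),
          fun e => huv (Subtype.ext e), by exact_mod_cast congrArg Subtype.val hu2,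
          by exact_mod_cast congrArg Subtype.val hv2⟩
        · exact Subgroup.mem_centralizer_singleton_iff.2 (hzw ▸ (hzc u).eq.symm)
        · exact Subgroup.mem_centralizer_singleton_iff.2 (hzw ▸ (hzc v).eq.symm)
      · exact ⟨z', w, Subgroup.mem_centralizer_singleton_iff.2 (hzc ⟨w, hwP⟩).eq, hwC, hz1, hwne,
          hzw, hzz, hww⟩
    have hC4 : Nat.card C = 4 := by
      obtain ⟨k, hk⟩ : 2 ∣ Nat.card C := ho ▸ hdvd
      by_contra hne
      have hC2 : Nat.card C = 2 := by have := Nat.card_pos (α := C); omega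
      have hCz : Subgroup.zpowers w = C := Subgroup.eq_of_le_of_card_ge (Subgroup.zpowers_le.2 hwC)
        (by rw [Nat.card_zpowers, ho, hC2])
      have hmem : ∀ g ∈ C, g ≠ 1 → g = w := fun g hg hg1 => by
        rw [← hCz] at hg
        obtain ⟨i, rfl⟩ := mem_powers_iff_mem_zpowers.2 hg
        simp only at hg1 ⊢
        rw [← pow_mod_orderOf, ho] at hg1 ⊢
        rcases Nat.mod_two_eq_zero_or_one i with e | e <;> rw [e] at hg1 ⊢
        · exact absurd (pow_zero w) hg1
        · exact pow_one w
      exact hab ((hmem a ha ha1).trans (hmem b hb hb1).symm)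
    have hCe : ∀ c ∈ C, c ^ 2 = 1 := by
      intro c hc
      by_contra hc2
      have hco : orderOf (⟨c, hc⟩ : C) = Nat.card C := by
        have hd : orderOf (⟨c, hc⟩ : C) ∣ 2 ^ 2 := by
          rw [show (2 : ℕ) ^ 2 = Nat.card C by rw [hC4]; norm_num]
          exact orderOf_dvd_natCard _
        obtain ⟨i, hi, hi'⟩ := (Nat.dvd_prime_pow Nat.prime_two).1 hd
        have hi2 : i = 2 := by
          by_contra hne
          apply hc2
          have : orderOf c ∣ 2 := by
            rw [← Subgroup.orderOf_mk c hc, hi']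
            exact (pow_dvd_pow 2 (show i ≤ 1 by omega)).trans (by norm_num)
          exact orderOf_dvd_iff_pow_eq_one.1 this
        rw [hi', hi2, hC4]; norm_num
      haveI : Fintype C := Fintype.ofFinite C
      have hcyc : IsCyclic C := isCyclic_of_orderOf_eq_card _ hco
      have h2 := IsCyclic.card_pow_eq_one_le (α := C) (n := 2) (by norm_num)
      have h3 : ({1, ⟨a, ha⟩, ⟨b, hb⟩} : Finset C) ⊆ Finset.univ.filter fun x : C => x ^ 2 = 1 := by
        intro x hx
        simp only [Finset.mem_insert, Finset.mem_singleton] at hx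
        simp only [Finset.mem_filter, Finset.mem_univ, true_and]
        rcases hx with rfl | rfl | rfl
        · simp
        · exact Subtype.ext (by simp [pow_two, ha2])
        · exact Subtype.ext (by simp [pow_two, hb2])
      have h4 : ({1, ⟨a, ha⟩, ⟨b, hb⟩} : Finset C).card = 3 := by
        rw [Finset.card_insert_of_notMem, Finset.card_insert_of_notMem, Finset.card_singleton]
        · simp [hab]
        · simp only [Finset.mem_insert, Finset.mem_singleton, not_or]
          exact ⟨fun e => ha1 (congrArg Subtype.val e).symm, fun e => hb1 (congrArg Subtype.val e).symm⟩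
      have := Finset.card_le_card h3
      omega
    refine Or.inl (S3277.result w ho hC4 hCe ?_ ?_)
    · exact Transfer.SmallSylow.not_hasNormalPComplement_of_isSimpleGroup hnc
        (ho ▸ orderOf_dvd_natCard w)
    · intro E hEn _
      rcases hEn.eq_bot_or_eq_top with e | e
      · rw [e, Subgroup.card_bot]; omega
      · rw [e, Subgroup.card_top]; omega
  · -- order three
    have hC3 : Nat.card C = 3 := by
      obtain ⟨k, hk⟩ : 3 ∣ Nat.card C := ho ▸ hdvd
      have := Nat.card_pos (α := C)
      omega
    have hCC : Subgroup.centralizer (C : Set G) = C := by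
      have hCz : C = Subgroup.zpowers w :=
        (Subgroup.eq_of_le_of_card_ge (Subgroup.zpowers_le.2 hwC)
          (by rw [Nat.card_zpowers, ho, hC3])).symm
      refine le_antisymm (fun g hg => Subgroup.mem_centralizer_singleton_iff.2
        (Subgroup.mem_centralizer_iff.1 hg w hwC).symm) fun g hg => ?_
      refine Subgroup.mem_centralizer_iff.2 fun c hc => ?_
      rw [SetLike.mem_coe, hCz] at hc
      obtain ⟨i, rfl⟩ := hc
      exact ((show Commute g w from Subgroup.mem_centralizer_singleton_iff.1 hg).zpow_right i).eq.symm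
    rcases S3331.result C hC3 hCC with ⟨N, hN, -, hNco, hq⟩ | ⟨N, hN, -, -, ⟨e⟩⟩ | he
    · exfalso
      rcases hN.eq_bot_or_eq_top with rfl | rfl
      · have e0 : Nat.card (G ⧸ (⊥ : Subgroup G)) = Nat.card G :=
          Nat.card_congr QuotientGroup.quotientBot.toEquiv
        rcases hq with hq | he
        · omega
        · have e := he.some
          have e' : G ≃* Equiv.Perm (Fin 3) := QuotientGroup.quotientBot.symm.trans e
          let s := (Equiv.Perm.sign (α := Fin 3)).comp e'.toMonoidHom
          rcases (inferInstance : s.ker.Normal).eq_bot_or_eq_top with hb | ht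
          · have hle := Nat.card_le_card_of_injective s ((MonoidHom.ker_eq_bot_iff s).1 hb)
            have : Nat.card ℤˣ = 2 := by rw [Nat.card_eq_fintype_card]; rfl
            omega
          · have h1 : s (e'.symm (Equiv.swap 0 1)) = 1 := by
              rw [← MonoidHom.mem_ker, ht]; trivial
            simp [s] at h1
      · rw [Subgroup.card_top] at hNco
        have h3 : 3 ∣ Nat.card G := ho ▸ orderOf_dvd_natCard w
        exact absurd (Nat.eq_one_of_dvd_coprimes hNco h3 dvd_rfl) (by norm_num)
    · rcases hN.eq_bot_or_eq_top with rfl | rfl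
      · exact Or.inl ⟨QuotientGroup.quotientBot.symm.trans e⟩
      · exfalso
        have h1 := Nat.card_congr e.toEquiv
        have h2 : 2 * Nat.card (alternatingGroup (Fin 5)) = 120 := by
          rw [two_mul_nat_card_alternatingGroup, Nat.card_perm, Nat.card_fin]; rfl
        rw [← Subgroup.index, Subgroup.index_top] at h1
        omega
    · exact Or.inr (Or.inr (Or.inr ⟨ZMod 7, inferInstance, inferInstance, ZMod.card 7, he⟩))
  · -- order four
    obtain ⟨P, τ, hwP, hτP, hP8, hτ2, hrel, hτn⟩ := CentFour.sylow_dihedral hG w ho hw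
    have hD : CharTheory.DihedralPrincipal.DihSylow P w τ 2 :=
      ⟨hwP, hτP, by rw [ho], hτ2, hrel, hτn, dvd_rfl, ⟨1, by norm_num⟩,
        CharTheory.DihedralPrincipal.exists_cases_of_card (m := 2) hwP hτP (by rw [ho]) hτn
          (by rw [hP8])⟩
    have hC4 : Nat.card (Subgroup.centralizer ({w} : Set G)) = 4 :=
      le_antisymm hw (by rw [← ho]; exact h0)
    obtain ⟨f, hf, hxf, hyf⟩ := Classical.CyclicExt.exists_dihedral_hom (G := (P : Subgroup G))
      (n := 4) ⟨w, hwP⟩ ⟨τ, hτP⟩ (by rw [Subgroup.orderOf_mk, ho]) (Subtype.ext hτ2)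
      (Subtype.ext hrel) (fun hmem => hτn (by
        obtain ⟨i, hi⟩ := hmem
        exact ⟨i, congrArg Subtype.val hi⟩))
    have eP : (P : Subgroup G) ≃* DihedralGroup 4 :=
      (MulEquiv.ofBijective f ((Nat.bijective_iff_injective_and_card f).2
        ⟨hf, by rw [DihedralGroup.nat_card, hP8]⟩)).symm
    have hodd : ∃ g : G, g ≠ 1 ∧ Nat.Coprime (orderOf g) 2 := by
      by_contra hcon
      have hpg : IsPGroup 2 G := by
        refine IsPGroup.iff_card.2 ⟨(Nat.card G).factorization 2, ?_⟩
        refine Nat.eq_pow_of_factorization_eq_single Nat.card_pos.ne' ?_ |>.trans rfl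
        ext p
        by_cases hp : p = 2
        · subst hp; simp
        · rw [Finsupp.single_eq_of_ne hp]
          by_contra hne
          have hpm := Nat.prime_of_mem_primeFactors (Nat.support_factorization (Nat.card G) ▸
            Finsupp.mem_support_iff.2 hne)
          haveI := Fact.mk hpm
          obtain ⟨g, hg⟩ := exists_prime_orderOf_dvd_card' p (Nat.dvd_of_factorization_pos hne)
          exact hcon ⟨g, fun e => by rw [e, orderOf_one] at hg; exact hpm.one_lt.ne hg,
            hg ▸ (Nat.coprime_primes hpm Nat.prime_two).2 hp⟩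
      haveI : Nontrivial G := IsSimpleGroup.toNontrivial
      rcases (inferInstance : (Subgroup.center G).Normal).eq_bot_or_eq_top with hc | hc
      · exact hpg.bot_lt_center.ne hc.symm
      · obtain ⟨a, b, hab⟩ := hnc
        exact hab (Subgroup.mem_center_iff.1 (hc ▸ Subgroup.mem_top b) a)
    obtain ⟨g, hg1, hg2⟩ := hodd
    have hres := GLTwoThree.pResidual_eq_top_of_simple hg1 hg2
    have hconj : ∀ a b : G, orderOf a = 2 → orderOf b = 2 → IsConj a b := fun a b ha hb =>
      isConj_iff.2 (S0107.result P 2 le_rfl ⟨eP⟩ hres a b ha hb)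
    have hdata : CentFour.Data P w τ := ⟨hD, hC4, hconj⟩
    rcases hdata.card_cases hGc with hN | h1
    · exact Or.inr (Or.inr (Or.inl (S0984.result hN)))
    · have hcJ := hdata.card_centralizer_J
      rw [h1, mul_one] at hcJ
      have hPC : (P : Subgroup G) = Subgroup.centralizer ({w ^ 2} : Set G) :=
        Subgroup.eq_of_le_of_card_ge hD.sylow_le (by rw [hcJ, hP8])
      have hidx : ∀ H : Subgroup G, H.index ≠ 2 := fun H hH => by
        haveI : H.Normal := Subgroup.normal_of_index_eq_two hH
        rcases (inferInstance : H.Normal).eq_bot_or_eq_top with e | e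
        · rw [e, Subgroup.index_bot] at hH; omega
        · rw [e, Subgroup.index_top] at hH; omega
      obtain ⟨-, h | h⟩ := InvChar.DihedralEightCentralizer.simple_order hidx (w ^ 2) hdata.orderOf_J P
        (fun s hs => (hD.commute_J hs).eq) ((MulEquiv.subgroupCongr hPC).symm.trans eP)
      · exact Or.inr (Or.inr (Or.inr ⟨ZMod 7, inferInstance, inferInstance, ZMod.card 7,
          S0495.result h (F := ZMod 7) (ZMod.card 7)⟩))
      · exact Or.inr (Or.inl (S0497.result h))

end Cfsg.Agent.S3280
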