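import Cfsg.Statements.S1475
import Cfsg.Agent.OddLocal.Frobenius
import Cfsg.Agent.Lib.Cores.Basic
import Cfsg.Prelude.Def_CaseTheorems

set_option autoImplicit false
open Cfsg

namespace Cfsg.Agent.S1475

universe u

open Cfsg

/-- A nontrivial finite solvable group has a nontrivial `p`-core for some prime `p`. -/
theorem exists_pCore_ne_bot {G : Type*} [Group G] [Finite G] [Group.IsSolvable G] [Nontrivial G] :
    ∃ p : ℕ, p.Prime ∧ pCore p G ≠ ⊥ := by
  classical
  obtain ⟨A, hAn, hAc, hA1⟩ : ∃ A : Subgroup G, A.Normal ∧ IsMulCommutative A ∧ A ≠ ⊥ := by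
    obtain ⟨m, hm⟩ := Group.IsSolvable.solvable (G := G)
    have hex : ∃ m, derivedSeries G m = ⊥ := ⟨m, hm⟩
    obtain ⟨k, hk⟩ : ∃ k, Nat.find hex = k + 1 := by
      refine ⟨Nat.find hex - 1, (Nat.succ_pred_eq_of_pos (Nat.pos_of_ne_zero fun h0 => ?_)).symm⟩
      have := Nat.find_spec hex
      rw [h0, derivedSeries_zero] at this
      exact top_ne_bot this
    refine ⟨derivedSeries G k, derivedSeries_normal G k, ?_, Nat.find_min hex (by omega)⟩
    have := Nat.find_spec hex
    rw [hk, derivedSeries_succ] at this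
    refine ⟨⟨fun a b => Subtype.ext ?_⟩⟩
    exact (Subgroup.mem_centralizer_iff.mp
      ((Subgroup.commutator_eq_bot_iff_le_centralizer.mp this) b.2) a a.2)
  haveI := hAn
  haveI := hAc
  obtain ⟨p, hp, hd⟩ := Nat.exists_prime_and_dvd (mt Subgroup.card_eq_one.mp hA1)
  haveI := Fact.mk hp
  obtain ⟨P⟩ : Nonempty (Sylow p A) := inferInstance
  refine ⟨p, hp, fun h => ?_⟩
  have hchar := P.characteristic_of_normal inferInstance
  haveI := hchar
  have hle : (P : Subgroup A).map A.subtype ≤ pCore p G :=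
    @Cfsg.Agent.Cores.le_pCore G _ p _ (Cfsg.Agent.Cores.normal_map_subtype A (P : Subgroup A))
      (P.2.map _)
  rw [h, le_bot_iff, Subgroup.map_eq_bot_iff_of_injective _ A.subtype_injective] at hle
  exact P.ne_bot_of_dvd_card hd hle

/-- Induction on the order. -/
theorem higman : ∀ (n : ℕ) {G : Type u} [Group G] [Finite G] [Group.IsSolvable G],
    Nat.card G = n → (∀ g : G, IsPrimePow (orderOf g) ∨ g = 1) → (Nat.card G).primeFactors.card ≤ 2 := by
  intro n
  induction n using Nat.strongRecOn with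
  | _ n ih =>
    intro G _ _ _ hn h
    rcases subsingleton_or_nontrivial G with hs | hnt
    · simp [Nat.card_of_subsingleton (1 : G)]
    obtain ⟨p, hp, hO⟩ := exists_pCore_ne_bot (G := G)
    haveI := Fact.mk hp
    set O := pCore p G with hOdef
    haveI : O.Normal := Cfsg.pCore_normal p G
    have hOp : IsPGroup p O := Cfsg.Agent.Cores.pCore_isPGroup p
    have hlt : Nat.card (G ⧸ O) < n := by
      rw [← hn, ← O.card_mul_index]
      exact lt_mul_of_one_lt_left (Nat.card_pos (α := G ⧸ O)) (O.one_lt_card_iff_ne_bot.mpr hO)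
    have hquot : (Nat.card (G ⧸ O)).primeFactors.card ≤ 2 := by
      refine ih _ hlt rfl fun g => ?_
      obtain ⟨x, rfl⟩ := QuotientGroup.mk_surjective g
      have hd : orderOf (x : G ⧸ O) ∣ orderOf x := orderOf_map_dvd (QuotientGroup.mk' O) x
      by_cases h1 : (x : G ⧸ O) = 1
      · exact Or.inr h1
      · refine Or.inl ((h x).resolve_right ?_ |>.dvd hd (orderOf_eq_one_iff.not.mpr h1))
        rintro rfl; exact h1 rfl
    obtain ⟨k, hk⟩ := IsPGroup.iff_card.mp hOp
    have hk0 : k ≠ 0 := by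
      intro h0; rw [h0, pow_zero] at hk; exact hO (Subgroup.card_eq_one.mp hk)
    have hcard : Nat.card G = p ^ k * Nat.card (G ⧸ O) := by rw [← hk]; exact O.card_mul_index.symm
    have hpf : (Nat.card G).primeFactors = insert p (Nat.card (G ⧸ O)).primeFactors := by
      rw [hcard, Nat.primeFactors_mul (pow_ne_zero _ hp.ne_zero) Nat.card_pos.ne',
        Nat.primeFactors_prime_pow hk0 hp, Finset.insert_eq]
    by_contra hgt
    push Not at hgt
    have hpnot : p ∉ (Nat.card (G ⧸ O)).primeFactors := fun hmem => by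
      rw [hpf, Finset.insert_eq_of_mem hmem] at hgt; omega
    have htwo : 1 < (Nat.card (G ⧸ O)).primeFactors.card := by
      have := Finset.card_insert_le p (Nat.card (G ⧸ O)).primeFactors
      rw [hpf] at hgt; omega
    have hpndvd : ¬ p ∣ Nat.card (G ⧸ O) := fun hd =>
      hpnot (Nat.mem_primeFactors.mpr ⟨hp, hd, Nat.card_pos.ne'⟩)
    obtain ⟨B, hB⟩ := Subgroup.exists_right_complement'_of_coprime (N := O)
      (show (Nat.card O).Coprime O.index from hk ▸ (hp.coprime_iff_not_dvd.mpr hpndvd).pow_left k)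
    have hBcard : Nat.card B = Nat.card (G ⧸ O) := hB.symm.index_eq_card.symm
    -- the centre of O
    set V : Subgroup G := (Subgroup.center O).map O.subtype with hVdef
    haveI : V.Normal := Cfsg.Agent.Cores.normal_map_subtype O (Subgroup.center O)
    haveI : IsMulCommutative V := by rw [hVdef]; exact Subgroup.map_isMulCommutative _ _
    have hV : V ≠ ⊥ := by
      haveI : Nontrivial O := (Subgroup.nontrivial_iff_ne_bot O).mpr hO
      rw [hVdef, Ne, Subgroup.map_eq_bot_iff_of_injective _ O.subtype_injective]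
      exact (hOp.bot_lt_center).ne'
    have hfixV : ∀ x ∈ B, x ≠ 1 → V ⊓ Subgroup.centralizer ({x} : Set G) = ⊥ := by
      intro x hx hx1
      rw [eq_bot_iff]
      rintro v ⟨hvV, hvx⟩
      rw [Subgroup.mem_bot]
      by_contra hv1
      have hcomm : Commute v x := Subgroup.mem_centralizer_singleton_iff.mp hvx
      obtain ⟨j, hj⟩ : ∃ j, orderOf v = p ^ j := by
        obtain ⟨j, hj⟩ := IsPGroup.iff_orderOf.mp hOp ⟨v, Subgroup.map_subtype_le _ hvV⟩
        exact ⟨j, by rwa [Subgroup.orderOf_mk] at hj⟩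
      have hj0 : j ≠ 0 := fun h0 => hv1 (orderOf_eq_one_iff.mp (by rw [hj, h0, pow_zero]))
      have hox : ¬ p ∣ orderOf x := fun hd =>
        hpndvd (hBcard ▸ hd.trans (Subgroup.orderOf_dvd_natCard B hx))
      have hco : (orderOf v).Coprime (orderOf x) := hj ▸ (hp.coprime_iff_not_dvd.mpr hox).pow_left j
      have hprod := hcomm.orderOf_mul_eq_mul_orderOf_of_coprime hco
      rcases h (v * x) with hpp | h1
      · rw [hprod] at hpp
        obtain ⟨r, m, hr, hm, he⟩ := (isPrimePow_nat_iff _).mp hpp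
        have e1 : p = r := (Nat.prime_dvd_prime_iff_eq hp hr).mp (hp.dvd_of_dvd_pow
          (he ▸ Dvd.dvd.mul_right (hj ▸ dvd_pow_self p hj0) _))
        obtain ⟨s, hs, hsd⟩ := Nat.exists_prime_and_dvd (mt orderOf_eq_one_iff.mp hx1)
        have e2 : s = r := (Nat.prime_dvd_prime_iff_eq hs hr).mp (hs.dvd_of_dvd_pow
          (he ▸ hsd.mul_left _))
        exact hox (e1 ▸ e2 ▸ hsd)
      · rw [h1, orderOf_one] at hprod
        exact hv1 (orderOf_eq_one_iff.mp (Nat.eq_one_of_mul_eq_one_right hprod.symm))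
    haveI : Nontrivial B := Finite.one_lt_card_iff_nontrivial.mp (by
      rw [hBcard]
      by_contra hle
      have : Nat.card (G ⧸ O) = 1 := le_antisymm (not_lt.mp hle) Nat.card_pos
      rw [this] at htwo; simp at htwo)
    obtain ⟨q, hq, hQ⟩ := exists_pCore_ne_bot (G := B)
    haveI := Fact.mk hq
    set E : Subgroup G := (pCore q B).map B.subtype with hEdef
    have hE : E ≠ ⊥ := by rwa [hEdef, Ne, Subgroup.map_eq_bot_iff_of_injective _ B.subtype_injective]
    have hEq : IsPGroup q E := (Cfsg.Agent.Cores.pCore_isPGroup (G := B) q).map _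
    obtain ⟨r, hr, hrq⟩ := Finset.exists_mem_ne htwo q
    obtain ⟨hr, hrd, -⟩ := Nat.mem_primeFactors.mp hr
    haveI := Fact.mk hr
    obtain ⟨y, hy⟩ := exists_prime_orderOf_dvd_card' (G := B) r (hBcard ▸ hrd)
    set R : Subgroup G := Subgroup.zpowers (y : G) with hRdef
    have hy' : orderOf (y : G) = r := by rw [Subgroup.orderOf_coe]; exact hy
    have hRB : R ≤ B := Subgroup.zpowers_le.mpr y.2
    have hBE : B ≤ Subgroup.normalizer (E : Set G) := by
      refine le_trans ?_ (Subgroup.le_normalizer_map B.subtype)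
      rw [Subgroup.normalizer_eq_top, ← MonoidHom.range_eq_map, Subgroup.range_subtype]
    have hER : ∀ x ∈ R, x ≠ 1 → E ⊓ Subgroup.centralizer ({x} : Set G) = ⊥ := by
      intro x hx hx1
      have hox : orderOf x = r := ((Nat.dvd_prime hr).mp (by
        rw [← hy']; exact (Subgroup.orderOf_dvd_natCard R hx).trans (Nat.card_zpowers _).dvd)).resolve_left
          (mt orderOf_eq_one_iff.mp hx1)
      rw [eq_bot_iff]
      rintro e ⟨he, hex⟩
      rw [Subgroup.mem_bot]
      by_contra he1
      have hcomm : Commute e x := Subgroup.mem_centralizer_singleton_iff.mp hex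
      obtain ⟨j, hj⟩ := IsPGroup.iff_orderOf.mp hEq ⟨e, he⟩
      rw [Subgroup.orderOf_mk] at hj
      have hj0 : j ≠ 0 := fun h0 => he1 (orderOf_eq_one_iff.mp (by rw [hj, h0, pow_zero]))
      have hprod := hcomm.orderOf_mul_eq_mul_orderOf_of_coprime (by
        rw [hj, hox]; exact ((Nat.coprime_primes hq hr).mpr (Ne.symm hrq)).pow_left j)
      rcases h (e * x) with hpp | h1
      · rw [hprod, hj, hox] at hpp
        obtain ⟨s, m, hs, hm, hse⟩ := (isPrimePow_nat_iff _).mp hpp
        have e1 : q = s := (Nat.prime_dvd_prime_iff_eq hq hs).mp (hq.dvd_of_dvd_pow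
          (hse ▸ (dvd_pow_self q hj0).mul_right _))
        have e2 : r = s := (Nat.prime_dvd_prime_iff_eq hr hs).mp (hr.dvd_of_dvd_pow
          (hse ▸ dvd_mul_left r _))
        exact hrq (e2.trans e1.symm)
      · rw [h1, orderOf_one, hox] at hprod
        exact hr.ne_one (Nat.eq_one_of_mul_eq_one_left hprod.symm)
    have hR : R ≠ ⊥ := by
      rw [hRdef, Ne, Subgroup.zpowers_eq_bot, ← orderOf_eq_one_iff, hy']; exact hr.ne_one
    have hEB : E ≤ B := Subgroup.map_subtype_le _
    obtain ⟨v, hv, hv1⟩ := (Subgroup.bot_or_exists_ne_one V).resolve_left hV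
    have hpow := OddLocal.Frobenius.pow_card_eq_one (V := V) (E := E) (R := R)
      Subgroup.le_normalizer_of_normal Subgroup.le_normalizer_of_normal (hRB.trans hBE) hR hE hER
      (fun x hx => hfixV x (hEB hx)) (fun x hx => hfixV x (hRB hx)) hv
    obtain ⟨j, hj⟩ := IsPGroup.iff_orderOf.mp hOp ⟨v, Subgroup.map_subtype_le _ hv⟩
    rw [Subgroup.orderOf_mk] at hj
    obtain ⟨i, hi⟩ := IsPGroup.iff_card.mp hEq
    have hqp : q ≠ p := by
      intro hqp
      have : q ∣ Nat.card B := (dvd_pow_self q (fun h0 => hE (Subgroup.card_eq_one.mp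
        (by rw [hi, h0, pow_zero])))).trans (hi ▸ Subgroup.card_dvd_of_le hEB)
      exact hpndvd (hBcard ▸ hqp ▸ this)
    apply hv1
    rw [← orderOf_eq_one_iff]
    exact Nat.eq_one_of_dvd_coprimes
      (((Nat.coprime_primes hp hq).mpr hqp.symm).pow j i) (dvd_of_eq hj)
      (hi ▸ orderOf_dvd_of_pow_eq_one hpow)



/-- Let G be a finite solvable group such that the order of every element is a prime power (1 included). Then at most two distinct primes divide the order of G. -/
theorem result {G : Type*} [Group G] [Finite G] [Group.IsSolvable G] (h : ∀ g : G, IsPrimePow (orderOf g) ∨ g = 1) :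
    (Nat.card G).primeFactors.card ≤ 2 := by
  exact higman (Nat.card G) rfl h

end Cfsg.Agent.S1475
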