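import Cfsg.Statements.S0519
import Cfsg.Agent.Lib.PGroups.UniqueSubgroup
import Cfsg.Agent.Lib.PGroups.AbelianNormal
import Cfsg.Agent.Lib.Classical.CyclicExt

set_option autoImplicit false
open Cfsg

namespace Cfsg.Agent.S0519

open Cfsg.Agent.PGroups Subgroup

variable {P : Type*} [Group P] [Finite P] {p : ℕ} [hp : Fact p.Prime]

/-- No element outside a cyclic self-centralizing normal subgroup acts as `1` modulo `p` (modulo `4` for `p = 2`). -/
theorem mem_of_exponent (hP : IsPGroup p P)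
    (hn : ∀ A : Subgroup P, A.Normal → IsMulCommutative A → IsCyclic A) {a : P} {m : ℕ}
    (hoa : orderOf a = p ^ m) (hA : (zpowers a).Normal)
    (hCA : centralizer ((zpowers a : Subgroup P) : Set P) = zpowers a)
    {x : P} {r : ℕ} (hr : x * a * x⁻¹ = a ^ r) (h1 : r % p = 1) (h2 : p = 2 → r % 4 = 1) :
    x ∈ zpowers a := by
  classical
  have hp1 := hp.out
  have hcen : ∀ w : P, w * a * w⁻¹ = a → w ∈ zpowers a := fun w hw => by
    rw [← hCA, mem_centralizer_iff]
    rintro _ ⟨k, rfl⟩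
    exact ((show Commute w a from mul_inv_eq_iff_eq_mul.1 hw).zpow_right k).eq.symm
  by_contra hxA
  -- an element with `p`-th power in `A`
  obtain ⟨n, hn'⟩ : ∃ n, x ^ p ^ n ∈ zpowers a := by
    obtain ⟨n, hn⟩ := hP x
    exact ⟨n, hn ▸ one_mem _⟩
  let i := Nat.find (⟨n, hn'⟩ : ∃ n, x ^ p ^ n ∈ zpowers a)
  have hi : x ^ p ^ i ∈ zpowers a := Nat.find_spec (⟨n, hn'⟩ : ∃ n, x ^ p ^ n ∈ zpowers a)
  have hi0 : i ≠ 0 := fun h => hxA (by simpa [h] using hi)
  set y := x ^ p ^ (i - 1) with hy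
  have hyA : y ∉ zpowers a := Nat.find_min (⟨n, hn'⟩ : ∃ n, x ^ p ^ n ∈ zpowers a) (by omega)
  have hyp : y ^ p ∈ zpowers a := by
    rw [hy, ← pow_mul, ← pow_succ, Nat.sub_add_cancel (by omega)]; exact hi
  set s := r ^ p ^ (i - 1) with hs
  have hys : y * a * y⁻¹ = a ^ s := UniqueSubgroup.pow_conj_eq hr _
  have hs1 : s % p = 1 := by rw [hs, Nat.pow_mod, h1, one_pow, Nat.mod_eq_of_lt hp1.one_lt]
  have hs2 : p = 2 → s % 4 = 1 := fun e => by
    rw [hs, Nat.pow_mod, h2 e, one_pow]
    norm_num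
  have hm : m ≠ 0 := fun h => hyA (hcen y (by
    rw [h, pow_zero, orderOf_eq_one_iff] at hoa; simp [hoa]))
  obtain ⟨u, hu, hpu⟩ := UniqueSubgroup.geom_sum_of_mod hp1 hs1 hs2
  obtain ⟨k, hk⟩ := (mem_powers_iff_mem_zpowers (x := a)).mpr hyp
  simp only at hk
  have hpk : p ∣ k := by
    by_contra hpk
    obtain ⟨l, hl⟩ := exists_pow_eq_self_of_coprime (x := a) (n := k)
      (hoa ▸ ((hp1.coprime_iff_not_dvd.2 hpk).pow_left m).symm)
    refine hyA (hcen y ?_)
    have e : y * a ^ k * y⁻¹ = a ^ k := by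
      rw [hk, ← pow_succ', pow_succ, mul_inv_cancel_right]
    rw [← hl, ← conj_pow, e]
  obtain ⟨k', rfl⟩ := hpk
  have hpm : 0 < p ^ m := pow_pos hp1.pos m
  obtain ⟨v, hv⟩ := Nat.exists_mul_mod_eq_one_of_coprime
    (n := u) (k := p ^ m) ((hp1.coprime_iff_not_dvd.2 hpu).pow_left m).symm
    (Nat.one_lt_pow hm hp1.one_lt)
  set j := v * ((p ^ m - 1) * k') with hj
  set z := a ^ j * y with hz
  have hzA : z ∉ zpowers a := fun h => hyA (by
    have := mul_mem (inv_mem (pow_mem (mem_zpowers a) j)) h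
    rwa [hz, inv_mul_cancel_left] at this)
  have hzp : z ^ p = 1 := by
    rw [hz, UniqueSubgroup.mul_pow_eq hys, hu, ← hk, ← pow_add, ← orderOf_dvd_iff_pow_eq_one, hoa]
    have hd : p ^ m ∣ j * u + k' := by
      rw [Nat.dvd_iff_mod_eq_zero, hj, show v * ((p ^ m - 1) * k') * u + k' =
        (u * v) * ((p ^ m - 1) * k') + k' by ring, Nat.add_mod, Nat.mul_mod, hv.2, one_mul,
        Nat.mod_mod, ← Nat.add_mod, show (p ^ m - 1) * k' + k' = p ^ m * k' by
          rw [← Nat.succ_mul, Nat.succ_eq_add_one, Nat.sub_add_cancel hpm], Nat.mul_mod_right]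
    rw [show j * (p * u) + p * k' = (j * u + k') * p by ring]
    exact hd.trans (Dvd.intro _ rfl)
  have hzs : z * a * z⁻¹ = a ^ s := by
    rw [hz, ← hys, show a ^ j * y * a * (a ^ j * y)⁻¹ = a ^ j * (y * a * y⁻¹) * (a ^ j)⁻¹ by group, hys,
      (Commute.pow_pow_self a j s).eq, mul_inv_cancel_right]
  set t := a ^ p ^ (m - 1) with ht
  have htp : t ^ p = 1 := by
    rw [ht, ← pow_mul, ← pow_succ, Nat.sub_add_cancel (by omega), ← hoa, pow_orderOf_eq_one]
  have ht1 : t ≠ 1 := by
    intro h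
    have h3 := orderOf_dvd_of_pow_eq_one h
    rw [hoa, Nat.pow_dvd_pow_iff_le_right hp1.one_lt] at h3
    omega
  have htg : ∀ g : P, g * t * g⁻¹ = t := by
    intro g
    obtain ⟨e, he⟩ := (mem_powers_iff_mem_zpowers (x := a)).mpr (hA.conj_mem a (mem_zpowers a) g)
    simp only at he
    have he1 : e % p = 1 := by
      obtain ⟨w, hw⟩ := hP g
      have h3 := UniqueSubgroup.pow_conj_eq he.symm (p ^ w)
      rw [hw, one_mul, inv_one, mul_one] at h3
      have h4 : e ^ p ^ w ≡ 1 [MOD p ^ m] := by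
        rw [← hoa, ← pow_eq_pow_iff_modEq, pow_one]; exact h3.symm
      have h5 : e ^ p ^ w ≡ 1 [MOD p] := h4.of_dvd (dvd_pow_self p hm)
      have h6 : ((e : ZMod p)) ^ p ^ w = 1 := by
        have := (ZMod.natCast_eq_natCast_iff _ _ _).2 h5
        simpa using this
      rw [ZMod.pow_card_pow] at h6
      have h7 := (ZMod.natCast_eq_natCast_iff' e 1 p).1 (by simpa using h6)
      rwa [Nat.mod_eq_of_lt hp1.one_lt] at h7
    rw [ht, ← conj_pow, ← he, ← pow_mul, mul_comm, pow_mul, ← ht]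
    conv_lhs => rw [← Nat.mod_add_div e p, he1, pow_add, pow_one, pow_mul, htp, one_pow, mul_one]
  have hzt : Commute z t := mul_inv_eq_iff_eq_mul.1 (htg z)
  set E := closure ({t, z} : Set P) with hE
  have hzg : ∀ g : P, g * z * g⁻¹ ∈ E := by
    intro g
    set c := g * z * g⁻¹ * z⁻¹ with hc
    have hcA : c ∈ zpowers a := by
      obtain ⟨e, he⟩ := (mem_powers_iff_mem_zpowers (x := a)).mpr (hA.conj_mem a (mem_zpowers a) g)
      simp only at he
      have h8 : g * z * a * (g * z)⁻¹ = z * g * a * (z * g)⁻¹ := by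
        rw [show g * z * a * (g * z)⁻¹ = g * (z * a * z⁻¹) * g⁻¹ by group,
          show z * g * a * (z * g)⁻¹ = z * (g * a * g⁻¹) * z⁻¹ by group,
          hzs, ← he, UniqueSubgroup.conj_pow_eq he.symm, UniqueSubgroup.conj_pow_eq hzs, mul_comm]
      have hd : (z * g)⁻¹ * (g * z) ∈ zpowers a := by
        refine hcen _ ?_
        calc (z * g)⁻¹ * (g * z) * a * ((z * g)⁻¹ * (g * z))⁻¹
            = (z * g)⁻¹ * (g * z * a * (g * z)⁻¹) * (z * g) := by group
          _ = a := by rw [h8]; group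
      have h9 := hA.conj_mem _ hd (z * g)
      rwa [show z * g * ((z * g)⁻¹ * (g * z)) * (z * g)⁻¹ = c by rw [hc]; group] at h9
    obtain ⟨d, hd⟩ := (mem_powers_iff_mem_zpowers (x := a)).mpr hcA
    simp only at hd
    have hgz : g * z * g⁻¹ = a ^ d * z := by rw [hd, hc, inv_mul_cancel_right]
    have h9 : (a ^ d * z) ^ p = 1 := by rw [← hgz, conj_pow, hzp, mul_one, mul_inv_cancel]
    rw [UniqueSubgroup.mul_pow_eq hzs, hu, hzp, mul_one, ← orderOf_dvd_iff_pow_eq_one, hoa] at h9
    have h10 : p ^ (m - 1) ∣ d := by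
      rw [show p ^ m = p * p ^ (m - 1) by rw [← pow_succ', Nat.sub_add_cancel (by omega)],
        show d * (p * u) = p * (d * u) by ring] at h9
      exact ((hp1.coprime_iff_not_dvd.2 hpu).pow_left (m - 1)).dvd_of_dvd_mul_right
        (Nat.dvd_of_mul_dvd_mul_left hp1.pos h9)
    obtain ⟨d', rfl⟩ := h10
    rw [hgz, pow_mul, ← ht]
    exact mul_mem (pow_mem (subset_closure (by simp)) _) (subset_closure (by simp))
  have hEn : E.Normal := by
    refine ⟨fun w hw g => ?_⟩
    have : E ≤ E.comap (MulAut.conj g).toMonoidHom := by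
      refine (closure_le _).2 ?_
      rintro w (rfl | rfl)
      · show g * t * g⁻¹ ∈ E
        rw [htg]; exact subset_closure (by simp)
      · exact hzg g
    exact this hw
  have hEab : IsMulCommutative E := isMulCommutative_closure (by
    rintro v (rfl | rfl) w (rfl | rfl)
    exacts [rfl, hzt.eq.symm, hzt.eq, rfl])
  have hEc := hn E hEn hEab
  obtain ⟨g, hg⟩ := hEc.exists_generator
  have hz1 : z ≠ 1 := fun h => hzA (h ▸ one_mem _)
  refine hzA ?_
  obtain ⟨l, hl⟩ : (⟨z, subset_closure (by simp)⟩ : E) ∈ zpowers (⟨t, subset_closure (by simp)⟩ : E) := by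
    have := Fintype.ofFinite E
    set zE : E := ⟨z, subset_closure (by simp)⟩
    set tE : E := ⟨t, subset_closure (by simp)⟩
    by_contra hnot
    have hotE : orderOf tE = p := by rw [Subgroup.orderOf_mk, orderOf_eq_prime htp ht1]
    have h3 := IsCyclic.card_pow_eq_one_le (α := E) hp1.pos
    have hsub : insert zE (zpowers tE : Set E).toFinset ⊆
        Finset.univ.filter (fun w : E => w ^ p = 1) := by
      intro w hw
      rw [Finset.mem_filter]
      refine ⟨Finset.mem_univ _, ?_⟩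
      rcases Finset.mem_insert.1 hw with rfl | hw
      · exact Subtype.ext hzp
      · rw [Set.mem_toFinset, SetLike.mem_coe] at hw
        exact orderOf_dvd_iff_pow_eq_one.1 ((orderOf_dvd_of_mem_zpowers hw).trans hotE.dvd)
    have h4 := (Finset.card_le_card hsub).trans h3
    rw [Finset.card_insert_of_notMem (by simpa using hnot), Set.toFinset_card,
      ← Nat.card_eq_fintype_card, SetLike.coe_sort_coe, Nat.card_zpowers, hotE] at h4
    omega
  have hl' : t ^ l = z := by simpa using congrArg Subtype.val hl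
  rw [← hl']
  exact zpow_mem (pow_mem (mem_zpowers a) _) _

/-- Let P be a finite p-group in which every abelian normal subgroup is cyclic, but which has a non-cyclic abelian
subgroup. Then p = 2 and P is generalized quaternion, dihedral of order at least 16, or quasi-dihedral. -/
theorem result {P : Type*} [Group P] [Finite P] (p : ℕ) [Fact p.Prime]
    (hP : IsPGroup p P) (hn : ∀ A : Subgroup P, A.Normal → IsMulCommutative A → IsCyclic A)
    (hm : ∃ B : Subgroup P, IsMulCommutative B ∧ ¬ IsCyclic B) :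
    p = 2 ∧ ((∃ n : ℕ, Nonempty (P ≃* QuaternionGroup n)) ∨ (∃ n : ℕ, 8 ≤ n ∧ Nonempty (P ≃* DihedralGroup n)) ∨
      Cfsg.IsQuasiDihedral P) := by
  classical
  have hp1 : p.Prime := Fact.out
  obtain ⟨B, hBab, hBnc⟩ := hm
  obtain ⟨A, -, ⟨hAn, hAab⟩, hAmax⟩ := Set.Finite.exists_le_maximal
    (Set.toFinite {A : Subgroup P | A.Normal ∧ IsMulCommutative A}) (a := ⊥)
    ⟨inferInstance, inferInstance⟩
  have hCA := AbelianNormal.centralizer_eq_self hP A (fun B hB hBa hle => le_antisymm (hAmax ⟨hB, hBa⟩ hle) hle)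
  obtain ⟨a, rfl⟩ := (Subgroup.isCyclic_iff_exists_zpowers_eq_top A).mp (hn A hAn hAab)
  obtain ⟨m, hm⟩ := IsPGroup.iff_orderOf.1 hP a
  have hex : ∀ g : P, ∃ r : ℕ, g * a * g⁻¹ = a ^ r := fun g => by
    obtain ⟨e, he⟩ := (mem_powers_iff_mem_zpowers (x := a)).mpr (hAn.conj_mem a (mem_zpowers a) g)
    exact ⟨e, he.symm⟩
  choose r hr using hex
  have hne : zpowers a ≠ ⊤ := by
    intro h
    have : IsCyclic P := ⟨⟨a, fun x => h.ge (mem_top x)⟩⟩
    exact hBnc inferInstance
  obtain ⟨x, hx⟩ : ∃ x, x ∉ zpowers a := by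
    by_contra h
    push Not at h
    exact hne ((eq_top_iff' _).2 h)
  have hm0 : m ≠ 0 := by
    intro h0
    rw [h0, pow_zero, orderOf_eq_one_iff] at hm
    apply hx
    rw [← hCA, hm, zpowers_one_eq_bot, mem_centralizer_iff]
    intro w hw
    rw [mem_bot.1 hw, one_mul, mul_one]
  have hr1 : ∀ g, r g % p = 1 := by
    intro g
    obtain ⟨w, hw⟩ := hP g
    have h3 := UniqueSubgroup.pow_conj_eq (hr g) (p ^ w)
    rw [hw, one_mul, inv_one, mul_one] at h3
    have h4 : r g ^ p ^ w ≡ 1 [MOD p ^ m] := by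
      rw [← hm, ← pow_eq_pow_iff_modEq, pow_one]; exact h3.symm
    have h5 : r g ^ p ^ w ≡ 1 [MOD p] := h4.of_dvd (dvd_pow_self p hm0)
    have h6 : ((r g : ZMod p)) ^ p ^ w = 1 := by
      have := (ZMod.natCast_eq_natCast_iff _ _ _).2 h5
      simpa using this
    rw [ZMod.pow_card_pow] at h6
    have h7 := (ZMod.natCast_eq_natCast_iff' (r g) 1 p).1 (by simpa using h6)
    rwa [Nat.mod_eq_of_lt hp1.one_lt] at h7
  have hp2 : p = 2 := by
    by_contra hp2
    exact hx (mem_of_exponent hP hn hm hAn hCA (hr x) (hr1 x) fun e => absurd e hp2)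
  subst hp2
  refine ⟨rfl, ?_⟩
  have hr4 : ∀ g ∉ zpowers a, r g % 4 = 3 := by
    intro g hg
    by_contra h
    have := hr1 g
    exact hg (mem_of_exponent hP hn hm hAn hCA (hr g) this fun _ => by omega)
  have hmul : ∀ g ∉ zpowers a, ∀ h ∉ zpowers a, g * h ∈ zpowers a := by
    intro g hg h hh
    refine mem_of_exponent hP hn hm hAn hCA (r := r h * r g) ?_ ?_ fun _ => ?_
    · calc g * h * a * (g * h)⁻¹ = g * (h * a * h⁻¹) * g⁻¹ := by group
        _ = a ^ (r h * r g) := by rw [hr h, UniqueSubgroup.conj_pow_eq (hr g)]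
    · rw [Nat.mul_mod, hr1, hr1]
    · rw [Nat.mul_mod, hr4 g hg, hr4 h hh]
  have hxx : x * x ∈ zpowers a := hmul x hx x hx
  have hxi : x⁻¹ ∉ zpowers a := fun h => hx (inv_mem_iff.1 h)
  have hindex : Nat.card P = 2 * 2 ^ m := by
    have hidx : (zpowers a).index = 2 := by
      refine Subgroup.index_eq_two_iff.2 ⟨x, fun g => ?_⟩
      by_cases hg : g ∈ zpowers a
      · exact Or.inr ⟨hg, fun h => hx ((mul_mem_cancel_left hg).1 h)⟩
      · exact Or.inl ⟨hmul g hg x hx, hg⟩
    rw [← (zpowers a).card_mul_index, hidx, Nat.card_zpowers, hm, mul_comm]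
  -- the action of `x`
  set s := r x with hs
  have hs4 := hr4 x hx
  have hm2 : 2 ≤ m := by
    by_contra h
    have hm1 : m = 1 := by omega
    have h3 : a ^ s = a := by
      rw [← pow_mod_orderOf, hm, hm1, pow_one, show s % 2 = 1 by omega, pow_one]
    apply hx
    rw [← hCA, mem_centralizer_iff]
    rintro _ ⟨k, rfl⟩
    exact ((show Commute x a from mul_inv_eq_iff_eq_mul.1 ((hr x).trans h3)).zpow_right k).eq.symm
  have hs2 : (2 : ℕ) ^ m ∣ (s + 1) * (s - 1) := by
    have h3 : a ^ (s * s) = a := by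
      rw [← UniqueSubgroup.conj_pow_eq (hr x), ← hr x]
      obtain ⟨l, hl⟩ := hxx
      have hl' : a ^ l = x * x := hl
      rw [show x * (x * a * x⁻¹) * x⁻¹ = x * x * a * (x * x)⁻¹ by group, ← hl']; group
    have h4 : 2 ^ m ∣ s * s - 1 := by
      rw [← hm]
      refine (Nat.modEq_iff_dvd' (Nat.mul_pos (by omega) (by omega) : 1 ≤ s * s)).1 ?_
      rw [← pow_eq_pow_iff_modEq, pow_one, h3]
    rw [show (s + 1) * (s - 1) = s * s - 1 by
      rw [← Nat.sq_sub_sq, one_pow, sq]]
    exact h4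
  have hsh : 2 ^ (m - 1) ∣ s + 1 := by
    rw [show m = m - 1 + 1 by omega, pow_succ] at hs2
    obtain ⟨o, ho⟩ : ∃ o, s - 1 = 2 * o := ⟨(s - 1) / 2, by omega⟩
    rw [ho, show (s + 1) * (2 * o) = (s + 1) * o * 2 by ring] at hs2
    refine ((Nat.Coprime.pow_left (m - 1) (Nat.coprime_two_left.2 ?_))).dvd_of_dvd_mul_right
      (Nat.dvd_of_mul_dvd_mul_right two_pos hs2)
    rw [Nat.odd_iff]; omega
  obtain ⟨k, hk⟩ := (mem_powers_iff_mem_zpowers (x := a)).mpr hxx
  simp only at hk
  have hfix : 2 ^ m ∣ k * (s - 1) := by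
    have h5 : a ^ (k * s) = a ^ k := by
      rw [← UniqueSubgroup.conj_pow_eq (hr x), hk]; group
    rw [← hm, Nat.mul_sub_one]
    exact (Nat.modEq_iff_dvd' (Nat.le_mul_of_pos_right _ (by omega))).1
      (pow_eq_pow_iff_modEq.1 h5.symm)
  have hkh : 2 ^ (m - 1) ∣ k := by
    rw [show m = m - 1 + 1 by omega, pow_succ] at hfix
    obtain ⟨o, ho⟩ : ∃ o, s - 1 = 2 * o := ⟨(s - 1) / 2, by omega⟩
    rw [ho, show k * (2 * o) = k * o * 2 by ring] at hfix
    refine ((Nat.Coprime.pow_left (m - 1) (Nat.coprime_two_left.2 ?_))).dvd_of_dvd_mul_right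
      (Nat.dvd_of_mul_dvd_mul_right two_pos hfix)
    rw [Nat.odd_iff]; omega
  obtain ⟨k', rfl⟩ := hkh
  set t := a ^ 2 ^ (m - 1) with ht
  have htt : t * t = 1 := by
    rw [ht, ← pow_add, show 2 ^ (m - 1) + 2 ^ (m - 1) = 2 ^ m by
      rw [← two_mul, ← pow_succ', Nat.sub_add_cancel (by omega)], ← hm, pow_orderOf_eq_one]
  have hxk : x * x = t ^ k' := by rw [ht, ← pow_mul, hk]
  by_cases hinv : 2 ^ m ∣ s + 1
  · have hxy : x * a * x⁻¹ = a⁻¹ := by
      rw [hr x]
      refine eq_inv_of_mul_eq_one_left ?_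
      rw [← pow_succ, ← orderOf_dvd_iff_pow_eq_one, hm]
      exact hinv
    rcases Nat.even_or_odd k' with ⟨l, hl⟩ | ⟨l, hl⟩
    · have hx2 : x * x = 1 := by rw [hxk, hl, pow_add, ← (Commute.refl t).mul_pow, htt, one_pow]
      obtain ⟨f, hf, -, -⟩ := Cfsg.Agent.Classical.CyclicExt.exists_dihedral_hom a x hm hx2 hxy hx
      have : NeZero (2 ^ m) := ⟨by positivity⟩
      have e : DihedralGroup (2 ^ m) ≃* P := MulEquiv.ofBijective f
        ((Nat.bijective_iff_injective_and_card f).2 ⟨hf, by rw [DihedralGroup.nat_card, hindex]⟩)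
      refine Or.inr (Or.inl ⟨2 ^ m, ?_, ⟨e.symm⟩⟩)
      by_contra h8
      have hm2' : m = 2 := by
        by_contra hne
        exact h8 (le_trans (by norm_num : 8 ≤ 2 ^ 3) (Nat.pow_le_pow_right two_pos (by omega)))
      subst hm2'
      -- the normal four-group of the dihedral group of order eight
      set E := closure ({a ^ 2, x} : Set P) with hE
      have hax : Commute x (a ^ 2) := by
        refine mul_inv_eq_iff_eq_mul.1 ?_
        rw [← conj_pow, hxy, inv_pow, inv_eq_iff_mul_eq_one, ← pow_add,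
          ← orderOf_dvd_iff_pow_eq_one, hm]
        norm_num
      have hE2 : 4 ≤ Nat.card E ∧ ∀ w ∈ E, w * w = 1 := by
        have hcm : IsMulCommutative E := isMulCommutative_closure (by
          rintro v (rfl | rfl) w (rfl | rfl)
          exacts [rfl, hax.eq.symm, hax.eq, rfl])
        refine ⟨?_, fun w hw => ?_⟩
        · have : ({1, a ^ 2, x, a ^ 2 * x} : Set P) ⊆ E := by
            have h1 : a ^ 2 ∈ E := subset_closure (by simp)
            have h2 : x ∈ E := subset_closure (by simp)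
            rintro w (rfl | rfl | rfl | rfl)
            exacts [one_mem _, h1, h2, mul_mem h1 h2]
          have h3 := Set.ncard_le_ncard this (Set.toFinite _)
          have ha2 : a ^ 2 ≠ 1 := fun h => by
            have := Nat.le_of_dvd two_pos (orderOf_dvd_of_pow_eq_one h); rw [hm] at this; norm_num at this
          have hxa : x ≠ a ^ 2 := fun h => hx (h ▸ pow_mem (mem_zpowers a) 2)
          have hx1 : x ≠ 1 := fun h => hx (h ▸ one_mem _)
          have hax1 : a ^ 2 * x ≠ 1 := fun h => hx ((mul_mem_cancel_left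
            (pow_mem (mem_zpowers a) 2)).1 (h ▸ one_mem _))
          rw [Set.ncard_insert_of_notMem, Set.ncard_insert_of_notMem, Set.ncard_pair] at h3
          · exact h3.trans_eq (Nat.card_coe_set_eq (E : Set P)).symm
          · intro h; exact ha2 (mul_eq_right.1 h.symm)
          · simp only [Set.mem_insert_iff, Set.mem_singleton_iff, not_or]
            exact ⟨fun h => hxa h.symm, fun h => hx1 (mul_eq_left.1 h.symm)⟩
          · simp only [Set.mem_insert_iff, Set.mem_singleton_iff, not_or]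
            exact ⟨ha2.symm, hx1.symm, hax1.symm⟩
        · induction hw using closure_induction with
          | mem w hw =>
            rcases hw with rfl | rfl
            · rw [← pow_add, ← orderOf_dvd_iff_pow_eq_one, hm]; norm_num
            · exact hx2
          | one => simp
          | mul v w hv hw h1 h2 =>
            have hc : v * w = w * v := congrArg Subtype.val (hcm.is_comm.comm ⟨v, hv⟩ ⟨w, hw⟩)
            calc v * w * (v * w) = v * (w * v) * w := by group
              _ = (v * v) * (w * w) := by rw [← hc]; group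
              _ = 1 := by rw [h1, h2, one_mul]
          | inv w _ h => rw [← mul_inv_rev, h, inv_one]
      have hEn : E.Normal := by
        refine normal_of_index_eq_minFac_card ?_
        have h4 := E.card_mul_index
        rw [hindex] at h4
        have hpos : E.index ≠ 0 := E.index_ne_zero_of_finite
        have h5 : E.index ≤ 2 := by nlinarith [hE2.1]
        have h6 : E.index ≠ 1 := fun h => by
          rw [index_eq_one] at h
          have := orderOf_dvd_of_pow_eq_one (show a ^ 2 = 1 by rw [sq]; exact hE2.2 a (h ▸ mem_top a))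
          rw [hm] at this; norm_num at this
        rw [hindex, show (2 * 2 ^ 2 : ℕ) = 2 ^ 3 by norm_num, Nat.Prime.pow_minFac Nat.prime_two (by norm_num)]
        omega
      have hcyc := hn E hEn (isMulCommutative_closure (by
          rintro v (rfl | rfl) w (rfl | rfl)
          exacts [rfl, hax.eq.symm, hax.eq, rfl]))
      obtain ⟨g, hg⟩ := IsCyclic.exists_ofOrder_eq_natCard (α := E)
      have : orderOf g ∣ 2 := orderOf_dvd_of_pow_eq_one (by
        rw [sq]; exact Subtype.ext (hE2.2 g g.2))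
      have := Nat.le_of_dvd two_pos this
      omega
    · have hx2 : x * x = t := by rw [hxk, hl, pow_succ, pow_mul, sq, htt, one_pow, one_mul]
      have hy : x * x = a ^ 2 ^ (m - 1) := hx2
      obtain ⟨f, hf⟩ := Cfsg.Agent.Classical.CyclicExt.exists_quaternion_hom (n := 2 ^ (m - 1)) a x
        (by rw [hm, ← pow_succ', Nat.sub_add_cancel (by omega)]) hy hxy hx
      have : NeZero (2 ^ (m - 1)) := ⟨by positivity⟩
      refine Or.inl ⟨2 ^ (m - 1), ⟨(MulEquiv.ofBijective f
        ((Nat.bijective_iff_injective_and_card f).2 ⟨hf, ?_⟩)).symm⟩⟩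
      rw [Nat.card_eq_fintype_card, QuaternionGroup.card, hindex,
        show (4 : ℕ) = 2 * 2 by norm_num, mul_assoc, ← pow_succ', Nat.sub_add_cancel (by omega)]
  · obtain ⟨o, ho⟩ := hsh
    have hoodd : o % 2 = 1 := by
      rcases Nat.mod_two_eq_zero_or_one o with h | h
      · refine absurd ?_ hinv
        rw [ho, show m = m - 1 + 1 by omega, pow_succ, show m - 1 + 1 - 1 = m - 1 by omega]
        exact Nat.mul_dvd_mul_left _ (Nat.dvd_of_mod_eq_zero h)
      · exact h
    have hm3 : 3 ≤ m := by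
      by_contra h
      have hm2' : m = 2 := by omega
      refine hinv ?_
      rw [hm2']
      norm_num
      omega
    have hrel : x * a * x⁻¹ = a ^ (2 ^ (m - 1) - 1) := by
      rw [hr x, pow_eq_pow_iff_modEq, hm]
      have hpos := Nat.two_pow_pos (m - 1)
      refine Nat.ModEq.add_right_cancel' 1 ?_
      rw [Nat.sub_add_cancel hpos, ho]
      obtain ⟨f, hf⟩ : ∃ f, o = 2 * f + 1 := ⟨o / 2, by omega⟩
      rw [hf, show 2 ^ (m - 1) * (2 * f + 1) = 2 ^ (m - 1) + 2 ^ m * f by
        rw [show (2 : ℕ) ^ m = 2 ^ (m - 1) * 2 by rw [← pow_succ, Nat.sub_add_cancel (by omega)]]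
        ring]
      exact ((Nat.modEq_iff_dvd' (Nat.le_add_right _ _)).2 (by
        rw [Nat.add_sub_cancel_left]; exact Dvd.intro _ rfl)).symm
    refine Or.inr (Or.inr ⟨m, hm3, by rw [hindex, pow_succ'], ?_⟩)
    rcases Nat.even_or_odd k' with ⟨l, hl⟩ | ⟨l, hl⟩
    · have hx2 : x * x = 1 := by rw [hxk, hl, pow_add, ← (Commute.refl t).mul_pow, htt, one_pow]
      exact ⟨a, x, hm, orderOf_eq_prime (by rw [sq, hx2]) (fun h => hx (h ▸ one_mem _)), hrel⟩
    · have hx2 : x * x = t := by rw [hxk, hl, pow_succ, pow_mul, sq, htt, one_pow, one_mul]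
      refine ⟨a, a * x, hm, orderOf_eq_prime ?_ (fun h => hx ((mul_mem_cancel_left (mem_zpowers a)).1
        (h ▸ one_mem _))), ?_⟩
      · have h6 := mul_inv_eq_iff_eq_mul.1 hrel
        calc (a * x) ^ 2 = a * (x * a) * x := by rw [sq]; group
          _ = a * a ^ (2 ^ (m - 1) - 1) * (x * x) := by rw [h6]; group
          _ = t * t := by
              rw [← pow_succ', Nat.sub_add_cancel (Nat.two_pow_pos _), hx2]
          _ = 1 := htt
      · calc a * x * a * (a * x)⁻¹ = a * (x * a * x⁻¹) * a⁻¹ := by group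
          _ = _ := by rw [hrel]; group

end Cfsg.Agent.S0519
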