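import Cfsg.Statements.S3380
import Cfsg.Agent.Solvable.Basics
import Cfsg.Agent.Lib.PGroups.UniqueSubgroup
import Cfsg.Agent.S0519

set_option autoImplicit false
open Cfsg

namespace Cfsg.Agent.S3380

section aux

/-- Two subgroups of a finite cyclic group of equal order are equal. -/
theorem cyclic_subgroup_ext {C : Type*} [Group C] [Finite C] [IsCyclic C] (S T : Subgroup C)
    (h : Nat.card S = Nat.card T) : S = T := by
  classical
  have := Fintype.ofFinite C
  have key : ∀ U : Subgroup C, (U : Set C).toFinset =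
      Finset.univ.filter (fun a : C => a ^ Nat.card U = 1) := by
    intro U
    refine Finset.eq_of_subset_of_card_le (fun a ha => ?_) ?_
    · simp only [Set.mem_toFinset, SetLike.mem_coe] at ha
      simp only [Finset.mem_filter, Finset.mem_univ, true_and]
      exact congrArg Subtype.val (pow_card_eq_one' (G := U) (x := ⟨a, ha⟩))
    · refine le_trans (IsCyclic.card_pow_eq_one_le Nat.card_pos) ?_
      rw [Set.toFinset_card, Nat.card_eq_fintype_card]
      simp
  ext x
  have h1 := Finset.ext_iff.mp (key S) x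
  have h2 := Finset.ext_iff.mp (key T) x
  simp only [Set.mem_toFinset, SetLike.mem_coe, Finset.mem_filter, Finset.mem_univ, true_and] at h1 h2
  rw [h1, h2, h]

variable {G : Type*} [Group G] [Finite G] {p : ℕ} [hp : Fact p.Prime]

/-- A `p`-group with no noncyclic abelian subgroup has a unique subgroup of order `p`. -/
theorem unique_order_p (hG : IsPGroup p G)
    (h : ∀ B : Subgroup G, IsMulCommutative B → IsCyclic B) :
    ∀ H K : Subgroup G, Nat.card H = p → Nat.card K = p → H = K := by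
  intro H K hH hK
  have : Nontrivial G := by
    by_contra hn
    rw [not_nontrivial_iff_subsingleton] at hn
    have : Nat.card H = 1 := Nat.card_unique
    exact hp.out.ne_one (hH ▸ this)
  have := hG.center_nontrivial
  obtain ⟨z, hz⟩ := exists_prime_orderOf_dvd_card' (G := Subgroup.center G) p <| by
    obtain ⟨n, hn0, hn⟩ := (hG.to_subgroup _).nontrivial_iff_card.mp this
    exact hn ▸ dvd_pow_self p (by omega)
  have hz' : orderOf (z : G) = p := by rw [Subgroup.orderOf_coe, hz]
  suffices key : ∀ L : Subgroup G, Nat.card L = p → L = Subgroup.zpowers (z : G) by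
    rw [key H hH, key K hK]
  intro L hL
  have hB : IsMulCommutative ↥(L ⊔ Subgroup.zpowers (z : G)) := by
    rw [← Subgroup.le_centralizer_iff_isMulCommutative]
    have h1 : Subgroup.zpowers (z : G) ≤ Subgroup.center G := Subgroup.zpowers_le.mpr z.2
    have h2 : IsCyclic L := isCyclic_of_prime_card hL
    have h3 : L ≤ Subgroup.centralizer (L : Set G) :=
      Subgroup.le_centralizer_iff_isMulCommutative.mpr inferInstance
    refine sup_le ?_ (h1.trans (Subgroup.center_le_centralizer _))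
    rw [Subgroup.le_centralizer_iff]
    exact sup_le h3 (h1.trans (Subgroup.center_le_centralizer _))
  have := h _ hB
  have hle : L ≤ L ⊔ Subgroup.zpowers (z : G) := le_sup_left
  have hle' : Subgroup.zpowers (z : G) ≤ L ⊔ Subgroup.zpowers (z : G) := le_sup_right
  have e : L.subgroupOf (L ⊔ Subgroup.zpowers (z : G)) =
      (Subgroup.zpowers (z : G)).subgroupOf (L ⊔ Subgroup.zpowers (z : G)) := by
    refine cyclic_subgroup_ext _ _ ?_
    rw [Nat.card_congr (Subgroup.subgroupOfEquivOfLe hle).toEquiv,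
      Nat.card_congr (Subgroup.subgroupOfEquivOfLe hle').toEquiv, hL, Nat.card_zpowers, hz']
  have := congrArg (Subgroup.map (L ⊔ Subgroup.zpowers (z : G)).subtype) e
  rwa [Subgroup.map_subgroupOf_eq_of_le hle, Subgroup.map_subgroupOf_eq_of_le hle'] at this

/-- In a noncyclic abelian normal subgroup: a central element `z` of order `p` and an element
`a` of order `p` outside `⟨z⟩` whose conjugates lie in `a⟨z⟩`. -/
theorem exists_pair (hG : IsPGroup p G) {A : Subgroup G} (hA : A.Normal)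
    (hab : IsMulCommutative A) (hnc : ¬ IsCyclic A) :
    ∃ z a : G, orderOf z = p ∧ z ∈ Subgroup.center G ∧ orderOf a = p ∧
      a ∉ Subgroup.zpowers z ∧ ∀ g : G, g * a * g⁻¹ * a⁻¹ ∈ Subgroup.zpowers z := by
  have := hG.isNilpotent
  have hAne : A ≠ ⊥ := by rintro rfl; exact hnc inferInstance
  have hne := Solvable.Basics.inf_center_ne_bot (N := A) hAne
  have : Nontrivial ↥(A ⊓ Subgroup.center G) := (Subgroup.nontrivial_iff_ne_bot _).mpr hne
  obtain ⟨z, hz⟩ := exists_prime_orderOf_dvd_card' (G := ↥(A ⊓ Subgroup.center G)) p <| by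
    obtain ⟨n, hn0, hn⟩ := (hG.to_subgroup _).nontrivial_iff_card.mp this
    exact hn ▸ dvd_pow_self p (by omega)
  have hz' : orderOf (z : G) = p := by rw [Subgroup.orderOf_coe, hz]
  have hzA : (z : G) ∈ A := z.2.1
  have hzC : (z : G) ∈ Subgroup.center G := z.2.2
  let E : Subgroup G :=
    { carrier := {x | x ∈ A ∧ x ^ p = 1}
      one_mem' := ⟨one_mem A, one_pow p⟩
      mul_mem' := fun {x y} hx hy => ⟨mul_mem hx.1 hy.1, by
        rw [Commute.mul_pow (setLike_mul_comm hx.1 hy.1), hx.2, hy.2, one_mul]⟩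
      inv_mem' := fun {x} hx => ⟨inv_mem hx.1, by rw [inv_pow, hx.2, inv_one]⟩ }
  have hEn : E.Normal := ⟨fun x hx g => ⟨hA.conj_mem x hx.1 g, by rw [conj_pow, hx.2]; group⟩⟩
  have hout : ∃ x ∈ E, x ∉ Subgroup.zpowers (z : G) := by
    by_contra hall
    push Not at hall
    refine hnc (PGroups.UniqueSubgroup.isCyclic_of_abelian (hG.to_subgroup A) ?_)
    intro x y hx hy hx1
    have hxz : (x : G) ∈ Subgroup.zpowers (z : G) := hall _ ⟨x.2, by have := congrArg Subtype.val hx; rw [SubmonoidClass.coe_pow] at this; exact this⟩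
    have hyz : (y : G) ∈ Subgroup.zpowers (z : G) := hall _ ⟨y.2, by have := congrArg Subtype.val hy; rw [SubmonoidClass.coe_pow] at this; exact this⟩
    have hle : Subgroup.zpowers (x : G) = Subgroup.zpowers (z : G) :=
      Subgroup.eq_of_le_of_card_ge (Subgroup.zpowers_le.mpr hxz) (by
        rw [Nat.card_zpowers, Nat.card_zpowers, hz', Subgroup.orderOf_coe, orderOf_eq_prime hx hx1])
    rw [← hle] at hyz
    obtain ⟨k, hk⟩ := hyz
    exact ⟨k, Subtype.ext (by simpa using hk)⟩
  have hzn : (Subgroup.zpowers (z : G)).Normal := ⟨fun x hx g => by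
    obtain ⟨k, rfl⟩ := hx
    have : Commute g ((z : G) ^ k) :=
      Commute.zpow_right (Subgroup.mem_center_iff.mp hzC g) k
    rw [this.eq, mul_inv_cancel_right]
    exact ⟨k, rfl⟩⟩
  let φ := QuotientGroup.mk' (Subgroup.zpowers (z : G))
  have hEφ : E.map φ ≠ ⊥ := by
    obtain ⟨x, hx, hxz⟩ := hout
    intro h0
    exact hxz ((QuotientGroup.eq_one_iff x).mp
      ((Subgroup.eq_bot_iff_forall _).mp h0 _ ⟨x, hx, rfl⟩))
  have := hEn.map φ (QuotientGroup.mk'_surjective _)
  have hne2 := Solvable.Basics.inf_center_ne_bot hEφ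
  obtain ⟨b, ⟨⟨a, ha, rfl⟩, hbc⟩, hb1⟩ := (Subgroup.ne_bot_iff_exists_ne_one.mp hne2 |>.imp
    fun b hb => (⟨b.2, hb⟩ : _ ∧ _)) |> fun ⟨b, h1, h2⟩ => (⟨b.1, h1, fun e => h2 (Subtype.ext e)⟩ :
      ∃ b, b ∈ E.map φ ⊓ Subgroup.center (G ⧸ Subgroup.zpowers (z : G)) ∧ b ≠ 1)
  have haz : a ∉ Subgroup.zpowers (z : G) := fun h => hb1 ((QuotientGroup.eq_one_iff a).mpr h)
  refine ⟨z, a, hz', hzC, orderOf_eq_prime ha.2 fun h => haz (h ▸ one_mem _), haz, fun g => ?_⟩
  rw [← QuotientGroup.eq_one_iff]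
  have := Subgroup.mem_center_iff.mp hbc (φ g)
  simp only [QuotientGroup.mk_mul, QuotientGroup.mk_inv]
  change φ g * φ a * (φ g)⁻¹ * (φ a)⁻¹ = 1
  rw [this]; group

theorem exists_noncyclic_abelian_normal (hG : IsPGroup p G)
    (hnc : ¬ IsCyclic G) (hnq : ∀ n : ℕ, ¬ Nonempty (G ≃* QuaternionGroup n))
    (hnd : ∀ n : ℕ, ¬ Nonempty (G ≃* DihedralGroup n)) (hnsd : ¬ Cfsg.IsQuasiDihedral G) :
    ∃ A : Subgroup G, A.Normal ∧ IsMulCommutative A ∧ ¬ IsCyclic A := by
  by_contra hcon
  push Not at hcon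
  by_cases hB : ∃ B : Subgroup G, IsMulCommutative B ∧ ¬ IsCyclic B
  · rcases (Cfsg.Agent.S0519.result p hG hcon hB).2 with ⟨n, h⟩ | ⟨n, -, h⟩ | h
    · exact hnq n h
    · exact hnd n h
    · exact hnsd h
  · push Not at hB
    rcases PGroups.UniqueSubgroup.isCyclic_or_quaternion hG (unique_order_p hG hB) with h | ⟨-, n, h⟩
    · exact hnc h
    · exact hnq _ h

end aux

section rep

variable {q : ℕ} [hq : Fact q.Prime] {V : Type*} [AddCommGroup V] [Module (ZMod q) V]
  {G : Type*} [Group G] (ρ : G →* (V ≃ₗ[ZMod q] V))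

/-- The fixed space of an element. -/
def fixedSpace (x : G) : Submodule (ZMod q) V :=
  LinearMap.ker ((ρ x : V →ₗ[ZMod q] V) - LinearMap.id)

theorem mem_fixedSpace {x : G} {v : V} : v ∈ fixedSpace ρ x ↔ ρ x v = v := by
  simp [fixedSpace, sub_eq_zero]

theorem rho_mul_apply (x y : G) (v : V) : ρ (x * y) v = ρ x (ρ y v) := by
  rw [map_mul]; rfl

theorem rho_inv_apply (x : G) (v : V) : ρ x⁻¹ (ρ x v) = v := by
  rw [← rho_mul_apply, inv_mul_cancel, map_one]; rfl

theorem map_fixedSpace (g x : G) :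
    (fixedSpace ρ x).map (ρ g : V →ₗ[ZMod q] V) = fixedSpace ρ (g * x * g⁻¹) := by
  ext w
  rw [Submodule.mem_map, mem_fixedSpace]
  constructor
  · rintro ⟨v, hv, rfl⟩
    rw [mem_fixedSpace] at hv
    change ρ (g * x * g⁻¹) (ρ g v) = ρ g v
    rw [rho_mul_apply, rho_inv_apply, rho_mul_apply, hv]
  · intro hw
    refine ⟨ρ g⁻¹ w, ?_, ?_⟩
    · rw [mem_fixedSpace, ← rho_mul_apply]
      calc ρ (x * g⁻¹) w = ρ g⁻¹ (ρ (g * x * g⁻¹) w) := by
            rw [← rho_mul_apply]; congr 2; group
        _ = ρ g⁻¹ w := by rw [hw]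
    · change ρ g (ρ g⁻¹ w) = w
      rw [← rho_mul_apply, mul_inv_cancel, map_one]; rfl

theorem central_fixedSpace_eq_bot (hρ : Function.Injective ρ)
    (hirr : ∀ W : Submodule (ZMod q) V, (∀ g : G, ∀ w ∈ W, ρ g w ∈ W) → W = ⊥ ∨ W = ⊤)
    {x : G} (hx : x ∈ Subgroup.center G) (hx1 : x ≠ 1) : fixedSpace ρ x = ⊥ := by
  have hinv : ∀ g : G, ∀ w ∈ fixedSpace ρ x, ρ g w ∈ fixedSpace ρ x := fun g w hw => by
    rw [mem_fixedSpace] at hw ⊢
    rw [← rho_mul_apply, ← Subgroup.mem_center_iff.mp hx g, rho_mul_apply, hw]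
  rcases hirr (fixedSpace ρ x) hinv with h | h
  · exact h
  · exfalso
    refine hx1 (hρ (LinearEquiv.ext fun v => ?_))
    have : v ∈ fixedSpace ρ x := h ▸ Submodule.mem_top
    rw [map_one]
    exact (mem_fixedSpace ρ).mp this

/-- The sum over the powers of `x` lands in the fixed space of `x`. -/
theorem sum_pow_mem {p : ℕ} {x : G} (hx : x ^ p = 1) (v : V) :
    ∑ k ∈ Finset.range p, ρ (x ^ k) v ∈ fixedSpace ρ x := by
  rw [mem_fixedSpace, map_sum]
  have h1 := Finset.sum_range_succ' (fun k => ρ (x ^ k) v) p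
  have h2 := Finset.sum_range_succ (fun k => ρ (x ^ k) v) p
  rw [h2, hx, pow_zero] at h1
  have h3 := add_right_cancel h1
  rw [h3]
  exact Finset.sum_congr rfl fun k _ => by rw [← rho_mul_apply, ← pow_succ']

variable [Finite G] {p : ℕ} [hp : Fact p.Prime]

/-- The averaging projection on the fixed space of `x`. -/
noncomputable def proj (p : ℕ) (x : G) : V →ₗ[ZMod q] V :=
  (p : ZMod q)⁻¹ • ∑ k ∈ Finset.range p, (ρ (x ^ k) : V →ₗ[ZMod q] V)

omit [Finite G] hp in
theorem proj_apply (x : G) (v : V) :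
    proj ρ p x v = (p : ZMod q)⁻¹ • ∑ k ∈ Finset.range p, ρ (x ^ k) v := by
  simp [proj]

omit [Finite G] in
theorem proj_of_mem (hpq : (p : ZMod q) ≠ 0) {x : G} {v : V} (hv : v ∈ fixedSpace ρ x) :
    proj ρ p x v = v := by
  rw [mem_fixedSpace] at hv
  have h : ∀ k, ρ (x ^ k) v = v := by
    intro k
    induction k with
    | zero => rw [pow_zero, map_one]; rfl
    | succ k ih => rw [pow_succ, rho_mul_apply, hv, ih]
  rw [proj_apply, Finset.sum_congr rfl fun k _ => h k, Finset.sum_const, Finset.card_range,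
    ← Nat.cast_smul_eq_nsmul (ZMod q), smul_smul, inv_mul_cancel₀ hpq, one_smul]

end rep

/-- Let a finite p-group G act faithfully and irreducibly on a non-trivial finite vector space V over the field with q elements (q prime), and suppose G is not cyclic, generalized quaternion, dihedral or semidihedral. Then G has a subgroup H of index p and V is the direct sum of p subspaces, each invariant under H, on none of which H acts faithfully, and which every element of G outside H permutes in a single p-cycle. -/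
theorem result
    (q : ℕ) [Fact q.Prime] {V : Type*} [AddCommGroup V] [Module (ZMod q) V] [Finite V] [Nontrivial V]
    {G : Type*} [Group G] [Finite G] (p : ℕ) [Fact p.Prime] (hG : IsPGroup p G)
    (ρ : G →* (V ≃ₗ[ZMod q] V)) (hρ : Function.Injective ρ)
    (hirr : ∀ W : Submodule (ZMod q) V, (∀ g : G, ∀ w ∈ W, ρ g w ∈ W) → W = ⊥ ∨ W = ⊤)
    (hnc : ¬ IsCyclic G) (hnq : ∀ n : ℕ, ¬ Nonempty (G ≃* QuaternionGroup n))
    (hnd : ∀ n : ℕ, ¬ Nonempty (G ≃* DihedralGroup n)) (hnsd : ¬ Cfsg.IsQuasiDihedral G) :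
    ∃ (H : Subgroup G) (W : Fin p → Submodule (ZMod q) V), H.index = p ∧
      iSup W = ⊤ ∧ iSupIndep W ∧
      (∀ h ∈ H, ∀ i, ∀ w ∈ W i, ρ h w ∈ W i) ∧
      (∀ i, ∃ h ∈ H, h ≠ 1 ∧ ∀ w ∈ W i, ρ h w = w) ∧
      ∀ g : G, g ∉ H → ∃ σ : Equiv.Perm (Fin p), orderOf σ = p ∧ ∀ i, (W i).map (ρ g : V →ₗ[ZMod q] V) = W (σ i) := by
  have hVne : ∃ v : V, v ≠ 0 := exists_ne 0
  have hpq : (p : ZMod q) ≠ 0 := by
    intro h0
    rw [ZMod.natCast_eq_zero_iff] at h0
    have hqp : q = p := (Nat.prime_dvd_prime_iff_eq Fact.out Fact.out).mp h0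
    letI : MulAction G V :=
      { smul := fun g v => ρ g v
        one_smul := fun v => by change ρ 1 v = v; rw [map_one]; rfl
        mul_smul := fun g h v => rho_mul_apply ρ g h v }
    have hdvd : p ∣ Nat.card V := by
      rw [Module.natCard_eq_pow_finrank (K := ZMod q), Nat.card_zmod]
      refine (dvd_of_eq hqp.symm).trans ?_
      exact dvd_pow_self q (Module.finrank_pos (R := ZMod q) (M := V)).ne'
    obtain ⟨b, hb, hb0⟩ := hG.exists_fixed_point_of_prime_dvd_card_of_fixed_point V hdvd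
      (a := (0 : V)) (fun g => map_zero (ρ g))
    let W0 : Submodule (ZMod q) V :=
      { carrier := {v | ∀ g : G, ρ g v = v}
        zero_mem' := fun g => map_zero _
        add_mem' := fun hx hy g => by rw [map_add, hx g, hy g]
        smul_mem' := fun c x hx g => by rw [map_smul, hx g] }
    rcases hirr W0 (fun g w hw g' => by rw [hw g, hw g']) with h | h
    · exact hb0 ((Submodule.mem_bot (ZMod q)).mp (h ▸ (show b ∈ W0 from hb))).symm
    · have : Subsingleton G := subsingleton_of_forall_eq 1 fun g => hρ (LinearEquiv.ext fun v => by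
        rw [map_one]; exact (show v ∈ W0 from h ▸ Submodule.mem_top) g)
      exact hnc inferInstance
  obtain ⟨A, hA, hAab, hAnc⟩ := exists_noncyclic_abelian_normal hG hnc hnq hnd hnsd
  obtain ⟨z, a, hz, hzC, ha, haz, hconj⟩ := exists_pair hG hA hAab hAnc
  have hzcomm : ∀ g : G, Commute g z := fun g => Subgroup.mem_center_iff.mp hzC g
  have hzp : z ^ p = 1 := hz ▸ pow_orderOf_eq_one z
  have hap : a ^ p = 1 := ha ▸ pow_orderOf_eq_one a
  let x : Fin p → G := fun i => a * z ^ (i : ℕ)
  have hxp : ∀ i, x i ^ p = 1 := fun i => by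
    rw [((hzcomm a).pow_right _).mul_pow, hap, one_mul, ← pow_mul, mul_comm, pow_mul, hzp, one_pow]
  have hx1 : ∀ i, x i ≠ 1 := fun i h => haz (by
    rw [show a = (z ^ (i : ℕ))⁻¹ from eq_inv_of_mul_eq_one_left h]
    exact inv_mem (pow_mem (Subgroup.mem_zpowers z) _))
  let W : Fin p → Submodule (ZMod q) V := fun i => fixedSpace ρ (x i)
  -- the averaged projections sum to the identity
  have hsum : ∀ v : V, ∑ i, proj ρ p (x i) v = v := by
    intro v
    simp only [proj_apply]
    rw [← Finset.smul_sum, Finset.sum_comm, Finset.sum_eq_single_of_mem 0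
      (Finset.mem_range.mpr (Fact.out : p.Prime).pos)]
    · simp only [pow_zero, map_one, LinearEquiv.coe_one, id_eq, Finset.sum_const,
        Finset.card_univ, Fintype.card_fin]
      rw [← Nat.cast_smul_eq_nsmul (ZMod q), smul_smul, inv_mul_cancel₀ hpq, one_smul]
    · intro k hk hk0
      have hzk : z ^ k ≠ 1 := pow_ne_one_of_lt_orderOf hk0 (by rw [hz]; exact Finset.mem_range.mp hk)
      have hbot := central_fixedSpace_eq_bot ρ hρ hirr (pow_mem hzC k) hzk
      have hmem := sum_pow_mem ρ (x := z ^ k) (p := p)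
        (by rw [← pow_mul, mul_comm, pow_mul, hzp, one_pow]) v
      rw [hbot, Submodule.mem_bot] at hmem
      calc ∑ i : Fin p, ρ (x i ^ k) v = ρ (a ^ k) (∑ i : Fin p, ρ ((z ^ k) ^ (i : ℕ)) v) := by
            rw [map_sum]
            refine Finset.sum_congr rfl fun i _ => ?_
            rw [← rho_mul_apply, ((hzcomm a).pow_right _).mul_pow, ← pow_mul, ← pow_mul, mul_comm k]
        _ = 0 := by
          rw [Fin.sum_univ_eq_sum_range (fun i => ρ ((z ^ k) ^ i) v), hmem, map_zero]
  have hproj : ∀ i j : Fin p, i ≠ j → ∀ v ∈ W j, proj ρ p (x i) v = 0 := by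
    intro i j hij v hv
    have hv' := (mem_fixedSpace ρ).mp hv
    obtain ⟨d, hd, hd1⟩ : ∃ d : ℕ, x i = z ^ d * x j ∧ z ^ d ≠ 1 := by
      refine ⟨(i : ℕ) + p - j, ?_, ?_⟩
      · change a * z ^ (i : ℕ) = z ^ ((i : ℕ) + p - j) * (a * z ^ (j : ℕ))
        rw [← mul_assoc, ← ((hzcomm a).pow_right ((i : ℕ) + p - j)).eq, mul_assoc, ← pow_add,
          show (i : ℕ) + p - j + j = i + p by have := j.2; omega, pow_add, hzp, mul_one]
      · intro h
        have h1 : p ∣ (i : ℕ) + p - j := (dvd_of_eq hz.symm).trans (orderOf_dvd_of_pow_eq_one h)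
        have := i.2; have := j.2
        have hne : (i : ℕ) ≠ j := fun e => hij (Fin.ext e)
        obtain ⟨c, hc⟩ := h1
        rcases Nat.lt_trichotomy c 1 with hc1 | rfl | hc1
        · obtain rfl : c = 0 := by omega
          omega
        · omega
        · have : p * 2 ≤ p * c := Nat.mul_le_mul_left p hc1
          omega
    have hk : ∀ k, ρ (x i ^ k) v = ρ ((z ^ d) ^ k) v := by
      intro k
      induction k with
      | zero => simp
      | succ k ih =>
        have hc : Commute (z ^ d) (x i ^ k) := ((hzcomm (x i ^ k)).pow_right d).symm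
        rw [pow_succ, pow_succ' (z ^ d), rho_mul_apply, rho_mul_apply (y := (z ^ d) ^ k), hd,
          rho_mul_apply ρ (z ^ d) (x j), hv', ← hd, ← rho_mul_apply, hc.eq.symm, rho_mul_apply, ih]
    have hmem := sum_pow_mem ρ (x := z ^ d) (p := p)
      (by rw [← pow_mul, mul_comm, pow_mul, hzp, one_pow]) v
    rw [central_fixedSpace_eq_bot ρ hρ hirr (pow_mem hzC d) hd1, Submodule.mem_bot] at hmem
    rw [proj_apply, Finset.sum_congr rfl fun k _ => hk k, hmem, smul_zero]
  have htop : iSup W = ⊤ := by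
    refine eq_top_iff.mpr fun v _ => ?_
    rw [← hsum v]
    refine Submodule.sum_mem _ fun i _ => Submodule.mem_iSup_of_mem i ?_
    rw [proj_apply]
    exact Submodule.smul_mem _ _ (sum_pow_mem ρ (hxp i) v)
  have hind : iSupIndep W := by
    intro j
    rw [Submodule.disjoint_def]
    intro v hvj hv
    have h1 : (⨆ (i : Fin p) (_ : i ≠ j), W i) ≤ LinearMap.ker (proj ρ p (x j)) :=
      iSup₂_le fun i hij u hu => LinearMap.mem_ker.mpr (hproj j i hij.symm u hu)
    rw [← proj_of_mem ρ hpq hvj]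
    exact LinearMap.mem_ker.mp (h1 hv)
  let H : Subgroup G := Subgroup.centralizer {a}
  have hH : ∀ g : G, g ∈ H ↔ g * a = a * g := fun g => by
    exact Subgroup.mem_centralizer_singleton_iff
  -- the commutator map
  let φ : G →* Subgroup.zpowers z := MonoidHom.mk' (fun g => ⟨g * a * g⁻¹ * a⁻¹, hconj g⟩) fun g h => by
    apply Subtype.ext
    change g * h * a * (g * h)⁻¹ * a⁻¹ = (g * a * g⁻¹ * a⁻¹) * (h * a * h⁻¹ * a⁻¹)
    obtain ⟨k, hk⟩ := hconj h
    have hk' : h * a * h⁻¹ = z ^ k * a := by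
      rw [show z ^ k = h * a * h⁻¹ * a⁻¹ from hk]; group
    have hc : ∀ y : G, Commute y (z ^ k) := fun y => (hzcomm y).zpow_right k
    calc g * h * a * (g * h)⁻¹ * a⁻¹ = g * (h * a * h⁻¹) * g⁻¹ * a⁻¹ := by group
      _ = g * z ^ k * a * g⁻¹ * a⁻¹ := by rw [hk']; group
      _ = z ^ k * g * a * g⁻¹ * a⁻¹ := by rw [(hc g).eq]
      _ = z ^ k * (g * a * g⁻¹ * a⁻¹) := by group
      _ = (g * a * g⁻¹ * a⁻¹) * z ^ k := ((hc _).eq).symm
      _ = _ := by rw [show z ^ k = h * a * h⁻¹ * a⁻¹ from hk]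
  have hker : φ.ker = H := by
    ext g
    rw [MonoidHom.mem_ker, hH, Subtype.ext_iff]
    change g * a * g⁻¹ * a⁻¹ = 1 ↔ g * a = a * g
    rw [mul_inv_eq_one, mul_inv_eq_iff_eq_mul]
  have hnotcentral : φ.ker ≠ ⊤ := by
    intro htop'
    have hac : a ∈ Subgroup.center G := Subgroup.mem_center_iff.mpr fun g =>
      (hH g).mp (hker ▸ htop' ▸ Subgroup.mem_top g)
    have hbot : ∀ i, W i = ⊥ := fun i =>
      central_fixedSpace_eq_bot ρ hρ hirr (mul_mem hac (pow_mem hzC _)) (hx1 i)
    obtain ⟨v, hv⟩ := hVne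
    have : v ∈ iSup W := htop ▸ Submodule.mem_top
    rw [iSup_eq_bot.mpr hbot, Submodule.mem_bot] at this
    exact hv this
  have hidx : H.index = p := by
    rw [← hker, Subgroup.index_ker]
    have hd : Nat.card φ.range ∣ p := by
      rw [← hz, ← Nat.card_zpowers]; exact Subgroup.card_subgroup_dvd_card _
    rcases (Nat.dvd_prime Fact.out).mp hd with h | h
    · exfalso
      apply hnotcentral
      rw [Subgroup.eq_top_iff']
      intro g
      have := Subgroup.card_eq_one.mp h
      exact MonoidHom.mem_ker.mpr ((Subgroup.eq_bot_iff_forall _).mp this _ ⟨g, rfl⟩)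
    · exact h
  refine ⟨H, W, hidx, htop, hind, ?_, ?_, ?_⟩
  · intro h hh i w hw
    have e : h * x i * h⁻¹ = x i := by
      have h1 : Commute h a := (hH h).mp hh
      rw [(Commute.mul_right h1 ((hzcomm h).pow_right _)).eq, mul_inv_cancel_right]
    have h2 := map_fixedSpace ρ h (x i)
    rw [e] at h2
    change ρ h w ∈ fixedSpace ρ (x i)
    rw [← h2]
    exact Submodule.mem_map_of_mem hw
  · intro i
    refine ⟨x i, ?_, hx1 i, fun w hw => (mem_fixedSpace ρ).mp hw⟩
    rw [hH]
    exact (Commute.mul_left (Commute.refl a) ((hzcomm a).pow_right _).symm).eq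
  · intro g hg
    obtain ⟨c, hc⟩ := mem_powers_iff_mem_zpowers.mpr (hconj g)
    change z ^ c = g * a * g⁻¹ * a⁻¹ at hc
    have hp' : p.Prime := Fact.out
    have : NeZero p := ⟨hp'.ne_zero⟩
    let c' : Fin p := ⟨c % p, Nat.mod_lt _ hp'.pos⟩
    refine ⟨Equiv.addRight c', ?_, fun i => ?_⟩
    · have hc0 : c' ≠ 0 := by
        intro h0
        have h1 : c % p = 0 := by simpa [c', Fin.ext_iff] using h0
        apply hg
        rw [← hker, MonoidHom.mem_ker, Subtype.ext_iff]
        change g * a * g⁻¹ * a⁻¹ = 1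
        rw [← hc, ← Nat.div_add_mod c p, h1, add_zero, pow_mul, hzp, one_pow]
      refine orderOf_eq_prime ?_ ?_
      · have hpw : ∀ (m : ℕ) (i : Fin p), (((Equiv.addRight c') ^ m) i : Fin p).val =
            ((i : ℕ) + m * (c' : ℕ)) % p := by
          intro m
          induction m with
          | zero => intro i; simp [Nat.mod_eq_of_lt i.2]
          | succ m ih =>
            intro i
            rw [pow_succ, Equiv.Perm.mul_apply, ih (Equiv.addRight c' i), Equiv.coe_addRight,
              Fin.val_add, Nat.mod_add_mod, Nat.succ_mul]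
            congr 1
            omega
        refine Equiv.ext fun i => Fin.ext ?_
        rw [hpw, Equiv.Perm.one_apply, Nat.add_mul_mod_self_left]
        exact Nat.mod_eq_of_lt i.2
      · intro h
        exact hc0 (by simpa using Equiv.congr_fun h 0)
    · change (fixedSpace ρ (x i)).map _ = fixedSpace ρ (x ((Equiv.addRight c') i))
      rw [map_fixedSpace]
      congr 1
      change g * (a * z ^ (i : ℕ)) * g⁻¹ = a * z ^ ((i + c' : Fin p) : ℕ)
      have h3 : z ^ ((i + c' : Fin p) : ℕ) = z ^ ((i : ℕ) + c) := by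
        have h4 : ∀ m : ℕ, z ^ (m % p) = z ^ m := fun m => by
          have := pow_mod_orderOf z m
          rwa [hz] at this
        rw [Fin.val_add, h4, pow_add, pow_add, h4]
      rw [h3, pow_add, ← mul_assoc g a, mul_assoc (g * a), ← ((hzcomm g⁻¹).pow_right (i : ℕ)).eq,
        ← mul_assoc, show g * a * g⁻¹ = z ^ c * a by rw [hc]; group,
        ← ((hzcomm a).pow_right c).eq, mul_assoc, ← pow_add, ← pow_add, add_comm c]


end Cfsg.Agent.S3380
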