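import Cfsg.Statements.S1160
import Cfsg.Agent.Lib.Involutions.HalfTransitive.OddP

-- import your own Cfsg.Agent.* helpers here

set_option autoImplicit false
open Cfsg

namespace Cfsg.Agent.S1160

/-- Let `p ≠ 2` be prime and `P` a finite `p`-group acting faithfully by additive automorphisms on a finite elementary abelian `q`-group `E` (`q` prime), such that `|P_a|` is the same for all `a ≠ 0`. Then `P` is cyclic and every non-identity element of `P` fixes only `0`. -/
theorem result {P E : Type*} [Group P] [Finite P]
    [AddCommGroup E] [Finite E] [DistribMulAction P E] [FaithfulSMul P E]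
    {p q : ℕ} [Fact p.Prime] (hp2 : p ≠ 2) (hP : IsPGroup p P) (hq : q.Prime) (hE : ∀ e : E, q • e = 0)
    (hconst : ∀ a b : E, a ≠ 0 → b ≠ 0 →
      Nat.card (MulAction.stabilizer P a) = Nat.card (MulAction.stabilizer P b)) :
    IsCyclic P ∧ ∀ g : P, g ≠ 1 → ∀ a : E, g • a = a → a = 0 := by
  by_cases hpq : p = q
  · subst hpq
    by_cases hne : ∃ x : E, x ≠ 0
    · have hcard : p ∣ Nat.card E := by
        obtain ⟨x, hx⟩ := hne
        rw [← addOrderOf_eq_prime (hE x) hx]
        exact addOrderOf_dvd_natCard x
      obtain ⟨a, ha, ha0⟩ := hP.exists_fixed_point_of_prime_dvd_card_of_fixed_point E hcard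
        (a := 0) (fun g => smul_zero g)
      have hall : ∀ (g : P) (b : E), g • b = b := by
        intro g b
        by_cases hb : b = 0
        · rw [hb, smul_zero]
        have htop : MulAction.stabilizer P b = ⊤ := by
          refine Subgroup.eq_top_of_card_eq _ ?_
          rw [hconst b a hb ha0.symm, show MulAction.stabilizer P a = ⊤ from
            Subgroup.eq_top_iff' _ |>.2 fun g => MulAction.mem_fixedPoints.1 ha g, Subgroup.card_top]
        exact (Subgroup.eq_top_iff' _).1 htop g
      have : Subsingleton P := ⟨fun g h => eq_of_smul_eq_smul fun x : E => by rw [hall, hall]⟩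
      exact ⟨inferInstance, fun g hg => absurd (Subsingleton.elim g 1) hg⟩
    · push Not at hne
      have : Subsingleton P := ⟨fun g h => eq_of_smul_eq_smul fun x : E => by
        rw [hne x, smul_zero, smul_zero]⟩
      exact ⟨inferInstance, fun g hg => absurd (Subsingleton.elim g 1) hg⟩
  · exact Cfsg.Agent.Involutions.HalfTransitive.cyclic_semiregular hP hq hpq hE hconst hp2


end Cfsg.Agent.S1160
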