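import Cfsg.Statements.S3371
import Cfsg.Agent.Lib.Components.HalfTransTwo
import Cfsg.Agent.Lib.Involutions.HalfTransitive.OddP
import Cfsg.Agent.Lib.PGroups.UniqueSubgroup
import Cfsg.Agent.S1160

set_option autoImplicit false
open Cfsg

set_option linter.all false

namespace Cfsg.Agent.S3371

open MulAction Components.HalfTrans

theorem dihedral_facts {G : Type*} [Group G] [Finite G] {z : G} (hz : z * z = 1) (hzne : z ≠ 1)
    (hzc : ∀ g : G, Commute g z)
    (hcen : ∀ c : G, (∀ g : G, Commute g c) → c * c = 1 → c ≠ 1 → c = z)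
    {n m : ℕ} (hn : n = 2 ^ m) (hm : 2 ≤ m) (e : G ≃* DihedralGroup n) :
    ∃ (C : Subgroup G) (N : Set G), IsCyclic C ∧ C.index = 2 ∧
      (∀ t ∈ N, t * t = 1 ∧ t ≠ 1 ∧ ∃ g : G, g * t * g⁻¹ = t * z) ∧
      (∀ t : G, t ∉ C → t * t = 1 → t ∈ N) ∧ N.Nonempty ∧ Nat.card N = 2 ^ m := by
  haveI : NeZero n := ⟨by rw [hn]; exact (Nat.two_pow_pos m).ne'⟩
  have hr : orderOf (e.symm (DihedralGroup.r 1)) = n := by
    rw [MulEquiv.orderOf_eq, DihedralGroup.orderOf_r_one]
  have hC : ∀ i : ZMod n, e.symm (DihedralGroup.r i) ∈ Subgroup.zpowers (e.symm (DihedralGroup.r 1)) :=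
    fun i => ⟨(i.val : ℤ), by
      show e.symm (DihedralGroup.r 1) ^ (i.val : ℤ) = _
      rw [zpow_natCast, ← map_pow, DihedralGroup.r_one_pow, ZMod.natCast_zmod_val]⟩
  refine ⟨Subgroup.zpowers (e.symm (DihedralGroup.r 1)),
    Set.range (fun i : ZMod n => e.symm (DihedralGroup.sr i)), inferInstance, ?_, ?_, ?_, ?_, ?_⟩
  · have := Subgroup.card_mul_index (Subgroup.zpowers (e.symm (DihedralGroup.r (1 : ZMod n))))
    rw [Nat.card_zpowers, hr, Nat.card_congr e.toEquiv, DihedralGroup.nat_card, mul_comm 2] at this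
    exact Nat.eq_of_mul_eq_mul_left (NeZero.pos n) this
  · rintro _ ⟨i, rfl⟩
    refine ⟨by rw [← map_mul, DihedralGroup.sr_mul_self, map_one], ?_, ?_⟩
    · simp only [ne_eq, MulEquiv.map_eq_one_iff]
      exact fun h => nomatch h
    · set j : ZMod n := ((2 ^ (m - 2) : ℕ) : ZMod n) with hj
      refine ⟨e.symm (DihedralGroup.r j), ?_⟩
      have h4 : j + j + (j + j) = 0 := by
        rw [hj, ← Nat.cast_add, ← Nat.cast_add, ← Nat.cast_zero, ZMod.natCast_eq_natCast_iff']
        rw [show 2 ^ (m - 2) + 2 ^ (m - 2) + (2 ^ (m - 2) + 2 ^ (m - 2)) = n by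
          rw [hn, show m = m - 2 + 2 by omega, pow_add, show m - 2 + 2 - 2 = m - 2 by omega]; ring]
        simp
      have hne : j + j ≠ 0 := by
        rw [hj, ← Nat.cast_add, Ne, ZMod.natCast_eq_zero_iff]
        intro hd
        have := Nat.le_of_dvd (by positivity) hd
        rw [hn, show m = m - 2 + 2 by omega, pow_add, show m - 2 + 2 - 2 = m - 2 by omega] at this
        have := Nat.two_pow_pos (m - 2)
        omega
      have hz' : z = e.symm (DihedralGroup.r (j + j)) := by
        refine (hcen _ (fun g => ?_) ?_ ?_).symm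
        · obtain ⟨x, rfl⟩ := e.symm.surjective g
          show _ * _ = _ * _
          rw [← map_mul, ← map_mul]
          congr 1
          rcases x with k | k
          · rw [DihedralGroup.r_mul_r, DihedralGroup.r_mul_r, add_comm]
          · rw [DihedralGroup.sr_mul_r, DihedralGroup.r_mul_sr]
            congr 1
            linear_combination h4
        · rw [← map_mul, DihedralGroup.r_mul_r, h4, ← DihedralGroup.one_def, map_one]
        · simp only [ne_eq, MulEquiv.map_eq_one_iff, DihedralGroup.one_def]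
          exact fun h => hne (DihedralGroup.r.inj h)
      rw [hz', ← map_inv, ← map_mul, ← map_mul, ← map_mul, DihedralGroup.inv_r, DihedralGroup.r_mul_sr,
        DihedralGroup.sr_mul_r, DihedralGroup.sr_mul_r]
      congr 2
      linear_combination -h4
  · intro t ht _
    obtain ⟨x, rfl⟩ := e.symm.surjective t
    rcases x with i | i
    · exact absurd (hC i) ht
    · exact ⟨i, rfl⟩
  · exact ⟨_, 0, rfl⟩
  · rw [Nat.card_range_of_injective (fun i k h => DihedralGroup.sr.inj (e.symm.injective h)),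
      Nat.card_zmod, hn]

theorem semidihedral_facts {G : Type*} [Group G] [Finite G] {z : G} (hz : z * z = 1)
    (hcen : ∀ c : G, (∀ g : G, Commute g c) → c * c = 1 → c ≠ 1 → c = z)
    (h : Cfsg.IsQuasiDihedral G) :
    ∃ (C : Subgroup G) (N : Set G) (m : ℕ), Nat.card G = 2 ^ (m + 2) ∧ IsCyclic C ∧ C.index = 2 ∧
      (∀ t ∈ N, t * t = 1 ∧ t ≠ 1 ∧ ∃ g : G, g * t * g⁻¹ = t * z) ∧
      (∀ t : G, t ∉ C → t * t = 1 → t ∈ N) ∧ N.Nonempty ∧ Nat.card N = 2 ^ m := by
  obtain ⟨n, hn, hcard, x, y, hx, hy, hxy⟩ := h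
  obtain ⟨k, rfl⟩ : ∃ k, n = k + 3 := ⟨n - 3, by omega⟩
  have e0 : k + 3 - 1 = k + 2 := by omega
  rw [e0] at hxy
  set M : ℕ := 2 ^ (k + 2) with hM
  have hM2 : 2 * M = 2 ^ (k + 3) := by rw [hM]; ring
  have hMpos : 4 ≤ M := by
    rw [hM]; calc 4 = 2 ^ 2 := rfl
      _ ≤ _ := Nat.pow_le_pow_right (by norm_num) (by omega)
  have hxM : ∀ a b : ℤ, x ^ a = x ^ b ↔ (2 * (M : ℤ)) ∣ b - a := by
    intro a b
    rw [zpow_eq_zpow_iff_modEq, Int.modEq_iff_dvd, hx, ← hM2]
    push_cast; rfl
  have hconj : ∀ a : ℤ, y * x ^ a * y⁻¹ = x ^ (((M : ℤ) - 1) * a) := by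
    intro a
    rw [← conj_zpow, hxy, ← zpow_natCast, ← zpow_mul]
    congr 2
    omega
  have hyy : y * y = 1 := by rw [← sq, ← hy, pow_orderOf_eq_one]
  have hyx : ∀ a : ℤ, y * x ^ a = x ^ (((M : ℤ) - 1) * a) * y := fun a => by
    rw [← hconj, inv_mul_cancel_right]
  have hyC : y ∉ Subgroup.zpowers x := by
    rintro ⟨a, rfl⟩
    have e1 := hconj 1
    rw [← (Commute.refl x).zpow_zpow 1 a |>.eq, mul_inv_cancel_right, hxM] at e1
    obtain ⟨c, hc⟩ := e1
    obtain ⟨M', hM'⟩ : ∃ M', M = 2 * M' := ⟨2 ^ (k + 1), by rw [hM]; ring⟩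
    rcases le_or_gt c 0 with h0 | h0
    · have : (2 * (M : ℤ)) * c ≤ 0 := Int.mul_nonpos_of_nonneg_of_nonpos (by omega) h0
      omega
    · have : 2 * (M : ℤ) * 1 ≤ 2 * M * c := Int.mul_le_mul_of_nonneg_left (by omega) (by omega)
      omega
  have hidx : (Subgroup.zpowers x).index = 2 := by
    have := Subgroup.card_mul_index (Subgroup.zpowers x)
    rw [Nat.card_zpowers, hx, hcard, pow_succ (n := k + 3)] at this
    exact Nat.eq_of_mul_eq_mul_left (Nat.two_pow_pos _) this
  have hxa : ∀ a b : ℤ, x ^ a * y * (x ^ b * y) = x ^ (a + ((M : ℤ) - 1) * b) := by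
    intro a b
    rw [mul_assoc, ← mul_assoc y, hyx, mul_assoc (x ^ _), hyy, mul_one, zpow_add]
  have hzM : x ^ (M : ℤ) = z := by
    refine hcen _ (fun g => ?_) ?_ ?_
    · by_cases hg : g ∈ Subgroup.zpowers x
      · obtain ⟨a, rfl⟩ := hg
        exact (Commute.refl x).zpow_zpow a M
      · have hm : g * y ∈ Subgroup.zpowers x := by
          rw [Subgroup.mul_mem_iff_of_index_two hidx]; tauto
        obtain ⟨a, ha⟩ := hm
        have hg' : g = x ^ a * y := by
          show g = (fun a : ℤ => x ^ a) a * y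
          rw [ha, mul_assoc, hyy, mul_one]
        have hym : Commute y (x ^ (M : ℤ)) := by
          show _ = _
          rw [hyx]
          congr 1
          rw [hxM]
          exact ⟨1 - (2 : ℤ) ^ (k + 1), by rw [hM]; push_cast; ring⟩
        rw [hg']
        exact Commute.mul_left ((Commute.refl x).zpow_zpow a M) hym
    · rw [← zpow_add, ← zpow_zero x, hxM]
      exact ⟨-1, by ring⟩
    · rw [Ne, ← zpow_zero x, hxM]
      rintro ⟨c, hc⟩
      rcases le_or_gt 0 c with h0 | h0
      · have : 0 ≤ 2 * (M : ℤ) * c := by positivity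
        omega
      · have : 2 * (M : ℤ) * c ≤ 2 * M * (-1) := Int.mul_le_mul_of_nonneg_left (by omega) (by omega)
        omega
  refine ⟨Subgroup.zpowers x, Set.range (fun i : Fin M => x ^ (2 * (i : ℕ) : ℤ) * y), k + 2,
    hcard, inferInstance, hidx, ?_, ?_, ⟨_, ⟨0, by omega⟩, rfl⟩, ?_⟩
  · rintro _ ⟨i, rfl⟩
    refine ⟨?_, ?_, ?_⟩
    · show x ^ (2 * (i : ℕ) : ℤ) * y * (x ^ (2 * (i : ℕ) : ℤ) * y) = 1
      rw [hxa, ← zpow_zero x, hxM]
      exact ⟨-((i : ℕ) : ℤ), by ring⟩
    · intro e
      exact hyC ⟨-(2 * (i : ℕ) : ℤ), by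
        show x ^ (-(2 * (i : ℕ) : ℤ)) = y
        rw [zpow_neg]; exact inv_eq_of_mul_eq_one_right e⟩
    · obtain ⟨c, hc⟩ : ∃ c : ℕ, M = 4 * c := ⟨2 ^ k, by rw [hM]; ring⟩
      refine ⟨x ^ (c * 2 : ℤ), ?_⟩
      show x ^ (c * 2 : ℤ) * (x ^ (2 * (i : ℕ) : ℤ) * y) * (x ^ (c * 2 : ℤ))⁻¹ = x ^ (2 * (i : ℕ) : ℤ) * y * z
      rw [← zpow_neg, ← hzM, mul_assoc, mul_assoc (x ^ (2 * (i : ℕ) : ℤ)), hyx, ← mul_assoc, ← mul_assoc,
        ← zpow_add, ← zpow_add, mul_assoc (x ^ (2 * (i : ℕ) : ℤ)) y, hyx, ← mul_assoc, ← zpow_add]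
      congr 1
      rw [hxM]
      have hcz : (M : ℤ) = 4 * c := by exact_mod_cast hc
      refine ⟨2 * c - 1 + (c : ℤ), ?_⟩
      rw [hcz]
      ring
  · intro t ht ht2
    have hm : t * y ∈ Subgroup.zpowers x := by
      rw [Subgroup.mul_mem_iff_of_index_two hidx]; tauto
    obtain ⟨a, ha⟩ := hm
    have ht' : t = x ^ a * y := by
      show t = (fun a : ℤ => x ^ a) a * y
      rw [ha, mul_assoc, hyy, mul_one]
    rw [ht', hxa, ← zpow_zero x, hxM] at ht2
    obtain ⟨c, hc⟩ := ht2
    have hev : (2 : ℤ) ∣ a := by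
      by_contra ho
      obtain ⟨b, rfl⟩ : ∃ b, a = 2 * b + 1 := ⟨a / 2, by omega⟩
      have e : (M : ℤ) = 2 * (-(c) - b) * M := by linear_combination (-1 : ℤ) * hc
      have hMne : (M : ℤ) ≠ 0 := by omega
      have e' : (1 : ℤ) = 2 * (-(c) - b) := mul_right_cancel₀ hMne (by rw [one_mul]; exact e)
      omega
    obtain ⟨b, rfl⟩ := hev
    have hb0 : 0 ≤ b % (M : ℤ) := Int.emod_nonneg _ (by omega)
    have hb1 : b % (M : ℤ) < M := Int.emod_lt_of_pos _ (by omega)
    refine ⟨⟨(b % (M : ℤ)).toNat, by omega⟩, ?_⟩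
    show x ^ (2 * ((b % (M : ℤ)).toNat : ℕ) : ℤ) * y = t
    rw [ht', Int.toNat_of_nonneg hb0]
    congr 1
    rw [hxM]
    exact ⟨b / M, by rw [Int.emod_def]; ring⟩
  · rw [Nat.card_range_of_injective, Nat.card_fin, hM]
    intro i j e
    have e' := mul_right_cancel e
    rw [hxM] at e'
    obtain ⟨c, hc⟩ := e'
    have hc' : ((j : ℕ) : ℤ) - (i : ℕ) = M * c := by linarith
    have hi := i.2
    have hj := j.2
    apply Fin.ext
    rcases lt_trichotomy c 0 with h0 | h0 | h0
    · have : (M : ℤ) * c ≤ M * (-1) := Int.mul_le_mul_of_nonneg_left (by omega) (by omega)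
      omega
    · subst h0; omega
    · have : (M : ℤ) * 1 ≤ M * c := Int.mul_le_mul_of_nonneg_left (by omega) (by omega)
      omega

/-- Let q be a prime, V a non-trivial finite vector space over the field with q elements, and G a finite p-group (p prime) acting faithfully and linearly on V such that all G-orbits on the non-zero vectors have the same size. Then one of the following holds: G is cyclic or generalized quaternion and acts semiregularly on the non-zero vectors; or V has q² elements with q = 2^m − 1 and G is dihedral of order 2^(m+1) or semidihedral of order 2^(m+2); or V has q² elements with q = 2^m + 1 and, in suitable coordinates V = F_q², G is exactly the group of maps (x, y) ↦ (a x, ± a⁻¹ y) and (x, y) ↦ (± a⁻¹ y, a x) with a ≠ 0; or V has 81 elements (q = 3) and G is a 2-group. -/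
theorem result (q : ℕ) [Fact q.Prime] {V : Type*} [AddCommGroup V] [Module (ZMod q) V] [Finite V] [Nontrivial V]
    {G : Type*} [Group G] [Finite G] (p : ℕ) [Fact p.Prime] (hG : IsPGroup p G)
    (ρ : G →* (V ≃ₗ[ZMod q] V)) (hρ : Function.Injective ρ)
    (hhalf : ∀ v w : V, v ≠ 0 → w ≠ 0 → Nat.card {u : V | ∃ g : G, ρ g v = u} = Nat.card {u : V | ∃ g : G, ρ g w = u}) :
    ((IsCyclic G ∨ ∃ n : ℕ, Nonempty (G ≃* QuaternionGroup n)) ∧ ∀ v : V, v ≠ 0 → ∀ g : G, ρ g v = v → g = 1) ∨
    (Nat.card V = q ^ 2 ∧ ∃ m : ℕ, q = 2 ^ m - 1 ∧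
      (Nonempty (G ≃* DihedralGroup (2 ^ m)) ∨ (Cfsg.IsQuasiDihedral G ∧ Nat.card G = 2 ^ (m + 2)))) ∨
    (Nat.card V = q ^ 2 ∧ (∃ m : ℕ, q = 2 ^ m + 1) ∧
      ∃ e : V ≃ₗ[ZMod q] (Fin 2 → ZMod q), ∀ f : (Fin 2 → ZMod q) ≃ₗ[ZMod q] (Fin 2 → ZMod q),
        (∃ g : G, f = e.symm.trans ((ρ g).trans e)) ↔
        ∃ a s : ZMod q, a ≠ 0 ∧ (s = 1 ∨ s = -1) ∧
          ((∀ v, f v = ![a * v 0, s * a⁻¹ * v 1]) ∨ (∀ v, f v = ![s * a⁻¹ * v 1, a * v 0]))) ∨
    (Nat.card V = 81 ∧ q = 3 ∧ p = 2) := by
  letI : DistribMulAction G V :=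
    { smul := fun g v => ρ g v
      one_smul := fun v => rho_one v
      mul_smul := fun g g' v => rho_mul g g' v
      smul_zero := fun g => map_zero (ρ g)
      smul_add := fun g => map_add (ρ g) }
  haveI : FaithfulSMul G V := ⟨fun {g g'} e => hρ (LinearEquiv.ext fun v => e v)⟩
  have hE : ∀ e : V, q • e = 0 := fun e => by
    rw [← Nat.cast_smul_eq_nsmul (ZMod q), ZMod.natCast_self, zero_smul]
  have hst : ∀ a b : V, a ≠ 0 → b ≠ 0 →
      Nat.card (stabilizer G a) = Nat.card (stabilizer G b) := by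
    intro a b ha hb
    have e : (stabilizer G a).index = (stabilizer G b).index := by
      rw [index_stabilizer, index_stabilizer]
      exact (Nat.card_coe_set_eq _).symm.trans ((hhalf a b ha hb).trans (Nat.card_coe_set_eq _))
    have h1 := Subgroup.card_mul_index (stabilizer G a)
    rw [e, ← Subgroup.card_mul_index (stabilizer G b)] at h1
    exact Nat.eq_of_mul_eq_mul_right (Nat.pos_of_ne_zero Subgroup.index_ne_zero_of_finite) h1
  by_cases hp2 : p = 2
  swap
  · obtain ⟨hc, hs⟩ := S1160.result hp2 hG (Fact.out : q.Prime) hE hst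
    exact Or.inl ⟨Or.inl hc, fun v hv g hg => by_contra fun hg1 => hv (hs g hg1 v hg)⟩
  subst hp2
  -- trivial cases
  by_cases hq2 : q = 2
  · left
    subst hq2
    obtain ⟨v0, hv0⟩ := exists_ne (0 : V)
    have hcard : 2 ∣ Nat.card V := by
      rw [← addOrderOf_eq_prime (hE v0) hv0]
      exact addOrderOf_dvd_natCard v0
    obtain ⟨a, ha, ha0⟩ := hG.exists_fixed_point_of_prime_dvd_card_of_fixed_point V hcard
      (a := 0) (fun g => smul_zero g)
    have hall : ∀ (g : G) (b : V), g • b = b := by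
      intro g b
      by_cases hb : b = 0
      · rw [hb, smul_zero]
      have htop : stabilizer G b = ⊤ := Subgroup.eq_top_of_card_eq _ (by
        rw [hst b a hb ha0.symm, show stabilizer G a = ⊤ from
          Subgroup.eq_top_iff' _ |>.2 fun g => MulAction.mem_fixedPoints.1 ha g, Subgroup.card_top])
      exact (Subgroup.eq_top_iff' _).1 htop g
    have : Subsingleton G := ⟨fun g k => eq_of_smul_eq_smul fun x : V => by rw [hall, hall]⟩
    exact ⟨Or.inl inferInstance, fun v _ g _ => Subsingleton.elim g 1⟩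
  by_cases hnt : Nontrivial G
  swap
  · have : Subsingleton G := not_nontrivial_iff_subsingleton.1 hnt
    exact Or.inl ⟨Or.inl inferInstance, fun v _ g _ => Subsingleton.elim g 1⟩
  -- the central involution
  obtain ⟨c, hc⟩ := exists_prime_orderOf_dvd_card' (G := Subgroup.center G) 2 (by
    obtain ⟨n, hn0, hn⟩ := (hG.to_subgroup _).nontrivial_iff_card.mp hG.center_nontrivial
    exact hn ▸ dvd_pow_self 2 (by omega))
  set z : G := (c : G) with hzdef
  have hzo : orderOf z = 2 := by rw [hzdef, Subgroup.orderOf_coe, hc]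
  have hz : z * z = 1 := by rw [← sq, ← hzo, pow_orderOf_eq_one]
  have hz1 : z ≠ 1 := fun e => by simp [e] at hzo
  have hzc : ∀ g : G, Commute g z := fun g => Subgroup.mem_center_iff.1 c.2 g
  have hfree : ∀ v : V, z • v = v → v = 0 := by
    intro v hv
    refine Involutions.HalfTransitive.fixed_eq_zero hG Fact.out (Ne.symm hq2) hE hst
      (N := Subgroup.zpowers z) ?_ (Subgroup.zpowers_ne_bot.2 hz1) ?_
    · exact ⟨fun m hm g => by
        obtain ⟨k, rfl⟩ := hm
        show g * z ^ k * g⁻¹ ∈ _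
        rw [((hzc g).zpow_right k).eq, mul_inv_cancel_right]
        exact ⟨k, rfl⟩⟩
    · intro m hm
      exact (Subgroup.zpowers_le.2 (show z ∈ stabilizer G v from hv) :
        Subgroup.zpowers z ≤ stabilizer G v) hm
  have hneg : ∀ v : V, ρ z v = -v := by
    intro v
    refine eq_neg_of_add_eq_zero_left (hfree _ ?_)
    show ρ z (ρ z v + v) = ρ z v + v
    rw [map_add, ← rho_mul, hz, rho_one, add_comm]
  have H : Half ρ z := ⟨hq2, hG, hρ, fun v w hv hw => hst v w hv hw, hz, hneg, hzc⟩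
  -- one involution
  by_cases hu : ∀ g : G, g * g = 1 → g ≠ 1 → g = z
  · left
    refine ⟨?_, ?_⟩
    · have huniq : ∀ A B : Subgroup G, Nat.card A = 2 → Nat.card B = 2 → A = B := by
        suffices ∀ A : Subgroup G, Nat.card A = 2 → A = Subgroup.zpowers z from
          fun A B hA hB => (this A hA).trans (this B hB).symm
        intro A hA
        refine (Subgroup.eq_of_le_of_card_ge ?_ (by rw [hA, Nat.card_zpowers, hzo])).symm
        haveI : Nontrivial A := Finite.one_lt_card_iff_nontrivial.1 (by omega)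
        obtain ⟨w, hw⟩ := exists_ne (1 : A)
        have hw2 : (w : G) * w = 1 := by
          have := congrArg Subtype.val (pow_card_eq_one' (x := w))
          rw [hA, sq] at this
          exact this
        rw [Subgroup.zpowers_le, ← hu w hw2 (fun e => hw (Subtype.ext e))]
        exact w.2
      rcases PGroups.UniqueSubgroup.isCyclic_or_quaternion hG huniq with h | ⟨-, n, h⟩
      · exact Or.inl h
      · exact Or.inr ⟨_, h⟩
    · intro v hv g hg
      by_contra hg1
      obtain ⟨e, he⟩ := IsPGroup.iff_orderOf.1 hG g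
      obtain ⟨e', rfl⟩ : ∃ e', e = e' + 1 := Nat.exists_eq_succ_of_ne_zero (by
        rintro rfl
        rw [pow_zero, orderOf_eq_one_iff] at he
        exact hg1 he)
      have h1 : g ^ 2 ^ e' * g ^ 2 ^ e' = 1 := by
        rw [← pow_add, ← two_mul, ← pow_succ', ← he, pow_orderOf_eq_one]
      have h2 : g ^ 2 ^ e' ≠ 1 := pow_ne_one_of_lt_orderOf (by simp)
        (by rw [he]; exact Nat.pow_lt_pow_right (by norm_num) (Nat.lt_succ_self _))
      have h3 : g ^ 2 ^ e' ∈ stabilizer G v := pow_mem (show g ∈ stabilizer G v from hg) _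
      rw [hu _ h1 h2] at h3
      exact hv (hfree v h3)
  push Not at hu
  obtain ⟨i0, hi0, hi1, hi2⟩ := hu
  right
  by_cases hA : ∃ A : Subgroup G, A.Normal ∧ IsMulCommutative A ∧ ¬ IsCyclic A
  · -- two blocks
    obtain ⟨A, hA1, hA2, hA3⟩ := hA
    obtain ⟨z', a, hz', hzC, ha, haz, hconj⟩ := S3380.exists_pair hG hA1 hA2 hA3
    have hz'z : z' = z := H.central_eq (fun g => Subgroup.mem_center_iff.1 hzC g)
      (by rw [← sq, ← hz', pow_orderOf_eq_one]) (fun e => by simp [e] at hz')
    rw [hz'z] at haz hconj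
    have hconj' : ∀ g : G, g * a * g⁻¹ = a ∨ g * a * g⁻¹ = a * z := by
      intro g
      obtain ⟨k, hk⟩ := hconj g
      have hk' : z ^ k = g * a * g⁻¹ * a⁻¹ := hk
      have e : g * a * g⁻¹ = z ^ k * a := by rw [hk']; group
      rcases Int.even_or_odd k with ⟨j, rfl⟩ | ⟨j, rfl⟩
      · refine Or.inl ?_
        rw [e, zpow_add, ← (Commute.refl z).mul_zpow, hz, one_zpow, one_mul]
      · refine Or.inr ?_
        rw [e, zpow_add, zpow_mul, show z ^ (2 : ℤ) = 1 by rw [zpow_two, hz], one_zpow, one_mul,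
          zpow_one, (hzc a).eq]
    rcases H.two_blocks a (by rw [← sq, ← ha, pow_orderOf_eq_one])
      (fun e => haz (e ▸ Subgroup.mem_zpowers a)) (fun e => by simp [e] at ha) hconj' with h | h
    · exact Or.inr (Or.inl h)
    · exact Or.inr (Or.inr ⟨h.1, h.2, rfl⟩)
  · -- maximal class
    left
    have hnc : ¬ IsCyclic G := by
      intro hcyc
      obtain ⟨γ, hγ⟩ := hcyc.exists_generator
      refine hi2 (H.central_eq (fun g => ?_) hi0 hi1)
      obtain ⟨u, rfl⟩ := hγ g
      obtain ⟨v, rfl⟩ := hγ i0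
      exact (Commute.refl γ).zpow_zpow u v
    have hnq : ∀ n : ℕ, ¬ Nonempty (G ≃* QuaternionGroup n) := by
      rintro n ⟨e⟩
      apply hi2
      refine H.central_eq (fun g => ?_) hi0 hi1
      have key : ∀ w : QuaternionGroup n, w * w = 1 → ∀ u : QuaternionGroup n, Commute u w := by
        haveI : NeZero n := ⟨by
          rintro rfl
          haveI : Finite (QuaternionGroup 0) := Finite.of_equiv G e.toEquiv
          haveI : Finite ℤ := Finite.of_injective (fun i : ℤ => (QuaternionGroup.a (n := 0) i))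
            (fun i j h => QuaternionGroup.a.inj h)
          exact not_finite ℤ⟩
        intro w hw u
        rcases w with i | i
        · rw [QuaternionGroup.a_mul_a, QuaternionGroup.one_def] at hw
          have hi : i + i = 0 := QuaternionGroup.a.inj hw
          rcases u with j | j
          · show _ = _
            rw [QuaternionGroup.a_mul_a, QuaternionGroup.a_mul_a, add_comm]
          · show _ = _
            rw [QuaternionGroup.xa_mul_a, QuaternionGroup.a_mul_xa]
            congr 1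
            linear_combination hi
        · rw [QuaternionGroup.xa_mul_xa, QuaternionGroup.one_def] at hw
          have hi : ((n : ZMod (2 * n)) + i - i) = 0 := QuaternionGroup.a.inj hw
          rw [add_sub_cancel_right, ZMod.natCast_eq_zero_iff] at hi
          have := Nat.le_of_dvd (NeZero.pos n) hi
          have := NeZero.pos n
          omega
      have := key (e i0) (by rw [← map_mul, hi0, map_one]) (e g)
      exact e.injective (by rw [map_mul, map_mul]; exact this.eq)
    have hcen : ∀ c : G, (∀ g : G, Commute g c) → c * c = 1 → c ≠ 1 → c = z :=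
      fun c a b d => H.central_eq a b d
    push Not at hA
    by_cases hsd : Cfsg.IsQuasiDihedral G
    · obtain ⟨C, N, m, hG2, hC, hCi, hN1, hN2, hN, hm⟩ := semidihedral_facts hz hcen hsd
      haveI := hC
      obtain ⟨h1, h2⟩ := H.cyclic_index_two C hCi N hN1 hN2 hN m hm
      exact ⟨h1, m, h2, Or.inr ⟨hsd, hG2⟩⟩
    · obtain ⟨n, ⟨e⟩⟩ : ∃ n, Nonempty (G ≃* DihedralGroup n) := by
        by_contra hd
        push Not at hd
        obtain ⟨A, a1, a2, a3⟩ := S3380.exists_noncyclic_abelian_normal hG hnc hnq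
          (fun n hn => by
            obtain ⟨e⟩ := hn
            exact (hd n).elim e) hsd
        exact a3 (hA A a1 a2)
      obtain ⟨k, hk⟩ := IsPGroup.iff_card.1 hG
      rw [Nat.card_congr e.toEquiv, DihedralGroup.nat_card] at hk
      obtain ⟨m, rfl⟩ : ∃ m, k = m + 1 := Nat.exists_eq_succ_of_ne_zero (by
        rintro rfl; rw [pow_zero] at hk; omega)
      have hn : n = 2 ^ m := by rw [pow_succ'] at hk; omega
      have hm2 : 2 ≤ m := by
        by_contra hlt
        refine hi2 (H.central_eq (fun g => ?_) hi0 hi1)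
        haveI : NeZero n := ⟨by rw [hn]; exact (Nat.two_pow_pos m).ne'⟩
        have hab : ∀ u w : DihedralGroup n, u * w = w * u := by
          intro u w
          have h2 : ∀ i : ZMod n, i + i = 0 := by
            intro i
            have : ((2 : ℕ) : ZMod n) = 0 := by
              rw [ZMod.natCast_eq_zero_iff, hn]
              interval_cases m <;> norm_num
            rw [← two_mul]
            push_cast at this
            rw [this, zero_mul]
          rcases u with i | i <;> rcases w with j | j <;>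
            simp only [DihedralGroup.r_mul_r, DihedralGroup.r_mul_sr, DihedralGroup.sr_mul_r,
              DihedralGroup.sr_mul_sr] <;> congr 1
          · ring
          · linear_combination -(h2 i)
          · linear_combination h2 j
          · linear_combination h2 j - h2 i
        exact e.injective (by rw [map_mul, map_mul]; exact hab _ _)
      obtain ⟨C, N, hC, hCi, hN1, hN2, hN, hm⟩ := dihedral_facts hz hz1 hzc hcen hn hm2 e
      haveI := hC
      obtain ⟨h1, h2⟩ := H.cyclic_index_two C hCi N hN1 hN2 hN m hm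
      exact ⟨h1, m, h2, Or.inl ⟨hn ▸ e⟩⟩

end Cfsg.Agent.S3371
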