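import Cfsg.Statements.S0042
import Cfsg.Agent.Solvable.Thompson
import Cfsg.Agent.Solvable.Frobenius

set_option autoImplicit false
open Cfsg

namespace Cfsg.Agent.S0042

/-- In a finite Frobenius group, the Frobenius kernel is (the carrier of) a normal subgroup which is nilpotent. -/
theorem result {G : Type*} [Group G] [Finite G] (H : Subgroup G) (hH : Cfsg.IsFrobeniusComplement H) :
    ∃ N : Subgroup G, (N : Set G) = Cfsg.frobeniusKernel H ∧ N.Normal ∧ Group.IsNilpotent N := by
  obtain ⟨N, hNk, hNn, hc⟩ := Cfsg.Agent.Characters.frobenius_kernel_theorem hH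
  refine ⟨N, hNk, hNn, ?_⟩
  obtain ⟨p, hp, hpd⟩ := Nat.exists_prime_and_dvd ((Subgroup.one_lt_card_iff_ne_bot _).mpr hH.1).ne'
  haveI := Fact.mk hp
  obtain ⟨h, hh⟩ := exists_prime_orderOf_dvd_card' (G := H) p hpd
  have hh1 : (h : G) ≠ 1 := fun e => hp.ne_one (by
    rw [← hh, ← Subgroup.orderOf_coe, e, orderOf_one])
  refine Cfsg.Agent.Solvable.Thompson.isNilpotent_of_fixedPointFree
    (MulAut.conjNormal (h : G) : MulAut N) hp (fun x hx => ?_) ?_
  · have hx' := congrArg Subtype.val hx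
    rw [MulAut.conjNormal_apply] at hx'
    have hm : (x : G) ∈ N ⊓ Subgroup.centralizer {(h : G)} :=
      ⟨x.2, Subgroup.mem_centralizer_singleton_iff.mpr (mul_inv_eq_iff_eq_mul.mp hx').symm⟩
    rw [Cfsg.Agent.Solvable.Frobenius.fpf_of_kernel hH hc h h.2 hh1, Subgroup.mem_bot] at hm
    exact Subtype.ext hm
  · rw [← map_pow, ← Subgroup.coe_pow, ← hh, pow_orderOf_eq_one, Subgroup.coe_one, map_one]

end Cfsg.Agent.S0042
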