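import Cfsg.Statements.S3379
import Mathlib

set_option autoImplicit false
open Cfsg

namespace Cfsg.Agent.S3379

/-- Let G be a finite group all of whose Sylow subgroups are cyclic. Then G is generated by two elements x and y of coprime orders n and m with x⁻¹yx = y^r, where gcd(r − 1, m) = 1 and r^n ≡ 1 (mod m). -/
theorem result {G : Type*} [Group G] [Finite G]
    (hZ : ∀ (p : ℕ) [Fact p.Prime] (P : Sylow p G), IsCyclic (P : Subgroup G)) :
    ∃ (x y : G) (n m r : ℕ), Subgroup.closure {x, y} = ⊤ ∧ orderOf x = n ∧ orderOf y = m ∧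
      x⁻¹ * y * x = y ^ r ∧ Nat.Coprime (r - 1) m ∧ Nat.Coprime n m ∧ 1 ≤ r ∧ r ^ n % m = 1 % m := by
  haveI : IsZGroup G := ⟨fun p hp P => @hZ p ⟨hp⟩ P⟩
  set N := commutator G with hN
  haveI hNn : N.Normal := by rw [hN]; infer_instance
  have hco : (Nat.card N).Coprime N.index := IsZGroup.coprime_commutator_index (G := G)
  obtain ⟨H, hH⟩ := Subgroup.exists_right_complement'_of_coprime hco
  haveI : IsCyclic N := IsZGroup.isCyclic_commutator (G := G)
  have h1 : Abelianization G ≃* H := hH.symm.QuotientMulEquiv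
  haveI : IsCyclic H := isCyclic_of_surjective _ h1.surjective
  clear h1
  obtain ⟨⟨y, hy⟩, hyg⟩ := IsCyclic.exists_zpow_surjective (G := N)
  obtain ⟨⟨x, hx⟩, hxg⟩ := IsCyclic.exists_zpow_surjective (G := H)
  have hNy : N = Subgroup.zpowers y := by
    refine le_antisymm (fun z hz => ?_) (Subgroup.zpowers_le.2 hy)
    obtain ⟨i, hi⟩ := hyg ⟨z, hz⟩
    exact ⟨i, congrArg Subtype.val hi⟩
  have hHx : H = Subgroup.zpowers x := by
    refine le_antisymm (fun z hz => ?_) (Subgroup.zpowers_le.2 hx)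
    obtain ⟨i, hi⟩ := hxg ⟨z, hz⟩
    exact ⟨i, congrArg Subtype.val hi⟩
  have hgen : Subgroup.closure {x, y} = ⊤ := by
    rw [eq_top_iff, ← hH.sup_eq_top, hNy, hHx]
    exact sup_le (Subgroup.zpowers_le.2 (Subgroup.subset_closure (by simp)))
      (Subgroup.zpowers_le.2 (Subgroup.subset_closure (by simp)))
  have hconj : ∀ g : G, ∃ s : ℕ, g * y * g⁻¹ = y ^ s := by
    intro g
    have h := hNn.conj_mem y hy g
    rw [hNy, ← mem_powers_iff_mem_zpowers] at h
    obtain ⟨s, hs⟩ := h
    exact ⟨s, hs.symm⟩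
  set n := orderOf x with hn
  set m := orderOf y with hm
  obtain ⟨s, hs⟩ := hconj x⁻¹
  set r := s + m with hr
  have hr1 : 1 ≤ r := by have := orderOf_pos y; omega
  have hxy : x⁻¹ * y * x = y ^ r := by
    rw [hr, pow_add, pow_orderOf_eq_one, mul_one, ← hs, inv_inv]
  have hiter : ∀ k, (x ^ k)⁻¹ * y * x ^ k = y ^ (r ^ k) := by
    intro k
    induction k with
    | zero => simp
    | succ k ih =>
      have h2 : x⁻¹ * y ^ (r ^ k) * x = (x⁻¹ * y * x) ^ (r ^ k) := by
        have := (conj_pow (i := r ^ k) (a := x⁻¹) (b := y))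
        rw [inv_inv] at this
        exact this.symm
      rw [pow_succ x, pow_succ' r, pow_mul, ← hxy, ← h2, ← ih]
      group
  refine ⟨x, y, n, m, r, hgen, rfl, rfl, hxy, ?_, ?_, hr1, ?_⟩
  · set M := Subgroup.zpowers (y ^ (r - 1)) with hM
    haveI hMn : M.Normal := by
      refine ⟨fun z hz g => ?_⟩
      obtain ⟨s', hs'⟩ := hconj g
      obtain ⟨i, hi⟩ := hz
      refine ⟨i * s', ?_⟩
      show (y ^ (r - 1)) ^ (i * (s' : ℤ)) = g * z * g⁻¹
      rw [← hi, ← conj_zpow, ← conj_pow, hs', ← pow_mul, _root_.mul_comm s', pow_mul, _root_.mul_comm i,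
        _root_.zpow_mul, zpow_natCast]
    have hle : commutator G ≤ M := by
      rw [← Subgroup.Normal.quotient_commutative_iff_commutator_le]
      have htop : Subgroup.closure ((QuotientGroup.mk' M) '' {x, y}) = ⊤ := by
        rw [← MonoidHom.map_closure, hgen, ← MonoidHom.range_eq_map, QuotientGroup.range_mk']
      have hc : QuotientGroup.mk' M x * QuotientGroup.mk' M y = QuotientGroup.mk' M y * QuotientGroup.mk' M x := by
        have h1 : QuotientGroup.mk' M (y ^ r) = QuotientGroup.mk' M y := by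
          rw [show r = r - 1 + 1 by omega, pow_succ, map_mul,
            show QuotientGroup.mk' M (y ^ (r - 1)) = 1 from (QuotientGroup.eq_one_iff _).2 (Subgroup.mem_zpowers _), one_mul]
        rw [← hxy, map_mul, map_mul, map_inv] at h1
        conv_lhs => rw [← h1]
        group
      haveI := Subgroup.isMulCommutative_closure (k := (QuotientGroup.mk' M) '' {x, y}) (by
        rintro u ⟨u', (rfl | rfl), rfl⟩ v ⟨v', (rfl | rfl), rfl⟩
        · rfl
        · exact hc
        · exact hc.symm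
        · rfl)
      refine ⟨⟨fun a b => ?_⟩⟩
      exact congrArg Subtype.val (mul_comm' (⟨a, htop ▸ Subgroup.mem_top a⟩ : Subgroup.closure ((QuotientGroup.mk' M) '' {x, y})) ⟨b, htop ▸ Subgroup.mem_top b⟩)
    have hyM : y ∈ M := hle hy
    have hdvd : orderOf y ∣ orderOf (y ^ (r - 1)) := orderOf_dvd_of_mem_zpowers hyM
    rw [orderOf_pow] at hdvd
    have hpos := orderOf_pos y
    rw [Nat.coprime_comm]
    show Nat.gcd (orderOf y) (r - 1) = 1
    have hg := Nat.gcd_pos_of_pos_left (r - 1) hpos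
    have h1 := Nat.le_of_dvd (Nat.div_pos (Nat.le_of_dvd hpos (Nat.gcd_dvd_left _ _)) hg) hdvd
    by_contra hne
    have := Nat.div_lt_self hpos (show 1 < Nat.gcd (orderOf y) (r - 1) by omega)
    omega
  · rw [hn, hm, ← Nat.card_zpowers x, ← Nat.card_zpowers y, ← hHx, ← hNy, ← hH.symm.index_eq_card]
    exact hco.symm
  · have h := hiter n
    rw [hn, pow_orderOf_eq_one, inv_one, one_mul, mul_one] at h
    have h2 : y ^ 1 = y ^ (r ^ n) := (pow_one y).trans h
    exact (pow_eq_pow_iff_modEq.1 h2).symm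

end Cfsg.Agent.S3379
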