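import Cfsg.Statements.S0362
import Cfsg.Agent.Lib.Golay.Basic
import Cfsg.Agent.Lib.Golay.Design

set_option autoImplicit false
open Cfsg

namespace Cfsg.Agent.S0362

/-- The length-24 code is self-orthogonal: the dot product over ZMod 2 of any two of its words vanishes (with dimension 12 this makes it self-dual). -/
theorem result (v w : Cfsg.GolayPt → ZMod 2) (hv : v ∈ Cfsg.golayCode) (hw : w ∈ Cfsg.golayCode) : ∑ i, v i * w i = 0 := by
  induction hv using Submodule.span_induction with
  | mem x hx =>
    induction hw using Submodule.span_induction with
    | mem y hy =>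
      rcases hx with ⟨t, rfl⟩ | rfl <;> rcases hy with ⟨u, rfl⟩ | rfl
      · revert t u; decide +kernel
      · revert t; decide +kernel
      · revert u; decide +kernel
      · decide +kernel
    | zero => simp
    | add y z _ _ hy hz => simp [mul_add, Finset.sum_add_distrib, hy, hz]
    | smul a y _ hy => simp [← Finset.mul_sum, mul_left_comm _ a, hy]
  | zero => simp
  | add x y _ _ hx hy => simp [add_mul, Finset.sum_add_distrib, hx, hy]
  | smul a x _ hx => simp [mul_assoc, ← Finset.mul_sum, hx]

end Cfsg.Agent.S0362
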