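import Cfsg.Statements.S2587
import Cfsg.Agent.Lib.Classical.UnitaryConj

set_option autoImplicit false
open Cfsg
open Cfsg.Agent.Classical

namespace Cfsg.Agent.S2587

/-- Conjugacy in the finite general unitary group is controlled by the general linear group: two elements of GU_n(q) (the invertible matrices over the field with q² elements preserving the Hermitian form Σ u_i v_i^q) are conjugate in GU_n(q) if and only if they are conjugate in GL_n(q²). -/
theorem result {K : Type*} [Field K] [Fintype K] {q n : ℕ} (hK : Fintype.card K = q ^ 2) (A B : ↥(Cfsg.GU n K q)) : IsConj A B ↔ IsConj (A : GL (Fin n) K) (B : GL (Fin n) K) := by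
  refine ⟨fun h => (Cfsg.GU n K q).subtype.map_isConj h, fun h => ?_⟩
  obtain ⟨X, hX⟩ := isConj_iff.1 h
  set ad := UnitaryConj.adj (n := n) hK
  set H := ad (X : Matrix (Fin n) (Fin n) K) * (X : Matrix (Fin n) (Fin n) K) with hH
  have hA := (UnitaryConj.mem_GU_iff hK (A : GL (Fin n) K)).1 A.2
  have hB := (UnitaryConj.mem_GU_iff hK (B : GL (Fin n) K)).1 B.2
  have hXA : (X : Matrix (Fin n) (Fin n) K) * ((A : GL (Fin n) K) : Matrix (Fin n) (Fin n) K)
      = ((B : GL (Fin n) K) : Matrix (Fin n) (Fin n) K) * (X : Matrix (Fin n) (Fin n) K) :=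
    congrArg Units.val (mul_inv_eq_iff_eq_mul.1 hX)
  have hc : ad ((A : GL (Fin n) K) : Matrix (Fin n) (Fin n) K) * H *
      ((A : GL (Fin n) K) : Matrix (Fin n) (Fin n) K) = H := by
    rw [hH, ← mul_assoc, ← UnitaryConj.adj_mul, mul_assoc, hXA, UnitaryConj.adj_mul, mul_assoc,
      ← mul_assoc (UnitaryConj.adj hK ((B : GL (Fin n) K) : Matrix (Fin n) (Fin n) K)), hB, one_mul]
  have hcomm : Commute ((A : GL (Fin n) K) : Matrix (Fin n) (Fin n) K) H := by
    have h2 := congrArg (fun M => ((A : GL (Fin n) K) : Matrix (Fin n) (Fin n) K) * M) hc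
    have hA' : ((A : GL (Fin n) K) : Matrix (Fin n) (Fin n) K) * ad
        ((A : GL (Fin n) K) : Matrix (Fin n) (Fin n) K) = 1 := mul_eq_one_comm.1 hA
    simp only [← mul_assoc, hA', one_mul] at h2
    exact h2.symm
  obtain ⟨Y, hY, hYH⟩ := UnitaryConj.exists_root hK H
    ((UnitaryConj.isUnit_adj hK X.isUnit).mul X.isUnit)
    (by rw [hH, UnitaryConj.adj_mul, UnitaryConj.adj_adj])
  have hmem : X * Y⁻¹ ∈ Cfsg.GU n K q := by
    rw [UnitaryConj.mem_GU_iff hK, Units.val_mul, UnitaryConj.adj_mul, mul_assoc,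
      ← mul_assoc _ (X : Matrix (Fin n) (Fin n) K), ← hH, ← hYH, mul_assoc, Units.mul_inv, mul_one,
      ← UnitaryConj.adj_mul, Units.mul_inv, UnitaryConj.adj_one]
  refine isConj_iff.2 ⟨⟨X * Y⁻¹, hmem⟩, Subtype.ext ?_⟩
  show X * Y⁻¹ * (A : GL (Fin n) K) * (X * Y⁻¹)⁻¹ = (B : GL (Fin n) K)
  have hYA : Commute (A : GL (Fin n) K) Y := Units.ext (hY _ hcomm).eq
  rw [mul_inv_eq_iff_eq_mul, mul_assoc, ← hYA.inv_right.eq, ← mul_assoc, ← mul_assoc,
    mul_inv_eq_iff_eq_mul.1 hX]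

end Cfsg.Agent.S2587
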