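import Cfsg.Statements.S2149
import Cfsg.Agent.SimpleFacts.MinIndexPSUFive.Basic
import Cfsg.Agent.SimpleFacts.MinIndexPSUFive.Witness
import Cfsg.Agent.S0280
import Cfsg.Agent.S2366

set_option autoImplicit false
set_option linter.style.haveILetI false
open Cfsg

namespace Cfsg.Agent.S2149

/-- Minimal index of a proper subgroup of PSU₃(5), realised over the field with 25 elements: every proper subgroup has index at least 50, and that index is attained. -/
theorem result {F : Type*} [Field F] [Fintype F] (hF : Fintype.card F = 25) : (∀ H : Subgroup (Cfsg.PSU 3 F 5), H ≠ ⊤ → 50 ≤ H.index) ∧ (∃ H : Subgroup (Cfsg.PSU 3 F 5), H.index = 50) := by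
  haveI : Fact (Nat.Prime 5) := ⟨by norm_num⟩
  have hF2 : Fintype.card F = 5 ^ 2 := by rw [hF]; norm_num
  haveI : CharP F 5 := by
    obtain ⟨p, hp⟩ := CharP.exists F
    obtain ⟨n, hpp, hn⟩ := FiniteField.card F p
    have h5 : p ∣ 5 ^ 2 := hF2 ▸ hn.symm ▸ dvd_pow_self p n.pos.ne'
    rwa [← (Nat.prime_dvd_prime_iff_eq hpp (by norm_num)).1 (hpp.dvd_of_dvd_pow h5)]
  have hG : Nat.card (Cfsg.PSU 3 F 5) = 126000 := by
    have h := Cfsg.Agent.S0280.result hF2 3 (by norm_num)
    norm_num [Finset.prod_range_succ] at h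
    omega
  haveI : Finite (Cfsg.PSU 3 F 5) := Nat.finite_of_card_ne_zero (by rw [hG]; norm_num)
  have hcop : ¬ 5 ∣ Nat.gcd 3 (5 + 1) := by decide
  have h2 : (2 : F) ≠ 0 := fun h => by
    have h' : ((2 : ℕ) : F) = 0 := by exact_mod_cast h
    rw [CharP.cast_eq_zero_iff F 5] at h'
    norm_num at h'
  refine ⟨fun H hH => SimpleFacts.MinIndexPSUFive.Count.index_ge hG
    (SimpleFacts.MinIndexPSUFive.Basic.joins_PSU hF2 hcop)
    (fun P => SimpleFacts.MinIndexPSUFive.Basic.not_normal hF2 h2 (by decide) hcop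
      (by rw [hG]; norm_num) P) (fun g hg => ?_) H hH, ?_⟩
  · have h := Set.ext_iff.1 (Cfsg.Agent.S2366.result 5 (by norm_num) 5 hF2) (orderOf g) |>.1 ⟨g, rfl⟩
    simp only [List.mem_cons, List.not_mem_nil, or_false] at hg
    simp only [Set.mem_union, Set.mem_setOf_eq] at h
    rcases hg with e | e | e <;> rw [e] at h <;> norm_num at h
  · obtain ⟨H, hH⟩ := SimpleFacts.MinIndexPSUFive.Witness.exists_alt hF
    refine ⟨H, ?_⟩
    have h := H.card_mul_index
    rw [hH, hG] at h
    omega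

end Cfsg.Agent.S2149
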