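import Cfsg.Statements.S0250
import Cfsg.Agent.Lib.Classical.GL2
import Cfsg.Agent.Lib.Classical.SmallIso

set_option autoImplicit false
open Cfsg

namespace Cfsg.Agent.S0250

/-- SL_2(2) is isomorphic to S_3. -/
theorem result {F : Type*} [Field F] [Fintype F] (hF : Fintype.card F = 2) : Nonempty (Matrix.SpecialLinearGroup (Fin 2) F ≃* Equiv.Perm (Fin 3)) := by
  obtain ⟨f, hf⟩ := Classical.SmallIso.exists_pslTwo_hom F 3 (by omega)
  have hc : Nat.card (Matrix.SpecialLinearGroup (Fin 2) F) = 6 := by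
    rw [Classical.GL2.natCard_SL_two, hF]
  have hz : Nat.card (Subgroup.center (Matrix.SpecialLinearGroup (Fin 2) F)) = 1 := by
    rw [Classical.Linear.natCard_center_SL, hF]; decide
  have hbot := Subgroup.card_eq_one.1 hz
  let g := f.comp (QuotientGroup.mk' (Subgroup.center (Matrix.SpecialLinearGroup (Fin 2) F)))
  have hg : Function.Injective g := by
    refine hf.comp ((MonoidHom.ker_eq_bot_iff _).1 ?_)
    rw [QuotientGroup.ker_mk', hbot]
  exact ⟨MulEquiv.ofBijective g ((Nat.bijective_iff_injective_and_card g).2 ⟨hg, by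
    rw [hc, Nat.card_perm, Nat.card_fin]; rfl⟩)⟩

end Cfsg.Agent.S0250
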