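import Cfsg.Statements.S0839

set_option autoImplicit false
open Cfsg

namespace Cfsg.Agent.S0839

open Matrix

theorem exists_vecMulVec {F ι : Type*} [Field F] [Fintype ι] [DecidableEq ι] (N : Matrix ι ι F)
    (hrk : N.rank = 1) (hsq : N * N = 0) :
    ∃ a b : ι → F, b ⬝ᵥ a = 0 ∧ N = vecMulVec a b ∧ b ≠ 0 := by
  obtain ⟨a, ha, hspan⟩ := finrank_eq_one_iff'.1
    (show Module.finrank F ↥(LinearMap.range N.mulVecLin) = 1 from hrk)
  choose b hb using fun j => hspan ⟨N *ᵥ Pi.single j 1, Pi.single j 1, rfl⟩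
  have hN : N = vecMulVec (a : ι → F) b := by
    ext i j
    have := congrFun (congrArg Subtype.val (hb j)) i
    simp [Matrix.mulVec_single] at this
    rw [vecMulVec_apply, ← this]; ring
  have hb0 : b ≠ 0 := by
    intro h
    have hN0 : N = 0 := by rw [hN, h]; ext; simp [vecMulVec_apply]
    rw [hN0, rank_zero] at hrk
    exact zero_ne_one hrk
  have ha0 : (a : ι → F) ≠ 0 := fun h => ha (Subtype.ext h)
  refine ⟨a, b, ?_, hN, hb0⟩
  rw [hN, vecMulVec_mul_vecMulVec] at hsq
  obtain ⟨i, hi⟩ := Function.ne_iff.1 ha0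
  obtain ⟨j, hj⟩ := Function.ne_iff.1 hb0
  have := congrFun (congrFun hsq i) j
  simp [vecMulVec_apply] at this
  rcases this with h | h | h
  · exact absurd h hi
  all_goals first | exact absurd h hj | exact h

theorem exists_sl_row {F : Type*} [Field F] {n : ℕ} (b : Fin (n + 2) → F) (hb : b ≠ 0) :
    ∃ G : SpecialLinearGroup (Fin (n + 2)) F,
      (G : Matrix (Fin (n + 2)) (Fin (n + 2)) F) 0 = b := by
  classical
  obtain ⟨e, he⟩ := LinearMap.exists_extend_of_notMem (p := (⊥ : Submodule F (Fin (n + 2) → F)))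
    (0 : _ →ₗ[F] F) (show b ∉ (⊥ : Submodule F (Fin (n + 2) → F)) by simpa using hb) (1 : F)
  obtain ⟨j₀, hj₀⟩ := Function.ne_iff.1 hb
  let s : Equiv.Perm (Fin (n + 2)) := Equiv.swap 0 j₀
  let M : Matrix (Fin (n + 2)) (Fin (n + 2)) F :=
    (Matrix.updateRow (1 : Matrix (Fin (n + 2)) (Fin (n + 2)) F) j₀ b).submatrix s id
  have hM0 : M 0 = b := by
    funext j
    simp [M, s, Matrix.updateRow_self]
  have hdet : M.det ≠ 0 := by
    rw [show M = (Matrix.updateRow (1 : Matrix (Fin (n + 2)) (Fin (n + 2)) F) j₀ b).submatrix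
      s id from rfl, Matrix.det_permute]
    refine mul_ne_zero ?_ ?_
    · rcases Int.units_eq_one_or (Equiv.Perm.sign s) with h | h <;> simp [h]
    · have hu : Matrix.updateRow (1 : Matrix (Fin (n + 2)) (Fin (n + 2)) F) j₀ b =
          1 + replicateCol Unit (Pi.single j₀ (1 : F)) * replicateRow Unit (b - Pi.single j₀ 1) := by
        ext i j
        rcases eq_or_ne i j₀ with rfl | hi
        · simp [Matrix.mul_apply, Matrix.one_apply, Pi.single_apply, eq_comm]
        · simp [Matrix.mul_apply, hi, Matrix.updateRow_ne hi, Pi.single_apply]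
      rw [hu, det_one_add_replicateCol_mul_replicateRow]
      simpa [dotProduct_single] using hj₀
  have h1 : (1 : Fin (n + 2)) ≠ 0 := by simp
  refine ⟨⟨M.updateRow 1 (M.det⁻¹ • M 1), ?_⟩, ?_⟩
  · rw [Matrix.det_updateRow_smul, Matrix.updateRow_eq_self, inv_mul_cancel₀ hdet]
  · show (M.updateRow 1 (M.det⁻¹ • M 1)) 0 = b
    rw [Matrix.updateRow_ne h1.symm, hM0]

/-- Every transvection t ∈ SL_(n+2)(F) (rank(t − 1) = 1, (t − 1)² = 0) is conjugate in SL_(n+2)(F) to 1 + v·e_0ᵀ for some column vector v with v_0 = 0 (the group A of matrices that are the identity except in the first column below the diagonal); the dimension is written n + 2 ≥ 2. -/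
theorem result {F : Type*} [Field F] (n : ℕ) (t : Matrix.SpecialLinearGroup (Fin (n + 2)) F) (ht : Cfsg.IsTransvection (t : Matrix (Fin (n + 2)) (Fin (n + 2)) F)) : ∃ (g : Matrix.SpecialLinearGroup (Fin (n + 2)) F) (v : Fin (n + 2) → F), v 0 = 0 ∧ ((g⁻¹ * t * g : Matrix.SpecialLinearGroup (Fin (n + 2)) F) : Matrix (Fin (n + 2)) (Fin (n + 2)) F) = 1 + Matrix.vecMulVec v (Pi.single 0 1) := by
  obtain ⟨hrk, hsq⟩ := ht
  set N := (t : Matrix (Fin (n + 2)) (Fin (n + 2)) F) - 1 with hN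
  obtain ⟨a, b, hab, hN', hb⟩ := exists_vecMulVec N hrk hsq
  obtain ⟨G, hG⟩ := exists_sl_row b hb
  refine ⟨G⁻¹, (G : Matrix (Fin (n + 2)) (Fin (n + 2)) F).mulVec a, ?_, ?_⟩
  · rw [← hab]
    exact congrArg (fun r => r ⬝ᵥ a) hG
  · have ht' : (t : Matrix (Fin (n + 2)) (Fin (n + 2)) F) = 1 + Matrix.vecMulVec a b := by
      rw [← hN', hN]; abel
    simp only [inv_inv, Matrix.SpecialLinearGroup.coe_mul]
    rw [ht', mul_add, add_mul, mul_one, ← Matrix.SpecialLinearGroup.coe_mul, mul_inv_cancel,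
      Matrix.SpecialLinearGroup.coe_one, Matrix.mul_vecMulVec, Matrix.vecMulVec_mul]
    congr 2
    have h2 : Matrix.vecMul (Pi.single 0 1) (G : Matrix (Fin (n + 2)) (Fin (n + 2)) F) = b := by
      rw [Matrix.single_one_vecMul]; exact hG
    rw [← h2, Matrix.vecMul_vecMul, ← Matrix.SpecialLinearGroup.coe_mul, mul_inv_cancel,
      Matrix.SpecialLinearGroup.coe_one, Matrix.vecMul_one]

end Cfsg.Agent.S0839
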