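import Cfsg.Statements.S0445
import Mathlib

set_option autoImplicit false
open Cfsg

namespace Cfsg.Agent.S0445


/-- A matrix commuting with the transvection. -/
def mk (a : ZMod 2) (r c : Fin 3 → ZMod 2) (A : Matrix (Fin 3) (Fin 3) (ZMod 2)) :
    Matrix (Fin 5) (Fin 5) (ZMod 2) :=
  !![1, a, r 0, r 1, r 2; 0, 1, 0, 0, 0; 0, c 0, A 0 0, A 0 1, A 0 2;
     0, c 1, A 1 0, A 1 1, A 1 2; 0, c 2, A 2 0, A 2 1, A 2 2]

theorem det_mk (a : ZMod 2) (r c : Fin 3 → ZMod 2) (A : Matrix (Fin 3) (Fin 3) (ZMod 2)) :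
    (mk a r c A).det = A.det := by
  rw [Matrix.det_succ_column_zero]
  simp [Fin.sum_univ_succ, mk, Matrix.det_succ_row_zero (n := 3), Matrix.det_fin_three, Fin.succAbove]

theorem commute_iff (g : Matrix (Fin 5) (Fin 5) (ZMod 2)) :
    g * Matrix.transvection (0 : Fin 5) 1 (1 : ZMod 2) = Matrix.transvection (0 : Fin 5) 1 (1 : ZMod 2) * g ↔
      g 1 1 = g 0 0 ∧ (g 1 0 = 0 ∧ g 2 0 = 0 ∧ g 3 0 = 0 ∧ g 4 0 = 0) ∧
        (g 1 2 = 0 ∧ g 1 3 = 0 ∧ g 1 4 = 0) := by
  rw [Matrix.transvection, mul_add, add_mul, mul_one, one_mul, add_right_inj]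
  constructor
  · intro h
    have e := fun i j => congrFun (congrFun h i) j
    have h00 := e 0 0; have h01 := e 0 1; have h02 := e 0 2; have h03 := e 0 3; have h04 := e 0 4
    have h21 := e 2 1; have h31 := e 3 1; have h41 := e 4 1
    simp [Matrix.mul_apply, Fin.sum_univ_succ, Matrix.single] at h00 h01 h02 h03 h04 h21 h31 h41
    refine ⟨?_, ⟨?_, ?_, ?_, ?_⟩, ?_, ?_, ?_⟩ <;> simp_all
  · rintro ⟨h1, ⟨h2, h3, h4, h5⟩, h6, h7, h8⟩
    ext i j
    fin_cases i <;> fin_cases j <;> simp [Matrix.mul_apply, Fin.sum_univ_succ, Matrix.single, *]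

/-- In the special linear group of dimension 5 over the field with two elements, the centraliser of a transvection has order 21504 = 2 ^ 7 · 168 (it is an extension of an extraspecial group of order 2 ^ 7 by the simple group of order 168). -/
theorem result (s : Matrix.SpecialLinearGroup (Fin 5) (ZMod 2)) (hs : (s : Matrix (Fin 5) (Fin 5) (ZMod 2)) = Matrix.transvection 0 1 1) : Nat.card (Subgroup.centralizer ({s} : Set (Matrix.SpecialLinearGroup (Fin 5) (ZMod 2)))) = 21504 := by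
  classical
  have hmem : ∀ g : Matrix.SpecialLinearGroup (Fin 5) (ZMod 2),
      g ∈ Subgroup.centralizer ({s} : Set _) ↔
        (g : Matrix (Fin 5) (Fin 5) (ZMod 2)) * Matrix.transvection (0 : Fin 5) 1 (1 : ZMod 2) =
          Matrix.transvection (0 : Fin 5) 1 (1 : ZMod 2) * g := by
    intro g
    rw [Subgroup.mem_centralizer_singleton_iff, ← hs]
    exact ⟨fun h => congrArg Subtype.val h, fun h => Subtype.ext h⟩
  have hdet : ∀ A : GL (Fin 3) (ZMod 2), (A : Matrix (Fin 3) (Fin 3) (ZMod 2)).det = 1 := fun A => by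
    have h := ((Matrix.isUnit_iff_isUnit_det _).1 A.isUnit).ne_zero
    revert h
    generalize (A : Matrix (Fin 3) (Fin 3) (ZMod 2)).det = x
    revert x
    decide
  let f : ZMod 2 × (Fin 3 → ZMod 2) × (Fin 3 → ZMod 2) × GL (Fin 3) (ZMod 2) →
      Subgroup.centralizer ({s} : Set (Matrix.SpecialLinearGroup (Fin 5) (ZMod 2))) := fun x =>
    ⟨⟨mk x.1 x.2.1 x.2.2.1 x.2.2.2, (det_mk _ _ _ _).trans (hdet _)⟩, (hmem _).2 ((commute_iff _).2 (by
      simp [mk]))⟩
  have hf : Function.Bijective f := by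
    constructor
    · intro x y h
      have e := fun i j => congrFun (congrFun (congrArg (fun z => ((z.1 :
        Matrix.SpecialLinearGroup (Fin 5) (ZMod 2)) : Matrix (Fin 5) (Fin 5) (ZMod 2))) h) i) j
      refine Prod.ext (e 0 1) (Prod.ext ?_ (Prod.ext ?_ (Units.ext ?_)))
      · funext j; fin_cases j <;> [exact e 0 2; exact e 0 3; exact e 0 4]
      · funext j; fin_cases j <;> [exact e 2 1; exact e 3 1; exact e 4 1]
      · ext i j
        fin_cases i <;> fin_cases j <;>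
          [exact e 2 2; exact e 2 3; exact e 2 4; exact e 3 2; exact e 3 3; exact e 3 4; exact e 4 2;
           exact e 4 3; exact e 4 4]
    · rintro ⟨g, hg⟩
      obtain ⟨h1, ⟨h2, h3, h4, h5⟩, h6, h7, h8⟩ := (commute_iff _).1 ((hmem g).1 hg)
      obtain ⟨M, hMdef⟩ : ∃ M, M = (g : Matrix (Fin 5) (Fin 5) (ZMod 2)) := ⟨_, rfl⟩
      rw [← hMdef] at h1 h2 h3 h4 h5 h6 h7 h8
      have h00 : M 0 0 = 1 := by
        have hne : M 0 0 ≠ 0 := fun h0 => by
          have : M.det = 0 := Matrix.det_eq_zero_of_column_eq_zero 0 fun i => by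
            fin_cases i <;> assumption
          rw [hMdef, g.2] at this
          exact one_ne_zero this
        revert hne
        generalize M 0 0 = x
        revert x
        decide
      rw [h00] at h1
      let A : Matrix (Fin 3) (Fin 3) (ZMod 2) := !![M 2 2, M 2 3, M 2 4; M 3 2, M 3 3, M 3 4; M 4 2, M 4 3, M 4 4]
      have hM : mk (M 0 1) ![M 0 2, M 0 3, M 0 4] ![M 2 1, M 3 1, M 4 1] A = M := by
        ext i j
        fin_cases i <;> fin_cases j <;> simp [mk, A, h00, h1, h2, h3, h4, h5, h6, h7, h8]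
      have hA : A.det ≠ 0 := by
        rw [← det_mk (M 0 1) ![M 0 2, M 0 3, M 0 4] ![M 2 1, M 3 1, M 4 1] A, hM, hMdef, g.2]
        exact one_ne_zero
      exact ⟨(M 0 1, ![M 0 2, M 0 3, M 0 4], ![M 2 1, M 3 1, M 4 1], Matrix.GeneralLinearGroup.mkOfDetNeZero A hA), Subtype.ext (Subtype.ext (hM.trans hMdef))⟩
  haveI : Fact (Nat.Prime 2) := ⟨Nat.prime_two⟩
  rw [← Nat.card_congr (Equiv.ofBijective f hf)]
  rw [Nat.card_prod, Nat.card_prod, Nat.card_prod, Matrix.card_GL_field, Nat.card_fun]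
  simp [Fin.prod_univ_succ]

end Cfsg.Agent.S0445
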