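import Cfsg.Statements.S0256
import Cfsg.Agent.Lib.Classical.GL2
import Cfsg.Agent.Lib.Classical.SmallIso
import Cfsg.Agent.Lib.Classical.PermModel

set_option autoImplicit false
open Cfsg

namespace Cfsg.Agent.S0256

/-- Matrices of a binary four-dimensional space. -/
abbrev M4 : Type := Matrix (Fin 4) (Fin 4) (ZMod 2)

/-- The objects. -/
def objTab : Fin 8 → Finset M4 := ![
  {!![0, 0, 0, 1; 0, 0, 1, 0; 0, 1, 0, 0; 1, 0, 0, 0], !![0, 0, 1, 0; 0, 0, 1, 1; 1, 1, 0, 0; 0, 1, 0, 0], !![0, 0, 1, 1; 0, 0, 0, 1; 1, 0, 0, 1; 1, 1, 1, 0], !![0, 1, 0, 0; 1, 0, 1, 1; 0, 1, 0, 1; 0, 1, 1, 0], !![0, 1, 0, 1; 1, 0, 0, 0; 0, 0, 0, 1; 1, 0, 1, 0], !![0, 1, 1, 0; 1, 0, 1, 0; 1, 1, 0, 1; 0, 0, 1, 0], !![0, 1, 1, 1; 1, 0, 0, 1; 1, 0, 0, 0; 1, 1, 0, 0]},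
  {!![0, 0, 0, 1; 0, 0, 1, 0; 0, 1, 0, 0; 1, 0, 0, 0], !![0, 0, 1, 0; 0, 0, 1, 1; 1, 1, 0, 1; 0, 1, 1, 0], !![0, 0, 1, 1; 0, 0, 0, 1; 1, 0, 0, 0; 1, 1, 0, 0], !![0, 1, 0, 0; 1, 0, 1, 0; 0, 1, 0, 1; 0, 0, 1, 0], !![0, 1, 0, 1; 1, 0, 0, 1; 0, 0, 0, 1; 1, 1, 1, 0], !![0, 1, 1, 0; 1, 0, 1, 1; 1, 1, 0, 0; 0, 1, 0, 0], !![0, 1, 1, 1; 1, 0, 0, 0; 1, 0, 0, 1; 1, 0, 1, 0]},
  {!![0, 0, 0, 1; 0, 0, 1, 0; 0, 1, 0, 1; 1, 0, 1, 0], !![0, 0, 1, 0; 0, 0, 1, 1; 1, 1, 0, 0; 0, 1, 0, 0], !![0, 0, 1, 1; 0, 0, 0, 1; 1, 0, 0, 0; 1, 1, 0, 0], !![0, 1, 0, 0; 1, 0, 0, 1; 0, 0, 0, 1; 0, 1, 1, 0], !![0, 1, 0, 1; 1, 0, 1, 0; 0, 1, 0, 0; 1, 0, 0, 0], !![0, 1, 1, 0; 1, 0, 0, 0; 1, 0, 0, 1; 0, 0, 1, 0], !![0, 1, 1, 1; 1, 0, 1, 1; 1, 1, 0, 1; 1, 1, 1, 0]},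
  {!![0, 0, 0, 1; 0, 0, 1, 0; 0, 1, 0, 1; 1, 0, 1, 0], !![0, 0, 1, 0; 0, 0, 1, 1; 1, 1, 0, 1; 0, 1, 1, 0], !![0, 0, 1, 1; 0, 0, 0, 1; 1, 0, 0, 1; 1, 1, 1, 0], !![0, 1, 0, 0; 1, 0, 0, 0; 0, 0, 0, 1; 0, 0, 1, 0], !![0, 1, 0, 1; 1, 0, 1, 1; 0, 1, 0, 0; 1, 1, 0, 0], !![0, 1, 1, 0; 1, 0, 0, 1; 1, 0, 0, 0; 0, 1, 0, 0], !![0, 1, 1, 1; 1, 0, 1, 0; 1, 1, 0, 0; 1, 0, 0, 0]},
  {!![0, 0, 0, 1; 0, 0, 1, 1; 0, 1, 0, 0; 1, 1, 0, 0], !![0, 0, 1, 0; 0, 0, 0, 1; 1, 0, 0, 0; 0, 1, 0, 0], !![0, 0, 1, 1; 0, 0, 1, 0; 1, 1, 0, 1; 1, 0, 1, 0], !![0, 1, 0, 0; 1, 0, 1, 1; 0, 1, 0, 1; 0, 1, 1, 0], !![0, 1, 0, 1; 1, 0, 0, 1; 0, 0, 0, 1; 1, 1, 1, 0], !![0, 1, 1, 0; 1, 0, 0, 0; 1, 0, 0, 1; 0, 0, 1, 0], !![0, 1, 1, 1; 1, 0, 1, 0; 1, 1, 0, 0; 1, 0, 0, 0]},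
  {!![0, 0, 0, 1; 0, 0, 1, 1; 0, 1, 0, 0; 1, 1, 0, 0], !![0, 0, 1, 0; 0, 0, 0, 1; 1, 0, 0, 1; 0, 1, 1, 0], !![0, 0, 1, 1; 0, 0, 1, 0; 1, 1, 0, 0; 1, 0, 0, 0], !![0, 1, 0, 0; 1, 0, 1, 0; 0, 1, 0, 1; 0, 0, 1, 0], !![0, 1, 0, 1; 1, 0, 0, 0; 0, 0, 0, 1; 1, 0, 1, 0], !![0, 1, 1, 0; 1, 0, 0, 1; 1, 0, 0, 0; 0, 1, 0, 0], !![0, 1, 1, 1; 1, 0, 1, 1; 1, 1, 0, 1; 1, 1, 1, 0]},
  {!![0, 0, 0, 1; 0, 0, 1, 1; 0, 1, 0, 1; 1, 1, 1, 0], !![0, 0, 1, 0; 0, 0, 0, 1; 1, 0, 0, 0; 0, 1, 0, 0], !![0, 0, 1, 1; 0, 0, 1, 0; 1, 1, 0, 0; 1, 0, 0, 0], !![0, 1, 0, 0; 1, 0, 0, 1; 0, 0, 0, 1; 0, 1, 1, 0], !![0, 1, 0, 1; 1, 0, 1, 1; 0, 1, 0, 0; 1, 1, 0, 0], !![0, 1, 1, 0; 1, 0, 1, 0; 1, 1, 0, 1; 0, 0, 1, 0], !![0, 1, 1, 1; 1, 0, 0, 0; 1, 0, 0, 1; 1, 0, 1, 0]},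
  {!![0, 0, 0, 1; 0, 0, 1, 1; 0, 1, 0, 1; 1, 1, 1, 0], !![0, 0, 1, 0; 0, 0, 0, 1; 1, 0, 0, 1; 0, 1, 1, 0], !![0, 0, 1, 1; 0, 0, 1, 0; 1, 1, 0, 1; 1, 0, 1, 0], !![0, 1, 0, 0; 1, 0, 0, 0; 0, 0, 0, 1; 0, 0, 1, 0], !![0, 1, 0, 1; 1, 0, 1, 0; 0, 1, 0, 0; 1, 0, 0, 0], !![0, 1, 1, 0; 1, 0, 1, 1; 1, 1, 0, 0; 0, 1, 0, 0], !![0, 1, 1, 1; 1, 0, 0, 1; 1, 0, 0, 0; 1, 1, 0, 0]}]

theorem objTab_injective : Function.Injective objTab := by decide +kernel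

/-- The congruence twist. -/
def tw (g : Matrix.SpecialLinearGroup (Fin 4) (ZMod 2)) : M4 := Matrix.transpose g.1

/-- The permutation of a generator. -/
def perm0 : Equiv.Perm (Fin 8) :=
  ⟨![5, 6, 4, 7, 2, 0, 1, 3], ![5, 6, 4, 7, 2, 0, 1, 3], by decide, by decide⟩

/-- The permutation of a generator. -/
def perm1 : Equiv.Perm (Fin 8) :=
  ⟨![7, 2, 1, 5, 6, 3, 4, 0], ![7, 2, 1, 5, 6, 3, 4, 0], by decide, by decide⟩

/-- The permutation of a generator. -/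
def perm2 : Equiv.Perm (Fin 8) :=
  ⟨![1, 0, 7, 4, 3, 6, 5, 2], ![1, 0, 7, 4, 3, 6, 5, 2], by decide, by decide⟩

/-- The permutation of a generator. -/
def perm3 : Equiv.Perm (Fin 8) :=
  ⟨![4, 5, 6, 7, 0, 1, 2, 3], ![4, 5, 6, 7, 0, 1, 2, 3], by decide, by decide⟩

/-- The permutation of a generator. -/
def perm4 : Equiv.Perm (Fin 8) :=
  ⟨![1, 0, 7, 6, 5, 4, 3, 2], ![1, 0, 7, 6, 5, 4, 3, 2], by decide, by decide⟩

/-- The permutation of a generator. -/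
def perm5 : Equiv.Perm (Fin 8) :=
  ⟨![2, 7, 0, 5, 6, 3, 4, 1], ![2, 7, 0, 5, 6, 3, 4, 1], by decide, by decide⟩

/-- The permutation of a generator. -/
def perm6 : Equiv.Perm (Fin 8) :=
  ⟨![2, 3, 0, 1, 6, 7, 4, 5], ![2, 3, 0, 1, 6, 7, 4, 5], by decide, by decide⟩

/-- The permutation of a generator. -/
def perm7 : Equiv.Perm (Fin 8) :=
  ⟨![1, 0, 3, 2, 7, 6, 5, 4], ![1, 0, 3, 2, 7, 6, 5, 4], by decide, by decide⟩

/-- The permutation of a generator. -/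
def perm8 : Equiv.Perm (Fin 8) :=
  ⟨![6, 5, 4, 7, 2, 1, 0, 3], ![6, 5, 4, 7, 2, 1, 0, 3], by decide, by decide⟩

/-- The permutation of a generator. -/
def perm9 : Equiv.Perm (Fin 8) :=
  ⟨![1, 0, 3, 2, 5, 4, 7, 6], ![1, 0, 3, 2, 5, 4, 7, 6], by decide, by decide⟩

/-- The permutation of a generator. -/
def perm10 : Equiv.Perm (Fin 8) :=
  ⟨![3, 2, 1, 0, 6, 7, 4, 5], ![3, 2, 1, 0, 6, 7, 4, 5], by decide, by decide⟩

/-- The permutation of a generator. -/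
def perm11 : Equiv.Perm (Fin 8) :=
  ⟨![5, 4, 6, 7, 1, 0, 2, 3], ![5, 4, 6, 7, 1, 0, 2, 3], by decide, by decide⟩

theorem act0 : ∀ l, Classical.PermModel.setAct tw
    (Matrix.SpecialLinearGroup.transvection (show (0 : Fin 4) ≠ 1 by decide) (1 : ZMod 2))
    (objTab l) = objTab (perm0 l) := by decide +kernel

theorem act1 : ∀ l, Classical.PermModel.setAct tw
    (Matrix.SpecialLinearGroup.transvection (show (0 : Fin 4) ≠ 2 by decide) (1 : ZMod 2))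
    (objTab l) = objTab (perm1 l) := by decide +kernel

theorem act2 : ∀ l, Classical.PermModel.setAct tw
    (Matrix.SpecialLinearGroup.transvection (show (0 : Fin 4) ≠ 3 by decide) (1 : ZMod 2))
    (objTab l) = objTab (perm2 l) := by decide +kernel

theorem act3 : ∀ l, Classical.PermModel.setAct tw
    (Matrix.SpecialLinearGroup.transvection (show (1 : Fin 4) ≠ 0 by decide) (1 : ZMod 2))
    (objTab l) = objTab (perm3 l) := by decide +kernel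

theorem act4 : ∀ l, Classical.PermModel.setAct tw
    (Matrix.SpecialLinearGroup.transvection (show (1 : Fin 4) ≠ 2 by decide) (1 : ZMod 2))
    (objTab l) = objTab (perm4 l) := by decide +kernel

theorem act5 : ∀ l, Classical.PermModel.setAct tw
    (Matrix.SpecialLinearGroup.transvection (show (1 : Fin 4) ≠ 3 by decide) (1 : ZMod 2))
    (objTab l) = objTab (perm5 l) := by decide +kernel

theorem act6 : ∀ l, Classical.PermModel.setAct tw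
    (Matrix.SpecialLinearGroup.transvection (show (2 : Fin 4) ≠ 0 by decide) (1 : ZMod 2))
    (objTab l) = objTab (perm6 l) := by decide +kernel

theorem act7 : ∀ l, Classical.PermModel.setAct tw
    (Matrix.SpecialLinearGroup.transvection (show (2 : Fin 4) ≠ 1 by decide) (1 : ZMod 2))
    (objTab l) = objTab (perm7 l) := by decide +kernel

theorem act8 : ∀ l, Classical.PermModel.setAct tw
    (Matrix.SpecialLinearGroup.transvection (show (2 : Fin 4) ≠ 3 by decide) (1 : ZMod 2))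
    (objTab l) = objTab (perm8 l) := by decide +kernel

theorem act9 : ∀ l, Classical.PermModel.setAct tw
    (Matrix.SpecialLinearGroup.transvection (show (3 : Fin 4) ≠ 0 by decide) (1 : ZMod 2))
    (objTab l) = objTab (perm9 l) := by decide +kernel

theorem act10 : ∀ l, Classical.PermModel.setAct tw
    (Matrix.SpecialLinearGroup.transvection (show (3 : Fin 4) ≠ 1 by decide) (1 : ZMod 2))
    (objTab l) = objTab (perm10 l) := by decide +kernel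

theorem act11 : ∀ l, Classical.PermModel.setAct tw
    (Matrix.SpecialLinearGroup.transvection (show (3 : Fin 4) ≠ 2 by decide) (1 : ZMod 2))
    (objTab l) = objTab (perm11 l) := by decide +kernel

/-- PSL_4(2) is isomorphic to A_8. -/
theorem result {F : Type*} [Field F] [Fintype F] (hF : Fintype.card F = 2) : Nonempty (Matrix.ProjectiveSpecialLinearGroup (Fin 4) F ≃* alternatingGroup (Fin 8)) := by
  let e : F ≃+* ZMod 2 := FiniteField.ringEquivOfCardEq (by simp [hF])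
  have hs := Classical.Linear.isSimpleGroup_PSL (n := Fin 4) (F := ZMod 2) (by simp)
  have hz : Subgroup.center (Matrix.SpecialLinearGroup (Fin 4) (ZMod 2)) = ⊥ := by
    rw [← Subgroup.card_eq_one, Classical.Linear.natCard_center_SL, ZMod.card]; rfl
  obtain ⟨f, hf⟩ := Classical.PermModel.exists_injective_hom (fun (a : Equiv.Perm (Fin 8)) i => a i)
    (fun _ => rfl) (fun _ _ _ => rfl) (fun _ _ h => Equiv.ext h) tw
    (fun g h => Matrix.transpose_mul g.1 h.1) (fun z hz' x => by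
      rw [hz, Subgroup.mem_bot] at hz'
      subst hz'
      show (1 : M4) * x * Matrix.transpose (1 : M4) = x
      simp)
    objTab objTab_injective _ (Classical.PermModel.closure_zmod_transvections 2) (by
      rintro s ⟨i, j, h, rfl⟩
      fin_cases i <;> fin_cases j <;> try exact absurd rfl h
      · exact ⟨perm0, act0⟩
      · exact ⟨perm1, act1⟩
      · exact ⟨perm2, act2⟩
      · exact ⟨perm3, act3⟩
      · exact ⟨perm4, act4⟩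
      · exact ⟨perm5, act5⟩
      · exact ⟨perm6, act6⟩
      · exact ⟨perm7, act7⟩
      · exact ⟨perm8, act8⟩
      · exact ⟨perm9, act9⟩
      · exact ⟨perm10, act10⟩
      · exact ⟨perm11, act11⟩) hs
    ⟨_, 0, fun h => by rw [act0] at h; exact absurd (objTab_injective h) (by decide)⟩
  obtain ⟨g⟩ := Classical.SmallIso.nonempty_mulEquiv_alternating f hf (by
    have h1 := Classical.Linear.gcd_mul_natCard_PSL_fin (F := ZMod 2) (k := 4) (by norm_num)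
    have h2 := Classical.Linear.mul_natCard_SL_fin (F := ZMod 2) (k := 4) (by norm_num)
    rw [ZMod.card] at h1 h2
    rw [Fin.prod_univ_four] at h2
    norm_num [Nat.reduceGcd, -Nat.card_eq_fintype_card] at h1 h2
    rw [Fintype.card_fin, show Nat.factorial 8 = 40320 from rfl]
    omega)
  exact ⟨(Classical.SmallIso.pslCongr e).trans g⟩

end Cfsg.Agent.S0256
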