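import Cfsg.Statements.S1755
import Cfsg.Agent.Lib.Components.Basic
import Cfsg.Agent.InvChar.Core
import Mathlib

set_option linter.all false

set_option autoImplicit false
open Cfsg

namespace Cfsg.Agent.S1755

theorem fitting_normal (H : Type*) [Group H] : (Cfsg.fittingSubgroup H).Normal :=
  Subgroup.sSup_normal {N : Subgroup H | N.Normal ∧ Group.IsNilpotent N} (fun _ hN => hN.1)

theorem gfit_normal (H : Type*) [Group H] : (Cfsg.generalizedFittingSubgroup H).Normal := by
  haveI := fitting_normal H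
  haveI : (Cfsg.layer H).Normal := by
    haveI := Cfsg.Agent.Components.Basic.layer_characteristic (G := H)
    infer_instance
  exact Subgroup.sup_normal _ _

theorem center_le_gfit (H : Type*) [Group H] :
    Subgroup.center H ≤ Cfsg.generalizedFittingSubgroup H :=
  le_trans (le_sSup (show Subgroup.center H ∈ {N : Subgroup H | N.Normal ∧ Group.IsNilpotent N} from
    ⟨inferInstance, (Group.isNilpotent_iff _).2 ⟨1, by
      rw [Subgroup.upperCentralSeries_one, Subgroup.eq_top_iff']
      exact fun x => Subgroup.mem_center_iff.2 fun y => Subtype.ext (Subgroup.mem_center_iff.1 x.2 y)⟩⟩)) le_sup_right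

theorem eq_of_orderOf_two {A : Type*} [Group A] [Finite A] [IsCyclic A] {a b : A}
    (ha : orderOf a = 2) (hb : orderOf b = 2) : a = b := by
  classical
  haveI := Fintype.ofFinite A
  by_contra hne
  have h := IsCyclic.card_pow_eq_one_le (α := A) (n := 2) (by norm_num)
  have hsub : ({1, a, b} : Finset A) ⊆ Finset.univ.filter (fun x : A => x ^ 2 = 1) := by
    intro x hx
    simp only [Finset.mem_insert, Finset.mem_singleton] at hx
    rw [Finset.mem_filter]
    refine ⟨Finset.mem_univ _, ?_⟩
    rcases hx with rfl | rfl | rfl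
    · exact one_pow 2
    · rw [← ha, pow_orderOf_eq_one]
    · rw [← hb, pow_orderOf_eq_one]
  have ha1 : (1 : A) ≠ a := by intro e; rw [← e] at ha; simp at ha
  have hb1 : (1 : A) ≠ b := by intro e; rw [← e] at hb; simp at hb
  have h3 : ({1, a, b} : Finset A).card = 3 :=
    Finset.card_eq_three.2 ⟨1, a, b, ha1, hb1, hne, rfl⟩
  have := Finset.card_le_card hsub
  omega

theorem sub_eq_of_orderOf_two {A : Type*} [Group A] [Finite A] (B : Subgroup A) (hB : IsCyclic B)
    {a b : A} (haB : a ∈ B) (hbB : b ∈ B) (ha : orderOf a = 2) (hb : orderOf b = 2) : a = b := by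
  haveI := hB
  have h1 : orderOf (⟨a, haB⟩ : B) = 2 := by rw [← Subgroup.orderOf_coe]; exact ha
  have h2 : orderOf (⟨b, hbB⟩ : B) = 2 := by rw [← Subgroup.orderOf_coe]; exact hb
  exact congrArg Subtype.val (eq_of_orderOf_two h1 h2)

theorem char_mem {A : Type*} [Group A] {B : Subgroup A} (hB : B.Characteristic) (φ : A ≃* A)
    {x : A} (hx : x ∈ B) : φ x ∈ B := by
  have h := hB.fixed φ
  rw [← h] at hx
  exact hx

theorem main {G : Type*} [Group G] [Finite G] (z : G) (hz : orderOf z = 2) (C : Subgroup G)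
    (hC : C = Subgroup.centralizer ({z} : Set G)) (Q : Subgroup C) (hQn : Q.Normal)
    (hzC : z ∈ C) (hzQ : (⟨z, hzC⟩ : C) ∈ Q) (hQ : Cfsg.IsOfSymplecticType Q)
    (B : Subgroup Q) (hBc : B.Characteristic) (hBa : IsMulCommutative B) (g : G) :
    ((B.map Q.subtype).map C.subtype).map (MulAut.conj g).toMonoidHom = (B.map Q.subtype).map C.subtype ∨
      ((B.map Q.subtype).map C.subtype).map (MulAut.conj g).toMonoidHom ⊓ (B.map Q.subtype).map C.subtype = ⊥ := by
  classical
  set B' := (B.map Q.subtype).map C.subtype with hB'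
  obtain ⟨hQp, hQc⟩ := hQ
  have hBcyc : IsCyclic B := hQc B hBc hBa
  have hZcyc : IsCyclic (Subgroup.center ↥Q) := hQc _ inferInstance inferInstance
  have hzcen : (⟨z, hzC⟩ : C) ∈ Subgroup.center ↥C := by
    rw [Subgroup.mem_center_iff]
    intro c
    apply Subtype.ext
    have := c.2
    exact Subgroup.mem_centralizer_singleton_iff.1 (hC ▸ this)
  set w : Q := ⟨⟨z, hzC⟩, hzQ⟩ with hw
  have hwo : orderOf w = 2 := by
    rw [← hz, ← Subgroup.orderOf_coe, ← Subgroup.orderOf_coe]
  have hwZ : w ∈ Subgroup.center ↥Q := by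
    rw [Subgroup.mem_center_iff]
    intro q
    exact Subtype.ext (Subgroup.mem_center_iff.1 hzcen q)
  -- every involution of `B'` is `z`
  have huniq : ∀ u ∈ B', orderOf u = 2 → u = z := by
    intro u hu huo
    obtain ⟨u1, hu1, rfl⟩ := hu
    obtain ⟨u2, hu2, rfl⟩ := hu1
    have hu2o : orderOf u2 = 2 := by
      rw [← huo]
      exact ((orderOf_injective _ C.subtype_injective _).trans
        (orderOf_injective _ Q.subtype_injective _)).symm
    have hu2Z : u2 ∈ Subgroup.center ↥Q := by
      rw [Subgroup.mem_center_iff]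
      intro q
      have hq : MulAut.conj q u2 ∈ B := char_mem hBc _ hu2
      have : MulAut.conj q u2 = u2 :=
        sub_eq_of_orderOf_two B hBcyc hq hu2 (by rw [MulEquiv.orderOf_eq]; exact hu2o) hu2o
      rw [MulAut.conj_apply] at this
      exact mul_inv_eq_iff_eq_mul.1 this
    have := sub_eq_of_orderOf_two _ hZcyc hu2Z hwZ hu2o hwo
    rw [this]
    rfl
  by_cases hint : B'.map (MulAut.conj g).toMonoidHom ⊓ B' = ⊥
  · exact Or.inr hint
  left
  -- both contain an involution
  obtain ⟨⟨x, hxg, hxB⟩, hx1'⟩ := (Subgroup.ne_bot_iff_exists_ne_one).1 hint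
  have hx1 : x ≠ 1 := fun e => hx1' (Subtype.ext e)
  obtain ⟨v, hv, hvo⟩ : ∃ v : G, v ∈ Subgroup.zpowers x ∧ orderOf v = 2 := by
    have h2 : IsPGroup 2 B' := ((hQp.to_subgroup B).map _).map _
    obtain ⟨k, hk⟩ := IsPGroup.iff_orderOf.1 h2 ⟨x, hxB⟩
    rw [← Subgroup.orderOf_coe] at hk
    cases k with
    | zero => exact absurd (orderOf_eq_one_iff.1 (by simpa using hk)) hx1
    | succ k =>
      refine ⟨x ^ (2 ^ k), Subgroup.pow_mem _ (Subgroup.mem_zpowers x) _, ?_⟩
      rw [orderOf_pow, show orderOf x = 2 ^ (k + 1) from hk, pow_succ,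
        Nat.gcd_eq_right (Dvd.intro 2 rfl), Nat.mul_div_cancel_left _ (Nat.two_pow_pos k)]
  have hvB : v ∈ B' := (Subgroup.zpowers_le.2 hxB) hv
  have hvg : v ∈ B'.map (MulAut.conj g).toMonoidHom := (Subgroup.zpowers_le.2 hxg) hv
  have hvz : v = z := huniq v hvB hvo
  obtain ⟨v', hv', hvv'⟩ := hvg
  have hv'o : orderOf v' = 2 := by
    rw [← hvo, ← hvv']
    exact (MulEquiv.orderOf_eq (MulAut.conj g) v').symm
  have hv'z : v' = z := huniq v' hv' hv'o
  have hgC : g ∈ C := by
    rw [hv'z, hvz] at hvv'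
    simp only [MulEquiv.coe_toMonoidHom, MulAut.conj_apply] at hvv'
    rw [hC, Subgroup.mem_centralizer_singleton_iff]
    exact mul_inv_eq_iff_eq_mul.1 hvv'
  set a : C := ⟨g, hgC⟩
  apply le_antisymm
  · rintro _ ⟨b, hb, rfl⟩
    obtain ⟨b1, hb1, rfl⟩ := hb
    obtain ⟨b2, hb2, rfl⟩ := hb1
    exact ⟨_, ⟨_, char_mem hBc (MulAut.conjNormal a) hb2, rfl⟩, rfl⟩
  · rintro _ ⟨b1, ⟨b2, hb2, rfl⟩, rfl⟩
    refine ⟨_, ⟨_, ⟨_, char_mem hBc (MulAut.conjNormal a⁻¹) hb2, rfl⟩, rfl⟩, ?_⟩
    simp only [MulEquiv.coe_toMonoidHom, MulAut.conj_apply, Subgroup.coe_subtype,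
      MulAut.conjNormal_apply, Subgroup.coe_mul, InvMemClass.coe_inv, inv_inv, a]
    group

/-- Let G be a finite group and let z be an involution of G such that Q, the generalized Fitting subgroup of the centralizer C of z, is a 2-group of symplectic type (every characteristic abelian subgroup of Q is cyclic). Let B be a characteristic abelian subgroup of Q, viewed as a subgroup of G. Then for every g in G, the conjugate of B by g either equals B or meets B trivially. -/
theorem result {G : Type*} [Group G] [Finite G] (z : G) (hz : orderOf z = 2) (hQ : Cfsg.IsOfSymplecticType ↥(Cfsg.generalizedFittingSubgroup ↥(Subgroup.centralizer ({z} : Set G))))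
    (B : Subgroup ↥(Cfsg.generalizedFittingSubgroup ↥(Subgroup.centralizer ({z} : Set G)))) (hBc : B.Characteristic) (hBa : IsMulCommutative ↥B) (g : G) :
    ((B.map (Cfsg.generalizedFittingSubgroup ↥(Subgroup.centralizer ({z} : Set G))).subtype).map (Subgroup.centralizer ({z} : Set G)).subtype).map (MulAut.conj g).toMonoidHom =
        (B.map (Cfsg.generalizedFittingSubgroup ↥(Subgroup.centralizer ({z} : Set G))).subtype).map (Subgroup.centralizer ({z} : Set G)).subtype ∨
      ((B.map (Cfsg.generalizedFittingSubgroup ↥(Subgroup.centralizer ({z} : Set G))).subtype).map (Subgroup.centralizer ({z} : Set G)).subtype).map (MulAut.conj g).toMonoidHom ⊓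
        (B.map (Cfsg.generalizedFittingSubgroup ↥(Subgroup.centralizer ({z} : Set G))).subtype).map (Subgroup.centralizer ({z} : Set G)).subtype = ⊥ := by
  exact main z hz _ rfl _ (gfit_normal _) (Subgroup.mem_centralizer_singleton_iff.2 rfl)
    (center_le_gfit _ (Subgroup.mem_center_iff.2 fun c =>
      Subtype.ext (Subgroup.mem_centralizer_singleton_iff.1 c.2))) hQ B hBc hBa g

end Cfsg.Agent.S1755
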