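import Cfsg.Statements.S0223
import Cfsg.Agent.Lib.Involutions.StronglyEmbedded

set_option autoImplicit false
open Cfsg

namespace Cfsg.Agent.S0223

/-- Let H be a proper subgroup of even order of the finite group G. Then H is strongly embedded if and only if (i) C_G(t) ≤ H for every involution t of H and (ii) H controls fusion of its involutions: involutions of H conjugate in G are conjugate in H. -/
theorem result {G : Type*} [Group G] [Finite G] (H : Subgroup G) (hH : H ≠ ⊤) (heven : Even (Nat.card H)) : Cfsg.IsStronglyEmbedded H ↔ ((∀ t ∈ H, orderOf t = 2 → Subgroup.centralizer ({t} : Set G) ≤ H) ∧ (∀ t ∈ H, ∀ s ∈ H, orderOf t = 2 → orderOf s = 2 → IsConj t s → ∃ h ∈ H, h * t * h⁻¹ = s)) := by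
  constructor
  · intro h
    refine ⟨fun t ht ht2 => Involutions.StronglyEmbedded.centralizer_le h ht ht2,
      fun t ht s hs ht2 _ hts => ?_⟩
    obtain ⟨g, hg⟩ := isConj_iff.mp hts
    exact ⟨g, Involutions.StronglyEmbedded.mem_of_conj h ht ht2 (hg.symm ▸ hs), hg⟩
  · rintro ⟨h1, h2⟩
    refine Involutions.StronglyEmbedded.of_conj hH heven fun t ht ht2 g hg => ?_
    obtain ⟨k, hk, hkt⟩ := h2 t ht (g * t * g⁻¹) hg ht2
      (by rw [Involutions.Basic.orderOf_conj, ht2]) (isConj_iff.mpr ⟨g, rfl⟩)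
    have hc : k⁻¹ * g ∈ Subgroup.centralizer ({t} : Set G) := by
      rw [Subgroup.mem_centralizer_singleton_iff]
      calc k⁻¹ * g * t = k⁻¹ * (g * t * g⁻¹) * g := by group
        _ = k⁻¹ * (k * t * k⁻¹) * g := by rw [hkt]
        _ = t * (k⁻¹ * g) := by group
    simpa using mul_mem hk (h1 t ht ht2 hc)

end Cfsg.Agent.S0223
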