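import Cfsg.Statements.S0824
import Cfsg.Agent.Lib.Forms.SmallPerm
-- import your own Cfsg.Agent.* helpers here

set_option autoImplicit false
open Cfsg

namespace Cfsg.Agent.S0824

open Matrix Cfsg.Agent.Forms.QuadStd Cfsg.Agent.Forms.Reflections Cfsg.Agent.Forms.SmallPerm

set_option maxRecDepth 100000
set_option maxHeartbeats 1000000

/-- index type -/
abbrev I : Type := (Fin 1 ⊕ Fin 1) ⊕ Fin 2

/-- coordinate -/
noncomputable def co (z : I) : (I → ZMod 2) →ₗ[ZMod 2] ZMod 2 :=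
  LinearMap.proj (R := ZMod 2) (φ := fun _ : I => ZMod 2) z

/-- the form -/
noncomputable def qf : QuadraticForm (ZMod 2) (I → ZMod 2) :=
  QuadraticMap.linMulLin (co (Sum.inl (Sum.inl 0))) (co (Sum.inl (Sum.inr 0))) +
  (QuadraticMap.linMulLin (co (Sum.inr 0)) (co (Sum.inr 0)) +
    QuadraticMap.linMulLin (co (Sum.inr 0)) (co (Sum.inr 1)) +
    QuadraticMap.linMulLin (co (Sum.inr 1)) (co (Sum.inr 1)))

theorem qf_eq : ⇑qf = Cfsg.quadFormMinus 1 (ZMod 2) 1 1 := by
  funext v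
  simp [qf, co, Cfsg.quadFormMinus, sq]

/-- the five singular vectors -/
def pt : Fin 5 → I → ZMod 2 :=
  ![Sum.elim (Sum.elim (fun _ => 1) (fun _ => 0)) ![0, 0],
    Sum.elim (Sum.elim (fun _ => 0) (fun _ => 1)) ![0, 0],
    Sum.elim (Sum.elim (fun _ => 1) (fun _ => 1)) ![1, 0],
    Sum.elim (Sum.elim (fun _ => 1) (fun _ => 1)) ![0, 1],
    Sum.elim (Sum.elim (fun _ => 1) (fun _ => 1)) ![1, 1]]

theorem pt_class : ∀ v : I → ZMod 2, Cfsg.quadFormMinus 1 (ZMod 2) 1 1 v = 0 → v ≠ 0 →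
    ∃ i, v = pt i := by decide

theorem pt_single : ∀ z : I, ∃ a b : Fin 5, ∃ s t : ZMod 2, ∃ c : Fin 5, ∃ u : ZMod 2,
    Pi.single z (1 : ZMod 2) = s • pt a + t • pt b + u • pt c := by decide

theorem pt_value : ∀ i j : Fin 5, i ≠ j →
    Cfsg.quadFormMinus 1 (ZMod 2) 1 1 (pt i - pt j) = 1 := by decide

theorem pt_refl : ∀ i j k : Fin 5, i ≠ j → pt k -
    QuadraticMap.polar (Cfsg.quadFormMinus 1 (ZMod 2) 1 1) (pt i - pt j) (pt k) • (pt i - pt j) =
      pt (Equiv.swap i j k) := by decide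

theorem pt_sing : ∀ i : Fin 5, Cfsg.quadFormMinus 1 (ZMod 2) 1 1 (pt i) = 0 ∧ pt i ≠ 0 := by decide

theorem pt_ne : ∀ i j : Fin 5, pt i = pt j → i = j := by decide

theorem pt_span : Submodule.span (ZMod 2) (Set.range pt) = ⊤ := by
  rw [eq_top_iff]
  intro v _
  rw [pi_eq_sum_univ' v]
  refine Submodule.sum_mem _ fun z _ => Submodule.smul_mem _ _ ?_
  obtain ⟨a, b, s, t, c, u, h⟩ := pt_single z
  rw [h]
  exact add_mem (add_mem (Submodule.smul_mem _ _ (Submodule.subset_span ⟨a, rfl⟩))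
    (Submodule.smul_mem _ _ (Submodule.subset_span ⟨b, rfl⟩)))
    (Submodule.smul_mem _ _ (Submodule.subset_span ⟨c, rfl⟩))

theorem equiv_s5 : Nonempty (↥(Cfsg.isometryGroup (ZMod 2) ⇑qf) ≃* Equiv.Perm (Fin 5)) := by
  obtain ⟨f⟩ : Nonempty ((⊤ : Subgroup (Cfsg.isometryGroup (ZMod 2) ⇑qf)) ≃* Equiv.Perm (Fin 5)) := by
    refine nonempty_permEquiv ⊤ pt pt_span 1 (fun i j hij => ?_)
      (fun σ hσ => Equiv.ext fun x => pt_ne _ _ (by simpa using hσ x)) (fun g _ => ?_)
    · refine ⟨reflect qf (pt i - pt j), trivial, fun x => ?_⟩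
      rw [act_reflect, qf_eq, pt_value i j hij, inv_one, one_mul, pt_refl i j x hij,
        MonoidHom.one_apply, one_smul]
      rfl
    · have hinjg : Function.Injective (act g) := fun x y hxy => by
        have := congrArg (act g⁻¹) hxy
        rwa [← act_mul, ← act_mul, inv_mul_cancel, act_one, act_one] at this
      have hcl : ∀ x, ∃ y, act g (pt x) = pt y := by
        intro x
        refine pt_class _ ?_ ?_
        · rw [← qf_eq, act_map, qf_eq]; exact (pt_sing x).1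
        · exact fun h => (pt_sing x).2 (hinjg (h.trans (map_zero _).symm))
      choose π hπ using hcl
      have hinj : Function.Injective π := fun x y hxy =>
        pt_ne _ _ (hinjg (by rw [hπ, hπ, hxy]))
      exact ⟨Equiv.ofBijective π (Finite.injective_iff_bijective.1 hinj), fun x => by
        rw [hπ, MonoidHom.one_apply, one_smul]; rfl⟩
  exact ⟨Subgroup.topEquiv.symm.trans f⟩


/-- O⁻_4(2) ≅ S_5: the isometry group of the form x y + z_1² + z_1 z_2 + z_2² over the field with 2 elements is isomorphic to the symmetric group on 5 letters. -/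
theorem result {F : Type*} [Field F] [Fintype F] (hF : Fintype.card F = 2) : Nonempty (↥(Cfsg.isometryGroup F (Cfsg.quadFormMinus 1 F 1 1)) ≃* Equiv.Perm (Fin 5)) := by
  let e : F ≃+* ZMod 2 := (ZMod.ringEquivOfPrime F Nat.prime_two hF).symm
  have h : ∀ v, e (Cfsg.quadFormMinus 1 F 1 1 v) = qf (e ∘ v) := fun v => by
    rw [qf_eq]; simp [Cfsg.quadFormMinus]
  obtain ⟨f⟩ := equiv_s5
  exact ⟨(isoCongr e h).trans f⟩

end Cfsg.Agent.S0824
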