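import Cfsg.Statements.S0255
import Cfsg.Agent.Lib.Classical.GL2
import Cfsg.Agent.Lib.Classical.SmallIso
import Cfsg.Agent.Lib.Classical.PermModel

set_option autoImplicit false
open Cfsg

namespace Cfsg.Agent.S0255

/-- The objects. -/
def objTab : Fin 7 → Finset (Matrix (Fin 2) (Fin 2) (ZMod 7)) := ![
  {!![0, 1; 6, 0], !![0, 6; 1, 0], !![2, 3; 3, 5], !![3, 5; 5, 4], !![4, 2; 2, 3], !![5, 4; 4, 2]},
  {!![1, 1; 5, 6], !![1, 5; 1, 6], !![2, 4; 4, 5], !![5, 3; 3, 2], !![6, 2; 6, 1], !![6, 6; 2, 1]},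
  {!![3, 1; 4, 4], !![3, 2; 2, 4], !![3, 4; 1, 4], !![4, 3; 6, 3], !![4, 5; 5, 3], !![4, 6; 3, 3]},
  {!![1, 4; 3, 6], !![1, 6; 2, 6], !![2, 2; 1, 5], !![5, 5; 6, 2], !![6, 1; 5, 1], !![6, 3; 4, 1]},
  {!![1, 2; 6, 6], !![1, 3; 4, 6], !![2, 1; 2, 5], !![5, 6; 5, 2], !![6, 4; 3, 1], !![6, 5; 1, 1]},
  {!![0, 2; 3, 0], !![0, 5; 4, 0], !![2, 6; 5, 5], !![3, 3; 6, 4], !![4, 4; 1, 3], !![5, 1; 2, 2]},
  {!![0, 3; 2, 0], !![0, 4; 5, 0], !![2, 5; 6, 5], !![3, 6; 3, 4], !![4, 1; 4, 3], !![5, 2; 1, 2]}]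

/-- The nonzero vectors labelling the objects. -/
def label : Fin 7 → Fin 3 → ZMod 2 := ![![1, 0, 0], ![0, 1, 0], ![1, 1, 0], ![0, 0, 1], ![1, 0, 1], ![0, 1, 1], ![1, 1, 1]]

/-- The index of a vector. -/
def index (v : Fin 3 → ZMod 2) : Fin 7 :=
  Fin.ofNat 7 ((v 0).val + 2 * (v 1).val + 4 * (v 2).val + 6)

/-- The image of a generator. -/
def lin0 : Matrix.SpecialLinearGroup (Fin 3) (ZMod 2) := ⟨!![0, 0, 1; 1, 0, 1; 0, 1, 0], by decide⟩

theorem act0 : ∀ i, Classical.PermModel.setAct Classical.PermModel.adj2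
    (Matrix.SpecialLinearGroup.transvection (show (0 : Fin 2) ≠ 1 by decide) (1 : ZMod 7))
    (objTab i) = objTab (index (lin0.1.mulVec (label i))) := by decide +kernel

/-- The image of a generator. -/
def lin1 : Matrix.SpecialLinearGroup (Fin 3) (ZMod 2) := ⟨!![0, 1, 0; 0, 0, 1; 1, 0, 1], by decide⟩

theorem act1 : ∀ i, Classical.PermModel.setAct Classical.PermModel.adj2
    (Matrix.SpecialLinearGroup.transvection (show (1 : Fin 2) ≠ 0 by decide) (1 : ZMod 7))
    (objTab i) = objTab (index (lin1.1.mulVec (label i))) := by decide +kernel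

theorem objTab_injective : Function.Injective objTab := by decide +kernel

theorem index_label : ∀ i, index (label i) = i := by decide +kernel

theorem label_index : ∀ v : Fin 3 → ZMod 2, v ≠ 0 → label (index v) = v := by decide +kernel

theorem label_ne : ∀ i, label i ≠ 0 := by decide +kernel

/-- PSL_2(7) is isomorphic to PSL_3(2). -/
theorem result {F K : Type*} [Field F] [Fintype F] [Field K] [Fintype K] (hF : Fintype.card F = 7) (hK : Fintype.card K = 2) : Nonempty (Matrix.ProjectiveSpecialLinearGroup (Fin 2) F ≃* Matrix.ProjectiveSpecialLinearGroup (Fin 3) K) := by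
  have : Fact (Nat.Prime 7) := ⟨by norm_num⟩
  let e : F ≃+* ZMod 7 := FiniteField.ringEquivOfCardEq (by simp [hF])
  let e2 : K ≃+* ZMod 2 := FiniteField.ringEquivOfCardEq (by simp [hK])
  have hs := Matrix.ProjectiveSpecialLinearGroup.rank_two_simple (F := ZMod 7) (by simp)
  let η : Matrix.SpecialLinearGroup (Fin 3) (ZMod 2) → Fin 7 → Fin 7 :=
    fun a i => index (a.1.mulVec (label i))
  have hne : ∀ (a : Matrix.SpecialLinearGroup (Fin 3) (ZMod 2)) i, a.1.mulVec (label i) ≠ 0 := by
    intro a i h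
    refine label_ne i ?_
    have h2 : ((a⁻¹).1 * a.1).mulVec (label i) = 0 := by
      rw [← Matrix.mulVec_mulVec, h, Matrix.mulVec_zero]
    have h3 : (a⁻¹).1 * a.1 = (1 : Matrix (Fin 3) (Fin 3) (ZMod 2)) :=
      congrArg Subtype.val (inv_mul_cancel a)
    rwa [h3, Matrix.one_mulVec] at h2
  obtain ⟨f, hf⟩ := Classical.PermModel.exists_injective_hom η
    (fun i => by
      show index ((1 : Matrix (Fin 3) (Fin 3) (ZMod 2)).mulVec (label i)) = i
      rw [Matrix.one_mulVec, index_label])
    (fun a b i => by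
      show index ((a.1 * b.1).mulVec (label i)) = index (a.1.mulVec (label (index (b.1.mulVec (label i)))))
      rw [label_index _ (hne b i), Matrix.mulVec_mulVec])
    (fun a b h => Subtype.ext (Matrix.ext_iff_mulVec.2 fun v => by
      by_cases hv : v = 0
      · simp [hv]
      have h1 := congrArg label (h (index v))
      simp only [η, label_index _ (hne _ _)] at h1
      rwa [label_index v hv] at h1))
    Classical.PermModel.adj2 Classical.PermModel.adj2_mul Classical.PermModel.adj2_center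
    objTab objTab_injective _ (Classical.PermModel.closure_zmod_transvections 7) (by
      rintro s ⟨i, j, h, rfl⟩
      fin_cases i <;> fin_cases j <;> try exact absurd rfl h
      · exact ⟨lin0, act0⟩
      · exact ⟨lin1, act1⟩) hs
    (by
      by_contra hc
      push Not at hc
      have h0 := fun i => objTab_injective ((hc _ i).symm.trans (act0 i))
      revert h0
      decide +kernel)
  have hc1 : Nat.card (Matrix.ProjectiveSpecialLinearGroup (Fin 2) (ZMod 7)) = 168 := by
    have h := Classical.SmallIso.natCard_pslTwo (ZMod 7)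
    rw [Classical.GL2.natCard_SL_two, ZMod.card] at h
    norm_num [Nat.reduceGcd, -Nat.card_eq_fintype_card] at h
    omega
  have hc2 : Nat.card (Matrix.SpecialLinearGroup (Fin 3) (ZMod 2)) = 168 := by
    have h := Classical.Linear.mul_natCard_SL_fin (F := ZMod 2) (k := 3) (by norm_num)
    rw [ZMod.card, Fin.prod_univ_three] at h
    norm_num [-Nat.card_eq_fintype_card] at h
    exact h
  have hz : Subgroup.center (Matrix.SpecialLinearGroup (Fin 3) (ZMod 2)) = ⊥ := by
    rw [← Subgroup.card_eq_one, Classical.Linear.natCard_center_SL, ZMod.card]; rfl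
  have hb : Function.Bijective f :=
    (Nat.bijective_iff_injective_and_card f).2 ⟨hf, hc1.trans hc2.symm⟩
  exact ⟨((Classical.SmallIso.pslCongr e).trans (MulEquiv.ofBijective f hb)).trans
    ((QuotientGroup.quotientBot.symm.trans (QuotientGroup.quotientMulEquivOfEq hz.symm)).trans
      (Classical.SmallIso.pslCongr e2.symm))⟩

end Cfsg.Agent.S0255
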