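import Cfsg.Statements.S0822
import Cfsg.Agent.Lib.Forms.U42Data
import Cfsg.Agent.Lib.Classical.Symplectic
import Cfsg.Agent.Lib.Classical.UnitarySimple
import Cfsg.Agent.Lib.Classical.UnitaryGen
import Cfsg.Agent.Lib.Classical.UnitaryFrames
-- import your own Cfsg.Agent.* helpers here

set_option autoImplicit false
open Cfsg

namespace Cfsg.Agent.S0822

open Cfsg.Agent.Forms Cfsg.Agent.Classical

/-- every element permutes the lines -/
theorem exists_hom {G : Type*} [Group G] [Finite G] {V : Type*} (act : G → V → V) (Sim : V → V → Prop)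
    (h1 : ∀ x, Sim (act 1 x) x) (hrefl : ∀ x, Sim x x)
    (hmul : ∀ g h x, act (g * h) x = act g (act h x))
    (hsim : ∀ g x y, Sim x y → Sim (act g x) (act g y))
    (htrans : ∀ x y z, Sim x y → Sim y z → Sim x z) (hsymm : ∀ x y, Sim x y → Sim y x)
    {n : ℕ} (u : Fin n → V) (hu : ∀ i j, Sim (u i) (u j) → i = j) (S : Set G)
    (hS : ∀ g ∈ S, ∀ i, ∃ j, Sim (act g (u i)) (u j)) (htop : Subgroup.closure S = ⊤) :
    ∃ φ : G →* Equiv.Perm (Fin n), ∀ g i, Sim (act g (u i)) (u (φ g i)) := by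
  have hex : ∀ g : G, ∀ i, ∃ j, Sim (act g (u i)) (u j) := by
    intro g
    have hg : g ∈ Submonoid.closure S := by
      rw [← Subgroup.closure_toSubmonoid_of_finite]
      show g ∈ Subgroup.closure S
      rw [htop]; trivial
    induction hg using Submonoid.closure_induction with
    | mem g hg => exact hS g hg
    | one => exact fun i => ⟨i, h1 _⟩
    | mul g h _ _ ihg ihh =>
      intro i
      obtain ⟨j, hj⟩ := ihh i
      obtain ⟨k, hk⟩ := ihg j
      exact ⟨k, by rw [hmul]; exact htrans _ _ _ (hsim g _ _ hj) hk⟩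
  choose f hf using hex
  have huniq : ∀ g i j, Sim (act g (u i)) (u j) → f g i = j := fun g i j h =>
    hu _ _ (htrans _ _ _ (hsymm _ _ (hf g i)) h)
  have hcomp : ∀ g h i, f (g * h) i = f g (f h i) := fun g h i =>
    huniq _ _ _ (by rw [hmul]; exact htrans _ _ _ (hsim g _ _ (hf h i)) (hf g _))
  have hone : ∀ i, f 1 i = i := fun i => huniq _ _ _ (h1 _)
  refine ⟨MonoidHom.mk' (fun g => ⟨f g, f g⁻¹, fun i => ?_, fun i => ?_⟩) fun g h => ?_, fun g i => hf g i⟩
  · rw [← hcomp, inv_mul_cancel, hone]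
  · rw [← hcomp, mul_inv_cancel, hone]
  · exact Equiv.ext fun i => hcomp g h i

section evalF

variable {F : Type*} [Field F] [CharP F 2] (ω : F)

/-- evaluation in the field with four elements -/
def ev (x : SU32.E4) : F :=
  ZMod.castHom (dvd_refl 2) F x.1 + ZMod.castHom (dvd_refl 2) F x.2 * ω

theorem ev_add (x y : SU32.E4) : ev ω (x + y) = ev ω x + ev ω y := by
  simp only [ev, Prod.fst_add, Prod.snd_add, map_add]
  ring

theorem ev_mul (hω : ω * ω = ω + 1) (x y : SU32.E4) : ev ω (SU32.mE x y) = ev ω x * ev ω y := by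
  simp only [ev, SU32.mE, map_add, map_mul]
  linear_combination -(ZMod.castHom (dvd_refl 2) F x.2 * ZMod.castHom (dvd_refl 2) F y.2) * hω

/-- evaluation of vectors -/
def evU (x : U42.U4) : Fin 4 → F := ![ev ω x.1, ev ω x.2.1, ev ω x.2.2.1, ev ω x.2.2.2]

theorem evU_scl (hω : ω * ω = ω + 1) (r : SU32.E4) (x : U42.U4) :
    evU ω (U42.scl r x) = ev ω r • evU ω x := by
  ext i
  fin_cases i <;> simp [evU, U42.scl, ev_mul ω hω]

theorem evU_add (x y : U42.U4) : evU ω (x + y) = evU ω x + evU ω y := by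
  ext i
  fin_cases i <;> simp [evU, ev_add]

theorem ev_hH (hω : ω * ω = ω + 1) (x y : U42.U4) :
    ev ω (U42.hH x y) = Cfsg.hermForm 4 F 2 (evU ω x) (evU ω y) := by
  simp [Cfsg.hermForm, Fin.sum_univ_four, evU, U42.hH, ev_add, ev_mul ω hω, pow_two]

end evalF

section evalK

variable {K : Type*} [Field K] [CharP K 3]

/-- evaluation in the field with three elements -/
def evK (a : ZMod 3) : K := ZMod.castHom (dvd_refl 3) K a

/-- evaluation of vectors -/
def evP (x : U42.P4) : Fin 2 ⊕ Fin 2 → K :=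
  Sum.elim ![evK x.1, evK x.2.1] ![evK x.2.2.1, evK x.2.2.2]

/-- a tuple of four vectors as a matrix -/
def evMat (M : U42.M4) : Matrix (Fin 2 ⊕ Fin 2) (Fin 2 ⊕ Fin 2) K :=
  Matrix.of (Sum.elim ![evP M.1, evP M.2.1] ![evP M.2.2.1, evP M.2.2.2])

theorem evP_app (M : U42.M4) (x : U42.P4) : (evMat M).mulVec (evP x) = (evP (U42.app M x) : Fin 2 ⊕ Fin 2 → K) := by
  ext i
  rcases i with i | i <;> fin_cases i <;>
    simp [evMat, evP, evK, U42.app, U42.dot, Matrix.mulVec, dotProduct, Fintype.sum_sum_type,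
      Fin.sum_univ_two, map_add, map_mul] <;> ring

theorem evP_neg (x : U42.P4) : (evP (-x) : Fin 2 ⊕ Fin 2 → K) = -evP x := by
  ext i
  rcases i with i | i <;> fin_cases i <;> simp [evP, evK]

theorem evP_zero : (evP 0 : Fin 2 ⊕ Fin 2 → K) = 0 := by
  ext i
  rcases i with i | i <;> fin_cases i <;> simp [evP, evK]

theorem evP_injective : Function.Injective (evP : U42.P4 → Fin 2 ⊕ Fin 2 → K) := by
  intro x y h
  have hc : Function.Injective (evK : ZMod 3 → K) := (ZMod.castHom (dvd_refl 3) K).injective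
  have a := hc (congrFun h (Sum.inl 0))
  have b := hc (congrFun h (Sum.inl 1))
  have c := hc (congrFun h (Sum.inr 0))
  have d := hc (congrFun h (Sum.inr 1))
  exact Prod.ext a (Prod.ext b (Prod.ext c d))

theorem evK_fS (x y : U42.P4) :
    (evK (U42.fS x y) : K) = Cfsg.sympForm 2 K (evP x) (evP y) := by
  rw [SympStd.sympForm_eq]
  simp [evP, evK, U42.fS, Fin.sum_univ_two, map_add, map_sub, map_mul] <;> ring

end evalK


/-- PSU_4(2) ≅ PSp_4(3): with |F| = 4 and |K| = 3, the projective special unitary group of the standard Hermitian form on F^4 is isomorphic to PSp_4(K). -/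
theorem result {F K : Type*} [Field F] [Fintype F] [Field K] [Fintype K] (hF : Fintype.card F = 4) (hK : Fintype.card K = 3) : Nonempty (Cfsg.PSU 4 F 2 ≃* Cfsg.PSp 2 K) := by
  classical
  have hF' : Fintype.card F = 2 ^ 2 := by rw [hF]; norm_num
  haveI : CharP F 2 := by
    obtain ⟨p, hp⟩ := CharP.exists F
    haveI := hp
    haveI : Fact p.Prime := ⟨CharP.char_is_prime F p⟩
    obtain ⟨n, -, hn⟩ := FiniteField.card F p
    have : p ∣ 2 ^ 2 := by rw [show 2 ^ 2 = 4 from rfl, ← hF, hn]; exact dvd_pow_self p n.ne_zero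
    have hp2 := (Nat.prime_dvd_prime_iff_eq (Fact.out : p.Prime) Nat.prime_two).1
      ((Fact.out : p.Prime).dvd_of_dvd_pow this)
    subst hp2
    exact hp
  haveI : CharP K 3 := by
    obtain ⟨p, hp⟩ := CharP.exists K
    haveI := hp
    haveI : Fact p.Prime := ⟨CharP.char_is_prime K p⟩
    obtain ⟨n, -, hn⟩ := FiniteField.card K p
    have : p ∣ 3 := by rw [← hK, hn]; exact dvd_pow_self p n.ne_zero
    have hp3 := (Nat.prime_dvd_prime_iff_eq (Fact.out : p.Prime) Nat.prime_three).1 this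
    subst hp3
    exact hp
  obtain ⟨ω, hω0, hω1⟩ : ∃ ω : F, ω ≠ 0 ∧ ω ≠ 1 := by
    by_contra h
    push Not at h
    have : (Finset.univ : Finset F) ⊆ {0, 1} := fun x _ => by
      by_cases hx : x = 0
      · simp [hx]
      · simp [h x hx]
    have := Finset.card_le_card this
    rw [Finset.card_univ, hF] at this
    have := this.trans Finset.card_le_two
    omega
  have h2F : (2 : F) = 0 := CharTwo.two_eq_zero
  have hω : ω * ω = ω + 1 := by
    have h4 := FiniteField.pow_card ω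
    rw [hF] at h4
    have : ω * (ω - 1) * (ω * ω + ω + 1) = 0 := by linear_combination h4
    have := (mul_eq_zero.1 this).resolve_left (mul_ne_zero hω0 (sub_ne_zero.2 hω1))
    linear_combination this - (ω + 1) * h2F
  have hevl : ev ω SU32.l = 1 := by simp [ev, SU32.l]
  have hevw : ev ω SU32.w = ω := by simp [ev, SU32.w]
  have hevv : ev ω SU32.v = 1 + ω := by simp [ev, SU32.v]
  have hv0 : (1 : F) + ω ≠ 0 := fun h => hω1 (by linear_combination h - h2F)
  have hsurjE : ∀ r : F, ∃ x : SU32.E4, ev ω x = r := by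
    intro r
    have hS : ({0, 1, ω, 1 + ω} : Finset F) = Finset.univ := by
      refine Finset.eq_univ_of_card _ ?_
      have e1 : ω ≠ 1 + ω := fun h => one_ne_zero (α := F) (by linear_combination -h)
      rw [Finset.card_insert_of_notMem (by simp [hω0.symm, hv0.symm]),
        Finset.card_insert_of_notMem (by simp [hω1.symm, hω0]),
        Finset.card_insert_of_notMem (by simp [e1]), Finset.card_singleton, hF]
    have hr : r ∈ ({0, 1, ω, 1 + ω} : Finset F) := hS ▸ Finset.mem_univ r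
    simp only [Finset.mem_insert, Finset.mem_singleton] at hr
    rcases hr with rfl | rfl | rfl | rfl
    exacts [⟨0, by simp [ev]⟩, ⟨SU32.l, hevl⟩, ⟨SU32.w, hevw⟩, ⟨SU32.v, hevv⟩]
  -- the points off the surface
  let uF : Fin 40 → Fin 4 → F := fun i => evU ω (U42.up i)
  let SimF : (Fin 4 → F) → (Fin 4 → F) → Prop := fun x y => ∃ r : F, r ≠ 0 ∧ x = r • y
  let gensF : Set (Cfsg.SU 4 F 2) := Unitary.tvSet F 2 4
  have hcases : ∀ x : U42.U4, ∀ y : U42.U4,
      (x = U42.scl SU32.l y ∨ x = U42.scl SU32.w y ∨ x = U42.scl SU32.v y) →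
      SimF (evU ω x) (evU ω y) := by
    rintro x y (h | h | h) <;> subst h <;> rw [evU_scl ω hω]
    exacts [⟨_, by rw [hevl]; exact one_ne_zero, rfl⟩, ⟨_, by rw [hevw]; exact hω0, rfl⟩,
      ⟨_, by rw [hevv]; exact hv0, rfl⟩]
  have hevU_inj : Function.Injective (evU ω : U42.U4 → Fin 4 → F) := by
    have hEinj : Function.Injective (ev ω : SU32.E4 → F) :=
      ((Fintype.bijective_iff_surjective_and_card _).2 ⟨hsurjE, by simp [hF]⟩).1
    intro x y h
    exact Prod.ext (hEinj (congrFun h 0))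
      (Prod.ext (hEinj (congrFun h 1)) (Prod.ext (hEinj (congrFun h 2)) (hEinj (congrFun h 3))))
  have huF : ∀ i j, SimF (uF i) (uF j) → i = j := by
    rintro i j ⟨r, hr0, hr⟩
    by_contra hij
    obtain ⟨x, rfl⟩ := hsurjE r
    simp only [uF, ← evU_scl ω hω] at hr
    have e := hevU_inj hr
    have hx : x = 0 ∨ x = SU32.l ∨ x = SU32.w ∨ x = SU32.v :=
      (by decide : ∀ y : SU32.E4, y = 0 ∨ y = SU32.l ∨ y = SU32.w ∨ y = SU32.v) x
    have hd := U42.up_distinct i i.2 j j.2 (fun h => hij (Fin.ext h))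
    rcases hx with rfl | rfl | rfl | rfl
    exacts [hr0 (by simp [ev]), hd.1 e, hd.2.1 e, hd.2.2 e]
  have hgen : ∀ g ∈ gensF, ∀ i, ∃ j, SimF ((Unitary.mat g).mulVec (uF i)) (uF j) := by
    rintro g ⟨v, c, hv, hc, hg⟩ i
    rw [hg, HermStd.transvection_mulVec]
    by_cases hdeg : c = 0 ∨ v = 0
    · refine ⟨i, 1, one_ne_zero, ?_⟩
      rcases hdeg with h | h <;> simp [h]
    push Not at hdeg
    obtain ⟨x, rfl⟩ : ∃ x, evU ω x = v := by
      obtain ⟨a, ha⟩ := hsurjE (v 0); obtain ⟨b, hb⟩ := hsurjE (v 1)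
      obtain ⟨d, hd⟩ := hsurjE (v 2); obtain ⟨e, he⟩ := hsurjE (v 3)
      exact ⟨(a, b, d, e), funext fun k => by fin_cases k <;> simp [evU, ha, hb, hd, he]⟩
    have hx0 : x ≠ 0 := fun h => hdeg.2 (by rw [h]; ext k; fin_cases k <;> simp [evU, ev])
    have hx : U42.hH x x = SU32.o := by
      have hEinj : Function.Injective (ev ω : SU32.E4 → F) :=
        ((Fintype.bijective_iff_surjective_and_card _).2 ⟨hsurjE, by simp [hF]⟩).1
      exact hEinj (by rw [ev_hH ω hω, hv]; simp [ev, SU32.o])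
    have hc1 : c = 1 := by
      have h : c * (1 + c) = 0 := by linear_combination hc
      have := (mul_eq_zero.1 h).resolve_left hdeg.1
      linear_combination this - h2F
    obtain ⟨k, hk, hkx⟩ := (U42.tp_cover x hx).resolve_left hx0
    obtain ⟨r, hr0, hr⟩ := hcases _ _ hkx
    have hr3 : r ^ 3 = 1 := by
      have := FiniteField.pow_card_sub_one_eq_one r hr0
      rwa [hF] at this
    obtain ⟨hj, hs⟩ := U42.sg_spec k hk i i.2
    refine ⟨⟨U42.sg k i, hj⟩, ?_⟩
    have := hcases _ _ hs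
    rw [U42.tvU, evU_add, evU_scl ω hω, ev_hH ω hω] at this
    rw [hc1, one_mul, hr, Unitary.H_smul_right, smul_smul,
      show r ^ 2 * Cfsg.hermForm 4 F 2 (uF i) (evU ω (U42.tp k)) * r =
        r ^ 3 * Cfsg.hermForm 4 F 2 (uF i) (evU ω (U42.tp k)) by ring, hr3, one_mul]
    exact this
  obtain ⟨φ, hφ⟩ := exists_hom (G := Cfsg.SU 4 F 2) (fun g x => (Unitary.mat g).mulVec x) SimF
    (fun x => ⟨1, one_ne_zero, by simp [Unitary.mat_one]⟩) (fun x => ⟨1, one_ne_zero, (one_smul _ _).symm⟩)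
    (fun g h x => Unitary.mul_mulVec g h x)
    (fun g x y ⟨r, hr, e⟩ => ⟨r, hr, by rw [e, Matrix.mulVec_smul]⟩)
    (fun x y z ⟨r, hr, e⟩ ⟨s, hs, e'⟩ => ⟨r * s, mul_ne_zero hr hs, by rw [e, e', smul_smul]⟩)
    (fun x y ⟨r, hr, e⟩ => ⟨r⁻¹, inv_ne_zero hr, by rw [e, smul_smul, inv_mul_cancel₀ hr, one_smul]⟩)
    uF huF gensF hgen (Unitary.tvGroup_eq_top hF' (n := 4) (by norm_num) (by norm_num))
  -- the points of the symplectic space
  let pK : Fin 40 → Fin 2 ⊕ Fin 2 → K := fun i => evP (U42.pp i)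
  let SimK : (Fin 2 ⊕ Fin 2 → K) → (Fin 2 ⊕ Fin 2 → K) → Prop := fun x y => x = y ∨ x = -y
  have hsurjK : ∀ a : K, ∃ b : ZMod 3, evK b = a :=
    ((Fintype.bijective_iff_injective_and_card _).2
      ⟨(ZMod.castHom (dvd_refl 3) K).injective, by simp [hK]⟩).2
  have hPsurj : ∀ x : Fin 2 ⊕ Fin 2 → K, ∃ y : U42.P4, evP y = x := by
    intro x
    obtain ⟨a, ha⟩ := hsurjK (x (.inl 0)); obtain ⟨b, hb⟩ := hsurjK (x (.inl 1))
    obtain ⟨c, hc⟩ := hsurjK (x (.inr 0)); obtain ⟨d, hd⟩ := hsurjK (x (.inr 1))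
    refine ⟨(a, b, c, d), funext fun k => ?_⟩
    rcases k with k | k <;> fin_cases k <;> simp [evP, ha, hb, hc, hd]
  have hpcover : ∀ x : Fin 2 ⊕ Fin 2 → K, x ≠ 0 → ∃ i, SimK x (pK i) := by
    intro x hx
    obtain ⟨y, rfl⟩ := hPsurj x
    obtain ⟨i, hi, h⟩ := (U42.pp_cover y).resolve_left fun h => hx (by rw [h, evP_zero])
    exact ⟨⟨i, hi⟩, h.imp (fun e => by rw [e]) (fun e => by rw [e, evP_neg])⟩
  have hpK : ∀ i j, SimK (pK i) (pK j) → i = j := by
    intro i j h
    by_contra hij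
    have hd := U42.pp_distinct i i.2 j j.2 (fun h => hij (Fin.ext h))
    rcases h with h | h
    · exact hd.1 (evP_injective h)
    · exact hd.2 (evP_injective (h.trans (evP_neg _).symm))
  have hneg : ∀ (g : Matrix.symplecticGroup (Fin 2) K) x y, SimK x y →
      SimK ((g : Matrix (Fin 2 ⊕ Fin 2) (Fin 2 ⊕ Fin 2) K).mulVec x) ((g : Matrix _ _ K).mulVec y) := by
    rintro g x y (h | h)
    · exact Or.inl (by rw [h])
    · exact Or.inr (by rw [h, Matrix.mulVec_neg])
  have hne : ∀ (g : Matrix.symplecticGroup (Fin 2) K) i,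
      (g : Matrix (Fin 2 ⊕ Fin 2) (Fin 2 ⊕ Fin 2) K).mulVec (pK i) ≠ 0 := by
    intro g i h
    have h' := SympStd.inv_mulVec_of_eq h
    rw [Matrix.mulVec_zero] at h'
    exact U42.pp_ne_zero i i.2 (evP_injective (h'.symm.trans evP_zero.symm))
  obtain ⟨ψ, hψ⟩ := exists_hom (G := Matrix.symplecticGroup (Fin 2) K)
    (fun g x => (g : Matrix (Fin 2 ⊕ Fin 2) (Fin 2 ⊕ Fin 2) K).mulVec x) SimK
    (fun x => Or.inl (Matrix.one_mulVec x)) (fun x => Or.inl rfl)
    (fun g h x => SympStd.mul_mulVec_sp g h x) hneg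
    (by rintro x y z (h | h) (h' | h') <;> subst h <;> subst h' <;> simp [SimK])
    (by rintro x y (h | h) <;> subst h <;> simp [SimK])
    pK hpK Set.univ (fun g _ i => hpcover _ (hne g i)) Subgroup.closure_univ
  have hψc : ψ.ker = Subgroup.center (Matrix.symplecticGroup (Fin 2) K) := by
    ext g
    rw [Symplectic.mem_center_iff, MonoidHom.mem_ker]
    constructor
    · intro hg
      refine Symplectic.eq_scalar_of_fixes_lines g fun x => ?_
      by_cases hx : x = 0
      · exact ⟨0, by simp [hx]⟩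
      obtain ⟨i, hi⟩ := hpcover x hx
      have h := hψ g i
      rw [hg] at h
      obtain ⟨s, hs⟩ : ∃ s : K, (g : Matrix _ _ K).mulVec (pK i) = s • pK i := by
        rcases h with h | h
        · exact ⟨1, by rw [one_smul]; exact h⟩
        · exact ⟨-1, by rw [neg_one_smul]; exact h⟩
      refine ⟨s, ?_⟩
      rcases hi with e | e <;> rw [e]
      · exact hs
      · rw [Matrix.mulVec_neg, hs, smul_neg]
    · rintro ⟨a, ha⟩
      ext i
      obtain ⟨b, rfl⟩ := hsurjK a
      have hb : b = 0 ∨ b = 1 ∨ b = -1 := (by decide : ∀ y : ZMod 3, y = 0 ∨ y = 1 ∨ y = -1) b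
      rcases hb with rfl | rfl | rfl
      · exact absurd (by rw [ha]; simp [evK]) (hne g i)
      · refine congrArg Fin.val (hpK _ _ ?_)
        rcases hψ g i with h | h <;> rw [ha] at h <;> simp [evK] at h <;> simp [SimK, h]
      · refine congrArg Fin.val (hpK _ _ ?_)
        rcases hψ g i with h | h <;> rw [ha] at h <;> simp [evK] at h <;> simp [SimK, ← h]
  have hrange : φ.range ≤ ψ.range := by
    rw [MonoidHom.range_eq_map, ← Unitary.tvGroup_eq_top hF' (n := 4) (by norm_num) (by norm_num),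
      Unitary.tvGroup, MonoidHom.map_closure, Subgroup.closure_le]
    rintro _ ⟨g, ⟨v, c, hv, hc, hg⟩, rfl⟩
    by_cases hdeg : c = 0 ∨ v = 0
    · have : g = 1 := Unitary.SU_ext fun x => by
        rw [hg, HermStd.transvection_mulVec, Unitary.mat_one, Matrix.one_mulVec]
        rcases hdeg with h | h <;> simp [h]
      rw [this, map_one]; exact one_mem _
    push Not at hdeg
    obtain ⟨x, rfl⟩ : ∃ x, evU ω x = v := by
      obtain ⟨a, ha⟩ := hsurjE (v 0); obtain ⟨b, hb⟩ := hsurjE (v 1)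
      obtain ⟨d, hd⟩ := hsurjE (v 2); obtain ⟨e, he⟩ := hsurjE (v 3)
      exact ⟨(a, b, d, e), funext fun k => by fin_cases k <;> simp [evU, ha, hb, hd, he]⟩
    have hx0 : x ≠ 0 := fun h => hdeg.2 (by rw [h]; ext k; fin_cases k <;> simp [evU, ev])
    have hx : U42.hH x x = SU32.o := by
      have hEinj : Function.Injective (ev ω : SU32.E4 → F) :=
        ((Fintype.bijective_iff_surjective_and_card _).2 ⟨hsurjE, by simp [hF]⟩).1
      exact hEinj (by rw [ev_hH ω hω, hv]; simp [ev, SU32.o])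
    have hc1 : c = 1 := by
      have h : c * (1 + c) = 0 := by linear_combination hc
      have := (mul_eq_zero.1 h).resolve_left hdeg.1
      linear_combination this - h2F
    obtain ⟨k, hk, hkx⟩ := (U42.tp_cover x hx).resolve_left hx0
    obtain ⟨r, hr0, hr⟩ := hcases _ _ hkx
    have hr3 : r ^ 3 = 1 := by
      have := FiniteField.pow_card_sub_one_eq_one r hr0
      rwa [hF] at this
    have hM : (evMat (U42.mt k) : Matrix _ _ K) ∈ Matrix.symplecticGroup (Fin 2) K := by
      rw [SympStd.mem_sp_iff]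
      have hb : ∀ x ∈ U42.bas, ∀ y ∈ U42.bas,
          Cfsg.sympForm 2 K ((evMat (U42.mt k)).mulVec (evP x)) ((evMat (U42.mt k)).mulVec (evP y)) =
            Cfsg.sympForm 2 K (evP x) (evP y) := by
        intro x hx y hy
        rw [evP_app, evP_app, ← evK_fS, ← evK_fS, U42.mt_symp k hk x hx y hy]
      have hbas : ∀ i, ∃ x ∈ U42.bas, evP x = (Pi.single i 1 : Fin 2 ⊕ Fin 2 → K) := by
        intro i
        rcases i with i | i <;> fin_cases i <;>
          [refine ⟨(1, 0, 0, 0), by simp [U42.bas], ?_⟩;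
           refine ⟨(0, 1, 0, 0), by simp [U42.bas], ?_⟩;
           refine ⟨(0, 0, 1, 0), by simp [U42.bas], ?_⟩;
           refine ⟨(0, 0, 0, 1), by simp [U42.bas], ?_⟩] <;>
          funext j <;> rcases j with j | j <;> fin_cases j <;> simp [evP, evK]
      have heq : (SympStd.sympB 2 K).compl₁₂ (Matrix.toLin' (evMat (U42.mt k)))
          (Matrix.toLin' (evMat (U42.mt k))) = SympStd.sympB 2 K := by
        refine LinearMap.BilinForm.ext_basis (Pi.basisFun K _) fun i j => ?_
        obtain ⟨x, hx, ex⟩ := hbas i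
        obtain ⟨y, hy, ey⟩ := hbas j
        simp only [Pi.basisFun_apply, ← ex, ← ey, LinearMap.compl₁₂_apply, Matrix.toLin'_apply,
          SympStd.sympB_apply]
        exact hb x hx y hy
      intro a b
      have := LinearMap.congr_fun (LinearMap.congr_fun heq a) b
      simpa [LinearMap.compl₁₂_apply, SympStd.sympB_apply, Matrix.toLin'_apply] using this
    refine ⟨⟨_, hM⟩, Equiv.ext fun i => ?_⟩
    obtain ⟨hj, hs⟩ := U42.sg_spec k hk i i.2
    have e1 : φ g i = ⟨U42.sg k i, hj⟩ := by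
      refine huF _ _ ?_
      obtain ⟨a, ha, ea⟩ := hφ g i
      obtain ⟨b, hb, eb⟩ := hcases _ _ hs
      rw [U42.tvU, evU_add, evU_scl ω hω, ev_hH ω hω] at eb
      rw [hg, HermStd.transvection_mulVec, hc1, one_mul, hr, Unitary.H_smul_right, smul_smul,
        show r ^ 2 * Cfsg.hermForm 4 F 2 (uF i) (evU ω (U42.tp k)) * r =
          r ^ 3 * Cfsg.hermForm 4 F 2 (uF i) (evU ω (U42.tp k)) by ring, hr3, one_mul] at ea
      refine ⟨a⁻¹ * b, mul_ne_zero (inv_ne_zero ha) hb, ?_⟩
      show uF (φ g i) = _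
      rw [← smul_smul]
      exact (eq_inv_smul_iff₀ ha).2 (ea.symm.trans eb)
    rw [e1]
    refine hpK _ _ ?_
    have hm : SimK ((evMat (U42.mt k)).mulVec (pK i)) (pK ⟨U42.sg k i, hj⟩) :=
      (U42.mt_points k hk i i.2).imp (fun e => by rw [evP_app, e]) (fun e => by rw [evP_app, e, evP_neg])
    rcases hψ ⟨_, hM⟩ i with h | h <;> rcases hm with h' | h' <;> rw [h'] at h
    · exact Or.inl h.symm
    · exact Or.inr h.symm
    · exact Or.inr (by rw [h, neg_neg])
    · exact Or.inl (neg_injective h).symm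
  -- orders
  have hcardU : Nat.card (Cfsg.PSU 4 F 2) = 25920 := by
    have h := Unitary.natCard_PSU_mul hF' (n := 4) (by norm_num)
    rw [Unitary.natCard_GU hF'] at h
    norm_num [Finset.prod_range_succ, -Nat.card_eq_fintype_card] at h
    omega
  have hcardS : Nat.card (Cfsg.PSp 2 K) = 25920 := by
    have h := Subgroup.card_eq_card_quotient_mul_card_subgroup
      (Subgroup.center (Matrix.symplecticGroup (Fin 2) K))
    rw [Symplectic.natCard_center (by norm_num), Symplectic.natCard_sp, hK] at h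
    norm_num [Finset.prod_range_succ, -Nat.card_eq_fintype_card] at h
    show Nat.card (_ ⧸ _) = _
    omega
  -- faithfulness
  haveI := Unitary.isSimpleGroup_PSU hF' (n := 4) (by norm_num) (by norm_num)
  have hcen : Subgroup.center (Cfsg.SU 4 F 2) ≤ φ.ker := by
    intro z hz
    obtain ⟨a, ha⟩ := (Unitary.mem_center_iff hF' (by norm_num) z).1 hz
    refine MonoidHom.mem_ker.2 (Equiv.ext fun i => ?_)
    obtain ⟨r, hr0, hr⟩ := hφ z i
    rw [ha, Matrix.smul_mulVec, Matrix.one_mulVec] at hr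
    have ha0 : a ≠ 0 := by
      rintro rfl
      have hd := (z : Matrix.SpecialLinearGroup (Fin 4) F).2
      rw [show ((z : Matrix.SpecialLinearGroup (Fin 4) F) : Matrix (Fin 4) (Fin 4) F) = _ from ha,
        zero_smul] at hd
      simp at hd
    refine huF _ _ ⟨r⁻¹ * a, mul_ne_zero (inv_ne_zero hr0) ha0, ?_⟩
    rw [← smul_smul]
    exact (eq_inv_smul_iff₀ hr0).2 hr.symm
  let φ' : Cfsg.PSU 4 F 2 →* Equiv.Perm (Fin 40) := QuotientGroup.lift _ φ hcen
  let ψ' : Cfsg.PSp 2 K →* Equiv.Perm (Fin 40) := QuotientGroup.lift _ ψ hψc.ge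
  have hψ'inj : Function.Injective ψ' :=
    (QuotientGroup.injective_lift_iff _ _ _).2 hψc.symm
  have hφ'inj : Function.Injective φ' := by
    rw [← MonoidHom.ker_eq_bot_iff]
    refine (IsSimpleGroup.eq_bot_or_eq_top_of_normal φ'.ker inferInstance).resolve_right fun h => ?_
    -- some transvection moves a point
    obtain ⟨v, hv, hv1, hvj, -⟩ := Unitary.exists_isotropic_pair hF' (n := 4) (0 : Fin 4) 1 (by decide)
    obtain ⟨x, rfl⟩ : ∃ x, evU ω x = v := by
      obtain ⟨a, ha⟩ := hsurjE (v 0); obtain ⟨b, hb⟩ := hsurjE (v 1)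
      obtain ⟨d, hd⟩ := hsurjE (v 2); obtain ⟨e, he⟩ := hsurjE (v 3)
      exact ⟨(a, b, d, e), funext fun k => by fin_cases k <;> simp [evU, ha, hb, hd, he]⟩
    let g := Unitary.tvu hF' hv (c := (1 : F)) (by rw [one_pow]; exact CharTwo.add_self_eq_zero 1)
    have hg1 : φ g = 1 := by
      have : (QuotientGroup.mk g : Cfsg.PSU 4 F 2) ∈ φ'.ker := h ▸ Subgroup.mem_top _
      exact this
    have hi : ∃ i, i < 40 ∧ U42.up i = (SU32.l, SU32.o, SU32.o, SU32.o) := by decide +kernel
    obtain ⟨i, hi, hie⟩ := hi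
    obtain ⟨r, hr0, hr⟩ := hφ g ⟨i, hi⟩
    rw [hg1, Unitary.tvu_mulVec] at hr
    simp only [uF, Equiv.Perm.coe_one, id_eq, hie] at hr
    have e0 := congrFun hr 0
    have e1 := congrFun hr 1
    simp [evU, ev, SU32.o, SU32.l, Cfsg.hermForm, Fin.sum_univ_four] at e0 e1 hv1
    rw [hv1] at e0 e1
    refine hvj ?_
    simp [evU, ev]
    simpa using e1
  have hle : φ'.range ≤ ψ'.range := by
    rintro _ ⟨y, rfl⟩
    obtain ⟨g, rfl⟩ := QuotientGroup.mk_surjective y
    obtain ⟨s, hs⟩ := hrange ⟨g, rfl⟩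
    exact ⟨QuotientGroup.mk s, hs⟩
  have heq : φ'.range = ψ'.range := Subgroup.eq_of_le_of_card_ge hle (by
    rw [← Nat.card_congr (MonoidHom.ofInjective hφ'inj).toEquiv,
      ← Nat.card_congr (MonoidHom.ofInjective hψ'inj).toEquiv, hcardU, hcardS])
  exact ⟨(MonoidHom.ofInjective hφ'inj).trans ((MulEquiv.subgroupCongr heq).trans
    (MonoidHom.ofInjective hψ'inj).symm)⟩

end Cfsg.Agent.S0822
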