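import Cfsg.Statements.S3439
import Cfsg.Agent.GenA.SpecSolvable.Group
import Cfsg.Agent.GenA.SpecSolvable.Symp

set_option autoImplicit false
open Cfsg

namespace Cfsg.Agent.S3439

open Cfsg.Agent.GenA.SpecSolvable

/-- A ring isomorphism of fields induces one of the symplectic groups. -/
def spEquiv {F K : Type*} [Field F] [Field K] (e : F ≃+* K) (n : ℕ) :
    Matrix.symplecticGroup (Fin n) F ≃* Matrix.symplecticGroup (Fin n) K where
  toFun A := ⟨e.mapMatrix A.1, by
    have h := congrArg e.mapMatrix (SymplecticGroup.mem_iff.mp A.2)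
    rw [SymplecticGroup.mem_iff]
    rw [map_mul, map_mul] at h
    simpa [Matrix.transpose_map] using h⟩
  invFun A := ⟨e.symm.mapMatrix A.1, by
    have h := congrArg e.symm.mapMatrix (SymplecticGroup.mem_iff.mp A.2)
    rw [SymplecticGroup.mem_iff]
    rw [map_mul, map_mul] at h
    simpa [Matrix.transpose_map] using h⟩
  left_inv A := Subtype.ext (by ext i j; simp)
  right_inv A := Subtype.ext (by ext i j; simp)
  map_mul' A B := Subtype.ext (map_mul e.mapMatrix A.1 B.1)

/-- There is a finite solvable group with exactly the same set of element orders as the simple group PSp(4,3). -/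
theorem result {F : Type*} [Field F] [Fintype F] (hF : Fintype.card F = 3) :
    ∃ (H : Type) (_ : Group H) (_ : Fintype H), Group.IsSolvable H ∧ Set.range (orderOf : H → ℕ) = Set.range (orderOf : Cfsg.PSp 2 F → ℕ) := by
  classical
  haveI : Fact (Nat.Prime 3) := ⟨Nat.prime_three⟩
  let K81 := GaloisField 3 4
  have h81 : Nat.card K81 = 81 := by
    rw [GaloisField.card 3 4 (by norm_num)]
    norm_num
  haveI : Finite K81 := Nat.finite_of_card_ne_zero (by rw [h81]; norm_num)
  haveI : Fact (Nat.Prime 5) := ⟨by norm_num⟩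
  obtain ⟨ζ, hζ⟩ := exists_prime_orderOf_dvd_card' (G := K81ˣ) 5 (by rw [Nat.card_units, h81]; norm_num)
  refine ⟨Group81.H ζ, inferInstance, Fintype.ofFinite _, Group81.solvable ζ h81, ?_⟩
  -- the field with three elements
  have e : ZMod 3 ≃+* F := FiniteField.ringEquivOfCardEq (ZMod.card 3 |>.trans hF.symm)
  set E : Cfsg.PSp 2 (ZMod 3) ≃* Cfsg.PSp 2 F := QuotientGroup.congr _ _ (spEquiv e 2) (by
    ext x
    constructor
    · rintro ⟨y, hy, rfl⟩
      rw [Subgroup.mem_center_iff]
      intro g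
      simpa using congrArg (spEquiv e 2) (Subgroup.mem_center_iff.mp hy ((spEquiv e 2).symm g))
    · intro hx
      refine ⟨(spEquiv e 2).symm x, Subgroup.mem_center_iff.mpr fun g => ?_, (spEquiv e 2).apply_symm_apply x⟩
      simpa using congrArg (spEquiv e 2).symm (Subgroup.mem_center_iff.mp hx (spEquiv e 2 g))) with hE
  have hrange : Set.range (orderOf : Cfsg.PSp 2 F → ℕ) = Set.range (orderOf : Cfsg.PSp 2 (ZMod 3) → ℕ) := by
    ext m
    exact ⟨fun ⟨y, hy⟩ => ⟨E.symm y, (MulEquiv.orderOf_eq E.symm y).trans hy⟩,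
      fun ⟨y, hy⟩ => ⟨E y, (MulEquiv.orderOf_eq E y).trans hy⟩⟩
  rw [hrange, Symp.range_orderOf]
  ext m
  constructor
  · rintro ⟨h, rfl⟩
    have hpos := orderOf_pos h
    rcases Group81.pow_cases h81 hζ h with e | e | e <;>
      have hd := orderOf_dvd_of_pow_eq_one e <;>
      have hle := Nat.le_of_dvd (by norm_num) hd <;>
      generalize orderOf h = m at hpos hd hle ⊢ <;>
      interval_cases m <;> simp at hd ⊢ <;> omega
  · intro hm
    obtain ⟨h5, hh5⟩ := Group81.exists_orderOf_five (ζ := ζ) hζ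
    obtain ⟨h9, hh9⟩ := Group81.exists_orderOf_nine (ζ := ζ) h81 hζ
    obtain ⟨h12, hh12⟩ := Group81.exists_orderOf_twelve (ζ := ζ) h81
    have hd : ∀ d, d ∣ 12 → ∃ y : Group81.H ζ, orderOf y = d := fun d hd =>
      Cfsg.Agent.KnownSimple.Spectrum.exists_orderOf_of_dvd h12 (hh12 ▸ hd)
    simp only [Set.mem_insert_iff, Set.mem_singleton_iff] at hm
    rcases hm with rfl | rfl | rfl | rfl | rfl | rfl | rfl | rfl
    exacts [hd _ (by norm_num), hd _ (by norm_num), hd _ (by norm_num), hd _ (by norm_num), ⟨_, hh5⟩,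
      hd _ (by norm_num), ⟨_, hh9⟩, ⟨_, hh12⟩]

end Cfsg.Agent.S3439
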