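import Cfsg.Statements.S3221
import Cfsg.Agent.Lib.PSpFour.Main
import Cfsg.Agent.S3439

set_option autoImplicit false
open Cfsg

namespace Cfsg.Agent.S3221

/-- Let F be the field with 3 elements and t₀ an involution of PSp₄(3) = PSp₄(F) lying in the centre of a Sylow 2-subgroup. If G is a finite group of even order that has no subgroup of index 2 and contains an involution t whose centralizer C_G(t) is isomorphic to C_{PSp₄(3)}(t₀), then G ≅ PSp₄(3). -/
theorem result {G : Type*} [Group G] [Finite G] (hev : Even (Nat.card G))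
    (hG : ∀ H : Subgroup G, H.index ≠ 2) {F : Type*} [Field F] [Fintype F] (hF : Fintype.card F = 3)
    (U : Sylow 2 (Cfsg.PSp 2 F)) (t₀ : Cfsg.PSp 2 F) (ht₀ : orderOf t₀ = 2) (ht₀U : t₀ ∈ (U : Subgroup (Cfsg.PSp 2 F)))
    (ht₀c : ∀ u ∈ (U : Subgroup (Cfsg.PSp 2 F)), u * t₀ = t₀ * u) (t : G) (ht : orderOf t = 2)
    (e : ↥(Subgroup.centralizer ({t} : Set G)) ≃* ↥(Subgroup.centralizer ({t₀} : Set (Cfsg.PSp 2 F)))) :
    Nonempty (G ≃* Cfsg.PSp 2 F) := by
  haveI : Fact (Nat.Prime 3) := ⟨Nat.prime_three⟩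
  let r : ZMod 3 ≃+* F := FiniteField.ringEquivOfCardEq (ZMod.card 3 |>.trans hF.symm)
  let E : Cfsg.PSp 2 (ZMod 3) ≃* Cfsg.PSp 2 F := QuotientGroup.congr _ _ (S3439.spEquiv r 2)
    (Subgroup.ext fun x => by
      constructor
      · rintro ⟨y, hy, rfl⟩
        rw [Subgroup.mem_center_iff]
        intro g
        simpa using congrArg (S3439.spEquiv r 2) (Subgroup.mem_center_iff.mp hy ((S3439.spEquiv r 2).symm g))
      · intro hx
        refine ⟨(S3439.spEquiv r 2).symm x, Subgroup.mem_center_iff.mpr fun g => ?_,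
          (S3439.spEquiv r 2).apply_symm_apply x⟩
        simpa using congrArg (S3439.spEquiv r 2).symm (Subgroup.mem_center_iff.mp hx (S3439.spEquiv r 2 g)))
  set s₀ := E.symm t₀ with hs₀
  have hs : orderOf s₀ = 2 := by rw [hs₀, MulEquiv.orderOf_eq, ht₀]
  obtain ⟨V, hV⟩ : ∃ V : Sylow 2 (Cfsg.PSp 2 (ZMod 3)),
      ∀ v, v ∈ (V : Subgroup (Cfsg.PSp 2 (ZMod 3))) ↔ E v ∈ (U : Subgroup (Cfsg.PSp 2 F)) :=
    ⟨U.comapOfInjective E.toMonoidHom E.injective (fun v _ => ⟨E.symm v, E.apply_symm_apply v⟩), fun v => Iff.rfl⟩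
  obtain ⟨χ, hχ⟩ := PSpFour.Blocks.exists_chart V hs ((hV _).2 (by rw [MulEquiv.apply_symm_apply]; exact ht₀U))
    (fun v hv => E.injective (by
      rw [map_mul, map_mul, hs₀, MulEquiv.apply_symm_apply]
      exact ht₀c _ ((hV v).1 hv)))
  let φ : ↥(Subgroup.centralizer ({t₀} : Set (Cfsg.PSp 2 F))) ≃*
      ↥(Subgroup.centralizer ({s₀} : Set (Cfsg.PSp 2 (ZMod 3)))) :=
    { toFun := fun a => ⟨E.symm a.1, Subgroup.mem_centralizer_singleton_iff.2 (by
        rw [hs₀, ← map_mul, ← map_mul, Subgroup.mem_centralizer_singleton_iff.1 a.2])⟩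
      invFun := fun a => ⟨E a.1, Subgroup.mem_centralizer_singleton_iff.2 (E.symm.injective (by
        rw [map_mul, map_mul, MulEquiv.symm_apply_apply, ← hs₀]
        exact Subgroup.mem_centralizer_singleton_iff.1 a.2))⟩
      left_inv := fun a => Subtype.ext (E.apply_symm_apply _)
      right_inv := fun a => Subtype.ext (E.symm_apply_apply _)
      map_mul' := fun a b => Subtype.ext (map_mul E.symm _ _) }
  let ψ := e.trans φ
  let χ' := χ.comp ψ
  -- the centre of the centralizer has order two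
  have htc : χ'.code ⟨t, Subgroup.mem_centralizer_singleton_iff.2 rfl⟩ = PSpFour.Model.tc := by
    set tt : ↥(Subgroup.centralizer ({t} : Set G)) := ⟨t, Subgroup.mem_centralizer_singleton_iff.2 rfl⟩
    have hcen : ∀ σ, ∀ b ∈ PSpFour.Model.cU σ, PSpFour.Model.comm b (χ'.code tt) := by
      intro σ b hb
      obtain ⟨g, hg⟩ := χ'.surj b (PSpFour.Model.invs_lt b ((PSpFour.Model.invs_mem σ).2.1 b hb).1)
      rw [← hg, ← PSpFour.Chart.commute_iff]
      exact Subtype.ext (Subgroup.mem_centralizer_singleton_iff.1 g.2)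
    rcases PSpFour.Model.cU_center false _ (List.mem_range.2 (χ'.lt tt)) (hcen false) with h | h
    · exfalso
      have h1 := (χ'.eq_one_iff tt).2 h
      have h2 : t = 1 := congrArg Subtype.val h1
      rw [h2, orderOf_one] at ht
      norm_num at ht
    · exact h
  let P : PSpFour.Setup G t := ⟨χ', htc⟩
  obtain ⟨σ, hσ⟩ := P.exists_fusion hG
  exact hσ.equiv hF ((Nat.card_congr E.toEquiv).symm.trans PSpFour.Blocks.natCard_PP)

end Cfsg.Agent.S3221
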