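import Cfsg.Statements.S5420
import Cfsg.Agent.Lib.Cores.Basic

set_option autoImplicit false
open Cfsg

namespace Cfsg.Agent.S5420

theorem card_centre_eq_two {G : Type*} [Group G] {Q : Subgroup G}
    (hL1 : Cfsg.IsExtraspecial 2 ↥Q) : Nat.card ↥((Subgroup.center ↥Q).map Q.subtype) = 2 := by
  rw [Subgroup.card_map_of_injective Q.subtype_injective, hL1.2]

/-- Let Q be an extraspecial 2-subgroup of the finite group G whose centralizer in G is its centre Z and which is normal in the centralizer of Z. If Z lies in the largest normal 2-subgroup of G, then Q is a large extraspecial 2-subgroup of G: it normalizes no non-trivial subgroup of G of odd order. -/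
theorem result {G : Type*} [Group G] [Finite G] (Q : Subgroup G) (hL1 : Cfsg.IsExtraspecial 2 ↥Q) (hL2 : Subgroup.centralizer (Q : Set G) = ((Subgroup.center ↥Q).map Q.subtype)) (hL3 : Subgroup.centralizer (((Subgroup.center ↥Q).map Q.subtype) : Set G) ≤ Subgroup.normalizer (Q : Set G)) (hZ : ((Subgroup.center ↥Q).map Q.subtype) ≤ Cfsg.pCore 2 G) : Cfsg.IsLargeExtraspecial Q := by
  refine ⟨hL1, hL2, hL3, fun K hK hQK => ?_⟩
  haveI : Fact (Nat.Prime 2) := ⟨Nat.prime_two⟩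
  set Z := (Subgroup.center ↥Q).map Q.subtype with hZdef
  have hZQ : Z ≤ Q := Subgroup.map_subtype_le _
  have hodd : ∀ (A : Subgroup G), IsPGroup 2 A → A ⊓ K = ⊥ := by
    intro A hA
    obtain ⟨k, hk⟩ := IsPGroup.iff_card.1 hA
    apply Subgroup.inf_eq_bot_of_coprime
    rw [hk]
    exact (Nat.coprime_two_left.2 hK).pow_left k
  have hKC : K ≤ Subgroup.centralizer (Z : Set G) := by
    intro x hx
    rw [Subgroup.mem_centralizer_iff]
    intro z hz
    have h1 : z * x * z⁻¹ * x⁻¹ ∈ K :=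
      K.mul_mem ((Subgroup.mem_normalizer_iff.1 (hQK (hZQ hz)) x).1 hx) (K.inv_mem hx)
    have h2 : z * x * z⁻¹ * x⁻¹ ∈ Cfsg.pCore 2 G := by
      rw [mul_assoc z x, mul_assoc z]
      exact mul_mem (hZ hz) ((Cores.pCore_normal 2).conj_mem _ (inv_mem (hZ hz)) x)
    have h3 : z * x * z⁻¹ * x⁻¹ = 1 := by
      have hm : z * x * z⁻¹ * x⁻¹ ∈ Cfsg.pCore 2 G ⊓ K := ⟨h2, h1⟩
      rwa [hodd _ (Cores.pCore_isPGroup 2), Subgroup.mem_bot] at hm
    exact mul_inv_eq_iff_eq_mul.1 (mul_inv_eq_one.1 h3)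
  have hKQ : K ≤ Subgroup.centralizer (Q : Set G) := by
    intro x hx
    rw [Subgroup.mem_centralizer_iff]
    intro q hq
    have h1 : q * x * q⁻¹ * x⁻¹ ∈ K :=
      K.mul_mem ((Subgroup.mem_normalizer_iff.1 (hQK hq) x).1 hx) (K.inv_mem hx)
    have h2 : q * x * q⁻¹ * x⁻¹ ∈ Q := by
      rw [mul_assoc q x, mul_assoc q]
      exact Q.mul_mem hq ((Subgroup.mem_normalizer_iff.1 (hL3 (hKC hx)) _).1 (Q.inv_mem hq))
    have h3 : q * x * q⁻¹ * x⁻¹ = 1 := by
      have hm : q * x * q⁻¹ * x⁻¹ ∈ Q ⊓ K := ⟨h2, h1⟩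
      rwa [hodd _ hL1.1.1, Subgroup.mem_bot] at hm
    exact mul_inv_eq_iff_eq_mul.1 (mul_inv_eq_one.1 h3)
  rw [hL2] at hKQ
  have := hodd _ (IsPGroup.of_card (n := 1) (card_centre_eq_two hL1))
  rwa [inf_eq_right.2 hKQ] at this

end Cfsg.Agent.S5420
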