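import Cfsg.Statements.S3344
import Cfsg.Agent.Lib.ExtraThirtyTwo.Classify
import Cfsg.Agent.Lib.ExtraThirtyTwo.A0One
import Cfsg.Agent.Lib.ExtraThirtyTwo.A0Three
import Cfsg.Agent.Lib.ExtraThirtyTwo.AltFinish
import Cfsg.Agent.Lib.ExtraThirtyTwo.A0Eight
import Cfsg.Agent.Lib.ExtraThirtyTwo.A0Classes
import Cfsg.Agent.Lib.ExtraThirtyTwo.CentB
import Cfsg.Agent.Lib.ExtraThirtyTwo.CountNine
import Cfsg.Agent.Lib.ExtraThirtyTwo.CaseB0

set_option autoImplicit false
open Cfsg

namespace Cfsg.Agent.S3344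

open Cfsg.Agent ExtraThirtyTwo in
theorem a0_small : ∀ u < 32, u ≠ 1 → isInv .A0 u = true → ∃ r ∈ [2, 8, 10], u ∈ classL .A0 r := by
  decide +kernel

theorem b_inv : ExtraThirtyTwo.isInv .A0 10 = true := by decide +kernel

/-- Let G be a finite group with an involution s, L = C_G(s) and Q = O₂(L). Suppose Q is extraspecial of order 32, L/Q is isomorphic to Sym(3), C_Q(X) = ⟨s⟩ for a Sylow 3-subgroup X of L, and s is not weakly closed in Q with respect to G (some conjugate of s other than s lies in Q). Then either G has an elementary abelian normal subgroup of order 8 with quotient isomorphic to PSL(3,2), or G is isomorphic to the alternating group of degree 8 or 9, or to the Mathieu group M₁₂. -/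
theorem result {G : Type*} [Group G] [Finite G]
    (s : G) (hs : orderOf s = 2) (L : Subgroup G) (hL : L = Subgroup.centralizer ({s} : Set G))
    (Q : Subgroup G) (hQ : Q = (Cfsg.pCore 2 L).map L.subtype)
    (hQex : Cfsg.IsExtraspecial 2 Q) (hQcard : Nat.card Q = 32)
    (e : L ⧸ Cfsg.pCore 2 L ≃* Equiv.Perm (Fin 3))
    (X : Sylow 3 L) (hCQX : Q ⊓ Subgroup.centralizer (((X : Subgroup L).map L.subtype : Subgroup G) : Set G) = Subgroup.zpowers s)
    (hnwc : ∃ g : G, g * s * g⁻¹ ∈ Q ∧ g * s * g⁻¹ ≠ s) :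
    (∃ (N : Subgroup G) (hN : N.Normal), IsMulCommutative N ∧ (∀ n ∈ N, n ^ 2 = 1) ∧ Nat.card N = 8 ∧
        Nonempty (G ⧸ N ≃* Matrix.ProjectiveSpecialLinearGroup (Fin 3) (ZMod 2))) ∨
    Nonempty (G ≃* alternatingGroup (Fin 8)) ∨ Nonempty (G ≃* alternatingGroup (Fin 9)) ∨ Cfsg.Spor.IsoM12 G := by
  classical
  obtain ⟨x, t, e', C⟩ := ExtraThirtyTwo.exists_core s hs L hL Q hQ hQex hQcard e X hCQX
  obtain ⟨g, hgQ, hgs⟩ := hnwc
  have ha : orderOf (g * s * g⁻¹) = 2 := by rw [Involutions.Basic.orderOf_conj, hs]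
  obtain ⟨k, D, hcode⟩ := ExtraThirtyTwo.exists_local C hgQ (Involutions.Basic.inv_sq_one ha)
    (Involutions.Basic.ne_one ha) hgs
  obtain ⟨u, hu, hue⟩ := hcode _ hgQ
  have hu192 : u < 192 := by omega
  have hconj : IsConj s (D.el u) := isConj_iff.2 ⟨g, hue.symm⟩
  have hu1 : u ≠ 1 := fun h => hgs (by rw [← hue, h, D.s_eq])
  have hinv : ExtraThirtyTwo.isInv k u = true := (D.orderOf_two hu192).1 (hue ▸ ha)
  cases k
  case A1 => exact absurd (D.no_odd (Or.inl rfl) (C.Qcent hgQ)) hgs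
  case B1 => exact absurd (D.no_odd (Or.inr rfl) (C.Qcent hgQ)) hgs
  case B0 =>
    rcases D.case_B0 hu hu1 hconj with h | h
    · exact Or.inl h
    · exact Or.inr (Or.inr (Or.inr h))
  case A0 =>
    obtain ⟨r, hr, hrc⟩ : ∃ r ∈ [2, 8, 10], u ∈ ExtraThirtyTwo.classL .A0 r :=
      a0_small u hu hu1 hinv
    have hr192 : r < 192 := by
      simp only [List.mem_cons, List.not_mem_nil, or_false] at hr
      omega
    obtain ⟨D', h2, ⟨h8, h10, h96, h97⟩ | ⟨h8, h10, h96, h97⟩ | ⟨h8, h10, h96, h97⟩⟩ :=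
      ExtraThirtyTwo.fusion_patterns D hr (hconj.trans (D.isConj_of_mem_classL hr192 hrc).symm)
    · exact Or.inl (D'.case_one h2 h8 h10 h96 h97)
    · obtain ⟨hclass, hN⟩ := D'.two_classes h2 h8 h10 h96 h97
      obtain ⟨H, hCs, hNH, ⟨eH⟩, hclH⟩ := D'.exists_alt_eight h2 h8 h10 h96 h97
      have hsH : s ∈ H := hCs (Subgroup.mem_centralizer_singleton_iff.2 rfl)
      rcases D'.centB_cases h2 h8 h10 h96 h97 hclass hN with ⟨-, hle⟩ | ⟨hK, ψ, hinj, hrange, hb, hst⟩
      · have : IsSimpleGroup (alternatingGroup (Fin 8)) := alternatingGroup.isSimpleGroup (by simp)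
        have : Nontrivial ↥H := ⟨⟨s, hsH⟩, 1, fun he => Involutions.Basic.ne_one hs (congrArg Subtype.val he)⟩
        have hb2 : orderOf (D'.el 10) = 2 := (D'.orderOf_two (by norm_num)).2 b_inv
        have htop : H = ⊤ := ExtraThirtyTwo.eq_top_of_two_classes H s (D'.el 10) hs hb2 hsH
          (hNH (hle (Subgroup.mem_centralizer_singleton_iff.2 rfl))) h10 eH.isSimpleGroup hclH hCs
          (hle.trans hNH)
        exact Or.inr (Or.inl ⟨(Subgroup.topEquiv.symm.trans (MulEquiv.subgroupCongr htop.symm)).trans eH⟩)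
      · have hcard := D'.card_nine h2 h8 h10 h96 h97 hclass hK ψ hinj hrange hb hst
        refine Or.inr (Or.inr (Or.inl (ExtraThirtyTwo.equiv_alternating_nine H s hs hsH eH hCs ?_ hcard)))
        intro j hj hsj
        obtain ⟨c, hc⟩ := isConj_iff.1 hsj
        have hj2 : orderOf j = 2 := by rw [← hc, Involutions.Basic.orderOf_conj, hs]
        obtain ⟨h, hh, e1 | e1⟩ := hclH j hj hj2
        · exact ⟨h, hh, e1⟩
        · exact absurd (hsj.trans (isConj_iff.2 ⟨h, e1⟩)) h10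
    · exact (D'.not_all_fused h2 h8 h10 h96 h97).elim

end Cfsg.Agent.S3344
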