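import Cfsg.Statements.S0892
import Cfsg.Agent.Lib.CharTheory.AltMultiplier
-- import your own Cfsg.Agent.* helpers here

set_option autoImplicit false
open Cfsg

namespace Cfsg.Agent.S0892

/-- Let n ≥ 4 with n ≠ 6 and n ≠ 7, and let Γ be a finite group with a subgroup Z contained in both the centre and the commutator subgroup of Γ such that Γ / Z is isomorphic to the alternating group on n letters. Then Z has order at most 2. -/
theorem result (n : ℕ) (hn : 4 ≤ n) (h6 : n ≠ 6) (h7 : n ≠ 7) {Γ : Type*} [Group Γ] [Finite Γ] (Z : Subgroup Γ) [Z.Normal] (hZc : Z ≤ Subgroup.center Γ) (hZd : Z ≤ commutator Γ) (e : Γ ⧸ Z ≃* alternatingGroup (Fin n)) : Nat.card Z ≤ 2 := by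
  rcases (show n = 4 ∨ n = 5 ∨ 8 ≤ n by omega) with rfl | rfl | h8
  · refine CharTheory.AltMultiplier.card_le_two_small Z hZc hZd (Or.inl ?_)
    rw [Subgroup.index_eq_card, Nat.card_congr e.toEquiv]
    have := two_mul_nat_card_alternatingGroup (α := Fin 4)
    rw [Nat.card_eq_fintype_card (α := Equiv.Perm (Fin 4)), Fintype.card_perm, Fintype.card_fin] at this
    rw [show Nat.factorial 4 = 24 from rfl] at this
    omega
  · refine CharTheory.AltMultiplier.card_le_two_small Z hZc hZd (Or.inr ?_)
    rw [Subgroup.index_eq_card, Nat.card_congr e.toEquiv]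
    have := two_mul_nat_card_alternatingGroup (α := Fin 5)
    rw [Nat.card_eq_fintype_card (α := Equiv.Perm (Fin 5)), Fintype.card_perm, Fintype.card_fin] at this
    rw [show Nat.factorial 5 = 120 from rfl] at this
    omega
  · obtain ⟨m, rfl⟩ : ∃ m, n = m + 2 := ⟨n - 2, by omega⟩
    let φ : Γ →* Equiv.Perm (Fin (m + 2)) :=
      (alternatingGroup (Fin (m + 2))).subtype.comp (e.toMonoidHom.comp (QuotientGroup.mk' Z))
    have hker : φ.ker = Z := by
      ext g
      rw [MonoidHom.mem_ker, ← QuotientGroup.eq_one_iff (N := Z), ← map_eq_one_iff e e.injective]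
      exact ⟨fun h => Subtype.ext h, fun h => congrArg Subtype.val h⟩
    have hrange : φ.range = alternatingGroup (Fin (m + 2)) := by
      ext g
      refine ⟨?_, fun hg => ?_⟩
      · rintro ⟨x, rfl⟩; exact (e (QuotientGroup.mk' Z x)).2
      · obtain ⟨x, hx⟩ := QuotientGroup.mk'_surjective Z (e.symm ⟨g, hg⟩)
        exact ⟨x, show ((e (QuotientGroup.mk' Z x)) : Equiv.Perm (Fin (m + 2))) = g by
          rw [hx, e.apply_symm_apply]⟩
    rw [← hker]
    exact CharTheory.AltMultiplier.card_ker_le (φ := φ) (by rw [hker]; exact hZc) hrange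
      (by rw [hker]; exact hZd) (by omega)

end Cfsg.Agent.S0892
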