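import Cfsg.Statements.S4217
import Cfsg.Agent.Solvable.Gaschutz

set_option autoImplicit false
open Cfsg

namespace Cfsg.Agent.S4217

open scoped IsMulCommutative
open Cfsg.Agent.Solvable.Gaschutz

variable {G : Type*} [Group G]

/-- A crossed homomorphism to `A` which is the `m`-th power map on `A`. -/
def IsCrossed (A : Subgroup G) [IsMulCommutative A] [A.Normal] (m : ℤ) : Prop :=
  ∃ D : G → A, (∀ g h, D (g * h) = MulAut.conjNormal g (D h) * D g) ∧ ∀ a : A, D a = a ^ m

theorem crossed_add (A : Subgroup G) [IsMulCommutative A] [A.Normal] {m n : ℤ}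
    (hm : IsCrossed A m) (hn : IsCrossed A n) : IsCrossed A (m + n) := by
  obtain ⟨D, hD, hDa⟩ := hm
  obtain ⟨E, hE, hEa⟩ := hn
  refine ⟨fun g => D g * E g, fun g h => ?_, fun a => by simp only [hDa, hEa, zpow_add]⟩
  simp only [hD, hE, map_mul]
  exact mul_mul_mul_comm _ _ _ _

theorem crossed_neg (A : Subgroup G) [IsMulCommutative A] [A.Normal] {m : ℤ}
    (hm : IsCrossed A m) : IsCrossed A (-m) := by
  obtain ⟨D, hD, hDa⟩ := hm
  refine ⟨fun g => (D g)⁻¹, fun g h => ?_, fun a => by simp only [hDa, zpow_neg]⟩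
  simp only [hD, map_inv, mul_inv]

theorem crossed_index [Finite G] (A U K : Subgroup G) [IsMulCommutative A] [A.Normal]
    (hAU : A ≤ U) (hKA : K ⊓ A = ⊥) (hsup : K ⊔ A = U) : IsCrossed A (U.index : ℤ) := by
  have hKU : K ≤ U := hsup ▸ le_sup_left
  obtain ⟨σ⟩ := exists_sect (A := K) hKU
  rw [sup_comm] at hsup
  refine ⟨fun g => delta hKU hKA hsup (act hKU g σ) σ, fun g h => ?_, fun a => ?_⟩
  · show delta hKU hKA hsup (act hKU (g * h) σ) σ = _
    rw [act_mul, ← delta_mul hKU hKA hsup _ (act hKU g σ) σ]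
    congr 1
    refine Subtype.ext ?_
    rw [delta_act]
    exact (MulAut.conjNormal_apply _ _).symm
  · show delta hKU hKA hsup (act hKU (a : G) σ) σ = _
    rw [delta_act_mem hKU hKA hsup hAU a σ, zpow_natCast]


/-- Let `A` be an abelian normal subgroup of the finite group `G`. Then `A` has a complement in `G` if and only if, for every prime `p` dividing the index of `A`, there are a Sylow `p`-subgroup `S` of `G/A` and a subgroup `K` of `G` with `K ∩ A = 1` and `KA` equal to the preimage of `S` (that is, `A` has a complement in the preimage of a Sylow `p`-subgroup of `G/A`). -/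
theorem result {G : Type*} [Group G] [Finite G] (A : Subgroup G) [A.Normal] (hA : IsMulCommutative A) : (∃ K : Subgroup G, K.IsComplement' A) ↔ ∀ p : ℕ, p.Prime → p ∣ A.index → ∃ (S : Sylow p (G ⧸ A)) (K : Subgroup G), K ⊓ A = ⊥ ∧ K ⊔ A = (S : Subgroup (G ⧸ A)).comap (QuotientGroup.mk' A) := by
  haveI := hA
  constructor
  · rintro ⟨K, hK⟩ p hp _
    haveI := Fact.mk hp
    obtain ⟨S⟩ := (inferInstance : Nonempty (Sylow p (G ⧸ A)))
    set U := (S : Subgroup (G ⧸ A)).comap (QuotientGroup.mk' A) with hU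
    have hAU : A ≤ U := fun a ha => by
      rw [hU, Subgroup.mem_comap, QuotientGroup.mk'_apply, (QuotientGroup.eq_one_iff a).2 ha]
      exact one_mem _
    refine ⟨S, K ⊓ U, ?_, le_antisymm (sup_le inf_le_right hAU) fun u hu => ?_⟩
    · rw [inf_right_comm, hK.disjoint.eq_bot, bot_inf_eq]
    · have hu' : u ∈ K ⊔ A := by rw [hK.sup_eq_top]; exact Subgroup.mem_top u
      obtain ⟨k, hk, a, ha, rfl⟩ := Subgroup.mem_sup_of_normal_right.1 hu'
      exact Subgroup.mul_mem_sup (Subgroup.mem_inf.2 ⟨hk, (Subgroup.mul_mem_cancel_right U (hAU ha)).1 hu⟩) ha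
  · intro h
    have h1 : IsCrossed A 1 := by
      let T : AddSubgroup ℤ :=
        { carrier := {m | IsCrossed A m}
          add_mem' := crossed_add A
          zero_mem' := ⟨fun _ => 1, fun g h => by simp, fun a => by simp⟩
          neg_mem' := crossed_neg A }
      show (1 : ℤ) ∈ T
      obtain ⟨d, hd⟩ := Int.subgroup_cyclic T
      rw [hd, ← AddSubgroup.zmultiples_eq_closure, Int.mem_zmultiples_iff]
      have hdvd : ∀ m, IsCrossed A m → d ∣ m := fun m hm => by
        rw [← Int.mem_zmultiples_iff, AddSubgroup.zmultiples_eq_closure, ← hd]; exact hm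
      have hAi : d ∣ (A.index : ℤ) := hdvd _ (crossed_index A A ⊥ le_rfl (bot_inf_eq _) (bot_sup_eq _))
      rw [← Int.natAbs_dvd, Int.natCast_dvd, Int.natAbs_one, Nat.dvd_one]
      by_contra hne
      obtain ⟨q, hq, hqd⟩ := Nat.exists_prime_and_dvd hne
      haveI := Fact.mk hq
      have hqA : q ∣ A.index := hqd.trans (by exact_mod_cast Int.natAbs_dvd_natAbs.2 hAi)
      obtain ⟨S, K, hK1, hK2⟩ := h q hq hqA
      have hAU : A ≤ (S : Subgroup (G ⧸ A)).comap (QuotientGroup.mk' A) := hK2 ▸ le_sup_right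
      have h2 := Int.natAbs_dvd_natAbs.2 (hdvd _ (crossed_index A _ K hAU hK1 hK2))
      rw [Int.natAbs_natCast, Subgroup.index_comap_of_surjective _ (QuotientGroup.mk'_surjective A)] at h2
      exact S.not_dvd_index (hqd.trans h2)
    obtain ⟨D, hD, hDa⟩ := h1
    have hD1 : D 1 = 1 := by
      have := hD 1 1
      rw [mul_one, map_one, MulAut.one_apply] at this
      exact mul_eq_left.1 this.symm
    let K : Subgroup G :=
      { carrier := {g | D g = 1}
        one_mem' := hD1
        mul_mem' := fun {g h} hg hh => by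
          show D (g * h) = 1
          rw [hD, show D g = 1 from hg, show D h = 1 from hh, map_one, one_mul]
        inv_mem' := fun {g} hg => by
          show D g⁻¹ = 1
          have := hD g⁻¹ g
          rwa [inv_mul_cancel, hD1, show D g = 1 from hg, map_one, one_mul, eq_comm] at this }
    refine ⟨K, Subgroup.isComplement'_of_disjoint_and_mul_eq_univ ?_ ?_⟩
    · rw [Subgroup.disjoint_def]
      intro x hxK hxA
      have h3 := hDa ⟨x, hxA⟩
      rw [show D x = 1 from hxK, zpow_one] at h3
      exact congrArg Subtype.val h3.symm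
    · refine Set.eq_univ_iff_forall.2 fun g => ?_
      refine ⟨((D g : A) : G)⁻¹ * g, ?_, g⁻¹ * (D g : G) * g, ?_, by group⟩
      · show D _ = 1
        have h5 := hDa (D g)⁻¹
        rw [Subgroup.coe_inv, zpow_one] at h5
        rw [hD, h5]
        have h6 : MulAut.conjNormal ((D g : A) : G)⁻¹ (D g) = D g := Subtype.ext (by
          rw [MulAut.conjNormal_apply]; group)
        rw [h6, mul_inv_cancel]
      · simpa using ‹A.Normal›.conj_mem _ (D g).2 g⁻¹

end Cfsg.Agent.S4217
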