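import Cfsg.Statements.S2739
import Mathlib

set_option autoImplicit false
open scoped Pointwise
open Cfsg

namespace Cfsg.Agent.S2739

theorem injective_or_const {F : Type*} [Field F] (hu : ∀ a : F, a ≠ 0 → a ^ 3 = 1)
    (e : Fin 3 → F) (he0 : ∀ i, e i ≠ 0) (hprod : e 0 * e 1 * e 2 = 1) :
    Function.Injective e ∨ ∀ i, e i = e 0 := by
  have step : ∀ x z : F, x ≠ 0 → x * x * z = 1 → z = x := fun x z hx hxz =>
    mul_left_cancel₀ (mul_ne_zero hx hx) (hxz.trans (by linear_combination -(hu x hx)))
  by_cases h01 : e 0 = e 1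
  · have h2 := step (e 0) (e 2) (he0 0) (by rw [← hprod, ← h01])
    right; intro i; fin_cases i
    · rfl
    · exact h01.symm
    · exact h2
  by_cases h02 : e 0 = e 2
  · have h1 := step (e 0) (e 1) (he0 0) (by rw [← hprod, ← h02]; ring)
    exact absurd h1.symm h01
  by_cases h12 : e 1 = e 2
  · have h0 := step (e 1) (e 0) (he0 1) (by rw [← hprod, ← h12]; ring)
    exact absurd h0 h01
  left; intro i j hij
  fin_cases i <;> fin_cases j <;> first | rfl | (exfalso; first | exact h01 hij | exact h01 hij.symm | exact h02 hij | exact h02 hij.symm | exact h12 hij | exact h12 hij.symm)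

theorem exists_eq_of_injective {F : Type*} [Field F] [Fintype F] (hF : Fintype.card F = 4)
    (e : Fin 3 → F) (he : Function.Injective e) (he0 : ∀ i, e i ≠ 0) {a : F} (ha : a ≠ 0) :
    ∃ j, e j = a := by
  classical
  let g : Option (Fin 3) → F := fun o => o.elim 0 e
  have hg : Function.Injective g := by
    rintro (_ | i) (_ | j) h
    · rfl
    · exact absurd h.symm (he0 j)
    · exact absurd h (he0 i)
    · exact congrArg some (he h)
  obtain ⟨(_ | j), hj⟩ := ((Fintype.bijective_iff_injective_and_card g).2 ⟨hg, by simp [hF]⟩).2 a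
  · exact absurd hj.symm ha
  · exact ⟨j, hj⟩

set_option maxHeartbeats 1000000 in
open Matrix in
theorem exists_conj_diag {F : Type*} [Field F] [Fintype F] (hF : Fintype.card F = 4)
    (M : Matrix.SpecialLinearGroup (Fin 3) F) (hns : M ∉ Subgroup.center _) (h3 : M ^ 3 ∈ Subgroup.center (Matrix.SpecialLinearGroup (Fin 3) F))
    (d : Fin 3 → F) (hd : Function.Injective d) (hd0 : ∀ i, d i ≠ 0) :
    ∃ P : Matrix.SpecialLinearGroup (Fin 3) F, (M.1 * P.1) = P.1 * diagonal d := by
  classical
  have hu : ∀ a : F, a ≠ 0 → a ^ 3 = 1 := fun a ha => by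
    simpa [hF] using FiniteField.pow_card_sub_one_eq_one a ha
  have h30 : (3 : F) ≠ 0 := fun e => by
    have h2 : (4 : F) = 0 := by
      have := FiniteField.cast_card_eq_zero F
      rw [hF] at this; exact_mod_cast this
    exact one_ne_zero (α := F) (by linear_combination h2 - e)
  obtain ⟨c, hc3, hcM⟩ := Matrix.SpecialLinearGroup.mem_center_iff.1 h3
  have hM3 : M.1 ^ 3 = Matrix.scalar (Fin 3) c := by rw [hcM]; simp
  have hc1 : c = 1 := by
    by_contra hc
    have hirr : Irreducible (Polynomial.X ^ 3 - Polynomial.C c) :=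
      X_pow_sub_C_irreducible_of_prime Nat.prime_three fun b hb => hc (by
        rw [← hb]
        refine hu b fun e => ?_
        simp [e] at hb; simp [← hb] at hc3)
    have hmon := Polynomial.monic_X_pow_sub_C c (by norm_num : (3 : ℕ) ≠ 0)
    have hmin : minpoly F M.1 = Polynomial.X ^ 3 - Polynomial.C c :=
      (minpoly.eq_of_irreducible_of_monic hirr (by
        simp [hM3, Matrix.algebraMap_eq_diagonal, Matrix.scalar_apply, Pi.algebraMap_def]) hmon).symm
    have hchar : M.1.charpoly = Polynomial.X ^ 3 - Polynomial.C c :=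
      Polynomial.eq_of_monic_of_dvd_of_natDegree_le hmon (M.1.charpoly_monic)
        (hmin ▸ Matrix.minpoly_dvd_charpoly M.1)
        (by rw [Matrix.charpoly_natDegree_eq_dim, Polynomial.natDegree_X_pow_sub_C]; simp)
    have hdet := Matrix.det_eq_sign_charpoly_coeff M.1
    rw [hchar, M.2] at hdet
    simp [Polynomial.coeff_X_pow] at hdet
    exact hc (by linear_combination -hdet)
  set f : Module.End F (Fin 3 → F) := Matrix.toLin' M.1 with hf
  have hf3 : f ^ 3 = 1 := by
    rw [hf, ← Matrix.toLin'_pow, hM3, hc1, map_one, Matrix.toLin'_one]; rfl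
  have hspan : Submodule.span F {v : Fin 3 → F | ∃ a : F, f v = a • v} = ⊤ := by
    refine top_le_iff.1 fun v _ => ?_
    have hmem : ∀ a : F, a ≠ 0 → v + a ^ 2 • f v + a • f (f v) ∈
        Submodule.span F {v : Fin 3 → F | ∃ a : F, f v = a • v} := fun a ha => by
      refine Submodule.subset_span ⟨a, ?_⟩
      have e : f (f (f v)) = v := by
        have := congrArg (fun g : Module.End F (Fin 3 → F) => g v) hf3
        simpa [pow_succ, Module.End.mul_apply] using this
      simp only [map_add, map_smul, e, smul_add, smul_smul]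
      rw [show a * a ^ 2 = a ^ 3 by ring, hu a ha, one_smul, ← sq]
      abel
    have hs := Submodule.sum_mem _ fun i (_ : i ∈ (Finset.univ : Finset (Fin 3))) => hmem (d i) (hd0 i)
    have hsum : ∑ i, d i = 0 ∧ ∑ i, d i ^ 2 = 0 := by
      have hne : ∀ i j, i ≠ j → d i ≠ d j := fun i j hij e => hij (hd e)
      have q : ∀ i j, i ≠ j → d i ^ 2 + d i * d j + d j ^ 2 = 0 := fun i j hij => by
        refine (mul_eq_zero.1 ?_).resolve_left (sub_ne_zero.2 (hne i j hij))
        linear_combination hu _ (hd0 i) - hu _ (hd0 j)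
      have s1 : d 0 + d 1 + d 2 = 0 := by
        refine (mul_eq_zero.1 ?_).resolve_left (sub_ne_zero.2 (hne 1 2 (by decide)))
        linear_combination q 0 1 (by decide) - q 0 2 (by decide)
      refine ⟨by simpa [Fin.sum_univ_three] using s1, ?_⟩
      simp only [Fin.sum_univ_three]
      linear_combination (2 : F) * q 0 1 (by decide) + (d 2 - d 0 - d 1) * s1
    rw [Finset.sum_add_distrib, Finset.sum_add_distrib, ← Finset.sum_smul, ← Finset.sum_smul,
      hsum.1, hsum.2, zero_smul, zero_smul, add_zero, add_zero, Finset.sum_const, Finset.card_univ,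
      Fintype.card_fin, ← Nat.cast_smul_eq_nsmul F] at hs
    simpa [smul_smul, inv_mul_cancel₀ h30] using Submodule.smul_mem _ (3 : F)⁻¹ hs
  obtain ⟨B, hBsub, hBspan, hBli⟩ := exists_linearIndependent F {v : Fin 3 → F | ∃ a : F, f v = a • v}
  let b₀ : Module.Basis B F (Fin 3 → F) := Module.Basis.mk hBli (by simp [hBspan, hspan])
  haveI : Fintype B := FiniteDimensional.fintypeBasisIndex b₀
  let b := b₀.reindex (Fintype.equivFinOfCardEq (by
    rw [← Module.finrank_eq_card_basis b₀, Module.finrank_fin_fun]))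
  have hb : ∀ i, ∃ a : F, f (b i) = a • b i := fun i => by
    rw [show b i = _ from Module.Basis.reindex_apply _ _ _, Module.Basis.mk_apply]
    exact hBsub (Subtype.prop _)
  choose e he using hb
  let Q : Matrix (Fin 3) (Fin 3) F := (Pi.basisFun F (Fin 3)).toMatrix b
  have hQ : M.1 * Q = Q * diagonal e := by
    ext i j
    have := congrFun (he j) i
    rw [hf, Matrix.toLin'_apply] at this
    rw [Matrix.mul_diagonal, Matrix.mul_apply]
    simpa [Q, Module.Basis.toMatrix_apply, Matrix.mulVec, dotProduct, mul_comm] using this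
  have hQu : IsUnit Q := by
    letI := (Pi.basisFun F (Fin 3)).invertibleToMatrix b
    exact isUnit_of_invertible Q
  have hQd : Q.det ≠ 0 := ((Matrix.isUnit_iff_isUnit_det Q).1 hQu).ne_zero
  have hprod : e 0 * e 1 * e 2 = 1 := by
    have h := congrArg Matrix.det hQ
    rw [Matrix.det_mul, Matrix.det_mul, M.2, one_mul, Matrix.det_diagonal, Fin.prod_univ_three] at h
    exact mul_left_cancel₀ hQd (by rw [← h, mul_one])
  have he0 : ∀ i, e i ≠ 0 := by
    intro i hi
    have : e 0 * e 1 * e 2 = 0 := by fin_cases i <;> simp at hi <;> simp [hi]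
    rw [hprod] at this; exact one_ne_zero this
  have hinj : Function.Injective e := by
    refine (injective_or_const hu e he0 hprod).resolve_right fun hall => hns ?_
    refine Matrix.SpecialLinearGroup.mem_center_iff.2 ⟨e 0, by simpa using hu _ (he0 0), ?_⟩
    have hscal : diagonal e = Matrix.scalar (Fin 3) (e 0) := by
      rw [Matrix.scalar_apply, funext hall]
    rw [hscal, ← (Matrix.scalar_commute (e 0) (fun r' => Commute.all _ r') Q).eq] at hQ
    exact (hQu.mul_left_inj.1 hQ).symm
  -- reorder and rescale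
  have hsub : ∀ i, ∃ j, e j = d i := fun i => exists_eq_of_injective hF e hinj he0 (hd0 i)
  choose π hπ using hsub
  have hπi : Function.Injective π := fun i j hij => hd (by rw [← hπ, ← hπ, hij])
  let σ : Equiv.Perm (Fin 3) := Equiv.ofBijective π ⟨hπi, Finite.surjective_of_injective hπi⟩
  set Q' : Matrix (Fin 3) (Fin 3) F := Q.submatrix id σ with hQ'def
  have hQ'' : M.1 * Q' = Q' * diagonal d := by
    ext i j
    have := congrFun (congrFun hQ i) (σ j)
    rw [Matrix.mul_diagonal] at this
    rw [Matrix.mul_diagonal, ← hπ, show π j = σ j from rfl]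
    simpa [Q', Matrix.mul_apply] using this
  have hdet' : Q'.det ≠ 0 := by
    rw [hQ'def, Matrix.det_permute']
    rcases Int.units_eq_one_or (Equiv.Perm.sign σ) with h | h <;> simp [h, hQd]
  refine ⟨⟨Q' * diagonal ![Q'.det⁻¹, 1, 1], ?_⟩, ?_⟩
  · rw [Matrix.det_mul, Matrix.det_diagonal, Fin.prod_univ_three]
    simp [hdet']
  · show M.1 * (Q' * diagonal _) = Q' * diagonal _ * diagonal d
    rw [← mul_assoc, hQ'', mul_assoc, mul_assoc, diagonal_mul_diagonal, diagonal_mul_diagonal]
    congr 2; funext i; ring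

/-- In the projective special linear group PSL(3, 4) all subgroups of order 3 are conjugate. -/
theorem result (F : Type*) [Field F] [Fintype F] (hF : Fintype.card F = 4) (X Y : Subgroup (Matrix.ProjectiveSpecialLinearGroup (Fin 3) F)) (hX : Nat.card ↥X = 3) (hY : Nat.card ↥Y = 3) : ∃ g : Matrix.ProjectiveSpecialLinearGroup (Fin 3) F, MulAut.conj g • X = Y := by
  classical
  haveI : Fact (Nat.Prime 3) := ⟨Nat.prime_three⟩
  have hcu : Fintype.card Fˣ = 3 := by rw [Fintype.card_units, hF]
  let u : Fin 3 ≃ Fˣ := (Fintype.equivFinOfCardEq hcu).symm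
  let d : Fin 3 → F := fun i => (u i : F)
  have hd : Function.Injective d := Units.val_injective.comp u.injective
  suffices H : ∀ x y : Matrix.ProjectiveSpecialLinearGroup (Fin 3) F, orderOf x = 3 → orderOf y = 3 →
      IsConj x y by
    obtain ⟨x, hx⟩ := exists_prime_orderOf_dvd_card' (G := X) 3 hX.symm.dvd
    obtain ⟨y, hy⟩ := exists_prime_orderOf_dvd_card' (G := Y) 3 hY.symm.dvd
    rw [← Subgroup.orderOf_coe] at hx hy
    obtain ⟨g, hg⟩ := isConj_iff.1 (H x y hx hy)
    have eX : Subgroup.zpowers (x : Matrix.ProjectiveSpecialLinearGroup (Fin 3) F) = X :=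
      Subgroup.eq_of_le_of_card_ge (Subgroup.zpowers_le.2 x.2) (by rw [hX, Nat.card_zpowers, hx])
    have eY : Subgroup.zpowers (y : Matrix.ProjectiveSpecialLinearGroup (Fin 3) F) = Y :=
      Subgroup.eq_of_le_of_card_ge (Subgroup.zpowers_le.2 y.2) (by rw [hY, Nat.card_zpowers, hy])
    refine ⟨g, ?_⟩
    rw [← eX, ← eY, ← hg]
    show Subgroup.map (MulAut.conj g).toMonoidHom _ = _
    rw [MonoidHom.map_zpowers]
    rfl
  have key : ∀ x : Matrix.ProjectiveSpecialLinearGroup (Fin 3) F, orderOf x = 3 →
      ∃ D P : Matrix.SpecialLinearGroup (Fin 3) F, D.1 = Matrix.diagonal d ∧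
        x = QuotientGroup.mk (P * D * P⁻¹) := by
    intro x hx
    induction x using QuotientGroup.induction_on with
    | _ M =>
    have h3 : M ^ 3 ∈ Subgroup.center _ := (QuotientGroup.eq_one_iff _).1 (by
      have := pow_orderOf_eq_one (QuotientGroup.mk M : Matrix.ProjectiveSpecialLinearGroup (Fin 3) F)
      rw [hx] at this
      rw [QuotientGroup.mk_pow]; exact this)
    have hns : M ∉ Subgroup.center _ := fun h => by
      rw [(QuotientGroup.eq_one_iff M).2 h, orderOf_one] at hx; omega
    obtain ⟨P, hP⟩ := exists_conj_diag hF M hns h3 d hd (fun i => (u i).ne_zero)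
    refine ⟨P⁻¹ * M * P, P, ?_, by group⟩
    show (P⁻¹ * M * P : Matrix.SpecialLinearGroup (Fin 3) F).1 = _
    simp only [Matrix.SpecialLinearGroup.coe_mul]
    rw [mul_assoc, hP, ← mul_assoc, ← Matrix.SpecialLinearGroup.coe_mul, inv_mul_cancel,
      Matrix.SpecialLinearGroup.coe_one, one_mul]
  intro x y hx hy
  obtain ⟨D, P, hD, rfl⟩ := key x hx
  obtain ⟨D', P', hD', rfl⟩ := key y hy
  obtain rfl : D = D' := Subtype.ext (hD.trans hD'.symm)
  exact (MonoidHom.map_isConj (QuotientGroup.mk' _) (isConj_iff.2 ⟨P' * P⁻¹, by group⟩))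

end Cfsg.Agent.S2739
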