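import Cfsg.Statements.S4291
import Cfsg.Agent.GroupStructure3.FrobNonsolvable
import Cfsg.Agent.Lib.Characters.Burnside

set_option autoImplicit false
open Cfsg Cfsg.Agent.GroupStructure3

namespace Cfsg.Agent.S4291

theorem isSolvable_perm_four : Group.IsSolvable (Equiv.Perm (Fin 4)) :=
  Cfsg.Agent.Characters.burnside_pa_qb Nat.prime_two Nat.prime_three
    (a := 3) (b := 1) (by rw [Nat.card_perm, Nat.card_fin]; rfl)


/-- Let G be a finite group that occurs as a Frobenius complement. Then G has exactly one normal subgroup N such that every Sylow subgroup of N is cyclic and the quotient of G by N is trivial or isomorphic to one of the following five groups: the Klein four-group, the alternating group of degree 4, the symmetric group of degree 4, the alternating group of degree 5, the symmetric group of degree 5. (The quotient is described by a surjective homomorphism with kernel N; the Klein four-group is written as the dihedral group of order 4.) -/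
theorem result {G : Type*} [Group G] [Finite G]
    (hFC : (∃ (L : Type) (_ : Group L) (_ : Finite L) (H : Subgroup L), Cfsg.IsFrobeniusComplement H ∧ Nonempty (G ≃* H))) :
    ∃! N : Subgroup G, N.Normal ∧ (∀ (p : ℕ) [Fact p.Prime] (P : Sylow p N), IsCyclic P) ∧
      (N = ⊤ ∨
        (∃ f : G →* DihedralGroup 2, Function.Surjective f ∧ f.ker = N) ∨
        (∃ f : G →* alternatingGroup (Fin 4), Function.Surjective f ∧ f.ker = N) ∨
        (∃ f : G →* Equiv.Perm (Fin 4), Function.Surjective f ∧ f.ker = N) ∨
        (∃ f : G →* alternatingGroup (Fin 5), Function.Surjective f ∧ f.ker = N) ∨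
        (∃ f : G →* Equiv.Perm (Fin 5), Function.Surjective f ∧ f.ker = N)) := by
  have hP := FrobStruct.props_of_complement hFC
  by_cases hsol : Group.IsSolvable G
  · haveI := hsol
    obtain ⟨N, hN, -, huniq⟩ := FrobStruct.solvable_main hP
    exact ⟨N, hN, huniq⟩
  obtain ⟨L, M, f, -, hf, -, hZ, -, -, -, -, -⟩ := FrobStruct.nonsolvable_main hP hsol
  haveI := hZ
  refine ⟨f.ker, ⟨inferInstance, FrobStruct.sylow_cyclic_of_isZGroup hZ, ?_⟩, ?_⟩
  · haveI : Nontrivial (Fin 5) := Fin.nontrivial_iff_two_le.mpr (by omega)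
    have h1 := Subgroup.relIndex_mul_index hf
    rw [alternatingGroup.index_eq_two] at h1
    have h2 : f.range.index = 1 ∨ f.range.index = 2 :=
      (Nat.dvd_prime Nat.prime_two).mp ⟨_, by rw [mul_comm]; exact h1.symm⟩
    rcases h2 with h2 | h2
    · exact Or.inr (Or.inr (Or.inr (Or.inr (Or.inr
        ⟨f, MonoidHom.range_eq_top.mp (Subgroup.index_eq_one.mp h2), rfl⟩))))
    · have he := Equiv.Perm.eq_alternatingGroup_of_index_eq_two h2
      refine Or.inr (Or.inr (Or.inr (Or.inr (Or.inl
        ⟨f.codRestrict _ fun x => he ▸ ⟨x, rfl⟩, ?_, MonoidHom.ker_codRestrict _ _ _⟩))))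
      rintro ⟨y, hy⟩
      rw [← he] at hy
      obtain ⟨x, rfl⟩ := hy
      exact ⟨x, rfl⟩
  rintro N ⟨hNn, hNc, hN⟩
  haveI := hNn
  haveI : IsZGroup N := FrobStruct.isZGroup_of_sylow_cyclic hNc
  have hsmall : ∀ {Y : Type} [Group Y] [Group.IsSolvable Y] (g : G →* Y), g.ker = N → False := by
    intro Y _ _ g hg
    exact hsol (Group.isSolvable_of_ker_le_range N.subtype g (by rw [hg, Subgroup.range_subtype]))
  refine le_antisymm (FrobStruct.five_kill f hf N) ?_
  rcases hN with rfl | ⟨g, -, hg⟩ | ⟨g, -, hg⟩ | ⟨g, -, hg⟩ | ⟨g, hgs, hg⟩ | ⟨g, hgs, hg⟩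
  · exact le_top
  · haveI : Group.IsSolvable (DihedralGroup 2) := by
      haveI : Fact (Nat.Prime 2) := ⟨Nat.prime_two⟩
      haveI : Group.IsNilpotent (DihedralGroup 2) :=
        (IsPGroup.of_card (n := 2) (by rw [DihedralGroup.nat_card]; rfl) :
          IsPGroup 2 (DihedralGroup 2)).isNilpotent
      infer_instance
    exact (hsmall g hg).elim
  · haveI := isSolvable_perm_four
    exact (hsmall ((alternatingGroup (Fin 4)).subtype.comp g)
      (by rw [MonoidHom.ker_comp_of_injective g _ (Subgroup.subtype_injective _), hg])).elim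
  · haveI := isSolvable_perm_four
    exact (hsmall g hg).elim
  · rw [← hg, ← MonoidHom.ker_comp_of_injective g _ (Subgroup.subtype_injective (alternatingGroup (Fin 5)))]
    refine FrobStruct.five_kill _ (fun x hx => ?_) f.ker
    obtain ⟨a, ha⟩ := hgs ⟨x, hx⟩
    exact ⟨a, congrArg Subtype.val ha⟩
  · rw [← hg]
    exact FrobStruct.five_kill g (by rw [MonoidHom.range_eq_top.mpr hgs]; exact le_top) f.ker

end Cfsg.Agent.S4291
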