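import Cfsg.Statements.S2140
import Cfsg.Agent.SimpleFacts.MinDeg.MinIndex
import Cfsg.Agent.Lib.Classical.Linear

set_option autoImplicit false
open Cfsg
open scoped Matrix

namespace Cfsg.Agent.S2140

/-- Minimal index of a proper subgroup of the linear groups: for n ≥ 3 and a field F with q elements, (n, q) ≠ (4, 2), every proper subgroup of PSL_n(F) has index at least (q^n − 1)/(q − 1), and some subgroup has exactly that index (the stabiliser of a point of the projective space). -/
theorem result {F : Type*} [Field F] [Fintype F] {q : ℕ} (hF : Fintype.card F = q) (n : ℕ) (hn : 3 ≤ n) (hexc : ¬ (n = 4 ∧ q = 2)) : (∀ H : Subgroup (Matrix.ProjectiveSpecialLinearGroup (Fin n) F), H ≠ ⊤ → (q ^ n - 1) / (q - 1) ≤ H.index) ∧ (∃ H : Subgroup (Matrix.ProjectiveSpecialLinearGroup (Fin n) F), H.index = (q ^ n - 1) / (q - 1)) := by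
  classical
  subst hF
  have hq : 2 ≤ Fintype.card F := Fintype.one_lt_card
  obtain ⟨m, rfl⟩ : ∃ m, n = m + 1 := ⟨n - 1, by omega⟩
  have hT : (Fintype.card F ^ (m + 1) - 1) / (Fintype.card F - 1) =
      SimpleFacts.MinDeg.T (Fintype.card F) m + 1 := by
    have h := SimpleFacts.MinDeg.T_mul (Fintype.card F) m
    have hsub : Fintype.card F ^ (m + 1) - 1 = (SimpleFacts.MinDeg.T (Fintype.card F) m + 1) * (Fintype.card F - 1) := by
      obtain ⟨r, hr⟩ : ∃ r, Fintype.card F = r + 1 := ⟨Fintype.card F - 1, by omega⟩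
      rw [hr] at h ⊢
      rw [Nat.add_sub_cancel]
      have : (SimpleFacts.MinDeg.T (r + 1) m + 1) * (r + 1) =
          (SimpleFacts.MinDeg.T (r + 1) m + 1) * r + (SimpleFacts.MinDeg.T (r + 1) m + 1) := by ring
      have : SimpleFacts.MinDeg.T (r + 1) m * (r + 1) + (r + 1) = (SimpleFacts.MinDeg.T (r + 1) m + 1) * (r + 1) := by
        ring
      omega
    rw [hsub, Nat.mul_div_cancel _ (by omega)]
  refine ⟨fun H hH => ?_, ?_⟩
  · rw [hT]
    set π := QuotientGroup.mk' (Subgroup.center (Matrix.SpecialLinearGroup (Fin (m + 1)) F))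
    have hπ : Function.Surjective π := QuotientGroup.mk'_surjective _
    have hidx : (H.comap π).index = H.index := Subgroup.index_comap_of_surjective H hπ
    have hne : H.comap π ≠ ⊤ := fun e => hH (Subgroup.comap_injective hπ (e.trans (Subgroup.comap_top π).symm))
    rw [← hidx]
    by_cases h32 : m = 2 ∧ Fintype.card F = 2
    · obtain ⟨rfl, h2⟩ := h32
      rw [hidx, h2, show SimpleFacts.MinDeg.T 2 2 + 1 = 7 from rfl]
      haveI := Classical.Linear.isSimpleGroup_PSL_fin (n := 3) (F := F) (by omega) (fun e => absurd e (by omega))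
      by_contra hlt
      have hinj : Function.Injective (MulAction.toPermHom (Matrix.ProjectiveSpecialLinearGroup (Fin 3) F)
          (Matrix.ProjectiveSpecialLinearGroup (Fin 3) F ⧸ H)) := by
        rw [← MonoidHom.ker_eq_bot_iff, ← Subgroup.normalCore_eq_ker]
        rcases IsSimpleGroup.eq_bot_or_eq_top_of_normal H.normalCore H.normalCore_normal with e | e
        · exact e
        · exact absurd (top_le_iff.1 (e ▸ H.normalCore_le)) hH
      have hdvd := Subgroup.card_dvd_of_injective _ hinj
      rw [Nat.card_perm, show Nat.card (Matrix.ProjectiveSpecialLinearGroup (Fin 3) F ⧸ H) = H.index from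
        (Subgroup.index_eq_card H).symm] at hdvd
      have hcard := Classical.Linear.gcd_mul_natCard_PSL_fin (F := F) (show 1 ≤ 3 by omega)
      have hSL := Classical.Linear.mul_natCard_SL_fin (F := F) (show 1 ≤ 3 by omega)
      rw [h2, Fin.prod_univ_three] at hSL
      rw [h2] at hcard
      norm_num at hSL hcard
      rw [← Nat.card_eq_fintype_card] at hSL
      have h168 : Nat.card (Matrix.ProjectiveSpecialLinearGroup (Fin 3) F) = 168 := by
        rw [Nat.card_eq_fintype_card] at *
        omega
      rw [h168] at hdvd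
      have hlt' : H.index ≤ 6 := by omega
      interval_cases H.index <;> revert hdvd <;> decide
    by_cases h34 : m = 2 ∧ Fintype.card F = 4
    · obtain ⟨rfl, h4⟩ := h34
      rw [h4]
      exact SimpleFacts.MinDeg.index_three_four h4 _ hne
    by_cases h43 : m = 3 ∧ Fintype.card F = 3
    · obtain ⟨rfl, h3⟩ := h43
      rw [h3]
      exact SimpleFacts.MinDeg.index_four_three h3 _ hne
    have h := SimpleFacts.MinDeg.index_ge (F := F) hn ⟨fun e => h32 ?_, fun e => h34 ?_, fun e => hexc ?_, fun e => h43 ?_⟩
      (H.comap π) hne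
    · rwa [Nat.add_sub_cancel] at h
    all_goals
      simp only [Prod.mk.injEq] at e
      exact ⟨by omega, e.2⟩
  · have hne : (Pi.single 0 1 : Fin (m + 1) → F) ≠ 0 := by simp
    set p₀ := Projectivization.mk F (Pi.single 0 1 : Fin (m + 1) → F) hne
    set S := MulAction.stabilizer (Matrix.SpecialLinearGroup (Fin (m + 1)) F) p₀
    set π := QuotientGroup.mk' (Subgroup.center (Matrix.SpecialLinearGroup (Fin (m + 1)) F))
    have hker : π.ker ≤ S := by
      rw [QuotientGroup.ker_mk']
      intro g hg
      obtain ⟨r, hr, hgr⟩ := Matrix.SpecialLinearGroup.mem_center_iff.1 hg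
      have hr0 : r ≠ 0 := by
        rintro rfl
        simp at hr
      rw [MulAction.mem_stabilizer_iff, Projectivization.matrixSpecialLinearGroup_smul_def]
      refine (Projectivization.mk_eq_mk_iff' F _ _ _ _).2 ⟨r, ?_⟩
      show r • (Pi.single 0 1 : Fin (m + 1) → F) = (g : Matrix (Fin (m + 1)) (Fin (m + 1)) F) *ᵥ Pi.single 0 1
      rw [← hgr]
      funext k
      simp [Pi.single_apply]
    refine ⟨S.map π, ?_⟩
    rw [Subgroup.index_map_eq S (QuotientGroup.mk'_surjective _) hker, MulAction.index_stabilizer,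
      MulAction.orbit_eq_univ, Set.ncard_univ,
      Projectivization.card'' F, Module.natCard_eq_pow_finrank (K := F), Module.finrank_fin_fun,
      Nat.card_eq_fintype_card]

end Cfsg.Agent.S2140
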