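import Cfsg.Statements.S0803
import Cfsg.Agent.Lib.Forms.KleinClasses
import Cfsg.Agent.S0800
-- import your own Cfsg.Agent.* helpers here

set_option autoImplicit false
open Cfsg

namespace Cfsg.Agent.S0803

theorem pi_one {F : Type*} [Field F] [Fintype F] [CharP F 2]
    (a : Matrix.SpecialLinearGroup (Fin 2) F) (h : Forms.KleinPSL.pi F a = 1) : a = 1 := by
  rcases Forms.KleinPSL.pi_eq_one.1 h with h | h
  · exact h
  · subst h
    apply Subtype.ext
    rw [Matrix.SpecialLinearGroup.coe_neg, Matrix.SpecialLinearGroup.coe_one]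
    ext i j
    simp [CharTwo.neg_eq]

theorem sq_of_four {F : Type*} [Field F] [CharP F 2] (X : Matrix.SpecialLinearGroup (Fin 2) F)
    (h : X ^ 4 = 1) : X ^ 2 = 1 := by
  rw [pow_two]
  set M := (X : Matrix (Fin 2) (Fin 2) F)
  have h4 : M * M * (M * M) = 1 := by
    have := congrArg Subtype.val h
    rw [show X ^ 4 = X * X * (X * X) by simp [pow_succ, mul_assoc]] at this
    simpa using this
  have hd : M 0 0 * M 1 1 - M 0 1 * M 1 0 = 1 := by rw [← Matrix.det_fin_two]; exact X.2
  have h2 : (2 : F) = 0 := CharTwo.two_eq_zero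
  have e00 := congrFun (congrFun h4 0) 0
  have e01 := congrFun (congrFun h4 0) 1
  have e10 := congrFun (congrFun h4 1) 0
  simp [Matrix.mul_apply, Fin.sum_univ_two] at e00 e01 e10
  have ht : M 0 0 + M 1 1 = 0 := by
    have : (M 0 0 + M 1 1) ^ 4 = 0 := by
      have e11 := congrFun (congrFun h4 1) 1
      simp [Matrix.mul_apply, Fin.sum_univ_two] at e11
      linear_combination e00 + e11 + h2 * (1 - (M 0 0 * M 1 1 - M 0 1 * M 1 0) ^ 2 +
        2 * (M 0 0 * M 1 1 - M 0 1 * M 1 0) * (M 0 0 + M 1 1) ^ 2)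
    exact eq_zero_of_pow_eq_zero this
  apply Subtype.ext
  show M * M = (1 : Matrix (Fin 2) (Fin 2) F)
  ext i j
  fin_cases i <;> fin_cases j <;> simp [Matrix.mul_apply, Fin.sum_univ_two]
  · linear_combination M 0 0 * ht - hd - h2
  · linear_combination M 0 1 * ht
  · linear_combination M 1 0 * ht
  · linear_combination M 1 1 * ht - hd - h2

/-- PSL_2(q) has a subgroup isomorphic to S_4 iff q² ≡ 1 (mod 16). -/
theorem result {F : Type*} [Field F] [Fintype F] {q : ℕ} (hF : Fintype.card F = q) : (∃ H : Subgroup (Matrix.ProjectiveSpecialLinearGroup (Fin 2) F), Nonempty (H ≃* Equiv.Perm (Fin 4))) ↔ q ^ 2 % 16 = 1 := by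
  subst hF
  constructor
  · rintro ⟨H, ⟨e⟩⟩
    obtain ⟨x, hx⟩ : ∃ x : Matrix.ProjectiveSpecialLinearGroup (Fin 2) F, orderOf x = 4 := by
      obtain ⟨s, hs4, hs2⟩ : ∃ s : Equiv.Perm (Fin 4), s ^ 4 = 1 ∧ s ^ 2 ≠ 1 :=
        ⟨finRotate 4, by decide, by decide⟩
      refine ⟨((e.symm s : H) : Matrix.ProjectiveSpecialLinearGroup (Fin 2) F), ?_⟩
      rw [Subgroup.orderOf_coe, MulEquiv.orderOf_eq]
      exact orderOf_eq_prime_pow (p := 2) (n := 1) hs2 hs4
    obtain ⟨X, rfl⟩ := Forms.KleinPSL.pi_surjective x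
    rcases Nat.even_or_odd (Fintype.card F) with he | ho
    · exfalso
      have h2c : ringChar F = 2 := FiniteField.even_card_iff_char_two.2 (Nat.even_iff.1 he)
      haveI : CharP F 2 := h2c ▸ ringChar.charP F
      have h4 : Forms.KleinPSL.pi F (X ^ 4) = 1 := by rw [map_pow, ← hx, pow_orderOf_eq_one]
      have hinj : ∀ a, Forms.KleinPSL.pi F a = 1 → a = 1 := pi_one
      have hX4 := hinj _ h4
      have hX2 : X ^ 2 = 1 := sq_of_four X hX4
      have hne : ¬ orderOf (Forms.KleinPSL.pi F X) ∣ 2 := by rw [hx]; norm_num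
      exact hne (orderOf_dvd_of_pow_eq_one (by rw [← map_pow, hX2, map_one]))
    · have h2 := Classical.SylowSL2.two_ne_zero_of_odd ho
      have h4 : Forms.KleinPSL.pi F (X ^ 4) = 1 := by rw [map_pow, ← hx, pow_orderOf_eq_one]
      have hne : ¬ orderOf (Forms.KleinPSL.pi F X) ∣ 2 := by rw [hx]; norm_num
      have hX2 : ¬ (X * X = 1 ∨ X * X = -1) := fun h =>
        hne (orderOf_dvd_of_pow_eq_one (by rw [pow_two, ← map_mul]; exact Forms.KleinPSL.pi_eq_one.2 h))
      have hX4 : X ^ (2 ^ 2) = -1 := by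
        rcases Forms.KleinPSL.pi_eq_one.1 h4 with h | h
        · refine absurd (Forms.KleinClasses.sq_eq_one (h2 := h2) ?_) hX2
          rw [← h]; simp [pow_succ, mul_assoc]
        · exact h
      have ho8 : orderOf X = 2 ^ (2 + 1) := by
        refine orderOf_eq_prime_pow ?_ ?_
        · rw [hX4]; exact (Forms.KleinPSL.ne_neg_self h2 1).symm
        · rw [pow_succ, pow_mul, hX4]; simp
      obtain ⟨p, hpc⟩ := CharP.exists F
      haveI := hpc
      haveI : Fact p.Prime := ⟨CharP.char_is_prime F p⟩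
      have hp2 : p ≠ 2 := by
        rintro rfl
        exact h2 CharTwo.two_eq_zero
      have hcop : Nat.Coprime (orderOf X) p := by
        rw [ho8]
        exact Nat.Coprime.pow_left _ ((Nat.coprime_primes Nat.prime_two Fact.out).2 hp2.symm)
      have h8 := S0800.result rfl p X hcop
      rw [ho8] at h8
      have h1 := Fintype.one_lt_card (α := F)
      have hq : Fintype.card F % 8 = 1 ∨ Fintype.card F % 8 = 7 := by omega
      rw [Nat.pow_mod]
      have : Fintype.card F % 16 = 1 ∨ Fintype.card F % 16 = 7 ∨ Fintype.card F % 16 = 9 ∨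
          Fintype.card F % 16 = 15 := by omega
      rcases this with h | h | h | h <;> rw [h] <;> rfl
  · intro hq
    rw [Nat.pow_mod] at hq
    have hm := Nat.mod_lt (Fintype.card F) (show 16 > 0 by norm_num)
    have hmod : Fintype.card F % 16 = 1 ∨ Fintype.card F % 16 = 7 ∨ Fintype.card F % 16 = 9 ∨
        Fintype.card F % 16 = 15 := by
      interval_cases h : Fintype.card F % 16 <;> omega
    have hodd : Odd (Fintype.card F) := Nat.odd_iff.2 (by omega)
    have h2 := Classical.SylowSL2.two_ne_zero_of_odd hodd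
    obtain ⟨r, hr⟩ := FiniteField.isSquare_two_iff.2
      (show Fintype.card F % 8 ≠ 3 ∧ Fintype.card F % 8 ≠ 5 by omega)
    obtain ⟨a, b, hab⟩ := Forms.KleinSL2.exists_circ h2 (-1 : F)
    obtain ⟨t, t1, t2, t3, t4⟩ := Forms.KleinClasses.exists_sym4Elt hab h2 (s := r⁻¹)
      (by rw [← mul_inv, ← hr])
    exact (Forms.KleinClasses.alt4Data hab h2).exists_sym4 t1 t2 t3 t4

end Cfsg.Agent.S0803
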