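import Cfsg.Statements.S0804
import Cfsg.Agent.Lib.Forms.KleinIco
import Cfsg.Agent.Lib.Forms.PslMap
import Cfsg.Agent.S0252
import Cfsg.Agent.S0253
-- import your own Cfsg.Agent.* helpers here

set_option autoImplicit false
open Cfsg

namespace Cfsg.Agent.S0804

theorem exists_golden {F : Type*} [Field F] [Fintype F] (h2 : (2 : F) ≠ 0)
    (h : 5 ∣ Fintype.card F * (Fintype.card F ^ 2 - 1)) : ∃ t : F, t * t = t + 1 := by
  classical
  haveI : Fact (Nat.Prime 5) := ⟨by norm_num⟩
  have hc : 5 ∣ Nat.card (Matrix.SpecialLinearGroup (Fin 2) F) := by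
    rw [Classical.GL2.natCard_SL_two]
    obtain ⟨r, hr⟩ : ∃ r, Fintype.card F = r + 1 := ⟨Fintype.card F - 1, by
      have := Fintype.one_lt_card (α := F); omega⟩
    rw [hr] at h ⊢
    rwa [Nat.add_sub_cancel, show (r + 1) ^ 2 - 1 = r * (r + 1 + 1) by
      rw [show (r + 1) ^ 2 = r * (r + 1 + 1) + 1 by ring]; omega] at *
  obtain ⟨X, hX⟩ := exists_prime_orderOf_dvd_card' 5 hc
  have hX1 : X ≠ 1 := fun e => by simp [e] at hX
  have h5 : X ^ 5 = 1 := hX ▸ pow_orderOf_eq_one X
  set M := (X : Matrix (Fin 2) (Fin 2) F) with hM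
  set t := M 0 0 + M 1 1 with ht
  have hd : M 0 0 * M 1 1 - M 0 1 * M 1 0 = 1 := by rw [← Matrix.det_fin_two]; exact X.2
  have hch : M * M = t • M - 1 := by
    ext i j
    fin_cases i <;> fin_cases j <;> simp [ht, Matrix.mul_apply, Fin.sum_univ_two] <;>
      first | linear_combination -hd | ring
  have h5' : (t ^ 4 - 3 * t ^ 2 + 1) • M = (t ^ 3 - 2 * t + 1) • (1 : Matrix (Fin 2) (Fin 2) F) := by
    have e : M ^ 5 = 1 := by
      rw [hM, ← Matrix.SpecialLinearGroup.coe_pow, h5, Matrix.SpecialLinearGroup.coe_one]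
    have e3 : M ^ 3 = (t ^ 2 - 1) • M - t • 1 := by
      rw [pow_succ, pow_two, hch, sub_mul, one_mul, Matrix.smul_mul, hch]
      match_scalars <;> ring
    have e4 : M ^ 4 = (t ^ 3 - 2 * t) • M - (t ^ 2 - 1) • 1 := by
      rw [pow_succ, e3, sub_mul, Matrix.smul_mul, Matrix.smul_mul, one_mul, hch]
      match_scalars <;> ring
    have e5 : M ^ 5 = (t ^ 4 - 3 * t ^ 2 + 1) • M - (t ^ 3 - 2 * t) • 1 := by
      rw [pow_succ, e4, sub_mul, Matrix.smul_mul, Matrix.smul_mul, one_mul, hch]
      match_scalars <;> ring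
    rw [e, eq_sub_iff_add_eq] at e5
    rw [← e5]
    match_scalars <;> ring
  by_cases hpoly : t ^ 4 - 3 * t ^ 2 + 1 = 0
  · have : (t * t + t - 1) * (t * t - t - 1) = 0 := by linear_combination hpoly
    rcases mul_eq_zero.1 this with e | e
    · exact ⟨-t, by linear_combination e⟩
    · exact ⟨t, by linear_combination e⟩
  · exfalso
    -- `X` is scalar
    have e01 := congrFun (congrFun h5' 0) 1
    have e10 := congrFun (congrFun h5' 1) 0
    have e00 := congrFun (congrFun h5' 0) 0
    have e11 := congrFun (congrFun h5' 1) 1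
    simp [hpoly] at e01 e10 e00 e11
    have h11 : M 1 1 = M 0 0 := mul_left_cancel₀ hpoly (e11.trans e00.symm)
    rcases mul_self_eq_one_iff.1 (by rw [e01, e10, h11] at hd; linear_combination hd :
        M 0 0 * M 0 0 = 1) with e | e
    · refine hX1 (Subtype.ext ?_)
      rw [Matrix.SpecialLinearGroup.coe_one]
      show M = 1
      ext i j
      fin_cases i <;> fin_cases j <;> simp [e01, e10, h11, e]
    · have hXn : X = -1 := by
        refine Subtype.ext ?_
        rw [Matrix.SpecialLinearGroup.coe_neg, Matrix.SpecialLinearGroup.coe_one]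
        show M = -1
        ext i j
        fin_cases i <;> fin_cases j <;> simp [e01, e10, h11, e]
      rw [hXn, Odd.neg_one_pow (by decide)] at h5
      exact (Forms.KleinPSL.ne_neg_self h2 1) h5.symm

/-- PSL_2(q) has a subgroup isomorphic to A_5 iff 5 ∣ q(q² − 1). -/
theorem result {F : Type*} [Field F] [Fintype F] {q : ℕ} (hF : Fintype.card F = q) : (∃ H : Subgroup (Matrix.ProjectiveSpecialLinearGroup (Fin 2) F), Nonempty (H ≃* alternatingGroup (Fin 5))) ↔ 5 ∣ q * (q ^ 2 - 1) := by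
  subst hF
  constructor
  · rintro ⟨H, ⟨e⟩⟩
    have h1 : 60 ∣ Nat.card (Matrix.ProjectiveSpecialLinearGroup (Fin 2) F) := by
      have h60 : Nat.card (alternatingGroup (Fin 5)) = 60 := by
        rw [nat_card_alternatingGroup, Nat.card_fin]
        rfl
      rw [← h60, ← Nat.card_congr e.toEquiv]
      exact H.card_subgroup_dvd_card
    have h3 := Dvd.dvd.trans ((by norm_num : 5 ∣ 60).trans h1)
      (Dvd.intro_left _ (Classical.SmallIso.natCard_pslTwo F))
    rw [Classical.GL2.natCard_SL_two] at h3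
    obtain ⟨r, hr⟩ : ∃ r, Fintype.card F = r + 1 := ⟨Fintype.card F - 1, by
      have := Fintype.one_lt_card (α := F); omega⟩
    rw [hr, Nat.add_sub_cancel] at h3
    rwa [hr, show (r + 1) ^ 2 = r * (r + 1 + 1) + 1 by ring, Nat.add_sub_cancel]
  · intro h5
    by_cases h2 : (2 : F) = 0
    · haveI : CharP F 2 := (CharTwo.of_one_ne_zero_of_two_eq_zero one_ne_zero h2)
      obtain ⟨n, -, hn⟩ := FiniteField.card F 2
      obtain ⟨k, hk⟩ : Even (n : ℕ) := by
        by_contra ho
        obtain ⟨k, hk⟩ := Nat.not_even_iff_odd.1 ho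
        have hsq : Fintype.card F ^ 2 % 5 = 4 := by
          rw [hn, hk, ← pow_mul, show (2 * k + 1) * 2 = 4 * k + 2 by ring, pow_add, pow_mul,
            Nat.mul_mod, Nat.pow_mod]
          norm_num
        rcases (Nat.Prime.dvd_mul (by norm_num)).1 h5 with h | h
        · have := Nat.pow_mod (Fintype.card F) 2 5
          rw [Nat.dvd_iff_mod_eq_zero.1 h] at this
          omega
        · omega
      let K := GaloisField 2 2
      haveI : Fintype K := Fintype.ofFinite K
      have hK : Fintype.card K = 4 := by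
        rw [← Nat.card_eq_fintype_card, GaloisField.card 2 2 (by norm_num)]; rfl
      obtain ⟨f⟩ := Forms.PslMap.nonempty_ringHom (K := K) (F := F) k (by
        rw [hK, hn, hk, show (4 : ℕ) = 2 ^ 2 from rfl, ← pow_mul, two_mul])
      obtain ⟨e⟩ := S0252.result hK
      obtain ⟨H, ⟨g⟩⟩ := Forms.PslMap.exists_subgroup_psl f
      exact ⟨H, ⟨g.trans e⟩⟩
    by_cases h50 : (5 : F) = 0
    · haveI : Fact (Nat.Prime 5) := ⟨by norm_num⟩
      haveI : CharP F 5 := (CharP.charP_iff_prime_eq_zero (by norm_num)).2 (by exact_mod_cast h50)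
      obtain ⟨e⟩ := S0253.result (F := ZMod 5) (ZMod.card 5)
      obtain ⟨H, ⟨g⟩⟩ := Forms.PslMap.exists_subgroup_psl (ZMod.castHom (dvd_refl 5) F)
      exact ⟨H, ⟨g.trans e⟩⟩
    obtain ⟨t, ht⟩ := exists_golden h2 h5
    exact Forms.KleinIco.exists_icosahedral h2 h50 ht

end Cfsg.Agent.S0804
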