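import Cfsg.Statements.S0251
import Cfsg.Agent.Lib.Classical.GL2
import Cfsg.Agent.Lib.Classical.SmallIso

set_option autoImplicit false
open Cfsg

namespace Cfsg.Agent.S0251

/-- PSL_2(3) is isomorphic to A_4. -/
theorem result {F : Type*} [Field F] [Fintype F] (hF : Fintype.card F = 3) : Nonempty (Matrix.ProjectiveSpecialLinearGroup (Fin 2) F ≃* alternatingGroup (Fin 4)) := by
  obtain ⟨f, hf⟩ := Classical.SmallIso.exists_pslTwo_hom F 4 (by omega)
  refine Classical.SmallIso.nonempty_mulEquiv_alternating f hf ?_
  have h := Classical.SmallIso.natCard_pslTwo F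
  rw [Classical.GL2.natCard_SL_two, hF] at h
  norm_num at h
  simp only [Fintype.card_fin, Nat.factorial]
  omega

end Cfsg.Agent.S0251
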