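import Cfsg.Statements.S1012
import Mathlib
import Cfsg.Agent.Lib.SmallSimple.Basic

set_option autoImplicit false
open Cfsg

namespace Cfsg.Agent.S1012

/-- A group of order 24 containing no element of order 6 is isomorphic to the symmetric group of degree 4. -/
theorem result {G : Type*} [Group G] [Finite G] (h : Nat.card G = 24) (h6 : ∀ g : G, orderOf g ≠ 6) : Nonempty (G ≃* Equiv.Perm (Fin 4)) := by
  classical
  haveI : Fact (Nat.Prime 3) := ⟨Nat.prime_three⟩
  open Cfsg.Agent.SmallSimple.Basic in
  have hP3 : ∀ P : Sylow 3 G, Nat.card (P : Subgroup G) = 3 := fun P => by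
    simpa using Cfsg.Agent.SmallSimple.Basic.card_sylow_eq_pow (a := 1) (m := 8)
      (by rw [h]; norm_num) (by norm_num) P
  obtain P : Sylow 3 G := default
  set N := Subgroup.normalizer ((P : Subgroup G) : Set G) with hN
  have hno : ∀ a b : G, orderOf a = 3 → orderOf b = 2 → a * b ≠ b * a := fun a b ha hb hab =>
    h6 (a * b) (by rw [Commute.orderOf_mul_eq_mul_orderOf_of_coprime hab (by rw [ha, hb]; norm_num), ha, hb])
  have hmul := Cfsg.Agent.SmallSimple.Basic.card_normalizer_mul P
  rw [h] at hmul
  have hdvd : Nat.card (Sylow 3 G) ∣ 8 := by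
    have h1 := P.card_dvd_index
    have h2 := (P : Subgroup G).card_mul_index
    rw [hP3, h] at h2
    rwa [show (P : Subgroup G).index = 8 by omega] at h1
  have hmod : Nat.card (Sylow 3 G) % 3 = 1 := card_sylow_modEq_one 3 G
  -- the centraliser of P has no involution
  have hcent : ∀ b : G, b ∈ Subgroup.centralizer ((P : Subgroup G) : Set G) → orderOf b ≠ 2 := by
    intro b hb hb2
    haveI : Nontrivial (P : Subgroup G) := Finite.one_lt_card_iff_nontrivial.1 (by rw [hP3]; norm_num)
    obtain ⟨a, ha⟩ := exists_ne (1 : (P : Subgroup G))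
    refine hno a b ?_ hb2 (hb a a.2)
    rw [Subgroup.orderOf_coe]
    exact orderOf_eq_prime ((congrArg (a ^ ·) (hP3 P).symm).trans pow_card_eq_one') ha
  have hn4 : Nat.card (Sylow 3 G) = 4 := by
    rcases (Nat.dvd_prime_pow Nat.prime_two (m := 3)).1 (by norm_num; exact hdvd) with ⟨k, hk, hk'⟩
    interval_cases k <;> norm_num at hk' <;> rw [hk'] at hmod ⊢ <;> try omega
    -- n = 1 : the centraliser has index at most 2
    exfalso
    rw [hk', mul_one] at hmul
    haveI : Fact (Nat.Prime 2) := ⟨Nat.prime_two⟩
    have hker := Subgroup.normalizerMonoidHom_ker (P : Subgroup G)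
    have hd : ((Subgroup.centralizer ((P : Subgroup G) : Set G)).subgroupOf N).index ∣ 2 := by
      rw [← hker, Subgroup.index_ker]
      refine (Subgroup.card_subgroup_dvd_card _).trans ?_
      haveI : IsCyclic (P : Subgroup G) := isCyclic_of_prime_card (hP3 P)
      rw [IsCyclic.card_mulAut, hP3, Nat.totient_prime Nat.prime_three]
    have hNC := Subgroup.card_mul_index ((Subgroup.centralizer ((P : Subgroup G) : Set G)).subgroupOf N)
    rw [hmul] at hNC
    have h2dvd : 2 ∣ Nat.card ↥((Subgroup.centralizer ((P : Subgroup G) : Set G)).subgroupOf N) := by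
      rcases (Nat.dvd_prime Nat.prime_two).1 hd with e | e <;> rw [e] at hNC <;> omega
    obtain ⟨b, hb⟩ := exists_prime_orderOf_dvd_card' 2 h2dvd
    exact hcent _ b.2 (by rw [← hb, ← Subgroup.orderOf_coe b, ← Subgroup.orderOf_coe (b : N)]; rfl)
  have hN6 : Nat.card N = 6 := by rw [hn4, ← hN] at hmul; omega
  let f := MulAction.toPermHom G (G ⧸ N)
  have hidx : N.index = 4 := by
    exact P.card_eq_index_normalizer.symm.trans hn4
  have hker : f.ker = ⊥ := by
    rw [← Subgroup.normalCore_eq_ker, ← Subgroup.card_eq_one]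
    set K := N.normalCore
    have hle : K ≤ N := Subgroup.normalCore_le N
    have hd : Nat.card K ∣ 6 := hN6 ▸ Subgroup.card_dvd_of_le hle
    have hno3 : ¬ 3 ∣ Nat.card K := by
      intro h3
      obtain ⟨a, ha⟩ := exists_prime_orderOf_dvd_card' 3 h3
      have haG : orderOf (a : G) = 3 := by rw [Subgroup.orderOf_coe, ha]
      obtain ⟨Q, hQ⟩ := (IsPGroup.of_card (n := 1) (G := Subgroup.zpowers (a : G))
        (by rw [Nat.card_zpowers, haG, pow_one])).exists_le_sylow
      have hQa : (Q : Subgroup G) = Subgroup.zpowers (a : G) :=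
        (Subgroup.eq_of_le_of_card_ge hQ (by rw [hP3, Nat.card_zpowers, haG])).symm
      have hall : ∀ S : Sylow 3 G, (S : Subgroup G) ≤ K := by
        intro S
        obtain ⟨g, rfl⟩ := MulAction.exists_smul_eq G Q S
        intro x hx
        rw [Sylow.coe_subgroup_smul, Subgroup.mem_pointwise_smul_iff_inv_smul_mem, MulAut.smul_def,
          MulAut.inv_apply, MulAut.conj_symm_apply] at hx
        have hxK : g⁻¹ * x * g ∈ K := (hQa ▸ Subgroup.zpowers_le.2 a.2 : (Q : Subgroup G) ≤ K) hx
        have := (Subgroup.normalCore_normal N).conj_mem _ hxK g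
        simpa [mul_assoc] using this
      have : ∀ S : Sylow 3 G, (S : Subgroup G) = P := fun S => by
        have hS : (S : Subgroup G) ≤ N := (hall S).trans hle
        have h1 : (S : Subgroup G) ⊓ (P : Subgroup G) = S :=
          (S.2.inf_normalizer_sylow P).symm.trans (inf_eq_left.2 hS)
        exact Subgroup.eq_of_le_of_card_ge (inf_eq_left.1 h1) (by rw [hP3, hP3])
      haveI : Subsingleton (Sylow 3 G) := ⟨fun S T => Sylow.ext ((this S).trans (this T).symm)⟩
      have := Finite.card_le_one_iff_subsingleton.2 ‹Subsingleton (Sylow 3 G)›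
      omega
    have hno2 : ¬ 2 ∣ Nat.card K := by
      intro h2
      haveI : Fact (Nat.Prime 2) := ⟨Nat.prime_two⟩
      have hK2 : Nat.card K = 2 := by
        have : Nat.card K ≤ 6 := Nat.le_of_dvd (by norm_num) hd
        interval_cases (Nat.card K) <;> omega
      obtain ⟨b, hb⟩ := exists_prime_orderOf_dvd_card' 2 h2
      refine hcent b ?_ (by rw [Subgroup.orderOf_coe, hb])
      intro a _
      have hK : ∀ x : K, x = 1 ∨ x = b := by
        intro x
        by_contra hx
        push Not at hx
        haveI := Fintype.ofFinite K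
        have h3 : ({1, b, x} : Finset K).card ≤ Nat.card K := by
          rw [Nat.card_eq_fintype_card]; exact Finset.card_le_univ _
        have hb1 : b ≠ 1 := fun e => by rw [e, orderOf_one] at hb; omega
        rw [Finset.card_insert_of_notMem (by simp [Ne.symm hx.1, Ne.symm hb1]),
          Finset.card_pair (Ne.symm hx.2), hK2] at h3
        omega
      rcases hK ⟨a * b * a⁻¹, (Subgroup.normalCore_normal N).conj_mem _ b.2 a⟩ with e | e
      · have e' : a * (b : G) * a⁻¹ = 1 := congrArg Subtype.val e
        have : (b : G) = 1 := conj_eq_one_iff.1 e'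
        rw [← Subgroup.orderOf_coe, this, orderOf_one] at hb; omega
      · exact mul_inv_eq_iff_eq_mul.1 (congrArg Subtype.val e)
    have : Nat.card K ≤ 6 := Nat.le_of_dvd (by norm_num) hd
    have : 0 < Nat.card K := Nat.card_pos
    interval_cases (Nat.card K) <;> omega
  have hinj : Function.Injective f := (MonoidHom.ker_eq_bot_iff f).1 hker
  have hcard : Nat.card G = Nat.card (Equiv.Perm (G ⧸ N)) := by
    rw [Nat.card_perm, h, ← Subgroup.index_eq_card, hidx]; rfl
  have hbij : Function.Bijective f := (Nat.bijective_iff_injective_and_card f).2 ⟨hinj, hcard⟩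
  exact ⟨(MulEquiv.ofBijective f hbij).trans
    ((Finite.equivFinOfCardEq (by rw [← Subgroup.index_eq_card, hidx] : Nat.card (G ⧸ N) = 4)).permCongrHom)⟩

end Cfsg.Agent.S1012
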