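import Cfsg.Statements.S2568
import Cfsg.Agent.Lib.Classical.PowScalarClasses
-- import your own Cfsg.Agent.* helpers here

set_option autoImplicit false
open Cfsg

namespace Cfsg.Agent.S2568

open Cfsg.Agent.Classical Polynomial

/-- multisets over `P ∪ {z}` of weighted size `n`, `z` of weight one -/
theorem natCard_weighted {β : Type*} [DecidableEq β] (w : β → ℕ) (z : β) (hz : w z = 1) (P : Finset β)
    (hzP : z ∉ P) (i n : ℕ) (hi : 0 < i) (hP : ∀ p ∈ P, w p = i) :
    Nat.card {s : Multiset β // (∀ p ∈ s, p = z ∨ p ∈ P) ∧ (s.map w).sum = n} =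
      Nat.choose (n / i + P.card) P.card := by
  classical
  have hsplit : ∀ s : Multiset β, (∀ p ∈ s, p = z ∨ p ∈ P) →
      s = Multiset.replicate (s.count z) z + ∑ p ∈ P, Multiset.replicate (s.count p) p := by
    intro s hs
    ext x
    rw [Multiset.count_add, Multiset.count_replicate, Multiset.count_sum']
    simp only [Multiset.count_replicate, eq_comm (b := x), Finset.sum_ite_eq]
    by_cases hx : x = z
    · subst hx
      rw [if_pos rfl, if_neg hzP, Nat.add_zero]
    · rw [if_neg hx, Nat.zero_add]
      by_cases hxP : x ∈ P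
      · rw [if_pos hxP]
      · rw [if_neg hxP]
        exact Multiset.count_eq_zero.2 fun h => (hs x h).elim hx hxP
  have hsum : ∀ (m : ℕ) (a : P → ℕ),
      ((Multiset.replicate m z + ∑ p : P, Multiset.replicate (a p) (p : β)).map w).sum =
        m + i * ∑ p, a p := by
    intro m a
    have hf : ∀ s : Finset P, ((∑ p ∈ s, Multiset.replicate (a p) (p : β)).map w).sum =
        i * ∑ p ∈ s, a p := fun s => by
      induction s using Finset.induction with
      | empty => simp
      | insert b s hb ih =>
        rw [Finset.sum_insert hb, Finset.sum_insert hb, Multiset.map_add, Multiset.sum_add, ih,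
          Multiset.map_replicate, Multiset.sum_replicate, smul_eq_mul, hP b b.2, mul_add]
        ring
    rw [Multiset.map_add, Multiset.sum_add, hf, Multiset.map_replicate, Multiset.sum_replicate, hz,
      smul_eq_mul, mul_one]
  have hcount : ∀ (m : ℕ) (a : P → ℕ) (x : P),
      (Multiset.replicate m z + ∑ p : P, Multiset.replicate (a p) (p : β)).count (x : β) = a x := by
    intro m a x
    rw [Multiset.count_add, Multiset.count_replicate, Multiset.count_sum',
      if_neg (fun e => hzP (by rw [e]; exact x.2)), Nat.zero_add, Finset.sum_eq_single x]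
    · rw [Multiset.count_replicate_self]
    · intro p _ hp
      rw [Multiset.count_replicate, if_neg fun e => hp (Subtype.ext e)]
    · simp
  have hsub : ∀ s : Multiset β, (∀ p ∈ s, p = z ∨ p ∈ P) →
      s = Multiset.replicate (s.count z) z + ∑ p : P, Multiset.replicate (s.count (p : β)) (p : β) :=
    fun s hs => by
      rw [Finset.sum_coe_sort P fun p => Multiset.replicate (s.count p) p]
      exact hsplit s hs
  have h1 : Nat.card {s : Multiset β // (∀ p ∈ s, p = z ∨ p ∈ P) ∧ (s.map w).sum = n} =
      Nat.card {b : Option P → ℕ // ∑ o, b o = n / i} := by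
    refine Nat.card_eq_of_bijective (fun s => ⟨fun o => o.elim (n / i - ∑ p : P, s.1.count (p : β))
      fun p => s.1.count (p : β), ?_⟩) ⟨?_, ?_⟩
    · have h := hsum (s.1.count z) fun p => s.1.count (p : β)
      rw [← hsub s.1 s.2.1, s.2.2] at h
      have : ∑ p : P, s.1.count (p : β) ≤ n / i := by
        rw [Nat.le_div_iff_mul_le hi, mul_comm]
        omega
      rw [Fintype.sum_option]
      simp only [Option.elim]
      omega
    · intro s s' e
      have e' := congrArg Subtype.val e
      have hp : ∀ p : P, s.1.count (p : β) = s'.1.count (p : β) := fun p => congrFun e' (some p)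
      have hz' : s.1.count z = s'.1.count z := by
        have h := hsum (s.1.count z) fun p => s.1.count (p : β)
        have h' := hsum (s'.1.count z) fun p => s'.1.count (p : β)
        rw [← hsub s.1 s.2.1, s.2.2] at h
        rw [← hsub s'.1 s'.2.1, s'.2.2] at h'
        simp only [hp] at h
        omega
      refine Subtype.ext ?_
      rw [hsub s.1 s.2.1, hsub s'.1 s'.2.1, hz']
      simp only [hp]
    · rintro ⟨b, hb⟩
      have hle : i * ∑ p : P, b (some p) ≤ n := by
        rw [Fintype.sum_option] at hb
        calc i * ∑ p : P, b (some p) ≤ i * (n / i) := by gcongr; omega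
          _ ≤ n := Nat.mul_div_le n i
      refine ⟨⟨Multiset.replicate (n - i * ∑ p : P, b (some p)) z +
        ∑ p : P, Multiset.replicate (b (some p)) (p : β), ?_, ?_⟩, ?_⟩
      · intro x hx
        rw [Multiset.mem_add] at hx
        rcases hx with hx | hx
        · exact Or.inl (Multiset.eq_of_mem_replicate hx)
        · obtain ⟨p, -, hp⟩ := Multiset.mem_sum.1 hx
          exact Or.inr (by rw [Multiset.eq_of_mem_replicate hp]; exact p.2)
      · rw [hsum]; omega
      · refine Subtype.ext (funext fun o => ?_)
        rw [Fintype.sum_option] at hb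
        rcases o with _ | p
        · simp only [hcount, Option.elim]
          omega
        · simp only [hcount, Option.elim]
  rw [h1, ← Nat.card_congr (Sym.equivNatSumOfFintype (Option P) (n / i)),
    Nat.card_eq_fintype_card, Sym.card_sym_eq_choose, Fintype.card_option, Fintype.card_coe,
    show P.card + 1 + n / i - 1 = n / i + P.card by
      rw [Nat.add_right_comm, Nat.add_sub_cancel, Nat.add_comm], Nat.choose_symm_add]

/-- Number of conjugacy classes of elements of a given prime order r, coprime to the characteristic, in GL_n(q): if i is the multiplicative order of q modulo r and t = (r − 1)/i, the classes correspond to the non-zero t-tuples of natural numbers (a_1, …, a_t) with i(a_1 + ⋯ + a_t) ≤ n (a_j is the multiplicity of the j-th Frobenius orbit of nontrivial r-th roots of unity among the eigenvalues), so there are exactly C(⌊n/i⌋ + t, t) − 1 of them. -/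
theorem result {F : Type*} [Field F] [Fintype F] {p q : ℕ} [Fact p.Prime] [CharP F p] (hF : Fintype.card F = q) (n r i t : ℕ) (hr : r.Prime) (hrp : r ≠ p) (hi : i = orderOf (q : ZMod r)) (ht : t * i = r - 1) : Nat.card {C : ConjClasses (GL (Fin n) F) // ∃ g : GL (Fin n) F, ConjClasses.mk g = C ∧ orderOf g = r} = Nat.choose (n / i + t) t - 1 := by
  classical
  haveI : Fact r.Prime := ⟨hr⟩
  obtain ⟨f, hp, hpf⟩ := FiniteField.card F p
  have hcop : Nat.Coprime (p ^ (f : ℕ)) r :=
    Nat.Coprime.pow_left _ ((Nat.coprime_primes hp hr).2 fun e => hrp e.symm)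
  have hri : (r : F) ≠ 0 := fun h => hrp
    ((Nat.prime_dvd_prime_iff_eq Fact.out hr).1 ((CharP.cast_eq_zero_iff F p r).1 h)).symm
  have hord : orderOf (ZMod.unitOfCoprime _ hcop) = i := by
    rw [← orderOf_units, ZMod.coe_unitOfCoprime, hi, ← hF, hpf]
  have hipos : 0 < i := by rw [← hord]; exact orderOf_pos _
  set P := (UniqueFactorizationMonoid.normalizedFactors (Polynomial.cyclotomic r F)).toFinset with hP
  have hKcard : Fintype.card F = p ^ (f : ℕ) := hpf
  have hPcard : P.card = t := by
    have h := Polynomial.normalizedFactors_cyclotomic_card (K := F) (p := p) (f := f) hKcard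
      (n := r) ((Nat.coprime_primes Fact.out hr).2 fun e => hrp e.symm)
    rw [hord, Nat.totient_prime hr, ← ht, Nat.mul_div_cancel _ hipos] at h
    exact h
  have hPdeg : ∀ x ∈ P, x.natDegree = i := fun x hx => by
    rw [← hord]
    exact Polynomial.natDegree_of_mem_normalizedFactors_cyclotomic (K := F) (p := p) (f := f) hKcard
      ((Nat.coprime_primes Fact.out hr).2 fun e => hrp e.symm) (Multiset.mem_toFinset.1 hx)
  have hzP : (X - C 1 : F[X]) ∉ P := fun h => by
    have hd := UniqueFactorizationMonoid.dvd_of_mem_normalizedFactors (Multiset.mem_toFinset.1 h)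
    rw [dvd_iff_isRoot, IsRoot, Polynomial.eval_one_cyclotomic_prime] at hd
    exact hri hd
  have hprod : Polynomial.cyclotomic r F * (X - C 1) = X ^ r - C 1 := by
    rw [map_one, Polynomial.cyclotomic_prime_mul_X_sub_one]
  have hadm : ∀ s : Multiset F[X], PowScalarClasses.Admissible r n 1 s ↔
      (∀ x ∈ s, x = X - C 1 ∨ x ∈ P) ∧ (s.map Polynomial.natDegree).sum = n := by
    intro s
    refine and_congr (forall₂_congr fun x _ => ⟨fun h => ?_, fun h => ?_⟩) Iff.rfl
    · obtain ⟨hm, hirr, hd⟩ := h
      rw [← hprod] at hd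
      rcases hirr.prime.dvd_or_dvd hd with hd | hd
      · right
        obtain ⟨y, hy, hxy⟩ := UniqueFactorizationMonoid.exists_mem_normalizedFactors_of_dvd
          (cyclotomic_ne_zero r F) hirr hd
        rw [hP, Multiset.mem_toFinset]
        have : y = x := by
          rw [← UniqueFactorizationMonoid.normalize_normalized_factor y hy, ← hm.normalize_eq_self]
          exact normalize_eq_normalize_iff_associated.2 hxy.symm
        exact this ▸ hy
      · exact Or.inl (eq_of_monic_of_associated hm (monic_X_sub_C 1)
          (hirr.associated_of_dvd (irreducible_X_sub_C 1) hd))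
    · rcases h with h | h
      · subst h
        exact ⟨monic_X_sub_C 1, irreducible_X_sub_C 1, by rw [← hprod]; exact dvd_mul_left _ _⟩
      · rw [hP, Multiset.mem_toFinset] at h
        have hirr := UniqueFactorizationMonoid.irreducible_of_normalized_factor x h
        refine ⟨?_, hirr, by
          rw [← hprod]
          exact (UniqueFactorizationMonoid.dvd_of_mem_normalizedFactors h).mul_right _⟩
        rw [← UniqueFactorizationMonoid.normalize_normalized_factor x h]
        exact Polynomial.monic_normalize hirr.ne_zero
  have hcount : Nat.card {C : ConjClasses (GL (Fin n) F) // ∃ g : GL (Fin n) F,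
      (g : Matrix (Fin n) (Fin n) F) ^ r = (1 : F) • 1 ∧ ConjClasses.mk g = C} =
      Nat.choose (n / i + t) t := by
    rw [PowScalarClasses.natCard_classes r n (1 : F) hri one_ne_zero,
      Nat.card_congr (Equiv.subtypeEquivRight hadm),
      natCard_weighted Polynomial.natDegree (X - C 1) (natDegree_X_sub_C 1) P hzP i n hipos hPdeg,
      hPcard]
  have hiff : ∀ g : GL (Fin n) F, (g : Matrix (Fin n) (Fin n) F) ^ r = (1 : F) • 1 ↔ g ^ r = 1 := by
    intro g
    rw [one_smul, ← Units.val_pow_eq_pow_val, Units.val_eq_one]
  rw [← hcount]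
  have hins : {C : ConjClasses (GL (Fin n) F) | ∃ g : GL (Fin n) F,
      (g : Matrix (Fin n) (Fin n) F) ^ r = (1 : F) • 1 ∧ ConjClasses.mk g = C} =
      insert 1 {C | ∃ g : GL (Fin n) F, ConjClasses.mk g = C ∧ orderOf g = r} := by
    ext C
    simp only [Set.mem_setOf_eq, Set.mem_insert_iff, hiff]
    constructor
    · rintro ⟨g, hg, rfl⟩
      by_cases h1 : g = 1
      · exact Or.inl (by rw [h1]; rfl)
      · exact Or.inr ⟨g, rfl, orderOf_eq_prime hg h1⟩
    · rintro (rfl | ⟨g, rfl, hg⟩)
      · exact ⟨1, one_pow r, rfl⟩
      · exact ⟨g, hg ▸ pow_orderOf_eq_one g, rfl⟩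
  have hnot : (1 : ConjClasses (GL (Fin n) F)) ∉
      {C | ∃ g : GL (Fin n) F, ConjClasses.mk g = C ∧ orderOf g = r} := by
    rintro ⟨g, hg, ho⟩
    have : g = 1 := by
      have h := ConjClasses.mk_eq_mk_iff_isConj.1 (hg.trans rfl : ConjClasses.mk g = ConjClasses.mk 1)
      exact isConj_one_left.1 h
    rw [this, orderOf_one] at ho
    exact hr.one_lt.ne ho
  have hc := congrArg Set.ncard hins
  rw [Set.ncard_insert_of_notMem hnot (Set.toFinite _), ← Nat.card_coe_set_eq,
    ← Nat.card_coe_set_eq] at hc
  change _ = Nat.card {C : ConjClasses (GL (Fin n) F) // ∃ g : GL (Fin n) F,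
      (g : Matrix (Fin n) (Fin n) F) ^ r = (1 : F) • 1 ∧ ConjClasses.mk g = C} - 1
  simp only [Set.coe_setOf] at hc
  omega

end Cfsg.Agent.S2568
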