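import Cfsg.Statements.S2590
import Cfsg.Agent.Lib.Classical.FormConj
import Cfsg.Agent.Lib.Forms.QuadStd
import Cfsg.Agent.Lib.Forms.Witt

set_option autoImplicit false
set_option maxHeartbeats 800000
open Cfsg
open Matrix Module
open Cfsg.Agent.Forms
open Cfsg.Agent.Classical

namespace Cfsg.Agent.S2590

/-- Two semisimple elements of odd order of a finite orthogonal group (isometry group of a quadratic form on F^n with non-degenerate polar form, F finite of characteristic p; the elements have odd order prime to p) are conjugate in the orthogonal group if and only if they are conjugate in GL_n(F). -/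
theorem result {F : Type*} [Field F] [Fintype F] {p : ℕ} [Fact p.Prime] [CharP F p] {n : ℕ} (Q : QuadraticForm F (Fin n → F)) (hQ : (QuadraticMap.polarBilin Q).Nondegenerate) (A B : ↥(Cfsg.isometryGroup F ⇑Q)) (hodd : Odd (orderOf A)) (hA : (orderOf A).Coprime p) : IsConj A B ↔ IsConj ((A : Matrix.GeneralLinearGroup (Fin n) F) : Matrix (Fin n) (Fin n) F) ((B : Matrix.GeneralLinearGroup (Fin n) F) : Matrix (Fin n) (Fin n) F) := by
  classical
  refine ⟨fun h => ((Units.coeHom _).comp (Cfsg.isometryGroup F ⇑Q).subtype).map_isConj h,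
    fun h => ?_⟩
  obtain ⟨X, hX⟩ := h
  let Am : Matrix (Fin n) (Fin n) F := ((A : Matrix.GeneralLinearGroup (Fin n) F) : Matrix (Fin n) (Fin n) F)
  let Bm : Matrix (Fin n) (Fin n) F := ((B : Matrix.GeneralLinearGroup (Fin n) F) : Matrix (Fin n) (Fin n) F)
  set β := QuadraticMap.polarBilin Q with hβ
  set J := LinearMap.BilinForm.toMatrix' β with hJ
  have hJu : IsUnit J := by
    rw [Matrix.isUnit_iff_isUnit_det, isUnit_iff_ne_zero]
    exact LinearMap.BilinForm.nondegenerate_iff_det_ne_zero (Pi.basisFun F (Fin n)) |>.1 hQ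
  have hval : ∀ u v, β u v = u ⬝ᵥ (J *ᵥ v) := fun u v => by
    rw [← Matrix.toBilin'_apply', hJ, Matrix.toBilin'_toMatrix']
  have hc : (1 : F) * 1 = 1 := one_mul 1
  have hΓ : (↑hJu.unit : Matrix (Fin n) (Fin n) F)ᵀ = (1 : F) • (↑hJu.unit : Matrix (Fin n) (Fin n) F) := by
    show Jᵀ = (1 : F) • J
    rw [one_smul]
    ext i j
    rw [transpose_apply, hJ, LinearMap.BilinForm.toMatrix'_apply, LinearMap.BilinForm.toMatrix'_apply,
      hβ, QuadraticMap.polarBilin_apply_apply, QuadraticMap.polarBilin_apply_apply,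
      QuadraticMap.polar_comm]
  set Γ := hJu.unit with hΓdef
  have hpres : ∀ (M : Cfsg.isometryGroup F ⇑Q) (v : Fin n → F),
      Q (((M : Matrix.GeneralLinearGroup (Fin n) F) : Matrix (Fin n) (Fin n) F) *ᵥ v) = Q v :=
    fun M => (QuadStd.mem_isometry_iff _ _).1 M.2
  have hadj : ∀ M : Cfsg.isometryGroup F ⇑Q,
      FormConj.adj Γ ((M : Matrix.GeneralLinearGroup (Fin n) F) : Matrix (Fin n) (Fin n) F) *
        ((M : Matrix.GeneralLinearGroup (Fin n) F) : Matrix (Fin n) (Fin n) F) = 1 := by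
    intro M
    rw [← FormConj.preserves_iff]
    show _ * J * _ = J
    set N := ((M : Matrix.GeneralLinearGroup (Fin n) F) : Matrix (Fin n) (Fin n) F) with hN
    ext i j
    have h1 : β (N *ᵥ Pi.single i 1) (N *ᵥ Pi.single j 1) = β (Pi.single i 1) (Pi.single j 1) := by
      simp only [hβ, QuadraticMap.polarBilin_apply_apply, QuadraticMap.polar, ← mulVec_add, hN, hpres]
    rw [hval, hval, Matrix.mulVec_mulVec, dotProduct_comm, Matrix.dotProduct_mulVec,
      ← Matrix.mulVec_transpose, Matrix.mulVec_mulVec, dotProduct_comm, ← Matrix.mul_assoc] at h1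
    simpa [Matrix.mulVec_single] using h1
  set s := orderOf A with hsdef
  have hs : (s : F) ≠ 0 := by
    rw [Ne, CharP.cast_eq_zero_iff F p s]
    intro hd
    exact (Fact.out : p.Prime).ne_one (Nat.eq_one_of_dvd_coprimes hA hd dvd_rfl)
  have hf0 : ∀ M : Matrix (Fin n) (Fin n) F, FormConj.negAvg F s M = 0 := by
    intro M
    rw [FormConj.negAvg, if_neg]
    rintro ⟨h1, h2⟩
    rw [hodd.neg_one_pow] at h1
    exact h2 (by linear_combination -h1)
  have hAs : Am ^ s = 1 := by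
    have h1 := congrArg ((Units.coeHom (Matrix (Fin n) (Fin n) F)).comp (Cfsg.isometryGroup F ⇑Q).subtype)
      (pow_orderOf_eq_one A)
    rw [map_pow, map_one] at h1
    exact h1
  have hBs : Bm ^ s = 1 := by
    have h1 : (↑X : Matrix (Fin n) (Fin n) F) * Am ^ s = Bm ^ s * (↑X : Matrix (Fin n) (Fin n) F) := (hX.pow_right s).eq
    rw [hAs, mul_one] at h1
    exact X.isUnit.mul_right_cancel (h1.symm.trans (one_mul _).symm)
  obtain ⟨G, hGA, hGε⟩ := FormConj.exists_partial Γ hΓ hc Am Bm (hadj A) (hadj B) hs hAs X hX.eq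
  set e := FormConj.avg F s Am with he
  set ε := FormConj.rest F s Am with hε
  set e' := FormConj.avg F s Bm with he'
  set ε' := FormConj.rest F s Bm with hε'
  have hsum : ε + e = 1 := by rw [hε, he, FormConj.rest, hf0, sub_zero, sub_add_cancel]
  have hsum' : ε' + e' = 1 := by rw [hε', he', FormConj.rest, hf0, sub_zero, sub_add_cancel]
  have hεA : ε * Am = Am * ε :=
    (FormConj.rest_mul_map (c := Am) (a := Am) (b := Am) rfl).symm
  have hsa : ∀ P : Matrix (Fin n) (Fin n) F, FormConj.adj Γ P = P →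
      ∀ u v, β (P *ᵥ u) v = β u (P *ᵥ v) := by
    intro P hP u v
    have h1 := FormConj.form_mulVec Γ P u v
    rw [hP] at h1
    rw [hval, hval]
    exact h1
  have hiso : ∀ u v, β ((↑G : Matrix (Fin n) (Fin n) F) *ᵥ (ε *ᵥ u)) ((↑G : Matrix (Fin n) (Fin n) F) *ᵥ (ε *ᵥ v))
      = β (ε *ᵥ u) (ε *ᵥ v) := by
    intro u v
    rw [hval, hval]
    show ((↑G : Matrix (Fin n) (Fin n) F) *ᵥ (ε *ᵥ u)) ⬝ᵥ ((↑Γ : Matrix (Fin n) (Fin n) F) *ᵥ _) = _
    rw [FormConj.form_mulVec, mulVec_mulVec _ (FormConj.adj Γ _) (↑G : Matrix (Fin n) (Fin n) F),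
      mulVec_mulVec _ (_ * _) ε, hGε]
    rfl
  let lam : (Fin n → F) → F := fun v => Q ((↑G : Matrix (Fin n) (Fin n) F) *ᵥ (ε *ᵥ v)) - Q (ε *ᵥ v)
  have hlam : ∀ u v, lam (u + v) = lam u + lam v := by
    intro u v
    simp only [lam]
    rw [Matrix.mulVec_add, Matrix.mulVec_add, QuadraticMap.map_add ⇑Q, QuadraticMap.map_add ⇑Q]
    have h1 := hiso u v
    simp only [hβ, QuadraticMap.polarBilin_apply_apply] at h1
    rw [h1]
    ring
  let Λ : (Fin n → F) →+ F :=
    { toFun := lam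
      map_zero' := by simp [lam]
      map_add' := hlam }
  have hlamA : ∀ v, lam (Am *ᵥ v) = lam v := by
    intro v
    simp only [lam]
    rw [mulVec_mulVec _ ε Am, hεA, ← mulVec_mulVec, mulVec_mulVec _ (↑G : Matrix (Fin n) (Fin n) F) Am, hGA,
      ← mulVec_mulVec, hpres, hpres]
  have hεfac : ∃ N, ε = (Am - 1) * N := by
    refine ⟨∑ i ∈ Finset.range s, -((s : F)⁻¹ • ∑ j ∈ Finset.range i, Am ^ j), ?_⟩
    rw [hε, FormConj.rest, hf0, sub_zero, FormConj.avg]
    conv_rhs => rw [Finset.mul_sum]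
    simp only [mul_neg, mul_smul_comm, mul_geom_sum]
    rw [Finset.sum_neg_distrib, ← Finset.smul_sum, Finset.sum_sub_distrib, smul_sub,
      Finset.sum_const, Finset.card_range, ← Nat.cast_smul_eq_nsmul F, smul_smul,
      inv_mul_cancel₀ hs, one_smul, neg_sub, Algebra.smul_def, Finset.mul_sum]
  obtain ⟨N, hN⟩ := hεfac
  have hεε : ε * ε = ε := FormConj.rest_mul_self hs hAs
  have hQ0 : ∀ v, Q ((↑G : Matrix (Fin n) (Fin n) F) *ᵥ (ε *ᵥ v)) = Q (ε *ᵥ v) := by
    intro v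
    have h0 : lam (ε *ᵥ v) = 0 := by
      rw [hN, ← mulVec_mulVec, sub_mulVec, one_mulVec]
      show Λ (_ - _) = 0
      rw [map_sub]
      exact sub_eq_zero.2 (hlamA _)
    simp only [lam, mulVec_mulVec _ ε ε, hεε, sub_eq_zero] at h0
    exact h0
  set W := LinearMap.range ε.mulVecLin with hW
  have hWε : ∀ x : W, ε *ᵥ (x : Fin n → F) = x := by
    rintro ⟨_, z, rfl⟩
    show ε *ᵥ (ε *ᵥ z) = ε *ᵥ z
    rw [mulVec_mulVec, hεε]
  obtain ⟨g, hgQ, hgW⟩ := Witt.witt_quad Q hQ W ((↑G : Matrix (Fin n) (Fin n) F).mulVecLin ∘ₗ W.subtype)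
    (fun a b hab => Subtype.ext ((Matrix.mulVec_injective_iff_isUnit.2 G.isUnit) hab))
    (fun x => by
      show Q ((↑G : Matrix (Fin n) (Fin n) F) *ᵥ (x : Fin n → F)) = _
      rw [← hWε x, hQ0])
  have hgε : ∀ v, g (ε *ᵥ v) = (↑G : Matrix (Fin n) (Fin n) F) *ᵥ (ε *ᵥ v) := fun v => hgW ⟨_, v, rfl⟩
  have hgβ : ∀ u v, β (g u) (g v) = β u v := fun u v => by
    simp only [hβ, QuadraticMap.polarBilin_apply_apply, QuadraticMap.polar, ← map_add, hgQ]
  have hsaε := hsa ε (FormConj.adj_rest Γ hΓ hc hs (hadj A) hAs)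
  have hsaε' := hsa ε' (FormConj.adj_rest Γ hΓ hc hs (hadj B) hBs)
  have hge : ∀ v, e' *ᵥ g (e *ᵥ v) = g (e *ᵥ v) := by
    intro v
    have h0 : ε' *ᵥ g (e *ᵥ v) = 0 := by
      refine hQ.1 _ fun z => ?_
      show β (ε' *ᵥ g (e *ᵥ v)) z = 0
      rw [hsaε']
      have hz : ε' *ᵥ z = g (ε *ᵥ (((↑G⁻¹ : Matrix (Fin n) (Fin n) F)) *ᵥ z)) := by
        rw [hgε, mulVec_mulVec, mulVec_mulVec, hε, FormConj.rest_mul_map hGA, mul_assoc,
          Units.mul_inv, mul_one]
      rw [hz, hgβ, ← hsaε, mulVec_mulVec, hε, he, FormConj.rest_mul_avg hs hAs, zero_mulVec]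
      simp
    have h1 := congrArg (· *ᵥ g (e *ᵥ v)) hsum'
    simp only [add_mulVec, one_mulVec, h0, zero_add] at h1
    exact h1
  have hmem : Matrix.GeneralLinearGroup.mkOfDetNeZero (LinearMap.toMatrix' g.toLinearMap)
      (by rw [LinearMap.det_toMatrix']; exact (LinearEquiv.isUnit_det' g).ne_zero)
      ∈ Cfsg.isometryGroup F ⇑Q := by
    rw [QuadStd.mem_isometry_iff]
    intro v
    show Q (LinearMap.toMatrix' g.toLinearMap *ᵥ v) = _
    rw [← Matrix.toLin'_apply, Matrix.toLin'_toMatrix']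
    exact hgQ v
  refine isConj_iff.2 ⟨⟨_, hmem⟩, mul_inv_eq_iff_eq_mul.2 (Subtype.ext (Units.ext ?_))⟩
  show LinearMap.toMatrix' g.toLinearMap * Am = Bm * LinearMap.toMatrix' g.toLinearMap
  refine Matrix.ext_iff_mulVec.2 fun v => ?_
  rw [← mulVec_mulVec, ← mulVec_mulVec, ← Matrix.toLin'_apply (LinearMap.toMatrix' g.toLinearMap),
    ← Matrix.toLin'_apply (LinearMap.toMatrix' g.toLinearMap), Matrix.toLin'_toMatrix']
  show g (Am *ᵥ v) = Bm *ᵥ g v
  have hv : ∀ w, w = ε *ᵥ w + e *ᵥ w := fun w => by rw [← add_mulVec, hsum, one_mulVec]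
  conv_lhs => rw [hv (Am *ᵥ v)]
  conv_rhs => rw [hv v]
  rw [map_add, map_add, mulVec_add, hgε, hgε]
  congr 1
  · rw [mulVec_mulVec _ ε Am, hεA, ← mulVec_mulVec, mulVec_mulVec _ (↑G : Matrix (Fin n) (Fin n) F) Am, hGA,
      ← mulVec_mulVec]
  · rw [mulVec_mulVec _ e Am, he, ← FormConj.avg_mul_map (c := Am) (a := Am) (b := Am) rfl,
      FormConj.mul_avg hAs, ← he]
    conv_rhs => rw [← hge v, mulVec_mulVec, he', FormConj.mul_avg hBs, ← he', hge v]

end Cfsg.Agent.S2590
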