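import Cfsg.Statements.S3972
import Cfsg.Agent.Lib.Perm.CyclicPrimePower

set_option autoImplicit false
open Cfsg
open scoped Pointwise

namespace Cfsg.Agent.S3972

/-- Let `p` be a prime, `m ≥ 2`, and `G` a transitive but not doubly transitive permutation group on `p ^ m` points containing a permutation of order `p ^ m` (necessarily a full cycle). Then `G` is imprimitive, and the normal closure in `G` of the `p ^ (m - 1)`-th power of that permutation is an intransitive normal subgroup. -/
theorem result {Ω : Type*} [Fintype Ω] [DecidableEq Ω] (p m : ℕ) (hp : p.Prime) (hm : 2 ≤ m) (hΩ : Fintype.card Ω = p ^ m) (G : Subgroup (Equiv.Perm Ω)) (htr : MulAction.IsPretransitive G Ω) (h2 : ¬ MulAction.IsMultiplyPretransitive G Ω 2) (g : G) (hg : orderOf g = p ^ m) : ¬ MulAction.IsPreprimitive G Ω ∧ ¬ MulAction.IsPretransitive (Subgroup.normalClosure ({g ^ (p ^ (m - 1))} : Set G)) Ω := by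
  classical
  haveI := htr
  haveI : NeZero (p ^ m) := ⟨(pow_pos hp.pos m).ne'⟩
  obtain ⟨k, rfl⟩ : ∃ k, m = k + 2 := ⟨m - 2, by omega⟩
  set n := p ^ (k + 2) with hn
  set q := p ^ (k + 1) with hq
  -- a point with a regular orbit
  have hgn : g ^ n = 1 := hg ▸ pow_orderOf_eq_one g
  have hgq : g ^ q ≠ 1 := by
    intro h
    have h1 := orderOf_dvd_of_pow_eq_one h
    rw [hg] at h1
    exact absurd (Nat.le_of_dvd (pow_pos hp.pos _) h1) (not_le.2 (Nat.pow_lt_pow_right hp.one_lt (by omega)))
  obtain ⟨a, ha⟩ : ∃ a : Ω, (g ^ q) • a ≠ a := by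
    by_contra hcon
    simp only [not_exists, not_not] at hcon
    exact hgq (FaithfulSMul.eq_of_smul_eq_smul (α := Ω) fun u => by rw [hcon, one_smul])
  have hper : MulAction.period g a = n := by
    have h1 : MulAction.period g a ∣ n := hg ▸ MulAction.period_dvd_orderOf g a
    obtain ⟨j, hj, hje⟩ := (Nat.dvd_prime_pow hp).1 h1
    rcases hj.eq_or_lt with hj' | hj'
    · rw [hje, hj']
    · exfalso
      exact ha (MulAction.pow_smul_eq_iff_period_dvd.2 (hje ▸ pow_dvd_pow p (by omega)))
  let ι : Multiplicative (ZMod n) →* G :=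
    { toFun := fun x => g ^ (Multiplicative.toAdd x).val
      map_one' := by simp
      map_mul' := fun x y => by
        rw [toAdd_mul, ZMod.val_add, ← pow_add]
        conv_rhs => rw [← Nat.mod_add_div ((Multiplicative.toAdd x).val + (Multiplicative.toAdd y).val) n,
          pow_add, pow_mul, hgn, one_pow, mul_one] }
  have hι : ∀ x, ι x = g ^ (Multiplicative.toAdd x).val := fun x => rfl
  have hreg : Function.Bijective fun h => ι h • a := by
    rw [Fintype.bijective_iff_injective_and_card]
    refine ⟨fun x y hxy => ?_, by rw [Fintype.card_multiplicative, ZMod.card, hΩ]⟩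
    simp only [hι] at hxy
    have key : ∀ i j, i ≤ j → j < n → g ^ i • a = g ^ j • a → i = j := by
      intro i j hij hj h
      have h2 : g ^ (j - i) • a = a := by
        rw [← Nat.add_sub_cancel' hij, pow_add, mul_smul] at h
        exact ((MulAction.injective (g ^ i)) h).symm
      have h3 := MulAction.pow_smul_eq_iff_period_dvd.1 h2
      rw [hper] at h3
      have := Nat.eq_zero_of_dvd_of_lt h3 (by omega)
      omega
    apply Multiplicative.toAdd.injective
    apply ZMod.val_injective
    rcases le_total (Multiplicative.toAdd x).val (Multiplicative.toAdd y).val with h | h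
    · exact key _ _ h (ZMod.val_lt _) hxy
    · exact (key _ _ h (ZMod.val_lt _) hxy.symm).symm
  have himp : ¬ MulAction.IsPreprimitive G Ω := fun hprim =>
    h2 (Cfsg.Agent.Perm.CyclicPrimePower.main hprim p k n hp hn ι a hreg)
  refine ⟨himp, fun htrans => himp ?_⟩
  refine MulAction.IsPreprimitive.of_isTrivialBlock_base a fun {B} haB hB => ?_
  by_contra htriv
  obtain ⟨hns, hnu⟩ := not_or.1 htriv
  rw [Set.not_subsingleton_iff] at hns
  obtain ⟨b, hb, hba⟩ := hns.exists_ne a
  -- the block stabiliser in the cyclic group contains the element of order `p`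
  obtain ⟨x, hx⟩ := hreg.2 b
  simp only [hι] at hx
  set v := (Multiplicative.toAdd x).val with hvdef
  have hv0 : v ≠ 0 := fun h => hba (by rw [← hx, h, pow_zero, one_smul])
  have hmemB : g ^ v • B = B := by
    rcases MulAction.isBlock_iff_smul_eq_or_disjoint.1 hB (g ^ v) with h | h
    · exact h
    · exact absurd hb (Set.disjoint_left.1 h ⟨a, haB, hx⟩)
  obtain ⟨j, r, hr, hvr⟩ := Nat.exists_eq_pow_mul_and_not_dvd hv0 p hp.ne_one
  have hj : j ≤ k + 1 := by
    by_contra hj
    have h1 : n ≤ v := by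
      rw [hvr, hn]
      exact (Nat.pow_le_pow_right hp.pos (by omega)).trans
        (Nat.le_mul_of_pos_right _ (Nat.pos_of_ne_zero (fun h => hr (h ▸ dvd_zero p))))
    exact absurd (hvdef ▸ ZMod.val_lt _) (not_lt.2 h1)
  obtain ⟨r', hr'⟩ : ∃ r', r * r' ≡ 1 [MOD n] := by
    have hc : r.Coprime n := by
      rw [hn]
      exact Nat.Coprime.pow_right _ ((Nat.Prime.coprime_iff_not_dvd hp).2 hr).symm
    obtain ⟨r', -, hr'⟩ := Nat.exists_mul_mod_eq_one_of_coprime hc
      (Nat.one_lt_pow (Nat.succ_ne_zero _) hp.one_lt)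
    exact ⟨r', by rw [Nat.ModEq, hr', Nat.mod_eq_of_lt (Nat.one_lt_pow (Nat.succ_ne_zero _) hp.one_lt)]⟩
  have hstab : g ^ q ∈ MulAction.stabilizer G B := by
    have h1 : g ^ v ∈ MulAction.stabilizer G B := hmemB
    have h2 : g ^ q = (g ^ v) ^ (r' * p ^ (k + 1 - j)) := by
      rw [← pow_mul, pow_eq_pow_iff_modEq, hg, hvr]
      have h3 : p ^ j * r * (r' * p ^ (k + 1 - j)) = q * (r * r') := by
        rw [hq, show k + 1 = j + (k + 1 - j) by omega, pow_add, Nat.add_sub_cancel_left]
        ring
      rw [h3]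
      simpa using (hr'.mul_left q).symm
    rw [h2]
    exact pow_mem h1 _
  have hall : Subgroup.normalClosure ({g ^ q} : Set G) ≤ MulAction.stabilizer G B := by
    refine (Subgroup.closure_le _).2 ?_
    intro y hy
    obtain ⟨z, hz, hzy⟩ := Group.mem_conjugatesOfSet_iff.1 hy
    rw [Set.mem_singleton_iff] at hz
    subst hz
    obtain ⟨c, rfl⟩ := isConj_iff.1 hzy
    -- `c⁻¹ • B` is a translate of `B` by a power of `g`
    obtain ⟨w, hw⟩ := hreg.2 (c⁻¹ • a)
    simp only [hι] at hw
    set i := (Multiplicative.toAdd w).val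
    have hcB : c⁻¹ • B = g ^ i • B := by
      rcases MulAction.isBlock_iff_smul_eq_or_disjoint.1 hB ((g ^ i)⁻¹ * c⁻¹) with h | h
      · rwa [mul_smul, inv_smul_eq_iff] at h
      · refine absurd haB (Set.disjoint_left.1 h ?_)
        refine ⟨a, haB, ?_⟩
        change ((g ^ i)⁻¹ * c⁻¹) • a = a
        rw [mul_smul, inv_smul_eq_iff, hw]
    change (c * g ^ q * c⁻¹) • B = B
    rw [mul_smul, mul_smul, hcB, ← mul_smul (g ^ q), ← pow_add, add_comm, pow_add, mul_smul,
      MulAction.mem_stabilizer_iff.1 hstab, ← hcB, smul_inv_smul]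
  apply hnu
  refine Set.eq_univ_of_forall fun u => ?_
  obtain ⟨y, hy⟩ := htrans.exists_smul_eq a u
  rw [← hy, ← MulAction.mem_stabilizer_iff.1 (hall y.2)]
  exact Set.smul_mem_smul_set haB

end Cfsg.Agent.S3972
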