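import Cfsg.Statements.S4550
import Cfsg.Agent.Lib.Blocks.Orthogonality
import Cfsg.Agent.Lib.Blocks.Block
import Cfsg.Agent.Lib.Blocks.Defect
import Cfsg.Agent.OddChar.PowTwist

set_option autoImplicit false
open Cfsg Cfsg.Agent.Blocks Cfsg.Agent.Characters

namespace Cfsg.Agent.S4550

/-- Let G be a finite group of even order and M a maximal ideal of the algebraic integers containing 2. Let k be a natural number with g ^ k = g ^ 3 for every 2-element g and g ^ k = g for every element g of odd order (such k exist); an irreducible character χ is unchanged by g ↦ g ^ k exactly when it is fixed by the field automorphism that cubes the 2-power roots of unity and fixes the roots of unity of odd order. Then the number of members χ of the principal 2-block of odd degree with χ (g ^ k) = χ g for all g is even. -/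
theorem result {G : Type*} [Group G] [Finite G] (M : Ideal Cfsg.AlgInt) (hM : Cfsg.IsPModular 2 M) (hev : Even (Nat.card G)) (k : ℕ) (hk₁ : ∀ g : G, (∃ j : ℕ, orderOf g = 2 ^ j) → g ^ k = g ^ 3) (hk₂ : ∀ g : G, Odd (orderOf g) → g ^ k = g) : Even (Nat.card {χ : Cfsg.IrrCharacter G // χ ∈ Cfsg.principalBlock M G ∧ Odd (Cfsg.charDegree (χ : G → ℂ)) ∧ ∀ g : G, (χ : G → ℂ) (g ^ k) = (χ : G → ℂ) g}) := by
  classical
  haveI := Fact.mk Nat.prime_two
  haveI := Fintype.ofFinite G
  haveI := Fintype.ofFinite (Cfsg.IrrCharacter G)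
  have hdvd : 2 ∣ Nat.card G := even_iff_two_dvd.1 hev
  have hk : k.Coprime (Nat.card G) := by
    refine Nat.coprime_of_dvd fun q hq hqk hqG => ?_
    haveI := Fact.mk hq
    obtain ⟨g, hg⟩ := exists_prime_orderOf_dvd_card' (G := G) q hqG
    have h1 : g ^ k = 1 := orderOf_dvd_iff_pow_eq_one.1 (hg ▸ hqk)
    have hne : g ≠ 1 := fun e => hq.ne_one (by rw [← hg, e, orderOf_one])
    rcases hq.eq_two_or_odd' with rfl | ho
    · rw [hk₁ g ⟨1, by rw [hg, pow_one]⟩] at h1
      have := orderOf_dvd_of_pow_eq_one h1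
      rw [hg] at this
      omega
    · rw [hk₂ g (hg ▸ ho)] at h1
      exact hne h1
  set n := Nat.card G
  have hord : ∀ g : G, g ^ (k ^ 2 ^ n) = g := by
    intro g
    obtain ⟨a, m, hm, he⟩ := Nat.exists_eq_pow_mul_and_not_dvd (orderOf_pos g).ne' 2 (by norm_num)
    have ho : Odd m := Nat.odd_iff.2 (by omega)
    have e1 : orderOf (g ^ m) = 2 ^ a := by
      rw [orderOf_pow' g (by rintro rfl; simp at hm), he, Nat.gcd_mul_left_left,
        Nat.mul_div_cancel _ ho.pos]
    have e2 : orderOf (g ^ 2 ^ a) = m := by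
      rw [orderOf_pow' g (pow_ne_zero _ two_ne_zero), he, Nat.gcd_mul_right_left,
        Nat.mul_div_cancel_left _ (pow_pos two_pos a)]
    have c1 : k ≡ 3 [MOD 2 ^ a] := by
      have := hk₁ (g ^ m) ⟨a, e1⟩
      rwa [pow_eq_pow_iff_modEq, e1] at this
    have c2 : k ≡ 1 [MOD m] := by
      have := hk₂ (g ^ 2 ^ a) (e2.symm ▸ ho)
      nth_rewrite 2 [← pow_one (g ^ 2 ^ a)] at this
      rwa [pow_eq_pow_iff_modEq, e2] at this
    have hcop : Nat.Coprime (2 ^ a) m := ((Nat.prime_two.coprime_iff_not_dvd).2 hm).pow_left a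
    conv_rhs => rw [← pow_one g]
    rw [pow_eq_pow_iff_modEq, he, ← (Nat.modEq_and_modEq_iff_modEq_mul hcop)]
    refine ⟨?_, by simpa using c2.pow (2 ^ n)⟩
    rcases Nat.eq_zero_or_pos a with rfl | ha
    · exact Nat.modEq_one
    have hkodd : Nat.Coprime k (2 ^ a) :=
      (hk.coprime_dvd_right hdvd).pow_right a
    have han : a - 1 ≤ n := by
      have h3 : 2 ^ a ∣ n := (dvd_mul_right _ m).trans (he ▸ orderOf_dvd_natCard g)
      have := Nat.le_of_dvd Nat.card_pos h3
      have := Nat.lt_two_pow_self (n := a)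
      omega
    obtain ⟨d, hd⟩ : (2 ^ a).totient ∣ 2 ^ n := by
      rw [Nat.totient_prime_pow Nat.prime_two ha, Nat.add_one_sub_one, mul_one]
      exact pow_dvd_pow 2 han
    rw [hd, pow_mul]
    simpa using (Nat.ModEq.pow_totient hkodd).pow d
  -- the odd degrees of the principal block are even in number
  set B := Cfsg.principalBlock M G
  have hB : Cfsg.IsPBlock M B := ⟨⟨_, isIrrCharacter_one⟩, rfl⟩
  set F := Finset.univ.filter fun χ : Cfsg.IrrCharacter G => χ ∈ B
  obtain ⟨t, ht⟩ := exists_prime_orderOf_dvd_card' (G := G) 2 hdvd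
  have hval : ∀ χ : Cfsg.IrrCharacter G, Cong M ((χ : G → ℂ) t) ((χ : G → ℂ) 1) := by
    intro χ
    obtain ⟨d, ρ, hρ⟩ := irr_isCharacter χ
    obtain ⟨w, hw, h⟩ := exists_rootsOfUnity_sum ρ t
    rw [← hρ]
    have e0 := h 0
    have e1 := h 1
    rw [pow_zero] at e0
    rw [pow_one] at e1
    rw [e0, e1]
    refine cong_sum hM fun i _ => ?_
    rw [pow_one, pow_zero]
    refine cong_one_of_pow_prime_pow hM (k := 1) ?_
    rw [pow_one]
    have := hw i
    rwa [ht] at this
  have hsum : Even (F.filter fun χ : Cfsg.IrrCharacter G => Odd (Cfsg.charDegree (χ : G → ℂ))).card := by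
    have h0 := sum_block_reg_sing hM (intEl_blockIdem hM hB) (x := (1 : G))
      (by simp) (show 2 ∣ orderOf t by rw [ht])
    rw [finsum_mem_eq_finite_toFinset_sum _ (Set.toFinite B),
      show (Set.toFinite B).toFinset = F from Finset.ext fun χ => by simp [F]] at h0
    have hconj : ∀ χ : Cfsg.IrrCharacter G,
        starRingEnd ℂ ((χ : G → ℂ) t) = (χ : G → ℂ) t := fun χ => by
      have h1 := char_inv (irr_isCharacter χ) t
      rw [show t⁻¹ = t from inv_eq_of_mul_eq_one_right (by
        rw [← sq, ← ht, pow_orderOf_eq_one])] at h1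
      exact h1.symm
    have h1 : Cong M (∑ χ ∈ F, (χ : G → ℂ) 1 * (χ : G → ℂ) 1) 0 := by
      refine cong_trans hM (cong_symm hM (cong_sum hM fun χ _ => ?_)) (cong_of_eq hM h0)
      rw [hconj, ← charDegree_cast]
      exact cong_mul_left hM (ring_natCast hM _) (by rw [charDegree_cast]; exact hval χ)
    rw [cong_zero_iff, Finset.sum_congr rfl (g := fun χ : Cfsg.IrrCharacter G =>
      (((Cfsg.charDegree (χ : G → ℂ)) * (Cfsg.charDegree (χ : G → ℂ)) : ℕ) : ℂ))
      (fun χ _ => by rw [Nat.cast_mul, charDegree_cast]), ← Nat.cast_sum,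
      ideal_natCast_iff hM] at h1
    rw [← even_iff_two_dvd, Finset.even_sum_iff_even_card_odd] at h1
    simpa [Nat.odd_mul] using h1
  -- the twist is a permutation of 2-power order
  have htw : ∀ χ ∈ B, (⟨_, Cfsg.Agent.OddChar.PowTwist.isIrr_comp_pow χ.2 hk⟩ :
      Cfsg.IrrCharacter G) ∈ B := by
    intro χ hχ g
    have h := hχ (g ^ k)
    have hidx : Subgroup.centralizer ({g ^ k} : Set G) = Subgroup.centralizer {g} := by
      obtain ⟨m, hm⟩ := exists_pow_eq_self_of_coprime (x := g) (n := k)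
        (hk.coprime_dvd_right (orderOf_dvd_natCard _))
      ext x
      simp only [Subgroup.mem_centralizer_singleton_iff]
      refine ⟨fun h => ?_, fun h => (Commute.pow_right (h : Commute x g) k : _)⟩
      have := (Commute.pow_right (h : Commute x (g ^ k)) m : _)
      rwa [hm] at this
    unfold Cfsg.centralChar at h ⊢
    rw [hidx] at h
    simpa using h
  let X := {χ : Cfsg.IrrCharacter G // χ ∈ B ∧ Odd (Cfsg.charDegree (χ : G → ℂ))}
  let f : Function.End X := fun χ => ⟨⟨_, Cfsg.Agent.OddChar.PowTwist.isIrr_comp_pow χ.1.2 hk⟩,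
    htw _ χ.2.1, by
      have h := χ.2.2
      unfold Cfsg.charDegree at h ⊢
      simpa using h⟩
  have hiter : ∀ (j : ℕ) (χ : X) (g : G), ((f ^ j) χ).1.1 g = χ.1.1 (g ^ k ^ j) := by
    intro j
    induction j with
    | zero => intro χ g; simp; rfl
    | succ j ih =>
      intro χ g
      rw [pow_succ']
      show ((f ^ j) χ).1.1 (g ^ k) = _
      rw [ih, ← pow_mul, pow_succ']
  have hf : f ^ 2 ^ n = 1 := funext fun χ => Subtype.ext (Subtype.ext (funext fun g => by
    rw [hiter, hord]; rfl))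
  have hmod := Equiv.Perm.card_fixedPoints_modEq hf
  have hX : Even (Fintype.card X) := by
    rw [Fintype.card_subtype]
    simpa [F, Finset.filter_filter] using hsum
  rw [Nat.card_congr (β := f.fixedPoints)
    { toFun := fun χ => ⟨⟨χ.1, χ.2.1, χ.2.2.1⟩, Subtype.ext (Subtype.ext (funext χ.2.2.2))⟩
      invFun := fun χ => ⟨χ.1.1, χ.1.2.1, χ.1.2.2, fun g =>
        congrFun (congrArg (fun x : X => (x.1 : G → ℂ)) χ.2) g⟩
      left_inv := fun χ => rfl
      right_inv := fun χ => rfl }, Nat.card_eq_fintype_card, Nat.even_iff]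
  rw [← Nat.even_iff.1 hX]
  exact hmod.symm

end Cfsg.Agent.S4550
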