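import Cfsg.Statements.S1279
import Cfsg.Agent.Lib.Components.Balance
import Cfsg.Agent.Lib.Components.Hyperplane

set_option autoImplicit false
open Cfsg

namespace Cfsg.Agent.S1279

/-- Let A be a noncyclic elementary abelian p-subgroup of the finite group G such that C_G(a) is solvable for every non-identity a ∈ A. Then a ↦ O_{p'}(C_G(a)) is a solvable A-signalizer functor on G. -/
theorem result {G : Type*} [Group G] [Finite G] (p : ℕ) [Fact p.Prime] (A : Subgroup G) (hA : Cfsg.IsElementaryAbelian p A) (hA2 : p ^ 2 ≤ Nat.card ↥A) (hsolv : ∀ a ∈ A, a ≠ 1 → Group.IsSolvable ↥(Subgroup.centralizer ({a} : Set G))) : Cfsg.IsSolvableSignalizerFunctor p A (fun a => Cfsg.centralizerPPrimeCore p a) := by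
  refine ⟨⟨fun a _ _ => Components.Balance.centralizerPPrimeCore_le_centralizer p a, fun a _ _ => ?_,
    fun a ha _ b hb x hx => ?_, fun a ha _ b hb hb1 => ?_⟩, fun a ha ha1 => ?_⟩
  · exact (Fact.out : p.Prime).coprime_iff_not_dvd.mp (Components.Balance.centralizerPPrimeCore_coprime p a).symm
  · exact (Subgroup.mem_normalizer_iff.mp (Components.Balance.le_normalizer_centralizerPPrimeCore p a
      (Subgroup.mem_centralizer_singleton_iff.mpr (Components.Hyperplane.mem_comm hA hb ha))) x).mp hx
  · have := hsolv b hb hb1
    exact Components.Balance.centralizerPPrimeCore_inf_le (Components.Hyperplane.zpowers_isPGroup hA ha)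
      (Components.Hyperplane.mem_comm hA ha hb) Components.Balance.pLayer_eq_bot_of_isSolvable
  · exact Coprime.isSolvable_of_le (Components.Balance.centralizerPPrimeCore_le_centralizer p a)
      (hsolv a ha ha1)

end Cfsg.Agent.S1279
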