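import Cfsg.Statements.S4738
import Cfsg.Agent.BlocksChars.DefectZero
import Cfsg.Agent.BlocksChars.InvertedSylow

set_option autoImplicit false
open Cfsg

namespace Cfsg.Agent.S4738

/-- Let p be an odd prime and G a finite group of even order containing no element of order 2p. Then either G has an irreducible character of p-defect zero (its degree has the same p-part as the order of G), or every Sylow p-subgroup of G is abelian and all involutions of G are conjugate. -/
theorem result {G : Type*} [Group G] [Finite G] (p : ℕ) [Fact p.Prime] (hp2 : p ≠ 2) (hG : Even (Nat.card G)) (h2p : ∀ g : G, orderOf g ≠ 2 * p) : (∃ χ : Cfsg.IrrCharacter G, (Cfsg.charDegree (χ : G → ℂ)).factorization p = (Nat.card G).factorization p) ∨ ((∀ P : Sylow p G, IsMulCommutative ↥(P : Subgroup G)) ∧ ∀ s t : G, orderOf s = 2 → orderOf t = 2 → IsConj s t) := by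
  classical
  have hC : BlocksChars.InvertedSylow.OddCentralizers p G := by
    intro u hu1 hu
    rw [← Nat.not_even_iff_odd, even_iff_two_dvd]
    intro hdvd
    obtain ⟨t, ht⟩ := exists_prime_orderOf_dvd_card' 2 hdvd
    obtain ⟨k, hk⟩ := hu
    have hk0 : k ≠ 0 := fun h => hu1 (orderOf_eq_one_iff.1 (by rw [hk, h, pow_zero]))
    have ho : orderOf (u ^ p ^ (k - 1)) = p := by
      rw [orderOf_pow' u (pow_ne_zero _ (Fact.out : p.Prime).ne_zero), hk,
        Nat.gcd_eq_right (pow_dvd_pow p (by omega)), Nat.pow_div (by omega) (Fact.out : p.Prime).pos,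
        show k - (k - 1) = 1 by omega, pow_one]
    have hcom : Commute (t : G) (u ^ p ^ (k - 1)) :=
      Commute.pow_right (Subgroup.mem_centralizer_singleton_iff.1 t.2) _
    apply h2p ((t : G) * u ^ p ^ (k - 1))
    rw [hcom.orderOf_mul_eq_mul_orderOf_of_coprime, ho, Subgroup.orderOf_coe, ht]
    rw [ho, Subgroup.orderOf_coe, ht, Nat.coprime_primes Nat.prime_two Fact.out]
    exact Ne.symm hp2
  by_cases hdz : BlocksChars.DefectZero.HasDefectZero p G
  · exact Or.inl hdz
  refine Or.inr ?_
  have key : ∀ t : G, orderOf t = 2 → ∃ g u : G, IsConj t g ∧ orderOf g = 2 ∧ u ≠ 1 ∧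
      (∃ k : ℕ, orderOf u = p ^ k) ∧ g * u * g⁻¹ = u⁻¹ := by
    intro t ht
    have hp : ¬ p ∣ Nat.card ↥(Subgroup.centralizer ({t} : Set G)) := by
      intro hdvd
      obtain ⟨u, hu⟩ := exists_prime_orderOf_dvd_card' p hdvd
      have hu' : orderOf (u : G) = p := by rw [Subgroup.orderOf_coe]; exact hu
      have hu1 : (u : G) ≠ 1 := fun h => by
        rw [h, orderOf_one] at hu'; exact (Fact.out : p.Prime).ne_one hu'.symm
      exact BlocksChars.InvertedSylow.not_commute hC hu1 ⟨1, by rw [hu', pow_one]⟩ ht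
        (Subgroup.mem_centralizer_singleton_iff.1 u.2).symm
    obtain ⟨g, h, hg, hh, hne, hk⟩ :=
      (BlocksChars.DefectZero.exists_quotient_or_defectZero (p := p) hp).resolve_left hdz
    obtain ⟨cg, hcg⟩ := isConj_iff.1 hg
    obtain ⟨ch, hch⟩ := isConj_iff.1 hh
    have hg2 : orderOf g = 2 := by rw [← hcg, Involutions.Basic.orderOf_conj, ht]
    have hh2 : orderOf h = 2 := by rw [← hch, Involutions.Basic.orderOf_conj, ht]
    refine ⟨g, g * h⁻¹, hg, hg2, hne, hk, ?_⟩
    rw [mul_inv_rev, inv_inv, Involutions.Basic.inv_eq hg2, Involutions.Basic.inv_eq hh2,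
      ← mul_assoc, Involutions.Basic.inv_sq_one hg2, one_mul]
  refine ⟨fun P => ?_, fun s t hs ht => ?_⟩
  · obtain ⟨t, ht⟩ := exists_prime_orderOf_dvd_card' 2 (even_iff_two_dvd.1 hG)
    obtain ⟨g, u, -, hg2, hu, hk, hinv⟩ := key t ht
    obtain ⟨c, hc⟩ := BlocksChars.InvertedSylow.sylow_of_inverted hC hg2 hu hk hinv P
    exact hc.isMulCommutative
  · obtain ⟨g, u, hsg, hg2, hu, hk, hinv⟩ := key s hs
    obtain ⟨g', u', htg, hg2', hu', hk', hinv'⟩ := key t ht
    exact (hsg.trans (BlocksChars.InvertedSylow.isConj_of_inverted hC hg2 hg2' hu hk hinv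
      hu' hk' hinv')).trans htg.symm

end Cfsg.Agent.S4738
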