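import Cfsg.Statements.S1946
import Cfsg.Agent.Lib.Coprime.OmegaDetect
import Cfsg.Agent.Lib.Transfer.Frobenius

set_option autoImplicit false
open Cfsg

namespace Cfsg.Agent.S1946

/-- Let P be a Sylow p-subgroup of the finite group G. Then G has a normal p-complement if and only if P controls the fusion of its elements of order dividing p (dividing 4 when p = 2): whenever such an element a of P has a G-conjugate g a g⁻¹ in P, that conjugate is already x a x⁻¹ for some x in P. -/
theorem result {G : Type*} [Group G] [Finite G] {p : ℕ} [Fact p.Prime] (P : Sylow p G) :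
    Cfsg.HasNormalPComplement p G ↔
      ∀ a ∈ (P : Subgroup G), (a ^ p = 1 ∨ (p = 2 ∧ a ^ 4 = 1)) → ∀ g : G, g * a * g⁻¹ ∈ (P : Subgroup G) →
        ∃ x ∈ (P : Subgroup G), g * a * g⁻¹ = x * a * x⁻¹ := by
  constructor
  · intro h a ha _ g hga
    obtain ⟨R, N, hN, hNR⟩ := h
    obtain ⟨c, rfl⟩ := MulAction.exists_smul_eq G R P
    have hdisj : ∀ z, z ∈ N → z ∈ ((c • R : Sylow p G) : Subgroup G) → z = 1 := by
      intro z hz hzP
      have := Cfsg.Agent.Transfer.Fusion.mem_smul_sylow_iff.mp hzP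
      have h1 : c⁻¹ * z * c = 1 := Subgroup.disjoint_def.mp hNR.disjoint
        (by simpa using hN.conj_mem z hz c⁻¹) this
      calc z = c * (c⁻¹ * z * c) * c⁻¹ := by group
        _ = 1 := by rw [h1, mul_one, mul_inv_cancel]
    have htop : g ∈ ((c • R : Sylow p G) : Subgroup G) ⊔ N := by
      have hR : c⁻¹ * g * c ∈ (R : Subgroup G) ⊔ N := by
        rw [sup_comm, hNR.sup_eq_top]; trivial
      obtain ⟨r, hr, m, hm, e⟩ := Subgroup.mem_sup_of_normal_right.mp hR
      refine Subgroup.mem_sup_of_normal_right.mpr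
        ⟨c * r * c⁻¹, ?_, c * m * c⁻¹, hN.conj_mem m hm c, ?_⟩
      · refine Cfsg.Agent.Transfer.Fusion.mem_smul_sylow_iff.mpr ?_
        rw [show c⁻¹ * (c * r * c⁻¹) * c = r by group]
        exact hr
      · rw [show c * r * c⁻¹ * (c * m * c⁻¹) = c * (r * m) * c⁻¹ by group, e]
        group
    obtain ⟨x, hx, m, hm, rfl⟩ := Subgroup.mem_sup_of_normal_right.mp htop
    refine ⟨x, hx, ?_⟩
    have h2 : m * a * m⁻¹ ∈ ((c • R : Sylow p G) : Subgroup G) := by
      have := mul_mem (mul_mem (inv_mem hx) hga) hx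
      rwa [show x⁻¹ * (x * m * a * (x * m)⁻¹) * x = m * a * m⁻¹ by group] at this
    have h3 : m * a * m⁻¹ * a⁻¹ = 1 := hdisj _ (by
      simpa [mul_assoc] using mul_mem hm (hN.conj_mem _ (inv_mem hm) a)) (mul_mem h2 (inv_mem ha))
    rw [mul_inv_eq_one] at h3
    rw [show x * m * a * (x * m)⁻¹ = x * (m * a * m⁻¹) * x⁻¹ by group, h3]
  · intro h
    refine Cfsg.Agent.Transfer.Frobenius.hasNormalPComplement_of_condition
      (Cfsg.Agent.Transfer.Frobenius.Condition.of_sylow P fun Q hQP g hg ho => ?_)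
    have hQ : IsPGroup p Q := P.2.to_le hQP
    have := P.2.isNilpotent
    obtain ⟨N, hN⟩ := (Subgroup.isNilpotent_iff_lowerCentralSeries (P : Subgroup G)).mp inferInstance
    refine Cfsg.Agent.Coprime.OmegaDetect.mem_centralizer_of_descent ho
      (fun i => (P : Subgroup G).lowerCentralSeries i) N hN hQ hg (by simpa using hQP)
      fun i a haQ haL hao => ?_
    obtain ⟨x, hx, e⟩ := h a (hQP haQ) hao g (hQP ((Subgroup.mem_normalizer_iff.mp hg a).mp haQ))
    rw [e, Subgroup.lowerCentralSeries_succ]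
    have h1 := Subgroup.commutator_mem_commutator haL hx
    rw [commutatorElement_def] at h1
    have h2 := inv_mem h1
    rwa [show (a * x * a⁻¹ * x⁻¹)⁻¹ = x * a * x⁻¹ * a⁻¹ by group] at h2

end Cfsg.Agent.S1946
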