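import Cfsg.Statements.S4937
import Cfsg.Agent.Lib.CharTheory.PrincipalExtension

set_option autoImplicit false
open Cfsg

namespace Cfsg.Agent.S4937

open Cfsg.Agent.Characters Cfsg.Agent.Blocks Cfsg.Agent.CharTheory
open Cfsg.Agent.CharTheory.PrincipalExtension

universe u

/-- Pulling back along an embedding whose range contains `N` preserves the principal block. -/
theorem principal_comp {G : Type u} [Group G] [Finite G] [Fintype G] {p : ℕ}
    {M : Ideal Cfsg.AlgInt} (hM : Cfsg.IsPModular p M) (N : Subgroup G) [N.Normal] {χ : G → ℂ}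
    (hkey : ∀ (a : MonoidAlgebra ℂ G) (g : G), NEl N a → IntEl M a →
      Supp N a (QuotientGroup.mk' N g) →
      Cong M (omega χ a) (omega (fun _ : G => (1 : ℂ)) a))
    {J : Type u} [Group J] [Finite J] (f : J →* G) (hf : Function.Injective f)
    (hN : ∀ n ∈ N, ∃ j, f j = n) (ξ : Cfsg.IrrCharacter J)
    (hξ : ∀ j, (ξ : J → ℂ) j = χ (f j)) : ξ ∈ Cfsg.principalBlock M J := by
  classical
  haveI := Fintype.ofFinite J
  intro x
  let a : MonoidAlgebra ℂ G := ofFun fun g => if ∃ y, IsConj x y ∧ f y = g then 1 else 0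
  have haN : NEl N a := by
    intro n hn g
    obtain ⟨j, rfl⟩ := hN n hn
    simp only [a, coeff_ofFun]
    refine if_congr ⟨?_, ?_⟩ rfl rfl
    · rintro ⟨y, hy, e⟩
      refine ⟨j⁻¹ * y * j, hy.trans (isConj_iff.2 ⟨j⁻¹, by simp⟩), ?_⟩
      rw [map_mul, map_mul, map_inv, e]
      group
    · rintro ⟨y, hy, rfl⟩
      exact ⟨j * y * j⁻¹, hy.trans (isConj_iff.2 ⟨j, rfl⟩), by simp⟩
  have haI : IntEl M a := fun g => by
    simp only [a, coeff_ofFun]
    split <;> simp [ring_one hM, ring_zero hM]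
  haveI := Fintype.ofFinite (G ⧸ N)
  let comp : G ⧸ N → MonoidAlgebra ℂ G := fun c =>
    ofFun fun g => if QuotientGroup.mk' N g = c then a.coeff g else 0
  have hdec : a = ∑ c, comp c := by
    refine el_ext fun g => ?_
    simp only [comp, MonoidAlgebra.coeff_sum, Finsupp.finsetSum_apply, coeff_ofFun]
    rw [Finset.sum_eq_single_of_mem (QuotientGroup.mk' N g) (Finset.mem_univ _)
      fun c _ hc => if_neg (Ne.symm hc), if_pos rfl]
  have hc : Cong M (omega χ a) (omega (fun _ : G => (1 : ℂ)) a) := by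
    rw [hdec, omega_sum, omega_sum]
    refine cong_sum hM fun c _ => ?_
    obtain ⟨g₀, rfl⟩ := QuotientGroup.mk'_surjective N c
    refine hkey _ g₀ (fun n hn g => ?_) (fun g => ?_) fun y hy => ?_
    · simp only [comp, coeff_ofFun]
      refine if_congr ?_ (haN n hn g) rfl
      have h1 : QuotientGroup.mk' N n = 1 := (QuotientGroup.eq_one_iff n).2 hn
      rw [map_mul, map_mul, map_inv, h1]
      simp
    · simp only [comp, coeff_ofFun]
      split
      · exact haI g
      · exact ring_zero hM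
    · simp only [comp, coeff_ofFun, if_neg hy]
  have hev : ∀ φ : G → ℂ, evalChar φ a = evalChar (fun j => φ (f j)) (classSum x) := by
    intro φ
    rw [evalChar_eq_sum, evalChar_eq_sum]
    simp only [a, coeff_classSum, coeff_ofFun, ite_mul, one_mul, zero_mul, ← Finset.sum_filter]
    rw [show (Finset.univ.filter fun g : G => ∃ y, IsConj x y ∧ f y = g) =
      (Finset.univ.filter fun y : J => IsConj x y).image f by ext g; simp]
    rw [Finset.sum_image fun a _ b _ h => hf h]
  have h1 : omega χ a = Cfsg.centralChar (ξ : J → ℂ) x := by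
    rw [← omega_classSum (irr_isClassFunction ξ), omega, omega, hev, hξ 1, map_one,
      show (fun j => χ (f j)) = (ξ : J → ℂ) from funext fun j => (hξ j).symm]
  have h2 : omega (fun _ : G => (1 : ℂ)) a = Cfsg.centralChar (fun _ : J => (1 : ℂ)) x := by
    rw [← omega_classSum (show Cfsg.IsClassFunction J (fun _ : J => (1 : ℂ)) from fun _ _ => rfl),
      omega, omega, hev]
  rw [← h1, ← h2]
  exact cong_symm hM hc

/-- Let G be a finite group, p a prime, M a maximal ideal of the algebraic integers containing p, N a normal subgroup of G and P a Sylow p-subgroup of N such that G = N·C_G(P). Let θ be an irreducible character in the principal p-block of N that is the restriction of some irreducible character of G. Then θ is the restriction of an irreducible character χ of G lying in the principal p-block of G such that, for every subgroup J of G containing N, the restriction of χ to J is an irreducible character of J lying in the principal p-block of J. -/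
theorem result {G : Type*} [Group G] [Finite G] (p : ℕ) [Fact p.Prime] (M : Ideal Cfsg.AlgInt) (hM : Cfsg.IsPModular p M) (N : Subgroup G) [N.Normal] (P : Sylow p ↥N)
    (hcov : N ⊔ Subgroup.centralizer (((P : Subgroup ↥N).map N.subtype : Subgroup G) : Set G) = ⊤)
    (θ : Cfsg.IrrCharacter ↥N) (hθ : θ ∈ Cfsg.principalBlock M ↥N)
    (hext : ∃ ψ : Cfsg.IrrCharacter G, ∀ x : ↥N, (ψ : G → ℂ) x = (θ : ↥N → ℂ) x) :
    ∃ χ : Cfsg.IrrCharacter G, χ ∈ Cfsg.principalBlock M G ∧ (∀ x : ↥N, (χ : G → ℂ) x = (θ : ↥N → ℂ) x) ∧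
      ∀ J : Subgroup G, N ≤ J → ∃ ξ : Cfsg.IrrCharacter ↥J, ξ ∈ Cfsg.principalBlock M ↥J ∧ ∀ y : ↥J, (ξ : ↥J → ℂ) y = (χ : G → ℂ) y := by
  classical
  haveI := Fintype.ofFinite G
  haveI := Fintype.ofFinite ↥N
  obtain ⟨ψ, hψ⟩ := hext
  have he : (fun n : ↥N => (ψ : G → ℂ) n) = (θ : ↥N → ℂ) := funext hψ
  have hψN : Cfsg.IsIrrCharacter ↥N (fun n : ↥N => (ψ : G → ℂ) n) := he ▸ θ.2
  have hθ' : (⟨_, hψN⟩ : Cfsg.IrrCharacter ↥N) ∈ Cfsg.principalBlock M ↥N := by
    rwa [show (⟨_, hψN⟩ : Cfsg.IrrCharacter ↥N) = θ from Subtype.ext he]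
  obtain ⟨μ, hμN, hμ⟩ := exists_twist (G := G) hψN (irr_isCharacter ψ) hM hθ' P (fun g => by
    have hg : g ∈ (↑(N ⊔ Subgroup.centralizer
        (((P : Subgroup ↥N).map N.subtype : Subgroup G) : Set G)) : Set G) := by rw [hcov]; trivial
    rw [Subgroup.normal_mul] at hg
    obtain ⟨n, hn, x, hx, rfl⟩ := hg
    refine ⟨x, hx, ?_⟩
    rw [map_mul, show QuotientGroup.mk' N n = 1 from (QuotientGroup.eq_one_iff n).2 hn, one_mul])
  set χf : G → ℂ := fun g => (μ g : ℂ) * (ψ : G → ℂ) g with hχf
  have hirr : Cfsg.IsIrrCharacter G χf := isIrrCharacter_mul_linear ψ.2 μ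
  have hres : ∀ x : ↥N, χf x = (θ : ↥N → ℂ) x := fun x => by
    simp only [hχf, hμN x x.2, Units.val_one, one_mul, hψ x]
  have hkey : ∀ (a : MonoidAlgebra ℂ G) (g : G), NEl N a → IntEl M a →
      Supp N a (QuotientGroup.mk' N g) →
      Cong M (omega χf a) (omega (fun _ : G => (1 : ℂ)) a) := by
    intro a g ha hai has
    have e : omega χf a = (μ g : ℂ) * omega (ψ : G → ℂ) a := by
      rw [omega, omega, evalChar_eq_sum, evalChar_eq_sum, hχf]
      simp only [map_one, Units.val_one, one_mul]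
      rw [← mul_div_assoc, Finset.mul_sum]
      congr 1
      refine Finset.sum_congr rfl fun y _ => ?_
      by_cases hy : QuotientGroup.mk' N y = QuotientGroup.mk' N g
      · have h1 : g⁻¹ * y ∈ N := (QuotientGroup.eq).1 hy.symm
        rw [show (μ y : ℂ) = (μ g : ℂ) by
          conv_lhs => rw [← mul_inv_cancel_left g y, map_mul, hμN _ h1, mul_one]]
        ring
      · rw [has y hy]
        ring
    rw [e]
    exact hμ a g ha hai has
  refine ⟨⟨χf, hirr⟩, ?_, hres, fun J hJ => ?_⟩
  · exact principal_comp hM N hkey (MonoidHom.id G) Function.injective_id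
      (fun n _ => ⟨n, rfl⟩) _ (fun _ => rfl)
  · haveI := Fintype.ofFinite ↥J
    let ξ : Cfsg.IrrCharacter ↥J := ⟨fun y : ↥J => χf y,
      Cfsg.Agent.CharTheory.NormalSylow.isIrr_of_restrict (Subgroup.inclusion hJ)
        (isCharacter_restrict J (isCharacter_of_isIrr hirr))
        (by rw [show (fun y : ↥J => χf y) ∘ Subgroup.inclusion hJ = (θ : ↥N → ℂ) from funext hres]
            exact θ.2)⟩
    exact ⟨ξ, principal_comp hM N hkey J.subtype J.subtype_injective
      (fun n hn => ⟨⟨n, hJ hn⟩, rfl⟩) ξ (fun _ => rfl), fun _ => rfl⟩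

end Cfsg.Agent.S4937
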