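import Cfsg.Statements.S3357
import Cfsg.Agent.S0042

set_option autoImplicit false
open Cfsg

namespace Cfsg.Agent.S3357

open Matrix

/-- A fixed-point-free action on an elementary abelian group gives a matrix representation. -/
theorem fpf_matrix {H W : Type*} [Group H] [Finite H] [AddCommGroup W] [Finite W] {q : ℕ}
    [hq' : Fact q.Prime] [Module (ZMod q) W] (A : H → W →+ W) (hone : ∀ w, A 1 w = w)
    (hmul : ∀ h k w, A (h * k) w = A h (A k w)) (hfix : ∀ h : H, h ≠ 1 → ∀ w, A h w = w → w = 0)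
    {z : W} (hz : z ≠ 0) :
    ∃ (d : ℕ) (ρ : H →* GL (Fin d) (ZMod q)), 0 < d ∧ ¬ q ∣ Nat.card H ∧
      ∀ h : H, h ≠ 1 → ∀ v : Fin d → ZMod q,
        ((ρ h : GL (Fin d) (ZMod q)) : Matrix (Fin d) (Fin d) (ZMod q)) *ᵥ v = v → v = 0 := by
  have hq : q.Prime := hq'.out
  haveI : Module.Finite (ZMod q) W := Module.Finite.of_finite
  let act : H →* Module.End (ZMod q) W :=
    { toFun := fun h => ({ toFun := A h, map_add' := map_add (A h), map_smul' := ZMod.map_smul (A h) } : W →ₗ[ZMod q] W)
      map_one' := LinearMap.ext hone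
      map_mul' := fun h k => LinearMap.ext fun a => hmul h k a }
  let b := Module.finBasis (ZMod q) W
  let ρ : H →* GL (Fin (Module.finrank (ZMod q) W)) (ZMod q) :=
    ((LinearMap.toMatrixAlgEquiv b).toMonoidHom.comp act).toHomUnits
  have hρ : ∀ (h : H) (v : Fin (Module.finrank (ZMod q) W) → ZMod q),
      ((ρ h : GL (Fin (Module.finrank (ZMod q) W)) (ZMod q)) :
        Matrix _ _ (ZMod q)) *ᵥ v = b.equivFun (act h (b.equivFun.symm v)) := by
    intro h v
    have := LinearMap.toMatrix_mulVec_repr b b (act h) (b.equivFun.symm v)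
    simp only [← Module.Basis.equivFun_apply, LinearEquiv.apply_symm_apply] at this
    exact this
  have hfixρ : ∀ h : H, h ≠ 1 → ∀ v : Fin (Module.finrank (ZMod q) W) → ZMod q,
      ((ρ h : GL _ (ZMod q)) : Matrix _ _ (ZMod q)) *ᵥ v = v → v = 0 := by
    intro h h1 v hv
    rw [hρ] at hv
    have h2 := hfix h h1 (b.equivFun.symm v) (b.equivFun.injective (hv.trans (b.equivFun.apply_symm_apply v).symm))
    rw [← b.equivFun.apply_symm_apply v, h2, map_zero]
  haveI : Nontrivial W := ⟨⟨z, 0, hz⟩⟩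
  refine ⟨_, ρ, Module.finrank_pos, fun hdvd => ?_, hfixρ⟩
  obtain ⟨h, hh⟩ := exists_prime_orderOf_dvd_card' q hdvd
  have h1 : h ≠ 1 := fun e => hq.ne_one (by rw [← hh, e, orderOf_one])
  haveI : CharP (Module.End (ZMod q) W) q :=
    charP_of_injective_algebraMap (algebraMap (ZMod q) (Module.End (ZMod q) W)).injective q
  have hT : (act h - 1) ^ q = 0 := by
    rw [sub_pow_char_of_commute (p := q) (h := Commute.one_right _), one_pow, ← map_pow,
      orderOf_dvd_iff_pow_eq_one.mp (dvd_of_eq hh), map_one, sub_self]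
  have hinj : Function.Injective (act h - 1 : Module.End (ZMod q) W) :=
    (injective_iff_map_eq_zero _).mpr fun a ha => hfix h h1 a (sub_eq_zero.mp ha)
  have hinjq : Function.Injective ((act h - 1 : Module.End (ZMod q) W) ^ q) := by
    rw [Module.End.coe_pow]; exact hinj.iterate q
  exact hz (hinjq (a₁ := z) (a₂ := 0) (by rw [hT]; rfl))

open scoped IsMulCommutative in
/-- A Frobenius complement has a fixed-point-free representation over a prime field of
characteristic prime to its order. -/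
theorem exists_fpf_modular {L : Type*} [Group L] [Finite L] (H : Subgroup L)
    (hH : Cfsg.IsFrobeniusComplement H) :
    ∃ (q d : ℕ) (_ : Fact q.Prime) (ρ : H →* GL (Fin d) (ZMod q)), 0 < d ∧ ¬ q ∣ Nat.card H ∧
      ∀ h : H, h ≠ 1 → ∀ v : Fin d → ZMod q,
        ((ρ h : GL (Fin d) (ZMod q)) : Matrix (Fin d) (Fin d) (ZMod q)) *ᵥ v = v → v = 0 := by
  classical
  obtain ⟨N, hNset, hNn, hNnil⟩ := Cfsg.Agent.S0042.result H hH
  obtain ⟨N', hN', -, hc⟩ := Cfsg.Agent.Characters.frobenius_kernel_theorem hH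
  obtain rfl : N' = N := SetLike.coe_injective (hN'.trans hNset.symm)
  have hfpf := Cfsg.Agent.Solvable.Frobenius.fpf_of_kernel hH hc
  obtain ⟨q, hq, hqd⟩ := Nat.exists_prime_and_dvd
    ((Subgroup.one_lt_card_iff_ne_bot _).mpr (Cfsg.Agent.Solvable.Frobenius.kernel_ne_bot hH hc)).ne'
  haveI := Fact.mk hq
  obtain ⟨P⟩ := (inferInstance : Nonempty (Sylow q N'))
  haveI hPn : (P : Subgroup N').Normal := inferInstance
  haveI : (P : Subgroup N').Characteristic := P.characteristic_of_normal hPn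
  set Q := (P : Subgroup N').map N'.subtype with hQdef
  haveI hQn : Q.Normal := inferInstance
  let V : Subgroup L :=
    { carrier := {x | x ∈ Q ∧ (∀ y ∈ Q, y * x = x * y) ∧ x ^ q = 1}
      one_mem' := ⟨Q.one_mem, fun y _ => by simp, one_pow _⟩
      mul_mem' := fun {a b} ha hb => ⟨Q.mul_mem ha.1 hb.1, fun y hy => by
        rw [← mul_assoc, ha.2.1 y hy, mul_assoc, hb.2.1 y hy, mul_assoc],
        by rw [(show Commute a b from hb.2.1 a ha.1).mul_pow, ha.2.2, hb.2.2, one_mul]⟩
      inv_mem' := fun {a} ha => ⟨Q.inv_mem ha.1, fun y hy =>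
        ((show Commute y a from ha.2.1 y hy).inv_right).eq, by rw [inv_pow, ha.2.2, inv_one]⟩ }
  have hVN : V ≤ N' := fun x hx => Subgroup.map_subtype_le _ hx.1
  obtain ⟨z, hzV, hz1⟩ : ∃ z ∈ V, z ≠ 1 := by
    have hPne : (P : Subgroup N') ≠ ⊥ := P.ne_bot_of_dvd_card hqd
    haveI : Nontrivial ↥(P : Subgroup N') := (Subgroup.nontrivial_iff_ne_bot _).mpr hPne
    haveI := P.2.center_nontrivial
    obtain ⟨w, hw⟩ := exists_ne (1 : Subgroup.center ↥(P : Subgroup N'))
    obtain ⟨k, hk⟩ := (IsPGroup.iff_orderOf.mp P.2) (w : ↥(P : Subgroup N'))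
    have hk0 : k ≠ 0 := by
      rintro rfl
      rw [pow_zero, orderOf_eq_one_iff] at hk
      exact hw (Subtype.ext hk)
    set u : ↥(P : Subgroup N') := (w : ↥(P : Subgroup N')) ^ q ^ (k - 1) with hu
    have hou : orderOf u = q := by
      rw [hu, orderOf_pow' _ (pow_ne_zero _ hq.ne_zero), hk, Nat.gcd_eq_right (pow_dvd_pow q (by omega)),
        Nat.pow_div (by omega) hq.pos, show k - (k - 1) = 1 by omega, pow_one]
    refine ⟨((u : N') : L), ⟨Subgroup.mem_map_of_mem _ u.2, ?_, ?_⟩, ?_⟩
    · rintro _ ⟨y, hy, rfl⟩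
      have hucen : u ∈ Subgroup.center ↥(P : Subgroup N') := Subgroup.pow_mem _ w.2 _
      exact congrArg (fun a : ↥(P : Subgroup N') => ((a : N') : L))
        (Subgroup.mem_center_iff.mp hucen ⟨y, hy⟩)
    · refine orderOf_dvd_iff_pow_eq_one.mp (dvd_of_eq ?_)
      rw [Subgroup.orderOf_coe, Subgroup.orderOf_coe, hou]
    · intro h
      apply hq.ne_one
      rw [← hou, ← Subgroup.orderOf_coe, ← Subgroup.orderOf_coe, h, orderOf_one]
  have hVconj : ∀ (g : L) (x : L), x ∈ V → g * x * g⁻¹ ∈ V := by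
    intro g x hx
    refine ⟨hQn.conj_mem x hx.1 g, fun y hy => ?_, by rw [conj_pow, hx.2.2, mul_one, mul_inv_cancel]⟩
    have h1 := hx.2.1 (g⁻¹ * y * g) (by simpa using hQn.conj_mem y hy g⁻¹)
    calc y * (g * x * g⁻¹) = g * ((g⁻¹ * y * g) * x) * g⁻¹ := by group
      _ = g * (x * (g⁻¹ * y * g)) * g⁻¹ := by rw [h1]
      _ = g * x * g⁻¹ * y := by group
  haveI : IsMulCommutative V := ⟨⟨fun a b => Subtype.ext (b.2.2.1 a a.2.1)⟩⟩
  let conjA : H → (Additive V →+ Additive V) := fun h => AddMonoidHom.mk'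
    (fun a : Additive V => Additive.ofMul (⟨(h : L) * ((Additive.toMul a : V) : L) * (h : L)⁻¹,
      hVconj _ _ (Additive.toMul a : V).2⟩ : V))
    (fun a b => by
      apply Additive.toMul.injective
      refine Subtype.ext ?_
      show (h : L) * (((Additive.toMul a : V) : L) * ((Additive.toMul b : V) : L)) * (h : L)⁻¹ = _
      simp [mul_assoc])
  have hconjA : ∀ h k a, conjA (h * k) a = conjA h (conjA k a) := fun h k a => by
    refine Additive.toMul.injective ?_
    refine Subtype.ext ?_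
    show ((h * k : H) : L) * ((Additive.toMul a : V) : L) * ((h * k : H) : L)⁻¹ =
      (h : L) * ((k : L) * ((Additive.toMul a : V) : L) * (k : L)⁻¹) * (h : L)⁻¹
    simp [mul_assoc]
  have hone : ∀ a, conjA 1 a = a := fun a => by
    refine Additive.toMul.injective ?_
    refine Subtype.ext ?_
    show ((1 : H) : L) * ((Additive.toMul a : V) : L) * ((1 : H) : L)⁻¹ = ((Additive.toMul a : V) : L)
    simp
  have hfix : ∀ h : H, h ≠ 1 → ∀ a : Additive V, conjA h a = a → a = 0 := by
    intro h h1 a ha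
    have ha' : (h : L) * ((Additive.toMul a : V) : L) * (h : L)⁻¹ = ((Additive.toMul a : V) : L) :=
      congrArg (fun b : Additive V => (Additive.toMul b).1) ha
    have hm : (Additive.toMul a).1 ∈ N' ⊓ Subgroup.centralizer {(h : L)} :=
      ⟨hVN (Additive.toMul a).2, Subgroup.mem_centralizer_singleton_iff.mpr
        (mul_inv_eq_iff_eq_mul.mp ha').symm⟩
    rw [hfpf h h.2 (fun e => h1 (Subtype.ext e)), Subgroup.mem_bot] at hm
    exact Additive.toMul.injective (Subtype.ext hm)
  haveI : Finite (Additive V) := Finite.of_equiv V Additive.ofMul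
  letI := AddCommGroup.zmodModule (n := q) (G := Additive V) (fun a => by
      apply Additive.toMul.injective
      rw [toMul_nsmul, toMul_zero]
      exact Subtype.ext (Additive.toMul a : V).2.2.2)
  obtain ⟨d, ρ, hd, hqH, hρ⟩ := fpf_matrix (q := q)
    conjA hone hconjA hfix (z := Additive.ofMul (⟨z, hzV⟩ : V))
    (fun h => hz1 (congrArg (fun b : Additive V => ((Additive.toMul b : V) : L)) h))
  exact ⟨q, d, ‹_›, ρ, hd, hqH, hρ⟩

/-- Coprime representations lift to every `ZMod (q ^ (k + 1))`. -/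
theorem exists_lift {H : Type*} [Group H] [Finite H] {q d : ℕ} [Fact q.Prime]
    (hq : ¬ q ∣ Nat.card H) (ρ : H →* GL (Fin d) (ZMod q)) (k : ℕ) :
    ∃ σ : H →* GL (Fin d) (ZMod (q ^ (k + 1))),
      ∀ h, Matrix.GeneralLinearGroup.map (ZMod.castHom (dvd_pow_self q k.succ_ne_zero) (ZMod q)) (σ h) = ρ h := by
  classical
  set c := ZMod.castHom (dvd_pow_self q k.succ_ne_zero) (ZMod q) with hc
  haveI : NeZero (q ^ (k + 1)) := ⟨pow_ne_zero _ (Nat.Prime.ne_zero Fact.out)⟩
  set π : GL (Fin d) (ZMod (q ^ (k + 1))) →* GL (Fin d) (ZMod q) := Matrix.GeneralLinearGroup.map c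
  have hcs : Function.Surjective c := ZMod.ringHom_surjective c
  have hmem : ∀ x : ZMod (q ^ (k + 1)), c x = 0 → ∃ y, x = (q : ZMod (q ^ (k + 1))) * y := by
    intro x hx
    rw [hc, ZMod.castHom_apply, ← ZMod.natCast_val, ZMod.natCast_eq_zero_iff] at hx
    obtain ⟨y, hy⟩ := hx
    exact ⟨y, by rw [← Nat.cast_mul, ← hy, ZMod.natCast_zmod_val]⟩
  have hunit : ∀ x : ZMod (q ^ (k + 1)), c x ≠ 0 → IsUnit x := by
    intro x hx
    rw [hc, ZMod.castHom_apply, ← ZMod.natCast_val, Ne, ZMod.natCast_eq_zero_iff] at hx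
    rw [← ZMod.natCast_zmod_val x, ZMod.isUnit_iff_coprime]
    exact (((Nat.Prime.coprime_iff_not_dvd Fact.out).mpr hx).symm.pow_right _)
  have hsurj : Function.Surjective π := by
    intro g
    choose s hs using fun i j => hcs ((g : Matrix (Fin d) (Fin d) (ZMod q)) i j)
    have hs' : (Matrix.of s).map c = (g : Matrix (Fin d) (Fin d) (ZMod q)) := by ext i j; exact hs i j
    have hdet : IsUnit (Matrix.of s).det := by
      refine hunit _ ?_
      rw [RingHom.map_det, RingHom.mapMatrix_apply, hs']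
      exact ((Matrix.isUnit_iff_isUnit_det _).mp g.isUnit).ne_zero
    exact ⟨((Matrix.isUnit_iff_isUnit_det _).mpr hdet).unit, Units.ext hs'⟩
  have hker : IsPGroup q π.ker := by
    intro g
    refine ⟨k + 1, Subtype.ext (Units.ext ?_)⟩
    set A := ((g : GL (Fin d) (ZMod (q ^ (k + 1)))) : Matrix (Fin d) (Fin d) (ZMod (q ^ (k + 1))))
    have hA : A.map c = 1 := congrArg Units.val (MonoidHom.mem_ker.mp g.2)
    obtain ⟨Y, hY⟩ : ∃ Y, A - 1 = (q : ZMod (q ^ (k + 1))) • Y := by
      have h : ∀ i j, ∃ y, (A - 1) i j = (q : ZMod (q ^ (k + 1))) * y := fun i j => hmem _ (by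
        have h1 := congrFun (congrFun hA i) j
        rw [Matrix.map_apply, Matrix.one_apply] at h1
        rw [Matrix.sub_apply, map_sub, h1, Matrix.one_apply]
        split_ifs <;> simp)
      choose y hy using h
      exact ⟨Matrix.of y, by ext i j; simp [hy i j]⟩
    have key : ∀ j : ℕ, ∃ Z, A ^ q ^ j = 1 + ((q : ZMod (q ^ (k + 1))) ^ (j + 1)) • Z := by
      intro j
      induction j with
      | zero => exact ⟨Y, by rw [pow_zero, pow_one, pow_one, ← hY, add_sub_cancel]⟩
      | succ j ih =>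
        obtain ⟨Z, hZ⟩ := ih
        set B := A ^ q ^ j with hB
        have hgeom : B ^ q - 1 = (B - 1) * ∑ i ∈ Finset.range q, B ^ i := (mul_geom_sum B q).symm
        have hBi : ∀ i : ℕ, ∃ W, B ^ i = 1 + (q : ZMod (q ^ (k + 1))) • W := by
          intro i
          induction i with
          | zero => exact ⟨0, by simp⟩
          | succ i ih2 =>
            obtain ⟨W, hW⟩ := ih2
            refine ⟨W + (q : ZMod (q ^ (k + 1))) ^ j • (B ^ i * Z), ?_⟩
            rw [pow_succ B i]
            conv_lhs => arg 2; rw [hZ]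
            rw [mul_add, mul_one]
            rw [Matrix.mul_smul, hW, smul_add, smul_smul, ← pow_succ' (q : ZMod (q ^ (k + 1))) j, ← add_assoc]
        choose W hW using hBi
        refine ⟨Z * (1 + ∑ i ∈ Finset.range q, W i), ?_⟩
        have e : ∑ i ∈ Finset.range q, B ^ i = (q : ZMod (q ^ (k + 1))) • (1 + ∑ i ∈ Finset.range q, W i) := by
          simp only [hW, Finset.sum_add_distrib, Finset.sum_const, Finset.card_range]
          rw [smul_add, Finset.smul_sum, Nat.cast_smul_eq_nsmul]
        rw [pow_succ q j, pow_mul, ← hB, ← sub_eq_iff_eq_add', hgeom, e,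
          show B - 1 = ((q : ZMod (q ^ (k + 1))) ^ (j + 1)) • Z by rw [hZ, add_sub_cancel_left],
          Matrix.smul_mul, Matrix.mul_smul, smul_smul, ← pow_succ (q : ZMod (q ^ (k + 1))) (j + 1)]
    obtain ⟨Z, hZ⟩ := key (k + 1)
    rw [Subgroup.coe_pow, Units.val_pow_eq_pow_val, OneMemClass.coe_one, Units.val_one, hZ, pow_succ (q : ZMod (q ^ (k + 1))) (k + 1),
      show ((q : ZMod (q ^ (k + 1))) ^ (k + 1)) = 0 by rw [← Nat.cast_pow, ZMod.natCast_self],
      zero_mul, zero_smul, add_zero]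
  -- split over the image
  set P := ρ.range.comap π with hP
  let π' : P →* ρ.range := (π.comp P.subtype).codRestrict _ fun x => x.2
  have hπ's : Function.Surjective π' := by
    rintro ⟨g, hg⟩
    obtain ⟨x, rfl⟩ := hsurj g
    exact ⟨⟨x, hg⟩, rfl⟩
  have hcop : (Nat.card π'.ker).Coprime π'.ker.index := by
    have h1 : IsPGroup q π'.ker := hker.of_injective
      { toFun := fun x => (⟨((x : P) : GL (Fin d) (ZMod (q ^ (k + 1)))),
          MonoidHom.mem_ker.mpr (congrArg Subtype.val (MonoidHom.mem_ker.mp x.2))⟩ : π.ker)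
        map_one' := rfl
        map_mul' := fun _ _ => rfl }
      (fun x y h => Subtype.ext (Subtype.ext (congrArg (fun z : π.ker => (z : GL (Fin d) (ZMod (q ^ (k + 1))))) h)))
    obtain ⟨n, hn⟩ := IsPGroup.iff_card.mp h1
    rw [Subgroup.index_ker, hn]
    refine Nat.Coprime.pow_left _ ((Nat.Prime.coprime_iff_not_dvd Fact.out).mpr fun hd => hq ?_)
    rw [MonoidHom.range_eq_top.mpr hπ's, Subgroup.card_top] at hd
    exact hd.trans (Subgroup.card_range_dvd ρ)
  obtain ⟨C, hC⟩ := Subgroup.exists_right_complement'_of_coprime hcop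
  have hbij : Function.Bijective (π'.comp C.subtype) := by
    refine ⟨(injective_iff_map_eq_one _).mpr fun x hx => Subtype.ext
      (Subgroup.disjoint_def.mp hC.disjoint (MonoidHom.mem_ker.mpr hx) x.2), fun g => ?_⟩
    obtain ⟨x, rfl⟩ := hπ's g
    obtain ⟨⟨⟨a, ha⟩, ⟨b, hb⟩⟩, hab : a * b = x⟩ := (hC.existsUnique x).exists
    exact ⟨⟨b, hb⟩, by
      show π' b = π' x
      rw [← hab, map_mul, MonoidHom.mem_ker.mp ha, one_mul]⟩
  refine ⟨(P.subtype.comp C.subtype).comp
    ((MulEquiv.ofBijective _ hbij).symm.toMonoidHom.comp ρ.rangeRestrict), fun h => ?_⟩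
  exact congrArg Subtype.val ((MulEquiv.ofBijective (π'.comp C.subtype) hbij).apply_symm_apply (ρ.rangeRestrict h))

/-- A lift of a fixed-point-free representation is fixed-point-free. -/
theorem lift_fixed_eq_zero {q d k : ℕ} [Fact q.Prime] (A : Matrix (Fin d) (Fin d) (ZMod (q ^ (k + 1))))
    (B : Matrix (Fin d) (Fin d) (ZMod q))
    (hAB : A.map (ZMod.castHom (dvd_pow_self q k.succ_ne_zero) (ZMod q)) = B)
    (hB : ∀ v, B *ᵥ v = v → v = 0) (v : Fin d → ZMod (q ^ (k + 1))) (hv : A *ᵥ v = v) : v = 0 := by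
  set c := ZMod.castHom (dvd_pow_self q k.succ_ne_zero) (ZMod q) with hc
  haveI : NeZero (q ^ (k + 1)) := ⟨pow_ne_zero _ (Nat.Prime.ne_zero Fact.out)⟩
  have hdiv : ∀ j, j ≤ k + 1 → ∃ w : Fin d → ZMod (q ^ (k + 1)), v = ((q : ZMod (q ^ (k + 1))) ^ j) • w := by
    intro j
    induction j with
    | zero => exact fun _ => ⟨v, by simp⟩
    | succ j ih =>
      intro hj
      obtain ⟨w, hw⟩ := ih (by omega)
      have hcw : c ∘ w = 0 := by
        refine hB _ (funext fun i => ?_)
        rw [← hAB, ← RingHom.map_mulVec c A w i]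
        refine sub_eq_zero.mp ?_
        rw [Function.comp_apply, ← map_sub]
        set x := (A *ᵥ w) i - w i
        have hx : (q : ZMod (q ^ (k + 1))) ^ j * x = 0 := by
          rw [hw, Matrix.mulVec_smul] at hv
          have := congrFun hv i
          simp only [Pi.smul_apply, smul_eq_mul] at this
          rw [mul_sub, this, sub_self]
        rw [← ZMod.natCast_zmod_val x, ← Nat.cast_pow, ← Nat.cast_mul,
          ZMod.natCast_eq_zero_iff] at hx
        rw [hc, ZMod.castHom_apply, ← ZMod.natCast_val, ZMod.natCast_eq_zero_iff]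
        refine Nat.dvd_of_mul_dvd_mul_left (pow_pos (Nat.Prime.pos (Fact.out : q.Prime)) j) ?_
        exact (pow_succ q j ▸ pow_dvd_pow q hj).trans hx
      have hw' : ∀ i, ∃ y, w i = (q : ZMod (q ^ (k + 1))) * y := fun i => by
        have h1 : c (w i) = 0 := congrFun hcw i
        rw [hc, ZMod.castHom_apply, ← ZMod.natCast_val, ZMod.natCast_eq_zero_iff] at h1
        obtain ⟨y, hy⟩ := h1
        exact ⟨y, by rw [← Nat.cast_mul, ← hy, ZMod.natCast_zmod_val]⟩
      choose y hy using hw'
      exact ⟨y, funext fun i => by rw [hw, Pi.smul_apply, Pi.smul_apply, smul_eq_mul, smul_eq_mul, hy, pow_succ (q : ZMod (q ^ (k + 1))) j, mul_assoc]⟩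
  obtain ⟨w, hw⟩ := hdiv (k + 1) le_rfl
  rw [hw, ← Nat.cast_pow, ZMod.natCast_self, zero_smul]

variable {H : Type*} [Group H] [Finite H]

open Classical in
/-- The coefficient function of `g N_c h`, where `N_c` is the sum of the powers of `c`. -/
noncomputable def normFun (R : Type*) [Semiring R] (g c h : H) : H → R :=
  fun x => ∑ i ∈ Finset.range (orderOf c), if g * c ^ i * h = x then 1 else 0

theorem exists_fpf_module (K : Type*) [Field K] [CharZero K] (q d : ℕ) [Fact q.Prime] (hd : 0 < d)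
    (hq : ¬ q ∣ Nat.card H) (ρ : H →* GL (Fin d) (ZMod q))
    (hρ : ∀ h : H, h ≠ 1 → ∀ v : Fin d → ZMod q,
      ((ρ h : GL (Fin d) (ZMod q)) : Matrix (Fin d) (Fin d) (ZMod q)) *ᵥ v = v → v = 0) :
    ∃ S : Submodule K (H → K), S ≠ ⊤ ∧ (∀ g : H, ∀ f ∈ S, (fun x => f (g⁻¹ * x)) ∈ S) ∧
      ∀ c : H, (orderOf c).Prime → ∀ f : H → K, (fun x => f (c⁻¹ * x)) - f ∈ S → f ∈ S := by
  classical
  haveI := Fintype.ofFinite H
  let T := H × {c : H // (orderOf c).Prime} × H
  let F : ∀ (R : Type _) [Semiring R], T → H → R := fun R _ t => normFun R t.1 t.2.1 t.2.2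
  set S : Submodule K (H → K) := Submodule.span K (Set.range (F K)) with hS
  have hgen : ∀ g c h : H, (orderOf c).Prime → normFun K g c h ∈ S := fun g c h hc =>
    Submodule.subset_span ⟨(g, ⟨c, hc⟩, h), rfl⟩
  refine ⟨S, ?_, ?_, ?_⟩
  · intro htop
    have h1 : (fun x : H => if x = 1 then (1 : K) else 0) ∈ S := htop ▸ Submodule.mem_top
    rw [hS, Submodule.mem_span_range_iff_exists_fun] at h1
    obtain ⟨a, ha⟩ := h1
    obtain ⟨φ, hφ⟩ : ∃ φ : K →ₗ[ℚ] ℚ, φ 1 = 1 := by
      obtain ⟨φ, hφ⟩ := LinearMap.exists_leftInverse_of_injective (Algebra.linearMap ℚ K)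
        (LinearMap.ker_eq_bot.mpr (algebraMap ℚ K).injective)
      exact ⟨φ, by simpa using LinearMap.congr_fun hφ 1⟩
    let N : T → H → ℕ := fun t => normFun ℕ t.1 t.2.1 t.2.2
    have hN : ∀ (R : Type _) [Semiring R] (t : T) (x : H),
        normFun R t.1 t.2.1 t.2.2 x = (N t x : R) := fun R _ t x => by
      simp [N, normFun, Nat.cast_sum]
    have hrat : ∀ x : H, ∑ t, φ (a t) * (N t x : ℚ) = if x = 1 then 1 else 0 := by
      intro x
      have h2 := congrArg φ (congrFun ha x)
      simp only [Finset.sum_apply, Pi.smul_apply, smul_eq_mul, map_sum] at h2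
      rw [apply_ite φ, hφ, map_zero] at h2
      rw [← h2]
      refine Finset.sum_congr rfl fun t _ => ?_
      show _ = φ (a t * normFun K t.1 t.2.1 t.2.2 x)
      rw [hN, mul_comm (a t), ← nsmul_eq_mul, map_nsmul, nsmul_eq_mul, mul_comm]
    set m := ∏ t : T, (φ (a t)).den with hm
    have hm0 : m ≠ 0 := Finset.prod_ne_zero_iff.mpr fun t _ => (φ (a t)).den_ne_zero
    have hz : ∀ t : T, ∃ z : ℤ, (z : ℚ) = m * φ (a t) := by
      intro t
      refine ⟨(∏ s ∈ Finset.univ.erase t, ((φ (a s)).den : ℤ)) * (φ (a t)).num, ?_⟩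
      rw [hm, ← Finset.mul_prod_erase _ _ (Finset.mem_univ t), Nat.cast_mul, mul_right_comm,
        mul_comm ((φ (a t)).den : ℚ), Rat.mul_den_eq_num]
      push_cast
      ring
    choose z hz using hz
    have hint : ∀ x : H, ∑ t, z t * (N t x : ℤ) = if x = 1 then (m : ℤ) else 0 := by
      intro x
      have : ((∑ t, z t * (N t x : ℤ) : ℤ) : ℚ) = ((if x = 1 then (m : ℤ) else 0 : ℤ) : ℚ) := by
        push_cast
        simp only [hz, mul_assoc, ← Finset.mul_sum, hrat]
        split_ifs <;> simp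
      exact_mod_cast this
    obtain ⟨σ, hσ⟩ := exists_lift hq ρ m
    haveI : NeZero (q ^ (m + 1)) := ⟨pow_ne_zero _ (Nat.Prime.ne_zero Fact.out)⟩
    set R := ZMod (q ^ (m + 1))
    let s : H → Matrix (Fin d) (Fin d) R := fun x => (σ x : Matrix (Fin d) (Fin d) R)
    have hNc : ∀ t : T, ∑ x, (N t x : R) • s x = 0 := by
      rintro ⟨g, ⟨c, hc⟩, h⟩
      show ∑ x, ((∑ i ∈ Finset.range (orderOf c), if g * c ^ i * h = x then (1 : ℕ) else 0 : ℕ) : R) • s x = 0
      rw [show (∑ x, ((∑ i ∈ Finset.range (orderOf c), if g * c ^ i * h = x then (1 : ℕ) else 0 : ℕ) : R) • s x) =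
          ∑ x, ∑ i ∈ Finset.range (orderOf c), if g * c ^ i * h = x then s x else 0 from
        Finset.sum_congr rfl fun x _ => by simp [Finset.sum_ite, Nat.cast_smul_eq_nsmul]]
      rw [Finset.sum_comm]
      simp only [Finset.sum_ite_eq, Finset.mem_univ, if_true, s, map_mul, Units.val_mul, map_pow,
        Units.val_pow_eq_pow_val]
      rw [← Finset.sum_mul, ← Finset.mul_sum]
      set A := (σ c : Matrix (Fin d) (Fin d) R) with hA
      have hsum : ∑ i ∈ Finset.range (orderOf c), A ^ i = 0 := by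
        have h3 : A * ∑ i ∈ Finset.range (orderOf c), A ^ i = ∑ i ∈ Finset.range (orderOf c), A ^ i := by
          rw [← sub_eq_zero, ← sub_one_mul, mul_geom_sum, hA, ← Units.val_pow_eq_pow_val, ← map_pow,
            pow_orderOf_eq_one, map_one, Units.val_one, sub_self]
        ext i j
        have h4 := lift_fixed_eq_zero A _ (congrArg Units.val (hσ c))
          (hρ c (fun e => hc.ne_one (by rw [e, orderOf_one])))
          (fun i => (∑ i ∈ Finset.range (orderOf c), A ^ i) i j)
          (funext fun i => congrFun (congrFun h3 i) j)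
        exact congrFun h4 i
      rw [hsum, mul_zero, zero_mul]
    have hm1 : (m : R) • s 1 = 0 := by
      have e : ∑ x, (((∑ t, z t * (N t x : ℤ) : ℤ) : R) • s x) = 0 := by
        push_cast

        rw [show (∑ x, ((((∑ t, z t * (N t x : ℤ) : ℤ)) : R) • s x)) =
            ∑ x, ∑ t, (z t : R) • ((N t x : R) • s x) from
          Finset.sum_congr rfl fun x _ => by rw [show ((∑ t, z t * (N t x : ℤ) : ℤ) : R) = ∑ t, (z t : R) * (N t x : R) from map_sum (Int.castRingHom R) _ _ |>.trans (Finset.sum_congr rfl fun t _ => by simp), Finset.sum_smul]; exact Finset.sum_congr rfl fun t _ => mul_smul _ _ _]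
        rw [Finset.sum_comm]
        refine Finset.sum_eq_zero fun t _ => ?_
        rw [← Finset.smul_sum, hNc, smul_zero]
      rw [← e]
      simp [hint]
    have hmR : (m : R) = 0 := by
      have := congrFun (congrFun hm1 ⟨0, hd⟩) ⟨0, hd⟩
      simpa [s] using this
    rw [ZMod.natCast_eq_zero_iff] at hmR
    have h5 := Nat.le_of_dvd (Nat.pos_of_ne_zero hm0) hmR
    have h6 := Nat.lt_pow_self (n := m + 1) (Nat.Prime.one_lt (Fact.out : q.Prime))
    omega
  · intro g f hf
    induction hf using Submodule.span_induction with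
    | mem f hf =>
      obtain ⟨⟨a, ⟨c, hc⟩, h⟩, rfl⟩ := hf
      convert hgen (g * a) c h hc using 1
      funext x
      simp only [F, normFun]
      refine Finset.sum_congr rfl fun i _ => ?_
      simp [eq_inv_mul_iff_mul_eq, mul_assoc]
    | zero => exact S.zero_mem
    | add u v _ _ hu hv => exact S.add_mem hu hv
    | smul r u _ hu => exact S.smul_mem r hu
  · intro c hc f hf
    have hstep : ∀ g : H, ∀ u ∈ S, (fun x => u (g⁻¹ * x)) ∈ S := by
      intro g u hu
      induction hu using Submodule.span_induction with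
      | mem u hu =>
        obtain ⟨⟨a, ⟨c, hc⟩, h⟩, rfl⟩ := hu
        convert hgen (g * a) c h hc using 1
        funext x
        simp only [F, normFun]
        refine Finset.sum_congr rfl fun i _ => ?_
        simp [eq_inv_mul_iff_mul_eq, mul_assoc]
      | zero => exact S.zero_mem
      | add u v _ _ hu hv => exact S.add_mem hu hv
      | smul r u _ hu => exact S.smul_mem r hu
    have hpow : ∀ i : ℕ, (fun x => f ((c ^ i)⁻¹ * x)) - f ∈ S := by
      intro i
      induction i with
      | zero => simp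
      | succ i ih =>
        have h2 := S.add_mem (hstep (c ^ i) _ hf) ih
        convert h2 using 1
        funext x
        simp [pow_succ, mul_assoc]
    have htot : (∑ i ∈ Finset.range (orderOf c), fun x => f ((c ^ i)⁻¹ * x)) ∈ S := by
      have e : (∑ i ∈ Finset.range (orderOf c), fun x => f ((c ^ i)⁻¹ * x)) =
          ∑ y, f y • normFun K 1 c y := by
        funext x
        simp only [Finset.sum_apply, Pi.smul_apply, smul_eq_mul, normFun, Finset.mul_sum, mul_ite,
          mul_one, mul_zero, one_mul]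
        rw [Finset.sum_comm]
        refine Finset.sum_congr rfl fun i _ => ?_
        rw [Finset.sum_eq_single ((c ^ i)⁻¹ * x)]
        · rw [if_pos (mul_inv_cancel_left _ _)]
        · intro y _ hy; rw [if_neg fun e => hy (by rw [← e, inv_mul_cancel_left])]
        · intro h; exact absurd (Finset.mem_univ _) h
      rw [e]
      exact S.sum_mem fun y _ => S.smul_mem _ (hgen 1 c y hc)
    have h3 := S.sub_mem htot (S.sum_mem fun i (_ : i ∈ Finset.range (orderOf c)) => hpow i)
    rw [← Finset.sum_sub_distrib] at h3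
    simp only [sub_sub_cancel, Finset.sum_const, Finset.card_range] at h3
    rw [← Nat.cast_smul_eq_nsmul K] at h3
    exact (S.smul_mem_iff (Nat.cast_ne_zero.mpr hc.ne_zero)).mp h3

/-- Let G be a finite group that occurs as a Frobenius complement. Then G has a faithful irreducible representation over an algebraic closure of the rationals in which no non-identity element of G has 1 as an eigenvalue: there are n ≥ 1 and an injective homomorphism ρ from G to GL(n) over that field, with no invariant subspace other than 0 and the whole space, such that for g ≠ 1 the only vector fixed by ρ(g) is 0. -/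
theorem result {G : Type*} [Group G] [Finite G]
    (hFC : ∃ (L : Type) (_ : Group L) (_ : Finite L) (H : Subgroup L), Cfsg.IsFrobeniusComplement H ∧ Nonempty (G ≃* H)) :
    ∃ (n : ℕ) (ρ : G →* GL (Fin n) (AlgebraicClosure ℚ)), 0 < n ∧ Function.Injective ρ ∧
      (∀ W : Submodule (AlgebraicClosure ℚ) (Fin n → AlgebraicClosure ℚ),
        (∀ g : G, ∀ w ∈ W, ((ρ g : GL (Fin n) (AlgebraicClosure ℚ)) : Matrix (Fin n) (Fin n) (AlgebraicClosure ℚ)).mulVec w ∈ W) → W = ⊥ ∨ W = ⊤) ∧
      ∀ g : G, g ≠ 1 → ∀ v : Fin n → AlgebraicClosure ℚ,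
        ((ρ g : GL (Fin n) (AlgebraicClosure ℚ)) : Matrix (Fin n) (Fin n) (AlgebraicClosure ℚ)).mulVec v = v → v = 0 := by
  classical
  obtain ⟨L, _, _, H, hH, ⟨e⟩⟩ := hFC
  obtain ⟨q, d, hq, ρ₀, hd, hqH, hρ₀⟩ := exists_fpf_modular H hH
  have hqG : ¬ q ∣ Nat.card G := by rwa [Nat.card_congr e.toEquiv]
  let K := AlgebraicClosure ℚ
  obtain ⟨S, hS, hSinv, hSfix⟩ := exists_fpf_module (H := G) K q d hd hqG (ρ₀.comp e.toMonoidHom)
    (fun h h1 => hρ₀ (e h) (fun he => h1 (e.map_eq_one_iff.mp he)))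
  let Lt : G →* Module.End K (G → K) :=
    { toFun := fun g => LinearMap.funLeft K K (fun x => g⁻¹ * x)
      map_one' := by ext f x; simp [LinearMap.funLeft]
      map_mul' := fun g h => by ext f x; simp [LinearMap.funLeft, mul_assoc] }
  let W₀ : G →* Module.End K ((G → K) ⧸ S) :=
    { toFun := fun g => S.mapQ S (Lt g) (fun f hf => hSinv g f hf)
      map_one' := by ext f; simp
      map_mul' := fun g h => by
        refine LinearMap.ext fun w => ?_
        obtain ⟨f, rfl⟩ := Submodule.Quotient.mk_surjective S w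
        show Submodule.Quotient.mk ((Lt (g * h)) f) = Submodule.Quotient.mk ((Lt g) ((Lt h) f))
        rw [map_mul]
        rfl }
  have hfix : ∀ g : G, g ≠ 1 → ∀ w, W₀ g w = w → w = 0 := by
    intro g hg w hw
    obtain ⟨f, rfl⟩ := Submodule.Quotient.mk_surjective S w
    obtain ⟨r, hr, hrd⟩ := Nat.exists_prime_and_dvd (n := orderOf g) (fun h => hg (orderOf_eq_one_iff.mp h))
    set c := g ^ (orderOf g / r) with hc
    have hco : orderOf c = r := by
      rw [hc]; exact orderOf_pow_orderOf_div (orderOf_pos g).ne' hrd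
    have hcw : W₀ c (Submodule.Quotient.mk f) = Submodule.Quotient.mk f := by
      rw [hc, map_pow]
      clear hco hc c
      induction orderOf g / r with
      | zero => simp
      | succ i ih => rw [pow_succ, Module.End.mul_apply, hw, ih]
    rw [Submodule.Quotient.mk_eq_zero]
    exact hSfix c (hco ▸ hr) f ((Submodule.Quotient.eq S).mp hcw)
  haveI : Nontrivial ((G → K) ⧸ S) := Submodule.Quotient.nontrivial_iff.mpr hS
  obtain ⟨M, ⟨hM0, hMinv⟩, hMmin⟩ := exists_minimal_of_wellFoundedLT
    (fun M : Submodule K ((G → K) ⧸ S) => M ≠ ⊥ ∧ ∀ g, ∀ w ∈ M, W₀ g w ∈ M)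
    ⟨⊤, top_ne_bot, fun _ _ _ => Submodule.mem_top⟩
  let b := Module.finBasis K M
  let act : G →* Module.End K M :=
    { toFun := fun g => (W₀ g).restrict (hMinv g)
      map_one' := by ext w; simp
      map_mul' := fun g h => by ext w; simp }
  let ρ : G →* GL (Fin (Module.finrank K M)) K :=
    ((LinearMap.toMatrixAlgEquiv b).toMonoidHom.comp act).toHomUnits
  have hρ : ∀ (g : G) (v : Fin (Module.finrank K M) → K),
      ((ρ g : GL (Fin (Module.finrank K M)) K) : Matrix _ _ K) *ᵥ v = b.equivFun (act g (b.equivFun.symm v)) := by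
    intro g v
    have := LinearMap.toMatrix_mulVec_repr b b (act g) (b.equivFun.symm v)
    simp only [← Module.Basis.equivFun_apply, LinearEquiv.apply_symm_apply] at this
    exact this
  haveI : Nontrivial M := Submodule.nontrivial_iff_ne_bot.mpr hM0
  have hfixρ : ∀ g : G, g ≠ 1 → ∀ v : Fin (Module.finrank K M) → K,
      ((ρ g : GL (Fin (Module.finrank K M)) K) : Matrix _ _ K) *ᵥ v = v → v = 0 := by
    intro g hg v hv
    rw [hρ] at hv
    have h1 := hfix g hg ((b.equivFun.symm v : M) : (G → K) ⧸ S)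
      (congrArg Subtype.val (b.equivFun.injective (a₁ := act g (b.equivFun.symm v)) (by
        rw [hv, LinearEquiv.apply_symm_apply])))
    have h2 : b.equivFun.symm v = 0 := Subtype.ext h1
    rw [← b.equivFun.apply_symm_apply v, h2, map_zero]
  refine ⟨Module.finrank K M, ρ, Module.finrank_pos, ?_, ?_, hfixρ⟩
  · refine (injective_iff_map_eq_one ρ).mpr fun g hg => ?_
    by_contra h1
    haveI : Nonempty (Fin (Module.finrank K M)) := ⟨⟨0, Module.finrank_pos⟩⟩
    obtain ⟨v, hv⟩ := exists_ne (0 : Fin (Module.finrank K M) → K)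
    refine hv (hfixρ g h1 v ?_)
    rw [hg, Units.val_one, Matrix.one_mulVec]
  · intro W hW
    let W' : Submodule K ((G → K) ⧸ S) := W.map (M.subtype ∘ₗ b.equivFun.symm.toLinearMap)
    by_cases h0 : W = ⊥
    · exact Or.inl h0
    right
    have hle : W' ≤ M := by rintro _ ⟨w, -, rfl⟩; exact (b.equivFun.symm w).2
    have hne : W' ≠ ⊥ := by
      obtain ⟨w, hw, hw0⟩ := (Submodule.ne_bot_iff W).mp h0
      refine (Submodule.ne_bot_iff W').mpr ⟨_, ⟨w, hw, rfl⟩, fun h => hw0 ?_⟩
      have h2 : b.equivFun.symm w = 0 := Subtype.ext h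
      rw [← b.equivFun.apply_symm_apply w, h2, map_zero]
    have hinv : ∀ g, ∀ u ∈ W', W₀ g u ∈ W' := by
      rintro g _ ⟨w, hw, rfl⟩
      refine ⟨_, hW g w hw, ?_⟩
      show ((b.equivFun.symm (((ρ g : GL (Fin (Module.finrank K M)) K) : Matrix _ _ K) *ᵥ w) : M) : (G → K) ⧸ S) = _
      rw [hρ, LinearEquiv.symm_apply_apply]
      rfl
    refine eq_top_iff.mpr fun v _ => ?_
    obtain ⟨w, hw, hwv⟩ := hMmin ⟨hne, hinv⟩ hle (b.equivFun.symm v).2
    rwa [← b.equivFun.symm.injective (Subtype.ext hwv)]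

end Cfsg.Agent.S3357
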