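import Cfsg.Statements.S0185
import Cfsg.Agent.Lib.Characters.Counting
import Cfsg.Agent.Lib.Characters.Integrality
-- import your own Cfsg.Agent.* helpers here

set_option autoImplicit false
open Cfsg

namespace Cfsg.Agent.S0185

/-- If a finite group has a faithful complex representation of degree less than the smallest prime dividing its order, the group is abelian. -/
theorem result {G : Type*} [Group G] [Finite G] {V : Type*} [AddCommGroup V] [Module ℂ V] [FiniteDimensional ℂ V] (ρ : Representation ℂ G V) (hfaithful : Function.Injective ρ) (hdeg : ∀ p : ℕ, p.Prime → p ∣ Nat.card G → Module.finrank ℂ V < p) (a b : G) : a * b = b * a := by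
  classical
  haveI := Fintype.ofFinite G
  haveI := Fintype.ofFinite (Cfsg.IrrCharacter G)
  set c := a * b * a⁻¹ * b⁻¹
  have hexp := Characters.classFun_eq_sum (Characters.rep_isClassFunction ρ)
  have hval : ρ.character c = ρ.character 1 := by
    rw [hexp]
    simp only [Finset.sum_apply, Pi.smul_apply, smul_eq_mul]
    refine Finset.sum_congr rfl fun χ _ => ?_
    by_cases h0 : Cfsg.classInner ρ.character (χ : G → ℂ) = 0
    · rw [h0, zero_mul, zero_mul]
    congr 1
    obtain ⟨d, hd, hdpos, hdvd⟩ := Characters.irr_degree_dvd_card χ.2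
    have hle := Characters.irr_degree_le (Characters.isCharacter_character ρ) χ.2 h0
    rw [hd, ρ.char_one, Complex.natCast_re, Complex.natCast_re] at hle
    have hle' : d ≤ Module.finrank ℂ V := by exact_mod_cast hle
    have hd1 : (χ : G → ℂ) 1 = 1 := by
      rw [hd]
      rcases eq_or_ne d 1 with h | h
      · rw [h, Nat.cast_one]
      · have hp := hdeg _ (Nat.minFac_prime h) (d.minFac_dvd.trans hdvd)
        have := Nat.minFac_le hdpos
        omega
    have hlam := Characters.linearOfDegreeOne_apply (Characters.irr_isCharacter χ) hd1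
    rw [← hlam, ← hlam, map_one]
    congr 1
    simp [c, mul_comm]
  have h := hfaithful ((Characters.rep_apply_eq_id_of_char_eq ρ c (hval.trans ρ.char_one)).trans
    (by rw [map_one]; rfl : (LinearMap.id : V →ₗ[ℂ] V) = ρ 1))
  rwa [mul_inv_eq_one, mul_inv_eq_iff_eq_mul] at h

end Cfsg.Agent.S0185
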