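import Cfsg.Statements.S0899
import Cfsg.Agent.Lib.CharTheory.SmallDegreeSylow

set_option autoImplicit false
open Cfsg

namespace Cfsg.Agent.S0899

/-- Let G be a finite group with a faithful complex representation of degree n (on Fin n → ℂ) and p a prime. Suppose either that (n + 1) ^ 2 ≤ p, or that n + 1 < p and every subgroup of G whose order is not divisible by p ^ 2 has a normal Sylow p-subgroup. Then every Sylow p-subgroup of G is normal. -/
theorem result {G : Type*} [Group G] [Finite G] (n : ℕ) (ρ : Representation ℂ G (Fin n → ℂ)) (hρ : Function.Injective ρ) (p : ℕ) [Fact p.Prime] (h : (n + 1) ^ 2 ≤ p ∨ (n + 1 < p ∧ ∀ K : Subgroup G, ¬ p ^ 2 ∣ Nat.card K → ∀ Q : Sylow p K, (Q : Subgroup K).Normal)) (P : Sylow p G) : (P : Subgroup G).Normal := by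
  rcases Nat.eq_zero_or_pos n with rfl | hn
  · haveI : Subsingleton G := ⟨fun a b => hρ (LinearMap.ext fun v => Subsingleton.elim _ _)⟩
    exact ⟨fun x hx g => by rwa [Subsingleton.elim (g * x * g⁻¹) x]⟩
  refine CharTheory.SmallDegreeSylow.main p (Nat.card G) le_rfl n ρ hρ ?_ ?_ P
  · rcases h with h | ⟨h, -⟩
    · have : 2 * (n + 1) ≤ (n + 1) ^ 2 := by
        rw [pow_two]; exact Nat.mul_le_mul_right _ (by omega)
      omega
    · exact h
  · exact h.imp_right fun h' => h'.2

end Cfsg.Agent.S0899
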