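import Cfsg.Statements.S4607
import Cfsg.Agent.BlockCharsA.Contrib
import Cfsg.Agent.Lib.Blocks.DefectCenter
import Cfsg.Agent.S4494
import Cfsg.Agent.BlockCharsA.TwoChars.Lift

set_option autoImplicit false
open Cfsg

namespace Cfsg.Agent.S4607

open Cfsg.Agent.Blocks Cfsg.Agent.Characters Cfsg.Agent.BlockCharsA
open Cfsg.Agent.BlockCharsA.RegularPart
open scoped ComplexConjugate

universe u

variable {G : Type u} [Group G] [Finite G] {p : ℕ} {M : Ideal Cfsg.AlgInt}

/-- The contribution of a character of height zero to itself is a unit. -/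
theorem contrib_unit (hM : Cfsg.IsPModular p M) {B : Set (Cfsg.IrrCharacter G)}
    (hB : Cfsg.IsPBlock M B) {χ : Cfsg.IrrCharacter G} (hχ : χ ∈ B)
    (h0 : Cfsg.blockHeight p B (χ : G → ℂ) = 0) {z : ℤ}
    (hz : Contrib.contrib p B χ χ = (z : ℂ)) : ¬ (p : ℤ) ∣ z := by
  classical
  haveI := Fintype.ofFinite G
  set a := (Nat.card G).factorization p with ha
  set d := Cfsg.blockDefect p B with hd
  have hu : ¬ Cfsg.MemLocalIdeal M
      (((Cfsg.charDegree (χ : G → ℂ) : ℕ) : ℂ) / ((p ^ (a - d) : ℕ) : ℂ)) :=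
    not_ideal_natCast_div hM (charDegree_pos χ).ne' (pow_ne_zero _ hM.1.ne_zero) (by
      rw [hM.1.factorization_pow, Finsupp.single_eq_same]
      have := degree_factorization_eq hM hB hχ
      omega)
  obtain ⟨w, hw, hw', -⟩ := exists_coeff hM χ χ
  rw [Contrib.classInner_hat_regSum, hw'] at hw
  have hpa : ((p ^ a : ℕ) : ℂ) = ((p ^ d : ℕ) : ℂ) * ((p ^ (a - d) : ℕ) : ℂ) := by
    rw [← Nat.cast_mul, ← pow_add, Nat.add_sub_cancel' (blockDefect_le p B)]
  rw [← ha, hpa] at hw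
  have hzr : (z : ℂ) = ((Cfsg.charDegree (χ : G → ℂ) : ℕ) : ℂ) / ((p ^ (a - d) : ℕ) : ℂ) *
      ratio p (χ : G → ℂ) (χ : G → ℂ) := by
    rw [← hz, Contrib.contrib, div_mul_eq_mul_div _ ((p ^ (a - d) : ℕ) : ℂ), ← hw,
      eq_div_iff (natCast_p_pow_ne_zero hM _)]
    ring
  intro hp
  have h := (ideal_intCast_iff hM z).2 hp
  rw [hzr] at h
  exact (((ideal_mul_iff hM
    (ring_natCast_div hM (pow_ne_zero _ hM.1.ne_zero) (by
      rw [hM.1.factorization_pow, Finsupp.single_eq_same]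
      have := degree_factorization_eq hM hB hχ
      omega))
    (ratio_ring hM χ χ)).1 h).elim hu ((ratio_unit_iff hM hB hχ hχ).2 h0))

/-- In a block with two characters and positive defect they agree on regular elements. -/
theorem eq_on_regular (hM : Cfsg.IsPModular p M) {B : Set (Cfsg.IrrCharacter G)}
    (hB : Cfsg.IsPBlock M B) {χ₁ χ₂ : Cfsg.IrrCharacter G} (hne : χ₁ ≠ χ₂) (hB2 : B = {χ₁, χ₂})
    (hd : Cfsg.blockDefect p B ≠ 0) {x : G} (hx : ¬ p ∣ orderOf x) :
    (χ₁ : G → ℂ) x = (χ₂ : G → ℂ) x := by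
  have h₁ : χ₁ ∈ B := hB2 ▸ Set.mem_insert _ _
  obtain ⟨s, hs, hs0⟩ : ∃ s : G, orderOf s = p ∧ (χ₁ : G → ℂ) s ≠ 0 := by
    by_contra hno
    push Not at hno
    apply hd
    rw [block_eq_blockOf hM hB h₁]
    exact blockDefect_zero_of_vanish hM χ₁ hno
  have h := sum_block_reg_sing hM (intEl_blockIdem hM hB) hx (dvd_of_eq hs.symm)
  rw [hB2, finsum_mem_pair hne] at h
  have hneg : (χ₂ : G → ℂ) s = -(χ₁ : G → ℂ) s :=
    eq_neg_of_add_eq_zero_right (TwoChars.sum_vanish hM hB hne hB2 (dvd_of_eq hs.symm))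
  rw [hneg, map_neg, mul_neg, ← sub_eq_add_neg, ← sub_mul] at h
  exact sub_eq_zero.1 ((mul_eq_zero.1 h).resolve_right ((map_ne_zero _).2 hs0))

/-- Let G be a finite group, p a prime, M a maximal ideal of the algebraic integers containing p, and B a p-block of G with defect group D. Then B contains exactly two irreducible characters if and only if D has order 2. -/
theorem result {G : Type*} [Group G] [Finite G] (p : ℕ) [Fact p.Prime] (M : Ideal Cfsg.AlgInt) (hM : Cfsg.IsPModular p M) (B : Set (Cfsg.IrrCharacter G)) (hB : Cfsg.IsPBlock M B) (D : Subgroup G) (hD : Cfsg.IsDefectGroup p M B D) : Nat.card B = 2 ↔ Nat.card D = 2 := by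
  classical
  obtain ⟨z, hz, -, -, -, -, hpos, hsq, -⟩ := Contrib.exists_matrix hM hB
  have hcard := card_defectGroup hM hB hD
  have hp2 := hM.1.two_le
  constructor
  · intro hk
    obtain ⟨χ₁, χ₂, hne, hB2⟩ := Set.ncard_eq_two.1 ((Nat.card_coe_set_eq B).symm.trans hk)
    have h₁ : χ₁ ∈ B := hB2 ▸ Set.mem_insert _ _
    have h₂ : χ₂ ∈ B := hB2 ▸ Set.mem_insert_of_mem _ rfl
    have hd : Cfsg.blockDefect p B ≠ 0 := by
      intro hd
      have := S4494.result p M hM B hB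
      rw [hk, hd, Nat.mul_zero, pow_zero] at this
      omega
    have heq : ∀ x : G, ¬ p ∣ orderOf x → (χ₁ : G → ℂ) x = (χ₂ : G → ℂ) x := fun x hx =>
      eq_on_regular hM hB hne hB2 hd hx
    have hdeg : Cfsg.charDegree (χ₁ : G → ℂ) = Cfsg.charDegree (χ₂ : G → ℂ) := by
      have h := heq 1 (by simpa using hM.1.ne_one)
      rw [← charDegree_cast χ₁, ← charDegree_cast χ₂] at h
      exact_mod_cast h
    have h0 : Cfsg.blockHeight p B (χ₁ : G → ℂ) = 0 := by
      obtain ⟨χ, hχ, hχ0⟩ := exists_height_zero hM hB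
      have e1 := degree_factorization_eq hM hB h₁
      have e2 := degree_factorization_eq hM hB hχ
      rw [hB2] at hχ
      rcases hχ with rfl | hχ
      · exact hχ0
      · rw [Set.mem_singleton_iff] at hχ
        subst hχ
        rw [hdeg] at e1
        omega
    have hu := contrib_unit hM hB h₁ h0 (hz χ₁ h₁ χ₁ h₁)
    have h12 : z χ₁ χ₂ = z χ₁ χ₁ := by
      haveI := Fintype.ofFinite G
      have h : (z χ₁ χ₂ : ℂ) = (z χ₁ χ₁ : ℂ) := by
        rw [← hz χ₁ h₁ χ₂ h₂, ← hz χ₁ h₁ χ₁ h₁, Contrib.contrib, Contrib.contrib, regSum_eq_sum,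
          regSum_eq_sum]
        congr 1
        refine Finset.sum_congr rfl fun x _ => ?_
        split
        · rw [heq x ‹_›]
        · rfl
      exact_mod_cast h
    have h2 := hsq χ₁ h₁
    rw [finsum_mem_congr hB2 (fun θ _ => rfl), finsum_mem_pair hne, h12] at h2
    have h3 : (2 : ℤ) * z χ₁ χ₁ = (p : ℤ) ^ Cfsg.blockDefect p B := by
      have := hpos χ₁ h₁
      nlinarith
    obtain ⟨d, hd'⟩ : ∃ d, Cfsg.blockDefect p B = d + 1 := ⟨_, (Nat.succ_pred hd).symm⟩
    rw [hd', pow_succ] at h3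
    have hpz : Prime (p : ℤ) := Nat.prime_iff_prime_int.1 hM.1
    have hdvd : (p : ℤ) ∣ 2 := (hpz.dvd_or_dvd ⟨(p : ℤ) ^ d, by rw [h3, mul_comm]⟩).resolve_right hu
    have hp : p = 2 := by
      have := Int.le_of_dvd two_pos hdvd
      omega
    subst hp
    rcases d with - | d
    · rw [hcard, hd']; rfl
    · refine absurd ⟨(2 : ℤ) ^ d, ?_⟩ hu
      push_cast at h3
      rw [pow_succ] at h3
      push_cast
      linarith
  · intro hD2
    rw [hcard] at hD2
    have hd : Cfsg.blockDefect p B = 1 ∧ p = 2 := by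
      have h1 : (2 : ℕ).Prime := Nat.prime_two
      rw [← hD2] at h1
      have hd1 : Cfsg.blockDefect p B = 1 := Nat.Prime.eq_one_of_pow h1
      rw [hd1, pow_one] at hD2
      exact ⟨hd1, hD2⟩
    have hk := S4494.result p M hM B hB
    rw [hd.1, hd.2] at hk
    obtain ⟨χ, hχ, hχ0⟩ := exists_height_zero hM hB
    have hne : Nat.card B ≠ 0 := Nat.card_ne_zero.2 ⟨⟨⟨χ, hχ⟩⟩, inferInstance⟩
    have h1 : Nat.card B ≠ 1 := by
      intro h1
      obtain ⟨θ, hθ⟩ := Set.ncard_eq_one.1 ((Nat.card_coe_set_eq B).symm.trans h1)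
      have hχθ : χ = θ := by rw [hθ] at hχ; exact hχ
      subst hχθ
      have h2 := hsq χ hχ
      rw [finsum_mem_congr hθ (fun θ _ => rfl), finsum_mem_singleton, hd.1, pow_one] at h2
      refine contrib_unit hM hB hχ hχ0 (hz χ hχ χ hχ) ⟨1, ?_⟩
      have := hpos χ hχ
      nlinarith
    omega

end Cfsg.Agent.S4607
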