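import Cfsg.Statements.S4648
import Cfsg.Agent.BlockCharsA.RankOneSmall.Lift
import Cfsg.Agent.Lib.Blocks.KleinFourBlock

set_option autoImplicit false
open Cfsg

namespace Cfsg.Agent.S4648

open Cfsg.Agent.Blocks Cfsg.Agent.Characters Cfsg.Agent.BlockCharsA
open Cfsg.Agent.BlockCharsA.BrauerPairs Cfsg.Agent.BlockCharsA.PairStab
open Cfsg.Agent.BlockCharsA.PairMax Cfsg.Agent.BlockCharsA.PairConj
open Cfsg.Agent.BlockCharsA.PairLocal Cfsg.Agent.BlockCharsA.PairFusion
open Cfsg.Agent.BlockCharsA.PairCorr Cfsg.Agent.BlockCharsA.PairReceptive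

universe u

variable {G : Type u} [Group G] [Finite G] {p : ℕ} {M : Ideal Cfsg.AlgInt}
  {B : Set (Cfsg.IrrCharacter G)} {P : Subgroup G}
  {c : Set (Cfsg.IrrCharacter (Subgroup.centralizer (P : Set G)))}

/-- An automorphism of order dividing `p` induced by the inertial group is trivial. -/
theorem mem_centralizer_of_pow (hM : Cfsg.IsPModular p M)
    (hmax : Cfsg.IsMaximalBrauerPair p M B P c) (hab : ∀ x ∈ P, ∀ y ∈ P, x * y = y * x)
    (w : stab P c) (h : autHom P c w ^ p = 1) : (w : G) ∈ Subgroup.centralizer (P : Set G) := by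
  haveI := fact_prime_of_pm hM
  have hS := isBlockFusion_blockSystem hM hmax
  refine PairNilpotent.mem_centralizer_of_autHom
    (Fusion.Abelian.eq_one_of_pow (k := 1) hmax.1.1.1 (isSaturated hM hS) hab
      ((autGroup_eq hM hS Relation.ReflTransGen.refl).ge ⟨_, rfl⟩) ?_)
  rwa [pow_one]

/-- In a cyclic group of order dividing four every automorphism is an involution. -/
theorem sq_eq_one_of_cyclic {V : Type*} [Group V] [IsCyclic V] (hV : Nat.card V = 2 ∨ Nat.card V = 4)
    (α : MulAut V) : α ^ 2 = 1 := by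
  obtain ⟨g, hg⟩ := IsCyclic.exists_generator (α := V)
  obtain ⟨r, hr⟩ := hg (α g)
  simp only at hr
  have hg4 : g ^ (4 : ℤ) = 1 := by
    rw [show (4 : ℤ) = ((4 : ℕ) : ℤ) from rfl, zpow_natCast, ← orderOf_dvd_iff_pow_eq_one,
      orderOf_eq_card_of_forall_mem_zpowers hg]
    rcases hV with h | h <;> simp [h]
  have hfix : α (α g) = g := by
    rw [← hr, map_zpow, ← hr, ← zpow_mul]
    rcases Int.even_or_odd r with ⟨a, rfl⟩ | ⟨a, rfl⟩
    · have h1 : α g ^ (2 : ℤ) = 1 := by
        rw [← hr, ← zpow_mul, show (a + a) * 2 = 4 * a by ring, zpow_mul, hg4, one_zpow]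
      rw [← map_zpow] at h1
      have h2 : g ^ (2 : ℤ) = 1 := α.injective (by rw [h1, map_one])
      have h3 : α g = 1 := by
        rw [← hr, show a + a = 2 * a by ring, zpow_mul, h2, one_zpow]
      have h4 : g = 1 := α.injective (by rw [h3, map_one])
      simp [h4]
    · rw [show (2 * a + 1) * (2 * a + 1) = 4 * (a * a + a) + 1 by ring, zpow_add_one, zpow_mul,
        hg4, one_zpow, one_mul]
  refine MulEquiv.ext fun x => ?_
  obtain ⟨m, rfl⟩ := hg x
  show α (α (g ^ m)) = g ^ m
  rw [map_zpow, map_zpow, hfix]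

/-- A block of rank one with three characters and a defect group of order three is nilpotent. -/
theorem mem_centralizer_three (hM : Cfsg.IsPModular p M)
    (hmax : Cfsg.IsMaximalBrauerPair p M B P c) (hab : ∀ x ∈ P, ∀ y ∈ P, x * y = y * x)
    (hP : Nat.card P = 3) (hk : Nat.card B = 3) (hl : Cfsg.blockRank p B = 1) {w : G}
    (hw : w ∈ stab P c) : w ∈ Subgroup.centralizer (P : Set G) := by
  classical
  haveI := fact_prime_of_pm hM
  haveI := Fintype.ofFinite G
  haveI := Fintype.ofFinite P
  by_contra hwC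
  haveI : IsCyclic P := isCyclic_of_prime_card (p := 3) hP
  obtain ⟨t, ht⟩ : ∃ t : P, t ≠ 1 := by
    haveI : Nontrivial P := Finite.one_lt_card_iff_nontrivial.1 (by omega)
    exact exists_ne 1
  have hgen : ∀ s : P, s = 1 ∨ s = t ∨ s = t⁻¹ := by
    intro s
    obtain ⟨n, rfl⟩ := Submonoid.mem_powers_iff _ _ |>.1
      (mem_powers_of_prime_card (p := 3) hP (g' := s) ht)
    have h3 : t ^ 3 = 1 := by rw [← hP]; exact pow_card_eq_one'
    rw [pow_eq_pow_mod n h3]
    have := Nat.mod_lt n (show 0 < 3 by omega)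
    interval_cases n % 3
    · exact Or.inl (pow_zero t)
    · exact Or.inr (Or.inl (pow_one t))
    · exact Or.inr (Or.inr (eq_inv_of_mul_eq_one_left (by rw [← pow_succ, h3])))
  set α := autHom P c ⟨w, hw⟩ with hα
  have hfix : ∀ x : stab P c, autHom P c x t = t → (x : G) ∈ Subgroup.centralizer (P : Set G) := by
    intro x hx q hq
    have h : autHom P c x ⟨q, hq⟩ = ⟨q, hq⟩ := by
      rcases hgen ⟨q, hq⟩ with h | h | h <;> rw [h]
      · exact map_one _
      · exact hx
      · rw [map_inv, hx]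
    have h1 := congrArg Subtype.val h
    rw [coe_autHom] at h1
    exact (mul_inv_eq_iff_eq_mul.1 h1).symm
  have hαt : α t = t⁻¹ := by
    rcases hgen (α t) with h | h | h
    · exact absurd (α.injective (h.trans (map_one α).symm)) ht
    · exact absurd (hfix ⟨w, hw⟩ h) hwC
    · exact h
  have hex : ∀ s : P, ∃ f, Cfsg.SubpairLE p M (Subgroup.zpowers (s : G)) f P c := fun s => by
    obtain ⟨f, -, hf⟩ :=
      exists_subpair hM _ (Subgroup.zpowers (s : G)) P c rfl hmax.1.1 (Subgroup.zpowers_le.2 s.2)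
    exact ⟨f, hf⟩
  choose f hf using hex
  set R : Finset P := {1, t}
  have hcov : ∀ s : P, ∃ r ∈ R, ∃ v ∈ stab P c, v * (r : G) * v⁻¹ = (s : G) := by
    intro s
    rcases hgen s with rfl | rfl | rfl
    · exact ⟨1, by simp [R], 1, Subgroup.one_mem _, by simp⟩
    · exact ⟨s, by simp [R], 1, Subgroup.one_mem _, by simp⟩
    · refine ⟨t, by simp [R], w, hw, ?_⟩
      rw [← hαt]
      exact (coe_autHom (⟨w, hw⟩ : stab P c) t).symm
  have hsep : ∀ r ∈ R, ∀ r' ∈ R, ∀ v ∈ stab P c, v * (r : G) * v⁻¹ = (r' : G) → r = r' := by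
    intro r hr r' hr' v _ h
    simp only [R, Finset.mem_insert, Finset.mem_singleton] at hr hr'
    rcases hr with rfl | rfl <;> rcases hr' with rfl | rfl
    · rfl
    · exact absurd (Subtype.ext (by simpa using h.symm)) ht
    · exact Subtype.ext (conj_eq_one_iff.1 h)
    · rfl
  have hk' := OrbitCount.card_eq_sum_orbit hM hmax hab f hf R hcov hsep
  rw [Finset.sum_insert (by simp [Ne.symm ht]), Finset.sum_singleton] at hk'
  have hlt : Cfsg.blockRank p (f t) = 1 := by
    refine LocalNilpotent.blockRank_eq_one hM hmax hab (hf t) fun x hx hxC => ?_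
    refine hfix ⟨x, hx⟩ (Subtype.ext ?_)
    rw [coe_autHom, ← hxC _ (Subgroup.mem_zpowers _), mul_inv_cancel_right]
  have hl1 : Cfsg.blockRank p (f 1) = Cfsg.blockRank p B := by
    obtain ⟨b, hb, -, hr, -⟩ := NilpotentAbelian.exists_of_pair hM
      ((block_of_subpairLE hM (hf 1)).2 hmax.1) (Subgroup.zpowers_le.2
        (mem_centralizer_zpowers.2 (Subgroup.mem_centralizer_singleton_iff.2 rfl)))
      (LocalBlock.centralizer_eq_zpowers ((1 : P) : G))
    have htop : Subgroup.centralizer ({((1 : P) : G)} : Set G) = ⊤ :=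
      eq_top_iff.2 fun z _ => Subgroup.mem_centralizer_singleton_iff.2 (by simp)
    rw [← hr, ← NilpotentAbelian.pullSet_top hM htop hb, NilpotentAbelian.blockRank_pullSet]
  rw [hlt, hl1, hl, hk] at hk'
  omega

/-- Let B be a block of the finite group G relative to a maximal ideal M of the algebraic integers containing the prime p, with a nontrivial defect group D. If B has p-regular rank 1 and at most four irreducible characters, then B is nilpotent, D has exactly as many elements as B has irreducible characters, and p is 2 or 3. -/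
theorem result {G : Type*} [Group G] [Finite G] (p : ℕ) [Fact p.Prime] (M : Ideal Cfsg.AlgInt) (hM : Cfsg.IsPModular p M) (B : Set (Cfsg.IrrCharacter G)) (hB : Cfsg.IsPBlock M B) (D : Subgroup G) (hD : Cfsg.IsDefectGroup p M B D) (hD1 : D ≠ ⊥) (hl : Cfsg.blockRank p B = 1) (hk : Nat.card B ≤ 4) : Cfsg.IsNilpotentBlock p M B ∧ Nat.card D = Nat.card B ∧ (p = 2 ∨ p = 3) := by
  classical
  haveI := Fintype.ofFinite G
  have hcard := card_defectGroup hM hB hD
  have hpow := RankOneSmall.pow_defect_eq_card hM hB hl hk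
  have hD2 : 2 ≤ Nat.card D := by
    haveI : Nontrivial D := (Subgroup.nontrivial_iff_ne_bot D).2 hD1
    exact Finite.one_lt_card_iff_nontrivial.2 inferInstance
  have hle : p ^ Cfsg.blockDefect p B ≤ 4 := hpow.le.trans hk
  have hp2 := hM.1.two_le
  have hd2 : Cfsg.blockDefect p B ≤ 2 := by
    by_contra h
    push Not at h
    have h1 : 2 ^ 3 ≤ p ^ Cfsg.blockDefect p B :=
      le_trans (Nat.pow_le_pow_left hp2 3) (Nat.pow_le_pow_right hM.1.pos h)
    omega
  rw [hcard] at hD2
  have hcases : (p = 2 ∧ (Nat.card D = 2 ∨ Nat.card D = 4)) ∨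
      (p = 3 ∧ Nat.card D = 3) := by
    rw [hcard]
    interval_cases h : Cfsg.blockDefect p B
    · norm_num at hD2
    · rw [pow_one] at hle ⊢
      have : p ≠ 4 := fun h => by
        have := hM.1; rw [h] at this; norm_num at this
      omega
    · have hp : p = 2 := by
        by_contra hne
        have : 3 ^ 2 ≤ p ^ 2 := Nat.pow_le_pow_left (by omega) 2
        omega
      subst hp
      exact Or.inl ⟨rfl, Or.inr (by norm_num)⟩
  obtain ⟨c, hmax⟩ := exists_maximal_on hM hB hD
  have hab : ∀ x ∈ D, ∀ y ∈ D, x * y = y * x := by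
    intro x hx y hy
    suffices h : (⟨x, hx⟩ : D) * ⟨y, hy⟩ = ⟨y, hy⟩ * ⟨x, hx⟩ from congrArg Subtype.val h
    rcases hcases with ⟨rfl, h | h⟩ | ⟨rfl, h⟩
    · haveI := isCyclic_of_prime_card (α := D) h
      letI := IsCyclic.commGroup (α := D)
      exact mul_comm _ _
    · exact IsPGroup.commutative_of_card_eq_prime_sq (p := 2) (by rw [h]; norm_num) _ _
    · haveI := isCyclic_of_prime_card (α := D) h
      letI := IsCyclic.commGroup (α := D)
      exact mul_comm _ _
  refine ⟨(PairNilpotent.nilpotent_iff_inertial hM hmax hab).2 fun x hxN hxst => ?_,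
    hcard.trans hpow, hcases.imp And.left And.left⟩
  have hx : x ∈ stab D c := mem_stab.2 ⟨hxN, hxst⟩
  rcases hcases with ⟨rfl, h⟩ | ⟨rfl, h⟩
  · by_cases hcyc : IsCyclic D
    · exact mem_centralizer_of_pow hM hmax hab ⟨x, hx⟩ (sq_eq_one_of_cyclic h _)
    · have h4 : Nat.card D = 4 :=
        h.resolve_left fun h2 => hcyc (isCyclic_of_prime_card (p := 2) h2)
      have hexp : Monoid.exponent D = 2 := by
        have hdvd : Monoid.exponent D ∣ 2 := by
          refine Monoid.exponent_dvd_of_forall_pow_eq_one fun z => ?_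
          have hz : orderOf z ∣ 2 ^ 2 := by
            have := orderOf_dvd_natCard z
            rw [h4] at this
            exact this
          obtain ⟨i, hi, hiz⟩ := (Nat.dvd_prime_pow Nat.prime_two).1 hz
          rcases Nat.lt_or_ge i 2 with hi2 | hi2
          · exact orderOf_dvd_iff_pow_eq_one.1 (hiz ▸ by
              simpa using pow_dvd_pow 2 (Nat.le_of_lt_succ hi2))
          · exact absurd (isCyclic_of_orderOf_eq_card z (by
              rw [hiz, h4, le_antisymm hi hi2]; norm_num)) hcyc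
        rcases (Nat.dvd_prime Nat.prime_two).1 hdvd with h1 | h1
        · haveI := Monoid.exp_eq_one_iff.1 h1
          exact absurd (isCyclic_of_subsingleton) hcyc
        · exact h1
      haveI hV : IsKleinFour D := ⟨h4, hexp⟩
      obtain ⟨-, -, hr⟩ := KleinFourBlock.invariants hM hmax hV _ rfl
      exact Subgroup.relIndex_eq_one.1 (hr.symm.trans hl) hx
  · exact mem_centralizer_three hM hmax hab h (by rw [← hpow, ← hcard, h]) hl hx

end Cfsg.Agent.S4648
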