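import Cfsg.Statements.S4733
import Cfsg.Agent.BlockCharsA.Rank
import Cfsg.Agent.BlockCharsA.Contrib
import Cfsg.Agent.BlockCharsA.DefectZeroVanish

set_option autoImplicit false
open Cfsg Cfsg.Agent.Blocks Cfsg.Agent.Characters Cfsg.Agent.BlockCharsA
open scoped ComplexConjugate

namespace Cfsg.Agent.S4733

/-- Let p be a prime, M a maximal ideal of the algebraic integers containing p, and B a p-block of the finite group G with k irreducible characters and p-regular rank l (the number of irreducible Brauer characters). Then l ≤ k, and the following are equivalent: B has defect 0; k = l = 1; k = l. -/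
theorem result {G : Type*} [Group G] [Finite G] (p : ℕ) [Fact p.Prime] (M : Ideal Cfsg.AlgInt) (hM : Cfsg.IsPModular p M) (B : Set (Cfsg.IrrCharacter G)) (hB : Cfsg.IsPBlock M B) : Cfsg.blockRank p B ≤ Nat.card B ∧ (Cfsg.blockDefect p B = 0 ↔ (Nat.card B = 1 ∧ Cfsg.blockRank p B = 1)) ∧ (Cfsg.blockDefect p B = 0 ↔ Nat.card B = Cfsg.blockRank p B) := by
  classical
  haveI := Fintype.ofFinite G
  haveI := Fintype.ofFinite (Cfsg.IrrCharacter G)
  set F := Finset.univ.filter fun χ : Cfsg.IrrCharacter G => χ ∈ B with hF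
  have hcardF : Nat.card B = F.card := by
    rw [Nat.card_eq_fintype_card, ← Set.toFinset_card]
    congr 1
    ext; simp [F]
  have hle : Cfsg.blockRank p B ≤ Nat.card B := by
    rw [hcardF, Cfsg.blockRank]
    have e : ((fun χ : Cfsg.IrrCharacter G => Cfsg.pRegularPart p (χ : G → ℂ)) '' B) =
        ((F.image fun χ : Cfsg.IrrCharacter G => Cfsg.pRegularPart p (χ : G → ℂ) : Finset (G → ℂ)) :
          Set (G → ℂ)) := by
      ext; simp [F]
    rw [e]
    exact (finrank_span_finset_le_card _).trans Finset.card_image_le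
  have hk : ∀ y : G, blockKernelAt B y y =
      (Nat.card G : ℂ)⁻¹ * ((∑ χ ∈ F, Complex.normSq ((χ : G → ℂ) y) : ℝ) : ℂ) := fun y => by
    rw [blockKernelAt_eq_sum, hF, Finset.sum_filter, Complex.ofReal_sum]
    congr 1
    exact Finset.sum_congr rfl fun χ _ => by
      split
      · rw [Complex.mul_conj]
      · simp
  have htot : ∑ y : G, blockKernelAt B y y = (F.card : ℂ) := by
    simp only [blockKernelAt_eq_sum]
    rw [← Finset.mul_sum, Finset.sum_comm, Finset.mul_sum, hF, Finset.card_eq_sum_ones,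
      Nat.cast_sum, Finset.sum_filter]
    refine Finset.sum_congr rfl fun χ _ => ?_
    split
    · have h1 := classInner_isIrr_self χ.2
      rw [classInner_def] at h1
      rw [h1, Nat.cast_one]
    · simp
  have hrank := Rank.blockRank_eq_trace hM (intEl_blockIdem hM hB)
  have hdiff : (Nat.card B : ℂ) - (Cfsg.blockRank p B : ℂ) =
      ∑ y ∈ Finset.univ.filter (fun y : G => p ∣ orderOf y), blockKernelAt B y y := by
    rw [hcardF, ← htot, hrank, ← Finset.sum_filter,
      ← Finset.sum_filter_add_sum_filter_not Finset.univ (fun y : G => p ∣ orderOf y)]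
    ring
  have h01 : Cfsg.blockDefect p B = 0 → Nat.card B = 1 ∧ Nat.card B = Cfsg.blockRank p B := by
    intro h0
    have hne : Nat.card B ≠ 0 := by
      obtain ⟨χ, hχ⟩ := block_nonempty hM hB
      rw [hcardF]
      exact Finset.card_ne_zero.2 ⟨χ, Finset.mem_filter.2 ⟨Finset.mem_univ _, hχ⟩⟩
    have h1 : Nat.card B ≤ 1 := by
      have h := Contrib.sum_heights_le hM hB
      rw [h0] at h
      simp only [mul_zero, pow_zero] at h
      have h2 : F.card ≤ ∑ᶠ χ ∈ B, p ^ (2 * Cfsg.blockHeight p B (χ : G → ℂ)) := by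
        rw [ZStar.Principal.finsum_mem_eq_sum_filter, Finset.card_eq_sum_ones]
        exact Finset.sum_le_sum fun χ _ => Nat.one_le_pow _ _ (Fact.out : p.Prime).pos
      omega
    refine ⟨by omega, ?_⟩
    have hz : ∑ y ∈ Finset.univ.filter (fun y : G => p ∣ orderOf y), blockKernelAt B y y = 0 := by
      refine Finset.sum_eq_zero fun y hy => ?_
      rw [hk, Finset.sum_eq_zero fun χ hχ => ?_, Complex.ofReal_zero, mul_zero]
      have hd := degree_factorization_eq hM hB (Finset.mem_filter.1 hχ).2
      rw [DefectZeroVanish.eq_zero_of_singular Fact.out χ ?_ (Finset.mem_filter.1 hy).2, map_zero]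
      refine ((Fact.out : p.Prime).pow_dvd_iff_le_factorization (charDegree_pos χ).ne').2 ?_
      omega
    rw [hz, sub_eq_zero] at hdiff
    exact_mod_cast hdiff
  have h10 : Nat.card B = Cfsg.blockRank p B → Cfsg.blockDefect p B = 0 := by
    intro h
    rw [h, sub_self] at hdiff
    have hnn : ∀ χ ∈ F, ∀ y : G, p ∣ orderOf y → (χ : G → ℂ) y = 0 := by
      intro χ hχ y hy
      simp only [hk, ← Finset.mul_sum, ← Complex.ofReal_sum] at hdiff
      rcases mul_eq_zero.1 hdiff.symm with e | e
      · simp at e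
      · rw [Complex.ofReal_eq_zero] at e
        have e2 := (Finset.sum_eq_zero_iff_of_nonneg
          (fun y _ => Finset.sum_nonneg fun χ _ => Complex.normSq_nonneg _)).1 e y (by simp [hy])
        exact Complex.normSq_eq_zero.1
          ((Finset.sum_eq_zero_iff_of_nonneg fun χ _ => Complex.normSq_nonneg _).1 e2 χ hχ)
    obtain ⟨χ, hχ, hh⟩ := exists_height_zero hM hB
    obtain ⟨P⟩ : Nonempty (Sylow p G) := inferInstance
    haveI := Fintype.ofFinite (P : Subgroup G)
    obtain ⟨m, hm⟩ := classInner_char_nat (isCharacter_restrict (P : Subgroup G) (irr_isCharacter χ))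
      (isCharacter_one (G := (P : Subgroup G)))
    rw [classInner_def, Finset.sum_eq_single (1 : (P : Subgroup G)) (fun x _ hx => by
        rw [hnn χ (Finset.mem_filter.2 ⟨Finset.mem_univ _, hχ⟩) (x : G) ?_, zero_mul]
        obtain ⟨k, hk'⟩ := P.2 x
        rw [Subgroup.orderOf_coe]
        obtain ⟨i, -, hi⟩ := (Nat.dvd_prime_pow Fact.out).1 (orderOf_dvd_of_pow_eq_one hk')
        rw [hi]
        refine dvd_pow_self p fun h0 => hx (orderOf_eq_one_iff.1 ?_)
        rw [hi, h0, pow_zero])
      (fun h => absurd (Finset.mem_univ _) h), inv_mul_eq_iff_eq_mul₀ natCard_ne_zero] at hm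
    have hdvd : p ^ (Nat.card G).factorization p ∣ Cfsg.charDegree (χ : G → ℂ) := by
      rw [← P.card_eq_multiplicity]
      refine ⟨m, Nat.cast_injective (R := ℂ) ?_⟩
      push_cast
      rw [← hm, charDegree_cast]
      simp
    have h1 := ((Fact.out : p.Prime).pow_dvd_iff_le_factorization (charDegree_pos χ).ne').1 hdvd
    have h2 := degree_factorization_eq hM hB hχ
    have h3 := blockDefect_le p B
    omega
  exact ⟨hle, ⟨fun h => ⟨(h01 h).1, (h01 h).2 ▸ (h01 h).1⟩, fun h => h10 (h.1.trans h.2.symm)⟩,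
    ⟨fun h => (h01 h).2, h10⟩⟩

end Cfsg.Agent.S4733
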