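import Cfsg.Statements.S3183
import Mathlib

set_option linter.all false

set_option autoImplicit false
open Cfsg

namespace Cfsg.Agent.S3183

/-- `R` centralises `D`. -/
def Cen {G : Type*} [Group G] (R D : Subgroup G) : Prop := ∀ r ∈ R, ∀ d ∈ D, r * d = d * r

theorem exists_cen {G : Type*} [Group G] [Finite G] (D Q : Subgroup G) (U : Sylow 2 G)
    (hU : Cen (U : Subgroup G) D) (hDU : D ≤ U) (hQ : IsPGroup 2 Q)
    (hQN : Q ≤ Subgroup.normalizer (D : Set G)) :
    ∃ R : Sylow 2 G, Q ≤ R ∧ Cen (R : Subgroup G) D := by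
  have hUN : (U : Subgroup G) ≤ Subgroup.normalizer (D : Set G) := by
    intro u hu
    rw [Subgroup.mem_normalizer_iff]
    intro d
    constructor
    · intro hd; rw [hU u hu d hd, mul_inv_cancel_right]; exact hd
    · intro hd
      have h := hU u hu _ hd
      have e : d = u⁻¹ * (u * d * u⁻¹) * u := by group
      rw [e, mul_assoc, ← h, inv_mul_cancel_left]
      exact hd
  obtain ⟨R', hR'⟩ := IsPGroup.exists_le_sylow (p := 2)
    (P := Q.subgroupOf (Subgroup.normalizer (D : Set G))) hQ.comap_subtype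
  obtain ⟨n, hn⟩ := MulAction.exists_smul_eq (Subgroup.normalizer (D : Set G)) (U.subtype hUN) R'
  refine ⟨(n : G) • U, ?_, ?_⟩
  · intro q hq
    have h : (⟨q, hQN hq⟩ : Subgroup.normalizer (D : Set G)) ∈ (R' : Subgroup _) := hR' hq
    rw [← hn, Sylow.coe_subgroup_smul] at h
    obtain ⟨u, hu, hue⟩ := h
    rw [Sylow.coe_subgroup_smul]
    exact ⟨(u : G), hu, congrArg Subtype.val hue⟩
  · intro r hr d hd
    rw [Sylow.coe_subgroup_smul] at hr
    obtain ⟨u, hu, rfl⟩ := hr
    have hd' : (n : G)⁻¹ * d * n ∈ D := by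
      refine (Subgroup.mem_normalizer_iff.1 n.2 _).2 ?_
      simpa [mul_assoc] using hd
    have h := hU u hu _ hd'
    change (n : G) * u * (n : G)⁻¹ * d = d * ((n : G) * u * (n : G)⁻¹)
    calc (n : G) * u * (n : G)⁻¹ * d = n * (u * ((n : G)⁻¹ * d * n)) * (n : G)⁻¹ := by group
      _ = n * ((n : G)⁻¹ * d * n * u) * (n : G)⁻¹ := by rw [h]
      _ = _ := by group

/-- Let G be a finite group in which the intersection of any two distinct Sylow 2-subgroups is contained in the centre of some Sylow 2-subgroup, and let S be a Sylow 2-subgroup. Then for every x in S the centralizer of x in S is a Sylow 2-subgroup of the centralizer of x in G (no 2-subgroup centralizing x is larger), and for every other Sylow 2-subgroup T the intersection S ∩ T lies in both the centre of S and the centre of T. -/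
theorem result {G : Type*} [Group G] [Finite G]
    (hCI : ∀ S T : Sylow 2 G, S ≠ T → ∃ U : Sylow 2 G,
      (S : Subgroup G) ⊓ (T : Subgroup G) ≤ (Subgroup.center ↥(U : Subgroup G)).map (U : Subgroup G).subtype)
    (S : Sylow 2 G) :
    (∀ x ∈ (S : Subgroup G), ∀ P : Subgroup G, IsPGroup 2 ↥P → P ≤ Subgroup.centralizer ({x} : Set G) →
        Nat.card ↥P ≤ Nat.card ↥((S : Subgroup G) ⊓ Subgroup.centralizer ({x} : Set G))) ∧
    (∀ T : Sylow 2 G, T ≠ S →
        (S : Subgroup G) ⊓ (T : Subgroup G) ≤
          (Subgroup.center ↥(S : Subgroup G)).map (S : Subgroup G).subtype ⊓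
            (Subgroup.center ↥(T : Subgroup G)).map (T : Subgroup G).subtype) := by
  classical
  have hcen : ∀ (R : Sylow 2 G) (D : Subgroup G),
      D ≤ (Subgroup.center ↥(R : Subgroup G)).map (R : Subgroup G).subtype →
      D ≤ R ∧ Cen (R : Subgroup G) D := by
    intro R D h
    refine ⟨h.trans (Subgroup.map_subtype_le _), fun r hr d hd => ?_⟩
    obtain ⟨d', hd', rfl⟩ := h hd
    exact congrArg Subtype.val (Subgroup.mem_center_iff.1 hd' ⟨r, hr⟩)
  have hmain : ∀ (m : ℕ) (S T : Sylow 2 G), S ≠ T →
      Nat.card ↥(S : Subgroup G) - Nat.card ↥((S : Subgroup G) ⊓ (T : Subgroup G)) ≤ m →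
      Cen (S : Subgroup G) ((S : Subgroup G) ⊓ (T : Subgroup G)) := by
    intro m
    induction m with
    | zero =>
      intro S T hne hm
      exfalso
      have h := Subgroup.eq_of_le_of_card_ge (inf_le_left : (S : Subgroup G) ⊓ (T : Subgroup G) ≤ S) (by omega)
      exact hne (Sylow.ext (S.is_maximal' T.2 (inf_eq_left.1 h)).symm)
    | succ m ih =>
      intro S T hne hm
      set D := (S : Subgroup G) ⊓ (T : Subgroup G) with hD
      obtain ⟨U, hU⟩ := hCI S T hne
      obtain ⟨hDU, hUc⟩ := hcen U D hU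
      have hQp : IsPGroup 2 ↥((S : Subgroup G) ⊓ Subgroup.normalizer (D : Set G)) := S.2.to_le inf_le_left
      obtain ⟨R, hQR, hRc⟩ := exists_cen D _ U hUc hDU hQp inf_le_right
      by_cases hRS : R = S
      · exact hRS ▸ hRc
      -- the intersection grows
      have hDS : D < (S : Subgroup G) := lt_of_le_of_ne inf_le_left fun h => by
        exact hne (Sylow.ext (S.is_maximal' T.2 (inf_eq_left.1 h)).symm)
      have hlt : D < (S : Subgroup G) ⊓ Subgroup.normalizer (D : Set G) := by
        refine lt_of_le_of_ne (le_inf inf_le_left Subgroup.le_normalizer) fun h => ?_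
        have hlt' : D.subgroupOf (S : Subgroup G) < ⊤ :=
          lt_top_iff_ne_top.2 fun e => hDS.ne (le_antisymm hDS.le (Subgroup.subgroupOf_eq_top.1 e))
        have := S.2.isNilpotent
        obtain ⟨n, hn, hn'⟩ := SetLike.exists_of_lt (Group.normalizerCondition_of_isNilpotent _ hlt')
        apply hn'
        rw [Subgroup.mem_subgroupOf]
        refine h.ge (Subgroup.mem_inf.2 ⟨n.2, ?_⟩)
        rw [Subgroup.mem_normalizer_iff]
        intro d
        constructor
        · intro hd
          exact (Subgroup.mem_normalizer_iff.1 hn ⟨d, hDS.le hd⟩).1 hd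
        · intro hd
          have hdS : d ∈ (S : Subgroup G) := by
            simpa [mul_assoc] using
              Subgroup.mul_mem _ (Subgroup.mul_mem _ (Subgroup.inv_mem _ n.2) (hDS.le hd)) n.2
          exact (Subgroup.mem_normalizer_iff.1 hn ⟨d, hdS⟩).2 hd
      have hlt2 : D < (S : Subgroup G) ⊓ (R : Subgroup G) :=
        lt_of_lt_of_le hlt (le_inf inf_le_left hQR)
      have hcard : Nat.card D < Nat.card ↥((S : Subgroup G) ⊓ (R : Subgroup G)) := by
        by_contra hc
        exact hlt2.ne (Subgroup.eq_of_le_of_card_ge hlt2.le (not_lt.1 hc))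
      have h := ih S R (Ne.symm hRS) (by omega)
      exact fun s hs d hd => h s hs d (hlt2.le hd)
  have hle : ∀ S T : Sylow 2 G, S ≠ T → (S : Subgroup G) ⊓ (T : Subgroup G) ≤
      (Subgroup.center ↥(S : Subgroup G)).map (S : Subgroup G).subtype := by
    intro S T hne d hd
    refine ⟨⟨d, hd.1⟩, Subgroup.mem_center_iff.2 fun s => Subtype.ext ?_, rfl⟩
    exact hmain _ S T hne le_rfl s s.2 d hd
  refine ⟨fun x hx P hP hPx => ?_, fun T hT => le_inf (hle S T hT.symm) ?_⟩
  · by_cases hxZ : ∀ s ∈ (S : Subgroup G), s * x = x * s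
    · rw [inf_eq_left.2 (fun s hs => Subgroup.mem_centralizer_singleton_iff.2 (hxZ s hs))]
      obtain ⟨R, hR⟩ := hP.exists_le_sylow
      exact (Subgroup.card_le_of_le hR).trans_eq (Nat.card_congr (Sylow.equiv R S).toEquiv)
    · have hzp : IsPGroup 2 ↥(Subgroup.zpowers x) := S.2.to_le (Subgroup.zpowers_le.2 hx)
      have hsup : IsPGroup 2 ↥(P ⊔ Subgroup.zpowers x) := by
        refine IsPGroup.to_sup_of_normal_right' hP hzp ?_
        intro p hp
        rw [Subgroup.mem_normalizer_iff]
        intro y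
        have hc : Commute p x := Subgroup.mem_centralizer_singleton_iff.1 (hPx hp)
        constructor
        · intro hy
          obtain ⟨k, rfl⟩ := Subgroup.mem_zpowers_iff.1 hy
          rw [(hc.zpow_right k).eq, mul_inv_cancel_right]
          exact ⟨k, rfl⟩
        · intro hy
          obtain ⟨k, hk⟩ := Subgroup.mem_zpowers_iff.1 hy
          refine Subgroup.mem_zpowers_iff.2 ⟨k, ?_⟩
          have e : y = p⁻¹ * (p * y * p⁻¹) * p := by group
          rw [e, ← hk, mul_assoc, (hc.zpow_right k).symm.eq, inv_mul_cancel_left]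
      obtain ⟨R, hR⟩ := hsup.exists_le_sylow
      have hRS : R = S := by
        by_contra hne
        apply hxZ
        intro s hs
        exact hmain _ S R (Ne.symm hne) le_rfl s hs x ⟨hx, hR (Subgroup.mem_sup_right (Subgroup.mem_zpowers x))⟩
      exact Subgroup.card_le_of_le (le_inf (hRS ▸ le_sup_left.trans hR) hPx)
  · rw [inf_comm]; exact hle T S hT

end Cfsg.Agent.S3183
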