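import Cfsg.Statements.S2086
import Cfsg.Agent.SimpleFacts.SLnMultiplier
import Cfsg.Agent.SimpleFacts.SLTwoMultiplier
import Cfsg.Agent.SimpleFacts.SchurFromCover
import Cfsg.Agent.Lib.Classical.SL2Rep

set_option autoImplicit false
open Cfsg

namespace Cfsg.Agent.S2086

/-- Schur multipliers of the linear groups: for n ≥ 2 and a field F with q elements (q ≥ 4 when n = 2), apart from the five exceptional pairs (n, q) = (2, 4), (2, 9), (3, 2), (3, 4), (4, 2), the Schur multiplier of PSL_n(F) is cyclic of order gcd(n, q − 1); here the Schur multiplier is described through stem extensions, as in the definitions. -/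
theorem result {F : Type*} [Field F] [Fintype F] {q : ℕ} (hF : Fintype.card F = q) (n : ℕ) (hn : 2 ≤ n) (h2 : n = 2 → 4 ≤ q) (hexc : (n, q) ∉ ({(2, 4), (2, 9), (3, 2), (3, 4), (4, 2)} : Set (ℕ × ℕ))) : Cfsg.HasCyclicSchurMultiplier (Matrix.ProjectiveSpecialLinearGroup (Fin n) F) (Nat.gcd n (q - 1)) := by
  classical
  subst hF
  simp only [Set.mem_insert_iff, Set.mem_singleton_iff, Prod.mk.injEq, not_or] at hexc
  obtain ⟨e1, e2, e3, e4, e5⟩ := hexc
  have : Nonempty (Fin n) := ⟨⟨0, by omega⟩⟩
  have htop : commutator (Matrix.SpecialLinearGroup (Fin n) F) = ⊤ := by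
    rcases eq_or_lt_of_le hn with h | h
    · subst h
      exact Classical.SL2Rep.commutator_two_eq_top (h2 rfl)
    · exact Classical.Linear.commutator_SL_eq_top (by rw [Fintype.card_fin]; omega)
  have hC : Cfsg.HasCyclicSchurMultiplier (Matrix.SpecialLinearGroup (Fin n) F) 1 := by
    rcases eq_or_lt_of_le hn with h | h
    · subst h
      exact SimpleFacts.SLTwoMultiplier.main (fun e => e1 ⟨rfl, e⟩) (fun e => e2 ⟨rfl, e⟩)
    · exact SimpleFacts.SLnMultiplier.main F (by omega)
        ⟨fun e => ⟨fun e' => e3 ⟨e, e'⟩, fun e' => e4 ⟨e, e'⟩⟩, fun e e' => e5 ⟨e, e'⟩⟩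
  let θ := QuotientGroup.mk' (Subgroup.center (Matrix.SpecialLinearGroup (Fin n) F))
  have hker : θ.ker = Subgroup.center (Matrix.SpecialLinearGroup (Fin n) F) := QuotientGroup.ker_mk' _
  have : IsCyclic θ.ker := by
    rw [hker]
    exact isCyclic_of_surjective (Matrix.SpecialLinearGroup.center_equiv_rootsOfUnity (n := Fin n) (R := F)).symm
      (Matrix.SpecialLinearGroup.center_equiv_rootsOfUnity (n := Fin n) (R := F)).symm.surjective
  refine SimpleFacts.SchurFromCover.hasCyclic_of_cover θ
    ⟨QuotientGroup.mk'_surjective _, hker.le, le_of_le_of_eq le_top htop.symm⟩ hC _ ?_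
  rw [hker, Classical.Linear.natCard_center_SL, Fintype.card_fin]

end Cfsg.Agent.S2086
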