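import Cfsg.Statements.S4481
import Cfsg.Agent.Lib.CharTheory.DihedralPrincipal.Main

set_option autoImplicit false
open Cfsg

namespace Cfsg.Agent.S4481

/-- The principal 2-block of a group with dihedral Sylow 2-subgroups. Let G be a finite group whose Sylow 2-subgroup P is dihedral of order 2^n ≥ 8, let σ be an element of P of order 2^(n−1), ζ a primitive 2^(n−1)-th root of unity, and M a maximal ideal of the algebraic integers containing 2. Then the principal 2-block consists of exactly 3 + 2^(n−2) irreducible characters, which can be labelled 1, χ₁, χ₂, χ₃ and χ^(j) for 1 ≤ j ≤ 2^(n−2) − 1 (all distinct), with signs δ₁, δ₂, δ₃ such that for 0 < λ < 2^(n−1): χ₁(σ^λ) = δ₁, χ₂(σ^λ) = δ₂(−1)^(λ+1), χ₃(σ^λ) = δ₃(−1)^(λ+1) and χ^(j)(σ^λ) = δ₁(ζ^(jλ) + ζ^(−jλ)); and for every element ρ of odd order and every j: 1 + δ₁χ₁(ρ) = −δ₂χ₂(ρ)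 − δ₃χ₃(ρ) = δ₁χ^(j)(ρ). -/
theorem result {G : Type*} [Group G] [Finite G] (M : Ideal Cfsg.AlgInt) (hM : Cfsg.IsPModular 2 M) (n : ℕ) (hn : 3 ≤ n) (P : Sylow 2 G) (hP : Nonempty ((P : Subgroup G) ≃* DihedralGroup (2 ^ (n - 1)))) (σ : G) (hσ : σ ∈ (P : Subgroup G)) (hσo : orderOf σ = 2 ^ (n - 1)) (ζ : ℂ) (hζ : IsPrimitiveRoot ζ (2 ^ (n - 1))) : Nat.card (Cfsg.principalBlock M G) = 3 + 2 ^ (n - 2) ∧ ∃ (χ₁ χ₂ χ₃ : Cfsg.IrrCharacter G) (χ' : Fin (2 ^ (n - 2) - 1) → Cfsg.IrrCharacter G) (δ₁ δ₂ δ₃ : ℤ), (δ₁ = 1 ∨ δ₁ = -1) ∧ (δ₂ = 1 ∨ δ₂ = -1) ∧ (δ₃ = 1 ∨ δ₃ = -1) ∧ Function.Injective χ' ∧ (χ₁ : G → ℂ) ≠ (fun _ => 1) ∧ (χ₂ : G → ℂ) ≠ (fun _ => 1) ∧ (χ₃ : G → ℂ) ≠ (fun _ => 1) ∧ χ₁ ≠ χ₂ ∧ χ₁ ≠ χ₃ ∧ χ₂ ≠ χ₃ ∧ (∀ j, χ' j ≠ χ₁ ∧ χ' j ≠ χ₂ ∧ χ' j ≠ χ₃ ∧ (χ' j : G → ℂ) ≠ (fun _ => 1)) ∧ Cfsg.principalBlock M G = {χ : Cfsg.IrrCharacter G |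 (χ : G → ℂ) = (fun _ => 1) ∨ χ = χ₁ ∨ χ = χ₂ ∨ χ = χ₃ ∨ ∃ j, χ = χ' j} ∧ (∀ l : ℕ, 0 < l → l < 2 ^ (n - 1) → (χ₁ : G → ℂ) (σ ^ l) = δ₁ ∧ (χ₂ : G → ℂ) (σ ^ l) = δ₂ * (-1) ^ (l + 1) ∧ (χ₃ : G → ℂ) (σ ^ l) = δ₃ * (-1) ^ (l + 1) ∧ ∀ j : Fin (2 ^ (n - 2) - 1), (χ' j : G → ℂ) (σ ^ l) = δ₁ * (ζ ^ (((j : ℕ) + 1) * l) + (ζ ^ (((j : ℕ) + 1) * l))⁻¹)) ∧ ∀ ρ : G, Odd (orderOf ρ) → ∀ j : Fin (2 ^ (n - 2) - 1), 1 + δ₁ * (χ₁ : G → ℂ) ρ = -δ₂ * (χ₂ : G → ℂ) ρ - δ₃ * (χ₃ : G → ℂ) ρ ∧ 1 + δ₁ * (χ₁ : G → ℂ) ρ = δ₁ * (χ' j : G → ℂ) ρ := by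
  classical
  haveI := Fintype.ofFinite G
  haveI := Fintype.ofFinite (Cfsg.IrrCharacter G)
  set m := 2 ^ (n - 2) with hm
  have h2m : 2 ^ (n - 1) = 2 * m := by rw [hm, ← pow_succ']; congr 1; omega
  obtain ⟨τ, hD⟩ := Cfsg.Agent.CharTheory.DihedralPrincipal.DihSylow.of_iso hn hP hσ hσo
  rw [h2m] at hζ ⊢
  obtain ⟨c1, c2, c3, d1, d2, d3, X, T⟩ :=
    Cfsg.Agent.CharTheory.DihedralPrincipal.exists_principal hD hM hζ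
  have hne : ∀ χ : Cfsg.IrrCharacter G, χ ≠ Cfsg.Agent.Characters.trivIrr G →
      (χ : G → ℂ) ≠ (fun _ => 1) := fun χ hχ e => hχ (Subtype.ext (by rw [e]; rfl))
  have heq : ∀ χ : Cfsg.IrrCharacter G, (χ : G → ℂ) = (fun _ => 1) ↔
      χ = Cfsg.Agent.Characters.trivIrr G := fun χ =>
    ⟨fun e => by by_contra hχ; exact hne χ hχ e, fun e => by rw [e]; rfl⟩
  have hj : ∀ j : Fin (m - 1), 0 < (j : ℕ) + 1 ∧ (j : ℕ) + 1 < m := fun j => by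
    have := j.2; omega
  refine ⟨?_, c1, c2, c3, fun j => X ((j : ℕ) + 1), d1, d2, d3, mul_self_eq_one_iff.1 T.sq1,
    mul_self_eq_one_iff.1 T.sq2, mul_self_eq_one_iff.1 T.sq3, fun i j e => ?_, hne _ T.ne1,
    hne _ T.ne2, hne _ T.ne3, T.ne12, T.ne13, T.ne23, fun j => ?_, ?_, fun l hl hl2 => ?_,
    fun ρ hρ j => ?_⟩
  · have hset : Cfsg.principalBlock M G =
        (({Cfsg.Agent.Characters.trivIrr G, c1, c2, c3} ∪ (Finset.Ioo 0 m).image X :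
          Finset (Cfsg.IrrCharacter G)) : Set (Cfsg.IrrCharacter G)) := by
      ext χ
      rw [T.mem]
      simp only [Finset.coe_union, Finset.coe_insert, Finset.coe_singleton, Finset.coe_image,
        Finset.coe_Ioo, Set.mem_union, Set.mem_insert_iff, Set.mem_singleton_iff, Set.mem_image,
        Set.mem_Ioo]
      constructor
      · rintro (e | e | e | e | ⟨j, h1, h2, rfl⟩)
        all_goals first | exact Or.inr ⟨j, ⟨h1, h2⟩, rfl⟩ | exact Or.inl (by simp [e])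
      · rintro ((e | e | e | e) | ⟨j, ⟨h1, h2⟩, rfl⟩)
        all_goals first
          | exact Or.inr (Or.inr (Or.inr (Or.inr ⟨j, h1, h2, rfl⟩)))
          | simp [e]
    rw [hset, Nat.card_coe_set_eq, Set.ncard_coe_finset, Finset.card_union_of_disjoint]
    · rw [Finset.card_image_of_injOn fun j hj' k hk e => T.X_inj j k (Finset.mem_Ioo.1 hj').1
        (Finset.mem_Ioo.1 hj').2 (Finset.mem_Ioo.1 hk).1 (Finset.mem_Ioo.1 hk).2 e, Nat.card_Ioo,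
        Finset.card_insert_of_notMem (by simp [T.ne1.symm, T.ne2.symm, T.ne3.symm]),
        Finset.card_insert_of_notMem (by simp [T.ne12, T.ne13]),
        Finset.card_insert_of_notMem (by simp [T.ne23]), Finset.card_singleton]
      have : 0 < m := by positivity
      omega
    · rw [Finset.disjoint_left]
      intro χ hχ hχ'
      obtain ⟨j, hj', rfl⟩ := Finset.mem_image.1 hχ'
      obtain ⟨n0, n1, n2, n3⟩ := T.X_ne j (Finset.mem_Ioo.1 hj').1 (Finset.mem_Ioo.1 hj').2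
      simp [n0, n1, n2, n3] at hχ
  · have := T.X_inj _ _ (hj i).1 (hj i).2 (hj j).1 (hj j).2 e
    exact Fin.ext (by omega)
  · obtain ⟨n0, n1, n2, n3⟩ := T.X_ne _ (hj j).1 (hj j).2
    exact ⟨n1, n2, n3, hne _ n0⟩
  · ext χ
    rw [Set.mem_setOf_eq, T.mem, heq]
    refine or_congr Iff.rfl (or_congr Iff.rfl (or_congr Iff.rfl (or_congr Iff.rfl ⟨?_, ?_⟩)))
    · rintro ⟨j, h1, h2, rfl⟩
      exact ⟨⟨j - 1, by omega⟩, by simp only; congr 1; omega⟩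
    · rintro ⟨j, rfl⟩
      exact ⟨_, (hj j).1, (hj j).2, rfl⟩
  · exact ⟨T.val1 l hl hl2, T.val2 l hl hl2, T.val3 l hl hl2,
      fun j => T.valX _ (hj j).1 (hj j).2 l hl hl2⟩
  · have hodd : ¬ 2 ∣ orderOf ρ := by rw [Nat.two_dvd_ne_zero]; exact Nat.odd_iff.1 hρ
    obtain ⟨e1, e2⟩ := T.reg ρ hodd
    exact ⟨by linear_combination e1, (e2 _ (hj j).1 (hj j).2).symm⟩

end Cfsg.Agent.S4481
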