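import Cfsg.Statements.S4482
import Cfsg.Agent.Lib.CharTheory.DihedralPrincipal.OrderFormula

set_option autoImplicit false
open Cfsg

namespace Cfsg.Agent.S4482

/-- An order formula for groups with dihedral Sylow 2-subgroups and one class of involutions. Let G be a finite group whose Sylow 2-subgroup P = ⟨σ, τ⟩ is dihedral of order 2^n ≥ 8 (σ of order 2^(n−1), τ an involution inverting σ), let J be the central involution σ^(2^(n−2)), and suppose J, τ and στ are conjugate in G. Fix M over 2 and let χ₁ be an irreducible character in the principal 2-block taking one constant value δ₁ = ±1 at every non-identity power of σ, with χ₁ ≠ 1. Then, with x₁ = χ₁(1) and c(·) denoting orders of centralizers, x₁ ≠ δ₁ and #G · (x₁ − δ₁)² = 2·x₁(x₁ + δ₁)·c(J)³·(1/c(J, τ) + 1/c(J, στ))², where c(J, y) is the order of the joint centralizer of J and y. -/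
theorem result {G : Type*} [Group G] [Finite G] (M : Ideal Cfsg.AlgInt) (hM : Cfsg.IsPModular 2 M) (n : ℕ) (hn : 3 ≤ n) (P : Sylow 2 G) (σ τ : G) (hσ : σ ∈ (P : Subgroup G)) (hτ : τ ∈ (P : Subgroup G)) (hσo : orderOf σ = 2 ^ (n - 1)) (hτo : orderOf τ = 2) (hrel : τ * σ * τ⁻¹ = σ⁻¹) (hgen : Subgroup.closure ({σ, τ} : Set G) = (P : Subgroup G)) (hconj : IsConj (σ ^ (2 ^ (n - 2))) τ ∧ IsConj (σ ^ (2 ^ (n - 2))) (σ * τ)) (χ₁ : Cfsg.IrrCharacter G) (hχ₁ : χ₁ ∈ Cfsg.principalBlock M G) (h1 : (χ₁ : G → ℂ) ≠ (fun _ => 1)) (δ₁ : ℤ) (hδ₁ : δ₁ = 1 ∨ δ₁ = -1) (hval : ∀ l : ℕ, 0 < l → l < 2 ^ (n - 1) → (χ₁ : G → ℂ) (σ ^ l) = δ₁) : (Cfsg.charDegree (χ₁ : G → ℂ) : ℤ) ≠ δ₁ ∧ (Nat.card G : ℚ) * ((Cfsg.charDegree (χ₁ : G → ℂ) : ℚ) - δ₁) ^ 2 = 2 * (Cfsg.charDegree (χ₁ : G → ℂ) : ℚ) * ((Cfsg.charDegree (χ₁ : G → ℂ) : ℚ) + δ₁) * (Nat.card (Subgroup.centralizer ({σ ^ (2 ^ (n - 2))} : Set G)) : ℚ) ^ 3 * (1 / (Nat.card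 (Subgroup.centralizer ({σ ^ (2 ^ (n - 2)), τ} : Set G)) : ℚ) + 1 / (Nat.card (Subgroup.centralizer ({σ ^ (2 ^ (n - 2)), σ * τ} : Set G)) : ℚ)) ^ 2 := by
  classical
  haveI := Fintype.ofFinite G
  haveI := Fintype.ofFinite (Cfsg.IrrCharacter G)
  set m := 2 ^ (n - 2) with hm
  have h2m : 2 ^ (n - 1) = 2 * m := by rw [hm, ← pow_succ']; congr 1; omega
  have hD := Cfsg.Agent.CharTheory.DihedralPrincipal.DihSylow.of_gens hn hσ hτ hσo hτo hrel hgen
  have hm2 : 2 ≤ m := hD.two_le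
  obtain ⟨ζ, hζ⟩ : ∃ ζ : ℂ, IsPrimitiveRoot ζ (2 * m) :=
    ⟨_, Complex.isPrimitiveRoot_exp (2 * m) (by omega)⟩
  obtain ⟨c1, c2, c3, d1, d2, d3, X, T⟩ :=
    Cfsg.Agent.CharTheory.DihedralPrincipal.exists_principal hD hM hζ
  have hd1 : d1 = 1 ∨ d1 = -1 := mul_self_eq_one_iff.1 T.sq1
  -- the character is the one with constant value
  obtain ⟨rfl, rfl⟩ : χ₁ = c1 ∧ δ₁ = d1 := by
    have h2 : (2 : ℕ) < 2 ^ (n - 1) := by rw [h2m]; omega
    rcases (T.mem χ₁).1 hχ₁ with e | e | e | e | ⟨j, j1, j2, e⟩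
    · exact absurd (by rw [e]; rfl) h1
    · refine ⟨e, ?_⟩
      have e1 := hval 1 one_pos (by omega)
      rw [e, T.val1 1 one_pos (by omega)] at e1
      exact_mod_cast e1.symm
    · exfalso
      have e1 := hval 1 one_pos (by omega)
      have e2 := hval 2 two_pos h2
      rw [e, T.val2 1 one_pos (by omega)] at e1
      rw [e, T.val2 2 two_pos (by omega)] at e2
      norm_num at e1 e2
      have h3 : d2 = δ₁ := by exact_mod_cast e1
      have h4 : -d2 = δ₁ := by exact_mod_cast e2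
      rcases hδ₁ with e' | e' <;> omega
    · exfalso
      have e1 := hval 1 one_pos (by omega)
      have e2 := hval 2 two_pos h2
      rw [e, T.val3 1 one_pos (by omega)] at e1
      rw [e, T.val3 2 two_pos (by omega)] at e2
      norm_num at e1 e2
      have h3 : d3 = δ₁ := by exact_mod_cast e1
      have h4 : -d3 = δ₁ := by exact_mod_cast e2
      rcases hδ₁ with e' | e' <;> omega
    · exfalso
      have e1 := hval m (by omega) (by omega)
      rw [e, T.valX j j1 j2 m (by omega) (by omega),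
        Cfsg.Agent.CharTheory.DihedralPrincipal.gv_half hζ (by omega)] at e1
      have h3 : d1 * (2 * (-1) ^ j) = δ₁ := by exact_mod_cast e1
      have h4 : (2 : ℤ) ∣ δ₁ := ⟨d1 * (-1) ^ j, by rw [← h3]; ring⟩
      rcases hδ₁ with e' | e' <;> omega
  have key := Cfsg.Agent.CharTheory.DihedralPrincipal.order_formula hD hM hζ hconj.1 hconj.2 T
  simp only at key
  have hx := (T.reg 1 (by simp)).2 1 one_pos (by omega)
  rw [← Cfsg.Agent.Blocks.charDegree_cast χ₁, ← Cfsg.Agent.Blocks.charDegree_cast (X 1)] at key hx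
  set x := Cfsg.charDegree (χ₁ : G → ℂ)
  set y := Cfsg.charDegree ((X 1 : Cfsg.IrrCharacter G) : G → ℂ)
  set c := Nat.card (Subgroup.centralizer ({σ ^ m} : Set G))
  set cτ := Nat.card (Subgroup.centralizer ({σ ^ m, τ} : Set G))
  set cσ := Nat.card (Subgroup.centralizer ({σ ^ m, σ * τ} : Set G))
  have hxp : (0 : ℚ) < x := Nat.cast_pos.2 (Cfsg.Agent.Blocks.charDegree_pos χ₁)
  have hyp : (0 : ℚ) < y := Nat.cast_pos.2 (Cfsg.Agent.Blocks.charDegree_pos (X 1))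
  have hcp : (0 : ℚ) < c := Nat.cast_pos.2 Nat.card_pos
  have hτp : (0 : ℚ) < cτ := Nat.cast_pos.2 Nat.card_pos
  have hσp : (0 : ℚ) < cσ := Nat.cast_pos.2 Nat.card_pos
  have hxq : (δ₁ : ℚ) * y = 1 + δ₁ * x := by
    have : (((δ₁ : ℚ) * y : ℚ) : ℂ) = ((1 + δ₁ * x : ℚ) : ℂ) := by push_cast; exact hx
    exact_mod_cast this
  have kq : (Nat.card G : ℚ) / c * (-1 - (δ₁ : ℚ) / x + 4 * δ₁ / y) =
      -2 * ((c : ℚ) / cτ + c / cσ) ^ 2 := by
    have : (((Nat.card G : ℚ) / c * (-1 - (δ₁ : ℚ) / x + 4 * δ₁ / y) : ℚ) : ℂ) =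
        ((-2 * ((c : ℚ) / cτ + c / cσ) ^ 2 : ℚ) : ℂ) := by push_cast; exact key
    exact_mod_cast this
  have hy : (y : ℚ) = x + δ₁ := by
    rcases hd1 with e | e <;> rw [e] at hxq ⊢ <;> push_cast at hxq ⊢ <;> linarith
  have e3 : -1 - (δ₁ : ℚ) / x + 4 * δ₁ / y =
      -((x : ℚ) - δ₁) ^ 2 / ((x : ℚ) * (x + δ₁)) := by
    rw [hy] at hyp ⊢
    have : (δ₁ : ℚ) * δ₁ = 1 := by exact_mod_cast T.sq1
    field_simp
    linear_combination (0 : ℚ) * this
  rw [e3] at kq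
  refine ⟨fun e => ?_, ?_⟩
  · have hxe : (x : ℚ) = δ₁ := by exact_mod_cast e
    rw [hxe, sub_self] at kq
    have hpos : (0 : ℚ) < ((c : ℚ) / cτ + c / cσ) ^ 2 := by positivity
    norm_num at kq
    rw [kq] at hpos
    norm_num at hpos
  · rw [hy] at hyp
    show (Nat.card G : ℚ) * ((x : ℚ) - δ₁) ^ 2 = 2 * (x : ℚ) * ((x : ℚ) + δ₁) * (c : ℚ) ^ 3 *
      (1 / (cτ : ℚ) + 1 / (cσ : ℚ)) ^ 2
    field_simp at kq ⊢
    linear_combination -kq

end Cfsg.Agent.S4482
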