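import Cfsg.Statements.S0801
import Cfsg.Agent.Lib.Forms.DicksonTrace
import Cfsg.Agent.Lib.Forms.DicksonNine
import Cfsg.Agent.Lib.Forms.DicksonCor
import Cfsg.Agent.Lib.Classical.Linear
-- import your own Cfsg.Agent.* helpers here

set_option autoImplicit false
open Cfsg

namespace Cfsg.Agent.S0801

open scoped MatrixGroups

theorem fixed_of_sq {F : Type*} [Field F] (p : ℕ) [Fact p.Prime] [CharP F p] {t : F}
    (h : t = 0 ∨ t ^ 2 = 4) : t ^ p = t := by
  rcases h with rfl | h
  · rw [zero_pow (Fact.out : p.Prime).ne_zero]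
  · have : (t - 2) * (t + 2) = 0 := by linear_combination h
    rcases mul_eq_zero.1 this with h | h
    · rw [sub_eq_zero.1 h, ← frobenius_def, map_ofNat]
    · rw [eq_neg_of_add_eq_zero_left h, ← frobenius_def, map_neg, map_ofNat]

theorem natCard_ge {G H : Type*} [Group G] [Group H] [Finite G] (f : G →* H) (K : Subgroup G) {z : G}
    (hz : z ∈ K) (hz1 : z ≠ 1) (hfz : f z = 1) : 2 * Nat.card (K.map f) ≤ Nat.card K := by
  have h1 := (f.comp K.subtype).ker.card_mul_index
  rw [Subgroup.index_ker] at h1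
  have hr : (f.comp K.subtype).range = K.map f := by
    rw [MonoidHom.range_comp, Subgroup.range_subtype]
  rw [hr] at h1
  have h2 : 2 ≤ Nat.card (f.comp K.subtype).ker := by
    by_contra h
    have : (f.comp K.subtype).ker = ⊥ :=
      Subgroup.card_eq_one.1 (by have := Nat.card_pos (α := (f.comp K.subtype).ker); omega)
    have hm : (⟨z, hz⟩ : K) ∈ (f.comp K.subtype).ker := hfz
    rw [this, Subgroup.mem_bot] at hm
    exact hz1 (congrArg Subtype.val hm)
  rw [← h1]
  exact Nat.mul_le_mul_right _ h2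

theorem hom_trivial {G T : Type*} [Group G] [Group T] {a b : G} (ψ : Subgroup.closure ({a, b} : Set G) →* T)
    (ha : ∀ h : a ∈ Subgroup.closure ({a, b} : Set G), ψ ⟨a, h⟩ = 1)
    (hb : ∀ h : b ∈ Subgroup.closure ({a, b} : Set G), ψ ⟨b, h⟩ = 1)
    (g : Subgroup.closure ({a, b} : Set G)) : ψ g = 1 := by
  obtain ⟨g, hg⟩ := g
  induction hg using Subgroup.closure_induction with
  | mem x hx => rcases hx with rfl | rfl; exacts [ha _, hb _]
  | one => exact map_one ψ
  | mul x y hx hy ihx ihy =>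
    rw [show (⟨x * y, _⟩ : Subgroup.closure ({a, b} : Set G)) = ⟨x, hx⟩ * ⟨y, hy⟩ from rfl, map_mul,
      ihx, ihy, one_mul]
  | inv x hx ihx =>
    rw [show (⟨x⁻¹, _⟩ : Subgroup.closure ({a, b} : Set G)) = ⟨x, hx⟩⁻¹ from rfl, map_inv, ihx, inv_one]

theorem alt4_exp : ∀ g : alternatingGroup (Fin 4), g ^ 2 = 1 ∨ g ^ 3 = 1 := by decide +kernel

theorem alt5_exp : ∀ g : alternatingGroup (Fin 5), g ^ 2 = 1 ∨ g ^ 3 = 1 ∨ g ^ 5 = 1 := by decide +kernel

theorem exists_square_class (K : Type*) [Field K] [Fintype K] (hk : Odd (Fintype.card K)) :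
    ∃ (φ : Matrix.ProjGenLinGroup (Fin 2) K →* Kˣ ⧸ (powMonoidHom 2 : Kˣ →* Kˣ).range)
      (g : Matrix.ProjGenLinGroup (Fin 2) K), φ g ≠ 1 := by
  classical
  let φ₀ : GL (Fin 2) K →* Kˣ ⧸ (powMonoidHom 2 : Kˣ →* Kˣ).range :=
    (QuotientGroup.mk' _).comp Matrix.GeneralLinearGroup.det
  have h0 : φ₀.comp (Matrix.GeneralLinearGroup.scalar (Fin 2)) = 1 := by
    ext u
    refine (QuotientGroup.eq_one_iff _).2 ⟨u, ?_⟩
    ext
    simp [pow_two]
  obtain ⟨a, ha⟩ := FiniteField.exists_nonsquare (F := K) fun hc => by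
    haveI : CharP K 2 := hc ▸ ringChar.charP K
    obtain ⟨m, -, hm⟩ := FiniteField.card K 2
    rw [hm] at hk
    exact (Nat.not_odd_iff_even.2 (Nat.even_pow.2 ⟨even_two, m.ne_zero⟩)) hk
  have ha0 : a ≠ 0 := fun e => ha (e ▸ ⟨0, by simp⟩)
  obtain ⟨A, hA⟩ := Matrix.GeneralLinearGroup.det_surjective (n := Fin 2) (Units.mk0 a ha0)
  refine ⟨Matrix.ProjGenLinGroup.lift φ₀ h0, Matrix.ProjGenLinGroup.mk A, fun h => ?_⟩
  rw [Matrix.ProjGenLinGroup.lift_mk, MonoidHom.comp_apply, hA] at h
  obtain ⟨u, hu⟩ := (QuotientGroup.eq_one_iff _).1 h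
  refine ha ⟨(u : K), ?_⟩
  have := congrArg Units.val hu
  simpa [pow_two] using this.symm

theorem pow_two_or {G : Type*} [Group G] (x : G) (h : x * x = 1) : x ^ 2 = 1 := by rw [pow_two, h]


/-- Let F be a finite field of odd characteristic and λ ≠ 0 an element generating F as a field. Then the lower and upper unitriangular matrices with off-diagonal entries 1 and λ generate SL_2(F), unless |F| = 9 and λ² = −1, in which case they generate a subgroup of order 120. -/
theorem result {F : Type*} [Field F] [Fintype F] (h2 : (2 : F) ≠ 0) (lam : F) (hlam : lam ≠ 0) (hgen : Subfield.closure ({lam} : Set F) = ⊤) : (Subgroup.closure {g : Matrix.SpecialLinearGroup (Fin 2) F | (g : Matrix (Fin 2) (Fin 2) F) = !![1, 0; 1, 1] ∨ (g : Matrix (Fin 2) (Fin 2) F) = !![1, lam; 0, 1]} = ⊤ ∧ ¬ (Fintype.card F = 9 ∧ lam ^ 2 = -1)) ∨ (Fintype.card F = 9 ∧ lam ^ 2 = -1 ∧ Nat.card ↥(Subgroup.closure {g : Matrix.SpecialLinearGroup (Fin 2) F | (g : Matrix (Fin 2) (Fin 2) F) = !![1, 0; 1, 1] ∨ (g : Matrix (Fin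 2) (Fin 2) F) = !![1, lam; 0, 1]}) = 120) := by
  classical
  obtain ⟨p, hpc⟩ := CharP.exists F
  haveI := hpc
  haveI hpf : Fact p.Prime := ⟨CharP.char_is_prime F p⟩
  have hp : p.Prime := hpf.out
  have hp2 : p ≠ 2 := fun e => h2 (by subst e; exact CharTwo.two_eq_zero)
  obtain ⟨n, -, hn⟩ := FiniteField.card F p
  have hpodd : p % 2 = 1 := hp.eq_two_or_odd.resolve_left hp2
  set q := Fintype.card F with hq'
  have hqodd : q % 2 = 1 := by rw [hn, Nat.pow_mod, hpodd, one_pow, Nat.one_mod]
  set A : SL(2, F) := ⟨!![1, 0; 1, 1], by simp [Matrix.det_fin_two]⟩ with hAdef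
  set B : SL(2, F) := ⟨!![1, lam; 0, 1], by simp [Matrix.det_fin_two]⟩ with hBdef
  set S : Set SL(2, F) := {g | (g : Matrix (Fin 2) (Fin 2) F) = !![1, 0; 1, 1] ∨
      (g : Matrix (Fin 2) (Fin 2) F) = !![1, lam; 0, 1]} with hSdef
  have hS : S = {A, B} := by
    ext g
    show (g.1 = !![1, 0; 1, 1] ∨ g.1 = !![1, lam; 0, 1]) ↔ g = A ∨ g = B
    exact ⟨Or.imp (fun h => Subtype.ext h) (fun h => Subtype.ext h),
      Or.imp (fun h => congrArg Subtype.val h) (fun h => congrArg Subtype.val h)⟩
  set G : Subgroup SL(2, F) := Subgroup.closure S with hGdef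
  have hAG : A ∈ G := Subgroup.subset_closure (Or.inl rfl)
  have hBG : B ∈ G := Subgroup.subset_closure (Or.inr rfl)
  set a := Forms.KleinPSL.pi F A with ha'
  set b := Forms.KleinPSL.pi F B with hb'
  set H : Subgroup (Matrix.ProjectiveSpecialLinearGroup (Fin 2) F) := G.map (Forms.KleinPSL.pi F) with hH
  have hHcl : H = Subgroup.closure {a, b} := by
    rw [hH, hGdef, MonoidHom.map_closure, hS, Set.image_insert_eq, Set.image_singleton]
  have haH : a ∈ H := ⟨A, hAG, rfl⟩
  have hbH : b ∈ H := ⟨B, hBG, rfl⟩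
  have h22 : (2 : F) * 2 = 4 := by norm_num
  have hpa : a ≠ 1 := fun e => by
    rcases Forms.KleinPSL.pi_eq_one.1 e with h | h <;>
      have := congrFun (congrFun (congrArg Subtype.val h) 1) 0 <;>
      simp [A, Matrix.SpecialLinearGroup.coe_neg] at this
  have hpb : b ≠ 1 := fun e => by
    rcases Forms.KleinPSL.pi_eq_one.1 e with h | h <;>
      have := congrFun (congrFun (congrArg Subtype.val h) 0) 1 <;>
      simp [B, Matrix.SpecialLinearGroup.coe_neg, hlam] at this
  have hoa : orderOf a = p := (Forms.DicksonAction.orderOf_iff p A hpa).2 (by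
    simp [A, Matrix.trace_fin_two]; norm_num)
  have hob : orderOf b = p := (Forms.DicksonAction.orderOf_iff p B hpb).2 (by
    simp [B, Matrix.trace_fin_two]; norm_num)
  have hbi : (B⁻¹ : SL(2, F)).1 = !![1, -lam; 0, 1] := by
    rw [Matrix.SpecialLinearGroup.coe_inv, hBdef]
    simp [Matrix.adjugate_fin_two]
  have htr : (A * B).1.trace = 2 + lam ∧ (A * B⁻¹).1.trace = 2 - lam := by
    constructor
    · rw [Matrix.SpecialLinearGroup.coe_mul, hAdef, hBdef]
      simp [Matrix.trace_fin_two]; ring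
    · rw [Matrix.SpecialLinearGroup.coe_mul, hAdef, hbi]
      simp [Matrix.trace_fin_two]; ring
  have hab : a * b ∈ H := mul_mem haH hbH
  have hab' : a * b⁻¹ ∈ H := mul_mem haH (inv_mem hbH)
  -- the field is small when a trace is fixed
  have hbound : ∀ e : ℕ, e ≠ 0 → ((2 + lam) ^ p ^ e = 2 + lam ∨ (2 - lam) ^ p ^ e = 2 - lam) → q ≤ p ^ e := by
    intro e he h
    refine Forms.DicksonTrace.card_le_of_generator p lam hgen he ?_
    have hsub : ∀ x y : F, iterateFrobenius F p e (x - y) = iterateFrobenius F p e x - iterateFrobenius F p e y :=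
      fun x y => map_sub _ x y
    have h2' : iterateFrobenius F p e (2 : F) = 2 := map_ofNat _ 2
    rw [iterateFrobenius_def] at h2'
    rcases h with h | h
    · rw [← iterateFrobenius_def, map_add, iterateFrobenius_def, iterateFrobenius_def, h2'] at h
      exact add_left_cancel h
    · rw [← iterateFrobenius_def, map_sub, iterateFrobenius_def, iterateFrobenius_def, h2'] at h
      exact sub_right_injective h
  have hqp : q ≤ p → q = p := fun h => le_antisymm h (hn ▸ Nat.le_self_pow n.ne_zero p)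
  have hG := Forms.DicksonCor.gcd_mul_natCard (F := F)
  rw [← hq', show Nat.gcd 2 (q - 1) = 2 from Nat.gcd_eq_left (Nat.dvd_of_mod_eq_zero (by omega))] at hG
  have hneg : 2 ∣ Nat.card H → (-1 : SL(2, F)) ∈ G := by
    intro h
    haveI : Fact (Nat.Prime 2) := ⟨Nat.prime_two⟩
    obtain ⟨x, hx⟩ := exists_prime_orderOf_dvd_card' (G := G) 2 (h.trans (G.card_map_dvd _))
    have hx2 : (x : SL(2, F)) * x = 1 := by
      have := pow_orderOf_eq_one x
      rw [hx, pow_two] at this
      exact congrArg Subtype.val this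
    rcases Forms.KleinClasses.sq_eq_one (h2 := h2) hx2 with e | e
    · exact absurd (Subtype.ext e) (fun e' : x = 1 => by rw [e', orderOf_one] at hx; norm_num at hx)
    · exact e ▸ x.2
  have hn1 : (-1 : SL(2, F)) ≠ 1 := fun e =>
    Forms.KleinPSL.ne_neg_self h2 (1 : SL(2, F)) e.symm
  have goalTop : H = ⊤ → G = ⊤ ∧ ¬ (q = 9 ∧ lam ^ 2 = -1) := by
    intro h
    have hm1 : (-1 : SL(2, F)) ∈ G := hneg (by
      rw [h, Subgroup.card_top]
      obtain ⟨c, hc⟩ : 4 ∣ (q - 1) * (q + 1) :=
        show 2 * 2 ∣ _ from Nat.mul_dvd_mul (Nat.dvd_of_mod_eq_zero (by omega)) (Nat.dvd_of_mod_eq_zero (by omega))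
      rw [hc] at hG
      exact ⟨q * c, Nat.eq_of_mul_eq_mul_left (by norm_num : 0 < 2) (by rw [hG]; ring)⟩)
    have hGt : G = ⊤ := by
      refine eq_top_iff.2 fun g _ => ?_
      have hm : Forms.KleinPSL.pi F g ∈ H := h ▸ Subgroup.mem_top _
      obtain ⟨g', hg', e⟩ := hm
      rcases Forms.KleinPSL.pi_eq_iff.1 e with e | e
      · exact e ▸ hg'
      · rw [show g = -1 * g' by rw [e]; simp]
        exact mul_mem hm1 hg'
    refine ⟨hGt, fun ⟨h9, hl⟩ => ?_⟩
    have hp3 : p = 3 := by
      have : p ∣ 3 ^ 2 := by rw [show 3 ^ 2 = 9 from rfl, ← h9, hn]; exact dvd_pow_self p n.ne_zero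
      exact (Nat.prime_dvd_prime_iff_eq hp Nat.prime_three).1 (hp.dvd_of_dvd_pow this)
    subst hp3
    have hle := Forms.DicksonNine.natCard_closure_le lam hl S fun g hg => hg
    rw [← hGdef, hGt, Subgroup.card_top, Classical.GL2.natCard_SL_two, ← hq', h9] at hle
    norm_num at hle
  rcases Forms.DicksonList.classify p H with ⟨g, -, hg, h⟩ | ⟨x, -, hfix⟩ | h | h | h |
      ⟨K, iK, fK, m, hm, h⟩
  · exfalso
    have hpd : p ∣ Nat.card H := hoa ▸ Subgroup.orderOf_dvd_natCard H haH
    rcases h with ⟨-, h⟩ | ⟨⟨e⟩⟩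
    · exact hg (h ▸ hpd)
    · rw [Nat.card_congr e.toEquiv, DihedralGroup.nat_card] at hpd
      rcases hp.dvd_mul.1 hpd with h | h
      · exact hp2 ((Nat.prime_dvd_prime_iff_eq hp Nat.prime_two).1 h)
      · exact hg h
  · exfalso
    have hA := hfix a haH
    have hB := hfix b hbH
    cases x with
    | infty =>
      rw [ha', Forms.DicksonAction.smul_infty_iff] at hA
      simp [A] at hA
    | coe w =>
      rw [ha', Forms.DicksonAction.smul_coe_iff] at hA
      rw [hb', Forms.DicksonAction.smul_coe_iff] at hB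
      simp [A] at hA
      simp [B, hA] at hB
      exact hlam hB
  · obtain ⟨e⟩ := h
    have h12 : Nat.card H = 12 := by
      rw [Nat.card_congr e.toEquiv, nat_card_alternatingGroup, Nat.card_fin]; rfl
    have hp3 : p = 3 := by
      have hpd : p ∣ 2 ^ 2 * 3 := by
        rw [show 2 ^ 2 * 3 = 12 from rfl, ← h12, ← hoa]
        exact Subgroup.orderOf_dvd_natCard H haH
      rcases hp.dvd_mul.1 hpd with h | h
      · exact absurd ((Nat.prime_dvd_prime_iff_eq hp Nat.prime_two).1 (hp.dvd_of_dvd_pow h)) hp2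
      · exact (Nat.prime_dvd_prime_iff_eq hp Nat.prime_three).1 h
    subst hp3
    have hq3 : q = 3 := by
      refine hqp ((hbound 1 one_ne_zero (Or.inl ?_)).trans (pow_one 3).le)
      rw [pow_one, ← htr.1]
      refine fixed_of_sq 3 ?_
      have hinj : ∀ k : ℕ, e ⟨a * b, hab⟩ ^ k = 1 → Forms.KleinPSL.pi F (A * B) ^ k = 1 := by
        intro k h
        rw [← map_pow, ← e.map_one] at h
        rw [map_mul]
        exact congrArg Subtype.val (e.injective h)
      rcases alt4_exp (e ⟨a * b, hab⟩) with h | h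
      · exact Forms.DicksonTrace.trace_two 3 _ (hinj _ h)
      · exact Or.inr (Forms.DicksonTrace.trace_char 3 _ (hinj _ h))
    refine Or.inl (goalTop (H.eq_top_of_card_eq ?_))
    rw [hq3] at hG; omega
  · exfalso
    obtain ⟨e⟩ := h
    revert e
    rw [hHcl]
    intro e
    have key0 := hom_trivial (Equiv.Perm.sign.comp e.toMonoidHom)
      (fun h => orderOf_eq_one_iff.1 (Nat.eq_one_of_dvd_coprimes ((Nat.coprime_primes hp Nat.prime_two).2 hp2)
        (hoa ▸ Subgroup.orderOf_mk a h ▸ orderOf_map_dvd _ _)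
        ((orderOf_dvd_natCard _).trans (by rw [Nat.card_eq_fintype_card, Fintype.card_units_int]))))
      (fun h => orderOf_eq_one_iff.1 (Nat.eq_one_of_dvd_coprimes ((Nat.coprime_primes hp Nat.prime_two).2 hp2)
        (hob ▸ Subgroup.orderOf_mk b h ▸ orderOf_map_dvd _ _)
        ((orderOf_dvd_natCard _).trans (by rw [Nat.card_eq_fintype_card, Fintype.card_units_int]))))
    obtain ⟨g, hg⟩ := e.surjective (Equiv.swap 0 1)
    have : Equiv.Perm.sign (e g) = 1 := key0 g
    rw [hg, Equiv.Perm.sign_swap (by decide)] at this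
    exact absurd this (by decide)
  · obtain ⟨e⟩ := h
    have h60 : Nat.card H = 60 := by
      rw [Nat.card_congr e.toEquiv, nat_card_alternatingGroup, Nat.card_fin]; rfl
    have hp35 : p = 3 ∨ p = 5 := by
      have hpd : p ∣ 2 ^ 2 * (3 * 5) := by
        rw [show 2 ^ 2 * (3 * 5) = 60 from rfl, ← h60, ← hoa]
        exact Subgroup.orderOf_dvd_natCard H haH
      rcases hp.dvd_mul.1 hpd with h | h
      · exact absurd ((Nat.prime_dvd_prime_iff_eq hp Nat.prime_two).1 (hp.dvd_of_dvd_pow h)) hp2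
      · rcases hp.dvd_mul.1 h with h | h
        · exact Or.inl ((Nat.prime_dvd_prime_iff_eq hp Nat.prime_three).1 h)
        · exact Or.inr ((Nat.prime_dvd_prime_iff_eq hp (by norm_num)).1 h)
    have hexp : ∀ X : SL(2, F), Forms.KleinPSL.pi F X ∈ H →
        Forms.KleinPSL.pi F X ^ 2 = 1 ∨ Forms.KleinPSL.pi F X ^ 3 = 1 ∨ Forms.KleinPSL.pi F X ^ 5 = 1 := by
      intro X hX
      have hinj : ∀ k : ℕ, e ⟨_, hX⟩ ^ k = 1 → Forms.KleinPSL.pi F X ^ k = 1 := by
        intro k h
        rw [← map_pow, ← e.map_one] at h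
        exact congrArg Subtype.val (e.injective h)
      rcases alt5_exp (e ⟨_, hX⟩) with h | h | h
      exacts [Or.inl (hinj _ h), Or.inr (Or.inl (hinj _ h)), Or.inr (Or.inr (hinj _ h))]
    have hAB : Forms.KleinPSL.pi F (A * B) ∈ H := by rw [map_mul]; exact hab
    have hAB' : Forms.KleinPSL.pi F (A * B⁻¹) ∈ H := by rw [map_mul, map_inv]; exact hab'
    rcases hp35 with rfl | rfl
    · -- characteristic three
      have hno : q ≠ 3 := fun h3 => by
        have := H.card_le_card_group
        rw [h3] at hG; omega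
      have hfive : ∀ X : SL(2, F), Forms.KleinPSL.pi F X ∈ H →
          ((2 + lam) = X.1.trace ∨ (2 - lam) = X.1.trace) →
          X.1.trace ^ 4 - 3 * X.1.trace ^ 2 + 1 = 0 ∧ q ≤ 9 := by
        intro X hX hXt
        have hb1 : X.1.trace ^ 3 = X.1.trace → False := fun ht => hno (hqp ((hbound 1 one_ne_zero (by
          rcases hXt with e | e <;> rw [e, pow_one]
          exacts [Or.inl ht, Or.inr ht])).trans (pow_one 3).le))
        rcases hexp X hX with h | h | h
        · exact (hb1 (fixed_of_sq 3 (Forms.DicksonTrace.trace_two 3 X h))).elim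
        · exact (hb1 (fixed_of_sq 3 (Or.inr (Forms.DicksonTrace.trace_char 3 X h)))).elim
        · refine ⟨(Forms.DicksonTrace.trace_five 3 X h).resolve_left fun h' => hb1 (fixed_of_sq 3 (Or.inr h')), ?_⟩
          have ht := Forms.DicksonTrace.trace_rational 3 X (a := 2) h (Or.inl (by norm_num))
          exact hbound 2 two_ne_zero (by
            rcases hXt with e | e <;> rw [e]
            exacts [Or.inl ht, Or.inr ht])
      obtain ⟨g1, hq9⟩ := hfive _ hAB (Or.inl htr.1.symm)
      obtain ⟨g2, -⟩ := hfive _ hAB' (Or.inr htr.2.symm)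
      rw [htr.1] at g1
      rw [htr.2] at g2
      have hl : lam ^ 2 = -1 := by
        have h3 : (3 : F) = 0 := by
          have := CharP.cast_eq_zero F 3
          simpa using this
        have : lam * (lam ^ 2 + 1) = 0 := by
          linear_combination g1 - g2 - (5 * lam ^ 3 + 13 * lam) * h3
        exact eq_neg_of_add_eq_zero_left ((mul_eq_zero.1 this).resolve_left hlam)
      have hq : q = 9 := by
        have h1 : (n : ℕ) ≤ 2 := (Nat.pow_le_pow_iff_right (by norm_num : 1 < 3)).1 (hn ▸ hq9)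
        have h1' := n.pos
        have hn12 : (n : ℕ) = 1 ∨ (n : ℕ) = 2 := by omega
        rcases hn12 with e | e
        · exact absurd (by rw [hn, e]; rfl) hno
        · rw [hn, e]; rfl
      refine Or.inr ⟨hq, hl, le_antisymm (Forms.DicksonNine.natCard_closure_le lam hl S fun g hg => hg) ?_⟩
      have := natCard_ge (Forms.KleinPSL.pi F) G (hneg (by rw [h60]; norm_num)) hn1
        (Forms.KleinPSL.pi_eq_one.2 (Or.inr rfl))
      rw [← hH, h60] at this
      exact this
    · have hq5 : q = 5 := by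
        refine hqp ((hbound 1 one_ne_zero (Or.inl ?_)).trans (pow_one 5).le)
        rw [← htr.1]
        rcases hexp _ hAB with h | h | h
        · rw [pow_one]; exact fixed_of_sq 5 (Forms.DicksonTrace.trace_two 5 _ h)
        · exact Forms.DicksonTrace.trace_rational 5 _ (a := 1) h (Or.inl (by norm_num))
        · rw [pow_one]; exact fixed_of_sq 5 (Or.inr (Forms.DicksonTrace.trace_char 5 _ h))
      refine Or.inl (goalTop (H.eq_top_of_card_eq ?_))
      rw [hq5] at hG; omega
  · obtain ⟨r, hKc⟩ := CharP.exists K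
    haveI := hKc
    haveI hr : Fact r.Prime := ⟨CharP.char_is_prime K r⟩
    obtain ⟨s, -, hs⟩ := FiniteField.card K r
    have hrp : r = p := by
      have hd : r ∣ q := by
        rw [hq', ← hm, hs, ← pow_mul]
        rcases Nat.eq_zero_or_pos m with rfl | hm0
        · rw [pow_zero] at hm
          have := Fintype.one_lt_card (α := F)
          omega
        · exact dvd_pow_self r (Nat.mul_pos s.pos hm0).ne'
      rw [hn] at hd
      exact (Nat.prime_dvd_prime_iff_eq hr.out hp).1 (hr.out.dvd_of_dvd_pow hd)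
    subst hrp
    have hkodd : Odd (Fintype.card K) := by rw [hs]; exact (hp.odd_of_ne_two hp2).pow
    rcases h with h | h
    · obtain ⟨e⟩ := h
      set c := e ⟨a * b, hab⟩ with hc
      have hoc : orderOf c = orderOf (Forms.KleinPSL.pi F (A * B)) := by
        rw [hc, MulEquiv.orderOf_eq, Subgroup.orderOf_mk, map_mul]
      have hk2 : Nat.gcd 2 (Fintype.card K - 1) = 2 := by
        obtain ⟨j, hj⟩ := hkodd
        exact Nat.gcd_eq_left (Nat.dvd_of_mod_eq_zero (by omega))
      have hfix : (2 + lam) ^ r ^ (s : ℕ) = 2 + lam := by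
        rw [← htr.1]
        by_cases hcp : r ∣ orderOf c
        · have hX : Forms.KleinPSL.pi F (A * B) ^ r = 1 := by
            rw [← (Forms.DicksonAction.twoPt (F := F) r).orderOf_eq (hoc ▸ hcp), pow_orderOf_eq_one]
          have ht := fixed_of_sq r (Or.inr (Forms.DicksonTrace.trace_char r _ hX))
          have hit : ∀ j : ℕ, (A * B).1.trace ^ r ^ j = (A * B).1.trace := fun j => by
            induction j with
            | zero => simp
            | succ j ih => rw [pow_succ, pow_mul, ih, ht]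
          exact hit _
        · have hd := Forms.DicksonList.order_dvd r c hcp
          rw [hk2, hoc] at hd
          refine Forms.DicksonTrace.trace_rational r _ (n := orderOf (Forms.KleinPSL.pi F (A * B)))
            (pow_orderOf_eq_one _) ?_
          obtain ⟨j, hj⟩ := hkodd
          rcases hd with hd | hd
          · left
            rw [← hs]
            exact (Nat.mul_dvd_mul_left 2 hd).trans
              (dvd_of_eq (Nat.mul_div_cancel' (Nat.dvd_of_mod_eq_zero (by omega))))
          · right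
            rw [← hs]
            exact (Nat.mul_dvd_mul_left 2 hd).trans
              (dvd_of_eq (Nat.mul_div_cancel' (Nat.dvd_of_mod_eq_zero (by omega))))
      have hle : q ≤ Fintype.card K := hs ▸ hbound s s.ne_zero (Or.inl hfix)
      have hqk : Fintype.card K = q := by
        refine le_antisymm ?_ hle
        rw [hq', ← hm]
        refine Nat.le_self_pow (fun h0 => ?_) _
        rw [h0, pow_zero] at hm
        have := Fintype.one_lt_card (α := F)
        omega
      refine Or.inl (goalTop (H.eq_top_of_card_eq ?_))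
      have hK := Forms.DicksonCor.gcd_mul_natCard (F := K)
      rw [hk2, hqk, ← Nat.card_congr e.toEquiv] at hK
      omega
    · exfalso
      obtain ⟨e⟩ := h
      obtain ⟨φ, g, hg⟩ := exists_square_class K hkodd
      revert e
      rw [hHcl]
      intro e
      have hsq : ∀ x : Kˣ ⧸ (powMonoidHom 2 : Kˣ →* Kˣ).range, orderOf x ∣ 2 := fun x => by
        obtain ⟨u, rfl⟩ := QuotientGroup.mk'_surjective _ x
        refine orderOf_dvd_of_pow_eq_one ?_
        rw [← map_pow]
        exact (QuotientGroup.eq_one_iff _).2 ⟨u, rfl⟩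
      have key : ∀ x, φ (e x) = 1 := hom_trivial (φ.comp e.toMonoidHom)
        (fun h => orderOf_eq_one_iff.1 (Nat.eq_one_of_dvd_coprimes ((Nat.coprime_primes hp Nat.prime_two).2 hp2)
          (hoa ▸ Subgroup.orderOf_mk a h ▸ orderOf_map_dvd _ _) (hsq _)))
        (fun h => orderOf_eq_one_iff.1 (Nat.eq_one_of_dvd_coprimes ((Nat.coprime_primes hp Nat.prime_two).2 hp2)
          (hob ▸ Subgroup.orderOf_mk b h ▸ orderOf_map_dvd _ _) (hsq _)))
      obtain ⟨x, hx⟩ := e.surjective g
      exact hg (hx ▸ key x)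

end Cfsg.Agent.S0801
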