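import Cfsg.Statements.S2283
import Cfsg.Agent.Lib.Classical.SU3RegOdd
import Cfsg.Agent.Lib.Classical.SU3RegEven
import Cfsg.Agent.Lib.Classical.SU3RegThree
-- import your own Cfsg.Agent.* helpers here

set_option autoImplicit false
open Cfsg

namespace Cfsg.Agent.S2283

/-- Let F be a field with q² elements, q ≥ 3, and SU_3(q) the special unitary group of the standard Hermitian form. Then SU_3(q) is generated by two conjugate regular unipotent elements: there are u ∈ SU_3(q) with u − 1 nilpotent and (u − 1)² ≠ 0, and g ∈ SU_3(q), such that u and g u g⁻¹ generate SU_3(q). -/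
theorem result {F : Type*} [Field F] [Fintype F] (q : ℕ) (hq : 3 ≤ q) (hF : Fintype.card F = q ^ 2) :
    ∃ u g : ↥(Cfsg.SU 3 F q), (IsNilpotent (((u : Matrix.SpecialLinearGroup (Fin 3) F) : Matrix (Fin 3) (Fin 3) F) - 1) ∧ (((u : Matrix.SpecialLinearGroup (Fin 3) F) : Matrix (Fin 3) (Fin 3) F) - 1) ^ (3 - 1) ≠ 0) ∧
      Subgroup.closure ({u, g * u * g⁻¹} : Set ↥(Cfsg.SU 3 F q)) = ⊤ := by
  by_cases h2 : (2 : F) = 0
  · exact Agent.Classical.SU3RegEven.exists_pair_even hF h2 hq
  by_cases h5 : 5 ≤ q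
  · exact Agent.Classical.SU3RegOdd.exists_pair_odd hF h2 h5
  have h34 : q = 3 ∨ q = 4 := by omega
  rcases h34 with rfl | rfl
  · exact Agent.Classical.SU3RegThree.exists_pair_three (by rw [hF]; norm_num)
  · exfalso
    refine h2 ?_
    have h := Nat.cast_card_eq_zero F
    rw [hF] at h
    have h' : (2 : F) ^ 4 = 0 := by norm_num at h ⊢; exact h
    exact pow_eq_zero_iff (by norm_num : 4 ≠ 0) |>.1 h'

end Cfsg.Agent.S2283
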