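import Cfsg.Statements.S1258
import Mathlib.Tactic.Group
import Cfsg.Agent.Lib.Components.Basic

set_option autoImplicit false
open Cfsg
open scoped commutatorElement

namespace Cfsg.Agent.S1258

/-- If the central quotient of a finite group X is non-abelian simple, then X = X' Z(X) and the commutator subgroup X' is quasisimple. -/
theorem result {X : Type*} [Group X] [Finite X] (hs : IsSimpleGroup (X ⧸ Subgroup.center X)) (hna : ¬ IsMulCommutative (X ⧸ Subgroup.center X)) : commutator X ⊔ Subgroup.center X = ⊤ ∧ Cfsg.IsQuasisimple ↥(commutator X) := by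
  have hsurj := QuotientGroup.mk'_surjective (Subgroup.center X)
  have htop : (commutator X).map (QuotientGroup.mk' (Subgroup.center X)) = ⊤ := by
    rcases ((inferInstance : (commutator X).Normal).map (QuotientGroup.mk' (Subgroup.center X))
      hsurj).eq_bot_or_eq_top with h | h
    · exfalso
      rw [_root_.commutator_def, Subgroup.map_commutator, Subgroup.map_top_of_surjective _ hsurj,
        ← _root_.commutator_def] at h
      exact hna ((commutator_eq_bot_iff (G := X ⧸ Subgroup.center X)).mp h)
    · exact h
  have hsup : commutator X ⊔ Subgroup.center X = ⊤ := by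
    have := congrArg (Subgroup.comap (QuotientGroup.mk' (Subgroup.center X))) htop
    rwa [Subgroup.comap_map_eq, QuotientGroup.ker_mk', Subgroup.comap_top] at this
  refine ⟨hsup, ?_⟩
  have hp : ⁅commutator X, commutator X⁆ = commutator X := by
    refine le_antisymm (Subgroup.commutator_le_left _ _) ?_
    rw [_root_.commutator_def, Subgroup.commutator_le]
    intro a _ b _
    obtain ⟨a', ha', za, hza, rfl⟩ :=
      Subgroup.mem_sup_of_normal_right.mp (hsup ▸ Subgroup.mem_top a : a ∈ commutator X ⊔ Subgroup.center X)
    obtain ⟨b', hb', zb, hzb, rfl⟩ :=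
      Subgroup.mem_sup_of_normal_right.mp (hsup ▸ Subgroup.mem_top b : b ∈ commutator X ⊔ Subgroup.center X)
    have h1 := Subgroup.mem_center_iff.mp hza
    have h2 := Subgroup.mem_center_iff.mp hzb
    have : ⁅a' * za, b' * zb⁆ = ⁅a', b'⁆ := by
      rw [Components.Basic.commutatorElement_mul_center_left _ _ hza,
        Components.Basic.commutatorElement_mul_center_right _ _ hzb]
    rw [this]
    exact Subgroup.commutator_mem_commutator ha' hb'
  have hperf : Group.IsPerfect ↥(commutator X) := Subgroup.isPerfect_iff.mpr hp
  refine Cfsg.Agent.Components.Basic.isQuasisimple_of_normal hperf ?_ fun N hN => ?_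
  · rw [Subgroup.nontrivial_iff_ne_bot]
    intro h
    exact hna (by
      have : Subgroup.center X = ⊤ := by rwa [h, bot_sup_eq] at hsup
      rw [← _root_.commutator_eq_bot_iff, _root_.commutator_def, ← Subgroup.map_top_of_surjective _ hsurj,
        ← Subgroup.map_commutator, ← _root_.commutator_def, h, Subgroup.map_bot])
  · have hle : N.map (commutator X).subtype ≤ commutator X := Subgroup.map_subtype_le N
    have hmem : ∀ n : X, n ∈ N.map (commutator X).subtype ↔ ∃ y ∈ N, (y : X) = n := fun n => Iff.rfl
    have hM : (N.map (commutator X).subtype).Normal := by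
      refine ⟨fun n hn g => ?_⟩
      obtain ⟨a, ha, z, hz, rfl⟩ :=
        Subgroup.mem_sup_of_normal_right.mp (hsup ▸ Subgroup.mem_top g : g ∈ commutator X ⊔ Subgroup.center X)
      obtain ⟨y, hy, rfl⟩ := (hmem n).mp hn
      refine (hmem _).mpr ⟨⟨a, ha⟩ * y * ⟨a, ha⟩⁻¹, hN.conj_mem y hy _, ?_⟩
      have hz' : (y : X) * z = z * y := Subgroup.mem_center_iff.mp hz (y : X)
      show a * (y : X) * a⁻¹ = a * z * (y : X) * (a * z)⁻¹
      rw [mul_assoc a z (y : X), ← hz']
      group
    rcases (hM.map (QuotientGroup.mk' (Subgroup.center X)) hsurj).eq_bot_or_eq_top with h | h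
    · right
      intro y hy
      have h' : (N.map (commutator X).subtype) ≤ Subgroup.center X := by
        rwa [Subgroup.map_eq_bot_iff, QuotientGroup.ker_mk'] at h
      have := Subgroup.mem_center_iff.mp (h' ((hmem _).mpr ⟨y, hy, rfl⟩))
      exact Subgroup.mem_center_iff.mpr fun g => Subtype.ext (this g)
    · left
      have hsupN : N.map (commutator X).subtype ⊔ Subgroup.center X = ⊤ := by
        have := congrArg (Subgroup.comap (QuotientGroup.mk' (Subgroup.center X))) h
        rwa [Subgroup.comap_map_eq, QuotientGroup.ker_mk', Subgroup.comap_top] at this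
      have := Subgroup.Normal.commutator_le_of_self_sup_commutative_eq_top hsupN inferInstance
      rw [eq_top_iff]
      intro y _
      obtain ⟨y', hy', he⟩ := (hmem _).mp (this y.2)
      rwa [← Subtype.ext he]

end Cfsg.Agent.S1258
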