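import Cfsg.Statements.S2089
import Cfsg.Agent.SimpleFacts.SUMult.Main

set_option autoImplicit false
open Cfsg

namespace Cfsg.Agent.S2089

/-- Schur multipliers of the unitary groups: for n ≥ 3 and a field F with q² elements, (n, q) ≠ (3, 2), apart from the exceptional pairs (n, q) = (4, 2), (4, 3), (6, 2), the Schur multiplier of PSU_n(q) is cyclic of order gcd(n, q + 1); here the Schur multiplier is described through stem extensions, as in the definitions. -/
theorem result {F : Type*} [Field F] [Fintype F] (n q : ℕ) (hF : Fintype.card F = q ^ 2) (hn : 3 ≤ n) (h3 : ¬ (n = 3 ∧ q = 2)) (hexc : (n, q) ∉ ({(4, 2), (4, 3), (6, 2)} : Set (ℕ × ℕ))) : Cfsg.HasCyclicSchurMultiplier (Cfsg.PSU n F q) (Nat.gcd n (q + 1)) := by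
  simp only [Set.mem_insert_iff, Set.mem_singleton_iff, Prod.mk.injEq, not_or] at hexc
  set θ := QuotientGroup.mk' (Subgroup.center (Cfsg.SU n F q)) with hθ
  have hker : θ.ker = Subgroup.center (Cfsg.SU n F q) := QuotientGroup.ker_mk' _
  have hstem : Cfsg.IsStemExtension θ := by
    refine ⟨QuotientGroup.mk'_surjective _, hker.le, ?_⟩
    rw [Classical.Unitary.commutator_SU_eq_top hF hn h3]
    exact le_top
  have hcard : Nat.card θ.ker = Nat.gcd n (q + 1) := by
    rw [hker, Classical.Unitary.natCard_center hF (by omega)]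
  have : IsCyclic θ.ker := by rw [hker]; exact SimpleFacts.SUMult.Main.center_cyclic hF n (by omega)
  exact SimpleFacts.SchurFromCover.hasCyclic_of_cover θ hstem
    (SimpleFacts.SUMult.Main.main hF n hn h3 hexc.1 hexc.2.1 hexc.2.2) _ hcard

end Cfsg.Agent.S2089
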