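import Cfsg.Statements.S2111
import Cfsg.Agent.Lib.Suzuki.Multiplier2

-- import your own Cfsg.Agent.* helpers here

set_option autoImplicit false
open Cfsg

namespace Cfsg.Agent.S2111

/-- Schur multipliers of the Suzuki groups: for q = 2^(2m+1) with m ≥ 2 the Schur multiplier of Sz(q) is trivial (here the Schur multiplier is described through stem extensions, as in the definitions); q = 8 is exceptional. -/
theorem result {F : Type*} [Field F] [Fintype F] {m : ℕ} (hm : 2 ≤ m) (hF : Fintype.card F = 2 ^ (2 * m + 1)) : Cfsg.HasCyclicSchurMultiplier ↥(Cfsg.Lie.Sz F (2 ^ (m + 1))) 1 := by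
  haveI := Cfsg.Agent.Suzuki.charTwo hF
  have hm1 : 1 ≤ m := by omega
  obtain ⟨e⟩ := Cfsg.Agent.Suzuki.lieEquiv (m := m) hm1 hF
  haveI : Finite ↥(Cfsg.Lie.Sz F (2 ^ (m + 1))) := Finite.of_equiv _ e.toEquiv
  constructor
  · refine ⟨_, inferInstance, inferInstance, MonoidHom.id _,
      ⟨Function.surjective_id, by simp, by simp⟩, ?_⟩
    haveI : Unique (MonoidHom.id ↥(Cfsg.Lie.Sz F (2 ^ (m + 1)))).ker :=
      ⟨⟨1⟩, fun x => Subtype.ext (MonoidHom.mem_ker.1 x.2)⟩
    haveI : Unique (Multiplicative (ZMod 1)) :=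
      ⟨⟨1⟩, fun x => Multiplicative.toAdd.injective (Subsingleton.elim _ _)⟩
    exact ⟨MulEquiv.ofUnique⟩
  intro Γ _ _ σ₀ hstem
  obtain ⟨hsur, hcen, hcomm⟩ := hstem
  set σ : Γ →* Cfsg.Sz F m := e.symm.toMonoidHom.comp σ₀ with hσ
  have hker : σ.ker = σ₀.ker := by
    ext g
    simp [hσ, MonoidHom.mem_ker]
  have hsσ : Function.Surjective σ := e.symm.surjective.comp hsur
  have hcσ : σ.ker ≤ Subgroup.center Γ := hker ▸ hcen
  have hdσ : σ.ker ≤ commutator Γ := hker ▸ hcomm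
  have hone : Nat.card σ₀.ker = 1 := by
    rw [← hker]
    by_contra hne
    obtain ⟨p, hp, hdvd⟩ := Nat.exists_prime_and_dvd hne
    haveI := Fact.mk hp
    rcases eq_or_ne p 2 with rfl | hp2
    · obtain ⟨Q, hQ⟩ := Cfsg.Agent.Suzuki.exists_sylow (m := m) hm1 hF
      let P₀ : Sylow 2 Γ := default
      obtain ⟨h, hh⟩ := MulAction.exists_smul_eq (Cfsg.Sz F m) (P₀.mapSurjective hsσ) Q
      obtain ⟨g, rfl⟩ := hsσ h
      refine Cfsg.Agent.Suzuki.Multiplier.no_prime_in_kernel σ hcσ hdσ (g • P₀) ?_ hdvd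
      refine Cfsg.Agent.Suzuki.MultiplierSylow.derived_inf_ker hF σ hsσ hcσ ?_ hm
      rw [← hQ, ← hh]
      rintro _ ⟨x, hx, rfl⟩
      rw [SetLike.mem_coe, Sylow.coe_subgroup_smul,
        Subgroup.mem_pointwise_smul_iff_inv_smul_mem] at hx
      rw [Sylow.coe_subgroup_smul, Subgroup.mem_pointwise_smul_iff_inv_smul_mem]
      refine ⟨_, hx, ?_⟩
      simp [MulAut.smul_def]
    · let P : Sylow p Γ := default
      refine Cfsg.Agent.Suzuki.Multiplier.no_prime_in_kernel σ hcσ hdσ P ?_ hdvd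
      haveI := Cfsg.Agent.Suzuki.sylow_odd_cyclic (m := m) hm1 hF hp2 (P.mapSurjective hsσ)
      have hab : ∀ a ∈ (P : Subgroup Γ), ∀ b ∈ (P : Subgroup Γ), a * b = b * a := by
        intro a ha b hb
        let f : (P : Subgroup Γ) →* ((P.mapSurjective hsσ : Sylow p (Cfsg.Sz F m)) :
            Subgroup (Cfsg.Sz F m)) :=
          (σ.comp (P : Subgroup Γ).subtype).codRestrict _ fun x => ⟨x.1, x.2, rfl⟩
        haveI := f.isMulCommutative_of_isCyclic_of_ker_le_center (fun x hx => by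
          refine Subgroup.mem_center_iff.2 fun y => Subtype.ext ?_
          exact Subgroup.mem_center_iff.1 (hcσ (MonoidHom.mem_ker.2
            (congrArg Subtype.val (MonoidHom.mem_ker.1 hx)))) y.1)
        exact congrArg Subtype.val (mul_comm' (⟨a, ha⟩ : (P : Subgroup Γ)) ⟨b, hb⟩)
      have : ⁅(P : Subgroup Γ), (P : Subgroup Γ)⁆ = ⊥ :=
        Subgroup.commutator_eq_bot_iff_le_centralizer.2 fun a ha =>
          Subgroup.mem_centralizer_iff.2 fun b hb => hab b hb a ha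
      rw [this, bot_inf_eq]
  refine ⟨1, fun y => ⟨1, ?_⟩⟩
  haveI : Subsingleton σ₀.ker := (Nat.card_eq_one_iff_unique.1 hone).1
  exact Subsingleton.elim _ _


end Cfsg.Agent.S2111
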