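import Cfsg.Statements.S2112
import Cfsg.Agent.Lib.Suzuki.Eight.Bound
import Cfsg.Agent.Lib.Suzuki.LieEquiv

set_option autoImplicit false
open Cfsg

namespace Cfsg.Agent.S2112

/-- Transfer: in a stem extension a kernel element, raised to the index of a Sylow 2-subgroup, lies in
its derived group. -/
theorem pow_index_mem {Γ H : Type*} [Group Γ] [Finite Γ] [Group H] (σ : Γ →* H)
    (hc : σ.ker ≤ Subgroup.center Γ) (hd : σ.ker ≤ commutator Γ) (htwo : IsPGroup 2 σ.ker)
    (P : Sylow 2 Γ) {z : Γ} (hz : z ∈ σ.ker) :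
    z ^ (P : Subgroup Γ).index ∈ ⁅(P : Subgroup Γ), (P : Subgroup Γ)⁆ := by
  haveI : Fact (Nat.Prime 2) := ⟨Nat.prime_two⟩
  have hcen : ∀ y, y * z = z * y := Subgroup.mem_center_iff.1 (hc hz)
  have key : ∀ (k : ℕ) (g₀ : Γ), g₀⁻¹ * z ^ k * g₀ ∈ (P : Subgroup Γ) →
      g₀⁻¹ * z ^ k * g₀ = z ^ k := fun k g₀ _ => by
    rw [mul_assoc, ← ((show Commute g₀ z from hcen g₀).pow_right k).eq, inv_mul_cancel_left]
  set φ : (P : Subgroup Γ) →* Abelianization (P : Subgroup Γ) := Abelianization.of with hφ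
  have h1 : MonoidHom.transfer φ z = 1 := Abelianization.commutator_subset_ker _ (hd hz)
  rw [MonoidHom.transfer_eq_pow φ z key, hφ] at h1
  have h2 : (⟨z ^ (P : Subgroup Γ).index, MonoidHom.transfer_eq_pow_aux z key⟩ :
      (P : Subgroup Γ)) ∈ commutator (P : Subgroup Γ) := (QuotientGroup.eq_one_iff _).1 h1
  rw [← Subgroup.map_subtype_commutator (P : Subgroup Γ)]
  exact ⟨_, h2, rfl⟩

/-- Exceptional Schur multiplier: the Suzuki group Sz(8), built over the field with 8 elements using the map x ↦ x⁴, has Schur multiplier a four-group, the product of two cyclic groups of order 2 (here the Schur multiplier is described through stem extensions, as in the definitions). -/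
theorem result {F : Type*} [Field F] [Fintype F] (hF : Fintype.card F = 8) : Cfsg.HasSchurMultiplier ↥(Cfsg.Lie.Sz F 4) (Multiplicative (ZMod 2 × ZMod 2)) := by
  have hF' : Fintype.card F = 2 ^ (2 * 1 + 1) := by rw [hF]; norm_num
  haveI := Cfsg.Agent.Suzuki.charTwo hF'
  obtain ⟨e⟩ := Cfsg.Agent.Suzuki.lieEquiv (m := 1) le_rfl hF'
  obtain ⟨eA⟩ := Cfsg.Agent.Suzuki.Eight.traceZero_equiv hF'
  haveI : Finite ↥(Cfsg.Lie.Sz F 4) := Finite.of_equiv _ e.toEquiv
  constructor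
  · obtain ⟨c, hd⟩ := Cfsg.Agent.Suzuki.Eight.exists_stem hF'
    set σ₀ := Cfsg.Agent.Suzuki.Eight.proj c with hσ₀
    have hker : (e.toMonoidHom.comp σ₀).ker = σ₀.ker := by
      ext g
      simp [MonoidHom.mem_ker]
    exact ⟨_, inferInstance, inferInstance, e.toMonoidHom.comp σ₀,
      ⟨e.surjective.comp (Cfsg.Agent.Suzuki.Eight.proj_surjective c),
        hker ▸ Cfsg.Agent.Suzuki.Eight.ker_le_center c, hker ▸ hd⟩,
      ⟨((MulEquiv.subgroupCongr hker).trans (Cfsg.Agent.Suzuki.Eight.kerEquiv c)).trans eA⟩⟩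
  intro Γ _ _ σ₀ hstem
  obtain ⟨hsur, hcen, hcomm⟩ := hstem
  set σ : Γ →* Cfsg.Sz F 1 := e.symm.toMonoidHom.comp σ₀ with hσ
  have hker : σ.ker = σ₀.ker := by
    ext g
    simp [hσ, MonoidHom.mem_ker]
  have hsσ : Function.Surjective σ := e.symm.surjective.comp hsur
  have hcσ : σ.ker ≤ Subgroup.center Γ := hker ▸ hcen
  have hdσ : σ.ker ≤ commutator Γ := hker ▸ hcomm
  have htwo : IsPGroup 2 σ.ker := by
    haveI : Fact (Nat.Prime 2) := ⟨Nat.prime_two⟩
    refine IsPGroup.of_card (n := (Nat.card σ.ker).primeFactorsList.length) ?_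
    refine Nat.eq_prime_pow_of_unique_prime_dvd Nat.card_pos.ne' fun {p} hp hdvd => ?_
    by_contra hp2
    haveI := Fact.mk hp
    let P : Sylow p Γ := default
    refine Cfsg.Agent.Suzuki.Multiplier.no_prime_in_kernel σ hcσ hdσ P ?_ hdvd
    haveI := Cfsg.Agent.Suzuki.sylow_odd_cyclic (m := 1) le_rfl hF' hp2 (P.mapSurjective hsσ)
    let f : (P : Subgroup Γ) →* ((P.mapSurjective hsσ : Sylow p (Cfsg.Sz F 1)) :
        Subgroup (Cfsg.Sz F 1)) :=
      (σ.comp (P : Subgroup Γ).subtype).codRestrict _ fun x => ⟨x.1, x.2, rfl⟩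
    haveI := f.isMulCommutative_of_isCyclic_of_ker_le_center (fun x hx => by
      refine Subgroup.mem_center_iff.2 fun y => Subtype.ext ?_
      exact Subgroup.mem_center_iff.1 (hcσ (MonoidHom.mem_ker.2
        (congrArg Subtype.val (MonoidHom.mem_ker.1 hx)))) y.1)
    have : ⁅(P : Subgroup Γ), (P : Subgroup Γ)⁆ = ⊥ :=
      Subgroup.commutator_eq_bot_iff_le_centralizer.2 fun a ha =>
        Subgroup.mem_centralizer_iff.2 fun b hb =>
          congrArg Subtype.val (mul_comm' (⟨b, hb⟩ : (P : Subgroup Γ)) ⟨a, ha⟩)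
    rw [this, bot_inf_eq]
  haveI : Fact (Nat.Prime 2) := ⟨Nat.prime_two⟩
  obtain ⟨Q, hQ⟩ := Cfsg.Agent.Suzuki.exists_sylow (m := 1) le_rfl hF'
  let P₀ : Sylow 2 Γ := default
  obtain ⟨x₀, hh⟩ := MulAction.exists_smul_eq (Cfsg.Sz F 1) (P₀.mapSurjective hsσ) Q
  obtain ⟨g, rfl⟩ := hsσ x₀
  have hPU : (↑(g • P₀) : Subgroup Γ).map σ ≤ Cfsg.Agent.Suzuki.U hF' := by
    rw [← hQ, ← hh]
    rintro _ ⟨x, hx, rfl⟩
    rw [SetLike.mem_coe, Sylow.coe_subgroup_smul,
      Subgroup.mem_pointwise_smul_iff_inv_smul_mem] at hx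
    rw [Sylow.coe_subgroup_smul, Subgroup.mem_pointwise_smul_iff_inv_smul_mem]
    refine ⟨_, hx, ?_⟩
    simp [MulAut.smul_def]
  obtain ⟨h, hhker, hadd, h1, hgen⟩ :=
    Cfsg.Agent.Suzuki.Eight.derived_inf_ker_le hF' σ hsσ hcσ hPU
  have hall : ∀ z ∈ σ.ker, ∃ x, z = h x := fun z hz => by
    obtain ⟨x, hx⟩ := hgen _ ⟨Cfsg.Agent.S2112.pow_index_mem σ hcσ hdσ htwo (g • P₀) hz,
      σ.ker.pow_mem hz _⟩
    obtain ⟨k, hk⟩ := htwo ⟨z, hz⟩
    have hk' : z ^ 2 ^ k = 1 := congrArg Subtype.val hk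
    have hodd : ¬ 2 ∣ (↑(g • P₀) : Subgroup Γ).index := (g • P₀).not_dvd_index
    set n := (↑(g • P₀) : Subgroup Γ).index with hn
    obtain ⟨a, ha⟩ := Nat.exists_mul_mod_eq_one_of_coprime
      (((Nat.prime_two.coprime_iff_not_dvd.2 hodd).pow_left (k + 1)).symm)
      (Nat.one_lt_two_pow (Nat.succ_ne_zero k))
    refine ⟨a • x, ?_⟩
    have hsmul : ∀ j : ℕ, h (j • x) = h x ^ j := fun j => by
      induction j with
      | zero =>
        rw [zero_smul, pow_zero]
        have := hadd 0 0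
        rw [add_zero] at this
        exact mul_eq_left.1 this.symm
      | succ j ih => rw [succ_nsmul, pow_succ, hadd, ih]
    have hk1 : z ^ 2 ^ (k + 1) = 1 := by rw [pow_succ, pow_mul, hk', one_pow]
    rw [hsmul, ← hx, ← pow_mul, ← Nat.mod_add_div (n * a) (2 ^ (k + 1)), ha.2, pow_add, pow_one,
      pow_mul, hk1, one_pow, mul_one]
  let π₀ : Multiplicative (Cfsg.Agent.Suzuki.Eight.traceZero F) →* σ.ker :=
    MonoidHom.mk' (fun z => ⟨h (Subtype.val (Multiplicative.toAdd z)), hhker _⟩)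
      fun z w => Subtype.ext (hadd _ _)
  have hπ : Function.Surjective π₀ := by
    rintro ⟨z, hz⟩
    obtain ⟨x, rfl⟩ := hall z hz
    set p := Cfsg.Agent.Suzuki.Eight.projZero hF' x with hp
    refine ⟨Multiplicative.ofAdd p, Subtype.ext ?_⟩
    change h (p : F) = h x
    have hpv : (p : F) = x ^ 4 + x ^ 2 := rfl
    have h2 : (2 : F) = 0 := CharTwo.two_eq_zero
    set t : F := x ^ 4 + x ^ 2 + x with ht
    have htt : t ^ 2 = t := by
      rw [ht, CharTwo.add_sq, CharTwo.add_sq, show (x ^ 4) ^ 2 = x ^ 8 by ring,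
        Cfsg.Agent.Suzuki.Eight.pow_eight hF']
      ring
    have hsplit : x = (p : F) + t := by
      rw [hpv, ht]
      linear_combination -(x ^ 4 + x ^ 2) * h2
    have ht01 : h t = 1 := by
      have : t * (t - 1) = 0 := by linear_combination htt
      rcases mul_eq_zero.1 this with h0 | h0
      · have := hadd 0 0
        rw [add_zero] at this
        rw [h0]
        exact mul_eq_left.1 this.symm
      · rw [sub_eq_zero.1 h0, h1]
    conv_rhs => rw [hsplit, hadd, ht01, mul_one]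
  exact ⟨(MulEquiv.subgroupCongr hker).toMonoidHom.comp (π₀.comp eA.symm.toMonoidHom),
    (MulEquiv.subgroupCongr hker).surjective.comp (hπ.comp eA.symm.surjective)⟩

end Cfsg.Agent.S2112
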