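import Cfsg.Statements.S3966
import Cfsg.Agent.GStructB.DihedralStem

set_option autoImplicit false
open Cfsg

namespace Cfsg.Agent.S3966
open scoped commutatorElement

/-- For even `n ≥ 2` the dicyclic group of order `4 n` is a stem extension of the dihedral group of order `2 n` with kernel of order `2`: there is a surjective homomorphism `QuaternionGroup n →* DihedralGroup n` whose kernel is central, lies in the commutator subgroup and has two elements. Together with the order of the multiplier this exhibits the dicyclic group as a Schur covering group of the dihedral group. -/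
theorem result (n : ℕ) [NeZero n] (hn : Even n) : ∃ σ : QuaternionGroup n →* DihedralGroup n, Cfsg.IsStemExtension σ ∧ Nat.card σ.ker = 2 := by
  have hn2 : n ≠ 1 := fun h => by subst h; simp at hn
  let f : QuaternionGroup n → DihedralGroup n := fun g => match g with
    | .a i => .r (ZMod.castHom (dvd_mul_left n 2) (ZMod n) i)
    | .xa i => .sr (ZMod.castHom (dvd_mul_left n 2) (ZMod n) i)
  let σ : QuaternionGroup n →* DihedralGroup n := MonoidHom.mk' f (by
    rintro (i | i) (j | j) <;> simp [f])
  have key : ∀ g, g ∈ σ.ker ↔ g = 1 ∨ g = QuaternionGroup.a (n : ZMod (2 * n)) := by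
    intro g
    rw [MonoidHom.mem_ker]
    constructor
    · rcases g with i | i <;> intro h
      · have h0 : (ZMod.castHom (dvd_mul_left n 2) (ZMod n) i) = 0 := by
          simpa [σ, f, ← DihedralGroup.r_zero] using h
        rw [← ZMod.natCast_rightInverse i, map_natCast, ZMod.natCast_eq_zero_iff] at h0
        obtain ⟨k, hk⟩ := h0
        have hlt : i.val < 2 * n := ZMod.val_lt i
        have hk2 : k < 2 := by
          by_contra hk2
          have : n * 2 ≤ n * k := Nat.mul_le_mul_left n (by omega)
          omega
        interval_cases k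
        · left
          rw [QuaternionGroup.one_def, ← ZMod.natCast_rightInverse i, hk]; simp
        · right
          rw [← ZMod.natCast_rightInverse i, hk, mul_one]
      · simp [σ, f, ← DihedralGroup.r_zero] at h
    · rintro (rfl | rfl)
      · exact map_one σ
      · simp [σ, f]
  refine ⟨σ, ⟨?_, ?_, ?_⟩, ?_⟩
  · rintro (i | i)
    · obtain ⟨j, rfl⟩ := ZMod.castHom_surjective (dvd_mul_left n 2) i
      exact ⟨.a j, rfl⟩
    · obtain ⟨j, rfl⟩ := ZMod.castHom_surjective (dvd_mul_left n 2) i
      exact ⟨.xa j, rfl⟩
  · intro g hg
    rw [Subgroup.mem_center_iff]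
    intro h
    rcases (key g).mp hg with rfl | rfl
    · simp
    · rcases h with i | i
      · simp [add_comm]
      · simp only [QuaternionGroup.xa_mul_a, QuaternionGroup.a_mul_xa]
        congr 1
        have h2 : (n : ZMod (2 * n)) + n = 0 := by
          rw [← Nat.cast_add, ← two_mul, ZMod.natCast_self]
        linear_combination h2
  · intro g hg
    rcases (key g).mp hg with rfl | rfl
    · exact one_mem _
    · obtain ⟨k, rfl⟩ := hn
      have e : (QuaternionGroup.a (((k + k : ℕ) : ℕ) : ZMod (2 * (k + k))) :
          QuaternionGroup (k + k)) =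
          ⁅QuaternionGroup.a (k : ZMod (2 * (k + k))), QuaternionGroup.xa 0⁆ := by
        rw [commutatorElement_def, ← mul_inv_eq_iff_eq_mul, ← mul_inv_eq_iff_eq_mul,
          inv_inv, inv_inv]
        simp
      rw [e, _root_.commutator_def]
      exact Subgroup.commutator_mem_commutator (Subgroup.mem_top _) (Subgroup.mem_top _)
  · rw [Nat.card_eq_two_iff]
    have h2 : (n : ZMod (2 * n)) ≠ 0 := by
      rw [Ne, ZMod.natCast_eq_zero_iff]
      intro hd
      have := Nat.le_of_dvd (Nat.pos_of_ne_zero (NeZero.ne n)) hd
      have := NeZero.ne n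
      omega
    refine ⟨⟨1, one_mem _⟩, ⟨_, (key _).mpr (Or.inr rfl)⟩, ?_, ?_⟩
    · intro h
      rw [Subtype.mk.injEq, QuaternionGroup.one_def, QuaternionGroup.a.injEq] at h
      exact h2 h.symm
    · rw [Set.eq_univ_iff_forall]
      rintro ⟨g, hg⟩
      rcases (key g).mp hg with rfl | rfl
      · exact Set.mem_insert _ _
      · exact Set.mem_insert_of_mem _ rfl

end Cfsg.Agent.S3966
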