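import Cfsg.Statements.S4552
import Cfsg.Agent.Lib.Blocks.Star.Homocyclic
import Cfsg.Agent.BlockCharsA.PairCorr

set_option autoImplicit false
open Cfsg

namespace Cfsg.Agent.S4552

/-- `C_{2^m} × C_{2^m}` has three involutions. -/
theorem three_involutions (m : ℕ) (hm : 1 ≤ m) :
    Nat.card {t : Multiplicative (ZMod (2 ^ m) × ZMod (2 ^ m)) // t ^ 2 = 1 ∧ t ≠ 1} = 3 := by
  classical
  haveI : NeZero (2 ^ m) := ⟨by positivity⟩
  haveI : IsCyclic (Multiplicative (ZMod (2 ^ m))) := isCyclic_multiplicative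
  have hq : Fintype.card {x : Multiplicative (ZMod (2 ^ m)) // x ^ 2 = 1} = 2 := by
    have h2 : 2 ∣ Fintype.card (Multiplicative (ZMod (2 ^ m))) := by
      rw [Fintype.card_multiplicative, ZMod.card]
      exact dvd_pow_self 2 (by omega)
    apply le_antisymm
    · rw [Fintype.card_subtype]
      exact IsCyclic.card_pow_eq_one_le (by norm_num)
    · obtain ⟨x, hx⟩ := exists_prime_orderOf_dvd_card 2 h2
      have hne : (⟨1, one_pow 2⟩ : {x : Multiplicative (ZMod (2 ^ m)) // x ^ 2 = 1}) ≠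
          ⟨x, by have := pow_orderOf_eq_one x; rwa [hx] at this⟩ := fun h => by
        have h1 : (1 : Multiplicative (ZMod (2 ^ m))) = x := congrArg Subtype.val h
        rw [← h1, orderOf_one] at hx
        omega
      exact Fintype.one_lt_card_iff.2 ⟨_, _, hne⟩
  have hsq : ∀ x : ZMod (2 ^ m), (Multiplicative.ofAdd x) ^ 2 = 1 ↔ 2 • x = 0 := fun x => by
    rw [← ofAdd_nsmul, ofAdd_eq_one]
  rw [Nat.card_eq_fintype_card, Fintype.card_subtype]
  have hset : Finset.univ.filter (fun t : Multiplicative (ZMod (2 ^ m) × ZMod (2 ^ m)) =>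
      t ^ 2 = 1 ∧ t ≠ 1) =
      (Finset.univ.filter fun t : Multiplicative (ZMod (2 ^ m) × ZMod (2 ^ m)) => t ^ 2 = 1).erase 1 := by
    ext t
    simp [and_comm]
  rw [hset, Finset.card_erase_of_mem (by simp), ← Fintype.card_subtype]
  have e : {t : Multiplicative (ZMod (2 ^ m) × ZMod (2 ^ m)) // t ^ 2 = 1} ≃
      {x : Multiplicative (ZMod (2 ^ m)) // x ^ 2 = 1} ×
        {x : Multiplicative (ZMod (2 ^ m)) // x ^ 2 = 1} :=
    ((MulEquiv.prodMultiplicative _ _).toEquiv.subtypeEquiv (fun t => by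
      rw [← map_eq_one_iff _ (MulEquiv.prodMultiplicative _ _).injective, map_pow]
      simp only [Prod.ext_iff, Prod.pow_fst, Prod.pow_snd, Prod.fst_one, Prod.snd_one]
      rfl)).trans (Equiv.subtypeProdEquivProd (p := fun x => x ^ 2 = 1) (q := fun x => x ^ 2 = 1))
  rw [Fintype.card_congr e, Fintype.card_prod, hq]

/-- Let B be a 2-block of the finite group G (relative to a maximal ideal M of the algebraic integers containing 2) whose defect group D is the direct product of two cyclic groups of the same order 2 ^ m, m ≥ 2. Then either B has 2-regular rank one and exactly 4 ^ m irreducible characters, or B has 2-regular rank three and exactly (4 ^ m + 8) / 3 irreducible characters. -/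
theorem result {G : Type*} [Group G] [Finite G] (M : Ideal Cfsg.AlgInt) (hM : Cfsg.IsPModular 2 M) (B : Set (Cfsg.IrrCharacter G)) (hB : Cfsg.IsPBlock M B) (D : Subgroup G) (hD : Cfsg.IsDefectGroup 2 M B D) (m : ℕ) (hm : 2 ≤ m) (hiso : Nonempty (D ≃* Multiplicative (ZMod (2 ^ m) × ZMod (2 ^ m)))) : (Cfsg.blockRank 2 B = 1 ∧ Nat.card B = 4 ^ m) ∨ (Cfsg.blockRank 2 B = 3 ∧ 3 * Nat.card B = 4 ^ m + 8) := by
  classical
  haveI := Fintype.ofFinite G
  haveI := Fintype.ofFinite (Cfsg.IrrCharacter G)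
  obtain ⟨φ⟩ := hiso
  haveI : NeZero (2 ^ m) := ⟨by positivity⟩
  have hab : ∀ x ∈ D, ∀ y ∈ D, x * y = y * x := fun x hx y hy => by
    have h : (⟨x, hx⟩ : D) * ⟨y, hy⟩ = ⟨y, hy⟩ * ⟨x, hx⟩ :=
      φ.injective (by rw [map_mul, map_mul, mul_comm])
    exact congrArg Subtype.val h
  obtain ⟨c, hmax⟩ := Cfsg.Agent.BlockCharsA.PairCorr.exists_maximal_on hM hB hD
  obtain ⟨hfree, hr⟩ := Cfsg.Agent.Blocks.Star.frees_of_three hM hmax hab
    ((Nat.card_congr (φ.toEquiv.subtypeEquiv fun t => by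
      simp [← map_pow, map_eq_one_iff _ φ.injective])).trans (three_involutions m (by omega)))
  have hcard : Nat.card D = 4 ^ m := by
    rw [Nat.card_congr φ.toEquiv,
      show Nat.card (Multiplicative (ZMod (2 ^ m) × ZMod (2 ^ m))) =
        Nat.card (ZMod (2 ^ m) × ZMod (2 ^ m)) from rfl,
      Nat.card_prod, Nat.card_zmod, ← mul_pow]
    norm_num
  have hD1 : D ≠ ⊥ := by
    intro h
    rw [h, Subgroup.card_bot] at hcard
    have : 4 ≤ 4 ^ m := Nat.le_self_pow (by omega) 4
    omega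
  obtain ⟨n, hn, hk, hl1, hle, h3⟩ := Cfsg.Agent.Blocks.Star.free_counts hM hmax hab hD1 hfree
  have h4 : 1 ≤ 4 ^ m := Nat.one_le_pow _ _ (by norm_num)
  have hnp : ¬ (Nat.card D).Prime := by
    rw [hcard]
    exact Nat.Prime.not_prime_pow (by omega)
  rcases hr with hr | hr <;> rw [hr] at hn hle h3
  · left
    rw [hk]
    omega
  · right
    rcases h3 le_rfl with h | ⟨h, -⟩
    · rw [hk]
      omega
    · exact absurd h hnp

end Cfsg.Agent.S4552
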