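import Cfsg.Statements.S0949
import Cfsg.Agent.Lib.Blocks.BrauerHomocyclic
import Cfsg.Agent.S4552

set_option autoImplicit false
open Cfsg

namespace Cfsg.Agent.S0949
open Cfsg.Agent

/-- Let the finite group G have a Sylow 2-subgroup P isomorphic to Z/2^m × Z/2^m with m ≥ 2, and suppose G has no nontrivial normal subgroup of odd order. Then P is normal in G, C_G(P) = P, and the index of P is 1 or 3. -/
theorem result {G : Type*} [Group G] [Finite G] (P : Sylow 2 G) (m : ℕ) (hm : 2 ≤ m) (e : (P : Subgroup G) ≃* Multiplicative (ZMod (2 ^ m) × ZMod (2 ^ m))) (hO : ∀ N : Subgroup G, N.Normal → Odd (Nat.card N) → N = ⊥) : (P : Subgroup G).Normal ∧ Subgroup.centralizer (P : Set G) = (P : Subgroup G) ∧ ((P : Subgroup G).index = 1 ∨ (P : Subgroup G).index = 3) := by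
  classical
  haveI := Fintype.ofFinite G
  haveI : NeZero (2 ^ m) := ⟨by positivity⟩
  haveI : Fact (1 < 2 ^ m) := ⟨Nat.one_lt_two_pow (by omega)⟩
  have hab : ∀ x ∈ (P : Subgroup G), ∀ y ∈ (P : Subgroup G), x * y = y * x := fun x hx y hy => by
    have h : (⟨x, hx⟩ : (P : Subgroup G)) * ⟨y, hy⟩ = ⟨y, hy⟩ * ⟨x, hx⟩ :=
      e.injective (by rw [map_mul, map_mul, mul_comm])
    exact congrArg Subtype.val h
  have hcard : Nat.card (P : Subgroup G) = 2 ^ m * 2 ^ m := by
    rw [Nat.card_congr e.toEquiv,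
      show Nat.card (Multiplicative (ZMod (2 ^ m) × ZMod (2 ^ m))) =
        Nat.card (ZMod (2 ^ m) × ZMod (2 ^ m)) from rfl, Nat.card_prod, Nat.card_zmod]
  have h16 : 16 ∣ Nat.card (P : Subgroup G) := by
    rw [hcard, show (16 : ℕ) = 2 ^ 4 from rfl, ← pow_add]
    exact pow_dvd_pow 2 (by omega)
  have h4 : 2 ^ m = 4 * 2 ^ (m - 2) := by
    rw [show (4 : ℕ) = 2 ^ 2 from rfl, ← pow_add]
    congr 1
    omega
  let w : Multiplicative (ZMod (2 ^ m) × ZMod (2 ^ m)) :=
    Multiplicative.ofAdd (((2 ^ (m - 2) : ℕ) : ZMod (2 ^ m)), 0)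
  have hw : ∀ k : ℕ, w ^ k = 1 ↔ 2 ^ m ∣ k * 2 ^ (m - 2) := fun k => by
    rw [← ofAdd_nsmul, ofAdd_eq_one, Prod.smul_mk, smul_zero, Prod.mk_eq_zero, nsmul_eq_mul,
      ← Nat.cast_mul, ZMod.natCast_eq_zero_iff]
    simp
  refine Blocks.BrauerHomocyclic.normal_sylow P hab
    ((Nat.card_congr (e.toEquiv.subtypeEquiv fun t => by
      simp [← map_pow, map_eq_one_iff _ e.injective])).trans (S4552.three_involutions m (by omega)))
    h16 (e.symm w) ?_ ?_ hO
  · rw [← map_pow, Ne, map_eq_one_iff _ e.symm.injective, hw, h4,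
      Nat.mul_dvd_mul_iff_right (by positivity)]
    norm_num
  · rw [← map_pow, map_eq_one_iff _ e.symm.injective, hw, h4]

end Cfsg.Agent.S0949
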