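import Cfsg.Statements.S0254
import Cfsg.Agent.Lib.Classical.GL2
import Cfsg.Agent.Lib.Classical.SmallIso
import Cfsg.Agent.Lib.Classical.PermModel

set_option autoImplicit false
open Cfsg

namespace Cfsg.Agent.S0254

/-- The field with nine elements. -/
abbrev K9 : Type := QuadraticAlgebra (ZMod 3) (-1) 0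

instance fact_prime_three : Fact (Nat.Prime 3) := ⟨Nat.prime_three⟩

instance fact_no_root : Fact (∀ r : ZMod 3, r ^ 2 ≠ (-1 : ZMod 3) + 0 * r) := ⟨by decide⟩

instance fintype_K9 : Fintype K9 := Fintype.ofEquiv _ (QuadraticAlgebra.equivProd _ _).symm

/-- The objects. -/
def objTab : Fin 6 → Finset (Matrix (Fin 2) (Fin 2) K9) := ![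
  {!![⟨0, 0⟩, ⟨0, 1⟩; ⟨0, 1⟩, ⟨0, 0⟩], !![⟨0, 0⟩, ⟨0, 2⟩; ⟨0, 2⟩, ⟨0, 0⟩], !![⟨0, 0⟩, ⟨1, 0⟩; ⟨2, 0⟩, ⟨0, 0⟩], !![⟨0, 0⟩, ⟨2, 0⟩; ⟨1, 0⟩, ⟨0, 0⟩], !![⟨0, 1⟩, ⟨0, 0⟩; ⟨0, 0⟩, ⟨0, 2⟩], !![⟨0, 1⟩, ⟨0, 0⟩; ⟨1, 2⟩, ⟨0, 2⟩], !![⟨0, 1⟩, ⟨0, 0⟩; ⟨2, 1⟩, ⟨0, 2⟩], !![⟨0, 1⟩, ⟨1, 2⟩; ⟨0, 0⟩, ⟨0, 2⟩], !![⟨0, 1⟩, ⟨2, 1⟩; ⟨0, 0⟩, ⟨0, 2⟩], !![⟨0, 2⟩, ⟨0, 0⟩; ⟨0, 0⟩, ⟨0, 1⟩], !![⟨0, 2⟩, ⟨0, 0⟩; ⟨1, 2⟩, ⟨0, 1⟩], !![⟨0, 2⟩, ⟨0, 0⟩; ⟨2, 1⟩, ⟨0, 1⟩], !![⟨0, 2⟩, ⟨1, 2⟩; ⟨0, 0⟩, ⟨0, 1⟩], !![⟨0, 2⟩, ⟨2, 1⟩; ⟨0, 0⟩, ⟨0, 1⟩], !![⟨1, 1⟩, ⟨1, 0⟩; ⟨2, 1⟩, ⟨2, 2⟩], !![⟨1, 1⟩, ⟨1, 2⟩; ⟨2,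 0⟩, ⟨2, 2⟩], !![⟨1, 1⟩, ⟨2, 0⟩; ⟨1, 2⟩, ⟨2, 2⟩], !![⟨1, 1⟩, ⟨2, 1⟩; ⟨1, 0⟩, ⟨2, 2⟩], !![⟨1, 2⟩, ⟨0, 1⟩; ⟨2, 1⟩, ⟨2, 1⟩], !![⟨1, 2⟩, ⟨0, 2⟩; ⟨1, 2⟩, ⟨2, 1⟩], !![⟨1, 2⟩, ⟨1, 2⟩; ⟨0, 2⟩, ⟨2, 1⟩], !![⟨1, 2⟩, ⟨2, 1⟩; ⟨0, 1⟩, ⟨2, 1⟩], !![⟨2, 1⟩, ⟨0, 1⟩; ⟨2, 1⟩, ⟨1, 2⟩], !![⟨2, 1⟩, ⟨0, 2⟩; ⟨1, 2⟩, ⟨1, 2⟩], !![⟨2, 1⟩, ⟨1, 2⟩; ⟨0, 2⟩, ⟨1, 2⟩], !![⟨2, 1⟩, ⟨2, 1⟩; ⟨0, 1⟩, ⟨1, 2⟩], !![⟨2, 2⟩, ⟨1, 0⟩; ⟨2, 1⟩, ⟨1, 1⟩], !![⟨2, 2⟩, ⟨1, 2⟩; ⟨2, 0⟩, ⟨1, 1⟩], !![⟨2, 2⟩, ⟨2, 0⟩; ⟨1, 2⟩, ⟨1, 1⟩], !![⟨2, 2⟩, ⟨2, 1⟩; ⟨1, 0⟩, ⟨1, 1⟩]},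
  {!![⟨0, 0⟩, ⟨0, 1⟩; ⟨0, 1⟩, ⟨0, 0⟩], !![⟨0, 0⟩, ⟨0, 2⟩; ⟨0, 2⟩, ⟨0, 0⟩], !![⟨0, 0⟩, ⟨1, 0⟩; ⟨2, 0⟩, ⟨0, 0⟩], !![⟨0, 0⟩, ⟨2, 0⟩; ⟨1, 0⟩, ⟨0, 0⟩], !![⟨0, 1⟩, ⟨0, 0⟩; ⟨0, 0⟩, ⟨0, 2⟩], !![⟨0, 1⟩, ⟨0, 0⟩; ⟨1, 1⟩, ⟨0, 2⟩], !![⟨0, 1⟩, ⟨0, 0⟩; ⟨2, 2⟩, ⟨0, 2⟩], !![⟨0, 1⟩, ⟨1, 1⟩; ⟨0, 0⟩, ⟨0, 2⟩], !![⟨0, 1⟩, ⟨2, 2⟩; ⟨0, 0⟩, ⟨0, 2⟩], !![⟨0, 2⟩, ⟨0, 0⟩; ⟨0, 0⟩, ⟨0, 1⟩], !![⟨0, 2⟩, ⟨0, 0⟩; ⟨1, 1⟩, ⟨0, 1⟩], !![⟨0, 2⟩, ⟨0, 0⟩; ⟨2, 2⟩, ⟨0, 1⟩], !![⟨0, 2⟩, ⟨1, 1⟩; ⟨0, 0⟩, ⟨0, 1⟩], !![⟨0, 2⟩, ⟨2, 2⟩; ⟨0, 0⟩, ⟨0, 1⟩], !![⟨1, 1⟩, ⟨0, 1⟩; ⟨1, 1⟩, ⟨2, 2⟩], !![⟨1, 1⟩, ⟨0, 2⟩; ⟨2,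 2⟩, ⟨2, 2⟩], !![⟨1, 1⟩, ⟨1, 1⟩; ⟨0, 1⟩, ⟨2, 2⟩], !![⟨1, 1⟩, ⟨2, 2⟩; ⟨0, 2⟩, ⟨2, 2⟩], !![⟨1, 2⟩, ⟨1, 0⟩; ⟨2, 2⟩, ⟨2, 1⟩], !![⟨1, 2⟩, ⟨1, 1⟩; ⟨2, 0⟩, ⟨2, 1⟩], !![⟨1, 2⟩, ⟨2, 0⟩; ⟨1, 1⟩, ⟨2, 1⟩], !![⟨1, 2⟩, ⟨2, 2⟩; ⟨1, 0⟩, ⟨2, 1⟩], !![⟨2, 1⟩, ⟨1, 0⟩; ⟨2, 2⟩, ⟨1, 2⟩], !![⟨2, 1⟩, ⟨1, 1⟩; ⟨2, 0⟩, ⟨1, 2⟩], !![⟨2, 1⟩, ⟨2, 0⟩; ⟨1, 1⟩, ⟨1, 2⟩], !![⟨2, 1⟩, ⟨2, 2⟩; ⟨1, 0⟩, ⟨1, 2⟩], !![⟨2, 2⟩, ⟨0, 1⟩; ⟨1, 1⟩, ⟨1, 1⟩], !![⟨2, 2⟩, ⟨0, 2⟩; ⟨2, 2⟩, ⟨1, 1⟩], !![⟨2, 2⟩, ⟨1, 1⟩; ⟨0, 1⟩, ⟨1, 1⟩], !![⟨2, 2⟩, ⟨2, 2⟩; ⟨0, 2⟩, ⟨1, 1⟩]},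
  {!![⟨0, 0⟩, ⟨1, 2⟩; ⟨1, 1⟩, ⟨0, 0⟩], !![⟨0, 0⟩, ⟨2, 1⟩; ⟨2, 2⟩, ⟨0, 0⟩], !![⟨0, 1⟩, ⟨0, 0⟩; ⟨0, 1⟩, ⟨0, 2⟩], !![⟨0, 1⟩, ⟨0, 0⟩; ⟨1, 0⟩, ⟨0, 2⟩], !![⟨0, 1⟩, ⟨0, 0⟩; ⟨2, 2⟩, ⟨0, 2⟩], !![⟨0, 1⟩, ⟨0, 1⟩; ⟨0, 0⟩, ⟨0, 2⟩], !![⟨0, 1⟩, ⟨1, 2⟩; ⟨0, 0⟩, ⟨0, 2⟩], !![⟨0, 1⟩, ⟨2, 0⟩; ⟨0, 0⟩, ⟨0, 2⟩], !![⟨0, 2⟩, ⟨0, 0⟩; ⟨0, 2⟩, ⟨0, 1⟩], !![⟨0, 2⟩, ⟨0, 0⟩; ⟨1, 1⟩, ⟨0, 1⟩], !![⟨0, 2⟩, ⟨0, 0⟩; ⟨2, 0⟩, ⟨0, 1⟩], !![⟨0, 2⟩, ⟨0, 2⟩; ⟨0, 0⟩, ⟨0, 1⟩], !![⟨0, 2⟩, ⟨1, 0⟩; ⟨0, 0⟩, ⟨0, 1⟩], !![⟨0, 2⟩, ⟨2, 1⟩; ⟨0, 0⟩, ⟨0, 1⟩], !![⟨1, 0⟩, ⟨0, 1⟩; ⟨0, 2⟩, ⟨2, 0⟩], !![⟨1, 0⟩, ⟨1, 0⟩; ⟨1,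 0⟩, ⟨2, 0⟩], !![⟨1, 0⟩, ⟨1, 2⟩; ⟨2, 2⟩, ⟨2, 0⟩], !![⟨1, 0⟩, ⟨2, 1⟩; ⟨1, 1⟩, ⟨2, 0⟩], !![⟨1, 1⟩, ⟨0, 2⟩; ⟨2, 2⟩, ⟨2, 2⟩], !![⟨1, 1⟩, ⟨1, 2⟩; ⟨2, 0⟩, ⟨2, 2⟩], !![⟨1, 2⟩, ⟨2, 0⟩; ⟨1, 1⟩, ⟨2, 1⟩], !![⟨1, 2⟩, ⟨2, 1⟩; ⟨0, 1⟩, ⟨2, 1⟩], !![⟨2, 0⟩, ⟨0, 2⟩; ⟨0, 1⟩, ⟨1, 0⟩], !![⟨2, 0⟩, ⟨1, 2⟩; ⟨2, 2⟩, ⟨1, 0⟩], !![⟨2, 0⟩, ⟨2, 0⟩; ⟨2, 0⟩, ⟨1, 0⟩], !![⟨2, 0⟩, ⟨2, 1⟩; ⟨1, 1⟩, ⟨1, 0⟩], !![⟨2, 1⟩, ⟨1, 0⟩; ⟨2, 2⟩, ⟨1, 2⟩], !![⟨2, 1⟩, ⟨1, 2⟩; ⟨0, 2⟩, ⟨1, 2⟩], !![⟨2, 2⟩, ⟨0, 1⟩; ⟨1, 1⟩, ⟨1, 1⟩], !![⟨2, 2⟩, ⟨2, 1⟩; ⟨1, 0⟩, ⟨1, 1⟩]},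
  {!![⟨0, 0⟩, ⟨1, 1⟩; ⟨1, 2⟩, ⟨0, 0⟩], !![⟨0, 0⟩, ⟨2, 2⟩; ⟨2, 1⟩, ⟨0, 0⟩], !![⟨0, 1⟩, ⟨0, 0⟩; ⟨0, 1⟩, ⟨0, 2⟩], !![⟨0, 1⟩, ⟨0, 0⟩; ⟨1, 2⟩, ⟨0, 2⟩], !![⟨0, 1⟩, ⟨0, 0⟩; ⟨2, 0⟩, ⟨0, 2⟩], !![⟨0, 1⟩, ⟨0, 1⟩; ⟨0, 0⟩, ⟨0, 2⟩], !![⟨0, 1⟩, ⟨1, 0⟩; ⟨0, 0⟩, ⟨0, 2⟩], !![⟨0, 1⟩, ⟨2, 2⟩; ⟨0, 0⟩, ⟨0, 2⟩], !![⟨0, 2⟩, ⟨0, 0⟩; ⟨0, 2⟩, ⟨0, 1⟩], !![⟨0, 2⟩, ⟨0, 0⟩; ⟨1, 0⟩, ⟨0, 1⟩], !![⟨0, 2⟩, ⟨0, 0⟩; ⟨2, 1⟩, ⟨0, 1⟩], !![⟨0, 2⟩, ⟨0, 2⟩; ⟨0, 0⟩, ⟨0, 1⟩], !![⟨0, 2⟩, ⟨1, 1⟩; ⟨0, 0⟩, ⟨0, 1⟩], !![⟨0, 2⟩, ⟨2, 0⟩; ⟨0, 0⟩, ⟨0, 1⟩], !![⟨1, 0⟩, ⟨0, 2⟩; ⟨0, 1⟩, ⟨2, 0⟩], !![⟨1, 0⟩, ⟨1, 0⟩; ⟨1,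 0⟩, ⟨2, 0⟩], !![⟨1, 0⟩, ⟨1, 1⟩; ⟨2, 1⟩, ⟨2, 0⟩], !![⟨1, 0⟩, ⟨2, 2⟩; ⟨1, 2⟩, ⟨2, 0⟩], !![⟨1, 1⟩, ⟨2, 0⟩; ⟨1, 2⟩, ⟨2, 2⟩], !![⟨1, 1⟩, ⟨2, 2⟩; ⟨0, 2⟩, ⟨2, 2⟩], !![⟨1, 2⟩, ⟨0, 1⟩; ⟨2, 1⟩, ⟨2, 1⟩], !![⟨1, 2⟩, ⟨1, 1⟩; ⟨2, 0⟩, ⟨2, 1⟩], !![⟨2, 0⟩, ⟨0, 1⟩; ⟨0, 2⟩, ⟨1, 0⟩], !![⟨2, 0⟩, ⟨1, 1⟩; ⟨2, 1⟩, ⟨1, 0⟩], !![⟨2, 0⟩, ⟨2, 0⟩; ⟨2, 0⟩, ⟨1, 0⟩], !![⟨2, 0⟩, ⟨2, 2⟩; ⟨1, 2⟩, ⟨1, 0⟩], !![⟨2, 1⟩, ⟨0, 2⟩; ⟨1, 2⟩, ⟨1, 2⟩], !![⟨2, 1⟩, ⟨2, 2⟩; ⟨1, 0⟩, ⟨1, 2⟩], !![⟨2, 2⟩, ⟨1, 0⟩; ⟨2, 1⟩, ⟨1, 1⟩], !![⟨2, 2⟩, ⟨1, 1⟩; ⟨0, 1⟩, ⟨1, 1⟩]},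
  {!![⟨0, 0⟩, ⟨1, 1⟩; ⟨1, 2⟩, ⟨0, 0⟩], !![⟨0, 0⟩, ⟨2, 2⟩; ⟨2, 1⟩, ⟨0, 0⟩], !![⟨0, 1⟩, ⟨0, 0⟩; ⟨0, 2⟩, ⟨0, 2⟩], !![⟨0, 1⟩, ⟨0, 0⟩; ⟨1, 0⟩, ⟨0, 2⟩], !![⟨0, 1⟩, ⟨0, 0⟩; ⟨2, 1⟩, ⟨0, 2⟩], !![⟨0, 1⟩, ⟨0, 2⟩; ⟨0, 0⟩, ⟨0, 2⟩], !![⟨0, 1⟩, ⟨1, 1⟩; ⟨0, 0⟩, ⟨0, 2⟩], !![⟨0, 1⟩, ⟨2, 0⟩; ⟨0, 0⟩, ⟨0, 2⟩], !![⟨0, 2⟩, ⟨0, 0⟩; ⟨0, 1⟩, ⟨0, 1⟩], !![⟨0, 2⟩, ⟨0, 0⟩; ⟨1, 2⟩, ⟨0, 1⟩], !![⟨0, 2⟩, ⟨0, 0⟩; ⟨2, 0⟩, ⟨0, 1⟩], !![⟨0, 2⟩, ⟨0, 1⟩; ⟨0, 0⟩, ⟨0, 1⟩], !![⟨0, 2⟩, ⟨1, 0⟩; ⟨0, 0⟩, ⟨0, 1⟩], !![⟨0, 2⟩, ⟨2, 2⟩; ⟨0, 0⟩, ⟨0, 1⟩], !![⟨1, 0⟩, ⟨0, 1⟩; ⟨0, 2⟩, ⟨2, 0⟩], !![⟨1, 0⟩, ⟨1, 1⟩; ⟨2,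 1⟩, ⟨2, 0⟩], !![⟨1, 0⟩, ⟨2, 0⟩; ⟨2, 0⟩, ⟨2, 0⟩], !![⟨1, 0⟩, ⟨2, 2⟩; ⟨1, 2⟩, ⟨2, 0⟩], !![⟨1, 1⟩, ⟨1, 0⟩; ⟨2, 1⟩, ⟨2, 2⟩], !![⟨1, 1⟩, ⟨1, 1⟩; ⟨0, 1⟩, ⟨2, 2⟩], !![⟨1, 2⟩, ⟨0, 2⟩; ⟨1, 2⟩, ⟨2, 1⟩], !![⟨1, 2⟩, ⟨2, 2⟩; ⟨1, 0⟩, ⟨2, 1⟩], !![⟨2, 0⟩, ⟨0, 2⟩; ⟨0, 1⟩, ⟨1, 0⟩], !![⟨2, 0⟩, ⟨1, 0⟩; ⟨1, 0⟩, ⟨1, 0⟩], !![⟨2, 0⟩, ⟨1, 1⟩; ⟨2, 1⟩, ⟨1, 0⟩], !![⟨2, 0⟩, ⟨2, 2⟩; ⟨1, 2⟩, ⟨1, 0⟩], !![⟨2, 1⟩, ⟨0, 1⟩; ⟨2, 1⟩, ⟨1, 2⟩], !![⟨2, 1⟩, ⟨1, 1⟩; ⟨2, 0⟩, ⟨1, 2⟩], !![⟨2, 2⟩, ⟨2, 0⟩; ⟨1, 2⟩, ⟨1, 1⟩], !![⟨2, 2⟩, ⟨2, 2⟩; ⟨0, 2⟩, ⟨1, 1⟩]},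
  {!![⟨0, 0⟩, ⟨1, 2⟩; ⟨1, 1⟩, ⟨0, 0⟩], !![⟨0, 0⟩, ⟨2, 1⟩; ⟨2, 2⟩, ⟨0, 0⟩], !![⟨0, 1⟩, ⟨0, 0⟩; ⟨0, 2⟩, ⟨0, 2⟩], !![⟨0, 1⟩, ⟨0, 0⟩; ⟨1, 1⟩, ⟨0, 2⟩], !![⟨0, 1⟩, ⟨0, 0⟩; ⟨2, 0⟩, ⟨0, 2⟩], !![⟨0, 1⟩, ⟨0, 2⟩; ⟨0, 0⟩, ⟨0, 2⟩], !![⟨0, 1⟩, ⟨1, 0⟩; ⟨0, 0⟩, ⟨0, 2⟩], !![⟨0, 1⟩, ⟨2, 1⟩; ⟨0, 0⟩, ⟨0, 2⟩], !![⟨0, 2⟩, ⟨0, 0⟩; ⟨0, 1⟩, ⟨0, 1⟩], !![⟨0, 2⟩, ⟨0, 0⟩; ⟨1, 0⟩, ⟨0, 1⟩], !![⟨0, 2⟩, ⟨0, 0⟩; ⟨2, 2⟩, ⟨0, 1⟩], !![⟨0, 2⟩, ⟨0, 1⟩; ⟨0, 0⟩, ⟨0, 1⟩], !![⟨0, 2⟩, ⟨1, 2⟩; ⟨0, 0⟩, ⟨0, 1⟩], !![⟨0, 2⟩, ⟨2, 0⟩; ⟨0, 0⟩, ⟨0, 1⟩], !![⟨1, 0⟩, ⟨0, 2⟩; ⟨0, 1⟩, ⟨2, 0⟩], !![⟨1, 0⟩, ⟨1, 2⟩; ⟨2,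 2⟩, ⟨2, 0⟩], !![⟨1, 0⟩, ⟨2, 0⟩; ⟨2, 0⟩, ⟨2, 0⟩], !![⟨1, 0⟩, ⟨2, 1⟩; ⟨1, 1⟩, ⟨2, 0⟩], !![⟨1, 1⟩, ⟨0, 1⟩; ⟨1, 1⟩, ⟨2, 2⟩], !![⟨1, 1⟩, ⟨2, 1⟩; ⟨1, 0⟩, ⟨2, 2⟩], !![⟨1, 2⟩, ⟨1, 0⟩; ⟨2, 2⟩, ⟨2, 1⟩], !![⟨1, 2⟩, ⟨1, 2⟩; ⟨0, 2⟩, ⟨2, 1⟩], !![⟨2, 0⟩, ⟨0, 1⟩; ⟨0, 2⟩, ⟨1, 0⟩], !![⟨2, 0⟩, ⟨1, 0⟩; ⟨1, 0⟩, ⟨1, 0⟩], !![⟨2, 0⟩, ⟨1, 2⟩; ⟨2, 2⟩, ⟨1, 0⟩], !![⟨2, 0⟩, ⟨2, 1⟩; ⟨1, 1⟩, ⟨1, 0⟩], !![⟨2, 1⟩, ⟨2, 0⟩; ⟨1, 1⟩, ⟨1, 2⟩], !![⟨2, 1⟩, ⟨2, 1⟩; ⟨0, 1⟩, ⟨1, 2⟩], !![⟨2, 2⟩, ⟨0, 2⟩; ⟨2, 2⟩, ⟨1, 1⟩], !![⟨2, 2⟩, ⟨1, 2⟩; ⟨2, 0⟩, ⟨1, 1⟩]}]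

/-- The permutation of a generator. -/
def perm0 : Equiv.Perm (Fin 6) :=
  ⟨![3, 2, 5, 4, 0, 1], ![4, 5, 1, 0, 3, 2], by decide, by decide⟩

/-- The permutation of a generator. -/
def perm1 : Equiv.Perm (Fin 6) :=
  ⟨![4, 2, 5, 0, 3, 1], ![3, 5, 1, 4, 0, 2], by decide, by decide⟩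

/-- The permutation of a generator. -/
def perm2 : Equiv.Perm (Fin 6) :=
  ⟨![5, 4, 0, 1, 3, 2], ![2, 3, 5, 4, 1, 0], by decide, by decide⟩

/-- The permutation of a generator. -/
def perm3 : Equiv.Perm (Fin 6) :=
  ⟨![2, 4, 5, 1, 3, 0], ![5, 3, 0, 4, 1, 2], by decide, by decide⟩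

theorem objTab_injective : Function.Injective objTab := by decide +kernel

theorem act0 : ∀ i, Classical.PermModel.setAct Classical.PermModel.adj2
    (Matrix.SpecialLinearGroup.transvection (show (0 : Fin 2) ≠ 1 by decide) (1 : K9))
    (objTab i) = objTab (perm0 i) := by decide +kernel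

theorem act1 : ∀ i, Classical.PermModel.setAct Classical.PermModel.adj2
    (Matrix.SpecialLinearGroup.transvection (show (0 : Fin 2) ≠ 1 by decide) (⟨0, 1⟩ : K9))
    (objTab i) = objTab (perm1 i) := by decide +kernel

theorem act2 : ∀ i, Classical.PermModel.setAct Classical.PermModel.adj2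
    (Matrix.SpecialLinearGroup.transvection (show (1 : Fin 2) ≠ 0 by decide) (1 : K9))
    (objTab i) = objTab (perm2 i) := by decide +kernel

theorem act3 : ∀ i, Classical.PermModel.setAct Classical.PermModel.adj2
    (Matrix.SpecialLinearGroup.transvection (show (1 : Fin 2) ≠ 0 by decide) (⟨0, 1⟩ : K9))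
    (objTab i) = objTab (perm3 i) := by decide +kernel

/-- PSL_2(9) is isomorphic to A_6. -/
theorem result {F : Type*} [Field F] [Fintype F] (hF : Fintype.card F = 9) : Nonempty (Matrix.ProjectiveSpecialLinearGroup (Fin 2) F ≃* alternatingGroup (Fin 6)) := by
  let e : F ≃+* K9 := FiniteField.ringEquivOfCardEq (by simp [hF]; rfl)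
  have hc : Fintype.card K9 = 9 := rfl
  have hs := Matrix.ProjectiveSpecialLinearGroup.rank_two_simple (F := K9)
    (by rw [Nat.card_eq_fintype_card, hc]; norm_num)
  have hgen : ∀ c : K9, c = c.re.val • (1 : K9) + c.im.val • (⟨0, 1⟩ : K9) := by decide +kernel
  obtain ⟨f, hf⟩ := Classical.PermModel.exists_injective_hom (fun (a : Equiv.Perm (Fin 6)) i => a i)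
    (fun _ => rfl) (fun _ _ _ => rfl) (fun _ _ h => Equiv.ext h) Classical.PermModel.adj2
    Classical.PermModel.adj2_mul Classical.PermModel.adj2_center objTab objTab_injective _
    (Classical.PermModel.closure_of_unit_transvections ({1, ⟨0, 1⟩} : Set K9) fun c => by
      rw [hgen c]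
      exact add_mem (nsmul_mem (AddSubgroup.subset_closure (by simp)) _)
        (nsmul_mem (AddSubgroup.subset_closure (by simp)) _)) (by
      rintro s ⟨i, j, h, c, hc', rfl⟩
      rcases hc' with rfl | rfl <;> fin_cases i <;> fin_cases j <;> try exact absurd rfl h
      · exact ⟨perm0, act0⟩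
      · exact ⟨perm2, act2⟩
      · exact ⟨perm1, act1⟩
      · exact ⟨perm3, act3⟩) hs ⟨_, 0, fun h => by
        rw [act0] at h; exact absurd (objTab_injective h) (by decide)⟩
  obtain ⟨g⟩ := Classical.SmallIso.nonempty_mulEquiv_alternating f hf (by
    have h := Classical.SmallIso.natCard_pslTwo K9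
    rw [Classical.GL2.natCard_SL_two, hc] at h
    norm_num [Nat.reduceGcd, -Nat.card_eq_fintype_card] at h
    rw [Fintype.card_fin, show Nat.factorial 6 = 720 from rfl]
    omega)
  exact ⟨(Classical.SmallIso.pslCongr e).trans g⟩

end Cfsg.Agent.S0254
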