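import Cfsg.Statements.S2475
import Cfsg.Agent.Lib.Forms.DicksonMax
import Cfsg.Agent.Lib.Forms.DicksonDihedral
-- import your own Cfsg.Agent.* helpers here

set_option autoImplicit false
open Cfsg

namespace Cfsg.Agent.S2475



/-- The set of element orders of PSL(2,q): let F be a finite field of characteristic p with q ≥ 4 elements and d = gcd(2, q − 1). The orders of elements of PSL(2,F) are exactly the divisors of p, of (q − 1)/d and of (q + 1)/d. -/
theorem result {F : Type*} [Field F] [Fintype F] (p : ℕ) [Fact p.Prime] [CharP F p] (h4 : 4 ≤ Fintype.card F) :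
    Set.range (orderOf : Matrix.ProjectiveSpecialLinearGroup (Fin 2) F → ℕ) =
      {m : ℕ | m ∣ p ∨ m ∣ (Fintype.card F - 1) / Nat.gcd 2 (Fintype.card F - 1) ∨ m ∣ (Fintype.card F + 1) / Nat.gcd 2 (Fintype.card F - 1)} := by
  classical
  have hT := Forms.DicksonAction.twoPt (F := F) p
  ext m
  constructor
  · rintro ⟨g, rfl⟩
    by_cases hg : p ∣ orderOf g
    · exact Or.inl (hT.orderOf_eq hg ▸ dvd_refl p)
    · exact (Forms.DicksonList.order_dvd p g hg).symm.imp id id |> fun h => Or.inr h
  · rintro h
    have key : ∀ (c : Matrix.ProjectiveSpecialLinearGroup (Fin 2) F), m ∣ orderOf c →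
        m ∈ Set.range (orderOf : Matrix.ProjectiveSpecialLinearGroup (Fin 2) F → ℕ) := by
      rintro c ⟨t, ht⟩
      have h0 := orderOf_pos c
      rw [ht] at h0
      refine ⟨c ^ t, ?_⟩
      rw [orderOf_pow' c (fun e => by rw [e, mul_zero] at h0; omega), ht, Nat.gcd_mul_left_left,
        Nat.mul_div_cancel _ (Nat.pos_of_ne_zero fun e => by rw [e, mul_zero] at h0; omega)]
    rcases h with h | h | h
    · obtain ⟨u, v, hu, -, hne⟩ := Forms.DicksonMax.psl_not_comm F p
      refine key u ?_
      rwa [orderOf_eq_prime hu fun e => hne (by rw [e, one_mul, mul_one])]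
    · obtain ⟨H, -, -, c, -, y, -, hc, -⟩ := Forms.DicksonDihedral.exists_minus (F := F)
      exact key c (hc ▸ h)
    · obtain ⟨H, -, -, c, -, y, -, hc, -⟩ := Forms.DicksonDihedral.exists_plus (F := F)
      exact key c (hc ▸ h)

end Cfsg.Agent.S2475
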