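import Cfsg.Statements.S3992
import Mathlib
import Cfsg.Agent.S1475
import Cfsg.Agent.Lib.Hall.MinimalNormal
import Cfsg.Agent.Lib.Coprime.Generation
import Cfsg.Agent.Lib.Cores.Basic
import Cfsg.Agent.Lib.Coprime.Basic

set_option autoImplicit false
open Cfsg

namespace Cfsg.Agent.S3992

open Cfsg.Agent

universe u

/-- every nontrivial element has prime power order -/
def CP (G : Type*) [Group G] : Prop := ∀ g : G, g ≠ 1 → IsPrimePow (orderOf g)

theorem CP.sub {G : Type*} [Group G] (h : CP G) (H : Subgroup G) : CP H := fun g hg => by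
  rw [← Subgroup.orderOf_coe]; exact h _ (by simpa using hg)

theorem CP.quot {G : Type*} [Group G] (h : CP G) (N : Subgroup G) [N.Normal] : CP (G ⧸ N) := by
  intro g hg
  obtain ⟨x, rfl⟩ := QuotientGroup.mk'_surjective N g
  have hx : x ≠ 1 := fun hx => hg (by rw [hx, map_one])
  obtain ⟨p, k, hp, hk, he⟩ := h x hx
  have hd := orderOf_map_dvd (QuotientGroup.mk' N) x
  rw [← he] at hd
  obtain ⟨j, hj, hje⟩ := (Nat.dvd_prime_pow hp.nat_prime).mp hd
  refine ⟨p, j, hp, Nat.pos_of_ne_zero fun h0 => hg ?_, hje.symm⟩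
  rwa [h0, pow_zero, orderOf_eq_one_iff] at hje

theorem CP.eq_prime {G : Type*} [Group G] [Finite G] (h : CP G) {a b : G} (hab : Commute a b)
    {r q : ℕ} (hr : r.Prime) (hq : q.Prime) (ha : r ∣ orderOf a) (hb : orderOf b = q) : r = q := by
  by_contra hne
  obtain ⟨c, hc⟩ : ∃ c ∈ Subgroup.zpowers a, orderOf c = r := by
    refine ⟨a ^ (orderOf a / r), Subgroup.npow_mem_zpowers _ _, ?_⟩
    exact orderOf_pow_orderOf_div (orderOf_pos a).ne' ha
  obtain ⟨⟨i, hi⟩, hc2⟩ := hc
  have hcb : Commute c b := hi ▸ hab.zpow_left i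
  have ho : orderOf (c * b) = r * q := by
    rw [hcb.orderOf_mul_eq_mul_orderOf_of_coprime
      (by rw [hc2, hb]; exact (Nat.coprime_primes hr hq).mpr hne), hc2, hb]
  have hne1 : c * b ≠ 1 := fun h1 => by
    rw [h1, orderOf_one] at ho
    exact hr.ne_one (Nat.eq_one_of_mul_eq_one_right ho.symm)
  obtain ⟨s, k, hs, hk, he⟩ := h _ hne1
  rw [ho] at he
  have h1 : r = s := (Nat.prime_dvd_prime_iff_eq hr hs.nat_prime).mp
    (hr.dvd_of_dvd_pow (he ▸ dvd_mul_right r q))
  have h2 : q = s := (Nat.prime_dvd_prime_iff_eq hq hs.nat_prime).mp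
    (hq.dvd_of_dvd_pow (he ▸ dvd_mul_left q r))
  exact hne (h1.trans h2.symm)

theorem CP.isPGroup {G : Type*} [Group G] [Finite G] (h : CP G) {z : G} {q : ℕ} [hq : Fact q.Prime]
    (hz : orderOf z = q) {C : Subgroup G} (hC : ∀ g ∈ C, Commute g z) : IsPGroup q C := by
  rw [IsPGroup.iff_orderOf]
  intro g
  refine ⟨_, Nat.eq_prime_pow_of_unique_prime_dvd (orderOf_pos g).ne' fun {d} hd hdd => ?_⟩
  rw [← Subgroup.orderOf_coe] at hdd
  exact h.eq_prime (hC _ g.2) hd hq.out hdd hz

theorem isSolvable_of_isPGroup {G : Type*} [Group G] [Finite G] {p : ℕ} [Fact p.Prime]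
    (h : IsPGroup p G) : Group.IsSolvable G :=
  haveI := h.isNilpotent
  inferInstance

/-- two elementwise commuting disjoint subgroups, one of them nonsolvable -/
theorem CP.eq_bot {G : Type*} [Group G] [Finite G] (h : CP G) {A B : Subgroup G}
    (hAB : ∀ a ∈ A, ∀ b ∈ B, Commute a b) (hB : ¬ Group.IsSolvable B) : A = ⊥ := by
  by_contra hA
  obtain ⟨q, hq, hqd⟩ := Nat.exists_prime_and_dvd (mt Subgroup.card_eq_one.mp hA)
  haveI := Fact.mk hq
  obtain ⟨a, ha⟩ := exists_prime_orderOf_dvd_card' q hqd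
  apply hB
  exact isSolvable_of_isPGroup (h.isPGroup (z := (a : G)) (by rw [Subgroup.orderOf_coe, ha])
    fun g hg => (hAB _ a.2 g hg).symm)

theorem normal_pgroup_rad {G : Type*} [Group G] [Finite G] (h : CP G) {p q : ℕ} [Fact p.Prime]
    [Fact q.Prime] (hne : q ≠ p) (hns : ¬ Group.IsSolvable G) {P : Subgroup G} [P.Normal]
    (hP : IsPGroup p P) (hP1 : P ≠ ⊥) (Q : Subgroup (G ⧸ P)) [Q.Normal] (hQ : IsPGroup q Q)
    (hQ1 : Q ≠ ⊥) : False := by
  let Z0 : Subgroup (G ⧸ P) :=
    { carrier := {x | x ∈ Q ∧ x ∈ Subgroup.centralizer (Q : Set (G ⧸ P)) ∧ x ^ q = 1}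
      one_mem' := ⟨one_mem _, one_mem _, one_pow _⟩
      mul_mem' := fun {a b} ha hb => ⟨mul_mem ha.1 hb.1, mul_mem ha.2.1 hb.2.1, by
        rw [Commute.mul_pow (Subgroup.mem_centralizer_iff.mp hb.2.1 a ha.1), ha.2.2, hb.2.2,
          one_mul]⟩
      inv_mem' := fun {a} ha => ⟨inv_mem ha.1, inv_mem ha.2.1, by rw [inv_pow, ha.2.2, inv_one]⟩ }
  haveI hZn : Z0.Normal := ⟨fun x hx g => ⟨Subgroup.Normal.conj_mem inferInstance x hx.1 g,
    Subgroup.Normal.conj_mem inferInstance x hx.2.1 g, by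
      rw [conj_pow, hx.2.2, mul_one, mul_inv_cancel]⟩⟩
  obtain ⟨z, hz, hzq⟩ : ∃ z ∈ Z0, orderOf z = q := by
    haveI : Nontrivial Q := Q.nontrivial_iff_ne_bot.mpr hQ1
    obtain ⟨n, hn, hcn⟩ := (hQ.to_subgroup (Subgroup.center Q)).nontrivial_iff_card.mp
      hQ.center_nontrivial
    obtain ⟨c, hc⟩ := exists_prime_orderOf_dvd_card' (G := Subgroup.center Q) q
      (hcn ▸ dvd_pow_self q hn.ne')
    have hcq : orderOf ((c : Q) : G ⧸ P) = q := by
      rw [Subgroup.orderOf_coe, Subgroup.orderOf_coe, hc]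
    refine ⟨((c : Q) : G ⧸ P), ⟨(c : Q).2, ?_, by rw [← hcq]; exact pow_orderOf_eq_one _⟩, hcq⟩
    rw [Subgroup.mem_centralizer_iff]
    intro y hy
    exact congrArg Subtype.val (Subgroup.mem_center_iff.mp c.2 ⟨y, hy⟩)
  have hqbar := h.quot P
  have hcomm : IsMulCommutative Z0 := ⟨⟨fun a b => Subtype.ext
    (Subgroup.mem_centralizer_iff.mp b.2.2.1 a a.2.1)⟩⟩
  by_cases hcyc : IsCyclic Z0
  · let C := Subgroup.centralizer (Z0 : Set (G ⧸ P))
    let f : G ⧸ P →* MulAut Z0 := MulAut.conjNormal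
    have hker : f.ker ≤ C := by
      intro g hg
      rw [Subgroup.mem_centralizer_iff]
      intro y hy
      have := congrArg Subtype.val (DFunLike.congr_fun (MonoidHom.mem_ker.mp hg) ⟨y, hy⟩)
      simp only [f, MulAut.conjNormal_apply, MulAut.one_apply] at this
      calc y * g = g * y * g⁻¹ * g := by rw [this]
        _ = g * y := by group
    have hCs : Group.IsSolvable C := isSolvable_of_isPGroup
      (hqbar.isPGroup hzq (C := C) fun g hg => (Subgroup.mem_centralizer_iff.mp hg z hz).symm)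
    have hks : Group.IsSolvable f.ker :=
      Group.isSolvable_of_isSolvable_injective (f := Subgroup.inclusion hker) (Subgroup.inclusion_injective _)
    have hAs : Group.IsSolvable (MulAut Z0) := by
      haveI := hcyc
      exact Group.isSolvable_of_isSolvable_injective (f := (IsCyclic.mulAutMulEquiv Z0).toMonoidHom)
        (IsCyclic.mulAutMulEquiv Z0).injective
    haveI := hks
    haveI := hAs
    have hbar : Group.IsSolvable (G ⧸ P) :=
      Group.isSolvable_of_ker_le_range f.ker.subtype f (by rw [Subgroup.range_subtype])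
    haveI := isSolvable_of_isPGroup hP
    haveI := hbar
    exact hns (Group.isSolvable_of_ker_le_range P.subtype (QuotientGroup.mk' P)
      (by rw [QuotientGroup.ker_mk', Subgroup.range_subtype]))
  let X := Z0.comap (QuotientGroup.mk' P)
  obtain ⟨S⟩ : Nonempty (Sylow q X) := inferInstance
  let A : Subgroup G := (S : Subgroup X).map X.subtype
  have hA : IsPGroup q A := S.2.map _
  have hAP : A ⊓ P = ⊥ := disjoint_iff.mp (IsPGroup.disjoint_of_ne q p hne A P hA hP)
  let ψ : A →* Z0 := ((QuotientGroup.mk' P).comp A.subtype).codRestrict Z0 fun a => by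
    obtain ⟨x, -, hx⟩ := a.2
    show QuotientGroup.mk' P (a : G) ∈ Z0
    rw [← hx]; exact x.2
  have hψi : Function.Injective ψ := by
    rw [injective_iff_map_eq_one]
    intro a ha
    have h1 : (a : G) ∈ A ⊓ P := ⟨a.2, (QuotientGroup.eq_one_iff _).mp (congrArg Subtype.val ha)⟩
    rw [hAP, Subgroup.mem_bot] at h1
    exact Subtype.ext h1
  have hψs : Function.Surjective ψ := by
    let g : X →* Z0 := (QuotientGroup.mk' P).subgroupComap Z0
    have hg : Function.Surjective g :=
      (QuotientGroup.mk' P).subgroupComap_surjective_of_surjective Z0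
        (QuotientGroup.mk'_surjective P)
    have hZq : IsPGroup q Z0 := hQ.to_le fun x hx => hx.1
    have htop : ((Sylow.mapSurjective hg S : Sylow q Z0) : Subgroup Z0) = ⊤ :=
      ((Sylow.mapSurjective hg S).is_maximal' (hZq.to_subgroup ⊤) le_top).symm
    intro y
    have hy : y ∈ ((Sylow.mapSurjective hg S : Sylow q Z0) : Subgroup Z0) := by
      rw [htop]; exact Subgroup.mem_top _
    obtain ⟨x, hx, rfl⟩ := hy
    exact ⟨⟨x, x, hx, rfl⟩, rfl⟩
  let eA : A ≃* Z0 := MulEquiv.ofBijective ψ ⟨hψi, hψs⟩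
  haveI : IsMulCommutative A := ⟨⟨fun a b => eA.injective (by
    rw [map_mul, map_mul]; exact hcomm.is_comm.comm _ _)⟩⟩
  have hAc : ¬ IsCyclic A := fun hc => hcyc (eA.isCyclic.mp hc)
  have hfix := Coprime.fixedGen_eq hAc (K := P) (by
    intro a _; exact Subgroup.mem_normalizer_iff.mpr fun n => ⟨fun hn =>
      Subgroup.Normal.conj_mem inferInstance n hn a, fun hn => by
        simpa [mul_assoc] using Subgroup.Normal.conj_mem ‹P.Normal› _ hn a⁻¹⟩)
    (IsPGroup.coprime_card_of_ne q p hne A P hA hP)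
  apply hP1
  rw [← hfix, eq_bot_iff]
  refine iSup₂_le fun a ha => ?_
  intro v hv
  rw [Subgroup.mem_bot]
  by_contra hv1
  obtain ⟨hvP, hvc⟩ := hv
  obtain ⟨r, hr, hrv⟩ := Nat.exists_prime_and_dvd (mt orderOf_eq_one_iff.mp hv1)
  obtain ⟨t, ht, hta⟩ := Nat.exists_prime_and_dvd (mt orderOf_eq_one_iff.mp ha.2)
  have h1 : r = p := by
    obtain ⟨k, hk⟩ := IsPGroup.iff_orderOf.mp hP ⟨v, hvP⟩
    rw [Subgroup.orderOf_mk] at hk
    exact (Nat.prime_dvd_prime_iff_eq hr (Fact.out : p.Prime)).mp (hr.dvd_of_dvd_pow (hk ▸ hrv))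
  have h2 : t = q := by
    obtain ⟨k, hk⟩ := IsPGroup.iff_orderOf.mp hA ⟨a, ha.1⟩
    rw [Subgroup.orderOf_mk] at hk
    exact (Nat.prime_dvd_prime_iff_eq ht (Fact.out : q.Prime)).mp (ht.dvd_of_dvd_pow (hk ▸ hta))
  have hav : Commute v a := (Subgroup.mem_centralizer_iff.mp hvc a rfl).symm
  have h3 := h.eq_prime (a := v) (b := a ^ (orderOf a / q)) (hav.pow_right _) hr
    (Fact.out : q.Prime) hrv (orderOf_pow_orderOf_div (orderOf_pos a).ne' (h2 ▸ hta))
  exact hne (h3.symm.trans h1)

theorem exists_pCore {G : Type u} [Group G] [Finite G] {N : Subgroup G} [N.Normal]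
    (hs : Group.IsSolvable N) (hN : N ≠ ⊥) : ∃ p : ℕ, p.Prime ∧ pCore p G ≠ ⊥ := by
  haveI := hs
  haveI : Nontrivial N := N.nontrivial_iff_ne_bot.mpr hN
  obtain ⟨M, hMn, hMN, hM, hmin⟩ := Hall.exists_minimal_normal N hN
  haveI := hMn
  haveI : Group.IsSolvable M :=
    Group.isSolvable_of_isSolvable_injective (f := Subgroup.inclusion hMN) (Subgroup.inclusion_injective _)
  obtain ⟨p, hp, -, hMp, -⟩ := Hall.minimal_normal_isElementaryAbelian hM hmin
  exact ⟨p, hp, fun h => hM (le_bot_iff.mp (h ▸ Cores.le_pCore hMp))⟩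

theorem exists_simple {G : Type u} [Group G] [Finite G] [Nontrivial G] (h : CP G)
    (hrad : ∀ p : ℕ, p.Prime → pCore p G = ⊥) :
    ∃ M : Subgroup G, M.Normal ∧ IsSimpleGroup ↥M ∧ ¬ IsMulCommutative ↥M ∧
        ∀ N : Subgroup G, N.Normal → N ≠ ⊥ → M ≤ N := by
  obtain ⟨M, hMn, -, hM, hmin⟩ := Hall.exists_minimal_normal (⊤ : Subgroup G) top_ne_bot
  haveI := hMn
  have hMs : ¬ Group.IsSolvable M := fun hs => by
    obtain ⟨p, hp, hne⟩ := exists_pCore hs hM
    exact hne (hrad p hp)
  have huniq : ∀ N : Subgroup G, N.Normal → N ≠ ⊥ → M ≤ N := by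
    intro N hN hN1
    by_contra hle
    have hd : Disjoint N M := disjoint_iff.mpr
      (by rw [inf_comm]; exact Hall.minimal_normal_inf_eq_bot hmin hle)
    exact hN1 (h.eq_bot (fun a ha b hb =>
      Subgroup.commute_of_normal_of_disjoint N M hN hMn hd a b ha hb) hMs)
  haveI : Nontrivial M := M.nontrivial_iff_ne_bot.mpr hM
  refine ⟨M, hMn, ?_, fun hc => hMs (Coprime.isSolvable_of_isMulCommutative M), huniq⟩
  refine @IsSimpleGroup.mk _ _ _ fun K hK => ?_
  rw [or_iff_not_imp_left]
  intro hK1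
  obtain ⟨S, hSn, hSK, hS1, hSmin⟩ := Hall.exists_minimal_normal K hK1
  haveI := hSn
  have hSs : ¬ Group.IsSolvable S := fun hs => by
    obtain ⟨p, hp, hne⟩ := exists_pCore hs hS1
    apply hne
    haveI := Cores.normal_map_subtype M (pCore p M)
    have := Cores.le_pCore (N := (pCore p M).map M.subtype) ((Cores.pCore_isPGroup p).map _)
    rw [hrad p hp, le_bot_iff] at this
    exact (Subgroup.map_eq_bot_iff_of_injective _ M.subtype_injective).mp this
  have hinv : ∀ g : G, S.map (MulAut.conjNormal g : M ≃* M).toMonoidHom = S := by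
    intro g
    set T := S.map (MulAut.conjNormal g : M ≃* M).toMonoidHom with hT
    have hTn : T.Normal := Subgroup.Normal.map hSn _ (MulEquiv.surjective _)
    rcases hSmin (T ⊓ S) inferInstance inf_le_right with hd | hd
    · exfalso
      have hT1 : T = ⊥ := (h.sub M).eq_bot (fun a ha b hb =>
        Subgroup.commute_of_normal_of_disjoint T S hTn hSn (disjoint_iff.mpr hd) a b ha hb) hSs
      exact hS1 ((Subgroup.map_eq_bot_iff_of_injective _ (MulEquiv.injective _)).mp hT1)
    · exact (Subgroup.eq_of_le_of_card_ge (inf_eq_right.mp hd) (le_of_eq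
        (Subgroup.card_map_of_injective (MulEquiv.injective _)))).symm
  have hn : (S.map M.subtype).Normal := by
    constructor
    rintro _ ⟨x, hx, rfl⟩ g
    have : (MulAut.conjNormal g : M ≃* M) x ∈ S := by
      rw [← hinv g]; exact ⟨x, hx, rfl⟩
    exact ⟨_, this, MulAut.conjNormal_apply g x⟩
  rcases hmin _ hn (Subgroup.map_subtype_le S) with h1 | h1
  · exact absurd ((Subgroup.map_eq_bot_iff_of_injective _ M.subtype_injective).mp h1) hS1
  · refine eq_top_iff.mpr (le_trans ?_ hSK)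
    intro x _
    have hx : (x : G) ∈ S.map M.subtype := h1.symm ▸ x.2
    obtain ⟨y, hy, hxy⟩ := hx
    rwa [← Subtype.ext hxy]

/-- Let G be a finite non-solvable group in which every element has prime-power order, and let R be its largest solvable normal subgroup. Then R is a p-group for some prime p; G/R has a non-abelian simple normal subgroup contained in every nontrivial normal subgroup of G/R (its unique minimal normal subgroup); and the order of every solvable subgroup of G has at most two prime divisors. -/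
theorem result {G : Type*} [Group G] [Finite G] (hns : ¬ Group.IsSolvable G) (hpp : ∀ g : G, g ≠ 1 → IsPrimePow (orderOf g))
    (R : Subgroup G) [R.Normal] (hRs : Group.IsSolvable ↥R) (hRmax : ∀ N : Subgroup G, N.Normal → Group.IsSolvable ↥N → N ≤ R) :
    (∃ p : ℕ, p.Prime ∧ IsPGroup p ↥R) ∧
      (∃ M : Subgroup (G ⧸ R), M.Normal ∧ IsSimpleGroup ↥M ∧ ¬ IsMulCommutative ↥M ∧
        ∀ N : Subgroup (G ⧸ R), N.Normal → N ≠ ⊥ → M ≤ N) ∧
      ∀ H : Subgroup G, Group.IsSolvable ↥H → (Nat.card ↥H).primeFactors.card ≤ 2 := by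
  have h : CP G := hpp
  refine ⟨?_, ?_, ?_⟩
  · rcases eq_or_ne R ⊥ with rfl | hR
    · exact ⟨2, Nat.prime_two, IsPGroup.of_bot⟩
    obtain ⟨p, hp, hP1⟩ := exists_pCore hRs hR
    haveI := Fact.mk hp
    refine ⟨p, hp, (Cores.pCore_isPGroup p).to_le ?_⟩
    by_contra hle
    let R' := R.map (QuotientGroup.mk' (pCore p G))
    haveI : R'.Normal := Subgroup.Normal.map inferInstance _ (QuotientGroup.mk'_surjective _)
    have hR's : Group.IsSolvable R' :=
      Group.isSolvable_of_surjective ((QuotientGroup.mk' (pCore p G)).subgroupMap_surjective R)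
    have hR'1 : R' ≠ ⊥ := fun hb => hle (by
      rwa [Subgroup.map_eq_bot_iff, QuotientGroup.ker_mk'] at hb)
    obtain ⟨q, hq, hQ1⟩ := exists_pCore hR's hR'1
    haveI := Fact.mk hq
    have hne : q ≠ p := by
      rintro rfl
      exact hQ1 (Cores.pCore_quotient_self q)
    exact normal_pgroup_rad h hne hns (Cores.pCore_isPGroup p) hP1 _
      (Cores.pCore_isPGroup q) hQ1
  · have hnt : Nontrivial (G ⧸ R) := by
      rw [QuotientGroup.nontrivial_iff]
      rintro rfl
      exact hns (Group.isSolvable_of_surjective (f := (Subgroup.topEquiv (G := G)).toMonoidHom)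
        (MulEquiv.surjective _))
    refine exists_simple (h.quot R) fun p hp => ?_
    haveI := Fact.mk hp
    haveI := isSolvable_of_isPGroup (Cores.pCore_isPGroup (G := G ⧸ R) p)
    let N := (pCore p (G ⧸ R)).comap (QuotientGroup.mk' R)
    haveI : N.Normal := Subgroup.Normal.comap inferInstance _
    have hNs : Group.IsSolvable N := by
      let f : N →* pCore p (G ⧸ R) := (QuotientGroup.mk' R).subgroupComap _
      have hRN : R ≤ N := fun r hr => by
        show QuotientGroup.mk' R r ∈ pCore p (G ⧸ R)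
        rw [(QuotientGroup.eq_one_iff r).mpr hr |> fun e => (show QuotientGroup.mk' R r = 1 from e)]
        exact one_mem _
      haveI := hRs
      refine Group.isSolvable_of_ker_le_range (Subgroup.inclusion hRN) f fun x hx => ?_
      have hx' : QuotientGroup.mk' R (x : G) = 1 := congrArg Subtype.val hx
      exact ⟨⟨x, (QuotientGroup.eq_one_iff _).mp hx'⟩, Subtype.ext rfl⟩
    have := Subgroup.map_mono (f := QuotientGroup.mk' R) (hRmax N inferInstance hNs)
    rw [Subgroup.map_comap_eq_self_of_surjective (QuotientGroup.mk'_surjective R),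
      QuotientGroup.map_mk'_self] at this
    exact le_bot_iff.mp this
  · intro H hH
    haveI := hH
    exact S1475.higman _ rfl fun g => (em (g = 1)).symm.imp (fun hg => h.sub H g hg) id

end Cfsg.Agent.S3992
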