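import Cfsg.Statements.S3050
import Cfsg.Agent.Lib.CharP.SL2HigmanGroup

set_option autoImplicit false
open Cfsg

namespace Cfsg.Agent.S3050

open CharP.SL2Natural CharP.SL2FixedPointFree CharP.SL2HigmanGroup
open scoped MatrixGroups IsMulCommutative

/-- An element of order three of `SL(2, K)`, `K` of characteristic two, is conjugate to `ww * uu 1`. -/
theorem exists_conj {K : Type*} [Field K] [Finite K] [CharP K 2] (g : SL(2, K)) (h3 : g ^ 3 = 1) (h1 : g ≠ 1) :
    ∃ P : SL(2, K), P * g * P⁻¹ = ww * uu 1 := by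
  cases nonempty_fintype K
  have hd : g 0 0 * g 1 1 + g 0 1 * g 1 0 = 1 := by
    have h := g.2
    rw [Matrix.det_fin_two] at h
    rw [← CharTwo.sub_eq_add]; exact h
  have hns : ¬ (g 0 1 = 0 ∧ g 1 0 = 0 ∧ g 0 0 = g 1 1) := by
    rintro ⟨h01, h10, h00⟩
    have hs : g 0 0 * g 0 0 = 1 := by
      rw [h01, h10, zero_mul, add_zero, ← h00] at hd; exact hd
    have h : g 0 0 = 1 := by
      have h2 : (g 0 0 + 1) * (g 0 0 + 1) = 0 := by
        rw [show (g 0 0 + 1) * (g 0 0 + 1) = g 0 0 * g 0 0 + 1 + (g 0 0 + g 0 0) by ring, hs,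
          CharTwo.add_self_eq_zero, CharTwo.add_self_eq_zero, add_zero]
      exact CharTwo.add_eq_zero.mp (mul_self_eq_zero.mp h2)
    refine h1 (sl_ext ?_)
    rw [Matrix.SpecialLinearGroup.coe_one]
    ext i j
    fin_cases i <;> fin_cases j <;> simp [h01, h10, h, ← h00]
  -- the trace is one
  obtain ⟨t, ht⟩ : ∃ t, t = g 0 0 + g 1 1 := ⟨_, rfl⟩
  have hh : ((g : Matrix (Fin 2) (Fin 2) K) * g) * g = 1 := by
    have h := congrArg (fun x : SL(2, K) => (x : Matrix (Fin 2) (Fin 2) K)) h3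
    simpa [pow_succ, Matrix.mul_assoc] using h
  have e00 := congrFun (congrFun hh 0) 0
  have e01 := congrFun (congrFun hh 0) 1
  have e10 := congrFun (congrFun hh 1) 0
  have e11 := congrFun (congrFun hh 1) 1
  simp [Matrix.mul_apply, Fin.sum_univ_two] at e00 e01 e10 e11
  have hd' : g 0 0 * g 1 1 - g 0 1 * g 1 0 = 1 := by rw [CharTwo.sub_eq_add]; exact hd
  have k01 : (t ^ 2 - 1) * g 0 1 = 0 := by subst ht; linear_combination e01 + g 0 1 * hd'
  have k10 : (t ^ 2 - 1) * g 1 0 = 0 := by subst ht; linear_combination e10 + g 1 0 * hd'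
  have kd : (t ^ 2 - 1) * (g 0 0 - g 1 1) = 0 := by
    subst ht; linear_combination e00 - e11 + (g 0 0 - g 1 1) * hd'
  have ht1 : t = 1 := by
    have h : t ^ 2 - 1 = 0 := by
      by_contra h
      exact hns ⟨(mul_eq_zero.mp k01).resolve_left h, (mul_eq_zero.mp k10).resolve_left h,
        sub_eq_zero.mp ((mul_eq_zero.mp kd).resolve_left h)⟩
    have h2 : (t + 1) * (t + 1) = 0 := by
      rw [show (t + 1) * (t + 1) = (t ^ 2 - 1) + (1 + 1) * (t + 1) by ring, h, CharTwo.add_self_eq_zero]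
      ring
    exact CharTwo.add_eq_zero.mp (mul_self_eq_zero.mp h2)
  -- a vector independent of its image
  obtain ⟨v₀, v₁, hv⟩ : ∃ v₀ v₁ : K, v₀ * (g 1 0 * v₀ + g 1 1 * v₁) + v₁ * (g 0 0 * v₀ + g 0 1 * v₁) ≠ 0 := by
    by_contra h
    push Not at h
    refine hns ⟨?_, ?_, ?_⟩
    · simpa using h 0 1
    · simpa using h 1 0
    · have e := h 1 1
      have e0 := h 0 1
      have e1 := h 1 0
      simp only [mul_zero, zero_mul, add_zero, zero_add, one_mul, mul_one] at e e0 e1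
      rw [e0, e1, add_zero, zero_add] at e
      exact (CharTwo.add_eq_zero.mp e).symm
  set d := v₀ * (g 1 0 * v₀ + g 1 1 * v₁) + v₁ * (g 0 0 * v₀ + g 0 1 * v₁)
  obtain ⟨s, hs⟩ := (Finite.injective_iff_surjective (f := fun x : K => x ^ 2)).mp
    (frobenius_inj K 2) d⁻¹
  have hs' : s ^ 2 * d = 1 := by rw [show s ^ 2 = d⁻¹ from hs]; exact inv_mul_cancel₀ hv
  let w₀ := g 0 0 * v₀ + g 0 1 * v₁
  let w₁ := g 1 0 * v₀ + g 1 1 * v₁
  let R : SL(2, K) := ⟨!![s * v₀, s * w₀; s * v₁, s * w₁], by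
    rw [Matrix.det_fin_two_of, CharTwo.sub_eq_add, ← hs']
    simp only [w₀, w₁, d]; ring⟩
  have key : g * R = R * (ww * uu 1) := by
    refine sl_ext ?_
    simp only [coe_mul']
    have h11 : g 0 0 + g 1 1 = 1 := ht.symm.trans ht1
    have h2 : (2 : K) = 0 := by rw [← one_add_one_eq_two]; exact CharTwo.add_self_eq_zero 1
    ext i j
    fin_cases i <;> fin_cases j <;> simp [R, w₀, w₁, ww, uu, Matrix.mul_apply, Fin.sum_univ_two, CharTwo.neg_eq]
    · ring
    · linear_combination (s * (g 0 0 * v₀ + g 0 1 * v₁)) * h11 - s * v₀ * hd' - s * v₀ * h2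
    · ring
    · linear_combination (s * (g 1 0 * v₀ + g 1 1 * v₁)) * h11 - s * v₁ * hd' - s * v₁ * h2
  exact ⟨R⁻¹, by rw [inv_inv, mul_assoc, key, inv_mul_cancel_left]⟩


/-- Let G be a finite group with a normal 2-subgroup Q such that G/Q is isomorphic to SL(2, 2ⁿ) with n ≥ 2, and suppose some element of G of order 3 fixes no nonidentity element of Q under conjugation. Then Q is elementary abelian and is the direct product of normal subgroups of G on each of which G acts as SL(2, 2ⁿ) acts on its natural two-dimensional module (a Galois twist of the natural action allowed). -/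
theorem result {G : Type*} [Group G] [Finite G]
    (Q : Subgroup G) [Q.Normal] (hQ : IsPGroup 2 ↥Q) (n : ℕ) (hn : 2 ≤ n)
    (K : Type*) [Field K] [Fintype K] (hK : Fintype.card K = 2 ^ n)
    (e : G ⧸ Q ≃* Matrix.SpecialLinearGroup (Fin 2) K)
    (x : G) (hx : orderOf x = 3) (hfpf : ∀ q ∈ Q, x * q * x⁻¹ = q → q = 1) :
    Cfsg.IsElementaryAbelian 2 Q ∧
      ∃ (k : ℕ) (V : Fin k → Subgroup G), (∀ i, V i ≤ Q ∧ (V i).Normal ∧
        Cfsg.ActsAsSL2OnSection K ⊤ ⊤ (V i) ⊥) ∧ iSupIndep V ∧ ⨆ i, V i = Q := by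
  classical
  haveI : Fact (Nat.Prime 2) := ⟨Nat.prime_two⟩
  haveI : CharP K 2 := by
    refine (CharP.charP_iff_prime_eq_zero Nat.prime_two).mpr ?_
    have h := Nat.cast_card_eq_zero K
    rw [hK, Nat.cast_pow] at h
    exact (pow_eq_zero_iff (by omega)).mp h
  have hKc : ∃ c : K, c ≠ 0 ∧ c ≠ 1 := by
    by_contra h
    push Not at h
    have h2 : Fintype.card K ≤ 2 := by
      calc Fintype.card K = (Finset.univ : Finset K).card := Finset.card_univ.symm
        _ ≤ ({0, 1} : Finset K).card := Finset.card_le_card fun c _ => by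
          by_cases hc : c = 0
          · simp [hc]
          · simp [h c hc]
        _ ≤ 2 := Finset.card_le_two
    have h4 : 2 ^ 2 ≤ 2 ^ n := Nat.pow_le_pow_right (by norm_num) hn
    omega
  have hx3 : x ^ 3 = 1 := hx ▸ pow_orderOf_eq_one x
  let π₀ : G →* SL(2, K) := e.toMonoidHom.comp (QuotientGroup.mk' Q)
  have hker₀ : ∀ y, π₀ y = 1 ↔ y ∈ Q := fun y =>
    (MulEquiv.map_eq_one_iff e).trans (QuotientGroup.eq_one_iff y)
  have hg1 : π₀ x ≠ 1 := by
    intro h
    obtain ⟨j, hj⟩ := hQ ⟨x, (hker₀ x).mp h⟩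
    have hd : 3 ∣ 2 ^ j := hx ▸ orderOf_dvd_of_pow_eq_one (congrArg Subtype.val hj)
    exact absurd (Nat.prime_three.dvd_of_dvd_pow hd) (by norm_num)
  obtain ⟨P, hP⟩ := exists_conj (π₀ x) (by rw [← map_pow, hx3, map_one]) hg1
  let π : G →* SL(2, K) := (MulAut.conj P).toMonoidHom.comp π₀
  have hπ : Function.Surjective π :=
    (MulAut.conj P).surjective.comp (e.surjective.comp (QuotientGroup.mk'_surjective Q))
  have hker : ∀ y, π y = 1 ↔ y ∈ Q := fun y => (MulEquiv.map_eq_one_iff (MulAut.conj P)).trans (hker₀ y)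
  have hπx : π x = ww * uu 1 := hP
  have hQ' : IsPGroup 2 π.ker := by
    rintro ⟨y, hy⟩
    obtain ⟨j, hj⟩ := hQ ⟨y, (hker y).mp hy⟩
    exact ⟨j, Subtype.ext (Subtype.ext_iff.mp hj : y ^ 2 ^ j = 1)⟩
  have hsq : ∀ q ∈ Q, q * q = 1 := fun q hq => sq_eq_one hKc (Nat.card G) G le_rfl π hπ hQ' x hx3 hπx
    (fun y hy => hfpf y ((hker y).mp hy)) q ((hker q).mpr hq)
  have hab : ∀ a ∈ Q, ∀ b ∈ Q, a * b = b * a := fun a ha b hb => by
    have ha' := inv_eq_of_mul_eq_one_right (hsq a ha)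
    have hb' := inv_eq_of_mul_eq_one_right (hsq b hb)
    have hab' := inv_eq_of_mul_eq_one_right (hsq _ (mul_mem ha hb))
    rw [mul_inv_rev, ha', hb'] at hab'
    exact hab'.symm
  haveI hcom : IsMulCommutative ↥Q := ⟨⟨fun a b => Subtype.ext (hab a a.2 b b.2)⟩⟩
  refine ⟨⟨hcom, fun a ha => (sq a).trans (hsq a ha)⟩, ?_⟩
  have hc : ∀ y, π y = 1 → ∀ a ∈ Q, y * a = a * y := fun y hy a ha => hab y ((hker y).mp hy) a ha
  letI := sectAction π hπ Q inferInstance hc
  have hM : Fpf K (Additive ↥Q) :=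
    ⟨fun m => Additive.toMul.injective (Subtype.ext (hsq _ m.toMul.2)),
      sect_rel hπ inferInstance hc hx3 hπx hfpf⟩
  obtain ⟨k, ψ, hψ⟩ := exists_natural (disj hM) (span hM)
  let co : ↥Q → Fin k → Fin 2 → K := fun q => ψ (Additive.ofMul q)
  have coadd : ∀ a b : ↥Q, co (a * b) = co a + co b := fun a b => map_add ψ _ _
  have co1 : co 1 = 0 := map_zero ψ
  have coinv : ∀ a : ↥Q, co a⁻¹ = -co a := fun a => map_neg ψ _
  let V : Fin k → Subgroup G := fun i =>
    { carrier := {g | ∃ h : g ∈ Q, ∀ j, j ≠ i → co ⟨g, h⟩ j = 0}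
      one_mem' := ⟨Q.one_mem, fun j _ => congrFun co1 j⟩
      mul_mem' := by
        rintro a b ⟨ha, ha'⟩ ⟨hb, hb'⟩
        refine ⟨mul_mem ha hb, fun j hj => ?_⟩
        show co (⟨a, ha⟩ * ⟨b, hb⟩) j = 0
        rw [coadd, Pi.add_apply, ha' j hj, hb' j hj, add_zero]
      inv_mem' := by
        rintro a ⟨ha, ha'⟩
        refine ⟨inv_mem ha, fun j hj => ?_⟩
        show co (⟨a, ha⟩⁻¹) j = 0
        rw [coinv, Pi.neg_apply, ha' j hj, neg_zero] }
  have hVQ : ∀ i, V i ≤ Q := fun i g hg => hg.1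
  have hconj : ∀ (y : G) (q : ↥Q) (i : Fin k), co ⟨y * q * y⁻¹, Subgroup.Normal.conj_mem inferInstance _ q.2 y⟩ i =
      Matrix.mulVec ((π y : SL(2, K)) : Matrix (Fin 2) (Fin 2) K) (co q i) := by
    intro y q i
    rw [← hψ]
    refine congrArg (fun m => ψ m i) (Additive.toMul.injective (Subtype.ext ?_))
    rw [sectAction_eq hπ inferInstance hc rfl]
    rfl
  have hVn : ∀ i, (V i).Normal := by
    intro i
    refine ⟨fun g hg y => ?_⟩
    obtain ⟨hgQ, hg'⟩ := hg
    refine ⟨Subgroup.Normal.conj_mem inferInstance _ hgQ y, fun j hj => ?_⟩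
    rw [hconj y ⟨g, hgQ⟩ j, hg' j hj, Matrix.mulVec_zero]
  have hind : iSupIndep V := by
    intro i
    rw [Subgroup.disjoint_def]
    intro g hgi hgs
    let U : Subgroup G :=
      { carrier := {g | ∃ h : g ∈ Q, co ⟨g, h⟩ i = 0}
        one_mem' := ⟨Q.one_mem, congrFun co1 i⟩
        mul_mem' := by
          rintro a b ⟨ha, ha'⟩ ⟨hb, hb'⟩
          refine ⟨mul_mem ha hb, ?_⟩
          show co (⟨a, ha⟩ * ⟨b, hb⟩) i = 0
          rw [coadd, Pi.add_apply, ha', hb', add_zero]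
        inv_mem' := by
          rintro a ⟨ha, ha'⟩
          refine ⟨inv_mem ha, ?_⟩
          show co (⟨a, ha⟩⁻¹) i = 0
          rw [coinv, Pi.neg_apply, ha', neg_zero] }
    have hle : (⨆ (j) (_ : j ≠ i), V j) ≤ U :=
      iSup₂_le fun j hj g hg => ⟨hg.1, hg.2 i (Ne.symm hj)⟩
    obtain ⟨hgQ, hg0⟩ := hle hgs
    obtain ⟨_, hg'⟩ := hgi
    have hz : co ⟨g, hgQ⟩ = 0 := funext fun j => by
      by_cases hj : j = i
      · rw [hj]; exact hg0
      · exact hg' j hj
    exact congrArg (fun q : ↥Q => (q : G))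
      (Additive.ofMul.injective (ψ.injective (hz.trans co1.symm)) : (⟨g, hgQ⟩ : ↥Q) = 1)
  have hsup : ⨆ i, V i = Q := by
    refine le_antisymm (iSup_le hVQ) fun g hg => ?_
    have key : ∀ s : Finset (Fin k), ((ψ.symm (∑ i ∈ s, Pi.single i (co ⟨g, hg⟩ i))).toMul : G) ∈ ⨆ i, V i := by
      intro s
      induction s using Finset.induction_on with
      | empty =>
        rw [Finset.sum_empty, map_zero]
        exact one_mem _
      | insert j s hj ih =>
        rw [Finset.sum_insert hj, map_add, toMul_add, Subgroup.coe_mul]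
        refine mul_mem (Subgroup.mem_iSup_of_mem j ?_) ih
        refine ⟨(ψ.symm _).toMul.2, fun l hl => ?_⟩
        show ψ (ψ.symm (Pi.single j (co ⟨g, hg⟩ j))) l = 0
        rw [AddEquiv.apply_symm_apply, Pi.single_eq_of_ne hl]
    have h := key Finset.univ
    rw [Finset.univ_sum_single] at h
    have e : ψ.symm (co ⟨g, hg⟩) = Additive.ofMul ⟨g, hg⟩ := ψ.symm_apply_apply _
    rw [e] at h
    exact h
  refine ⟨k, V, fun i => ⟨hVQ i, hVn i, ?_⟩, hind, hsup⟩
  refine ⟨fun y _ => ?_, bot_le, π.comp (⊤ : Subgroup G).subtype,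
    MonoidHom.mk' (fun u => Multiplicative.ofAdd (co ⟨u, hVQ i u.2⟩ i))
      (fun a b => ?_), ?_, ?_, ?_, ?_⟩
  · haveI := hVn i
    rw [Subgroup.normalizer_eq_top]
    trivial
  · rw [← ofAdd_add, ← Pi.add_apply, ← coadd]
    rfl
  · refine MonoidHom.range_eq_top.mpr fun g => ?_
    obtain ⟨y, hy⟩ := hπ g
    exact ⟨⟨y, trivial⟩, hy⟩
  · intro v
    let q : ↥Q := (ψ.symm (Pi.single i v.toAdd)).toMul
    have hq : co q = Pi.single i v.toAdd := ψ.apply_symm_apply _
    refine ⟨⟨q, q.2, fun j hj => ?_⟩, ?_⟩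
    · show co q j = 0
      rw [hq, Pi.single_eq_of_ne hj]
    · show Multiplicative.ofAdd (co q i) = v
      rw [hq, Pi.single_eq_same]
      rfl
  · intro u
    rw [Subgroup.mem_bot, MonoidHom.mk'_apply, ofAdd_eq_one]
    obtain ⟨huQ, hu⟩ := u.2
    constructor
    · intro h
      have hz : co ⟨u, huQ⟩ = 0 := funext fun j => by
        by_cases hj : j = i
        · rw [hj]; exact h
        · exact hu j hj
      exact congrArg (fun q : ↥Q => (q : G))
        (Additive.ofMul.injective (ψ.injective (hz.trans co1.symm)) : (⟨(u : G), huQ⟩ : ↥Q) = 1)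
    · intro h
      have h' : (⟨(u : G), huQ⟩ : ↥Q) = 1 := Subtype.ext h
      show co ⟨u, huQ⟩ i = 0
      rw [h', co1]
      rfl
  · intro y u
    exact ⟨⟨_, (hVn i).conj_mem _ u.2 y⟩, rfl, hconj y ⟨u, hVQ i u.2⟩ i⟩

end Cfsg.Agent.S3050
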