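import Cfsg.Statements.S0629
import Cfsg.Agent.InvChar.PConstrained
import Cfsg.Agent.Lib.PLocal.PSolvable

set_option autoImplicit false
open Cfsg

namespace Cfsg.Agent.S0629

/-- A group in which the centralizer of a Sylow p-subgroup of O_{p',p}(G) is p-solvable is p-constrained. -/
theorem result {G : Type*} [Group G] [Finite G] {p : ℕ} [Fact p.Prime] (P : Sylow p ↥(Cfsg.pPrimePCore p G)) (hsol : Cfsg.IsPSolvable p ↥(Subgroup.centralizer (((P : Subgroup ↥(Cfsg.pPrimePCore p G)).map (Cfsg.pPrimePCore p G).subtype : Subgroup G) : Set G))) : Cfsg.IsPConstrained p G := by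
  open Cfsg.Agent.Components.Local Cfsg.Agent.PLocal in
  rw [Cfsg.Agent.InvChar.PConstrained.iff_char]
  refine PSolvable.centralizer_pCore_le Cores.pPrimeCore_quotient_pPrimeCore ?_
  rw [← map_sylow_pPrimePCore P,
    ← map_centralizer_eq (P.isPGroup'.map _) Cores.coprime_card_pPrimeCore]
  exact PSolvable.of_surjective hsol (MonoidHom.subgroupMap_surjective _ _)

end Cfsg.Agent.S0629
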