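import Cfsg.Statements.S1623
import Cfsg.Agent.Lib.IcoLeech.Cent

set_option autoImplicit false
open Quaternion
open Cfsg

namespace Cfsg.Agent.S1623

open Cfsg.Agent.IcoLeech

theorem f0_isRefl : Cfsg.Spor.IsIcoReflection ((f0 : Cfsg.Spor.twoJ2) : Equiv.Perm Cfsg.Spor.icoLeech) :=
  ⟨e0, (isMin_iff e0).1 isMin_e0, f0_apply⟩

theorem transfer {G : Type*} [Group G] {C D : Subgroup G} (e : C ≃* D) (Q : Subgroup C) [Q.Normal]
    (hQ : Cfsg.IsExtraspecial 2 Q) (hc : Nat.card Q = 32)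
    (q : C ⧸ Q ≃* alternatingGroup (Fin 5)) :
    ∃ (R : Subgroup D) (_ : R.Normal), Nat.card R = 32 ∧ Cfsg.IsExtraspecial 2 R ∧
      Nonempty (D ⧸ R ≃* alternatingGroup (Fin 5)) := by
  have hn : (Q.map e.toMonoidHom).Normal := ‹Q.Normal›.map _ e.surjective
  let φ := Q.equivMapOfInjective e.toMonoidHom e.injective
  refine ⟨Q.map e.toMonoidHom, hn, ?_, Cfsg.Agent.LargeExtra.isExtraspecial_of_equiv hQ φ, ?_⟩
  · rw [← Nat.card_congr φ.toEquiv, hc]
  · haveI := hn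
    exact ⟨(QuotientGroup.congr Q (Q.map e.toMonoidHom) e rfl).symm.trans q⟩

/-- A reflection centraliser in the Hall–Janko group is an extension of an extraspecial group of order 32 by the alternating group of degree 5. -/
theorem result (f : Equiv.Perm ↥Cfsg.Spor.icoLeech) (hf : Cfsg.Spor.IsIcoReflection f) (hfm : f ∈ Cfsg.Spor.twoJ2) : ∃ (Q : Subgroup ↥(Subgroup.centralizer {(QuotientGroup.mk ⟨f, hfm⟩ : Cfsg.Spor.J2)})) (_ : Q.Normal), Nat.card Q = 32 ∧ Cfsg.IsExtraspecial 2 Q ∧ Nonempty (↥(Subgroup.centralizer {(QuotientGroup.mk ⟨f, hfm⟩ : Cfsg.Spor.J2)}) ⧸ Q ≃* alternatingGroup (Fin 5)) := by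
  obtain ⟨g, hg, he⟩ := isConj_refl f0_isRefl hf
  have hz : (QuotientGroup.mk ⟨f, hfm⟩ : Cfsg.Spor.J2) =
      (QuotientGroup.mk' _ ⟨g, hg⟩) * zJ * (QuotientGroup.mk' _ ⟨g, hg⟩)⁻¹ := by
    rw [zJ, ← map_inv, ← map_mul, ← map_mul]
    exact congrArg (QuotientGroup.mk' _) (Subtype.ext he.symm)
  set c : Cfsg.Spor.J2 := QuotientGroup.mk' _ ⟨g, hg⟩ with hc
  have hmap : (CJ).map (MulAut.conj c).toMonoidHom = Subgroup.centralizer {(QuotientGroup.mk ⟨f, hfm⟩ : Cfsg.Spor.J2)} := by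
    ext x
    rw [hz, Subgroup.mem_map_equiv, Subgroup.mem_centralizer_singleton_iff, Subgroup.mem_centralizer_singleton_iff,
      MulAut.conj_symm_apply]
    constructor
    · intro h
      have := congrArg (fun y => c * y * c⁻¹) h
      simpa [mul_assoc] using this
    · intro h
      have := congrArg (fun y => c⁻¹ * y * c) h
      simpa [mul_assoc] using this
  exact transfer ((MulEquiv.subgroupMap (MulAut.conj c) CJ).trans (MulEquiv.subgroupCongr hmap)) QJ
    isExtraspecial_QJ card_QJ quotEquiv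

end Cfsg.Agent.S1623
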