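import Cfsg.Statements.S0813
import Cfsg.Agent.Lib.AutPSL.Out

set_option autoImplicit false
open Cfsg

namespace Cfsg.Agent.S0813

open Cfsg.Agent.AutPSL.Basic Cfsg.Agent.AutPSL.Main Cfsg.Agent.AutPSL.Out

/-- |Aut(PSL_n(q))|, q = p^f: for n ≥ 3 it is 2 f |PGL_n(q)|, and for n = 2 (q ≥ 4) it is f |PGL_2(q)|. -/
theorem result {F : Type*} [Field F] [Fintype F] (p f : ℕ) [Fact p.Prime] (hf : 1 ≤ f) (hF : Fintype.card F = p ^ f) (n : ℕ) (hn : 2 ≤ n) (h2 : n = 2 → 4 ≤ p ^ f) : Nat.card (MulAut (Matrix.ProjectiveSpecialLinearGroup (Fin n) F)) = (if n = 2 then 1 else 2) * f * Nat.card (Matrix.ProjGenLinGroup (Fin n) F) := by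
  obtain ⟨ea⟩ := exists_ringAut_equiv (p := p) (f := f) hF
  have hker : ∀ (G : Type _) [Group G] (ψ : MulAut (Matrix.ProjectiveSpecialLinearGroup (Fin n) F) →* G),
      Function.Surjective ψ → ψ.ker = (gAut (n := n) (F := F)).range →
      Nat.card (MulAut (Matrix.ProjectiveSpecialLinearGroup (Fin n) F)) =
        Nat.card G * Nat.card (Matrix.ProjGenLinGroup (Fin n) F) := by
    intro G _ ψ hψ hk
    rw [← ψ.ker.index_mul_card, Subgroup.index_ker, MonoidHom.range_eq_top.2 hψ, Subgroup.card_top, hk]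
    congr 1
    have hcen : (gAut (n := n) (F := F)).ker = Subgroup.center (GL (Fin n) F) :=
      Subgroup.ext fun g => gAut_eq_one_iff hn g
    exact Nat.card_congr ((QuotientGroup.quotientMulEquivOfEq hcen.symm).trans
      (QuotientGroup.quotientKerEquivRange _)).toEquiv.symm
  have hA : Nat.card (F ≃+* F) = f := by
    rw [Nat.card_congr ea.toEquiv, Nat.card_congr Multiplicative.toAdd, Nat.card_zmod]
  by_cases h2' : n = 2
  · subst h2'
    obtain ⟨ψ, hψ, hk⟩ := exists_proj_two (F := F)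
    rw [hker _ ψ hψ hk, hA, if_pos rfl, one_mul]
  · obtain ⟨ψ, hψ, hk⟩ := exists_proj (F := F) (n := n) (by omega)
    rw [hker _ ψ hψ hk, Nat.card_prod, hA, Nat.card_congr Multiplicative.toAdd, Nat.card_zmod,
      if_neg h2', mul_comm f 2]

end Cfsg.Agent.S0813
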