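import Cfsg.Statements.S2429
import Mathlib
import Cfsg.Agent.Lib.Classical.TorusNormalizer
import Cfsg.Agent.Lib.GL2.Counts

set_option autoImplicit false
open Cfsg Matrix
open scoped MatrixGroups
open Cfsg.Agent.Classical Cfsg.Agent.Classical.TorusNormalizer

namespace Cfsg.Agent.S2429

/-- Let F be a finite field with q elements, q odd. Then SL₂ over F contains a cyclic subgroup T′ of order q + 1 (a non-split torus) with the following properties: T′ is its own centraliser, and indeed the centraliser of each element of T′ other than 1 and −1 is exactly T′; every element of SL₂ having no eigenvector in F² is conjugate to an element of T′; the normaliser of T′ has order 2(q + 1) and exactly (q + 7)/2 conjugacy classes; and every element of that normaliser outside T′ has square −1. -/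
theorem result {F : Type*} [Field F] [Fintype F] (hodd : Odd (Fintype.card F)) :
    ∃ T' : Subgroup (Matrix.SpecialLinearGroup (Fin 2) F), IsCyclic T' ∧ Nat.card T' = Fintype.card F + 1 ∧
      Subgroup.centralizer ((T' : Set (Matrix.SpecialLinearGroup (Fin 2) F))) = T' ∧
      (∀ g : Matrix.SpecialLinearGroup (Fin 2) F, g ∈ T' → (g : Matrix (Fin 2) (Fin 2) F) ≠ 1 → (g : Matrix (Fin 2) (Fin 2) F) ≠ -1 → Subgroup.centralizer ({g} : Set (Matrix.SpecialLinearGroup (Fin 2) F)) = T') ∧
      (∀ g : Matrix.SpecialLinearGroup (Fin 2) F, (∀ (c : F) (v : Fin 2 → F), v ≠ 0 → (g : Matrix (Fin 2) (Fin 2) F).mulVec v ≠ c • v) → ∃ h : Matrix.SpecialLinearGroup (Fin 2) F, h * g * h⁻¹ ∈ T') ∧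
      Nat.card (Subgroup.normalizer (T' : Set (Matrix.SpecialLinearGroup (Fin 2) F))) = 2 * (Fintype.card F + 1) ∧
      Nat.card (ConjClasses (Subgroup.normalizer (T' : Set (Matrix.SpecialLinearGroup (Fin 2) F)))) = (Fintype.card F + 7) / 2 ∧
      ∀ g : Matrix.SpecialLinearGroup (Fin 2) F, g ∈ Subgroup.normalizer (T' : Set (Matrix.SpecialLinearGroup (Fin 2) F)) → g ∉ T' → ((g * g) : Matrix (Fin 2) (Fin 2) F) = -1 := by
  classical
  have h2 : (2 : F) ≠ 0 := SylowSL2.two_ne_zero_of_odd hodd
  obtain ⟨A, hA⟩ := Torus.exists_irreducible F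
  haveI : Fact (∀ r : F, r ^ 2 ≠ A + 1 * r) := ⟨hA⟩
  obtain ⟨c, hc⟩ := Torus.norm_surjective (A := A) (B := 1) (-1 : F) (by norm_num)
  have hD := torusData_normOne hodd hc
  have hcard : Nat.card (Torus.torusHom (F := F) (A := A) (B := 1)).range = Fintype.card F + 1 := by
    rw [← Nat.card_congr (MonoidHom.ofInjective Torus.torusHom_injective).toEquiv,
      Torus.natCard_normOne]
  haveI hcyc : IsCyclic (Torus.torusHom (F := F) (A := A) (B := 1)).range :=
    isCyclic_of_surjective (Torus.torusHom (F := F) (A := A) (B := 1)).rangeRestrict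
      (MonoidHom.rangeRestrict_surjective _)
  obtain ⟨hN, hcl⟩ := (hD.dicyclic h2).card_classes _ hD.mem_normalizer
  refine ⟨_, hcyc, hcard, hD.centralizer_eq, fun g hg h1 hm1 => hD.centralizer_singleton hg fun e => ?_,
    fun g hg => ?_, by rw [hN, hcard], ?_, fun g hg hgT => ?_⟩
  · exact hm1 (SylowSL2.eq_neg_one_of_sq h2 g (fun e' => h1 (by rw [e']; rfl)) e)
  · set t := (g : Matrix (Fin 2) (Fin 2) F).trace with ht
    have hns : ¬ IsSquare (t ^ 2 - 4) := by
      rintro ⟨s, hs⟩
      have h0 : GL2.Classes.normForm (g : Matrix (Fin 2) (Fin 2) F) (-(t + s), 2) = 0 := by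
        simp only [GL2.Classes.normForm, ← ht, g.2]
        linear_combination -hs
      exact h2 (congrArg Prod.snd (GL2.Counts.normForm_eq_zero_of_no_eigen hg h0))
    obtain ⟨z, hz⟩ := exists_mem_of_trace (A := A) (B := 1) h2 hns
    have hne : t ^ 2 ≠ 4 := fun e => hns ⟨0, by simp [e]⟩
    have hsc : ∀ x : SL(2, F), (x : Matrix (Fin 2) (Fin 2) F).trace = t →
        ¬ GL2.Classes.IsScalar (x : Matrix (Fin 2) (Fin 2) F) := by
      rintro x hx ⟨a, ha⟩
      have hd := Matrix.SpecialLinearGroup.det_coe x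
      rw [ha, det_smul, det_one, Fintype.card_fin] at hd
      rw [ha, trace_smul, trace_one, Fintype.card_fin] at hx
      simp at hd hx
      exact hne (by rw [← hx]; rcases hd with e | e <;> rw [e] <;> norm_num)
    obtain ⟨x, hx⟩ := isConj_iff.1 (GL2.Classes.isConj_SL_of_surjective (hsc g rfl) (hsc _ hz) hz.symm
      fun c _ => GL2.Classes.exists_normForm_eq (Or.inr (by rw [g.2, mul_one]; exact hne)))
    exact ⟨x, hx ▸ ⟨z, rfl⟩⟩
  · rw [hcard] at hcl
    omega
  · exact (congrArg Subtype.val
      ((hD.dicyclic h2).sq_of_mem (((hD.mem_normalizer g).1 hg).resolve_left hgT)) : _)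

end Cfsg.Agent.S2429
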