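import Cfsg.Statements.S2845
import Cfsg.Agent.Lib.CharP.WeaklyClosed

set_option autoImplicit false
open Cfsg

namespace Cfsg.Agent.S2845

/-- Let Q be a nontrivial large p-subgroup of the finite group H. Then for every subgroup L ≥ Q with O_p(L) ≠ 1, C_H(O_p(L)) is a p-group and L has characteristic p, and either the weak closure L° of Q in L equals Q or C_H(L°) = 1; for every subgroup R of H containing a Sylow p-subgroup of H with O_p(R) ≠ 1, C_H(O_p(R)) ≤ O_p(R); and H has parabolic characteristic p. -/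
theorem result {H : Type*} [Group H] [Finite H] {p : ℕ} [Fact p.Prime] (Q : Subgroup H) (hQp : IsPGroup p ↥Q) (hQ1 : Q ≠ ⊥) (hL : Cfsg.IsLarge Q) : (∀ L : Subgroup H, Q ≤ L → Cfsg.pCore p ↥L ≠ ⊥ → IsPGroup p ↥(Subgroup.centralizer (((Cfsg.pCoreOf p L) : Subgroup H) : Set H)) ∧ Subgroup.centralizer (Cfsg.pCore p ↥L : Set ↥L) ≤ Cfsg.pCore p ↥L ∧ (Cfsg.weakClosure Q L = Q ∨ Subgroup.centralizer (((Cfsg.weakClosure Q L) : Subgroup H) : Set H) = ⊥)) ∧ (∀ R : Subgroup H, Cfsg.IsParabolic p R → Cfsg.pCore p ↥R ≠ ⊥ → Subgroup.centralizer (((Cfsg.pCoreOf p R) : Subgroup H) : Set H) ≤ (Cfsg.pCoreOf p R)) ∧ Cfsg.IsOfParabolicCharacteristic p H := by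
  have hwc := CharP.isLarge_wc hQp hQ1 hL
  have hne : ∀ L : Subgroup H, Cfsg.pCore p ↥L ≠ ⊥ → Cfsg.pCoreOf p L ≠ ⊥ := fun L h h' =>
    h ((Subgroup.map_eq_bot_iff_of_injective _ L.subtype_injective).1 h')
  have key : ∀ Q : Subgroup H, IsPGroup p ↥Q → Q ≠ ⊥ → Cfsg.IsLarge Q → ∀ L : Subgroup H,
      Q ≤ L → Cfsg.pCore p ↥L ≠ ⊥ →
      IsPGroup p ↥(Subgroup.centralizer ((Cfsg.pCoreOf p L : Subgroup H) : Set H)) ∧
        CharP.IsCharP p L := by
    intro Q hQp hQ1 hL L hQL hL1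
    have hCN := CharP.isLarge_centralizer_le hQp hL (CharP.isPGroup_pCoreOf p L) (hne L hL1)
      (hQL.trans (CharP.le_normalizer_pCoreOf p L))
    exact (CharP.centralizer_pCoreOf_of_le_normalizer hQp hL.1 hQL hCN).2
  have hconjR : ∀ R : Subgroup H, Cfsg.IsParabolic p R → ∃ Q' : Subgroup H,
      IsPGroup p ↥Q' ∧ Q' ≠ ⊥ ∧ Cfsg.IsLarge Q' ∧ Q' ≤ R := by
    rintro R ⟨T, hT⟩
    obtain ⟨g, hg⟩ := CharP.exists_conj_le_sylow hQp T
    refine ⟨_, CharP.isPGroup_conj hQp g, fun h => hQ1 ?_, CharP.isLarge_conj hL g, hg.trans hT⟩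
    exact (Subgroup.map_eq_bot_iff_of_injective _ (MulAut.conj g).injective).1 h
  refine ⟨fun L hQL hL1 => ?_, fun R hR hR1 => ?_, fun R hRp hR1 hpar => ?_⟩
  · obtain ⟨h1, h2⟩ := key Q hQp hQ1 hL L hQL hL1
    refine ⟨h1, (CharP.isCharP_iff L).1 h2, ?_⟩
    by_cases hall : ∀ g : H, Q.map (MulAut.conj g).toMonoidHom ≤ L →
        g ∈ Subgroup.normalizer (Q : Set H)
    · left
      refine le_antisymm (CharP.weakClosure_le_iff.2 fun g hg => ?_) (CharP.le_weakClosure hQL)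
      exact (CharP.conj_map_of_mem (hall g hg)).le
    · right
      push Not at hall
      obtain ⟨g, hg, hgN⟩ := hall
      rw [← le_bot_iff, ← CharP.isLarge_inf_centralizer_eq_bot hQp hQ1 hL hgN]
      exact le_inf (Subgroup.centralizer_le (SetLike.coe_subset_coe.2 (CharP.le_weakClosure hQL)))
        (Subgroup.centralizer_le (SetLike.coe_subset_coe.2 (CharP.conj_le_weakClosure hg)))
  · obtain ⟨Q', hp', h1', hL', hle⟩ := hconjR R hR
    obtain ⟨hCp, hchar⟩ := key Q' hp' h1' hL' R hle hR1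
    obtain ⟨T, hT⟩ := hR
    have hTn : (T : Subgroup H) ≤ Subgroup.normalizer
        (Subgroup.centralizer ((Cfsg.pCoreOf p R : Subgroup H) : Set H) : Set H) :=
      (hT.trans (CharP.le_normalizer_pCoreOf p R)).trans
        (CharP.normalizer_le_normalizer_centralizer _)
    have hjoin := hCp.to_sup_of_normal_left' T.isPGroup' hTn
    have hle2 : Subgroup.centralizer ((Cfsg.pCoreOf p R : Subgroup H) : Set H) ≤ R := by
      have e := T.is_maximal' hjoin le_sup_right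
      exact (le_sup_left.trans e.le).trans hT
    exact le_trans (le_inf hle2 le_rfl) hchar
  · obtain ⟨Q', hp', h1', hL', hle⟩ := hconjR _ hpar
    refine (CharP.isCharP_iff _).1 (key Q' hp' h1' hL' _ hle ?_).2
    intro h
    refine hR1 (le_bot_iff.1 ?_)
    rw [show (⊥ : Subgroup H) = Cfsg.pCoreOf p (Subgroup.normalizer (R : Set H)) by
      rw [Cfsg.pCoreOf, h, Subgroup.map_bot]]
    exact CharP.le_pCoreOf Subgroup.le_normalizer le_rfl hRp

end Cfsg.Agent.S2845
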