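import Cfsg.Statements.S3755
import Mathlib
import Cfsg.Agent.Lib.Components.Hyperplane
import Cfsg.Agent.Lib.PLocal.Offender.Basic
import Cfsg.Agent.Lib.Fusion.LocalModels
import Cfsg.Agent.GenA.MinimalAction
import Cfsg.Agent.Lib.PLocal.Cores

set_option autoImplicit false
open Cfsg
open scoped commutatorElement

namespace Cfsg.Agent.S3755
open Subgroup in
theorem three_section {X : Type*} [Group X] [Finite X] {M : Subgroup X} {a y : X} (ha : a ∈ M) (hy : y ∈ M)
    (ha2 : a * a = 1) (ha1 : a ≠ 1) (hy3 : y ^ 3 = 1) (hy1 : y ≠ 1) (hinv : a * y * a = y⁻¹) :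
    Cfsg.Involves (Equiv.Perm (Fin 3)) ↥M := by
  classical
  set K := closure ({⟨a, ha⟩, ⟨y, hy⟩} : Set M) with hK
  set A : Subgroup K := zpowers ⟨⟨a, ha⟩, subset_closure (by simp)⟩ with hA
  have hao : orderOf a = 2 := orderOf_eq_prime (by rw [pow_two, ha2]) ha1
  have hyo : orderOf y = 3 := orderOf_eq_prime hy3 hy1
  have hcase : ∀ (i j : ℕ), a * y ^ i * a = y ^ (2 * i) ∧ y ^ (i + 3 * j) = y ^ i := fun i j => by
    refine ⟨?_, by rw [pow_add, pow_mul, hy3, one_pow, mul_one]⟩
    induction i with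
    | zero => simpa using ha2
    | succ i ih =>
      rw [pow_succ, show a * (y ^ i * y) * a = (a * y ^ i * a) * (a * y * a) by
        rw [show (a * y ^ i * a) * (a * y * a) = a * y ^ i * (a * a) * y * a by group, ha2]; group, ih, hinv,
        show y⁻¹ = y ^ 2 from inv_eq_of_mul_eq_one_right (by rw [← pow_succ', hy3]), ← pow_add, mul_add, mul_one]
  -- `K` consists of `y ^ i` and `y ^ i * a`
  have hmem : ∀ k : K, ∃ i : ℕ, i < 3 ∧ (((k : M) : X) = y ^ i ∨ ((k : M) : X) = y ^ i * a) := by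
    intro k
    have hmod : ∀ i, y ^ i = y ^ (i % 3) := fun i => pow_eq_pow_mod i hy3
    have : ∀ m ∈ K, ∃ i : ℕ, (m : X) = y ^ i ∨ (m : X) = y ^ i * a := by
      intro m hm
      induction hm using closure_induction with
      | mem m hm =>
        rcases hm with rfl | rfl
        · exact ⟨0, Or.inr (by simp)⟩
        · exact ⟨1, Or.inl (by simp)⟩
      | one => exact ⟨0, Or.inl (by simp)⟩
      | mul m n _ _ hm hn =>
        obtain ⟨i, hi | hi⟩ := hm <;> obtain ⟨j, hj | hj⟩ := hn
        · exact ⟨i + j, Or.inl (by rw [Subgroup.coe_mul, hi, hj, pow_add])⟩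
        · exact ⟨i + j, Or.inr (by rw [Subgroup.coe_mul, hi, hj, pow_add, mul_assoc])⟩
        · refine ⟨i + 2 * j, Or.inr ?_⟩
          rw [Subgroup.coe_mul, hi, hj, pow_add, ← (hcase j 0).1]
          rw [show y ^ i * (a * y ^ j * a) * a = y ^ i * a * y ^ j * (a * a) by group, ha2, mul_one]
        · refine ⟨i + 2 * j, Or.inl ?_⟩
          rw [Subgroup.coe_mul, hi, hj, pow_add, ← (hcase j 0).1]
          group
      | inv m _ hm =>
        have hai : a⁻¹ = a := inv_eq_of_mul_eq_one_right ha2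
        have hyi : ∀ i, (y ^ i)⁻¹ = y ^ (2 * i) := fun i => inv_eq_of_mul_eq_one_right (by
          rw [← pow_add, show i + 2 * i = 3 * i by ring, pow_mul, hy3, one_pow])
        obtain ⟨i, hi | hi⟩ := hm
        · exact ⟨2 * i, Or.inl (by rw [Subgroup.coe_inv, hi, hyi])⟩
        · refine ⟨i + 0, Or.inr ?_⟩
          rw [Subgroup.coe_inv, hi, mul_inv_rev, hai, hyi, add_zero]
          calc a * y ^ (2 * i) = a * y ^ (2 * i) * (a * a) := by rw [ha2, mul_one]
            _ = (a * y ^ (2 * i) * a) * a := by group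
            _ = y ^ i * a := by
              rw [(hcase (2 * i) 0).1, show 2 * (2 * i) = i + 3 * i by ring, (hcase i i).2]
    obtain ⟨i, hi⟩ := this k k.2
    exact ⟨i % 3, Nat.mod_lt _ (by norm_num), by rwa [← hmod]⟩
  have hAmem : ∀ k : K, k ∈ A → ((k : M) : X) = 1 ∨ ((k : M) : X) = a := by
    rintro k ⟨i, rfl⟩
    show a ^ i = 1 ∨ a ^ i = a
    have : a ^ i = a ^ (i % 2) := by rw [show (2 : ℤ) = ((orderOf a : ℕ) : ℤ) by rw [hao]; rfl, zpow_mod_orderOf]
    rcases Int.emod_two_eq_zero_or_one i with h | h <;> simp [this, h]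
  let yK : ℕ → K := fun i => ⟨⟨y, hy⟩ ^ i, pow_mem (subset_closure (by simp)) i⟩
  have hidx : A.index = 3 := by
    rw [index, Nat.card_eq_of_bijective (fun i : Fin 3 => (QuotientGroup.mk (yK i) : K ⧸ A)) ⟨?_, ?_⟩ |>.symm]
    · simp
    · intro i j h
      have h1 := hAmem _ (QuotientGroup.eq.mp h)
      rcases h1 with h1 | h1
      · refine Fin.ext (pow_injOn_Iio_orderOf (x := y) ?_ ?_ ?_)
        · rw [Set.mem_Iio, hyo]; exact i.2
        · rw [Set.mem_Iio, hyo]; exact j.2
        · exact inv_mul_eq_one.mp h1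
      · exfalso
        have h2 : a ∈ zpowers y := h1 ▸ mul_mem (inv_mem (npow_mem_zpowers y i)) (npow_mem_zpowers y j)
        have h3 := orderOf_dvd_of_mem_zpowers h2
        rw [hao, hyo] at h3
        omega
    · intro q
      obtain ⟨k, rfl⟩ := QuotientGroup.mk_surjective q
      obtain ⟨i, hi, hk⟩ := hmem k
      refine ⟨⟨i, hi⟩, QuotientGroup.eq.mpr ?_⟩
      rcases hk with hk | hk
      · rw [show (yK i)⁻¹ * k = 1 from Subtype.ext (Subtype.ext (by show (y ^ i)⁻¹ * _ = 1; rw [hk, inv_mul_cancel]))]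
        exact one_mem A
      · rw [show (yK i)⁻¹ * k = ⟨⟨a, ha⟩, subset_closure (by simp)⟩ from Subtype.ext (Subtype.ext (by show (y ^ i)⁻¹ * _ = a; rw [hk, inv_mul_cancel_left]))]
        exact mem_zpowers _
  haveI : Finite (K ⧸ A) := inferInstance
  obtain ⟨e⟩ : Nonempty ((K ⧸ A) ≃ Fin 3) := ⟨Finite.equivFinOfCardEq (by rw [← index_eq_card, hidx])⟩
  let f : K →* Equiv.Perm (Fin 3) := (Equiv.permCongrHom e).toMonoidHom.comp (MulAction.toPermHom K (K ⧸ A))
  have hinj : Function.Injective f := by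
    refine (Equiv.permCongrHom e).injective.comp ?_
    refine (injective_iff_map_eq_one _).mpr fun k hk => ?_
    have h1 : k ∈ A := by
      have h0 := Equiv.ext_iff.mp hk ((1 : K) : K ⧸ A)
      simp only [MulAction.toPermHom_apply, MulAction.toPerm_apply, Equiv.Perm.coe_one, id_eq] at h0
      change ((k * 1 : K) : K ⧸ A) = ((1 : K) : K ⧸ A) at h0
      simpa using QuotientGroup.eq.mp h0
    refine Subtype.ext (Subtype.ext ?_)
    rcases hAmem k h1 with h | h
    · exact h
    · exfalso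
      have h0 := Equiv.ext_iff.mp hk ((yK 1 : K) : K ⧸ A)
      simp only [MulAction.toPermHom_apply, MulAction.toPerm_apply, Equiv.Perm.coe_one, id_eq] at h0
      change ((k * yK 1 : K) : K ⧸ A) = ((yK 1 : K) : K ⧸ A) at h0
      have h2 := hAmem _ (QuotientGroup.eq.mp h0)
      have h3 : ((((k * yK 1)⁻¹ * yK 1 : K) : M) : X) = (a * y ^ 1)⁻¹ * y ^ 1 := by
        show ((((k : K) : M) : X) * y ^ 1)⁻¹ * y ^ 1 = _
        rw [h]
      rw [h3, pow_one, mul_inv_rev, inv_eq_of_mul_eq_one_right ha2] at h2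
      rcases h2 with h2 | h2
      · exact ha1 (by simpa [mul_assoc] using congrArg (fun z => y * z * y⁻¹) h2)
      · have h4 : y⁻¹ * a * y = a * y * y := by rw [← hinv]; simp [mul_assoc, ← mul_assoc a a, ha2]
        rw [h4] at h2
        have : y * y = 1 := by simpa [mul_assoc] using h2
        have h5 : orderOf y ∣ 2 := orderOf_dvd_of_pow_eq_one (by rw [pow_two, this])
        rw [hyo] at h5; norm_num at h5
  have hcard : Nat.card K = 6 := by
    have hcA : Nat.card A = 2 := by
      rw [Nat.card_zpowers, ← orderOf_injective ((M.subtype).comp K.subtype)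
        (M.subtype_injective.comp K.subtype_injective)]
      exact hao
    rw [← A.index_mul_card, hidx, hcA]
  refine Cfsg.Agent.Fusion.LocalModels.involves_of_surj f ?_
  exact ((Nat.bijective_iff_injective_and_card f).2 ⟨hinj, by
    rw [hcard, Nat.card_perm, Nat.card_eq_fintype_card, Fintype.card_fin]; rfl⟩).2

open Subgroup in
theorem weight {X : Type*} [Group X] [Finite X] (M V : Subgroup X) (hV : Cfsg.IsElementaryAbelian 2 V)
    (hMV : M ≤ normalizer (V : Set X)) (hfaith : M ⊓ centralizer (V : Set X) = ⊥)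
    (K : Subgroup X) (hKM : K ≤ M) (hKn : M ≤ normalizer (K : Set X)) (hKodd : ¬ 2 ∣ Nat.card K)
    (hKc : ∀ a ∈ M, a * a = 1 → a ∈ centralizer (K : Set X) → a = 1)
    (hno : ¬ Cfsg.Involves (Equiv.Perm (Fin 3)) ↥M) :
    ∀ (n : ℕ) (A : Subgroup X), Nat.card A ≤ n → A ≤ M → Cfsg.IsElementaryAbelian 2 A →
      Nat.card A ^ 2 ≤ (V ⊓ centralizer (A : Set X)).relIndex V := by
  classical
  haveI : Fact (2 : ℕ).Prime := ⟨Nat.prime_two⟩
  intro n
  induction n with
  | zero => intro A h; exact absurd h (Nat.not_le.mpr Nat.card_pos)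
  | succ n ih =>
  intro A hn hAM hA
  have hAc : ∀ x ∈ A, ∀ z ∈ A, x * z = z * x := fun x hx z hz => Components.Hyperplane.mem_comm hA hx hz
  have hsq : ∀ x ∈ A, x * x = 1 := fun x hx => by rw [← pow_two]; exact hA.2 x hx
  by_cases hA1 : A = ⊥
  · subst hA1
    rw [card_bot, one_pow]
    exact Nat.one_le_iff_ne_zero.mpr index_ne_zero_of_finite
  -- a hyperplane
  obtain ⟨B, hBA, hBi, hBK⟩ : ∃ B ≤ A, B.relIndex A = 2 ∧ ¬ (K ⊓ centralizer (B : Set X) ≤ centralizer (A : Set X)) := by
    have hKA : ¬ K ≤ centralizer (A : Set X) := fun h => hA1 (eq_bot_iff.mpr fun x hx =>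
      mem_bot.mpr (hKc x (hAM hx) (hsq x hx) (le_centralizer_iff.mp h hx)))
    by_cases h4 : 2 ^ 2 ≤ Nat.card A
    · by_contra hcon
      push Not at hcon
      refine hKA ?_
      rw [Components.Hyperplane.eq_iSup_hyperplane hA h4 hKodd (hAM.trans hKn)]
      exact iSup_le fun D => hcon D D.2.1 D.2.2
    · refine ⟨⊥, bot_le, ?_, fun h => hKA ?_⟩
      · rw [relIndex_bot_left]
        obtain ⟨k, hk⟩ := (Components.Hyperplane.isPGroup hA).exists_card_eq
        have hk0 : k ≠ 0 := fun h0 => hA1 (card_eq_one.mp (by rw [hk, h0, pow_zero]))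
        rcases Nat.lt_or_ge k 2 with hk2 | hk2
        · rw [hk, show k = 1 by omega, pow_one]
        · exact absurd (hk ▸ Nat.pow_le_pow_right two_pos hk2) h4
      · exact fun x hx => h ⟨hx, mem_centralizer_iff.mpr fun z hz => by
          rw [show z = 1 from mem_bot.mp hz, one_mul, mul_one]⟩
  obtain ⟨w, ⟨hwK, hwB⟩, hwA⟩ := SetLike.not_le_iff_exists.mp hBK
  obtain ⟨a, haA, haw⟩ : ∃ a ∈ A, a * w ≠ w * a := by
    by_contra hcon
    push Not at hcon
    exact hwA (mem_centralizer_iff.mpr hcon)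
  have haB : a ∉ B := fun h => haw (mem_centralizer_iff.mp hwB a h)
  have ha2 := hsq a haA
  have ha1 : a ≠ 1 := fun h => haB (h ▸ one_mem B)
  have hcardA : Nat.card A = 2 * Nat.card B := by
    rw [← hBi, mul_comm, ← relIndex_bot_left, ← relIndex_bot_left B, relIndex_mul_relIndex _ _ _ bot_le hBA]
  have hAeq : B ⊔ zpowers a = A := eq_of_le_of_card_ge (sup_le hBA (zpowers_le.mpr haA))
    (by rw [PLocal.Offender.card_sup_zpowers hA hBA haA haB, hcardA])
  set c := w⁻¹ * a * w * a with hc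
  have hcK : c ∈ K := by
    rw [hc, show w⁻¹ * a * w * a = w⁻¹ * (a * w * a⁻¹) * (a * a) by group, ha2, mul_one]
    exact K.mul_mem (K.inv_mem hwK) ((mem_normalizer_iff.mp (hKn (hAM haA)) w).mp hwK)
  have hc1 : c ≠ 1 := fun h => haw (by
    have h1 : w⁻¹ * a * w = a⁻¹ := eq_inv_of_mul_eq_one_left h
    rw [inv_eq_of_mul_eq_one_right ha2, mul_assoc, inv_mul_eq_iff_eq_mul] at h1
    exact h1)
  have hainv : a * c * a = c⁻¹ := by
    rw [hc, mul_inv_rev, mul_inv_rev, mul_inv_rev, inv_inv, inv_eq_of_mul_eq_one_right ha2]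
    calc a * (w⁻¹ * a * w * a) * a = a * w⁻¹ * a * w * (a * a) := by group
      _ = _ := by rw [ha2]; group
  have hcB : ∀ b ∈ B, b * c = c * b := by
    intro b hb
    have h1 : Commute b w := mem_centralizer_iff.mp hwB b hb
    have h2 : Commute b a := hAc b (hBA hb) a haA
    exact ((h1.inv_right.mul_right h2).mul_right h1).mul_right h2
  -- a prime order power
  obtain ⟨r, hr, hrd⟩ := Nat.exists_prime_and_dvd (show orderOf c ≠ 1 from mt orderOf_eq_one_iff.mp hc1)
  haveI := Fact.mk hr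
  set y := c ^ (orderOf c / r) with hy
  have hyo : orderOf y = r := orderOf_pow_orderOf_div (orderOf_pos c).ne' hrd
  have hyK : y ∈ K := K.pow_mem hcK _
  have hy1 : y ≠ 1 := fun h => hr.ne_one (by rw [← hyo, h, orderOf_one])
  have hyinv : a * y * a = y⁻¹ := by
    have h1 : a * c * a⁻¹ = c⁻¹ := by rw [inv_eq_of_mul_eq_one_right ha2]; exact hainv
    have h2 : a * y * a⁻¹ = y⁻¹ := by rw [hy, ← conj_pow, h1, inv_pow]
    rwa [inv_eq_of_mul_eq_one_right ha2] at h2
  have hyB : ∀ b ∈ B, b * y = y * b := fun b hb => ((show Commute b c from hcB b hb).pow_right _).eq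
  have hrK : r ∣ Nat.card K := hyo ▸ Subgroup.orderOf_dvd_natCard K hyK
  have hr2 : r ≠ 2 := fun h => hKodd (h ▸ hrK)
  have hr3 : r ≠ 3 := fun h => hno (three_section (hAM haA) (hKM hyK) ha2 ha1
    (by rw [← h, ← hyo, pow_orderOf_eq_one]) hy1 hyinv)
  have hr5 : 5 ≤ r := hr.five_le_of_ne_two_of_ne_three hr2 hr3
  -- the fixed points of `B`
  set Y := zpowers y with hY
  have hYM : Y ≤ M := zpowers_le.mpr (hKM hyK)
  have hVab := hV.1
  obtain ⟨k, hk⟩ := (Components.Hyperplane.isPGroup hV).exists_card_eq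
  have hcop : (Nat.card Y).Coprime (Nat.card V) := by
    rw [Nat.card_zpowers, hyo, hk]
    exact Nat.Coprime.pow_right _ ((Nat.coprime_primes hr Nat.prime_two).mpr hr2)
  set W := ⁅V, Y⁆ with hW
  have hWV : W ≤ V := Coprime.commutator_le_of_le_normalizer (hYM.trans hMV)
  have hWfix : W ⊓ centralizer (Y : Set X) = ⊥ := eq_bot_iff.mpr fun v hv =>
    (Coprime.inf_centralizer_inf_commutator (hYM.trans hMV) hcop).le ⟨⟨hWV hv.1, hv.2⟩, hv.1⟩
  have hW1 : W ≠ ⊥ := by
    intro h
    rw [hW, commutator_eq_bot_iff_le_centralizer] at h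
    have : y ∈ M ⊓ centralizer (V : Set X) := ⟨hKM hyK, le_centralizer_iff.mp h (mem_zpowers y)⟩
    rw [hfaith, mem_bot] at this
    exact hy1 this
  have hBW : B ≤ normalizer (W : Set X) := fun b hb => GenA.MinimalAction.normalizer_commutator
    (hMV (hAM (hBA hb))) (centralizer_le_normalizer _ (mem_centralizer_iff.mpr fun z hz => by
      obtain ⟨i, rfl⟩ := hz
      exact ((show Commute b y from hyB b hb).zpow_right i).eq.symm))
  obtain ⟨u, huW, hu1, huB⟩ : ∃ u ∈ W, u ≠ 1 ∧ u ∈ centralizer (B : Set X) := by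
    set T := W ⊔ B with hT
    have hTp : IsPGroup 2 T := IsPGroup.to_sup_of_normal_left'
      ((Components.Hyperplane.isPGroup hV).to_le hWV) ((Components.Hyperplane.isPGroup hA).to_le hBA) hBW
    haveI := hTp.isNilpotent
    haveI : (W.subgroupOf T).Normal := normal_subgroupOf_of_le_normalizer (sup_le le_normalizer hBW)
    have hne : W.subgroupOf T ≠ ⊥ := fun h => hW1 (by
      have := congrArg (Subgroup.map T.subtype) h
      rwa [map_subgroupOf_eq_of_le le_sup_left, Subgroup.map_bot] at this)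
    obtain ⟨⟨u, huT⟩, ⟨hu, hucen⟩, hu1⟩ := (Subgroup.bot_or_exists_ne_one _).resolve_left (Solvable.Basics.inf_center_ne_bot hne)
    exact ⟨u, hu, fun h => hu1 (Subtype.ext h), mem_centralizer_iff.mpr fun b hb =>
      congrArg Subtype.val (mem_center_iff.mp hucen ⟨b, mem_sup_right hb⟩)⟩
  set CB := V ⊓ centralizer (B : Set X) with hCB
  set CA := V ⊓ centralizer (A : Set X) with hCA
  set U := W ⊓ centralizer (B : Set X) with hU
  have hUY : ∀ v ∈ U, y * v * y⁻¹ ∈ U := by
    intro v hv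
    have hyW : y ∈ normalizer (W : Set X) := GenA.MinimalAction.normalizer_commutator (hMV (hKM hyK)) (le_normalizer (mem_zpowers y))
    refine ⟨(mem_normalizer_iff.mp hyW v).mp hv.1, mem_centralizer_iff.mpr fun b hb => ?_⟩
    have h1 : Commute b y := hyB b hb
    have h2 : Commute b v := mem_centralizer_iff.mp hv.2 b hb
    exact ((h1.mul_right h2).mul_right h1.inv_right).eq
  by_contra hlt
  push Not at hlt
  have hle : CA ≤ CB := inf_le_inf_left _ (centralizer_le hBA)
  have hsplit : CA.relIndex CB * CB.relIndex V = CA.relIndex V := relIndex_mul_relIndex _ _ _ hle inf_le_left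
  have hind : Nat.card B ^ 2 ≤ CB.relIndex V := ih B (by
    have := Nat.card_pos (α := B)
    omega) (hBA.trans hAM) (Components.Hyperplane.isElementaryAbelian_of_le hA hBA)
  have hsmall : CA.relIndex CB ≤ 3 := by
    by_contra h
    push Not at h
    rw [hcardA, mul_pow] at hlt
    have := Nat.mul_le_mul (show 4 ≤ CA.relIndex CB by omega) hind
    omega
  have hidx : ∀ (Z : Subgroup X), Z ≤ V → ∀ R : Subgroup X, R.relIndex Z ≤ 3 → R.relIndex Z ≤ 2 := by
    intro Z hZ R hR
    obtain ⟨l, hl⟩ := ((Components.Hyperplane.isPGroup hV).to_le hZ).exists_card_eq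
    have hd : R.relIndex Z ∣ 2 ^ l := hl ▸ relIndex_dvd_card R Z
    by_contra h
    have h3 : R.relIndex Z = 3 := by omega
    rw [h3] at hd
    exact absurd (Nat.prime_three.dvd_of_dvd_pow hd) (by norm_num)
  have hUB : U ≤ CB := le_inf (inf_le_left.trans hWV) inf_le_right
  have hUa : CA.relIndex U ≤ 2 := hidx U (inf_le_left.trans hWV) CA
    ((relIndex_le_of_le_right hUB index_ne_zero_of_finite).trans hsmall)
  set F := U ⊓ centralizer ({a} : Set X) with hF
  have hCF : ∀ v ∈ U, v ∈ CA → v ∈ F := fun v hv h => ⟨hv, mem_centralizer_singleton_iff.mpr (mem_centralizer_iff.mp h.2 a haA).symm⟩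
  have hFidx : F.relIndex U ≤ 2 := (Nat.le_of_dvd (Nat.pos_of_ne_zero index_ne_zero_of_finite)
    (relIndex_dvd_of_le_left U (fun v hv => hCF v hv.1 hv.2 : U ⊓ CA ≤ F))).trans (((inf_relIndex_left U CA).le).trans hUa)
  set a' := y * a * y⁻¹ with ha'
  set F' := U ⊓ centralizer ({a'} : Set X) with hF'
  have hFeq : F' = F.map (MulAut.conj y).toMonoidHom := by
    ext v
    constructor
    · rintro ⟨hv, hva⟩
      have hv' : y⁻¹ * v * y ∈ U := by
        have hp : ∀ i : ℕ, y ^ i * v * (y ^ i)⁻¹ ∈ U := by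
          intro i
          induction i with
          | zero => simpa using hv
          | succ i ih => simpa [pow_succ', mul_assoc] using hUY _ ih
        have hyi : y⁻¹ = y ^ (r - 1) := inv_eq_of_mul_eq_one_right (by
          rw [← pow_succ', Nat.sub_add_cancel hr.one_le, ← hyo, pow_orderOf_eq_one])
        have := hp (r - 1)
        rwa [← hyi, inv_inv] at this
      refine ⟨y⁻¹ * v * y, ⟨hv', mem_centralizer_singleton_iff.mpr ?_⟩, by simp [mul_assoc]⟩
      have h1 := mem_centralizer_singleton_iff.mp hva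
      calc y⁻¹ * v * y * a = y⁻¹ * (v * a') * y := by rw [ha']; group
        _ = y⁻¹ * (a' * v) * y := by rw [h1]
        _ = a * (y⁻¹ * v * y) := by rw [ha']; group
    · rintro ⟨v, ⟨hv, hva⟩, rfl⟩
      refine ⟨hUY v hv, mem_centralizer_singleton_iff.mpr ?_⟩
      have h1 := mem_centralizer_singleton_iff.mp hva
      show y * v * y⁻¹ * a' = a' * (y * v * y⁻¹)
      calc y * v * y⁻¹ * a' = y * (v * a) * y⁻¹ := by rw [ha']; group
        _ = y * (a * v) * y⁻¹ := by rw [h1]
        _ = a' * (y * v * y⁻¹) := by rw [ha']; group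
  have hUmap : U.map (MulAut.conj y).toMonoidHom = U := eq_of_le_of_card_ge
    (by rintro _ ⟨v, hv, rfl⟩; exact hUY v hv) (by rw [card_map_of_injective (MulAut.conj y).injective])
  have hF'idx : F'.relIndex U ≤ 2 := by
    rw [hFeq]
    conv_lhs => rw [← hUmap]
    rwa [relIndex_map_map_of_injective _ _ (MulAut.conj y).injective]
  have hFF : F ⊓ F' = ⊥ := by
    rw [eq_bot_iff]
    rintro v ⟨⟨hvU, hva⟩, -, hva'⟩
    have h1 : Commute v a := mem_centralizer_singleton_iff.mp hva
    have h2 : Commute v a' := mem_centralizer_singleton_iff.mp hva'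
    have h3 : a * a' = y⁻¹ * y⁻¹ := by
      rw [ha']
      calc a * (y * a * y⁻¹) = (a * y * a) * y⁻¹ := by group
        _ = _ := by rw [hyinv]
    have h4 : Commute v (y ^ 2) := by
      have h5 := (h1.mul_right h2).inv_right
      rwa [h3, mul_inv_rev, inv_inv, ← pow_two] at h5
    obtain ⟨j, hj⟩ := hr.odd_of_ne_two hr2
    have h6 : y = (y ^ 2) ^ (j + 1) := by
      have h7 : y ^ r = 1 := hyo ▸ pow_orderOf_eq_one y
      rw [← pow_mul, show 2 * (j + 1) = r + 1 by omega, pow_succ, h7, one_mul]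
    have h8 : Commute v y := h6 ▸ h4.pow_right (j + 1)
    exact hWfix.le ⟨hvU.1, mem_centralizer_iff.mpr fun z hz => by
      obtain ⟨i, rfl⟩ := hz
      exact (h8.zpow_right i).eq.symm⟩
  have hU4 : Nat.card U ≤ 4 := by
    rw [← relIndex_bot_left, ← hFF]
    exact relIndex_inf_le.trans (Nat.mul_le_mul hFidx hF'idx)
  have huU : u ∈ U := ⟨huW, huB⟩
  have hmem : ∀ i : ℕ, y ^ i * u * (y ^ i)⁻¹ ∈ U := by
    intro i
    induction i with
    | zero => simpa using huU
    | succ i ih => simpa [pow_succ', mul_assoc] using hUY _ ih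
  have hyu : ∀ i : ℕ, i < r → y ^ i * u * (y ^ i)⁻¹ = u → i = 0 := by
    intro i hi h
    by_contra h0
    obtain ⟨j, hj⟩ : ∃ j : ℤ, y = (y ^ i) ^ j := by
      have hne : y ^ i ≠ 1 := pow_ne_one_of_lt_orderOf h0 (hyo ▸ hi)
      have hpo : orderOf (y ^ i) = r := orderOf_eq_prime (by rw [← pow_mul, mul_comm, pow_mul, ← hyo, pow_orderOf_eq_one, one_pow]) hne
      have heq : zpowers (y ^ i) = zpowers y := eq_of_le_of_card_ge (zpowers_le.mpr (npow_mem_zpowers y i))
        (by rw [Nat.card_zpowers, Nat.card_zpowers, hpo, hyo])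
      have : y ∈ zpowers (y ^ i) := heq ▸ mem_zpowers y
      obtain ⟨j, hj⟩ := this
      exact ⟨j, hj.symm⟩
    have h1 : Commute u (y ^ i) := (mul_inv_eq_iff_eq_mul.mp h).symm
    have h2 : Commute u y := hj ▸ h1.zpow_right j
    exact hu1 (mem_bot.mp (hWfix.le ⟨huW, mem_centralizer_iff.mpr fun z hz => by
      obtain ⟨i, rfl⟩ := hz
      exact (h2.zpow_right i).eq.symm⟩))
  have hinj : Function.Injective fun i : Fin r => (⟨y ^ (i : ℕ) * u * (y ^ (i : ℕ))⁻¹, hmem i⟩ : U) := by
    intro i j h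
    have h' : y ^ (i : ℕ) * u * (y ^ (i : ℕ))⁻¹ = y ^ (j : ℕ) * u * (y ^ (j : ℕ))⁻¹ := congrArg Subtype.val h
    rcases le_total (i : ℕ) (j : ℕ) with hle | hle
    · refine Fin.ext ?_
      have := hyu ((j : ℕ) - i) (by omega) (by
        have e : y ^ (j : ℕ) = y ^ (i : ℕ) * y ^ ((j : ℕ) - i) := by rw [← pow_add, Nat.add_sub_cancel' hle]
        rw [e] at h'
        refine mul_left_cancel (a := y ^ (i : ℕ)) (mul_right_cancel (b := (y ^ (i : ℕ))⁻¹) ?_)
        refine Eq.trans ?_ h'.symm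
        group)
      omega
    · refine Fin.ext ?_
      have := hyu ((i : ℕ) - j) (by omega) (by
        have e : y ^ (i : ℕ) = y ^ (j : ℕ) * y ^ ((i : ℕ) - j) := by rw [← pow_add, Nat.add_sub_cancel' hle]
        rw [e] at h'
        refine mul_left_cancel (a := y ^ (j : ℕ)) (mul_right_cancel (b := (y ^ (j : ℕ))⁻¹) ?_)
        refine Eq.trans ?_ h'
        group)
      omega
  have := Nat.card_le_card_of_injective _ hinj
  rw [Nat.card_eq_fintype_card, Fintype.card_fin] at this
  omega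

/-- Let M and V be subgroups of a finite group with V an elementary abelian 2-group, M normalizing V and acting faithfully on it (M ∩ C(V) = 1), and C_M(O_{2'}(M)) ≤ O_{2'}(M). If some elementary abelian 2-subgroup A of M satisfies |V : C_V(A)| < |A|², then M has a section isomorphic to the symmetric group of degree 3. -/
theorem result {X : Type*} [Group X] [Finite X] (M V : Subgroup X) (hV : Cfsg.IsElementaryAbelian 2 V) (hMV : M ≤ Subgroup.normalizer (V : Set X)) (hfaith : M ⊓ Subgroup.centralizer (V : Set X) = ⊥) (hcon : Subgroup.centralizer (Cfsg.pPrimeCore 2 ↥M : Set ↥M) ≤ Cfsg.pPrimeCore 2 ↥M) (A : Subgroup X) (hAM : A ≤ M) (hA : Cfsg.IsElementaryAbelian 2 A) (hsmall : (V ⊓ Subgroup.centralizer (A : Set X)).relIndex V < Nat.card A ^ 2) : Cfsg.Involves (Equiv.Perm (Fin 3)) ↥M := by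
  classical
  haveI : Fact (2 : ℕ).Prime := ⟨Nat.prime_two⟩
  by_contra hno
  set K := (Cfsg.pPrimeCore 2 ↥M).map M.subtype with hK
  refine absurd hsmall (Nat.not_lt.mpr ?_)
  refine weight M V hV hMV hfaith K (Subgroup.map_subtype_le _) ?_ ?_ ?_ hno _ A le_rfl hAM hA
  · intro g hg
    exact GenA.MinimalAction.normalizer_map_of_characteristic (P := M) (K := Cfsg.pPrimeCore 2 ↥M)
      (Subgroup.le_normalizer hg)
  · rw [hK, Subgroup.card_map_of_injective M.subtype_injective]
    exact PLocal.Cores.not_dvd_card_pPrimeCore (by norm_num)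
  · intro a ha ha2 hac
    have h1 : (⟨a, ha⟩ : M) ∈ Cfsg.pPrimeCore 2 ↥M := hcon (Subgroup.mem_centralizer_iff.mpr fun z hz =>
      Subtype.ext (Subgroup.mem_centralizer_iff.mp hac z ⟨z, hz, rfl⟩))
    by_contra ha1
    have h2 : orderOf (⟨a, ha⟩ : M) = 2 := orderOf_eq_prime (Subtype.ext (by rw [pow_two]; exact ha2))
      (fun h => ha1 (congrArg Subtype.val h))
    exact PLocal.Cores.not_dvd_card_pPrimeCore (p := 2) (G := ↥M) (by norm_num)
      (h2.symm.dvd.trans (Subgroup.orderOf_dvd_natCard _ h1))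

end Cfsg.Agent.S3755
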