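import Cfsg.Statements.S1996
import Cfsg.Agent.Techniques.Functor.FusionMain

set_option autoImplicit false
universe u
open Cfsg

namespace Cfsg.Agent.S1996

/-- Let p be a prime, G a finite group and W₁, W₂ two isomorphism-invariant p-group functors (W assigns to every group Q a subgroup W(Q), nontrivial whenever Q is a nontrivial finite p-group, and every isomorphism from a finite p-group Q onto a group R carries W(Q) onto W(R)). Suppose that G* = N_{G*}(W₁(S*)) N_{G*}(W₂(S*)) whenever G* = K/R is a section of G with C_{G*}(O_p(G*)) ≤ O_p(G*) and S* is a Sylow p-subgroup of G*. Then the pair {W₁, W₂} controls strong fusion in G. -/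
theorem result {G : Type u} [Group G] [Finite G] {p : ℕ} [Fact p.Prime] (W₁ W₂ : ∀ (Q : Type u) [Group Q], Subgroup Q) (hW₁ : Cfsg.IsCharPFunctor.{u} p W₁) (hW₂ : Cfsg.IsCharPFunctor.{u} p W₂) (hfac : ∀ (K R : Subgroup G) [hR : (R.subgroupOf K).Normal], Subgroup.centralizer ((Cfsg.pCore p (↥K ⧸ R.subgroupOf K) : Subgroup (↥K ⧸ R.subgroupOf K)) : Set (↥K ⧸ R.subgroupOf K)) ≤ Cfsg.pCore p (↥K ⧸ R.subgroupOf K) → ∀ T : Sylow p (↥K ⧸ R.subgroupOf K), ∀ x : (↥K ⧸ R.subgroupOf K), ∃ a ∈ Subgroup.normalizer ((Cfsg.inducedFunctor (G := (↥K ⧸ R.subgroupOf K)) W₁ (T : Subgroup (↥K ⧸ R.subgroupOf K)) : Subgroup (↥K ⧸ R.subgroupOf K)) : Set (↥K ⧸ R.subgroupOf K)), ∃ b ∈ Subgroup.normalizer ((Cfsg.inducedFunctor (G := (↥K ⧸ R.subgroupOf K)) W₂ (T : Subgroup (↥K ⧸ R.subgroupOf K)) : Subgroup (↥K ⧸ R.subgroupOf K)) : Set (↥K ⧸ R.subgroupOf K)), x = a * b) : Cfsg.FamilyControlsStrongFusionIn p {Cfsg.inducedFunctor (G := G) W₁, Cfsg.inducedFunctor (G := G) W₂} ⊤ := by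
  have h𝓦 : ∀ V ∈ ({W₁, W₂} : Set (∀ (Q : Type u) [Group Q], Subgroup Q)),
      Cfsg.IsCharPFunctor.{u} p V := by
    rintro V (rfl | rfl)
    exacts [hW₁, hW₂]
  have key := Cfsg.Agent.Techniques.Functor.fc_of_constrained (G := G) h𝓦
    (Cfsg.Agent.Techniques.Functor.fc_constrained_sections h𝓦 fun K R _ hc S A g _ hA hg => by
      obtain ⟨a, ha, b, hb, hab⟩ := hfac K R hc S g
      set N₁ := Subgroup.normalizer
        ((Cfsg.inducedFunctor (G := (↥K ⧸ R.subgroupOf K)) W₁
          (S : Subgroup (↥K ⧸ R.subgroupOf K)) : Subgroup (↥K ⧸ R.subgroupOf K)) :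
            Set (↥K ⧸ R.subgroupOf K)) with hN₁
      set N₂ := Subgroup.normalizer
        ((Cfsg.inducedFunctor (G := (↥K ⧸ R.subgroupOf K)) W₂
          (S : Subgroup (↥K ⧸ R.subgroupOf K)) : Subgroup (↥K ⧸ R.subgroupOf K)) :
            Set (↥K ⧸ R.subgroupOf K)) with hN₂
      have hS₁ : (S : Subgroup _) ≤ N₁ := Subgroup.le_normalizer.trans
        (Cfsg.Agent.Techniques.Functor.normalizer_le_functor
          (Cfsg.Agent.Techniques.Functor.isConjugacyFunctor_induced hW₁) S.2)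
      have hS₂ : (S : Subgroup _) ≤ N₂ := Subgroup.le_normalizer.trans
        (Cfsg.Agent.Techniques.Functor.normalizer_le_functor
          (Cfsg.Agent.Techniques.Functor.isConjugacyFunctor_induced hW₂) S.2)
      set X := (Subgroup.closure A).map (Cfsg.Agent.Techniques.Functor.cnj b) with hX
      have hgX : (Subgroup.closure A).map (Cfsg.Agent.Techniques.Functor.cnj g) ≤ (S : Subgroup _) :=
        Cfsg.Agent.Techniques.Functor.map_closure_le hg
      have hX₂ : X ≤ N₂ := (Subgroup.map_mono (((Subgroup.closure_le _).mpr hA).trans hS₂)).trans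
        (Cfsg.Agent.Techniques.Functor.map_cnj_eq_self.mpr (Subgroup.le_normalizer hb)).le
      have hX₁ : X ≤ N₁ := by
        have e : X = ((Subgroup.closure A).map (Cfsg.Agent.Techniques.Functor.cnj g)).map
            (Cfsg.Agent.Techniques.Functor.cnj a⁻¹) := by
          rw [Cfsg.Agent.Techniques.Functor.map_cnj_cnj, hab, inv_mul_cancel_left]
        rw [e]
        exact (Subgroup.map_mono (hgX.trans hS₁)).trans
          (Cfsg.Agent.Techniques.Functor.map_cnj_eq_self.mpr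
            (Subgroup.le_normalizer (Subgroup.inv_mem _ ha))).le
      have hs := Cfsg.Agent.Techniques.Functor.sylIn_of_le S (le_inf hS₁ hS₂)
      obtain ⟨d, hd, hdX⟩ := Cfsg.Agent.Techniques.exists_conj_le_of_not_dvd_relIndex
        hs.1 hs.2.1 hs.2.2 ((S.2.to_le ((Subgroup.closure_le _).mpr hA)).map _) (le_inf hX₁ hX₂)
      have h1 : Cfsg.Agent.Techniques.Functor.Reach
          (Cfsg.Agent.Techniques.Functor.steps
            (Cfsg.Agent.Techniques.Functor.induced {W₁, W₂} (↥K ⧸ R.subgroupOf K)) ⊤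
            (S : Subgroup _)) S A (d * b) := by
        refine Cfsg.Agent.Techniques.Functor.Reach.single
          ⟨_, ⟨W₂, Or.inr rfl, rfl⟩, Subgroup.mem_inf.mpr ⟨Subgroup.mem_top _,
            Subgroup.mul_mem _ (Subgroup.mem_inf.mp hd).2 hb⟩⟩ ?_
        rw [← Cfsg.Agent.Techniques.Functor.cimg_cimg]
        rintro _ ⟨_, ⟨x, hx, rfl⟩, rfl⟩
        exact hdX _ (Cfsg.Agent.Techniques.conj_mem_map_conj (Subgroup.subset_closure hx))
      have h2 := h1.trans (k := a * d⁻¹) (by
        refine Cfsg.Agent.Techniques.Functor.Reach.single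
          ⟨_, ⟨W₁, Or.inl rfl, rfl⟩, Subgroup.mem_inf.mpr ⟨Subgroup.mem_top _,
            Subgroup.mul_mem _ ha (Subgroup.inv_mem _ (Subgroup.mem_inf.mp hd).1)⟩⟩ ?_
        rw [Cfsg.Agent.Techniques.Functor.cimg_cimg,
          show a * d⁻¹ * (d * b) = g by rw [hab]; group]
        exact hg)
      rwa [show a * d⁻¹ * (d * b) = g by rw [hab]; group] at h2)
    G (Cfsg.Agent.Techniques.Functor.IsSec.refl G)
  have h := (Cfsg.Agent.Techniques.Functor.fc_iff h𝓦).mpr key
  rwa [Cfsg.Agent.Techniques.Functor.induced, Set.image_pair] at h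

end Cfsg.Agent.S1996
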