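import Cfsg.Statements.S2761
import Cfsg.Agent.Lib.CharP.QdBasic
import Cfsg.Agent.Lib.CharP.Basic

set_option autoImplicit false
open Cfsg

namespace Cfsg.Agent.S2761

open CharP.QdBasic Matrix

/-- The action on the affine plane. -/
noncomputable def act (M : ↥(Cfsg.qdOver (ZMod 2))) (y : Fin 2 → ZMod 2) : Fin 2 → ZMod 2 :=
  (coord.symm M).1.1.mulVec y + (coord.symm M).2

theorem act_el (A : Matrix.SpecialLinearGroup (Fin 2) (ZMod 2)) (x y : Fin 2 → ZMod 2) :
    act (el A x) y = A.1.mulVec y + x := by rw [act, coord_symm_el]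

theorem act_one (y : Fin 2 → ZMod 2) : act 1 y = y := by
  rw [← el_one, act_el, Matrix.SpecialLinearGroup.coe_one, one_mulVec, add_zero]

theorem act_mul (M N : ↥(Cfsg.qdOver (ZMod 2))) (y : Fin 2 → ZMod 2) :
    act (M * N) y = act M (act N y) := by
  obtain ⟨A, x, rfl⟩ := exists_el M
  obtain ⟨B, z, rfl⟩ := exists_el N
  rw [el_mul, act_el, act_el, act_el, mulVec_add, mulVec_mulVec, Matrix.SpecialLinearGroup.coe_mul]
  abel

/-- The group Qd(2), the natural semidirect product of an elementary abelian group of order 4 by SL₂(2) (realised as the affine subgroup of SL₃(2)), is isomorphic to the symmetric group of degree 4. -/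
theorem result : Nonempty (↥(Cfsg.qd 2) ≃* Equiv.Perm (Fin 4)) := by
  classical
  let φ : ↥(Cfsg.qdOver (ZMod 2)) →* Equiv.Perm (Fin 2 → ZMod 2) :=
    { toFun := fun M => ⟨act M, act M⁻¹, fun y => by rw [← act_mul, inv_mul_cancel, act_one],
        fun y => by rw [← act_mul, mul_inv_cancel, act_one]⟩
      map_one' := Equiv.ext act_one
      map_mul' := fun M N => Equiv.ext (act_mul M N) }
  have hinj : Function.Injective φ := by
    rw [injective_iff_map_eq_one]
    intro M hM
    obtain ⟨A, x, rfl⟩ := CharP.QdBasic.exists_el M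
    have h : ∀ y, A.1.mulVec y + x = y := fun y =>
      (act_el A x y).symm.trans (Equiv.congr_fun hM y)
    have hx : x = 0 := by have := h 0; rwa [Matrix.mulVec_zero, zero_add] at this
    subst hx
    rw [show A = 1 from Subtype.ext (Matrix.ext_iff_mulVec.2 fun y => by simpa using h y)]
    exact CharP.QdBasic.el_one
  have hcard : Nat.card ↥(Cfsg.qdOver (ZMod 2)) = Nat.card (Equiv.Perm (Fin 2 → ZMod 2)) := by
    rw [CharP.QdBasic.natCard_qdOver, Classical.GL2.natCard_SL_two, Nat.card_perm, Nat.card_fun,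
      Nat.card_fin, Nat.card_eq_fintype_card, ZMod.card]
    rfl
  exact ⟨(MulEquiv.ofBijective φ ((Nat.bijective_iff_injective_and_card φ).2 ⟨hinj, hcard⟩)).trans
    (Equiv.permCongrHom (Fintype.equivFinOfCardEq (by simp)))⟩

end Cfsg.Agent.S2761
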