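import Cfsg.Statements.S0496
import Cfsg.Agent.Lib.SmallSimple.Sieve1092
import Cfsg.Agent.Lib.SmallSimple.Orders1092
import Cfsg.Agent.Lib.Characters.Burnside

set_option autoImplicit false
set_option linter.style.haveILetI false
open Cfsg

namespace Cfsg.Agent.S0496

open Cfsg.Agent

/-- A non-abelian finite simple group of order at most 1092 has order 60, 168, 360, 504, 660 or 1092. -/
theorem result {G : Type*} [Group G] [Finite G] [IsSimpleGroup G]
    (hG : ¬ IsMulCommutative G) (h : Nat.card G ≤ 1092) :
    Nat.card G = 60 ∨ Nat.card G = 168 ∨ Nat.card G = 360 ∨ Nat.card G = 504 ∨ Nat.card G = 660 ∨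
      Nat.card G = 1092 := by
  have hnp : ¬ (Nat.card G).Prime := fun hp => hG (by
    haveI := Fact.mk hp
    haveI : IsCyclic G := isCyclic_of_prime_card (p := Nat.card G) rfl
    letI := IsCyclic.commGroup (α := G)
    exact ⟨⟨mul_comm⟩⟩)
  have h1 : 1 < Nat.card G := Finite.one_lt_card
  have hs := SmallSimple.Sieve1092.sieve _ (Finset.mem_range.2 (Nat.lt_succ_of_le h)) h1
    (SmallSimple.Filter.ok_list hG SmallSimple.Sieve1092.plist_prime)
  have hburn : ∀ a b : ℕ, Nat.card G ≠ 2 ^ a * 3 ^ b := by
    intro a b hab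
    haveI := Cfsg.Agent.Characters.burnside_pa_qb (by norm_num : Nat.Prime 2) (by norm_num : Nat.Prime 3) hab
    exact hG ⟨⟨fun x y => IsSimpleGroup.comm_iff_isSolvable.2 inferInstance x y⟩⟩
  simp only [List.mem_cons, List.not_mem_nil, or_false] at hs
  rcases hs with e | e | e | e | e | e | e | e | e | e | e | e | e | e
  all_goals first
    | (simp only [e]; norm_num; done)
    | exact absurd (e.trans (by norm_num : 288 = 2 ^ 5 * 3 ^ 2)) (hburn 5 2)
    | exact absurd (e.trans (by norm_num : 576 = 2 ^ 6 * 3 ^ 2)) (hburn 6 2)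
    | exact absurd e SmallSimple.Orders1092.ne_612
    | exact absurd e SmallSimple.Orders1092.ne_720
    | exact absurd e SmallSimple.Orders1092.ne_756
    | exact absurd e SmallSimple.Orders1092.ne_1008
    | exact absurd e SmallSimple.Orders1092.ne_1040
    | exact absurd e SmallSimple.Orders1092.ne_1080

end Cfsg.Agent.S0496
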