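import Cfsg.Statements.S0160
import Cfsg.Agent.Lib.Characters.Counting
-- import your own Cfsg.Agent.* helpers here

set_option autoImplicit false
open Cfsg

namespace Cfsg.Agent.S0160

/-- A finite group has as many real-valued irreducible complex characters as conjugacy classes closed under taking inverses. -/
theorem result {G : Type*} [Group G] [Finite G] : Nat.card {χ : Cfsg.IrrCharacter G // ∀ g : G, ((χ : G → ℂ) g).im = 0} = Nat.card {C : ConjClasses G // ∀ g : G, ConjClasses.mk g = C → IsConj g g⁻¹} := by
  classical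
  haveI := Fintype.ofFinite G
  haveI := Fintype.ofFinite (Cfsg.IrrCharacter G)
  set P : ConjClasses G → Prop := fun C => ∀ g : G, ConjClasses.mk g = C → IsConj g g⁻¹ with hP
  have hPiff : ∀ g : G, P (ConjClasses.mk g) ↔ IsConj g g⁻¹ := fun g =>
    ⟨fun h => h g rfl, fun h x hx => by
      have hxg : IsConj x g := ConjClasses.mk_eq_mk_iff_isConj.1 hx
      obtain ⟨y, hy⟩ := isConj_iff.1 hxg.symm
      exact hxg.trans (h.trans (isConj_iff.2 ⟨y, by rw [← hy]; simp [mul_assoc]⟩))⟩
  have hleft : ∑ χ : Cfsg.IrrCharacter G,
      Cfsg.classInner (χ : G → ℂ) (Characters.irrConjEquiv G χ : G → ℂ) =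
      (Nat.card {χ : Cfsg.IrrCharacter G // ∀ g : G, ((χ : G → ℂ) g).im = 0} : ℂ) := by
    have hiff : ∀ χ : Cfsg.IrrCharacter G,
        χ = Characters.irrConjEquiv G χ ↔ ∀ g : G, ((χ : G → ℂ) g).im = 0 := fun χ => by
      rw [Subtype.ext_iff, funext_iff]
      simp only [Characters.irrConjEquiv_coe]
      exact forall_congr' fun g => by rw [eq_comm, Complex.conj_eq_iff_im]
    simp only [Characters.classInner_irr, hiff]
    rw [Finset.sum_boole, Nat.card_eq_fintype_card, Fintype.card_subtype]
  have hright : ∑ χ : Cfsg.IrrCharacter G,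
      Cfsg.classInner (χ : G → ℂ) (Characters.irrConjEquiv G χ : G → ℂ) =
      (Nat.card {C : ConjClasses G // P C} : ℂ) := by
    simp only [Characters.classInner_def, Characters.irrConjEquiv_coe, Complex.conj_conj]
    rw [← Finset.mul_sum, Finset.sum_comm,
      inv_mul_eq_iff_eq_mul₀ Characters.natCard_ne_zero, ← Characters.sum_card_centralizer P]
    refine Finset.sum_congr rfl fun g _ => ?_
    have h1 := Characters.second_orthogonality g g⁻¹
    simp only [fun χ : Cfsg.IrrCharacter G => Characters.char_inv (Characters.irr_isCharacter χ) g,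
      Complex.conj_conj] at h1
    rw [h1]
    have hc : Subgroup.centralizer ({g⁻¹} : Set G) = Subgroup.centralizer ({g} : Set G) := by
      ext x
      simp only [Subgroup.mem_centralizer_singleton_iff]
      exact Commute.inv_right_iff
    rw [hc]
    simp only [hPiff]
    split_ifs <;> rfl
  exact_mod_cast hleft.symm.trans hright

end Cfsg.Agent.S0160
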