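import Cfsg.Statements.S4444
import Cfsg.Agent.BlockCharsA.Glauberman
import Cfsg.Agent.BlockCharsA.DefectZeroVanish

set_option autoImplicit false
open Cfsg Cfsg.Agent.Blocks Cfsg.Agent.Characters Cfsg.Agent.BlockCharsA

namespace Cfsg.Agent.S4444

/-- The Glauberman correspondence for a p-group of operators. Inside a finite group Γ let S normalise G with the orders of G and S coprime, S a p-group, and let C = G ⊓ C(S) be the fixed points. Call an irreducible character χ of G S-invariant when χ(s g s⁻¹) = χ(g) for s ∈ S, g ∈ G. Then: (i) for every S-invariant χ there is exactly one irreducible character β of C whose multiplicity [χ_C, β] in the restriction of χ is not divisible by p; (ii) that multiplicity is ≡ 1 or ≡ −1 (mod p); (iii) distinct S-invariant χ give distinct β; (iv) every irreducible character of C arises in this way. So χ ↦ β is a bijection from the S-invariant irreducible characters of G onto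 the irreducible characters of C. -/
theorem result {Γ : Type*} [Group Γ] [Fintype Γ] (G S : Subgroup Γ) [Fintype G] (hnorm : ∀ s ∈ S, ∀ g ∈ G, s * g * s⁻¹ ∈ G) (hcop : (Nat.card G).Coprime (Nat.card S)) (p : ℕ) (hp : p.Prime) (hS : IsPGroup p S) (C : Subgroup Γ) [Fintype C] (hC : C = G ⊓ Subgroup.centralizer (S : Set Γ)) (hCG : C ≤ G) : (∀ χ : Cfsg.IrrCharacter G, (∀ s ∈ S, ∀ g g' : G, (g' : Γ) = s * g * s⁻¹ → (χ : G → ℂ) g' = (χ : G → ℂ) g) → ∃! β : Cfsg.IrrCharacter C, ∃ m : ℕ, Cfsg.classInner (fun c : C => (χ : G → ℂ) ⟨c, hCG c.2⟩) (β : C → ℂ) = (m : ℂ) ∧ ¬ p ∣ m) ∧ (∀ χ : Cfsg.IrrCharacter G, (∀ s ∈ S, ∀ g g' : G, (g' : Γ) = s * g * s⁻¹ → (χ : G → ℂ) g' = (χ : G → ℂ) g) → ∀ β : Cfsg.IrrCharacter C, ∀ m : ℕ, Cfsg.classInner (fun c : C => (χ : G → ℂ) ⟨c, hCG c.2⟩) (β : C → ℂ) = (m : ℂ) → ¬ p ∣ m → ((m : ℤ) ≡ 1 [ZMOD p] ∨ (m : ℤ) ≡ -1 [ZMOD p])) ∧ (∀ χ χ' : Cfsg.IrrCharacter G, (∀ s ∈ S, ∀ g g' : G, (g' : Γ)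 = s * g * s⁻¹ → (χ : G → ℂ) g' = (χ : G → ℂ) g) → (∀ s ∈ S, ∀ g g' : G, (g' : Γ) = s * g * s⁻¹ → (χ' : G → ℂ) g' = (χ' : G → ℂ) g) → ∀ β : Cfsg.IrrCharacter C, ∀ m m' : ℕ, Cfsg.classInner (fun c : C => (χ : G → ℂ) ⟨c, hCG c.2⟩) (β : C → ℂ) = (m : ℂ) → ¬ p ∣ m → Cfsg.classInner (fun c : C => (χ' : G → ℂ) ⟨c, hCG c.2⟩) (β : C → ℂ) = (m' : ℂ) → ¬ p ∣ m' → χ = χ') ∧ (∀ β : Cfsg.IrrCharacter C, ∃ χ : Cfsg.IrrCharacter G, (∀ s ∈ S, ∀ g g' : G, (g' : Γ) = s * g * s⁻¹ → (χ : G → ℂ) g' = (χ : G → ℂ) g) ∧ ∃ m : ℕ, Cfsg.classInner (fun c : C => (χ : G → ℂ) ⟨c, hCG c.2⟩) (β : C → ℂ) = (m : ℂ) ∧ ¬ p ∣ m) := by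
  rename_i fG fC
  classical
  haveI := Fact.mk hp
  by_cases hpG : p ∣ Nat.card G
  · -- the operators are trivial
    have hS1 : S = ⊥ := by
      obtain ⟨k, hk⟩ := hS.exists_card_eq
      rcases Nat.eq_zero_or_pos k with rfl | hk0
      · rw [pow_zero] at hk
        exact Subgroup.card_eq_one.1 hk
      · refine absurd hcop (Nat.Prime.not_coprime_iff_dvd.2 ⟨p, hp, hpG, ?_⟩)
        rw [hk]; exact dvd_pow_self p hk0.ne'
    have hCeq : C = G := by
      rw [hC, hS1]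
      refine inf_eq_left.2 fun g _ => ?_
      rw [Subgroup.mem_centralizer_iff]
      intro z hz
      rw [Subgroup.mem_bot.1 hz, one_mul, mul_one]
    subst hCeq
    obtain rfl : fG = fC := Subsingleton.elim _ _
    have hin : ∀ (χ β : Cfsg.IrrCharacter C) (m : ℕ), Cfsg.classInner
        (fun c : C => (χ : C → ℂ) ⟨c, hCG c.2⟩) (β : C → ℂ) = (m : ℂ) →
        m = if χ = β then 1 else 0 := fun χ β m hm => by
      have h := classInner_irr χ β
      have e : (fun c : C => (χ : C → ℂ) ⟨c, hCG c.2⟩) = (χ : C → ℂ) := rfl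
      rw [e, h] at hm
      split at hm
      · next he => rw [if_pos he]; exact_mod_cast hm.symm
      · next he => rw [if_neg he]; exact_mod_cast hm.symm
    have hself : ∀ χ : Cfsg.IrrCharacter C, ∃ m : ℕ, Cfsg.classInner
        (fun c : C => (χ : C → ℂ) ⟨c, hCG c.2⟩) (χ : C → ℂ) = (m : ℂ) ∧ ¬ p ∣ m := fun χ =>
      ⟨1, by rw [show (fun c : C => (χ : C → ℂ) ⟨c, hCG c.2⟩) = (χ : C → ℂ) from rfl,
        classInner_irr, if_pos rfl, Nat.cast_one], hp.not_dvd_one⟩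
    have heq : ∀ (χ β : Cfsg.IrrCharacter C) (m : ℕ), Cfsg.classInner
        (fun c : C => (χ : C → ℂ) ⟨c, hCG c.2⟩) (β : C → ℂ) = (m : ℂ) → ¬ p ∣ m →
        χ = β ∧ m = 1 := fun χ β m hm hn => by
      have h := hin χ β m hm
      split at h
      · next he => exact ⟨he, h⟩
      · exact absurd (h ▸ dvd_zero p) hn
    refine ⟨fun χ _ => ⟨χ, hself χ, fun β ⟨m, hm, hn⟩ => (heq χ β m hm hn).1.symm⟩,
      fun χ _ β m hm hn => Or.inl (by rw [(heq χ β m hm hn).2, Nat.cast_one]),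
      fun χ χ' _ _ β m m' hm hn hm' hn' =>
        (heq χ β m hm hn).1.trans (heq χ' β m' hm' hn').1.symm,
      fun β => ⟨β, fun s hs g g' he => ?_, hself β⟩⟩
    rw [hS1, Subgroup.mem_bot] at hs
    rw [hs, one_mul, inv_one, mul_one] at he
    rw [Subtype.ext he]
  · obtain ⟨M, hM⟩ := DefectZeroVanish.exists_modular hp
    letI : MulDistribMulAction S G :=
      { smul := fun s g => ⟨s * g * (s : Γ)⁻¹, hnorm s s.2 g g.2⟩
        one_smul := fun g => Subtype.ext (by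
          show ((1 : S) : Γ) * g * ((1 : S) : Γ)⁻¹ = g
          simp)
        mul_smul := fun s t g => Subtype.ext (by
          show ((s * t : S) : Γ) * g * ((s * t : S) : Γ)⁻¹ = s * (t * g * (t : Γ)⁻¹) * (s : Γ)⁻¹
          simp [mul_assoc])
        smul_mul := fun s g h => Subtype.ext (by
          show (s : Γ) * ((g * h : G) : Γ) * (s : Γ)⁻¹ =
            (s * g * (s : Γ)⁻¹) * (s * h * (s : Γ)⁻¹)
          rw [Subgroup.coe_mul]; group)
        smul_one := fun s => Subtype.ext (by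
          show (s : Γ) * ((1 : G) : Γ) * (s : Γ)⁻¹ = 1
          simp) }
    set i : C →* G := Subgroup.inclusion hCG
    have hinj : Function.Injective i := Subgroup.inclusion_injective hCG
    have hfix : ∀ g : G, (∃ c, i c = g) ↔ ∀ s : S, s • g = g := by
      intro g
      constructor
      · rintro ⟨c, rfl⟩ s
        refine Subtype.ext ?_
        show (s : Γ) * (c : Γ) * (s : Γ)⁻¹ = c
        have h2 : (c : Γ) ∈ G ⊓ Subgroup.centralizer (S : Set Γ) := hC ▸ c.2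
        rw [Subgroup.mem_centralizer_iff.1 h2.2 s s.2, mul_inv_cancel_right]
      · intro h
        refine ⟨⟨g, hC ▸ ⟨g.2, Subgroup.mem_centralizer_iff.2 fun s hs => ?_⟩⟩, Subtype.ext rfl⟩
        exact mul_inv_eq_iff_eq_mul.1 (congrArg Subtype.val (h ⟨s, hs⟩))
    have hI : ∀ χ : Cfsg.IrrCharacter G, (∀ s ∈ S, ∀ g g' : G, (g' : Γ) = s * g * s⁻¹ →
        (χ : G → ℂ) g' = (χ : G → ℂ) g) ↔ Glauberman.IsInv S χ :=
      fun χ => ⟨fun h s g => h s s.2 g (s • g) rfl, fun h s hs g g' he => by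
        rw [show g' = (⟨s, hs⟩ : S) • g from Subtype.ext he]; exact h _ g⟩
    have hmul : ∀ (χ : Cfsg.IrrCharacter G) (β β' : Cfsg.IrrCharacter C),
        Glauberman.Corr i M χ β → ∀ m : ℕ,
        Cfsg.classInner (fun c : C => (χ : G → ℂ) ⟨c, hCG c.2⟩) (β' : C → ℂ) = (m : ℂ) →
        (β' ≠ β → p ∣ m) ∧ (β' = β → (m : ℤ) ≡ 1 [ZMOD p] ∨ (m : ℤ) ≡ -1 [ZMOD p]) :=
      fun χ β β' h m hm => Glauberman.mult i hinj hfix hM hS hpG h β' hm
    have hunit : ∀ (χ : Cfsg.IrrCharacter G) (β : Cfsg.IrrCharacter C), Glauberman.Corr i M χ β →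
        ∃ m : ℕ, Cfsg.classInner (fun c : C => (χ : G → ℂ) ⟨c, hCG c.2⟩) (β : C → ℂ) = (m : ℂ) ∧
          ¬ p ∣ m := by
      intro χ β h
      have hchar : Cfsg.IsCharacter C (fun c : C => (χ : G → ℂ) ⟨c, hCG c.2⟩) :=
        isCharacter_comp i (irr_isCharacter χ)
      obtain ⟨m, hm⟩ := classInner_char_nat hchar (irr_isCharacter β)
      refine ⟨m, hm, fun hd => ?_⟩
      have hd' : (p : ℤ) ∣ (m : ℤ) := Int.natCast_dvd_natCast.2 hd
      rcases (hmul χ β β h m hm).2 rfl with h1 | h1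
      · have := Int.modEq_iff_dvd.1 h1
        have h3 : (p : ℤ) ∣ 1 := by simpa using dvd_add this hd'
        exact hp.not_dvd_one (by exact_mod_cast h3)
      · have := Int.modEq_iff_dvd.1 h1
        have h3 : (p : ℤ) ∣ 1 := by
          have := dvd_add this hd'
          simpa using this
        exact hp.not_dvd_one (by exact_mod_cast h3)
    have hcorr : ∀ (χ : Cfsg.IrrCharacter G), Glauberman.IsInv S χ →
        ∀ (β : Cfsg.IrrCharacter C) (m : ℕ),
        Cfsg.classInner (fun c : C => (χ : G → ℂ) ⟨c, hCG c.2⟩) (β : C → ℂ) = (m : ℂ) →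
        ¬ p ∣ m → Glauberman.Corr i M χ β := by
      intro χ hχ β m hm hn
      obtain ⟨β₀, h₀⟩ := Glauberman.exists_corr i hinj hfix hM hS hpG hχ
      by_cases hb : β = β₀
      · rwa [hb]
      · exact absurd ((hmul χ β₀ β h₀ m hm).1 hb) hn
    refine ⟨fun χ hχ => ?_, fun χ hχ β m hm hn => ?_, fun χ χ' hχ hχ' β m m' hm hn hm' hn' => ?_,
      fun β => ?_⟩
    · obtain ⟨β₀, h₀⟩ := Glauberman.exists_corr i hinj hfix hM hS hpG ((hI χ).1 hχ)
      exact ⟨β₀, hunit χ β₀ h₀, fun β ⟨m, hm, hn⟩ =>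
        Glauberman.corr_unique i hM (hcorr χ ((hI χ).1 hχ) β m hm hn) h₀⟩
    · exact (hmul χ β β (hcorr χ ((hI χ).1 hχ) β m hm hn) m hm).2 rfl
    · exact Glauberman.corr_injective i hinj hfix hM hS hpG ((hI χ).1 hχ) ((hI χ').1 hχ')
        (hcorr χ ((hI χ).1 hχ) β m hm hn) (hcorr χ' ((hI χ').1 hχ') β m' hm' hn')
    · obtain ⟨χ, hχ, h⟩ := Glauberman.exists_inv_corr i hinj hfix hM hS hpG β
      exact ⟨χ, (hI χ).2 hχ, hunit χ β h⟩

end Cfsg.Agent.S4444
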