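import Cfsg.Statements.S2378
import Cfsg.Agent.SimpleFacts.AbelianSylow.Main
import Cfsg.Agent.Lib.Chevalley.Types.OrderG2
import Cfsg.Agent.Lib.Chevalley.Types.OrderB2
import Cfsg.Agent.Lib.Chevalley.Types.OrderD4
import Cfsg.Agent.Lib.Chevalley.Types.OrderF4
import Cfsg.Agent.Lib.Chevalley.Types.OrderE6
import Cfsg.Agent.Lib.Chevalley.Types.OrderE7
import Cfsg.Agent.Lib.Chevalley.Types.OrderE8

set_option autoImplicit false
open Cfsg

namespace Cfsg.Agent.S2378

open Cfsg.Lie Cfsg.Agent.Chevalley.Table Cfsg.Agent.Chevalley.Cert Cfsg.Agent.Chevalley.TorusCard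
  Cfsg.Agent.Chevalley.WeylGroup Cfsg.Agent.Chevalley.WeylEnum

theorem det_natAbs {D : ChevalleyDatum} {P P' Q Q' : Matrix (Fin D.rank) (Fin D.rank) ℤ}
    {d : Fin D.rank → ℕ} (hP : P' * P = 1) (hQ : Q * Q' = 1)
    (h : P * cartanMat D * Q = Matrix.diagonal fun i => (d i : ℤ)) :
    (cartanMat D).det.natAbs = ∏ i, d i := by
  have h1 := congrArg (fun A : Matrix (Fin D.rank) (Fin D.rank) ℤ => A.det.natAbs) h
  simp only [Matrix.det_mul, Int.natAbs_mul, Matrix.det_diagonal] at h1
  have hP1 : P.det.natAbs = 1 := by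
    have := congrArg (fun A : Matrix (Fin D.rank) (Fin D.rank) ℤ => A.det.natAbs) hP
    simp only [Matrix.det_mul, Int.natAbs_mul, Matrix.det_one, Int.natAbs_one] at this
    exact Nat.eq_one_of_mul_eq_one_left this
  have hQ1 : Q.det.natAbs = 1 := by
    have := congrArg (fun A : Matrix (Fin D.rank) (Fin D.rank) ℤ => A.det.natAbs) hQ
    simp only [Matrix.det_mul, Int.natAbs_mul, Matrix.det_one, Int.natAbs_one] at this
    exact Nat.eq_one_of_mul_eq_one_right this
  rw [hP1, hQ1, one_mul, mul_one] at h1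
  rw [h1, ← Nat.cast_prod, Int.natAbs_natCast]

theorem core {D : ChevalleyDatum} {T : Tab} (hC : Certified D T) {Ls : List Lev}
    (hLs : chainLevChk T Ls = true) (htop : topChk T Ls = true) {degs : List ℕ}
    (hWd : (Ls.map fun L => L.reps.length).prod = degs.prod) (hlen : degs.length = D.rank)
    {P P' Q Q' : Matrix (Fin D.rank) (Fin D.rank) ℤ} {ed : Fin D.rank → ℕ}
    (hP : P' * P = 1) (hQ : Q * Q' = 1)
    (hdiag : P * cartanMat D * Q = Matrix.diagonal fun i => (ed i : ℤ))
    (hed : (∏ i, ed i) ∣ degs.prod) (h2 : 2 ∣ degs.prod) {e : ℕ}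
    (hH : ∀ (K : Type) [Field K] [Fintype K],
      (∏ i, Nat.gcd (Fintype.card K - 1) (ed i)) * Nat.card (D.diagonalSubgroup K) =
        (Fintype.card K - 1) ^ D.rank)
    (hG : ∀ (K : Type) [Field K] [Fintype K],
      (∏ i, Nat.gcd (Fintype.card K - 1) (ed i)) * Nat.card (D.group K) =
        Fintype.card K ^ e * (degs.map fun k => Fintype.card K ^ k - 1).prod)
    {F : Type*} [Field F] [Fintype F] {q : ℕ} (hq : Fintype.card F = q) {r : ℕ} [Fact r.Prime]
    (hrq : ¬ r ∣ q) (hrW : ¬ r ∣ degs.prod)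
    (hGF : (∏ i, Nat.gcd (Fintype.card F - 1) (ed i)) * Nat.card (D.group F) =
        Fintype.card F ^ e * (degs.map fun k => Fintype.card F ^ k - 1).prod)
    (S : Sylow r ↥(D.group F)) :
    Nonempty (↥(S : Subgroup ↥(D.group F)) ≃*
      (Fin (degs.filter fun k => orderOf (q : ZMod r) ∣ k).length →
        Multiplicative (ZMod (r ^ padicValNat r
          ((Polynomial.cyclotomic (orderOf (q : ZMod r)) ℤ).eval (q : ℤ)).natAbs)))) := by
  have hdet := det_natAbs hP hQ hdiag
  have hred : ¬ r ∣ ∏ i, ed i := fun h => hrW (h.trans hed)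
  have hc : ∀ n : ℕ, ¬ r ∣ ∏ i, Nat.gcd n (ed i) := fun n h =>
    hred (h.trans (Finset.prod_dvd_prod_of_dvd _ _ fun i _ => Nat.gcd_dvd_right _ _))
  refine Cfsg.Agent.SimpleFacts.AbelianSylow.Main.homocyclic hC hlen ?_ hrW
    (by rw [card_WG hC hLs htop, hWd]) ?_ (hdet ▸ hred) (fun K _ _ => ⟨_, hc _, hH K⟩)
    (fun K _ _ => ⟨_, hc _, hG K⟩) hq hrq ⟨_, hc _, by rw [hGF, hq]⟩ S
  · rintro rfl
    exact hrW h2
  · intro h0
    rw [h0, Int.natAbs_zero] at hdet
    exact hred (hdet ▸ dvd_zero r)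

/-- Sylow subgroups for primes away from the characteristic and the Weyl group. Let `G` be the Chevalley group of type G₂, B₂, D₄, F₄, E₆, E₇ or E₈ over a field with `q` elements, with the degrees of its Weyl group listed beside the type (their product is the order of the Weyl group), and let `r` be a prime dividing the order of `G`, not dividing `q` and not dividing the order of the Weyl group. Let `d` be the multiplicative order of `q` modulo `r`, `a` the number of degrees divisible by `d`, and `m` the `r`-part of the value at `q` of the `d`-th cyclotomic polynomial. Then every Sylow `r`-subgroup of `G` is homocyclic: a direct product of `a` cyclic groups of order `m` (in particular abelian). -/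
theorem result {F : Type*} [Field F] [Fintype F] {q : ℕ} (hq : Fintype.card F = q)
    (c : Cfsg.Lie.ChevalleyDatum × List ℕ)
    (hc : c ∈ [(Cfsg.Lie.chevG2, [2, 6]), (Cfsg.Lie.chevB2, [2, 4]), (Cfsg.Lie.chevD4, [2, 4, 4, 6]), (Cfsg.Lie.chevF4, [2, 6, 8, 12]),
      (Cfsg.Lie.chevE6, [2, 5, 6, 8, 9, 12]), (Cfsg.Lie.chevE7, [2, 6, 8, 10, 12, 14, 18]), (Cfsg.Lie.chevE8, [2, 8, 12, 14, 18, 20, 24, 30])])
    (r : ℕ) [Fact r.Prime] (hrq : ¬ r ∣ q) (hrW : ¬ r ∣ c.2.prod) (hrG : r ∣ Nat.card ↥(c.1.group F)) (P : Sylow r ↥(c.1.group F)) :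
    Nonempty (↥(P : Subgroup ↥(c.1.group F)) ≃*
      (Fin (c.2.filter (fun e => orderOf (q : ZMod r) ∣ e)).length →
        Multiplicative (ZMod (r ^ padicValNat r ((Polynomial.cyclotomic (orderOf (q : ZMod r)) ℤ).eval (q : ℤ)).natAbs)))) := by
  simp only [List.mem_cons, List.not_mem_nil, or_false] at hc
  rcases hc with rfl | rfl | rfl | rfl | rfl | rfl | rfl
  · exact core (D := chevG2) Cfsg.Agent.Chevalley.Types.G2.certified Cfsg.Agent.Chevalley.Types.WG2.chain_ok Cfsg.Agent.Chevalley.Types.WG2.top_ok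
      (degs := [2, 6]) (by decide +kernel) (by decide +kernel) Cfsg.Agent.Chevalley.Types.OrderG2.hP
      Cfsg.Agent.Chevalley.Types.OrderG2.hQ Cfsg.Agent.Chevalley.Types.OrderG2.hdiag (by decide +kernel) (by decide +kernel) (e := 6)
      (fun K _ _ => Cfsg.Agent.Chevalley.Types.OrderG2.card_H K) (fun K _ _ => Cfsg.Agent.Chevalley.Types.OrderG2.card_group K) hq hrq hrW
      (Cfsg.Agent.Chevalley.Types.OrderG2.card_group F) P
  · exact core (D := chevB2) Cfsg.Agent.Chevalley.Types.B2.certified Cfsg.Agent.Chevalley.Types.WB2.chain_ok Cfsg.Agent.Chevalley.Types.WB2.top_ok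
      (degs := [2, 4]) (by decide +kernel) (by decide +kernel) Cfsg.Agent.Chevalley.Types.OrderB2.hP
      Cfsg.Agent.Chevalley.Types.OrderB2.hQ Cfsg.Agent.Chevalley.Types.OrderB2.hdiag (by decide +kernel) (by decide +kernel) (e := 4)
      (fun K _ _ => Cfsg.Agent.Chevalley.Types.OrderB2.card_H K) (fun K _ _ => Cfsg.Agent.Chevalley.Types.OrderB2.card_group K) hq hrq hrW
      (Cfsg.Agent.Chevalley.Types.OrderB2.card_group F) P
  · exact core (D := chevD4) Cfsg.Agent.Chevalley.Types.D4.certified Cfsg.Agent.Chevalley.Types.WD4.chain_ok Cfsg.Agent.Chevalley.Types.WD4.top_ok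
      (degs := [2, 4, 4, 6]) (by decide +kernel) (by decide +kernel) Cfsg.Agent.Chevalley.Types.OrderD4.hP
      Cfsg.Agent.Chevalley.Types.OrderD4.hQ Cfsg.Agent.Chevalley.Types.OrderD4.hdiag (by decide +kernel) (by decide +kernel) (e := 12)
      (fun K _ _ => Cfsg.Agent.Chevalley.Types.OrderD4.card_H K) (fun K _ _ => Cfsg.Agent.Chevalley.Types.OrderD4.card_group K) hq hrq hrW
      (Cfsg.Agent.Chevalley.Types.OrderD4.card_group F) P
  · exact core (D := chevF4) Cfsg.Agent.Chevalley.Types.F4.certified Cfsg.Agent.Chevalley.Types.WF4.chain_ok Cfsg.Agent.Chevalley.Types.WF4.top_ok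
      (degs := [2, 6, 8, 12]) (by decide +kernel) (by decide +kernel) Cfsg.Agent.Chevalley.Types.OrderF4.hP
      Cfsg.Agent.Chevalley.Types.OrderF4.hQ Cfsg.Agent.Chevalley.Types.OrderF4.hdiag (by decide +kernel) (by decide +kernel) (e := 24)
      (fun K _ _ => Cfsg.Agent.Chevalley.Types.OrderF4.card_H K) (fun K _ _ => Cfsg.Agent.Chevalley.Types.OrderF4.card_group K) hq hrq hrW
      (Cfsg.Agent.Chevalley.Types.OrderF4.card_group F) P
  · exact core (D := chevE6) Cfsg.Agent.Chevalley.Types.E6.certified Cfsg.Agent.Chevalley.Types.WE6.chain_ok Cfsg.Agent.Chevalley.Types.WE6.top_ok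
      (degs := [2, 5, 6, 8, 9, 12]) (by decide +kernel) (by decide +kernel) Cfsg.Agent.Chevalley.Types.OrderE6.hP
      Cfsg.Agent.Chevalley.Types.OrderE6.hQ Cfsg.Agent.Chevalley.Types.OrderE6.hdiag (by decide +kernel) (by decide +kernel) (e := 36)
      (fun K _ _ => Cfsg.Agent.Chevalley.Types.OrderE6.card_H K) (fun K _ _ => Cfsg.Agent.Chevalley.Types.OrderE6.card_group K) hq hrq hrW
      (Cfsg.Agent.Chevalley.Types.OrderE6.card_group F) P
  · exact core (D := chevE7) Cfsg.Agent.Chevalley.Types.E7.certified Cfsg.Agent.Chevalley.Types.WE7.chain_ok Cfsg.Agent.Chevalley.Types.WE7.top_ok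
      (degs := [2, 6, 8, 10, 12, 14, 18]) (by decide +kernel) (by decide +kernel) Cfsg.Agent.Chevalley.Types.OrderE7.hP
      Cfsg.Agent.Chevalley.Types.OrderE7.hQ Cfsg.Agent.Chevalley.Types.OrderE7.hdiag (by decide +kernel) (by decide +kernel) (e := 63)
      (fun K _ _ => Cfsg.Agent.Chevalley.Types.OrderE7.card_H K) (fun K _ _ => Cfsg.Agent.Chevalley.Types.OrderE7.card_group K) hq hrq hrW
      (Cfsg.Agent.Chevalley.Types.OrderE7.card_group F) P
  · exact core (D := chevE8) Cfsg.Agent.Chevalley.Types.E8.certified Cfsg.Agent.Chevalley.Types.WE8.chain_ok Cfsg.Agent.Chevalley.Types.WE8.top_ok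
      (degs := [2, 8, 12, 14, 18, 20, 24, 30]) (by decide +kernel) (by decide +kernel) Cfsg.Agent.Chevalley.Types.OrderE8.hP
      Cfsg.Agent.Chevalley.Types.OrderE8.hQ Cfsg.Agent.Chevalley.Types.OrderE8.hdiag (by decide +kernel) (by decide +kernel) (e := 120)
      (fun K _ _ => Cfsg.Agent.Chevalley.Types.OrderE8.card_H K) (fun K _ _ => Cfsg.Agent.Chevalley.Types.OrderE8.card_group K) hq hrq hrW
      (Cfsg.Agent.Chevalley.Types.OrderE8.card_group F) P

end Cfsg.Agent.S2378
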