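import Cfsg.Statements.S0547
import Cfsg.Agent.Lib.Hall.MinimalNormal

set_option autoImplicit false
open Cfsg

namespace Cfsg.Agent.S0547

/-- Let a finite solvable group G act faithfully and primitively on a set, and let M be a minimal normal subgroup of G. Then M is transitive with trivial point stabilizers, and the number of points equals the order of M, which is a prime power p ^ d with d ≥ 1. -/
theorem result {G : Type*} [Group G] [Finite G] [Group.IsSolvable G] {Ω : Type*} [Nonempty Ω] [MulAction G Ω] [FaithfulSMul G Ω] (hprim : MulAction.IsPreprimitive G Ω) (M : Subgroup G) [M.Normal] (hM : M ≠ ⊥) (hmin : ∀ K : Subgroup G, K.Normal → K ≤ M → K = ⊥ ∨ K = M) : MulAction.IsPretransitive M Ω ∧ (∀ ω : Ω, MulAction.stabilizer M ω = ⊥) ∧ ∃ p d : ℕ, p.Prime ∧ 0 < d ∧ Nat.card Ω = p ^ d ∧ Nat.card M = p ^ d := by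
  obtain ⟨p, hp, hpd, hpg, hc, -⟩ := Hall.minimal_normal_isElementaryAbelian hM hmin
  haveI := hc
  have hfix : MulAction.fixedPoints M Ω ≠ Set.univ := by
    intro h
    refine hM (le_bot_iff.1 fun m hm => ?_)
    refine eq_of_smul_eq_smul (α := Ω) fun x => ?_
    have hx : x ∈ MulAction.fixedPoints M Ω := h ▸ Set.mem_univ x
    rw [one_smul]
    exact hx ⟨m, hm⟩
  haveI ht : MulAction.IsPretransitive M Ω :=
    MulAction.IsQuasiPreprimitive.isPretransitive_of_normal hfix
  have hreg : ∀ ω : Ω, MulAction.stabilizer M ω = ⊥ := by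
    intro ω
    refine le_bot_iff.1 fun m hm => ?_
    rw [Subgroup.mem_bot, Subtype.ext_iff, OneMemClass.coe_one]
    refine eq_of_smul_eq_smul (α := Ω) fun x => ?_
    obtain ⟨n, rfl⟩ := MulAction.exists_smul_eq M ω x
    have h1 : m • n • ω = n • ω := by rw [← mul_smul, mul_comm' m n, mul_smul, hm]
    rw [one_smul]
    exact h1
  refine ⟨ht, hreg, ?_⟩
  haveI : Fact p.Prime := ⟨hp⟩
  obtain ⟨d, hd⟩ := IsPGroup.iff_card.1 hpg
  refine ⟨p, d, hp, Nat.pos_of_ne_zero ?_, ?_, hd⟩
  · rintro rfl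
    exact hM (M.eq_bot_of_card_eq (by simpa using hd))
  · obtain ⟨ω⟩ := ‹Nonempty Ω›
    rw [← hd, ← Nat.card_univ (α := Ω), ← MulAction.orbit_eq_univ M ω,
      Nat.card_congr (MulAction.orbitEquivQuotientStabilizer M ω), ← Subgroup.index_eq_card, hreg,
      Subgroup.index_bot]

end Cfsg.Agent.S0547
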