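import Cfsg.Statements.S0247
import Cfsg.Agent.Lib.Classical.Symplectic
import Cfsg.Agent.Lib.Classical.SmallIso

set_option autoImplicit false
open Cfsg

namespace Cfsg.Agent.S0247

open Matrix

/-- Vectors on six points. -/
abbrev V6 : Type := Fin 6 → ZMod 2

/-- The inner product of two vectors. -/
def ip (x y : V6) : ZMod 2 := x 0 * y 0 + x 1 * y 1 + x 2 * y 2 + x 3 * y 3 + x 4 * y 4 + x 5 * y 5

/-- Even weight. -/
def Ev (x : V6) : Prop := x 0 + x 1 + x 2 + x 3 + x 4 + x 5 = 0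

instance decidable_ev (x : V6) : Decidable (Ev x) := inferInstanceAs (Decidable (_ = _))

/-- The basis. -/
def bas : Fin 2 ⊕ Fin 2 → V6
  | .inl i => ![![1, 1, 0, 0, 0, 0], ![0, 0, 0, 1, 1, 0]] i
  | .inr i => ![![0, 1, 1, 0, 0, 0], ![0, 0, 0, 0, 1, 1]] i

/-- The dual basis. -/
def dual : Fin 2 ⊕ Fin 2 → V6
  | .inl i => bas (.inr i)
  | .inr i => bas (.inl i)

theorem expand : ∀ x : V6, ∀ y : V6, Ev x → Ev y →
    ip x y = ∑ k, ip x (dual k) * ip (bas k) y := by decide +kernel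

theorem ev_bas : ∀ k, Ev (bas k) ∧ Ev (dual k) := by decide +kernel

theorem ip_bas : ∀ i j : Fin 2 ⊕ Fin 2, ip (bas i) (bas j) = (J (Fin 2) (ZMod 2) i j : ZMod 2) := by
  intro i j
  revert i j
  rintro (i | i) (j | j) <;> fin_cases i <;> fin_cases j <;> decide +kernel

theorem sum_six (x : V6) : x 0 + x 1 + x 2 + x 3 + x 4 + x 5 = ∑ i, x i := by
  simp [Fin.sum_univ_six]

theorem ip_eq_sum (x y : V6) : ip x y = ∑ i, x i * y i := by simp [ip, Fin.sum_univ_six]

/-- Permuting the coordinates. -/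
def pm (σ : Equiv.Perm (Fin 6)) (x : V6) : V6 := fun i => x (σ.symm i)

theorem ev_pm {σ : Equiv.Perm (Fin 6)} {x : V6} (h : Ev x) : Ev (pm σ x) := by
  unfold Ev at *
  rw [sum_six] at *
  rw [← h]
  exact Equiv.sum_comp σ.symm x

theorem ip_pm (σ : Equiv.Perm (Fin 6)) (x y : V6) : ip (pm σ x) (pm σ y) = ip x y := by
  rw [ip_eq_sum, ip_eq_sum]
  exact Equiv.sum_comp σ.symm (fun i => x i * y i)

/-- The matrix of a permutation. -/
def mat (σ : Equiv.Perm (Fin 6)) : Matrix (Fin 2 ⊕ Fin 2) (Fin 2 ⊕ Fin 2) (ZMod 2) :=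
  fun r c => ip (pm σ (bas c)) (dual r)

theorem mat_mul (σ τ : Equiv.Perm (Fin 6)) : mat (σ * τ) = mat σ * mat τ := by
  ext r c
  have h1 : ∀ x y : V6, ip (pm σ x) y = ip x (pm σ⁻¹ y) := by
    intro x y
    conv_rhs => rw [← ip_pm σ]
    congr 1
    funext i
    simp [pm, Equiv.Perm.inv_def]
  show ip (pm (σ * τ) (bas c)) (dual r) = ∑ k, ip (pm σ (bas k)) (dual r) * ip (pm τ (bas c)) (dual k)
  rw [show pm (σ * τ) (bas c) = pm σ (pm τ (bas c)) from rfl, h1,
    expand _ _ (ev_pm (ev_bas c).1) (ev_pm (ev_bas r).2)]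
  exact Finset.sum_congr rfl fun k _ => by rw [h1]; ring

theorem mat_one : mat 1 = 1 := by decide +kernel

theorem mat_mem (σ : Equiv.Perm (Fin 6)) : mat σ ∈ symplecticGroup (Fin 2) (ZMod 2) := by
  rw [SymplecticGroup.mem_iff']
  ext i j
  have hJ : ∀ k y, ∑ l, J (Fin 2) (ZMod 2) k l * ip y (dual l) = ip (bas k) y := by decide +kernel
  calc ((mat σ)ᵀ * J (Fin 2) (ZMod 2) * mat σ) i j
      = ∑ k, ip (pm σ (bas i)) (dual k) * (∑ l, J (Fin 2) (ZMod 2) k l * ip (pm σ (bas j)) (dual l)) := by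
        simp only [Matrix.mul_apply, Matrix.transpose_apply, mat, Finset.sum_mul, Finset.mul_sum]
        rw [Finset.sum_comm]
        exact Finset.sum_congr rfl fun k _ => Finset.sum_congr rfl fun l _ => by ring
    _ = ∑ k, ip (pm σ (bas i)) (dual k) * ip (bas k) (pm σ (bas j)) :=
        Finset.sum_congr rfl fun k _ => by rw [hJ]
    _ = J (Fin 2) (ZMod 2) i j := by
        rw [← expand _ _ (ev_pm (ev_bas i).1) (ev_pm (ev_bas j).1), ip_pm, ip_bas]

theorem mat_ker : ∀ σ : Equiv.Perm (Fin 6), (∀ r c, mat σ r c = (1 : Matrix (Fin 2 ⊕ Fin 2) (Fin 2 ⊕ Fin 2) (ZMod 2)) r c) → σ = 1 := by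
  intro σ h
  have key : ∀ (c : Fin 2 ⊕ Fin 2) (x : V6), Ev x → ip x x = 0 →
      (∀ r, ip x (dual r) = (1 : Matrix (Fin 2 ⊕ Fin 2) (Fin 2 ⊕ Fin 2) (ZMod 2)) r c) →
      (Finset.univ.filter fun i => x i = 1).card = 2 → x = bas c := by decide +kernel
  have hz : ∀ c, ip (bas c) (bas c) = 0 := by decide +kernel
  have hw : ∀ c, (Finset.univ.filter fun i => bas c i = 1).card = 2 := by decide +kernel
  have hfix : ∀ c, pm σ (bas c) = bas c := by
    intro c
    refine key c _ (ev_pm (ev_bas c).1) (by rw [ip_pm, hz]) (fun r => h r c) ?_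
    refine Eq.trans ?_ (hw c)
    rw [← Finset.card_map σ.toEmbedding (s := Finset.univ.filter fun i => bas c i = 1)]
    congr 1
    ext i
    simp only [Finset.mem_map_equiv, Finset.mem_filter, Finset.mem_univ, true_and, pm]
    exact ⟨fun h' => (Finset.mem_filter.1 h').2, fun h' => Finset.mem_filter.2 ⟨Finset.mem_univ _, h'⟩⟩
  have sep : ∀ i j : Fin 6, (∀ c, bas c i = bas c j) → i = j := by decide +kernel
  refine Equiv.ext fun i => sep _ _ fun c => ?_
  have := congrFun (hfix c) (σ i)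
  simpa [pm] using this.symm

/-- The isomorphism, as a homomorphism. -/
def permHom : Equiv.Perm (Fin 6) →* symplecticGroup (Fin 2) (ZMod 2) where
  toFun σ := ⟨mat σ, mat_mem σ⟩
  map_one' := Subtype.ext mat_one
  map_mul' σ τ := Subtype.ext (mat_mul σ τ)

theorem permHom_bijective : Function.Bijective permHom := by
  rw [Nat.bijective_iff_injective_and_card]
  refine ⟨?_, ?_⟩
  · rw [injective_iff_map_eq_one]
    intro σ h
    refine mat_ker σ fun r c => ?_
    exact congrFun (congrFun (congrArg Subtype.val h) r) c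
  · have : Fact (Nat.Prime 2) := ⟨Nat.prime_two⟩
    rw [Classical.Symplectic.natCard_sp, Nat.card_perm, Nat.card_fin, ZMod.card]
    rfl

/-- Sp_4(2) is isomorphic to the symmetric group S_6. -/
theorem result {F : Type*} [Field F] [Fintype F] (hF : Fintype.card F = 2) : Nonempty (Matrix.symplecticGroup (Fin 2) F ≃* Equiv.Perm (Fin 6)) := by
  let e : ZMod 2 ≃+* F := FiniteField.ringEquivOfCardEq (by simp [hF])
  let g : symplecticGroup (Fin 2) (ZMod 2) ≃* symplecticGroup (Fin 2) F :=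
    { toFun := fun A => ⟨(A : Matrix (Fin 2 ⊕ Fin 2) (Fin 2 ⊕ Fin 2) (ZMod 2)).map e, SymplecticGroup.map_mem A.2 e⟩
      invFun := fun A => ⟨(A : Matrix (Fin 2 ⊕ Fin 2) (Fin 2 ⊕ Fin 2) F).map e.symm, SymplecticGroup.map_mem A.2 e.symm⟩
      left_inv := fun A => Subtype.ext (by ext i j; simp)
      right_inv := fun A => Subtype.ext (by ext i j; simp)
      map_mul' := fun A B => Subtype.ext (by
        show (A.1 * B.1).map e = A.1.map e * B.1.map e
        exact Matrix.map_mul) }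
  exact ⟨((MulEquiv.ofBijective permHom permHom_bijective).trans g).symm⟩

end Cfsg.Agent.S0247
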