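import Cfsg.Statements.S2508
import Mathlib
import Cfsg.Agent.Lib.GL2.PSLClassSizes

set_option autoImplicit false
open Cfsg Matrix
open scoped MatrixGroups
open Cfsg.Agent.GL2 Classes Counts PSLProducts PSLClassSizes

namespace Cfsg.Agent.S2508

/-- Let F be a finite field with q elements, q odd and q ≥ 7. If q ≡ 1 (mod 4) the conjugacy class sizes of PSL(2,F) are exactly 1, (q² − 1)/2, q(q + 1)/2, q(q − 1) and q(q + 1); if q ≡ 3 (mod 4) they are exactly 1, (q² − 1)/2, q(q − 1)/2, q(q + 1) and q(q − 1). -/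
theorem result {F : Type*} [Field F] [Fintype F]
    (hodd : ¬ 2 ∣ Fintype.card F) (h7 : 7 ≤ Fintype.card F) :
    (Fintype.card F % 4 = 1 →
      Set.range (fun g : (Matrix.ProjectiveSpecialLinearGroup (Fin 2) F) => (Subgroup.centralizer ({g} : Set (Matrix.ProjectiveSpecialLinearGroup (Fin 2) F))).index) =
        {1, (Fintype.card F ^ 2 - 1) / 2, Fintype.card F * (Fintype.card F + 1) / 2,
          Fintype.card F * (Fintype.card F - 1), Fintype.card F * (Fintype.card F + 1)}) ∧
    (Fintype.card F % 4 = 3 →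
      Set.range (fun g : (Matrix.ProjectiveSpecialLinearGroup (Fin 2) F) => (Subgroup.centralizer ({g} : Set (Matrix.ProjectiveSpecialLinearGroup (Fin 2) F))).index) =
        {1, (Fintype.card F ^ 2 - 1) / 2, Fintype.card F * (Fintype.card F - 1) / 2,
          Fintype.card F * (Fintype.card F + 1), Fintype.card F * (Fintype.card F - 1)}) := by
  classical
  have hodd' : Odd (Fintype.card F) := Nat.odd_iff.2 (by omega)
  have htwo : (2 : F) ≠ 0 := two_ne_zero_of_odd hodd'
  have hfour : (4 : F) ≠ 0 := by rw [show (4 : F) = 2 * 2 by norm_num]; exact mul_ne_zero htwo htwo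
  have hone : (Subgroup.centralizer ({1} : Set (Matrix.ProjectiveSpecialLinearGroup (Fin 2) F))).index = 1 := by
    rw [Subgroup.index_eq_one, Subgroup.centralizer_eq_top_iff_subset]
    simp
  have huni : ¬ IsScalar (Classical.GL2.uniSL (1 : F) : Matrix (Fin 2) (Fin 2) F) := fun h => by
    simpa [Classical.GL2.coe_uniSL] using ((isScalar_iff _).1 h).1
  obtain ⟨te, hte0, hte⟩ := exists_elliptic_trace (F := F) (by omega)
  set q := Fintype.card F with hq
  have hsq : (q ^ 2 - 1) / 2 * 2 = (q - 1) * (q + 1) := by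
    rw [Nat.div_mul_cancel, mul_comm, ← Nat.sq_sub_sq, one_pow]
    rw [show q ^ 2 - 1 = (q + 1) * (q - 1) by rw [← Nat.sq_sub_sq, one_pow]]
    exact Dvd.dvd.mul_right (by omega) _
  have hhp : q * (q + 1) / 2 * 2 = q * (q + 1) :=
    Nat.div_mul_cancel (Dvd.dvd.mul_left (by omega) _)
  have hhm : q * (q - 1) / 2 * 2 = q * (q - 1) :=
    Nat.div_mul_cancel (Dvd.dvd.mul_left (by omega) _)
  have key : ∀ g : SL(2, F), ¬ IsScalar (g : Matrix (Fin 2) (Fin 2) F) →
      ((g : Matrix (Fin 2) (Fin 2) F).trace ^ 2 = 4 →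
        (Subgroup.centralizer ({toPSL g} : Set _)).index = (q ^ 2 - 1) / 2) ∧
      ((g : Matrix (Fin 2) (Fin 2) F).trace ^ 2 ≠ 4 →
        (∀ r, r ^ 2 - (g : Matrix (Fin 2) (Fin 2) F).trace * r + 1 = 0 →
          (Subgroup.centralizer ({toPSL g} : Set _)).index =
            if (g : Matrix (Fin 2) (Fin 2) F).trace = 0 then q * (q + 1) / 2 else q * (q + 1)) ∧
        ((∀ r, r ^ 2 - (g : Matrix (Fin 2) (Fin 2) F).trace * r + 1 ≠ 0) →
          (Subgroup.centralizer ({toPSL g} : Set _)).index =
            if (g : Matrix (Fin 2) (Fin 2) F).trace = 0 then q * (q - 1) / 2 else q * (q - 1))) := by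
    intro g hg
    have hidx := index_pre g
    rw [← hq] at hidx
    refine ⟨fun ht => ?_, fun ht => ⟨fun r hr => ?_, fun hno => ?_⟩⟩
    · have ht0 : (g : Matrix (Fin 2) (Fin 2) F).trace ≠ 0 := fun e => hfour (by rw [← ht, e]; ring)
      rw [pre_eq_of_trace g (Or.inr ht0),
        natCard_centralizer_SL_parabolic g hg (s := (g : Matrix (Fin 2) (Fin 2) F).trace / 2)
          (by rw [div_pow, ht, div_eq_one_iff_eq (pow_ne_zero 2 htwo)]; norm_num)
          (by rw [mul_div_cancel₀ _ htwo]),
        sq_eq_one_card_odd htwo] at hidx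
      refine Nat.eq_of_mul_eq_mul_right (show 0 < q * 2 by omega) (hidx.trans ?_)
      rw [mul_comm q 2, ← mul_assoc (_ / 2), hsq]
      ring
    · split_ifs with h0
      · rw [natCard_pre_of_trace_zero g htwo h0, natCard_centralizer_split g ht hr] at hidx
        refine Nat.eq_of_mul_eq_mul_right (show 0 < 2 * (q - 1) by omega) (hidx.trans ?_)
        rw [← mul_assoc (_ / 2), hhp]
        ring
      · rw [pre_eq_of_trace g (Or.inr h0), natCard_centralizer_split g ht hr] at hidx
        refine Nat.eq_of_mul_eq_mul_right (show 0 < q - 1 by omega) (hidx.trans ?_)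
        ring
    · split_ifs with h0
      · rw [natCard_pre_of_trace_zero g htwo h0, natCard_centralizer_elliptic_SL g hno] at hidx
        refine Nat.eq_of_mul_eq_mul_right (show 0 < 2 * (q + 1) by omega) (hidx.trans ?_)
        rw [← mul_assoc (_ / 2), hhm]
        ring
      · rw [pre_eq_of_trace g (Or.inr h0), natCard_centralizer_elliptic_SL g hno] at hidx
        refine Nat.eq_of_mul_eq_mul_right (show 0 < q + 1 by omega) (hidx.trans ?_)
        ring
  have hm1 : (∃ r : F, r ^ 2 - 0 * r + 1 = 0) ↔ q % 4 = 1 := by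
    have h : IsSquare (-1 : F) ↔ q % 4 ≠ 3 := FiniteField.isSquare_neg_one_iff
    constructor
    · rintro ⟨r, hr⟩
      have := h.1 ⟨r, by linear_combination -hr⟩
      omega
    · intro hq1
      obtain ⟨r, hr⟩ := h.2 (by omega)
      exact ⟨r, by linear_combination -hr⟩
  obtain ⟨r, hr0, hr1⟩ : ∃ r : F, r ≠ 0 ∧ r ^ 4 ≠ 1 := by
    by_contra hh
    push Not at hh
    have hle : (Finset.univ : Finset F).card ≤ 5 := by
      have hsub : (Finset.univ : Finset F) ⊆ insert 0 ((Polynomial.X ^ 4 - Polynomial.C (1 : F)).roots.toFinset) := by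
        intro y _
        by_cases hy : y = 0
        · simp [hy]
        · rw [Finset.mem_insert, Multiset.mem_toFinset,
            Polynomial.mem_roots (Polynomial.X_pow_sub_C_ne_zero (by norm_num) 1)]
          right
          simp [hh y hy]
      refine (Finset.card_le_card hsub).trans ((Finset.card_insert_le _ _).trans ?_)
      have := (Multiset.toFinset_card_le _).trans (Polynomial.card_roots' (Polynomial.X ^ 4 - Polynomial.C (1 : F)))
      rw [Polynomial.natDegree_X_pow_sub_C] at this
      omega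
    rw [Finset.card_univ] at hle
    omega
  have hts0 : r + r⁻¹ ≠ 0 := fun e => hr1 (by
    field_simp at e
    linear_combination (r ^ 2 - 1) * e)
  have hts4 : (r + r⁻¹) ^ 2 ≠ 4 := fun e => hr1 (by
    field_simp at e
    have h2' : (r ^ 2 - 1) ^ 2 = 0 := by linear_combination e
    linear_combination (r ^ 2 + 1) * (pow_eq_zero_iff two_ne_zero).1 h2')
  have hco : ∀ t : F, (companionSL t : Matrix (Fin 2) (Fin 2) F).trace = t ∧
      ¬ IsScalar (companionSL t : Matrix (Fin 2) (Fin 2) F) := fun t => by
    rw [coe_companionSL]; exact ⟨trace_companion t 1, not_isScalar_companion t 1⟩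
  have hmain : ∀ w : ℕ, w = (if q % 4 = 1 then q * (q + 1) / 2 else q * (q - 1) / 2) →
      Set.range (fun g : Matrix.ProjectiveSpecialLinearGroup (Fin 2) F =>
        (Subgroup.centralizer ({g} : Set _)).index) =
      {1, (q ^ 2 - 1) / 2, w, q * (q - 1), q * (q + 1)} := by
    intro w hw
    refine Set.Subset.antisymm ?_ ?_
    · rintro _ ⟨x, rfl⟩
      obtain ⟨g, rfl⟩ := QuotientGroup.mk_surjective x
      simp only [Set.mem_insert_iff, Set.mem_singleton_iff]
      by_cases hg : IsScalar (g : Matrix (Fin 2) (Fin 2) F)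
      · left
        exact (congrArg (fun z : Matrix.ProjectiveSpecialLinearGroup (Fin 2) F =>
          (Subgroup.centralizer ({z} : Set _)).index) ((toPSL_eq_one_iff g).2 hg)).trans hone
      right
      by_cases ht : (g : Matrix (Fin 2) (Fin 2) F).trace ^ 2 = 4
      · exact Or.inl ((key g hg).1 ht)
      right
      by_cases hr' : ∃ r, r ^ 2 - (g : Matrix (Fin 2) (Fin 2) F).trace * r + 1 = 0
      · obtain ⟨x, hx⟩ := hr'
        by_cases h0 : (g : Matrix (Fin 2) (Fin 2) F).trace = 0
        · left
          refine (((key g hg).2 ht).1 x hx).trans ?_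
          rw [if_pos h0, hw, if_pos (hm1.1 ⟨x, by rw [h0] at hx; exact hx⟩)]
        · exact Or.inr (Or.inr ((((key g hg).2 ht).1 x hx).trans (if_neg h0)))
      · by_cases h0 : (g : Matrix (Fin 2) (Fin 2) F).trace = 0
        · left
          refine (((key g hg).2 ht).2 (not_exists.1 hr')).trans ?_
          rw [if_pos h0, hw, if_neg (fun e => hr' (by rw [h0]; exact hm1.2 e))]
        · exact Or.inr (Or.inl ((((key g hg).2 ht).2 (not_exists.1 hr')).trans (if_neg h0)))
    · intro v hv
      simp only [Set.mem_insert_iff, Set.mem_singleton_iff] at hv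
      rcases hv with rfl | rfl | rfl | rfl | rfl
      · exact ⟨1, hone⟩
      · refine ⟨toPSL (Classical.GL2.uniSL 1), (key _ huni).1 ?_⟩
        rw [Classical.GL2.coe_uniSL, trace_fin_two]
        simp
        norm_num
      · refine ⟨toPSL (companionSL 0), ?_⟩
        have hne : ((companionSL (0 : F)) : Matrix (Fin 2) (Fin 2) F).trace ^ 2 ≠ 4 := by
          rw [(hco 0).1]; simpa using hfour.symm
        by_cases hq4 : q % 4 = 1
        · obtain ⟨x, hx⟩ := hm1.2 hq4
          refine ((((key _ (hco 0).2).2 hne).1 x) (by rw [(hco 0).1]; exact hx)).trans ?_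
          rw [if_pos (hco 0).1, hw, if_pos hq4]
        · refine ((((key _ (hco 0).2).2 hne).2) ?_).trans ?_
          · rw [(hco 0).1]
            exact fun x hx => hq4 (hm1.1 ⟨x, hx⟩)
          · rw [if_pos (hco 0).1, hw, if_neg hq4]
      · refine ⟨toPSL (companionSL te), ?_⟩
        have hne : te ^ 2 ≠ 4 := fun e => hte (te / 2) (by field_simp; linear_combination -e)
        refine ((((key _ (hco te).2).2 (by rw [(hco te).1]; exact hne)).2)
          (by rw [(hco te).1]; exact hte)).trans ?_
        rw [if_neg (by rw [(hco te).1]; exact hte0)]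
      · refine ⟨toPSL (companionSL (r + r⁻¹)), ?_⟩
        refine (((key _ (hco _).2).2 (by rw [(hco _).1]; exact hts4)).1 r
          (by rw [(hco _).1]; field_simp; ring)).trans ?_
        rw [if_neg (by rw [(hco _).1]; exact hts0)]
  refine ⟨fun h => ?_, fun h => ?_⟩
  · exact hmain _ (by rw [if_pos h])
  · rw [hmain (q * (q - 1) / 2) (by rw [if_neg (by omega)])]
    simp only [Set.insert_comm (q * (q - 1)), Set.pair_comm (q * (q - 1))]

end Cfsg.Agent.S2508
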