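import Cfsg.Statements.S2431
import Mathlib
import Cfsg.Agent.Lib.Classical.SylowTwoNormalizer

set_option autoImplicit false
open Cfsg Matrix
open scoped MatrixGroups
open Cfsg.Agent.Classical Cfsg.Agent.Classical.TorusNormalizer Cfsg.Agent.Classical.SylowTwoNormalizer

namespace Cfsg.Agent.S2431

/-- Let F be a finite field with q elements, q odd, and S a Sylow 2-subgroup of SL₂ over F. The centraliser of S is the centre of SL₂ (of order 2); S is its own normaliser when q ≡ ±1 mod 8, and has index 3 in its normaliser when q ≡ ±3 mod 8. -/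
theorem result {F : Type*} [Field F] [Fintype F] (hodd : Odd (Fintype.card F)) (S : Sylow 2 (Matrix.SpecialLinearGroup (Fin 2) F)) :
    Subgroup.centralizer ((S : Subgroup (Matrix.SpecialLinearGroup (Fin 2) F)) : Set (Matrix.SpecialLinearGroup (Fin 2) F)) = Subgroup.center (Matrix.SpecialLinearGroup (Fin 2) F) ∧
    ((Fintype.card F % 8 = 1 ∨ Fintype.card F % 8 = 7) →
      Subgroup.normalizer ((S : Subgroup (Matrix.SpecialLinearGroup (Fin 2) F)) : Set (Matrix.SpecialLinearGroup (Fin 2) F)) = (S : Subgroup (Matrix.SpecialLinearGroup (Fin 2) F))) ∧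
    ((Fintype.card F % 8 = 3 ∨ Fintype.card F % 8 = 5) →
      Nat.card (Subgroup.normalizer ((S : Subgroup (Matrix.SpecialLinearGroup (Fin 2) F)) : Set (Matrix.SpecialLinearGroup (Fin 2) F))) = 3 * Nat.card S) := by
  classical
  have h2 : (2 : F) ≠ 0 := SylowSL2.two_ne_zero_of_odd hodd
  have hq : ¬ 2 ∣ Fintype.card F := by rw [Nat.odd_iff] at hodd; omega
  have hq1 := Fintype.one_lt_card (α := F)
  have hv := SylowSL2.factorization_natCard_SL_two (F := F) Nat.prime_two hq
  have one_of : ∀ m, 2 ∣ m → ¬ 4 ∣ m → m ≠ 0 → m.factorization 2 = 1 := by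
    intro m h2m h4m hm
    have a : 1 ≤ m.factorization 2 :=
      (Nat.Prime.pow_dvd_iff_le_factorization Nat.prime_two hm).1 (by simpa using h2m)
    by_contra hne
    exact h4m ((Nat.Prime.pow_dvd_iff_le_factorization Nat.prime_two hm).2 (by omega : 2 ≤ _))
  rcases SylowSL2.odd_cases hodd with hq4 | hq4
  · have hcard : Nat.card (Torus.diagHom (F := F)).range = Fintype.card F - 1 := by
      rw [← Nat.card_congr (MonoidHom.ofInjective Torus.diagHom_injective).toEquiv,
        Linear.natCard_units_eq]
    haveI : IsCyclic (Torus.diagHom (F := F)).range :=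
      isCyclic_of_surjective (Torus.diagHom (F := F)).rangeRestrict
        (MonoidHom.rangeRestrict_surjective _)
    obtain ⟨h1, h3, h5⟩ := sylow_two_of_torus h2 (torusData_diag (by omega)) (by rw [hcard]; omega)
      (by rw [hv, hcard, one_of (Fintype.card F + 1) (by omega) (by omega) (by omega)]) S
    rw [hcard] at h3 h5
    exact ⟨h1, fun h => h3 (by omega), fun h => h5 (by omega)⟩
  · obtain ⟨A, hA⟩ := Torus.exists_irreducible F
    haveI : Fact (∀ r : F, r ^ 2 ≠ A + 1 * r) := ⟨hA⟩
    obtain ⟨c, hc⟩ := Torus.norm_surjective (A := A) (B := 1) (-1 : F) (by norm_num)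
    have hcard : Nat.card (Torus.torusHom (F := F) (A := A) (B := 1)).range = Fintype.card F + 1 := by
      rw [← Nat.card_congr (MonoidHom.ofInjective Torus.torusHom_injective).toEquiv,
        Torus.natCard_normOne]
    haveI : IsCyclic (Torus.torusHom (F := F) (A := A) (B := 1)).range :=
      isCyclic_of_surjective (Torus.torusHom (F := F) (A := A) (B := 1)).rangeRestrict
        (MonoidHom.rangeRestrict_surjective _)
    obtain ⟨h1, h3, h5⟩ := sylow_two_of_torus h2 (torusData_normOne hodd hc) (by rw [hcard]; omega)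
      (by rw [hv, hcard, one_of (Fintype.card F - 1) (by omega) (by omega) (by omega), add_comm]) S
    rw [hcard] at h3 h5
    exact ⟨h1, fun h => h3 (by omega), fun h => h5 (by omega)⟩

end Cfsg.Agent.S2431
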