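import Cfsg.Statements.S2522
import Mathlib

set_option autoImplicit false
open Cfsg

namespace Cfsg.Agent.S2522

open Matrix

variable {K : Type*} [Field K]

/-- affine function -/
def aff {m : ℕ} (p : K × (Fin m → K)) (y : Fin m → K) : K := p.1 + y ⬝ᵥ p.2

theorem aff_line {m : ℕ} (p : K × (Fin m → K)) (x z : Fin m → K) (t : K) :
    aff p (x + t • (z - x)) = aff p x + t * (aff p z - aff p x) := by
  simp only [aff, add_dotProduct, smul_dotProduct, sub_dotProduct, smul_eq_mul]
  ring

/-- avoid the zero sets of `k` affine functions inside an affine set -/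
theorem avoid {m : ℕ} (Y : (Fin m → K) → Prop)
    (hY : ∀ x z (t : K), Y x → Y z → Y (x + t • (z - x)))
    (l : List (K × (Fin m → K))) (hfresh : ∀ s : Finset K, s.card ≤ l.length → ∃ t, t ∉ s)
    (y0 : Fin m → K) (hy0 : Y y0) (h : ∀ p ∈ l, ∃ z, Y z ∧ aff p z ≠ 0) :
    ∃ y, Y y ∧ ∀ p ∈ l, aff p y ≠ 0 := by
  classical
  induction l with
  | nil => exact ⟨y0, hy0, by simp⟩
  | cons q l ih =>
    obtain ⟨x, hx, hxl⟩ := ih (fun s hs => hfresh s (by simp; omega)) (fun p hp => h p (by simp [hp]))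
    by_cases hq : aff q x = 0
    swap
    · exact ⟨x, hx, by simpa [hq] using hxl⟩
    obtain ⟨z, hz, hzq⟩ := h q (by simp)
    let s : Finset K := insert 0 (l.toFinset.image fun p => -aff p x / (aff p z - aff p x))
    obtain ⟨t, ht⟩ := hfresh s (by
      refine (Finset.card_insert_le _ _).trans ?_
      have := (Finset.card_image_le (s := l.toFinset)
        (f := fun p => -aff p x / (aff p z - aff p x))).trans l.toFinset_card_le
      simp; omega)
    refine ⟨x + t • (z - x), hY x z t hx hz, fun p hp => ?_⟩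
    rw [aff_line]
    have ht0 : t ≠ 0 := fun h0 => ht (by simp [s, h0])
    rcases List.mem_cons.1 hp with rfl | hp
    · rw [hq, zero_add, sub_zero]; exact mul_ne_zero ht0 hzq
    · intro h0
      by_cases hd : aff p z - aff p x = 0
      · rw [hd, mul_zero, add_zero] at h0; exact hxl p hp h0
      · refine ht (Finset.mem_insert_of_mem (Finset.mem_image.2 ⟨p, List.mem_toFinset.2 hp, ?_⟩))
        rw [div_eq_iff hd]; linear_combination -h0

theorem exists_dot {m : ℕ} (u β : Fin m → K) (h : ∀ k : K, u ≠ k • β) :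
    ∃ z, β ⬝ᵥ z = 0 ∧ u ⬝ᵥ z ≠ 0 := by
  classical
  by_cases hb : β = 0
  · obtain ⟨i, hi⟩ : ∃ i, u i ≠ 0 := Function.ne_iff.1 (fun hu : u = 0 => h 0 (by simp [hu]))
    exact ⟨Pi.single i 1, by simp [hb], by simpa using hi⟩
  obtain ⟨i, hi⟩ := Function.ne_iff.1 hb
  obtain ⟨j, hj⟩ : ∃ j, u j * β i ≠ u i * β j := by
    by_contra hc
    push Not at hc
    refine h (u i / β i) (funext fun j => ?_)
    rw [Pi.smul_apply, smul_eq_mul, div_mul_eq_mul_div, eq_div_iff (by simpa using hi)]
    linear_combination hc j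
  refine ⟨β i • Pi.single j 1 - β j • Pi.single i 1, ?_, ?_⟩
  · simp [dotProduct_sub, dotProduct_smul]; ring
  · simp only [dotProduct_sub, dotProduct_smul, dotProduct_single, mul_one, smul_eq_mul]
    intro h0; exact hj (by linear_combination h0)

/-- block matrix with a leading entry -/
def blk {m : ℕ} (α : K) (r a : Fin m → K) (M : Matrix (Fin m) (Fin m) K) :
    Matrix (Fin (m + 1)) (Fin (m + 1)) K :=
  Matrix.of (Fin.cases (Fin.cases α r) (fun i => Fin.cases (a i) (M i)))

section blk
variable {m : ℕ} (α α' : K) (r r' a a' : Fin m → K) (M M' : Matrix (Fin m) (Fin m) K)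

@[simp] theorem blk_00 : blk α r a M 0 0 = α := rfl
@[simp] theorem blk_0s (j : Fin m) : blk α r a M 0 j.succ = r j := rfl
@[simp] theorem blk_s0 (i : Fin m) : blk α r a M i.succ 0 = a i := rfl
@[simp] theorem blk_ss (i j : Fin m) : blk α r a M i.succ j.succ = M i j := rfl

theorem blk_mul : blk α r a M * blk α' r' a' M' =
    blk (α * α' + r ⬝ᵥ a') (α • r' + r ᵥ* M') (α' • a + M *ᵥ a') (vecMulVec a r' + M * M') := by
  ext i j
  refine Fin.cases ?_ (fun i => ?_) i <;> refine Fin.cases ?_ (fun j => ?_) j <;>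
    simp [Matrix.mul_apply, Fin.sum_univ_succ, dotProduct, vecMul, mulVec, vecMulVec_apply, mul_comm]

theorem blk_one : blk (1 : K) 0 0 (1 : Matrix (Fin m) (Fin m) K) = 1 := by
  ext i j
  refine Fin.cases ?_ (fun i => ?_) i <;> refine Fin.cases ?_ (fun j => ?_) j <;>
    simp [Matrix.one_apply, (Fin.succ_ne_zero _).symm]

theorem blk_eta (A : Matrix (Fin (m + 1)) (Fin (m + 1)) K) :
    A = blk (A 0 0) (fun j => A 0 j.succ) (fun i => A i.succ 0) (fun i j => A i.succ j.succ) := by
  ext i j
  refine Fin.cases ?_ (fun i => ?_) i <;> refine Fin.cases ?_ (fun j => ?_) j <;> rfl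

theorem blk_mulVec (x : Fin (m + 1) → K) : blk α r a M *ᵥ x =
    Fin.cons (α * x 0 + r ⬝ᵥ Fin.tail x) (x 0 • a + M *ᵥ Fin.tail x) := by
  ext i
  refine Fin.cases ?_ (fun i => ?_) i <;>
    simp [mulVec, dotProduct, Fin.sum_univ_succ, Fin.tail, mul_comm]

theorem blk_vecMul (x : Fin (m + 1) → K) : x ᵥ* blk α r a M =
    Fin.cons (x 0 * α + Fin.tail x ⬝ᵥ a) (x 0 • r + Fin.tail x ᵥ* M) := by
  ext i
  refine Fin.cases ?_ (fun i => ?_) i <;>
    simp [vecMul, dotProduct, Fin.sum_univ_succ, Fin.tail, mul_comm]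

theorem det_blk_row : (blk α 0 a M).det = α * M.det := by
  rw [det_succ_row_zero, Fin.sum_univ_succ]
  simp only [blk_00, blk_0s, Pi.zero_apply, mul_zero, zero_mul, Finset.sum_const_zero, add_zero,
    Fin.val_zero, pow_zero, one_mul, Fin.succAbove_zero]
  rfl

theorem det_blk_col : (blk α r 0 M).det = α * M.det := by
  rw [det_succ_column_zero, Fin.sum_univ_succ]
  simp only [blk_00, blk_s0, Pi.zero_apply, mul_zero, zero_mul, Finset.sum_const_zero, add_zero,
    Fin.val_zero, pow_zero, one_mul, Fin.succAbove_zero]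
  rfl

end blk

/-- lower unitriangular with non-zero subdiagonal -/
def Low {n : ℕ} (L : Matrix (Fin n) (Fin n) K) : Prop :=
  (∀ i j : Fin n, i < j → L i j = 0) ∧ (∀ i, L i i = 1) ∧
    ∀ i j : Fin n, i.val = j.val + 1 → L i j ≠ 0

theorem low_blk {m : ℕ} (c : Fin (m + 1) → K) (L : Matrix (Fin (m + 1)) (Fin (m + 1)) K)
    (hc : c 0 ≠ 0) (hL : Low L) : Low (blk 1 0 c L) := by
  refine ⟨fun i j h => ?_, fun i => ?_, fun i j h => ?_⟩
  · revert h
    refine Fin.cases ?_ (fun i => ?_) i <;> refine Fin.cases ?_ (fun j => ?_) j <;> intro h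
    · exact absurd h (lt_irrefl _)
    · simp
    · exact absurd h (Fin.not_lt_zero _)
    · simpa using hL.1 i j (by simpa using h)
  · refine Fin.cases ?_ (fun i => ?_) i
    · simp
    · simpa using hL.2.1 i
  · revert h
    refine Fin.cases ?_ (fun i => ?_) i <;> refine Fin.cases ?_ (fun j => ?_) j <;> intro h
    · simp at h
    · simp at h
    · have : i = 0 := Fin.ext (by simpa using h)
      subst this; exact hc
    · simpa using hL.2.2 i j (by simpa using h)

/-- upper unitriangular with non-zero superdiagonal -/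
def Upp {n : ℕ} (U : Matrix (Fin n) (Fin n) K) : Prop := Low Uᵀ

theorem upp_blk {m : ℕ} (r : Fin (m + 1) → K) (U : Matrix (Fin (m + 1)) (Fin (m + 1)) K)
    (hr : r 0 ≠ 0) (hU : Upp U) : Upp (blk 1 r 0 U) := by
  have : (blk 1 r 0 U)ᵀ = blk 1 0 r Uᵀ := by
    ext i j
    refine Fin.cases ?_ (fun i => ?_) i <;> refine Fin.cases ?_ (fun j => ?_) j <;> rfl
  rw [Upp, this]
  exact low_blk r Uᵀ hr hU

/-- `A - 1` has rank at least two -/
def R2 {n : ℕ} (A : Matrix (Fin n) (Fin n) K) : Prop := ∀ w β, A - 1 ≠ vecMulVec w β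

def NS {n : ℕ} (A : Matrix (Fin n) (Fin n) K) : Prop := ∀ k : K, A ≠ k • 1

theorem conj_R2 {n : ℕ} {A P Q : Matrix (Fin n) (Fin n) K} (hPQ : P * Q = 1) (h : R2 A) :
    R2 (Q * A * P) := by
  intro w β he
  refine h (P *ᵥ w) (β ᵥ* Q) ?_
  have hQP : Q * P = 1 := mul_eq_one_comm.1 hPQ
  calc A - 1 = (P * Q) * (A - 1) * (P * Q) := by rw [hPQ, Matrix.one_mul, Matrix.mul_one]
    _ = P * (Q * A * P - 1) * Q := by
        have h1 : Q * A * P - 1 = Q * (A - 1) * P := by
          rw [Matrix.mul_sub, Matrix.sub_mul, Matrix.mul_one, hQP]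
        rw [h1]; simp only [Matrix.mul_assoc]
    _ = vecMulVec (P *ᵥ w) (β ᵥ* Q) := by rw [he, mul_vecMulVec, vecMulVec_mul]

theorem exists_col {n : ℕ} [NeZero n] (v : Fin n → K) (hv : v ≠ 0) :
    ∃ P Q : Matrix (Fin n) (Fin n) K, P * Q = 1 ∧ ∀ i, P i 0 = v i := by
  classical
  obtain ⟨i0, hi0⟩ := Function.ne_iff.1 hv
  let P0 : Matrix (Fin n) (Fin n) K := (1 : Matrix (Fin n) (Fin n) K).updateCol i0 v
  let σ := Equiv.swap (0 : Fin n) i0
  let P := P0.submatrix id σ
  have hdet : P.det ≠ 0 := by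
    rw [Matrix.det_permute']
    refine mul_ne_zero ?_ ?_
    · rcases Int.units_eq_one_or (Equiv.Perm.sign σ) with h | h <;> simp [h]
    · intro h0
      obtain ⟨x, hx, hx0⟩ := Matrix.exists_mulVec_eq_zero_iff.2 h0
      have hcol : ∀ i, (P0 *ᵥ x) i = (if i = i0 then 0 else x i) + x i0 * v i := fun i => by
        rw [Matrix.mulVec, dotProduct, Finset.sum_eq_add_sum_sdiff_singleton_of_mem
          (Finset.mem_univ i0)]
        simp only [P0, Matrix.updateCol_self]
        rw [add_comm, mul_comm (v i)]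
        congr 1
        split_ifs with h
        · refine Finset.sum_eq_zero fun j hj => ?_
          have hj' : j ≠ i0 := by simpa using hj
          simp [h, hj'.symm, hj']
        · rw [Finset.sum_eq_single i]
          · simp [h]
          · intro j hj hji
            have hj' : j ≠ i0 := by simpa using hj
            simp [hj', Ne.symm hji]
          · simp [h]
      have h1 := congrFun hx0 i0
      rw [hcol] at h1
      simp only [if_pos, zero_add, Pi.zero_apply] at h1
      have hxi : x i0 = 0 := (mul_eq_zero.1 h1).resolve_right (by simpa using hi0)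
      apply hx
      funext i
      have h2 := congrFun hx0 i
      rw [hcol, hxi, zero_mul, add_zero] at h2
      by_cases hi : i = i0
      · rw [hi, hxi]; rfl
      · simpa [hi] using h2
  refine ⟨P, P⁻¹, Matrix.mul_nonsing_inv _ (isUnit_iff_ne_zero.2 hdet), fun i => ?_⟩
  simp [P, P0, σ]

theorem scalar_of_eigen {n : ℕ} (hfresh : ∀ s : Finset K, s.card ≤ 3 → ∃ t, t ∉ s)
    (A : Matrix (Fin n) (Fin n) K) (r φ : Fin n → K) (x : Fin n → K) (hrx : x ⬝ᵥ r ≠ 0)
    (hφx : x ⬝ᵥ φ ≠ 0) (h : ∀ v, v ⬝ᵥ r ≠ 0 → v ⬝ᵥ φ ≠ 0 → ∃ l : K, A *ᵥ v = l • v) :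
    ∃ k : K, A = k • 1 := by
  classical
  obtain ⟨l, hl⟩ := h x hrx hφx
  refine ⟨l, Matrix.ext_iff_mulVec.2 fun u => ?_⟩
  set d := u - ((u ⬝ᵥ r) / (x ⬝ᵥ r)) • x with hd
  have hdr : d ⬝ᵥ r = 0 := by
    rw [hd, sub_dotProduct, smul_dotProduct, smul_eq_mul, div_mul_cancel₀ _ hrx, sub_self]
  suffices hAd : A *ᵥ d = l • d by
    have hu : u = d + ((u ⬝ᵥ r) / (x ⬝ᵥ r)) • x := (sub_add_cancel _ _).symm
    rw [smul_mulVec, one_mulVec, hu, mulVec_add, mulVec_smul, hAd, hl, smul_add, smul_comm]
  by_cases hd0 : d = 0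
  · simp [hd0]
  have pick : ∀ s : Finset K, s.card ≤ 1 → ∃ t, t ≠ 0 ∧ t ∉ s ∧ ∃ μ : K, A *ᵥ (x + t • d) = μ • (x + t • d) := by
    intro s hs
    obtain ⟨t, ht⟩ := hfresh (insert 0 (insert (-(x ⬝ᵥ φ) / (d ⬝ᵥ φ)) s)) (by
      refine (Finset.card_insert_le _ _).trans ?_
      have := Finset.card_insert_le (-(x ⬝ᵥ φ) / (d ⬝ᵥ φ)) s
      omega)
    simp only [Finset.mem_insert, not_or] at ht
    refine ⟨t, ht.1, ht.2.2, h _ ?_ ?_⟩
    · rw [add_dotProduct, smul_dotProduct, hdr, smul_zero, add_zero]; exact hrx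
    · rw [add_dotProduct, smul_dotProduct, smul_eq_mul]
      intro h0
      by_cases hdφ : d ⬝ᵥ φ = 0
      · rw [hdφ, mul_zero, add_zero] at h0; exact hφx h0
      · exact ht.2.1 (by rw [eq_div_iff hdφ]; linear_combination h0)
  obtain ⟨t1, ht1, -, μ1, e1⟩ := pick ∅ (by simp)
  obtain ⟨t2, ht2, ht12, μ2, e2⟩ := pick {t1} (by simp)
  rw [Finset.mem_singleton] at ht12
  have key : ∀ (t μ : K), t ≠ 0 → A *ᵥ (x + t • d) = μ • (x + t • d) →
      A *ᵥ d = ((μ - l) / t) • x + μ • d := by
    intro t μ ht e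
    rw [mulVec_add, mulVec_smul, hl] at e
    have : t • (A *ᵥ d) = t • (((μ - l) / t) • x + μ • d) := by
      rw [smul_add, smul_smul, mul_div_cancel₀ _ ht, sub_smul]
      rw [eq_sub_of_add_eq' e, smul_add, smul_comm]; abel
    exact smul_right_injective _ ht this
  have k1 := key t1 μ1 ht1 e1
  have k2 := key t2 μ2 ht2 e2
  have h3 := congrArg (fun v => v ⬝ᵥ r) (k1.symm.trans k2)
  simp only [add_dotProduct, smul_dotProduct, hdr, smul_eq_mul, mul_zero, add_zero] at h3
  have h4 := mul_right_cancel₀ hrx h3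
  have h5 : μ1 = μ2 := by
    have := k1.symm.trans k2
    rw [h4] at this
    exact smul_left_injective _ hd0 (add_left_cancel this)
  subst h5
  have h6 : μ1 - l = 0 := by
    by_contra hne
    rw [div_eq_div_iff ht1 ht2] at h4
    exact ht12 (mul_left_cancel₀ hne h4)
  rw [k1, h6, zero_div, zero_smul, zero_add, sub_eq_zero.1 h6]

/-- the good set for the inductive step -/
theorem exists_g {m : ℕ} (hm : 3 ≤ m) (a : Fin m → K) (ha : a ≠ 0) (N M : Matrix (Fin m) (Fin m) K)
    (r0 : Fin m → K) (Y : (Fin m → K) → Prop) (y0 : Fin m → K) (hy0 : Y y0)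
    (hYd : ∀ y δ, Y y → δ ⬝ᵥ a = 0 → Y (y + δ)) (hYa : ∀ y y', Y y → Y y' → (y - y') ⬝ᵥ a = 0)
    (hN : ∀ β, N ≠ vecMulVec a β) (hinj : ∀ δ, δ ⬝ᵥ a = 0 → δ ᵥ* M = 0 → δ = 0) :
    ∃ p : K × (Fin m → K), (∃ z, Y z ∧ aff p z ≠ 0) ∧ ∀ y, Y y → aff p y ≠ 0 →
      (∀ w β, N - vecMulVec a (r0 + y ᵥ* M) ≠ vecMulVec w β) ∧
        ∀ k : K, N - vecMulVec a (r0 + y ᵥ* M) ≠ k • 1 := by
  classical
  have hdiff : ∀ y y1, N - vecMulVec a (r0 + y ᵥ* M) =
      (N - vecMulVec a (r0 + y1 ᵥ* M)) - vecMulVec a ((y - y1) ᵥ* M) := fun y y1 => by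
    rw [sub_sub, ← vecMulVec_add, sub_vecMul]
    congr 2
    abel
  by_cases hbad : ∃ y1, Y y1 ∧ ∃ w β, N - vecMulVec a (r0 + y1 ᵥ* M) = vecMulVec w β
  · obtain ⟨y1, hy1, w, β, h1⟩ := hbad
    have hwa : ∀ k : K, w ≠ k • a := fun k hk => hN (k • β + (r0 + y1 ᵥ* M)) (by
      rw [sub_eq_iff_eq_add.1 h1, hk]
      ext i j
      simp [vecMulVec_apply]
      ring)
    -- two functionals
    obtain ⟨p', hp'a, hp'w⟩ := exists_dot w a hwa
    have haw : ∀ k : K, a ≠ k • w := fun k hk => by
      rcases eq_or_ne k 0 with h0 | h0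
      · exact ha (by simp [hk, h0])
      · exact hwa k⁻¹ (by rw [hk, smul_smul, inv_mul_cancel₀ h0, one_smul])
    obtain ⟨p, hpw, hpa⟩ := exists_dot a w haw
    -- a direction `δ'` with `δ' M ∉ K β`
    obtain ⟨δ', hδ'a, hδ'⟩ : ∃ δ, δ ⬝ᵥ a = 0 ∧ ∀ k : K, δ ᵥ* M ≠ k • β := by
      by_contra hc
      push Not at hc
      let D : Submodule K (Fin m → K) := LinearMap.ker ((Matrix.toLin' (Matrix.replicateRow (Fin 1) a)))
      have hD : ∀ δ, δ ∈ D ↔ δ ⬝ᵥ a = 0 := fun δ => by
        simp only [D, LinearMap.mem_ker, Matrix.toLin'_apply, funext_iff, Pi.zero_apply]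
        exact ⟨fun h => by simpa [mulVec, dotProduct_comm] using h 0,
          fun h i => by simpa [mulVec, dotProduct_comm] using h⟩
      let f : D →ₗ[K] (Fin m → K) := M.vecMulLinear.comp D.subtype
      have hf : Function.Injective f := by
        rw [← LinearMap.ker_eq_bot, LinearMap.ker_eq_bot']
        exact fun δ h => Subtype.ext (hinj δ ((hD δ).1 δ.2) h)
      have h2 : LinearMap.range f ≤ K ∙ β := by
        rintro _ ⟨δ, rfl⟩
        obtain ⟨k, hk⟩ := hc δ ((hD δ).1 δ.2)
        exact Submodule.mem_span_singleton.2 ⟨k, hk.symm⟩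
      have h3 := LinearMap.finrank_range_of_inj hf
      have h4 := (Submodule.finrank_mono h2).trans (finrank_span_le_card ({β} : Set (Fin m → K)))
      simp only [Set.toFinset_singleton, Finset.card_singleton] at h4
      have h5 := LinearMap.finrank_range_add_finrank_ker (Matrix.toLin' (Matrix.replicateRow (Fin 1) a))
      have h6 := Submodule.finrank_le (LinearMap.range (Matrix.toLin' (Matrix.replicateRow (Fin 1) a)))
      simp only [Module.finrank_fin_fun] at h5 h6
      have h7 : Module.finrank K D = Module.finrank K (LinearMap.ker (Matrix.toLin' (Matrix.replicateRow (Fin 1) a))) := rfl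
      omega
    obtain ⟨z, hzβ, hz⟩ := exists_dot (δ' ᵥ* M) β hδ'
    refine ⟨(-(y1 ⬝ᵥ (M *ᵥ z)), M *ᵥ z), ⟨y1 + δ', hYd _ _ hy1 hδ'a, ?_⟩, fun y hy hne => ⟨?_, ?_⟩⟩
    · rw [dotProduct_mulVec] at *
      simpa [aff, add_dotProduct, dotProduct_mulVec, add_vecMul] using hz
    · intro w' β' h'
      rw [hdiff y y1, h1] at h'
      set ψ := (y - y1) ᵥ* M with hψ
      have q1 := congrArg (fun X => p ᵥ* X) h'
      have q2 := congrArg (fun X => p' ᵥ* X) h'
      simp only [vecMul_sub, vecMul_vecMulVec] at q1 q2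
      rw [dotProduct_comm p w, hpw, zero_smul, zero_sub, dotProduct_comm p a] at q1
      rw [dotProduct_comm p' a, hp'a, zero_smul, sub_zero, dotProduct_comm p' w] at q2
      have hz1 := congrArg (fun v => v ⬝ᵥ z) q1
      have hz2 := congrArg (fun v => v ⬝ᵥ z) q2
      simp only [neg_dotProduct, smul_dotProduct, hzβ, smul_eq_mul, mul_zero] at hz1 hz2
      apply hne
      rw [aff, ← sub_eq_neg_add, ← sub_dotProduct, dotProduct_mulVec]
      show ψ ⬝ᵥ z = 0
      rcases mul_eq_zero.1 hz2.symm with h0 | h0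
      · -- `p' ⬝ w' = 0` forces `β = 0`
        rw [h0, zero_smul] at q2
        have hb : β = 0 := (smul_eq_zero.1 q2).resolve_left hp'w
        exact absurd (by rw [vecMulVec_add, ← sub_eq_iff_eq_add]; simpa [hb] using h1)
          (hN (0 + (r0 + y1 ᵥ* M)))
      · rw [h0, mul_zero, neg_eq_zero] at hz1
        exact (mul_eq_zero.1 hz1).resolve_left hpa
    · intro k hk
      rw [hdiff y y1, h1, sub_eq_iff_eq_add] at hk
      obtain ⟨z', hz'0, hz'1, hz'2⟩ : ∃ z', z' ≠ 0 ∧ β ⬝ᵥ z' = 0 ∧ ((y - y1) ᵥ* M) ⬝ᵥ z' = 0 := by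
        let f := Matrix.toLin' (Matrix.of ![β, (y - y1) ᵥ* M])
        have hker : LinearMap.ker f ≠ ⊥ := LinearMap.ker_ne_bot_of_finrank_lt (by simp; omega)
        obtain ⟨z', hz', hz'0⟩ := Submodule.exists_mem_ne_zero_of_ne_bot hker
        exact ⟨z', hz'0, congrFun hz' 0, congrFun hz' 1⟩
      have := congrArg (fun X => X *ᵥ z') hk
      simp only [vecMulVec_mulVec, hz'1, add_mulVec, smul_mulVec, one_mulVec, hz'2] at this
      simp only [MulOpposite.op_zero, zero_smul, add_zero] at this
      rcases smul_eq_zero.1 this.symm with h0 | h0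
      · subst h0
        apply hne
        rw [zero_smul, zero_add] at hk
        have q2 := congrArg (fun X => p' ᵥ* X) hk
        simp only [vecMul_vecMulVec] at q2
        rw [dotProduct_comm p' w, dotProduct_comm p' a, hp'a, zero_smul] at q2
        have hb : β = 0 := (smul_eq_zero.1 q2).resolve_left hp'w
        exact absurd (by rw [vecMulVec_add, ← sub_eq_iff_eq_add]; simpa [hb] using h1)
          (hN (0 + (r0 + y1 ᵥ* M)))
      · exact hz'0 h0
  push Not at hbad
  by_cases hsc : ∃ y1, Y y1 ∧ ∃ k : K, N - vecMulVec a (r0 + y1 ᵥ* M) = k • 1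
  · obtain ⟨y1, hy1, k, h1⟩ := hsc
    obtain ⟨δ', hδ'0, hδ'a⟩ : ∃ δ : Fin m → K, δ ≠ 0 ∧ δ ⬝ᵥ a = 0 := by
      have hker : LinearMap.ker (Matrix.toLin' (Matrix.replicateRow (Fin 1) a)) ≠ ⊥ :=
        LinearMap.ker_ne_bot_of_finrank_lt (by simp; omega)
      obtain ⟨z', hz', hz'0⟩ := Submodule.exists_mem_ne_zero_of_ne_bot hker
      exact ⟨z', hz'0, by rw [dotProduct_comm]; exact congrFun hz' 0⟩
    obtain ⟨i, hi⟩ := Function.ne_iff.1 hδ'0
    refine ⟨(-(y1 i), Pi.single i 1), ⟨y1 + δ', hYd _ _ hy1 hδ'a, by simpa [aff] using hi⟩,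
      fun y hy hne => ⟨hbad y hy, fun k' hk' => hne ?_⟩⟩
    rw [hdiff y y1, h1] at hk'
    have hψ : (y - y1) ᵥ* M = 0 := by
      by_contra hψ
      obtain ⟨z', hz'0, hz'1⟩ : ∃ z', z' ≠ 0 ∧ ((y - y1) ᵥ* M) ⬝ᵥ z' = 0 := by
        have hker : LinearMap.ker (Matrix.toLin' (Matrix.replicateRow (Fin 1) ((y - y1) ᵥ* M))) ≠ ⊥ :=
          LinearMap.ker_ne_bot_of_finrank_lt (by simp; omega)
        obtain ⟨z', hz', hz'0⟩ := Submodule.exists_mem_ne_zero_of_ne_bot hker
        exact ⟨z', hz'0, congrFun hz' 0⟩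
      have h0 := congrArg (fun X => X *ᵥ z') hk'
      simp only [sub_mulVec, smul_mulVec, one_mulVec, vecMulVec_mulVec, hz'1, MulOpposite.op_zero,
        zero_smul, sub_zero] at h0
      rw [smul_left_injective _ hz'0 h0, sub_eq_self] at hk'
      rcases vecMulVec_eq_zero.1 hk' with h | h
      · exact ha h
      · exact hψ h
    have : y = y1 := sub_eq_zero.1 (hinj _ (hYa y y1 hy hy1) hψ)
    simp [aff, this]
  push Not at hsc
  exact ⟨(1, 0), ⟨y0, hy0, by simp [aff]⟩, fun y hy _ => ⟨hbad y hy, hsc y hy⟩⟩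

theorem det_decomp {m : ℕ} (a : Fin m → K) (r : Fin m → K) (M : Matrix (Fin m) (Fin m) K) :
    (blk 1 r a M).det = (M - vecMulVec a r).det := by
  have : blk 1 r a M = blk 1 0 a 1 * blk 1 r 0 (M - vecMulVec a r) := by
    rw [blk_mul]; simp
  rw [this, det_mul, det_blk_row, det_blk_col, det_one, one_mul, one_mul, one_mul]

theorem exists_v {n : ℕ} (hK : ∀ s : Finset K, s.card ≤ 3 → ∃ t, t ∉ s)
    (A : Matrix (Fin n) (Fin n) K) (hR : R2 A) (hNS : NS A) (c r : Fin n → K) (hr : r ≠ 0) :
    ∃ v, v ⬝ᵥ r ≠ 0 ∧ (∀ l : K, A *ᵥ v ≠ l • v) ∧ (∀ k : K, c = k • (A *ᵥ v - v) → c = 0) ∧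
      ((∀ η, η ᵥ* (A - 1) = 0 → η = 0) ∨ ∃ η, η ᵥ* (A - 1) = 0 ∧ v ⬝ᵥ η ≠ 0) := by
  classical
  obtain ⟨ψ, hψc, hψ⟩ : ∃ ψ, ψ ⬝ᵥ c = 0 ∧ ψ ᵥ* (A - 1) ≠ 0 := by
    by_contra hc
    push Not at hc
    by_cases hc0 : c = 0
    · refine hR 0 0 ?_
      rw [vecMulVec_eq_zero.2 (.inl rfl)]
      exact Matrix.ext_iff_vecMul.2 fun u => by rw [hc u (by simp [hc0]), vecMul_zero]
    · obtain ⟨i, hi⟩ := Function.ne_iff.1 hc0
      refine hR c ((c i)⁻¹ • (Pi.single i 1 ᵥ* (A - 1))) (Matrix.ext_iff_vecMul.2 fun u => ?_)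
      have := hc (u - ((u ⬝ᵥ c) / c i) • Pi.single i 1) (by
        rw [sub_dotProduct, smul_dotProduct, single_dotProduct, one_mul, smul_eq_mul,
          div_mul_cancel₀ _ (by simpa using hi), sub_self])
      rw [sub_vecMul, smul_vecMul, sub_eq_zero] at this
      rw [this, vecMul_vecMulVec, smul_smul, ← div_eq_mul_inv]
  set φ := ψ ᵥ* (A - 1) with hφ
  have hφv : ∀ v, v ⬝ᵥ φ = ψ ⬝ᵥ (A *ᵥ v - v) := fun v => by
    rw [dotProduct_comm, hφ, ← dotProduct_mulVec, sub_mulVec, one_mulVec]
  have hck : ∀ v, v ⬝ᵥ φ ≠ 0 → ∀ k : K, c = k • (A *ᵥ v - v) → c = 0 := by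
    intro v hv k hk
    rw [hk, dotProduct_smul, ← hφv, smul_eq_mul] at hψc
    rw [hk, (mul_eq_zero.1 hψc).resolve_right hv, zero_smul]
  have hwit : ∀ u : Fin n → K, u ≠ 0 → ∃ z : Fin n → K, True ∧ aff (0, u) z ≠ 0 := fun u hu => by
    obtain ⟨i, hi⟩ := Function.ne_iff.1 hu
    exact ⟨Pi.single i 1, trivial, by simpa [aff] using hi⟩
  by_cases hη : ∀ η, η ᵥ* (A - 1) = 0 → η = 0
  · obtain ⟨x, -, hx⟩ := avoid (fun _ => True) (fun _ _ _ _ _ => trivial) [(0, r), (0, φ)]
      (fun s hs => hK s (by simp at hs; omega)) 0 trivial (fun p hp => by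
        simp only [List.mem_cons, List.not_mem_nil, or_false] at hp
        rcases hp with rfl | rfl
        · exact hwit r hr
        · exact hwit φ hψ)
    have hx1 : x ⬝ᵥ r ≠ 0 := by simpa [aff] using hx (0, r) (by simp)
    have hx2 : x ⬝ᵥ φ ≠ 0 := by simpa [aff] using hx (0, φ) (by simp)
    by_contra hcon
    obtain ⟨k, hk⟩ := scalar_of_eigen hK A r φ x hx1 hx2 (fun v h1 h2 => by
      by_contra hne
      push Not at hne
      exact hcon ⟨v, h1, hne, hck v h2, .inl hη⟩)
    exact hNS k hk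
  · push Not at hη
    obtain ⟨η, hη1, hη0⟩ := hη
    obtain ⟨x, -, hx⟩ := avoid (fun _ => True) (fun _ _ _ _ _ => trivial) [(0, r), (0, φ), (0, η)]
      (fun s hs => hK s (by simp at hs; omega)) 0 trivial (fun p hp => by
        simp only [List.mem_cons, List.not_mem_nil, or_false] at hp
        rcases hp with rfl | rfl | rfl
        · exact hwit r hr
        · exact hwit φ hψ
        · exact hwit η hη0)
    have hx1 : x ⬝ᵥ r ≠ 0 := by simpa [aff] using hx (0, r) (by simp)
    have hx2 : x ⬝ᵥ φ ≠ 0 := by simpa [aff] using hx (0, φ) (by simp)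
    have hx3 : x ⬝ᵥ η ≠ 0 := by simpa [aff] using hx (0, η) (by simp)
    refine ⟨x, hx1, fun l hl => ?_, hck x hx2, .inr ⟨η, hη1, hx3⟩⟩
    have h1 : η ⬝ᵥ ((A - 1) *ᵥ x) = 0 := by rw [dotProduct_mulVec, hη1, zero_dotProduct]
    rw [sub_mulVec, one_mulVec, hl, dotProduct_sub, dotProduct_smul, smul_eq_mul, dotProduct_comm η] at h1
    have hl1 : l = 1 := by
      have : (l - 1) * (x ⬝ᵥ η) = 0 := by linear_combination h1
      exact sub_eq_zero.1 ((mul_eq_zero.1 this).resolve_right hx3)
    exact hx2 (by rw [hφv, hl, hl1, one_smul, sub_self, dotProduct_zero])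

/-- the inductive factorisation -/
theorem factor (hK : ∀ s : Finset K, s.card ≤ 3 → ∃ t, t ∉ s)
    (hK4 : (2 : K) ≠ 0 → ∀ s : Finset K, s.card ≤ 4 → ∃ t, t ∉ s) :
    ∀ (n : ℕ) (A : Matrix (Fin (n + 1)) (Fin (n + 1)) K), A.det = 1 → (n = 0 ∨ (NS A ∧ R2 A)) →
    ∀ c r : Fin (n + 1) → K, c ≠ 0 → r ≠ 0 →
      ∃ P Q L U : Matrix (Fin (n + 1)) (Fin (n + 1)) K, P * Q = 1 ∧ Low L ∧ Upp U ∧
        Q * A * P = L * U ∧ (Q *ᵥ c) 0 ≠ 0 ∧ (r ᵥ* P) 0 ≠ 0 := by
  intro n
  induction n with
  | zero =>
    intro A hA _ c r hc hr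
    haveI : Subsingleton (Fin (0 + 1)) := Fin.subsingleton_one
    have h1 : Low (1 : Matrix (Fin 1) (Fin 1) K) :=
      ⟨fun i j h => absurd h (by simp [Subsingleton.elim i j]), fun i => by simp,
        fun i j h => by have := i.2; omega⟩
    have hA1 : A = 1 := by
      ext i j
      rw [Subsingleton.elim i 0, Subsingleton.elim j 0]
      simpa [det_fin_one] using hA
    have h0 : ∀ u : Fin 1 → K, u ≠ 0 → u 0 ≠ 0 := fun u hu h =>
      hu (funext fun i => by rw [Subsingleton.elim i 0, h]; rfl)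
    exact ⟨1, 1, 1, 1, by simp, h1, by simpa [Upp] using h1, by simp [hA1], by simpa using h0 c hc,
      by simpa using h0 r hr⟩
  | succ m ih =>
    intro A hA hAA c r hc hr
    obtain ⟨hNS, hR⟩ := hAA.resolve_left (by omega)
    classical
    obtain ⟨v, hvr, hve, hvc, hvη⟩ := exists_v hK A hR hNS c r hr
    have hv0 : v ≠ 0 := fun h => hvr (by simp [h])
    obtain ⟨P1, Q1, hPQ1, hcol⟩ := exists_col v hv0
    have hQP1 : Q1 * P1 = 1 := mul_eq_one_comm.1 hPQ1
    have hP1e : P1 *ᵥ Pi.single 0 1 = v := by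
      funext i; simp [mulVec_single, hcol i]
    have hR1 := conj_R2 hPQ1 hR
    set A1 := Q1 * A * P1 with hA1
    set α := A1 0 0
    set r0 : Fin (m + 1) → K := fun j => A1 0 j.succ
    set a : Fin (m + 1) → K := fun i => A1 i.succ 0
    set M : Matrix (Fin (m + 1)) (Fin (m + 1)) K := fun i j => A1 i.succ j.succ
    have hA1blk : A1 = blk α r0 a M := blk_eta A1
    set N := M - 1 with hNdef
    have hA1m : A1 - 1 = blk (α - 1) r0 a N := by
      rw [hA1blk, ← blk_one]
      ext i j
      refine Fin.cases ?_ (fun i => ?_) i <;> refine Fin.cases ?_ (fun j => ?_) j <;>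
        simp [N, Matrix.one_apply]
    have hcolA : A1 *ᵥ Pi.single 0 1 = Fin.cons α a := by
      funext i; refine Fin.cases ?_ (fun i => ?_) i <;> simp [mulVec_single, α, a]
    have hAv : A *ᵥ v = P1 *ᵥ Fin.cons α a := by
      rw [← hcolA, ← hP1e]
      simp only [mulVec_mulVec, A1]
      rw [← Matrix.mul_assoc, ← Matrix.mul_assoc, hPQ1, Matrix.one_mul]
    have ha : a ≠ 0 := by
      intro h0
      refine hve α ?_
      rw [hAv, ← hP1e, ← mulVec_smul, h0]
      congr 1
      funext i; refine Fin.cases ?_ (fun i => ?_) i <;> simp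
    set c1 := Q1 *ᵥ c with hc1
    have hc1k : ∀ k : K, c1 ≠ k • Fin.cons (α - 1) a := by
      intro k hk
      apply hc
      refine hvc k ?_
      have h1 : c = P1 *ᵥ c1 := by rw [hc1, mulVec_mulVec, hPQ1, one_mulVec]
      rw [h1, hk, mulVec_smul, hAv, ← hP1e, ← mulVec_sub]
      congr 2
      funext i; refine Fin.cases ?_ (fun i => ?_) i <;> simp
    have hr1 : (r ᵥ* P1) 0 ≠ 0 := by
      have : (r ᵥ* P1) 0 = v ⬝ᵥ r := by
        simp [vecMul, dotProduct, ← hcol, mul_comm]
      rwa [this]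
    -- the affine set
    obtain ⟨i0, hi0⟩ := Function.ne_iff.1 ha
    let Y : (Fin (m + 1) → K) → Prop := fun y => y ⬝ᵥ a = 1 - α
    let y0 : Fin (m + 1) → K := ((1 - α) / a i0) • Pi.single i0 1
    have hy0 : Y y0 := by
      show y0 ⬝ᵥ a = _
      rw [smul_dotProduct, single_dotProduct, one_mul, smul_eq_mul, div_mul_cancel₀ _ (by simpa using hi0)]
    have hYl : ∀ x z (t : K), Y x → Y z → Y (x + t • (z - x)) := fun x z t hx hz => by
      show _ ⬝ᵥ a = _
      rw [add_dotProduct, smul_dotProduct, sub_dotProduct, hx, hz, sub_self, smul_zero, add_zero]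
    have hYd : ∀ y δ, Y y → δ ⬝ᵥ a = 0 → Y (y + δ) := fun y δ hy hδ => by
      show _ ⬝ᵥ a = _
      rw [add_dotProduct, hy, hδ, add_zero]
    have hYa : ∀ y y', Y y → Y y' → (y - y') ⬝ᵥ a = 0 := fun y y' hy hy' => by
      rw [sub_dotProduct, hy, hy', sub_self]
    have hA1det : A1.det = 1 := by
      have h1 : Q1.det * P1.det = 1 := by rw [← det_mul, hQP1, det_one]
      rw [hA1, det_mul, det_mul, hA, mul_one, h1]
    have hinj : ∀ δ, δ ⬝ᵥ a = 0 → δ ᵥ* M = 0 → δ = 0 := by
      intro δ h1 h2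
      by_contra hne
      have h3 : (Fin.cons 0 δ : Fin (m + 1 + 1) → K) ᵥ* A1 = 0 := by
        rw [hA1blk, blk_vecMul]
        funext i
        refine Fin.cases ?_ (fun i => ?_) i <;> simp [h1, h2]
      have h4 : A1.det = 0 := Matrix.exists_vecMul_eq_zero_iff.1
        ⟨_, fun h0 => hne (funext fun i => by simpa using congrFun h0 i.succ), h3⟩
      rw [hA1det] at h4
      exact one_ne_zero h4
    have hNa : 1 ≤ m → ∀ β, N ≠ vecMulVec a β := by
      intro hm β hN
      have hnull : ∀ η : Fin (m + 1 + 1) → K, η ᵥ* (A1 - 1) = 0 → η 0 = 0 := by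
        intro η hη
        by_contra h0
        rw [hA1m, blk_vecMul] at hη
        have e0 : η 0 * (α - 1) + Fin.tail η ⬝ᵥ a = 0 := by simpa using congrFun hη 0
        have e1 : η 0 • r0 + Fin.tail η ᵥ* N = 0 := funext fun i => by simpa using congrFun hη i.succ
        rw [hN, vecMul_vecMulVec] at e1
        refine hR1 (Fin.cons (α - 1) a) (Fin.cons 1 β) ?_
        rw [hA1m, hN]
        have hr0 : r0 = (α - 1) • β := by
          have ht : Fin.tail η ⬝ᵥ a = -(η 0 * (α - 1)) := by linear_combination e0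
          have e2 : η 0 • r0 = η 0 • ((α - 1) • β) := by
            rw [eq_neg_of_add_eq_zero_left e1, ht, smul_smul, ← neg_smul]; congr 1; ring
          exact smul_right_injective _ h0 e2
        ext i j
        refine Fin.cases ?_ (fun i => ?_) i <;> refine Fin.cases ?_ (fun j => ?_) j <;>
          simp [vecMulVec_apply, hr0]
      rcases hvη with hη | ⟨η, hη, hηv⟩
      · obtain ⟨δ, hδ0, hδa⟩ : ∃ δ : Fin (m + 1) → K, δ ≠ 0 ∧ δ ⬝ᵥ a = 0 := by
          have hker : LinearMap.ker (Matrix.toLin' (Matrix.replicateRow (Fin 1) a)) ≠ ⊥ :=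
            LinearMap.ker_ne_bot_of_finrank_lt (by simp; omega)
          obtain ⟨z', hz', hz'0⟩ := Submodule.exists_mem_ne_zero_of_ne_bot hker
          exact ⟨z', hz'0, by rw [dotProduct_comm]; exact congrFun hz' 0⟩
        have h1 : (Fin.cons 0 δ : Fin (m + 1 + 1) → K) ᵥ* (A1 - 1) = 0 := by
          rw [hA1m, blk_vecMul, hN]
          funext i
          refine Fin.cases ?_ (fun i => ?_) i <;> simp [hδa, vecMul_vecMulVec]
        have h2 := hη ((Fin.cons 0 δ : Fin (m + 1 + 1) → K) ᵥ* Q1) (by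
          have hA' : A1 - 1 = Q1 * (A - 1) * P1 := by
            rw [hA1, Matrix.mul_sub, Matrix.sub_mul, Matrix.mul_one, hQP1]
          rw [hA', ← vecMul_vecMul, ← vecMul_vecMul] at h1
          have := congrArg (fun u => u ᵥ* Q1) h1
          simpa [vecMul_vecMul, hPQ1, Matrix.mul_assoc] using this)
        have h3 := congrArg (fun u => u ᵥ* P1) h2
        simp only [vecMul_vecMul, hQP1, vecMul_one, zero_vecMul] at h3
        exact hδ0 (funext fun i => by simpa using congrFun h3 i.succ)
      · refine hηv ?_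
        have h1 : (η ᵥ* P1) ᵥ* (A1 - 1) = 0 := by
          have hA' : A1 - 1 = Q1 * (A - 1) * P1 := by
            rw [hA1, Matrix.mul_sub, Matrix.sub_mul, Matrix.mul_one, hQP1]
          rw [hA', vecMul_vecMul, ← Matrix.mul_assoc, ← Matrix.mul_assoc, hPQ1, Matrix.one_mul,
            ← vecMul_vecMul, hη, zero_vecMul]
        rw [← hnull _ h1]
        simp [vecMul, dotProduct, ← hcol, mul_comm]
    let X : (Fin (m + 1) → K) → Matrix (Fin (m + 1)) (Fin (m + 1)) K := fun y =>
      N - vecMulVec a (r0 + y ᵥ* M)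
    have hdetS : ∀ y, Y y → (1 + X y).det = 1 := by
      intro y hy
      have hT : blk 1 y 0 (1 : Matrix (Fin (m + 1)) (Fin (m + 1)) K) * A1 * blk 1 (-y) 0 1 =
          blk 1 (r0 + y ᵥ* N) a (M - vecMulVec a y) := by
        rw [hA1blk, blk_mul, blk_mul]
        simp only [zero_dotProduct, one_mul, mul_one, dotProduct_zero, add_zero, mulVec_zero,
          one_smul, vecMulVec_zero, zero_add, vecMul_one, one_mulVec, Matrix.one_mul, Matrix.mul_one,
          smul_zero, zero_vecMulVec]
        rw [hy, vecMulVec_neg]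
        congr 1
        · ring
        · rw [hNdef, vecMul_sub, vecMul_one, add_sub_cancel, one_smul]; abel
        · abel
      have := congrArg Matrix.det hT
      rw [det_mul, det_mul, det_blk_col, det_blk_col, det_one, one_mul, one_mul, mul_one, hA1det,
        det_decomp] at this
      rw [this]
      congr 1
      simp only [X, hNdef, vecMulVec_add, vecMul_sub, vecMul_one, vecMulVec_sub]
      abel
    -- the list of conditions
    obtain ⟨l, hlen, hwit, hgood⟩ : ∃ l : List (K × (Fin (m + 1) → K)),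
        (l.length ≤ 1 ∨ (l.length ≤ 2 ∧ (2 : K) ≠ 0)) ∧
        (∀ p ∈ l, ∃ z, Y z ∧ aff p z ≠ 0) ∧ ∀ y, Y y → (∀ p ∈ l, aff p y ≠ 0) →
          (m = 0 ∨ (NS (1 + X y) ∧ R2 (1 + X y))) := by
      rcases Nat.lt_or_ge m 2 with hm | hm
      · obtain rfl | rfl : m = 0 ∨ m = 1 := by omega
        · exact ⟨[], .inl (by simp), by simp, fun y _ _ => .inl rfl⟩
        -- dimension two
        have sum2 : ∀ f : Fin (1 + 1) → K, ∑ i, f i = f 0 + f 1 := Fin.sum_univ_two
        have det2 : ∀ Z : Matrix (Fin (1 + 1)) (Fin (1 + 1)) K, Z.det = Z 0 0 * Z 1 1 - Z 0 1 * Z 1 0 :=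
          Matrix.det_fin_two
        have hN1 := hNa le_rfl
        let δ : Fin 2 → K := ![-(a 1), a 0]
        have hδa : δ ⬝ᵥ a = 0 := by simp [δ, dotProduct, sum2]; ring
        let ψ := δ ᵥ* M
        have hXt : ∀ t : K, X (y0 + t • δ) = X y0 - vecMulVec (t • a) ψ := fun t => by
          simp only [X, add_vecMul, smul_vecMul, vecMulVec_add, smul_vecMulVec, vecMulVec_smul, ψ]
          abel
        have hline : ∀ y, Y y → ∃ t : K, y = y0 + t • δ := by
          intro y hy
          have h := hYa y y0 hy hy0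
          simp only [dotProduct, sum2, Pi.sub_apply] at h
          rcases eq_or_ne (a 0) 0 with h0 | h0
          · have h1 : a 1 ≠ 0 := fun h1 => ha (funext fun i => by fin_cases i <;> simp [h0, h1])
            rw [h0, mul_zero, zero_add] at h
            have h2 := (mul_eq_zero.1 h).resolve_right h1
            refine ⟨(y 0 - y0 0) / -(a 1), funext fun i => ?_⟩
            fin_cases i
            · simp [δ]; field_simp; ring
            · simp [δ, h0]; linear_combination h2
          · refine ⟨(y 1 - y0 1) / a 0, funext fun i => ?_⟩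
            fin_cases i
            · simp [δ]; field_simp; linear_combination h
            · simp [δ]; field_simp; ring
        obtain ⟨D0, hD0⟩ : ∃ s : K, ∀ t, (X (y0 + t • δ)).det = (X y0).det + t * s := by
          refine ⟨-((X y0) 0 0 * a 1 * ψ 1 + a 0 * ψ 0 * (X y0) 1 1 - (X y0) 0 1 * a 1 * ψ 0
            - a 0 * ψ 1 * (X y0) 1 0), fun t => ?_⟩
          rw [hXt, det2, det2]
          simp [vecMulVec_apply]
          ring
        have hS : ∀ t : K, (1 + X (y0 + t • δ)).det = 1 := fun t =>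
          hdetS _ (hYd y0 (t • δ) hy0 (by rw [smul_dotProduct, hδa, smul_eq_mul, mul_zero]))
        -- a point with `det X ≠ 0`
        have hne : ∃ t : K, (X (y0 + t • δ)).det ≠ 0 := by
          by_contra hall
          push Not at hall
          have h00 : (X y0).det = 0 := by simpa using hall 0
          have h01 : D0 = 0 := by simpa [h00] using (hD0 1).symm.trans (hall 1)
          have hs0 := (hD0 1).symm.trans (hall 1)
          have e0 := hS 0
          have e1 := hS 1
          rw [zero_smul, add_zero] at e0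
          rw [det2] at e0 e1 h00
          have hh := hall 1
          rw [hXt, det2] at hh
          rw [hXt] at e1
          simp [vecMulVec_apply, one_apply] at e0 e1 hh
          have hψa : a 0 * ψ 0 + a 1 * ψ 1 = 0 := by linear_combination e0 - e1 + hh - h00
          -- then `δ N a = 0` and `δ (N + 1) a = 0`
          have hδN : (δ ᵥ* N) ⬝ᵥ a = 0 := by
            rw [hNdef, vecMul_sub, vecMul_one, sub_dotProduct, hδa, sub_zero]
            simp only [dotProduct, sum2]
            linear_combination hψa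
          -- the trace of `X y0` vanishes
          have htr : X y0 0 0 + X y0 1 1 = 0 := by linear_combination e0 - h00
          -- `δ X = δ N`
          have hδX : δ ᵥ* X y0 = δ ᵥ* N := by
            simp only [X, vecMul_sub, vecMul_vecMulVec, hδa, zero_smul, sub_zero]
          have hδN0 : δ ᵥ* N ≠ 0 := by
            intro h0
            rcases eq_or_ne (a 0) 0 with h | h
            · have h1 : a 1 ≠ 0 := fun h1 => ha (funext fun i => by fin_cases i <;> simp [h, h1])
              refine hN1 (fun j => N 1 j / a 1) ?_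
              ext i j
              have := congrFun h0 j
              simp [δ, vecMul, dotProduct, sum2, h, h1] at this
              fin_cases i <;> simp [vecMulVec_apply, h, h1, this] <;> field_simp
            · refine hN1 (fun j => N 0 j / a 0) ?_
              ext i j
              have := congrFun h0 j
              simp [δ, vecMul, dotProduct, sum2] at this
              fin_cases i <;> simp [vecMulVec_apply] <;> field_simp
              linear_combination this
          -- `δ N = k δ`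
          rw [← hδX] at hδN hδN0
          obtain ⟨k, hk0, hk1⟩ : ∃ k, (δ ᵥ* X y0) 0 = k * -(a 1) ∧ (δ ᵥ* X y0) 1 = k * a 0 := by
            simp only [dotProduct, sum2] at hδN
            rcases eq_or_ne (a 0) 0 with h | h
            · have h1 : a 1 ≠ 0 := fun h1 => ha (funext fun i => by fin_cases i <;> simp [h, h1])
              rw [h, mul_zero, zero_add] at hδN
              exact ⟨-((δ ᵥ* X y0) 0 / a 1), by field_simp,
                by rw [(mul_eq_zero.1 hδN).resolve_right h1, h, mul_zero]⟩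
            · exact ⟨(δ ᵥ* X y0) 1 / a 0, by field_simp; linear_combination hδN, by field_simp⟩
          have hk : k ≠ 0 := fun h => hδN0 (funext fun i => by fin_cases i <;> simp [hk0, hk1, h])
          simp only [δ, vecMul, dotProduct, sum2, Matrix.cons_val_zero,
            Matrix.cons_val_one] at hk0 hk1
          -- the characteristic polynomial `z ↦ z²` cannot vanish at `k`
          have hev : ∀ i, (δ i) * k ^ 2 = 0 := by
            intro i; fin_cases i
            · show -(a 1) * k ^ 2 = 0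
              linear_combination (-(k : K)) * hk0 - (X y0 0 0) * hk0 - (X y0 1 0) * hk1
                + (-(a 1) * X y0 0 0 + a 0 * X y0 1 0) * htr + (a 1) * h00
            · show a 0 * k ^ 2 = 0
              linear_combination (-(k : K)) * hk1 - (X y0 1 1) * hk1 - (X y0 0 1) * hk0
                + (-(a 1) * X y0 0 1 + a 0 * X y0 1 1) * htr - (a 0) * h00
          exact ha (funext fun i => by
            have hk2 : k ^ 2 ≠ 0 := pow_ne_zero 2 hk
            fin_cases i
            · simpa [δ, hk2] using hev 1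
            · simpa [δ, hk2] using hev 0)
        obtain ⟨t1, ht1⟩ := hne
        -- `det X` as an affine function of `y`
        obtain ⟨j, hj⟩ : ∃ j, δ j ≠ 0 := by
          rcases eq_or_ne (a 0) 0 with h | h
          · exact ⟨0, by simpa [δ] using fun h1 => ha (funext fun i => by fin_cases i <;> simp [h, h1])⟩
          · exact ⟨1, by simpa [δ] using h⟩
        let p3 : K × (Fin 2 → K) := ((X y0).det - y0 j * (D0 / δ j), (D0 / δ j) • Pi.single j 1)
        have hp3 : ∀ t, aff p3 (y0 + t • δ) = (X (y0 + t • δ)).det := fun t => by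
          rw [hD0, aff]; simp [p3]; field_simp; ring
        have hR2 : ∀ y, Y y → aff p3 y ≠ 0 → R2 (1 + X y) := by
          intro y hy h w β he
          obtain ⟨t, rfl⟩ := hline y hy
          rw [add_sub_cancel_left] at he
          rw [hp3, he, det2] at h
          exact h (by simp [vecMulVec_apply]; ring)
        have hw3 : ∃ z, Y z ∧ aff p3 z ≠ 0 :=
          ⟨_, hYd _ _ hy0 (by rw [smul_dotProduct, hδa, smul_zero]), (hp3 t1).trans_ne ht1⟩
        have hscal : ∀ y, Y y → ∀ k : K, 1 + X y = k • 1 → k * k = 1 := fun y hy k hk => by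
          have := hdetS y hy
          rw [hk, det2] at this
          simpa using this
        by_cases h2 : (2 : K) = 0
        · refine ⟨[p3], .inl (by simp), by simpa using hw3, fun y hy h => .inr ⟨fun k hk => ?_, hR2 y hy (h p3 (by simp))⟩⟩
          have hk1 : k = 1 := by
            have h3 : (k - 1) * (k - 1) = 0 := by linear_combination hscal y hy k hk + (1 - k) * h2
            exact sub_eq_zero.1 (mul_self_eq_zero.1 h3)
          exact hR2 y hy (h p3 (by simp)) 0 0 (by rw [hk, hk1, one_smul, sub_self]; simp)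
        by_cases hsc : ∃ y1, Y y1 ∧ ∃ k : K, 1 + X y1 = k • 1
        · obtain ⟨y1, hy1, k1, hk1⟩ := hsc
          refine ⟨[p3, (-(y1 j), Pi.single j 1)], .inr ⟨by simp, h2⟩, fun p hp => ?_,
            fun y hy h => .inr ⟨fun k hk => ?_, hR2 y hy (h p3 (by simp))⟩⟩
          · simp only [List.mem_cons, List.not_mem_nil, or_false] at hp
            rcases hp with rfl | rfl
            · exact hw3
            · exact ⟨y1 + δ, hYd _ _ hy1 hδa, by simpa [aff] using hj⟩
          · have h4 := h (-(y1 j), Pi.single j 1) (by simp)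
            apply h4
            obtain ⟨t, rfl⟩ := hline y hy
            obtain ⟨s, rfl⟩ := hline y1 hy1
            have h5 := congrArg₂ (· - ·) hk hk1
            simp only [hXt] at h5
            have h6 : vecMulVec ((s - t) • a) ψ = (k - k1) • (1 : Matrix (Fin (1 + 1)) (Fin (1 + 1)) K) := by
              rw [sub_smul k k1, ← h5, sub_smul, sub_vecMulVec]; abel
            rcases eq_or_ne t s with rfl | hts
            · simp [aff]
            · exfalso
              have hψ : ψ ≠ 0 := fun hψ => hj (by rw [hinj δ hδa hψ]; rfl)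
              have e01 := congrFun (congrFun h6 0) 1
              have e10 := congrFun (congrFun h6 1) 0
              have e00 := congrFun (congrFun h6 0) 0
              have e11 := congrFun (congrFun h6 1) 1
              simp [vecMulVec_apply, sub_eq_zero, Ne.symm hts] at e01 e10 e00 e11
              apply hψ
              funext i
              rcases e01 with h7 | h7 <;> rcases e10 with h8 | h8
              · exact absurd (funext fun i => by fin_cases i <;> simp [h7, h8]) ha
              · rw [h8, mul_zero] at e00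
                rw [← e00] at e11
                have h11 := (mul_eq_zero.1 e11).resolve_left (mul_ne_zero (sub_ne_zero.2 (Ne.symm hts))
                  (fun h1 => ha (funext fun i => by fin_cases i <;> simp [h7, h1])))
                fin_cases i <;> simp [h8, h11]
              · rw [h7, mul_zero] at e11
                rw [← e11] at e00
                have h11 := (mul_eq_zero.1 e00).resolve_left (mul_ne_zero (sub_ne_zero.2 (Ne.symm hts))
                  (fun h1 => ha (funext fun i => by fin_cases i <;> simp [h8, h1])))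
                fin_cases i <;> simp [h7, h11]
              · fin_cases i <;> simp [h7, h8]
        · push Not at hsc
          exact ⟨[p3], .inl (by simp), by simpa using hw3,
            fun y hy h => .inr ⟨hsc y hy, hR2 y hy (h p3 (by simp))⟩⟩
      · obtain ⟨p, hp, hpg⟩ := exists_g (by omega) a ha N M r0 Y y0 hy0 hYd hYa (hNa (by omega)) hinj
        refine ⟨[p], .inl (by simp), by simpa using hp, fun y hy h => .inr ⟨fun k hk => ?_, fun w β h' => ?_⟩⟩
        · exact (hpg y hy (h p (by simp))).2 (k - 1) (by rw [sub_smul, one_smul, ← hk, add_sub_cancel_left])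
        · exact (hpg y hy (h p (by simp))).1 w β (by rw [add_sub_cancel_left] at h'; exact h')
    let p1 : K × (Fin (m + 1) → K) := (c1 0, Fin.tail c1)
    have hw1 : ∃ z, Y z ∧ aff p1 z ≠ 0 := by
      by_contra hall
      push Not at hall
      have hd : ∀ δ, δ ⬝ᵥ a = 0 → δ ⬝ᵥ Fin.tail c1 = 0 := fun δ hδ => by
        have h1 := hall _ (hYd _ _ hy0 hδ)
        have h2 := hall _ hy0
        simp only [aff, p1, add_dotProduct] at h1 h2
        linear_combination h1 - h2
      obtain ⟨k, hk⟩ : ∃ k : K, Fin.tail c1 = k • a := by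
        by_contra hk
        push Not at hk
        obtain ⟨z, hz1, hz2⟩ := exists_dot (Fin.tail c1) a hk
        exact hz2 (by rw [dotProduct_comm]; exact hd z (by rw [dotProduct_comm]; exact hz1))
      refine hc1k k (funext fun i => ?_)
      refine Fin.cases ?_ (fun i => ?_) i
      · have h2 := hall _ hy0
        simp only [aff, p1, hk, dotProduct_smul, smul_eq_mul] at h2
        rw [show y0 ⬝ᵥ a = 1 - α from hy0] at h2
        simp; linear_combination h2
      · simpa [Fin.tail] using congrFun hk i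
    have hw2 : ∃ j, ∃ z, Y z ∧ aff (r0 j, fun i => N i j) z ≠ 0 := by
      by_contra hall
      push Not at hall
      have hy : ∀ y, Y y → r0 + y ᵥ* N = 0 := fun y hy => funext fun j => hall j y hy
      have hd : ∀ δ, δ ⬝ᵥ a = 0 → δ ᵥ* N = 0 := fun δ hδ => by
        have h1 := hy _ (hYd _ _ hy0 hδ)
        rw [add_vecMul, ← add_assoc, hy _ hy0, zero_add] at h1
        exact h1
      have hN : ∀ u, u ᵥ* N = ((u ⬝ᵥ a) / a i0) • (Pi.single i0 1 ᵥ* N) := fun u => by
        have := hd (u - ((u ⬝ᵥ a) / a i0) • Pi.single i0 1) (by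
          rw [sub_dotProduct, smul_dotProduct, single_dotProduct, one_mul, smul_eq_mul,
            div_mul_cancel₀ _ (by simpa using hi0), sub_self])
        rwa [sub_vecMul, smul_vecMul, sub_eq_zero] at this
      set β := (a i0)⁻¹ • (Pi.single i0 1 ᵥ* N) with hβ
      have hNβ : N = vecMulVec a β := Matrix.ext_iff_vecMul.2 fun u => by
        rw [hN u, vecMul_vecMulVec, hβ, smul_smul, div_eq_mul_inv]
      refine hR1 (Fin.cons (α - 1) a) (Fin.cons 1 β) ?_
      have hr0 : r0 = (α - 1) • β := by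
        have := hy _ hy0
        rw [hNβ, vecMul_vecMulVec, show y0 ⬝ᵥ a = 1 - α from hy0] at this
        rw [eq_neg_of_add_eq_zero_left this, ← neg_smul, neg_sub]
      rw [hA1m, hNβ]
      ext i j
      refine Fin.cases ?_ (fun i => ?_) i <;> refine Fin.cases ?_ (fun j => ?_) j <;>
        simp [vecMulVec_apply, hr0]
    obtain ⟨j2, hw2⟩ := hw2
    obtain ⟨y, hy, hyl⟩ := avoid Y hYl (p1 :: (r0 j2, fun i => N i j2) :: l) (fun s hs => by
      simp only [List.length_cons] at hs
      rcases hlen with h | ⟨h, h2⟩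
      · exact hK s (by omega)
      · exact hK4 h2 s (by omega)) y0 hy0 (fun p hp => by
      simp only [List.mem_cons] at hp
      rcases hp with rfl | rfl | hp
      · exact hw1
      · exact hw2
      · exact hwit p hp)
    set r1 := r0 + y ᵥ* N with hr1def
    have hr1ne : r1 ≠ 0 := fun h => hyl (r0 j2, fun i => N i j2) (by simp) (congrFun h j2)
    set S := 1 + X y with hS
    obtain ⟨P3, Q3, L1, U1, hPQ3, hL1, hU1, hfac, hQa, hrP⟩ :=
      ih S (hdetS y hy) (hgood y hy fun p hp => hyl p (by simp [hp])) a r1 ha hr1ne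
    have hSeq : M - vecMulVec a y = vecMulVec a r1 + S := by
      simp only [hS, X, hr1def, hNdef, vecMulVec_add, vecMul_sub, vecMul_one, vecMulVec_sub]
      abel
    refine ⟨P1 * blk 1 (-y) 0 1 * blk 1 0 0 P3, blk 1 0 0 Q3 * blk 1 y 0 1 * Q1,
      blk 1 0 (Q3 *ᵥ a) L1, blk 1 (r1 ᵥ* P3) 0 U1, ?_, low_blk _ _ hQa hL1, upp_blk _ _ hrP hU1,
      ?_, ?_, ?_⟩
    · have e3 : blk 1 0 0 P3 * blk 1 0 0 Q3 = 1 := by rw [blk_mul, hPQ3]; simp [blk_one]
      have e2 : blk (1 : K) (-y) 0 1 * blk 1 y 0 1 = 1 := by rw [blk_mul]; simp [blk_one]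
      calc P1 * blk 1 (-y) 0 1 * blk 1 0 0 P3 * (blk 1 0 0 Q3 * blk 1 y 0 1 * Q1)
          = P1 * (blk 1 (-y) 0 1 * (blk 1 0 0 P3 * blk 1 0 0 Q3) * blk 1 y 0 1) * Q1 := by
            simp only [Matrix.mul_assoc]
        _ = 1 := by rw [e3, Matrix.mul_one, e2, Matrix.mul_one, hPQ1]
    · calc blk 1 0 0 Q3 * blk 1 y 0 1 * Q1 * A * (P1 * blk 1 (-y) 0 1 * blk 1 0 0 P3)
          = blk 1 0 0 Q3 * (blk 1 y 0 1 * A1 * blk 1 (-y) 0 1) * blk 1 0 0 P3 := by
            simp only [A1, Matrix.mul_assoc]
        _ = blk 1 0 0 Q3 * blk 1 r1 a (vecMulVec a r1 + S) * blk 1 0 0 P3 := by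
            congr 2
            rw [hA1blk, blk_mul, blk_mul]
            simp only [zero_dotProduct, one_mul, mul_one, dotProduct_zero, add_zero, mulVec_zero,
              one_smul, vecMulVec_zero, zero_add, vecMul_one, one_mulVec, Matrix.one_mul,
              Matrix.mul_one, smul_zero, zero_vecMulVec]
            rw [show y ⬝ᵥ a = 1 - α from hy, vecMulVec_neg, ← hSeq]
            congr 1
            · ring
            · rw [hr1def, hNdef, vecMul_sub, vecMul_one, add_sub_cancel, one_smul]; abel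
            · abel
        _ = _ := by
            rw [blk_mul, blk_mul, blk_mul]
            simp only [zero_dotProduct, one_mul, mul_one, dotProduct_zero, add_zero, mulVec_zero,
              one_smul, vecMulVec_zero, zero_add, zero_vecMul, smul_zero, zero_vecMulVec]
            congr 1
            rw [Matrix.mul_add, Matrix.add_mul, hfac, mul_vecMulVec, vecMulVec_mul]
    · rw [← mulVec_mulVec, ← mulVec_mulVec, blk_mulVec, blk_mulVec]
      have := hyl p1 (by simp)
      simpa [p1, aff, c1] using this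
    · rw [← vecMul_vecMul, ← vecMul_vecMul, blk_vecMul, blk_vecMul]
      simpa using hr1

/-- an upper unitriangular matrix with non-zero superdiagonal is conjugate to the Jordan block -/
theorem upp_conj {n : ℕ} (U J : Matrix (Fin (n + 1)) (Fin (n + 1)) K) (hU : Upp U)
    (hJ : ∀ i j, J i j = if i = j then 1 else if j.val = i.val + 1 then 1 else 0) :
    ∃ P Q : Matrix (Fin (n + 1)) (Fin (n + 1)) K, P * Q = 1 ∧ U = P * J * Q := by
  classical
  obtain ⟨h0, h1, h2⟩ := hU
  set N := U - 1 with hN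
  have hNz : ∀ i j : Fin (n + 1), j.val < i.val + 1 → N i j = 0 := fun i j h => by
    rcases lt_or_eq_of_le (Nat.lt_succ_iff.1 h) with h' | h'
    · have := h0 j i h'
      simp only [transpose_apply] at this
      simp [N, this, show i ≠ j from fun e => by rw [e] at h'; omega]
    · rw [Fin.ext h']
      have := h1 i
      simp only [transpose_apply] at this
      simp [N, this]
  have hNs : ∀ i j : Fin (n + 1), j.val = i.val + 1 → N i j ≠ 0 := fun i j h => by
    have := h2 j i h
    simp only [transpose_apply] at this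
    simpa [N, show i ≠ j from fun e => by rw [e] at h; omega] using this
  have hpow : ∀ (k : ℕ) (i j : Fin (n + 1)), (j.val < i.val + k → (N ^ k) i j = 0) ∧
      (j.val = i.val + k → (N ^ k) i j ≠ 0) := by
    intro k
    induction k with
    | zero =>
      exact fun i j => ⟨fun h => by simp [one_apply, show i ≠ j from fun e => by rw [e] at h; omega],
        fun h => by simp [one_apply, Fin.ext (show i.val = j.val by omega)]⟩
    | succ k ih =>
      intro i j
      refine ⟨fun h => ?_, fun h => ?_⟩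
      · rw [pow_succ, Matrix.mul_apply]
        refine Finset.sum_eq_zero fun s _ => ?_
        by_cases hs : s.val < i.val + k
        · rw [(ih i s).1 hs, zero_mul]
        · rw [hNz s j (by omega), mul_zero]
      · rw [pow_succ, Matrix.mul_apply]
        let s0 : Fin (n + 1) := ⟨i.val + k, by have := j.2; omega⟩
        rw [Finset.sum_eq_single s0]
        · exact mul_ne_zero ((ih i s0).2 rfl) (hNs s0 j (by simp [s0]; omega))
        · intro s _ hs
          have hs' : s.val ≠ i.val + k := fun e => hs (Fin.ext e)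
          by_cases h' : s.val < i.val + k
          · rw [(ih i s).1 h', zero_mul]
          · rw [hNz s j (by omega), mul_zero]
        · simp
  let P : Matrix (Fin (n + 1)) (Fin (n + 1)) K := fun i j => (N ^ (n - j.val)) i (Fin.last n)
  have hdet : P.det ≠ 0 := by
    have htri : P.BlockTriangular id := fun i j h => by
      have := j.2
      refine (hpow _ i (Fin.last n)).1 ?_
      simp only [id, Fin.lt_def] at h
      simp only [Fin.val_last]; omega
    rw [det_of_upperTriangular htri, Finset.prod_ne_zero_iff]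
    intro i _
    exact (hpow _ i (Fin.last n)).2 (by have := i.2; simp only [Fin.val_last]; omega)
  have hPQ := Matrix.mul_nonsing_inv P (isUnit_iff_ne_zero.2 hdet)
  refine ⟨P, P⁻¹, hPQ, ?_⟩
  have hkey : U * P = P * J := by
    ext i j
    have hl : (U * P) i j = P i j + (N ^ (n - j.val + 1)) i (Fin.last n) := by
      rw [show U = 1 + N by simp [N], Matrix.add_mul, Matrix.one_mul, Matrix.add_apply, pow_succ']
      rfl
    rw [hl, Matrix.mul_apply]
    rcases Nat.eq_zero_or_pos j.val with hj | hj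
    · rw [(hpow _ i (Fin.last n)).1 (by simp only [Fin.val_last]; omega), add_zero,
        Finset.sum_eq_single j]
      · simp [hJ]
      · intro s _ hs
        rw [hJ, if_neg hs, if_neg (by omega), mul_zero]
      · simp
    · let s0 : Fin (n + 1) := ⟨j.val - 1, by have := j.2; omega⟩
      rw [Finset.sum_eq_add_of_mem j s0 (Finset.mem_univ _) (Finset.mem_univ _)
        (fun e => by simp [s0, Fin.ext_iff] at e; omega)]
      · rw [hJ, hJ, if_pos rfl, if_neg (fun e => by simp [s0, Fin.ext_iff] at e; omega),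
          if_pos (by simp [s0]; omega), mul_one, mul_one]
        congr 1
        show _ = (N ^ (n - (j.val - 1))) i (Fin.last n)
        rw [show n - j.val + 1 = n - (j.val - 1) by have := j.2; omega]
      · intro s _ hs
        rw [hJ, if_neg hs.1, if_neg (fun e => hs.2 (Fin.ext (by simp [s0]; omega))), mul_zero]
  rw [← hkey, Matrix.mul_assoc, hPQ, Matrix.mul_one]

theorem low_conj {n : ℕ} (L J : Matrix (Fin (n + 1)) (Fin (n + 1)) K) (hL : Low L)
    (hJ : ∀ i j, J i j = if i = j then 1 else if j.val = i.val + 1 then 1 else 0) :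
    ∃ P Q : Matrix (Fin (n + 1)) (Fin (n + 1)) K, P * Q = 1 ∧ L = P * J * Q := by
  classical
  obtain ⟨P, Q, hPQ, h⟩ := upp_conj Lᵀ J (by simpa [Upp] using hL) hJ
  let R : Matrix (Fin (n + 1)) (Fin (n + 1)) K := (1 : Matrix (Fin (n + 1)) (Fin (n + 1)) K).submatrix Fin.rev id
  have hR : ∀ M : Matrix (Fin (n + 1)) (Fin (n + 1)) K, R * M * R = M.submatrix Fin.rev Fin.rev := by
    intro M
    ext i j
    simp [R, Matrix.mul_apply, Matrix.one_apply, Fin.rev_eq_iff]
    rw [Finset.sum_eq_single i.rev]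
    · simp
    · intro x _ hx
      rw [if_neg]
      exact fun e => hx (by rw [e, Fin.rev_rev])
    · simp
  have hJt : Jᵀ = R * J * R := by
    rw [hR]
    ext i j
    simp only [transpose_apply, submatrix_apply, hJ, Fin.rev_inj, Fin.val_rev, eq_comm (a := j)]
    have := i.2; have := j.2
    split_ifs <;> first | rfl | omega
  have hRR : R * R = 1 := by
    have := hR 1
    rw [Matrix.mul_one] at this
    rw [this]
    exact submatrix_one _ Fin.rev_injective
  refine ⟨Qᵀ * R, R * Pᵀ, ?_, ?_⟩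
  · rw [Matrix.mul_assoc, ← Matrix.mul_assoc R, hRR, Matrix.one_mul, ← transpose_mul, hPQ, transpose_one]
  · have h' := congrArg Matrix.transpose h
    rw [transpose_transpose, transpose_mul, transpose_mul, hJt] at h'
    rw [h']
    simp only [Matrix.mul_assoc]

theorem transvection_case {n : ℕ} (hK : ∀ s : Finset K, s.card ≤ 3 → ∃ t, t ∉ s)
    (A : Matrix (Fin (n + 1)) (Fin (n + 1)) K) (hA : A.det = 1) (w β : Fin (n + 1) → K)
    (h : A - 1 = vecMulVec w β) (hw : w ≠ 0) :
    ∃ P Q U V : Matrix (Fin (n + 1)) (Fin (n + 1)) K, P * Q = 1 ∧ Upp U ∧ Upp V ∧ Q * A * P = U * V := by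
  classical
  obtain ⟨P, Q, hPQ, hcol⟩ := exists_col w hw
  have hQP : Q * P = 1 := mul_eq_one_comm.1 hPQ
  have hPe : P *ᵥ Pi.single 0 1 = w := by funext i; simp [mulVec_single, hcol i]
  have hQw : Q *ᵥ w = Pi.single 0 1 := by rw [← hPe, mulVec_mulVec, hQP, one_mulVec]
  set γ := β ᵥ* P with hγ
  set T := Q * A * P with hT
  have hTm : T - 1 = vecMulVec (Pi.single 0 1) γ := by
    rw [hT, show Q * A * P - 1 = Q * (A - 1) * P by
      rw [Matrix.mul_sub, Matrix.sub_mul, Matrix.mul_one, hQP], h, mul_vecMulVec, vecMulVec_mul, hQw]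
  have hTe : ∀ i j, T i j = (1 : Matrix (Fin (n + 1)) (Fin (n + 1)) K) i j +
      (Pi.single 0 1 : Fin (n + 1) → K) i * γ j := fun i j => by
    have := congrFun (congrFun hTm i) j
    rw [Matrix.sub_apply, vecMulVec_apply] at this
    linear_combination this
  have hγ0 : γ 0 = 0 := by
    have hd : T.det = 1 := by
      rw [hT, det_mul, det_mul, hA, mul_one, ← det_mul, hQP, det_one]
    have htri : T.BlockTriangular id := fun i j hij' => by
      have hij : j < i := hij'
      rw [hTe, one_apply_ne (ne_of_gt hij),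
        Pi.single_eq_of_ne (ne_of_gt (lt_of_le_of_lt (Fin.zero_le j) hij)), zero_mul, add_zero]
    rw [det_of_upperTriangular htri, Finset.prod_eq_single 0] at hd
    · rw [hTe, one_apply_eq, Pi.single_eq_same, one_mul] at hd
      linear_combination hd
    · intro i _ hi
      rw [hTe, one_apply_eq, Pi.single_eq_of_ne hi, zero_mul, add_zero]
    · simp
  obtain ⟨s, hs⟩ := hK (insert 0 (if h1 : 0 < n then {γ ⟨1, by omega⟩} else ∅)) (by
    refine (Finset.card_insert_le _ _).trans ?_
    split_ifs <;> simp)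
  have hs0 : s ≠ 0 := fun h0 => hs (by simp [h0])
  -- `U` is the bidiagonal matrix with `-s` above the diagonal
  let U : Matrix (Fin (n + 1)) (Fin (n + 1)) K := fun i j =>
    if i = j then 1 else if j.val = i.val + 1 then s else 0
  have hUupp : Upp U := ⟨fun i j h => by
      have h' : j.val ≠ i.val := fun e => by rw [Fin.lt_def, e] at h; omega
      simp only [transpose_apply]
      simp only [U]
      rw [if_neg (fun e => h' (by rw [e])), if_neg (by rw [Fin.lt_def] at h; omega)],
    fun i => by simp only [transpose_apply]; simp [U], fun i j h => by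
      simp only [transpose_apply]
      simp only [U]
      rw [if_neg (fun e => by rw [e] at h; omega), if_pos h]; exact hs0⟩
  have hUtri : U.BlockTriangular id := fun i j h => by
    simpa only [transpose_apply] using hUupp.1 j i h
  have hdetU : U.det = 1 := by
    rw [det_of_upperTriangular hUtri, Finset.prod_eq_one]
    intro i _; simp [U]
  haveI : Invertible U.det := by rw [hdetU]; exact invertibleOne
  haveI : Invertible U := invertibleOfDetInvertible U
  set V := U⁻¹ * T with hV
  have hUV : U * V = T := by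
    rw [hV, ← Matrix.mul_assoc, Matrix.mul_nonsing_inv _ (by rw [hdetU]; exact isUnit_one), Matrix.one_mul]
  refine ⟨P, Q, U, V, hPQ, hUupp, ?_, hUV.symm⟩
  have hTtri : T.BlockTriangular id := fun i j hij' => by
    have hij : j < i := hij'
    rw [hTe, one_apply_ne (ne_of_gt hij),
      Pi.single_eq_of_ne (ne_of_gt (lt_of_le_of_lt (Fin.zero_le j) hij)), zero_mul, add_zero]
  have hVtri : V.BlockTriangular id := (blockTriangular_inv_of_blockTriangular hUtri).mul hTtri
  have hdiag : ∀ i, V i i = 1 := fun i => by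
    have h1 := congrFun (congrFun hUV i) i
    rw [Matrix.mul_apply, Finset.sum_eq_single i, hTe, one_apply_eq] at h1
    · rcases eq_or_ne i 0 with rfl | hi
      · simpa [U, hγ0] using h1
      · simpa [U, Pi.single_eq_of_ne hi] using h1
    · intro x _ hx
      by_cases hxi : x.val = i.val + 1
      · rw [hVtri (show id i < id x from Fin.lt_def.2 (by simp only [id]; omega)), mul_zero]
      · simp [U, Ne.symm hx, hxi]
    · simp
  refine ⟨fun i j hij => by simpa only [transpose_apply] using hVtri hij, fun i => by simpa using hdiag i,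
    fun i j hij => ?_⟩
  simp only [transpose_apply]
  have h1 := congrFun (congrFun hUV j) i
  rw [Matrix.mul_apply, Finset.sum_eq_add_of_mem j i (Finset.mem_univ _) (Finset.mem_univ _)
    (fun e => by rw [e] at hij; omega), hTe, one_apply_ne (fun e => by rw [e] at hij; omega)] at h1
  · intro h0
    rw [h0, mul_zero, zero_add, hdiag, mul_one, zero_add] at h1
    have hU' : U j i = s := by
      simp only [U]; rw [if_neg (fun e => by rw [e] at hij; omega), if_pos hij]
    rw [hU'] at h1
    rcases eq_or_ne j 0 with rfl | hj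
    · apply hs
      have hn : 0 < n := by have := i.2; simp at hij; omega
      rw [dif_pos hn, h1, Pi.single_eq_same, one_mul, show i = ⟨1, by omega⟩ from Fin.ext (by simp at hij; exact hij)]
      simp
    · rw [Pi.single_eq_of_ne hj, zero_mul] at h1; exact hs0 h1
  · intro x _ hx
    by_cases hxj : x.val = j.val + 1
    · exact absurd (Fin.ext (by omega)) hx.2
    · simp [U, Ne.symm hx.1, hxj]


/-- Let K be a field with at least four elements (finite or infinite), n ≥ 3, and J ∈ GL(n, K) the regular unipotent matrix (ones on the diagonal and the superdiagonal, zeros elsewhere). Then every non-scalar g ∈ GL(n, K) with det g = 1 is a product of two GL(n, K)-conjugates of J. -/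
theorem result {K : Type*} [Field K] (hK : 4 ≤ Cardinal.mk K) (n : ℕ) (hn : 3 ≤ n) (J g : GL (Fin n) K)
    (hJ : ∀ i j : Fin n, (J : Matrix (Fin n) (Fin n) K) i j = if i = j then 1 else if j.val = i.val + 1 then 1 else 0)
    (hg : ¬ ∃ c : K, (g : Matrix (Fin n) (Fin n) K) = c • (1 : Matrix (Fin n) (Fin n) K))
    (hdet : (g : Matrix (Fin n) (Fin n) K).det = 1) :
    ∃ x y : GL (Fin n) K, g = (x * J * x⁻¹) * (y * J * y⁻¹) := by
  classical
  obtain ⟨n, rfl⟩ : ∃ m, n = m + 1 := ⟨n - 1, by omega⟩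
  have fresh : ∀ s : Finset K, s.card ≤ 3 → ∃ t, t ∉ s := fun s hs => by
    by_contra hall
    push Not at hall
    haveI : Fintype K := ⟨s, hall⟩
    rw [Cardinal.mk_fintype, Nat.ofNat_le_cast] at hK
    have h5 : Fintype.card K = s.card :=
      Finset.card_univ.symm.trans (congrArg Finset.card (Finset.ext fun x => by simp [hall]))
    omega
  have fresh4 : (2 : K) ≠ 0 → ∀ s : Finset K, s.card ≤ 4 → ∃ t, t ∉ s := fun h2 s hs => by
    by_contra hall
    push Not at hall
    haveI : Fintype K := ⟨s, hall⟩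
    rw [Cardinal.mk_fintype, Nat.ofNat_le_cast] at hK
    have h6 : Fintype.card K = s.card :=
      Finset.card_univ.symm.trans (congrArg Finset.card (Finset.ext fun x => by simp [hall]))
    have h4 : Fintype.card K = 4 := le_antisymm (h6 ▸ hs) hK
    have h5 := Nat.cast_card_eq_zero K
    rw [h4] at h5
    exact h2 (mul_self_eq_zero.1 (by linear_combination h5))
  set A := (g : Matrix (Fin (n + 1)) (Fin (n + 1)) K) with hA
  have hNS : NS A := fun k hk => hg ⟨k, hk⟩
  obtain ⟨P, Q, X, Y, hPQ, hXY, ⟨R, R', hR, hRJ⟩, ⟨S, S', hS, hSJ⟩⟩ :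
      ∃ P Q X Y : Matrix (Fin (n + 1)) (Fin (n + 1)) K, P * Q = 1 ∧ Q * A * P = X * Y ∧
        (∃ R R' : Matrix (Fin (n + 1)) (Fin (n + 1)) K, R * R' = 1 ∧ X = R * (J : Matrix _ _ K) * R') ∧
        ∃ S S' : Matrix (Fin (n + 1)) (Fin (n + 1)) K, S * S' = 1 ∧ Y = S * (J : Matrix _ _ K) * S' := by
    by_cases hR2 : R2 A
    · have he : (Pi.single 0 1 : Fin (n + 1) → K) ≠ 0 := fun h => by simpa using congrFun h 0
      obtain ⟨P, Q, L, U, h1, h2, h3, h4, -⟩ := factor fresh fresh4 n A hdet (.inr ⟨hNS, hR2⟩) _ _ he he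
      exact ⟨P, Q, L, U, h1, h4, low_conj L _ h2 hJ, upp_conj U _ h3 hJ⟩
    · simp only [R2, ne_eq, not_forall, not_not] at hR2
      obtain ⟨w, β, hwβ⟩ := hR2
      have hw : w ≠ 0 := fun h0 => hNS 1 (by rw [one_smul, ← sub_eq_zero, hwβ, h0]; simp)
      obtain ⟨P, Q, U, V, h1, h2, h3, h4⟩ := transvection_case fresh A hdet w β hwβ hw
      exact ⟨P, Q, U, V, h1, h4, upp_conj U _ h2 hJ, upp_conj V _ h3 hJ⟩
  let mkU : (X Y : Matrix (Fin (n + 1)) (Fin (n + 1)) K) → X * Y = 1 → GL (Fin (n + 1)) K :=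
    fun X Y h => ⟨X, Y, h, mul_eq_one_comm.1 h⟩
  refine ⟨mkU P Q hPQ * mkU R R' hR, mkU P Q hPQ * mkU S S' hS, ?_⟩
  refine Units.ext ?_
  simp only [_root_.mul_inv_rev, Units.val_mul]
  show A = P * R * (J : Matrix _ _ K) * (R' * Q) * (P * S * (J : Matrix _ _ K) * (S' * Q))
  have hQP : Q * P = 1 := mul_eq_one_comm.1 hPQ
  calc A = (P * Q) * A * (P * Q) := by rw [hPQ, Matrix.one_mul, Matrix.mul_one]
    _ = P * (X * Y) * Q := by rw [← hXY]; simp only [Matrix.mul_assoc]
    _ = P * (X * (Q * P) * Y) * Q := by rw [hQP, Matrix.mul_one]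
    _ = _ := by rw [hRJ, hSJ]; simp only [Matrix.mul_assoc]

end Cfsg.Agent.S2522
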