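import Cfsg.Statements.S0806
import Cfsg.Agent.Lib.Forms.DicksonCor
-- import your own Cfsg.Agent.* helpers here

set_option autoImplicit false
open Cfsg

namespace Cfsg.Agent.S0806



/-- Minimal index (Galois): if q ∉ {2, 3, 5, 7, 9, 11} then every proper subgroup of PSL_2(q) has index ≥ q + 1, and some subgroup has index exactly q + 1. -/
theorem result {F : Type*} [Field F] [Fintype F] {q : ℕ} (hF : Fintype.card F = q) (hq : q ∉ ({2, 3, 5, 7, 9, 11} : Finset ℕ)) : (∀ H : Subgroup (Matrix.ProjectiveSpecialLinearGroup (Fin 2) F), H ≠ ⊤ → q + 1 ≤ H.index) ∧ ∃ H : Subgroup (Matrix.ProjectiveSpecialLinearGroup (Fin 2) F), H.index = q + 1 := by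
  subst hF
  obtain ⟨p, hpc⟩ := CharP.exists F
  haveI := hpc
  haveI : Fact p.Prime := ⟨CharP.char_is_prime F p⟩
  refine ⟨fun H hH => ?_, _, Forms.DicksonCor.index_stabilizer_emb (F := F) OnePoint.infty⟩
  set q := Fintype.card F with hq'
  have h2q : 2 ≤ q := Fintype.one_lt_card
  simp only [Finset.mem_insert, Finset.mem_singleton, not_or] at hq
  obtain ⟨hq2, hq3, hq5, hq7, hq9, hq11⟩ := hq
  have hG : Nat.gcd 2 (q - 1) * Nat.card (Matrix.ProjectiveSpecialLinearGroup (Fin 2) F) =
      q * ((q - 1) * (q + 1)) := Forms.DicksonCor.gcd_mul_natCard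
  set d := Nat.gcd 2 (q - 1) with hd'
  have hd : 0 < d := Nat.gcd_pos_of_pos_left _ (by norm_num)
  have hd2 : d ≤ 2 := Nat.le_of_dvd (by norm_num) (Nat.gcd_dvd_left _ _)
  -- it is enough to bound the order
  have enough : Nat.card H * d ≤ q * (q - 1) → q + 1 ≤ H.index := by
    intro h
    have h1 := H.index_mul_card
    refine Nat.le_of_mul_le_mul_right (c := Nat.card H * d) ?_ (Nat.mul_pos Nat.card_pos hd)
    calc (q + 1) * (Nat.card H * d) ≤ (q + 1) * (q * (q - 1)) := Nat.mul_le_mul_left _ h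
      _ = d * Nat.card (Matrix.ProjectiveSpecialLinearGroup (Fin 2) F) := by rw [hG]; ring
      _ = H.index * (Nat.card H * d) := by rw [← h1]; ring
  have hsmall : Nat.card H = 12 ∨ Nat.card H = 24 ∨ Nat.card H = 60 → q + 1 ≤ H.index := by
    intro h
    have hdiv : Nat.card H * d ∣ q * ((q - 1) * (q + 1)) := by
      rw [← hG, mul_comm d]
      exact Nat.mul_dvd_mul_right H.card_subgroup_dvd_card d
    rcases Nat.lt_or_ge q 16 with hlt | hge
    · obtain ⟨n, -, hn⟩ := FiniteField.card F p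
      have hpp := (Fact.out : p.Prime)
      have hu : ∀ r : ℕ, r.Prime → r ∣ q → r = p := fun r hr h =>
        (Nat.prime_dvd_prime_iff_eq hr hpp).1 (hr.dvd_of_dvd_pow (n := (n : ℕ)) (h.trans (dvd_of_eq hn)))
      have n23 : ¬ (2 ∣ q ∧ 3 ∣ q) := fun h => by
        have := hu 2 Nat.prime_two h.1; have := hu 3 Nat.prime_three h.2; omega
      have n25 : ¬ (2 ∣ q ∧ 5 ∣ q) := fun h => by
        have := hu 2 Nat.prime_two h.1; have := hu 5 (by norm_num) h.2; omega
      have n27 : ¬ (2 ∣ q ∧ 7 ∣ q) := fun h => by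
        have := hu 2 Nat.prime_two h.1; have := hu 7 (by norm_num) h.2; omega
      have n35 : ¬ (3 ∣ q ∧ 5 ∣ q) := fun h => by
        have := hu 3 Nat.prime_three h.1; have := hu 5 (by norm_num) h.2; omega
      have hlist : q = 4 ∨ q = 8 ∨ q = 13 := by
        interval_cases q <;> omega
      rcases hlist with hq0 | hq0 | hq0
      · rw [hq0] at hd' hdiv hG ⊢
        norm_num [hd'] at hdiv hG
        rcases h with h | h | h
        · refine hq0 ▸ enough ?_
          rw [h, hd', hq0]; norm_num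
        · rw [h] at hdiv; norm_num at hdiv
        · exact absurd (H.eq_top_of_card_eq (by rw [h, hG])) hH
      · rw [hq0] at hd' hdiv
        norm_num [hd'] at hdiv
        rcases h with h | h | h
        · refine enough ?_; rw [h, hd', hq0]; norm_num
        · refine enough ?_; rw [h, hd', hq0]; norm_num
        · rw [h] at hdiv; norm_num at hdiv
      · refine enough ?_
        rw [hq0] at hd' ⊢
        rcases h with h | h | h <;> rw [h, hd'] <;> norm_num
    · refine enough ?_
      have : 16 * 15 ≤ q * (q - 1) := Nat.mul_le_mul hge (by omega)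
      rcases h with h | h | h <;> rw [h] <;> omega
  rcases Forms.DicksonList.classify p H with ⟨g, -, hg, h⟩ | ⟨x, hx, hfix⟩ | ⟨⟨e⟩⟩ | ⟨⟨e⟩⟩ | ⟨⟨e⟩⟩ | ⟨K, iK, fK, m, hm, h⟩
  · refine enough ?_
    have hk : orderOf g * d ≤ q + 1 := by
      rcases Forms.DicksonList.order_dvd p g hg with h | h
      · refine (Nat.mul_le_mul_right d (Nat.le_of_dvd ?_ h)).trans (Nat.div_mul_le_self _ _)
        exact Nat.div_pos (hd2.trans (by omega)) hd
      · refine (Nat.mul_le_mul_right d (Nat.le_of_dvd ?_ h)).trans ((Nat.div_mul_le_self _ _).trans (by omega))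
        exact Nat.div_pos (Nat.gcd_le_right _ (by omega)) hd
    have hH2 : Nat.card H ≤ 2 * orderOf g := by
      rcases h with ⟨-, h⟩ | ⟨⟨e⟩⟩
      · omega
      · rw [Nat.card_congr e.toEquiv, DihedralGroup.nat_card]
    have h1 := Nat.mul_le_mul_right d hH2
    have : q * 3 ≤ q * (q - 1) := Nat.mul_le_mul_left q (by omega)
    rw [mul_assoc] at h1
    omega
  · rw [← Forms.DicksonCor.index_stabilizer_of_pSub p hx]
    exact Nat.le_of_dvd (Nat.pos_of_ne_zero Subgroup.index_ne_zero_of_finite)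
      (Subgroup.index_dvd_of_le fun g hg => hfix g hg)
  · exact hsmall (Or.inl (by rw [Nat.card_congr e.toEquiv, nat_card_alternatingGroup, Nat.card_fin]; rfl))
  · exact hsmall (Or.inr (Or.inl (by rw [Nat.card_congr e.toEquiv, Nat.card_perm, Nat.card_fin]; rfl)))
  · exact hsmall (Or.inr (Or.inr (by
      rw [Nat.card_congr e.toEquiv, nat_card_alternatingGroup, Nat.card_fin]; rfl)))
  · refine enough ?_
    obtain ⟨hm2, hc⟩ := Forms.DicksonCor.subfield_bound H hH K m hm h
    set k := Fintype.card K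
    have hk2 : 2 ≤ k := Fintype.one_lt_card
    have hkq : k * k ≤ q := by
      rw [hq', ← hm, ← pow_two]; exact Nat.pow_le_pow_right (by omega) hm2
    calc Nat.card H * d ≤ k * ((k - 1) * (k + 1)) * 2 := Nat.mul_le_mul hc hd2
      _ = (k * 2) * ((k - 1) * (k + 1)) := by ring
      _ ≤ (k * k) * (k * k - 1) := by
          refine Nat.mul_le_mul (Nat.mul_le_mul_left _ hk2) (le_of_eq ?_)
          rw [mul_comm, ← Nat.mul_self_sub_mul_self_eq, mul_one]
      _ ≤ q * (q - 1) := Nat.mul_le_mul hkq (Nat.sub_le_sub_right hkq 1)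

end Cfsg.Agent.S0806
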