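import Cfsg.Statements.S2148
import Cfsg.Agent.SimpleFacts.MinIndexPSUThree.Main

set_option autoImplicit false
open Cfsg

namespace Cfsg.Agent.S2148

/-- Minimal index of a proper subgroup of the three-dimensional unitary groups: for a field F with q² elements, q ≥ 3 and q ≠ 5, every proper subgroup of PSU₃(q) has index at least q³ + 1, and that index is attained. -/
theorem result {F : Type*} [Field F] [Fintype F] (q : ℕ) (hF : Fintype.card F = q ^ 2) (hq : 3 ≤ q) (h5 : q ≠ 5) : (∀ H : Subgroup (Cfsg.PSU 3 F q), H ≠ ⊤ → q ^ 3 + 1 ≤ H.index) ∧ (∃ H : Subgroup (Cfsg.PSU 3 F q), H.index = q ^ 3 + 1) := by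
  constructor
  · intro H hH
    rw [← H.index_comap_of_surjective (QuotientGroup.mk'_surjective (Subgroup.center (Cfsg.SU 3 F q)))]
    refine Cfsg.Agent.SimpleFacts.MinIndexPSUThree.Main.le_index hF hq h5 ?_ fun h => hH ?_
    · intro g hg
      rw [Subgroup.mem_comap, QuotientGroup.mk'_apply, (QuotientGroup.eq_one_iff g).2 hg]
      exact one_mem H
    · exact Subgroup.comap_injective (QuotientGroup.mk'_surjective _)
        (h.trans (Subgroup.comap_top _).symm)
  · obtain ⟨B⟩ := Cfsg.Agent.SimpleFacts.MinIndexPSUThree.Borel.exists_frame_default hF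
    obtain ⟨hc, hi⟩ := Cfsg.Agent.SimpleFacts.MinIndexPSUThree.Main.index_fixLine hF B
    refine ⟨Subgroup.map (QuotientGroup.mk' (Subgroup.center (Cfsg.SU 3 F q)))
      (Cfsg.Agent.SimpleFacts.MinIndexPSUThree.Plane.fixLine F q B.e), ?_⟩
    rw [Subgroup.index_map_eq _ (QuotientGroup.mk'_surjective _)
      (by rw [QuotientGroup.ker_mk']; exact hc), hi]

end Cfsg.Agent.S2148
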