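import Cfsg.Statements.S0270
import Cfsg.Agent.Lib.Classical.Symplectic

set_option autoImplicit false
open Cfsg

namespace Cfsg.Agent.S0270

/-- PSp_{2m}(q) is simple for m at least 2 and (m, q) other than (2, 2). -/
theorem result {F : Type*} [Field F] [Fintype F] (m : ℕ) (hm : 2 ≤ m) (h : m = 2 → 3 ≤ Fintype.card F) : IsSimpleGroup (Cfsg.PSp m F) := by
  refine Classical.Symplectic.isSimpleGroup_PSp hm fun h2 => ?_
  by_contra hc
  push Not at hc
  classical
  have hle : (Finset.univ : Finset F).card ≤ ({0, 1} : Finset F).card :=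
    Finset.card_le_card fun x _ => by
      by_cases h0 : x = 0
      · simp [h0]
      · simp [hc x h0]
  rw [Finset.card_univ] at hle
  have := Finset.card_le_two (a := (0 : F)) (b := 1)
  have := h h2
  omega

end Cfsg.Agent.S0270
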