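import Cfsg.Statements.S5421
import Cfsg.Agent.Lib.Cores.Basic

set_option autoImplicit false
open Cfsg

namespace Cfsg.Agent.S5421

open scoped commutatorElement
open Subgroup

/-- An involution without fixed points on a finite subgroup inverts it. -/
theorem inverts {G : Type*} [Group G] [Finite G] {K : Subgroup G} {t : G} (htt : t * t = 1)
    (hn : ∀ x ∈ K, t * x * t⁻¹ ∈ K) (hfix : ∀ x ∈ K, t * x * t⁻¹ = x → x = 1) :
    ∀ x ∈ K, t * x * t⁻¹ = x⁻¹ := by
  intro x hx
  let φ : ↥K →* ↥K :=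
    { toFun := fun y => ⟨t * y * t⁻¹, hn y y.2⟩
      map_one' := by ext; simp
      map_mul' := fun a b => by ext; simp [mul_assoc] }
  have hφ : MonoidHom.FixedPointFree φ := fun g hg =>
    Subtype.ext (hfix g g.2 (congrArg Subtype.val hg))
  have h2 : Function.Involutive φ := by
    intro g
    ext
    show t * (t * g * t⁻¹) * t⁻¹ = g
    have ht' : t⁻¹ = t := inv_eq_of_mul_eq_one_right htt
    rw [ht']
    simp only [mul_assoc, htt, mul_one]
    rw [← mul_assoc t t, htt, one_mul]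
  have := congrFun (hφ.coe_eq_inv_of_involutive h2) ⟨x, hx⟩
  exact congrArg Subtype.val this

/-- Let Q be an extraspecial 2-subgroup of the finite group G whose centralizer in G is its centre Z and which is normal in the centralizer of Z. If some involution b of Q outside Z has Z inside the largest normal 2-subgroup of the centralizer of b, then Q is a large extraspecial 2-subgroup of G. -/
theorem result {G : Type*} [Group G] [Finite G] (Q : Subgroup G) (hL1 : Cfsg.IsExtraspecial 2 ↥Q) (hL2 : Subgroup.centralizer (Q : Set G) = ((Subgroup.center ↥Q).map Q.subtype)) (hL3 : Subgroup.centralizer (((Subgroup.center ↥Q).map Q.subtype) : Set G) ≤ Subgroup.normalizer (Q : Set G)) (b : G) (hbQ : b ∈ Q) (hbZ : b ∉ ((Subgroup.center ↥Q).map Q.subtype)) (hb : orderOf b = 2) (hZ : ((Subgroup.center ↥Q).map Q.subtype) ≤ (Cfsg.pCore 2 ↥(Subgroup.centralizer ({b} : Set G))).map (Subgroup.centralizer ({b} : Set G)).subtype) : Cfsg.IsLargeExtraspecial Q :=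 by
  haveI : Fact (Nat.Prime 2) := ⟨Nat.prime_two⟩
  refine ⟨hL1, hL2, hL3, fun K hK hQK => ?_⟩
  set Z := (Subgroup.center ↥Q).map Q.subtype with hZdef
  have hZQ : Z ≤ Q := Subgroup.map_subtype_le _
  have hnK : ∀ q ∈ Q, ∀ x ∈ K, q * x * q⁻¹ ∈ K := fun q hq x hx =>
    (Subgroup.mem_normalizer_iff.1 (hQK hq) x).1 hx
  have hodd : ∀ (A : Subgroup G), IsPGroup 2 A → ∀ x ∈ A, x ∈ K → x = 1 := by
    intro A hA x hxA hxK
    obtain ⟨k, hk⟩ := IsPGroup.iff_card.1 hA
    have h : A ⊓ K = ⊥ := by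
      apply Subgroup.inf_eq_bot_of_coprime
      rw [hk]
      exact (Nat.coprime_two_left.2 hK).pow_left k
    have hm : x ∈ A ⊓ K := ⟨hxA, hxK⟩
    rwa [h, Subgroup.mem_bot] at hm
  -- a non-commuting partner of b
  obtain ⟨q, hq, hqb⟩ : ∃ q ∈ Q, q * b ≠ b * q := by
    by_contra h
    push Not at h
    exact hbZ ⟨⟨b, hbQ⟩, Subgroup.mem_center_iff.2 fun x => Subtype.ext (h x x.2), rfl⟩
  set z := q * b * q⁻¹ * b⁻¹ with hzdef
  have hz : z ∈ Z := by
    refine ⟨⁅(⟨q, hq⟩ : ↥Q), ⟨b, hbQ⟩⁆, ?_, rfl⟩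
    rw [← hL1.1.2.2]
    exact Subgroup.commutator_mem_commutator (Subgroup.mem_top _) (Subgroup.mem_top _)
  have hz1 : z ≠ 1 := fun e => hqb (mul_inv_eq_iff_eq_mul.1 (mul_inv_eq_one.1 e))
  have hzc : ∀ u ∈ Q, u * z = z * u := by
    intro u hu
    obtain ⟨w, hw, e⟩ := hz
    rw [← e]
    exact congrArg Subtype.val (Subgroup.mem_center_iff.1 hw ⟨u, hu⟩)
  have hzz : z * z = 1 := by
    have h2 : Nat.card ↥Z = 2 := by
      rw [hZdef, Subgroup.card_map_of_injective Q.subtype_injective, hL1.2]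
    have := pow_card_eq_one' (x := (⟨z, hz⟩ : ↥Z))
    rw [h2, pow_two] at this
    exact congrArg Subtype.val this
  have hbb : b * b = 1 := by rw [← pow_two, ← hb, pow_orderOf_eq_one]
  -- fixed points of z in K are trivial
  have hCz : ∀ x ∈ K, z * x * z⁻¹ = x → x = 1 := by
    intro x hx hxz
    have hxz' : z * x = x * z := mul_inv_eq_iff_eq_mul.1 hxz
    have hxZ : x ∈ Subgroup.centralizer (Z : Set G) := by
      rw [Subgroup.mem_centralizer_iff]
      intro w hw
      have h2 : Nat.card ↥Z = 2 := by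
        rw [hZdef, Subgroup.card_map_of_injective Q.subtype_injective, hL1.2]
      by_cases hw1 : w = 1
      · simp [hw1]
      · have := ((Nat.card_eq_two_iff' (1 : ↥Z)).1 h2).unique (y₁ := ⟨w, hw⟩) (y₂ := ⟨z, hz⟩)
          (fun e => hw1 (congrArg Subtype.val e)) (fun e => hz1 (congrArg Subtype.val e))
        have hwz : w = z := congrArg Subtype.val this
        rw [hwz]
        exact hxz'
    have hxC : x ∈ Subgroup.centralizer (Q : Set G) := by
      rw [Subgroup.mem_centralizer_iff]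
      intro u hu
      have h1 : u * x * u⁻¹ * x⁻¹ ∈ K := K.mul_mem (hnK u hu x hx) (K.inv_mem hx)
      have h2 : u * x * u⁻¹ * x⁻¹ ∈ Q := by
        rw [mul_assoc u x, mul_assoc u]
        exact Q.mul_mem hu ((Subgroup.mem_normalizer_iff.1 (hL3 hxZ) u⁻¹).1 (Q.inv_mem hu))
      exact mul_inv_eq_iff_eq_mul.1 (mul_inv_eq_one.1 (hodd Q hL1.1.1 _ h2 h1))
    rw [hL2] at hxC
    exact hodd Q hL1.1.1 x (hZQ hxC) hx
  -- fixed points of b in K are trivial
  have hCb : ∀ x ∈ K, b * x * b⁻¹ = x → x = 1 := by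
    intro x hx hxb
    apply hCz x hx
    obtain ⟨w, hw, e⟩ := hZ hz
    have hxC : x ∈ Subgroup.centralizer ({b} : Set G) :=
      Subgroup.mem_centralizer_singleton_iff.2 (mul_inv_eq_iff_eq_mul.1 hxb).symm
    set P := Cfsg.pCore 2 ↥(Subgroup.centralizer ({b} : Set G)) with hP
    have h2 : z * x * z⁻¹ * x⁻¹ ∈ P.map (Subgroup.centralizer ({b} : Set G)).subtype := by
      refine ⟨w * ((⟨x, hxC⟩ : ↥(Subgroup.centralizer ({b} : Set G))) * w⁻¹ * ⟨x, hxC⟩⁻¹), ?_, ?_⟩
      · exact mul_mem hw ((Cores.pCore_normal 2).conj_mem _ (inv_mem hw) _)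
      · rw [← e]
        simp [mul_assoc]
    have h1 : z * x * z⁻¹ * x⁻¹ ∈ K := K.mul_mem (hnK z (hZQ hz) x hx) (K.inv_mem hx)
    exact mul_inv_eq_one.1 (hodd _ ((Cores.pCore_isPGroup 2).map _) _ h2 h1)
  have hzb : q * b * q⁻¹ = z * b := by rw [hzdef, inv_mul_cancel_right]
  have hCzb : ∀ x ∈ K, (z * b) * x * (z * b)⁻¹ = x → x = 1 := by
    intro x hx hfx
    have h := hCb (q⁻¹ * x * q) (by simpa using hnK q⁻¹ (Q.inv_mem hq) x hx) (by
      rw [← hzb] at hfx
      calc b * (q⁻¹ * x * q) * b⁻¹ = q⁻¹ * ((q * b * q⁻¹) * x * (q * b * q⁻¹)⁻¹) * q := by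
            simp [mul_assoc]
        _ = _ := by rw [hfx])
    calc x = q * (q⁻¹ * x * q) * q⁻¹ := by simp [mul_assoc]
      _ = 1 := by rw [h]; simp
  have iz := inverts hzz (fun x hx => hnK z (hZQ hz) x hx) hCz
  have ib := inverts hbb (fun x hx => hnK b hbQ x hx) hCb
  rw [eq_bot_iff]
  intro x hx
  rw [Subgroup.mem_bot]
  apply hCzb x hx
  calc (z * b) * x * (z * b)⁻¹ = z * (b * x * b⁻¹) * z⁻¹ := by simp [mul_assoc]
    _ = x := by rw [ib x hx, iz _ (K.inv_mem hx), inv_inv]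

end Cfsg.Agent.S5421
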