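import Cfsg.Statements.S0303
import Cfsg.Agent.Lib.Classical.OrthIso
import Cfsg.Agent.Lib.Classical.Wedge
import Cfsg.Agent.Lib.Classical.QuadExt
import Cfsg.Agent.Lib.Classical.UnitarySimple
import Cfsg.Agent.S0306

set_option autoImplicit false
open Cfsg

namespace Cfsg.Agent.S0303

open Matrix Cfsg.Agent.Classical Cfsg.Agent.Classical.OrthForms Cfsg.Agent.Forms.PlusStd
open Cfsg.Agent.Forms Cfsg.Agent.Classical.Unitary

variable {F K : Type*} [Field F] [Fintype F] [Field K] [Fintype K] {q : ℕ}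

local notation "Idx" => ((Fin 2 ⊕ Fin 2) ⊕ Fin 2)
local notation "M4" => Matrix (Fin 4) (Fin 4) K

variable (hF : Fintype.card F = q) (hK : Fintype.card K = q ^ 2) (i : F →+* K) (ω : K) {a b : F}
  (hfix : ∀ x, i x ^ q = i x) (hne : ω ^ q ≠ ω)
  (hsum : ω + ω ^ q = i a) (hprod : ω * ω ^ q = i b)
  (u v : Fin 2 → K) (huu : Cfsg.hermForm 2 K q u u = 0) (hvv : Cfsg.hermForm 2 K q v v = 0)
  (huv : Cfsg.hermForm 2 K q u v = 1)

/-- The coefficient of `u`. -/
def alpha (x x' : F) : K := (i x' - ω * i x) / (ω ^ q - ω)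

/-- The hyperbolic plane over the big field. -/
def plane (w : Idx → F) : Fin 2 → K :=
  alpha (q := q) i ω (w (.inl (.inl 0))) (w (.inl (.inl 1))) • u +
    QuadExt.toK i ω (w (.inl (.inr 0))) (w (.inl (.inr 1))) • v

/-- The six coordinates. -/
def emb (w : Idx → F) : Fin 6 → K :=
  ![plane (q := q) i ω u v w 0, plane (q := q) i ω u v w 1,
    QuadExt.toK i ω (w (.inr 0)) (w (.inr 1)), QuadExt.toK i ω (w (.inr 0)) (w (.inr 1)) ^ q,
    -plane (q := q) i ω u v w 1 ^ q, plane (q := q) i ω u v w 0 ^ q]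

/-- The fixed set of the semilinear involution. -/
def IsFixed (q : ℕ) (x : Fin 6 → K) : Prop := ∀ k, Wedge.dual x k = x k ^ q

include hK in
theorem isFixed_emb (w : Idx → F) : IsFixed q (emb (q := q) i ω u v w) := by
  intro k
  have hneg : ∀ z : K, (-z) ^ q = -(z ^ q) := fun z => by
    rw [← HermStd.qHom_apply hK, map_neg, HermStd.qHom_apply]
  fin_cases k <;> simp [Wedge.dual, emb, HermStd.pow_q_q hK, hneg]

theorem plane_add (w w' : Idx → F) :
    plane (q := q) i ω u v (w + w') = plane (q := q) i ω u v w + plane (q := q) i ω u v w' := by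
  funext k
  simp [plane, alpha, QuadExt.toK]
  ring

theorem plane_smul (c : F) (w : Idx → F) :
    plane (q := q) i ω u v (c • w) = i c • plane (q := q) i ω u v w := by
  funext k
  simp [plane, alpha, QuadExt.toK]
  ring

include hF hK hfix in
theorem emb_add (w w' : Idx → F) :
    emb (q := q) i ω u v (w + w') = emb (q := q) i ω u v w + emb (q := q) i ω u v w' := by
  simp only [emb, plane_add, Pi.add_apply, QuadExt.conj_toK hF i ω hfix hK,
    HermStd.add_pow_q hK]
  funext k
  fin_cases k <;> simp [QuadExt.toK] <;> ring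

include hF hK hfix in
theorem emb_smul (c : F) (w : Idx → F) :
    emb (q := q) i ω u v (c • w) = i c • emb (q := q) i ω u v w := by
  simp only [emb, plane_smul, Pi.smul_apply, smul_eq_mul, QuadExt.conj_toK hF i ω hfix hK,
    mul_pow, hfix]
  funext k
  fin_cases k <;> simp [QuadExt.toK] <;> ring

include hF hK hfix hne huu hvv huv in
theorem plane_herm (w : Idx → F) : Cfsg.hermForm 2 K q (plane (q := q) i ω u v w) (plane (q := q) i ω u v w) =
    i (w (.inl (.inl 0)) * w (.inl (.inr 0)) + w (.inl (.inl 1)) * w (.inl (.inr 1))) := by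
  have hvu : Cfsg.hermForm 2 K q v u = 1 := by rw [← H_conj hK, huv, one_pow]
  simp only [plane, H_add_left, H_add_right hK, H_smul_left, H_smul_right, huu, hvv, huv, hvu,
    QuadExt.conj_toK hF i ω hfix hK]
  simp only [QuadExt.toK]
  have e : alpha (q := q) i ω (w (.inl (.inl 0))) (w (.inl (.inl 1))) ^ q =
      (i (w (.inl (.inl 1))) - ω ^ q * i (w (.inl (.inl 0)))) / (ω - ω ^ q) := by
    rw [alpha, ← HermStd.qHom_apply hK, map_div₀, map_sub, map_sub, map_mul]
    simp only [HermStd.qHom_apply, hfix, HermStd.pow_q_q hK]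
  rw [e, alpha, map_add, map_mul, map_mul]
  have h1 : ω ^ q - ω ≠ 0 := sub_ne_zero.2 hne
  rw [← neg_sub (ω ^ q) ω, div_neg]
  field_simp
  ring

include hF hK hfix hne hsum hprod huu hvv huv in
theorem pf_emb (w : Idx → F) : Wedge.pf (emb (q := q) i ω u v w) = i (minQ F 2 a b w) := by
  have h1 := plane_herm hF hK i ω hfix hne u v huu hvv huv w
  have h2 := QuadExt.toK_mul_conj i ω hsum hprod (w (.inr 0)) (w (.inr 1))
  simp [Cfsg.hermForm, Fin.sum_univ_two] at h1
  simp only [map_add, map_mul, map_pow] at h2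
  rw [minQ_apply, plusQ_apply]
  simp [emb, Wedge.pf, Cfsg.quadFormPlus, Fin.sum_univ_two, QuadExt.conj_toK hF i ω hfix hK]
  linear_combination h1 + h2

include hF hK hfix hne huu hvv huv in
theorem emb_injective : Function.Injective (emb (q := q) i ω u v) := by
  intro w w' h
  have e0 : plane (q := q) i ω u v w 0 = plane (q := q) i ω u v w' 0 := congrFun h 0
  have e1 : plane (q := q) i ω u v w 1 = plane (q := q) i ω u v w' 1 := congrFun h 1
  have e2 : QuadExt.toK i ω (w (.inr 0)) (w (.inr 1)) = QuadExt.toK i ω (w' (.inr 0)) (w' (.inr 1)) :=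
    congrFun h 2
  have hp : plane (q := q) i ω u v w = plane (q := q) i ω u v w' := by
    funext k; fin_cases k <;> assumption
  have hvu : Cfsg.hermForm 2 K q v u = 1 := by rw [← H_conj hK, huv, one_pow]
  have ha : alpha (q := q) i ω (w (.inl (.inl 0))) (w (.inl (.inl 1))) =
      alpha (q := q) i ω (w' (.inl (.inl 0))) (w' (.inl (.inl 1))) := by
    have := congrArg (fun z => Cfsg.hermForm 2 K q z v) hp
    simpa [plane, H_add_left, H_smul_left, hvv, huv] using this
  have hb : QuadExt.toK i ω (w (.inl (.inr 0))) (w (.inl (.inr 1))) =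
      QuadExt.toK i ω (w' (.inl (.inr 0))) (w' (.inl (.inr 1))) := by
    have := congrArg (fun z => Cfsg.hermForm 2 K q z u) hp
    simpa [plane, H_add_left, H_smul_left, huu, hvu] using this
  have inj := (QuadExt.toK_bijective hF i ω hfix hne hK).1
  have y1 := inj (a₁ := (w (.inl (.inr 0)), w (.inl (.inr 1))))
    (a₂ := (w' (.inl (.inr 0)), w' (.inl (.inr 1)))) hb
  have z1 := inj (a₁ := (w (.inr 0), w (.inr 1))) (a₂ := (w' (.inr 0), w' (.inr 1))) e2
  have hn : i (w (.inl (.inl 1))) - ω * i (w (.inl (.inl 0))) =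
      i (w' (.inl (.inl 1))) - ω * i (w' (.inl (.inl 0))) :=
    (div_left_inj' (sub_ne_zero.2 hne)).1 ha
  have x1 := inj (a₁ := (w (.inl (.inl 1)), -w (.inl (.inl 0))))
    (a₂ := (w' (.inl (.inl 1)), -w' (.inl (.inl 0)))) (by
      simp [QuadExt.toK]; linear_combination hn)
  rw [Prod.mk.injEq] at y1 z1 x1
  funext j
  rcases j with (j | j) | j <;> fin_cases j
  exacts [neg_inj.1 x1.2, x1.1, y1.1, y1.2, z1.1, z1.2]

include hF hK hfix hne huu hvv huv in
theorem exists_emb (x : Fin 6 → K) (hx : IsFixed q x) : ∃ w, emb (q := q) i ω u v w = x := by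
  classical
  let f : (Idx → F) → K × K × K := fun w =>
    (plane (q := q) i ω u v w 0, plane (q := q) i ω u v w 1,
      QuadExt.toK i ω (w (.inr 0)) (w (.inr 1)))
  have hf : Function.Bijective f := by
    rw [Fintype.bijective_iff_injective_and_card]
    refine ⟨fun w w' h => emb_injective hF hK i ω hfix hne u v huu hvv huv ?_, ?_⟩
    · simp only [f, Prod.mk.injEq] at h
      simp only [emb, h.1, h.2.1, h.2.2]
    · simp [hF, hK]; ring
  obtain ⟨w, hw⟩ := hf.2 (x 0, x 1, x 2)
  simp only [f, Prod.mk.injEq] at hw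
  refine ⟨w, funext fun k => ?_⟩
  have x5 : x 5 = x 0 ^ q := hx 0
  have x4 : -x 4 = x 1 ^ q := hx 1
  have x3 : x 3 = x 2 ^ q := hx 2
  fin_cases k <;> simp [emb, hw.1, hw.2.1, hw.2.2, x5, x3, ← x4]

include hK in
theorem isFixed_wedge (g : Cfsg.SU 4 K q) (x : Fin 6 → K) (hx : IsFixed q x) :
    IsFixed q (Wedge.wedge (mat g) x) := by
  have hU : (mat g)ᵀ * (mat g).map (HermStd.qHom hK) = 1 := (preserves_iff hK (mat g)).1 (SU_H g)
  set s := HermStd.qHom hK
  set M := mat g with hM
  set N := M.map s with hN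
  have hU' : Nᵀ * M = 1 := by
    have := congrArg Matrix.transpose hU
    rwa [transpose_mul, transpose_transpose, transpose_one] at this
  have hd : M.det = 1 := g.1.2
  have halt : ∀ z : Fin 6 → K, (Wedge.altMat z).map s = Wedge.altMat fun k => z k ^ q := by
    intro z
    ext r c
    have hneg : ∀ t : K, (-t) ^ q = -(t ^ q) := fun t => by
      rw [← HermStd.qHom_apply hK, map_neg, HermStd.qHom_apply]
    fin_cases r <;> fin_cases c <;> simp [Wedge.altMat, s, hneg, q_ne_zero hK]
  have hx' : (fun k => x k ^ q) = Wedge.dual x := funext fun k => (hx k).symm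
  set D := Wedge.altMat (Wedge.dual (Wedge.wedge M x)) with hD
  have key : Mᵀ * D * M = Wedge.altMat (Wedge.dual x) := by
    rw [hD, Wedge.dual_wedge, hd, one_smul]
  have hσ : Wedge.altMat (fun k => Wedge.wedge M x k ^ q) = D := by
    rw [← halt, Wedge.altMat_wedge, Matrix.map_mul, Matrix.map_mul, halt, hx', ← key,
      transpose_map, ← hN]
    calc N * (Mᵀ * D * M) * Nᵀ = N * Mᵀ * D * (M * Nᵀ) := by simp only [Matrix.mul_assoc]
      _ = D := by
        rw [mul_eq_one_comm.1 hU, mul_eq_one_comm.1 hU', Matrix.one_mul, Matrix.mul_one]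
  intro k
  exact (congrFun (Wedge.altMat_injective hσ) k).symm

include hF hK hfix hne huu hvv huv in
theorem exists_image (g : Cfsg.SU 4 K q) (w : Idx → F) :
    ∃ w', emb (q := q) i ω u v w' = Wedge.wedge (mat g) (emb (q := q) i ω u v w) :=
  exists_emb hF hK i ω hfix hne u v huu hvv huv _
    (isFixed_wedge hK g _ (isFixed_emb hK i ω u v w))

/-- The image vector. -/
noncomputable def act6 (g : Cfsg.SU 4 K q) (w : Idx → F) : Idx → F :=
  (exists_image hF hK i ω hfix hne u v huu hvv huv g w).choose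

theorem emb_act6 (g : Cfsg.SU 4 K q) (w : Idx → F) :
    emb (q := q) i ω u v (act6 hF hK i ω hfix hne u v huu hvv huv g w) =
      Wedge.wedge (mat g) (emb (q := q) i ω u v w) :=
  (exists_image hF hK i ω hfix hne u v huu hvv huv g w).choose_spec

/-- The six dimensional representation over the fixed field. -/
noncomputable def rep6 : Cfsg.SU 4 K q →* Module.End F (Idx → F) where
  toFun g :=
    { toFun := act6 hF hK i ω hfix hne u v huu hvv huv g
      map_add' := fun w w' => emb_injective hF hK i ω hfix hne u v huu hvv huv (by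
        simp only [emb_add hF hK i ω hfix u v, emb_act6, map_add])
      map_smul' := fun c w => emb_injective hF hK i ω hfix hne u v huu hvv huv (by
        simp only [RingHom.id_apply, emb_smul hF hK i ω hfix u v, emb_act6, map_smul]) }
  map_one' := LinearMap.ext fun w => emb_injective hF hK i ω hfix hne u v huu hvv huv (by
    show emb (q := q) i ω u v (act6 hF hK i ω hfix hne u v huu hvv huv 1 w) = emb (q := q) i ω u v w
    rw [emb_act6, mat_one, Wedge.wedge_one]
    rfl)
  map_mul' g h := LinearMap.ext fun w => emb_injective hF hK i ω hfix hne u v huu hvv huv (by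
    show emb (q := q) i ω u v (act6 hF hK i ω hfix hne u v huu hvv huv (g * h) w) =
      emb (q := q) i ω u v (act6 hF hK i ω hfix hne u v huu hvv huv g
        (act6 hF hK i ω hfix hne u v huu hvv huv h w))
    rw [emb_act6, emb_act6, emb_act6, mat_mul, Wedge.wedge_mul]
    rfl)

include hsum hprod in
theorem preserves (g : Cfsg.SU 4 K q) (w : Idx → F) :
    minQ F 2 a b (rep6 hF hK i ω hfix hne u v huu hvv huv g w) = minQ F 2 a b w := by
  refine i.injective ?_
  rw [← pf_emb hF hK i ω hfix hne hsum hprod u v huu hvv huv,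
    ← pf_emb hF hK i ω hfix hne hsum hprod u v huu hvv huv]
  show Wedge.pf (emb (q := q) i ω u v (act6 hF hK i ω hfix hne u v huu hvv huv g w)) = _
  rw [emb_act6, Wedge.pf_wedge, show (mat g).det = 1 from g.1.2, one_mul]

/-- PΩ^-_6(q) is isomorphic to PSU_4(q). -/
theorem result {F K : Type*} [Field F] [Fintype F] [Field K] [Fintype K] {q : ℕ} (hF : Fintype.card F = q) (hK : Fintype.card K = q ^ 2) (a b : F) (hab : ∀ z₁ z₂ : F, z₁ ^ 2 + a * z₁ * z₂ + b * z₂ ^ 2 = 0 → z₁ = 0 ∧ z₂ = 0) : Nonempty (Cfsg.POmega F (Cfsg.quadFormMinus 2 F a b) ≃* Cfsg.PSU 4 K q) := by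
  obtain ⟨i, ω, hfix, -, hne, hsum, hprod⟩ := QuadExt.exists_data hF hK hab
  obtain ⟨u, huu, hu1, -, -⟩ := exists_isotropic_pair hK (n := 2) 0 1 (by decide)
  obtain ⟨v, hvv, huv⟩ := exists_partner hK (fun h => by simp [h] at hu1) huu
  have hq : 1 < q := hF ▸ Fintype.one_lt_card
  rw [← minQ_eq]
  set φ := OrthIso.repHom (minQ F 2 a b) (rep6 hF hK i ω hfix hne u v huu hvv huv)
    (preserves hF hK i ω hfix hne hsum hprod u v huu hvv huv) with hφ
  have hmem : ∀ g, g ∈ φ.ker ↔ ∀ w, Wedge.wedge (mat g) (emb (q := q) i ω u v w) =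
      emb (q := q) i ω u v w := fun g => by
    rw [MonoidHom.mem_ker, hφ, OrthIso.repHom_eq_one]
    refine forall_congr' fun w => ?_
    rw [← emb_act6 hF hK i ω hfix hne u v huu hvv huv]
    exact (emb_injective hF hK i ω hfix hne u v huu hvv huv).eq_iff.symm
  have hperf : commutator (Cfsg.SU 4 K q) = ⊤ :=
    commutator_SU_eq_top hK (by norm_num) (by simp)
  have hsimp : IsSimpleGroup (Cfsg.SU 4 K q ⧸ Subgroup.center (Cfsg.SU 4 K q)) :=
    isSimpleGroup_PSU hK (by norm_num) (by simp)
  have hker : φ.ker ≤ Subgroup.center _ := by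
    refine OrthIso.le_center_of_simple hperf _ fun htop => ?_
    obtain ⟨ζ, hζ, hζ1, -⟩ := exists_normOne_ne hK
    have hζ0 : ζ ≠ 0 := fun h => by simp [h] at hζ
    let g : Cfsg.SU 4 K q := suMk (Matrix.diagonal ![ζ, ζ⁻¹, 1, 1])
      (by rw [det_diagonal]; simp [Fin.prod_univ_four, hζ0])
      (diag_preserves hK _ fun k => by fin_cases k <;> simp [hζ])
    obtain ⟨w, hw⟩ := exists_emb hF hK i ω hfix hne u v huu hvv huv ![0, 1, 0, 0, -1, 0] (fun k => by
      have hneg : (-1 : K) ^ q = -1 := by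
        rw [← HermStd.qHom_apply hK, map_neg, map_one]
      fin_cases k <;> simp [Wedge.dual, hneg, zero_pow (show q ≠ 0 by omega)])
    have h := congrFun ((hmem g).1 (htop ▸ Subgroup.mem_top _) w) 1
    rw [hw] at h
    simp [g, suMk, mat, Cfsg.slToMat, Wedge.wedge, Wedge.coords, Wedge.altMat, Matrix.mul_apply,
      Fin.sum_univ_four] at h
    exact hζ1 h
  have hsc : ∀ g ∈ φ.ker, mat g = mat g 0 0 • 1 := fun g hg => by
    obtain ⟨c, hc⟩ := (Unitary.mem_center_iff hK (by norm_num) g).1 (hker hg)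
    rw [hc]; simp
  have hcard : Nat.card φ.ker = Nat.card {c : K // c ^ 2 = 1} := by
    refine OrthIso.natCard_scalar_eq _ (fun g => mat g 0 0) (fun g hg h hh he => ?_) (fun g hg => ?_)
      (fun c hc => ?_)
    · refine Unitary.SU_ext fun x => ?_
      rw [hsc g hg, hsc h hh, show mat g 0 0 = mat h 0 0 from he]
    · obtain ⟨w, hw⟩ := exists_emb hF hK i ω hfix hne u v huu hvv huv ![1, 0, 0, 0, 0, 1] (fun k => by
        fin_cases k <;> simp [Wedge.dual, zero_pow (show q ≠ 0 by omega)])
      have h := congrFun ((hmem g).1 hg w) 0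
      rw [hsc g hg, Wedge.wedge_smul_one, hw] at h
      simpa using h
    · have hcq : c ^ (q + 1) = 1 := by
        rw [pow_succ]
        rcases sq_eq_one_iff.1 hc with h | h
        · rw [h, one_pow, mul_one]
        · rw [h, ← HermStd.qHom_apply hK, map_neg, map_one]; simp
      have hd : (Matrix.diagonal fun _ : Fin 4 => c) = c • (1 : Matrix (Fin 4) (Fin 4) K) :=
        (smul_one_eq_diagonal c).symm
      refine ⟨suMk (Matrix.diagonal fun _ => c)
        (by rw [det_diagonal]; simp; linear_combination (c ^ 2 + 1) * hc)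
        (diag_preserves hK _ fun _ => hcq), (hmem _).2 fun w => ?_, ?_⟩
      · show Wedge.wedge (Matrix.diagonal fun _ : Fin 4 => c) _ = _
        rw [hd, Wedge.wedge_smul_one, hc, one_smul]
      · show Matrix.diagonal (fun _ : Fin 4 => c) 0 0 = c
        simp
  have h22 : (2 : K) = 0 ↔ (2 : F) = 0 := by
    rw [← map_ofNat i 2, map_eq_zero_iff i i.injective]
  have hsq : Nat.card {c : K // c ^ 2 = 1} = Nat.card {c : F // c ^ 2 = 1} := by
    by_cases h2 : (2 : F) = 0
    · rw [OrthIso.natCard_sq_one_even h2, OrthIso.natCard_sq_one_even (h22.2 h2)]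
    · rw [OrthIso.natCard_sq_one_odd h2, OrthIso.natCard_sq_one_odd (mt h22.1 h2)]
  refine OrthIso.nonempty_equiv_of_perfect _ φ hperf hker ?_ ?_
  · have h0 : Nat.card (Cfsg.isometryGroup F ⇑(minQ F 0 a b)) = 2 * (q + 1) := by
      obtain ⟨e⟩ := S0306.result hF a b hab
      rw [minQ_eq, Nat.card_congr e.toEquiv, DihedralGroup.nat_card]
    refine Nat.eq_of_mul_eq_mul_left (show 0 < q + 1 by omega) ?_
    rw [← mul_assoc, natCard_SU_mul hK (by norm_num), natCard_GU hK, natCard_O_min hF hab h0 2]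
    norm_num [Finset.prod_range_succ, Nat.even_iff, -Nat.card_eq_fintype_card]
    ring
  · rw [hcard, hsq, OrthIso.index_omega _ (minQ_nondeg 2 hab) (by simp) (Or.inr (by simp))]

end Cfsg.Agent.S0303
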