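import Cfsg.Statements.S0925
import Cfsg.Agent.Lib.Blocks.Orthogonality

set_option autoImplicit false
open Cfsg

namespace Cfsg.Agent.S0925

open Cfsg.Agent.Blocks Cfsg.Agent.Characters
open scoped ComplexConjugate

/-- (i) Let ϑ be a class function on the finite group G and x a p-element, and suppose ϑ vanishes at every element whose p-part is conjugate to x. Then for every block B (relative to a maximal ideal M of the algebraic integers containing p) the B-part of ϑ — the sum over χ ∈ B of the inner product of ϑ with χ, times χ — also vanishes at every such element. (ii) Block orthogonality, its corollary: if the p-parts of g and h are not conjugate, then the sum over χ ∈ B of χ g * χ h⁻¹ is zero for every block B. -/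
theorem result {G : Type*} [Group G] [Finite G] (p : ℕ) [Fact p.Prime] (M : Ideal Cfsg.AlgInt) (hM : Cfsg.IsPModular p M) : (∀ (ϑ : G → ℂ), Cfsg.IsClassFunction G ϑ → ∀ x : G, (∃ k : ℕ, orderOf x = p ^ k) → (∀ u z : G, Cfsg.IsPPart p u z → IsConj x z → ϑ u = 0) → ∀ B : Set (Cfsg.IrrCharacter G), Cfsg.IsPBlock M B → ∀ u z : G, Cfsg.IsPPart p u z → IsConj x z → Cfsg.blockPart B ϑ u = 0) ∧ (∀ g h x y : G, Cfsg.IsPPart p g x → Cfsg.IsPPart p h y → ¬ IsConj x y → ∀ B : Set (Cfsg.IrrCharacter G), Cfsg.IsPBlock M B → ∑ᶠ χ ∈ B, (χ : G → ℂ) g * (χ : G → ℂ) h⁻¹ = 0) := by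
  have hp := hM.1
  have h2 : ∀ g h x y : G, Cfsg.IsPPart p g x → Cfsg.IsPPart p h y → ¬ IsConj x y →
      ∀ B : Set (Cfsg.IrrCharacter G), Cfsg.IsPBlock M B →
        ∑ᶠ χ ∈ B, (χ : G → ℂ) g * (χ : G → ℂ) h⁻¹ = 0 := by
    intro g h x y hgx hhy hne B hB
    simp only [fun χ : Cfsg.IrrCharacter G => char_inv (irr_isCharacter χ) h]
    exact sum_block_mul_conj_eq_zero hM (intEl_blockIdem hM hB) hgx hhy hne
  refine ⟨?_, h2⟩
  intro ϑ hcl x hx hvan B hB u z hu hz
  classical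
  haveI := Fintype.ofFinite (Cfsg.IrrCharacter G)
  letI := Fintype.ofFinite G
  rw [Cfsg.blockPart]
  simp only [Cfsg.classInner]
  rw [finsum_mem_def, finsum_eq_sum_of_fintype]
  have key : ∀ y : G, ϑ y * ∑ᶠ χ ∈ B, (χ : G → ℂ) u * (χ : G → ℂ) y⁻¹ = 0 := by
    intro y
    obtain ⟨t, ht⟩ := exists_ppart hp y
    by_cases h : IsConj z t
    · rw [hvan y t ht (hz.trans h), zero_mul]
    · rw [h2 u y z t hu ht h B hB, mul_zero]
  have hsum : ∀ y : G, ∑ᶠ χ ∈ B, (χ : G → ℂ) u * (χ : G → ℂ) y⁻¹ =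
      ∑ χ : Cfsg.IrrCharacter G, B.indicator (fun χ => (χ : G → ℂ) u * (χ : G → ℂ) y⁻¹) χ :=
    fun y => by rw [finsum_mem_def, finsum_eq_sum_of_fintype]
  simp only [hsum, Finset.mul_sum] at key
  rw [Finset.sum_congr rfl (g := fun χ : Cfsg.IrrCharacter G => (Nat.card G : ℂ)⁻¹ *
    ∑ y : G, ϑ y * B.indicator (fun χ => (χ : G → ℂ) u * (χ : G → ℂ) y⁻¹) χ) fun χ _ => ?_]
  · rw [← Finset.mul_sum, Finset.sum_comm, Finset.sum_eq_zero fun y _ => key y, mul_zero]
  by_cases h : χ ∈ B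
  · rw [Set.indicator_of_mem h, Finset.mul_sum, Finset.sum_mul, Finset.mul_sum]
    refine Finset.sum_congr rfl fun y _ => ?_
    rw [Set.indicator_of_mem h, ← char_inv (irr_isCharacter χ) y]; ring
  · simp [h]

end Cfsg.Agent.S0925
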