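import Cfsg.Statements.S0203
import Cfsg.Agent.Lib.Involutions.KleinSylow

set_option autoImplicit false
open Cfsg

namespace Cfsg.Agent.S0203

/-- If a Sylow 2-subgroup P of a finite group G is a Klein four-group, then G has three classes of involutions if and only if P has a normal complement in G. -/
theorem result {G : Type*} [Group G] [Finite G] (P : Sylow 2 G) (hP : IsKleinFour (P : Subgroup G)) : Nat.card {C : ConjClasses G // ∃ t : G, orderOf t = 2 ∧ ConjClasses.mk t = C} = 3 ↔ ∃ N : Subgroup G, N.Normal ∧ Subgroup.IsComplement' N (P : Subgroup G) := by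
  have : Fact (Nat.Prime 2) := ⟨Nat.prime_two⟩
  have := IsKleinFour.isMulCommutative (G := (P : Subgroup G))
  constructor
  · intro h3
    have hfix : ∀ a ∈ P, ∀ g : G, g * a * g⁻¹ ∈ P → g * a * g⁻¹ = a := by
      rcases Involutions.KleinSylow.conj_dichotomy P hP with h | h
      · exact h
      · have := (Involutions.KleinSylow.card_classes P hP).2 h
        omega
    have hNC : Subgroup.normalizer ((P : Subgroup G) : Set G) ≤
        Subgroup.centralizer ((P : Subgroup G) : Set G) := fun n hn => by
      rw [Subgroup.mem_centralizer_iff]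
      intro a ha
      have h := hfix a ha n ((Subgroup.mem_normalizer_iff.mp hn a).mp ha)
      rw [mul_inv_eq_iff_eq_mul] at h
      exact h.symm
    exact ⟨_, MonoidHom.normal_ker _, MonoidHom.ker_transferSylow_isComplement' P hNC⟩
  · rintro ⟨N, hN, hc⟩
    refine (Involutions.KleinSylow.card_classes P hP).1 fun a ha g hg => ?_
    -- `G / N` is abelian
    have hab : ∀ u v : G, (u * v * u⁻¹ * v⁻¹) ∈ N := by
      intro u v
      rw [← QuotientGroup.eq_one_iff]
      have e : (G ⧸ N) ≃* (P : Subgroup G) :=
        hc.symm.QuotientMulEquiv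
      apply e.injective
      rw [QuotientGroup.mk_mul, QuotientGroup.mk_mul, QuotientGroup.mk_mul, QuotientGroup.mk_inv,
        QuotientGroup.mk_inv, map_mul, map_mul, map_mul, map_one, map_inv, map_inv, mul_comm' (e u) (e v),
        mul_inv_cancel_right, mul_inv_cancel]
    have h1 : g * a * g⁻¹ * a⁻¹ ∈ N ⊓ (P : Subgroup G) :=
      ⟨hab g a, P.mul_mem hg (P.inv_mem ha)⟩
    rw [hc.disjoint.eq_bot, Subgroup.mem_bot, mul_inv_eq_one] at h1
    exact h1

end Cfsg.Agent.S0203
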