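import Cfsg.Statements.S1270
import Cfsg.Agent.Lib.Components.LocalFix

set_option autoImplicit false
open Cfsg

namespace Cfsg.Agent.S1270

/-- Let G be finite with O_{p'}(G) = 1, x of order p, and L a component with ⁅L, ⟨x⟩⁆ ≠ L. Then ⁅L, O_{p'}(C_G(x))⁆ = 1. -/
theorem result {G : Type*} [Group G] [Finite G] (p : ℕ) [Fact p.Prime] (hO : Cfsg.pPrimeCore p G = ⊥) (x : G) (hx : orderOf x = p) (L : Subgroup G) (hL : Cfsg.IsComponent L) (hne : ⁅L, Subgroup.zpowers x⁆ ≠ L) : ⁅L, Cfsg.centralizerPPrimeCore p x⁆ = ⊥ := by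
  by_cases hxn : x ∈ Subgroup.normalizer (L : Set G)
  · -- `x` centralizes `L`
    have hle : ⁅L, Subgroup.zpowers x⁆ ≤ L :=
      Subgroup.le_normalizer_iff_commutator_le_left.mp (Subgroup.zpowers_le.mpr hxn)
    haveI hn : (⁅L, Subgroup.zpowers x⁆.subgroupOf L).Normal :=
      Subgroup.normal_subgroupOf_of_le_normalizer (Subgroup.normalizer_commutator_ge_left _ _)
    have hc : (⁅L, Subgroup.zpowers x⁆.subgroupOf L) ≤ Subgroup.center ↥L :=
      (Cfsg.Agent.Components.Basic.quasisimple_eq_top_or_le_center_of_normal hL.2 _).resolve_left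
        fun h => hne (le_antisymm hle (Subgroup.subgroupOf_eq_top.mp h))
    have h1 : ⁅⁅L, Subgroup.zpowers x⁆, L⁆ = ⊥ := by
      rw [Subgroup.commutator_eq_bot_iff_le_centralizer]
      intro z hz
      rw [Subgroup.mem_centralizer_iff]
      intro a ha
      exact congrArg Subtype.val (Subgroup.mem_center_iff.mp
        (hc (show (⟨z, hle hz⟩ : L) ∈ _ from hz)) ⟨a, ha⟩)
    have h2 := Cfsg.Agent.Components.Basic.commutator_eq_bot_of_perfect
      (Cfsg.Agent.Components.Basic.component_commutator_self hL) h1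
    have hLx : L ≤ Subgroup.centralizer ({x} : Set G) :=
      (Subgroup.commutator_eq_bot_iff_le_centralizer.mp h2).trans
        (Subgroup.centralizer_le (Set.singleton_subset_iff.mpr (Subgroup.mem_zpowers x)))
    have hK := Cfsg.Agent.Components.Basic.component_subgroupOf hL hLx
    rcases Cfsg.Agent.Components.Basic.component_le_or_commutator_eq_bot hK
      (inferInstance : (Cfsg.pPrimeCore p ↥(Subgroup.centralizer ({x} : Set G))).Normal).isSubnormal with h | h
    · exfalso
      have hd := (Cfsg.Agent.Components.PComponents.component_dvd_card hO hL).trans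
        ((Nat.card_congr (Subgroup.subgroupOfEquivOfLe hLx).toEquiv).symm.dvd.trans (Subgroup.card_dvd_of_le h))
      exact (Fact.out : p.Prime).coprime_iff_not_dvd.mp
        (Cfsg.Agent.Cores.pPrimeCore_card_coprime (G := ↥(Subgroup.centralizer ({x} : Set G))) p).symm hd
    · have := congrArg (Subgroup.map (Subgroup.centralizer ({x} : Set G)).subtype) h
      rwa [Subgroup.map_commutator, Subgroup.map_subgroupOf_eq_of_le hLx, Subgroup.map_bot] at this
  · refine Cfsg.Agent.Components.LocalFix.commutator_eq_bot_of_moved hO hx hL fun k hk0 hkp h => hxn ?_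
    have hk : x ^ k ∈ Subgroup.normalizer (L : Set G) := Subgroup.mem_normalizer_iff_map_conj_eq.mpr h
    have hco : k.Coprime (orderOf x) := by
      rw [hx, Nat.coprime_comm, (Fact.out : p.Prime).coprime_iff_not_dvd]
      exact fun hd => absurd (Nat.le_of_dvd hk0 hd) (by omega)
    obtain ⟨n, hn⟩ := exists_pow_eq_self_of_coprime hco
    exact hn ▸ pow_mem hk n

end Cfsg.Agent.S1270
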