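import Cfsg.Statements.S0365
import Cfsg.Agent.Lib.Golay.Small

set_option autoImplicit false
open Cfsg

namespace Cfsg.Agent.S0365

open Cfsg.Agent.Golay.Basic Cfsg.Agent.Golay.Design Cfsg.Agent.Golay.Perm Cfsg.Agent.Golay.M24 Cfsg.Agent.Golay.Trans Cfsg.Agent.Golay.Cert Cfsg.Agent.Golay.Small Cfsg.Agent.Golay.SmallData
open scoped Pointwise

/-- The permutation group preserving the length-24 code is simple. -/
theorem result : IsSimpleGroup Cfsg.M24 := by
  exact isSimple_M24

end Cfsg.Agent.S0365
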