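import Cfsg.Statements.S1327
import Cfsg.Agent.Lib.Components.Local

set_option autoImplicit false
open Cfsg

namespace Cfsg.Agent.S1327

/-- A finite group X is p-constrained if and only if its p-layer L_{p'}(X) is trivial (equivalently X / O_{p'}(X) has trivial layer). -/
theorem result {X : Type*} [Group X] [Finite X] (p : ℕ) [Fact p.Prime] : Cfsg.IsPConstrained p X ↔ Cfsg.pLayer p X = ⊥ := by
  open Subgroup Cfsg.Agent.Components.Basic Cfsg.Agent.Components.Fitting Cfsg.Agent.Components.PComponents Cfsg.Agent.Components.Local in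
  set q := QuotientGroup.mk' (Cfsg.pPrimeCore p X) with hq
  set Q := X ⧸ Cfsg.pPrimeCore p X
  have hO : Cfsg.pPrimeCore p Q = ⊥ := Cores.pPrimeCore_quotient_self p
  have key : ∀ P : Sylow p ↥(Cfsg.pPrimePCore p X),
      (Subgroup.centralizer (((P : Subgroup ↥(Cfsg.pPrimePCore p X)).map
        (Cfsg.pPrimePCore p X).subtype : Subgroup X) : Set X) ≤ Cfsg.pPrimePCore p X ↔
      Subgroup.centralizer (Cfsg.pCore p Q : Set Q) ≤ Cfsg.pCore p Q) := by
    intro P
    rw [← map_sylow_pPrimePCore P,
      ← map_centralizer_eq (P.isPGroup'.map _) (Cores.pPrimeCore_card_coprime p), map_sylow_pPrimePCore P,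
      Subgroup.map_le_iff_le_comap]
    rfl
  have hQ : Subgroup.centralizer (Cfsg.pCore p Q : Set Q) ≤ Cfsg.pCore p Q ↔ Cfsg.layer Q = ⊥ := by
    constructor
    · intro h
      refine layer_eq_bot_iff.mpr fun L hL => ?_
      have := (Cores.pCore_isPGroup (G := Q) p).isNilpotent
      exact component_not_le_of_isSolvable hL IsNilpotent.to_isSolvable
        (((le_layer hL).trans layer_le_centralizer_pCore).trans h)
    · intro h
      have := centralizer_genFitting_le (G := Q)
      rwa [Cfsg.generalizedFittingSubgroup, h, bot_sup_eq, fitting_eq_pCore hO] at this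
  rw [pLayer_eq_bot_iff]
  obtain ⟨P₀⟩ := (inferInstance : Nonempty (Sylow p ↥(Cfsg.pPrimePCore p X)))
  exact ⟨fun h => hQ.mp ((key P₀).mp (h P₀)), fun h P => (key P).mpr (hQ.mpr h)⟩

end Cfsg.Agent.S1327
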