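import Cfsg.Statements.S0214
import Cfsg.Agent.Lib.Involutions.Control
import Cfsg.Agent.Lib.Involutions.StronglyEmbedded

set_option autoImplicit false
open Cfsg

namespace Cfsg.Agent.S0214

/-- Let H be a proper subgroup of the finite group G and P a nontrivial Sylow 2-subgroup of H. Then H is strongly embedded in G if and only if N_G(X) ≤ H for every nontrivial subgroup X of P. -/
theorem result {G : Type*} [Group G] [Finite G] (H : Subgroup G) (hH : H ≠ ⊤) (P : Sylow 2 ↥H) (hP : (P : Subgroup ↥H) ≠ ⊥) : Cfsg.IsStronglyEmbedded H ↔ (∀ X : Subgroup ↥H, X ≤ (P : Subgroup ↥H) → X ≠ ⊥ → Subgroup.normalizer ((X.map H.subtype : Subgroup G) : Set G) ≤ H) := by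
  have : Fact (Nat.Prime 2) := ⟨Nat.prime_two⟩
  set P' : Subgroup G := (P : Subgroup ↥H).map H.subtype with hP'
  have hPH : P' ≤ H := Subgroup.map_subtype_le _
  have hP'p : IsPGroup 2 P' := P.2.map _
  have hSyl : ∀ B : Subgroup G, IsPGroup 2 B → B ≤ H →
      ∃ h ∈ H, B.map (MulAut.conj h).toMonoidHom ≤ P' := by
    intro B hB hBH
    obtain ⟨Q, hQ⟩ := (hB.comap_of_injective H.subtype Subtype.val_injective).exists_le_sylow
    obtain ⟨h, hh⟩ := MulAction.exists_smul_eq (↥H) Q P
    refine ⟨h.1, h.2, ?_⟩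
    rintro _ ⟨b, hb, rfl⟩
    refine ⟨h * ⟨b, hBH hb⟩ * h⁻¹, ?_, rfl⟩
    rw [← hh]
    show h * ⟨b, hBH hb⟩ * h⁻¹ ∈ (h • Q : Sylow 2 ↥H)
    rw [← SetLike.mem_coe, Sylow.coe_smul]
    exact ⟨⟨b, hBH hb⟩, hQ hb, rfl⟩
  constructor
  · intro hSE X hXP hX g hg
    have hXp : IsPGroup 2 X := P.2.to_le hXP
    obtain ⟨k, hk⟩ := IsPGroup.iff_card.mp hXp
    have hk0 : k ≠ 0 := by
      rintro rfl
      exact hX (Subgroup.eq_bot_of_card_eq _ (by rw [hk, pow_zero]))
    obtain ⟨⟨t, htX⟩, ht⟩ := exists_prime_orderOf_dvd_card' (G := X) 2 (hk ▸ dvd_pow_self 2 hk0)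
    rw [Subgroup.orderOf_mk] at ht
    refine Involutions.StronglyEmbedded.mem_of_conj hSE t.2 (by rw [Subgroup.orderOf_coe]; exact ht) ?_
    have h1 := (Subgroup.mem_normalizer_iff.mp hg (t : G)).mp ⟨t, htX, rfl⟩
    exact Subgroup.map_subtype_le _ h1
  · intro h
    have heven : Even (Nat.card H) := by
      obtain ⟨k, hk⟩ := IsPGroup.iff_card.mp P.2
      have hk0 : k ≠ 0 := by
        rintro rfl
        exact hP (Subgroup.eq_bot_of_card_eq _ (by rw [hk, pow_zero]))
      exact even_iff_two_dvd.mpr ((hk ▸ dvd_pow_self 2 hk0).trans (Subgroup.card_subgroup_dvd_card _))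
    refine Involutions.StronglyEmbedded.of_conj hH heven fun t ht ht2 g hg => ?_
    have hN : ∀ X : Subgroup G, X ≤ P' → X ≠ ⊥ → Subgroup.normalizer (X : Set G) ≤ H := by
      intro X hX hXne
      have e : (X.subgroupOf H).map H.subtype = X := by
        rw [Subgroup.map_subgroupOf_eq_of_le (hX.trans hPH)]
      have h2 := h (X.subgroupOf H) ?_ ?_
      · rwa [e] at h2
      · intro x hx
        obtain ⟨y, hy, hyx⟩ := hX hx
        rwa [← Subtype.ext (a1 := y) (a2 := x) hyx]
      · intro e'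
        apply hXne
        rw [← e, e', Subgroup.map_bot]
    have hz : IsPGroup 2 (Subgroup.zpowers t) :=
      IsPGroup.of_card (n := 1) (by rw [Nat.card_zpowers, ht2, pow_one])
    obtain ⟨a, haH, ha⟩ := hSyl _ hz (Subgroup.zpowers_le.mpr ht)
    have hz' : IsPGroup 2 (Subgroup.zpowers (g * t * g⁻¹)) :=
      IsPGroup.of_card (n := 1) (by rw [Nat.card_zpowers, Involutions.Basic.orderOf_conj, ht2, pow_one])
    obtain ⟨b, hbH, hb⟩ := hSyl _ hz' (Subgroup.zpowers_le.mpr hg)
    have hmem := Involutions.Control.mem_of_conj_good H P' hP'p hPH hSyl (fun X => X ≠ ⊥)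
      (fun A B hAB _ hA hB => hA (le_bot_iff.mp (hB ▸ hAB)))
      (fun A c hA hc => hA ((Subgroup.map_eq_bot_iff_of_injective A (MulAut.conj c).injective).mp hc))
      hN ((Subgroup.zpowers t).map (MulAut.conj a).toMonoidHom) ha (by
        intro e
        rw [Subgroup.map_eq_bot_iff_of_injective _ (MulAut.conj a).injective, Subgroup.zpowers_eq_bot] at e
        exact Involutions.Basic.ne_one ht2 e) (b * g * a⁻¹) (by
        rw [← Transfer.Fusion.map_conj_mul, mul_assoc (b * g), inv_mul_cancel, mul_one, Transfer.Fusion.map_conj_mul]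
        refine le_trans (Subgroup.map_mono (le_of_eq ?_)) hb
        rw [MonoidHom.map_zpowers]
        rfl)
    have := H.mul_mem (H.mul_mem (H.inv_mem hbH) hmem) haH
    simpa [mul_assoc] using this

end Cfsg.Agent.S0214
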