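import Cfsg.Statements.S0659
import Cfsg.Agent.Lib.PLocal.ZJ
import Cfsg.Agent.Lib.PLocal.StableNormal
import Cfsg.Agent.Lib.PLocal.CriticalCase

set_option autoImplicit false
open Cfsg

namespace Cfsg.Agent.S0659

universe v

theorem center_le {Q : Type v} [Group Q] [Finite Q] :
    Subgroup.center Q ≤ Cfsg.Agent.PLocal.MaxAbelian.core 0 (⊤ : Subgroup Q) := by
  open Cfsg.Agent.PLocal.MaxAbelian Subgroup in
  refine le_sInf fun A hA z hz => ?_
  have hA' : IsMulCommutative A := good_zero_iff.mp hA.2.1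
  have hg : Good 0 (A ⊔ center Q) := by
    refine ⟨fun a ha b hb => ?_, fun a _ => pow_zero a⟩
    have h1 : A ⊔ center Q ≤ centralizer (A : Set Q) :=
      sup_le (le_centralizer_iff_isMulCommutative.mpr hA') (center_le_centralizer _)
    have h2 : A ⊔ center Q ≤ centralizer ((A ⊔ center Q : Subgroup Q) : Set Q) :=
      sup_le (le_centralizer_iff.mp h1) (center_le_centralizer _)
    exact (h2 ha b hb).symm
  rw [eq_of_le_of_card_ge (le_sup_left : A ≤ A ⊔ center Q) (hA.2.2 _ le_top hg)]
  exact mem_sup_right hz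


/-- Glauberman's normal p-complement Theorem with the abelian-version Thompson subgroup: for odd p, G has a normal p-complement whenever the normalizer of Z(J(P)) does. -/
theorem result {G : Type*} [Group G] [Finite G] {p : ℕ} [Fact p.Prime] (hp : p ≠ 2) (P : Sylow p G) (hN : Cfsg.HasNormalPComplement p ↥(Subgroup.normalizer (Cfsg.centerThompsonAOf ((P : Subgroup G)) : Set G))) : Cfsg.HasNormalPComplement p G := by

  open Cfsg.Agent.PLocal in
  have key : ∀ {X : Type _} [Group X] [Finite X] (U : Subgroup X),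
      (MaxAbelian.core 0 (⊤ : Subgroup U)).map U.subtype = MaxAbelian.core 0 U := by
    intro X _ _ U
    have h := MaxAbelian.core_map 0 U.subtype_injective (⊤ : Subgroup U)
    rw [← MonoidHom.range_eq_map, Subgroup.range_subtype] at h
    exact h.symm
  refine Cfsg.Agent.PLocal.CriticalCase.criterion hp
    (W := fun Q _ => Cfsg.Agent.PLocal.MaxAbelian.core 0 (⊤ : Subgroup Q)) ⟨?_, ?_⟩ ?_ P ?_
  · intro Q _ _ hQ hnt h
    exact (Subgroup.nontrivial_iff_ne_bot _).mp hQ.center_nontrivial (le_bot_iff.mp (h ▸ center_le))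
  · intro Q R _ _ _ _ φ
    rw [← Cfsg.Agent.PLocal.MaxAbelian.core_map 0 (f := φ.toMonoidHom) φ.injective,
      Subgroup.map_top_of_surjective _ φ.surjective]
  · intro X _ _ hab hc S'
    rw [key]
    exact Cfsg.Agent.PLocal.ZJ.core_normal hp hc 0
      (fun V _ hV => Cfsg.Agent.PLocal.StableNormal.of_abelianTwo hp hab V hV) S'
  · show Cfsg.HasNormalPComplement p ↥(Subgroup.normalizer (((Cfsg.Agent.PLocal.MaxAbelian.core 0 (⊤ : Subgroup (P : Subgroup G))).map (P : Subgroup G).subtype : Subgroup G) : Set G))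
    rw [key, ← Cfsg.Agent.PLocal.MaxAbelian.centerThompsonA_eq]
    exact hN

end Cfsg.Agent.S0659
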