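import Cfsg.Statements.S2756
import Cfsg.Agent.Lib.CharP.InversionZJ
import Cfsg.Agent.Lib.Involutions.BaerSuzuki

set_option autoImplicit false
open Cfsg

namespace Cfsg.Agent.S2756

open Subgroup

section

variable {G : Type*} [Group G] [Finite G]

/-- A group with a normal Sylow `2`-subgroup inverts no element of odd prime power order. -/
theorem no_inversion (h : ∀ P : Sylow 2 G, (P : Subgroup G).Normal) {q : ℕ} [Fact q.Prime] (hq : q ≠ 2)
    {x : G} {k : ℕ} (hk : x ^ q ^ k = 1) (hx1 : x ≠ 1) (g : G) : g * x * g⁻¹ ≠ x⁻¹ := by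
  intro he
  obtain ⟨x', -, g', -, hx', ⟨k', hk'⟩, ⟨i, hi⟩, he'⟩ :=
    CharP.InversionZJ.InvIn.exists_two_element hq
      (⟨x, mem_top x, g, mem_top g, hx1, ⟨k, hk⟩, he⟩ : CharP.InversionZJ.InvIn q (⊤ : Subgroup G))
  have h2 : IsPGroup 2 (zpowers g') := by
    obtain ⟨j, -, hj⟩ := (Nat.dvd_prime_pow Nat.prime_two).mp (orderOf_dvd_of_pow_eq_one hi)
    exact IsPGroup.of_card (by rw [Nat.card_zpowers, hj])
  obtain ⟨P, hP⟩ := h2.exists_le_sylow
  haveI := h P
  have hgP : g' ∈ (P : Subgroup G) := hP (mem_zpowers g')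
  have hcP : x'⁻¹ * x'⁻¹ ∈ (P : Subgroup G) := by
    have h1 : g' * (x' * g'⁻¹ * x'⁻¹) ∈ (P : Subgroup G) :=
      (P : Subgroup G).mul_mem hgP ((h P).conj_mem _ ((P : Subgroup G).inv_mem hgP) x')
    rwa [← mul_assoc, ← mul_assoc, he'] at h1
  obtain ⟨j, hj⟩ := P.2 ⟨_, hcP⟩
  have hj' : ((x' ^ 2)⁻¹) ^ 2 ^ j = 1 := by
    have := congrArg Subtype.val hj
    simpa [pow_two, mul_inv_rev] using this
  rw [inv_pow, inv_eq_one, ← pow_mul] at hj'
  have hd := Nat.dvd_gcd (orderOf_dvd_of_pow_eq_one hj') (orderOf_dvd_of_pow_eq_one hk')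
  rw [Nat.Coprime.gcd_eq_one (Nat.Coprime.pow_right k' (Nat.Coprime.mul_left
    ((Nat.coprime_primes Nat.prime_two Fact.out).mpr (Ne.symm hq))
    (Nat.Coprime.pow_left j ((Nat.coprime_primes Nat.prime_two Fact.out).mpr (Ne.symm hq)))))] at hd
  exact hx' (orderOf_eq_one_iff.mp (Nat.dvd_one.mp hd))

theorem sylow_two_normal_subgroup (h : ∀ P : Sylow 2 G, (P : Subgroup G).Normal) (H : Subgroup G) :
    ∀ P : Sylow 2 H, (P : Subgroup H).Normal := by
  intro P
  obtain ⟨Q, hQ⟩ := Sylow.exists_comap_subtype_eq P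
  rw [← hQ]
  exact (h Q).comap _

/-- Without inversions in the normalizers of `ZJ(T)` the Sylow `2`-subgroup is normal. -/
theorem normal_of_no_inversion (h : ∀ (q : ℕ) [Fact q.Prime], q ≠ 2 → ∀ T : Sylow q G, ∀ x ∈ (T : Subgroup G),
    x ≠ 1 → ∀ g ∈ normalizer (Cfsg.centerThompsonAOf (T : Subgroup G) : Set G), g * x * g⁻¹ ≠ x⁻¹)
    (P : Sylow 2 G) : (P : Subgroup G).Normal := by
  by_contra hP
  set O := Cfsg.pCore 2 G with hO
  obtain ⟨t, ht⟩ := exists_prime_orderOf_dvd_card' (G := G ⧸ O) 2 (by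
    obtain ⟨k, hk⟩ := IsPGroup.iff_card.mp (PLocal.Cores.isPGroup_pCore (G := G) (p := 2))
    by_contra hodd
    refine hP ?_
    have hpi : ¬ 2 ∣ O.index := hodd
    have hOP : O = (P : Subgroup G) := by
      refine (PLocal.Cores.isPGroup_pCore (G := G) (p := 2)).toSylow hpi |>.3 P.2 ?_ |>.symm
      exact PLocal.Cores.pCore_le_sylow P
    exact hOP ▸ inferInstance)
  obtain ⟨x, hx1, hodd, hinv⟩ := Involutions.BaerSuzuki.exists_inverted_odd t ht fun N hN hN2 htN => by
    haveI := hN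
    have h1 := PLocal.Cores.le_pCore hN2 htN
    rw [PLocal.Cores.pCore_quotient_pCore, mem_bot] at h1
    rw [h1, orderOf_one] at ht
    omega
  set q := (orderOf x).minFac
  haveI : Fact q.Prime := ⟨Nat.minFac_prime fun h => hx1 (orderOf_eq_one_iff.mp h)⟩
  have hqd : q ∣ orderOf x := Nat.minFac_dvd _
  have hq : q ≠ 2 := fun h2 => (Nat.not_even_iff_odd.mpr hodd) (even_iff_two_dvd.mpr (by rwa [h2] at hqd))
  have hy : orderOf (x ^ (orderOf x / q)) = q := orderOf_pow_orderOf_div (orderOf_pos x).ne' hqd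
  obtain ⟨T⟩ := (inferInstance : Nonempty (Sylow q G))
  obtain ⟨y, hyT, hy1, g, hg, he⟩ := CharP.InversionZJ.inverted_in_normalizer hq
    (CharP.InversionZJ.lift hq (QuotientGroup.mk'_surjective O) ⟨x ^ (orderOf x / q), mem_top _, t, mem_top _, fun h1 => (Fact.out : q.Prime).ne_one (by rw [← hy, h1, orderOf_one]),
      ⟨1, by rw [pow_one]; nth_rw 2 [← hy]; exact pow_orderOf_eq_one _⟩,
      by rw [← conj_pow, hinv, inv_pow]⟩) T
  exact h q hq T y hyT hy1 g hg he

end

/-- For a finite group G the following are equivalent: (a) G has a normal Sylow 2-subgroup; (b) for every odd prime q dividing the order of G and every Sylow q-subgroup T, the normalizer of Z(J(T)) has a normal Sylow 2-subgroup; (c) for every odd prime q and every Sylow q-subgroup T, no nonidentity element of T is inverted by an element of the normalizer of Z(J(T)). Here J(T) is the Thompson subgroup generated by the abelian subgroups of T of largest order. Stated as the two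 equivalences (a) ⇔ (b) and (a) ⇔ (c). -/
theorem result {G : Type*} [Group G] [Finite G] : ((∀ P : Sylow 2 G, (P : Subgroup G).Normal) ↔ ∀ (q : ℕ) [Fact q.Prime], q ≠ 2 → q ∣ Nat.card G → ∀ T : Sylow q G, ∀ P : Sylow 2 ↥(Subgroup.normalizer (Cfsg.centerThompsonAOf (T : Subgroup G) : Set G)), (P : Subgroup ↥(Subgroup.normalizer (Cfsg.centerThompsonAOf (T : Subgroup G) : Set G))).Normal) ∧ ((∀ P : Sylow 2 G, (P : Subgroup G).Normal) ↔ ∀ (q : ℕ) [Fact q.Prime], q ≠ 2 → ∀ T : Sylow q G, ∀ x ∈ (T : Subgroup G), x ≠ 1 → ∀ g ∈ Subgroup.normalizer (Cfsg.centerThompsonAOf (T : Subgroup G) : Set G), g * x * g⁻¹ ≠ x⁻¹) := by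
  refine ⟨⟨fun h q _ _ _ T => sylow_two_normal_subgroup h _, fun h => normal_of_no_inversion ?_⟩,
    ⟨fun h q _ hq T x hx hx1 g _ => ?_, normal_of_no_inversion⟩⟩
  · intro q _ hq T x hx hx1 g hg he
    obtain ⟨k, hk⟩ := T.2 ⟨x, hx⟩
    have hk' : x ^ q ^ k = 1 := congrArg Subtype.val hk
    have hdvd : q ∣ Nat.card G := by
      obtain ⟨j, -, hj⟩ := (Nat.dvd_prime_pow (Fact.out : q.Prime)).mp (orderOf_dvd_of_pow_eq_one hk')
      rcases j with _ | j
      · exact absurd (orderOf_eq_one_iff.mp (by simpa using hj)) hx1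
      · exact ((dvd_pow_self q j.succ_ne_zero).trans hj.symm.dvd).trans (orderOf_dvd_natCard x)
    have hxN : x ∈ normalizer (Cfsg.centerThompsonAOf (T : Subgroup G) : Set G) := by
      rw [PLocal.MaxAbelian.centerThompsonA_eq]
      exact PLocal.MaxAbelian.normalizer_le_normalizer_core 0 _ (le_normalizer hx)
    exact no_inversion (h q hq hdvd T) hq (x := ⟨x, hxN⟩) (k := k) (Subtype.ext hk')
      (fun e => hx1 (congrArg Subtype.val e)) ⟨g, hg⟩ (Subtype.ext he)
  · obtain ⟨k, hk⟩ := T.2 ⟨x, hx⟩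
    exact no_inversion h hq (k := k) (congrArg Subtype.val hk) hx1 g

end Cfsg.Agent.S2756
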