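import Cfsg.Statements.S3951
import Mathlib
import Cfsg.Agent.GenA.Schur.Twist
import Cfsg.Agent.GStructB.StemExt

set_option autoImplicit false
open Cfsg
open scoped commutatorElement

namespace Cfsg.Agent.S3951

/-- For positive integers `m` and `n` with `n` dividing `m`, the Schur multiplier of the abelian group `ZMod m × ZMod n` (written multiplicatively) is cyclic of order `n`. In particular the elementary abelian group of order `p ^ 2` has multiplier of order `p`. -/
theorem result (m n : ℕ) [NeZero m] [NeZero n] (hnm : n ∣ m) : Cfsg.HasCyclicSchurMultiplier (Multiplicative (ZMod m × ZMod n)) n := by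
  classical
  set c := ZMod.castHom hnm (ZMod n)
  let β : Multiplicative (ZMod m × ZMod n) →* Multiplicative (ZMod m × ZMod n) →* Multiplicative (ZMod n) := MonoidHom.mk' (fun x => MonoidHom.mk'
    (fun y => Multiplicative.ofAdd (c (Multiplicative.toAdd x).1 * (Multiplicative.toAdd y).2))
    fun y z => by simp [mul_add]) fun x y => MonoidHom.ext fun z => by simp [add_mul]
  refine ⟨⟨Cfsg.Agent.GenA.Schur.Twist β, inferInstance, inferInstance, Cfsg.Agent.GenA.Schur.Twist.proj β,
    ⟨Cfsg.Agent.GenA.Schur.Twist.proj_surjective β, Cfsg.Agent.GenA.Schur.Twist.ker_le_center β, ?_⟩, ?_⟩, ?_⟩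
  · rw [Cfsg.Agent.GenA.Schur.Twist.ker_eq]
    rintro _ ⟨t, rfl⟩
    set h : Multiplicative (ZMod m × ZMod n) := Multiplicative.ofAdd ((((Multiplicative.toAdd t).val : ℕ) : ZMod m), 0) with hh
    set k : Multiplicative (ZMod m × ZMod n) := Multiplicative.ofAdd (0, 1) with hk
    have h1 : β h k * (β k h)⁻¹ = t := by
      simp [β, hh, hk]
    rw [← h1, ← Cfsg.Agent.GenA.Schur.Twist.commutator_commute β (mul_comm h k) 1 1, commutator_def]
    exact Subgroup.commutator_mem_commutator (Subgroup.mem_top _) (Subgroup.mem_top _)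
  · exact ⟨(MulEquiv.subgroupCongr (Cfsg.Agent.GenA.Schur.Twist.ker_eq β)).trans
      (MonoidHom.ofInjective (Cfsg.Agent.GenA.Schur.Twist.incl_injective β)).symm⟩
  · intro Γ _ _ σ hσ
    obtain ⟨x, hx⟩ := hσ.1 (Multiplicative.ofAdd ((1 : ZMod m), (0 : ZMod n)))
    obtain ⟨y, hy⟩ := hσ.1 (Multiplicative.ofAdd ((0 : ZMod m), (1 : ZMod n)))
    have hgen : Subgroup.closure {x, y} ⊔ Subgroup.center Γ = ⊤ := by
      rw [eq_top_iff]
      intro g _
      obtain ⟨⟨a, b⟩, hab⟩ : ∃ ab : ZMod m × ZMod n, σ g = Multiplicative.ofAdd ab := ⟨Multiplicative.toAdd (σ g), (ofAdd_toAdd _).symm⟩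
      obtain ⟨u, hu, hu2⟩ : ∃ u ∈ Subgroup.closure ({x, y} : Set Γ), σ u = σ g := by
        refine ⟨x ^ a.val * y ^ b.val, Subgroup.mul_mem _ (Subgroup.pow_mem _ (Subgroup.subset_closure (Set.mem_insert x {y})) a.val)
          (Subgroup.pow_mem _ (Subgroup.subset_closure (Set.mem_insert_of_mem x (Set.mem_singleton y))) b.val), ?_⟩
        rw [map_mul, map_pow, map_pow, hx, hy, hab, ← ofAdd_nsmul, ← ofAdd_nsmul, ← ofAdd_add]
        refine congrArg Multiplicative.ofAdd (Prod.ext ?_ ?_) <;> simp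
      have h1 : u⁻¹ * g ∈ Subgroup.center Γ :=
        hσ.2.1 (MonoidHom.mem_ker.mpr (by rw [map_mul, map_inv, hu2, inv_mul_cancel]))
      have := Subgroup.mul_mem_sup hu h1
      rwa [mul_inv_cancel_left] at this
    set z := ⁅y, x⁆ with hz
    have hzk : z ∈ σ.ker := by
      rw [MonoidHom.mem_ker, map_commutatorElement, commutatorElement_eq_one_iff_mul_comm]
      exact mul_comm _ _
    have hconj : y * x * y⁻¹ = x ^ 1 * z := by
      rw [pow_one, Subgroup.mem_center_iff.mp (hσ.2.1 hzk) x, hz, commutatorElement_def, inv_mul_cancel_right]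
    have hle := hσ.2.2.trans (Cfsg.Agent.GStructB.StemExt.commutator_le_zpowers x y z hgen 1 (hσ.2.1 hzk) hconj)
    simp only [Nat.cast_one, sub_self, zpow_zero, one_mul] at hle
    have hzn : z ^ n = 1 := by
      have hyk : y ^ n ∈ σ.ker := by
        rw [MonoidHom.mem_ker, map_pow, hy]
        refine Multiplicative.toAdd.injective ?_
        refine Prod.ext ?_ ?_ <;> simp
      have hpow : ∀ i : ℕ, ⁅y ^ i, x⁆ = z ^ i := by
        intro i
        induction i with
        | zero => simp
        | succ i ih =>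
          rw [pow_succ, commutatorElement_mul_left_eq_conj_mul, ih, ← hz, Subgroup.mem_center_iff.mp (hσ.2.1 hzk) (y ^ i),
            mul_inv_cancel_right, pow_succ']
      rw [← hpow n, commutatorElement_eq_one_iff_mul_comm]
      exact (Subgroup.mem_center_iff.mp (hσ.2.1 hyk) x).symm
    refine ⟨AddMonoidHom.toMultiplicativeLeft (ZMod.lift n ⟨(zmultiplesHom (Additive σ.ker)) (Additive.ofMul ⟨z, hzk⟩), ?_⟩), fun w => ?_⟩
    · rw [zmultiplesHom_apply, natCast_zsmul, ← ofMul_pow]
      exact congrArg Additive.ofMul (Subtype.ext (by simpa using hzn))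
    · obtain ⟨i, hi⟩ := hle w.2
      refine ⟨Multiplicative.ofAdd ((i : ℤ) : ZMod n), Subtype.ext ?_⟩
      show ((Additive.toMul (ZMod.lift n ⟨zmultiplesHom (Additive σ.ker) (Additive.ofMul ⟨z, hzk⟩), _⟩ ((i : ℤ) : ZMod n)) : σ.ker) : Γ) = w
      rw [ZMod.lift_coe]
      exact hi

end Cfsg.Agent.S3951
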