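import Cfsg.Statements.S3965
import Cfsg.Agent.GStructB.DihedralStem
import Cfsg.Agent.S3966

set_option autoImplicit false
open Cfsg

namespace Cfsg.Agent.S3965

/-- For even `n ≥ 2` the dihedral group of order `2 n` has Schur multiplier cyclic of order `2`. -/
theorem result (n : ℕ) [NeZero n] (hn : Even n) : Cfsg.HasCyclicSchurMultiplier (DihedralGroup n) 2 := by
  obtain ⟨σ, hσ, hcard⟩ := S3966.result n hn
  have hd2 : Nat.gcd n 2 = 2 := Nat.gcd_eq_right hn.two_dvd
  refine ⟨⟨QuaternionGroup n, inferInstance, inferInstance, σ, hσ, ?_⟩, fun Γ _ _ τ hτ => ?_⟩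
  · have : Fact (Nat.Prime 2) := ⟨Nat.prime_two⟩
    have := isCyclic_of_prime_card hcard
    exact ⟨mulEquivOfCyclicCardEq (by rw [hcard]; simp [Nat.card_zmod])⟩
  · obtain ⟨d, hle, hd⟩ := GStructB.DihedralStem.bound_aux n τ hτ
    exact GStructB.StemExt.exists_surjective_hom τ.ker d hle (by
      rw [hd2] at hd
      simpa [Nat.card_zmod] using hd)

end Cfsg.Agent.S3965
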