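import Cfsg.Statements.S2118
import Cfsg.Agent.SimpleFacts.AltMult.Main
import Cfsg.Agent.Lib.Classical.SL2Rep
import Cfsg.Agent.Lib.Classical.Linear
import Cfsg.Agent.S0254

set_option autoImplicit false
open Cfsg

namespace Cfsg.Agent.S2118

open scoped commutatorElement

/-- For the field with 9 elements, the special linear group SL₂ has Schur multiplier cyclic of order 3 (here the Schur multiplier is described through stem extensions, as in the definitions). -/
theorem result {F : Type*} [Field F] [Fintype F] (hF : Fintype.card F = 9) : Cfsg.HasCyclicSchurMultiplier (Matrix.SpecialLinearGroup (Fin 2) F) 3 := by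
  classical
  obtain ⟨e⟩ := Cfsg.Agent.S0254.result hF
  let θ : Matrix.SpecialLinearGroup (Fin 2) F →* alternatingGroup (Fin 6) :=
    e.toMonoidHom.comp (QuotientGroup.mk' (Subgroup.center (Matrix.SpecialLinearGroup (Fin 2) F)))
  have hθker : θ.ker = Subgroup.center (Matrix.SpecialLinearGroup (Fin 2) F) := by
    ext x
    rw [MonoidHom.mem_ker]
    exact (map_eq_one_iff e e.injective).trans (QuotientGroup.eq_one_iff x)
  have hperf : commutator (Matrix.SpecialLinearGroup (Fin 2) F) = ⊤ :=
    Classical.SL2Rep.commutator_two_eq_top (by rw [hF]; norm_num)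
  have hθ : Cfsg.IsStemExtension θ :=
    ⟨e.surjective.comp (QuotientGroup.mk'_surjective _), hθker.le, hperf ▸ le_top⟩
  have hθ2 : Nat.card θ.ker = 2 := by
    rw [hθker, Classical.Linear.natCard_center_SL, hF, Fintype.card_fin]
    rfl
  refine ⟨?_, fun Δ _ _ τ hτ => ?_⟩
  · obtain ⟨B, _, _, q, hq, hqc, hq3⟩ := SimpleFacts.AltMult.Main.triple 6 (Or.inl rfl)
    haveI : Fact (Nat.Prime 2) := ⟨Nat.prime_two⟩
    haveI : IsCyclic θ.ker := isCyclic_of_prime_card hθ2
    obtain ⟨Γ, _, _, π, -, -, -, hπ, hc, hcard⟩ :=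
      SimpleFacts.AltMult.Tools.fibre θ q hθ hq (by rw [hθ2, hq3]; decide)
    rw [hq3] at hcard
    exact ⟨Γ, inferInstance, inferInstance, π, hπ,
      ⟨by rw [← hcard]; exact (zmodCyclicMulEquiv (G := π.ker) inferInstance).symm⟩⟩
  · obtain ⟨hs, hc, hd⟩ := hτ
    -- the extension is perfect
    have hΔ : commutator Δ = ⊤ := by
      rw [eq_top_iff]
      intro x _
      obtain ⟨y, hy, hyx⟩ := (show τ x ∈ (commutator Δ).map τ by
        rw [_root_.commutator_def, Subgroup.map_commutator, Subgroup.map_top_of_surjective _ hs,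
          ← _root_.commutator_def, hperf]
        trivial)
      have : y⁻¹ * x ∈ commutator Δ := hd (by rw [MonoidHom.mem_ker, map_mul, map_inv, hyx, inv_mul_cancel])
      simpa using mul_mem hy this
    have hcomp : Cfsg.IsStemExtension (θ.comp τ) := by
      refine ⟨hθ.1.comp hs, fun x hx => ?_, hΔ ▸ le_top⟩
      have hxc : τ x ∈ Subgroup.center (Matrix.SpecialLinearGroup (Fin 2) F) := hθker ▸ hx
      have hcom : ∀ y, y * x * y⁻¹ * x⁻¹ ∈ τ.ker := fun y => by
        rw [MonoidHom.mem_ker, map_mul, map_mul, map_mul, map_inv, map_inv,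
          Subgroup.mem_center_iff.1 hxc (τ y), mul_inv_cancel_right, mul_inv_cancel]
      let f : Δ →* Δ :=
        { toFun := fun y => y * x * y⁻¹ * x⁻¹
          map_one' := by group
          map_mul' := fun y z => by
            have h := Subgroup.mem_center_iff.1 (hc (hcom z))
            calc y * z * x * (y * z)⁻¹ * x⁻¹ = y * (z * x * z⁻¹ * x⁻¹) * (x * y⁻¹ * x⁻¹) := by group
              _ = (z * x * z⁻¹ * x⁻¹) * y * (x * y⁻¹ * x⁻¹) := by rw [h y]
              _ = (z * x * z⁻¹ * x⁻¹) * (y * x * y⁻¹ * x⁻¹) := by group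
              _ = y * x * y⁻¹ * x⁻¹ * (z * x * z⁻¹ * x⁻¹) := (h _).symm }
      have hle : commutator Δ ≤ f.ker := by
        rw [_root_.commutator_def, Subgroup.commutator_le]
        intro a _ b _
        rw [MonoidHom.mem_ker, commutatorElement_def, map_mul, map_mul, map_mul, map_inv, map_inv,
          Subgroup.mem_center_iff.1 (hc (hcom b) : f b ∈ Subgroup.center Δ) (f a), mul_inv_cancel_right,
          mul_inv_cancel]
      rw [Subgroup.mem_center_iff]
      intro y
      have hy : y * x * y⁻¹ * x⁻¹ = 1 := (hle (hΔ ▸ Subgroup.mem_top y) : f y = 1)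
      calc y * x = (y * x * y⁻¹ * x⁻¹) * (x * y) := by group
        _ = x * y := by rw [hy, one_mul]
    have h6 := SimpleFacts.AltMult.Main.ker_dvd_six 6 (Or.inl rfl) (θ.comp τ) hcomp
    have hrel : Nat.card (θ.comp τ).ker = Nat.card τ.ker * 2 := by
      have h1 := (θ.comp τ).ker.card_mul_index
      have h2 := τ.ker.card_mul_index
      have h3 := θ.ker.card_mul_index
      rw [Subgroup.index_ker, MonoidHom.range_eq_top.2 hcomp.1, Subgroup.card_top] at h1
      rw [Subgroup.index_ker, MonoidHom.range_eq_top.2 hs, Subgroup.card_top] at h2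
      rw [Subgroup.index_ker, MonoidHom.range_eq_top.2 hθ.1, Subgroup.card_top, hθ2] at h3
      have hpos : 0 < Nat.card (alternatingGroup (Fin 6)) := Nat.card_pos
      apply Nat.eq_of_mul_eq_mul_right hpos
      rw [h1, mul_assoc, h3, h2]
    rw [hrel] at h6
    have h : Nat.card τ.ker ∣ 3 :=
      Nat.dvd_of_mul_dvd_mul_right (by norm_num) (show Nat.card τ.ker * 2 ∣ 3 * 2 from h6)
    haveI := SimpleFacts.AltMult.Main.cyclic_of_squarefree τ.ker hc
      (Nat.prime_three.squarefree.squarefree_of_dvd h)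
    exact SimpleFacts.AltMult.Main.exists_surj h

end Cfsg.Agent.S2118
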