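import Cfsg.Statements.S2550
import Cfsg.Agent.S0256
import Cfsg.Agent.S0839
import Cfsg.Agent.Lib.Classical.Linear

set_option autoImplicit false
open Cfsg
open Matrix

namespace Cfsg.Agent.S2550

variable {K : Type*} [Field K]

/-- The standard transvection. -/
def T0 : Matrix (Fin 3) (Fin 3) K := 1 + vecMulVec (Pi.single 1 1) (Pi.single 0 1)

theorem exists_norm (v : Fin 3 → K) (hv : v ≠ 0) (h0 : v 0 = 0) :
    ∃ G : Matrix.SpecialLinearGroup (Fin 3) K,
      (G : Matrix (Fin 3) (Fin 3) K) * T0 =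
        (1 + vecMulVec v (Pi.single 0 1)) * (G : Matrix (Fin 3) (Fin 3) K) := by
  obtain ⟨c, d, hcd⟩ : ∃ c d : K, v 1 * d - c * v 2 = 1 := by
    by_cases h : v 1 = 0
    · have h2 : v 2 ≠ 0 := fun h2 => hv (funext fun i => by fin_cases i <;> assumption)
      exact ⟨-(v 2)⁻¹, 0, by field_simp; ring⟩
    · exact ⟨0, (v 1)⁻¹, by field_simp; ring⟩
  refine ⟨⟨!![1, 0, 0; 0, v 1, c; 0, v 2, d], ?_⟩, ?_⟩
  · rw [Matrix.det_fin_three]
    simp
    linear_combination hcd
  · show (!![1, 0, 0; 0, v 1, c; 0, v 2, d] : Matrix (Fin 3) (Fin 3) K) * T0 =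
      (1 + vecMulVec v (Pi.single 0 1)) * !![1, 0, 0; 0, v 1, c; 0, v 2, d]
    rw [T0, mul_add, mul_one, add_mul, one_mul, mul_vecMulVec, vecMulVec_mul]
    congr 1
    ext i j
    fin_cases i <;> fin_cases j <;> simp [vecMulVec_apply, vecMul, mulVec, dotProduct, Fin.sum_univ_three, h0]

theorem alt_pair : ∃ x y : alternatingGroup (Fin 8), x * x = 1 ∧
    y * y = 1 ∧ x ≠ 1 ∧ y ≠ 1 ∧ (x : Equiv.Perm (Fin 8)).support.card
      ≠ (y : Equiv.Perm (Fin 8)).support.card :=
  ⟨⟨Equiv.swap 0 1 * Equiv.swap 2 3, Equiv.Perm.mem_alternatingGroup.2 (by decide +kernel)⟩,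
    ⟨Equiv.swap 0 1 * Equiv.swap 2 3 * (Equiv.swap 4 5 * Equiv.swap 6 7), Equiv.Perm.mem_alternatingGroup.2 (by decide +kernel)⟩,
    by decide +kernel, by decide +kernel, by decide +kernel, by decide +kernel, by decide +kernel⟩

theorem isConj_involutions [Fintype K] (hK : Fintype.card K = 4)
    (x y : Matrix.ProjectiveSpecialLinearGroup (Fin 3) K) (hx : orderOf x = 2) (hy : orderOf y = 2) :
    IsConj x y := by
  have : CharP K 2 := charP_of_card_eq_prime_pow (f := 2) (p := 2) (by simpa using hK)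
  have key : ∀ z : Matrix.ProjectiveSpecialLinearGroup (Fin 3) K, orderOf z = 2 →
      ∃ t g : Matrix.SpecialLinearGroup (Fin 3) K, QuotientGroup.mk t = z ∧
        ((g⁻¹ * t * g : Matrix.SpecialLinearGroup (Fin 3) K) : Matrix (Fin 3) (Fin 3) K) = T0 := by
    intro z hz
    obtain ⟨t₀, rfl⟩ := QuotientGroup.mk_surjective z
    have hz2 : (QuotientGroup.mk (t₀ * t₀) : Matrix.ProjectiveSpecialLinearGroup (Fin 3) K) = 1 := by
      rw [QuotientGroup.mk_mul, ← pow_two]
      exact hz ▸ pow_orderOf_eq_one _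
    rw [QuotientGroup.eq_one_iff] at hz2
    have h6 : (t₀ * t₀) ^ 3 = 1 := by
      obtain ⟨r, hr, hre⟩ := Matrix.SpecialLinearGroup.mem_center_iff.1 hz2
      apply Subtype.ext
      rw [Matrix.SpecialLinearGroup.coe_pow, ← hre, ← map_pow]
      rw [Fintype.card_fin] at hr
      rw [hr, map_one]
      rfl
    set t := t₀ * (t₀ * t₀) with ht
    have htq : (QuotientGroup.mk t : Matrix.ProjectiveSpecialLinearGroup (Fin 3) K)
        = QuotientGroup.mk t₀ := by
      rw [ht, QuotientGroup.mk_mul, (QuotientGroup.eq_one_iff _).2 hz2, mul_one]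
    have htt : t * t = 1 := by rw [← h6, ht, pow_three]; simp only [mul_assoc]
    have ht1 : t ≠ 1 := fun h => by
      rw [h, QuotientGroup.mk_one] at htq
      rw [← htq, orderOf_one] at hz
      omega
    set N := (t : Matrix (Fin 3) (Fin 3) K) - 1 with hN
    have hN2 : N * N = 0 := by
      have h' : (t : Matrix (Fin 3) (Fin 3) K) * (t : Matrix (Fin 3) (Fin 3) K) = 1 :=
        congrArg Subtype.val htt
      have h2 : (2 : K) = 0 := CharTwo.two_eq_zero
      rw [hN, sub_mul, mul_sub, h', mul_one, one_mul]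
      have : ∀ M : Matrix (Fin 3) (Fin 3) K, M + M = 0 := fun M => by
        rw [← two_smul K M, h2, zero_smul]
      have e : (1 : Matrix (Fin 3) (Fin 3) K) - (t : Matrix (Fin 3) (Fin 3) K) -
          ((t : Matrix (Fin 3) (Fin 3) K) - 1) =
          (1 + 1) - ((t : Matrix (Fin 3) (Fin 3) K) + (t : Matrix (Fin 3) (Fin 3) K)) := by abel
      rw [e, this, this, sub_zero]
    have hrk : N.rank = 1 := by
      have h0 : N.rank ≠ 0 := fun h => by
        apply ht1
        rw [Matrix.rank, Submodule.finrank_eq_zero, LinearMap.range_eq_bot] at h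
        have hN0 : N = 0 := Matrix.ext_iff_mulVec.2 fun v => by
          rw [Matrix.zero_mulVec]; exact LinearMap.congr_fun h v
        exact Subtype.ext (sub_eq_zero.1 hN0)
      have h2 : 2 * N.rank ≤ 3 := by
        have h := LinearMap.finrank_range_add_finrank_ker N.mulVecLin
        rw [Module.finrank_pi, Fintype.card_fin] at h
        have hle : LinearMap.range N.mulVecLin ≤ LinearMap.ker N.mulVecLin := by
          rintro _ ⟨w, rfl⟩
          rw [LinearMap.mem_ker, Matrix.mulVecLin_apply, Matrix.mulVecLin_apply, mulVec_mulVec, hN2,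
            Matrix.zero_mulVec]
        have := Submodule.finrank_mono hle
        rw [Matrix.rank]
        omega
      omega
    obtain ⟨g, v, hv0, hgv⟩ := Cfsg.Agent.S0839.result 1 t ⟨hrk, hN2⟩
    have hv : v ≠ 0 := fun h => ht1 (by
      have h1 : g⁻¹ * t * g = 1 := Subtype.ext (by rw [hgv, h]; simp)
      calc t = g * (g⁻¹ * t * g) * g⁻¹ := by simp [mul_assoc]
        _ = 1 := by rw [h1, mul_one, mul_inv_cancel])
    obtain ⟨G, hG⟩ := exists_norm v hv hv0
    refine ⟨t, g * G, htq, ?_⟩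
    have e : (g * G)⁻¹ * t * (g * G) = G⁻¹ * (g⁻¹ * t * g) * G := by
      simp [_root_.mul_inv_rev, mul_assoc]
    rw [e, Matrix.SpecialLinearGroup.coe_mul, Matrix.SpecialLinearGroup.coe_mul, hgv, mul_assoc,
      ← hG, ← mul_assoc, ← Matrix.SpecialLinearGroup.coe_mul, inv_mul_cancel,
      Matrix.SpecialLinearGroup.coe_one, one_mul]
  obtain ⟨t, g, rfl, htg⟩ := key x hx
  obtain ⟨t', g', rfl, htg'⟩ := key y hy
  have h : g⁻¹ * t * g = g'⁻¹ * t' * g' := Subtype.ext (htg.trans htg'.symm)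
  exact (QuotientGroup.mk' _).map_isConj (isConj_iff.2 ⟨g' * g⁻¹, by
    rw [show g' * g⁻¹ * t * (g' * g⁻¹)⁻¹ = g' * (g⁻¹ * t * g) * g'⁻¹ by
      simp [_root_.mul_inv_rev, mul_assoc], h]
    simp [mul_assoc]⟩)


/-- Let F be a field with 2 elements and K a field with 4 elements. PSL_4(F) and PSL_3(K) have the same order (20160) but are not isomorphic. -/
theorem result {F K : Type*} [Field F] [Fintype F] [Field K] [Fintype K] (hF : Fintype.card F = 2) (hK : Fintype.card K = 4) : Nat.card (Matrix.ProjectiveSpecialLinearGroup (Fin 4) F) = Nat.card (Matrix.ProjectiveSpecialLinearGroup (Fin 3) K) ∧ ¬ Nonempty (Matrix.ProjectiveSpecialLinearGroup (Fin 4) F ≃* Matrix.ProjectiveSpecialLinearGroup (Fin 3) K) := by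
  classical
  obtain ⟨e⟩ := Cfsg.Agent.S0256.result hF
  refine ⟨?_, ?_⟩
  · rw [Nat.card_congr e.toEquiv, nat_card_alternatingGroup]
    have hGL : Nat.card (GL (Fin 3) K) = 181440 := by
      rw [Matrix.card_GL_field, hK]
      decide
    have hSL := Classical.Linear.natCard_GL_eq_mul (F := K) (n := Fin 3)
    rw [hGL, hK] at hSL
    have hP := Classical.Linear.natCard_PSL_mul_center (F := K) (n := Fin 3)
    rw [Classical.Linear.natCard_center_SL, hK, Fintype.card_fin] at hP
    norm_num [Nat.factorial] at hSL hP ⊢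
    omega
  · rintro ⟨f⟩
    obtain ⟨x, y, hx2, hy2, hx1, hy1, hxy⟩ := alt_pair
    have ho : ∀ z : alternatingGroup (Fin 8), z * z = 1 → z ≠ 1 →
        orderOf ((e.symm.trans f) z) = 2 := fun z h h1 => by
      rw [MulEquiv.orderOf_eq]
      exact orderOf_eq_prime (by rw [pow_two, h]) h1
    have h := isConj_involutions hK _ _ (ho x hx2 hx1) (ho y hy2 hy1)
    have h2 := (e.symm.trans f).symm.toMonoidHom.map_isConj h
    simp only [MulEquiv.coe_toMonoidHom, MulEquiv.symm_apply_apply] at h2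
    have h3 := (alternatingGroup (Fin 8)).subtype.map_isConj h2
    exact hxy (Equiv.Perm.isConj_iff_cycleType_eq.1 h3 |> fun hc => by
      rw [← Equiv.Perm.sum_cycleType, ← Equiv.Perm.sum_cycleType, Subgroup.coe_subtype] at *
      rw [hc])

end Cfsg.Agent.S2550
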