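import Cfsg.Statements.S4483
import Cfsg.Agent.BlockCharsA.RealBlock
import Cfsg.Agent.BlockCharsA.Contrib
import Cfsg.Agent.Lib.FrobeniusSchur.Basic

set_option autoImplicit false
open Cfsg Cfsg.Agent.Blocks Cfsg.Agent.Characters Cfsg.Agent.BlockCharsA
open scoped ComplexConjugate

namespace Cfsg.Agent.S4483

/-- Let G be a finite group of order 2^n·g₀ with g₀ odd, and M a maximal ideal of the algebraic integers containing 2. Every real-valued irreducible character of G of odd degree lies in the principal 2-block; consequently G has at most 2^(2n) real-valued irreducible characters of odd degree. -/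
theorem result {G : Type*} [Group G] [Finite G] (M : Ideal Cfsg.AlgInt) (hM : Cfsg.IsPModular 2 M) : (∀ χ : Cfsg.IrrCharacter G, (∀ g : G, ((χ : G → ℂ) g).im = 0) → Odd (Cfsg.charDegree (χ : G → ℂ)) → χ ∈ Cfsg.principalBlock M G) ∧ Nat.card {χ : Cfsg.IrrCharacter G // (∀ g : G, ((χ : G → ℂ) g).im = 0) ∧ Odd (Cfsg.charDegree (χ : G → ℂ))} ≤ 2 ^ (2 * (Nat.card G).factorization 2) := by
  classical
  haveI := Fintype.ofFinite G
  haveI := Fintype.ofFinite (Cfsg.IrrCharacter G)
  have h1 : ∀ χ : Cfsg.IrrCharacter G, (∀ g : G, ((χ : G → ℂ) g).im = 0) →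
      Odd (Cfsg.charDegree (χ : G → ℂ)) → χ ∈ Cfsg.principalBlock M G := by
    intro χ him hodd
    have hinv : ∀ g : G, (χ : G → ℂ) g⁻¹ = (χ : G → ℂ) g := fun g => by
      rw [char_inv (irr_isCharacter χ)]; exact Complex.conj_eq_iff_im.2 (him g)
    have hmaps : ∀ ψ ∈ Cfsg.blockOf M (χ : G → ℂ),
        FrobeniusSchur.conjIrr ψ ∈ Cfsg.blockOf M (χ : G → ℂ) := fun ψ hψ g => by
      rw [RealBlock.centralChar_inv_eq (ψ : G → ℂ) _ g
        (show (FrobeniusSchur.conjIrr ψ : G → ℂ) g = _ from (char_inv (irr_isCharacter ψ) g).symm)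
        (by simp [← charDegree_cast]),
        RealBlock.centralChar_inv_eq (χ : G → ℂ) (χ : G → ℂ) g (hinv g).symm rfl]
      exact hψ g⁻¹
    rw [← RealBlock.eq_principal hM (isPBlock_blockOf M χ) (fun g _ => ?_) (mem_blockOf_self hM χ)
      (fun h => Nat.not_even_iff_odd.2 hodd (even_iff_two_dvd.2 h))
      fun g _ => cong_of_eq hM ?_]
    · exact mem_blockOf_self hM χ
    · refine RealBlock.coeff_inv _ FrobeniusSchur.conjIrr (fun a _ b _ e => Subtype.ext
        (funext fun x => (starRingEnd ℂ).injective (congrFun (congrArg Subtype.val e) x))) hmaps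
        (fun ψ _ => (char_inv (irr_isCharacter ψ) g).symm) fun ψ _ => ?_
      simp [← charDegree_cast]
    · exact (RealBlock.centralChar_inv_eq (χ : G → ℂ) (χ : G → ℂ) g (hinv g).symm rfl).symm
  refine ⟨h1, ?_⟩
  have hB := isPBlock_principal M G
  have hk := Contrib.sum_heights_le hM hB
  have hle : Nat.card (Cfsg.principalBlock M G) ≤
      ∑ᶠ χ ∈ Cfsg.principalBlock M G, 2 ^ (2 * Cfsg.blockHeight 2 (Cfsg.principalBlock M G) (χ : G → ℂ)) := by
    rw [ZStar.Principal.finsum_mem_eq_sum_filter, Nat.card_eq_fintype_card, ← Set.toFinset_card,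
      Finset.card_eq_sum_ones]
    exact le_trans (le_of_eq (Finset.sum_congr (by ext; simp) fun _ _ => rfl))
      (Finset.sum_le_sum fun χ _ => Nat.one_le_two_pow)
  have hd := Nat.pow_le_pow_right (show 1 ≤ 2 by norm_num)
    (Nat.mul_le_mul_left 2 (blockDefect_le 2 (Cfsg.principalBlock M G)))
  have hp : 1 ≤ 2 ^ (2 * (Nat.card G).factorization 2) := Nat.one_le_two_pow
  have hinj : Nat.card {χ : Cfsg.IrrCharacter G //
      (∀ g : G, ((χ : G → ℂ) g).im = 0) ∧ Odd (Cfsg.charDegree (χ : G → ℂ))} ≤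
      Nat.card (Cfsg.principalBlock M G) :=
    Nat.card_le_card_of_injective (fun χ => (⟨χ.1, h1 χ.1 χ.2.1 χ.2.2⟩ : Cfsg.principalBlock M G))
      fun a b e => Subtype.ext (congrArg (fun z => (z : Cfsg.principalBlock M G).1) e)
  omega

end Cfsg.Agent.S4483
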