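import Cfsg.Statements.S0268
import Cfsg.Agent.Lib.Classical.GL2

set_option autoImplicit false
open Cfsg

namespace Cfsg.Agent.S0268

/-- For q odd, -1 is the unique involution of SL_2(q). -/
theorem result {F : Type*} [Field F] [Fintype F] (hF : Odd (Fintype.card F)) (g : Matrix.SpecialLinearGroup (Fin 2) F) (h1 : g ≠ 1) (h2 : g * g = 1) : (g : Matrix (Fin 2) (Fin 2) F) = -1 := by
  have hd := Matrix.SpecialLinearGroup.det_coe g
  rw [Matrix.det_fin_two] at hd
  have hm : (g : Matrix (Fin 2) (Fin 2) F) * (g : Matrix (Fin 2) (Fin 2) F) = 1 := by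
    rw [← Matrix.SpecialLinearGroup.coe_mul, h2, Matrix.SpecialLinearGroup.coe_one]
  have h00 := congrFun (congrFun hm 0) 0
  have h01 := congrFun (congrFun hm 0) 1
  have h10 := congrFun (congrFun hm 1) 0
  have h11 := congrFun (congrFun hm 1) 1
  simp [Matrix.mul_apply, Fin.sum_univ_two] at h00 h01 h10 h11
  have hne : g.1 ≠ 1 := fun h => h1 (Subtype.ext h)
  have h2F : (2 : F) ≠ 0 := by
    refine Ring.two_ne_zero ?_
    intro hc
    have := FiniteField.even_card_iff_char_two.1 hc
    rw [Nat.odd_iff] at hF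
    omega
  set M : Matrix (Fin 2) (Fin 2) F := (g : Matrix (Fin 2) (Fin 2) F) with hM
  have ht : M 0 0 + M 1 1 ≠ 0 := by
    intro ht
    have : (2 : F) = 0 := by linear_combination (-1 : F) * h00 - hd + (M 0 0) * ht
    exact h2F this
  have hb : M 0 1 = 0 :=
    (mul_eq_zero.1 (by linear_combination h01 : M 0 1 * (M 0 0 + M 1 1) = 0)).resolve_right ht
  have hc : M 1 0 = 0 :=
    (mul_eq_zero.1 (by linear_combination h10 : M 1 0 * (M 0 0 + M 1 1) = 0)).resolve_right ht
  have had : M 0 0 = M 1 1 := by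
    have : (M 0 0 - M 1 1) * (M 0 0 + M 1 1) = 0 := by linear_combination h00 - h11
    exact sub_eq_zero.1 ((mul_eq_zero.1 this).resolve_right ht)
  rcases mul_self_eq_one_iff.1 (by linear_combination h00 - M 1 0 * hb : M 0 0 * M 0 0 = 1) with h | h
  · exfalso
    refine hne ?_
    ext i j
    fin_cases i <;> fin_cases j <;> simp [← hM, hb, hc, h, ← had]
  · ext i j
    fin_cases i <;> fin_cases j <;> simp [hb, hc, h, ← had]

end Cfsg.Agent.S0268
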