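import Cfsg.Statements.S3178
import Mathlib
import Cfsg.Agent.Lib.Transfer.Frobenius

set_option linter.all false

set_option autoImplicit false
open Cfsg

namespace Cfsg.Agent.S3178

structure Mod {G : Type*} [Group G] (S : Subgroup G) (z b : G) : Prop where
  zb : z * z = 1 ∧ b * b = 1
  cz : ∀ u ∈ S, u * z = z * u
  bS : b ∈ S
  zS : z ∈ S
  zne : z ≠ 1
  comm : ∀ u ∈ S, ∀ v ∈ S, u * v = v * u ∨ u * v = z * (v * u)
  small : ∀ u ∈ S, ∀ v ∈ S, (u * u) * (u * u) = 1 → (v * v) * (v * v) = 1 → u * v = v * u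
  four : ∀ u ∈ S, u * u = 1 → u = 1 ∨ u = z ∨ u = b ∨ u = z * b
  sq : ∀ u ∈ S, (u * u) * (u * u) = 1 → u * u = 1 ∨ u * u = z

theorem pow_mem_of_odd {G : Type*} [Group G] [Finite G] (H : Subgroup G) {g : G} (hg : (orderOf g).Coprime 2) (k : ℕ)
    (h : g ^ (2 ^ k) ∈ H) : g ∈ H := by
  obtain ⟨j, hj⟩ := exists_pow_eq_self_of_coprime (n := 2 ^ k) (x := g) (hg.symm.pow_left k)
  rw [← hj]; exact pow_mem h j

theorem fix_of_four {G : Type*} [Group G] [Finite G] {S : Subgroup G} {z b : G} (h : Mod S z b)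
    (hS : IsPGroup 2 S) {Q : Subgroup G} (hQ : Q ≤ S) {g : G} (hg : g ∈ Subgroup.normalizer (Q : Set G))
    (ho : (orderOf g).Coprime 2) (hfix : ∀ u ∈ Q, u * u = 1 → g * u * g⁻¹ = u) :
    ∀ u ∈ Q, g * u * g⁻¹ = u := by
  suffices H : ∀ n : ℕ, ∀ u ∈ Q, orderOf u = n → g * u * g⁻¹ = u by exact fun u hu => H _ u hu rfl
  intro n
  induction n using Nat.strong_induction_on with
  | _ n ih =>
  intro u hu hn
  by_cases hu2 : u * u = 1
  · exact hfix u hu hu2
  haveI : Fact (Nat.Prime 2) := ⟨Nat.prime_two⟩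
  obtain ⟨k, hk⟩ := IsPGroup.iff_orderOf.1 hS ⟨u, hQ hu⟩
  rw [← Subgroup.orderOf_coe] at hk
  simp only at hk
  have hk2 : 2 ≤ k := by
    by_contra hc
    apply hu2
    have h1 : orderOf u ∣ 2 := by rw [hk]; interval_cases k <;> norm_num
    rw [← pow_two]; exact orderOf_dvd_iff_pow_eq_one.1 h1
  have hsq : g * (u * u) * g⁻¹ = u * u := by
    refine ih (orderOf (u * u)) ?_ _ (Q.mul_mem hu hu) rfl
    rw [← hn, ← pow_two, orderOf_pow, hk, show Nat.gcd (2 ^ k) 2 = 2 from
      Nat.gcd_eq_right (dvd_pow_self 2 (by omega))]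
    exact Nat.div_lt_self (by positivity) (by norm_num)
  set u' := g * u * g⁻¹ with hu'
  have hu'Q : u' ∈ Q := (Subgroup.mem_normalizer_iff.1 hg u).1 hu
  set d := u⁻¹ * u' with hd
  have hdQ : d ∈ Q := Q.mul_mem (Q.inv_mem hu) hu'Q
  have hu'2 : u' * u' = u * u := by rw [hu', ← hsq]; group
  have hd2 : d * d = 1 ∨ d * d = z := by
    rcases h.comm u' (hQ hu'Q) u⁻¹ (S.inv_mem (hQ hu)) with e | e
    · left
      calc d * d = u⁻¹ * (u' * u⁻¹) * u' := by rw [hd]; group
        _ = (u * u)⁻¹ * (u' * u') := by rw [e]; group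
        _ = 1 := by rw [hu'2, inv_mul_cancel]
    · right
      calc d * d = u⁻¹ * (u' * u⁻¹) * u' := by rw [hd]; group
        _ = (u⁻¹ * z) * (u⁻¹ * (u' * u')) := by rw [e]; group
        _ = z := by rw [h.cz u⁻¹ (S.inv_mem (hQ hu)), hu'2]; group
  have hdord : orderOf d < n := by
    rcases hd2 with hd2 | hd2
    · have h1 := Nat.le_of_dvd two_pos (orderOf_dvd_of_pow_eq_one (show d ^ 2 = 1 by rw [pow_two, hd2]))
      have : 2 ^ 2 ≤ 2 ^ k := Nat.pow_le_pow_right two_pos hk2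
      omega
    · have hd4 : d ^ 4 = 1 := by
        rw [show (4 : ℕ) = 2 * 2 from rfl, pow_mul, pow_two d, hd2, pow_two, h.zb.1]
      have h1 := Nat.le_of_dvd (by norm_num) (orderOf_dvd_of_pow_eq_one hd4)
      by_contra hle
      rcases Nat.lt_or_ge 2 k with hk3 | hk3
      · have : 2 ^ 3 ≤ 2 ^ k := Nat.pow_le_pow_right two_pos hk3
        omega
      · have hk' : k = 2 := by omega
        have h4 : (u * u) * (u * u) = 1 := by
          rw [← pow_two, ← pow_two, ← pow_mul, show 2 * 2 = 2 ^ k by rw [hk']; rfl, ← hk, pow_orderOf_eq_one]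
        have e := h.small u' (hQ hu'Q) u⁻¹ (S.inv_mem (hQ hu)) (by rw [hu'2]; exact h4)
          (by rw [← mul_inv_rev, ← mul_inv_rev, h4, inv_one])
        apply h.zne
        rw [← hd2]
        calc d * d = u⁻¹ * (u' * u⁻¹) * u' := by rw [hd]; group
          _ = (u * u)⁻¹ * (u' * u') := by rw [e]; group
          _ = 1 := by rw [hu'2, inv_mul_cancel]
  have hdf := ih _ hdord d hdQ rfl
  have hpow : ∀ j : ℕ, g ^ j * u * (g ^ j)⁻¹ = u * d ^ j := by
    intro j
    induction j with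
    | zero => simp
    | succ j ihj =>
      calc g ^ (j + 1) * u * (g ^ (j + 1))⁻¹ = g * (g ^ j * u * (g ^ j)⁻¹) * g⁻¹ := by rw [pow_succ']; group
        _ = (g * u * g⁻¹) * (g * d * g⁻¹) ^ j := by rw [ihj, conj_pow]; group
        _ = u * d * d ^ j := by rw [hdf, hd, mul_inv_cancel_left]
        _ = u * d ^ (j + 1) := by rw [pow_succ', mul_assoc]
  have h1 : d ^ orderOf g = 1 := by
    have := hpow (orderOf g)
    rw [pow_orderOf_eq_one] at this
    simpa using this.symm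
  obtain ⟨l, hl⟩ := IsPGroup.iff_orderOf.1 hS ⟨d, hQ hdQ⟩
  rw [← Subgroup.orderOf_coe] at hl
  simp only at hl
  have h2 : orderOf d = 1 := Nat.eq_one_of_dvd_coprimes (ho.pow_right l) (orderOf_dvd_of_pow_eq_one h1) hl.dvd
  rw [orderOf_eq_one_iff, hd, inv_mul_eq_one] at h2
  exact h2.symm

theorem fix_big {G : Type*} [Group G] [Finite G] {S : Subgroup G} {z b : G} (h : Mod S z b)
    (hS : IsPGroup 2 S) {Q : Subgroup G} (hQ : Q ≤ S) {g : G} (hg : g ∈ Subgroup.normalizer (Q : Set G))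
    (ho : (orderOf g).Coprime 2) (hbig : ∃ u ∈ Q, u * u ≠ 1) :
    ∀ u ∈ Q, g * u * g⁻¹ = u := by
  obtain ⟨u, hu, hu2⟩ := hbig
  haveI : Fact (Nat.Prime 2) := ⟨Nat.prime_two⟩
  obtain ⟨k, hk⟩ := IsPGroup.iff_orderOf.1 hS ⟨u, hQ hu⟩
  rw [← Subgroup.orderOf_coe] at hk
  simp only at hk
  rcases k with _ | _ | k
  · rw [pow_zero, orderOf_eq_one_iff] at hk; exact absurd (by rw [hk, one_mul]) hu2
  · rw [zero_add, pow_one] at hk; exact absurd (by rw [← pow_two, ← hk, pow_orderOf_eq_one]) hu2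
  set w := u ^ 2 ^ k with hw
  have hwQ : w ∈ Q := pow_mem hu _
  have hwo : orderOf w = 4 := by
    rw [hw, orderOf_pow_of_dvd (by positivity) (by rw [hk]; exact pow_dvd_pow 2 (by omega)), hk,
      show 2 ^ (k + 1 + 1) = 4 * 2 ^ k by ring, Nat.mul_div_cancel _ (by positivity)]
  have hne : ∀ {v : G}, orderOf v = 4 → v * v ≠ 1 := fun {v} hv e => by
    have := orderOf_dvd_of_pow_eq_one (show v ^ 2 = 1 by rw [pow_two, e])
    rw [hv] at this; norm_num at this
  have h4 : ∀ {v : G}, orderOf v = 4 → (v * v) * (v * v) = 1 := fun {v} hv => by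
    rw [← pow_two, ← pow_two, ← pow_mul, show 2 * 2 = 4 from rfl, ← hv, pow_orderOf_eq_one]
  have hwz : w * w = z := (h.sq w (hQ hwQ) (h4 hwo)).resolve_left (hne hwo)
  have hgwQ : g * w * g⁻¹ ∈ Q := (Subgroup.mem_normalizer_iff.1 hg w).1 hwQ
  have hgwo : orderOf (g * w * g⁻¹) = 4 := by rw [← MulAut.conj_apply, MulEquiv.orderOf_eq, hwo]
  have hgz : g * z * g⁻¹ = z := by
    have h1 := (h.sq _ (hQ hgwQ) (h4 hgwo)).resolve_left (hne hgwo)
    rw [← hwz] at h1 ⊢
    calc g * (w * w) * g⁻¹ = (g * w * g⁻¹) * (g * w * g⁻¹) := by group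
      _ = w * w := h1
  refine fix_of_four h hS hQ hg ho (fun v hv hv2 => ?_)
  have hgv : g * v * g⁻¹ ∈ Q := (Subgroup.mem_normalizer_iff.1 hg v).1 hv
  have hgv2 : g * v * g⁻¹ * (g * v * g⁻¹) = 1 := by
    calc g * v * g⁻¹ * (g * v * g⁻¹) = g * (v * v) * g⁻¹ := by group
      _ = 1 := by rw [hv2]; group
  by_cases hv1 : v = 1
  · rw [hv1]; group
  by_cases hvz : v = z
  · rw [hvz, hgz]
  have hcan : ∀ {x : G}, g * v * g⁻¹ = g * x * g⁻¹ → v = x := fun e => mul_left_cancel (mul_right_cancel e)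
  have hz2 : z * (z * b) = b := by rw [← mul_assoc, h.zb.1, one_mul]
  have himg : g * v * g⁻¹ = v ∨ g * v * g⁻¹ = z * v := by
    rcases h.four _ (hQ hgv) hgv2 with e | e | e | e
    · exact absurd (hcan (e.trans (by group))) hv1
    · exact absurd (hcan (e.trans hgz.symm)) hvz
    all_goals
      rcases h.four _ (hQ hv) hv2 with f | f | f | f
      · exact absurd f hv1
      · exact absurd f hvz
      · rw [e, f]; simp [hz2]
      · rw [e, f]; simp [hz2]
  refine Subgroup.mem_centralizer_singleton_iff.1 (pow_mem_of_odd (Subgroup.centralizer {v}) ho 1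
    (Subgroup.mem_centralizer_singleton_iff.2 ?_)) |> fun e => by rw [e, mul_inv_cancel_right]
  rw [pow_one, pow_two]
  apply mul_inv_eq_iff_eq_mul.1
  rcases himg with e | e
  · calc g * g * v * (g * g)⁻¹ = g * (g * v * g⁻¹) * g⁻¹ := by group
      _ = v := by rw [e, e]
  · calc g * g * v * (g * g)⁻¹ = g * (g * v * g⁻¹) * g⁻¹ := by group
      _ = g * (z * v) * g⁻¹ := by rw [e]
      _ = (g * z * g⁻¹) * (g * v * g⁻¹) := by group
      _ = v := by rw [hgz, e, ← mul_assoc, h.zb.1, one_mul]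

theorem condition {G : Type*} [Group G] [Finite G] (S : Sylow 2 G) {z b : G} (h : Mod (S : Subgroup G) z b)
    (hbig : ∃ u ∈ (S : Subgroup G), u * u ≠ 1 ∧ (∀ v ∈ (S : Subgroup G), v * v = 1 → u * v = v * u)) :
    Cfsg.Agent.Transfer.Frobenius.Condition 2 G := by
  haveI : Fact (Nat.Prime 2) := ⟨Nat.prime_two⟩
  refine Cfsg.Agent.Transfer.Frobenius.Condition.of_sylow S (fun Q hQ g hg ho => ?_)
  suffices H : ∀ v ∈ Q, g * v * g⁻¹ = v by
    intro v hv
    exact (mul_inv_eq_iff_eq_mul.1 (H v hv)).symm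
  by_cases hQb : ∃ u ∈ Q, u * u ≠ 1
  · exact fix_big h S.isPGroup' hQ hg ho hQb
  push Not at hQb
  by_cases hall : ∀ v ∈ (S : Subgroup G), v * v = 1 → v ∈ Q
  · -- `Q` consists of all the involutions: use a Sylow subgroup of its centralizer
    obtain ⟨a, ha, ha2, hac⟩ := hbig
    set N := Subgroup.normalizer (Q : Set G) with hN
    set C := (Subgroup.centralizer (Q : Set G)).subgroupOf N with hC
    have haC : a ∈ Subgroup.centralizer (Q : Set G) := Subgroup.mem_centralizer_iff.2 fun v hv =>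
      (hac v (hQ hv) (hQb v hv)).symm
    have hQC : Q ≤ Subgroup.centralizer (Q : Set G) := fun x hx => Subgroup.mem_centralizer_iff.2 fun v hv => by
      refine h.small v (hQ hv) x (hQ hx) ?_ ?_
      · rw [hQb v hv, one_mul]
      · rw [hQb x hx, one_mul]
    have hCN : Subgroup.centralizer (Q : Set G) ≤ N := Subgroup.centralizer_le_normalizer _
    set T := (S : Subgroup G) ⊓ Subgroup.centralizer (Q : Set G) with hT
    have hTp : IsPGroup 2 T := S.isPGroup'.to_le inf_le_left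
    obtain ⟨P, hP⟩ := (hTp.comap_subtype (K := N)).comap_subtype (K := C) |>.exists_le_sylow
    have hfr := Sylow.normalizer_sup_eq_top P
    have hgm : (⟨g, hg⟩ : N) ∈ Subgroup.normalizer ((P.map C.subtype : Subgroup N) : Set N) ⊔ C := by
      rw [hfr]; exact Subgroup.mem_top _
    rw [Subgroup.mem_sup_of_normal_right] at hgm
    obtain ⟨w, hw, c, hc, hwc⟩ := hgm
    set Pb := (P.map C.subtype).map N.subtype with hPb
    have hPbp : IsPGroup 2 Pb := (P.isPGroup'.map _).map _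
    have hwn : (w : G) ∈ Subgroup.normalizer (Pb : Set G) := Subgroup.le_normalizer_map N.subtype ⟨w, hw, rfl⟩
    have hin : ∀ x ∈ T, x ∈ Pb := fun x hx =>
      ⟨⟨x, hCN hx.2⟩, ⟨⟨⟨x, hCN hx.2⟩, hx.2⟩, hP hx, rfl⟩, rfl⟩
    obtain ⟨k, m, hm, hord⟩ := Nat.exists_eq_two_pow_mul_odd (orderOf_pos (w : G)).ne'
    set w' := (w : G) ^ 2 ^ k with hw'
    have hw'o : (orderOf w').Coprime 2 := by
      rw [hw', orderOf_pow_of_dvd (by positivity) ⟨m, hord⟩, hord, Nat.mul_div_cancel_left _ (by positivity)]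
      exact hm.coprime_two_right
    -- conjugate `Pb` into `S`
    obtain ⟨R, hR⟩ := hPbp.exists_le_sylow
    obtain ⟨x, hx⟩ := MulAction.exists_smul_eq G R S
    have hle : Pb.map (MulAut.conj x).toMonoidHom ≤ (S : Subgroup G) := by
      rw [← hx, Cfsg.Agent.Transfer.Fusion.coe_smul_eq_map]
      exact Subgroup.map_mono hR
    have hcon := fix_big h S.isPGroup' hle (g := x * w' * x⁻¹)
      (Subgroup.le_normalizer_map (MulAut.conj x).toMonoidHom ⟨w', pow_mem hwn _, by simp⟩)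
      (by rw [← MulAut.conj_apply x w', MulEquiv.orderOf_eq]; exact hw'o)
      ⟨x * a * x⁻¹, ⟨a, hin a ⟨ha, haC⟩, rfl⟩, fun e => ha2 (by
        have e' : a * a = x⁻¹ * (x * a * x⁻¹ * (x * a * x⁻¹)) * x := by group
        rw [e', e]; group)⟩
    intro v hv
    have h1 := hcon (x * v * x⁻¹) ⟨v, hin v ⟨hQ hv, hQC hv⟩, rfl⟩
    have h2 : Commute w' v := by
      have e : w' * v * w'⁻¹ = x⁻¹ * (x * w' * x⁻¹ * (x * v * x⁻¹) * (x * w' * x⁻¹)⁻¹) * x := by group
      rw [h1] at e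
      exact mul_inv_eq_iff_eq_mul.1 (e.trans (by group))
    -- `g` and `w` act alike on `Q`
    have hgw : ∀ j : ℕ, g ^ j * v * (g ^ j)⁻¹ = (w : G) ^ j * v * ((w : G) ^ j)⁻¹ := by
      have hmk : ∀ u ∈ Q, g * u * g⁻¹ = (w : G) * u * (w : G)⁻¹ := by
        intro u hu
        have hcu : Commute (c : G) u := (Subgroup.mem_centralizer_iff.1 hc u hu).symm
        have hg' : g = (w : G) * c := (congrArg Subtype.val hwc).symm
        calc g * u * g⁻¹ = (w : G) * ((c : G) * u * (c : G)⁻¹) * (w : G)⁻¹ := by rw [hg']; group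
          _ = _ := by rw [hcu.eq, mul_inv_cancel_right]
      intro j
      induction j with
      | zero => simp
      | succ j ihj =>
        have hmem : (w : G) ^ j * v * ((w : G) ^ j)⁻¹ ∈ Q :=
          (Subgroup.mem_normalizer_iff.1 (pow_mem w.2 j) v).1 hv
        calc g ^ (j + 1) * v * (g ^ (j + 1))⁻¹ = g * (g ^ j * v * (g ^ j)⁻¹) * g⁻¹ := by rw [pow_succ']; group
          _ = (w : G) * ((w : G) ^ j * v * ((w : G) ^ j)⁻¹) * (w : G)⁻¹ := by rw [ihj, hmk _ hmem]
          _ = _ := by rw [pow_succ']; group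
    have h3 : g ^ 2 ^ k ∈ Subgroup.centralizer {v} := by
      rw [Subgroup.mem_centralizer_singleton_iff]
      apply mul_inv_eq_iff_eq_mul.1
      rw [hgw, ← hw', h2.eq, mul_inv_cancel_right]
    rw [Subgroup.mem_centralizer_singleton_iff.1 (pow_mem_of_odd _ ho k h3), mul_inv_cancel_right]
  · -- a subgroup of order at most two
    push Not at hall
    obtain ⟨y, hy, hy2, hyQ⟩ := hall
    have hone : ∀ v ∈ Q, v ≠ 1 → ∀ u ∈ Q, u = 1 ∨ u = v := by
      intro v hv hv1 u hu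
      by_contra hc
      push Not at hc
      have hz2 : z * (z * b) = b := by rw [← mul_assoc, h.zb.1, one_mul]
      have hbz : b * z = z * b := h.cz b h.bS
      have hb2 : z * b * b = z := by rw [mul_assoc, h.zb.2, mul_one]
      have hb3 : b * (z * b) = z := by rw [← mul_assoc, hbz, hb2]
      have hall' : ∀ x, (x = 1 ∨ x = z ∨ x = b ∨ x = z * b) → x ∈ Q := by
        have m1 : u * v ∈ Q := Q.mul_mem hu hv
        rcases h.four v (hQ hv) (hQb v hv) with e | e | e | e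
        · exact absurd e hv1
        all_goals
          rcases h.four u (hQ hu) (hQb u hu) with f | f | f | f
          · exact absurd f hc.1
          all_goals
            subst e f
            first
              | exact absurd rfl hc.2
              | (have m2 := Q.mul_mem hv hu
                 try rw [hz2] at m1
                 try rw [hz2] at m2
                 try rw [hb2] at m1
                 try rw [hb2] at m2
                 rintro x (rfl | rfl | rfl | rfl) <;> first | exact Q.one_mem | assumption)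
      exact hyQ (hall' y (h.four y hy hy2))
    intro v hv
    by_cases hv1 : v = 1
    · rw [hv1]; group
    rcases hone v hv hv1 _ ((Subgroup.mem_normalizer_iff.1 hg v).1 hv) with e | e
    · exact absurd (conj_eq_one_iff.1 e) hv1
    · exact e

theorem mod_facts {G : Type*} [Group G] [Finite G] (S : Sylow 2 G) (n : ℕ) (hn : 3 ≤ n)
    (hS : Nat.card ↥(S : Subgroup G) = 2 ^ (n + 1)) (a b : G) (ha : a ∈ (S : Subgroup G))
    (hb : b ∈ (S : Subgroup G)) (hao : orderOf a = 2 ^ n) (hbo : orderOf b = 2)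
    (hrel : b * a * b⁻¹ = a ^ (2 ^ (n - 1) + 1)) :
    Mod (S : Subgroup G) (a ^ 2 ^ (n - 1)) b ∧
      ∀ v ∈ (S : Subgroup G), v * v = 1 → a ^ 2 * v = v * a ^ 2 := by
  obtain ⟨m, rfl⟩ := Nat.exists_eq_add_of_le hn
  have hbb : b * b = 1 := by rw [← pow_two, ← hbo, pow_orderOf_eq_one]
  set z := a ^ 2 ^ (3 + m - 1) with hz
  have hzint : z = a ^ (((2 : ℤ) ^ (m + 2))) := by
    rw [hz, show 3 + m - 1 = m + 2 by omega, ← zpow_natCast]; push_cast; rfl
  have hN : ∀ i : ℤ, a ^ i = 1 ↔ (2 : ℤ) ^ (m + 3) ∣ i := fun i => by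
    rw [← orderOf_dvd_iff_zpow_eq_one, hao, show 3 + m = m + 3 by omega]; push_cast; rfl
  have hba : ∀ i : ℤ, b * a ^ i = a ^ ((2 ^ (m + 2) + 1) * i) * b := by
    intro i
    apply mul_inv_eq_iff_eq_mul.1
    rw [← conj_zpow, hrel, ← zpow_natCast, ← zpow_mul, show 3 + m - 1 = m + 2 by omega]
    push_cast; rfl
  have hnota : b ∉ Subgroup.zpowers a := by
    rintro ⟨i, hi⟩
    simp only at hi
    have h1 := hrel
    rw [← hi, show a ^ i * a * (a ^ i)⁻¹ = a by group, pow_succ'] at h1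
    have h2 : a ^ 2 ^ (3 + m - 1) = 1 := mul_eq_left.1 h1.symm
    have := orderOf_dvd_of_pow_eq_one h2
    rw [hao, Nat.pow_dvd_pow_iff_le_right (by norm_num)] at this
    omega
  have hform : ∀ u ∈ (S : Subgroup G), ∃ i : ℤ, u = a ^ i ∨ u = a ^ i * b := by
    intro u hu
    set A := (Subgroup.zpowers a).subgroupOf (S : Subgroup G) with hA
    have hAi : A.index = 2 := by
      have h1 := A.card_mul_index
      rw [hA, Nat.card_congr (Subgroup.subgroupOfEquivOfLe (Subgroup.zpowers_le.2 ha)).toEquiv,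
        Nat.card_zpowers, hao, hS, pow_succ] at h1
      exact Nat.eq_of_mul_eq_mul_left (by positivity) h1
    by_cases hua : u ∈ Subgroup.zpowers a
    · obtain ⟨i, hi⟩ := hua; exact ⟨i, Or.inl hi.symm⟩
    · have h1 : (⟨u, hu⟩ * ⟨b, hb⟩ : ↥(S : Subgroup G)) ∈ A :=
        (Subgroup.mul_mem_iff_of_index_two hAi).2 (iff_of_false hua hnota)
      obtain ⟨i, hi⟩ := h1
      refine ⟨i, Or.inr ?_⟩
      simp only at hi
      rw [hi]; simp [mul_assoc, hbb]
  have hzc : ∀ u ∈ (S : Subgroup G), u * z = z * u := by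
    intro u hu
    have e : b * z = z * b := by
      rw [hzint, hba]
      congr 1
      rw [← mul_inv_eq_one, ← zpow_neg, ← zpow_add, hN]
      exact ⟨2 ^ (m + 1), by ring⟩
    obtain ⟨i, rfl | rfl⟩ := hform u hu
    · rw [hzint, ← zpow_add, ← zpow_add, add_comm]
    · rw [mul_assoc, e, ← mul_assoc, ← mul_assoc, hzint, ← zpow_add, ← zpow_add, add_comm]
  -- the product of two elements in normal form
  have hswap : ∀ i : ℤ, b * a ^ i = a ^ i * b ∨ b * a ^ i = z * (a ^ i * b) := by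
    intro i
    rcases Int.even_or_odd i with ⟨e, he⟩ | ⟨e, he⟩
    · left
      rw [hba]; congr 1
      rw [← mul_inv_eq_one, ← zpow_neg, ← zpow_add, hN]
      exact ⟨e, by rw [he]; ring⟩
    · right
      rw [hba, hzint, ← mul_assoc, ← zpow_add]; congr 1
      rw [← mul_inv_eq_one, ← zpow_neg, ← zpow_add, hN]
      exact ⟨e, by rw [he]; ring⟩
  have heven : ∀ e : ℤ, b * a ^ (2 * e) = a ^ (2 * e) * b := by
    intro e
    rw [hba]; congr 1
    rw [← mul_inv_eq_one, ← zpow_neg, ← zpow_add, hN]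
    exact ⟨e, by ring⟩
  have hsqf : ∀ i : ℤ, (a ^ i * b) * (a ^ i * b) = a ^ ((2 ^ (m + 2) + 2) * i) := by
    intro i
    calc (a ^ i * b) * (a ^ i * b) = a ^ i * (b * a ^ i) * b := by group
      _ = a ^ i * a ^ ((2 ^ (m + 2) + 1) * i) * (b * b) := by rw [hba]; group
      _ = _ := by rw [hbb, mul_one, ← zpow_add]; congr 1; ring
  have hM : ¬ (2 : ℤ) ∣ 2 ^ (m + 1) + 1 := by
    rintro ⟨e, he⟩
    have : (2 : ℤ) ^ (m + 1) = 2 * 2 ^ m := by ring
    omega
  have hfour' : ∀ i : ℤ, ((a ^ i * a ^ i) * (a ^ i * a ^ i) = 1 ∨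
      (a ^ i * b * (a ^ i * b)) * (a ^ i * b * (a ^ i * b)) = 1) → (2 : ℤ) ^ (m + 1) ∣ i := by
    rintro i (h | h)
    · rw [← zpow_add, ← zpow_add, hN] at h
      obtain ⟨c, hc⟩ := h
      exact ⟨c, by rw [show (2 : ℤ) ^ (m + 3) = 2 ^ (m + 1) * 4 by ring] at hc; linarith⟩
    · rw [hsqf, ← zpow_add, hN] at h
      have h' : (2 : ℤ) ^ (m + 3) ∣ 2 ^ 2 * ((2 ^ (m + 1) + 1) * i) := by
        convert h using 1; ring
      rw [show (2 : ℤ) ^ (m + 3) = 2 ^ 2 * 2 ^ (m + 1) by ring] at h'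
      exact ((Prime.coprime_iff_not_dvd Int.prime_two).2 hM).pow_left.dvd_of_dvd_mul_left
        (Int.dvd_of_mul_dvd_mul_left (by norm_num) h')
  have hsmall : ∀ u ∈ (S : Subgroup G), (u * u) * (u * u) = 1 →
      ∃ e : ℤ, u = a ^ (2 * e) ∨ u = a ^ (2 * e) * b := by
    intro u hu h4
    obtain ⟨i, rfl | rfl⟩ := hform u hu
    · obtain ⟨c, hc⟩ := hfour' i (Or.inl h4)
      exact ⟨2 ^ m * c, Or.inl (by rw [hc]; congr 1; ring)⟩
    · obtain ⟨c, hc⟩ := hfour' i (Or.inr h4)
      exact ⟨2 ^ m * c, Or.inr (by rw [hc]; congr 2; ring)⟩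
  have hzz : z * z = 1 := by
    rw [hzint, ← zpow_add, hN]; exact ⟨1, by ring⟩
  refine ⟨⟨⟨hzz, hbb⟩, hzc, hb, pow_mem ha _, ?_, ?_, ?_, ?_, ?_⟩, ?_⟩
  · intro h
    have := orderOf_dvd_of_pow_eq_one h
    rw [hao, Nat.pow_dvd_pow_iff_le_right (by norm_num)] at this
    omega
  · intro u hu v hv
    have hca : ∀ i j : ℤ, a ^ i * a ^ j = a ^ j * a ^ i := fun i j => by rw [← zpow_add, ← zpow_add, add_comm]
    have hza : ∀ i : ℤ, a ^ i * z = z * a ^ i := fun i => by rw [hzint, ← zpow_add, ← zpow_add, add_comm]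
    have key : ∀ i j : ℤ, a ^ i * b * a ^ j = a ^ j * (a ^ i * b) ∨ a ^ i * b * a ^ j = z * (a ^ j * (a ^ i * b)) := by
      intro i j
      rcases hswap j with e | e
      · left; rw [mul_assoc, e, ← mul_assoc, hca, mul_assoc]
      · right; rw [mul_assoc, e, ← mul_assoc, hza, mul_assoc, ← mul_assoc (a ^ i), hca, mul_assoc]
    obtain ⟨i, rfl | rfl⟩ := hform u hu <;> obtain ⟨j, rfl | rfl⟩ := hform v hv
    · exact Or.inl (hca i j)
    · rcases key j i with e | e
      · exact Or.inl e.symm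
      · right; rw [e, ← mul_assoc z z, hzz, one_mul]
    · exact key i j
    · have hX : a ^ i * b * (a ^ j * b) = a ^ i * b * a ^ j * b := (mul_assoc _ _ _).symm
      have hY : a ^ j * b * (a ^ i * b) = a ^ j * b * a ^ i * b := (mul_assoc _ _ _).symm
      have hXY : a ^ j * (a ^ i * b) * b = a ^ i * (a ^ j * b) * b := by
        rw [← mul_assoc, ← mul_assoc, hca j i]
      rcases key i j with e | e <;> rcases key j i with f | f <;> rw [hX, hY, e, f]
      · left; exact hXY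
      · right; rw [hXY]; simp only [← mul_assoc, hzz, one_mul]
      · right; rw [← hXY]; simp only [← mul_assoc]
      · left; simp only [mul_assoc] at hXY ⊢; rw [hXY]
  · intro u hu v hv hu4 hv4
    have hca : ∀ i j : ℤ, a ^ i * a ^ j = a ^ j * a ^ i := fun i j => by rw [← zpow_add, ← zpow_add, add_comm]
    obtain ⟨e, rfl | rfl⟩ := hsmall u hu hu4 <;> obtain ⟨f, rfl | rfl⟩ := hsmall v hv hv4
    · exact hca _ _
    · rw [mul_assoc, heven, ← mul_assoc, ← mul_assoc, hca]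
    · rw [mul_assoc, heven, ← mul_assoc, ← mul_assoc, hca]
    · rw [mul_assoc, ← mul_assoc b, heven, mul_assoc (a ^ (2 * f)), ← mul_assoc, hca, mul_assoc,
        mul_assoc (a ^ (2 * f)), ← mul_assoc b, heven, mul_assoc]
  · intro u hu hu2
    have hev : ∀ i : ℤ, (2 : ℤ) ^ (m + 2) ∣ i → a ^ i = 1 ∨ a ^ i = z := by
      rintro i ⟨c, rfl⟩
      rcases Int.even_or_odd c with ⟨e, rfl⟩ | ⟨e, rfl⟩
      · left; rw [hN]; exact ⟨e, by ring⟩
      · right
        rw [hzint, ← mul_inv_eq_one, ← zpow_neg, ← zpow_add, hN]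
        exact ⟨e, by ring⟩
    obtain ⟨i, rfl | rfl⟩ := hform u hu
    · rw [← zpow_add, hN] at hu2
      obtain ⟨c, hc⟩ := hu2
      rcases hev i ⟨c, by rw [show (2 : ℤ) ^ (m + 3) = 2 ^ (m + 2) * 2 by ring] at hc; linarith⟩ with e | e
      · exact Or.inl e
      · exact Or.inr (Or.inl e)
    · rw [hsqf, hN] at hu2
      have h' : (2 : ℤ) ^ (m + 3) ∣ 2 * ((2 ^ (m + 1) + 1) * i) := by convert hu2 using 1; ring
      rw [show (2 : ℤ) ^ (m + 3) = 2 * 2 ^ (m + 2) by ring] at h'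
      rcases hev i (((Prime.coprime_iff_not_dvd Int.prime_two).2 hM).pow_left.dvd_of_dvd_mul_left
        (Int.dvd_of_mul_dvd_mul_left (by norm_num) h')) with e | e
      · exact Or.inr (Or.inr (Or.inl (by rw [e, one_mul])))
      · exact Or.inr (Or.inr (Or.inr (by rw [e])))
  · intro u hu hu4
    obtain ⟨i, rfl | rfl⟩ := hform u hu
    · obtain ⟨c, hc⟩ := hfour' i (Or.inl hu4)
      rcases Int.even_or_odd c with ⟨e, he⟩ | ⟨e, he⟩
      · left; rw [← zpow_add, hN]; exact ⟨e / 1, by rw [hc, he]; simp; ring⟩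
      · right; rw [← zpow_add, hzint, ← mul_inv_eq_one, ← zpow_neg, ← zpow_add, hN]
        exact ⟨e, by rw [hc, he]; ring⟩
    · obtain ⟨c, hc⟩ := hfour' i (Or.inr hu4)
      rcases Int.even_or_odd c with ⟨e, he⟩ | ⟨e, he⟩
      · left; rw [hsqf, hN]; exact ⟨(2 ^ (m + 1) + 1) * e, by rw [hc, he]; ring⟩
      · right; rw [hsqf, hzint, ← mul_inv_eq_one, ← zpow_neg, ← zpow_add, hN]
        exact ⟨2 ^ (m + 1) * e + 2 ^ m + e, by rw [hc, he]; ring⟩
  · intro v hv hv2
    obtain ⟨e, rfl | rfl⟩ := hsmall v hv (by rw [hv2, one_mul])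
    · rw [← zpow_natCast, ← zpow_add, ← zpow_add, add_comm]
    · rw [← mul_assoc, mul_assoc _ b, show b * a ^ 2 = a ^ 2 * b by
        have := heven 1; rw [mul_one] at this; exact_mod_cast this, ← mul_assoc,
        ← zpow_natCast, ← zpow_add, ← zpow_add, add_comm]

/-- Groups with a modular Sylow 2-subgroup have a normal 2-complement. Let S, of order 2^(n+1) with n ≥ 3, be a Sylow 2-subgroup of a finite group G, and suppose S contains an element a of order 2^n and an involution b with b a b⁻¹ = a^(2^(n-1) + 1); so S is the non-abelian 2-group with a cyclic subgroup of index 2 that is neither dihedral, semidihedral nor generalized quaternion. Then G has a normal 2-complement. -/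
theorem result {G : Type*} [Group G] [Finite G]
    (S : Sylow 2 G) (n : ℕ) (hn : 3 ≤ n) (hS : Nat.card ↥(S : Subgroup G) = 2 ^ (n + 1))
    (a b : G) (ha : a ∈ (S : Subgroup G)) (hb : b ∈ (S : Subgroup G))
    (hao : orderOf a = 2 ^ n) (hbo : orderOf b = 2) (hrel : b * a * b⁻¹ = a ^ (2 ^ (n - 1) + 1)) :
    Cfsg.HasNormalPComplement 2 G := by
  haveI : Fact (Nat.Prime 2) := ⟨Nat.prime_two⟩
  obtain ⟨hmod, hc⟩ := mod_facts S n hn hS a b ha hb hao hbo hrel
  refine Cfsg.Agent.Transfer.Frobenius.hasNormalPComplement_iff_condition.2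
    (condition S hmod ⟨a ^ 2, pow_mem ha 2, fun e => ?_, hc⟩)
  rw [← pow_add] at e
  have := orderOf_dvd_of_pow_eq_one e
  rw [hao] at this
  have h1 := Nat.le_of_dvd (by norm_num) this
  have : 2 ^ 3 ≤ 2 ^ n := Nat.pow_le_pow_right two_pos hn
  omega

end Cfsg.Agent.S3178
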