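import Cfsg.Statements.S1644
import Cfsg.Agent.Lib.J1Unique.Main

set_option autoImplicit false
open Cfsg

namespace Cfsg.Agent.S1644

/-- The first Janko group recognised by an involution centraliser, at the level of isomorphism: a finite simple group with abelian Sylow 2-subgroups of order 8 and an involution whose centraliser is isomorphic to Z/2 × A₅ is isomorphic to the subgroup of GL(7, 11) generated by the two explicit Janko matrices. -/
theorem result {G : Type*} [Group G] [Finite G] [IsSimpleGroup G] (S : Sylow 2 G) (hS : IsMulCommutative (S : Subgroup G)) (h8 : Nat.card S = 8) (t : G) (ht : orderOf t = 2) (e : (Subgroup.centralizer ({t} : Set G)) ≃* Multiplicative (ZMod 2) × alternatingGroup (Fin 5)) : Cfsg.Spor.IsoJ1 G := by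
  haveI := Fact.mk Nat.prime_two
  haveI := hS
  have hpg : IsPGroup 2 (Subgroup.zpowers t) := IsPGroup.of_card (n := 1) (by
    rw [Nat.card_zpowers, ht, pow_one])
  obtain ⟨P, hP⟩ := hpg.exists_le_sylow
  obtain ⟨g, rfl⟩ := MulAction.exists_smul_eq G S P
  have key : ∀ a ∈ ((g • S : Sylow 2 G) : Subgroup G), ∀ b ∈ ((g • S : Sylow 2 G) : Subgroup G),
      a * b = b * a := by
    intro a ha b hb
    rw [Sylow.coe_subgroup_smul] at ha hb
    obtain ⟨a', ha', rfl⟩ := ha
    obtain ⟨b', hb', rfl⟩ := hb
    have hab : a' * b' = b' * a' := congrArg Subtype.val (mul_comm' (⟨a', ha'⟩ : (S : Subgroup G)) ⟨b', hb'⟩)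
    show MulAut.conj g a' * MulAut.conj g b' = MulAut.conj g b' * MulAut.conj g a'
    rw [← map_mul, ← map_mul, hab]
  have htP : t ∈ ((g • S : Sylow 2 G) : Subgroup G) := hP (Subgroup.mem_zpowers t)
  have h2 : Cfsg.IsTwoCentralInvolution t := ⟨ht, g • S, htP, fun x hx => key x hx t htP⟩
  exact Cfsg.Agent.J1Unique.iso_of_setup (⟨t, h2, e⟩ : Cfsg.Agent.J1Order.Setup G)

end Cfsg.Agent.S1644
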