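import Cfsg.Statements.S2427
import Mathlib

set_option autoImplicit false
open Cfsg

namespace Cfsg.Agent.S2427

abbrev SL23 := Matrix.SpecialLinearGroup (Fin 2) (ZMod 3)

theorem four_closed : ∀ a b : SL23, a ^ 4 = 1 → b ^ 4 = 1 → (a * b) ^ 4 = 1 := by decide +kernel

theorem comm_four : ∀ a b : SL23, (a * b * a⁻¹ * b⁻¹) ^ 4 = 1 := by decide +kernel

theorem four_comm : ∀ g : SL23, g ^ 4 = 1 → ∃ a b : SL23, a * b * a⁻¹ * b⁻¹ = g := by decide +kernel

/-- The quaternion subgroup. -/
def quat : Subgroup SL23 where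
  carrier := {g | g ^ 4 = 1}
  one_mem' := one_pow 4
  mul_mem' := fun {a b} ha hb => four_closed a b ha hb
  inv_mem' := fun {a} ha => by
    show a⁻¹ ^ 4 = 1
    rw [inv_pow, show a ^ 4 = 1 from ha, inv_one]

theorem commutator_eq : commutator SL23 = quat := by
  refine le_antisymm ?_ fun g hg => ?_
  · rw [_root_.commutator_def, Subgroup.commutator_le]
    intro a _ b _
    exact comm_four a b
  · obtain ⟨a, b, rfl⟩ := four_comm g hg
    exact Subgroup.commutator_mem_commutator (Subgroup.mem_top a) (Subgroup.mem_top b)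

theorem card_sl : Fintype.card SL23 = 24 := by decide +kernel

theorem card_quat : Fintype.card {g : SL23 // g ^ 4 = 1} = 8 := by decide +kernel

theorem card_cent : Fintype.card {z : SL23 // ∀ g : SL23, g * z = z * g} = 2 := by decide +kernel

def genI : SL23 := ⟨!![0, -1; 1, 0], by decide⟩

def genJ : SL23 := ⟨!![1, 1; 1, -1], by decide⟩

def qmap : QuaternionGroup 2 → SL23
  | .a i => genI ^ i.val
  | .xa i => genJ * genI ^ i.val

theorem qmap_mul : ∀ u v : QuaternionGroup 2, qmap (u * v) = qmap u * qmap v := by decide +kernel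

theorem qmap_inj : ∀ u v : QuaternionGroup 2, qmap u = qmap v → u = v := by decide +kernel

theorem qmap_mem : ∀ u : QuaternionGroup 2, qmap u ^ 4 = 1 := by decide +kernel

theorem quat_mem : ∀ g : SL23, g ^ 4 = 1 → ∃ u : QuaternionGroup 2, qmap u = g := by decide +kernel

theorem order_four : ∀ g : SL23, (∃ h : SL23, g * h ≠ h * g) →
    ∃ x : SL23, (x * g * x⁻¹ * g⁻¹) ^ 4 = 1 ∧ (x * g * x⁻¹ * g⁻¹) ^ 2 ≠ 1 := by decide +kernel

theorem four_conj : ∀ c h : SL23, (c ^ 4 = 1 ∧ c ^ 2 ≠ 1) ∧ (h ^ 4 = 1 ∧ h ^ 2 ≠ 1) →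
    ∃ x : SL23, x * c * x⁻¹ = h := by decide +kernel

theorem two_sq : ∀ c h : SL23, c ^ 4 = 1 → c ^ 2 ≠ 1 → h ^ 2 = 1 → h = 1 ∨ h = c * c := by
  decide +kernel

/-- The group SL₂ over the field with 3 elements has order 24 and centre of order 2; its commutator subgroup has order 8, is isomorphic to the quaternion group of order 8 and is complemented by every Sylow 3-subgroup (so the group is a semidirect product of a quaternion group of order 8 by a cyclic group of order 3); and its only normal subgroups besides the trivial subgroup and the whole group are the centre and the commutator subgroup. -/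
theorem result :
    Nat.card (Matrix.SpecialLinearGroup (Fin 2) (ZMod 3)) = 24 ∧
    Nat.card (Subgroup.center (Matrix.SpecialLinearGroup (Fin 2) (ZMod 3))) = 2 ∧
    Nat.card (commutator (Matrix.SpecialLinearGroup (Fin 2) (ZMod 3))) = 8 ∧
    Nonempty (commutator (Matrix.SpecialLinearGroup (Fin 2) (ZMod 3)) ≃* QuaternionGroup 2) ∧
    (∀ P : Sylow 3 (Matrix.SpecialLinearGroup (Fin 2) (ZMod 3)),
      Subgroup.IsComplement' (commutator (Matrix.SpecialLinearGroup (Fin 2) (ZMod 3)))
        (P : Subgroup (Matrix.SpecialLinearGroup (Fin 2) (ZMod 3)))) ∧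
    ∀ N : Subgroup (Matrix.SpecialLinearGroup (Fin 2) (ZMod 3)), N.Normal →
      N = ⊥ ∨ N = ⊤ ∨ N = Subgroup.center (Matrix.SpecialLinearGroup (Fin 2) (ZMod 3)) ∨
        N = commutator (Matrix.SpecialLinearGroup (Fin 2) (ZMod 3)) := by
  have hG : Nat.card SL23 = 24 := Nat.card_eq_fintype_card.trans card_sl
  have hQ : Nat.card quat = 8 := by
    rw [← card_quat, ← Nat.card_eq_fintype_card]; rfl
  have hZ : Nat.card (Subgroup.center SL23) = 2 := by
    refine (Nat.card_congr (Equiv.subtypeEquivRight fun z => Subgroup.mem_center_iff)).trans ?_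
    exact Nat.card_eq_fintype_card.trans card_cent
  refine ⟨hG, hZ, ?_, ?_, fun P => ?_, fun N hN => ?_⟩
  · rw [commutator_eq, hQ]
  · rw [commutator_eq]
    refine ⟨(MulEquiv.ofBijective
      (MonoidHom.mk' (fun u : QuaternionGroup 2 => (⟨qmap u, qmap_mem u⟩ : quat))
        (fun u v => Subtype.ext (qmap_mul u v))) ⟨fun u v h => qmap_inj u v (congrArg Subtype.val h),
          fun g => ?_⟩).symm⟩
    obtain ⟨u, hu⟩ := quat_mem g.1 g.2
    exact ⟨u, Subtype.ext hu⟩
  · have : Fact (Nat.Prime 3) := ⟨by norm_num⟩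
    have h24 : (24 : ℕ).factorization 3 = 1 := by
      rw [show (24 : ℕ) = 3 ^ 1 * 8 by norm_num, Nat.factorization_mul (by norm_num) (by norm_num),
        Finsupp.add_apply, Nat.factorization_eq_zero_of_not_dvd (n := 8) (p := 3) (by norm_num),
        Nat.Prime.factorization_pow (by norm_num), Finsupp.single_eq_same]
    have hP : Nat.card (P : Subgroup SL23) = 3 := by
      rw [P.card_eq_multiplicity, hG, h24, pow_one]
    rw [commutator_eq]
    exact Subgroup.isComplement'_of_coprime (by rw [hQ, hP, hG]) (by rw [hQ, hP]; norm_num)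
  · by_cases hc : N ≤ Subgroup.center SL23
    · have hd := Subgroup.card_dvd_of_le hc
      rw [hZ] at hd
      rcases (Nat.dvd_prime Nat.prime_two).1 hd with h | h
      · exact Or.inl (Subgroup.card_eq_one.1 h)
      · exact Or.inr (Or.inr (Or.inl (Subgroup.eq_of_le_of_card_ge hc (by rw [h, hZ]))))
    obtain ⟨g, hg, hgc⟩ := SetLike.not_le_iff_exists.1 hc
    rw [Subgroup.mem_center_iff] at hgc
    push Not at hgc
    obtain ⟨h, hh⟩ := hgc
    obtain ⟨x, hx4, hx2⟩ := order_four g ⟨h, fun e => hh e.symm⟩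
    have hcN : x * g * x⁻¹ * g⁻¹ ∈ N := N.mul_mem (hN.conj_mem g hg x) (N.inv_mem hg)
    have hle : quat ≤ N := fun y hy => by
      by_cases hy2 : y ^ 2 = 1
      · rcases two_sq _ y hx4 hx2 hy2 with e | e <;> rw [e]
        · exact N.one_mem
        · exact N.mul_mem hcN hcN
      · obtain ⟨z, hz⟩ := four_conj _ y ⟨⟨hx4, hx2⟩, hy, hy2⟩
        rw [← hz]
        exact hN.conj_mem _ hcN z
    have hd := Subgroup.card_dvd_of_le hle
    rw [hQ] at hd
    obtain ⟨k, hk⟩ := hd
    have hdG := Subgroup.card_subgroup_dvd_card N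
    rw [hG, hk, show (24 : ℕ) = 8 * 3 from rfl, Nat.mul_dvd_mul_iff_left (by norm_num)] at hdG
    rcases (Nat.dvd_prime (by norm_num : Nat.Prime 3)).1 hdG with e | e
    · refine Or.inr (Or.inr (Or.inr ?_))
      rw [commutator_eq]
      exact (Subgroup.eq_of_le_of_card_ge hle (by rw [hk, e, mul_one, hQ])).symm
    · exact Or.inr (Or.inl (Subgroup.eq_top_of_card_eq N (by rw [hk, e, hG])))

end Cfsg.Agent.S2427
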