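import Cfsg.Statements.S0276
import Cfsg.Agent.Lib.Classical.SylowSL2

set_option autoImplicit false
open Cfsg

namespace Cfsg.Agent.S0276

/-- For q = 3 or 5 mod 8 the Sylow 2-subgroups of PSL_2(q) are elementary abelian of order 4. -/
theorem result {F : Type*} [Field F] [Fintype F] {q : ℕ} (hF : Fintype.card F = q) (hq : q % 8 = 3 ∨ q % 8 = 5) (P : Sylow 2 (Matrix.ProjectiveSpecialLinearGroup (Fin 2) F)) : IsKleinFour (P : Subgroup (Matrix.ProjectiveSpecialLinearGroup (Fin 2) F)) := by
  subst hF
  have hodd : Odd (Fintype.card F) := Nat.odd_iff.2 (by omega)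
  have h2 : (2 : F) ≠ 0 := Classical.SylowSL2.two_ne_zero_of_odd hodd
  set Z := Subgroup.center (Matrix.SpecialLinearGroup (Fin 2) F) with hZ
  have hZc : Nat.card Z = 2 := by
    rw [hZ, Classical.Linear.natCard_center_SL, Fintype.card_fin]
    exact Nat.gcd_eq_left (by omega)
  have h8 : (Nat.card (Matrix.SpecialLinearGroup (Fin 2) F)).factorization 2 = 3 := by
    have hd : Nat.card (Matrix.SpecialLinearGroup (Fin 2) F) % 16 = 8 := by
      rw [Classical.GL2.natCard_SL_two]
      have h8' : (Fintype.card F - 1) * (Fintype.card F + 1) % 16 = 8 := by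
        have e : Fintype.card F = 8 * (Fintype.card F / 8) + Fintype.card F % 8 :=
          (Nat.div_add_mod _ _).symm
        rcases hq with h | h <;> rw [h] at e <;> rw [e]
        · rw [show 8 * (Fintype.card F / 8) + 3 - 1 = 8 * (Fintype.card F / 8) + 2 by omega,
            show (8 * (Fintype.card F / 8) + 2) * (8 * (Fintype.card F / 8) + 3 + 1) =
              16 * (4 * (Fintype.card F / 8) * (Fintype.card F / 8) + 3 * (Fintype.card F / 8)) + 8
              by ring]
          omega
        · rw [show 8 * (Fintype.card F / 8) + 5 - 1 = 8 * (Fintype.card F / 8) + 4 by omega,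
            show (8 * (Fintype.card F / 8) + 4) * (8 * (Fintype.card F / 8) + 5 + 1) =
              16 * (4 * (Fintype.card F / 8) * (Fintype.card F / 8) + 5 * (Fintype.card F / 8) + 1) + 8
              by ring]
          omega
      rw [Nat.mul_mod, h8']
      omega
    set m := Nat.card (Matrix.SpecialLinearGroup (Fin 2) F) with hm
    have hm0 : m ≠ 0 := Nat.card_pos.ne'
    have a := (Nat.Prime.pow_dvd_iff_le_factorization Nat.prime_two hm0 (k := 3)).1 (by norm_num; omega)
    by_contra hne
    have := (Nat.Prime.pow_dvd_iff_le_factorization Nat.prime_two hm0).2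
      (show 4 ≤ m.factorization 2 by omega)
    norm_num at this
    omega
  have hQ : Nat.card (Matrix.ProjectiveSpecialLinearGroup (Fin 2) F) * 2 =
      Nat.card (Matrix.SpecialLinearGroup (Fin 2) F) := by
    have := Classical.Linear.natCard_PSL_mul_center (n := Fin 2) (F := F)
    rw [← hZ, hZc, mul_comm] at this
    exact this
  have hP : Nat.card P = 4 := by
    rw [Sylow.card_eq_multiplicity]
    have := congrArg (fun k => Nat.factorization k 2) hQ
    rw [Nat.factorization_mul Nat.card_pos.ne' two_ne_zero, Finsupp.add_apply, h8,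
      Nat.prime_two.factorization_self] at this
    rw [show (Nat.card (Matrix.ProjectiveSpecialLinearGroup (Fin 2) F)).factorization 2 = 2 by omega]
    norm_num
  refine ⟨hP, ?_⟩
  set L := (P : Subgroup (Matrix.ProjectiveSpecialLinearGroup (Fin 2) F)).comap (QuotientGroup.mk' Z)
    with hL
  have hLc : Nat.card L = 2 ^ (Nat.card (Matrix.SpecialLinearGroup (Fin 2) F)).factorization 2 := by
    rw [h8]
    have hi : L.index =
        (P : Subgroup (Matrix.ProjectiveSpecialLinearGroup (Fin 2) F)).index :=
      Subgroup.index_comap_of_surjective _ (QuotientGroup.mk'_surjective _)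
    have a := L.card_mul_index
    have b := (P : Subgroup (Matrix.ProjectiveSpecialLinearGroup (Fin 2) F)).card_mul_index
    rw [← hQ, ← b, hP, hi] at a
    refine Nat.eq_of_mul_eq_mul_right (Nat.pos_of_ne_zero
      (Subgroup.index_ne_zero_of_finite (H := (P : Subgroup (Matrix.ProjectiveSpecialLinearGroup (Fin 2) F))))) ?_
    rw [a]; ring
  obtain ⟨⟨e⟩, -⟩ := Classical.SylowSL2.sylow_two hodd (Sylow.ofCard L hLc)
  have hsq : ∀ g : P, g ^ 2 = 1 := by
    rintro ⟨g, hg⟩
    obtain ⟨t, rfl⟩ := QuotientGroup.mk'_surjective Z g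
    have ht4 : (t * t) * (t * t) = 1 := by
      have key : ∀ z : QuaternionGroup (2 ^ (3 - 2)), (z * z) * (z * z) = 1 := by decide
      rw [h8] at e
      let t' : (Sylow.ofCard L hLc : Subgroup (Matrix.SpecialLinearGroup (Fin 2) F)) := ⟨t, hg⟩
      have := key (e t')
      rw [← map_mul, ← map_mul, ← map_one e] at this
      exact congrArg Subtype.val (e.injective this)
    have hc : t * t ∈ Z := by
      by_cases h1 : t * t = 1
      · rw [h1]; exact one_mem _
      · rw [hZ, Subgroup.mem_center_iff]
        intro u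
        apply Classical.GL2.sl_ext
        have hn := Classical.SylowSL2.eq_neg_one_of_sq h2 _ h1 ht4
        rw [Matrix.SpecialLinearGroup.coe_mul u (t * t), Matrix.SpecialLinearGroup.coe_mul (t * t) u,
          hn]
        simp
    refine Subtype.ext ?_
    rw [Subgroup.coe_pow, ← map_pow, sq]
    exact (QuotientGroup.eq_one_iff _).2 hc
  refine Nat.dvd_antisymm (Monoid.exponent_dvd_of_forall_pow_eq_one hsq) ?_
  obtain ⟨g, hg⟩ : ∃ g : P, g ≠ 1 := by
    have : Nontrivial P := Finite.one_lt_card_iff_nontrivial.1 (by omega)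
    exact exists_ne 1
  have : orderOf g = 2 := orderOf_eq_prime (hsq g) hg
  have h2g := Monoid.order_dvd_exponent g
  rw [this] at h2g
  exact h2g

end Cfsg.Agent.S0276
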