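import Cfsg.Statements.S0840
import Mathlib
import Cfsg.Agent.Lib.Characters.Inner

set_option autoImplicit false
open scoped ComplexConjugate
open Cfsg Cfsg.Agent.Characters
open scoped ComplexConjugate

namespace Cfsg.Agent.S0840

/-- Class multiplication coefficients from the character table: for elements a, b, c of a finite group G, the number of ordered pairs (x, y) with x conjugate to a, y conjugate to b and x * y = c equals the product of the sizes of the conjugacy classes of a and b, divided by the order of G, times the sum over the irreducible characters χ of χ a * χ b * conj (χ c) / χ 1. -/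
theorem result {G : Type*} [Group G] [Finite G] (a b c : G) : (Nat.card {p : G × G // IsConj a p.1 ∧ IsConj b p.2 ∧ p.1 * p.2 = c} : ℂ) = (Nat.card {x : G // IsConj a x} : ℂ) * (Nat.card {x : G // IsConj b x} : ℂ) / (Nat.card G : ℂ) * ∑ᶠ χ : Cfsg.IrrCharacter G, (χ : G → ℂ) a * (χ : G → ℂ) b * conj ((χ : G → ℂ) c) / (χ : G → ℂ) 1 := by
  classical
  have := Fintype.ofFinite G
  have := Fintype.ofFinite (Cfsg.IrrCharacter G)
  set f : G → ℂ := fun c => ∑ x : G, ∑ y : G,
    if (x * a * x⁻¹) * (y * b * y⁻¹) = c then (1 : ℂ) else 0 with hf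
  have hfcl : Cfsg.IsClassFunction G f := by
    intro g h
    refine (Fintype.sum_equiv (Equiv.mulLeft h) _ _ fun x => ?_).symm
    refine Fintype.sum_equiv (Equiv.mulLeft h) _ _ fun y => ?_
    refine if_congr ?_ rfl rfl
    simp only [Equiv.coe_mulLeft]
    constructor
    · intro e; rw [← e]; simp [mul_assoc]
    · intro e
      apply mul_left_cancel (a := h)
      apply mul_right_cancel (b := h⁻¹)
      rw [← e]
      simp [mul_assoc]
  -- the average of a class in an irreducible representation is scalar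
  have hkey : ∀ χ : Cfsg.IrrCharacter G, ∑ x : G, ∑ y : G,
      (χ : G → ℂ) ((x * a * x⁻¹) * (y * b * y⁻¹)) =
        (Nat.card G : ℂ) ^ 2 * ((χ : G → ℂ) a * (χ : G → ℂ) b) / (χ : G → ℂ) 1 := by
    rintro ⟨χ, hχ⟩
    obtain ⟨n, ρ, hρ, rfl⟩ := hχ
    simp only
    have hcomm : ∀ (z g : G) (v : Fin n → ℂ), (∑ x : G, ρ (x * z * x⁻¹)) (ρ g v) =
        ρ g ((∑ x : G, ρ (x * z * x⁻¹)) v) := by
      intro z g v
      simp only [LinearMap.sum_apply, map_sum]
      refine Fintype.sum_equiv (Equiv.mulLeft g⁻¹) _ _ fun x => ?_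
      simp only [← Module.End.mul_apply, ← map_mul, Equiv.coe_mulLeft]
      congr 2
      simp [mul_assoc]
    obtain ⟨ca, hca⟩ := schur_scalar ρ _ (hcomm a)
    obtain ⟨cb, hcb⟩ := schur_scalar ρ _ (hcomm b)
    have htr : ∀ (z : G) (c : ℂ), ∑ x : G, ρ (x * z * x⁻¹) = c • LinearMap.id →
        (Nat.card G : ℂ) * ρ.character z = c * ρ.character 1 := by
      intro z c h
      have h' := congrArg (LinearMap.trace ℂ (Fin n → ℂ)) h
      rw [map_sum, map_smul, LinearMap.trace_id] at h'
      change ∑ x : G, ρ.character (x * z * x⁻¹) = _ at h'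
      rw [Finset.sum_congr rfl
        (g := fun _ => ρ.character z) (fun x _ => ρ.char_conj z x), Finset.sum_const,
        Finset.card_univ, nsmul_eq_mul, ← Nat.card_eq_fintype_card, smul_eq_mul] at h'
      rw [h', ρ.char_one]
    have hne : ρ.character 1 ≠ 0 := irr_one_ne_zero (χ := ρ.character) ⟨n, ρ, hρ, rfl⟩
    have hprod : ∑ x : G, ∑ y : G, ρ.character ((x * a * x⁻¹) * (y * b * y⁻¹)) =
        ca * cb * ρ.character 1 := by
      simp only [Representation.character, ← map_sum, map_mul ρ (_ * _ * _), ← Finset.mul_sum,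
        ← Finset.sum_mul, hca, hcb]
      simp [Module.End.mul_eq_comp, mul_assoc]
      ring
    rw [hprod, eq_div_iff hne]
    linear_combination (-(Nat.card G : ℂ) * ρ.character b) * htr a ca hca +
      (-ca * ρ.character 1) * htr b cb hcb
  have hinner : ∀ χ : Cfsg.IrrCharacter G, Cfsg.classInner f (χ : G → ℂ) =
      (Nat.card G : ℂ) * conj ((χ : G → ℂ) a * (χ : G → ℂ) b / (χ : G → ℂ) 1) := by
    intro χ
    have h1 : ∑ g : G, f g * conj ((χ : G → ℂ) g) =
        conj (∑ x : G, ∑ y : G, (χ : G → ℂ) ((x * a * x⁻¹) * (y * b * y⁻¹))) := by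
      simp only [hf, Finset.sum_mul, map_sum]
      rw [Finset.sum_comm]
      refine Finset.sum_congr rfl fun x _ => ?_
      rw [Finset.sum_comm]
      refine Finset.sum_congr rfl fun y _ => ?_
      simp only [ite_mul, one_mul, zero_mul, Finset.sum_ite_eq, Finset.mem_univ, if_true]
    rw [classInner_def, h1, hkey, map_div₀, map_mul, map_pow, map_natCast, map_div₀, map_mul]
    field_simp [natCard_ne_zero (G := G)]
  have hreal : conj (f c) = f c := by
    simp only [hf, map_sum, apply_ite (conj : ℂ → ℂ), map_one, map_zero]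
  have hfc : f c = (Nat.card G : ℂ) * ∑ χ : Cfsg.IrrCharacter G,
      (χ : G → ℂ) a * (χ : G → ℂ) b * conj ((χ : G → ℂ) c) / (χ : G → ℂ) 1 := by
    rw [← hreal]
    conv_lhs => rw [classFun_eq_sum hfcl]
    simp only [Finset.sum_apply, Pi.smul_apply, smul_eq_mul, map_sum, map_mul, hinner, map_natCast,
      Complex.conj_conj, Finset.mul_sum]
    exact Finset.sum_congr rfl fun χ _ => by ring
  -- count through the centralizers
  have hfib : ∀ z p : G, (∑ x : G, if x * z * x⁻¹ = p then (1 : ℂ) else 0) =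
      if IsConj z p then (Nat.card (Subgroup.centralizer ({z} : Set G)) : ℂ) else 0 := by
    intro z p
    split_ifs with h
    · obtain ⟨x0, rfl⟩ := isConj_iff.mp h
      rw [Finset.sum_boole, Nat.cast_inj, Nat.card_eq_fintype_card, ← Fintype.card_subtype]
      refine Fintype.card_congr ((Equiv.mulLeft x0⁻¹).subtypeEquiv fun x => ?_)
      rw [Subgroup.mem_centralizer_singleton_iff, Equiv.coe_mulLeft]
      constructor
      · intro e
        calc x0⁻¹ * x * z = x0⁻¹ * (x * z * x⁻¹) * x := by simp [mul_assoc]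
          _ = z * (x0⁻¹ * x) := by rw [e]; simp [mul_assoc]
      · intro e
        calc x * z * x⁻¹ = x0 * ((x0⁻¹ * x) * z) * x⁻¹ := by simp [mul_assoc]
          _ = x0 * z * x0⁻¹ := by rw [e]; simp [mul_assoc]
    · exact Finset.sum_eq_zero fun x _ => if_neg fun e => h (isConj_iff.mpr ⟨x, e⟩)
  set A := (Nat.card (Subgroup.centralizer ({a} : Set G)) : ℂ)
  set B := (Nat.card (Subgroup.centralizer ({b} : Set G)) : ℂ)
  have hcount : f c =
      A * B * (Nat.card {p : G × G // IsConj a p.1 ∧ IsConj b p.2 ∧ p.1 * p.2 = c} : ℂ) := by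
    have h1 : f c = ∑ p : G, ∑ q : G, (∑ x : G, if x * a * x⁻¹ = p then (1 : ℂ) else 0) *
        (∑ y : G, if y * b * y⁻¹ = q then (1 : ℂ) else 0) * (if p * q = c then 1 else 0) := by
      simp only [Finset.sum_mul_sum]
      calc f c = ∑ x : G, ∑ y : G, ∑ p : G, ∑ q : G,
            (if x * a * x⁻¹ = p then (1 : ℂ) else 0) * (if y * b * y⁻¹ = q then 1 else 0) *
              (if p * q = c then 1 else 0) := by
            refine Finset.sum_congr rfl fun x _ => Finset.sum_congr rfl fun y _ => ?_
            rw [Finset.sum_eq_single (x * a * x⁻¹) (fun p _ hp => by simp [hp.symm]) (by simp),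
              Finset.sum_eq_single (y * b * y⁻¹) (fun q _ hq => by simp [hq.symm]) (by simp)]
            simp
        _ = ∑ p : G, ∑ q : G, ∑ x : G, ∑ y : G,
            (if x * a * x⁻¹ = p then (1 : ℂ) else 0) * (if y * b * y⁻¹ = q then 1 else 0) *
              (if p * q = c then 1 else 0) :=
            ((Finset.sum_congr rfl fun _ _ => Finset.sum_comm).trans Finset.sum_comm).trans
              (Finset.sum_congr rfl fun _ _ =>
                (Finset.sum_congr rfl fun _ _ => Finset.sum_comm).trans Finset.sum_comm)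
        _ = _ := by simp only [Finset.sum_mul]
    rw [h1, Nat.card_eq_fintype_card, Fintype.card_subtype, ← Finset.sum_boole,
      Fintype.sum_prod_type, Finset.mul_sum]
    refine Finset.sum_congr rfl fun p _ => ?_
    rw [Finset.mul_sum]
    refine Finset.sum_congr rfl fun q _ => ?_
    rw [hfib, hfib]
    by_cases h1 : IsConj a p <;> by_cases h2 : IsConj b q <;> by_cases h3 : p * q = c <;>
      simp only [h1, h2, h3, if_true, if_false, and_self, and_true, true_and, false_and, and_false,
        mul_zero, zero_mul, mul_one, one_mul, if_true, if_false, A, B]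
  have hclass : ∀ z : G, (Nat.card {x : G // IsConj z x} : ℂ) *
      (Nat.card (Subgroup.centralizer ({z} : Set G)) : ℂ) = (Nat.card G : ℂ) := by
    intro z
    rw [← Nat.cast_mul, ← card_carrier_mul_card_centralizer z]
    congr 2
  have hA : A ≠ 0 := Nat.cast_ne_zero.mpr Nat.card_pos.ne'
  have hB : B ≠ 0 := Nat.cast_ne_zero.mpr Nat.card_pos.ne'
  rw [finsum_eq_sum_of_fintype, eq_comm, div_mul_eq_mul_div, div_eq_iff natCard_ne_zero]
  apply mul_left_cancel₀ (mul_ne_zero hA hB)
  rw [← mul_assoc _ _ (Nat.card G : ℂ), ← hcount, hfc]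
  linear_combination ((Nat.card {x : G // IsConj b x} : ℂ) * B *
      ∑ χ : Cfsg.IrrCharacter G, (χ : G → ℂ) a * (χ : G → ℂ) b * conj ((χ : G → ℂ) c) /
        (χ : G → ℂ) 1) * hclass a +
    ((Nat.card G : ℂ) * ∑ χ : Cfsg.IrrCharacter G, (χ : G → ℂ) a * (χ : G → ℂ) b *
      conj ((χ : G → ℂ) c) / (χ : G → ℂ) 1) * hclass b

end Cfsg.Agent.S0840
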