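import Cfsg.Statements.S3333
import Cfsg.Agent.Lib.SelfNine.OctMain
import Cfsg.Agent.Lib.SelfNine.OctSetup
import Cfsg.Agent.Lib.SelfNine.OctSym

set_option autoImplicit false
set_option linter.style.haveILetI false
open Cfsg

namespace Cfsg.Agent.S3333

/-- Let G be a finite group with a Sylow 3-subgroup S of order 9 that is its own centralizer, with N_G(S)/S dihedral of order 8, and such that C_G(x) ≤ N_G(S) for every non-identity x in S. Then S is normal in G or G is isomorphic to the symmetric group of degree 6. -/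
theorem result {G : Type*} [Group G] [Finite G]
    (P : Sylow 3 G) (S : Subgroup G) (hSP : S = P) (hcard : Nat.card S = 9)
    (hC : Subgroup.centralizer (S : Set G) = S)
    (eN : Subgroup.normalizer (S : Set G) ⧸ S.subgroupOf (Subgroup.normalizer (S : Set G)) ≃* DihedralGroup 4)
    (hcent : ∀ x ∈ S, x ≠ 1 → Subgroup.centralizer ({x} : Set G) ≤ Subgroup.normalizer (S : Set G)) :
    S.Normal ∨ Nonempty (G ≃* Equiv.Perm (Fin 6)) := by
  subst hSP
  haveI : Fact (Nat.Prime 2) := ⟨Nat.prime_two⟩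
  haveI : Fact (Nat.Prime 3) := ⟨Nat.prime_three⟩
  set N := Subgroup.normalizer ((P : Subgroup G) : Set G) with hN
  set Q := (P : Subgroup G).subgroupOf N with hQ
  have hcomm : ∀ a ∈ (P : Subgroup G), ∀ b ∈ (P : Subgroup G), a * b = b * a := fun a ha b hb =>
    (Subgroup.mem_centralizer_iff.1 (hC.ge ha) b hb).symm
  have hQc : Nat.card Q = 9 := by
    rw [hQ, Nat.card_congr (Subgroup.subgroupOfEquivOfLe Subgroup.le_normalizer).toEquiv, hcard]
  have hexp : ∀ a ∈ (P : Subgroup G), a ^ 3 = 1 := by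
    intro a ha
    by_contra h3
    have ho : orderOf a = 9 := by
      have hd := orderOf_dvd_natCard (⟨a, ha⟩ : (P : Subgroup G))
      rw [hcard, Subgroup.orderOf_mk] at hd
      obtain ⟨m, hm, he⟩ := (Nat.dvd_prime_pow Nat.prime_three).1 (show orderOf a ∣ 3 ^ 2 from hd)
      interval_cases m
      · exact absurd (by rw [orderOf_eq_one_iff.1 (show orderOf a = 1 by simpa using he), one_pow]) h3
      · exact absurd (orderOf_dvd_iff_pow_eq_one.1 (by simp [he])) h3
      · simpa using he
    have hgen : Subgroup.zpowers a = (P : Subgroup G) :=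
      Subgroup.eq_of_le_of_card_ge (Subgroup.zpowers_le.2 ha) (by rw [Nat.card_zpowers, ho, hcard])
    have hab : ∀ k l : N, (k * l * k⁻¹ * l⁻¹ : N) ∈ Q := by
      intro k l
      have hp : ∀ k : N, ∃ i : ℤ, (k : G) * a * (k : G)⁻¹ = a ^ i := fun k => by
        have : (k : G) * a * (k : G)⁻¹ ∈ Subgroup.zpowers a :=
          hgen.ge ((Subgroup.mem_normalizer_iff.1 k.2 a).1 ha)
        obtain ⟨i, hi⟩ := Subgroup.mem_zpowers_iff.1 this
        exact ⟨i, hi.symm⟩
      obtain ⟨i, hi⟩ := hp k
      obtain ⟨j, hj⟩ := hp l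
      have hki : ∀ z : ℤ, (k : G) * a ^ z * (k : G)⁻¹ = a ^ (i * z) := fun z => by
        rw [← conj_zpow, hi, zpow_mul]
      have hlj : ∀ z : ℤ, (l : G) * a ^ z * (l : G)⁻¹ = a ^ (j * z) := fun z => by
        rw [← conj_zpow, hj, zpow_mul]
      have hkl : (k : G) * l * a * ((k : G) * l)⁻¹ = (l : G) * k * a * ((l : G) * k)⁻¹ := by
        calc (k : G) * l * a * ((k : G) * l)⁻¹ = (k : G) * ((l : G) * a * (l : G)⁻¹) * (k : G)⁻¹ := by group
          _ = a ^ (i * j) := by rw [hj, hki]
          _ = (l : G) * ((k : G) * a * (k : G)⁻¹) * (l : G)⁻¹ := by rw [hi, hlj, mul_comm]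
          _ = _ := by group
      have hg : ((k * l * k⁻¹ * l⁻¹ : N) : G) ∈ Subgroup.centralizer ((P : Subgroup G) : Set G) := by
        have hga : ((k * l * k⁻¹ * l⁻¹ : N) : G) * a * ((k * l * k⁻¹ * l⁻¹ : N) : G)⁻¹ = a := by
          simp only [Subgroup.coe_mul, Subgroup.coe_inv]
          set x : G := ((l : G) * (k : G))⁻¹ * a * ((l : G) * (k : G)) with hx
          have hxm : x ∈ Subgroup.zpowers a := by
            have hlk : ((l : G) * (k : G))⁻¹ ∈ N := inv_mem (mul_mem l.2 k.2)
            have := (Subgroup.mem_normalizer_iff.1 hlk a).1 ha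
            rw [inv_inv] at this
            exact hgen.ge this
          obtain ⟨z, hz⟩ := Subgroup.mem_zpowers_iff.1 hxm
          calc (k : G) * l * (k : G)⁻¹ * (l : G)⁻¹ * a * ((k : G) * l * (k : G)⁻¹ * (l : G)⁻¹)⁻¹
              = (k : G) * l * x * ((k : G) * l)⁻¹ := by rw [hx]; group
            _ = (l : G) * k * x * ((l : G) * k)⁻¹ := by
              rw [← hz, ← conj_zpow, hkl, conj_zpow]
            _ = a := by rw [hx]; group
        refine Subgroup.mem_centralizer_iff.2 fun b hb => ?_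
        obtain ⟨z, rfl⟩ := Subgroup.mem_zpowers_iff.1 (hgen.ge hb)
        have hco : Commute ((k * l * k⁻¹ * l⁻¹ : N) : G) a := mul_inv_eq_iff_eq_mul.1 hga
        exact (hco.zpow_right z).symm.eq
      exact Subgroup.mem_subgroupOf.2 (hC.le hg)
    have key : ∀ u v : DihedralGroup 4, u * v * u⁻¹ * v⁻¹ = 1 := fun u v => by
      obtain ⟨k, hk⟩ := QuotientGroup.mk'_surjective Q (eN.symm u)
      obtain ⟨l, hl⟩ := QuotientGroup.mk'_surjective Q (eN.symm v)
      apply eN.symm.injective
      rw [map_mul, map_mul, map_mul, map_inv, map_inv, map_one, ← hk, ← hl, ← map_inv, ← map_inv,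
        ← map_mul, ← map_mul, ← map_mul]
      exact (QuotientGroup.eq_one_iff _).2 (hab k l)
    exact absurd (key (DihedralGroup.r 1) (DihedralGroup.sr 0)) (by decide)
  have hti : Cfsg.Agent.SelfNine.NineTI P := ⟨hcard, hexp, hcomm, hcent⟩
  have hNc : Nat.card N = 72 := by
    rw [Q.card_eq_card_quotient_mul_card_subgroup, hQc, Nat.card_congr eN.toEquiv, DihedralGroup.nat_card]
  have K : Sylow 2 N := default
  have hKc : Nat.card (K : Subgroup N) = 8 := by
    rw [K.card_eq_multiplicity, hNc]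
    have h : Nat.factorization 72 2 = 3 := by
      rw [show (72 : ℕ) = 2 ^ 3 * 3 ^ 2 from rfl, Nat.factorization_mul (by norm_num) (by norm_num),
        Finsupp.add_apply, Nat.Prime.factorization_pow Nat.prime_two, Nat.Prime.factorization_pow Nat.prime_three,
        Finsupp.single_eq_same, Finsupp.single_eq_of_ne (by norm_num), add_zero]
    rw [h]; norm_num
  let π : (K : Subgroup N) →* DihedralGroup 4 :=
    eN.toMonoidHom.comp ((QuotientGroup.mk' Q).comp (K : Subgroup N).subtype)
  have hπ : Function.Injective π := by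
    refine (injective_iff_map_eq_one π).2 fun x hx => ?_
    have hxQ : (x : N) ∈ Q := (QuotientGroup.eq_one_iff _).1 ((map_eq_one_iff eN eN.injective).1 hx)
    have h1 := orderOf_dvd_natCard x
    have h2 := orderOf_dvd_natCard (⟨(x : N), hxQ⟩ : Q)
    rw [hKc] at h1
    rw [hQc, Subgroup.orderOf_mk, Subgroup.orderOf_coe] at h2
    exact orderOf_eq_one_iff.1 (Nat.dvd_one.1 (Nat.dvd_gcd h1 h2))
  let ψ := MulEquiv.ofBijective π ((Nat.bijective_iff_injective_and_card π).2
    ⟨hπ, by rw [hKc, DihedralGroup.nat_card]⟩)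
  obtain ⟨e1, e2, r, c, D⟩ := Cfsg.Agent.SelfNine.exists_octData hti hC
    (N.subtype.comp ((K : Subgroup N).subtype.comp ψ.symm.toMonoidHom))
    (Subtype.val_injective.comp (Subtype.val_injective.comp ψ.symm.injective))
    (fun d => Subtype.property (((ψ.symm d : (K : Subgroup N))) : N)) hNc
  rcases D.main hNc with h | ⟨hn, lam, hr, hc, huniq⟩
  · exact Or.inl (Subgroup.normalizer_eq_top_iff.1 (Subgroup.eq_top_of_card_eq _ (hNc.trans h.symm)))
  · exact Or.inr (D.sym6 hNc hC hn lam hr hc huniq)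

end Cfsg.Agent.S3333
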