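import Cfsg.Statements.S2131
import Cfsg.Agent.Lib.J1.Order
import Cfsg.Agent.Recognition.TriangleFive

set_option autoImplicit false
open Cfsg

namespace Cfsg.Agent.S2131

open Cfsg.Agent.Lib.J1.Packed Cfsg.Agent.Lib.J1.Spectrum Cfsg.Agent.Lib.J1.Data

/-- Word of the involution. -/
def wt : List Bool := [true, true, true, true, false, true, false]
/-- Word of the element of order three. -/
def wx : List Bool :=
  [false, true, false, true, true, true, false, false, true, true, true, false, true, false, true]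
/-- Word of the element of order five. -/
def wy : List Bool :=
  [true, false, false, false, true, true, false, true, false, true, true, false, true, false, false, false]

theorem checks : eqb (powP (wordP wt) 2) one = true ∧ toMat (wordP wt) ≠ 1 ∧
    eqb (powP (wordP wx) 3) one = true ∧ toMat (wordP wx) ≠ 1 ∧ eqb (powP (wordP wy) 5) one = true ∧
    eqb (powP (mul (wordP wx) (wordP wy)) 2) one = true ∧
    eqb (mul (wordP wt) (wordP wx)) (mul (wordP wx) (wordP wt)) = true ∧
    eqb (mul (wordP wt) (wordP wy)) (mul (wordP wy) (wordP wt)) = true := by decide +kernel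

/-- The Janko group J₁ (the group generated by two explicit 7 × 7 matrices over the integers modulo 11) has an involution whose centraliser is isomorphic to the direct product of a group of order 2 with the alternating group of degree 5. -/
theorem result : ∃ t : ↥Cfsg.Spor.J1, orderOf t = 2 ∧ Nonempty (↥(Subgroup.centralizer ({t} : Set ↥Cfsg.Spor.J1)) ≃* Multiplicative (ZMod 2) × ↥(alternatingGroup (Fin 5))) := by
  classical
  obtain ⟨c1, c2, c3, c4, c5, c6, c7, c8⟩ := checks
  obtain ⟨t₀, ht, htv⟩ := exists_word wt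
  obtain ⟨x₀, hx, hxv⟩ := exists_word wx
  obtain ⟨y₀, hy, hyv⟩ := exists_word wy
  set t : ↥Cfsg.Spor.J1 := ⟨t₀, ht⟩
  set x : ↥Cfsg.Spor.J1 := ⟨x₀, hx⟩
  set y : ↥Cfsg.Spor.J1 := ⟨y₀, hy⟩
  have hm : ∀ w, Wf (wordP w) := wf_wordP
  have pw : ∀ {g : GL (Fin 7) (ZMod 11)} {m : P7} (n : ℕ), g.1 = toMat m → Wf m → eqb (powP m n) one = true →
      g ^ n = 1 := fun {g m} n hg hw h => Units.ext (by
    rw [Units.val_pow_eq_pow_val, hg, ← toMat_powP hw, eq_of_eqb h, toMat_one, Units.val_one])
  have cm : ∀ {g h : GL (Fin 7) (ZMod 11)} {m k : P7}, g.1 = toMat m → h.1 = toMat k → Wf m → Wf k →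
      eqb (mul m k) (mul k m) = true → g * h = h * g := fun {g h m k} hg hh hw hk e => Units.ext (by
    rw [Units.val_mul, Units.val_mul, hg, hh, ← toMat_mul hw hk, eq_of_eqb e, toMat_mul hk hw])
  have ht2 : t ^ 2 = 1 := Subtype.ext (pw 2 htv (hm _) c1)
  have ht1 : t ≠ 1 := fun h => c2 (by rw [← htv]; exact congrArg (fun z : ↥Cfsg.Spor.J1 => (z : GL (Fin 7) (ZMod 11)).1) h)
  have hord : orderOf t = 2 := orderOf_eq_prime ht2 ht1
  have hx3 : x ^ 3 = 1 := Subtype.ext (pw 3 hxv (hm _) c3)
  have hx1 : x ≠ 1 := fun h => c4 (by rw [← hxv]; exact congrArg (fun z : ↥Cfsg.Spor.J1 => (z : GL (Fin 7) (ZMod 11)).1) h)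
  have hy5 : y ^ 5 = 1 := Subtype.ext (pw 5 hyv (hm _) c5)
  have hxy : (x * y) ^ 2 = 1 := Subtype.ext (pw (g := x₀ * y₀) 2
    (by rw [Units.val_mul, hxv, hyv, toMat_mul (hm _) (hm _)]) (wf_mul _ _) c6)
  set C := Subgroup.centralizer ({t} : Set ↥Cfsg.Spor.J1)
  have hxC : x ∈ C := Subgroup.mem_centralizer_singleton_iff.2 (Subtype.ext (cm htv hxv (hm _) (hm _) c7).symm)
  have hyC : y ∈ C := Subgroup.mem_centralizer_singleton_iff.2 (Subtype.ext (cm htv hyv (hm _) (hm _) c8).symm)
  have htC : t ∈ C := Subgroup.mem_centralizer_singleton_iff.2 rfl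
  obtain ⟨e⟩ := Recognition.TriangleFive.presented_alt
  have hf : ∀ r ∈ Recognition.TriangleFive.relA, FreeGroup.lift (![(⟨x, hxC⟩ : C), ⟨y, hyC⟩]) r = 1 := by
    rintro r (rfl | rfl | rfl) <;> refine Subtype.ext ?_ <;> simp [hx3, hy5, hxy]
  set φ₀ := PresentedGroup.toGroup hf with hφ₀
  set φ : alternatingGroup (Fin 5) →* C := φ₀.comp e.symm.toMonoidHom with hφ
  have hφi : Function.Injective φ := by
    rw [← MonoidHom.ker_eq_bot_iff]
    have := alternatingGroup.isSimpleGroup_five
    refine (IsSimpleGroup.eq_bot_or_eq_top_of_normal φ.ker inferInstance).resolve_right fun h => hx1 ?_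
    have h0 : φ₀ (PresentedGroup.of 0) = 1 := by
      have := DFunLike.congr_fun (MonoidHom.ker_eq_top_iff.1 h) (e (PresentedGroup.of 0))
      simpa [hφ] using this
    rw [hφ₀, PresentedGroup.toGroup.of] at h0
    exact congrArg Subtype.val h0
  have htcomm : ∀ a : C, Commute (⟨t, htC⟩ : C) a := fun a =>
    Subtype.ext (Subgroup.mem_centralizer_singleton_iff.1 a.2).symm
  let T' : Multiplicative (ZMod 2) →* C :=
    { toFun := fun i => (⟨t, htC⟩ : C) ^ (Multiplicative.toAdd i).val
      map_one' := by simp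
      map_mul' := fun i j => by
        rw [← pow_add, toAdd_mul, ZMod.val_add]
        exact (pow_eq_pow_mod _ (Subtype.ext ht2)).symm }
  let ψ : Multiplicative (ZMod 2) × alternatingGroup (Fin 5) →* C :=
    T'.noncommCoprod φ fun i g => (htcomm (φ g)).pow_left _
  have hψi : Function.Injective ψ := by
    rw [injective_iff_map_eq_one]
    rintro ⟨i, g⟩ h
    change (⟨t, htC⟩ : C) ^ (Multiplicative.toAdd i).val * φ g = 1 at h
    obtain ⟨v, rfl⟩ : ∃ v, Multiplicative.ofAdd v = i := ⟨Multiplicative.toAdd i, rfl⟩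
    rcases (by decide : ∀ v : ZMod 2, v = 0 ∨ v = 1) v with rfl | rfl
    · simp only [toAdd_ofAdd, ZMod.val_zero, pow_zero, one_mul] at h
      rw [(injective_iff_map_eq_one φ).1 hφi g h]
      rfl
    · exfalso
      simp only [toAdd_ofAdd, ZMod.val_one, pow_one] at h
      have hg : g ∈ Subgroup.center (alternatingGroup (Fin 5)) := Subgroup.mem_center_iff.2 fun k => hφi (by
        rw [map_mul, map_mul, eq_inv_of_mul_eq_one_right h]
        exact (htcomm (φ k)).inv_left.eq.symm)
      rw [alternatingGroup.center_eq_bot (by simp), Subgroup.mem_bot] at hg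
      rw [hg, map_one, mul_one] at h
      exact ht1 (congrArg Subtype.val h)
  refine ⟨t, hord, ⟨(MulEquiv.ofBijective ψ ?_).symm⟩⟩
  have h120 : Nat.card (Multiplicative (ZMod 2) × alternatingGroup (Fin 5)) = 120 := by
    rw [Nat.card_prod, Recognition.TriangleFive.card_alt, Nat.card_congr Multiplicative.toAdd, Nat.card_zmod]
  obtain ⟨m, hm'⟩ : 120 ∣ Nat.card C := h120 ▸ Subgroup.card_dvd_of_injective ψ hψi
  have hdvd : m ∣ 1463 := by
    have := Subgroup.card_subgroup_dvd_card C
    rw [Lib.J1.Order.natCard_J1, hm', show (175560 : ℕ) = 120 * 1463 from rfl] at this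
    exact Nat.dvd_of_mul_dvd_mul_left (by norm_num) this
  have hp : ∀ p : ℕ, p.Prime → p ∣ m → p ∉ ({7, 11, 19} : Set ℕ) := by
    intro p hp hpm hmem
    have := Fact.mk hp
    obtain ⟨g, hg⟩ := exists_prime_orderOf_dvd_card' (G := C) p (hm' ▸ hpm.mul_left 120)
    rw [← Subgroup.orderOf_coe] at hg
    have hco : Nat.Coprime (orderOf t) (orderOf (g : ↥Cfsg.Spor.J1)) := by
      rw [hord, hg]
      rcases hmem with rfl | rfl | rfl <;> norm_num
    have h := (Subgroup.mem_centralizer_singleton_iff.1 g.2).symm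
    have := Lib.J1.Spectrum.orderOf_mem (t * g)
    rw [Commute.orderOf_mul_eq_mul_orderOf_of_coprime h hco, hord, hg] at this
    rcases hmem with rfl | rfl | rfl <;> simp at this
  have hm1 : m = 1 := by
    by_contra hne
    obtain ⟨p, hpp, hpm⟩ := Nat.exists_prime_and_dvd hne
    refine hp p hpp hpm ?_
    have h := hpm.trans hdvd
    rw [show (1463 : ℕ) = 7 * 11 * 19 from rfl, hpp.dvd_mul, hpp.dvd_mul,
      Nat.prime_dvd_prime_iff_eq hpp (by norm_num), Nat.prime_dvd_prime_iff_eq hpp (by norm_num),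
      Nat.prime_dvd_prime_iff_eq hpp (by norm_num)] at h
    simpa [or_assoc] using h
  exact (Nat.bijective_iff_injective_and_card ψ).2 ⟨hψi, by rw [h120, hm', hm1]⟩

end Cfsg.Agent.S2131
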