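import Cfsg.Statements.S0165
import Cfsg.Agent.BlockCharsA.DefectZeroVanish
import Cfsg.Agent.Lib.Characters.Basic
-- import your own Cfsg.Agent.* helpers here

set_option autoImplicit false
open Cfsg

namespace Cfsg.Agent.S0165

/-- If p ^ n is the exact power of the prime p dividing the order of a finite group and p ^ n divides the degree of an irreducible complex representation, then its character vanishes at every element of order divisible by p. -/
theorem result {G : Type*} [Group G] [Finite G] {V : Type*} [AddCommGroup V] [Module ℂ V] [FiniteDimensional ℂ V] (ρ : Representation ℂ G V) [ρ.IsIrreducible] (p n : ℕ) (hp : p.Prime) (hn : p ^ n ∣ Nat.card G) (hn' : ¬ p ^ (n + 1) ∣ Nat.card G) (hdeg : p ^ n ∣ Module.finrank ℂ V) (x : G) (hx : p ∣ orderOf x) : ρ.character x = 0 := by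
  refine BlockCharsA.DefectZeroVanish.eq_zero_of_singular hp
    ⟨ρ.character, Characters.isIrrCharacter_character ρ⟩ ?_ hx
  have hd : Cfsg.charDegree ρ.character = Module.finrank ℂ V := by
    apply Nat.cast_injective (R := ℂ)
    exact (Blocks.charDegree_cast
      (⟨ρ.character, Characters.isIrrCharacter_character ρ⟩ : Cfsg.IrrCharacter G)).trans ρ.char_one
  have hle : (Nat.card G).factorization p ≤ n := by
    by_contra h
    push Not at h
    exact hn' ((Nat.pow_dvd_pow p h).trans (Nat.ordProj_dvd _ p))
  rw [hd]
  exact (Nat.pow_dvd_pow p hle).trans hdeg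

end Cfsg.Agent.S0165
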