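import Cfsg.Statements.S4025
import Cfsg.Agent.Lib.Involutions.EqualOrderConj.Frame
import Cfsg.Agent.Lib.Transfer.Fusion

set_option autoImplicit false
open Cfsg

namespace Cfsg.Agent.S4025

/-- Let p be a prime and G a finite group in which any two p-subgroups of the same order are conjugate, and suppose a Sylow p-subgroup P of G is elementary abelian of order pⁿ with n ≥ 3. Let N be the normalizer of P and K the largest normal subgroup of N of order prime to p, and assume N/K is solvable. Then either n = 3 and N/K embeds in the one-dimensional semi-affine group over the field with p³ elements (and for p = 2 it is isomorphic to the affine or the semi-affine group over the field with 8 elements), or n = 5, p = 2 and N/K is isomorphic to the one-dimensional semi-affine group over the field with 32 elements. -/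
theorem result {G : Type*} [Group G] [Finite G]
    {p : ℕ} [Fact p.Prime] (hC : ∀ H K : Subgroup G, IsPGroup p H → IsPGroup p K → Nat.card H = Nat.card K →
      ∃ g : G, K = H.map (MulAut.conj g).toMonoidHom) (P : Sylow p G) (n : ℕ) (hn : 3 ≤ n)
    (hel : Cfsg.IsElementaryAbelian p (P : Subgroup G)) (hcard : Nat.card P = p ^ n)
    (N : Subgroup G) (hN : N = Subgroup.normalizer ((P : Subgroup G) : Set G))
    (hsolv : Group.IsSolvable (↥N ⧸ Cfsg.pPrimeCore p ↥N)) :
    (n = 3 ∧ (∃ f : ↥N ⧸ Cfsg.pPrimeCore p ↥N →* ↥(Cfsg.semiaffineGroup (GaloisField p 3)), Function.Injective f) ∧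
      (p = 2 → Nonempty (↥N ⧸ Cfsg.pPrimeCore p ↥N ≃* Cfsg.semiaffineGroup (GaloisField 2 3)) ∨
               Nonempty (↥N ⧸ Cfsg.pPrimeCore p ↥N ≃* Cfsg.affineGroup (GaloisField 2 3)))) ∨
    (n = 5 ∧ p = 2 ∧ Nonempty (↥N ⧸ Cfsg.pPrimeCore p ↥N ≃* Cfsg.semiaffineGroup (GaloisField 2 5))) := by
  classical
  have hPle : (P : Subgroup G) ≤ N := hN ▸ Subgroup.le_normalizer
  haveI := hel.1
  haveI hn' : ((P : Subgroup G).subgroupOf N).Normal := by
    subst hN; infer_instance
  have hidx : ¬ p ∣ ((P : Subgroup G).subgroupOf N).index := (P.subtype hPle).not_dvd_index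
  refine Involutions.EqualOrderConj.Frame.main ((P : Subgroup G).subgroupOf N) ?_ ?_ hidx hn ?_ ?_ hsolv
  · exact ⟨⟨fun a b => Subtype.ext (Subtype.ext (congrArg Subtype.val
      (hel.1.is_comm.comm ⟨((a : N) : G), a.2⟩ ⟨((b : N) : G), b.2⟩) :))⟩⟩
  · intro a ha
    exact Subtype.ext (by rw [SubgroupClass.coe_pow]; exact hel.2 _ ha)
  · rw [← hcard]
    exact Nat.card_congr (Subgroup.subgroupOfEquivOfLe hPle).toEquiv
  intro A B hA hB hAB
  have hmapP : ∀ {X : Subgroup N}, X ≤ (P : Subgroup G).subgroupOf N → ∀ x ∈ X.map N.subtype, x ∈ (P : Subgroup G) := by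
    rintro X hX _ ⟨y, hy, rfl⟩
    exact hX hy
  have hcardmap : ∀ X : Subgroup N, Nat.card (X.map N.subtype) = Nat.card X := fun X =>
    (Nat.card_congr (Subgroup.equivMapOfInjective X N.subtype N.subtype_injective).toEquiv).symm
  obtain ⟨g, hg⟩ := hC (A.map N.subtype) (B.map N.subtype) (P.2.to_le (hmapP hA)) (P.2.to_le (hmapP hB))
    (by rw [hcardmap, hcardmap, hAB])
  have hfix : ∀ {X : Subgroup N}, X ≤ (P : Subgroup G).subgroupOf N → ∀ x ∈ (P : Subgroup G),
      (fun y => x * y * x⁻¹) '' ((X.map N.subtype : Subgroup G) : Set G) = (X.map N.subtype : Subgroup G) := by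
    intro X hX x hx
    have h1 : ∀ y ∈ X.map N.subtype, x * y * x⁻¹ = y := fun y hy => by
      rw [show x * y = y * x from congrArg Subtype.val (hel.1.is_comm.comm ⟨x, hx⟩ ⟨y, hmapP hX y hy⟩),
        mul_inv_cancel_right]
    ext z
    constructor
    · rintro ⟨y, hy, rfl⟩
      show x * y * x⁻¹ ∈ X.map N.subtype
      rw [h1 y hy]
      exact hy
    · exact fun hz => ⟨z, hz, h1 z hz⟩
  obtain ⟨n, hn, hnn⟩ := Transfer.Fusion.burnside_fusion_set P (hfix hA) (hfix hB) (g := g) (by
    rw [hg, Subgroup.coe_map (MulAut.conj g).toMonoidHom]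
    rfl)
  replace hn : n ∈ N := by rw [hN]; exact hn
  refine ⟨⟨n, hn⟩, Subgroup.map_injective N.subtype_injective (SetLike.coe_injective ?_)⟩
  rw [← hnn, Subgroup.coe_map, Subgroup.coe_map, Subgroup.coe_map, Set.image_image, Set.image_image]
  rfl

end Cfsg.Agent.S4025
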