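import Cfsg.Statements.S3908
import Cfsg.Agent.Lib.ZStar.PrimeIsolated

set_option autoImplicit false
open Cfsg

namespace Cfsg.Agent.S3908

/-- Let G be a finite group in which any two abelian subgroups of the same order are conjugate. Then a Sylow 2-subgroup of G is cyclic, elementary abelian or generalized quaternion, and for an odd prime p a Sylow p-subgroup of G is cyclic or has exponent dividing p. -/
theorem result {G : Type*} [Group G] [Finite G] (hB : ∀ A B : Subgroup G, IsMulCommutative ↥A → IsMulCommutative ↥B → Nat.card ↥A = Nat.card ↥B → ∃ g : G, B = A.map (MulAut.conj g).toMonoidHom) :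
    (∀ P : Sylow 2 G, IsCyclic ↥(P : Subgroup G) ∨ Cfsg.IsElementaryAbelian 2 (P : Subgroup G) ∨ ∃ k : ℕ, Nonempty (↥(P : Subgroup G) ≃* QuaternionGroup (2 ^ k))) ∧
    ∀ (p : ℕ) [Fact p.Prime], p ≠ 2 → ∀ P : Sylow p G, IsCyclic ↥(P : Subgroup G) ∨ ∀ x ∈ (P : Subgroup G), x ^ p = 1 := by
  have key : ∀ (p : ℕ) [Fact p.Prime] (P : Sylow p G),
      (∀ x ∈ (P : Subgroup G), x ^ p = 1) ∨ Cfsg.PRankLE p 1 G := by
    intro p _ P
    refine or_iff_not_imp_left.2 fun hne A hA hAp => ?_
    by_contra hlt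
    rw [pow_one, not_le] at hlt
    push Not at hne
    obtain ⟨x, hxP, hxp⟩ := hne
    have hpr : p.Prime := Fact.out
    obtain ⟨k, hk⟩ := IsPGroup.iff_orderOf.1 P.2 ⟨x, hxP⟩
    rw [Subgroup.orderOf_mk] at hk
    have hk2 : 2 ≤ k := by
      by_contra h
      apply hxp
      refine orderOf_dvd_iff_pow_eq_one.1 (hk ▸ ?_)
      interval_cases k <;> simp
    have hAP : IsPGroup p A := fun a => ⟨1, Subtype.ext (by simpa using hAp a a.2)⟩
    obtain ⟨m, hm⟩ := hAP.exists_card_eq
    have hm2 : 2 ≤ m := by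
      by_contra h
      rw [hm] at hlt
      interval_cases m
      · rw [pow_zero] at hlt; exact absurd hlt (not_lt.2 hpr.one_lt.le)
      · rw [pow_one] at hlt; exact absurd hlt (lt_irrefl p)
    obtain ⟨A₀', hA₀'⟩ := Sylow.exists_subgroup_card_pow_prime p (G := A) (n := 2)
      (hm ▸ pow_dvd_pow p hm2)
    have hc : Nat.card (Subgroup.zpowers (x ^ p ^ (k - 2))) = p ^ 2 := by
      rw [Nat.card_zpowers, orderOf_pow_of_dvd (pow_ne_zero _ hpr.ne_zero)
        (hk ▸ pow_dvd_pow p (Nat.sub_le k 2)), hk, Nat.pow_div (Nat.sub_le k 2) hpr.pos]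
      congr 1
      omega
    haveI := hA
    obtain ⟨g, hg⟩ := hB (A₀'.map A.subtype) (Subgroup.zpowers (x ^ p ^ (k - 2))) inferInstance
      inferInstance (by rw [Subgroup.card_map_of_injective A.subtype_injective, hA₀', hc])
    have hall : ∀ y ∈ Subgroup.zpowers (x ^ p ^ (k - 2)), y ^ p = 1 := by
      rw [hg]
      rintro _ ⟨_, ⟨a, -, rfl⟩, rfl⟩
      rw [← map_pow, Subgroup.coe_subtype, hAp a a.2, map_one]
    have h1 := orderOf_dvd_of_pow_eq_one (hall _ (Subgroup.mem_zpowers _))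
    rw [← Nat.card_zpowers, hc] at h1
    have := Nat.le_of_dvd hpr.pos h1
    nlinarith [hpr.two_le]
  refine ⟨fun P => ?_, fun p _ hp P => ?_⟩
  · haveI : Fact (Nat.Prime 2) := ⟨Nat.prime_two⟩
    rcases key 2 P with h | h
    · refine Or.inr (Or.inl ⟨⟨⟨fun a b => ?_⟩⟩, h⟩)
      have hinv : ∀ c : (P : Subgroup G), c⁻¹ = c := fun c =>
        inv_eq_of_mul_eq_one_left (Subtype.ext (by simpa [pow_two] using h c c.2))
      calc a * b = (a * b)⁻¹ := (hinv _).symm
        _ = b * a := by rw [mul_inv_rev, hinv, hinv]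
    · rcases PGroups.UniqueSubgroup.isCyclic_or_quaternion P.2
        (ZStar.PrimeIsolated.eq_of_card_prime h P) with h' | ⟨-, h'⟩
      · exact Or.inl h'
      · exact Or.inr (Or.inr h')
  · rcases key p P with h | h
    · exact Or.inr h
    · exact Or.inl (ZStar.PrimeIsolated.isCyclic_of_rank_one hp h P)

end Cfsg.Agent.S3908
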