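import Cfsg.Statements.S3911
import Cfsg.Agent.GenA.RankTwo.Basic

set_option autoImplicit false
open Cfsg

namespace Cfsg.Agent.S3911

open Subgroup in
/-- In a finite cyclic group containing `T`, elements of order dividing `|T|` lie in `T`. -/
theorem mem_of_orderOf_dvd_card_cyclic {G : Type*} [Group G] [Finite G] {T P : Subgroup G}
    [IsCyclic P] (hTP : T ≤ P) {u : G} (hu : u ∈ P) (h : orderOf u ∣ Nat.card T) : u ∈ T := by
  classical
  haveI : Fintype P := Fintype.ofFinite _
  have hc : Nat.card (T.subgroupOf P) = Nat.card T :=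
    Nat.card_congr (Subgroup.subgroupOfEquivOfLe hTP).toEquiv
  have hsub : (Finset.univ.filter fun a : P => a ∈ T.subgroupOf P) =
      Finset.univ.filter fun a : P => a ^ Nat.card T = 1 := by
    refine Finset.eq_of_subset_of_card_le ?_ ?_
    · intro a ha
      rw [Finset.mem_filter] at ha ⊢
      exact ⟨Finset.mem_univ _, orderOf_dvd_iff_pow_eq_one.mp
        (hc ▸ Subgroup.orderOf_dvd_natCard _ ha.2)⟩
    · refine (IsCyclic.card_pow_eq_one_le Nat.card_pos).trans ?_
      rw [← hc, Nat.card_eq_fintype_card, Fintype.card_subtype]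
  have := (Finset.ext_iff.mp hsub ⟨u, hu⟩).mpr (Finset.mem_filter.mpr
    ⟨Finset.mem_univ _, orderOf_dvd_iff_pow_eq_one.mp (by rwa [← Subgroup.orderOf_coe])⟩)
  exact (Finset.mem_filter.mp this).2

open Subgroup in
/-- A finite group with a subgroup in the Frattini subgroup containing all commutators is
nilpotent. -/
theorem isNilpotent_of_commutator_le_frattini {K : Type*} [Group K] [Finite K]
    (h : ∀ x y : K, x * y * x⁻¹ * y⁻¹ ∈ frattini K) : Group.IsNilpotent K := by
  refine ((Group.isNilpotent_of_finite_tfae (G := K)).out 0 2 rfl rfl).mpr ?_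
  intro H hH
  refine ⟨fun n hn g => ?_⟩
  have := H.mul_mem (frattini_le_coatom hH (h g n)) hn
  simpa [mul_assoc] using this

open Subgroup in
/-- A Sylow subgroup of a finite nilpotent group inside the Frattini subgroup is trivial. -/
theorem sylow_eq_bot_of_le_frattini {K : Type*} [Group K] [Finite K] [Group.IsNilpotent K] {p : ℕ}
    [Fact p.Prime] (P : Sylow p K) (h : (P : Subgroup K) ≤ frattini K) : (P : Subgroup K) = ⊥ := by
  have hn : (P : Subgroup K).Normal := inferInstance
  obtain ⟨C, hC⟩ := exists_right_complement'_of_coprime P.card_coprime_index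
  have htop : C = ⊤ := frattini_nongenerating
    (top_le_iff.mp (by rw [← hC.sup_eq_top, sup_comm C]; exact sup_le_sup_right h C))
  exact disjoint_top.mp (htop ▸ hC.disjoint)

/-- In a group whose equal-order abelian subgroups are conjugate, an odd prime dividing both the
order and the index of a normal subgroup has cyclic Sylow subgroups. -/
theorem sylow_cyclic {G : Type*} [Group G] [Finite G] (hB : ∀ A B : Subgroup G, IsMulCommutative ↥A → IsMulCommutative ↥B → Nat.card ↥A = Nat.card ↥B → ∃ g : G, B = A.map (MulAut.conj g).toMonoidHom)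
    (M : Subgroup G) [M.Normal] {p : ℕ} [hp : Fact p.Prime] (hp2 : p ≠ 2) (hpM : p ∣ Nat.card M)
    (hpQ : p ∣ M.index) (P : Sylow p G) : IsCyclic ↥(P : Subgroup G) := by
  by_contra hnc
  haveI : Nontrivial ↥(P : Subgroup G) := not_subsingleton_iff_nontrivial.mp fun h =>
    hnc inferInstance
  haveI := P.2.center_nontrivial
  obtain ⟨z, hz⟩ : ∃ z : Subgroup.center ↥(P : Subgroup G), orderOf z = p := by
    refine exists_prime_orderOf_dvd_card' p ?_
    obtain ⟨k, hk⟩ := IsPGroup.iff_card.mp (P.2.to_subgroup (Subgroup.center ↥(P : Subgroup G)))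
    rcases k with _ | k
    · exact absurd hk (by simpa using (Finite.one_lt_card (α := Subgroup.center ↥(P : Subgroup G))).ne')
    · exact hk ▸ dvd_pow_self p k.succ_ne_zero
  have hz' : orderOf ((z : ↥(P : Subgroup G)) : G) = p := by
    rw [Subgroup.orderOf_coe, Subgroup.orderOf_coe, hz]
  obtain ⟨w, hwP, hwp, hwz⟩ : ∃ w ∈ (P : Subgroup G), w ^ p = 1 ∧
      w ∉ Subgroup.zpowers ((z : ↥(P : Subgroup G)) : G) := by
    by_contra h
    push_neg at h
    exact hnc (Cfsg.Agent.GenA.RankTwo.isCyclic_of_unique hp2 P.2
      (orderOf_dvd_iff_pow_eq_one.mp (dvd_of_eq hz')) h)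
  have hexp : ∀ x ∈ (P : Subgroup G), x ^ p = 1 := by
    intro x hx
    by_contra hxp
    obtain ⟨k, hk⟩ := (IsPGroup.iff_orderOf.mp P.2) ⟨x, hx⟩
    rw [← Subgroup.orderOf_coe] at hk
    have hk2 : 2 ≤ k := by
      by_contra hlt
      refine hxp (orderOf_dvd_iff_pow_eq_one.mp ?_)
      rw [hk]
      interval_cases k <;> simp
    set c := x ^ p ^ (k - 2) with hc
    have hco : orderOf c = p ^ 2 := by
      rw [hc, orderOf_pow' _ (pow_ne_zero _ hp.out.ne_zero), hk,
        Nat.gcd_eq_right (pow_dvd_pow p (by omega : k - 2 ≤ k)),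
        Nat.pow_div (by omega : k - 2 ≤ k) hp.out.pos, show k - (k - 2) = 2 by omega]
    set a := ((z : ↥(P : Subgroup G)) : G) with ha
    have haw : Commute a w := by
      have := congrArg Subtype.val (Subgroup.mem_center_iff.mp z.2 ⟨w, hwP⟩)
      exact this.symm
    set E := Subgroup.closure ({a, w} : Set G) with hE
    have hEc : IsMulCommutative ↥E := by
      rw [hE]
      refine Subgroup.isMulCommutative_closure ?_
      rintro u (rfl | rfl) v (rfl | rfl)
      exacts [rfl, haw.eq, haw.eq.symm, rfl]
    have hEp : ∀ e ∈ E, e ^ p = 1 := by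
      intro e he
      induction he using Subgroup.closure_induction with
      | mem u hu =>
        rcases hu with rfl | rfl
        · exact orderOf_dvd_iff_pow_eq_one.mp (dvd_of_eq hz')
        · exact hwp
      | one => simp
      | mul u v hu hv iu iv =>
        rw [Commute.mul_pow (congrArg Subtype.val
          (hEc.is_comm.comm (⟨u, hu⟩ : ↥E) ⟨v, hv⟩)), iu, iv, one_mul]
      | inv u _ iu => simp [iu]
    have hEP : E ≤ (P : Subgroup G) := (Subgroup.closure_le _).mpr
      (by rintro u (rfl | rfl); exacts [(z : ↥(P : Subgroup G)).2, hwP])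
    obtain ⟨j, hj⟩ := IsPGroup.iff_card.mp (P.2.to_le hEP)
    have hlt : Subgroup.zpowers a < E := lt_of_le_of_ne
      (Subgroup.zpowers_le.mpr (Subgroup.subset_closure (by simp)))
      (fun h => hwz (h.symm ▸ Subgroup.subset_closure (by simp)))
    have h2j : 2 ≤ j := by
      have h1 : Nat.card (Subgroup.zpowers a) < Nat.card E := by
        by_contra h
        exact hlt.ne (Subgroup.eq_of_le_of_card_ge hlt.le (not_lt.mp h))
      rw [Nat.card_zpowers, hz', hj] at h1
      by_contra h
      have : p ^ j ≤ p ^ 1 := Nat.pow_le_pow_right hp.out.pos (by omega)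
      rw [pow_one] at this
      omega
    obtain ⟨F, hF⟩ := Sylow.exists_subgroup_card_pow_prime (G := ↥E) p (n := 2)
      (hj ▸ pow_dvd_pow p h2j)
    have hFc : Nat.card (F.map E.subtype) = p ^ 2 := by
      rw [Subgroup.card_map_of_injective E.subtype_injective, hF]
    have hFm : IsMulCommutative ↥(F.map E.subtype) := ⟨⟨fun u v => Subtype.ext (congrArg Subtype.val
      (hEc.is_comm.comm (⟨u.1, Subgroup.map_subtype_le F u.2⟩ : ↥E) ⟨v.1, Subgroup.map_subtype_le F v.2⟩) :)⟩⟩
    obtain ⟨g, hg⟩ := hB (F.map E.subtype) (Subgroup.zpowers c) hFm inferInstance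
      (by rw [hFc, Nat.card_zpowers, hco])
    have hcm : c ∈ (F.map E.subtype).map (MulAut.conj g).toMonoidHom := hg ▸ Subgroup.mem_zpowers c
    obtain ⟨e, he, hec⟩ := hcm
    have h1 : c ^ p = 1 := by
      rw [← hec, ← map_pow, hEp e (Subgroup.map_subtype_le F he), map_one]
    have h2 := orderOf_dvd_iff_pow_eq_one.mpr h1
    rw [hco] at h2
    exact absurd (Nat.le_of_dvd hp.out.pos h2) (not_le.mpr (lt_self_pow₀ hp.out.one_lt (by norm_num)))
  obtain ⟨m, hm⟩ := exists_prime_orderOf_dvd_card' p hpM
  have hm' : orderOf (m : G) = p := by rw [Subgroup.orderOf_coe, hm]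
  have hPM : (P : Subgroup G) ≤ M := by
    intro x hx
    rcases eq_or_ne x 1 with rfl | hx1
    · exact M.one_mem
    obtain ⟨g, hg⟩ := hB (Subgroup.zpowers (m : G)) (Subgroup.zpowers x) inferInstance inferInstance
      (by rw [Nat.card_zpowers, Nat.card_zpowers, hm', orderOf_eq_prime (hexp x hx) hx1])
    obtain ⟨e, he, hex⟩ := (hg ▸ Subgroup.mem_zpowers x :
      x ∈ (Subgroup.zpowers (m : G)).map (MulAut.conj g).toMonoidHom)
    rw [← hex]
    exact Subgroup.Normal.conj_mem inferInstance e (Subgroup.zpowers_le.mpr m.2 he) g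
  exact P.not_dvd_index (hpQ.trans (Subgroup.index_dvd_of_le hPM))

/-- Lift an abelian subgroup of `G ⧸ M` to an abelian subgroup of canonical order. -/
theorem exists_abelian_lift {G : Type*} [Group G] [Finite G] (hB : ∀ A B : Subgroup G, IsMulCommutative ↥A → IsMulCommutative ↥B → Nat.card ↥A = Nat.card ↥B → ∃ g : G, B = A.map (MulAut.conj g).toMonoidHom)
    (M : Subgroup G) [M.Normal] (hM : Odd (Nat.card ↥M)) (A : Subgroup (G ⧸ M))
    (hA : IsMulCommutative ↥A) :
    ∃ K : Subgroup G, K.map (QuotientGroup.mk' M) = A ∧ IsMulCommutative ↥K ∧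
      ∀ p : ℕ, p.Prime → (Nat.card K).factorization p = if p ∣ Nat.card A then
        (Nat.card A).factorization p + (Nat.card M).factorization p else 0 := by
  classical
  set π := QuotientGroup.mk' M with hπ
  haveI : WellFoundedLT (Subgroup G) := Finite.to_wellFoundedLT
  obtain ⟨K, hK, hmin⟩ := exists_minimal_of_wellFoundedLT (fun H : Subgroup G => H.map π = A)
    ⟨A.comap π, Subgroup.map_comap_eq_self_of_surjective (QuotientGroup.mk'_surjective M) A⟩
  set N := M.subgroupOf K with hN
  haveI : N.Normal := by rw [hN]; infer_instance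
  have hNΦ : N ≤ frattini K := by
    rw [frattini, Order.radical]
    refine le_iInf₂ fun C hC => ?_
    by_contra hNC
    have htop : C ⊔ N = ⊤ := hC.2 _ (lt_of_le_of_ne le_sup_left fun h => hNC (h ▸ le_sup_right))
    have hCA : (C.map K.subtype).map π = A := by
      rw [← hK]
      refine le_antisymm (Subgroup.map_mono (Subgroup.map_subtype_le C)) ?_
      have : K ≤ C.map K.subtype ⊔ M := by
        calc K = (⊤ : Subgroup K).map K.subtype := by rw [← MonoidHom.range_eq_map, Subgroup.range_subtype]
          _ = C.map K.subtype ⊔ N.map K.subtype := by rw [← Subgroup.map_sup, htop]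
          _ ≤ C.map K.subtype ⊔ M := sup_le_sup_left
              (by rw [hN, Subgroup.subgroupOf_map_subtype]; exact inf_le_left) _
      refine (Subgroup.map_mono this).trans ?_
      rw [Subgroup.map_sup, (Subgroup.map_eq_bot_iff M).mpr (QuotientGroup.ker_mk' M).ge, sup_bot_eq]
    have := hmin hCA (Subgroup.map_subtype_le C)
    exact hC.1 (top_le_iff.mp fun k _ => by
      obtain ⟨c, hc, hck⟩ := this k.2
      rwa [← Subtype.ext hck])
  have hcomm : ∀ x y : K, x * y * x⁻¹ * y⁻¹ ∈ N := by
    intro x y
    rw [hN, Subgroup.mem_subgroupOf, ← QuotientGroup.eq_one_iff]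
    have hx : π x ∈ A := hK ▸ Subgroup.mem_map_of_mem π x.2
    have hy : π y ∈ A := hK ▸ Subgroup.mem_map_of_mem π y.2
    have h : π x * π y = π y * π x := congrArg Subtype.val
      (hA.is_comm.comm (⟨π x, hx⟩ : ↥A) ⟨π y, hy⟩)
    calc ((((x * y * x⁻¹ * y⁻¹ : K) : G)) : G ⧸ M) = π x * π y * (π x)⁻¹ * (π y)⁻¹ := rfl
      _ = π y * π x * (π x)⁻¹ * (π y)⁻¹ := by rw [h]
      _ = 1 := by group
  haveI : Group.IsNilpotent K := isNilpotent_of_commutator_le_frattini fun x y => hNΦ (hcomm x y)
  have hcardKA : Nat.card A * Nat.card N = Nat.card K := by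
    set f := π.comp K.subtype with hf
    have h1 : f.range = A := by rw [hf, MonoidHom.range_comp, Subgroup.range_subtype, hK]
    have h2 : f.ker = N := by
      rw [hf, ← MonoidHom.comap_ker, hπ, QuotientGroup.ker_mk', hN]; rfl
    rw [← h1, ← h2, Nat.card_congr (QuotientGroup.quotientKerEquivRange f).toEquiv.symm,
      ← Subgroup.card_eq_card_quotient_mul_card_subgroup]
  have hAi : Nat.card A ∣ M.index := A.card_subgroup_dvd_card
  have hNM : Nat.card N ∣ Nat.card M := by
    have e : Nat.card (N.map K.subtype) = Nat.card N :=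
      Subgroup.card_map_of_injective K.subtype_injective
    rw [← e]
    exact Subgroup.card_dvd_of_le (by rw [hN, Subgroup.subgroupOf_map_subtype]; exact inf_le_left)
  -- Sylow structure of `K`
  have hsyl : ∀ (p : ℕ) [Fact p.Prime] (P : Sylow p K),
      IsMulCommutative ↥(P : Subgroup K) ∧ (Nat.card K).factorization p = if p ∣ Nat.card A then
        (Nat.card A).factorization p + (Nat.card M).factorization p else 0 := by
    intro p hp P
    by_cases hpA : p ∣ Nat.card A
    · rw [if_pos hpA]
      by_cases hpM : p ∣ Nat.card M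
      · have hp2 : p ≠ 2 := by
          rintro rfl
          exact (Nat.not_even_iff_odd.mpr hM) (even_iff_two_dvd.mpr hpM)
        obtain ⟨P0, hP0⟩ := (P.2.map K.subtype).exists_le_sylow
        have hcyc := sylow_cyclic hB M hp2 hpM (hpA.trans hAi) P0
        have hPc : IsCyclic ↥(P : Subgroup K) := by
          haveI : IsCyclic ↥((P : Subgroup K).map K.subtype) := Subgroup.isCyclic_of_le hP0
          exact isCyclic_of_injective
            ((P : Subgroup K).equivMapOfInjective K.subtype K.subtype_injective).toMonoidHom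
            (MulEquiv.injective _)
        refine ⟨inferInstance, ?_⟩
        have hK0 : Nat.card K ≠ 0 := Nat.card_pos.ne'
        have hA0 : Nat.card A ≠ 0 := Nat.card_pos.ne'
        have hN0 : Nat.card N ≠ 0 := Nat.card_pos.ne'
        rw [← hcardKA, Nat.factorization_mul hA0 hN0, Finsupp.add_apply, add_right_inj]
        refine le_antisymm ((Nat.factorization_le_iff_dvd hN0 Nat.card_pos.ne').mpr hNM p) ?_
        -- the Sylow subgroup of `M` inside `P0` lies in `K`
        set m := (Nat.card M).factorization p with hm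
        set n := (Nat.card K).factorization p with hn
        have hPcard : Nat.card ((P : Subgroup K).map K.subtype) = p ^ n := by
          rw [Subgroup.card_map_of_injective K.subtype_injective, P.card_eq_multiplicity]
        have hmn : m ≤ n := by
          by_contra hlt
          have hle : (P : Subgroup K).map K.subtype ≤ M := by
            -- both are subgroups of the cyclic group `P0`
            obtain ⟨P1, hP1⟩ : ∃ P1 : Subgroup G, P1 ≤ (P0 : Subgroup G) ∧ P1 ≤ M ∧
                Nat.card P1 = p ^ m := by
              obtain ⟨S⟩ := (inferInstance : Nonempty (Sylow p M))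
              obtain ⟨P2, hP2⟩ := (S.2.map M.subtype).exists_le_sylow
              obtain ⟨g, hg⟩ := MulAction.exists_smul_eq G P2 P0
              refine ⟨((S : Subgroup M).map M.subtype).map (MulAut.conj g).toMonoidHom, ?_, ?_, ?_⟩
              · rw [← hg]; exact Subgroup.map_mono hP2
              · rintro _ ⟨u, hu, rfl⟩
                exact Subgroup.Normal.conj_mem inferInstance u (Subgroup.map_subtype_le _ hu) g
              · rw [Subgroup.card_map_of_injective (MulAut.conj g).injective,
                  Subgroup.card_map_of_injective M.subtype_injective, S.card_eq_multiplicity]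
            obtain ⟨hP1a, hP1b, hP1c⟩ := hP1
            haveI := hcyc
            intro u hu
            refine hP1b (mem_of_orderOf_dvd_card_cyclic hP1a (hP0 hu) ?_)
            rw [hP1c]
            refine dvd_trans ?_ (pow_dvd_pow p (le_of_lt (not_le.mp hlt)))
            rw [← hPcard]
            exact ((P : Subgroup K).map K.subtype).orderOf_dvd_natCard hu
          have hPN : (P : Subgroup K) ≤ N := fun k hk => hle (Subgroup.mem_map_of_mem _ hk)
          have hbot := sylow_eq_bot_of_le_frattini P (hPN.trans hNΦ)
          have hcard : Nat.card (P : Subgroup K) = 1 := by rw [hbot]; exact Subgroup.card_bot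
          rw [P.card_eq_multiplicity] at hcard
          have h0 : n = 0 := by
            rcases Nat.pow_eq_one.mp hcard with h | h
            · exact absurd h hp.out.ne_one
            · exact h
          have : 0 < n := hp.out.factorization_pos_of_dvd hK0 (hpA.trans ⟨_, hcardKA.symm⟩)
          omega
        obtain ⟨P1, hP1⟩ := Sylow.exists_subgroup_card_pow_prime (G := ↥(P : Subgroup K)) p (n := m)
          (by rw [P.card_eq_multiplicity]; exact pow_dvd_pow p hmn)
        have hle : P1.map (P : Subgroup K).subtype ≤ N := by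
          rintro _ ⟨u, hu, rfl⟩
          change ((u : K) : G) ∈ M
          -- elements of `p`-power order at most `p^m` of the cyclic Sylow subgroup lie in `M`
          obtain ⟨S⟩ := (inferInstance : Nonempty (Sylow p M))
          have hu0 : ((u : K) : G) ∈ (P0 : Subgroup G) := hP0 (Subgroup.mem_map_of_mem _ u.2)
          have hou : orderOf ((u : K) : G) ∣ p ^ m := by
            rw [Subgroup.orderOf_coe, Subgroup.orderOf_coe, ← hP1]
            exact Subgroup.orderOf_dvd_natCard _ hu
          obtain ⟨P2, hP2⟩ := (S.2.map M.subtype).exists_le_sylow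
          obtain ⟨g, hg⟩ := MulAction.exists_smul_eq G P2 P0
          set T := ((S : Subgroup M).map M.subtype).map (MulAut.conj g).toMonoidHom with hT
          have hTP : T ≤ (P0 : Subgroup G) := by rw [← hg]; exact Subgroup.map_mono hP2
          have hTM : T ≤ M := by
            rintro _ ⟨v, hv, rfl⟩
            exact Subgroup.Normal.conj_mem inferInstance v (Subgroup.map_subtype_le _ hv) g
          have hTc : Nat.card T = p ^ m := by
            rw [hT, Subgroup.card_map_of_injective (MulAut.conj g).injective,
              Subgroup.card_map_of_injective M.subtype_injective, S.card_eq_multiplicity]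
          haveI : IsCyclic ↥(P0 : Subgroup G) := hcyc
          exact hTM (mem_of_orderOf_dvd_card_cyclic hTP hu0 (hTc ▸ hou))
        have := Subgroup.card_dvd_of_le hle
        rw [Subgroup.card_map_of_injective (Subgroup.subtype_injective _), hP1] at this
        exact (hp.out.pow_dvd_iff_le_factorization hN0).mp this
      · constructor
        · refine ⟨⟨fun x y => ?_⟩⟩
          have h1 : ((x * y * x⁻¹ * y⁻¹ : ↥(P : Subgroup K)) : K) ∈ N := hcomm x y
          obtain ⟨k, hk⟩ := (IsPGroup.iff_orderOf.mp P.2) (x * y * x⁻¹ * y⁻¹)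
          have h2 : orderOf ((x * y * x⁻¹ * y⁻¹ : ↥(P : Subgroup K)) : K) ∣ Nat.card M :=
            (N.orderOf_dvd_natCard h1).trans hNM
          rw [Subgroup.orderOf_coe, hk] at h2
          have hk0 : k = 0 := by
            rcases Nat.eq_zero_or_pos k with h | h
            · exact h
            · exact absurd ((dvd_pow_self p h.ne').trans h2) hpM
          rw [hk0, pow_zero, orderOf_eq_one_iff, mul_inv_eq_one, mul_inv_eq_iff_eq_mul] at hk
          exact hk
        · rw [← hcardKA, Nat.factorization_mul Nat.card_pos.ne' Nat.card_pos.ne', Finsupp.add_apply,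
            Nat.factorization_eq_zero_of_not_dvd hpM,
            Nat.factorization_eq_zero_of_not_dvd fun h => hpM (h.trans hNM)]
    · rw [if_neg hpA]
      have hPN : (P : Subgroup K) ≤ N := by
        intro k hk
        have h1 : orderOf (π (k : G)) ∣ orderOf (k : G) := orderOf_map_dvd _ _
        obtain ⟨j, hj⟩ := (IsPGroup.iff_orderOf.mp P.2) ⟨k, hk⟩
        rw [← Subgroup.orderOf_coe] at hj
        rw [Subgroup.orderOf_coe, hj] at h1
        obtain ⟨i, _, hi⟩ := (Nat.dvd_prime_pow hp.out).mp h1
        have h2 : orderOf (π (k : G)) ∣ Nat.card A :=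
          A.orderOf_dvd_natCard (hK ▸ Subgroup.mem_map_of_mem π k.2)
        rw [hi] at h2
        have hi0 : i = 0 := by
          rcases Nat.eq_zero_or_pos i with h | h
          · exact h
          · exact absurd ((dvd_pow_self p h.ne').trans h2) hpA
        rw [hi0, pow_zero, orderOf_eq_one_iff] at hi
        exact (QuotientGroup.eq_one_iff (k : G)).mp hi
      have hbot := sylow_eq_bot_of_le_frattini P (hPN.trans hNΦ)
      refine ⟨?_, ?_⟩
      · rw [hbot]; infer_instance
      · have hcard : Nat.card (P : Subgroup K) = 1 := by rw [hbot]; exact Subgroup.card_bot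
        rw [P.card_eq_multiplicity] at hcard
        rcases Nat.pow_eq_one.mp hcard with h | h
        · exact absurd h hp.out.ne_one
        · exact h
  refine ⟨K, hK, ?_, fun p hp => ?_⟩
  · have hn : ∀ {p : ℕ} [Fact p.Prime] (P : Sylow p K), (P : Subgroup K).Normal :=
      fun {p} _ P => inferInstance
    let e := Sylow.directProductOfNormal hn
    refine ⟨⟨fun x y => ?_⟩⟩
    obtain ⟨a, rfl⟩ := e.surjective x
    obtain ⟨b, rfl⟩ := e.surjective y
    rw [← map_mul, ← map_mul]
    congr 1
    funext p P
    haveI := Fact.mk (Nat.prime_of_mem_primeFactors p.2)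
    exact (hsyl p P).1.is_comm.comm (a p P) (b p P)
  · haveI := Fact.mk hp
    exact (hsyl p default).2

/-- Let G be a finite group in which any two abelian subgroups of the same order are conjugate. If M is a normal subgroup of G of odd order, then any two abelian subgroups of G/M of the same order are conjugate in G/M. -/
theorem result {G : Type*} [Group G] [Finite G] (hB : ∀ A B : Subgroup G, IsMulCommutative ↥A → IsMulCommutative ↥B → Nat.card ↥A = Nat.card ↥B → ∃ g : G, B = A.map (MulAut.conj g).toMonoidHom) (M : Subgroup G) [M.Normal] (hM : Odd (Nat.card ↥M)) :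
    ∀ A B : Subgroup (G ⧸ M), IsMulCommutative ↥A → IsMulCommutative ↥B → Nat.card ↥A = Nat.card ↥B →
      ∃ g : G ⧸ M, B = A.map (MulAut.conj g).toMonoidHom := by
  intro A B hA hB' hcard
  obtain ⟨K, hK, hKc, hKf⟩ := exists_abelian_lift hB M hM A hA
  obtain ⟨L, hL, hLc, hLf⟩ := exists_abelian_lift hB M hM B hB'
  have hKL : Nat.card K = Nat.card L := Nat.eq_of_factorization_eq Nat.card_pos.ne' Nat.card_pos.ne'
    fun p => by
      by_cases hp : p.Prime
      · rw [hKf p hp, hLf p hp, hcard]
      · rw [Nat.factorization_eq_zero_of_not_prime _ hp, Nat.factorization_eq_zero_of_not_prime _ hp]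
  obtain ⟨g, hg⟩ := hB K L hKc hLc hKL
  refine ⟨QuotientGroup.mk' M g, ?_⟩
  rw [← hL, hg, ← hK, Subgroup.map_map, Subgroup.map_map]
  rfl

end Cfsg.Agent.S3911
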