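import Cfsg.Statements.S3021
import Cfsg.Agent.Lib.Transfer.Frobenius

set_option autoImplicit false
open Cfsg

namespace Cfsg.Agent.S3021

open scoped commutatorElement

theorem conj_map_eq_of_le {G : Type*} [Group G] [Finite G] {H : Subgroup G} {g : G}
    (h : H.map (MulAut.conj g).toMonoidHom ≤ H) : H.map (MulAut.conj g).toMonoidHom = H :=
  Subgroup.eq_of_le_of_card_ge h
    (le_of_eq (Nat.card_congr (Subgroup.equivMapOfInjective H _ (MulAut.conj g).injective).toEquiv))


/-- Let G be a finite group, p a prime and H a p-subgroup of G that is extremely closed (for every g, the subgroup generated by H and g H g⁻¹ meets N_G(H) exactly in H). Then every p-subgroup Q of G containing H has N_G(Q) ≤ N_G(H); in particular every Sylow p-subgroup P of G containing H normalizes H, and H is strongly closed in P with respect to G. -/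
theorem result {G : Type*} [Group G] [Finite G] {p : ℕ} [Fact p.Prime] (H : Subgroup G) (hHp : IsPGroup p H) (hcl : Cfsg.IsExtremelyClosed H) : (∀ Q : Subgroup G, IsPGroup p Q → H ≤ Q → Subgroup.normalizer (Q : Set G) ≤ Subgroup.normalizer (H : Set G)) ∧ ∀ P : Sylow p G, H ≤ (P : Subgroup G) → (P : Subgroup G) ≤ Subgroup.normalizer (H : Set G) ∧ Cfsg.IsStronglyClosed H (P : Subgroup G) := by
  have key : ∀ Q : Subgroup G, IsPGroup p Q → H ≤ Q → Q ≤ Subgroup.normalizer (H : Set G) := by
    intro Q hQ hHQ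
    by_contra hne
    have hlt : Q ⊓ Subgroup.normalizer (H : Set G) < Q :=
      lt_of_le_not_ge inf_le_left fun h => hne (h.trans inf_le_right)
    have h2 := Cfsg.Agent.Transfer.Frobenius.lt_inf_normalizer hQ hlt
    refine h2.not_ge (le_inf inf_le_left fun g hg => ?_)
    refine Subgroup.mem_normalizer_iff_map_conj_eq.2 (conj_map_eq_of_le ?_)
    conv_rhs => rw [← hcl g]
    refine le_inf le_sup_right ?_
    refine (Subgroup.map_mono (le_inf hHQ Subgroup.le_normalizer :
      H ≤ Q ⊓ Subgroup.normalizer (H : Set G))).trans ?_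
    exact le_of_eq_of_le (Subgroup.mem_normalizer_iff_map_conj_eq.1 hg.2) inf_le_right
  refine ⟨fun Q hQ hHQ g hg => ?_, fun P hHP => ⟨key P P.2 hHP, hHP, fun x hx g hgx => ?_⟩⟩
  · refine Subgroup.mem_normalizer_iff_map_conj_eq.2 (conj_map_eq_of_le ?_)
    conv_rhs => rw [← hcl g]
    refine le_inf le_sup_right ((Subgroup.map_mono hHQ).trans ?_)
    exact le_of_eq_of_le (Subgroup.mem_normalizer_iff_map_conj_eq.1 hg) (key Q hQ hHQ)
  · rw [← hcl g]
    exact ⟨Subgroup.mem_sup_right ⟨x, hx, rfl⟩, key P P.2 hHP hgx⟩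

end Cfsg.Agent.S3021
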