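import Cfsg.Statements.S2174
import Cfsg.Agent.Lib.Chevalley.InvolCert.F4.Final

set_option autoImplicit false
open Cfsg

namespace Cfsg.Agent.S2174

/-- Conjugacy classes of involutions in the Chevalley group of type F₄ over a finite field F of characteristic two (the matrix group generated by the root elements x_r(t)). In this problem's root numbering for type F₄ (the Chevalley data module; fundamental roots p₁, p₂ short and p₃, p₄ long; roots indexed by their coefficient vectors in increasing order) let r = 47 be the highest root (2,4,3,2), s = 44 the highest short root (2,3,2,1), and α = 39 = (1,2,2,1), β = 45 = (2,4,2,1), an orthogonal short/long pair; consider the four elements x_r(1), x_s(1), x_r(1)x_s(1), x_α(1)x_β(1). Then: each invertible matrix equal to one of these four products lies in the group and has order 2; every element of order 2 of the group is conjugate in the group to one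 of them; and no two of them are conjugate in the group (so, the four matrices being distinct, the group has exactly four conjugacy classes of involutions). -/
theorem result {F : Type*} [Field F] [Fintype F] [CharP F 2] :
    (∀ y : GL Cfsg.Lie.chevF4.Idx F, ((y : GL Cfsg.Lie.chevF4.Idx F) : Matrix Cfsg.Lie.chevF4.Idx Cfsg.Lie.chevF4.Idx F) ∈ [Cfsg.Lie.chevF4.x F 47 1, Cfsg.Lie.chevF4.x F 44 1, Cfsg.Lie.chevF4.x F 47 1 * Cfsg.Lie.chevF4.x F 44 1, Cfsg.Lie.chevF4.x F 39 1 * Cfsg.Lie.chevF4.x F 45 1] → y ∈ Cfsg.Lie.chevF4.group F ∧ orderOf y = 2) ∧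
    (∀ g ∈ Cfsg.Lie.chevF4.group F, orderOf g = 2 → ∃ y ∈ Cfsg.Lie.chevF4.group F, ((y : GL Cfsg.Lie.chevF4.Idx F) : Matrix Cfsg.Lie.chevF4.Idx Cfsg.Lie.chevF4.Idx F) ∈ [Cfsg.Lie.chevF4.x F 47 1, Cfsg.Lie.chevF4.x F 44 1, Cfsg.Lie.chevF4.x F 47 1 * Cfsg.Lie.chevF4.x F 44 1, Cfsg.Lie.chevF4.x F 39 1 * Cfsg.Lie.chevF4.x F 45 1] ∧ ∃ h ∈ Cfsg.Lie.chevF4.group F, h * g * h⁻¹ = y) ∧
    (∀ y₁ ∈ Cfsg.Lie.chevF4.group F, ∀ y₂ ∈ Cfsg.Lie.chevF4.group F, ((y₁ : GL Cfsg.Lie.chevF4.Idx F) : Matrix Cfsg.Lie.chevF4.Idx Cfsg.Lie.chevF4.Idx F) ∈ [Cfsg.Lie.chevF4.x F 47 1, Cfsg.Lie.chevF4.x F 44 1, Cfsg.Lie.chevF4.x F 47 1 * Cfsg.Lie.chevF4.x F 44 1, Cfsg.Lie.chevF4.x F 39 1 * Cfsg.Lie.chevF4.x F 45 1] → ((y₂ : GL Cfsg.Lie.chevF4.Idx F) : Matrix Cfsg.Lie.chevF4.Idx Cfsg.Lie.chevF4.Idx F) ∈ [Cfsg.Lie.chevF4.x F 47 1, Cfsg.Lie.chevF4.x F 44 1, Cfsg.Lie.chevF4.x F 47 1 * Cfsg.Lie.chevF4.x F 44 1, Cfsg.Lie.chevF4.x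 F 39 1 * Cfsg.Lie.chevF4.x F 45 1] →
      (∃ h ∈ Cfsg.Lie.chevF4.group F, h * y₁ * h⁻¹ = y₂) → ((y₁ : GL Cfsg.Lie.chevF4.Idx F) : Matrix Cfsg.Lie.chevF4.Idx Cfsg.Lie.chevF4.Idx F) = ((y₂ : GL Cfsg.Lie.chevF4.Idx F) : Matrix Cfsg.Lie.chevF4.Idx Cfsg.Lie.chevF4.Idx F)) := by
  have hy : ∀ y : GL Cfsg.Lie.chevF4.Idx F, ((y : GL Cfsg.Lie.chevF4.Idx F) : Matrix Cfsg.Lie.chevF4.Idx Cfsg.Lie.chevF4.Idx F) ∈ [Cfsg.Lie.chevF4.x F 47 1, Cfsg.Lie.chevF4.x F 44 1, Cfsg.Lie.chevF4.x F 47 1 * Cfsg.Lie.chevF4.x F 44 1, Cfsg.Lie.chevF4.x F 39 1 * Cfsg.Lie.chevF4.x F 45 1] →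
      y = Cfsg.Agent.Chevalley.InvolCert.F4.y [23] ∨ y = Cfsg.Agent.Chevalley.InvolCert.F4.y [20] ∨ y = Cfsg.Agent.Chevalley.InvolCert.F4.y [23,20] ∨ y = Cfsg.Agent.Chevalley.InvolCert.F4.y [15,21] := by
    intro y h
    simp only [List.mem_cons, List.not_mem_nil, or_false] at h
    rcases h with h | h | h | h
    · exact Or.inl <| Units.ext (h.trans Cfsg.Agent.Chevalley.InvolCert.F4.coe0.symm)
    · exact Or.inr <| Or.inl <| Units.ext (h.trans Cfsg.Agent.Chevalley.InvolCert.F4.coe1.symm)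
    · exact Or.inr <| Or.inr <| Or.inl <| Units.ext (h.trans Cfsg.Agent.Chevalley.InvolCert.F4.coe2.symm)
    · exact Or.inr <| Or.inr <| Or.inr <| Units.ext (h.trans Cfsg.Agent.Chevalley.InvolCert.F4.coe3.symm)
  refine ⟨fun y h => ?_, fun g hg h2 => ?_, fun y₁ _ y₂ _ h₁ h₂ hc => ?_⟩
  · rcases hy y h with rfl | rfl | rfl | rfl
    · exact Cfsg.Agent.Chevalley.InvolCert.F4.mem0
    · exact Cfsg.Agent.Chevalley.InvolCert.F4.mem1
    · exact Cfsg.Agent.Chevalley.InvolCert.F4.mem2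
    · exact Cfsg.Agent.Chevalley.InvolCert.F4.mem3
  · obtain ⟨S, hS, x, hx, e⟩ := Cfsg.Agent.Chevalley.InvolCert.F4.classify hg h2
    rw [Cfsg.Agent.Chevalley.InvolCert.F4.classes_eq] at hS
    simp only [List.mem_cons, List.not_mem_nil, or_false] at hS
    rcases hS with rfl | rfl | rfl | rfl
    · exact ⟨_, Cfsg.Agent.Chevalley.InvolCert.F4.mem0.1, List.mem_cons.2 (Or.inl Cfsg.Agent.Chevalley.InvolCert.F4.coe0), x, hx, e⟩
    · exact ⟨_, Cfsg.Agent.Chevalley.InvolCert.F4.mem1.1, List.mem_cons.2 (Or.inr <| List.mem_cons.2 <| Or.inl Cfsg.Agent.Chevalley.InvolCert.F4.coe1), x, hx, e⟩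
    · exact ⟨_, Cfsg.Agent.Chevalley.InvolCert.F4.mem2.1, List.mem_cons.2 (Or.inr <| List.mem_cons.2 <| Or.inr <| List.mem_cons.2 <| Or.inl Cfsg.Agent.Chevalley.InvolCert.F4.coe2), x, hx, e⟩
    · exact ⟨_, Cfsg.Agent.Chevalley.InvolCert.F4.mem3.1, List.mem_cons.2 (Or.inr <| List.mem_cons.2 <| Or.inr <| List.mem_cons.2 <| Or.inr <| List.mem_cons.2 <| Or.inl Cfsg.Agent.Chevalley.InvolCert.F4.coe3), x, hx, e⟩
  · have hr : (Cfsg.Agent.Chevalley.InvolCert.disp (D := Cfsg.Lie.chevF4) y₁).rank =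
        (Cfsg.Agent.Chevalley.InvolCert.disp (D := Cfsg.Lie.chevF4) y₂).rank := Cfsg.Agent.Chevalley.InvolCert.rank_of_cj Cfsg.Agent.Chevalley.InvolCert.F4.sys
      Cfsg.Agent.Chevalley.Types.F4.certified (g := y₁) (h := y₂) hc
    have hne : ¬ Cfsg.Agent.Chevalley.InvolCert.Cj Cfsg.Agent.Chevalley.InvolCert.F4.sys
        (Cfsg.Agent.Chevalley.InvolCert.F4.y (K := F) [23]) (Cfsg.Agent.Chevalley.InvolCert.F4.y (K := F) [20]) :=
      Cfsg.Agent.Chevalley.InvolCert.not_cj_central Cfsg.Agent.Chevalley.InvolCert.F4.sys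
        Cfsg.Agent.Chevalley.Types.F4.certified Cfsg.Agent.Chevalley.InvolCert.F4.tbl_ok (by decide +kernel) (by decide +kernel)
        (I := [0,1,2,4,5,6,15,16,17,21,22,23,24,25,26,30,31,32,41,42,43,45,46,47])
        (by decide +kernel) (by decide +kernel) (by decide +kernel)
    obtain ⟨x, hx, e⟩ := hc
    have hne' : ¬ Cfsg.Agent.Chevalley.InvolCert.Cj Cfsg.Agent.Chevalley.InvolCert.F4.sys
        (Cfsg.Agent.Chevalley.InvolCert.F4.y (K := F) [20]) (Cfsg.Agent.Chevalley.InvolCert.F4.y (K := F) [23]) := fun ⟨g, hg, e'⟩ =>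
      hne ⟨g⁻¹, inv_mem hg, by rw [← e']; group⟩
    rcases hy y₁ h₁ with rfl | rfl | rfl | rfl <;>
      rcases hy y₂ h₂ with rfl | rfl | rfl | rfl <;>
      first
        | rfl
        | (simp only [Cfsg.Agent.Chevalley.InvolCert.F4.rank0, Cfsg.Agent.Chevalley.InvolCert.F4.rank1, Cfsg.Agent.Chevalley.InvolCert.F4.rank2, Cfsg.Agent.Chevalley.InvolCert.F4.rank3] at hr; omega)
        | exact absurd (Exists.intro x (And.intro hx e)) hne
        | exact absurd (Exists.intro x (And.intro hx e)) hne'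

end Cfsg.Agent.S2174
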