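import Cfsg.Statements.S5452
import Cfsg.Agent.Lib.Forms.U62Lift

set_option autoImplicit false
open Cfsg

namespace Cfsg.Agent.S5452

theorem lift_quotient {C Q : Type*} [Group C] [Group Q] (N : Subgroup C) [N.Normal]
    (e : C ⧸ N ≃* Q) (hN : ∀ z ∈ N, z ∈ Subgroup.center C ∧ z * z = 1)
    (hQ : ∀ f : C →* Q, Function.Surjective f →
      (∀ z, f z = 1 → z ∈ Subgroup.center C ∧ z * z = 1) →
      ∀ x : Q, orderOf x = 2 → ∃ y, orderOf y = 2 ∧ f y = x)
    (x : C ⧸ N) (hx : orderOf x = 2) : ∃ y : C, orderOf y = 2 ∧ (QuotientGroup.mk y : C ⧸ N) = x := by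
  obtain ⟨y, hy, hyx⟩ := hQ (e.toMonoidHom.comp (QuotientGroup.mk' N))
    (e.surjective.comp (QuotientGroup.mk'_surjective N))
    (fun z hz => hN z ((QuotientGroup.eq_one_iff z).1 (e.map_eq_one_iff.1 hz))) (e x)
    (by rw [MulEquiv.orderOf_eq, hx])
  exact ⟨y, hy, e.injective hyx⟩

theorem not_square {C : Type*} [Group C] (N : Subgroup C) [N.Normal]
    (hN : ∀ z ∈ N, z ∈ Subgroup.center C ∧ z * z = 1)
    (hl : ∀ x : C ⧸ N, orderOf x = 2 → ∃ y : C, orderOf y = 2 ∧ (QuotientGroup.mk y : C ⧸ N) = x)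
    (c : C) (hc : c * c ∈ N) : c * c = 1 := by
  haveI : Fact (Nat.Prime 2) := ⟨Nat.prime_two⟩
  have key : ∀ y : C, y * y = 1 → (QuotientGroup.mk y : C ⧸ N) = QuotientGroup.mk c → c * c = 1 := by
    intro y hy hyc
    obtain ⟨hz, hz2⟩ := hN _ (QuotientGroup.eq.1 hyc)
    set z := y⁻¹ * c with hzd
    calc c * c = y * (z * y) * z := by rw [hzd]; group
      _ = (y * y) * (z * z) := by rw [← Subgroup.mem_center_iff.1 hz y]; group
      _ = 1 := by rw [hy, hz2, one_mul]
  by_cases h1 : (QuotientGroup.mk c : C ⧸ N) = 1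
  · exact (hN c ((QuotientGroup.eq_one_iff c).1 h1)).2
  · obtain ⟨y, hy, hyc⟩ := hl _ (orderOf_eq_prime (by
      rw [pow_two, ← QuotientGroup.mk_mul, QuotientGroup.eq_one_iff]; exact hc) h1)
    exact key y (by rw [← pow_two, ← hy, pow_orderOf_eq_one]) hyc

/-- Let G be a finite group with an involution d whose centralizer C is quasisimple with C modulo the subgroup generated by d isomorphic to the projective special unitary group of dimension 6 over the field with four elements, and suppose some conjugate of d other than d commutes with d. Then every involution of C modulo the subgroup generated by d is the image of an involution of C, and d is not a square in G. -/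
theorem result {G : Type*} [Group G] [Finite G] (d : G) (hd : orderOf d = 2) (hq : Cfsg.IsQuasisimple ↥(Subgroup.centralizer ({d} : Set G))) [hzn : ((Subgroup.zpowers d).subgroupOf (Subgroup.centralizer ({d} : Set G))).Normal] (K : Type) [Field K] [Fintype K] (hK : Fintype.card K = 4) (e : ↥(Subgroup.centralizer ({d} : Set G)) ⧸ (Subgroup.zpowers d).subgroupOf (Subgroup.centralizer ({d} : Set G)) ≃* Cfsg.PSU 6 K 2) (hnwc : ∃ g : G, g * d * g⁻¹ ∈ Subgroup.centralizer ({d} : Set G) ∧ g * d * g⁻¹ ≠ d) : (∀ x : ↥(Subgroup.centralizer ({d} : Set G)) ⧸ (Subgroup.zpowers d).subgroupOf (Subgroup.centralizer ({d} : Set G)), orderOf x = 2 → ∃ y : ↥(Subgroup.centralizer ({d} : Set G)), orderOf y = 2 ∧ (QuotientGroup.mk y : ↥(Subgroup.centralizer ({d} : Set G)) ⧸ (Subgroup.zpowers d).subgroupOf (Subgroup.centralizer ({d} : Set G))) = x) ∧ ¬ ∃ g : G, g ^ 2 = d := by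
  have hdd : d * d = 1 := by rw [← pow_two, ← hd, pow_orderOf_eq_one]
  have hN : ∀ z ∈ (Subgroup.zpowers d).subgroupOf (Subgroup.centralizer ({d} : Set G)),
      z ∈ Subgroup.center ↥(Subgroup.centralizer ({d} : Set G)) ∧ z * z = 1 := by
    intro z hz
    obtain ⟨k, hk⟩ := Subgroup.mem_zpowers_iff.1 hz
    change d ^ k = (z : G) at hk
    refine ⟨Subgroup.mem_center_iff.2 fun c => Subtype.ext ?_, Subtype.ext ?_⟩
    · show (c : G) * (z : G) = (z : G) * (c : G)
      rw [← hk]
      exact (Commute.zpow_right (Subgroup.mem_centralizer_singleton_iff.1 c.2) k).eq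
    · show (z : G) * (z : G) = 1
      rw [← hk, ← (Commute.refl d).mul_zpow, hdd, one_zpow]
  have hlift := lift_quotient _ e hN fun f hf hker x hx =>
    Cfsg.Agent.Forms.U62Lift.exists_involution_lift hK f hf hker x hx
  refine ⟨hlift, ?_⟩
  rintro ⟨g, hg⟩
  have hgC : g ∈ Subgroup.centralizer ({d} : Set G) := by
    refine Subgroup.mem_centralizer_singleton_iff.2 ?_
    rw [← hg]
    exact (Commute.self_pow g 2).eq
  have h := not_square _ hN hlift ⟨g, hgC⟩ (by
    show g * g ∈ Subgroup.zpowers d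
    rw [← pow_two, hg]; exact Subgroup.mem_zpowers d)
  have h' : g * g = 1 := congrArg Subtype.val h
  rw [← pow_two, hg] at h'
  rw [h', orderOf_one] at hd
  exact absurd hd (by norm_num)

end Cfsg.Agent.S5452
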