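import Cfsg.Statements.S5402
import Cfsg.Agent.GenA.T23.Pt.Pair
import Cfsg.Agent.GenA.T23.Iso.Glue
import Cfsg.Agent.GenA.Heptad.Transport
-- import your own Cfsg.Agent.* helpers here

set_option autoImplicit false
open Cfsg

namespace Cfsg.Agent.S5402

/-- Let G be a finite group with an involution d whose centralizer C is quasisimple, such that C modulo the subgroup generated by d is of type M(22) with respect to some conjugacy class of 3-transpositions generating it, and also has an involution whose own centralizer is quasisimple with quotient by it isomorphic to the projective special unitary group of dimension 6 over the field with four elements and which is not weakly closed in its centralizer; and suppose some conjugate of d other than d commutes with d. Then the conjugacy class of d is a class of 3-transpositions generating G, and G with this class is of type M(23). -/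
theorem result {G : Type*} [Group G] [Finite G] (d : G) (hd : orderOf d = 2) (hq : Cfsg.IsQuasisimple (Subgroup.centralizer ({d} : Set G))) [((Subgroup.zpowers d).subgroupOf (Subgroup.centralizer ({d} : Set G))).Normal] (htype : ∃ E : Set ((Subgroup.centralizer ({d} : Set G)) ⧸ (Subgroup.zpowers d).subgroupOf (Subgroup.centralizer ({d} : Set G))), Cfsg.IsThreeTranspositionClass E ∧ Cfsg.IsOfTypeM22 _ E) (hinvol : ∃ d' : (Subgroup.centralizer ({d} : Set G)) ⧸ (Subgroup.zpowers d).subgroupOf (Subgroup.centralizer ({d} : Set G)), orderOf d' = 2 ∧ Cfsg.IsQuasisimple (Subgroup.centralizer ({d'} : Set _)) ∧ (∃ (K : Type) (_ : Field K) (_ : Fintype K), Fintype.card K = 4 ∧ ∃ _ : ((Subgroup.zpowers d').subgroupOf (Subgroup.centralizer ({d'} : Set _))).Normal, Nonempty ((Subgroup.centralizer ({d'} : Set _)) ⧸ (Subgroup.zpowers d').subgroupOf (Subgroup.centralizer ({d'} : Set _)) ≃* Cfsg.PSU 6 K 2)) ∧ ∃ g, g * d' * g⁻¹ ∈ Subgroup.centralizer ({d'} : Set _) ∧ g * d' * g⁻¹ ≠ d') (hnwc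 : ∃ g : G, g * d * g⁻¹ ∈ Subgroup.centralizer ({d} : Set G) ∧ g * d * g⁻¹ ≠ d) : Cfsg.IsThreeTranspositionClass (conjugatesOf d) ∧ Cfsg.IsOfTypeM23 G (conjugatesOf d) := by
  obtain ⟨E, hcls, h22⟩ := htype
  obtain ⟨hs, hperf⟩ := GenA.Heptad.setup_of_hyp d hd hq hcls h22
  obtain ⟨L₁, hL₁⟩ := GenA.Heptad.exists_good hs hperf
  have hdd : d * d = 1 := ThreeTransp.Basic.mul_self_of_orderOf_two hd
  have hd1 : d ≠ 1 := ThreeTransp.Basic.ne_one_of_orderOf_two hd
  obtain ⟨L, hL, hLnb⟩ := GenA.T23.exists_class hs hL₁ hdd hd1 hnwc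
  have F := GenA.T23.exists_frame hs hL hdd hd1 hperf hLnb
  have hne : (conjugatesOf d).Nonempty := ⟨d, mem_conjugatesOf_self⟩
  refine ⟨⟨GenA.T23.three_set F, ⟨d, mem_conjugatesOf_self, rfl⟩, GenA.T23.closure_top F hne⟩, ?_⟩
  haveI : Finite InvChar.Coset.Fi23G.GG := InvChar.Coset.Fi23G.finite_GG
  haveI := InvChar.Coset.FiUnit.finite_Fi
  obtain ⟨τ, F₀, -⟩ := GenA.T23.Pt.frame
  have hne₀ : GenA.T23.Pt.D0.Nonempty :=
    ⟨InvChar.Coset.Fi23G.z, mem_conjugatesOf_self⟩
  obtain ⟨e, he⟩ := GenA.T23.L.Iso.exists_iso (GenA.T23.grp F₀ hne₀) (GenA.T23.prim F₀ hne₀)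
    (GenA.T23.l23 F₀ hne₀) (GenA.T23.grp F hne) (GenA.T23.prim F hne) (GenA.T23.l23 F hne)
  obtain ⟨c, hc, hzc, hL7⟩ := GenA.T23.Pt.exists_pair
  have hz : e InvChar.Coset.Fi23G.z ∈ conjugatesOf d := he ▸ ⟨_, mem_conjugatesOf_self, rfl⟩
  refine ⟨GenA.T23.center_bot F hne, e InvChar.Coset.Fi23G.z, hz, e c, he ▸ ⟨c, hc, rfl⟩,
    fun h => hzc ?_, GenA.T23.type22 F hz, 1, one_ne_zero, ?_⟩
  · have := h.map e.symm
    rwa [e.symm_apply_apply, e.symm_apply_apply] at this
  · have h := ThreeTransp.Factor.proj_refl_congr (GenA.Tower.quotCongr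
      (GenA.Tower.subCongr e (GenA.Tower.map_pair e GenA.T23.Pt.D0 InvChar.Coset.Fi23G.z c))) hL7
    rw [he] at h
    exact h

end Cfsg.Agent.S5402
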