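import Cfsg.Statements.S1616
import Cfsg.Agent.Lib.ThreeTransp.Polar.Symp
import Cfsg.Agent.Lib.ThreeTransp.Polar.OddSize
import Cfsg.Agent.Lib.ThreeTransp.Polar.UnitMain
import Cfsg.Agent.Lib.ThreeTransp.Radical
-- import your own Cfsg.Agent.* helpers here

set_option autoImplicit false
open Cfsg

namespace Cfsg.Agent.S1616

/-- If O₂(⟨D_x⟩) is not central in ⟨D_x⟩ for some transposition x, the 3-transposition group is some Sp(2n, 2) or PSU(n, 2). -/
theorem result {G : Type*} [Group G] [Finite G] (hsol : ∀ N : Subgroup G, N.Normal → Group.IsSolvable ↥N → N = ⊥) (hperf : ⁅commutator G, commutator G⁆ = commutator G) {D : Set G} (hD : Cfsg.IsThreeTranspositionClass D) (x : G) (hx : x ∈ D) (h : ¬ Cfsg.pCore 2 ↥(Subgroup.closure {y : G | y ∈ D ∧ y ≠ x ∧ Commute x y}) ≤ Subgroup.center ↥(Subgroup.closure {y : G | y ∈ D ∧ y ≠ x ∧ Commute x y})) : (∃ n : ℕ, Nonempty (G ≃* Matrix.symplecticGroup (Fin n) (ZMod 2))) ∨ ∃ (F : Type) (_ : Field F)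 (_ : Fintype F) (n : ℕ), Fintype.card F = 4 ∧ Nonempty (G ≃* Cfsg.PSU n F 2) := by
  haveI : Fact (Nat.Prime 2) := ⟨Nat.prime_two⟩
  obtain ⟨hG, -⟩ := Agent.ThreeTransp.Classes.of_class hD
  obtain ⟨hprim, hw, -⟩ := Agent.ThreeTransp.Radical.primitive hsol hperf hD
  have C : Agent.ThreeTransp.Polar.Ctx D :=
    ⟨hG, hprim, hw, Agent.ThreeTransp.Radical.pCore_eq_bot hsol 2,
      hsol _ inferInstance (Group.isSolvable_of_comm fun u v => Subtype.ext
        (Subgroup.mem_center_iff.1 v.2 u))⟩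
  have hodd := Agent.ThreeTransp.Polar.oddLines_of_core C hx h
  obtain ⟨u, hu, v, hv, huv, hc⟩ := hw
  have hall : ∀ p ∈ D, ∀ q ∈ D, p ≠ q → Commute p q →
      (Agent.ThreeTransp.Polar.line D p q).ncard = (Agent.ThreeTransp.Polar.line D u v).ncard :=
    fun p hp q hq hne hpq =>
      Agent.ThreeTransp.Polar.line_card C hp hq hpq hne hu hv hc huv
  rcases Agent.ThreeTransp.Polar.line_size C hu hv hc huv hodd with h3 | h5
  · exact Or.inl (Agent.ThreeTransp.Polar.Symp.main C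
      fun p hp q hq hne hpq => (hall p hp q hq hne hpq).trans h3)
  · obtain ⟨b, hb, hub⟩ := Agent.ThreeTransp.Classes.exists_noncomm C.grp C.prim.1 C.prim.2.1 hu
    obtain ⟨n, hn⟩ := Agent.ThreeTransp.Polar.Unit.main (D := D) (a := u) (b := b)
      ⟨C, fun p hp q hq hne hpq => (hall p hp q hq hne hpq).trans h5, hu, hb, hub⟩
    exact Or.inr ⟨Agent.ThreeTransp.Polar.Unit.K, inferInstance, inferInstance, n,
      Agent.ThreeTransp.Polar.Unit.card_K, hn⟩

end Cfsg.Agent.S1616
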