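import Cfsg.Statements.S5346
import Cfsg.Agent.Lib.ThreeTransp.WidthOne

set_option autoImplicit false
open Cfsg

namespace Cfsg.Agent.S5346

theorem mem_pCore_three_of_mem {G : Type*} [Group G] [Finite G] {D : Set G} (hD : Cfsg.IsThreeTranspositionSet D)
    {a : G} (ha : a ∈ D) : a ∉ Cfsg.pCore 3 G := by
  intro h
  haveI : Fact (Nat.Prime 3) := ⟨Nat.prime_three⟩
  obtain ⟨k, hk⟩ := IsPGroup.iff_orderOf.1 (Cores.pCore_isPGroup (G := G) 3) ⟨a, h⟩
  rw [Subgroup.orderOf_mk, hD.1 a ha] at hk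
  rcases Nat.eq_zero_or_pos k with h0 | h0
  · rw [h0, pow_zero] at hk; omega
  · exact absurd (hk ▸ dvd_pow_self 3 h0.ne') (by norm_num)

/-- Let D be a conjugation-invariant generating set of 3-transpositions of a finite group G and d a member of D. Then D has width 1 (no two different members of D commute) if and only if G is the product of the subgroup generated by d with the largest normal 3-subgroup of G. -/
theorem result {G : Type*} [Group G] [Finite G] {D : Set G} (hD : Cfsg.IsThreeTranspositionGroup D) {d : G} (hd : d ∈ D) : Cfsg.commutingWidth D = 1 ↔ Subgroup.zpowers d ⊔ Cfsg.pCore 3 G = ⊤ := by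
  obtain ⟨hD1, hconj, hgen⟩ := hD
  set S := {n : ℕ | ∃ E : Set G, E ⊆ D ∧ E.Finite ∧ (∀ a ∈ E, ∀ b ∈ E, Commute a b) ∧ E.ncard = n}
    with hS
  have hbdd : BddAbove S := by
    refine ⟨Nat.card G, ?_⟩
    rintro n ⟨E, -, -, -, rfl⟩
    exact Set.ncard_le_card E
  have hd1 : 1 ∈ S :=
    ⟨{d}, by simpa using hd, Set.finite_singleton d, by simp, Set.ncard_singleton d⟩
  have hiff : Cfsg.commutingWidth D = 1 ↔ ∀ a ∈ D, ∀ b ∈ D, Commute a b → a = b := by
    show sSup S = 1 ↔ _
    constructor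
    · intro h a ha b hb hc
      by_contra hne
      have h2 : 2 ∈ S := by
        refine ⟨{a, b}, ?_, Set.toFinite _, ?_, Set.ncard_pair hne⟩
        · rintro x (rfl | rfl) <;> assumption
        · rintro x (rfl | rfl) y (rfl | rfl)
          exacts [Commute.refl _, hc, hc.symm, Commute.refl _]
      have := le_csSup hbdd h2
      omega
    · intro h
      refine le_antisymm (csSup_le ⟨1, hd1⟩ ?_) (le_csSup hbdd hd1)
      rintro n ⟨E, hE, hfin, hc, rfl⟩
      exact (Set.ncard_le_one hfin).2 fun a ha b hb => h a (hE ha) b (hE hb) (hc a ha b hb)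
  rw [hiff]
  haveI : (Cfsg.pCore 3 G).Normal := Cores.pCore_normal (G := G) 3
  constructor
  · intro hw
    rw [eq_top_iff, ← hgen, Subgroup.closure_le]
    intro a ha
    have h := ThreeTransp.WidthOne.mul_mem_pCore hD1 hconj hw hd ha
    rw [← one_mul a, ← ThreeTransp.Basic.sq hD1 hd, mul_assoc]
    exact Subgroup.mul_mem_sup (Subgroup.mem_zpowers d) h
  · intro htop a ha b hb hc
    have key : ∀ x ∈ D, d * x ∈ Cfsg.pCore 3 G := by
      intro x hx
      obtain ⟨y, hy, z, hz, hyz⟩ := Subgroup.mem_sup_of_normal_right.1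
        (htop ▸ Subgroup.mem_top x : x ∈ Subgroup.zpowers d ⊔ Cfsg.pCore 3 G)
      obtain ⟨k, rfl⟩ := Subgroup.mem_zpowers_iff.1 hy
      have hdd : d ^ (2 : ℤ) = 1 := by rw [zpow_ofNat, pow_two, ThreeTransp.Basic.sq hD1 hd]
      rcases Int.even_or_odd k with ⟨m, rfl⟩ | ⟨m, rfl⟩
      · rw [show m + m = 2 * m by ring, zpow_mul, hdd, one_zpow, one_mul] at hyz
        exact absurd (hyz ▸ hz) (mem_pCore_three_of_mem hD1 hx)
      · rw [zpow_add, zpow_mul, hdd, one_zpow, one_mul, zpow_one] at hyz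
        rw [← hyz, ← mul_assoc, ThreeTransp.Basic.sq hD1 hd, one_mul]
        exact hz
    have hab : a * b ∈ Cfsg.pCore 3 G := by
      have := mul_mem (inv_mem (key a ha)) (key b hb)
      rwa [mul_inv_rev, ThreeTransp.Basic.inv_eq hD1 ha, mul_assoc, inv_mul_cancel_left] at this
    have h2 : (a * b) ^ 2 = 1 :=
      (ThreeTransp.Basic.sq_prod_eq_one_iff (ThreeTransp.Basic.sq hD1 ha)
        (ThreeTransp.Basic.sq hD1 hb)).2 hc
    haveI : Fact (Nat.Prime 3) := ⟨Nat.prime_three⟩
    obtain ⟨k, hk⟩ := IsPGroup.iff_orderOf.1 (Cores.pCore_isPGroup (G := G) 3) ⟨a * b, hab⟩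
    rw [Subgroup.orderOf_mk] at hk
    have h3 := orderOf_dvd_of_pow_eq_one h2
    rw [hk] at h3
    have hk0 : k = 0 := by
      by_contra h0
      exact absurd ((dvd_pow_self 3 h0).trans h3) (by norm_num)
    rw [hk0, pow_zero, orderOf_eq_one_iff] at hk
    rw [← ThreeTransp.Basic.inv_eq hD1 hb]
    exact eq_inv_of_mul_eq_one_left hk

end Cfsg.Agent.S5346
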