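import Cfsg.Statements.S0501
import Cfsg.Agent.Lib.PGroups.FourGenerator.Count

set_option autoImplicit false
open Cfsg

namespace Cfsg.Agent.S0501

/-- A finite 2-group in which every normal elementary abelian subgroup has order at most 4 has sectional rank at most
4: every quotient of every subgroup has no elementary abelian subgroup of order exceeding 16. -/
theorem result {P : Type*} [Group P] [Finite P] (hP : IsPGroup 2 P)
    (h : ∀ A : Subgroup P, A.Normal → IsMulCommutative A → (∀ a ∈ A, a ^ 2 = 1) → Nat.card A ≤ 4) :
    Cfsg.SectionalPRankLE 2 4 P := by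
  obtain ⟨S⟩ := Cfsg.Agent.PGroups.FourGenerator.exists_setup hP h
  intro H N _ A hA hA2
  let L : Subgroup H := A.comap (QuotientGroup.mk' N)
  let H' : Subgroup P := L.map H.subtype
  let f : H' →* A :=
    ((QuotientGroup.mk' N).comp L.subtype).codRestrict A (fun x => x.2) |>.comp
      (L.equivMapOfInjective H.subtype H.subtype_injective).symm.toMonoidHom
  have hf : Function.Surjective f := by
    intro a
    obtain ⟨x, hx⟩ := QuotientGroup.mk'_surjective N (a : ↥H ⧸ N)
    have hxL : x ∈ L := by rw [Subgroup.mem_comap, hx]; exact a.2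
    refine ⟨L.equivMapOfInjective H.subtype H.subtype_injective ⟨x, hxL⟩, ?_⟩
    simp only [f, MonoidHom.comp_apply, MulEquiv.coe_toMonoidHom, MulEquiv.symm_apply_apply]
    exact Subtype.ext hx
  have hK : ∀ x : H', x * x ∈ f.ker := fun x => by
    rw [MonoidHom.mem_ker, map_mul, ← sq]
    exact Subtype.ext (by simpa using hA2 _ (f x).2)
  have := S.index_le f.ker hK
  rw [Subgroup.index_ker, MonoidHom.range_eq_top.mpr hf, Subgroup.card_top] at this
  exact this

end Cfsg.Agent.S0501
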