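import Cfsg.Statements.S2422
import Mathlib

set_option autoImplicit false
open Cfsg

namespace Cfsg.Agent.S2422

open Polynomial Matrix

/-- The partial sum `μ 0 + ⋯ + μ (t - 1)`. -/
def psum {n : ℕ} (μ : Fin n → ℕ) (t : ℕ) : ℕ :=
  ∑ k ∈ Finset.univ.filter (fun k : Fin n => k.val < t), μ k

theorem psum_mono {n : ℕ} (μ : Fin n → ℕ) {s t : ℕ} (h : s ≤ t) : psum μ s ≤ psum μ t :=
  Finset.sum_le_sum_of_subset (fun k hk => by
    simp only [Finset.mem_filter, Finset.mem_univ, true_and] at hk ⊢; omega)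

theorem psum_le {n : ℕ} {μ : Fin n → ℕ} (hμ : ∑ k, μ k = n) (t : ℕ) : psum μ t ≤ n :=
  (Finset.sum_le_sum_of_subset (Finset.filter_subset _ _)).trans hμ.le

theorem psum_top {n : ℕ} {μ : Fin n → ℕ} (hμ : ∑ k, μ k = n) : psum μ n = n := by
  rw [psum, Finset.filter_true_of_mem (fun k _ => k.2), hμ]

theorem psum_zero {n : ℕ} (μ : Fin n → ℕ) : psum μ 0 = 0 := by simp [psum]

theorem psum_succ {n : ℕ} (μ : Fin n → ℕ) (k : Fin n) :
    psum μ (k.val + 1) = psum μ k.val + μ k := by
  have : Finset.univ.filter (fun j : Fin n => j.val < k.val + 1) =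
      insert k (Finset.univ.filter (fun j : Fin n => j.val < k.val)) := by
    ext j
    simp only [Finset.mem_filter, Finset.mem_univ, true_and, Finset.mem_insert, Fin.ext_iff]
    omega
  rw [psum, psum, this, Finset.sum_insert (by simp), add_comm]

theorem compLabel_lt_iff {n : ℕ} (μ : Fin n → ℕ) (i j : Fin n) :
    compLabel μ j < compLabel μ i ↔ ∃ t, j.val < psum μ t ∧ psum μ t ≤ i.val := by
  have key : ∀ k : Fin n, (∑ l ∈ Finset.univ.filter (fun l : Fin n => l ≤ k), μ l) =
      psum μ (k.val + 1) := fun k => by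
    refine Finset.sum_congr (Finset.filter_congr fun l _ => ?_) fun _ _ => rfl
    rw [Fin.le_def, Nat.lt_succ_iff]
  unfold compLabel
  simp only [key]
  constructor
  · intro h
    by_contra hc
    push Not at hc
    refine (not_le.2 h) (Finset.card_le_card fun k hk => ?_)
    simp only [Finset.mem_filter, Finset.mem_univ, true_and] at hk ⊢
    by_contra hk'
    have := hc (k.val + 1) (by omega)
    omega
  · rintro ⟨t, h1, h2⟩
    rcases t with _ | t
    · simp [psum_zero] at h1
    have hji : j.val < i.val := by omega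
    have ht : ∃ k : Fin n, psum μ (k.val + 1) = psum μ (t + 1) := by
      by_cases htn : t < n
      · exact ⟨⟨t, htn⟩, rfl⟩
      · have hn : 0 < n := i.pos
        refine ⟨⟨n - 1, by omega⟩, ?_⟩
        refine Finset.sum_congr (Finset.filter_congr fun l _ => ?_) fun _ _ => rfl
        have := l.2
        simp only
        omega
    obtain ⟨k, hk⟩ := ht
    refine Finset.card_lt_card ((Finset.ssubset_iff_of_subset fun l hl => ?_).2 ⟨k, ?_, ?_⟩)
    · simp only [Finset.mem_filter, Finset.mem_univ, true_and] at hl ⊢; omega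
    · simp only [Finset.mem_filter, Finset.mem_univ, true_and]; omega
    · simp only [Finset.mem_filter, Finset.mem_univ, true_and]; omega

variable {F : Type*} [Field F] {n : ℕ}

/-- The vectors supported on the first `s` coordinates. -/
def Efirst (F : Type*) [Field F] (n s : ℕ) : Submodule F (Fin n → F) where
  carrier := {v | ∀ i : Fin n, s ≤ i.val → v i = 0}
  add_mem' := fun {a b} ha hb i hi => by simp [ha i hi, hb i hi]
  zero_mem' := fun _ _ => rfl
  smul_mem' := fun c a ha i hi => by simp [ha i hi]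

theorem mem_parabolicGL_iff {μ : Fin n → ℕ} {g : GL (Fin n) F} :
    g ∈ parabolicGL n F μ ↔ ∀ t, ∀ v ∈ Efirst F n (psum μ t),
      (g : Matrix (Fin n) (Fin n) F) *ᵥ v ∈ Efirst F n (psum μ t) := by
  constructor
  · intro hg t v hv i hi
    show ∑ j, (g : Matrix (Fin n) (Fin n) F) i j * v j = 0
    refine Finset.sum_eq_zero fun j _ => ?_
    by_cases hj : psum μ t ≤ j.val
    · rw [hv j hj, mul_zero]
    · have h0 : (g : Matrix (Fin n) (Fin n) F) i j = 0 :=
        hg ((compLabel_lt_iff μ i j).2 ⟨t, by omega, hi⟩)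
      rw [h0, zero_mul]
  · intro h i j hij
    obtain ⟨t, h1, h2⟩ := (compLabel_lt_iff μ i j).1 hij
    have hv : (Pi.single j 1 : Fin n → F) ∈ Efirst F n (psum μ t) := fun k hk => by
      rw [Pi.single_eq_of_ne]; intro e; subst e; omega
    have := h t _ hv i h2
    simpa [Matrix.mulVec, dotProduct, Pi.single_apply] using this

/-- The image flag of a matrix. -/
noncomputable def flagW (μ : Fin n → ℕ) (g : GL (Fin n) F) (t : ℕ) : Submodule F (Fin n → F) :=
  (Efirst F n (psum μ t)).map (Matrix.mulVecLin (g : Matrix (Fin n) (Fin n) F))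

theorem gl_mulVec_injective (g : GL (Fin n) F) :
    Function.Injective (Matrix.mulVecLin (g : Matrix (Fin n) (Fin n) F)) := by
  intro v w h
  have := congrArg (fun x => ((g⁻¹ : GL (Fin n) F) : Matrix (Fin n) (Fin n) F) *ᵥ x) h
  simp only [Matrix.mulVecLin_apply, Matrix.mulVec_mulVec, ← Units.val_mul, inv_mul_cancel,
    Units.val_one, Matrix.one_mulVec] at this
  exact this

theorem mem_of_maps {μ : Fin n → ℕ} {g g' : GL (Fin n) F}
    (h : ∀ t, flagW μ g' t ≤ flagW μ g t) : g⁻¹ * g' ∈ parabolicGL n F μ := by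
  rw [mem_parabolicGL_iff]
  intro t v hv
  obtain ⟨w, hw, hw'⟩ := h t (Submodule.mem_map_of_mem hv)
  rw [Units.val_mul, ← Matrix.mulVec_mulVec]
  simp only [Matrix.mulVecLin_apply] at hw'
  rw [← hw', Matrix.mulVec_mulVec, ← Units.val_mul, inv_mul_cancel, Units.val_one,
    Matrix.one_mulVec]
  exact hw

theorem maps_of_mem {μ : Fin n → ℕ} {g g' : GL (Fin n) F}
    (h : g⁻¹ * g' ∈ parabolicGL n F μ) (t : ℕ) : flagW μ g' t ≤ flagW μ g t := by
  rintro _ ⟨v, hv, rfl⟩
  refine ⟨_, mem_parabolicGL_iff.1 h t v hv, ?_⟩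
  simp only [Matrix.mulVecLin_apply, Matrix.mulVec_mulVec, ← Units.val_mul, mul_inv_cancel_left]

theorem mk_eq_mk_iff {μ : Fin n → ℕ} {g g' : GL (Fin n) F} :
    (g : GL (Fin n) F ⧸ parabolicGL n F μ) = g' ↔ ∀ t, flagW μ g t = flagW μ g' t := by
  rw [QuotientGroup.eq]
  refine ⟨fun h t => le_antisymm (maps_of_mem ?_ t) (maps_of_mem h t),
    fun h => mem_of_maps fun t => (h t).ge⟩
  have := (parabolicGL n F μ).inv_mem h
  simpa using this

theorem flagW_mul (μ : Fin n → ℕ) (C g : GL (Fin n) F) (t : ℕ) :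
    flagW μ (C * g) t = (flagW μ g t).map (Matrix.mulVecLin (C : Matrix (Fin n) (Fin n) F)) := by
  rw [flagW, flagW, Units.val_mul, Matrix.mulVecLin_mul, Submodule.map_comp]

theorem mem_fixedBy_iff {μ : Fin n → ℕ} {C g : GL (Fin n) F} :
    (g : GL (Fin n) F ⧸ parabolicGL n F μ) ∈
      MulAction.fixedBy (GL (Fin n) F ⧸ parabolicGL n F μ) C ↔
      ∀ t, ∀ v ∈ flagW μ g t, (C : Matrix (Fin n) (Fin n) F) *ᵥ v ∈ flagW μ g t := by
  rw [MulAction.mem_fixedBy]
  change ((C * g : GL (Fin n) F) : GL (Fin n) F ⧸ parabolicGL n F μ) = _ ↔ _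
  constructor
  · intro h t v hv
    rw [← mk_eq_mk_iff.1 h t, flagW_mul]
    exact Submodule.mem_map_of_mem hv
  · intro h
    symm
    rw [QuotientGroup.eq]
    apply mem_of_maps
    intro t
    rw [flagW_mul]
    rintro _ ⟨v, hv, rfl⟩
    exact h t v hv

/-- Coordinates to polynomials of degree less than `n`. -/
noncomputable def toPoly (F : Type*) [Field F] (n : ℕ) : (Fin n → F) →ₗ[F] F[X] :=
  (degreeLT F n).subtype.comp (degreeLTEquiv F n).symm.toLinearMap

theorem toPoly_injective : Function.Injective (toPoly F n) :=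
  Subtype.val_injective.comp (degreeLTEquiv F n).symm.injective

theorem toPoly_degree (v : Fin n → F) : (toPoly F n v).degree < n :=
  mem_degreeLT.1 ((degreeLTEquiv F n).symm v).2

theorem toPoly_coeff (v : Fin n → F) (i : Fin n) : (toPoly F n v).coeff i = v i :=
  congrFun ((degreeLTEquiv F n).apply_symm_apply v) i

theorem exists_toPoly {p : F[X]} (hp : p.degree < n) : ∃ v, toPoly F n v = p :=
  ⟨degreeLTEquiv F n ⟨p, mem_degreeLT.2 hp⟩, by simp [toPoly]⟩

theorem mem_Efirst_iff {s : ℕ} {v : Fin n → F} :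
    v ∈ Efirst F n s ↔ (toPoly F n v).degree < s := by
  rw [degree_lt_iff_coeff_zero]
  constructor
  · intro h m hm
    by_cases hmn : m < n
    · rw [show m = ((⟨m, hmn⟩ : Fin n) : ℕ) from rfl, toPoly_coeff]
      exact h _ hm
    · exact coeff_eq_zero_of_degree_lt
        ((toPoly_degree v).trans_le (by exact_mod_cast Nat.le_of_not_lt hmn))
  · intro h i hi
    rw [← toPoly_coeff v i]
    exact h i hi

theorem finrank_Efirst {s : ℕ} (hs : s ≤ n) : Module.finrank F (Efirst F n s) = s := by
  have h : (Efirst F n s).map (toPoly F n) = degreeLT F s := by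
    ext p
    rw [mem_degreeLT]
    constructor
    · rintro ⟨v, hv, rfl⟩; exact mem_Efirst_iff.1 hv
    · intro hp
      obtain ⟨v, rfl⟩ := exists_toPoly (hp.trans_le (by exact_mod_cast hs) : p.degree < n)
      exact ⟨v, mem_Efirst_iff.2 hp, rfl⟩
  rw [(Submodule.equivMapOfInjective (toPoly F n) toPoly_injective _).finrank_eq, h,
    (degreeLTEquiv F s).finrank_eq, Module.finrank_fin_fun]

theorem finrank_flagW {μ : Fin n → ℕ} (hμ : ∑ k, μ k = n) (g : GL (Fin n) F) (t : ℕ) :
    Module.finrank F (flagW μ g t) = psum μ t := by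
  rw [flagW, ← (Submodule.equivMapOfInjective _ (gl_mulVec_injective g) _).finrank_eq,
    finrank_Efirst (psum_le hμ t)]

/-- The vectors whose polynomial is divisible by `H`. -/
noncomputable def divW (n : ℕ) (H : F[X]) : Submodule F (Fin n → F) :=
  ((Ideal.span {H}).restrictScalars F).comap (toPoly F n)

theorem mem_divW {H : F[X]} {v : Fin n → F} : v ∈ divW n H ↔ H ∣ toPoly F n v := by
  rw [divW, Submodule.mem_comap, Submodule.restrictScalars_mem, Ideal.mem_span_singleton]

theorem finrank_divW {H : F[X]} (hH : H.Monic) (hd : H.natDegree ≤ n) :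
    Module.finrank F (divW n H) = n - H.natDegree := by
  have hinj : Function.Injective (LinearMap.mulLeft F H) :=
    fun a b h => mul_left_cancel₀ hH.ne_zero h
  have h : (divW n H).map (toPoly F n) =
      (degreeLT F (n - H.natDegree)).map (LinearMap.mulLeft F H) := by
    ext p
    constructor
    · rintro ⟨v, hv, rfl⟩
      obtain ⟨q, hq⟩ := mem_divW.1 hv
      refine ⟨q, mem_degreeLT.2 ?_, hq.symm⟩
      rcases eq_or_ne q 0 with rfl | hq0
      · simpa using WithBot.bot_lt_coe _
      have hv' := toPoly_degree v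
      rw [hq, ← natDegree_lt_iff_degree_lt (mul_ne_zero hH.ne_zero hq0),
        natDegree_mul hH.ne_zero hq0] at hv'
      rw [← natDegree_lt_iff_degree_lt hq0]
      omega
    · rintro ⟨q, hq, rfl⟩
      rw [SetLike.mem_coe, mem_degreeLT] at hq
      have hdeg : (H * q).degree < n := by
        rcases eq_or_ne q 0 with rfl | hq0
        · simpa using WithBot.bot_lt_coe _
        rw [← natDegree_lt_iff_degree_lt hq0] at hq
        rw [← natDegree_lt_iff_degree_lt (mul_ne_zero hH.ne_zero hq0),
          natDegree_mul hH.ne_zero hq0]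
        omega
      obtain ⟨v, hv⟩ := exists_toPoly hdeg
      exact ⟨v, mem_divW.2 (hv ▸ dvd_mul_right _ _), hv⟩
  rw [(Submodule.equivMapOfInjective (toPoly F n) toPoly_injective _).finrank_eq, h,
    ← (Submodule.equivMapOfInjective _ hinj _).finrank_eq,
    (degreeLTEquiv F _).finrank_eq, Module.finrank_fin_fun]

/-- Multiplication by `X` modulo `f`. -/
noncomputable def shift (n : ℕ) (f : F[X]) : (Fin n → F) →ₗ[F] (Fin n → F) :=
  LinearMap.pi fun i =>
    (lcoeff F i).comp ((modByMonicHom f).comp ((LinearMap.mulLeft F X).comp (toPoly F n)))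

theorem toPoly_shift {f : F[X]} (hf : f.Monic) (hdeg : f.natDegree = n) (v : Fin n → F) :
    toPoly F n (shift n f v) = (X * toPoly F n v) %ₘ f := by
  obtain ⟨w, hw⟩ := exists_toPoly (n := n) (p := (X * toPoly F n v) %ₘ f)
    ((degree_modByMonic_lt _ hf).trans_eq (by rw [degree_eq_natDegree hf.ne_zero, hdeg]))
  rw [← hw]
  congr 1
  funext i
  show ((X * toPoly F n v) %ₘ f).coeff i = w i
  rw [← hw, toPoly_coeff]

theorem shift_injective {f : F[X]} (hf : f.Monic) (hdeg : f.natDegree = n)
    (h0 : f.coeff 0 ≠ 0) : Function.Injective (shift n f) := by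
  rw [injective_iff_map_eq_zero]
  intro v hv
  have h1 := toPoly_shift hf hdeg v
  rw [hv, map_zero] at h1
  have h2 : f ∣ X * toPoly F n v := (modByMonic_eq_zero_iff_dvd hf).1 h1.symm
  have hcop : IsCoprime f X :=
    (irreducible_X.coprime_iff_not_dvd.2 (fun h => h0 (X_dvd_iff.1 h))).symm
  have h3 : f ∣ toPoly F n v := hcop.dvd_of_dvd_mul_left h2
  apply toPoly_injective
  rw [map_zero]
  exact eq_zero_of_dvd_of_degree_lt h3
    ((toPoly_degree v).trans_eq (by rw [degree_eq_natDegree hf.ne_zero, hdeg]))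

theorem exists_companion {f : F[X]} (hf : f.Monic) (hdeg : f.natDegree = n)
    (h0 : f.coeff 0 ≠ 0) :
    ∃ C : GL (Fin n) F, ∀ v, (C : Matrix (Fin n) (Fin n) F) *ᵥ v = shift n f v := by
  have hu : IsUnit (LinearMap.toMatrix' (shift n f)) := by
    rw [← Matrix.mulVec_injective_iff_isUnit]
    intro v w h
    apply shift_injective hf hdeg h0
    simpa [LinearMap.toMatrix'_mulVec] using h
  exact ⟨hu.unit, fun v => LinearMap.toMatrix'_mulVec _ _⟩

/-- Ordered monic factorisations with prescribed degrees. -/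
abbrev Fctn (μ : Fin n → ℕ) (f : F[X]) : Type _ :=
  {φ : Fin n → F[X] // (∀ k, (φ k).Monic ∧ (φ k).natDegree = μ k) ∧ ∏ k, φ k = f}

/-- The product of the factors from position `t` on. -/
noncomputable def tailProd (φ : Fin n → F[X]) (t : ℕ) : F[X] :=
  ∏ k ∈ Finset.univ.filter (fun k : Fin n => t ≤ k.val), φ k

theorem tailProd_succ (φ : Fin n → F[X]) (k : Fin n) :
    tailProd φ k.val = φ k * tailProd φ (k.val + 1) := by
  have : Finset.univ.filter (fun j : Fin n => k.val ≤ j.val) =
      insert k (Finset.univ.filter (fun j : Fin n => k.val + 1 ≤ j.val)) := by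
    ext j
    simp only [Finset.mem_filter, Finset.mem_univ, true_and, Finset.mem_insert, Fin.ext_iff]
    omega
  rw [tailProd, tailProd, this, Finset.prod_insert (by simp)]

theorem tailProd_monic {φ : Fin n → F[X]} (h : ∀ k, (φ k).Monic) (t : ℕ) :
    (tailProd φ t).Monic := monic_prod_of_monic _ _ fun k _ => h k

theorem tailProd_natDegree {μ : Fin n → ℕ} (hμ : ∑ k, μ k = n) {φ : Fin n → F[X]}
    (h : ∀ k, (φ k).Monic ∧ (φ k).natDegree = μ k) (t : ℕ) :
    (tailProd φ t).natDegree = n - psum μ t := by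
  rw [tailProd, natDegree_prod_of_monic _ _ fun k _ => (h k).1,
    Finset.sum_congr rfl fun k _ => (h k).2]
  have := (Finset.sum_filter_add_sum_filter_not (Finset.univ : Finset (Fin n))
    (fun k => k.val < t) μ).trans hμ
  rw [Finset.filter_congr (p := fun k : Fin n => ¬ k.val < t) (q := fun k => t ≤ k.val)
    (fun k _ => not_lt)] at this
  exact Nat.eq_sub_of_add_eq' this

theorem tailProd_dvd {φ : Fin n → F[X]} {s t : ℕ} (h : s ≤ t) :
    tailProd φ t ∣ tailProd φ s :=
  Finset.prod_dvd_prod_of_subset _ _ _ (fun k hk => by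
    simp only [Finset.mem_filter, Finset.mem_univ, true_and] at hk ⊢; omega)

theorem tailProd_zero (φ : Fin n → F[X]) : tailProd φ 0 = ∏ k, φ k := by simp [tailProd]

/-- An adapted matrix for a factorisation. -/
theorem exists_adapted {μ : Fin n → ℕ} (hμ : ∑ k, μ k = n) {φ : Fin n → F[X]}
    (h : ∀ k, (φ k).Monic ∧ (φ k).natDegree = μ k) :
    ∃ g : GL (Fin n) F, ∀ t, flagW μ g t = divW n (tailProd φ t) := by
  classical
  have hex : ∀ j : Fin n, ∃ t, j.val < psum μ t := fun j => ⟨n, by rw [psum_top hμ]; exact j.2⟩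
  set t0 : Fin n → ℕ := fun j => Nat.find (hex j) with ht0
  set p : Fin n → F[X] := fun j => tailProd φ (t0 j) * X ^ (psum μ (t0 j) - 1 - j.val) with hp
  have hpdeg : ∀ j, (p j).natDegree = n - 1 - j.val := by
    intro j
    have h1 : j.val < psum μ (t0 j) := Nat.find_spec (hex j)
    have h2 := psum_le hμ (t0 j)
    rw [hp, (tailProd_monic (fun k => (h k).1) _).natDegree_mul (monic_X_pow _),
      tailProd_natDegree hμ h, natDegree_X_pow]
    omega
  have hpmon : ∀ j, (p j).Monic := fun j =>
    (tailProd_monic (fun k => (h k).1) _).mul (monic_X_pow _)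
  have hplt : ∀ j, (p j).degree < n := fun j => by
    rw [← natDegree_lt_iff_degree_lt (hpmon j).ne_zero, hpdeg]
    have := j.2
    omega
  choose w hw using fun j => exists_toPoly (hplt j)
  set A : Matrix (Fin n) (Fin n) F := Matrix.of fun i j => w j i with hA
  have hAv : ∀ v, toPoly F n (A *ᵥ v) = ∑ j, v j • p j := by
    intro v
    have : A *ᵥ v = ∑ j, v j • w j := by
      funext i
      simp [hA, Matrix.mulVec, dotProduct, mul_comm]
    rw [this, map_sum]
    exact Finset.sum_congr rfl fun j _ => by rw [map_smul, hw]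
  have hAinj : Function.Injective (Matrix.mulVecLin A) := by
    rw [injective_iff_map_eq_zero]
    intro v hv
    have h1 := hAv v
    rw [show A *ᵥ v = 0 from hv, map_zero] at h1
    by_contra hv0
    obtain ⟨j1, hj1⟩ := Function.ne_iff.1 hv0
    set T := Finset.univ.filter fun j : Fin n => v j ≠ 0 with hT
    have hTne : T.Nonempty := ⟨j1, by simpa [hT] using hj1⟩
    set j := T.min' hTne
    have hj : v j ≠ 0 := (Finset.mem_filter.1 (T.min'_mem hTne)).2
    have h2 := congrArg (fun q : F[X] => q.coeff (n - 1 - j.val)) h1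
    simp only [coeff_zero, finsetSum_coeff, coeff_smul, smul_eq_mul] at h2
    rw [Finset.sum_eq_single j] at h2
    · rw [← hpdeg j, (hpmon j).coeff_natDegree, mul_one] at h2
      exact hj h2.symm
    · intro k _ hkj
      rcases lt_or_gt_of_ne hkj with hlt | hgt
      · rw [show v k = 0 from ?_, zero_mul]
        by_contra hk
        exact absurd (T.min'_le k (by simp [hT, hk])) (not_le.2 hlt)
      · rw [coeff_eq_zero_of_natDegree_lt (by
          rw [hpdeg]; have := k.2; have : j.val < k.val := hgt; omega), mul_zero]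
    · simp
  have hu : IsUnit A := Matrix.mulVec_injective_iff_isUnit.1 hAinj
  refine ⟨hu.unit, fun t => ?_⟩
  refine Submodule.eq_of_le_of_finrank_eq ?_ ?_
  · rintro _ ⟨v, hv, rfl⟩
    rw [Matrix.mulVecLin_apply, IsUnit.unit_spec, mem_divW, hAv]
    refine Finset.dvd_sum fun j _ => ?_
    by_cases hj : psum μ t ≤ j.val
    · rw [hv j hj, zero_smul]; exact dvd_zero _
    · rw [smul_eq_C_mul]
      exact dvd_mul_of_dvd_right
        (Dvd.dvd.mul_right (tailProd_dvd (Nat.find_min' (hex j) (by omega))) _) _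
  · rw [finrank_flagW hμ, finrank_divW (tailProd_monic (fun k => (h k).1) t)
      (by rw [tailProd_natDegree hμ h]; omega), tailProd_natDegree hμ h]
    have := psum_le hμ t
    omega

theorem eq_of_divW_eq {H H' : F[X]} (hH : H.Monic) (hH' : H'.Monic) {f : F[X]}
    (hf : f.Monic) (hdeg : f.natDegree = n) (hHf : H ∣ f) (hHf' : H' ∣ f)
    (hd : H.natDegree = H'.natDegree) (h : divW n H = divW n H') : H = H' := by
  have hle := natDegree_le_of_dvd hHf hf.ne_zero
  rcases hle.lt_or_eq with hlt | heq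
  · obtain ⟨v, hv⟩ := exists_toPoly (F := F) (n := n) (p := H)
      (by rw [← natDegree_lt_iff_degree_lt hH.ne_zero]; omega)
    have h1 : v ∈ divW n H := mem_divW.2 (hv ▸ dvd_rfl)
    rw [h, mem_divW, hv] at h1
    exact (eq_of_monic_of_dvd_of_natDegree_le hH' hH h1 hd.le)
  · rw [← eq_of_monic_of_dvd_of_natDegree_le hH hf hHf heq.ge,
      ← eq_of_monic_of_dvd_of_natDegree_le hH' hf hHf' (by omega)]

theorem exists_monic_of_invariant {f : F[X]} (hf : f.Monic) (hdeg : f.natDegree = n)
    (W : Submodule F (Fin n → F)) (hW : ∀ v ∈ W, shift n f v ∈ W) :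
    ∃ H : F[X], H.Monic ∧ H ∣ f ∧ W = divW n H := by
  let I : Ideal F[X] :=
    { carrier := {p | p %ₘ f ∈ W.map (toPoly F n)}
      add_mem' := fun {a b} ha hb => by
        show (a + b) %ₘ f ∈ W.map (toPoly F n)
        rw [add_modByMonic]
        exact Submodule.add_mem _ ha hb
      zero_mem' := by
        show (0 : F[X]) %ₘ f ∈ W.map (toPoly F n)
        rw [zero_modByMonic]
        exact Submodule.zero_mem _
      smul_mem' := fun c p hp => by
        show (c * p) %ₘ f ∈ W.map (toPoly F n)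
        induction c using Polynomial.induction_on with
        | C a =>
          rw [← smul_eq_C_mul, smul_modByMonic]
          exact Submodule.smul_mem _ _ hp
        | add p' q' hp' hq' =>
          rw [add_mul, add_modByMonic]
          exact Submodule.add_mem _ hp' hq'
        | monomial k a ih =>
          have e : C a * X ^ (k + 1) * p = X * (C a * X ^ k * p) := by ring
          rw [e]
          obtain ⟨v, hv, hv'⟩ := ih
          refine ⟨shift n f v, hW v hv, ?_⟩
          rw [toPoly_shift hf hdeg, hv']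
          set q := C a * X ^ k * p
          apply modByMonic_eq_of_dvd_sub hf
          rw [← mul_sub]
          have hmd := modByMonic_add_div q f
          exact Dvd.dvd.mul_left (Dvd.intro (-(q /ₘ f)) (by linear_combination -hmd)) X }
  have hfI : f ∈ I := by
    show f %ₘ f ∈ W.map (toPoly F n)
    rw [(modByMonic_eq_zero_iff_dvd hf).2 dvd_rfl]
    exact Submodule.zero_mem _
  set H0 := Submodule.IsPrincipal.generator I with hH0
  have hI : I = Ideal.span {H0} := (Ideal.span_singleton_generator I).symm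
  have hne : H0 ≠ 0 := by
    intro h
    rw [hI, h, Ideal.mem_span_singleton, zero_dvd_iff] at hfI
    exact hf.ne_zero hfI
  refine ⟨H0 * C H0.leadingCoeff⁻¹, monic_mul_leadingCoeff_inv hne, ?_, ?_⟩
  all_goals
    have hass : ∀ p : F[X], H0 * C H0.leadingCoeff⁻¹ ∣ p ↔ p ∈ I := fun p => by
      rw [hI, Ideal.mem_span_singleton,
        IsUnit.mul_right_dvd (isUnit_C.2 (isUnit_iff_ne_zero.2
          (inv_ne_zero (leadingCoeff_ne_zero.2 hne))))]
  · exact (hass f).2 hfI
  · ext v
    rw [mem_divW, hass]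
    show v ∈ W ↔ toPoly F n v %ₘ f ∈ W.map (toPoly F n)
    rw [(modByMonic_eq_self_iff hf).2 ((toPoly_degree v).trans_eq
      (by rw [degree_eq_natDegree hf.ne_zero, hdeg]))]
    exact ⟨fun hv => Submodule.mem_map_of_mem hv, fun ⟨w, hw, e⟩ => toPoly_injective e ▸ hw⟩

theorem fixedPointCharacter_companion {μ : Fin n → ℕ} (hμ : ∑ k, μ k = n) {f : F[X]}
    (hf : f.Monic) (hdeg : f.natDegree = n) {C : GL (Fin n) F}
    (hC : ∀ v, (C : Matrix (Fin n) (Fin n) F) *ᵥ v = shift n f v) :
    fixedPointCharacter (parabolicGL n F μ) C = (Nat.card (Fctn μ f) : ℂ) := by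
  classical
  choose g hg using fun φ : Fctn μ f => exists_adapted hμ φ.2.1
  have hfix : ∀ φ : Fctn μ f, (g φ : GL (Fin n) F ⧸ parabolicGL n F μ) ∈
      MulAction.fixedBy (GL (Fin n) F ⧸ parabolicGL n F μ) C := by
    intro φ
    rw [mem_fixedBy_iff]
    intro t v hv
    rw [hg, mem_divW] at hv ⊢
    rw [hC, toPoly_shift hf hdeg]
    have h1 : tailProd φ.1 t ∣ f := by
      have h2 := tailProd_dvd (φ := φ.1) (Nat.zero_le t)
      rwa [tailProd_zero, φ.2.2] at h2
    have hmd := modByMonic_add_div (X * toPoly F n v) f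
    rw [show (X * toPoly F n v) %ₘ f =
      X * toPoly F n v - f * ((X * toPoly F n v) /ₘ f) by linear_combination hmd]
    exact dvd_sub (Dvd.dvd.mul_left hv _) (h1.mul_right _)
  unfold fixedPointCharacter
  congr 1
  refine (Nat.card_congr (Equiv.ofBijective (fun φ : Fctn μ f =>
    (⟨_, hfix φ⟩ : MulAction.fixedBy (GL (Fin n) F ⧸ parabolicGL n F μ) C)) ⟨?_, ?_⟩)).symm
  · intro φ ψ h
    have h1 := mk_eq_mk_iff.1 (congrArg Subtype.val h)
    have h2 : ∀ t, tailProd φ.1 t = tailProd ψ.1 t := by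
      intro t
      have hf1 : tailProd φ.1 t ∣ f := by
        have := tailProd_dvd (φ := φ.1) (Nat.zero_le t); rwa [tailProd_zero, φ.2.2] at this
      have hf2 : tailProd ψ.1 t ∣ f := by
        have := tailProd_dvd (φ := ψ.1) (Nat.zero_le t); rwa [tailProd_zero, ψ.2.2] at this
      refine eq_of_divW_eq (tailProd_monic (fun k => (φ.2.1 k).1) t)
        (tailProd_monic (fun k => (ψ.2.1 k).1) t) hf hdeg hf1 hf2 ?_ ?_
      · rw [tailProd_natDegree hμ φ.2.1, tailProd_natDegree hμ ψ.2.1]
      · rw [← hg, ← hg]; exact h1 t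
    apply Subtype.ext
    funext k
    have h3 := h2 k.val
    rw [tailProd_succ, tailProd_succ, h2 (k.val + 1)] at h3
    exact mul_right_cancel₀ (tailProd_monic (fun k => (ψ.2.1 k).1) _).ne_zero h3
  · rintro ⟨x, hx⟩
    obtain ⟨a, rfl⟩ := QuotientGroup.mk_surjective x
    have hinv := mem_fixedBy_iff.1 hx
    choose H hHm hHf hHW using fun t => exists_monic_of_invariant hf hdeg (flagW μ a t)
      (fun v hv => hC v ▸ hinv t v hv)
    have hHd : ∀ t, (H t).natDegree = n - psum μ t := by
      intro t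
      have h1 := natDegree_le_of_dvd (hHf t) hf.ne_zero
      have h2 := finrank_flagW hμ a t
      rw [hHW t, finrank_divW (hHm t) (by omega)] at h2
      omega
    have hHdvd : ∀ k : Fin n, H (k.val + 1) ∣ H k.val := by
      intro k
      have h1 := natDegree_le_of_dvd (hHf k.val) hf.ne_zero
      rcases h1.lt_or_eq with hlt | heq
      · obtain ⟨v, hv⟩ := exists_toPoly (F := F) (n := n) (p := H k.val)
          (by rw [← natDegree_lt_iff_degree_lt (hHm _).ne_zero]; omega)
        have h2 : v ∈ flagW μ a k.val := by rw [hHW]; exact mem_divW.2 (hv ▸ dvd_rfl)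
        have h3 : v ∈ flagW μ a (k.val + 1) := by
          obtain ⟨w, hw, rfl⟩ := h2
          refine ⟨w, fun i hi => hw i ?_, rfl⟩
          exact (psum_mono μ (Nat.le_succ _)).trans hi
        rwa [hHW, mem_divW, hv] at h3
      · rw [← eq_of_monic_of_dvd_of_natDegree_le (hHm _) hf (hHf _) heq.ge]
        exact hHf _
    choose φ hφ using hHdvd
    have hφm : ∀ k, (φ k).Monic ∧ (φ k).natDegree = μ k := by
      intro k
      have hm : (φ k).Monic := (hHm (k.val + 1)).of_mul_monic_left (hφ k ▸ hHm k.val)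
      refine ⟨hm, ?_⟩
      have := congrArg natDegree (hφ k)
      rw [(hHm _).natDegree_mul hm, hHd, hHd, psum_succ] at this
      have h2 := psum_le hμ (k.val + 1)
      rw [psum_succ] at h2
      omega
    have htail : ∀ d t, n ≤ t + d → tailProd φ t = H t := by
      intro d
      induction d with
      | zero =>
        intro t ht
        have h1 : psum μ t = n :=
          le_antisymm (psum_le hμ t) ((psum_top hμ).ge.trans (psum_mono μ (by omega)))
        rw [(hHm t).natDegree_eq_zero.1 (by rw [hHd, h1, Nat.sub_self]), tailProd,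
          Finset.filter_false_of_mem (fun k _ => by have := k.2; omega), Finset.prod_empty]
      | succ d ih =>
        intro t ht
        by_cases htn : n ≤ t
        · exact ih t (by omega)
        · rw [show t = (⟨t, by omega⟩ : Fin n).val from rfl, tailProd_succ, hφ ⟨t, by omega⟩,
            ih (t + 1) (by omega), mul_comm]
    have hprod : ∏ k, φ k = f := by
      rw [← tailProd_zero, htail n 0 (by omega)]
      exact eq_of_monic_of_dvd_of_natDegree_le (hHm 0) hf (hHf 0)
        (by rw [hHd, psum_zero, hdeg]; omega) |>.symm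
    refine ⟨⟨φ, hφm, hprod⟩, Subtype.ext (mk_eq_mk_iff.2 fun t => ?_)⟩
    rw [hg]
    show divW n (tailProd φ t) = _
    rw [htail n t (by omega), hHW]

/-- The sorted rearrangement. -/
def key (μ : Fin n → ℕ) : Fin n → ℕ := μ ∘ Tuple.sort μ

/-- The sum of the squares of the parts. -/
def sqNorm (μ : Fin n → ℕ) : ℕ := ∑ k, μ k ^ 2

theorem sq_key (μ : Fin n → ℕ) : sqNorm (key μ) = sqNorm μ :=
  Equiv.sum_comp (Tuple.sort μ) (fun k => μ k ^ 2)

theorem card_fact_comp (μ : Fin n → ℕ) (σ : Equiv.Perm (Fin n)) (f : F[X]) :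
    Nat.card (Fctn (μ ∘ σ) f) = Nat.card (Fctn μ f) := by
  refine Nat.card_congr ⟨fun φ => ⟨φ.1 ∘ σ.symm, fun k => ?_, ?_⟩,
    fun φ => ⟨φ.1 ∘ σ, fun k => φ.2.1 (σ k), ?_⟩, fun φ => ?_, fun φ => ?_⟩
  · simpa using φ.2.1 (σ.symm k)
  · exact (Equiv.prod_comp σ.symm φ.1).trans φ.2.2
  · exact (Equiv.prod_comp σ φ.1).trans φ.2.2
  · exact Subtype.ext (funext fun k => by simp)
  · exact Subtype.ext (funext fun k => by simp)

theorem exists_irreducible_degree (F : Type*) [Field F] [Finite F] (d : ℕ) :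
    ∃ q : F[X], q.Monic ∧ q.natDegree = d ∧ (d ≠ 0 → Irreducible q ∧ q.coeff 0 ≠ 0) := by
  match d with
  | 0 => exact ⟨1, monic_one, natDegree_one, fun h => absurd rfl h⟩
  | 1 =>
    exact ⟨X - C 1, monic_X_sub_C _, natDegree_X_sub_C _,
      fun _ => ⟨irreducible_X_sub_C _, by simp⟩⟩
  | d + 2 =>
    obtain ⟨p, hp⟩ := CharP.exists F
    haveI := hp
    haveI : Fact p.Prime := ⟨CharP.char_is_prime F p⟩
    haveI : NeZero (d + 2) := ⟨by omega⟩
    haveI : Module.Finite F (FiniteField.Extension F p (d + 2)) := inferInstance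
    obtain ⟨α, hα⟩ := Field.exists_primitive_element F (FiniteField.Extension F p (d + 2))
    have hint : IsIntegral F α := IsIntegral.of_finite F α
    have hd : (minpoly F α).natDegree = d + 2 := by
      rw [(Field.primitive_element_iff_minpoly_natDegree_eq F α).1 hα,
        FiniteField.finrank_extension]
    refine ⟨minpoly F α, minpoly.monic hint, hd, fun _ => ⟨minpoly.irreducible hint, ?_⟩⟩
    intro h
    have hX : X ∣ minpoly F α := X_dvd_iff.2 h
    have := (irreducible_X.associated_of_dvd (minpoly.irreducible hint) hX)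
    have := natDegree_eq_of_degree_eq (degree_eq_degree_of_associated this)
    rw [natDegree_X, hd] at this
    omega

theorem exists_assign {ι : Type*} [DecidableEq ι] (Z : Finset ι) (q : ι → F[X])
    (hq : ∀ k ∈ Z, (q k).Monic ∧ Irreducible (q k)) :
    ∀ φ : Fin n → F[X], (∀ k, (φ k).Monic) → ∏ k, φ k = ∏ k ∈ Z, q k →
      Z.Nonempty → ∃ θ : ι → Fin n, ∀ j, φ j = ∏ k ∈ Z.filter (fun k => θ k = j), q k := by
  induction Z using Finset.induction with
  | empty => intro _ _ _ h; exact absurd h Finset.not_nonempty_empty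
  | @insert a Z ha ih =>
    intro φ hφ hprod _
    obtain ⟨hqm, hqi⟩ := hq a (Finset.mem_insert_self _ _)
    have hdvd : q a ∣ ∏ k, φ k := hprod ▸ Finset.dvd_prod_of_mem _ (Finset.mem_insert_self _ _)
    obtain ⟨j0, -, ψ, hψ⟩ := hqi.prime.exists_mem_finset_dvd hdvd
    have hψm : ψ.Monic := hqm.of_mul_monic_left (hψ ▸ hφ j0)
    set φ' := Function.update φ j0 ψ with hφ'
    have hφ'm : ∀ k, (φ' k).Monic := fun k => by
      by_cases hk : k = j0
      · subst hk; rw [hφ', Function.update_self]; exact hψm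
      · rw [hφ', Function.update_of_ne hk]; exact hφ k
    have hφ'prod : ∏ k, φ' k = ∏ k ∈ Z, q k := by
      apply mul_left_cancel₀ hqm.ne_zero
      rw [← Finset.prod_insert ha, ← hprod, ← Finset.mul_prod_erase _ φ' (Finset.mem_univ j0),
        ← Finset.mul_prod_erase _ φ (Finset.mem_univ j0), hψ, hφ', Function.update_self,
        ← mul_assoc]
      congr 1
      exact Finset.prod_congr rfl fun k hk => Function.update_of_ne (Finset.ne_of_mem_erase hk) _ _
    rcases Z.eq_empty_or_nonempty with rfl | hZne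
    · refine ⟨fun _ => j0, fun j => ?_⟩
      have hone : ∀ k, φ' k = 1 := fun k => by
        apply (hφ'm k).eq_one_of_isUnit
        apply isUnit_of_dvd_one
        rw [← Finset.prod_empty (f := q), ← hφ'prod]
        exact Finset.dvd_prod_of_mem _ (Finset.mem_univ k)
      by_cases hj : j0 = j
      · subst hj
        have := hone j0
        rw [hφ', Function.update_self] at this
        rw [Finset.filter_true_of_mem (fun _ _ => rfl), Finset.prod_insert ha,
          Finset.prod_empty, hψ, this]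
      · have := hone j
        rw [hφ', Function.update_of_ne (Ne.symm hj)] at this
        rw [Finset.filter_false_of_mem (fun _ _ => hj), Finset.prod_empty, this]
    obtain ⟨θ, hθ⟩ := ih (fun k hk => hq k (Finset.mem_insert_of_mem hk)) φ' hφ'm hφ'prod hZne
    refine ⟨Function.update θ a j0, fun j => ?_⟩
    have hfil : Z.filter (fun k => Function.update θ a j0 k = j) = Z.filter (fun k => θ k = j) :=
      Finset.filter_congr fun k hk => by
        rw [Function.update_of_ne (fun e : k = a => ha (e ▸ hk))]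
    rw [Finset.filter_insert, Function.update_self, hfil]
    by_cases hj : j0 = j
    · subst hj
      rw [if_pos rfl, Finset.prod_insert (fun h => ha (Finset.mem_filter.1 h).1), hψ, ← hθ,
        hφ', Function.update_self]
    · rw [if_neg hj, ← hθ, hφ', Function.update_of_ne (Ne.symm hj)]

/-- If the product of the irreducibles of degrees `m k` has a factorisation of degrees `μ`,
then `sqNorm m ≤ sqNorm μ`, with equality only for rearrangements. -/
theorem fact_dominates [Finite F] (q : ℕ → F[X])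
    (hq : ∀ d, (q d).Monic ∧ (q d).natDegree = d ∧ (d ≠ 0 → Irreducible (q d)))
    (m μ : Fin n → ℕ) (hne : Nonempty (Fctn μ (∏ k, q (m k)))) :
    sqNorm m ≤ sqNorm μ ∧ (sqNorm μ ≤ sqNorm m → key μ = key m) := by
  classical
  obtain ⟨φ, hφ, hprod⟩ := hne
  set Z := Finset.univ.filter fun k : Fin n => m k ≠ 0 with hZ
  have hmem : ∀ k, k ∈ Z ↔ m k ≠ 0 := fun k => by simp [hZ]
  have hq0 : q 0 = 1 := (hq 0).1.natDegree_eq_zero.1 (hq 0).2.1
  have hsplit : ∏ k, q (m k) = ∏ k ∈ Z, q (m k) := by
    rw [hZ, Finset.prod_filter_of_ne]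
    intro k _ hk hm
    exact hk (by rw [hm, hq0])
  rcases Z.eq_empty_or_nonempty with hZe | hZne
  · have hm0 : m = fun _ => 0 := funext fun k => by
      by_contra hk
      have := (hmem k).2 hk
      rw [hZe] at this
      exact absurd this (Finset.notMem_empty k)
    refine ⟨by simp [hm0, sqNorm], fun h => ?_⟩
    have : μ = m := by
      funext k
      simp only [sqNorm, hm0] at h
      have h1 := Finset.single_le_sum (fun j _ => Nat.zero_le (μ j ^ 2)) (Finset.mem_univ k)
      have h2 : μ k ^ 2 = 0 := by simp at h; simpa using h k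
      simpa [hm0] using h2
    rw [this]
  obtain ⟨θ, hθ⟩ := exists_assign Z (fun k => q (m k))
    (fun k hk => ⟨(hq _).1, (hq _).2.2 ((hmem k).1 hk)⟩) φ (fun k => (hφ k).1)
    (hprod.trans hsplit) hZne
  have hμ : ∀ j, μ j = ∑ k ∈ Z.filter (fun k => θ k = j), m k := by
    intro j
    rw [← (hφ j).2, hθ j, natDegree_prod_of_monic _ _ fun k _ => (hq _).1]
    exact Finset.sum_congr rfl fun k _ => (hq _).2.1
  have hsqμ : sqNorm μ = ∑ k ∈ Z, m k * μ (θ k) := by
    rw [sqNorm, ← Finset.sum_fiberwise Z θ (fun k => m k * μ (θ k))]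
    refine Finset.sum_congr rfl fun j _ => ?_
    rw [Finset.sum_congr rfl fun k hk => by rw [(Finset.mem_filter.1 hk).2],
      ← Finset.sum_mul, ← hμ, pow_two]
  have hsqm : sqNorm m = ∑ k ∈ Z, m k * m k := by
    rw [sqNorm, hZ, Finset.sum_filter_of_ne]
    · exact Finset.sum_congr rfl fun k _ => pow_two (m k)
    · intro k _ hk hm; simp [hm] at hk
  have hge : ∀ k ∈ Z, m k ≤ μ (θ k) := fun k hk => by
    rw [hμ]
    exact Finset.single_le_sum (fun l _ => Nat.zero_le (m l)) (Finset.mem_filter.2 ⟨hk, rfl⟩)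
  have hle : ∀ k ∈ Z, m k * m k ≤ m k * μ (θ k) := fun k hk => Nat.mul_le_mul_left _ (hge k hk)
  refine ⟨hsqm ▸ hsqμ ▸ Finset.sum_le_sum hle, fun h => ?_⟩
  have heq : ∀ k ∈ Z, m k * m k = m k * μ (θ k) :=
    (Finset.sum_eq_sum_iff_of_le hle).1
      (le_antisymm (Finset.sum_le_sum hle) (hsqμ ▸ hsqm ▸ h))
  have heq' : ∀ k ∈ Z, μ (θ k) = m k := fun k hk =>
    (Nat.eq_of_mul_eq_mul_left (Nat.pos_of_ne_zero ((hmem k).1 hk)) (heq k hk)).symm
  have hinj : Set.InjOn θ Z := by
    intro k hk l hl hkl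
    by_contra hne
    have h1 : m k + m l ≤ μ (θ k) := by
      rw [hμ, ← Finset.sum_pair hne]
      refine Finset.sum_le_sum_of_subset ?_
      intro x hx
      simp only [Finset.mem_insert, Finset.mem_singleton] at hx
      rcases hx with rfl | rfl
      · exact Finset.mem_filter.2 ⟨hk, rfl⟩
      · exact Finset.mem_filter.2 ⟨hl, hkl.symm⟩
    have := heq' k hk
    have := (hmem l).1 hl
    omega
  let eZ : {k // k ∈ Z} ≃ {j // j ∈ Z.image θ} :=
    Equiv.ofBijective (fun k => ⟨θ k.1, Finset.mem_image_of_mem θ k.2⟩)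
      ⟨fun k l e => Subtype.ext (hinj k.2 l.2 (congrArg Subtype.val e)), fun ⟨j, hj⟩ => by
        obtain ⟨k, hk, rfl⟩ := Finset.mem_image.1 hj
        exact ⟨⟨k, hk⟩, rfl⟩⟩
  have hcomp : μ ∘ eZ.extendSubtype = m := by
    funext k
    by_cases hk : k ∈ Z
    · simp only [Function.comp_apply]
      rw [Equiv.extendSubtype_apply_of_mem _ _ hk]
      exact heq' k hk
    · simp only [Function.comp_apply]
      have h1 := Equiv.extendSubtype_not_mem eZ k hk
      rw [hμ, Finset.filter_false_of_mem, Finset.sum_empty]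
      · by_contra h2; exact hk ((hmem k).2 (Ne.symm h2))
      · intro l hl e
        exact h1 (e ▸ Finset.mem_image_of_mem θ hl)
  rw [← hcomp, key, key, Tuple.comp_perm_comp_sort_eq_comp_sort]

/-- The irreducible characters of `GL_n(q)` attached to different partitions of `n` (each written with `n` non-decreasing parts, zeros allowed) by the alternating sum of flag permutation characters are different. -/
theorem result {F : Type*} [Field F] [Fintype F] {n : ℕ} (ν ν' : Fin n → ℕ) (hmono : Monotone ν) (hsum : ∑ i, ν i = n)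
    (hmono' : Monotone ν') (hsum' : ∑ i, ν' i = n) (h : Cfsg.unipotentCharacterGL n F ν = Cfsg.unipotentCharacterGL n F ν') : ν = ν' := by
  classical
  have hq' := fun d => exists_irreducible_degree F d
  choose q hqm hqd hqi using hq'
  let adm : (Fin n → ℕ) → Finset (Equiv.Perm (Fin n)) := fun ν =>
    Finset.univ.filter fun κ => ∀ i : Fin n, (κ i).val ≤ ν i + i.val
  let comp : (Fin n → ℕ) → Equiv.Perm (Fin n) → Fin n → ℕ := fun ν κ i => ν i + i.val - (κ i).val
  let coef : (Fin n → ℕ) → (Fin n → ℕ) → ℤ := fun ν m =>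
    ∑ κ ∈ (adm ν).filter (fun κ => key (comp ν κ) = m), (Equiv.Perm.sign κ : ℤ)
  have hcompsum : ∀ ν : Fin n → ℕ, ∑ i, ν i = n → ∀ κ ∈ adm ν, ∑ i, comp ν κ i = n := by
    intro ν hν κ hκ
    have h1 : ∑ i, comp ν κ i + ∑ i, (κ i).val = ∑ i, ν i + ∑ i : Fin n, i.val := by
      rw [← Finset.sum_add_distrib, ← Finset.sum_add_distrib]
      refine Finset.sum_congr rfl fun i _ => ?_
      have := (Finset.mem_filter.1 hκ).2 i
      simp only [comp]
      omega
    have h2 : ∑ i, (κ i).val = ∑ i : Fin n, i.val := Equiv.sum_comp κ (fun i : Fin n => i.val)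
    omega
  -- strict domination
  have hdom : ∀ ν : Fin n → ℕ, Monotone ν → ∀ κ ∈ adm ν, κ ≠ 1 → sqNorm ν < sqNorm (comp ν κ) := by
    intro ν hν κ hκ hκ1
    have hre : ∑ i, ν i * (κ i).val ≤ ∑ i, ν i * i.val :=
      Monovary.sum_mul_comp_perm_le_sum_mul (g := fun i : Fin n => i.val)
        (fun i j hij => hν (le_of_lt hij))
    have hpt : ∀ i, ((comp ν κ i : ℕ) : ℤ) ^ 2 = (ν i : ℤ) ^ 2 + 2 * ((ν i : ℤ) * i.val)
        - 2 * ((ν i : ℤ) * (κ i).val) + ((i.val : ℤ) - (κ i).val) ^ 2 := by
      intro i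
      have := (Finset.mem_filter.1 hκ).2 i
      simp only [comp]
      push_cast [this]
      ring
    have hpos : 0 < ∑ i : Fin n, ((i.val : ℤ) - (κ i).val) ^ 2 := by
      obtain ⟨i, hi⟩ : ∃ i, κ i ≠ i := by
        by_contra hc
        push Not at hc
        exact hκ1 (Equiv.ext hc)
      refine Finset.sum_pos' (fun i _ => sq_nonneg _) ⟨i, Finset.mem_univ _, ?_⟩
      have : (i.val : ℤ) - (κ i).val ≠ 0 := by
        have : i.val ≠ (κ i).val := fun e => hi (Fin.ext e.symm)
        omega
      positivity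
    have : ((Cfsg.Agent.S2422.sqNorm ν : ℕ) : ℤ) < (Cfsg.Agent.S2422.sqNorm (comp ν κ) : ℕ) := by
      simp only [Cfsg.Agent.S2422.sqNorm, Nat.cast_sum, Nat.cast_pow]
      rw [Finset.sum_congr rfl fun i _ => hpt i]
      simp only [Finset.sum_add_distrib, Finset.sum_sub_distrib, ← Finset.mul_sum]
      have hre' : (∑ i, (ν i : ℤ) * (κ i).val) ≤ ∑ i, (ν i : ℤ) * i.val := by exact_mod_cast hre
      linarith
    exact_mod_cast this
  have hone : ∀ ν : Fin n → ℕ, (1 : Equiv.Perm (Fin n)) ∈ adm ν ∧ comp ν 1 = ν := fun ν =>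
    ⟨Finset.mem_filter.2 ⟨Finset.mem_univ _, fun i => by simp⟩, funext fun i => by simp [comp]⟩
  -- the values at companion matrices
  have hval : ∀ ν : Fin n → ℕ, ∑ i, ν i = n → ∀ m : Fin n → ℕ, ∑ i, m i = n →
      ∀ C : GL (Fin n) F,
      (∀ v, Matrix.mulVec (C : Matrix (Fin n) (Fin n) F) v = shift n (∏ k, q (m k)) v) →
      ∀ K : Finset (Fin n → ℕ), (∀ κ ∈ adm ν, key (comp ν κ) ∈ K) →
      unipotentCharacterGL n F ν C =
        ∑ m' ∈ K, (coef ν m' : ℂ) * (Nat.card (Fctn m' (∏ k, q (m k))) : ℂ) := by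
    intro ν hν m hm C hC K hK
    have hfm : (∏ k, q (m k)).Monic := Polynomial.monic_prod_of_monic _ _ fun k _ => hqm _
    have hfd : (∏ k, q (m k)).natDegree = n := by
      rw [Polynomial.natDegree_prod_of_monic _ _ fun k _ => hqm _,
        Finset.sum_congr rfl fun k _ => hqd _, hm]
    calc unipotentCharacterGL n F ν C
        = ∑ κ ∈ adm ν, ((Equiv.Perm.sign κ : ℤ) : ℂ) *
            (Nat.card (Fctn (key (comp ν κ)) (∏ k, q (m k))) : ℂ) := by
          rw [unipotentCharacterGL, Finset.sum_filter]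
          refine Finset.sum_congr rfl fun κ _ => ?_
          by_cases hκ : ∀ i : Fin n, (κ i).val ≤ ν i + i.val
          · rw [if_pos hκ, if_pos hκ, fixedPointCharacter_companion
              (hcompsum ν hν κ (Finset.mem_filter.2 ⟨Finset.mem_univ _, hκ⟩)) hfm hfd hC]
            rw [show key (comp ν κ) = comp ν κ ∘ Tuple.sort (comp ν κ) from rfl, card_fact_comp]
          · rw [if_neg hκ, if_neg hκ]
      _ = _ := by
          rw [← Finset.sum_fiberwise_of_maps_to hK]
          refine Finset.sum_congr rfl fun m' _ => ?_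
          simp only [coef, Int.cast_sum, Finset.sum_mul]
          refine Finset.sum_congr rfl fun κ hκ => ?_
          rw [(Finset.mem_filter.1 hκ).2]
  -- the coefficients agree
  set K := (adm ν).image (fun κ => key (comp ν κ)) ∪ (adm ν').image (fun κ => key (comp ν' κ))
    with hK
  have hcoef : ∀ m ∈ K, coef ν m = coef ν' m := by
    by_contra hc
    push Not at hc
    set D := K.filter (fun m => coef ν m ≠ coef ν' m) with hD
    obtain ⟨m, hmD, hmax⟩ := D.exists_max_image Cfsg.Agent.S2422.sqNorm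
      (by obtain ⟨m, hm, hm'⟩ := hc; exact ⟨m, Finset.mem_filter.2 ⟨hm, hm'⟩⟩)
    obtain ⟨hmK, hmne⟩ := Finset.mem_filter.1 hmD
    have hmsum : ∑ i, m i = n ∧ key m = m := by
      rcases Finset.mem_union.1 hmK with h1 | h1 <;>
      obtain ⟨κ, hκ, rfl⟩ := Finset.mem_image.1 h1
      · exact ⟨(Equiv.sum_comp _ _).trans (hcompsum ν hsum κ hκ),
          Tuple.comp_perm_comp_sort_eq_comp_sort⟩
      · exact ⟨(Equiv.sum_comp _ _).trans (hcompsum ν' hsum' κ hκ),
          Tuple.comp_perm_comp_sort_eq_comp_sort⟩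
    have hfm : (∏ k, q (m k)).Monic := Polynomial.monic_prod_of_monic _ _ fun k _ => hqm _
    have hfd : (∏ k, q (m k)).natDegree = n := by
      rw [Polynomial.natDegree_prod_of_monic _ _ fun k _ => hqm _,
        Finset.sum_congr rfl fun k _ => hqd _, hmsum.1]
    have hf0 : (∏ k, q (m k)).coeff 0 ≠ 0 := by
      rw [Polynomial.coeff_zero_eq_eval_zero, Polynomial.eval_prod]
      refine Finset.prod_ne_zero_iff.2 fun k _ => ?_
      rw [← Polynomial.coeff_zero_eq_eval_zero]
      by_cases hk : m k = 0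
      · rw [hk, (hqm 0).natDegree_eq_zero.1 (hqd 0)]; simp
      · exact (hqi _ hk).2
    obtain ⟨C, hC⟩ := exists_companion hfm hfd hf0
    have e := congrFun h C
    rw [hval ν hsum m hmsum.1 C hC K (fun κ hκ =>
        Finset.mem_union_left _ (Finset.mem_image_of_mem _ hκ)),
      hval ν' hsum' m hmsum.1 C hC K (fun κ hκ =>
        Finset.mem_union_right _ (Finset.mem_image_of_mem (fun κ => key (comp ν' κ)) hκ)),
      ← sub_eq_zero, ← Finset.sum_sub_distrib,
      Finset.sum_eq_single_of_mem m hmK] at e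
    · rw [← sub_mul, mul_eq_zero] at e
      rcases e with e | e
      · rw [sub_eq_zero] at e
        exact hmne (by exact_mod_cast e)
      · haveI : Finite (Fctn (n := n) m (∏ k, q (m k))) := by
          refine Finite.of_injective (fun (φ : Fctn m (∏ k, q (m k))) (k : Fin n)
            (i : Fin (n + 1)) => (φ.1 k).coeff i) fun φ ψ e' => ?_
          refine Subtype.ext (funext fun k => Polynomial.ext fun i => ?_)
          by_cases hi : i < n + 1
          · exact congrFun (congrFun e' k) ⟨i, hi⟩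
          · have hb : m k ≤ n := hmsum.1 ▸ Finset.single_le_sum
              (fun j _ => Nat.zero_le (m j)) (Finset.mem_univ k)
            rw [Polynomial.coeff_eq_zero_of_natDegree_lt (by rw [(φ.2.1 k).2]; omega),
              Polynomial.coeff_eq_zero_of_natDegree_lt (by rw [(ψ.2.1 k).2]; omega)]
        haveI : Nonempty (Fctn (n := n) m (∏ k, q (m k))) :=
          ⟨⟨fun k => q (m k), fun k => ⟨hqm _, hqd _⟩, rfl⟩⟩
        exact Nat.card_pos.ne' (by exact_mod_cast e)
    · intro m' hm' hne
      rw [← sub_mul]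
      by_cases hd : coef ν m' = coef ν' m'
      · rw [hd, sub_self, zero_mul]
      · rcases isEmpty_or_nonempty (Fctn m' (∏ k, q (m k))) with hE | hE
        · simp
        · exfalso
          have h1 := hmax m' (Finset.mem_filter.2 ⟨hm', hd⟩)
          have h2 := (fact_dominates q (fun d => ⟨hqm d, hqd d, fun hd => (hqi d hd).1⟩) m m' hE).2
            h1
          rw [hmsum.2] at h2
          have hk' : key m' = m' := by
            rcases Finset.mem_union.1 hm' with h3 | h3 <;>
            obtain ⟨κ, hκ, rfl⟩ := Finset.mem_image.1 h3 <;>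
            exact Tuple.comp_perm_comp_sort_eq_comp_sort
          exact hne (hk'.symm.trans h2)
  have hkeymono : ∀ ν : Fin n → ℕ, Monotone ν → key ν = ν := fun ν hν => by
    rw [key, Tuple.sort_eq_refl_iff_monotone.2 hν]; rfl
  have hlead : ∀ ν : Fin n → ℕ, Monotone ν → coef ν ν = 1 := by
    intro ν hν
    simp only [coef]
    rw [Finset.sum_eq_single (1 : Equiv.Perm (Fin n))]
    · simp
    · intro κ hκ hκ1
      obtain ⟨hκ, he⟩ := Finset.mem_filter.1 hκ
      have := hdom ν hν κ hκ hκ1
      rw [← sq_key (comp ν κ), he] at this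
      exact absurd this (lt_irrefl _)
    · intro h1
      exact absurd (Finset.mem_filter.2 ⟨(hone ν).1, by rw [(hone ν).2, hkeymono ν hν]⟩) h1
  have hle : ∀ ν : Fin n → ℕ, Monotone ν → ∀ m, coef ν m ≠ 0 →
      Cfsg.Agent.S2422.sqNorm ν < Cfsg.Agent.S2422.sqNorm m ∨ m = ν := by
    intro ν hν m hm
    obtain ⟨κ, hκ, -⟩ := Finset.exists_ne_zero_of_sum_ne_zero hm
    obtain ⟨hκ, he⟩ := Finset.mem_filter.1 hκ
    by_cases hκ1 : κ = 1
    · subst hκ1
      rw [(hone ν).2, hkeymono ν hν] at he
      exact Or.inr he.symm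
    · left
      have := hdom ν hν κ hκ hκ1
      rwa [← sq_key (comp ν κ), he] at this
  have hmem : ∀ ν₀ : Fin n → ℕ, Monotone ν₀ → ν₀ ∈ (adm ν₀).image (fun κ => key (comp ν₀ κ)) :=
    fun ν₀ hν => Finset.mem_image.2 ⟨1, (hone ν₀).1, by rw [(hone ν₀).2, hkeymono ν₀ hν]⟩
  have e1 := hcoef ν (Finset.mem_union_left _ (hmem ν hmono))
  have e2 := hcoef ν' (Finset.mem_union_right _ (hmem ν' hmono'))
  rw [hlead ν hmono] at e1
  rw [hlead ν' hmono'] at e2
  rcases hle ν' hmono' ν (e1 ▸ one_ne_zero) with h1 | h1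
  · rcases hle ν hmono ν' (e2.symm ▸ one_ne_zero) with h2 | h2
    · omega
    · exact h2.symm
  · exact h1

end Cfsg.Agent.S2422
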