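import Cfsg.Statements.S0805
import Cfsg.Agent.Lib.Forms.PslMap
import Cfsg.Agent.Lib.Classical.Linear
import Cfsg.Agent.Lib.Classical.SmallIso
-- import your own Cfsg.Agent.* helpers here

set_option autoImplicit false
open Cfsg

namespace Cfsg.Agent.S0805

theorem exists_odd_quotient (r : ℕ) (hr : Even r) (j : ℕ) :
    ∃ S, Odd S ∧ (r + 1) ^ (2 * j + 1) = r * S + 1 := by
  induction j with
  | zero => exact ⟨1, odd_one, by ring⟩
  | succ j ih =>
    obtain ⟨S, hS, e⟩ := ih
    refine ⟨(r + 1) ^ 2 * S + (r + 1) + 1, ?_, ?_⟩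
    · exact (((hr.add_one.pow).mul hS).add_odd hr.add_one).add_one
    · rw [show 2 * (j + 1) + 1 = 2 + (2 * j + 1) by ring, pow_add, e]; ring

theorem isSquare_of_even {F K : Type*} [Field F] [Fintype F] [Field K] [Fintype K] (f : K →+* F)
    (h2 : (2 : F) ≠ 0) {j : ℕ} (h : Fintype.card K ^ (j + j) = Fintype.card F) (hk : Odd (Fintype.card K))
    (a : K) : IsSquare (f a) := by
  rcases eq_or_ne a 0 with rfl | ha
  · exact ⟨0, by simp⟩
  rw [FiniteField.isSquare_iff (fun hc => h2 (by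
    haveI : CharP F 2 := hc ▸ ringChar.charP F
    exact CharTwo.two_eq_zero)) ((map_ne_zero f).2 ha), ← map_pow]
  obtain ⟨c, hc⟩ := hk
  have hdvd : Fintype.card K - 1 ∣ Fintype.card F / 2 := by
    rw [← h, ← two_mul, pow_mul, hc, Nat.add_sub_cancel]
    obtain ⟨r, hr⟩ : ∃ r, ((2 * c + 1) ^ 2) ^ j = (2 * c) * (2 * c + 2) * r + 1 := by
      clear h hc
      induction j with
      | zero => exact ⟨0, by ring⟩
      | succ j ih =>
        obtain ⟨r, hr⟩ := ih
        exact ⟨r * (2 * c + 1) ^ 2 + 1, by rw [pow_succ, hr]; ring⟩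
    rw [hr]
    refine ⟨(c + 1) * r, ?_⟩
    rw [show 2 * c * (2 * c + 2) * r + 1 = 1 + 2 * (2 * c * ((c + 1) * r)) by ring,
      Nat.add_mul_div_left _ _ (by norm_num : 0 < 2), show 1 / 2 = 0 from rfl, zero_add]
  obtain ⟨d, hd⟩ := hdvd
  rw [hd, pow_mul, FiniteField.pow_card_sub_one_eq_one a ha, one_pow, map_one]

theorem exists_pgl_hom {F K : Type*} [Field F] [Fintype F] [Field K] (f : K →+* F) (h2 : (2 : F) ≠ 0)
    (hsq : ∀ a : K, IsSquare (f a)) :
    ∃ φ : GL (Fin 2) K →* Matrix.ProjectiveSpecialLinearGroup (Fin 2) F,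
      φ.ker = Subgroup.center (GL (Fin 2) K) := by
  classical
  choose s hs using fun g : GL (Fin 2) K => hsq (g : Matrix (Fin 2) (Fin 2) K).det
  have hdet : ∀ g : GL (Fin 2) K, (g : Matrix (Fin 2) (Fin 2) K).det ≠ 0 := fun g =>
    (Matrix.GeneralLinearGroup.det g).ne_zero
  have hs0 : ∀ g, s g ≠ 0 := fun g h => hdet g ((map_eq_zero f).1 (by rw [hs g, h, mul_zero]))
  let X : GL (Fin 2) K → Matrix.SpecialLinearGroup (Fin 2) F := fun g =>
    ⟨(s g)⁻¹ • f.mapMatrix (g : Matrix (Fin 2) (Fin 2) K), by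
      rw [Matrix.det_smul, ← RingHom.map_det, hs g, Fintype.card_fin]
      field_simp [hs0 g]⟩
  have hX : ∀ g, (X g : Matrix (Fin 2) (Fin 2) F) = (s g)⁻¹ • f.mapMatrix (g : Matrix (Fin 2) (Fin 2) K) :=
    fun g => rfl
  have hmul : ∀ g h, Forms.KleinPSL.pi F (X (g * h)) = Forms.KleinPSL.pi F (X g) * Forms.KleinPSL.pi F (X h) := by
    intro g h
    rw [← map_mul, Forms.KleinPSL.pi_eq_iff]
    have e : s (g * h) * s (g * h) = (s g * s h) * (s g * s h) := by
      rw [← hs, Units.val_mul, Matrix.det_mul, map_mul, hs g, hs h]; ring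
    rcases mul_self_eq_mul_self_iff.1 e with e | e
    · left
      refine Subtype.ext ?_
      rw [Matrix.SpecialLinearGroup.coe_mul, hX, hX, hX, Units.val_mul, map_mul, e,
        Matrix.smul_mul, Matrix.mul_smul, smul_smul, ← _root_.mul_inv]
    · right
      refine Subtype.ext ?_
      rw [Matrix.SpecialLinearGroup.coe_neg, Matrix.SpecialLinearGroup.coe_mul, hX, hX, hX,
        Units.val_mul, map_mul, e, Matrix.smul_mul, Matrix.mul_smul, smul_smul, ← _root_.mul_inv,
        inv_neg, neg_smul]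
  refine ⟨MonoidHom.mk' (fun g => Forms.KleinPSL.pi F (X g)) hmul, ?_⟩
  ext g
  rw [MonoidHom.mem_ker, MonoidHom.mk'_apply, Forms.KleinPSL.pi_eq_one,
    Matrix.GeneralLinearGroup.center_eq_range_scalar, MonoidHom.mem_range]
  constructor
  · intro h
    obtain ⟨c, hc, hsc⟩ : ∃ c : F, c ≠ 0 ∧
        f.mapMatrix (g : Matrix (Fin 2) (Fin 2) K) = c • (1 : Matrix (Fin 2) (Fin 2) F) := by
      rcases h with h | h
      · refine ⟨s g, hs0 g, ?_⟩
        have := congrArg Subtype.val h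
        rw [hX, Matrix.SpecialLinearGroup.coe_one, inv_smul_eq_iff₀ (hs0 g)] at this
        exact this
      · refine ⟨-s g, neg_ne_zero.2 (hs0 g), ?_⟩
        have := congrArg Subtype.val h
        rw [hX, Matrix.SpecialLinearGroup.coe_neg, Matrix.SpecialLinearGroup.coe_one,
          inv_smul_eq_iff₀ (hs0 g)] at this
        rw [this, smul_neg, neg_smul]
    have e00 := congrFun (congrFun hsc 0) 0
    have e01 := congrFun (congrFun hsc 0) 1
    have e10 := congrFun (congrFun hsc 1) 0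
    have e11 := congrFun (congrFun hsc 1) 1
    simp at e00 e01 e10 e11
    have h00 : (g : Matrix (Fin 2) (Fin 2) K) 0 0 ≠ 0 := fun h0 => hc (by rw [← e00, h0, map_zero])
    refine ⟨Units.mk0 _ h00, Units.ext ?_⟩
    ext i j
    fin_cases i <;> fin_cases j <;> simp [e01, e10]
    exact f.injective (e00.trans e11.symm)
  · rintro ⟨r, rfl⟩
    have hr : s (Matrix.GeneralLinearGroup.scalar (Fin 2) r) *
        s (Matrix.GeneralLinearGroup.scalar (Fin 2) r) = f (r : K) * f (r : K) := by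
      rw [← hs, ← map_mul]
      simp [pow_two]
    have hr0 : f (r : K) ≠ 0 := (map_ne_zero f).2 r.ne_zero
    rcases mul_self_eq_mul_self_iff.1 hr with e | e
    · left
      refine Subtype.ext ?_
      rw [hX, Matrix.SpecialLinearGroup.coe_one, e]
      ext i j
      fin_cases i <;> fin_cases j <;> simp [hr0]
    · right
      refine Subtype.ext ?_
      rw [hX, Matrix.SpecialLinearGroup.coe_neg, Matrix.SpecialLinearGroup.coe_one, e]
      ext i j
      fin_cases i <;> fin_cases j <;> simp [hr0]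

/-- Subfield subgroups: let F be a finite field of odd order q and K a finite field with |K|^m = q, m ≥ 1. Then PSL_2(F) has a subgroup isomorphic to PSL_2(K), and has a subgroup isomorphic to PGL_2(K) if and only if m is even. -/
theorem result {F K : Type*} [Field F] [Fintype F] [Field K] [Fintype K] {q : ℕ} (hF : Fintype.card F = q) (hodd : Odd q) (m : ℕ) (hm : 1 ≤ m) (hK : Fintype.card K ^ m = q) : (∃ H : Subgroup (Matrix.ProjectiveSpecialLinearGroup (Fin 2) F), Nonempty (H ≃* Matrix.ProjectiveSpecialLinearGroup (Fin 2) K)) ∧ ((∃ H : Subgroup (Matrix.ProjectiveSpecialLinearGroup (Fin 2) F), Nonempty (H ≃* Matrix.ProjGenLinGroup (Fin 2) K)) ↔ Even m) := by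
  subst hF
  have h2 : (2 : F) ≠ 0 := Classical.SylowSL2.two_ne_zero_of_odd hodd
  obtain ⟨f⟩ := Forms.PslMap.nonempty_ringHom (K := K) (F := F) m hK
  have hk : Odd (Fintype.card K) := by
    rw [← hK] at hodd
    exact (Nat.odd_pow_iff (by omega)).1 hodd
  refine ⟨Forms.PslMap.exists_subgroup_psl f, ?_, ?_⟩
  · rintro ⟨H, ⟨e⟩⟩
    by_contra hm'
    obtain ⟨j, rfl⟩ := Nat.not_even_iff_odd.1 hm'
    have h1 : Nat.card (Matrix.ProjGenLinGroup (Fin 2) K) ∣
        Nat.card (Matrix.ProjectiveSpecialLinearGroup (Fin 2) F) := by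
      rw [← Nat.card_congr e.toEquiv]
      exact H.card_subgroup_dvd_card
    have hg : Nat.gcd 2 (Fintype.card F - 1) = 2 := by
      obtain ⟨i, hi⟩ := hodd
      exact Nat.gcd_eq_left (Nat.dvd_of_mod_eq_zero (by omega))
    have hd := Nat.mul_dvd_mul_left 2 h1
    have hP := Classical.SmallIso.natCard_pslTwo F
    rw [hg] at hP
    rw [Classical.Linear.natCard_PGL, hP,
      Classical.GL2.natCard_SL_two, Classical.GL2.natCard_SL_two] at hd
    obtain ⟨c, hc⟩ := hk
    have hq1 : 1 < Fintype.card K := Fintype.one_lt_card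
    have hprod : ∀ x, 1 ≤ x → (x - 1) * (x + 1) = x ^ 2 - 1 := fun x _ => by
      rw [show x ^ 2 - 1 = x ^ 2 - 1 ^ 2 by rw [one_pow], Nat.sq_sub_sq, mul_comm]
    rw [hprod _ (by omega), hprod _ Fintype.card_pos] at hd
    obtain ⟨S, hS, hSe⟩ := exists_odd_quotient (4 * c * c + 4 * c) ⟨2 * c * c + 2 * c, by ring⟩ j
    have hK2 : Fintype.card K ^ 2 - 1 = 4 * c * c + 4 * c := by
      rw [hc, show (2 * c + 1) ^ 2 = 4 * c * c + 4 * c + 1 by ring, Nat.add_sub_cancel]
    have hF2 : Fintype.card F ^ 2 - 1 = (4 * c * c + 4 * c) * S := by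
      rw [← hK, hc, ← pow_mul, mul_comm (2 * j + 1) 2, pow_mul,
        show (2 * c + 1) ^ 2 = (4 * c * c + 4 * c) + 1 by ring, hSe, Nat.add_sub_cancel]
    rw [hK2, hF2] at hd
    have hd' : (2 * Fintype.card K) * (4 * c * c + 4 * c) ∣ (Fintype.card F * S) * (4 * c * c + 4 * c) := by
      rw [mul_assoc 2 _ _, mul_assoc (Fintype.card F) S _, mul_comm S]
      exact hd
    have h3 := Nat.dvd_of_mul_dvd_mul_right (by nlinarith) hd'
    have h4 : Odd (Fintype.card F * S) := hodd.mul hS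
    exact absurd ((dvd_mul_right 2 _).trans h3) h4.not_two_dvd_nat
  · rintro ⟨j, rfl⟩
    obtain ⟨φ, hφ⟩ := exists_pgl_hom f h2 (isSquare_of_even f h2 hK hk)
    let e1 : Matrix.ProjGenLinGroup (Fin 2) K ≃* GL (Fin 2) K ⧸ φ.ker :=
      (QuotientGroup.quotientMulEquivOfEq hφ.symm)
    exact ⟨φ.range, ⟨(QuotientGroup.quotientKerEquivRange φ).symm.trans e1.symm⟩⟩

end Cfsg.Agent.S0805
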