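import Mathlib
import Cfsg.Statements.S2505
-- import your own Cfsg.Agent.* helpers here

set_option autoImplicit false
open Cfsg

namespace Cfsg.Agent.S2505

/-- The largest product of a partition of `n`. -/
def g (n : ℕ) : ℕ :=
  if n % 3 = 0 then 3 ^ (n / 3) else if n % 3 = 1 then (if n = 1 then 1 else 4 * 3 ^ (n / 3 - 1))
  else 2 * 3 ^ (n / 3)

theorem g0 (i : ℕ) : g (3 * i) = 3 ^ i := by
  simp [g]

theorem g1 (i : ℕ) : g (3 * (i + 1) + 1) = 4 * 3 ^ i := by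
  simp [g, Nat.mul_add_mod, show (3 * (i + 1) + 1) / 3 = i + 1 by omega]

theorem g2 (i : ℕ) : g (3 * i + 2) = 2 * 3 ^ i := by
  simp [g, Nat.mul_add_mod, show (3 * i + 2) / 3 = i by omega]

theorem g_one : g 1 = 1 := by simp [g]

theorem cases3 (a : ℕ) : a = 1 ∨ (∃ i, a = 3 * i) ∨ (∃ i, a = 3 * (i + 1) + 1) ∨ ∃ i, a = 3 * i + 2 := by
  rcases (show a % 3 = 0 ∨ a % 3 = 1 ∨ a % 3 = 2 by omega) with h | h | h
  · exact Or.inr (Or.inl ⟨a / 3, by omega⟩)
  · by_cases h1 : a = 1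
    · exact Or.inl h1
    · exact Or.inr (Or.inr (Or.inl ⟨a / 3 - 1, by omega⟩))
  · exact Or.inr (Or.inr (Or.inr ⟨a / 3, by omega⟩))

theorem g_succ (a : ℕ) : g a ≤ g (a + 1) := by
  rcases cases3 a with rfl | ⟨i, rfl⟩ | ⟨i, rfl⟩ | ⟨i, rfl⟩
  · simp [g]
  · cases i with
    | zero => simp [g]
    | succ i => rw [g0, g1, pow_succ]; omega
  · rw [g1, show 3 * (i + 1) + 1 + 1 = 3 * (i + 1) + 2 by ring, g2, pow_succ]; omega
  · rw [g2, show 3 * i + 2 + 1 = 3 * (i + 1) by ring, g0, pow_succ]; omega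

theorem g_mul (a b : ℕ) : g a * g b ≤ g (a + b) := by
  rcases cases3 a with rfl | ⟨i, rfl⟩ | ⟨i, rfl⟩ | ⟨i, rfl⟩
  · rw [g_one, one_mul, add_comm]; exact g_succ b
  all_goals rcases cases3 b with rfl | ⟨j, rfl⟩ | ⟨j, rfl⟩ | ⟨j, rfl⟩
  all_goals try (rw [g_one, mul_one]; exact g_succ _)
  · rw [g0, g0, show 3 * i + 3 * j = 3 * (i + j) by ring, g0, pow_add]
  · rw [g0, g1, show 3 * i + (3 * (j + 1) + 1) = 3 * (i + j + 1) + 1 by ring, g1, pow_add]
    exact le_of_eq (by ring)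
  · rw [g0, g2, show 3 * i + (3 * j + 2) = 3 * (i + j) + 2 by ring, g2, pow_add]
    exact le_of_eq (by ring)
  · rw [g1, g0, show 3 * (i + 1) + 1 + 3 * j = 3 * (i + j + 1) + 1 by ring, g1, pow_add]
    exact le_of_eq (by ring)
  · rw [g1, g1, show 3 * (i + 1) + 1 + (3 * (j + 1) + 1) = 3 * (i + j + 2) + 2 by ring, g2, pow_add,
      pow_add]
    nlinarith [Nat.zero_le (3 ^ i * 3 ^ j)]
  · rw [g1, g2, show 3 * (i + 1) + 1 + (3 * j + 2) = 3 * (i + j + 2) by ring, g0, pow_add, pow_add]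
    nlinarith [Nat.zero_le (3 ^ i * 3 ^ j)]
  · rw [g2, g0, show 3 * i + 2 + 3 * j = 3 * (i + j) + 2 by ring, g2, pow_add]
    exact le_of_eq (by ring)
  · rw [g2, g1, show 3 * i + 2 + (3 * (j + 1) + 1) = 3 * (i + j + 2) by ring, g0, pow_add, pow_add]
    nlinarith [Nat.zero_le (3 ^ i * 3 ^ j)]
  · rw [g2, g2, show 3 * i + 2 + (3 * j + 2) = 3 * (i + j + 1) + 1 by ring, g1, pow_add]
    exact le_of_eq (by ring)

theorem le_g (a : ℕ) : a ≤ g a := by
  induction a using Nat.strong_induction_on with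
  | _ a ih =>
    by_cases h : a ≤ 3
    · interval_cases a <;> simp [g]
    · obtain ⟨b, rfl⟩ : ∃ b, a = b + 2 := ⟨a - 2, by omega⟩
      calc b + 2 ≤ b * 2 := by omega
        _ ≤ g b * g 2 := Nat.mul_le_mul (ih b (by omega)) (by simp [g])
        _ ≤ g (b + 2) := g_mul _ _

theorem prod_le {ι : Type*} (s : Finset ι) (c : ι → ℕ) : ∏ i ∈ s, c i ≤ g (∑ i ∈ s, c i) := by
  classical
  induction s using Finset.induction_on with
  | empty => simp [g]
  | insert a s ha ih =>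
    rw [Finset.prod_insert ha, Finset.sum_insert ha]
    exact (Nat.mul_le_mul (le_g _) ih).trans (g_mul _ _)

/-- Abelian permutation groups have order at most the product of the orbit lengths. -/
theorem card_le (n : ℕ) (A : Subgroup (Equiv.Perm (Fin n))) [hA : IsMulCommutative A] :
    Nat.card A ≤ g n := by
  classical
  let Ω := Quotient (MulAction.orbitRel A (Fin n))
  let T : Ω → Type := fun o => {x : Fin n // Quotient.mk (MulAction.orbitRel A (Fin n)) x = o}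
  let f : A → ∀ o : Ω, T o := fun a o => ⟨a • o.out, by
    conv_rhs => rw [← Quotient.out_eq o]
    exact Quotient.sound ⟨a, rfl⟩⟩
  have hf : Function.Injective f := fun a b h => by
    refine Subtype.ext (Equiv.ext fun x => ?_)
    set o : Ω := Quotient.mk _ x
    obtain ⟨c, hc⟩ : x ∈ MulAction.orbit A o.out :=
      Quotient.exact (Quotient.out_eq o).symm
    have hc' : c • o.out = x := hc
    have h1 : a • o.out = b • o.out := congrArg Subtype.val (congrFun h o)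
    show a • x = b • x
    rw [← hc', ← mul_smul, ← mul_smul, hA.is_comm.comm a c,
      hA.is_comm.comm b c, mul_smul, mul_smul, h1]
  have h1 := Fintype.card_le_of_injective f hf
  rw [Fintype.card_pi] at h1
  rw [Nat.card_eq_fintype_card]
  refine h1.trans ((prod_le Finset.univ fun o => Fintype.card (T o)).trans (le_of_eq ?_))
  rw [← Fintype.card_sigma, Fintype.card_congr (Equiv.sigmaFiberEquiv _), Fintype.card_fin]

/-- There is an abelian subgroup of order `c` in degree `n`. -/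
def Ach (n c : ℕ) : Prop :=
  ∃ A : Subgroup (Equiv.Perm (Fin n)), IsMulCommutative A ∧ Nat.card A = c

theorem ach_mul {m n c d : ℕ} (hc : Ach m c) (hd : Ach n d) : Ach (m + n) (c * d) := by
  obtain ⟨A, hA, rfl⟩ := hc
  obtain ⟨B, hB, rfl⟩ := hd
  let φ := (finSumFinEquiv (m := m) (n := n)).permCongrHom.toMonoidHom.comp
    (Equiv.Perm.sumCongrHom (Fin m) (Fin n))
  have hφ : Function.Injective φ :=
    ((finSumFinEquiv (m := m) (n := n)).permCongrHom.injective).comp Equiv.Perm.sumCongrHom_injective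
  refine ⟨(A.prod B).map φ, ⟨⟨?_⟩⟩, ?_⟩
  · rintro ⟨_, ⟨a, ha, rfl⟩⟩ ⟨_, ⟨b, hb, rfl⟩⟩
    refine Subtype.ext ?_
    show φ a * φ b = φ b * φ a
    rw [← map_mul, ← map_mul]
    refine congrArg φ (Prod.ext ?_ ?_)
    · exact congrArg Subtype.val (hA.is_comm.comm (⟨a.1, ha.1⟩ : A) ⟨b.1, hb.1⟩)
    · exact congrArg Subtype.val (hB.is_comm.comm (⟨a.2, ha.2⟩ : B) ⟨b.2, hb.2⟩)
  · rw [Subgroup.card_map_of_injective hφ, Nat.card_congr (Subgroup.prodEquiv A B).toEquiv,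
      Nat.card_prod]

theorem ach_cycle (p : ℕ) [Fact p.Prime] (h : finRotate p ^ p = 1) (h1 : finRotate p ≠ 1) :
    Ach p p :=
  ⟨Subgroup.zpowers (finRotate p), inferInstance,
    by rw [Nat.card_zpowers, orderOf_eq_prime h h1]⟩

theorem ach3 : ∀ k, Ach (3 * k) (3 ^ k)
  | 0 => ⟨⊥, ⟨⟨fun a b => Subsingleton.elim _ _⟩⟩, by simp⟩
  | k + 1 => by
    haveI : Fact (Nat.Prime 3) := ⟨Nat.prime_three⟩
    rw [Nat.mul_succ, pow_succ]
    exact ach_mul (ach3 k) (ach_cycle 3 (by decide) (by decide))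

/-- The largest order of an abelian subgroup of the symmetric group of degree n is 3^k when n = 3k, 4·3^(k−1) when n = 3k + 1, and 2·3^k when n = 3k + 2, for every k ≥ 1. -/
theorem result (k : ℕ) (hk : 1 ≤ k) :
    IsGreatest {c : ℕ | ∃ A : Subgroup (Equiv.Perm (Fin (3 * k))), IsMulCommutative A ∧ Nat.card A = c} (3 ^ k) ∧
    IsGreatest {c : ℕ | ∃ A : Subgroup (Equiv.Perm (Fin (3 * k + 1))), IsMulCommutative A ∧ Nat.card A = c}
      (4 * 3 ^ (k - 1)) ∧
    IsGreatest {c : ℕ | ∃ A : Subgroup (Equiv.Perm (Fin (3 * k + 2))), IsMulCommutative A ∧ Nat.card A = c}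
      (2 * 3 ^ k) := by
  have h2 : Ach 2 2 := by
    haveI : Fact (Nat.Prime 2) := ⟨Nat.prime_two⟩
    exact ach_cycle 2 (by decide) (by decide)
  obtain ⟨i, rfl⟩ : ∃ i, k = i + 1 := ⟨k - 1, by omega⟩
  refine ⟨⟨ach3 _, ?_⟩, ⟨?_, ?_⟩, ⟨?_, ?_⟩⟩
  · rintro c ⟨A, hA, rfl⟩
    exact (g0 (i + 1)) ▸ card_le _ A
  · show Ach _ _
    rw [Nat.add_sub_cancel, show 3 * (i + 1) + 1 = 3 * i + (2 + 2) by ring,
      show 4 * 3 ^ i = 3 ^ i * (2 * 2) by ring]
    exact ach_mul (ach3 i) (ach_mul h2 h2)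
  · rintro c ⟨A, hA, rfl⟩
    rw [Nat.add_sub_cancel]
    exact (g1 i) ▸ card_le _ A
  · show Ach _ _
    rw [mul_comm 2 (3 ^ (i + 1))]
    exact ach_mul (ach3 _) h2
  · rintro c ⟨A, hA, rfl⟩
    exact (g2 (i + 1)) ▸ card_le _ A

end Cfsg.Agent.S2505
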