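import Cfsg.Statements.S0304
import Cfsg.Agent.Lib.Classical.OrthForms
import Cfsg.Agent.Lib.Forms.SympStd

set_option autoImplicit false
open Cfsg

namespace Cfsg.Agent.S0304

open Matrix Cfsg.Agent.Forms Cfsg.Agent.Forms.QuadStd Cfsg.Agent.Forms.PlusStd
open Cfsg.Agent.Classical.OrthForms

variable {F : Type*} [Field F] [CharP F 2] {m : ℕ}

local notation "Idx" => (Unit ⊕ (Fin m ⊕ Fin m))
local notation "Iso" => Cfsg.isometryGroup F (DFunLike.coe (oddQ F m))

theorem symp_eq (u w : Fin m ⊕ Fin m → F) :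
    Cfsg.sympForm m F u w = QuadraticMap.polar (plusQ F m) u w := by
  rw [SympStd.sympForm_eq, plusQ_polar]
  refine Finset.sum_congr rfl fun i _ => ?_
  rw [CharTwo.sub_eq_add]
  ring

theorem polar_odd (x y : Idx → F) : QuadraticMap.polar (oddQ F m) x y =
    QuadraticMap.polar (plusQ F m) (x ∘ Sum.inr) (y ∘ Sum.inr) := by
  rw [oddQ_polar, CharTwo.two_eq_zero]; ring

omit [CharP F 2] in
theorem eq_single_add (v : Idx → F) :
    v = v (.inl ()) • Pi.single (Sum.inl ()) (1 : F) + Sum.elim (0 : Unit → F) (v ∘ Sum.inr) := by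
  funext i
  rcases i with ⟨⟩ | i <;> simp

theorem fix_e0 (g : Iso) :
    ((g : Matrix.GeneralLinearGroup Idx F) : Matrix Idx Idx F) *ᵥ Pi.single (Sum.inl ()) 1 =
      Pi.single (Sum.inl ()) 1 := by
  set x := ((g : Matrix.GeneralLinearGroup Idx F) : Matrix Idx Idx F) *ᵥ Pi.single (Sum.inl ()) 1
    with hx
  have h0 : Pi.single (Sum.inl ()) (1 : F) ∘ Sum.inr = (0 : Fin m ⊕ Fin m → F) :=
    funext fun i => by simp
  have hr : x ∘ Sum.inr = 0 := by
    refine (plusQ_nondeg F m).1 _ fun w => ?_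
    obtain ⟨y, hy⟩ : ∃ y, ((g : Matrix.GeneralLinearGroup Idx F) : Matrix Idx Idx F) *ᵥ y =
        Sum.elim (0 : Unit → F) w := ⟨((g⁻¹ : Iso) : Matrix.GeneralLinearGroup Idx F).1 *ᵥ Sum.elim (0 : Unit → F) w, by
          rw [← mul_mulVec_iso, mul_inv_cancel]; exact one_mulVec _⟩
    have h := iso_polar (oddQ F m) g (Pi.single (Sum.inl ()) 1) y
    rw [← hx, hy, polar_odd, polar_odd, h0, Sum.elim_comp_inr] at h
    simpa [QuadraticMap.polar] using h
  have h1 := iso_mulVec g (Pi.single (Sum.inl ()) (1 : F))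
  rw [← hx, oddQ_apply, oddQ_apply, hr, h0, Pi.single_eq_same] at h1
  have h2 : x (Sum.inl ()) = 1 := CharTwo.sq_inj.1 (by simpa using h1)
  rw [eq_single_add x, hr, h2, one_smul]
  funext i
  rcases i with ⟨⟩ | i <;> simp

/-- The symplectic block. -/
def blk (g : Iso) : Matrix (Fin m ⊕ Fin m) (Fin m ⊕ Fin m) F :=
  ((g : Matrix.GeneralLinearGroup Idx F) : Matrix Idx Idx F).submatrix Sum.inr Sum.inr

theorem blk_mulVec (g : Iso) (v : Idx → F) :
    (((g : Matrix.GeneralLinearGroup Idx F) : Matrix Idx Idx F) *ᵥ v) ∘ Sum.inr =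
      blk g *ᵥ (v ∘ Sum.inr) := by
  conv_lhs => rw [eq_single_add v, mulVec_add, mulVec_smul, fix_e0]
  funext i
  simp [blk, Matrix.mulVec, dotProduct, Fintype.sum_sum_type]

theorem blk_mem (g : Iso) : blk g ∈ Matrix.symplecticGroup (Fin m) F := by
  refine SympStd.mem_sp_iff.2 fun u w => ?_
  have h := iso_polar (oddQ F m) g (Sum.elim (0 : Unit → F) u) (Sum.elim (0 : Unit → F) w)
  rw [polar_odd, polar_odd, blk_mulVec, blk_mulVec] at h
  rw [symp_eq, symp_eq]
  simpa [Sum.elim_comp_inr] using h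

/-- The restriction to the symplectic quotient. -/
noncomputable def toSp : Iso →* Matrix.symplecticGroup (Fin m) F :=
  MonoidHom.mk' (fun g => ⟨blk g, blk_mem g⟩) fun g h => SympStd.sp_ext fun w => by
    show blk (g * h) *ᵥ w = (blk g * blk h) *ᵥ w
    have h' := blk_mulVec (g * h) (Sum.elim (0 : Unit → F) w)
    rw [mul_mulVec_iso, blk_mulVec, blk_mulVec, Sum.elim_comp_inr] at h'
    rw [← h', mulVec_mulVec]

theorem toSp_bijective [Fintype F] : Function.Bijective (toSp (F := F) (m := m)) := by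
  constructor
  · rw [injective_iff_map_eq_one]
    intro g hg
    have hb : blk g = 1 := congrArg Subtype.val hg
    refine iso_ext fun v => ?_
    show _ = (1 : Matrix Idx Idx F) *ᵥ v
    rw [one_mulVec]
    conv_lhs => rw [eq_single_add v, mulVec_add, mulVec_smul, fix_e0]
    conv_rhs => rw [eq_single_add v]
    congr 1
    set w := Sum.elim (0 : Unit → F) (v ∘ Sum.inr) with hw
    have hr := blk_mulVec g w
    rw [hb, one_mulVec] at hr
    have hq := iso_mulVec g w
    rw [oddQ_apply, oddQ_apply, hr, add_left_inj] at hq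
    funext i
    rcases i with ⟨⟩ | i
    · exact CharTwo.sq_inj.1 hq
    · exact congrFun hr i
  · intro A
    classical
    have hs : ∀ w : Fin m ⊕ Fin m → F, ∃ c : F,
        c ^ 2 = plusQ F m w + plusQ F m ((A : Matrix (Fin m ⊕ Fin m) (Fin m ⊕ Fin m) F) *ᵥ w) := fun w => by
      obtain ⟨c, hc⟩ := FiniteField.isSquare_of_char_two (ringChar.eq F 2)
        (plusQ F m w + plusQ F m ((A : Matrix (Fin m ⊕ Fin m) (Fin m ⊕ Fin m) F) *ᵥ w))
      exact ⟨c, by rw [hc, sq]⟩
    choose s hs using hs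
    have hpol : ∀ u w, QuadraticMap.polar (plusQ F m) ((A : Matrix (Fin m ⊕ Fin m) (Fin m ⊕ Fin m) F) *ᵥ u)
        ((A : Matrix (Fin m ⊕ Fin m) (Fin m ⊕ Fin m) F) *ᵥ w) = QuadraticMap.polar (plusQ F m) u w := fun u w => by
      rw [← symp_eq, ← symp_eq, SympStd.sympForm_mulVec]
    have sadd : ∀ u w, s (u + w) = s u + s w := fun u w => CharTwo.sq_inj.1 <| by
      rw [CharTwo.add_sq, hs, hs, hs, mulVec_add, QuadraticMap.map_add (plusQ F m),
        QuadraticMap.map_add (plusQ F m), hpol]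
      linear_combination QuadraticMap.polar (plusQ F m) u w * CharTwo.two_eq_zero (R := F)
    have ssmul : ∀ (c : F) w, s (c • w) = c * s w := fun c w => CharTwo.sq_inj.1 <| by
      rw [mul_pow, hs, hs, mulVec_smul, QuadraticMap.map_smul, QuadraticMap.map_smul]
      simp [smul_eq_mul]; ring
    let L : (Idx → F) →ₗ[F] (Idx → F) :=
      { toFun := fun v => Sum.elim (fun _ => v (.inl ()) + s (v ∘ Sum.inr))
          ((A : Matrix (Fin m ⊕ Fin m) (Fin m ⊕ Fin m) F) *ᵥ (v ∘ Sum.inr))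
        map_add' := fun u w => by
          rw [show (u + w) ∘ Sum.inr = u ∘ Sum.inr + w ∘ Sum.inr from rfl, sadd, mulVec_add]
          funext i
          rcases i with ⟨⟩ | i <;> simp [add_add_add_comm]
        map_smul' := fun c u => by
          rw [show (c • u) ∘ Sum.inr = c • (u ∘ Sum.inr) from rfl, ssmul, mulVec_smul]
          funext i
          rcases i with ⟨⟩ | i <;> simp [mul_add] }
    have hL : Function.Injective L := by
      rw [injective_iff_map_eq_zero]
      intro v hv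
      have h1 : (A : Matrix (Fin m ⊕ Fin m) (Fin m ⊕ Fin m) F) *ᵥ (v ∘ Sum.inr) = 0 := by
        funext i; exact congrFun hv (.inr i)
      have h2 : v ∘ Sum.inr = 0 := by
        have := congrArg (fun x => ((A⁻¹ : Matrix.symplecticGroup (Fin m) F) : Matrix (Fin m ⊕ Fin m) (Fin m ⊕ Fin m) F) *ᵥ x) h1
        simp only [mulVec_zero] at this
        rwa [← SympStd.mul_mulVec_sp, inv_mul_cancel, show ((1 : Matrix.symplecticGroup (Fin m) F) :
          Matrix (Fin m ⊕ Fin m) (Fin m ⊕ Fin m) F) = 1 from rfl, one_mulVec] at this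
      have h3 : s (v ∘ Sum.inr) = 0 := by
        rw [h2, ← zero_smul F (0 : Fin m ⊕ Fin m → F), ssmul, zero_mul]
      have h4 := congrFun hv (.inl ())
      funext i
      rcases i with ⟨⟩ | i
      · simpa [L, h3] using h4
      · exact congrFun h2 i
    let e := LinearEquiv.ofBijective L ⟨hL, LinearMap.injective_iff_surjective.1 hL⟩
    have he : ∀ v, oddQ F m (e v) = oddQ F m v := fun v => by
      show oddQ F m (L v) = oddQ F m v
      rw [oddQ_apply, oddQ_apply]
      show (v (.inl ()) + s (v ∘ Sum.inr)) ^ 2 +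
        plusQ F m ((A : Matrix (Fin m ⊕ Fin m) (Fin m ⊕ Fin m) F) *ᵥ (v ∘ Sum.inr)) = _
      rw [CharTwo.add_sq, hs]
      linear_combination plusQ F m ((A : Matrix (Fin m ⊕ Fin m) (Fin m ⊕ Fin m) F) *ᵥ
        (v ∘ Sum.inr)) * CharTwo.two_eq_zero (R := F)
    refine ⟨isoOfEquiv _ e he, SympStd.sp_ext fun w => ?_⟩
    show blk _ *ᵥ w = _
    have h := blk_mulVec (isoOfEquiv _ e he) (Sum.elim (0 : Unit → F) w)
    rw [Sum.elim_comp_inr, isoOfEquiv_mulVec] at h
    exact h.symm.trans (by funext i; rfl)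

/-- In characteristic 2, O_{2m+1}(q) is isomorphic to Sp_{2m}(q). -/
theorem result {F : Type*} [Field F] [Fintype F] [CharP F 2] (m : ℕ) : Nonempty (Cfsg.isometryGroup F (Cfsg.quadFormOdd m F) ≃* Matrix.symplecticGroup (Fin m) F) := by
  rw [← oddQ_eq]
  exact ⟨MulEquiv.ofBijective toSp toSp_bijective⟩

end Cfsg.Agent.S0304
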