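import Cfsg.Statements.S5106
import Cfsg.Agent.Lib.Fusion.Normal

set_option autoImplicit false
open Cfsg

namespace Cfsg.Agent.S5106

open Cfsg.FusionSystem Cfsg.Agent.Fusion.Basic Cfsg.Agent.Fusion.Saturation Cfsg.Agent.Fusion.Alperin Cfsg.Agent.Fusion.Normal

/-- In a saturated fusion system over a finite p-group S, a subgroup R ≤ S is normal in the system if and only if every map of the system whose source is a subgroup of R is the restriction of an element of Aut_F(R). -/
theorem result {Ω : Type*} [Group Ω] {S : Subgroup Ω} [Finite S] (p : ℕ) [Fact p.Prime] (hS : IsPGroup p S) (F : Cfsg.FusionSystem S) (hF : F.IsSaturated p) (R : Subgroup Ω) (hRS : R ≤ S) : F.IsNormal R ↔ ∀ (P : Subgroup Ω) (hPR : P ≤ R) (φ : P →* Ω), φ ∈ F.Hom P → ∃ α ∈ F.autGroup R, ∀ x : P, ((α (Subgroup.inclusion hPR x) : R) : Ω) = φ x := by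
  constructor
  · intro h P hPR φ hφ
    obtain ⟨g, hg, he, hgR⟩ := (isNormal_iff.1 h).2 P _ (IsMap.of_hom hφ)
    rw [sup_eq_right.2 hPR] at hg
    obtain ⟨α, hα, hαe⟩ := hg.exists_aut hgR
    refine ⟨α, hα, fun x => ?_⟩
    rw [← autFun_apply]
    exact (hαe x (hPR x.2)).trans ((he x x.2).trans (ext_apply φ x))
  · intro h
    have hext : ∀ (P : Subgroup Ω) (f : Ω → Ω), P ≤ R → IsMap F P f →
        ∃ α : MulAut R, ∀ x ∈ P, autFun α x = f x := by
      intro P f hPR hf
      obtain ⟨α, -, hαe⟩ := h P hPR hf.hom hf.hom_mem_self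
      refine ⟨α, fun x hx => ?_⟩
      rw [autFun_of_mem α (hPR hx)]
      exact hαe ⟨x, hx⟩
    have hfin : Finite R := finite_of_le hRS
    have hnil : Group.IsNilpotent R := (hS.to_le hRS).isNilpotent
    obtain ⟨n, hn⟩ := Group.IsNilpotent.nilpotent R
    have hC : ∀ i, F.StronglyClosed ((Subgroup.upperCentralSeries R i).map R.subtype) := by
      intro i
      refine ⟨(Subgroup.map_subtype_le _).trans hRS, fun P hP φ hφ x => ?_⟩
      obtain ⟨α, hα⟩ := hext P _ (hP.trans (Subgroup.map_subtype_le _)) (IsMap.of_hom hφ)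
      rw [← ext_apply φ x, ← hα x x.2]
      obtain ⟨y, hy, hyx⟩ := hP x.2
      rw [← hyx, Subgroup.subtype_apply, autFun_apply]
      exact ⟨α y, (Subgroup.characteristic_iff_map_eq.1 inferInstance α).le ⟨y, hy, rfl⟩, rfl⟩
    refine normal_of_series hS hF n (fun i => (Subgroup.upperCentralSeries R i).map R.subtype)
      (by simp) ?_ (fun i _ => Subgroup.map_mono (Subgroup.upperCentralSeries_mono R (Nat.le_succ i)))
      (fun i _ => hC i) ?_
    · show (Subgroup.upperCentralSeries R n).map R.subtype = R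
      rw [hn, ← MonoidHom.range_eq_map, Subgroup.range_subtype]
    · rintro i - x hx _ ⟨y, hy, rfl⟩
      have h1 := Subgroup.mem_upperCentralSeries_succ_iff.1 hy ⟨x, hx⟩
      exact ⟨_, (Subgroup.upperCentralSeries R i).inv_mem h1, by
        simp [commutatorElement_def, mul_assoc]⟩

end Cfsg.Agent.S5106
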