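import Cfsg.Statements.S5290
import Cfsg.Agent.Lib.Fusion.Subsystems
import Cfsg.Agent.S5106

set_option autoImplicit false
open Cfsg

namespace Cfsg.Agent.S5290

open Cfsg.FusionSystem Cfsg.Agent.Fusion.Basic Cfsg.Agent.Fusion.Saturation Cfsg.Agent.Fusion.Normal Cfsg.Agent.Fusion.Subsystems

/-- Let F be a saturated fusion system over a finite p-group S and Q a subgroup of S. Then Q is normal in F (F = N_F(Q)) if and only if the inner fusion system of Q, consisting of the conjugations by elements of Q on subgroups of Q, is a weakly normal subsystem of F (both saturated, Q strongly closed, invariant under F-conjugation, with the Frattini property). -/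
theorem result {Ω : Type*} [Group Ω] {S : Subgroup Ω} [Finite S] (p : ℕ) [Fact p.Prime] (hS : IsPGroup p S)
    (F : Cfsg.FusionSystem S) (hF : F.IsSaturated p)
    (Q : Subgroup Ω) (hQ : Q ≤ S) :
    F.IsNormal Q ↔ (Cfsg.innerFusionSystem Q).IsWeaklyNormalIn F p := by
  constructor
  · intro h
    have hfin : Finite Q := finite_of_le hQ
    refine ⟨inner_saturated (hS.to_le hQ), hF, fun P φ hφ => ?_, normal_stronglyClosed h, ?_, ?_⟩
    · obtain ⟨hP, g, hg, he⟩ := hφ
      exact (isMap_cj (hP.trans hQ) (hQ hg)).hom_mem he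
    · rintro P hPQ φ ⟨-, g, hg, he⟩ α hα
      refine ⟨conjHom _ (autFun α g),
        ⟨?_, autFun α g, autFun_mem α hg, fun _ => rfl⟩, fun x hφx hαx => ?_⟩
      · rintro _ ⟨y, -, rfl⟩
        exact SetLike.coe_mem _
      · show autFun α g * ((α ⟨x, hPQ x.2⟩ : Q) : Ω) * (autFun α g)⁻¹ = _
        rw [← autFun_of_mem α (hPQ x.2), ← (autFun_isHom α).map_conj hg (hPQ x.2), ← he,
          autFun_of_mem α hφx]
    · intro P hPQ φ hφ
      obtain ⟨α, hα, he⟩ := (Cfsg.Agent.S5106.result p hS F hF Q hQ).1 h P hPQ φ hφ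
      refine ⟨α, hα, conjHom P 1, ⟨hPQ, 1, Q.one_mem, fun _ => rfl⟩, fun x hx => ?_⟩
      rw [← he x]
      congr 2
      exact Subtype.ext (show (x : Ω) = 1 * (x : Ω) * 1⁻¹ by simp)
  · rintro ⟨-, -, hinv⟩
    refine (Cfsg.Agent.S5106.result p hS F hF Q hQ).2 fun P hPQ φ hφ => ?_
    obtain ⟨α, hα, f₀, hf₀, he⟩ := invariant_frattini hinv hPQ (IsMap.of_hom hφ)
    obtain ⟨-, g, hg, hge⟩ := isMap_inner_iff.1 hf₀
    obtain ⟨β, hβ, hβe⟩ := (isMap_cj (F := F) hQ (hQ hg)).exists_aut
      (img_cj_eq_of_mem_normalizer (Subgroup.le_normalizer hg))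
    refine ⟨α * β, mul_mem hα hβ, fun x => ?_⟩
    rw [← autFun_apply, ← ext_apply φ x, he x x.2, hge x x.2]
    show autFun (α * β) (x : Ω) = _
    rw [autFun_mul, hβe x (hPQ x.2)]

end Cfsg.Agent.S5290
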