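import Cfsg.Statements.S5337
import Cfsg.Agent.Lib.Fusion.Abelian
import Cfsg.Agent.Lib.Fusion.Subsystems
import Cfsg.Agent.S5290

set_option autoImplicit false
open Cfsg

namespace Cfsg.Agent.S5337

open Cfsg.FusionSystem Cfsg.Agent.Fusion.Basic Cfsg.Agent.Fusion.Saturation Cfsg.Agent.Fusion.Subsystems Cfsg.Agent.Fusion.Abelian

/-- Let F be a saturated fusion system over a finite abelian p-group S. Then F is simple if and only if S has order p and F is the inner system of S (whose only maps are the inclusions, S being abelian). -/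
theorem result {Ω : Type*} [Group Ω] {S : Subgroup Ω} [Finite S] (p : ℕ) [Fact p.Prime] (hS : IsPGroup p S) (F : Cfsg.FusionSystem S) (hF : F.IsSaturated p) (hab : ∀ x ∈ S, ∀ y ∈ S, x * y = y * x) : F.IsSimple p ↔ (Nat.card S = p ∧ ∀ P : Subgroup Ω, F.Hom P = (Cfsg.innerFusionSystem S).Hom P) := by
  have htriv : ∀ {T : Subgroup Ω}, T ≤ S → ∀ {P : Subgroup Ω} {f : Ω → Ω},
      IsMap (Cfsg.innerFusionSystem T) P f → ∀ x ∈ P, f x = x := by
    intro T hTS P f hf x hx
    obtain ⟨hP, g, hg, he⟩ := isMap_inner_iff.1 hf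
    rw [he x hx, cj_apply, hab g (hTS hg) x (hTS (hP hx)), mul_inv_cancel_right]
  constructor
  · rintro hsimp
    obtain ⟨-, hS1, hsub⟩ := hsimp
    have hall : ∀ T : Subgroup Ω, F.StronglyClosed T →
        T = ⊥ ∨ (T = S ∧ ∀ P, (Cfsg.innerFusionSystem T).Hom P = F.Hom P) := by
      intro T hT
      refine hsub T _ ⟨(Cfsg.Agent.S5290.result p hS F hF T hT.1).1
        (normal_of_stronglyClosed hS hF hab hT), fun α hα => ⟨1, one_mem _, fun x => ?_, fun c hc => ?_⟩⟩
      · show (x : Ω) = _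
        rw [← autFun_apply]
        exact (htriv hT.1 (isMap_of_mem_autGroup le_rfl hα) x x.2).symm
      · show (c : Ω)⁻¹ * (c : Ω) ∈ _
        rw [inv_mul_cancel]
        exact Subgroup.one_mem _
    have hinn : ∀ P, F.Hom P = (Cfsg.innerFusionSystem S).Hom P := fun P =>
      (((hall S (Cfsg.Agent.Fusion.Solvable.stronglyClosed_self F)).resolve_left hS1).2 P).symm
    refine ⟨?_, hinn⟩
    have hsc : ∀ T ≤ S, F.StronglyClosed T := fun T hT => ⟨hT, fun R hR φ hφ x => by
      rw [hinn] at hφ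
      rw [← ext_apply φ x, htriv le_rfl (IsMap.of_hom hφ) x x.2]
      exact hR x.2⟩
    have : Nontrivial S := S.nontrivial_iff_ne_bot.2 hS1
    obtain ⟨n, hn0, hn⟩ := hS.nontrivial_iff_card.1 inferInstance
    obtain ⟨x, hx⟩ := exists_prime_orderOf_dvd_card' (G := S) p (hn ▸ dvd_pow_self p hn0.ne')
    rw [← Subgroup.orderOf_coe] at hx
    rcases hall _ (hsc _ (Subgroup.zpowers_le.2 x.2)) with h | ⟨h, -⟩
    · rw [Subgroup.zpowers_eq_bot] at h
      rw [h, orderOf_one] at hx
      exact absurd hx.symm (Fact.out : p.Prime).one_lt.ne'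
    · rw [← h, Nat.card_zpowers, hx]
  · rintro ⟨hc, hinn⟩
    refine simple_of_no_stronglyClosed hF ?_ ?_ fun T hT => ?_
    · intro h
      rw [h, Subgroup.card_bot] at hc
      exact (Fact.out : p.Prime).one_lt.ne hc
    · refine le_antisymm (fun α hα => ?_) (inn_le_autGroup le_rfl)
      have hm := isMap_of_mem_autGroup le_rfl hα
      have hm' : IsMap (Cfsg.innerFusionSystem S) S (autFun α) :=
        ⟨hm.hom, hinn S ▸ hm.hom_mem_self, fun _ => rfl⟩
      exact mem_inn_iff.2 ⟨1, S.one_mem, fun x hx => by rw [htriv le_rfl hm' x hx, cj_one]; rfl⟩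
    · have hfin : Finite T := finite_of_le hT.1
      have hdvd : Nat.card T ∣ p := hc ▸ Subgroup.card_dvd_of_le hT.1
      rcases (Nat.dvd_prime Fact.out).1 hdvd with h | h
      · exact Or.inl (Subgroup.card_eq_one.1 h)
      · exact Or.inr (eq_of_le_card hT.1 (by rw [h, hc]))

end Cfsg.Agent.S5337
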