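import Cfsg.Statements.S5148
import Cfsg.Agent.Lib.Fusion.Abelian
import Cfsg.Agent.S5337

set_option autoImplicit false
open Cfsg

namespace Cfsg.Agent.S5148

open Cfsg.FusionSystem Cfsg.Agent.Fusion.Basic Cfsg.Agent.Fusion.Saturation Cfsg.Agent.Fusion.Normal Cfsg.Agent.Fusion.Factor Cfsg.Agent.Fusion.Abelian

/-- A quasisimple fusion system over a finite p-group S (saturated, equal to its p-residual subsystem, with simple — in particular nontrivial — factor system modulo its centre) has S nonabelian. -/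
theorem result {Ω : Type*} [Group Ω] {S : Subgroup Ω} [Finite S] (p : ℕ) [Fact p.Prime] (hS : IsPGroup p S) (F : Cfsg.FusionSystem S) (hq : F.Quasisimple p) : ¬ IsMulCommutative S := by
  intro hcomm
  have hab : ∀ x ∈ S, ∀ y ∈ S, x * y = y * x := fun x hx y hy =>
    congrArg Subtype.val (hcomm.is_comm.comm ⟨x, hx⟩ ⟨y, hy⟩)
  obtain ⟨hF, hhyp, hsimp⟩ := hq
  have hZ : F.IsCentral F.center := center_isCentral
  have hk : ∀ s : S, QuotientGroup.mk' (F.center.subgroupOf S) s = 1 ↔ (s : Ω) ∈ F.center :=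
    fun s => by rw [QuotientGroup.mk'_apply, QuotientGroup.eq_one_iff, Subgroup.mem_subgroupOf]
  obtain ⟨E, hE⟩ := Cfsg.Agent.Fusion.FactorExists.exists_factorSystem (F := F)
    (normal_stronglyClosed (central_normal hZ)) hk
    (MonoidHom.range_eq_top.2 (QuotientGroup.mk'_surjective _))
  have hq' := isQuot_of_factorSystem (normal_stronglyClosed (central_normal hZ)) hE
  have hfin := hq'.finite
  have habE : ∀ a ∈ (⊤ : Subgroup (↥S ⧸ F.center.subgroupOf S)),
      ∀ b ∈ (⊤ : Subgroup (↥S ⧸ F.center.subgroupOf S)), a * b = b * a := by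
    rintro ⟨a⟩ - ⟨b⟩ -
    exact congrArg _ (Subtype.ext (hab a a.2 b b.2) : a * b = b * a)
  obtain ⟨-, hinn⟩ := (Cfsg.Agent.S5337.result p (hq'.isPGroup hS) E (hq'.saturated hS hF) habE).1
    (hsimp E hE)
  have hmod : ∀ α ∈ F.autGroup S, ∀ x ∈ S, x⁻¹ * autFun α x ∈ F.center := by
    intro α hα x hx
    have hm := (isMap_of_mem_autGroup le_rfl hα).restrict
      (preimageAlong_le (θ := QuotientGroup.mk' (F.center.subgroupOf S)) ⊤)
    obtain ⟨f', hf', he⟩ := hq'.descend ⊤ _ le_rfl hm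
    have h1 := hf'.hom_mem_self
    rw [hinn] at h1
    obtain ⟨-, g, -, hg⟩ := h1
    have hxp : x ∈ preimageAlong (QuotientGroup.mk' (F.center.subgroupOf S)) ⊤ :=
      mem_preimageAlong.2 ⟨hx, Subgroup.mem_top _⟩
    refine (along_eq_iff hq'.ker_iff hx ((isMap_of_mem_autGroup le_rfl hα).mem hx)).1 ?_
    rw [← he x hxp]
    refine ((hg ⟨_, Subgroup.mem_top _⟩).trans ?_).symm
    show g * along _ x * g⁻¹ = along _ x
    rw [habE g (Subgroup.mem_top _) _ (Subgroup.mem_top _), mul_inv_cancel_right]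
  have hbot : F.hyperfocalSubgroup p = ⊥ := by
    refine le_bot_iff.1 ((Subgroup.closure_le _).2 ?_)
    rintro _ ⟨P, α, x, hP, -, rfl⟩
    rw [SetLike.mem_coe, Subgroup.mem_bot, inv_mul_eq_one, ← autFun_apply]
    exact (eq_id_of_mod_center hS hF hab hmod (isMap_of_mem_autGroup hP α.2) x.2).symm
  refine (hsimp E hE).2.1 (le_bot_iff.1 ?_)
  rintro ⟨a⟩ -
  have ha : (a : Ω) = 1 := Subgroup.mem_bot.1 ((hhyp.symm.trans hbot).le a.2)
  refine Subgroup.mem_bot.2 ?_
  exact congrArg QuotientGroup.mk (Subtype.ext ha : a = 1)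

end Cfsg.Agent.S5148
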