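import Cfsg.Statements.S3074
import Cfsg.Agent.Lib.CharP.QdBasic
import Cfsg.Agent.Lib.CharP.Basic
import Cfsg.Agent.Lib.CharP.TrivialCore
import Cfsg.Agent.Lib.Coprime.PGroup

set_option autoImplicit false
open Cfsg

namespace Cfsg.Agent.S3074

open CharP.QdBasic

theorem isExtraspecial_of_equiv {p : ℕ} {A B : Type*} [Group A] [Group B] [Finite A] (e : A ≃* B)
    (h : Cfsg.IsExtraspecial p A) : Cfsg.IsExtraspecial p B := by
  obtain ⟨⟨hp, hf, hc⟩, hz⟩ := h
  have hcen : (Subgroup.center A).map e.toMonoidHom = Subgroup.center B := by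
    ext b
    constructor
    · rintro ⟨a, ha, rfl⟩
      refine Subgroup.mem_center_iff.2 fun c => ?_
      obtain ⟨c, rfl⟩ := e.surjective c
      show e c * e a = e a * e c
      rw [← map_mul, ← map_mul, Subgroup.mem_center_iff.1 ha c]
    · intro hb
      refine ⟨e.symm b, Subgroup.mem_center_iff.2 fun c => e.injective ?_, e.apply_symm_apply b⟩
      simp [Subgroup.mem_center_iff.1 hb (e c)]
  refine ⟨⟨hp.of_equiv e, ?_, ?_⟩, ?_⟩
  · rw [← hcen, ← hf, ← CharP.map_frattini_of_ker_le (f := e.toMonoidHom) e.surjective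
      (by intro x hx; rw [e.injective ((hx : e x = 1).trans (map_one e).symm)]; exact one_mem _)]
    exact (Subgroup.map_comap_eq_self_of_surjective e.surjective _).symm
  · rw [← hcen, ← hc, commutator_def, commutator_def, Subgroup.map_commutator,
      Subgroup.map_top_of_surjective e.toMonoidHom e.surjective]
  · rw [← hcen, ← hz]
    exact (Nat.card_congr ((Subgroup.center A).equivMapOfInjective _ e.injective).toEquiv).symm

theorem heis_props (p : ℕ) [Fact p.Prime] (hp : p ≠ 2) :
    Cfsg.IsExtraspecial p ↥(heisGroup (F := ZMod p)) ∧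
      Nat.card ↥(heisGroup (F := ZMod p)) = p ^ 3 ∧
        Monoid.exponent ↥(heisGroup (F := ZMod p)) = p := by
  classical
  set H := heisGroup (F := ZMod p)
  let h3 : ZMod p → ZMod p → ZMod p → ↥H := fun c a b => ⟨heis c a b, c, a, b, rfl⟩
  have hmul : ∀ c a b c' a' b', h3 c a b * h3 c' a' b' = h3 (c + c') (a + a' + c * b') (b + b') :=
    fun c a b c' a' b' => Subtype.ext (heis_mul c a b c' a' b')
  have hinj : ∀ c a b c' a' b', h3 c a b = h3 c' a' b' → c = c' ∧ a = a' ∧ b = b' :=
    fun c a b c' a' b' h => heis_inj.1 (congrArg Subtype.val h)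
  have hex : ∀ h : ↥H, ∃ c a b, h3 c a b = h := exists_heis
  have hone : h3 0 0 0 = 1 := Subtype.ext heis_zero
  have hinv : ∀ c a b, (h3 c a b)⁻¹ = h3 (-c) (-a + c * b) (-b) :=
    fun c a b => Subtype.ext (heis_inv c a b)
  have hcenter : ∀ c a b, h3 c a b ∈ Subgroup.center ↥H ↔ c = 0 ∧ b = 0 := by
    intro c a b
    rw [Subgroup.mem_center_iff]
    refine ⟨fun h => ⟨?_, ?_⟩, ?_⟩
    · have h1 := (hinj _ _ _ _ _ _ ((hmul 0 0 1 c a b).symm.trans ((h (h3 0 0 1)).trans (hmul c a b 0 0 1)))).2.1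
      linear_combination -h1
    · have h1 := (hinj _ _ _ _ _ _ ((hmul 1 0 0 c a b).symm.trans ((h (h3 1 0 0)).trans (hmul c a b 1 0 0)))).2.1
      linear_combination h1
    · rintro ⟨rfl, rfl⟩ g
      obtain ⟨c', a', b', rfl⟩ := hex g
      rw [hmul, hmul]
      congr 1 <;> ring
  have hzcard : Nat.card (Subgroup.center ↥H) = p := by
    let e : ZMod p ≃ Subgroup.center ↥H := Equiv.ofBijective
      (fun a => ⟨h3 0 a 0, (hcenter 0 a 0).2 ⟨rfl, rfl⟩⟩)
      ⟨fun a a' h => (hinj _ _ _ _ _ _ (congrArg Subtype.val h)).2.1, fun ⟨z, hz⟩ => by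
        obtain ⟨c, a, b, rfl⟩ := hex z
        obtain ⟨rfl, rfl⟩ := (hcenter c a b).1 hz
        exact ⟨a, rfl⟩⟩
    rw [← Nat.card_congr e, Nat.card_zmod]
  have hcomm : commutator ↥H = Subgroup.center ↥H := by
    refine le_antisymm ?_ ?_
    · rw [commutator_def, Subgroup.commutator_le]
      intro g _ k _
      obtain ⟨c, a, b, rfl⟩ := hex g
      obtain ⟨c', a', b', rfl⟩ := hex k
      rw [commutatorElement_def, hinv, hinv, hmul, hmul, hmul, hcenter]
      constructor <;> ring
    · intro z hz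
      obtain ⟨c, a, b, rfl⟩ := hex z
      obtain ⟨rfl, rfl⟩ := (hcenter c a b).1 hz
      have h1 := Subgroup.commutator_mem_commutator (Subgroup.mem_top (h3 1 0 0))
        (Subgroup.mem_top (h3 0 0 a))
      rw [← commutator_def, commutatorElement_def, hinv, hinv, hmul, hmul, hmul] at h1
      convert h1 using 2 <;> ring
  have hP : IsPGroup p ↥H := isPGroup_heisGroup p
  have hpow : ∀ (c a b : ZMod p) (n : ℕ), (h3 c a b) ^ n =
      h3 (n * c) (n * a + (n.choose 2 : ℕ) * (c * b)) (n * b) := by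
    intro c a b n
    induction n with
    | zero => simp [hone]
    | succ n ih =>
      rw [pow_succ, ih, hmul, Nat.choose_succ_succ', Nat.choose_one_right]
      congr 1 <;> push_cast <;> ring
  have hexp : ∀ g : ↥H, g ^ p = 1 := by
    intro g
    obtain ⟨c, a, b, rfl⟩ := hex g
    have h2 : ((p.choose 2 : ℕ) : ZMod p) = 0 := by
      refine (CharP.cast_eq_zero_iff (ZMod p) p _).2 ((Fact.out : p.Prime).dvd_choose_self (by omega) ?_)
      have := (Fact.out : p.Prime).two_le
      omega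
    rw [hpow, h2, ZMod.natCast_self]
    simp only [zero_mul, add_zero]
    exact hone
  have := hP.isNilpotent
  have hphi : frattini ↥H = Subgroup.center ↥H := by
    refine le_antisymm ?_ (hcomm ▸ Coprime.commutator_le_frattini ↥H)
    have h := CharP.frattini_le_ker (p := p) (QuotientGroup.mk' (Subgroup.center ↥H)) (fun g k => ?_)
      (fun g => by rw [← map_pow, hexp, map_one])
    · rwa [QuotientGroup.ker_mk'] at h
    · show QuotientGroup.mk' _ g * QuotientGroup.mk' _ k = QuotientGroup.mk' _ k * QuotientGroup.mk' _ g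
      rw [← map_mul, ← map_mul, QuotientGroup.mk'_apply, QuotientGroup.mk'_apply, QuotientGroup.eq]
      obtain ⟨c, a, b, rfl⟩ := hex g
      obtain ⟨c', a', b', rfl⟩ := hex k
      rw [hmul, hmul, hinv, hmul, hcenter]
      constructor <;> ring
  refine ⟨⟨⟨hP, hphi, hcomm⟩, hzcard⟩, by rw [natCard_heisGroup, ZMod.card], ?_⟩
  rcases (Nat.dvd_prime (Fact.out : p.Prime)).1 (Monoid.exponent_dvd_iff_forall_pow_eq_one.2 hexp) with h | h
  · exfalso
    have h0 := Monoid.pow_exponent_eq_one (h3 0 1 0)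
    rw [h, pow_one, ← hone] at h0
    exact one_ne_zero (hinj _ _ _ _ _ _ h0).2.1
  · exact h

/-- Let p be an odd prime. A Sylow p-subgroup of Qd(p), the split extension of an elementary abelian group of order p² by SL₂(p) acting naturally, is extraspecial of order p³ and exponent p. -/
theorem result (p : ℕ) [Fact p.Prime] (hp : p ≠ 2) (P : Sylow p ↥(Cfsg.qd p)) :
    Cfsg.IsExtraspecial p ↥P ∧ Nat.card P = p ^ 3 ∧ Monoid.exponent ↥P = p := by
  classical
  let Q : Sylow p ↥(Cfsg.qd p) := CharP.QdBasic.sylow (F := ZMod p) p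
  have e : ↥(P : Subgroup ↥(Cfsg.qd p)) ≃* ↥(CharP.QdBasic.heisGroup (F := ZMod p)) := Sylow.equiv P Q
  obtain ⟨h1, h2, h3⟩ := heis_props p hp
  exact ⟨isExtraspecial_of_equiv e.symm h1, (Nat.card_congr e.toEquiv).trans h2,
    (Monoid.exponent_eq_of_mulEquiv e).trans h3⟩

end Cfsg.Agent.S3074
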