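import Cfsg.Statements.S5236
import Cfsg.Agent.Lib.Fusion.SmallElements
-- import your own Cfsg.Agent.* helpers here

set_option autoImplicit false
set_option linter.all false
open Cfsg

namespace Cfsg.Agent.S5236

open Cfsg.FusionSystem Cfsg.Agent.Fusion.Basic Cfsg.Agent.Fusion.Saturation Cfsg.Agent.Fusion.Alperin Cfsg.Agent.Fusion.Normal Cfsg.Agent.Fusion.SmallElements

section
variable {Ω : Type*} [Group Ω] {S : Subgroup Ω} [Finite S] {F : Cfsg.FusionSystem S} {p : ℕ}

theorem stab_normal {R : Subgroup Ω} (hR : R ≤ S) {W : ℕ → Subgroup Ω} (hWR : ∀ i, W (i + 1) ⊓ R = W (i + 1))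
    (hinv : ∀ a : F.autGroup R, ∀ i, ∀ x ∈ W i, autFun (a : MulAut R) x ∈ W i) :
    (stab F R W hinv).Normal := by
  refine ⟨fun a ha g i x hx => ?_⟩
  set y := autFun (g : MulAut R)⁻¹ x with hy
  have hy' : y ∈ W (i + 1) := hinv g⁻¹ _ x hx
  have hyR : y ∈ R := ((hWR i).ge hy').2
  have hm := isMap_of_mem_autGroup hR g.2
  have h1 := hinv g i _ (ha i y hy')
  rw [Subgroup.coe_mul, Subgroup.coe_mul, Subgroup.coe_inv, autFun_mul, autFun_mul, ← hy]
  rw [hm.map_mul (R.inv_mem hyR) (autFun_mem _ hyR), hm.map_inv hyR,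
    show autFun (g : MulAut R) y = x from autFun_apply_inv _ _] at h1
  exact h1

end

/-- Let p be an odd prime, F a saturated fusion system over a finite p-group S and P a subgroup of S strongly closed in F. Then P is normal in F if and only if Ω₁(P) (the subgroup generated by the elements of order p of P) has a chain of subgroups 1 = Q₀ ≤ Q₁ ≤ ⋯ ≤ Qₙ = Ω₁(P), each strongly closed in F, with [Qᵢ₊₁, P] ≤ Qᵢ for all i. -/
theorem result {Ω : Type*} [Group Ω] {S : Subgroup Ω} [Finite S] (p : ℕ) [Fact p.Prime] (hS : IsPGroup p S) (F : Cfsg.FusionSystem S) (hF : F.IsSaturated p) (hp : p ≠ 2) (P : Subgroup Ω) (hP : F.StronglyClosed P) : F.IsNormal P ↔ ∃ (n : ℕ) (Q : Fin (n + 1) → Subgroup Ω), Q 0 = ⊥ ∧ Q (Fin.last n) = Cfsg.omegaOne p P ∧ Monotone Q ∧ (∀ i : Fin (n + 1), F.StronglyClosed (Q i)) ∧ ∀ i : Fin n, ⁅Q i.succ, P⁆ ≤ Q i.castSucc := by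
  classical
  constructor
  · intro hN
    obtain ⟨n, C, h0, hn, hmono, hCn, hCle, hcomm⟩ := normal_series hS hN
    set W := omegaOne p P with hW
    have hWP : W ≤ P := (Subgroup.closure_le _).2 fun x hx => hx.1
    have hWsc : F.StronglyClosed W := by
      refine ⟨hWP.trans hP.1, fun R hR φ hφ x => ?_⟩
      obtain ⟨k, hk, hke, hkP⟩ := (isNormal_iff.1 hN).2 R _ (IsMap.of_hom hφ)
      have hk' := hk.restrict (le_sup_right : P ≤ R ⊔ P)
      have hh : ∀ z ∈ P, ∀ m : ℕ, k (z ^ m) = k z ^ m := by
        intro z hz m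
        induction m with
        | zero => simp [hk'.map_one]
        | succ m ih => rw [pow_succ, pow_succ, hk'.map_mul (P.pow_mem hz m) hz, ih]
      have key : ∀ y ∈ W, k y ∈ W := by
        intro y hy
        rw [hW, omegaOne] at hy
        induction hy using Subgroup.closure_induction with
        | mem z hz =>
          refine Subgroup.subset_closure ⟨le_of_eq hkP (mem_img_self k hz.1), ?_⟩
          rw [← hh z hz.1, hz.2, hk'.map_one]
        | one => rw [hk'.map_one]; exact W.one_mem
        | mul a b ha hb iha ihb =>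
          rw [hk'.map_mul (hWP ha) (hWP hb)]; exact W.mul_mem iha ihb
        | inv a ha iha => rw [hk'.map_inv (hWP ha)]; exact W.inv_mem iha
      rw [← ext_apply φ x, ← hke _ x.2]
      exact key _ (hR x.2)
    refine ⟨n, fun i => C i ⊓ W, ?_, ?_, fun i j h => inf_le_inf_right _ (hmono h), fun i => ?_, fun i => ?_⟩
    · simp [h0]
    · simp [hn, inf_eq_right.2 hWP]
    · refine ⟨inf_le_right.trans hWsc.1, fun R hR φ hφ x => ⟨?_, hWsc.2 R (hR.trans inf_le_right) φ hφ x⟩⟩
      exact (normal_stronglyClosed (hCn i)).2 R (hR.trans inf_le_left) φ hφ x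
    · refine Subgroup.commutator_le.2 fun y hy x hx => ⟨?_, ?_⟩
      · have h1 := (C i).inv_mem (hcomm i x hx y (Subgroup.mem_inf.1 hy).1)
        simpa [commutatorElement_def, mul_assoc] using h1
      · have hy' : y ∈ W := (Subgroup.mem_inf.1 hy).2
        have h2 := (Subgroup.mem_normalizer_iff.1
          (le_normalizer_of_stronglyClosed hWsc (hP.1 hx)) y⁻¹).1 (W.inv_mem hy')
        simpa [commutatorElement_def, mul_assoc] using W.mul_mem hy' h2
  · rintro ⟨n, Q, h0, hn, hmono, hsc, hcomm⟩
    set W := omegaOne p P with hW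
    have hWP : W ≤ P := (Subgroup.closure_le _).2 fun x hx => hx.1
    let C : ℕ → Subgroup Ω := fun i => Q ⟨min i n, Nat.lt_succ_of_le (min_le_right i n)⟩
    have hC0 : C 0 = ⊥ := by
      rw [← h0]; exact congrArg Q (Fin.ext (Nat.zero_min n))
    have hCn : ∀ i, n ≤ i → C i = W := fun i hi => by
      rw [← hn]; exact congrArg Q (Fin.ext (show min i n = n by omega))
    have hCmono : ∀ i, C i ≤ C (i + 1) := fun i => hmono (Fin.mk_le_mk.2 (min_le_min_right n (Nat.le_succ i)))
    have hCW : ∀ i, C i ≤ W := fun i => hn ▸ hmono (Fin.le_last _)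
    have hCsc : ∀ i, F.StronglyClosed (C i) := fun i => hsc _
    have hWsc : F.StronglyClosed W := hCn n le_rfl ▸ hCsc n
    have hPn := le_normalizer_of_stronglyClosed hP
    have hCcomm : ∀ i, ∀ x ∈ P, ∀ y ∈ C (i + 1), x * y * x⁻¹ * y⁻¹ ∈ C i := by
      intro i x hx y hy
      rcases Nat.lt_or_ge i n with hi | hi
      · have e1 : C i = Q (⟨i, hi⟩ : Fin n).castSucc :=
          congrArg Q (Fin.ext (show min i n = i by omega))
        have e2 : C (i + 1) = Q (⟨i, hi⟩ : Fin n).succ :=
          congrArg Q (Fin.ext (show min (i + 1) n = i + 1 by omega))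
        rw [e2] at hy
        rw [e1]
        have := (Q _).inv_mem (hcomm ⟨i, hi⟩ (Subgroup.commutator_mem_commutator hy hx))
        simpa [commutatorElement_def, mul_assoc] using this
      · rw [hCn (i + 1) (by omega)] at hy
        rw [hCn i hi]
        have h2 := (Subgroup.mem_normalizer_iff.1
          (le_normalizer_of_stronglyClosed hWsc (hP.1 hx)) y).1 hy
        exact W.mul_mem h2 (W.inv_mem hy)
    refine normal_of_stronglyClosed_le hS hF hP fun R hRc hRr => ?_
    have hRS : R ≤ S := hRc.1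
    have : Finite R := finite_of_le hRS
    have hWR : W ≤ R := le_centricRadical_of_series hS n C hC0 (hCn n le_rfl) (fun i _ => hCmono i)
      (fun i _ => hCsc i) le_rfl (le_normalizer_of_stronglyClosed hWsc)
      (fun i _ x hx => hCcomm i x (hWP hx)) hRc hRr
    refine le_of_normalizer_inf_le hS hRS hP.1 hPn fun g hgP hgN => ?_
    let D : ℕ → Subgroup Ω := fun i => if i = 0 then R ⊓ P else R
    have hD : ∀ a : F.autGroup R, ∀ i, ∀ x ∈ D i, autFun (a : MulAut R) x ∈ D i := by
      intro a i x hx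
      by_cases hi : i = 0
      · simp only [D, if_pos hi] at hx ⊢
        exact ⟨autFun_mem _ hx.1, stronglyClosed_mem hP (isMap_of_mem_autGroup hRS a.2) hx.1 hx.2⟩
      · simp only [D, if_neg hi] at hx ⊢
        exact autFun_mem _ hx
    have hC : ∀ a : F.autGroup R, ∀ i, ∀ x ∈ C i, autFun (a : MulAut R) x ∈ C i := fun a i x hx =>
      stronglyClosed_mem (hCsc i) (isMap_of_mem_autGroup hRS a.2) (hWR (hCW i hx)) hx
    let K : Subgroup (F.autGroup R) := stab F R C hC ⊓ stab F R D hD
    have hKn : K.Normal := by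
      have h1 := stab_normal hRS (W := C) (fun i => inf_eq_left.2 ((hCW _).trans hWR)) hC
      have h2 := stab_normal hRS (W := D) (fun i => by simp [D]) hD
      exact Subgroup.normal_inf_normal _ _
    have hKp : IsPGroup p K := by
      refine Cfsg.Agent.CharP.isPGroup_of_forall_coprime fun a ha hcop => ?_
      have hm := isMap_of_mem_autGroup hRS a.2
      have hKS : (R ⊓ P : Subgroup Ω) ≤ S := inf_le_left.trans hRS
      have : Finite (R ⊓ P : Subgroup Ω) := finite_of_le hKS
      obtain ⟨E, hEK, hEc, hEs, hdet⟩ := exists_detect_sub (p := p) (hS.to_le hKS)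
      have hfix : ∀ i, ∀ x ∈ C i, autFun (a : MulAut R) x = x := by
        intro i
        induction i with
        | zero =>
          intro x hx
          rw [hC0, Subgroup.mem_bot] at hx
          subst hx
          exact hm.map_one
        | succ i ih =>
          intro x hx
          have hxR : x ∈ R := hWR (hCW _ hx)
          have hc := ha.1 i x hx
          have hcR : x⁻¹ * autFun (a : MulAut R) x ∈ R :=
            R.mul_mem (R.inv_mem hxR) (autFun_mem _ hxR)
          set c := x⁻¹ * autFun (a : MulAut R) x with hcdef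
          have hpow : ∀ m : ℕ, autFun ((a : MulAut R) ^ m) x = x * c ^ m := by
            intro m
            induction m with
            | zero => rw [pow_zero, autFun_one, pow_zero, mul_one]; rfl
            | succ m ihm =>
              rw [pow_succ', autFun_mul, ihm, hm.map_mul hxR (R.pow_mem hcR m),
                ih _ ((C i).pow_mem hc m), pow_succ', ← mul_assoc, hcdef, mul_inv_cancel_left]
          have h1 := hpow (orderOf a)
          rw [← Subgroup.coe_pow, pow_orderOf_eq_one, Subgroup.coe_one, autFun_one] at h1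
          have h2 : (⟨c, hcR⟩ : R) ^ orderOf a = 1 :=
            Subtype.ext (mul_left_cancel (a := x) (by simpa using h1.symm))
          obtain ⟨e, he⟩ := hS.to_le hRS ⟨c, hcR⟩
          have h3 : c = 1 := congrArg Subtype.val (orderOf_eq_one_iff.1
            (Nat.eq_one_of_dvd_coprimes (hcop.pow_right e) (orderOf_dvd_of_pow_eq_one h2)
              (orderOf_dvd_of_pow_eq_one he)))
          rw [hcdef, inv_mul_eq_one] at h3
          exact h3.symm
      refine Subtype.ext (hdet R inf_le_left (hS.to_le hRS) a ?_ (hD a 0) ?_ fun x hx => ?_)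
      · rwa [Subgroup.orderOf_coe]
      · exact fun x hx => ha.2 0 x hx
      · refine hfix n x ((hCn n le_rfl).ge (Subgroup.subset_closure ⟨(hEK hx).2, ?_⟩))
        rcases hEs x hx with h | ⟨h, -⟩
        exacts [h, absurd h hp]
    have hle : K ≤ pCore p (F.autGroup R) :=
      le_sSup (show K ∈ {N : Subgroup (F.autGroup R) | N.Normal ∧ IsPGroup p N} from ⟨hKn, hKp⟩)
    refine le_of_le_pCore hRc hRr ⟨hP.1 hgP, hgN⟩ (hle ⟨fun i x hx => ?_, fun i x hx => ?_⟩)
    · show x⁻¹ * autFun (conjAut S R ⟨g, _⟩) x ∈ C i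
      rw [conjAut_apply _ (hWR (hCW _ hx))]
      have := hCcomm i g hgP _ ((C (i + 1)).inv_mem hx)
      simpa [cj_apply, mul_assoc] using (C i).inv_mem this
    · have hxR : x ∈ R := by simpa [D] using hx
      show x⁻¹ * autFun (conjAut S R ⟨g, _⟩) x ∈ D i
      rw [conjAut_apply _ hxR]
      have hR' : x⁻¹ * (g * x * g⁻¹) ∈ R :=
        R.mul_mem (R.inv_mem hxR) ((Subgroup.mem_normalizer_iff.1 hgN x).1 hxR)
      by_cases hi : i = 0
      · simp only [D, if_pos hi]
        refine ⟨hR', ?_⟩
        have h2 := (Subgroup.mem_normalizer_iff.1 (hPn (S.inv_mem (hRS hxR))) g).1 hgP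
        simpa [cj_apply, mul_assoc] using P.mul_mem h2 (P.inv_mem hgP)
      · simp only [D, if_neg hi]
        exact hR'

end Cfsg.Agent.S5236
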