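import Cfsg.Statements.S5235
import Cfsg.Agent.S5236
import Cfsg.Agent.Lib.Fusion.MetacyclicTwo
-- import your own Cfsg.Agent.* helpers here

set_option autoImplicit false
open Cfsg

namespace Cfsg.Agent.S5235

open Cfsg.FusionSystem Cfsg.Agent.Fusion.Basic Cfsg.Agent.Fusion.Saturation Cfsg.Agent.Fusion.Alperin Cfsg.Agent.Fusion.Normal Cfsg.Agent.Fusion.SmallElements

/-- Let F be a saturated fusion system over a finite 2-group S (p = 2) and P a metacyclic subgroup of S strongly closed in F that is not dihedral, not semidihedral and not generalized quaternion (here the group of order 2, the Klein four-group and the cyclic group of order 4 also count as excluded). Then P is normal in F. -/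
theorem result {Ω : Type*} [Group Ω] {S : Subgroup Ω} [Finite S] (p : ℕ) [Fact p.Prime] (hS : IsPGroup p S) (F : Cfsg.FusionSystem S) (hF : F.IsSaturated p) (P : Subgroup Ω) (hP : F.StronglyClosed P) (hp : p = 2) (hm : Cfsg.IsMetacyclic ↥P) (hd : ¬ ∃ m : ℕ, Nonempty (↥P ≃* DihedralGroup m)) (hq : ¬ ∃ m : ℕ, Nonempty (↥P ≃* QuaternionGroup m)) (hsd : ¬ Cfsg.IsQuasiDihedral ↥P) : F.IsNormal P := by
  classical
  subst hp
  have hpp : Nat.Prime 2 := Nat.prime_two
  have : Finite P := finite_of_le hP.1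
  have hPn := le_normalizer_of_stronglyClosed hP
  have hno : ∀ i t : P, orderOf i = 4 → t * i * t⁻¹ = i⁻¹ → t ^ 2 ∈ Subgroup.zpowers i → False := by
    intro i t hi hit ht
    rcases Cfsg.Agent.Fusion.MetacyclicTwo.maximal_class (hS.to_le hP.1) hm hi hit ht with h | h | h
    exacts [hd h, hq h, hsd h]
  refine normal_of_stronglyClosed_le hS hF hP fun R hRc hRr => ?_
  have hRS : R ≤ S := hRc.1
  have : Finite R := finite_of_le hRS
  refine le_of_normalizer_inf_le hS hRS hP.1 hPn ?_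
  suffices key : ∀ g ∈ P, g ∈ Subgroup.normalizer (R : Set Ω) → g ^ 2 ∈ R → g ∈ R by
    intro g hgP hgN
    have hsuff : ∀ k : ℕ, ∀ h ∈ P, h ∈ Subgroup.normalizer (R : Set Ω) → h ^ 2 ^ k ∈ R → h ∈ R := by
      intro k
      induction k with
      | zero => intro h _ _ hh; simpa using hh
      | succ k ih =>
        intro h hhP hhN hh
        refine key h hhP hhN (ih (h ^ 2) (P.pow_mem hhP 2)
          ((Subgroup.normalizer (R : Set Ω)).pow_mem hhN 2) ?_)
        rwa [← pow_mul, ← pow_succ']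
    obtain ⟨k, hk⟩ := (hS.to_le hP.1) ⟨g, hgP⟩
    have hk' : g ^ 2 ^ k = 1 := by simpa using congrArg Subtype.val hk
    exact hsuff k g hgP hgN (by rw [hk']; exact R.one_mem)
  intro g hgP hgN hg2
  by_contra hgR
  set K := R ⊓ P with hKdef
  have hKR : K ≤ R := inf_le_left
  have hKP : K ≤ P := inf_le_right
  have hKS : K ≤ S := hKR.trans hRS
  have : Finite K := finite_of_le hKS
  have hKinv : ∀ a : F.autGroup R, ∀ x ∈ K, autFun (a : MulAut R) x ∈ K := fun a x hx =>
    ⟨autFun_mem _ hx.1, stronglyClosed_mem hP (isMap_of_mem_autGroup hRS a.2) hx.1 hx.2⟩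
  have hgK : ∀ x ∈ K, g * x * g⁻¹ ∈ K := fun x hx =>
    ⟨(Subgroup.mem_normalizer_iff.1 hgN x).1 hx.1, P.mul_mem (P.mul_mem hgP hx.2) (P.inv_mem hgP)⟩
  let D : ℕ → Subgroup Ω := fun i => if i = 0 then K else R
  have hD : ∀ a : F.autGroup R, ∀ i, ∀ x ∈ D i, autFun (a : MulAut R) x ∈ D i := by
    intro a i x hx
    by_cases hi : i = 0
    · simp only [D, if_pos hi] at hx ⊢
      exact hKinv a x hx
    · simp only [D, if_neg hi] at hx ⊢
      exact autFun_mem _ hx
  have hDn : (stab F R D hD).Normal := Cfsg.Agent.S5236.stab_normal hRS (fun i => by simp [D]) hD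
  set cg : F.autGroup R := ⟨conjAut S R ⟨g, ⟨hP.1 hgP, hgN⟩⟩,
    autInducedBy_le hRS (conjAut_range S R ▸ ⟨_, rfl⟩)⟩ with hcg
  have hcgD : cg ∈ stab F R D hD := by
    intro i x hx
    have hxR : x ∈ R := by simpa [D] using hx
    show x⁻¹ * autFun (conjAut S R ⟨g, _⟩) x ∈ D i
    rw [conjAut_apply _ hxR]
    have hR' : x⁻¹ * (g * x * g⁻¹) ∈ R :=
      R.mul_mem (R.inv_mem hxR) ((Subgroup.mem_normalizer_iff.1 hgN x).1 hxR)
    by_cases hi : i = 0
    · simp only [D, if_pos hi]
      refine ⟨hR', ?_⟩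
      have h2 := (Subgroup.mem_normalizer_iff.1 (hPn (S.inv_mem (hRS hxR))) g).1 hgP
      simpa [cj_apply, mul_assoc] using P.mul_mem h2 (P.inv_mem hgP)
    · simp only [D, if_neg hi]
      exact hR'
  -- a normal subgroup of the stabiliser whose odd elements fix `K` does not contain `g`
  have hcore : ∀ N : Subgroup (F.autGroup R), N.Normal → N ≤ stab F R D hD → cg ∈ N →
      ∃ a ∈ N, (orderOf a).Coprime 2 ∧ ∃ x ∈ K, autFun (a : MulAut R) x ≠ x := by
    intro N hN hND hcgN
    by_contra hcon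
    push Not at hcon
    have hNp : IsPGroup 2 N := by
      refine Cfsg.Agent.CharP.isPGroup_of_forall_coprime fun a ha hcop => ?_
      refine Subtype.ext (aut_eq_one_of_diff_fixed (hS.to_le hRS) _ (by rwa [Subgroup.orderOf_coe]) fun x => ?_)
      have hmem : ((x⁻¹ * (a : MulAut R) x : R) : Ω) ∈ K := by
        rw [Subgroup.coe_mul, Subgroup.coe_inv, ← autFun_apply]
        exact hND ha 0 x x.2
      refine Subtype.ext ?_
      rw [← autFun_apply]
      exact hcon a ha hcop _ hmem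
    have hle : N ≤ pCore 2 (F.autGroup R) :=
      le_sSup (show N ∈ {N : Subgroup (F.autGroup R) | N.Normal ∧ IsPGroup 2 N} from ⟨hN, hNp⟩)
    exact hgR (le_of_le_pCore hRc hRr ⟨hP.1 hgP, hgN⟩ (hle hcgN))
  -- restriction to `K`
  have hres : ∀ a : F.autGroup R, (orderOf a).Coprime 2 →
      ∃ α : MulAut K, Odd (orderOf α) ∧ ∀ x ∈ K, autFun α x = autFun (a : MulAut R) x := by
    intro a ha
    have hm' := (isMap_of_mem_autGroup hRS a.2).restrict hKR
    obtain ⟨α, -, hα⟩ := hm'.exists_aut (eq_of_le_card (img_le (hKinv a)) hm'.card_img.ge)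
    have hpow : ∀ (n : ℕ), ∀ x ∈ K, autFun (α ^ n) x = autFun ((a : MulAut R) ^ n) x := by
      intro n
      induction n with
      | zero => intro x hx; simp [autFun_one]
      | succ n ih =>
        intro x hx
        have hmem : autFun ((a : MulAut R) ^ n) x ∈ K := by
          have := hKinv (a ^ n) x hx
          rwa [Subgroup.coe_pow] at this
        rw [pow_succ', pow_succ', autFun_mul, autFun_mul, ih x hx, hα _ hmem]
    refine ⟨α, ?_, hα⟩
    have h1 : α ^ orderOf a = 1 := autFun_ext fun x hx => by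
      rw [hpow _ x hx, ← Subgroup.coe_pow, pow_orderOf_eq_one, Subgroup.coe_one, autFun_one, autFun_one]
    exact (Nat.coprime_two_right.1 ha).of_dvd_nat (orderOf_dvd_of_pow_eq_one h1)
  obtain ⟨a, -, hacop, x₀, hx₀, hmove⟩ := hcore _ hDn le_rfl hcgD
  obtain ⟨α, hαodd, hα⟩ := hres a hacop
  have hα1 : α ≠ 1 := fun h => hmove (by rw [← hα x₀ hx₀, h, autFun_one]; rfl)
  have hKG : IsPGroup 2 K := hS.to_le hKS
  by_cases hab : ∀ x y : K, x * y = y * x
  swap
  · obtain ⟨i, t, hi, hit, ht⟩ := Cfsg.Agent.Fusion.MetacyclicTwo.quaternion_of_aut hKG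
      (Cfsg.Agent.OddLocal.MetacyclicAction.isMetacyclic_of_injective hm (Subgroup.inclusion hKP)
        (Subgroup.inclusion_injective hKP)) hab α hαodd hα1
    refine hno (Subgroup.inclusion hKP i) (Subgroup.inclusion hKP t) ?_ ?_ ?_
    · rw [orderOf_injective _ (Subgroup.inclusion_injective hKP), hi]
    · rw [← map_inv, ← map_inv, ← map_mul, ← map_mul, hit]
    · obtain ⟨k, hk⟩ := Subgroup.mem_zpowers_iff.1 ht
      exact Subgroup.mem_zpowers_iff.2 ⟨k, by rw [← map_zpow, hk, map_pow]⟩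
  -- `K` is abelian
  have habK : ∀ x ∈ K, ∀ y ∈ K, x * y = y * x := fun x hx y hy =>
    congrArg Subtype.val (hab ⟨x, hx⟩ ⟨y, hy⟩)
  let V : Subgroup Ω :=
    { carrier := {x | x ∈ K ∧ x ^ 2 = 1}
      one_mem' := ⟨K.one_mem, one_pow 2⟩
      mul_mem' := fun {u v} hu hv => ⟨K.mul_mem hu.1 hv.1, by
        rw [(show Commute u v from habK u hu.1 v hv.1).mul_pow, hu.2, hv.2, one_mul]⟩
      inv_mem' := fun {u} hu => ⟨K.inv_mem hu.1, by rw [inv_pow, hu.2, inv_one]⟩ }
  have hVK : V ≤ K := fun x hx => hx.1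
  have hVinv : ∀ a : F.autGroup R, ∀ x ∈ V, autFun (a : MulAut R) x ∈ V := fun a x hx => by
    refine ⟨hKinv a x hx.1, ?_⟩
    have hm' := isMap_of_mem_autGroup hRS a.2
    rw [pow_two, ← hm'.map_mul (hKR hx.1) (hKR hx.1), ← pow_two, hx.2, hm'.map_one]
  let W : ℕ → Subgroup Ω := fun i => if i = 0 then ⊥ else V
  have hW : ∀ a : F.autGroup R, ∀ i, ∀ x ∈ W i, autFun (a : MulAut R) x ∈ W i := by
    intro a i x hx
    by_cases hi : i = 0
    · simp only [W, if_pos hi, Subgroup.mem_bot] at hx ⊢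
      rw [hx]
      exact (isMap_of_mem_autGroup hRS a.2).map_one
    · simp only [W, if_neg hi] at hx ⊢
      exact hVinv a x hx
  have hWn : (stab F R W hW).Normal := Cfsg.Agent.S5236.stab_normal hRS
    (fun i => by simp only [W, Nat.succ_ne_zero, if_false]; exact inf_eq_left.2 (hVK.trans hKR)) hW
  -- `g` moves an involution of `K`
  obtain ⟨e, heV, hge⟩ : ∃ e ∈ V, g * e * g⁻¹ ≠ e := by
    by_contra hcon
    push Not at hcon
    have hN : (stab F R D hD ⊓ stab F R W hW).Normal := Subgroup.normal_inf_normal _ _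
    have hcgW : cg ∈ stab F R W hW := by
      intro i x hx
      simp only [W, Nat.succ_ne_zero, if_false] at hx
      show x⁻¹ * autFun (conjAut S R ⟨g, _⟩) x ∈ W i
      rw [conjAut_apply _ (hKR (hVK hx)), cj_apply, hcon x hx, inv_mul_cancel]
      exact Subgroup.one_mem _
    obtain ⟨b, hb, hbcop, x, hx, hbx⟩ := hcore _ hN inf_le_left ⟨hcgD, hcgW⟩
    obtain ⟨β, hβodd, hβ⟩ := hres b hbcop
    refine hbx ?_
    rw [← hβ x hx, Cfsg.Agent.Fusion.MetacyclicTwo.abelian_fix hKG hab β hβodd fun y hy => ?_, autFun_one]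
    · rfl
    have hyV : (y : Ω) ∈ V := ⟨y.2, by simpa using congrArg Subtype.val hy⟩
    have h2 := hb.2 0 (y : Ω) hyV
    simp only [W, if_pos, Subgroup.mem_bot] at h2
    refine Subtype.ext ?_
    rw [← autFun_apply, hβ y y.2]
    exact (inv_mul_eq_one.1 h2).symm
  obtain ⟨N₀, hN₀, hN₀c, hN₀q⟩ := id hm
  -- the involutions
  have hodd_per : ∀ x ∈ K, autFun α (autFun α x) = x → autFun α x = x := by
    intro x hx h2
    have hper : ∀ k : ℕ, autFun (α ^ (2 * k)) x = x := by
      intro k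
      induction k with
      | zero => simp [autFun_one]
      | succ k ih =>
        rw [show 2 * (k + 1) = 1 + (1 + 2 * k) by ring, pow_add, pow_add, pow_one, autFun_mul,
          autFun_mul, ih, h2]
    obtain ⟨k, hk⟩ := hαodd
    have := pow_orderOf_eq_one α
    rw [hk, pow_succ'] at this
    have h3 : autFun (α * α ^ (2 * k)) x = x := by rw [this, autFun_one]; rfl
    rwa [autFun_mul, hper] at h3
  have hαmem : ∀ x ∈ K, autFun α x ∈ K := fun x hx => autFun_mem α hx
  have hαmul : ∀ x ∈ K, ∀ y ∈ K, autFun α (x * y) = autFun α x * autFun α y := fun x hx y hy =>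
    autFun_isHom α x hx y hy
  have hαone : autFun α 1 = 1 := (autFun_isHom α).map_one
  have hαinj : ∀ x ∈ K, ∀ y ∈ K, autFun α x = autFun α y → x = y := fun x _ y _ h => by
    have := congrArg (autFun α⁻¹) h
    rwa [autFun_inv_apply, autFun_inv_apply] at this
  have hfin : Finite V := finite_of_le (hVK.trans hKS)
  have hV4 : Nat.card V ≤ 4 := by
    have hVP : V ≤ P := hVK.trans hKP
    have h1 := Cfsg.Agent.Fusion.MetacyclicTwo.card_dvd_sq (N := N₀) hN₀c hN₀q (V.subgroupOf P) (e := 2)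
      fun x hx => Subtype.ext (by simpa using (show (x : Ω) ^ 2 = 1 from hx.2))
    rw [Nat.card_congr (Subgroup.subgroupOfEquivOfLe hVP).toEquiv] at h1
    exact Nat.le_of_dvd (by norm_num) h1
  have hlist : ∀ w ∈ V, ∀ v ∈ V, w ≠ 1 → v ≠ 1 → w ≠ v → ∀ x ∈ V,
      x = 1 ∨ x = w ∨ x = v ∨ x = w * v := by
    intro w hw v hv hw1 hv1 hwv x hx
    by_contra hcon
    push Not at hcon
    obtain ⟨hx1, hxw, hxv, hxwv⟩ := hcon
    have hwv1 : w * v ≠ 1 := fun h => hwv (by
      have h1 : w * w = 1 := by rw [← pow_two]; exact hw.2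
      exact mul_left_cancel (h1.trans h.symm))
    have hsub : ({1, w, v, w * v, x} : Finset Ω) ⊆ (Set.Finite.toFinset (Set.toFinite (V : Set Ω))) := by
      intro y hy
      simp only [Finset.mem_insert, Finset.mem_singleton] at hy
      rw [Set.Finite.mem_toFinset]
      rcases hy with rfl | rfl | rfl | rfl | rfl
      exacts [V.one_mem, hw, hv, V.mul_mem hw hv, hx]
    have h5 : ({1, w, v, w * v, x} : Finset Ω).card = 5 := by
      have e1 : w * v ≠ w := fun h => hv1 (mul_eq_left.1 h)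
      have e2 : w * v ≠ v := fun h => hw1 (mul_eq_right.1 h)
      simp [hw1.symm, hv1.symm, hwv, hwv1.symm, hx1.symm, hxw.symm, hxv.symm, hxwv.symm, e1.symm, e2.symm]
    have := Finset.card_le_card hsub
    rw [h5, ← Set.ncard_eq_toFinset_card (V : Set Ω) (Set.toFinite _), ← Nat.card_coe_set_eq] at this
    change 5 ≤ Nat.card V at this
    omega
  have hfpf : ∀ w ∈ V, w ≠ 1 → autFun α w ≠ w := by
    intro w hw hw1 hfix
    refine hα1 (Cfsg.Agent.Fusion.MetacyclicTwo.abelian_fix hKG hab α hαodd fun y hy => ?_)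
    have hyV : (y : Ω) ∈ V := ⟨y.2, by simpa using congrArg Subtype.val hy⟩
    refine Subtype.ext ?_
    rw [← autFun_apply]
    by_contra hne
    have hy1 : (y : Ω) ≠ 1 := fun h => hne (by rw [h, hαone])
    have hwy : w ≠ y := fun h => hne (h ▸ hfix)
    have hαy : autFun α y ∈ V := ⟨hαmem y y.2, by
      rw [pow_two, ← hαmul _ y.2 _ y.2, ← pow_two, hyV.2, hαone]⟩
    rcases hlist w hw y hyV hw1 hy1 hwy _ hαy with h | h | h | h
    · exact hy1 (hαinj _ y.2 1 K.one_mem (h.trans hαone.symm))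
    · exact hwy (hαinj _ y.2 w hw.1 (h.trans hfix.symm)).symm
    · exact hne h
    · refine hne (hodd_per _ y.2 ?_)
      rw [h, hαmul _ hw.1 _ y.2, hfix, h, ← mul_assoc, ← pow_two, hw.2, one_mul]
  have hexists : ∃ n : ℕ, ∀ x ∈ K, x ^ 2 ^ n = 1 := by
    obtain ⟨n, hn⟩ := hKG.exists_card_eq
    exact ⟨n, fun x hx => by
      have := hn ▸ (pow_card_eq_one' : (⟨x, hx⟩ : K) ^ Nat.card K = 1)
      simpa using congrArg Subtype.val this⟩
  set n := Nat.find hexists with hn
  have hexp : ∀ x ∈ K, x ^ 2 ^ n = 1 := Nat.find_spec hexists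
  have he1 : e ≠ 1 := fun h => hge (by rw [h, mul_one, mul_inv_cancel])
  obtain ⟨m, hnm⟩ : ∃ m, n = m + 1 := Nat.exists_eq_succ_of_ne_zero fun h => he1 (by
    have := hexp e (hVK heV)
    rwa [h, pow_zero, pow_one] at this)
  rw [hnm] at hexp
  obtain ⟨h, hhK, hh⟩ : ∃ h ∈ K, h ^ 2 ^ m ≠ 1 := by
    by_contra hcon
    push Not at hcon
    exact Nat.find_min hexists (show m < Nat.find hexists by omega) hcon
  set w := h ^ 2 ^ m with hwdef
  have hwV : w ∈ V := ⟨K.pow_mem hhK _, by rw [hwdef, ← pow_mul, ← pow_succ]; exact hexp h hhK⟩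
  have hαpow : ∀ x ∈ K, ∀ k : ℕ, autFun α (x ^ k) = autFun α x ^ k := by
    intro x hx k
    induction k with
    | zero => simp [hαone]
    | succ k ih => rw [pow_succ, pow_succ, hαmul _ (K.pow_mem hx k) _ hx, ih]
  have hvV : autFun α w ∈ V := ⟨hαmem w hwV.1, by rw [← hαpow w hwV.1, hwV.2, hαone]⟩
  have hv1 : autFun α w ≠ 1 := fun h1 => hh (hαinj _ hwV.1 1 K.one_mem (h1.trans hαone.symm))
  have hwv : w ≠ autFun α w := (hfpf w hwV hh).symm
  obtain ⟨q, hqK, hqe⟩ : ∃ q ∈ K, q ^ 2 ^ m = e := by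
    have hu : autFun α (autFun α w) = w * autFun α w := by
      have huV : autFun α (autFun α w) ∈ V := ⟨hαmem _ hvV.1, by rw [← hαpow _ hvV.1, hvV.2, hαone]⟩
      rcases hlist w hwV _ hvV hh hv1 hwv _ huV with h1 | h1 | h1 | h1
      · exact absurd (hαinj _ hvV.1 1 K.one_mem (h1.trans hαone.symm)) hv1
      · exact absurd (hodd_per w hwV.1 h1) hwv.symm
      · exact absurd (hαinj _ hvV.1 w hwV.1 h1) hwv.symm
      · exact h1
    rcases hlist w hwV _ hvV hh hv1 hwv e heV with h1 | h1 | h1 | h1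
    · exact absurd h1 he1
    · exact ⟨h, hhK, h1.symm⟩
    · exact ⟨autFun α h, hαmem h hhK, by rw [← hαpow h hhK, ← hwdef, h1]⟩
    · exact ⟨autFun α (autFun α h), hαmem _ (hαmem h hhK), by
        rw [← hαpow _ (hαmem h hhK), ← hαpow h hhK, ← hwdef, hu, h1]⟩
  rcases Nat.eq_zero_or_pos m with rfl | hm0
  · -- a four-group and `g` generate a dihedral group of order 8
    have hexp2 : ∀ x ∈ K, x ^ 2 = 1 := fun x hx => by simpa using hexp x hx
    have hgP' : ∀ x ∈ K, x ∈ P := fun x hx => hKP hx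
    set e' := g * e * g⁻¹ with he'
    have he'V : e' ∈ V := ⟨hgK e heV.1, hexp2 _ (hgK e heV.1)⟩
    have he'1 : e' ≠ 1 := fun h1 => he1 (by rwa [he', mul_inv_eq_one, mul_eq_left] at h1)
    have hg2K : g ^ 2 ∈ K := ⟨hg2, P.pow_mem hgP 2⟩
    have hg2V : g ^ 2 ∈ V := ⟨hg2K, hexp2 _ hg2K⟩
    have hge' : g * e' * g⁻¹ = e := by
      have : g ^ 2 * e * (g ^ 2)⁻¹ = e := by rw [habK _ hg2K e heV.1, mul_inv_cancel_right]
      rw [← this, he']
      simp only [pow_two]
      group
    have hei : e⁻¹ = e := inv_eq_of_mul_eq_one_right (by rw [← pow_two, heV.2])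
    by_cases hg2one : g ^ 2 = 1
    · have hgi : g⁻¹ = g := inv_eq_of_mul_eq_one_right (by rw [← pow_two, hg2one])
      have hi2 : (g * e) ^ 2 = e' * e := by
        rw [he', hgi, pow_two]; simp only [mul_assoc]
      refine hno ⟨g * e, P.mul_mem hgP (hKP heV.1)⟩ ⟨e, hKP heV.1⟩ ?_ ?_ ?_
      · refine orderOf_eq_prime_pow (p := 2) (n := 1) (fun h1 => hge ?_) (Subtype.ext ?_)
        · have h2 : (g * e) ^ 2 = 1 := by simpa using congrArg Subtype.val h1
          rw [hi2] at h2
          exact (eq_inv_of_mul_eq_one_left h2).trans hei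
        · show (g * e) ^ (2 ^ (1 + 1)) = 1
          rw [show (2 : ℕ) ^ (1 + 1) = 2 * 2 by norm_num, pow_mul, hi2,
            hexp2 _ (K.mul_mem he'V.1 heV.1)]
      · refine Subtype.ext ?_
        show e * (g * e) * e⁻¹ = (g * e)⁻¹
        rw [mul_inv_rev, hgi, hei, mul_assoc e, mul_assoc g, ← pow_two, heV.2, mul_one]
      · have : (⟨e, hKP heV.1⟩ : P) ^ 2 = 1 := Subtype.ext (by simpa using heV.2)
        rw [this]; exact Subgroup.one_mem _
    · have hg2e : g ^ 2 = e * e' := by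
        have hconj : g * g ^ 2 * g⁻¹ = g ^ 2 := by group
        rcases hlist e heV e' he'V he1 he'1 (Ne.symm hge) _ hg2V with h1 | h1 | h1 | h1
        · exact absurd h1 hg2one
        · rw [h1] at hconj; exact absurd hconj hge
        · rw [h1, hge'] at hconj; exact absurd hconj.symm hge
        · exact h1
      refine hno ⟨g, hgP⟩ ⟨e, hKP heV.1⟩ ?_ ?_ ?_
      · refine orderOf_eq_prime_pow (p := 2) (n := 1) (fun h1 => hg2one ?_) (Subtype.ext ?_)
        · simpa using congrArg Subtype.val h1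
        · show g ^ (2 ^ (1 + 1)) = 1
          rw [show (2 : ℕ) ^ (1 + 1) = 2 * 2 by norm_num, pow_mul, hexp2 _ hg2K]
      · refine Subtype.ext ?_
        show e * g * e⁻¹ = g⁻¹
        rw [eq_inv_iff_mul_eq_one, hei]
        calc e * g * e * g = e * (g * e * g⁻¹) * g ^ 2 := by simp only [pow_two]; group
          _ = g ^ 2 * g ^ 2 := by rw [← he', ← hg2e]
          _ = 1 := by rw [← pow_two, hg2V.2]
      · have : (⟨e, hKP heV.1⟩ : P) ^ 2 = 1 := Subtype.ext (by simpa using heV.2)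
        rw [this]; exact Subgroup.one_mem _
  · refine Cfsg.Agent.Fusion.MetacyclicTwo.homocyclic_absurd (G := P) (hS.to_le hP.1) hm
      (K.subgroupOf P) (fun x hx y hy => Subtype.ext (habK _ hx _ hy)) ⟨g, hgP⟩
      (fun x hx => hgK _ hx) ⟨hg2, P.pow_mem hgP 2⟩ m (by omega)
      (fun x hx => Subtype.ext (by simpa using hexp _ hx)) (q := ⟨q, hKP hqK⟩) hqK ?_
    intro h1
    have h2 := congrArg Subtype.val h1
    simp only [Subgroup.coe_mul, Subgroup.coe_inv, Subgroup.coe_pow, hqe] at h2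
    exact hge h2

end Cfsg.Agent.S5235
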