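import Cfsg.Statements.S5212
import Cfsg.Agent.S5235
import Cfsg.Agent.Lib.Fusion.EssentialShape
-- import your own Cfsg.Agent.* helpers here

set_option autoImplicit false
open Cfsg

namespace Cfsg.Agent.S5212

open Cfsg.FusionSystem Cfsg.Agent.Fusion.Basic Cfsg.Agent.Fusion.Saturation Cfsg.Agent.Fusion.Alperin Cfsg.Agent.Fusion.Normal

theorem stabilizes_two {H : Type*} [Group H] [Finite H] {C D : Subgroup H} (h : C.relIndex D ≤ 2)
    (α : MulAut H) (hC : ∀ x, α x ∈ C ↔ x ∈ C) (hD : ∀ x ∈ D, α x ∈ D) :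
    ∀ x ∈ D, x⁻¹ * α x ∈ C := by
  intro x hx
  have h0 : C.relIndex D ≠ 0 := Subgroup.index_ne_zero_of_finite
  rcases (show C.relIndex D = 1 ∨ C.relIndex D = 2 by omega) with h1 | h2
  · exact C.mul_mem (C.inv_mem (Subgroup.relIndex_eq_one.1 h1 hx)) (Subgroup.relIndex_eq_one.1 h1 (hD x hx))
  · have h3 := Subgroup.mul_mem_iff_of_index_two (H := C.subgroupOf D) h2
      (a := (⟨x, hx⟩ : D)⁻¹) (b := ⟨α x, hD x hx⟩)
    simp only [inv_mem_iff, Subgroup.mem_subgroupOf] at h3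
    exact h3.2 (hC x).symm

open Cfsg.Agent.Fusion.EssentialShape in
theorem homocyclic_or_trivial {H : Type*} [CommGroup H] [Finite H] (hH : IsPGroup 2 H)
    (hrk : (powImage H 2 1).index ≤ 2 ^ 2) (α : MulAut H) (hα : Odd (orderOf α)) :
    α = 1 ∨ ∃ n k : ℕ, Nonempty (H ≃* Multiplicative (Fin k → ZMod (2 ^ n))) := by
  haveI : Fact (Nat.Prime 2) := ⟨Nat.prime_two⟩
  rcases subsingleton_or_nontrivial H with hs | hne
  · exact Or.inl (MulEquiv.ext fun x => Subsingleton.elim _ _)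
  rcases exists_series_or_homocyclic hH hrk with ⟨C, n, h0, hn, hmono, hinv, hstep⟩ | ⟨b, hexp, hker, hidx⟩
  · left
    obtain ⟨k, hk⟩ := exists_pow_eq_one_of_stabilizes (p := 2) hH C n h0 hn hmono α fun i hi =>
      stabilizes_two (hstep i hi) α (fun x => ⟨fun h => by
          have := hinv i hi.le α⁻¹ _ h
          rwa [MulAut.inv_apply_self] at this, fun h => hinv i hi.le α x h⟩)
        (hinv (i + 1) hi α)
    refine orderOf_eq_one_iff.1 (Nat.eq_one_of_dvd_coprimes ?_ dvd_rfl (orderOf_dvd_of_pow_eq_one hk))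
    exact (Nat.coprime_two_right.2 hα).pow_right k
  · right
    obtain ⟨e⟩ := homocyclic_equiv hH hexp hker hidx
    exact ⟨b + 1, 2, ⟨e.trans (AddEquiv.toMultiplicative (LinearEquiv.finTwoArrow ℕ _).symm.toAddEquiv)⟩⟩

theorem no_odd {Ω : Type*} [Group Ω] {S : Subgroup Ω} [Finite S] (hS : IsPGroup 2 S) (hm : Cfsg.IsMetacyclic ↥S)
    (hh : ¬ ∃ n k : ℕ, Nonempty (↥S ≃* Multiplicative (Fin k → ZMod (2 ^ n))))
    (hd : ¬ ∃ m : ℕ, Nonempty (↥S ≃* DihedralGroup m)) (hq : ¬ ∃ m : ℕ, Nonempty (↥S ≃* QuaternionGroup m))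
    (hsd : ¬ Cfsg.IsQuasiDihedral ↥S) (α : MulAut S) (hα : Odd (orderOf α)) : α = 1 := by
  classical
  by_contra hα1
  by_cases hab : ∀ x y : S, x * y = y * x
  · let inst : CommGroup S := { (inferInstance : Group S) with mul_comm := hab }
    obtain ⟨N, hN, hNc, hQc⟩ := id hm
    obtain ⟨a, ha⟩ := (Subgroup.isCyclic_iff_exists_zpowers_eq_top N).1 hNc
    obtain ⟨bq, hbq⟩ := hQc.exists_generator
    obtain ⟨b, rfl⟩ := QuotientGroup.mk'_surjective N bq
    set M := Cfsg.Agent.Fusion.EssentialShape.powImage S 2 1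
    have hrk : M.index ≤ 2 ^ 2 := by
      let f : Fin 2 × Fin 2 → S ⧸ M := fun x => QuotientGroup.mk (a ^ (x.1 : ℕ) * b ^ (x.2 : ℕ))
      have hf : Function.Surjective f := by
        intro q
        obtain ⟨x, rfl⟩ := QuotientGroup.mk_surjective q
        obtain ⟨v, hv⟩ := Subgroup.mem_zpowers_iff.1 (hbq (QuotientGroup.mk' N x))
        rw [← map_zpow] at hv
        have hmem : x * (b ^ v)⁻¹ ∈ N := (QuotientGroup.eq_one_iff _).1 (show
          QuotientGroup.mk' N (x * (b ^ v)⁻¹) = 1 by rw [map_mul, map_inv, hv, mul_inv_cancel])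
        obtain ⟨u, hu⟩ := Subgroup.mem_zpowers_iff.1 (ha ▸ hmem : x * (b ^ v)⁻¹ ∈ Subgroup.zpowers a)
        obtain ⟨u', r, hr, hur⟩ : ∃ (u' : ℤ) (r : ℕ), r < 2 ∧ u = 2 * u' + r := ⟨u / 2, (u % 2).toNat, by omega, by omega⟩
        obtain ⟨v', r', hr', hvr⟩ : ∃ (v' : ℤ) (r' : ℕ), r' < 2 ∧ v = 2 * v' + r' := ⟨v / 2, (v % 2).toNat, by omega, by omega⟩
        refine ⟨(⟨r, hr⟩, ⟨r', hr'⟩), QuotientGroup.eq.2 ⟨a ^ u' * b ^ v', ?_⟩⟩
        have hx : x = a ^ u * b ^ v := by rw [hu, inv_mul_cancel_right]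
        rw [hx, hur, hvr]
        simp only [powMonoidHom_apply, pow_one, zpow_add, zpow_mul, zpow_natCast, zpow_two, pow_two, mul_zpow]
        simp [mul_comm, mul_left_comm, mul_assoc]
      have := Nat.card_le_card_of_surjective f hf
      rw [Subgroup.index_eq_card]
      refine this.trans (le_of_eq ?_)
      rw [Nat.card_prod, Nat.card_eq_fintype_card, Fintype.card_fin]; norm_num
    rcases homocyclic_or_trivial hS hrk α hα with h | h
    exacts [hα1 h, hh h]
  · obtain ⟨i, t, hi, hit, ht⟩ := Cfsg.Agent.Fusion.MetacyclicTwo.quaternion_of_aut hS hm hab α hα hα1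
    rcases Cfsg.Agent.Fusion.MetacyclicTwo.maximal_class hS hm hi hit ht with h | h | h
    exacts [hd h, hq h, hsd h]

/-- Let S be a finite metacyclic 2-group that is not homocyclic abelian (a direct product of cyclic groups of one common order), not dihedral, not semidihedral and not generalized quaternion. Then every saturated fusion system over S is the inner fusion system of S. -/
theorem result {Ω : Type*} [Group Ω] {S : Subgroup Ω} [Finite S] (hS : IsPGroup 2 S) (F : Cfsg.FusionSystem S) (hF : F.IsSaturated 2) (hm : Cfsg.IsMetacyclic ↥S) (hh : ¬ ∃ n k : ℕ, Nonempty (↥S ≃* Multiplicative (Fin k → ZMod (2 ^ n)))) (hd : ¬ ∃ m : ℕ, Nonempty (↥S ≃* DihedralGroup m)) (hq : ¬ ∃ m : ℕ, Nonempty (↥S ≃* QuaternionGroup m)) (hsd : ¬ Cfsg.IsQuasiDihedral ↥S) : ∀ P : Subgroup Ω, F.Hom P = (Cfsg.innerFusionSystem S).Hom P := by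
  classical
  have hSsc : F.StronglyClosed S := ⟨le_rfl, fun R _ φ hφ x => (F.le_of_mem hφ).2 x⟩
  have hSn : F.IsNormal S := Cfsg.Agent.S5235.result 2 hS F hF S hSsc rfl hm hd hq hsd
  have hno : ∀ P : Subgroup Ω, F.IsEssential 2 P → False := fun P hP =>
    (essential_lt hS hF hP).not_ge (normal_invariant hS hSn (Or.inr hP)).1
  have hA : IsPGroup 2 (F.autGroup S) := by
    refine IsPGroup.of_equiv (H := F.autGroup S) (G := (⊤ : Subgroup (F.autGroup S))) ?_ Subgroup.topEquiv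
    refine Cfsg.Agent.CharP.isPGroup_of_forall_coprime fun a _ hcop => Subtype.ext ?_
    exact no_odd hS hm hh hd hq hsd _ (by rw [Subgroup.orderOf_coe]; exact Nat.coprime_two_right.1 hcop)
  intro P
  rw [eq_inner_of_isPGroup hS hF hno hA]

end Cfsg.Agent.S5212
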