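import Cfsg.Statements.S5291
import Cfsg.Agent.Lib.Fusion.Subsystems

set_option autoImplicit false
open Cfsg

namespace Cfsg.Agent.S5291

open Cfsg.FusionSystem Cfsg.Agent.Fusion.Basic Cfsg.Agent.Fusion.Saturation Cfsg.Agent.Fusion.Alperin Cfsg.Agent.Fusion.Normal Cfsg.Agent.Fusion.Subsystems

theorem normal_transport {Ω : Type*} [Group Ω] {S T R : Subgroup Ω} {E : Cfsg.FusionSystem T}
    {F : Cfsg.FusionSystem S} (hinv : E.IsInvariantIn F) (hTS : T ≤ S) (hR : E.IsNormal R)
    {α : MulAut T} (hα : α ∈ F.autGroup T) : E.IsNormal (img (autFun α) R) := by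
  have haut := (mem_autGroup_iff hTS).1 hα
  refine isNormal_iff.2 ⟨img_le fun x hx => autFun_mem α (hR.1 hx), fun P f hf => ?_⟩
  obtain ⟨g, hg, hge⟩ := invariant_transport hinv hf.le hf (inv_mem hα)
  obtain ⟨k, hk, hke, hkR⟩ := (isNormal_iff.1 hR).2 _ g hg
  obtain ⟨m, hm, hme⟩ := invariant_transport hinv hk.le hk hα
  have hP' : ∀ x ∈ P, autFun α⁻¹ x ∈ img (autFun α⁻¹) P := fun x hx => mem_img_self _ hx
  refine ⟨m, hm.restrict (sup_le (fun x hx => ?_) (img_mono _ le_sup_right)), fun x hx => ?_, ?_⟩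
  · rw [← autFun_apply_inv α x]
    exact mem_img_self _ (Subgroup.mem_sup_left (hP' x hx))
  · have h1 := hme _ (Subgroup.mem_sup_left (hP' x hx))
    rw [autFun_apply_inv, hke _ (hP' x hx), hge x hx, autFun_apply_inv] at h1
    exact h1
  · conv_lhs => rw [(haut.restrict hR.1).img_img]
    rw [img_congr (g := fun x => autFun α (k x)) fun x hx => hme x (Subgroup.mem_sup_right hx),
      ← (hk.restrict le_sup_right).img_img, hkR]

/-- Let F be a saturated fusion system over a finite p-group S and E a weakly normal subsystem of F over a subgroup T. Suppose a subgroup R of T is normal in E (E = N_E(R)), and let R* be the subgroup of T generated by the images of R under all maps of F with source R. Then R* is normal in F (F = N_F(R*)). -/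
theorem result {Ω : Type*} [Group Ω] {S : Subgroup Ω} [Finite S] (p : ℕ) [Fact p.Prime] (hS : IsPGroup p S)
    (F : Cfsg.FusionSystem S) (hF : F.IsSaturated p)
    {T : Subgroup Ω} (E : Cfsg.FusionSystem T) (hE : E.IsWeaklyNormalIn F p)
    (R : Subgroup Ω) (hR : E.IsNormal R) :
    F.IsNormal (Subgroup.closure {x : Ω | ∃ φ ∈ F.Hom R, ∃ r : R, x = φ r}) := by
  obtain ⟨hEsat, -, hinv⟩ := hE
  have hTS : T ≤ S := subsystem_le hinv.1
  have hfinT : Finite T := finite_of_le hTS
  set L := Subgroup.closure {x : Ω | ∃ φ ∈ F.Hom R, ∃ r : R, x = φ r} with hLdef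
  have haut : ∀ α ∈ F.autGroup T, IsMap F T (autFun α) :=
    fun α hα => (mem_autGroup_iff hTS).1 hα
  have hL : L = sSup {A : Subgroup Ω | ∃ α ∈ F.autGroup T, A = img (autFun α) R} := by
    refine le_antisymm ((Subgroup.closure_le _).2 ?_) (sSup_le ?_)
    · rintro _ ⟨φ, hφ, r, rfl⟩
      obtain ⟨α, hα, f₀, hf₀, he⟩ := invariant_frattini hinv hR.1 (IsMap.of_hom hφ)
      have hmem : img (autFun α) R ∈ {A : Subgroup Ω | ∃ α ∈ F.autGroup T, A = img (autFun α) R} :=
        ⟨α, hα, rfl⟩
      refine le_sSup hmem ?_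
      rw [← ext_apply φ r, he r r.2]
      exact mem_img_self _ ((normal_img_eq hR hf₀ le_rfl).le (mem_img_self f₀ r.2))
    · rintro _ ⟨α, hα, rfl⟩
      refine img_le fun x hx => Subgroup.subset_closure ?_
      have hm := (haut α hα).restrict hR.1
      exact ⟨hm.hom, hm.hom_mem_self, ⟨x, hx⟩, (hm.hom_apply ⟨x, hx⟩).symm⟩
  have hN : E.IsNormal L := by
    rw [hL]
    refine sSup_induction isNormal_bot (fun _ _ => isNormal_sup) ?_ ?_
    · refine (finite_subgroups_le T).subset ?_
      rintro _ ⟨α, -, rfl⟩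
      exact img_le fun x hx => autFun_mem α (hR.1 hx)
    · rintro _ ⟨α, hα, rfl⟩
      exact normal_transport hinv hTS hR hα
  have hLinv : ∀ α ∈ F.autGroup T, img (autFun α) L = L := by
    intro α hα
    have hm := (haut α hα).restrict hN.1
    have hfinL : Finite L := finite_of_le hN.1
    refine eq_of_le_card (img_le fun x hx => ?_) hm.card_img.ge
    suffices x ∈ T ∧ autFun α x ∈ L from this.2
    induction hx using Subgroup.closure_induction with
    | mem y hy =>
      obtain ⟨φ, hφ, r, rfl⟩ := hy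
      have hyT : ∀ z : R, φ z ∈ T := fun z => hinv.2.1.2 R hR.1 φ hφ z
      have hc : IsMap F R (fun z => autFun α (ext φ z)) :=
        (haut α hα).comp (IsMap.of_hom hφ) fun z hz => by rw [ext_of_mem φ hz]; exact hyT _
      refine ⟨hyT r, Subgroup.subset_closure ⟨hc.hom, hc.hom_mem_self, r, ?_⟩⟩
      rw [IsMap.hom_apply, ext_apply]
    | one => exact ⟨T.one_mem, by rw [(autFun_isHom α).map_one]; exact L.one_mem⟩
    | mul a b _ _ ha hb =>
      exact ⟨T.mul_mem ha.1 hb.1, by rw [autFun_isHom α a ha.1 b hb.1]; exact L.mul_mem ha.2 hb.2⟩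
    | inv a _ ha =>
      exact ⟨T.inv_mem ha.1, by rw [(autFun_isHom α).map_inv ha.1]; exact L.inv_mem ha.2⟩
  have hfinL : Finite L := finite_of_le hN.1
  have hnil : Group.IsNilpotent L := ((hS.to_le hTS).to_le hN.1).isNilpotent
  obtain ⟨n, hn⟩ := Group.IsNilpotent.nilpotent L
  have hchar : ∀ i, (((Subgroup.upperCentralSeries L i).map L.subtype).subgroupOf L).Characteristic := by
    intro i
    rw [Subgroup.subgroupOf, Subgroup.comap_map_eq_self_of_injective L.subtype_injective]
    infer_instance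
  have hC : ∀ i, F.StronglyClosed ((Subgroup.upperCentralSeries L i).map L.subtype) := by
    intro i
    refine stronglyClosed_of_invariant hinv
      (normal_stronglyClosed (isNormal_of_char hN (Subgroup.map_subtype_le _) (hchar i)))
      fun α hα x hx => ?_
    exact (char_img_eq (Subgroup.map_subtype_le _) (hchar i) ((haut α hα).restrict hN.1)
      (hLinv α hα)).le (mem_img_self _ hx)
  refine normal_of_series hS hF n (fun i => (Subgroup.upperCentralSeries L i).map L.subtype)
    (by simp) ?_ (fun i _ => Subgroup.map_mono (Subgroup.upperCentralSeries_mono L (Nat.le_succ i)))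
    (fun i _ => hC i) ?_
  · show (Subgroup.upperCentralSeries L n).map L.subtype = L
    rw [hn, ← MonoidHom.range_eq_map, Subgroup.range_subtype]
  · rintro i - x hx _ ⟨y, hy, rfl⟩
    have h1 := Subgroup.mem_upperCentralSeries_succ_iff.1 hy ⟨x, hx⟩
    exact ⟨_, (Subgroup.upperCentralSeries L i).inv_mem h1, by
      simp [commutatorElement_def, mul_assoc]⟩

end Cfsg.Agent.S5291
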