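import Cfsg.Statements.S1077
import Cfsg.Agent.Lib.Chevalley.StSteinberg
import Cfsg.Agent.Lib.Chevalley.Types.StCerts
-- import your own Cfsg.Agent.* helpers here

set_option autoImplicit false
open Cfsg

namespace Cfsg.Agent.S1077

/-- Steinberg's Theorem: there is a homomorphism `x̄_r(t) ↦ x_r(t)` from the presented group onto the Chevalley group whose kernel is precisely the centre; hence `L(K) ≅ Ḡ/Z(Ḡ)`. -/
theorem result {K : Type*} [Field K] (D : Cfsg.Lie.ChevalleyDatum) (hD : D ∈ [Cfsg.Lie.chevG2, Cfsg.Lie.chevB2, Cfsg.Lie.chevD4, Cfsg.Lie.chevF4, Cfsg.Lie.chevE6, Cfsg.Lie.chevE7, Cfsg.Lie.chevE8]) :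
    ∃ θ : D.SteinbergGroup K →* ↥(D.group K), Function.Surjective θ ∧ θ.ker = Subgroup.center (D.SteinbergGroup K) ∧
      ∀ (r : ℕ) (t : K), r < D.nroots → ((θ (D.stGen K r t) : GL D.Idx K) : Matrix D.Idx D.Idx K) = D.x K r t := by
  open Cfsg.Agent.Chevalley in
  obtain ⟨T, hC, hT⟩ := Types.StCerts.exists_hasCerts hD
  let S := Cfsg.Agent.Chevalley.StSteinberg.stSys hC _
    (Cfsg.Agent.Chevalley.StSteinberg.stHom_gen (F := K) hC)
  have hmem : ∀ x, S.th x ∈ D.group K := fun x =>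
    Cfsg.Agent.Chevalley.StKernel.th_range S ▸ ⟨x, rfl⟩
  refine ⟨S.th.codRestrict (D.group K) hmem, fun y => ?_, ?_, fun r t hr => ?_⟩
  · obtain ⟨x, hx⟩ : (y : GL D.Idx K) ∈ S.th.range := by
      rw [Cfsg.Agent.Chevalley.StKernel.th_range S]; exact y.2
    exact ⟨x, Subtype.ext hx⟩
  · rw [MonoidHom.ker_codRestrict, Cfsg.Agent.Chevalley.StSteinberg.center_eq_ker S hT]
  · exact congrArg Units.val (Cfsg.Agent.Chevalley.StSteinberg.stHom_gen hC r hr t)

end Cfsg.Agent.S1077
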