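import Cfsg.Statements.S1078
import Cfsg.Agent.Lib.Chevalley.StSteinberg
import Cfsg.Agent.Lib.Chevalley.Types.StCerts
import Cfsg.Agent.Lib.Chevalley.Types.OrderG2
import Cfsg.Agent.Lib.Chevalley.Types.OrderF4
import Cfsg.Agent.Lib.Chevalley.Types.OrderE8
-- import your own Cfsg.Agent.* helpers here

set_option autoImplicit false
open Cfsg

namespace Cfsg.Agent.S1078

/-- For G₂, F₄, E₈ the presented group has trivial centre (the universal and adjoint groups coincide). -/
theorem result {K : Type*} [Field K] (D : Cfsg.Lie.ChevalleyDatum) (hD : D ∈ [Cfsg.Lie.chevG2, Cfsg.Lie.chevF4, Cfsg.Lie.chevE8]) :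
    Subgroup.center (D.SteinbergGroup K) = ⊥ := by
  open Cfsg.Agent.Chevalley in
  obtain ⟨T, hC, hT⟩ := Types.StCerts.exists_hasCerts (D := D)
    (by
      simp only [List.mem_cons, List.not_mem_nil, or_false] at hD ⊢
      rcases hD with rfl | rfl | rfl <;> simp)
  obtain ⟨M', hM⟩ : ∃ M' : Matrix (Fin D.rank) (Fin D.rank) ℤ,
      M' * Cfsg.Agent.Chevalley.TorusCard.cartanMat D = 1 := by
    simp only [List.mem_cons, List.not_mem_nil, or_false] at hD
    rcases hD with rfl | rfl | rfl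
    · exact ⟨Cfsg.Agent.Chevalley.Types.OrderG2.Q * Cfsg.Agent.Chevalley.Types.OrderG2.P,
        by decide +kernel⟩
    · exact ⟨Cfsg.Agent.Chevalley.Types.OrderF4.Q * Cfsg.Agent.Chevalley.Types.OrderF4.P,
        by decide +kernel⟩
    · exact ⟨Cfsg.Agent.Chevalley.Types.OrderE8.Q * Cfsg.Agent.Chevalley.Types.OrderE8.P,
        by decide +kernel⟩
  exact Cfsg.Agent.Chevalley.StSteinberg.center_eq_bot hC hT hM

end Cfsg.Agent.S1078
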