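import Cfsg.Statements.S1465
import Cfsg.Agent.OddLocal.Stability
import Cfsg.Agent.Lib.Cores.Basic
-- import your own Cfsg.Agent.* helpers here

set_option autoImplicit false
open Cfsg
open scoped commutatorElement

namespace Cfsg.Agent.S1465

/-- Let p be an odd prime, G a solvable group of odd order, P a normal p-subgroup of G, and X the subgroup generated by a family of abelian p-subgroups of G each normalized by P. Then the image of X in G/C_G(P) lies in O_p(G/C_G(P)); and if O_{p'}(G) = 1 and O_p(G) ∩ C_G(P) ≤ P then X ≤ O_p(G). -/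
theorem result {G : Type*} [Group G] [Finite G] [Group.IsSolvable G] (hodd : Odd (Nat.card G)) (p : ℕ) [Fact p.Prime] (hp : p ≠ 2) (P : Subgroup G) [P.Normal] (hP : IsPGroup p P)
    (S : Set (Subgroup G)) (hS : ∀ B ∈ S, IsMulCommutative B ∧ IsPGroup p B ∧ P ≤ Subgroup.normalizer (B : Set G)) :
    (sSup S).map (QuotientGroup.mk' (Subgroup.centralizer (P : Set G))) ≤ Cfsg.pCore p (G ⧸ Subgroup.centralizer (P : Set G)) ∧
      (Cfsg.pPrimeCore p G = ⊥ → Cfsg.pCore p G ⊓ Subgroup.centralizer (P : Set G) ≤ P → sSup S ≤ Cfsg.pCore p G) := by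
  set C := Subgroup.centralizer (P : Set G) with hC
  set f := QuotientGroup.mk' C with hf
  have h1 : (sSup S).map f ≤ pCore p (G ⧸ C) := by
    rw [Subgroup.map_le_iff_le_comap]
    refine sSup_le fun B hB b hb => ?_
    obtain ⟨hBc, -, hPB⟩ := hS B hB
    refine OddLocal.Stability.quadratic_mem_pCore hp hodd le_rfl hP (fun u hu => ?_)
    have hmem : ⁅u, b⁆ ∈ B := by
      rw [commutatorElement_def]
      exact mul_mem ((Subgroup.mem_normalizer_iff.mp (hPB hu) b).mp hb) (inv_mem hb)
    exact setLike_mul_comm hmem hb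
  refine ⟨h1, fun h0 hle => (Subgroup.map_le_iff_le_comap.mp h1).trans ?_⟩
  have hker : IsPGroup p f.ker := by
    rw [hf, QuotientGroup.ker_mk']
    have h0C : pPrimeCore p C = ⊥ := by
      rw [← Subgroup.map_eq_bot_iff_of_injective _ C.subtype_injective, eq_bot_iff, ← h0]
      exact PLocal.Cores.map_subtype_pPrimeCore_le C
    have hle' := Solvable.Fitting.centralizer_pCore_le p h0C
    have htop : pCore p C = ⊤ := by
      refine top_le_iff.mp (le_trans (fun c _ => ?_) hle')
      rw [Subgroup.mem_centralizer_iff]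
      intro y hy
      have hyP : (y : G) ∈ P := hle ⟨PLocal.Cores.map_subtype_pCore_le C ⟨y, hy, rfl⟩, y.2⟩
      exact Subtype.ext (Subgroup.mem_centralizer_iff.mp c.2 _ hyP)
    exact PLocal.Cores.isPGroup_iff_pCore_eq_top.mpr htop
  exact PLocal.Cores.comap_pCore_le (QuotientGroup.mk'_surjective C) hker


end Cfsg.Agent.S1465
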