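import Cfsg.Statements.S1393
import Cfsg.Agent.OddLocal.Transitivity
-- import your own Cfsg.Agent.* helpers here

set_option autoImplicit false
open Cfsg

namespace Cfsg.Agent.S1393

/-- Let G be a minimal simple group of odd order, A a subgroup satisfying the transitivity hypothesis whose centre has rank at least 3, K = O_{π(A)'}(C_G(A)), and q a prime not dividing the order of A. Then any two maximal A-invariant q-subgroups of G are conjugate by an element of K. -/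
theorem result {G : Type*} [Group G] [Finite G] (hG : Cfsg.IsMinSimpleOddOrder G)
    (A : Subgroup G) (hA : Cfsg.TransitivityHypothesis A) (hZ : ¬ Cfsg.RankLE 2 ↥(A ⊓ Subgroup.centralizer (A : Set G)))
    (q : ℕ) (hq : q.Prime) (hqA : ¬ q ∣ Nat.card A) :
    ∀ Q₁ ∈ Cfsg.maxInvSubgroups ⊤ A {q}, ∀ Q₂ ∈ Cfsg.maxInvSubgroups ⊤ A {q}, ∃ k ∈ Cfsg.piCoreOf (Cfsg.primesNotDvd (Nat.card A)) (Subgroup.centralizer (A : Set G)), Q₂ = Q₁.map (MulAut.conj k).toMonoidHom := by
  intro Q₁ h₁ Q₂ h₂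
  have := Fact.mk hq
  obtain ⟨p, B, hp, hBZ, hB, hBc⟩ := OddLocal.Transitivity.exists_elementary_of_not_rankLE hZ
  have := Fact.mk hp
  have hpA : p ∣ Nat.card A :=
    (hBc ▸ dvd_pow_self p (Nat.succ_ne_zero 2) : p ∣ Nat.card B).trans
      (Subgroup.card_dvd_of_le (hBZ.trans inf_le_left))
  have key : ∀ Q ∈ Cfsg.maxInvSubgroups ⊤ A {q}, Q ≠ ⊥ →
      ∃ W : Subgroup G, W ≤ B ∧ Nat.card W = p ^ 2 ∧ Q ⊓ Subgroup.centralizer (W : Set G) ≠ ⊥ := by
    intro Q hQ hne
    by_contra hcon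
    push Not at hcon
    have hpQ : ¬ p ∣ Nat.card Q := fun h => hqA (hQ.1.2.1 p hp h ▸ hpA)
    refine hne ((Components.Hyperplane.eq_iSup_hyperplane hB
      (hBc ▸ Nat.pow_le_pow_right hp.pos (Nat.le_succ 2)) hpQ
      ((hBZ.trans inf_le_left).trans hQ.1.2.2)).trans ?_)
    simp only [iSup_eq_bot]
    rintro ⟨D, hDB, hD⟩
    refine hcon D hDB ?_
    have h := Subgroup.relIndex_mul_relIndex ⊥ D B bot_le hDB
    rw [Subgroup.relIndex_bot_left, Subgroup.relIndex_bot_left, hBc, hD, pow_succ] at h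
    exact Nat.eq_of_mul_eq_mul_right hp.pos h
  rcases eq_or_ne Q₁ ⊥ with h | h
  · rw [OddLocal.Transitivity.eq_bot_of_max_bot h₁ h₂ h, h]
    exact ⟨1, one_mem _, (Subgroup.map_bot _).symm⟩
  have h' : Q₂ ≠ ⊥ := fun e => h (OddLocal.Transitivity.eq_bot_of_max_bot h₂ h₁ e)
  obtain ⟨W₁, hW₁, hc₁, hn₁⟩ := key Q₁ h₁ h
  obtain ⟨W₂, hW₂, hc₂, hn₂⟩ := key Q₂ h₂ h'
  have hW : W₁ ⊓ W₂ ≠ ⊥ := by
    intro hbot
    have hN : W₂ ≤ Subgroup.normalizer (W₁ : Set G) := fun w hw => by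
      refine Subgroup.centralizer_le_normalizer _ (Subgroup.mem_centralizer_iff.mpr fun v hv => ?_)
      exact Components.Hyperplane.mem_comm hB (hW₁ hv) (hW₂ hw)
    have hcard := Coprime.card_sup_of_disjoint hN (disjoint_iff.mpr hbot)
    have hle := Subgroup.card_le_of_le (sup_le hW₁ hW₂)
    rw [hcard, hc₁, hc₂, hBc, ← pow_add] at hle
    exact absurd ((Nat.pow_le_pow_iff_right hp.one_lt).mp hle) (by norm_num)
  obtain ⟨z, hz, hz1⟩ := (Subgroup.bot_or_exists_ne_one _).resolve_left hW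
  refine OddLocal.Transitivity.conjugate_of_meet hG hA hqA
    (OddLocal.Transitivity.centralizer_ne_top hG (Set.mem_singleton z) hz1) ?_ h₁ h₂ ?_ ?_
  · intro a ha
    exact Subgroup.mem_centralizer_singleton_iff.mpr
      (Subgroup.mem_centralizer_iff.mp (hBZ (hW₁ hz.1)).2 a ha)
  · intro hb
    refine hn₁ (eq_bot_iff.mpr (le_trans (le_inf ?_ inf_le_left) hb.le))
    exact inf_le_right.trans (Subgroup.centralizer_le (Set.singleton_subset_iff.mpr hz.1))
  · intro hb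
    refine hn₂ (eq_bot_iff.mpr (le_trans (le_inf ?_ inf_le_left) hb.le))
    exact inf_le_right.trans (Subgroup.centralizer_le (Set.singleton_subset_iff.mpr hz.2))


end Cfsg.Agent.S1393
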