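import Cfsg.Agent.Base.RecEqns
import Cfsg.Statements.S1466
import Cfsg.Agent.OddLocal.Puig

set_option autoImplicit false
open Cfsg

namespace Cfsg.Agent.S1466

/-- Let p be a prime and R a nontrivial finite p-group. Then for every i > 0, Z(R) ≤ C_R(L_i(R)) ≤ L_i(R); likewise Z(R) ≤ C_R(L_*(R)) ≤ L_*(R) and Z(R) ≤ C_R(L(R)) ≤ L(R); and L(R) ≠ 1, L_*(R) ≠ 1. -/
theorem result {R : Type*} [Group R] [Finite R] (p : ℕ) [Fact p.Prime] (hR : IsPGroup p R) [Nontrivial R] :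
    (∀ i : ℕ, 0 < i → Subgroup.center R ≤ Subgroup.centralizer ((Cfsg.puigSeq R i : Subgroup R) : Set R) ∧
        Subgroup.centralizer ((Cfsg.puigSeq R i : Subgroup R) : Set R) ≤ Cfsg.puigSeq R i) ∧
      (Subgroup.center R ≤ Subgroup.centralizer ((Cfsg.puigLower R : Subgroup R) : Set R) ∧ Subgroup.centralizer ((Cfsg.puigLower R : Subgroup R) : Set R) ≤ Cfsg.puigLower R) ∧
      (Subgroup.center R ≤ Subgroup.centralizer ((Cfsg.puigSubgroup R : Subgroup R) : Set R) ∧ Subgroup.centralizer ((Cfsg.puigSubgroup R : Subgroup R) : Set R) ≤ Cfsg.puigSubgroup R) ∧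
      Cfsg.puigSubgroup R ≠ ⊥ ∧ Cfsg.puigLower R ≠ ⊥ := by
  haveI := hR.isNilpotent
  obtain ⟨A, hAn, hAc, hCA⟩ := OddLocal.Puig.exists_selfCentralizing (G := R) inferInstance
  have key : ∀ X : Subgroup R, A ≤ X →
      Subgroup.center R ≤ Subgroup.centralizer (X : Set R) ∧ Subgroup.centralizer (X : Set R) ≤ X :=
    fun X hX => ⟨Subgroup.center_le_centralizer _,
      (Subgroup.centralizer_le hX).trans (hCA.le.trans hX)⟩
  have hlow : A ≤ Cfsg.puigLower R :=
    (OddLocal.Puig.le_puigSeq_of_normal hAc (i := 2 * 1) (by norm_num)).trans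
      (le_iSup (fun m => Cfsg.puigSeq R (2 * m)) 1)
  have hup : A ≤ Cfsg.puigSubgroup R :=
    le_iInf fun m => OddLocal.Puig.le_puigSeq_of_normal hAc (by omega)
  have hA1 : A ≠ ⊥ := by
    intro h
    rw [h] at hCA
    have ht : Subgroup.centralizer ((⊥ : Subgroup R) : Set R) = ⊤ := by
      simp [Subgroup.coe_bot, Subgroup.centralizer_eq_top_iff_subset]
    rw [ht] at hCA
    exact top_ne_bot hCA
  exact ⟨fun i hi => key _ (OddLocal.Puig.le_puigSeq_of_normal hAc hi), key _ hlow, key _ hup,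
    fun h => hA1 (le_bot_iff.mp (h ▸ hup)), fun h => hA1 (le_bot_iff.mp (h ▸ hlow))⟩

end Cfsg.Agent.S1466
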