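import Cfsg.Statements.S1247
import Cfsg.Agent.Lib.Components.MaximalPair
import Cfsg.Agent.Lib.Coprime.PGroup
import Cfsg.Agent.Lib.Cores.Residual

set_option autoImplicit false
open Cfsg

namespace Cfsg.Agent.S1247

open Subgroup Cfsg.Agent.Components.Basic Cfsg.Agent.Components.Fitting Cfsg.Agent.Components.MaximalPair
open scoped commutatorElement

universe u

variable {G : Type u} [Group G] [Finite G]

theorem exists_pow_pow_eq {x : G} {n : ℕ} (h : Nat.Coprime n (orderOf x)) : ∃ m : ℕ, (x ^ n) ^ m = x :=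
  exists_pow_eq_self_of_coprime h

/-- The layer lies in a self-centralizing subnormal subgroup of `F*`. -/
theorem layer_le (A S : Subgroup G) (hSF : S ≤ (Cfsg.generalizedFittingSubgroup ↥A).map A.subtype)
    (hSsn : (S.subgroupOf ((Cfsg.generalizedFittingSubgroup ↥A).map A.subtype)).IsSubnormal)
    (hSC : (Cfsg.generalizedFittingSubgroup ↥A).map A.subtype ⊓ centralizer (S : Set G) ≤ S) :
    (S.subgroupOf A).IsSubnormal ∧ S.subgroupOf A ≤ Cfsg.generalizedFittingSubgroup ↥A ∧
      Cfsg.layer ↥A ≤ S.subgroupOf A := by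
  have hle : S.subgroupOf A ≤ Cfsg.generalizedFittingSubgroup ↥A := by
    intro x hx
    obtain ⟨y, hy, hyx⟩ := hSF (mem_subgroupOf.1 hx)
    rwa [← (Subtype.ext hyx : y = x)]
  have hsn : (S.subgroupOf A).IsSubnormal := by
    refine isSubnormal_of_isSubnormal_genFitting hle ?_
    let f : Cfsg.generalizedFittingSubgroup ↥A →* (Cfsg.generalizedFittingSubgroup ↥A).map A.subtype :=
      (equivMapOfInjective _ A.subtype A.subtype_injective).toMonoidHom
    have e : (S.subgroupOf A).subgroupOf (Cfsg.generalizedFittingSubgroup ↥A) =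
        (S.subgroupOf ((Cfsg.generalizedFittingSubgroup ↥A).map A.subtype)).comap f := by
      ext x; simp [f, mem_subgroupOf]
    rw [e]
    exact hSsn.comap f
  refine ⟨hsn, hle, Cfsg.Agent.Components.Basic.layer_le fun L hL => ?_⟩
  rcases component_le_or_commutator_eq_bot hL hsn with h | h
  · exact h
  · intro l hl
    rw [mem_subgroupOf]
    refine hSC ⟨⟨l, component_le_genFitting hL hl, rfl⟩, mem_centralizer_iff.2 fun s hs => ?_⟩
    obtain ⟨y, -, rfl⟩ := hSF hs
    exact congrArg Subtype.val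
      (mem_centralizer_iff.1 (commutator_eq_bot_iff_le_centralizer.1 h hl) y (mem_subgroupOf.2 hs))

/-- `S ⊓ O_r(A)` is self-centralizing in `O_r(A)`. -/
theorem core_inf_centralizer_le (A S : Subgroup G)
    (hSC : (Cfsg.generalizedFittingSubgroup ↥A).map A.subtype ⊓ centralizer (S : Set G) ≤ S)
    (hsn : (S.subgroupOf A).IsSubnormal) (hle : S.subgroupOf A ≤ Cfsg.generalizedFittingSubgroup ↥A)
    (hSA : S ≤ A) (r : ℕ) [hr : Fact r.Prime] :
    core r A ⊓ centralizer ((S ⊓ core r A : Subgroup G) : Set G) ≤ S := by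
  rintro x ⟨⟨a, ha, rfl⟩, hxc⟩
  refine hSC ⟨⟨a, fitting_le_genFitting (Cfsg.Agent.Components.Fitting.pCore_le_fitting r ha), rfl⟩,
    mem_centralizer_iff.2 fun s hs => ?_⟩
  have hs' : (⟨s, hSA hs⟩ : A) ∈ S.subgroupOf A := mem_subgroupOf.2 hs
  have key : S.subgroupOf A ≤ centralizer ({a} : Set A) := by
    conv_lhs => rw [← isSubnormal_le_genFitting_eq hle hsn]
    refine sup_le (fun z hz => ?_) (fun z hz => ?_) <;> rw [mem_centralizer_singleton_iff]
    · exact mem_centralizer_iff.1 (fitting_le_centralizer_layer (Cfsg.Agent.Components.Fitting.pCore_le_fitting r ha)) z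
        (map_layer_subtype_le hsn hz).1
    · obtain ⟨c, hc, d, hd, rfl⟩ := mem_sup_of_normal_right.1
        ((fitting_eq_coreJoin (G := A)).le.trans (coreJoin_le_sup r) hz.1)
      have hcd : ∀ u ∈ Cfsg.pCore r ↥A, ∀ v ∈ Cfsg.pPrimeCore r ↥A, u * v = v * u := fun u hu v hv => by
        have h1 : ⁅u, v⁆ ∈ Cfsg.pCore r ↥A ⊓ Cfsg.pPrimeCore r ↥A := by
          have hPn : (Cfsg.pCore r ↥A).Normal := inferInstance
          have hQn : (Cfsg.pPrimeCore r ↥A).Normal := inferInstance
          refine ⟨?_, ?_⟩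
          · rw [commutatorElement_def, mul_assoc, mul_assoc, ← mul_assoc v]
            exact mul_mem hu (hPn.conj_mem _ (inv_mem hu) v)
          · rw [commutatorElement_def]
            exact Subgroup.mul_mem _ (hQn.conj_mem _ hv u) (Subgroup.inv_mem _ hv)
        rw [Cores.pCore_inf_pPrimeCore, mem_bot] at h1
        exact commutatorElement_eq_one_iff_mul_comm.1 h1
      have hd' : Nat.Coprime (orderOf d) (orderOf c) := by
        obtain ⟨i, hi⟩ := IsPGroup.iff_orderOf.1 (Cores.pCore_isPGroup (G := A) r) ⟨c, hc⟩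
        rw [orderOf_mk] at hi
        rw [hi]
        exact ((Cores.pPrimeCore_card_coprime (G := A) r).coprime_dvd_left
          (Subgroup.orderOf_dvd_natCard _ hd)).pow_right i
      obtain ⟨m, hm⟩ := exists_pow_eq_self_of_coprime hd'
      have hcS : c ∈ S.subgroupOf A := by
        have h2 : c ^ orderOf d = (c * d) ^ orderOf d := by
          rw [(show Commute c d from hcd c hc d hd).mul_pow, pow_orderOf_eq_one, mul_one]
        rw [← hm, h2]
        exact pow_mem (pow_mem hz.2 _) _
      have hca : a * c = c * a := Subtype.ext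
        (mem_centralizer_iff.1 hxc (c : G) ⟨mem_subgroupOf.1 hcS, ⟨c, hc, rfl⟩⟩).symm
      rw [mul_assoc, ← hcd a ha d hd, ← mul_assoc, ← hca, mul_assoc]
  exact congrArg Subtype.val (mem_centralizer_singleton_iff.1 (key hs'))

/-- A `q`-subgroup of `O_q(B) ⊓ A` normalized by `B ⊓ A` centralizes the layer and every `O_r(A)`, `r ≠ q`. -/
theorem core_inf_le (A S B : Subgroup G) (hSA : S ≤ A) (hSB : S ≤ B) (hE : Cfsg.layer ↥A ≤ S.subgroupOf A)
    (hC : ∀ (r : ℕ) [Fact r.Prime], core r A ⊓ centralizer ((S ⊓ core r A : Subgroup G) : Set G) ≤ S)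
    (q : ℕ) [hq : Fact q.Prime] :
    (Cfsg.layer ↥A).map A.subtype ≤ centralizer ((core q B ⊓ A : Subgroup G) : Set G) ∧
      ∀ (r : ℕ) [Fact r.Prime], r ≠ q →
        core r A ≤ centralizer ((core q B ⊓ A : Subgroup G) : Set G) := by
  constructor
  · rw [map_le_iff_le_comap]
    refine Cfsg.Agent.Components.Basic.layer_le fun L hL l hl => ?_
    have hs : Group.IsSolvable ((core q B ⊓ A).subgroupOf A) :=
      Coprime.isSolvable_of_isPGroup (((core_isPGroup q B).to_le inf_le_left).comap_of_injective A.subtype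
        A.subtype_injective)
    have h := component_commutator_eq_bot_of_le_normalizer hL hs (fun k hk => ?_)
    · rw [mem_comap, mem_centralizer_iff]
      intro x hx
      exact congrArg Subtype.val (mem_centralizer_iff.1 (commutator_eq_bot_iff_le_centralizer.1 h hl)
        ⟨x, hx.2⟩ hx)
    · have hkS : (k : G) ∈ S := mem_subgroupOf.1 (hE (le_layer hL hk))
      refine mem_normalizer_iff.2 fun x => ?_
      simp only [mem_subgroupOf, mem_inf, coe_mul, coe_inv, x.2, and_true]
      have h2 : ((k : G) * x * (k : G)⁻¹ ∈ A) := mul_mem (mul_mem k.2 x.2) (inv_mem k.2)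
      simp only [h2, and_true]
      exact mem_normalizer_iff.1 (le_normalizer_core q B (hSB hkS)) x
  · intro r hr hrq
    have : Fact r.Prime := hr
    have hdisj : core r A ⊓ core q B = ⊥ :=
      disjoint_of_isPGroup (core_isPGroup r A) (by
        obtain ⟨k, hk⟩ := IsPGroup.iff_card.1 (core_isPGroup q B)
        rw [hk]
        exact ((Nat.coprime_primes hq.out hr.out).2 (Ne.symm hrq)).pow_left k)
    have hYQ : S ⊓ core r A ≤ centralizer ((core q B ⊓ A : Subgroup G) : Set G) := by
      intro y hy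
      refine mem_centralizer_iff.2 fun x hx => ?_
      have h1 : y * x * y⁻¹ * x⁻¹ ∈ core r A ⊓ core q B := by
        refine ⟨?_, mul_mem ((mem_normalizer_iff.1 (le_normalizer_core q B (hSB hy.1)) x).1 hx.1)
          (Subgroup.inv_mem _ hx.1)⟩
        rw [mul_assoc, mul_assoc, ← mul_assoc x]
        exact mul_mem hy.2 ((mem_normalizer_iff.1 (le_normalizer_core r A hx.2) _).1 (inv_mem hy.2))
      rw [hdisj, mem_bot, mul_inv_eq_one, mul_inv_eq_iff_eq_mul] at h1
      exact h1.symm
    have hQc : (Nat.card (core q B ⊓ A : Subgroup G)).Coprime r := by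
      obtain ⟨k, hk⟩ := IsPGroup.iff_card.1 ((core_isPGroup q B).to_le (inf_le_left (b := A)))
      rw [hk]
      exact ((Nat.coprime_primes hq.out hr.out).2 (Ne.symm hrq)).pow_left k
    refine le_centralizer_iff.1 (Coprime.le_centralizer_of_pxq ((core_isPGroup r A).to_le inf_le_right) hQc
      (core_isPGroup r A) hYQ (inf_le_right.trans le_normalizer) (inf_le_right.trans (le_normalizer_core r A))
      ?_)
    exact le_trans (le_inf (hC r) inf_le_left) hYQ

/-- Let G be a non-abelian finite simple group, A a maximal subgroup, F = F*(A) its generalized Fitting subgroup (viewed in G), and S ≤ F a subgroup subnormal in F with C_F(S) ≤ S. Let B be any subgroup of G containing S. Then (a) for every prime q not dividing |F(A)|, O_q(B) ∩ A = 1; and (b) for every prime p dividing |F(A)|, O_p(B) commutes elementwise with the subgroup of F generated by its elements of order prime to p. -/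
theorem result {G : Type*} [Group G] [Finite G] [IsSimpleGroup G] (hna : ¬ IsMulCommutative G) (A : Subgroup G) (hA : IsCoatom A) (S : Subgroup G) (hSF : S ≤ (Cfsg.generalizedFittingSubgroup ↥A).map A.subtype) (hSsn : (S.subgroupOf ((Cfsg.generalizedFittingSubgroup ↥A).map A.subtype)).IsSubnormal) (hSC : (Cfsg.generalizedFittingSubgroup ↥A).map A.subtype ⊓ Subgroup.centralizer (S : Set G) ≤ S) (B : Subgroup G) (hSB : S ≤ B) : (∀ q : ℕ, q.Prime → ¬ q ∣ Nat.card (Cfsg.fittingSubgroup ↥A) → (Cfsg.pCore q ↥B).map B.subtype ⊓ A = ⊥) ∧ (∀ p : ℕ, p.Prime → p ∣ Nat.card (Cfsg.fittingSubgroup ↥A) → ∀ x ∈ (Cfsg.pCore p ↥B).map B.subtype, ∀ y ∈ (Cfsg.pResidual p ↥(Cfsg.generalizedFittingSubgroup ↥A)).map ((Cfsg.generalizedFittingSubgroup ↥A).subtype) , x * (A.subtype y) = (A.subtype y) * x) := by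
  set FF := (Cfsg.generalizedFittingSubgroup ↥A).map A.subtype with hFF
  have hSA : S ≤ A := hSF.trans (map_subtype_le _)
  obtain ⟨hsn, hle, hE⟩ := layer_le A S hSF hSsn hSC
  have hC : ∀ (r : ℕ) [Fact r.Prime], core r A ⊓ centralizer ((S ⊓ core r A : Subgroup G) : Set G) ≤ S :=
    fun r _ => core_inf_centralizer_le A S hSC hsn hle hSA r
  constructor
  · intro q hq hqF
    have : Fact q.Prime := ⟨hq⟩
    obtain ⟨hEc, hrc⟩ := core_inf_le A S B hSA hSB hE hC q
    change core q B ⊓ A = ⊥
    rw [eq_bot_iff]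
    intro x hx
    have hqA : Cfsg.pCore q ↥A = ⊥ := by
      rw [← card_eq_one]
      obtain ⟨k, hk⟩ := IsPGroup.iff_card.1 (Cores.pCore_isPGroup (G := A) q)
      rcases k with _ | k
      · simpa using hk
      · exact absurd ((dvd_pow_self q (Nat.succ_ne_zero k)).trans
          (hk ▸ card_dvd_of_le (Cfsg.Agent.Components.Fitting.pCore_le_fitting q))) hqF
    have hc : Cfsg.generalizedFittingSubgroup ↥A ≤ centralizer ({(⟨x, hx.2⟩ : A)} : Set A) := by
      have key : ∀ z : A, (z : G) ∈ centralizer ((core q B ⊓ A : Subgroup G) : Set G) →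
          z ∈ centralizer ({(⟨x, hx.2⟩ : A)} : Set A) := fun z hz =>
        mem_centralizer_singleton_iff.2 (Subtype.ext (mem_centralizer_iff.1 hz x hx).symm)
      rw [Cfsg.generalizedFittingSubgroup, fitting_eq_coreJoin]
      refine sup_le (fun z hz => key z (hEc ⟨z, hz, rfl⟩)) (iSup_le fun r => ?_)
      have : Fact (r : ℕ).Prime := ⟨r.2⟩
      by_cases hrq : (r : ℕ) = q
      · rw [hrq, hqA]; exact bot_le
      · exact fun z hz => key z (hrc r hrq ⟨z, hz, rfl⟩)
    have hxc : (⟨x, hx.2⟩ : A) ∈ centralizer (Cfsg.generalizedFittingSubgroup ↥A : Set A) :=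
      mem_centralizer_iff.2 fun z hz => mem_centralizer_singleton_iff.1 (hc hz)
    have hab : IsMulCommutative
        (centralizer (Cfsg.generalizedFittingSubgroup ↥A : Set A) : Subgroup A) :=
      commutator_self_eq_bot_iff.mp (le_bot_iff.mp ((commutator_mono le_rfl centralizer_genFitting_le).trans
        (commutator_eq_bot_iff_le_centralizer.mpr le_rfl).le))
    have hxF : (⟨x, hx.2⟩ : A) ∈ Cfsg.fittingSubgroup ↥A :=
      le_fitting (isNilpotent_of_isMulCommutative _) hxc
    obtain ⟨i, hi⟩ := IsPGroup.iff_orderOf.1 (core_isPGroup q B) ⟨x, hx.1⟩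
    rw [orderOf_mk] at hi
    have hd := Subgroup.orderOf_dvd_natCard _ hxF
    rw [orderOf_mk, hi] at hd
    rcases i with _ | i
    · exact mem_bot.2 (orderOf_eq_one_iff.1 (by simpa using hi))
    · exact absurd ((dvd_pow_self q (Nat.succ_ne_zero i)).trans hd) hqF
  · intro p hp hpF x hx y hy
    have : Fact p.Prime := ⟨hp⟩
    obtain ⟨hEc, hrc⟩ := core_inf_le A S B hSA hSB hE hC p
    change x ∈ core p B at hx
    set Y := S ⊓ core p A
    have hY : IsPGroup p Y := (core_isPGroup p A).to_le inf_le_right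
    let Zc : ℕ → Subgroup G := fun r => core r A ⊓ centralizer (core r A : Set G)
    have hZn : ∀ r, A ≤ normalizer (Zc r : Set G) := fun r g hg => by
      have h1 := le_normalizer_core r A hg
      refine mem_normalizer_iff.2 fun z => ?_
      simp only [Zc, mem_inf, mem_centralizer_iff, SetLike.mem_coe]
      refine ⟨fun ⟨hz, hz'⟩ => ⟨(mem_normalizer_iff.1 h1 z).1 hz, fun w hw => ?_⟩,
        fun ⟨hz, hz'⟩ => ⟨(mem_normalizer_iff.1 h1 z).2 hz, fun w hw => ?_⟩⟩
      · have := hz' (g⁻¹ * w * g) ((mem_normalizer_iff.1 h1 _).2 (by simpa [mul_assoc] using hw))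
        calc w * (g * z * g⁻¹) = g * (g⁻¹ * w * g * z) * g⁻¹ := by group
          _ = g * (z * (g⁻¹ * w * g)) * g⁻¹ := by rw [this]
          _ = _ := by group
      · have := hz' (g * w * g⁻¹) ((mem_normalizer_iff.1 h1 _).1 hw)
        calc w * z = g⁻¹ * (g * w * g⁻¹ * (g * z * g⁻¹)) * g := by group
          _ = g⁻¹ * (g * z * g⁻¹ * (g * w * g⁻¹)) * g := by rw [this]
          _ = _ := by group
    have hZS : ∀ (r : ℕ) [Fact r.Prime], Zc r ≤ S := fun r _ =>
      (inf_le_inf_left _ (centralizer_le (by exact inf_le_right))).trans (hC r)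
    have hCZ : ∀ r, Zc r ≠ ⊥ → centralizer (Zc r : Set G) ≤ A := fun r hne =>
      (centralizer_le_normalizer _).trans
        (normalizer_eq_of_coatom hA (inf_le_left.trans (map_subtype_le _)) (hZn r) hne).le
    have hZne : ∀ (r : ℕ) [Fact r.Prime], core r A ≠ ⊥ → Zc r ≠ ⊥ := fun r _ hne hZ => by
      have := (Subgroup.nontrivial_iff_ne_bot _).2 hne
      have := (core_isPGroup r A).center_nontrivial
      obtain ⟨⟨c, hc⟩, hc1⟩ := exists_ne (1 : Subgroup.center (core r A))
      refine hc1 (Subtype.ext (Subtype.ext ?_))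
      have hcm : (c : G) ∈ Zc r := ⟨c.2, mem_centralizer_iff.2 fun w hw =>
        congrArg Subtype.val (Subgroup.mem_center_iff.1 hc ⟨w, hw⟩)⟩
      exact mem_bot.1 (hZ ▸ hcm)
    have hpA : core p A ≠ ⊥ := by
      intro h
      obtain ⟨z, hz⟩ := exists_prime_orderOf_dvd_card' (G := Cfsg.fittingSubgroup ↥A) p hpF
      have hzo : orderOf (z : A) = p := by rw [Subgroup.orderOf_coe, hz]
      obtain ⟨c, hc, d, hd, hcd⟩ := mem_sup_of_normal_right.1
        ((fitting_eq_coreJoin (G := A)).le.trans (coreJoin_le_sup p) z.2)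
      have hc1 : c = 1 := Subtype.ext (mem_bot.1 (h ▸ (⟨c, hc, rfl⟩ : (c : G) ∈ core p A)))
      rw [hc1, one_mul] at hcd
      have h2 := (Subgroup.orderOf_dvd_natCard _ hd)
      rw [hcd, hzo] at h2
      exact Cores.pPrimeCore_not_dvd (G := A) p h2
    have hPC : core p B ⊓ centralizer (Y : Set G) ≤ core p B ⊓ A :=
      le_inf inf_le_left (inf_le_right.trans ((centralizer_le (by
        exact le_inf (hZS p) inf_le_left)).trans (hCZ p (hZne p hpA))))
    -- `p'`-elements in `S` commuting with `Y` and with `O_p(B) ⊓ A` centralize `O_p(B)`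
    have hcent : ∀ e ∈ S, (orderOf e).Coprime p → Y ≤ centralizer ({e} : Set G) →
        e ∈ centralizer ((core p B ⊓ A : Subgroup G) : Set G) →
        e ∈ centralizer (core p B : Set G) := by
      intro e heS hep heY heP
      refine Coprime.le_centralizer_of_pxq (Q := zpowers e) hY (by rwa [Nat.card_zpowers])
        (core_isPGroup p B) ?_ (inf_le_left.trans (hSB.trans (le_normalizer_core p B)))
        (zpowers_le.2 (le_normalizer_core p B (hSB heS))) (hPC.trans ?_) (mem_zpowers e)
      · rw [zpowers_eq_closure, centralizer_closure]; exact heY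
      · rw [le_centralizer_iff]; exact zpowers_le.2 heP
    have hcomp : ∀ e ∈ (Cfsg.layer ↥A).map A.subtype, Y ≤ centralizer ({e} : Set G) := by
      rintro _ ⟨l, hl, rfl⟩ y ⟨-, a, ha, rfl⟩
      exact mem_centralizer_singleton_iff.2 (congrArg Subtype.val
        (mem_centralizer_iff.1 (fitting_le_centralizer_layer (Cfsg.Agent.Components.Fitting.pCore_le_fitting p ha)) l hl).symm)
    have hPE : (Cfsg.layer ↥A).map A.subtype ≤ centralizer (core p B : Set G) := by
      have hsol : Subsingleton (↥(Cfsg.layer ↥A) ⧸ Cfsg.pResidual p ↥(Cfsg.layer ↥A)) := by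
        have hp' := Cores.isPGroup_quotient_pResidual (G := Cfsg.layer ↥A) p
        have := Coprime.isSolvable_of_isPGroup hp'
        by_contra hn
        rw [not_subsingleton_iff_nontrivial] at hn
        have h1 := Group.IsSolvable.commutator_lt_top_of_nontrivial
          (↥(Cfsg.layer ↥A) ⧸ Cfsg.pResidual p ↥(Cfsg.layer ↥A))
        refine h1.ne ?_
        have h2 : commutator ↥(Cfsg.layer ↥A) = ⊤ := by
          refine map_injective (Cfsg.layer ↥A).subtype_injective ?_
          rw [map_subtype_commutator, commutator_layer_self, ← MonoidHom.range_eq_map, range_subtype]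
        rw [_root_.commutator_def, ← map_top_of_surjective (QuotientGroup.mk' _) (QuotientGroup.mk'_surjective _),
          ← map_commutator, ← _root_.commutator_def, h2]
      have hres : Cfsg.pResidual p ↥(Cfsg.layer ↥A) = ⊤ := QuotientGroup.subgroup_eq_top_of_subsingleton _ hsol
      rintro _ ⟨l, hl, rfl⟩
      suffices h : Cfsg.pResidual p ↥(Cfsg.layer ↥A) ≤
          (centralizer (core p B : Set G)).comap (A.subtype.comp (Cfsg.layer ↥A).subtype) from
        h (hres ▸ mem_top (⟨l, hl⟩ : Cfsg.layer ↥A))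
      refine (closure_le _).2 fun e he => hcent _ (mem_subgroupOf.1 (hE e.2)) ?_ (hcomp _ ⟨e, e.2, rfl⟩)
        (hEc ⟨e, e.2, rfl⟩)
      have : orderOf ((e : A) : G) = orderOf e := by rw [Subgroup.orderOf_coe, Subgroup.orderOf_coe]
      simpa [this] using he
    have hPS : ∀ (r : ℕ) [Fact r.Prime], r ≠ p →
        S ⊓ core r A ≤ centralizer (core p B : Set G) := by
      intro r hr hrp e he
      refine hcent e he.1 ?_ ?_ (hrc r hrp he.2)
      · obtain ⟨i, hi⟩ := IsPGroup.iff_orderOf.1 (core_isPGroup r A) ⟨e, he.2⟩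
        rw [orderOf_mk] at hi
        rw [hi]
        exact ((Nat.coprime_primes hr.out hp).2 hrp).pow_left i
      · rintro _ ⟨-, a, ha, rfl⟩
        obtain ⟨-, b, hb, rfl⟩ := he
        exact mem_centralizer_singleton_iff.2 (congrArg Subtype.val
          (Cores.pCore_commute (Ne.symm hrp) ha hb))
    let M : Subgroup ↥A := ⨆ r : {r : ℕ // r.Prime ∧ r ≠ p}, Cfsg.pCore (r : ℕ) ↥A
    -- it suffices that `O_p(B) ≤ A`, unless `K` is trivial
    have hK : Cfsg.layer ↥A ⊔ M ≤ (centralizer (core p B : Set G)).comap A.subtype := by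
      by_cases hPA : core p B ≤ A
      · rw [inf_eq_left.2 hPA] at hEc hrc
        refine sup_le (fun z hz => hEc ⟨z, hz, rfl⟩) (iSup_le fun r z hz => ?_)
        have : Fact (r : ℕ).Prime := ⟨r.2.1⟩
        exact hrc r r.2.2 ⟨z, hz, rfl⟩
      · have hEbot : Cfsg.layer ↥A = ⊥ := by
          by_contra hne
          have hne' : (Cfsg.layer ↥A).map A.subtype ≠ ⊥ := fun h => hne (by
            rw [eq_bot_iff]; intro z hz
            exact mem_bot.2 (Subtype.ext (mem_bot.1 (h ▸ (⟨z, hz, rfl⟩ :
              (z : G) ∈ (Cfsg.layer ↥A).map A.subtype)))))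
          have hlc : (Cfsg.layer ↥A).Characteristic :=
            characteristic_iff_map_eq.mpr fun φ => layer_map_equiv φ
          exact hPA ((le_centralizer_iff.1 hPE).trans ((centralizer_le_normalizer _).trans
            (normalizer_eq_of_coatom hA (map_subtype_le _) (le_normalizer_map_of_normal A _) hne').le))
        rw [hEbot, bot_sup_eq]
        refine iSup_le fun r z hz => ?_
        have : Fact (r : ℕ).Prime := ⟨r.2.1⟩
        by_cases hne : core (r : ℕ) A = ⊥
        · have : (z : G) = 1 := mem_bot.1 (hne ▸ (⟨z, hz, rfl⟩ : (z : G) ∈ core (r : ℕ) A))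
          rw [mem_comap, coe_subtype, this]
          exact one_mem _
        · exact absurd ((le_centralizer_iff.1 ((le_inf (hZS r) inf_le_left).trans (hPS r r.2.2))).trans
            (hCZ r (hZne r hne))) hPA
    have hMn : (Cfsg.layer ↥A ⊔ M).Normal := by
      have hlc : (Cfsg.layer ↥A).Characteristic :=
        characteristic_iff_map_eq.mpr fun φ => layer_map_equiv φ
      have : M.Normal := Subgroup.iSup_normal _
      infer_instance
    obtain ⟨y, hy', rfl⟩ := hy
    suffices h : Cfsg.pResidual p ↥(Cfsg.generalizedFittingSubgroup ↥A) ≤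
        (Cfsg.layer ↥A ⊔ M).subgroupOf (Cfsg.generalizedFittingSubgroup ↥A) from
      mem_centralizer_iff.1 (mem_comap.1 (hK (mem_subgroupOf.1 (h hy')))) x hx
    refine (closure_le _).2 fun e he => mem_subgroupOf.2 ?_
    have hgen : Cfsg.generalizedFittingSubgroup ↥A ≤ Cfsg.pCore p ↥A ⊔ (Cfsg.layer ↥A ⊔ M) := by
      rw [Cfsg.generalizedFittingSubgroup, fitting_eq_coreJoin]
      refine sup_le (le_sup_left.trans le_sup_right) (iSup_le fun r => ?_)
      by_cases hrp : (r : ℕ) = p
      · rw [hrp]; exact le_sup_left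
      · exact (le_iSup (fun r : {r : ℕ // r.Prime ∧ r ≠ p} => Cfsg.pCore (r : ℕ) ↥A)
          ⟨r, r.2, hrp⟩).trans (le_sup_right.trans le_sup_right)
    obtain ⟨c, hc, d, hd, hcd⟩ := mem_sup_of_normal_right.1 (hgen e.2)
    obtain ⟨i, hi⟩ := IsPGroup.iff_orderOf.1 (Cores.pCore_isPGroup (G := A) p) ⟨c, hc⟩
    rw [orderOf_mk] at hi
    have hpow : (e : A) ^ p ^ i ∈ Cfsg.layer ↥A ⊔ M := by
      rw [← QuotientGroup.eq_one_iff, QuotientGroup.mk_pow, ← hcd, QuotientGroup.mk_mul,
        (QuotientGroup.eq_one_iff d).2 hd, mul_one, ← QuotientGroup.mk_pow, ← hi, pow_orderOf_eq_one,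
        QuotientGroup.mk_one]
    have hec : (p ^ i).Coprime (orderOf (e : A)) := by
      rw [Subgroup.orderOf_coe]
      exact (Nat.Coprime.symm he).pow_left i
    obtain ⟨m, hm⟩ := exists_pow_eq_self_of_coprime hec
    rw [← hm]
    exact pow_mem hpow m

end Cfsg.Agent.S1247
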