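import Cfsg.Statements.S0812
import Cfsg.Agent.Lib.Forms.DicksonDihedral
-- import your own Cfsg.Agent.* helpers here

set_option autoImplicit false
open Cfsg

namespace Cfsg.Agent.S0812



/-- For q ∉ {2, 3, 5, 7, 9, 11}, PSL_2(q) has a maximal subgroup isomorphic to the dihedral group of order 2(q − 1)/d, d = gcd(2, q − 1). -/
theorem result {F : Type*} [Field F] [Fintype F] {q : ℕ} (hF : Fintype.card F = q) (hq : q ∉ ({2, 3, 5, 7, 9, 11} : Finset ℕ)) : ∃ H : Subgroup (Matrix.ProjectiveSpecialLinearGroup (Fin 2) F), IsCoatom H ∧ Nonempty (H ≃* DihedralGroup ((q - 1) / Nat.gcd 2 (q - 1))) := by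
  subst hF
  obtain ⟨p, hpc⟩ := CharP.exists F
  haveI := hpc
  haveI : Fact p.Prime := ⟨CharP.char_is_prime F p⟩
  obtain ⟨H, hcard, he, c, hc, y, hy, hoc, hyc⟩ := Forms.DicksonDihedral.exists_minus (F := F)
  obtain ⟨m, -, hm⟩ := FiniteField.card F p
  have hG := Forms.DicksonCor.gcd_mul_natCard (F := F)
  have hp : p.Prime := Fact.out
  have hq2 : 2 ≤ Fintype.card F := Fintype.one_lt_card
  set q := Fintype.card F
  simp only [Finset.mem_insert, Finset.mem_singleton, not_or] at hq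
  set d := Nat.gcd 2 (q - 1) with hd'
  have hpq : p ∣ q := hm ▸ dvd_pow_self p m.ne_zero
  have hu : ∀ r : ℕ, r.Prime → r ∣ q → r = p := fun r hr h =>
    (Nat.prime_dvd_prime_iff_eq hr hp).1 (hr.dvd_of_dvd_pow (n := (m : ℕ)) (h.trans (dvd_of_eq hm)))
  have n23 : ¬ (2 ∣ q ∧ 3 ∣ q) := fun h => by
    have := hu 2 Nat.prime_two h.1; have := hu 3 Nat.prime_three h.2; omega
  have n25 : ¬ (2 ∣ q ∧ 5 ∣ q) := fun h => by
    have := hu 2 Nat.prime_two h.1; have := hu 5 (by norm_num) h.2; omega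
  have hdcases : (q % 2 = 0 ∧ d = 1) ∨ (q % 2 = 1 ∧ d = 2) := by
    rcases Nat.mod_two_eq_zero_or_one q with h | h
    · exact Or.inl ⟨h, Forms.DicksonDihedral.gcd_two_eq_one (by omega)⟩
    · exact Or.inr ⟨h, Nat.gcd_eq_left (Nat.dvd_of_mod_eq_zero (by omega))⟩
  have hnd : (q - 1) / d * d = q - 1 := by
    rcases hdcases with ⟨h, e⟩ | ⟨h, e⟩ <;> rw [e] <;> omega

  refine ⟨H, Forms.DicksonDihedral.isCoatom_of p H _ hcard (by rcases hdcases with ⟨h, e⟩ | ⟨h, e⟩ <;> rw [e] <;> omega) ?_ (by omega) (Or.inr hnd) ?_ hc hy hoc hyc, he⟩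
  · intro h
    have h1 : p ∣ q - 1 := h.trans ⟨d, hnd.symm⟩
    exact hp.not_dvd_one ((Nat.dvd_add_iff_right h1).2 (by rwa [Nat.sub_add_cancel (by omega : 1 ≤ q)]))
  · intro h5
    have h4 : q = 4 ∨ q = 4 := by
      rcases hdcases with ⟨h, e⟩ | ⟨h, e⟩ <;> rw [e] at h5 <;> omega
    rcases h4 with h4 | h4 <;> rw [hd', h4] at hG <;> norm_num at hG <;>
      refine ⟨?_, by omega⟩ <;> rw [hd', h4] <;> norm_num

end Cfsg.Agent.S0812
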