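import Cfsg.Statements.S0346
import Cfsg.Agent.Lib.CharTheory.Zassenhaus.FeitMain
import Cfsg.Agent.S0738
import Cfsg.Agent.S0741
import Cfsg.Agent.Lib.CharTheory.Zassenhaus.Exists

set_option autoImplicit false
open Cfsg

namespace Cfsg.Agent.S0346

/-- The number of points of a finite simple Zassenhaus group is `p^k + 1` for some prime power `p^k` (the regular normal
subgroup of a point stabiliser is a `p`-group). -/
theorem result {G Ω : Type*} [Group G] [Finite G] [MulAction G Ω] [Fintype Ω]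
    (hZ : Cfsg.IsZassenhausGroup G Ω) [IsSimpleGroup G] :
    IsPrimePow (Fintype.card Ω - 1) := by
  classical
  haveI := Fintype.ofFinite G
  obtain ⟨g, -, a, b, hab, -, -⟩ := hZ.2.2.2.1
  obtain ⟨H, hc⟩ := CharTheory.Zassenhaus.exists_config hZ hab
  have h3 := Cfsg.Agent.CharactersDeep.Zassenhaus.three_le_card hZ
  have hn : (H.subgroupOf (MulAction.stabilizer G a)).Normal :=
    ⟨fun u hu g => CharTheory.Zassenhaus.conj_mem hc g.2 hu⟩
  have hreg : ∀ y z : Ω, y ≠ a → z ≠ a → ∃! u : H, (u : G) • y = z := by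
    intro y z hy hz
    obtain ⟨u, hu, rfl⟩ := CharTheory.Zassenhaus.exists_mem_smul hc hy
    obtain ⟨v, hv, rfl⟩ := CharTheory.Zassenhaus.exists_mem_smul hc hz
    refine ⟨⟨v * u⁻¹, mul_mem hv (inv_mem hu)⟩, by simp [mul_smul], fun w hw => ?_⟩
    have h := CharTheory.Zassenhaus.eq_of_smul_eq_a hc (mul_mem w.2 hu) hv
      (by rw [mul_smul]; exact hw)
    exact Subtype.ext (eq_mul_inv_of_mul_eq h)
  have small : Fintype.card Ω - 2 ≤ 2 * Nat.card ↥(MulAction.stabilizer G a ⊓ MulAction.stabilizer G b) →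
      IsPrimePow (Fintype.card Ω - 1) := by
    intro hd
    obtain ⟨-, p, f, hp, -, hf⟩ := S0738.result hZ hab hd H hc.le hn hreg
    have hf0 : f ≠ 0 := by rintro rfl; simp at hf; omega
    rw [hf, Nat.add_sub_cancel]
    exact hp.prime.isPrimePow.pow hf0
  rcases Nat.even_or_odd (Nat.card ↥(MulAction.stabilizer G a ⊓ MulAction.stabilizer G b)) with he | ho
  · exact small (S0741.result hZ hab he)
  rcases CharTheory.Zassenhaus.feit_all _ G Ω a b H rfl hc ho with h | ⟨h2, -, -⟩
  · have hh := hc.card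
    exact small (by
      show Fintype.card Ω - 2 ≤ 2 * Nat.card ↥(CharTheory.Zassenhaus.two (G := G) a b)
      omega)
  · haveI : Fact (Nat.Prime 2) := ⟨Nat.prime_two⟩
    obtain ⟨k, hk⟩ := h2.exists_card_eq
    have hk0 : k ≠ 0 := by rintro rfl; have := hc.card; rw [pow_zero] at hk; omega
    rw [← hc.card, Nat.add_sub_cancel, hk]
    exact Nat.prime_two.prime.isPrimePow.pow hk0

end Cfsg.Agent.S0346
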