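import Cfsg.Statements.S3895
import Mathlib
import Cfsg.Agent.Lib.Characters.Kernel
import Cfsg.Agent.Lib.Characters.Inner
import Cfsg.Agent.Lib.ZStar.CentralWeaklyClosed
import Cfsg.Agent.Lib.Transfer.Fusion
import Cfsg.Agent.Lib.Cores.Subnormal
import Cfsg.Agent.Lib.Involutions.Basic
import Cfsg.Agent.InvChar.Core

set_option autoImplicit false
open Cfsg
open scoped commutatorElement

namespace Cfsg.Agent.S3895
section
open Finset
variable {G : Type*} [Group G] [Finite G]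

abbrev K2 (G : Type*) [Group G] := {c : ConjClasses G // ∀ x ∈ c.carrier, ∃ k : ℕ, orderOf x = 2 ^ k}

theorem comm_small (h : Nat.card G < 2 * Nat.card (ConjClasses G)) : Nat.card ↥(commutator G) ≤ 2 := by
  classical
  haveI := Fintype.ofFinite (Cfsg.IrrCharacter G)
  choose d hd0 hd using fun χ : Cfsg.IrrCharacter G => Cfsg.Agent.Characters.irr_one_pos χ.2
  have hs : ∑ χ, d χ ^ 2 = Nat.card G := by
    have := Cfsg.Agent.Characters.sum_degree_sq (G := G)
    simp only [hd] at this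
    exact_mod_cast this
  have ha : #{χ | d χ = 1} = (commutator G).index := by
    rw [← Cfsg.Agent.Characters.card_degree_one, Nat.card_eq_fintype_card, Fintype.card_subtype]
    congr 1; ext χ; simp only [mem_filter, mem_univ, true_and]; rw [hd]; exact_mod_cast Iff.rfl
  have hk : Fintype.card (Cfsg.IrrCharacter G) = Nat.card (ConjClasses G) := by
    rw [← Cfsg.Agent.Characters.card_irrCharacter, Nat.card_eq_fintype_card]
  have h2 : ∑ χ : Cfsg.IrrCharacter G, (if d χ = 1 then (3:ℕ) else 0) + ∑ χ, d χ ^ 2 ≥ ∑ _χ : Cfsg.IrrCharacter G, 4 := by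
    rw [← Finset.sum_add_distrib]
    refine Finset.sum_le_sum fun χ _ => ?_
    split_ifs with h1
    · rw [h1]; norm_num
    · have := hd0 χ; nlinarith [show 2 ≤ d χ by omega]
  simp only [← Finset.sum_filter, Finset.sum_const, smul_eq_mul, ha, card_univ, hk, hs] at h2
  have h3 := Subgroup.card_mul_index (commutator G)
  have h4 : Nat.card G < 3 * (commutator G).index := by omega
  rw [← h3] at h4
  have := Nat.lt_of_mul_lt_mul_right h4
  omega

variable (P : Sylow 2 G)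

noncomputable def cl : ↥(P : Subgroup G) → K2 G := fun x => ⟨ConjClasses.mk (x : G), fun y hy => by
  rw [ConjClasses.mem_carrier_iff_mk_eq, ConjClasses.mk_eq_mk_iff_isConj, isConj_comm, isConj_iff] at hy
  obtain ⟨g, rfl⟩ := hy
  obtain ⟨k, hk⟩ := IsPGroup.iff_orderOf.mp P.2 x
  exact ⟨k, by rw [Cfsg.Agent.Involutions.Basic.orderOf_conj, Subgroup.orderOf_coe, hk]⟩⟩

theorem cl_surjective : Function.Surjective (cl P) := by
  rintro ⟨c, hc⟩
  obtain ⟨x, rfl⟩ := ConjClasses.mk_surjective c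
  obtain ⟨k, hk⟩ := hc x ConjClasses.mem_carrier_mk
  obtain ⟨Q, hQ⟩ := (IsPGroup.of_card (n := k) (by rw [Nat.card_zpowers, hk]) : IsPGroup 2 (Subgroup.zpowers x)).exists_le_sylow
  obtain ⟨g, hg⟩ := MulAction.exists_smul_eq G Q P
  have hm : g * x * g⁻¹ ∈ (P : Subgroup G) := by
    rw [← hg, ← SetLike.mem_coe, Sylow.coe_subgroup_smul]
    exact ⟨x, hQ (Subgroup.mem_zpowers x), rfl⟩
  exact ⟨⟨_, hm⟩, Subtype.ext (ConjClasses.mk_eq_mk_iff_isConj.mpr (isConj_iff.mpr ⟨g, rfl⟩ : IsConj x _).symm)⟩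

theorem cl_eq {x y : ↥(P : Subgroup G)} : cl P x = cl P y ↔ ∃ g : G, g * (x : G) * g⁻¹ = y := by
  rw [← isConj_iff, ← ConjClasses.mk_eq_mk_iff_isConj]
  exact Subtype.ext_iff

theorem card_le_classes : Nat.card (K2 G) ≤ Nat.card (ConjClasses ↥(P : Subgroup G)) := by
  refine Nat.card_le_card_of_surjective (Quotient.lift (cl P) fun a b h => ?_) ?_
  · obtain ⟨t, ht⟩ := isConj_iff.mp h
    exact (cl_eq P).mpr ⟨t, congrArg Subtype.val ht⟩
  · intro c; obtain ⟨x, rfl⟩ := cl_surjective P c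
    exact ⟨ConjClasses.mk x, rfl⟩

theorem card_eq_classes (hn : Cfsg.HasNormalPComplement 2 G) : Nat.card (K2 G) = Nat.card (ConjClasses ↥(P : Subgroup G)) := by
  haveI : Fact (Nat.Prime 2) := ⟨Nat.prime_two⟩
  refine le_antisymm (card_le_classes P) ?_
  obtain ⟨N, hN, hc⟩ := (Cfsg.Agent.Transfer.NormalPComplement.hasNormalPComplement_iff_sylow P).mp hn
  choose f hf using fun c : ConjClasses ↥(P : Subgroup G) => ConjClasses.mk_surjective c
  refine Nat.card_le_card_of_injective (fun c => cl P (f c)) fun a b h => ?_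
  rw [← hf a, ← hf b, ConjClasses.mk_eq_mk_iff_isConj, isConj_iff]
  obtain ⟨g, hg⟩ := (cl_eq P).mp h
  obtain ⟨⟨⟨n, hn'⟩, t⟩, ht⟩ := hc.2 g
  simp only at ht
  refine ⟨t, Subtype.ext ?_⟩
  have h1 : (f b : G) * ((t : G) * (f a : G) * (t : G)⁻¹)⁻¹ ∈ N := by
    rw [← hg, ← ht, show n * (t : G) * (f a : G) * (n * (t : G))⁻¹ * ((t : G) * (f a : G) * (t : G)⁻¹)⁻¹ =
      n * (((t : G) * (f a : G) * (t : G)⁻¹) * n⁻¹ * ((t : G) * (f a : G) * (t : G)⁻¹)⁻¹) by group]
    exact N.mul_mem hn' (hN.conj_mem _ (N.inv_mem hn') _)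
  have h2 : (f b : G) * ((t : G) * (f a : G) * (t : G)⁻¹)⁻¹ ∈ N ⊓ (P : Subgroup G) :=
    ⟨h1, (P : Subgroup G).mul_mem (f b).2 ((P : Subgroup G).inv_mem ((P : Subgroup G).mul_mem ((P : Subgroup G).mul_mem t.2 (f a).2) ((P : Subgroup G).inv_mem t.2)))⟩
  rw [hc.disjoint.eq_bot, Subgroup.mem_bot, mul_inv_eq_one] at h2
  exact h2.symm

/-- No fusion and `|P'| ≤ 2` give a normal 2-complement. -/
theorem no_fusion (hP : Nat.card ↥(commutator ↥(P : Subgroup G)) ≤ 2)
    (h : ∀ x y : ↥(P : Subgroup G), (∃ g : G, g * (x : G) * g⁻¹ = y) → ∃ t : ↥(P : Subgroup G), t * x * t⁻¹ = y) :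
    Cfsg.HasNormalPComplement 2 G := by
  haveI : Fact (Nat.Prime 2) := ⟨Nat.prime_two⟩
  set F := (commutator ↥(P : Subgroup G)).map (P : Subgroup G).subtype
  have hF : commutator G ⊓ (P : Subgroup G) ≤ F := by
    refine Cfsg.Agent.Transfer.Fusion.focal_le_of_fusion P fun x hx g hg => ?_
    obtain ⟨t, ht⟩ := h ⟨x, hx⟩ ⟨_, hg⟩ ⟨g, rfl⟩
    exact ⟨t, congrArg Subtype.val ht, ⟨⁅(⟨x, hx⟩ : ↥(P : Subgroup G)), t⁆,
      Subgroup.commutator_mem_commutator (Subgroup.mem_top _) (Subgroup.mem_top _), rfl⟩⟩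
  obtain ⟨N, hN, hNP, hsup⟩ := Cfsg.Agent.Transfer.Fusion.exists_normal_inf_eq_focal P
  have hsm : Nat.card ↥(((P : Subgroup G)).subgroupOf N) ≤ 2 := by
    rw [← Subgroup.inf_subgroupOf_left, Nat.card_congr (Subgroup.subgroupOfEquivOfLe (inf_le_left : N ⊓ (P : Subgroup G) ≤ N)).toEquiv]
    calc Nat.card ↥(N ⊓ (P : Subgroup G)) ≤ Nat.card F :=
          Subgroup.card_le_of_le (hNP.le.trans hF)
      _ ≤ 2 := by rwa [Subgroup.card_map_of_injective (Subgroup.subtype_injective _)]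
  obtain ⟨Q, hQ⟩ : ∃ Q : Sylow 2 N, (Q : Subgroup N) = (P : Subgroup G).subgroupOf N :=
    ⟨IsPGroup.toSylow P.isPGroup'.comap_subtype (Cfsg.Agent.Cores.sylow_subgroupOf_isSubnormal P hN.isSubnormal), rfl⟩
  have hQ2 : Nat.card Q ≤ 2 := by rw [← hQ] at hsm; exact hsm
  have hNn : Cfsg.HasNormalPComplement 2 N := by
    refine Cfsg.Agent.Transfer.NormalPComplement.hasNormalPComplement_of_normalizer_le_centralizer Q ?_
    intro n hn q hq
    rcases eq_or_ne q 1 with rfl | hq1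
    · simp
    · have hu : ∀ r ∈ (Q : Subgroup N), r ≠ 1 → r = q := by
        intro r hr hr1
        by_contra hne
        have hsub : ({1, q, r} : Set N) ⊆ (Q : Set N) := by
          rintro z (rfl | rfl | rfl)
          exacts [one_mem _, hq, hr]
        have h3 := Set.ncard_le_ncard hsub (Set.toFinite _)
        have h4 : ({1, q, r} : Set N).ncard = 3 := Set.ncard_eq_three.mpr ⟨1, q, r, hq1.symm, hr1.symm, fun e => hne e.symm, rfl⟩
        rw [h4, ← Nat.card_coe_set_eq] at h3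
        have h5 : Nat.card ((Q : Set N) : Set N) = Nat.card Q := rfl
        omega
      have h5 := hu _ ((Subgroup.mem_normalizer_iff.mp hn q).mp hq) (fun e => hq1 (by
        calc q = n⁻¹ * (n * q * n⁻¹) * n := by group
          _ = 1 := by rw [e]; group))
      exact (mul_inv_eq_iff_eq_mul.mp h5).symm
  obtain ⟨k, hk⟩ : ∃ k, N.index = 2 ^ k := by
    obtain ⟨a, ha⟩ := P.2.exists_card_eq
    have h1 : N.index = N.relIndex (P : Subgroup G) := by
      rw [← Subgroup.relIndex_sup_right (P : Subgroup G) N, sup_comm, hsup, Subgroup.relIndex_top_right]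
    obtain ⟨i, -, hi⟩ := (Nat.dvd_prime_pow Nat.prime_two).mp (ha ▸ Subgroup.relIndex_dvd_card N (P : Subgroup G))
    exact ⟨i, h1.trans hi⟩
  exact Cfsg.Agent.Transfer.NormalPComplement.hasNormalPComplement_of_normal_index hNn hk

theorem central_of_alone (hO : Cfsg.oddCore G = ⊥) {v : G} (hv : v ∈ (P : Subgroup G))
    (h : ∀ g : G, g * v * g⁻¹ ∈ (P : Subgroup G) → g * v * g⁻¹ = v) : v ∈ Subgroup.center G := by
  haveI : Fact (Nat.Prime 2) := ⟨Nat.prime_two⟩
  have hc : ∀ s ∈ (P : Subgroup G), Commute v s := fun s hs =>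
    ((mul_inv_eq_iff_eq_mul.mp (h s (mul_mem (mul_mem hs hv) (inv_mem hs))))).symm
  refine Cfsg.Agent.ZStar.CentralWeaklyClosed.mem_center hO P v hv hc fun y hy g hg => ?_
  obtain ⟨i, rfl⟩ := Subgroup.mem_zpowers_iff.mp hy
  suffices he : g * v ^ i * g⁻¹ = v ^ i by rw [he]; exact Subgroup.mem_zpowers _
  set y := g * v ^ i * g⁻¹ with hy'
  set C := Subgroup.centralizer ({y} : Set G)
  have hvC : v ∈ C := Subgroup.mem_centralizer_singleton_iff.mpr (hc y hg).eq
  have hgC : g * v * g⁻¹ ∈ C := Subgroup.mem_centralizer_singleton_iff.mpr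
    (((Commute.refl v).zpow_right i).map (MulAut.conj g).toMonoidHom).eq
  have hp : ∀ u : G, ∀ hu : u ∈ C, ∀ k : ℕ, orderOf u = 2 ^ k → IsPGroup 2 (Subgroup.zpowers (⟨u, hu⟩ : C)) :=
    fun u hu k hk => IsPGroup.of_card (n := k) (by rw [Nat.card_zpowers, Subgroup.orderOf_mk, hk])
  obtain ⟨k, hk⟩ := IsPGroup.iff_orderOf.mp P.2 ⟨v, hv⟩
  rw [Subgroup.orderOf_mk] at hk
  obtain ⟨T, hT⟩ := (hp v hvC k hk).exists_le_sylow
  obtain ⟨T', hT'⟩ := (hp _ hgC k (by rw [Cfsg.Agent.Involutions.Basic.orderOf_conj, hk])).exists_le_sylow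
  obtain ⟨c, hcT⟩ := MulAction.exists_smul_eq C T' T
  have hcv : (c : G) * (g * v * g⁻¹) * (c : G)⁻¹ ∈ (T : Subgroup C).map C.subtype := by
    refine ⟨c * ⟨_, hgC⟩ * c⁻¹, ?_, rfl⟩
    rw [← hcT, Sylow.coe_subgroup_smul]
    exact ⟨⟨_, hgC⟩, hT' (Subgroup.mem_zpowers _), rfl⟩
  obtain ⟨T₀, hT₀⟩ := (T.2.map C.subtype).exists_le_sylow
  obtain ⟨d, hd⟩ := MulAction.exists_smul_eq G T₀ P
  have hmem : ∀ u ∈ (T : Subgroup C).map C.subtype, d * u * d⁻¹ ∈ (P : Subgroup G) := fun u hu => by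
    rw [← hd, ← SetLike.mem_coe, Sylow.coe_subgroup_smul]
    exact ⟨u, hT₀ hu, rfl⟩
  have h1 := h d (hmem v ⟨⟨v, hvC⟩, hT (Subgroup.mem_zpowers _), rfl⟩)
  have h2 := h (d * c * g) (by
    rw [show d * (c : G) * g * v * (d * (c : G) * g)⁻¹ = d * ((c : G) * (g * v * g⁻¹) * (c : G)⁻¹) * d⁻¹ by group]
    exact hmem _ hcv)
  have h3 : (c : G) * g * v * ((c : G) * g)⁻¹ = v :=
    calc (c : G) * g * v * ((c : G) * g)⁻¹ = d⁻¹ * (d * (c : G) * g * v * (d * (c : G) * g)⁻¹) * d := by group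
      _ = d⁻¹ * v * d := by rw [h2]
      _ = d⁻¹ * (d * v * d⁻¹) * d := by rw [h1]
      _ = v := by group
  have h4 : (c : G) * y * (c : G)⁻¹ = v ^ i := by
    rw [hy', show (c : G) * (g * v ^ i * g⁻¹) * (c : G)⁻¹ = (c : G) * g * v ^ i * ((c : G) * g)⁻¹ by group,
      ← conj_zpow, h3]
  rwa [Subgroup.mem_centralizer_singleton_iff.mp c.2, mul_inv_cancel_right] at h4

theorem exists_swap_free {x y : ↥(P : Subgroup G)} (hxy : x ≠ y) (hx : ∀ t, t * x * t⁻¹ = x) (hy : ∀ t, t * y * t⁻¹ = y)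
    {g : G} (hg : g * (x : G) * g⁻¹ = y) :
    ∃ z : ↥(P : Subgroup G), z ≠ x ∧ z ≠ y ∧ ∃ g : G, g * (x : G) * g⁻¹ = z := by
  haveI : Fact (Nat.Prime 2) := ⟨Nat.prime_two⟩
  obtain ⟨n, hn, hnX⟩ := Cfsg.Agent.Transfer.Fusion.burnside_fusion_set P (X := {(x : G)}) (Y := {(y : G)})
    (fun t ht => by simp only [Set.image_singleton]; exact congrArg _ (congrArg Subtype.val (hx ⟨t, ht⟩)))
    (fun t ht => by simp only [Set.image_singleton]; exact congrArg _ (congrArg Subtype.val (hy ⟨t, ht⟩)))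
    (g := g) (by simp [hg])
  simp only [Set.image_singleton, Set.singleton_eq_singleton_iff] at hnX
  have hm : n * (y : G) * n⁻¹ ∈ (P : Subgroup G) := (Subgroup.mem_normalizer_iff.mp hn y).mp y.2
  refine ⟨⟨_, hm⟩, fun e => ?_, fun e => ?_, n * n, by show n * n * (x : G) * (n * n)⁻¹ = n * (y : G) * n⁻¹; rw [← hnX]; group⟩
  · have e' : n * (y : G) * n⁻¹ = x := congrArg Subtype.val e
    obtain ⟨a, m, hmodd, ha⟩ := Nat.exists_eq_two_pow_mul_odd (orderOf_pos n).ne'
    have hsw : ∀ j : ℕ, n ^ (2 * j + 1) * (x : G) * (n ^ (2 * j + 1))⁻¹ = y := by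
      intro j
      induction j with
      | zero => simpa using hnX
      | succ j ih =>
        calc n ^ (2 * (j + 1) + 1) * (x : G) * (n ^ (2 * (j + 1) + 1))⁻¹
            = n * (n * (n ^ (2 * j + 1) * (x : G) * (n ^ (2 * j + 1))⁻¹) * n⁻¹) * n⁻¹ := by
              rw [show 2 * (j + 1) + 1 = 1 + (1 + (2 * j + 1)) by ring, pow_add, pow_one, pow_add, pow_one]; group
          _ = y := by rw [ih, e', hnX]
    obtain ⟨j, hj⟩ := hmodd
    have h2 : n ^ m ∈ (P : Subgroup G) := by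
      set N := Subgroup.normalizer ((P : Subgroup G) : Set G)
      have hp : IsPGroup 2 (Subgroup.zpowers (⟨n ^ m, pow_mem hn m⟩ : N)) := by
        refine IsPGroup.of_card (n := a) ?_
        rw [Nat.card_zpowers, Subgroup.orderOf_mk, orderOf_pow, ha, Nat.gcd_mul_left_left,
          Nat.mul_div_cancel _ (by omega)]
      obtain ⟨R, hR⟩ := hp.exists_le_sylow
      haveI : ((P.subtype Subgroup.le_normalizer : Sylow 2 N) : Subgroup N).Normal := Subgroup.normal_in_normalizer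
      letI := Sylow.unique_of_normal (P.subtype Subgroup.le_normalizer : Sylow 2 N) inferInstance
      have := hR (Subgroup.mem_zpowers _)
      rw [Subsingleton.elim R (P.subtype Subgroup.le_normalizer)] at this
      exact this
    apply hxy
    refine Subtype.ext ?_
    rw [← hsw j, ← hj]
    exact (congrArg Subtype.val (hx ⟨_, h2⟩)).symm
  · have e' : n * (y : G) * n⁻¹ = y := congrArg Subtype.val e
    refine hxy (Subtype.ext ?_)
    calc (x : G) = n⁻¹ * (n * (x : G) * n⁻¹) * n := by group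
      _ = n⁻¹ * (n * (y : G) * n⁻¹) * n := by rw [hnX, e']
      _ = y := by group

/-- A class meeting `P` in a coset of a central subgroup `V` forces `|V| ≤ 2`. -/
theorem coset_small (hP : Nat.card ↥(commutator ↥(P : Subgroup G)) ≤ 2) (x₀ : ↥(P : Subgroup G)) (V : Subgroup G)
    (hV : V ≤ Subgroup.center G) (hVP : V ≤ (P : Subgroup G))
    (h1 : ∀ g : G, g * (x₀ : G) * g⁻¹ ∈ (P : Subgroup G) → g * (x₀ : G) * g⁻¹ * (x₀ : G)⁻¹ ∈ V)
    (h2 : ∀ v ∈ V, ∃ g : G, g * (x₀ : G) * g⁻¹ = v * x₀) : Nat.card V ≤ 2 := by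
  haveI : Fact (Nat.Prime 2) := ⟨Nat.prime_two⟩
  have hc : ∀ v ∈ V, ∀ g : G, g * v = v * g := fun v hv g => Subgroup.mem_center_iff.mp (hV hv) g
  set x : G := x₀.1 with hx
  let T₀ : Subgroup G :=
    { carrier := {g | g * x * g⁻¹ * x⁻¹ ∈ V}
      mul_mem' := fun {a b} ha hb => by
        have : a * b * x * (a * b)⁻¹ * x⁻¹ = (b * x * b⁻¹ * x⁻¹) * (a * x * a⁻¹ * x⁻¹) :=
          calc a * b * x * (a * b)⁻¹ * x⁻¹ = a * (b * x * b⁻¹ * x⁻¹) * (x * a⁻¹ * x⁻¹) := by group
            _ = (b * x * b⁻¹ * x⁻¹) * a * (x * a⁻¹ * x⁻¹) := by rw [hc _ hb a]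
            _ = _ := by group
        show a * b * x * (a * b)⁻¹ * x⁻¹ ∈ V
        rw [this]; exact V.mul_mem hb ha
      one_mem' := by simp
      inv_mem' := fun {a} ha => by
        have h' := hc _ (V.inv_mem ha) a⁻¹
        have : a⁻¹ * x * a⁻¹⁻¹ * x⁻¹ = (a * x * a⁻¹ * x⁻¹)⁻¹ :=
          calc a⁻¹ * x * a⁻¹⁻¹ * x⁻¹ = (a⁻¹ * (a * x * a⁻¹ * x⁻¹)⁻¹) * a := by group
            _ = ((a * x * a⁻¹ * x⁻¹)⁻¹ * a⁻¹) * a := by rw [h']
            _ = _ := by group
        show a⁻¹ * x * a⁻¹⁻¹ * x⁻¹ ∈ V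
        rw [this]; exact V.inv_mem ha }
  let φ : T₀ →* V := MonoidHom.mk' (fun g => ⟨(g : G) * x * (g : G)⁻¹ * x⁻¹, g.2⟩) fun a b => Subtype.ext (by
    show (a : G) * b * x * ((a : G) * b)⁻¹ * x⁻¹ = ((a : G) * x * (a : G)⁻¹ * x⁻¹) * ((b : G) * x * (b : G)⁻¹ * x⁻¹)
    rw [← hc _ a.2 ((b : G) * x * (b : G)⁻¹ * x⁻¹)]
    calc (a : G) * b * x * ((a : G) * b)⁻¹ * x⁻¹ = a * ((b : G) * x * (b : G)⁻¹ * x⁻¹) * (x * (a : G)⁻¹ * x⁻¹) := by group
      _ = ((b : G) * x * (b : G)⁻¹ * x⁻¹) * a * (x * (a : G)⁻¹ * x⁻¹) := by rw [hc _ b.2 a]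
      _ = _ := by group)
  set C := Subgroup.centralizer ({x} : Set G) with hC
  have hker : φ.ker = C.subgroupOf T₀ := by
    ext g
    simp only [MonoidHom.mem_ker, φ, MonoidHom.mk'_apply, Subgroup.mem_subgroupOf, hC, Subgroup.mem_centralizer_singleton_iff, Subtype.ext_iff, Subgroup.coe_one, mul_inv_eq_one, mul_inv_eq_iff_eq_mul, one_mul]
  have hsur : Function.Surjective φ := fun ⟨v, hv⟩ => by
    obtain ⟨g, hg⟩ := h2 v hv
    have hg' : g * x * g⁻¹ * x⁻¹ = v := by rw [hg]; group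
    exact ⟨⟨g, show g * x * g⁻¹ * x⁻¹ ∈ V by rw [hg']; exact hv⟩, Subtype.ext hg'⟩
  have hidx : C.relIndex T₀ = Nat.card V := by
    rw [Subgroup.relIndex, ← hker, Subgroup.index_ker, MonoidHom.range_eq_top.mpr hsur, Subgroup.card_top]
  have hPT : (P : Subgroup G) ≤ T₀ := fun t ht =>
    h1 t ((P : Subgroup G).mul_mem ((P : Subgroup G).mul_mem ht x₀.2) ((P : Subgroup G).inv_mem ht))
  have hle2 : C.relIndex (P : Subgroup G) ≤ 2 := by
    choose f hf using fun q : ↥(P : Subgroup G) ⧸ C.subgroupOf (P : Subgroup G) => QuotientGroup.mk_surjective q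
    refine le_trans (Nat.card_le_card_of_injective (fun q => (⟨⁅f q, x₀⁆,
      Subgroup.commutator_mem_commutator (Subgroup.mem_top _) (Subgroup.mem_top _)⟩ : ↥(commutator ↥(P : Subgroup G)))) fun a b h => ?_) hP
    rw [← hf a, ← hf b, QuotientGroup.eq]
    refine Subgroup.mem_centralizer_singleton_iff.mpr ?_
    have h0 : f a * x₀ * (f a)⁻¹ * x₀⁻¹ = f b * x₀ * (f b)⁻¹ * x₀⁻¹ := congrArg Subtype.val h
    have h' := mul_right_cancel h0
    refine congrArg Subtype.val (show (f a)⁻¹ * f b * x₀ = x₀ * ((f a)⁻¹ * f b) from ?_)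
    calc (f a)⁻¹ * f b * x₀ = (f a)⁻¹ * (f b * x₀ * (f b)⁻¹) * f b := by group
      _ = x₀ * ((f a)⁻¹ * f b) := by rw [← h']; group
  have hdvd : C.relIndex T₀ ∣ C.relIndex (P : Subgroup G) * (P : Subgroup G).relIndex T₀ := by
    rw [← Subgroup.inf_relIndex_right C (P : Subgroup G), Subgroup.relIndex_mul_relIndex _ _ _ inf_le_right hPT]
    exact Subgroup.relIndex_dvd_of_le_left T₀ inf_le_left
  obtain ⟨j, hj⟩ := (P.2.to_le hVP).exists_card_eq
  have hodd : ¬ 2 ∣ (P : Subgroup G).relIndex T₀ := fun h2 =>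
    P.not_dvd_index (h2.trans (Subgroup.relIndex_dvd_index_of_le hPT))
  rw [hidx] at hdvd
  have hcop : (Nat.card V).Coprime ((P : Subgroup G).relIndex T₀) := by
    rw [hj]; exact (Nat.prime_two.coprime_iff_not_dvd.mpr hodd).pow_left j
  exact le_trans (Nat.le_of_dvd (Nat.pos_of_ne_zero Subgroup.index_ne_zero_of_finite) (hcop.dvd_of_dvd_mul_right hdvd)) hle2

set_option maxHeartbeats 2000000 in
theorem main (hO : Cfsg.oddCore G = ⊥) (hP : Nat.card ↥(commutator ↥(P : Subgroup G)) ≤ 2)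
    (hk : Nat.card ↥(P : Subgroup G) < 2 * Nat.card (K2 G)) : Cfsg.HasNormalPComplement 2 G := by
  classical
  haveI : Fact (Nat.Prime 2) := ⟨Nat.prime_two⟩
  haveI := Fintype.ofFinite ↥(P : Subgroup G)
  haveI := Fintype.ofFinite (K2 G)
  by_contra hnot
  set D := commutator ↥(P : Subgroup G)
  set m : (K2 G) → ℕ := fun c => #{x | cl P x = c} with hm
  have hmem : ∀ x y : ↥(P : Subgroup G), x * y * x⁻¹ * y⁻¹ ∈ D := fun x y => by
    rw [← commutatorElement_def]; exact Subgroup.commutator_mem_commutator (Subgroup.mem_top _) (Subgroup.mem_top _)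
  have hD : ∀ a b : ↥(P : Subgroup G), a ∈ D → b ∈ D → a ≠ 1 → b ≠ 1 → a = b := fun a b ha hb a1 b1 => by
    by_contra hne
    have : #({1, a, b} : Finset ↥(P : Subgroup G)) ≤ Nat.card D := by
      rw [← Set.ncard_coe_finset]
      refine le_of_le_of_eq (Set.ncard_le_ncard (t := (D : Set ↥(P : Subgroup G))) ?_ (Set.toFinite _)) (Nat.card_coe_set_eq _).symm
      simp [Set.insert_subset_iff, ha, hb]
    rw [Finset.card_eq_three.mpr ⟨1, a, b, a1.symm, b1.symm, hne, rfl⟩] at this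
    omega
  -- classes meeting `P` once
  have hone : ∀ c, m c = 1 → ∃ x : ↥(P : Subgroup G), cl P x = c ∧ (x : G) ∈ Subgroup.center G := by
    intro c hc
    obtain ⟨x, hx⟩ := Finset.card_eq_one.mp hc
    have hxc : cl P x = c := (Finset.mem_filter.mp (hx.ge (Finset.mem_singleton_self x))).2
    refine ⟨x, hxc, central_of_alone P hO x.2 fun g hg => ?_⟩
    have h1 : (⟨_, hg⟩ : ↥(P : Subgroup G)) ∈ ({y | cl P y = c} : Finset ↥(P : Subgroup G)) :=
      Finset.mem_filter.mpr ⟨Finset.mem_univ _, by rw [← hxc, eq_comm]; exact (cl_eq P).mpr ⟨g, rfl⟩⟩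
    rw [hx, Finset.mem_singleton] at h1
    exact congrArg Subtype.val h1
  -- some class meets `P` three times
  obtain ⟨x₀, hx₀⟩ : ∃ x₀, 3 ≤ m (cl P x₀) := by
    by_contra hall
    apply hnot
    refine no_fusion P hP fun x y ⟨g, hg⟩ => ?_
    by_contra hne
    have hxy : cl P x = cl P y := (cl_eq P).mpr ⟨g, hg⟩
    have hbad : ∀ x y : ↥(P : Subgroup G), cl P x = cl P y → (∀ t, t * x * t⁻¹ ≠ y) → ∀ t, t * x * t⁻¹ = x := by
      intro x y hxy hne t
      by_contra htx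
      refine hall ⟨x, le_trans (le_of_eq ?_) (Finset.card_le_card (s := {x, t * x * t⁻¹, y}) ?_)⟩
      · exact (Finset.card_eq_three.mpr ⟨x, _, y, Ne.symm htx, by simpa using hne 1, hne t, rfl⟩).symm
      · intro z hz
        simp only [Finset.mem_insert, Finset.mem_singleton] at hz
        refine Finset.mem_filter.mpr ⟨Finset.mem_univ _, ?_⟩
        rcases hz with rfl | rfl | rfl
        · rfl
        · exact ((cl_eq P).mpr ⟨(t : G), rfl⟩).symm
        · exact hxy.symm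
    have hxf := hbad x y hxy fun t ht => hne ⟨t, ht⟩
    have hyf := hbad y x hxy.symm fun t ht => hne ⟨t⁻¹, by rw [← ht]; group⟩
    have hxy' : x ≠ y := fun e => hne ⟨1, by simp [e]⟩
    obtain ⟨z, hzx, hzy, g', hg'⟩ := exists_swap_free P hxy' hxf hyf hg
    refine hall ⟨x, le_trans (le_of_eq ?_) (Finset.card_le_card (s := {x, y, z}) ?_)⟩
    · exact (Finset.card_eq_three.mpr ⟨x, y, z, hxy', Ne.symm hzx, Ne.symm hzy, rfl⟩).symm
    · intro w hw
      simp only [Finset.mem_insert, Finset.mem_singleton] at hw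
      refine Finset.mem_filter.mpr ⟨Finset.mem_univ _, ?_⟩
      rcases hw with rfl | rfl | rfl
      · rfl
      · exact hxy.symm
      · exact ((cl_eq P).mpr ⟨g', hg'⟩).symm
  -- translation by central elements
  set W := (Subgroup.center G).subgroupOf (P : Subgroup G) with hWdef
  have hWc : ∀ w ∈ W, ∀ g : G, g * (w : G) = (w : G) * g := fun w hw g => Subgroup.mem_center_iff.mp hw g
  have htr : ∀ w ∈ W, ∀ x y, cl P x = cl P y → cl P (w * x) = cl P (w * y) := by
    intro w hw x y h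
    obtain ⟨g, hg⟩ := (cl_eq P).mp h
    refine (cl_eq P).mpr ⟨g, ?_⟩
    rw [Subgroup.coe_mul, Subgroup.coe_mul, ← hg, ← mul_assoc g, hWc w hw g]; group
  let WC : Subgroup ↥(P : Subgroup G) :=
    { carrier := {w | w ∈ W ∧ cl P (w * x₀) = cl P x₀}
      mul_mem' := fun {a b} ha hb => ⟨mul_mem ha.1 hb.1, by rw [mul_assoc, htr a ha.1 _ _ hb.2, ha.2]⟩
      one_mem' := ⟨one_mem W, by rw [one_mul]⟩
      inv_mem' := fun {a} ha => ⟨inv_mem ha.1, by
        have := htr a⁻¹ (inv_mem ha.1) _ _ ha.2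
        rw [inv_mul_cancel_left] at this
        exact this.symm⟩ }
  haveI := Fintype.ofFinite WC
  set E : Finset ↥(P : Subgroup G) := {y | cl P y = cl P x₀} with hE
  have hEm : #E = m (cl P x₀) := rfl
  set E₀ : Finset ↥(P : Subgroup G) := (Finset.univ : Finset WC).image fun w : WC => (w : ↥(P : Subgroup G)) * x₀ with hE₀
  have hE₀c : #E₀ = Nat.card WC := by
    rw [Finset.card_image_of_injective _ (fun a b h => Subtype.ext (mul_right_cancel h)), Finset.card_univ, Nat.card_eq_fintype_card]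
  have hE₀E : E₀ ⊆ E := fun y hy => by
    obtain ⟨w, -, rfl⟩ := Finset.mem_image.mp hy
    exact Finset.mem_filter.mpr ⟨Finset.mem_univ _, w.2.2⟩
  have hbig : Nat.card WC + 2 ≤ m (cl P x₀) := by
    by_cases hsame : E ⊆ E₀
    · exfalso
      have hcardWC : Nat.card WC = m (cl P x₀) := by
        rw [← hE₀c, ← hEm, Finset.Subset.antisymm hsame hE₀E]
      have hsub : WC.map (P : Subgroup G).subtype ≤ Subgroup.center G := by
        rintro _ ⟨w, hw, rfl⟩; exact hw.1
      have h3 := coset_small P hP x₀ _ hsub (Subgroup.map_subtype_le _) (fun g hg => by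
        have hin : (⟨_, hg⟩ : ↥(P : Subgroup G)) ∈ E₀ := hsame
          (Finset.mem_filter.mpr ⟨Finset.mem_univ _, ((cl_eq P).mpr ⟨g, rfl⟩).symm⟩)
        obtain ⟨w, -, hw⟩ := Finset.mem_image.mp hin
        have hw' : ((w : ↥(P : Subgroup G)) : G) * x₀ = g * (x₀ : G) * g⁻¹ := congrArg Subtype.val hw
        exact ⟨w, w.2, by rw [← hw', mul_inv_cancel_right]; rfl⟩)
        (by rintro _ ⟨w, hw, rfl⟩; exact (cl_eq P).mp hw.2.symm)
      rw [Subgroup.card_map_of_injective (Subgroup.subtype_injective _)] at h3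
      omega
    · obtain ⟨y, hyE, hy⟩ := Finset.not_subset.mp hsame
      have h2 : #((Finset.univ : Finset WC).image fun w : WC => (w : ↥(P : Subgroup G)) * y) = Nat.card WC := by
        rw [Finset.card_image_of_injective _ (fun a b h => Subtype.ext (mul_right_cancel h)), Finset.card_univ, Nat.card_eq_fintype_card]
      have h3 : Disjoint E₀ ((Finset.univ : Finset WC).image fun w : WC => (w : ↥(P : Subgroup G)) * y) := by
        rw [Finset.disjoint_left]
        intro z hz hz'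
        obtain ⟨u, -, rfl⟩ := Finset.mem_image.mp hz
        obtain ⟨v, -, hv⟩ := Finset.mem_image.mp hz'
        refine hy (Finset.mem_image.mpr ⟨v⁻¹ * u, Finset.mem_univ _, ?_⟩)
        show ((v : ↥(P : Subgroup G)))⁻¹ * u * x₀ = y
        rw [mul_assoc, ← hv, inv_mul_cancel_left]
      have h4 := Finset.card_le_card (show E₀ ∪ ((Finset.univ : Finset WC).image fun w : WC => (w : ↥(P : Subgroup G)) * y) ⊆ E from
        Finset.union_subset hE₀E fun z hz => by
          obtain ⟨w, -, rfl⟩ := Finset.mem_image.mp hz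
          refine Finset.mem_filter.mpr ⟨Finset.mem_univ _, ?_⟩
          rw [htr _ w.2.1 _ _ (Finset.mem_filter.mp hyE).2, w.2.2])
      rw [Finset.card_union_of_disjoint h3, hE₀c, h2, hEm] at h4
      have h5 : 0 < Nat.card WC := Nat.card_pos
      rcases Nat.lt_or_ge (Nat.card WC) 2 with h6 | h6 <;> omega
  -- translates of the big class
  haveI := Fintype.ofFinite W
  set S : Finset (K2 G) := (Finset.univ : Finset W).image fun w : W => cl P ((w : ↥(P : Subgroup G)) * x₀) with hS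
  have hSm : ∀ c ∈ S, m c = m (cl P x₀) := by
    intro c hc
    obtain ⟨w, -, rfl⟩ := Finset.mem_image.mp hc
    refine (Finset.card_bij (fun y _ => (w : ↥(P : Subgroup G)) * y) ?_ ?_ ?_).symm
    · intro y hy
      exact Finset.mem_filter.mpr ⟨Finset.mem_univ _, htr _ w.2 _ _ (Finset.mem_filter.mp hy).2⟩
    · intro a _ b _ h; exact mul_left_cancel h
    · intro y hy
      refine ⟨(w : ↥(P : Subgroup G))⁻¹ * y, Finset.mem_filter.mpr ⟨Finset.mem_univ _, ?_⟩, mul_inv_cancel_left _ _⟩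
      rw [htr _ (inv_mem w.2) _ _ (Finset.mem_filter.mp hy).2, inv_mul_cancel_left]
  have hSW : Nat.card W ≤ #S * Nat.card WC := by
    rw [Nat.card_eq_fintype_card, ← Finset.card_univ, mul_comm]
    refine Finset.card_le_mul_card_image _ _ fun c hc => ?_
    obtain ⟨u, -, rfl⟩ := Finset.mem_image.mp hc
    rw [Nat.card_eq_fintype_card, ← Finset.card_univ]
    refine Finset.card_le_card_of_injOn (fun w : W =>
      if h : cl P (((u⁻¹ * w : W) : ↥(P : Subgroup G)) * x₀) = cl P x₀ then (⟨_, (u⁻¹ * w).2, h⟩ : WC) else 1)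
      (fun _ _ => Finset.mem_univ _) ?_
    intro a ha b hb hab
    have key : ∀ w : W, cl P ((w : ↥(P : Subgroup G)) * x₀) = cl P ((u : ↥(P : Subgroup G)) * x₀) →
        cl P (((u⁻¹ * w : W) : ↥(P : Subgroup G)) * x₀) = cl P x₀ := fun w hw => by
      rw [Subgroup.coe_mul, Subgroup.coe_inv, mul_assoc, htr _ (inv_mem u.2) _ _ hw, inv_mul_cancel_left]
    simp only [Finset.coe_filter, Set.mem_setOf_eq, Finset.mem_univ, true_and] at ha hb
    simp only [dif_pos (key a ha), dif_pos (key b hb)] at hab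
    exact mul_left_cancel (a := u⁻¹) (Subtype.ext (congrArg (fun z : WC => (z : ↥(P : Subgroup G))) hab))
  have hsum : Nat.card ↥(P : Subgroup G) = ∑ c, m c := by
    rw [Nat.card_eq_fintype_card, ← Finset.card_univ]
    exact Finset.card_eq_sum_card_fiberwise fun x _ => Finset.mem_univ _
  have hpos : ∀ c, 0 < m c := fun c => by
    obtain ⟨x, rfl⟩ := cl_surjective P c
    exact Finset.card_pos.mpr ⟨x, Finset.mem_filter.mpr ⟨Finset.mem_univ _, rfl⟩⟩
  have hkey : 2 * Nat.card (K2 G) + #S * Nat.card WC ≤ Nat.card ↥(P : Subgroup G) + Nat.card W := by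
    have hones : #{c | m c = 1} ≤ Nat.card W := by
      rw [Nat.card_eq_fintype_card, ← Finset.card_univ]
      refine le_trans (Finset.card_le_card ?_) (Finset.card_image_le (f := fun w : W => cl P (w : ↥(P : Subgroup G))))
      intro c hc
      obtain ⟨x, hx, hxc⟩ := hone c (Finset.mem_filter.mp hc).2
      exact Finset.mem_image.mpr ⟨⟨x, hxc⟩, Finset.mem_univ _, hx⟩
    have h1 : ∑ c : K2 G, (2 + if c ∈ S then Nat.card WC else 0) ≤ ∑ c : K2 G, (m c + if m c = 1 then 1 else 0) := by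
      refine Finset.sum_le_sum fun c _ => ?_
      have := hpos c
      by_cases h : c ∈ S
      · rw [if_pos h, hSm c h, if_neg (by omega)]; omega
      · rw [if_neg h]; split_ifs <;> omega
    simp only [Finset.sum_add_distrib, Finset.sum_boole, Nat.cast_id, ← hsum, Finset.sum_const, smul_eq_mul,
      Finset.card_univ, Finset.sum_ite_mem, Finset.univ_inter] at h1
    rw [Nat.card_eq_fintype_card (α := K2 G)]
    omega
  omega

theorem reduce (hk : Nat.card ↥(P : Subgroup G) < 2 * Nat.card (K2 G)) : Cfsg.HasNormalPComplement 2 G := by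
  haveI : Fact (Nat.Prime 2) := ⟨Nat.prime_two⟩
  set O := Cfsg.oddCore G with hOdef
  set π := QuotientGroup.mk' O with hπ
  set T := P.mapSurjective (QuotientGroup.mk'_surjective O) with hT
  have hinj : ∀ a ∈ (P : Subgroup G), ∀ b ∈ (P : Subgroup G), π a = π b → a = b := by
    intro a ha b hb h
    have h1 : a⁻¹ * b ∈ O := QuotientGroup.eq.mp h
    obtain ⟨j, hj⟩ := IsPGroup.iff_orderOf.mp P.2 ⟨_, mul_mem (inv_mem ha) hb⟩
    rw [Subgroup.orderOf_mk] at hj
    have : a⁻¹ * b = 1 := orderOf_eq_one_iff.mp (Nat.eq_one_of_dvd_coprimes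
        ((Nat.coprime_two_right.2 (Cfsg.Agent.InvChar.Core.odd_card_oddCore (G := G))).pow_right j)
        (O.orderOf_dvd_natCard h1) (dvd_of_eq hj))
    exact inv_mul_eq_one.mp this
  have hcard : Nat.card ↥(T : Subgroup (G ⧸ O)) = Nat.card ↥(P : Subgroup G) :=
    Nat.card_congr (Equiv.ofBijective (fun a : ↥(P : Subgroup G) => (⟨π a, a, a.2, rfl⟩ : ↥(T : Subgroup (G ⧸ O))))
      ⟨fun a b h => Subtype.ext (hinj _ a.2 _ b.2 (congrArg Subtype.val h)), fun ⟨_, a, ha, rfl⟩ => ⟨⟨a, ha⟩, rfl⟩⟩).symm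
  have hle : Nat.card (K2 G) ≤ Nat.card (K2 (G ⧸ O)) := by
    choose f hf using cl_surjective P
    refine Nat.card_le_card_of_injective (fun c => cl T ⟨π (f c), f c, (f c).2, rfl⟩) fun a b h => ?_
    rw [← hf a, ← hf b, cl_eq]
    obtain ⟨gb, hgb⟩ := (cl_eq T).mp h
    obtain ⟨g, rfl⟩ := QuotientGroup.mk'_surjective O gb
    simp only at hgb
    rw [← map_inv, ← map_mul, ← map_mul] at hgb
    set x := g * (f a : G) * g⁻¹ with hx
    set L := (P : Subgroup G) ⊔ O
    have hxL : x ∈ L := by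
      rw [← mul_inv_cancel_left ((f b : G)) x]
      exact mul_mem (Subgroup.mem_sup_left (f b).2) (Subgroup.mem_sup_right (QuotientGroup.eq.mp hgb.symm))
    have hxp : IsPGroup 2 (Subgroup.zpowers (⟨x, hxL⟩ : L)) := by
      obtain ⟨k, hk⟩ := IsPGroup.iff_orderOf.mp P.2 (f a)
      refine IsPGroup.of_card (n := k) ?_
      rw [Nat.card_zpowers, Subgroup.orderOf_mk, hx, Cfsg.Agent.Involutions.Basic.orderOf_conj, Subgroup.orderOf_coe, hk]
    obtain ⟨R, hR⟩ := hxp.exists_le_sylow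
    obtain ⟨⟨l, hl⟩, hle⟩ := MulAction.exists_smul_eq L R (P.subtype le_sup_left)
    have hmem' : l * x * l⁻¹ ∈ (P : Subgroup G) := by
      have hmem : (⟨l, hl⟩ : L) * ⟨x, hxL⟩ * (⟨l, hl⟩ : L)⁻¹ ∈ ((P.subtype le_sup_left : Sylow 2 L) : Subgroup L) := by
        rw [← hle, ← SetLike.mem_coe, Sylow.coe_subgroup_smul]
        exact ⟨_, hR (Subgroup.mem_zpowers _), rfl⟩
      exact hmem
    obtain ⟨t, ht, o, ho, rfl⟩ := Subgroup.mem_sup_of_normal_right.mp hl
    refine ⟨o * g, ?_⟩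
    have hoP : o * x * o⁻¹ ∈ (P : Subgroup G) := by
      have := mul_mem (mul_mem (inv_mem ht) hmem') ht
      rwa [show t⁻¹ * (t * o * x * (t * o)⁻¹) * t = o * x * o⁻¹ by group] at this
    rw [show o * g * (f a : G) * (o * g)⁻¹ = o * x * o⁻¹ by rw [hx]; group]
    refine hinj _ hoP _ (f b).2 ?_
    rw [map_mul, map_mul, map_inv, show π o = 1 from (QuotientGroup.eq_one_iff o).mpr ho, one_mul, inv_one, mul_one]
    exact hgb
  have hk' : Nat.card ↥(T : Subgroup (G ⧸ O)) < 2 * Nat.card (K2 (G ⧸ O)) := by omega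
  refine Cfsg.Agent.Transfer.NormalPComplement.hasNormalPComplement_of_quotient
    (Nat.coprime_two_right.2 (Cfsg.Agent.InvChar.Core.odd_card_oddCore (G := G))) ?_
  exact main T Cfsg.Agent.InvChar.Core.oddCore_quotient_oddCore_eq_bot
    (comm_small (lt_of_lt_of_le hk' (Nat.mul_le_mul_left 2 (card_le_classes T)))) hk'

end

/-- Let G be a finite group with Sylow 2-subgroup P, and write k₂(G) for the number of conjugacy classes of G consisting of 2-elements (elements of 2-power order, the identity included). Then k₂(G) > |P|/2 if and only if G has a normal 2-complement and P has more than |P|/2 conjugacy classes. -/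
theorem result {G : Type*} [Group G] [Finite G] (P : Sylow 2 G) :
    Nat.card ↥(P : Subgroup G) < 2 * Nat.card {c : ConjClasses G // ∀ x ∈ c.carrier, ∃ k : ℕ, orderOf x = 2 ^ k} ↔
      Cfsg.HasNormalPComplement 2 G ∧ Nat.card ↥(P : Subgroup G) < 2 * Nat.card (ConjClasses ↥(P : Subgroup G)) := by
  constructor
  · intro h
    exact ⟨reduce P h, lt_of_lt_of_le h (Nat.mul_le_mul_left 2 (card_le_classes P))⟩
  · rintro ⟨hn, h⟩
    rwa [card_eq_classes P hn]

end Cfsg.Agent.S3895
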