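import Cfsg.Statements.S0054
import Cfsg.Agent.Solvable.Basics

set_option autoImplicit false
open Cfsg

namespace Cfsg.Agent.S0054

/-- A regular normal subgroup of a finite 2-transitive group is elementary abelian: it is commutative and all its elements have order dividing one prime. -/
theorem result {G : Type*} [Group G] [Finite G]
    {X : Type*} [Nonempty X] [MulAction G X] (h2 : MulAction.IsMultiplyPretransitive G X 2)
    (N : Subgroup G) [N.Normal] (htrans : MulAction.IsPretransitive N X) (hreg : ∀ x : X, MulAction.stabilizer N x = ⊥) :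
    IsMulCommutative N ∧ ∃ p : ℕ, p.Prime ∧ ∀ n ∈ N, n ^ p = 1 := by
  rcases eq_or_ne N ⊥ with rfl | hN
  · exact ⟨inferInstance, 2, Nat.prime_two, fun n hn => by
      rw [Subgroup.mem_bot.mp hn, one_pow]⟩
  obtain ⟨x⟩ := ‹Nonempty X›
  have hfree : ∀ n ∈ N, ∀ m ∈ N, n • x = m • x → n = m := by
    intro n hn m hm h
    have h1 : (⟨m⁻¹ * n, mul_mem (inv_mem hm) hn⟩ : N) ∈ MulAction.stabilizer N x := by
      rw [MulAction.mem_stabilizer_iff]
      change (m⁻¹ * n) • x = x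
      rw [mul_smul, h, inv_smul_smul]
    rw [hreg, Subgroup.mem_bot] at h1
    exact (inv_mul_eq_one.mp (congrArg Subtype.val h1)).symm
  have hconj : ∀ n ∈ N, ∀ m ∈ N, n ≠ 1 → m ≠ 1 → ∃ g : G, g * n * g⁻¹ = m := by
    intro n hn m hm hn1 hm1
    have h1 : x ≠ n • x := fun h => hn1 (hfree n hn 1 (one_mem N) (by rw [one_smul, ← h]))
    have h2 : x ≠ m • x := fun h => hm1 (hfree m hm 1 (one_mem N) (by rw [one_smul, ← h]))
    obtain ⟨g, hg1, hg2⟩ := MulAction.is_two_pretransitive_iff.mp ‹MulAction.IsMultiplyPretransitive G X 2› h1 h2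
    refine ⟨g, hfree _ (Subgroup.Normal.conj_mem inferInstance n hn g) m hm ?_⟩
    rw [mul_smul, mul_smul, inv_smul_eq_iff.mpr hg1.symm, hg2]
  obtain ⟨p, hp, hdvd⟩ := Nat.exists_prime_and_dvd
    (mt Subgroup.card_eq_one.mp hN : Nat.card N ≠ 1)
  have := Fact.mk hp
  obtain ⟨⟨y, hy⟩, hyo⟩ := exists_prime_orderOf_dvd_card' p hdvd
  rw [Subgroup.orderOf_mk] at hyo
  have hy1 : y ≠ 1 := fun h => hp.ne_one (by rw [← hyo, h, orderOf_one])
  have hyp : y ^ p = 1 := hyo ▸ pow_orderOf_eq_one y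
  have hpow : ∀ n ∈ N, n ^ p = 1 := by
    intro n hn
    rcases eq_or_ne n 1 with rfl | hn1
    · exact one_pow p
    obtain ⟨g, rfl⟩ := hconj y hy n hn hy1 hn1
    rw [conj_pow, hyp, mul_one, mul_inv_cancel]
  refine ⟨?_, p, hp, hpow⟩
  have hnil : Group.IsNilpotent N :=
    (Cfsg.Agent.Solvable.Basics.isPGroup_of_forall_pow_eq_one hpow).isNilpotent
  have : Nontrivial N := (Subgroup.nontrivial_iff_ne_bot N).mpr hN
  obtain ⟨⟨z, hzN⟩, hz, hz1⟩ :=
    (Subgroup.bot_or_exists_ne_one _).resolve_left (Group.IsNilpotent.center_ne_bot N)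
  have hz1' : z ≠ 1 := fun h => hz1 (Subtype.ext h)
  refine ⟨⟨fun a b => ?_⟩⟩
  rcases eq_or_ne (a : G) 1 with ha | ha
  · rw [show a = 1 from Subtype.ext ha, one_mul, mul_one]
  obtain ⟨g, hg⟩ := hconj z hzN a a.2 hz1' ha
  apply Subtype.ext
  change (a : G) * b = b * a
  have hb : g⁻¹ * b * g ∈ N := by
    simpa using Subgroup.Normal.conj_mem inferInstance (b : G) b.2 g⁻¹
  have hc : g⁻¹ * b * g * z = z * (g⁻¹ * b * g) :=
    congrArg Subtype.val (Subgroup.mem_center_iff.mp hz ⟨_, hb⟩)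
  rw [← hg]
  calc g * z * g⁻¹ * b = g * (z * (g⁻¹ * b * g)) * g⁻¹ := by group
    _ = g * (g⁻¹ * b * g * z) * g⁻¹ := by rw [hc]
    _ = b * (g * z * g⁻¹) := by group

end Cfsg.Agent.S0054
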