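import Cfsg.Statements.S2262
import Cfsg.Agent.Lib.Classical.AutPSLOrder
import Cfsg.Agent.Lib.Classical.PowScalarClasses
-- import your own Cfsg.Agent.* helpers here

set_option autoImplicit false
open Cfsg

namespace Cfsg.Agent.S2262

open Cfsg.Agent.Classical Polynomial
open Cfsg.Agent.AutPSL.Basic Cfsg.Agent.AutPSL.Main Cfsg.Agent.AutPSL.Out Cfsg.Agent.AutPSL.Conj

theorem le_two_pow_of {q e : ℕ} (hq : 2 ≤ q) (he : 1 ≤ e) (hne : ¬ (q = 2 ∧ e = 2)) :
    e * (q + 1) ≤ q ^ e + 1 := by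
  rcases he.eq_or_lt with rfl | he2
  · simp
  rcases Nat.lt_or_ge q 3 with h | h
  · obtain rfl : q = 2 := by omega
    have h3 : 3 ≤ e := by omega
    clear he2 hne
    induction e, h3 using Nat.le_induction with
    | base => norm_num
    | succ j hj ih => have := ih (by omega); rw [pow_succ]; omega
  · induction e, he2 using Nat.le_induction with
    | base => nlinarith
    | succ j hj ih =>
      have h1 := ih (by omega) (by omega)
      have h2 : (j + 1) * (q + 1) ≤ 3 * q ^ j := by nlinarith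
      have h3 : q ^ (j + 1) = q * q ^ j := pow_succ' q j
      have h4 : 3 * q ^ j ≤ q * q ^ j := Nat.mul_le_mul_right _ h
      omega

/-- from the subfield to the field -/
theorem lift_bound {q e c d n : ℕ} (hd : 3 ≤ d) (hq : 2 ≤ q) (he : 1 ≤ e)
    (hc : 2 * c ≤ q ^ ((e - 1) * (d - 1))) (hn : (q - 1) * n ≤ q ^ d - 1) :
    (q ^ e - 1) * (c * n) ≤ (q ^ e) ^ d - 1 := by
  have hpe : 2 ≤ q ^ e := hq.trans (Nat.le_self_pow (by omega) q)
  have h1 : n ≤ 2 * q ^ (d - 1) := by
    by_contra h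
    have h2 : (q - 1) * (2 * q ^ (d - 1) + 1) ≤ (q - 1) * n := Nat.mul_le_mul_left _ (by omega)
    have h3 : q ^ d = q * q ^ (d - 1) := by rw [← pow_succ', Nat.sub_add_cancel (by omega)]
    have h4 : q * q ^ (d - 1) ≤ (q - 1) * (2 * q ^ (d - 1)) := by
      rw [← mul_assoc]
      exact Nat.mul_le_mul_right _ (by omega)
    rw [mul_add, mul_one] at h2
    have : 0 < q ^ d := Nat.pow_pos (by omega)
    omega
  have h5 : c * n ≤ (q ^ e) ^ (d - 1) := by
    calc c * n ≤ c * (2 * q ^ (d - 1)) := Nat.mul_le_mul_left _ h1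
      _ = (2 * c) * q ^ (d - 1) := by ring
      _ ≤ q ^ ((e - 1) * (d - 1)) * q ^ (d - 1) := Nat.mul_le_mul_right _ hc
      _ = (q ^ e) ^ (d - 1) := by
        rw [← pow_add, ← pow_mul]
        congr 1
        obtain ⟨e, rfl⟩ : ∃ a, e = a + 1 := ⟨e - 1, by omega⟩
        rw [Nat.add_sub_cancel]; ring
  have h6 : (q ^ e) ^ d = q ^ e * (q ^ e) ^ (d - 1) := by
    rw [← pow_succ', Nat.sub_add_cancel (by omega)]
  calc (q ^ e - 1) * (c * n) ≤ (q ^ e - 1) * (q ^ e) ^ (d - 1) := Nat.mul_le_mul_left _ h5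
    _ ≤ (q ^ e) ^ d - 1 := by
      rw [Nat.sub_mul, one_mul, h6]
      have : 0 < (q ^ e) ^ (d - 1) := Nat.pow_pos (by omega)
      omega

theorem four_mul_le : ∀ e : ℕ, 3 ≤ e → 4 * e ≤ 4 ^ (e - 1) := fun e he => by
  induction e, he using Nat.le_induction with
  | base => norm_num
  | succ j hj ih =>
    rw [show j + 1 - 1 = (j - 1) + 1 by omega, pow_succ]
    omega

theorem two_mul_le_four_pow : ∀ e : ℕ, 2 ≤ e → 2 * e ≤ 4 ^ (e - 1) := fun e he => by
  rcases he.eq_or_lt with rfl | h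
  · norm_num
  · have := four_mul_le e h; omega

theorem four_pow_le {q e d : ℕ} (hq : 2 ≤ q) (hd : 3 ≤ d) : 4 ^ (e - 1) ≤ q ^ ((e - 1) * (d - 1)) := by
  calc 4 ^ (e - 1) = 2 ^ (2 * (e - 1)) := by rw [pow_mul]; norm_num
    _ ≤ q ^ (2 * (e - 1)) := Nat.pow_le_pow_left hq _
    _ ≤ q ^ ((e - 1) * (d - 1)) :=
      Nat.pow_le_pow_right (by omega) (by rw [mul_comm]; exact Nat.mul_le_mul_left _ (by omega))


/-- Let F be a finite field with q elements and d ≥ 2, with q ≥ 4 when d = 2, and (d, q) ∉ {(2, 4), (3, 2)}. Then every automorphism of the simple group PSL_d(F) has order at most (q^d − 1)/(q − 1) as an element of the automorphism group, and some automorphism has exactly this order. -/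
theorem result {F : Type*} [Field F] [Fintype F] (d : ℕ) (hd : 2 ≤ d)
    (h2 : d = 2 → 4 ≤ Fintype.card F) (h24 : ¬ (d = 2 ∧ Fintype.card F = 4)) (h32 : ¬ (d = 3 ∧ Fintype.card F = 2)) :
    (∀ φ : MulAut (Matrix.ProjectiveSpecialLinearGroup (Fin d) F),
      (Fintype.card F - 1) * orderOf φ ≤ Fintype.card F ^ d - 1) ∧
    (∃ φ : MulAut (Matrix.ProjectiveSpecialLinearGroup (Fin d) F),
      (Fintype.card F - 1) * orderOf φ = Fintype.card F ^ d - 1) := by
  classical
  set q := Fintype.card F with hq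
  have hq2 : 2 ≤ q := Fintype.one_lt_card
  have hup : ∀ φ : MulAut (Matrix.ProjectiveSpecialLinearGroup (Fin d) F),
      (q - 1) * orderOf φ ≤ q ^ d - 1 := by
    intro φ
    have hfield : ∀ (g : GL (Fin d) F) (σ : F ≃+* F), φ = gAut g * fAut σ →
        (q - 1) * orderOf φ ≤ q ^ d - 1 := by
      intro g σ hφ
      obtain ⟨n, hn0, hn, hpow⟩ := AutPSLOrder.field_bound hd σ g
      have hfin : Finite (F ≃+* F) := Finite.of_injective (fun e => (e : F → F)) DFunLike.coe_injective
      have he : 1 ≤ orderOf σ := orderOf_pos σ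
      have hcard := AutPSLOrder.card_fixK σ
      have hq0 := AutPSLOrder.two_le_fixK σ
      set q₀ := Nat.card (AutPSLOrder.fixK σ)
      set e := orderOf σ
      rw [← hq] at hcard
      have hle : orderOf φ ≤ e * n := orderOf_le_of_pow_eq_one (Nat.mul_pos he hn0) (hφ ▸ hpow)
      refine (Nat.mul_le_mul_left _ hle).trans ?_
      rcases hd.eq_or_lt with hd2 | hd3
      · subst hd2
        have hn' : n ≤ q₀ + 1 := by
          refine Nat.le_of_mul_le_mul_left (hn.trans_eq ?_) (show 0 < q₀ - 1 by omega)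
          rw [mul_comm, ← Nat.sq_sub_sq, one_pow]
        have h3 := le_two_pow_of hq0 he fun h => h24 ⟨rfl, by rw [hcard, h.1, h.2]; norm_num⟩
        calc (q - 1) * (e * n) ≤ (q - 1) * (e * (q₀ + 1)) :=
              Nat.mul_le_mul_left _ (Nat.mul_le_mul_left _ hn')
          _ ≤ (q - 1) * (q + 1) := Nat.mul_le_mul_left _ (hcard ▸ h3)
          _ = q ^ 2 - 1 := by rw [mul_comm, ← Nat.sq_sub_sq, one_pow]
      · rcases he.eq_or_lt with he1 | he2
        · rw [← he1, one_mul, hcard, ← he1, pow_one]; exact hn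
        · rw [hcard]
          exact lift_bound hd3 hq0 he ((two_mul_le_four_pow e he2).trans (four_pow_le hq0 hd3)) hn
    rcases hd.eq_or_lt with hd2 | hd3
    · subst hd2
      obtain ⟨g, σ, hφ⟩ := exists_decomp_two φ
      exact hfield g σ hφ
    obtain ⟨g, σ, γ, hγ, hφ⟩ := exists_decomp hd φ
    rcases hγ with rfl | rfl
    · exact hfield g σ (by rw [hφ, mul_one])
    by_cases hσ : σ ^ 2 = 1
    · obtain ⟨n, hn0, hn, hnc⟩ := AutPSLOrder.graph_bound hd3 (fun h => h32 h) σ hσ g
      have hpow : φ ^ (2 * n) = 1 := by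
        rw [hφ, pow_mul, graph_pow_two, hσ, map_one, mul_one, ← map_pow, (gAut_eq_one_iff hd _).2 hnc]
      calc (q - 1) * orderOf φ ≤ (q - 1) * (2 * n) :=
            Nat.mul_le_mul_left _ (orderOf_le_of_pow_eq_one (by omega) hpow)
        _ = 2 * ((q - 1) * n) := by ring
        _ ≤ q ^ d - 1 := hn
    · obtain ⟨n, hn0, hn, hpow⟩ := AutPSLOrder.field_bound hd (σ ^ 2) (g * fieldGL σ (dual g))
      have hfin : Finite (F ≃+* F) := Finite.of_injective (fun e => (e : F → F)) DFunLike.coe_injective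
      have he2 : 2 ≤ orderOf (σ ^ 2) := by
        have h1 := orderOf_pos (σ ^ 2)
        have h1' : orderOf (σ ^ 2) ≠ 1 := fun h => hσ (orderOf_eq_one_iff.1 h)
        omega
      have hcard := AutPSLOrder.card_fixK (σ ^ 2)
      have h2 := AutPSLOrder.two_le_fixK (σ ^ 2)
      have hfour : orderOf (σ ^ 2) = 2 → 4 ≤ Nat.card (AutPSLOrder.fixK (σ ^ 2)) := fun h => by
        have h4 : orderOf σ = 4 := by
          have hd' : orderOf σ ∣ 2 ^ 2 := orderOf_dvd_of_pow_eq_one (by
            have h' := pow_orderOf_eq_one (σ ^ 2)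
            rw [h, ← pow_mul] at h'
            exact h')
          obtain ⟨i, hi, he⟩ := (Nat.dvd_prime_pow Nat.prime_two).1 hd'
          rcases i with _ | _ | _ | i
          · exact absurd (by rw [orderOf_eq_one_iff.1 (he.trans (pow_zero 2)), one_pow]) hσ
          · exact absurd (by have := pow_orderOf_eq_one σ; rwa [he, pow_one] at this) hσ
          · exact he
          · omega
        have hc1 := AutPSLOrder.card_fixK σ
        have h21 := AutPSLOrder.two_le_fixK σ
        rw [h4] at hc1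
        rw [h] at hcard
        have h5 : Nat.card (AutPSLOrder.fixK (σ ^ 2)) = Nat.card (AutPSLOrder.fixK σ) ^ 2 :=
          Nat.pow_left_injective (n := 2) (by omega) (by
            show Nat.card (AutPSLOrder.fixK (σ ^ 2)) ^ 2 = (Nat.card (AutPSLOrder.fixK σ) ^ 2) ^ 2
            rw [← pow_mul, ← hcard, hc1])
        rw [h5]
        nlinarith
      set q₀ := Nat.card (AutPSLOrder.fixK (σ ^ 2))
      set e := orderOf (σ ^ 2)
      rw [← hq] at hcard
      have hpow' : φ ^ (2 * (e * n)) = 1 := by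
        rw [hφ, pow_mul, graph_pow_two]; exact hpow
      refine (Nat.mul_le_mul_left _ (orderOf_le_of_pow_eq_one (by positivity) hpow')).trans ?_
      rw [hcard, ← mul_assoc 2 e n]
      refine lift_bound hd3 h2 (by omega) ?_ hn
      rcases he2.eq_or_lt with he | he
      · rw [← he, show (2 - 1) * (d - 1) = d - 1 by omega]
        calc 2 * (2 * 2) ≤ 4 ^ 2 := by norm_num
          _ ≤ q₀ ^ 2 := Nat.pow_le_pow_left (hfour he.symm) _
          _ ≤ q₀ ^ (d - 1) := Nat.pow_le_pow_right (by omega) (by omega)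
      · have h3 := (four_mul_le e he).trans (four_pow_le (e := e) h2 hd3)
        omega
  refine ⟨hup, ?_⟩
  -- a Singer cycle
  have hN0 : 0 < q ^ d - 1 := by
    have := Nat.one_lt_pow (show d ≠ 0 by omega) hq2
    omega
  have hNF : ((q ^ d - 1 : ℕ) : F) ≠ 0 := by
    rw [Nat.cast_sub (Nat.one_le_pow _ _ (by omega)), Nat.cast_pow, hq, FiniteField.cast_card_eq_zero,
      zero_pow (by omega), Nat.cast_one]
    simp
  obtain ⟨x, hxm, hxi, hxd, hxn⟩ := SpectrumTools.exists_factor (F := F) hNF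
  have hord : orderOf ((q : ℕ) : ZMod (q ^ d - 1)) = d := by
    rw [orderOf_eq_iff (by omega)]
    refine ⟨?_, fun i hi hi0 h => ?_⟩
    · have h0 := (ZMod.natCast_eq_zero_iff (q ^ d - 1) (q ^ d - 1)).2 dvd_rfl
      have h1 : ((q ^ d : ℕ) : ZMod (q ^ d - 1)) = ((q ^ d - 1 + 1 : ℕ) : ZMod (q ^ d - 1)) :=
        congrArg _ (by omega)
      rw [← Nat.cast_pow, h1, Nat.cast_add, h0, zero_add, Nat.cast_one]
    · rw [← Nat.cast_pow, ← sub_eq_zero] at h
      have h' : ((q ^ i - 1 : ℕ) : ZMod (q ^ d - 1)) = 0 := by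
        rw [Nat.cast_sub (Nat.one_le_pow _ _ (by omega)), Nat.cast_one]; exact h
      clear h
      have h := (ZMod.natCast_eq_zero_iff _ _).1 h'
      have h1 : 1 < q ^ i := Nat.one_lt_pow (by omega) hq2
      have h2' := Nat.le_of_dvd (by omega) h
      have h3 : q ^ i < q ^ d := Nat.pow_lt_pow_right hq2 hi
      omega
  rw [← hq, hord] at hxn
  obtain ⟨B, hB, hBc⟩ := PowScalarClasses.exists_matrix (q ^ d - 1) (1 : F) {x}
    (fun y hy => by
      rw [Multiset.mem_singleton.1 hy]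
      exact ⟨hxm, hxi, SpectrumTools.dvd_X_pow_sub_one dvd_rfl hN0 hxd⟩) d (by simp [hxn])
  rw [one_smul] at hB
  have hu : IsUnit B := IsUnit.of_pow_eq_one hB (by omega)
  let A : GL (Fin d) F := hu.unit
  have hA : (A : Matrix (Fin d) (Fin d) F) = B := hu.unit_spec
  refine ⟨gAut A, le_antisymm (hup _) ?_⟩
  have hpos : 0 < orderOf (gAut A) := by
    refine IsOfFinOrder.orderOf_pos (isOfFinOrder_iff_pow_eq_one.2 ⟨q ^ d - 1, hN0, ?_⟩)
    rw [← map_pow, show A ^ (q ^ d - 1) = 1 from Units.ext (by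
      rw [Units.val_pow_eq_pow_val, hA, hB, Units.val_one]), map_one]
  obtain ⟨a, ha⟩ := exists_sc (by omega) ((gAut_eq_one_iff hd _).1
    ((map_pow gAut A (orderOf (gAut A))).trans (pow_orderOf_eq_one (gAut A))))
  have hpow : B ^ (orderOf (gAut A) * (q - 1)) = 1 := by
    rw [← hA, ← Units.val_pow_eq_pow_val, pow_mul, ← ha, ← map_pow,
      show a ^ (q - 1) = 1 by rw [hq, ← Fintype.card_units, pow_card_eq_one], map_one, Units.val_one]
  set m := orderOf (gAut A) * (q - 1) with hm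
  -- the exact order of `B`
  have hdvd : q ^ d - 1 ∣ orderOf B := by
    have hbd : orderOf B ∣ q ^ d - 1 := orderOf_dvd_of_pow_eq_one hB
    have hbF : ((orderOf B : ℕ) : F) ≠ 0 := fun h => hNF (by
      obtain ⟨j, hj⟩ := hbd; rw [hj, Nat.cast_mul, h, zero_mul])
    exact SpectrumFactors.dvd_of_pow_eq_one hNF hbF hxi hxd
      (by rw [hBc, Multiset.prod_singleton]) (pow_orderOf_eq_one B)
  have hle := Nat.le_of_dvd (Nat.mul_pos hpos (by omega)) (hdvd.trans (orderOf_dvd_of_pow_eq_one hpow))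
  rw [mul_comm]; exact hle

end Cfsg.Agent.S2262
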