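import Cfsg.Statements.S3559
import Cfsg.Agent.Recognition.BurnsideSchur

set_option autoImplicit false
open Cfsg

namespace Cfsg.Agent.S3559

/-- Let G act faithfully and transitively on a finite set whose number of points n ≥ 2 is not a prime power, and suppose G has a cyclic subgroup acting regularly (transitively with trivial point stabilizers). Then G is imprimitive or doubly transitive. -/
theorem result {G Ω : Type*} [Group G] [Finite G] [MulAction G Ω] [FaithfulSMul G Ω] [Finite Ω]
    (htrans : MulAction.IsPretransitive G Ω) (hn : 2 ≤ Nat.card Ω) (hnp : ¬ IsPrimePow (Nat.card Ω))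
    (C : Subgroup G) (hcyc : IsCyclic ↥C) (hC : MulAction.IsPretransitive ↥C Ω ∧ ∀ a : Ω, MulAction.stabilizer ↥C a = ⊥) :
    ¬ MulAction.IsPreprimitive G Ω ∨ MulAction.IsMultiplyPretransitive G Ω 2 := by
  classical
  by_cases hprim : MulAction.IsPreprimitive G Ω
  · right
    letI : CommGroup C := IsCyclic.commGroup
    haveI : Fintype C := Fintype.ofFinite C
    haveI := htrans
    haveI := hC.1
    obtain ⟨a⟩ : Nonempty Ω := (Nat.card_pos_iff.1 (by omega)).1
    have hreg : Function.Bijective fun h : C => C.subtype h • a := by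
      refine ⟨fun x y h => ?_, fun w => MulAction.exists_smul_eq C a w⟩
      have : y⁻¹ * x ∈ MulAction.stabilizer C a := by
        rw [MulAction.mem_stabilizer_iff, mul_smul]
        exact inv_smul_eq_iff.2 h
      rw [hC.2, Subgroup.mem_bot, inv_mul_eq_one] at this
      exact this.symm
    have hcard : Nat.card Ω = Nat.card C := (Nat.card_eq_of_bijective _ hreg).symm
    set n := Nat.card C
    have hp : n.minFac.Prime := Nat.minFac_prime (by omega)
    obtain ⟨b, r, hr, hnr⟩ := Nat.exists_eq_pow_mul_and_not_dvd (show n ≠ 0 by omega) n.minFac hp.ne_one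
    have hr1 : r ≠ 1 := by
      intro h
      rw [h, mul_one] at hnr
      refine hnp ⟨n.minFac, b, hp.prime, ?_, by rw [hcard]; exact hnr.symm⟩
      rcases Nat.eq_zero_or_pos b with hb | hb
      · rw [hb, pow_zero] at hnr; omega
      · exact hb
    haveI := Fact.mk (Nat.minFac_prime hr1)
    haveI := Fact.mk hp
    have hrn : r ∣ n := ⟨n.minFac ^ b, by rw [mul_comm]; exact hnr⟩
    obtain ⟨y, hy⟩ := exists_prime_orderOf_dvd_card' (G := C) r.minFac ((Nat.minFac_dvd r).trans hrn)
    refine Recognition.BurnsideSchur.main hprim C.subtype a hreg n.minFac hp ?_ y ?_ ?_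
    · change Nat.card (powMonoidHom (α := C) n.minFac).ker = _
      rw [IsCyclic.card_powMonoidHom_ker, Nat.gcd_eq_right (Nat.minFac_dvd n)]
    · intro h
      rw [h, orderOf_one] at hy
      exact (Nat.minFac_prime hr1).ne_one hy.symm
    · rw [hy, Nat.prime_dvd_prime_iff_eq hp (Nat.minFac_prime hr1)]
      intro h
      exact hr (h ▸ Nat.minFac_dvd r)
  · exact Or.inl hprim

end Cfsg.Agent.S3559
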