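import Cfsg.Statements.S0357
import Cfsg.Agent.Lib.Golay.Steiner

set_option autoImplicit false
open Cfsg

namespace Cfsg.Agent.S0357

open Cfsg.Agent.Golay.Steiner Finset

/-- In a Steiner system S(5, 6, 12), the complement of every block is again a block. -/
theorem result {α : Type*} [Fintype α] [DecidableEq α] (hα : Fintype.card α = 12) {B : Set (Finset α)} (hB : Cfsg.IsSteinerSystem 5 6 B) {b : Finset α} (hb : b ∈ B) : bᶜ ∈ B := by
  have h := ncard_inter_eq hB (by norm_num) hα interNums_5612 hb 6 ∅ (empty_subset _) (by simp)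
  rw [card_empty, show n5612 0 = 1 from rfl] at h
  obtain ⟨c, hc⟩ := Set.ncard_eq_one.1 h
  have hmem : c ∈ {c : Finset α | c ∈ B ∧ b ∩ c = ∅} := by rw [hc]; rfl
  obtain ⟨hcB, hbc⟩ := hmem
  have : c = bᶜ := by
    refine eq_of_subset_of_card_le (fun x hx => mem_compl.2 fun hxb => ?_) ?_
    · have : x ∈ b ∩ c := mem_inter.2 ⟨hxb, hx⟩
      rw [hbc] at this
      exact absurd this (notMem_empty x)
    · rw [card_compl, hα, hB.1 b hb, hB.1 c hcB]
  exact this ▸ hcB

end Cfsg.Agent.S0357
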