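import Cfsg.Statements.S0385
import Cfsg.Agent.Lib.Golay.Design

set_option autoImplicit false
open Cfsg

namespace Cfsg.Agent.S0385

open Cfsg.Agent.Golay.Basic Cfsg.Agent.Golay.Design Finset

/-- The 6-point intersections of octads with a fixed dodecad form a Steiner system S(5, 6, 12) on the dodecad. -/
theorem result (d : Finset Cfsg.GolayPt) (hd : d ∈ Cfsg.dodecads) : Cfsg.IsSteinerSystem 5 6 {h : Finset {p : Cfsg.GolayPt // p ∈ d} | ∃ o ∈ Cfsg.octads, (o ∩ d).card = 6 ∧ h = Finset.subtype (fun p => p ∈ d) o} := by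
  constructor
  · rintro h ⟨o, -, h6, rfl⟩
    rw [card_subtype, filter_mem_eq_inter, h6]
  · intro s hs
    obtain ⟨o, ⟨ho, hso⟩, huniq⟩ := steiner_octads.2 (s.map (Function.Embedding.subtype _)) (by rw [card_map, hs])
    have h5 : 5 ≤ (o ∩ d).card := by
      rw [← hs, ← card_map (Function.Embedding.subtype _)]
      refine card_le_card fun x hx => mem_inter.2 ⟨hso hx, ?_⟩
      obtain ⟨y, -, rfl⟩ := mem_map.1 hx
      exact y.2
    have he := card_symmDiff_eq o d
    have hw := weights_supports (symmDiff_mem_supports (octad_mem_supports ho) hd.1)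
    have hle := card_le_card (inter_subset_left : o ∩ d ⊆ o)
    have hd12 : d.card = 12 := hd.2
    rw [octad_card ho] at he hle
    refine ⟨Finset.subtype (fun p => p ∈ d) o, ⟨⟨o, ho, by omega, rfl⟩, fun x hx => ?_⟩, ?_⟩
    · exact mem_subtype.2 (hso (mem_map_of_mem _ hx))
    · rintro _ ⟨⟨o', ho', -, rfl⟩, hso'⟩
      rw [huniq o' ⟨ho', ?_⟩]
      intro x hx
      obtain ⟨y, hy, rfl⟩ := mem_map.1 hx
      exact mem_subtype.1 (hso' hy)

end Cfsg.Agent.S0385
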