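import Cfsg.Statements.S2034
import Cfsg.Agent.Techniques.InvolutionPatternM11
import Cfsg.Agent.SimpleFacts.SLTwoMultiplier

set_option autoImplicit false
open Cfsg

namespace Cfsg.Agent.S2034

open Cfsg.Agent.Techniques.InvolutionPatternM11 Cfsg.Agent.Golay.Small
open scoped commutatorElement

def wa : List ℕ := [0, 0, 3]
def wb : List ℕ := [2, 1, 0, 1, 0, 0]
def wA : List ℕ := [0, 0, 1, 0, 1, 1, 0, 1]
def wB : List ℕ := [0, 0, 3, 0, 3]
def wu : List ℕ := [0, 1, 0, 1]

def pw (w : List ℕ) (n : ℕ) : List ℕ := (List.replicate n w).flatten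

theorem ev_pw (w : List ℕ) (n : ℕ) : ev (pw w n) = ev w ^ n := ev_replicate w n

theorem sylow_two_words : sameW (pw wa 8) [] = true ∧ sameW (pw wb 2) [] = true ∧
    sameW (wb ++ wa) (pw wa 3 ++ wb) = true ∧
    ((List.range 8).flatMap fun i => (List.range 2).map fun j => sig (pw wa i ++ pw wb j)).Nodup := by
  decide +kernel

theorem sylow_three_words : sameW (pw wA 3) [] = true ∧ sameW (pw wB 3) [] = true ∧
    sameW (wA ++ wB) (wB ++ wA) = true ∧ sameW (wu ++ wA) (pw wA 2 ++ wu) = true ∧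
    sameW (wu ++ wB) (wB ++ wu) = true ∧
    ((List.range 3).flatMap fun i => (List.range 3).map fun j => sig (pw wA i ++ pw wB j)).Nodup := by
  decide +kernel

/-- The subgroup generated by two elements satisfying a metacyclic relation. -/
theorem card_closure_eq {G : Type*} [Group G] [Finite G] {a b : G} {m n r : ℕ} (hm : 0 < m) (hn : 0 < n)
    (ham : a ^ m = 1) (hbn : b ^ n = 1) (hba : b * a = a ^ r * b)
    (hinj : ∀ i < m, ∀ j < n, ∀ i' < m, ∀ j' < n, a ^ i * b ^ j = a ^ i' * b ^ j' → i = i' ∧ j = j') :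
    Nat.card (Subgroup.closure ({a, b} : Set G)) = m * n ∧
      ∀ x ∈ Subgroup.closure ({a, b} : Set G), ∃ i j, x = a ^ i * b ^ j := by
  set H := Subgroup.closure ({a, b} : Set G)
  have hbi : ∀ i, b * a ^ i = a ^ (r * i) * b := by
    intro i
    induction i with
    | zero => simp
    | succ i ih => rw [pow_succ, ← mul_assoc, ih, mul_assoc, hba, ← mul_assoc, ← pow_add, Nat.mul_succ]
  have hform : ∀ x ∈ H, ∃ i j, x = a ^ i * b ^ j := by
    intro x hx
    induction hx using Subgroup.closure_induction_left with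
    | one => exact ⟨0, 0, by simp⟩
    | mul_left y hy z _ ih =>
      obtain ⟨i, j, rfl⟩ := ih
      rcases hy with rfl | rfl
      · exact ⟨i + 1, j, by rw [← mul_assoc, ← pow_succ']⟩
      · exact ⟨r * i, j + 1, by rw [← mul_assoc, hbi, mul_assoc, ← pow_succ']⟩
    | inv_mul_cancel y hy z _ ih =>
      obtain ⟨i, j, rfl⟩ := ih
      rcases hy with rfl | rfl
      · refine ⟨m - 1 + i, j, ?_⟩
        rw [inv_mul_eq_iff_eq_mul, ← mul_assoc, ← pow_succ', show m - 1 + i + 1 = m + i by omega, pow_add,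
          ham, one_mul]
      · refine ⟨r ^ (n - 1) * i, n - 1 + j, ?_⟩
        have hbk : ∀ k i, y ^ k * a ^ i = a ^ (r ^ k * i) * y ^ k := by
          intro k
          induction k with
          | zero => simp
          | succ k ih' =>
            intro i
            rw [pow_succ, mul_assoc, hbi, ← mul_assoc, ih', mul_assoc, ← pow_succ, pow_succ r, ← mul_assoc (r ^ k) r i]
        have : y⁻¹ = y ^ (n - 1) := inv_eq_of_mul_eq_one_right (by
          rw [← pow_succ', Nat.sub_add_cancel hn, hbn])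
        rw [this, ← mul_assoc, hbk, mul_assoc, ← pow_add]
  refine ⟨?_, hform⟩
  let f : Fin m × Fin n → H := fun p => ⟨a ^ (p.1 : ℕ) * b ^ (p.2 : ℕ),
    mul_mem (pow_mem (Subgroup.subset_closure (by simp)) _) (pow_mem (Subgroup.subset_closure (by simp)) _)⟩
  have hbij : Function.Bijective f := by
    refine ⟨fun p q h => ?_, fun x => ?_⟩
    · obtain ⟨h1, h2⟩ := hinj _ p.1.2 _ p.2.2 _ q.1.2 _ q.2.2 (congrArg Subtype.val h)
      exact Prod.ext (Fin.ext h1) (Fin.ext h2)
    · obtain ⟨i, j, hij⟩ := hform x x.2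
      refine ⟨(⟨i % m, Nat.mod_lt _ hm⟩, ⟨j % n, Nat.mod_lt _ hn⟩), Subtype.ext ?_⟩
      show a ^ (i % m) * b ^ (j % n) = (x : G)
      rw [hij, ← pow_eq_pow_mod i ham, ← pow_eq_pow_mod j hbn]
  rw [← Nat.card_eq_of_bijective f hbij, Nat.card_prod, Nat.card_fin, Nat.card_fin]

theorem inj_of_nodup (u v : List ℕ) (m n : ℕ)
    (h : ((List.range m).flatMap fun i => (List.range n).map fun j => sig (pw u i ++ pw v j)).Nodup) :
    ∀ i < m, ∀ j < n, ∀ i' < m, ∀ j' < n, ev u ^ i * ev v ^ j = ev u ^ i' * ev v ^ j' → i = i' ∧ j = j' := by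
  intro i hi j hj i' hi' j' hj' e
  rw [← ev_pw, ← ev_pw, ← ev_pw, ← ev_pw, ← ev_append, ← ev_append] at e
  have es := sig_eq e
  rw [List.nodup_flatMap] at h
  obtain ⟨h1, h2⟩ := h
  rcases lt_trichotomy i i' with hlt | rfl | hlt
  · have := List.pairwise_iff_getElem.1 h2 i i' (by simpa using hi) (by simpa using hi') hlt
    simp only [Function.onFun, List.getElem_range] at this
    exact absurd (List.mem_map.2 ⟨j', List.mem_range.2 hj', rfl⟩)
      (this (List.mem_map.2 ⟨j, List.mem_range.2 hj, es⟩))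
  · refine ⟨rfl, ?_⟩
    exact List.inj_on_of_nodup_map (h1 i (List.mem_range.2 hi)) (List.mem_range.2 hj) (List.mem_range.2 hj') es
  · have := List.pairwise_iff_getElem.1 h2 i' i (by simpa using hi') (by simpa using hi) hlt
    simp only [Function.onFun, List.getElem_range] at this
    exact absurd (List.mem_map.2 ⟨j, List.mem_range.2 hj, rfl⟩)
      (this (List.mem_map.2 ⟨j', List.mem_range.2 hj', es.symm⟩))

/-- A Sylow subgroup upstairs maps onto a conjugate of a given Sylow subgroup; it is then a stem extension. -/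
theorem stem_sylow {G Γ : Type} [Group G] [Finite G] [Group Γ] [Finite Γ] (σ : Γ →* G)
    (hσ : Cfsg.IsStemExtension σ) {p : ℕ} [Fact p.Prime] (P : Sylow p Γ) (S : Sylow p G) :
    ∃ (g : G) (f : (P : Subgroup Γ) →* (S : Subgroup G)), Cfsg.IsStemExtension f ∧
      ∀ x : (P : Subgroup Γ), (f x : G) = g * σ x.1 * g⁻¹ := by
  obtain ⟨g, hg⟩ := MulAction.exists_smul_eq G (P.mapSurjective hσ.1) S
  have hmem : ∀ y : G, y ∈ (P.mapSurjective hσ.1 : Subgroup G) ↔ g * y * g⁻¹ ∈ (S : Subgroup G) := by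
    intro y
    rw [← hg, Sylow.coe_subgroup_smul, Subgroup.mem_pointwise_smul_iff_inv_smul_mem]
    simp [MulAut.smul_def, mul_assoc]
  let f : (P : Subgroup Γ) →* (S : Subgroup G) :=
    (((MulAut.conj g).toMonoidHom.comp σ).comp (P : Subgroup Γ).subtype).codRestrict _ fun x =>
      (hmem (σ x.1)).1 (by rw [Sylow.coe_mapSurjective]; exact Subgroup.mem_map_of_mem _ x.2)
  refine ⟨g, f, ⟨fun y => ?_, fun x hx => ?_, fun x hx => ?_⟩, fun x => rfl⟩
  · have h1 := (hmem (g⁻¹ * y.1 * g)).2 (by simp [mul_assoc])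
    rw [Sylow.coe_mapSurjective] at h1
    obtain ⟨x, hx, hxy⟩ := h1
    exact ⟨⟨x, hx⟩, Subtype.ext (show g * σ x * g⁻¹ = y.1 by rw [hxy]; group)⟩
  all_goals
    have hk : x.1 ∈ σ.ker := by
      have := congrArg Subtype.val (MonoidHom.mem_ker.1 hx)
      exact conj_eq_one_iff.1 this
  · rw [Subgroup.mem_center_iff]
    intro w
    exact Subtype.ext (Subgroup.mem_center_iff.1 (hσ.2.1 hk) w.1)
  · exact SimpleFacts.SLTwoMultiplier.mem_commutator_sylow P (hσ.2.1 hk) (hσ.2.2 hk) x.2

theorem ker_M11K {Γ : Type} [Group Γ] [Finite Γ] (σ : Γ →* ↥M11K) (hσ : Cfsg.IsStemExtension σ) :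
    σ.ker = ⊥ := by
  classical
  have hev : ∀ {v w : List ℕ}, sameW v w = true → ev v = ev w := ev_eq
  refine SimpleFacts.SLTwoMultiplier.ker_eq_bot σ fun p hp P z hz hzP => ?_
  have hQd : ∃ k, Nat.card (P.mapSurjective hσ.1 : Subgroup ↥M11K) = p ^ k ∧ p ^ k ∣ 7920 := by
    obtain ⟨k, hk⟩ := IsPGroup.iff_card.1 (P.mapSurjective hσ.1).isPGroup'
    exact ⟨k, hk, card_M11K ▸ hk ▸ Subgroup.card_subgroup_dvd_card _⟩
  by_cases h2 : p = 2
  · subst h2
    obtain ⟨e1, e2, e3, e4⟩ := sylow_two_words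
    have ha : ev wa ^ 8 = 1 := by rw [← ev_pw, ← ev_nil]; exact hev e1
    have hb : ev wb ^ 2 = 1 := by rw [← ev_pw, ← ev_nil]; exact hev e2
    have hba : ev wb * ev wa = ev wa ^ 3 * ev wb := by rw [← ev_pw, ← ev_append, ← ev_append]; exact hev e3
    have hinj := inj_of_nodup wa wb 8 2 e4
    obtain ⟨hc, -⟩ := card_closure_eq (by norm_num) (by norm_num) ha hb hba hinj
    let S : Sylow 2 ↥M11K := Sylow.ofCard (Subgroup.closure {ev wa, ev wb}) (by
      rw [hc, card_M11K, show (7920 : ℕ) = 2 ^ 4 * 495 from rfl,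
        Nat.factorization_mul (by norm_num) (by norm_num), Finsupp.add_apply,
        Nat.Prime.factorization_pow Nat.prime_two, Finsupp.single_eq_same,
        Nat.factorization_eq_zero_of_not_dvd (by norm_num : ¬ 2 ∣ 495)]
      norm_num)
    obtain ⟨g, f, hf, hfeq⟩ := stem_sylow σ hσ P S
    let a : (S : Subgroup ↥M11K) := ⟨ev wa, Subgroup.subset_closure (by simp)⟩
    let b : (S : Subgroup ↥M11K) := ⟨ev wb, Subgroup.subset_closure (by simp)⟩
    have hgen : Subgroup.closure ({a, b} : Set (S : Subgroup ↥M11K)) = ⊤ := by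
      apply Subgroup.map_injective (Subgroup.subtype_injective (S : Subgroup ↥M11K))
      rw [MonoidHom.map_closure, ← MonoidHom.range_eq_map, Subgroup.range_subtype, Set.image_pair]
      rfl
    have ho : orderOf a = 8 := by
      rw [← Subgroup.orderOf_coe, orderOf_eq_iff (by norm_num)]
      refine ⟨ha, fun m hm hm0 h => ?_⟩
      have := (hinj m hm 0 (by norm_num) 0 (by norm_num) 0 (by norm_num) (by simpa using h)).1
      omega
    obtain ⟨d, hle, hd⟩ := GStructB.StemExt.ker_le_zpowers f hf a b hgen 8 2 3 0 ho (by norm_num) (by norm_num)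
      (by decide) (mul_inv_eq_iff_eq_mul.2 (Subtype.ext hba)) (by rw [mul_zero, pow_zero]; exact Subtype.ext hb)
    rw [show Nat.gcd 0 (Nat.gcd 8 (3 - 1) * Nat.gcd 8 (∑ i ∈ Finset.range 2, 3 ^ i) / 8) = 1 by decide +kernel,
      Nat.dvd_one, orderOf_eq_one_iff] at hd
    have hzk : (⟨z, hzP⟩ : (P : Subgroup Γ)) ∈ f.ker := by
      rw [MonoidHom.mem_ker]
      refine Subtype.ext ?_
      rw [hfeq, MonoidHom.mem_ker.1 hz]
      simp
    have := hle hzk
    rw [hd, Subgroup.zpowers_one_eq_bot, Subgroup.mem_bot] at this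
    exact congrArg Subtype.val this
  refine SimpleFacts.SLTwoMultiplier.eq_one_of_abelian σ hσ P ?_ hz hzP
  by_cases h3 : p = 3
  · subst h3
    obtain ⟨e1, e2, e3, e4, e5, e6⟩ := sylow_three_words
    have hA : ev wA ^ 3 = 1 := by rw [← ev_pw, ← ev_nil]; exact hev e1
    have hB : ev wB ^ 3 = 1 := by rw [← ev_pw, ← ev_nil]; exact hev e2
    have hAB : ev wA * ev wB = ev wB * ev wA := by rw [← ev_append, ← ev_append]; exact hev e3
    have huA : ev wu * ev wA = ev wA ^ 2 * ev wu := by rw [← ev_pw, ← ev_append, ← ev_append]; exact hev e4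
    have huB : ev wu * ev wB = ev wB * ev wu := by rw [← ev_append, ← ev_append]; exact hev e5
    have hinj := inj_of_nodup wA wB 3 3 e6
    obtain ⟨hc, hform⟩ := card_closure_eq (r := 1) (by norm_num) (by norm_num) hA hB (by rw [pow_one]; exact hAB.symm) hinj
    let S : Sylow 3 ↥M11K := Sylow.ofCard (Subgroup.closure {ev wA, ev wB}) (by
      rw [hc, card_M11K, show (7920 : ℕ) = 3 ^ 2 * 880 from rfl,
        Nat.factorization_mul (by norm_num) (by norm_num), Finsupp.add_apply,
        Nat.Prime.factorization_pow Nat.prime_three, Finsupp.single_eq_same,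
        Nat.factorization_eq_zero_of_not_dvd (by norm_num : ¬ 3 ∣ 880)]
      norm_num)
    obtain ⟨g, f, hf, hfeq⟩ := stem_sylow σ hσ P S
    obtain ⟨x, hx⟩ := hf.1 ⟨ev wA, Subgroup.subset_closure (by simp)⟩
    obtain ⟨y, hy⟩ := hf.1 ⟨ev wB, Subgroup.subset_closure (by simp)⟩
    obtain ⟨T, hT⟩ := hσ.1 (g⁻¹ * ev wu * g)
    have hx' : g * σ x.1 * g⁻¹ = ev wA := by rw [← hfeq, hx]
    have hy' : g * σ y.1 * g⁻¹ = ev wB := by rw [← hfeq, hy]
    have hσx : σ x.1 = g⁻¹ * ev wA * g := by rw [← hx']; group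
    have hσy : σ y.1 = g⁻¹ * ev wB * g := by rw [← hy']; group
    have hcen : ∀ w, σ w = 1 → ∀ v : Γ, v * w = w * v := fun w hw =>
      Subgroup.mem_center_iff.1 (hσ.2.1 (MonoidHom.mem_ker.2 hw))
    have hxy : x.1 * y.1 = y.1 * x.1 := by
      set c := ⁅x.1, y.1⁆ with hc'
      have hcσ : σ c = 1 := by
        rw [hc', map_commutatorElement, commutatorElement_eq_one_iff_mul_comm, hσx, hσy]
        calc g⁻¹ * ev wA * g * (g⁻¹ * ev wB * g) = g⁻¹ * (ev wA * ev wB) * g := by group
          _ = g⁻¹ * (ev wB * ev wA) * g := by rw [hAB]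
          _ = g⁻¹ * ev wB * g * (g⁻¹ * ev wA * g) := by group
      have hcz := hcen c hcσ
      -- modulo the centre the commutator is bilinear
      have hmul : ∀ u v w : Γ, σ ⁅v, w⁆ = 1 → ⁅u * v, w⁆ = ⁅u, w⁆ * ⁅v, w⁆ := fun u v w h => by
        calc ⁅u * v, w⁆ = u * ⁅v, w⁆ * (w * u⁻¹ * w⁻¹) := by rw [commutatorElement_def, commutatorElement_def]; group
          _ = ⁅v, w⁆ * (u * (w * u⁻¹ * w⁻¹)) := by rw [hcen _ h u, mul_assoc]
          _ = ⁅u, w⁆ * ⁅v, w⁆ := by
            rw [hcen _ h ⁅u, w⁆, commutatorElement_def u w]; simp only [mul_assoc]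
      have hzmul : ∀ u v w : Γ, σ v = 1 → ⁅u * v, w⁆ = ⁅u, w⁆ := fun u v w h => by
        have hv := hcen v h w
        have : ⁅v, w⁆ = 1 := commutatorElement_eq_one_iff_mul_comm.2 hv.symm
        rw [hmul u v w (by rw [this, map_one]), this, mul_one]
      have hc3 : c * (c * c) = 1 := by
        have h1 : ⁅x.1 * x.1, y.1⁆ = c * c := hmul _ _ _ hcσ
        have h2 : ⁅x.1 * (x.1 * x.1), y.1⁆ = c * (c * c) := by
          rw [hmul _ _ _ (by rw [h1, map_mul, hcσ, one_mul]), h1]
        rw [← h2, ← one_mul (x.1 * (x.1 * x.1)), hzmul 1 _ _ ?_, commutatorElement_one_left]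
        rw [map_mul, map_mul, hσx, ← mul_assoc]
        calc g⁻¹ * ev wA * g * (g⁻¹ * ev wA * g) * (g⁻¹ * ev wA * g) = g⁻¹ * (ev wA * ev wA * ev wA) * g := by group
          _ = 1 := by rw [← pow_three', hA]; group
      have hconj : ⁅T * x.1 * T⁻¹, T * y.1 * T⁻¹⁆ = c := by
        calc ⁅T * x.1 * T⁻¹, T * y.1 * T⁻¹⁆ = T * c * T⁻¹ := by
              rw [hc', commutatorElement_def, commutatorElement_def]; group
          _ = c := by rw [hcz T, mul_inv_cancel_right]
      have hTx : σ ((x.1 * x.1)⁻¹ * (T * x.1 * T⁻¹)) = 1 := by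
        rw [map_mul, map_inv, map_mul, map_mul, map_mul, map_inv, hT, hσx]
        calc (g⁻¹ * ev wA * g * (g⁻¹ * ev wA * g))⁻¹ * (g⁻¹ * ev wu * g * (g⁻¹ * ev wA * g) * (g⁻¹ * ev wu * g)⁻¹)
            = g⁻¹ * ((ev wA ^ 2)⁻¹ * (ev wu * ev wA) * (ev wu)⁻¹) * g := by group
          _ = 1 := by rw [huA]; group
      have hTy : σ (y.1⁻¹ * (T * y.1 * T⁻¹)) = 1 := by
        rw [map_mul, map_inv, map_mul, map_mul, map_inv, hT, hσy]
        calc (g⁻¹ * ev wB * g)⁻¹ * (g⁻¹ * ev wu * g * (g⁻¹ * ev wB * g) * (g⁻¹ * ev wu * g)⁻¹)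
            = g⁻¹ * ((ev wB)⁻¹ * (ev wu * ev wB) * (ev wu)⁻¹) * g := by group
          _ = 1 := by rw [huB]; group
      have h4 : ⁅T * x.1 * T⁻¹, T * y.1 * T⁻¹⁆ = c * c := by
        rw [← mul_inv_cancel_left (x.1 * x.1) (T * x.1 * T⁻¹), hzmul _ _ _ hTx,
          ← commutatorElement_inv, ← mul_inv_cancel_left y.1 (T * y.1 * T⁻¹), hzmul _ _ _ hTy,
          commutatorElement_inv, hmul _ _ _ hcσ]
      have hcc : c = c * c := hconj.symm.trans h4
      rw [← commutatorElement_eq_one_iff_mul_comm]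
      exact left_eq_mul.1 hcc
    have hrep : ∀ u ∈ (P : Subgroup Γ), ∃ (i j : ℕ) (w : Γ), σ w = 1 ∧ u = x.1 ^ i * y.1 ^ j * w := by
      intro u hu
      obtain ⟨i, j, hij⟩ := hform _ (f ⟨u, hu⟩).2
      refine ⟨i, j, (x.1 ^ i * y.1 ^ j)⁻¹ * u, ?_, by rw [mul_inv_cancel_left]⟩
      have hu' : g * σ u * g⁻¹ = ev wA ^ i * ev wB ^ j := (hfeq ⟨u, hu⟩).symm.trans hij
      rw [← hx', ← hy', conj_pow, conj_pow] at hu'
      have : σ u = σ x.1 ^ i * σ y.1 ^ j := by
        apply mul_left_cancel (a := g); apply mul_right_cancel (b := g⁻¹)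
        rw [hu']; group
      rw [map_mul, map_inv, map_mul, map_pow, map_pow, this, inv_mul_cancel]
    intro u hu v hv
    obtain ⟨i, j, w, hw, rfl⟩ := hrep u hu
    obtain ⟨i', j', w', hw', rfl⟩ := hrep v hv
    have hw1 : ∀ t, Commute w t := fun t => (hcen w hw t).symm
    have hw2 : ∀ t, Commute w' t := fun t => (hcen w' hw' t).symm
    have hxyc : Commute x.1 y.1 := hxy
    have c1 : Commute (x.1 ^ i * y.1 ^ j) (x.1 ^ i' * y.1 ^ j') :=
      ((((Commute.refl x.1).pow_pow i i').mul_right (hxyc.pow_pow i j')).mul_left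
        ((hxyc.symm.pow_pow j i').mul_right ((Commute.refl y.1).pow_pow j j')))
    exact ((c1.mul_right (hw2 _).symm).mul_left (hw1 _)).eq
  · have hQ : IsCyclic ((P.mapSurjective hσ.1 : Sylow p ↥M11K) : Subgroup ↥M11K) := by
      obtain ⟨k, hk, hd⟩ := hQd
      rcases k with _ | _ | k
      · have := (Nat.card_eq_one_iff_unique.1 (by rw [hk, pow_zero])).1
        exact isCyclic_of_subsingleton
      · exact isCyclic_of_prime_card (by rw [hk, pow_one])
      · exfalso
        have hco : Nat.Coprime (p ^ 2) 144 := by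
          rw [show (144 : ℕ) = 2 ^ 4 * 3 ^ 2 from rfl]
          exact Nat.Coprime.mul_right (Nat.Coprime.pow 2 4 ((Nat.coprime_primes hp.out Nat.prime_two).2 h2))
            (Nat.Coprime.pow 2 2 ((Nat.coprime_primes hp.out Nat.prime_three).2 h3))
        have hr2 : p ^ 2 ∣ 55 := hco.dvd_of_dvd_mul_left
          (show p ^ 2 ∣ 144 * 55 from (pow_dvd_pow p (by omega)).trans hd)
        have hsf : Squarefree (55 : ℕ) := by
          rw [show (55 : ℕ) = 5 * 11 from rfl, Nat.squarefree_mul (by norm_num)]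
          refine ⟨?_, ?_⟩ <;> exact Prime.squarefree (Nat.prime_iff.1 (by norm_num))
        rw [sq] at hr2
        exact hp.out.ne_one (Nat.isUnit_iff.1 (hsf p hr2))
    let f := σ.comp (P : Subgroup Γ).subtype
    have hrange : f.range = (P.mapSurjective hσ.1 : Subgroup ↥M11K) := by
      rw [Sylow.coe_mapSurjective, MonoidHom.range_eq_map, ← Subgroup.map_map,
        ← MonoidHom.range_eq_map, Subgroup.range_subtype]
    rw [← hrange] at hQ
    have hker : f.rangeRestrict.ker ≤ Subgroup.center (P : Subgroup Γ) := by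
      rw [MonoidHom.ker_rangeRestrict]
      intro a ha
      rw [Subgroup.mem_center_iff]
      intro b
      exact Subtype.ext (Subgroup.mem_center_iff.1 (hσ.2.1 (MonoidHom.mem_ker.2 ha)) b.1)
    have hc := MonoidHom.isMulCommutative_of_isCyclic_of_ker_le_center f.rangeRestrict hker
    intro a ha b hb
    exact congrArg Subtype.val (hc.is_comm.comm ⟨a, ha⟩ ⟨b, hb⟩)

/-- The Schur multiplier of the Mathieu group M₁₁ (the stabiliser of a dodecad and one of its points in the automorphism group of the length-24 binary code) is trivial; here the Schur multiplier is described through stem extensions, as in the definitions: surjective homomorphisms onto the group from a finite group, whose kernel is central in that finite group and contained in that finite group's commutator subgroup. -/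
theorem result : Cfsg.HasCyclicSchurMultiplier ↥Cfsg.Spor.M11 1 := by
  obtain ⟨e⟩ := Cfsg.Agent.Techniques.InvolutionPatternM11.nonempty_equiv_M11K
  refine GStructB.StemExt.hasCyclicSchurMultiplier_one fun Γ _ _ σ hσ => ?_
  have hk : (e.toMonoidHom.comp σ).ker = σ.ker := by
    ext x
    rw [MonoidHom.mem_ker, MonoidHom.mem_ker, MonoidHom.comp_apply]
    exact map_eq_one_iff e e.injective
  have hs : Cfsg.IsStemExtension (e.toMonoidHom.comp σ) := by
    refine ⟨?_, by rw [hk]; exact hσ.2.1, by rw [hk]; exact hσ.2.2⟩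
    rw [MonoidHom.coe_comp]
    exact e.surjective.comp hσ.1
  rw [← hk]
  exact ker_M11K _ hs

end Cfsg.Agent.S2034
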