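import Cfsg.Statements.S0825
import Cfsg.Agent.Lib.Forms.SmallPerm
-- import your own Cfsg.Agent.* helpers here

set_option autoImplicit false
open Cfsg

namespace Cfsg.Agent.S0825

open Matrix Cfsg.Agent.Forms.QuadStd Cfsg.Agent.Forms.Reflections Cfsg.Agent.Forms.SmallPerm

set_option maxRecDepth 100000
set_option maxHeartbeats 1000000

/-- index type -/
abbrev I : Type := Fin 3 ⊕ Fin 3

/-- the eight affine points -/
def pt : Fin 8 → I → ZMod 2 :=
  ![Sum.elim ![0, 0, 0] ![0, 0, 0],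
    Sum.elim ![0, 0, 1] ![0, 0, 1],
    Sum.elim ![0, 1, 0] ![0, 1, 1],
    Sum.elim ![0, 1, 1] ![1, 1, 0],
    Sum.elim ![1, 0, 0] ![1, 1, 1],
    Sum.elim ![1, 0, 1] ![1, 0, 0],
    Sum.elim ![1, 1, 0] ![1, 0, 1],
    Sum.elim ![1, 1, 1] ![0, 1, 0]]

theorem pt_class : ∀ v : I → ZMod 2, Cfsg.quadFormPlus 3 (ZMod 2) v ≠ 0 →
    ∃ i j, i ≠ j ∧ v = pt i + pt j := by decide

theorem pt_value : ∀ i j : Fin 8, i ≠ j →
    Cfsg.quadFormPlus 3 (ZMod 2) (pt i + pt j) = 1 := by decide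

theorem pt_refl : ∀ i j k : Fin 8, i ≠ j → pt k -
    QuadraticMap.polar (Cfsg.quadFormPlus 3 (ZMod 2)) (pt i + pt j) (pt k) • (pt i + pt j) =
      pt (Equiv.swap i j k) + pt (Equiv.swap i j 0) := by decide

theorem pt_single : ∀ z : I, ∃ a b c d : Fin 8,
    Pi.single z (1 : ZMod 2) = (pt a + pt b) + (pt c + pt d) := by decide

theorem pt_pair : ∀ i j k l : Fin 8, i ≠ j → pt i + pt j = pt k + pt l →
    (k = i ∧ l = j) ∨ (k = j ∧ l = i) := by decide

theorem equiv_s8 : Nonempty (↥(Cfsg.isometryGroup (ZMod 2) ⇑(Forms.PlusStd.plusQ (ZMod 2) 3)) ≃*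
    Equiv.Perm (Fin 8)) := by
  set Q := Forms.PlusStd.plusQ (ZMod 2) 3 with hQdef
  have hQ : ⇑Q = Cfsg.quadFormPlus 3 (ZMod 2) := funext (Forms.PlusStd.plusQ_apply _ _)
  let d : Fin 8 × Fin 8 → I → ZMod 2 := fun x => pt x.1 + pt x.2
  have hd : Submodule.span (ZMod 2) (Set.range d) = ⊤ := by
    rw [eq_top_iff]
    intro v _
    rw [pi_eq_sum_univ' v]
    refine Submodule.sum_mem _ fun z _ => Submodule.smul_mem _ _ ?_
    obtain ⟨a, b, c, e, h⟩ := pt_single z
    rw [h]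
    exact add_mem (Submodule.subset_span ⟨(a, b), rfl⟩) (Submodule.subset_span ⟨(c, e), rfl⟩)
  have hrefl : ∀ i j : Fin 8, i ≠ j → ∀ x : Fin 8 × Fin 8,
      act (reflect Q (pt i + pt j)) (d x) = d (Equiv.swap i j • x) := by
    intro i j hij x
    have h1 : ∀ k, act (reflect Q (pt i + pt j)) (pt k) =
        pt (Equiv.swap i j k) + pt (Equiv.swap i j 0) := fun k => by
      rw [act_reflect, hQ, pt_value i j hij, inv_one, one_mul, pt_refl i j k hij]
    show act _ (pt x.1 + pt x.2) = pt (Equiv.swap i j x.1) + pt (Equiv.swap i j x.2)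
    rw [map_add, h1, h1, add_add_add_comm]
    simp only [ZModModule.add_self, add_zero]
  obtain ⟨f, hf⟩ := exists_permHom (⊤ : Subgroup (Cfsg.isometryGroup (ZMod 2) ⇑Q)) d hd 1
    (fun i j hij => ⟨_, trivial, fun x => by
      rw [hrefl i j hij x, MonoidHom.one_apply, one_smul]⟩)
  have htop : refGroup Q = ⊤ := refGroup_eq_top (Forms.PlusStd.plusQ_nondeg _ _)
    (Or.inr (by simp))
  have hbij : Function.Bijective ((Subgroup.topEquiv.toMonoidHom).comp f) := by
    constructor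
    · rw [injective_iff_map_eq_one]
      intro σ hσ
      have hσ' : (f σ : Cfsg.isometryGroup (ZMod 2) ⇑Q) = 1 := hσ
      refine Equiv.ext fun i => ?_
      have h : ∀ j, i ≠ j → σ i = i ∨ σ i = j := by
        intro j hij
        have h1 := hf σ (i, j)
        rw [hσ', act_one, MonoidHom.one_apply, one_smul] at h1
        rcases pt_pair i j (σ i) (σ j) hij h1 with h2 | h2
        · exact Or.inl h2.1
        · exact Or.inr h2.1
      have hex : ∀ a : Fin 8, ∃ j k : Fin 8, a ≠ j ∧ a ≠ k ∧ j ≠ k := by decide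
      obtain ⟨j, k, hij, hik, hjk⟩ := hex i
      rcases h j hij with h1 | h1
      · exact h1
      · rcases h k hik with h2 | h2
        · exact h2
        · exact absurd (h1.symm.trans h2) hjk
    · rw [← MonoidHom.range_eq_top, eq_top_iff]
      refine le_trans htop.ge ((Subgroup.closure_le _).2 ?_)
      rintro _ ⟨v, hv, rfl⟩
      rw [hQ] at hv
      obtain ⟨i, j, hij, rfl⟩ := pt_class v hv
      refine ⟨Equiv.swap i j, iso_ext_span hd fun x => ?_⟩
      show act (f (Equiv.swap i j) : Cfsg.isometryGroup (ZMod 2) ⇑Q) (d x) = _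
      rw [hf, hrefl i j hij x, MonoidHom.one_apply, one_smul]
  exact ⟨(MulEquiv.ofBijective _ hbij).symm⟩


/-- O⁺_6(2) ≅ S_8: the isometry group of the hyperbolic form x_1y_1 + x_2y_2 + x_3y_3 over the field with 2 elements is isomorphic to the symmetric group on 8 letters. -/
theorem result {F : Type*} [Field F] [Fintype F] (hF : Fintype.card F = 2) : Nonempty (↥(Cfsg.isometryGroup F (Cfsg.quadFormPlus 3 F)) ≃* Equiv.Perm (Fin 8)) := by
  let e : F ≃+* ZMod 2 := (ZMod.ringEquivOfPrime F Nat.prime_two hF).symm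
  have h : ∀ v, e (Cfsg.quadFormPlus 3 F v) = Forms.PlusStd.plusQ (ZMod 2) 3 (e ∘ v) := fun v => by
    rw [Forms.PlusStd.plusQ_apply]; simp [Cfsg.quadFormPlus]
  obtain ⟨f⟩ := equiv_s8
  exact ⟨(isoCongr e h).trans f⟩

end Cfsg.Agent.S0825
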