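import Cfsg.Statements.S1682
import Cfsg.Agent.InvChar.Coset.HeSympIso
-- import your own Cfsg.Agent.* helpers here

set_option autoImplicit false
open Cfsg

namespace Cfsg.Agent.S1682

/-- In the presented Held group, the subgroup H generated by the images of a, c, d, e, f, (ab)^2 and (bcde)^7 has a normal subgroup of index 2 isomorphic to the 4-dimensional symplectic group over a field with four elements. -/
theorem result : ∃ (N : Subgroup (((Subgroup.closure ({Cfsg.Spor.He.a, Cfsg.Spor.He.c, Cfsg.Spor.He.d, Cfsg.Spor.He.e, Cfsg.Spor.He.f, (Cfsg.Spor.He.a * Cfsg.Spor.He.b) ^ 2, (Cfsg.Spor.He.b * Cfsg.Spor.He.c * Cfsg.Spor.He.d * Cfsg.Spor.He.e) ^ 7} : Set (FreeGroup Cfsg.Spor.He.Gen))).map (PresentedGroup.mk (Cfsg.Spor.coxRelators Cfsg.Spor.He.edges ∪ {r | r ∈ Cfsg.Spor.He.extra}))))) (K : Type) (_ : Field K) (_ : Fintype K), N.Normal ∧ N.index = 2 ∧ Fintype.card K = 4 ∧ Nonempty (N ≃* Matrix.symplecticGroup (Fin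 2) K) := by
  have hs : ({Cfsg.Spor.He.a, Cfsg.Spor.He.c, Cfsg.Spor.He.d, Cfsg.Spor.He.e, Cfsg.Spor.He.f, (Cfsg.Spor.He.a * Cfsg.Spor.He.b) ^ 2, (Cfsg.Spor.He.b * Cfsg.Spor.He.c * Cfsg.Spor.He.d * Cfsg.Spor.He.e) ^ 7} : Set (FreeGroup Cfsg.Spor.He.Gen)) = {r | r ∈ InvChar.Coset.He.subList} := by
    ext r; simp [InvChar.Coset.He.subList]
  have e := InvChar.Coset.He.data.map_closure _ _ hs InvChar.Coset.He.subList_map
  obtain ⟨N, hN, hidx, ⟨i⟩⟩ := InvChar.Coset.HeSymp.exists_index_two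
  let σ := (MulEquiv.subgroupCongr e.symm : InvChar.Coset.HeSymp.H0 ≃* _)
  refine ⟨N.map σ.toMonoidHom, InvChar.Coset.FF, inferInstance, inferInstance, hN.map _ σ.surjective, ?_,
    InvChar.Coset.FF.card, ⟨(N.equivMapOfInjective _ σ.injective).symm.trans i⟩⟩
  exact ((Subgroup.index_map_equiv N σ)).trans hidx

end Cfsg.Agent.S1682
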