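import Cfsg.Agent.CharactersDeep.Zassenhaus
import Cfsg.Agent.Lib.Characters.Frobenius
import Cfsg.Statements.S0339
-- import your own Cfsg.Agent.* helpers here

set_option autoImplicit false
set_option linter.all false
open Cfsg

namespace Cfsg.Agent.S0339

open MulAction
open scoped Pointwise commutatorElement

variable {M Ω : Type*} [Group M] [MulAction M Ω]

/-- A nontrivial normal subgroup of a faithful doubly transitive group is transitive. -/
theorem transitive_of_normal [FaithfulSMul M Ω] (h2 : IsMultiplyPretransitive M Ω 2) (K : Subgroup M) [K.Normal]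
    (hK : K ≠ ⊥) (x y : Ω) : ∃ k ∈ K, k • x = y := by
  rcases eq_or_ne x y with rfl | hxy
  · exact ⟨1, one_mem K, one_smul M x⟩
  obtain ⟨m, hm, hm1⟩ := K.bot_or_exists_ne_one.resolve_left hK
  obtain ⟨a, ha⟩ : ∃ a : Ω, m • a ≠ a := by
    by_contra! hall
    exact hm1 (eq_of_smul_eq_smul fun c : Ω => by rw [hall c, one_smul])
  obtain ⟨g, hg1, hg2⟩ := is_two_pretransitive_iff.mp h2 (Ne.symm ha) hxy
  refine ⟨g * m * g⁻¹, Subgroup.Normal.conj_mem inferInstance m hm g, ?_⟩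
  rw [← hg1, ← hg2, mul_smul, mul_smul, inv_smul_smul]

theorem card_of_regular [Finite M] (K : Subgroup M) (a : Ω) (htr : ∀ y, ∃ k ∈ K, k • a = y)
    (hst : ∀ k ∈ K, k • a = a → k = 1) : Nat.card K = Nat.card Ω :=
  Nat.card_eq_of_bijective (fun k : K => (k : M) • a) ⟨fun u v h => by
    have h' := hst _ (mul_mem (inv_mem v.2) u.2) (by
      rw [mul_smul, inv_smul_eq_iff]; exact h)
    exact Subtype.ext (inv_mul_eq_one.mp h').symm, fun y => by
    obtain ⟨k, hk, h⟩ := htr y; exact ⟨⟨k, hk⟩, h⟩⟩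

/-- A regular normal subgroup of a doubly transitive group is unique. -/
theorem regular_normal_unique [Finite M] [FaithfulSMul M Ω] (h2 : IsMultiplyPretransitive M Ω 2)
    (K L : Subgroup M) [K.Normal] [L.Normal] (hKt : ∀ x y : Ω, ∃ k ∈ K, k • x = y)
    (hLt : ∀ x y : Ω, ∃ k ∈ L, k • x = y) (hKs : ∀ k ∈ K, ∀ x : Ω, k • x = x → k = 1)
    (hLs : ∀ k ∈ L, ∀ x : Ω, k • x = x → k = 1) (hne : K ≠ ⊥) : K = L := by
  obtain ⟨a⟩ : Nonempty Ω := by
    by_contra h
    obtain ⟨m, hm, hm1⟩ := K.bot_or_exists_ne_one.resolve_left hne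
    exact hm1 (eq_of_smul_eq_smul fun c : Ω => absurd ⟨c⟩ h)
  by_cases hI : K ⊓ L = ⊥
  swap
  · haveI : (K ⊓ L).Normal := Subgroup.normal_inf_normal K L
    have hc : ∀ R : Subgroup M, K ⊓ L ≤ R → (∀ k ∈ R, ∀ x : Ω, k • x = x → k = 1) → R = K ⊓ L := by
      intro R hle hs
      refine le_antisymm (fun r hr => ?_) hle
      obtain ⟨k, hk, hka⟩ := transitive_of_normal h2 (K ⊓ L) hI a (r • a)
      have h := hs _ (mul_mem (inv_mem (hle hk)) hr) a (by rw [mul_smul, ← hka, inv_smul_smul])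
      rwa [inv_mul_eq_one.mp h] at hk
    exact (hc K inf_le_left hKs).trans (hc L inf_le_right hLs).symm
  exfalso
  have hcomm : ∀ k ∈ K, ∀ l ∈ L, k * l = l * k := fun k hk l hl =>
    (Subgroup.commute_of_normal_of_disjoint K L inferInstance inferInstance (disjoint_iff.mpr hI) k l hk hl).eq
  -- elements centralising `K` with a fixed point are trivial
  have hsemi : ∀ c : M, (∀ k ∈ K, k * c = c * k) → c • a = a → c = 1 := fun c hc ha =>
    eq_of_smul_eq_smul fun y : Ω => by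
      obtain ⟨k, hk, rfl⟩ := hKt a y
      rw [one_smul, ← mul_smul, ← hc k hk, mul_smul, ha]
  -- every element centralising `K` lies in `L`
  have hCL : ∀ c : M, (∀ k ∈ K, k * c = c * k) → c ∈ L := fun c hc => by
    obtain ⟨l, hl, hla⟩ := hLt a (c • a)
    have h := hsemi (l⁻¹ * c) (fun k hk => by
      have h' : k * l⁻¹ = l⁻¹ * k := hcomm k hk _ (inv_mem hl)
      rw [← mul_assoc, h', mul_assoc, hc k hk, mul_assoc]) (by rw [mul_smul, ← hla, inv_smul_smul])
    rwa [← inv_mul_eq_one.mp h]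
  -- point stabiliser is transitive on `K` minus the identity, so `K` is abelian
  have hconj : ∀ u ∈ K, ∀ v ∈ K, u ≠ 1 → v ≠ 1 → ∃ g : M, g * u * g⁻¹ = v := by
    intro u hu v hv hu1 hv1
    obtain ⟨g, hga, hgb⟩ := is_two_pretransitive_iff.mp h2 (Ne.symm fun h => hu1 (hKs u hu a h))
      (Ne.symm fun h => hv1 (hKs v hv a h) : a ≠ v • a)
    refine ⟨g, ?_⟩
    have h := hKs _ (mul_mem (inv_mem hv) (Subgroup.Normal.conj_mem inferInstance u hu g)) a (by
      rw [mul_smul, mul_smul, mul_smul, inv_smul_eq_iff.mpr hga.symm, hgb, inv_smul_smul])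
    exact (inv_mul_eq_one.mp h).symm
  have hK1 : Nontrivial K := (Subgroup.nontrivial_iff_ne_bot K).mpr hne
  obtain ⟨q, hq, hqd⟩ := Nat.exists_prime_and_dvd (Finite.one_lt_card (α := K)).ne'
  haveI := Fact.mk hq
  obtain ⟨w, hw⟩ := exists_prime_orderOf_dvd_card' (G := K) q hqd
  have hKp : IsPGroup q K := fun u => ⟨1, by
    rcases eq_or_ne u 1 with rfl | hu1
    · exact one_pow _
    · obtain ⟨g, hg⟩ := hconj w w.2 u u.2 (fun h => by
        rw [show w = 1 from Subtype.ext h, orderOf_one] at hw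
        exact hq.one_lt.ne hw) (fun h => hu1 (Subtype.ext h))
      refine Subtype.ext ?_
      show (u : M) ^ q ^ 1 = 1
      rw [pow_one, ← hg, conj_pow, ← hw, ← Subgroup.orderOf_coe, pow_orderOf_eq_one, mul_one, mul_inv_cancel]⟩
  have hZ := hKp.center_nontrivial
  obtain ⟨⟨z, hz⟩, hz1⟩ := exists_ne (1 : Subgroup.center K)
  have hab : ∀ u ∈ K, ∀ k ∈ K, k * u = u * k := by
    intro u hu k hk
    rcases eq_or_ne u 1 with rfl | hu1
    · rw [mul_one, one_mul]
    obtain ⟨g, hg⟩ := hconj z z.2 u hu (fun h => hz1 (Subtype.ext (Subtype.ext h))) hu1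
    have h' : g⁻¹ * k * g * z = z * (g⁻¹ * k * g) := congrArg Subtype.val
      (Subgroup.mem_center_iff.mp hz ⟨_, by simpa using Subgroup.Normal.conj_mem inferInstance k hk g⁻¹⟩)
    rw [← hg]
    calc k * (g * z * g⁻¹) = g * (g⁻¹ * k * g * z) * g⁻¹ := by group
      _ = g * (z * (g⁻¹ * k * g)) * g⁻¹ := by rw [h']
      _ = g * z * g⁻¹ * k := by group
  obtain ⟨u, hu, hu1⟩ := K.bot_or_exists_ne_one.resolve_left hne
  exact hu1 (Subgroup.mem_bot.mp (hI ▸ ⟨hu, hCL u (hab u hu)⟩))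


/-- A non-trivial normal subgroup of a Zassenhaus group is itself a Zassenhaus group on the same set. -/
theorem result {G Ω : Type*} [Group G] [MulAction G Ω] [Finite Ω]
    (hZ : Cfsg.IsZassenhausGroup G Ω) (N : Subgroup G) [N.Normal] (hN : N ≠ ⊥) :
    Cfsg.IsZassenhausGroup N Ω := by
  classical
  haveI := hZ.1
  haveI : Finite G := Finite.of_injective _ (MulAction.toPerm_injective (α := G) (β := Ω))
  haveI : Fintype Ω := Fintype.ofFinite Ω
  have h2G := hZ.2.1
  have htrans : ∀ x y : Ω, ∃ k ∈ N, k • x = y := transitive_of_normal h2G N hN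
  haveI hNt : MulAction.IsPretransitive N Ω := ⟨fun x y => by
    obtain ⟨k, hk, h⟩ := htrans x y; exact ⟨⟨k, hk⟩, h⟩⟩
  obtain ⟨a₀, ha₀⟩ := hZ.2.2.2.2 N inferInstance hNt
  -- some element of `N` fixes two points
  have htwo : ∃ x ∈ N, x ≠ 1 ∧ ∃ a b : Ω, a ≠ b ∧ x • a = a ∧ x • b = b := by
    by_contra hnone
    push Not at hnone
    set C := MulAction.stabilizer N a₀ with hC
    have hfc : Cfsg.IsFrobeniusComplement C := by
      refine ⟨ha₀, fun htop => ?_, fun g hg => ?_⟩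
      · obtain ⟨b, hb⟩ := CharactersDeep.Zassenhaus.exists_ne hZ a₀
        obtain ⟨k, hk, hkb⟩ := htrans a₀ b
        have h : (⟨k, hk⟩ : N) ∈ C := htop ▸ Subgroup.mem_top _
        exact hb (hkb.symm.trans h)
      · rw [Subgroup.eq_bot_iff_forall]
        rintro z ⟨hz1, hz2⟩
        replace hz2 : z ∈ MulAut.conj g • C := hz2
        rw [Subgroup.mem_pointwise_smul_iff_inv_smul_mem] at hz2
        by_contra hzne
        have hz3 : (z : G) • ((g : G) • a₀) = (g : G) • a₀ := by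
          have h' : ((g : G)⁻¹ * z * g) • a₀ = a₀ := by
            simpa [MulAut.smul_def, hC, MulAction.mem_stabilizer_iff, Subgroup.smul_def] using hz2
          rwa [mul_smul, mul_smul, inv_smul_eq_iff] at h'
        exact hnone z z.2 (fun h => hzne (Subtype.ext h)) _ _ (fun h => hg h.symm) hz1 hz3
    obtain ⟨K, hKset, hKn, hcompl⟩ := Cfsg.Agent.Characters.frobenius_kernel_theorem hfc
    have hmem : ∀ k : N, k ∈ K ↔ k = 1 ∨ ∀ y : Ω, (k : G) • y ≠ y := by
      intro k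
      rw [← SetLike.mem_coe, hKset]
      refine or_congr Iff.rfl ⟨fun h y hy => ?_, fun h g hg => ?_⟩
      · obtain ⟨g, hg, hgy⟩ := htrans a₀ y
        refine h ⟨g, hg⟩ ?_
        rw [Subgroup.mem_pointwise_smul_iff_inv_smul_mem]
        rw [← map_inv, MulAut.smul_def, MulAut.conj_apply, hC, MulAction.mem_stabilizer_iff, Subgroup.smul_def]
        simp only [Subgroup.coe_mul, Subgroup.coe_inv, inv_inv, mul_smul, hgy, hy]
        rw [inv_smul_eq_iff, hgy]
      · rw [Subgroup.mem_pointwise_smul_iff_inv_smul_mem] at hg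
        have h' : ((g : G)⁻¹ * k * g) • a₀ = a₀ := by
          simpa [MulAut.smul_def, hC, MulAction.mem_stabilizer_iff, Subgroup.smul_def] using hg
        rw [mul_smul, mul_smul, inv_smul_eq_iff] at h'
        exact h _ h'
    haveI hKG : (K.map N.subtype).Normal := ⟨by
      rintro _ ⟨k, hk, rfl⟩ g
      refine ⟨⟨g * k * g⁻¹, Subgroup.Normal.conj_mem inferInstance _ k.2 g⟩, ?_, rfl⟩
      rw [SetLike.mem_coe, hmem] at hk ⊢
      rcases hk with rfl | hk
      · exact Or.inl (Subtype.ext (by simp))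
      · refine Or.inr fun y hy => hk (g⁻¹ • y) ?_
        have h' : (g * (k : G) * g⁻¹) • y = y := hy
        rwa [mul_smul, mul_smul, ← eq_inv_smul_iff] at h'⟩
    have hKne : K.map N.subtype ≠ ⊥ := by
      rw [Ne, Subgroup.map_eq_bot_iff_of_injective _ N.subtype_injective]
      intro h
      rw [h, Subgroup.isComplement'_bot_left] at hcompl
      exact hfc.2.1 hcompl
    obtain ⟨a, ha⟩ := hZ.2.2.2.2 (K.map N.subtype) hKG ⟨fun x y => by
      obtain ⟨k, hk, h⟩ := transitive_of_normal h2G _ hKne x y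
      exact ⟨⟨k, hk⟩, h⟩⟩
    obtain ⟨k, hk, hk1⟩ := (Subgroup.bot_or_exists_ne_one _).resolve_left ha
    obtain ⟨k', hk', he⟩ := k.2
    rcases (hmem k').mp hk' with rfl | hfp
    · exact hk1 (Subtype.ext he.symm)
    · exact hfp a (by rw [show (k' : G) = k from he]; exact hk)
  obtain ⟨x, hxN, hx1, a, b, hab, hxa, hxb⟩ := htwo
  -- the kernel of the stabiliser lies in `N`
  set S := MulAction.stabilizer G a
  set H := (MulAction.stabilizer G b).subgroupOf S
  have hHmem : ∀ s : S, s ∈ H ↔ (s : G) • b = b := fun s => Iff.rfl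
  have hfc : Cfsg.IsFrobeniusComplement H := by
    refine ⟨?_, fun htop => ?_, fun g hg => ?_⟩
    · intro h
      have hm : (⟨x, hxa⟩ : S) ∈ H := hxb
      rw [h, Subgroup.mem_bot] at hm
      exact hx1 (congrArg Subtype.val hm)
    · obtain ⟨c, hca, hcb⟩ : ∃ c : Ω, c ≠ a ∧ c ≠ b := by
        have h3 := CharactersDeep.Zassenhaus.three_le_card hZ
        by_contra! hall
        have hsub : (Finset.univ : Finset Ω) ⊆ {a, b} := fun z _ => by
          by_cases hza : z = a
          · simp [hza]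
          · simp [hall z hza]
        have := (Finset.card_le_card hsub).trans Finset.card_le_two
        rw [Finset.card_univ] at this
        omega
      obtain ⟨g, hga, hgb⟩ := CharactersDeep.Zassenhaus.two_trans hZ hab hca.symm
      have h : (⟨g, hga⟩ : S) ∈ H := htop ▸ Subgroup.mem_top _
      exact hcb (hgb.symm.trans h)
    · rw [Subgroup.eq_bot_iff_forall]
      rintro z ⟨hz1, hz2⟩
      replace hz2 : z ∈ MulAut.conj g • H := hz2
      rw [Subgroup.mem_pointwise_smul_iff_inv_smul_mem, hHmem] at hz2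
      have hz3 : (z : G) • ((g : G) • b) = (g : G) • b := by
        have h' : ((g : G)⁻¹ * z * g) • b = b := by
          simpa [MulAut.smul_def] using hz2
        rwa [mul_smul, mul_smul, inv_smul_eq_iff] at h'
      apply Subtype.ext
      refine CharactersDeep.Zassenhaus.eq_one_of_fix_three hZ hab (c := (g : G) • b) (fun h => hg h.symm) ?_ z.2 hz1 hz3
      intro h
      exact hab (MulAction.injective (g : G) (g.2.trans h))
  obtain ⟨F, -, hFn, hFc⟩ := Cfsg.Agent.Characters.frobenius_kernel_theorem hfc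
  haveI := hFn
  let f : F → F := fun y => ⟨⟨x, hxa⟩ * (y : S) * ⟨x, hxa⟩⁻¹ * (y : S)⁻¹,
    mul_mem (Subgroup.Normal.conj_mem inferInstance (y : S) y.2 _) (inv_mem y.2)⟩
  have hf : Function.Injective f := by
    intro u v h
    have h1 : (⟨x, hxa⟩ : S) * (u : S) * (⟨x, hxa⟩ : S)⁻¹ * (u : S)⁻¹ = ⟨x, hxa⟩ * (v : S) * (⟨x, hxa⟩ : S)⁻¹ * (v : S)⁻¹ :=
      congrArg Subtype.val h
    have h1' : x * (u : S) * x⁻¹ * ((u : S) : G)⁻¹ = x * (v : S) * x⁻¹ * ((v : S) : G)⁻¹ :=
      congrArg Subtype.val h1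
    set w : S := (v : S)⁻¹ * (u : S) with hw
    have hcom : x * (w : G) = w * x := by
      rw [hw, Subgroup.coe_mul, Subgroup.coe_inv]
      calc x * (((v : S) : G)⁻¹ * (u : S)) = x * ((v : S) : G)⁻¹ * x⁻¹ * (x * (u : S) * x⁻¹ * ((u : S) : G)⁻¹) * (u : S) * x := by group
        _ = x * ((v : S) : G)⁻¹ * x⁻¹ * (x * (v : S) * x⁻¹ * ((v : S) : G)⁻¹) * (u : S) * x := by rw [h1']
        _ = ((v : S) : G)⁻¹ * (u : S) * x := by group
    have hwb : (w : G) • b = b := by
      by_contra hne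
      exact hx1 (CharactersDeep.Zassenhaus.eq_one_of_fix_three hZ hab (Ne.symm hne)
        (fun e => hab (MulAction.injective (w : G) (w.2.trans e))) hxa hxb
        (by rw [← mul_smul, hcom, mul_smul, hxb]))
    have hwF : w ∈ F := mul_mem (inv_mem v.2) u.2
    have := Subgroup.disjoint_def.mp hFc.disjoint hwF ((hHmem w).mpr hwb)
    exact Subtype.ext (inv_mul_eq_one.mp this).symm
  have hFN : ∀ s ∈ F, (s : G) ∈ N := fun s hs => by
    obtain ⟨y, hy⟩ := Finite.surjective_of_injective hf ⟨s, hs⟩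
    have hy' : x * ((y : S) : G) * x⁻¹ * ((y : S) : G)⁻¹ = (s : G) :=
      congrArg (fun z : F => ((z : S) : G)) hy
    rw [← hy', mul_assoc, mul_assoc, ← mul_assoc ((y : S) : G)]
    exact mul_mem hxN (Subgroup.Normal.conj_mem inferInstance _ (inv_mem hxN) _)
  have hNa : ∀ c : Ω, c ≠ a → ∃ k ∈ N, k • a = a ∧ k • b = c := by
    intro c hc
    obtain ⟨g, hga, hgb⟩ := CharactersDeep.Zassenhaus.two_trans hZ hab hc.symm
    obtain ⟨⟨u, h⟩, he⟩ := hFc.2 ⟨g, hga⟩
    refine ⟨((u : S) : G), hFN _ u.2, (u : S).2, ?_⟩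
    rw [← hgb, ← show ((u : S) : G) * ((h : S) : G) = g from congrArg Subtype.val he, mul_smul,
      (hHmem _).mp h.2]
  have h2N : MulAction.IsMultiplyPretransitive N Ω 2 := by
    refine is_two_pretransitive_iff.mpr ?_
    intro p q r s hpq hrs
    have to_ab : ∀ p q : Ω, p ≠ q → ∃ k ∈ N, k • a = p ∧ k • b = q := by
      intro p q hpq
      obtain ⟨m, hm, hmp⟩ := htrans a p
      obtain ⟨k, hk, hka, hkb⟩ := hNa (m⁻¹ • q) (fun e => hpq (by
        rw [inv_smul_eq_iff] at e; rw [e, hmp]))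
      exact ⟨m * k, mul_mem hm hk, by rw [mul_smul, hka, hmp], by rw [mul_smul, hkb, smul_inv_smul]⟩
    obtain ⟨k, hk, hka, hkb⟩ := to_ab p q hpq
    obtain ⟨l, hl, hla, hlb⟩ := to_ab r s hrs
    refine ⟨⟨l * k⁻¹, mul_mem hl (inv_mem hk)⟩, ?_, ?_⟩
    · show (l * k⁻¹) • p = r
      rw [← hka, mul_smul, inv_smul_smul, hla]
    · show (l * k⁻¹) • q = s
      rw [← hkb, mul_smul, inv_smul_smul, hlb]
  haveI hfaith : FaithfulSMul N Ω := ⟨fun h => Subtype.ext (eq_of_smul_eq_smul fun c : Ω => h c)⟩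
  refine ⟨hfaith, h2N, fun g a b c hab hbc hac h1 h2 h3 => Subtype.ext
    (hZ.2.2.1 g a b c hab hbc hac h1 h2 h3), ⟨⟨x, hxN⟩, fun h => hx1 (congrArg Subtype.val h), a, b, hab, hxa, hxb⟩, ?_⟩
  intro K hK hKt
  haveI := hK
  haveI := hKt
  by_contra! hreg
  have hKs : ∀ k ∈ K, ∀ y : Ω, k • y = y → k = 1 := fun k hk y hy => by
    have h' : (⟨k, hk⟩ : K) ∈ MulAction.stabilizer K y := hy
    rw [hreg y, Subgroup.mem_bot] at h'
    exact congrArg Subtype.val h'
  have hKt' : ∀ u v : Ω, ∃ k ∈ K, k • u = v := fun u v => by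
    obtain ⟨k, hk⟩ := MulAction.exists_smul_eq (M := K) u v
    exact ⟨k, k.2, hk⟩
  have hKne : K ≠ ⊥ := fun h => by
    obtain ⟨k, hk, hkb⟩ := hKt' a b
    rw [h, Subgroup.mem_bot] at hk
    exact hab (by rw [← hkb, hk, one_smul])
  haveI : (K.map N.subtype).Normal := ⟨by
    rintro _ ⟨k, hk, rfl⟩ g
    let φ : N ≃* N := MulAut.conjNormal g
    haveI : (K.map φ.toMonoidHom).Normal := Subgroup.Normal.map hK _ φ.surjective
    have hφ : ∀ (n : N) (y : Ω), φ n • y = g • n • g⁻¹ • y := fun n y => by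
      show ((MulAut.conjNormal g n : N) : G) • y = _
      rw [MulAut.conjNormal_apply, mul_smul, mul_smul]; rfl
    have heq := regular_normal_unique h2N K (K.map φ.toMonoidHom) hKt' (fun u v => by
      obtain ⟨k', hk', he⟩ := hKt' (g⁻¹ • u) (g⁻¹ • v)
      refine ⟨φ k', Subgroup.mem_map_of_mem φ.toMonoidHom hk', ?_⟩
      rw [hφ, he, smul_inv_smul]) hKs (by
      rintro _ ⟨k', hk', rfl⟩ y hy
      have h : φ k' • y = y := hy
      rw [hφ, ← eq_inv_smul_iff] at h
      show φ k' = 1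
      rw [hKs k' hk' _ h, map_one]) hKne
    have hm : φ k ∈ K := by rw [heq]; exact Subgroup.mem_map_of_mem φ.toMonoidHom hk
    exact ⟨φ k, hm, MulAut.conjNormal_apply g k⟩⟩
  obtain ⟨c, hc⟩ := hZ.2.2.2.2 (K.map N.subtype) inferInstance ⟨fun u v => by
    obtain ⟨k, hk, h⟩ := hKt' u v
    exact ⟨⟨k, k, hk, rfl⟩, h⟩⟩
  obtain ⟨k, hk, hk1⟩ := (Subgroup.bot_or_exists_ne_one _).resolve_left hc
  obtain ⟨k', hk', he⟩ := k.2
  refine hk1 (Subtype.ext ?_)
  rw [← he, hKs k' hk' c (by show (k' : G) • c = c; rw [show (k' : G) = k from he]; exact hk)]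
  rfl

end Cfsg.Agent.S0339
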