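import Cfsg.Statements.S0344
import Cfsg.Agent.Lib.Perm.Zassenhaus.SharpEven
import Cfsg.Agent.Lib.CharTheory.Zassenhaus.Exists
import Cfsg.Agent.S0738

set_option autoImplicit false
open Cfsg

namespace Cfsg.Agent.S0344

/-- A finite simple Zassenhaus group with a two-point stabiliser of even order is isomorphic to `PSL₂(F)` for a finite
field `F` with more than three elements. -/
theorem result {G Ω : Type*} [Group G] [Finite G] [MulAction G Ω] [Finite Ω]
    (hZ : Cfsg.IsZassenhausGroup G Ω) [IsSimpleGroup G]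
    {a b : Ω} (hab : a ≠ b) (heven : Even (Nat.card ↥(MulAction.stabilizer G a ⊓ MulAction.stabilizer G b))) :
    ∃ (F : Type) (_ : Field F) (_ : Fintype F), 3 < Fintype.card F ∧ Nonempty (G ≃* Matrix.ProjectiveSpecialLinearGroup (Fin 2) F) := by
  classical
  haveI := Fintype.ofFinite Ω
  haveI := hZ.1
  obtain ⟨H, hc⟩ := CharTheory.Zassenhaus.exists_config hZ hab
  set D := MulAction.stabilizer G a ⊓ MulAction.stabilizer G b
  have hreg : ∀ y z : Ω, y ≠ a → z ≠ a → ∃! u : H, (u : G) • y = z := by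
    intro y z hy hz
    obtain ⟨u, hu, rfl⟩ := CharTheory.Zassenhaus.exists_mem_smul hc hy
    obtain ⟨v, hv, rfl⟩ := CharTheory.Zassenhaus.exists_mem_smul hc hz
    refine ⟨⟨v * u⁻¹, mul_mem hv (inv_mem hu)⟩, by simp [mul_smul], fun w hw => ?_⟩
    have h := CharTheory.Zassenhaus.eq_of_smul_eq_a hc (mul_mem w.2 hu) hv
      (by rw [mul_smul]; exact hw)
    exact Subtype.ext (eq_mul_inv_of_mul_eq h)
  have hn : (H.subgroupOf (MulAction.stabilizer G a)).Normal :=
    ⟨fun u hu g => CharTheory.Zassenhaus.conj_mem hc g.2 hu⟩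
  have hbound : Fintype.card Ω - 2 ≤ 2 * Nat.card D := S0741.result hZ hab heven
  have hcomm := (S0738.result hZ hab hbound H hc.le hn hreg).1
  have h := Perm.Zassenhaus.frame_of_zass hZ hab H hc.le hn hcomm hreg
  have hcF := h.card_F
  rw [Nat.card_eq_fintype_card] at hcF
  obtain ⟨k, hk⟩ : Nat.card D ∣ Nat.card H - 1 := h.card_dvd
  have h3 := Cfsg.Agent.CharactersDeep.Zassenhaus.three_le_card hZ
  have hD1 : 1 < Nat.card D := Perm.Zassenhaus.two_lt_stab hZ hab
  rcases k with _ | _ | _ | k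
  · simp at hk; omega
  · exact (Perm.Zassenhaus.no_simple_sharp_even hZ h
      (show Fintype.card Ω = Nat.card D + 2 by omega) heven).elim
  · obtain ⟨K, i1, i2, -, hK, hiso⟩ := Perm.Zassenhaus.psl_of_zass hZ h
      (show Fintype.card Ω = 2 * Nat.card D + 2 by omega)
    exact ⟨K, i1, i2, by omega, hiso⟩
  · exfalso
    have : Nat.card D * 3 ≤ Nat.card D * (k + 3) := Nat.mul_le_mul_left _ (by omega)
    rw [show k + 1 + 1 + 1 = k + 3 from rfl] at hk
    omega

end Cfsg.Agent.S0344
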