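import Cfsg.Statements.S0340
import Cfsg.Agent.Lib.Involutions.Suzuki.Recognition
import Cfsg.Agent.S0344
import Cfsg.Agent.Lib.CharTheory.Zassenhaus.FeitMain
import Cfsg.Agent.Lib.Perm.Zassenhaus.Main

set_option autoImplicit false
open Cfsg

namespace Cfsg.Agent.S0340

/-- Classification of Zassenhaus groups, simple case, order-level form: a finite simple Zassenhaus group is
isomorphic to `PSL₂(F)` for some finite field `F` or is simple of Suzuki order. -/
theorem result {G Ω : Type*} [Group G] [Finite G] [MulAction G Ω]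
    [Finite Ω] (hZ : Cfsg.IsZassenhausGroup G Ω) [IsSimpleGroup G] :
    (∃ (F : Type) (_ : Field F) (_ : Fintype F), Nonempty (G ≃* Matrix.ProjectiveSpecialLinearGroup (Fin 2) F)) ∨ Cfsg.IsSuzuki G := by
  classical
  haveI := Fintype.ofFinite Ω
  haveI := Fintype.ofFinite G
  obtain ⟨g, -, a, b, hab, -, -⟩ := hZ.2.2.2.1
  rcases Nat.even_or_odd (Nat.card ↥(MulAction.stabilizer G a ⊓ MulAction.stabilizer G b)) with he | ho
  · obtain ⟨F, i1, i2, -, hiso⟩ := S0344.result hZ hab he
    exact Or.inl ⟨F, i1, i2, hiso⟩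
  obtain ⟨H, hc⟩ := CharTheory.Zassenhaus.exists_config hZ hab
  rcases CharTheory.Zassenhaus.feit_all _ G Ω a b H rfl hc ho with hsmall | ⟨h2, hna, -⟩
  swap
  · exact Or.inr (Involutions.Suzuki.Zass.isSuzuki (Involutions.Suzuki.Zass.hyp_of_nonab hc h2 hna))
  refine Or.inl ?_
  have hn := Involutions.Suzuki.Zass.normal_kernel hc
  have hreg := Involutions.Suzuki.Zass.regular_kernel hc
  have hcard := hc.card
  obtain ⟨hcomm, p, f, hp, hexp, hpf⟩ := S0738.result hZ hab (by
    show Fintype.card Ω - 2 ≤ 2 * Nat.card ↥(CharTheory.Zassenhaus.two (G := G) a b)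
    omega) H hc.le hn hreg
  have h := Perm.Zassenhaus.frame_of_zass hZ hab H hc.le hn hcomm hreg
  have h3 := Cfsg.Agent.CharactersDeep.Zassenhaus.three_le_card hZ
  have hD1 : 1 < Nat.card ↥(MulAction.stabilizer G a ⊓ MulAction.stabilizer G b) :=
    Perm.Zassenhaus.two_lt_stab hZ hab
  set d := Nat.card ↥(MulAction.stabilizer G a ⊓ MulAction.stabilizer G b) with hddef
  have hs' : Nat.card H - 1 ≤ 2 * d := hsmall
  obtain ⟨k, hk⟩ : d ∣ Nat.card H - 1 := h.card_dvd
  rcases k with _ | _ | _ | k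
  · rw [mul_zero] at hk; omega
  · rw [zero_add, mul_one] at hk
    have hp2 : p = 2 := by
      have h1 : 2 ∣ p ^ f := by
        obtain ⟨j, hj⟩ := ho
        exact ⟨j + 1, by omega⟩
      exact ((Nat.prime_dvd_prime_iff_eq Nat.prime_two hp).1 (Nat.prime_two.dvd_of_dvd_pow h1)).symm
    subst hp2
    obtain ⟨s, hs, hsa, -⟩ := CharTheory.Zassenhaus.exists_swap hc
    have hs2 : s * s = 1 := CharTheory.Zassenhaus.inv_mul_self hs
    have hΩ : Nat.card Ω = d + 2 := by rw [Nat.card_eq_fintype_card]; omega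
    have hinv := h.inverted_char_two hsa hs2 (fun u hu => by rw [← sq]; exact hexp u hu) hΩ
    obtain ⟨K, i1, i2, hK, hpgl, -⟩ := h.iso_of_inverted hsa hs2 hinv (Or.inl hΩ)
    obtain ⟨e⟩ := hpgl hΩ
    have hchar : ringChar K = 2 := FiniteField.even_card_iff_char_two.2 (by
      obtain ⟨j, hj⟩ := ho; omega)
    let e' : Matrix.ProjectiveSpecialLinearGroup (Fin 2) K ≃* Matrix.ProjGenLinGroup (Fin 2) K :=
      MulEquiv.ofBijective Matrix.ProjectiveSpecialLinearGroup.toPGL
        ⟨Matrix.ProjectiveSpecialLinearGroup.toPGL_injective,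
          Matrix.ProjectiveSpecialLinearGroup.toPGL_surj_of_roots fun r => by
            obtain ⟨t, ht⟩ := FiniteField.isSquare_of_char_two hchar (r : K)
            have ht0 : t ≠ 0 := by rintro rfl; simp at ht
            exact ⟨Units.mk0 t ht0, Units.ext (by simp [ht, sq])⟩⟩
    exact ⟨K, i1, i2, ⟨e.trans e'.symm⟩⟩
  · obtain ⟨K, i1, i2, -, -, hiso⟩ := Perm.Zassenhaus.psl_of_zass hZ h
      (show Fintype.card Ω = 2 * d + 2 by omega)
    exact ⟨K, i1, i2, hiso⟩
  · exfalso
    have : d * 3 ≤ d * (k + 3) := Nat.mul_le_mul_left _ (by omega)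
    rw [show k + 1 + 1 + 1 = k + 3 from rfl] at hk
    omega

end Cfsg.Agent.S0340
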