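import Cfsg.Statements.S5238
import Cfsg.Agent.Lib.CharP.SmallCentralizer
import Cfsg.Agent.GStructB.MaxClass
import Cfsg.Agent.Lib.Fusion.EssentialShape
import Cfsg.Agent.Lib.Components.RegularPGroup

set_option autoImplicit false
open Cfsg

namespace Cfsg.Agent.S5238

open Subgroup
open Cfsg.Agent.CharP.SmallCentralizer
open Cfsg.Agent.PGroups.MaximalClass
open scoped commutatorElement

section PGroup

variable {X : Type*} [Group X] [Finite X] {p : ℕ} [hp : Fact p.Prime]

theorem small_mk (hX : IsPGroup p X) {x : X} (hx1 : x ≠ 1) (hxp : x ^ p = 1)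
    (hc : Nat.card (centralizer ({x} : Set X)) ≤ p ^ 2) : Small p x := by
  refine ⟨hX, hxp, hc, fun hmem => ?_⟩
  have hnc : commutator X ≠ ⊥ := fun e => hx1 (by rwa [e, mem_bot] at hmem)
  have hidx : p ^ 2 ∣ (commutator X).index := by
    have := (pow_dvd_index hX hnc 1 le_rfl).resolve_left (by rwa [lcs_one])
    rwa [lcs_one] at this
  set R := Set.range fun a : X => ⁅a, x⁆
  have h1 : Nat.card X ≤ R.ncard * p ^ 2 := by
    rw [← Nat.card_coe_set_eq]
    exact (card_classes (fun a => ⁅a, x⁆) R (fun a => ⟨a, rfl⟩) fun _ _ => conj_move).trans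
      (Nat.mul_le_mul_left _ hc)
  have h2 : Nat.card (commutator X) * p ^ 2 ≤ Nat.card X := by
    rw [← card_mul_index (commutator X)]
    exact Nat.mul_le_mul_left _ (Nat.le_of_dvd (Nat.pos_of_ne_zero index_ne_zero_of_finite) hidx)
  have h3 : R.ncard < (commutator X : Set X).ncard := by
    refine Set.ncard_lt_ncard ((Set.ssubset_iff_of_subset ?_).mpr ⟨x⁻¹, inv_mem hmem, ?_⟩) (Set.toFinite _)
    · rintro _ ⟨a, rfl⟩; exact commutator_mem_commutator (mem_top a) (mem_top x)
    · rintro ⟨a, ha⟩
      have h : a * x * a⁻¹ = 1 := by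
        calc a * x * a⁻¹ = ⁅a, x⁆ * x := by rw [commutatorElement_def]; group
          _ = x⁻¹ * x := by rw [show ⁅a, x⁆ = x⁻¹ from ha]
          _ = 1 := inv_mul_cancel x
      exact hx1 (conj_eq_one_iff.mp h)
  rw [← Nat.card_coe_set_eq (commutator X : Set X)] at h3
  have := Nat.mul_lt_mul_of_pos_right h3 (pow_pos hp.out.pos 2)
  exact absurd (h2.trans h1) (Nat.not_le.mpr this)

/-- A non-central element of a self-centralizing subgroup of order `p²` has its centralizer in it. -/
theorem centralizer_le_sq (hX : IsPGroup p X) {A : Subgroup X} (hA : Nat.card A = p ^ 2)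
    (hC : centralizer (A : Set X) ≤ A) {a : X} (ha : a ∈ A) (haZ : a ∉ center X) :
    centralizer ({a} : Set X) ≤ A := by
  haveI : Nontrivial X := ⟨⟨a, 1, fun e => haZ (e ▸ one_mem _)⟩⟩
  have hZA : center X ≤ A := (center_le_centralizer _).trans hC
  have hT : center X ⊔ zpowers a = A := by
    refine eq_of_le_of_card_ge (sup_le hZA (zpowers_le.mpr ha)) ?_
    obtain ⟨i, hi⟩ := IsPGroup.iff_card.mp (hX.to_subgroup (center X))
    obtain ⟨j, hj⟩ := IsPGroup.iff_card.mp (hX.to_subgroup (center X ⊔ zpowers a))
    have h1 : Nat.card (center X) < Nat.card (center X ⊔ zpowers a : Subgroup X) := lt_of_not_ge fun hge =>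
      haZ ((eq_of_le_of_card_ge le_sup_left hge).symm ▸ mem_sup_right (mem_zpowers a))
    have h2 : 1 < Nat.card (center X) := Finite.one_lt_card_iff_nontrivial.mpr hX.center_nontrivial
    rw [hi] at h1 h2
    rw [hj, Nat.pow_lt_pow_iff_right hp.out.one_lt] at h1
    rw [hj, hA]
    refine Nat.pow_le_pow_right hp.out.pos ?_
    rcases Nat.eq_zero_or_pos i with rfl | hi0
    · simp at h2
    · omega
  intro g hg
  refine hC fun b hb => ?_
  have hle : A ≤ centralizer ({g} : Set X) := by
    rw [← hT]
    refine sup_le (center_le_centralizer _) (zpowers_le.mpr ?_)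
    rw [mem_centralizer_singleton_iff] at hg ⊢
    exact hg.symm
  exact (mem_centralizer_singleton_iff.mp (hle hb))

theorem small_of_sq (hX : IsPGroup p X) {A : Subgroup X} (hA : Nat.card A = p ^ 2)
    (hexp : ∀ a ∈ A, a ^ p = 1) (hC : centralizer (A : Set X) ≤ A) : ∃ x : X, Small p x := by
  by_cases hAc : A ≤ center X
  · have hcard : Nat.card X ≤ p ^ 2 := by
      have : (⊤ : Subgroup X) ≤ A := fun g _ => hC fun a ha => (mem_center_iff.mp (hAc ha) g).symm
      simpa [hA] using card_le_of_le this
    obtain ⟨a, ha, ha1⟩ : ∃ a ∈ A, a ≠ 1 := by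
      by_contra h
      push Not at h
      have : Nat.card A = 1 := by rw [(eq_bot_iff_forall A).mpr h, card_bot]
      rw [hA] at this
      exact absurd this (Nat.one_lt_pow two_ne_zero hp.out.one_lt).ne'
    exact ⟨a, small_mk hX ha1 (hexp a ha) ((card_le_card_group _).trans hcard)⟩
  · obtain ⟨a, ha, haZ⟩ := SetLike.not_le_iff_exists.mp hAc
    exact ⟨a, small_mk hX (fun e => haZ (e ▸ one_mem _)) (hexp a ha)
      ((card_le_of_le (centralizer_le_sq hX hA hC ha haZ)).trans hA.le)⟩

theorem small_of_cube (hX : IsPGroup p X) {B : Subgroup X} (hB : Nat.card B = p ^ 3)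
    (hna : ¬ ∀ a b : B, a * b = b * a) (hexp : ∀ b ∈ B, b ^ p = 1) (hC : centralizer (B : Set X) ≤ B) :
    ∃ x : X, Small p x := by
  have hpp := hp.out
  haveI : Nontrivial X := by
    by_contra h
    rw [not_nontrivial_iff_subsingleton] at h
    exact hna fun a b => Subsingleton.elim _ _
  set Z := center X
  have hZB : Z ≤ B := (center_le_centralizer _).trans hC
  have hZc : Nat.card (center B) = p := GStructB.MaxClass.card_center hB hna
  have hZmap : Z.subgroupOf B ≤ center B := fun z hz => mem_center_iff.mpr fun b =>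
    Subtype.ext (mem_center_iff.mp (mem_subgroupOf.mp hz) b)
  have hZp : Nat.card Z = p := by
    have h1 := card_dvd_of_le hZmap
    rw [hZc, Nat.card_congr (subgroupOfEquivOfLe hZB).toEquiv] at h1
    exact ((Nat.dvd_prime hpp).mp h1).resolve_left (Finite.one_lt_card_iff_nontrivial.mpr hX.center_nontrivial).ne'
  set q := QuotientGroup.mk' Z with hq
  have hcomap : (B.map q).comap q = B := by
    rw [comap_map_eq, QuotientGroup.ker_mk', sup_eq_left.mpr hZB]
  have hcard : ∀ T : Subgroup X, Z ≤ T → Nat.card (T.map q) * p = Nat.card T := by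
    intro T hT
    have hc : (T.map q).comap q = T := by rw [comap_map_eq, QuotientGroup.ker_mk', sup_eq_left.mpr hT]
    have h1 := card_mul_index T
    rw [← hc, index_comap_of_surjective _ (QuotientGroup.mk'_surjective Z), ← card_mul_index Z, index_eq_card Z,
      ← card_mul_index (T.map q), hc, hZp] at h1
    exact (Nat.eq_of_mul_eq_mul_right (Nat.pos_of_ne_zero index_ne_zero_of_finite) (h1.trans (by ring))).symm
  have hBq : Nat.card (B.map q) = p ^ 2 := by
    have := hcard B hZB
    rw [hB, pow_succ] at this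
    exact Nat.eq_of_mul_eq_mul_right hpp.pos this
  have hBab : ∀ a ∈ B, ∀ b ∈ B, q a * q b = q b * q a := fun a ha b hb => congrArg Subtype.val
    (GStructB.MaxClass.comm_of_card (p := p) le_rfl hBq ⟨q a, a, ha, rfl⟩ ⟨q b, b, hb, rfl⟩)
  obtain ⟨u, v, huv⟩ : ∃ u v : B, u * v ≠ v * u := by push Not at hna; exact hna
  -- two non-commuting elements generate `B`
  have hgen : closure ({(u : X), (v : X)} : Set X) = B := by
    have hle : closure ({(u : X), (v : X)} : Set X) ≤ B :=
      (closure_le B).mpr (by rintro w (rfl | rfl) <;> simp)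
    obtain ⟨j, hj, hjc⟩ := (Nat.dvd_prime_pow hpp).mp (hB ▸ card_dvd_of_le hle)
    refine eq_of_le_of_card_ge hle ?_
    rw [hjc, hB]
    refine Nat.pow_le_pow_right hpp.pos ?_
    by_contra hj3
    exact huv (Subtype.ext (congrArg Subtype.val (GStructB.MaxClass.comm_of_card (p := p) (k := j) (by omega) hjc
      ⟨u, subset_closure (Set.mem_insert _ _)⟩ ⟨v, subset_closure (Set.mem_insert_of_mem _ rfl)⟩) :))
  -- the image of `B` is self-centralizing
  have hsc : centralizer (B.map q : Set (X ⧸ Z)) ≤ B.map q := by
    set H := (centralizer (B.map q : Set (X ⧸ Z))).comap q with hH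
    have hBH : B ≤ H := fun b hb => by
      rintro _ ⟨a, ha, rfl⟩
      exact hBab a ha b hb
    have hmem : ∀ g ∈ H, ∀ b ∈ B, ⁅g, b⁆ ∈ Z := fun g hg b hb => by
      rw [← QuotientGroup.eq_one_iff]
      show q ⁅g, b⁆ = 1
      rw [map_commutatorElement]
      exact commutatorElement_eq_one_iff_mul_comm.mpr (hg (q b) ⟨b, hb, rfl⟩).symm
    have hcardH : Nat.card H ≤ p ^ 3 := by
      rw [(Z.subgroupOf H).card_eq_card_quotient_mul_card_subgroup,
        Nat.card_congr (subgroupOfEquivOfLe (hZB.trans hBH)).toEquiv, hZp, pow_succ]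
      refine Nat.mul_le_mul_right _ ((Nat.card_le_card_of_injective (β := Z × Z) (fun w =>
        (⟨⁅(w.out : X), (u : X)⁆, hmem _ w.out.2 _ u.2⟩, ⟨⁅(w.out : X), (v : X)⁆, hmem _ w.out.2 _ v.2⟩))
        fun a b e => ?_).trans_eq (by rw [Nat.card_prod, hZp, pow_two]))
      simp only [Prod.mk.injEq, Subtype.mk.injEq] at e
      rw [← QuotientGroup.out_eq' a, ← QuotientGroup.out_eq' b, QuotientGroup.eq, mem_subgroupOf]
      have h1 := conj_move e.1.symm
      have h2 := conj_move e.2.symm
      have hcen : ((a.out : X))⁻¹ * (b.out : X) ∈ centralizer (B : Set X) := by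
        rw [← hgen, centralizer_closure]
        rintro w (rfl | rfl)
        · exact (mem_centralizer_singleton_iff.mp h1).symm
        · exact (mem_centralizer_singleton_iff.mp h2).symm
      have hB' := hC hcen
      have hz : (⟨_, hB'⟩ : B) ∈ center B := mem_center_iff.mpr fun c => Subtype.ext (hcen c c.2)
      have hZeq : Z.subgroupOf B = center B := eq_of_le_of_card_ge hZmap (by
        rw [hZc, Nat.card_congr (subgroupOfEquivOfLe hZB).toEquiv, hZp])
      rw [← hZeq] at hz
      exact mem_subgroupOf.mp hz
    have heq : B = H := eq_of_le_of_card_ge hBH (hcardH.trans hB.ge)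
    intro g hg
    obtain ⟨g, rfl⟩ := QuotientGroup.mk'_surjective Z g
    exact mem_map_of_mem q (heq ▸ hg : g ∈ B)
  by_cases hcen : B.map q ≤ center (X ⧸ Z)
  · -- `X = B`
    have htop : (⊤ : Subgroup X) ≤ B := by
      intro g _
      rw [← hcomap]
      exact hsc fun a ha => (mem_center_iff.mp (hcen ha) (q g)).symm
    refine ⟨u, small_mk hX (fun e => huv ?_) (hexp _ u.2) ?_⟩
    · rw [show u = 1 from Subtype.ext e, one_mul, mul_one]
    · have hne : centralizer ({(u : X)} : Set X) ≠ ⊤ := fun e => huv (Subtype.ext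
        (mem_centralizer_singleton_iff.mp (e ▸ mem_top (v : X))).symm)
      obtain ⟨i, hi⟩ := IsPGroup.iff_card.mp (hX.to_subgroup (centralizer ({(u : X)} : Set X)))
      have h1 : Nat.card (centralizer ({(u : X)} : Set X)) < p ^ 3 :=
        lt_of_lt_of_le (lt_of_not_ge fun hge => hne (eq_top_of_card_eq _ (le_antisymm (card_le_card_group _) hge)))
          (by simpa [hB] using card_le_of_le htop)
      rw [hi, Nat.pow_lt_pow_iff_right hpp.one_lt] at h1
      rw [hi]
      exact Nat.pow_le_pow_right hpp.pos (by omega)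
  · obtain ⟨_, ⟨x, hx, rfl⟩, hxZ⟩ := SetLike.not_le_iff_exists.mp hcen
    have hle := centralizer_le_sq (hX.to_quotient Z) hBq hsc ⟨x, hx, rfl⟩ hxZ
    have hCB : centralizer ({x} : Set X) ≤ B := by
      intro g hg
      rw [← hcomap]
      refine hle (mem_centralizer_singleton_iff.mpr ?_)
      rw [← map_mul, ← map_mul, mem_centralizer_singleton_iff.mp hg]
    refine ⟨x, small_mk hX (fun e => hxZ ?_) (hexp x hx) ?_⟩
    · rw [e, map_one]; exact one_mem _
    · obtain ⟨i, hi⟩ := IsPGroup.iff_card.mp (hX.to_subgroup (centralizer ({x} : Set X)))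
      have hne : centralizer ({x} : Set X) ≠ B := by
        intro e
        apply hxZ
        have hxc : (⟨x, hx⟩ : B) ∈ center B := mem_center_iff.mpr fun b =>
          Subtype.ext (mem_centralizer_singleton_iff.mp (e.ge b.2))
        have hZeq : Z.subgroupOf B = center B := eq_of_le_of_card_ge hZmap (by
          rw [hZc, Nat.card_congr (subgroupOfEquivOfLe hZB).toEquiv, hZp])
        rw [← hZeq, mem_subgroupOf] at hxc
        have h1 : q x = 1 := (QuotientGroup.eq_one_iff x).mpr hxc
        rw [h1]; exact one_mem _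
      have h1 : Nat.card (centralizer ({x} : Set X)) < p ^ 3 :=
        hB ▸ lt_of_not_ge fun hge => hne (eq_of_le_of_card_ge hCB hge)
      rw [hi, Nat.pow_lt_pow_iff_right hpp.one_lt] at h1
      rw [hi]
      exact Nat.pow_le_pow_right hpp.pos (by omega)

end PGroup

/-- Let p be an odd prime and F a saturated fusion system over a finite p-group S having a pearl: an F-essential subgroup E that is elementary abelian of order p² or nonabelian of order p³. Then S has maximal nilpotency class (if S has order pⁿ with n ≥ 3, the term of index n − 2 of its lower central series, counting S itself as the term of index 0, is nontrivial), and every subgroup of S can be generated by at most p elements (the sectional rank of S is at most p). -/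
theorem result {Ω : Type*} [Group Ω] {S : Subgroup Ω} [Finite S] (p : ℕ) [Fact p.Prime] (hS : IsPGroup p S) (F : Cfsg.FusionSystem S) (hF : F.IsSaturated p) (hp : p ≠ 2) (E : Subgroup Ω) (hE : F.IsEssential p E) (hpearl : (Nat.card E = p ^ 2 ∧ ∀ x ∈ E, x ^ p = 1 ∧ IsMulCommutative ↥E) ∨ (Nat.card E = p ^ 3 ∧ ¬ IsMulCommutative ↥E)) : (∀ n : ℕ, Nat.card S = p ^ n → 3 ≤ n → Subgroup.lowerCentralSeries S (n - 2) ≠ ⊥) ∧ ∀ H : Subgroup Ω, H ≤ S → ∃ T : Finset Ω, T.card ≤ p ∧ Subgroup.closure (T : Set Ω) = H := by
  classical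
  have hpp : p.Prime := Fact.out
  have hES : E ≤ S := hE.1.1
  haveI : Finite E := Fusion.Saturation.finite_of_le hES
  set E' : Subgroup ↥S := E.subgroupOf S with hE'
  have hcard : Nat.card E' = Nat.card E := Nat.card_congr (subgroupOfEquivOfLe hES).toEquiv
  have hC : centralizer (E' : Set ↥S) ≤ E' := by
    intro g hg
    refine mem_subgroupOf.mpr (hE.1.2 E (Fusion.Basic.isConj_refl hES) ?_)
    exact ⟨g.2, fun e he => congrArg Subtype.val (hg ⟨e, hES he⟩ (mem_subgroupOf.mpr he))⟩
  obtain ⟨hmax, x, hx⟩ : (∀ n, Nat.card ↥S = p ^ n → Group.nilpotencyClass ↥S = n - 1) ∧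
      ∃ x : ↥S, Small p x := by
    rcases hpearl with ⟨h2, hexp⟩ | ⟨h3, hna⟩
    · refine ⟨fun n hn => (GStructB.MaxClass.class_aux n).1 ↥S hn E' (hcard.trans h2)
        (le_antisymm hC ?_), small_of_sq hS (hcard.trans h2) (fun a ha => Subtype.ext
          (hexp a (mem_subgroupOf.mp ha)).1) hC⟩
      intro a ha b hb
      exact congrArg Subtype.val (GStructB.MaxClass.comm_of_card (p := p) le_rfl (hcard.trans h2)
        ⟨b, hb⟩ ⟨a, ha⟩)
    · have hnaE : ¬ ∀ a b : E, a * b = b * a := fun h => hna ⟨⟨h⟩⟩
      have hEp : IsPGroup p E := hS.to_le hES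
      -- the exponent of `E` is `p`
      have hexpE : ∀ a : E, a ^ p = 1 := by
        have hZ : Nat.card (center E) = p := GStructB.MaxClass.card_center h3 hnaE
        have hQ : Nat.card (E ⧸ center E) = p ^ 2 := by
          have h1 := (center E).card_eq_card_quotient_mul_card_subgroup
          rw [h3, hZ, pow_succ] at h1
          exact (Nat.eq_of_mul_eq_mul_right hpp.pos h1).symm
        have hpow : ∀ a : E, a ^ p ∈ center E := by
          intro a
          have := pow_eq_one_of_not_cyclic (p := p) hQ (fun hcyc => hnaE fun a b =>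
            (MonoidHom.isMulCommutative_of_isCyclic_of_ker_le_center (QuotientGroup.mk' (center E))
              (by simp)).is_comm.comm a b) (QuotientGroup.mk' (center E) a)
          rw [← map_pow] at this
          exact (QuotientGroup.eq_one_iff _).mp this
        have hW : Components.RegularPGroup.Weak p E := by
          refine Components.RegularPGroup.weak_of_class hEp (le_bot_iff.mp ?_)
          haveI := hEp.isNilpotent
          have h1 : (⊤ : Subgroup E).lowerCentralSeries 2 = ⊥ := lcs_eq_bot (p := p) (m := 3) (by omega) h3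
          refine (Subgroup.lowerCentralSeries_antitone _ ?_).trans h1.le
          have := hpp.two_le; omega
        set T := Components.RegularPGroup.omegaSub hW 1
        have hT : ∀ {a : E}, a ∈ T ↔ a ^ p = 1 := by
          intro a; show a ^ p ^ 1 = 1 ↔ _; rw [pow_one]
        by_contra hne
        push Not at hne
        obtain ⟨a₀, ha₀⟩ := hne
        have hTne : T ≠ ⊤ := fun e => ha₀ (hT.mp (e ▸ mem_top a₀))
        have hTc : Nat.card T ≤ p ^ 2 := by
          obtain ⟨i, hi⟩ := IsPGroup.iff_card.mp (hEp.to_subgroup T)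
          have h1 : Nat.card T < Nat.card E := lt_of_not_ge fun hge =>
            hTne (eq_top_of_card_eq _ (le_antisymm (card_le_card_group _) hge))
          rw [h3, hi, Nat.pow_lt_pow_iff_right hpp.one_lt] at h1
          rw [hi]
          exact Nat.pow_le_pow_right hpp.pos (by omega)
        have hZT : center E ≤ T := fun z hz => hT.mpr (by
          have := pow_card_eq_one' (G := center E) (x := ⟨z, hz⟩)
          rw [hZ] at this
          exact congrArg Subtype.val this)
        have hTidx : T.index ≤ p := by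
          rw [index_eq_card, ← hZ]
          refine Nat.card_le_card_of_injective (fun w => (⟨w.out ^ p, hpow _⟩ : center E)) fun a b e => ?_
          rw [← QuotientGroup.out_eq' a, ← QuotientGroup.out_eq' b, QuotientGroup.eq, hT]
          have h1 : (a.out⁻¹) ^ p = (b.out⁻¹) ^ p := by
            rw [inv_pow, inv_pow]; exact congrArg (·⁻¹) (congrArg Subtype.val e)
          have h2 := (Components.RegularPGroup.pow_eq_iff 1 E hW a.out⁻¹ b.out⁻¹).mp (by rwa [pow_one])
          rwa [pow_one, inv_inv] at h2
        let C : ℕ → Subgroup E := fun i => if i = 0 then ⊥ else if i = 1 then center E else if i = 2 then T else ⊤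
        refine Fusion.EssentialShape.no_series hE hS C 3 (by simp [C]) (by simp [C]) ?_ ?_ ?_
        · intro i hi
          interval_cases i <;> simp [C, hZT]
        · intro i hi a y hy
          interval_cases i
          · simp only [C, if_pos rfl, mem_bot] at hy ⊢
            rw [hy, map_one]
          · simp only [C, one_ne_zero, if_false, if_true] at hy ⊢
            rw [mem_center_iff] at hy ⊢
            intro b
            have := congrArg a (hy (a.symm b))
            simpa using this
          · simp only [C, show (2 : ℕ) ≠ 0 by omega, show (2 : ℕ) ≠ 1 by omega, if_false, if_true] at hy ⊢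
            rw [hT] at hy ⊢
            rw [← map_pow, hy, map_one]
          · simp [C]
        · intro i hi
          interval_cases i
          · simp [C, relIndex_bot_left, hZ]
          · simp only [C, one_ne_zero, if_false, if_true, show (1 + 1 : ℕ) ≠ 0 by omega,
              show (1 + 1 : ℕ) ≠ 1 by omega]
            refine Nat.le_of_mul_le_mul_left ?_ hpp.pos
            calc p * (center E).relIndex T = Nat.card (center E) * (center E).relIndex T := by rw [hZ]
              _ = Nat.card T := by
                rw [← Nat.card_congr (subgroupOfEquivOfLe hZT).toEquiv]; exact card_mul_index _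
              _ ≤ p * p := by rw [← pow_two]; exact hTc
          · simpa [C] using hTidx
      refine ⟨fun n hn => (GStructB.MaxClass.class_aux n).2 ↥S hn E' (hcard.trans h3)
        (fun h => hnaE fun a b => Subtype.ext (congrArg Subtype.val (h ⟨a, hES a.2⟩ (mem_subgroupOf.mpr a.2)
          ⟨b, hES b.2⟩ (mem_subgroupOf.mpr b.2)) :)) hC,
        small_of_cube hS (hcard.trans h3) (fun h => hnaE fun a b => Subtype.ext (congrArg (fun w : E' => ((w : ↥S) : Ω))
          (h ⟨⟨a, hES a.2⟩, mem_subgroupOf.mpr a.2⟩ ⟨⟨b, hES b.2⟩, mem_subgroupOf.mpr b.2⟩) :))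
          (fun b hb => Subtype.ext (congrArg Subtype.val (hexpE ⟨b, mem_subgroupOf.mp hb⟩) :)) hC⟩
  refine ⟨fun n hn h3 hbot => ?_, fun H hH => ?_⟩
  · haveI := hS.isNilpotent
    have h1 : (⊤ : Subgroup ↥S).lowerCentralSeries (n - 2) = ⊥ := by
      refine map_injective S.subtype_injective ?_
      rw [Subgroup.top_subtype_lowerCentralSeries, hbot, Subgroup.map_bot]
    have h2 := Subgroup.lowerCentralSeries_eq_bot_iff_nilpotencyClass_le.mp h1
    rw [hmax n hn] at h2
    omega
  · obtain ⟨T, hT, hTH⟩ := hx.rank_le (H.subgroupOf S)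
    refine ⟨T.image S.subtype, Finset.card_image_le.trans hT, ?_⟩
    rw [Finset.coe_image, ← MonoidHom.map_closure, hTH, subgroupOf_map_subtype, inf_eq_left.mpr hH]

end Cfsg.Agent.S5238
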