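import Cfsg.Statements.S0073
import Cfsg.Agent.Lib.Transfer.SmallSylow

set_option autoImplicit false
open Cfsg

namespace Cfsg.Agent.S0073

/-- For a finite non-abelian simple group, either the cube of the least prime divisor of the order divides the order, or 12 does. -/
theorem result {G : Type*} [Group G] [Finite G] [IsSimpleGroup G] (hG : ∃ x y : G, x * y ≠ y * x) : (Nat.card G).minFac ^ 3 ∣ Nat.card G ∨ 12 ∣ Nat.card G := by
  open Cfsg.Agent.Transfer.SmallSylow Cfsg.Agent.Transfer.NormalPComplement in
  by_contra hcon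
  obtain ⟨h1, h12⟩ := not_or.mp hcon
  have hne1 : Nat.card G ≠ 1 := by
    intro h
    obtain ⟨x, y, hxy⟩ := hG
    have := (Nat.card_eq_one_iff_unique.mp h).1
    exact hxy (Subsingleton.elim _ _)
  set p := (Nat.card G).minFac with hpdef
  have := Fact.mk (Nat.minFac_prime hne1)
  have hp : p.Prime := Fact.out
  have hpd : p ∣ Nat.card G := Nat.minFac_dvd _
  obtain ⟨P⟩ := (inferInstance : Nonempty (Sylow p G))
  obtain ⟨a, ha⟩ := P.2.exists_card_eq
  have ha2 : a ≤ 2 := by
    by_contra hlt
    exact h1 ((pow_dvd_pow p (show 3 ≤ a by omega)).trans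
      (ha ▸ Subgroup.card_subgroup_dvd_card (P : Subgroup G)))
  have : IsMulCommutative ↥(P : Subgroup G) := isMulCommutative_of_card_le_sq ha2 ha
  refine not_hasNormalPComplement_of_isSimpleGroup hG hpd
    (hasNormalPComplement_of_normalizer_le_centralizer P
      (normalizer_le_centralizer_of_forall P fun g hg ho => ?_))
  refine mem_centralizer_of_primes ha hg fun r hr hrd d hd hdiv => ?_
  have hrG : r ∣ Nat.card G := hrd.trans (orderOf_dvd_natCard g)
  have hrne : r ≠ p := fun h => Nat.not_coprime_of_dvd_of_dvd hp.one_lt (h ▸ hrd) dvd_rfl ho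
  have hlt : p < r := lt_of_le_of_ne (Nat.minFac_le_of_dvd hr.two_le hrG) (Ne.symm hrne)
  have hsub : p ^ a - p ^ d = p ^ d * (p ^ (a - d) - 1) := by
    rw [Nat.mul_sub, mul_one, ← pow_add, Nat.add_sub_cancel' hd.le]
  rw [hsub] at hdiv
  rcases hr.dvd_mul.mp hdiv with h | h
  · exact hrne ((Nat.prime_dvd_prime_iff_eq hr hp).mp (hr.dvd_of_dvd_pow h))
  have hsmall : ∀ n, 0 < n → n < r → ¬ r ∣ n := fun n h0 hn hh => (Nat.le_of_dvd h0 hh).not_gt hn
  obtain hd' | hd' : a - d = 1 ∨ a - d = 2 := by omega
  · rw [hd', pow_one] at h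
    exact hsmall _ (by have := hp.two_le; omega) (by omega) h
  · rw [hd', show p ^ 2 - 1 = (p + 1) * (p - 1) by
      have := Nat.sq_sub_sq p 1; simpa using this] at h
    rcases hr.dvd_mul.mp h with h | h
    · have hr1 : r = p + 1 := le_antisymm (Nat.le_of_dvd (by omega) h) hlt
      have hp2 : p = 2 := by
        rcases hp.eq_two_or_odd' with h2 | h2
        · exact h2
        · exfalso
          have : Even r := by rw [hr1]; exact h2.add_one
          have := (hr.even_iff).mp this
          have := hp.two_le
          omega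
      refine h12 ?_
      have h4 : 4 ∣ Nat.card G := by
        have hh := Subgroup.card_subgroup_dvd_card (P : Subgroup G)
        rw [ha, hp2, show a = 2 by omega] at hh
        simpa using hh
      have h3' : 3 ∣ Nat.card G := by
        rw [hr1, hp2] at hrG
        exact hrG
      exact Nat.Coprime.mul_dvd_of_dvd_of_dvd (by norm_num) h3' h4
    · exact hsmall _ (by have := hp.two_le; omega) (by omega) h

end Cfsg.Agent.S0073
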