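import Cfsg.Statements.S0089
import Cfsg.Agent.Lib.Transfer.CenterInf

set_option autoImplicit false
open Cfsg

namespace Cfsg.Agent.S0089

/-- When all Sylow subgroups are abelian, the derived subgroup meets the centre trivially. -/
theorem result {G : Type*} [Group G] [Finite G] (h : ∀ p : ℕ, p.Prime → ∀ P : Sylow p G, IsMulCommutative P) : commutator G ⊓ Subgroup.center G = ⊥ := by
  rw [eq_bot_iff]
  intro x hx
  rw [Subgroup.mem_bot]
  by_contra hne
  have ho : orderOf x ≠ 1 := fun hh => hne (orderOf_eq_one_iff.mp hh)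
  obtain ⟨p, hp, hdvd⟩ := Nat.exists_prime_and_dvd ho
  have := Fact.mk hp
  have hm : orderOf x / p ∣ orderOf x := Nat.div_dvd_of_dvd hdvd
  have hm0 : orderOf x / p ≠ 0 :=
    (Nat.div_pos (Nat.le_of_dvd (orderOf_pos x) hdvd) hp.pos).ne'
  have hy : orderOf (x ^ (orderOf x / p)) = p := by
    rw [orderOf_pow_of_dvd hm0 hm, Nat.div_div_self hdvd (orderOf_pos x).ne']
  obtain ⟨P, hP⟩ := (IsPGroup.of_card (G := Subgroup.zpowers (x ^ (orderOf x / p))) (n := 1)
    (by rw [Nat.card_zpowers, hy, pow_one])).exists_le_sylow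
  have := h p hp P
  have hb := Cfsg.Agent.Transfer.CenterInf.inf_commutator_inf_center (P : Subgroup G)
    P.card_coprime_index
  have hmem : x ^ (orderOf x / p) ∈ (P : Subgroup G) ⊓ commutator G ⊓ Subgroup.center G :=
    ⟨⟨hP (Subgroup.mem_zpowers _), pow_mem hx.1 _⟩, pow_mem hx.2 _⟩
  rw [hb, Subgroup.mem_bot] at hmem
  rw [hmem, orderOf_one] at hy
  exact hp.ne_one hy.symm

end Cfsg.Agent.S0089
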