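import Cfsg.Statements.S0105
import Cfsg.Agent.Lib.Transfer.AbelianHallNormal
import Cfsg.Agent.Lib.Transfer.Fusion

set_option autoImplicit false
open Cfsg

namespace Cfsg.Agent.S0105

/-- With an abelian Sylow p-subgroup P, some quotient of G is isomorphic to the part of P central in N_G(P). -/
theorem result {G : Type*} [Group G] [Finite G] {p : ℕ} [Fact p.Prime] (P : Sylow p G) (hP : IsMulCommutative P) : ∃ (N : Subgroup G) (hN : N.Normal), Nonempty (G ⧸ N ≃* ((P : Subgroup G) ⊓ Subgroup.centralizer (Subgroup.normalizer (P : Set G) : Set G) : Subgroup G)) := by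
  open Subgroup Cfsg.Agent.Transfer.AbelianHallNormal Cfsg.Agent.Transfer.Fusion in
  set N := normalizer (P : Set G) with hN
  set P₀ : Subgroup N := (P : Subgroup G).subgroupOf N with hP₀def
  have hn₀ : P₀.Normal := normal_in_normalizer
  have : IsMulCommutative P₀ := ⟨⟨fun a b => by
    apply Subtype.ext
    apply Subtype.ext
    simpa using congrArg Subtype.val (hP.is_comm.comm ⟨((a : N) : G), a.2⟩ ⟨((b : N) : G), b.2⟩)⟩⟩
  have hHall : (Nat.card P₀).Coprime P₀.index := by
    have hle : (P : Subgroup G) ≤ N := le_normalizer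
    rw [hP₀def, Nat.card_congr (subgroupOfEquivOfLe hle).toEquiv]
    exact P.card_coprime_index.coprime_dvd_right (relIndex_dvd_index_of_le le_normalizer)
  have hsup := inf_center_sup_commutator P₀ hHall
  have hdis := inf_center_inf_commutator P₀ hHall
  set Z := (P : Subgroup G) ⊓ centralizer (N : Set G) with hZ
  have hF : commutator G ⊓ (P : Subgroup G) ≤ ⁅N, N⁆ := by
    refine focal_le_of_fusion P fun x hx g hg => ?_
    have hPC : (P : Subgroup G) ≤ centralizer ((P : Subgroup G) : Set G) :=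
      (P : Subgroup G).le_centralizer
    obtain ⟨n, hn, he⟩ := IsWeaklyClosed.exists_normalizer_conj
      (isWeaklyClosed_center P) (hPC hx) (hPC hg)
    exact ⟨n, he, commutator_mem_commutator (le_normalizer hx) hn⟩
  obtain ⟨K, hK, hK1, hK2⟩ := exists_normal_inf_eq_focal P
  refine ⟨K, hK, ⟨(MulEquiv.ofBijective ((QuotientGroup.mk' K).comp Z.subtype) ⟨?_, ?_⟩).symm⟩⟩
  · rw [injective_iff_map_eq_one]
    rintro ⟨x, hxP, hxC⟩ hx
    have hxK : x ∈ K ⊓ (P : Subgroup G) := ⟨(QuotientGroup.eq_one_iff x).mp hx, hxP⟩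
    rw [hK1] at hxK
    have hxN : x ∈ N := le_normalizer hxP
    have h2 : (⟨x, hxN⟩ : N) ∈ (commutator N ⊓ P₀) ⊓ (center N ⊓ P₀) := by
      refine ⟨⟨?_, hxP⟩, ?_, hxP⟩
      · have hx' := hF hxK
        rw [← map_subtype_commutator] at hx'
        obtain ⟨y, hy, hyx⟩ := hx'
        exact (Subtype.ext hyx : y = ⟨x, hxN⟩) ▸ hy
      · exact mem_center_iff.mpr fun y => Subtype.ext (hxC y y.2)
    rw [hdis] at h2
    have h3 := mem_bot.mp h2
    exact Subtype.ext (congrArg (fun t : N => (t : G)) h3)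
  · intro q
    obtain ⟨g, rfl⟩ := QuotientGroup.mk'_surjective K q
    have hg : g ∈ K ⊔ (P : Subgroup G) := hK2 ▸ mem_top g
    obtain ⟨k, hk, x, hx, rfl⟩ := mem_sup_of_normal_left.mp hg
    have hx₀ : (⟨x, le_normalizer hx⟩ : N) ∈ (commutator N ⊓ P₀) ⊔ (center N ⊓ P₀) :=
      hsup.symm ▸ hx
    obtain ⟨c, hc, z, hz, hcz⟩ := mem_sup_of_normal_left.mp hx₀
    refine ⟨⟨z, hz.2, fun y hy => congrArg Subtype.val (mem_center_iff.mp hz.1 ⟨y, hy⟩)⟩, ?_⟩
    have hcK : (c : G) ∈ K := by
      have h1 : (c : G) ∈ commutator G ⊓ (P : Subgroup G) := by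
        refine ⟨?_, hc.2⟩
        rw [_root_.commutator_def]
        refine commutator_mono le_top le_top (?_ : (c : G) ∈ ⁅N, N⁆)
        rw [← map_subtype_commutator]
        exact ⟨c, hc.1, rfl⟩
      rw [← hK1] at h1
      exact h1.1
    have hx' : x = (c : G) * z := (congrArg Subtype.val hcz).symm
    change ((z : G) : G ⧸ K) = ((k * x : G) : G ⧸ K)
    rw [hx', QuotientGroup.mk_mul, QuotientGroup.mk_mul, (QuotientGroup.eq_one_iff k).mpr hk,
      (QuotientGroup.eq_one_iff _).mpr hcK, one_mul, one_mul]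

end Cfsg.Agent.S0105
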