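import Cfsg.Statements.S2039
import Cfsg.Agent.SimpleFacts.StemElementaryEight
import Cfsg.Agent.SimpleFacts.SLTwoMultiplier
import Cfsg.Agent.Lib.J1.Order

set_option autoImplicit false
open Cfsg

namespace Cfsg.Agent.S2039

/-- The Schur multiplier of the Janko group J₁ (the group generated by two explicit 7 × 7 matrices over the integers modulo 11) is trivial; here the Schur multiplier is described through stem extensions, as in the definitions: surjective homomorphisms onto the group from a finite group, whose kernel is central in that finite group and contained in that finite group's commutator subgroup. -/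
theorem result : Cfsg.HasCyclicSchurMultiplier ↥Cfsg.Spor.J1 1 := by
  classical
  have hsimple : IsSimpleGroup ↥Cfsg.Spor.J1 := Lib.J1.Order.isSimpleGroup_J1
  have hcard := Lib.J1.Order.natCard_J1
  have hperf : commutator ↥Cfsg.Spor.J1 = ⊤ := by
    refine (IsSimpleGroup.eq_bot_or_eq_top_of_normal (commutator ↥Cfsg.Spor.J1) inferInstance).resolve_left ?_
    intro h
    rw [commutator_def, Subgroup.commutator_eq_bot_iff_le_centralizer] at h
    obtain ⟨g, hg⟩ := Lib.J1.Spectrum.exists_orderOf 7 (by simp)
    have hc : Subgroup.center ↥Cfsg.Spor.J1 = ⊤ := by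
      rw [eq_top_iff]
      intro x _
      rw [Subgroup.mem_center_iff]
      intro y
      exact Subgroup.mem_centralizer_iff.1 (h (Subgroup.mem_top x)) y (Subgroup.mem_top y)
    -- an abelian simple group has prime order
    have hprime : (Nat.card ↥Cfsg.Spor.J1).Prime := by
      let _ : CommGroup ↥Cfsg.Spor.J1 :=
        { (inferInstance : Group ↥Cfsg.Spor.J1) with
          mul_comm := fun a b => Subgroup.mem_center_iff.1 (hc ▸ Subgroup.mem_top b) a }
      exact IsSimpleGroup.prime_card
    rw [hcard] at hprime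
    norm_num at hprime
  refine GStructB.StemExt.hasCyclicSchurMultiplier_one fun Γ _ _ σ hσ => ?_
  refine SimpleFacts.SLTwoMultiplier.ker_eq_bot σ fun r hr P z hz hzP => ?_
  refine SimpleFacts.SLTwoMultiplier.eq_one_of_abelian σ hσ P ?_ hz hzP
  by_cases h2 : r = 2
  · subst h2
    refine SimpleFacts.StemElementaryEight.sylow_commute hperf σ hσ P fun Q => ?_
    have hQ : Nat.card (Q : Subgroup ↥Cfsg.Spor.J1) = 8 := by
      rw [Q.card_eq_multiplicity, hcard, show (175560 : ℕ) = 2 ^ 3 * 21945 from rfl,
        Nat.factorization_mul (by norm_num) (by norm_num), Finsupp.add_apply,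
        Nat.Prime.factorization_pow Nat.prime_two, Finsupp.single_eq_same,
        Nat.factorization_eq_zero_of_not_dvd (by norm_num : ¬ 2 ∣ 21945)]
      norm_num
    refine ⟨hQ, fun x hx => ?_⟩
    have h8 : orderOf x ∣ 8 := hQ ▸ (Subgroup.orderOf_mk x hx ▸ orderOf_dvd_natCard _)
    have hmem := Lib.J1.Spectrum.orderOf_mem x
    simp only [Set.mem_insert_iff, Set.mem_singleton_iff] at hmem
    rcases hmem with h | h | h | h | h | h | h | h | h | h <;> rw [h] at h8 <;> norm_num at h8
    · rw [orderOf_eq_one_iff.1 h, one_mul]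
    · rw [← sq, ← h, pow_orderOf_eq_one]
  · have hQ : IsCyclic ((P.mapSurjective hσ.1 : Sylow r ↥Cfsg.Spor.J1) : Subgroup ↥Cfsg.Spor.J1) := by
      obtain ⟨k, hk⟩ := IsPGroup.iff_card.1 (P.mapSurjective hσ.1).isPGroup'
      have hd : r ^ k ∣ 175560 := hcard ▸ hk ▸ Subgroup.card_subgroup_dvd_card _
      rcases k with _ | _ | k
      · have := (Nat.card_eq_one_iff_unique.1 (by rw [hk, pow_zero])).1
        exact isCyclic_of_subsingleton
      · exact isCyclic_of_prime_card (by rw [hk, pow_one])
      · exfalso
        have hr2 : r ^ 2 ∣ 21945 := (Nat.Coprime.pow 2 3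
          ((Nat.coprime_primes hr.out Nat.prime_two).2 h2)).dvd_of_dvd_mul_left
            (show r ^ 2 ∣ 2 ^ 3 * 21945 from (pow_dvd_pow r (by omega)).trans hd)
        have hsf : Squarefree (21945 : ℕ) := by
          rw [show (21945 : ℕ) = 3 * 5 * 7 * 11 * 19 from rfl, Nat.squarefree_mul (by norm_num),
            Nat.squarefree_mul (by norm_num), Nat.squarefree_mul (by norm_num), Nat.squarefree_mul (by norm_num)]
          refine ⟨⟨⟨⟨?_, ?_⟩, ?_⟩, ?_⟩, ?_⟩ <;> exact Prime.squarefree (Nat.prime_iff.1 (by norm_num))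
        rw [sq] at hr2
        exact hr.out.ne_one (Nat.isUnit_iff.1 (hsf r hr2))
    let f := σ.comp (P : Subgroup Γ).subtype
    have hrange : f.range = (P.mapSurjective hσ.1 : Subgroup ↥Cfsg.Spor.J1) := by
      rw [Sylow.coe_mapSurjective, MonoidHom.range_eq_map, ← Subgroup.map_map,
        ← MonoidHom.range_eq_map, Subgroup.range_subtype]
    rw [← hrange] at hQ
    have hker : f.rangeRestrict.ker ≤ Subgroup.center (P : Subgroup Γ) := by
      rw [MonoidHom.ker_rangeRestrict]
      intro a ha
      rw [Subgroup.mem_center_iff]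
      intro b
      exact Subtype.ext (Subgroup.mem_center_iff.1 (hσ.2.1 (MonoidHom.mem_ker.2 ha)) b.1)
    have hc := MonoidHom.isMulCommutative_of_isCyclic_of_ker_le_center f.rangeRestrict hker
    intro a ha b hb
    exact congrArg Subtype.val (hc.is_comm.comm ⟨a, ha⟩ ⟨b, hb⟩)

end Cfsg.Agent.S2039
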