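import Cfsg.Statements.S5892
import Cfsg.Agent.Lib.Forms.DicksonPGL.Types
-- import your own Cfsg.Agent.* helpers here

set_option autoImplicit false
open Cfsg

namespace Cfsg.Agent.S5892

/-- Let F be a finite field of odd order q ≥ 5 and characteristic p, and let M be a maximal subgroup of PSL₂(F). Then one of the following holds: |M| = q(q − 1)/2 (the stabiliser of a point of the projective line); q ≥ 13 and M is dihedral of order q − 1; q ∉ {7, 9} and M is dihedral of order q + 1; q = q₀² and M ≅ PGL₂(F₀) with |F₀| = q₀; q = q₀^r for an odd prime r and M ≅ PSL₂(F₀) with |F₀| = q₀; q ≡ ±1 (mod 10) with q = p or q = p², p ≡ ±3 (mod 10), and M ≅ A₅; q = p ≡ ±3 (mod 8), q ≢ ±1 (mod 10), and M ≅ A₄; or q = p ≡ ±1 (mod 8) and M ≅ S₄. -/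
theorem result {F : Type*} [Field F] [Fintype F] (p : ℕ)
    [Fact p.Prime] [CharP F p] (hodd : Odd (Fintype.card F)) (h5 : 5 ≤ Fintype.card F)
    (M : Subgroup (Matrix.ProjectiveSpecialLinearGroup (Fin 2) F)) (hM : IsCoatom M) :
    2 * Nat.card M = Fintype.card F * (Fintype.card F - 1) ∨
    (13 ≤ Fintype.card F ∧ (∃ k : ℕ, 2 * k = Fintype.card F - 1 ∧ Nonempty (M ≃* DihedralGroup k))) ∨
    (Fintype.card F ≠ 7 ∧ Fintype.card F ≠ 9 ∧ (∃ k : ℕ, 2 * k = Fintype.card F + 1 ∧ Nonempty (M ≃* DihedralGroup k))) ∨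
    (∃ (F₀ : Type) (_ : Field F₀) (_ : Fintype F₀), Fintype.card F = Fintype.card F₀ ^ 2 ∧
        Nonempty (M ≃* Matrix.ProjGenLinGroup (Fin 2) F₀)) ∨
    (∃ (F₀ : Type) (_ : Field F₀) (_ : Fintype F₀) (r : ℕ), r.Prime ∧ Odd r ∧ Fintype.card F = Fintype.card F₀ ^ r ∧
        Nonempty (M ≃* Matrix.ProjectiveSpecialLinearGroup (Fin 2) F₀)) ∨
    ((Fintype.card F % 10 = 1 ∨ Fintype.card F % 10 = 9) ∧
        (Fintype.card F = p ∨ (Fintype.card F = p ^ 2 ∧ (p % 10 = 3 ∨ p % 10 = 7))) ∧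
        Nonempty (M ≃* alternatingGroup (Fin 5))) ∨
    (Fintype.card F = p ∧ (p % 8 = 3 ∨ p % 8 = 5) ∧ ¬ (p % 10 = 1 ∨ p % 10 = 9) ∧
        Nonempty (M ≃* alternatingGroup (Fin 4))) ∨
    (Fintype.card F = p ∧ (p % 8 = 1 ∨ p % 8 = 7) ∧ Nonempty (M ≃* Equiv.Perm (Fin 4))) := by
  classical
  have hd := Forms.DicksonPGL.gcd_of_odd hodd
  have h4 : 4 ≤ Fintype.card F := by omega
  have h := Forms.DicksonPGL.maxIn_psl hM
  set M' := M.map Matrix.ProjectiveSpecialLinearGroup.toPGL with hM'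
  have eM : M ≃* M' := M.equivMapOfInjective _ Matrix.ProjectiveSpecialLinearGroup.toPGL_injective
  have hcomap : M'.comap Matrix.ProjectiveSpecialLinearGroup.toPGL = M :=
    Subgroup.comap_map_eq_self_of_injective Matrix.ProjectiveSpecialLinearGroup.toPGL_injective M
  have hoq : Fintype.card F % 2 = 1 := Nat.odd_iff.1 hodd
  rcases Forms.DicksonPGL.kind p h4 h with ⟨w, hw⟩ | ⟨X, hX, e⟩ |
      ⟨hqp, -, x, y, γ, a, b, fr, hxL, hyL, e, hiso⟩ | ⟨-, -, ⟨e⟩, harith⟩ |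
      ⟨K, iK, fK, f, γ, m, hm, hK, e⟩
  · left
    rw [hw, Subgroup.comap_inf, Forms.DicksonPGL.comap_stabW] at hcomap
    rw [← hcomap, show (Forms.DicksonPGL.L F).comap Matrix.ProjectiveSpecialLinearGroup.toPGL = ⊤ from
      eq_top_iff.2 fun x _ => Forms.DicksonPGL.toP_mem_L x, inf_top_eq]
    have := Forms.DicksonPGL.natCard_stabilizer_psl w
    rw [hd] at this
    exact this
  · obtain ⟨k, τ, hτ, -, hk, hc, ⟨f⟩, -⟩ := Forms.DicksonPGL.torus_psl hX
    rw [hd] at hk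
    have eD : M ≃* DihedralGroup k := (eM.trans (MulEquiv.subgroupCongr e)).trans f
    have hex : ¬ ((Fintype.card F = 7 ∧ k = 3) ∨ (Fintype.card F = 7 ∧ k = 4) ∨
        (Fintype.card F = 9 ∧ k = 4) ∨ (Fintype.card F = 9 ∧ k = 5) ∨ (Fintype.card F = 11 ∧ k = 5)) :=
      fun hh => Forms.DicksonPGL.no_dihedral M hM _ k rfl hh eD
    rcases hτ with rfl | rfl
    · right; left
      refine ⟨?_, k, hk, ⟨eD⟩⟩
      by_contra hlt
      have hne : k ≠ 2 := by
        rintro rfl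
        refine Forms.DicksonPGL.no_four h hodd h5
          ((MulEquiv.subgroupCongr hcomap).trans eD) ?_
        rw [e, hc]; norm_num
      omega
    · right; right; left
      exact ⟨fun e7 => hex (Or.inr (Or.inl ⟨e7, by omega⟩)),
        fun e9 => hex (Or.inr (Or.inr (Or.inr (Or.inl ⟨e9, by omega⟩)))), k, hk, ⟨eD⟩⟩
  · have hp : Fintype.card F = p := by
      obtain ⟨n, -, hn⟩ := FiniteField.card F p
      rw [hn] at hqp
      rw [hn, Nat.Prime.eq_one_of_pow hqp, pow_one]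
    obtain ⟨hcS, hcN⟩ := fr.card_inf_L hxL hyL
    have hcM : Nat.card M = Nat.card (Forms.DicksonPGL.nFour x y ⊓ Forms.DicksonPGL.L F :
        Subgroup (Matrix.ProjGenLinGroup (Fin 2) F)) := by rw [← e]; exact Nat.card_congr eM.toEquiv
    rw [hcomap] at hiso
    have hp8 : p % 2 = 1 := hp ▸ hoq
    by_cases h2 : IsSquare (2 : F)
    · rw [hcS h2] at hcM
      have h8 := FiniteField.isSquare_two_iff.1 h2
      rw [hp] at h8
      rcases hiso with ⟨⟨e'⟩⟩ | ⟨⟨e'⟩⟩ | he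
      · rw [Nat.card_congr e'.toEquiv, DihedralGroup.nat_card] at hcM; norm_num at hcM
      · rw [Nat.card_congr e'.toEquiv, nat_card_alternatingGroup, Nat.card_fin] at hcM
        norm_num [Nat.factorial] at hcM
      · exact Or.inr (Or.inr (Or.inr (Or.inr (Or.inr (Or.inr (Or.inr ⟨hp, by omega, he⟩))))))
    · rw [hcN h2] at hcM
      rw [FiniteField.isSquare_two_iff, hp] at h2
      rcases hiso with ⟨⟨e'⟩⟩ | ⟨⟨e'⟩⟩ | ⟨⟨e'⟩⟩
      · rw [Nat.card_congr e'.toEquiv, DihedralGroup.nat_card] at hcM; norm_num at hcM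
      · exact Or.inr (Or.inr (Or.inr (Or.inr (Or.inr (Or.inr (Or.inl ⟨hp, by omega,
          fun h10 => Forms.DicksonPGL.no_alt4 M hM p hp (by omega) h10 e', ⟨e'⟩⟩))))))
      · rw [Nat.card_congr e'.toEquiv, Nat.card_perm, Nat.card_fin] at hcM
        norm_num [Nat.factorial] at hcM
  · refine Or.inr (Or.inr (Or.inr (Or.inr (Or.inr (Or.inl
      ⟨?_, ?_, ⟨(MulEquiv.subgroupCongr hcomap).symm.trans e⟩⟩)))))
    · rcases harith with ⟨hq, h10⟩ | ⟨hq, h10⟩
      · omega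
      · rw [hq, Nat.pow_mod]; rcases h10 with h | h <;> rw [h] <;> norm_num
    · exact harith.imp And.left id
  · rcases hm.eq_two_or_odd' with rfl | ho
    · refine Or.inr (Or.inr (Or.inr (Or.inl ⟨K, iK, fK, hK.symm, ⟨?_⟩⟩)))
      rw [inf_eq_left.2 (Forms.DicksonPGL.sub_le_L f γ hK even_two)] at e
      exact (eM.trans (MulEquiv.subgroupCongr e)).trans (Forms.DicksonPGL.subEquiv f γ)
    · obtain ⟨g⟩ := Forms.DicksonPGL.sub_inf_L f γ hK ho
      exact Or.inr (Or.inr (Or.inr (Or.inr (Or.inl ⟨K, iK, fK, m, hm, ho, hK.symm,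
        ⟨(eM.trans (MulEquiv.subgroupCongr e)).trans g⟩⟩))))

end Cfsg.Agent.S5892
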