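import Cfsg.Statements.S0981
import Cfsg.Agent.Lib.SmallSimple.EvenPSL

set_option autoImplicit false
set_option linter.style.haveILetI false
open Cfsg

namespace Cfsg.Agent.S0981

open Subgroup
open Cfsg.Agent.SmallSimple

/-- A simple group of order 4080 is isomorphic to the projective special linear group of dimension 2 over the field with 16 elements. -/
theorem result {G : Type*} [Group G] [Finite G] [IsSimpleGroup G] (h : Nat.card G = 4080) {F : Type*} [Field F] [Fintype F] (hF : Fintype.card F = 16) : Nonempty (G ≃* Matrix.ProjectiveSpecialLinearGroup (Fin 2) F) := by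
  classical
  haveI := Fintype.ofFinite G
  haveI : Fact (Nat.Prime 17) := ⟨by norm_num⟩
  haveI : Fact (Nat.Prime 5) := ⟨by norm_num⟩
  haveI : Fact (Nat.Prime 2) := ⟨by norm_num⟩
  have hG : ¬ IsMulCommutative G := Basic.not_comm_of_not_prime (h ▸ by norm_num)
  have hP17 : ∀ P : Sylow 17 G, Nat.card (P : Subgroup G) = 17 := fun P => by
    simpa using Basic.card_sylow_eq_pow (a := 1) (m := 240) (by rw [h]; norm_num) (by norm_num) P
  have hP5 : ∀ P : Sylow 5 G, Nat.card (P : Subgroup G) = 5 := fun P => by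
    simpa using Basic.card_sylow_eq_pow (a := 1) (m := 816) (by rw [h]; norm_num) (by norm_num) P
  have hn17 : Nat.card (Sylow 17 G) = 120 := by
    obtain ⟨hd, hm, h1, -⟩ := Basic.sylow_count (p := 17) hG (by rw [h]; norm_num) (a := 1)
      (m := 240) (by rw [h]; norm_num) (by norm_num)
    have key : ∀ n ∈ Nat.divisors 240, n % 17 = 1 → 1 < n → n = 120 := by decide +kernel
    exact key _ (Nat.mem_divisors.2 ⟨hd, by norm_num⟩) hm h1
  have hdata : ∀ P : Sylow 17 G, Nat.card (centralizer ((P : Subgroup G) : Set G)) = 17 ∧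
      Nat.card (normalizer ((P : Subgroup G) : Set G)) = 34 := fun P => by
    obtain ⟨r, hr, hr1, hN, hC⟩ := Centralize.centralizer_data hG P (hP17 P)
    have := Basic.card_normalizer_mul P
    rw [hn17, h] at this
    have h34 : Nat.card (normalizer ((P : Subgroup G) : Set G)) = 34 := by omega
    refine ⟨?_, h34⟩
    obtain ⟨k, hk⟩ := hC
    rw [h34, hk] at hN
    rw [hk]
    have : k * r = 2 := by nlinarith [hN]
    have : k = 1 := by
      rcases Nat.eq_zero_or_pos k with hk0 | hk0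
      · subst hk0; omega
      · nlinarith
    omega
  obtain ⟨P⟩ : Nonempty (Sylow 17 G) := inferInstance
  have hidx : (P : Subgroup G).relIndex (normalizer ((P : Subgroup G) : Set G)) = 2 := by
    have h1 := relIndex_mul_relIndex ⊥ (P : Subgroup G) (normalizer ((P : Subgroup G) : Set G)) bot_le
      le_normalizer
    rw [relIndex_bot_left, relIndex_bot_left, hP17, (hdata P).2] at h1
    omega
  obtain ⟨t, a, x, ht, hcl, hx1, hax, hxd, hxd1, heq⟩ := IndexTwo.equation hG (q := 17) (by norm_num)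
    (EvenPSL.selfCent_of_card P (hP17 P) (hdata P).1) (hP17 P) hidx
  obtain ⟨T⟩ : Nonempty (Sylow 2 G) := inferInstance
  have hT : Nat.card (T : Subgroup G) = 16 :=
    Basic.card_sylow_eq_pow (a := 4) (m := 255) (by rw [h]; norm_num) (by norm_num) T
  have hCt : Nat.card (centralizer ({t} : Set G)) = 16 := by
    have h8 := EvenPSL.card_sylow_dvd_centralizer T (by rw [h]; norm_num) hcl
    rw [hT] at h8
    have hcd : Nat.card (centralizer ({t} : Set G)) ∣ 4080 := h ▸ card_subgroup_dvd_card _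
    generalize Nat.card (centralizer ({t} : Set G)) = c at h8 hcd heq ⊢
    have hax2 := abs_le.1 hax
    obtain ⟨d, hd⟩ : ∃ d : ℕ, (a - x) ^ 2 = (d : ℤ) ^ 2 ∧ d ≤ 2 * x :=
      ⟨(a - x).natAbs, (Int.natAbs_sq _).symm, by omega⟩
    rw [hd.1, h] at heq
    have heq' : 4080 * d ^ 2 = 17 * c ^ 2 * (x * (x + 1)) := by exact_mod_cast heq
    have hx16 : x ≤ 16 := by
      have key : ∀ y ∈ Nat.divisors 4080, (y + 1) ∣ 4080 → y ≤ 16 := by decide +kernel
      exact key x (Nat.mem_divisors.2 ⟨h ▸ hxd, by norm_num⟩) (h ▸ hxd1)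
    have hc : c ∈ (Nat.divisors 4080).filter (fun c => 16 ∣ c) :=
      Finset.mem_filter.2 ⟨Nat.mem_divisors.2 ⟨hcd, by norm_num⟩, h8⟩
    have key : ∀ y ∈ Finset.range 17, (y ∣ 4080 ∧ (y + 1) ∣ 4080 ∧ 1 < y) →
        ∀ c ∈ (Nat.divisors 4080).filter (fun c => 16 ∣ c),
        ∀ d ∈ Finset.range 33, d ≤ 2 * y → 4080 * d ^ 2 = 17 * c ^ 2 * (y * (y + 1)) → c = 16 := by
      decide +kernel
    exact key x (Finset.mem_range.2 (by omega)) ⟨h ▸ hxd, h ▸ hxd1, hx1⟩ c hc d
      (Finset.mem_range.2 (by omega)) hd.2 heq'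
  have hI : Nat.card {g : G // orderOf g = 2} = 255 := by
    have := EvenPSL.card_involutions ht hcl
    rw [hCt, h] at this
    omega
  have hCall : ∀ u : G, orderOf u = 2 → Nat.card (centralizer ({u} : Set G)) = 16 := fun u hu => by
    have h1 := Basic.card_centralizer_mul_card_class (G := G) t
    have h2 := Basic.card_centralizer_mul_card_class (G := G) u
    have hc := hcl u hu
    have e : Nat.card {y : G // IsConj t y} = Nat.card {y : G // IsConj u y} :=
      Nat.card_congr (Equiv.subtypeEquivRight fun y => ⟨fun h => hc.symm.trans h, fun h => hc.trans h⟩)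
    haveI : Nonempty {y : G // IsConj u y} := ⟨⟨u, IsConj.refl u⟩⟩
    rw [hCt, e] at h1
    exact Nat.eq_of_mul_eq_mul_right Nat.card_pos (h2.trans h1.symm)
  -- centralisers of elements of order 3 or 5 have order dividing 15
  have hodd : ∀ y : G, (orderOf y = 3 ∨ orderOf y = 5) →
      Nat.card (centralizer ({y} : Set G)) ∣ 15 := by
    intro y hy
    have h2 : ¬ 2 ∣ Nat.card (centralizer ({y} : Set G)) := fun hd => by
      obtain ⟨⟨u, hu⟩, huo⟩ := exists_prime_orderOf_dvd_card' (G := centralizer ({y} : Set G)) 2 hd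
      rw [orderOf_mk] at huo
      have hm : y ∈ centralizer ({u} : Set G) :=
        mem_centralizer_singleton_iff.2 (mem_centralizer_singleton_iff.1 hu).symm
      have hd' := orderOf_dvd_natCard (⟨y, hm⟩ : centralizer ({u} : Set G))
      rw [orderOf_mk, hCall u huo] at hd'
      rcases hy with hy | hy <;> rw [hy] at hd' <;> norm_num at hd'
    have h17 : ¬ 17 ∣ Nat.card (centralizer ({y} : Set G)) := fun hd => by
      obtain ⟨⟨z, hz⟩, hzo⟩ := exists_prime_orderOf_dvd_card' (G := centralizer ({y} : Set G)) 17 hd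
      rw [orderOf_mk] at hzo
      obtain ⟨P', hP'⟩ := (IsPGroup.of_card (n := 1) (by rw [Nat.card_zpowers, hzo, pow_one]) :
        IsPGroup 17 (zpowers z)).exists_le_sylow
      have e : zpowers z = (P' : Subgroup G) :=
        eq_of_le_of_card_ge hP' (by rw [Nat.card_zpowers, hzo, hP17])
      have hm : y ∈ centralizer ((P' : Subgroup G) : Set G) := by
        rw [← e, zpowers_eq_closure, centralizer_closure]
        exact mem_centralizer_singleton_iff.2 (mem_centralizer_singleton_iff.1 hz).symm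
      have hd' := orderOf_dvd_natCard (⟨y, hm⟩ : centralizer ((P' : Subgroup G) : Set G))
      rw [orderOf_mk, (hdata P').1] at hd'
      rcases hy with hy | hy <;> rw [hy] at hd' <;> norm_num at hd'
    have key : ∀ c ∈ Nat.divisors 4080, ¬ 2 ∣ c → ¬ 17 ∣ c → c ∣ 15 := by decide +kernel
    exact key _ (Nat.mem_divisors.2 ⟨h ▸ card_subgroup_dvd_card _, by norm_num⟩) h2 h17
  -- the Sylow 5-subgroups
  have hC5d : ∀ Q : Sylow 5 G, Nat.card (centralizer ((Q : Subgroup G) : Set G)) ∣ 15 := fun Q => by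
    obtain ⟨⟨z, hz⟩, hzo⟩ := exists_prime_orderOf_dvd_card' (G := (Q : Subgroup G)) 5 ((hP5 Q).symm ▸ dvd_rfl)
    rw [orderOf_mk] at hzo
    have hz1 : z ≠ 1 := fun e => by rw [e, orderOf_one] at hzo; norm_num at hzo
    rw [← Centralize.sylow_le_iff_mem hz hz1 (hP5 Q), zpowers_eq_closure, centralizer_closure]
    exact hodd z (Or.inr hzo)
  have hn5 : Nat.card (Sylow 5 G) = 136 := by
    obtain ⟨hd, hm, h1, hf⟩ := Basic.sylow_count (p := 5) hG (by rw [h]; norm_num) (a := 1)
      (m := 816) (by rw [h]; norm_num) (by norm_num)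
    obtain ⟨Q⟩ : Nonempty (Sylow 5 G) := inferInstance
    obtain ⟨r, hr, hr1, hN, hC5⟩ := Centralize.centralizer_data hG Q (hP5 Q)
    have hNm := Basic.card_normalizer_mul Q
    rw [hN, h] at hNm
    have h6 : Nat.card (Sylow 5 G) ≠ 6 := fun e => by
      rw [e, h] at hf
      norm_num [Nat.factorial] at hf
    have key : ∀ n ∈ Nat.divisors 816, n % 5 = 1 → 1 < n → n ≠ 6 → ∀ c ∈ Nat.divisors 15,
        5 ∣ c → ∀ r ∈ Nat.divisors 4, 1 < r → c * r * n = 4080 → n = 136 := by decide +kernel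
    exact key _ (Nat.mem_divisors.2 ⟨hd, by norm_num⟩) hm h1 h6 _
      (Nat.mem_divisors.2 ⟨hC5d Q, by norm_num⟩) hC5 r (Nat.mem_divisors.2 ⟨hr, by norm_num⟩) hr1 hNm
  have hC15 : ∀ Q : Sylow 5 G, Nat.card (centralizer ((Q : Subgroup G) : Set G)) = 15 := fun Q => by
    obtain ⟨r, hr, hr1, hN, hC5⟩ := Centralize.centralizer_data hG Q (hP5 Q)
    have hNm := Basic.card_normalizer_mul Q
    rw [hN, hn5, h] at hNm
    have key : ∀ c ∈ Nat.divisors 15, ∀ r ∈ Nat.divisors 4, c * r * 136 = 4080 → c = 15 := by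
      decide +kernel
    exact key _ (Nat.mem_divisors.2 ⟨hC5d Q, by norm_num⟩) r (Nat.mem_divisors.2 ⟨hr, by norm_num⟩) hNm
  -- a Sylow 5-subgroup normalising another one is equal to it
  have hnorm : ∀ Q Q' : Sylow 5 G,
      (Q : Subgroup G) ≤ normalizer ((Q' : Subgroup G) : Set G) → Q = Q' := by
    intro Q Q' hle
    have h2 : (Q : Subgroup G) ⊔ (Q' : Subgroup G) = (Q' : Subgroup G) :=
      Q'.3 (IsPGroup.to_sup_of_normal_right' Q.2 Q'.2 hle) le_sup_right
    have h3 : (Q : Subgroup G) ≤ (Q' : Subgroup G) := le_sup_left.trans h2.le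
    exact Sylow.ext (eq_of_le_of_card_ge h3 (by rw [hP5, hP5]))
  have hTI5 : ∀ Q Q' : Sylow 5 G, ∀ g : G, g ≠ 1 →
      g ∈ centralizer ((Q : Subgroup G) : Set G) → g ∈ centralizer ((Q' : Subgroup G) : Set G) →
      Q = Q' := by
    intro Q Q' g hg hgQ hgQ'
    have hd : orderOf g ∣ 15 := by
      have hd := orderOf_dvd_natCard (⟨g, hgQ⟩ : centralizer ((Q : Subgroup G) : Set G))
      rwa [orderOf_mk, hC15] at hd
    have hy : ∃ y : G, (orderOf y = 3 ∨ orderOf y = 5) ∧
        y ∈ centralizer ((Q : Subgroup G) : Set G) ∧ y ∈ centralizer ((Q' : Subgroup G) : Set G) := by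
      have key : ∀ o ∈ Nat.divisors 15, o ≠ 1 → 3 ∣ o ∨ 5 ∣ o := by decide +kernel
      rcases key _ (Nat.mem_divisors.2 ⟨hd, by norm_num⟩) (fun e => hg (orderOf_eq_one_iff.1 e)) with
        h3 | h5
      · exact ⟨g ^ (orderOf g / 3), Or.inl (orderOf_pow_orderOf_div (orderOf_pos g).ne' h3),
          pow_mem hgQ _, pow_mem hgQ' _⟩
      · exact ⟨g ^ (orderOf g / 5), Or.inr (orderOf_pow_orderOf_div (orderOf_pos g).ne' h5),
          pow_mem hgQ _, pow_mem hgQ' _⟩
    obtain ⟨y, hyo, hyQ, hyQ'⟩ := hy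
    have hle : ∀ {R : Sylow 5 G}, y ∈ centralizer ((R : Subgroup G) : Set G) →
        (R : Subgroup G) ≤ centralizer ({y} : Set G) := fun hR z hz =>
      mem_centralizer_singleton_iff.2 (mem_centralizer_iff.1 hR z hz)
    have hr := FixedPoints.relIndex_normalizer_mod Q (hle hyQ)
    have hrd : (normalizer ((Q : Subgroup G) : Set G)).relIndex (centralizer ({y} : Set G)) ∣ 15 :=
      (index_dvd_card _).trans (hodd y hyo)
    have key : ∀ r ∈ Nat.divisors 15, r % 5 = 1 → r = 1 := by decide +kernel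
    have := key _ (Nat.mem_divisors.2 ⟨hrd, by norm_num⟩) hr
    exact (hnorm Q' Q ((hle hyQ').trans (relIndex_eq_one.1 this))).symm
  have hTI17 : ∀ P P' : Sylow 17 G, ∀ g : G, g ≠ 1 → g ∈ (P : Subgroup G) → g ∈ (P' : Subgroup G) →
      P = P' := fun P P' g hg hgP hgP' => Sylow.ext
    ((Centralize.sylow_le_iff_mem hgP hg (hP17 P)).symm.trans
      (Centralize.sylow_le_iff_mem hgP' hg (hP17 P')))
  have hQcard : Nat.card {g : G // (g ≠ 1 ∧ ∃ P : Sylow 17 G, g ∈ (P : Subgroup G)) ∨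
      (g ≠ 1 ∧ ∃ Q : Sylow 5 G, g ∈ centralizer ((Q : Subgroup G) : Set G))} = 3824 := by
    have e17 := EvenPSL.card_union (fun P : Sylow 17 G => (P : Subgroup G)) hP17 hTI17
    have e5 := EvenPSL.card_union (fun Q : Sylow 5 G => centralizer ((Q : Subgroup G) : Set G)) hC15 hTI5
    rw [hn17] at e17
    rw [hn5] at e5
    rw [Nat.card_eq_fintype_card] at e17 e5 ⊢
    rw [Fintype.card_subtype_or_disjoint, e17, e5]
    rw [disjoint_iff_inf_le]
    rintro g ⟨⟨hg, P', hP'⟩, ⟨-, Q', hQ'⟩⟩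
    have d17 := orderOf_dvd_natCard (⟨g, hP'⟩ : (P' : Subgroup G))
    have d15 := orderOf_dvd_natCard (⟨g, hQ'⟩ : centralizer ((Q' : Subgroup G) : Set G))
    rw [orderOf_mk, hP17] at d17
    rw [orderOf_mk, hC15] at d15
    exact hg (orderOf_eq_one_iff.1
      (Nat.eq_one_of_dvd_coprimes (by norm_num : Nat.Coprime 17 15) d17 d15))
  refine EvenPSL.psl_of_centralizers hG T hT (by norm_num) hCall
    (EvenPSL.exponent_two hI hQcard ?_ (by rw [h])) hF
  rintro g (⟨hg, P', hP'⟩ | ⟨hg, Q', hQ'⟩)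
  · refine ⟨hg, Odd.of_dvd_nat (by decide : Odd 17) ?_⟩
    have d := orderOf_dvd_natCard (⟨g, hP'⟩ : (P' : Subgroup G))
    rwa [orderOf_mk, hP17] at d
  · refine ⟨hg, Odd.of_dvd_nat (by decide : Odd 15) ?_⟩
    have d := orderOf_dvd_natCard (⟨g, hQ'⟩ : centralizer ((Q' : Subgroup G) : Set G))
    rwa [orderOf_mk, hC15] at d

end Cfsg.Agent.S0981
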