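import Cfsg.Statements.S0597
import Cfsg.Agent.Lib.PLocal.ThompsonSubgroup
import Cfsg.Agent.Lib.Subnormal.Join
import Cfsg.Agent.Lib.Cores.Subnormal
import Cfsg.Agent.OddLocal.Coprime

set_option autoImplicit false
open Cfsg
open scoped commutatorElement

namespace Cfsg.Agent.S0597

/-- If two subnormal subgroups of a faithful group on an elementary abelian p-group satisfy [V, E₁, E₂] = 1, then their commutator lies in the largest normal p-subgroup. -/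
theorem result {G : Type*} [Group G] [Finite G] {p : ℕ} [Fact p.Prime] (V H : Subgroup G) (hV : Cfsg.IsElementaryAbelian p V) (hHV : H ≤ Subgroup.normalizer (V : Set G)) (hf : H ⊓ Subgroup.centralizer (V : Set G) = ⊥) (E₁ E₂ : Subgroup G) (h₁ : E₁ ≤ H) (h₂ : E₂ ≤ H) (hs₁ : (E₁.subgroupOf H).IsSubnormal) (hs₂ : (E₂.subgroupOf H).IsSubnormal) (hc : ⁅⁅V, E₁⁆, E₂⁆ = ⊥) : ⁅E₁, E₂⁆ ≤ (Cfsg.pCore p H).map H.subtype := by
  open Subgroup in
  obtain ⟨hVc, hVp⟩ := Cfsg.Agent.PLocal.ThompsonSubgroup.isElementaryAbelian_iff.mp hV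
  set W := ⁅V, E₁⁆ with hW
  have hWV : W ≤ V := le_normalizer_iff_commutator_le_left.mp (h₁.trans hHV)
  have hE2W : ∀ f ∈ E₂, ∀ w ∈ W, f * w * f⁻¹ = w := fun f hf w hw => by
    rw [mul_inv_eq_iff_eq_mul]
    exact ((commutator_eq_bot_iff_le_centralizer.mp hc) hw f hf)
  have hE1W : E₁ ≤ normalizer (W : Set G) := normalizer_commutator_ge_right V E₁
  let K : Subgroup G :=
    { carrier := {x | x ∈ H ∧ x ∈ centralizer (W : Set G) ∧
        ∀ v ∈ V, x * v * x⁻¹ * v⁻¹ ∈ W}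
      one_mem' := ⟨one_mem _, one_mem _, fun v _ => by simp⟩
      mul_mem' := fun {x y} hx hy => ⟨mul_mem hx.1 hy.1, mul_mem hx.2.1 hy.2.1, fun v hv => by
        have hv' : y * v * y⁻¹ ∈ V := (hHV hy.1 v).mp hv
        have h := W.mul_mem (hx.2.2 _ hv') (hy.2.2 v hv)
        have e : x * y * v * (x * y)⁻¹ * v⁻¹ =
            x * (y * v * y⁻¹) * x⁻¹ * (y * v * y⁻¹)⁻¹ * (y * v * y⁻¹ * v⁻¹) := by group
        rw [e]; exact h⟩
      inv_mem' := fun {x} hx => ⟨inv_mem hx.1, inv_mem hx.2.1, fun v hv => by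
        have hv' : x⁻¹ * v * x⁻¹⁻¹ ∈ V := (hHV (inv_mem hx.1) v).mp hv
        have h := W.inv_mem (hx.2.2 _ hv')
        have e : x⁻¹ * v * x⁻¹⁻¹ * v⁻¹ =
            (x * (x⁻¹ * v * x⁻¹⁻¹) * x⁻¹ * (x⁻¹ * v * x⁻¹⁻¹)⁻¹)⁻¹ := by group
        rw [e]; exact h⟩ }
  have hKp : IsPGroup p K := by
    rw [isPGroup_iff_pow_pow_eq_one]
    rintro ⟨x, hxH, hxW, hxV⟩
    refine ⟨1, Subtype.ext ?_⟩
    rw [pow_one]
    change x ^ p = 1
    rw [← mem_bot, ← hf]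
    refine ⟨pow_mem hxH p, fun v hv => ?_⟩
    set w := x * v * x⁻¹ * v⁻¹ with hw
    have hwW := hxV v hv
    have hxv : x * v * x⁻¹ = w * v := by rw [hw]; group
    have hwx : Commute w x := hxW w hwW
    have h := Cfsg.Agent.OddLocal.Coprime.pow_conj_of_central_commutator hxv hwx p
    rw [hVp w (hWV hwW), one_mul] at h
    exact h.symm
  have hDK : ⁅E₁, E₂⁆ ≤ K := by
    rw [commutator_le]
    intro e he f hf'
    refine ⟨?_, ?_, fun v hv => ?_⟩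
    · rw [commutatorElement_def]
      exact mul_mem (mul_mem (mul_mem (h₁ he) (h₂ hf')) (inv_mem (h₁ he))) (inv_mem (h₂ hf'))
    · intro w hw
      have h1 : e⁻¹ * w * e ∈ W := by
        have := ((hE1W (inv_mem he)) w).mp hw
        simpa using this
      have e1 : f * (e⁻¹ * w * e) * f⁻¹ = e⁻¹ * w * e := hE2W f hf' _ h1
      have e2 : f⁻¹ * w * f = w := by
        have := hE2W f⁻¹ (inv_mem hf') w hw
        simpa using this
      have key : ⁅e, f⁆ * w * ⁅e, f⁆⁻¹ = w := by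
        calc ⁅e, f⁆ * w * ⁅e, f⁆⁻¹ = e * (f * (e⁻¹ * (f⁻¹ * w * f) * e) * f⁻¹) * e⁻¹ := by
              rw [commutatorElement_def]; group
          _ = w := by rw [e2, e1]; group
      exact (mul_inv_eq_iff_eq_mul.mp key).symm
    · have hfV : f⁻¹ * v * f⁻¹⁻¹ ∈ V := (hHV (h₂ (inv_mem hf')) v).mp hv
      set v₁ := f⁻¹ * v * f⁻¹⁻¹ with hv₁
      have hw₁ : ⁅v₁, e⁻¹⁆ ∈ W := commutator_mem_commutator hfV (inv_mem he)
      set w₁ := ⁅v₁, e⁻¹⁆ with hw₁'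
      have hv₁' : e⁻¹ * v₁ * e = w₁⁻¹ * v₁ := by rw [hw₁', commutatorElement_def]; group
      have e3 : f * (w₁⁻¹ * v₁) * f⁻¹ = w₁⁻¹ * v := by
        have h4 := hE2W f hf' _ (W.inv_mem hw₁)
        calc f * (w₁⁻¹ * v₁) * f⁻¹ = f * w₁⁻¹ * f⁻¹ * (f * v₁ * f⁻¹) := by group
          _ = w₁⁻¹ * v := by rw [h4, hv₁]; group
      have hW2 : ⁅v, e⁆ ∈ W := commutator_mem_commutator hv he
      have hW3 : e * w₁⁻¹ * e⁻¹ ∈ W := ((hE1W he) _).mp (W.inv_mem hw₁)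
      have key : ⁅e, f⁆ * v * ⁅e, f⁆⁻¹ * v⁻¹ = e * w₁⁻¹ * e⁻¹ * ⁅v, e⁆⁻¹ := by
        calc ⁅e, f⁆ * v * ⁅e, f⁆⁻¹ * v⁻¹ = e * (f * (e⁻¹ * v₁ * e) * f⁻¹) * e⁻¹ * v⁻¹ := by
              rw [commutatorElement_def, hv₁]; group
          _ = _ := by rw [hv₁', e3, commutatorElement_def]; group
      rw [key]
      exact W.mul_mem hW3 (W.inv_mem hW2)
  have hDH : ⁅E₁, E₂⁆ ≤ H := fun x hx => (hDK hx).1
  have hF := Cfsg.Agent.Subnormal.Join.isSubnormal_sup hs₁ hs₂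
  rw [← subgroupOf_sup h₁ h₂] at hF
  have hsub : ((⁅E₁, E₂⁆).subgroupOf H).IsSubnormal := by
    have hle : ⁅E₁, E₂⁆ ≤ E₁ ⊔ E₂ := by
      rw [commutator_le]
      intro e he f hf'
      rw [commutatorElement_def]
      exact mul_mem (mul_mem (mul_mem (mem_sup_left he) (mem_sup_right hf'))
        (inv_mem (mem_sup_left he))) (inv_mem (mem_sup_right hf'))
    refine Subgroup.IsSubnormal.step _ _ (fun x hx => hle hx) hF ?_
    refine normal_subgroupOf_of_le_normalizer ?_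
    rw [← subgroupOf_normalizer_eq hDH]
    intro x hx
    exact (sup_le (normalizer_commutator_ge_left E₁ E₂) (normalizer_commutator_ge_right E₁ E₂)) hx
  have hDp : IsPGroup p ↥((⁅E₁, E₂⁆).subgroupOf H) :=
    (hKp.to_le hDK).comap_subtype
  intro x hx
  exact ⟨⟨x, hDH hx⟩, Cfsg.Agent.Cores.le_pCore_of_isSubnormal hsub hDp hx, rfl⟩

end Cfsg.Agent.S0597
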