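import Cfsg.Statements.S2941
import Cfsg.Agent.Lib.PLocal.ThompsonSubgroup

set_option autoImplicit false
open Cfsg

namespace Cfsg.Agent.S2941

open Subgroup
open Cfsg.Agent.PLocal
open scoped commutatorElement Pointwise

/-- Let G be a finite group of characteristic 2 type in which every 2-local subgroup is solvable and the centralizer of Ω₁(Z(S)) lies in N_G(S) for every Sylow 2-subgroup S, and let T be a nontrivial 2-subgroup and K a J(T)-component (J the Thompson subgroup generated by the elementary abelian 2-subgroups of largest order). If a subgroup Q is normalized by ⟨K, J(T)⟩ and normalizes J(T), then Q normalizes K. -/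
theorem result {G : Type*} [Group G] [Finite G] (hL : Cfsg.IsCharacteristicTwoType G) (hN : ∀ N : Subgroup G, Cfsg.IsTwoLocal N → Group.IsSolvable ↥N)
    (hZ : ∀ S : Sylow 2 G, Subgroup.centralizer (Cfsg.omegaCenterOf (S : Subgroup G) : Set G) ≤ Subgroup.normalizer ((S : Subgroup G) : Set G)) (T : Subgroup G) (hT : IsPGroup 2 ↥T) (hT1 : T ≠ ⊥) (K : Subgroup G) (hK : Cfsg.IsJComponent T K)
    (Q : Subgroup G) (hQ1 : K ⊔ Cfsg.thompsonSubgroupOf 2 T ≤ Subgroup.normalizer (Q : Set G)) (hQ2 : Q ≤ Subgroup.normalizer (Cfsg.thompsonSubgroupOf 2 T : Set G)) :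
    Q ≤ Subgroup.normalizer (K : Set G) := by
  obtain ⟨hgen, hcomm, -, -, -, -⟩ := hK
  set J := Cfsg.thompsonSubgroupOf 2 T with hJdef
  set Y := K ⊔ J with hY
  set N := Subgroup.normalClosure (((J.subgroupOf Y) : Subgroup Y) : Set Y) with hN'
  set Cl := N.map Y.subtype with hCl
  have hJY : J ≤ Y := le_sup_right
  have hClY : Cl ≤ Y := map_subtype_le N
  have hJCl : J ≤ Cl := fun j hj =>
    ⟨⟨j, hJY hj⟩, Subgroup.subset_normalClosure (mem_subgroupOf.mpr hj), rfl⟩
  have hClN : ∀ y ∈ Y, ∀ x ∈ Cl, y * x * y⁻¹ ∈ Cl := by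
    rintro y hy _ ⟨x, hx, rfl⟩
    exact ⟨⟨y, hy⟩ * x * ⟨y, hy⟩⁻¹, Subgroup.normalClosure_normal.conj_mem x hx ⟨y, hy⟩, rfl⟩
  have hKCl : K ≤ Cl := by
    rw [← hcomm, commutator_le]
    intro k hk j hj
    rw [commutatorElement_def]
    exact mul_mem (hClN k (mem_sup_left hk) j (hJCl hj)) (inv_mem (hJCl hj))
  have hQY : ∀ q ∈ Q, ∀ y ∈ Y, q * y * q⁻¹ ∈ Y := by
    intro q hq
    -- `q` carries the conjugates of `J` in `Y` to conjugates of `J` in `Y`
    suffices h : ∀ x ∈ N, q * (x : G) * q⁻¹ ∈ Y by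
      intro y hy
      have hY' : Y ≤ Cl := sup_le hKCl hJCl
      obtain ⟨x, hx, rfl⟩ := hY' hy
      exact h x hx
    intro x hx
    have hle : N ≤ Y.comap ((MulAut.conj q).toMonoidHom.comp Y.subtype) := by
      rw [hN', Subgroup.normalClosure, closure_le]
      intro z hz
      obtain ⟨j, hj, hc⟩ := Group.mem_conjugatesOfSet_iff.mp hz
      obtain ⟨w, hw⟩ := isConj_iff.mp hc
      subst hw
      show q * ((w : G) * (j : G) * (w : G)⁻¹) * q⁻¹ ∈ Y
      have hq' : (w : G)⁻¹ * q * w ∈ Q := (mem_normalizer_iff''.mp (hQ1 w.2) q).mp hq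
      have hj' : ((w : G)⁻¹ * q * w) * (j : G) * ((w : G)⁻¹ * q * w)⁻¹ ∈ J :=
        (mem_normalizer_iff.mp (hQ2 hq') _).mp (mem_subgroupOf.mp hj)
      have e : q * ((w : G) * (j : G) * (w : G)⁻¹) * q⁻¹ =
          (w : G) * (((w : G)⁻¹ * q * w) * (j : G) * ((w : G)⁻¹ * q * w)⁻¹) * (w : G)⁻¹ := by group
      rw [e]
      exact mul_mem (mul_mem w.2 (hJY hj')) (inv_mem w.2)
    exact hle hx
  -- elements of odd order of `Y` lie in `K`
  have hYK : Y ≤ normalizer (K : Set G) := by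
    refine sup_le Subgroup.le_normalizer ?_
    nth_rewrite 1 [← hcomm]
    exact Subgroup.normalizer_commutator_ge_right K J
  have hodd : ∀ y ∈ Y, Odd (orderOf y) → y ∈ K := by
    intro y hy ho
    haveI : (K.subgroupOf Y).Normal := normal_subgroupOf_of_le_normalizer hYK
    have h2 : IsPGroup 2 (Y ⧸ K.subgroupOf Y) := by
      intro z
      obtain ⟨⟨w, hw⟩, rfl⟩ := QuotientGroup.mk_surjective z
      have hJN : J ≤ normalizer (K : Set G) := le_sup_right.trans hYK
      obtain ⟨k, hk, j, hj, rfl⟩ : ∃ k ∈ K, ∃ j ∈ J, k * j = w := by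
        have hw' : w ∈ ((K : Set G) * (J : Set G)) := by
          rw [← Subgroup.coe_mul_of_right_le_normalizer_left K J hJN]
          exact hw
        exact hw'
      obtain ⟨n, hn⟩ := hT ⟨j, ThompsonSubgroup.thompsonSubgroupOf_le T hj⟩
      refine ⟨n, ?_⟩
      have e : ((⟨k * j, hw⟩ : Y) : Y ⧸ K.subgroupOf Y) = ((⟨j, hJY hj⟩ : Y) : Y ⧸ K.subgroupOf Y) := by
        have hk' : ((⟨k, mem_sup_left hk⟩ : Y) : Y ⧸ K.subgroupOf Y) = 1 :=
          (QuotientGroup.eq_one_iff _).mpr (mem_subgroupOf.mpr hk)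
        rw [show (⟨k * j, hw⟩ : Y) = ⟨k, mem_sup_left hk⟩ * ⟨j, hJY hj⟩ from rfl,
          QuotientGroup.mk_mul, hk', one_mul]
      rw [e, ← QuotientGroup.mk_pow]
      refine (QuotientGroup.eq_one_iff _).mpr (mem_subgroupOf.mpr ?_)
      have := congrArg Subtype.val hn
      simp only [SubmonoidClass.coe_pow, OneMemClass.coe_one] at this ⊢
      rw [this]
      exact one_mem _
    obtain ⟨n, hn⟩ := h2 ((⟨y, hy⟩ : Y) : Y ⧸ K.subgroupOf Y)
    have hcop : (2 ^ n).Coprime (orderOf y) := Nat.Coprime.pow_left n (Nat.coprime_two_left.mpr ho)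
    rw [← QuotientGroup.mk_pow, QuotientGroup.eq_one_iff, mem_subgroupOf] at hn
    obtain ⟨m, hm⟩ := exists_pow_eq_self_of_coprime hcop
    rw [← hm]
    exact pow_mem hn m
  intro q hq
  have hmap : K.map (MulAut.conj q).toMonoidHom ≤ K := by
    nth_rewrite 1 [← hgen]
    rw [MonoidHom.map_closure, closure_le]
    rintro _ ⟨k, ⟨hk, ho⟩, rfl⟩
    refine hodd _ (hQY q hq k (mem_sup_left hk)) ?_
    rwa [MulEquiv.coe_toMonoidHom, MulEquiv.orderOf_eq]
  rw [mem_normalizer_iff_map_conj_eq]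
  exact eq_of_le_of_card_ge hmap
    (card_map_of_injective (MulAut.conj q).injective).ge

end Cfsg.Agent.S2941
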