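import Cfsg.Statements.S2947
import Cfsg.Agent.Lib.PLocal.ThompsonSubgroup

set_option autoImplicit false
open Cfsg

namespace Cfsg.Agent.S2947

open Subgroup
open Cfsg.Agent.PLocal

/-- Let G be a finite group of characteristic 2 type in which every 2-local subgroup is solvable and the centralizer of Ω₁(Z(S)) lies in N_G(S) for every Sylow 2-subgroup S; suppose O₂(G) = 1, fix a Sylow 2-subgroup S and a 2-local subgroup M containing N_G(J(S)) (J the Thompson subgroup generated by the elementary abelian 2-subgroups of largest order). Then M is strongly embedded in G (a proper subgroup of even order whose intersection with each conjugate by an element outside M has odd order) if and only if no nontrivial 2-subgroup of M lies in a 2-local subgroup of G not contained in M. -/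
theorem result {G : Type*} [Group G] [Finite G] (hL : Cfsg.IsCharacteristicTwoType G) (hN : ∀ N : Subgroup G, Cfsg.IsTwoLocal N → Group.IsSolvable ↥N)
    (hZ : ∀ S : Sylow 2 G, Subgroup.centralizer (Cfsg.omegaCenterOf (S : Subgroup G) : Set G) ≤ Subgroup.normalizer ((S : Subgroup G) : Set G)) (hO : Cfsg.pCore 2 G = ⊥) (S : Sylow 2 G) (M : Subgroup G) (hM : Cfsg.IsTwoLocal M)
    (hMJ : Subgroup.normalizer (Cfsg.thompsonSubgroupOf 2 (S : Subgroup G) : Set G) ≤ M) :
    Cfsg.IsStronglyEmbedded M ↔ Cfsg.straddlingTwoSubgroups M = ∅ := by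
  classical
  haveI : Fact (Nat.Prime 2) := ⟨Nat.prime_two⟩
  obtain ⟨T, hT, hT1, hMT⟩ := hM
  have hTM : T ≤ M := hMT ▸ Subgroup.le_normalizer
  have hconj : ∀ (g : G) (U : Subgroup G), (normalizer (U : Set G)).map (MulAut.conj g).toMonoidHom =
      normalizer ((U.map (MulAut.conj g).toMonoidHom : Subgroup G) : Set G) := fun g U => by
    rw [Subgroup.map_equiv_normalizer_eq U (MulAut.conj g)]
  constructor
  · rintro ⟨-, -, hse⟩
    refine Set.eq_empty_iff_forall_notMem.mpr ?_
    rintro U ⟨hU, hU1, hUM, L, ⟨R, hR, hR1, rfl⟩, hUL, hLM⟩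
    -- nontrivial 2-subgroups of `M` have their normalizer in `M`
    have key : ∀ W : Subgroup G, IsPGroup 2 W → W ≠ ⊥ → W ≤ M →
        normalizer (W : Set G) ≤ M := by
      intro W hW hW1 hWM g hg
      by_contra hgM
      have hodd := hse g hgM
      have hle : W ≤ M ⊓ M.map (MulAut.conj g).toMonoidHom := by
        refine le_inf hWM ?_
        rw [← mem_normalizer_iff_map_conj_eq.mp hg]
        exact Subgroup.map_mono hWM
      haveI : Nontrivial W := (Subgroup.nontrivial_iff_ne_bot W).mpr hW1
      obtain ⟨n, hn, hcard⟩ := hW.nontrivial_iff_card.mp inferInstance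
      have h2 : 2 ∣ Nat.card W := hcard ▸ dvd_pow_self 2 hn.ne'
      exact Nat.not_even_iff_odd.mpr hodd (even_iff_two_dvd.mpr
        (h2.trans (Subgroup.card_dvd_of_le hle)))
    have hUR : IsPGroup 2 ↥(R ⊔ U) :=
      hR.to_sup_of_normal_left' hU hUL
    set P := R ⊔ U with hP
    have hPM : P ≤ M := by
      set X := (M.subgroupOf P) with hX
      by_contra hne
      have hX' : X ≠ ⊤ := fun e => hne (subgroupOf_eq_top.mp e)
      haveI := hUR.isNilpotent
      obtain ⟨z, hz, hzX⟩ := SetLike.exists_of_lt
        (Group.normalizerCondition_of_isNilpotent (G := P) X (lt_top_iff_ne_top.mpr hX'))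
      refine hzX (mem_subgroupOf.mpr (key ((M ⊓ P : Subgroup G)) (hUR.to_le inf_le_right) ?_ inf_le_left ?_))
      · exact fun e => hU1 (le_bot_iff.mp (e ▸ le_inf hUM le_sup_right))
      · have e : X.map P.subtype = M ⊓ P := by rw [hX, subgroupOf_map_subtype]
        rw [← e]
        exact le_normalizer_map P.subtype ⟨z, hz, rfl⟩
    exact hLM (key R hR hR1 (le_sup_left.trans hPM))
  · intro hempty
    refine ⟨?_, ?_, fun g hg => ?_⟩
    · intro e
      refine hT1 (le_bot_iff.mp (hO ▸ le_sSup ⟨?_, hT⟩))
      exact normalizer_eq_top_iff.mp (hMT.symm.trans e)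
    · haveI : Nontrivial T := (Subgroup.nontrivial_iff_ne_bot T).mpr hT1
      obtain ⟨n, hn, hcard⟩ := hT.nontrivial_iff_card.mp inferInstance
      exact even_iff_two_dvd.mpr ((hcard ▸ dvd_pow_self 2 hn.ne').trans (Subgroup.card_dvd_of_le hTM))
    · rw [← Nat.not_even_iff_odd, even_iff_two_dvd]
      intro h2
      obtain ⟨t, ht⟩ := exists_prime_orderOf_dvd_card' 2 h2
      set U := Subgroup.zpowers (t : G) with hUdef
      have hU : IsPGroup 2 U := IsPGroup.of_card (n := 1) (by
        rw [hUdef, Nat.card_zpowers, Subgroup.orderOf_coe, ht, pow_one])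
      have hU1 : U ≠ ⊥ := by
        rw [hUdef, Ne, zpowers_eq_bot]
        intro e
        rw [← Subgroup.orderOf_coe, e, orderOf_one] at ht
        omega
      have hle : M.map (MulAut.conj g).toMonoidHom ≤ M := by
        by_contra hne
        have hmem : U ∈ Cfsg.straddlingTwoSubgroups M := ⟨hU, hU1, zpowers_le.mpr t.2.1,
          _, ⟨T.map (MulAut.conj g).toMonoidHom, hT.map _, fun e => hT1
            ((Subgroup.map_eq_bot_iff_of_injective _ (MulAut.conj g).injective).mp e),
            by rw [hMT, hconj]⟩, zpowers_le.mpr t.2.2, hne⟩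
        rw [hempty] at hmem
        exact hmem
      have hgN : g ∈ normalizer (M : Set G) := mem_normalizer_iff_map_conj_eq.mpr
        (eq_of_le_of_card_ge hle (card_map_of_injective (MulAut.conj g).injective).ge)
      -- Frattini
      have hSM : (S : Subgroup G) ≤ M := Subgroup.le_normalizer.trans
        ((ThompsonSubgroup.normalizer_le_normalizer_thompsonSubgroupOf (p := 2) (S : Subgroup G)).trans hMJ)
      set N := normalizer (M : Set G) with hN'
      haveI : (M.subgroupOf N).Normal := normal_in_normalizer
      let S₁ : Sylow 2 ↥(M.subgroupOf N) :=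
        (S.subtype (hSM.trans Subgroup.le_normalizer)).subtype (by
          intro x hx
          exact mem_subgroupOf.mpr (hSM hx))
      have hF := Sylow.normalizer_sup_eq_top S₁
      have hg' : (⟨g, hgN⟩ : N) ∈ (⊤ : Subgroup N) := mem_top _
      rw [← hF] at hg'
      have hle' : normalizer ((S₁ : Subgroup ↥(M.subgroupOf N)).map (M.subgroupOf N).subtype : Set N) ⊔
          M.subgroupOf N ≤ M.subgroupOf N := by
        refine sup_le (fun x hx => mem_subgroupOf.mpr ?_) le_rfl
        refine ((ThompsonSubgroup.normalizer_le_normalizer_thompsonSubgroupOf (p := 2) (S : Subgroup G)).trans hMJ) ?_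
        rw [mem_normalizer_iff]
        intro y
        have hsn : ∀ w ∈ (S : Subgroup G), w ∈ N := fun w hw => Subgroup.le_normalizer (hSM hw)
        constructor
        · intro hy
          obtain ⟨w, hw, e⟩ := (mem_normalizer_iff.mp hx (⟨y, hsn y hy⟩ : N)).mp
            ⟨⟨⟨y, hsn y hy⟩, mem_subgroupOf.mpr (hSM hy)⟩, hy, rfl⟩
          have e' : ((w : N) : G) = (x : G) * y * (x : G)⁻¹ := congrArg Subtype.val e
          rw [← e']
          exact hw
        · intro hy
          obtain ⟨w, hw, e⟩ := (mem_normalizer_iff''.mp hx (⟨_, hsn _ hy⟩ : N)).mp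
            ⟨⟨⟨_, hsn _ hy⟩, mem_subgroupOf.mpr (hSM hy)⟩, hy, rfl⟩
          have e' : ((w : N) : G) = y := by
            have := congrArg Subtype.val e
            simp only [Subgroup.coe_mul, Subgroup.coe_inv] at this
            rw [show ((w : N) : G) = _ from this]
            group
          rw [← e']
          exact hw
      exact hg (mem_subgroupOf.mp (hle' hg'))

end Cfsg.Agent.S2947
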