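import Cfsg.Statements.S0379
import Cfsg.Agent.Lib.Golay.Small

set_option autoImplicit false
open Cfsg

namespace Cfsg.Agent.S0379

open Cfsg.Agent.Golay.Basic Cfsg.Agent.Golay.Design Cfsg.Agent.Golay.Perm Cfsg.Agent.Golay.M24 Cfsg.Agent.Golay.Trans Cfsg.Agent.Golay.Cert Cfsg.Agent.Golay.Small Cfsg.Agent.Golay.SmallData
open scoped Pointwise

/-- A two-point stabiliser in the group of the length-24 code is simple. -/
theorem result (p q : Cfsg.GolayPt) (hpq : p ≠ q) : IsSimpleGroup ↥(MulAction.stabilizer Cfsg.M24 p ⊓ MulAction.stabilizer Cfsg.M24 q) := by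
  have hinj : ∀ u v : Cfsg.GolayPt, u ≠ v → Function.Injective (![u, v]) := by
    intro u v huv i j h; fin_cases i <;> fin_cases j <;> simp_all
  obtain ⟨a, ha, hap⟩ := exists_map_tuple (n := 2) (by norm_num) ⟨![p, q], hinj p q hpq⟩
    ⟨![pt 0, pt 1], hinj _ _ (by decide)⟩
  have h0 : a p = pt 0 := hap 0
  have h1 : a q = pt 1 := hap 1
  refine (equivOfConj ha (H := MulAction.stabilizer Cfsg.M24 p ⊓ MulAction.stabilizer Cfsg.M24 q)
    (K := M22K) (fixers_le _ _) fun g => ?_).isSimpleGroup_congr.2 isSimple_M22K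
  show ((g : Equiv.Perm Cfsg.GolayPt) p = p ∧ (g : Equiv.Perm Cfsg.GolayPt) q = q) ↔ _
  simp [M22K, mem_fixers, ← h0, ← h1,
    Cfsg.M24.mul_mem (Cfsg.M24.mul_mem ha g.2) (Cfsg.M24.inv_mem ha)]

end Cfsg.Agent.S0379
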