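import Cfsg.Statements.S5435
import Cfsg.Agent.Lib.LargeExtra.Affine
import Cfsg.Agent.S0215
import Cfsg.Agent.Lib.Involutions.Basic
import Cfsg.Agent.GenA.ExtraspecialTwo

set_option autoImplicit false
open Cfsg

namespace Cfsg.Agent.S5435

open Subgroup
open scoped commutatorElement

theorem one_ne_gen : (1 : Multiplicative (ZMod 2)) ≠ Multiplicative.ofAdd 1 := by decide

theorem mul_self_eq : ∀ u : Multiplicative (ZMod 2), u * u = 1 := by decide

theorem eq_one_of_ne : ∀ u : Multiplicative (ZMod 2), u ≠ Multiplicative.ofAdd 1 → u = 1 := by decide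

variable {L : Type*} [Group L] [Finite L]

/-- A central involution of a Sylow subgroup which is its own normaliser lies in the Frattini subgroup. -/
theorem mem_frattini_of_central [IsSimpleGroup L] (hL : ¬ IsMulCommutative L) (R : Sylow 2 L)
    (hN : ∀ g : L, g ∈ normalizer ((R : Subgroup L) : Set L) → g ∈ (R : Subgroup L))
    (x : ↥(R : Subgroup L)) (hx : x * x = 1) (hxc : ∀ r : ↥(R : Subgroup L), r * x = x * r) :
    x ∈ frattini ↥(R : Subgroup L) := by
  classical
  haveI : Fact (Nat.Prime 2) := ⟨Nat.prime_two⟩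
  by_contra hxΦ
  have hRp : IsPGroup 2 ↥(R : Subgroup L) := R.isPGroup'
  obtain ⟨M, hM, hxM⟩ : ∃ M : Subgroup ↥(R : Subgroup L), IsCoatom M ∧ x ∉ M := by
    by_contra hc
    push Not at hc
    refine hxΦ ?_
    rw [frattini, Order.radical, mem_iInf]
    intro M
    rw [mem_iInf]
    exact hc M
  haveI := hRp.isNilpotent
  haveI : M.Normal := Subgroup.NormalizerCondition.normal_of_coatom M Group.normalizerCondition_of_isNilpotent hM
  obtain ⟨k, hk⟩ := IsPGroup.iff_card.1 hRp
  have hidx : M.index = 2 := by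
    have hp := Cfsg.Agent.Solvable.Basics.index_prime_of_normal_coatom hM
    have hd := M.index_dvd_card
    rw [hk] at hd
    exact (Nat.prime_dvd_prime_iff_eq hp Nat.prime_two).1 (hp.dvd_of_dvd_pow hd)
  let χ : ↥(R : Subgroup L) →* Multiplicative (ZMod 2) :=
    { toFun := fun r => if r ∈ M then 1 else Multiplicative.ofAdd 1
      map_one' := if_pos M.one_mem
      map_mul' := fun a b => by
        have h := M.mul_mem_iff_of_index_two hidx (a := a) (b := b)
        by_cases ha : a ∈ M <;> by_cases hb : b ∈ M <;> simp only [ha, hb, iff_true, iff_false, not_true,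
          not_false_iff] at h <;> simp only [ha, hb, h, if_true, if_false, one_mul, mul_one, mul_self_eq] }
  have hχx : χ x = Multiplicative.ofAdd 1 := if_neg hxM
  have htriv : ∀ g : L, χ.transfer g = 1 := by
    rcases (MonoidHom.normal_ker χ.transfer).eq_bot_or_eq_top with h | h
    · exact absurd ⟨⟨fun a b => (χ.transfer.ker_eq_bot_iff.1 h) (by rw [map_mul, map_mul, mul_comm])⟩⟩ hL
    · exact fun g => MonoidHom.mem_ker.1 (h ▸ mem_top g)
  letI : Fintype (Quotient (MulAction.orbitRel (↥(zpowers (x : L))) (L ⧸ (R : Subgroup L)))) := Fintype.ofFinite _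
  have hformula := χ.transfer_eq_prod_quotient_orbitRel_zpowers_quot (x : L)
  rw [htriv] at hformula
  let per : (Quotient (MulAction.orbitRel (↥(zpowers (x : L))) (L ⧸ (R : Subgroup L)))) → ℕ := fun o => Function.minimalPeriod (fun q : L ⧸ (R : Subgroup L) => (x : L) • q) o.out
  have hxx : (x : L) * x = 1 := congrArg Subtype.val hx
  have hval : ∀ (q : L ⧸ (R : Subgroup L)) (a : L), (a : L ⧸ (R : Subgroup L)) = q → (x : L) • q = q →
      a⁻¹ * (x : L) * a ∈ (R : Subgroup L) := by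
    intro q a ha hq
    rw [← ha, MulAction.Quotient.smul_coe, eq_comm, QuotientGroup.eq] at hq
    rwa [mul_assoc]
  let F : Set (L ⧸ (R : Subgroup L)) :=
    {q | (x : L) • q = q ∧ ∀ h : q.out⁻¹ * (x : L) * q.out ∈ (R : Subgroup L), χ ⟨_, h⟩ = Multiplicative.ofAdd 1}
  -- the value is independent of the representative
  have hindep : ∀ (q : L ⧸ (R : Subgroup L)) (a : L), (a : L ⧸ (R : Subgroup L)) = q →
      ∀ (h : a⁻¹ * (x : L) * a ∈ (R : Subgroup L)) (h' : q.out⁻¹ * (x : L) * q.out ∈ (R : Subgroup L)),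
      χ ⟨_, h⟩ = χ ⟨_, h'⟩ := by
    intro q a ha h h'
    have hr : q.out⁻¹ * a ∈ (R : Subgroup L) := QuotientGroup.eq.1 ((QuotientGroup.out_eq' q).trans ha.symm)
    have e : (⟨_, h⟩ : ↥(R : Subgroup L)) = ⟨_, hr⟩⁻¹ * ⟨_, h'⟩ * ⟨_, hr⟩ := Subtype.ext (by
      show a⁻¹ * (x : L) * a = (q.out⁻¹ * a)⁻¹ * (q.out⁻¹ * (x : L) * q.out) * (q.out⁻¹ * a)
      group)
    rw [e, map_mul, map_mul, map_inv, mul_right_comm, inv_mul_cancel, one_mul]
  -- `R` permutes `F`
  have hRF : ∀ (r : ↥(R : Subgroup L)) (q : L ⧸ (R : Subgroup L)), q ∈ F → (r : L) • q ∈ F := by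
    rintro r q ⟨hq, hq'⟩
    have hrx : (r : L) * x = x * r := congrArg Subtype.val (hxc r)
    refine ⟨by rw [smul_smul, ← hrx, ← smul_smul, hq], fun h => ?_⟩
    have hrep : (((r : L) * q.out : L) : L ⧸ (R : Subgroup L)) = (r : L) • q := by
      conv_rhs => rw [← QuotientGroup.out_eq' q, MulAction.Quotient.smul_coe, smul_eq_mul]
    have e : ((r : L) * q.out)⁻¹ * (x : L) * ((r : L) * q.out) = q.out⁻¹ * (x : L) * q.out := by
      calc ((r : L) * q.out)⁻¹ * (x : L) * ((r : L) * q.out)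
          = q.out⁻¹ * ((r : L)⁻¹ * ((x : L) * r)) * q.out := by group
        _ = q.out⁻¹ * (x : L) * q.out := by rw [← hrx, inv_mul_cancel_left]
    have hm : ((r : L) * q.out)⁻¹ * (x : L) * ((r : L) * q.out) ∈ (R : Subgroup L) := by
      rw [e]; exact hval q q.out (QuotientGroup.out_eq' q) hq
    rw [← hindep _ _ hrep hm h]
    have h2 : (⟨_, hm⟩ : ↥(R : Subgroup L)) = ⟨_, hval q q.out (QuotientGroup.out_eq' q) hq⟩ := Subtype.ext e
    rw [h2]
    exact hq' _
  let Fs : SubMulAction ↥(R : Subgroup L) (L ⧸ (R : Subgroup L)) := ⟨F, fun r _ hq => hRF r _ hq⟩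
  have hone : ((1 : L) : L ⧸ (R : Subgroup L)) ∈ F := by
    have hfix : (x : L) • ((1 : L) : L ⧸ (R : Subgroup L)) = ((1 : L) : L ⧸ (R : Subgroup L)) := by
      rw [MulAction.Quotient.smul_coe, smul_eq_mul, mul_one, QuotientGroup.eq, mul_one]
      exact inv_mem x.2
    refine ⟨hfix, fun h => ?_⟩
    have h1 : (1 : L)⁻¹ * (x : L) * 1 ∈ (R : Subgroup L) := by rw [inv_one, one_mul, mul_one]; exact x.2
    rw [← hindep _ 1 rfl h1 h, show (⟨_, h1⟩ : ↥(R : Subgroup L)) = x from
      Subtype.ext (by show (1 : L)⁻¹ * (x : L) * 1 = x; rw [inv_one, one_mul, mul_one]), hχx]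
  -- the only point fixed by `R` is the base point
  have hfixed : Nat.card (MulAction.fixedPoints ↥(R : Subgroup L) Fs) = 1 := by
    refine Nat.card_eq_one_iff_exists.2 ⟨⟨⟨_, hone⟩, fun r => Subtype.ext ?_⟩, ?_⟩
    · show (r : L) • ((1 : L) : L ⧸ (R : Subgroup L)) = ((1 : L) : L ⧸ (R : Subgroup L))
      rw [MulAction.Quotient.smul_coe, smul_eq_mul, mul_one, QuotientGroup.eq, mul_one]
      exact inv_mem r.2
    · rintro ⟨⟨q, hq⟩, hfix⟩
      refine Subtype.ext (Subtype.ext ?_)
      show q = ((1 : L) : L ⧸ (R : Subgroup L))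
      obtain ⟨a, rfl⟩ := QuotientGroup.mk_surjective q
      have ha : ∀ r ∈ (R : Subgroup L), a⁻¹ * r * a ∈ (R : Subgroup L) := fun r hr => by
        have h : r • ((a : L) : L ⧸ (R : Subgroup L)) = a := congrArg Subtype.val (hfix ⟨r, hr⟩)
        rw [MulAction.Quotient.smul_coe, smul_eq_mul, eq_comm, QuotientGroup.eq] at h
        rwa [mul_assoc]
      rw [QuotientGroup.eq, mul_one]
      refine inv_mem (hN a ((Subgroup.mem_normalizer_iff'').2 fun r => ⟨fun hr => ha r hr, fun hr => ?_⟩))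
      have hle : (R : Subgroup L).map (MulAut.conj a⁻¹).toMonoidHom ≤ (R : Subgroup L) := by
        rintro _ ⟨s, hs, rfl⟩
        simpa using ha s hs
      have heq := Subgroup.eq_of_le_of_card_ge hle (le_of_eq (card_map_of_injective (MulAut.conj a⁻¹).injective).symm)
      have : a⁻¹ * r * a ∈ (R : Subgroup L).map (MulAut.conj a⁻¹).toMonoidHom := by rw [heq]; exact hr
      obtain ⟨s, hs, hse⟩ := this
      have : s = r := by simpa using hse
      exact this ▸ hs
  have hodd : Nat.card Fs ≡ 1 [MOD 2] := hfixed ▸ hRp.card_modEq_card_fixedPoints Fs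
  -- the product
  have hper : ∀ o : (Quotient (MulAction.orbitRel (↥(zpowers (x : L))) (L ⧸ (R : Subgroup L)))), (x : L) • o.out = o.out ↔ per o = 1 := fun o =>
    Function.minimalPeriod_eq_one_iff_isFixedPt.symm
  let G₁ : Finset (Quotient (MulAction.orbitRel (↥(zpowers (x : L))) (L ⧸ (R : Subgroup L)))) := Finset.univ.filter fun o => o.out ∈ F
  have hprod : ∀ o : (Quotient (MulAction.orbitRel (↥(zpowers (x : L))) (L ⧸ (R : Subgroup L)))), o ∈ Finset.univ →
      χ ⟨_, QuotientGroup.out_conj_pow_minimalPeriod_mem (R : Subgroup L) (x : L) o.out⟩ =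
        if o.out ∈ F then Multiplicative.ofAdd (1 : ZMod 2) else 1 := by
    intro o _
    by_cases hfx : (x : L) • o.out = o.out
    · have h1 : o.out.out⁻¹ * (x : L) * o.out.out ∈ (R : Subgroup L) :=
        hval o.out _ (QuotientGroup.out_eq' _) hfx
      have e : ∀ h, (⟨o.out.out⁻¹ * (x : L) ^ (per o) * o.out.out, h⟩ : ↥(R : Subgroup L)) = ⟨_, h1⟩ :=
        fun h => Subtype.ext (by
          show o.out.out⁻¹ * (x : L) ^ (per o) * o.out.out = _
          rw [(hper o).1 hfx, pow_one])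
      rw [e]
      split_ifs with hF
      · exact hF.2 h1
      · exact eq_one_of_ne _ fun hu => hF ⟨hfx, fun _ => hu⟩
    · rw [if_neg (fun hF : o.out ∈ F => hfx hF.1)]
      have hp2 : per o = 2 := by
        have hd : per o ∣ 2 := Function.IsPeriodicPt.minimalPeriod_dvd (by
          show ((fun q : L ⧸ (R : Subgroup L) => (x : L) • q)^[2]) o.out = o.out
          show (x : L) • (x : L) • o.out = o.out
          rw [smul_smul, hxx, one_smul])
        exact ((Nat.dvd_prime Nat.prime_two).1 hd).resolve_left fun h => hfx ((hper o).2 h)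
      have e : ∀ h, (⟨o.out.out⁻¹ * (x : L) ^ (per o) * o.out.out, h⟩ : ↥(R : Subgroup L)) = 1 :=
        fun h => Subtype.ext (by
          show o.out.out⁻¹ * (x : L) ^ (per o) * o.out.out = 1
          rw [hp2, pow_two, hxx, mul_one, inv_mul_cancel])
      rw [e, map_one]
  replace hformula := hformula.trans (Finset.prod_congr rfl hprod)
  rw [Finset.prod_ite, Finset.prod_const_one, mul_one, Finset.prod_const] at hformula
  -- fixed orbits correspond to fixed points
  have horb : ∀ q : L ⧸ (R : Subgroup L), (x : L) • q = q →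
      (Quotient.mk _ q : (Quotient (MulAction.orbitRel (↥(zpowers (x : L))) (L ⧸ (R : Subgroup L))))).out = q := by
    intro q hq
    have h : (Quotient.mk _ q : (Quotient (MulAction.orbitRel (↥(zpowers (x : L))) (L ⧸ (R : Subgroup L))))).out ∈ MulAction.orbit ↥(zpowers (x : L)) q :=
      MulAction.orbitRel_apply.1 (Quotient.exact (Quotient.out_eq (Quotient.mk _ q : (Quotient (MulAction.orbitRel (↥(zpowers (x : L))) (L ⧸ (R : Subgroup L)))))))
    obtain ⟨⟨y, hy⟩, hye⟩ := h
    rw [← hye]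
    show y • q = q
    exact (zpowers_le.2 (show (x : L) ∈ MulAction.stabilizer L q from hq)) hy
  have hcard : G₁.card = Nat.card Fs := by
    rw [← Nat.card_eq_finsetCard]
    exact Nat.card_congr
      { toFun := fun o => (⟨o.1.out, (Finset.mem_filter.1 o.2).2⟩ : Fs)
        invFun := fun q => ⟨Quotient.mk _ q.1, Finset.mem_filter.2 ⟨Finset.mem_univ _, by
          rw [horb q.1 q.2.1]; exact q.2⟩⟩
        left_inv := fun o => Subtype.ext (Quotient.out_eq _)
        right_inv := fun q => Subtype.ext (horb q.1 q.2.1) }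
  obtain ⟨m, hm⟩ : Odd G₁.card := Nat.odd_iff.2 (by rw [hcard]; exact hodd)
  change (1 : Multiplicative (ZMod 2)) = Multiplicative.ofAdd 1 ^ G₁.card at hformula
  rw [hm, pow_succ, pow_mul,
    pow_two, mul_self_eq, one_pow, one_mul] at hformula
  exact one_ne_gen hformula

/-- Let L be a finite non-abelian simple group with an involution z whose centralizer R is a Sylow 2-subgroup of L whose Frattini subgroup is the subgroup generated by z. Then R is dihedral of order 8. -/
theorem result {L : Type*} [Group L] [Finite L] [IsSimpleGroup L] (hL : ¬ IsMulCommutative L) (z : L) (hz : orderOf z = 2) (R : Sylow 2 L) (hR : (R : Subgroup L) = Subgroup.centralizer ({z} : Set L)) (hΦ : (frattini ↥(R : Subgroup L)).map (R : Subgroup L).subtype = Subgroup.zpowers z) : Nonempty (↥(R : Subgroup L) ≃* DihedralGroup 4) := by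
  haveI : Fact (Nat.Prime 2) := ⟨Nat.prime_two⟩
  obtain ⟨R₁, hR₁⟩ : ∃ R₁ : Subgroup L, R₁ = (R : Subgroup L) := ⟨_, rfl⟩
  have hzR : z ∈ (R : Subgroup L) := by rw [hR]; exact Subgroup.mem_centralizer_singleton_iff.2 rfl
  have hz1 : z ≠ 1 := fun h => by rw [h, orderOf_one] at hz; omega
  have hzz : z * z = 1 := by rw [← pow_two, ← hz, pow_orderOf_eq_one]
  have hcomm : ∀ r ∈ (R : Subgroup L), r * z = z * r := fun r hr => by
    rw [hR] at hr; exact Subgroup.mem_centralizer_singleton_iff.1 hr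
  have hzcases : ∀ w ∈ Subgroup.zpowers z, w = 1 ∨ w = z := fun w hw =>
    Cfsg.Agent.GenA.ExtraspecialTwo.mem_zpowers_two hz hw
  have hsqz : ∀ r ∈ (R : Subgroup L), r * r = 1 ∨ r * r = z := fun r hr => by
    refine hzcases _ ?_
    rw [← hΦ]
    exact ⟨⟨r, hr⟩ ^ 2, Cfsg.Agent.Solvable.Basics.pow_mem_frattini R.isPGroup' _, by simp [pow_two]⟩
  have hN : ∀ g : L, g ∈ Subgroup.normalizer ((R : Subgroup L) : Set L) → g ∈ (R : Subgroup L) := by
    intro g hg
    have hgR : ∀ r : L, r ∈ (R : Subgroup L) ↔ g * r * g⁻¹ ∈ (R : Subgroup L) := Subgroup.mem_normalizer_iff.1 hg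
    let σ : ↥(R : Subgroup L) ≃* ↥(R : Subgroup L) :=
      { toFun := fun r => ⟨g * r * g⁻¹, (hgR _).1 r.2⟩
        invFun := fun r => ⟨g⁻¹ * r * g, (hgR _).2 (by
          rw [show g * (g⁻¹ * (r : L) * g) * g⁻¹ = r by group]; exact r.2)⟩
        left_inv := fun r => Subtype.ext (by show g⁻¹ * (g * (r : L) * g⁻¹) * g = r; group)
        right_inv := fun r => Subtype.ext (by show g * (g⁻¹ * (r : L) * g) * g⁻¹ = r; group)
        map_mul' := fun a b => Subtype.ext (by show g * ((a : L) * b) * g⁻¹ = g * a * g⁻¹ * (g * b * g⁻¹); group) }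
    have hzΦ : (⟨z, hzR⟩ : ↥(R : Subgroup L)) ∈ frattini ↥(R : Subgroup L) := by
      obtain ⟨w, hw, hwz⟩ := (show z ∈ (frattini ↥(R : Subgroup L)).map (R : Subgroup L).subtype by
        rw [hΦ]; exact Subgroup.mem_zpowers z)
      rwa [show (⟨z, hzR⟩ : ↥(R : Subgroup L)) = w from Subtype.ext hwz.symm]
    have hσ : σ ⟨z, hzR⟩ ∈ frattini ↥(R : Subgroup L) := by
      have hfr : (frattini ↥(R : Subgroup L)).map σ.toMonoidHom = frattini ↥(R : Subgroup L) :=
        σ.mapSubgroup.map_radical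
      rw [← hfr]
      exact ⟨_, hzΦ, rfl⟩
    have h2 : g * z * g⁻¹ ∈ Subgroup.zpowers z := by rw [← hΦ]; exact ⟨_, hσ, rfl⟩
    rcases hzcases _ h2 with e | e
    · exact absurd (conj_eq_one_iff.1 e) hz1
    · rw [hR, Subgroup.mem_centralizer_singleton_iff]
      exact mul_inv_eq_iff_eq_mul.1 e
  have hctr : ∀ x ∈ (R : Subgroup L), x * x = 1 → (∀ r ∈ (R : Subgroup L), r * x = x * r) →
      x = 1 ∨ x = z := fun x hx hxx hxc => by
    refine hzcases _ ?_
    rw [← hΦ]
    exact ⟨⟨x, hx⟩, mem_frattini_of_central hL R hN ⟨x, hx⟩ (Subtype.ext hxx)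
      (fun r => Subtype.ext (hxc r r.2)), rfl⟩
  -- a conjugate of `z` in `R`
  obtain ⟨g, hgR, hgz⟩ : ∃ g : L, g * z * g⁻¹ ∈ (R : Subgroup L) ∧ g * z * g⁻¹ ≠ z := by
    by_contra hc
    push Not at hc
    obtain ⟨N, hN', hNodd, hcom⟩ := Cfsg.Agent.S0215.result R z hz hzR hc
    rcases hN'.eq_bot_or_eq_top with h | h
    · have hall : ∀ a : L, a ∈ (R : Subgroup L) := fun a => by
        have := hcom a
        rw [h, Subgroup.mem_bot] at this
        rw [hR, Subgroup.mem_centralizer_singleton_iff]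
        exact (mul_inv_eq_iff_eq_mul.1 (mul_inv_eq_one.1 this)).symm
      have hzc : Subgroup.zpowers z ≤ Subgroup.center L := Subgroup.zpowers_le.2
        (Subgroup.mem_center_iff.2 fun a => hcomm a (hall a))
      rcases (Subgroup.Normal.eq_bot_or_eq_top (H := Subgroup.center L) inferInstance) with e | e
      · rw [e, Subgroup.zpowers_le, Subgroup.mem_bot] at hzc
        exact hz1 hzc
      · exact hL ⟨⟨fun a b => Subgroup.mem_center_iff.1 (e ▸ Subgroup.mem_top b) a⟩⟩
    · rw [h, Subgroup.card_top] at hNodd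
      exact Nat.not_even_iff_odd.2 hNodd (even_iff_two_dvd.2 (hz ▸ orderOf_dvd_natCard z))
  set t := g * z * g⁻¹ with ht
  have htt : t * t = 1 := by rw [ht, show g * z * g⁻¹ * (g * z * g⁻¹) = g * (z * z) * g⁻¹ by group, hzz]; group
  have ht1 : t ≠ 1 := fun h => hz1 (conj_eq_one_iff.1 h)
  have hsq0 : ∀ r ∈ (R : Subgroup L), r * t = t * r → r * r = 1 := by
    intro r hr hrt
    have hm : g⁻¹ * r * g ∈ (R : Subgroup L) := by
      rw [hR, Subgroup.mem_centralizer_singleton_iff]
      calc g⁻¹ * r * g * z = g⁻¹ * (r * t) * g := by rw [ht]; group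
        _ = z * (g⁻¹ * r * g) := by rw [hrt, ht]; group
    rcases hsqz r hr with e | e
    · exact e
    · exfalso
      rcases hsqz _ hm with e' | e'
      · exact hz1 (conj_eq_one_iff.1 (show g⁻¹ * z * g⁻¹⁻¹ = 1 by
          rw [inv_inv, ← e, show g⁻¹ * (r * r) * g = g⁻¹ * r * g * (g⁻¹ * r * g) by group, e']))
      · exact hgz (show t = z by
          calc t = g * (g⁻¹ * r * g * (g⁻¹ * r * g)) * g⁻¹ := by rw [e']
            _ = r * r := by group
            _ = z := e)
  have hnc : ¬ ∀ r ∈ (R : Subgroup L), r * t = t * r := fun h =>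
    (hctr t hgR htt h).elim ht1 hgz
  -- `R` is extraspecial
  have hext : Cfsg.IsExtraspecial 2 ↥(R : Subgroup L) := by
    refine Cfsg.Agent.LargeExtra.Affine.isExtraspecial_mk R.isPGroup' hzR hz1 hcomm hsqz ?_ ?_
    · exact fun x hx hc => hctr x hx (hsq0 x hx (hc t hgR).symm) hc
    · push Not at hnc
      obtain ⟨r, hr, hrt⟩ := hnc
      exact ⟨t, hgR, r, hr, hrt⟩
  obtain ⟨s, hs, hst⟩ : ∃ s ∈ (R : Subgroup L), s * t ≠ t * s := by push Not at hnc; exact hnc
  -- commutators with `t`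
  have hmove : ∀ r ∈ (R : Subgroup L), r * t ≠ t * r → r * t = z * (t * r) := by
    intro r hr hrt
    have h1 : r * t * r⁻¹ * t⁻¹ ∈ Subgroup.zpowers z := by
      rw [← hΦ]
      obtain ⟨⟨hp, hfr, hcom⟩, -⟩ := hext
      refine ⟨⁅(⟨r, hr⟩ : ↥(R : Subgroup L)), ⟨t, hgR⟩⁆, ?_, by simp [commutatorElement_def]⟩
      rw [hfr, ← hcom]
      exact Subgroup.commutator_mem_commutator (Subgroup.mem_top _) (Subgroup.mem_top _)
    rcases hzcases _ h1 with e | e
    · exact absurd (mul_inv_eq_iff_eq_mul.1 (mul_inv_eq_one.1 e)) hrt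
    · calc r * t = r * t * r⁻¹ * t⁻¹ * (t * r) := by group
        _ = z * (t * r) := by rw [e]
  -- `C_R(t)` is elementary abelian of index two
  let R₀ : Subgroup ↥(R : Subgroup L) := Subgroup.centralizer {(⟨t, hgR⟩ : ↥(R : Subgroup L))}
  have hR₀sq : ∀ u : ↥R₀, u * u = 1 := fun u => Subtype.ext (Subtype.ext (hsq0 _ u.1.2
    (congrArg Subtype.val (Subgroup.mem_centralizer_singleton_iff.1 u.2))))
  haveI : IsMulCommutative ↥R₀ := ⟨⟨fun a b => by
    calc a * b = (a * b)⁻¹ := (inv_eq_of_mul_eq_one_right (hR₀sq _)).symm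
      _ = b⁻¹ * a⁻¹ := mul_inv_rev a b
      _ = b * a := by rw [inv_eq_of_mul_eq_one_right (hR₀sq a), inv_eq_of_mul_eq_one_right (hR₀sq b)]⟩⟩
  have hcardR : Nat.card ↥(R : Subgroup L) ≤ 2 * Nat.card ↥R₀ := by
    classical
    have h2 : ∀ r : ↥(R : Subgroup L), r ∉ R₀ → (⟨s, hs⟩ : ↥(R : Subgroup L))⁻¹ * r ∈ R₀ := by
      intro r hr
      have hrt : (r : L) * t ≠ t * r := fun h =>
        hr (Subgroup.mem_centralizer_singleton_iff.2 (Subtype.ext h))
      rw [Subgroup.mem_centralizer_singleton_iff]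
      apply Subtype.ext
      show s⁻¹ * (r : L) * t = t * (s⁻¹ * (r : L))
      calc s⁻¹ * (r : L) * t = s⁻¹ * (z * (t * r)) := by rw [mul_assoc, hmove _ r.2 hrt]
        _ = s⁻¹ * (z * (t * s)) * (s⁻¹ * (r : L)) := by group
        _ = t * (s⁻¹ * (r : L)) := by rw [← hmove s hs hst, inv_mul_cancel_left]
    calc Nat.card ↥(R : Subgroup L) ≤ Nat.card (Bool × ↥R₀) :=
          Nat.card_le_card_of_surjective
            (fun p : Bool × ↥R₀ => if p.1 then (⟨s, hs⟩ : ↥(R : Subgroup L)) * (p.2 : ↥(R : Subgroup L)) else p.2) (fun r => by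
              by_cases hr : r ∈ R₀
              · exact ⟨(false, ⟨r, hr⟩), rfl⟩
              · exact ⟨(true, ⟨_, h2 r hr⟩), mul_inv_cancel_left _ _⟩)
      _ = 2 * Nat.card ↥R₀ := by rw [Nat.card_prod]; simp
  have hsqle := Cfsg.Agent.PGroups.Extraspecial.card_sq_le_of_abelian hext R₀
  obtain ⟨n, hn, hcard⟩ := Cfsg.Agent.PGroups.Extraspecial.exists_card_eq hext
  have h8 : Nat.card ↥(R : Subgroup L) = 8 := by
    have h0 : 0 < Nat.card ↥R₀ := Nat.card_pos
    have h4 : Nat.card ↥R₀ ≤ 4 := by nlinarith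
    rw [hcard] at hcardR ⊢
    have hn1 : n ≤ 1 := by
      by_contra hlt
      have : 2 ^ 5 ≤ 2 ^ (2 * n + 1) := Nat.pow_le_pow_right (by norm_num) (by omega)
      omega
    obtain rfl : n = 1 := le_antisymm hn1 hn
    norm_num
  -- a second involution
  obtain ⟨y, hy, hyy, hyt⟩ : ∃ y ∈ (R : Subgroup L), y * y = 1 ∧ y * t ≠ t * y := by
    rcases hsqz s hs with e | e
    · exact ⟨s, hs, e, hst⟩
    · refine ⟨s * t, mul_mem hs hgR, ?_, fun h => hst (mul_right_cancel (b := t) (h.trans (mul_assoc t s t).symm))⟩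
      calc s * t * (s * t) = s * t * (z * (t * s)) := by rw [← hmove s hs hst]
        _ = s * (t * z) * (t * s) := by group
        _ = s * (z * t) * (t * s) := by rw [hcomm t hgR]
        _ = s * z * (t * t) * s := by group
        _ = z * (s * s) := by rw [htt, mul_one, hcomm s hs, mul_assoc]
        _ = 1 := by rw [e, hzz]
  have hto : orderOf (⟨t, hgR⟩ : ↥(R : Subgroup L)) = 2 :=
    orderOf_eq_prime (Subtype.ext (by simpa [pow_two] using htt)) (fun h => ht1 (congrArg Subtype.val h))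
  have hyo : orderOf (⟨y, hy⟩ : ↥(R : Subgroup L)) = 2 :=
    orderOf_eq_prime (Subtype.ext (by simpa [pow_two] using hyy)) (fun h => hyt (by
      rw [show y = 1 from congrArg Subtype.val h, one_mul, mul_one]))
  have hne : (⟨t, hgR⟩ : ↥(R : Subgroup L)) ≠ ⟨y, hy⟩ := fun h => hyt (by
    rw [show y = t from (congrArg Subtype.val h).symm])
  have ho : orderOf ((⟨t, hgR⟩ : ↥(R : Subgroup L)) * ⟨y, hy⟩) = 4 := by
    have hsq : t * y * (t * y) = z := by
      calc t * y * (t * y) = t * (y * t) * y := by group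
        _ = t * (z * (t * y)) * y := by rw [hmove y hy hyt]
        _ = t * z * t * (y * y) := by group
        _ = z * (t * t) := by rw [hcomm t hgR, hyy, mul_one, mul_assoc]
        _ = z := by rw [htt, mul_one]
    refine orderOf_eq_prime_pow (p := 2) (n := 1) (fun h => hz1 ?_) ?_
    · rw [pow_one] at h
      rw [← hsq]
      have := congrArg Subtype.val h
      simpa [pow_two] using this
    · apply Subtype.ext
      show (t * y) ^ (2 ^ (1 + 1)) = 1
      rw [show 2 ^ (1 + 1) = 2 * 2 from rfl, pow_mul, pow_two, pow_two, hsq, hzz]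
  let f := Cfsg.Agent.Involutions.Basic.dihedralHom (⟨t, hgR⟩ : ↥(R : Subgroup L)) ⟨y, hy⟩ hto hyo
  have hbij : Function.Bijective f := by
    rw [Nat.bijective_iff_injective_and_card]
    exact ⟨Cfsg.Agent.Involutions.Basic.dihedralHom_injective _ _ hto hyo hne,
      by rw [DihedralGroup.nat_card, ho, h8]⟩
  exact ⟨(MulEquiv.ofBijective f hbij).symm.trans (ho ▸ MulEquiv.refl _)⟩

end Cfsg.Agent.S5435
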