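import Cfsg.Statements.S0985

set_option autoImplicit false
open Cfsg

namespace Cfsg.Agent.S0985

/-- If the number of Sylow p-subgroups of a finite group is not congruent to 1 modulo p^k, then there are two distinct Sylow p-subgroups P and R such that the index of P ∩ R in P is at most p^(k-1). -/
theorem result {G : Type*} [Group G] [Finite G] (p k : ℕ) [Fact p.Prime] (h : ¬ Nat.card (Sylow p G) ≡ 1 [MOD p ^ k]) : ∃ P R : Sylow p G, P ≠ R ∧ ((R : Subgroup G).subgroupOf (P : Subgroup G)).index ≤ p ^ (k - 1) := by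
  classical
  by_contra hc
  push Not at hc
  apply h
  have P : Sylow p G := default
  have hp : p.Prime := Fact.out
  haveI := Fintype.ofFinite (MulAction.orbitRel.Quotient ↥(P : Subgroup G) (Sylow p G))
  rw [Nat.card_congr (MulAction.selfEquivSigmaOrbits ↥(P : Subgroup G) (Sylow p G)), Nat.card_sigma]
  have hstab : ∀ R : Sylow p G, MulAction.stabilizer ↥(P : Subgroup G) R =
      (R : Subgroup G).subgroupOf (P : Subgroup G) := fun R => by
    ext x
    rw [MulAction.mem_stabilizer_iff, Subgroup.smul_def, Sylow.smul_eq_iff_mem_normalizer,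
      Subgroup.mem_subgroupOf]
    refine ⟨fun hx => ?_, fun hx => Subgroup.le_normalizer hx⟩
    have h2 : (x : G) ∈ (P : Subgroup G) ⊓ Subgroup.normalizer (R : Set G) := ⟨x.2, hx⟩
    rw [P.2.inf_normalizer_sylow R] at h2
    exact h2.2
  have hcard : ∀ R : Sylow p G, Nat.card (MulAction.orbit ↥(P : Subgroup G) R) =
      ((R : Subgroup G).subgroupOf (P : Subgroup G)).index := fun R => by
    rw [Nat.card_congr (MulAction.orbitEquivQuotientStabilizer _ R), hstab]; rfl
  set o₀ : MulAction.orbitRel.Quotient ↥(P : Subgroup G) (Sylow p G) := Quotient.mk'' P with ho₀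
  rw [← Finset.add_sum_erase _ _ (Finset.mem_univ o₀)]
  have h1 : ∀ o : MulAction.orbitRel.Quotient ↥(P : Subgroup G) (Sylow p G),
      Nat.card (MulAction.orbit ↥(P : Subgroup G) o.out) =
        ((o.out : Subgroup G).subgroupOf (P : Subgroup G)).index := fun o => hcard _
  have hfix : o₀.out = P := by
    have : o₀.out ∈ MulAction.orbit ↥(P : Subgroup G) P :=
      MulAction.orbitRel_apply.1 (Quotient.exact' (by rw [Quotient.out_eq']))
    obtain ⟨g, hg⟩ := this
    rw [← hg]
    exact Sylow.smul_eq_iff_mem_normalizer.2 (Subgroup.le_normalizer g.2)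
  rw [h1 o₀, hfix, Subgroup.subgroupOf_self, Subgroup.index_top]
  have hdvd : p ^ k ∣ ∑ o ∈ Finset.univ.erase o₀, Nat.card (MulAction.orbit ↥(P : Subgroup G) o.out) := by
    refine Finset.dvd_sum fun o ho => ?_
    rw [h1]
    have hne : P ≠ o.out := fun he => by
      exact (Finset.mem_erase.1 ho).1 ((Quotient.out_eq' o).symm.trans (congrArg Quotient.mk'' he.symm))
    have hlt := hc P o.out hne
    obtain ⟨j, hj⟩ := P.2.index ((o.out : Subgroup G).subgroupOf (P : Subgroup G))
    rw [hj] at hlt ⊢
    have := (Nat.pow_lt_pow_iff_right hp.one_lt).1 hlt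
    exact pow_dvd_pow p (by omega)
  simpa using ((Nat.modEq_zero_iff_dvd.2 hdvd).add_left 1)

end Cfsg.Agent.S0985
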