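import Cfsg.Statements.S0989
import Mathlib
import Cfsg.Agent.Lib.SmallSimple.Basic

set_option autoImplicit false
open Cfsg

namespace Cfsg.Agent.S0989

/-- In the symmetric group on p or p + 1 letters, p a prime, the normalizer of a Sylow p-subgroup has order p * (p - 1). -/
theorem result {α : Type*} [Fintype α] [DecidableEq α] (p : ℕ) [Fact p.Prime] (hα : Fintype.card α = p ∨ Fintype.card α = p + 1) (P : Sylow p (Equiv.Perm α)) : Nat.card ↥(Subgroup.normalizer ((P : Subgroup (Equiv.Perm α)) : Set (Equiv.Perm α))) = p * (p - 1) := by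
  classical
  open Cfsg.Agent.SmallSimple.Basic in
  have hp : p.Prime := Fact.out
  have hn : p ≤ Fintype.card α ∧ Fintype.card α ≤ p + 1 := by omega
  have hcard : Nat.card (P : Subgroup (Equiv.Perm α)) = p := by
    have h1 : p ∣ (Fintype.card α).factorial := hp.dvd_factorial.2 hn.1
    rw [Cfsg.Agent.SmallSimple.Basic.card_sylow_eq P, Nat.card_perm, Nat.card_eq_fintype_card]
    suffices (Fintype.card α).factorial.factorization p = 1 by rw [this, pow_one]
    have h3 : (p.factorial).factorization p = 1 := by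
      obtain ⟨m, hm⟩ := Nat.exists_eq_succ_of_ne_zero hp.ne_zero
      have e : p.factorial = p * m.factorial := by rw [hm, Nat.factorial_succ]
      rw [e, Nat.factorization_mul hp.ne_zero (Nat.factorial_ne_zero m)]
      simp only [Finsupp.add_apply, hp.factorization_self]
      rw [Nat.factorization_eq_zero_of_not_dvd (fun h => by
        have := hp.dvd_factorial.1 h; omega)]
    rcases hα with h | h <;> rw [h]
    · exact h3
    · rw [Nat.factorial_succ, Nat.factorization_mul (Nat.succ_ne_zero p) (Nat.factorial_ne_zero p),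
        Finsupp.add_apply, h3, Nat.factorization_eq_zero_of_not_dvd]
      intro h'
      exact hp.not_dvd_one ((Nat.dvd_add_right dvd_rfl).1 h')
  haveI : Nontrivial (P : Subgroup (Equiv.Perm α)) :=
    Finite.one_lt_card_iff_nontrivial.1 (by rw [hcard]; exact hp.one_lt)
  obtain ⟨x, hx⟩ := exists_ne (1 : (P : Subgroup (Equiv.Perm α)))
  have hgen : ∀ y : (P : Subgroup (Equiv.Perm α)), y ≠ 1 → Subgroup.zpowers (y : Equiv.Perm α) = P := by
    intro y hy
    refine Subgroup.eq_of_le_of_card_ge ((Subgroup.zpowers_le).2 y.2) ?_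
    rw [Nat.card_zpowers, hcard, Subgroup.orderOf_coe,
      orderOf_eq_prime (p := p) ((congrArg (y ^ ·) hcard.symm).trans pow_card_eq_one') hy]
  have hord : ∀ y : (P : Subgroup (Equiv.Perm α)), y ≠ 1 → orderOf (y : Equiv.Perm α) = p := fun y hy => by
    rw [← Nat.card_zpowers, hgen y hy, hcard]
  have htype : ∀ y : (P : Subgroup (Equiv.Perm α)), y ≠ 1 → (y : Equiv.Perm α).cycleType = {p} := by
    intro y hy
    obtain ⟨k, hk⟩ := Equiv.Perm.cycleType_prime_order (σ := (y : Equiv.Perm α)) (by rw [hord y hy]; exact hp)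
    rw [hord y hy] at hk
    have h2 := (y : Equiv.Perm α).support.card_le_univ
    rw [← Equiv.Perm.sum_cycleType, hk] at h2
    simp only [Multiset.sum_replicate, smul_eq_mul] at h2
    have : k = 0 := by
      by_contra hk0
      have : 2 * p ≤ (k + 1) * p := Nat.mul_le_mul_right p (by omega)
      have := hp.two_le
      have : Fintype.card α ≤ p + 1 := hn.2
      nlinarith
    rw [hk, this]; rfl
  set x' : Equiv.Perm α := (x : Equiv.Perm α)
  have hC : Nat.card (Subgroup.centralizer ({x'} : Set (Equiv.Perm α))) = p := by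
    rw [Equiv.Perm.nat_card_centralizer, htype x hx]
    have : (Fintype.card α - p).factorial = 1 := Nat.factorial_eq_one.2 (by omega)
    simp [this]
  have hN : Nat.card {g : Equiv.Perm α // g * x' * g⁻¹ ∈ (P : Subgroup (Equiv.Perm α))} =
      Nat.card ↥(Subgroup.normalizer ((P : Subgroup (Equiv.Perm α)) : Set (Equiv.Perm α))) := by
    refine Nat.card_congr (Equiv.subtypeEquivRight fun g => ?_)
    constructor
    · intro hg
      rw [Subgroup.mem_normalizer_iff_map_conj_eq]
      refine Subgroup.eq_of_le_of_card_ge ?_ (Subgroup.card_map_of_injective (MulAut.conj g).injective).ge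
      rw [← hgen x hx, MonoidHom.map_zpowers, Subgroup.zpowers_le, hgen x hx]
      exact hg
    · intro hg
      exact (Subgroup.mem_normalizer_iff.1 hg x').1 x.2
  have hQ := Cfsg.Agent.SmallSimple.Basic.card_conjugating x' (fun y => y ∈ (P : Subgroup (Equiv.Perm α)))
  rw [hN, hC] at hQ
  rw [hQ]
  congr 1
  have e : {y : Equiv.Perm α // IsConj x' y ∧ y ∈ (P : Subgroup (Equiv.Perm α))} ≃
      {y : (P : Subgroup (Equiv.Perm α)) // y ≠ 1} :=
    { toFun := fun y => ⟨⟨y.1, y.2.2⟩, fun h => hx (Subtype.ext (by
        have h' : y.1 = 1 := congrArg Subtype.val h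
        exact isConj_one_left.1 (h' ▸ y.2.1 : IsConj x' 1)))⟩
      invFun := fun y => ⟨(y.1 : Equiv.Perm α), Equiv.Perm.isConj_iff_cycleType_eq.2
        (by rw [htype x hx, htype y.1 y.2]), y.1.2⟩
      left_inv := fun y => rfl
      right_inv := fun y => rfl }
  rw [Nat.card_congr e]
  haveI := Fintype.ofFinite (P : Subgroup (Equiv.Perm α))
  rw [Nat.card_eq_fintype_card, Fintype.card_subtype_compl, Fintype.card_subtype_eq,
    ← Nat.card_eq_fintype_card, hcard]

end Cfsg.Agent.S0989
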