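import Cfsg.Statements.S0990
import Mathlib
import Cfsg.Agent.Lib.SmallSimple.Basic

set_option autoImplicit false
open Cfsg

namespace Cfsg.Agent.S0990

/-- Let p be an odd prime and P a Sylow p-subgroup of the symmetric group on a finite set with at least two elements. Then P is contained in the alternating group, and twice the order of the normalizer of P inside the alternating group equals the order of the normalizer of P in the symmetric group. -/
theorem result {α : Type*} [Fintype α] [DecidableEq α] (hα : 2 ≤ Fintype.card α) (p : ℕ) [Fact p.Prime] (hp : p ≠ 2) (P : Sylow p (Equiv.Perm α)) : (P : Subgroup (Equiv.Perm α)) ≤ alternatingGroup α ∧ 2 * Nat.card ↥(Subgroup.normalizer ((((P : Subgroup (Equiv.Perm α)).subgroupOf (alternatingGroup α) : Subgroup ↥(alternatingGroup α)) : Set ↥(alternatingGroup α)))) = Nat.card ↥(Subgroup.normalizer ((P : Subgroup (Equiv.Perm α)) : Set (Equiv.Perm α))) := by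
  classical
  have hp' : p.Prime := Fact.out
  haveI : Nontrivial α := Fintype.one_lt_card_iff_nontrivial.1 hα
  have hle : (P : Subgroup (Equiv.Perm α)) ≤ alternatingGroup α := by
    intro x hx
    rw [Equiv.Perm.mem_alternatingGroup]
    obtain ⟨k, hk⟩ := P.2 ⟨x, hx⟩
    have hk' : x ^ p ^ k = 1 := congrArg Subtype.val hk
    have h1 : Equiv.Perm.sign x ^ p ^ k = 1 := by rw [← map_pow, hk', map_one]
    have hodd : Odd (p ^ k) := (hp'.odd_of_ne_two hp).pow
    rcases Int.units_eq_one_or (Equiv.Perm.sign x) with h | h
    · exact h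
    · rw [h, hodd.neg_one_pow] at h1
      exact absurd h1 (by decide)
  refine ⟨hle, ?_⟩
  set N := Subgroup.normalizer ((P : Subgroup (Equiv.Perm α)) : Set (Equiv.Perm α)) with hN
  have heq : Subgroup.normalizer ((((P : Subgroup (Equiv.Perm α)).subgroupOf (alternatingGroup α) :
      Subgroup ↥(alternatingGroup α)) : Set ↥(alternatingGroup α))) = N.subgroupOf (alternatingGroup α) := by
    ext a
    rw [Subgroup.mem_subgroupOf, hN, Subgroup.mem_normalizer_iff, Subgroup.mem_normalizer_iff]
    constructor
    · intro h y
      constructor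
      · intro hy
        exact (h ⟨y, hle hy⟩).1 hy
      · intro hy
        have hyA : y ∈ alternatingGroup α := by
          have := hle hy
          rw [Equiv.Perm.mem_alternatingGroup] at this ⊢
          rw [map_mul, map_mul, map_inv, mul_comm (Equiv.Perm.sign (a : Equiv.Perm α)),
            mul_inv_cancel_right] at this
          exact this
        exact (h ⟨y, hyA⟩).2 hy
    · intro h y
      exact h y
  rw [heq]
  haveI := (P.2 : IsPGroup p (P : Subgroup (Equiv.Perm α)))
  have hfr : alternatingGroup α ⊔ N = ⊤ := sup_comm (α := Subgroup (Equiv.Perm α)) _ _ |>.trans (Sylow.normalizer_sup_eq_top' P hle)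
  have h1 : Nat.card ↥(N.subgroupOf (alternatingGroup α)) = Nat.card ↥(alternatingGroup α ⊓ N : Subgroup (Equiv.Perm α)) := by
    rw [← Subgroup.inf_subgroupOf_left, Nat.card_congr (Subgroup.subgroupOfEquivOfLe inf_le_left).toEquiv]
  have h2 : (alternatingGroup α).relIndex N = 2 := by
    rw [← Subgroup.relIndex_sup_right, sup_comm, hfr, Subgroup.relIndex_top_right, alternatingGroup.index_eq_two]
  rw [h1, mul_comm, ← h2, ← Subgroup.inf_relIndex_right, ← Subgroup.relIndex_bot_left,
    ← Subgroup.relIndex_bot_left, Subgroup.relIndex_mul_relIndex _ _ _ bot_le inf_le_right]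

end Cfsg.Agent.S0990
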