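import Cfsg.Statements.S1016
import Cfsg.Agent.Lib.SmallSimple.FixedPoints

set_option autoImplicit false
set_option linter.style.haveILetI false
open Cfsg

namespace Cfsg.Agent.S1016

open Subgroup in
open Cfsg.Agent.SmallSimple in
private theorem case36 {G : Type*} [Group G] [Finite G] [IsSimpleGroup G]
    (hG : ¬ IsMulCommutative G) [Fact (Nat.Prime 5)] (h : Nat.card G = 1440)
    (P : Sylow 5 G) (hP : Nat.card (P : Subgroup G) = 5) (hn : Nat.card (Sylow 5 G) = 36)
    (hC : Nat.card (centralizer ((P : Subgroup G) : Set G)) = 10) : False := by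
  classical
  haveI := Fintype.ofFinite G
  haveI : IsCyclic (P : Subgroup G) := isCyclic_of_prime_card hP
  haveI : Fact (Nat.Prime 2) := ⟨by norm_num⟩
  set C := centralizer ((P : Subgroup G) : Set G) with hCdef
  set N := normalizer ((P : Subgroup G) : Set G) with hNdef
  have hN : Nat.card N = 40 := by
    have := Basic.card_normalizer_mul P
    rw [h, hn, ← hNdef] at this; omega
  obtain ⟨⟨t, htC⟩, hto⟩ := exists_prime_orderOf_dvd_card' (G := C) 2 (hC.symm ▸ by norm_num)
  rw [Subgroup.orderOf_mk] at hto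
  have ht1 : t ≠ 1 := fun e => by rw [e, orderOf_one] at hto; norm_num at hto
  have htt : t * t = 1 := by rw [← sq, ← hto, pow_orderOf_eq_one]
  have hdisj : ∀ z ∈ (P : Subgroup G), z * z = 1 → z = 1 := by
    intro z hz h2
    have hd := orderOf_dvd_natCard (⟨z, hz⟩ : (P : Subgroup G))
    rw [Subgroup.orderOf_mk, hP] at hd
    exact orderOf_eq_one_iff.1 (Nat.eq_one_of_dvd_coprimes (by norm_num : Nat.Coprime 5 2) hd
      (orderOf_dvd_of_pow_eq_one (by rw [sq]; exact h2)))
  -- `t` is the only involution of `C(P)`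
  have huniq : ∀ u ∈ C, u * u = 1 → u ≠ 1 → u = t := by
    intro u hu hu2 hu1
    have hcard : Nat.card (C ⧸ (P : Subgroup G).subgroupOf C) = 2 := by
      have h1 := relIndex_mul_relIndex ⊥ (P : Subgroup G) C bot_le (le_centralizer _)
      rw [relIndex_bot_left, relIndex_bot_left, hP, hC, relIndex, index] at h1
      omega
    have hmem : u * t⁻¹ ∈ (P : Subgroup G) := by
      have hu' : u ∉ (P : Subgroup G) := fun e => hu1 (hdisj u e hu2)
      have ht' : t⁻¹ ∉ (P : Subgroup G) := fun e =>
        ht1 (hdisj t (by simpa using inv_mem e) htt)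
      exact (mul_mem_iff_of_index_two (H := (P : Subgroup G).subgroupOf C)
        (show ((P : Subgroup G).subgroupOf C).index = 2 from hcard)
        (a := ⟨u, hu⟩) (b := ⟨t⁻¹, inv_mem htC⟩)).2 (iff_of_false hu' ht')
    have hcomm : u * t = t * u := by
      have h1 : u * t⁻¹ * t = t * (u * t⁻¹) := mem_centralizer_iff.1 htC _ hmem
      calc u * t = u * t⁻¹ * t * t := by group
        _ = t * (u * t⁻¹) * t := by rw [h1]
        _ = t * u := by group
    have : u * t⁻¹ = 1 := hdisj _ hmem (by
      rw [show t⁻¹ = t from inv_eq_of_mul_eq_one_right htt]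
      calc u * t * (u * t) = t * u * (u * t) := by rw [hcomm]
        _ = t * (u * u) * t := by group
        _ = 1 := by rw [hu2, mul_one, htt])
    exact mul_inv_eq_one.1 this
  have hNt : N ≤ centralizer ({t} : Set G) := by
    intro n hn'
    refine mem_centralizer_singleton_iff.2 (mul_inv_eq_iff_eq_mul.1 (huniq _ ?_ ?_ ?_))
    · refine mem_centralizer_iff.2 fun z hz => ?_
      have hz' : n⁻¹ * z * n ∈ (P : Subgroup G) := by
        simpa using (mem_normalizer_iff.1 (inv_mem hn') z).1 hz
      have h1 := mem_centralizer_iff.1 htC _ hz'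
      calc z * (n * t * n⁻¹) = n * (n⁻¹ * z * n * t) * n⁻¹ := by group
        _ = n * (t * (n⁻¹ * z * n)) * n⁻¹ := by rw [h1]
        _ = n * t * n⁻¹ * z := by group
    · calc n * t * n⁻¹ * (n * t * n⁻¹) = n * (t * t) * n⁻¹ := by group
        _ = 1 := by rw [htt]; group
    · intro e
      apply ht1
      calc t = n⁻¹ * (n * t * n⁻¹) * n := by group
        _ = 1 := by rw [e]; group
  set H := centralizer ({t} : Set G) with hHdef
  have hH : H ≠ ⊤ := by
    intro e
    have : t ∈ Subgroup.center G := Subgroup.mem_center_iff.2 fun g =>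
      mem_centralizer_singleton_iff.1 (show g ∈ H from e ▸ mem_top g)
    rw [Basic.center_eq_bot hG] at this
    exact ht1 (Subgroup.mem_bot.1 this)
  have hH40 : Nat.card H = 40 := by
    have h1 := relIndex_mul_relIndex ⊥ N H bot_le hNt
    rw [relIndex_bot_left, relIndex_bot_left, hN] at h1
    have h2 := FixedPoints.relIndex_normalizer_mod P (le_normalizer.trans hNt)
    rw [← hNdef] at h2
    have h3 := Basic.two_mul_card_dvd_factorial hG H hH
    have h4 := card_mul_index H
    rw [h] at h3 h4
    have h5 : 1 < H.index := Nat.lt_of_le_of_ne (Nat.one_le_iff_ne_zero.2 H.index_ne_zero_of_finite)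
      (fun e => hH (index_eq_one.1 e.symm))
    generalize N.relIndex H = r at h1 h2
    rw [← h1] at h4 ⊢
    have key : ∀ r ∈ Finset.range 37, ∀ i ∈ Nat.divisors 36, r % 5 = 1 → 1 < i → r * i = 36 →
        r = 1 ∨ i = 6 := by decide +kernel
    have h6 : r * H.index = 36 := by nlinarith [h4]
    rcases key r (Finset.mem_range.2 (by nlinarith [h6])) H.index
        (Nat.mem_divisors.2 ⟨⟨r, by rw [← h6, mul_comm]⟩, by norm_num⟩) h2 h5 h6 with rfl | h7
    · rfl
    · rw [h7] at h3; norm_num at h3
  set J := {y : G // IsConj t y ∧ y ∈ N}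
  have hfix := FixedPoints.card_fixed_mul P t
  rw [← hNdef, hN, ← hHdef, hH40] at hfix
  have hF : Nat.card {Q : Sylow 5 G // t • Q = Q} = Nat.card J :=
    Nat.eq_of_mul_eq_mul_left (by norm_num) hfix
  have hfour := FixedPoints.four_dvd_moved hG (α := Sylow 5 G) htt
  rw [hn, hF] at hfour
  have hJ2 : ∀ y : J, (y : G) * y = 1 ∧ (y : G) ≠ 1 := by
    intro y
    obtain ⟨g, hg⟩ := isConj_iff.1 y.2.1
    rw [← hg]
    refine ⟨?_, fun e => ht1 ?_⟩
    · calc g * t * g⁻¹ * (g * t * g⁻¹) = g * (t * t) * g⁻¹ := by group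
        _ = 1 := by rw [htt]; group
    · calc t = g⁻¹ * (g * t * g⁻¹) * g := by group
        _ = 1 := by rw [e]; group
  have hinv : ∀ y : J, (y : G) ∉ C → ∀ z ∈ (P : Subgroup G), (y : G) * z * (y : G)⁻¹ = z⁻¹ := by
    intro y hy z hz
    have hyz : (y : G) * z * (y : G)⁻¹ ∈ (P : Subgroup G) := (mem_normalizer_iff.1 y.2.2 z).1 hz
    have hcomm : (y : G) * z * (y : G)⁻¹ * z = z * ((y : G) * z * (y : G)⁻¹) :=
      congrArg Subtype.val (mul_comm' (⟨_, hyz⟩ : (P : Subgroup G)) ⟨z, hz⟩)
    by_contra hne
    have hw : (y : G) * z * (y : G)⁻¹ * z ≠ 1 := fun e => hne (mul_eq_one_iff_eq_inv.1 e)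
    have hyi : (y : G)⁻¹ = y := inv_eq_of_mul_eq_one_right (hJ2 y).1
    set w := (y : G) * z * (y : G)⁻¹ * z with hwdef
    have hwP : w ∈ (P : Subgroup G) := mul_mem hyz hz
    have hyw : (y : G) * w = w * y := by
      calc (y : G) * w = (y : G) * y * (z * (y : G)⁻¹ * z) := by rw [hwdef]; group
        _ = z * (y : G) * z := by rw [(hJ2 y).1, one_mul, hyi]
        _ = z * ((y : G) * z * (y : G)⁻¹) * y := by group
        _ = w * y := by rw [← hcomm]
    refine hy (mem_centralizer_iff.2 fun v hv => ?_)
    have hgen : zpowers w = (P : Subgroup G) := Centralize.sylow_le_iff_mem hwP hw hP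
    rw [← hgen] at hv
    obtain ⟨k, rfl⟩ := mem_zpowers_iff.1 hv
    exact ((show Commute (y : G) w from hyw).zpow_right k).eq.symm
  have hJ11 : Nat.card J ≤ 11 := by
    by_cases hall : ∀ y : J, (y : G) ∈ C
    · haveI : Subsingleton J := ⟨fun a b => Subtype.ext ((huniq _ (hall a) (hJ2 a).1 (hJ2 a).2).trans
        (huniq _ (hall b) (hJ2 b).1 (hJ2 b).2).symm)⟩
      exact (Finite.card_le_one_iff_subsingleton.2 inferInstance).trans (by norm_num)
    push Not at hall
    obtain ⟨u₀, hu₀⟩ := hall
    let F : J → Option C := fun y => if hy : (y : G) ∈ C then none else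
      some ⟨(u₀ : G) * y, mem_centralizer_iff.2 fun z hz => by
        have h1 := hinv y hy z hz
        have h2 := hinv u₀ hu₀ z⁻¹ (inv_mem hz)
        rw [inv_inv] at h2
        have h3 : (u₀ : G) * y * z * ((u₀ : G) * y)⁻¹ = z := by
          calc (u₀ : G) * y * z * ((u₀ : G) * y)⁻¹
              = (u₀ : G) * ((y : G) * z * (y : G)⁻¹) * (u₀ : G)⁻¹ := by group
            _ = z := by rw [h1, h2]
        exact (mul_inv_eq_iff_eq_mul.1 h3).symm⟩
    have hFi : Function.Injective F := by
      intro a b hab
      by_cases ha : (a : G) ∈ C <;> by_cases hb : (b : G) ∈ C <;>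
        simp only [F, dif_pos, dif_neg, ha, hb, not_false_iff, reduceCtorEq, Option.some.injEq,
          Subtype.mk.injEq, mul_right_inj] at hab
      · exact Subtype.ext ((huniq _ ha (hJ2 a).1 (hJ2 a).2).trans (huniq _ hb (hJ2 b).1 (hJ2 b).2).symm)
      · exact Subtype.ext hab
    refine (Nat.card_le_card_of_injective F hFi).trans ?_
    rw [Finite.card_option, hC]
  have hJmod : Nat.card J % 5 = 1 := by
    letI : MulAction (P : Subgroup G) J :=
      { smul := fun z y => ⟨(z : G) * y * (z : G)⁻¹, y.2.1.trans (isConj_iff.2 ⟨z, rfl⟩),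
          N.mul_mem (N.mul_mem (le_normalizer z.2) y.2.2) (inv_mem (le_normalizer z.2))⟩
        one_smul := fun y => Subtype.ext (by
          change ((1 : (P : Subgroup G)) : G) * y * ((1 : (P : Subgroup G)) : G)⁻¹ = y
          simp)
        mul_smul := fun z z' y => Subtype.ext (by
          change ((z * z' : (P : Subgroup G)) : G) * y * ((z * z' : (P : Subgroup G)) : G)⁻¹ =
            (z : G) * ((z' : G) * y * (z' : G)⁻¹) * (z : G)⁻¹
          rw [Subgroup.coe_mul]; group) }
    have hm := P.isPGroup'.card_modEq_card_fixedPoints J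
    have htJ : t ∈ N := centralizer_le_normalizer _ htC
    have hfp : Nat.card (MulAction.fixedPoints (P : Subgroup G) J) = 1 := by
      refine Nat.card_eq_one_iff_unique.2 ⟨⟨fun a b => Subtype.ext (Subtype.ext ?_)⟩,
        ⟨⟨⟨t, IsConj.refl t, htJ⟩, fun z => Subtype.ext ?_⟩⟩⟩
      · have hC' : ∀ y : MulAction.fixedPoints (P : Subgroup G) J, ((y : J) : G) ∈ C := fun y =>
          mem_centralizer_iff.2 fun z hz =>
            mul_inv_eq_iff_eq_mul.1 (congrArg Subtype.val (y.2 ⟨z, hz⟩))
        exact (huniq _ (hC' a) (hJ2 a.1).1 (hJ2 a.1).2).trans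
          (huniq _ (hC' b) (hJ2 b.1).1 (hJ2 b.1).2).symm
      · exact mul_inv_eq_iff_eq_mul.2 (mem_centralizer_iff.1 htC _ z.2)
    rw [hfp, Nat.ModEq] at hm
    omega
  omega

/-- No finite simple group has order 1440 = 2^5 * 3^2 * 5. -/
theorem result {G : Type*} [Group G] [Finite G] [IsSimpleGroup G] : Nat.card G ≠ 1440 := by
  intro h
  open Cfsg.Agent.SmallSimple in
  haveI : Fact (Nat.Prime 5) := ⟨by norm_num⟩
  have hG : ¬ IsMulCommutative G := Basic.not_comm_of_not_prime (by rw [h]; norm_num)
  obtain ⟨hd, hmod, h1, hfac⟩ := Basic.sylow_count (p := 5) hG (by rw [h]; norm_num) (a := 1) (m := 288)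
    (by rw [h]; norm_num) (by norm_num)
  have key : ∀ x ∈ Nat.divisors 288, x % 5 = 1 → 1 < x → x = 6 ∨ x = 16 ∨ x = 36 ∨ x = 96 := by
    decide +kernel
  have P : Sylow 5 G := default
  have hP : Nat.card (P : Subgroup G) = 5 := by
    simpa using Basic.card_sylow_eq_pow (a := 1) (m := 288) (by rw [h]; norm_num) (by norm_num) P
  obtain ⟨e, he, he1, hN, hC5⟩ := Centralize.centralizer_data hG P hP
  have hNc := Basic.card_normalizer_mul P
  rw [h, hN] at hNc
  generalize hC : Nat.card (Subgroup.centralizer ((P : Subgroup G) : Set G)) = c at hNc hC5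
  have key2 : ∀ e ∈ Nat.divisors 4, ∀ n ∈ ({6, 16, 36, 96} : Finset ℕ), ∀ c ∈ Nat.divisors 1440,
      1 < e → 5 ∣ c → c * e * n = 1440 →
        n = 6 ∨ (n = 16 ∧ c = 45) ∨ (n = 36 ∧ c = 20) ∨ (n = 36 ∧ c = 10) := by decide +kernel
  haveI : Fact (Nat.Prime 2) := ⟨by norm_num⟩
  haveI : Fact (Nat.Prime 3) := ⟨by norm_num⟩
  rcases key2 e (Nat.mem_divisors.2 ⟨he, by norm_num⟩) _
      (by simpa using key _ (Nat.mem_divisors.2 ⟨hd, by norm_num⟩) hmod h1) c
      (Nat.mem_divisors.2 ⟨⟨_, (hNc.symm.trans (mul_assoc _ _ _))⟩, by norm_num⟩) he1 hC5 hNc with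
    hn | ⟨hn, hc⟩ | ⟨hn, hc⟩ | ⟨hn, hc⟩
  · rw [hn, h] at hfac; norm_num [Nat.factorial] at hfac
  · obtain ⟨R⟩ : Nonempty (Sylow 3 (Subgroup.centralizer ((P : Subgroup G) : Set G))) := inferInstance
    have hR := Basic.card_sylow_eq_pow (a := 2) (m := 5) (by rw [hC, hc]; norm_num) (by norm_num) R
    have hd2 := FixedPoints.dvd_factorial_orbits hG P hP
      (R := (R : Subgroup _).map (Subgroup.centralizer ((P : Subgroup G) : Set G)).subtype)
      (Subgroup.map_subtype_le _)
      (by rw [Subgroup.card_map_of_injective (Subgroup.subtype_injective _), hR]; norm_num)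
    rw [Subgroup.card_map_of_injective (Subgroup.subtype_injective _), hR, hn] at hd2
    norm_num [Nat.factorial] at hd2
  · have hC' : ∀ P' : Sylow 5 G,
        Nat.card (Subgroup.centralizer ((P' : Subgroup G) : Set G)) = 20 := by
      intro P'
      obtain ⟨e', he', he1', hN', hC5'⟩ := Centralize.centralizer_data hG P' (by
        rw [Basic.card_sylow_eq P', ← Basic.card_sylow_eq P, hP])
      obtain ⟨g, rfl⟩ := MulAction.exists_smul_eq G P P'
      rw [← hc, ← hC]
      refine Nat.card_congr ((MulAut.conj g).toEquiv.subtypeEquiv fun y => ?_).symm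
      simp only [Subgroup.mem_centralizer_iff, SetLike.mem_coe, MulEquiv.toEquiv_eq_coe,
        EquivLike.coe_coe, MulAut.conj_apply, Sylow.coe_subgroup_smul,
        Subgroup.mem_pointwise_smul_iff_inv_smul_mem, MulAut.smul_def, MulAut.inv_apply,
        MulAut.conj_symm_apply]
      constructor
      · intro hy v hv
        have := congrArg (MulAut.conj g) (hy _ hv)
        simpa [MulAut.conj_apply, mul_assoc] using this
      · intro hy v hv
        have := congrArg (MulAut.conj g).symm (hy (MulAut.conj g v) (by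
          simpa [MulAut.conj_apply, mul_assoc] using hv))
        simpa [MulAut.conj_apply, mul_assoc] using this
    have hNP : ∀ P' : Sylow 5 G,
        Nat.card (Subgroup.normalizer ((P' : Subgroup G) : Set G)) = 40 := fun P' => by
      have := Basic.card_normalizer_mul P'
      rw [h, hn] at this; omega
    have hrel : ∀ P' : Sylow 5 G, (Subgroup.centralizer ((P' : Subgroup G) : Set G)).relIndex
        (Subgroup.normalizer ((P' : Subgroup G) : Set G)) = 2 := fun P' => by
      have h2 := Subgroup.relIndex_mul_relIndex ⊥ (Subgroup.centralizer ((P' : Subgroup G) : Set G))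
        (Subgroup.normalizer ((P' : Subgroup G) : Set G)) bot_le (Subgroup.centralizer_le_normalizer _)
      rw [Subgroup.relIndex_bot_left, Subgroup.relIndex_bot_left, hNP, hC'] at h2
      omega
    obtain ⟨z, hz1, -, hCz, P₂, hne, hP₂⟩ := Centralize.exists_central_two_sylows (q := 2) (a := 2)
      (by norm_num) (hn ▸ by norm_num) P hP (by rw [hC, hc]; norm_num)
      (fun P' => by rw [hrel]; norm_num)
    set H := Subgroup.centralizer ({z} : Set G) with hHdef
    have hH : H ≠ ⊤ := by
      intro e
      have : z ∈ Subgroup.center G := Subgroup.mem_center_iff.2 fun g =>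
        Subgroup.mem_centralizer_singleton_iff.1 (show g ∈ H from e ▸ Subgroup.mem_top g)
      rw [Basic.center_eq_bot hG] at this
      exact hz1 (Subgroup.mem_bot.1 this)
    obtain ⟨i, m, hcard, hi, hi1, hin, hcm, hmN, hidx⟩ :=
      Centralize.shape_of_two_sylows P P₂ hne H hH hCz hP₂ hP
    rw [hn] at hin
    rw [hC, hc] at hcm
    rw [hNP] at hmN
    rw [h] at hidx
    have key3 : ∀ i ∈ Finset.range 36, ∀ m ∈ Nat.divisors 40, i % 5 = 1 → 1 < i → 20 ∣ m →
        i * m ∣ 1440 → i * m = 120 ∨ i * m = 240 := by decide +kernel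
    have hfac2 := Basic.two_mul_card_dvd_factorial hG H hH
    rcases key3 i (Finset.mem_range.2 hin) m (Nat.mem_divisors.2 ⟨hmN, by norm_num⟩) hi hi1 hcm
        ⟨H.index, by rw [← hidx, mul_comm]⟩ with h120 | h240
    · have hPH : (P : Subgroup G) ≤ H := by
        haveI : IsCyclic (P : Subgroup G) := isCyclic_of_prime_card hP
        exact (Subgroup.le_centralizer _).trans hCz
      have hle : H ⊓ Subgroup.normalizer ((P : Subgroup G) : Set G) ≤
          Subgroup.centralizer ((P : Subgroup G) : Set G) := by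
        have h20 : 20 ∣ Nat.card ↥(H ⊓ Subgroup.normalizer ((P : Subgroup G) : Set G)) := by
          rw [← hC' P]
          exact Subgroup.card_dvd_of_le (le_inf hCz (Subgroup.centralizer_le_normalizer _))
        have h40 : Nat.card ↥(H ⊓ Subgroup.normalizer ((P : Subgroup G) : Set G)) ∣ 40 := by
          rw [← hNP P]
          exact Subgroup.card_dvd_of_le inf_le_right
        have h2 := Subgroup.relIndex_mul_relIndex ⊥
          (H ⊓ Subgroup.normalizer ((P : Subgroup G) : Set G)) H bot_le inf_le_left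
        rw [Subgroup.relIndex_bot_left, Subgroup.relIndex_bot_left, Subgroup.inf_relIndex_left,
          hcard, h120] at h2
        have h3 := FixedPoints.relIndex_normalizer_mod P hPH
        generalize hk : Nat.card ↥(H ⊓ Subgroup.normalizer ((P : Subgroup G) : Set G)) = k at h20 h40 h2
        have hk20 : k = 20 := by
          have hk' : k = 20 ∨ k = 40 := by
            obtain ⟨j, rfl⟩ := h20
            have := Nat.le_of_dvd (by norm_num) h40
            have hj2 : j ≤ 2 := by omega
            interval_cases j <;> omega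
          rcases hk' with h4 | h4
          · exact h4
          · subst h4; omega
        intro u hu
        have heq : Subgroup.centralizer ((P : Subgroup G) : Set G) =
            H ⊓ Subgroup.normalizer ((P : Subgroup G) : Set G) :=
          Subgroup.eq_of_le_of_card_ge (le_inf hCz (Subgroup.centralizer_le_normalizer _))
            (by rw [hk, hk20, hC'])
        exact heq ▸ hu
      have h3 := FixedPoints.dvd_card_centralizer (r := 3) (a := 1) (l := 40) (by norm_num) P hPH hle
        (by rw [hcard, h120]; norm_num) (by norm_num) (by norm_num)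
      rw [hC, hc] at h3
      norm_num at h3
    · rw [h240] at hidx
      rw [h, show H.index = 6 by omega] at hfac2
      norm_num [Nat.factorial] at hfac2
  · exact case36 hG h P hP hn (hC.trans hc)

end Cfsg.Agent.S1016
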