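import Cfsg.Statements.S1017
import Cfsg.Agent.Lib.SmallSimple.Centralize

set_option autoImplicit false
open Cfsg

namespace Cfsg.Agent.S1017

/-- No finite simple group has order 2016 = 2^5 * 3^2 * 7. -/
theorem result {G : Type*} [Group G] [Finite G] [IsSimpleGroup G] : Nat.card G ≠ 2016 := by
  intro h
  open Cfsg.Agent.SmallSimple in
  haveI : Fact (Nat.Prime 7) := ⟨by norm_num⟩
  have hG : ¬ IsMulCommutative G := Basic.not_comm_of_not_prime (by rw [h]; norm_num)
  obtain ⟨hd, hmod, h1, -⟩ := Basic.sylow_count (p := 7) hG (by rw [h]; norm_num) (a := 1) (m := 288)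
    (by rw [h]; norm_num) (by norm_num)
  have key : ∀ x ∈ Nat.divisors 288, x % 7 = 1 → 1 < x → x = 8 ∨ x = 36 ∨ x = 288 := by decide +kernel
  have P : Sylow 7 G := default
  have hP : Nat.card (P : Subgroup G) = 7 := by
    simpa using Basic.card_sylow_eq_pow (a := 1) (m := 288) (by rw [h]; norm_num) (by norm_num) P
  obtain ⟨e, he, he1, hN, hC7⟩ := Centralize.centralizer_data hG P hP
  have hNc := Basic.card_normalizer_mul P
  rw [h, hN] at hNc
  generalize hC : Nat.card (Subgroup.centralizer ((P : Subgroup G) : Set G)) = c at hNc hC7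
  have key2 : ∀ e ∈ Nat.divisors 6, ∀ n ∈ ({8, 36, 288} : Finset ℕ), ∀ c ∈ Nat.divisors 2016,
      1 < e → 7 ∣ c → c * e * n = 2016 → (n = 8 ∧ c ≠ 7) ∨ (n = 36 ∧ c = 28) := by decide +kernel
  rcases key2 e (Nat.mem_divisors.2 ⟨he, by norm_num⟩) _
      (by simpa using key _ (Nat.mem_divisors.2 ⟨hd, by norm_num⟩) hmod h1) c
      (Nat.mem_divisors.2 ⟨⟨_, (hNc.symm.trans (mul_assoc _ _ _))⟩, by norm_num⟩) he1 hC7 hNc with
    ⟨hn, hc⟩ | ⟨hn, hc⟩
  · exact hc (hC ▸ Centralize.card_centralizer_of_le hG (by norm_num) P hP (by omega))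
  · haveI : Fact (Nat.Prime 2) := ⟨by norm_num⟩
    exact Centralize.false_of_two_sylows hG (by norm_num) (q := 2) (a := 2) (by norm_num) h hn
      (by norm_num) P hP (hC.trans hc) (by norm_num) (by norm_num) (by decide +kernel)

end Cfsg.Agent.S1017
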