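import Cfsg.Statements.S0976
import Cfsg.Agent.Lib.SmallSimple.Centralize
import Cfsg.Agent.Lib.SmallSimple.IndexTwo

set_option autoImplicit false
set_option linter.style.haveILetI false
open Cfsg

namespace Cfsg.Agent.S0976

open Subgroup in
open Cfsg.Agent.SmallSimple in
private theorem case64 {G : Type*} [Group G] [Finite G] [IsSimpleGroup G]
    (hG : ¬ IsMulCommutative G) [Fact (Nat.Prime 7)] [Fact (Nat.Prime 3)] (h : Nat.card G = 4032)
    (P : Sylow 7 G) (hP : Nat.card (P : Subgroup G) = 7) (hn : Nat.card (Sylow 7 G) = 64)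
    (hC : Nat.card (centralizer ((P : Subgroup G) : Set G)) = 21) : False := by
  classical
  haveI := Fintype.ofFinite G
  haveI : IsCyclic (P : Subgroup G) := isCyclic_of_prime_card hP
  obtain ⟨⟨x, hx⟩, hxo⟩ := exists_prime_orderOf_dvd_card' (G := (P : Subgroup G)) 7 (hP.symm ▸ dvd_rfl)
  rw [Subgroup.orderOf_mk] at hxo
  obtain ⟨⟨y, hy⟩, hyo⟩ := exists_prime_orderOf_dvd_card'
    (G := centralizer ((P : Subgroup G) : Set G)) 3 (hC.symm ▸ by norm_num)
  rw [Subgroup.orderOf_mk] at hyo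
  have hy1 : y ≠ 1 := fun e => by rw [e, orderOf_one] at hyo; norm_num at hyo
  have hPy : (P : Subgroup G) ≤ centralizer ({y} : Set G) := fun z hz =>
    mem_centralizer_singleton_iff.2 (mem_centralizer_iff.1 hy z hz)
  have hN : Nat.card (normalizer ((P : Subgroup G) : Set G)) = 63 := by
    have := Basic.card_normalizer_mul P
    rw [h, hn] at this; omega
  obtain ⟨T, hT⟩ := (IsPGroup.of_card (n := 1) (by rw [Nat.card_zpowers, hyo, pow_one]) :
    IsPGroup 3 (zpowers y)).exists_le_sylow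
  have hyT : y ∈ (T : Subgroup G) := hT (mem_zpowers y)
  have hTc : Nat.card (T : Subgroup G) = 9 :=
    Basic.card_sylow_eq_pow (a := 2) (m := 448) (by rw [h]; norm_num) (by norm_num) T
  haveI : IsMulCommutative (T : Subgroup G) :=
    IsPGroup.isMulCommutative_of_card_eq_prime_sq (p := 3) (by rw [hTc]; norm_num)
  have hTy : (T : Subgroup G) ≤ centralizer ({y} : Set G) := fun z hz =>
    mem_centralizer_singleton_iff.2
      (congrArg Subtype.val (mul_comm' (⟨z, hz⟩ : (T : Subgroup G)) ⟨y, hyT⟩))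
  set H := centralizer ({y} : Set G) with hHdef
  have hH : H ≠ ⊤ := by
    intro e
    have : y ∈ Subgroup.center G := Subgroup.mem_center_iff.2 fun g =>
      mem_centralizer_singleton_iff.1 (show g ∈ H from e ▸ mem_top g)
    rw [Basic.center_eq_bot hG] at this
    exact hy1 (Subgroup.mem_bot.1 this)
  have h9 : 9 ∣ Nat.card H := hTc ▸ card_dvd_of_le hTy
  have h7 : 7 ∣ Nat.card H := hP ▸ card_dvd_of_le hPy
  have huniq : ∀ P' : Sylow 7 G, (P' : Subgroup G) ≤ H → P' = P := by
    intro P' hP'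
    by_contra hne
    have hle : centralizer ((P : Subgroup G) : Set G) ≤ H := by
      -- `C(P)` has order 21 and is generated by `P` and `y`
      have hsup : (P : Subgroup G) ⊔ zpowers y = centralizer ((P : Subgroup G) : Set G) := by
        refine eq_of_le_of_card_ge (sup_le (le_centralizer _) (zpowers_le.2 hy)) ?_
        rw [hC]
        refine Nat.le_of_dvd Nat.card_pos ?_
        exact (show Nat.Coprime 7 3 by norm_num).mul_dvd_of_dvd_of_dvd
          (hP.symm.dvd.trans (card_dvd_of_le (le_sup_left : (P : Subgroup G) ≤ (P : Subgroup G) ⊔ zpowers y)))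
          (((Nat.card_zpowers y).trans hyo).symm.dvd.trans
            (card_dvd_of_le (le_sup_right : zpowers y ≤ (P : Subgroup G) ⊔ zpowers y)))
      rw [← hsup]
      exact sup_le hPy (zpowers_le.2 (mem_centralizer_singleton_iff.2 rfl))
    obtain ⟨i, m, hcard, hi, hi1, hin, hcm, hmN, hidx⟩ :=
      Centralize.shape_of_two_sylows P P' hne H hH hle hP' hP
    rw [hn] at hin; rw [hC] at hcm; rw [hN] at hmN; rw [h] at hidx; rw [hcard] at h9
    have key : ∀ i ∈ Finset.range 64, ∀ m ∈ Nat.divisors 63, i % 7 = 1 → 1 < i → 21 ∣ m →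
        9 ∣ i * m → i * m ∣ 4032 → 4032 ≤ 9 * (i * m) := by decide +kernel
    have hb := key i (Finset.mem_range.2 hin) m (Nat.mem_divisors.2 ⟨hmN, by norm_num⟩) hi hi1 hcm h9
      ⟨H.index, by rw [← hidx, mul_comm]⟩
    have hle9 : H.index ≤ 9 := by
      rw [← hidx] at hb
      exact Nat.le_of_mul_le_mul_right hb (hcard ▸ Nat.card_pos)
    exact hy1 (Centralize.eq_one_of_index_le hG (by norm_num) H hH hle9 hxo
      (mem_centralizer_singleton_iff.1 (hPy hx)) (by rw [hyo]; norm_num))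
  have hHN : H ≤ normalizer ((P : Subgroup G) : Set G) := fun g hg =>
    Sylow.smul_eq_iff_mem_normalizer.1 (huniq (g • P) (by
      intro z hz
      obtain ⟨w, hw, rfl⟩ := hz
      exact H.mul_mem (H.mul_mem hg (hPy hw)) (H.inv_mem hg)))
  have hH63 : Nat.card H = 63 := Nat.dvd_antisymm (hN ▸ card_dvd_of_le hHN)
    ((show Nat.Coprime 9 7 by norm_num).mul_dvd_of_dvd_of_dvd h9 h7)
  have hHeq : H = normalizer ((P : Subgroup G) : Set G) :=
    eq_of_le_of_card_ge hHN (by rw [hH63, hN])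
  -- `y` is not conjugate to its inverse
  have hinv : ∀ g : G, g * y * g⁻¹ ≠ y⁻¹ := by
    intro g hg
    have hgH : (g • P : Sylow 7 G) = P := by
      refine huniq _ ?_
      rintro z ⟨w, hw, rfl⟩
      refine mem_centralizer_singleton_iff.2 ?_
      have hwy : w * y⁻¹ = y⁻¹ * w :=
        (Commute.inv_right (mem_centralizer_singleton_iff.1 (hPy hw))).eq
      have hy' : g⁻¹ * y * g = y⁻¹ := by
        have := congrArg (fun z => g⁻¹ * z⁻¹ * g) hg
        simp only [inv_inv] at this
        rw [← this]; group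
      change g * w * g⁻¹ * y = y * (g * w * g⁻¹)
      calc g * w * g⁻¹ * y = g * (w * (g⁻¹ * y * g)) * g⁻¹ := by group
        _ = g * ((g⁻¹ * y * g) * w) * g⁻¹ := by rw [hy', hwy]
        _ = y * (g * w * g⁻¹) := by group
    have hg' : g ∈ H := hHeq ▸ Sylow.smul_eq_iff_mem_normalizer.1 hgH
    rw [mul_inv_eq_iff_eq_mul.2 (mem_centralizer_singleton_iff.1 hg')] at hg
    have : y ^ 2 = 1 := by rw [sq]; nth_rw 1 [hg]; exact inv_mul_cancel y
    have := orderOf_dvd_of_pow_eq_one this
    rw [hyo] at this; norm_num at this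
  have hnot : ¬ (T : Subgroup G) ≤ centralizer ((P : Subgroup G) : Set G) := fun hle => by
    have := card_dvd_of_le hle
    rw [hTc, hC] at this; norm_num at this
  set N := normalizer ((T : Subgroup G) : Set G) with hNdef
  have hNH : N ⊓ H = (T : Subgroup G) := by
    have h1 : (T : Subgroup G) ≤ N ⊓ H := le_inf le_normalizer hTy
    have h2 : Nat.card ↥(N ⊓ H) ∣ 63 := hH63 ▸ card_dvd_of_le inf_le_right
    have h3 : 9 ∣ Nat.card ↥(N ⊓ H) := hTc ▸ card_dvd_of_le h1
    refine (eq_of_le_of_card_ge h1 ?_).symm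
    have hcases : ∀ d ∈ Nat.divisors 63, 9 ∣ d → d = 9 ∨ d = 63 := by decide +kernel
    rcases hcases _ (Nat.mem_divisors.2 ⟨h2, by norm_num⟩) h3 with h4 | h4
    · rw [hTc, h4]
    · exfalso
      have heq : N ⊓ H = H := eq_of_le_of_card_ge inf_le_right (by rw [h4, hH63])
      refine hnot fun t ht => mem_centralizer_iff.2 fun w hw => ?_
      have hwN : w ∈ N := (inf_eq_right.1 heq) (hPy hw)
      have htNP : t ∈ normalizer ((P : Subgroup G) : Set G) := hHN (hTy ht)
      have c1 : w * t * w⁻¹ * t⁻¹ ∈ (T : Subgroup G) :=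
        mul_mem ((mem_normalizer_iff.1 hwN t).1 ht) (inv_mem ht)
      have c2 : w * t * w⁻¹ * t⁻¹ ∈ (P : Subgroup G) := by
        have := mul_mem hw ((mem_normalizer_iff.1 htNP w⁻¹).1 (inv_mem hw))
        convert this using 1; group
      have hdisj : Disjoint (T : Subgroup G) (P : Subgroup G) :=
        disjoint_of_coprime_natCard (by rw [hTc, hP]; norm_num)
      exact mul_inv_eq_iff_eq_mul.1 (mul_inv_eq_one.1 (Subgroup.disjoint_def.1 hdisj c1 c2))
  let f : N → (T : Subgroup G) := fun n =>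
    ⟨n.1 * y * n.1⁻¹, (mem_normalizer_iff.1 n.2 y).1 hyT⟩
  set O := (Finset.univ : Finset N).image f with hO
  have hfib : ∀ o ∈ O, ((Finset.univ : Finset N).filter fun n => f n = o).card = 9 := by
    intro o ho
    obtain ⟨n0, -, rfl⟩ := Finset.mem_image.1 ho
    rw [← hTc, ← Nat.card_eq_finsetCard]
    refine Nat.card_congr
      { toFun := fun n => ⟨n0.1⁻¹ * n.1.1, ?_⟩
        invFun := fun t => ⟨⟨n0.1 * t.1, N.mul_mem n0.2 (le_normalizer t.2)⟩, ?_⟩
        left_inv := fun n => Subtype.ext (Subtype.ext (mul_inv_cancel_left _ _))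
        right_inv := fun t => Subtype.ext (inv_mul_cancel_left _ _) }
    · have h1 : n.1.1 * y * n.1.1⁻¹ = n0.1 * y * n0.1⁻¹ :=
        congrArg Subtype.val (Finset.mem_filter.1 n.2).2
      refine (SetLike.ext_iff.1 hNH _).1 ⟨N.mul_mem (N.inv_mem n0.2) n.1.2, mem_centralizer_singleton_iff.2 ?_⟩
      calc n0.1⁻¹ * n.1.1 * y = n0.1⁻¹ * (n.1.1 * y * n.1.1⁻¹) * n.1.1 := by group
        _ = n0.1⁻¹ * (n0.1 * y * n0.1⁻¹) * n.1.1 := by rw [h1]
        _ = y * (n0.1⁻¹ * n.1.1) := by group
    · refine Finset.mem_filter.2 ⟨Finset.mem_univ _, Subtype.ext ?_⟩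
      have hc := mem_centralizer_singleton_iff.1 (hTy t.2)
      change n0.1 * t.1 * y * (n0.1 * t.1)⁻¹ = n0.1 * y * n0.1⁻¹
      rw [mul_assoc n0.1 t.1 y, hc]; group
  have hNcard : Nat.card N = O.card * 9 := by
    rw [Nat.card_eq_fintype_card, ← Finset.card_univ,
      Finset.card_eq_sum_card_image f Finset.univ, Finset.sum_congr rfl hfib, Finset.sum_const,
      smul_eq_mul]
  have hfix : ∀ n : N, ∀ o ∈ O, (⟨n.1 * o.1 * n.1⁻¹, (mem_normalizer_iff.1 n.2 _).1 o.2⟩ :
      (T : Subgroup G)) ∈ O := by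
    intro n o ho
    obtain ⟨m, -, rfl⟩ := Finset.mem_image.1 ho
    refine Finset.mem_image.2 ⟨n * m, Finset.mem_univ _, Subtype.ext ?_⟩
    simp only [f, Subgroup.coe_mul]; group
  have hOinv : ∀ o ∈ O, o⁻¹ ∉ O := by
    intro o ho ho'
    obtain ⟨n, -, rfl⟩ := Finset.mem_image.1 ho
    obtain ⟨m, -, hm⟩ := Finset.mem_image.1 ho'
    have hm' : m.1 * y * m.1⁻¹ = (n.1 * y * n.1⁻¹)⁻¹ := congrArg Subtype.val hm
    refine hinv (n.1⁻¹ * m.1) ?_
    calc n.1⁻¹ * m.1 * y * (n.1⁻¹ * m.1)⁻¹ = n.1⁻¹ * (m.1 * y * m.1⁻¹) * n.1 := by group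
      _ = n.1⁻¹ * (n.1 * y * n.1⁻¹)⁻¹ * n.1 := by rw [hm']
      _ = y⁻¹ := by group
  have hO1 : (1 : (T : Subgroup G)) ∉ O := fun h1 => hOinv 1 h1 (by rwa [inv_one])
  set O' := O.image fun o => o⁻¹ with hO'
  have hO'c : O'.card = O.card := Finset.card_image_of_injective _ inv_injective
  have hOd : Disjoint O O' := Finset.disjoint_left.2 fun o ho ho' => by
    obtain ⟨o2, ho2, rfl⟩ := Finset.mem_image.1 ho'
    exact hOinv o2 ho2 ho
  have hsub : O ∪ O' ⊆ Finset.univ.erase 1 := by
    intro o ho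
    refine Finset.mem_erase.2 ⟨fun e => ?_, Finset.mem_univ _⟩
    subst e
    rcases Finset.mem_union.1 ho with h1 | h1
    · exact hO1 h1
    · obtain ⟨o2, ho2, he⟩ := Finset.mem_image.1 h1
      rw [inv_eq_one] at he
      exact hO1 (he ▸ ho2)
  have herase : ((Finset.univ : Finset (T : Subgroup G)).erase 1).card = 8 := by
    rw [Finset.card_erase_of_mem (Finset.mem_univ _), Finset.card_univ, ← Nat.card_eq_fintype_card, hTc]
  have hle8 : O.card * 2 ≤ 8 := by
    have := Finset.card_le_card hsub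
    rw [Finset.card_union_of_disjoint hOd, hO'c, herase] at this
    omega
  have hn3 := card_sylow_modEq_one 3 G
  rw [Nat.ModEq, show 1 % 3 = 1 from rfl] at hn3
  have hprod := Basic.card_normalizer_mul T
  rw [← hNdef, hNcard, h] at hprod
  generalize hk : Nat.card (Sylow 3 G) = k at hn3 hprod
  have hO14 : O.card = 1 ∨ O.card = 4 := by
    have hle : O.card ≤ 4 := by omega
    interval_cases O.card <;> omega
  rcases hO14 with h1 | h4
  · refine Basic.not_normalizer_le_centralizer hG (by rw [h]; norm_num) T ?_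
    have heq : (T : Subgroup G) = N :=
      eq_of_le_of_card_ge le_normalizer (by rw [hNcard, h1, hTc])
    rw [← hNdef, ← heq]
    exact le_centralizer _
  letI : CommGroup (T : Subgroup G) :=
    { (T : Subgroup G).toGroup with mul_comm := fun a b => mul_comm' a b }
  have hpi : ∏ o ∈ O, o = 1 := by
    refine Subtype.ext (Centralize.eq_one_of_central_in_normalizer hG T (Subtype.prop _) fun n hn' => ?_)
    let ψ : (T : Subgroup G) →* (T : Subgroup G) :=
      (((T : Subgroup G).normalizerMonoidHom ⟨n, hn'⟩).toMonoidHom)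
    have : ψ (∏ o ∈ O, o) = ∏ o ∈ O, o := by
      rw [map_prod]
      have hbij : Finset.image ψ O = O := by
        refine Finset.eq_of_subset_of_card_le ?_ ?_
        · intro o ho
          obtain ⟨o2, ho2, rfl⟩ := Finset.mem_image.1 ho
          exact hfix ⟨n, hn'⟩ o2 ho2
        · exact (Finset.card_image_of_injective O (f := ψ) ((T : Subgroup G).normalizerMonoidHom ⟨n, hn'⟩).injective).ge
      conv_rhs => rw [← hbij]
      exact (Finset.prod_image (f := fun o => o) (g := ψ) fun a _ b _ e =>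
        ((T : Subgroup G).normalizerMonoidHom ⟨n, hn'⟩).injective e).symm
    exact mul_inv_eq_iff_eq_mul.1 (congrArg Subtype.val this)
  have hall : ∀ t : (T : Subgroup G), t ≠ 1 → t ∈ O ∨ t⁻¹ ∈ O := by
    intro t ht
    have heq : O ∪ O' = Finset.univ.erase 1 := Finset.eq_of_subset_of_card_le hsub
      (by rw [Finset.card_union_of_disjoint hOd, hO'c, h4, herase])
    have := heq ▸ Finset.mem_erase.2 ⟨ht, Finset.mem_univ t⟩
    rcases Finset.mem_union.1 this with h1 | h1
    · exact Or.inl h1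
    · obtain ⟨o, ho, rfl⟩ := Finset.mem_image.1 h1
      exact Or.inr (by rwa [inv_inv])
  have h3 : ∀ t : (T : Subgroup G), t ^ 3 = 1 := by
    intro t
    rcases eq_or_ne t 1 with rfl | ht
    · exact one_pow _
    have key : ∀ o ∈ O, o ^ 3 = 1 := by
      intro o ho
      obtain ⟨n, -, rfl⟩ := Finset.mem_image.1 ho
      refine Subtype.ext ?_
      rw [Subgroup.coe_pow, OneMemClass.coe_one, show ((f n : G)) = MulAut.conj n.1 y from rfl,
        ← map_pow, ← hyo, pow_orderOf_eq_one, map_one]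
    rcases hall t ht with h1 | h1
    · exact key t h1
    · simpa [inv_pow] using key _ h1
  obtain ⟨a, ha⟩ : O.Nonempty := Finset.card_pos.1 (by omega)
  obtain ⟨b, hb, hba⟩ := Finset.exists_mem_ne (by omega : 1 < O.card) a
  have ha1 : a ≠ 1 := fun e => hO1 (e ▸ ha)
  have hb1 : b ≠ 1 := fun e => hO1 (e ▸ hb)
  have hab : a * b ≠ 1 := fun e => hOinv a ha ((inv_eq_of_mul_eq_one_right e) ▸ hb)
  have hab' : a * b⁻¹ ≠ 1 := fun e => hba (mul_inv_eq_one.1 e).symm
  have hne : ∀ u : (T : Subgroup G), u ≠ 1 → u ≠ u⁻¹ := fun u hu e => hu (by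
    have h2 : u ^ 2 = 1 := by rw [sq]; nth_rw 1 [e]; exact inv_mul_cancel u
    have := h3 u
    rwa [pow_succ, h2, one_mul] at this)
  obtain ⟨c, hc, hc'⟩ : ∃ c ∈ O, c = a * b ∨ c = (a * b)⁻¹ := by
    rcases hall _ hab with h1 | h1
    · exact ⟨_, h1, Or.inl rfl⟩
    · exact ⟨_, h1, Or.inr rfl⟩
  obtain ⟨d, hd, hd'⟩ : ∃ d ∈ O, d = a * b⁻¹ ∨ d = (a * b⁻¹)⁻¹ := by
    rcases hall _ hab' with h1 | h1
    · exact ⟨_, h1, Or.inl rfl⟩
    · exact ⟨_, h1, Or.inr rfl⟩
  have hbinv : b⁻¹ = b * b := inv_eq_of_mul_eq_one_right (by rw [← mul_assoc, ← pow_three']; exact h3 b)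
  have hainv : a⁻¹ = a * a := inv_eq_of_mul_eq_one_right (by rw [← mul_assoc, ← pow_three']; exact h3 a)
  have ha3 : a * (a * a) = 1 := by rw [← pow_three]; exact h3 a
  have hb3 : b * (b * b) = 1 := by rw [← pow_three]; exact h3 b
  have hca : c ≠ a := by
    rcases hc' with rfl | rfl
    · exact fun e => hb1 (mul_eq_left.1 e)
    · intro e
      rw [mul_inv_rev, hainv, hbinv] at e
      have : b * b * a = 1 := mul_right_cancel (b := a) (by rw [one_mul]; simpa [mul_assoc] using e)
      exact hba (by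
        calc b = b * (b * b * a) := by rw [this, mul_one]
          _ = b * (b * b) * a := by group
          _ = a := by rw [hb3, one_mul])
  have hcb : c ≠ b := by
    rcases hc' with rfl | rfl
    · exact fun e => ha1 (mul_eq_right.1 e)
    · intro e
      rw [mul_inv_rev, hainv, hbinv, mul_assoc] at e
      have : b * (a * a) = 1 := mul_left_cancel (a := b) (by rw [mul_one]; exact e)
      exact hba (by
        calc b = b * (a * (a * a)) := by rw [ha3, mul_one]
          _ = b * (a * a) * a := by ac_rfl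
          _ = a := by rw [this, one_mul])
  have hda : d ≠ a := by
    rcases hd' with rfl | rfl
    · exact fun e => hb1 (inv_eq_one.1 (mul_eq_left.1 e))
    · intro e
      rw [mul_inv_rev, inv_inv, hainv] at e
      have : b * a = 1 := mul_right_cancel (b := a) (by rw [one_mul, mul_assoc]; exact e)
      exact hab (by rw [mul_comm]; exact this)
  have hdb : d ≠ b := by
    rcases hd' with rfl | rfl
    · intro e
      rw [hbinv] at e
      have : a * b = 1 := mul_right_cancel (b := b) (by rw [one_mul, mul_assoc]; exact e)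
      exact hab this
    · intro e
      rw [mul_inv_rev, inv_inv] at e
      exact ha1 (inv_eq_one.1 (mul_eq_left.1 e))
  have hcd : c ≠ d := by
    rcases hc' with rfl | rfl <;> rcases hd' with rfl | rfl
    · exact fun e => hne b hb1 (mul_left_cancel e)
    · intro e
      rw [mul_inv_rev, inv_inv, mul_comm a b] at e
      exact hne a ha1 (mul_left_cancel e)
    · intro e
      rw [mul_inv_rev, mul_comm a b⁻¹] at e
      exact hne a ha1 (mul_left_cancel e).symm
    · exact fun e => hne b hb1 (mul_left_cancel (inv_injective e))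
  have hOeq : O = {a, b, c, d} := by
    refine (Finset.eq_of_subset_of_card_le ?_ ?_).symm
    · simp [Finset.insert_subset_iff, ha, hb, hc, hd]
    · rw [h4, Finset.card_insert_of_notMem, Finset.card_insert_of_notMem, Finset.card_insert_of_notMem,
        Finset.card_singleton] <;>
      simp [hba.symm, hca.symm, hcb.symm, hda.symm, hdb.symm, hcd]
  rw [hOeq, Finset.prod_insert (by simp [hba.symm, hca.symm, hda.symm]),
    Finset.prod_insert (by simp [hcb.symm, hdb.symm]), Finset.prod_insert (by simp [hcd]),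
    Finset.prod_singleton] at hpi
  rcases hc' with rfl | rfl <;> rcases hd' with rfl | rfl
  · refine hb1 ?_
    have e : a * (b * (a * b * (a * b⁻¹))) = a * (a * a) * (b * (b * b)) * b := by
      rw [hbinv]; ac_rfl
    rw [e, ha3, hb3, one_mul, one_mul] at hpi; exact hpi
  · refine ha1 ?_
    have e : a * (b * (a * b * (a * b⁻¹)⁻¹)) = a * (a * a) * (b * (b * b)) * a := by
      rw [mul_inv_rev, inv_inv, hainv]; ac_rfl
    rw [e, ha3, hb3, one_mul, one_mul] at hpi; exact hpi
  · refine hab' ?_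
    have e : a * (b * ((a * b)⁻¹ * (a * b⁻¹))) = a * b⁻¹ := by group
    rw [e] at hpi; exact hpi
  · refine hab' ?_
    have e : a * (b * ((a * b)⁻¹ * (a * b⁻¹)⁻¹)) = (a * b⁻¹)⁻¹ := by group
    rw [e, inv_eq_one] at hpi; exact hpi

/-- No finite simple group has order 4032 = 2^6 * 3^2 * 7. -/
theorem result {G : Type*} [Group G] [Finite G] [IsSimpleGroup G] : Nat.card G ≠ 4032 := by
  intro h
  open Cfsg.Agent.SmallSimple in
  haveI : Fact (Nat.Prime 7) := ⟨by norm_num⟩
  have hG : ¬ IsMulCommutative G := Basic.not_comm_of_not_prime (by rw [h]; norm_num)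
  obtain ⟨hd, hmod, h1, -⟩ := Basic.sylow_count (p := 7) hG (by rw [h]; norm_num) (a := 1) (m := 576)
    (by rw [h]; norm_num) (by norm_num)
  have key : ∀ x ∈ Nat.divisors 576, x % 7 = 1 → 1 < x → x = 8 ∨ x = 36 ∨ x = 64 ∨ x = 288 := by
    decide +kernel
  have P : Sylow 7 G := default
  have hP : Nat.card (P : Subgroup G) = 7 := by
    simpa using Basic.card_sylow_eq_pow (a := 1) (m := 576) (by rw [h]; norm_num) (by norm_num) P
  obtain ⟨e, he, he1, hN, hC7⟩ := Centralize.centralizer_data hG P hP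
  have hNc := Basic.card_normalizer_mul P
  rw [h, hN] at hNc
  generalize hC : Nat.card (Subgroup.centralizer ((P : Subgroup G) : Set G)) = c at hNc hC7
  have key2 : ∀ e ∈ Nat.divisors 6, ∀ n ∈ ({8, 36, 64, 288} : Finset ℕ), ∀ c ∈ Nat.divisors 4032,
      1 < e → 7 ∣ c → c * e * n = 4032 →
        (n = 8 ∧ c ≠ 7) ∨ (n = 36 ∧ c = 56) ∨ (n = 64 ∧ c = 21) ∨ n = 288 := by decide +kernel
  rcases key2 e (Nat.mem_divisors.2 ⟨he, by norm_num⟩) _
      (by simpa using key _ (Nat.mem_divisors.2 ⟨hd, by norm_num⟩) hmod h1) c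
      (Nat.mem_divisors.2 ⟨⟨_, (hNc.symm.trans (mul_assoc _ _ _))⟩, by norm_num⟩) he1 hC7 hNc with
    ⟨hn, hc⟩ | ⟨hn, hc⟩ | ⟨hn, hc⟩ | hn
  · exact hc (hC ▸ Centralize.card_centralizer_of_le hG (by norm_num) P hP (by omega))
  · haveI : Fact (Nat.Prime 2) := ⟨by norm_num⟩
    exact Centralize.false_of_two_sylows hG (by norm_num) (q := 2) (a := 3) (by norm_num) h hn
      (by norm_num) P hP (hC.trans hc) (by norm_num) (by norm_num) (by decide +kernel)
  · haveI : Fact (Nat.Prime 3) := ⟨by norm_num⟩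
    exact case64 hG h P hP hn (hC.trans hc)
  · haveI := Fintype.ofFinite G
    obtain ⟨Q, hQ, hQe, hQc⟩ := Orders.exists_selfCent (p := 7) (m := 576) (e := 2) hG
      (by rw [h]) (by norm_num) (by norm_num) (by norm_num) hn
    obtain ⟨t, a, x, -, -, hx1, -, -, -, heq⟩ := IndexTwo.equation hG (by norm_num) hQ hQc hQe
    have hx0 : 0 < x := by omega
    generalize hc' : Nat.card (Subgroup.centralizer ({t} : Set G)) = c' at heq
    have hc0 : 0 < c' := hc' ▸ Nat.card_pos
    rw [h] at heq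
    push_cast at heq
    have hsq : (24 * (a - (x : ℤ))) ^ 2 = (c' : ℤ) ^ 2 * ((x : ℤ) * (x + 1)) := by linarith
    have hc'0 : (c' : ℤ) ≠ 0 := by exact_mod_cast hc0.ne'
    obtain ⟨w, hw⟩ : (c' : ℤ) ∣ 24 * (a - (x : ℤ)) :=
      (Int.pow_dvd_pow_iff (two_ne_zero)).1 ⟨_, hsq⟩
    rw [hw, mul_pow] at hsq
    have hw2 : w ^ 2 = (x : ℤ) * (x + 1) := mul_left_cancel₀ (pow_ne_zero 2 hc'0) hsq
    have hx' : (0 : ℤ) < x := by exact_mod_cast hx0
    have h2 : (x : ℤ) ^ 2 < |w| ^ 2 := by rw [sq_abs, hw2]; nlinarith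
    have h3 : |w| ^ 2 < ((x : ℤ) + 1) ^ 2 := by rw [sq_abs, hw2]; nlinarith
    have h4 := (pow_lt_pow_iff_left₀ hx'.le (abs_nonneg w) two_ne_zero).1 h2
    have h5 := (pow_lt_pow_iff_left₀ (abs_nonneg w) (by linarith) two_ne_zero).1 h3
    omega

end Cfsg.Agent.S0976
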