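import Cfsg.Statements.S0978
import Cfsg.Agent.Lib.PrimeBlock.OrdersFive

set_option autoImplicit false
open Cfsg

namespace Cfsg.Agent.S0978

section Helpers

open Cfsg.Agent.Characters Cfsg.Agent.Blocks Cfsg.Agent.PrimeBlock Subgroup
open Cfsg.Agent.SmallSimple

universe u

set_option linter.unusedSectionVars false
set_option linter.style.haveILetI false

/-- The possible non-trivial signed degrees of the principal block at `5`. -/
abbrev L5 : List ℤ := [-4, 6, -9, -14, 16, 21, -24, 36, 56]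

theorem cand5 : OrdersFive.Cand 5040 L5 := by decide +kernel

theorem cand7 : ∀ d ∈ Finset.range 80, d ∣ 5040 → d * d < 5040 → 1 < d →
    (d % 7 = 1 → (d : ℤ) ∈ [(-6 : ℤ), 8, 15, -20, 36, -48]) ∧
    (d % 7 = 6 → -(d : ℤ) ∈ [(-6 : ℤ), 8, 15, -20, 36, -48]) := by decide +kernel

theorem four_cases : ∀ a ∈ [(-14 : ℤ), 21, -24, 36, 56], ∀ b ∈ [(-14 : ℤ), 21, -24, 36, 56],
    ∀ c ∈ [(-14 : ℤ), 21, -24, 36, 56], ∀ d ∈ [(-14 : ℤ), 21, -24, 36, 56],
    a + (b + (c + d)) ≠ -1 := by decide +kernel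

theorem cases5 : ∀ n ∈ Nat.divisors 1008, ∀ k ∈ Nat.divisors 1008, ∀ e ∈ [2, 4],
    n % 5 = 1 → 1 < n → k * e * n = 1008 → n ≠ 6 →
      1 < k ∧ (2 ∣ k ∨ (e = 2 ∧ k = 9) ∨ (e = 4 ∧ k = 7)) := by decide +kernel

set_option synthInstance.maxSize 1000 in
theorem cases7 : ∀ n ∈ Nat.divisors 720, ∀ c ∈ Nat.divisors 5040, ∀ e ∈ Nat.divisors 6,
    n % 7 = 1 → 1 < n → 1 < e → 7 ∣ c → 5 ∣ c → c * e * n = 5040 →
      n = 8 ∨ (c = 70 ∧ e = 2) := by decide +kernel

variable {G : Type u} [Group G] [Finite G] [IsSimpleGroup G]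

/-- A degree six character of a simple group equal to `1` on `x ^ i * u` has `u` in its kernel. -/
theorem kernel_six (hG : ¬ IsMulCommutative G) (χ : Cfsg.IrrCharacter G) (hd : deg χ = 6) {x u : G}
    (hx : x ^ 5 = 1) (hxu : Commute x u) (hu : orderOf u = 3)
    (h1 : ∀ i : ℕ, ¬ 5 ∣ i → (χ : G → ℂ) (x ^ i) = 1)
    (h2 : ∀ i : ℕ, ¬ 5 ∣ i → (χ : G → ℂ) (x ^ i * u) = 1) : (χ : G → ℂ) u = (χ : G → ℂ) 1 := by
  classical
  obtain ⟨n, ρ, hρ, hchar⟩ := χ.2
  obtain ⟨b, v, hv, hb⟩ := exists_eigenbasis ρ (x * u)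
  have hxu15 : (x * u) ^ 10 = x ^ 0 * u ∧ (x * u) ^ 6 = x := by
    have hu3 : u ^ 3 = 1 := hu ▸ pow_orderOf_eq_one u
    rw [hxu.mul_pow, hxu.mul_pow, show (10 : ℕ) = 5 * 2 from rfl, show (6 : ℕ) = 5 + 1 from rfl]
    refine ⟨?_, ?_⟩
    · rw [pow_mul x, hx, one_pow, show 5 * 2 = 3 * 3 + 1 from rfl, pow_succ u, pow_mul, hu3, one_pow,
        pow_zero, one_mul]
    · rw [pow_add, hx, one_mul, pow_one, show 5 + 1 = 3 * 2 from rfl, pow_mul, hu3, one_pow, mul_one]
  set z := fun l => v l ^ 6 with hz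
  set w := fun l => v l ^ 10 with hw
  have hval : ∀ k : ℕ, (χ : G → ℂ) ((x * u) ^ k) = ∑ l, v l ^ k := fun k => by
    rw [← hchar]; exact trace_of_eigenbasis b _ (apply_pow_eigenbasis ρ b v hb k)
  have hxi : ∀ i : ℕ, (χ : G → ℂ) (x ^ i) = ∑ l, z l ^ i := fun i => by
    rw [← hxu15.2, ← pow_mul, hval]
    exact Finset.sum_congr rfl fun l _ => by simp only [hz, ← pow_mul]
  have hxiu : ∀ i : ℕ, (χ : G → ℂ) (x ^ i * u) = ∑ l, z l ^ i * w l := fun i => by
    have e1 : u = (x * u) ^ 10 := by rw [hxu15.1, pow_zero, one_mul]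
    conv_lhs => rw [e1, show x ^ i = ((x * u) ^ 6) ^ i by rw [hxu15.2], ← pow_mul, ← pow_add, hval]
    exact Finset.sum_congr rfl fun l _ => by simp only [hz, hw, pow_add, pow_mul]
  have hord : orderOf (x * u) ∣ 15 := orderOf_dvd_of_pow_eq_one (by
    rw [hxu.mul_pow, show (15 : ℕ) = 5 * 3 from rfl, pow_mul x, hx, one_pow,
      show (5 * 3 : ℕ) = 3 * 5 from rfl, pow_mul u, ← hu, pow_orderOf_eq_one, one_pow, one_mul])
  have hv15 : ∀ l, v l ^ 15 = 1 := fun l => by
    obtain ⟨m, hm⟩ := hord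
    rw [hm, pow_mul, hv, one_pow]
  have hz5 : ∀ l, z l ^ 5 = 1 := fun l => by
    simp only [hz, ← pow_mul]
    rw [show 6 * 5 = 15 * 2 from rfl, pow_mul, hv15, one_pow]
  have hw3 : ∀ l, w l ^ 3 = 1 := fun l => by
    simp only [hw, ← pow_mul]
    rw [show 10 * 3 = 15 * 2 from rfl, pow_mul, hv15, one_pow]
  have hprod : ∏ l, w l = 1 := by
    have h := det_eq_one hG ρ ((x * u) ^ 10)
    rw [← LinearMap.det_toMatrix b, show LinearMap.toMatrix b b (ρ ((x * u) ^ 10)) = Matrix.diagonal w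
        from Matrix.ext fun i j => by
          rw [LinearMap.toMatrix_apply, apply_pow_eigenbasis ρ b v hb, map_smul, b.repr_self,
            Finsupp.smul_apply, smul_eq_mul, Matrix.diagonal_apply, Finsupp.single_apply]
          by_cases h : i = j
          · subst h; simp [hw]
          · simp [h, Ne.symm h], Matrix.det_diagonal] at h
    exact h
  have hone : (χ : G → ℂ) 1 = 6 := by rw [← deg_cast, hd]; norm_num
  -- the sums over the eigenspaces of `x`
  have fib : ∀ (f : Fin _ → ℂ) (μ : ℂ), μ ^ 5 = 1 →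
      5 * (∑ l ∈ Finset.univ.filter (fun l => z l = μ), f l) =
        ∑ i ∈ Finset.range 5, μ⁻¹ ^ i * ∑ l, z l ^ i * f l := by
    intro f μ hμ
    simp only [Finset.mul_sum]
    rw [Finset.sum_comm, Finset.sum_filter]
    refine Finset.sum_congr rfl fun l _ => ?_
    calc (if z l = μ then 5 * f l else 0) = (∑ i ∈ Finset.range 5, (z l / μ) ^ i) * f l := by
          rw [sum_pow_div (by norm_num) (hz5 l) hμ]; split_ifs <;> simp
      _ = _ := by
          rw [Finset.sum_mul]
          exact Finset.sum_congr rfl fun i _ => by rw [div_eq_mul_inv, mul_pow]; ring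
  set c := ((χ : G → ℂ) u - 1) / 5 with hc
  have key : ∀ μ : ℂ, μ ^ 5 = 1 →
      ((Finset.univ.filter fun l => z l = μ).card : ℂ) = 1 + (if μ = 1 then 1 else 0) ∧
      ∑ l ∈ Finset.univ.filter (fun l => z l = μ), w l = c + (if μ = 1 then 1 else 0) := by
    intro μ hμ
    have hgeo := sum_pow_div (by norm_num : (5 : ℕ) ≠ 0) (one_pow 5) hμ
    simp only [Finset.sum_range_succ, Finset.sum_range_zero, zero_add, pow_zero, one_div] at hgeo
    have a := fib (fun _ => 1) μ hμ
    have b' := fib w μ hμ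
    simp only [Finset.sum_const, nsmul_one, mul_one] at a
    simp only [Finset.sum_range_succ, Finset.sum_range_zero, zero_add, pow_zero, one_mul] at a b'
    rw [← hxi 1, ← hxi 2, ← hxi 3, ← hxi 4, h1 1 (by norm_num), h1 2 (by norm_num), h1 3 (by norm_num),
      h1 4 (by norm_num)] at a
    rw [← hxiu 1, ← hxiu 2, ← hxiu 3, ← hxiu 4, h2 1 (by norm_num), h2 2 (by norm_num),
      h2 3 (by norm_num), h2 4 (by norm_num)] at b'
    have h0 : (∑ l, w l) = (χ : G → ℂ) u := by
      have := hxiu 0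
      rw [pow_zero, one_mul] at this
      rw [this]; simp
    have hn6 : ((Finset.univ : Finset (Fin (Module.finrank ℂ (Fin n → ℂ)))).card : ℂ) = 6 := by
      have := hxi 0
      rw [pow_zero, hone] at this
      simpa using this.symm
    simp only [Finset.sum_const, nsmul_one, mul_one] at a
    rw [hn6] at a
    rw [h0] at b'
    rw [hc]
    by_cases hμ1 : μ = 1
    · subst hμ1
      simp only [if_true] at hgeo ⊢
      constructor
      · linear_combination a / 5
      · linear_combination b' / 5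
    · rw [if_neg (Ne.symm hμ1)] at hgeo
      simp only [if_neg hμ1, add_zero]
      constructor
      · linear_combination (a + hgeo) / 5
      · linear_combination (b' + hgeo) / 5
  have hsingle : ∀ l, z l ≠ 1 → w l = c := fun l hl => by
    obtain ⟨a, b'⟩ := key (z l) (hz5 l)
    rw [if_neg hl, add_zero] at a b'
    obtain ⟨l', hl'⟩ := Finset.card_eq_one.1
      (show (Finset.univ.filter fun i => z i = z l).card = 1 by exact_mod_cast a)
    have : l ∈ Finset.univ.filter fun i => z i = z l := by simp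
    rw [hl', Finset.mem_singleton] at this
    rwa [hl', Finset.sum_singleton, ← this] at b'
  obtain ⟨a1, b1⟩ := key 1 (one_pow 5)
  rw [if_pos rfl] at a1 b1
  obtain ⟨l₁, l₂, hne, hpair⟩ := Finset.card_eq_two.1
    (show (Finset.univ.filter fun i => z i = 1).card = 2 by
      have : ((Finset.univ.filter fun i => z i = 1).card : ℂ) = (2 : ℕ) := by rw [a1]; norm_num
      exact_mod_cast this)
  rw [hpair, Finset.sum_pair hne] at b1
  have hrest : (Finset.univ.filter fun i => ¬ z i = 1).card = 4 := by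
    have h := Finset.card_filter_add_card_filter_not
      (s := (Finset.univ : Finset (Fin (Module.finrank ℂ (Fin n → ℂ))))) (fun i => z i = 1)
    rw [hpair, Finset.card_pair hne] at h
    have hn6 : (((Finset.univ : Finset (Fin (Module.finrank ℂ (Fin n → ℂ)))).card : ℕ) : ℂ) = (6 : ℕ) := by
      have := hxi 0
      rw [pow_zero, hone] at this
      simpa using this.symm
    have := (Nat.cast_injective (R := ℂ)) hn6
    omega
  rw [← Finset.prod_filter_mul_prod_filter_not Finset.univ (fun i => z i = 1), hpair,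
    Finset.prod_pair hne, Finset.prod_congr rfl fun l hl => hsingle l (Finset.mem_filter.1 hl).2,
    Finset.prod_const, hrest] at hprod
  obtain ⟨l₀, hl₀⟩ := Finset.card_pos.1
    (show 0 < (Finset.univ.filter fun i => ¬ z i = 1).card by omega)
  have hc3 : c ^ 3 = 1 := hsingle l₀ (Finset.mem_filter.1 hl₀).2 ▸ hw3 l₀
  -- `w₁ + w₂ = c + 1` forces `w₁ w₂ = c`
  have hu1 : ∀ t : ℂ, t ^ 3 = 1 → ‖t‖ = 1 := fun t ht =>
    Complex.norm_eq_one_of_pow_eq_one ht (by norm_num)
  have hconj : starRingEnd ℂ (w l₁) + starRingEnd ℂ (w l₂) = starRingEnd ℂ c + 1 := by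
    rw [← map_add, b1, map_add, map_one]
  rw [← Complex.inv_eq_conj (hu1 _ (hw3 l₁)), ← Complex.inv_eq_conj (hu1 _ (hw3 l₂)),
    ← Complex.inv_eq_conj (hu1 _ hc3)] at hconj
  have hne0 : ∀ t : ℂ, t ^ 3 = 1 → t ≠ 0 := fun t ht e => by rw [e] at ht; norm_num at ht
  have := hne0 _ (hw3 l₁)
  have := hne0 _ (hw3 l₂)
  have := hne0 _ hc3
  field_simp at hconj
  have hc1 : c + 1 ≠ 0 := fun e => by
    have : c = -1 := by linear_combination e
    rw [this] at hc3; norm_num at hc3
  have hprod12 : w l₁ * w l₂ = c := mul_right_cancel₀ hc1 (by linear_combination (-hconj) + c * b1)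
  rw [hprod12] at hprod
  have hcone : c = 1 := by linear_combination (c ^ 3 + 1) * hc3 - c * hprod
  rw [hone]
  rw [hc] at hcone
  linear_combination 5 * hcone

variable [Fact (Nat.Prime 5)]

theorem no_seventy (hG : ¬ IsMulCommutative G) (hN : Nat.card G = 5040) [Fact (Nat.Prime 7)]
    {Q : Sylow 7 G} (hQ : 5 ∣ Nat.card (centralizer ((Q : Subgroup G) : Set G))) : False := by
  classical
  obtain ⟨hd, hm, h1, -⟩ := Basic.sylow_count (p := 7) hG (by rw [hN]; norm_num) (a := 1) (m := 720)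
    (by rw [hN]; norm_num) (by norm_num)
  have hQc : Nat.card (Q : Subgroup G) = 7 := by
    simpa using Basic.card_sylow_eq_pow (a := 1) (m := 720) (by rw [hN]; norm_num) (by norm_num) Q
  obtain ⟨e, he, he1, hNe, hC7⟩ := Centralize.centralizer_data hG Q hQc
  obtain ⟨D, ht, hts⟩ := exists_pblock' hG (by norm_num) Q hQc
  have hDe : D.e = e := by
    have := relIndex_mul_relIndex ⊥ (centralizer ((Q : Subgroup G) : Set G))
      (normalizer ((Q : Subgroup G) : Set G)) bot_le (centralizer_le_normalizer _)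
    rw [relIndex_bot_left, relIndex_bot_left, hNe, D.he] at this
    exact Nat.eq_of_mul_eq_mul_left Nat.card_pos this
  have hmul := Basic.card_normalizer_mul Q
  rw [hN, hNe] at hmul
  rcases cases7 _ (Nat.mem_divisors.2 ⟨hd, by norm_num⟩) _
      (Nat.mem_divisors.2 ⟨hN ▸ card_subgroup_dvd_card _, by norm_num⟩) e
      (Nat.mem_divisors.2 ⟨he, by norm_num⟩) hm h1 he1 hC7 hQ hmul with h8 | ⟨h70, he2⟩
  · rw [Centralize.card_centralizer_of_le hG (by norm_num) Q hQc (by omega)] at hQ
    norm_num at hQ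
  obtain ⟨θ, hθ⟩ := D.Y_nonempty
  obtain ⟨χ, hχ⟩ := Finset.card_eq_one.1 (show (D.X.erase (trivIrr G)).card = 1 by
    rw [Finset.card_erase_of_mem ht, D.card_X, hDe, he2])
  have hχm := Finset.mem_erase.1 (show χ ∈ D.X.erase (trivIrr G) by rw [hχ]; exact Finset.mem_singleton_self χ)
  have hrel := D.rel_one hθ
  rw [← Finset.add_sum_erase _ _ ht, hχ, Finset.sum_singleton, hts, deg_trivIrr] at hrel
  have hθne : θ ≠ trivIrr G := fun e => Finset.disjoint_left.1 D.disj ht (e ▸ hθ)
  have hθd : deg θ ∣ 5040 := hN ▸ char_degree_dvd_card θ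
  have h0 : 0 < deg χ := charDegree_pos χ
  have hd1 : deg χ ≠ 1 := deg_ne_one hG hχm.1
  have hsq := deg_sq_lt hχm.1
  rw [hN] at hsq
  obtain ⟨hp, hn⟩ := cand7 (deg χ) (Finset.mem_range.2 (by nlinarith))
    (hN ▸ char_degree_dvd_card χ) hsq (by omega)
  have hmod := Int.modEq_iff_dvd.1 (D.deg_X χ hχm.2)
  have hmem : D.sgn χ * (deg χ : ℤ) ∈ [(-6 : ℤ), 8, 15, -20, 36, -48] := by
    rcases D.sgn_eq χ hχm.2 with e | e <;> rw [e] at hmod ⊢
    · simpa using hp (by omega)
    · simpa using hn (by omega)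
  obtain ⟨x, hx1, hx⟩ := D.exists_ne_one
  have hχB := (D.mem_block χ).2 (Or.inl hχm.2)
  have hfac5 : (Nat.card G).factorization 5 = 1 := by
    rw [hN]; exact OrdersFive.factorization_eq (by norm_num) (m := 1008) (by norm_num) (by norm_num)
  simp only [List.mem_cons, List.not_mem_nil, or_false] at hmem
  have hsg := D.sgn_eq χ hχm.2
  rcases hmem with h | h | h | h | h | h <;> rw [h] at hrel
  · have hlt : deg θ < 7 := by rcases D.ε_eq with e | e <;> rw [e] at hrel <;> omega
    have := D.card_centralizer hG ((D.mem_block θ).2 (Or.inr hθ)) hθne hlt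
    omega
  · obtain ⟨v, hv7, hv4, hv⟩ := D.involution_cong hG (by rw [h70]; norm_num) hχB hχm.1 hx hx1
      (D.val_X' hχm.2 hx hx1)
    rcases hsg with e | e <;> rw [e] at h hv7 <;> rw [abs_lt] at hv <;> omega
  · refine D.not_full (q := 5) (by norm_num) (by norm_num) (by rw [h70]; norm_num) hχB ?_
    rw [hfac5]
    rcases hsg with e | e <;> rw [e] at h <;> omega
  all_goals
    have : deg θ = 19 ∨ deg θ = 37 ∨ deg θ = 47 := by
      rcases D.ε_eq with e | e <;> rw [e] at hrel <;> omega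
    rcases this with e | e | e <;> rw [e] at hθd <;> norm_num at hθd

theorem ne_5040 : Nat.card G ≠ 5040 := by
  intro hN
  classical
  have hG : ¬ IsMulCommutative G := Basic.not_comm_of_not_prime (by rw [hN]; norm_num)
  obtain ⟨P, D, k, ht, hts, he, hk, hprod, hnd, hnm, hn1, hnf⟩ :=
    OrdersFive.setup hG hN (m := 1008) (by norm_num) (by norm_num)
  obtain ⟨hk1, hkc⟩ := cases5 _ (Nat.mem_divisors.2 ⟨hnd, by norm_num⟩) k
    (Nat.mem_divisors.2 ⟨⟨D.e * Nat.card (Sylow 5 G), by rw [← hprod]; ring⟩, by norm_num⟩) D.e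
    (by simpa using he) hnm hn1 hprod (fun h6 => by rw [h6] at hnf; norm_num [Nat.factorial] at hnf)
  obtain ⟨x, hx1, hx⟩ := D.exists_ne_one
  have hC2 : 2 ∣ k → 2 ∣ Nat.card (centralizer ((P : Subgroup G) : Set G)) := fun h => hk ▸ h.mul_left 5
  have hsmall : ∀ χ ∈ Cfsg.principalBlock D.M G, χ ≠ trivIrr G → ¬ deg χ < 5 :=
    fun χ hχ hne hlt => by
      have := D.card_centralizer hG hχ hne hlt
      omega
  have hfac : ∀ q b m : ℕ, q.Prime → 5040 = q ^ b * m → ¬ q ∣ m → (Nat.card G).factorization q = b :=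
    fun q b m hq h hm => hN.symm ▸ OrdersFive.factorization_eq hq h hm
  rcases he with he | he
  · obtain ⟨χ, θ, hχ, hχne, hθ, hθne, hz, hθd, hθN, hθ1, -⟩ :=
      OrdersFive.two_cases hG hN (by norm_num) cand5 D ht hts he
    have hχB := (D.mem_block χ).2 (Or.inl hχ)
    have hsg := D.sgn_eq χ hχ
    have hd : deg χ = 4 ∨ (deg χ = 6 ∧ D.sgn χ = 1) ∨ deg χ = 9 := by
      simp only [L5, List.mem_cons, List.not_mem_nil, or_false] at hz
      rcases hz with h | h | h | h | h | h | h | h | h <;> rw [h] at hθd <;>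
        (first
          | (norm_num at hθd; rw [hθd] at hθN; norm_num at hθN; done)
          | (rcases hsg with e | e <;> rw [e] at h ⊢ <;> omega))
    by_cases h2 : 2 ∣ k
    · obtain ⟨e4, e6, e9⟩ := OrdersFive.deg_excluded hG D (hC2 h2) hχB hχne hsg
        (Int.modEq_iff_dvd.1 (D.deg_X χ hχ)) hx hx1 (D.val_X' hχ hx hx1)
      omega
    have hk9 : k = 9 := by omega
    rcases hd with h4 | ⟨h6, hs⟩ | h9
    · exact hsmall χ hχB hχne (by omega)
    · haveI : Fact (Nat.Prime 3) := ⟨Nat.prime_three⟩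
      obtain ⟨⟨u, hu⟩, huo⟩ := exists_prime_orderOf_dvd_card'
        (G := centralizer ((P : Subgroup G) : Set G)) 3 (by rw [hk, hk9]; norm_num)
      rw [orderOf_mk] at huo
      have hur : ¬ 5 ∣ orderOf u := by rw [huo]; norm_num
      have hval : ∀ i : ℕ, ¬ 5 ∣ i → ((χ : Cfsg.IrrCharacter G) : G → ℂ) (x ^ i) = 1 := fun i hi => by
        rw [D.val_X' hχ (pow_mem hx i) (D.pow_ne_one hx hx1 hi), hs, Int.cast_one]
      have hker := kernel_six hG χ h6 (D.x_pow hx) (mem_centralizer_iff.1 hu x hx) huo hval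
        fun i hi => by rw [D.value_mul hχB (pow_mem hx i) (D.pow_ne_one hx hx1 hi) hu hur, hval i hi]
      rw [eq_one_of_norm_eq hG hχne (congrArg _ hker), orderOf_one] at huo
      norm_num at huo
    · refine D.not_full (q := 3) Nat.prime_three (by norm_num) (by rw [hk, hk9]; norm_num) hχB ?_
      rw [hfac 3 2 560 Nat.prime_three (by norm_num) (by norm_num), h9]
      norm_num
  · by_cases h2 : 2 ∣ k
    · obtain ⟨w, M, hMc, hM, hw, hsum⟩ := D.exists_weights ht hts he
      have hcand : ∀ χ ∈ M, w χ * (deg χ : ℤ) ∈ [(-14 : ℤ), 21, -24, 36, 56] := fun χ hχ => by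
        obtain ⟨hwe, hwm, hwv⟩ := hw χ hχ
        obtain ⟨hB, hne⟩ := (hM χ).1 hχ
        have hzL := OrdersFive.signed_mem hG hN (by norm_num) cand5 hne hwe hwm
        obtain ⟨e4, e6, e9⟩ := OrdersFive.deg_excluded hG D (hC2 h2) hB hne hwe hwm hx hx1 (hwv x hx hx1)
        have e16 : deg χ ≠ 16 := fun h16 => D.not_full (q := 2) Nat.prime_two (by norm_num) (hC2 h2) hB
          (by rw [hfac 2 4 315 Nat.prime_two (by norm_num) (by norm_num), h16]; norm_num)
        simp only [L5, List.mem_cons, List.not_mem_nil, or_false] at hzL ⊢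
        rcases hwe with e | e <;> rw [e] at hzL ⊢ <;> omega
      rw [← Finset.sum_map_toList] at hsum
      have hlen : (M.toList.map fun χ => w χ * (deg χ : ℤ)).length = 4 := by
        rw [List.length_map, Finset.length_toList, hMc, he]
      have hall : ∀ z ∈ (M.toList.map fun χ => w χ * (deg χ : ℤ)), z ∈ [(-14 : ℤ), 21, -24, 36, 56] := by
        intro z hz
        obtain ⟨χ, hχ, rfl⟩ := List.mem_map.1 hz
        exact hcand χ (Finset.mem_toList.1 hχ)
      revert hsum hlen hall
      generalize (M.toList.map fun χ => w χ * (deg χ : ℤ)) = L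
      intro hsum hlen hall
      match L, hlen with
      | [a, b, c, d], _ =>
        simp only [List.sum_cons, List.sum_nil, add_zero] at hsum
        exact four_cases a (hall a (by simp)) b (hall b (by simp)) c (hall c (by simp)) d
          (hall d (by simp)) hsum
    have hk7 : k = 7 := by omega
    haveI : Fact (Nat.Prime 7) := ⟨by norm_num⟩
    obtain ⟨⟨u, hu⟩, huo⟩ := exists_prime_orderOf_dvd_card'
      (G := centralizer ((P : Subgroup G) : Set G)) 7 (by rw [hk, hk7]; norm_num)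
    rw [orderOf_mk] at huo
    let Q : Sylow 7 G := Sylow.ofCard (zpowers u) (by
      rw [Nat.card_zpowers, huo, hfac 7 1 720 (by norm_num) (by norm_num) (by norm_num), pow_one])
    refine no_seventy hG hN (Q := Q) ?_
    rw [show (5 : ℕ) = Nat.card (P : Subgroup G) from D.card_P.symm]
    refine card_dvd_of_le fun y hy => ?_
    rw [show ((Q : Subgroup G) : Set G) = (zpowers u : Set G) from rfl, zpowers_eq_closure,
      centralizer_closure, mem_centralizer_singleton_iff]
    exact mem_centralizer_iff.1 hu y hy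

end Helpers

/-- No finite simple group has order 5040 = 2^4 * 3^2 * 5 * 7. -/
theorem result {G : Type*} [Group G] [Finite G] [IsSimpleGroup G] : Nat.card G ≠ 5040 := by
  haveI : Fact (Nat.Prime 5) := ⟨Nat.prime_five⟩
  exact ne_5040

end Cfsg.Agent.S0978
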