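import Cfsg.Statements.S0983
import Cfsg.Agent.Lib.SmallSimple.Sieve6232.Main
import Cfsg.Agent.Lib.SmallSimple.PSqQR
import Cfsg.Agent.Lib.SmallSimple.Orders6232.A
import Cfsg.Agent.Lib.SmallSimple.Orders6232.B
import Cfsg.Agent.Lib.SmallSimple.Orders6232.C
import Cfsg.Agent.Lib.SmallSimple.Orders6232.D
import Cfsg.Agent.Lib.SmallSimple.Orders6232.E
import Cfsg.Agent.S0974
import Cfsg.Agent.S0975
import Cfsg.Agent.S0976
import Cfsg.Agent.S0977
import Cfsg.Agent.S0978
import Cfsg.Agent.S0979
import Cfsg.Agent.S0980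

set_option autoImplicit false
open Cfsg

namespace Cfsg.Agent.S0983

/-- A non-abelian finite simple group of order greater than 3640 and at most 6232 has order 4080, 5616, 6048 or 6072. -/
theorem result {G : Type*} [Group G] [Finite G] [IsSimpleGroup G] (hG : ¬ IsMulCommutative G) (h1 : 3640 < Nat.card G) (h2 : Nat.card G ≤ 6232) : Nat.card G = 4080 ∨ Nat.card G = 5616 ∨ Nat.card G = 6048 ∨ Nat.card G = 6072 := by
  have hs := Cfsg.Agent.SmallSimple.Sieve6232.survivor hG h1 h2
  simp only [Cfsg.Agent.SmallSimple.Sieve6232.survivors, List.mem_cons, List.not_mem_nil, or_false] at hs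
  rcases hs with h | h | h | h | h | h | h | h | h | h | h | h | h | h | h | h | h | h | h | h | h | h | h | h | h | h | h | h | h | h | h | h | h | h | h | h | h
  · exact absurd h (Cfsg.Agent.S0974.result (G := G))
  · exact absurd h Cfsg.Agent.SmallSimple.Orders6232.ne_3696
  · exact absurd h (Cfsg.Agent.S0975.result (G := G))
  · exact absurd h Cfsg.Agent.SmallSimple.Orders6232.ne_3780
  · exact absurd h Cfsg.Agent.SmallSimple.Orders6232.ne_3960
  · exact absurd h (Cfsg.Agent.S0976.result (G := G))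
  · exact Or.inl h
  · exact absurd h Cfsg.Agent.SmallSimple.Orders6232.ne_4200
  · exact absurd h Cfsg.Agent.SmallSimple.Orders6232.ne_4212
  · exact absurd h (Cfsg.Agent.S0977.result (G := G))
  · exact absurd h Cfsg.Agent.SmallSimple.Orders6232.ne_4400
  · exact absurd h Cfsg.Agent.SmallSimple.Orders6232.ne_4536
  · exact absurd h Cfsg.Agent.SmallSimple.Orders6232.ne_4620
  · exact absurd h Cfsg.Agent.SmallSimple.Orders6232.ne_4680
  · exact absurd h Cfsg.Agent.SmallSimple.Orders6232.ne_4760
  · exact absurd h Cfsg.Agent.SmallSimple.Orders6232.ne_4800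
  · exact absurd h Cfsg.Agent.SmallSimple.Orders6232.ne_4928
  · exact absurd h Cfsg.Agent.SmallSimple.Orders6232.ne_4960
  · exact absurd h (Cfsg.Agent.S0978.result (G := G))
  · exact absurd h Cfsg.Agent.SmallSimple.Orders6232.ne_5104
  · exact absurd h Cfsg.Agent.SmallSimple.Orders6232.ne_5148
  · exact absurd (Cfsg.Agent.SmallSimple.PSqQR.two_primes (G := G) (p := 2) (q := 3) (a := 6) (b := 4) (by norm_num) (by norm_num) (by rw [h]; norm_num)) hG
  · exact absurd h Cfsg.Agent.SmallSimple.Orders6232.ne_5200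
  · exact absurd h Cfsg.Agent.SmallSimple.Orders6232.ne_5236
  · exact absurd h Cfsg.Agent.SmallSimple.Orders6232.ne_5376
  · exact absurd h Cfsg.Agent.SmallSimple.Orders6232.ne_5400
  · exact absurd h Cfsg.Agent.SmallSimple.Orders6232.ne_5460
  · exact absurd h (Cfsg.Agent.S0979.result (G := G))
  · exact absurd h Cfsg.Agent.SmallSimple.Orders6232.ne_5600
  · exact Or.inr (Or.inl h)
  · exact absurd h Cfsg.Agent.SmallSimple.Orders6232.ne_5724
  · exact absurd h (Cfsg.Agent.S0980.result (G := G))
  · exact absurd h Cfsg.Agent.SmallSimple.Orders6232.ne_5852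
  · exact absurd h Cfsg.Agent.SmallSimple.Orders6232.ne_5880
  · exact absurd h Cfsg.Agent.SmallSimple.Orders6232.ne_5940
  · exact Or.inr (Or.inr (Or.inl h))
  · exact Or.inr (Or.inr (Or.inr h))

end Cfsg.Agent.S0983
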