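import Cfsg.Statements.S1011
import Cfsg.Agent.Lib.SmallSimple.EvenPSL

set_option autoImplicit false
set_option linter.style.haveILetI false
open Cfsg

namespace Cfsg.Agent.S1011

open Subgroup
open Cfsg.Agent.SmallSimple

/-- A simple group of order 504 is isomorphic to the projective special linear group of dimension 2 over the field with 8 elements. -/
theorem result {G : Type*} [Group G] [Finite G] [IsSimpleGroup G] (h : Nat.card G = 504) {F : Type*} [Field F] [Fintype F] (hF : Fintype.card F = 8) : Nonempty (G ≃* Matrix.ProjectiveSpecialLinearGroup (Fin 2) F) := by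
  classical
  haveI := Fintype.ofFinite G
  haveI : Fact (Nat.Prime 7) := ⟨by norm_num⟩
  haveI : Fact (Nat.Prime 3) := ⟨by norm_num⟩
  haveI : Fact (Nat.Prime 2) := ⟨by norm_num⟩
  have hG : ¬ IsMulCommutative G := Basic.not_comm_of_not_prime (h ▸ by norm_num)
  have hP7 : ∀ P : Sylow 7 G, Nat.card (P : Subgroup G) = 7 := fun P => by
    simpa using Basic.card_sylow_eq_pow (a := 1) (m := 72) (by rw [h]; norm_num) (by norm_num) P
  have hQ9 : ∀ Q : Sylow 3 G, Nat.card (Q : Subgroup G) = 9 := fun Q =>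
    Basic.card_sylow_eq_pow (a := 2) (m := 56) (by rw [h]; norm_num) (by norm_num) Q
  have h7G : 7 ∣ Nat.card G := by rw [h]; norm_num
  have hn7 : Nat.card (Sylow 7 G) = 36 := by
    obtain ⟨hd, hm, h1, hf⟩ := Basic.sylow_count (p := 7) hG h7G (a := 1) (m := 72)
      (by rw [h]; norm_num) (by norm_num)
    have key : ∀ n ∈ Nat.divisors 72, n % 7 = 1 → 1 < n → n = 8 ∨ n = 36 := by decide +kernel
    refine (key _ (Nat.mem_divisors.2 ⟨hd, by norm_num⟩) hm h1).resolve_left fun e => ?_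
    obtain ⟨P⟩ : Nonempty (Sylow 7 G) := inferInstance
    have hC := Centralize.card_centralizer_of_le hG (by norm_num) P (hP7 P) (by omega)
    obtain ⟨r, hr, -, hN, -⟩ := Centralize.centralizer_data hG P (hP7 P)
    have := Basic.card_normalizer_mul P
    rw [hN, hC, e, h] at this
    have hr9 : r = 9 := by omega
    rw [hr9] at hr
    norm_num at hr
  have hdata : ∀ P : Sylow 7 G, Nat.card (centralizer ((P : Subgroup G) : Set G)) = 7 ∧
      Nat.card (normalizer ((P : Subgroup G) : Set G)) = 14 := fun P => by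
    obtain ⟨r, hr, hr1, hN, hC⟩ := Centralize.centralizer_data hG P (hP7 P)
    have := Basic.card_normalizer_mul P
    rw [hn7, h] at this
    have h14 : Nat.card (normalizer ((P : Subgroup G) : Set G)) = 14 := by omega
    refine ⟨?_, h14⟩
    obtain ⟨k, hk⟩ := hC
    rw [h14, hk] at hN
    rw [hk]
    have : k * r = 2 := by nlinarith [hN]
    have : k = 1 := by
      rcases Nat.eq_zero_or_pos k with hk0 | hk0
      · subst hk0; omega
      · nlinarith
    omega
  obtain ⟨P⟩ : Nonempty (Sylow 7 G) := inferInstance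
  have hidx : (P : Subgroup G).relIndex (normalizer ((P : Subgroup G) : Set G)) = 2 := by
    have h1 := relIndex_mul_relIndex ⊥ (P : Subgroup G) (normalizer ((P : Subgroup G) : Set G)) bot_le
      le_normalizer
    rw [relIndex_bot_left, relIndex_bot_left, hP7, (hdata P).2] at h1
    omega
  obtain ⟨t, a, x, ht, hcl, hx1, hax, hxd, hxd1, heq⟩ := IndexTwo.equation hG (q := 7) (by norm_num)
    (EvenPSL.selfCent_of_card P (hP7 P) (hdata P).1) (hP7 P) hidx
  obtain ⟨T⟩ : Nonempty (Sylow 2 G) := inferInstance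
  have hT : Nat.card (T : Subgroup G) = 8 :=
    Basic.card_sylow_eq_pow (a := 3) (m := 63) (by rw [h]; norm_num) (by norm_num) T
  have hCt : Nat.card (centralizer ({t} : Set G)) = 8 := by
    have h8 := EvenPSL.card_sylow_dvd_centralizer T (by rw [h]; norm_num) hcl
    rw [hT] at h8
    have hcd : Nat.card (centralizer ({t} : Set G)) ∣ 504 := h ▸ card_subgroup_dvd_card _
    generalize Nat.card (centralizer ({t} : Set G)) = c at h8 hcd heq ⊢
    have hax2 := abs_le.1 hax
    obtain ⟨d, hd⟩ : ∃ d : ℕ, (a - x) ^ 2 = (d : ℤ) ^ 2 ∧ d ≤ 2 * x := ⟨(a - x).natAbs, (Int.natAbs_sq _).symm, by omega⟩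
    rw [hd.1, h] at heq
    have heq' : 504 * d ^ 2 = 7 * c ^ 2 * (x * (x + 1)) := by exact_mod_cast heq
    have key : ∀ y ∈ Nat.divisors 504, (y + 1) ∣ 504 → 1 < y → ∀ c ∈ Nat.divisors 504, 8 ∣ c →
        ∀ d ∈ Finset.range 17, d ≤ 2 * y → 504 * d ^ 2 = 7 * c ^ 2 * (y * (y + 1)) → c = 8 := by
      decide +kernel
    have hx8 : x ≤ 8 := by
      have key : ∀ y ∈ Nat.divisors 504, (y + 1) ∣ 504 → y ≤ 8 := by decide +kernel
      exact key x (Nat.mem_divisors.2 ⟨h ▸ hxd, by norm_num⟩) (h ▸ hxd1)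
    exact key x (Nat.mem_divisors.2 ⟨h ▸ hxd, by norm_num⟩) (h ▸ hxd1) hx1 c
      (Nat.mem_divisors.2 ⟨hcd, by norm_num⟩) h8 d (Finset.mem_range.2 (by omega)) hd.2 heq'
  have hI : Nat.card {g : G // orderOf g = 2} = 63 := by
    have := EvenPSL.card_involutions ht hcl
    rw [hCt, h] at this
    omega
  have hCall : ∀ u : G, orderOf u = 2 → Nat.card (centralizer ({u} : Set G)) = 8 := fun u hu => by
    have h1 := Basic.card_centralizer_mul_card_class (G := G) t
    have h2 := Basic.card_centralizer_mul_card_class (G := G) u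
    have hc := hcl u hu
    have e : Nat.card {y : G // IsConj t y} = Nat.card {y : G // IsConj u y} :=
      Nat.card_congr (Equiv.subtypeEquivRight fun y => ⟨fun h => hc.symm.trans h, fun h => hc.trans h⟩)
    haveI : Nonempty {y : G // IsConj u y} := ⟨⟨u, IsConj.refl u⟩⟩
    rw [hCt, e] at h1
    exact Nat.eq_of_mul_eq_mul_right Nat.card_pos (h2.trans h1.symm)
  -- centralisers of elements of order 3
  have hy : ∀ y : G, orderOf y = 3 → ∀ Q : Sylow 3 G, y ∈ (Q : Subgroup G) →
      centralizer ({y} : Set G) = (Q : Subgroup G) := by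
    intro y hy Q hyQ
    haveI : IsMulCommutative (Q : Subgroup G) :=
      IsPGroup.isMulCommutative_of_card_eq_prime_sq (p := 3) (by rw [hQ9]; norm_num)
    have hle : (Q : Subgroup G) ≤ centralizer ({y} : Set G) := fun z hz =>
      mem_centralizer_singleton_iff.2
        (congrArg Subtype.val (mul_comm' (⟨z, hz⟩ : (Q : Subgroup G)) ⟨y, hyQ⟩))
    have h2 : ¬ 2 ∣ Nat.card (centralizer ({y} : Set G)) := fun hd => by
      obtain ⟨⟨u, hu⟩, huo⟩ := exists_prime_orderOf_dvd_card' (G := centralizer ({y} : Set G)) 2 hd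
      rw [orderOf_mk] at huo
      have hm : y ∈ centralizer ({u} : Set G) :=
        mem_centralizer_singleton_iff.2 (mem_centralizer_singleton_iff.1 hu).symm
      have hd' := orderOf_dvd_natCard (⟨y, hm⟩ : centralizer ({u} : Set G))
      rw [orderOf_mk, hy, hCall u huo] at hd'
      norm_num at hd'
    have h7 : ¬ 7 ∣ Nat.card (centralizer ({y} : Set G)) := fun hd => by
      obtain ⟨⟨z, hz⟩, hzo⟩ := exists_prime_orderOf_dvd_card' (G := centralizer ({y} : Set G)) 7 hd
      rw [orderOf_mk] at hzo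
      obtain ⟨P', hP'⟩ := (IsPGroup.of_card (n := 1) (by rw [Nat.card_zpowers, hzo, pow_one]) :
        IsPGroup 7 (zpowers z)).exists_le_sylow
      have e : zpowers z = (P' : Subgroup G) :=
        eq_of_le_of_card_ge hP' (by rw [Nat.card_zpowers, hzo, hP7])
      have hm : y ∈ centralizer ((P' : Subgroup G) : Set G) := by
        rw [← e, zpowers_eq_closure, centralizer_closure]
        exact mem_centralizer_singleton_iff.2 (mem_centralizer_singleton_iff.1 hz).symm
      have hd' := orderOf_dvd_natCard (⟨y, hm⟩ : centralizer ((P' : Subgroup G) : Set G))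
      rw [orderOf_mk, hy, (hdata P').1] at hd'
      norm_num at hd'
    have key : ∀ c ∈ Nat.divisors 504, ¬ 2 ∣ c → ¬ 7 ∣ c → c ≤ 9 := by decide +kernel
    exact (eq_of_le_of_card_ge hle (by
      rw [hQ9]
      exact key _ (Nat.mem_divisors.2 ⟨h ▸ card_subgroup_dvd_card _, by norm_num⟩) h2 h7)).symm
  have hTI : ∀ Q Q' : Sylow 3 G, ∀ g : G, g ≠ 1 → g ∈ (Q : Subgroup G) → g ∈ (Q' : Subgroup G) →
      Q = Q' := by
    intro Q Q' g hg hgQ hgQ'
    have hd : orderOf g ∣ 9 := by
      have hd := orderOf_dvd_natCard (⟨g, hgQ⟩ : (Q : Subgroup G))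
      rwa [orderOf_mk, hQ9] at hd
    have h3 : 3 ∣ orderOf g := by
      obtain ⟨k, -, hk⟩ := (Nat.dvd_prime_pow (show Nat.Prime 3 by norm_num) (m := 2)).1
        (by simpa using hd)
      rcases Nat.eq_zero_or_pos k with rfl | hk0
      · exact absurd (orderOf_eq_one_iff.1 (by simpa using hk)) hg
      · rw [hk]; exact dvd_pow_self 3 hk0.ne'
    have ho : orderOf (g ^ (orderOf g / 3)) = 3 :=
      orderOf_pow_orderOf_div (orderOf_pos g).ne' h3
    exact Sylow.ext ((hy _ ho Q (pow_mem hgQ _)).symm.trans (hy _ ho Q' (pow_mem hgQ' _)))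
  have hn3 : Nat.card (Sylow 3 G) = 28 := by
    obtain ⟨Q⟩ : Nonempty (Sylow 3 G) := inferInstance
    have h9 := EvenPSL.card_dvd_card_sylow_sub_one Q (hTI Q)
    rw [hQ9] at h9
    obtain ⟨hd, -, h1, -⟩ := Basic.sylow_count (p := 3) hG (by rw [h]; norm_num) (a := 2) (m := 56)
      (by rw [h]; norm_num) (by norm_num)
    have key : ∀ n ∈ Nat.divisors 56, 9 ∣ n - 1 → 1 < n → n = 28 := by decide +kernel
    exact key _ (Nat.mem_divisors.2 ⟨hd, by norm_num⟩) h9 h1
  have hTI7 : ∀ P P' : Sylow 7 G, ∀ g : G, g ≠ 1 → g ∈ (P : Subgroup G) → g ∈ (P' : Subgroup G) →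
      P = P' := fun P P' g hg hgP hgP' => Sylow.ext
    ((Centralize.sylow_le_iff_mem hgP hg (hP7 P)).symm.trans
      (Centralize.sylow_le_iff_mem hgP' hg (hP7 P')))
  have hQcard : Nat.card {g : G // (g ≠ 1 ∧ ∃ P : Sylow 7 G, g ∈ (P : Subgroup G)) ∨
      (g ≠ 1 ∧ ∃ Q : Sylow 3 G, g ∈ (Q : Subgroup G))} = 440 := by
    have e7 := EvenPSL.card_union (fun P : Sylow 7 G => (P : Subgroup G)) hP7 hTI7
    have e3 := EvenPSL.card_union (fun Q : Sylow 3 G => (Q : Subgroup G)) hQ9 hTI
    rw [hn7] at e7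
    rw [hn3] at e3
    rw [Nat.card_eq_fintype_card] at e7 e3 ⊢
    rw [Fintype.card_subtype_or_disjoint, e7, e3]
    rw [disjoint_iff_inf_le]
    rintro g ⟨⟨hg, P', hP'⟩, ⟨-, Q', hQ'⟩⟩
    have d7 := orderOf_dvd_natCard (⟨g, hP'⟩ : (P' : Subgroup G))
    have d3 := orderOf_dvd_natCard (⟨g, hQ'⟩ : (Q' : Subgroup G))
    rw [orderOf_mk, hP7] at d7
    rw [orderOf_mk, hQ9] at d3
    exact hg (orderOf_eq_one_iff.1 (Nat.eq_one_of_dvd_coprimes (by norm_num : Nat.Coprime 7 9) d7 d3))
  refine EvenPSL.psl_of_centralizers hG T hT (by norm_num) hCall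
    (EvenPSL.exponent_two hI hQcard ?_ (by rw [h])) hF
  rintro g (⟨hg, P', hP'⟩ | ⟨hg, Q', hQ'⟩)
  · refine ⟨hg, Odd.of_dvd_nat (by decide : Odd 7) ?_⟩
    have d := orderOf_dvd_natCard (⟨g, hP'⟩ : (P' : Subgroup G))
    rwa [orderOf_mk, hP7] at d
  · refine ⟨hg, Odd.of_dvd_nat (by decide : Odd 9) ?_⟩
    have d := orderOf_dvd_natCard (⟨g, hQ'⟩ : (Q' : Subgroup G))
    rwa [orderOf_mk, hQ9] at d

end Cfsg.Agent.S1011
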