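import Cfsg.Statements.S4429
import Cfsg.Agent.Lib.PrimeBlock.Tools
import Cfsg.Agent.Lib.M11Order.FiveCentralizer
import Cfsg.Agent.BlocksChars.Degrees

set_option autoImplicit false
set_option linter.style.haveILetI false
open Cfsg

namespace Cfsg.Agent.S4429

open Cfsg.Agent Cfsg.Agent.Characters Cfsg.Agent.Blocks Subgroup

theorem degX_list : ∀ d ∈ List.range 89, d ∣ 7920 → 1 < d → (d % 5 = 0 ∨ d % 5 = 1 ∨ d % 5 = 4) →
    (d % 11 = 1 ∨ d % 11 = 10) → d = 10 ∨ d = 45 := by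
  decide +kernel

theorem degY_list : ∀ d ∈ List.range 89, d ∣ 7920 → 1 < d → (d % 5 = 0 ∨ d % 5 = 1 ∨ d % 5 = 4) →
    (d % 11 = 5 ∨ d % 11 = 6) → d = 5 ∨ d = 6 ∨ d = 16 ∨ d = 60 := by
  decide +kernel

theorem degW_list : ∀ d ∈ List.range 89, d ∣ 7920 → 1 < d → 11 ∣ d →
    (d % 5 = 0 ∨ d % 5 = 1 ∨ d % 5 = 4) → d = 11 ∨ d = 44 ∨ d = 55 ∨ d = 66 := by
  decide +kernel

/-- A self-centralising Sylow subgroup of prime order: outside the principal block `p` divides the
degrees. -/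
theorem pblock_data {G : Type*} [Group G] [Finite G] {p : ℕ} [Fact p.Prime] {P : Sylow p G}
    (D : PrimeBlock.PBlock P) (hP : SmallSimple.Exceptional.SelfCent (P : Subgroup G)) {e : ℕ}
    (he : (P : Subgroup G).relIndex (normalizer ((P : Subgroup G) : Set G)) = e) :
    Nat.card (centralizer ((P : Subgroup G) : Set G)) = p ∧ D.e = e ∧
      ∀ χ, χ ∉ Cfsg.principalBlock D.M G → p ∣ Cfsg.charDegree (χ : G → ℂ) := by
  obtain ⟨x, hx1, hx⟩ := D.exists_ne_one
  have hC : centralizer ((P : Subgroup G) : Set G) = (P : Subgroup G) :=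
    (D.centralizer_eq hx hx1).symm.trans (hP.centralizer_eq x hx hx1)
  have hCp : Nat.card (centralizer ((P : Subgroup G) : Set G)) = p := by rw [hC, D.card_P]
  refine ⟨hCp, by rw [← D.he, hC, he], fun χ hχ => ?_⟩
  obtain ⟨m, hm⟩ := PrimeBlock.sum_powers (irr_isCharacter χ) (Fact.out : p.Prime).ne_zero (D.x_pow hx)
  rw [PrimeBlock.range_split (p := p) D, Finset.sum_eq_zero fun i hi =>
    D.eq_zero_of_notMem hCp hχ (pow_mem hx i) (D.pow_ne_one hx hx1 (D.not_dvd_of_mem_erase hi)),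
    pow_zero, ← Blocks.charDegree_cast, add_zero] at hm
  exact ⟨m, by exact_mod_cast hm⟩

/-- Let G be a simple group of order 7920. Then G has exactly ten irreducible complex characters, and their degrees, listed with multiplicity, are 1, 10, 10, 10, 11, 16, 16, 44, 45, 55: for every natural number n, the number of irreducible characters of degree n is 1 if n ∈ {1, 11, 44, 45, 55}, 3 if n = 10, 2 if n = 16, and 0 otherwise. -/
theorem result {G : Type*} [Group G] [Finite G] [IsSimpleGroup G] (hG : Nat.card G = 7920) : Nat.card (Cfsg.IrrCharacter G) = 10 ∧ ∀ n : ℕ, Nat.card {χ : Cfsg.IrrCharacter G // Cfsg.charDegree (χ : G → ℂ) = n} = (if n = 1 ∨ n = 11 ∨ n = 44 ∨ n = 45 ∨ n = 55 then 1 else if n = 10 then 3 else if n = 16 then 2 else 0) := by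
  classical
  have hM : Cfsg.IsM11 G := ⟨inferInstance, hG⟩
  have hna := M11Order.nonab hM
  haveI : Fact (Nat.Prime 11) := ⟨by norm_num⟩
  haveI : Fact (Nat.Prime 5) := ⟨by norm_num⟩
  haveI := Fintype.ofFinite G
  haveI := Fintype.ofFinite (Cfsg.IrrCharacter G)
  have P : Sylow 11 G := default
  have Q : Sylow 5 G := default
  obtain ⟨-, -, hP, heP⟩ := M11Order.eleven_data hM P
  obtain ⟨-, hQ, heQ⟩ := M11Order.five_data hM Q
  obtain ⟨D, htD, hsD⟩ :=
    PrimeBlock.exists_pblock' hna (by norm_num) P (M11Order.card_sylow11_eq hM P)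
  obtain ⟨E, htE, -⟩ :=
    PrimeBlock.exists_pblock' hna (by norm_num) Q (M11Order.card_sylow5_eq hM Q)
  obtain ⟨hCD, hD5, hDout⟩ := pblock_data D hP heP
  obtain ⟨hCE, hE4, hEout⟩ := pblock_data E hQ heQ
  set f : Cfsg.IrrCharacter G → ℕ := fun χ => Cfsg.charDegree (χ : G → ℂ) with hf
  set W : Finset (Cfsg.IrrCharacter G) := Finset.univ \ (D.X ∪ D.Y) with hW
  have hYcard : D.Y.card = 2 := by rw [D.card_Y, hD5]
  have hEY : E.Y.card = 1 := by rw [E.card_Y, hE4]
  -- general restrictions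
  have hdvd : ∀ χ : Cfsg.IrrCharacter G, f χ ∣ 7920 := fun χ =>
    hG ▸ BlocksChars.Degrees.charDegree_dvd_card χ
  have hlt : ∀ χ, χ ≠ trivIrr G → 1 < f χ ∧ f χ < 89 := fun χ hχ => by
    refine ⟨lt_of_le_of_ne (Blocks.charDegree_pos χ) (Ne.symm (PrimeBlock.deg_ne_one hna hχ)), ?_⟩
    have h := PrimeBlock.deg_sq_lt hχ
    rw [hG] at h
    by_contra hc
    have := Nat.mul_le_mul (not_lt.1 hc) (not_lt.1 hc)
    change 89 * 89 ≤ PrimeBlock.deg χ * PrimeBlock.deg χ at this
    omega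
  -- degrees modulo five
  have hfive : ∀ χ, (χ ∈ E.X ∪ E.Y ↔ ¬ 5 ∣ f χ) ∧
      (f χ % 5 = 0 ∨ f χ % 5 = 1 ∨ f χ % 5 = 4) := by
    intro χ
    by_cases hχ : χ ∈ Cfsg.principalBlock E.M G
    · have key : ∃ s : ℤ, (s = 1 ∨ s = -1) ∧ ((5 : ℕ) : ℤ) ∣ s - (f χ : ℤ) := by
        rcases (E.mem_block χ).1 hχ with hX | hY
        · exact ⟨_, E.sgn_eq χ hX, Int.modEq_iff_dvd.1 (E.deg_X χ hX)⟩
        · have h := Int.modEq_iff_dvd.1 (E.deg_Y χ hY)
          rw [hE4] at h
          refine ⟨-E.ε, ?_, ?_⟩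
          · rcases E.ε_eq with e | e <;> rw [e] <;> simp
          · change ((5 : ℕ) : ℤ) ∣ E.ε * ((4 : ℕ) : ℤ) - (f χ : ℤ) at h
            rcases E.ε_eq with e | e <;> rw [e] at h ⊢ <;> omega
      obtain ⟨s, hs, hd⟩ := key
      have hmem : χ ∈ E.X ∪ E.Y := Finset.mem_union.2 ((E.mem_block χ).1 hχ)
      refine ⟨iff_of_true hmem ?_, ?_⟩ <;> rcases hs with rfl | rfl <;> omega
    · have hd := hEout χ hχ
      have hd' : 5 ∣ f χ := hd
      refine ⟨iff_of_false (fun h => hχ ((E.mem_block χ).2 (Finset.mem_union.1 h))) (by omega), ?_⟩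
      omega
  have hEcount : (Finset.univ.filter fun χ => ¬ 5 ∣ f χ).card = 5 := by
    rw [show (Finset.univ.filter fun χ => ¬ 5 ∣ f χ) = E.X ∪ E.Y by ext χ; simp [(hfive χ).1],
      Finset.card_union_of_disjoint E.disj, E.card_X, hE4, hEY]
  -- the principal block for eleven
  have hX : ∀ χ ∈ D.X.erase (trivIrr G),
      (f χ = 10 ∧ D.sgn χ = -1) ∨ (f χ = 45 ∧ D.sgn χ = 1) := by
    intro χ hχ
    obtain ⟨hne, hmem⟩ := Finset.mem_erase.1 hχ
    obtain ⟨h1, h2⟩ := hlt χ hne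
    have hc : ((11 : ℕ) : ℤ) ∣ D.sgn χ - (f χ : ℤ) := Int.modEq_iff_dvd.1 (D.deg_X χ hmem)
    have := degX_list (f χ) (List.mem_range.2 h2) (hdvd χ) h1 (hfive χ).2
    rcases D.sgn_eq χ hmem with e | e <;> rw [e] at hc ⊢ <;> omega
  obtain ⟨θ, hθ⟩ := D.Y_nonempty
  have hθne : θ ≠ trivIrr G := fun e => Finset.disjoint_left.1 D.disj htD (e ▸ hθ)
  have hθd := degY_list (f θ) (List.mem_range.2 (hlt θ hθne).2) (hdvd θ) (hlt θ hθne).1 (hfive θ).2
  have hθc : ((11 : ℕ) : ℤ) ∣ D.ε * 5 - (f θ : ℤ) := by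
    have := Int.modEq_iff_dvd.1 (D.deg_Y θ hθ)
    rwa [hD5] at this
  have hXc : (D.X.erase (trivIrr G)).card = 4 := by
    rw [Finset.card_erase_of_mem htD, D.card_X, hD5]
  have hrel := D.rel_one hθ
  rw [← Finset.add_sum_erase _ _ htD, hsD, PrimeBlock.deg_trivIrr,
    Finset.sum_congr rfl (g := fun χ => if f χ = 10 then (-10 : ℤ) else 45) fun χ hχ => by
      rcases hX χ hχ with ⟨a, b⟩ | ⟨a, b⟩
      · rw [if_pos a, b, show PrimeBlock.deg χ = 10 from a]; norm_num
      · rw [if_neg (by omega), b, show PrimeBlock.deg χ = 45 from a]; norm_num,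
    Finset.sum_ite, Finset.sum_const, Finset.sum_const] at hrel
  have hsplitX := Finset.card_filter_add_card_filter_not (s := D.X.erase (trivIrr G))
    (fun χ => f χ = 10)
  rw [hXc] at hsplitX
  simp only [nsmul_eq_mul, Nat.cast_one, mul_one] at hrel
  change D.ε * (f θ : ℤ) = _ at hrel
  obtain ⟨hθ16, hn10, hn45⟩ : f θ = 16 ∧
      ((D.X.erase (trivIrr G)).filter fun χ => f χ = 10).card = 3 ∧
      ((D.X.erase (trivIrr G)).filter fun χ => ¬ f χ = 10).card = 1 := by
    rcases D.ε_eq with e | e <;> rw [e] at hrel hθc <;> omega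
  have hY : ∀ χ ∈ D.Y, f χ = 16 := fun χ hχ => (D.deg_Y_eq hχ hθ).trans hθ16
  have hWd : ∀ χ ∈ W, f χ = 11 ∨ f χ = 44 ∨ f χ = 55 ∨ f χ = 66 := by
    intro χ hχ
    rw [hW, Finset.mem_sdiff, Finset.mem_union, not_or] at hχ
    have hnb : χ ∉ Cfsg.principalBlock D.M G := fun h => by
      rcases (D.mem_block χ).1 h with h | h
      exacts [hχ.2.1 h, hχ.2.2 h]
    have hne : χ ≠ trivIrr G := fun e => hχ.2.1 (e ▸ htD)
    have hd : 11 ∣ f χ := hDout χ hnb
    exact degW_list (f χ) (List.mem_range.2 (hlt χ hne).2) (hdvd χ) (hlt χ hne).1 hd (hfive χ).2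
  -- splitting a sum
  have hsum : ∀ g : ℕ → ℕ, ∑ χ, g (f χ) = g 1 + 3 * g 10 + g 45 + 2 * g 16 +
      ((W.filter fun χ => f χ = 11).card * g 11 + (W.filter fun χ => f χ = 44).card * g 44 +
        (W.filter fun χ => f χ = 55).card * g 55 + (W.filter fun χ => f χ = 66).card * g 66) := by
    intro g
    rw [← Finset.sum_sdiff (Finset.subset_univ (D.X ∪ D.Y)), ← hW, Finset.sum_union D.disj, add_comm]
    congr 1
    · rw [← Finset.add_sum_erase _ _ htD, show f (trivIrr G) = 1 from PrimeBlock.deg_trivIrr,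
        ← Finset.sum_filter_add_sum_filter_not (D.X.erase (trivIrr G)) (fun χ => f χ = 10),
        Finset.sum_const_nat (m := g 10) fun χ hχ => by rw [(Finset.mem_filter.1 hχ).2],
        Finset.sum_const_nat (m := g 45) fun χ hχ => by
          obtain ⟨h1, h2⟩ := Finset.mem_filter.1 hχ
          rw [((hX χ h1).resolve_left fun h => h2 h.1).1],
        Finset.sum_const_nat (s := D.Y) (m := g 16) fun χ hχ => by rw [hY χ hχ],
        hn10, hn45, hYcard]
      ring
    · simp only [Finset.card_filter, Finset.sum_mul, ← Finset.sum_add_distrib]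
      refine Finset.sum_congr rfl fun χ hχ => ?_
      rcases hWd χ hχ with h | h | h | h <;> simp [h]
  have hsq : ∑ χ : Cfsg.IrrCharacter G, f χ ^ 2 = 7920 := by
    apply Nat.cast_injective (R := ℂ)
    rw [← hG, ← sum_degree_sq (G := G), Nat.cast_sum]
    exact Finset.sum_congr rfl fun χ _ => by rw [← Blocks.charDegree_cast]; push_cast; rfl
  have h1 := hsum fun d => d ^ 2
  rw [hsq] at h1
  have h2 := hsum fun d => if ¬ 5 ∣ d then 1 else 0
  rw [← Finset.card_filter, hEcount] at h2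
  norm_num at h1 h2
  obtain ⟨a11, a44, a55, a66⟩ : (W.filter fun χ => f χ = 11).card = 1 ∧
      (W.filter fun χ => f χ = 44).card = 1 ∧ (W.filter fun χ => f χ = 55).card = 1 ∧
      (W.filter fun χ => f χ = 66).card = 0 := by
    generalize (W.filter fun χ => f χ = 11).card = a at h1 h2 ⊢
    generalize (W.filter fun χ => f χ = 44).card = b at h1 h2 ⊢
    generalize (W.filter fun χ => f χ = 55).card = c at h1 h2 ⊢
    generalize (W.filter fun χ => f χ = 66).card = d at h1 h2 ⊢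
    have hb : b ≤ 2 := by omega
    have hd : d ≤ 2 := by omega
    interval_cases b <;> interval_cases d <;> omega
  constructor
  · have := hsum fun _ => 1
    simp only [Finset.sum_const, smul_eq_mul, mul_one, a11, a44, a55, a66, Finset.card_univ] at this
    rw [Nat.card_eq_fintype_card, this]
  · intro n
    have := hsum fun d => if d = n then 1 else 0
    rw [← Finset.card_filter, a11, a44, a55, a66] at this
    rw [Nat.card_eq_fintype_card, Fintype.card_subtype]
    refine this.trans ?_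
    rcases eq_or_ne n 1 with rfl | n1; · norm_num
    rcases eq_or_ne n 10 with rfl | n10; · norm_num
    rcases eq_or_ne n 11 with rfl | n11; · norm_num
    rcases eq_or_ne n 16 with rfl | n16; · norm_num
    rcases eq_or_ne n 44 with rfl | n44; · norm_num
    rcases eq_or_ne n 45 with rfl | n45; · norm_num
    rcases eq_or_ne n 55 with rfl | n55; · norm_num
    simp [n1, n10, n11, n16, n44, n45, n55, n1.symm, n10.symm, n11.symm, n16.symm, n44.symm, n45.symm,
      n55.symm]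

end Cfsg.Agent.S4429
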