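import Cfsg.Statements.S1666
import Cfsg.Agent.Lib.LeechAut.HSUnique
import Cfsg.Agent.Lib.Golay.AutM22
import Cfsg.Agent.GroupStructure3.HSAut.Count

set_option autoImplicit false
open Cfsg

namespace Cfsg.Agent.S1666

section Helpers

open Cfsg.Agent.Golay.Basic Cfsg.Agent.Golay.Perm Cfsg.Agent.Golay.M24 Cfsg.Agent.Golay.Trans
  Cfsg.Agent.Golay.AutBig Cfsg.Agent.Golay.AutM22
open scoped Pointwise

local notation "pG" => Equiv.Perm GolayPt

theorem card_M22 : Nat.card Spor.M22 = 443520 := by rw [M22_eq]; exact card_K22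

theorem card_stab22 {d : GolayPt} (h1 : d ≠ ea) (h2 : d ≠ eb) :
    Nat.card (MulAction.stabilizer Spor.M22 d) = 20160 := by
  rw [← Subgroup.card_map_of_injective (f := Spor.M22.subtype) Spor.M22.subtype_injective, stab22]
  exact card_three h1 h2

/-- A transitive action of degree 22 of a group isomorphic to M22 is doubly transitive. -/
theorem two_trans {K α : Type*} [Group K] [Finite K] [MulAction K α] (e : K ≃* Spor.M22) (b : α)
    (h22 : (MulAction.orbit K b).ncard = 22) {x y : α} (hx : x ∈ MulAction.orbit K b) (hxb : x ≠ b)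
    (hy : y ∈ MulAction.orbit K b) (hyb : y ≠ b) : ∃ k : K, k • b = b ∧ k • x = y := by
  classical
  let O := MulAction.orbit K b
  have hmap : ∀ z ∈ O, ∃ d : GolayPt, (d ≠ ea ∧ d ≠ eb) ∧
      (MulAction.stabilizer K z).map e.toMonoidHom = MulAction.stabilizer Spor.M22 d := by
    intro z hz
    have hidx : (MulAction.stabilizer K z).index = 22 := by
      rw [MulAction.index_stabilizer, MulAction.orbit_eq_iff.2 hz, h22]
    have hc : Nat.card ((MulAction.stabilizer K z).map e.toMonoidHom) = 20160 := by
      rw [Subgroup.card_map_of_injective e.injective]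
      have h := (MulAction.stabilizer K z).card_mul_index
      rw [hidx, Nat.card_congr e.toEquiv, card_M22] at h
      omega
    obtain ⟨d, h1, h2, hle⟩ := exists_fixed22 _ (le_trans (Subgroup.map_subtype_le
      ((MulAction.stabilizer K z).map e.toMonoidHom)) (le_of_eq M22_eq))
      (by rw [Subgroup.card_map_of_injective Spor.M22.subtype_injective, hc])
    refine ⟨d, ⟨h1, h2⟩, Subgroup.eq_of_le_of_card_ge ?_ (by rw [card_stab22 h1 h2, hc])⟩
    intro g hg
    exact (hle ⟨g, hg, rfl⟩).2 d (by simp)
  obtain ⟨d, hd, hKb⟩ := hmap b (MulAction.mem_orbit_self b)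
  obtain ⟨d', hd', hKx⟩ := hmap x hx
  have hne : d ≠ d' := by
    rintro rfl
    obtain ⟨k, rfl⟩ := hx
    have hconj : MulAction.stabilizer K (k • b) = MulAction.stabilizer K b :=
      Subgroup.map_injective (f := e.toMonoidHom) e.injective (hKx.trans hKb.symm)
    have hk : MulAction.stabilizer Spor.M22 (e k • d) = MulAction.stabilizer Spor.M22 d := by
      ext g
      constructor
      · intro hg
        have h1 : e.symm ((e k)⁻¹ * g * e k) ∈ MulAction.stabilizer K b := by
          have : (e k)⁻¹ * g * e k ∈ (MulAction.stabilizer K b).map e.toMonoidHom := by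
            rw [hKb, MulAction.mem_stabilizer_iff, mul_smul, mul_smul, MulAction.mem_stabilizer_iff.1 hg,
              inv_smul_smul]
          obtain ⟨u, hu, hue⟩ := this
          rw [← hue, MulEquiv.coe_toMonoidHom, MulEquiv.symm_apply_apply]
          exact hu
        have h2 : e.symm g ∈ MulAction.stabilizer K (k • b) := by
          rw [MulAction.mem_stabilizer_iff] at h1 ⊢
          rw [map_mul, map_mul, map_inv, MulEquiv.symm_apply_apply, mul_smul, mul_smul,
            inv_smul_eq_iff] at h1
          exact h1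
        rw [hconj] at h2
        exact hKb ▸ ⟨_, h2, e.apply_symm_apply g⟩
      · intro hg
        rw [← hKb] at hg
        obtain ⟨u, hu, rfl⟩ := hg
        rw [SetLike.mem_coe, ← hconj, MulAction.mem_stabilizer_iff] at hu
        have h1 : k⁻¹ * u * k ∈ MulAction.stabilizer K b := by
          rw [MulAction.mem_stabilizer_iff, mul_smul, mul_smul, hu, inv_smul_smul]
        have h2 : e (k⁻¹ * u * k) • d = d :=
          MulAction.mem_stabilizer_iff.1 (hKb ▸ ⟨_, h1, rfl⟩)
        rw [map_mul, map_mul, map_inv, mul_smul, mul_smul, inv_smul_eq_iff] at h2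
        exact h2
    have hkd : e k • d = d := by
      have hg := fixed_iff (y := d) (mem22 (e k))
      exact inj22 ⟨fun h => hd.1 (hg.1.1 h), fun h => hd.2 (hg.2.1 h)⟩ hd hk
    have : k ∈ MulAction.stabilizer K b := by
      have hm : e k ∈ (MulAction.stabilizer K b).map e.toMonoidHom := hKb ▸ hkd
      obtain ⟨u, hu, hue⟩ := hm
      rwa [← e.injective hue]
    exact hxb this
  -- the orbit of `x` under the stabiliser of `b`
  set L := MulAction.stabilizer K b with hL
  have hLc : Nat.card L = 20160 := by
    rw [← Subgroup.card_map_of_injective (f := e.toMonoidHom) e.injective, hKb, card_stab22 hd.1 hd.2]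
  have hst : Nat.card (MulAction.stabilizer L x) = 960 := by
    have hinj : Function.Injective ((Spor.M22.subtype.comp e.toMonoidHom).comp
        (L.subtype.comp (MulAction.stabilizer L x).subtype)) :=
      (Spor.M22.subtype_injective.comp e.injective).comp
        (L.subtype_injective.comp (MulAction.stabilizer L x).subtype_injective)
    rw [Nat.card_congr (MonoidHom.ofInjective hinj).toEquiv]
    have hr : ((Spor.M22.subtype.comp e.toMonoidHom).comp
        (L.subtype.comp (MulAction.stabilizer L x).subtype)).range = fixers M24 [ea, eb, d, d'] := by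
      ext g
      constructor
      · rintro ⟨u, rfl⟩
        have h1 : e ((u : L) : K) ∈ MulAction.stabilizer Spor.M22 d := hKb ▸ ⟨_, (u : L).2, rfl⟩
        have h2 : e ((u : L) : K) ∈ MulAction.stabilizer Spor.M22 d' := hKx ▸ ⟨_, u.2, rfl⟩
        have h3 := mem_K22.1 (mem22 (e ((u : L) : K)))
        refine ⟨h3.1, fun w hw => ?_⟩
        simp only [List.mem_cons, List.not_mem_nil, or_false] at hw
        rcases hw with rfl | rfl | rfl | rfl
        exacts [h3.2.1, h3.2.2, h1, h2]
      · intro hg
        have hgm : g ∈ Spor.M22 := by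
          rw [M22_eq]; exact mem_K22.2 ⟨hg.1, hg.2 _ (by simp), hg.2 _ (by simp)⟩
        have h1 : (⟨g, hgm⟩ : Spor.M22) ∈ (MulAction.stabilizer K b).map e.toMonoidHom :=
          hKb ▸ (hg.2 d (by simp) : (g : pG) d = d)
        have h2 : (⟨g, hgm⟩ : Spor.M22) ∈ (MulAction.stabilizer K x).map e.toMonoidHom :=
          hKx ▸ (hg.2 d' (by simp) : (g : pG) d' = d')
        obtain ⟨u, hu, hue⟩ := h1
        obtain ⟨v, hv, hve⟩ := h2
        obtain rfl := e.injective (hue.trans hve.symm)
        exact ⟨⟨⟨u, hu⟩, hv⟩, congrArg Subtype.val hue⟩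
    rw [hr, card_fixers (by simp [hd.1.symm, hd.2.symm, hd'.1.symm, hd'.2.symm, hne,
      show ea ≠ eb by decide]) (by simp)]
    rfl
  have horb : (MulAction.orbit L x).ncard = 21 := by
    have h := (MulAction.stabilizer L x).index_mul_card
    rw [MulAction.index_stabilizer, hst, hLc] at h
    omega
  have hfin : O.Finite := Set.finite_of_ncard_ne_zero (by rw [h22]; norm_num)
  have heq : MulAction.orbit L x = O \ {b} := by
    refine Set.eq_of_subset_of_ncard_le ?_ ?_ hfin.sdiff
    · rintro _ ⟨l, rfl⟩
      refine ⟨?_, fun h => hxb ?_⟩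
      · show ((l : K) • x) ∈ O
        obtain ⟨k, rfl⟩ := hx
        exact ⟨(l : K) * k, mul_smul _ _ _⟩
      · have h' : (l : K) • x = b := h
        rw [← (MulAction.mem_stabilizer_iff.1 l.2 : (l : K) • b = b)] at h'
        exact MulAction.injective _ h'
    · rw [horb, Set.ncard_sdiff_singleton_of_mem (MulAction.mem_orbit_self b), h22]
  obtain ⟨l, hl⟩ : y ∈ MulAction.orbit L x := heq ▸ ⟨hy, hyb⟩
  exact ⟨l, l.2, hl⟩

open scoped Classical in
theorem isoHS_of_rank_three {Ω : Type*} [Fintype Ω] (hΩ : Fintype.card Ω = 100)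
    (G : Subgroup (Equiv.Perm Ω)) [MulAction.IsPretransitive G Ω] (a : Ω)
    (e : MulAction.stabilizer G a ≃* Spor.M22) (b c : Ω)
    (hb : (MulAction.orbit (MulAction.stabilizer G a) b).ncard = 22)
    (hc : (MulAction.orbit (MulAction.stabilizer G a) c).ncard = 77) : Spor.IsoHS G := by
  classical
  set K := MulAction.stabilizer G a with hK
  set O := MulAction.orbit K b with hO
  set O' := MulAction.orbit K c with hO'
  have hΩ' : Nat.card Ω = 100 := by rw [Nat.card_eq_fintype_card, hΩ]
  have hcardG : Nat.card G = 44352000 := by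
    rw [← K.index_mul_card, MulAction.index_stabilizer_of_transitive, hΩ',
      Nat.card_congr e.toEquiv, card_M22]
  have hKfix : ∀ k : K, k • a = a := fun k => k.2
  have haO : ∀ z : Ω, a ∈ MulAction.orbit K z → MulAction.orbit K z = {a} := by
    intro z hz
    rw [← MulAction.orbit_eq_iff.2 hz]
    exact Set.eq_singleton_iff_unique_mem.2 ⟨MulAction.mem_orbit_self a, by
      rintro _ ⟨k, rfl⟩; exact hKfix k⟩
  have haO1 : a ∉ O := fun h => by rw [hO, haO b h, Set.ncard_singleton] at hb; norm_num at hb
  have haO2 : a ∉ O' := fun h => by rw [hO', haO c h, Set.ncard_singleton] at hc; norm_num at hc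
  have hdisj : Disjoint O O' := by
    rw [Set.disjoint_left]
    intro z h h'
    have := (MulAction.orbit_eq_iff.2 h).symm.trans (MulAction.orbit_eq_iff.2 h')
    rw [← hO, ← hO'] at this
    rw [← this] at hc
    omega
  have hcover : ∀ z, z ≠ a → z ∉ O → z ∈ O' := by
    intro z hza hzO
    by_contra hz
    have h := Set.ncard_le_ncard (s := insert z (insert a (O ∪ O'))) (t := Set.univ)
      (Set.subset_univ _) Set.finite_univ
    rw [Set.ncard_univ, hΩ', Set.ncard_insert_of_notMem (by simp [hza, hzO, hz]) (Set.toFinite _),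
      Set.ncard_insert_of_notMem (by simp [haO1, haO2]) (Set.toFinite _),
      Set.ncard_union_eq hdisj (Set.toFinite _) (Set.toFinite _), hb, hc] at h
    omega
  -- adjacency
  let R : Ω → Ω → Prop := fun x y => ∃ g : G, g • a = x ∧ g • b = y
  have hRg : ∀ (g : G) (x y : Ω), R (g • x) (g • y) ↔ R x y := by
    intro g x y
    constructor
    · rintro ⟨h, h1, h2⟩
      exact ⟨g⁻¹ * h, by rw [mul_smul, h1, inv_smul_smul], by rw [mul_smul, h2, inv_smul_smul]⟩
    · rintro ⟨h, h1, h2⟩
      exact ⟨g * h, by rw [mul_smul, h1], by rw [mul_smul, h2]⟩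
  have hRa : ∀ y, R a y ↔ y ∈ O := by
    intro y
    constructor
    · rintro ⟨g, h1, h2⟩; exact ⟨⟨g, h1⟩, h2⟩
    · rintro ⟨k, hk⟩; exact ⟨k, k.2, hk⟩
  have htr : ∀ x : Ω, ∃ g : G, g • a = x := fun x => MulAction.exists_smul_eq G a x
  have hout : ∀ x, (Finset.univ.filter fun y => R x y).card = 22 := by
    intro x
    obtain ⟨g, rfl⟩ := htr x
    rw [← hb, Set.ncard_eq_toFinset_card']
    refine (Finset.card_bij (fun y _ => g • y) ?_ ?_ ?_).symm
    · intro y hy; simp only [Finset.mem_filter, Finset.mem_univ, true_and, hRg, hRa]; simpa using hy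
    · intro y _ z _ h; exact MulAction.injective g h
    · intro y hy
      simp only [Finset.mem_filter, Finset.mem_univ, true_and] at hy
      refine ⟨g⁻¹ • y, ?_, smul_inv_smul g y⟩
      rw [Set.mem_toFinset, ← hRa, ← hRg g, smul_inv_smul]; exact hy
  have hin : ∀ y, (Finset.univ.filter fun x => R x y).card = 22 := by
    have hconst : ∀ y z, (Finset.univ.filter fun x => R x y).card = (Finset.univ.filter fun x => R x z).card := by
      intro y z
      obtain ⟨g, rfl⟩ := MulAction.exists_smul_eq G y z
      refine Finset.card_bij' (fun x _ => g • x) (fun x _ => g⁻¹ • x) ?_ ?_ (by simp) (by simp)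
      · intro x hx; simp only [Finset.mem_filter, Finset.mem_univ, true_and] at hx ⊢; rwa [hRg]
      · intro x hx; simp only [Finset.mem_filter, Finset.mem_univ, true_and] at hx ⊢
        rwa [← hRg g, smul_inv_smul]
    intro y
    have h := Finset.sum_card_bipartiteAbove_eq_sum_card_bipartiteBelow R
      (s := (Finset.univ : Finset Ω)) (t := Finset.univ)
    simp only [Finset.bipartiteAbove, Finset.bipartiteBelow, hout, fun z => hconst z y,
      Finset.sum_const, Finset.card_univ, hΩ, smul_eq_mul] at h
    omega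
  have hsymm : ∀ x y, R x y → R y x := by
    have key : ∀ y, R a y → R y a := by
      intro y hy
      have hne : (Finset.univ.filter fun x => R x a).Nonempty := Finset.card_pos.1 (by rw [hin]; norm_num)
      obtain ⟨z, hz⟩ := hne
      simp only [Finset.mem_filter, Finset.mem_univ, true_and] at hz
      have hinv : ∀ (k : K) x, R x a → R (k • x) a := fun k x hx => by
        have := (hRg k x a).2 hx
        rwa [show (k : G) • a = a from k.2] at this
      have hza : z ≠ a := fun h => by rw [h] at hz; exact haO1 ((hRa a).1 hz)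
      by_cases hzO : z ∈ O
      · obtain ⟨k, rfl⟩ := hzO
        obtain ⟨k', rfl⟩ := (hRa y).1 hy
        have := hinv (k' * k⁻¹) _ hz
        rwa [mul_smul, inv_smul_smul] at this
      · exfalso
        obtain ⟨k, hk⟩ := hcover z hza hzO
        have hsub : O' ⊆ {x | R x a} := by
          rintro _ ⟨k', rfl⟩
          have := hinv (k' * k⁻¹) _ hz
          rwa [← hk, mul_smul, inv_smul_smul] at this
        have := Set.ncard_le_ncard hsub (Set.toFinite _)
        rw [hc, Set.ncard_eq_toFinset_card'] at this
        simp only [Set.toFinset_setOf, hin] at this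
        omega
    intro x y hxy
    obtain ⟨g, rfl⟩ := htr x
    rw [← smul_inv_smul g y, hRg] at hxy
    rw [← smul_inv_smul g y, hRg]
    exact key _ hxy
  have hirr : ∀ x, ¬ R x x := by
    intro x h
    obtain ⟨g, rfl⟩ := htr x
    rw [hRg] at h
    exact haO1 ((hRa a).1 h)
  let Γ : SimpleGraph Ω := { Adj := R, symm := ⟨hsymm⟩, loopless := ⟨hirr⟩ }
  let cn : Ω → Ω → ℕ := fun x y => (Finset.univ.filter fun z => R x z ∧ R y z).card
  have hcn : ∀ (g : G) x y, cn (g • x) (g • y) = cn x y := by
    intro g x y
    refine Finset.card_bij' (fun z _ => g⁻¹ • z) (fun z _ => g • z) ?_ ?_ (by simp) (by simp)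
    · intro z hz; simp only [Finset.mem_filter, Finset.mem_univ, true_and] at hz ⊢
      rwa [← hRg g x, ← hRg g y, smul_inv_smul]
    · intro z hz; simp only [Finset.mem_filter, Finset.mem_univ, true_and] at hz ⊢
      rwa [hRg, hRg]
  have hcnK : ∀ (k : K) y, cn a (k • y) = cn a y := fun k y => by
    have h := hcn k a y
    rwa [show (k : G) • a = a from k.2] at h
  -- adjacent points have no common neighbour
  have hlam : cn a b = 0 := by
    by_contra hne
    obtain ⟨x, hx⟩ := Finset.card_pos.1 (Nat.pos_of_ne_zero hne)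
    simp only [Finset.mem_filter, Finset.mem_univ, true_and] at hx
    have hxO := (hRa x).1 hx.1
    have hxb : x ≠ b := fun h => hirr b (h ▸ hx.2)
    have hall : ∀ y ∈ O, y ≠ b → R b y := by
      intro y hy hyb
      obtain ⟨k, hk1, hk2⟩ := two_trans e b hb hxO hxb hy hyb
      have := (hRg k b x).2 hx.2
      rwa [show (k : G) • b = b from hk1, show (k : G) • x = y from hk2] at this
    let C : Set Ω := insert a O
    have hC : C.ncard = 23 := by rw [Set.ncard_insert_of_notMem haO1 (Set.toFinite _), hb]
    have hclique : ∀ u ∈ C, ∀ v ∈ C, u ≠ v → R u v := by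
      have hO1 : ∀ u ∈ O, ∀ v ∈ O, u ≠ v → R u v := by
        rintro _ ⟨k, rfl⟩ v hv huv
        have hv' : k⁻¹ • v ∈ O := by
          obtain ⟨k', rfl⟩ := hv
          exact ⟨k⁻¹ * k', mul_smul _ _ _⟩
        have := (hRg k b (k⁻¹ • v)).2 (hall _ hv' (fun h => huv (by
          show k • b = v
          rw [← h, smul_inv_smul])))
        rwa [show (k : G) • (k⁻¹ • v) = v from smul_inv_smul k v] at this
      intro u hu v hv huv
      rcases hu with rfl | hu <;> rcases hv with rfl | hv
      · exact absurd rfl huv
      · exact (hRa v).2 hv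
      · exact hsymm _ _ ((hRa u).2 hu)
      · exact hO1 u hu v hv huv
    have hclosed : ∀ u ∈ C, ∀ v, R u v → v ∈ C := by
      intro u hu v huv
      by_contra hv
      have hsub : insert v (C \ {u}) ⊆ {w | R u w} := by
        rintro w (rfl | ⟨hw, hwu⟩)
        · exact huv
        · exact hclique u hu w hw (fun h => hwu h.symm)
      have h := Set.ncard_le_ncard hsub (Set.toFinite _)
      rw [Set.ncard_insert_of_notMem (fun h => hv h.1) (Set.toFinite _),
        Set.ncard_sdiff_singleton_of_mem hu, hC, Set.ncard_eq_toFinset_card' {w | R u w}] at h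
      simp only [Set.toFinset_setOf, hout] at h
      omega
    let M := MulAction.stabilizer G C
    have hmove : ∀ g : G, g • a ∈ C → g ∈ M := by
      intro g hg
      rw [MulAction.mem_stabilizer_iff]
      refine Set.eq_of_subset_of_ncard_le ?_ (le_of_eq (Set.ncard_smul_set g C).symm) (Set.toFinite _)
      rintro _ ⟨u, hu, rfl⟩
      rcases hu with rfl | hu
      · exact hg
      · exact hclosed _ hg _ ((hRg g a u).2 ((hRa u).2 hu))
    have horbit : MulAction.orbit M a = C := by
      ext u
      constructor
      · rintro ⟨g, rfl⟩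
        show (g : G) • a ∈ C
        rw [← MulAction.mem_stabilizer_iff.1 g.2]
        exact Set.smul_mem_smul_set (Set.mem_insert a O)
      · intro hu
        obtain ⟨g, rfl⟩ := htr u
        exact ⟨⟨g, hmove g hu⟩, rfl⟩
    have h1 : 23 ∣ Nat.card M := by
      rw [← (MulAction.stabilizer M a).index_mul_card, MulAction.index_stabilizer, horbit, hC]
      exact dvd_mul_right _ _
    have h2 := h1.trans M.card_subgroup_dvd_card
    rw [hcardG] at h2
    norm_num at h2
  -- non-adjacent points have six
  have hmu : cn a c = 6 := by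
    have h := Finset.sum_card_bipartiteAbove_eq_sum_card_bipartiteBelow (fun z w => R a w ∧ R z w)
      (s := (Finset.univ : Finset Ω)) (t := Finset.univ)
    simp only [Finset.bipartiteAbove, Finset.bipartiteBelow] at h
    have hr : ∀ w, (Finset.univ.filter fun z => R a w ∧ R z w).card = if R a w then 22 else 0 := by
      intro w
      split_ifs with hw
      · simp [hw, hin]
      · simp [hw]
    simp only [hr] at h
    have hsplit : (Finset.univ : Finset Ω) = insert a (O.toFinset ∪ O'.toFinset) := by
      ext z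
      simp only [Finset.mem_univ, Finset.mem_insert, Finset.mem_union, Set.mem_toFinset, true_iff]
      by_cases h1 : z = a
      · exact Or.inl h1
      by_cases h2 : z ∈ O
      · exact Or.inr (Or.inl h2)
      exact Or.inr (Or.inr (hcover z h1 h2))
    have e1 : ∀ z ∈ O, cn a z = 0 := by
      rintro _ ⟨k, rfl⟩; exact (hcnK k b).trans hlam
    have e2 : ∀ z ∈ O', cn a z = cn a c := by
      rintro _ ⟨k, rfl⟩; exact hcnK k c
    have haa : cn a a = 22 := by simp only [cn, and_self, hout]
    have hs : ∑ z, cn a z = 22 + 77 * cn a c := by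
      rw [hsplit, Finset.sum_insert (by simp [haO1, haO2]),
        Finset.sum_union (Set.disjoint_toFinset.2 hdisj),
        Finset.sum_eq_zero (fun z hz => e1 z (Set.mem_toFinset.1 hz)),
        Finset.sum_congr rfl (fun z hz => e2 z (Set.mem_toFinset.1 hz)), Finset.sum_const,
        ← Set.ncard_eq_toFinset_card', hc, haa, smul_eq_mul, zero_add]
    change ∑ z, cn a z = _ at h
    rw [hs] at h
    rw [← Finset.sum_filter, Finset.sum_const, smul_eq_mul] at h
    have h22 := hout a
    omega
  have hcommon : ∀ x y, x ≠ y → cn x y = if R x y then 0 else 6 := by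
    intro x y hxy
    obtain ⟨g, rfl⟩ := htr x
    rw [← smul_inv_smul g y] at hxy ⊢
    set z := g⁻¹ • y
    have hza : z ≠ a := fun h => hxy (by rw [h])
    rw [hcn]
    simp only [hRg]
    by_cases hzO : z ∈ O
    · rw [if_pos ((hRa z).2 hzO)]
      obtain ⟨k, hk⟩ := hzO
      rw [← hk]; exact (hcnK k b).trans hlam
    · rw [if_neg (fun h => hzO ((hRa z).1 h))]
      obtain ⟨k, hk⟩ := hcover z hza hzO
      rw [← hk]; exact (hcnK k c).trans hmu
  have hcommon' : ∀ x y, Fintype.card (Γ.commonNeighbors x y) = cn x y := by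
    intro x y
    rw [← Set.toFinset_card]
    refine congrArg Finset.card (Finset.ext fun z => ?_)
    rw [Set.mem_toFinset, Finset.mem_filter]
    exact ⟨fun h => ⟨Finset.mem_univ z, h.1, h.2⟩, fun h => ⟨h.2.1, h.2.2⟩⟩
  have hsrg : Γ.IsSRGWith 100 22 0 6 := by
    refine ⟨hΩ, fun x => ?_, fun x y h => ?_, fun x y hne h => ?_⟩
    · rw [← SimpleGraph.card_neighborFinset_eq_degree, ← hout x]
      refine congrArg Finset.card (Finset.ext fun z => ?_)
      simp only [SimpleGraph.mem_neighborFinset, Finset.mem_filter, Finset.mem_univ, true_and]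
      exact Iff.rfl
    · rw [hcommon', hcommon x y (Γ.ne_of_adj h), if_pos (show R x y from h)]
    · rw [hcommon', hcommon x y hne, if_neg (show ¬ R x y from h)]
  obtain ⟨f⟩ := Cfsg.Agent.LeechAut.HSUnique.exists_iso_graph hsrg
  -- the embedding in the automorphism group
  let Φ : G →* (Cfsg.Agent.LeechAut.HSGraph.graph ≃g Cfsg.Agent.LeechAut.HSGraph.graph) :=
    { toFun := fun g => (f.symm.trans
        { toEquiv := MulAction.toPerm g, map_rel_iff' := fun {x y} => hRg g x y }).trans f
      map_one' := RelIso.ext fun z => by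
        show f ((1 : G) • f.symm z) = z
        rw [one_smul, RelIso.apply_symm_apply]
      map_mul' := fun g h => RelIso.ext fun z => by
        show f ((g * h) • f.symm z) = f (g • f.symm (f (h • f.symm z)))
        rw [RelIso.symm_apply_apply, mul_smul] }
  have hΦ : Function.Injective Φ := fun g h e => Subtype.ext (Equiv.ext fun x => by
    have e' : f (g • f.symm (f x)) = f (h • f.symm (f x)) := congrArg (fun k => k (f x)) e
    rw [RelIso.symm_apply_apply] at e'
    exact f.injective e')
  set A := Cfsg.Agent.LeechAut.HSGraph.graph ≃g Cfsg.Agent.LeechAut.HSGraph.graph with hA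
  have hcardA : Nat.card A = 88704000 := by
    obtain ⟨j⟩ := Cfsg.Agent.LeechAut.HSGraph.exists_iso (α := Fin 22) (by simp)
      Cfsg.Agent.GroupStructure3.HSAut.steiner
    rw [← Cfsg.Agent.GroupStructure3.HSAut.model_card]
    exact (Nat.card_congr ⟨fun u => (j.trans u).trans j.symm, fun u => (j.symm.trans u).trans j,
      fun u => by ext x; simp, fun u => by ext x; simp⟩)
  haveI : Finite A := Nat.finite_of_card_ne_zero (by rw [hcardA]; norm_num)
  let T := Cfsg.Agent.LeechAut.HSGraph.toAut.range
  let ET := MonoidHom.ofInjective Cfsg.Agent.LeechAut.HSGraph.toAut_injective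
  haveI hTs : IsSimpleGroup T := ET.symm.isSimpleGroup_congr.2 Cfsg.Agent.LeechAut.HS.isSimple_G
  have hTc : Nat.card T = 44352000 :=
    (Nat.card_congr ET.symm.toEquiv).trans Cfsg.Agent.LeechAut.HS.card_G
  have hRc : Nat.card Φ.range = 44352000 :=
    (Nat.card_congr (MonoidHom.ofInjective hΦ).symm.toEquiv).trans hcardG
  have hidx : Φ.range.index = 2 := by
    have h := Φ.range.card_mul_index
    rw [hRc, hcardA] at h
    omega
  haveI : Φ.range.Normal := Subgroup.normal_of_index_eq_two hidx
  have hTR : T = Φ.range := by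
    rcases IsSimpleGroup.eq_bot_or_eq_top_of_normal (Φ.range.subgroupOf T) inferInstance with h | h
    · exfalso
      have hr : Φ.range.relIndex T ∣ Φ.range.index := Subgroup.relIndex_dvd_index_of_normal _ _
      rw [Subgroup.relIndex, h, Subgroup.index_bot, hTc, hidx] at hr
      norm_num at hr
    · exact Subgroup.eq_of_le_of_card_ge (Subgroup.subgroupOf_eq_top.1 h) (by rw [hTc, hRc])
  -- the Higman-Sims group of the definitions
  set w := -(Spor.leechV + Spor.leechU') with hwdef
  obtain ⟨E⟩ := Cfsg.Agent.LeechAut.HS.equiv_G Spor.leechV w (by decide +kernel)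
    (by rw [hwdef]; decide +kernel) (by rw [hwdef]; decide +kernel)
  have hu : Spor.leechU' = -(Spor.leechV + w) := by rw [hwdef]; abel
  let E' : Spor.HS ≃* ↥(MulAction.stabilizer Co0 Spor.leechV ⊓ MulAction.stabilizer Co0 w) :=
    { toFun := fun g => ⟨⟨(g : Equiv.Perm leechLattice), g.2.1.1⟩, ⟨g.2.1.2, by
        have h1 := Cfsg.Agent.LeechAut.Basic.smul_add' (⟨(g : Equiv.Perm leechLattice), g.2.1.1⟩ : Co0)
          (Spor.leechV + Spor.leechU') w
        rw [hwdef, add_neg_cancel, Cfsg.Agent.LeechAut.Basic.smul_add'] at h1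
        have hv' : (⟨(g : Equiv.Perm leechLattice), g.2.1.1⟩ : Co0) • Spor.leechV = Spor.leechV := g.2.1.2
        have hu' : (⟨(g : Equiv.Perm leechLattice), g.2.1.1⟩ : Co0) • Spor.leechU' = Spor.leechU' := g.2.2
        have h0 : (⟨(g : Equiv.Perm leechLattice), g.2.1.1⟩ : Co0) • (0 : leechLattice) = 0 := by
          have h := Cfsg.Agent.LeechAut.Basic.smul_add' (⟨(g : Equiv.Perm leechLattice), g.2.1.1⟩ : Co0) 0 0
          rw [add_zero] at h
          exact left_eq_add.1 h
        rw [h0, hv', hu'] at h1
        exact MulAction.mem_stabilizer_iff.2 (eq_neg_of_add_eq_zero_right h1.symm)⟩⟩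
      invFun := fun g => ⟨((g : Co0) : Equiv.Perm leechLattice), ⟨(g : Co0).2, g.2.1⟩, by
        show (g : Co0) • Spor.leechU' = Spor.leechU'
        have h1 := Cfsg.Agent.LeechAut.Basic.smul_add' (g : Co0) (Spor.leechV + w) Spor.leechU'
        rw [hu, add_neg_cancel, Cfsg.Agent.LeechAut.Basic.smul_add', MulAction.mem_stabilizer_iff.1 g.2.1,
          MulAction.mem_stabilizer_iff.1 g.2.2] at h1
        have h0 : (g : Co0) • (0 : leechLattice) = 0 := by
          have h := Cfsg.Agent.LeechAut.Basic.smul_add' (g : Co0) 0 0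
          rw [add_zero] at h
          exact left_eq_add.1 h
        rw [h0] at h1
        rw [hu]
        exact eq_neg_of_add_eq_zero_right h1.symm⟩
      left_inv := fun g => rfl
      right_inv := fun g => rfl
      map_mul' := fun g h => rfl }
  exact ⟨(MonoidHom.ofInjective hΦ).trans ((MulEquiv.subgroupCongr hTR.symm).trans
    (ET.symm.trans (E'.trans E).symm))⟩

end Helpers

/-- Recognition of the Higman–Sims group as a rank 3 permutation group: a transitive permutation group on 100 points in which the stabiliser of a point is isomorphic to the Mathieu group M₂₂ and has two further orbits, of sizes 22 and 77, is isomorphic to the Higman–Sims group. -/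
theorem result {Ω : Type*} [Fintype Ω] [DecidableEq Ω] (hΩ : Fintype.card Ω = 100) (G : Subgroup (Equiv.Perm Ω)) [MulAction.IsPretransitive G Ω] (a : Ω)  (e : MulAction.stabilizer G a ≃* Cfsg.Spor.M22) (b c : Ω) (hb : (MulAction.orbit (MulAction.stabilizer G a) b).ncard = 22) (hc : (MulAction.orbit (MulAction.stabilizer G a) c).ncard = 77) : Cfsg.Spor.IsoHS G := by
  exact isoHS_of_rank_three hΩ G a e b c hb hc

end Cfsg.Agent.S1666
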