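import Cfsg.Statements.S0377
import Cfsg.Agent.Lib.Golay.Small

set_option autoImplicit false
open Cfsg

namespace Cfsg.Agent.S0377

open Cfsg.Agent.Golay.Basic Cfsg.Agent.Golay.Design Cfsg.Agent.Golay.Perm Cfsg.Agent.Golay.M24 Cfsg.Agent.Golay.Trans Cfsg.Agent.Golay.Cert Cfsg.Agent.Golay.Small Cfsg.Agent.Golay.SmallData
open scoped Pointwise

/-- A point stabiliser in the group of the length-24 code is simple. -/
theorem result (p : Cfsg.GolayPt) : IsSimpleGroup (MulAction.stabilizer Cfsg.M24 p) := by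
  obtain ⟨a, ha, hap⟩ := exists_map_tuple (n := 1) (by norm_num) ⟨fun _ => p, fun i j _ => Subsingleton.elim i j⟩
    ⟨fun _ => pt 0, fun i j _ => Subsingleton.elim i j⟩
  have hap : a p = pt 0 := hap 0
  refine (equivOfConj ha (H := MulAction.stabilizer Cfsg.M24 p) (K := M23K) (fixers_le _ _)
    fun g => ?_).isSimpleGroup_congr.2 isSimple_M23K
  show (g : Equiv.Perm Cfsg.GolayPt) p = p ↔ _
  rw [M23K, conj_mem_fixers (l := [pt 0]) Cfsg.M24.one_mem]
  simp [mem_fixers, ← hap, Cfsg.M24.mul_mem (Cfsg.M24.mul_mem ha g.2) (Cfsg.M24.inv_mem ha)]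

end Cfsg.Agent.S0377
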