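import Cfsg.Statements.S2542
import Cfsg.Agent.Lib.Forms.KleinIco
import Cfsg.Agent.Lib.Classical.GL2
import Cfsg.Agent.S0675

set_option autoImplicit false
open Cfsg

namespace Cfsg.Agent.S2542

/-- Let F be a field with 11 elements. PSL_2(F) has a subgroup H of index 11 isomorphic to the alternating group A_5, and the action of PSL_2(F) on the cosets of H is 2-transitive (of degree 11). -/
theorem result {F : Type*} [Field F] [Fintype F] (hF : Fintype.card F = 11) : ∃ H : Subgroup (Matrix.ProjectiveSpecialLinearGroup (Fin 2) F), H.index = 11 ∧ Nonempty (H ≃* alternatingGroup (Fin 5)) ∧ MulAction.IsMultiplyPretransitive (Matrix.ProjectiveSpecialLinearGroup (Fin 2) F) ((Matrix.ProjectiveSpecialLinearGroup (Fin 2) F) ⧸ H) 2 := by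
  classical
  have : Fact (Nat.Prime 11) := ⟨by norm_num⟩
  have : CharP F 11 := charP_of_card_eq_prime hF
  have hne : ∀ k : ℕ, 0 < k → k < 11 → (k : F) ≠ 0 := fun k h0 hk h => by
    rw [CharP.cast_eq_zero_iff F 11 k] at h
    exact absurd (Nat.le_of_dvd h0 h) (by omega)
  have h11 : (11 : F) = 0 := by exact_mod_cast CharP.cast_eq_zero F 11
  obtain ⟨H, ⟨e⟩⟩ := Forms.KleinIco.exists_icosahedral (F := F)
    (by exact_mod_cast hne 2 (by norm_num) (by norm_num))
    (by exact_mod_cast hne 5 (by norm_num) (by norm_num)) (t := (4 : F))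
    (by linear_combination h11)
  have hcard : Nat.card (Matrix.ProjectiveSpecialLinearGroup (Fin 2) F) = 660 := by
    have h := Classical.SmallIso.natCard_pslTwo F
    rw [Classical.GL2.natCard_SL_two, hF] at h
    norm_num at h ⊢
    omega
  have hindex : H.index = 11 := by
    have h := H.card_mul_index
    rw [hcard, Nat.card_congr e.toEquiv, nat_card_alternatingGroup] at h
    norm_num [Nat.factorial] at h
    omega
  refine ⟨H, hindex, ⟨e⟩, ?_⟩
  have hsimp := Classical.Linear.isSimpleGroup_PSL_fin (F := F) (n := 2) le_rfl (fun _ => by omega)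
  set ρ := MulAction.toPermHom (Matrix.ProjectiveSpecialLinearGroup (Fin 2) F)
    ((Matrix.ProjectiveSpecialLinearGroup (Fin 2) F) ⧸ H) with hρ
  have hρinj : Function.Injective ρ := by
    rw [← MonoidHom.ker_eq_bot_iff]
    refine (IsSimpleGroup.eq_bot_or_eq_top_of_normal _ inferInstance).resolve_right fun htop => ?_
    have hH : H = ⊤ := eq_top_iff.2 fun g _ => by
      have h1 : ρ g = 1 := MonoidHom.mem_ker.1 (htop ▸ Subgroup.mem_top g)
      have h2 : g • ((1 : Matrix.ProjectiveSpecialLinearGroup (Fin 2) F) : _ ⧸ H) =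
          ((1 : Matrix.ProjectiveSpecialLinearGroup (Fin 2) F) : _ ⧸ H) := Equiv.Perm.ext_iff.1 h1 ((1 : Matrix.ProjectiveSpecialLinearGroup (Fin 2) F) : (Matrix.ProjectiveSpecialLinearGroup (Fin 2) F) ⧸ H)
      rw [MulAction.Quotient.smul_mk, smul_eq_mul, mul_one, QuotientGroup.eq, mul_one] at h2
      exact inv_mem_iff.1 h2
    rw [hH, Subgroup.index_top] at hindex
    omega
  have : MulAction.IsPretransitive ρ.range ((Matrix.ProjectiveSpecialLinearGroup (Fin 2) F) ⧸ H) :=
    ⟨fun x y => by
      obtain ⟨g, hg⟩ := MulAction.exists_smul_eq (Matrix.ProjectiveSpecialLinearGroup (Fin 2) F) x y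
      exact ⟨⟨ρ g, g, rfl⟩, hg⟩⟩
  have hprime : (Fintype.card ((Matrix.ProjectiveSpecialLinearGroup (Fin 2) F) ⧸ H)).Prime := by
    rw [← Nat.card_eq_fintype_card, ← Subgroup.index, hindex]
    norm_num
  rcases Cfsg.Agent.S0675.result hprime ρ.range with hsol | h2
  · exfalso
    have : Group.IsSolvable H := Group.isSolvable_of_isSolvable_injective
      (f := (MonoidHom.ofInjective hρinj).toMonoidHom.comp H.subtype)
      ((MonoidHom.ofInjective hρinj).injective.comp Subtype.val_injective)
    have h5 : Group.IsSolvable (alternatingGroup (Fin 5)) :=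
      Group.isSolvable_of_surjective (f := e.toMonoidHom) e.surjective
    have : IsSimpleGroup (alternatingGroup (Fin 5)) := inferInstance
    have hc := (IsSimpleGroup.comm_iff_isSolvable (G := alternatingGroup (Fin 5))).2 h5
    obtain ⟨x, y, hxy⟩ : ∃ x y : alternatingGroup (Fin 5), x * y ≠ y * x := by decide +kernel
    exact hxy (hc x y)
  · exact ⟨fun x y => by
      obtain ⟨⟨_, g, rfl⟩, hg⟩ := h2.exists_smul_eq x y
      exact ⟨g, hg⟩⟩

end Cfsg.Agent.S2542
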