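import Cfsg.Statements.S3702
import Cfsg.Agent.RecogNine.Core

set_option autoImplicit false
open Cfsg

namespace Cfsg.Agent.S3702

/-- Let K ≤ Sym(9) be generated by (1 2 3), (1 4 7)(2 5 8)(3 6 9), (1 2)(4 5) and (1 4)(2 5)(3 6)(7 8) (the normalizer in Alt(9) of the elementary abelian group generated by (1 2 3), (4 5 6), (7 8 9)). Let G be a finite group with a subgroup H ≅ K and J = O₃(H). If C_G(j) ≤ H for every j ≠ 1 in J and J is strongly closed in H with respect to G (a G-conjugate of an element of J lying in H lies in J), then G = H. -/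
theorem result {G : Type*} [Group G] [Finite G] (H : Subgroup G)
    (hH : Nonempty (↥H ≃* ↥(Subgroup.closure ({Equiv.swap (0 : Fin 9) 1 * Equiv.swap 1 2,
        Equiv.swap (0 : Fin 9) 3 * Equiv.swap 3 6 * (Equiv.swap (1 : Fin 9) 4 * Equiv.swap 4 7) * (Equiv.swap (2 : Fin 9) 5 * Equiv.swap 5 8),
        Equiv.swap (0 : Fin 9) 1 * Equiv.swap 3 4, Equiv.swap (0 : Fin 9) 3 * Equiv.swap 1 4 * Equiv.swap 2 5 * Equiv.swap 6 7} : Set (Equiv.Perm (Fin 9))))))
    (J : Subgroup G) (hJ : J = (Cfsg.pCore 3 ↥H).map H.subtype)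
    (hC : ∀ j ∈ J, j ≠ 1 → Subgroup.centralizer ({j} : Set G) ≤ H) (hsc : Cfsg.IsStronglyClosed J H) : H = ⊤ := by
  obtain ⟨e⟩ := hH
  let ε : RecogNine.W ≃* ↥H := RecogNine.closureEquiv.trans e.symm
  have hJmap : J = RecogNine.Jm.map (H.subtype.comp ε.toMonoidHom) := by
    rw [hJ, ← Cores.map_pCore_eq ε 3, RecogNine.pCore_W, Subgroup.map_map]
  have hrange : (H.subtype.comp ε.toMonoidHom).range = H := by
    ext g
    constructor
    · rintro ⟨w, rfl⟩
      exact (ε w).2
    · intro hg
      exact ⟨ε.symm ⟨g, hg⟩, by simp⟩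
  have hinj : Function.Injective (H.subtype.comp ε.toMonoidHom) :=
    H.subtype_injective.comp ε.injective
  let S : RecogNine.Setting G :=
    { ι := H.subtype.comp ε.toMonoidHom
      inj := hinj
      cent := fun a ha => by
        rw [hrange]
        have ha' : a ∈ RecogNine.Jm := (RecogNine.cl_mem_J a).1 (List.mem_cons_of_mem _ ha)
        refine hC _ (hJmap ▸ Subgroup.mem_map_of_mem _ ha') fun h => ?_
        rw [← map_one (H.subtype.comp ε.toMonoidHom)] at h
        rw [hinj h, (RecogNine.cl_eq_zero 1).2 rfl] at ha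
        revert ha
        decide
      closed := fun a w g ha h => by
        have ha' : a ∈ RecogNine.Jm := (RecogNine.cl_mem_J a).1 (List.mem_cons_of_mem _ ha)
        have hx : g * (H.subtype.comp ε.toMonoidHom) a * g⁻¹ ∈ J :=
          hsc.2 _ (hJmap ▸ Subgroup.mem_map_of_mem _ ha') g (by rw [h]; exact (ε w).2)
        rw [h, hJmap] at hx
        obtain ⟨b, hb, hbw⟩ := hx
        rw [← hinj hbw]
        exact (RecogNine.cl_mem_J b).2 hb }
  have := S.range_eq_top
  rw [← hrange]
  exact this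

end Cfsg.Agent.S3702
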