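import Cfsg.Statements.S2286
import Cfsg.Agent.Lib.ShortPres.SLTwoEven

set_option autoImplicit false
open Cfsg

namespace Cfsg.Agent.S2286

/-- For every finite field F, SL_2(F) and PSL_2(F) have presentations with 3 generators and at most 9 relations; when F has characteristic 2, PSL_2(F) has a presentation with 3 generators and at most 5 relations. -/
theorem result {F : Type*} [Field F] [Fintype F] :
    (∃ rels : Finset (FreeGroup (Fin 3)), rels.card ≤ 9 ∧ Nonempty (PresentedGroup (↑rels : Set (FreeGroup (Fin 3))) ≃* Matrix.SpecialLinearGroup (Fin 2) F)) ∧ (∃ rels : Finset (FreeGroup (Fin 3)), rels.card ≤ 9 ∧ Nonempty (PresentedGroup (↑rels : Set (FreeGroup (Fin 3))) ≃* Matrix.ProjectiveSpecialLinearGroup (Fin 2) F)) ∧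
    (CharP F 2 → ∃ rels : Finset (FreeGroup (Fin 3)), rels.card ≤ 5 ∧ Nonempty (PresentedGroup (↑rels : Set (FreeGroup (Fin 3))) ≃* Matrix.ProjectiveSpecialLinearGroup (Fin 2) F)) := by
  classical
  open Cfsg.Agent.ShortPres Cfsg.Agent.Classical.GL2 in
  obtain ⟨p, hchar⟩ := CharP.exists F
  have : Fact p.Prime := ⟨CharP.char_is_prime F p⟩
  let : Algebra (ZMod p) F := ZMod.algebra F p
  obtain ⟨z, hz⟩ := IsCyclic.exists_generator (α := Fˣ)
  set d := Module.finrank (ZMod p) F with hd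
  have hd0 : 0 < d := Module.finrank_pos
  have hlog : ∀ x : F, x ≠ 0 → ∃ n : ℕ, (z : F) ^ n = x := fun x hx => by
    obtain ⟨n, hn⟩ := mem_powers_iff_mem_zpowers.2 (hz (Units.mk0 x hx))
    exact ⟨n, by rw [← Units.val_pow_eq_pow_val]; exact congrArg Units.val hn⟩
  have hgood := Cfsg.Agent.ShortPres.sq_generator_good (p := p) hz
  -- parameters
  obtain ⟨k, m, e, he, B, hB, hm⟩ : ∃ (k m : ℕ) (e : F), e = (z : F) ^ (2 * k) ∧
      ∃ B : Module.Basis (Fin d) (ZMod p) F, (∀ i, B i = e ^ (i : ℕ)) ∧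
        (3 ≤ d → e + 1 = (z : F) ^ (2 * m)) := by
    by_cases h3 : 3 ≤ d
    · by_cases hp2 : p = 2
      · subst hp2
        obtain ⟨B, hB⟩ := Cfsg.Agent.ShortPres.exists_basis (p := 2) (e := (z : F) ^ 2) hgood
        have hne : (z : F) ^ 2 + 1 ≠ 0 := fun h => hgood 1 one_pos (by omega) (by
          have e1 : (z : F) ^ 2 = 1 := by rw [eq_neg_of_add_eq_zero_left h, CharTwo.neg_eq]
          rw [e1, one_pow])
        obtain ⟨y, hy⟩ : ∃ y : F, y ^ 2 = (z : F) ^ 2 + 1 := by
          obtain ⟨y, hy⟩ := FiniteField.isSquare_of_char_two (ringChar.eq F 2) ((z : F) ^ 2 + 1)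
          exact ⟨y, by rw [hy, sq]⟩
        obtain ⟨m, hm⟩ := hlog y (by rintro rfl; exact hne (by rw [← hy]; ring))
        exact ⟨1, m, (z : F) ^ 2, rfl, B, hB, fun _ => by rw [← hy, ← hm]; ring⟩
      · obtain ⟨e, x, y, hx, hy, hex, hey, hbad⟩ := Cfsg.Agent.ShortPres.exists_square_succ (F := F) hp2 h3
        obtain ⟨B, hB⟩ := Cfsg.Agent.ShortPres.exists_basis hbad
        obtain ⟨k, hk⟩ := hlog x hx
        obtain ⟨m, hm⟩ := hlog y hy
        exact ⟨k, m, e, by rw [hex, ← hk]; ring, B, hB, fun _ => by rw [hey, ← hm]; ring⟩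
    · obtain ⟨B, hB⟩ := Cfsg.Agent.ShortPres.exists_basis (e := (z : F) ^ 2) hgood
      exact ⟨1, 0, (z : F) ^ 2, rfl, B, hB, fun h => absurd h h3⟩
  let T : FreeGroup (Fin 3) := FreeGroup.of 2
  let U : FreeGroup (Fin 3) := FreeGroup.of 0
  have hlen : ∀ Z, (Cfsg.Agent.ShortPres.relList B k m z e Z).toFinset.card ≤ 9 := fun Z =>
    (List.toFinset_card_le _).trans (by simp [Cfsg.Agent.ShortPres.relList])
  have hmemR : ∀ Z r, r ∈ Cfsg.Agent.ShortPres.relList B k m z e Z →
      r ∈ (↑(Cfsg.Agent.ShortPres.relList B k m z e Z).toFinset : Set (FreeGroup (Fin 3))) := fun Z r hr => by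
    simpa using hr
  have hsq : ∀ c, Cfsg.Agent.ShortPres.stEl (F := F) * Cfsg.Agent.ShortPres.stEl * c =
      c * (Cfsg.Agent.ShortPres.stEl * Cfsg.Agent.ShortPres.stEl) := fun c => by
    rw [Cfsg.Agent.ShortPres.st_sq]
    exact Subtype.ext (by simp)
  refine ⟨⟨_, hlen (T * T * U * (T * T)⁻¹ * U⁻¹), ?_⟩, ⟨_, hlen (T * T), ?_⟩, fun h2 => ?_⟩
  · refine Cfsg.Agent.ShortPres.exists_iso (MonoidHom.id _) Function.surjective_id hz he hd0 hB _ (fun r hr => ?_)
      (Cfsg.Agent.ShortPres.hyp_of_relList z hd0 _ _ (hmemR _) ?_) (fun ψ _ g hg => ?_)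
    · refine Cfsg.Agent.ShortPres.relList_true z he hB hm _ _ ?_ r (by simpa using hr)
      simp only [T, U, MonoidHom.id_apply, map_mul, map_inv, FreeGroup.lift_apply_of]
      rw [mul_inv_eq_one, ← _root_.mul_inv_rev, mul_inv_eq_iff_eq_mul]
      exact hsq _
    · have h := PresentedGroup.one_of_mem (hmemR (T * T * U * (T * T)⁻¹ * U⁻¹) (T * T * U * (T * T)⁻¹ * U⁻¹)
        (by simp [Cfsg.Agent.ShortPres.relList]))
      simp only [map_mul, map_inv] at h
      rw [mul_inv_eq_one, mul_inv_eq_iff_eq_mul] at h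
      exact h
    · rw [MonoidHom.mem_ker, MonoidHom.id_apply] at hg
      rw [hg]; exact one_mem _
  · refine Cfsg.Agent.ShortPres.exists_iso (QuotientGroup.mk' _) (QuotientGroup.mk'_surjective _) hz he hd0 hB _
      (fun r hr => ?_) (Cfsg.Agent.ShortPres.hyp_of_relList z hd0 _ _ (hmemR _) ?_) (fun ψ hψ g hg => ?_)
    · refine Cfsg.Agent.ShortPres.relList_true z he hB hm _ _ ?_ r (by simpa using hr)
      simp only [T, map_mul, FreeGroup.lift_apply_of]
      refine (QuotientGroup.eq_one_iff _).2 (Subgroup.mem_center_iff.2 fun c => (hsq c).symm)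
    · have h := PresentedGroup.one_of_mem (hmemR (T * T) (T * T) (by simp [Cfsg.Agent.ShortPres.relList]))
      simp only [map_mul] at h
      change Commute (PresentedGroup.mk _ T * PresentedGroup.mk _ T) _
      rw [h]
      exact Commute.one_left _
    · rw [QuotientGroup.ker_mk'] at hg
      rcases Cfsg.Agent.ShortPres.center_mem hg with rfl | rfl
      · exact one_mem _
      · rw [MonoidHom.mem_ker, ← Cfsg.Agent.ShortPres.st_sq, map_mul, hψ]
        have h := PresentedGroup.one_of_mem (hmemR (T * T) (T * T) (by simp [Cfsg.Agent.ShortPres.relList]))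
        rw [map_mul] at h
        exact h
  · obtain rfl : p = 2 := CharP.eq F hchar h2
    obtain ⟨B₂, hB₂⟩ := Cfsg.Agent.ShortPres.exists_basis (p := 2) (e := (z : F) ^ 2) hgood
    obtain ⟨m₂, hm₂⟩ : ∃ m₂ : ℕ, 2 ≤ d → (z : F) ^ 2 + 1 = (z : F) ^ (2 * m₂) := by
      by_cases h2d : 2 ≤ d
      · have hne : (z : F) ^ 2 + 1 ≠ 0 := fun h => hgood 1 one_pos (by omega) (by
          have e1 : (z : F) ^ 2 = 1 := by rw [eq_neg_of_add_eq_zero_left h, CharTwo.neg_eq]
          rw [e1, one_pow])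
        obtain ⟨y, hy⟩ := FiniteField.isSquare_of_char_two (ringChar.eq F 2) ((z : F) ^ 2 + 1)
        obtain ⟨m₂, hm₂⟩ := hlog y (by rintro rfl; exact hne (by rw [hy]; ring))
        exact ⟨m₂, fun _ => by rw [hy, ← hm₂]; ring⟩
      · exact ⟨0, fun h => absurd h h2d⟩
    refine ⟨(Cfsg.Agent.ShortPres.relEven B₂ m₂ z ((z : F) ^ 2)).toFinset,
      (List.toFinset_card_le _).trans (by simp [Cfsg.Agent.ShortPres.relEven]), ?_⟩
    refine Cfsg.Agent.ShortPres.exists_iso (k := 1) (QuotientGroup.mk' _) (QuotientGroup.mk'_surjective _) hz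
      (e := (z : F) ^ 2) (by rw [mul_one]) hd0 hB₂ _ (fun r hr => ?_)
      (Cfsg.Agent.ShortPres.hyp_of_relEven z hd0 rfl hB₂ _ (fun r hr => by simpa using hr)) (fun ψ hψ g hg => ?_)
    · exact Cfsg.Agent.ShortPres.relEven_true z (by rw [mul_one]) hB₂ hm₂ _ r (by simpa using hr)
    · rw [QuotientGroup.ker_mk'] at hg
      rcases Cfsg.Agent.ShortPres.center_mem hg with rfl | rfl
      · exact one_mem _
      · rw [show (-1 : Matrix.SpecialLinearGroup (Fin 2) F) = 1 from
          Subtype.ext (by simp [CharTwo.neg_eq])]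
        exact one_mem _

end Cfsg.Agent.S2286
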