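import Cfsg.Statements.S2402
import Cfsg.Agent.Lib.Classical.TwoGen
-- import your own Cfsg.Agent.* helpers here

set_option autoImplicit false
open Cfsg

namespace Cfsg.Agent.S2402

open Matrix Fin.NatCast Fin.CommRing
open Cfsg.Agent.Classical.Linear Cfsg.Agent.Classical.TwoGen

/-- Explicit two-element generation of `PSL_{n+1}(K)` for a finite field `K` with more than three elements: let `k` generate the multiplicative group of `K`, `h = diag(k, k⁻¹, 1, …, 1)`, `x = 1 + E₁₂` (the elementary transvection) and `w` the monomial matrix with entries `1` in positions `(i, i+1)` and `(−1)^n` in position `(n+1, 1)`. Then `h` and `x·w` generate `SL_{n+1}(K)` modulo its centre: the subgroup they generate together with the centre is everything. -/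
theorem result {K : Type*} [Field K] [Fintype K] (hK : 3 < Fintype.card K) (n : ℕ) (hn : 1 ≤ n)
    (k : Kˣ) (hk : ∀ u : Kˣ, u ∈ Subgroup.zpowers k)
    (h x w : Matrix.SpecialLinearGroup (Fin (n + 1)) K)
    (hh : (h : Matrix (Fin (n + 1)) (Fin (n + 1)) K) =
      Matrix.diagonal (fun i => if i.val = 0 then (k : K) else if i.val = 1 then ((k⁻¹ : Kˣ) : K) else 1))
    (hx : (x : Matrix (Fin (n + 1)) (Fin (n + 1)) K) = Matrix.transvection (0 : Fin (n + 1)) (1 : Fin (n + 1)) 1)
    (hw : (w : Matrix (Fin (n + 1)) (Fin (n + 1)) K) =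
      Matrix.of (fun i j => if j.val = i.val + 1 then 1 else if i.val = n ∧ j.val = 0 then (-1) ^ n else 0)) :
    Subgroup.closure ({h, x * w} : Set (Matrix.SpecialLinearGroup (Fin (n + 1)) K)) ⊔
      Subgroup.center (Matrix.SpecialLinearGroup (Fin (n + 1)) K) = ⊤ := by
  set H := Subgroup.closure ({h, x * w} : Set (Matrix.SpecialLinearGroup (Fin (n + 1)) K))
  suffices htop : H = ⊤ by rw [htop, top_sup_eq]
  have hhH : h ∈ H := Subgroup.subset_closure (Set.mem_insert _ _)
  have hyH : x * w ∈ H := Subgroup.subset_closure (Set.mem_insert_of_mem _ rfl)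
  have hv1 : ((1 : Fin (n + 1)) : ℕ) = 1 := by
    rw [Fin.val_one', Nat.one_mod_eq_one.2 (by omega)]
  have h01 : (0 : Fin (n + 1)) ≠ 1 := by
    rw [Ne, Fin.ext_iff, Fin.val_zero, hv1]
    omega
  set T := fun c : K => SpecialLinearGroup.transvection h01 c with hTdef
  have hxT : x = T 1 := Subtype.ext (by rw [hx]; rfl)
  let d : Fin (n + 1) → K := fun i => if i.val = 0 then (k : K) else if i.val = 1 then ((k⁻¹ : Kˣ) : K) else 1
  have hD : ∀ (v : Fin (n + 1) → K) i, (h • v) i = d i * v i := fun v i => by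
    rw [Matrix.SpecialLinearGroup.smul_def, Matrix.smul_eq_mulVec, hh, Matrix.mulVec_diagonal]
  set D := w * h * w⁻¹
  let e : Fin (n + 1) → K := fun i => d (i + 1)
  have hE : ∀ (v : Fin (n + 1) → K) i, (D • v) i = e i * v i := by
    intro v i
    obtain ⟨u, rfl⟩ : ∃ u, w • u = v := ⟨w⁻¹ • v, smul_inv_smul _ _⟩
    rw [show D • w • u = w • h • u by
      rw [← mul_smul, ← mul_smul, show D * w = w * h by simp [D]]]
    rw [cycle_smul hw, hD, cycle_smul hw]
    ring
  have hd0 : d 0 = k := by simp [d]
  have hd1 : d 1 = ((k⁻¹ : Kˣ) : K) := by simp only [d, hv1, one_ne_zero, ↓reduceIte]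
  have hk0 : (k : K) ≠ 0 := k.ne_zero
  have hk2 : (k : K) * k ≠ 1 := by
    intro e2
    classical
    have hpow : ∀ u : Kˣ, u * u = 1 := fun u => by
      obtain ⟨j, rfl⟩ := Subgroup.mem_zpowers_iff.1 (hk u)
      rw [← mul_zpow, show k * k = 1 from Units.ext e2, _root_.one_zpow]
    have hle : (Finset.univ : Finset K) ⊆ {0, 1, -1} := by
      intro u _
      by_cases hu : u = 0
      · simp [hu]
      · rcases mul_self_eq_one_iff.1 (congrArg Units.val (hpow (Units.mk0 u hu))) with h | h <;>
          simp only [Units.val_mk0] at h <;> simp [h]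
    have := (Finset.card_le_card hle).trans Finset.card_le_three
    rw [Finset.card_univ] at this
    omega
  have he0 : e 0 = ((k⁻¹ : Kˣ) : K) := by simp only [e, zero_add]; exact hd1
  have he1 : e 1 ≠ e 0 := by
    rw [he0]
    intro e2
    by_cases hn1 : n = 1
    · have : (1 : Fin (n + 1)) + 1 = 0 := Fin.ext (by subst hn1; rfl)
      simp only [e, this, hd0, Units.val_inv_eq_inv_val] at e2
      exact hk2 (by field_simp at e2; linear_combination e2)
    · have hv : ((1 + 1 : Fin (n + 1)) : ℕ) = 2 := by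
        rw [Fin.val_add, hv1, Nat.mod_eq_of_lt (by omega)]
      simp only [e, d, hv] at e2
      simp at e2
      rw [e2] at hk2
      exact hk2 (one_mul 1)
  have he10 : e 1 ≠ 0 := by
    simp only [e, d]
    split_ifs <;> simp
  have hTadd : ∀ a b : K, T (a + b) = T a * T b := fun a b => SpecialLinearGroup.transvection_add ..
  -- `h' = y h y⁻¹`
  set c : K := 1 - e 0 / e 1 with hc
  have hc0 : c ≠ 0 := by
    rw [hc, sub_ne_zero, Ne, eq_comm, div_eq_one_iff_eq he10]
    exact fun h => he1 h.symm
  have hDT : ∀ u u' : K, e 0 * u = u' * e 1 → D * T u * D⁻¹ = T u' := fun u u' hu =>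
    diag_conj hE h01 u u' hu
  have hhT : ∀ u : K, h * T u * h⁻¹ = T (k * k * u) := fun u =>
    diag_conj hD h01 u _ (by rw [hd0, hd1, Units.val_inv_eq_inv_val]; field_simp)
  have hy : x * w * h * (x * w)⁻¹ = T c * D := by
    have h1 := hDT (-1) (-(e 0 / e 1)) (by rw [neg_mul, div_mul_cancel₀ _ he10]; ring)
    have hinv : x⁻¹ = T (-1) := by rw [hxT]; exact SpecialLinearGroup.transvection_inv ..
    calc x * w * h * (x * w)⁻¹ = x * (D * x⁻¹ * D⁻¹) * D := by simp only [D]; group
      _ = T c * D := by
          rw [hinv, h1, hxT, ← hTadd, hc, sub_eq_add_neg]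
  have hcomm : h * D = D * h := eq_of_mulVec fun v i => by
    rw [mul_smul, hD, hE, mul_smul, hE, hD]; ring
  have hmemC : T (k * k * c + -c) ∈ H := by
    have hm : T c * D ∈ H := hy ▸ mul_mem (mul_mem hyH hhH) (inv_mem hyH)
    have e2 : h * (T c * D) * h⁻¹ * (T c * D)⁻¹ = T (k * k * c + -c) := by
      rw [hTadd, ← hhT, show T (-c) = (T c)⁻¹ from (SpecialLinearGroup.transvection_inv ..).symm]
      calc h * (T c * D) * h⁻¹ * (T c * D)⁻¹
          = h * T c * h⁻¹ * (h * D * h⁻¹ * D⁻¹) * (T c)⁻¹ := by group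
        _ = h * T c * h⁻¹ * (T c)⁻¹ := by rw [hcomm]; group
    exact e2 ▸ mul_mem (mul_mem (mul_mem hhH hm) (inv_mem hhH)) (inv_mem hm)
  set a := (k : K) * k * c + -c with ha
  have ha0 : a ≠ 0 := by
    rw [show a = ((k : K) * k - 1) * c by rw [ha]; ring]
    exact mul_ne_zero (sub_ne_zero.2 hk2) hc0
  have hsq : ∀ u : Kˣ, T ((u : K) * u * a) ∈ H := by
    intro u
    obtain ⟨j, rfl⟩ := Subgroup.mem_zpowers_iff.1 (hk u)
    induction j using Int.induction_on with
    | zero => simpa using hmemC
    | succ j ih =>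
      have := mul_mem (mul_mem hhH ih) (inv_mem hhH)
      rw [hhT] at this
      convert this using 2
      rw [_root_.zpow_add_one]
      push_cast
      ring
    | pred j ih =>
      have := mul_mem (mul_mem (inv_mem hhH) ih) hhH
      set u' := ((k ^ (-(j : ℤ) - 1) : Kˣ) : K)
      have e' : ((k ^ (-(j : ℤ)) : Kˣ) : K) = (k : K) * u' := by
        rw [← Units.val_mul, ← _root_.zpow_one_add]
        congr 2
        ring
      rw [e', show (k : K) * u' * ((k : K) * u') * a = k * k * (u' * u' * a) by ring, ← hhT,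
        show h⁻¹ * (h * T (u' * u' * a) * h⁻¹) * h = T (u' * u' * a) by group] at this
      exact this
  have hall : ∀ u : K, T u ∈ H := by
    intro u
    have hu := squares_closure (u / a)
    rw [show u = u / a * a by field_simp]
    generalize u / a = z at hu ⊢
    induction hu using AddSubgroup.closure_induction with
    | mem z hz =>
      obtain ⟨r, rfl⟩ := hz
      by_cases hr : r = 0
      · rw [hr, mul_zero, zero_mul]
        show SpecialLinearGroup.transvection h01 (0 : K) ∈ H
        rw [SpecialLinearGroup.transvection_coeff_zero]; exact one_mem _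
      · exact hsq (Units.mk0 r hr)
    | zero =>
      rw [zero_mul]
      show SpecialLinearGroup.transvection h01 (0 : K) ∈ H
      rw [SpecialLinearGroup.transvection_coeff_zero]; exact one_mem _
    | add p q _ _ hp hq => rw [add_mul, hTadd]; exact mul_mem hp hq
    | neg p _ hp =>
      rw [neg_mul, show T (-(p * a)) = (T (p * a))⁻¹ from (SpecialLinearGroup.transvection_inv ..).symm]
      exact inv_mem hp
  have hwH : w ∈ H := by
    have := mul_mem (inv_mem (hall 1)) hyH
    rwa [← hxT, inv_mul_cancel_left] at this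
  exact eq_top hn hw H hwH h01 hall

end Cfsg.Agent.S2402
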