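import Cfsg.Statements.S2403
import Cfsg.Agent.Lib.Classical.Linear
-- import your own Cfsg.Agent.* helpers here

set_option autoImplicit false
open Cfsg

namespace Cfsg.Agent.S2403

open Matrix Fin.NatCast Fin.CommRing

theorem small_field {K : Type*} [Field K] [Fintype K] (hK : Fintype.card K ≤ 3) (c : K) :
    c = 0 ∨ c = 1 ∨ c = -1 := by
  classical
  by_contra h
  push Not at h
  obtain ⟨h0, h1, h2⟩ := h
  by_cases he : (1 : K) = -1
  · have hc : ({0, 1, c, c + 1} : Finset K).card = 4 := by
      have a1 : c + 1 ≠ 0 := fun e => h2 (by linear_combination e)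
      have a2 : c + 1 ≠ 1 := fun e => h0 (by linear_combination e)
      simp [Ne.symm h0, Ne.symm h1, a1.symm, a2.symm]
    have := Finset.card_le_univ ({0, 1, c, c + 1} : Finset K)
    omega
  · have hc : ({0, 1, -1, c} : Finset K).card = 4 := by
      simp [Ne.symm h0, Ne.symm h1, Ne.symm h2, he]
    have := Finset.card_le_univ ({0, 1, -1, c} : Finset K)
    omega

/-- Explicit two-element generation of `PSL_{n+1}(K)` over the fields with two or three elements: with `x = 1 + E₁₂` and `w` the monomial matrix with entries `1` in positions `(i, i+1)` and `(−1)^n` in position `(n+1, 1)`, the elements `x` and `w` generate `SL_{n+1}(K)` modulo its centre. -/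
theorem result {K : Type*} [Field K] [Fintype K] (hK : Fintype.card K ≤ 3) (n : ℕ) (hn : 1 ≤ n)
    (x w : Matrix.SpecialLinearGroup (Fin (n + 1)) K)
    (hx : (x : Matrix (Fin (n + 1)) (Fin (n + 1)) K) = Matrix.transvection (0 : Fin (n + 1)) (1 : Fin (n + 1)) 1)
    (hw : (w : Matrix (Fin (n + 1)) (Fin (n + 1)) K) =
      Matrix.of (fun i j => if j.val = i.val + 1 then 1 else if i.val = n ∧ j.val = 0 then (-1) ^ n else 0)) :
    Subgroup.closure ({x, w} : Set (Matrix.SpecialLinearGroup (Fin (n + 1)) K)) ⊔
      Subgroup.center (Matrix.SpecialLinearGroup (Fin (n + 1)) K) = ⊤ := by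
  set H := Subgroup.closure ({x, w} : Set (Matrix.SpecialLinearGroup (Fin (n + 1)) K))
  suffices htop : H = ⊤ by rw [htop, top_sup_eq]
  have hxH : x ∈ H := Subgroup.subset_closure (Set.mem_insert _ _)
  have hwH : w ∈ H := Subgroup.subset_closure (Set.mem_insert_of_mem _ rfl)
  let P : Fin (n + 1) → Fin (n + 1) → Prop := fun a b => ∃ h : a ≠ b,
    SpecialLinearGroup.transvection h (1 : K) ∈ H
  let s : Fin (n + 1) → K := fun i => if (i : ℕ) = n then (-1) ^ n else 1
  have hs : ∀ i, s i * s i = 1 := fun i => by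
    simp only [s]
    split_ifs
    · rw [← pow_add, Even.neg_one_pow ⟨n, rfl⟩]
    · exact one_mul 1
  have hwv : ∀ (v : Fin (n + 1) → K) (i : Fin (n + 1)), (w • v) i = s i * v (i + 1) := by
    intro v i
    rw [Matrix.SpecialLinearGroup.smul_def, Matrix.smul_eq_mulVec, hw]
    simp only [Matrix.mulVec, dotProduct, Matrix.of_apply]
    rw [Finset.sum_eq_single (i + 1)]
    · have hv : ((i + 1 : Fin (n + 1)) : ℕ) = if (i : ℕ) = n then 0 else (i : ℕ) + 1 := by
        rw [Fin.val_add_one]
        simp [Fin.ext_iff]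
      simp only [hv, s]
      by_cases hi : (i : ℕ) = n <;> simp [hi]
    · intro j _ hj
      rw [if_neg, if_neg, zero_mul]
      · rintro ⟨hi, hj0⟩
        exact hj (Fin.ext (by rw [Fin.val_add_one]; simp [Fin.ext_iff, hi, hj0]))
      · intro hji
        exact hj (Fin.ext (by
          rw [Fin.val_add_one]
          have := j.isLt
          simp [Fin.ext_iff]
          split_ifs <;> omega))
    · simp
  have hall : ∀ {a b : Fin (n + 1)}, P a b → ∀ (h : a ≠ b) (c : K),
      SpecialLinearGroup.transvection h c ∈ H := by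
    rintro a b ⟨_, hm⟩ h c
    rcases small_field hK c with rfl | rfl | rfl
    · rw [SpecialLinearGroup.transvection_coeff_zero]; exact one_mem _
    · exact hm
    · rw [← SpecialLinearGroup.transvection_inv]; exact inv_mem hm
  have hstep : ∀ {a b : Fin (n + 1)}, P a b → P (a - 1) (b - 1) := by
    rintro a b ⟨h, hm⟩
    have h' : a - 1 ≠ b - 1 := fun e => h (sub_left_injective e)
    refine ⟨h', ?_⟩
    have e : w * SpecialLinearGroup.transvection h (1 : K) * w⁻¹ =
        SpecialLinearGroup.transvection h' (s (a - 1) * s (b - 1)) := by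
      rw [mul_inv_eq_iff_eq_mul]
      refine Cfsg.Agent.Classical.Linear.eq_of_mulVec fun v i => ?_
      rw [mul_smul, mul_smul, hwv, Cfsg.Agent.Classical.Linear.transvection_smul_apply,
        Cfsg.Agent.Classical.Linear.transvection_smul_apply, hwv, hwv, sub_add_cancel]
      by_cases hi : i = a - 1
      · subst hi
        simp only [sub_add_cancel, ↓reduceIte]
        linear_combination -(s (a - 1) * v b) * hs (b - 1)
      · rw [if_neg hi, if_neg (fun e => hi (by rw [← e, add_sub_cancel_right]))]
        ring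
    have hm' : SpecialLinearGroup.transvection h' (s (a - 1) * s (b - 1)) ∈ H :=
      e ▸ mul_mem (mul_mem hwH hm) (inv_mem hwH)
    rcases mul_self_eq_one_iff.1 (show (s (a - 1) * s (b - 1)) * (s (a - 1) * s (b - 1)) = 1 by
      linear_combination (s (b - 1) * s (b - 1)) * hs (a - 1) + hs (b - 1)) with e1 | e1
    · rwa [e1] at hm'
    · rw [e1, ← SpecialLinearGroup.transvection_inv] at hm'
      exact inv_mem_iff.1 hm'
  have h01 : (0 : Fin (n + 1)) ≠ 1 := by
    rw [Ne, Fin.ext_iff, Fin.val_zero, Fin.val_one', Nat.one_mod_eq_one.2 (by omega)]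
    omega
  have hbase : ∀ m : ℕ, P (0 - (m : Fin (n + 1))) (1 - (m : Fin (n + 1))) := by
    intro m
    induction m with
    | zero =>
      rw [Nat.cast_zero, sub_zero, sub_zero]
      refine ⟨h01, ?_⟩
      have e : SpecialLinearGroup.transvection h01 (1 : K) = x := Subtype.ext (by rw [hx]; rfl)
      rw [e]
      exact hxH
    | succ m ih =>
      rw [Nat.cast_succ, sub_add_eq_sub_sub, sub_add_eq_sub_sub]
      exact hstep ih
  have hadj : ∀ i : Fin (n + 1), P i (i + 1) := fun i => by
    have h := hbase ((-i : Fin (n + 1)) : ℕ)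
    rwa [Fin.cast_val_eq_self, zero_sub, sub_neg_eq_add, neg_neg, add_comm] at h
  have hd : ∀ d : ℕ, 1 ≤ d → d ≤ n → ∀ i : Fin (n + 1), P i (i + (d : Fin (n + 1))) := by
    intro d hd1
    induction d, hd1 using Nat.le_induction with
    | base => intro _ i; simpa using hadj i
    | succ d hd1 ih =>
      intro hdn i
      have h1 := ih (by omega) i
      have h2 := hadj (i + (d : Fin (n + 1)))
      obtain ⟨ha, _⟩ := h1
      obtain ⟨hb, _⟩ := h2
      have hne : i ≠ i + ((d + 1 : ℕ) : Fin (n + 1)) := fun e => by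
        have h := congrArg Fin.val (left_eq_add.1 e)
        rw [Fin.val_natCast, Nat.mod_eq_of_lt (by omega)] at h
        simp at h
      refine ⟨hne, ?_⟩
      have h' : i + (d : Fin (n + 1)) ≠ i + ((d + 1 : ℕ) : Fin (n + 1)) := by
        rw [Nat.cast_succ, ← add_assoc]; exact hb
      have := Cfsg.Agent.Classical.Linear.commutator_transvection hne ha h' (1 : K) 1
      rw [mul_one] at this
      rw [← this, commutatorElement_def]
      have m1 := hall (ih (by omega) i) ha 1
      have m2 : SpecialLinearGroup.transvection h' (1 : K) ∈ H := hall (by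
        have := hadj (i + (d : Fin (n + 1)))
        rwa [add_assoc, ← Nat.cast_succ] at this) h' 1
      exact mul_mem (mul_mem (mul_mem m1 m2) (inv_mem m1)) (inv_mem m2)
  refine Cfsg.Agent.Classical.Linear.eq_top_of_transvection_mem _ fun i j hij c => ?_
  refine hall ?_ hij c
  have hne : ((j - i : Fin (n + 1)) : ℕ) ≠ 0 := fun e => hij (sub_eq_zero.1 (Fin.ext e : j - i = 0)).symm
  have := hd ((j - i : Fin (n + 1)) : ℕ) (by omega) (by have := (j - i).isLt; omega) i
  rwa [Fin.cast_val_eq_self, add_sub_cancel] at this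

end Cfsg.Agent.S2403
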