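import Cfsg.Statements.S0068
import Cfsg.Agent.Solvable.Frobenius

set_option autoImplicit false
open Cfsg

namespace Cfsg.Agent.S0068

/-- Frobenius complements of even order: if H complements a nontrivial normal subgroup K, each nonidentity element of H has trivial centraliser in K, and H has even order, then H contains a unique involution s, K is abelian, and s inverts every element of K. -/
theorem result {G : Type*} [Group G] [Finite G] (K H : Subgroup G) [K.Normal]
    (hc : Subgroup.IsComplement' K H) (hK : K ≠ ⊥) (hfpf : ∀ h ∈ H, h ≠ 1 → K ⊓ Subgroup.centralizer {h} = ⊥)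
    (heven : 2 ∣ Nat.card H) :
    (∃ s ∈ H, orderOf s = 2 ∧ (∀ t ∈ H, orderOf t = 2 → t = s) ∧ ∀ k ∈ K, s * k * s⁻¹ = k⁻¹) ∧ IsMulCommutative K := by
  have hHK : H ≤ Subgroup.normalizer (K : Set G) := Subgroup.le_normalizer_of_normal
  obtain ⟨⟨s, hs⟩, hso⟩ := exists_prime_orderOf_dvd_card' 2 heven
  rw [Subgroup.orderOf_mk] at hso
  have hinv := Cfsg.Agent.Solvable.Frobenius.fpf_involution_inv hHK hfpf hs hso
  refine ⟨⟨s, hs, hso, fun t ht ht2 =>
    Cfsg.Agent.Solvable.Frobenius.fpf_involution_unique hHK hfpf hK hs hso ht ht2, hinv⟩,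
    ⟨⟨fun a b => Subtype.ext ?_⟩⟩⟩
  change (a : G) * b = b * a
  have h := hinv (a * b) (mul_mem a.2 b.2)
  have e : s * ((a : G) * b) * s⁻¹ = s * a * s⁻¹ * (s * b * s⁻¹) := by group
  rw [e, hinv a a.2, hinv b b.2, mul_inv_rev] at h
  have h' := congrArg (·⁻¹) h
  simp only [mul_inv_rev, inv_inv] at h'
  exact h'.symm

end Cfsg.Agent.S0068
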