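import Cfsg.Statements.S4248
import Cfsg.Agent.Lib.Partition.Linear
import Cfsg.Agent.Lib.Partition.Outer

set_option autoImplicit false
open Cfsg

namespace Cfsg.Agent.S4248

open Cfsg.Agent.AutPSL.Basic Cfsg.Agent.AutPSL.Out Cfsg.Agent.AutPSL.Diag Cfsg.Agent.AutPSL.Main
  Cfsg.Agent.Partition

/-- A group with a linear group as self-centralising normal subgroup, whose involutions are rigid,
is the linear group or the projective general linear group. -/
theorem linear_or_pgl {G : Type*} [Group G] [Finite G] {N : Subgroup G} [N.Normal]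
    (hC : Subgroup.centralizer (N : Set G) = ⊥) {F : Type} [Field F] [Fintype F]
    (hodd : Odd (Fintype.card F)) (f : N ≃* Matrix.ProjectiveSpecialLinearGroup (Fin 2) F)
    (hR : ∀ τ ∈ N, orderOf τ = 2 → Rigid τ) :
    Nonempty (G ≃* Matrix.ProjectiveSpecialLinearGroup (Fin 2) F) ∨
      Nonempty (G ≃* (GL (Fin 2) F ⧸ Subgroup.center (GL (Fin 2) F))) := by
  classical
  let ρ : G →* MulAut (Matrix.ProjectiveSpecialLinearGroup (Fin 2) F) :=
    MonoidHom.mk' (fun g => f.symm.trans ((MulAut.conjNormal g : MulAut N).trans f)) fun a b =>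
      MulEquiv.ext fun z => by simp [map_mul, MulAut.mul_apply]
  have hρ : ∀ g : G, ∀ z, ρ g z = f (MulAut.conjNormal g (f.symm z)) := fun g z => rfl
  have hρi : Function.Injective ρ := by
    rw [injective_iff_map_eq_one]
    intro g hg
    rw [← Subgroup.mem_bot, ← hC, Subgroup.mem_centralizer_iff]
    intro n hn
    have h1 := DFunLike.congr_fun hg (f ⟨n, hn⟩)
    rw [hρ, f.symm_apply_apply, MulAut.one_apply] at h1
    have h2 : g * n * g⁻¹ = n := (MulAut.conjNormal_apply g ⟨n, hn⟩).symm.trans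
      (congrArg Subtype.val (f.injective h1))
    exact (mul_inv_eq_iff_eq_mul.1 h2).symm
  have hρN : ∀ n : N, ρ (n : G) = MulAut.conj (f n) := fun n => MulEquiv.ext fun z => by
    rw [hρ, show MulAut.conjNormal (n : G) (f.symm z) = n * f.symm z * n⁻¹ from Subtype.ext (by simp)]
    simp
  have hinn : ∀ y, MulAut.conj y ∈ ρ.range := fun y => ⟨(f.symm y : G), by rw [hρN, f.apply_symm_apply]⟩
  have hinj : Function.Injective
      (MulAut.conj : Matrix.ProjectiveSpecialLinearGroup (Fin 2) F → MulAut _) := by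
    intro y z hyz
    rw [← f.apply_symm_apply y, ← f.apply_symm_apply z, ← hρN, ← hρN] at hyz
    exact f.symm.injective (Subtype.ext (hρi hyz))
  have hrig : ∀ x, orderOf x = 2 → Outer.RigidAt ρ.range x := by
    intro x hx
    set n := f.symm x with hn
    have hnx : MulAut.conj x = ρ (n : G) := by rw [hρN, hn, f.apply_symm_apply]
    obtain ⟨hR1, hR2⟩ := hR n n.2 (by rw [Subgroup.orderOf_coe, hn, MulEquiv.orderOf_eq, hx])
    have hco : ∀ {g : G}, Commute (ρ g) (MulAut.conj x) → Commute g (n : G) := fun {g} h =>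
      hρi (by rw [map_mul, map_mul, ← hnx]; exact h.eq)
    have hsq : ∀ {g : G}, ρ g * ρ g ≠ 1 → g * g ≠ 1 := fun h e => h (by rw [← map_mul, e, map_one])
    constructor
    · rintro _ ⟨c, rfl⟩ _ ⟨d, rfl⟩ hc hd hc2
      rcases hR1 c d (hco hc) (hco hd) (hsq hc2) with e | e
      · exact Or.inl (by rw [← map_inv, ← map_mul, ← map_mul, e])
      · exact Or.inr (by rw [← map_inv, ← map_mul, ← map_mul, e, map_inv])
    · rintro _ ⟨c, rfl⟩ _ ⟨d, rfl⟩ hc hd hc2 hd2 hcd
      rcases hR2 c d (hco hc) (hco hd) (hsq hc2) (hρi (by rw [map_mul, hd2, map_one]))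
        (hρi (by rw [map_mul, map_mul]; exact hcd.eq)) with e | e
      · exact Or.inl (by rw [e, map_one])
      · exact Or.inr (by rw [hnx, e])
  have hrange : ∀ β ∈ ρ.range, β ∈ (gAut (n := 2) (F := F)).range := fun β hβ =>
    Outer.mem_range hodd ρ.range hinn hinj hrig hβ
  by_cases hin : ∀ g : G, ∃ y, ρ g = MulAut.conj y
  · left
    have hN : N = ⊤ := eq_top_iff.2 fun g _ => by
      obtain ⟨y, hy⟩ := hin g
      rw [← f.apply_symm_apply y, ← hρN] at hy
      rw [hρi hy]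
      exact (f.symm y).2
    exact ⟨(Subgroup.topEquiv.symm.trans (MulEquiv.subgroupCongr hN.symm)).trans f⟩
  · right
    push Not at hin
    obtain ⟨g₀, hg₀⟩ := hin
    obtain ⟨g₁, hg₁⟩ := hrange _ ⟨g₀, rfl⟩
    obtain ⟨-, hchar⟩ := Outer.two_ne_zero_of_odd hodd
    have hsqInn : ∀ g : GL (Fin 2) F, IsSquare (g : Matrix (Fin 2) (Fin 2) F).det →
        ∃ y, gAut g = MulAut.conj y := by
      rintro g ⟨c, hc⟩
      have hc0 : c ≠ 0 := fun e => (Matrix.GeneralLinearGroup.det g).ne_zero (by simpa [e] using hc)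
      obtain ⟨y, hy⟩ := (gAut_mem_inn_iff le_rfl g).2 ⟨Units.mk0 c hc0, by rw [Units.val_mk0, pow_two, hc]⟩
      exact ⟨y, hy.symm⟩
    have hns : ¬ IsSquare (g₁ : Matrix (Fin 2) (Fin 2) F).det := fun h => by
      obtain ⟨y, hy⟩ := hsqInn g₁ h
      exact hg₀ y (by rw [← hg₁, hy])
    have heq : ρ.range = (gAut (n := 2) (F := F)).range := by
      refine le_antisymm hrange ?_
      rintro _ ⟨g, rfl⟩
      by_cases hg : IsSquare (g : Matrix (Fin 2) (Fin 2) F).det
      · obtain ⟨y, hy⟩ := hsqInn g hg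
        exact hy ▸ hinn y
      · have h1 : IsSquare ((g * g₁⁻¹ : GL (Fin 2) F) : Matrix (Fin 2) (Fin 2) F).det := by
          have ha : (g : Matrix (Fin 2) (Fin 2) F).det ≠ 0 := fun e => hg (e ▸ ⟨0, by simp⟩)
          have hb : (g₁ : Matrix (Fin 2) (Fin 2) F).det ≠ 0 := fun e => hns (e ▸ ⟨0, by simp⟩)
          rw [Units.val_mul, Matrix.det_mul, Matrix.coe_units_inv, Matrix.det_nonsing_inv,
            Ring.inverse_eq_inv', ← div_eq_mul_inv,
            FiniteField.isSquare_iff hchar (div_ne_zero ha hb), div_pow]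
          rw [FiniteField.isSquare_iff hchar ha] at hg
          rw [FiniteField.isSquare_iff hchar hb] at hns
          rw [(FiniteField.pow_dichotomy hchar ha).resolve_left hg,
            (FiniteField.pow_dichotomy hchar hb).resolve_left hns, div_self (neg_ne_zero.2 one_ne_zero)]
        obtain ⟨y, hy⟩ := hsqInn _ h1
        rw [← inv_mul_cancel_right g g₁, map_mul, hy, hg₁]
        exact mul_mem (hinn y) ⟨g₀, rfl⟩
    exact ⟨((MonoidHom.ofInjective hρi).trans (MulEquiv.subgroupCongr heq)).trans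
      ((QuotientGroup.quotientKerEquivRange (gAut (n := 2) (F := F))).symm.trans
        (QuotientGroup.quotientMulEquivOfEq (by
          ext g
          rw [MonoidHom.mem_ker, gAut_eq_one_iff le_rfl])))⟩

/-- Let G be a finite group admitting a nontrivial partition: a family of at least two nontrivial subgroups such that every non-identity element of G lies in exactly one member. Then G is isomorphic to the symmetric group of degree 4; or, for some prime p, the Hughes subgroup generated by the elements g with g^p ≠ 1 is proper (G a p-group or a group of Hughes–Thompson type); or G is a Frobenius group; or G is isomorphic to PSL(2, q) with q ≥ 4, to PGL(2, q) with q ≥ 5 odd, or to a Suzuki group. -/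
theorem result {G : Type*} [Group G] [Finite G] (S : Set (Subgroup G)) (hS2 : ∃ H ∈ S, ∃ K ∈ S, H ≠ K)
    (hS1 : ∀ H ∈ S, H ≠ ⊥) (hpart : ∀ g : G, g ≠ 1 → ∃! H : Subgroup G, H ∈ S ∧ g ∈ H) :
    Nonempty (G ≃* Equiv.Perm (Fin 4)) ∨
    (∃ p : ℕ, p.Prime ∧ Subgroup.closure {g : G | g ^ p ≠ 1} ≠ ⊤) ∨
    (∃ H : Subgroup G, Cfsg.IsFrobeniusComplement H) ∨
    (∃ (F : Type) (_ : Field F) (_ : Fintype F), 4 ≤ Fintype.card F ∧
        Nonempty (G ≃* Matrix.ProjectiveSpecialLinearGroup (Fin 2) F)) ∨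
    (∃ (F : Type) (_ : Field F) (_ : Fintype F), 5 ≤ Fintype.card F ∧ Odd (Fintype.card F) ∧
        Nonempty (G ≃* (GL (Fin 2) F ⧸ Subgroup.center (GL (Fin 2) F)))) ∨
    Cfsg.Lie.IsoSuzuki G := by
  classical
  obtain ⟨T⟩ := exists_part S hS2 hS1 hpart
  by_cases hF : ∃ H : Subgroup G, Cfsg.IsFrobeniusComplement H
  · exact Or.inr (Or.inr (Or.inl hF))
  push Not at hF
  by_cases hH : ∃ p : ℕ, p.Prime ∧ Subgroup.closure {g : G | g ^ p ≠ 1} ≠ ⊤
  · exact Or.inr (Or.inl hH)
  push Not at hH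
  by_cases hA : ∃ A : Subgroup G, A.Normal ∧ A ≠ ⊥ ∧ ∀ a ∈ A, ∀ b ∈ A, Commute a b
  · obtain ⟨A, hAn, hA1, hAc⟩ := hA
    exact Or.inl (T.perm_four_of_abelian_normal hF hH A hA1 hAc)
  replace hA : ∀ A : Subgroup G, A.Normal → (∀ a ∈ A, ∀ b ∈ A, Commute a b) → A = ⊥ :=
    fun A hAn hAc => by_contra fun h => hA ⟨A, hAn, h, hAc⟩
  have htop : (⊤ : Subgroup G) ≠ ⊥ := by
    intro e
    obtain ⟨H, hH', -⟩ := hS2
    exact hS1 H hH' (le_bot_iff.1 (e ▸ le_top))
  obtain ⟨t, -, ht⟩ := Involutions.StronglyEmbedded.exists_involution_mem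
    (even_card_normal hA (N := ⊤) inferInstance htop)
  by_cases h1 : ∀ s y : G, ¬ T.Bad s y
  · exact Or.inr (Or.inr (Or.inr ((T.case_tight hF hA ht h1).classify.imp id Or.inr)))
  push Not at h1
  obtain ⟨s, y, hb⟩ := h1
  by_cases h2 : ∀ s z : G, T.Bad s z → ∀ g ∈ T.comp s, g * g = 1
  · exact Or.inr (Or.inr (Or.inr ((T.case_elementary hA h2 hb).classify.imp id Or.inr)))
  push Not at h2
  obtain ⟨s', z, hb', g₀, hg₀, hg₀2⟩ := h2
  obtain ⟨t', y', g', P, hbad, hg', hg'2, htP, hyP, hP⟩ := T.exists_sylow_bad hb' hg₀ hg₀2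
  have huniq : ∀ w ∈ T.comp t', orderOf w = 2 → w = t' := fun w hw hw2 =>
    T.unique_involution hbad hg' hg'2 hyP hP (T.nor_ne_top hF hA hbad.t_ne_one) hw hw2
  obtain ⟨N, hN, hCN, ⟨F, iF, iF', h5, hodd, ⟨f⟩⟩, hR⟩ :=
    T.exists_linear hF hA hbad hg' hg'2 htP hP huniq
  haveI := hN
  rcases linear_or_pgl hCN hodd f hR with h | h
  · exact Or.inr (Or.inr (Or.inr (Or.inl ⟨F, iF, iF', by omega, h⟩)))
  · exact Or.inr (Or.inr (Or.inr (Or.inr (Or.inl ⟨F, iF, iF', h5, hodd, h⟩))))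

end Cfsg.Agent.S4248
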