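import Cfsg.Statements.S4249
import Cfsg.Agent.GenA.Splitting

set_option autoImplicit false
open Cfsg

namespace Cfsg.Agent.S4249

open Subgroup Cfsg.Agent.GenA.Splitting Cfsg.Agent.PLocal.ThompsonComplement

/-- If all `a * b ^ i` act without fixed points on an abelian `p'`-group, where `a` and `b` commute
and have order dividing `p`, then `b` is trivial. -/
theorem eq_one_of_fpf {W : Type*} [CommGroup W] {p : ℕ} [hp : Fact p.Prime] (a b : MulAut W)
    (hab : Commute a b) (ha : a ^ p = 1) (hb : b ^ p = 1)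
    (hcop : ∀ w : W, (orderOf w).Coprime p)
    (hfix : ∀ i : ℕ, ∀ w : W, (a * b ^ i) w = w → w = 1) : b = 1 := by
  have hpow : ∀ i j : ℕ, (a * b ^ i) ^ j = a ^ j * b ^ (i * j) := fun i j => by
    rw [(hab.pow_right i).mul_pow, pow_mul]
  have hN : ∀ i : ℕ, ∀ u : W, ∏ j ∈ Finset.range p, (a ^ j * b ^ (i * j)) u = 1 := by
    intro i u
    refine hfix i _ ?_
    rw [map_prod]
    have h1 : ∀ j, (a * b ^ i) ((a ^ j * b ^ (i * j)) u) = (a ^ (j + 1) * b ^ (i * (j + 1))) u := by
      intro j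
      rw [← hpow, ← hpow, ← MulAut.mul_apply, ← pow_succ']
    rw [Finset.prod_congr rfl fun j _ => h1 j]
    have h3 := Finset.prod_range_succ' (fun j => (a ^ j * b ^ (i * j)) u) p
    rw [Finset.prod_range_succ, show (a ^ p * b ^ (i * p)) u = (a ^ 0 * b ^ (i * 0)) u by
      rw [ha, mul_comm i p, pow_mul, hb, one_pow, mul_zero, pow_zero, pow_zero]] at h3
    exact (mul_right_cancel h3).symm
  ext v
  rw [MulAut.one_apply]
  set w := b v * v⁻¹ with hw
  have hS : ∏ i ∈ Finset.range p, (b ^ i) w = 1 := by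
    have h1 : ∀ i, (b ^ i) w = (b ^ (i + 1)) v / (b ^ i) v := by
      intro i
      rw [hw, map_mul, map_inv, pow_succ, MulAut.mul_apply, div_eq_mul_inv]
    rw [Finset.prod_congr rfl fun i _ => h1 i, Finset.prod_range_div (fun i => (b ^ i) v), hb,
      pow_zero, div_self']
  have hSd : ∀ j, j ∈ Finset.range p → j ≠ 0 →
      ∏ i ∈ Finset.range p, (a ^ j * b ^ (i * j)) w = 1 := by
    intro j hj hj0
    have hcop : j.Coprime p := ((hp.out.coprime_iff_not_dvd).2 fun hd =>
      absurd (Nat.le_of_dvd (Nat.pos_of_ne_zero hj0) hd)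
        (not_le.2 (Finset.mem_range.1 hj))).symm
    have h1 : ∏ i ∈ Finset.range p, (b ^ (i * j)) w = 1 := by
      rw [← hS]
      refine Finset.prod_nbij (fun i => i * j % p) (fun i _ => Finset.mem_range.2
        (Nat.mod_lt _ hp.out.pos)) ?_ ?_ fun i _ => ?_
      · intro x hx y hy e
        rw [Finset.coe_range, Set.mem_Iio] at hx hy
        have e' : x * j ≡ y * j [MOD p] := e
        have h2 := e'.cancel_right_of_coprime hcop.symm
        rwa [Nat.ModEq, Nat.mod_eq_of_lt hx, Nat.mod_eq_of_lt hy] at h2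
      · intro y hy
        obtain ⟨k, hk⟩ := Nat.exists_mul_mod_eq_one_of_coprime hcop hp.out.one_lt
        refine ⟨y * k % p, Finset.mem_coe.2 (Finset.mem_range.2 (Nat.mod_lt _ hp.out.pos)), ?_⟩
        rw [Finset.coe_range, Set.mem_Iio] at hy
        show y * k % p * j % p = y
        rw [Nat.mod_mul_mod, mul_assoc, mul_comm k j, Nat.mul_mod, hk.2, mul_one, Nat.mod_mod,
          Nat.mod_eq_of_lt hy]
      · rw [← Nat.mod_add_div (i * j) p, pow_add, pow_mul, hb, one_pow, mul_one, Nat.mod_add_div]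
    calc ∏ i ∈ Finset.range p, (a ^ j * b ^ (i * j)) w
        = (a ^ j) (∏ i ∈ Finset.range p, (b ^ (i * j)) w) := by
          rw [map_prod]; exact Finset.prod_congr rfl fun i _ => rfl
      _ = 1 := by rw [h1, map_one]
  have htot : w ^ p = 1 := by
    have h := Finset.prod_eq_one (s := Finset.range p) fun i (_ : i ∈ Finset.range p) => hN i w
    rw [Finset.prod_comm] at h
    obtain ⟨p', hp'⟩ : ∃ p', p = p' + 1 := ⟨p - 1, (Nat.sub_add_cancel hp.out.one_le).symm⟩
    rw [Finset.prod_eq_single_of_mem 0 (Finset.mem_range.2 hp.out.pos)] at h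
    · simpa using h
    · intro j hj hj0
      exact hSd j hj hj0
  have hw1 : w = 1 := by
    rw [← orderOf_eq_one_iff]
    exact Nat.eq_one_of_dvd_coprimes (hcop w) dvd_rfl (orderOf_dvd_of_pow_eq_one htot)
  exact mul_inv_eq_one.1 hw1


/-- Let G be a finite group and p a prime such that G is not a p-group, and suppose the Hughes subgroup H_p(G), generated by all elements g with g^p ≠ 1, is a proper subgroup. Then H_p(G) is nilpotent and has index p in G. -/
theorem result {G : Type*} [Group G] [Finite G] (p : ℕ) (hp : p.Prime) (hG : ¬ IsPGroup p G)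
    (hH : Subgroup.closure {g : G | g ^ p ≠ 1} ≠ ⊤) :
    Group.IsNilpotent (Subgroup.closure {g : G | g ^ p ≠ 1}) ∧ (Subgroup.closure {g : G | g ^ p ≠ 1}).index = p := by
  classical
  haveI := Fact.mk hp
  set H := Subgroup.closure {g : G | g ^ p ≠ 1} with hHdef
  have hout : ∀ g : G, g ∉ H → g ^ p = 1 := fun g hg => by
    by_contra h
    exact hg (subset_closure h)
  obtain ⟨x, hx⟩ : ∃ x, x ∉ H := by
    by_contra hc
    push Not at hc
    exact hH (eq_top_iff.2 fun g _ => hc g)
  have hconj : ∀ g n : G, n ∈ H → g * n * g⁻¹ ∈ H := by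
    intro g n hn
    have hle : H ≤ H.comap (MulAut.conj g).toMonoidHom := by
      conv_lhs => rw [hHdef]
      rw [closure_le]
      intro y hy
      refine subset_closure (?_ : (g * y * g⁻¹) ^ p ≠ 1)
      rw [conj_pow]
      intro h
      apply hy
      calc y ^ p = g⁻¹ * (g * y ^ p * g⁻¹) * g := by group
        _ = 1 := by rw [h]; group
    exact hle hn
  haveI hHn : H.Normal := ⟨fun n hn g => hconj g n hn⟩
  have hnil : Group.IsNilpotent H := by
    refine isNilpotent_aux (p := p) _ H (MulAut.conjNormal x : MulAut H) rfl ⟨?_, fun y => ?_⟩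
    · rw [← map_pow, hout x hx, map_one]
    · have key : ∀ k, ((nrm (MulAut.conjNormal x : MulAut H) k y : H) : G) =
          ((y : G) * x) ^ k * (x ^ k)⁻¹ := by
        intro k
        induction k with
        | zero => simp [nrm]
        | succ k ih =>
          have hk : (((MulAut.conjNormal x : MulAut H) ^ k) y : G) = x ^ k * y * (x ^ k)⁻¹ := by
            rw [← map_pow, MulAut.conjNormal_apply]
          rw [nrm, Subgroup.coe_mul, ih, hk, pow_succ ((y : G) * x), pow_succ x]
          group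
      refine Subtype.ext ?_
      rw [key, hout x hx, hout ((y : G) * x) fun h => hx (by simpa using H.mul_mem (H.inv_mem y.2) h)]
      simp
  refine ⟨hnil, ?_⟩
  -- a prime `q ≠ p` and an abelian normal subgroup `W`
  obtain ⟨g₀, hg₀⟩ : ∃ g : G, ∀ k : ℕ, g ^ p ^ k ≠ 1 := by
    by_contra hc
    push Not at hc
    exact hG hc
  obtain ⟨q, hq, hqp, hqH⟩ : ∃ q, q.Prime ∧ q ≠ p ∧ q ∣ Nat.card H := by
    have hg₀H : g₀ ∈ H := subset_closure fun h => hg₀ 1 (by rwa [pow_one])
    by_contra hc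
    push Not at hc
    have h := Nat.eq_prime_pow_of_unique_prime_dvd (p := p) (orderOf_pos g₀).ne' fun {d} hd hdd =>
      by_contra fun hne => hc d hd hne (hdd.trans (H.orderOf_dvd_natCard hg₀H))
    exact hg₀ _ (by rw [← h]; exact pow_orderOf_eq_one g₀)
  haveI := Fact.mk hq
  obtain ⟨Q⟩ : Nonempty (Sylow q H) := Sylow.nonempty
  haveI := hnil
  haveI hQn : (Q : Subgroup H).Normal :=
    Sylow.normal_of_normalizerCondition Group.normalizerCondition_of_isNilpotent Q
  haveI := Q.characteristic_of_normal hQn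
  set Q' := (Q : Subgroup H).map H.subtype with hQ'
  haveI : Q'.Normal := ConjAct.normal_of_characteristic_of_normal
  have hQp : IsPGroup q Q' := Q.2.map _
  have hQne : Q' ≠ ⊥ := by
    rw [hQ', Ne, Subgroup.map_eq_bot_iff_of_injective _ H.subtype_injective]
    exact Q.ne_bot_of_dvd_card hqH
  set W := Z Q' with hW
  have hWne : W ≠ ⊥ := Z_ne_bot hQp hQne
  haveI hWn : W.Normal := normalizer_eq_top_iff.mp (top_le_iff.mp
      ((normalizer_eq_top Q').ge.trans (normalizer_le_Z Q')))
  haveI hWc : IsMulCommutative W := le_centralizer_iff_isMulCommutative.mp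
    (inf_le_right.trans (centralizer_le inf_le_left))
  letI : CommGroup W := { (inferInstance : Group W) with mul_comm := fun a b => hWc.is_comm.comm a b }
  have hWord : ∀ w : W, (orderOf w).Coprime p := by
    intro w
    obtain ⟨k, hk⟩ := IsPGroup.iff_orderOf.1 ((hQp.to_le inf_le_left : IsPGroup q W)) w
    rw [hk]
    exact Nat.Coprime.pow_left _ ((Nat.coprime_primes hq hp).2 hqp)
  have hWH : W ≤ H := inf_le_left.trans (map_subtype_le _)
  let ρ : G →* MulAut W := MulAut.conjNormal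
  have hfpf : ∀ y, y ∉ H → ∀ w : W, ρ y w = w → w = 1 := by
    intro y hy w hw
    have h1 : y * (w : G) * y⁻¹ = w := by
      rw [← MulAut.conjNormal_apply]; exact congrArg Subtype.val hw
    have hc : Commute y (w : G) := mul_inv_eq_iff_eq_mul.1 h1
    have hyw : y * (w : G) ∉ H := fun h => hy (by simpa using H.mul_mem h (H.inv_mem (hWH w.2)))
    have h2 := hout _ hyw
    rw [hc.mul_pow, hout y hy, one_mul] at h2
    rw [← orderOf_eq_one_iff]
    refine Nat.eq_one_of_dvd_coprimes (hWord w) dvd_rfl (orderOf_dvd_of_pow_eq_one ?_)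
    exact Subtype.ext h2
  -- the image of a Sylow `p`-subgroup
  have hGH : IsPGroup p (G ⧸ H) := by
    intro y
    obtain ⟨y, rfl⟩ := QuotientGroup.mk_surjective y
    by_cases hy : y ∈ H
    · exact ⟨0, by rw [(QuotientGroup.eq_one_iff y).2 hy, one_pow]⟩
    · exact ⟨1, by rw [pow_one, ← QuotientGroup.mk_pow, hout y hy, QuotientGroup.mk_one]⟩
  obtain ⟨n, hn⟩ := hGH.exists_card_eq
  rw [← index_eq_card] at hn
  obtain ⟨T⟩ : Nonempty (Sylow p G) := Sylow.nonempty
  have hTH : (T : Subgroup G) ⊔ H = ⊤ := by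
    rw [← index_eq_one]
    obtain ⟨m, -, hm⟩ := (Nat.dvd_prime_pow hp).1
      (hn ▸ index_dvd_of_le (le_sup_right : H ≤ (T : Subgroup G) ⊔ H))
    rcases m with _ | m
    · simpa using hm
    · exfalso
      apply T.not_dvd_index
      exact (hm ▸ dvd_pow_self p m.succ_ne_zero).trans (index_dvd_of_le le_sup_left)
  set Tb := (T : Subgroup G).map ρ with hTb
  have hTbp : IsPGroup p Tb := T.2.map _
  obtain ⟨y₀, hy₀T, hy₀⟩ : ∃ y ∈ (T : Subgroup G), y ∉ H := by
    by_contra hc
    push Not at hc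
    rw [sup_eq_right.2 hc] at hTH
    exact hx (hTH ▸ mem_top x)
  haveI : Nontrivial W := (nontrivial_iff_ne_bot W).2 hWne
  obtain ⟨w₀, hw₀⟩ := exists_ne (1 : W)
  have hρ : ∀ y, y ∉ H → ρ y ≠ 1 := fun y hy e => hw₀ (hfpf y hy w₀ (by rw [e]; rfl))
  haveI : Nontrivial Tb :=
    ⟨⟨⟨ρ y₀, mem_map_of_mem _ hy₀T⟩, 1, fun e => hρ y₀ hy₀ (congrArg Subtype.val e)⟩⟩
  haveI := hTbp.center_nontrivial
  have hd : p ∣ Nat.card (Subgroup.center Tb) := by
    obtain ⟨m, hm⟩ := (hTbp.to_subgroup (Subgroup.center Tb)).exists_card_eq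
    rcases m with _ | m
    · exact absurd hm (Finite.one_lt_card).ne'
    · exact hm ▸ dvd_pow_self p m.succ_ne_zero
  obtain ⟨z, hz⟩ := exists_prime_orderOf_dvd_card' p hd
  obtain ⟨c, hcT, hc⟩ := Subgroup.mem_map.1 (z : Tb).2
  have hcne : ρ c ≠ 1 := by
    intro e
    rw [hc] at e
    have : z = 1 := Subtype.ext (Subtype.ext e)
    rw [this, orderOf_one] at hz
    exact hp.one_lt.ne hz
  have hcp : ρ c ^ p = 1 := by
    rw [hc, ← Subgroup.coe_pow, ← Subgroup.coe_pow, ← hz, pow_orderOf_eq_one]; rfl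
  have hcomm : ∀ y ∈ (T : Subgroup G), Commute (ρ y) (ρ c) := by
    intro y hy
    rw [hc]
    exact congrArg Subtype.val (Subgroup.mem_center_iff.1 z.2 ⟨ρ y, mem_map_of_mem _ hy⟩)
  -- no `y` has all `y * c ^ i` outside `H`
  have key : ∀ y ∈ (T : Subgroup G), (∀ i : ℕ, y * c ^ i ∉ H) → False := by
    intro y hy hyc
    refine hcne (eq_one_of_fpf (ρ y) (ρ c) (hcomm y hy) ?_ hcp hWord ?_)
    · rw [← map_pow, hout y (by simpa using hyc 0), map_one]
    · intro i w hw
      exact hfpf _ (hyc i) w (by rwa [map_mul, map_pow])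
  have hHzp : ∀ g : G, (g : G ⧸ H) ∈ zpowers (c : G ⧸ H) := by
    intro g
    have hg : g ∈ ((T : Subgroup G) ⊔ H : Subgroup G) := hTH ▸ mem_top g
    rw [← SetLike.mem_coe, Subgroup.mul_normal, Set.mem_mul] at hg
    obtain ⟨y, hy, h, hh, rfl⟩ := hg
    rw [QuotientGroup.mk_mul, (QuotientGroup.eq_one_iff h).2 hh, mul_one]
    by_contra hcon
    refine key y hy fun i hi => hcon ?_
    have h1 := (QuotientGroup.eq_one_iff _).2 hi
    rw [QuotientGroup.mk_mul, QuotientGroup.mk_pow] at h1
    rw [eq_inv_of_mul_eq_one_left h1]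
    exact inv_mem (pow_mem (mem_zpowers _) i)
  have hcH : c ∉ H := by
    intro h
    have h1 := hHzp x
    rw [(QuotientGroup.eq_one_iff c).2 h, zpowers_one_eq_bot, mem_bot] at h1
    exact hx ((QuotientGroup.eq_one_iff x).1 h1)
  have htop : zpowers (c : G ⧸ H) = ⊤ := eq_top_iff.2 fun g _ => by
    obtain ⟨g, rfl⟩ := QuotientGroup.mk_surjective g
    exact hHzp g
  rw [index_eq_card, ← card_top, ← htop, Nat.card_zpowers]
  refine orderOf_eq_prime ?_ fun h => hcH ((QuotientGroup.eq_one_iff c).1 h)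
  rw [← QuotientGroup.mk_pow, hout c hcH, QuotientGroup.mk_one]

end Cfsg.Agent.S4249
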