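import Cfsg.Statements.S0904
import Cfsg.Agent.Lib.Blocks.Rationality
import Cfsg.Agent.BlockCharsA.DefectZeroVanish
import Cfsg.Agent.Lib.Blocks.Defect

set_option autoImplicit false
open Cfsg

namespace Cfsg.Agent.S0904

open Cfsg.Agent.Blocks Cfsg.Agent.Characters

/-- No prime other than `r` divides the order of the centralizer of the Sylow `r`-subgroup. -/
theorem not_dvd_centralizer {G : Type*} [Group G] [Finite G] [IsSimpleGroup G] {p q r a b : ℕ}
    (hp : p.Prime) (hq : q.Prime) [Fact r.Prime] (hpq : p ≠ q) (hpr : p ≠ r) (hqr : q ≠ r)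
    (hcard : Nat.card G = p ^ a * q ^ b * r) (S : Sylow r G) :
    ¬ p ∣ Nat.card (Subgroup.centralizer (S : Set G)) := by
  classical
  intro hdvd
  haveI := Fact.mk hp
  haveI := Fintype.ofFinite G
  haveI := Fintype.ofFinite (Cfsg.IrrCharacter G)
  have hr : r.Prime := Fact.out
  obtain ⟨M, hM⟩ := BlockCharsA.DefectZeroVanish.exists_modular hp
  obtain ⟨Mq, hMq⟩ := BlockCharsA.DefectZeroVanish.exists_modular hq
  obtain ⟨⟨x, hxC⟩, hxo⟩ := exists_prime_orderOf_dvd_card' p hdvd
  rw [Subgroup.orderOf_mk] at hxo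
  have hfac : (Nat.card G).factorization r = 1 := by
    have hpow : ∀ {l n : ℕ}, l.Prime → l ≠ r → (l ^ n).factorization r = 0 := fun hl hne => by
      rw [hl.factorization_pow, Finsupp.single_eq_of_ne hne.symm]
    rw [hcard, Nat.factorization_mul (mul_ne_zero (pow_ne_zero _ hp.ne_zero)
      (pow_ne_zero _ hq.ne_zero)) hr.ne_zero, Nat.factorization_mul (pow_ne_zero _ hp.ne_zero)
      (pow_ne_zero _ hq.ne_zero), Finsupp.add_apply, Finsupp.add_apply, hpow hp hpr, hpow hq hqr,
      hr.factorization_self]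
  have hS : Nat.card S = r := by rw [S.card_eq_multiplicity, hfac, pow_one]
  obtain ⟨⟨s, hsS⟩, hso⟩ := exists_prime_orderOf_dvd_card' (G := S) r (dvd_of_eq hS.symm)
  rw [Subgroup.orderOf_mk] at hso
  have hc : Commute x s := (Subgroup.mem_centralizer_iff.1 hxC s hsS).symm
  have hto : orderOf (x * s) = p * r := by
    rw [hc.orderOf_mul_eq_mul_orderOf_of_coprime
      (by rw [hxo, hso]; exact (Nat.coprime_primes hp hr).2 hpr), hxo, hso]
  have hna : ∃ u v : G, u * v ≠ v * u := by
    by_contra hcon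
    push Not at hcon
    letI : CommGroup G := { (inferInstance : Group G) with mul_comm := hcon }
    have hpr' := IsSimpleGroup.prime_card (α := G)
    have h1 : p ∣ Nat.card G := hxo ▸ orderOf_dvd_natCard x
    have h2 : r ∣ Nat.card G := hso ▸ orderOf_dvd_natCard s
    exact hpr (((Nat.prime_dvd_prime_iff_eq hp hpr').1 h1).trans
      ((Nat.prime_dvd_prime_iff_eq hr hpr').1 h2).symm)
  have hB : Cfsg.IsPBlock M (Cfsg.principalBlock M G) := isPBlock_principal M G
  have h := blockCoeff_eq_zero_of_singular hM (intEl_blockIdem hM hB)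
    (show p ∣ orderOf (x * s) by rw [hto]; exact dvd_mul_right p r)
  rw [blockCoeff_eq_sum, mul_eq_zero, or_iff_right (inv_ne_zero natCard_ne_zero)] at h
  have hcong : Cong Mq (∑ χ : Cfsg.IrrCharacter G, if χ ∈ Cfsg.principalBlock M G then
      (χ : G → ℂ) 1 * starRingEnd ℂ ((χ : G → ℂ) (x * s)) else 0)
      (∑ χ : Cfsg.IrrCharacter G, if χ = trivIrr G then (1 : ℂ) else 0) := by
    refine cong_sum hMq fun χ _ => ?_
    by_cases he : χ = trivIrr G
    · subst he
      rw [if_pos rfl, if_pos (trivIrr_mem_principal hM)]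
      refine cong_of_eq hMq ?_
      simp [trivIrr]
    rw [if_neg he, cong_zero_iff]
    by_cases hχ : χ ∈ Cfsg.principalBlock M G
    swap
    · rw [if_neg hχ]; exact ideal_zero hMq
    rw [if_pos hχ]
    by_cases hv : (χ : G → ℂ) (x * s) = 0
    · rw [hv, map_zero, mul_zero]; exact ideal_zero hMq
    refine ideal_mul_right hMq ?_ (irr_conj_ring hMq χ _)
    rw [← charDegree_cast χ, ideal_natCast_iff hMq]
    by_contra hndvd
    have hrd : ¬ r ∣ Cfsg.charDegree (χ : G → ℂ) := fun hd =>
      hv (BlockCharsA.DefectZeroVanish.eq_zero_of_singular hr χ (by rw [hfac, pow_one]; exact hd)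
        (by rw [hto]; exact dvd_mul_left r p))
    have h2 := char_degree_dvd_card χ
    rw [hcard] at h2
    have h3 := Nat.Coprime.dvd_of_dvd_mul_right
      (Nat.coprime_comm.1 ((Nat.Prime.coprime_iff_not_dvd hr).2 hrd)) h2
    have h4 := Nat.Coprime.dvd_of_dvd_mul_right
      (Nat.Coprime.pow_right b (Nat.coprime_comm.1 ((Nat.Prime.coprime_iff_not_dvd hq).2 hndvd))) h3
    obtain ⟨k, -, hk⟩ := (Nat.dvd_prime_pow hp).1 h4
    exact he (eq_trivIrr_of_degree_pow hM hna hχ (k := k)
      (by rw [← charDegree_cast χ, hk, Nat.cast_pow]))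
  rw [h, Finset.sum_ite_eq', if_pos (Finset.mem_univ _)] at hcong
  exact not_cong_zero_one hMq hcong

/-- Let G be a finite simple group of order p ^ a * q ^ b * r with p, q, r distinct primes. Then every Sylow r-subgroup S of G satisfies C_G(S) = S. -/
theorem result {G : Type*} [Group G] [Finite G] [IsSimpleGroup G] (p q r a b : ℕ) (hp : p.Prime) (hq : q.Prime) [Fact r.Prime] (hpq : p ≠ q) (hpr : p ≠ r) (hqr : q ≠ r) (hcard : Nat.card G = p ^ a * q ^ b * r) (S : Sylow r G) : Subgroup.centralizer (S : Set G) = (S : Subgroup G) := by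
  have hp' := not_dvd_centralizer hp hq hpq hpr hqr hcard S
  have hq' := not_dvd_centralizer hq hp hpq.symm hqr hpr
    (hcard.trans (by rw [mul_comm (p ^ a)])) S
  have hr : r.Prime := Fact.out
  have hle : (S : Subgroup G) ≤ Subgroup.centralizer (S : Set G) := by
    intro u hu
    have hfac : (Nat.card G).factorization r = 1 := by
      have hpow : ∀ {l n : ℕ}, l.Prime → l ≠ r → (l ^ n).factorization r = 0 := fun hl hne => by
        rw [hl.factorization_pow, Finsupp.single_eq_of_ne hne.symm]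
      rw [hcard, Nat.factorization_mul (mul_ne_zero (pow_ne_zero _ hp.ne_zero)
        (pow_ne_zero _ hq.ne_zero)) hr.ne_zero, Nat.factorization_mul (pow_ne_zero _ hp.ne_zero)
        (pow_ne_zero _ hq.ne_zero), Finsupp.add_apply, Finsupp.add_apply, hpow hp hpr, hpow hq hqr,
        hr.factorization_self]
    haveI : IsCyclic S := isCyclic_of_prime_card (p := r) (by rw [S.card_eq_multiplicity, hfac, pow_one])
    letI : CommGroup S := IsCyclic.commGroup
    exact Subgroup.mem_centralizer_iff.2 fun v hv =>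
      congrArg Subtype.val (mul_comm (⟨v, hv⟩ : S) ⟨u, hu⟩)
  refine S.is_maximal' (IsPGroup.iff_card.2 ?_) hle
  have hd := (Subgroup.centralizer (S : Set G)).card_subgroup_dvd_card
  rw [hcard] at hd
  have h1 := Nat.Coprime.dvd_of_dvd_mul_left
    ((Nat.Coprime.pow_right a (Nat.coprime_comm.1 ((Nat.Prime.coprime_iff_not_dvd hp).2 hp'))).mul_right
      (Nat.Coprime.pow_right b (Nat.coprime_comm.1 ((Nat.Prime.coprime_iff_not_dvd hq).2 hq')))) hd
  obtain ⟨k, -, hk⟩ := (Nat.dvd_prime_pow hr).1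
    (show Nat.card (Subgroup.centralizer (S : Set G)) ∣ r ^ 1 by rw [pow_one]; exact h1)
  exact ⟨k, hk⟩

end Cfsg.Agent.S0904
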