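import Cfsg.Statements.S4500
import Cfsg.Agent.BlockCharsA.Contrib
import Cfsg.Agent.BlockCharsA.DefectZeroVanish
import Cfsg.Agent.BlocksChars.Degrees
import Cfsg.Agent.Lib.PrimeBlock.Simple

set_option autoImplicit false
set_option linter.style.haveILetI false
open Cfsg

namespace Cfsg.Agent.S4500

open Cfsg.Agent Cfsg.Agent.Characters Cfsg.Agent.Blocks
open scoped ComplexConjugate

/-- A nonprincipal character of degree prime to `p` and `r`. -/
theorem exists_deg_coprime {G : Type*} [Group G] [Finite G] [Nontrivial G] {p r : ℕ} (hp : p.Prime)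
    (hr : r.Prime) (hpr : p ≠ r) (ha : (Nat.card G).factorization p ≤ 2) :
    ∃ χ : Cfsg.IrrCharacter G, (χ : G → ℂ) ≠ (fun _ => 1) ∧
      ¬ p ∣ Cfsg.charDegree (χ : G → ℂ) ∧ ¬ r ∣ Cfsg.charDegree (χ : G → ℂ) := by
  classical
  haveI := Fact.mk hp
  haveI := Fintype.ofFinite G
  haveI := Fintype.ofFinite (Cfsg.IrrCharacter G)
  have htriv : Cfsg.charDegree (trivIrr G : G → ℂ) = 1 := by simp [Cfsg.charDegree]
  by_cases hpG : p ∣ Nat.card G
  swap
  · have hnp : ∀ χ : Cfsg.IrrCharacter G, ¬ p ∣ Cfsg.charDegree (χ : G → ℂ) := fun χ hd =>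
      hpG (hd.trans (BlocksChars.Degrees.charDegree_dvd_card χ))
    by_cases hrG : r ∣ Nat.card G
    · by_contra hcon
      push Not at hcon
      have hsq : ∑ χ : Cfsg.IrrCharacter G, Cfsg.charDegree (χ : G → ℂ) ^ 2 = Nat.card G := by
        apply Nat.cast_injective (R := ℂ)
        rw [← sum_degree_sq (G := G), Nat.cast_sum]
        exact Finset.sum_congr rfl fun χ _ => by rw [← Blocks.charDegree_cast]; push_cast; rfl
      rw [← Finset.add_sum_erase _ _ (Finset.mem_univ (trivIrr G)), htriv, one_pow] at hsq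
      have hd : r ∣ ∑ χ ∈ Finset.univ.erase (trivIrr G), Cfsg.charDegree (χ : G → ℂ) ^ 2 := by
        refine Finset.dvd_sum fun χ hχ => dvd_pow ?_ two_ne_zero
        exact hcon χ (fun e => (Finset.mem_erase.1 hχ).1 (Subtype.ext e)) (hnp χ)
      rw [← hsq] at hrG
      exact hr.not_dvd_one ((Nat.dvd_add_left hd).1 hrG)
    · obtain ⟨χ, hχ⟩ : ∃ χ : Cfsg.IrrCharacter G, χ ≠ trivIrr G := by
        by_contra hcon
        push Not at hcon
        have h := sum_degree_sq (G := G)
        rw [Finset.sum_eq_single (trivIrr G) (fun χ _ h => absurd (hcon χ) h)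
          (fun h => absurd (Finset.mem_univ _) h), ← Blocks.charDegree_cast, htriv] at h
        have h1 : Nat.card G = 1 := by
          apply Nat.cast_injective (R := ℂ)
          rw [← h]; norm_num
        exact absurd (Nat.card_eq_one_iff_unique.1 h1).1 (not_subsingleton G)
      exact ⟨χ, fun e => hχ (Subtype.ext e), hnp χ, fun hd =>
        hrG (hd.trans (BlocksChars.Degrees.charDegree_dvd_card χ))⟩
  obtain ⟨M, hM⟩ := BlockCharsA.DefectZeroVanish.exists_modular hp
  set B := Cfsg.principalBlock M G with hBdef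
  have hB : Cfsg.IsPBlock M B := isPBlock_principal M G
  have ht : trivIrr G ∈ B := trivIrr_mem_principal hM
  have hinf : sInf ((fun ψ : Cfsg.IrrCharacter G =>
      (Cfsg.charDegree (ψ : G → ℂ)).factorization p) '' B) = 0 :=
    Nat.sInf_eq_zero.2 (Or.inl ⟨trivIrr G, ht, (congrArg (fun n : ℕ => n.factorization p) htriv).trans (by simp)⟩)
  have hnp : ∀ χ ∈ B, ¬ p ∣ Cfsg.charDegree (χ : G → ℂ) := by
    intro χ hχ hd
    have hfac : 0 < (Cfsg.charDegree (χ : G → ℂ)).factorization p :=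
      hp.factorization_pos_of_dvd (Blocks.charDegree_pos χ).ne' hd
    have hh : Cfsg.blockHeight p B (χ : G → ℂ) = (Cfsg.charDegree (χ : G → ℂ)).factorization p := by
      rw [Cfsg.blockHeight, hinf, Nat.sub_zero]
    have hdd : Cfsg.blockDefect p B = (Nat.card G).factorization p := by
      rw [Cfsg.blockDefect, hinf, Nat.sub_zero]
    have := BlockCharsA.Contrib.height_add_two_le hM hB hχ (by omega)
    omega
  by_contra hcon
  push Not at hcon
  obtain ⟨x, hx⟩ := exists_prime_orderOf_dvd_card' p hpG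
  have h := congrArg conj (sum_block_reg_sing hM (intEl_blockIdem hM hB) (x := (1 : G))
    (by simp [hp.ne_one]) (y := x) (by rw [hx]))
  rw [finsum_mem_eq_finite_toFinset_sum _ (Set.toFinite B),
    ← Finset.add_sum_erase _ _ ((Set.toFinite B).mem_toFinset.2 ht), map_add, map_sum, map_zero] at h
  have h1 : ∀ χ ∈ ((Set.toFinite B).toFinset).erase (trivIrr G),
      conj ((χ : G → ℂ) 1 * conj ((χ : G → ℂ) x)) =
        (r : ℂ) * ((Cfsg.charDegree (χ : G → ℂ) / r : ℕ) * (χ : G → ℂ) x) := by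
    intro χ hχ
    obtain ⟨hne, hmem⟩ := Finset.mem_erase.1 hχ
    have hmem' := (Set.toFinite B).mem_toFinset.1 hmem
    have hd := hcon χ (fun e => hne (Subtype.ext e)) (hnp χ hmem')
    rw [map_mul, Complex.conj_conj, ← Blocks.charDegree_cast, map_natCast, ← mul_assoc,
      ← Nat.cast_mul, Nat.mul_div_cancel' hd]
  rw [Finset.sum_congr rfl h1, ← Finset.mul_sum] at h
  simp only [trivIrr_coe, map_mul, Complex.conj_conj, map_one, mul_one] at h
  set A := ∑ χ ∈ ((Set.toFinite B).toFinset).erase (trivIrr G),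
    ((Cfsg.charDegree (χ : G → ℂ) / r : ℕ) : ℂ) * (χ : G → ℂ) x with hA
  have hAint : IsIntegral ℤ A := IsIntegral.sum _ fun χ _ =>
    (map_natCast (algebraMap ℤ ℂ) (Cfsg.charDegree (χ : G → ℂ) / r) ▸ isIntegral_algebraMap).mul (char_value_isIntegral (irr_isCharacter χ) x)
  have hval : A = ((-(1 : ℚ) / r : ℚ) : ℂ) := by
    push_cast
    rw [eq_div_iff (Nat.cast_ne_zero.2 hr.ne_zero)]
    linear_combination h
  obtain ⟨k, hk⟩ := exists_int_of_isIntegral_ratCast (hval ▸ hAint)
  push_cast at hk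
  rw [div_eq_iff (Nat.cast_ne_zero.2 hr.ne_zero)] at hk
  have hk' : (-1 : ℤ) = k * r := by exact_mod_cast hk
  have : (r : ℤ) ∣ -1 := Dvd.intro_left _ hk'.symm
  exact hr.not_dvd_one (Int.natCast_dvd.1 this)

/-- Such a degree is a power of the third prime. -/
theorem exists_pow {G : Type*} [Group G] [Finite G] {p q r a b c : ℕ} (hp : p.Prime) (hq : q.Prime)
    (hr : r.Prime) (hG : Nat.card G = p ^ a * q ^ b * r ^ c) (χ : Cfsg.IrrCharacter G)
    (h1 : ¬ p ∣ Cfsg.charDegree (χ : G → ℂ)) (h2 : ¬ r ∣ Cfsg.charDegree (χ : G → ℂ)) :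
    ∃ k : ℕ, Cfsg.charDegree (χ : G → ℂ) = q ^ k := by
  haveI := Fintype.ofFinite G
  have hd := BlocksChars.Degrees.charDegree_dvd_card χ
  rw [hG] at hd
  have h3 : Cfsg.charDegree (χ : G → ℂ) ∣ p ^ a * q ^ b :=
    ((Nat.Coprime.pow_left c (hr.coprime_iff_not_dvd.2 h2)).symm).dvd_of_dvd_mul_right hd
  have h4 : Cfsg.charDegree (χ : G → ℂ) ∣ q ^ b :=
    ((Nat.Coprime.pow_left a (hp.coprime_iff_not_dvd.2 h1)).symm).dvd_of_dvd_mul_left h3
  obtain ⟨k, -, hk⟩ := (Nat.dvd_prime_pow hq).1 h4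
  exact ⟨k, hk⟩

/-- Let G be a non-trivial finite group of order p^a · q^b · r^c with p, q, r distinct primes and a ≤ 2. Then G has a non-principal irreducible character whose degree is a power of q, and a non-principal irreducible character whose degree is a power of r; the power may be the zeroth, so a non-principal linear character serves for both. -/
theorem result {G : Type*} [Group G] [Finite G] [Nontrivial G] (p q r a b c : ℕ) (hp : p.Prime) (hq : q.Prime) (hr : r.Prime) (hpq : p ≠ q) (hpr : p ≠ r) (hqr : q ≠ r) (ha : a ≤ 2) (hG : Nat.card G = p ^ a * q ^ b * r ^ c) : (∃ χ : Cfsg.IrrCharacter G, (χ : G → ℂ) ≠ (fun _ => 1) ∧ ∃ k : ℕ, Cfsg.charDegree (χ : G → ℂ) = q ^ k) ∧ ∃ χ : Cfsg.IrrCharacter G, (χ : G → ℂ) ≠ (fun _ => 1) ∧ ∃ k : ℕ, Cfsg.charDegree (χ : G → ℂ) = r ^ k := by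
  have hfac : (Nat.card G).factorization p ≤ 2 := by
    refine le_of_eq_of_le ?_ ha
    rw [hG, Nat.factorization_mul (Nat.mul_ne_zero (pow_ne_zero _ hp.ne_zero) (pow_ne_zero _ hq.ne_zero))
        (pow_ne_zero _ hr.ne_zero),
      Nat.factorization_mul (pow_ne_zero _ hp.ne_zero) (pow_ne_zero _ hq.ne_zero)]
    simp [hp.factorization_pow, hq.factorization_pow, hr.factorization_pow, Finsupp.single_apply,
      hpq.symm, hpr.symm]
  constructor
  · obtain ⟨χ, h1, h2, h3⟩ := exists_deg_coprime (G := G) hp hr hpr hfac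
    exact ⟨χ, h1, exists_pow hp hq hr hG χ h2 h3⟩
  · obtain ⟨χ, h1, h2, h3⟩ := exists_deg_coprime (G := G) hp hq hpq hfac
    exact ⟨χ, h1, exists_pow hp hr hq (a := a) (b := c) (c := b) (by rw [hG]; ring) χ h2 h3⟩

end Cfsg.Agent.S4500
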