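import Cfsg.Statements.S3704

set_option autoImplicit false
open Cfsg MulAction Matrix

namespace Cfsg.Agent.S3704

variable {G Ω : Type*} [Group G] [MulAction G Ω]

/-- Whether a point lies in the translate of an `H`-invariant set by a coset. -/
noncomputable def inc (H : Subgroup G) (s : Set Ω) (hs : ∀ h ∈ H, ∀ x, h • x ∈ s ↔ x ∈ s)
    (c : G ⧸ H) (a : Ω) : ℚ :=
  Quotient.liftOn' c (fun g => s.indicator (fun _ => (1 : ℚ)) (g⁻¹ • a)) fun g g' h => by
    classical
    have h' : g⁻¹ * g' ∈ H := QuotientGroup.leftRel_apply.1 h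
    have he : g'⁻¹ • a = (g⁻¹ * g')⁻¹ • g⁻¹ • a := by rw [← mul_smul]; congr 1; group
    simp only [Set.indicator_apply]
    refine if_congr ?_ rfl rfl
    rw [he]
    exact (hs _ (H.inv_mem h') _).symm

theorem inc_mk (H : Subgroup G) (s : Set Ω) (hs : ∀ h ∈ H, ∀ x, h • x ∈ s ↔ x ∈ s) (g : G) (a : Ω)
    [Decidable (g⁻¹ • a ∈ s)] :
    inc H s hs (QuotientGroup.mk g) a = if g⁻¹ • a ∈ s then 1 else 0 := by
  change s.indicator (fun _ => (1 : ℚ)) (g⁻¹ • a) = _
  split_ifs with h
  · rw [Set.indicator_of_mem h]
  · rw [Set.indicator_of_notMem h]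

/-- Let G be a finite group acting faithfully and 2-transitively on a finite set Ω of size n, and let H be a subgroup of index n in G which is not transitive on Ω and fixes no point of Ω. Then H has exactly two orbits on Ω. -/
theorem result {G Ω : Type*} [Group G] [Finite G] [MulAction G Ω] [FaithfulSMul G Ω] [Finite Ω] (h2 : MulAction.IsMultiplyPretransitive G Ω 2) (H : Subgroup G) (hidx : H.index = Nat.card Ω) (hnt : ¬ MulAction.IsPretransitive H Ω) (hfix : ∀ a : Ω, ∃ h : H, h • a ≠ a) : Nat.card (MulAction.orbitRel.Quotient H Ω) = 2 := by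
  classical
  haveI := Fintype.ofFinite Ω
  haveI := Fintype.ofFinite G
  haveI := Fintype.ofFinite (G ⧸ H)
  obtain ⟨u, w, huw⟩ : ∃ u w : Ω, w ∉ orbit H u := by
    by_contra hno
    push Not at hno
    exact hnt ⟨fun x y => hno x y⟩
  have hne : u ≠ w := fun h => huw (h ▸ mem_orbit_self u)
  haveI : Nontrivial Ω := ⟨⟨u, w, hne⟩⟩
  haveI := h2
  haveI htr : IsPretransitive G Ω := isPretransitive_of_is_two_pretransitive
  have move : ∀ {a b a' b' : Ω}, a ≠ b → a' ≠ b' → ∃ g : G, g • a = a' ∧ g • b = b' :=
    fun h h' => is_two_pretransitive_iff.1 h2 h h'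
  -- one orbit and any other
  have orbInv : ∀ (c : Ω), ∀ h ∈ H, ∀ x, h • x ∈ orbit H c ↔ x ∈ orbit H c := by
    intro c h hh x
    rw [← orbit_eq_iff, ← orbit_eq_iff (a := x)]
    rw [show orbit H (h • x) = orbit H x from orbit_smul (⟨h, hh⟩ : H) x]
  set A : Ω → Matrix (G ⧸ H) Ω ℚ := fun c => Matrix.of fun x a => inc H (orbit H c) (orbInv c) x a
    with hA
  have equiv : ∀ (c : Ω) (g : G) (x : G ⧸ H) (a : Ω), A c (g • x) (g • a) = A c x a := by
    intro c g x a
    obtain ⟨k, rfl⟩ := QuotientGroup.mk_surjective x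
    show inc H (orbit H c) (orbInv c) (g • (QuotientGroup.mk k : G ⧸ H)) (g • a) = inc H (orbit H c) (orbInv c) (QuotientGroup.mk k) a
    rw [MulAction.Quotient.smul_mk, smul_eq_mul, inc_mk, inc_mk, _root_.mul_inv_rev, mul_smul, inv_smul_smul]
  have prodInv : ∀ (c d : Ω) (g : G) (a b : Ω),
      ((A c)ᵀ * A d) (g • a) (g • b) = ((A c)ᵀ * A d) a b := by
    intro c d g a b
    simp only [Matrix.mul_apply, Matrix.transpose_apply]
    refine (Fintype.sum_equiv (MulAction.toPerm g : Equiv.Perm (G ⧸ H)) _ _ fun x => ?_).symm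
    show _ = A c (g • x) (g • a) * A d (g • x) (g • b)
    rw [equiv, equiv]
  have colsum : ∀ (c : Ω) (a : Ω), (∑ x, A c x a) = ∑ x, A c x u := by
    intro c a
    obtain ⟨g, hg⟩ := exists_smul_eq G u a
    refine (Fintype.sum_equiv (MulAction.toPerm g : Equiv.Perm (G ⧸ H)) _ _ fun x => ?_).symm
    show _ = A c (g • x) a
    rw [← hg, equiv]
  have shape : ∀ (c d : Ω) (a b : Ω), ((A c)ᵀ * A d) a b =
      if a = b then ((A c)ᵀ * A d) u u else ((A c)ᵀ * A d) u w := by
    intro c d a b
    by_cases hab : a = b
    · subst hab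
      rw [if_pos rfl]
      obtain ⟨g, rfl⟩ := exists_smul_eq G u a
      exact prodInv c d g u u
    · rw [if_neg hab]
      obtain ⟨g, hga, hgb⟩ := move hne hab
      rw [← hga, ← hgb, prodInv]
  have zero_one : ∀ c x a, A c x a = 0 ∨ A c x a = 1 := by
    intro c x a
    obtain ⟨k, rfl⟩ := QuotientGroup.mk_surjective x
    simp only [hA, Matrix.of_apply]
    rw [inc_mk]
    split_ifs <;> simp
  set α := ((A u)ᵀ * A u) u u with hα
  set β := ((A u)ᵀ * A u) u w with hβ
  have hαsum : ∀ a, α = ∑ x, A u x a := by
    intro a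
    have := shape u u a a
    rw [if_pos rfl] at this
    rw [hα, ← this, Matrix.mul_apply]
    exact Finset.sum_congr rfl fun x _ => by
      rw [Matrix.transpose_apply]; rcases zero_one u x a with h | h <;> simp [h]
  have hbase : ∀ (c a : Ω), A c (QuotientGroup.mk 1) a = if a ∈ orbit H c then 1 else 0 := by
    intro c a
    simp only [hA, Matrix.of_apply]
    rw [inc_mk]
    simp [inv_one]
  have hαpos : 0 < α := by
    rw [hαsum u]
    refine Finset.sum_pos' (fun x _ => by rcases zero_one u x u with h | h <;> simp [h])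
      ⟨QuotientGroup.mk 1, Finset.mem_univ _, ?_⟩
    rw [hbase, if_pos (mem_orbit_self u)]
    norm_num
  have hβnn : 0 ≤ β := by
    rw [hβ, Matrix.mul_apply]
    exact Finset.sum_nonneg fun x _ => by
      rw [Matrix.transpose_apply]
      rcases zero_one u x u with h | h <;> rcases zero_one u x w with h' | h' <;> simp [h, h']
  -- `β < α`
  have hlt : β < α := by
    obtain ⟨h, hh⟩ := hfix u
    obtain ⟨g, hgu, hgw⟩ := move hne hh.symm
    refine lt_of_le_of_ne ?_ fun he => ?_
    · rw [hαsum u, hβ, Matrix.mul_apply]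
      exact Finset.sum_le_sum fun x _ => by
        rw [Matrix.transpose_apply]
        rcases zero_one u x u with h1 | h1 <;> rcases zero_one u x w with h' | h' <;> simp [h1, h']
    · -- every translate containing `u` would contain every point
      have hall : ∀ x, A u x u * A u x w = A u x u := by
        intro x
        have hsum : ∑ x, A u x u * A u x w = ∑ x, A u x u := by
          rw [← hαsum u, ← he, hβ, Matrix.mul_apply]
          rfl
        refine ((Finset.sum_eq_sum_iff_of_le fun y _ => ?_).1 hsum x (Finset.mem_univ x))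
        rcases zero_one u y u with h1 | h1 <;> rcases zero_one u y w with h' | h' <;> simp [h1, h']
      have := hall (QuotientGroup.mk 1)
      rw [hbase, hbase, if_pos (mem_orbit_self u), if_neg huw] at this
      norm_num at this
  -- injectivity
  have hinj : ∀ v : Ω → ℚ, (A u).mulVec v = 0 → v = 0 := by
    intro v hv
    have h0 : ((A u)ᵀ * A u).mulVec v = 0 := by rw [← Matrix.mulVec_mulVec, hv, Matrix.mulVec_zero]
    have hrow : ∀ a, (α - β) * v a + β * ∑ b, v b = 0 := by
      intro a
      have := congrFun h0 a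
      simp only [Matrix.mulVec, dotProduct, Pi.zero_apply] at this
      have hterm : ∀ b, ((A u)ᵀ * A u) a b * v b =
          (if b = a then (α - β) * v b else 0) + β * v b := fun b => by
        rw [shape u u a b, ← hα, ← hβ]
        by_cases hab : a = b
        · subst hab; simp; ring
        · simp [hab, Ne.symm hab]
      rw [Finset.sum_congr rfl fun b _ => hterm b, Finset.sum_add_distrib, Finset.sum_ite_eq',
        ← Finset.mul_sum, if_pos (Finset.mem_univ a)] at this
      exact this
    have hs : (α - β + β * Fintype.card Ω) * ∑ b, v b = 0 := by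
      have := Finset.sum_congr (s₁ := (Finset.univ : Finset Ω)) rfl fun a _ => hrow a
      rw [Finset.sum_add_distrib, ← Finset.mul_sum, Finset.sum_const, Finset.sum_const, Finset.card_univ,
        nsmul_eq_mul, smul_zero] at this
      linear_combination this
    have hpos : 0 < α - β + β * Fintype.card Ω :=
      add_pos_of_pos_of_nonneg (sub_pos.2 hlt) (mul_nonneg hβnn (Nat.cast_nonneg _))
    have hs' := (mul_eq_zero.1 hs).resolve_left hpos.ne'
    funext a
    have := hrow a
    rw [hs', mul_zero, add_zero] at this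
    exact (mul_eq_zero.1 this).resolve_left (sub_pos.2 hlt).ne'
  have hdim : Fintype.card (G ⧸ H) = Fintype.card Ω := by
    rw [← Nat.card_eq_fintype_card, ← Nat.card_eq_fintype_card, ← Subgroup.index_eq_card, hidx]
  have hsurj : Function.Surjective (A u).mulVecLin := by
    refine (LinearMap.injective_iff_surjective_of_finrank_eq_finrank ?_).1 ?_
    · rw [Module.finrank_fintype_fun_eq_card, Module.finrank_fintype_fun_eq_card, hdim]
    · exact (injective_iff_map_eq_zero _).2 fun v hv => hinj v hv
  have hleft : ∀ v : (G ⧸ H) → ℚ, (∀ a, ∑ x, A u x a * v x = 0) → v = 0 := by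
    intro v hv
    obtain ⟨z, hz⟩ := hsurj v
    have hz' : ∀ x, v x = ∑ a, A u x a * z a := fun x => by
      rw [← hz]; rfl
    have h0 : ∑ x, v x * v x = 0 := by
      calc ∑ x, v x * v x = ∑ x, ∑ a, z a * (A u x a * v x) := by
            refine Finset.sum_congr rfl fun x _ => ?_
            rw [hz' x, Finset.sum_mul]
            exact Finset.sum_congr rfl fun a _ => by ring
        _ = ∑ a, z a * ∑ x, A u x a * v x := by
            rw [Finset.sum_comm]; simp_rw [Finset.mul_sum]
        _ = 0 := Finset.sum_eq_zero fun a _ => by rw [hv a, mul_zero]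
    funext x
    exact mul_self_eq_zero.1 ((Finset.sum_eq_zero_iff_of_nonneg fun y _ => mul_self_nonneg (v y)).1 h0 x
      (Finset.mem_univ x))
  -- every other orbit contains every point outside the first one
  have hother : ∀ d, d ∉ orbit H u → ∀ b, b ∉ orbit H u → b ∈ orbit H d := by
    intro d hd b hb
    set α' := ((A u)ᵀ * A d) u u
    set β' := ((A u)ᵀ * A d) u w
    set c := (α' - β') / (α - β)
    set e := (β' - c * β) / α
    have hcol : ∀ q, (fun x => A d x q - c * A u x q - e) = (0 : (G ⧸ H) → ℚ) := by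
      intro q
      refine hleft _ fun a => ?_
      have h1 : ∑ x, A u x a * A d x q = if a = q then α' else β' := by
        rw [← shape u d a q, Matrix.mul_apply]; rfl
      have h1' : ∑ x, A u x a * A u x q = if a = q then α else β := by
        rw [hα, hβ, ← shape u u a q, Matrix.mul_apply]; rfl
      simp only [mul_sub, Finset.sum_sub_distrib, ← Finset.sum_mul, ← hαsum a]
      have h3 : ∑ x, A u x a * (c * A u x q) = c * if a = q then α else β := by
        rw [← h1', Finset.mul_sum]
        exact Finset.sum_congr rfl fun x _ => by ring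
      rw [h1, h3]
      have hne' := (sub_pos.2 hlt).ne'
      have hα' := hαpos.ne'
      split_ifs <;> simp only [c, e] <;> field_simp <;> ring
    have eval : ∀ q, q ∉ orbit H u → (if q ∈ orbit H d then (1 : ℚ) else 0) = e := by
      intro q hq
      have := congrFun (hcol q) (QuotientGroup.mk 1)
      simp only [Pi.zero_apply, hbase, if_neg hq] at this
      linear_combination this
    have h1 := eval d hd
    rw [if_pos (mem_orbit_self d)] at h1
    have h2 := eval b hb
    rw [← h1] at h2
    by_contra hno
    rw [if_neg hno] at h2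
    norm_num at h2
  rw [Nat.card_eq_two_iff]
  refine ⟨Quotient.mk'' u, Quotient.mk'' w, fun h => huw ?_, ?_⟩
  · exact mem_orbit_symm.1 (Quotient.exact' h)
  · ext o
    simp only [Set.mem_univ, iff_true, Set.mem_insert_iff, Set.mem_singleton_iff]
    obtain ⟨b, rfl⟩ := Quotient.mk''_surjective o
    by_cases hb : b ∈ orbit H u
    · exact Or.inl (Quotient.sound' hb)
    · exact Or.inr (Quotient.sound' (hother w huw b hb))

end Cfsg.Agent.S3704
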