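import Cfsg.Statements.S0518
import Cfsg.Agent.S2947
import Cfsg.Agent.S2954
import Cfsg.Agent.Lib.JComp.FourPairFusion
import Cfsg.Agent.Lib.JComp.FourPairOdd

set_option autoImplicit false
open Cfsg

namespace Cfsg.Agent.S0518

open JComp JComp.S4F

section

variable {G : Type*} [Group G]

/-- The model of `S₄`. -/
noncomputable def mdlOne {P T : Subgroup G} (e : ↥P ≃* S4) (hm : IsMaximalTwoLocal P)
    (hs : IsSylowTwoIn T P) : Mdl P T where
  c := 1
  s := P.subtype.comp e.symm.toMonoidHom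
  c_mem := one_mem P
  s_mem σ := (e.symm σ).2
  c_sq := one_mul 1
  c_comm x _ := by rw [mul_one, one_mul]
  s_inj := P.subtype_injective.comp e.symm.injective
  c_ne h := absurd rfl h
  dec x hx := ⟨e ⟨x, hx⟩, Or.inl (congrArg Subtype.val (e.symm_apply_apply ⟨x, hx⟩).symm)⟩
  max := hm
  syl := hs

theorem two_cases (n : Multiplicative (ZMod 2)) : n = 1 ∨ n = Multiplicative.ofAdd 1 := by
  revert n; decide

/-- The model of `C₂ × S₄`. -/
noncomputable def mdlTwo {P T : Subgroup G} (e : ↥P ≃* S4 × Multiplicative (ZMod 2))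
    (hm : IsMaximalTwoLocal P) (hs : IsSylowTwoIn T P) : Mdl P T where
  c := (e.symm (1, Multiplicative.ofAdd 1) : ↥P)
  s := P.subtype.comp (e.symm.toMonoidHom.comp (MonoidHom.inl _ _))
  c_mem := (e.symm _).2
  s_mem σ := (e.symm _).2
  c_sq := by
    rw [← Subgroup.coe_mul, ← map_mul e.symm, Prod.mk_mul_mk, one_mul,
      show (Multiplicative.ofAdd (1 : ZMod 2) * Multiplicative.ofAdd 1) = 1 by decide,
      show ((1, 1) : S4 × Multiplicative (ZMod 2)) = 1 from rfl, map_one, Subgroup.coe_one]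
  c_comm x hx := congrArg Subtype.val (show (⟨x, hx⟩ : ↥P) * e.symm (1, Multiplicative.ofAdd 1) =
      e.symm (1, Multiplicative.ofAdd 1) * ⟨x, hx⟩ from e.injective (by
    rw [map_mul, map_mul, e.apply_symm_apply]
    ext : 1
    · simp
    · exact mul_comm _ _))
  s_inj σ τ h := by
    have := e.symm.injective (P.subtype_injective h)
    exact congrArg Prod.fst this
  c_ne _ σ h := by
    have := congrArg Prod.snd (e.symm.injective (P.subtype_injective h))
    exact absurd this (show ¬((1 : Multiplicative (ZMod 2)) = Multiplicative.ofAdd 1) by decide)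
  dec x hx := by
    refine ⟨(e ⟨x, hx⟩).1, ?_⟩
    have hx' : x = (e.symm (e ⟨x, hx⟩) : ↥P) := by rw [e.symm_apply_apply]
    rcases two_cases (e ⟨x, hx⟩).2 with h | h
    · refine Or.inl (hx'.trans (congrArg Subtype.val (congrArg e.symm ?_)))
      exact Prod.ext rfl h
    · refine Or.inr (hx'.trans ?_)
      show _ = ((e.symm (1, Multiplicative.ofAdd 1) : ↥P) : G) *
        ((e.symm ((e ⟨x, hx⟩).1, 1) : ↥P) : G)
      rw [← Subgroup.coe_mul, ← map_mul e.symm, Prod.mk_mul_mk, one_mul, mul_one]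
      exact congrArg Subtype.val (congrArg e.symm (Prod.ext rfl h))
  max := hm
  syl := hs

theorem mdlTwo_ne {P T : Subgroup G} (e : ↥P ≃* S4 × Multiplicative (ZMod 2))
    (hm : IsMaximalTwoLocal P) (hs : IsSylowTwoIn T P) : (mdlTwo e hm hs).c ≠ 1 := by
  intro h
  have h' : e.symm (1, Multiplicative.ofAdd 1) = 1 := Subtype.ext h
  rw [MulEquiv.map_eq_one_iff] at h'
  exact absurd (congrArg Prod.snd h')
    (show ¬(Multiplicative.ofAdd (1 : ZMod 2) = 1) by decide)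

variable [Finite G]

theorem conclude {P₁ P₂ T H : Subgroup G} (p : FPair P₁ P₂ T) (o : OddSub p H)
    (o' : OddSub p.symm H) :
    ∃ M₁ M₂ : Subgroup H, M₁ ≠ M₂ ∧ IsMaximalTwoLocal M₁ ∧ IsMaximalTwoLocal M₂ ∧
      Nonempty (M₁ ≃* Equiv.Perm (Fin 4)) ∧ Nonempty (M₂ ≃* Equiv.Perm (Fin 4)) ∧
      Nat.card ↥(M₁ ⊓ M₂) = 8 := by
  have hi : Nat.card ↥(P₁.subgroupOf H ⊓ P₂.subgroupOf H) = 8 := by
    rw [show P₁.subgroupOf H ⊓ P₂.subgroupOf H = (P₁ ⊓ P₂).subgroupOf H from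
      (Subgroup.comap_inf _ _ _).symm, p.inf_eq, ← Subgroup.inf_subgroupOf_right,
      Nat.card_congr (Subgroup.subgroupOfEquivOfLe inf_le_right).toEquiv, o.card_T_inf]
  refine ⟨P₁.subgroupOf H, P₂.subgroupOf H, fun e => ?_, o.isMaximalTwoLocal, o'.isMaximalTwoLocal,
    o.nonempty_equiv, o'.nonempty_equiv, hi⟩
  obtain ⟨f⟩ := o.nonempty_equiv
  rw [← e, inf_idem, Nat.card_congr f.toEquiv, Nat.card_perm, Nat.card_eq_fintype_card,
    Fintype.card_fin] at hi
  exact absurd hi (by decide)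

end

/-- Let G be a finite group of characteristic 2 type with trivial 2-core in which every 2-local subgroup is solvable
and, for every Sylow 2-subgroup S, the centralizer of the set of central involutions of S lies in the normalizer of S.
Then either G has a strongly embedded subgroup, or the subgroup generated by the elements of odd order has two distinct
maximal 2-local subgroups, each isomorphic to the symmetric group of degree 4, whose intersection has order 8. -/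
theorem result {G : Type*} [Group G] [Finite G]
    (hL : Cfsg.IsCharacteristicTwoType G) (hO : Cfsg.pCore 2 G = ⊥)
    (hN : ∀ N : Subgroup G, Cfsg.IsTwoLocal N → Group.IsSolvable N)
    (hZ : ∀ S : Sylow 2 G,
      Subgroup.centralizer {z : G | z ∈ (S : Subgroup G) ∧ z ^ 2 = 1 ∧ ∀ s ∈ (S : Subgroup G), s * z = z * s} ≤
        Subgroup.normalizer ((S : Subgroup G) : Set G))
    (H : Subgroup G) (hH : H = Subgroup.closure {g : G | Odd (orderOf g)}) :
    (∃ K : Subgroup G, Cfsg.IsStronglyEmbedded K) ∨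
      ∃ M₁ M₂ : Subgroup H, M₁ ≠ M₂ ∧ Cfsg.IsMaximalTwoLocal M₁ ∧ Cfsg.IsMaximalTwoLocal M₂ ∧
        Nonempty (M₁ ≃* Equiv.Perm (Fin 4)) ∧ Nonempty (M₂ ≃* Equiv.Perm (Fin 4)) ∧ Nat.card ↥(M₁ ⊓ M₂) = 8 := by
  classical
  have hZ' : ∀ S : Sylow 2 G,
      Subgroup.centralizer (Cfsg.omegaCenterOf (S : Subgroup G) : Set G) ≤
        Subgroup.normalizer ((S : Subgroup G) : Set G) := fun S g hg => hZ S fun v hv =>
    hg v (mem_omegaCenterOf.2 ⟨hv.1, hv.2.2, by rw [← pow_two]; exact hv.2.1⟩)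
  have hzn : ZN G := ⟨hL, hN, hZ'⟩
  obtain ⟨S⟩ := (inferInstance : Nonempty (Sylow 2 G))
  have hS1 : (S : Subgroup G) ≠ ⊥ := Sylow.ne_bot_of_dvd_card S hL.1.two_dvd
  set M := Subgroup.normalizer (Cfsg.thompsonSubgroupOf 2 (S : Subgroup G) : Set G) with hMdef
  have hM : IsTwoLocal M :=
    isTwoLocal_normalizer (S.isPGroup'.to_le (J_le _)) (J_ne_bot S.isPGroup' hS1)
  by_cases hne : straddlingTwoSubgroups M = ∅
  · exact Or.inl ⟨M, (S2947.result hL hN hZ' hO S M hM le_rfl).2 hne⟩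
  obtain ⟨T, hT⟩ := exists_maxStraddling (Set.nonempty_iff_ne_empty.2 hne)
  obtain ⟨P₁, P₂, hP, hm1, hm2, hs1, hs2, hiso⟩ :=
    S2954.result hL hN hZ' hO S M hM le_rfl T hT
  have hodd : ∀ g : G, Odd (orderOf g) → g ∈ H := fun g hg => hH ▸ Subgroup.subset_closure hg
  refine Or.inr ?_
  rcases hiso with ⟨⟨e1⟩, ⟨e2⟩⟩ | ⟨⟨e1⟩, ⟨e2⟩⟩
  · let p : FPair P₁ P₂ T := ⟨mdlOne e1 hm1 hs1, mdlOne e2 hm2 hs2, hP⟩
    exact conclude p ⟨hodd, fun _ => rfl⟩ ⟨hodd, fun _ => show p.m2.c = 1 from rfl⟩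
  · let p : FPair P₁ P₂ T := ⟨mdlTwo e1 hm1 hs1, mdlTwo e2 hm2 hs2, hP⟩
    have h1 : p.m1.c ≠ 1 := mdlTwo_ne e1 hm1 hs1
    have h2 : p.m2.c ≠ 1 := mdlTwo_ne e2 hm2 hs2
    exact conclude p ⟨hodd, fun h => absurd (hH ▸ h) (p.c_not_odd hzn h1 h2)⟩
      ⟨hodd, fun h => absurd (hH ▸ h) (p.symm.c_not_odd hzn h2 h1)⟩

end Cfsg.Agent.S0518
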