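import Cfsg.Statements.S0102
import Cfsg.Agent.Lib.Transfer.CenterInf

set_option autoImplicit false
open Cfsg

namespace Cfsg.Agent.S0102

/-- A finite perfect group with cyclic Sylow p-subgroups has no perfect central extension whose kernel has order divisible by p. -/
theorem result {G : Type*} {H : Type*} [Group G] [Group H] [Finite G] [Finite H] (hG : commutator G = ⊤) {p : ℕ} [Fact p.Prime] (hcyc : ∀ P : Sylow p G, IsCyclic P) (σ : H →* G) (hσ : Function.Surjective σ) (hz : σ.ker ≤ Subgroup.center H) (hH : commutator H = ⊤) : ¬ p ∣ Nat.card σ.ker := by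
  open Subgroup in
  intro hdvd
  obtain ⟨Q⟩ := (inferInstance : Nonempty (Sylow p σ.ker))
  obtain ⟨P, hP⟩ := (Q.2.map σ.ker.subtype).exists_le_sylow
  have hQne : (Q : Subgroup σ.ker).map σ.ker.subtype ≠ ⊥ := by
    rw [Ne, map_eq_bot_iff_of_injective _ σ.ker.subtype_injective]
    exact Q.ne_bot_of_dvd_card hdvd
  have hcyc' : IsCyclic ↥(P.mapSurjective hσ : Subgroup G) := hcyc _
  have hab : IsMulCommutative ↥(P : Subgroup H) := by
    let f : ↥(P : Subgroup H) →* ↥((P : Subgroup H).map σ) := σ.subgroupMap _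
    have : IsCyclic ↥((P : Subgroup H).map σ) :=
      isCyclic_of_surjective (MulEquiv.subgroupCongr (Sylow.coe_mapSurjective hσ P)).toMonoidHom
        (MulEquiv.subgroupCongr (Sylow.coe_mapSurjective hσ P)).surjective
    refine f.isMulCommutative_of_isCyclic_of_ker_le_center ?_
    intro x hx
    refine mem_center_iff.mpr fun y => Subtype.ext ?_
    exact (mem_center_iff.mp (hz (congrArg Subtype.val hx)) y)
  refine hQne (eq_bot_iff.mpr fun x hx => ?_)
  rw [← Cfsg.Agent.Transfer.CenterInf.inf_commutator_inf_center (P : Subgroup H)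
    P.card_coprime_index]
  exact ⟨⟨hP hx, by rw [hH]; exact mem_top x⟩, hz (map_subtype_le _ hx)⟩

end Cfsg.Agent.S0102
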