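import Cfsg.Statements.S0015
import Cfsg.Agent.Solvable.Basics

set_option autoImplicit false
open Cfsg

namespace Cfsg.Agent.S0015

/-- In a finite nilpotent group, an abelian normal subgroup that is maximal among abelian normal subgroups equals its own centralizer. -/
theorem result {G : Type*} [Group G] [Finite G] [Group.IsNilpotent G]
    (N : Subgroup G) [N.Normal] [IsMulCommutative N]
    (hmax : ∀ M : Subgroup G, M.Normal → IsMulCommutative M → N ≤ M → M = N) :
    Subgroup.centralizer (N : Set G) = N := by
  refine le_antisymm ?_ (Subgroup.le_centralizer_iff_isMulCommutative.mpr inferInstance)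
  by_contra hnle
  have hCn : (Subgroup.centralizer (N : Set G)).Normal := inferInstance
  let π := QuotientGroup.mk' N
  have hbot : (Subgroup.centralizer (N : Set G)).map π ≠ ⊥ := by
    rw [Ne, Subgroup.map_eq_bot_iff, QuotientGroup.ker_mk']; exact hnle
  have := hCn.map π (QuotientGroup.mk'_surjective N)
  obtain ⟨q, hq, hq1⟩ := (Subgroup.bot_or_exists_ne_one _).resolve_left
    (Cfsg.Agent.Solvable.Basics.inf_center_ne_bot hbot)
  obtain ⟨⟨x, hx, rfl⟩, hqc⟩ := Subgroup.mem_inf.mp hq
  have hxN : x ∉ N := fun h => hq1 ((QuotientGroup.eq_one_iff x).mpr h)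
  let M := N ⊔ Subgroup.zpowers x
  have hMn : M.Normal := by
    have h : M = (Subgroup.zpowers (π x)).comap π := by
      rw [← MonoidHom.map_zpowers, Subgroup.comap_map_eq, QuotientGroup.ker_mk', sup_comm]
    rw [h]
    have : (Subgroup.zpowers (π x)).Normal := ⟨fun y hy g => by
      have hy' := (Subgroup.zpowers_le.mpr hqc) hy
      rwa [Subgroup.mem_center_iff.mp hy' g, mul_inv_cancel_right]⟩
    exact this.comap π
  have hMab : IsMulCommutative M := by
    rw [← Subgroup.le_centralizer_iff_isMulCommutative]
    have h1 : N ≤ Subgroup.centralizer (N : Set G) :=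
      Subgroup.le_centralizer_iff_isMulCommutative.mpr inferInstance
    have h2 : Subgroup.zpowers x ≤ Subgroup.centralizer (N : Set G) := Subgroup.zpowers_le.mpr hx
    refine sup_le (Subgroup.le_centralizer_iff.mp (sup_le h1 h2)) (Subgroup.le_centralizer_iff.mp
      (sup_le (Subgroup.le_centralizer_iff.mp h2) ?_))
    exact Subgroup.le_centralizer_iff_isMulCommutative.mpr inferInstance
  have hMN := hmax M hMn hMab le_sup_left
  exact hxN (hMN ▸ Subgroup.mem_sup_right (Subgroup.mem_zpowers x))

end Cfsg.Agent.S0015
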