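import Cfsg.Statements.S0622
import Cfsg.Agent.Lib.PLocal.ThompsonSubgroup
import Cfsg.Agent.Lib.PLocal.Omega

set_option autoImplicit false
universe u
open Cfsg

namespace Cfsg.Agent.S0622

open Cfsg.Agent.PLocal.Omega Cfsg.Agent.PLocal.ThompsonSubgroup

theorem omegaOne_center_le_oct {S : Type*} [Group S] [Finite S] {p : ℕ} :
    Cfsg.omegaOne p (Subgroup.center S) ≤ Cfsg.omegaCenterThompson p S := by
  refine (Subgroup.closure_le _).mpr ?_
  rintro z ⟨hz, hzp⟩
  have hc : ∀ T : Subgroup S, z ∈ Subgroup.centralizer (T : Set S) := fun T =>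
    Subgroup.center_le_centralizer _ hz
  exact mem_omegaOne ⟨mem_thompsonSubgroup_of_centralizes (hc _) hzp, hc _⟩ hzp

theorem map_oct {S H : Type*} [Group S] [Group H] {p : ℕ} (τ : S →* H) (hτ : Function.Injective τ) :
    (Cfsg.omegaCenterThompson p S).map τ = Cfsg.omegaOne p ((Cfsg.thompsonSubgroup p S).map τ ⊓
      Subgroup.centralizer ((Cfsg.thompsonSubgroup p S).map τ : Set H)) := by
  rw [Cfsg.omegaCenterThompson, map_omegaOne hτ]
  congr 1
  refine le_antisymm ?_ ?_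
  · rintro _ ⟨y, ⟨hy, hyc⟩, rfl⟩
    refine ⟨Subgroup.mem_map_of_mem τ hy, ?_⟩
    rintro _ ⟨z, hz, rfl⟩
    rw [← map_mul, ← map_mul, hyc z hz]
  · rintro _ ⟨⟨y, hy, rfl⟩, hyc⟩
    exact ⟨y, ⟨hy, fun z hz => hτ (by rw [map_mul, map_mul, hyc _ ⟨z, hz, rfl⟩])⟩, rfl⟩

theorem oct_normal {S H : Type*} [Group S] [Group H] {p : ℕ} (τ : S →* H) (hτ : Function.Injective τ)
    (hJ : ((Cfsg.thompsonSubgroup p S).map τ).Normal) :
    ((Cfsg.omegaCenterThompson p S).map τ).Normal := by
  rw [map_oct τ hτ]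
  have := hJ
  have hN : ((Cfsg.thompsonSubgroup p S).map τ ⊓
      Subgroup.centralizer ((Cfsg.thompsonSubgroup p S).map τ : Set H)).Normal := inferInstance
  refine ⟨fun n hn g => ?_⟩
  have h := map_omegaOne (p := p) (f := (MulAut.conj g).toMonoidHom) (MulAut.conj g).injective
    ((Cfsg.thompsonSubgroup p S).map τ ⊓
      Subgroup.centralizer ((Cfsg.thompsonSubgroup p S).map τ : Set H))
  have h2 := Subgroup.mem_map_of_mem (MulAut.conj g).toMonoidHom hn
  rw [h] at h2
  refine omegaOne_mono ?_ h2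
  rintro _ ⟨y, hy, rfl⟩
  exact hN.conj_mem y hy g

theorem stable_comp {S S' H : Type u} [Group S] [Group S'] [Group H] {p : ℕ} (η : S ≃* S')
    {τ : S' →* H} (hτ : Cfsg.IsStableEmbedding p τ) :
    Cfsg.IsStableEmbedding p (τ.comp η.toMonoidHom) := by
  obtain ⟨h1, h2, ⟨P, hP⟩, h4, h5, h6⟩ := hτ
  have hinj : Function.Injective (τ.comp η.toMonoidHom) := fun a b h => η.injective (h1 h)
  have hJ : (Cfsg.thompsonSubgroup p S).map (τ.comp η.toMonoidHom) =
      (Cfsg.thompsonSubgroup p S').map τ := by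
    rw [← Subgroup.map_map, map_thompsonSubgroup_equiv]
  have hW : (Cfsg.omegaCenterThompson p S).map (τ.comp η.toMonoidHom) =
      (Cfsg.omegaCenterThompson p S').map τ := by
    rw [map_oct _ hinj, map_oct _ h1, hJ]
  refine ⟨hinj, h2, ⟨P, ?_⟩, h4, by rw [hJ]; exact h5, fun V _ hV => h6 V (hW ▸ hV)⟩
  rw [hP]
  ext y
  refine ⟨?_, fun ⟨x, hx⟩ => ⟨η x, hx⟩⟩
  rintro ⟨x, rfl⟩
  obtain ⟨a, rfl⟩ := η.surjective x
  exact ⟨a, rfl⟩

theorem map_omegaOne_center {S S' : Type*} [Group S] [Group S'] {p : ℕ} (η : S ≃* S') :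
    (Cfsg.omegaOne p (Subgroup.center S)).map η.toMonoidHom =
      Cfsg.omegaOne p (Subgroup.center S') := by
  rw [map_omegaOne η.injective]
  congr 1
  ext y
  constructor
  · rintro ⟨x, hx, rfl⟩
    rw [Subgroup.mem_center_iff]
    intro g
    obtain ⟨a, rfl⟩ := η.surjective g
    exact (map_mul η a x).symm.trans ((congrArg η (Subgroup.mem_center_iff.mp hx a)).trans (map_mul η x a))
  · intro hy
    refine ⟨η.symm y, Subgroup.mem_center_iff.mpr fun g => η.injective ?_, by simp⟩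
    rw [map_mul, map_mul, MulEquiv.apply_symm_apply]
    exact Subgroup.mem_center_iff.mp hy (η g)

theorem map_snc {S S' : Type u} [Group S] [Group S'] {p : ℕ} (η : S ≃* S') :
    (Cfsg.stableNormalClosure p S).map η.toMonoidHom ≤ Cfsg.stableNormalClosure p S' := by
  refine le_sInf ?_
  rintro W ⟨hW1, hW2⟩
  rw [Subgroup.map_le_iff_le_comap]
  refine sInf_le ⟨?_, fun H _ τ hτ => ?_⟩
  · rw [← Subgroup.map_le_iff_le_comap, map_omegaOne_center]; exact hW1
  · have hτ' : Cfsg.IsStableEmbedding p (τ.comp η.symm.toMonoidHom) := stable_comp η.symm hτ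
    have h := hW2 H _ hτ'
    have e : W.comap η.toMonoidHom = W.map η.symm.toMonoidHom := by
      ext x
      exact ⟨fun hx => ⟨η x, hx, by simp⟩, fun ⟨y, hy, hyx⟩ => by subst hyx; simpa using hy⟩
    rw [e, Subgroup.map_map]; exact h

theorem map_snc_eq {S S' : Type u} [Group S] [Group S'] {p : ℕ} (η : S ≃* S') :
    (Cfsg.stableNormalClosure p S).map η.toMonoidHom = Cfsg.stableNormalClosure p S' := by
  refine le_antisymm (map_snc η) fun y hy => ⟨η.symm y, ?_, by simp⟩
  exact map_snc η.symm ⟨y, hy, rfl⟩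


/-- Basic properties of the stable normal closure W(S) of Ω₁(Z(S)) in a finite p-group: characteristic, squeezed between Ω₁(Z(S)) and Ω₁(Z(J(S))), nontrivial for S ≠ 1, and transported by group isomorphisms. -/
theorem result {S : Type u} [Group S] [Finite S] {p : ℕ} [Fact p.Prime] (hS : IsPGroup p S) : (Cfsg.stableNormalClosure p S).Characteristic ∧ Cfsg.omegaOne p (Subgroup.center S) ≤ Cfsg.stableNormalClosure p S ∧ Cfsg.stableNormalClosure p S ≤ Cfsg.omegaCenterThompson p S ∧ (Nontrivial S → Cfsg.stableNormalClosure p S ≠ ⊥) ∧ ∀ (S' : Type u) [Group S'] (η : S ≃* S'), (Cfsg.stableNormalClosure p S).map η.toMonoidHom = Cfsg.stableNormalClosure p S' := by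
  refine ⟨?_, le_sInf fun W hW => hW.1, ?_, ?_, fun S' _ η => map_snc_eq η⟩
  · exact Subgroup.characteristic_iff_map_eq.mpr fun φ => map_snc_eq φ
  · exact sInf_le ⟨omegaOne_center_le_oct, fun H _ τ hτ => oct_normal τ hτ.1 hτ.2.2.2.2.1⟩
  · intro hnt h
    have hle : Cfsg.omegaOne p (Subgroup.center S) ≤ ⊥ := h ▸ le_sInf fun W hW => hW.1
    have : Nontrivial (Subgroup.center S) := hS.center_nontrivial
    have hd : p ∣ Nat.card (Subgroup.center S) := by
      obtain ⟨n, hn⟩ := (hS.to_subgroup (Subgroup.center S)).exists_card_eq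
      have h1 : 1 < Nat.card (Subgroup.center S) := Finite.one_lt_card
      rw [hn] at h1 ⊢
      exact dvd_pow_self p (by rintro rfl; simp at h1)
    obtain ⟨x, hx⟩ := exists_prime_orderOf_dvd_card' p hd
    have hx1 : (x : S) ∈ (⊥ : Subgroup S) :=
      hle (mem_omegaOne x.2 (by rw [← SubgroupClass.coe_pow, ← hx, pow_orderOf_eq_one]; rfl))
    have : x = 1 := Subtype.ext (Subgroup.mem_bot.mp hx1)
    rw [this, orderOf_one] at hx
    exact (Fact.out : p.Prime).ne_one hx.symm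

end Cfsg.Agent.S0622
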