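import Cfsg.Agent.Base.RecEqns
import Cfsg.Statements.S1972
import Cfsg.Agent.Techniques.Functor.TransferResults

set_option autoImplicit false
universe u
open Cfsg

namespace Cfsg.Agent.S1972

/-- Let p be a prime, G a finite group and W an isomorphism-invariant p-group functor (W assigns to every group Q a subgroup W(Q), nontrivial whenever Q is a nontrivial finite p-group, and every isomorphism from a finite p-group Q onto a group R carries W(Q) onto W(R)). Suppose that whenever G* = K/R is a section of G with C_{G*}(O_p(G*)) ≤ O_p(G*) and S* is a Sylow p-subgroup of G* with W(S*) not normal in G*, there is an element g of S* outside O_p(G*) such that [X, g, …, g] ≤ Y with p − 1 entries g, for every chief factor X/Y of G* with X ≤ O_p(G*). Then W controls transfer in every section of G. -/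
theorem result {G : Type u} [Group G] [Finite G] {p : ℕ} [Fact p.Prime] (W : ∀ (Q : Type u) [Group Q], Subgroup Q) (hW : Cfsg.IsCharPFunctor.{u} p W) (hloc : ∀ (K R : Subgroup G) [hR : (R.subgroupOf K).Normal], Subgroup.centralizer ((Cfsg.pCore p (↥K ⧸ R.subgroupOf K) : Subgroup (↥K ⧸ R.subgroupOf K)) : Set (↥K ⧸ R.subgroupOf K)) ≤ Cfsg.pCore p (↥K ⧸ R.subgroupOf K) → ∀ T : Sylow p (↥K ⧸ R.subgroupOf K), ¬ (Cfsg.inducedFunctor (G := (↥K ⧸ R.subgroupOf K)) W ((T : Subgroup (↥K ⧸ R.subgroupOf K)))).Normal → ∃ g : (↥K ⧸ R.subgroupOf K), g ∈ (T : Subgroup (↥K ⧸ R.subgroupOf K)) ∧ g ∉ Cfsg.pCore p (↥K ⧸ R.subgroupOf K) ∧ ∀ U V : Subgroup (↥K ⧸ R.subgroupOf K), Cfsg.IsChiefFactor U V → U ≤ Cfsg.pCore p (↥K ⧸ R.subgroupOf K) → Cfsg.iterCommutator U (Subgroup.zpowers g) (p - 1) ≤ V) : ∀ (K R : Subgroup G) [hR : (R.subgroupOf K).Normal], Cfsg.ControlsTransferIn p (Cfsg.inducedFunctor (G := (↥K ⧸ R.subgroupOf K)) W) ⊤ := by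
  intro K R hR
  have h𝓦 : ∀ V ∈ ({W} : Set (∀ (Q : Type u) [Group Q], Subgroup Q)), Cfsg.IsCharPFunctor.{u} p V := by
    rintro V rfl
    exact hW
  have key := Cfsg.Agent.Techniques.Functor.tc_of_quotients (G := G) h𝓦
    (fun K' R' _ hsub hquot hc S => by
      classical
      by_cases hn : (Cfsg.inducedFunctor (G := (↥K' ⧸ R'.subgroupOf K')) W
          (S : Subgroup (↥K' ⧸ R'.subgroupOf K'))).Normal
      · exact Cfsg.Agent.Techniques.Functor.pCore_inf_commutator_le_of_normal (𝓦 := {W}) (Set.mem_singleton W) S hn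
      · by_contra hfail
        have hm : Cfsg.Agent.Techniques.Functor.Minimal p {W} S :=
          ⟨h𝓦, Set.singleton_nonempty W, hsub, hquot, fun h => hfail
            ((inf_le_inf_right _ (Cfsg.Agent.PLocal.Cores.pCore_le_sylow S)).trans h)⟩
        obtain ⟨g, hgS, hgQ, hg⟩ := hloc K' R' hc S hn
        obtain ⟨U, V, hch, hU, hbad⟩ := hm.exists_bad_factor hgS hgQ
        exact hbad (hg U V hch hU))
    (↥K ⧸ R.subgroupOf K) (Cfsg.Agent.Techniques.Functor.isSec_quotient K R)
  rw [Cfsg.Agent.Techniques.Functor.controlsTransfer_iff_family]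
  have := (Cfsg.Agent.Techniques.Functor.tc_iff h𝓦).mpr key
  rwa [Cfsg.Agent.Techniques.Functor.induced, Set.image_singleton] at this

end Cfsg.Agent.S1972
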