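import Cfsg.Statements.S1968
import Cfsg.Agent.Techniques.Functor.Control
import Cfsg.Agent.Techniques.Functor.ConjFamily

set_option autoImplicit false
open Cfsg

namespace Cfsg.Agent.S1968

/-- Let p be a prime, G a finite group with Sylow p-subgroup S and W a conjugacy functor for p on G with Z(P) ≤ W(P) for every p-subgroup P. Let A be a subgroup of Z(S) normalized by N_G(W(S)) that is not weakly closed in S with respect to G. Then there is a subgroup T of S, well placed in S with respect to W, such that: A ≤ T; N_G(W(N_S(T))) normalizes A; N_S(T) is a Sylow p-subgroup of N_G(T); A ≤ Z(N_S(T)); and A is not weakly closed in N_S(T) with respect to N_G(T), that is, some N_G(T)-conjugate of A other than A lies in N_S(T). -/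
theorem result {G : Type*} [Group G] [Finite G] {p : ℕ} [Fact p.Prime] (S : Sylow p G) (W : Subgroup G → Subgroup G) (hW : Cfsg.IsConjugacyFunctor p W) (hWZ : ∀ P : Subgroup G, IsPGroup p ↥P → P ⊓ Subgroup.centralizer (P : Set G) ≤ W P) (A : Subgroup G) (hAZ : A ≤ (S : Subgroup G) ⊓ Subgroup.centralizer ((S : Subgroup G) : Set G)) (hAN : Subgroup.normalizer ((W (S : Subgroup G) : Subgroup G) : Set G) ≤ Subgroup.normalizer ((A : Subgroup G) : Set G)) (hnwc : ¬ Cfsg.IsWeaklyClosed A (S : Subgroup G)) : ∃ T : Subgroup G, Cfsg.IsWellPlaced p W (S : Subgroup G) T ∧ A ≤ T ∧ Subgroup.normalizer ((W ((S : Subgroup G) ⊓ Subgroup.normalizer ((T : Subgroup G) : Set G)) : Subgroup G) : Set G) ≤ Subgroup.normalizer ((A : Subgroup G) : Set G) ∧ ¬ p ∣ ((S : Subgroup G) ⊓ Subgroup.normalizer ((T : Subgroup G) : Set G)).relIndex (Subgroup.normalizer ((T : Subgroup G) : Set G)) ∧ A ≤ Subgroup.centralizer (((S : Subgroup G) ⊓ Subgroup.normalizer ((T : Subgroup G) : Set G) : Subgroup G) : Set G) ∧ ∃ g ∈ Subgroup.normalizer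 ((T : Subgroup G) : Set G), A.map (MulAut.conj g).toMonoidHom ≤ (S : Subgroup G) ⊓ Subgroup.normalizer ((T : Subgroup G) : Set G) ∧ A.map (MulAut.conj g).toMonoidHom ≠ A := by
  classical

  let bad : Set (Subgroup G) := {T | Cfsg.IsWellPlaced p W (S : Subgroup G) T ∧ A ≤ T ∧
    ¬ Subgroup.normalizer (T : Set G) ≤ Subgroup.normalizer (A : Set G)}
  have hAS : A ≤ (S : Subgroup G) := hAZ.trans inf_le_left
  have hbad : bad.Nonempty := by
    by_contra hne
    apply hnwc
    refine ⟨hAS, fun g hg => ?_⟩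
    obtain ⟨n, T, x, h1, h2, h3, h4, h5⟩ :=
      (Cfsg.Agent.Techniques.Functor.isConjugationFamily_wellPlaced S hW).2 (A : Set G) g⁻¹
        ⟨1, A.one_mem⟩ hAS (by
          rintro _ ⟨a, ha, rfl⟩
          have h0 : g * a * g⁻¹ ∈ (S : Subgroup G) := hg (Subgroup.mem_map_of_mem _ ha)
          change (g⁻¹)⁻¹ * a * g⁻¹ ∈ (S : Subgroup G)
          rwa [inv_inv])
    have key : ∀ k : ℕ, k ≤ n →
        ((List.ofFn x).take k).prod ∈ Subgroup.normalizer (A : Set G) := by
      intro k
      induction k with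
      | zero => intro _; simp
      | succ k ih =>
        intro hk
        rw [List.prod_take_succ _ _ (by simpa using hk)]
        refine Subgroup.mul_mem _ (ih (by omega)) ?_
        rw [List.getElem_ofFn]
        have hA : A ≤ T ⟨k, hk⟩ := by
          cases k with
          | zero => exact h4 hk
          | succ j =>
            intro a ha
            have hj := Subgroup.mem_normalizer_iff.mp (ih (by omega)) a |>.mp ha
            refine h5 ⟨j, by omega⟩ hk ⟨_, hj, ?_⟩
            group
        by_contra hx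
        exact hne ⟨T ⟨k, hk⟩, h2 _, hA, fun hle => hx (hle (h3 _))⟩
    have h6 := key n le_rfl
    rw [List.take_of_length_le (by simp), h1, Subgroup.inv_mem_iff] at h6
    exact Cfsg.Agent.Techniques.Functor.map_cnj_eq_self.mpr h6
  obtain ⟨T, hT, hmax⟩ := Set.exists_max_image bad
    (fun T => Nat.card (Cfsg.Agent.Techniques.Functor.nS (S : Subgroup G) T)) (Set.toFinite _) hbad
  obtain ⟨hwp, hAT, hN⟩ := hT
  have hAP : A ≤ Cfsg.Agent.Techniques.Functor.nS (S : Subgroup G) T :=
    hAT.trans (Cfsg.Agent.Techniques.Functor.le_nS hwp.1)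
  set P := Cfsg.Agent.Techniques.Functor.nS (S : Subgroup G) T
  have hPp : IsPGroup p P := S.2.to_le inf_le_left
  have hAC : A ≤ Subgroup.centralizer (P : Set G) :=
    (hAZ.trans inf_le_right).trans (Subgroup.centralizer_le (inf_le_left : P ≤ (S : Subgroup G)))
  refine ⟨T, hwp, hAT, ?_, hwp.2 0, hAC, ?_⟩
  · rcases eq_or_lt_of_le (inf_le_left : P ≤ (S : Subgroup G)) with h | h
    · change Subgroup.normalizer ((W P : Subgroup G) : Set G) ≤ _
      rw [show P = (S : Subgroup G) from h]
      exact hAN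
    · by_contra hle
      have hU : W P ∈ bad := by
        refine ⟨⟨(Cfsg.Agent.Techniques.Functor.functor_le hW hPp).trans inf_le_left, fun i => ?_⟩,
          (le_inf hAP hAC).trans (hWZ P hPp), hle⟩
        have h1 := hwp.2 (i + 1)
        rwa [Cfsg.Agent.Techniques.Functor.tower_succ] at h1
      have h2 := hmax _ hU
      have h3 : P < Cfsg.Agent.Techniques.Functor.nS (S : Subgroup G) (W P) :=
        lt_of_lt_of_le (Cfsg.Agent.Techniques.Functor.lt_nS S.2 h) (inf_le_inf le_rfl
          (Cfsg.Agent.Techniques.Functor.normalizer_le_functor hW hPp))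
      exact absurd h2 (not_le.mpr (Cfsg.Agent.Techniques.Functor.card_lt_card h3))
  · obtain ⟨g, hg, hgA⟩ := SetLike.not_le_iff_exists.mp hN
    refine ⟨g, hg, ?_, fun e => hgA (Cfsg.Agent.Techniques.Functor.map_cnj_eq_self.mp e)⟩
    refine le_trans ((Subgroup.map_mono hAT).trans
      (Cfsg.Agent.Techniques.Functor.map_cnj_eq_self.mpr hg).le) ?_
    exact Cfsg.Agent.Techniques.Functor.le_nS hwp.1

end Cfsg.Agent.S1968
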