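import Cfsg.Statements.S0266
import Cfsg.Agent.Lib.Classical.ProjLine

set_option autoImplicit false
open scoped MatrixGroups
open Cfsg

namespace Cfsg.Agent.S0266

/-- PGL_2(F) is sharply 3-transitive on the projective line: it is 3-transitive and the stabiliser of three distinct points is trivial. -/
theorem result {F : Type*} [Field F] : MulAction.IsMultiplyPretransitive (Matrix.ProjGenLinGroup (Fin 2) F) (Projectivization F (Fin 2 → F)) 3 ∧ ∀ (g : Matrix.ProjGenLinGroup (Fin 2) F) (a b c : Projectivization F (Fin 2 → F)), a ≠ b → a ≠ c → b ≠ c → g • a = a → g • b = b → g • c = c → g = 1 := by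
  refine ⟨?_, ?_⟩
  · refine ⟨fun x y => ?_⟩
    obtain ⟨g, hg⟩ := Classical.ProjLine.exists_smul_frame (fun i => x i) x.injective
    obtain ⟨h, hh⟩ := Classical.ProjLine.exists_smul_frame (fun i => y i) y.injective
    refine ⟨Matrix.ProjGenLinGroup.mk h * (Matrix.ProjGenLinGroup.mk g)⁻¹, ?_⟩
    ext i
    show (Matrix.ProjGenLinGroup.mk h * (Matrix.ProjGenLinGroup.mk g)⁻¹) • x i = y i
    rw [mul_smul, inv_smul_eq_iff.2 (hg i).symm, hh]
  · intro g a b c hab hac hbc ha hb hc
    have hinj : Function.Injective (![a, b, c] : Fin 3 → Projectivization F (Fin 2 → F)) := by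
      intro i j hij
      fin_cases i <;> fin_cases j <;> simp_all [Ne.symm hab, Ne.symm hac, Ne.symm hbc]
    obtain ⟨h, hh⟩ := Classical.ProjLine.exists_smul_frame _ hinj
    obtain ⟨k, hk⟩ := Matrix.ProjGenLinGroup.mk_surjective
      ((Matrix.ProjGenLinGroup.mk h)⁻¹ * g * Matrix.ProjGenLinGroup.mk h)
    have hfix : ∀ i, (Matrix.ProjGenLinGroup.mk k) • Classical.ProjLine.frame (F := F) i =
        Classical.ProjLine.frame i := by
      intro i
      rw [hk, mul_smul, mul_smul, hh, inv_smul_eq_iff, hh]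
      fin_cases i <;> simp [ha, hb, hc]
    have h1 := Classical.ProjLine.eq_one_of_fix_frame k hfix
    rw [hk] at h1
    have := congrArg (fun z => Matrix.ProjGenLinGroup.mk h * z * (Matrix.ProjGenLinGroup.mk h)⁻¹) h1
    simpa [mul_assoc] using this

end Cfsg.Agent.S0266
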