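import Cfsg.Statements.S1193
import Cfsg.Agent.Lib.Involutions.QuasiDihedralSubgroups

set_option autoImplicit false
open Cfsg

namespace Cfsg.Agent.S1193

open Cfsg.Agent.Involutions.QuasiDihedral

/-- Let S be quasi-dihedral of order 2^(n+1). Then S' = Φ(S) is cyclic of order 2^(n-1), the centre of S has order 2, and the subgroup generated by the involutions of S is dihedral of order 2^n. -/
theorem result {S : Type*} [Group S] [Finite S] (hS : Cfsg.IsQuasiDihedral S) (n : ℕ) (hn : Nat.card S = 2 ^ (n + 1)) : commutator S = frattini S ∧ IsCyclic (commutator S) ∧ Nat.card (commutator S) = 2 ^ (n - 1) ∧ Nat.card (Subgroup.center S) = 2 ∧ Nonempty (↥(Subgroup.closure {x : S | orderOf x = 2}) ≃* DihedralGroup (2 ^ (n - 1))) := by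
  obtain ⟨D⟩ := exists_gens hS
  have hDn : n = D.n := by
    have := Nat.pow_right_injective le_rfl (hn.symm.trans D.hcard)
    omega
  subst hDn
  refine ⟨by rw [D.commutator_eq, D.frattini_eq], ?_, ?_, D.card_center, ?_⟩
  · rw [D.commutator_eq]; exact D.isCyclic_of_le inf_le_left
  · rw [D.commutator_eq, D.card_evens]
  · rw [D.closure_involutions]; exact D.half_zero_equiv

end Cfsg.Agent.S1193
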