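import Cfsg.Statements.S0516
import Cfsg.Agent.Lib.Fusion.RankTwoCentral.GroupCase
import Cfsg.Agent.Lib.Blocks.BrauerHomocyclic
import Cfsg.Agent.Lib.ZStar.Consequences
import Cfsg.Agent.S0204

set_option autoImplicit false
open Cfsg

namespace Cfsg.Agent.S0516

/-- In a non-abelian finite simple group of 2-rank at most 2, a Sylow 2-subgroup is dihedral (of order at least 4),
quasi-dihedral, wreathed, or isomorphic to a Sylow 2-subgroup of the projective special unitary group of dimension 3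
over the field with 16 elements. -/
theorem result {G : Type*} [Group G] [Finite G] [IsSimpleGroup G]
    (hG : ¬ IsMulCommutative G) (h2 : Cfsg.PRankLE 2 2 G) (S : Sylow 2 G) {F : Type*} [Field F] [Fintype F]
    (hF : Fintype.card F = 16) (P : Sylow 2 (Cfsg.PSU 3 F 4)) :
    (∃ n : ℕ, 2 ≤ n ∧ Nonempty ((S : Subgroup G) ≃* DihedralGroup n)) ∨ Cfsg.IsQuasiDihedral (S : Subgroup G) ∨
      Cfsg.IsWreathed (S : Subgroup G) ∨ Nonempty ((S : Subgroup G) ≃* (P : Subgroup (Cfsg.PSU 3 F 4))) := by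
  classical
  haveI : Fact (Nat.Prime 2) := ⟨Nat.prime_two⟩
  have hcomm : ¬ ∀ a b : G, a * b = b * a := fun h => hG ⟨⟨h⟩⟩
  obtain ⟨E, hE⟩ := Cfsg.Agent.S0204.result (G := G) fun hc => hcomm fun a b => by
    haveI := hc
    exact IsCyclic.commGroup.mul_comm a b
  have hEsq : ∀ a ∈ E, a ^ 2 = 1 := fun a ha => by
    have := Monoid.pow_exponent_eq_one (⟨a, ha⟩ : E)
    rw [hE.exponent_two] at this
    exact congrArg Subtype.val this
  have h1 : ¬ Cfsg.PRankLE 2 1 G := fun h => by
    haveI := hE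
    have := h E ⟨⟨fun a b => by
      have hi : ∀ x : E, x⁻¹ = x := fun x => inv_eq_of_mul_eq_one_right
        (Subtype.ext (by rw [Subgroup.coe_mul, ← sq]; exact hEsq x x.2))
      rw [← hi (a * b), mul_inv_rev, hi, hi]⟩⟩ hEsq
    rw [hE.card_four] at this
    omega
  have hodd : ∀ N : Subgroup G, N.Normal → Odd (Nat.card N) → N = ⊥ := fun N hN hc => by
    rcases hN.eq_bot_or_eq_top with h | h
    · exact h
    · exfalso
      subst h
      rw [Subgroup.card_top] at hc
      have h4 := E.card_subgroup_dvd_card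
      rw [hE.card_four] at h4
      obtain ⟨k, hk⟩ := h4
      exact Nat.not_even_iff_odd.2 hc ⟨2 * k, by omega⟩
  have hiso : ∀ z : G, ¬ Cfsg.IsIsolatedInvolution z := fun z hz => by
    have hz1 : z ≠ 1 := fun e => by simp [Cfsg.IsIsolatedInvolution, e] at hz
    have hO : Cfsg.oddCore G = ⊥ := Cfsg.Agent.ZStar.Consequences.oddCore_eq_bot hodd
    have hzc : z ∈ Subgroup.center G := Subgroup.mem_center_iff.2 fun g => by
      have h := Cfsg.Agent.ZStar.Main.commutator_mem_oddCore hz g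
      rw [hO, Subgroup.mem_bot, mul_inv_eq_one, mul_inv_eq_iff_eq_mul] at h
      exact h.symm
    rcases (inferInstance : (Subgroup.center G).Normal).eq_bot_or_eq_top with h | h
    · rw [h, Subgroup.mem_bot] at hzc
      exact hz1 hzc
    · exact hcomm fun a b => Subgroup.mem_center_iff.1 (h ▸ Subgroup.mem_top b) a
  rcases Cfsg.Agent.Fusion.RankTwoCentral.sylow_shape h2 h1 hiso S with
    ⟨m, hm, h⟩ | h | h | ⟨n, hn, ⟨e⟩⟩ | h
  · exact Or.inl ⟨m, by omega, h⟩
  · exact Or.inr (Or.inl h)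
  · exact Or.inr (Or.inr (Or.inl h))
  · rcases Nat.lt_or_ge n 2 with hlt | hge
    · obtain rfl : n = 1 := by omega
      exact Or.inl ⟨2, le_rfl, Cfsg.Agent.Fusion.RankTwoCentral.dihedral_two e⟩
    exfalso
    set P' : Subgroup G := (S : Subgroup G)
    have hab : ∀ x ∈ P', ∀ y ∈ P', x * y = y * x := fun x hx y hy =>
      congrArg Subtype.val (e.injective (by rw [map_mul, map_mul, mul_comm]) :
        (⟨x, hx⟩ : P') * ⟨y, hy⟩ = ⟨y, hy⟩ * ⟨x, hx⟩)
    have hcard : Nat.card P' = 2 ^ n * 2 ^ n := by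
      rw [Nat.card_congr e.toEquiv, Nat.card_congr Multiplicative.toAdd, Nat.card_prod,
        Nat.card_zmod]
    have h16 : 16 ∣ Nat.card P' := by
      obtain ⟨k, rfl⟩ := Nat.exists_eq_add_of_le hge
      exact hcard ▸ ⟨2 ^ k * 2 ^ k, by ring⟩
    let q : ZMod (2 ^ n) := (2 ^ (n - 2) : ℕ)
    have hq : ∀ i : ℕ, (i * 2 ^ (n - 2) : ℕ) • (1 : ZMod (2 ^ n)) = i • q := fun i => by
      simp [q]
    let u : P' := e.symm (Multiplicative.ofAdd (q, 0))
    have hu : ∀ i : ℕ, u ^ i = 1 ↔ 2 ^ n ∣ i * 2 ^ (n - 2) := fun i => by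
      show (e.symm _) ^ i = 1 ↔ _
      rw [← map_pow, ← e.symm.map_one, e.symm.injective.eq_iff, ← ofAdd_nsmul, ofAdd_eq_one,
        Prod.smul_mk, smul_zero, Prod.mk_eq_zero, and_iff_left rfl, ← ZMod.natCast_eq_zero_iff]
      simp [q]
    have hu2 : u ^ 2 ≠ 1 := fun h => by
      have := Nat.le_of_dvd (by positivity) ((hu 2).1 h)
      rw [← pow_succ', Nat.pow_le_pow_iff_right one_lt_two] at this
      omega
    have hu4 : u ^ 4 = 1 := (hu 4).2 (by
      rw [show 4 = 2 ^ 2 from rfl, ← pow_add, Nat.add_sub_cancel' hge])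
    have h3 : Nat.card {t : P' // t ^ 2 = 1 ∧ t ≠ 1} = 3 := by
      obtain ⟨a, ha, b, hb, ha2, hb2, hab', ha1, hb1, hne⟩ :=
        Cfsg.Agent.Fusion.RankTwoCentral.exists_pair
          (Cfsg.Agent.Fusion.RankTwoCentral.prankAtLeast_two_of_not_le h1 S)
      have hr := Cfsg.Agent.Fusion.RankTwoCentral.rankTwo_of S.isPGroup'
        (Cfsg.Agent.Fusion.RankTwoCentral.not_prankAtLeast_three_of_le h2 P')
      let A : P' := ⟨a, ha⟩
      let B : P' := ⟨b, hb⟩
      have hF4 := Cfsg.Agent.Fusion.RankTwoCentral.four_fourOf ha hb ha2 hb2 ha1 hb1 hne.symm hab'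
      obtain ⟨n1, n2, n3⟩ := hF4.zt_ne
      have hset : {t : P' | t ^ 2 = 1 ∧ t ≠ 1} = {A, B, A * B} := by
        ext ⟨t, ht⟩
        constructor
        · rintro ⟨ht2, ht1⟩
          rcases hr a ha b hb t ht ha2 hb2 (by rw [← sq]; exact congrArg Subtype.val ht2) hab'
            (hab a ha t ht) (hab b hb t ht) ha1 hb1 hne with e | e | e | e
          · exact absurd (Subtype.ext e) ht1
          · exact Or.inl (Subtype.ext e)
          · exact Or.inr (Or.inl (Subtype.ext e))
          · exact Or.inr (Or.inr (Subtype.ext e))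
        · rintro (h | h | h) <;> rw [h] <;> refine ⟨Subtype.ext ?_, fun e => ?_⟩
          · exact (sq a).trans ha2
          · exact ha1 (congrArg Subtype.val e)
          · exact (sq b).trans hb2
          · exact hb1 (congrArg Subtype.val e)
          · exact (sq (a * b)).trans (hF4.sq (hF4.mem.2 (Or.inr (Or.inr (Or.inr rfl)))))
          · exact n1 (congrArg Subtype.val e)
      rw [show Nat.card {t : P' // t ^ 2 = 1 ∧ t ≠ 1} =
        ({t : P' | t ^ 2 = 1 ∧ t ≠ 1} : Set P').ncard from (Nat.card_coe_set_eq _), hset]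
      refine Set.ncard_eq_three.2 ⟨A, B, A * B, fun e => hne (congrArg Subtype.val e),
        fun e => n2 (congrArg Subtype.val e).symm, fun e => n3 (congrArg Subtype.val e).symm, rfl⟩
    haveI := Fintype.ofFinite G
    obtain ⟨hn', -, -⟩ :=
      Cfsg.Agent.Blocks.BrauerHomocyclic.normal_sylow S hab h3 h16 u hu2 hu4 hodd
    rcases hn'.eq_bot_or_eq_top with h | h <;> change P' = _ at h
    · rw [h, Subgroup.card_bot] at hcard
      have := Nat.one_lt_pow (show n ≠ 0 by omega) (one_lt_two)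
      nlinarith
    · exact hcomm fun a b => hab a (h ▸ Subgroup.mem_top a) b (h ▸ Subgroup.mem_top b)
  · exact Or.inr (Or.inr (Or.inr (h hF P)))

end Cfsg.Agent.S0516
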