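import Cfsg.Statements.S2916
-- import your own Cfsg.Agent.* helpers here
import Cfsg.Agent.Lib.GLTwoThree.Degree13
import Cfsg.Agent.Lib.GLTwoThree.Simple
import Cfsg.Agent.Recognition.MathieuEleven

set_option autoImplicit false
open Cfsg

namespace Cfsg.Agent.S2916

/-- Let G be a finite group with O²(G) = G (no proper normal subgroup of 2-power index), and let t be an involution of G whose centralizer C_G(t) is isomorphic to GL₂(3). Then G is isomorphic to PSL₃(3) or to the Mathieu group M₁₁. -/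
theorem result {G : Type*} [Group G] [Finite G] (hO : Cfsg.pResidual 2 G = ⊤) (t : G) (ht : orderOf t = 2) (hC : Nonempty (↥(Subgroup.centralizer ({t} : Set G)) ≃* GL (Fin 2) (ZMod 3))) : (∃ (F : Type) (_ : Field F) (_ : Fintype F), Fintype.card F = 3 ∧ Nonempty (G ≃* Matrix.ProjectiveSpecialLinearGroup (Fin 3) F)) ∨ Cfsg.Spor.IsoM11 G := by
  obtain ⟨e⟩ := hC
  obtain ⟨φ, E⟩ := Cfsg.Agent.GLTwoThree.exists_embedded ht e
  haveI := E.isSimple hO
  rcases E.order' hO with ⟨h, h18⟩ | h
  · obtain ⟨P, D⟩ := E.exists_threeData h h18 (E.all_conj hO)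
    exact .inl ⟨ZMod 3, inferInstance, inferInstance, ZMod.card 3, E.equiv_PSL h (E.all_conj hO) D⟩
  · refine .inr ?_
    have hG : Cfsg.IsM11 G := ⟨inferInstance, h⟩
    exact Cfsg.Agent.M11Order.Unique.equiv hG Cfsg.Agent.Recognition.MathieuEleven.isM11_M11

end Cfsg.Agent.S2916
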