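import Cfsg.Statements.S3573
import Mathlib

set_option autoImplicit false
open Cfsg

namespace Cfsg.Agent.S3573

open Equiv

/-- An element of prime order fixing a set of each admissible size. -/
theorem exists_invariant {n k r : ℕ} (hr : r.Prime) (hk : k ≤ n) (hmod : k % r ≤ n % r)
    (σ : Perm (Fin n)) (hσ : orderOf σ = r) :
    ∃ s : Finset (Fin n), s.card = k ∧ s.image σ = s := by
  classical
  have hlen : ∀ c ∈ σ.cycleFactorsFinset, c.support.card = r := by
    intro c hc
    obtain ⟨t, ht⟩ := Perm.cycleType_prime_order (σ := σ) (hσ ▸ hr)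
    have : c.support.card ∈ σ.cycleType := by
      rw [Perm.cycleType_def]; exact Multiset.mem_map.2 ⟨c, hc, rfl⟩
    rw [ht, hσ] at this
    exact Multiset.eq_of_mem_replicate this
  have hdisj : ∀ S : Finset (Perm (Fin n)), S ⊆ σ.cycleFactorsFinset →
      (S.biUnion Perm.support).card = S.card * r := by
    intro S hS
    rw [Finset.card_biUnion (fun c hc d hd hcd => Perm.disjoint_iff_disjoint_support.1
      (σ.cycleFactorsFinset_pairwise_disjoint (hS hc) (hS hd) hcd)),
      Finset.sum_const_nat fun c hc => hlen c (hS hc)]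
  set m := σ.cycleFactorsFinset.card with hm
  have hall : σ.support.card = m * r := by
    rw [← hdisj _ (subset_refl _)]
    congr 1
    ext x
    simp only [Finset.mem_biUnion]
    constructor
    · intro hx
      exact ⟨σ.cycleOf x, Perm.cycleOf_mem_cycleFactorsFinset_iff.2 hx, by
        rw [Perm.mem_support, Perm.cycleOf_apply_self]; exact Perm.mem_support.1 hx⟩
    · rintro ⟨c, hc, hx⟩
      exact Perm.mem_cycleFactorsFinset_support_le hc hx
  set a := min m (k / r) with ha
  obtain ⟨S, hS, hSc⟩ := Finset.exists_subset_card_eq (show a ≤ σ.cycleFactorsFinset.card from min_le_left _ _)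
  have hfix : σ.supportᶜ.card = n - m * r := by rw [Finset.card_compl, Fintype.card_fin, hall]
  have hle : k - a * r ≤ σ.supportᶜ.card := by
    rw [hfix]
    have hk' := Nat.div_add_mod k r
    have hn' := Nat.div_add_mod n r
    rcases min_choice m (k / r) with h | h <;> rw [ha, h]
    · omega
    · have hmn : m * r ≤ n := by
        rw [← hall]; exact (Finset.card_le_univ _).trans_eq (Fintype.card_fin n)
      have hmr : m ≤ n / r := (Nat.le_div_iff_mul_le hr.pos).2 hmn
      have h2 := Nat.mul_le_mul_left r hmr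
      have e : k / r * r = r * (k / r) := mul_comm _ _
      have e2 : m * r = r * m := mul_comm _ _
      omega
  obtain ⟨F, hF, hFc⟩ := Finset.exists_subset_card_eq hle
  have hinv : ∀ x, x ∈ S.biUnion Perm.support ∪ F → σ x ∈ S.biUnion Perm.support ∪ F := by
    intro x hx
    rw [Finset.mem_union] at hx ⊢
    rcases hx with hx | hx
    · left
      obtain ⟨c, hc, hxc⟩ := Finset.mem_biUnion.1 hx
      refine Finset.mem_biUnion.2 ⟨c, hc, ?_⟩
      rw [← (Perm.mem_cycleFactorsFinset_iff.1 (hS hc)).2 x hxc]
      exact Perm.apply_mem_support.2 hxc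
    · right
      have := hF hx
      rw [Finset.mem_compl, Perm.notMem_support] at this
      rwa [this]
  refine ⟨S.biUnion Perm.support ∪ F, ?_, ?_⟩
  · rw [Finset.card_union_of_disjoint, hdisj S hS, hSc, hFc]
    · have : a * r ≤ k := (Nat.le_div_iff_mul_le hr.pos).1 (min_le_right _ _)
      omega
    · rw [Finset.disjoint_left]
      intro x hx hxF
      obtain ⟨c, hc, hxc⟩ := Finset.mem_biUnion.1 hx
      exact (Finset.mem_compl.1 (hF hxF)) (Perm.mem_cycleFactorsFinset_support_le (hS hc) hxc)
  · refine Finset.eq_of_subset_of_card_le (fun x hx => ?_) ?_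
    · obtain ⟨y, hy, rfl⟩ := Finset.mem_image.1 hx
      exact hinv y hy
    · rw [Finset.card_image_of_injective _ σ.injective]

/-- The permutation of order `r` with as many cycles as possible. -/
theorem exists_extremal {n k r : ℕ} (hr : r.Prime) (hrn : r ≤ n) :
    ∃ σ : Perm (Fin n), orderOf σ = r ∧
      ∀ s : Finset (Fin n), s.card = k → s.image σ = s → k % r ≤ n % r := by
  classical
  haveI := Fact.mk hr
  haveI : Fact (1 < r) := ⟨hr.one_lt⟩
  have hc : Fintype.card (Fin n) = Fintype.card ((Fin (n / r) × ZMod r) ⊕ Fin (n % r)) := by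
    simp only [Fintype.card_sum, Fintype.card_prod, ZMod.card, Fintype.card_fin]
    rw [mul_comm]; exact (Nat.div_add_mod n r).symm
  let e := Fintype.equivOfCardEq hc
  let τ : Perm ((Fin (n / r) × ZMod r) ⊕ Fin (n % r)) :=
    ((Equiv.refl _).prodCongr (Equiv.addRight 1)).sumCongr (Equiv.refl _)
  let τ' : Perm (Fin n) := e.symm.permCongrHom τ
  have hpos : 0 < n / r := Nat.div_pos hrn hr.pos
  have hpow : ∀ (j : ℕ) x, (τ ^ j) (Sum.inl x) = Sum.inl (x.1, x.2 + j) := by
    intro j
    induction j with
    | zero => intro x; simp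
    | succ j ih =>
      intro x
      rw [pow_succ', Perm.mul_apply, ih]
      simp [τ, add_assoc]
  have hord : orderOf τ = r := by
    refine orderOf_eq_prime ?_ fun h => ?_
    · ext x
      rcases x with x | x
      · simp [hpow]
      · have : ∀ j : ℕ, (τ ^ j) (Sum.inr x) = Sum.inr x := by
          intro j
          induction j with
          | zero => simp
          | succ j ih => rw [pow_succ', Perm.mul_apply, ih]; simp [τ]
        simp [this]
    · simpa [τ] using Perm.congr_fun h (Sum.inl (⟨0, hpos⟩, 0))
  have hτ' : ∀ i, τ' i = e.symm (τ (e i)) := fun i => by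
    show e.symm.permCongr τ i = _
    rw [Equiv.permCongr_apply, Equiv.symm_symm]
  refine ⟨τ', by rw [MulEquiv.orderOf_eq, hord], fun s hs hinv => ?_⟩
  haveI : Fact r.Prime := ⟨hr⟩
  let u := s.image e
  have hu : u.card = k := by rw [Finset.card_image_of_injective _ e.injective, hs]
  have hclosed : ∀ (i : Fin (n / r)) (x : ZMod r), Sum.inl (i, x) ∈ u → ∀ y, Sum.inl (i, y) ∈ u := by
    intro i x hx y
    have hstep : ∀ j : ℕ, Sum.inl (i, x + j) ∈ u := by
      intro j
      induction j with
      | zero => simpa using hx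
      | succ j ih =>
        obtain ⟨z, hz, hz'⟩ := Finset.mem_image.1 ih
        refine Finset.mem_image.2 ⟨τ' z, hinv ▸ Finset.mem_image_of_mem _ hz, ?_⟩
        rw [hτ', e.apply_symm_apply, hz']
        simp [τ, add_assoc]
    simpa using hstep (y - x).val
  let I : Finset (Fin (n / r)) := Finset.univ.filter fun i => Sum.inl (i, (0 : ZMod r)) ∈ u
  have hL : u.toLeft = I ×ˢ (Finset.univ : Finset (ZMod r)) := by
    ext ⟨i, x⟩
    simp only [Finset.mem_toLeft, Finset.mem_product, Finset.mem_univ, and_true, I, Finset.mem_filter, true_and]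
    exact ⟨fun h => hclosed i x h 0, fun h => hclosed i 0 h x⟩
  have hcard := Finset.card_toLeft_add_card_toRight (u := u)
  rw [hL, Finset.card_product, Finset.card_univ, ZMod.card, hu] at hcard
  have hR : u.toRight.card ≤ n % r := (Finset.card_le_univ _).trans_eq (Fintype.card_fin _)
  have hlt : n % r < r := Nat.mod_lt _ hr.pos
  rw [← hcard, Nat.mul_add_mod_of_lt (by omega)]
  exact hR

/-- The criterion for all primes at once. -/
theorem criterion {n k r : ℕ} (hk : k ≤ n) (hr : r.Prime) (hrd : r ∣ Nat.choose n k) :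
    (∀ σ : Perm (Fin n), orderOf σ = r → ∃ s : Finset (Fin n), s.card = k ∧ s.image σ = s) ↔
      k % r ≤ n % r := by
  have hrn : r ≤ n := by
    by_contra h
    push Not at h
    have h1 : r ∣ n.factorial := hrd.trans ⟨k.factorial * (n - k).factorial, by
      rw [← mul_assoc]; exact (Nat.choose_mul_factorial_mul_factorial hk).symm⟩
    have := (hr.dvd_factorial).1 h1
    omega
  refine ⟨fun h => ?_, fun h σ hσ => exists_invariant hr hk h σ hσ⟩
  obtain ⟨σ, hσ, hs⟩ := exists_extremal (k := k) hr hrn
  obtain ⟨s, h1, h2⟩ := h σ hσ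
  exact hs s h1 h2

/-- Let 1 ≤ k with 2k < n and consider the symmetric group of degree n acting on the k-subsets of an n-set. Let r be a prime dividing the number C(n,k) of k-subsets. If r is odd, then every permutation of order r fixes some k-subset if and only if r ≤ k and the remainder of k modulo r is at most the remainder of n modulo r. If r = 2, then every involution fixes some k-subset if and only if k is even or n is odd. -/
theorem result (n k : ℕ) (hk : 1 ≤ k) (hkn : 2 * k < n) (r : ℕ) (hr : r.Prime) (hrd : r ∣ Nat.choose n k) :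
    (r ≠ 2 → ((∀ σ : Equiv.Perm (Fin n), orderOf σ = r → ∃ s : Finset (Fin n), s.card = k ∧ s.image σ = s) ↔
      (r ≤ k ∧ k % r ≤ n % r))) ∧
    (r = 2 → ((∀ σ : Equiv.Perm (Fin n), orderOf σ = 2 → ∃ s : Finset (Fin n), s.card = k ∧ s.image σ = s) ↔
      (Even k ∨ Odd n))) := by
  refine ⟨fun _ => ?_, fun h2 => ?_⟩
  · rw [criterion (by omega) hr hrd]
    refine ⟨fun h => ⟨?_, h⟩, fun h => h.2⟩
    by_contra hlt
    push Not at hlt
    haveI := Fact.mk hr
    have hL := Choose.choose_modEq_choose_mod_mul_choose_div_nat (p := r) (n := n) (k := k)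
    rw [Nat.div_eq_of_lt hlt, Nat.choose_zero_right, mul_one, Nat.mod_eq_of_lt hlt] at hL
    rw [Nat.mod_eq_of_lt hlt] at h
    have h1 : r ∣ Nat.choose (n % r) k := Nat.modEq_zero_iff_dvd.1
      ((hL.symm).trans (Nat.modEq_zero_iff_dvd.2 hrd))
    have h3 : r ∣ (n % r).factorial := h1.trans ⟨k.factorial * (n % r - k).factorial, by
      rw [← mul_assoc]; exact (Nat.choose_mul_factorial_mul_factorial h).symm⟩
    have := hr.dvd_factorial.1 h3
    have := Nat.mod_lt n hr.pos
    omega
  · subst h2
    rw [criterion (by omega) hr hrd, Nat.even_iff, Nat.odd_iff]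
    omega

end Cfsg.Agent.S3573
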