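import Cfsg.Statements.S1194
import Cfsg.Agent.Lib.Involutions.QuasiDihedralSubgroups

set_option autoImplicit false
open Cfsg

namespace Cfsg.Agent.S1194

open Cfsg.Agent.Involutions.QuasiDihedral

/-- In a quasi-dihedral 2-group S, every proper normal subgroup is either a maximal subgroup or a cyclic subgroup contained in the derived subgroup S'. -/
theorem result {S : Type*} [Group S] [Finite S] (hS : Cfsg.IsQuasiDihedral S) (N : Subgroup S) [N.Normal] (hN : N ≠ ⊤) : IsCoatom N ∨ (IsCyclic N ∧ N ≤ commutator S) := by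
  obtain ⟨D⟩ := exists_gens hS
  by_cases hq : ∃ i, D.q i ∈ N
  · obtain ⟨i, hi⟩ := hq
    have he : ∀ k, Even k → D.P k ∈ N := fun k hk => by
      obtain ⟨l, hl⟩ := D.exists_one_sub_r_mul hk
      have h1 := mul_mem (Subgroup.Normal.conj_mem (inferInstance : N.Normal) _ hi (D.P l)) (inv_mem hi)
      rwa [D.conj_P_q, hl, add_comm, ← D.P_mul_q, mul_inv_cancel_right] at h1
    have hle : ∀ a, Even (i - a) → D.half a ≤ N := by
      rintro a ha s (⟨j, hj, rfl⟩ | ⟨j, hj, rfl⟩)
      · exact he j hj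
      · have h1 : D.q j = D.P (j - i) * D.q i := by rw [D.P_mul_q, sub_add_cancel]
        rw [h1]; refine mul_mem (he _ ?_) hi
        rw [show j - i = (j - a) - (i - a) by ring]; exact hj.sub ha
    refine Or.inl ?_
    obtain ⟨a, ha⟩ : ∃ a, Even (i - a) := ⟨i, by rw [sub_self]; exact ⟨0, (add_zero 0).symm⟩⟩
    rcases (D.isCoatom_half a).le_iff.1 (hle a ha) with h | h
    · exact absurd h hN
    · exact h ▸ D.isCoatom_half a
  · have hsub : N ≤ Subgroup.zpowers D.x := fun s hs => by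
      rcases D.forms s with ⟨i, rfl⟩ | ⟨i, rfl⟩
      · exact D.P_mem i
      · exact absurd ⟨i, hs⟩ hq
    by_cases hodd : ∃ i, ¬ Even i ∧ D.P i ∈ N
    · obtain ⟨i, hi, hiN⟩ := hodd
      refine Or.inl ?_
      have h2 : Subgroup.zpowers (D.P i) = Subgroup.zpowers D.x := by
        have := D.finite
        refine Subgroup.eq_of_le_of_card_ge (Subgroup.zpowers_le.2 (D.P_mem i)) ?_
        rw [Nat.card_zpowers, Nat.card_zpowers, D.orderOf_P_odd hi, D.hx]
      rw [le_antisymm hsub (h2 ▸ Subgroup.zpowers_le.2 hiN)]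
      exact D.isCoatom_zpowers
    · refine Or.inr ⟨D.isCyclic_of_le hsub, fun s hs => ?_⟩
      obtain ⟨i, rfl⟩ := D.exists_eq_P (hsub hs)
      rw [D.commutator_eq, D.mem_evens]
      exact ⟨i, by_contra fun hi => hodd ⟨i, hi, hs⟩, rfl⟩

end Cfsg.Agent.S1194
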