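import Cfsg.Statements.S3683

set_option autoImplicit false
open Cfsg MulAction

namespace Cfsg.Agent.S3683

/-- Let G act faithfully and primitively on Ω, and suppose the stabilizer of a point a fixes a second point. Then the stabilizer of a is trivial and G is cyclic of prime order. -/
theorem result {G Ω : Type*} [Group G] [Finite G] [MulAction G Ω] [FaithfulSMul G Ω] [Finite Ω]
    (hprim : MulAction.IsPreprimitive G Ω) (a b : Ω) (hab : a ≠ b) (hfix : ∀ g : G, g • a = a → g • b = b) :
    MulAction.stabilizer G a = ⊥ ∧ IsCyclic G ∧ (Nat.card G).Prime := by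
  haveI := hprim.toIsPretransitive
  haveI : Nontrivial Ω := ⟨⟨a, b, hab⟩⟩
  have hco : IsCoatom (stabilizer G a) := (isCoatom_stabilizer_iff_preprimitive G a).2 hprim
  have hle : stabilizer G a ≤ stabilizer G b := fun g hg => hfix g hg
  have hne : stabilizer G b ≠ ⊤ := fun h => hab (by
    obtain ⟨g, hg⟩ := exists_smul_eq G b a
    have : g ∈ stabilizer G b := h ▸ Subgroup.mem_top g
    rw [← hg]; exact this)
  have heq : stabilizer G b = stabilizer G a := (hco.le_iff.1 hle).resolve_left hne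
  obtain ⟨g, hg⟩ := exists_smul_eq G a b
  have hnot : g ∉ stabilizer G a := fun h => hab (h.symm.trans hg)
  have hgn : g ∈ Subgroup.normalizer (stabilizer G a : Set G) := by
    rw [Subgroup.mem_normalizer_iff]
    intro x
    have : (g * x * g⁻¹) • b = b ↔ x • a = a := by
      rw [← hg, mul_smul, mul_smul, inv_smul_smul]
      exact smul_left_cancel_iff g
    show x ∈ stabilizer G a ↔ g * x * g⁻¹ ∈ stabilizer G a
    conv_rhs => rw [← heq]
    exact this.symm
  have htop : Subgroup.normalizer (stabilizer G a : Set G) = ⊤ :=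
    hco.2 _ (lt_of_le_of_ne Subgroup.le_normalizer fun h => hnot (h ▸ hgn))
  have hbot : stabilizer G a = ⊥ := by
    refine (Subgroup.eq_bot_iff_forall _).2 fun x hx => FaithfulSMul.eq_of_smul_eq_smul (α := Ω) fun y => ?_
    obtain ⟨k, rfl⟩ := exists_smul_eq G a y
    have hk : k⁻¹ ∈ Subgroup.normalizer (stabilizer G a : Set G) := htop ▸ Subgroup.mem_top _
    have h1 := (Subgroup.mem_normalizer_iff.1 hk x).1 hx
    rw [inv_inv] at h1
    have h2 : (k⁻¹ * x * k) • a = a := h1
    rw [one_smul]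
    rw [mul_smul, mul_smul, inv_smul_eq_iff] at h2
    exact h2
  have hgen : ∀ x : G, x ≠ 1 → Subgroup.zpowers x = ⊤ := by
    intro x hx
    rw [hbot] at hco
    exact hco.2 _ (bot_lt_iff_ne_bot.2 (Subgroup.zpowers_ne_bot.2 hx))
  have hg1 : g ≠ 1 := fun h => hnot (h ▸ Subgroup.one_mem _)
  haveI : Nontrivial G := ⟨⟨g, 1, hg1⟩⟩
  refine ⟨hbot, ⟨⟨g, fun x => Subgroup.mem_zpowers_iff.1 (by rw [hgen g hg1]; exact Subgroup.mem_top x)⟩⟩, ?_⟩
  obtain ⟨p, hp, hdvd⟩ := Nat.exists_prime_and_dvd (Finite.one_lt_card (α := G)).ne'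
  haveI := Fact.mk hp
  obtain ⟨x, hx⟩ := exists_prime_orderOf_dvd_card' p hdvd
  have hx1 : x ≠ 1 := fun h => hp.one_lt.ne (by rw [← hx, h, orderOf_one])
  rw [← Subgroup.card_top (G := G), ← hgen x hx1, Nat.card_zpowers, hx]
  exact hp

end Cfsg.Agent.S3683
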