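import Cfsg.Statements.S3684
import Mathlib

set_option autoImplicit false
open Cfsg

namespace Cfsg.Agent.S3684

theorem pow_val_add {G : Type*} [Group G] {m : ℕ} [NeZero m] {r : G} (hr : r ^ m = 1) (i j : ZMod m) :
    r ^ (i + j).val = r ^ i.val * r ^ j.val := by
  rw [← pow_add, ZMod.val_add]
  conv_rhs => rw [← Nat.mod_add_div (i.val + j.val) m, pow_add, pow_mul, hr, one_pow, mul_one]

/-- The homomorphism from a dihedral group given by `x ^ 2 = 1`, `r ^ m = 1`, `x r x = r⁻¹`. -/
theorem exists_lift {G : Type*} [Group G] (m : ℕ) [NeZero m] (x r : G) (hx : x * x = 1) (hr : r ^ m = 1)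
    (hxr : x * r * x = r⁻¹) :
    ∃ φ : DihedralGroup m →* G, (∀ i : ZMod m, φ (.r i) = r ^ i.val) ∧ ∀ i : ZMod m, φ (.sr i) = x * r ^ i.val := by
  have hxi : x⁻¹ = x := inv_eq_of_mul_eq_one_right hx
  have hflip : ∀ i : ZMod m, r ^ i.val * x = x * r ^ (-i).val := by
    intro i
    have h1 : r ^ i.val * r ^ (-i).val = 1 := by rw [← pow_val_add hr, add_neg_cancel, ZMod.val_zero, pow_zero]
    have h2 : x * r ^ i.val * x⁻¹ = (r ^ i.val)⁻¹ := by
      rw [← conj_pow, hxi, hxr, inv_pow]
    rw [← eq_inv_of_mul_eq_one_right h1] at h2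
    rw [← h2, hxi]
    simp only [← mul_assoc, hx, one_mul]
  let f : DihedralGroup m → G := fun d => match d with
    | .r i => r ^ i.val
    | .sr i => x * r ^ i.val
  refine ⟨MonoidHom.mk' f ?_, fun i => rfl, fun i => rfl⟩
  rintro (i | i) (j | j)
  · simp only [DihedralGroup.r_mul_r, f]; exact pow_val_add hr i j
  · simp only [DihedralGroup.r_mul_sr, f]
    rw [sub_eq_add_neg, add_comm, pow_val_add hr, ← mul_assoc (r ^ i.val), hflip, mul_assoc]
  · simp only [DihedralGroup.sr_mul_r, f]; rw [pow_val_add hr, mul_assoc]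
  · simp only [DihedralGroup.sr_mul_sr, f]
    rw [mul_assoc x, ← mul_assoc (r ^ i.val), hflip, ← mul_assoc, ← mul_assoc, hx, one_mul,
      ← pow_val_add hr, sub_eq_neg_add]

/-- Let a finite group G act faithfully and primitively on a set Ω, and suppose the stabilizer of a point a has an orbit of length 2. Then the stabilizer of a has order 2 and G is isomorphic to the dihedral group of order 2p for some prime p. -/
theorem result {G Ω : Type*} [Group G] [Finite G] [MulAction G Ω] [FaithfulSMul G Ω] [Finite Ω]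
    (hprim : MulAction.IsPreprimitive G Ω) (a b : Ω) (h2 : Nat.card (MulAction.orbit (MulAction.stabilizer G a) b) = 2) :
    Nat.card (MulAction.stabilizer G a) = 2 ∧ ∃ p : ℕ, p.Prime ∧ Nonempty (G ≃* DihedralGroup p) := by
  haveI := hprim
  set A := MulAction.stabilizer G a with hA
  set B := MulAction.stabilizer G b with hB
  have hne : A ≠ B := by
    intro h
    have : ∀ ω ∈ MulAction.orbit A b, ω = b := by
      rintro _ ⟨⟨g, hg⟩, rfl⟩
      exact MulAction.mem_stabilizer_iff.1 (show g ∈ B from h ▸ hg)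
    have hsub : Nat.card (MulAction.orbit A b) ≤ 1 := by
      haveI : Subsingleton (MulAction.orbit A b) := ⟨fun u v => Subtype.ext ((this u u.2).trans (this v v.2).symm)⟩
      exact Finite.card_le_one_iff_subsingleton.2 inferInstance
    omega
  haveI : Nontrivial Ω := ⟨⟨a, b, fun h => hne (by rw [hA, hB, h])⟩⟩
  have hco : IsCoatom A := MulAction.IsPreprimitive.isCoatom_stabilizer_of_isPreprimitive G a
  obtain ⟨t, ht⟩ := MulAction.exists_smul_eq G a b
  have hcard : Nat.card B = Nat.card A := by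
    rw [hA, hB, ← ht, MulAction.stabilizer_smul_eq_stabilizer_map_conj]
    exact Subgroup.card_map_of_injective (MulAut.conj t).injective
  -- the two-point stabilizer
  set K := A ⊓ B with hK
  have hKA : Nat.card A = 2 * Nat.card K := by
    have h := Subgroup.card_mul_index (MulAction.stabilizer A b)
    have hi : (MulAction.stabilizer A b).index = 2 := by
      rw [MulAction.index_stabilizer, ← Nat.card_coe_set_eq, h2]
    have e : Nat.card (MulAction.stabilizer A b) = Nat.card K :=
      Nat.card_congr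
        { toFun := fun g => ⟨g.1.1, g.1.2, g.2⟩
          invFun := fun g => ⟨⟨g.1, g.2.1⟩, g.2.2⟩
          left_inv := fun g => rfl
          right_inv := fun g => rfl }
    rw [hi, e] at h; omega
  have hidx : ∀ L : Subgroup G, K ≤ L → Nat.card L = Nat.card A → L ≤ Subgroup.normalizer (K : Set G) := by
    intro L hKL hL
    have h := Subgroup.card_mul_index (K.subgroupOf L)
    rw [Nat.card_congr (Subgroup.subgroupOfEquivOfLe hKL).toEquiv, hL, hKA] at h
    have hi : (K.subgroupOf L).index = 2 := by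
      have : 0 < Nat.card K := Nat.card_pos
      exact Nat.eq_of_mul_eq_mul_left this (by rw [h]; ring)
    exact (Subgroup.normal_subgroupOf_iff_le_normalizer hKL).1 (Subgroup.normal_of_index_eq_two hi)
  have hBA : ¬ B ≤ A := fun h => hne (Subgroup.eq_of_le_of_card_ge h hcard.ge).symm
  have hgen : ∀ L : Subgroup G, A ≤ L → B ≤ L → L = ⊤ := fun L hAL hBL => by
    rcases hco.le_iff.1 hAL with h | h
    · exact h
    · exact absurd (h ▸ hBL) hBA
  have hK1 : K = ⊥ := by
    have hN : K.Normal := Subgroup.normalizer_eq_top_iff.1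
      (hgen _ (hidx A inf_le_left rfl) (hidx B inf_le_right hcard))
    rw [Subgroup.eq_bot_iff_forall]
    intro k hk
    refine eq_of_smul_eq_smul (α := Ω) fun ω => ?_
    obtain ⟨g, rfl⟩ := MulAction.exists_smul_eq G a ω
    have := MulAction.mem_stabilizer_iff.1 (hN.conj_mem k hk g⁻¹).1
    rw [inv_inv, mul_smul, mul_smul, inv_smul_eq_iff] at this
    rw [this, one_smul]
  have hA2 : Nat.card A = 2 := by rw [hKA, hK1, Subgroup.card_bot]
  refine ⟨hA2, ?_⟩
  obtain ⟨x, hxA, hx1⟩ : ∃ x ∈ A, x ≠ 1 :=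
    A.bot_or_exists_ne_one.resolve_left fun h => by rw [h, Subgroup.card_bot] at hA2; omega
  obtain ⟨y, hyB, hy1⟩ : ∃ y ∈ B, y ≠ 1 :=
    B.bot_or_exists_ne_one.resolve_left fun h => by rw [h, Subgroup.card_bot] at hcard; omega
  have hset : ∀ (L : Subgroup G) (z : G), Nat.card L = 2 → z ∈ L → z ≠ 1 → ∀ w ∈ L, w = 1 ∨ w = z := by
    intro L z hL hz hz1 w hw
    obtain ⟨u, v, -, huv⟩ := Nat.card_eq_two_iff.1 hL
    have key : ∀ c : L, c = u ∨ c = v := fun c => by
      have : c ∈ ({u, v} : Set L) := huv ▸ Set.mem_univ c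
      simpa using this
    rcases key 1 with h1 | h1 <;> rcases key ⟨z, hz⟩ with h3 | h3 <;> rcases key ⟨w, hw⟩ with h4 | h4 <;>
      first
        | exact absurd (congrArg Subtype.val (h3.trans h1.symm)) hz1
        | exact Or.inl (congrArg Subtype.val (h4.trans h1.symm))
        | exact Or.inr (congrArg Subtype.val (h4.trans h3.symm))
  have hsq : ∀ (L : Subgroup G) (z : G), Nat.card L = 2 → z ∈ L → z * z = 1 := by
    intro L z hL hz
    have := congrArg Subtype.val (pow_card_eq_one' (x := (⟨z, hz⟩ : L)))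
    rw [hL] at this
    simpa [pow_two] using this
  have hxx := hsq A x hA2 hxA
  have hyy := hsq B y (hcard.trans hA2) hyB
  set r := x * y with hr
  have hxy : x ≠ y := fun h => hx1 (Subgroup.mem_bot.1 (hK1 ▸ (show x ∈ K from ⟨hxA, h ▸ hyB⟩)))
  have hxr : x * r * x = r⁻¹ := by
    rw [eq_inv_iff_mul_eq_one, hr]
    rw [show x * (x * y) * x * (x * y) = (x * x) * y * (x * x) * y by group, hxx, one_mul, mul_one, hyy]
  set m := orderOf r with hm
  haveI : NeZero m := ⟨(orderOf_pos r).ne'⟩
  have hm2 : 2 ≤ m := by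
    have : m ≠ 1 := by
      intro h
      rw [hm, orderOf_eq_one_iff, hr, mul_eq_one_iff_eq_inv] at h
      exact hxy (h.trans (inv_eq_of_mul_eq_one_right hyy))
    have := orderOf_pos r
    omega
  obtain ⟨φ, hφr, hφs⟩ := exists_lift m x r hxx (pow_orderOf_eq_one r) hxr
  have hφx : φ (.sr 0) = x := by rw [hφs]; simp
  have hsurj : Function.Surjective φ := by
    rw [← MonoidHom.range_eq_top]
    refine hgen _ (fun g hg => ?_) (fun g hg => ?_)
    · rcases hset A x hA2 hxA hx1 g hg with rfl | rfl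
      · exact one_mem _
      · exact ⟨_, hφx⟩
    · rcases hset B y (hcard.trans hA2) hyB hy1 g hg with rfl | rfl
      · exact one_mem _
      · refine ⟨.sr 1, ?_⟩
        rw [hφs, ZMod.val_one_eq_one_mod, Nat.mod_eq_of_lt hm2, pow_one, hr, ← mul_assoc, hxx, one_mul]
  have hnocomm : ∀ i : ℕ, x ≠ r ^ i := by
    intro i hi
    have hcx : x * r = r * x := by rw [hi]; exact (Commute.pow_self r i).eq
    have hN : A.Normal := by
      refine ⟨fun n hn g => ?_⟩
      obtain ⟨d, rfl⟩ := hsurj g
      rcases hset A x hA2 hxA hx1 n hn with h | h <;> rw [h]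
      · simp
      · have hc : φ d * x = x * φ d := by
          cases d with
          | r j => rw [hφr]; exact ((Commute.pow_right hcx j.val).eq).symm
          | sr j => rw [hφs, mul_assoc, ← (Commute.pow_right hcx j.val).eq]
        rw [hc, mul_inv_cancel_right]; exact hxA
    have hB' : B = A := by
      rw [hB, ← ht, MulAction.stabilizer_smul_eq_stabilizer_map_conj]
      exact @Subgroup.Normal.map_conj_eq _ _ _ hN t
    exact hne hB'.symm
  have hinj : Function.Injective φ := by
    rw [injective_iff_map_eq_one]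
    rintro (j | j) hj
    · rw [hφr] at hj
      have h0 : j.val = 0 := Nat.eq_zero_of_dvd_of_lt (orderOf_dvd_of_pow_eq_one hj) (ZMod.val_lt j)
      rw [(ZMod.val_eq_zero j).1 h0]; rfl
    · exfalso
      rw [hφs, mul_eq_one_iff_eq_inv] at hj
      refine hnocomm j.val ?_
      rw [← inv_inv (r ^ j.val), ← hj]
      exact (inv_eq_of_mul_eq_one_right hxx).symm
  refine ⟨m, ?_, ⟨(MulEquiv.ofBijective φ ⟨hinj, hsurj⟩).symm⟩⟩
  rw [Nat.prime_def_lt]
  refine ⟨hm2, fun q hqm hq => ?_⟩
  by_contra hq1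
  haveI : NeZero q := ⟨fun h => by subst h; exact (NeZero.ne m) (zero_dvd_iff.1 hq)⟩
  obtain ⟨ψ, hψr, hψs⟩ := exists_lift m (DihedralGroup.sr (0 : ZMod q)) (DihedralGroup.r 1)
    (by simp) (by rw [DihedralGroup.r_one_pow, (ZMod.natCast_eq_zero_iff _ _).2 hq, DihedralGroup.r_zero]) (by simp)
  set S := (Subgroup.zpowers (DihedralGroup.sr (0 : ZMod q))).comap ψ with hS
  haveI : Fact (1 < q) := ⟨by have := NeZero.ne q; omega⟩
  have hsr : ∀ d : DihedralGroup q, d ∈ Subgroup.zpowers (DihedralGroup.sr (0 : ZMod q)) → d = 1 ∨ d = .sr 0 := by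
    intro d hd
    obtain ⟨k, rfl⟩ := hd
    rcases Int.even_or_odd k with ⟨l, rfl⟩ | ⟨l, rfl⟩
    · left
      show (DihedralGroup.sr (0 : ZMod q)) ^ (l + l) = 1
      rw [← two_mul, _root_.zpow_mul, zpow_two, DihedralGroup.sr_mul_self, one_zpow]
    · right
      show (DihedralGroup.sr (0 : ZMod q)) ^ (2 * l + 1) = _
      rw [zpow_add, _root_.zpow_mul, zpow_two, DihedralGroup.sr_mul_self, one_zpow, one_mul, zpow_one]
  have hAS : A ≤ S.map φ := by
    intro g hg
    rcases hset A x hA2 hxA hx1 g hg with rfl | rfl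
    · exact one_mem _
    · refine ⟨.sr 0, ?_, hφx⟩
      rw [hS, SetLike.mem_coe, Subgroup.mem_comap]
      rw [hψs]; simp
  rcases hco.le_iff.1 hAS with h | h
  · have h1 : φ (.r 1) ∈ S.map φ := h ▸ Subgroup.mem_top _
    rw [Subgroup.mem_map_iff_mem hinj] at h1
    have h1' : ψ (.r 1) ∈ Subgroup.zpowers (DihedralGroup.sr (0 : ZMod q)) := h1
    rw [hψr, ZMod.val_one_eq_one_mod, Nat.mod_eq_of_lt hm2, pow_one] at h1'
    rcases hsr _ h1' with h2 | h2
    · rw [DihedralGroup.one_def, DihedralGroup.r.injEq] at h2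
      exact one_ne_zero h2
    · simp at h2
  · have h1 : φ (.r (q : ZMod m)) ∈ S.map φ := by
      refine ⟨_, ?_, rfl⟩
      rw [hS, SetLike.mem_coe, Subgroup.mem_comap]
      rw [hψr, ZMod.val_natCast, Nat.mod_eq_of_lt hqm, DihedralGroup.r_one_pow, ZMod.natCast_self, ← DihedralGroup.one_def]
      exact one_mem _
    rw [h] at h1
    rcases hset A x hA2 hxA hx1 _ h1 with h2 | h2
    · rw [← map_one φ] at h2
      have h3 := hinj h2
      rw [DihedralGroup.one_def, DihedralGroup.r.injEq, ZMod.natCast_eq_zero_iff] at h3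
      have := Nat.le_of_dvd (NeZero.pos q) h3
      omega
    · rw [hφr] at h2; exact hnocomm _ h2.symm

end Cfsg.Agent.S3684
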