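import Cfsg.Statements.S0698
import Cfsg.Agent.Lib.Perm.NormalPrimitive
import Cfsg.Agent.Lib.Perm.Agree

set_option autoImplicit false
open Cfsg

namespace Cfsg.Agent.S0698

/-- Jordan's Theorem on normal subgroups of multiply transitive groups: if `G` is `k`-transitive (`k > 1`) of degree greater than `k`, a non-trivial normal subgroup is `(k-1)`-transitive, except possibly for `k = 3` when it may be an elementary abelian 2-group. -/
theorem result {α : Type*} [Fintype α] [DecidableEq α] (G : Subgroup (Equiv.Perm α)) {k : ℕ} (hk : 1 < k) (hdeg : k < Fintype.card α) (hG : MulAction.IsMultiplyPretransitive G α k) (N : Subgroup G) [N.Normal] (hN : N ≠ ⊥) : MulAction.IsMultiplyPretransitive N α (k - 1) ∨ (k = 3 ∧ IsMulCommutative N ∧ ∀ n ∈ N, n ^ 2 = 1) := by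
  classical
  have hkc : (k : ℕ∞) ≤ ENat.card α := by
    rw [ENat.card_eq_coe_fintype_card]; exact_mod_cast hdeg.le
  obtain ⟨j, rfl⟩ : ∃ j, k = j + 1 := ⟨k - 1, by omega⟩
  have hP : MulAction.IsMultiplyPreprimitive G α j := by
    have : MulAction.IsMultiplyPretransitive G α j.succ := hG
    exact MulAction.isMultiplyPreprimitive_of_isMultiplyPretransitive_succ G α hkc
  have hjc : (j : ℕ∞) ≤ ENat.card α := by
    rw [ENat.card_eq_coe_fintype_card]; exact_mod_cast (by omega : j ≤ Fintype.card α)
  have h1 : MulAction.IsPreprimitive G α :=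
    (MulAction.is_one_preprimitive_iff (M := G) (α := α)).1
      (MulAction.isMultiplyPreprimitive_of_le G α hP (by omega) hjc)
  have hNt : MulAction.IsPretransitive N α :=
    Cfsg.Agent.Perm.NormalPrimitive.isPretransitive_of_normal inferInstance N hN
  show MulAction.IsMultiplyPretransitive N α j ∨ _
  rcases Nat.lt_or_ge j 2 with hj | hj
  · left
    obtain rfl : j = 1 := by omega
    exact MulAction.is_one_pretransitive_iff.2 hNt
  by_cases hreg : ∀ x : α, MulAction.stabilizer N x = ⊥
  · rcases Nat.lt_or_ge j 3 with hj3 | hj3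
    · obtain rfl : j = 2 := by omega
      rcases S0695.result (by omega) hP N hNt hreg with h | ⟨hab, hexp, -⟩
      · omega
      · exact Or.inr ⟨rfl, hab, hexp⟩
    · exfalso
      rcases S0696.result (by omega) (MulAction.isMultiplyPreprimitive_of_le G α hP hj3 hjc)
        N hNt hreg with h | h <;> omega
  left
  push Not at hreg
  by_cases htop : G = ⊤
  swap
  · exact Cfsg.Agent.Perm.NormalPrimitive.isMultiplyPretransitive_of_normal j (by omega) G α
      (by omega) hP (fun hc => htop (Subgroup.eq_top_of_card_eq _
        (by rw [hc, Nat.card_perm, Nat.card_eq_fintype_card]))) N inferInstance hN hreg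
  rcases Nat.lt_or_ge j 3 with hj3 | hj3
  · obtain rfl : j = 2 := by omega
    obtain ⟨a, ha⟩ := hreg
    have : FaithfulSMul (MulAction.stabilizer G a) (SubMulAction.ofStabilizer G a) :=
      Cfsg.Agent.Perm.NormalPrimitive.faithful_ofStabilizer a
    have h2 : MulAction.IsMultiplyPreprimitive G α (Nat.succ 1) := hP
    have hS : MulAction.IsPreprimitive (MulAction.stabilizer G a) (SubMulAction.ofStabilizer G a) :=
      (MulAction.is_one_preprimitive_iff (M := MulAction.stabilizer G a)
        (α := SubMulAction.ofStabilizer G a)).1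
        (MulAction.isMultiplyPreprimitive_ofStabilizer G α (n := 1) (a := a))
    refine Cfsg.Agent.Perm.NormalPrimitive.isMultiplyPretransitive_succ N hNt a
      (MulAction.is_one_pretransitive_iff.2
        (Cfsg.Agent.Perm.NormalPrimitive.isPretransitive_of_normal inferInstance _ fun hK => ha ?_))
    refine (Subgroup.eq_bot_iff_forall _).2 fun g hg => ?_
    have : (⟨(g : G), hg⟩ : MulAction.stabilizer G a) ∈
        N.subgroupOf (MulAction.stabilizer G a) := g.2
    rw [hK, Subgroup.mem_bot] at this
    exact Subtype.ext (congrArg Subtype.val this :)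
  · subst htop
    have hn : (N.map (⊤ : Subgroup (Equiv.Perm α)).subtype).Normal := by
      refine ⟨fun x hx g => ?_⟩
      obtain ⟨n, hn, rfl⟩ := hx
      exact ⟨⟨g, trivial⟩ * n * ⟨g, trivial⟩⁻¹,
        Subgroup.Normal.conj_mem inferInstance n hn _, by simp⟩
    have hne : N.map (⊤ : Subgroup (Equiv.Perm α)).subtype ≠ ⊥ := by
      rwa [Ne, Subgroup.map_eq_bot_iff_of_injective _ (Subgroup.subtype_injective _)]
    have := hn
    have hle := Cfsg.Agent.Perm.Agree.alternatingGroup_le_of_normal
      (show 5 ≤ Fintype.card α by omega) _ hne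
    let φ : alternatingGroup α → N := fun g => ⟨⟨(g : Equiv.Perm α), trivial⟩, by
      obtain ⟨n, hn, hng⟩ := hle g.2
      rwa [show (⟨(g : Equiv.Perm α), trivial⟩ : (⊤ : Subgroup (Equiv.Perm α))) = n from
        Subtype.ext hng.symm]⟩
    let f : α →ₑ[φ] α := { toFun := id, map_smul' := fun g x => rfl }
    have := alternatingGroup.isMultiplyPretransitive α
    rw [Nat.card_eq_fintype_card] at this
    have hA : MulAction.IsMultiplyPretransitive (alternatingGroup α) α j :=
      MulAction.isMultiplyPretransitive_of_le' (n := Fintype.card α - 2) (by omega)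
        (by rw [ENat.card_eq_coe_fintype_card]; exact_mod_cast Nat.sub_le _ _)
    have : MulAction.IsPretransitive (alternatingGroup α) (Fin j ↪ α) := hA
    exact MulAction.IsPretransitive.of_embedding (f := f) Function.surjective_id

end Cfsg.Agent.S0698
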