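import Cfsg.Statements.S3612
import Cfsg.Agent.Lib.Perm.HalfNormalizer.Blocks
-- import your own Cfsg.Agent.* helpers here

set_option autoImplicit false
open Cfsg

namespace Cfsg.Agent.S3612

open scoped Pointwise

/-- Let G be an insoluble group acting faithfully and transitively on a finite set of prime size p, and suppose the normalizer of a Sylow p-subgroup of G has order p(p-1)/2. If p > 7, then the stabilizer of a point acts primitively on the remaining p - 1 points. -/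
theorem result {G Ω : Type*} [Group G] [Finite G] [MulAction G Ω] [FaithfulSMul G Ω] [Finite Ω]
    (p : ℕ) (hp : p.Prime) (hΩ : Nat.card Ω = p) (htrans : MulAction.IsPretransitive G Ω)
    (hins : ¬ Group.IsSolvable G) (P : Sylow p G)
    (hN : 2 * Nat.card ↥(Subgroup.normalizer ((P : Subgroup G) : Set G)) = p * (p - 1))
    (hp7 : 7 < p) (α : Ω) :
    MulAction.IsPreprimitive ↥(MulAction.stabilizer G α) ↥(SubMulAction.ofStabilizer G α) := by
  classical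
  haveI := Fact.mk hp
  haveI := Fintype.ofFinite Ω
  obtain ⟨C⟩ := Agent.Perm.HalfNormalizer.exists_coord hp hΩ htrans hins P hN
  haveI hpre : MulAction.IsPretransitive ↥(MulAction.stabilizer G α) ↥(SubMulAction.ofStabilizer G α) := by
    refine ⟨fun x y => ?_⟩
    obtain ⟨g, h1, h2⟩ := C.two α x α y (fun h => x.2 (Set.mem_singleton_iff.2 h.symm))
      (fun h => y.2 (Set.mem_singleton_iff.2 h.symm))
    exact ⟨⟨g, h1⟩, Subtype.ext h2⟩
  constructor
  intro B hB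
  by_contra hcon
  rw [MulAction.IsTrivialBlock, not_or] at hcon
  obtain ⟨hsub, huniv⟩ := hcon
  obtain ⟨b, hb, c, hc, hbc⟩ : ∃ b ∈ B, ∃ c ∈ B, b ≠ c := by
    rw [Set.Subsingleton] at hsub
    push Not at hsub
    obtain ⟨b, hb, c, hc, h⟩ := hsub
    exact ⟨b, hb, c, hc, h⟩
  obtain ⟨d, hd⟩ := (Set.ne_univ_iff_exists_notMem B).1 huniv
  let T : Set Ω := Subtype.val '' B
  have hTα : ∀ x ∈ T, x ≠ α := by
    rintro _ ⟨x, -, rfl⟩ h
    exact x.2 (Set.mem_singleton_iff.2 h)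
  let R : Ω → Ω → Ω → Prop := fun a x y => ∃ g : G, g • α = a ∧ g⁻¹ • x ∈ T ∧ g⁻¹ • y ∈ T
  -- two translates of the block which meet are equal
  have hblock : ∀ (h : G), h • α = α → ∀ x ∈ T, h • x ∈ T → ∀ y ∈ T, h • y ∈ T := by
    rintro h hh _ ⟨x, hx, rfl⟩ hhx _ ⟨y, hy, rfl⟩
    obtain ⟨z, hz, hzx⟩ := hhx
    have he := hB.smul_eq_of_nonempty (g := (⟨h, hh⟩ : MulAction.stabilizer G α))
      ⟨z, ⟨x, hx, Subtype.ext hzx.symm⟩, hz⟩
    have hy' : (⟨h, hh⟩ : MulAction.stabilizer G α) • y ∈ B := by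
      rw [← he]; exact Set.smul_mem_smul_set hy
    exact ⟨_, hy', rfl⟩
  have hrefl : ∀ a x, x ≠ a → R a x x := by
    intro a x hxa
    obtain ⟨g, h1, h2⟩ := C.two α (b : Ω) a x (fun h => b.2 (Set.mem_singleton_iff.2 h.symm)) hxa.symm
    refine ⟨g, h1, ?_, ?_⟩ <;>
      exact ⟨b, hb, by rw [← h2, inv_smul_smul]⟩
  refine C.no_blocks hp7 R ?_ hrefl (fun a x y ⟨g, h1, h2, h3⟩ => ⟨g, h1, h3, h2⟩) ?_ ?_ ?_ ?_
  · rintro g a x y ⟨k, h1, h2, h3⟩
    refine ⟨g * k, by rw [mul_smul, h1], ?_, ?_⟩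
    · rwa [mul_inv_rev, mul_smul, inv_smul_smul]
    · rwa [mul_inv_rev, mul_smul, inv_smul_smul]
  · rintro a x y z ⟨g, g1, gx, gy⟩ ⟨k, k1, ky, kz⟩
    refine ⟨g, g1, gx, ?_⟩
    have hh : (g⁻¹ * k) • α = α := by rw [mul_smul, k1, ← g1, inv_smul_smul]
    have := hblock (g⁻¹ * k) hh (k⁻¹ • y) ky (by rwa [mul_smul, smul_inv_smul]) (k⁻¹ • z) kz
    rwa [mul_smul, smul_inv_smul] at this
  · rintro a x y ⟨g, g1, gx, gy⟩
    exact ⟨fun h => hTα _ gx (by rw [h, ← g1, inv_smul_smul]),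
      fun h => hTα _ gy (by rw [h, ← g1, inv_smul_smul])⟩
  · exact ⟨α, b, c, ⟨1, one_smul _ _, ⟨b, hb, by simp⟩, ⟨c, hc, by simp⟩⟩,
      fun h => hbc (Subtype.ext h)⟩
  · refine ⟨α, b, d, fun h => b.2 (Set.mem_singleton_iff.2 h), fun h => d.2 (Set.mem_singleton_iff.2 h), ?_⟩
    rintro ⟨g, g1, gb, gd⟩
    have := hblock g g1 (g⁻¹ • (b : Ω)) gb (by rw [smul_inv_smul]; exact ⟨b, hb, rfl⟩) (g⁻¹ • (d : Ω)) gd
    rw [smul_inv_smul] at this
    obtain ⟨z, hz, hzd⟩ := this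
    exact hd (Subtype.ext hzd ▸ hz)

end Cfsg.Agent.S3612
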