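import Cfsg.Statements.S4956
import Mathlib

set_option autoImplicit false
open Cfsg

namespace Cfsg.Agent.S4956

/-- If `V` is an abelian normal subgroup, `x = w * g` with `w ∈ V`, `g ^ n = 1` and `n` invertible
modulo the exponent of `V`, then `x` is conjugate under `V` to some `y * g`, `y ∈ V` centralizing
`g`. -/
theorem exists_conj {X : Type*} [Group X] (V : Subgroup X) [V.Normal]
    (hab : ∀ a ∈ V, ∀ b ∈ V, a * b = b * a) (w g : X) (hw : w ∈ V) (n m : ℕ) (hg : g ^ n = 1)
    (hm : ∀ v ∈ V, v ^ (n * m) = v) :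
    ∃ u ∈ V, ∃ y ∈ V, g * y = y * g ∧ u⁻¹ * (w * g) * u = y * g := by
  have hn : V.Normal := inferInstance
  let _ : CommGroup ↥V := { (inferInstance : Group ↥V) with
    mul_comm := fun a b => Subtype.ext (hab _ a.2 _ b.2) }
  set x := w * g with hx
  have hwg : x * g⁻¹ = w := by rw [hx]; group
  have hf : ∀ i : ℕ, x ^ i * (g ^ i)⁻¹ ∈ V := by
    intro i
    induction i with
    | zero => simp
    | succ i ih =>
      have : x ^ (i + 1) * (g ^ (i + 1))⁻¹ = (x ^ i * w * (x ^ i)⁻¹) * (x ^ i * (g ^ i)⁻¹) := by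
        rw [pow_succ, pow_succ, ← hwg]; group
      rw [this]
      exact mul_mem (hn.conj_mem w hw _) ih
  let f : ℕ → ↥V := fun i => ⟨x ^ i * (g ^ i)⁻¹, hf i⟩
  let c : ↥V →* ↥V :=
    { toFun := fun v => ⟨x * v * x⁻¹, hn.conj_mem _ v.2 x⟩
      map_one' := by ext; simp
      map_mul' := fun a b => by ext; simp only [Subgroup.coe_mul]; group }
  have hstep : ∀ i, c (f i) = f (i + 1) * ⟨w, hw⟩⁻¹ := by
    intro i
    apply Subtype.ext
    show x * (x ^ i * (g ^ i)⁻¹) * x⁻¹ = x ^ (i + 1) * (g ^ (i + 1))⁻¹ * w⁻¹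
    rw [pow_succ', pow_succ, ← hwg]
    group
  set U : ↥V := ∏ i ∈ Finset.range n, f i with hU
  have hfn : (f n : X) = x ^ n := by show x ^ n * (g ^ n)⁻¹ = x ^ n; rw [hg]; simp
  have hf0 : f 0 = 1 := by apply Subtype.ext; show x ^ 0 * (g ^ 0)⁻¹ = 1; simp
  have hcU : c U = U * f n * (⟨w, hw⟩⁻¹) ^ n := by
    rw [hU, map_prod, Finset.prod_congr rfl (fun i _ => hstep i), Finset.prod_mul_distrib,
      Finset.prod_const, Finset.card_range]
    have h1 := Finset.prod_range_succ' f n
    rw [hf0, mul_one, Finset.prod_range_succ] at h1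
    rw [← h1]
  have hvm : ∀ v : ↥V, v ^ (n * m) = v := fun v => Subtype.ext (by
    rw [Subgroup.coe_pow]; exact hm _ v.2)
  have hcu : c (U ^ m) = U ^ m * (f n) ^ m * ⟨w, hw⟩⁻¹ := by
    rw [map_pow, hcU, mul_pow, mul_pow, ← pow_mul, hvm]
  set y : X := (((f n) ^ m : ↥V) : X) with hy
  have hyx : x * y = y * x := by
    rw [hy, Subgroup.coe_pow, hfn]
    exact (((Commute.refl x).pow_right n).pow_right m).eq
  have hyV : y ∈ V := ((f n) ^ m).2
  refine ⟨(U ^ m : ↥V), (U ^ m).2, y, hyV, ?_, ?_⟩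
  · have h1 : w * (g * y) = w * (y * g) := by
      rw [← mul_assoc, ← hx, hyx, hx, ← mul_assoc, hab y hyV w hw, mul_assoc]
    exact mul_left_cancel h1
  · have h2 : x * ((U ^ m : ↥V) : X) * x⁻¹ = ((U ^ m : ↥V) : X) * y * w⁻¹ := by
      have := congrArg Subtype.val hcu
      simpa [c, hy] using this
    calc ((U ^ m : ↥V) : X)⁻¹ * x * ((U ^ m : ↥V) : X)
        = ((U ^ m : ↥V) : X)⁻¹ * (x * ((U ^ m : ↥V) : X) * x⁻¹) * x := by group
      _ = y * w⁻¹ * x := by rw [h2]; group
      _ = y * g := by rw [hx]; group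

/-- Let X be a finite group, V an abelian normal subgroup of X (any two elements of V commute) and G a complement to V in X whose order is coprime to that of V. Let S be a set of representatives of the orbits of G on V under conjugation: S lies in V and every element of V is conjugate under G to exactly one member of S. Then the number of conjugacy classes of X equals the sum, over s in S, of the number of conjugacy classes of the centralizer of s in G. -/
theorem result {X : Type*} [Group X] [Finite X] (V : Subgroup X) [V.Normal] (hab : ∀ a ∈ V, ∀ b ∈ V, a * b = b * a) (G : Subgroup X) (hGV : Subgroup.IsComplement' V G) (hcop : (Nat.card V).Coprime (Nat.card G)) (S : Finset X) (hSV : ∀ s ∈ S, s ∈ V) (hrep : ∀ v ∈ V, ∃! s, s ∈ S ∧ ∃ g ∈ G, g * v * g⁻¹ = s) : Nat.card (ConjClasses X) = ∑ s ∈ S, Nat.card (ConjClasses ↥(G ⊓ Subgroup.centralizer ({s} : Set X))) := by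
  classical
  have hn : V.Normal := inferInstance
  have hint : ∀ {a : X}, a ∈ V → a ∈ G → a = 1 := fun ha hb => by
    have := hGV.disjoint.le_bot (Subgroup.mem_inf.2 ⟨ha, hb⟩)
    simpa using this
  have hdec : ∀ x : X, ∃ w ∈ V, ∃ g ∈ G, x = w * g := by
    intro x
    obtain ⟨⟨w, g⟩, h⟩ := hGV.2 x
    exact ⟨w, w.2, g, g.2, h.symm⟩
  let C : {s // s ∈ S} → Subgroup X := fun s => G ⊓ Subgroup.centralizer ({(s : X)} : Set X)
  have hC : ∀ (s : {s // s ∈ S}) (h : ↥(C s)), (h : X) ∈ G ∧ (h : X) * s = s * h := by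
    intro s h
    exact ⟨h.2.1, (Subgroup.mem_centralizer_iff.1 h.2.2 _ rfl).symm⟩
  let F : (Σ s : {s // s ∈ S}, ConjClasses ↥(C s)) → ConjClasses X := fun p =>
    Quotient.liftOn p.2 (fun h => ConjClasses.mk ((p.1 : X) * h)) (by
      intro a b hab'
      obtain ⟨k, hk⟩ := isConj_iff.1 (show IsConj a b from hab')
      rw [ConjClasses.mk_eq_mk_iff_isConj, isConj_iff]
      refine ⟨k, ?_⟩
      have h1 := (hC p.1 k).2
      rw [← hk]
      simp only [Subgroup.coe_mul, Subgroup.coe_inv]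
      calc (k : X) * ((p.1 : X) * a) * (k : X)⁻¹ = ((k : X) * p.1) * a * (k : X)⁻¹ := by group
        _ = (p.1 : X) * ((k : X) * a * (k : X)⁻¹) := by rw [h1]; group)
  have hbij : Function.Bijective F := by
    constructor
    · rintro ⟨s, c⟩ ⟨s', c'⟩ hF
      obtain ⟨h, rfl⟩ := ConjClasses.exists_rep c
      obtain ⟨h', rfl⟩ := ConjClasses.exists_rep c'
      have hF' : ConjClasses.mk ((s : X) * h) = ConjClasses.mk ((s' : X) * h') := hF
      obtain ⟨x, hx⟩ := isConj_iff.1 (ConjClasses.mk_eq_mk_iff_isConj.1 hF')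
      obtain ⟨u, hu, k, hk, rfl⟩ := hdec x
      obtain ⟨hhG, hhs⟩ := hC s h
      obtain ⟨hh'G, hh's⟩ := hC s' h'
      set t : X := k * s * k⁻¹ with ht
      set j : X := k * h * k⁻¹ with hj
      have htV : t ∈ V := hn.conj_mem _ (hSV _ s.2) k
      have hs'V : (s' : X) ∈ V := hSV _ s'.2
      have hjG : j ∈ G := mul_mem (mul_mem hk hhG) (inv_mem hk)
      have htj : j * t = t * j := by
        calc j * t = k * ((h : X) * s) * k⁻¹ := by rw [ht, hj]; group
          _ = k * ((s : X) * h) * k⁻¹ := by rw [hhs]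
          _ = t * j := by rw [ht, hj]; group
      have hx1 : u * (t * j) * u⁻¹ = (s' : X) * h' := by rw [← hx, ht, hj]; group
      set d : X := u * (j * u⁻¹ * j⁻¹) with hd
      have hdV : d ∈ V := mul_mem hu (hn.conj_mem _ (inv_mem hu) j)
      have hx2 : t * d * j = (s' : X) * h' := by
        rw [← hx1, hd]
        calc t * (u * (j * u⁻¹ * j⁻¹)) * j = (t * u) * j * u⁻¹ := by group
          _ = (u * t) * j * u⁻¹ := by rw [hab t htV u hu]
          _ = u * (t * j) * u⁻¹ := by group
      have hjh : j = (h' : X) := by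
        have h1 : (s' : X)⁻¹ * (t * d) = (h' : X) * j⁻¹ := by
          calc (s' : X)⁻¹ * (t * d) = (s' : X)⁻¹ * (t * d * j) * j⁻¹ := by group
            _ = _ := by rw [hx2]; group
        have h2 := hint (mul_mem (inv_mem hs'V) (mul_mem htV hdV))
          (h1 ▸ mul_mem hh'G (inv_mem hjG))
        rw [h1] at h2
        exact (mul_inv_eq_one.1 h2).symm
      have hts : t * d = (s' : X) := by
        rw [hjh] at hx2; exact mul_right_cancel hx2
      have hjd : j * d = d * j := by
        have h1 : j * (t * d) = (t * d) * j := by rw [hts, hjh]; exact hh's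
        have h2 : t * (j * d) = t * (d * j) := by
          rw [← mul_assoc, ← htj, mul_assoc, h1, mul_assoc]
        exact mul_left_cancel h2
      have hd1 : d = 1 := by
        have hcu : j * u * j⁻¹ = d⁻¹ * u := by rw [hd]; group
        have hit : ∀ i : ℕ, j ^ i * u * (j ^ i)⁻¹ = (d⁻¹) ^ i * u := by
          intro i
          induction i with
          | zero => simp
          | succ i ih =>
            calc j ^ (i + 1) * u * (j ^ (i + 1))⁻¹ = j * (j ^ i * u * (j ^ i)⁻¹) * j⁻¹ := by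
                  rw [pow_succ']; group
              _ = j * (d⁻¹) ^ i * j⁻¹ * (j * u * j⁻¹) := by rw [ih]; group
              _ = (d⁻¹) ^ i * (j * u * j⁻¹) := by
                  rw [((show Commute j d from hjd).inv_right.pow_right i).eq]; group
              _ = _ := by rw [hcu, pow_succ, mul_assoc]
        have h1 := hit (Nat.card ↥G)
        have hjn : j ^ Nat.card ↥G = 1 := by
          exact congrArg Subtype.val (pow_card_eq_one' (x := (⟨j, hjG⟩ : ↥G)))
        rw [hjn] at h1
        simp at h1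
        have h2 : d ^ Nat.card ↥V = 1 := by
          exact congrArg Subtype.val (pow_card_eq_one' (x := (⟨d, hdV⟩ : ↥V)))
        have h3 : d ^ Nat.gcd (Nat.card ↥V) (Nat.card ↥G) = 1 :=
          pow_gcd_eq_one.2 ⟨h2, h1⟩
        rwa [hcop, pow_one] at h3
      rw [hd1, mul_one] at hts
      obtain ⟨r, -, hr⟩ := hrep (s : X) (hSV _ s.2)
      have e1 : (s : X) = r := hr _ ⟨s.2, 1, one_mem _, by simp⟩
      have e2 : (s' : X) = r := hr _ ⟨s'.2, k, hk, hts⟩
      obtain rfl : s = s' := Subtype.ext (e1.trans e2.symm)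
      have hks : k ∈ Subgroup.centralizer ({(s : X)} : Set X) := by
        rw [Subgroup.mem_centralizer_singleton_iff]
        rw [ht] at hts
        exact mul_inv_eq_iff_eq_mul.1 hts
      congr 1
      rw [ConjClasses.mk_eq_mk_iff_isConj, isConj_iff]
      exact ⟨⟨k, hk, hks⟩, Subtype.ext (by rw [← hjh, hj]; rfl)⟩
    · intro c
      obtain ⟨x, rfl⟩ := ConjClasses.exists_rep c
      obtain ⟨w, hw, g, hg, rfl⟩ := hdec x
      have hgn : g ^ Nat.card ↥G = 1 := by
        exact congrArg Subtype.val (pow_card_eq_one' (x := (⟨g, hg⟩ : ↥G)))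
      obtain ⟨m, hm⟩ : ∃ m : ℕ, ∀ v ∈ V, v ^ (Nat.card ↥G * m) = v := by
        rcases Nat.eq_zero_or_pos (Nat.card ↥V - 1) with h1 | h1
        · refine ⟨0, fun v hv => ?_⟩
          have h0 : Nat.card ↥V = 1 := by have := Nat.card_pos (α := ↥V); omega
          rw [Subgroup.card_eq_one] at h0
          rw [h0, Subgroup.mem_bot] at hv
          simp [hv]
        · obtain ⟨m, -, hm⟩ := Nat.exists_mul_mod_eq_one_of_coprime hcop.symm (by omega)
          refine ⟨m, fun v hv => ?_⟩
          have hv1 : v ^ Nat.card ↥V = 1 := by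
            exact congrArg Subtype.val (pow_card_eq_one' (x := (⟨v, hv⟩ : ↥V)))
          rw [pow_eq_pow_mod _ hv1, hm, pow_one]
      obtain ⟨u, hu, y, hy, hgy, huy⟩ := exists_conj V hab w g hw _ m hgn hm
      obtain ⟨s, ⟨hs, a, ha, has⟩, -⟩ := hrep y hy
      have hmem : a * g * a⁻¹ ∈ C ⟨s, hs⟩ := by
        refine Subgroup.mem_inf.2 ⟨mul_mem (mul_mem ha hg) (inv_mem ha), ?_⟩
        rw [Subgroup.mem_centralizer_singleton_iff]
        show a * g * a⁻¹ * s = s * (a * g * a⁻¹)
        calc a * g * a⁻¹ * s = a * (g * y) * a⁻¹ := by rw [← has]; group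
          _ = a * (y * g) * a⁻¹ := by rw [hgy]
          _ = s * (a * g * a⁻¹) := by rw [← has]; group
      refine ⟨⟨⟨s, hs⟩, ConjClasses.mk ⟨_, hmem⟩⟩, ?_⟩
      show ConjClasses.mk ((s : X) * (a * g * a⁻¹)) = ConjClasses.mk (w * g)
      rw [ConjClasses.mk_eq_mk_iff_isConj, isConj_iff]
      refine ⟨u * a⁻¹, ?_⟩
      calc u * a⁻¹ * (s * (a * g * a⁻¹)) * (u * a⁻¹)⁻¹
          = u * (y * g) * u⁻¹ := by rw [← has]; group
        _ = w * g := by rw [← huy]; group
  rw [← Finset.sum_coe_sort, ← Nat.card_congr (Equiv.ofBijective F hbij), Nat.card_sigma]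

end Cfsg.Agent.S4956
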