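import Cfsg.Statements.S0298
import Cfsg.Agent.Lib.Classical.OrthIso
import Cfsg.Agent.Lib.Classical.SL2Rep

set_option autoImplicit false
open Cfsg

namespace Cfsg.Agent.S0298

open Matrix Cfsg.Agent.Classical Cfsg.Agent.Classical.OrthForms Cfsg.Agent.Forms.PlusStd

variable {F : Type*} [Field F]

local notation "Idx" => (Unit ⊕ (Fin 1 ⊕ Fin 1))
local notation "M2" => Matrix (Fin 2) (Fin 2) F

/-- Trace zero matrices. -/
def emb : (Idx → F) →ₗ[F] M2 where
  toFun v := !![v (.inl ()), v (.inr (.inl 0)); v (.inr (.inr 0)), -v (.inl ())]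
  map_add' u v := by ext i j; fin_cases i <;> fin_cases j <;> simp [add_comm]
  map_smul' c v := by ext i j; fin_cases i <;> fin_cases j <;> simp

/-- A left inverse of `emb`. -/
def proj : M2 →ₗ[F] (Idx → F) where
  toFun Y := Sum.elim (fun _ => Y 0 0) (Sum.elim (fun _ => Y 0 1) fun _ => Y 1 0)
  map_add' u v := by funext i; rcases i with i | i | i <;> simp
  map_smul' c v := by funext i; rcases i with i | i | i <;> simp

theorem proj_emb (v : Idx → F) : proj (emb v) = v := by
  funext i
  rcases i with i | i | i <;> simp [proj, emb] <;> (try rw [Subsingleton.elim i 0])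

/-- Conjugation of a matrix. -/
def conjM (g : SpecialLinearGroup (Fin 2) F) : Module.End F M2 where
  toFun Y := (g : M2) * Y * (g : M2).adjugate
  map_add' u v := by rw [mul_add, add_mul]
  map_smul' c v := by simp

theorem emb_proj_conj (g : SpecialLinearGroup (Fin 2) F) (v : Idx → F) :
    emb (proj (conjM g (emb v))) = conjM g (emb v) := by
  ext i j
  fin_cases i <;> fin_cases j <;>
    simp [emb, proj, conjM, Matrix.mul_apply, Fin.sum_univ_two, adjugate_fin_two]
  ring

/-- The adjoint representation. -/
def rep3 : SpecialLinearGroup (Fin 2) F →* Module.End F (Idx → F) where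
  toFun g := proj.comp ((conjM g).comp emb)
  map_one' := LinearMap.ext fun v => by
    show proj ((1 : M2) * emb v * (1 : M2).adjugate) = v
    rw [adjugate_one, Matrix.one_mul, Matrix.mul_one, proj_emb]
  map_mul' g h := LinearMap.ext fun v => by
    show proj (conjM (g * h) (emb v)) = proj (conjM g (emb (proj (conjM h (emb v)))))
    rw [emb_proj_conj]
    show proj (((g * h : SpecialLinearGroup (Fin 2) F) : M2) * emb v *
      ((g * h : SpecialLinearGroup (Fin 2) F) : M2).adjugate) = _
    rw [Matrix.SpecialLinearGroup.coe_mul, adjugate_mul_distrib]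
    simp [conjM, Matrix.mul_assoc]

theorem preserves (g : SpecialLinearGroup (Fin 2) F) (v : Idx → F) :
    oddQ F 1 (rep3 g v) = oddQ F 1 v := by
  have hdet : ∀ w : Idx → F, oddQ F 1 w = -(emb w).det := fun w => by
    simp [oddQ_apply, plusQ_apply, Cfsg.quadFormPlus, emb, det_fin_two]
    ring
  rw [hdet, hdet]
  show -(emb (proj (conjM g (emb v)))).det = _
  rw [emb_proj_conj]
  show -((g : M2) * emb v * (g : M2).adjugate).det = _
  rw [det_mul, det_mul, det_adjugate, g.2]
  simp

/-- PΩ_3(q) is isomorphic to PSL_2(q) for q odd. -/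
theorem result {F : Type*} [Field F] [Fintype F] (hodd : Odd (Fintype.card F)) : Nonempty (Cfsg.POmega F (Cfsg.quadFormOdd 1 F) ≃* Matrix.ProjectiveSpecialLinearGroup (Fin 2) F) := by
  have h2 := two_ne_zero_of_odd hodd
  rw [← oddQ_eq]
  set φ := OrthIso.repHom (oddQ F 1) rep3 preserves with hφ
  have hker : φ.ker = Subgroup.center _ := by
    ext g
    rw [MonoidHom.mem_ker, hφ, OrthIso.repHom_eq_one, SL2Rep.mem_center_two]
    constructor
    · intro h
      have key : ∀ v, conjM g (emb v) = emb v := fun v => by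
        rw [← emb_proj_conj]; exact congrArg emb (h v)
      have e : ∀ v, (g : Matrix (Fin 2) (Fin 2) F) * emb v = emb v * (g : Matrix _ _ F) := fun v => by
        conv_rhs => rw [← key v]
        show _ = (g : Matrix (Fin 2) (Fin 2) F) * emb v * _ * _
        rw [Matrix.mul_assoc _ _ (g : Matrix (Fin 2) (Fin 2) F), adjugate_mul, g.2, one_smul,
          Matrix.mul_one]
      have e1 := e (Pi.single (Sum.inr (Sum.inl 0)) 1)
      have e2 := e (Pi.single (Sum.inr (Sum.inr 0)) 1)
      have a := congrFun (congrFun e1 0) 0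
      have b := congrFun (congrFun e1 0) 1
      have c := congrFun (congrFun e2 0) 0
      simp [emb, Matrix.mul_apply, Fin.sum_univ_two] at a b c
      exact ⟨c, a.symm, b⟩
    · rintro ⟨h01, h10, h⟩ v
      have hd := g.2
      rw [det_fin_two, h01, h10, ← h] at hd
      show proj (conjM g (emb v)) = v
      conv_rhs => rw [← proj_emb v]
      congr 1
      ext i j
      fin_cases i <;> fin_cases j <;>
        simp [conjM, emb, Matrix.mul_apply, Fin.sum_univ_two, adjugate_fin_two, h01, h10, ← h] <;>
        first | linear_combination v (Sum.inl ()) * hd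
              | linear_combination (-v (Sum.inl ())) * hd
              | linear_combination v (Sum.inr (Sum.inl 0)) * hd
              | linear_combination v (Sum.inr (Sum.inr 0)) * hd
  have hc : Nat.card (Subgroup.center (SpecialLinearGroup (Fin 2) F)) = 2 := by
    rw [Linear.natCard_center_SL, Fintype.card_fin]
    obtain ⟨k, hk⟩ := hodd
    rw [hk, Nat.add_sub_cancel, Nat.gcd_mul_right_right]
  refine OrthIso.nonempty_equiv_of_gen _ φ (Linear.closure_transvectionSet)
    SL2Rep.transvectionSet_pow (SL2Rep.odd_ringChar hodd) ?_ hker.le ?_ ?_ (by rw [hker, hc])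
  · rw [hc]; exact (SL2Rep.odd_ringChar hodd).coprime_two_right
  · rw [GL2.natCard_SL_two, natCard_O_odd (rfl : Fintype.card F = _) h2, Finset.prod_range_succ,
      Finset.prod_range_zero]
    have hq : 1 < Fintype.card F := Fintype.one_lt_card
    obtain ⟨r, hr⟩ : ∃ r, Fintype.card F = r + 1 := ⟨Fintype.card F - 1, by omega⟩
    rw [hr, show (r + 1) ^ (2 * (0 + 1)) - 1 = r * (r + 2) by
      rw [show (r + 1) ^ (2 * (0 + 1)) = r * (r + 2) + 1 by ring, Nat.add_sub_cancel]]
    simp only [Nat.add_sub_cancel]
    ring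
  · rw [OrthIso.index_omega _ (oddQ_nondeg h2 1) (by simp) (Or.inr (by simp)), hker, hc,
      OrthIso.natCard_sq_one_odd h2]

end Cfsg.Agent.S0298
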