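import Cfsg.Statements.S1822
import Cfsg.Agent.Lib.QTXi.Main

set_option autoImplicit false
open Cfsg

namespace Cfsg.Agent.S1822

open Subgroup

universe v

/-- A maximal 2-local over `⟨X, T⟩` normalises `X`. -/
theorem normal_in {G : Type v} [Group G] [Finite G] (hQ : Cfsg.IsQTKE G) (T : Sylow 2 G) {X : Subgroup G}
    (hX : X ∈ Cfsg.XiStar (T : Subgroup G)) {p : ℕ} {P R : Subgroup G} (hPR : P ⊔ R = X)
    (hRT : R ≤ (T : Subgroup G)) (hS : QTXi.Shape p P ((T : Subgroup G) ⊓ normalizer (P : Set G)))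
    {M : Subgroup G} (hM : Cfsg.IsTwoLocal M) (hle : X ⊔ (T : Subgroup G) ≤ M) :
    M ≤ normalizer (X : Set G) := by
  have hXM : X ≤ M := le_sup_left.trans hle
  have hTM : (T : Subgroup G) ≤ M := le_sup_right.trans hle
  have hPM : P ≤ M := (hPR ▸ le_sup_left : P ≤ X).trans hXM
  have hRM : R ≤ M := hRT.trans hTM
  haveI : Fact (Nat.Prime 2) := ⟨Nat.prime_two⟩
  let TM : Sylow 2 M := T.subtype hTM
  have hTMc : (TM : Subgroup M) = (T : Subgroup G).subgroupOf M := rfl
  have hshape : QTXi.Shape p (P.subgroupOf M)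
      ((TM : Subgroup M) ⊓ normalizer (P.subgroupOf M : Set M)) := by
    refine QTXi.Shape.of_map M.subtype M.subtype_injective ?_
    rw [map_subgroupOf_eq_of_le hPM]
    refine hS.transfer ?_ fun t ht => ⟨t, ?_, fun _ _ => rfl⟩
    · refine le_trans (map_mono inf_le_right) ((le_normalizer_map M.subtype).trans ?_)
      rw [map_subgroupOf_eq_of_le hPM]
    · exact ⟨⟨t, hTM ht.1⟩, ⟨ht.1, mem_normalizer_iff.2 fun a => mem_normalizer_iff.1 ht.2 (a : G)⟩, rfl⟩
  have hsup : P.subgroupOf M ⊔ R.subgroupOf M = X.subgroupOf M := by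
    refine map_injective M.subtype_injective ?_
    rw [Subgroup.map_sup, map_subgroupOf_eq_of_le hPM, map_subgroupOf_eq_of_le hRM,
      map_subgroupOf_eq_of_le hXM, hPR]
  have hrank : QTXi.RankTwo M := fun r hr hr2 => hQ.1 r hr hr2 M hM
  have hn : (X.subgroupOf M).Normal := by
    refine QTXi.normal_of_shape hrank TM hshape hsup (fun a ha => hRT ha) ?_ ?_ ?_
    · intro a ha
      exact mem_normalizer_iff.2 fun b => mem_normalizer_iff.1 (hX.1.2.1 ha) (b : G)
    · intro H hH a ha
      have hgX : X ≤ H.map M.subtype := by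
        rw [← hX.1.1]
        refine (closure_le _).2 fun x hx => ⟨⟨x, hXM hx.1⟩, hH _ hx.1 ?_, rfl⟩
        rw [← Subgroup.orderOf_coe]; exact hx.2
      exact (mem_map_iff_mem M.subtype_injective).1 (hgX ha)
    · intro L hLs hLne hLp hLmin hLq hXL
      set L' := L.map M.subtype
      set J := L' ⊔ (T : Subgroup G)
      have hJM : J ≤ M := sup_le (map_subtype_le L) hTM
      refine hX.2 L' ⟨⟨?_, ?_, ?_, ?_⟩, ⟨T.subtype (le_sup_right : (T : Subgroup G) ≤ J), rfl⟩, ?_⟩ ?_ ?_
      · intro e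
        rw [subgroupOf_eq_bot, disjoint_iff, inf_eq_left.2 le_sup_left,
          map_eq_bot_iff_of_injective _ M.subtype_injective] at e
        exact hLne e
      · refine map_injective J.subtype_injective ?_
        rw [map_commutator, map_subgroupOf_eq_of_le le_sup_left, ← map_commutator, hLp]
      · rw [show L'.subgroupOf J = L.comap (inclusion hJM) from ?_]
        · exact hLs.comap _
        ext a
        exact mem_map_iff_mem (f := M.subtype) (x := inclusion hJM a) M.subtype_injective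
      · rintro K hlt ⟨hne, hp', hs⟩
        let j : L →* J :=
          { toFun := fun l => ⟨((l : M) : G), mem_sup_left ⟨l, l.2, rfl⟩⟩
            map_one' := rfl
            map_mul' := fun _ _ => rfl }
        set K₀ := (K.comap j).map L.subtype
        have e : K₀.map M.subtype = K.map J.subtype := by
          apply le_antisymm
          · rintro _ ⟨_, ⟨l, hl, rfl⟩, rfl⟩
            exact ⟨j l, hl, rfl⟩
          · rintro _ ⟨k, hk, rfl⟩
            obtain ⟨l, hl, hlk⟩ : (k : G) ∈ L' := hlt.le hk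
            refine ⟨l, ⟨⟨l, hl⟩, ?_, rfl⟩, hlk⟩
            have : j ⟨l, hl⟩ = k := Subtype.ext hlk
            show j ⟨l, hl⟩ ∈ K
            rwa [this]
        refine hLmin K₀ (lt_of_le_of_ne (map_subtype_le _) fun e0 => hlt.ne ?_) ⟨fun e0 => hne ?_, ?_, ?_⟩
        · refine map_injective J.subtype_injective ?_
          rw [← e, e0, map_subgroupOf_eq_of_le le_sup_left]
        · refine map_injective J.subtype_injective ?_
          rw [← e, e0, Subgroup.map_bot, Subgroup.map_bot]
        · refine map_injective M.subtype_injective ?_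
          rw [map_commutator, e, ← map_commutator, hp']
        · exact (hs.comap j).trans' hLs
      · obtain ⟨D, hD, hD1, hMD⟩ := hM
        intro e
        refine hD1 ?_
        have hDT : D ≤ (T : Subgroup G) := by
          have hTD : (T : Subgroup G) ≤ normalizer (D : Set G) := hMD ▸ hTM
          exact le_sup_left.trans (T.is_maximal'
            (IsPGroup.to_sup_of_normal_left' hD T.isPGroup' hTD) le_sup_right).le
        have hDJ : D ≤ J := hDT.trans le_sup_right
        haveI : (D.subgroupOf J).Normal := normal_subgroupOf_of_le_normalizer (hMD ▸ hJM)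
        have h1 := Cores.le_pCore (N := D.subgroupOf J)
          (hD.comap_of_injective J.subtype J.subtype_injective)
        rw [e, le_bot_iff, subgroupOf_eq_bot, disjoint_iff, inf_eq_left.2 hDJ] at h1
        exact h1
      · let eL : L ≃* L' := L.equivMapOfInjective M.subtype M.subtype_injective
        exact Components.Basic.quasisimple_of_mulEquiv
          (QuotientGroup.congr _ _ eL (Cores.map_pCore_eq eL 2)) hLq
      · refine sup_le (fun x hx => ?_) le_sup_right
        have h1 : (x : G) ∈ (L ⊔ (TM : Subgroup M)).map M.subtype :=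
          ⟨⟨x, hXM hx⟩, hXL (mem_subgroupOf.2 hx), rfl⟩
        rwa [Subgroup.map_sup, hTMc, map_subgroupOf_eq_of_le hTM] at h1
  refine Subgroup.le_normalizer_iff.2 fun m hm x hx => ?_
  exact hn.conj_mem (⟨x, hXM hx⟩ : M) hx ⟨m, hm⟩

/-- Solvable uniqueness groups in a simple QTKE-group. Let G be a non-abelian finite simple QTKE-group, T a Sylow 2-subgroup of G, and X a member of Ξ*(G, T): X = O²(X) is T-invariant with O₂(XT) ≠ 1, X/O₂(X) is elementary abelian of order p² or extraspecial of order p³ for an odd prime p, T is irreducible on the Frattini quotient of X/O₂(X), and XT lies in no ⟨L, T⟩ with L ∈ ℒ(G, T) and L/O₂(L) quasisimple. Then N_G(X) is the unique maximal 2-local subgroup of G containing XT, so that XT is a uniqueness subgroup. -/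
theorem result {G : Type*} [Group G] [Finite G] [IsSimpleGroup G]
    (hG : ¬ IsMulCommutative G) (hQ : Cfsg.IsQTKE G) (T : Sylow 2 G) (X : Subgroup G)
    (hX : X ∈ Cfsg.XiStar (T : Subgroup G)) :
    Cfsg.maxTwoLocalsContaining (X ⊔ (T : Subgroup G)) = {Subgroup.normalizer (X : Set G)} := by
  haveI : Fact (Nat.Prime 2) := ⟨Nat.prime_two⟩
  obtain ⟨p, P, R, hPX, hRT, hPR, hmax, hR2, hRc, hS⟩ := QTXi.Setup.exists_pair T hX.1
  have hkey : ∀ M : Subgroup G, Cfsg.IsMaximalTwoLocal M → X ⊔ (T : Subgroup G) ≤ M →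
      M = normalizer (X : Set G) := by
    intro M hM hle
    have hMX := normal_in hQ T hX hPR hRT hS hM.1 hle
    have hXM : X ≤ M := le_sup_left.trans hle
    have hXR : normalizer (X : Set G) ≤ normalizer (R : Set G) := by
      haveI := hRc
      have := Coprime.OmegaDetect.normalizer_le_normalizer_char X (R.subgroupOf X)
      rwa [map_subgroupOf_eq_of_le (hPR ▸ le_sup_right : R ≤ X)] at this
    have hne : R ≠ ⊥ := by
      intro e
      set O := (Cfsg.pCore 2 M).map M.subtype with hO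
      have hOp : IsPGroup 2 O := (Cores.pCore_isPGroup 2).map _
      have hXO : X ≤ normalizer (O : Set G) := Subgroup.le_normalizer_iff.2 (by
        rintro x hx _ ⟨o, ho, rfl⟩
        exact ⟨_, (inferInstance : (Cfsg.pCore 2 M).Normal).conj_mem o ho ⟨x, hXM hx⟩, rfl⟩)
      have hint : X ⊓ O ≤ R := hmax _ inf_le_left (Subgroup.le_normalizer_iff.2 fun a ha b hb =>
        ⟨mul_mem (mul_mem ha hb.1) (Subgroup.inv_mem _ ha),
          Subgroup.le_normalizer_iff.1 hXO a ha b hb.2⟩) (hOp.to_le inf_le_right)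
      have hPO : P ≤ O := by
        intro x hx
        refine ⟨⟨x, hXM (hPX hx)⟩, hQ.2.2 M hM.1 ⟨T, le_sup_right.trans hle⟩ ?_, rfl⟩
        refine mem_centralizer_iff.2 fun o ho => Subtype.ext ?_
        have h1 : x * (o : G) * x⁻¹ * (o : G)⁻¹ ∈ R := hint ⟨by
          rw [show x * (o : G) * x⁻¹ * (o : G)⁻¹ = x * ((o : G) * x⁻¹ * (o : G)⁻¹) by group]
          exact mul_mem (hPX hx)
            (Subgroup.le_normalizer_iff.1 hMX _ o.2 _ (Subgroup.inv_mem _ (hPX hx))),
          mul_mem (Subgroup.le_normalizer_iff.1 hXO x (hPX hx) _ ⟨o, ho, rfl⟩)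
            (Subgroup.inv_mem _ ⟨o, ho, rfl⟩)⟩
        rw [e, Subgroup.mem_bot] at h1
        show (o : G) * x = x * (o : G)
        exact (mul_inv_eq_iff_eq_mul.1 (mul_inv_eq_one.1 h1)).symm
      have hPbot : P = ⊥ := (Subgroup.eq_bot_iff_forall P).2 fun x hx => by
        have h1 : orderOf x ∣ p := orderOf_dvd_of_pow_eq_one (hS.exp x hx)
        obtain ⟨k, hk⟩ := IsPGroup.iff_card.1 hOp
        have h2 : orderOf x ∣ 2 ^ k := hk ▸ Subgroup.orderOf_dvd_natCard O (hPO hx)
        exact orderOf_eq_one_iff.1 (Nat.eq_one_of_dvd_coprimes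
          (((Nat.coprime_primes hS.prime Nat.prime_two).2 hS.odd).pow_right k) h1 h2)
      have h3 := hS.index
      rw [hPbot, relIndex_bot_right] at h3
      nlinarith [hS.prime.two_le]
    have h4 := hM.2 (normalizer (R : Set G)) ⟨R, hR2, hne, rfl⟩ (hMX.trans hXR)
    exact le_antisymm hMX (hXR.trans h4.le)
  obtain ⟨D, hD, hDn, hD1⟩ : ∃ D : Subgroup G, IsPGroup 2 D ∧
      X ⊔ (T : Subgroup G) ≤ Subgroup.normalizer (D : Set G) ∧ D ≠ ⊥ := by
    refine ⟨(Cfsg.pCore 2 ↥(X ⊔ (T : Subgroup G))).map (X ⊔ (T : Subgroup G)).subtype,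
      (Cores.pCore_isPGroup 2).map _, Subgroup.le_normalizer_iff.2 ?_, fun e => hX.1.2.2.1
        ((map_eq_bot_iff_of_injective _ (X ⊔ (T : Subgroup G)).subtype_injective).1 e)⟩
    rintro a ha _ ⟨o, ho, rfl⟩
    exact ⟨_, (inferInstance : (Cfsg.pCore 2 ↥(X ⊔ (T : Subgroup G))).Normal).conj_mem o ho ⟨a, ha⟩, rfl⟩
  obtain ⟨M, ⟨h1, h2⟩, hmax'⟩ := Set.exists_max_image
    {L' : Subgroup G | Cfsg.IsTwoLocal L' ∧ normalizer (D : Set G) ≤ L'} (fun L' => Nat.card L')
    (Set.toFinite _) ⟨_, ⟨D, hD, hD1, rfl⟩, le_rfl⟩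
  have hM : Cfsg.IsMaximalTwoLocal M :=
    ⟨h1, fun N hN hle => (eq_of_le_of_card_ge hle (hmax' N ⟨hN, h2.trans hle⟩)).symm⟩
  ext N
  refine ⟨fun hN => hkey N hN.1 hN.2, fun hN => ?_⟩
  rw [Set.mem_singleton_iff] at hN
  rw [hN, ← hkey M hM (hDn.trans h2)]
  exact ⟨hM, hDn.trans h2⟩

end Cfsg.Agent.S1822
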