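import Cfsg.Statements.S1852
import Cfsg.Agent.S1822
import Cfsg.Agent.Lib.QTXi.Faithful

set_option autoImplicit false
open Cfsg

namespace Cfsg.Agent.S1852

open Subgroup
open scoped Pointwise

universe v

/-- The group `M` is covered by `C_M(X / R)` and the normaliser of its Sylow 2-subgroup. -/
theorem exists_big {G : Type v} [Group G] [Finite G] {T : Sylow 2 G} {M X P R : Subgroup G} {p : ℕ}
    (d : QTXi.Faithful.Data T M X p P R) {g : G} (hg : g ∈ M) :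
    ∃ k ∈ M ⊓ QTXi.Faithful.actKer X R, k⁻¹ * g ∈ QTXi.Faithful.big T M X R := by
  haveI : Fact (Nat.Prime 2) := ⟨Nat.prime_two⟩
  set K := M ⊓ QTXi.Faithful.actKer X R
  set S := QTXi.Faithful.low T X R
  have hSK : S ≤ K := fun s hs => ⟨d.tM hs.1, hs.2⟩
  have hSp : IsPGroup 2 S := T.isPGroup'.to_le inf_le_left
  have hconj : ∀ h ∈ M, ∀ k ∈ K, h * k * h⁻¹ ∈ K := fun h hh k hk =>
    ⟨mul_mem (mul_mem hh hk.1) (Subgroup.inv_mem _ hh),
      QTXi.Faithful.actKer_conj (d.mX hh) (d.mR hh) hk.2⟩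
  have hmax : ∀ Q ≤ K, IsPGroup 2 Q → Nat.card Q ≤ Nat.card S := by
    intro Q hQK hQ
    obtain ⟨Q', hQ'⟩ := (hQ.comap_of_injective M.subtype M.subtype_injective :
      IsPGroup 2 (Q.subgroupOf M)).exists_le_sylow
    obtain ⟨⟨m, hm⟩, hmQ⟩ := MulAction.exists_smul_eq M Q' (T.subtype d.tM)
    have hle : MulAut.conj m • Q ≤ S := by
      intro z hz
      rw [Coprime.mem_conj_smul] at hz
      obtain ⟨q, hq, rfl⟩ : ∃ q ∈ Q, m * q * m⁻¹ = z := ⟨m⁻¹ * z * m, hz, by group⟩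
      have h1 : (⟨m, hm⟩ : M) * ⟨q, (hQK hq).1⟩ * (⟨m, hm⟩ : M)⁻¹ ∈
          (((⟨m, hm⟩ : M) • Q' : Sylow 2 M) : Subgroup M) := by
        rw [Sylow.coe_subgroup_smul]
        exact Coprime.conj_mem_conj_smul (hQ' (show (⟨q, (hQK hq).1⟩ : M) ∈ Q.subgroupOf M from hq))
      rw [hmQ] at h1
      exact ⟨h1, (hconj m hm q (hQK hq)).2⟩
    exact (Coprime.card_conj_smul m Q).symm.le.trans (Subgroup.card_le_of_le hle)
  let SK : Sylow 2 K := ⟨S.subgroupOf K, hSp.comap_of_injective K.subtype K.subtype_injective,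
    fun {Q} hQ hle => le_antisymm (fun q hq => by
      have h1 : (S.subgroupOf K).map K.subtype ≤ Q.map K.subtype := map_mono hle
      rw [map_subgroupOf_eq_of_le hSK] at h1
      have e := Subgroup.eq_of_le_of_card_ge h1 (hmax _ (map_subtype_le Q) (hQ.map _))
      show (q : G) ∈ S
      rw [e]
      exact ⟨q, hq, rfl⟩) hle⟩
  have hgS : MulAut.conj g • S ≤ K := fun z hz => by
    rw [Coprime.mem_conj_smul] at hz
    have := hconj g hg _ (hSK hz)
    rwa [show g * (g⁻¹ * z * g) * g⁻¹ = z by group] at this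
  have hSm : (SK : Subgroup K).map K.subtype = S := map_subgroupOf_eq_of_le hSK
  obtain ⟨k, hk, hkS⟩ := Coprime.exists_conj_sylow_map hgS SK (by
    rw [Coprime.card_conj_smul, ← card_map_of_injective K.subtype_injective, hSm])
  rw [hSm] at hkS
  refine ⟨k, hk, mul_mem (Subgroup.inv_mem _ hk.1) hg, ?_⟩
  show k⁻¹ * g ∈ normalizer (S : Set G)
  rw [← Coprime.conj_smul_eq_self_iff, Coprime.conj_smul_mul, hkS, Coprime.conj_inv_smul_smul]

/-- Let G be a non-abelian finite simple QTKE-group and T a Sylow 2-subgroup of G lying in at least two distinct maximal 2-local subgroups of G. Let X be a member of Ξ*(G, T) — X = O²(X) is T-invariant with O₂(XT) ≠ 1, X/O₂(X) is elementary abelian of order p² or extraspecial of order p³ for some odd prime p, T is irreducible on the Frattini quotient of X/O₂(X), and XT lies in no ⟨L, T⟩ with L ∈ ℒ(G, T) and L/O₂(L) quasisimple — that also lies in 𝒳 (F*(X) = O₂(X))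 and acts nontrivially on Ω₁(Z(O₂(X))) (a faithful solvable uniqueness group). Then either X is a {2, 3}-group, or X/O₂(X) is a 5-group and the group of automorphisms of X/O₂(X) induced by N_G(X) is a {2, 5}-group (rendered: for every prime r other than 2 and 5, an element of N_G(X) whose r-th power acts trivially on X/O₂(X) itself acts trivially on X/O₂(X)). -/
theorem result {G : Type*} [Group G] [Finite G] [IsSimpleGroup G]
    (hG : ¬ IsMulCommutative G) (hQ : Cfsg.IsQTKE G) (T : Sylow 2 G) (X : Subgroup G)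
    (hT : ∃ M₁ M₂ : Subgroup G, M₁ ∈ Cfsg.maxTwoLocalsContaining (T : Subgroup G) ∧
      M₂ ∈ Cfsg.maxTwoLocalsContaining (T : Subgroup G) ∧ M₁ ≠ M₂)
    (hX : X ∈ Cfsg.XiStar (T : Subgroup G)) (hXf : X ∈ Cfsg.calXf G) :
    (∀ p : ℕ, p.Prime → p ∣ Nat.card ↥X → p = 2 ∨ p = 3) ∨
    (IsPGroup 5 (↥X ⧸ Cfsg.pCore 2 ↥X) ∧
      ∀ r : ℕ, r.Prime → r ≠ 2 → r ≠ 5 → ∀ g ∈ Subgroup.normalizer (X : Set G),
        (∀ x ∈ X, g ^ r * x * (g ^ r)⁻¹ * x⁻¹ ∈ Cfsg.pCoreTwoOf X) →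
          ∀ x ∈ X, g * x * g⁻¹ * x⁻¹ ∈ Cfsg.pCoreTwoOf X) := by
  haveI : Fact (Nat.Prime 2) := ⟨Nat.prime_two⟩
  obtain ⟨p, P, R, hPX, hRT, hPR, hmax, hR2, hRc, hS⟩ := QTXi.Setup.exists_pair T hX.1
  haveI := Fact.mk hS.prime
  have hRX : R ≤ X := hPR ▸ le_sup_right
  have hXR : X ≤ normalizer (R : Set G) := by
    haveI := hRc
    exact (normal_subgroupOf_iff_le_normalizer hRX).1 inferInstance
  have hcore : Cfsg.pCoreTwoOf X = R :=
    le_antisymm (hmax _ (map_subtype_le _) (CharP.le_normalizer_pCoreOf 2 X)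
      ((Cores.pCore_isPGroup 2).map _)) (CharP.le_pCoreOf hRX hXR hR2)
  have hcop : (Nat.card P).Coprime (Nat.card R) := by
    obtain ⟨i, hi⟩ := IsPGroup.iff_card.1 hS.isPGroup
    obtain ⟨j, hj⟩ := IsPGroup.iff_card.1 hR2
    rw [hi, hj]
    exact Nat.Coprime.pow i j ((Nat.coprime_primes hS.prime Nat.prime_two).2 hS.odd)
  by_cases hp3 : p = 3
  · subst hp3
    refine Or.inl fun q hq hqd => ?_
    have hc : Nat.card X = Nat.card R * Nat.card P := by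
      rw [← hPR, sup_comm]
      exact Coprime.card_sup_of_coprime (hPX.trans hXR) hcop.symm
    obtain ⟨i, hi⟩ := IsPGroup.iff_card.1 hS.isPGroup
    obtain ⟨j, hj⟩ := IsPGroup.iff_card.1 hR2
    rw [hc, hi, hj] at hqd
    rcases hq.dvd_mul.1 hqd with h | h
    · exact Or.inl ((Nat.prime_dvd_prime_iff_eq hq Nat.prime_two).1 (hq.dvd_of_dvd_pow h))
    · exact Or.inr ((Nat.prime_dvd_prime_iff_eq hq Nat.prime_three).1 (hq.dvd_of_dvd_pow h))
  have hp5 : 5 ≤ p := by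
    have h2 := hS.prime.two_le
    have h4 : p ≠ 4 := fun e => absurd (e ▸ hS.prime) (by norm_num)
    have := hS.odd
    omega
  set M := normalizer (X : Set G) with hM
  have hMset := S1822.result hG hQ T X hX
  have hMmem : M ∈ Cfsg.maxTwoLocalsContaining (X ⊔ (T : Subgroup G)) := by rw [hMset]; rfl
  have hMR : M ≤ normalizer (R : Set G) := by
    haveI := hRc
    have := Coprime.OmegaDetect.normalizer_le_normalizer_char X (R.subgroupOf X)
    rwa [map_subgroupOf_eq_of_le hRX] at this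
  have hd : QTXi.Faithful.Data T M X p P R := ⟨hS, hPR, hRT, hR2, hXR, hmax, le_normalizer,
    le_sup_right.trans hMmem.2, le_rfl, hMR, by
      have h1 := hXf.2
      simp only [Cfsg.moduleV, hcore] at h1
      exact h1⟩
  have huniq : ∀ N : Subgroup G, Cfsg.IsTwoLocal N → X ⊔ (T : Subgroup G) ≤ N → N ≤ M := by
    intro N hN hle
    obtain ⟨N', ⟨h1, h2⟩, hmax'⟩ := Set.exists_max_image
      {L' : Subgroup G | Cfsg.IsTwoLocal L' ∧ N ≤ L'} (fun L' => Nat.card L')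
      (Set.toFinite _) ⟨N, hN, le_rfl⟩
    have hN' : N' ∈ Cfsg.maxTwoLocalsContaining (X ⊔ (T : Subgroup G)) :=
      ⟨⟨h1, fun L hL hle' => (eq_of_le_of_card_ge hle' (hmax' L ⟨hL, h2.trans hle'⟩)).symm⟩, hle.trans h2⟩
    rw [hMset] at hN'
    exact h2.trans (le_of_eq hN')
  -- a minimal member outside `M`
  obtain ⟨H, hH⟩ : ∃ H, H ∈ Cfsg.calHMin (T : Subgroup G) M := by
    obtain ⟨M₁, M₂, hM₁, hM₂, hne⟩ := hT
    obtain ⟨N, hN, hNM⟩ : ∃ N ∈ Cfsg.maxTwoLocalsContaining (T : Subgroup G), N ≠ M := by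
      by_cases h1 : M₁ = M
      · exact ⟨M₂, hM₂, fun h => hne (h1.trans h.symm)⟩
      · exact ⟨M₁, hM₁, h1⟩
    have hmem : N ∈ Cfsg.calHOverNotLE (T : Subgroup G) M := by
      refine ⟨⟨fun e => ?_, hN.2⟩, fun hle => hNM (hN.1.2 M hMmem.1.1 hle).symm⟩
      obtain ⟨D, hD, hD1, hND⟩ := hN.1.1
      refine hD1 (le_bot_iff.1 ((CharP.le_pCoreOf (H := N) (hND ▸ le_normalizer) hND.le hD).trans ?_))
      rw [Cfsg.pCoreOf, e, Subgroup.map_bot]
    obtain ⟨H, -, h1, h2⟩ := Components.Basic.exists_minimal_le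
      (fun L => L ∈ Cfsg.calHOverNotLE (T : Subgroup G) M) hmem
    exact ⟨H, h1, fun K hK hKH => h2 K hKH hK⟩
  obtain ⟨B, o₀⟩ := QTXi.Faithful.exists_offender hd hQ.2.2 huniq hH
  have o : QTXi.Offender p P _ B _ := ⟨o₀, o₀.derived_le hp5⟩
  obtain ⟨h5, e, f, he, hf, hfe, hall⟩ := o.pair hp5
  subst h5
  refine Or.inr ⟨?_, fun r hr hr2 hr5 g hg hgr => ?_⟩
  · intro q
    obtain ⟨x, rfl⟩ := QuotientGroup.mk'_surjective _ q
    have hx : (x : G) ∈ R ⊔ P := by rw [sup_comm, hPR]; exact x.2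
    obtain ⟨a, ha, y, hy, hay⟩ := (Coprime.mem_sup_of_le_normalizer (hPX.trans hXR)).1 hx
    refine ⟨1, ?_⟩
    have haO : (⟨a, hRX ha⟩ : X) ∈ Cfsg.pCore 2 ↥X := by
      have h1 : a ∈ Cfsg.pCoreTwoOf X := hcore.symm ▸ ha
      obtain ⟨b, hb, hba⟩ := h1
      rwa [show (⟨a, hRX ha⟩ : X) = b from Subtype.ext hba.symm]
    have e1 : x = (⟨a, hRX ha⟩ : X) * ⟨y, hPX hy⟩ := Subtype.ext hay.symm
    rw [e1, map_mul, (QuotientGroup.eq_one_iff _).2 haO |> fun h =>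
      (show QuotientGroup.mk' (Cfsg.pCore 2 ↥X) (⟨a, hRX ha⟩ : X) = 1 from h), one_mul, pow_one, ← map_pow,
      show (⟨y, hPX hy⟩ : X) ^ 5 = 1 from Subtype.ext (hS.exp y hy), map_one]
  simp only [hcore] at hgr ⊢
  have hgM : g ∈ M := hg
  have hgK : g ^ r ∈ QTXi.Faithful.actKer X R := ⟨pow_mem hg r, pow_mem (hMR hgM) r, hgr⟩
  suffices hfinal : g ∈ QTXi.Faithful.actKer X R from hfinal.2.2
  obtain ⟨k, hk, hkg⟩ := exists_big hd hgM
  set m := k⁻¹ * g with hm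
  have hmM : m ∈ M := hkg.1
  obtain ⟨a, ha, ham⟩ := QTXi.Faithful.decompose hS hPR hR2 (hPX.trans hXR) (hd.mX hmM)
  set m₀ := a⁻¹ * m with hm₀
  have haK : a ∈ QTXi.Faithful.actKer X R := (QTXi.Faithful.r_low hd ha).2
  have hm₀M : m₀ ∈ M := mul_mem (Subgroup.inv_mem _ (le_normalizer (hRX ha))) hmM
  have hgm : g = k * a * m₀ := by rw [hm₀, hm]; group
  set K := (QTXi.Faithful.actKer X R).subgroupOf M
  haveI : K.Normal := ⟨fun c hc h => QTXi.Faithful.actKer_conj (hd.mX h.2) (hMR h.2) hc⟩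
  have hkaM : k * a ∈ M := mul_mem hk.1 (le_normalizer (hRX ha))
  have hπ : QuotientGroup.mk' K ⟨g, hgM⟩ = QuotientGroup.mk' K ⟨m₀, hm₀M⟩ := by
    rw [show (⟨g, hgM⟩ : M) = ⟨k * a, hkaM⟩ * ⟨m₀, hm₀M⟩ from Subtype.ext hgm, map_mul,
      show QuotientGroup.mk' K (⟨k * a, hkaM⟩ : M) = 1 from
        (QuotientGroup.eq_one_iff _).2 (mul_mem hk.2 haK), one_mul]
  have hmr : m₀ ^ r ∈ QTXi.Faithful.actKer X R := by
    have h1 : QuotientGroup.mk' K (⟨g, hgM⟩ ^ r) = 1 := (QuotientGroup.eq_one_iff _).2 hgK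
    rw [map_pow, hπ, ← map_pow] at h1
    have h2 : (⟨m₀, hm₀M⟩ : M) ^ r ∈ K := (QuotientGroup.eq_one_iff _).1 h1
    exact h2
  have hmN : m₀ ^ r ∈ normalizer (P : Set G) := pow_mem ham r
  have hmP : m₀ ^ r ∈ centralizer (P : Set G) := mem_centralizer_iff.2 fun x hx => by
    have h1 : m₀ ^ r * x * (m₀ ^ r)⁻¹ * x⁻¹ ∈ P ⊓ R :=
      ⟨mul_mem ((mem_normalizer_iff.1 hmN x).1 hx) (Subgroup.inv_mem _ hx), hmr.2.2 x (hPX hx)⟩
    rw [(Subgroup.disjoint_of_coprime_natCard hcop).eq_bot, Subgroup.mem_bot] at h1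
    exact (mul_inv_eq_iff_eq_mul.1 (mul_inv_eq_one.1 h1)).symm
  have hm₀V : m₀ ∈ normalizer (QTXi.Faithful.mdl T X R : Set G) :=
    mul_mem (Subgroup.inv_mem _ (QTXi.Faithful.big_norm hd (QTXi.Faithful.x_big hd (hRX ha))))
      (QTXi.Faithful.big_norm hd hkg)
  have hm₀P : m₀ ∈ centralizer (P : Set G) :=
    hS.trivial_of_pair ham hr hr2 hr5 hmP he.1 he.2.1 hf.1 hf.2.1 hfe
      (hall _ (o.active_conj ham hm₀V he)) (hall _ (o.active_conj ham hm₀V hf))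
  rw [hgm]
  refine mul_mem (mul_mem hk.2 haK) ⟨hd.mX hm₀M, hMR hm₀M, fun x hx => ?_⟩
  rw [← hPR, ← SetLike.mem_coe, coe_mul_of_left_le_normalizer_right _ _ (hPX.trans hXR)] at hx
  obtain ⟨y, hy, b, hb, rfl⟩ := hx
  rw [show m₀ * (y * b) * m₀⁻¹ * (y * b)⁻¹ = m₀ * y * m₀⁻¹ * (m₀ * b * m₀⁻¹ * b⁻¹) * y⁻¹ by group,
    ← mem_centralizer_iff.1 hm₀P y hy, mul_inv_cancel_right]
  exact (mem_normalizer_iff.1 (hXR (hPX hy)) _).1
    (mul_mem ((mem_normalizer_iff.1 (hMR hm₀M) b).1 hb) (Subgroup.inv_mem _ hb))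

end Cfsg.Agent.S1852
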