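import Cfsg.Statements.S3309
import Mathlib
import Cfsg.Agent.Lib.Involutions.ThompsonTransfer
import Cfsg.Agent.Lib.Transfer.Fusion
import Cfsg.Agent.Lib.Involutions.BrauerFowler

set_option linter.all false

set_option autoImplicit false
open Cfsg

namespace Cfsg.Agent.S3309

abbrev P := Multiplicative (ZMod 2) × DihedralGroup 4

abbrev tP : P := (Multiplicative.ofAdd 1, 1)
abbrev cP : P := (1, DihedralGroup.r 2)
abbrev xP (u i : ZMod 2) : P := (Multiplicative.ofAdd u, DihedralGroup.sr (i.val : ZMod 4))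

def chiFun (b c : ZMod 2) : P → Multiplicative (ZMod 2)
  | (u, DihedralGroup.r i) => Multiplicative.ofAdd (Multiplicative.toAdd u + b * (i.val : ZMod 2))
  | (u, DihedralGroup.sr i) => Multiplicative.ofAdd (Multiplicative.toAdd u + b * (i.val : ZMod 2) + c)

theorem chiFun_mul : ∀ b c : ZMod 2, ∀ p q : P, chiFun b c (p * q) = chiFun b c p * chiFun b c q := by decide +kernel

def chi (b c : ZMod 2) : P →* Multiplicative (ZMod 2) := MonoidHom.mk' (chiFun b c) (chiFun_mul b c)

theorem chi_tP : ∀ b c : ZMod 2, chiFun b c tP = Multiplicative.ofAdd 1 ∧ chiFun b c (tP * cP) = Multiplicative.ofAdd 1 := by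
  decide +kernel

theorem inv_cases : ∀ b c : ZMod 2, ∀ q : P, q * q = 1 → chiFun b c q = 1 →
    q = 1 ∨ q = cP ∨ ∃ h : P, h * q * h⁻¹ = xP c 0 ∨ h * q * h⁻¹ = xP (b + c) 1 := by
  decide +kernel

theorem sq_cases : ∀ p : P, p * p = 1 ∨ p * p = cP := by decide +kernel

theorem central_cases : ∀ p : P, (∀ q : P, p * q = q * p) → p = 1 ∨ p = cP ∨ p = tP ∨ p = tP * cP := by
  decide +kernel

theorem central_facts : (∀ q : P, tP * q = q * tP) ∧ (∀ q : P, cP * q = q * cP) ∧
    tP * tP = 1 ∧ cP * cP = 1 ∧ tP ≠ 1 ∧ cP ≠ 1 ∧ tP ≠ cP ∧ tP ≠ tP * cP ∧ cP ≠ tP * cP := by decide +kernel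

theorem inv_all : ∀ q : P, q * q = 1 → q = 1 ∨ q = cP ∨ q = tP ∨ q = tP * cP ∨
    ∃ h : P, ∃ u i : ZMod 2, h * q * h⁻¹ = xP u i := by decide +kernel

theorem x_mul_c : ∀ u i : ZMod 2, ∃ h : P, h * (xP u i * cP) * h⁻¹ = xP u i := by decide +kernel

theorem cP_sq : cP = ((1, DihedralGroup.r 1) : P) * (1, DihedralGroup.r 1) := by decide +kernel

theorem zmod2_cases : ∀ u : ZMod 2, u = 0 ∨ u = 1 := by decide

theorem mz2_cases : ∀ y : Multiplicative (ZMod 2), y = 1 ∨ y = Multiplicative.ofAdd 1 := by decide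

theorem tc_facts : (tP * cP) * (tP * cP) = (1 : P) ∧ tP * cP ≠ (1 : P) ∧ xP 0 0 ≠ tP ∧ xP 0 0 ≠ tP * cP := by
  decide +kernel

theorem core {G : Type*} [Group G] [Finite G] (hno : ∀ H : Subgroup G, H.index ≠ 2) (S : Sylow 2 G)
    (f : P →* G) (hf : Function.Injective f) (hrange : f.range = (S : Subgroup G)) : False := by
  haveI : Fact (Nat.Prime 2) := ⟨Nat.prime_two⟩
  obtain ⟨htc, hcc, htt, hcc2, ht1, hc1, htcne, htne, hcne⟩ := central_facts
  have htcc : ∀ q : P, (tP * cP) * q = q * (tP * cP) := fun q => by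
    rw [mul_assoc, hcc q, ← mul_assoc, htc q, mul_assoc]
  let R : P → P → Prop := fun p q => ∃ g : G, g * f p * g⁻¹ = f q
  have Rsymm : ∀ {p q}, R p q → R q p := fun {p q} ⟨g, hg⟩ => ⟨g⁻¹, by rw [← hg]; group⟩
  have Rtrans : ∀ {p q r}, R p q → R q r → R p r := fun {p q r} ⟨g, hg⟩ ⟨k, hk⟩ =>
    ⟨k * g, by rw [← hk, ← hg]; group⟩
  have Rconj : ∀ (p h : P), R p (h * p * h⁻¹) := fun p h => ⟨f h, by simp⟩
  have hS : ∀ s : G, s ∈ (S : Subgroup G) ↔ ∃ p, f p = s := fun s => by rw [← hrange]; exact MonoidHom.mem_range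
  have hburn : ∀ p q : P, (∀ x, p * x = x * p) → (∀ x, q * x = x * q) → R p q → p = q := by
    intro p q hp hq ⟨g, hg⟩
    have hinv : ∀ a : P, (∀ x, a * x = x * a) → ∀ x ∈ S, (fun y => x * y * x⁻¹) '' {f a} = {f a} := by
      intro a ha x hx
      obtain ⟨b, rfl⟩ := (hS x).1 hx
      rw [Set.image_singleton, ← map_mul, ← map_inv, ← map_mul, ← ha b, mul_inv_cancel_right]
    obtain ⟨n, hn, hne⟩ := Transfer.Fusion.burnside_fusion_set S (hinv p hp) (hinv q hq)
      (g := g) (by rw [Set.image_singleton, hg])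
    rw [Set.image_singleton, Set.singleton_eq_singleton_iff] at hne
    have himg : ∀ m ∈ Subgroup.normalizer ((S : Subgroup G) : Set G), ∀ a : P, ∃ b : P, f b = m * f a * m⁻¹ :=
      fun m hm a => (hS _).1 ((Subgroup.mem_normalizer_iff.1 hm (f a)).1 ((hS _).2 ⟨a, rfl⟩))
    have fixc : ∀ m ∈ Subgroup.normalizer ((S : Subgroup G) : Set G), m * f cP * m⁻¹ = f cP := by
      intro m hm
      obtain ⟨b, hb⟩ := himg m hm (1, DihedralGroup.r 1)
      have e : m * f cP * m⁻¹ = f (b * b) := by
        rw [map_mul, hb, cP_sq, map_mul]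
        group
      rcases sq_cases b with h | h
      · rw [h, map_one] at e
        exact absurd (hf (by rw [map_one]; exact conj_eq_one_iff.1 e : f cP = f 1)) hc1
      · rwa [h] at e
    have fix2 : ∀ m ∈ Subgroup.normalizer ((S : Subgroup G) : Set G),
        m * f tP * m⁻¹ = f tP ∨ m * f tP * m⁻¹ = f (tP * cP) := by
      intro m hm
      obtain ⟨b, hb⟩ := himg m hm tP
      have hbc : ∀ x, b * x = x * b := fun x => hf (by
        obtain ⟨y, hy⟩ := himg m⁻¹ (Subgroup.inv_mem _ hm) x
        rw [inv_inv] at hy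
        have hx : f x = m * f y * m⁻¹ := by rw [hy]; group
        rw [map_mul, map_mul, hb, hx,
          show m * f tP * m⁻¹ * (m * f y * m⁻¹) = m * (f tP * f y) * m⁻¹ by group, ← map_mul, htc y, map_mul]
        group)
      rcases central_cases b hbc with rfl | rfl | rfl | rfl
      · rw [map_one] at hb
        exact absurd (hf (by rw [map_one]; exact conj_eq_one_iff.1 hb.symm : f tP = f 1)) ht1
      · have h2 := fixc m hm
        rw [hb] at h2
        exact absurd (hf (hb.trans (mul_left_cancel (mul_right_cancel h2))).symm) htcne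
      · exact Or.inl hb.symm
      · exact Or.inr hb.symm
    have hnt : n * f tP * n⁻¹ = f tP := by
      rcases fix2 n hn with h | h
      · exact h
      · exfalso
        set N := Subgroup.normalizer ((S : Subgroup G) : Set G)
        set k := ((S : Subgroup G).subgroupOf N).index with hk
        haveI : ((S : Subgroup G).subgroupOf N).Normal := Subgroup.normal_subgroupOf_of_le_normalizer le_rfl
        have hodd : Odd k := by
          rw [Nat.odd_iff]
          have hd : (S : Subgroup G).relIndex N ∣ (S : Subgroup G).index := Subgroup.relIndex_dvd_index_of_le Subgroup.le_normalizer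
          have := S.not_dvd_index
          by_contra h'
          exact this (dvd_trans (Nat.dvd_of_mod_eq_zero (show k % 2 = 0 by omega)) hd)
        have hkS : n ^ k ∈ (S : Subgroup G) := Subgroup.pow_index_mem ((S : Subgroup G).subgroupOf N) ⟨n, hn⟩
        have h2 : n ^ 2 ∈ Subgroup.centralizer ({f tP} : Set G) := by
          rw [Subgroup.mem_centralizer_singleton_iff, ← mul_inv_eq_iff_eq_mul, sq]
          calc n * n * f tP * (n * n)⁻¹ = n * (n * f tP * n⁻¹) * n⁻¹ := by group
            _ = (n * f tP * n⁻¹) * (n * f cP * n⁻¹) := by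
              conv_lhs => rw [h, map_mul]
              group
            _ = f (tP * cP * cP) := by rw [h, fixc n hn, ← map_mul]
            _ = f tP := by rw [mul_assoc, hcc2, mul_one]
        have hkc : n ^ k ∈ Subgroup.centralizer ({f tP} : Set G) := by
          obtain ⟨b, hb⟩ := (hS _).1 hkS
          rw [Subgroup.mem_centralizer_singleton_iff, ← hb, ← map_mul, ← map_mul, htc b]
        obtain ⟨m, hm⟩ := hodd
        have hn1 : n ∈ Subgroup.centralizer ({f tP} : Set G) := by
          rw [hm, pow_succ, pow_mul] at hkc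
          exact (Subgroup.mul_mem_cancel_left _ (Subgroup.pow_mem _ h2 m)).1 hkc
        rw [Subgroup.mem_centralizer_singleton_iff, ← mul_inv_eq_iff_eq_mul, h] at hn1
        exact htne (hf hn1).symm
    rcases central_cases p hp with rfl | rfl | rfl | rfl
    · rw [map_one, mul_one, mul_inv_cancel, ← map_one f] at hne
      exact hf hne
    · rw [fixc n hn] at hne; exact hf hne
    · rw [hnt] at hne; exact hf hne
    · rw [map_mul, show n * (f tP * f cP) * n⁻¹ = (n * f tP * n⁻¹) * (n * f cP * n⁻¹) by group,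
        fixc n hn, hnt, ← map_mul] at hne
      exact hf hne
  have hmem : ∀ a : P, (∀ x, a * x = x * a) → a * a = 1 → a ≠ 1 → a ≠ cP → ∀ b c : ZMod 2,
      R a (xP c 0) ∨ R a (xP (b + c) 1) := by
    intro a ha ha2 ha1 hac b c
    have hidx : ((chi b c).ker.map f).relIndex (S : Subgroup G) = 2 := by
      rw [← hrange, MonoidHom.range_eq_map, Subgroup.relIndex_map_map_of_injective _ _ hf, Subgroup.relIndex_top_right,
        Subgroup.index_ker]
      have : (chi b c).range = ⊤ := by
        rw [eq_top_iff]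
        intro y _
        have hy := mz2_cases y
        rcases hy with rfl | rfl
        · exact Subgroup.one_mem _
        · exact ⟨tP, (chi_tP b c).1⟩
      rw [this, Subgroup.card_top]
      simp
    obtain ⟨g, hg⟩ := Involutions.ThompsonTransfer.exists_conj_mem hno S ((chi b c).ker.map f)
      (by rw [← hrange]; exact Subgroup.map_le_range f _) hidx (f a)
      (orderOf_eq_prime (by rw [sq, ← map_mul, ha2, map_one]) (fun h => ha1 (hf (h.trans (map_one f).symm))))
    obtain ⟨q, hq, hqe⟩ := hg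
    have hR : R a q := ⟨g, hqe.symm⟩
    have hq2 : q * q = 1 := hf (by
      rw [map_mul, hqe, map_one, show g * f a * g⁻¹ * (g * f a * g⁻¹) = g * (f a * f a) * g⁻¹ by group,
        ← map_mul, ha2, map_one, mul_one, mul_inv_cancel])
    rcases inv_cases b c q hq2 hq with rfl | rfl | ⟨h, h' | h'⟩
    · exact absurd (hburn a 1 ha (fun x => by rw [one_mul, mul_one]) hR) ha1
    · exact absurd (hburn a cP ha hcc hR) hac
    · exact Or.inl (Rtrans hR (h' ▸ Rconj q h))
    · exact Or.inr (Rtrans hR (h' ▸ Rconj q h))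
  have T := hmem tP htc htt ht1 htcne
  obtain ⟨htc2, htc1, hx0t, hx0tc⟩ := tc_facts
  have T' := hmem (tP * cP) htcc htc2 htc1 hcne.symm
  have excl : ∀ x, R tP x → R (tP * cP) x → False := fun x h h' =>
    htne (hburn _ _ htc htcc (Rtrans h (Rsymm h')))
  have split : ∃ a b : P, (a = tP ∧ b = tP * cP ∨ a = tP * cP ∧ b = tP) ∧
      (∀ u, R a (xP u 0)) ∧ ∀ u, R b (xP u 1) := by
    by_cases h00 : R tP (xP 0 0)
    · have hy : ∀ u, R (tP * cP) (xP u 1) := fun u => by
        rcases T' u 0 with h | h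
        · exact (excl _ h00 h).elim
        · rwa [add_zero] at h
      refine ⟨_, _, Or.inl ⟨rfl, rfl⟩, fun u => ?_, hy⟩
      rcases T 0 u with h | h
      · exact h
      · exact (excl _ h (hy _)).elim
    · have hy : ∀ u, R tP (xP u 1) := fun u => by
        rcases T u 0 with h | h
        · exact absurd h h00
        · rwa [add_zero] at h
      refine ⟨_, _, Or.inr ⟨rfl, rfl⟩, fun u => ?_, hy⟩
      rcases T' 0 u with h | h
      · exact h
      · exact (excl _ (hy _) h).elim
  obtain ⟨a, b, hab, hx, hy⟩ := split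
  have hac : ∀ x, a * x = x * a := by rcases hab with ⟨rfl, -⟩ | ⟨rfl, -⟩ <;> assumption
  have hbc : ∀ x, b * x = x * b := by rcases hab with ⟨-, rfl⟩ | ⟨-, rfl⟩ <;> assumption
  have habc : b = a * cP ∧ a ≠ b ∧ a ≠ cP ∧ b ≠ cP ∧ a * a = 1 := by
    rcases hab with ⟨rfl, rfl⟩ | ⟨rfl, rfl⟩
    · exact ⟨rfl, htne, htcne, hcne.symm, htt⟩
    · exact ⟨by rw [mul_assoc, hcc2, mul_one], htne.symm, hcne.symm, htcne, htc2⟩
  obtain ⟨hb, hne, hacne, hbcne, haa⟩ := habc
  obtain ⟨g0, hg0⟩ := Rsymm (hx 0)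
  let B : Subgroup P := Subgroup.closure {cP, a}
  obtain ⟨k, hk, hkB⟩ := Transfer.Fusion.exists_conj_le_of_isPGroup (K := Subgroup.centralizer ({f a} : Set G))
    (B := ((B ⊔ Subgroup.closure {xP 0 0}).map f).map (MulAut.conj g0).toMonoidHom) S
    (fun s hs => by
      obtain ⟨p, rfl⟩ := (hS s).1 hs
      rw [Subgroup.mem_centralizer_singleton_iff, ← map_mul, ← map_mul, hac p])
    ((IsPGroup.of_card (n := 4) (by
        simp [Nat.card_eq_fintype_card, P, DihedralGroup.card]) : IsPGroup 2 P).to_subgroup _ |>.map f |>.map _)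
    (by
      rw [Subgroup.map_map, Subgroup.map_le_iff_le_comap]
      have hB : ∀ p : P, p * xP 0 0 = xP 0 0 * p →
          p ∈ (Subgroup.centralizer ({f a} : Set G)).comap ((MulAut.conj g0).toMonoidHom.comp f) := by
        intro p hp
        rw [Subgroup.mem_comap, Subgroup.mem_centralizer_singleton_iff, ← hg0]
        show (g0 * f p * g0⁻¹) * (g0 * f (xP 0 0) * g0⁻¹) = (g0 * f (xP 0 0) * g0⁻¹) * (g0 * f p * g0⁻¹)
        rw [show (g0 * f p * g0⁻¹) * (g0 * f (xP 0 0) * g0⁻¹) = g0 * (f p * f (xP 0 0)) * g0⁻¹ by group,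
          ← map_mul, hp, map_mul]
        group
      refine sup_le ((Subgroup.closure_le _).2 ?_) ((Subgroup.closure_le _).2 ?_)
      · rintro p (rfl | rfl)
        · exact hB _ (hcc _)
        · exact hB _ (hac _)
      · rintro p rfl; exact hB _ rfl)
  set g := k * g0 with hg
  have hgS : ∀ p ∈ B, ∃ q : P, f q = g * f p * g⁻¹ := fun p hp => by
    refine (hS _).1 (hkB ?_)
    refine ⟨_, ⟨_, ⟨p, Subgroup.mem_sup_left hp, rfl⟩, rfl⟩, ?_⟩
    show k * (g0 * f p * g0⁻¹) * k⁻¹ = g * f p * g⁻¹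
    rw [hg]; group
  have hgx : g * f (xP 0 0) * g⁻¹ = f a := by
    rw [hg, show k * g0 * f (xP 0 0) * (k * g0)⁻¹ = k * (g0 * f (xP 0 0) * g0⁻¹) * k⁻¹ by group, hg0,
      Subgroup.mem_centralizer_singleton_iff.1 hk, mul_inv_cancel_right]
  obtain ⟨σc, hσc⟩ := hgS cP (Subgroup.subset_closure (Or.inl rfl))
  obtain ⟨σa, hσa⟩ := hgS a (Subgroup.subset_closure (Or.inr rfl))
  have hRc : R cP σc := ⟨g, hσc.symm⟩
  have hRa : R a σa := ⟨g, hσa.symm⟩
  have sqt : ∀ {p q : P}, R p q → p * p = 1 → q * q = 1 := fun {p q} ⟨k, hk⟩ h => hf (by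
    rw [map_mul, ← hk, map_one, show k * f p * k⁻¹ * (k * f p * k⁻¹) = k * (f p * f p) * k⁻¹ by group,
      ← map_mul, h, map_one, mul_one, mul_inv_cancel])
  have hcls : ∀ q, q * q = 1 → (∀ x, q * x = x * q) ∨
      ∃ h : P, ∃ u i : ZMod 2, h * q * h⁻¹ = xP u i := by
    intro q hq
    rcases inv_all q hq with rfl | rfl | rfl | rfl | h
    · exact Or.inl fun x => by rw [one_mul, mul_one]
    · exact Or.inl hcc
    · exact Or.inl htc
    · exact Or.inl htcc
    · exact Or.inr h
  have xclass : ∀ u i : ZMod 2, R a (xP u i) ∨ R b (xP u i) := by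
    intro u i
    rcases zmod2_cases i with rfl | rfl
    · exact Or.inl (hx u)
    · exact Or.inr (hy u)
  have hσcc : σc = cP := by
    rcases hcls σc (sqt hRc hcc2) with h | ⟨h, u, i, e⟩
    · exact (hburn _ _ hcc h hRc).symm
    · have := Rtrans hRc (e ▸ Rconj σc h)
      rcases xclass u i with h' | h'
      · exact absurd (hburn _ _ hcc hac (Rtrans this (Rsymm h'))) hacne.symm
      · exact absurd (hburn _ _ hcc hbc (Rtrans this (Rsymm h'))) hbcne.symm
  have hRb : R b (σa * cP) := ⟨g, by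
    rw [hb, map_mul, show g * (f a * f cP) * g⁻¹ = (g * f a * g⁻¹) * (g * f cP * g⁻¹) by group, ← hσa,
      ← hσc, hσcc, ← map_mul]⟩
  rcases hcls σa (sqt hRa haa) with h | ⟨h, u, i, e⟩
  · have e' := hburn _ _ hac h hRa
    have : f (xP 0 0) = f a := mul_left_cancel (mul_right_cancel (hgx.trans (e' ▸ hσa)))
    exact absurd (hf this) (by rcases hab with ⟨rfl, -⟩ | ⟨rfl, -⟩ <;> assumption)
  · obtain ⟨h', e'⟩ := x_mul_c u i
    have h1 : R a (xP u i) := Rtrans hRa (e ▸ Rconj σa h)
    have h2 : R (σa * cP) (xP u i) := by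
      have e2 : h * (σa * cP) * h⁻¹ = xP u i * cP := by
        rw [← e, show h * σa * h⁻¹ * cP = h * σa * (h⁻¹ * cP) by group, ← hcc h⁻¹]; group
      have q1 := Rconj (σa * cP) h
      rw [e2] at q1
      have q2 := Rconj (xP u i * cP) h'
      rw [e'] at q2
      exact Rtrans q1 q2
    exact hne (hburn _ _ hac hbc (Rtrans h1 (Rsymm (Rtrans hRb h2))))

/-- A finite group whose Sylow 2-subgroups are isomorphic to the direct product of a group of order 2 and the dihedral group of order 8 is not a non-abelian simple group. -/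
theorem result {G : Type*} [Group G] [Finite G] (S : Sylow 2 G) (hS : Nonempty (↥(S : Subgroup G) ≃* Multiplicative (ZMod 2) × DihedralGroup 4))
    [IsSimpleGroup G] (hG : ¬ IsMulCommutative G) : False := by
  obtain ⟨e⟩ := hS
  refine core (Involutions.BrauerFowler.no_index_two ?_) S ((S : Subgroup G).subtype.comp e.symm.toMonoidHom)
    ((S : Subgroup G).subtype_injective.comp e.symm.injective) ?_
  · by_contra h
    push Not at h
    apply hG
    refine ⟨⟨fun a b => ?_⟩⟩
    have h16 : Nat.card (S : Subgroup G) = 16 := by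
      rw [Nat.card_congr e.toEquiv]
      simp [Nat.card_eq_fintype_card, DihedralGroup.card]
    have := Subgroup.card_le_card_group (S : Subgroup G)
    omega
  · rw [MonoidHom.range_comp, MonoidHom.range_eq_top.2 e.symm.surjective, ← MonoidHom.range_eq_map,
      Subgroup.range_subtype]

end Cfsg.Agent.S3309
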