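import Cfsg.Statements.S5028
import Cfsg.Agent.Lib.ThreeTransp.RankOne
import Cfsg.Agent.Lib.ThreeTransp.RootSets

set_option autoImplicit false
open Cfsg

namespace Cfsg.Agent.S5028

open Cfsg.Agent.ThreeTransp

/-- Let S be a set of abstract root subgroups of G and A a member of S having a rank one partner in S. Then A meets every other member of S trivially. -/
theorem result {G : Type*} [Group G] {S : Set (Subgroup G)} (hS : Cfsg.IsRootSubgroupSet S)
    {A : Subgroup G} (hA : ¬ Cfsg.IsIsolatedIn (Cfsg.FAdj S) S A) (hAS : A ∈ S) : ∀ B ∈ S, A ⊓ B = ⊥ ∨ A = B := by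
  intro B hB
  refine or_iff_not_imp_left.2 fun hne => ?_
  obtain ⟨x, ⟨hxA, hxB⟩, hx1⟩ := (Subgroup.bot_or_exists_ne_one (A ⊓ B)).resolve_left hne
  obtain ⟨D, hDS, hp⟩ := RootSets.exists_partner hS hA hAS
  have hmoved : Cfsg.conjBy D x⁻¹ ≠ D := fun e => hx1 <| inv_eq_one.1 <|
    RankOne.inf_normalizer hp (A.inv_mem hxA) (RankOne.conjBy_eq_iff.1 e)
  have hΩ : Cfsg.conjBy D x⁻¹ ∈ Cfsg.unipotentSubgroups A D :=
    RankOne.conj_mem (RankOne.right_mem hp) (Subgroup.mem_sup_left (A.inv_mem hxA))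
  rcases hS.pair B hB D hDS with h | h | h
  · exact absurd (RankOne.conjBy_eq_iff.2 (RankOne.mem_normalizer_of_centralizes fun d hd =>
      RankOne.commutator_eq_bot_iff.1 h _ (B.inv_mem hxB) d hd)) hmoved
  · obtain ⟨d, hd, -, e⟩ := h.cond_left x hxB hx1
    have hBΩ : B ∈ Cfsg.unipotentSubgroups A D := by
      rw [RankOne.eq_conjBy_inv e, inv_inv]
      exact RankOne.conj_mem hΩ (Subgroup.mem_sup_right hd)
    by_contra hAB
    exact hx1 (RankOne.eq_one_of_normalizes hp RankOne.self_mem hBΩ hAB hxA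
      (Subgroup.le_normalizer hxB))
  · exact absurd (RankOne.not_commute_mem hp hΩ (RankOne.right_mem hp)
      (RootSets.case_conj_commute hS hDS h (B.inv_mem hxB))) hmoved

end Cfsg.Agent.S5028
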