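import Cfsg.Statements.S3305
import Mathlib

set_option linter.all false

set_option autoImplicit false
open Cfsg

namespace Cfsg.Agent.S3305

theorem map_sylow_comap {G G' : Type*} [Group G] [Finite G] [Group G'] {f : G →* G'}
    (hf : Function.Surjective f) {p : ℕ} [Fact p.Prime] (Q : Subgroup G') (hQ : IsPGroup p Q)
    (R : Sylow p ↥(Q.comap f)) : ((R : Subgroup ↥(Q.comap f)).map (Q.comap f).subtype).map f = Q := by
  apply le_antisymm
  · rintro _ ⟨_, ⟨r, -, rfl⟩, rfl⟩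
    exact r.2
  · intro q hq
    let g : ↥(Q.comap f) →* Q := f.subgroupComap Q
    have hg : Function.Surjective g := f.subgroupComap_surjective_of_surjective Q hf
    haveI : Finite Q := Finite.of_surjective _ hg
    obtain ⟨S⟩ : Nonempty (Sylow p Q) := inferInstance
    have htop : ((R.mapSurjective hg : Sylow p Q) : Subgroup Q) = ⊤ :=
      ((R.mapSurjective hg).is_maximal' (Q := ⊤) (hQ.of_equiv Subgroup.topEquiv.symm) le_top).symm
    have h : (⟨q, hq⟩ : Q) ∈ ((R.mapSurjective hg : Sylow p Q) : Subgroup Q) := htop ▸ Subgroup.mem_top _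
    obtain ⟨r, hr, hrq⟩ := h
    exact ⟨_, ⟨r, hr, rfl⟩, congrArg Subtype.val hrq⟩

theorem main {G : Type*} [Group G] [Finite G] (H : Subgroup G) [H.Normal] (S : Sylow 2 (G ⧸ H))
    (D : Subgroup G) (hD : IsPGroup 2 D) (hDS : D.map (QuotientGroup.mk' H) ≤ (S : Subgroup (G ⧸ H))) :
    ∃ S₀ : Sylow 2 G, D ≤ S₀ ∧ (S₀ : Subgroup G).map (QuotientGroup.mk' H) = (S : Subgroup (G ⧸ H)) := by
  set L := (S : Subgroup (G ⧸ H)).comap (QuotientGroup.mk' H) with hL
  have hDL : D ≤ L := Subgroup.map_le_iff_le_comap.1 hDS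
  obtain ⟨R, hR⟩ := IsPGroup.exists_le_sylow (p := 2) (P := D.subgroupOf L) hD.comap_subtype
  have hmap := map_sylow_comap (QuotientGroup.mk'_surjective H) (S : Subgroup (G ⧸ H)) S.2 R
  obtain ⟨S₀, hS₀⟩ := (R.2.map L.subtype).exists_le_sylow
  refine ⟨S₀, fun d hd => hS₀ ⟨⟨d, hDL hd⟩, hR hd, rfl⟩, ?_⟩
  exact S.is_maximal' (S₀.2.map _) (hmap ▸ Subgroup.map_mono hS₀)

/-- If any two distinct Sylow 2-subgroups of the finite group G intersect in a cyclic group, then the same holds in every quotient group G/H, H a normal subgroup of G. -/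
theorem result {G : Type*} [Group G] [Finite G]
    (hC : ∀ S T : Sylow 2 G, S ≠ T → IsCyclic ↥((S : Subgroup G) ⊓ (T : Subgroup G))) (H : Subgroup G) [H.Normal] :
    ∀ S T : Sylow 2 (G ⧸ H), S ≠ T → IsCyclic ↥((S : Subgroup (G ⧸ H)) ⊓ (T : Subgroup (G ⧸ H))) := by
  intro S T hne
  haveI : Fact (Nat.Prime 2) := ⟨Nat.prime_two⟩
  set f := QuotientGroup.mk' H with hf
  set I := (S : Subgroup (G ⧸ H)) ⊓ (T : Subgroup (G ⧸ H)) with hI
  obtain ⟨R⟩ : Nonempty (Sylow 2 ↥(I.comap f)) := inferInstance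
  set D := (R : Subgroup ↥(I.comap f)).map (I.comap f).subtype with hD
  have hmap : D.map f = I := map_sylow_comap (QuotientGroup.mk'_surjective H) I (S.2.to_le inf_le_left) R
  obtain ⟨S₀, hS₀, hS₁⟩ := main H S D (R.2.map _) (hmap.le.trans inf_le_left)
  obtain ⟨T₀, hT₀, hT₁⟩ := main H T D (R.2.map _) (hmap.le.trans inf_le_right)
  have hne' : S₀ ≠ T₀ := by
    rintro rfl
    exact hne (Sylow.ext (hS₁.symm.trans hT₁))
  haveI := hC S₀ T₀ hne'
  haveI : IsCyclic ↥((S₀ : Subgroup G) ⊓ (T₀ : Subgroup G)) := hC S₀ T₀ hne'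
  haveI : IsCyclic D := isCyclic_of_injective (Subgroup.inclusion (le_inf hS₀ hT₀))
    (Subgroup.inclusion_injective _)
  rw [← hmap]
  exact isCyclic_of_surjective (f.subgroupMap D) (f.subgroupMap_surjective D)

end Cfsg.Agent.S3305
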