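import Cfsg.Statements.S3303
import Mathlib
import Cfsg.Agent.S3305
import Cfsg.Agent.InvChar.Solvable

set_option linter.all false

set_option autoImplicit false
open Cfsg

namespace Cfsg.Agent.S3303

/-- Let G be a finite solvable group in which the intersection of any two distinct Sylow 2-subgroups is cyclic. Then G/O(G) has a normal Sylow 2-subgroup, where O(G) is the largest normal subgroup of odd order. -/
theorem result {G : Type*} [Group G] [Finite G] (hs : Group.IsSolvable G)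
    (hC : ∀ S T : Sylow 2 G, S ≠ T → IsCyclic ↥((S : Subgroup G) ⊓ (T : Subgroup G))) :
    ∃ P : Sylow 2 (G ⧸ Cfsg.oddCore G), (P : Subgroup (G ⧸ Cfsg.oddCore G)).Normal := by
  haveI : Fact (Nat.Prime 2) := ⟨Nat.prime_two⟩
  have hC' := Cfsg.Agent.S3305.result hC (Cfsg.oddCore G)
  have hsol : Group.IsSolvable (G ⧸ Cfsg.oddCore G) := by
    haveI := hs
    infer_instance
  have hO : Cfsg.oddCore (G ⧸ Cfsg.oddCore G) = ⊥ := Cfsg.Agent.Cores.pPrimeCore_quotient_self 2
  obtain ⟨P⟩ : Nonempty (Sylow 2 (G ⧸ Cfsg.oddCore G)) := inferInstance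
  by_cases hP : (P : Subgroup (G ⧸ Cfsg.oddCore G)).Normal
  · exact ⟨P, hP⟩
  have hns : ∃ T : Sylow 2 (G ⧸ Cfsg.oddCore G), T ≠ P := by
    by_contra h
    push Not at h
    haveI : Subsingleton (Sylow 2 (G ⧸ Cfsg.oddCore G)) := ⟨fun a b => (h a).trans (h b).symm⟩
    exact hP (Sylow.normal_of_subsingleton P)
  obtain ⟨T, hT⟩ := hns
  haveI := hC' T P hT
  set Q := Cfsg.pCore 2 (G ⧸ Cfsg.oddCore G) with hQ
  haveI hQn : Q.Normal := Subgroup.sSup_normal _ (fun N hN => hN.1)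
  haveI : IsCyclic Q := isCyclic_of_injective (Subgroup.inclusion
    (le_inf (Cfsg.Agent.Cores.pCore_le_sylow T) (Cfsg.Agent.Cores.pCore_le_sylow P)))
    (Subgroup.inclusion_injective _)
  have hp := Cfsg.Agent.InvChar.Solvable.isPGroup_of_isPGroup_mulAut Q
    (Cfsg.Agent.InvChar.Solvable.centralizer_pCore_two_le hsol hO) (Cfsg.Agent.Cores.pCore_isPGroup 2)
    (Cfsg.Agent.InvChar.Solvable.isPGroup_mulAut_of_isCyclic (Cfsg.Agent.Cores.pCore_isPGroup 2))
  have htop : (P : Subgroup (G ⧸ Cfsg.oddCore G)) = ⊤ :=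
    (P.is_maximal' (Q := ⊤) (hp.of_equiv Subgroup.topEquiv.symm) le_top).symm
  refine ⟨P, ?_⟩
  rw [htop]
  infer_instance

end Cfsg.Agent.S3303
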