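import Cfsg.Statements.S3861
import Mathlib
import Cfsg.Agent.Lib.Involutions.BaerSuzuki
import Cfsg.Agent.Lib.Coprime.SchurZassenhaus
import Cfsg.Agent.Lib.Cores.Basic

set_option autoImplicit false
open Cfsg Pointwise
open scoped commutatorElement

namespace Cfsg.Agent.S3861

/-- A finite group G has no non-identity element of odd order that is conjugate to its inverse if and only if the Sylow 2-subgroups of G are normal. -/
theorem result {G : Type*} [Group G] [Finite G] (P : Sylow 2 G) : (∀ x : G, x ≠ 1 → Odd (orderOf x) → ¬ IsConj x x⁻¹) ↔ (P : Subgroup G).Normal := by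
  haveI : Fact (Nat.Prime 2) := ⟨Nat.prime_two⟩
  constructor
  · intro h
    by_contra hPn
    set O := Cfsg.pCore 2 G
    have hO : IsPGroup 2 O := Cfsg.Agent.Cores.pCore_isPGroup 2
    haveI : O.Normal := Cfsg.Agent.Cores.pCore_normal 2
    obtain ⟨b, hb⟩ : ∃ b : G ⧸ O, orderOf b = 2 := by
      have hd : 2 ∣ Nat.card (G ⧸ O) := by
        by_contra hd
        have hle : O ≤ (P : Subgroup G) := Cfsg.Agent.Cores.pCore_le_sylow P
        have heq : (P : Subgroup G) = O := by
          refine (Subgroup.eq_of_le_of_card_ge hle (Nat.le_of_dvd Nat.card_pos ?_)).symm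
          obtain ⟨k, hk⟩ := IsPGroup.iff_card.mp P.isPGroup'
          have h1 := Subgroup.card_subgroup_dvd_card (P : Subgroup G)
          rw [← O.card_mul_index, Subgroup.index_eq_card, hk] at h1
          rw [hk]
          exact (Nat.Coprime.pow_left k ((Nat.prime_two.coprime_iff_not_dvd).mpr hd)).dvd_of_dvd_mul_right h1
        exact hPn (heq ▸ inferInstance)
      exact exists_prime_orderOf_dvd_card' 2 hd
    obtain ⟨hh, hh1, hhodd, hinv⟩ := Cfsg.Agent.Involutions.BaerSuzuki.exists_inverted_odd b hb (by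
      intro N hN hN2 hbN
      haveI := hN
      have : N ≤ Cfsg.pCore 2 (G ⧸ O) := Cfsg.Agent.Cores.le_pCore hN2
      rw [Cfsg.Agent.Cores.pCore_quotient_self] at this
      have hb1 := Subgroup.mem_bot.mp (this hbN)
      rw [hb1, orderOf_one] at hb
      omega)
    obtain ⟨y, rfl⟩ := QuotientGroup.mk'_surjective O hh
    obtain ⟨t, rfl⟩ := QuotientGroup.mk'_surjective O b
    -- lift to an element of odd order
    obtain ⟨k, m, hm, hkm⟩ := Nat.exists_eq_two_pow_mul_odd (orderOf_pos y).ne'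
    set x := y ^ 2 ^ k
    have hxm : orderOf x = m := by
      rw [orderOf_pow_of_dvd (by positivity) (hkm ▸ dvd_mul_right _ _), hkm, Nat.mul_div_cancel_left _ (by positivity)]
    have hxbar : QuotientGroup.mk' O x ≠ 1 := by
      intro h1
      rw [map_pow] at h1
      exact hh1 (orderOf_eq_one_iff.mp (Nat.eq_one_of_dvd_coprimes
        (Nat.Coprime.pow_left k (Nat.coprime_two_left.mpr hhodd)) (orderOf_dvd_of_pow_eq_one h1) dvd_rfl))
    have hxinv : QuotientGroup.mk' O (t * x * t⁻¹) = QuotientGroup.mk' O x⁻¹ := by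
      simp only [x, map_mul, map_inv, map_pow]
      rw [← conj_pow, hinv, inv_pow]
    set X := Subgroup.zpowers x
    have hcard : (Nat.card O).Coprime (Nat.card X) := by
      obtain ⟨j, hj⟩ := IsPGroup.iff_card.mp hO
      rw [hj, Nat.card_zpowers, hxm]
      exact Nat.Coprime.pow_left j (Nat.coprime_two_left.mpr hm)
    have hXt : O ⊔ X.map (MulAut.conj t).toMonoidHom = O ⊔ X := by
      have key : ∀ a b : G, QuotientGroup.mk' O a = QuotientGroup.mk' O b →
          Subgroup.zpowers a ≤ O ⊔ Subgroup.zpowers b := by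
        intro a b hab
        rw [Subgroup.zpowers_le]
        have : b⁻¹ * a ∈ O := QuotientGroup.eq.mp hab.symm
        have h2 := mul_mem (Subgroup.mem_sup_right (Subgroup.mem_zpowers b) : b ∈ O ⊔ Subgroup.zpowers b) (Subgroup.mem_sup_left this)
        rwa [mul_inv_cancel_left] at h2
      rw [MonoidHom.map_zpowers]
      refine le_antisymm (sup_le le_sup_left ?_) (sup_le le_sup_left ?_)
      · refine (key _ x⁻¹ hxinv).trans (sup_le_sup_left ?_ O)
        rw [Subgroup.zpowers_inv]
      · refine (key x (t * x * t⁻¹)⁻¹ ?_).trans (sup_le_sup_left ?_ O)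
        · rw [map_inv, hxinv, map_inv, inv_inv]
        · rw [Subgroup.zpowers_inv]; rfl
    obtain ⟨n, hnO, hn⟩ := Cfsg.Agent.Coprime.exists_conj_eq_of_sup_eq (N := O)
      (H := X.map (MulAut.conj t).toMonoidHom) (K := X)
      Subgroup.le_normalizer_of_normal Subgroup.le_normalizer_of_normal hXt
      (by rwa [Subgroup.card_map_of_injective (MulAut.conj t).injective]) hcard
      (Or.inl (Cfsg.Agent.Coprime.isSolvable_of_isPGroup hO))
    have hmem : n * (t * x * t⁻¹) * n⁻¹ ∈ X := by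
      rw [← hn]
      exact Subgroup.smul_mem_pointwise_smul _ (MulAut.conj n) _ ⟨x, Subgroup.mem_zpowers x, rfl⟩
    have heq : n * (t * x * t⁻¹) * n⁻¹ = x⁻¹ := by
      have hd : n * (t * x * t⁻¹) * n⁻¹ * x ∈ O ⊓ X := by
        refine Subgroup.mem_inf.mpr ⟨?_, mul_mem hmem (Subgroup.mem_zpowers x)⟩
        rw [← QuotientGroup.eq_one_iff, ← QuotientGroup.mk'_apply, map_mul _ _ x, map_mul _ _ n⁻¹, map_mul _ n,
          hxinv, map_inv, map_inv, show QuotientGroup.mk' O n = 1 from (QuotientGroup.eq_one_iff n).mpr hnO]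
        group
      rw [(Cfsg.Agent.Coprime.disjoint_of_coprime hcard).eq_bot, Subgroup.mem_bot] at hd
      exact eq_inv_of_mul_eq_one_left hd
    exact h x (fun h1 => hxbar (by rw [h1, map_one])) (hxm ▸ hm)
      (isConj_iff.mpr ⟨n * t, by rw [← heq]; group⟩)
  · intro hn x hx1 hodd hreal
    obtain ⟨c, hc⟩ := isConj_iff.mp hreal
    obtain ⟨k, m, hm, hkm⟩ := Nat.exists_eq_two_pow_mul_odd (orderOf_pos c).ne'
    haveI := hn
    have hcx : c * x⁻¹ * c⁻¹ = x := by simpa [mul_assoc] using congrArg (fun y => y⁻¹) hc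
    have hpow : ∀ i : ℕ, c ^ (2 * i + 1) * x * (c ^ (2 * i + 1))⁻¹ = x⁻¹ := by
      intro i
      induction i with
      | zero => simpa using hc
      | succ i ih =>
        rw [show 2 * (i + 1) + 1 = 2 + (2 * i + 1) by omega, pow_add]
        calc c ^ 2 * c ^ (2 * i + 1) * x * (c ^ 2 * c ^ (2 * i + 1))⁻¹
            = c ^ 2 * (c ^ (2 * i + 1) * x * (c ^ (2 * i + 1))⁻¹) * (c ^ 2)⁻¹ := by group
          _ = c * (c * x⁻¹ * c⁻¹) * c⁻¹ := by rw [ih, pow_two]; group
          _ = x⁻¹ := by rw [hcx, hc]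
    obtain ⟨i, hi⟩ := hm
    set t := c ^ m
    have htx : t * x * t⁻¹ = x⁻¹ := by rw [show t = c ^ (2 * i + 1) by simp [t, hi]]; exact hpow i
    have htP : t ∈ (P : Subgroup G) := by
      have htk : orderOf t = 2 ^ k := by
        rw [orderOf_pow_of_dvd (by omega) (hkm ▸ Dvd.intro_left _ rfl), hkm, Nat.mul_div_cancel _ (by omega)]
      rw [← QuotientGroup.eq_one_iff (N := (P : Subgroup G)), ← orderOf_eq_one_iff]
      refine Nat.eq_one_of_dvd_coprimes (a := 2 ^ k) (b := (P : Subgroup G).index)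
        (Nat.Coprime.pow_left k (Nat.prime_two.coprime_iff_not_dvd.mpr P.not_dvd_index))
        (htk ▸ orderOf_map_dvd (QuotientGroup.mk' (P : Subgroup G)) t) ?_
      exact Subgroup.index_eq_card (P : Subgroup G) ▸ orderOf_dvd_natCard _
    have hx2 : x ^ 2 ∈ (P : Subgroup G) := by
      have h5 : t * (x * t⁻¹ * x⁻¹) ∈ (P : Subgroup G) := mul_mem htP (hn.conj_mem _ (inv_mem htP) x)
      rw [show t * (x * t⁻¹ * x⁻¹) = t * x * t⁻¹ * x⁻¹ by group, htx] at h5
      simpa [pow_two] using inv_mem h5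
    obtain ⟨j, hj⟩ := IsPGroup.iff_orderOf.mp P.isPGroup' ⟨x ^ 2, hx2⟩
    rw [Subgroup.orderOf_mk, Nat.Coprime.orderOf_pow (Nat.coprime_two_right.mpr hodd)] at hj
    exact hx1 (orderOf_eq_one_iff.mp (Nat.eq_one_of_dvd_coprimes
      (Nat.Coprime.pow_left j (Nat.coprime_two_left.mpr hodd)) hj.dvd dvd_rfl))

end Cfsg.Agent.S3861
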