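import Cfsg.Statements.S2751
import Cfsg.Agent.Lib.CharP.GoldschmidtBound
-- import your own Cfsg.Agent.* helpers here

set_option autoImplicit false
open Cfsg

namespace Cfsg.Agent.S2751

/-- Goldschmidt's bound for amalgams of index (3, 3): let M₁ and M₂ be finite subgroups of a group G such that M₁ ⊓ M₂ is a Sylow 2-subgroup of both M₁ and M₂, each quotient Mᵢ / O₂(Mᵢ) is isomorphic to the symmetric group of degree 3, and no nontrivial subgroup of M₁ ⊓ M₂ is normal in both M₁ and M₂. Then M₁ ⊓ M₂ has order at most 2^7. -/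
theorem result {G : Type*} [Group G] (M₁ M₂ : Subgroup G) [Finite M₁] [Finite M₂] (ha₁ : ∃ P : Sylow 2 M₁, (P : Subgroup M₁) = (M₁ ⊓ M₂).subgroupOf M₁) (ha₂ : ∃ P : Sylow 2 M₂, (P : Subgroup M₂) = (M₁ ⊓ M₂).subgroupOf M₂) (hb₁ : Nonempty (M₁ ⧸ Cfsg.pCore 2 M₁ ≃* Equiv.Perm (Fin 3))) (hb₂ : Nonempty (M₂ ⧸ Cfsg.pCore 2 M₂ ≃* Equiv.Perm (Fin 3))) (hc : ∀ N : Subgroup G, N ≤ M₁ ⊓ M₂ → (N.subgroupOf M₁).Normal → (N.subgroupOf M₂).Normal → N = ⊥) : Nat.card ↥(M₁ ⊓ M₂) ≤ 2 ^ 7 := by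
  have : Fact (Nat.Prime 2) := ⟨Nat.prime_two⟩
  set H := M₁ ⊔ M₂ with hH
  set N₁ := M₁.subgroupOf H with hN₁
  set N₂ := M₂.subgroupOf H with hN₂
  have e₁ : N₁.map H.subtype = M₁ := Subgroup.map_subgroupOf_eq_of_le le_sup_left
  have e₂ : N₂.map H.subtype = M₂ := Subgroup.map_subgroupOf_eq_of_le le_sup_right
  have hinj := H.subtype_injective
  have e : (N₁ ⊓ N₂).map H.subtype = M₁ ⊓ M₂ := by rw [Subgroup.map_inf _ _ _ hinj, e₁, e₂]
  have hf₁ : Finite ↥N₁ := Finite.of_equiv _ (Subgroup.subgroupOfEquivOfLe le_sup_left).symm.toEquiv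
  have hf₂ : Finite ↥N₂ := Finite.of_equiv _ (Subgroup.subgroupOfEquivOfLe le_sup_right).symm.toEquiv
  have syl : ∀ (M : Subgroup G) (N : Subgroup H) [Finite M] [Finite N], N.map H.subtype = M →
      M₁ ⊓ M₂ ≤ M → N₁ ⊓ N₂ ≤ N → (∃ P : Sylow 2 M, (P : Subgroup M) = (M₁ ⊓ M₂).subgroupOf M) →
      Cfsg.Agent.CharP.IsSylIn 2 (N₁ ⊓ N₂) N := by
    intro M N _ _ hM hle hle' ⟨P, hP⟩
    have hs : Cfsg.Agent.CharP.IsSylIn 2 (M₁ ⊓ M₂) M :=
      ⟨P, by rw [hP, Subgroup.map_subgroupOf_eq_of_le hle]⟩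
    refine Cfsg.Agent.CharP.isSylIn_of_not_dvd ?_ hle' ?_
    · exact hs.isPGroup.of_equiv ((Subgroup.equivMapOfInjective (N₁ ⊓ N₂) H.subtype hinj).trans
        (MulEquiv.subgroupCongr e)).symm
    · rw [← Subgroup.relIndex_map_map_of_injective _ _ hinj, e, hM]
      exact hs.not_dvd
  have idx : ∀ (M : Subgroup G) (N : Subgroup H) [Finite M], N.map H.subtype = M →
      Nonempty (M ⧸ Cfsg.pCore 2 M ≃* Equiv.Perm (Fin 3)) → (Cfsg.pCoreOf 2 N).relIndex N = 2 * 3 := by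
    intro M N _ hM ⟨eq⟩
    rw [← Subgroup.relIndex_map_map_of_injective _ _ hinj, ← Cfsg.Agent.CharP.pCoreOf_map hinj, hM,
      Subgroup.relIndex, Cfsg.pCoreOf, Subgroup.subgroupOf,
      Subgroup.comap_map_eq_self_of_injective M.subtype_injective, Subgroup.index_eq_card,
      Nat.card_congr eq.toEquiv, Nat.card_perm, Nat.card_fin]
    rfl
  have hcard : Nat.card ↥(M₁ ⊓ M₂) = Nat.card ↥(N₁ ⊓ N₂) := by
    rw [← e, Subgroup.card_map_of_injective hinj]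
  rw [hcard]
  refine Cfsg.Agent.CharP.CubicAmalgam.bound_of ?_ ?_ (syl M₁ N₁ e₁ inf_le_left inf_le_left ha₁)
    (syl M₂ N₂ e₂ inf_le_right inf_le_right ha₂) (idx M₁ N₁ e₁ hb₁) (idx M₂ N₂ e₂ hb₂)
  · refine Subgroup.map_injective hinj ?_
    rw [Subgroup.map_sup, e₁, e₂, ← MonoidHom.range_eq_map, Subgroup.range_subtype]
  · intro N hN hn
    have hN' : N.map H.subtype ≤ M₁ ⊓ M₂ := e ▸ Subgroup.map_mono hN
    have hnorm : H ≤ Subgroup.normalizer (N.map H.subtype : Set G) :=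
      Cfsg.Agent.CharP.CubicAmalgam.normalizer_of_conj fun g hg x hx => by
        obtain ⟨y, hy, rfl⟩ := hx
        exact ⟨_, hn.conj_mem y hy ⟨g, hg⟩, rfl⟩
    have hb := hc _ hN' (Subgroup.normal_subgroupOf_of_le_normalizer (le_sup_left.trans hnorm))
      (Subgroup.normal_subgroupOf_of_le_normalizer (le_sup_right.trans hnorm))
    exact (Subgroup.map_eq_bot_iff_of_injective _ hinj).1 hb

end Cfsg.Agent.S2751
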