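import Cfsg.Statements.S0300
import Cfsg.Agent.Lib.Classical.OrthIso
import Cfsg.Agent.Lib.Classical.SL2Rep
import Cfsg.Agent.Lib.Classical.QuadExt
import Cfsg.Agent.S0306
import Cfsg.Agent.S0824

set_option autoImplicit false
open Cfsg

namespace Cfsg.Agent.S0300

open Matrix Cfsg.Agent.Classical Cfsg.Agent.Classical.OrthForms Cfsg.Agent.Forms.PlusStd
open Cfsg.Agent.Forms

variable {F K : Type*} [Field F] [Fintype F] [Field K] [Fintype K] {q : ℕ}

local notation "Idx" => ((Fin 1 ⊕ Fin 1) ⊕ Fin 2)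
local notation "M2" => Matrix (Fin 2) (Fin 2) K

theorem index_two (a b : F) (hF : Fintype.card F = 2)
    (hab : ∀ z₁ z₂ : F, z₁ ^ 2 + a * z₁ * z₂ + b * z₂ ^ 2 = 0 → z₁ = 0 ∧ z₂ = 0) :
    (Cfsg.Omega F (Cfsg.quadFormMinus 1 F a b)).index = 2 := by
  classical
  have hu : ∀ x : F, x ≠ 0 → x = 1 := fun x hx => by
    have h := FiniteField.pow_card_sub_one_eq_one x hx
    rw [hF] at h
    simpa using h
  have hb : b = 1 := hu b fun h => one_ne_zero (hab 0 1 (by rw [h]; ring)).2
  have ha : a = 1 := hu a fun h => one_ne_zero (hab 1 1 (by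
    rw [h, hb]
    have : CharP F 2 := CharTwo.of_one_ne_zero_of_two_eq_zero one_ne_zero (by
      have h0 := Nat.cast_card_eq_zero F
      rwa [hF] at h0)
    linear_combination CharTwo.two_eq_zero (R := F))).1
  subst ha; subst hb
  obtain ⟨e⟩ := S0824.result hF
  rw [← Subgroup.index_map_equiv (commutator _) e]
  have h : (commutator ↥(Cfsg.isometryGroup F (Cfsg.quadFormMinus 1 F 1 1))).map e.toMonoidHom =
      commutator (Equiv.Perm (Fin 5)) := by
    rw [commutator_def, commutator_def, Subgroup.map_commutator,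
      Subgroup.map_top_of_surjective _ e.surjective]
  rw [show (commutator ↥(Cfsg.isometryGroup F (Cfsg.quadFormMinus 1 F 1 1))).map
    (e : _ →* Equiv.Perm (Fin 5)) = _ from h, alternatingGroup.commutator_perm_eq (by simp)]
  exact alternatingGroup.index_eq_two

section data

variable (hF : Fintype.card F = q) (hK : Fintype.card K = q ^ 2) (i : F →+* K) (ω : K) {a b : F}
  (hfix : ∀ x, i x ^ q = i x) (himg : ∀ z, z ^ q = z → ∃ x, i x = z) (hne : ω ^ q ≠ ω)
  (hsum : ω + ω ^ q = i a) (hprod : ω * ω ^ q = i b)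

/-- The vectors as hermitian matrices. -/
def emb (v : Idx → F) : M2 :=
  !![i (v (.inl (.inl 0))), QuadExt.toK i ω (v (.inr 0)) (v (.inr 1));
    QuadExt.toK i ω (v (.inr 0)) (v (.inr 1)) ^ q, -i (v (.inl (.inr 0)))]

include hF hK hfix in
theorem emb_add (u v : Idx → F) : emb (q := q) i ω (u + v) = emb (q := q) i ω u + emb (q := q) i ω v := by
  simp only [emb, QuadExt.conj_toK hF i ω hfix hK]
  ext r s
  fin_cases r <;> fin_cases s <;> simp [QuadExt.toK] <;> ring

include hF hK hfix in
theorem emb_smul (c : F) (v : Idx → F) :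
    emb (q := q) i ω (c • v) = i c • emb (q := q) i ω v := by
  simp only [emb, QuadExt.conj_toK hF i ω hfix hK]
  ext r s
  fin_cases r <;> fin_cases s <;> simp [QuadExt.toK] <;> ring

include hF hK hfix hne in
theorem emb_injective : Function.Injective (emb (q := q) i ω) := fun u v h => by
  have h00 := congrFun (congrFun h 0) 0
  have h01 := congrFun (congrFun h 0) 1
  have h11 := congrFun (congrFun h 1) 1
  simp [emb] at h00 h01 h11
  have hz := (QuadExt.toK_bijective hF i ω hfix hne hK).1
    (a₁ := (u (.inr 0), u (.inr 1))) (a₂ := (v (.inr 0), v (.inr 1))) h01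
  rw [Prod.mk.injEq] at hz
  funext j
  rcases j with (j | j) | j <;> fin_cases j
  exacts [i.injective h00, i.injective h11, hz.1, hz.2]

include hF hK hfix himg hne in
theorem exists_emb (Y : M2) (h : ∀ r s, Y r s ^ q = Y s r) : ∃ v, emb (q := q) i ω v = Y := by
  obtain ⟨x, hx⟩ := himg _ (h 0 0)
  obtain ⟨y, hy⟩ := himg _ (h 1 1)
  obtain ⟨z, hz⟩ := (QuadExt.toK_bijective hF i ω hfix hne hK).2 (Y 0 1)
  refine ⟨Sum.elim (Sum.elim (fun _ => x) fun _ => -y) ![z.1, z.2], ?_⟩
  have hz' : QuadExt.toK i ω z.1 z.2 = Y 0 1 := hz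
  ext r s
  fin_cases r <;> fin_cases s <;> simp [emb, hx, hy, hz', h 0 1]

include hF hK hfix in
theorem emb_herm (v : Idx → F) : ∀ r s, emb (q := q) i ω v r s ^ q = emb (q := q) i ω v s r := by
  intro r s
  fin_cases r <;> fin_cases s <;> simp [emb, hfix, HermStd.pow_q_q hK]
  rw [← HermStd.qHom_apply hK, map_neg, HermStd.qHom_apply, hfix]

include hF hK hfix hsum hprod in
theorem det_emb (v : Idx → F) : (emb (q := q) i ω v).det = -i (minQ F 1 a b v) := by
  rw [det_fin_two, minQ_apply, plusQ_apply]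
  simp [emb, Cfsg.quadFormPlus, QuadExt.conj_toK hF i ω hfix hK]
  have h := QuadExt.toK_mul_conj i ω hsum hprod (v (.inr 0)) (v (.inr 1))
  simp only [map_add, map_mul, map_pow] at h ⊢
  linear_combination -h

/-- The conjugate matrix. -/
def bar (g : M2) : M2 := g.map (HermStd.qHom hK)

/-- The hermitian action. -/
def sand (g : M2) (Y : M2) : M2 := g * Y * (bar hK g)ᵀ

include hF hfix himg hne in
theorem exists_image (g : SpecialLinearGroup (Fin 2) K) (v : Idx → F) :
    ∃ w, emb (q := q) i ω w = sand hK (g : M2) (emb (q := q) i ω v) := by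
  refine exists_emb hF hK i ω hfix himg hne _ fun r s => ?_
  have hX : (bar hK (emb (q := q) i ω v))ᵀ = emb (q := q) i ω v := by
    ext r s; exact emb_herm hF hK i ω hfix v s r
  have h : (bar hK (sand hK (g : M2) (emb (q := q) i ω v)))ᵀ =
      sand hK (g : M2) (emb (q := q) i ω v) := by
    have hbb : bar hK (bar hK (g : M2)) = g := by ext r s; exact HermStd.pow_q_q hK _
    have hmul : ∀ A B : M2, bar hK (A * B) = bar hK A * bar hK B := fun A B => Matrix.map_mul
    have htr : ∀ A : M2, bar hK Aᵀ = (bar hK A)ᵀ := fun A => rfl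
    rw [sand, hmul, hmul, htr, hbb, transpose_mul, transpose_mul, transpose_transpose, hX,
      Matrix.mul_assoc]
  exact congrFun (congrFun h s) r

/-- The image vector. -/
noncomputable def act4 (g : SpecialLinearGroup (Fin 2) K) (v : Idx → F) : Idx → F :=
  (exists_image hF hK i ω hfix himg hne g v).choose

theorem emb_act4 (g : SpecialLinearGroup (Fin 2) K) (v : Idx → F) :
    emb (q := q) i ω (act4 hF hK i ω hfix himg hne g v) = sand hK (g : M2) (emb (q := q) i ω v) :=
  (exists_image hF hK i ω hfix himg hne g v).choose_spec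

/-- The four dimensional representation. -/
noncomputable def rep4 : SpecialLinearGroup (Fin 2) K →* Module.End F (Idx → F) where
  toFun g :=
    { toFun := act4 hF hK i ω hfix himg hne g
      map_add' := fun u v => emb_injective hF hK i ω hfix hne (by
        simp only [emb_add hF hK i ω hfix, emb_act4, sand, mul_add, add_mul])
      map_smul' := fun c v => emb_injective hF hK i ω hfix hne (by
        simp only [RingHom.id_apply, emb_smul hF hK i ω hfix, emb_act4, sand]
        simp) }
  map_one' := LinearMap.ext fun v => emb_injective hF hK i ω hfix hne (by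
    show emb (q := q) i ω (act4 hF hK i ω hfix himg hne 1 v) = emb (q := q) i ω v
    rw [emb_act4, sand, bar, Matrix.SpecialLinearGroup.coe_one,
      Matrix.map_one _ (map_zero _) (map_one _), transpose_one, Matrix.one_mul, Matrix.mul_one])
  map_mul' g h := LinearMap.ext fun v => emb_injective hF hK i ω hfix hne (by
    show emb (q := q) i ω (act4 hF hK i ω hfix himg hne (g * h) v) =
      emb (q := q) i ω (act4 hF hK i ω hfix himg hne g (act4 hF hK i ω hfix himg hne h v))
    rw [emb_act4, emb_act4, emb_act4, sand, sand, sand, Matrix.SpecialLinearGroup.coe_mul, bar,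
      bar, bar, Matrix.map_mul, transpose_mul]
    simp only [Matrix.mul_assoc])

theorem emb_rep4 (g : SpecialLinearGroup (Fin 2) K) (v : Idx → F) :
    emb (q := q) i ω (rep4 hF hK i ω hfix himg hne g v) =
      sand hK (g : M2) (emb (q := q) i ω v) :=
  emb_act4 hF hK i ω hfix himg hne g v

include hsum hprod in
theorem preserves (g : SpecialLinearGroup (Fin 2) K) (v : Idx → F) :
    minQ F 1 a b (rep4 hF hK i ω hfix himg hne g v) = minQ F 1 a b v := by
  refine i.injective (neg_injective ?_)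
  rw [← det_emb hF hK i ω hfix hsum hprod, ← det_emb hF hK i ω hfix hsum hprod, emb_rep4, sand,
    det_mul, det_mul, det_transpose, bar, ← RingHom.mapMatrix_apply, ← RingHom.map_det, g.2]
  simp

end data

/-- PΩ^-_4(q) is isomorphic to PSL_2(q^2). -/
theorem result {F K : Type*} [Field F] [Fintype F] [Field K] [Fintype K] {q : ℕ} (hF : Fintype.card F = q) (hK : Fintype.card K = q ^ 2) (a b : F) (hab : ∀ z₁ z₂ : F, z₁ ^ 2 + a * z₁ * z₂ + b * z₂ ^ 2 = 0 → z₁ = 0 ∧ z₂ = 0) : Nonempty (Cfsg.POmega F (Cfsg.quadFormMinus 1 F a b) ≃* Matrix.ProjectiveSpecialLinearGroup (Fin 2) K) := by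
  obtain ⟨i, ω, hfix, himg, hne, hsum, hprod⟩ := QuadExt.exists_data hF hK hab
  have hq : 1 < q := hF ▸ Fintype.one_lt_card
  rw [← minQ_eq]
  set φ := OrthIso.repHom (minQ F 1 a b) (rep4 hF hK i ω hfix himg hne)
    (preserves hF hK i ω hfix himg hne hsum hprod) with hφ
  have hmem : ∀ g, g ∈ φ.ker ↔ ∀ v, sand hK (g : Matrix (Fin 2) (Fin 2) K) (emb (q := q) i ω v) =
      emb (q := q) i ω v := fun g => by
    rw [MonoidHom.mem_ker, hφ, OrthIso.repHom_eq_one]
    refine forall_congr' fun v => ?_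
    rw [← emb_rep4 hF hK i ω hfix himg hne]
    exact (emb_injective hF hK i ω hfix hne).eq_iff.symm
  have hpm : ∀ c : K, c ^ 2 = 1 → c * c ^ q = 1 := fun c hc => by
    rcases sq_eq_one_iff.1 hc with h | h
    · rw [h, one_pow, one_mul]
    · rw [h, ← HermStd.qHom_apply hK, map_neg, map_one]; simp
  have hsc : ∀ g ∈ φ.ker, g ∈ Subgroup.center (SpecialLinearGroup (Fin 2) K) := fun g hg => by
    have e := (hmem g).1 hg
    have h1 := e (Pi.single (Sum.inl (Sum.inl 0)) 1)
    have h2 := e (Pi.single (Sum.inl (Sum.inr 0)) 1)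
    have h3 := e (Pi.single (Sum.inr 0) 1)
    have a00 := congrFun (congrFun h1 0) 0
    have a11 := congrFun (congrFun h1 1) 1
    have b00 := congrFun (congrFun h2 0) 0
    have c01 := congrFun (congrFun h3 0) 1
    simp [sand, bar, emb, QuadExt.toK, Matrix.mul_apply, Fin.sum_univ_two, zero_pow (show q ≠ 0 by omega)] at a00 a11 b00 c01
    replace a11 := a11.elim id And.left
    try replace b00 := b00.elim id And.left
    have hd := g.2
    rw [det_fin_two, a11, b00] at hd
    rw [b00, a11] at c01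
    simp [zero_pow (show q ≠ 0 by omega)] at c01
    refine (SL2Rep.mem_center_two _).2 ⟨b00, a11, ?_⟩
    have hg0 : g 0 0 ≠ 0 := fun h => by rw [h] at hd; simp at hd
    have e11 : g 1 1 ^ q = g 1 1 := mul_left_cancel₀ hg0 (by linear_combination c01 - hd)
    have e00 : g 0 0 ^ q = g 1 1 := mul_left_cancel₀ hg0 (by linear_combination a00 - hd)
    calc g 0 0 = (g 0 0 ^ q) ^ q := (HermStd.pow_q_q hK _).symm
      _ = g 1 1 := by rw [e00, e11]
  have hcard : Nat.card φ.ker = Nat.card {c : K // c ^ 2 = 1} := by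
    refine OrthIso.natCard_scalar_eq _ (fun g => g 0 0) (fun g hg h hh he => ?_) (fun g hg => ?_)
      (fun c hc => ?_)
    · obtain ⟨a1, a2, a3⟩ := (SL2Rep.mem_center_two _).1 (hsc g hg)
      obtain ⟨b1, b2, b3⟩ := (SL2Rep.mem_center_two _).1 (hsc h hh)
      refine GL2.sl_ext ?_
      ext r s
      fin_cases r <;> fin_cases s
      · exact he
      · exact a1.trans b1.symm
      · exact a2.trans b2.symm
      · exact a3.symm.trans (he.trans b3)
    · obtain ⟨a1, a2, a3⟩ := (SL2Rep.mem_center_two _).1 (hsc g hg)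
      have hd := g.2
      rw [det_fin_two, a1, a2, ← a3] at hd
      linear_combination hd
    · refine ⟨⟨c • 1, by simp [hc]⟩, (hmem _).2 fun v => ?_, ?_⟩
      · show c • (1 : Matrix (Fin 2) (Fin 2) K) * _ * (bar hK (c • (1 : Matrix (Fin 2) (Fin 2) K)))ᵀ = _
        rw [show (bar hK (c • (1 : Matrix (Fin 2) (Fin 2) K)))ᵀ = c ^ q • 1 by
          ext r s; fin_cases r <;> fin_cases s <;> simp [bar, zero_pow (show q ≠ 0 by omega)]]
        rw [Matrix.mul_smul, Matrix.smul_mul, Matrix.smul_mul, Matrix.one_mul, Matrix.mul_one,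
          smul_smul, mul_comm, hpm c hc, one_smul]
      · show (c • (1 : Matrix (Fin 2) (Fin 2) K)) 0 0 = c
        simp
  have h22 : (2 : K) = 0 ↔ (2 : F) = 0 := by
    rw [← map_ofNat i 2, map_eq_zero_iff i i.injective]
  have hsq : Nat.card {c : K // c ^ 2 = 1} = Nat.card {c : F // c ^ 2 = 1} := by
    by_cases h2 : (2 : F) = 0
    · rw [OrthIso.natCard_sq_one_even h2, OrthIso.natCard_sq_one_even (h22.2 h2)]
    · rw [OrthIso.natCard_sq_one_odd h2, OrthIso.natCard_sq_one_odd (mt h22.1 h2)]
  have h4 : 4 ≤ Fintype.card K := by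
    rw [hK]; exact le_trans (by norm_num) (Nat.pow_le_pow_left (show 2 ≤ q by omega) 2)
  refine OrthIso.nonempty_equiv_of_perfect _ φ (SL2Rep.commutator_two_eq_top h4) hsc ?_ ?_
  · have h0 : Nat.card (Cfsg.isometryGroup F ⇑(minQ F 0 a b)) = 2 * (q + 1) := by
      obtain ⟨e⟩ := S0306.result hF a b hab
      rw [minQ_eq, Nat.card_congr e.toEquiv, DihedralGroup.nat_card]
    rw [GL2.natCard_SL_two, hK, natCard_O_min hF hab h0 1, Finset.prod_range_succ,
      Finset.prod_range_zero]
    obtain ⟨r, hr⟩ : ∃ r, q ^ 2 = r + 1 := ⟨q ^ 2 - 1, (Nat.sub_add_cancel (Nat.one_le_pow _ _ (by omega))).symm⟩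
    simp only [show 2 * (0 + 1) = 2 from rfl, show (1 + 1 : ℕ) = 2 from rfl, hr,
      Nat.add_sub_cancel]
    ring
  · rw [hcard, hsq]
    by_cases h2 : q = 2
    · rw [minQ_eq, index_two a b (hF.trans h2) hab, OrthIso.natCard_sq_one_even]
      have h0 := Nat.cast_card_eq_zero F
      rwa [hF, h2] at h0
    · rw [OrthIso.index_omega _ (minQ_nondeg 1 hab) (by simp) (Or.inl (by omega))]

end Cfsg.Agent.S0300
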