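import Cfsg.Statements.S2421
import Cfsg.Agent.Lib.FlagCharacters.Degree
import Cfsg.Agent.Lib.Characters.Induction

set_option autoImplicit false
open Cfsg Cfsg.Agent.Characters

namespace Cfsg.Agent.S2421

/-- Irreducible characters of `GL_n(q)` indexed by partitions: for `ν` a partition of `n` written with `n` non-decreasing parts `ν_0 ≤ ⋯ ≤ ν_{n−1}` (zeros allowed; positions counted from 0) and `λ_i = ν_i + i`, the alternating sum over permutations `κ` of `{0, …, n−1}` of `sign κ` times the permutation character on partial flags of type `λ − κ` (terms with a negative entry omitted) is an irreducible complex character of `GL_n(q)`. For `ν = (1, …, 1)` this is the Steinberg character. -/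
theorem result {F : Type*} [Field F] [Fintype F] {n : ℕ} (ν : Fin n → ℕ) (hmono : Monotone ν) (hsum : ∑ i, ν i = n) :
    Cfsg.IsIrrCharacter (GL (Fin n) F) (Cfsg.unipotentCharacterGL n F ν) := by
  classical
  set lam : Fin n → ℕ := fun i => ν i + i.val with hlam
  have hlinj : StrictMono lam := fun i j hij => by
    have := hmono hij.le
    have : i.val < j.val := hij
    simp only [hlam]
    omega
  set comp : Equiv.Perm (Fin n) → Fin n → ℕ := fun κ i => lam i - (κ i).val with hcomp
  set π : Equiv.Perm (Fin n) → GL (Fin n) F → ℂ :=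
    fun κ => Cfsg.fixedPointCharacter (Cfsg.parabolicGL n F (comp κ)) with hπ
  have hsum' : ∀ κ ∈ Cfsg.FlagCharacters.admSet lam, ∑ i, comp κ i = n := fun κ hκ =>
    Cfsg.FlagCharacters.comp_sum hsum κ (Finset.mem_filter.1 hκ).2
  have hchar : Cfsg.unipotentCharacterGL n F ν =
      ∑ κ ∈ Cfsg.FlagCharacters.admSet lam, ((Equiv.Perm.sign κ : ℤ) : ℂ) • π κ := by
    funext g
    rw [Finset.sum_apply, Cfsg.FlagCharacters.admSet, Finset.sum_filter]
    refine Finset.sum_congr rfl fun κ _ => ?_
    simp only [Pi.smul_apply, smul_eq_mul, hπ, hcomp, hlam]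
  have hperm : ∀ κ, Cfsg.IsCharacter (GL (Fin n) F) (π κ) := by
    intro κ
    have : π κ = Cfsg.indFun (Cfsg.parabolicGL n F (comp κ)) (fun _ => 1) := funext fun g =>
      (Cfsg.Agent.CharTheory.IndBasic.indFun_one_eq_card_fixed _ g).symm
    rw [this]
    exact isCharacter_indFun _ isCharacter_one
  have hgen : Cfsg.IsGeneralizedCharacter (GL (Fin n) F) (Cfsg.unipotentCharacterGL n F ν) := by
    rw [hchar]
    refine isGen_sum _ _ fun κ _ => ?_
    exact isGen_intSmul (isGen_of_isCharacter (hperm κ)) _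
  have hconj : ∀ κ g, starRingEnd ℂ (π κ g) = π κ g := fun κ g => Complex.conj_natCast _
  have hinner : ∀ κ ∈ Cfsg.FlagCharacters.admSet lam, ∀ κ' ∈ Cfsg.FlagCharacters.admSet lam,
      Cfsg.classInner (π κ) (π κ') =
        (Nat.card (Cfsg.FlagCharacters.Mats (comp κ) (comp κ')) : ℂ) := by
    intro κ hκ κ' hκ'
    rw [← Cfsg.FlagCharacters.card_flag_orbits (F := F) (hsum' κ hκ) (hsum' κ' hκ'),
      ← Cfsg.FlagCharacters.fixedPointCharacter_inner, classInner_def]
    simp only [hconj]
    rfl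
  have hnorm : Cfsg.classInner (Cfsg.unipotentCharacterGL n F ν)
      (Cfsg.unipotentCharacterGL n F ν) = 1 := by
    rw [hchar, classInner_sum_left]
    have h := congrArg (fun z : ℤ => (z : ℂ))
      (Cfsg.FlagCharacters.alternating_mats lam hlinj.injective)
    simp only [Int.cast_sum, Int.cast_mul, Int.cast_natCast, Int.cast_one] at h
    refine Eq.trans (Finset.sum_congr rfl fun κ hκ => ?_) h
    rw [classInner_sum_right]
    refine Finset.sum_congr rfl fun κ' hκ' => ?_
    rw [classInner_smul_left, classInner_smul_right, hinner κ hκ κ' hκ', map_intCast,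
      mul_assoc]
  refine isIrr_of_gen_norm_one hgen hnorm ?_
  set q := Fintype.card F with hq
  have hq0 : 0 < q := Fintype.card_pos
  have h := Cfsg.FlagCharacters.degree_formula (F := F) hq.symm ν hsum
  have hd : (Cfsg.unipotentCharacterGL n F ν 1).re *
      ((q : ℝ) ^ (n * (n - 1) * (n - 2) / 6) *
        ∏ i : Fin n, (Cfsg.FlagCharacters.qFact q (ν i + i.val) : ℝ)) =
      (Cfsg.FlagCharacters.qFact q n : ℝ) * ∏ i : Fin n, ∏ j ∈ Finset.Ioi i,
        ((Cfsg.FlagCharacters.qInt q (ν j + j.val) : ℝ) -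
          (Cfsg.FlagCharacters.qInt q (ν i + i.val) : ℝ)) := by
    have h' := congrArg Complex.re (show Cfsg.unipotentCharacterGL n F ν 1 *
      ((((q : ℝ) ^ (n * (n - 1) * (n - 2) / 6) *
        ∏ i : Fin n, (Cfsg.FlagCharacters.qFact q (ν i + i.val) : ℝ) : ℝ)) : ℂ) =
      ((((Cfsg.FlagCharacters.qFact q n : ℝ) * ∏ i : Fin n, ∏ j ∈ Finset.Ioi i,
        ((Cfsg.FlagCharacters.qInt q (ν j + j.val) : ℝ) -
          (Cfsg.FlagCharacters.qInt q (ν i + i.val) : ℝ)) : ℝ)) : ℂ) by
      push_cast
      rw [← mul_assoc]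
      exact h)
    rwa [Complex.re_mul_ofReal, Complex.ofReal_re] at h'
  refine pos_of_mul_pos_left (b := (q : ℝ) ^ (n * (n - 1) * (n - 2) / 6) *
    ∏ i : Fin n, (Cfsg.FlagCharacters.qFact q (ν i + i.val) : ℝ)) ?_ ?_
  · rw [hd]
    refine mul_pos (by exact_mod_cast Cfsg.FlagCharacters.qFact_pos hq0 n)
      (Finset.prod_pos fun i _ => Finset.prod_pos fun j hj => sub_pos.2 ?_)
    exact_mod_cast Cfsg.FlagCharacters.qInt_lt hq0 (hlinj (Finset.mem_Ioi.1 hj))
  · exact mul_nonneg (pow_nonneg (Nat.cast_nonneg _) _)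
      (Finset.prod_nonneg fun i _ => Nat.cast_nonneg _)

end Cfsg.Agent.S2421
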