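import Cfsg.Statements.S2544
import Cfsg.Agent.SimpleFacts.SLBlocks.Existence
import Cfsg.Agent.Lib.Characters.Kernel

set_option autoImplicit false
open Cfsg

namespace Cfsg.Agent.S2544

/-- Let F be a finite field of characteristic p and consider the projective special linear group PSL_n(F) with n ≥ 2. This group has an irreducible complex character χ whose degree equals the order of a Sylow p-subgroup (namely q^(n(n−1)/2) when #F = q) and whose restriction to any Sylow p-subgroup P is the regular character of P: χ vanishes on the non-identity elements of P. (This is the Steinberg character.) -/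
theorem result {F : Type*} [Field F] [Fintype F] (p : ℕ) [Fact p.Prime] [CharP F p] (n : ℕ) (hn : 2 ≤ n) : ∃ χ : Matrix.ProjectiveSpecialLinearGroup (Fin n) F → ℂ, Cfsg.IsIrrCharacter (Matrix.ProjectiveSpecialLinearGroup (Fin n) F) χ ∧ ∀ P : Sylow p (Matrix.ProjectiveSpecialLinearGroup (Fin n) F), χ 1 = Nat.card P ∧ ∀ x : Matrix.ProjectiveSpecialLinearGroup (Fin n) F, x ∈ P → x ≠ 1 → χ x = 0 := by
  classical
  open Cfsg.Agent.SimpleFacts.SLBlocks Cfsg.Agent.AutPSL.Roots in
  obtain ⟨St, hdeg⟩ := exists_steinberg (F := F) (n := n) p (by omega)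
  open Cfsg.Agent.SimpleFacts.SLBlocks Cfsg.Agent.AutPSL.Roots in
  obtain ⟨-, -, hz⟩ := steinberg_facts (p := p) (by omega : 1 ≤ n) St (hdeg ▸ dvd_rfl)
  obtain ⟨ψ, -, hψ, hirr⟩ := Cfsg.Agent.Characters.exists_deflate_quotient
    (Subgroup.center (Matrix.SpecialLinearGroup (Fin n) F))
    (Cfsg.Agent.Characters.isCharacter_of_isIrr St.2) (fun x hx => by
      refine hz x (fun i j hij => ?_) fun g => (Subgroup.mem_center_iff.1 hx g).symm
      obtain ⟨r, -, hr⟩ := Matrix.SpecialLinearGroup.mem_center_iff.1 hx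
      simp only [Equiv.Perm.one_apply] at hij
      rw [← hr]
      exact Matrix.diagonal_apply_ne _ hij)
  refine ⟨ψ, hirr St.2, fun P => ⟨?_, fun x hxP hx1 => ?_⟩⟩
  · obtain ⟨P₀, hP₀⟩ := Cfsg.Agent.AutPSL.Roots.exists_sylow_eq (F := F) (n := n) p (by omega)
    have h1 := hψ 1
    rw [QuotientGroup.mk_one] at h1
    refine h1.trans ?_
    rw [← Cfsg.Agent.Blocks.charDegree_cast St, hdeg,
      Cfsg.Agent.SimpleFacts.SLBlocks.card_U (by omega : 1 ≤ n),
      ← Cfsg.Agent.AutPSL.Roots.card_unitri (F := F) (by omega : 1 ≤ n), ← hP₀,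
      P₀.card_eq_multiplicity, P.card_eq_multiplicity]
  · obtain ⟨P₀, hP₀⟩ := Cfsg.Agent.AutPSL.Roots.exists_sylow_eq (F := F) (n := n) p (by omega)
    obtain ⟨g, rfl⟩ := MulAction.exists_smul_eq (Matrix.ProjectiveSpecialLinearGroup (Fin n) F) P₀ P
    have hx' : x ∈ ((g • P₀ : Sylow p (Matrix.ProjectiveSpecialLinearGroup (Fin n) F)) :
        Subgroup (Matrix.ProjectiveSpecialLinearGroup (Fin n) F)) := hxP
    rw [Sylow.coe_subgroup_smul, hP₀] at hx'
    obtain ⟨y, hy, rfl⟩ := hx'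
    obtain ⟨s, hs, rfl⟩ := hy
    obtain ⟨g', rfl⟩ := QuotientGroup.mk_surjective g
    have e : (MulDistribMulAction.toMonoidEnd (MulAut (Matrix.ProjectiveSpecialLinearGroup (Fin n) F))
        (Matrix.ProjectiveSpecialLinearGroup (Fin n) F) (MulAut.conj (g' : Matrix.ProjectiveSpecialLinearGroup (Fin n) F)))
        (QuotientGroup.mk' _ s) = ((g' * s * g'⁻¹ : Matrix.SpecialLinearGroup (Fin n) F) :
          Matrix.ProjectiveSpecialLinearGroup (Fin n) F) := rfl
    refine ((congrArg ψ e).trans (hψ _)).trans ?_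
    obtain ⟨P₁, hP₁⟩ := Cfsg.Agent.SimpleFacts.SLBlocks.exists_sylow (F := F) (n := n) p (by omega)
    refine Cfsg.Agent.BlockCharsA.DefectZeroVanish.eq_zero_of_singular (p := p) Fact.out St ?_ ?_
    · rw [hdeg, ← hP₁, P₁.card_eq_multiplicity]
    · obtain ⟨k, hk⟩ := IsPGroup.iff_orderOf.1 P₁.isPGroup' ⟨s, hP₁.symm ▸ hs⟩
      rw [Subgroup.orderOf_mk] at hk
      rw [show orderOf (g' * s * g'⁻¹) = orderOf s from MulEquiv.orderOf_eq (MulAut.conj g') s, hk]
      refine dvd_pow_self p fun e0 => hx1 ?_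
      rw [e0, pow_zero] at hk
      refine e.trans ?_
      rw [orderOf_eq_one_iff.1 hk, mul_one, mul_inv_cancel]
      rfl

end Cfsg.Agent.S2544
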