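import Cfsg.Statements.S2549
import Cfsg.Agent.Lib.Steinberg.Quad
import Cfsg.Agent.Lib.Classical.OrthForms
import Cfsg.Agent.S0300
import Cfsg.Agent.S2544
import Cfsg.Agent.Lib.Characters.Kernel

set_option autoImplicit false
open Cfsg

namespace Cfsg.Agent.S2549

open Module Submodule Cfsg.Agent.Forms Cfsg.Agent.Forms.Reflections Cfsg.Agent.Forms.QuadStd
  Cfsg.Agent.Classical
  Cfsg.Agent.Steinberg

section

variable {F : Type*} [Field F] [Fintype F] {ι : Type} [Fintype ι] [DecidableEq ι]
variable {Q : QuadraticForm F (ι → F)} {m : ℕ}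
variable {hQ : (QuadraticMap.polarBilin Q).Nondegenerate}
variable {htop : ∃ X : Submodule F (ι → F), finrank F X = m ∧ ∀ x ∈ X, Q x = 0}
variable {hle : ∀ W : Submodule F (ι → F), (∀ x ∈ W, Q x = 0) → finrank F W ≤ m}

/-- A `p`-element of `Ω` fixing a frame with an anisotropic plane as core is trivial. -/
theorem eq_one_plane (h : Fintype.card F ≠ 2 ∨ Fintype.card ι ≠ 4) (p : ℕ) [Fact p.Prime]
    [CharP F p] (hcard : Fintype.card ι = 2 * m + 2)
    (Φ : Polar.Frame (Quad.quadPolar hQ htop hle)) {g : Cfsg.isometryGroup F ⇑Q}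
    (hgO : g ∈ Cfsg.Omega F ⇑Q) (hg : ∃ n : ℕ, g ^ (p ^ n) = 1)
    (hfix : ∀ i, act g (Φ.e i) = Φ.e i ∧ act g (Φ.f i) = Φ.f i) : g = 1 := by
  obtain ⟨n, hn⟩ := hg
  set φ : Module.End F (ι → F) := act g with hφ
  have hiso := Quad.act_iso (hQ := hQ) (htop := htop) (hle := hle) g
  set K := LinearMap.range Φ.core with hK
  have hmemK : ∀ z, z ∈ K ↔ Φ.InCore z := fun z =>
    ⟨fun ⟨v, hv⟩ => hv ▸ Φ.inCore_core v, fun hz => ⟨z, Φ.core_eq_self hz⟩⟩
  have hKd : finrank F K = 2 := by
    have := Φ.finrank_core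
    rw [Module.finrank_pi, hcard] at this
    exact Nat.add_left_cancel this
  have haniso : ∀ z ∈ K, z ≠ 0 → Q z ≠ 0 := fun z hz hz0 hQz => by
    have hzc := (hmemK z).1 hz
    have hts : (Quad.quadPolar hQ htop hle).TS (Φ.chC.sub m ⊔ span F {z}) :=
      (Quad.quadPolar hQ htop hle).ts_sup Φ.chC.ts
        ((Quad.quadPolar hQ htop hle).ts_span_singleton hQz)
        ((span_singleton_le_iff_mem _ _).2 (Φ.mem_perp_chC.2 fun q _ => (hzc q).1))
    have hlt : Φ.chC.sub m < Φ.chC.sub m ⊔ span F {z} := lt_of_le_of_ne le_sup_left fun he => hz0 (by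
      have hzC : z ∈ Φ.chC.sub m := he ▸ mem_sup_right (mem_span_singleton_self z)
      rw [Φ.chC_top, mem_span_range_iff_exists_fun] at hzC
      obtain ⟨a, rfl⟩ := hzC
      refine Finset.sum_eq_zero fun i _ => ?_
      have := (hzc i).2
      have h' := (Φ.B_comb a 0 i).2
      simp only [Pi.zero_apply, zero_smul, Finset.sum_const_zero, add_zero] at h'
      rw [← h', this, zero_smul])
    have h1 := finrank_lt_finrank_of_lt hlt
    rw [Φ.chC.dim m le_rfl] at h1
    have h2 := (Quad.quadPolar hQ htop hle).ts_le hts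
    omega
  have hφK : ∀ z ∈ K, φ z ∈ K := fun z hz =>
    (hmemK _).2 (Φ.inCore_map hiso hfix ((hmemK z).1 hz))
  have hpow : φ ^ (p ^ n) = 1 := by
    rw [hφ, ← Quad.act_pow, hn]; exact LinearMap.ext act_one
  obtain ⟨k, hk, hk0, hkfix⟩ : ∃ k ∈ K, k ≠ 0 ∧ φ k = k := by
    obtain ⟨y0, hy0, hy00⟩ := exists_mem_ne_zero_of_ne_bot
      (show K ≠ ⊥ from fun h0 => by rw [h0, finrank_bot] at hKd; omega)
    have hnil : (φ - 1 : Module.End F (ι → F)) ^ (p ^ n) = 0 := by
      have := congrArg (Polynomial.aeval φ) (sub_pow_char_pow (n := n) (p := p)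
        (Polynomial.X : Polynomial F) 1)
      simp only [map_pow, map_sub, Polynomial.aeval_X, map_one, one_pow] at this
      rw [this, hpow, sub_self]
    classical
    have hex : ∃ j, ((φ - 1 : Module.End F (ι → F)) ^ j) y0 = 0 := ⟨p ^ n, by rw [hnil]; rfl⟩
    have hmem : ∀ j, ((φ - 1 : Module.End F (ι → F)) ^ j) y0 ∈ K := fun j => by
      induction j with
      | zero => simpa using hy0
      | succ j ih =>
        rw [pow_succ', Module.End.mul_apply, LinearMap.sub_apply, Module.End.one_apply]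
        exact sub_mem (hφK _ ih) ih
    have h0 : Nat.find hex ≠ 0 := fun h0 => hy00 (by
      have := Nat.find_spec hex
      rwa [h0, pow_zero, Module.End.one_apply] at this)
    refine ⟨((φ - 1 : Module.End F (ι → F)) ^ (Nat.find hex - 1)) y0, hmem _, Nat.find_min hex (by omega), ?_⟩
    have := Nat.find_spec hex
    rw [show Nat.find hex = Nat.find hex - 1 + 1 by omega, pow_succ', Module.End.mul_apply,
      LinearMap.sub_apply, Module.End.one_apply, sub_eq_zero] at this
    exact this
  have hQk := haniso k hk hk0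
  have hL : ∀ y, QuadraticMap.polar Q k (φ y - y) = 0 := fun y => by
    have := act_polar g k y
    rw [show act g k = k from hkfix] at this
    rw [QuadraticMap.polar_sub_right, this, sub_self]
  have hspan : ∀ y ∈ K, y ∉ span F {k} → span F {k} ⊔ span F {y} = K := fun y hy hyn => by
    refine eq_of_le_of_finrank_le (sup_le ((span_singleton_le_iff_mem _ _).2 hk)
      ((span_singleton_le_iff_mem _ _).2 hy)) ?_
    rw [hKd, finrank_sup_span_singleton hyn, finrank_span_singleton hk0]
  have done_of : ∀ ψ : Cfsg.isometryGroup F ⇑Q,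
      (∀ i, act ψ (Φ.e i) = Φ.e i ∧ act ψ (Φ.f i) = Φ.f i) → ∀ y ∈ K, y ∉ span F {k} →
      act ψ k = k → act ψ y = y → ψ = 1 := by
    intro ψ hψ y hy hyn h1 h2
    have h3 : act ψ = 1 := Φ.eq_one_of_core hψ fun z hz => by
      have hzK := (hmemK z).2 hz
      rw [← hspan y hy hyn] at hzK
      obtain ⟨a, ha, b, hb, rfl⟩ := mem_sup.1 hzK
      obtain ⟨s, rfl⟩ := mem_span_singleton.1 ha
      obtain ⟨t, rfl⟩ := mem_span_singleton.1 hb
      rw [map_add, map_smul, map_smul, h1, h2]
    exact Orth.act_ext fun x => by rw [h3, act_one]; rfl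
  obtain ⟨y, hyK, hyk⟩ : ∃ y ∈ K, y ∉ span F {k} := SetLike.not_le_iff_exists.1 fun hle' => by
    have := finrank_mono hle'
    rw [hKd, finrank_span_singleton hk0] at this
    omega
  rcases (Fact.out : p.Prime).eq_two_or_odd' with hp | hp
  · subst hp
    have h2 : (2 : F) = 0 := CharTwo.two_eq_zero
    have hkk : QuadraticMap.polar Q k k = 0 := by
      rw [QuadraticMap.polar_self, nsmul_eq_mul, Nat.cast_ofNat, h2, zero_mul]
    have hky : QuadraticMap.polar Q k y ≠ 0 := by
      intro h0
      refine hk0 (hQ.1 k fun v => ?_)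
      rw [QuadraticMap.polarBilin_apply_apply, ← Φ.decomp v]
      have hc : Φ.core v ∈ K := ⟨v, rfl⟩
      rw [← hspan y hyK hyk] at hc
      obtain ⟨a, ha, b, hb, hab⟩ := mem_sup.1 hc
      obtain ⟨s, rfl⟩ := mem_span_singleton.1 ha
      obtain ⟨t, rfl⟩ := mem_span_singleton.1 hb
      have he : ∀ i, polB Q k (Φ.e i) = 0 := fun i =>
        (QuadraticMap.polar_comm _ k _).trans (((hmemK k).1 hk) i).1
      have hf : ∀ i, polB Q k (Φ.f i) = 0 := fun i =>
        (QuadraticMap.polar_comm _ k _).trans (((hmemK k).1 hk) i).2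
      have hkk' : polB Q k k = 0 := hkk
      have h0' : polB Q k y = 0 := h0
      rw [← hab]
      show polB Q k _ = 0
      simp [map_sum, map_add, map_smul, he, hf, hkk', h0', -polB_apply]
    obtain ⟨a, ha⟩ : ∃ a : F, φ y - y = a • k := by
      have hz : φ y - y ∈ span F {k} ⊔ span F {y} := by
        rw [hspan y hyK hyk]; exact sub_mem (hφK y hyK) hyK
      obtain ⟨u, hu, w, hw, huw⟩ := mem_sup.1 hz
      obtain ⟨s, rfl⟩ := mem_span_singleton.1 hu
      obtain ⟨t, rfl⟩ := mem_span_singleton.1 hw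
      have h0 := hL y
      rw [← huw, QuadraticMap.polar_add_right, QuadraticMap.polar_smul_right,
        QuadraticMap.polar_smul_right, hkk, smul_zero, zero_add, smul_eq_mul, mul_eq_zero] at h0
      exact ⟨s, by rw [← huw, h0.resolve_right hky, zero_smul, add_zero]⟩
    rw [sub_eq_iff_eq_add'] at ha
    by_cases ha0 : a = 0
    · exact done_of g hfix y hyK hyk hkfix (by rw [ha0, zero_smul, add_zero] at ha; exact ha)
    exfalso
    have haq : a * Q k + QuadraticMap.polar Q k y = 0 := by
      have h1 := act_map g y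
      rw [show act g y = y + a • k from ha, QuadraticMap.map_add Q, QuadraticMap.map_smul,
        QuadraticMap.polar_smul_right, QuadraticMap.polar_comm _ y k, smul_eq_mul, smul_eq_mul] at h1
      exact (mul_eq_zero.1 (show a * (a * Q k + QuadraticMap.polar Q k y) = 0 by
        linear_combination h1)).resolve_left ha0
    have he1 : reflect Q k * g = 1 := by
      refine done_of _ (fun i => ⟨?_, ?_⟩) y hyK hyk ?_ ?_
      · rw [act_mul, (hfix i).1, act_reflect, QuadraticMap.polar_comm _ k,
          show QuadraticMap.polar Q (Φ.e i) k = 0 from (((hmemK k).1 hk) i).1]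
        simp
      · rw [act_mul, (hfix i).2, act_reflect, QuadraticMap.polar_comm _ k,
          show QuadraticMap.polar Q (Φ.f i) k = 0 from (((hmemK k).1 hk) i).2]
        simp
      · rw [act_mul, show act g k = k from hkfix, act_reflect, hkk]; simp
      · rw [act_mul, show act g y = y + a • k from ha, act_reflect, QuadraticMap.polar_add_right,
          QuadraticMap.polar_smul_right, hkk, smul_zero, add_zero,
          show QuadraticMap.polar Q k y = -(a * Q k) by linear_combination haq]
        rw [mul_neg, inv_mul_eq_div, mul_div_cancel_right₀ _ hQk, neg_smul, sub_neg_eq_add, add_assoc,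
          ← add_smul, ← two_mul, h2, zero_mul, zero_smul, add_zero]
    have hg' : g = reflect Q k := by
      rw [← inv_eq_of_mul_eq_one_right he1, inv_eq_of_mul_eq_one_right (reflect_sq k)]
    rw [hg', OmegaCrit.mem_omega_iff_par hQ h h2, OmegaCrit.par_reflect hQ hQk] at hgO
    exact absurd hgO (by decide)
  · have h2 : (2 : F) ≠ 0 := fun h0 => by
      have : (p : ℕ) ∣ 2 := (CharP.cast_eq_zero_iff F p 2).1 (by exact_mod_cast h0)
      have := ((Nat.prime_dvd_prime_iff_eq Fact.out Nat.prime_two).1 this)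
      rw [this] at hp
      exact absurd hp (by decide)
    have hkk : QuadraticMap.polar Q k k ≠ 0 := by
      rw [QuadraticMap.polar_self, nsmul_eq_mul, Nat.cast_ofNat]
      exact mul_ne_zero h2 hQk
    set w := y - (QuadraticMap.polar Q k y / QuadraticMap.polar Q k k) • k with hw
    have hwK : w ∈ K := sub_mem hyK (smul_mem _ _ hk)
    have hwk : w ∉ span F {k} := fun hc => hyk (by
      have := add_mem hc (smul_mem _ (QuadraticMap.polar Q k y / QuadraticMap.polar Q k k)
        (mem_span_singleton_self k))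
      rwa [hw, sub_add_cancel] at this)
    have hwp : QuadraticMap.polar Q k w = 0 := by
      rw [hw, QuadraticMap.polar_sub_right, QuadraticMap.polar_smul_right, smul_eq_mul,
        div_mul_cancel₀ _ hkk, sub_self]
    obtain ⟨t, ht⟩ : ∃ t : F, φ w = t • w := by
      have hz : φ w ∈ span F {k} ⊔ span F {w} := by rw [hspan w hwK hwk]; exact hφK w hwK
      obtain ⟨u, hu, v, hv, huv⟩ := mem_sup.1 hz
      obtain ⟨s, rfl⟩ := mem_span_singleton.1 hu
      obtain ⟨t, rfl⟩ := mem_span_singleton.1 hv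
      have h0 := act_polar g k w
      rw [show act g k = k from hkfix, show act g w = φ w from rfl, ← huv,
        QuadraticMap.polar_add_right, QuadraticMap.polar_smul_right, QuadraticMap.polar_smul_right,
        hwp, smul_zero, add_zero, smul_eq_mul] at h0
      exact ⟨t, by rw [← huv, (mul_eq_zero.1 h0).resolve_right hkk, zero_smul, zero_add]⟩
    have hw0 : w ≠ 0 := fun h0 => hwk (h0 ▸ zero_mem _)
    have hiter : ∀ j : ℕ, (φ ^ j) w = t ^ j • w := fun j => by
      induction j with
      | zero => simp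
      | succ j ih => rw [pow_succ', Module.End.mul_apply, ih, map_smul, ht, smul_smul, ← pow_succ]
    have ht1 : t ^ (p ^ n) = 1 := by
      refine smul_left_injective F hw0 ?_
      simp only [one_smul]
      rw [← hiter, hpow, Module.End.one_apply]
    have h' := sub_pow_char_pow (n := n) (p := p) t 1
    rw [one_pow, ht1, sub_self] at h'
    refine done_of g hfix w hwK hwk hkfix ?_
    rw [show act g w = φ w from rfl, ht, sub_eq_zero.1 (eq_zero_of_pow_eq_zero h'), one_smul]

end

/-- Transfer along an isomorphism. -/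
theorem transfer {G H : Type*} [Group G] [Group H] (p : ℕ) [Fact p.Prime] (e : G ≃* H)
    (hH : ∃ χ : H → ℂ, Cfsg.IsIrrCharacter H χ ∧ ∀ P : Sylow p H, χ 1 = Nat.card P ∧
      ∀ x : H, x ∈ P → x ≠ 1 → χ x = 0) [Finite G] :
    ∃ χ : G → ℂ, Cfsg.IsIrrCharacter G χ ∧ ∀ P : Sylow p G, χ 1 = Nat.card P ∧
      ∀ x : G, x ∈ P → x ≠ 1 → χ x = 0 := by
  obtain ⟨χ, h1, h2⟩ := hH
  refine ⟨χ ∘ e, (Cfsg.Agent.Characters.isIrrCharacter_comp_mulEquiv e).2 h1, fun P => ?_⟩
  obtain ⟨h3, h4⟩ := h2 (P.mapSurjective (f := e.toMonoidHom) e.surjective)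
  refine ⟨?_, fun x hx hx1 => ?_⟩
  · rw [Function.comp_apply, map_one, h3]
    exact_mod_cast (Nat.card_congr (P.1.equivMapOfInjective _ e.injective).toEquiv).symm
  · exact h4 (e x) ⟨x, hx, rfl⟩ fun h => hx1 (e.injective (h.trans (map_one e).symm))

/-- Let F be a finite field of characteristic p and consider the group PΩ⁻_{2m+2}(F) of the quadratic form Σ_{i<m} x_i y_i + (z₁² + a z₁ z₂ + b z₂²) with anisotropic binary part, m ≥ 0. This group has an irreducible complex character χ whose degree equals the order of a Sylow p-subgroup (namely q^(m(m+1)) when #F = q) and whose restriction to any Sylow p-subgroup P is the regular character of P: χ vanishes on the non-identity elements of P. (This is the Steinberg character.) -/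
theorem result {F : Type*} [Field F] [Fintype F] (p : ℕ) [Fact p.Prime] [CharP F p] (m : ℕ) (a b : F) (hab : ∀ z₁ z₂ : F, z₁ ^ 2 + a * z₁ * z₂ + b * z₂ ^ 2 = 0 → z₁ = 0 ∧ z₂ = 0) : ∃ χ : Cfsg.POmega F (Cfsg.quadFormMinus m F a b) → ℂ, Cfsg.IsIrrCharacter (Cfsg.POmega F (Cfsg.quadFormMinus m F a b)) χ ∧ ∀ P : Sylow p (Cfsg.POmega F (Cfsg.quadFormMinus m F a b)), χ 1 = Nat.card P ∧ ∀ x : Cfsg.POmega F (Cfsg.quadFormMinus m F a b), x ∈ P → x ≠ 1 → χ x = 0 := by
  classical
  by_cases hexc : Fintype.card F = 2 ∧ m = 1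
  · obtain ⟨hF, rfl⟩ := hexc
    obtain rfl : p = 2 := by
      obtain ⟨k, hp, hk⟩ := FiniteField.card F p
      rw [hF] at hk
      exact ((Nat.prime_dvd_prime_iff_eq hp Nat.prime_two).1 (hk ▸ dvd_pow_self p k.ne_zero))
    haveI : Fintype (GaloisField 2 2) := Fintype.ofFinite _
    obtain ⟨e⟩ := Cfsg.Agent.S0300.result (K := GaloisField 2 2) hF
      (by rw [← Nat.card_eq_fintype_card, GaloisField.card 2 2 two_ne_zero]) a b hab
    exact transfer 2 e (Cfsg.Agent.S2544.result 2 2 le_rfl)
  have key : ∀ (Q : QuadraticForm F ((Fin m ⊕ Fin m) ⊕ Fin 2 → F)), Q = OrthForms.minQ F m a b →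
      ∃ χ : Cfsg.POmega F ⇑Q → ℂ, Cfsg.IsIrrCharacter (Cfsg.POmega F ⇑Q) χ ∧
        ∀ P : Sylow p (Cfsg.POmega F ⇑Q), χ 1 = Nat.card P ∧
          ∀ x : Cfsg.POmega F ⇑Q, x ∈ P → x ≠ 1 → χ x = 0 := by
    intro Q hQdef
    have hQ : (QuadraticMap.polarBilin Q).Nondegenerate := hQdef ▸ OrthForms.minQ_nondeg m hab
    have hcard : Fintype.card ((Fin m ⊕ Fin m) ⊕ Fin 2) = 2 * m + 2 := by simp; omega
    have hval : ∀ v : (Fin m ⊕ Fin m) ⊕ Fin 2 → F, Q v = Cfsg.quadFormMinus m F a b v := fun v => by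
      rw [hQdef, OrthForms.minQ_eq]
    let c : Fin m → (Fin m ⊕ Fin m) ⊕ Fin 2 := fun i => Sum.inl (Sum.inl i)
    have htop : ∃ X : Submodule F ((Fin m ⊕ Fin m) ⊕ Fin 2 → F),
        finrank F X = m ∧ ∀ x ∈ X, Q x = 0 :=
      Quad.exists_coord_top c (Sum.inl_injective.comp Sum.inl_injective) fun v hv => by
        rw [hval]
        simp [Cfsg.quadFormMinus, fun i => hv (Sum.inl (Sum.inr i)) (by simp [c]),
          fun i => hv (Sum.inr i) (by simp [c])]
    have hle : ∀ W : Submodule F ((Fin m ⊕ Fin m) ⊕ Fin 2 → F),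
        (∀ x ∈ W, Q x = 0) → finrank F W ≤ m := fun W hW => by
      set X : Submodule F ((Fin m ⊕ Fin m) ⊕ Fin 2 → F) :=
        span F (Set.range fun i : Fin m => (Pi.single (c i) 1 : _ → F)) with hX
      have hXd : finrank F X = m := (finrank_span_eq_card ((Pi.linearIndependent_single_one _ F).comp _
        (Sum.inl_injective.comp Sum.inl_injective))).trans (Fintype.card_fin m)
      have hperp : W ⊓ (polB Q).orthogonal X ≤ W ⊓ X := by
        intro x hx
        obtain ⟨hxW, hxX⟩ := Submodule.mem_inf.1 hx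
        refine Submodule.mem_inf.2 ⟨hxW, ?_⟩
        have hy : ∀ i, x (Sum.inl (Sum.inr i)) = 0 := fun i => by
          have := mem_orth.1 hxX _ (subset_span ⟨i, rfl⟩ : Pi.single (c i) 1 ∈ X)
          simpa [hQdef, OrthForms.minQ_polar, PlusStd.plusQ_polar, c, Pi.single_apply] using this
        have hz := hW x hxW
        rw [hval] at hz
        simp only [Cfsg.quadFormMinus, hy, mul_zero, Finset.sum_const_zero, zero_add] at hz
        obtain ⟨hz0, hz1⟩ := hab _ _ hz
        have e : x = ∑ i, x (c i) • (Pi.single (c i) 1 : _ → F) := by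
          funext j
          rcases j with (j | j) | j
          · simp [Finset.sum_apply, Pi.single_apply, c]
          · simp [Finset.sum_apply, Pi.single_apply, c, hy]
          · fin_cases j <;> simp [Finset.sum_apply, Pi.single_apply, c, hz0, hz1]
        rw [e]
        exact sum_mem fun i _ => smul_mem _ _ (subset_span ⟨i, rfl⟩)
      have h1 := Submodule.finrank_sup_add_finrank_inf_eq W ((polB Q).orthogonal X)
      have h2 : W ⊔ (polB Q).orthogonal X ≤ (polB Q).orthogonal (W ⊓ X) :=
        sup_le (fun x hx => mem_orth.2 fun y hy => Quad.polar_eq_zero hW (Submodule.mem_inf.1 hy).1 hx)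
          (LinearMap.BilinForm.orthogonal_le inf_le_right)
      have h3 := finrank_mono h2
      have h4 := finrank_mono hperp
      have h5 := finrank_mono (inf_le_right : W ⊓ X ≤ X)
      rw [finrank_orth hQ] at h1 h3
      omega
    have h : Fintype.card F ≠ 2 ∨ Fintype.card ((Fin m ⊕ Fin m) ⊕ Fin 2) ≠ 4 := by
      by_cases hF : Fintype.card F = 2
      · right
        rw [hcard]
        exact fun he => hexc ⟨hF, by omega⟩
      · exact Or.inl hF
    exact (Quad.omegaAct hQ h p (htop := htop) (hle := hle)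
      (fun Φ g hgO hg hfix => eq_one_plane h p hcard Φ hgO hg hfix)
      (fun Φ => Or.inl fun r _ =>
        Φ.exists_move (by rw [Module.finrank_pi, hcard]; omega) r)).exists_character
  have := key _ rfl
  rwa [OrthForms.minQ_eq] at this

end Cfsg.Agent.S2549
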