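import Cfsg.Statements.S0196
import Mathlib
-- import your own Cfsg.Agent.* helpers here

set_option autoImplicit false
open Cfsg

namespace Cfsg.Agent.S0196

/-- Let A be a subgroup of a finite group G that equals the centralizer of each of its non-identity elements, and let N be its normalizer. Then the index of A in N divides |A| − 1 (N/A permutes the non-identity elements of A in orbits of full length). -/
theorem result {G : Type*} [Group G] [Finite G] (A : Subgroup G) (hA : ∀ x ∈ A, x ≠ 1 → Subgroup.centralizer ({x} : Set G) = A) : (A.subgroupOf (Subgroup.normalizer (A : Set G))).index ∣ Nat.card A - 1 := by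
  classical
  set N : Subgroup G := Subgroup.normalizer (A : Set G) with hN
  have hconj : ∀ (n : N) (x : {x : A // x ≠ 1}), (n : G) * (x.1 : G) * (n : G)⁻¹ ∈ A :=
    fun n x => SetLike.mem_coe.1 ((Subgroup.mem_normalizer_iff.1 n.2 _).1 x.1.2)
  let act : MulAction N {x : A // x ≠ 1} :=
    { smul := fun n x => ⟨⟨_, hconj n x⟩, fun h => x.2 (Subtype.ext (by
        have h' : (n : G) * (x.1 : G) * (n : G)⁻¹ = 1 := congrArg Subtype.val h
        simpa using conj_eq_one_iff.1 h'))⟩
      one_smul := fun x => Subtype.ext (Subtype.ext (by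
        show ((1 : N) : G) * (x.1 : G) * ((1 : N) : G)⁻¹ = x.1
        simp))
      mul_smul := fun m n x => Subtype.ext (Subtype.ext (by
        show ((m * n : N) : G) * (x.1 : G) * ((m * n : N) : G)⁻¹ =
          (m : G) * ((n : G) * (x.1 : G) * (n : G)⁻¹) * (m : G)⁻¹
        simp [mul_assoc])) }
  letI := act
  have hst : ∀ x : {x : A // x ≠ 1}, MulAction.stabilizer N x = A.subgroupOf N := by
    intro x
    ext n
    rw [MulAction.mem_stabilizer_iff, Subgroup.mem_subgroupOf]
    have hx1 : (x.1 : G) ≠ 1 := fun h => x.2 (Subtype.ext h)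
    conv_rhs => rw [← hA _ x.1.2 hx1, Subgroup.mem_centralizer_singleton_iff]
    constructor
    · intro h
      have h' : (n : G) * (x.1 : G) * (n : G)⁻¹ = x.1 :=
        congrArg (fun y : {x : A // x ≠ 1} => (y.1 : G)) h
      rw [mul_inv_eq_iff_eq_mul] at h'
      exact h'
    · intro h
      refine Subtype.ext (Subtype.ext ?_)
      show (n : G) * (x.1 : G) * (n : G)⁻¹ = x.1
      rw [mul_inv_eq_iff_eq_mul]
      exact h
  have hcard : Nat.card {x : A // x ≠ 1} = Nat.card A - 1 := by
    haveI := Fintype.ofFinite A
    simp [Nat.card_eq_fintype_card, Fintype.card_subtype_compl]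
  haveI := Fintype.ofFinite (Quotient (MulAction.orbitRel N {x : A // x ≠ 1}))
  rw [← hcard, Nat.card_congr (MulAction.selfEquivSigmaOrbits N {x : A // x ≠ 1}), Nat.card_sigma]
  refine Finset.dvd_sum fun ω _ => ?_
  rw [Nat.card_coe_set_eq, ← MulAction.index_stabilizer, hst]

end Cfsg.Agent.S0196
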