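import Cfsg.Statements.S2162
import Cfsg.Agent.Lib.Forms.Invol.Groups
-- import your own Cfsg.Agent.* helpers here

set_option autoImplicit false
open Cfsg

namespace Cfsg.Agent.S2162

/-- Conjugacy of involutions in the special linear group over a finite field of characteristic two, in dimension at least 3: two elements of order 2 of SL_n(F) are conjugate in SL_n(F) exactly when the matrices a − 1 and b − 1 have the same rank (the rank of a − 1 is the dimension of the commutator space [V, a]). -/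
theorem result {F : Type*} [Field F] [Fintype F] [CharP F 2] {n : ℕ} (hn : 3 ≤ n) (a b : Matrix.SpecialLinearGroup (Fin n) F) (ha : orderOf a = 2) (hb : orderOf b = 2) :
    IsConj a b ↔ ((a : Matrix (Fin n) (Fin n) F) - 1).rank = ((b : Matrix (Fin n) (Fin n) F) - 1).rank := by
  classical
  have h2 : (2 : F) = 0 := CharTwo.two_eq_zero
  have hsq : ∀ c : Matrix.SpecialLinearGroup (Fin n) F, orderOf c = 2 →
      (c : Matrix (Fin n) (Fin n) F) * (c : Matrix (Fin n) (Fin n) F) = 1 := by
    intro c hc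
    have h := pow_orderOf_eq_one c
    rw [hc, sq] at h
    exact congrArg Subtype.val h
  constructor
  · intro h
    obtain ⟨c, hc⟩ := isConj_iff.1 h
    have hca : (c : Matrix (Fin n) (Fin n) F) * (a : Matrix (Fin n) (Fin n) F)
        = (b : Matrix (Fin n) (Fin n) F) * c := by
      have hc' := mul_inv_eq_iff_eq_mul.1 hc
      exact congrArg Subtype.val hc'
    have hdet : (c : Matrix (Fin n) (Fin n) F).det ≠ 0 := by rw [c.2]; exact one_ne_zero
    have e : ((c : Matrix (Fin n) (Fin n) F) * ((a : Matrix (Fin n) (Fin n) F) - 1)) =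
        ((b : Matrix (Fin n) (Fin n) F) - 1) * c := by rw [mul_sub, sub_mul, hca, mul_one, one_mul]
    rw [← Matrix.rank_mul_eq_right_of_isUnit_det (c : Matrix (Fin n) (Fin n) F) _ (isUnit_iff_ne_zero.2 hdet), e,
      Matrix.rank_mul_eq_left_of_isUnit_det (c : Matrix (Fin n) (Fin n) F) _ (isUnit_iff_ne_zero.2 hdet)]
  · intro hr
    rw [Forms.Invol.rank_sub_one, Forms.Invol.rank_sub_one] at hr
    obtain ⟨g, hg⟩ := Forms.Invol.exists_linear_conj (Forms.Invol.sub_one_sq h2 (hsq a ha))
      (Forms.Invol.sub_one_sq h2 (hsq b hb)) hr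
    have hne : Matrix.toLin' ((b : Matrix (Fin n) (Fin n) F) - 1) ≠ 0 := fun h0 => by
      have hb1 : b = 1 := Subtype.ext (sub_eq_zero.1 (Matrix.toLin'.injective (h0.trans (map_zero _).symm)))
      rw [hb1, orderOf_one] at hb
      omega
    obtain ⟨x, α, β, h1, h3, h4, h5, h6⟩ := Forms.Invol.exists_scale (Forms.Invol.sub_one_sq h2 (hsq b hb)) hne
    set d := LinearMap.det g.toLinearMap with hd
    have hd0 : d ≠ 0 := LinearEquiv.isUnit_det' g |>.ne_zero
    obtain ⟨μ, hμ⟩ := Forms.Invol.exists_sqrt h2 d⁻¹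
    set c := Forms.Invol.scaleEnd μ α β x (Matrix.toLin' ((b : Matrix (Fin n) (Fin n) F) - 1) x) with hc
    have hdet : (LinearMap.toMatrix' (c ∘ₗ g.toLinearMap)).det = 1 := by
      rw [LinearMap.det_toMatrix', LinearMap.det_comp, hc, Forms.Invol.scaleEnd_det μ h1 h3, hμ,
        inv_mul_cancel₀ hd0]
    refine isConj_iff.2 ⟨(⟨_, hdet⟩ : Matrix.SpecialLinearGroup (Fin n) F), mul_inv_eq_iff_eq_mul.2 (Subtype.ext ?_)⟩
    refine Forms.Invol.mul_of_intertwine (c ∘ₗ g.toLinearMap) fun v => ?_
    show c (g _) = _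
    rw [hg, hc, Forms.Invol.scaleEnd_comm μ rfl (Forms.Invol.sub_one_sq h2 (hsq b hb) x) h4 h5 h6]
    rfl

end Cfsg.Agent.S2162
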