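import Cfsg.Statements.S2164
import Cfsg.Agent.Lib.Forms.Invol.Groups
import Cfsg.Agent.S2162
-- import your own Cfsg.Agent.* helpers here

set_option autoImplicit false
open Cfsg

namespace Cfsg.Agent.S2164

/-- Conjugacy of involutions in the special unitary group SU_n(q), q even, n ≥ 3, realised over the field F with q² elements as the matrices of determinant 1 preserving the form Σ u_i v_i^q: for two elements of order 2 of SU_n(q) the following are equivalent — they are conjugate in SU_n(q); they are conjugate in SL_n(F); the matrices a − 1 and b − 1 have the same rank. -/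
theorem result {F : Type*} [Field F] [Fintype F] [CharP F 2] {n q : ℕ} (hF : Fintype.card F = q ^ 2) (hn : 3 ≤ n) (a b : ↥(Cfsg.SU n F q)) (ha : orderOf a = 2) (hb : orderOf b = 2) :
    (IsConj a b ↔ IsConj (a : Matrix.SpecialLinearGroup (Fin n) F) (b : Matrix.SpecialLinearGroup (Fin n) F)) ∧
    (IsConj a b ↔ (((a : Matrix.SpecialLinearGroup (Fin n) F) : Matrix (Fin n) (Fin n) F) - 1).rank = (((b : Matrix.SpecialLinearGroup (Fin n) F) : Matrix (Fin n) (Fin n) F) - 1).rank) := by
  classical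
  have h2 : (2 : F) = 0 := CharTwo.two_eq_zero
  have hord : ∀ c : ↥(Cfsg.SU n F q), orderOf c = 2 → orderOf (c : Matrix.SpecialLinearGroup (Fin n) F) = 2 :=
    fun c hc => by rw [Subgroup.orderOf_coe, hc]
  have hSL := S2162.result hn (a : Matrix.SpecialLinearGroup (Fin n) F) (b : Matrix.SpecialLinearGroup (Fin n) F)
    (hord a ha) (hord b hb)
  have hsub : IsConj a b → IsConj (a : Matrix.SpecialLinearGroup (Fin n) F) (b : Matrix.SpecialLinearGroup (Fin n) F) :=
    fun h => (Cfsg.SU n F q).subtype.map_isConj h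
  suffices hback : (((a : Matrix.SpecialLinearGroup (Fin n) F) : Matrix (Fin n) (Fin n) F) - 1).rank =
      (((b : Matrix.SpecialLinearGroup (Fin n) F) : Matrix (Fin n) (Fin n) F) - 1).rank → IsConj a b from
    ⟨⟨hsub, fun h => hback (hSL.1 h)⟩, ⟨fun h => hSL.1 (hsub h), hback⟩⟩
  intro hr
  set σ := Forms.HermStd.qHom hF
  set B := Forms.HermStd.hermB hF n
  have hsym : ∀ u v, σ (B u v) = B v u := fun u v => Forms.HermStd.hermForm_conj hF v u
  have hsq : ∀ c : ↥(Cfsg.SU n F q), orderOf c = 2 →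
      ((c : Matrix.SpecialLinearGroup (Fin n) F) : Matrix (Fin n) (Fin n) F) *
        ((c : Matrix.SpecialLinearGroup (Fin n) F) : Matrix (Fin n) (Fin n) F) = 1 := by
    intro c hc
    have h := pow_orderOf_eq_one (c : Matrix.SpecialLinearGroup (Fin n) F)
    rw [hord c hc, sq] at h
    exact congrArg Subtype.val h
  have hN : ∀ c : ↥(Cfsg.SU n F q), orderOf c = 2 → Forms.Invol.Nil B
      (Matrix.toLin' (((c : Matrix.SpecialLinearGroup (Fin n) F) : Matrix (Fin n) (Fin n) F) - 1)) := fun c hc =>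
    Forms.Invol.nil_sub_one h2 (hsq c hc) fun u v => Forms.HermStd.mem_SU_iff.1 c.2 v u
  rw [Forms.Invol.rank_sub_one, Forms.Invol.rank_sub_one] at hr
  obtain ⟨g, hg, hgN⟩ := Forms.Invol.conj_herm (Forms.HermStd.qHom_ne_id hF) (Forms.HermStd.qHom_qHom hF)
    (Forms.HermStd.hermB_nondegenerate hF) hsym (hN a ha) (hN b hb) hr
  set N := Matrix.toLin' (((b : Matrix.SpecialLinearGroup (Fin n) F) : Matrix (Fin n) (Fin n) F) - 1) with hNdef
  obtain ⟨xs, hxs⟩ := Forms.Invol.exists_frame_herm (Forms.HermStd.qHom_ne_id hF) (Forms.HermStd.qHom_qHom hF)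
    (Forms.HermStd.hermB_nondegenerate hF).1 hsym (hN b hb)
  have hpos : 0 < Module.finrank F (LinearMap.range N) := by
    rcases Nat.eq_zero_or_pos (Module.finrank F (LinearMap.range N)) with h0 | h0
    · exfalso
      have hb1 : (b : Matrix.SpecialLinearGroup (Fin n) F) = 1 := Subtype.ext (sub_eq_zero.1
        (Matrix.toLin'.injective ((LinearMap.range_eq_bot.1 (Submodule.finrank_eq_zero.1 h0)).trans (map_zero _).symm)))
      have := hord b hb
      rw [hb1, orderOf_one] at this
      omega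
    · exact h0
  set i₀ : Fin (Module.finrank F (LinearMap.range N)) := ⟨0, hpos⟩
  set x := xs i₀ with hx
  have hyx : B (N x) x = 1 := (hxs.gram i₀ i₀).trans (Matrix.one_apply_eq i₀)
  have hxy : B x (N x) = 1 := by rw [← hsym, hyx, map_one]
  have hyy : B (N x) (N x) = 0 := by rw [(hN b hb).adj, (hN b hb).sq, map_zero]
  set d := LinearMap.det g.toLinearMap with hd
  have hd0 : d ≠ 0 := LinearEquiv.isUnit_det' g |>.ne_zero
  have hdn : d ^ (q + 1) = 1 := by
    rw [hd, ← LinearMap.det_toMatrix']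
    exact Forms.HermStd.det_norm hF _ fun u v => by
      simp only [← Matrix.toLin'_apply, Matrix.toLin'_toMatrix']
      exact hg v u
  obtain ⟨μ, hμ⟩ := Forms.Invol.exists_sqrt h2 d⁻¹
  have hμ1 : σ μ * μ = 1 := by
    have e : (σ μ * μ) * (σ μ * μ) = 1 := by
      calc (σ μ * μ) * (σ μ * μ) = σ (μ * μ) * (μ * μ) := by rw [map_mul]; ring
        _ = (d ^ (q + 1))⁻¹ := by rw [hμ, Forms.HermStd.qHom_apply, inv_pow, ← mul_inv, ← pow_succ]
        _ = 1 := by rw [hdn, inv_one]
    have : (σ μ * μ - 1) * (σ μ * μ - 1) = 0 := by linear_combination e + (1 - σ μ * μ) * h2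
    exact sub_eq_zero.1 (mul_self_eq_zero.1 this)
  set c := Forms.Invol.scaleEnd μ (B (N x)) (B x) x (N x) with hc
  have hdet : (LinearMap.toMatrix' (c ∘ₗ g.toLinearMap)).det = 1 := by
    rw [LinearMap.det_toMatrix', LinearMap.det_comp, hc, Forms.Invol.scaleEnd_det μ hyx hxy, hμ,
      inv_mul_cancel₀ hd0]
  refine isConj_iff.2 ⟨⟨⟨_, hdet⟩, Forms.HermStd.mem_SU_iff.2 fun u v => ?_⟩,
    mul_inv_eq_iff_eq_mul.2 (Subtype.ext (Subtype.ext ?_))⟩
  · simp only [← Matrix.toLin'_apply, Matrix.toLin'_toMatrix']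
    show B (c (g v)) (c (g u)) = B v u
    rw [hc, Forms.Invol.scaleEnd_form hsym (hxs.iso i₀ i₀) hyy hyx hμ1, hg]
  · refine Forms.Invol.mul_of_intertwine (c ∘ₗ g.toLinearMap) fun v => ?_
    show c (g _) = _
    rw [hgN, hc, Forms.Invol.scaleEnd_comm μ rfl ((hN b hb).sq x) hyy
      (fun w => by rw [(hN b hb).adj, (hN b hb).sq, map_zero])
      (fun w => by rw [← (hN b hb).adj])]
    rfl

end Cfsg.Agent.S2164
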