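import Cfsg.Statements.S5344
import Cfsg.Agent.Lib.ThreeTransp.Basic

set_option autoImplicit false
open Cfsg

namespace Cfsg.Agent.S5344

open Cfsg.Agent.ThreeTransp.Basic in
/-- The subgroup generated by a 3-string of involutions has at most 24 elements. -/
theorem small {W : Type*} [Group W] (A B C : W) (hA : A * A = 1) (hB : B * B = 1) (hC : C * C = 1)
    (hAB : A * B * A = B * A * B) (hBC : B * C * B = C * B * C) (hAC : A * C = C * A) :
    ∃ S : Finset W, S.card ≤ 24 ∧ (Subgroup.closure ({A, B, C} : Set W) : Set W) ⊆ S := by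
  classical
  let H : List W := [1, A, B, A * B, B * A, A * B * A]
  let T : List W := [1, C, C * B, C * B * A]
  let L : List W := (H ×ˢ T).map fun ht => ht.1 * ht.2
  refine ⟨L.toFinset, (List.toFinset_card_le _).trans (by simp [L, H, T, List.length_product]), ?_⟩
  have mem : ∀ h ∈ H, ∀ t ∈ T, h * t ∈ L := fun h hh t ht =>
    List.mem_map.2 ⟨(h, t), List.mem_product.2 ⟨hh, ht⟩, rfl⟩
  have hH : ∀ h ∈ H, A * h ∈ H ∧ B * h ∈ H := by
    intro h hh
    have e : B * (A * B * A) = A * B := by rw [hAB]; simp [← mul_assoc, hB]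
    simp only [H, List.mem_cons, List.not_mem_nil, or_false] at hh ⊢
    rcases hh with e' | e' | e' | e' | e' | e' <;> subst h <;>
      refine ⟨by simp [← mul_assoc, hA], ?_⟩
    · simp
    · simp
    · simp [hB]
    · right; right; right; right; right; rw [hAB, ← mul_assoc]
    · simp [← mul_assoc, hB]
    · right; right; right; left; exact e
  have hAL : ∀ s ∈ L, A * s ∈ L ∧ B * s ∈ L := by
    intro s hs
    obtain ⟨⟨h, t⟩, hp, rfl⟩ := List.mem_map.1 hs
    rw [List.mem_product] at hp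
    rw [← mul_assoc, ← mul_assoc]
    exact ⟨mem _ (hH h hp.1).1 t hp.2, mem _ (hH h hp.1).2 t hp.2⟩
  have m1 : ∀ t ∈ T, t ∈ L := fun t ht => by simpa using mem 1 (by simp [H]) t ht
  have mB : ∀ t ∈ T, B * t ∈ L := fun t ht => mem B (by simp [H]) t ht
  have hCA : ∀ x : W, C * (A * x) = A * (C * x) := fun x => by rw [← mul_assoc, ← hAC, mul_assoc]
  have hCC : ∀ x : W, C * (C * x) = x := fun x => by rw [← mul_assoc, hC, one_mul]
  have hBB : ∀ x : W, B * (B * x) = x := fun x => by rw [← mul_assoc, hB, one_mul]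
  have hCBC : ∀ x : W, C * (B * (C * x)) = B * (C * (B * x)) := fun x => by
    simp only [← mul_assoc]; rw [hBC]
  have hBAB : ∀ x : W, B * (A * (B * x)) = A * (B * (A * x)) := fun x => by
    simp only [← mul_assoc]; rw [hAB]
  have hAA : ∀ x : W, A * (A * x) = x := fun x => by rw [← mul_assoc, hA, one_mul]
  have hCt : ∀ t ∈ T, C * t ∈ L ∧ C * (B * t) ∈ L ∧ C * (B * (A * t)) ∈ L := by
    intro t ht
    simp only [T, List.mem_cons, List.not_mem_nil, or_false] at ht
    have hAC' : A * C = C * A := hAC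
    rcases ht with e' | e' | e' | e' <;> subst t
    · simp only [mul_one]
      refine ⟨?_, ?_, ?_⟩
      · exact m1 C (by simp [T])
      · exact m1 (C * B) (by simp [T])
      · rw [← mul_assoc]; exact m1 (C * B * A) (by simp [T])
    · refine ⟨?_, ?_, ?_⟩
      · rw [hC]; exact m1 1 (by simp [T])
      · rw [← mul_assoc, ← hBC, mul_assoc]; exact mB _ (by simp [T])
      · rw [hAC', hCBC, ← mul_assoc C B A]; exact mB _ (by simp [T])
    · refine ⟨?_, ?_, ?_⟩
      · rw [hCC]; simpa using mB 1 (by simp [T])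
      · rw [hCBC, hB, mul_one]; exact mB C (by simp [T])
      · have e : C * (B * (A * (C * B))) = B * A * (C * B * A) := by
          rw [← hCA, hCBC]
          have := hBAB 1
          simp only [mul_one] at this
          rw [this, hCA]; simp only [mul_assoc]
        rw [e]; exact mem _ (by simp [H]) _ (by simp [T])
    · refine ⟨?_, ?_, ?_⟩
      · rw [mul_assoc, hCC]; simpa using mem (B * A) (by simp [H]) 1 (by simp [T])
      · have e : C * (B * (C * B * A)) = B * A * C := by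
          rw [mul_assoc C B A, hCBC, hBB, ← hAC', mul_assoc]
        rw [e]; exact mem _ (by simp [H]) C (by simp [T])
      · have e : C * (B * (A * (C * B * A))) = B * A * (C * B) := by
          rw [mul_assoc C B A, ← hCA, hCBC, hBAB, hA, mul_one, hCA, mul_assoc]
        rw [e]; exact mem _ (by simp [H]) _ (by simp [T])
  have hCL : ∀ s ∈ L, C * s ∈ L := by
    intro s hs
    obtain ⟨⟨h, t⟩, hp, rfl⟩ := List.mem_map.1 hs
    rw [List.mem_product] at hp
    obtain ⟨hh, ht⟩ := hp
    obtain ⟨a, b, c⟩ := hCt t ht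
    simp only [H, List.mem_cons, List.not_mem_nil, or_false] at hh
    rcases hh with e' | e' | e' | e' | e' | e' <;> subst h
    · simpa using a
    · rw [hCA]; exact (hAL _ a).1
    · exact b
    · rw [mul_assoc, hCA]; exact (hAL _ b).1
    · rw [mul_assoc]; exact c
    · rw [mul_assoc, mul_assoc, hCA]; exact (hAL _ c).1
  intro x hx
  rw [List.coe_toFinset]
  refine closure_subset_of_left_stable (S := {x | x ∈ L}) ?_ ?_ ?_ hx
  · rintro t (rfl | rfl | rfl) <;> assumption
  · simpa using m1 1 (by simp [T])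
  · rintro t (rfl | rfl | rfl) s hs
    · exact (hAL s hs).1
    · exact (hAL s hs).2
    · exact hCL s hs

theorem normal_nontrivial : ∀ σ : Equiv.Perm (Fin 4), σ ≠ 1 → ∃ g : Equiv.Perm (Fin 4),
    let k := σ * (g * σ⁻¹ * g⁻¹)
    k ≠ 1 ∧ ∃ f h : Equiv.Perm (Fin 4), h * (k * (f * k⁻¹ * f⁻¹)) * h⁻¹ =
      Equiv.swap 0 1 * Equiv.swap 2 3 := by
  decide +kernel

theorem adj_gen : Subgroup.closure ({Equiv.swap 0 1, Equiv.swap 1 2, Equiv.swap 2 3} :
    Set (Equiv.Perm (Fin 4))) = ⊤ := by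
  rw [eq_top_iff, ← Equiv.Perm.closure_isSwap, Subgroup.closure_le]
  intro σ hσ
  obtain ⟨x, y, hxy, rfl⟩ := hσ
  have h1 : Equiv.swap (0 : Fin 4) 1 ∈ Subgroup.closure ({Equiv.swap 0 1, Equiv.swap 1 2,
      Equiv.swap 2 3} : Set (Equiv.Perm (Fin 4))) := Subgroup.subset_closure (by simp)
  have h2 : Equiv.swap (1 : Fin 4) 2 ∈ Subgroup.closure ({Equiv.swap 0 1, Equiv.swap 1 2,
      Equiv.swap 2 3} : Set (Equiv.Perm (Fin 4))) := Subgroup.subset_closure (by simp)
  have h3 : Equiv.swap (2 : Fin 4) 3 ∈ Subgroup.closure ({Equiv.swap 0 1, Equiv.swap 1 2,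
      Equiv.swap 2 3} : Set (Equiv.Perm (Fin 4))) := Subgroup.subset_closure (by simp)
  have key : ∀ x y : Fin 4, x ≠ y → Equiv.swap x y = Equiv.swap 0 1 ∨
      Equiv.swap x y = Equiv.swap 1 2 ∨ Equiv.swap x y = Equiv.swap 2 3 ∨
      Equiv.swap x y = Equiv.swap 0 1 * Equiv.swap 1 2 * Equiv.swap 0 1 ∨
      Equiv.swap x y = Equiv.swap 1 2 * Equiv.swap 2 3 * Equiv.swap 1 2 ∨
      Equiv.swap x y =
        Equiv.swap 0 1 * (Equiv.swap 1 2 * Equiv.swap 2 3 * Equiv.swap 1 2) * Equiv.swap 0 1 := by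
    decide +kernel
  show Equiv.swap x y ∈ Subgroup.closure _
  rcases key x y hxy with e | e | e | e | e | e <;> rw [e]
  · exact h1
  · exact h2
  · exact h3
  · exact mul_mem (mul_mem h1 h2) h1
  · exact mul_mem (mul_mem h2 h3) h2
  · exact mul_mem (mul_mem h1 (mul_mem (mul_mem h2 h3) h2)) h1

theorem extend {H : Type*} [Group H] {a b c : H} (ha : a * a = 1) (hb : b * b = 1)
    (hc : c * c = 1) (hab : a * b * a = b * a * b) (hbc : b * c * b = c * b * c)
    (hac : a * c = c * a) : ∃ φ : Equiv.Perm (Fin 4) →* H,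
      φ (Equiv.swap 0 1) = a ∧ φ (Equiv.swap 1 2) = b ∧ φ (Equiv.swap 2 3) = c := by
  classical
  have e01 : Equiv.swap (0 : Fin 4) 1 * Equiv.swap 1 2 * Equiv.swap 0 1 =
    Equiv.swap 1 2 * Equiv.swap 0 1 * Equiv.swap 1 2 := by decide +kernel
  have e12 : Equiv.swap (1 : Fin 4) 2 * Equiv.swap 2 3 * Equiv.swap 1 2 =
    Equiv.swap 2 3 * Equiv.swap 1 2 * Equiv.swap 2 3 := by decide +kernel
  have e02 : Equiv.swap (0 : Fin 4) 1 * Equiv.swap 2 3 =
    Equiv.swap 2 3 * Equiv.swap 0 1 := by decide +kernel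
  let A : Equiv.Perm (Fin 4) × H := (Equiv.swap 0 1, a)
  let B : Equiv.Perm (Fin 4) × H := (Equiv.swap 1 2, b)
  let C : Equiv.Perm (Fin 4) × H := (Equiv.swap 2 3, c)
  obtain ⟨S, hS, hsub⟩ := small A B C
    (Prod.ext (Equiv.swap_mul_self 0 1) ha) (Prod.ext (Equiv.swap_mul_self 1 2) hb)
    (Prod.ext (Equiv.swap_mul_self 2 3) hc) (Prod.ext e01 hab) (Prod.ext e12 hbc)
    (Prod.ext e02 hac)
  set R := Subgroup.closure ({A, B, C} : Set (Equiv.Perm (Fin 4) × H)) with hR
  have hAm : A ∈ R := Subgroup.subset_closure (by simp)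
  have hBm : B ∈ R := Subgroup.subset_closure (by simp)
  have hCm : C ∈ R := Subgroup.subset_closure (by simp)
  let π : ↥R →* Equiv.Perm (Fin 4) := (MonoidHom.fst _ _).comp R.subtype
  have hsurj : Function.Surjective π := by
    rw [← MonoidHom.range_eq_top, eq_top_iff, ← adj_gen, Subgroup.closure_le]
    rintro x (rfl | rfl | rfl)
    · exact ⟨⟨A, hAm⟩, rfl⟩
    · exact ⟨⟨B, hBm⟩, rfl⟩
    · exact ⟨⟨C, hCm⟩, rfl⟩
  have hfin : (R : Set (Equiv.Perm (Fin 4) × H)).Finite := S.finite_toSet.subset hsub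
  haveI : Finite ↥R := hfin.to_subtype
  have hcard : Nat.card ↥R ≤ Nat.card (Equiv.Perm (Fin 4)) := by
    rw [Nat.card_perm, Nat.card_fin]
    calc Nat.card ↥R ≤ (S : Set _).ncard := Set.ncard_le_ncard hsub S.finite_toSet
      _ ≤ _ := by rw [Set.ncard_coe_finset]; exact hS
  let e := MulEquiv.ofBijective π (hsurj.bijective_of_nat_card_le hcard)
  refine ⟨((MonoidHom.snd _ _).comp R.subtype).comp e.symm.toMonoidHom, ?_, ?_, ?_⟩
  · have : e.symm (Equiv.swap 0 1) = ⟨A, hAm⟩ := e.symm_apply_eq.2 rfl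
    simp [this, A]
  · have : e.symm (Equiv.swap 1 2) = ⟨B, hBm⟩ := e.symm_apply_eq.2 rfl
    simp [this, B]
  · have : e.symm (Equiv.swap 2 3) = ⟨C, hCm⟩ := e.symm_apply_eq.2 rfl
    simp [this, C]

/-- In a set of 3-transpositions, let a, b, c be members with a and c different and commuting, while neither a nor c commutes with b (a 3-string). Then there is an injective homomorphism from the symmetric group of degree 4 into the ambient group sending the transpositions (0 1), (1 2), (2 3) to a, b, c; so a, b, c generate a copy of the symmetric group of degree 4 in which they are transpositions. -/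
theorem result {G : Type*} [Group G] {D : Set G} (hD : Cfsg.IsThreeTranspositionSet D) {a b c : G} (ha : a ∈ D) (hb : b ∈ D) (hc : c ∈ D) (hac : a ≠ c) (hac' : Commute a c) (hab : ¬ Commute a b) (hbc : ¬ Commute b c) : ∃ φ : Equiv.Perm (Fin 4) →* G, Function.Injective φ ∧ φ (Equiv.swap 0 1) = a ∧ φ (Equiv.swap 1 2) = b ∧ φ (Equiv.swap 2 3) = c := by
  obtain ⟨φ, h1, h2, h3⟩ := extend (ThreeTransp.Basic.sq hD ha) (ThreeTransp.Basic.sq hD hb)
    (ThreeTransp.Basic.sq hD hc) (ThreeTransp.Basic.braid hD ha hb hab)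
    (ThreeTransp.Basic.braid hD hb hc hbc) hac'
  refine ⟨φ, ?_, h1, h2, h3⟩
  rw [injective_iff_map_eq_one]
  intro σ hσ
  by_contra hne
  obtain ⟨g, -, f, h, e⟩ := normal_nontrivial σ hne
  have := congrArg φ e
  simp only [map_mul, map_inv, hσ, h1, h3] at this
  simp at this
  exact hac (by rw [← ThreeTransp.Basic.inv_eq hD ha]; exact inv_eq_of_mul_eq_one_right this.symm)

end Cfsg.Agent.S5344
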