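import Cfsg.Statements.S5515
import Cfsg.Agent.S2608
import Cfsg.Agent.S0296
import Cfsg.Agent.S1265
import Mathlib.Data.Fintype.Perm
-- import your own Cfsg.Agent.* helpers here

set_option autoImplicit false
open Cfsg

namespace Cfsg.Agent.S5515

open scoped Pointwise

theorem stab_eq : ∀ c : Equiv.Perm (Fin 4), c * (c * c) = 1 → c ≠ 1 → ∀ h : Equiv.Perm (Fin 4),
    (h * c * h⁻¹ = c ∨ h * c * h⁻¹ = c * c) → ∀ a : Fin 4, c a = a → h a = a := by decide +kernel

theorem three_fixes : ∀ c : Equiv.Perm (Fin 4), c * (c * c) = 1 → ∃ a, c a = a := by decide +kernel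

theorem card_six_eq_stab (H : Subgroup (Equiv.Perm (Fin 4))) (hH : Nat.card H = 6) :
    ∃ a : Fin 4, H = MulAction.stabilizer (Equiv.Perm (Fin 4)) a := by
  haveI : Fact (Nat.Prime 3) := ⟨Nat.prime_three⟩
  obtain ⟨c, hc⟩ := exists_prime_orderOf_dvd_card' (G := H) 3 (hH ▸ by norm_num)
  have hc3 : (c : Equiv.Perm (Fin 4)) * (c * c) = 1 := by
    have h := pow_orderOf_eq_one (c : Equiv.Perm (Fin 4))
    rwa [Subgroup.orderOf_coe, hc, pow_succ', pow_two] at h
  have hc1 : (c : Equiv.Perm (Fin 4)) ≠ 1 := by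
    intro e
    have : c = 1 := Subtype.ext e
    rw [this, orderOf_one] at hc
    norm_num at hc
  obtain ⟨a, ha⟩ := three_fixes _ hc3
  refine ⟨a, ?_⟩
  have hn : (Subgroup.zpowers c).Normal := Subgroup.normal_of_index_eq_two <| by
    have := (Subgroup.zpowers c).card_mul_index
    rw [Nat.card_zpowers, hc, hH] at this
    omega
  have hle : H ≤ MulAction.stabilizer (Equiv.Perm (Fin 4)) a := by
    intro h hh
    refine MulAction.mem_stabilizer_iff.mpr (stab_eq c hc3 hc1 h ?_ a ha)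
    have hm := hn.conj_mem c (Subgroup.mem_zpowers c) ⟨h, hh⟩
    rw [mem_zpowers_iff_mem_range_orderOf, hc, Finset.mem_image] at hm
    obtain ⟨k, hk, e⟩ := hm
    rw [Finset.mem_range] at hk
    have e' := congrArg Subtype.val e
    simp only [Subgroup.coe_mul, Subgroup.coe_inv, SubgroupClass.coe_pow] at e'
    interval_cases k
    · rw [pow_zero] at e'
      exact absurd (conj_eq_one_iff.mp e'.symm) hc1
    · left; rw [← e', pow_one]
    · right; rw [← e', pow_two]
  refine Subgroup.eq_of_le_of_card_ge hle ?_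
  rw [hH]
  have : Nat.card (MulAction.stabilizer (Equiv.Perm (Fin 4)) a) * 4 = 24 := by
    have h1 := (MulAction.stabilizer (Equiv.Perm (Fin 4)) a).card_mul_index
    rw [MulAction.index_stabilizer_of_transitive, Nat.card_perm, Nat.card_fin] at h1
    exact h1.trans (by decide)
  omega

theorem six_conj {O : Type*} [Group O] (e : O ≃* Equiv.Perm (Fin 4)) (A B : Subgroup O) (hA : Nat.card A = 6)
    (hB : Nat.card B = 6) : ∃ o : O, A.map (MulAut.conj o).toMonoidHom = B := by
  obtain ⟨a, ha⟩ := card_six_eq_stab (A.map e.toMonoidHom) (by rw [Subgroup.card_map_of_injective e.injective, hA])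
  obtain ⟨b, hb⟩ := card_six_eq_stab (B.map e.toMonoidHom) (by rw [Subgroup.card_map_of_injective e.injective, hB])
  refine ⟨e.symm (Equiv.swap a b), Subgroup.map_injective (f := e.toMonoidHom) e.injective ?_⟩
  have hab : Equiv.swap a b • a = b := Equiv.swap_apply_left a b
  rw [hb, ← hab, MulAction.stabilizer_smul_eq_stabilizer_map_conj, ← ha, Subgroup.map_map, Subgroup.map_map]
  congr 1
  ext x
  simp [MulAut.conj_apply]

theorem embed_aut {T : Type*} [Group T] [Finite T] (hZ : Subgroup.center T = ⊥)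
    {X : Type*} [Group X] [Finite X] (M : Subgroup X) [M.Normal] (eM : M ≃* T)
    (hCM : Subgroup.centralizer (M : Set X) ≤ M) (hqM : Nonempty (X ⧸ M ≃* Equiv.Perm (Fin 3))) :
    ∃ R : Subgroup (MulAut T), Cfsg.Inn T ≤ R ∧ Nat.card (R.map (QuotientGroup.mk' (Cfsg.Inn T))) = 6 ∧
      Nonempty (X ≃* R) := by
  obtain ⟨q⟩ := hqM
  let φ : X →* MulAut T := (MulAut.congr eM).toMonoidHom.comp MulAut.conjNormal
  have hφ : ∀ x t, φ x t = eM ⟨x * (eM.symm t : X) * x⁻¹, (inferInstance : M.Normal).conj_mem _ (eM.symm t).2 x⟩ :=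
    fun x t => congrArg eM (Subtype.ext (MulAut.conjNormal_apply x (eM.symm t)))
  have hinj : Function.Injective φ := by
    rw [← MonoidHom.ker_eq_bot_iff, eq_bot_iff]
    intro x hx
    have hxC : x ∈ Subgroup.centralizer (M : Set X) := by
      rw [Subgroup.mem_centralizer_iff]
      intro m hm
      have h1 := DFunLike.congr_fun (MonoidHom.mem_ker.mp hx) (eM ⟨m, hm⟩)
      rw [hφ] at h1
      have h2 := congrArg Subtype.val (eM.injective (h1.trans (MulAut.one_apply (M := T) _)))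
      simp only [MulEquiv.symm_apply_apply] at h2
      exact (mul_inv_eq_iff_eq_mul.mp h2).symm
    have hz : eM ⟨x, hCM hxC⟩ ∈ Subgroup.center T := by
      rw [Subgroup.mem_center_iff]
      intro t
      obtain ⟨m, rfl⟩ := eM.surjective t
      rw [← map_mul, ← map_mul]
      exact congrArg eM (Subtype.ext (Subgroup.mem_centralizer_iff.mp hxC m m.2))
    rw [hZ, Subgroup.mem_bot, ← map_one eM] at hz
    exact Subgroup.mem_bot.mpr (congrArg Subtype.val (eM.injective hz))
  have himage : ∀ t : T, φ (eM.symm t : X) = MulAut.conj t := by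
    intro t
    ext u
    rw [hφ, MulAut.conj_apply]
    conv_rhs => rw [← eM.apply_symm_apply t, ← eM.apply_symm_apply u, ← map_inv, ← map_mul, ← map_mul]
    exact congrArg eM (Subtype.ext (by simp))
  refine ⟨φ.range, ?_, ?_, ⟨MonoidHom.ofInjective hinj⟩⟩
  · rintro _ ⟨t, rfl⟩
    exact ⟨_, himage t⟩
  · rw [MonoidHom.range_eq_map, Subgroup.map_map, ← MonoidHom.range_eq_map]
    have hker : ((QuotientGroup.mk' (Cfsg.Inn T)).comp φ).ker = M := by
      ext x
      rw [MonoidHom.mem_ker, MonoidHom.comp_apply, QuotientGroup.mk'_apply, QuotientGroup.eq_one_iff]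
      constructor
      · rintro ⟨t, ht⟩
        have : x = (eM.symm t : X) := hinj (by rw [himage]; exact ht.symm)
        rw [this]
        exact SetLike.coe_mem _
      · intro hx
        exact ⟨eM ⟨x, hx⟩, by rw [← himage, eM.symm_apply_apply]⟩
    rw [← Nat.card_congr (QuotientGroup.quotientKerEquivRange _).toEquiv,
      Nat.card_congr (QuotientGroup.quotientMulEquivOfEq hker).toEquiv, Nat.card_congr q.toEquiv, Nat.card_perm,
      Nat.card_fin]
    rfl

theorem iso_of_out_perm_four {T : Type*} [Group T] [Finite T] (hZ : Subgroup.center T = ⊥) (e : Cfsg.Out T ≃* Equiv.Perm (Fin 4))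
    {G : Type*} [Group G] [Finite G] {G' : Type*} [Group G'] [Finite G']
    (L : Subgroup G) [L.Normal] (L' : Subgroup G') [L'.Normal] (eL : L ≃* T) (eL' : L' ≃* T)
    (hC : Subgroup.centralizer (L : Set G) ≤ L) (hC' : Subgroup.centralizer (L' : Set G') ≤ L')
    (hq : Nonempty (G ⧸ L ≃* Equiv.Perm (Fin 3))) (hq' : Nonempty (G' ⧸ L' ≃* Equiv.Perm (Fin 3))) :
    Nonempty (G ≃* G') := by
  obtain ⟨R, hR, hR6, ⟨r⟩⟩ := embed_aut hZ L eL hC hq
  obtain ⟨R', hR', hR6', ⟨r'⟩⟩ := embed_aut hZ L' eL' hC' hq'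
  obtain ⟨o, ho⟩ := six_conj e _ _ hR6 hR6'
  obtain ⟨a, rfl⟩ := QuotientGroup.mk'_surjective (Cfsg.Inn T) o
  have hcomp : (MulAut.conj (QuotientGroup.mk' (Cfsg.Inn T) a)).toMonoidHom.comp (QuotientGroup.mk' (Cfsg.Inn T)) =
      (QuotientGroup.mk' (Cfsg.Inn T)).comp (MulAut.conj a).toMonoidHom := by
    ext x
    simp [MulAut.conj_apply]
  have hRR : R.map (MulAut.conj a).toMonoidHom = R' := by
    rw [Subgroup.map_map, hcomp, ← Subgroup.map_map] at ho
    have h := congrArg (Subgroup.comap (QuotientGroup.mk' (Cfsg.Inn T))) ho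
    rwa [Subgroup.comap_map_eq, Subgroup.comap_map_eq, QuotientGroup.ker_mk', sup_eq_left.mpr hR',
      sup_eq_left.mpr ?_] at h
    intro x hx
    refine ⟨a⁻¹ * x * a, hR ?_, by simp [MulAut.conj_apply, mul_assoc]⟩
    have := (inferInstance : (Cfsg.Inn T).Normal).conj_mem x hx a⁻¹
    simpa using this
  exact ⟨r.trans ((R.equivMapOfInjective _ (MulAut.conj a).injective).trans
    ((MulEquiv.subgroupCongr hRR).trans r'.symm))⟩

/-- Let G and G′ be finite groups whose generalized Fitting subgroups are isomorphic to PΩ⁺(8, 3) (the commutator subgroup of the isometry group of the hyperbolic quadratic form in dimension 8 over the field with three elements, modulo its centre) with quotients isomorphic to the symmetric group of degree 3. Then G and G′ are isomorphic. -/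
theorem result {G G' : Type*} [Group G] [Finite G] [Group G'] [Finite G'] (hF : Nonempty (↥(Cfsg.generalizedFittingSubgroup G) ≃* Cfsg.POmega (ZMod 3) (Cfsg.quadFormPlus 4 (ZMod 3)))) (hF' : Nonempty (↥(Cfsg.generalizedFittingSubgroup G') ≃* Cfsg.POmega (ZMod 3) (Cfsg.quadFormPlus 4 (ZMod 3)))) [hn : (Cfsg.generalizedFittingSubgroup G).Normal] [hn' : (Cfsg.generalizedFittingSubgroup G').Normal] (hq : Nonempty (G ⧸ Cfsg.generalizedFittingSubgroup G ≃* Equiv.Perm (Fin 3))) (hq' : Nonempty (G' ⧸ Cfsg.generalizedFittingSubgroup G' ≃* Equiv.Perm (Fin 3))) : Nonempty (G ≃* G') := by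
  have hT := Cfsg.Agent.S0296.result (F := ZMod 3) 4 le_rfl
  haveI := hT
  have hout := Cfsg.Agent.S2608.result (F := ZMod 3) (p := 3) (f := 1) (m := 4) le_rfl
    (by rw [ZMod.card]; rfl) (by norm_num) le_rfl
  rw [if_pos rfl] at hout
  obtain ⟨e⟩ := hout
  let e4 : Cfsg.Out (Cfsg.POmega (ZMod 3) (Cfsg.quadFormPlus 4 (ZMod 3))) ≃* Equiv.Perm (Fin 4) :=
    e.trans MulEquiv.prodUnique
  obtain ⟨eL⟩ := hF
  obtain ⟨eL'⟩ := hF'
  haveI : Finite (Cfsg.POmega (ZMod 3) (Cfsg.quadFormPlus 4 (ZMod 3))) := Finite.of_equiv _ eL.toEquiv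
  have hZ : Subgroup.center (Cfsg.POmega (ZMod 3) (Cfsg.quadFormPlus 4 (ZMod 3))) = ⊥ := by
    refine (IsSimpleGroup.eq_bot_or_eq_top_of_normal _ inferInstance).resolve_right fun htop => ?_
    haveI : IsCyclic (Cfsg.POmega (ZMod 3) (Cfsg.quadFormPlus 4 (ZMod 3))) := by
      letI : CommGroup (Cfsg.POmega (ZMod 3) (Cfsg.quadFormPlus 4 (ZMod 3))) :=
        Group.commGroupOfCenterEqTop htop
      exact IsSimpleGroup.isCyclic
    have hc : ∀ a b : MulAut (Cfsg.POmega (ZMod 3) (Cfsg.quadFormPlus 4 (ZMod 3))), a * b = b * a := by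
      intro a b
      obtain ⟨m, hm⟩ := MonoidHom.map_cyclic a.toMonoidHom
      obtain ⟨k, hk⟩ := MonoidHom.map_cyclic b.toMonoidHom
      ext g
      have ha : ∀ g, a g = g ^ m := hm
      have hb : ∀ g, b g = g ^ k := hk
      rw [MulAut.mul_apply, MulAut.mul_apply, ha, hb, ha, hb, ← zpow_mul, ← zpow_mul, mul_comm]
    have hnc : Equiv.swap (0 : Fin 4) 1 * Equiv.swap 1 2 ≠ Equiv.swap 1 2 * Equiv.swap 0 1 := by decide +kernel
    refine hnc ?_
    obtain ⟨x, hx⟩ := e4.surjective (Equiv.swap (0 : Fin 4) 1)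
    obtain ⟨y, hy⟩ := e4.surjective (Equiv.swap (1 : Fin 4) 2)
    rw [← hx, ← hy, ← map_mul, ← map_mul]
    obtain ⟨a, rfl⟩ := QuotientGroup.mk'_surjective _ x
    obtain ⟨b, rfl⟩ := QuotientGroup.mk'_surjective _ y
    rw [← map_mul, ← map_mul, hc]
  exact iso_of_out_perm_four hZ e4 _ _ eL eL' Cfsg.Agent.S1265.result Cfsg.Agent.S1265.result hq hq'

end Cfsg.Agent.S5515
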