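import Cfsg.Statements.S5017
import Cfsg.Agent.Lib.ThreeTransp.RankOne
import Cfsg.Agent.Lib.Components.Basic

set_option autoImplicit false
open Cfsg

namespace Cfsg.Agent.S5017

open Cfsg.Agent.ThreeTransp

/-- Let X be a rank one group with unipotent subgroups A and B and N a normal subgroup of X. Then either X = N A or N lies in the centre of X. Consequently a perfect rank one group is quasisimple. -/
theorem result {X : Type*} [Group X] {A B : Subgroup X} (h : Cfsg.IsRankOneGroup X A B) :
    (∀ N : Subgroup X, N.Normal → N ⊔ A = ⊤ ∨ N ≤ Subgroup.center X) ∧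
    (Group.IsPerfect X → Cfsg.IsQuasisimple X) := by
  obtain ⟨htop, hp⟩ := h
  have main : ∀ N : Subgroup X, N.Normal → N ⊔ A = ⊤ ∨ N ≤ Subgroup.center X := by
    intro N hN
    by_cases hle : ∀ n ∈ N, n ∈ Subgroup.normalizer (A : Set X)
    · right
      have hall : ∀ C ∈ Cfsg.unipotentSubgroups A B, ∀ n ∈ N,
          n ∈ Subgroup.normalizer (C : Set X) := by
        rintro C ⟨x, -, rfl⟩ n hn
        rw [← RankOne.conjBy_eq_iff, RankOne.conjBy_conjBy,
          show n * x = x * (x⁻¹ * n * x) by simp [mul_assoc], ← RankOne.conjBy_conjBy,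
          RankOne.conjBy_eq_iff.2 (hle _ (by simpa using hN.conj_mem n hn x⁻¹))]
      have hcomm : ∀ C ∈ Cfsg.unipotentSubgroups A B, ∀ n ∈ N, ∀ c ∈ C, n * c = c * n := by
        intro C hC n hn c hc
        have h1 : n * c * n⁻¹ * c⁻¹ ∈ C :=
          C.mul_mem ((Subgroup.mem_normalizer_iff.1 (hall C hC n hn) c).1 hc) (C.inv_mem hc)
        have h2 : n * c * n⁻¹ * c⁻¹ ∈ N := by
          rw [mul_assoc n c, mul_assoc n]
          exact N.mul_mem hn (hN.conj_mem _ (N.inv_mem hn) c)
        obtain ⟨F, hF, hne⟩ : ∃ F ∈ Cfsg.unipotentSubgroups A B, C ≠ F := by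
          by_cases hCA : C = A
          · exact ⟨B, RankOne.right_mem hp, hCA ▸ hp.ne⟩
          · exact ⟨A, RankOne.self_mem, hCA⟩
        have h3 := RankOne.eq_one_of_normalizes hp hC hF hne h1 (hall F hF _ h2)
        exact mul_inv_eq_iff_eq_mul.1 (mul_inv_eq_one.1 h3)
      intro n hn
      rw [Subgroup.mem_center_iff]
      intro x
      have hx : x ∈ A ⊔ B := htop ▸ Subgroup.mem_top x
      rw [Subgroup.sup_eq_closure] at hx
      induction hx using Subgroup.closure_induction with
      | mem z hz =>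
        exact hz.elim (fun hz => (hcomm A RankOne.self_mem n hn z hz).symm)
          (fun hz => (hcomm B (RankOne.right_mem hp) n hn z hz).symm)
      | one => simp
      | mul y z _ _ hy hz => rw [mul_assoc, hz, ← mul_assoc, hy, mul_assoc]
      | inv y _ hy => exact (Commute.inv_left hy).eq
    · left
      push Not at hle
      obtain ⟨n, hn, hnA⟩ := hle
      have hC : Cfsg.conjBy A n ∈ Cfsg.unipotentSubgroups A B := ⟨n, htop ▸ Subgroup.mem_top n, rfl⟩
      obtain ⟨a, ha, e⟩ := ((RankOne.mem_iff hp).1 hC).resolve_left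
        fun e => hnA (RankOne.conjBy_eq_iff.1 e)
      rw [eq_top_iff, ← htop]
      refine sup_le le_sup_right fun b hb => ?_
      have hm : a * b * a⁻¹ ∈ Cfsg.conjBy A n := e ▸ RankOne.conj_mem_conjBy hb
      have hm' := RankOne.conjBy_le (le_sup_right : A ≤ N ⊔ A) (Subgroup.mem_sup_left hn) hm
      have ha' : a ∈ N ⊔ A := Subgroup.mem_sup_right ha
      have := Subgroup.mul_mem _ (Subgroup.mul_mem _ (inv_mem ha') hm') ha'
      simpa [mul_assoc] using this
  refine ⟨main, fun hperf => ?_⟩
  have hnt : Nontrivial X := by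
    obtain ⟨a, -, ha1⟩ := RankOne.exists_ne_one hp
    exact ⟨⟨a, 1, ha1⟩⟩
  refine Components.Basic.isQuasisimple_of_normal hperf hnt fun N hN => ?_
  refine (main N hN).imp (fun hNA => ?_) id
  haveI := hp.nilpotent_left
  have hs : Function.Surjective ((QuotientGroup.mk' N).comp A.subtype) := by
    intro q
    obtain ⟨x, rfl⟩ := QuotientGroup.mk'_surjective N q
    obtain ⟨m, hm, a, ha, rfl⟩ := Subgroup.mem_sup_of_normal_left.1 (hNA ▸ Subgroup.mem_top x)
    refine ⟨⟨a, ha⟩, ?_⟩
    simp [(QuotientGroup.eq_one_iff m).2 hm]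
  haveI : Group.IsNilpotent (X ⧸ N) := Group.nilpotent_of_surjective _ hs
  haveI : Group.IsPerfect (X ⧸ N) := hperf.ofSurjective (QuotientGroup.mk'_surjective N)
  by_contra hne
  haveI : Nontrivial (X ⧸ N) := (QuotientGroup.nontrivial_iff (N := N)).2 hne
  exact Group.IsPerfect.not_isNilpotent (G := X ⧸ N) inferInstance

end Cfsg.Agent.S5017
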