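import Cfsg.Statements.S5018
import Cfsg.Agent.S5017
import Cfsg.Agent.Lib.ThreeTransp.RankOne

set_option autoImplicit false
open Cfsg

namespace Cfsg.Agent.S5018

open Cfsg.Agent.ThreeTransp
theorem eq_top_of_normalClosure {G : Type*} [Group G] [Group.IsNilpotent G] :
    ∀ A : Subgroup G, Subgroup.normalClosure (A : Set G) = ⊤ → A = ⊤ := by
  refine Group.nilpotent_center_quotient_ind
    (P := fun G _ _ => ∀ A : Subgroup G, Subgroup.normalClosure (A : Set G) = ⊤ → A = ⊤) G
    (fun G _ _ A _ => Subsingleton.elim _ _) (fun G _ _ ih A hA => ?_)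
  let π := QuotientGroup.mk' (Subgroup.center G)
  have h1 : A.map π = ⊤ := by
    apply ih
    rw [eq_top_iff, ← Subgroup.map_top_of_surjective π (QuotientGroup.mk'_surjective _), ← hA,
      Subgroup.map_le_iff_le_comap]
    refine Subgroup.normalClosure_le_normal fun a ha => ?_
    exact Subgroup.mem_comap.2 (Subgroup.subset_normalClosure ⟨a, ha, rfl⟩)
  have hAZ : A ⊔ Subgroup.center G = ⊤ := by
    have := congrArg (Subgroup.comap π) h1
    rwa [Subgroup.comap_map_eq, QuotientGroup.ker_mk', Subgroup.comap_top] at this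
  have hn : A.Normal := by
    refine ⟨fun a ha g => ?_⟩
    obtain ⟨b, hb, z, hz, rfl⟩ :=
      Subgroup.mem_sup_of_normal_right.1 (hAZ ▸ Subgroup.mem_top g)
    have e : b * z * a * (b * z)⁻¹ = b * a * b⁻¹ := by
      rw [mul_assoc b z a, ← Subgroup.mem_center_iff.1 hz a]; simp [mul_assoc]
    rw [e]
    exact A.mul_mem (A.mul_mem hb ha) (A.inv_mem hb)
  rw [← hA, Subgroup.normalClosure_eq_self]

/-- A rank one group is not nilpotent, and its second centre equals its centre. -/
theorem result {X : Type*} [Group X] {A B : Subgroup X} (h : Cfsg.IsRankOneGroup X A B) :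
    Subgroup.upperCentralSeries X 2 = Subgroup.center X ∧ ¬ Group.IsNilpotent X := by
  obtain ⟨htop, hp⟩ := h
  have hnn : ¬ Group.IsNilpotent X := by
    intro hn
    have hA : Subgroup.normalClosure (A : Set X) = ⊤ := by
      rw [eq_top_iff, ← htop]
      refine sup_le Subgroup.subset_normalClosure fun b hb => ?_
      obtain ⟨x, -, e⟩ := RankOne.right_mem hp
      rw [e, RankOne.mem_conjBy] at hb
      have := Subgroup.normalClosure_normal.conj_mem _
        (Subgroup.subset_normalClosure (s := (A : Set X)) hb) x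
      simpa [mul_assoc] using this
    have hAtop := eq_top_of_normalClosure A hA
    obtain ⟨b, hb, hb1⟩ := RankOne.exists_ne_one (RankOnePair_symm hp)
    exact hb1 (RankOne.inf_normalizer (RankOnePair_symm hp) hb
      (Subgroup.le_normalizer (hAtop ▸ Subgroup.mem_top b)))
  refine ⟨le_antisymm ?_ ?_, hnn⟩
  · refine ((S5017.result ⟨htop, hp⟩).1 _ inferInstance).resolve_left fun hN => hnn ?_
    haveI := hp.nilpotent_left
    set Z := Subgroup.upperCentralSeries X 2
    have hs : Function.Surjective ((QuotientGroup.mk' Z).comp A.subtype) := by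
      intro q
      obtain ⟨x, rfl⟩ := QuotientGroup.mk'_surjective Z q
      obtain ⟨m, hm, a, ha, rfl⟩ := Subgroup.mem_sup_of_normal_left.1 (hN ▸ Subgroup.mem_top x)
      exact ⟨⟨a, ha⟩, by simp [(QuotientGroup.eq_one_iff m).2 hm]⟩
    haveI : Group.IsNilpotent (X ⧸ Z) := Group.nilpotent_of_surjective _ hs
    obtain ⟨n, hn⟩ := (Subgroup.nilpotent_iff_lowerCentralSeries (G := X ⧸ Z)).1 inferInstance
    rw [Subgroup.nilpotent_iff_lowerCentralSeries]
    refine ⟨n + 2, ?_⟩
    have h1 : (⊤ : Subgroup X).lowerCentralSeries n ≤ Z := by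
      have := Subgroup.map_lowerCentralSeries (⊤ : Subgroup X) (QuotientGroup.mk' Z) n
      rw [Subgroup.map_top_of_surjective _ (QuotientGroup.mk'_surjective Z), hn,
        Subgroup.map_eq_bot_iff, QuotientGroup.ker_mk'] at this
      exact this
    have h2 : (⊤ : Subgroup X).lowerCentralSeries (n + 1) ≤ Subgroup.center X := by
      rw [Subgroup.lowerCentralSeries_succ, ← Subgroup.upperCentralSeries_one, Subgroup.commutator_le]
      intro x hx y _
      exact (Subgroup.mem_upperCentralSeries_succ_iff (n := 1)).1 (h1 hx) y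
    rw [Subgroup.lowerCentralSeries_succ, eq_bot_iff, Subgroup.commutator_le]
    intro x hx y _
    rw [Subgroup.mem_bot, commutatorElement_eq_one_iff_mul_comm]
    exact (Subgroup.mem_center_iff.1 (h2 hx) y).symm
  · rw [← Subgroup.upperCentralSeries_one]
    exact Subgroup.upperCentralSeries_mono X (by norm_num : 1 ≤ 2)

end Cfsg.Agent.S5018
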