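import Cfsg.Statements.S1613
import Cfsg.Agent.Lib.ThreeTransp.Radical

set_option autoImplicit false
open Cfsg

namespace Cfsg.Agent.S1613

/-- For a transposition x of a Fischer 3-transposition group, the transpositions commuting with x (other than x) form one conjugacy class of the subgroup they generate. -/
theorem result {G : Type*} [Group G] [Finite G] (hsol : ∀ N : Subgroup G, N.Normal → Group.IsSolvable ↥N → N = ⊥) (hperf : ⁅commutator G, commutator G⁆ = commutator G) {D : Set G} (hD : Cfsg.IsThreeTranspositionClass D) (x : G) (hx : x ∈ D) : ∀ y ∈ {y : G | y ∈ D ∧ y ≠ x ∧ Commute x y}, ∀ y' ∈ {y : G | y ∈ D ∧ y ≠ x ∧ Commute x y}, ∃ g ∈ Subgroup.closure {y : G | y ∈ D ∧ y ≠ x ∧ Commute x y}, g * y * g⁻¹ = y' := by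
  obtain ⟨hG, -⟩ := ThreeTransp.Classes.of_class hD
  obtain ⟨hprim, hw, z2⟩ := ThreeTransp.Radical.primitive hsol hperf hD
  rintro y ⟨hy, hyx, hxy⟩ y' ⟨hy', hyx', hxy'⟩
  obtain ⟨h, hh, rfl⟩ := ThreeTransp.RankThree.linked_inner hG hprim hw z2 hx hy hy' hxy hxy' hyx hyx'
  clear hy' hyx' hxy'
  induction hh using Subgroup.closure_induction'' generalizing y with
  | one => exact ⟨1, one_mem _, rfl⟩
  | mem v hv =>
    by_cases hvx : v = x
    · subst hvx; exact ⟨1, one_mem _, by rw [hxy.eq]; group⟩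
    · exact ⟨v, Subgroup.subset_closure ⟨hv.1, hvx, hv.2⟩, rfl⟩
  | inv_mem v hv =>
    by_cases hvx : v = x
    · subst hvx; exact ⟨1, one_mem _, by rw [hxy.inv_left.eq]; group⟩
    · exact ⟨v⁻¹, inv_mem (Subgroup.subset_closure ⟨hv.1, hvx, hv.2⟩), rfl⟩
  | mul u v _ hvm hu hv =>
    obtain ⟨g₂, hg₂, e₂⟩ := hv y hy hyx hxy
    have hvc : Commute x v := ThreeTransp.RankThree.loc_commute (D := D) hvm
    have hvx : v * x * v⁻¹ = x := ThreeTransp.RankThree.conj_self_of_commute hvc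
    obtain ⟨g₁, hg₁, e₁⟩ := hu (v * y * v⁻¹) (hG.2.1 v y hy)
      (fun e => hyx (mul_left_cancel (mul_right_cancel (e.trans hvx.symm))))
      (by conv_lhs => rw [← hvx]
          exact ThreeTransp.Basic.commute_conj.2 hxy)
    refine ⟨g₁ * g₂, mul_mem hg₁ hg₂, ?_⟩
    rw [show g₁ * g₂ * y * (g₁ * g₂)⁻¹ = g₁ * (g₂ * y * g₂⁻¹) * g₁⁻¹ by group, e₂, e₁]
    group

end Cfsg.Agent.S1613
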