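import Cfsg.Statements.S5596
import Cfsg.Agent.Lib.LargeExtra.Setting

set_option autoImplicit false
open Cfsg

namespace Cfsg.Agent.S5596

/-- Setting: `z` is an involution of the finite group `G`; for each element `x`, `Q x` is the largest normal 2-subgroup of the centralizer of `x`; `Q z` is extraspecial and contains its own centralizer in `G`. A subgroup `U` is singular when it is elementary abelian, every non-identity element of `U` is conjugate to `z`, and any two non-identity elements `u`, `v` of `U` are orthogonal (`v ∈ Q u`). Write `QU` for the intersection of the `Q u` and `LU` for the join of the `Q u` over the non-identity `u` in `U`. If `U` is singular of order `2 ^ n` with `n ≥ 2`, then `U ≤ QU ≤ LU`, `LU` normalizes `U`, and `LU` induces on `U` its full automorphism group (the general linear group of dimension `n` over the field with two elements): every automorphism of `U` is conjugation by some element of `LU`. -/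
theorem result {G : Type*} [Group G] [Finite G]
    (Q : G → Subgroup G)
    (hQ : ∀ x : G, Q x = (Cfsg.pCore 2 ↥(Subgroup.centralizer ({x} : Set G))).map (Subgroup.centralizer ({x} : Set G)).subtype)
    (z : G) (hz : orderOf z = 2) (hE : Cfsg.IsExtraspecial 2 ↥(Q z))
    (hC : Subgroup.centralizer ((Q z : Subgroup G) : Set G) ≤ Q z)
    (U : Subgroup G) (hU2 : ∀ u ∈ U, u * u = 1)
    (hS : ∀ u ∈ U, u ≠ 1 → ∃ g : G, g * z * g⁻¹ = u)
    (hO : ∀ u ∈ U, ∀ v ∈ U, u ≠ 1 → v ≠ 1 → v ∈ Q u)
    (QU LU : Subgroup G) (hQU : QU = ⨅ u ∈ ((U : Set G) \ {1}), Q u) (hLU : LU = ⨆ u ∈ ((U : Set G) \ {1}), Q u)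
    (n : ℕ) (hn : 2 ≤ n) (hcard : Nat.card ↥U = 2 ^ n) :
    U ≤ QU ∧ QU ≤ LU ∧ LU ≤ Subgroup.normalizer (U : Set G) ∧
      ∀ φ : ↥U ≃* ↥U, ∃ g ∈ LU, ∀ u : ↥U, g * (u : G) * g⁻¹ = ((φ u : ↥U) : G) := by
  classical
  have hctr : ∀ u ∈ U, u ≠ 1 → LargeExtra.Ctr (Q u) u := fun u hu hu1 =>
    LargeExtra.setting_ctr Q hQ hz hE hC (hS u hu hu1)
  have hne : ∃ u ∈ U, u ≠ 1 := by
    by_contra hc
    push Not at hc
    rw [(Subgroup.eq_bot_iff_forall U).2 hc, Subgroup.card_bot] at hcard
    have : 2 ^ 2 ≤ 2 ^ n := Nat.pow_le_pow_right (by norm_num) hn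
    omega
  have hUle : ∀ v ∈ U, v ≠ 1 → U ≤ Q v := by
    intro v hv hv1 u hu
    by_cases hu1 : u = 1
    · rw [hu1]; exact one_mem _
    · exact hO v hv u hu hv1 hu1
  have hQle : ∀ u ∈ U, u ≠ 1 → Q u ≤ LU := fun u hu hu1 => by
    rw [hLU]; exact le_iSup₂_of_le u ⟨hu, hu1⟩ le_rfl
  have hact : ∀ u ∈ U, u ≠ 1 → ∀ q ∈ Q u, ∀ v ∈ U, q * v * q⁻¹ = v ∨ q * v * q⁻¹ = u * v := fun u hu hu1 q hq v hv =>
    (hctr u hu hu1).conj_cases hq (hUle u hu hu1 hv)
  refine ⟨?_, ?_, ?_, ?_⟩
  · rw [hQU]; exact le_iInf₂ fun v hv => hUle v hv.1 hv.2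
  · obtain ⟨u, hu, hu1⟩ := hne
    rw [hQU]; exact (iInf₂_le u ⟨hu, hu1⟩).trans (hQle u hu hu1)
  · rw [hLU]
    refine iSup₂_le fun u hu => ?_
    rw [Subgroup.le_normalizer_iff]
    intro q hq v hv
    rcases hact u hu.1 hu.2 q hq v hv with e | e <;> rw [e]
    · exact hv
    · exact U.mul_mem hu.1 hv
  · -- every subgroup is moved as prescribed by an element of `LU`
    intro φ
    have step : ∀ m : ℕ, ∀ W : Subgroup G, W ≤ U → Nat.card ↥U ≤ Nat.card ↥W + m → ∀ ψ : ↥U ≃* ↥U,
        (∀ w : ↥U, (w : G) ∈ W → ψ w = w) → ∃ g ∈ LU, ∀ v : ↥U, g * (v : G) * g⁻¹ = ((ψ v : ↥U) : G) := by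
      intro m
      induction m with
      | zero =>
        intro W hW hcW ψ hψ
        have : W = U := Subgroup.eq_of_le_of_card_ge hW (by simpa using hcW)
        exact ⟨1, one_mem _, fun v => by rw [hψ v (this ▸ v.2)]; simp⟩
      | succ m ih =>
        intro W hW hcW ψ hψ
        by_cases hWU : U ≤ W
        · exact ⟨1, one_mem _, fun v => by rw [hψ v (hWU v.2)]; simp⟩
        obtain ⟨v, hv, hvW⟩ := SetLike.not_le_iff_exists.1 hWU
        have hW' : W ⊔ Subgroup.zpowers v ≤ U := sup_le hW (Subgroup.zpowers_le.2 hv)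
        have hlt : Nat.card ↥W < Nat.card ↥(W ⊔ Subgroup.zpowers v) := by
          by_contra hc
          push Not at hc
          exact hvW (Subgroup.eq_of_le_of_card_ge le_sup_left hc ▸
            Subgroup.mem_sup_right (Subgroup.mem_zpowers v))
        obtain ⟨g1, hg1, hg1'⟩ : ∃ g1 ∈ LU, (∀ w ∈ W, g1 * w * g1⁻¹ = w) ∧
            g1 * v * g1⁻¹ = ((ψ ⟨v, hv⟩ : ↥U) : G) := by
          set w := ((ψ ⟨v, hv⟩ : ↥U) : G) with hw
          by_cases hwv : w = v
          · exact ⟨1, one_mem _, fun x _ => by simp, by simp [hwv]⟩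
          have hwU : w ∈ U := (ψ ⟨v, hv⟩).2
          have hvi : v⁻¹ = v := inv_eq_of_mul_eq_one_right (hU2 v hv)
          have hd : w * v ∈ U := U.mul_mem hwU hv
          have hd1 : w * v ≠ 1 := fun e => hwv (by rw [eq_inv_of_mul_eq_one_left e, hvi])
          have hwW : w ∉ W := by
            intro e
            apply hvW
            have h1 : ψ ⟨w, hwU⟩ = ⟨w, hwU⟩ := hψ _ e
            have h2 : (⟨w, hwU⟩ : ↥U) = ⟨v, hv⟩ := ψ.injective (h1.trans (Subtype.ext hw))
            have h3 : w = v := congrArg Subtype.val h2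
            rwa [h3] at e
          set W' := W ⊔ Subgroup.zpowers (w * v) with hW'def
          have hW'le : W' ≤ Q (w * v) :=
            (sup_le hW (Subgroup.zpowers_le.2 hd)).trans (hUle _ hd hd1)
          have hvW' : v ∉ W' := by
            intro hm
            have hab : W ≤ Subgroup.centralizer ({w * v} : Set G) := by
              intro y hy
              rw [Subgroup.mem_centralizer_singleton_iff]
              have hc := hU2 _ (U.mul_mem (hW hy) hd)
              calc y * (w * v) = (y * (w * v))⁻¹ := (inv_eq_of_mul_eq_one_right hc).symm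
                _ = w * v * y := by
                  rw [mul_inv_rev, inv_eq_of_mul_eq_one_right (hU2 _ hd),
                    inv_eq_of_mul_eq_one_right (hU2 _ (hW hy))]
            have hn : Subgroup.zpowers (w * v) ≤ Subgroup.normalizer (W : Set G) := by
              rw [Subgroup.zpowers_le, Subgroup.mem_normalizer_iff]
              intro y
              have hfix : ∀ y ∈ U, w * v * y * (w * v)⁻¹ = y := by
                intro y hy
                rw [mul_inv_eq_iff_eq_mul]
                have hc := hU2 _ (U.mul_mem hd hy)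
                calc w * v * y = (w * v * y)⁻¹ := (inv_eq_of_mul_eq_one_right hc).symm
                  _ = y * (w * v) := by
                    rw [mul_inv_rev, inv_eq_of_mul_eq_one_right (hU2 _ hd), inv_eq_of_mul_eq_one_right (hU2 _ hy)]
              constructor
              · intro hy; rw [hfix y (hW hy)]; exact hy
              · intro hy
                have hyU : y ∈ U := by
                  have e : y = (w * v)⁻¹ * (w * v * y * (w * v)⁻¹) * (w * v) := by group
                  rw [e]; exact U.mul_mem (U.mul_mem (U.inv_mem hd) (hW hy)) hd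
                rwa [hfix y hyU] at hy
            obtain ⟨y, hy, t, ht, hyt⟩ := (Coprime.mem_sup_of_le_normalizer hn).1 hm
            obtain ⟨k, rfl⟩ := Subgroup.mem_zpowers_iff.1 ht
            have hdd : (w * v) ^ (2 : ℤ) = 1 := by rw [zpow_two]; exact hU2 _ hd
            rcases Int.even_or_odd' k with ⟨j, rfl | rfl⟩
            · rw [zpow_mul, hdd, one_zpow, mul_one] at hyt
              exact hvW (hyt ▸ hy)
            · rw [zpow_add, zpow_mul, hdd, one_zpow, one_mul, zpow_one] at hyt
              apply hwW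
              have : y * w = 1 := by
                have := congrArg (· * v⁻¹) hyt
                simpa [mul_assoc] using this
              rw [eq_inv_of_mul_eq_one_right this]
              exact W.inv_mem hy
          obtain ⟨q, hq, hqW, hqv⟩ := (hctr _ hd hd1).exists_separate hW'le
            (Subgroup.mem_sup_right (Subgroup.mem_zpowers _)) (hUle _ hd hd1 hv) hvW'
          refine ⟨q, hQle _ hd hd1 hq, fun x hx => ?_, ?_⟩
          · rw [hqW x (Subgroup.mem_sup_left hx), mul_inv_cancel_right]
          · rw [hqv, mul_assoc, hU2 v hv, mul_one]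
        have hgn : ∀ x ∈ U, g1⁻¹ * x * g1⁻¹⁻¹ ∈ U := by
          have hN : LU ≤ Subgroup.normalizer (U : Set G) := by
            rw [hLU]
            refine iSup₂_le fun u hu => ?_
            rw [Subgroup.le_normalizer_iff]
            intro q hq v hv
            rcases hact u hu.1 hu.2 q hq v hv with e | e <;> rw [e]
            · exact hv
            · exact U.mul_mem hu.1 hv
          intro x hx
          exact (Subgroup.mem_normalizer_iff.1 (inv_mem (hN hg1)) x).1 hx
        let e1 : ↥U ≃* ↥U :=
          { toFun := fun x => ⟨g1⁻¹ * x * g1⁻¹⁻¹, hgn x x.2⟩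
            invFun := fun x => ⟨g1 * x * g1⁻¹, by
              have hN : LU ≤ Subgroup.normalizer (U : Set G) := by
                rw [hLU]
                refine iSup₂_le fun u hu => ?_
                rw [Subgroup.le_normalizer_iff]
                intro q hq v hv
                rcases hact u hu.1 hu.2 q hq v hv with e | e <;> rw [e]
                · exact hv
                · exact U.mul_mem hu.1 hv
              exact (Subgroup.mem_normalizer_iff.1 (hN hg1) x).1 x.2⟩
            left_inv := fun x => Subtype.ext (by simp [mul_assoc])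
            right_inv := fun x => Subtype.ext (by simp [mul_assoc])
            map_mul' := fun x y => Subtype.ext (by simp [mul_assoc]) }
        obtain ⟨g2, hg2, hg2'⟩ := ih (W ⊔ Subgroup.zpowers v) hW' (by omega) (ψ.trans e1) (by
          intro x hx
          apply Subtype.ext
          show g1⁻¹ * ((ψ x : ↥U) : G) * g1⁻¹⁻¹ = x
          -- both sides are homomorphisms agreeing on `W` and `v`
          let S : Subgroup G :=
            { carrier := {y | ∃ hy : y ∈ U, g1⁻¹ * ((ψ ⟨y, hy⟩ : ↥U) : G) * g1⁻¹⁻¹ = y}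
              one_mem' := ⟨U.one_mem, by rw [show (⟨1, U.one_mem⟩ : ↥U) = 1 from rfl, map_one]; simp⟩
              mul_mem' := by
                rintro a b ⟨ha, ea⟩ ⟨hb, eb⟩
                refine ⟨U.mul_mem ha hb, ?_⟩
                rw [show (⟨a * b, U.mul_mem ha hb⟩ : ↥U) = ⟨a, ha⟩ * ⟨b, hb⟩ from rfl, map_mul, Subgroup.coe_mul]
                conv_rhs => rw [← ea, ← eb]
                simp [mul_assoc]
              inv_mem' := by
                rintro a ⟨ha, ea⟩
                refine ⟨U.inv_mem ha, ?_⟩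
                rw [show (⟨a⁻¹, U.inv_mem ha⟩ : ↥U) = (⟨a, ha⟩ : ↥U)⁻¹ from rfl, map_inv, Subgroup.coe_inv]
                conv_rhs => rw [← ea]
                simp [mul_assoc] }
          have hS' : W ⊔ Subgroup.zpowers v ≤ S := by
            refine sup_le ?_ (Subgroup.zpowers_le.2 ?_)
            · intro y hy
              refine ⟨hW hy, ?_⟩
              rw [hψ ⟨y, hW hy⟩ hy]
              show g1⁻¹ * y * g1⁻¹⁻¹ = y
              calc g1⁻¹ * y * g1⁻¹⁻¹ = g1⁻¹ * (g1 * y * g1⁻¹) * g1 := by rw [hg1'.1 y hy, inv_inv]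
                _ = y := by group
            · refine ⟨hv, ?_⟩
              rw [← hg1'.2]; group
          obtain ⟨hy, e⟩ := hS' hx
          exact e)
        refine ⟨g1 * g2, LU.mul_mem hg1 hg2, fun x => ?_⟩
        have e := hg2' x
        change g2 * (x : G) * g2⁻¹ = g1⁻¹ * ((ψ x : ↥U) : G) * g1⁻¹⁻¹ at e
        calc g1 * g2 * (x : G) * (g1 * g2)⁻¹ = g1 * (g2 * x * g2⁻¹) * g1⁻¹ := by group
          _ = _ := by rw [e]; group
    refine step (Nat.card ↥U) ⊥ bot_le (by omega) φ (fun w hw => ?_)
    rw [Subgroup.mem_bot] at hw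
    rw [show w = 1 from Subtype.ext hw, map_one]

end Cfsg.Agent.S5596
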