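import Cfsg.Statements.S3759
import Cfsg.Agent.GenA.ZC.High
import Cfsg.Agent.GenA.ZC.Low

set_option autoImplicit false
open Cfsg

namespace Cfsg.Agent.S3759

/-- Let G be a finite group of even order in which the centralizer of every involution is solvable and C_G(Ω₁(Z(S))) ≤ N_G(S) for every Sylow 2-subgroup S, with O_{2'}(G) = 1 = O₂(G). Fix a Sylow 2-subgroup S and put Z = Ω₁(Z(S)), H = O²(G), R = S ∩ H. Then H has a strongly embedded subgroup; or Z ∩ R has order 2 and is weakly closed in R with respect to H; or Z has order 4 and equals the subgroup generated by the involutions of R; or the subgroup HZ has local characteristic 2: it has even order and every 2-local subgroup L of HZ satisfies C_L(O₂(L)) ≤ O₂(L). -/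
theorem result {G : Type*} [Group G] [Finite G] (heven : Even (Nat.card G)) (hC : ∀ t : G, orderOf t = 2 → Group.IsSolvable ↥(Subgroup.centralizer ({t} : Set G))) (hZ : ∀ S : Sylow 2 G, Subgroup.centralizer (Cfsg.omegaOne 2 ((S : Subgroup G) ⊓ Subgroup.centralizer ((S : Subgroup G) : Set G)) : Set G) ≤ Subgroup.normalizer ((S : Subgroup G) : Set G)) (hO' : Cfsg.pPrimeCore 2 G = ⊥) (hO : Cfsg.pCore 2 G = ⊥) (S : Sylow 2 G) : (∃ M : Subgroup ↥(Cfsg.pResidual 2 G), Cfsg.IsStronglyEmbedded M) ∨ (Nat.card ↥(Cfsg.omegaOne 2 ((S : Subgroup G) ⊓ Subgroup.centralizer ((S : Subgroup G) : Set G)) ⊓ Cfsg.pResidual 2 G) = 2 ∧ ∀ h ∈ Cfsg.pResidual 2 G, ∀ z ∈ Cfsg.omegaOne 2 ((S : Subgroup G) ⊓ Subgroup.centralizer ((S : Subgroup G) : Set G)) ⊓ Cfsg.pResidual 2 G, h * z * h⁻¹ ∈ (S : Subgroup G) → h * z * h⁻¹ ∈ Cfsg.omegaOne 2 ((S : Subgroup G) ⊓ Subgroup.centralizer ((S : Subgroup G) : Set G))) ∨ (Nat.card ↥(Cfsg.omegaOne 2 ((S : Subgroup G)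 ⊓ Subgroup.centralizer ((S : Subgroup G) : Set G))) = 4 ∧ Cfsg.omegaOne 2 ((S : Subgroup G) ⊓ Cfsg.pResidual 2 G) = Cfsg.omegaOne 2 ((S : Subgroup G) ⊓ Subgroup.centralizer ((S : Subgroup G) : Set G))) ∨ Cfsg.IsCharacteristicTwoType ↥(Cfsg.pResidual 2 G ⊔ Cfsg.omegaOne 2 ((S : Subgroup G) ⊓ Subgroup.centralizer ((S : Subgroup G) : Set G))) := by
  classical
  haveI : Fact (Nat.Prime 2) := ⟨Nat.prime_two⟩
  set H := Cfsg.pResidual 2 G with hH
  set Z := Cfsg.omegaOne 2 ((S : Subgroup G) ⊓ Subgroup.centralizer ((S : Subgroup G) : Set G)) with hZd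
  have hHn : H.Normal := Transfer.NormalPComplement.pResidual_normal
  have hZS := hZ S
  have htop : H ⊔ (S : Subgroup G) = ⊤ := Transfer.NormalPComplement.pResidual_sup_sylow S
  have hmemZ := fun {x : G} => GenA.ZC.mem_omega_center (S : Subgroup G) (x := x)
  obtain ⟨z, hzS, hzH, hz, hzc⟩ := GenA.ZC.exists_central S.2
    (show (S : Subgroup G) ≤ Subgroup.normalizer (H : Set G) by
      rw [Subgroup.normalizer_eq_top H]; exact le_top) (by
    intro h
    have hP : IsPGroup 2 ((S : Subgroup G).subgroupOf H) := S.2.comap_subtype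
    have hidx : ¬ 2 ∣ ((S : Subgroup G).subgroupOf H).index := fun hd =>
      S.not_dvd_index (hd.trans (Cores.relIndex_dvd_index_right_normal (S : Subgroup G) H))
    rw [show (S : Subgroup G).subgroupOf H = ⊥ by
      rw [← Subgroup.inf_subgroupOf_right, h, Subgroup.bot_subgroupOf], Subgroup.index_bot] at hidx
    have hH1 : H = ⊥ := le_bot_iff.mp
      (hO' ▸ PLocal.Cores.le_pPrimeCore (Nat.prime_two.coprime_iff_not_dvd.mpr hidx).symm)
    rw [hH1, bot_sup_eq] at htop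
    have hG : IsPGroup 2 (⊤ : Subgroup G) := htop ▸ S.2
    have h1 : (⊤ : Subgroup G) ≤ Cfsg.pCore 2 G :=
      le_sSup (α := Subgroup G) (s := {N : Subgroup G | N.Normal ∧ IsPGroup 2 N}) ⟨inferInstance, hG⟩
    rw [hO, le_bot_iff] at h1
    have h2 : Nat.card G = 1 := by rw [← Subgroup.card_top (G := G), h1, Subgroup.card_bot]
    rw [h2] at heven
    exact Nat.not_even_one heven)
  have hz1 := Involutions.Basic.ne_one hz
  have hzz := Involutions.Basic.inv_sq_one hz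
  have hzc' : ∀ s ∈ (S : Subgroup G), s * z = z * s := fun s hs => (hzc s hs).eq.symm
  have hzZ : z ∈ Z := hmemZ.mpr ⟨hzS, hzc', hzz⟩
  haveI hKn : (H ⊔ Z).Normal := by
    refine ⟨fun n hn g => ?_⟩
    have hle : (H ⊔ Z).map (MulAut.conj g).toMonoidHom ≤ H ⊔ Z := by
      rw [Subgroup.map_sup]
      refine sup_le ?_ ?_
      · rintro _ ⟨x, hx, rfl⟩
        exact Subgroup.mem_sup_left (hHn.conj_mem x hx g)
      · rintro _ ⟨x, hx, rfl⟩
        obtain ⟨h, hh, s, hs, rfl⟩ :=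
          Subgroup.mem_sup_of_normal_left.mp (htop.ge (Subgroup.mem_top g))
        show h * s * x * (h * s)⁻¹ ∈ H ⊔ Z
        have e : h * s * x * (h * s)⁻¹ = h * (x * h⁻¹ * x⁻¹) * x := by
          rw [show h * s * x * (h * s)⁻¹ = h * (s * x) * s⁻¹ * h⁻¹ by group, (hmemZ.mp hx).2.1 s hs]
          group
        rw [e]
        exact Subgroup.mul_mem_sup (mul_mem hh (hHn.conj_mem _ (inv_mem hh) x)) hx
    exact hle ⟨n, hn, rfl⟩
  have hzK : Even (Nat.card ↥(H ⊔ Z)) := even_iff_two_dvd.mpr (hz ▸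
    Subgroup.orderOf_dvd_natCard _ (Subgroup.mem_sup_left hzH : z ∈ H ⊔ Z))
  have hθ : (∀ t ∈ (S : Subgroup G), t ∈ H ⊔ Z → orderOf t = 2 → GenA.ZC.θ t = ⊥) →
      Cfsg.IsCharacteristicTwoType ↥(H ⊔ Z) := by
    intro hall
    refine GenA.ZC.charTwo_of_normal hC (H ⊔ Z) hzK fun t htK ht => ?_
    obtain ⟨x, hx⟩ := GenA.ZC.exists_conj_le S (GenA.ZC.isPGroup_zpowers ht)
    have h1 := hall (x * t * x⁻¹) (hx t (Subgroup.mem_zpowers t)) (hKn.conj_mem t htK x)
      (by rw [Involutions.Basic.orderOf_conj, ht])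
    rw [show GenA.ZC.θ (x * t * x⁻¹) = (GenA.ZC.θ t).map (MulAut.conj x).toMonoidHom from
      SolvableSignalizer.centralizerPPrimeCore_conj 2 t x] at h1
    exact (Subgroup.map_eq_bot_iff_of_injective (f := (MulAut.conj x).toMonoidHom) _
      (MulAut.conj x).injective).mp h1
  by_cases hA : ∃ A, GenA.ZC.Big (S : Subgroup G) A
  · obtain ⟨A₀, hA₀⟩ := hA
    obtain ⟨W, hWc, hNW, hW⟩ := GenA.ZC.exists_signalizer hC S hZS hA₀
    have hbig : ∀ t ∈ (S : Subgroup G), t ∈ H ⊔ Z → orderOf t = 2 → GenA.ZC.HasBig (S : Subgroup G) t := by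
      intro t htS htK ht
      by_cases hu : ∀ x ∈ (S : Subgroup G), (∀ s ∈ (S : Subgroup G), s * x = x * s) → x * x = 1 →
          x ≠ 1 → x = z
      · refine GenA.ZC.hasBig_of_unique hC S hZS hA₀ hzS hz hzc' hu ⟨htS, ?_⟩ ht
        refine (sup_le le_rfl ?_ : H ⊔ Z ≤ H) htK
        intro x hx
        obtain ⟨h1, h2, h3⟩ := hmemZ.mp hx
        by_cases hx1 : x = 1
        · rw [hx1]; exact one_mem _
        · rw [hu x h1 h2 h3 hx1]; exact hzH
      · push Not at hu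
        obtain ⟨w, hwS, hwc, hww, hw1, hwz⟩ := hu
        have htt := Involutions.Basic.inv_sq_one ht
        by_cases htc : ∀ s ∈ (S : Subgroup G), s * t = t * s
        · exact GenA.ZC.HasBig.of_commute hA₀ htS htt fun a ha => htc a (hA₀.1 ha)
        refine GenA.ZC.hasBig_of_three hzS htS hwS hz ht hww (hzc' t htS).symm
          (fun e => htc (e ▸ hzc')) (hzc' w hwS).symm (hwc t htS) ?_
        rintro (h | h | h | h)
        · exact hw1 h
        · exact hwz h
        · exact htc (h ▸ hwc)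
        · refine htc fun s hs => ?_
          have e : t = z * w := by rw [h, ← mul_assoc, hzz, one_mul]
          rw [e, ← mul_assoc, hzc' s hs, mul_assoc, hwc s hs, ← mul_assoc]
    by_cases hW1 : W = ⊥
    · refine Or.inr (Or.inr (Or.inr (hθ fun t htS htK ht => ?_)))
      exact le_bot_iff.mp (hW1 ▸ (hW t htS ht (hbig t htS htK ht)).1)
    · refine Or.inl (GenA.ZC.exists_stronglyEmbedded S (Subgroup.le_normalizer.trans hNW) hNW
        (GenA.ZC.pResidual_not_le_normalizer hO' S hW1 hWc (Subgroup.le_normalizer.trans hNW))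
        hzS hzH hz hzc' fun t ht ht2 => (hW t ht.1 ht2 (hbig t ht.1 (Subgroup.mem_sup_left ht.2) ht2)).2)
  have hno : ∀ A, ¬ GenA.ZC.Big (S : Subgroup G) A := fun A h => hA ⟨A, h⟩
  by_cases hu : ∀ x ∈ (S : Subgroup G), (∀ s ∈ (S : Subgroup G), s * x = x * s) → x * x = 1 →
      x ≠ 1 → x = z
  swap
  · push Not at hu
    obtain ⟨w, hwS, hwc, hww, hw1, hwz⟩ := hu
    have hw := GenA.ZC.sq_one_order hww hw1
    obtain ⟨V, hV, hV4, hzV, hwV, -, hVle⟩ := GenA.ZC.pair z w hz hw (hzc' w hwS).symm (Ne.symm hwz)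
    have hVZ : V ≤ Z := hVle Z hzZ (hmemZ.mpr ⟨hwS, hwc, hww⟩)
    have hinv : ∀ y ∈ (S : Subgroup G), y * y = 1 → y ∈ V := by
      intro y hy hy2
      by_contra hyV
      obtain ⟨A, hA', -⟩ := GenA.ZC.hasBig_of_three hzS hwS hy hz hw hy2 (hzc' w hwS).symm (Ne.symm hwz)
        (hzc' y hy).symm (hwc y hy).symm (by
          rintro (h | h | h | h) <;> subst h
          exacts [hyV (one_mem _), hyV hzV, hyV hwV, hyV (mul_mem hzV hwV)])
      exact hno A hA'
    have hZV : Z = V := le_antisymm (fun x hx => hinv x (hmemZ.mp hx).1 (hmemZ.mp hx).2.2) hVZ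
    by_cases hZH : Z ≤ H
    · refine Or.inr (Or.inr (Or.inl ⟨hZV ▸ hV4, le_antisymm ?_ fun x hx => ?_⟩))
      · refine (Subgroup.closure_le _).mpr fun x hx => ?_
        rw [hZV]
        exact hinv x hx.1.1 (by rw [← pow_two]; exact hx.2)
      · obtain ⟨h1, -, h3⟩ := hmemZ.mp hx
        exact Subgroup.subset_closure ⟨⟨h1, hZH hx⟩, by rw [pow_two]; exact h3⟩
    · refine Or.inr (Or.inl ⟨?_, fun h _ x hx hxS => ?_⟩)
      · have hd : Nat.card ↥(Z ⊓ H) ∣ 2 ^ 2 := by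
          rw [show 2 ^ 2 = Nat.card Z by rw [hZV, hV4]; norm_num]
          exact Subgroup.card_dvd_of_le inf_le_left
        obtain ⟨k, hk, he⟩ := (Nat.dvd_prime_pow Nat.prime_two).mp hd
        interval_cases k
        · have h0 : Z ⊓ H = ⊥ := Subgroup.eq_bot_of_card_eq _ (he.trans (pow_zero 2))
          exact absurd (Subgroup.mem_bot.mp (h0 ▸ (⟨hzZ, hzH⟩ : z ∈ Z ⊓ H))) hz1
        · simpa using he
        · refine absurd ?_ hZH
          exact (Subgroup.eq_of_le_of_card_ge (inf_le_left : Z ⊓ H ≤ Z)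
            (by rw [he, hZV, hV4]; norm_num)).ge.trans inf_le_right
      · rw [hZV]
        refine hinv _ hxS ?_
        rw [show h * x * h⁻¹ * (h * x * h⁻¹) = h * (x * x) * h⁻¹ by group, (hmemZ.mp hx.1).2.2, mul_one,
          mul_inv_cancel]
  have hZz : Z = Subgroup.zpowers z := by
    refine le_antisymm (fun x hx => ?_) (Subgroup.zpowers_le.mpr hzZ)
    obtain ⟨h1, h2, h3⟩ := hmemZ.mp hx
    by_cases hx1 : x = 1
    · rw [hx1]; exact one_mem _
    · rw [hu x h1 h2 h3 hx1]; exact Subgroup.mem_zpowers z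
  have hZle : Z ≤ H := hZz ▸ Subgroup.zpowers_le.mpr hzH
  by_cases hwc : ∀ h ∈ H, ∀ x ∈ Z ⊓ H, h * x * h⁻¹ ∈ (S : Subgroup G) → h * x * h⁻¹ ∈ Z
  · refine Or.inr (Or.inl ⟨?_, hwc⟩)
    rw [inf_eq_left.mpr hZle, hZz, Nat.card_zpowers, hz]
  push Not at hwc
  obtain ⟨g, hg, x, hx, hxS, hxZ⟩ := hwc
  have hxz : x = z := by
    obtain ⟨h1, h2, h3⟩ := hmemZ.mp hx.1
    refine hu x h1 h2 h3 fun e => hxZ ?_
    rw [e, mul_one, mul_inv_cancel]
    exact one_mem _
  rw [hxz] at hxS hxZ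
  have hcN := GenA.ZC.cent_le_normalizer S hZS hu
  have key : ∀ t ∈ (S : Subgroup G) ⊓ H, orderOf t = 2 → GenA.ZC.θ t = GenA.ZC.θ z := by
    intro t ht ht2
    obtain ⟨y, hy⟩ := GenA.ZC.conj_of_not_closed S hno ⟨hzS, hzH⟩ hz hzc' hu hcN
      ⟨hxS, hHn.conj_mem z hzH g⟩ (fun e => hxZ (e.symm ▸ hzZ)) ht ht2
    rw [← hy]
    exact GenA.ZC.theta_eq hC S hzS hz hzc' hcN (hy.symm ▸ ht.1)
  by_cases hθ1 : GenA.ZC.θ z = ⊥
  · refine Or.inr (Or.inr (Or.inr (hθ fun t htS htK ht => ?_)))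
    rw [key t ⟨htS, (sup_le le_rfl hZle : H ⊔ Z ≤ H) htK⟩ ht, hθ1]
  · have hSN : Subgroup.normalizer ((S : Subgroup G) : Set G) ≤
        Subgroup.normalizer (GenA.ZC.θ z : Set G) := by
      intro n hn
      refine Components.Balance.le_normalizer_centralizerPPrimeCore 2 z (GenA.ZC.mem_cent.mpr ?_)
      have h1 := GenA.ZC.omega_center_conj hn hzZ
      obtain ⟨a, b, c⟩ := hmemZ.mp h1
      exact mul_inv_eq_iff_eq_mul.mp (hu _ a b c fun e => hz1 (conj_eq_one_iff.mp e))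
    refine Or.inl (GenA.ZC.exists_stronglyEmbedded S (Subgroup.le_normalizer.trans hSN) hSN
      (GenA.ZC.pResidual_not_le_normalizer hO' S hθ1 (Components.Balance.centralizerPPrimeCore_coprime 2 z)
        (Subgroup.le_normalizer.trans hSN)) hzS hzH hz hzc' fun t ht ht2 => ?_)
    exact (Components.Balance.le_normalizer_centralizerPPrimeCore 2 t).trans
      (le_of_eq (by rw [show Cfsg.centralizerPPrimeCore 2 t = GenA.ZC.θ z from key t ht ht2]))

end Cfsg.Agent.S3759
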