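import Cfsg.Statements.S4211
import Cfsg.Agent.Lib.PLocal.Cores
import Mathlib

set_option autoImplicit false
open Cfsg

namespace Cfsg.Agent.S4211

theorem mul_pow_of_twist {G : Type*} [Group G] {u v d : G} (hu : Commute d u) (hv : Commute d v)
    (h : v * u = d * (u * v)) (n : ℕ) : (u * v) ^ n = d ^ n.choose 2 * (u ^ n * v ^ n) := by
  have hswap : ∀ m : ℕ, v ^ m * u = d ^ m * (u * v ^ m) := by
    intro m
    induction m with
    | zero => simp
    | succ m ih =>
      calc v ^ (m + 1) * u = v * (v ^ m * u) := by rw [pow_succ', mul_assoc]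
        _ = (v * d ^ m) * (u * v ^ m) := by rw [ih, mul_assoc]
        _ = d ^ m * ((v * u) * v ^ m) := by rw [← (hv.pow_left m).eq]; simp only [mul_assoc]
        _ = d ^ (m + 1) * (u * v ^ (m + 1)) := by
            rw [h, pow_succ d m, pow_succ' v m]; simp only [mul_assoc]
  induction n with
  | zero => simp
  | succ n ih =>
    calc (u * v) ^ (n + 1) = d ^ n.choose 2 * (u ^ n * ((v ^ n * u) * v)) := by
          rw [pow_succ, ih]; simp only [mul_assoc]
      _ = d ^ n.choose 2 * ((u ^ n * d ^ n) * (u * v ^ n * v)) := by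
          rw [hswap]; simp only [mul_assoc]
      _ = d ^ n.choose 2 * d ^ n * (u ^ (n + 1) * v ^ (n + 1)) := by
          rw [← (hu.pow_pow n n).eq, pow_succ u n, pow_succ v n]; simp only [mul_assoc]
      _ = _ := by
          rw [← pow_add, show (n + 1).choose 2 = n.choose 2 + n by
            have h2 := Nat.choose_succ_succ' n 1
            simp only [Nat.reduceAdd, Nat.choose_one_right] at h2
            omega]

/-- A noncommutative subgroup contains a quaternion pair. -/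
theorem exists_pair {G : Type*} [Group G] [Finite G] (hn : ∀ H : Subgroup G, H.Normal)
    (K : Subgroup G) (h : ∃ x ∈ K, ∃ y ∈ K, x * y ≠ y * x) :
    ∃ x ∈ K, ∃ y ∈ K, orderOf x = 4 ∧ y ^ 2 = x ^ 2 ∧ x * y = y * x⁻¹ ∧ x * y ≠ y * x := by
  classical
  have hex : ∃ n, ∃ x ∈ K, ∃ y ∈ K, x * y ≠ y * x ∧ orderOf x + orderOf y = n := by
    obtain ⟨x, hx, y, hy, hne⟩ := h
    exact ⟨_, x, hx, y, hy, hne, rfl⟩
  obtain ⟨x, hx, y, hy, hne, hle, hmin⟩ : ∃ x ∈ K, ∃ y ∈ K, x * y ≠ y * x ∧ orderOf y ≤ orderOf x ∧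
      ∀ u ∈ K, ∀ v ∈ K, orderOf u + orderOf v < orderOf x + orderOf y → u * v = v * u := by
    obtain ⟨x, hx, y, hy, hne, hn'⟩ := Nat.find_spec hex
    have hmin : ∀ u ∈ K, ∀ v ∈ K, orderOf u + orderOf v < orderOf x + orderOf y → u * v = v * u :=
      fun u hu v hv hlt => by
        by_contra hne'
        exact Nat.find_min hex (hn' ▸ hlt) ⟨u, hu, v, hv, hne', rfl⟩
    rcases le_total (orderOf y) (orderOf x) with hle | hle
    · exact ⟨x, hx, y, hy, hne, hle, hmin⟩
    · exact ⟨y, hy, x, hx, fun e => hne e.symm, hle, fun u hu v hv hlt =>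
        hmin u hu v hv (by omega)⟩
  have hmem : ∀ (g z : G), z * g * z⁻¹ * g⁻¹ ∈ Subgroup.zpowers g ∧
      z * g * z⁻¹ * g⁻¹ ∈ Subgroup.zpowers z := fun g z => by
    refine ⟨mul_mem ((hn _).conj_mem g (Subgroup.mem_zpowers g) z) (inv_mem (Subgroup.mem_zpowers g)), ?_⟩
    have := mul_mem (Subgroup.mem_zpowers z) ((hn _).conj_mem _ (inv_mem (Subgroup.mem_zpowers z)) g)
    simpa [mul_assoc] using this
  -- prime power orders
  have hpp : ∀ u ∈ K, ∀ v ∈ K, u * v ≠ v * u → orderOf u + orderOf v ≤ orderOf x + orderOf y →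
      ∃ p k : ℕ, p.Prime ∧ orderOf u = p ^ k := by
    intro u hu v hv huv hle'
    have h1 : orderOf u ≠ 1 := fun e => huv (by rw [orderOf_eq_one_iff.1 e, one_mul, mul_one])
    obtain ⟨p, hp, hpd⟩ := Nat.exists_prime_and_dvd h1
    refine ⟨p, (orderOf u).factorization p, hp, ?_⟩
    by_contra hne'
    have h0 : orderOf u ≠ 0 := (orderOf_pos u).ne'
    have hprod := Nat.ordProj_mul_ordCompl_eq_self (orderOf u) p
    set P := p ^ (orderOf u).factorization p with hP
    set R := orderOf u / P with hR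
    have hcop : Nat.Coprime P R :=
      Nat.Coprime.pow_left _ (Nat.coprime_ordCompl hp h0)
    have hP1 : 1 < P := Nat.one_lt_pow (hp.factorization_pos_of_dvd h0 hpd).ne' hp.one_lt
    have hR1 : 1 < R := by
      rcases Nat.eq_zero_or_pos R with e | e
      · rw [e, mul_zero] at hprod; exact absurd hprod.symm h0
      · by_contra hR2
        rw [show R = 1 by omega, mul_one] at hprod
        exact hne' hprod.symm
    have hsmall : ∀ q r : ℕ, q * r = orderOf u → 1 < q → Commute (u ^ q) v := by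
      intro q r hqr hq
      refine hmin _ (pow_mem hu q) _ hv ?_
      rw [orderOf_pow_of_dvd (by omega) ⟨r, hqr.symm⟩]
      have := Nat.div_lt_self (orderOf_pos u) hq
      omega
    have c1 := hsmall P R hprod hP1
    have c2 := hsmall R P (by rw [mul_comm]; exact hprod) hR1
    refine huv ?_
    have hb := Nat.gcd_eq_gcd_ab P R
    rw [hcop.gcd_eq_one, Nat.cast_one] at hb
    have hu' : u = (u ^ P) ^ P.gcdA R * (u ^ R) ^ P.gcdB R := by
      rw [← zpow_natCast, ← zpow_mul, ← zpow_natCast u R, ← zpow_mul, ← zpow_add, ← hb, zpow_one]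
    rw [hu']
    exact (Commute.mul_left (c1.zpow_left _) (c2.zpow_left _)).eq
  obtain ⟨p, a, hp, ha⟩ := hpp x hx y hy hne le_rfl
  obtain ⟨q, b, hq, hb⟩ := hpp y hy x hx (fun e => hne e.symm) (by omega)
  set c := y * x * y⁻¹ * x⁻¹ with hc
  obtain ⟨hcx, hcy⟩ := hmem x y
  have hcX : Commute c x := by
    obtain ⟨k, hk⟩ := Subgroup.mem_zpowers_iff.1 hcx
    show Commute c x
    rw [hc, ← hk]
    exact (Commute.refl x).zpow_left k
  have hcY : Commute c y := by
    obtain ⟨k, hk⟩ := Subgroup.mem_zpowers_iff.1 hcy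
    rw [hc, ← hk]
    exact (Commute.refl y).zpow_left k
  have hyx : y * x * y⁻¹ = c * x := by rw [hc]; group
  have hyxn : ∀ k : ℕ, y * x ^ k * y⁻¹ = c ^ k * x ^ k := fun k => by
    rw [← hcX.mul_pow, ← hyx, conj_pow]
  have hc1 : c ≠ 1 := fun e => hne (by
    rw [e, one_mul, mul_inv_eq_iff_eq_mul] at hyx
    exact hyx.symm)
  have ha1 : 1 ≤ a := by
    by_contra h0
    rw [show a = 0 by omega, pow_zero, orderOf_eq_one_iff] at ha
    exact hne (by rw [ha, one_mul, mul_one])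
  have hcp : c ^ p = 1 := by
    have h1 : x ^ p * y = y * x ^ p := by
      refine hmin _ (pow_mem hx p) _ hy ?_
      rw [orderOf_pow_of_dvd hp.ne_zero (ha ▸ dvd_pow_self p (by omega : a ≠ 0))]
      have := Nat.div_lt_self (orderOf_pos x) hp.one_lt
      omega
    have h2 := hyxn p
    rw [← h1, mul_inv_cancel_right] at h2
    exact mul_eq_right.1 h2.symm
  haveI := Fact.mk hp
  have hco : orderOf c = p := orderOf_eq_prime hcp hc1
  have hpq : p = q := by
    obtain ⟨k, hk⟩ := Subgroup.mem_zpowers_iff.1 hcy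
    have hd : orderOf c ∣ orderOf y := orderOf_dvd_of_mem_zpowers hcy
    rw [hco, hb] at hd
    exact (Nat.prime_dvd_prime_iff_eq hp hq).1 (hp.dvd_of_dvd_pow hd)
  subst hpq
  have hb1 : 1 ≤ b := by
    by_contra h0
    rw [show b = 0 by omega, pow_zero, orderOf_eq_one_iff] at hb
    exact hne (by rw [hb, one_mul, mul_one])
  -- the last powers
  have htop : ∀ (z : G) (m : ℕ), 1 ≤ m → orderOf z = p ^ m → c ∈ Subgroup.zpowers z →
      ∃ i : ℕ, ¬ p ∣ i ∧ z ^ p ^ (m - 1) = c ^ i := by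
    intro z m hm hz hcz
    obtain ⟨k, hk⟩ := (Submonoid.mem_powers_iff _ _).1 (mem_powers_iff_mem_zpowers.2 hcz)
    have h1 : p ^ m ∣ k * p := by
      rw [← hz, orderOf_dvd_iff_pow_eq_one, pow_mul, hk, hcp]
    obtain ⟨k', rfl⟩ : p ^ (m - 1) ∣ k := by
      refine Nat.dvd_of_mul_dvd_mul_right hp.pos ?_
      rwa [← pow_succ, show m - 1 + 1 = m by omega]
    rw [pow_mul] at hk
    have hzo : orderOf (z ^ p ^ (m - 1)) = p := by
      rw [orderOf_pow_of_dvd (pow_ne_zero _ hp.ne_zero) (hz ▸ pow_dvd_pow p (by omega)), hz,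
        Nat.pow_div (by omega) hp.pos, show m - (m - 1) = 1 by omega, pow_one]
    have hcop : (orderOf (z ^ p ^ (m - 1))).Coprime k' := by
      rw [hzo, hp.coprime_iff_not_dvd]
      intro hd
      refine hc1 ?_
      rw [← hk]
      exact orderOf_dvd_iff_pow_eq_one.1 (by rw [hzo]; exact hd)
    obtain ⟨i, hi⟩ := exists_pow_eq_self_of_coprime hcop.symm
    rw [hk] at hi
    refine ⟨i, fun hd => ?_, hi.symm⟩
    rw [← hco] at hd
    rw [orderOf_dvd_iff_pow_eq_one.1 hd] at hi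
    rw [← hi, orderOf_one] at hzo
    exact hp.one_lt.ne hzo
  obtain ⟨i, hi, hX⟩ := htop x a ha1 ha hcx
  obtain ⟨j, -, hY⟩ := htop y b hb1 hb hcy
  have hb2 : 2 ≤ b := by
    by_contra h0
    obtain rfl : b = 1 := by omega
    rw [Nat.sub_self, pow_zero, pow_one] at hY
    refine hne ?_
    rw [hY]
    exact ((hcX.pow_left j).eq).symm
  have hab : b ≤ a := (Nat.pow_le_pow_iff_right hp.one_lt).1 (by rw [← ha, ← hb]; exact hle)
  set N := p ^ (b - 1) with hN
  have hcrit : ¬ p ∣ p ^ (a - b) * N.choose 2 := by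
    intro hdiv
    -- a choice of `l` killing the top power
    obtain ⟨l, hl⟩ : ∃ l : ℕ, p ∣ l * i + j := by
      refine ⟨(-(j : ZMod p) / i).val, ?_⟩
      rw [← ZMod.natCast_eq_zero_iff, Nat.cast_add, Nat.cast_mul, ZMod.natCast_val, ZMod.cast_id,
        div_mul_cancel₀ _ (fun e => hi ((ZMod.natCast_eq_zero_iff _ _).1 e)), neg_add_cancel]
    set m := l * p ^ (a - b) with hm
    have hvu : y * x ^ m = c ^ m * (x ^ m * y) := by
      have := hyxn m
      rw [mul_inv_eq_iff_eq_mul] at this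
      rw [this, mul_assoc]
    have hpow : (x ^ m * y) ^ N = 1 := by
      rw [mul_pow_of_twist (hcX.pow_pow m m) (hcY.pow_left m) hvu, ← pow_mul x m,
        show m * N = p ^ (a - 1) * l by
          rw [hm, hN, mul_assoc, ← pow_add, show a - b + (b - 1) = a - 1 by omega, mul_comm],
        pow_mul x, hX, hY, ← pow_mul, ← pow_mul, ← pow_add, ← pow_add, ← orderOf_dvd_iff_pow_eq_one, hco, hm,
        mul_assoc, mul_comm i l]
      exact dvd_add (hdiv.mul_left l) hl
    have hcomm : x * (x ^ m * y) = (x ^ m * y) * x := by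
      refine hmin _ hx _ (mul_mem (pow_mem hx m) hy) ?_
      have h1 := orderOf_le_of_pow_eq_one (pow_pos hp.pos _) hpow
      have h2 : N < orderOf y := by rw [hb]; exact Nat.pow_lt_pow_right hp.one_lt (by omega)
      omega
    refine hne (mul_left_cancel (a := x ^ m) ?_)
    calc x ^ m * (x * y) = x * (x ^ m * y) := by rw [← mul_assoc, ← pow_succ, pow_succ', mul_assoc]
      _ = _ := by rw [hcomm, mul_assoc]
  have hab' : a = b := by
    by_contra hne'
    exact hcrit (Dvd.dvd.mul_right (dvd_pow_self p (by omega)) _)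
  subst hab'
  rw [Nat.sub_self, pow_zero, one_mul, Nat.choose_two_right] at hcrit
  have hp2 : p = 2 := by
    by_contra hp2
    refine hcrit ?_
    have h2 : 2 ∣ N * (N - 1) := (Nat.even_mul_pred_self N).two_dvd
    have h3 : p ∣ N * (N - 1) / 2 * 2 := by
      rw [Nat.div_mul_cancel h2]
      exact Dvd.dvd.mul_right (dvd_pow_self p (by omega)) _
    exact ((Nat.coprime_primes hp Nat.prime_two).2 hp2).dvd_of_dvd_mul_right h3
  subst hp2
  have ha2 : a = 2 := by
    by_contra ha3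
    refine hcrit ?_
    obtain ⟨t, ht⟩ : 4 ∣ N := (pow_dvd_pow 2 (by omega : 2 ≤ a - 1))
    rw [ht, show 4 * t * (4 * t - 1) = 2 * (2 * (t * (4 * t - 1))) by ring, Nat.mul_div_cancel_left _ two_pos]
    exact dvd_mul_right _ _
  subst ha2
  have hodd : ∀ k : ℕ, ¬ 2 ∣ k → c ^ k = c := fun k hk => by
    rw [← pow_mod_orderOf, hco, Nat.two_dvd_ne_zero.1 hk, pow_one]
  have hX2 : x ^ 2 = c := by simpa [hodd i hi] using hX
  have hY2 : y ^ 2 = c ^ j := by simpa [hN] using hY
  have hj : ¬ 2 ∣ j := fun hd => by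
    have h3 : y ^ 2 = 1 := by
      rw [hY2, ← orderOf_dvd_iff_pow_eq_one, hco]; exact hd
    have := orderOf_le_of_pow_eq_one two_pos h3
    rw [hb] at this
    omega
  rw [hodd j hj] at hY2
  refine ⟨x, hx, y, hy, ha, hY2.trans hX2.symm, ?_, hne⟩
  have hx4 : x ^ 4 = 1 := by rw [show (4 : ℕ) = 2 ^ 2 by rfl, ← ha]; exact pow_orderOf_eq_one x
  have h3 : y * x * y⁻¹ = x⁻¹ := by
    rw [hyx, ← hX2, eq_inv_iff_mul_eq_one]
    simpa [pow_succ, mul_assoc] using hx4
  rw [mul_inv_eq_iff_eq_mul] at h3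
  calc x * y = x * (y * x) * x⁻¹ := by group
    _ = y * x⁻¹ := by rw [h3]; group


/-- A finite non-abelian group in which every subgroup is normal is the internal direct product of a subgroup isomorphic to the quaternion group of order `8`, an elementary abelian `2`-subgroup and an abelian subgroup of odd order. -/
theorem result {G : Type*} [Group G] [Finite G] (hna : ¬ IsMulCommutative G) (hn : ∀ H : Subgroup G, H.Normal) : ∃ Q E A : Subgroup G, Nonempty (Q ≃* QuaternionGroup 2) ∧ Cfsg.IsElementaryAbelian 2 E ∧ IsMulCommutative A ∧ Odd (Nat.card A) ∧ E ⊓ A = ⊥ ∧ Q ⊓ (E ⊔ A) = ⊥ ∧ Q ⊔ (E ⊔ A) = ⊤ := by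
  classical
  haveI := Fintype.ofFinite G
  obtain ⟨x₀, y₀, h₀⟩ : ∃ x y : G, x * y ≠ y * x := by
    by_contra hc
    push Not at hc
    exact hna ⟨⟨hc⟩⟩
  obtain ⟨x, -, y, -, hx4, hy2, hxy, hne⟩ :=
    exists_pair hn ⊤ ⟨x₀, Subgroup.mem_top _, y₀, Subgroup.mem_top _, h₀⟩
  -- the odd part
  obtain ⟨A, -, hA⟩ := Set.Finite.exists_le_maximal (Set.toFinite {A : Subgroup G | Odd (Nat.card A)})
    (a := ⊥) (by simp)
  have hAodd : Odd (Nat.card A) := hA.1
  have hAmem : ∀ g : G, Odd (orderOf g) → g ∈ A := by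
    intro g hg
    haveI := hn (Subgroup.zpowers g)
    have hd := Cfsg.Agent.PLocal.Cores.card_sup_dvd_of_normal A (Subgroup.zpowers g)
    rw [Nat.card_zpowers] at hd
    have hodd : Odd (Nat.card ↥(A ⊔ Subgroup.zpowers g)) := (hAodd.mul hg).of_dvd_nat hd
    exact hA.2 hodd le_sup_left (Subgroup.mem_sup_right (Subgroup.mem_zpowers g))
  have hAab : IsMulCommutative A := by
    refine ⟨⟨fun u v => Subtype.ext ?_⟩⟩
    show (u : G) * v = v * u
    by_contra h'
    obtain ⟨z, hz, -, -, hz4, -⟩ := exists_pair hn A ⟨u, u.2, v, v.2, h'⟩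
    have h4 := Subgroup.orderOf_dvd_natCard A hz
    rw [hz4] at h4
    exact Nat.not_even_iff_odd.2 hAodd (even_iff_two_dvd.2 ((by norm_num : (2 : ℕ) ∣ 4).trans h4))
  -- the 2-part
  haveI : Fact (Nat.Prime 2) := ⟨Nat.prime_two⟩
  obtain ⟨P⟩ := (inferInstance : Nonempty (Sylow 2 G))
  have hPA : ∀ g, g ∈ (P : Subgroup G) → g ∈ A → g = 1 := by
    intro g hgP hgA
    obtain ⟨k, hk⟩ := IsPGroup.iff_orderOf.1 P.2 ⟨g, hgP⟩
    rw [Subgroup.orderOf_mk] at hk
    have hd := Subgroup.orderOf_dvd_natCard A hgA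
    rcases Nat.eq_zero_or_pos k with rfl | hk0
    · rwa [pow_zero, orderOf_eq_one_iff] at hk
    · exact absurd (even_iff_two_dvd.2 ((dvd_pow_self 2 hk0.ne').trans (hk ▸ hd)))
        (Nat.not_even_iff_odd.2 hAodd)
  have hPmem : ∀ (g : G) (k : ℕ), orderOf g ∣ 2 ^ k → g ∈ (P : Subgroup G) := by
    intro g k hg
    haveI : (P : Subgroup G).Normal := hn _
    have hp : IsPGroup 2 (Subgroup.zpowers g) := by
      obtain ⟨j, -, hj⟩ := (Nat.dvd_prime_pow Nat.prime_two).1 hg
      exact IsPGroup.of_card (n := j) (by rw [Nat.card_zpowers, hj])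
    haveI := Sylow.unique_of_normal P inferInstance
    obtain ⟨Q, hQ⟩ := hp.exists_le_sylow
    rw [Subsingleton.elim Q P] at hQ
    exact hQ (Subgroup.mem_zpowers g)
  have hxP : x ∈ (P : Subgroup G) := hPmem x 2 (by rw [hx4]; norm_num)
  have hx4' : x ^ 4 = 1 := hx4 ▸ pow_orderOf_eq_one x
  have hy4 : y ^ 4 = 1 := by rw [show (4 : ℕ) = 2 * 2 by rfl, pow_mul, hy2, ← pow_mul]; exact hx4'
  have hyP : y ∈ (P : Subgroup G) := hPmem y 2 (orderOf_dvd_of_pow_eq_one hy4)
  -- the quaternion subgroup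
  haveI : Fact (1 < 2 * 2) := ⟨by norm_num⟩
  have hswap : ∀ k : ℕ, x ^ k * y = y * (x ^ k)⁻¹ := fun k => by
    have h1 : SemiconjBy y x⁻¹ x := hxy.symm
    rw [← inv_pow]
    exact (h1.pow_right k).eq.symm
  have hmod : ∀ i : ℕ, x ^ (i % 4) = x ^ i := fun i => by rw [← hx4, pow_mod_orderOf]
  have hval : ∀ i j : ZMod (2 * 2), x ^ (i + j).val = x ^ i.val * x ^ j.val := fun i j => by
    rw [ZMod.val_add, hmod, pow_add]
  have hsub : ∀ i j : ZMod (2 * 2), x ^ (j - i).val = (x ^ i.val)⁻¹ * x ^ j.val := fun i j => by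
    rw [eq_inv_mul_iff_mul_eq, ← hval, add_sub_cancel]
  let f : QuaternionGroup 2 →* G :=
    { toFun := fun g => match g with
        | .a i => x ^ i.val
        | .xa i => y * x ^ i.val
      map_one' := by
        show x ^ (0 : ZMod (2 * 2)).val = 1
        rw [ZMod.val_zero, pow_zero]
      map_mul' := by
        rintro (i | i) (j | j)
        · show x ^ (i + j).val = _
          rw [hval]
        · show y * x ^ (j - i).val = x ^ i.val * (y * x ^ j.val)
          rw [hsub, ← mul_assoc (x ^ i.val), hswap, mul_assoc]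
        · show y * x ^ (i + j).val = y * x ^ i.val * x ^ j.val
          rw [hval, mul_assoc]
        · show x ^ ((2 : ℕ) + j - i : ZMod (2 * 2)).val = y * x ^ i.val * (y * x ^ j.val)
          calc x ^ ((2 : ℕ) + j - i : ZMod (2 * 2)).val = x ^ 2 * x ^ (j - i).val := by
                rw [add_sub_assoc, hval]; rfl
            _ = y ^ 2 * ((x ^ i.val)⁻¹ * x ^ j.val) := by rw [hy2, hsub]
            _ = y * ((x ^ i.val * y) * x ^ j.val) := by
                rw [hswap, sq]; simp only [mul_assoc]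
            _ = _ := by simp only [mul_assoc] }
  have hyx' : y ∉ Subgroup.zpowers x := fun h => hne (by
    obtain ⟨k, rfl⟩ := Subgroup.mem_zpowers_iff.1 h
    exact ((Commute.refl x).zpow_right k).eq)
  have hfinj : Function.Injective f := by
    rintro (i | i) (j | j) h <;> simp only [f, MonoidHom.coe_mk, OneHom.coe_mk] at h
    · rw [pow_inj_mod, hx4, Nat.mod_eq_of_lt (ZMod.val_lt i), Nat.mod_eq_of_lt (ZMod.val_lt j)] at h
      rw [ZMod.val_injective _ h]
    · exact absurd (by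
        rw [eq_mul_inv_of_mul_eq h.symm]
        exact mul_mem (pow_mem (Subgroup.mem_zpowers x) _) (inv_mem (pow_mem (Subgroup.mem_zpowers x) _))) hyx'
    · exact absurd (by
        rw [eq_mul_inv_of_mul_eq h]
        exact mul_mem (pow_mem (Subgroup.mem_zpowers x) _) (inv_mem (pow_mem (Subgroup.mem_zpowers x) _))) hyx'
    · rw [mul_right_inj, pow_inj_mod, hx4, Nat.mod_eq_of_lt (ZMod.val_lt i),
        Nat.mod_eq_of_lt (ZMod.val_lt j)] at h
      rw [ZMod.val_injective _ h]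
  set Q := f.range with hQ
  have hfx : x ∈ Q := ⟨.a 1, by show x ^ (1 : ZMod (2 * 2)).val = x; rw [ZMod.val_one, pow_one]⟩
  have hfy : y ∈ Q := ⟨.xa 0, by show y * x ^ (0 : ZMod (2 * 2)).val = y; rw [ZMod.val_zero, pow_zero, mul_one]⟩
  have hQP : Q ≤ (P : Subgroup G) := by
    rintro _ ⟨i | i, rfl⟩
    · exact pow_mem hxP _
    · exact mul_mem hyP (pow_mem hxP _)
  -- the centralizer of `Q` in `P`
  let C : Subgroup G := (P : Subgroup G) ⊓ Subgroup.centralizer {x} ⊓ Subgroup.centralizer {y}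
  have hC : ∀ z, z ∈ C ↔ z ∈ (P : Subgroup G) ∧ z * x = x * z ∧ z * y = y * z := fun z => by
    simp only [C, Subgroup.mem_inf, Subgroup.mem_centralizer_singleton_iff, and_assoc]
  have hsq : ∀ z ∈ C, z * z = 1 := by
    intro z hz
    obtain ⟨hzP, hzx, hzy⟩ := (hC z).1 hz
    suffices ∀ z ∈ C, z ^ 4 = 1 → z * z = 1 by
      by_contra hne2
      obtain ⟨k, hk⟩ := IsPGroup.iff_orderOf.1 P.2 ⟨z, hzP⟩
      rw [Subgroup.orderOf_mk] at hk
      have hk2 : 2 ≤ k := by
        by_contra hk2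
        refine hne2 ?_
        rw [← sq, ← orderOf_dvd_iff_pow_eq_one, hk]
        exact (pow_dvd_pow 2 (by omega : k ≤ 1)).trans (by norm_num)
      have hw := this (z ^ 2 ^ (k - 2)) (pow_mem hz _) (by
        rw [← pow_mul, ← orderOf_dvd_iff_pow_eq_one, hk, show (4 : ℕ) = 2 ^ 2 by rfl, ← pow_add]
        exact pow_dvd_pow 2 (by omega))
      rw [← sq, ← pow_mul, ← pow_succ, ← orderOf_dvd_iff_pow_eq_one, hk,
        Nat.pow_dvd_pow_iff_le_right (by norm_num)] at hw
      omega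
    intro z hz hz4
    obtain ⟨hzP, hzx, hzy⟩ := (hC z).1 hz
    by_contra hz2
    have hcx : Commute x z := hzx.symm
    obtain ⟨k, hk⟩ := (Submonoid.mem_powers_iff _ _).1 (mem_powers_iff_mem_zpowers.2
      ((hn _).conj_mem (x * z) (Subgroup.mem_zpowers (x * z)) y))
    have hconj : y * (x * z) * y⁻¹ = x⁻¹ * z := by
      have h1 : y * x = x⁻¹ * y := by
        calc y * x = x⁻¹ * (x * y) * x := by group
          _ = x⁻¹ * y := by rw [hxy]; group
      rw [← mul_assoc, h1, mul_assoc x⁻¹ y z, ← hzy]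
      group
    have hxz4 : (x * z) ^ 4 = 1 := by rw [hcx.mul_pow, hx4', hz4, one_mul]
    rw [hconj, ← pow_mod_orderOf] at hk
    have hd : orderOf (x * z) ∣ 4 := orderOf_dvd_of_pow_eq_one hxz4
    have hklt : k % orderOf (x * z) < 4 :=
      lt_of_lt_of_le (Nat.mod_lt _ (orderOf_pos _)) (Nat.le_of_dvd (by norm_num) hd)
    generalize k % orderOf (x * z) = r at hk hklt
    interval_cases r
    · rw [pow_zero, eq_inv_mul_iff_mul_eq, mul_one] at hk
      exact hne (hk ▸ hzy)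
    · rw [pow_one, mul_left_inj, eq_inv_iff_mul_eq_one, ← sq, ← orderOf_dvd_iff_pow_eq_one, hx4] at hk
      norm_num at hk
    · rw [hcx.mul_pow, eq_inv_mul_iff_mul_eq, ← mul_assoc, ← pow_succ', sq, ← mul_assoc,
        mul_eq_right, ← eq_inv_iff_mul_eq_one] at hk
      refine hne ?_
      have : x = (x ^ 3 : G)⁻¹ := by
        rw [eq_inv_iff_mul_eq_one, ← pow_succ']; exact hx4'
      have h3 : x ^ 3 = z⁻¹ := hk
      rw [this, h3, inv_inv]
      exact hzy
    · rw [hcx.mul_pow, eq_inv_mul_iff_mul_eq, ← mul_assoc, ← pow_succ', hx4', one_mul] at hk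
      refine hz2 ?_
      have hk' : z ^ 3 = z := by first | exact hk | exact hk.symm
      refine mul_left_cancel (a := z) ?_
      rw [mul_one, ← mul_assoc, ← pow_three', hk']
  have hcover : ∀ g ∈ (P : Subgroup G), ∃ q ∈ Q, q * g ∈ C := by
    have hconj : ∀ (w : G), orderOf w = 4 → ∀ g, g * w * g⁻¹ = w ∨ g * w * g⁻¹ = w⁻¹ := by
      intro w hw g
      obtain ⟨k, hk⟩ := (Submonoid.mem_powers_iff _ _).1 (mem_powers_iff_mem_zpowers.2
        ((hn _).conj_mem w (Subgroup.mem_zpowers w) g))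
      have ho : orderOf (MulAut.conj g w) = 4 := (MulEquiv.orderOf_eq _ _).trans hw
      rw [MulAut.conj_apply, ← hk, ← pow_mod_orderOf, hw] at ho
      rw [← hk, ← pow_mod_orderOf, hw]
      have hlt : k % 4 < 4 := Nat.mod_lt _ (by norm_num)
      generalize k % 4 = r at ho hlt ⊢
      interval_cases r
      · rw [pow_zero, orderOf_one] at ho; norm_num at ho
      · exact Or.inl (pow_one w)
      · rw [orderOf_pow, hw] at ho; norm_num at ho
      · refine Or.inr (eq_inv_iff_mul_eq_one.2 ?_)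
        rw [← pow_succ]; rw [show 3 + 1 = orderOf w from hw.symm, pow_orderOf_eq_one]
    have hy4o : orderOf y = 4 := by
      have h2 : y ^ 2 ≠ 1 := fun e => by
        rw [hy2, ← orderOf_dvd_iff_pow_eq_one, hx4] at e
        norm_num at e
      exact orderOf_eq_prime_pow (p := 2) (n := 1) h2 hy4
    have hxy' : y * x * y⁻¹ = x⁻¹ := by
      calc y * x * y⁻¹ = x⁻¹ * (x * y) * x * y⁻¹ := by group
        _ = x⁻¹ := by rw [hxy]; group
    have hyx'' : x * y * x⁻¹ = y⁻¹ := by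
      rw [hxy, eq_inv_iff_mul_eq_one, mul_assoc, mul_assoc, ← mul_assoc x⁻¹ x⁻¹, ← mul_inv_rev, ← sq,
        ← hy2, sq, mul_inv_rev]
      group
    intro g hg
    have key : ∀ q ∈ Q, (q * g) * x * (q * g)⁻¹ = x → (q * g) * y * (q * g)⁻¹ = y → q * g ∈ C :=
      fun q hq e1 e2 => (hC _).2 ⟨mul_mem (hQP hq) hg, mul_inv_eq_iff_eq_mul.1 e1, mul_inv_eq_iff_eq_mul.1 e2⟩
    have e : ∀ q w w' : G, g * w * g⁻¹ = w' → (q * g) * w * (q * g)⁻¹ = q * w' * q⁻¹ := by
      rintro q w w' rfl; group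
    rcases hconj x hx4 g with h1 | h1 <;> rcases hconj y hy4o g with h2 | h2
    · exact ⟨1, one_mem _, key 1 (one_mem _) (by simpa using h1) (by simpa using h2)⟩
    · refine ⟨x, hfx, key x hfx ?_ ?_⟩
      · rw [e x x x h1]; group
      · rw [e x y y⁻¹ h2, ← conj_inv, hyx'', inv_inv]
    · refine ⟨y, hfy, key y hfy ?_ ?_⟩
      · rw [e y x x⁻¹ h1, ← conj_inv, hxy', inv_inv]
      · rw [e y y y h2]; group
    · refine ⟨x * y, mul_mem hfx hfy, key _ (mul_mem hfx hfy) ?_ ?_⟩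
      · rw [e _ x x⁻¹ h1, show x * y * x⁻¹ * (x * y)⁻¹ = x * (y * x * y⁻¹)⁻¹ * x⁻¹ by group, hxy', inv_inv]
        group
      · rw [e _ y y⁻¹ h2, show x * y * y⁻¹ * (x * y)⁻¹ = (x * y * x⁻¹)⁻¹ by group, hyx'', inv_inv]
  have hx2C : x ^ 2 ∈ C := by
    refine (hC _).2 ⟨pow_mem hxP 2, ((Commute.refl x).pow_left 2).eq, ?_⟩
    rw [← hy2]
    exact ((Commute.refl y).pow_left 2).eq
  obtain ⟨E, -, hE⟩ := Set.Finite.exists_le_maximal
    (Set.toFinite {E : Subgroup G | E ≤ C ∧ x ^ 2 ∉ E}) (a := ⊥) ⟨bot_le, fun h => by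
      rw [Subgroup.mem_bot, ← orderOf_dvd_iff_pow_eq_one, hx4] at h
      norm_num at h⟩
  obtain ⟨hEC, hEx⟩ := hE.1
  have hEcover : ∀ z ∈ C, z ∈ E ∨ x ^ 2 * z ∈ E := by
    intro z hz
    by_cases hzE : z ∈ E
    · exact Or.inl hzE
    refine Or.inr ?_
    have hx2 : x ^ 2 ∈ E ⊔ Subgroup.zpowers z := by
      by_contra hx2
      exact hzE (hE.2 ⟨sup_le hEC ((Subgroup.zpowers_le).2 hz), hx2⟩ le_sup_left
        (Subgroup.mem_sup_right (Subgroup.mem_zpowers z)))
    haveI := hn (Subgroup.zpowers z)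
    obtain ⟨e, he, w, hw, hew⟩ := Subgroup.mem_sup_of_normal_right.1 hx2
    obtain ⟨k, rfl⟩ := Subgroup.mem_zpowers_iff.1 hw
    rcases Int.even_or_odd k with ⟨t, rfl⟩ | ⟨t, rfl⟩
    · rw [← two_mul, zpow_mul, zpow_two, hsq z hz, one_zpow, mul_one] at hew
      exact absurd (hew ▸ he) hEx
    · rw [zpow_add, zpow_mul, zpow_two, hsq z hz, one_zpow, one_mul, zpow_one] at hew
      rw [← hew, mul_assoc, hsq z hz, mul_one]
      exact he
  have hQE : ∀ q ∈ Q, q ∈ C → q = 1 ∨ q = x ^ 2 := by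
    rintro _ ⟨i | i, rfl⟩ hq
    · obtain ⟨-, -, h2⟩ := (hC _).1 hq
      change x ^ i.val * y = y * x ^ i.val at h2
      rw [hswap, mul_right_inj, inv_eq_iff_mul_eq_one, ← pow_add, ← orderOf_dvd_iff_pow_eq_one, hx4] at h2
      have := ZMod.val_lt i
      show x ^ i.val = 1 ∨ x ^ i.val = x ^ 2
      rcases (by omega : i.val = 0 ∨ i.val = 2) with e | e
      · left; rw [e, pow_zero]
      · right; rw [e]
    · obtain ⟨-, h1, -⟩ := (hC _).1 hq
      change y * x ^ i.val * x = x * (y * x ^ i.val) at h1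
      rw [mul_assoc, ← pow_succ, pow_succ', ← mul_assoc, ← mul_assoc, mul_left_inj] at h1
      exact absurd h1.symm hne
  refine ⟨Q, E, A, ⟨(MonoidHom.ofInjective hfinj).symm⟩,
    ⟨⟨⟨fun u v => Subtype.ext ?_⟩⟩, fun u hu => ?_⟩, hAab, hAodd, ?_, ?_, ?_⟩
  · show (u : G) * v = v * u
    have hu := hsq _ (hEC u.2)
    have hv := hsq _ (hEC v.2)
    have huv := hsq _ (mul_mem (hEC u.2) (hEC v.2))
    calc (u : G) * v = u * (u * v * (u * v)) * v := by rw [huv, mul_one]
      _ = (u * u) * (v * u) * (v * v) := by group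
      _ = v * u := by rw [hu, hv, one_mul, mul_one]
  · rw [sq]; exact hsq _ (hEC hu)
  · rw [Subgroup.eq_bot_iff_forall]
    exact fun g hg => hPA g (((hC g).1 (hEC (Subgroup.mem_inf.1 hg).1)).1) (Subgroup.mem_inf.1 hg).2
  · rw [Subgroup.eq_bot_iff_forall]
    intro g hg
    obtain ⟨hgQ, hgEA⟩ := Subgroup.mem_inf.1 hg
    haveI := hn A
    obtain ⟨e, he, a, ha, rfl⟩ := Subgroup.mem_sup_of_normal_right.1 hgEA
    have ha1 : a = 1 := hPA a (by
      have := mul_mem (inv_mem (((hC e).1 (hEC he)).1)) (hQP hgQ)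
      rwa [inv_mul_cancel_left] at this) ha
    subst ha1
    rw [mul_one] at hgQ ⊢
    rcases hQE e hgQ (hEC he) with h1 | h1
    · exact h1
    · exact absurd (h1 ▸ he) hEx
  · rw [eq_top_iff]
    intro g _
    have hP2 : ∀ u ∈ (P : Subgroup G), u ∈ Q ⊔ (E ⊔ A) := by
      intro u hu
      obtain ⟨q, hq, hqu⟩ := hcover u hu
      rcases hEcover _ hqu with h1 | h1
      · have := Subgroup.mul_mem_sup (inv_mem hq) (Subgroup.mem_sup_left h1 : q * u ∈ E ⊔ A)
        rwa [inv_mul_cancel_left] at this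
      · have := Subgroup.mul_mem_sup (inv_mem (mul_mem (pow_mem hfx 2) hq))
          (Subgroup.mem_sup_left h1 : x ^ 2 * (q * u) ∈ E ⊔ A)
        rwa [← mul_assoc (x ^ 2), inv_mul_cancel_left] at this
    have ho := (orderOf_pos g).ne'
    have hprod := Nat.ordProj_mul_ordCompl_eq_self (orderOf g) 2
    set P2 := 2 ^ (orderOf g).factorization 2 with hP2def
    set R := orderOf g / P2 with hR
    have hcop : Nat.Coprime P2 R := Nat.Coprime.pow_left _ (Nat.coprime_ordCompl Nat.prime_two ho)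
    have hb := Nat.gcd_eq_gcd_ab P2 R
    rw [hcop.gcd_eq_one, Nat.cast_one] at hb
    have hg : g = (g ^ P2) ^ P2.gcdA R * (g ^ R) ^ P2.gcdB R := by
      rw [← zpow_natCast, ← zpow_mul, ← zpow_natCast g R, ← zpow_mul, ← zpow_add, ← hb, zpow_one]
    rw [hg]
    refine mul_mem (zpow_mem (Subgroup.mem_sup_right (Subgroup.mem_sup_right (hAmem _ ?_))) _)
      (zpow_mem (hP2 _ (hPmem _ ((orderOf g).factorization 2) ?_)) _)
    · rw [orderOf_pow_of_dvd (by positivity) ⟨R, hprod.symm⟩]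
      rw [Nat.odd_iff, ← Nat.two_dvd_ne_zero]
      exact Nat.not_dvd_ordCompl Nat.prime_two ho
    · refine orderOf_dvd_of_pow_eq_one ?_
      rw [← pow_mul, mul_comm, hprod, pow_orderOf_eq_one]

end Cfsg.Agent.S4211
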