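import Cfsg.Statements.S1360
import Cfsg.Agent.OddLocal.PTypeExp
-- import your own Cfsg.Agent.* helpers here

set_option autoImplicit false
open Cfsg

namespace Cfsg.Agent.S1360

/-- Let G be a minimal simple group of odd order and M a maximal subgroup with standard factorisation M = K U M_σ. Then U contains a subgroup U₀ with the same exponent as U such that no non-identity element of U₀ centralizes a non-identity element of M_σ. -/
theorem result {G : Type*} [Group G] [Finite G] (hG : Cfsg.IsMinSimpleOddOrder G)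
    (M : Subgroup G) (hM : IsCoatom M) (K U : Subgroup G) (hKU : Cfsg.IsSigmaDecomposition M K U) :
    ∃ U₀ : Subgroup G, U₀ ≤ U ∧ Monoid.exponent U₀ = Monoid.exponent U ∧ ∀ u ∈ U₀, u ∈ Cfsg.sigmaHat M → u = 1 := by
  by_cases hK : K = ⊥
  · obtain ⟨-, E₀, hE, hexp, hreg⟩ := S1421.result hG M hM U (OddLocal.PType.isCompl_of_bot hKU hK)
      (OddLocal.PType.regular_of_bot hG hM hKU hK)
    refine ⟨E₀, hE, hexp, fun u hu ⟨_, y, hy, hy1, huy⟩ => by_contra fun hu1 => hy1 ?_⟩
    rw [← Subgroup.mem_bot, ← hreg u hu hu1]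
    exact Subgroup.mem_inf.mpr ⟨hy, Subgroup.mem_centralizer_singleton_iff.mpr huy.symm⟩
  by_cases hU : U = ⊥
  · subst hU
    exact ⟨⊥, le_rfl, rfl, fun u hu _ => Subgroup.mem_bot.mp hu⟩
  obtain ⟨Mstar, h⟩ := OddLocal.PType.exists_pair hG hM hKU.hall hK
  obtain ⟨v, P⟩ := OddLocal.PType.P2.exists_gen hG h hKU hU
  obtain ⟨z, hz, hzo, hzg⟩ := P.exists_exponent_cyclic
  refine ⟨Subgroup.zpowers z, Subgroup.zpowers_le.mpr hz, ?_,
    fun u hu ⟨_, y, hy, hy1, huy⟩ => by_contra fun hu1 => hy1 ?_⟩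
  · rw [IsCyclic.exponent_eq_card, Nat.card_zpowers, hzo]
  obtain ⟨r, hr, hrd⟩ := Nat.exists_prime_and_dvd (fun e => hu1 (orderOf_eq_one_iff.mp e))
  have hw : (orderOf (u ^ (orderOf u / r))).Prime := by
    rwa [orderOf_pow_orderOf_div (orderOf_pos u).ne' hrd]
  rw [← Subgroup.mem_bot, ← hzg _ (pow_mem hu _) hw]
  exact Subgroup.mem_inf.mpr ⟨hy, Subgroup.mem_centralizer_singleton_iff.mpr
    ((show Commute u y from huy).pow_left _).eq.symm⟩

end Cfsg.Agent.S1360
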