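import Cfsg.Statements.S1363
import Cfsg.Agent.OddLocal.PTypeU
-- import your own Cfsg.Agent.* helpers here

set_option autoImplicit false
open Cfsg

namespace Cfsg.Agent.S1363

/-- Let G be a minimal simple group of odd order and M a maximal subgroup with standard factorisation M = K U M_σ and K ≠ 1. Then U is abelian and the normalizer of U in G is not contained in M. -/
theorem result {G : Type*} [Group G] [Finite G] (hG : Cfsg.IsMinSimpleOddOrder G)
    (M : Subgroup G) (hM : IsCoatom M) (K U : Subgroup G) (hKU : Cfsg.IsSigmaDecomposition M K U) (hK1 : K ≠ ⊥) :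
    IsMulCommutative U ∧ ¬ Subgroup.normalizer (U : Set G) ≤ M := by
  obtain ⟨Mstar, h⟩ := OddLocal.PType.exists_pair hG hM hKU.hall hK1
  by_cases hU1 : U = ⊥
  · subst hU1
    refine ⟨inferInstance, fun hle => hM.1 (top_le_iff.mp ?_)⟩
    rwa [Subgroup.normalizer_eq_top_iff.mpr inferInstance] at hle
  obtain ⟨u, P⟩ := OddLocal.PType.P2.exists_gen hG h hKU hU1
  refine ⟨P.data.hUc, fun hle => ?_⟩
  obtain ⟨r, hr, hrd⟩ := Nat.exists_prime_and_dvd (fun e : Nat.card U = 1 => hU1 (Subgroup.card_eq_one.mp e))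
  have := Fact.mk hr
  let R : Sylow r U := default
  have hR1 : ((R : Subgroup U).map U.subtype : Subgroup G) ≠ ⊥ := by
    rw [Ne, Subgroup.map_eq_bot_iff_of_injective _ U.subtype_injective]
    exact R.ne_bot_of_dvd_card hrd
  obtain ⟨H, hH, hNR⟩ := OddLocal.PrimeAction.exists_normalizer_le hG hR1
    ((Subgroup.map_subtype_le _).trans hKU.compl.1) hM
  obtain ⟨-, -, -, -, -, -, hN⟩ := P.over hrd hH hNR
  exact hN (inf_le_right.trans hle)

end Cfsg.Agent.S1363
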