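import Cfsg.Statements.S1370
import Cfsg.Agent.OddLocal.PTypeCover
-- import your own Cfsg.Agent.* helpers here

set_option autoImplicit false
open Cfsg

namespace Cfsg.Agent.S1370

/-- Let G be a minimal simple group of odd order, M a maximal subgroup with standard factorisation M = K U M_σ, K ≠ 1, K* = M_σ ∩ C_G(K) and Z the subgroup generated by K and K*. Then the set of elements of Z lying in neither K nor K* is a TI-subset of G, and its set-normalizer in G is exactly Z. -/
theorem result {G : Type*} [Group G] [Finite G] (hG : Cfsg.IsMinSimpleOddOrder G)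
    (M : Subgroup G) (hM : IsCoatom M) (K U : Subgroup G) (hKU : Cfsg.IsSigmaDecomposition M K U) (hK1 : K ≠ ⊥) :
    Cfsg.IsTISubset ((↑(K ⊔ (Cfsg.sigmaCore M ⊓ Subgroup.centralizer (K : Set G))) : Set G) \ ((K : Set G) ∪ ↑(Cfsg.sigmaCore M ⊓ Subgroup.centralizer (K : Set G)))) ∧ Subgroup.normalizer ((↑(K ⊔ (Cfsg.sigmaCore M ⊓ Subgroup.centralizer (K : Set G))) : Set G) \ ((K : Set G) ∪ ↑(Cfsg.sigmaCore M ⊓ Subgroup.centralizer (K : Set G)))) = K ⊔ (Cfsg.sigmaCore M ⊓ Subgroup.centralizer (K : Set G)) := by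
  obtain ⟨H, h⟩ := OddLocal.PType.exists_pair_of_decomposition hG hM hKU hK1
  rw [h.zhat_eq' hG]
  have hne : ∃ z, z ∈ OddLocal.PType.zhat (K ⊔ OddLocal.PType.star M K) := by
    obtain ⟨k, hk, hk1⟩ := (Subgroup.bot_or_exists_ne_one K).resolve_left hK1
    obtain ⟨y, hy, hy1⟩ := (Subgroup.bot_or_exists_ne_one _).resolve_left (h.star_ne_bot hG)
    exact ⟨k * y, h.mul_mem_zhat hG hk hk1 hy hy1⟩
  have hN : ∀ g : G, g ∈ Subgroup.normalizer (OddLocal.PType.zhat (K ⊔ OddLocal.PType.star M K)) ↔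
      g ∈ K ⊔ OddLocal.PType.star M K := by
    intro g
    constructor
    · intro hg
      obtain ⟨z, hz⟩ := hne
      exact OddLocal.PType.mem_of_conj hG h.member hz ((Subgroup.mem_set_normalizer_iff.mp hg z).mp hz).1
    · intro hg
      refine Subgroup.mem_set_normalizer_iff.mpr fun z =>
        ⟨fun hz => OddLocal.PType.conj_mem_zhat hz hg, fun hz => ?_⟩
      have h1 := OddLocal.PType.conj_mem_zhat hz (inv_mem hg)
      rwa [show g⁻¹ * (g * z * g⁻¹) * g⁻¹⁻¹ = z by group] at h1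
  refine ⟨fun g hg x hx hgx => absurd ((hN g).mpr ?_) hg, Subgroup.ext fun g => hN g⟩
  exact OddLocal.PType.mem_of_conj hG h.member hx hgx.1

end Cfsg.Agent.S1370
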