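import Cfsg.Statements.S1510
import Cfsg.Agent.OddChar.CyclicTI.Basic

set_option autoImplicit false
open Cfsg

namespace Cfsg.Agent.S1510

/-- Let L be a finite group with a normal subgroup K and a nontrivial cyclic subgroup W₁ of order coprime to its index, K ⊓ W₁ = ⊥ and K ⊔ W₁ = ⊤; let W₂ ≠ ⊥ be a cyclic subgroup of K with K ⊓ C_L(x) = W₂ for every non-identity x ∈ W₁, and suppose W₁ ⊔ W₂ has odd order. Then (W₁, W₂) is a self-normalising cyclic pair in L. -/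
theorem result {L : Type*} [Group L] [Fintype L] (K W₁ W₂ : Subgroup L) [hK : K.Normal] (hKW₁ : K ⊓ W₁ = ⊥) (hKW₁' : K ⊔ W₁ = ⊤) (hW₁ : W₁ ≠ ⊥) (hW₁c : IsCyclic W₁) (hHall : Nat.Coprime (Nat.card W₁) W₁.index) (hW₂ : W₂ ≠ ⊥) (hW₂c : IsCyclic W₂) (hW₂K : W₂ ≤ K) (hC : ∀ x ∈ W₁, x ≠ 1 → K ⊓ Subgroup.centralizer ({x} : Set L) = W₂) (hodd : Odd (Nat.card ↥(W₁ ⊔ W₂))) : Cfsg.IsSelfNormalizingCyclic W₁ W₂ := by
  classical
  have hdisj : W₁ ⊓ W₂ = ⊥ := le_bot_iff.1 (hKW₁ ▸ le_inf (inf_le_right.trans hW₂K) inf_le_left)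
  have hcomm : ∀ a ∈ W₁, ∀ b ∈ W₂, a * b = b * a := by
    intro a ha b hb
    by_cases ha1 : a = 1
    · simp [ha1]
    · have : b ∈ K ⊓ Subgroup.centralizer ({a} : Set L) := by rw [hC a ha ha1]; exact hb
      exact (Subgroup.mem_centralizer_singleton_iff.1 this.2).symm
  have hS : OddChar.CyclicTI.Split W₁ W₂ := ⟨hdisj, hcomm⟩
  have hcompl : K.IsComplement' W₁ := Subgroup.isComplement'_of_disjoint_and_mul_eq_univ
    (disjoint_iff.2 hKW₁) (by rw [← Subgroup.normal_mul, hKW₁', Subgroup.coe_top])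
  have hcopK : Nat.Coprime (Nat.card W₁) (Nat.card K) := by
    rwa [hcompl.index_eq_card] at hHall
  have hcop : Nat.Coprime (Nat.card W₁) (Nat.card W₂) :=
    hcopK.coprime_dvd_right (Subgroup.card_dvd_of_le hW₂K)
  haveI : IsCyclic (W₁ × W₂) := Group.isCyclic_prod_iff.2 ⟨hW₁c, hW₂c, hcop⟩
  haveI hcyc : IsCyclic ↥(W₁ ⊔ W₂) := isCyclic_of_surjective hS.prodEquiv.toMonoidHom
    hS.prodEquiv.surjective
  refine ⟨hW₁, hW₂, hdisj, hcomm, hcyc, fun X hX hne => le_antisymm ?_ ?_⟩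
  · intro g hg
    obtain ⟨k, hk, w, hw, rfl⟩ : ∃ k ∈ K, ∃ w ∈ W₁, g = k * w := by
      have hm : g ∈ K ⊔ W₁ := by rw [hKW₁']; trivial
      obtain ⟨k, hk, w, hw, e⟩ := Subgroup.mem_sup_of_normal_left.1 hm
      exact ⟨k, hk, w, hw, e.symm⟩
    obtain ⟨x, hx⟩ := hne
    have hcentX : ∀ v ∈ W₁ ⊔ W₂, ∀ y ∈ X, v * y * v⁻¹ = y := fun v hv y hy => by
      have h : (⟨v, hv⟩ : ↥(W₁ ⊔ W₂)) * ⟨y, (hX hy).1⟩ = ⟨y, (hX hy).1⟩ * ⟨v, hv⟩ :=
        IsCyclic.commGroup.mul_comm _ _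
      rw [show v * y = y * v from congrArg Subtype.val h, mul_inv_cancel_right]
    have hkx : k * x * k⁻¹ ∈ X := by
      have h1 := (Subgroup.mem_set_normalizer_iff.1 hg x).1 hx
      rwa [show (k * w) * x * (k * w)⁻¹ = k * (w * x * w⁻¹) * k⁻¹ by group,
        hcentX w (Subgroup.mem_sup_left hw) x hx] at h1
    obtain ⟨a, b, ha, hb, hxab⟩ := hS.exists_mul ⟨x, (hX hx).1⟩
    obtain ⟨a', b', ha', hb', hxab'⟩ := hS.exists_mul ⟨k * x * k⁻¹, (hX hkx).1⟩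
    have e : x = (a : L) * b := congrArg Subtype.val hxab
    have e' : k * x * k⁻¹ = (a' : L) * b' := congrArg Subtype.val hxab'
    have ha1 : (a : L) ≠ 1 := fun h => (hX hx).2 (Or.inr (by rw [e, h, one_mul]; exact hb))
    have haa : (a : L) = a' := by
      set q := QuotientGroup.mk' K
      have hq : ∀ c ∈ K, q c = 1 := fun c hc => (QuotientGroup.eq_one_iff c).2 hc
      have h1 : q a = q a' := by
        have h2 := congrArg q e'
        rw [e] at h2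
        simpa [map_mul, hq k hk, hq _ (hW₂K hb), hq _ (hW₂K hb')] using h2
      have h3 : (a : L)⁻¹ * a' ∈ K ⊓ W₁ :=
        ⟨QuotientGroup.eq.1 h1, W₁.mul_mem (W₁.inv_mem ha) ha'⟩
      rw [hKW₁, Subgroup.mem_bot, inv_mul_eq_one] at h3
      exact h3
    rw [← haa] at e'
    obtain ⟨n, hn1, hn0⟩ := Nat.chineseRemainder hcop 1 0
    have hpow : ∀ c ∈ W₂, ((a : L) * c) ^ n = a := fun c hc => by
      have h1 : (a : L) ^ n = a := by
        conv_rhs => rw [← pow_one (a : L)]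
        exact pow_eq_pow_iff_modEq.2 (hn1.of_dvd (Subgroup.orderOf_dvd_natCard _ ha))
      have h2 : c ^ n = 1 := orderOf_dvd_iff_pow_eq_one.1
        ((Subgroup.orderOf_dvd_natCard _ hc).trans (Nat.modEq_zero_iff_dvd.1 hn0))
      rw [(show Commute (a : L) c from hcomm a ha c hc).mul_pow, h1, h2, mul_one]
    have h4 := congrArg (· ^ n) e'
    simp only [conj_pow, e, hpow _ hb, hpow _ hb'] at h4
    have hkC : k ∈ K ⊓ Subgroup.centralizer ({(a : L)} : Set L) :=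
      ⟨hk, Subgroup.mem_centralizer_singleton_iff.2 (mul_inv_eq_iff_eq_mul.1 h4)⟩
    rw [hC a ha ha1] at hkC
    exact mul_mem (Subgroup.mem_sup_right hkC) (Subgroup.mem_sup_left hw)
  · intro v hv
    rw [Subgroup.mem_set_normalizer_iff]
    have hfix : ∀ u ∈ W₁ ⊔ W₂, ∀ y ∈ X, u * y * u⁻¹ = y := fun u hu y hy => by
      have h : (⟨u, hu⟩ : ↥(W₁ ⊔ W₂)) * ⟨y, (hX hy).1⟩ = ⟨y, (hX hy).1⟩ * ⟨u, hu⟩ :=
        IsCyclic.commGroup.mul_comm _ _
      rw [show u * y = y * u from congrArg Subtype.val h, mul_inv_cancel_right]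
    refine fun y => ⟨fun hy => by rw [hfix v hv y hy]; exact hy, fun hy => ?_⟩
    have h := hfix v⁻¹ (inv_mem hv) _ hy
    rw [show v⁻¹ * (v * y * v⁻¹) * v⁻¹⁻¹ = y by group] at h
    rwa [← h] at hy

end Cfsg.Agent.S1510
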