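import Cfsg.Statements.S1512
import Cfsg.Agent.S1496

set_option autoImplicit false
open Cfsg

namespace Cfsg.Agent.S1512

/-- Let K be a normal subgroup of the finite group L and x a non-identity element whose order is coprime to the order of K, such that K ⊓ C_L(y) = W₂ for every non-identity element y of the cyclic group generated by x. Then the number of conjugacy classes of K mapped to themselves by conjugation by x is at most Nat.card W₂. -/
theorem result {L : Type*} [Group L] [Finite L] (K W₂ : Subgroup L) [hK : K.Normal] (x : L) (hx1 : x ≠ 1) (hx : Nat.Coprime (orderOf x) (Nat.card K)) (hC : ∀ y ∈ Subgroup.zpowers x, y ≠ 1 → K ⊓ Subgroup.centralizer ({y} : Set L) = W₂) : Nat.card {C : ConjClasses K // ConjClasses.map (MulEquiv.toMonoidHom ((MulAut.conjNormal x : MulAut K))) C = C} ≤ Nat.card W₂ := by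
  classical
  have hW : ∀ w : W₂, (w : L) ∈ K ∧ (w : L) * x = x * w := by
    intro w
    have := hC x (Subgroup.mem_zpowers x) hx1
    have hw : (w : L) ∈ K ⊓ Subgroup.centralizer ({x} : Set L) := by rw [this]; exact w.2
    exact ⟨hw.1, Subgroup.mem_centralizer_singleton_iff.1 hw.2⟩
  refine Nat.card_le_card_of_surjective (fun w : W₂ =>
    ⟨ConjClasses.mk ⟨(w : L), (hW w).1⟩, ?_⟩) ?_
  · show ConjClasses.mk ((MulAut.conjNormal x : MulAut K) ⟨(w : L), (hW w).1⟩) = _
    congr 1
    refine Subtype.ext ?_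
    show x * (w : L) * x⁻¹ = w
    rw [← (hW w).2, mul_inv_cancel_right]
  · rintro ⟨C, hfix⟩
    obtain ⟨k, rfl⟩ := ConjClasses.mk_surjective C
    change ConjClasses.mk ((MulAut.conjNormal x : MulAut K) k) = ConjClasses.mk k at hfix
    rw [ConjClasses.mk_eq_mk_iff_isConj] at hfix
    obtain ⟨u, hu⟩ := isConj_iff.1 hfix
    have e : (u : L) * (x * k * x⁻¹) * (u : L)⁻¹ = k := congrArg Subtype.val hu
    obtain ⟨a, ha, c, hc, hcx, hac⟩ := Cfsg.Agent.S1496.result K x
      (by rw [Subgroup.normalizer_eq_top_iff.2 hK]; trivial) hx (u : L) u.2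
    have hcom : Commute (a * (k : L) * a⁻¹) (c * x) := by
      rw [← hac]
      have h1 : Commute (k : L) ((u : L) * x) := by
        show (k : L) * ((u : L) * x) = (u : L) * x * k
        conv_lhs => rw [← e]
        group
      exact (Commute.map h1 (MulAut.conj a).toMonoidHom :)
    have hm : (c * x) ^ Nat.card K = x ^ Nat.card K := by
      rw [Commute.mul_pow hcx, show c ^ Nat.card K = 1 from
        congrArg Subtype.val (pow_card_eq_one' (x := (⟨c, hc⟩ : K))), one_mul]
    obtain ⟨m, hm'⟩ := exists_pow_eq_self_of_coprime (x := x) hx.symm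
    have hcomx := (hcom.pow_right (Nat.card K)).pow_right m
    rw [hm, hm'] at hcomx
    have hkK : a * (k : L) * a⁻¹ ∈ K := K.mul_mem (K.mul_mem ha k.2) (K.inv_mem ha)
    have hmem : a * (k : L) * a⁻¹ ∈ W₂ := by
      rw [← hC x (Subgroup.mem_zpowers x) hx1]
      exact ⟨hkK, Subgroup.mem_centralizer_singleton_iff.2 hcomx.eq⟩
    refine ⟨⟨_, hmem⟩, Subtype.ext ?_⟩
    show ConjClasses.mk (⟨a * (k : L) * a⁻¹, hkK⟩ : K) = ConjClasses.mk k
    rw [ConjClasses.mk_eq_mk_iff_isConj]
    exact (isConj_iff.2 ⟨(⟨a, ha⟩ : K), Subtype.ext rfl⟩).symm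

end Cfsg.Agent.S1512
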