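import Cfsg.Statements.S1495
import Mathlib

set_option autoImplicit false
open Cfsg

namespace Cfsg.Agent.S1495

/-- Let p be a prime, ε = exp(2πi/p), and n an integer such that n = (1 − ε) * ω for some algebraic integer ω. Then p divides n. -/
theorem result (p : ℕ) (hp : p.Prime) (n : ℤ) (ω : ℂ) (hω : IsIntegral ℤ ω) (h : (n : ℂ) = (1 - Complex.exp (2 * Real.pi * Complex.I / p)) * ω) : (p : ℤ) ∣ n := by
  set ζ := Complex.exp (2 * Real.pi * Complex.I / p) with hζdef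
  have hζ : IsPrimitiveRoot ζ p := Complex.isPrimitiveRoot_exp p hp.ne_zero
  have hint : IsIntegral ℤ ζ := hζ.isIntegral hp.pos
  obtain ⟨m, rfl⟩ := Nat.exists_eq_succ_of_ne_zero hp.ne_zero
  have hm0 : m ≠ 0 := by rintro rfl; exact Nat.not_prime_one hp
  have hprod : ((m + 1 : ℕ) : ℂ) = ∏ k ∈ Finset.range m, (1 - ζ ^ (k + 1)) := by
    have := hζ.prod_one_sub_pow_eq_order
    simpa using this.symm
  have hfac : ∀ k ∈ Finset.range m, ∃ w : ℂ, IsIntegral ℤ w ∧ (1 - ζ) = (1 - ζ ^ (k + 1)) * w := by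
    intro k hk
    have hk' := Finset.mem_range.1 hk
    have hcop : Nat.Coprime (k + 1) (m + 1) := Nat.Coprime.symm ((hp.coprime_iff_not_dvd).2 fun hd => by
      have := Nat.le_of_dvd (Nat.succ_pos k) hd; omega)
    obtain ⟨r, hr⟩ := exists_pow_eq_self_of_coprime (x := ζ) (n := k + 1)
      (by rw [← hζ.eq_orderOf]; exact hcop)
    refine ⟨∑ i ∈ Finset.range r, (ζ ^ (k + 1)) ^ i, IsIntegral.sum _ fun i _ => (hint.pow _).pow _, ?_⟩
    rw [mul_comm, geom_sum_mul_neg, hr]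
  choose! w hw hweq using hfac
  have hpow : (1 - ζ) ^ m = ((m + 1 : ℕ) : ℂ) * ∏ k ∈ Finset.range m, w k := by
    rw [hprod, ← Finset.prod_mul_distrib]
    conv_lhs => rw [← Finset.card_range m, ← Finset.prod_const]
    exact Finset.prod_congr rfl hweq
  have hW : IsIntegral ℤ ((∏ k ∈ Finset.range m, w k) * ω ^ m) :=
    (IsIntegral.prod _ hw).mul (hω.pow m)
  have hn : ((n : ℂ)) ^ m = ((m + 1 : ℕ) : ℂ) * ((∏ k ∈ Finset.range m, w k) * ω ^ m) := by
    rw [h, mul_pow, hpow, mul_assoc]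
  set W := (∏ k ∈ Finset.range m, w k) * ω ^ m
  have hq : W = algebraMap ℚ ℂ ((n ^ m : ℤ) / ((m + 1 : ℕ) : ℚ)) := by
    rw [map_div₀]
    have h0 : algebraMap ℚ ℂ ((m + 1 : ℕ) : ℚ) ≠ 0 := by simp; exact_mod_cast Nat.succ_ne_zero m
    rw [eq_div_iff h0]
    simp only [Int.cast_pow, map_pow, map_intCast, map_natCast]
    rw [hn, mul_comm]
  rw [hq, isIntegral_algebraMap_iff (algebraMap ℚ ℂ).injective] at hW
  obtain ⟨z, hz⟩ := IsIntegrallyClosed.isIntegral_iff.1 hW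
  have hz' : (n ^ m : ℤ) = ((m + 1 : ℕ) : ℤ) * z := by
    have h0 : ((m + 1 : ℕ) : ℚ) ≠ 0 := by exact_mod_cast Nat.succ_ne_zero m
    have h3 := hz
    rw [eq_div_iff h0] at h3
    simp only [eq_intCast] at h3
    have h4 : ((n ^ m : ℤ) : ℚ) = ((((m + 1 : ℕ) : ℤ) * z : ℤ) : ℚ) := by
      push_cast at h3 ⊢
      linarith
    exact_mod_cast h4
  exact Int.Prime.dvd_pow' hp ⟨z, hz'⟩

end Cfsg.Agent.S1495
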