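import Cfsg.Statements.S1486
import Cfsg.Agent.Lib.Characters.Normal
import Cfsg.Agent.OddChar.Induce

set_option autoImplicit false
open Cfsg

namespace Cfsg.Agent.S1486

/-- Let H be a normal subgroup of the finite group G and θ, φ irreducible characters of H. If φ is a G-conjugate of θ then the functions induced from θ and φ coincide; if φ is not a G-conjugate of θ then the induced functions are orthogonal. -/
theorem result {G : Type*} [Group G] [Fintype G] (H : Subgroup G) [hN : H.Normal] (θ φ : H → ℂ) (hθ : Cfsg.IsIrrCharacter H θ) (hφ : Cfsg.IsIrrCharacter H φ) : ((∃ g : G, φ = fun h : H => θ ⟨g * h * g⁻¹, hN.conj_mem h h.2 g⟩) → Cfsg.indFun H φ = Cfsg.indFun H θ) ∧ ((¬ ∃ g : G, φ = fun h : H => θ ⟨g * h * g⁻¹, hN.conj_mem h h.2 g⟩) → Cfsg.classInner (Cfsg.indFun H φ) (Cfsg.indFun H θ) = 0) := by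
  refine ⟨?_, fun hne => ?_⟩
  · rintro ⟨g, rfl⟩
    have hg := OddChar.Induce.conj_mem_of_normal H g⁻¹
    refine Eq.trans ?_ (OddChar.Induce.indFun_conjHom H θ g⁻¹ hg)
    congr 1
    funext h
    exact congrArg θ (Subtype.ext (by simp))
  · classical
    rw [Characters.frobenius_reciprocity H φ (Characters.indFun_isClassFunction H θ),
      Characters.indFun_restrict_normal, Characters.classInner_smul_right,
      Characters.classInner_sum_right, Finset.sum_eq_zero, mul_zero]
    exact fun x _ => Characters.classInner_isIrr_ne hφ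
      (Characters.isIrrCharacter_conjFun H hθ _) fun h => hne ⟨x⁻¹, h⟩

end Cfsg.Agent.S1486
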