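import Cfsg.Statements.S1448
import Cfsg.Agent.OddLocal.RankTwoAction
import Cfsg.Agent.OddLocal.Metacyclic
import Cfsg.Agent.Lib.Coprime.Commutator
-- import your own Cfsg.Agent.* helpers here

set_option autoImplicit false
open Cfsg
open scoped commutatorElement

namespace Cfsg.Agent.S1448

/-- Let G be a finite group, p an odd prime, R a nontrivial p-subgroup with no elementary abelian subgroup of order p ^ 3, and A a subgroup of odd order coprime to p normalizing R with [R, A] = R. Then 3 < p, and either R is abelian or R is generated by two elementwise-commuting subgroups R₁, R₂ with R₁ non-abelian of order p ^ 3 and exponent p, R₂ cyclic, and the elements of R₂ of order dividing p generating exactly [R₁, R₁]. -/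
theorem result {G : Type*} [Group G] [Finite G] (p : ℕ) [Fact p.Prime] (hp : p ≠ 2) (R A : Subgroup G) (hR : IsPGroup p R) (hR1 : R ≠ ⊥) (hr : Cfsg.PRankLE p 2 R)
    (hA : (A ≤ Subgroup.normalizer (R : Set G))) (hcop : (Nat.card A).Coprime p) (hAodd : Odd (Nat.card A)) (hRA : ⁅R, A⁆ = R) :
    3 < p ∧ (IsMulCommutative R ∨ ∃ R₁ R₂ : Subgroup G, R₁ ⊔ R₂ = R ∧ (∀ a ∈ R₁, ∀ b ∈ R₂, a * b = b * a) ∧
        ¬ IsMulCommutative R₁ ∧ Nat.card R₁ = p ^ 3 ∧ Monoid.exponent R₁ = p ∧ IsCyclic R₂ ∧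
        Subgroup.closure {x : G | x ∈ R₂ ∧ x ^ p = 1} = ⁅R₁, R₁⁆) := by
  open Subgroup in
  have hprime : p.Prime := Fact.out
  let φ : A →* MulAut R := R.normalizerMonoidHom.comp (inclusion hA)
  have hrY : Cfsg.PRankLE p 2 R := hr
  have hgen : closure {y : R | ∃ a x, y = φ a x * x⁻¹} = ⊤ := by
    refine top_le_iff.mp ?_
    have key : R ≤ (closure {y : R | ∃ a x, y = φ a x * x⁻¹}).map R.subtype := by
      conv_lhs => rw [← hRA]
      rw [commutator_le]
      intro x hx a ha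
      refine ⟨(φ ⟨a, ha⟩ ⟨x, hx⟩ * ⟨x, hx⟩⁻¹)⁻¹, inv_mem (subset_closure ⟨_, _, rfl⟩), ?_⟩
      show ((a * x * a⁻¹) * x⁻¹)⁻¹ = x * a * x⁻¹ * a⁻¹
      group
    intro y _
    obtain ⟨z, hz, hzy⟩ := key y.2
    exact (Subtype.ext hzy : z = y) ▸ hz
  have h3 : 3 < p := by
    by_contra h
    have hp3 : p = 3 := by have := hprime.two_le; omega
    have hone : ∀ a, φ a = 1 := by
      have hcard : Nat.card φ.range = 1 := by
        by_contra hne
        obtain ⟨q, hq, hqd⟩ := Nat.exists_prime_and_dvd hne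
        have hqA : q ∣ Nat.card A := hqd.trans (card_range_dvd φ)
        have hqp : q ≠ p := fun e => by
          subst e
          exact hprime.ne_one (Nat.dvd_one.mp (hcop ▸ Nat.dvd_gcd hqA dvd_rfl))
        have hq2 : ¬ 2 ∣ q := fun h2 =>
          (Nat.not_even_iff_odd.mpr hAodd) (even_iff_two_dvd.mpr (h2.trans hqA))
        rcases (OddLocal.AutRankTwo.aut_rankTwo hp hR hrY hAodd φ).2 q hq hqd hqp with h1 | h1
        · rw [hp3] at h1
          exact hq2 ((Nat.prime_dvd_prime_iff_eq hq Nat.prime_two).mp h1).symm.dvd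
        · rw [hp3, show (3 : ℕ) + 1 = 2 ^ 2 from rfl] at h1
          exact hq2 ((Nat.prime_dvd_prime_iff_eq hq Nat.prime_two).mp (hq.dvd_of_dvd_pow h1)).symm.dvd
      intro a
      exact mem_bot.mp (eq_bot_of_card_eq _ hcard ▸ (⟨a, rfl⟩ : φ a ∈ φ.range))
    apply hR1
    have hbot : (⊤ : Subgroup R) = ⊥ := by
      rw [← hgen, closure_eq_bot_iff]
      rintro _ ⟨a, x, rfl⟩
      rw [hone a, MulAut.one_apply, mul_inv_cancel]
      exact Set.mem_singleton 1
    rw [eq_bot_iff]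
    intro x hx
    have h : (⟨x, hx⟩ : R) ∈ (⊤ : Subgroup R) := mem_top _
    rw [hbot, mem_bot] at h
    exact mem_bot.mpr (congrArg Subtype.val h)
  refine ⟨h3, ?_⟩
  by_cases hsmall : Nat.card (closure {x : R | x ^ p = 1}) ≤ p ^ 2
  · exact Or.inl (OddLocal.MetacyclicAction.abelian_of_generates hp hR
      (OddLocal.Metacyclic.metacyclic h3 _ rfl hR hsmall) φ hcop hgen)
  obtain ⟨O, C, hsup, hcomm, hnab, hcard, hexp, hcyc, hΩ, -⟩ :=
    OddLocal.RankTwoAction.central_product h3 hR hrY (not_le.mp hsmall) φ hcop hAodd hgen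
  refine Or.inr ⟨O.map R.subtype, C.map R.subtype, ?_, ?_, ?_, ?_, ?_, ?_, ?_⟩
  · rw [← Subgroup.map_sup, hsup, ← MonoidHom.range_eq_map, range_subtype]
  · rintro _ ⟨u, hu, rfl⟩ _ ⟨v, hv, rfl⟩
    rw [← map_mul, hcomm u hu v hv, map_mul]
  · intro h
    refine hnab ⟨⟨fun u v => ?_⟩⟩
    exact Subtype.ext (R.subtype_injective (congrArg Subtype.val
      (h.is_comm.comm ⟨_, ⟨u, u.2, rfl⟩⟩ ⟨_, ⟨v, v.2, rfl⟩⟩)))
  · rw [card_map_of_injective R.subtype_injective, hcard]
  · rw [← Monoid.exponent_eq_of_mulEquiv (O.equivMapOfInjective _ R.subtype_injective)]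
    have : Nontrivial O := by
      refine Finite.one_lt_card_iff_nontrivial.mp ?_
      rw [hcard]
      exact Nat.one_lt_pow (by omega) hprime.one_lt
    refine (Monoid.exponent_eq_prime_iff hprime).mpr fun u hu => orderOf_eq_prime ?_ hu
    exact Subtype.ext (hexp u u.2)
  · exact isCyclic_of_surjective (C.equivMapOfInjective _ R.subtype_injective)
      (C.equivMapOfInjective _ R.subtype_injective).surjective
  · rw [← Subgroup.map_commutator, ← hΩ, MonoidHom.map_closure]
    congr 1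
    ext x
    constructor
    · rintro ⟨⟨v, hv, rfl⟩, hx⟩
      exact ⟨v, ⟨hv, Subtype.ext hx⟩, rfl⟩
    · rintro ⟨v, ⟨hv, hv1⟩, rfl⟩
      exact ⟨⟨v, hv, rfl⟩, by rw [← map_pow, hv1, map_one]⟩

end Cfsg.Agent.S1448
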