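import Cfsg.Statements.S1412
import Cfsg.Agent.S1411
import Cfsg.Agent.S1448
-- import your own Cfsg.Agent.* helpers here

set_option autoImplicit false
open Cfsg

namespace Cfsg.Agent.S1412

/-- Let G be a minimal simple group of odd order, p a prime and P a Sylow p-subgroup of G with no elementary abelian subgroup of order p ^ 3. Then either P is abelian, or P is generated by two elementwise-commuting subgroups P₁, P₂ with P₁ nonabelian of order p ^ 3 and exponent p, P₂ cyclic, and the elements of P₂ of order dividing p generating exactly the centre of P₁. -/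
theorem result {G : Type*} [Group G] [Finite G] (hG : Cfsg.IsMinSimpleOddOrder G) (p : ℕ) [Fact p.Prime] (P : Sylow p G) (hr : Cfsg.PRankLE p 2 (P : Subgroup G)) :
    IsMulCommutative (P : Subgroup G) ∨ ∃ P₁ P₂ : Subgroup G, P₁ ⊔ P₂ = (P : Subgroup G) ∧ (∀ a ∈ P₁, ∀ b ∈ P₂, a * b = b * a) ∧
        ¬ IsMulCommutative P₁ ∧ Nat.card P₁ = p ^ 3 ∧ Monoid.exponent P₁ = p ∧ IsCyclic P₂ ∧
        Subgroup.closure {x : G | x ∈ P₂ ∧ x ^ p = 1} = P₁ ⊓ Subgroup.centralizer (P₁ : Set G) := by
  classical
  have hp := (Fact.out : p.Prime)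
  rcases eq_or_ne (P : Subgroup G) ⊥ with h | hP
  · refine Or.inl ⟨⟨fun a b => Subtype.ext ?_⟩⟩
    have := a.2; have := b.2
    simp_all
  have hpG : p ∣ Nat.card G := by
    obtain ⟨k, hk⟩ := P.isPGroup'.exists_card_eq
    have hk0 : k ≠ 0 := fun e => hP (Subgroup.card_eq_one.mp (by rw [hk, e, pow_zero]))
    exact ((dvd_pow_self p hk0).trans (dvd_of_eq hk.symm)).trans (Subgroup.card_subgroup_dvd_card _)
  have hp2 : p ≠ 2 := fun e => by
    have := hG.1.of_dvd_nat (e ▸ hpG)
    exact absurd this (by decide)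
  -- a complement in the normalizer
  set N := Subgroup.normalizer ((P : Subgroup G) : Set G) with hN
  set S := P.subtype (Subgroup.le_normalizer : (P : Subgroup G) ≤ N) with hS
  have hSn : (S : Subgroup N).Normal := by rw [hS, Sylow.coe_subtype]; exact Subgroup.normal_in_normalizer
  obtain ⟨E, hE⟩ := Subgroup.exists_right_complement'_of_coprime (N := (S : Subgroup N)) S.card_coprime_index
  have hSmap : (S : Subgroup N).map N.subtype = P := by
    rw [hS, Sylow.coe_subtype, Subgroup.map_subgroupOf_eq_of_le Subgroup.le_normalizer]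
  set V := E.map N.subtype with hV
  have hcompl : Cfsg.IsComplIn (P : Subgroup G) V N := by
    refine ⟨Subgroup.le_normalizer, Subgroup.map_subtype_le _, ?_, fun m hm => ?_⟩
    · rw [← hSmap, hV, ← Subgroup.map_inf _ _ _ N.subtype_injective, disjoint_iff.mp hE.disjoint, Subgroup.map_bot]
    · obtain ⟨⟨a, b⟩, hab⟩ := hE.2 ⟨m, hm⟩
      exact ⟨(a : N), hSmap.le (Subgroup.mem_map_of_mem N.subtype a.2), (b : N),
        Subgroup.mem_map_of_mem N.subtype b.2, (congrArg Subtype.val hab).symm⟩
  have hcopV : (Nat.card V).Coprime p := by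
    rw [hV, Subgroup.card_map_of_injective N.subtype_injective, ← hE.symm.index_eq_card]
    exact (hp.coprime_iff_not_dvd.mpr S.not_dvd_index).symm
  have hPV := (Cfsg.Agent.S1411.result hG p P V hcompl).1
  rcases (Cfsg.Agent.S1448.result p hp2 (P : Subgroup G) V P.isPGroup' hP hr hcompl.2.1 hcopV
    (hG.1.of_dvd_nat (Subgroup.card_subgroup_dvd_card V)) hPV.symm).2 with h | ⟨P₁, P₂, h1, h2, h3, h4, h5, h6, h7⟩
  · exact Or.inl h
  refine Or.inr ⟨P₁, P₂, h1, h2, h3, h4, h5, h6, h7.trans ?_⟩
  -- the derived group of `P₁` is its centre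
  have hP₁p : IsPGroup p P₁ := IsPGroup.of_card h4
  have hZmap : (Subgroup.center P₁).map P₁.subtype = P₁ ⊓ Subgroup.centralizer (P₁ : Set G) :=
    le_antisymm (by
      rintro _ ⟨⟨g, hg⟩, hc, rfl⟩
      exact ⟨hg, Subgroup.mem_centralizer_iff.mpr fun u hu =>
        congrArg Subtype.val (Subgroup.mem_center_iff.mp hc ⟨u, hu⟩)⟩) fun g hg =>
      ⟨⟨g, hg.1⟩, Subgroup.mem_center_iff.mpr fun u =>
        Subtype.ext (Subgroup.mem_centralizer_iff.mp hg.2 u u.2), rfl⟩
  rw [← hZmap, ← Subgroup.map_subtype_commutator]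
  congr 1
  obtain ⟨k, hk0, hk⟩ := IsPGroup.card_center_eq_prime_pow (G := P₁) (p := p) h4 (by norm_num)
  have hidx := (Subgroup.center P₁).card_mul_index
  rw [hk, h4] at hidx
  obtain ⟨j, hj, hje⟩ := (Nat.dvd_prime_pow hp).mp (Dvd.intro_left _ hidx)
  rw [hje, ← pow_add] at hidx
  have hkj : k + j = 3 := Nat.pow_right_injective hp.two_le hidx
  have hj2 : 2 ≤ j := by
    by_contra hlt
    have : IsCyclic (P₁ ⧸ Subgroup.center P₁) := by
      interval_cases j
      · have : Subsingleton (P₁ ⧸ Subgroup.center P₁) :=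
          (Nat.card_eq_one_iff_unique.mp (by rw [← Subgroup.index_eq_card, hje, pow_zero])).1
        infer_instance
      · exact isCyclic_of_prime_card (p := p) (by rw [← Subgroup.index_eq_card, hje, pow_one])
    exact h3 ⟨⟨commutative_of_cyclic_center_quotient (QuotientGroup.mk' (Subgroup.center P₁))
      (QuotientGroup.ker_mk' _).le⟩⟩
  have hk1 : k = 1 := by omega
  have hj' : j = 2 := by omega
  have hle : commutator P₁ ≤ Subgroup.center P₁ := by
    have hcomm := IsPGroup.commutative_of_card_eq_prime_sq (G := P₁ ⧸ Subgroup.center P₁) (p := p)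
      (by rw [← Subgroup.index_eq_card, hje, hj'])
    rw [commutator_def, Subgroup.commutator_le]
    intro a _ b _
    rw [← QuotientGroup.ker_mk' (Subgroup.center P₁), MonoidHom.mem_ker, map_commutatorElement,
      commutatorElement_eq_one_iff_mul_comm]
    exact hcomm _ _
  rcases (Nat.dvd_prime hp).mp (show Nat.card (commutator P₁) ∣ p from
    (Subgroup.card_dvd_of_le hle).trans (dvd_of_eq (by rw [hk, hk1, pow_one]))) with hc | hc
  · exact absurd ((commutator_eq_bot_iff P₁).mp (Subgroup.card_eq_one.mp hc)) h3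
  · exact Subgroup.eq_of_le_of_card_ge hle (by rw [hc, hk, hk1, pow_one])

end Cfsg.Agent.S1412
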