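import Cfsg.Statements.S1518
import Cfsg.Agent.OddChar.Dade.Gen
import Cfsg.Agent.OddChar.Lattice

set_option autoImplicit false
open Cfsg

namespace Cfsg.Agent.S1518

/-- Under the Dade hypothesis for (A, L, H): if χ is an irreducible character of L vanishing at every non-identity element of L outside A, then the Dade image of χ − conj χ equals μ − conj μ for some irreducible character μ of G. -/
theorem result {G : Type*} [Group G] [Fintype G] (A : Set G) (L : Subgroup G) [Fintype L] (H : G → Subgroup G) (hD : Cfsg.DadeHypothesis A L H) (χ : L → ℂ) (hχ : Cfsg.IsIrrCharacter L χ) (hsupp : ∀ x : L, x ≠ 1 → (x : G) ∉ A → χ x = 0) : ∃ μ : G → ℂ, Cfsg.IsIrrCharacter G μ ∧ Cfsg.dadeIsometry A L H (χ - Cfsg.conjFun χ) = μ - Cfsg.conjFun μ := by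
  classical
  have hcl := Characters.char_isClassFunction (Characters.isCharacter_of_isIrr hχ)
  have hχ' : Cfsg.IsIrrCharacter L (Cfsg.conjFun χ) := Characters.isIrrCharacter_conj hχ
  set α := χ - Cfsg.conjFun χ with hαdef
  have hα : Cfsg.IsGeneralizedCharacter L α := Characters.isGen_sub
    (Characters.isGen_of_isCharacter (Characters.isCharacter_of_isIrr hχ))
    (Characters.isGen_of_isCharacter (Characters.isCharacter_of_isIrr hχ'))
  have hαA : ∀ x : L, (x : G) ∉ A → α x = 0 := by
    intro x hx
    by_cases h1 : x = 1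
    · subst h1
      obtain ⟨n, -, hn⟩ := Characters.irr_one_pos hχ
      simp [hαdef, Cfsg.conjFun, hn]
    · simp [hαdef, Cfsg.conjFun, hsupp x h1 hx]
  have hαcl := Characters.isGen_isClassFunction hα
  have hgen := OddChar.Dade.isGen hD hα hαA
  have hone : Cfsg.dadeIsometry A L H α 1 = 0 := by
    refine OddChar.Dade.apply_eq_zero fun a ha x u hu e => ?_
    rw [mul_one, mul_inv_cancel] at e
    obtain ⟨h1, -⟩ := OddChar.Dade.exists_pow hD ha ha |>.choose_spec u hu u hu
    rw [← e, one_pow] at h1
    exact hD.one_not_mem (h1 ▸ ha)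
  by_cases heq : Cfsg.conjFun χ = χ
  · refine ⟨fun _ => 1, Characters.isIrrCharacter_one, ?_⟩
    have h0 : α = 0 := by rw [hαdef, heq, sub_self]
    rw [h0]
    funext g
    simp [Cfsg.conjFun, Cfsg.dadeIsometry]
  have hnorm : Cfsg.classInner (Cfsg.dadeIsometry A L H α) (Cfsg.dadeIsometry A L H α) = 2 := by
    rw [OddChar.Dade.inner_eq hD hαcl hαA (OddChar.Dade.isClassFunction hD hαcl)
      (ψ := α) fun a ha => by
        rw [Finset.sum_congr rfl fun u hu => OddChar.Dade.apply_eq hD hαcl ha
          (Finset.mem_filter.1 hu).2 (x := 1) (g := (a : G) * u) (by simp), Finset.sum_const,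
          nsmul_eq_mul, ← mul_assoc, Nat.card_eq_fintype_card, Fintype.card_subtype,
          inv_mul_cancel₀ (Nat.cast_ne_zero.2 (Finset.card_ne_zero_of_mem
            (a := (1 : G)) (Finset.mem_filter.2 ⟨Finset.mem_univ _, (H a).one_mem⟩))), one_mul],
      hαdef]
    simp only [Characters.classInner_sub_left, Characters.classInner_sub_right,
      Characters.classInner_isIrr_self hχ, Characters.classInner_isIrr_self hχ',
      Characters.classInner_isIrr_ne hχ hχ' (Ne.symm heq),
      Characters.classInner_isIrr_ne hχ' hχ heq]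
    norm_num
  obtain ⟨a, b, hab, he⟩ := OddChar.Lattice.norm_two_deg_zero hgen hnorm hone
  refine ⟨a, a.2, ?_⟩
  suffices hb : (b : G → ℂ) = Cfsg.conjFun (a : G → ℂ) by rw [he, hb]
  have hanti : ∀ g : G, (starRingEnd ℂ) (Cfsg.dadeIsometry A L H α g) =
      -Cfsg.dadeIsometry A L H α g := by
    intro g
    unfold Cfsg.dadeIsometry
    split_ifs <;> simp [hαdef, Cfsg.conjFun]
  rw [he] at hanti
  have ha' : Cfsg.IsIrrCharacter G (Cfsg.conjFun (a : G → ℂ)) := Characters.isIrrCharacter_conj a.2
  have hb' : Cfsg.IsIrrCharacter G (Cfsg.conjFun (b : G → ℂ)) := Characters.isIrrCharacter_conj b.2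
  have hfun : Cfsg.conjFun (a : G → ℂ) - Cfsg.conjFun (b : G → ℂ) = (b : G → ℂ) - (a : G → ℂ) := by
    funext g
    have := hanti g
    simp only [Pi.sub_apply, map_sub, neg_sub] at this
    exact this
  by_contra hne
  have h := congrArg (fun f => Cfsg.classInner f (b : G → ℂ)) hfun
  simp only [Characters.classInner_sub_left, Characters.classInner_isIrr_ne ha' b.2 (Ne.symm hne),
    Characters.classInner_isIrr_self b.2,
    Characters.classInner_isIrr_ne a.2 b.2 (fun e => hab (Subtype.ext e))] at h
  by_cases hbb : Cfsg.conjFun (b : G → ℂ) = (b : G → ℂ)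
  · rw [hbb, Characters.classInner_isIrr_self b.2] at h; norm_num at h
  · rw [Characters.classInner_isIrr_ne hb' b.2 hbb] at h; norm_num at h

end Cfsg.Agent.S1518
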