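import Cfsg.Statements.S1536
import Cfsg.Agent.OddChar.Constituent
import Cfsg.Agent.S1496

set_option autoImplicit false
open Cfsg

namespace Cfsg.Agent.S1536

/-- Let H be a normal subgroup of the finite group M whose order is coprime to its index. For x ∈ M: some non-principal irreducible character of H is unchanged under h ↦ θ(x h x⁻¹) if and only if some non-identity element of H commutes with x. -/
theorem result {M : Type*} [Group M] [Finite M] (H : Subgroup M) [hN : H.Normal] (hHall : Nat.Coprime (Nat.card H) H.index) (x : M) : (∃ θ : H → ℂ, Cfsg.IsIrrCharacter H θ ∧ θ ≠ (fun _ => 1) ∧ (fun h : H => θ ⟨x * h * x⁻¹, hN.conj_mem h h.2 x⟩) = θ) ↔ ∃ h ∈ H, h ≠ 1 ∧ x * h = h * x := by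
  classical
  haveI := Fintype.ofFinite M
  haveI := Fintype.ofFinite H
  have hbr := OddChar.Constituent.exists_fixed_irr_iff (Characters.conjAut H x)
  constructor
  · intro hθ
    by_cases hxn : x ^ H.index = 1
    · obtain ⟨h, hh1, hconj⟩ := hbr.1 hθ
      obtain ⟨k, hk⟩ := isConj_iff.1 hconj
      have e : (k : M) * (x * h * x⁻¹) * (k : M)⁻¹ = h := congrArg Subtype.val hk
      have hcop : Nat.Coprime (orderOf x) (Nat.card H) :=
        (hHall.symm).coprime_dvd_left (orderOf_dvd_of_pow_eq_one hxn)
      obtain ⟨a, ha, c, hc, hcx, hac⟩ := Cfsg.Agent.S1496.result H x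
        (by rw [Subgroup.normalizer_eq_top_iff.2 hN]; trivial) hcop (k : M) k.2
      have hm : (c * x) ^ Nat.card H = x ^ Nat.card H := by
        rw [Commute.mul_pow hcx, show c ^ Nat.card H = 1 from
          congrArg Subtype.val (pow_card_eq_one' (x := (⟨c, hc⟩ : H))), one_mul]
      have hcom : Commute (a * (h : M) * a⁻¹) (c * x) := by
        rw [← hac]
        have h1 : Commute (h : M) ((k : M) * x) := by
          show (h : M) * ((k : M) * x) = (k : M) * x * h
          conv_lhs => rw [← e]
          group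
        exact (Commute.map h1 (MulAut.conj a).toMonoidHom :)
      refine ⟨a * h * a⁻¹, H.mul_mem (H.mul_mem ha h.2) (H.inv_mem ha), ?_, ?_⟩
      · simpa [conj_eq_one_iff] using fun e : (h : M) = 1 => hh1 (Subtype.ext e)
      · obtain ⟨m, hm'⟩ := exists_pow_eq_self_of_coprime (x := x) hcop.symm
        have := (hcom.pow_right (Nat.card H)).pow_right m
        rw [hm, hm'] at this
        exact this.eq.symm
    · exact ⟨x ^ H.index, H.pow_index_mem x, hxn, (Commute.self_pow x _).eq⟩
  · rintro ⟨h, hh, h1, hc⟩
    refine hbr.2 ⟨⟨h, hh⟩, fun e => h1 (congrArg Subtype.val e), ?_⟩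
    have : Characters.conjAut H x ⟨h, hh⟩ = ⟨h, hh⟩ := Subtype.ext (by
      show x * h * x⁻¹ = h
      rw [hc, mul_inv_cancel_right])
    rw [this]

end Cfsg.Agent.S1536
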