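import Cfsg.Statements.S1361
import Cfsg.Agent.OddLocal.PTypeHull
-- import your own Cfsg.Agent.* helpers here

set_option autoImplicit false
open Cfsg

namespace Cfsg.Agent.S1361

/-- Let G be a minimal simple group of odd order and M a maximal subgroup with standard factorisation M = K U M_σ. If X is a nontrivial subgroup of U centralizing some non-identity element of M_σ, then C_G(X) ≤ M and M is the unique maximal subgroup of G containing C_G(X). -/
theorem result {G : Type*} [Group G] [Finite G] (hG : Cfsg.IsMinSimpleOddOrder G)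
    (M : Subgroup G) (hM : IsCoatom M) (K U : Subgroup G) (hKU : Cfsg.IsSigmaDecomposition M K U) (X : Subgroup G) (hXU : X ≤ U) (hX : X ≠ ⊥)
    (hXc : Cfsg.sigmaCore M ⊓ Subgroup.centralizer (X : Set G) ≠ ⊥) :
    Subgroup.centralizer (X : Set G) ≤ M ∧ ∀ L : Subgroup G, IsCoatom L → Subgroup.centralizer (X : Set G) ≤ L → L = M := by
  obtain ⟨x, hx⟩ := (Subgroup.isCyclic_iff_exists_zpowers_eq_top X).mp
    (OddLocal.PType.isCyclic_of_fixed hG hM hKU hXU hXc)
  subst hx
  rw [OddLocal.TauTwo.centralizer_zpowers] at hXc ⊢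
  obtain ⟨y, hy, hy1⟩ := (Subgroup.bot_or_exists_ne_one _).resolve_left hXc
  obtain ⟨hyσ, hyc⟩ := Subgroup.mem_inf.mp hy
  obtain ⟨-, h⟩ := OddLocal.PType.of_fixed hG hM hKU (hXU (Subgroup.mem_zpowers x))
    (fun e => hX (Subgroup.zpowers_eq_bot.mpr e)) hyσ hy1
    (Subgroup.mem_centralizer_singleton_iff.mp hyc).symm
  exact h

end Cfsg.Agent.S1361
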