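import Cfsg.Statements.S1390
import Cfsg.Agent.OddLocal.TypeOneTwo
-- import your own Cfsg.Agent.* helpers here

set_option autoImplicit false
open Cfsg

namespace Cfsg.Agent.S1390

/-- Let G be a minimal simple group of odd order, M a maximal subgroup and H = M_F; suppose M is of Type I and U is a complement to H in M, or M is of Type II and U is a complement to H in M'. Then every Sylow subgroup of U is abelian with no elementary abelian subgroup of order p ^ 3; for every nonempty set X of non-identity elements of U centralizing a non-identity element of H, C_G(X) ≤ M and M is the unique maximal subgroup containing C_G(X); and A(M) with A₁(M) removed is a TI-subset of G. -/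
theorem result {G : Type*} [Group G] [Finite G] (hG : Cfsg.IsMinSimpleOddOrder G)
    (M : Subgroup G) (hM : IsCoatom M) (U : Subgroup G)
    (hU : (Cfsg.IsOfTypeI M ∧ Cfsg.IsComplIn (Cfsg.fittingHallOf M) U M) ∨ (Cfsg.IsOfTypeII M ∧ Cfsg.IsComplIn (Cfsg.fittingHallOf M) U ⁅M, M⁆)) :
    (∀ (p : ℕ), p.Prime → ∀ P : Sylow p U, IsMulCommutative (P : Subgroup U) ∧ Cfsg.PRankLE p 2 (P : Subgroup U)) ∧
      (∀ X : Set G, X ⊆ (U : Set G) \ {1} → X.Nonempty → Cfsg.fittingHallOf M ⊓ Subgroup.centralizer X ≠ ⊥ →
        Subgroup.centralizer X ≤ M ∧ ∀ L : Subgroup G, IsCoatom L → Subgroup.centralizer X ≤ L → L = M) ∧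
      Cfsg.IsTISubset (Cfsg.typeA M \ Cfsg.typeA1 M) := by
  obtain ⟨K, hKU, hσ, hcase⟩ := OddLocal.Types.decomp_of_compl hG hM hU
  refine ⟨fun p hp P => ?_, fun X hX hXne hXc => ?_, ?_⟩
  · have := Fact.mk hp
    rcases eq_or_ne (P : Subgroup U) ⊥ with hP | hP
    · rw [hP]
      exact ⟨⟨⟨fun a b => by
        obtain rfl : a = 1 := Subtype.ext (Subgroup.mem_bot.mp a.2)
        rw [one_mul, mul_one]⟩⟩, fun A _ _ => by
        rw [Subgroup.eq_bot_of_card_le A ((Subgroup.card_le_card_group A).trans (by rw [Subgroup.card_bot])),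
          Subgroup.card_bot]
        exact Nat.one_le_pow _ _ hp.pos⟩
    set Q := (P : Subgroup U).map U.subtype
    have hQM : Q ≤ M := (Subgroup.map_subtype_le _).trans hKU.compl.1
    have hd : p ∣ Nat.card U :=
      (OddLocal.PrimeAction.dvd_card_of_ne_bot P.isPGroup' hP).trans (Subgroup.card_subgroup_dvd_card _)
    have hpσ := OddLocal.KappaDecomp.not_sigma_of_dvd hG hM hKU hp hd
    have hc := OddLocal.SigmaCompl.pgroup_comm hG hM hpσ (P.isPGroup'.map U.subtype) hQM
    refine ⟨⟨⟨fun a b => Subtype.ext (Subtype.ext (congrArg Subtype.val (hc.is_comm.comm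
      ⟨_, Subgroup.mem_map_of_mem U.subtype a.2⟩ ⟨_, Subgroup.mem_map_of_mem U.subtype b.2⟩) :))⟩⟩,
      fun A hA hAe => ?_⟩
    have hr := OddLocal.SigmaCompl.rank_le hG hM hp hpσ
    set B := (A.map (P : Subgroup U).subtype).map U.subtype with hB
    have hBM : B ≤ M := (Subgroup.map_mono (Subgroup.map_subtype_le _)).trans hQM
    have hBe : IsElementaryAbelian p B :=
      PLocal.ThompsonSubgroup.IsElementaryAbelian.map
        (PLocal.ThompsonSubgroup.IsElementaryAbelian.map (⟨hA, hAe⟩ : IsElementaryAbelian p A) _) _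
    have h2 := hr (B.subgroupOf M)
      ⟨⟨fun a b => Subtype.ext (Subtype.ext (Components.Hyperplane.mem_comm hBe a.2 b.2))⟩⟩
      fun a ha => Subtype.ext (by rw [SubgroupClass.coe_pow]; exact hBe.2 _ ha)
    rwa [Nat.card_congr (Subgroup.subgroupOfEquivOfLe hBM).toEquiv, hB,
      Subgroup.card_map_of_injective U.subtype_injective,
      Subgroup.card_map_of_injective (P : Subgroup U).subtype_injective] at h2
  · have h := S1361.result hG M hM K U hKU (Subgroup.closure X)
      ((Subgroup.closure_le _).mpr fun a ha => (hX ha).1) (fun e => ?_) ?_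
    · rwa [Subgroup.centralizer_closure] at h
    · obtain ⟨a, ha⟩ := hXne
      exact (hX ha).2 (Subgroup.mem_bot.mp (e ▸ Subgroup.subset_closure ha))
    · rwa [Subgroup.centralizer_closure, ← hσ]
  · rw [OddLocal.Types.typeA_diff_eq hG hM hKU hσ hcase]
    exact S1362.result hG M hM K U hKU

end Cfsg.Agent.S1390
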