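import Cfsg.Statements.S1440
import Cfsg.Agent.OddChar.TypeOne.Gap.TypeI
-- import your own Cfsg.Agent.* helpers here

set_option autoImplicit false
open Cfsg

namespace Cfsg.Agent.S1440

/-- Let G be a minimal simple group of odd order, M a maximal subgroup with standard factorisation M = K U M_σ, H = M_F, and g ∉ M such that X = F(M) ∩ gF(M)g⁻¹ is nontrivial. Then X ≤ H and X is cyclic; M' = F(M), which is generated by M_σ and O_{σ(M)'}(F(M)); and one of: (1) K = 1 and H is abelian of rank exactly 2; (2) p = #X is a prime in σ(M) but not in β(M), O_p(H) is nonabelian, O_{p'}(H) is cyclic, and the exponent of M/H divides q − 1 for every prime q dividing #H; (3) p = #X is a prime in σ(M) but not β(M), O_{p'}(H) is cyclic, O_p(H) is nonabelian of order p ^ 3, K ≠ 1, U = 1, and the index of H in M divides p + 1. -/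
theorem result {G : Type*} [Group G] [Finite G] (hG : Cfsg.IsMinSimpleOddOrder G)
    (M : Subgroup G) (hM : IsCoatom M) (K U : Subgroup G) (hKU : Cfsg.IsSigmaDecomposition M K U) (g : G) (hg : g ∉ M) (hX : Cfsg.fittingOf M ⊓ (Cfsg.fittingOf M).map (MulAut.conj g).toMonoidHom ≠ ⊥) :
    (Cfsg.fittingOf M ⊓ (Cfsg.fittingOf M).map (MulAut.conj g).toMonoidHom ≤ Cfsg.fittingHallOf M ∧ IsCyclic ↥(Cfsg.fittingOf M ⊓ (Cfsg.fittingOf M).map (MulAut.conj g).toMonoidHom)) ∧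
      (⁅M, M⁆ = Cfsg.fittingOf M ∧ Cfsg.fittingOf M = Cfsg.sigmaCore M ⊔ Cfsg.piCoreOf {q | q.Prime ∧ q ∉ Cfsg.sigma M} (Cfsg.fittingOf M)) ∧
      ((K = ⊥ ∧ IsMulCommutative (Cfsg.fittingHallOf M) ∧ Cfsg.RankLE 2 (Cfsg.fittingHallOf M) ∧ ¬ Cfsg.RankLE 1 (Cfsg.fittingHallOf M)) ∨
       (∃ p : ℕ, p.Prime ∧ Nat.card ↥(Cfsg.fittingOf M ⊓ (Cfsg.fittingOf M).map (MulAut.conj g).toMonoidHom) = p ∧ p ∈ Cfsg.sigma M ∧ p ∉ Cfsg.beta M ∧
          ¬ IsMulCommutative (Cfsg.pCore p ↥(Cfsg.fittingHallOf M)) ∧ IsCyclic (Cfsg.pPrimeCore p ↥(Cfsg.fittingHallOf M)) ∧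
          ∀ q : ℕ, q.Prime → q ∣ Nat.card (Cfsg.fittingHallOf M) → Monoid.exponent (↥M ⧸ Cfsg.fittingHall ↥M) ∣ q - 1) ∨
       (∃ p : ℕ, p.Prime ∧ Nat.card ↥(Cfsg.fittingOf M ⊓ (Cfsg.fittingOf M).map (MulAut.conj g).toMonoidHom) = p ∧ p ∈ Cfsg.sigma M ∧ p ∉ Cfsg.beta M ∧
          IsCyclic (Cfsg.pPrimeCore p ↥(Cfsg.fittingHallOf M)) ∧ Nat.card (Cfsg.pCore p ↥(Cfsg.fittingHallOf M)) = p ^ 3 ∧
          ¬ IsMulCommutative (Cfsg.pCore p ↥(Cfsg.fittingHallOf M)) ∧ K ≠ ⊥ ∧ U = ⊥ ∧ (Cfsg.fittingHallOf M).relIndex M ∣ p + 1)) := by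
  classical
  open Subgroup Cfsg.Agent.OddLocal Cfsg.Agent.OddChar.TypeOne in
  have hnF : normalizer (fittingOf M : Set G) = M := by
    refine (hM.le_iff.mp (FittingTI.le_normalizer_fittingOf M)).resolve_left ?_
    refine Transitivity.normalizer_ne_top hG (fun e => hX ?_) fun e => hM.1 (top_le_iff.mp (e ▸ ?_))
    · rw [e, bot_inf_eq]
    · exact map_subtype_le _
  obtain ⟨x, hx, hxσ, hxp, hxM⟩ : ∃ x ∈ Cfsg.fittingOf M, x ∈ Cfsg.sigmaCore M ∧ (orderOf x).Prime ∧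
      ¬ Subgroup.centralizer ({x} : Set G) ≤ M := by
    by_contra hcon
    push Not at hcon
    have hTI := Cfsg.Agent.OddLocal.FittingTI.isTI hG hM hKU hcon
    refine hX (Subgroup.eq_bot_iff_forall _ |>.mpr fun y hy => ?_)
    obtain ⟨hy1, a, ha, e⟩ := Subgroup.mem_inf.mp hy
    have hgn : g ∉ Subgroup.normalizer (Cfsg.fittingOf M : Set G) := by rwa [hnF]
    have e' : g * a * g⁻¹ = y := e
    rw [← e', hTI g hgn a ha (show g * a * g⁻¹ ∈ _ by rw [e']; exact hy1), mul_one, mul_inv_cancel]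
  have hx1 : x ≠ 1 := fun e => hxp.ne_one (by rw [e, orderOf_one])
  have hκ := Cfsg.Agent.OddChar.TypeOne.Gap.kappa_empty_of_not_le hG hM hxσ hx1 hxM
  have hcore := Cfsg.Agent.OddChar.TypeOne.Gap.core_eq_fittingHallOf hG hM hκ
  have hFσ := Cfsg.Agent.OddChar.TypeOne.Gap.fittingOf_eq_core hG hM hκ
  have hnil := Cfsg.Agent.OddChar.TypeOne.Gap.nilpotent_core hG hM hκ
  have hK : K = ⊥ := Subgroup.card_eq_one.mp (Nat.eq_one_iff_not_exists_prime_dvd.mpr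
    fun r hr hd => Set.notMem_empty r (hκ ▸ hKU.hall.2.1 r hr hd))
  rw [hFσ] at hX ⊢
  rw [← hcore]
  set X := Cfsg.sigmaCore M ⊓ (Cfsg.sigmaCore M).map (MulAut.conj g).toMonoidHom with hXdef
  have hXσ : X ≤ Cfsg.sigmaCore M := inf_le_left
  have hcyc := Cfsg.Agent.OddChar.TypeOne.Gap.isCyclic_inter hG hM hnil hg (X := X) hXσ inf_le_right
  have hnle : ∀ y ∈ X, ¬ Subgroup.centralizer ({y} : Set G) ≤ M := fun y hy hC => by
    obtain ⟨hy1, a, ha, e⟩ := Subgroup.mem_inf.mp hy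
    refine hg (inv_mem_iff.mp (Cfsg.Agent.OddChar.TypeOne.Gap.mem_of_centralizer_le hG hM hy1 (g := g⁻¹) ?_ hC))
    rw [← e]
    simpa [mul_assoc] using ha
  refine ⟨⟨hXσ, hcyc⟩, ⟨Cfsg.Agent.OddChar.TypeOne.Gap.commutator_eq_core hG hM hxσ hx1 hxM, ?_⟩, ?_⟩
  · exact le_antisymm le_sup_left (sup_le le_rfl (Subgroup.map_subtype_le _))
  obtain ⟨p₀, hp₀, hd₀⟩ := Nat.exists_prime_and_dvd (fun e : Nat.card X = 1 => hX (Subgroup.card_eq_one.mp e))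
  haveI := Fact.mk hp₀
  obtain ⟨y₀, hy₀⟩ := exists_prime_orderOf_dvd_card' p₀ hd₀
  rw [← Subgroup.orderOf_coe] at hy₀
  obtain ⟨N, P, c⟩ := Cfsg.Agent.OddLocal.NonTI.exists_nbr hG hM hnil (hXσ y₀.2) (hy₀ ▸ hp₀)
    (hnle _ y₀.2)
  by_cases hab : IsMulCommutative (Cfsg.sigmaCore M)
  · exact Or.inl ⟨hK, hab, Cfsg.Agent.OddChar.TypeOne.Gap.rank_two hG c hab⟩
  refine Or.inr (Or.inl ⟨orderOf (y₀ : G), c.hp, ?_, c.p_sigma,
    Cfsg.Agent.OddChar.TypeOne.Gap.not_beta c, Cfsg.Agent.OddChar.TypeOne.Gap.pCore_nonabelian c hab,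
    Cfsg.Agent.OddChar.TypeOne.Gap.cyclic_pPrimeCore c hab, fun q hq hd =>
      (Cfsg.Agent.OddChar.TypeOne.Gap.exponent_dvd hG hM hκ).trans
        (Cfsg.Agent.OddChar.TypeOne.Gap.dvd_pred hκ c hab hq hd)⟩)
  obtain ⟨w, hw⟩ := hcyc.exists_ofOrder_eq_natCard
  rw [← hw, ← Subgroup.orderOf_coe, hy₀]
  set n := orderOf (w : G) with hn
  have hsame : ∀ r : ℕ, r.Prime → r ∣ n → r = p₀ := fun r hr hrd => by
    have ho : orderOf ((w : G) ^ (n / r)) = r := orderOf_pow_orderOf_div (orderOf_pos _).ne' hrd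
    obtain ⟨N', P', c'⟩ := Cfsg.Agent.OddLocal.NonTI.exists_nbr hG hM hnil (pow_mem (hXσ w.2) (n / r))
      (ho.symm ▸ hr) (hnle _ (pow_mem w.2 _))
    rw [← ho, Cfsg.Agent.OddChar.TypeOne.Gap.same_prime c hab c', hy₀]
  have hn1 : n ≠ 1 := fun e => hX (Subgroup.card_eq_one.mp (by rw [← hw, ← Subgroup.orderOf_coe]; exact e))
  have hpn : p₀ ∣ n := by
    obtain ⟨r, hr, hrd⟩ := Nat.exists_prime_and_dvd hn1
    exact hsame r hr hrd ▸ hrd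
  by_contra hne
  obtain ⟨k, hk⟩ := hpn
  have hk1 : k ≠ 1 := fun e => hne (by rw [hk, e, mul_one])
  have hpk : p₀ ∣ k := by
    obtain ⟨r, hr, hrd⟩ := Nat.exists_prime_and_dvd hk1
    exact hsame r hr (hk ▸ hrd.mul_left p₀) ▸ hrd
  obtain ⟨j, hj⟩ := hpk
  have ho : orderOf ((w : G) ^ k) = p₀ := by
    have h1 := orderOf_pow_orderOf_div (orderOf_pos (w : G)).ne' (n := p₀) ⟨k, hk⟩
    rwa [← hn, hk, Nat.mul_div_cancel_left _ hp₀.pos] at h1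
  obtain ⟨N', P', c'⟩ := Cfsg.Agent.OddLocal.NonTI.exists_nbr hG hM hnil (pow_mem (hXσ w.2) k)
    (ho.symm ▸ hp₀) (hnle _ (pow_mem w.2 _))
  refine Cfsg.Agent.OddChar.TypeOne.Gap.no_root c' hab (pow_mem (hXσ w.2) j) ?_
  rw [ho, ← pow_mul, hj, mul_comm]

end Cfsg.Agent.S1440
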