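import Cfsg.Statements.S0194
import Cfsg.Agent.Lib.Characters.Normal
import Cfsg.Agent.S0161
-- import your own Cfsg.Agent.* helpers here

set_option autoImplicit false
open scoped ComplexConjugate
open Cfsg

namespace Cfsg.Agent.S0194

/-- Let G have odd order, H be a normal subgroup and θ a non-principal irreducible character of H. Then the function induced from θ is orthogonal to its complex conjugate. -/
theorem result {G : Type*} [Group G] [Fintype G] (hodd : Odd (Nat.card G)) (H : Subgroup G) [H.Normal] (θ : H → ℂ) (hθ : Cfsg.IsIrrCharacter H θ) (hθ1 : θ ≠ fun _ => 1) : Cfsg.classInner (fun g => conj (Cfsg.indFun H θ g)) (Cfsg.indFun H θ) = 0 := by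
  classical
  haveI := Fintype.ofFinite H
  have hind : (fun g => starRingEnd ℂ (Cfsg.indFun H θ g)) =
      Cfsg.indFun H (fun x => starRingEnd ℂ (θ x)) := by
    funext g
    simp only [Cfsg.indFun, map_mul, map_inv₀, Complex.conj_natCast, map_sum]
    congr 1
    refine Finset.sum_congr rfl fun x _ => ?_
    by_cases hx : x⁻¹ * g * x ∈ H
    · simp [CharTheory.IndBasic.extendByZero_of_mem H _ hx]
    · simp [CharTheory.IndBasic.extendByZero_of_notMem H _ hx]
  rw [hind, Characters.frobenius_reciprocity H _ (Characters.indFun_isClassFunction H θ),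
    Characters.indFun_restrict_normal, Characters.classInner_smul_right,
    Characters.classInner_sum_right, Finset.sum_eq_zero, mul_zero]
  intro x _
  refine Characters.classInner_isIrr_ne (Characters.isIrrCharacter_conj hθ)
    (Characters.isIrrCharacter_conjFun H hθ _) fun heq => hθ1 ?_
  set y := x⁻¹
  set b : H → ℂ := fun n => starRingEnd ℂ (θ n) with hb
  have hy2 : Characters.conjFun H θ (y * y) = θ := by
    rw [Characters.conjFun_mul, ← heq]
    funext n
    show starRingEnd ℂ (θ ⟨y * n * y⁻¹, _⟩) = θ n
    have h2 : starRingEnd ℂ (θ n) = θ ⟨y * n * y⁻¹, _⟩ := congrFun heq n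
    rw [← h2, Complex.conj_conj]
  have hpow : ∀ k : ℕ, Characters.conjFun H θ ((y * y) ^ k) = θ := by
    intro k
    induction k with
    | zero => funext n; simp [Characters.conjFun]
    | succ k ih => rw [pow_succ, Characters.conjFun_mul, ih, hy2]
  obtain ⟨k, hk⟩ := hodd
  have hy : Characters.conjFun H θ y = θ := by
    have h := hpow (k + 1)
    have e : (y * y) ^ (k + 1) = y := by
      rw [← sq, ← pow_mul, show 2 * (k + 1) = Nat.card G + 1 by omega, pow_succ, pow_card_eq_one',
        one_mul]
    rwa [e] at h
  have hreal : ∀ n : H, (θ n).im = 0 := fun n => Complex.conj_eq_iff_im.1 (congrFun (heq.trans hy) n)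
  exact Cfsg.Agent.S0161.result (Odd.of_dvd_nat ⟨k, hk⟩ H.card_subgroup_dvd_card) ⟨θ, hθ⟩ hreal

end Cfsg.Agent.S0194
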