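import Cfsg.Statements.S1546
import Mathlib

set_option autoImplicit false
open Cfsg

namespace Cfsg.Agent.S1546

/-- Let p and q be odd primes and N = (p ^ q − 1) / (p − 1) = 1 + p + ⋯ + p^(q−1). Then N is odd; if p ≡ 1 (mod q) then q ∣ N; and if p is not ≡ 1 (mod q) then N is coprime to p − 1 and every divisor of N is ≡ 1 (mod q). -/
theorem result (p q : ℕ) (hp : p.Prime) (hq : q.Prime) (hp2 : p ≠ 2) (hq2 : q ≠ 2) : Odd ((p ^ q - 1) / (p - 1)) ∧ (p % q = 1 → q ∣ (p ^ q - 1) / (p - 1)) ∧ (p % q ≠ 1 → Nat.Coprime ((p ^ q - 1) / (p - 1)) (p - 1) ∧ ∀ x : ℕ, x ∣ (p ^ q - 1) / (p - 1) → x % q = 1) := by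
  have hq1 := hq.one_lt
  have hN : (p ^ q - 1) / (p - 1) = ∑ k ∈ Finset.range q, p ^ k := (Nat.geomSum_eq hp.two_le q).symm
  set N := ∑ k ∈ Finset.range q, p ^ k with hNdef
  rw [hN]
  have hmodp : ∀ d, p % d = 1 % d → N % d = q % d := by
    intro d hd
    rw [hNdef, Finset.sum_nat_mod]
    rw [Finset.sum_congr rfl (fun k _ => by rw [Nat.pow_mod, hd, ← Nat.pow_mod, one_pow] : ∀ k ∈ Finset.range q, p ^ k % d = 1 % d)]
    rw [Finset.sum_const, Finset.card_range, smul_eq_mul]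
    rw [Nat.mul_mod_mod, mul_one]
  have hgeom : N * (p - 1) + 1 = p ^ q := geom_sum_mul_of_one_le hp.one_lt.le q ▸ by
    have : 1 ≤ p ^ q := Nat.one_le_pow _ _ hp.pos
    omega
  refine ⟨?_, ?_, ?_⟩
  · rw [Nat.odd_iff]
    have hp' : p % 2 = 1 := Nat.odd_iff.1 (hp.odd_of_ne_two hp2)
    rw [hmodp 2 (by omega)]
    exact Nat.odd_iff.1 (hq.odd_of_ne_two hq2)
  · intro h
    refine Nat.dvd_of_mod_eq_zero ?_
    rw [hmodp q (by rw [h, Nat.one_mod_eq_one.2 hq.ne_one]), Nat.mod_self]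
  · intro h
    have hcop : Nat.Coprime N (p - 1) := by
      refine Nat.coprime_of_dvd fun r hr hrN hrp => h ?_
      have hpr : p % r = 1 % r :=
        ((Nat.modEq_iff_dvd' hp.one_lt.le).2 hrp).symm
      have hrq : r ∣ q := by
        apply Nat.dvd_of_mod_eq_zero
        rw [← hmodp r hpr]
        exact Nat.mod_eq_zero_of_dvd hrN
      rw [(Nat.prime_dvd_prime_iff_eq hr hq).1 hrq] at hpr
      rw [hpr, Nat.one_mod_eq_one.2 hq.ne_one]
    refine ⟨hcop, fun x => ?_⟩
    induction x using Nat.recOnMul with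
    | zero =>
      intro hx
      have : N = 0 := Nat.eq_zero_of_zero_dvd hx
      rw [this, zero_mul, zero_add] at hgeom
      exact absurd hgeom.symm (Nat.one_lt_pow hq.ne_zero hp.one_lt).ne'
    | one => intro _; exact Nat.one_mod_eq_one.2 hq.ne_one
    | prime r hr =>
      intro hx
      haveI : Fact q.Prime := ⟨hq⟩
      haveI : Fact r.Prime := ⟨hr⟩
      have hdvd : r ∣ N * (p - 1) := hx.mul_right _
      have h1 : ((p : ZMod r)) ^ q = 1 := by
        rw [← Nat.cast_pow, ← hgeom, Nat.cast_add, Nat.cast_one,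
          (ZMod.natCast_eq_zero_iff _ _).2 hdvd, zero_add]
      have h2 : (p : ZMod r) ≠ 1 := by
        intro e
        have : ((p - 1 : ℕ) : ZMod r) = 0 := by rw [Nat.cast_sub hp.one_lt.le, e, Nat.cast_one, sub_self]
        exact hr.not_dvd_one (hcop ▸ Nat.dvd_gcd hx ((ZMod.natCast_eq_zero_iff _ _).1 this))
      have hord : orderOf (p : ZMod r) = q := orderOf_eq_prime h1 h2
      have hdiv : q ∣ r - 1 := hord ▸ ZMod.orderOf_dvd_card_sub_one (by
        intro e; rw [e, zero_pow hq.ne_zero] at h1; exact zero_ne_one h1)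
      have h3 := (Nat.modEq_iff_dvd' hr.one_lt.le).2 hdiv
      rw [Nat.ModEq, Nat.one_mod_eq_one.2 hq.ne_one] at h3
      exact h3.symm
    | mul a b iha ihb =>
      intro hx
      rw [Nat.mul_mod, iha ((dvd_mul_right a b).trans hx), ihb ((dvd_mul_left b a).trans hx), one_mul,
        Nat.one_mod_eq_one.2 hq.ne_one]

end Cfsg.Agent.S1546
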