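import Cfsg.Statements.S2589
import Cfsg.Agent.Lib.Classical.FormConj
import Cfsg.Agent.Lib.Forms.SympStd

set_option autoImplicit false
set_option maxHeartbeats 800000
set_option linter.unusedSectionVars false
open Cfsg
open Matrix Module
open Cfsg.Agent.Forms
open Cfsg.Agent.Classical

namespace Cfsg.Agent.S2589

variable {F : Type*} [Field F] {m : ℕ}

local notation "Mat" => Matrix (Fin m ⊕ Fin m) (Fin m ⊕ Fin m) F
local notation "Vec" => (Fin m ⊕ Fin m → F)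

theorem range_nondeg (P : Mat) (hP : P * P = P)
    (hsa : ∀ u v : Vec, SympStd.sympB m F (P *ᵥ u) v = SympStd.sympB m F u (P *ᵥ v)) :
    Forms.Bases.NondegOn (SympStd.sympB m F) (LinearMap.range P.mulVecLin) := by
  intro u hu hperp
  obtain ⟨x, rfl⟩ := hu
  refine SympStd.sympB_nondegenerate.1 _ fun z => ?_
  have h := hperp (P *ᵥ z) ⟨z, rfl⟩
  rw [Matrix.mulVecLin_apply] at h ⊢
  rwa [← hsa, mulVec_mulVec, hP] at h

theorem exists_part (G : Matˣ) (P P' : Mat) (hP : P * P = P) (hP' : P' * P' = P')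
    (hsa : ∀ u v : Vec, SympStd.sympB m F (P *ᵥ u) v = SympStd.sympB m F u (P *ᵥ v))
    (hsa' : ∀ u v : Vec, SympStd.sympB m F (P' *ᵥ u) v = SympStd.sympB m F u (P' *ᵥ v))
    (hG : (↑G : Mat) * P = P' * (↑G : Mat)) :
    ∃ L : Vec →ₗ[F] Vec, ∀ u v : Vec, P' *ᵥ L (P *ᵥ u) = L (P *ᵥ u) ∧
      SympStd.sympB m F (L (P *ᵥ u)) (L (P *ᵥ v)) = SympStd.sympB m F (P *ᵥ u) (P *ᵥ v) := by
  have hd : finrank F (LinearMap.range P.mulVecLin) = finrank F (LinearMap.range P'.mulVecLin) := by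
    show P.rank = P'.rank
    rw [← Matrix.rank_mul_eq_right_of_isUnit_det (↑G : Mat) P ((Matrix.isUnit_iff_isUnit_det _).1 G.isUnit),
      hG, Matrix.rank_mul_eq_left_of_isUnit_det (↑G : Mat) P' ((Matrix.isUnit_iff_isUnit_det _).1 G.isUnit)]
  obtain ⟨L, hL, hiso⟩ := FormConj.exists_alt_iso (SympStd.sympB m F) SympStd.sympB_isAlt _ _
    (range_nondeg P hP hsa) (range_nondeg P' hP' hsa') hd
  refine ⟨L, fun u v => ⟨?_, hiso _ ⟨u, rfl⟩ _ ⟨v, rfl⟩⟩⟩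
  obtain ⟨z, hz⟩ := hL (P *ᵥ u) ⟨u, rfl⟩
  rw [← hz, Matrix.mulVecLin_apply, mulVec_mulVec, hP']


/-- Two semisimple elements of the finite symplectic group Sp_2m(F) (elements of order prime to the characteristic) are conjugate in Sp_2m(F) if and only if they are conjugate in GL_2m(F). -/
theorem result {F : Type*} [Field F] [Fintype F] {p : ℕ} [Fact p.Prime] [CharP F p] {m : ℕ} (A B : Matrix.symplecticGroup (Fin m) F) (hA : (orderOf A).Coprime p) : IsConj A B ↔ IsConj (A : Matrix (Fin m ⊕ Fin m) (Fin m ⊕ Fin m) F) (B : Matrix (Fin m ⊕ Fin m) (Fin m ⊕ Fin m) F) := by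
  classical
  refine ⟨fun h => (Matrix.symplecticGroup (Fin m) F).subtype.map_isConj h, fun h => ?_⟩
  obtain ⟨X, hX⟩ := h
  let Am : Matrix (Fin m ⊕ Fin m) (Fin m ⊕ Fin m) F := (A : Matrix (Fin m ⊕ Fin m) (Fin m ⊕ Fin m) F)
  let Bm : Matrix (Fin m ⊕ Fin m) (Fin m ⊕ Fin m) F := (B : Matrix (Fin m ⊕ Fin m) (Fin m ⊕ Fin m) F)
  have hXe : (↑X : Matrix (Fin m ⊕ Fin m) (Fin m ⊕ Fin m) F) * Am = Bm * (↑X : Matrix (Fin m ⊕ Fin m) (Fin m ⊕ Fin m) F) := hX.eq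
  have hJu : IsUnit (Matrix.J (Fin m) F) :=
    (Matrix.isUnit_iff_isUnit_det _).2 (Matrix.isUnit_det_J (Fin m) F)
  have hc : (-1 : F) * -1 = 1 := by ring
  have hΓ : (↑hJu.unit : Matrix (Fin m ⊕ Fin m) (Fin m ⊕ Fin m) F)ᵀ
      = (-1 : F) • (↑hJu.unit : Matrix (Fin m ⊕ Fin m) (Fin m ⊕ Fin m) F) := by
    show (Matrix.J (Fin m) F)ᵀ = (-1 : F) • Matrix.J (Fin m) F
    rw [Matrix.J_transpose, neg_smul, one_smul]
  set Γ := hJu.unit
  have hA1 : FormConj.adj Γ Am * Am = 1 :=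
    (FormConj.preserves_iff Γ Am).1 (SymplecticGroup.mem_iff'.1 A.2)
  have hB1 : FormConj.adj Γ Bm * Bm = 1 :=
    (FormConj.preserves_iff Γ Bm).1 (SymplecticGroup.mem_iff'.1 B.2)
  set s := orderOf A with hsdef
  have hs : (s : F) ≠ 0 := by
    rw [Ne, CharP.cast_eq_zero_iff F p s]
    intro hd
    exact (Fact.out : p.Prime).ne_one (Nat.eq_one_of_dvd_coprimes hA hd dvd_rfl)
  have hAs : Am ^ s = 1 := congrArg Subtype.val (pow_orderOf_eq_one A)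
  have hBs : Bm ^ s = 1 := by
    have h1 : (↑X : Matrix (Fin m ⊕ Fin m) (Fin m ⊕ Fin m) F) * Am ^ s = Bm ^ s * (↑X : Matrix (Fin m ⊕ Fin m) (Fin m ⊕ Fin m) F) :=
      (hX.pow_right s).eq
    rw [hAs, mul_one] at h1
    exact (X.isUnit.mul_right_cancel (h1.symm.trans (one_mul _).symm))
  obtain ⟨G, hGA, hGε⟩ := FormConj.exists_partial Γ hΓ hc Am Bm hA1 hB1 hs hAs X hXe
  have hsa : ∀ P : Matrix (Fin m ⊕ Fin m) (Fin m ⊕ Fin m) F, FormConj.adj Γ P = P →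
      ∀ u v, SympStd.sympB m F (P *ᵥ u) v = SympStd.sympB m F u (P *ᵥ v) := by
    intro P hP u v
    have h1 := FormConj.form_mulVec Γ P u v
    rw [hP] at h1
    rw [SympStd.sympB_apply, SympStd.sympB_apply]
    exact h1
  set e := FormConj.avg F s Am with he
  set f := FormConj.negAvg F s Am with hf
  set ε := FormConj.rest F s Am with hε
  set e' := FormConj.avg F s Bm with he'
  set f' := FormConj.negAvg F s Bm with hf'
  set ε' := FormConj.rest F s Bm with hε'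
  have sae := hsa e (FormConj.adj_avg Γ hΓ hc hs hA1 hAs)
  have saf := hsa f (FormConj.adj_negAvg Γ hΓ hc hs hA1 hAs)
  have saε := hsa ε (FormConj.adj_rest Γ hΓ hc hs hA1 hAs)
  have sae' := hsa e' (FormConj.adj_avg Γ hΓ hc hs hB1 hBs)
  have saf' := hsa f' (FormConj.adj_negAvg Γ hΓ hc hs hB1 hBs)
  have saε' := hsa ε' (FormConj.adj_rest Γ hΓ hc hs hB1 hBs)
  obtain ⟨Le, hLe⟩ := exists_part G e e' (FormConj.avg_mul_self hs hAs) (FormConj.avg_mul_self hs hBs)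
    sae sae' (FormConj.avg_mul_map hGA)
  obtain ⟨Lf, hLf⟩ := exists_part G f f' (FormConj.negAvg_mul_self hs hAs)
    (FormConj.negAvg_mul_self hs hBs) saf saf' (FormConj.negAvg_mul_map hGA)
  set β := SympStd.sympB m F with hβ
  have horth : ∀ P Q : Matrix (Fin m ⊕ Fin m) (Fin m ⊕ Fin m) F,
      (∀ u v, β (P *ᵥ u) v = β u (P *ᵥ v)) → P * Q = 0 → ∀ u v, P *ᵥ u = u → Q *ᵥ v = v → β u v = 0 := by
    intro P Q hP hPQ u v hu hv
    rw [← hu, hP, ← hv, mulVec_mulVec, hPQ, zero_mulVec, map_zero]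
  let a : (Fin m ⊕ Fin m → F) → (Fin m ⊕ Fin m → F) := fun v => (↑G : Matrix (Fin m ⊕ Fin m) (Fin m ⊕ Fin m) F) *ᵥ (ε *ᵥ v)
  have ha : ∀ v, ε' *ᵥ a v = a v := fun v => by
    show ε' *ᵥ ((↑G : Matrix (Fin m ⊕ Fin m) (Fin m ⊕ Fin m) F) *ᵥ (ε *ᵥ v)) = _
    rw [mulVec_mulVec, ← FormConj.rest_mul_map hGA, ← mulVec_mulVec, mulVec_mulVec _ ε ε,
      FormConj.rest_mul_self hs hAs]
  have haiso : ∀ u v, β (a u) (a v) = β (ε *ᵥ u) (ε *ᵥ v) := by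
    intro u v
    rw [hβ, SympStd.sympB_apply, SympStd.sympB_apply]
    show ((↑G : Matrix (Fin m ⊕ Fin m) (Fin m ⊕ Fin m) F) *ᵥ (ε *ᵥ u)) ⬝ᵥ ((↑Γ : Matrix (Fin m ⊕ Fin m) (Fin m ⊕ Fin m) F) *ᵥ ((↑G : Matrix (Fin m ⊕ Fin m) (Fin m ⊕ Fin m) F) *ᵥ (ε *ᵥ v))) = _
    rw [FormConj.form_mulVec, mulVec_mulVec _ (FormConj.adj Γ _) (↑G : Matrix (Fin m ⊕ Fin m) (Fin m ⊕ Fin m) F),
      mulVec_mulVec _ (_ * _) ε, hGε]
    rfl
  let g : (Fin m ⊕ Fin m → F) →ₗ[F] (Fin m ⊕ Fin m → F) :=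
    (↑G : Matrix (Fin m ⊕ Fin m) (Fin m ⊕ Fin m) F).mulVecLin ∘ₗ ε.mulVecLin + Le ∘ₗ e.mulVecLin + Lf ∘ₗ f.mulVecLin
  have hg : ∀ v, g v = a v + Le (e *ᵥ v) + Lf (f *ᵥ v) := fun v => rfl
  have hdec : ∀ u v, β u v = β (ε *ᵥ u) (ε *ᵥ v) + β (e *ᵥ u) (e *ᵥ v) + β (f *ᵥ u) (f *ᵥ v) := by
    intro u v
    rw [saε, sae, saf, mulVec_mulVec, mulVec_mulVec, mulVec_mulVec, hε, he, hf,
      FormConj.rest_mul_self hs hAs, FormConj.avg_mul_self hs hAs, FormConj.negAvg_mul_self hs hAs,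
      ← map_add, ← map_add, ← add_mulVec, ← add_mulVec, FormConj.rest]
    rw [show ∀ a b : Matrix (Fin m ⊕ Fin m) (Fin m ⊕ Fin m) F, 1 - a - b + a + b = 1 from fun a b => by abel,
      one_mulVec]
  have hgiso : ∀ u v, β (g u) (g v) = β u v := by
    intro u v
    rw [hg, hg, hdec u v]
    simp only [map_add, LinearMap.add_apply]
    rw [horth ε' e' saε' (FormConj.rest_mul_avg hs hBs) _ _ (ha u) (hLe v v).1,
      horth ε' f' saε' (FormConj.rest_mul_negAvg hs hBs) _ _ (ha u) (hLf v v).1,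
      horth e' ε' sae' (FormConj.avg_mul_rest hs hBs) _ _ (hLe u u).1 (ha v),
      horth e' f' sae' (FormConj.avg_mul_negAvg hBs) _ _ (hLe u u).1 (hLf v v).1,
      horth f' ε' saf' (FormConj.negAvg_mul_rest hs hBs) _ _ (hLf u u).1 (ha v),
      horth f' e' saf' (FormConj.negAvg_mul_avg hBs) _ _ (hLf u u).1 (hLe v v).1,
      haiso, (hLe u v).2, (hLf u v).2]
    ring
  have hmem : LinearMap.toMatrix' g ∈ Matrix.symplecticGroup (Fin m) F := by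
    rw [SympStd.mem_sp_iff]
    intro u v
    simp only [← Matrix.toLin'_apply, Matrix.toLin'_toMatrix', ← SympStd.sympB_apply]
    exact hgiso u v
  refine isConj_iff.2 ⟨⟨_, hmem⟩, mul_inv_eq_iff_eq_mul.2 (SympStd.sp_ext fun v => ?_)⟩
  rw [SympStd.mul_mulVec_sp, SympStd.mul_mulVec_sp]
  simp only [← Matrix.toLin'_apply (LinearMap.toMatrix' g), Matrix.toLin'_toMatrix']
  show g (Am *ᵥ v) = Bm *ᵥ g v
  have e1 : e *ᵥ (Am *ᵥ v) = e *ᵥ v := by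
    rw [mulVec_mulVec, he, ← FormConj.avg_mul_map (c := Am) (a := Am) (b := Am) rfl,
      FormConj.mul_avg hAs]
  have f1 : f *ᵥ (Am *ᵥ v) = -(f *ᵥ v) := by
    rw [mulVec_mulVec, hf, ← FormConj.negAvg_mul_map (c := Am) (a := Am) (b := Am) rfl,
      FormConj.mul_negAvg hAs, neg_mulVec]
  have e2 : Bm *ᵥ Le (e *ᵥ v) = Le (e *ᵥ v) := by
    conv_lhs => rw [← (hLe v v).1, mulVec_mulVec, FormConj.mul_avg hBs]
    exact (hLe v v).1
  have f2 : Bm *ᵥ Lf (f *ᵥ v) = -Lf (f *ᵥ v) := by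
    conv_lhs => rw [← (hLf v v).1, mulVec_mulVec, FormConj.mul_negAvg hBs, neg_mulVec]
    rw [(hLf v v).1]
  have a2 : a (Am *ᵥ v) = Bm *ᵥ a v := by
    show (↑G : Matrix (Fin m ⊕ Fin m) (Fin m ⊕ Fin m) F) *ᵥ (ε *ᵥ (Am *ᵥ v)) = Bm *ᵥ ((↑G : Matrix (Fin m ⊕ Fin m) (Fin m ⊕ Fin m) F) *ᵥ (ε *ᵥ v))
    rw [mulVec_mulVec _ ε Am, hε, ← FormConj.rest_mul_map (c := Am) (a := Am) (b := Am) rfl,
      ← mulVec_mulVec, mulVec_mulVec _ (↑G : Matrix (Fin m ⊕ Fin m) (Fin m ⊕ Fin m) F) Am, hGA, ← mulVec_mulVec]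
  rw [hg, hg, mulVec_add, mulVec_add, e1, f1, e2, f2, a2, map_neg]

end Cfsg.Agent.S2589
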