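import Cfsg.Statements.S2385
import Cfsg.Agent.Lib.Classical.SemisimpleConj
import Cfsg.Agent.S2589


set_option autoImplicit false
set_option maxHeartbeats 1000000
open Cfsg

namespace Cfsg.Agent.S2385

open Matrix Polynomial

variable {F : Type*} [Field F]

theorem charpoly_reverse {n : ℕ} {g : Matrix (Fin n ⊕ Fin n) (Fin n ⊕ Fin n) F}
    (hg : g ∈ Matrix.symplecticGroup (Fin n) F) : g.charpoly.reverse = g.charpoly := by
  classical
  have hd : g.det = 1 := SymplecticGroup.det_eq_one hg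
  have hu : IsUnit g := (Matrix.isUnit_iff_isUnit_det _).2 (by rw [hd]; exact isUnit_one)
  have h1 := Matrix.charpoly_inv g hu
  rw [hd, Ring.inverse_one, C_1, mul_one, Fintype.card_sum, Fintype.card_fin, ← two_mul, pow_mul,
    neg_one_sq, one_pow, one_mul] at h1
  rw [reverse_charpoly, ← h1]
  have hJu : IsUnit (Matrix.J (Fin n) F) :=
    (Matrix.isUnit_iff_isUnit_det _).2 (Matrix.isUnit_det_J (Fin n) F)
  have h2 : g⁻¹ = (↑hJu.unit⁻¹ : Matrix (Fin n ⊕ Fin n) (Fin n ⊕ Fin n) F) * gᵀ * (↑hJu.unit : Matrix (Fin n ⊕ Fin n) (Fin n ⊕ Fin n) F) := by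
    refine Matrix.inv_eq_left_inv ?_
    show (↑hJu.unit⁻¹ : Matrix (Fin n ⊕ Fin n) (Fin n ⊕ Fin n) F) * gᵀ * Matrix.J (Fin n) F * g = 1
    rw [mul_assoc, mul_assoc, ← mul_assoc gᵀ, SymplecticGroup.mem_iff'.1 hg]
    exact hJu.val_inv_mul
  rw [h2, Matrix.coe_units_inv, Matrix.charpoly_units_conj', Matrix.charpoly_transpose]

theorem ext_half {n : ℕ} {a b : F[X]} (ha : a.Monic) (hb : b.Monic) (hda : a.natDegree = n + n)
    (hdb : b.natDegree = n + n) (hra : a.reverse = a) (hrb : b.reverse = b)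
    (h : ∀ i : Fin n, a.coeff ((i : ℕ) + 1) = b.coeff ((i : ℕ) + 1)) : a = b := by
  have h0 : ∀ i ≤ n, a.coeff i = b.coeff i := fun i hi => by
    rcases Nat.eq_zero_or_pos i with rfl | hi0
    · rw [← hra, ← hrb, coeff_zero_reverse, coeff_zero_reverse, ha.leadingCoeff, hb.leadingCoeff]
    · have := h ⟨i - 1, by omega⟩
      simpa [Nat.sub_add_cancel hi0] using this
  ext i
  by_cases hi : i ≤ n
  · exact h0 i hi
  by_cases hi' : i ≤ n + n
  · rw [← hra, ← hrb, coeff_reverse, coeff_reverse, hda, hdb, revAt_le hi']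
    exact h0 _ (by omega)
  · rw [coeff_eq_zero_of_natDegree_lt (by omega), coeff_eq_zero_of_natDegree_lt (by omega)]

theorem exists_symm (n : ℕ) (h : F[X]) (hh : h.Monic) (hd : h.natDegree = n) :
    ∃ S T D : Matrix (Fin n) (Fin n) F, S * T = 1 ∧ Sᵀ = S ∧ Tᵀ = T ∧ Dᵀ * S = S * D ∧
      D.charpoly = h := by
  classical
  subst hd
  let pb := AdjoinRoot.powerBasis' hh
  let b : Module.Basis (Fin h.natDegree) F (AdjoinRoot h) := pb.basis
  have hb : ∀ i : Fin h.natDegree, b i = pb.gen ^ (i : ℕ) := fun i => pb.basis_eq_pow i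
  let τ : AdjoinRoot h →ₗ[F] F := if hn : 0 < h.natDegree then
    b.coord ⟨h.natDegree - 1, by omega⟩ else 0
  let T : Matrix (Fin h.natDegree) (Fin h.natDegree) F := Matrix.of fun i j => τ (b i * b j)
  let Θ : Matrix (Fin h.natDegree) (Fin h.natDegree) F := Algebra.leftMulMatrix b pb.gen
  have hTs : Tᵀ = T := by ext i j; simp [T, mul_comm]
  have hTv : ∀ (v : Fin h.natDegree → F) i, (T *ᵥ v) i = τ (b i * ∑ j, v j • b j) := fun v i => by
    simp [T, Matrix.mulVec, dotProduct, Finset.mul_sum, mul_comm]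
  have hTu : IsUnit T := by
    refine Matrix.mulVec_injective_iff_isUnit.1 ?_
    refine (injective_iff_map_eq_zero T.mulVecLin).2 fun v hv => ?_
    by_contra hv0
    obtain ⟨k, hk, hmax⟩ := Finset.exists_max_image (Finset.univ.filter fun j => v j ≠ 0)
      (fun j : Fin h.natDegree => (j : ℕ))
      (by simpa [Finset.filter_nonempty_iff] using Function.ne_iff.1 hv0)
    have hn : 0 < h.natDegree := lt_of_le_of_lt (Nat.zero_le _) k.2
    let i : Fin h.natDegree := ⟨h.natDegree - 1 - k, by omega⟩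
    have h1 : (T *ᵥ v) i = 0 := congrFun hv i
    rw [hTv, Finset.mul_sum, map_sum] at h1
    rw [Finset.sum_eq_single k] at h1
    · refine (Finset.mem_filter.1 hk).2 ?_
      rw [mul_smul_comm, map_smul] at h1
      have h2 : b i * b k = b ⟨h.natDegree - 1, by omega⟩ := by
        rw [hb, hb, hb, ← pow_add]
        congr 1
        show h.natDegree - 1 - k + k = h.natDegree - 1
        omega
      rw [h2, show τ = b.coord ⟨h.natDegree - 1, by omega⟩ from dif_pos hn, Module.Basis.coord_apply,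
        Module.Basis.repr_self, Finsupp.single_eq_same, smul_eq_mul, mul_one] at h1
      exact h1
    · intro j _ hj
      by_cases hvj : v j = 0
      · simp [hvj]
      have hjk : (j : ℕ) < k := lt_of_le_of_ne (hmax j (by simp [hvj])) (fun e => hj (Fin.ext e))
      have h2 : b i * b j = b ⟨(i : ℕ) + j, by simp only [i]; omega⟩ := by
        rw [hb, hb, hb, ← pow_add]
      rw [mul_smul_comm, map_smul, h2, show τ = b.coord ⟨h.natDegree - 1, by omega⟩ from dif_pos hn,
        Module.Basis.coord_apply, Module.Basis.repr_self, Finsupp.single_eq_of_ne, smul_zero]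
      intro e
      have := congrArg Fin.val e
      simp only [i] at this
      omega
    · simp
  have hTΘ : ∀ i j, (T * Θ) i j = τ (b i * (pb.gen * b j)) := fun i j => by
    conv_rhs => rw [← b.sum_repr (pb.gen * b j), Finset.mul_sum, map_sum]
    rw [Matrix.mul_apply]
    refine Finset.sum_congr rfl fun k _ => ?_
    rw [mul_smul_comm, map_smul, smul_eq_mul, mul_comm]
    simp [T, Θ, Algebra.leftMulMatrix_eq_repr_mul]
  have hsym : (T * Θ)ᵀ = T * Θ := by
    ext i j
    rw [Matrix.transpose_apply, hTΘ, hTΘ]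
    congr 1
    ring
  obtain ⟨Tu, hT⟩ := hTu
  have hTd : IsUnit T.det := (Matrix.isUnit_iff_isUnit_det T).1 (hT ▸ Tu.isUnit)
  refine ⟨T⁻¹, T, T * Θ * T⁻¹, Matrix.nonsing_inv_mul _ hTd, by rw [Matrix.transpose_nonsing_inv, hTs],
    hTs, ?_, ?_⟩
  · rw [Matrix.transpose_mul, Matrix.transpose_nonsing_inv, hTs, hsym]
    simp only [mul_assoc]
  · rw [← hT, Matrix.charpoly_units_conj]
    show (Algebra.leftMulMatrix pb.basis pb.gen).charpoly = h
    rw [charpoly_leftMulMatrix, AdjoinRoot.powerBasis'_gen]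
    exact (AdjoinRoot.minpoly_powerBasis_gen_of_monic hh).trans rfl

theorem exists_elem (n : ℕ) (h : F[X]) (hh : h.Monic) (hd : h.natDegree = n) :
    ∃ M : ↥(Matrix.symplecticGroup (Fin n) F),
      ((M : Matrix (Fin n ⊕ Fin n) (Fin n ⊕ Fin n) F) + (M⁻¹ : ↥(Matrix.symplecticGroup (Fin n) F))).charpoly
        = h * h := by
  obtain ⟨S, T, D, hST, hS, hT, hDS, hD⟩ := exists_symm n h hh hd
  have hTS : T * S = 1 := mul_eq_one_comm.1 hST
  have hmem : Matrix.fromBlocks 0 (-S) T D ∈ Matrix.symplecticGroup (Fin n) F := by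
    rw [SymplecticGroup.mem_iff', Matrix.fromBlocks_transpose, Matrix.J, Matrix.fromBlocks_multiply,
      Matrix.fromBlocks_multiply]
    simp [hS, hT, hST, hTS, hDS, Matrix.mul_neg, Matrix.neg_mul]
  refine ⟨⟨_, hmem⟩, ?_⟩
  have hinv : (((⟨_, hmem⟩ : ↥(Matrix.symplecticGroup (Fin n) F))⁻¹ : ↥(Matrix.symplecticGroup (Fin n) F)) :
      Matrix (Fin n ⊕ Fin n) (Fin n ⊕ Fin n) F) = Matrix.fromBlocks Dᵀ S (-T) 0 := by
    rw [SymplecticGroup.coe_inv, Matrix.fromBlocks_transpose, Matrix.J, Matrix.neg_mul,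
      Matrix.neg_mul, Matrix.fromBlocks_multiply, Matrix.fromBlocks_multiply, Matrix.fromBlocks_neg]
    simp [hS, hT]
  rw [hinv, Matrix.fromBlocks_add]
  simp only [zero_add, neg_add_cancel, add_neg_cancel, add_zero]
  rw [Matrix.charpoly_fromBlocks_zero₁₂, Matrix.charpoly_transpose, hD]

theorem charpoly_pow_card_pow [Fintype F] {ι : Type*} [Fintype ι] [DecidableEq ι] (M : Matrix ι ι F) :
    ∀ N : ℕ, (M ^ Fintype.card F ^ N).charpoly = M.charpoly
  | 0 => by rw [pow_zero, pow_one]
  | N + 1 => by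
    rw [pow_succ, pow_mul, FiniteField.Matrix.charpoly_pow_card, charpoly_pow_card_pow M N]

theorem coprime_orderOf_pow {G : Type*} [Group G] [Finite G] {p : ℕ} [hp : Fact p.Prime] (x : G)
    {Q : ℕ} (hQ : p ^ (Nat.card G).factorization p ∣ Q) : (orderOf (x ^ Q)).Coprime p := by
  refine Nat.Coprime.of_dvd_left (orderOf_dvd_of_pow_eq_one ?_)
    (Nat.coprime_ordCompl hp.out (Nat.card_pos (α := G)).ne').symm
  obtain ⟨t, rfl⟩ := hQ
  rw [← pow_mul, mul_right_comm, Nat.ordProj_mul_ordCompl_eq_self, pow_mul, pow_card_eq_one',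
    one_pow]

/-- In the symplectic group `Sp_{2n}(q)`, `q` a power of the prime `p`, the number of conjugacy classes of elements of order prime to `p` is `q^n`. -/
theorem result {F : Type*} [Field F] [Fintype F] {q : ℕ} (hq : Fintype.card F = q) (p : ℕ) [Fact p.Prime] [CharP F p] (n : ℕ) :
    Nat.card {c : ConjClasses ↥(Matrix.symplecticGroup (Fin n) F) //
      ∃ g : ↥(Matrix.symplecticGroup (Fin n) F), ConjClasses.mk g = c ∧ (orderOf g).Coprime p} = q ^ n := by
  classical
  subst hq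
  let G := ↥(Matrix.symplecticGroup (Fin n) F)
  let C' := {c : ConjClasses G // ∃ g : G, ConjClasses.mk g = c ∧ (orderOf g).Coprime p}
  let A := {h : Polynomial F // h.Monic ∧ h.natDegree = n}
  have hA : Nat.card A = Fintype.card F ^ n := by
    rw [Nat.card_congr ((monicEquivDegreeLT (R := F) n).trans (degreeLTEquiv F n).toEquiv),
      Nat.card_fun, Nat.card_eq_fintype_card, Nat.card_eq_fintype_card, Fintype.card_fin]
  haveI : Finite G := inferInstance
  haveI : Finite C' := inferInstance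
  apply le_antisymm
  · choose g hg1 hg2 using fun c : C' => c.2
    let ψ : C' → Fin n → F := fun c i =>
      (g c : Matrix (Fin n ⊕ Fin n) (Fin n ⊕ Fin n) F).charpoly.coeff ((i : ℕ) + 1)
    have hψ : Function.Injective ψ := by
      intro c c' e
      have hdeg : ∀ x : G, (x : Matrix (Fin n ⊕ Fin n) (Fin n ⊕ Fin n) F).charpoly.natDegree = n + n :=
        fun x => by rw [Matrix.charpoly_natDegree_eq_dim, Fintype.card_sum, Fintype.card_fin]
      have hpoly := ext_half (Matrix.charpoly_monic _) (Matrix.charpoly_monic _) (hdeg (g c)) (hdeg (g c'))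
        (charpoly_reverse (g c).2) (charpoly_reverse (g c').2) (congrFun e)
      refine Subtype.ext ?_
      rw [← hg1 c, ← hg1 c']
      refine ConjClasses.mk_eq_mk_iff_isConj.2 ((Cfsg.Agent.S2589.result (g c) (g c') (hg2 c)).2 ?_)
      have hcast : ∀ {x : ℕ}, x.Coprime p → (x : F) ≠ 0 := fun {x} hx h0 =>
        ((Fact.out : p.Prime).coprime_iff_not_dvd.1 hx.symm) ((CharP.cast_eq_zero_iff F p _).1 h0)
      let e := Matrix.reindexAlgEquiv F F (finSumFinEquiv (m := n) (n := n))
      obtain ⟨M, hM⟩ := Cfsg.Agent.Classical.SemisimpleConj.exists_matrix_conj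
        (e (g c : Matrix (Fin n ⊕ Fin n) (Fin n ⊕ Fin n) F))
        (e (g c' : Matrix (Fin n ⊕ Fin n) (Fin n ⊕ Fin n) F))
        (k := orderOf (g c) * orderOf (g c'))
        (by rw [Nat.cast_mul]; exact mul_ne_zero (hcast (hg2 c)) (hcast (hg2 c')))
        (by rw [← map_pow, ← SubmonoidClass.coe_pow, pow_mul, pow_orderOf_eq_one, one_pow,
          OneMemClass.coe_one, map_one])
        (by rw [← map_pow, ← SubmonoidClass.coe_pow, mul_comm, pow_mul, pow_orderOf_eq_one, one_pow,
          OneMemClass.coe_one, map_one])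
        (by rw [Matrix.coe_reindexAlgEquiv, Matrix.charpoly_reindex, Matrix.charpoly_reindex]; exact hpoly)
      refine ⟨Units.map e.symm.toMonoidHom M, ?_⟩
      show e.symm (M : Matrix _ _ F) * _ = _ * e.symm (M : Matrix _ _ F)
      apply e.injective
      rw [map_mul, map_mul, e.apply_symm_apply]
      exact hM
    refine (Nat.card_le_card_of_injective ψ hψ).trans_eq ?_
    rw [Nat.card_fun, Nat.card_eq_fintype_card, Nat.card_eq_fintype_card, Fintype.card_fin]
  · rw [← hA]
    choose M hM using fun h : A => exists_elem n h.1 h.2.1 h.2.2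
    obtain ⟨N, hN⟩ : ∃ N, N = Fintype.card F ^ (Nat.card G).factorization p := ⟨_, rfl⟩
    have hpN : p ^ (Nat.card G).factorization p ∣ N := by
      obtain ⟨f, -, hf⟩ := FiniteField.card F p
      rw [hN, hf, ← pow_mul]
      exact pow_dvd_pow p (Nat.le_mul_of_pos_left _ f.2)
    let φ : A → C' := fun h => ⟨ConjClasses.mk (M h ^ N), _, rfl, coprime_orderOf_pow _ hpN⟩
    refine Nat.card_le_card_of_injective φ fun h h' e => ?_
    obtain ⟨u, hu⟩ := isConj_iff.1 (ConjClasses.mk_eq_mk_iff_isConj.1 (congrArg Subtype.val e))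
    have key : ∀ h : A, (((M h ^ N : G) : Matrix (Fin n ⊕ Fin n) (Fin n ⊕ Fin n) F) +
        ((M h ^ N)⁻¹ : G)).charpoly = h.1 * h.1 := fun h => by
      obtain ⟨f, -, hf⟩ := FiniteField.card F p
      rw [← inv_pow, SubmonoidClass.coe_pow, SubmonoidClass.coe_pow]
      rcases Nat.eq_zero_or_pos n with rfl | hn
      · rw [← hM h]; exact congrArg _ (Subsingleton.elim _ _)
      haveI : Nonempty (Fin n) := ⟨⟨0, hn⟩⟩
      have hc : Commute (M h : Matrix (Fin n ⊕ Fin n) (Fin n ⊕ Fin n) F)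
          ((M h)⁻¹ : G) := (Commute.inv_right (Commute.refl (M h))).map
            (Matrix.symplecticGroup (Fin n) F).subtype
      rw [← hM h, hN, hf, ← pow_mul, ← add_pow_char_pow_of_commute p _ hc, pow_mul, ← hf,
        charpoly_pow_card_pow]
    have h2 : h.1 * h.1 = h'.1 * h'.1 := by
      rw [← key h, ← key h', ← hu]
      have e1 : ((u * M h ^ N * u⁻¹)⁻¹ : G) = u * (M h ^ N)⁻¹ * u⁻¹ := by
        rw [_root_.mul_inv_rev, _root_.mul_inv_rev, inv_inv, mul_assoc]
      have emul : ∀ a b : G, ((a * b : G) : Matrix (Fin n ⊕ Fin n) (Fin n ⊕ Fin n) F) =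
          (a : Matrix (Fin n ⊕ Fin n) (Fin n ⊕ Fin n) F) * b := fun _ _ => rfl
      rw [e1, emul, emul, emul, emul, ← Matrix.add_mul, ← Matrix.mul_add, Matrix.charpoly_mul_comm,
        ← mul_assoc, ← emul, inv_mul_cancel]
      exact congrArg Matrix.charpoly (one_mul _).symm
    refine Subtype.ext ?_
    rcases mul_self_eq_mul_self_iff.1 h2 with h3 | h3
    · exact h3
    · have h4 := congrArg Polynomial.leadingCoeff h3
      rw [leadingCoeff_neg, h.2.1.leadingCoeff, h'.2.1.leadingCoeff] at h4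
      rw [h3, ← neg_one_mul h'.1, ← C_1, ← C_neg, ← h4, C_1, one_mul]

end Cfsg.Agent.S2385
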