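import Cfsg.Statements.S1470
import Mathlib

set_option autoImplicit false
open Cfsg

namespace Cfsg.Agent.S1470

/-- Let p and q be odd primes with (p^q − 1)/(p − 1) coprime to p − 1, and let E be the set of elements a of the field with p ^ q elements whose norm to the prime field is 1 and for which 2 − a also has norm 1. If a⁻¹ ∈ E for every a ∈ E and E has at least two elements, then p ≤ q. -/
theorem result (p q : ℕ) [Fact p.Prime] [Fact q.Prime] (hp : p ≠ 2) (hq : q ≠ 2) (hA : Nat.Coprime ((p ^ q - 1) / (p - 1)) (p - 1))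
    (hinv : ∀ a ∈ {a : GaloisField p q | Algebra.norm (ZMod p) a = 1 ∧ Algebra.norm (ZMod p) (2 - a) = 1}, a⁻¹ ∈ {a : GaloisField p q | Algebra.norm (ZMod p) a = 1 ∧ Algebra.norm (ZMod p) (2 - a) = 1})
    (h2 : 2 ≤ Set.ncard {a : GaloisField p q | Algebra.norm (ZMod p) a = 1 ∧ Algebra.norm (ZMod p) (2 - a) = 1}) :
    p ≤ q := by
  by_contra hlt
  push Not at hlt
  set F := GaloisField p q
  set E := {a : F | Algebra.norm (ZMod p) a = 1 ∧ Algebra.norm (ZMod p) (2 - a) = 1} with hE
  obtain ⟨a, ha, ha1⟩ := Set.exists_ne_of_one_lt_ncard (show 1 < E.ncard by omega) (1 : F)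
  have hstep : ∀ b ∈ E, (2 - b)⁻¹ ∈ E := fun b hb => hinv _ ⟨hb.2, by rw [sub_sub_cancel]; exact hb.1⟩
  let d : ℕ → F := fun k => (k : F) + 1 - k * a
  have hd : ∀ k : ℕ, Algebra.norm (ZMod p) (d k) = 1 ∧ (2 * d k - d (k + 1)) / d k ∈ E := by
    intro k
    induction k with
    | zero =>
      refine ⟨by simp [d], ?_⟩
      have : (2 * d 0 - d (0 + 1)) / d 0 = a := by simp [d]; ring
      rw [this]; exact ha
    | succ k ih =>
      obtain ⟨h1, hb⟩ := ih
      have hne : d k ≠ 0 := fun h => by rw [h, Algebra.norm_zero] at h1; exact zero_ne_one h1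
      set b := (2 * d k - d (k + 1)) / d k with hbdef
      have hmul : d (k + 1) = d k * (2 - b) := by
        rw [hbdef, mul_sub, mul_div_cancel₀ _ hne]; ring
      have h2 : Algebra.norm (ZMod p) (d (k + 1)) = 1 := by rw [hmul, map_mul, h1, hb.2, mul_one]
      refine ⟨h2, ?_⟩
      have h3 : 2 - b ≠ 0 := fun h => by
        have := hb.2; rw [h, Algebra.norm_zero] at this; exact zero_ne_one this
      have e : (2 * d (k + 1) - d (k + 1 + 1)) / d (k + 1) = (2 - b)⁻¹ := by
        have h4 : 2 * d (k + 1) - d (k + 1 + 1) = d k := by simp only [d]; push_cast; ring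
        rw [h4, hmul, div_mul_eq_div_div, div_self hne, one_div]
      rw [e]; exact hstep b hb
  set w : F := (1 - a)⁻¹ with hw
  have hca : (1 : F) - a ≠ 0 := sub_ne_zero.mpr ha1.symm
  let B := Module.finBasis (ZMod p) F
  set P := (Algebra.leftMulMatrix B (-w)).charpoly with hP
  have heval : ∀ r : ZMod p, P.eval r = Algebra.norm (ZMod p) (algebraMap (ZMod p) F r + w) := by
    intro r
    rw [hP, Matrix.eval_charpoly, Algebra.norm_eq_matrix_det B]
    congr 1
    rw [map_add, map_neg, sub_neg_eq_add, AlgHom.commutes]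
    rfl
  have hconst : ∀ r : ZMod p, P.eval r = Algebra.norm (ZMod p) w := by
    intro r
    rw [heval]
    obtain ⟨k, rfl⟩ : ∃ k : ℕ, (k : ZMod p) = r := ⟨r.val, ZMod.natCast_zmod_val r⟩
    have h1 := (hd k).1
    have e : d k = (1 - a) * (algebraMap (ZMod p) F k + w) := by
      simp only [d, map_natCast, hw, mul_add, mul_inv_cancel₀ hca]; ring
    have e0 : (1 - a) * w = 1 := mul_inv_cancel₀ hca
    have h0 := congrArg (Algebra.norm (ZMod p)) e0
    rw [e, map_mul] at h1
    rw [map_mul, map_one] at h0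
    have hne : Algebra.norm (ZMod p) (1 - a) ≠ 0 := left_ne_zero_of_mul (h0 ▸ one_ne_zero)
    exact mul_left_cancel₀ hne (h1.trans h0.symm)
  have hdeg : P.natDegree = q := by
    rw [hP, Matrix.charpoly_natDegree_eq_dim, Fintype.card_fin,
      GaloisField.finrank p (Nat.Prime.ne_zero Fact.out)]
  have hmonic : P.Monic := Matrix.charpoly_monic _
  have hq0 : q ≠ 0 := Nat.Prime.ne_zero Fact.out
  set R := P - Polynomial.C (Algebra.norm (ZMod p) w) with hR
  have hRdeg : R.natDegree = q := by rw [hR, Polynomial.natDegree_sub_C, hdeg]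
  have hR0 : R ≠ 0 := fun h => by rw [h, Polynomial.natDegree_zero] at hRdeg; exact hq0 hRdeg.symm
  have := Polynomial.card_le_degree_of_subset_roots (p := R) (Z := (Finset.univ : Finset (ZMod p)))
    (fun r _ => (Polynomial.mem_roots hR0).mpr (by simp [hR, hconst r]))
  rw [Finset.card_univ, ZMod.card, hRdeg] at this
  omega

end Cfsg.Agent.S1470
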