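import Cfsg.Statements.S1472
import Cfsg.Agent.OddLocal.AppendixCFinal
-- import your own Cfsg.Agent.* helpers here

set_option autoImplicit false
open Cfsg

namespace Cfsg.Agent.S1472

/-- Let p, q be primes with (p^q − 1)/(p − 1) coprime to p − 1, G a finite group, F a field with p ^ q elements, and P, U, Q subgroups of G with: f : G → F bijective from P onto F and additive on P; U normalizing P and acting through ψ : G → F, injective and multiplicative on U with ψ(u) ≠ 0 and f(uxu⁻¹) = ψ(u) f(x); #U · (p − 1) = p^q − 1; Q abelian of order coprime to p, normalized by every x ∈ P with f(x) in the prime field; and some y ∈ Q such that y x y⁻¹ normalizes U for every such x. Then p ≤ q. -/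
theorem result {G : Type*} [Group G] [Finite G] (p q : ℕ) [Fact p.Prime] [Fact q.Prime] (hA : Nat.Coprime ((p ^ q - 1) / (p - 1)) (p - 1))
    (F : Type*) [Field F] [Fintype F] (hF : Fintype.card F = p ^ q) (P U Q : Subgroup G) (f ψ : G → F)
    (hf : Set.BijOn f (P : Set G) Set.univ) (hfadd : ∀ x ∈ P, ∀ z ∈ P, f (x * z) = f x + f z)
    (hUP : U ≤ Subgroup.normalizer (P : Set G)) (hψ : ∀ u ∈ U, ψ u ≠ 0 ∧ ∀ x ∈ P, f (u * x * u⁻¹) = ψ u * f x)
    (hψmul : ∀ u ∈ U, ∀ v ∈ U, ψ (u * v) = ψ u * ψ v) (hψinj : Set.InjOn ψ (U : Set G)) (hUcard : Nat.card U * (p - 1) = p ^ q - 1)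
    (hQ : IsMulCommutative Q) (hQp : (Nat.card Q).Coprime p) (hP0Q : ∀ x ∈ P, f x ^ p = f x → x ∈ Subgroup.normalizer (Q : Set G))
    (y : G) (hy : y ∈ Q) (hP0U : ∀ x ∈ P, f x ^ p = f x → y * x * y⁻¹ ∈ Subgroup.normalizer (U : Set G)) :
    p ≤ q := by
  classical
  have hp : p.Prime := Fact.out
  have hq : q.Prime := Fact.out
  by_contra hlt
  push Not at hlt
  have hp3 : 3 ≤ p := by have := hq.two_le; omega
  have hpo : Odd p := hp.odd_of_ne_two (by omega)
  have hq2 : q ≠ 2 := by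
    rintro rfl
    obtain ⟨k, hk⟩ := hpo
    have h1 : (p ^ 2 - 1) / (p - 1) = p + 1 := by
      rw [show p ^ 2 - 1 = (p + 1) * (p - 1) by simpa using Nat.sq_sub_sq p 1,
        Nat.mul_div_cancel _ (by omega)]
    rw [h1] at hA
    have h2 : 2 ∣ Nat.gcd (p + 1) (p - 1) := Nat.dvd_gcd ⟨k + 1, by omega⟩ ⟨k, by omega⟩
    rw [hA.gcd_eq_one] at h2
    omega
  have hp5 : 5 ≤ p := by
    obtain ⟨k, hk⟩ := hpo
    have := hq.two_le; omega
  have hchar : CharP F p := charP_of_card_eq_prime_pow hF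
  set g : F → G := Function.invFunOn f (P : Set G) with hg
  have hgP : ∀ a, g a ∈ P ∧ f (g a) = a := fun a =>
    ⟨Function.invFunOn_mem (hf.surjOn (Set.mem_univ a)), Function.invFunOn_eq (hf.surjOn (Set.mem_univ a))⟩
  have hgf : ∀ x ∈ P, g (f x) = x := fun x hx => hf.injOn (hgP _).1 hx (hgP _).2
  refine absurd (OddLocal.AppendixC.Cfg.p_le_q (g := g) (y := y) (P := P) (U := U) (Q := Q) (ψ := ψ)
    ⟨hp, hp5, hq, hF, hchar, hUcard, ?_, fun a => (hgP a).1, fun x hx => ⟨f x, hgf x hx⟩,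
      fun a b => ?_, fun a b h => by rw [← (hgP a).2, h, (hgP b).2], fun u hu a => ?_, hUP,
      fun u hu => (hψ u hu).1, hψmul, hψinj, hQ, hQp, hy,
      hP0Q _ (hgP 1).1 (by rw [(hgP 1).2, one_pow]), hP0U _ (hgP 1).1 (by rw [(hgP 1).2, one_pow])⟩
    hq2 hA) (not_le.mpr hlt)
  · rw [← hUcard, Nat.mul_div_cancel _ (by omega)] at hA
    exact hA
  · refine hf.injOn (hgP _).1 (mul_mem (hgP a).1 (hgP b).1) ?_
    rw [(hgP _).2, hfadd _ (hgP a).1 _ (hgP b).1, (hgP a).2, (hgP b).2]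
  · refine hf.injOn ((Subgroup.mem_normalizer_iff.mp (hUP hu) _).mp (hgP a).1) (hgP _).1 ?_
    rw [(hgP _).2, (hψ u hu).2 _ (hgP a).1, (hgP a).2]

end Cfsg.Agent.S1472
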