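import Cfsg.Statements.S1471
import Cfsg.Agent.OddLocal.NormSum

set_option autoImplicit false
open Cfsg

namespace Cfsg.Agent.S1471

/-- Let p and q be odd primes with (p^q − 1)/(p − 1) coprime to p − 1. Then there are at least two elements a of the field with p ^ q elements such that both a and 2 − a have norm 1 to the prime field. -/
theorem result (p q : ℕ) [Fact p.Prime] [Fact q.Prime] (hp : p ≠ 2) (hq : q ≠ 2) (hA : Nat.Coprime ((p ^ q - 1) / (p - 1)) (p - 1)) :
    2 ≤ Set.ncard {a : GaloisField p q | Algebra.norm (ZMod p) a = 1 ∧ Algebra.norm (ZMod p) (2 - a) = 1} := by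
  haveI : Fintype (GaloisField p q) := Fintype.ofFinite _
  classical
  set F := GaloisField p q
  set E := {a : F | Algebra.norm (ZMod p) a = 1 ∧ Algebra.norm (ZMod p) (2 - a) = 1} with hE
  have hp' : p.Prime := Fact.out
  have hq' : q.Prime := Fact.out
  have hp3 : 3 ≤ p := by have := hp'.two_le; omega
  have h2 : (2 : F) ≠ 0 := by
    intro h
    have h' : ((2 : ℕ) : F) = 0 := by exact_mod_cast h
    rw [CharP.cast_eq_zero_iff F p] at h'
    have := Nat.le_of_dvd (by norm_num) h'
    omega
  have hcard : Fintype.card F = p ^ q := by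
    rw [Fintype.card_eq_nat_card, GaloisField.card p q hq'.ne_zero]
  by_cases hq3 : q = 3
  · -- an irreducible cubic with values -1 at 0 and 1 at 2
    obtain ⟨b, hb⟩ : ∃ b : ZMod p, ∀ x : ZMod p, x ^ 3 + b * x ^ 2 - (3 + 2 * b) * x - 1 ≠ 0 := by
      by_contra hcon
      push Not at hcon
      choose x hx using hcon
      have h20 : (2 : ZMod p) ≠ 0 := by
        intro h
        have h' : ((2 : ℕ) : ZMod p) = 0 := by exact_mod_cast h
        rw [ZMod.natCast_eq_zero_iff] at h'
        have := Nat.le_of_dvd (by norm_num) h'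
        omega
      have hx0 : ∀ b, x b ≠ 0 := fun b h => by
        have := hx b; rw [h] at this; simp at this
      have hinj : Function.Injective x := by
        intro b b' hbb
        have e1 := hx b
        have e2 := hx b'
        rw [← hbb] at e2
        have e3 : (b - b') * (x b * (x b - 2)) = 0 := by linear_combination e1 - e2
        have hx2 : x b - 2 ≠ 0 := by
          intro h
          rw [sub_eq_zero] at h
          rw [h] at e1
          exact one_ne_zero (α := ZMod p) (by linear_combination e1)
        exact sub_eq_zero.mp ((mul_eq_zero.mp e3).resolve_right (mul_ne_zero (hx0 b) hx2))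
      obtain ⟨b, hb⟩ := (Finite.injective_iff_surjective.mp hinj) 0
      exact hx0 b hb
    let f : Polynomial (ZMod p) :=
      Polynomial.X ^ 3 + Polynomial.C b * Polynomial.X ^ 2 - Polynomial.C (3 + 2 * b) * Polynomial.X
        - Polynomial.C 1
    have hdeg : f.natDegree = 3 := by simp only [f]; compute_degree!
    have hmonic : f.Monic := by simp only [f]; monicity!
    have hirr : Irreducible f := by
      refine Polynomial.irreducible_of_degree_le_three_of_not_isRoot (by rw [hdeg]; decide) ?_
      intro x hx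
      exact hb x (by simpa [f, Polynomial.IsRoot] using hx)
    haveI := Fact.mk hirr
    have hrank : Module.finrank (ZMod p) (AdjoinRoot f) = 3 := by
      rw [(AdjoinRoot.powerBasis hirr.ne_zero).finrank, AdjoinRoot.powerBasis_dim, hdeg]
    obtain ⟨φ⟩ : Nonempty (AdjoinRoot f →ₐ[ZMod p] F) :=
      FiniteField.nonempty_algHom_of_finrank_dvd (by
        rw [hrank, GaloisField.finrank p hq'.ne_zero, hq3])
    set a := φ (AdjoinRoot.root f) with ha
    let B := Module.finBasis (ZMod p) F
    set P := (Algebra.leftMulMatrix B a).charpoly with hP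
    have hPf : P = f := by
      refine (Polynomial.eq_of_monic_of_dvd_of_natDegree_le hmonic (Matrix.charpoly_monic _) ?_ ?_)
      · have hmin : f = minpoly (ZMod p) a := by
          refine minpoly.eq_of_irreducible_of_monic hirr ?_ hmonic
          rw [ha, Polynomial.aeval_algHom_apply]
          simp
        rw [hmin]
        refine minpoly.dvd _ _ ?_
        have h := Matrix.aeval_self_charpoly (Algebra.leftMulMatrix B a)
        rw [Polynomial.aeval_algHom_apply] at h
        exact Algebra.leftMulMatrix_injective B (h.trans (map_zero _).symm)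
      · rw [hdeg, hP, Matrix.charpoly_natDegree_eq_dim, Fintype.card_fin,
          GaloisField.finrank p hq'.ne_zero, hq3]
    have heval : ∀ r : ZMod p, f.eval r = Algebra.norm (ZMod p) (algebraMap (ZMod p) F r - a) := by
      intro r
      rw [← hPf, hP, Matrix.eval_charpoly, Algebra.norm_eq_matrix_det B]
      congr 1
      rw [map_sub, AlgHom.commutes]
      rfl
    have hneg : Algebra.norm (ZMod p) a = 1 := by
      have h0 := heval 0
      rw [map_zero, zero_sub, ← neg_one_mul a, map_mul] at h0
      have h1 : Algebra.norm (ZMod p) (-1 : F) = -1 := by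
        have e : (-1 : F) = algebraMap (ZMod p) F (-1) := by simp
        rw [e, Algebra.norm_algebraMap, GaloisField.finrank p hq'.ne_zero, hq3]; ring
      rw [h1] at h0
      simp only [f] at h0
      simp at h0
      exact h0.symm
    have htwo : Algebra.norm (ZMod p) (2 - a) = 1 := by
      have h0 := heval 2
      rw [map_ofNat] at h0
      rw [← h0]
      simp [f]; ring
    have hne1 : a ≠ 1 := by
      intro h
      have hr : f.eval 1 = 0 := by
        rw [heval, map_one, h, sub_self, Algebra.norm_zero]
      exact hb 1 (by simpa [f] using hr)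
    calc 2 = ({1, a} : Set F).ncard := (Set.ncard_pair hne1.symm).symm
      _ ≤ E.ncard := Set.ncard_le_ncard (by
        rintro x (rfl | rfl)
        · exact ⟨map_one _, by norm_num⟩
        · exact ⟨hneg, htwo⟩) (Set.toFinite _)
  · -- the general case: count with additive characters
    have hq5 : 5 ≤ q := by
      have := hq'.two_le
      by_contra h
      obtain h | h : q = 2 ∨ q = 4 := by omega
      · exact hq h
      · rw [h] at hq'; exact absurd hq' (by norm_num)
    let U : Finset F := Finset.univ.filter fun a => Algebra.norm (ZMod p) a = 1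
    have hcount : (U.filter fun u => 2 - u ∈ U).card = E.ncard := by
      rw [Set.ncard_eq_toFinset_card']
      congr 1
      ext x; simp [U, hE]
    rw [← hcount]
    have hUcard : U.card * (p - 1) = p ^ q - 1 := by
      let N : Fˣ →* (ZMod p)ˣ := Units.map (Algebra.norm (ZMod p) (S := F))
      have hsurj : Function.Surjective N := FiniteField.unitsMap_norm_surjective (ZMod p) F
      have h1 : Nat.card N.ker * Nat.card (ZMod p)ˣ = Nat.card Fˣ := by
        rw [← Subgroup.card_mul_index N.ker, Subgroup.index_ker, MonoidHom.range_eq_top.mpr hsurj,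
          Subgroup.card_top]
      rw [Nat.card_units, Nat.card_units, Nat.card_zmod, Nat.card_eq_fintype_card (α := F), hcard] at h1
      rw [← h1]
      congr 1
      rw [← Nat.card_eq_finsetCard]
      refine Nat.card_congr ⟨fun x => ⟨Units.mk0 x.1 ?_, ?_⟩, fun x => ⟨(x.1 : Fˣ), ?_⟩, ?_, ?_⟩
      · intro h
        have hx := (Finset.mem_filter.mp x.2).2
        rw [h, Algebra.norm_zero] at hx
        exact zero_ne_one hx
      · exact Units.ext (Finset.mem_filter.mp x.2).2
      · exact Finset.mem_filter.mpr ⟨Finset.mem_univ _, congrArg Units.val (show N x.1 = 1 from x.2)⟩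
      · intro x; rfl
      · intro x; exact Subtype.ext (Units.ext rfl)
    have hlow : p ^ (q - 1) + p ^ (q - 2) ≤ U.card := by
      obtain ⟨r, rfl⟩ : ∃ r, q = r + 2 := ⟨q - 2, by omega⟩
      simp only [Nat.add_sub_cancel, show r + 2 - 1 = r + 1 by omega]
      by_contra h
      push Not at h
      have h1 : U.card * (p - 1) < (p ^ (r + 1) + p ^ r) * (p - 1) :=
        Nat.mul_lt_mul_of_pos_right h (by omega)
      have h2 : (p ^ (r + 1) + p ^ r) * (p - 1) + p ^ r = p ^ (r + 2) := by
        obtain ⟨m, rfl⟩ : ∃ m, p = m + 1 := ⟨p - 1, by omega⟩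
        simp only [Nat.add_sub_cancel]; ring
      have h3 : 1 ≤ p ^ r := Nat.one_le_pow _ _ hp'.pos
      omega
    refine OddLocal.NormSum.two_le_card_sum U (by simp [U]) ?_ ?_ 2 h2 ?_ ?_
    · intro a ha b hb
      simp only [U, Finset.mem_filter, Finset.mem_univ, true_and] at ha hb ⊢
      rw [map_mul, ha, hb, mul_one]
    · simp [U, Algebra.norm_zero]
    · rw [hcard]
      obtain ⟨r, rfl⟩ : ∃ r, q = r + 5 := ⟨q - 5, by omega⟩
      have hN : ((p : ℝ) ^ (r + 4) + (p : ℝ) ^ (r + 3)) ≤ U.card := by
        have : ((p ^ (r + 5 - 1) + p ^ (r + 5 - 2) : ℕ) : ℝ) ≤ (U.card : ℝ) := by exact_mod_cast hlow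
        simpa [show r + 5 - 1 = r + 4 by omega, show r + 5 - 2 = r + 3 by omega] using this
      have hP : (3 : ℝ) ≤ p := by exact_mod_cast hp3
      push_cast
      set P : ℝ := (p : ℝ)
      set t : ℝ := P ^ r with ht
      have ht1 : 1 ≤ t := one_le_pow₀ (by linarith)
      simp only [pow_add, ← ht] at hN ⊢
      have hbig : t ^ 2 * P ^ 8 ≤ (U.card : ℝ) ^ 2 - t * P ^ 5 := by
        have h' : (t * P ^ 4 + t * P ^ 3) ^ 2 ≤ (U.card : ℝ) ^ 2 :=
          pow_le_pow_left₀ (by positivity) hN 2
        have : t * P ^ 5 ≤ 2 * t ^ 2 * P ^ 7 := by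
          have e1 : t ≤ t ^ 2 := by nlinarith only [ht1]
          have e2 : (1 : ℝ) ≤ 2 * P ^ 2 := by nlinarith only [hP]
          have e3 : (0 : ℝ) ≤ P ^ 5 := by positivity
          calc t * P ^ 5 ≤ t ^ 2 * P ^ 5 := mul_le_mul_of_nonneg_right e1 e3
            _ = t ^ 2 * P ^ 5 * 1 := (mul_one _).symm
            _ ≤ t ^ 2 * P ^ 5 * (2 * P ^ 2) := mul_le_mul_of_nonneg_left e2 (mul_nonneg (sq_nonneg t) e3)
            _ = 2 * t ^ 2 * P ^ 7 := by ring
        nlinarith [mul_nonneg (sq_nonneg t) (pow_nonneg (show (0:ℝ) ≤ P by linarith) 6)]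
      calc (t * P ^ 5) ^ 3 < (t ^ 2 * P ^ 8) ^ 2 := by
            have h3 : t ^ 3 * P ^ 15 < t ^ 4 * P ^ 16 := by
              have : t ^ 3 * P ^ 15 * 1 < t ^ 3 * P ^ 15 * (t * P) :=
                mul_lt_mul_of_pos_left (by nlinarith) (by positivity)
              nlinarith
            nlinarith
        _ ≤ ((U.card : ℝ) ^ 2 - t * P ^ 5) ^ 2 := pow_le_pow_left₀ (by positivity) hbig 2
    · rw [hcard]
      have : p ^ q ≤ U.card ^ 2 := by
        calc p ^ q ≤ p ^ ((q - 1) * 2) := Nat.pow_le_pow_right hp'.pos (by omega)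
          _ = (p ^ (q - 1)) ^ 2 := pow_mul _ _ _
          _ ≤ U.card ^ 2 := Nat.pow_le_pow_left (le_trans (Nat.le_add_right _ _) hlow) 2
      exact_mod_cast this

end Cfsg.Agent.S1471
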