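import Cfsg.Statements.S1302
import Cfsg.Agent.Lib.Components.AbelianSignalizer

set_option autoImplicit false
open Cfsg

namespace Cfsg.Agent.S1302

open Cfsg.Agent.Components Subgroup in

/-- Let X be a finite p-constrained group, p an odd prime, and A an abelian p-subgroup of X containing every element of order p of C_X(A). Then every subgroup of X of order prime to p that is normalized by A lies in O_{p'}(X). -/
theorem result {X : Type*} [Group X] [Finite X] (p : ℕ) [Fact p.Prime] (hp : p ≠ 2) (hX : Cfsg.IsPConstrained p X) (A : Subgroup X) (hA : IsMulCommutative ↥A) (hAp : IsPGroup p ↥A) (hΩ : ∀ x ∈ Subgroup.centralizer (A : Set X), orderOf x = p → x ∈ A) (Q : Subgroup X) (hQ : ¬ p ∣ Nat.card ↥Q) (hAQ : A ≤ Subgroup.normalizer (Q : Set X)) : Q ≤ Cfsg.pPrimeCore p X := by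
  have _ := hA
  set O := Cfsg.pPrimeCore p X
  set q := QuotientGroup.mk' O with hq
  set P := Cfsg.pCore p (X ⧸ O) with hPdef
  have hO : (Nat.card O).Coprime p := Cores.pPrimeCore_card_coprime p
  have hPp : IsPGroup p P := Cores.pCore_isPGroup p
  have hcons : centralizer (P : Set (X ⧸ O)) ≤ P := by
    obtain ⟨S⟩ : Nonempty (Sylow p (Cfsg.pPrimePCore p X)) := inferInstance
    rw [hPdef, ← Local.map_sylow_pPrimePCore S, ← Local.map_centralizer_eq (S.isPGroup'.map _) hO,
      Local.map_sylow_pPrimePCore S, Subgroup.map_le_iff_le_comap]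
    exact hX S
  have hQc : ¬ p ∣ Nat.card (Q.map q) := fun h => hQ (h.trans (Q.card_map_dvd q))
  have hdisj : ∀ z, z ∈ P → z ∈ Q.map q → z = 1 := fun z h1 h2 => by
    have hd : Disjoint P (Q.map q) := disjoint_of_coprime_natCard (by
      obtain ⟨k, hk⟩ := IsPGroup.iff_card.mp hPp
      rw [hk]
      exact (((Fact.out : p.Prime).coprime_iff_not_dvd.mpr hQc)).pow_left k)
    exact disjoint_def.mp hd h1 h2
  have hPn : P.Normal := inferInstance
  have h : Q.map q ≤ centralizer (P : Set (X ⧸ O)) := by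
    refine AbelianSignalizer.le_centralizer hp hPp (hAp.map q) hQc le_normalizer_of_normal
      ((Subgroup.map_mono hAQ).trans (le_normalizer_map q)) le_normalizer_of_normal fun x hx hxo => ?_
    have hxc := hx.2
    rw [← Local.map_centralizer_eq hAp hO] at hxc
    obtain ⟨c, hc, hcx⟩ := hxc
    obtain ⟨t, -, ht⟩ := Nat.exists_mul_mod_eq_one_of_coprime hO (Fact.out : p.Prime).one_lt
    have hqy : q (c ^ (Nat.card O * t)) = x := by
      rw [map_pow, hcx, ← pow_mod_orderOf, hxo, ht, pow_one]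
    have hcp : c ^ p ∈ O := by
      rw [← QuotientGroup.eq_one_iff]
      show q (c ^ p) = 1
      rw [map_pow, hcx]
      exact orderOf_dvd_iff_pow_eq_one.mp (dvd_of_eq hxo)
    have hyp : (c ^ (Nat.card O * t)) ^ p = 1 := by
      have h1 : (c ^ p) ^ Nat.card O = 1 := congrArg Subtype.val (pow_card_eq_one' (x := (⟨_, hcp⟩ : O)))
      rw [← pow_mul, show Nat.card O * t * p = p * Nat.card O * t by ring, pow_mul, pow_mul, h1, one_pow]
    have hy1 : c ^ (Nat.card O * t) ≠ 1 := fun h => by
      rw [h, map_one] at hqy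
      rw [← hqy, orderOf_one] at hxo
      exact (Fact.out : p.Prime).ne_one hxo.symm
    have hyA := hΩ _ ((centralizer (A : Set X)).pow_mem hc _) (orderOf_eq_prime hyp hy1)
    rw [mem_centralizer_iff]
    intro r hr
    obtain ⟨r, hr', rfl⟩ := hr
    have h1 : q r * x * (q r)⁻¹ * x⁻¹ = 1 := by
      refine hdisj _ (P.mul_mem (hPn.conj_mem x hx.1 _) (P.inv_mem hx.1)) ⟨r * (c ^ (Nat.card O * t) * r⁻¹ *
        (c ^ (Nat.card O * t))⁻¹), Q.mul_mem hr' ((mem_normalizer_iff.mp (hAQ hyA) _).mp (Q.inv_mem hr')), ?_⟩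
      rw [← hqy]
      simp only [map_mul, map_inv]
      group
    rw [mul_inv_eq_one, mul_inv_eq_iff_eq_mul] at h1
    exact h1
  intro r hr
  rw [← QuotientGroup.eq_one_iff]
  exact hdisj _ (hcons (h ⟨r, hr, rfl⟩)) ⟨r, hr, rfl⟩

end Cfsg.Agent.S1302
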