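import Cfsg.Statements.S1431
import Cfsg.Agent.OddLocal.KappaFixed
import Cfsg.Agent.S1425
-- import your own Cfsg.Agent.* helpers here

set_option autoImplicit false
open Cfsg

namespace Cfsg.Agent.S1431

/-- Let G be a minimal simple group of odd order, M a maximal subgroup, K ≠ 1 a Hall κ(M)-subgroup of M and K* = M_σ ∩ C_G(K). Then K* ∩ gMg⁻¹ = 1 for g ∉ M; K ∩ gKg⁻¹ = 1 for g ∈ M outside K K*; for every prime p dividing the order of K* and every Sylow p-subgroup S of M_σ, M is the unique maximal subgroup containing S, and S is not contained in K*; and every subgroup Y of G whose prime divisors lie in σ(M) and with Y ∩ K* ≠ 1 is contained in M_σ. -/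
theorem result {G : Type*} [Group G] [Finite G] (hG : Cfsg.IsMinSimpleOddOrder G)
    (M : Subgroup G) (hM : IsCoatom M) (K : Subgroup G) (hK : Cfsg.IsPiHallOf (Cfsg.kappa M) K M) (hK1 : K ≠ ⊥) :
    (∀ g : G, g ∉ M → (Cfsg.sigmaCore M ⊓ Subgroup.centralizer (K : Set G)) ⊓ M.map (MulAut.conj g).toMonoidHom = ⊥) ∧
      (∀ g ∈ M, g ∉ K ⊔ (Cfsg.sigmaCore M ⊓ Subgroup.centralizer (K : Set G)) → K ⊓ K.map (MulAut.conj g).toMonoidHom = ⊥) ∧
      (∀ (p : ℕ), p.Prime → p ∣ Nat.card ↥(Cfsg.sigmaCore M ⊓ Subgroup.centralizer (K : Set G)) → ∀ S : Sylow p ↥(Cfsg.sigmaCore M),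
        Cfsg.InUniqueMaximal ((S : Subgroup ↥(Cfsg.sigmaCore M)).map (Cfsg.sigmaCore M).subtype) ∧
        (S : Subgroup ↥(Cfsg.sigmaCore M)).map (Cfsg.sigmaCore M).subtype ≤ M ∧
        ¬ (S : Subgroup ↥(Cfsg.sigmaCore M)).map (Cfsg.sigmaCore M).subtype ≤ (Cfsg.sigmaCore M ⊓ Subgroup.centralizer (K : Set G))) ∧
      ∀ Y : Subgroup G, (∀ p : ℕ, p.Prime → p ∣ Nat.card Y → p ∈ Cfsg.sigma M) → Y ⊓ (Cfsg.sigmaCore M ⊓ Subgroup.centralizer (K : Set G)) ≠ ⊥ → Y ≤ Cfsg.sigmaCore M := by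
  obtain ⟨E, U, hd⟩ := OddLocal.KappaStructure.exists_data hG hM hK hK1
  refine ⟨fun g hg => ?_, fun g hgM hg => ?_, fun p hp hpW S => ?_, fun Y hYσ hY => ?_⟩
  · by_contra hne
    obtain ⟨y, hy, hy1⟩ := (Subgroup.bot_or_exists_ne_one _).resolve_left hne
    exact hg (OddLocal.KappaFixed.mem_of_fixed hG hM hK hK1 (Subgroup.mem_inf.mp hy).1 hy1
      (Subgroup.mem_inf.mp hy).2)
  · by_contra hne
    obtain ⟨x, hx, hx1⟩ := (Subgroup.bot_or_exists_ne_one _).resolve_left hne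
    obtain ⟨n, hn⟩ := OddLocal.KappaStructure.exists_prime_power hx1
    have := Fact.mk hn
    obtain ⟨hxK, a, ha, hax⟩ := Subgroup.mem_inf.mp (pow_mem hx n)
    have hao : orderOf a = orderOf (x ^ n) := by
      rw [← hax]; exact ((MulAut.conj g).orderOf_eq a).symm
    have hline : g * a * g⁻¹ ∈ Subgroup.zpowers a :=
      hd.line_unique (r := orderOf (x ^ n)) hG hK ha (show g * a * g⁻¹ ∈ K from
        (show g * a * g⁻¹ = x ^ n from hax) ▸ hxK) hao (by rw [show g * a * g⁻¹ = x ^ n from hax])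
    refine hg ((hd.normalizer_line hG hM ha hao).le (Subgroup.mem_inf.mpr ⟨hgM,
      Transfer.Fusion.map_conj_eq_self_iff.mp (Subgroup.eq_of_le_of_card_ge ?_
        (by rw [Transfer.Fusion.card_map_conj]))⟩))
    rw [MonoidHom.map_zpowers]
    exact Subgroup.zpowers_le.mpr hline
  · have := Fact.mk hp
    obtain ⟨y, hy⟩ := exists_prime_orderOf_dvd_card' p hpW
    rw [← Subgroup.orderOf_coe] at hy
    have hpσ : p ∈ sigma M := OddLocal.Transitivity.isPi_piCoreOf (sigma M) M p hp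
      (hpW.trans (Subgroup.card_dvd_of_le inf_le_left))
    obtain ⟨T, hT⟩ := OddLocal.MaxStruct.exists_sylow_of_core hG hM hpσ S
    have hTM : (T : Subgroup G) ≤ M :=
      hT ▸ (Subgroup.map_subtype_le _).trans (OddLocal.Sigma.sigmaCore_le M)
    rw [← hT]
    exact ⟨OddLocal.KappaFixed.sylow_unique hG hM hK hK1 y.2 hy T hTM, hTM,
      OddLocal.KappaFixed.not_le_fixed hG hM hK hK1 hpσ T hTM⟩
  · obtain ⟨y, hy, hy1⟩ := (Subgroup.bot_or_exists_ne_one _).resolve_left hY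
    obtain ⟨hyY, hyW⟩ := Subgroup.mem_inf.mp hy
    obtain ⟨g, hg⟩ := S1425.result hG M hM Y (fun e => hy1 (Subgroup.mem_bot.mp (e ▸ hyY))) hYσ
    have hgM : g⁻¹ ∈ M := OddLocal.KappaFixed.mem_of_fixed hG hM hK hK1 hyW hy1 (g := g⁻¹)
      ⟨g * y * g⁻¹, OddLocal.Sigma.sigmaCore_le M (hg ⟨y, hyY, rfl⟩),
        show g⁻¹ * (g * y * g⁻¹) * g⁻¹⁻¹ = y by group⟩
    intro z hz
    exact (Subgroup.mem_normalizer_iff.mp
      (OddLocal.Sigma.le_normalizer_sigmaCore M (inv_mem_iff.mp hgM)) z).mpr (hg ⟨z, hz, rfl⟩)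

end Cfsg.Agent.S1431
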