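import Cfsg.Statements.S1469
import Cfsg.Agent.OddLocal.PuigTheorem
import Cfsg.Agent.OddLocal.Frattini
-- import your own Cfsg.Agent.* helpers here

set_option autoImplicit false
open Cfsg

namespace Cfsg.Agent.S1469

/-- Let p be an odd prime, G a solvable group of odd order and S a Sylow p-subgroup, and let Z be the centre of the Puig subgroup L(S), viewed inside G. Then G is generated by O_{p'}(G) and N_G(Z); and if O_{p'}(G) = 1 then Z is normal in G. -/
theorem result {G : Type*} [Group G] [Finite G] [Group.IsSolvable G] (hodd : Odd (Nat.card G)) (p : ℕ) [Fact p.Prime] (hp : p ≠ 2) (S : Sylow p G) :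
    Cfsg.pPrimeCore p G ⊔ Subgroup.normalizer ((((Subgroup.center ↥(Cfsg.puigSubgroup ↥(S : Subgroup G))).map (Cfsg.puigSubgroup ↥(S : Subgroup G)).subtype).map (S : Subgroup G).subtype : Subgroup G) : Set G) = ⊤ ∧
      (Cfsg.pPrimeCore p G = ⊥ → (((Subgroup.center ↥(Cfsg.puigSubgroup ↥(S : Subgroup G))).map (Cfsg.puigSubgroup ↥(S : Subgroup G)).subtype).map (S : Subgroup G).subtype).Normal) := by
  rw [OddLocal.Puig.map_center_eq]
  show pPrimeCore p G ⊔ Subgroup.normalizer ((OddLocal.Puig.upOf (S : Subgroup G) ⊓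
    Subgroup.centralizer (OddLocal.Puig.upOf (S : Subgroup G) : Set G) : Subgroup G) : Set G) = ⊤ ∧ _
  refine ⟨?_, fun h0 => OddLocal.PuigTheorem.center_upOf_normal hp hodd h0 S⟩
  set K := pPrimeCore p G with hK
  set U := OddLocal.Puig.upOf (S : Subgroup G) with hU
  set W := U ⊓ Subgroup.centralizer (U : Set G) with hW
  set f := QuotientGroup.mk' K with hf
  have hfs : Function.Surjective f := QuotientGroup.mk'_surjective K
  have hinj : Set.InjOn f (S : Subgroup G) := fun a ha b hb hab => by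
    have hd : (S : Subgroup G) ⊓ K = ⊥ :=
      PLocal.Cores.inf_eq_bot_of_isPGroup_of_coprime S.isPGroup' PLocal.Cores.coprime_card_pPrimeCore
    refine (inv_mul_eq_one.mp (Subgroup.mem_bot.mp (hd ▸ ⟨Subgroup.mul_mem _ (Subgroup.inv_mem _ ha) hb, ?_⟩)))
    exact QuotientGroup.eq.mp hab
  have h := OddLocal.PuigTheorem.center_upOf_normal hp
    (hodd.of_dvd_nat (Subgroup.card_quotient_dvd_card K)) (Cores.pPrimeCore_quotient_self p)
    (S.mapSurjective hfs)
  rw [Sylow.coe_mapSurjective, OddLocal.Puig.upOf_map hinj, ← hU] at h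
  have hUS : U ≤ (S : Subgroup G) := OddLocal.Puig.upOf_le _
  have hWf : W.map f = U.map f ⊓ Subgroup.centralizer ((U.map f : Subgroup (G ⧸ K)) : Set (G ⧸ K)) := by
    refine le_antisymm ?_ ?_
    · rintro _ ⟨w, hw, rfl⟩
      refine ⟨⟨w, hw.1, rfl⟩, Subgroup.mem_centralizer_iff.mpr ?_⟩
      rintro _ ⟨u, hu, rfl⟩
      rw [← map_mul, ← map_mul, Subgroup.mem_centralizer_iff.mp hw.2 u hu]
    · rintro _ ⟨⟨w, hw, rfl⟩, hc⟩
      refine ⟨w, ⟨hw, Subgroup.mem_centralizer_iff.mpr fun u hu => ?_⟩, rfl⟩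
      refine hinj (Subgroup.mul_mem _ (hUS hu) (hUS hw)) (Subgroup.mul_mem _ (hUS hw) (hUS hu)) ?_
      rw [map_mul, map_mul]
      exact Subgroup.mem_centralizer_iff.mp hc (f u) ⟨u, hu, rfl⟩
  rw [← hWf] at h
  have hMn : (W ⊔ K).Normal := by
    have := h.comap f
    rwa [Subgroup.comap_map_eq, hf, QuotientGroup.ker_mk'] at this
  have hcop : (Nat.card K).Coprime (Nat.card W) := by
    obtain ⟨k, hk⟩ := (S.isPGroup'.to_le (inf_le_left.trans hUS : W ≤ (S : Subgroup G))).exists_card_eq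
    rw [hk]
    exact PLocal.Cores.coprime_card_pPrimeCore.pow_right k
  exact OddLocal.sup_normalizer_eq_top_of_sup_normal hMn hcop (Or.inl inferInstance)


end Cfsg.Agent.S1469
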