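import Cfsg.Statements.S1395
import Cfsg.Agent.OddLocal.TransitivityP
-- import your own Cfsg.Agent.* helpers here

set_option autoImplicit false
open Cfsg

namespace Cfsg.Agent.S1395

/-- Let G be a minimal simple group of odd order, A a subgroup satisfying the transitivity hypothesis with K = O_{π(A)'}(C_G(A)), q a prime not dividing the order of A, and P a proper subgroup all of whose prime divisors divide the order of A, containing A as a subnormal subgroup, such that any two maximal A-invariant q-subgroups are conjugate under K. Then (a) K ∩ C_G(P) = O_{π(A)'}(C_G(P)); (b) any two maximal P-invariant q-subgroups are conjugate under O_{π(A)'}(C_G(P)); (c) every maximal P-invariant q-subgroup is a maximal A-invariant q-subgroup; (d) for every maximal P-invariant q-subgroup Q, P ∩ N_G(P)' ≤ N_G(Q)' and N_G(P) is generated by O_{π(A)'}(C_G(P)) and N_G(P) ∩ N_G(Q). -/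
theorem result {G : Type*} [Group G] [Finite G] (hG : Cfsg.IsMinSimpleOddOrder G)
    (A : Subgroup G) (hA : Cfsg.TransitivityHypothesis A) (q : ℕ) (hq : q.Prime) (hqA : ¬ q ∣ Nat.card A)
    (P : Subgroup G) (hP : P ≠ ⊤) (hPπ : (∀ r : ℕ, r.Prime → r ∣ Nat.card P → r ∣ Nat.card A)) (hAP : A ≤ P) (hsn : (A.subgroupOf P).IsSubnormal)
    (htr : ∀ Q₁ ∈ Cfsg.maxInvSubgroups ⊤ A {q}, ∀ Q₂ ∈ Cfsg.maxInvSubgroups ⊤ A {q}, ∃ k ∈ Cfsg.piCoreOf (Cfsg.primesNotDvd (Nat.card A)) (Subgroup.centralizer (A : Set G)), Q₂ = Q₁.map (MulAut.conj k).toMonoidHom) :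
    Cfsg.piCoreOf (Cfsg.primesNotDvd (Nat.card A)) (Subgroup.centralizer (A : Set G)) ⊓ Subgroup.centralizer (P : Set G) = Cfsg.piCoreOf (Cfsg.primesNotDvd (Nat.card A)) (Subgroup.centralizer (P : Set G)) ∧
      (∀ Q₁ ∈ Cfsg.maxInvSubgroups ⊤ P {q}, ∀ Q₂ ∈ Cfsg.maxInvSubgroups ⊤ P {q}, ∃ k ∈ Cfsg.piCoreOf (Cfsg.primesNotDvd (Nat.card A)) (Subgroup.centralizer (P : Set G)), Q₂ = Q₁.map (MulAut.conj k).toMonoidHom) ∧
      Cfsg.maxInvSubgroups ⊤ P {q} ⊆ Cfsg.maxInvSubgroups ⊤ A {q} ∧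
      ∀ Q ∈ Cfsg.maxInvSubgroups ⊤ P {q},
        P ⊓ ⁅Subgroup.normalizer (P : Set G), Subgroup.normalizer (P : Set G)⁆ ≤ ⁅Subgroup.normalizer (Q : Set G), Subgroup.normalizer (Q : Set G)⁆ ∧
        Subgroup.normalizer (P : Set G) = Cfsg.piCoreOf (Cfsg.primesNotDvd (Nat.card A)) (Subgroup.centralizer (P : Set G)) ⊔ (Subgroup.normalizer (P : Set G) ⊓ Subgroup.normalizer (Q : Set G)) := by
  set π := Cfsg.primesNotDvd (Nat.card A) with hπ
  set Z := Cfsg.piCoreOf π (Subgroup.centralizer (A : Set G)) with hZ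
  set KP := Cfsg.piCoreOf π (Subgroup.centralizer (P : Set G)) with hKP
  have hCPA : Subgroup.centralizer (P : Set G) ≤ Subgroup.centralizer (A : Set G) :=
    Subgroup.centralizer_le hAP
  have ha : Z ⊓ Subgroup.centralizer (P : Set G) = KP := by
    refine le_antisymm (OddLocal.Transitivity.le_piCoreOf_of_normal inf_le_right ?_ ?_) (le_inf ?_ ?_)
    · exact le_trans (le_inf (hCPA.trans (OddLocal.Transitivity.le_normalizer_piCoreOf π _))
        Subgroup.le_normalizer) Subgroup.inf_normalizer_le_normalizer_inf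
    · exact fun r hr hd => OddLocal.Transitivity.isPi_piCoreOf π _ r hr
        (hd.trans (Subgroup.card_dvd_of_le inf_le_left))
    · exact OddLocal.Transitivity.le_core_centralizer hG hA
        ((OddLocal.Transitivity.piCoreOf_le π _).trans hCPA) (OddLocal.Transitivity.isPi_piCoreOf π _)
    · exact OddLocal.Transitivity.piCoreOf_le π _
  have hT := OddLocal.TransitivityP.trans_top hG hA htr hPπ hAP hsn
  have hc := OddLocal.TransitivityP.max_subset hG hA hq hqA hPπ hAP hT
  have hb : ∀ Q₁ ∈ Cfsg.maxInvSubgroups ⊤ P {q}, ∀ Q₂ ∈ Cfsg.maxInvSubgroups ⊤ P {q},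
      ∃ k ∈ KP, Q₂ = Q₁.map (MulAut.conj k).toMonoidHom := by
    intro Q₁ h₁ Q₂ h₂
    obtain ⟨k, hk, hkQ⟩ := hT.2 Q₁ (hc h₁) Q₂ (hc h₂) h₁.1.2.2 h₂.1.2.2
    exact ⟨k, ha ▸ hk, hkQ⟩
  refine ⟨ha, hb, hc, fun Q hQ => ?_⟩
  set N := Subgroup.normalizer (P : Set G) with hN
  set U := N ⊓ Subgroup.normalizer (Q : Set G) with hU
  have hPN : P ≤ N := Subgroup.le_normalizer
  have hKPN : KP ≤ N :=
    (OddLocal.Transitivity.piCoreOf_le π _).trans (Subgroup.centralizer_le_normalizer _)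
  have he : N = KP ⊔ U := by
    refine le_antisymm (fun g hg => ?_) (sup_le hKPN inf_le_left)
    have hgQ : Q.map (MulAut.conj g).toMonoidHom ∈ Cfsg.maxInvSubgroups ⊤ P {q} :=
      OddLocal.Transitivity.conj_mem_maxInvSubgroups hg hQ
    obtain ⟨k, hk, hkQ⟩ := hb Q hQ _ hgQ
    have h1 : k⁻¹ * g ∈ U := by
      refine ⟨Subgroup.mul_mem _ (Subgroup.inv_mem _ (hKPN hk)) hg, ?_⟩
      show k⁻¹ * g ∈ Subgroup.normalizer (Q : Set G)
      refine Subgroup.mem_normalizer_iff_map_conj_eq.mpr ?_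
      show Q.map (MulAut.conj (k⁻¹ * g)).toMonoidHom = Q
      rw [← OddLocal.Transitivity.map_conj_map, hkQ, OddLocal.Transitivity.map_conj_map,
        inv_mul_cancel, OddLocal.Transitivity.map_conj_one]
    have e : g = k * (k⁻¹ * g) := by group
    rw [e]
    exact Subgroup.mul_mem_sup hk h1
  refine ⟨?_, he⟩
  have hPne : P ≠ ⊥ := fun h => hA.1 (le_bot_iff.mp (h ▸ hAP))
  have hNs : Group.IsSolvable N := OddLocal.Transitivity.isSolvable_of_ne_top hG
    (OddLocal.Transitivity.normalizer_ne_top hG hPne hP)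
  have hKn : (KP.subgroupOf N).Normal := by
    refine (Subgroup.normal_subgroupOf_iff_le_normalizer hKPN).mpr ?_
    rw [he]
    refine sup_le Subgroup.le_normalizer fun u hu => ?_
    apply Subgroup.mem_normalizer_fintype (S := (KP : Set G))
    intro x hx
    have hx' := ha ▸ hx
    have hXC : KP.map (MulAut.conj u).toMonoidHom ≤ Subgroup.centralizer (P : Set G) := by
      refine (Subgroup.map_mono (OddLocal.Transitivity.piCoreOf_le π _)).trans ?_
      rintro _ ⟨y, hy, rfl⟩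
      rw [Subgroup.mem_centralizer_iff]
      intro v hv
      have hv' : u⁻¹ * v * u ∈ P := (Subgroup.mem_normalizer_iff''.mp hu.1 v).mp hv
      have h1 := Subgroup.mem_centralizer_iff.mp hy _ hv'
      show v * (u * y * u⁻¹) = u * y * u⁻¹ * v
      calc v * (u * y * u⁻¹) = u * ((u⁻¹ * v * u) * y) * u⁻¹ := by group
        _ = u * (y * (u⁻¹ * v * u)) * u⁻¹ := by rw [h1]
        _ = u * y * u⁻¹ * v := by group
    have hXZ : KP.map (MulAut.conj u).toMonoidHom ≤ Z :=
      OddLocal.Transitivity.le_core_centralizer hG hA (hXC.trans hCPA) (fun r hr hd =>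
        OddLocal.Transitivity.isPi_piCoreOf π _ r hr (OddLocal.Transitivity.card_map_conj u KP ▸ hd))
    show u * x * u⁻¹ ∈ (KP : Set G)
    rw [SetLike.mem_coe, ← ha]
    exact ⟨hXZ ⟨x, hx, rfl⟩, hXC ⟨x, hx, rfl⟩⟩
  have hPU : P ≤ U := le_inf hPN hQ.1.2.2
  have h := (S1460.result (KP.subgroupOf N) (U.subgroupOf N) (P.subgroupOf N) (by
      rw [← Subgroup.subgroupOf_sup hKPN inf_le_left, ← he, Subgroup.subgroupOf_self])
    (fun x hx => hPU hx) (by
      rw [Nat.card_congr (Subgroup.subgroupOfEquivOfLe hPN).toEquiv,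
        Nat.card_congr (Subgroup.subgroupOfEquivOfLe hKPN).toEquiv]
      exact OddLocal.TransitivityP.coprime_of_piGroup hPπ le_rfl
        (OddLocal.Transitivity.isPi_piCoreOf π _))).1
  have h2 := congrArg (Subgroup.map N.subtype) h
  rw [Subgroup.map_inf _ _ _ N.subtype_injective, Subgroup.map_inf _ _ _ N.subtype_injective,
    Subgroup.map_subgroupOf_eq_of_le hPN, Subgroup.map_subtype_commutator, Subgroup.map_commutator,
    Subgroup.map_subgroupOf_eq_of_le inf_le_left] at h2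
  rw [h2]
  exact inf_le_right.trans (Subgroup.commutator_mono inf_le_right inf_le_right)


end Cfsg.Agent.S1395
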