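import Cfsg.Statements.S2530
import Cfsg.Agent.Lib.BN.Matsumoto
-- import your own Cfsg.Agent.* helpers here

set_option autoImplicit false
open Cfsg

namespace Cfsg.Agent.S2530

open Equiv

/-- The adjacent transposition. -/
def g (n : ℕ) (i : Fin n) : Perm (Fin (n + 1)) := swap i.castSucc i.succ

theorem val_g {n : ℕ} (i : Fin n) (x : Fin (n + 1)) :
    (g n i x : ℕ) = if (x : ℕ) = i then (i : ℕ) + 1 else if (x : ℕ) = i + 1 then (i : ℕ) else x := by
  rw [g, swap_apply_def]
  simp only [Fin.ext_iff, Fin.val_castSucc, Fin.val_succ]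
  split_ifs <;> simp

theorem g_sq {n : ℕ} (i : Fin n) : g n i * g n i = 1 := swap_mul_self _ _

/-- An inversion of a product gives a shorter word. -/
theorem erase_of_inv {n : ℕ} : ∀ (L : List (Fin n)) (a b : Fin (n + 1)), a < b →
    (L.map (g n)).prod⁻¹ b < (L.map (g n)).prod⁻¹ a →
    ∃ j < L.length, swap a b * (L.map (g n)).prod = ((L.eraseIdx j).map (g n)).prod
  | [], a, b, hab, h => by
    simp at h
    exact absurd h (not_lt.2 hab.le)
  | t :: L, a, b, hab, h => by
    simp only [List.map_cons, List.prod_cons, mul_inv_rev, Perm.mul_apply] at h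
    rw [inv_eq_of_mul_eq_one_right (g_sq t)] at h
    by_cases hab' : g n t a < g n t b
    · obtain ⟨j, hj, he⟩ := erase_of_inv L _ _ hab' h
      refine ⟨j + 1, by simpa using hj, ?_⟩
      simp only [List.eraseIdx_cons_succ, List.map_cons, List.prod_cons]
      rw [← he, ← mul_assoc, ← mul_assoc]
      congr 1
      rw [swap_apply_apply, inv_eq_of_mul_eq_one_right (g_sq t)]
      simp only [← mul_assoc, g_sq, one_mul]
    · refine ⟨0, by simp, ?_⟩
      simp only [List.eraseIdx_cons_zero, List.map_cons, List.prod_cons]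
      have h1 : a = t.castSucc ∧ b = t.succ := by
        rw [Fin.lt_def, val_g, val_g] at hab'
        rw [Fin.lt_def] at hab
        simp only [Fin.ext_iff, Fin.val_castSucc, Fin.val_succ]
        split_ifs at hab' <;> omega
      rw [h1.1, h1.2, ← mul_assoc]
      show g n t * g n t * _ = _
      rw [g_sq, one_mul]

theorem exchange (n : ℕ) : Cfsg.Agent.BN.Matsumoto.Exchange (g n) := by
  intro s L hL hns
  have hlt : s.castSucc < s.succ := by simp
  by_cases h : (L.map (g n)).prod⁻¹ s.succ < (L.map (g n)).prod⁻¹ s.castSucc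
  · exact erase_of_inv L _ _ hlt h
  exfalso
  simp only [Cfsg.Agent.BN.Matsumoto.Red, not_forall, not_le] at hns
  obtain ⟨L', hprod, hlen⟩ := hns
  simp only [List.map_cons, List.prod_cons, List.length_cons] at hprod hlen
  have hne : (L.map (g n)).prod⁻¹ s.castSucc ≠ (L.map (g n)).prod⁻¹ s.succ := fun e =>
    hlt.ne ((L.map (g n)).prod⁻¹.injective e)
  obtain ⟨j, hj, he⟩ := erase_of_inv L' _ _ hlt (by
    rw [hprod, mul_inv_rev, Perm.mul_apply, Perm.mul_apply, inv_eq_of_mul_eq_one_right (g_sq s), g,
      swap_apply_left, swap_apply_right]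
    exact lt_of_le_of_ne (not_lt.1 h) hne)
  rw [hprod, ← mul_assoc] at he
  have h1 := hL (L'.eraseIdx j) (by rw [← he]; show _ = _; rw [show swap s.castSucc s.succ = g n s from rfl, g_sq, one_mul])
  rw [List.length_eraseIdx, if_pos hj] at h1
  omega

theorem order_pair {n : ℕ} (i j : Fin n) :
    orderOf (g n i * g n j) = CoxeterMatrix.A n i j := by
  by_cases hij : i = j
  · subst hij
    rw [g_sq, orderOf_one, CoxeterMatrix.diagonal]
  have hv : (i : ℕ) ≠ j := fun e => hij (Fin.ext e)
  have hA : CoxeterMatrix.A n i j = if (j : ℕ) + 1 = i ∨ (i : ℕ) + 1 = j then 3 else 2 := by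
    show (if i = j then 1 else if (j : ℕ) + 1 = i ∨ (i : ℕ) + 1 = j then 3 else 2) = _
    rw [if_neg hij]
  haveI : Fact (Nat.Prime 2) := ⟨Nat.prime_two⟩
  haveI : Fact (Nat.Prime 3) := ⟨Nat.prime_three⟩
  have hne : g n i * g n j ≠ 1 := fun e => by
    have h := congrArg Fin.val (DFunLike.congr_fun e i.succ)
    rw [Perm.mul_apply, val_g, val_g, Fin.val_succ, Perm.one_apply] at h
    simp only [Fin.val_succ] at h
    split_ifs at h <;> omega
  rw [hA]
  split_ifs with hadj
  · rcases hadj with h | h
    · have e1 : g n i = swap j.succ i.succ := by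
        rw [g, show i.castSucc = j.succ from Fin.ext (by simp; omega)]
      have e2 : g n j = swap j.succ j.castSucc := swap_comm _ _
      rw [e1, e2]
      exact (Perm.isThreeCycle_swap_mul_swap_same (by simp [Fin.ext_iff]; omega)
        (by simp [Fin.ext_iff]) (by simp [Fin.ext_iff]; omega)).orderOf
    · have e1 : g n i = swap i.succ i.castSucc := swap_comm _ _
      have e2 : g n j = swap i.succ j.succ := by
        rw [g, show j.castSucc = i.succ from Fin.ext (by simp; omega)]
      rw [e1, e2]
      exact (Perm.isThreeCycle_swap_mul_swap_same (by simp [Fin.ext_iff])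
        (by simp [Fin.ext_iff]; omega) (by simp [Fin.ext_iff]; omega)).orderOf
  · have hc : g n i * g n j = g n j * g n i := Perm.ext fun x => Fin.ext (by
      simp only [Perm.mul_apply, val_g]
      split_ifs <;> omega)
    refine orderOf_eq_prime ?_ hne
    rw [pow_two]
    nth_rw 2 [hc]
    rw [mul_assoc, ← mul_assoc (g n j), g_sq, one_mul, g_sq]

/-- The Coxeter presentation of the symmetric group: for every n, the symmetric group on n+1 letters is the Coxeter group of type A_n with the adjacent transpositions (i, i+1) as simple reflections; that is, it is presented by generators r_1, …, r_n subject to r_i² = 1, (r_i r_j)² = 1 for |i − j| > 1 and (r_i r_{i+1})³ = 1, with r_i mapping to (i, i+1). -/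
theorem result (n : ℕ) :
    ∃ cs : CoxeterSystem (CoxeterMatrix.A n) (Equiv.Perm (Fin (n + 1))), ∀ i : Fin n, cs.simple i = Equiv.swap i.castSucc i.succ := by
  obtain ⟨M', cs, hcs⟩ := Cfsg.Agent.BN.Matsumoto.exists_coxeterSystem (g := g n)
    (fun i j e => by
      have h := congrArg Fin.val (DFunLike.congr_fun e i.castSucc)
      rw [val_g, val_g, Fin.val_castSucc] at h
      simp only [] at h
      exact Fin.ext (by split_ifs at h <;> omega))
    (fun i e => by
      have h := congrArg Fin.val (DFunLike.congr_fun e i.castSucc)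
      rw [val_g, Perm.one_apply, Fin.val_castSucc, if_pos rfl] at h
      omega)
    (fun w => by
      have hw : w ∈ Submonoid.closure (Set.range (g n)) := by
        rw [show g n = fun i : Fin n => swap i.castSucc i.succ from rfl,
          Equiv.Perm.mclosure_swap_castSucc_succ]
        trivial
      obtain ⟨L, hL, hprod⟩ := Submonoid.exists_list_of_mem_closure hw
      obtain ⟨L', rfl⟩ : ∃ L' : List (Fin n), L'.map (g n) = L := by
        clear hprod
        induction L with
        | nil => exact ⟨[], rfl⟩
        | cons a L ih =>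
          obtain ⟨i, hi⟩ := hL a (List.mem_cons_self ..)
          obtain ⟨L', hL'⟩ := ih fun x hx => hL x (List.mem_cons_of_mem _ hx)
          exact ⟨i :: L', by rw [List.map_cons, hi, hL']⟩
      exact ⟨L', hprod⟩)
    (exchange n) g_sq
  set M := CoxeterMatrix.A n
  have hlift : M.IsLiftable (g n) := fun i j => by
    rw [← order_pair i j]; exact pow_orderOf_eq_one _
  have hlift' : M'.IsLiftable M.toCoxeterSystem.simple := fun i j => by
    have h2 : (g n i * g n j) ^ M' i j = 1 := by
      rw [← hcs, ← hcs]; exact cs.simple_mul_simple_pow i j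
    obtain ⟨c, hc⟩ := orderOf_dvd_of_pow_eq_one h2
    rw [order_pair] at hc
    rw [hc, pow_mul, M.toCoxeterSystem.simple_mul_simple_pow, one_pow]
  let f : Perm (Fin (n + 1)) →* M.Group := cs.lift ⟨_, hlift'⟩
  let q : M.Group →* Perm (Fin (n + 1)) := M.toCoxeterSystem.lift ⟨_, hlift⟩
  have hf : ∀ i, f (g n i) = M.simple i := fun i => by
    rw [← hcs]; exact cs.lift_apply_simple hlift' i
  have hq : ∀ i, q (M.simple i) = g n i := fun i => M.toCoxeterSystem.lift_apply_simple hlift i
  have hfq : f.comp q = MonoidHom.id _ := M.toCoxeterSystem.ext_simple fun i => by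
    show f (q (M.simple i)) = M.simple i
    rw [hq, hf]
  have hqf : q.comp f = MonoidHom.id _ := cs.ext_simple fun i => by
    rw [hcs]
    show q (f (g n i)) = g n i
    rw [hf, hq]
  exact ⟨⟨MonoidHom.toMulEquiv f q hqf hfq⟩, fun i => hq i⟩

end Cfsg.Agent.S2530
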