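import Cfsg.Statements.S0732
import Cfsg.Agent.Lib.Perm.Zassenhaus.Main
import Cfsg.Agent.Lib.Perm.Zassenhaus.Odd
import Cfsg.Agent.Lib.Perm.Zassenhaus.Semiaffine
import Cfsg.Agent.Lib.Classical.SmallIso

set_option autoImplicit false
open Cfsg

namespace Cfsg.Agent.S0732

open MulAction

/-- `PGL` of a ring isomorphism -/
def pglCongr {K L : Type*} [CommRing K] [CommRing L] (e : K ≃+* L) :
    Matrix.ProjGenLinGroup (Fin 2) K ≃* Matrix.ProjGenLinGroup (Fin 2) L :=
  MonoidHom.toMulEquiv (Matrix.ProjGenLinGroup.map e.toRingHom)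
    (Matrix.ProjGenLinGroup.map e.symm.toRingHom)
    (by rw [← Matrix.ProjGenLinGroup.map_comp]; simp)
    (by rw [← Matrix.ProjGenLinGroup.map_comp]; simp)

/-- A transitive permutation group on `p + 1` points (`p` prime) of order `(p+1) p d` with `d < p` is isomorphic to `PGL(2,p)` with `d = p - 1`, or to `PSL(2,p)` with `2d = p - 1`, or else `p + 1 = 2^q` for a prime `q`, `d = 1` or `d = q`, and the group is permutation-isomorphic to a group of semi-affine maps `x ↦ a φ(x) + b` of the field with `2^q` elements. -/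
theorem result {α : Type*} [Fintype α] [DecidableEq α] {p d : ℕ} (hp : p.Prime) (hα : Fintype.card α = p + 1) (G : Subgroup (Equiv.Perm α)) [MulAction.IsPretransitive G α] (hG : Nat.card G = (p + 1) * p * d) (hd : d < p) : (d = p - 1 ∧ Nonempty (G ≃* Matrix.ProjGenLinGroup (Fin 2) (ZMod p))) ∨ (2 * d = p - 1 ∧ Nonempty (G ≃* Matrix.ProjectiveSpecialLinearGroup (Fin 2) (ZMod p))) ∨ (∃ q : ℕ, q.Prime ∧ p + 1 = 2 ^ q ∧ (d = 1 ∨ d = q) ∧ ∃ e : α ≃ GaloisField 2 q, ∀ g : G, (e.symm.trans (((g : Equiv.Perm α)).trans e)) ∈ Cfsg.semiaffineGroup (GaloisField 2 q)) := by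
  classical
  haveI := Fact.mk hp
  have hp2 := hp.two_le
  have hαN : Nat.card α = p + 1 := by rw [Nat.card_eq_fintype_card, hα]
  obtain ⟨a⟩ : Nonempty α := Fintype.card_pos_iff.1 (by omega)
  have hd0 : d ≠ 0 := fun h => by simp [h] at hG
  have hGa : Nat.card (stabilizer G a) = p * d := by
    have h := (stabilizer G a).index_mul_card
    rw [index_stabilizer_of_transitive, hαN, hG, mul_assoc] at h
    exact Nat.eq_of_mul_eq_mul_left (by omega) h
  -- the normal subgroup of order `p` in the stabilizer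
  obtain ⟨P₀⟩ : Nonempty (Sylow p (stabilizer G a)) := inferInstance
  have hP₀ : Nat.card P₀ = p := by
    rw [P₀.card_eq_multiplicity, hGa, Nat.factorization_mul hp.ne_zero hd0]
    simp [hp.factorization_self, Nat.factorization_eq_zero_of_lt hd]
  have hP₀n : (P₀ : Subgroup (stabilizer G a)).Normal := by
    have hi : (P₀ : Subgroup (stabilizer G a)).index = d := by
      have h := (P₀ : Subgroup (stabilizer G a)).index_mul_card
      rw [hP₀, hGa, mul_comm p d] at h
      exact Nat.eq_of_mul_eq_mul_right hp.pos h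
    have h1 := Nat.le_of_dvd (by omega) (hi ▸ P₀.card_dvd_index)
    have h2 : Nat.card (Sylow p (stabilizer G a)) % p = 1 % p := card_sylow_modEq_one p _
    rw [Nat.mod_eq_of_lt (by omega), Nat.one_mod_eq_one.2 (by omega), P₀.card_eq_index_normalizer,
      Subgroup.index_eq_one] at h2
    exact Subgroup.normalizer_eq_top_iff.1 h2
  set P := (P₀ : Subgroup (stabilizer G a)).map (stabilizer G a).subtype
  have hPle : P ≤ stabilizer G a := Subgroup.map_subtype_le _
  have hPa : ∀ u ∈ P, u • a = a := fun u hu => hPle hu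
  have hPn : ∀ g : G, g • a = a → ∀ u ∈ P, g * u * g⁻¹ ∈ P := by
    rintro g hg _ ⟨u, hu, rfl⟩
    exact ⟨_, hP₀n.conj_mem u hu ⟨g, hg⟩, rfl⟩
  have hPcard : Nat.card P = p := by
    rw [Subgroup.card_map_of_injective (stabilizer G a).subtype_injective, hP₀]
  haveI : IsCyclic P := isCyclic_of_prime_card hPcard
  have hPc : ∀ u ∈ P, ∀ v ∈ P, u * v = v * u := fun u hu v hv => by
    letI := IsCyclic.commGroup (α := P)
    exact congrArg Subtype.val (mul_comm (⟨u, hu⟩ : P) ⟨v, hv⟩)
  have hPprime : ∀ H : Subgroup P, H = ⊥ ∨ H = ⊤ := fun H => by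
    haveI : Fact (Nat.card P).Prime := ⟨hPcard.symm ▸ hp⟩
    exact H.eq_bot_or_eq_top_of_prime_card
  obtain ⟨u₀, hu₀1⟩ : ∃ u : P, u ≠ 1 := by
    haveI : Nontrivial P := Finite.one_lt_card_iff_nontrivial.1 (by omega)
    exact exists_ne 1
  obtain ⟨b, hb⟩ : ∃ b : α, (u₀ : G) • b ≠ b := by
    by_contra! h
    exact hu₀1 (Subtype.ext (eq_of_smul_eq_smul fun y => by rw [h y, OneMemClass.coe_one, one_smul]))
  have hab : a ≠ b := fun e => hb (e ▸ hPa _ u₀.2)
  -- it is transitive on the other points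
  have horb : orbit P b = ({a} : Set α)ᶜ := by
    refine Set.eq_of_subset_of_ncard_le ?_ ?_ (Set.toFinite _)
    · rintro _ ⟨u, rfl⟩ (h : (u : G) • b = a)
      exact hab (smul_left_cancel (u : G) ((hPa _ u.2).trans h.symm))
    · rw [Set.ncard_compl, Set.ncard_singleton, hαN, ← index_stabilizer]
      rcases hPprime (stabilizer P b) with h | h
      · rw [h, Subgroup.index_bot, hPcard]; simp
      · exact absurd (show u₀ ∈ stabilizer P b from h ▸ Subgroup.mem_top _) hb
  have hP : ∀ y z : α, y ≠ a → z ≠ a → ∃ u ∈ P, u • y = z := by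
    intro y z hy hz
    obtain ⟨u, hu : (u : G) • b = y⟩ := horb.symm ▸ (show y ∈ ({a} : Set α)ᶜ from hy)
    obtain ⟨v, hv : (v : G) • b = z⟩ := horb.symm ▸ (show z ∈ ({a} : Set α)ᶜ from hz)
    exact ⟨v * (u : G)⁻¹, mul_mem v.2 (inv_mem u.2), by rw [← hu, mul_smul, inv_smul_smul, hv]⟩
  have hfree : ∀ u ∈ P, ∀ y, y ≠ a → u • y = y → u = 1 := by
    intro u hu y hy huy
    refine eq_of_smul_eq_smul (α := α) fun z => ?_
    rw [one_smul]
    by_cases hz : z = a
    · rw [hz, hPa u hu]
    · obtain ⟨v, hv, rfl⟩ := hP y z hy hz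
      rw [← mul_smul, hPc u hu v hv, mul_smul, huy]
  have hF : Perm.Zassenhaus.Frame3 a b P :=
    { ne := hab
      faithful := inferInstance
      le := hPle
      normal := hPn
      comm := hPc
      reg := fun y z hy hz => by
        obtain ⟨u, hu, huy⟩ := hP y z hy hz
        refine ⟨⟨u, hu⟩, huy, fun v hv => Subtype.ext (inv_mul_eq_one.1 ?_).symm⟩
        refine hfree _ (mul_mem (inv_mem hu) v.2) y hy ?_
        rw [mul_smul, hv, inv_smul_eq_iff, huy]
      three := fun g hga hgb c hca hcb hgc => by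
        obtain ⟨v, hv, hvc⟩ := hP b c hab.symm hca
        have hgv : g * v * g⁻¹ = v := by
          refine (inv_mul_eq_one.1 (hfree _ (mul_mem (inv_mem hv) (hPn g hga v hv)) b hab.symm ?_)).symm
          rw [mul_smul, mul_smul, mul_smul, inv_smul_eq_iff.2 hgb.symm, hvc, hgc,
            inv_smul_eq_iff, hvc]
        have htop : (Subgroup.centralizer {g}).subgroupOf P = ⊤ :=
          (hPprime _).resolve_left fun h => by
            have hm : (⟨v, hv⟩ : P) ∈ (Subgroup.centralizer {g}).subgroupOf P := by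
              rw [Subgroup.mem_subgroupOf, Subgroup.mem_centralizer_singleton_iff]
              exact (mul_inv_eq_iff_eq_mul.1 hgv).symm
            rw [h, Subgroup.mem_bot] at hm
            have : v = 1 := congrArg Subtype.val hm
            rw [this, one_smul] at hvc
            exact hcb hvc.symm
        refine eq_of_smul_eq_smul (α := α) fun z => ?_
        rw [one_smul]
        by_cases hz : z = a
        · rw [hz, hga]
        · obtain ⟨u, hu, rfl⟩ := hP b z hab.symm hz
          have hm : (⟨u, hu⟩ : P) ∈ (Subgroup.centralizer {g}).subgroupOf P :=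
            htop ▸ Subgroup.mem_top _
          rw [Subgroup.mem_subgroupOf, Subgroup.mem_centralizer_singleton_iff] at hm
          rw [← mul_smul, ← hm, mul_smul, hgb] }
  have hA : Nat.card ↥(stabilizer G a ⊓ stabilizer G b) = d := by
    have h : Nat.card (P × ↥(stabilizer G a ⊓ stabilizer G b)) = Nat.card (stabilizer G a) := by
      refine Nat.card_eq_of_bijective (fun x => (⟨(x.1 : G) * x.2,
        mul_mem (hPle x.1.2) x.2.2.1⟩ : stabilizer G a)) ⟨fun x y e => ?_, fun g => ?_⟩
      · have e' : (x.1 : G) * x.2 = (y.1 : G) * y.2 := congrArg Subtype.val e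
        have h1 : x.1 = y.1 := by
          refine hF.eq_of_smul hab.symm ?_
          have h2 := congrArg (fun k : G => k • b) e'
          simp only [mul_smul] at h2
          rwa [(x.2.2.2 : (x.2 : G) • b = b), (y.2.2.2 : (y.2 : G) • b = b)] at h2
        exact Prod.ext h1 (Subtype.ext (mul_left_cancel (h1 ▸ e')))
      · obtain ⟨u, hu, hub⟩ := hP b ((g : G) • b) hab.symm
          fun e => hab (smul_left_cancel (g : G) (g.2.trans e.symm))
        refine ⟨(⟨u, hu⟩, ⟨u⁻¹ * g, show u⁻¹ * (g : G) ∈ stabilizer G a from mul_mem (inv_mem (hPle hu)) g.2, ?_⟩), Subtype.ext ?_⟩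
        · show (u⁻¹ * (g : G)) • b = b
          rw [mul_smul, inv_smul_eq_iff, hub]
        · exact mul_inv_cancel_left u (g : G)
    rw [Nat.card_prod, hPcard, hGa] at h
    exact Nat.eq_of_mul_eq_mul_left hp.pos h
  obtain ⟨k, hk⟩ : d ∣ p - 1 := by
    have := hF.card_dvd
    rwa [hA, hPcard] at this
  -- double transitivity
  have htwo : ∀ y z : α, y ≠ z → ∃ g : G, g • y = a ∧ g • z = b := by
    intro y z hyz
    obtain ⟨g, hg⟩ := exists_smul_eq G y a
    obtain ⟨u, hu, hub⟩ := hP (g • z) b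
      (fun e => hyz (smul_left_cancel g (hg.trans e.symm))) hab.symm
    exact ⟨u * g, by rw [mul_smul, hg, hPa u hu], by rw [mul_smul, hub]⟩
  have h2 : IsMultiplyPretransitive G α 2 := by
    rw [is_two_pretransitive_iff]
    intro y y' z z' hy hz
    obtain ⟨g, hgy, hgy'⟩ := htwo y y' hy
    obtain ⟨k, hkz, hkz'⟩ := htwo z z' hz
    exact ⟨k⁻¹ * g, by rw [mul_smul, hgy, inv_smul_eq_iff, hkz],
      by rw [mul_smul, hgy', inv_smul_eq_iff, hkz']⟩
  rcases eq_or_ne p 2 with rfl | hpodd
  · -- degree three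
    left
    refine ⟨by omega, ?_⟩
    have htop : G = ⊤ := Subgroup.eq_top_of_card_eq _ (by
      rw [hG, Nat.card_perm, hαN, show d = 1 by omega]; rfl)
    let s : G := ⟨Equiv.swap a b, htop ▸ Subgroup.mem_top _⟩
    have hsx : s • a = b := Equiv.swap_apply_left a b
    have hs : s * s = 1 := Subtype.ext (Equiv.swap_mul_self a b)
    have hc : Nat.card α = Nat.card ↥(stabilizer G a ⊓ stabilizer G b) + 2 := by
      rw [hA, hαN]; omega
    obtain ⟨K, i1, i2, hK, hpgl, -⟩ := hF.iso_of_inverted hsx hs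
      (hF.inverted_char_two hsx hs (fun u hu => by
        have h1 : (⟨u, hu⟩ : P) ^ Nat.card P = 1 := pow_card_eq_one'
        rw [hPcard, pow_two] at h1
        exact congrArg Subtype.val h1) hc) (Or.inl hc)
    exact ⟨(hpgl hc).some.trans (pglCongr (FiniteField.ringEquivOfCardEq
      (by rw [ZMod.card]; omega)))⟩
  by_cases hR : ∃ R : Subgroup G, R.Normal ∧ IsPretransitive R α ∧ ∀ y : α, stabilizer R y = ⊥
  · -- a regular normal subgroup
    right; right
    obtain ⟨R, hRn, hRt, hRs⟩ := hR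
    have hreg : ∀ y z : α, ∃! r : R, (r : G) • y = z := fun y z => by
      obtain ⟨r, hr⟩ := exists_smul_eq R y z
      refine ⟨r, hr, fun r' hr' => ?_⟩
      have hm : r⁻¹ * r' ∈ stabilizer R y := by
        rw [mem_stabilizer_iff, mul_smul, inv_smul_eq_iff]; exact Eq.trans hr' hr.symm
      rw [hRs, Subgroup.mem_bot, inv_mul_eq_one] at hm
      exact hm.symm
    have hRcard : Nat.card R = p + 1 := by
      rw [← hαN]
      exact Nat.card_eq_of_bijective (fun r : R => (r : G) • a)
        ⟨fun r r' e => (hreg a _).unique e rfl, fun y => (hreg a y).exists⟩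
    haveI : Fact (Nat.Prime 2) := ⟨Nat.prime_two⟩
    obtain ⟨t, ht⟩ := exists_prime_orderOf_dvd_card' (G := R) 2 (by
      rw [hRcard]; exact (hp.odd_of_ne_two hpodd).add_one.two_dvd)
    have hsq : ∀ r : R, r ^ 2 = 1 := by
      intro r
      by_cases hr : r = 1
      · rw [hr, one_pow]
      have ht1 : t ≠ 1 := fun h => by simp [h] at ht
      have hne : ∀ r : R, r ≠ 1 → (r : G) • a ≠ a := fun r hr h =>
        hr ((hreg a a).unique h (one_smul G a))
      obtain ⟨u, hu, hur⟩ := hP _ _ (hne t ht1) (hne r hr)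
      have e : MulAut.conjNormal (H := R) u t = r := by
        refine (hreg a _).unique ?_ rfl
        rw [MulAut.conjNormal_apply, mul_smul, mul_smul, inv_smul_eq_iff.2 (hPa u hu).symm, hur]
      rw [← e, ← map_pow, ← ht, pow_orderOf_eq_one, map_one]
    have hRc : ∀ u ∈ R, ∀ v ∈ R, u * v = v * u := fun u hu v hv =>
      congrArg Subtype.val (show (⟨u, hu⟩ : R) * ⟨v, hv⟩ = ⟨v, hv⟩ * ⟨u, hu⟩ from by
        have h1 : ∀ r : R, r⁻¹ = r := fun r => inv_eq_of_mul_eq_one_right ((pow_two r).symm.trans (hsq r))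
        calc _ = ((⟨u, hu⟩ : R) * ⟨v, hv⟩)⁻¹ := (h1 _).symm
          _ = _ := by rw [mul_inv_rev, h1, h1])
    obtain ⟨q, hq⟩ := IsPGroup.iff_card.1 (show IsPGroup 2 R from fun r => ⟨1, by simpa using hsq r⟩)
    rw [hRcard] at hq
    have hp3 : 3 ≤ p := by omega
    have hqp : q.Prime := by
      refine (Nat.prime_of_pow_sub_one_prime (a := 2) (n := q) ?_ ?_).2
      · rintro rfl; omega
      · rwa [← hq, Nat.add_sub_cancel]
    obtain ⟨e, he, hdvd⟩ := Perm.Zassenhaus.semiaffine_of_regular (G := G) (p := 2) hqp.ne_zero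
      (hαN.trans hq) R hRc hreg a P hPa hPc hPn hP
    refine ⟨q, hqp, hq, (Nat.dvd_prime hqp).1 (hA ▸ hdvd b hab.symm), e, fun g => ?_⟩
    obtain ⟨c, v, φ, h⟩ := he g
    exact ⟨c, v, φ, fun x => by simpa [Subgroup.smul_def] using h (e.symm x)⟩
  -- a Zassenhaus group
  have hd1 : 1 < d := by
    rcases Nat.lt_or_ge 1 d with h | h
    · exact h
    refine absurd ?_ hR
    haveI : Nontrivial α := ⟨⟨a, b, hab⟩⟩
    have hsh : ∀ t : Fin 2 ↪ α, stabilizer G t = ⊥ := fun t => by
      refine (Perm.Sharp.stabilizer_embedding_eq_bot_iff t).2 fun g hg => ?_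
      obtain ⟨k, hk0, hk1⟩ := htwo _ _ (t.injective.ne (show (0 : Fin 2) ≠ 1 by decide))
      have hm : k * g * k⁻¹ ∈ stabilizer G a ⊓ stabilizer G b := by
        constructor
        · show (k * g * k⁻¹) • a = a
          rw [← hk0, mul_smul, inv_smul_smul, mul_smul, hg 0]
        · show (k * g * k⁻¹) • b = b
          rw [← hk1, mul_smul, inv_smul_smul, mul_smul, hg 1]
      have hbot : stabilizer G a ⊓ stabilizer G b = ⊥ :=
        Subgroup.eq_bot_of_card_eq _ (by omega)
      rw [hbot, Subgroup.mem_bot, mul_inv_eq_one, mul_eq_left] at hm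
      exact hm
    obtain ⟨N, hN1, -, hN2, hN3, -⟩ := Perm.Sharp.exists_kernel h2 hsh
    exact ⟨N, hN1, hN2, hN3⟩
  have hZ : Cfsg.IsZassenhausGroup G α := by
    refine ⟨inferInstance, h2, ?_, ?_, ?_⟩
    · intro g x y z hxy hyz hxz hx hy hz
      obtain ⟨k, hkx, hky⟩ := htwo x y hxy
      have h := hF.three (k * g * k⁻¹) (by rw [← hkx, mul_smul, inv_smul_smul, mul_smul, hx])
        (by rw [← hky, mul_smul, inv_smul_smul, mul_smul, hy]) (k • z)
        (fun e => hxz (smul_left_cancel k (hkx.trans e.symm)))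
        (fun e => hyz (smul_left_cancel k (hky.trans e.symm)))
        (by rw [mul_smul, inv_smul_smul, mul_smul, hz])
      rwa [mul_inv_eq_one, mul_eq_left] at h
    · obtain ⟨⟨g, hg⟩, hg1⟩ : ∃ g : ↥(stabilizer G a ⊓ stabilizer G b), g ≠ 1 := by
        haveI : Nontrivial ↥(stabilizer G a ⊓ stabilizer G b) :=
          Finite.one_lt_card_iff_nontrivial.1 (by omega)
        exact exists_ne 1
      exact ⟨g, fun e => hg1 (Subtype.ext e), a, b, hab, hg.1, hg.2⟩
    · intro N hN hNt
      by_contra! h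
      exact hR ⟨N, hN, hNt, h⟩
  have hbound : Fintype.card α - 2 ≤ 2 * d := by
    rcases Nat.even_or_odd (Nat.card ↥(stabilizer G a ⊓ stabilizer G b)) with he | ho
    · rw [← hA]; exact S0741.result hZ hab he
    · rcases S0885.result hZ hab p d hα hA (hA ▸ ho) P hPle (by rw [hPcard, hα]) hF.fix_only with
        h' | ⟨-, ⟨u, v, huv⟩, -⟩
      · omega
      · exact absurd (Subtype.ext (hPc _ u.2 _ v.2)) huv
  rcases k with _ | _ | _ | k
  · omega
  · left
    refine ⟨by omega, ?_⟩
    obtain ⟨⟨s, hs, hsx, hsb⟩, -, -⟩ := S0740.result hZ hab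
    have hs2 : s * s = 1 := by rw [← pow_two, ← hs, pow_orderOf_eq_one]
    obtain ⟨K, i1, i2, hK, ⟨e⟩⟩ := hF.pgl_of_odd hsx hs2 hp hpodd odd_one
      (by rw [pow_one, hαN]) (by rw [hA, hαN]; omega)
    exact ⟨e.trans (pglCongr (FiniteField.ringEquivOfCardEq (by rw [ZMod.card, hK, pow_one])))⟩
  · right; left
    refine ⟨by omega, ?_⟩
    obtain ⟨K, i1, i2, -, hK, ⟨e⟩⟩ := Perm.Zassenhaus.psl_of_zass hZ hF (by rw [hA, hα]; omega)
    exact ⟨e.trans (Classical.SmallIso.pslCongr (FiniteField.ringEquivOfCardEq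
      (by rw [ZMod.card]; omega)))⟩
  · exfalso
    have : d * 3 ≤ d * (k + 3) := Nat.mul_le_mul_left d (by omega)
    rw [show k + 1 + 1 + 1 = k + 3 from rfl] at hk
    omega

end Cfsg.Agent.S0732
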