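import Cfsg.Statements.S0011
import Cfsg.Agent.Solvable.Basics

set_option autoImplicit false
open Cfsg

namespace Cfsg.Agent.S0011

/-- If the Frattini quotient of a finite group is nilpotent then the group is nilpotent. -/
theorem result {G : Type*} [Group G] [Finite G]
    (h : Group.IsNilpotent (G ⧸ frattini G)) : Group.IsNilpotent G := by
  rw [(Group.isNilpotent_of_finite_tfae (G := G)).out 0 2 rfl rfl]
  intro M hM
  have hle : (QuotientGroup.mk' (frattini G)).ker ≤ M := by
    rw [QuotientGroup.ker_mk']; exact frattini_le_coatom hM
  have hco : IsCoatom (M.map (QuotientGroup.mk' (frattini G))) := by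
    refine ⟨fun h => hM.1 ?_, fun L hL => ?_⟩
    · rw [← Subgroup.comap_map_eq_self hle, h, Subgroup.comap_top]
    · have h2 : M < L.comap (QuotientGroup.mk' (frattini G)) := by
        rw [← Subgroup.comap_map_eq_self hle]
        exact (Subgroup.comap_lt_comap_of_surjective (QuotientGroup.mk'_surjective _)).mpr hL
      rw [← Subgroup.map_comap_eq_self_of_surjective (QuotientGroup.mk'_surjective _) L,
        hM.2 _ h2, Subgroup.map_top_of_surjective _ (QuotientGroup.mk'_surjective _)]
  have := Subgroup.NormalizerCondition.normal_of_coatom _
    (Group.normalizerCondition_of_isNilpotent (h := h)) hco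
  rw [← Subgroup.comap_map_eq_self hle]
  exact this.comap _

end Cfsg.Agent.S0011
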