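import Cfsg.Statements.S0014
import Cfsg.Agent.Solvable.Basics

set_option autoImplicit false
open Cfsg

namespace Cfsg.Agent.S0014

/-- Burnside's basis Theorem: in a finite p-group whose Frattini quotient has order p ^ n, every generating set contains n elements that already generate, and no set with fewer than n elements generates. -/
theorem result {G : Type*} [Group G] [Finite G] (p n : ℕ) [Fact p.Prime]
    (hG : IsPGroup p G) (hn : (frattini G).index = p ^ n) :
    (∀ S : Finset G, Subgroup.closure (S : Set G) = ⊤ → ∃ T : Finset G, T ⊆ S ∧ T.card = n ∧ Subgroup.closure (T : Set G) = ⊤) ∧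
    (∀ T : Finset G, Subgroup.closure (T : Set G) = ⊤ → n ≤ T.card) := by
  classical
  have hp : p.Prime := Fact.out
  have := hG.isNilpotent
  have hpow := Cfsg.Agent.Solvable.Basics.pow_mem_frattini hG
  have hnorm : ∀ L : Subgroup G, frattini G ≤ L → L.Normal := fun L hL =>
    Subgroup.Normal.of_commutator_le G ((Cfsg.Agent.Coprime.commutator_le_frattini G).trans hL)
  refine ⟨?_, ?_⟩
  · intro S hS
    suffices key : ∀ H : Subgroup G, frattini G ≤ H → ∃ T : Finset G,
        T ⊆ S ∧ p ^ T.card = H.index ∧ Subgroup.closure (T : Set G) ⊔ H = ⊤ by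
      obtain ⟨T, hTS, hcard, htop⟩ := key (frattini G) le_rfl
      exact ⟨T, hTS, Nat.pow_right_injective hp.two_le (hcard.trans hn),
        frattini_nongenerating htop⟩
    intro H hH
    induction hi : H.index using Nat.strongRecOn generalizing H with
    | ind i ih =>
      by_cases htop : H = ⊤
      · exact ⟨∅, Finset.empty_subset _, by simp [← hi, htop], by simp [htop]⟩
      obtain ⟨x, hxS, hxH⟩ : ∃ x ∈ S, x ∉ H := by
        by_contra h
        push Not at h
        exact htop (eq_top_iff.mpr (hS ▸ (Subgroup.closure_le _).mpr h))
      have := hnorm H hH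
      have hne : H.relIndex (H ⊔ Subgroup.zpowers x) ≠ 1 := fun h =>
        hxH (Subgroup.relIndex_eq_one.mp h (Subgroup.mem_sup_right (Subgroup.mem_zpowers x)))
      have hp' : H.relIndex (H ⊔ Subgroup.zpowers x) = p :=
        ((Nat.dvd_prime hp).mp
          (Cfsg.Agent.Solvable.Basics.relIndex_sup_zpowers_dvd (hH (hpow x)))).resolve_left hne
      have hmul := Subgroup.relIndex_mul_index (le_sup_left : H ≤ H ⊔ Subgroup.zpowers x)
      rw [hp', hi] at hmul
      have hlt : (H ⊔ Subgroup.zpowers x).index < i := by
        rw [← hmul]
        exact lt_mul_of_one_lt_left (Nat.pos_of_ne_zero Subgroup.index_ne_zero_of_finite) hp.one_lt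
      obtain ⟨T, hTS, hT, hTtop⟩ := ih _ hlt _ (hH.trans le_sup_left) rfl
      have hxT : x ∉ T := by
        intro hxT
        have hxc : Subgroup.zpowers x ≤ Subgroup.closure (T : Set G) :=
          Subgroup.zpowers_le.mpr (Subgroup.subset_closure hxT)
        have heq : Subgroup.closure (T : Set G) ⊔ H = ⊤ := by
          rw [← top_le_iff, ← hTtop]
          exact sup_le le_sup_left (sup_le le_sup_right (hxc.trans le_sup_left))
        have hidx := (Subgroup.card_dvd_of_le (le_top : Subgroup.closure (T : Set G) ≤ ⊤))
        have hgen : ∀ U : Finset G, (Subgroup.closure (U : Set G) ⊔ (H ⊔ Subgroup.zpowers x)) = ⊤ →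
            (H ⊔ Subgroup.zpowers x).index ∣ p ^ U.card ∧
            ((∃ y ∈ U, y ∈ H ⊔ Subgroup.zpowers x) →
              (H ⊔ Subgroup.zpowers x).index ∣ p ^ (U.card - 1)) := by
          intro U hU
          have hgen' : ∀ U : Finset G, (H ⊔ Subgroup.zpowers x).relIndex
              ((H ⊔ Subgroup.zpowers x) ⊔ Subgroup.closure (U : Set G)) ∣ p ^ U.card := by
            intro U
            induction U using Finset.induction with
            | empty => simp
            | insert a U haU ihU =>
              rw [Finset.card_insert_of_notMem haU, Finset.coe_insert, Set.insert_eq,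
                Subgroup.closure_union, ← Subgroup.zpowers_eq_closure, sup_left_comm,
                sup_comm (Subgroup.zpowers a)]
              have := hnorm ((H ⊔ Subgroup.zpowers x) ⊔ Subgroup.closure (U : Set G))
                ((hH.trans le_sup_left).trans le_sup_left)
              rw [← Subgroup.relIndex_mul_relIndex _ ((H ⊔ Subgroup.zpowers x) ⊔
                Subgroup.closure (U : Set G)) _ le_sup_left le_sup_left, pow_succ]
              exact mul_dvd_mul ihU (Cfsg.Agent.Solvable.Basics.relIndex_sup_zpowers_dvd
                ((le_sup_left.trans le_sup_left : H ≤ _) (hH (hpow a))))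
          refine ⟨?_, fun ⟨y, hyU, hy⟩ => ?_⟩
          · have := hgen' U
            rwa [sup_comm (H ⊔ Subgroup.zpowers x), hU, Subgroup.relIndex_top_right] at this
          · have := hgen' (U.erase y)
            have hU' : Subgroup.closure ((U.erase y : Finset G) : Set G) ⊔
                (H ⊔ Subgroup.zpowers x) = ⊤ := by
              rw [← top_le_iff, ← hU]
              refine sup_le ((Subgroup.closure_le _).mpr fun z hz => ?_) le_sup_right
              by_cases hzy : z = y
              · exact Subgroup.mem_sup_right (hzy ▸ hy)
              · exact Subgroup.mem_sup_left (Subgroup.subset_closure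
                  (Finset.mem_coe.mpr (Finset.mem_erase.mpr ⟨hzy, hz⟩)))
            rwa [sup_comm (H ⊔ Subgroup.zpowers x), hU', Subgroup.relIndex_top_right, Finset.card_erase_of_mem hyU] at this
        have h1 := (hgen T hTtop).2 ⟨x, hxT, Subgroup.mem_sup_right (Subgroup.mem_zpowers x)⟩
        rw [← hT, Nat.pow_dvd_pow_iff_le_right hp.one_lt] at h1
        have := Finset.card_pos.mpr ⟨x, hxT⟩
        omega
      refine ⟨insert x T, Finset.insert_subset hxS hTS, ?_, ?_⟩
      · rw [Finset.card_insert_of_notMem hxT, pow_succ', hT, hmul]
      · rw [Finset.coe_insert, Set.insert_eq, Subgroup.closure_union,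
          ← Subgroup.zpowers_eq_closure, sup_assoc, sup_left_comm, sup_comm (Subgroup.zpowers x) H]
        exact hTtop
  · intro T hT
    have hgen' : ∀ U : Finset G,
        (frattini G).relIndex (frattini G ⊔ Subgroup.closure (U : Set G)) ∣ p ^ U.card := by
      intro U
      induction U using Finset.induction with
      | empty => simp
      | insert a U haU ihU =>
        rw [Finset.card_insert_of_notMem haU, Finset.coe_insert, Set.insert_eq,
          Subgroup.closure_union, ← Subgroup.zpowers_eq_closure, sup_left_comm,
          sup_comm (Subgroup.zpowers a)]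
        have := hnorm (frattini G ⊔ Subgroup.closure (U : Set G)) le_sup_left
        rw [← Subgroup.relIndex_mul_relIndex _ (frattini G ⊔ Subgroup.closure (U : Set G)) _
          le_sup_left le_sup_left, pow_succ]
        exact mul_dvd_mul ihU (Cfsg.Agent.Solvable.Basics.relIndex_sup_zpowers_dvd
          (Subgroup.mem_sup_left (hpow a)))
    have := hgen' T
    rwa [hT, sup_top_eq, Subgroup.relIndex_top_right, hn,
      Nat.pow_dvd_pow_iff_le_right hp.one_lt] at this

end Cfsg.Agent.S0014
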