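import Cfsg.Statements.S0020
import Cfsg.Agent.Solvable.HallOrder

set_option autoImplicit false
open Pointwise
open Cfsg

namespace Cfsg.Agent.S0020

/-- A finite solvable group admits a Sylow system: Sylow subgroups, one for each prime, that pairwise permute as sets. -/
theorem result {G : Type*} [Group G] [Finite G] [Group.IsSolvable G] :
    ∃ S : (p : Nat.Primes) → Sylow (p : ℕ) G,
      ∀ p q : Nat.Primes, (S p : Set G) * (S q : Set G) = (S q : Set G) * (S p : Set G) := by
  classical
  have h : ∀ p : Nat.Primes, ∃ K : Subgroup G,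
      K.index = (p : ℕ) ^ (Nat.card G).factorization p :=
    fun p => Cfsg.Agent.Solvable.HallOrder.exists_complementSystem (p : ℕ) p.2
  choose K hK using h
  let s := Cfsg.Agent.Solvable.HallOrder.primesOf G
  let e : Nat.Primes → ℕ := fun p => (p : ℕ) ^ (Nat.card G).factorization p
  have hs : ∀ p : Nat.Primes, p ∉ s → e p = 1 := fun p hp => by
    rw [Cfsg.Agent.Solvable.HallOrder.mem_primesOf] at hp
    simp only [e, Nat.factorization_eq_zero_of_not_dvd hp, pow_zero]
  have hpos : ∀ t : Finset Nat.Primes, 0 < ∏ q ∈ t, e q := fun t =>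
    Finset.prod_pos fun q _ => pow_pos q.2.pos _
  have hcard : ∀ p : Nat.Primes, Nat.card ↥((s.erase p).inf K) = e p := by
    intro p
    have h1 : e p * ∏ q ∈ s.erase p, e q = Nat.card G := by
      by_cases hp : p ∈ s
      · rw [Finset.mul_prod_erase s e hp]
        exact Cfsg.Agent.Solvable.HallOrder.prod_primesOf G
      · rw [Finset.erase_eq_of_notMem hp, hs p hp, one_mul]
        exact Cfsg.Agent.Solvable.HallOrder.prod_primesOf G
    exact Nat.eq_of_mul_eq_mul_right (hpos _)
      ((Cfsg.Agent.Solvable.HallOrder.card_finset_inf_complements K hK _).trans h1.symm)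
  refine ⟨fun p => by
    haveI : Fact (p : ℕ).Prime := ⟨p.2⟩
    exact Sylow.ofCard ((s.erase p).inf K) (hcard p), fun p q => ?_⟩
  haveI : Fact (p : ℕ).Prime := ⟨p.2⟩
  haveI : Fact (q : ℕ).Prime := ⟨q.2⟩
  by_cases hpq : p = q
  · subst hpq; rfl
  let D := ((s.erase p).erase q).inf K
  have hD : Nat.card D = e p * e q := by
    refine Nat.eq_of_mul_eq_mul_right (hpos ((s.erase p).erase q))
      ((Cfsg.Agent.Solvable.HallOrder.card_finset_inf_complements K hK _).trans ?_)
    have h1 : e q * ∏ r ∈ (s.erase p).erase q, e r = ∏ r ∈ s.erase p, e r := by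
      by_cases hq : q ∈ s.erase p
      · exact Finset.mul_prod_erase _ e hq
      · rw [Finset.erase_eq_of_notMem hq,
          hs q fun hq' => hq (Finset.mem_erase.mpr ⟨Ne.symm hpq, hq'⟩), one_mul]
    rw [mul_assoc, h1, ← hcard p]
    exact (Cfsg.Agent.Solvable.HallOrder.card_finset_inf_complements K hK _).symm
  have hP : (s.erase p).inf K ≤ D := Finset.inf_mono (Finset.erase_subset _ _)
  have hQ : (s.erase q).inf K ≤ D := Finset.inf_mono (by
    rw [Finset.erase_right_comm]; exact Finset.erase_subset _ _)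
  have hd : Disjoint ((s.erase p).inf K) ((s.erase q).inf K) :=
    Subgroup.disjoint_of_coprime_natCard (by
      rw [hcard, hcard]
      exact Nat.Coprime.pow _ _ ((Nat.coprime_primes p.2 q.2).mpr fun h => hpq (Subtype.ext h)))
  simp only [Sylow.coe_ofCard, ← SetLike.coe_sort_coe]
  exact (Cfsg.Agent.Solvable.HallOrder.mul_eq_of_card hP hQ hd
      (by rw [hcard, hcard, hD])).trans
    (Cfsg.Agent.Solvable.HallOrder.mul_eq_of_card hQ hP hd.symm
      (by rw [hcard, hcard, hD, mul_comm])).symm

end Cfsg.Agent.S0020
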