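import Cfsg.Statements.S0021
import Cfsg.Agent.Solvable.HallOrder

set_option autoImplicit false
open Pointwise
open Cfsg

namespace Cfsg.Agent.S0021

/-- A finite group with a family of pairwise permuting Sylow subgroups, one for each prime, is solvable (this direction rests on Burnside's two-prime Theorem). -/
theorem result {G : Type*} [Group G] [Finite G]
    (S : (p : Nat.Primes) → Sylow (p : ℕ) G)
    (hS : ∀ p q : Nat.Primes, (S p : Set G) * (S q : Set G) = (S q : Set G) * (S p : Set G)) :
    Group.IsSolvable G := by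
  classical
  let e : Nat.Primes → ℕ := fun p => (p : ℕ) ^ (Nat.card G).factorization p
  have hScard : ∀ p : Nat.Primes, Nat.card (S p) = e p := fun p =>
    haveI : Fact (p : ℕ).Prime := ⟨p.2⟩
    (S p).card_eq_multiplicity
  have key : ∀ t : Finset Nat.Primes, ∃ U : Subgroup G, Nat.card U = ∏ p ∈ t, e p ∧
      ∀ a : Nat.Primes, (S a : Set G) * U = (U : Set G) * S a := by
    intro t
    induction t using Finset.induction with
    | empty => exact ⟨⊥, by simp, fun a => by simp⟩
    | insert b t hb ih =>
      obtain ⟨U, hU, hperm⟩ := ih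
      obtain ⟨C, hC⟩ := Cfsg.Agent.Solvable.HallOrder.exists_subgroup_mul
        (S b : Subgroup G) U (hperm b)
      refine ⟨C, ?_, fun a => ?_⟩
      · rw [Finset.prod_insert hb, ← hScard b, ← hU]
        have hd : Disjoint (S b : Subgroup G) U := Subgroup.disjoint_of_coprime_natCard (by
          rw [hU]
          exact (hScard b).symm ▸ Nat.Coprime.prod_right fun p hp => Nat.Coprime.pow _ _
            ((Nat.coprime_primes b.2 p.2).mpr fun h => hb ((Subtype.ext h : b = p) ▸ hp)))
        rw [← Nat.card_prod]
        refine (Nat.card_congr (Equiv.ofBijective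
          (fun z : ↥(S b : Subgroup G) × U => (⟨z.1 * z.2, by
            rw [← SetLike.mem_coe, hC]; exact Set.mul_mem_mul z.1.2 z.2.2⟩ : C)) ⟨?_, ?_⟩)).symm
        · exact fun u v huv =>
            Subgroup.mul_injective_of_disjoint hd (congrArg Subtype.val huv)
        · rintro ⟨x, hx⟩
          rw [← SetLike.mem_coe, hC] at hx
          obtain ⟨y, hy, z, hz, hyz⟩ := hx
          exact ⟨(⟨y, hy⟩, ⟨z, hz⟩), Subtype.ext hyz⟩
      · rw [hC, ← mul_assoc]
        change (S a : Set G) * (S b : Set G) * (U : Set G) = _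
        rw [hS a b, mul_assoc, hperm a, ← mul_assoc]
        rfl
  refine Cfsg.Agent.Solvable.HallOrder.isSolvable_of_complements _ rfl fun p hp => ?_
  let s := Cfsg.Agent.Solvable.HallOrder.primesOf G
  let P : Nat.Primes := ⟨p, hp⟩
  obtain ⟨U, hU, -⟩ := key (s.erase P)
  refine ⟨U, ?_⟩
  have h1 : e P * Nat.card U = Nat.card G := by
    rw [hU]
    by_cases hps : P ∈ s
    · rw [Finset.mul_prod_erase s e hps]
      exact Cfsg.Agent.Solvable.HallOrder.prod_primesOf G
    · rw [Finset.erase_eq_of_notMem hps]
      rw [Cfsg.Agent.Solvable.HallOrder.mem_primesOf] at hps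
      simp only [e, P, Nat.factorization_eq_zero_of_not_dvd hps, pow_zero, one_mul]
      exact Cfsg.Agent.Solvable.HallOrder.prod_primesOf G
  rw [← U.card_mul_index, mul_comm] at h1
  exact (Nat.eq_of_mul_eq_mul_left Nat.card_pos h1).symm

end Cfsg.Agent.S0021
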