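import Cfsg.Statements.S0030
import Cfsg.Agent.Lib.Coprime.Action

set_option autoImplicit false
open Cfsg

namespace Cfsg.Agent.S0030

/-- Under coprime action fixed points of a product of two invariant subgroups factor: if K = X Y with X and Y normalised by A then every A-fixed element of K is a product of an A-fixed element of X and an A-fixed element of Y. -/
theorem result {G : Type*} [Group G] [Finite G] (A K : Subgroup G) (hAK : A ≤ Subgroup.normalizer (K : Set G))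
    (hcop : (Nat.card A).Coprime (Nat.card K)) (hsolv : Group.IsSolvable A ∨ Group.IsSolvable K)
    (X Y : Subgroup G) (hX : X ≤ K) (hY : Y ≤ K) (hXA : A ≤ Subgroup.normalizer (X : Set G)) (hYA : A ≤ Subgroup.normalizer (Y : Set G))
    (hXY : ∀ k ∈ K, ∃ x ∈ X, ∃ y ∈ Y, k = x * y) (k : G) (hk : k ∈ K ⊓ Subgroup.centralizer (A : Set G)) :
    ∃ x ∈ X ⊓ Subgroup.centralizer (A : Set G), ∃ y ∈ Y ⊓ Subgroup.centralizer (A : Set G), k = x * y := by
  obtain ⟨hkK, hc⟩ := Subgroup.mem_inf.mp hk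
  obtain ⟨x, hx, y, hy, rfl⟩ := hXY k hkK
  obtain ⟨n, hn, hxn⟩ := Cfsg.Agent.Coprime.exists_fixed_in_coset (A := A) (N := X ⊓ Y) (k := x)
    (le_trans (le_inf hXA hYA) Subgroup.inf_normalizer_le_normalizer_inf)
    (hcop.coprime_dvd_right (Subgroup.card_dvd_of_le (inf_le_left.trans hX)))
    (hsolv.imp_right (Cfsg.Agent.Coprime.isSolvable_of_le (inf_le_left.trans hX)))
    (fun a ha => by
      have hfix : x * y = a * (x * y) * a⁻¹ := by
        rw [Subgroup.mem_centralizer_iff.mp hc a ha, mul_inv_cancel_right]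
      refine Subgroup.mem_inf.mpr
        ⟨mul_mem (inv_mem hx) ((Subgroup.le_normalizer_iff.mp hXA) a ha x hx), ?_⟩
      have h2 : x⁻¹ * (a * x * a⁻¹) = y * (a * y * a⁻¹)⁻¹ := by
        calc x⁻¹ * (a * x * a⁻¹) = x⁻¹ * (a * (x * y) * a⁻¹) * (a * y * a⁻¹)⁻¹ := by group
          _ = x⁻¹ * (x * y) * (a * y * a⁻¹)⁻¹ := by rw [← hfix]
          _ = y * (a * y * a⁻¹)⁻¹ := by group
      rw [h2]
      exact mul_mem hy (inv_mem ((Subgroup.le_normalizer_iff.mp hYA) a ha y hy)))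
  refine ⟨x * n, Subgroup.mem_inf.mpr ⟨mul_mem hx (Subgroup.mem_inf.mp hn).1, hxn⟩, n⁻¹ * y,
    Subgroup.mem_inf.mpr ⟨mul_mem (inv_mem (Subgroup.mem_inf.mp hn).2) hy, ?_⟩, by group⟩
  have h3 := mul_mem (inv_mem hxn) hc
  simpa [mul_assoc] using h3

end Cfsg.Agent.S0030
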