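import Cfsg.Statements.S0031
import Cfsg.Agent.Solvable.Basics

set_option autoImplicit false
open Cfsg

namespace Cfsg.Agent.S0031

/-- A fixed-point-free automorphism of a finite group maps some Sylow p-subgroup to itself. -/
theorem result {G : Type*} [Group G] [Finite G] (φ : G ≃* G)
    (hφ : MonoidHom.FixedPointFree (φ : G →* G)) (p : ℕ) [Fact p.Prime] :
    ∃ P : Sylow p G, (P : Subgroup G).map (φ : G →* G) = P := by
  obtain ⟨P⟩ : Nonempty (Sylow p G) := inferInstance
  let Q : Sylow p G := Sylow.ofCard ((P : Subgroup G).map (φ : G →* G)) (by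
    rw [Subgroup.card_map_of_injective φ.injective, P.card_eq_multiplicity])
  obtain ⟨g, hg⟩ := MulAction.exists_smul_eq G P Q
  obtain ⟨x, hx⟩ := hφ.commutatorMap_surjective g⁻¹
  simp only [MonoidHom.commutatorMap_apply, MonoidHom.coe_coe, div_eq_mul_inv] at hx
  refine ⟨x⁻¹ • P, ?_⟩
  have hQ : ((g • P : Sylow p G) : Subgroup G) = (P : Subgroup G).map (φ : G →* G) := by
    rw [hg]; simp [Q]
  rw [Sylow.smul_def, Sylow.pointwise_smul_def] at hQ
  rw [Sylow.smul_def, Sylow.pointwise_smul_def, Cfsg.Agent.Coprime.map_conj_smul, ← hQ,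
    ← Cfsg.Agent.Coprime.conj_smul_mul, MonoidHom.coe_coe]
  congr 2
  rw [map_inv, ← inv_inv g, ← hx]
  group

end Cfsg.Agent.S0031
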