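import Cfsg.Statements.S0032
import Cfsg.Agent.Solvable.Basics

set_option autoImplicit false
open Cfsg

namespace Cfsg.Agent.S0032

/-- If an automorphism of a finite group fixes only the identity and maps a normal subgroup N into itself, then the only cosets of N it fixes are those in N: a fixed coset xN forces x ∈ N. -/
theorem result {G : Type*} [Group G] [Finite G] (φ : G ≃* G)
    (hφ : MonoidHom.FixedPointFree (φ : G →* G)) (N : Subgroup G) [N.Normal] (hN : ∀ n ∈ N, φ n ∈ N)
    (x : G) (hx : (φ x)⁻¹ * x ∈ N) : x ∈ N := by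
  let f : N → N := fun m => ⟨φ m * (m : G)⁻¹, mul_mem (hN m m.2) (inv_mem m.2)⟩
  have hf : Function.Injective f := by
    intro a b hab
    have h : φ a * (a : G)⁻¹ = φ b * (b : G)⁻¹ := congrArg Subtype.val hab
    have h2 : φ ((b : G)⁻¹ * a) = (b : G)⁻¹ * a := by
      rw [mul_inv_eq_iff_eq_mul] at h
      rw [map_mul, map_inv, h]; group
    exact Subtype.ext (inv_mul_eq_one.mp (hφ _ h2)).symm
  obtain ⟨m, hm⟩ := Finite.surjective_of_injective hf ⟨_, hx⟩
  have hm' : φ m * (m : G)⁻¹ = (φ x)⁻¹ * x := congrArg Subtype.val hm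
  have h : φ (x * m) = x * m := by
    rw [map_mul, mul_inv_eq_iff_eq_mul.mp hm']; group
  rw [eq_inv_of_mul_eq_one_left (hφ _ h)]
  exact inv_mem m.2

end Cfsg.Agent.S0032
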