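import Cfsg.Statements.S0046
import Cfsg.Agent.Solvable.Frobenius
import Cfsg.Agent.Solvable.HallOrder

set_option autoImplicit false
open Cfsg

namespace Cfsg.Agent.S0046

/-- Schmidt's Theorem on minimal non-nilpotent groups: a finite group in which every maximal subgroup is nilpotent is solvable. -/
theorem result {G : Type*} [Group G] [Finite G]
    (h : ∀ M : Subgroup G, IsCoatom M → Group.IsNilpotent M) : Group.IsSolvable G := by
  induction hn : Nat.card G using Nat.strongRecOn generalizing G with
  | ind n ih =>
    rcases subsingleton_or_nontrivial G with hs | hnt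
    · infer_instance
    by_cases hsimp : ∀ N : Subgroup G, N.Normal → N = ⊥ ∨ N = ⊤
    · -- maximal subgroups
      by_contra hns
      have hne : ∀ M : Subgroup G, IsCoatom M → M ≠ ⊥ := by
        intro M hM hbot
        refine hns ?_
        obtain ⟨x, hx⟩ := exists_ne (1 : G)
        have h : Subgroup.zpowers x = ⊤ := hM.2 _ (hbot ▸ bot_lt_iff_ne_bot.mpr
          (fun h => hx (Subgroup.zpowers_eq_bot.mp h)))
        have : IsCyclic G := isCyclic_iff_exists_zpowers_eq_top.mpr ⟨x, h⟩
        exact Group.isSolvable_of_comm fun a b => mul_comm' a b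
      have hnorm : ∀ M : Subgroup G, IsCoatom M → Subgroup.normalizer (M : Set G) = M := by
        intro M hM
        rcases eq_or_lt_of_le (Subgroup.le_normalizer (H := M)) with h1 | h1
        · exact h1.symm
        · rcases hsimp M (Subgroup.normalizer_eq_top_iff.mp (hM.2 _ h1)) with h2 | h2
          · exact absurd h2 (hne M hM)
          · exact absurd h2 hM.1
      have htriv : ∀ M₁ M₂ : Subgroup G, IsCoatom M₁ → IsCoatom M₂ → M₁ ≠ M₂ → M₁ ⊓ M₂ = ⊥ := by
        suffices key : ∀ D : Subgroup G, ∀ M₁ M₂ : Subgroup G, IsCoatom M₁ → IsCoatom M₂ →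
            M₁ ≠ M₂ → M₁ ⊓ M₂ = D → D = ⊥ from
          fun M₁ M₂ h1 h2 h3 => key _ M₁ M₂ h1 h2 h3 rfl
        intro D
        induction D using WellFoundedGT.induction with
        | ind D ihD =>
          intro M₁ M₂ h1 h2 hne12 hD
          by_contra hDbot
          have hDn : Subgroup.normalizer (D : Set G) ≠ ⊤ := fun htop => by
            rcases hsimp D (Subgroup.normalizer_eq_top_iff.mp htop) with h | h
            · exact hDbot h
            · exact h1.1 (top_le_iff.mp (h ▸ hD ▸ inf_le_left))
          obtain ⟨M₃, h3, hle3⟩ := (eq_top_or_exists_le_coatom _).resolve_left hDn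
          have step : ∀ M M' : Subgroup G, IsCoatom M → IsCoatom M' → M ≠ M' → M ⊓ M' = D →
              M = M₃ := by
            intro M M' hM hM' hne' hMD
            by_contra hne3
            have hlt : D.subgroupOf M < ⊤ := lt_top_iff_ne_top.mpr fun htop => hne'
              ((hM.le_iff_eq hM'.1).mp
                ((Subgroup.subgroupOf_eq_top.mp htop).trans (hMD ▸ inf_le_right))).symm
            obtain ⟨z, hz, hz'⟩ := SetLike.exists_of_lt
              (Group.normalizerCondition_of_isNilpotent (h := h M hM) _ hlt)
            have hDM : D ≤ M := hMD ▸ inf_le_left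
            rw [← Subgroup.subgroupOf_normalizer_eq hDM, Subgroup.mem_subgroupOf] at hz
            have hlt2 : D < M ⊓ M₃ := lt_of_le_of_ne
              (le_inf hDM (Subgroup.le_normalizer.trans hle3)) fun heq =>
              hz' (Subgroup.mem_subgroupOf.mpr (by
                rw [heq]; exact Subgroup.mem_inf.mpr ⟨z.2, hle3 hz⟩))
            exact hDbot (le_bot_iff.mp ((ihD _ hlt2 M M₃ hM h3 hne3 rfl) ▸ hlt2.le))
          exact hne12 ((step M₁ M₂ h1 h2 hne12 hD).trans
            (step M₂ M₁ h2 h1 hne12.symm (by rw [inf_comm]; exact hD)).symm)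
      obtain ⟨M, hM⟩ : ∃ M : Subgroup G, IsCoatom M := by
        obtain ⟨M, hM, -⟩ := (eq_top_or_exists_le_coatom (⊥ : Subgroup G)).resolve_left bot_ne_top
        exact ⟨M, hM⟩
      have hF : Cfsg.IsFrobeniusComplement M := by
        refine ⟨hne M hM, hM.1, fun g hg => htriv M _ hM ?_ fun heq => hg ?_⟩
        · exact (OrderIso.isCoatom_iff (MulEquiv.mapSubgroup (MulAut.conj g)) M).mpr hM
        · rw [← hnorm M hM]
          exact Cfsg.Agent.Coprime.conj_smul_eq_self_iff.mp heq.symm
      obtain ⟨N, -, hNn, hNc⟩ := Cfsg.Agent.Characters.frobenius_kernel_theorem hF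
      rcases hsimp N hNn with h' | h'
      · exact Cfsg.Agent.Solvable.Frobenius.kernel_ne_bot hF hNc h'
      · rw [h', Subgroup.isComplement'_top_left] at hNc
        exact hne M hM hNc
    · push Not at hsimp
      obtain ⟨N, hNn, hN1, hN2⟩ := hsimp
      obtain ⟨M, hM, hNM⟩ := (eq_top_or_exists_le_coatom N).resolve_left hN2
      have hMs : Group.IsSolvable M := by
        have := h M hM; infer_instance
      refine Cfsg.Agent.Solvable.HallOrder.isSolvable_of_quotient
        (Cfsg.Agent.Coprime.isSolvable_of_le hNM hMs) (ih _ ?_ (fun L hL => ?_) rfl)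
      · rw [← hn, Subgroup.card_eq_card_quotient_mul_card_subgroup N]
        exact lt_mul_of_one_lt_right Nat.card_pos ((Subgroup.one_lt_card_iff_ne_bot _).mpr hN1)
      · have hco := Subgroup.isCoatom_comap_of_surjective (QuotientGroup.mk'_surjective N) hL
        have := h _ hco
        exact Group.nilpotent_of_surjective ((QuotientGroup.mk' N).subgroupComap L)
          (MonoidHom.subgroupComap_surjective_of_surjective _ _ (QuotientGroup.mk'_surjective N))

end Cfsg.Agent.S0046
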