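import Cfsg.Statements.S0572
import Cfsg.Agent.Lib.Hall.Product

set_option autoImplicit false
open Cfsg

namespace Cfsg.Agent.S0572

/-- Itô's Theorem: if a group G is the product AB of two abelian subgroups, then the commutator subgroup of G is abelian, i.e. the second term of the derived series is trivial. -/
theorem result {G : Type*} [Group G] (A B : Subgroup G) [IsMulCommutative A] [IsMulCommutative B] (hAB : ∀ g : G, ∃ a ∈ A, ∃ b ∈ B, g = a * b) : derivedSeries G 2 = ⊥ := by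
  open scoped commutatorElement in
  have key : ∀ a ∈ A, ∀ b ∈ B, ∀ a' ∈ A, ∀ b' ∈ B,
      a' * (b' * ⁅a, b⁆ * b'⁻¹) * a'⁻¹ = b' * (a' * ⁅a, b⁆ * a'⁻¹) * b'⁻¹ := by
    intro a ha b hb a' ha' b' hb'
    obtain ⟨a₁, ha₁, b₁, hb₁, h1⟩ := hAB (b' * a * b'⁻¹)
    obtain ⟨b₂, hb₂, a₂, ha₂, h2⟩ := Hall.factorization_symm hAB (a' * b * a'⁻¹)
    have e1 : ∀ x ∈ B, b' * ⁅a, x⁆ * b'⁻¹ = ⁅a₁, x⁆ := by
      intro x hx
      have hbx : b' * x * b'⁻¹ = x := by
        rw [setLike_mul_comm hb' hx, mul_inv_cancel_right]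
      calc b' * ⁅a, x⁆ * b'⁻¹ = ⁅b' * a * b'⁻¹, b' * x * b'⁻¹⁆ := conjugate_commutatorElement a x b'
        _ = a₁ * (b₁ * x * b₁⁻¹) * a₁⁻¹ * x⁻¹ := by rw [hbx, h1, commutatorElement_def]; group
        _ = ⁅a₁, x⁆ := by rw [setLike_mul_comm hb₁ hx, mul_inv_cancel_right, commutatorElement_def]
    have e2 : ∀ x ∈ A, a' * ⁅x, b⁆ * a'⁻¹ = ⁅x, b₂⁆ := by
      intro x hx
      have hax : a' * x * a'⁻¹ = x := by
        rw [setLike_mul_comm ha' hx, mul_inv_cancel_right]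
      calc a' * ⁅x, b⁆ * a'⁻¹ = ⁅a' * x * a'⁻¹, a' * b * a'⁻¹⁆ := conjugate_commutatorElement x b a'
        _ = x * b₂ * (a₂ * x⁻¹ * a₂⁻¹) * b₂⁻¹ := by rw [hax, h2, commutatorElement_def]; group
        _ = ⁅x, b₂⁆ := by
          rw [setLike_mul_comm ha₂ (A.inv_mem hx), mul_inv_cancel_right, commutatorElement_def]
    rw [e1 b hb, e2 a₁ ha₁, e2 a ha, e1 b₂ hb₂]
  open scoped commutatorElement in
  have comm : ∀ a ∈ A, ∀ b ∈ B, ∀ a' ∈ A, ∀ b' ∈ B, Commute ⁅a', b'⁆ ⁅a, b⁆ := by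
    intro a ha b hb a' ha' b' hb'
    have h := key a ha b hb a'⁻¹ (A.inv_mem ha') b'⁻¹ (B.inv_mem hb')
    rw [inv_inv, inv_inv] at h
    refine mul_inv_eq_iff_eq_mul.1 ?_
    calc ⁅a', b'⁆ * ⁅a, b⁆ * ⁅a', b'⁆⁻¹
        = a' * (b' * (a'⁻¹ * (b'⁻¹ * ⁅a, b⁆ * b') * a') * b'⁻¹) * a'⁻¹ := by
          rw [commutatorElement_def a' b']; group
      _ = a' * (b' * (b'⁻¹ * (a'⁻¹ * ⁅a, b⁆ * a') * b') * b'⁻¹) * a'⁻¹ := by rw [h]
      _ = ⁅a, b⁆ := by group
  have htop : A ⊔ B = ⊤ := top_le_iff.1 fun g _ => by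
    obtain ⟨a, ha, b, hb, rfl⟩ := hAB g
    exact Subgroup.mul_mem_sup ha hb
  haveI hn : (⁅A, B⁆).Normal := Subgroup.normalizer_eq_top_iff.1 (top_le_iff.1 (htop ▸
    sup_le (Subgroup.normalizer_commutator_ge_left A B) (Subgroup.normalizer_commutator_ge_right A B)))
  have hle : commutator G ≤ ⁅A, B⁆ := by
    let f := QuotientGroup.mk' ⁅A, B⁆
    have hz : ∀ (X : Subgroup G), ⁅X, A⁆ ≤ ⁅A, B⁆ → ⁅X, B⁆ ≤ ⁅A, B⁆ →
        X.map f ≤ Subgroup.center (G ⧸ ⁅A, B⁆) := by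
      rintro X h1 h2 _ ⟨x, hx, rfl⟩
      rw [Subgroup.mem_center_iff]
      intro q
      obtain ⟨g, rfl⟩ := QuotientGroup.mk'_surjective _ q
      have hc : ∀ y, (y ∈ A ∨ y ∈ B) → Commute (f x) (f y) := by
        intro y hy
        rw [← commutatorElement_eq_one_iff_commute, ← map_commutatorElement]
        refine (QuotientGroup.eq_one_iff _).2 ?_
        exact hy.elim (fun h => h1 (Subgroup.commutator_mem_commutator hx h))
          (fun h => h2 (Subgroup.commutator_mem_commutator hx h))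
      obtain ⟨a, ha, b, hb, rfl⟩ := hAB g
      rw [map_mul]
      exact ((hc a (Or.inl ha)).mul_right (hc b (Or.inr hb))).symm
    have hAA : ⁅A, A⁆ = ⊥ := Subgroup.commutator_self_eq_bot_iff.2 inferInstance
    have hBB : ⁅B, B⁆ = ⊥ := Subgroup.commutator_self_eq_bot_iff.2 inferInstance
    have hcen : Subgroup.center (G ⧸ ⁅A, B⁆) = ⊤ := by
      rw [← top_le_iff, ← Subgroup.map_top_of_surjective f (QuotientGroup.mk'_surjective _),
        ← htop, Subgroup.map_sup, sup_le_iff]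
      exact ⟨hz A (hAA ▸ bot_le) le_rfl,
        hz B (Subgroup.commutator_comm B A).le (hBB ▸ bot_le)⟩
    have := congrArg (Subgroup.comap f) ((commutator_eq_bot_iff_center_eq_top _).2 hcen)
    rw [MonoidHom.comap_bot, QuotientGroup.ker_mk'] at this
    rw [← this, ← Subgroup.map_le_iff_le_comap, commutator_def, Subgroup.map_commutator]
    exact Subgroup.commutator_mono le_top le_top
  rw [derivedSeries_succ, derivedSeries_one, ← le_bot_iff]
  refine (Subgroup.commutator_mono hle hle).trans (le_of_eq ?_)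
  rw [Subgroup.commutator_self_eq_bot_iff, Subgroup.commutator_def]
  refine Subgroup.isMulCommutative_closure ?_
  rintro _ ⟨a', ha', b', hb', rfl⟩ _ ⟨a, ha, b, hb, rfl⟩
  exact comm a ha b hb a' ha' b' hb'

end Cfsg.Agent.S0572
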