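import Cfsg.Statements.S0048
import Cfsg.Agent.Solvable.Basics
import Cfsg.Agent.Lib.Cores.Basic

set_option autoImplicit false
open Cfsg

namespace Cfsg.Agent.S0048

/-- In a finite solvable group every maximal subgroup has index a prime power. -/
theorem result {G : Type*} [Group G] [Finite G] [Group.IsSolvable G]
    (M : Subgroup G) (hM : IsCoatom M) : IsPrimePow M.index := by
  let π := QuotientGroup.mk' M.normalCore
  have hle : π.ker ≤ M := by rw [QuotientGroup.ker_mk']; exact M.normalCore_le
  have hne : (⊤ : Subgroup (G ⧸ M.normalCore)) ≠ ⊥ := by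
    rw [← Subgroup.map_top_of_surjective π (QuotientGroup.mk'_surjective _), Ne,
      Subgroup.map_eq_bot_iff]
    exact fun h => hM.1 (eq_top_iff.mpr (h.trans hle))
  obtain ⟨N, hNn, _, hNbot, hNmin⟩ := Cfsg.Agent.Solvable.Basics.exists_minimal_normal hne
  obtain ⟨hNab, p, hp, hpow⟩ :=
    Cfsg.Agent.Solvable.Basics.minimal_normal_solvable inferInstance hNbot hNmin
  have hidx : (M.map π).index = M.index := by
    rw [Subgroup.index_map_eq _ (QuotientGroup.mk'_surjective _) hle]
  have hnot : ¬ N.comap π ≤ M := by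
    intro h
    refine hNbot ?_
    have := hNn.comap π
    have h2 := Subgroup.normal_le_normalCore.mpr h
    rw [← Subgroup.map_comap_eq_self_of_surjective (QuotientGroup.mk'_surjective _) N,
      Subgroup.map_eq_bot_iff, QuotientGroup.ker_mk']
    exact h2
  have htop : N ⊔ M.map π = ⊤ := by
    have h : M ⊔ N.comap π = ⊤ := hM.2 _ (left_lt_sup.mpr hnot)
    rw [← Subgroup.map_top_of_surjective π (QuotientGroup.mk'_surjective _), ← h, Subgroup.map_sup,
      Subgroup.map_comap_eq_self_of_surjective (QuotientGroup.mk'_surjective _), sup_comm]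
  have hdvd : M.index ∣ Nat.card N := by
    have h := Cfsg.Agent.Cores.card_sup_mul_card_inf (M.map π) N
    rw [sup_comm (M.map π) N, htop, Subgroup.card_top,
      ← Subgroup.card_mul_index (M.map π), hidx, mul_assoc] at h
    exact Dvd.intro _ (Nat.eq_of_mul_eq_mul_left Nat.card_pos h)
  have := Fact.mk hp
  obtain ⟨k, hk⟩ :=
    IsPGroup.iff_card.mp (Cfsg.Agent.Solvable.Basics.isPGroup_of_forall_pow_eq_one hpow)
  rw [hk, Nat.dvd_prime_pow hp] at hdvd
  obtain ⟨j, _, hj⟩ := hdvd
  have hj0 : j ≠ 0 := fun h => hM.1 (Subgroup.index_eq_one.mp (by rw [hj, h, pow_zero]))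
  rw [hj]
  exact hp.isPrimePow.pow hj0

end Cfsg.Agent.S0048
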