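import Cfsg.Statements.S0049
import Cfsg.Agent.Solvable.Basics

set_option autoImplicit false
open Cfsg

namespace Cfsg.Agent.S0049

/-- A prime divisor of the order of a finite group also divides the index of the Frattini subgroup. -/
theorem result {G : Type*} [Group G] [Finite G] (p : ℕ) (hp : p.Prime) (hdvd : p ∣ Nat.card G) :
    p ∣ (frattini G).index := by
  by_contra hdiv
  have := Fact.mk hp
  obtain ⟨P⟩ : Nonempty (Sylow p (frattini G)) := inferInstance
  have := frattini_nilpotent (G := G)
  have hPc : (P : Subgroup (frattini G)).Characteristic :=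
    P.characteristic_of_normal inferInstance
  let P' : Subgroup G := (P : Subgroup (frattini G)).map (frattini G).subtype
  have hP'le : P' ≤ frattini G := Subgroup.map_subtype_le _
  have : P'.Normal := ConjAct.normal_of_characteristic_of_normal
  have hc : (Nat.card P').Coprime P'.index := by
    rw [Subgroup.card_subtype, P.card_eq_multiplicity]
    refine Nat.Coprime.pow_left _ (hp.coprime_iff_not_dvd.mpr ?_)
    rw [← Subgroup.relIndex_mul_index hP'le]
    refine hp.not_dvd_mul ?_ hdiv
    rw [Subgroup.relIndex, Subgroup.subgroupOf,
      Subgroup.comap_map_eq_self_of_injective Subtype.coe_injective]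
    exact P.not_dvd_index
  obtain ⟨H, hH⟩ := Subgroup.exists_right_complement'_of_coprime hc
  have hHtop : H = ⊤ := frattini_nongenerating (top_le_iff.mp (by
    rw [← hH.sup_eq_top, sup_comm P' H]; exact sup_le_sup_left hP'le H))
  rw [hHtop, Subgroup.isComplement'_top_right] at hH
  have hdvdΦ : p ∣ Nat.card (frattini G) := by
    rcases hp.dvd_mul.mp ((Subgroup.card_mul_index (frattini G)).symm ▸ hdvd) with h | h
    · exact h
    · exact absurd h hdiv
  exact P.ne_bot_of_dvd_card hdvdΦ (Subgroup.map_eq_bot_iff_of_injective _
    (f := (frattini G).subtype) Subtype.coe_injective |>.mp hH)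

end Cfsg.Agent.S0049
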