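import Cfsg.Statements.S0050
import Cfsg.Agent.Solvable.HallOrder

set_option autoImplicit false
open Cfsg

namespace Cfsg.Agent.S0050

/-- Frattini argument for Hall subgroups: if L is a solvable normal subgroup and H a subgroup of L of order coprime to its index in L, then L together with the normaliser of H generates the whole group. -/
theorem result {G : Type*} [Group G] [Finite G] (L : Subgroup G) [L.Normal] (hL : Group.IsSolvable L)
    (H : Subgroup G) (hHL : H ≤ L) (hHall : (Nat.card H).Coprime (H.relIndex L)) :
    L ⊔ Subgroup.normalizer (H : Set G) = ⊤ := by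
  let π : Set ℕ := {p | p ∣ Nat.card H}
  have hK : Cfsg.IsPiHall π (H.subgroupOf L) :=
    ⟨fun p _ hd => by
      rwa [Nat.card_congr (Subgroup.subgroupOfEquivOfLe hHL).toEquiv] at hd,
    fun p hp hπ hd => hp.ne_one (Nat.eq_one_of_dvd_coprimes hHall hπ hd)⟩
  have h := Cfsg.Agent.Hall.sup_normalizer_eq_top (hK := hK) L
  rwa [Subgroup.map_subgroupOf_eq_of_le hHL] at h

end Cfsg.Agent.S0050
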