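import Cfsg.Statements.S0053
import Cfsg.Agent.Solvable.Basics

set_option autoImplicit false
open Cfsg

namespace Cfsg.Agent.S0053

/-- An abelian minimal normal subgroup N of a finite group is complemented exactly when N is not inside the Frattini subgroup. -/
theorem result {G : Type*} [Group G] [Finite G]
    (N : Subgroup G) [N.Normal] [IsMulCommutative N] (hN : N ≠ ⊥)
    (hmin : ∀ M : Subgroup G, M.Normal → M ≤ N → M = ⊥ ∨ M = N) :
    (∃ H : Subgroup G, Subgroup.IsComplement' N H) ↔ ¬ N ≤ frattini G := by
  refine ⟨fun ⟨H, hH⟩ hle => hN ?_, fun hnle => ?_⟩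
  · have hHtop : H = ⊤ := frattini_nongenerating (top_le_iff.mp (by
      rw [← hH.sup_eq_top, sup_comm N H]; exact sup_le_sup_left hle H))
    rw [hHtop, Subgroup.isComplement'_top_right] at hH
    exact hH
  · obtain ⟨M, hM, hNM⟩ : ∃ M, IsCoatom M ∧ ¬ N ≤ M := by
      by_contra h
      push Not at h
      exact hnle (by rw [frattini, Order.radical]; exact le_iInf₂ fun M hM => h M hM)
    have htop : N ⊔ M = ⊤ := by rw [sup_comm]; exact hM.2 _ (left_lt_sup.mpr hNM)
    have hNab : N ≤ Subgroup.centralizer (N : Set G) :=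
      Subgroup.le_centralizer_iff_isMulCommutative.mpr inferInstance
    have hnorm : (N ⊓ M).Normal := by
      rw [← Subgroup.normalizer_eq_top_iff, eq_top_iff, ← htop]
      refine sup_le ?_ (le_trans (le_inf Subgroup.le_normalizer_of_normal Subgroup.le_normalizer)
        Subgroup.inf_normalizer_le_normalizer_inf)
      rw [Subgroup.le_normalizer_iff]
      intro a ha x hx
      rwa [← Subgroup.mem_centralizer_iff.mp (hNab ha) x (Subgroup.mem_inf.mp hx).1,
        mul_inv_cancel_right]
    have hbot : N ⊓ M = ⊥ := (hmin _ hnorm inf_le_left).resolve_right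
      fun h => hNM (h ▸ inf_le_right)
    refine ⟨M, Subgroup.isComplement'_of_disjoint_and_mul_eq_univ (disjoint_iff.mpr hbot) ?_⟩
    rw [← Subgroup.normal_mul, htop, Subgroup.coe_top]

end Cfsg.Agent.S0053
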