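import Cfsg.Statements.S0057
import Cfsg.Agent.Lib.Coprime.Sylow
import Cfsg.Agent.Lib.Coprime.Commutator
import Cfsg.Agent.Lib.Coprime.PGroup
import Cfsg.Agent.Solvable.Basics

set_option autoImplicit false
open Cfsg

namespace Cfsg.Agent.S0057

/-- Under coprime action, if the centraliser of A in K has prime index p in K then the commutator subgroup [K, A] has order exactly p. -/
theorem result {G : Type*} [Group G] [Finite G] (A K : Subgroup G) (hAK : A ≤ Subgroup.normalizer (K : Set G))
    (hcop : (Nat.card A).Coprime (Nat.card K)) (hsolv : Group.IsSolvable A ∨ Group.IsSolvable K)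
    (p : ℕ) (hp : p.Prime) (hidx : (K ⊓ Subgroup.centralizer (A : Set G)).relIndex K = p) :
    Nat.card (⁅K, A⁆ : Subgroup G) = p := by
  haveI : Fact p.Prime := ⟨hp⟩
  let C := K ⊓ Subgroup.centralizer (A : Set G)
  have hCK : C ≤ K := inf_le_left
  have hKcard : Nat.card K = Nat.card C * p := by
    rw [← hidx]; exact (Cfsg.Agent.Solvable.Basics.card_mul_relIndex hCK).symm
  obtain ⟨P, hP⟩ := Cfsg.Agent.Coprime.exists_invariant_sylow p hAK hcop hsolv
  let Q := (P : Subgroup K).map K.subtype
  have hQK : Q ≤ K := Subgroup.map_subtype_le _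
  have hQC : ¬ Q ≤ C := fun h => by
    refine P.not_dvd_index ?_
    have h2 : C.relIndex K ∣ Q.relIndex K := Subgroup.relIndex_dvd_of_le_left K h
    rw [hidx, Subgroup.relIndex, Subgroup.subgroupOf,
      Subgroup.comap_map_eq_self_of_injective Subtype.coe_injective] at h2
    exact h2
  have hp2 : (Q ⊓ C).relIndex Q = p := by
    have h1 : C.relIndex Q ≠ 1 := fun h => hQC (Subgroup.relIndex_eq_one.mp h)
    have h2 : (Q ⊓ C).relIndex Q = C.relIndex Q := Subgroup.inf_relIndex_left Q C
    have h3 : C.relIndex Q ≤ p := by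
      rw [← hidx]
      exact Subgroup.relIndex_le_of_le_right hQK
        (by rw [hidx]; exact hp.ne_zero)
    obtain ⟨i, hi⟩ := (P.2.map K.subtype).index (C.subgroupOf Q)
    have hi' : C.relIndex Q = p ^ i := hi
    have hi1 : i = 1 := by
      rcases i with _ | _ | i
      · exact absurd (by rw [hi', pow_zero]) h1
      · rfl
      · exfalso
        have : p ^ 1 < p ^ (i + 1 + 1) := Nat.pow_lt_pow_right hp.one_lt (by omega)
        rw [pow_one] at this
        rw [hi'] at h3
        omega
    rw [h2, hi', hi1, pow_one]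
  have hcover : ∀ k ∈ K, ∃ y ∈ Q, ∃ c ∈ C, k = y * c := by
    intro k hk
    let f : Q ⧸ C.subgroupOf Q → K ⧸ C.subgroupOf K := Subgroup.quotientSubgroupOfEmbeddingOfLE C hQK
    have hbij : Function.Bijective f :=
      (Nat.bijective_iff_injective_and_card f).mpr
        ⟨(Subgroup.quotientSubgroupOfEmbeddingOfLE C hQK).injective,
        (Subgroup.inf_relIndex_left Q C).symm.trans (hp2.trans hidx.symm)⟩
    obtain ⟨z, hz⟩ := hbij.2 ((⟨k, hk⟩ : K) : K ⧸ C.subgroupOf K)
    induction z using QuotientGroup.induction_on with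
    | _ y =>
      rw [show f (y : Q ⧸ C.subgroupOf Q) = ((Subgroup.inclusion hQK y : K) : K ⧸ C.subgroupOf K)
        from Subgroup.quotientSubgroupOfEmbeddingOfLE_apply_mk C hQK y, QuotientGroup.eq,
        Subgroup.mem_subgroupOf] at hz
      exact ⟨y, y.2, (y : G)⁻¹ * k, by simpa using hz, by simp⟩
  have hD : ⁅K, A⁆ = ⁅Q, A⁆ := by
    refine le_antisymm (Cfsg.Agent.Coprime.commutator_le_of_forall_eq_mul fun k hk => ?_)
      (Subgroup.commutator_mono hQK le_rfl)
    obtain ⟨y, hy, c, hc, h⟩ := hcover k hk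
    exact ⟨y, hy, c, (Subgroup.mem_inf.mp hc).2, h⟩
  let R := ⁅K, A⁆
  have hRQ : R ≤ Q := hD.le.trans (Cfsg.Agent.Coprime.commutator_le_of_le_normalizer hP)
  have hRK : R ≤ K := hRQ.trans hQK
  have hAR : A ≤ Subgroup.normalizer (R : Set G) := Subgroup.normalizer_commutator_ge_right K A
  have hRA : ⁅R, A⁆ = R := Cfsg.Agent.Coprime.commutator_commutator_eq hAK hcop hsolv
  have hRbot : R ≠ ⊥ := by
    intro h
    have hA := Cfsg.Agent.Coprime.commutator_eq_bot_iff_le_centralizer'.mp h
    refine hQC (hQK.trans (le_inf le_rfl (Subgroup.le_centralizer_iff.mp hA)))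
  have hRC : ¬ R ≤ C := by
    intro h
    refine hRbot ?_
    rw [← hRA, Cfsg.Agent.Coprime.commutator_eq_bot_iff_le_centralizer']
    exact Subgroup.le_centralizer_iff.mp (h.trans inf_le_right)
  let N := R ⊓ C
  have hRp : IsPGroup p R := (P.2.map K.subtype).to_le hRQ
  have hNidx : N.relIndex R = p := by
    rw [Subgroup.inf_relIndex_left]
    have h1 : C.relIndex R ≠ 1 := fun h => hRC (Subgroup.relIndex_eq_one.mp h)
    have h3 : C.relIndex R ≤ p := by
      rw [← hidx]; exact Subgroup.relIndex_le_of_le_right hRK (by rw [hidx]; exact hp.ne_zero)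
    obtain ⟨i, hi⟩ := hRp.index (C.subgroupOf R)
    have hi' : C.relIndex R = p ^ i := hi
    rcases i with _ | _ | i
    · exact absurd (by rw [hi', pow_zero]) h1
    · rw [hi', pow_one]
    · exfalso
      have : p ^ 1 < p ^ (i + 1 + 1) := Nat.pow_lt_pow_right hp.one_lt (by omega)
      rw [pow_one] at this
      rw [hi'] at h3
      omega
  have hNn : (N.subgroupOf R).Normal := by
    have := hRp.isNilpotent
    have hne : N.subgroupOf R ≠ ⊤ := fun h => by
      rw [← Subgroup.index_eq_one, ← Subgroup.relIndex] at h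
      exact hp.ne_one (hNidx.symm.trans h)
    refine Subgroup.NormalizerCondition.normal_of_coatom _
      Group.normalizerCondition_of_isNilpotent ⟨hne, fun L hL => ?_⟩
    have hdvd := Subgroup.index_dvd_of_le hL.le
    rw [show (N.subgroupOf R).index = p from hNidx] at hdvd
    rcases (Nat.dvd_prime hp).mp hdvd with h | h
    · exact Subgroup.index_eq_one.mp h
    · exfalso
      have h2 := Subgroup.relIndex_mul_index hL.le
      rw [show (N.subgroupOf R).index = p from hNidx, h] at h2
      exact hL.not_ge (Subgroup.relIndex_eq_one.mp ((mul_eq_right₀ hp.ne_zero).mp h2))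
  have hRN : R ≤ Subgroup.normalizer (N : Set G) :=
    Subgroup.le_normalizer_of_normal_subgroupOf (hK := hNn) inf_le_left
  have hNA : ⁅N, A⁆ = ⊥ := Cfsg.Agent.Coprime.commutator_eq_bot_iff_le_centralizer'.mpr
    (Subgroup.le_centralizer_iff.mp (inf_le_right.trans inf_le_right))
  have hcen : ⁅R, N⁆ = ⊥ := by
    have h1 : ⁅⁅R, N⁆, A⁆ = ⊥ := le_bot_iff.mp (hNA ▸ Subgroup.commutator_mono
      (Subgroup.le_normalizer_iff_commutator_le_right.mp hRN) le_rfl)
    have h2 : ⁅⁅N, A⁆, R⁆ = ⊥ := by rw [hNA, Subgroup.commutator_bot_left]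
    have h3 := Subgroup.commutator_commutator_eq_bot_of_rotate h1 h2
    rwa [Subgroup.commutator_comm A R, hRA] at h3
  have hRab : IsMulCommutative R := by
    haveI := hNn
    haveI : IsCyclic (R ⧸ N.subgroupOf R) := isCyclic_of_prime_card (p := p) (by
      rw [← Subgroup.index_eq_card]; exact hNidx)
    refine (QuotientGroup.mk' (N.subgroupOf R)).isMulCommutative_of_isCyclic_of_ker_le_center ?_
    rw [QuotientGroup.ker_mk']
    intro n hn
    rw [Subgroup.mem_center_iff]
    intro r
    exact Subtype.ext (Subgroup.mem_centralizer_iff.mp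
      (Subgroup.commutator_eq_bot_iff_le_centralizer.mp hcen r.2) n hn).symm
  have hNbot : N = ⊥ := by
    have h := Cfsg.Agent.Coprime.inf_centralizer_inf_commutator hAR
      (hcop.coprime_dvd_right (Subgroup.card_dvd_of_le hRK))
    rw [hRA] at h
    refine le_bot_iff.mp (h ▸ ?_)
    exact le_inf (le_inf inf_le_left (inf_le_right.trans inf_le_right)) inf_le_left
  rw [hNbot, Subgroup.relIndex_bot_left] at hNidx
  exact hNidx

end Cfsg.Agent.S0057
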