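import Cfsg.Statements.S0060
import Cfsg.Agent.Lib.Coprime.Basic
import Cfsg.Agent.Lib.Cores.Basic

set_option autoImplicit false
open Pointwise
open Cfsg

namespace Cfsg.Agent.S0060

/-- Brodkey's Theorem: in a finite group with abelian Sylow p-subgroups and no nontrivial normal p-subgroup, some conjugate of a Sylow p-subgroup meets it trivially. -/
theorem result {G : Type*} [Group G] [Finite G] (p : ℕ) [Fact p.Prime]
    (S : Sylow p G) (hS : IsMulCommutative S) (hOp : Cfsg.pCore p G = ⊥) :
    ∃ g : G, (S : Subgroup G) ⊓ MulAut.conj g • (S : Subgroup G) = ⊥ := by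
  obtain ⟨g, -, hmin⟩ := Set.exists_min_image (Set.univ : Set G)
    (fun g => Nat.card ↥((S : Subgroup G) ⊓ MulAut.conj g • (S : Subgroup G)))
    Set.finite_univ ⟨1, trivial⟩
  refine ⟨g, ?_⟩
  have hab : ∀ R : Sylow p G, (R : Subgroup G) ≤ Subgroup.centralizer (R : Set G) := by
    intro R
    obtain ⟨a, rfl⟩ := MulAction.exists_smul_eq G S R
    refine Subgroup.le_centralizer_iff_isMulCommutative.mpr ?_
    rw [Sylow.smul_def, Sylow.pointwise_smul_def, ← Subgroup.commutator_self_eq_bot_iff,
      ← Cfsg.Agent.Coprime.conj_smul_commutator, Subgroup.commutator_self_eq_bot_iff.mpr hS,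
      Subgroup.smul_bot]
  let T : Sylow p G := g • S
  let D := (S : Subgroup G) ⊓ (T : Subgroup G)
  have hT : (T : Subgroup G) = MulAut.conj g • (S : Subgroup G) := rfl
  change D = ⊥
  have key : ∀ R : Sylow p G, D ≤ (R : Subgroup G) := by
    intro R
    let C := Subgroup.centralizer (D : Set G)
    have hSC : (S : Subgroup G) ≤ C := (hab S).trans (Subgroup.centralizer_le inf_le_left)
    have hTC : (T : Subgroup G) ≤ C := (hab T).trans (Subgroup.centralizer_le inf_le_right)
    have hRp : IsPGroup p ((R : Subgroup G) ⊓ C : Subgroup G) := R.2.to_le inf_le_left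
    obtain ⟨Q, hQ⟩ := (hRp.of_equiv
      (Subgroup.subgroupOfEquivOfLe (inf_le_right : (R : Subgroup G) ⊓ C ≤ C)).symm).exists_le_sylow
    obtain ⟨x, hx⟩ := MulAction.exists_smul_eq C (T.subtype hTC) Q
    have hTx : (Q : Subgroup C).map C.subtype = MulAut.conj (x : G) • (T : Subgroup G) := by
      rw [← hx, Sylow.coe_subgroup_smul, Cfsg.Agent.Coprime.map_conj_smul, Sylow.coe_subtype,
        Subgroup.map_subgroupOf_eq_of_le hTC]
      rfl
    have hRC : (R : Subgroup G) ⊓ C ≤ MulAut.conj (x : G) • (T : Subgroup G) := by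
      rw [← hTx]
      intro y hy
      exact ⟨⟨y, (Subgroup.mem_inf.mp hy).2⟩, hQ (Subgroup.mem_subgroupOf.mpr hy), rfl⟩
    have hDx : MulAut.conj (x : G) • D = D :=
      Cfsg.Agent.Coprime.conj_smul_eq_self_iff.mpr
        (Subgroup.centralizer_le_normalizer _ x.2)
    have hxC : MulAut.conj (x : G) • C = C := Subgroup.conj_smul_eq_self_of_mem x.2
    let S' : Sylow p G := (x : G) • S
    have hS'C : (S' : Subgroup G) ≤ C := by
      rw [← hxC]
      exact Subgroup.pointwise_smul_le_pointwise_smul_iff.mpr hSC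
    have hle : (S' : Subgroup G) ⊓ (R : Subgroup G) ≤ D := by
      rw [← hDx, Subgroup.smul_inf]
      exact le_inf inf_le_left (le_trans (le_inf inf_le_right (inf_le_left.trans hS'C)) hRC)
    obtain ⟨b, hb⟩ := MulAction.exists_smul_eq G S' R
    have hcard : Nat.card D ≤ Nat.card ↥((S' : Subgroup G) ⊓ (R : Subgroup G)) := by
      have h1 := hmin ((x : G)⁻¹ * b * x) trivial
      have h2 : MulAut.conj (x : G) • ((S : Subgroup G) ⊓
          MulAut.conj ((x : G)⁻¹ * b * x) • (S : Subgroup G)) =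
          (S' : Subgroup G) ⊓ (R : Subgroup G) := by
        rw [Subgroup.smul_inf, ← Cfsg.Agent.Coprime.conj_smul_mul, ← hb, mul_assoc (x : G)⁻¹,
          mul_inv_cancel_left, Cfsg.Agent.Coprime.conj_smul_mul]
        rfl
      rw [← h2, Cfsg.Agent.Coprime.card_conj_smul]
      exact h1
    rw [← Subgroup.eq_of_le_of_card_ge hle hcard]
    exact inf_le_right
  have hDn : (⨅ R : Sylow p G, (R : Subgroup G)).Normal := ⟨fun y hy a => by
    rw [Subgroup.mem_iInf] at hy ⊢
    intro R
    have h := hy (a⁻¹ • R)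
    rw [Sylow.smul_def, Sylow.pointwise_smul_def, Cfsg.Agent.Coprime.mem_conj_smul, inv_inv] at h
    simpa [mul_assoc] using h⟩
  have h1 := Cfsg.Agent.Cores.le_pCore (p := p) (S.2.to_le (iInf_le _ S) :
    IsPGroup p (⨅ R : Sylow p G, (R : Subgroup G) : Subgroup G))
  rw [hOp] at h1
  exact le_bot_iff.mp ((le_iInf key).trans h1)

end Cfsg.Agent.S0060
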