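import Cfsg.Statements.S0063
import Cfsg.Agent.Solvable.Basics

set_option autoImplicit false
open Cfsg

namespace Cfsg.Agent.S0063

/-- A finite group of prime-power order p ^ m with m > 1 is nilpotent of class at most m - 1. -/
theorem result {G : Type*} [Group G] [Finite G] (p m : ℕ) [Fact p.Prime]
    (hG : Nat.card G = p ^ m) (hm : 1 < m) : Group.nilpotencyClass G ≤ m - 1 := by
  have hp : p.Prime := Fact.out
  induction m using Nat.strongRecOn generalizing G with
  | ind m ih =>
    have hnil : Group.IsNilpotent G := (IsPGroup.of_card hG).isNilpotent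
    have : Nontrivial G := by
      rw [← Finite.one_lt_card_iff_nontrivial, hG]
      exact Nat.one_lt_pow (by omega) hp.one_lt
    have hq : IsPGroup p (G ⧸ Subgroup.center G) := (IsPGroup.of_card hG).to_quotient _
    obtain ⟨k, hk⟩ := IsPGroup.iff_card.mp hq
    have hkm : k < m := by
      rw [← Nat.pow_lt_pow_iff_right hp.one_lt, ← hG, ← hk,
        Subgroup.card_eq_card_quotient_mul_card_subgroup (Subgroup.center G)]
      exact lt_mul_of_one_lt_right Nat.card_pos
        ((Subgroup.one_lt_card_iff_ne_bot _).mpr (Group.IsNilpotent.center_ne_bot G))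
    rw [Group.nilpotencyClass_eq_quotient_center_plus_one]
    rcases Nat.lt_or_ge 1 k with hk1 | hk1
    · have := ih k hkm hk hk1
      omega
    · have hcyc : IsCyclic (G ⧸ Subgroup.center G) := by
        rcases (show k = 0 ∨ k = 1 by omega) with rfl | rfl
        · rw [pow_zero] at hk
          have := (Nat.card_eq_one_iff_unique.mp hk).1
          infer_instance
        · exact isCyclic_of_prime_card (by rw [hk, pow_one])
      have hcomm := (QuotientGroup.mk' (Subgroup.center G)).isMulCommutative_of_isCyclic_of_ker_le_center
        (by rw [QuotientGroup.ker_mk'])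
      have htop : Subgroup.center G = ⊤ :=
        eq_top_iff.mpr fun a _ => Subgroup.mem_center_iff.mpr fun b => hcomm.is_comm.comm b a
      have : Subsingleton (G ⧸ Subgroup.center G) := by
        refine (Nat.card_eq_one_iff_unique.mp ?_).1
        rw [← Subgroup.index_eq_card, htop, Subgroup.index_top]
      rw [Group.nilpotencyClass_zero_iff_subsingleton.mpr this]
      omega

end Cfsg.Agent.S0063
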