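import Cfsg.Statements.S0064
import Cfsg.Agent.Solvable.Basics

set_option autoImplicit false
open Cfsg

namespace Cfsg.Agent.S0064

/-- A finite group is nilpotent exactly when each of its subgroups is subnormal. -/
theorem result {G : Type*} [Group G] [Finite G] :
    Group.IsNilpotent G ↔ ∀ H : Subgroup G, H.IsSubnormal := by
  constructor
  · intro hnil H
    induction H using WellFoundedGT.induction with
    | ind H ih =>
      by_cases htop : H = ⊤
      · exact htop ▸ Subgroup.IsSubnormal.top
      have hlt := Group.normalizerCondition_of_isNilpotent (h := hnil) H (Ne.lt_top htop)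
      exact Subgroup.IsSubnormal.step H _ hlt.le (ih _ hlt) inferInstance
  · intro h
    refine ((Group.isNilpotent_of_finite_tfae (G := G)).out 0 1 rfl rfl).mpr fun H hH => ?_
    obtain ⟨K, hK, _, hn⟩ :=
      (Subgroup.IsSubnormal.iff_eq_top_or_exists.mp (h H)).resolve_left hH.ne
    exact lt_of_lt_of_le hK (Subgroup.le_normalizer_of_normal_subgroupOf hK.le)

end Cfsg.Agent.S0064
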