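import Cfsg.Statements.S0067
import Cfsg.Agent.Lib.Subnormal.Join
import Cfsg.Agent.Solvable.Fitting

set_option autoImplicit false
open Pointwise
open Cfsg

namespace Cfsg.Agent.S0067

/-- If the join of a subgroup A with each of its conjugates is nilpotent, then A is subnormal in the finite group and contained in the Fitting subgroup. -/
theorem result {G : Type*} [Group G] [Finite G] (A : Subgroup G)
    (h : ∀ g : G, Group.IsNilpotent (A ⊔ MulAut.conj g • A : Subgroup G)) : A.IsSubnormal ∧ A ≤ Cfsg.fittingSubgroup G := by
  have hsn : A.IsSubnormal := Cfsg.Agent.Subnormal.Join.isSubnormal_of_conj fun g => by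
    have hnil := h g
    induction hm : A.subgroupOf (A ⊔ MulAut.conj g • A) using WellFoundedGT.induction with
    | ind H ih =>
      clear hm ih
      induction H using WellFoundedGT.induction with
      | ind H ih =>
        by_cases htop : H = ⊤
        · exact htop ▸ Subgroup.IsSubnormal.top
        have hlt := Group.normalizerCondition_of_isNilpotent (h := hnil) H (Ne.lt_top htop)
        exact Subgroup.IsSubnormal.step H _ hlt.le (ih _ hlt) inferInstance
  refine ⟨hsn, Cfsg.Agent.Components.Fitting.le_fitting_of_isSubnormal hsn ?_⟩
  have h1 := h 1
  rwa [map_one, one_smul, sup_idem] at h1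

end Cfsg.Agent.S0067
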