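import Cfsg.Statements.S0070
import Cfsg.Agent.Solvable.Fitting

set_option autoImplicit false
open Cfsg

namespace Cfsg.Agent.S0070

/-- The Fitting subgroup commutes with passing to the Frattini quotient: the Fitting subgroup of G modulo its Frattini subgroup is the image of the Fitting subgroup of G. -/
theorem result {G : Type*} [Group G] [Finite G] :
    Cfsg.fittingSubgroup (G ⧸ frattini G) = (Cfsg.fittingSubgroup G).map (QuotientGroup.mk' (frattini G)) := by
  let π := QuotientGroup.mk' (frattini G)
  have hπ : Function.Surjective π := QuotientGroup.mk'_surjective _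
  have hΦ : frattini G ≤ Cfsg.fittingSubgroup G :=
    Cfsg.Agent.Components.Fitting.le_fitting frattini_nilpotent
  refine le_antisymm ?_ ?_
  · let K := (Cfsg.fittingSubgroup (G ⧸ frattini G)).comap π
    have hK : Group.IsNilpotent K := by
      refine (Group.isNilpotent_of_finite_tfae.out 0 3 rfl rfl).mpr fun p hp P => ?_
      have hsurj : Function.Surjective (π.subgroupComap (Cfsg.fittingSubgroup (G ⧸ frattini G))) :=
        MonoidHom.subgroupComap_surjective_of_surjective _ _ hπ
      let Q := P.mapSurjective hsurj
      have hQchar : (Q : Subgroup (Cfsg.fittingSubgroup (G ⧸ frattini G))).Characteristic :=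
        Q.characteristic_of_normal inferInstance
      have hQn : ((Q : Subgroup (Cfsg.fittingSubgroup (G ⧸ frattini G))).map
          (Cfsg.fittingSubgroup (G ⧸ frattini G)).subtype).Normal :=
        ConjAct.normal_of_characteristic_of_normal
      let P' : Subgroup G := (P : Subgroup K).map K.subtype
      have hMn : (P' ⊔ frattini G).Normal := by
        have h : P' ⊔ frattini G = ((Q : Subgroup (Cfsg.fittingSubgroup (G ⧸ frattini G))).map
            (Cfsg.fittingSubgroup (G ⧸ frattini G)).subtype).comap π := by
          rw [P.coe_mapSurjective hsurj, Subgroup.map_map]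
          have hh : (Cfsg.fittingSubgroup (G ⧸ frattini G)).subtype.comp
              (π.subgroupComap (Cfsg.fittingSubgroup (G ⧸ frattini G))) = π.comp K.subtype := rfl
          rw [hh, ← Subgroup.map_map, Subgroup.comap_map_eq, QuotientGroup.ker_mk']
        rw [h]
        exact hQn.comap π
      let M := P' ⊔ frattini G
      have hMK : M ≤ K := sup_le (Subgroup.map_subtype_le _)
        (fun x hx => by
          rw [Subgroup.mem_comap, QuotientGroup.mk'_apply, (QuotientGroup.eq_one_iff x).mpr hx]
          exact one_mem _)
      have hcard : Nat.card (P'.subgroupOf M) = p ^ (Nat.card M).factorization p := by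
        rw [Nat.card_congr (Subgroup.subgroupOfEquivOfLe (le_sup_left : P' ≤ M)).toEquiv,
          Subgroup.card_subtype, P.card_eq_multiplicity]
        congr 1
        refine le_antisymm ?_ ?_
        · have hdvd : Nat.card P' ∣ Nat.card M := Subgroup.card_dvd_of_le le_sup_left
          rw [Subgroup.card_subtype, P.card_eq_multiplicity] at hdvd
          exact (hp.out.pow_dvd_iff_le_factorization Nat.card_pos.ne').mp hdvd
        · exact (Nat.factorization_le_iff_dvd Nat.card_pos.ne' Nat.card_pos.ne').mpr
            (Subgroup.card_dvd_of_le hMK) p
      have hF := Sylow.normalizer_sup_eq_top (N := M) (Sylow.ofCard (P'.subgroupOf M) hcard)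
      rw [Sylow.coe_ofCard, Subgroup.map_subgroupOf_eq_of_le (le_sup_left : P' ≤ M)] at hF
      have hnorm : Subgroup.normalizer (P' : Set G) = ⊤ := by
        refine frattini_nongenerating (top_le_iff.mp ?_)
        rw [← hF]
        exact sup_le le_sup_left
          (sup_le (Subgroup.le_normalizer.trans le_sup_left) le_sup_right)
      exact (Subgroup.normalizer_eq_top_iff.mp hnorm).of_map_subtype
    exact (Subgroup.map_comap_eq_self_of_surjective hπ _).symm.le.trans
      (Subgroup.map_mono (Cfsg.Agent.Components.Fitting.le_fitting hK))
  · have : ((Cfsg.fittingSubgroup G).map π).Normal := Subgroup.Normal.map inferInstance _ hπ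
    exact Cfsg.Agent.Components.Fitting.le_fitting
      (Group.nilpotent_of_surjective (π.subgroupMap (Cfsg.fittingSubgroup G))
        (π.subgroupMap_surjective _))

end Cfsg.Agent.S0070
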