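import Cfsg.Statements.S0074
import Cfsg.Agent.Lib.Transfer.Fusion

set_option autoImplicit false
open Cfsg

namespace Cfsg.Agent.S0074

/-- For an abelian Sylow p-subgroup P, the intersection of P with the derived subgroup of G equals its intersection with the derived subgroup of the normalizer of P. -/
theorem result {G : Type*} [Group G] [Finite G] {p : ℕ} [Fact p.Prime] (P : Sylow p G) (hP : IsMulCommutative P) : commutator G ⊓ (P : Subgroup G) = ⁅Subgroup.normalizer (P : Set G), Subgroup.normalizer (P : Set G)⁆ ⊓ (P : Subgroup G) := by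
  refine le_antisymm (le_inf ?_ inf_le_right) (le_inf ?_ inf_le_right)
  · refine Cfsg.Agent.Transfer.Fusion.focal_le_of_fusion P fun x hx g hg => ?_
    have hPC : (P : Subgroup G) ≤ Subgroup.centralizer ((P : Subgroup G) : Set G) :=
      (P : Subgroup G).le_centralizer
    obtain ⟨n, hn, he⟩ := Cfsg.Agent.Transfer.Fusion.IsWeaklyClosed.exists_normalizer_conj
      (Cfsg.Agent.Transfer.Fusion.isWeaklyClosed_center P) (hPC hx) (hPC hg)
    exact ⟨n, he, Subgroup.commutator_mem_commutator (Subgroup.le_normalizer hx) hn⟩
  · rw [commutator_def]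
    exact inf_le_left.trans (Subgroup.commutator_mono le_top le_top)

end Cfsg.Agent.S0074
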