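import Cfsg.Statements.S0075
import Cfsg.Agent.Lib.Transfer.Fusion

set_option autoImplicit false
open Cfsg
open scoped commutatorElement

namespace Cfsg.Agent.S0075

/-- For an abelian Sylow p-subgroup T, its intersection with the subgroup generated by the elements of order prime to p is the commutator of T with its normalizer. -/
theorem result {G : Type*} [Group G] [Finite G] {p : ℕ} [Fact p.Prime] (T : Sylow p G) (hT : IsMulCommutative T) : (T : Subgroup G) ⊓ Cfsg.pResidual p G = ⁅(T : Subgroup G), Subgroup.normalizer (T : Set G)⁆ := by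
  open Subgroup Cfsg.Agent.Transfer.Fusion Cfsg.Agent.Transfer.NormalPComplement in
  apply le_antisymm
  · rw [inf_comm]
    refine (pResidual_inf_le T).trans (focal_le_of_fusion T fun x hx g hg => ?_)
    have hTC : (T : Subgroup G) ≤ centralizer ((T : Subgroup G) : Set G) :=
      (T : Subgroup G).le_centralizer
    obtain ⟨n, hn, he⟩ := IsWeaklyClosed.exists_normalizer_conj
      (isWeaklyClosed_center T) (hTC hx) (hTC hg)
    exact ⟨n, he, commutator_mem_commutator hx hn⟩
  · refine le_inf ?_ ?_
    · rw [commutator_le]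
      intro x hx n hn
      rw [commutatorElement_def, mul_assoc x n, mul_assoc x]
      exact mul_mem hx ((hn x⁻¹).mp (inv_mem hx))
    · rw [commutator_le]
      intro x hx n hn
      have hn' : (⟨n, hn⟩ : normalizer (T : Set G)) ∈
          pResidual p (normalizer (T : Set G)) ⊔ ↑(T.subtype le_normalizer) := by
        rw [pResidual_sup_sylow]; exact mem_top _
      obtain ⟨y, hy, t, ht, hyt⟩ := mem_sup_of_normal_left.mp hn'
      have hyG : (y : G) ∈ pResidual p G := map_subtype_pResidual_le _ ⟨y, hy, rfl⟩
      have hcomm : x * (t : G) = t * x := congrArg Subtype.val (hT.is_comm.comm ⟨x, hx⟩ ⟨t, ht⟩)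
      have he : ⁅x, n⁆ = x * y * x⁻¹ * (y : G)⁻¹ := by
        have hn2 : n = (y : G) * t := (congrArg Subtype.val hyt).symm
        rw [commutatorElement_def, hn2]
        calc x * ((y : G) * t) * x⁻¹ * ((y : G) * t)⁻¹
            = x * y * ((t : G) * x⁻¹ * (t : G)⁻¹) * (y : G)⁻¹ := by group
          _ = x * y * x⁻¹ * (y : G)⁻¹ := by
              rw [show (t : G) * x⁻¹ * (t : G)⁻¹ = x⁻¹ by
                calc (t : G) * x⁻¹ * (t : G)⁻¹ = x⁻¹ * (x * t) * x⁻¹ * (t : G)⁻¹ := by group
                  _ = x⁻¹ := by rw [hcomm]; group]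
      rw [he]
      exact mul_mem ((pResidual_normal (p := p)).conj_mem _ hyG x) (inv_mem hyG)

end Cfsg.Agent.S0075
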