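import Cfsg.Statements.S0077
import Cfsg.Agent.Lib.Transfer.Fusion

set_option autoImplicit false
open Cfsg

namespace Cfsg.Agent.S0077

/-- If a subgroup Z of the centre of a Sylow p-subgroup P is weakly closed in P, then P meets the derived subgroup of G exactly where it meets the derived subgroup of the normalizer of Z. -/
theorem result {G : Type*} [Group G] [Finite G] {p : ℕ} [Fact p.Prime] (P : Sylow p G) (Z : Subgroup G) (hZ : Z ≤ Subgroup.centralizer (P : Set G)) (hW : Cfsg.IsWeaklyClosed Z P) : commutator G ⊓ (P : Subgroup G) = ⁅Subgroup.normalizer (Z : Set G), Subgroup.normalizer (Z : Set G)⁆ ⊓ (P : Subgroup G) := by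
  refine le_antisymm (le_inf ?_ inf_le_right) (le_inf ?_ inf_le_right)
  · refine Cfsg.Agent.Transfer.Fusion.focal_le_of_fusion P fun x hx g hg => ?_
    have hPC : (P : Subgroup G) ≤ Subgroup.centralizer (Z : Set G) :=
      Subgroup.le_centralizer_iff.mp hZ
    obtain ⟨n, hn, he⟩ :=
      Cfsg.Agent.Transfer.Fusion.IsWeaklyClosed.exists_normalizer_conj hW (hPC hx) (hPC hg)
    exact ⟨n, he, Subgroup.commutator_mem_commutator
      (Subgroup.centralizer_le_normalizer _ (hPC hx)) hn⟩
  · rw [commutator_def]
    exact inf_le_left.trans (Subgroup.commutator_mono le_top le_top)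

end Cfsg.Agent.S0077
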