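import Cfsg.Statements.S0078
import Cfsg.Agent.Lib.Transfer.Tate
import Cfsg.Agent.Lib.PLocal.ThompsonComplement

set_option autoImplicit false
open Cfsg

namespace Cfsg.Agent.S0078

/-- In a p-normal group, a Sylow p-subgroup P meets O^p(G) exactly where it meets O^p(V), for any subgroup V containing the normalizer of the centre of P. -/
theorem result {G : Type*} [Group G] [Finite G] {p : ℕ} [Fact p.Prime] (P : Sylow p G) (hn : ∀ Q : Sylow p G, (P : Subgroup G) ⊓ Subgroup.centralizer (P : Set G) ≤ (Q : Subgroup G) → (Q : Subgroup G) ⊓ Subgroup.centralizer (Q : Set G) = (P : Subgroup G) ⊓ Subgroup.centralizer (P : Set G)) (V : Subgroup G) (hV : Subgroup.normalizer (((P : Subgroup G) ⊓ Subgroup.centralizer (P : Set G) : Subgroup G) : Set G) ≤ V) : (P : Subgroup G) ⊓ Cfsg.pResidual p G = (P : Subgroup G) ⊓ (Cfsg.pResidual p V).map V.subtype := by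
  set Z := (P : Subgroup G) ⊓ Subgroup.centralizer (P : Set G) with hZ
  have hW : Cfsg.IsWeaklyClosed Z (P : Subgroup G) := by
    refine ⟨inf_le_left, fun g hg => ?_⟩
    have hle : Z ≤ ((g⁻¹ • P : Sylow p G) : Subgroup G) := by
      rw [Cfsg.Agent.Transfer.Fusion.coe_smul_eq_map]
      exact Cfsg.Agent.Transfer.Fusion.map_conj_le_iff.mp hg
    have h := hn _ hle
    have h2 : Z.map (MulAut.conj g⁻¹).toMonoidHom = Z := by
      have h3 := Cfsg.Agent.PLocal.ThompsonComplement.map_Z
        (f := (MulAut.conj g⁻¹).toMonoidHom) (S := (P : Subgroup G)) (MulAut.conj g⁻¹).injective.injOn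
      rw [← Cfsg.Agent.Transfer.Fusion.coe_smul_eq_map] at h3
      exact h3.trans h
    have h4 := Subgroup.inv_mem _ (Cfsg.Agent.Transfer.Fusion.map_conj_eq_self_iff.mp h2)
    rw [inv_inv] at h4
    exact Cfsg.Agent.Transfer.Fusion.map_conj_eq_self_iff.mpr h4
  have hPV : (P : Subgroup G) ≤ V := (Subgroup.le_normalizer.trans
    (Cfsg.Agent.PLocal.ThompsonComplement.normalizer_le_Z (P : Subgroup G))).trans hV
  set K := (Cfsg.pResidual p V).map V.subtype with hK
  have hKG : K ≤ Cfsg.pResidual p G :=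
    Cfsg.Agent.Transfer.NormalPComplement.map_subtype_pResidual_le V
  have hfocal : commutator G ⊓ (P : Subgroup G) ≤ ⁅V, V⁆ := by
    refine Cfsg.Agent.Transfer.Fusion.focal_le_of_fusion P fun x hx g hgx => ?_
    have hc : ∀ y ∈ (P : Subgroup G), y ∈ Subgroup.centralizer (Z : Set G) :=
      fun y hy z hz => ((Subgroup.mem_inf.mp hz).2 y hy).symm
    obtain ⟨n, hn1, hn2⟩ :=
      Cfsg.Agent.Transfer.Fusion.IsWeaklyClosed.exists_normalizer_conj hW (hc x hx) (hc _ hgx)
    exact ⟨n, hn2, Subgroup.commutator_mem_commutator (hPV hx) (hV hn1)⟩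
  haveI hMn : (Cfsg.pResidual p G).Normal := by
    haveI : (Cfsg.pResidual p G).Characteristic := Subgroup.characteristic_iff_map_le.mpr fun e =>
      Cfsg.Agent.Transfer.NormalPComplement.map_pResidual_le e.toMonoidHom
    infer_instance
  haveI : (Cfsg.pResidual p V).Normal := by
    haveI : (Cfsg.pResidual p V).Characteristic := Subgroup.characteristic_iff_map_le.mpr fun e =>
      Cfsg.Agent.Transfer.NormalPComplement.map_pResidual_le e.toMonoidHom
    infer_instance
  set E₀ := K.subgroupOf (P : Subgroup G) with hE₀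
  haveI : E₀.Normal := by
    refine ⟨fun y hy z => ?_⟩
    obtain ⟨w, hw, hwy⟩ := hy
    exact ⟨⟨z, hPV z.2⟩ * w * ⟨z, hPV z.2⟩⁻¹, Subgroup.Normal.conj_mem inferInstance w hw _, by
      rw [map_mul, map_mul, map_mul, map_mul, map_inv, map_inv, hwy]; rfl⟩
  have hfr : (Cfsg.pResidual p G).subgroupOf (P : Subgroup G) ≤
      E₀ ⊔ frattini (P : Subgroup G) := by
    intro x hx
    have h1 : (x : G) ∈ ⁅V, V⁆ := hfocal
      (Cfsg.Agent.Transfer.Fusion.pResidual_inf_le P ⟨hx, x.2⟩)
    have hle : ⁅V, V⁆ ≤ K ⊔ ⁅(P : Subgroup G), (P : Subgroup G)⁆ := by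
      have h2 := Cfsg.Agent.Transfer.NormalPComplement.pResidual_sup_sylow (P.subtype hPV)
      set Q := ((P.subtype hPV : Sylow p V) : Subgroup V) with hQ
      set π := QuotientGroup.mk' (Cfsg.pResidual p V)
      have htop : Q.map π = ⊤ := by
        rw [← Subgroup.map_top_of_surjective π (QuotientGroup.mk'_surjective _), ← h2,
          Subgroup.map_sup, QuotientGroup.map_mk'_self, bot_sup_eq]
      have h3 : ⁅(⊤ : Subgroup V), (⊤ : Subgroup V)⁆ ≤ Cfsg.pResidual p V ⊔ ⁅Q, Q⁆ := by
        have h4 : (⁅(⊤ : Subgroup V), (⊤ : Subgroup V)⁆).map π ≤ (⁅Q, Q⁆).map π := by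
          rw [Subgroup.map_commutator, Subgroup.map_commutator, htop,
            Subgroup.map_top_of_surjective π (QuotientGroup.mk'_surjective _)]
        rwa [Subgroup.map_le_iff_le_comap, Subgroup.comap_map_eq, QuotientGroup.ker_mk',
          sup_comm] at h4
      have h5 := Subgroup.map_mono (f := V.subtype) h3
      rwa [Subgroup.map_commutator, Subgroup.map_sup, Subgroup.map_commutator,
        ← MonoidHom.range_eq_map, Subgroup.range_subtype, hQ, Sylow.coe_subtype,
        Subgroup.map_subgroupOf_eq_of_le hPV] at h5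
    have hnorm : ⁅(P : Subgroup G), (P : Subgroup G)⁆ ≤ Subgroup.normalizer (K : Set G) := by
      refine ((Subgroup.commutator_le_self (P : Subgroup G)).trans hPV).trans ?_
      refine le_trans (le_of_eq ?_) (Subgroup.le_normalizer_map V.subtype)
      rw [Subgroup.normalizer_eq_top, ← MonoidHom.range_eq_map, Subgroup.range_subtype]
    obtain ⟨k, hk, c, hc, hkc⟩ :=
      (Cfsg.Agent.Coprime.mem_sup_of_le_normalizer hnorm).mp (hle h1)
    have hcP : c ∈ (P : Subgroup G) := Subgroup.commutator_le_self (P : Subgroup G) hc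
    have hkP : k ∈ (P : Subgroup G) := by
      have h6 := (P : Subgroup G).mul_mem x.2 ((P : Subgroup G).inv_mem hcP)
      rwa [← hkc, mul_inv_cancel_right] at h6
    have hcF : (⟨c, hcP⟩ : (P : Subgroup G)) ∈ frattini (P : Subgroup G) := by
      haveI := P.2.isNilpotent
      refine Cfsg.Agent.Coprime.commutator_le_frattini _ ?_
      rw [← Subgroup.map_subtype_commutator] at hc
      obtain ⟨w, hw, hwc⟩ := hc
      rwa [show (⟨c, hcP⟩ : (P : Subgroup G)) = w from Subtype.ext hwc.symm]
    rw [show x = ⟨k, hkP⟩ * ⟨c, hcP⟩ from Subtype.ext hkc.symm]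
    exact mul_mem (Subgroup.mem_sup_left (show (⟨k, hkP⟩ : (P : Subgroup G)) ∈ E₀ from hk))
      (Subgroup.mem_sup_right hcF)
  have hgen : Cfsg.pResidual p G ≤
      Subgroup.closure {g : G | g ∈ Cfsg.pResidual p G ∧ (orderOf g).Coprime p} :=
    (Subgroup.closure_le _).mpr fun g hg => Subgroup.subset_closure
      ⟨Subgroup.subset_closure hg, hg⟩
  have h := Cfsg.Agent.Transfer.Tate.eq_of_le_sup_frattini P (Cfsg.pResidual p G) hgen
    (Cfsg.Agent.Transfer.NormalPComplement.pResidual_sup_sylow P) E₀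
    (fun y hy => hKG hy) hfr
  ext y
  simp only [Subgroup.mem_inf]
  refine and_congr_right fun hy => ?_
  exact SetLike.ext_iff.mp h ⟨y, hy⟩

end Cfsg.Agent.S0078
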