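import Cfsg.Statements.S0079
import Cfsg.Agent.Lib.Transfer.NilpotentHall

set_option autoImplicit false
open Cfsg

namespace Cfsg.Agent.S0079

/-- A nilpotent Hall subgroup has a normal complement exactly when elements of it that are conjugate in the whole group are already conjugate inside it. -/
theorem result {G : Type*} [Group G] [Finite G] (H : Subgroup G) (hH : Group.IsNilpotent H) (hHall : Nat.Coprime (Nat.card H) H.index) : (∃ N : Subgroup G, N.Normal ∧ N.IsComplement' H) ↔ ∀ x ∈ H, ∀ y ∈ H, (∃ g : G, g * x * g⁻¹ = y) → ∃ h ∈ H, h * x * h⁻¹ = y := by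
  open Subgroup Cfsg.Agent.Transfer.NilpotentHall Cfsg.Agent.Transfer.NormalPComplement
    Cfsg.Agent.Transfer.Frobenius in
  constructor
  · rintro ⟨N, hN, hc⟩ x hx y hy ⟨g, rfl⟩
    have hg : g ∈ N ⊔ H := by rw [hc.sup_eq_top]; exact mem_top g
    obtain ⟨n, hn, h, hh, rfl⟩ := mem_sup_of_normal_left.mp hg
    refine ⟨h, hh, ?_⟩
    set z := h * x * h⁻¹ with hz
    have hzH : z ∈ H := H.mul_mem (H.mul_mem hh hx) (H.inv_mem hh)
    have he : n * h * x * (n * h)⁻¹ * z⁻¹ = n * (z * n⁻¹ * z⁻¹) := by rw [hz]; group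
    have h1 : n * h * x * (n * h)⁻¹ * z⁻¹ ∈ N ⊓ H :=
      ⟨he ▸ N.mul_mem hn (hN.conj_mem _ (N.inv_mem hn) z), H.mul_mem hy (H.inv_mem hzH)⟩
    rw [hc.disjoint.eq_bot, mem_bot, mul_inv_eq_one] at h1
    exact h1.symm
  · intro hfus
    have hnpc : ∀ p : (Nat.card H).primeFactors, HasNormalPComplement (p : ℕ) G := by
      intro p
      have hp := Nat.prime_of_mem_primeFactors p.2
      have := Fact.mk hp
      obtain ⟨S⟩ := (inferInstance : Nonempty (Sylow (p : ℕ) H))
      obtain ⟨P, hP⟩ := exists_sylow_map_eq hHall (Nat.dvd_of_mem_primeFactors p.2) S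
      have hPmem : ∀ x : G, x ∈ P ↔ x ∈ (S : Subgroup H).map H.subtype := fun x => by
        rw [← hP]; rfl
      refine hasNormalPComplement_of_condition (condition_of_fusion P fun x hx g hg => ?_)
      obtain ⟨x', hx', rfl⟩ := (hPmem x).mp hx
      obtain ⟨y', hy', hy⟩ := (hPmem _).mp hg
      obtain ⟨h, hh, he⟩ := hfus x' x'.2 y' y'.2 ⟨g, hy.symm⟩
      have hmem : (⟨h, hh⟩ : H) ∈ centralizer ((S : Subgroup H) : Set H) ⊔ (S : Subgroup H) := by
        rw [centralizer_sup_eq_top S]; exact mem_top _
      have : (S : Subgroup H).Normal := inferInstance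
      obtain ⟨c, hc, s, hs, hcs⟩ := mem_sup_of_normal_right.mp hmem
      have hsx : s * x' * s⁻¹ ∈ (S : Subgroup H) := mul_mem (mul_mem hs hx') (inv_mem hs)
      refine ⟨s, (hPmem _).mpr ⟨s, hs, rfl⟩, ?_⟩
      have h2 : c * s * x' * (c * s)⁻¹ = s * x' * s⁻¹ := by
        calc c * s * x' * (c * s)⁻¹ = c * (s * x' * s⁻¹) * c⁻¹ := by group
          _ = (s * x' * s⁻¹) * c * c⁻¹ := by rw [mem_centralizer_iff.mp hc _ hsx]
          _ = _ := by rw [mul_inv_cancel_right]
      rw [hcs] at h2
      have h3 := congrArg Subtype.val h2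
      simp only [Subgroup.coe_mul, Subgroup.coe_inv] at h3
      rw [← hy]
      exact h3.symm.trans he
    let N : Subgroup G := ⨅ p : (Nat.card H).primeFactors, pResidual (p : ℕ) G
    have hN : N.Normal := Subgroup.normal_iInf_normal fun p => inferInstance
    have hcard : (Nat.card N).Coprime (Nat.card H) := by
      refine Nat.coprime_of_dvd' fun q hq h1 h2 => ?_
      have := Fact.mk hq
      have hqm : q ∈ (Nat.card H).primeFactors :=
        Nat.mem_primeFactors.mpr ⟨hq, h2, Nat.card_pos.ne'⟩
      have hc := hasNormalPComplement_iff_pResidual.mp (hnpc ⟨q, hqm⟩)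
      exact (Nat.coprime_iff_gcd_eq_one.mp hc) ▸ Nat.dvd_gcd
        (h1.trans (card_dvd_of_le (iInf_le _ (⟨q, hqm⟩ : (Nat.card H).primeFactors)))) dvd_rfl
    have hidx : N.index.Coprime H.index := by
      have key : ∀ s : Finset (Nat.card H).primeFactors,
          ((s.inf fun p => pResidual (p : ℕ) G).index).Coprime H.index := by
        intro s
        induction s using Finset.induction with
        | empty => simp
        | insert p s hps ih =>
          rw [Finset.inf_insert, ← relIndex_mul_index (inf_le_right : pResidual (p : ℕ) G ⊓ _ ≤ _),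
            inf_relIndex_right]
          have := Fact.mk (Nat.prime_of_mem_primeFactors p.2)
          obtain ⟨k, hk⟩ := index_pResidual (p := (p : ℕ)) (G := G)
          refine Nat.Coprime.mul_left (Nat.Coprime.coprime_dvd_left
            (relIndex_dvd_index_of_normal _ _) ?_) ih
          rw [hk]
          exact Nat.Coprime.pow_left k
            (hHall.coprime_dvd_left (Nat.dvd_of_mem_primeFactors p.2))
      have hk := key Finset.univ
      rwa [Finset.inf_eq_iInf, iInf_congr (fun p => iInf_pos (Finset.mem_univ p))] at hk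
    refine ⟨N, hN, isComplement'_of_coprime ?_ hcard⟩
    have e1 := N.card_mul_index
    have e2 := H.card_mul_index
    have h1 : Nat.card N ∣ H.index := by
      refine hcard.dvd_of_dvd_mul_left ?_
      rw [e2, ← e1]
      exact dvd_mul_right _ _
    have h2 : H.index ∣ Nat.card N := by
      refine hidx.symm.dvd_of_dvd_mul_right ?_
      rw [e1, ← e2]
      exact dvd_mul_left _ _
    rw [Nat.dvd_antisymm h1 h2, mul_comm, e2]

end Cfsg.Agent.S0079
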