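import Cfsg.Statements.S0080

set_option autoImplicit false
open Cfsg

namespace Cfsg.Agent.S0080

/-- When the index of H is prime to the order of H/H', the focal subgroup of H is G' ∩ H, and H/(G' ∩ H) has a normal complement. -/
theorem result {G : Type*} [Group G] [Finite G] (H : Subgroup G) (h : Nat.Coprime H.index (⁅H, H⁆.relIndex H)) : Subgroup.focalSubgroup H = commutator G ⊓ H ∧ ∃ N : Subgroup G, N.Normal ∧ N ⊓ H = commutator G ⊓ H ∧ N ⊔ H = ⊤ := by
  have hdvd : H.focalSubgroupOf.index ∣ (commutator H).index :=
    Subgroup.index_dvd_of_le H.commutator_le_focalSubgroupOf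
  have hrel : (⁅H, H⁆).relIndex H = (commutator H).index := by
    rw [← Subgroup.map_subtype_commutator, Subgroup.relIndex, Subgroup.subgroupOf,
      Subgroup.comap_map_eq_self_of_injective H.subtype_injective]
  rw [hrel] at h
  have hco : (Nat.card (H ⧸ H.focalSubgroupOf)).Coprime H.index :=
    (h.coprime_dvd_right hdvd).symm
  have hsurj : Function.Surjective fun y : H ⧸ H.focalSubgroupOf => y ^ H.index :=
    (powCoprime hco).surjective
  have hinj : Function.Injective fun y : H ⧸ H.focalSubgroupOf => y ^ H.index :=
    (powCoprime hco).injective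
  have hker : H.transferFocal.ker ⊓ H = H.focalSubgroup := by
    rw [← H.map_focalSubgroupOf, ← Subgroup.subgroupOf_map_subtype]
    congr 1
    ext x
    rw [Subgroup.mem_subgroupOf, MonoidHom.mem_ker, Subgroup.transferFocal_eq_pow,
      ← QuotientGroup.eq_one_iff]
    constructor
    · intro hx
      exact hinj (hx.trans (one_pow _).symm)
    · intro hx
      rw [hx, one_pow]
  have hfoc : Subgroup.focalSubgroup H = commutator G ⊓ H := by
    refine le_antisymm (le_inf H.focalSubgroup_le_commutator H.focalSubgroup_le) ?_
    rw [← hker]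
    exact inf_le_inf_right _ (by
      open scoped IsMulCommutative in exact Abelianization.commutator_subset_ker H.transferFocal)
  refine ⟨hfoc, H.transferFocal.ker, MonoidHom.normal_ker _, hker.trans hfoc, ?_⟩
  rw [eq_top_iff]
  intro g _
  obtain ⟨y, hy⟩ := hsurj (H.transferFocal g)
  obtain ⟨x, rfl⟩ := QuotientGroup.mk_surjective y
  have hx : H.transferFocal x = H.transferFocal g := (H.transferFocal_eq_pow x).trans hy
  have : g * (x : G)⁻¹ ∈ H.transferFocal.ker := by
    rw [MonoidHom.mem_ker, map_mul, map_inv, hx, mul_inv_cancel]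
  rw [Subgroup.mem_sup_of_normal_left]
  exact ⟨_, this, x, x.2, by group⟩

end Cfsg.Agent.S0080
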