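import Cfsg.Statements.S0082
import Cfsg.Agent.Lib.Transfer.Fusion

set_option autoImplicit false
open Cfsg

namespace Cfsg.Agent.S0082

/-- With a cyclic Sylow p-subgroup, either there is a normal p-complement or the elements of order prime to p generate the whole group. -/
theorem result {G : Type*} [Group G] [Finite G] {p : ℕ} [Fact p.Prime] (P : Sylow p G) (hP : IsCyclic P) : Cfsg.HasNormalPComplement p G ∨ Cfsg.pResidual p G = ⊤ := by
  open Subgroup Cfsg.Agent.Transfer.NormalPComplement Cfsg.Agent.Transfer.Fusion in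
  obtain ⟨t, ht⟩ := IsCyclic.exists_generator (α := ↥(P : Subgroup G))
  by_cases hNC : normalizer (P : Set G) ≤ centralizer (P : Set G)
  · exact Or.inl (hasNormalPComplement_of_normalizer_le_centralizer P hNC)
  right
  have hgen : ∀ y ∈ P, ∃ i : ℤ, y = (t : G) ^ i := by
    intro y hy
    obtain ⟨i, hi⟩ := mem_zpowers_iff.mp (ht ⟨y, hy⟩)
    exact ⟨i, by simpa using (congrArg Subtype.val hi).symm⟩
  -- the Sylow subgroup lies in the residual
  suffices hP : (P : Subgroup G) ≤ pResidual p G by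
    rw [← pResidual_sup_sylow (p := p) P, sup_eq_left.mpr hP]
  by_contra hP
  apply hNC
  -- so `[P, n]` consists of `p`-th powers
  have hlt : ∀ x ∈ P, x ∈ pResidual p G → ∃ i : ℤ, x = (t : G) ^ ((p : ℤ) * i) := by
    intro x hx hxR
    obtain ⟨j, rfl⟩ := hgen x hx
    by_cases hj : (p : ℤ) ∣ j
    · obtain ⟨i, rfl⟩ := hj
      exact ⟨i, rfl⟩
    · exfalso
      refine hP fun y hy => ?_
      obtain ⟨i, rfl⟩ := hgen y hy
      refine zpow_mem ?_ i
      obtain ⟨k, hk⟩ := P.2 t
      have hk' : (t : G) ^ ((p : ℤ) ^ k) = 1 := by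
        have := congrArg Subtype.val hk
        simpa [← zpow_natCast] using this
      have hcop : IsCoprime ((p : ℤ) ^ k) j :=
        ((Nat.prime_iff_prime_int.mp Fact.out).coprime_iff_not_dvd.mpr hj).pow_left
      obtain ⟨a, b, hab⟩ := hcop
      have : (t : G) = ((t : G) ^ j) ^ b := by
        calc (t : G) = (t : G) ^ (a * (p : ℤ) ^ k + b * j) := by rw [hab, zpow_one]
          _ = ((t : G) ^ j) ^ b := by
              rw [zpow_add, mul_comm a, zpow_mul, hk', one_zpow, one_mul, mul_comm b, zpow_mul]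
      rw [this]
      exact zpow_mem hxR b
  have hres : (pResidual p (normalizer (P : Set G))).map
      (normalizer (P : Set G)).subtype ≤ centralizer ({(t : G)} : Set G) := by
    rw [pResidual, MonoidHom.map_closure, closure_le]
    rintro _ ⟨q', hq', rfl⟩
    obtain ⟨q, hqN⟩ := q'
    change q ∈ centralizer ({(t : G)} : Set G)
    have hqc : (orderOf q).Coprime p := by
      have h' : (orderOf (⟨q, hqN⟩ : normalizer (P : Set G))).Coprime p := hq'
      rwa [← Subgroup.orderOf_coe] at h'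
    have hqG : q ∈ pResidual p G := mem_pResidual_of_coprime hqc
    obtain ⟨j, hj⟩ := hgen _ ((hqN t).mp t.2)
    -- the conjugate differs from `t` by a `p`-th power
    have hmem : q * t * q⁻¹ * (t : G)⁻¹ ∈ pResidual p G := by
      have hdec : q * t * q⁻¹ * (t : G)⁻¹ = q * ((t : G) * q⁻¹ * (t : G)⁻¹) := by group
      rw [hdec]
      exact (pResidual p G).mul_mem hqG
        ((pResidual_normal (p := p)).conj_mem _ ((pResidual p G).inv_mem hqG) t)
    obtain ⟨i, hi⟩ := hlt _ ((P : Subgroup G).mul_mem ((hqN t).mp t.2)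
      ((P : Subgroup G).inv_mem t.2)) hmem
    have hj' : q * t * q⁻¹ = (t : G) ^ (1 + (p : ℤ) * i) := by
      rw [mul_inv_eq_iff_eq_mul] at hi
      rw [hi, add_comm, zpow_add_one]
    obtain ⟨k, hk⟩ := P.2 t
    have hk' : (t : G) ^ ((p : ℤ) ^ k) = 1 := by
      have := congrArg Subtype.val hk
      simpa [← zpow_natCast] using this
    have hpow : ∀ m : ℕ, q ^ m * t * (q ^ m)⁻¹ = (t : G) ^ ((1 + (p : ℤ) * i) ^ m) := by
      intro m
      induction m with
      | zero => simp
      | succ m ih =>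
        calc q ^ (m + 1) * t * (q ^ (m + 1))⁻¹ = q ^ m * (q * t * q⁻¹) * (q ^ m)⁻¹ := by
              rw [pow_succ]; group
          _ = (q ^ m * t * (q ^ m)⁻¹) ^ (1 + (p : ℤ) * i) := by rw [hj', conj_zpow]
          _ = _ := by rw [ih, ← zpow_mul, pow_succ]
    have hdvd : ((p : ℤ) ^ (k + 1)) ∣ (1 + (p : ℤ) * i) ^ (p ^ k) - 1 := by
      have := dvd_sub_pow_of_dvd_sub (R := ℤ) (p := p) (a := 1 + (p : ℤ) * i) (b := 1)
        (by simp) k
      simpa using this
    obtain ⟨w, hw⟩ := hdvd
    have hfix : q ^ (p ^ k) * t * (q ^ (p ^ k))⁻¹ = t := by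
      rw [hpow, show (1 + (p : ℤ) * i) ^ (p ^ k) = (p : ℤ) ^ k * ((p : ℤ) * w) + 1 by
        rw [← mul_assoc, ← pow_succ]; linarith, zpow_add, zpow_mul, hk', one_zpow, one_mul,
        zpow_one]
    refine mem_of_pow_mem (Nat.Coprime.pow_right k hqc) ?_
    rw [mem_centralizer_iff]
    rintro _ rfl
    exact (mul_inv_eq_iff_eq_mul.mp hfix).symm
  -- conclusion
  intro n hn
  have hn' : (⟨n, hn⟩ : normalizer (P : Set G)) ∈
      pResidual p (normalizer (P : Set G)) ⊔ ↑(P.subtype le_normalizer) := by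
    rw [pResidual_sup_sylow]; exact mem_top _
  obtain ⟨a, ha, b, hb, hab⟩ := mem_sup_of_normal_left.mp hn'
  have hnab : (a : G) * b = n := congrArg Subtype.val hab
  have hb' : (b : G) ∈ centralizer ({(t : G)} : Set G) := by
    obtain ⟨j, hj⟩ := hgen b hb
    rw [hj]
    exact zpow_mem (mem_centralizer_iff.mpr (by rintro _ rfl; rfl)) j
  have hnt : (a : G) * b ∈ Subgroup.centralizer ({(t : G)} : Set G) :=
    mul_mem (hres ⟨a, ha, rfl⟩) hb'
  rw [hnab, mem_centralizer_iff] at hnt
  have hcomm : Commute (t : G) n := hnt _ rfl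
  intro x hx
  obtain ⟨j, rfl⟩ := hgen x hx
  exact (hcomm.zpow_left j).eq

end Cfsg.Agent.S0082
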