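import Cfsg.Statements.S0083
import Cfsg.Agent.Lib.Transfer.Fusion

set_option autoImplicit false
open Cfsg

namespace Cfsg.Agent.S0083

/-- For an abelian Sylow p-subgroup P, a normal p-complement exists exactly when the normalizer of P is an internal direct product of P with some subgroup. -/
theorem result {G : Type*} [Group G] [Finite G] {p : ℕ} [Fact p.Prime] (P : Sylow p G) (hP : IsMulCommutative P) : Cfsg.HasNormalPComplement p G ↔ ∃ Q : Subgroup G, Q ≤ Subgroup.centralizer (P : Set G) ∧ Q ⊓ (P : Subgroup G) = ⊥ ∧ Q ⊔ (P : Subgroup G) = Subgroup.normalizer (P : Set G) := by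
  open Subgroup Cfsg.Agent.PLocal.Cores Cfsg.Agent.Transfer.NormalPComplement in
  constructor
  · intro h
    obtain ⟨K, hK, hc⟩ := (hasNormalPComplement_iff_sylow P).mp h
    have hdis : K ⊓ (P : Subgroup G) = ⊥ := hc.disjoint.eq_bot
    refine ⟨K ⊓ normalizer (P : Set G), ?_, ?_, ?_⟩
    · intro q hq x hx
      have h1 : x * q * x⁻¹ * q⁻¹ ∈ K ⊓ (P : Subgroup G) := by
        constructor
        · exact K.mul_mem (hK.conj_mem q hq.1 x) (K.inv_mem hq.1)
        · rw [mul_assoc x q, mul_assoc x]
          exact (P : Subgroup G).mul_mem hx ((hq.2 x⁻¹).mp ((P : Subgroup G).inv_mem hx))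
      rw [hdis, mem_bot, mul_inv_eq_one, mul_inv_eq_iff_eq_mul] at h1
      exact h1
    · rw [← le_bot_iff, ← hdis]
      exact inf_le_inf_right _ inf_le_left
    · refine le_antisymm (sup_le inf_le_right le_normalizer) fun n hn => ?_
      have hn' : n ∈ K ⊔ (P : Subgroup G) := by rw [hc.sup_eq_top]; exact mem_top n
      obtain ⟨k, hk, x, hx, rfl⟩ := mem_sup_of_normal_left.mp hn'
      refine mul_mem (mem_sup_left ⟨hk, ?_⟩) (mem_sup_right hx)
      have := (normalizer (P : Set G)).mul_mem hn
        ((normalizer (P : Set G)).inv_mem (le_normalizer hx))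
      rwa [mul_inv_cancel_right] at this
  · rintro ⟨Q, hQ, -, hsup⟩
    refine hasNormalPComplement_of_normalizer_le_centralizer P ?_
    rw [← hsup]
    exact sup_le hQ (P : Subgroup G).le_centralizer

end Cfsg.Agent.S0083
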