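import Cfsg.Statements.S0084
import Cfsg.Agent.Lib.Transfer.SmallSylow

set_option autoImplicit false
open Cfsg

namespace Cfsg.Agent.S0084

/-- A group whose Sylow 2-subgroups are Klein four-groups and whose order is prime to 3 has a normal 2-complement. -/
theorem result {G : Type*} [Group G] [Finite G] (T : Sylow 2 G) (hT : IsKleinFour T) (h3 : ¬ 3 ∣ Nat.card G) : Cfsg.HasNormalPComplement 2 G := by
  open Cfsg.Agent.Transfer.SmallSylow Cfsg.Agent.Transfer.NormalPComplement in
  have hc : Nat.card ↥(T : Subgroup G) = 2 ^ 2 := hT.card_four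
  have : IsMulCommutative ↥(T : Subgroup G) := isMulCommutative_of_card_le_sq le_rfl hc
  refine hasNormalPComplement_of_normalizer_le_centralizer T
    (normalizer_le_centralizer_of_forall T fun g hg ho => ?_)
  refine mem_centralizer_of_primes hc hg fun r hr hrd d hd hdiv => ?_
  have hr2 : r ≠ 2 := fun h => Nat.not_coprime_of_dvd_of_dvd (by omega) (h ▸ hrd) dvd_rfl ho
  have hr3 : r ≠ 3 := fun h => h3 (h ▸ hrd.trans (orderOf_dvd_natCard g))
  interval_cases d <;> norm_num at hdiv
  · exact hr3 ((Nat.prime_dvd_prime_iff_eq hr Nat.prime_three).mp hdiv)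
  · exact hr2 ((Nat.prime_dvd_prime_iff_eq hr Nat.prime_two).mp hdiv)

end Cfsg.Agent.S0084
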