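import Cfsg.Statements.S0085
import Cfsg.Agent.Lib.Transfer.SmallSylow

set_option autoImplicit false
open Cfsg

namespace Cfsg.Agent.S0085

/-- A group whose Sylow 2-subgroups are elementary abelian of order 8 and whose order is prime to 3 and to 7 has a normal 2-complement. -/
theorem result {G : Type*} [Group G] [Finite G] (T : Sylow 2 G) (h8 : Nat.card T = 8) (he : ∀ x : T, x * x = 1) (h3 : ¬ 3 ∣ Nat.card G) (h7 : ¬ 7 ∣ Nat.card G) : Cfsg.HasNormalPComplement 2 G := by
  open Cfsg.Agent.Transfer.SmallSylow Cfsg.Agent.Transfer.NormalPComplement in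
  have hc : Nat.card ↥(T : Subgroup G) = 2 ^ 3 := h8
  have : IsMulCommutative ↥(T : Subgroup G) := by
    refine ⟨⟨fun x y => ?_⟩⟩
    have hinv : ∀ z : ↥(T : Subgroup G), z⁻¹ = z := fun z => inv_eq_of_mul_eq_one_left (he z)
    calc x * y = (x * y)⁻¹ := (hinv _).symm
      _ = y * x := by rw [mul_inv_rev, hinv, hinv]
  refine hasNormalPComplement_of_normalizer_le_centralizer T
    (normalizer_le_centralizer_of_forall T fun g hg ho => ?_)
  refine mem_centralizer_of_primes hc hg fun r hr hrd d hd hdiv => ?_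
  have hr2 : r ≠ 2 := fun h => Nat.not_coprime_of_dvd_of_dvd (by omega) (h ▸ hrd) dvd_rfl ho
  have hr3 : r ≠ 3 := fun h => h3 (h ▸ hrd.trans (orderOf_dvd_natCard g))
  have hr7 : r ≠ 7 := fun h => h7 (h ▸ hrd.trans (orderOf_dvd_natCard g))
  interval_cases d <;> norm_num at hdiv
  · exact hr7 ((Nat.prime_dvd_prime_iff_eq hr (by norm_num)).mp hdiv)
  · rcases hr.dvd_mul.mp (show r ∣ 2 * 3 from hdiv) with h | h
    · exact hr2 ((Nat.prime_dvd_prime_iff_eq hr Nat.prime_two).mp h)
    · exact hr3 ((Nat.prime_dvd_prime_iff_eq hr Nat.prime_three).mp h)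
  · exact hr2 ((Nat.prime_dvd_prime_iff_eq hr Nat.prime_two).mp
      (hr.dvd_of_dvd_pow (show r ∣ 2 ^ 2 from hdiv)))

end Cfsg.Agent.S0085
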