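import Cfsg.Statements.S0087
import Cfsg.Agent.Lib.Transfer.NilpotentHall

set_option autoImplicit false
open Cfsg

namespace Cfsg.Agent.S0087

/-- A Hall subgroup that is central in its normalizer has a normal complement. -/
theorem result {G : Type*} [Group G] [Finite G] (H : Subgroup G) (hHall : Nat.Coprime (Nat.card H) H.index) (h : Subgroup.normalizer (H : Set G) ≤ Subgroup.centralizer (H : Set G)) : ∃ N : Subgroup G, N.Normal ∧ N.IsComplement' H := by
  open Subgroup Cfsg.Agent.Transfer.NilpotentHall in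
  have hab : IsMulCommutative H :=
    ⟨⟨fun a b => Subtype.ext (h (le_normalizer b.2) a a.2)⟩⟩
  open scoped IsMulCommutative in
  have key : ∀ x ∈ H, ∀ (k : ℕ) (g₀ : G), g₀⁻¹ * x ^ k * g₀ ∈ H →
      g₀⁻¹ * x ^ k * g₀ = x ^ k := by
    intro x hx k g₀ hy
    obtain ⟨n, hn, he⟩ := exists_normalizer_conj_of_abelian_hall hHall
      (pow_mem hx k) (g := g₀⁻¹) (by rwa [inv_inv])
    rw [inv_inv] at he
    rw [← he, ← h hn _ (pow_mem hx k), mul_inv_cancel_right]
  open scoped IsMulCommutative in
  let V : G →* H := MonoidHom.transfer (MonoidHom.id H)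
  have hV : ∀ x : H, V x = x ^ H.index := fun x => by
    open scoped IsMulCommutative in
      exact (MonoidHom.transfer_eq_pow (MonoidHom.id H) (x : G) (key x x.2)).trans (Subtype.ext rfl)
  have hbij := (powCoprime hHall).bijective
  have hsurj : Function.Surjective V := fun y => by
    obtain ⟨x, rfl⟩ := hbij.2 y
    exact ⟨x, hV x⟩
  refine ⟨V.ker, MonoidHom.normal_ker V, ?_⟩
  refine isComplement'_of_card_mul_and_disjoint ?_ ?_
  · have hi : V.ker.index = Nat.card H := by
      rw [index_ker, MonoidHom.range_eq_top.mpr hsurj, card_top]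
    rw [← V.ker.card_mul_index, hi]
  · rw [disjoint_iff, eq_bot_iff]
    rintro x ⟨hx1, hx2⟩
    have h1 : (⟨x, hx2⟩ : H) ^ H.index = 1 := (hV ⟨x, hx2⟩).symm.trans hx1
    exact congrArg Subtype.val (hbij.1 (h1.trans (one_pow _).symm))

end Cfsg.Agent.S0087
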