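import Cfsg.Statements.S0091
import Cfsg.Agent.Lib.Transfer.Fusion

set_option autoImplicit false
open Cfsg

namespace Cfsg.Agent.S0091

/-- If a nontrivial Sylow p-subgroup controls its own fusion then it is not contained in the derived subgroup. -/
theorem result {G : Type*} [Group G] [Finite G] {p : ℕ} [Fact p.Prime] (P : Sylow p G) (hp : p ∣ Nat.card G) (h : ∀ x ∈ P, ∀ y ∈ P, (∃ g : G, g * x * g⁻¹ = y) → ∃ z ∈ P, z * x * z⁻¹ = y) : ¬ (P : Subgroup G) ≤ commutator G := by
  open Subgroup in
  intro hle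
  have hfoc : commutator G ⊓ (P : Subgroup G) ≤ ⁅(P : Subgroup G), (P : Subgroup G)⁆ := by
    refine Cfsg.Agent.Transfer.Fusion.focal_le_of_fusion P fun x hx g hg => ?_
    obtain ⟨z, hz, he⟩ := h x hx _ hg ⟨g, rfl⟩
    exact ⟨z, he, commutator_mem_commutator hx hz⟩
  have hPP : ⁅(P : Subgroup G), (P : Subgroup G)⁆ = (P : Subgroup G) :=
    le_antisymm ((map_subtype_commutator (P : Subgroup G)).symm.le.trans (map_subtype_le _))
      (le_trans (le_inf hle le_rfl) hfoc)
  have hc : commutator ↥(P : Subgroup G) = ⊤ := by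
    apply map_injective (P : Subgroup G).subtype_injective
    rw [map_subtype_commutator, hPP, ← MonoidHom.range_eq_map, range_subtype]
  have : Group.IsNilpotent ↥(P : Subgroup G) := P.2.isNilpotent
  have hne : (P : Subgroup G) ≠ ⊥ := P.ne_bot_of_dvd_card hp
  have : Nontrivial ↥(P : Subgroup G) := (nontrivial_iff_ne_bot _).mpr hne
  have hnil : Group.IsSolvable ↥(P : Subgroup G) := inferInstance
  obtain ⟨n, hn⟩ := hnil
  have : ∀ k, derivedSeries ↥(P : Subgroup G) k = ⊤ := by
    intro k
    induction k with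
    | zero => rfl
    | succ k ih => rw [derivedSeries_succ, ih, ← commutator_def, hc]
  rw [this n] at hn
  exact top_ne_bot hn

end Cfsg.Agent.S0091
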