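import Cfsg.Statements.S0094
import Cfsg.Agent.Lib.Transfer.Special
import Cfsg.Agent.Solvable.Basics

set_option autoImplicit false
open Cfsg
open scoped commutatorElement

namespace Cfsg.Agent.S0094

/-- In a special p-group every central element has order dividing p. -/
theorem result {P : Type*} [Group P] [Finite P] {p : ℕ} [Fact p.Prime] (h : Cfsg.IsSpecial p P) (z : P) (hz : z ∈ Subgroup.center P) : z ^ p = 1 := by
  obtain ⟨hP, hfr, hcm⟩ := h
  have hgen : ∀ x y : P, ⁅x, y⁆ ^ p = 1 := by
    intro x y
    have hcy : ⁅x, y⁆ ∈ Subgroup.center P := by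
      rw [← hcm, commutator_def]
      exact Subgroup.commutator_mem_commutator (Subgroup.mem_top x) (Subgroup.mem_top y)
    have hxp : x ^ p ∈ Subgroup.center P :=
      hfr ▸ Cfsg.Agent.Solvable.Basics.pow_mem_frattini hP x
    have hv : x * y * x⁻¹ = ⁅x, y⁆ * y := by rw [commutatorElement_def]; group
    have h2 := Cfsg.Agent.OddLocal.Coprime.pow_conj_of_central_commutator hv
      (Subgroup.mem_center_iff.mp hcy x).symm p
    rw [← Subgroup.mem_center_iff.mp hxp y, mul_assoc] at h2
    exact right_eq_mul.mp h2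
  have hz' : z ∈ Subgroup.closure (commutatorSet P) := by
    rw [← commutator_eq_closure, hcm]; exact hz
  have key : z ∈ Subgroup.center P ∧ z ^ p = 1 := by
    clear hz
    induction hz' using Subgroup.closure_induction with
    | mem w hw =>
      obtain ⟨x, y, rfl⟩ := hw
      refine ⟨?_, hgen x y⟩
      rw [← hcm, commutator_def]
      exact Subgroup.commutator_mem_commutator (Subgroup.mem_top x) (Subgroup.mem_top y)
    | one => exact ⟨one_mem _, one_pow p⟩
    | mul a b _ _ iha ihb =>
      obtain ⟨ha1, ha2⟩ := iha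
      obtain ⟨hb1, hb2⟩ := ihb
      refine ⟨mul_mem ha1 hb1, ?_⟩
      rw [Commute.mul_pow (Subgroup.mem_center_iff.mp hb1 a), ha2, hb2, one_mul]
    | inv a _ iha => exact ⟨inv_mem iha.1, by rw [inv_pow, iha.2, inv_one]⟩
  exact key.2

end Cfsg.Agent.S0094
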