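import Cfsg.Statements.S0097
import Cfsg.Agent.Lib.Transfer.Special
import Cfsg.Agent.Solvable.Basics

set_option autoImplicit false
open Cfsg

namespace Cfsg.Agent.S0097

/-- For odd p and E extraspecial, the subgroup generated by the elements of order dividing p has exponent dividing p and index at most p. -/
theorem result {E : Type*} [Group E] [Finite E] {p : ℕ} [Fact p.Prime] (hp : p ≠ 2) (h : Cfsg.IsExtraspecial p E) : (Subgroup.closure {x : E | x ^ p = 1}).index ≤ p ∧ ∀ g ∈ Subgroup.closure {x : E | x ^ p = 1}, g ^ p = 1 := by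
  obtain ⟨⟨hP, hfr, hcm⟩, hZ⟩ := h
  have hpow : ∀ x : E, x ^ p ∈ Subgroup.center E := fun x =>
    hfr ▸ Cfsg.Agent.Solvable.Basics.pow_mem_frattini hP x
  let f : E →* ↥(Subgroup.center E) :=
    { toFun := fun x => ⟨x ^ p, hpow x⟩
      map_one' := Subtype.ext (one_pow p)
      map_mul' := fun a b => Subtype.ext
        (Cfsg.Agent.Transfer.Special.mul_pow_of_class_two hp hcm.le a b (hpow b)) }
  have hker : Subgroup.closure {x : E | x ^ p = 1} = f.ker := by
    refine le_antisymm ((Subgroup.closure_le _).mpr fun x hx => Subtype.ext hx) fun x hx => ?_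
    exact Subgroup.subset_closure (congrArg Subtype.val hx)
  rw [hker]
  refine ⟨?_, fun g hg => congrArg Subtype.val hg⟩
  rw [Subgroup.index_ker, ← hZ]
  exact Subgroup.card_le_card_group _

end Cfsg.Agent.S0097
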