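import Cfsg.Statements.S0100
import Cfsg.Agent.OddLocal.RankThree
import Cfsg.Agent.Lib.PGroups.Normal

set_option autoImplicit false
open Cfsg

namespace Cfsg.Agent.S0100

/-- For odd p, a p-group without normal elementary abelian subgroups of order p^3 has p-rank at most 2. -/
theorem result {P : Type*} [Group P] [Finite P] {p : ℕ} [Fact p.Prime] (hp : p ≠ 2) (hP : IsPGroup p P) (h : ∀ A : Subgroup P, A.Normal → IsMulCommutative A → (∀ a ∈ A, a ^ p = 1) → Nat.card A ≠ p ^ 3) (E : Subgroup P) (hE : IsMulCommutative E) (hEe : ∀ e ∈ E, e ^ p = 1) : Nat.card E ≤ p ^ 2 := by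
  by_contra hlt
  have hr : ¬ PRankLE p 2 P := fun h2 => hlt (h2 E hE hEe)
  obtain ⟨A, -, hAn, hAe, hA3⟩ := Cfsg.Agent.OddLocal.RankThree.exists_normal_elementary hp hP hr ⊥
    ⟨inferInstance, fun a ha => by rw [Subgroup.mem_bot.mp ha, one_pow]⟩
  obtain ⟨M, hMn, hMA, hM3⟩ := Cfsg.Agent.PGroups.Normal.exists_normal_le_card hP A 3 hA3
  have := hAe.1
  exact h M hMn (Subgroup.le_centralizer_iff_isMulCommutative.mp fun x hx =>
    Subgroup.mem_centralizer_iff.mpr fun y hy => setLike_mul_comm (s := A) (hMA hy) (hMA hx))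
    (fun a ha => hAe.2 a (hMA ha)) hM3

end Cfsg.Agent.S0100
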