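import Cfsg.Statements.S0101
import Cfsg.Agent.Solvable.Basics

set_option autoImplicit false
open Cfsg

namespace Cfsg.Agent.S0101

/-- In a perfect central extension, the kernel meets each Sylow p-subgroup P inside the Frattini subgroup of P. -/
theorem result {H : Type*} {G : Type*} [Group H] [Group G] [Finite H] (σ : H →* G) (hσ : Function.Surjective σ) (hc : σ.ker ≤ Subgroup.center H) (hH : commutator H = ⊤) {p : ℕ} [Fact p.Prime] (P : Sylow p H) : σ.ker ⊓ (P : Subgroup H) ≤ (frattini P).map (P : Subgroup H).subtype := by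
  open Subgroup in
  rintro z ⟨hzk, hzP⟩
  refine ⟨⟨z, hzP⟩, ?_, rfl⟩
  change (⟨z, hzP⟩ : ↥(P : Subgroup H)) ∈ Order.radical (Subgroup ↥(P : Subgroup H))
  rw [Order.radical, mem_iInf]
  intro M
  rw [mem_iInf]
  intro hM
  have : Group.IsNilpotent ↥(P : Subgroup H) := P.2.isNilpotent
  have : M.Normal := (Group.normalizerCondition_of_isNilpotent).normal_of_coatom M hM
  have hi : Nat.card (↥(P : Subgroup H) ⧸ M) = p := by
    obtain ⟨n, hn⟩ := (P.2.to_quotient M).exists_card_eq
    have hpr := Cfsg.Agent.Solvable.Basics.index_prime_of_normal_coatom hM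
    rw [index_eq_card] at hpr
    have hd : Nat.card (↥(P : Subgroup H) ⧸ M) ∣ p ^ n := hn ▸ dvd_rfl
    exact (Nat.prime_dvd_prime_iff_eq hpr Fact.out).mp (hpr.dvd_of_dvd_pow hd)
  have : Fact (Nat.card (↥(P : Subgroup H) ⧸ M)).Prime := ⟨by rw [hi]; exact Fact.out⟩
  have : IsCyclic (↥(P : Subgroup H) ⧸ M) := isCyclic_of_prime_card rfl
  let : CommGroup (↥(P : Subgroup H) ⧸ M) := IsCyclic.commGroup
  let f : ↥(P : Subgroup H) →* ↥(P : Subgroup H) ⧸ M := QuotientGroup.mk' M
  have hv := MonoidHom.transfer_eq_pow f z (by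
    intro k g₀ _
    rw [mul_assoc, ← mem_center_iff.mp (pow_mem (hc hzk) k) g₀, inv_mul_cancel_left])
  have h1 : MonoidHom.transfer f z = 1 :=
    Abelianization.commutator_subset_ker (MonoidHom.transfer f) (by rw [hH]; exact mem_top z)
  rw [h1] at hv
  have hco : (Nat.card (↥(P : Subgroup H) ⧸ M)).Coprime (P : Subgroup H).index := by
    rw [hi]; exact (Fact.out : p.Prime).coprime_iff_not_dvd.mpr P.not_dvd_index
  have h2 : f ⟨z, hzP⟩ ^ (P : Subgroup H).index = 1 := by
    rw [← map_pow]; exact (congrArg f (Subtype.ext rfl)).trans hv.symm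
  exact (QuotientGroup.eq_one_iff _).mp ((powCoprime hco).injective (h2.trans (one_pow _).symm))

end Cfsg.Agent.S0101
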