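import Cfsg.Statements.S0104
import Cfsg.Agent.Lib.Transfer.Fusion

set_option autoImplicit false
open Cfsg

namespace Cfsg.Agent.S0104

/-- A subgroup Z of a Sylow p-subgroup P that is normalized by N_G(P) is weakly closed in P exactly when it is normal in every Sylow p-subgroup containing it. -/
theorem result {G : Type*} [Group G] [Finite G] {p : ℕ} [Fact p.Prime] (P : Sylow p G) (Z : Subgroup G) (hZP : Z ≤ (P : Subgroup G)) (hZN : Subgroup.normalizer (P : Set G) ≤ Subgroup.normalizer (Z : Set G)) : Cfsg.IsWeaklyClosed Z P ↔ ∀ R : Sylow p G, Z ≤ (R : Subgroup G) → (R : Subgroup G) ≤ Subgroup.normalizer (Z : Set G) := by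
  open Subgroup Cfsg.Agent.Transfer.Fusion in
  constructor
  · intro hW R hZR
    obtain ⟨h, rfl⟩ := MulAction.exists_smul_eq G P R
    have e : Z.map (MulAut.conj h).toMonoidHom = Z := by
      have := IsWeaklyClosed.conj_eq_of_le_sylow hW (R := h • P) (a := h) (b := 1)
        (by rw [coe_smul_eq_map]; exact map_mono hZP) (by rwa [map_conj_one])
      rwa [map_conj_one] at this
    rw [coe_smul_eq_map, map_conj_le_iff]
    intro x hx
    rw [mem_map_conj, inv_inv]
    exact mul_mem (mul_mem (map_conj_eq_self_iff.mp e) (hZN (le_normalizer hx)))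
      (inv_mem (map_conj_eq_self_iff.mp e))
  · intro hR
    refine ⟨hZP, fun g hg => ?_⟩
    have hZR : Z ≤ ((g⁻¹ • P : Sylow p G) : Subgroup G) := by
      rw [coe_smul_eq_map, ← map_conj_le_iff]
      exact hg
    have hP : (P : Subgroup G) ≤ normalizer (Z : Set G) := le_normalizer.trans hZN
    obtain ⟨n, hn, hnP⟩ := exists_conj_eq_of_le (hR _ hZR) hP
    rw [coe_smul_eq_map, ← map_conj_mul] at hnP
    have h1 : n * g⁻¹ ∈ normalizer (Z : Set G) := hZN (map_conj_eq_self_iff.mp hnP)
    have h2 : g⁻¹ ∈ normalizer (Z : Set G) := by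
      have := mul_mem (inv_mem hn) h1
      rwa [inv_mul_cancel_left] at this
    exact map_conj_eq_self_iff.mpr (inv_mem_iff.mp h2)

end Cfsg.Agent.S0104
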