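import Cfsg.Statements.S0110
import Cfsg.Agent.Lib.Transfer.Special

set_option autoImplicit false
open Cfsg

namespace Cfsg.Agent.S0110

/-- In a p-group G, an extraspecial subgroup E with [G, E] ≤ Z(E) satisfies G = E C_G(E). -/
theorem result {G : Type*} [Group G] [Finite G] {p : ℕ} [Fact p.Prime] (hG : IsPGroup p G) (E : Subgroup G) (hE : Cfsg.IsExtraspecial p E) (h : ⁅(⊤ : Subgroup G), E⁆ ≤ E ⊓ Subgroup.centralizer (E : Set G)) : E ⊔ Subgroup.centralizer (E : Set G) = ⊤ := by
  refine eq_top_iff.mpr fun g _ => ?_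
  open Subgroup in
  have hgN : ∀ h : G, h ∈ normalizer (E : Set G) := by
    have : (⊤ : Subgroup G) ≤ normalizer (E : Set G) := by
      rw [le_normalizer_iff]
      intro a _ e he
      have hm : a * e * a⁻¹ * e⁻¹ ∈ E :=
        (h (commutator_mem_commutator (mem_top a) he)).1
      have := E.mul_mem hm he
      rwa [inv_mul_cancel_right] at this
    exact fun a => this (mem_top a)
  let φ : MulAut E := E.normalizerMonoidHom ⟨g, hgN g⟩
  obtain ⟨e, he⟩ := Cfsg.Agent.Transfer.Special.exists_inner_of_trivial_mod_center hE φ (by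
    intro x
    rw [Subgroup.mem_center_iff]
    intro y
    apply Subtype.ext
    exact ((h (Subgroup.commutator_mem_commutator (Subgroup.mem_top g) x.2)).2) y y.2)
  have hc : (e : G)⁻¹ * g ∈ Subgroup.centralizer (E : Set G) := by
    intro x hx
    have hex : g * x * g⁻¹ = (e : G) * x * (e : G)⁻¹ := congrArg Subtype.val (he ⟨x, hx⟩)
    calc x * ((e : G)⁻¹ * g) = (e : G)⁻¹ * ((e : G) * x * (e : G)⁻¹) * g := by group
      _ = (e : G)⁻¹ * (g * x * g⁻¹) * g := by rw [hex]
      _ = (e : G)⁻¹ * g * x := by group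
  have := Subgroup.mul_mem_sup e.2 hc
  rwa [mul_inv_cancel_left] at this

end Cfsg.Agent.S0110
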