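import Cfsg.Statements.S0114
import Cfsg.Agent.Lib.PGroups.Taussky
import Cfsg.Agent.S0206

set_option autoImplicit false
open Cfsg

namespace Cfsg.Agent.S0114

/-- The central quotient of a 2-group of maximal class is dihedral. -/
theorem result {X : Type*} [Group X] [Finite X] (n : ℕ) (hn : 3 ≤ n) (hX : Nat.card X = 2 ^ n) (hc : Group.nilpotencyClass X = n - 1) : Nonempty (X ⧸ Subgroup.center X ≃* DihedralGroup (2 ^ (n - 2))) := by
  haveI : Fact (Nat.Prime 2) := ⟨Nat.prime_two⟩
  open Cfsg.Agent.PGroups Subgroup in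
  have hidx := MaximalClass.index_lcs hn hX hc (k := 1) le_rfl (by omega)
  rw [MaximalClass.lcs_one] at hidx
  obtain ⟨c, g, hco, hg, hci, r, hr, s, hs, hsodd⟩ := Taussky.structure_two hn hX (by rw [hidx]; rfl)
  obtain ⟨hZeq, hZc⟩ := MaximalClass.center_eq hn hX hc
  set Z := center X with hZ
  set q := QuotientGroup.mk' Z
  have hr2 : r - 1 = 2 * s := hs
  -- the centre lies in the cyclic subgroup
  have hodd2 : ∀ {a : ℕ} {t : ℤ}, ((2 ^ a : ℕ) : ℤ) ∣ s * t → ((2 ^ a : ℕ) : ℤ) ∣ t := fun {a t} h =>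
    (Int.isCoprime_iff_gcd_eq_one.mpr (by
      rw [Int.gcd, Int.natAbs_natCast]
      exact Nat.Coprime.pow_left _ (Nat.coprime_two_left.mpr (Int.natAbs_odd.mpr hsodd)))).dvd_of_dvd_mul_left h
  have hfix : ∀ t : ℤ, g * c ^ t * g⁻¹ = c ^ t → ((2 ^ (n - 2) : ℕ) : ℤ) ∣ t := by
    intro t ht
    rw [← conj_zpow, hr, ← zpow_mul, ← mul_inv_eq_one, ← zpow_neg, ← zpow_add,
      ← orderOf_dvd_iff_zpow_eq_one, hco, show r * t + -t = 2 * (s * t) by linear_combination t * hr2,
      show n - 1 = n - 2 + 1 by omega, pow_succ', Nat.cast_mul, Nat.cast_ofNat,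
      mul_dvd_mul_iff_left two_ne_zero] at ht
    exact hodd2 ht
  have hcent : ∀ t : ℤ, ((2 ^ (n - 2) : ℕ) : ℤ) ∣ t → c ^ t ∈ Z := by
    rintro t ⟨u, rfl⟩
    rw [hZ, zpow_mul]
    refine zpow_mem (mem_center_iff.mpr fun y => ?_) u
    have hg' : g * c ^ ((2 ^ (n - 2) : ℕ) : ℤ) * g⁻¹ = c ^ ((2 ^ (n - 2) : ℕ) : ℤ) := by
      rw [← conj_zpow, hr, ← zpow_mul, ← mul_inv_eq_one, ← zpow_neg, ← zpow_add,
        ← orderOf_dvd_iff_zpow_eq_one, hco]
      refine ⟨s, ?_⟩
      rw [show n - 1 = n - 2 + 1 by omega, pow_succ, Nat.cast_mul, Nat.cast_ofNat]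
      linear_combination ((2 ^ (n - 2) : ℕ) : ℤ) * hr2
    rcases (Taussky.index_two_conj_mem hci).2 g hg y with hy | hy
    · obtain ⟨i, rfl⟩ := mem_zpowers_iff.mp hy
      exact (Commute.zpow_zpow_self c i _).eq
    · obtain ⟨i, hi⟩ := mem_zpowers_iff.mp hy
      have hyi : y = g * c ^ i := by rw [hi, mul_inv_cancel_left]
      rw [hyi]
      exact ((show Commute g (c ^ ((2 ^ (n - 2) : ℕ) : ℤ)) from mul_inv_eq_iff_eq_mul.mp hg').mul_left
        (Commute.zpow_zpow_self c i _)).eq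
  have hr1 : ((2 ^ (n - 2) : ℕ) : ℤ) ∣ r + 1 := by
    refine hodd2 ?_
    have h2 : g ^ 2 ∈ zpowers c := by
      rw [pow_two]; exact (Subgroup.mul_mem_iff_of_index_two hci).mpr Iff.rfl
    obtain ⟨i, hi⟩ := mem_zpowers_iff.mp h2
    have h3 : g ^ 2 * c * (g ^ 2)⁻¹ = c := by
      rw [← hi, ((Commute.refl c).zpow_left i).eq, mul_inv_cancel_right]
    have h4 : g ^ 2 * c * (g ^ 2)⁻¹ = c ^ (r * r) := by
      calc g ^ 2 * c * (g ^ 2)⁻¹ = g * (g * c * g⁻¹) * g⁻¹ := by rw [pow_two]; group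
        _ = _ := by rw [hr, ← conj_zpow, hr, ← zpow_mul]
    have h5 : c ^ (r * r + -1) = 1 := by
      rw [zpow_add, zpow_neg, zpow_one, ← h4, h3, mul_inv_cancel]
    rw [← orderOf_dvd_iff_zpow_eq_one, hco, show r * r + -1 = 2 * (s * (r + 1)) by linear_combination (r + 1) * hr2,
      show n - 1 = n - 2 + 1 by omega, pow_succ', Nat.cast_mul, Nat.cast_ofNat,
      mul_dvd_mul_iff_left two_ne_zero] at h5
    exact h5
  have hgsq : g * g ∈ Z := by
    have h2 : g * g ∈ zpowers c := (Subgroup.mul_mem_iff_of_index_two hci).mpr Iff.rfl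
    obtain ⟨i, hi⟩ := mem_zpowers_iff.mp h2
    rw [← hi]
    exact hcent i (hfix i (by rw [hi]; group))
  set x := q g
  set y := q (g * c)
  have hgZ : g ∉ Z := fun h => by
    have h' := hfix 1 (by rw [zpow_one, ← mem_center_iff.mp h c, mul_inv_cancel_right])
    have : (2 ^ (n - 2) : ℕ) ∣ 1 := by exact_mod_cast h'
    exact absurd (Nat.le_of_dvd one_pos this) (by
      have := Nat.one_lt_two_pow (show n - 2 ≠ 0 by omega); omega)
  have hxo : orderOf x = 2 := orderOf_eq_prime (by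
      rw [pow_two, ← map_mul]; exact (QuotientGroup.eq_one_iff _).mpr hgsq)
    fun h => hgZ ((QuotientGroup.eq_one_iff _).mp h)
  have hcr : q c ^ (r + 1) = 1 := by
    rw [← map_zpow]; exact (QuotientGroup.eq_one_iff _).mpr (hcent _ hr1)
  have hyo : orderOf y = 2 := by
    refine orderOf_eq_prime ?_ fun h => ?_
    · have hgg : q g * q g = 1 := by rw [← map_mul]; exact (QuotientGroup.eq_one_iff _).mpr hgsq
      have hconj : q g * q c * (q g)⁻¹ = q c ^ r := by
        rw [← map_inv, ← map_mul, ← map_mul, ← map_zpow, hr]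
      have hginv : (q g)⁻¹ = q g := inv_eq_of_mul_eq_one_right hgg
      calc y ^ 2 = q g * q c * (q g * q c) := by rw [pow_two]; show q (g * c) * q (g * c) = _; rw [map_mul]
        _ = q g * q c * (q g)⁻¹ * q c := by rw [hginv]; group
        _ = 1 := by rw [hconj, ← zpow_add_one, hcr]
    · have hZle : Z ≤ zpowers c := by
        intro w hw
        rcases (Taussky.index_two_conj_mem hci).2 g hg w with h' | h'
        · exact h'
        exfalso
        obtain ⟨i, hi⟩ := mem_zpowers_iff.mp h'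
        have hwi : g = w * (c ^ i)⁻¹ := by rw [hi, mul_inv_rev, inv_inv, mul_inv_cancel_left]
        have h1 := hfix 1 (by
          rw [zpow_one, hwi]
          have h2 : Commute c (c ^ i)⁻¹ := ((Commute.refl c).zpow_right i).inv_right
          have h3 : Commute c w := mem_center_iff.mp hw c
          rw [(h3.mul_right h2).symm.eq, mul_inv_cancel_right])
        have : (2 ^ (n - 2) : ℕ) ∣ 1 := by exact_mod_cast h1
        have := Nat.le_of_dvd one_pos this
        have := Nat.one_lt_two_pow (show n - 2 ≠ 0 by omega)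
        omega
      exact hg ((mul_mem_cancel_right (mem_zpowers c)).mp (hZle ((QuotientGroup.eq_one_iff _).mp h)))
  have hcq : q c = x * y := by
    show q c = q g * q (g * c)
    rw [map_mul, ← mul_assoc, ← map_mul, show q (g * g) = 1 from (QuotientGroup.eq_one_iff _).mpr hgsq, one_mul]
  have hord : orderOf (x * y) = 2 ^ (n - 2) := by
    rw [← hcq]
    refine Nat.dvd_antisymm (orderOf_dvd_of_pow_eq_one ?_) ?_
    · rw [← map_pow]
      refine (QuotientGroup.eq_one_iff _).mpr ?_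
      have := hcent ((2 ^ (n - 2) : ℕ) : ℤ) dvd_rfl
      rwa [zpow_natCast] at this
    · have h := hfix (orderOf (q c) : ℤ) (by
        have hmem : c ^ orderOf (q c) ∈ Z :=
          (QuotientGroup.eq_one_iff _).mp ((map_pow q c _).trans (pow_orderOf_eq_one _))
        rw [zpow_natCast, mem_center_iff.mp hmem g, mul_inv_cancel_right])
      exact_mod_cast h
  have hxy : x ≠ y := fun h => by
    have : orderOf (x * y) = 1 := by rw [← h, ← pow_two, orderOf_eq_one_iff, ← hxo, pow_orderOf_eq_one]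
    rw [hord] at this
    have := Nat.one_lt_two_pow (show n - 2 ≠ 0 by omega)
    omega
  have htop : closure ({x, y} : Set (X ⧸ Z)) = ⊤ := by
    rw [eq_top_iff]
    rintro w -
    obtain ⟨w, rfl⟩ := QuotientGroup.mk'_surjective Z w
    have hc' : ∀ v ∈ zpowers c, q v ∈ closure ({x, y} : Set (X ⧸ Z)) := by
      intro v hv
      obtain ⟨i, rfl⟩ := mem_zpowers_iff.mp hv
      rw [map_zpow, hcq]
      have hx' : x ∈ closure ({x, y} : Set (X ⧸ Z)) := Subgroup.subset_closure (Set.mem_insert x {y})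
      have hy' : y ∈ closure ({x, y} : Set (X ⧸ Z)) := Subgroup.subset_closure (Set.mem_insert_of_mem x (Set.mem_singleton y))
      exact zpow_mem (mul_mem hx' hy') i
    rcases (Taussky.index_two_conj_mem hci).2 g hg w with h | h
    · exact hc' w h
    · have := mul_mem (Subgroup.subset_closure (Or.inl rfl) : x ∈ closure ({x, y} : Set (X ⧸ Z))) (hc' _ h)
      rwa [← map_mul, mul_inv_cancel_left] at this
  obtain ⟨e⟩ := Cfsg.Agent.S0206.result x y hxo hyo hxy
  rw [hord] at e
  exact ⟨((Subgroup.topEquiv.symm).trans (MulEquiv.subgroupCongr htop.symm)).trans e⟩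

end Cfsg.Agent.S0114
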