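import Cfsg.Statements.S0115
import Cfsg.Agent.Lib.PGroups.Taussky

set_option autoImplicit false
open Cfsg

namespace Cfsg.Agent.S0115

/-- A 2-group of order 2^n, n ≥ 3, is of maximal class exactly when its commutator quotient is a Klein four-group. -/
theorem result {X : Type*} [Group X] [Finite X] (n : ℕ) (hn : 3 ≤ n) (hX : Nat.card X = 2 ^ n) : Group.nilpotencyClass X = n - 1 ↔ IsKleinFour (X ⧸ commutator X) := by
  haveI : Fact (Nat.Prime 2) := ⟨Nat.prime_two⟩
  open Cfsg.Agent.PGroups in
  constructor
  · intro hc
    have h := MaximalClass.index_lcs hn hX hc (k := 1) le_rfl (by omega)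
    rw [MaximalClass.lcs_one, Subgroup.index_eq_card] at h
    have hne : commutator X ≠ ⊥ := fun e => by
      have h' := MaximalClass.index_lcs hn hX hc (k := 1) le_rfl (by omega)
      rw [MaximalClass.lcs_one, e, Subgroup.index_bot, hX] at h'
      have := Nat.pow_right_injective le_rfl h'
      omega
    have hnc := MaximalClass.not_cyclic_abelianization (p := 2) (IsPGroup.of_card hX) hne
    haveI : Nontrivial (X ⧸ commutator X) := Finite.one_lt_card_iff_nontrivial.mp (by rw [h]; norm_num)
    refine ⟨by rw [h]; rfl, ?_⟩
    refine Monoid.exponent_eq_prime_iff Nat.prime_two |>.mpr fun g hg => ?_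
    exact orderOf_eq_prime (MaximalClass.pow_eq_one_of_not_cyclic h hnc g) hg
  · intro h
    exact Taussky.maximal_class hn hX (by rw [Subgroup.index_eq_card]; exact h.card_four)

end Cfsg.Agent.S0115
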