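import Cfsg.Statements.S0119
import Cfsg.Agent.Lib.PGroups.Basic
import Cfsg.Agent.Lib.CharP.Basic
import Cfsg.Agent.Lib.Coprime.PGroup

set_option autoImplicit false
open Cfsg
open scoped commutatorElement

namespace Cfsg.Agent.S0119

/-- If a p'-group A of automorphisms of a p-group G satisfies G = [G, A] and acts trivially on every characteristic abelian subgroup, then G is special with centre equal to the fixed points of A. -/
theorem result {G : Type*} [Group G] [Finite G] {p : ℕ} [Fact p.Prime] (hG : IsPGroup p G) (A : Subgroup (MulAut G)) (hA : Nat.Coprime (Nat.card A) p) (hGA : Subgroup.closure {x : G | ∃ g : G, ∃ a ∈ A, x = g⁻¹ * a g} = ⊤) (hchar : ∀ H : Subgroup G, H.Characteristic → IsMulCommutative H → ∀ a ∈ A, ∀ h ∈ H, a h = h) : Cfsg.IsSpecial p G ∧ (∀ g : G, (g ∈ Subgroup.center G ↔ ∀ a ∈ A, a g = g)) := by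
  open Subgroup in
  haveI := hG.isNilpotent
  have hp := (Fact.out : p.Prime)
  have hcen : ∀ H : Subgroup G, H.Characteristic → IsMulCommutative H → H ≤ center G := by
    intro H hH hc h hh
    rw [mem_center_iff]
    have hle : (⊤ : Subgroup G) ≤ centralizer ({h} : Set G) := by
      rw [← hGA, closure_le]
      rintro x ⟨g, a, ha, rfl⟩
      refine mem_centralizer_singleton_iff.mpr ?_
      haveI := hH
      have hgh : g * h * g⁻¹ ∈ H := (inferInstance : H.Normal).conj_mem h hh g
      have e1 : a g * h * (a g)⁻¹ = g * h * g⁻¹ := by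
        have := hchar H hH hc a ha _ hgh
        rwa [map_mul, map_mul, map_inv, hchar H hH hc a ha h hh] at this
      calc g⁻¹ * a g * h = g⁻¹ * (a g * h * (a g)⁻¹) * a g := by group
        _ = g⁻¹ * (g * h * g⁻¹) * a g := by rw [e1]
        _ = _ := by group
    exact fun g => mem_centralizer_singleton_iff.mp (hle (mem_top g))
  -- class two
  have hD : commutator G ≤ center G := by
    classical
    set l := fun k => (⊤ : Subgroup G).lowerCentralSeries k with hl
    have hchar' : ∀ k, (l k).Characteristic := by
      intro k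
      induction k with
      | zero => rw [hl]; simp only [Subgroup.lowerCentralSeries_zero]; infer_instance
      | succ k ih => rw [hl]; simp only [Subgroup.lowerCentralSeries_succ]; exact commutator_characteristic _ _
    have hanti : Antitone l := antitone_nat_of_succ_le fun k => by
      haveI := hchar' k
      rw [hl]; simp only [Subgroup.lowerCentralSeries_succ]
      exact commutator_le_left _ _
    have hit : ∀ i j, Cfsg.Agent.PGroups.Basic.iterTop (l i) j = l (i + j) := by
      intro i j
      induction j with
      | zero => rfl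
      | succ j ih =>
        rw [Cfsg.Agent.PGroups.Basic.iterTop, ih, ← add_assoc]
        exact (Subgroup.lowerCentralSeries_succ _ _).symm
    obtain ⟨m, hm⟩ := (Subgroup.nilpotent_iff_lowerCentralSeries (G := G)).mp inferInstance
    have hex : ∃ k, l k = ⊥ := ⟨m, hm⟩
    set k := Nat.find hex with hk
    rcases Nat.lt_or_ge k 3 with h | h
    · rw [← top_lowerCentralSeries_one]
      intro z hz
      rw [mem_center_iff]
      intro g
      have h2 : ⁅l 1, (⊤ : Subgroup G)⁆ = ⊥ := by
        rw [eq_bot_iff, ← Nat.find_spec hex]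
        exact (Subgroup.lowerCentralSeries_succ _ _).ge.trans (hanti (by omega : k ≤ 2))
      exact ((commutator_eq_bot_iff_le_centralizer.mp h2) hz g (mem_top g))
    · exfalso
      haveI := hchar' (k - 2)
      have hab : IsMulCommutative (l (k - 2)) := by
        refine le_centralizer_iff_isMulCommutative.mp (commutator_eq_bot_iff_le_centralizer.mp (le_bot_iff.mp ?_))
        refine (Cfsg.Agent.PGroups.Basic.commutator_lowerCentral_le (k - 2) (l (k - 2))).trans ?_
        rw [hit, ← Nat.find_spec hex]
        exact hanti (by omega)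
      have hz : l (k - 1) = ⊥ := by
        rw [hl, show k - 1 = k - 2 + 1 by omega]
        simp only [Subgroup.lowerCentralSeries_succ]
        exact commutator_eq_bot_iff_le_centralizer.mpr ((hcen _ (hchar' _) hab).trans (center_le_centralizer _))
      exact Nat.find_min hex (show k - 1 < k by omega) hz
  have hbil : ∀ x y z : G, ⁅x * y, z⁆ = ⁅x, z⁆ * ⁅y, z⁆ := by
    intro x y z
    have hc : ⁅y, z⁆ ∈ center G := hD (by rw [_root_.commutator_def]; exact commutator_mem_commutator (mem_top y) (mem_top z))
    rw [commutatorElement_mul_left_eq_conj_mul, mem_center_iff.mp hc x, mul_inv_cancel_right,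
      ← mem_center_iff.mp hc]
  have hpow : ∀ (k : ℕ) (x z : G), ⁅x ^ k, z⁆ = ⁅x, z⁆ ^ k := by
    intro k x z
    induction k with
    | zero => simp
    | succ k ih => rw [pow_succ, pow_succ, hbil, ih]
  have hsym : ∀ x z : G, ⁅z, x⁆ = (⁅x, z⁆)⁻¹ := fun x z => (commutatorElement_inv x z).symm
  have hexp : ∀ x z : G, ⁅x, z⁆ ^ p = 1 := by
    suffices h : ∀ e, 1 ≤ e → (∀ x z : G, ⁅x, z⁆ ^ p ^ e = 1) → ∀ x z : G, ⁅x, z⁆ ^ p = 1 by
      obtain ⟨a, ha⟩ := hG.exists_card_eq
      refine h (a + 1) (by omega) fun x z => ?_
      refine orderOf_dvd_iff_pow_eq_one.mp ((_root_.orderOf_dvd_natCard _).trans ?_)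
      rw [ha]; exact pow_dvd_pow p (by omega)
    intro e he
    induction e, he using Nat.le_induction with
    | base => intro h; simpa using h
    | succ e he ih =>
      intro h
      refine ih fun x z => ?_
      set H := closure (Set.range fun y : G => y ^ p ^ e)
      have hHc : H.Characteristic := characteristic_iff_map_le.mpr fun φ => by
        rw [MonoidHom.map_closure, closure_le]
        rintro _ ⟨_, ⟨y, rfl⟩, rfl⟩
        exact Subgroup.subset_closure ⟨φ y, (map_pow φ y _).symm⟩
      have hHa : IsMulCommutative H := isMulCommutative_closure (by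
        rintro _ ⟨y, rfl⟩ _ ⟨w, rfl⟩
        rw [← commutatorElement_eq_one_iff_mul_comm, hpow, hsym (w ^ p ^ e) y, inv_pow, hpow,
          hsym y w, inv_pow, inv_pow, inv_inv, ← pow_mul, ← pow_add]
        rw [show e + e = e + 1 + (e - 1) by omega, pow_add, pow_mul, h, one_pow])
      rw [← hpow, commutatorElement_eq_one_iff_mul_comm]
      exact (mem_center_iff.mp (hcen H hHc hHa (Subgroup.subset_closure ⟨x, rfl⟩)) z).symm
  have hxp : ∀ x : G, x ^ p ∈ center G := fun x => mem_center_iff.mpr fun z => by
    rw [eq_comm, ← commutatorElement_eq_one_iff_mul_comm, hpow, hexp]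
  have hΦ : frattini G ≤ center G := by
    refine (Cfsg.Agent.CharP.frattini_le_ker (p := p) (QuotientGroup.mk' (center G)) (fun a b => ?_) (fun a => ?_)).trans
      (QuotientGroup.ker_mk' _).le
    · rw [← commutatorElement_eq_one_iff_commute, ← map_commutatorElement]
      exact (QuotientGroup.eq_one_iff _).mpr (hD (by rw [_root_.commutator_def]; exact commutator_mem_commutator (mem_top a) (mem_top b)))
    · rw [← map_pow]; exact (QuotientGroup.eq_one_iff _).mpr (hxp a)
  have hZfix : ∀ g ∈ center G, ∀ a ∈ A, a g = g := fun g hg a ha =>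
    hchar (center G) inferInstance inferInstance a ha g hg
  have hfix : ∀ g : G, (∀ a ∈ A, a g = g) → g ∈ commutator G := by
    classical
    intro g hg
    haveI := Fintype.ofFinite A
    let m : G →* Abelianization G := Abelianization.of
    let θ : G →* Abelianization G := MonoidHom.mk' (fun x => ∏ a : A, m ((a : MulAut G) x)) fun x y => by
      simp only [map_mul, Finset.prod_mul_distrib]
    have hθ : ∀ x, θ x = 1 := by
      have hle : (⊤ : Subgroup G) ≤ θ.ker := by
        rw [← hGA, closure_le]
        rintro x ⟨y, b, hb, rfl⟩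
        rw [SetLike.mem_coe, MonoidHom.mem_ker, map_mul, map_inv, inv_mul_eq_one]
        exact (Fintype.prod_equiv (Equiv.mulRight (⟨b, hb⟩ : A)) _ _ fun a => by
          rfl).symm
      exact fun x => hle (mem_top x)
    have h1 : m g ^ Nat.card A = 1 := by
      rw [← hθ g]
      show _ = ∏ a : A, m ((a : MulAut G) g)
      rw [Finset.prod_congr rfl (g := fun _ => m g) (fun a _ => by rw [hg a a.2]), Finset.prod_const,
        Finset.card_univ, Nat.card_eq_fintype_card]
    obtain ⟨k, hk⟩ := hG g
    have h2 : m g = 1 := orderOf_eq_one_iff.mp (Nat.eq_one_of_dvd_coprimes (hA.pow_right k)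
      (orderOf_dvd_of_pow_eq_one h1) (orderOf_dvd_of_pow_eq_one (by rw [← map_pow, hk, map_one])))
    exact (QuotientGroup.eq_one_iff g).mp h2
  have hZD : center G ≤ commutator G := fun g hg => hfix g (hZfix g hg)
  refine ⟨⟨hG, le_antisymm hΦ (hZD.trans (Cfsg.Agent.Coprime.commutator_le_frattini G)), le_antisymm hD hZD⟩,
    fun g => ⟨hZfix g, fun h => hD (hfix g h)⟩⟩

end Cfsg.Agent.S0119
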