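import Cfsg.Statements.S0123
import Cfsg.Agent.Lib.PGroups.ClassThree

set_option autoImplicit false
open Cfsg

namespace Cfsg.Agent.S0123

/-- For a p-group of small class relative to p (class ≤ 2 with p odd, or class ≤ 3 with p > 3) whose derived subgroup is generated by elements of order dividing p, the p-th power map is multiplicative. -/
theorem result {R : Type*} [Group R] [Finite R] {p : ℕ} [Fact p.Prime] (hR : IsPGroup p R) (hcl : (p ≠ 2 ∧ ⁅commutator R, (⊤ : Subgroup R)⁆ = ⊥) ∨ (3 < p ∧ ⁅⁅commutator R, (⊤ : Subgroup R)⁆, (⊤ : Subgroup R)⁆ = ⊥)) (hder : commutator R ≤ Subgroup.closure {x : R | x ^ p = 1}) (x y : R) : (x * y) ^ p = x ^ p * y ^ p := by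
  have hp2 : p ≠ 2 := by rcases hcl with h | h <;> [exact h.1; omega]
  have h := Cfsg.Agent.PGroups.ClassThree.smallClass_of_commutator
    (hcl.imp_right fun h => ⟨by omega, h.2⟩)
  refine Cfsg.Agent.PGroups.ClassThree.mul_pow_prime hp2 h
    (Cfsg.Agent.PGroups.ClassThree.pow_eq_one_of_mem_closure hp2 hR h (hder ?_))
  have hm := Subgroup.commutator_mem_commutator (Subgroup.mem_top y⁻¹) (Subgroup.mem_top x⁻¹)
  rw [commutator_def]
  simpa [commutatorElement_def, mul_assoc] using hm

end Cfsg.Agent.S0123
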