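import Cfsg.Statements.S0125
import Cfsg.Agent.Lib.Transfer.NormalPComplement
import Cfsg.Agent.Lib.PLocal.Omega

set_option autoImplicit false
open Cfsg

namespace Cfsg.Agent.S0125

/-- The centralizer of a self-centralizing normal subgroup A of a Sylow p-subgroup is the direct product of A with a normal p'-subgroup. -/
theorem result {G : Type*} [Group G] [Finite G] {p : ℕ} [Fact p.Prime] (R : Sylow p G) (A : Subgroup G) (hAR : A ≤ (R : Subgroup G)) (hAn : (R : Subgroup G) ≤ Subgroup.normalizer (A : Set G)) (hC : (R : Subgroup G) ⊓ Subgroup.centralizer (A : Set G) = A) : ∃ H : Subgroup G, H ≤ Subgroup.centralizer (A : Set G) ∧ Nat.Coprime (Nat.card H) p ∧ Subgroup.centralizer (A : Set G) ≤ Subgroup.normalizer (H : Set G) ∧ H ⊓ A = ⊥ ∧ H ⊔ A = Subgroup.centralizer (A : Set G) := by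
  open Cfsg.Agent.Transfer.NormalPComplement in
  set C := Subgroup.centralizer (A : Set G) with hCdef
  have hp : p.Prime := Fact.out
  have hAC : A ≤ C := hC ▸ inf_le_right
  have hRN : (R : Subgroup G) ≤ Subgroup.normalizer (C : Set G) := by
    intro r hr
    have hr' := hAn hr
    rw [Subgroup.mem_normalizer_iff] at hr' ⊢
    intro x
    simp only [hCdef, Subgroup.mem_centralizer_iff, SetLike.mem_coe]
    constructor
    · intro hx a ha
      have := hx (r⁻¹ * a * r) (by rw [hr']; simpa [mul_assoc] using ha)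
      calc a * (r * x * r⁻¹) = r * ((r⁻¹ * a * r) * x) * r⁻¹ := by group
        _ = r * (x * (r⁻¹ * a * r)) * r⁻¹ := by rw [this]
        _ = r * x * r⁻¹ * a := by group
    · intro hx a ha
      have := hx (r * a * r⁻¹) ((hr' a).mp ha)
      calc a * x = r⁻¹ * ((r * a * r⁻¹) * (r * x * r⁻¹)) * r := by group
        _ = r⁻¹ * ((r * x * r⁻¹) * (r * a * r⁻¹)) * r := by rw [this]
        _ = x * a := by group
  let M := Subgroup.normalizer (C : Set G)
  let RM : Sylow p M := R.subtype hRN
  have hCn : (C.subgroupOf M).Normal := Subgroup.normal_in_normalizer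
  have hidx : ¬ p ∣ (A.subgroupOf C).index := by
    have h := Cfsg.Agent.PLocal.Omega.not_dvd_relIndex_inf RM (C.subgroupOf M)
    have he : (RM : Subgroup M) ⊓ C.subgroupOf M = A.subgroupOf M := by
      rw [Sylow.coe_subtype, ← hC]; rfl
    rw [he] at h
    rwa [Subgroup.relIndex_subgroupOf (Subgroup.le_normalizer)] at h
  have hpA : IsPGroup p (A.subgroupOf C) :=
    (R.2.to_le hAR).of_injective (Subgroup.subgroupOfEquivOfLe hAC).toMonoidHom
      (Subgroup.subgroupOfEquivOfLe hAC).injective
  let S : Sylow p C := hpA.toSylow hidx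
  have hS : (S : Subgroup C) = A.subgroupOf C := rfl
  have hcen : Subgroup.centralizer ((S : Subgroup C) : Set C) = ⊤ := by
    rw [eq_top_iff]
    intro x _
    rw [Subgroup.mem_centralizer_iff]
    intro a ha
    exact Subtype.ext (x.2 (a : G) ha)
  obtain ⟨S', N, hN, hc⟩ := hasNormalPComplement_of_normalizer_le_centralizer S (hcen ▸ le_top)
  have hex : ∃ N : Subgroup C, N.Normal ∧ (Nat.card N).Coprime p ∧ ∃ k : ℕ, N.index = p ^ k :=
    hasNormalPComplement_iff_exists.mp ⟨S', N, hN, hc⟩
  obtain ⟨N, hN, hNp, k, hk⟩ := hex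
  have hc := isComplement'_of_coprime_card hNp hk S
  refine ⟨N.map C.subtype, Subgroup.map_subtype_le N, ?_, ?_, ?_, ?_⟩
  · rwa [Nat.card_congr (Subgroup.equivMapOfInjective N C.subtype C.subtype_injective).toEquiv.symm]
  · exact Subgroup.le_normalizer_map C.subtype |>.trans' (by
      rw [Subgroup.normalizer_eq_top (H := N), ← MonoidHom.range_eq_map, Subgroup.range_subtype])
  · have : A = (S : Subgroup C).map C.subtype := by
      rw [hS, Subgroup.subgroupOf_map_subtype, inf_eq_left.mpr hAC]
    rw [this, ← Subgroup.map_inf _ _ _ C.subtype_injective, disjoint_iff.mp hc.disjoint, Subgroup.map_bot]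
  · have : A = (S : Subgroup C).map C.subtype := by
      rw [hS, Subgroup.subgroupOf_map_subtype, inf_eq_left.mpr hAC]
    rw [this, ← Subgroup.map_sup, hc.sup_eq_top, ← MonoidHom.range_eq_map, Subgroup.range_subtype]

end Cfsg.Agent.S0125
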