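import Cfsg.Statements.S0127
import Cfsg.Agent.Lib.PLocal.CyclicExtension

set_option autoImplicit false
open Cfsg

namespace Cfsg.Agent.S0127

/-- For odd p, in a non-cyclic p-group with a cyclic subgroup of index p, the elements of order dividing p generate an elementary abelian subgroup of order p^2. -/
theorem result {R : Type*} [Group R] [Finite R] {p : ℕ} [Fact p.Prime] (hp : p ≠ 2) (hR : IsPGroup p R) (hnc : ¬ IsCyclic R) (C : Subgroup R) (hC : IsCyclic C) (hCi : C.index = p) : Cfsg.IsElementaryAbelian p (Subgroup.closure {x : R | x ^ p = 1}) ∧ Nat.card (Subgroup.closure {x : R | x ^ p = 1}) = p ^ 2 := by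
  have hpp : p.Prime := Fact.out
  have hnc' : ¬ IsCyclic ↥(⊤ : Subgroup R) := fun h =>
    hnc (isCyclic_of_surjective Subgroup.topEquiv.toMonoidHom Subgroup.topEquiv.surjective)
  have hCn : C.Normal := by
    have : Group.IsNilpotent R := hR.isNilpotent
    refine Subgroup.NormalizerCondition.normal_of_coatom C Group.normalizerCondition_of_isNilpotent ⟨?_, fun K hK => ?_⟩
    · intro h
      rw [h, Subgroup.index_top] at hCi
      exact hpp.ne_one hCi.symm
    · have h1 := Subgroup.relIndex_mul_index hK.le
      rw [hCi] at h1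
      rcases (Nat.dvd_prime hpp).mp (Dvd.intro_left _ h1) with h2 | h2
      · exact Subgroup.index_eq_one.mp h2
      · rw [h2] at h1
        exact absurd (Subgroup.relIndex_eq_one.mp
          (Nat.eq_of_mul_eq_mul_right hpp.pos (h1.trans (one_mul p).symm))) hK.not_ge
  obtain ⟨E, hEn, -, hEe, hEc, hiff⟩ := Cfsg.Agent.PLocal.CyclicExtension.exists_omega hp hR hC
    (le_top : C ≤ ⊤) (by rw [Subgroup.relIndex_top_right]; exact hCi) hnc'
  have heq : Subgroup.closure {x : R | x ^ p = 1} = E :=
    le_antisymm ((Subgroup.closure_le _).mpr fun x hx => (hiff x).mpr ⟨Subgroup.mem_top x, hx⟩)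
      fun x hx => Subgroup.subset_closure ((hiff x).mp hx).2
  rw [heq]
  exact ⟨hEe, hEc⟩

end Cfsg.Agent.S0127
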