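import Cfsg.Statements.S0131
import Cfsg.Agent.Lib.Transfer.Fusion

set_option autoImplicit false
open Cfsg

namespace Cfsg.Agent.S0131

/-- P/P' has a normal complement in G exactly when the focal subgroup G' ∩ P is as small as possible, namely P'. -/
theorem result {G : Type*} [Group G] [Finite G] {p : ℕ} [Fact p.Prime] (P : Sylow p G) : (∃ N : Subgroup G, N.Normal ∧ N ⊓ (P : Subgroup G) = ⁅(P : Subgroup G), (P : Subgroup G)⁆ ∧ N ⊔ (P : Subgroup G) = ⊤) ↔ commutator G ⊓ (P : Subgroup G) = ⁅(P : Subgroup G), (P : Subgroup G)⁆ := by
  constructor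
  · rintro ⟨N, hN, h1, h2⟩
    refine le_antisymm ?_ ?_
    · have hle : commutator G ≤ N := by
        have hmap : (P : Subgroup G).map (QuotientGroup.mk' N) = ⊤ := by
          have := congrArg (Subgroup.map (QuotientGroup.mk' N)) h2
          rwa [Subgroup.map_sup, QuotientGroup.map_mk'_self, bot_sup_eq,
            Subgroup.map_top_of_surjective _ (QuotientGroup.mk'_surjective N)] at this
        have : (commutator G).map (QuotientGroup.mk' N) = ⊥ := by
          rw [commutator_def, Subgroup.map_commutator,
            Subgroup.map_top_of_surjective _ (QuotientGroup.mk'_surjective N), ← hmap,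
            ← Subgroup.map_commutator, Subgroup.map_eq_bot_iff, QuotientGroup.ker_mk', ← h1]
          exact inf_le_left
        rwa [Subgroup.map_eq_bot_iff, QuotientGroup.ker_mk'] at this
      rw [← h1]
      exact inf_le_inf_right _ hle
    · refine le_inf ?_ ?_
      · rw [commutator_def]
        exact Subgroup.commutator_mono le_top le_top
      · exact (Subgroup.map_subtype_commutator (P : Subgroup G)).symm.le.trans
          (Subgroup.map_subtype_le _)
  · intro h
    obtain ⟨N, hN, h1, h2⟩ := Cfsg.Agent.Transfer.Fusion.exists_normal_inf_eq_focal P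
    exact ⟨N, hN, h1.trans h, h2⟩

end Cfsg.Agent.S0131
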