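import Cfsg.Statements.S0136
import Cfsg.Agent.Lib.Characters.Inner
-- import your own Cfsg.Agent.* helpers here

set_option autoImplicit false
open Cfsg

namespace Cfsg.Agent.S0136

/-- Two elements of a finite group are conjugate if and only if no irreducible complex character separates them. -/
theorem result {G : Type*} [Group G] [Finite G] (g h : G) : IsConj g h ↔ ∀ χ : Cfsg.IrrCharacter G, (χ : G → ℂ) g = (χ : G → ℂ) h := by
  refine ⟨fun hgh χ => ?_, fun h => Characters.isConj_of_forall_irr_eq h⟩
  obtain ⟨y, rfl⟩ := isConj_iff.1 hgh
  exact (Characters.irr_isClassFunction χ g y).symm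

end Cfsg.Agent.S0136
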