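import Cfsg.Statements.S0138
import Cfsg.Agent.Lib.Characters.Basic
-- import your own Cfsg.Agent.* helpers here

set_option autoImplicit false
open Cfsg

namespace Cfsg.Agent.S0138

/-- A character value has absolute value equal to the degree exactly when the group element acts by a scalar. -/
theorem result {G : Type*} [Group G] [Finite G] {V : Type*} [AddCommGroup V] [Module ℂ V] [FiniteDimensional ℂ V] (ρ : Representation ℂ G V) (g : G) : ‖ρ.character g‖ = (Module.finrank ℂ V : ℝ) ↔ ∃ ω : ℂ, ρ g = ω • (LinearMap.id : V →ₗ[ℂ] V) := by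
  refine ⟨Characters.rep_apply_eq_smul_of_norm_eq ρ g, fun ⟨ω, hω⟩ => ?_⟩
  rcases Nat.eq_zero_or_pos (Module.finrank ℂ V) with hd | hd
  · haveI := Module.finrank_zero_iff (R := ℂ) (M := V) |>.1 hd
    have h0 : ρ g = 0 := Subsingleton.elim _ _
    simp [Representation.character, h0, hd]
  have hpow : ω ^ orderOf g = 1 := by
    have h1 := congrArg (fun f : V →ₗ[ℂ] V => LinearMap.trace ℂ V f)
      (show (ρ g) ^ orderOf g = 1 by rw [← map_pow, pow_orderOf_eq_one, map_one])
    rw [hω, smul_pow] at h1
    simp [Module.End.one_eq_id, LinearMap.trace_id] at h1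
    exact mul_right_cancel₀ (Nat.cast_ne_zero.2 hd.ne') (h1.trans (one_mul _).symm)
  simp [Representation.character, hω,
    Complex.norm_eq_one_of_pow_eq_one hpow (orderOf_pos g).ne']

end Cfsg.Agent.S0138
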