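import Cfsg.Statements.S0155
import Cfsg.Agent.Lib.Characters.Induction
-- import your own Cfsg.Agent.* helpers here

set_option autoImplicit false
open Cfsg

namespace Cfsg.Agent.S0155

/-- The character of the left regular representation of a finite group takes the value |G| at the identity and 0 at every other element. -/
theorem result {G : Type*} [Group G] [Fintype G] [DecidableEq G] (g : G) : (Representation.leftRegular ℂ G).character g = if g = 1 then (Nat.card G : ℂ) else 0 := by
  have φ : (Representation.leftRegular ℂ G).Equiv (Characters.funRep G G) :=
    Representation.Equiv.mk ((MonoidAlgebra.coeffLinearEquiv ℂ).trans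
      (Finsupp.linearEquivFunOnFinite ℂ ℂ G)) fun a => LinearMap.ext fun f => funext fun x =>
        Representation.coeff_ofMulAction a f x
  rw [Representation.char_iso φ, Characters.funRep_regular_apply g]

end Cfsg.Agent.S0155
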