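import Cfsg.Statements.S0157
import Cfsg.Agent.Lib.Characters.Counting
-- import your own Cfsg.Agent.* helpers here

set_option autoImplicit false
open Cfsg

namespace Cfsg.Agent.S0157

/-- For a transitive action of a finite group on a finite set with at least two points: the action is 2-transitive if and only if the function sending g to (number of fixed points of g) − 1 is an irreducible character. -/
theorem result {G : Type*} [Group G] [Finite G] (X : Type*) [MulAction G X] [Finite X] [MulAction.IsPretransitive G X] (hX : 2 ≤ Nat.card X) : Cfsg.IsIrrCharacter G (fun g => (Nat.card (MulAction.fixedBy X g) : ℂ) - 1) ↔ MulAction.IsMultiplyPretransitive G X 2 := by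
  classical
  haveI := Fintype.ofFinite G
  haveI := Fintype.ofFinite X
  set π : G → ℂ := fun g => (Nat.card (MulAction.fixedBy X g) : ℂ) with hπ
  have hπc : Cfsg.IsCharacter G π := Characters.isCharacter_permChar X
  -- orbit counting
  have burn : ∀ (Y : Type _) [Fintype Y] [MulAction G Y], (∑ g : G,
      (Nat.card (MulAction.fixedBy Y g) : ℂ)) =
        (Nat.card (Quotient (MulAction.orbitRel G Y)) : ℂ) * (Nat.card G : ℂ) := by
    intro Y _ _
    simp only [Nat.card_eq_fintype_card]
    exact_mod_cast MulAction.sum_card_fixedBy_eq_card_orbits_mul_card_group G Y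
  haveI : Nonempty X := (Nat.card_pos_iff.1 (by omega)).1
  have h1 : Cfsg.classInner π (fun _ => 1) = 1 := by
    rw [Characters.classInner_def]
    simp only [map_one, mul_one, hπ]
    rw [burn X]
    have : Nat.card (Quotient (MulAction.orbitRel G X)) = 1 := by
      haveI : Nonempty (Quotient (MulAction.orbitRel G X)) := ⟨Quotient.mk'' (Classical.arbitrary X)⟩
      haveI : Subsingleton (Quotient (MulAction.orbitRel G X)) := ⟨fun a b => by
        induction a using Quotient.inductionOn' with
        | h x => induction b using Quotient.inductionOn' with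
          | h y => exact Quotient.sound' (MulAction.exists_smul_eq G y x)⟩
      exact Nat.card_eq_one_iff_unique.2 ⟨inferInstance, inferInstance⟩
    rw [this, Nat.cast_one, one_mul, inv_mul_cancel₀ Characters.natCard_ne_zero]
  have h2 : Cfsg.classInner π π = (Nat.card (Quotient (MulAction.orbitRel G (X × X))) : ℂ) := by
    rw [Characters.classInner_def, inv_mul_eq_iff_eq_mul₀ Characters.natCard_ne_zero, mul_comm,
      ← burn (X × X)]
    refine Finset.sum_congr rfl fun g _ => ?_
    simp only [hπ, Complex.conj_natCast, ← Nat.cast_mul, ← Nat.card_prod]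
    exact congrArg _ (Nat.card_congr
      { toFun := fun p => ⟨(p.1.1, p.2.1), Prod.ext p.1.2 p.2.2⟩
        invFun := fun p => (⟨p.1.1, congrArg Prod.fst p.2⟩, ⟨p.1.2, congrArg Prod.snd p.2⟩)
        left_inv := fun _ => rfl
        right_inv := fun _ => rfl })
  have hfun : (fun g : G => (Nat.card (MulAction.fixedBy X g) : ℂ) - 1) = π - fun _ => 1 := rfl
  rw [hfun]
  have h1' : Cfsg.classInner (fun _ : G => (1 : ℂ)) π = 1 := by
    rw [Characters.classInner_conj_symm π, h1, map_one]
  have hnorm : Cfsg.classInner (π - fun _ => 1) (π - fun _ => 1) =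
      (Nat.card (Quotient (MulAction.orbitRel G (X × X))) : ℂ) - 1 := by
    rw [Characters.classInner_sub_left, Characters.classInner_sub_right,
      Characters.classInner_sub_right, h1, h1', h2,
      Characters.classInner_isIrr_self Characters.isIrrCharacter_one]
    ring
  have hpos : 0 < ((π - fun _ => (1 : ℂ) : G → ℂ) 1).re := by
    simp only [hπ, Pi.sub_apply, MulAction.fixedBy_one_eq_univ,
      Nat.card_congr (Equiv.Set.univ X), Complex.sub_re, Complex.natCast_re, Complex.one_re]
    have : (2 : ℝ) ≤ (Nat.card X : ℝ) := by exact_mod_cast hX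
    linarith
  have hiff : Cfsg.IsIrrCharacter G (π - fun _ => 1) ↔
      Nat.card (Quotient (MulAction.orbitRel G (X × X))) = 2 := by
    constructor
    · intro h
      have h3 := hnorm.symm.trans (Characters.classInner_isIrr_self h)
      rw [sub_eq_iff_eq_add] at h3
      exact_mod_cast h3.trans (by norm_num : (1 : ℂ) + 1 = ((2 : ℕ) : ℂ))
    · intro h
      refine Characters.isIrr_of_gen_norm_one (Characters.isGen_sub
        (Characters.isGen_of_isCharacter hπc)
        (Characters.isGen_of_isCharacter Characters.isCharacter_one)) ?_ hpos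
      rw [hnorm, h]; norm_num
  rw [hiff, MulAction.is_two_pretransitive_iff]
  haveI : Nontrivial X := Finite.one_lt_card_iff_nontrivial.1 (by omega)
  obtain ⟨a, b, hab⟩ := exists_pair_ne X
  set D : Quotient (MulAction.orbitRel G (X × X)) := Quotient.mk'' (a, a) with hD
  set O : Quotient (MulAction.orbitRel G (X × X)) := Quotient.mk'' (a, b) with hO
  have hDO : D ≠ O := fun h => by
    obtain ⟨g, hg⟩ := Quotient.exact' h
    have hga : g • a = a := congrArg Prod.fst hg
    have hgb : g • b = a := congrArg Prod.snd hg
    exact hab (MulAction.injective g (hga.trans hgb.symm))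
  constructor
  · intro hcard x y c d hxy hcd
    have key : ∀ u w : X, u ≠ w →
        (Quotient.mk'' (u, w) : Quotient (MulAction.orbitRel G (X × X))) = O := by
      intro u w huw
      by_contra hne
      have hneD : (Quotient.mk'' (u, w) : Quotient (MulAction.orbitRel G (X × X))) ≠ D := fun h => by
        obtain ⟨g, hg⟩ := Quotient.exact' h
        exact huw ((congrArg Prod.fst hg).symm.trans (congrArg Prod.snd hg))
      have h3 : ({D, O, Quotient.mk'' (u, w)} :
          Finset (Quotient (MulAction.orbitRel G (X × X)))).card = 3 :=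
        Finset.card_eq_three.2 ⟨D, O, _, hDO, hneD.symm, fun h => hne h.symm, rfl⟩
      have := Finset.card_le_univ ({D, O, Quotient.mk'' (u, w)} :
          Finset (Quotient (MulAction.orbitRel G (X × X))))
      rw [← Nat.card_eq_fintype_card, hcard] at this
      omega
    obtain ⟨g, hg⟩ := Quotient.exact' ((key c d hcd).trans (key x y hxy).symm)
    exact ⟨g, congrArg Prod.fst hg, congrArg Prod.snd hg⟩
  · intro h
    rw [Nat.card_eq_two_iff]
    refine ⟨D, O, hDO, Set.eq_univ_of_forall fun q => ?_⟩
    induction q using Quotient.inductionOn' with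
    | h p =>
      obtain ⟨u, w⟩ := p
      by_cases huw : u = w
      · obtain ⟨g, hg⟩ := MulAction.exists_smul_eq G a u
        exact Or.inl (Quotient.sound' ⟨g, Prod.ext hg (hg.trans huw)⟩)
      · obtain ⟨g, hg1, hg2⟩ := h hab huw
        exact Or.inr (Quotient.sound' ⟨g, Prod.ext hg1 hg2⟩)

end Cfsg.Agent.S0157
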