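import Cfsg.Statements.S0162
import Cfsg.Agent.Lib.Characters.Counting
import Cfsg.Agent.Lib.Characters.Integrality
import Cfsg.Agent.S0161
-- import your own Cfsg.Agent.* helpers here

set_option autoImplicit false
open Cfsg

namespace Cfsg.Agent.S0162

/-- If a finite group has odd order, its order is congruent to its number of conjugacy classes modulo 16. -/
theorem result {G : Type*} [Group G] [Finite G] (hodd : Odd (Nat.card G)) : Nat.card G ≡ Nat.card (ConjClasses G) [MOD 16] := by
  classical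
  haveI := Fintype.ofFinite (Cfsg.IrrCharacter G)
  choose d hd hpos hdvd using fun χ : Cfsg.IrrCharacter G => Characters.irr_degree_dvd_card χ.2
  have hsum : ∑ χ : Cfsg.IrrCharacter G, d χ * d χ = Nat.card G := by
    apply Nat.cast_injective (R := ℂ)
    push_cast
    rw [← Characters.sum_degree_sq]
    exact Finset.sum_congr rfl fun χ _ => by rw [hd, sq]
  set f : Cfsg.IrrCharacter G → ℕ := fun χ => d χ * d χ - 1 with hf
  have h8 : ∀ χ, 8 ∣ f χ := fun χ => by
    obtain ⟨m, hm⟩ := hodd.of_dvd_nat (hdvd χ)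
    obtain ⟨r, hr⟩ := Nat.even_mul_succ_self m
    refine ⟨r, ?_⟩
    simp only [hf, hm]
    have : (2 * m + 1) * (2 * m + 1) = 4 * (m * (m + 1)) + 1 := by ring
    omega
  have hone : ∀ χ, 1 ≤ d χ * d χ := fun χ => Nat.one_le_iff_ne_zero.2
    (mul_ne_zero (hpos χ).ne' (hpos χ).ne')
  have htot : ∑ χ, f χ + Nat.card (ConjClasses G) = Nat.card G := by
    rw [← Characters.card_irrCharacter, Nat.card_eq_fintype_card, Fintype.card_eq_sum_ones,
      ← Finset.sum_add_distrib, ← hsum]
    exact Finset.sum_congr rfl fun χ _ => Nat.sub_add_cancel (hone χ)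
  -- split into a set and its complex conjugate
  let c := Characters.irrConjEquiv G
  have hfc : ∀ χ, f (c χ) = f χ := fun χ => by
    have h1 := hd (c χ)
    rw [show ((c χ : Cfsg.IrrCharacter G) : G → ℂ) 1 = starRingEnd ℂ ((χ : G → ℂ) 1) from rfl, hd χ,
      Complex.conj_natCast] at h1
    have h2 : d χ = d (c χ) := by exact_mod_cast h1
    simp only [hf, h2]
  have hfix : ∀ χ, c χ = χ → f χ = 0 := fun χ h => by
    have hreal : ∀ g : G, ((χ : G → ℂ) g).im = 0 := fun g =>
      Complex.conj_eq_iff_im.1 (congrFun (congrArg Subtype.val h) g)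
    have h1 : (1 : ℂ) = (d χ : ℂ) := by
      rw [← hd χ, Cfsg.Agent.S0161.result hodd χ hreal]
    have h2 : 1 = d χ := by exact_mod_cast h1
    simp [hf, ← h2]
  let e := Fintype.equivFin (Cfsg.IrrCharacter G)
  set S := Finset.univ.filter fun χ => e χ < e (c χ) with hS
  set S' := Finset.univ.filter fun χ => e (c χ) < e χ with hS'
  set T := Finset.univ.filter fun χ => c χ = χ with hT
  have hcc : ∀ χ, c (c χ) = χ := fun χ => Subtype.ext (funext fun g => by simp [c])
  have hsplit : ∑ χ, f χ = ∑ χ ∈ T, f χ + (∑ χ ∈ S, f χ + ∑ χ ∈ S', f χ) := by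
    simp only [hS, hS', hT, Finset.sum_filter, ← Finset.sum_add_distrib]
    refine Finset.sum_congr rfl fun χ _ => ?_
    rcases lt_trichotomy (e χ) (e (c χ)) with h | h | h
    · rw [if_neg (fun h' => by rw [h'] at h; exact lt_irrefl _ h), if_pos h, if_neg h.not_gt]; simp
    · have h' := e.injective h
      rw [if_pos h'.symm, if_neg (by rw [h]; exact lt_irrefl _),
        if_neg (by rw [h]; exact lt_irrefl _)]; simp
    · rw [if_neg (fun h' => by rw [h'] at h; exact lt_irrefl _ h), if_neg h.not_gt, if_pos h]; simp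
  have hSS : ∑ χ ∈ S', f χ = ∑ χ ∈ S, f χ :=
    Finset.sum_equiv c (fun χ => by simp [hS, hS', hcc]) (fun χ _ => (hfc χ).symm)
  have hTz : ∑ χ ∈ T, f χ = 0 := Finset.sum_eq_zero fun χ h => hfix χ (Finset.mem_filter.1 h).2
  rw [hTz, hSS, zero_add, ← two_mul] at hsplit
  obtain ⟨q, hq⟩ : 8 ∣ ∑ χ ∈ S, f χ := Finset.dvd_sum fun χ _ => h8 χ
  refine ((Nat.modEq_iff_dvd' (by omega)).2 ⟨q, ?_⟩).symm
  omega

end Cfsg.Agent.S0162
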