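import Cfsg.Statements.S0166
import Mathlib
import Cfsg.Agent.Lib.Characters.SplittingField

set_option autoImplicit false
open Cfsg

namespace Cfsg.Agent.S0166

/-- Brauer's splitting field Theorem: a complex representation of a finite group of exponent m is equivalent to a representation by matrices with entries in ℚ adjoined exp(2πi/m). -/
theorem result {G : Type*} [Group G] [Finite G] (n : ℕ) (ρ : Representation ℂ G (Fin n → ℂ)) : ∃ σ : Representation ℂ G (Fin n → ℂ), Nonempty (ρ.Equiv σ) ∧ ∀ g : G, ∀ i j : Fin n, LinearMap.toMatrix' (σ g) i j ∈ Algebra.adjoin ℚ ({Complex.exp (2 * Real.pi * Complex.I / (Monoid.exponent G : ℂ))} : Set ℂ) := by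
  classical
  haveI := Fintype.ofFinite G
  have hm0 : Monoid.exponent G ≠ 0 := Monoid.exponent_ne_zero_of_finite
  set m := Monoid.exponent G
  have hζ := Complex.isPrimitiveRoot_exp m hm0
  set ζ := Complex.exp (2 * Real.pi * Complex.I / (m : ℂ))
  obtain ⟨k, τ, hτ⟩ := Characters.SplittingField.real_of_isCharacter
    (fun g => Monoid.pow_exponent_eq_one g) hm0 hζ
    (⟨n, ρ, rfl⟩ : Cfsg.IsCharacter G ρ.character)
  obtain ⟨e⟩ := Characters.nonempty_equiv_of_character_eq ρ (Characters.SplittingField.cRep τ)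
    (funext fun g => ((Characters.SplittingField.cRep_character τ g).trans (hτ g)).symm)
  have hk : n = k := by
    have := e.toLinearEquiv.finrank_eq
    rwa [Module.finrank_fin_fun, Module.finrank_fin_fun] at this
  subst hk
  refine ⟨_, ⟨e⟩, fun g i j => ?_⟩
  rw [Characters.SplittingField.cRep_toMatrix, Matrix.map_apply]
  have halg : IsAlgebraic ℚ ζ :=
    ⟨Polynomial.X ^ m - 1, Polynomial.X_pow_sub_C_ne_zero (Nat.pos_of_ne_zero hm0) 1, by
      simp [hζ.pow_eq_one]⟩
  rw [← IntermediateField.adjoin_simple_toSubalgebra_of_isAlgebraic halg]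
  exact (LinearMap.toMatrix' (τ g) i j).2

end Cfsg.Agent.S0166
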