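import Cfsg.Statements.S0167
import Cfsg.Agent.Lib.Characters.Counting
-- import your own Cfsg.Agent.* helpers here

set_option autoImplicit false
open Cfsg

namespace Cfsg.Agent.S0167

/-- An element g of a finite group is a commutator if and only if the sum over the irreducible characters χ of χ g / χ 1 is nonzero. -/
theorem result {G : Type*} [Group G] [Finite G] (g : G) : (∃ a b : G, g = a * b * a⁻¹ * b⁻¹) ↔ ∑ᶠ χ : Cfsg.IrrCharacter G, (χ : G → ℂ) g / (χ : G → ℂ) 1 ≠ 0 := by
  classical
  haveI := Fintype.ofFinite G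
  haveI := Fintype.ofFinite (Cfsg.IrrCharacter G)
  rw [finsum_eq_sum_of_fintype]
  -- count the pairs with commutator `g`
  have hcount : (Nat.card G : ℂ) * ∑ χ : Cfsg.IrrCharacter G, (χ : G → ℂ) g / (χ : G → ℂ) 1 =
      ∑ a : G, if IsConj (g * a) a then
        (Nat.card (Subgroup.centralizer ({a} : Set G)) : ℂ) else 0 := by
    rw [Finset.sum_congr rfl (g := fun a : G => ∑ χ : Cfsg.IrrCharacter G,
      (χ : G → ℂ) (g * a) * starRingEnd ℂ ((χ : G → ℂ) a)) fun a _ => ?_]
    swap
    · rw [Characters.second_orthogonality (g * a) a]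
      split_ifs <;> rfl
    rw [Finset.sum_comm, Finset.mul_sum]
    refine Finset.sum_congr rfl fun χ _ => ?_
    rw [Characters.sum_mul_conj_shift χ.2, mul_div_assoc]
  have hG : (Nat.card G : ℂ) ≠ 0 := Characters.natCard_ne_zero
  constructor
  · rintro ⟨a, b, rfl⟩ h0
    rw [h0, mul_zero] at hcount
    have hb : IsConj (a * b * a⁻¹ * b⁻¹ * b) b := isConj_iff.2 ⟨a⁻¹, by simp [mul_assoc]⟩
    have h1 : (∑ x : G, if IsConj (a * b * a⁻¹ * b⁻¹ * x) x then
        Nat.card (Subgroup.centralizer ({x} : Set G)) else 0) = 0 := by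
      apply Nat.cast_injective (R := ℂ)
      push_cast
      exact hcount.symm
    have h2 := Finset.sum_eq_zero_iff.1 h1 b (Finset.mem_univ _)
    rw [if_pos hb] at h2
    exact Nat.card_pos.ne' h2
  · intro h
    by_contra hcon
    push Not at hcon
    refine h ((mul_eq_zero.1 (hcount.trans (Finset.sum_eq_zero fun a _ => if_neg fun hc => ?_)))
      |>.resolve_left hG)
    obtain ⟨y, hy⟩ := isConj_iff.1 hc.symm
    exact hcon y a (eq_mul_inv_iff_mul_eq.2 hy.symm)

end Cfsg.Agent.S0167
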