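import Cfsg.Statements.S0168
import Cfsg.Agent.Lib.Characters.Counting
-- import your own Cfsg.Agent.* helpers here

set_option autoImplicit false
open Cfsg

namespace Cfsg.Agent.S0168

/-- The Burnside–Brauer Theorem. Let χ be the character of a faithful complex representation of a finite group, taking m distinct values. Then every irreducible character has nonzero inner product with χ ^ i for some i < m. -/
theorem result {G : Type*} [Group G] [Fintype G] {V : Type*} [AddCommGroup V] [Module ℂ V] [FiniteDimensional ℂ V] (ρ : Representation ℂ G V) (hfaithful : Function.Injective ρ) (ψ : G → ℂ) (hψ : Cfsg.IsIrrCharacter G ψ) : ∃ i : ℕ, i < Nat.card (Set.range ρ.character) ∧ Cfsg.classInner (fun g => ρ.character g ^ i) ψ ≠ 0 := by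
  classical
  set d : ℂ := ρ.character 1 with hd
  have hfin : (Set.range ρ.character).Finite := Set.finite_range _
  set s : Finset ℂ := hfin.toFinset.erase d with hs
  set P : Polynomial ℂ := ∏ b ∈ s, (Polynomial.X - Polynomial.C b) with hP
  have hdmem : d ∈ hfin.toFinset := hfin.mem_toFinset.2 ⟨1, rfl⟩
  have hdeg : P.natDegree < Nat.card (Set.range ρ.character) := by
    rw [hP, Polynomial.natDegree_finsetProd_X_sub_C_eq_card, Nat.card_coe_set_eq,
      Set.ncard_eq_toFinset_card _ hfin, hs, Finset.card_erase_of_mem hdmem]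
    have := Finset.card_pos.2 ⟨d, hdmem⟩
    omega
  by_contra hcon
  push Not at hcon
  have hsum : ∑ g : G, P.eval (ρ.character g) * starRingEnd ℂ (ψ g) = 0 := by
    simp only [Polynomial.eval_eq_sum_range, Finset.sum_mul]
    rw [Finset.sum_comm]
    refine Finset.sum_eq_zero fun i hi => ?_
    have h := hcon i (lt_of_le_of_lt (Nat.lt_succ_iff.1 (Finset.mem_range.1 hi)) hdeg)
    rw [Characters.classInner_def, mul_eq_zero, inv_eq_zero] at h
    simp only [mul_assoc, ← Finset.mul_sum, h.resolve_left Characters.natCard_ne_zero, mul_zero]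
  rw [Finset.sum_eq_single 1 (fun g _ hg => ?_) (by simp)] at hsum
  · refine (mul_ne_zero ?_ ?_) hsum
    · rw [hP, Polynomial.eval_prod]
      refine Finset.prod_ne_zero_iff.2 fun b hb => ?_
      simp only [Polynomial.eval_sub, Polynomial.eval_X, Polynomial.eval_C]
      exact sub_ne_zero.2 (Finset.ne_of_mem_erase hb).symm
    · exact fun h => Characters.irr_one_ne_zero hψ ((map_eq_zero _).1 h)
  · rw [hP, Polynomial.eval_prod, Finset.prod_eq_zero (i := ρ.character g) ?_ (by simp), zero_mul]
    refine Finset.mem_erase.2 ⟨fun h => hg (hfaithful ?_), hfin.mem_toFinset.2 ⟨g, rfl⟩⟩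
    rw [Characters.rep_apply_eq_id_of_char_eq ρ g (h.trans ρ.char_one), map_one]
    rfl

end Cfsg.Agent.S0168
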