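import Cfsg.Statements.S0169
import Cfsg.Agent.Lib.Characters.CentralIndex
import Cfsg.Agent.S0854
-- import your own Cfsg.Agent.* helpers here

set_option autoImplicit false
open Cfsg

namespace Cfsg.Agent.S0169

/-- Itô's Theorem on character degrees: the degree of an irreducible complex representation of a finite group divides the index of any abelian normal subgroup. -/
theorem result {G : Type*} [Group G] [Finite G] {V : Type*} [AddCommGroup V] [Module ℂ V] [FiniteDimensional ℂ V] (ρ : Representation ℂ G V) [ρ.IsIrreducible] (H : Subgroup G) [H.Normal] (hH : ∀ a ∈ H, ∀ b ∈ H, a * b = b * a) : Module.finrank ℂ V ∣ H.index := by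
  classical
  haveI := Fintype.ofFinite G
  haveI := Fintype.ofFinite H
  have hχ := Characters.isIrrCharacter_character ρ
  have hr := Characters.isCharacter_restrict H (Characters.isCharacter_character ρ)
  obtain ⟨θ, hθ, hne⟩ : ∃ θ : H → ℂ, Cfsg.IsIrrCharacter H θ ∧
      Cfsg.classInner (fun a : H => ρ.character a) θ ≠ 0 := by
    by_contra h
    push Not at h
    exact Characters.irr_one_ne_zero hχ
      (congrFun (Characters.classFun_eq_zero (Characters.char_isClassFunction hr) h) 1)
  have hθc := Characters.isCharacter_of_isIrr hθ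
  have hθ1 : θ 1 = 1 :=
    Characters.irr_degree_one_of_comm (fun a b => Subtype.ext (hH a a.2 b b.2)) hθ
  let T : Subgroup G :=
    { carrier := {g | CharTheory.Clifford.conjBy H g θ = θ}
      one_mem' := CharTheory.Clifford.conjBy_one H θ
      mul_mem' := fun {a b} ha hb => by
        show CharTheory.Clifford.conjBy H (a * b) θ = θ
        rw [← CharTheory.Clifford.conjBy_conjBy,
          show CharTheory.Clifford.conjBy H a θ = θ from ha]
        exact hb
      inv_mem' := fun {a} ha => by
        show CharTheory.Clifford.conjBy H a⁻¹ θ = θ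
        conv_lhs => rw [show θ = CharTheory.Clifford.conjBy H a θ from Eq.symm ha]
        rw [CharTheory.Clifford.conjBy_conjBy, mul_inv_cancel, CharTheory.Clifford.conjBy_one] }
  have hHT : H ≤ T := fun a ha => funext fun n =>
    Characters.char_isClassFunction hθc n ⟨a, ha⟩
  haveI := Fintype.ofFinite T
  obtain ⟨ψ, hψ, hind, hmult⟩ := Cfsg.Agent.S0854.result H θ hθ T
    (fun g => show CharTheory.Clifford.conjBy H g θ = θ ↔ _ from funext_iff) hHT _ hχ hne
  have hψc := Characters.isCharacter_of_isIrr hψ
  -- pass to `T ⧸ ker ψ`, where the image of `H` is central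
  set K := Characters.charKernel ψ hψc
  haveI : K.Normal := Characters.charKernel_normal hψc
  obtain ⟨ψ', -, hψ'eq, hψ'⟩ := Characters.exists_deflate_quotient K hψc fun x hx => hx
  obtain ⟨m, hm, hmdvd⟩ := Characters.irr_degree_dvd_center_index (hψ' hψ)
  -- `H` acts on `ψ` by scalars
  obtain ⟨d, σ, hσ, rfl⟩ := hψ
  let A := H.subgroupOf T
  haveI : A.Normal := inferInstance
  haveI := Fintype.ofFinite A
  let θA : A → ℂ := fun a => θ ⟨((a : T) : G), Subgroup.mem_subgroupOf.1 a.2⟩
  let e : A ≃* H := Subgroup.subgroupOfEquivOfLe hHT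
  have hθA : Cfsg.IsIrrCharacter A θA := (Characters.isIrrCharacter_comp_mulEquiv e).2 hθ
  have hneA : Cfsg.classInner (fun a : A => σ.character a) θA ≠ 0 := by
    refine ne_of_eq_of_ne ?_ hne
    rw [← hmult, ← Characters.classInner_comp_surjective e.toMonoidHom e.surjective
      (fun n : H => σ.character ⟨(n : G), hHT n.2⟩) θ]
    rfl
  have hinv : ∀ t : T, CharTheory.Clifford.conjBy A t θA = θA := fun t => funext fun a =>
    congrFun (t.2 : CharTheory.Clifford.conjBy H (t : G) θ = θ)
      ⟨((a : T) : G), Subgroup.mem_subgroupOf.1 a.2⟩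
  have hres := CharTheory.Clifford.restrict_eq_smul_of_invariant A
    (Characters.isIrrCharacter_character σ) hθA hneA hinv
  have hscal : ∀ a : A, ∃ ω : ℂ, σ (a : T) = ω • LinearMap.id := fun a => by
    refine Characters.rep_apply_eq_smul_of_norm_eq σ (a : T) ?_
    have h1 := congrFun hres 1
    have h2 := congrFun hres a
    have hA1 : θA 1 = 1 := hθ1
    simp only [Pi.smul_apply, smul_eq_mul, hA1, mul_one, OneMemClass.coe_one] at h1
    simp only [Pi.smul_apply, smul_eq_mul, ← h1, σ.char_one] at h2
    have hn : ‖θA a‖ = 1 :=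
      Characters.linear_norm_eq_one (Characters.linearOfDegreeOne hθc hθ1)
        ⟨((a : T) : G), Subgroup.mem_subgroupOf.1 a.2⟩
    rw [h2, norm_mul, Complex.norm_natCast, hn, mul_one]
  have hcentral : A.map (QuotientGroup.mk' K) ≤ Subgroup.center (T ⧸ K) := by
    rintro _ ⟨a, ha, rfl⟩
    rw [Subgroup.mem_center_iff]
    intro q
    obtain ⟨t, rfl⟩ := QuotientGroup.mk'_surjective K q
    rw [← map_mul, ← map_mul]
    refine QuotientGroup.eq.2 ?_
    show σ.character ((t * a)⁻¹ * (a * t)) = σ.character 1
    refine Characters.rep_char_eq_of_apply_eq_id ?_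
    obtain ⟨ω, hω⟩ := hscal ⟨a, ha⟩
    have hc : σ (a * t) = σ (t * a) := by
      rw [map_mul, map_mul]
      simp only at hω
      rw [hω]; ext v; simp
    rw [map_mul, hc, ← map_mul, inv_mul_cancel, map_one]
    rfl
  have hidx : (Subgroup.center (T ⧸ K)).index ∣ A.index :=
    (Subgroup.index_dvd_of_le hcentral).trans
      (Subgroup.index_map_dvd A (QuotientGroup.mk'_surjective K))
  have hdeg : Module.finrank ℂ V = T.index * m := by
    have h1 := congrFun hind 1
    rw [Characters.indFun_one, ρ.char_one, ← hψ'eq 1, QuotientGroup.mk_one, hm] at h1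
    exact_mod_cast h1.symm
  rw [hdeg, ← Subgroup.relIndex_mul_index hHT, mul_comm (H.relIndex T)]
  exact Nat.mul_dvd_mul_left _ (hmdvd.trans hidx)

end Cfsg.Agent.S0169
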