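import Cfsg.Statements.S0170
import Cfsg.Agent.Lib.Characters.Coherence
import Cfsg.Agent.S0150
-- import your own Cfsg.Agent.* helpers here

set_option autoImplicit false
open Cfsg

namespace Cfsg.Agent.S0170

/-- Exceptional characters. Let S be a subset of a finite group contained in its normalizer N and meeting its conjugates by elements outside N only in the identity. Given n ≥ 2 distinct irreducible characters of N of equal degree that vanish on N away from S, there exist a sign ε and n distinct irreducible characters θ_i of G such that inducing χ_i − χ_j to G gives ε (θ_i − θ_j) for all i, j. -/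
theorem result {G : Type*} [Group G] [Fintype G] (S : Set G) (hSN : S ⊆ Subgroup.normalizer S) (hTI : ∀ g : G, g ∉ Subgroup.normalizer S → ∀ s ∈ S, g * s * g⁻¹ ∈ S → s = 1) (n : ℕ) (hn : 2 ≤ n) (χ : Fin n → (Subgroup.normalizer S → ℂ)) (hirr : ∀ i, Cfsg.IsIrrCharacter (Subgroup.normalizer S) (χ i)) (hinj : Function.Injective χ) (hvan : ∀ i, ∀ x : Subgroup.normalizer S, (x : G) ∉ S → χ i x = 0) (hdeg : ∀ i j, χ i 1 = χ j 1) : ∃ ε : ℂ, (ε = 1 ∨ ε = -1) ∧ ∃ θ : Fin n → (G → ℂ), (∀ i, Cfsg.IsIrrCharacter G (θ i)) ∧ Function.Injective θ ∧ ∀ i j, Cfsg.indFun (Subgroup.normalizer S) (χ i) - Cfsg.indFun (Subgroup.normalizer S) (χ j) = ε • (θ i - θ j) := by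
  classical
  haveI := Fintype.ofFinite (Subgroup.normalizer S)
  let i₀ : Fin n := ⟨0, by omega⟩
  have hcl : ∀ i, Cfsg.IsClassFunction (Subgroup.normalizer S) (χ i - χ i₀) := fun i =>
    Characters.isGen_isClassFunction (Characters.isGen_sub
      (Characters.isGen_of_isCharacter (Characters.isCharacter_of_isIrr (hirr i)))
      (Characters.isGen_of_isCharacter (Characters.isCharacter_of_isIrr (hirr i₀))))
  have hoff : ∀ i, ∀ x : Subgroup.normalizer S, (x : G) ∉ S → (χ i - χ i₀) x = 0 := fun i x hx => by
    simp [hvan i x hx, hvan i₀ x hx]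
  have hzero : ∀ i, (χ i - χ i₀) 1 = 0 := fun i => by simp [hdeg i i₀]
  obtain ⟨ε, hε, μ, hμ, hinjμ, hτ⟩ := Characters.exists_coherent_family i₀
    (fun i => Cfsg.indFun (Subgroup.normalizer S) (χ i - χ i₀))
    (by rw [sub_self, Characters.indFun_zero])
    (fun i => Characters.isGen_indFun _ (Characters.isGen_sub
      (Characters.isGen_of_isCharacter (Characters.isCharacter_of_isIrr (hirr i)))
      (Characters.isGen_of_isCharacter (Characters.isCharacter_of_isIrr (hirr i₀)))))
    (fun i => by rw [Characters.indFun_one, hzero, mul_zero])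
    (fun i j hi hj => by
      rw [Cfsg.Agent.S0150.result S hTI hSN _ _ (hcl i) (hcl j) (hoff i) (hoff j) (hzero i),
        Characters.classInner_sub_left, Characters.classInner_sub_right,
        Characters.classInner_sub_right, Characters.classInner_isIrr_self (hirr i₀),
        Characters.classInner_isIrr_ne (hirr i) (hirr i₀) (hinj.ne hi),
        Characters.classInner_isIrr_ne (hirr i₀) (hirr j) (hinj.ne hj).symm]
      by_cases hij : i = j
      · subst hij
        rw [Characters.classInner_isIrr_self (hirr i), if_pos rfl]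
        norm_num
      · rw [Characters.classInner_isIrr_ne (hirr i) (hirr j) (hinj.ne hij), if_neg hij]
        norm_num)
  refine ⟨ε, hε, μ, hμ, hinjμ, fun i j => ?_⟩
  rw [← Characters.indFun_sub, show χ i - χ j = (χ i - χ i₀) - (χ j - χ i₀) by abel,
    Characters.indFun_sub, hτ i, hτ j]
  module

end Cfsg.Agent.S0170
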