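import Cfsg.Statements.S0174
import Cfsg.Agent.Lib.Characters.Normal
-- import your own Cfsg.Agent.* helpers here

set_option autoImplicit false
open Cfsg

namespace Cfsg.Agent.S0174

/-- The Clifford Theorem for characters: if θ is an irreducible character of a finite group G, N is a normal subgroup and χ is an irreducible character of N occurring in the restriction of θ, then θ restricted to N equals e times the sum of the distinct G-conjugates of χ, where e is the inner product of the restriction with χ. -/
theorem result {G : Type*} [Group G] [Fintype G] (N : Subgroup G) [Fintype N] (hN : N.Normal) (θ : G → ℂ) (hθ : Cfsg.IsIrrCharacter G θ) (χ : N → ℂ) (hχ : Cfsg.IsIrrCharacter N χ) (hconst : Cfsg.classInner (fun n : N => θ n) χ ≠ 0) : (fun n : N => θ n) = Cfsg.classInner (fun n : N => θ n) χ • ∑ᶠ ψ ∈ {ψ : N → ℂ | ∃ g : G, ψ = fun n : N => χ ⟨g * n * g⁻¹, hN.conj_mem n n.2 g⟩}, ψ := by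
  classical
  haveI := hN
  haveI := Fintype.ofFinite (Cfsg.IrrCharacter N)
  set O : Set (N → ℂ) := {ψ : N → ℂ | ∃ g : G, ψ = fun n : N => χ ⟨g * n * g⁻¹, hN.conj_mem n n.2 g⟩}
  have hOfin : O.Finite := (Set.finite_range fun g : G => Characters.conjFun N χ g).subset
    (fun ψ ⟨g, hg⟩ => ⟨g, hg.symm⟩)
  have hOirr : ∀ ψ ∈ O, Cfsg.IsIrrCharacter N ψ := fun ψ ⟨g, hg⟩ =>
    hg ▸ Characters.isIrrCharacter_conjFun N hχ g
  rw [finsum_mem_eq_finite_toFinset_sum _ hOfin]
  have hres := Characters.char_isClassFunction
    (Characters.isCharacter_restrict N (Characters.isCharacter_of_isIrr hθ))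
  refine Characters.classFun_ext hres (fun a b => ?_) fun φ hφ => ?_
  · simp only [Pi.smul_apply, Finset.sum_apply]
    congr 1
    exact Finset.sum_congr rfl fun ψ hψ =>
      Characters.char_isClassFunction
        (Characters.isCharacter_of_isIrr (hOirr ψ (hOfin.mem_toFinset.1 hψ))) a b
  · rw [Characters.classInner_smul_left, Characters.classInner_sum_left]
    by_cases hO : φ ∈ O
    · rw [Finset.sum_eq_single φ (fun ψ hψ hne => Characters.classInner_isIrr_ne
        (hOirr ψ (hOfin.mem_toFinset.1 hψ)) hφ hne) (fun h => absurd (hOfin.mem_toFinset.2 hO) h),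
        Characters.classInner_isIrr_self hφ, mul_one]
      obtain ⟨g, rfl⟩ := hO
      exact Characters.classInner_conjFun N
        (Characters.char_isClassFunction (Characters.isCharacter_of_isIrr hθ)) χ g
    · rw [Finset.sum_eq_zero (fun ψ hψ => Characters.classInner_isIrr_ne
        (hOirr ψ (hOfin.mem_toFinset.1 hψ)) hφ
        (fun h => hO (h ▸ hOfin.mem_toFinset.1 hψ))), mul_zero]
      by_contra hne
      exact hO (Characters.exists_conjugate_of_constituents N hθ hχ hφ hconst hne)

end Cfsg.Agent.S0174
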