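import Cfsg.Statements.S0181
import Cfsg.Agent.Lib.Characters.Counting
import Cfsg.Agent.Lib.Characters.Integrality
-- import your own Cfsg.Agent.* helpers here

set_option autoImplicit false
open Cfsg

namespace Cfsg.Agent.S0181

/-- Let H be a normal subgroup of a finite group G and ρ an irreducible complex representation whose kernel does not contain H. If g commutes with no non-identity element of H, then the character of ρ vanishes at g. -/
theorem result {G : Type*} [Group G] [Finite G] {V : Type*} [AddCommGroup V] [Module ℂ V] [FiniteDimensional ℂ V] (ρ : Representation ℂ G V) [ρ.IsIrreducible] (H : Subgroup G) [H.Normal] (hker : ∃ h ∈ H, ρ h ≠ LinearMap.id) (g : G) (hg : ∀ h ∈ H, h * g = g * h → h = 1) : ρ.character g = 0 := by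
  classical
  haveI := Fintype.ofFinite (Cfsg.IrrCharacter G)
  haveI := Fintype.ofFinite (Cfsg.IrrCharacter (G ⧸ H))
  let π := QuotientGroup.mk' H
  let Φ : Cfsg.IrrCharacter (G ⧸ H) → Cfsg.IrrCharacter G := fun ψ =>
    ⟨(ψ : G ⧸ H → ℂ) ∘ π,
      Characters.isIrrCharacter_comp_surjective π (QuotientGroup.mk'_surjective H) ψ.2⟩
  have hΦ : Function.Injective Φ := fun a b h => Subtype.ext (funext fun q => by
    obtain ⟨x, rfl⟩ := QuotientGroup.mk'_surjective H q
    exact congrFun (congrArg Subtype.val h) x)
  set χ₀ : Cfsg.IrrCharacter G := ⟨ρ.character, Characters.isIrrCharacter_character ρ⟩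
  have hnot : χ₀ ∉ Finset.univ.image Φ := by
    intro h
    obtain ⟨ψ, -, e⟩ := Finset.mem_image.1 h
    obtain ⟨x, hxH, hx⟩ := hker
    have h1 : ∀ y : G, ρ.character y = (ψ : G ⧸ H → ℂ) (π y) := fun y =>
      (congrFun (congrArg Subtype.val e) y).symm
    refine hx (Characters.rep_apply_eq_id_of_char_eq ρ x ?_)
    rw [← ρ.char_one, h1, h1, map_one, show π x = 1 from (QuotientGroup.eq_one_iff x).2 hxH]
  let sq : ℂ → ℝ := fun z => Complex.normSq z
  have hG := congrArg Complex.re (Characters.second_orthogonality g g)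
  have hQ := congrArg Complex.re (Characters.second_orthogonality (π g) (π g))
  rw [if_pos (IsConj.refl _), Complex.natCast_re, Complex.re_sum] at hG hQ
  simp only [Complex.mul_conj, Complex.ofReal_re] at hG hQ
  have hle : Nat.card (Subgroup.centralizer ({g} : Set G)) ≤
      Nat.card (Subgroup.centralizer ({π g} : Set (G ⧸ H))) := by
    refine Nat.card_le_card_of_injective
      (fun y => ⟨π y.1, Subgroup.mem_centralizer_singleton_iff.2 (by
        rw [← map_mul, ← map_mul, Subgroup.mem_centralizer_singleton_iff.1 y.2])⟩) fun a b h => ?_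
    have h1 : π a.1 = π b.1 := congrArg Subtype.val h
    have h2 : (a.1)⁻¹ * b.1 ∈ H := QuotientGroup.eq.1 h1
    exact Subtype.ext (inv_mul_eq_one.1 (hg _ h2
      (Subgroup.mem_centralizer_singleton_iff.1 (mul_mem (inv_mem a.2) b.2))))
  have hsum := Finset.sum_le_sum_of_subset_of_nonneg
    (f := fun χ : Cfsg.IrrCharacter G => Complex.normSq ((χ : G → ℂ) g))
    (Finset.subset_univ (insert χ₀ (Finset.univ.image Φ))) fun i _ _ => Complex.normSq_nonneg _
  rw [Finset.sum_insert hnot, Finset.sum_image (hΦ.injOn), hG] at hsum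
  simp only [Φ, Function.comp_apply, hQ] at hsum
  have hle' : (Nat.card (Subgroup.centralizer ({g} : Set G)) : ℝ) ≤
      (Nat.card (Subgroup.centralizer ({π g} : Set (G ⧸ H))) : ℝ) := by exact_mod_cast hle
  have h0 : Complex.normSq (ρ.character g) ≤ 0 := by
    simp only [χ₀] at hsum
    linarith
  exact Complex.normSq_eq_zero.1 (le_antisymm h0 (Complex.normSq_nonneg _))

end Cfsg.Agent.S0181
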