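import Cfsg.Statements.S0184
import Cfsg.Agent.Lib.Characters.Counting
import Cfsg.Agent.Lib.Characters.Integrality
import Cfsg.Agent.Solvable.Basics
-- import your own Cfsg.Agent.* helpers here

set_option autoImplicit false
open Cfsg

namespace Cfsg.Agent.S0184

/-- A finite p-group admits a faithful irreducible complex representation if and only if its centre is cyclic. -/
theorem result {G : Type*} [Group G] [Finite G] (p : ℕ) [Fact p.Prime] (hG : IsPGroup p G) : (∃ (n : ℕ) (ρ : Representation ℂ G (Fin n → ℂ)), ρ.IsIrreducible ∧ Function.Injective ρ) ↔ IsCyclic (Subgroup.center G) := by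
  classical
  haveI := Fintype.ofFinite G
  constructor
  · rintro ⟨n, ρ, hρ, hinj⟩
    have hsc : ∀ z : Subgroup.center G, ∃ c : ℂ, ρ (z : G) = c • LinearMap.id := fun z =>
      Characters.schur_scalar ρ (ρ (z : G)) fun g v => by
        rw [← Module.End.mul_apply, ← Module.End.mul_apply, ← map_mul, ← map_mul,
          Subgroup.mem_center_iff.1 z.2 g]
    choose c hc using hsc
    haveI := Characters.nontrivial_of_isIrreducible ρ
    obtain ⟨v, hv⟩ := exists_ne (0 : Fin n → ℂ)
    have hsmul : ∀ z : Subgroup.center G, ρ (z : G) v = c z • v := fun z => by rw [hc z]; rfl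
    let f : Subgroup.center G →* ℂ :=
      { toFun := c
        map_one' := smul_left_injective ℂ hv
          (show c 1 • v = (1 : ℂ) • v by rw [← hsmul, one_smul, OneMemClass.coe_one, map_one]; rfl)
        map_mul' := fun a b => smul_left_injective ℂ hv
          (show c (a * b) • v = (c a * c b) • v by
            rw [← hsmul, Subgroup.coe_mul, map_mul, Module.End.mul_apply, hsmul b, map_smul,
              hsmul a, smul_smul, mul_comm]) }
    exact isCyclic_of_subgroup_isDomain f fun a b h => Subtype.ext (hinj (by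
      rw [hc a, hc b]; exact congrArg (fun t : ℂ => t • LinearMap.id) h))
  · intro hcyc
    suffices h : ∃ χ : G → ℂ, Cfsg.IsIrrCharacter G χ ∧ ∀ x : G, χ x = χ 1 → x = 1 by
      obtain ⟨χ, ⟨n, ρ, hρ, rfl⟩, hker⟩ := h
      refine ⟨n, ρ, hρ, fun a b hab => ?_⟩
      refine mul_inv_eq_one.1 (hker _ (Characters.rep_char_eq_of_apply_eq_id ?_))
      rw [map_mul, hab, ← map_mul, mul_inv_cancel, map_one]
      rfl
    rcases subsingleton_or_nontrivial G with hs | hs
    · exact ⟨_, Characters.isIrrCharacter_one, fun x _ => Subsingleton.elim _ _⟩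
    have hp : p.Prime := Fact.out
    haveI := hG.center_nontrivial
    obtain ⟨k, hk⟩ := IsPGroup.iff_card.1 (hG.to_subgroup (Subgroup.center G))
    have hdvd : p ∣ Nat.card (Subgroup.center G) := by
      rcases Nat.eq_zero_or_pos k with h | h
      · rw [h, pow_zero] at hk
        exact absurd hk (Finite.one_lt_card.ne')
      · rw [hk]; exact dvd_pow_self p h.ne'
    obtain ⟨z₀, hz₀⟩ := exists_prime_orderOf_dvd_card' p hdvd
    obtain ⟨χ, hχ, hne⟩ := Characters.exists_irr_ne (g := (z₀ : G)) fun h => by
      have h1 : z₀ = 1 := Subtype.ext h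
      rw [h1, orderOf_one] at hz₀
      exact hp.one_lt.ne hz₀
    have hχc := Characters.isCharacter_of_isIrr hχ
    haveI := Characters.charKernel_normal hχc
    haveI : Group.IsNilpotent G := hG.isNilpotent
    refine ⟨χ, hχ, fun x hx => ?_⟩
    by_contra hx1
    refine hne ?_
    set K := Characters.charKernel χ hχc
    have hK : K ≠ ⊥ := fun h => hx1 (by
      have : x ∈ K := hx
      rwa [h, Subgroup.mem_bot] at this)
    set M := K.subgroupOf (Subgroup.center G)
    have hM : M ≠ ⊥ := by
      intro h
      rw [Subgroup.subgroupOf_eq_bot, disjoint_iff] at h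
      exact Cfsg.Agent.Solvable.Basics.inf_center_ne_bot hK h
    haveI : Nontrivial M := (Subgroup.nontrivial_iff_ne_bot M).2 hM
    obtain ⟨k', hk'⟩ := IsPGroup.iff_card.1 ((hG.to_subgroup (Subgroup.center G)).to_subgroup M)
    have hdvd' : p ∣ Nat.card M := by
      rcases Nat.eq_zero_or_pos k' with h | h
      · rw [h, pow_zero] at hk'
        exact absurd hk' (Finite.one_lt_card.ne')
      · rw [hk']; exact dvd_pow_self p h.ne'
    obtain ⟨w, hw⟩ := exists_prime_orderOf_dvd_card' p hdvd'
    have hw' : orderOf (w : Subgroup.center G) = p := by rw [Subgroup.orderOf_coe]; exact hw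
    by_contra hz₀M
    have hz : z₀ ∉ Subgroup.zpowers (w : Subgroup.center G) := fun h =>
      hz₀M ((Subgroup.zpowers_le.2 w.2 : Subgroup.zpowers (w : Subgroup.center G) ≤ M) h)
    haveI := Fintype.ofFinite (Subgroup.center G)
    have hcle := IsCyclic.card_pow_eq_one_le (α := Subgroup.center G) (n := p) hp.pos
    have hsub : insert z₀ (Finset.univ.filter fun y => y ∈ Subgroup.zpowers (w : Subgroup.center G))
        ⊆ Finset.univ.filter fun y : Subgroup.center G => y ^ p = 1 := by
      intro y hy
      refine Finset.mem_filter.2 ⟨Finset.mem_univ _, ?_⟩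
      rcases Finset.mem_insert.1 hy with rfl | hy
      · rw [← hz₀, pow_orderOf_eq_one]
      · obtain ⟨i, rfl⟩ := Subgroup.mem_zpowers_iff.1 (Finset.mem_filter.1 hy).2
        rw [← zpow_natCast, ← zpow_mul, mul_comm, zpow_mul, zpow_natCast, ← hw', pow_orderOf_eq_one,
          one_zpow]
    have hc1 := (Finset.card_le_card hsub).trans hcle
    rw [Finset.card_insert_of_notMem (by simpa using hz), ← Fintype.card_subtype,
      ← Nat.card_eq_fintype_card, Nat.card_zpowers, hw'] at hc1
    omega

end Cfsg.Agent.S0184
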