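import Cfsg.Statements.S0186
import Cfsg.Agent.Lib.Characters.Counting
import Cfsg.Agent.Lib.Characters.Integrality
-- import your own Cfsg.Agent.* helpers here

set_option autoImplicit false
open Cfsg

namespace Cfsg.Agent.S0186

/-- Let G be a finite simple group of order n and p a prime dividing n. If G has more than n / p^2 conjugacy classes, then every Sylow p-subgroup of G is abelian. -/
theorem result {G : Type*} [Group G] [Finite G] [IsSimpleGroup G] (p : ℕ) [Fact p.Prime] (hp : p ∣ Nat.card G) (hmany : Nat.card G < p ^ 2 * Nat.card (ConjClasses G)) (P : Sylow p G) (a b : G) (ha : a ∈ P) (hb : b ∈ P) : a * b = b * a := by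
  classical
  haveI := Fintype.ofFinite G
  by_contra hab
  have hPpr : p.Prime := Fact.out
  haveI : Fintype (P : Subgroup G) := Fintype.ofFinite _
  obtain ⟨n, hn⟩ := IsPGroup.iff_card.1 P.isPGroup'
  -- every nonprincipal degree is at least `p`
  haveI := Fintype.ofFinite (Cfsg.IrrCharacter G)
  haveI := Fintype.ofFinite (Cfsg.IrrCharacter (P : Subgroup G))
  choose d hd hdpos hddvd using fun χ : Cfsg.IrrCharacter G =>
    Characters.irr_degree_dvd_card χ.2
  have hdeg : ∀ χ : Cfsg.IrrCharacter G, χ ≠ Characters.trivIrr G → p ≤ d χ := by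
    intro χ hχ
    by_contra hlt
    push Not at hlt
    have hχc := Characters.irr_isCharacter χ
    haveI := Characters.charKernel_normal hχc
    have hfaith : Characters.charKernel (χ : G → ℂ) hχc = ⊥ := by
      refine (Subgroup.Normal.eq_bot_or_eq_top inferInstance).resolve_right fun htop => hχ ?_
      refine Subtype.ext (by_contra fun hne => ?_)
      have hconst : ∀ x : G, (χ : G → ℂ) x = (χ : G → ℂ) 1 := fun x =>
        (htop ▸ Subgroup.mem_top x : x ∈ Characters.charKernel (χ : G → ℂ) hχc)
      have h0 := Characters.classInner_isIrr_ne χ.2 (Characters.trivIrr G).2 hne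
      rw [Characters.classInner_def] at h0
      simp only [hconst, Characters.trivIrr_coe, map_one, mul_one, Finset.sum_const,
        Finset.card_univ, nsmul_eq_mul, ← Nat.card_eq_fintype_card] at h0
      rw [inv_mul_cancel_left₀ Characters.natCard_ne_zero] at h0
      exact Characters.irr_one_ne_zero χ.2 h0
    refine hab ?_
    set c := a * b * a⁻¹ * b⁻¹
    have hexp := Characters.classFun_eq_sum
      (Characters.char_isClassFunction (Characters.isCharacter_restrict (P : Subgroup G) hχc))
    set c' : (P : Subgroup G) := ⟨a, ha⟩ * ⟨b, hb⟩ * ⟨a, ha⟩⁻¹ * ⟨b, hb⟩⁻¹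
    have hval : (χ : G → ℂ) c = (χ : G → ℂ) 1 := by
      have h1 := congrFun hexp c'
      have h2 := congrFun hexp 1
      simp only [Finset.sum_apply, Pi.smul_apply, smul_eq_mul, OneMemClass.coe_one] at h1 h2
      rw [show (χ : G → ℂ) c = (χ : G → ℂ) (c' : G) from rfl, h1, h2]
      refine Finset.sum_congr rfl fun ψ _ => ?_
      by_cases h0 : Cfsg.classInner (fun x : (P : Subgroup G) => (χ : G → ℂ) x)
          (ψ : ↥(P : Subgroup G) → ℂ) = 0
      · rw [h0, zero_mul, zero_mul]
      congr 1
      obtain ⟨e, he, hepos, hedvd⟩ := Characters.irr_degree_dvd_card ψ.2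
      have hle := Characters.irr_degree_le
        (Characters.isCharacter_restrict (P : Subgroup G) hχc) ψ.2 h0
      rw [he] at hle
      simp only [OneMemClass.coe_one, hd χ, Complex.natCast_re] at hle
      have hle' : e ≤ d χ := by exact_mod_cast hle
      rw [hn] at hedvd
      obtain ⟨i, -, rfl⟩ := (Nat.dvd_prime_pow hPpr).1 hedvd
      have hi : i = 0 := by
        by_contra hi
        have := Nat.le_self_pow hi p
        omega
      have he1 : (ψ : ↥(P : Subgroup G) → ℂ) 1 = 1 := by rw [he, hi]; simp
      have hlam := Characters.linearOfDegreeOne_apply (Characters.irr_isCharacter ψ) he1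
      rw [← hlam, ← hlam, map_one]
      congr 1
      simp only [c', map_mul, map_inv]
      rw [mul_inv_eq_one, mul_inv_eq_iff_eq_mul, mul_comm]
    have h : c ∈ Characters.charKernel (χ : G → ℂ) hχc := hval
    rw [hfaith, Subgroup.mem_bot] at h
    rwa [mul_inv_eq_one, mul_inv_eq_iff_eq_mul] at h
  have hn2 : 2 ≤ n := by
    by_contra h
    refine hab ?_
    have hdvd : Nat.card (P : Subgroup G) ∣ p := by
      rw [hn]
      calc p ^ n ∣ p ^ 1 := Nat.pow_dvd_pow p (by omega)
        _ = p := pow_one p
    haveI : IsCyclic (P : Subgroup G) := by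
      rcases (Nat.dvd_prime hPpr).1 hdvd with h1 | h1
      · haveI := (Nat.card_eq_one_iff_unique.1 h1).1
        infer_instance
      · exact isCyclic_of_prime_card h1
    letI : CommGroup (P : Subgroup G) := IsCyclic.commGroup
    exact congrArg Subtype.val (mul_comm (⟨a, ha⟩ : (P : Subgroup G)) ⟨b, hb⟩)
  have hp2 : p ^ 2 ∣ Nat.card G :=
    (Nat.pow_dvd_pow p hn2).trans (hn ▸ Subgroup.card_subgroup_dvd_card _)
  have hsum : ∑ χ : Cfsg.IrrCharacter G, d χ * d χ = Nat.card G := by
    apply Nat.cast_injective (R := ℂ)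
    push_cast
    rw [← Characters.sum_degree_sq]
    exact Finset.sum_congr rfl fun χ _ => by rw [hd, sq]
  have h1 : d (Characters.trivIrr G) = 1 := by
    have := hd (Characters.trivIrr G)
    simpa using this.symm
  rw [← Finset.add_sum_erase _ _ (Finset.mem_univ (Characters.trivIrr G)), h1] at hsum
  have hge : ((Finset.univ.erase (Characters.trivIrr G)).card) * p ^ 2 ≤
      ∑ χ ∈ Finset.univ.erase (Characters.trivIrr G), d χ * d χ := by
    rw [← smul_eq_mul]
    refine Finset.card_nsmul_le_sum _ _ _ fun χ hχ => ?_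
    rw [sq]
    exact Nat.mul_le_mul (hdeg χ (Finset.ne_of_mem_erase hχ)) (hdeg χ (Finset.ne_of_mem_erase hχ))
  rw [Finset.card_erase_of_mem (Finset.mem_univ _), Finset.card_univ,
    ← Nat.card_eq_fintype_card (α := Cfsg.IrrCharacter G), Characters.card_irrCharacter] at hge
  obtain ⟨q, hq⟩ := hp2
  have hkpos : 0 < Nat.card (ConjClasses G) := Nat.card_pos
  rw [hq] at hmany hsum
  have hq1 : q < Nat.card (ConjClasses G) := Nat.lt_of_mul_lt_mul_left hmany
  have hq2 : p ^ 2 * q ≤ (Nat.card (ConjClasses G) - 1) * p ^ 2 := by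
    rw [mul_comm]
    exact Nat.mul_le_mul_right _ (by omega)
  omega

end Cfsg.Agent.S0186
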