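import Cfsg.Statements.S0190
import Cfsg.Agent.Lib.Characters.Induction
-- import your own Cfsg.Agent.* helpers here

set_option autoImplicit false
open Cfsg

namespace Cfsg.Agent.S0190

/-- For a transitive action of a finite group on X, the permutation character g ↦ (number of fixed points of g) is the function induced from the principal character of the stabilizer of any point. -/
theorem result {G : Type*} [Group G] [Fintype G] (X : Type*) [MulAction G X] [Finite X] [MulAction.IsPretransitive G X] (x : X) : (fun g : G => (Nat.card (MulAction.fixedBy X g) : ℂ)) = Cfsg.indFun (MulAction.stabilizer G x) (fun _ => 1) := by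
  funext g
  rw [CharTheory.IndBasic.indFun_one_eq_card_fixed]
  congr 1
  let e : G ⧸ MulAction.stabilizer G x ≃ X :=
    Equiv.ofBijective (MulAction.ofQuotientStabilizer G x)
      ⟨MulAction.injective_ofQuotientStabilizer G x, fun y => by
        obtain ⟨a, ha⟩ := MulAction.exists_smul_eq G x y
        exact ⟨a, ha⟩⟩
  refine (Nat.card_congr (e.subtypeEquiv fun c => ?_)).symm
  rw [MulAction.mem_fixedBy, ← e.injective.eq_iff]
  show MulAction.ofQuotientStabilizer G x (g • c) = _ ↔ _
  rw [MulAction.ofQuotientStabilizer_smul]
  rfl

end Cfsg.Agent.S0190
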