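import Cfsg.Statements.S0192
import Cfsg.Agent.Lib.Characters.Counting
-- import your own Cfsg.Agent.* helpers here

set_option autoImplicit false
open Cfsg

namespace Cfsg.Agent.S0192

/-- Brauer's generation criterion. Let G be a finite simple group, H₁ and H₂ subgroups, and χ a non-principal irreducible character. If the multiplicity of the principal character in χ restricted to H₁ ⊓ H₂ is less than the sum of the corresponding multiplicities for H₁ and H₂, then H₁ and H₂ do not generate G. -/
theorem result {G : Type*} [Group G] [Fintype G] [IsSimpleGroup G] (H₁ H₂ : Subgroup G) [Fintype H₁] [Fintype H₂] [Fintype ↥(H₁ ⊓ H₂)] (χ : G → ℂ) (hχ : Cfsg.IsIrrCharacter G χ) (hχ1 : χ ≠ fun _ => 1) (hlt : (Cfsg.classInner (fun x : ↥(H₁ ⊓ H₂) => χ x) (fun _ => 1)).re < (Cfsg.classInner (fun x : H₁ => χ x) (fun _ => 1)).re + (Cfsg.classInner (fun x : H₂ => χ x) (fun _ => 1)).re) : H₁ ⊔ H₂ ≠ ⊤ := by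
  obtain ⟨n, ρ, hρ, rfl⟩ := hχ
  intro htop
  haveI : Invertible (Nat.card G : ℂ) := invertibleOfNonzero Characters.natCard_ne_zero
  let W : Subgroup G → Submodule ℂ (Fin n → ℂ) := fun K =>
    Representation.invariants (ρ.comp K.subtype : Representation ℂ K (Fin n → ℂ))
  have hdim : ∀ (K : Subgroup G) [Fintype K],
      Cfsg.classInner (fun x : K => ρ.character x) (fun _ => 1) =
        (Module.finrank ℂ (W K) : ℂ) := by
    intro K _
    haveI : Invertible (Nat.card K : ℂ) := invertibleOfNonzero Characters.natCard_ne_zero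
    rw [← Representation.card_inv_mul_sum_char_eq_finrank, Characters.classInner_def]
    simp [Representation.character]
  rw [hdim, hdim, hdim] at hlt
  simp only [Complex.natCast_re] at hlt
  have hlt' : Module.finrank ℂ (W (H₁ ⊓ H₂)) <
      Module.finrank ℂ (W H₁) + Module.finrank ℂ (W H₂) := by exact_mod_cast hlt
  have hmem : ∀ (K : Subgroup G) (v : Fin n → ℂ), v ∈ W K ↔ ∀ k ∈ K, ρ k v = v := fun K v =>
    ⟨fun h k hk => h ⟨k, hk⟩, fun h k => h k k.2⟩
  have hle : W H₁ ⊔ W H₂ ≤ W (H₁ ⊓ H₂) := by
    refine sup_le ?_ ?_ <;> intro v hv <;> rw [hmem] at hv ⊢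
    · exact fun k hk => hv k hk.1
    · exact fun k hk => hv k hk.2
  have hne : W H₁ ⊓ W H₂ ≠ ⊥ := fun h0 => by
    have h1 := Submodule.finrank_sup_add_finrank_inf_eq (W H₁) (W H₂)
    rw [h0, finrank_bot] at h1
    have h2 := Submodule.finrank_mono hle
    omega
  obtain ⟨v, hv, hv0⟩ := Submodule.exists_mem_ne_zero_of_ne_bot hne
  have hfix : ∀ g : G, ρ g v = v := fun g => by
    have hg : g ∈ H₁ ⊔ H₂ := htop ▸ Subgroup.mem_top g
    rw [Subgroup.sup_eq_closure] at hg
    induction hg using Subgroup.closure_induction with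
    | mem x hx =>
      rcases hx with hx | hx
      · exact (hmem H₁ v).1 hv.1 x hx
      · exact (hmem H₂ v).1 hv.2 x hx
    | one => simp
    | mul x y _ _ hx hy => rw [map_mul, Module.End.mul_apply, hy, hx]
    | inv x _ hx =>
      conv_lhs => rw [← hx]
      rw [← Module.End.mul_apply, ← map_mul, inv_mul_cancel, map_one, Module.End.one_apply]
  have hW : v ∈ ρ.invariants := hfix
  have h0 := Characters.classInner_isIrr_ne (Characters.isIrrCharacter_character ρ)
    Characters.isIrrCharacter_one hχ1
  rw [Characters.classInner_def] at h0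
  simp only [map_one, mul_one] at h0
  rw [Representation.card_inv_mul_sum_char_eq_finrank] at h0
  have h0' : Module.finrank ℂ ρ.invariants = 0 := by exact_mod_cast h0
  rw [Submodule.finrank_eq_zero] at h0'
  rw [h0', Submodule.mem_bot] at hW
  exact hv0 hW

end Cfsg.Agent.S0192
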