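import Cfsg.Statements.S0211
import Cfsg.Agent.Lib.Involutions.Basic

set_option autoImplicit false
open Cfsg

namespace Cfsg.Agent.S0211

/-- Let x, y be involutions with xy of even order n and z = (xy)^(n/2). Then xz is conjugate to x by an element of the subgroup generated by x, y if and only if 4 divides n. -/
theorem result {G : Type*} [Group G] [Finite G] (x y : G) (hx : orderOf x = 2) (hy : orderOf y = 2) (heven : Even (orderOf (x * y))) : (∃ d ∈ Subgroup.closure ({x, y} : Set G), d * x * d⁻¹ = x * (x * y) ^ (orderOf (x * y) / 2)) ↔ 4 ∣ orderOf (x * y) := by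
  obtain ⟨m, hm⟩ := heven
  have hpos := orderOf_pos (x * y)
  have hm2 : orderOf (x * y) / 2 = m := by omega
  rw [hm2]
  constructor
  · rintro ⟨d, hd, hdx⟩
    have key : ∃ l : ℤ, (x * y) ^ (2 * l) = (x * y) ^ (m : ℤ) := by
      rw [zpow_natCast]
      obtain ⟨k, rfl | rfl⟩ := (Involutions.Basic.mem_closure_pair hx hy).mp hd
      · refine ⟨-k, ?_⟩
        rw [Involutions.Basic.zpow_conj_left hx hy] at hdx
        rw [← mul_left_cancel hdx]
        congr 1
        ring
      · refine ⟨k, ?_⟩
        have e : x * (x * y) ^ k * x * (x * (x * y) ^ k)⁻¹ =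
            x * ((x * y) ^ k * x * ((x * y) ^ k)⁻¹) * x⁻¹ := by group
        rw [e, Involutions.Basic.zpow_conj_left hx hy, Involutions.Basic.inv_eq hx, ← mul_assoc x x,
          Involutions.Basic.inv_sq_one hx, one_mul, Involutions.Basic.zpow_mul_left hx hy] at hdx
        rw [← mul_left_cancel hdx]
        congr 1
        ring
    obtain ⟨l, hl⟩ := key
    have h1 : (x * y) ^ (2 * l - (m : ℤ)) = 1 := by rw [zpow_sub, hl, mul_inv_cancel]
    obtain ⟨c, hc⟩ := orderOf_dvd_iff_zpow_eq_one.mpr h1
    rw [hm] at hc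
    push_cast at hc
    have h2 : (2 : ℤ) ∣ (m : ℤ) := ⟨l - m * c, by linarith⟩
    omega
  · intro h4
    obtain ⟨j, hj⟩ : 2 ∣ m := by omega
    subst hj
    refine ⟨(x * y) ^ (-(j : ℤ)), (Involutions.Basic.mem_closure_pair hx hy).mpr ⟨_, Or.inl rfl⟩, ?_⟩
    rw [Involutions.Basic.zpow_conj_left hx hy, ← zpow_natCast (x * y)]
    congr 2
    push_cast
    ring

end Cfsg.Agent.S0211
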