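import Cfsg.Statements.S0212
import Cfsg.Agent.Lib.Involutions.BrauerFowler

set_option autoImplicit false
open Cfsg

namespace Cfsg.Agent.S0212

/-- The Brauer–Fowler bound: if G is a finite simple group and t an involution of G whose centralizer has order n, then |G| ≤ (2n^2)!. -/
theorem result {G : Type*} [Group G] [Finite G] [IsSimpleGroup G] (t : G) (ht : orderOf t = 2) : Nat.card G ≤ Nat.factorial (2 * (Nat.card (Subgroup.centralizer ({t} : Set G))) ^ 2) := by
  set c := Nat.card (Subgroup.centralizer ({t} : Set G)) with hc
  have hc2 : 2 ≤ c := by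
    have := Nat.card_zpowers t
    rw [ht] at this
    rw [← this, hc]
    exact Nat.le_of_dvd Nat.card_pos (Subgroup.card_dvd_of_le (Subgroup.zpowers_le.mpr
      (Subgroup.mem_centralizer_singleton_iff.mpr rfl)))
  have heven : Even (Nat.card G) := even_iff_two_dvd.mpr (ht ▸ orderOf_dvd_natCard t)
  by_cases hgt : 2 < Nat.card G
  · obtain ⟨H, hH, h2 | h⟩ := Involutions.BrauerFowler.exists_small_index heven
      (Involutions.BrauerFowler.center_odd heven hgt)
    · exact absurd h2 (Involutions.BrauerFowler.no_index_two hgt H)
    · set n := Nat.card {x : G // orderOf x = 2} with hn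
      have h1 := Involutions.BrauerFowler.index_centralizer_le ht
      rw [← hn] at h1
      have hg : Nat.card G ≤ n * c := by
        rw [← Subgroup.index_mul_card (Subgroup.centralizer ({t} : Set G))]
        exact Nat.mul_le_mul_right _ h1
      have h3 : Nat.card G * (Nat.card G + n) ≤ (n * c) * (n * c + n) :=
        Nat.mul_le_mul hg (Nat.add_le_add_right hg n)
      have h4 : 2 * H.index * n ^ 2 < (c ^ 2 + c) * n ^ 2 := by nlinarith
      have h5 : 2 * H.index < c ^ 2 + c := Nat.lt_of_mul_lt_mul_right h4
      have h6 : H.index ≤ 2 * c ^ 2 := by nlinarith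
      exact (Nat.le_of_dvd (Nat.factorial_pos _) (Involutions.BrauerFowler.card_dvd_factorial hH)).trans
        (Nat.factorial_le h6)
  · calc Nat.card G ≤ 2 := by omega
      _ = Nat.factorial 2 := rfl
      _ ≤ _ := Nat.factorial_le (by nlinarith)

end Cfsg.Agent.S0212
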