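import Cfsg.Statements.S0218
import Mathlib


set_option autoImplicit false
open Cfsg

namespace Cfsg.Agent.S0218

theorem orderOf_xa' (n : ℕ) (i : ZMod (2 * 2 ^ (n + 1))) : orderOf (QuaternionGroup.xa i) = 4 :=
  QuaternionGroup.orderOf_xa i

/-- The generalized quaternion group of order 2^(n+3) contains exactly one element of order 2. -/
theorem result (n : ℕ) : Nat.card {x : QuaternionGroup (2 ^ (n + 1)) // orderOf x = 2} = 1 := by
  rw [Nat.card_eq_one_iff_unique]
  have h2 : orderOf (QuaternionGroup.a ((2 ^ (n + 1) : ℕ) : ZMod (2 * 2 ^ (n + 1)))) = 2 := by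
    rw [← QuaternionGroup.a_one_pow, orderOf_pow' _ (by positivity), QuaternionGroup.orderOf_a_one,
      Nat.gcd_eq_right (dvd_mul_left _ _), Nat.mul_div_assoc _ dvd_rfl, Nat.div_self (by positivity),
      mul_one]
  refine ⟨⟨fun x y => ?_⟩, ⟨⟨_, h2⟩⟩⟩
  obtain ⟨x, hx⟩ := x
  obtain ⟨y, hy⟩ := y
  apply Subtype.ext
  have key : ∀ z : QuaternionGroup (2 ^ (n + 1)), orderOf z = 2 →
      z = QuaternionGroup.a ((2 ^ (n + 1) : ℕ) : ZMod (2 * 2 ^ (n + 1))) := by
    rintro (i | i) hz
    · congr 1
      have hz2 := pow_orderOf_eq_one (QuaternionGroup.a i)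
      rw [hz, pow_two, QuaternionGroup.a_mul_a, QuaternionGroup.one_def] at hz2
      have hi0 : i ≠ 0 := by
        rintro rfl
        rw [QuaternionGroup.a_zero, orderOf_one] at hz
        omega
      injection hz2 with h
      rw [← ZMod.natCast_zmod_val i, ← Nat.cast_add, ZMod.natCast_eq_zero_iff] at h
      obtain ⟨c, hc⟩ := h
      have hlt := ZMod.val_lt i
      have hpos : i.val ≠ 0 := (ZMod.val_eq_zero i).not.mpr hi0
      rw [← ZMod.natCast_zmod_val i]
      congr 1
      have hM : 0 < 2 ^ (n + 1) := by positivity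
      rcases c with _ | _ | c
      · omega
      · omega
      · nlinarith
    · rw [orderOf_xa'] at hz; omega
  exact (key x hx).trans (key y hy).symm

end Cfsg.Agent.S0218
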