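import Cfsg.Statements.S0220
import Cfsg.Agent.Lib.Involutions.ThompsonTransfer
import Cfsg.Agent.Lib.Involutions.TwoGroups

set_option autoImplicit false
open Cfsg

namespace Cfsg.Agent.S0220

/-- If x is an involution of a finite group G and a Sylow 2-subgroup of the centralizer of x is cyclic, then G has a subgroup of index 2; in particular G is not simple unless it has order 2. -/
theorem result {G : Type*} [Group G] [Finite G] (x : G) (hx : orderOf x = 2) (S : Sylow 2 ↥(Subgroup.centralizer ({x} : Set G))) (hS : IsCyclic (S : Subgroup ↥(Subgroup.centralizer ({x} : Set G)))) : ∃ H : Subgroup G, H.index = 2 := by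
  have : Fact (Nat.Prime 2) := ⟨Nat.prime_two⟩
  set S' : Subgroup G := (S : Subgroup _).map (Subgroup.centralizer ({x} : Set G)).subtype with hS'
  obtain ⟨T, hT⟩ := (S.2.map (Subgroup.centralizer ({x} : Set G)).subtype).exists_le_sylow
  -- `T ∩ C(x)` is `S`
  have hTC : (T : Subgroup G).subgroupOf (Subgroup.centralizer ({x} : Set G)) = S := by
    refine S.3 (T.2.comap_of_injective _ Subtype.val_injective) fun c hc => ?_
    exact hT ⟨c, hc, rfl⟩
  have hxC : x ∈ Subgroup.centralizer ({x} : Set G) := Subgroup.mem_centralizer_singleton_iff.mpr rfl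
  have hxS : (⟨x, hxC⟩ : Subgroup.centralizer ({x} : Set G)) ∈ (S : Subgroup _) := by
    have hcen : Subgroup.zpowers (⟨x, hxC⟩ : Subgroup.centralizer ({x} : Set G)) ≤
        Subgroup.normalizer (((S : Subgroup ↥(Subgroup.centralizer ({x} : Set G))) : Set ↥(Subgroup.centralizer ({x} : Set G)))) := by
      refine Subgroup.zpowers_le.mpr (Subgroup.mem_normalizer_iff.mpr fun c => ?_)
      have : (⟨x, hxC⟩ : Subgroup.centralizer ({x} : Set G)) * c * ⟨x, hxC⟩⁻¹ = c := by
        ext
        push_cast
        rw [← Subgroup.mem_centralizer_singleton_iff.mp c.2, mul_inv_cancel_right]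
      rw [this]
    have hp : IsPGroup 2 (Subgroup.zpowers (⟨x, hxC⟩ : Subgroup.centralizer ({x} : Set G))) :=
      IsPGroup.of_card (n := 1) (by rw [Nat.card_zpowers, Subgroup.orderOf_mk, hx, pow_one])
    have h := S.3 (hp.to_sup_of_normal_right' S.2 hcen) le_sup_right
    rw [← h]
    exact le_sup_left (a := Subgroup.zpowers (⟨x, hxC⟩ : Subgroup.centralizer ({x} : Set G)))
      (Subgroup.mem_zpowers _)
  have hxT : x ∈ T := hT ⟨_, hxS, rfl⟩
  have : Nontrivial (T : Subgroup G) :=
    ⟨⟨⟨x, hxT⟩, 1, fun e => Involutions.Basic.ne_one hx (congrArg Subtype.val e)⟩⟩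
  obtain ⟨z, hz, hzc⟩ := Involutions.TwoGroups.exists_central_involution T.2
  have hzC : (z : G) ∈ Subgroup.centralizer ({x} : Set G) :=
    Subgroup.mem_centralizer_singleton_iff.mpr (congrArg Subtype.val (hzc ⟨x, hxT⟩).symm)
  have hzS : (⟨(z : G), hzC⟩ : Subgroup.centralizer ({x} : Set G)) ∈ (S : Subgroup _) := by
    rw [← hTC]; exact z.2
  -- `x` and `z` lie in the cyclic group `S`, hence agree
  have hzx : (z : G) = x := by
    by_contra hne
    obtain ⟨hK, -⟩ := Involutions.TwoGroups.four_group (a := (⟨(z : G), hzC⟩ :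
      Subgroup.centralizer ({x} : Set G))) (b := ⟨x, hxC⟩) (by simpa using hz)
      (by simpa using hx) (Subtype.ext (Subgroup.mem_centralizer_singleton_iff.mp hzC))
      (fun e => hne (congrArg Subtype.val e))
    have hle : Subgroup.closure ({⟨(z : G), hzC⟩, ⟨x, hxC⟩} : Set (Subgroup.centralizer ({x} : Set G))) ≤ S := by
      rw [Subgroup.closure_le]
      rintro w (rfl | rfl) <;> assumption
    have : IsCyclic ↥(Subgroup.closure
        ({⟨(z : G), hzC⟩, ⟨x, hxC⟩} : Set (Subgroup.centralizer ({x} : Set G)))) :=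
      Subgroup.isCyclic_of_le hle
    exact IsKleinFour.not_isCyclic this
  have hTle : (T : Subgroup G) ≤ Subgroup.centralizer ({x} : Set G) := fun u hu =>
    Subgroup.mem_centralizer_singleton_iff.mpr (by
      rw [← hzx]; exact congrArg Subtype.val (hzc ⟨u, hu⟩))
  have hTcyc : IsCyclic (T : Subgroup G) := by
    have : IsCyclic ↥((T : Subgroup G).subgroupOf (Subgroup.centralizer ({x} : Set G))) := by
      rw [hTC]; exact hS
    exact isCyclic_of_surjective (Subgroup.subgroupOfEquivOfLe hTle).toMonoidHom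
      (Subgroup.subgroupOfEquivOfLe hTle).surjective
  exact Involutions.ThompsonTransfer.exists_index_two_of_isCyclic_sylow
    (even_iff_two_dvd.mpr (hx ▸ orderOf_dvd_natCard x)) T hTcyc

end Cfsg.Agent.S0220
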