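import Cfsg.Statements.S0221
import Cfsg.Agent.Lib.Involutions.ThompsonTransfer
import Cfsg.Agent.Lib.Involutions.TwoGroups

set_option autoImplicit false
open Cfsg

namespace Cfsg.Agent.S0221

theorem card_equiv_fixing_one {W : Type*} [Group W] [IsKleinFour W] : Nat.card (MulAut W) ∣ 6 := by
  classical
  have : Finite W := Nat.finite_of_card_ne_zero (by rw [IsKleinFour.card_four]; norm_num)
  have : Fintype W := Fintype.ofFinite W
  let φ : MulAut W →* Equiv.Perm {w : W // w ≠ 1} :=
    { toFun := fun e => e.toEquiv.subtypeEquiv (fun w => by simp)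
      map_one' := by ext; rfl
      map_mul' := fun a b => by ext; rfl }
  have hinj : Function.Injective φ := by
    intro a b h
    ext w
    by_cases hw : w = 1
    · subst hw; simp
    · exact congrArg Subtype.val (DFunLike.congr_fun h ⟨w, hw⟩)
  have h3 : Fintype.card {w : W // w ≠ 1} = 3 := by
    have h4 : Fintype.card W = 4 := by rw [← Nat.card_eq_fintype_card, IsKleinFour.card_four]
    rw [Fintype.card_subtype_compl, h4, Fintype.card_subtype_eq]
  have := Subgroup.card_dvd_of_injective φ hinj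
  rwa [Nat.card_eq_fintype_card (α := Equiv.Perm {w : W // w ≠ 1}), Fintype.card_perm, h3] at this

/-- Adjoining a commuting involution to a four-group. -/
theorem extend_four {G : Type*} [Group G] [Finite G] (W : Subgroup G) [IsKleinFour W] (y : G)
    (hy : y * y = 1) (hyc : ∀ w ∈ W, y * w = w * y) (hyW : y ∉ W) :
    Nat.card ↥(W ⊔ Subgroup.zpowers y) = 8 ∧
      ∀ e ∈ W ⊔ Subgroup.zpowers y, e ^ 2 = 1 := by
  have hn : Subgroup.zpowers y ≤ Subgroup.normalizer (W : Set G) :=
    Subgroup.zpowers_le.mpr (Subgroup.mem_normalizer_iff.mpr fun w => by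
      constructor
      · intro hw; rw [hyc w hw, mul_inv_cancel_right]; exact hw
      · intro hw
        have hy' : y⁻¹ = y := inv_eq_of_mul_eq_one_left hy
        have := hyc _ hw
        rw [hy', ← mul_assoc, ← mul_assoc, hy, one_mul, mul_assoc (y * w), hy, mul_one] at this
        have e : y * w * y⁻¹ = w := by
          rw [hy', ← this, mul_assoc w, hy, mul_one]
        rwa [e] at hw)
  have hset := Subgroup.coe_mul_of_left_le_normalizer_right (Subgroup.zpowers y) W hn
  have hmem : ∀ e ∈ W ⊔ Subgroup.zpowers y, ∃ w ∈ W, e = w ∨ e = y * w := by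
    intro e he
    rw [sup_comm, ← SetLike.mem_coe, hset] at he
    obtain ⟨c, hc, w, hw, rfl⟩ := he
    obtain ⟨i, rfl⟩ := Subgroup.mem_zpowers_iff.mp hc
    have hy2 : y ^ (2 : ℤ) = 1 := by rw [zpow_two, hy]
    rcases Int.even_or_odd' i with ⟨j, rfl | rfl⟩
    · exact ⟨w, hw, Or.inl (by show y ^ (2 * j) * w = w; rw [zpow_mul, hy2, one_zpow, one_mul])⟩
    · exact ⟨w, hw, Or.inr (by
        show y ^ (2 * j + 1) * w = y * w
        rw [zpow_add, zpow_mul, hy2, one_zpow, one_mul, zpow_one])⟩
  have hw2 : ∀ w ∈ W, w * w = 1 := ((Involutions.TwoGroups.isKleinFour_iff W).mp inferInstance).2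
  constructor
  · have hW4 : (W : Set G).ncard = 4 := by
      rw [← Nat.card_coe_set_eq]; exact IsKleinFour.card_four (G := W)
    have hs : ((W ⊔ Subgroup.zpowers y : Subgroup G) : Set G) =
        (W : Set G) ∪ (fun w => y * w) '' (W : Set G) := by
      ext e
      constructor
      · intro he
        obtain ⟨w, hw, rfl | rfl⟩ := hmem e he
        · exact Or.inl hw
        · exact Or.inr ⟨w, hw, rfl⟩
      · rintro (he | ⟨w, hw, rfl⟩)
        · exact Subgroup.mem_sup_left he
        · exact mul_mem (Subgroup.mem_sup_right (Subgroup.mem_zpowers y)) (Subgroup.mem_sup_left hw)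
    have hdisj : Disjoint (W : Set G) ((fun w => y * w) '' (W : Set G)) := by
      rw [Set.disjoint_left]
      rintro _ he ⟨w, hw, rfl⟩
      exact hyW (by simpa using W.mul_mem he (W.inv_mem hw))
    rw [← SetLike.coe_sort_coe, Nat.card_coe_set_eq, hs, Set.ncard_union_eq hdisj,
      Set.ncard_image_of_injective _ (mul_right_injective y), hW4]
  · intro e he
    rw [pow_two]
    obtain ⟨w, hw, rfl | rfl⟩ := hmem e he
    · exact hw2 _ hw
    · rw [(show Commute w y from (hyc w hw).symm).mul_mul_mul_comm, hy, hw2 w hw, one_mul]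

/-- Let G be a finite group with no subgroup of index 2 whose 2-rank is at least 3 (it contains an elementary abelian subgroup of order 8). Then the centralizer of every involution of G also contains an elementary abelian subgroup of order 8. -/
theorem result {G : Type*} [Group G] [Finite G] (hno : ∀ H : Subgroup G, H.index ≠ 2) (hrank : ∃ E : Subgroup G, Nat.card E = 8 ∧ ∀ e ∈ E, e ^ 2 = 1) (x : G) (hx : orderOf x = 2) : ∃ E : Subgroup G, E ≤ Subgroup.centralizer ({x} : Set G) ∧ Nat.card E = 8 ∧ ∀ e ∈ E, e ^ 2 = 1 := by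
  have : Fact (Nat.Prime 2) := ⟨Nat.prime_two⟩
  obtain ⟨E, hE8, hE2⟩ := hrank
  have hEc : ∀ a ∈ E, ∀ b ∈ E, a * b = b * a := by
    intro a ha b hb
    have h := hE2 _ (E.mul_mem ha hb)
    rw [pow_two] at h
    have ia : a⁻¹ = a := inv_eq_of_mul_eq_one_left (by rw [← pow_two]; exact hE2 a ha)
    have ib : b⁻¹ = b := inv_eq_of_mul_eq_one_left (by rw [← pow_two]; exact hE2 b hb)
    calc a * b = (a * b)⁻¹ := eq_inv_of_mul_eq_one_left h
      _ = b * a := by rw [mul_inv_rev, ia, ib]
  have hEp : IsPGroup 2 E := IsPGroup.of_card (n := 3) (by rw [hE8]; norm_num)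
  obtain ⟨T, hET⟩ := hEp.exists_le_sylow
  obtain ⟨W0, hW0n, hW0⟩ := Involutions.TwoGroups.exists_normal_four_group T.2
    (E.subgroupOf (T : Subgroup G))
    (fun a ha b hb => Subtype.ext (hEc _ ha _ hb))
    (fun a ha => Subtype.ext (by push_cast; rw [← pow_two]; exact hE2 _ ha))
    (by rw [Nat.card_congr (Subgroup.subgroupOfEquivOfLe hET).toEquiv, hE8])
  set W : Subgroup G := W0.map (T : Subgroup G).subtype with hW
  have : IsKleinFour W := by
    have e := W0.equivMapOfInjective (T : Subgroup G).subtype Subtype.val_injective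
    exact ⟨(Nat.card_congr e.toEquiv).symm.trans IsKleinFour.card_four,
      (Monoid.exponent_eq_of_mulEquiv e).symm.trans IsKleinFour.exponent_two⟩
  set φ : (T : Subgroup G) →* MulAut W0 := MulAut.conjNormal with hφ
  set M : Subgroup G := φ.ker.map (T : Subgroup G).subtype with hM
  have hMT : M ≤ (T : Subgroup G) := Subgroup.map_subtype_le _
  have hrel : M.relIndex T = 1 ∨ M.relIndex T = 2 := by
    have h1 : M.relIndex T = φ.ker.index := by
      rw [hM, Subgroup.relIndex, Subgroup.subgroupOf,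
        Subgroup.comap_map_eq_self_of_injective Subtype.val_injective]
    rw [h1, Subgroup.index_ker]
    obtain ⟨k, hk⟩ := IsPGroup.iff_card.mp (T.2.of_surjective φ.rangeRestrict φ.rangeRestrict_surjective)
    have h6 : Nat.card φ.range ∣ 6 := (Subgroup.card_subgroup_dvd_card φ.range).trans card_equiv_fixing_one
    rw [hk] at h6 ⊢
    rcases k with _ | _ | k
    · left; rfl
    · right; rfl
    · have := (Nat.dvd_trans (pow_dvd_pow 2 (show 2 ≤ k + 2 by omega)) h6)
      norm_num at this
  have hMW : ∀ m ∈ M, ∀ w ∈ W, m * w = w * m := by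
    rintro _ ⟨m, hm, rfl⟩ _ ⟨w, hw, rfl⟩
    have h := congrArg Subtype.val (DFunLike.congr_fun (MonoidHom.mem_ker.mp hm) (⟨w, hw⟩ : W0))
    rw [hφ, MulAut.conjNormal_apply] at h
    have h' : m * w * m⁻¹ = w := h
    exact congrArg Subtype.val (mul_inv_eq_iff_eq_mul.mp h')
  have hWM : ∀ m ∈ (T : Subgroup G), (∀ w ∈ W, m * w = w * m) → m ∈ M := by
    intro m hm hmw
    refine ⟨⟨m, hm⟩, ?_, rfl⟩
    apply MonoidHom.mem_ker.mpr
    ext w
    rw [hφ, MulAut.conjNormal_apply]
    have h := hmw _ ⟨w.1, w.2, rfl⟩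
    change m * (w.1 : G) * m⁻¹ = (w.1 : G)
    change m * (w.1 : G) = (w.1 : G) * m at h
    rw [h, mul_inv_cancel_right]
  -- some conjugate of `x` lies in `M`
  obtain ⟨g, hg⟩ : ∃ g : G, g * x * g⁻¹ ∈ M := by
    rcases hrel with h | h
    · have hTM : (T : Subgroup G) ≤ M := Subgroup.relIndex_eq_one.mp h
      have hp : IsPGroup 2 (Subgroup.zpowers x) :=
        IsPGroup.of_card (n := 1) (by rw [Nat.card_zpowers, hx, pow_one])
      obtain ⟨Q, hQ⟩ := hp.exists_le_sylow
      obtain ⟨c, hc⟩ := MulAction.exists_smul_eq G Q T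
      refine ⟨c, hTM ?_⟩
      show c * x * c⁻¹ ∈ T
      rw [← hc, ← SetLike.mem_coe, Sylow.coe_smul]
      exact ⟨x, hQ (Subgroup.mem_zpowers x), rfl⟩
    · exact Involutions.ThompsonTransfer.exists_conj_mem hno T M hMT h x hx
  set x' := g * x * g⁻¹ with hx'
  have ox' : x' * x' = 1 := Involutions.Basic.inv_sq_one (by rw [hx', Involutions.Basic.orderOf_conj, hx])
  -- it is enough to treat `x'`
  suffices ∃ E' : Subgroup G, E' ≤ Subgroup.centralizer ({x'} : Set G) ∧ Nat.card E' = 8 ∧
      ∀ e ∈ E', e ^ 2 = 1 by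
    obtain ⟨E', h1, h2, h3⟩ := this
    refine ⟨E'.map (MulAut.conj g⁻¹).toMonoidHom, ?_, ?_, ?_⟩
    · rintro _ ⟨e, he, rfl⟩
      have h4 := Subgroup.mem_centralizer_singleton_iff.mp (h1 he)
      rw [Subgroup.mem_centralizer_singleton_iff]
      show g⁻¹ * e * g⁻¹⁻¹ * x = x * (g⁻¹ * e * g⁻¹⁻¹)
      calc g⁻¹ * e * g⁻¹⁻¹ * x = g⁻¹ * (e * (g * x * g⁻¹)) * g := by group
        _ = g⁻¹ * (g * x * g⁻¹ * e) * g := by rw [h4]
        _ = _ := by group
    · rw [← h2]
      exact (Nat.card_congr (E'.equivMapOfInjective _ (MulAut.conj g⁻¹).injective).toEquiv).symm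
    · rintro _ ⟨e, he, rfl⟩
      rw [← map_pow, h3 e he, map_one]
  by_cases hxW : x' ∈ W
  · -- find an element of `E ∩ M` outside `W`
    obtain ⟨e, heE, heM, heW⟩ : ∃ e ∈ E, e ∈ M ∧ e ∉ W := by
      by_contra hc
      push Not at hc
      have hsub : ((E ⊓ M : Subgroup G) : Set G) ⊆ (W : Set G) := fun e he => hc e he.1 he.2
      have hrelE : 8 ≤ 2 * ((E ⊓ M : Subgroup G) : Set G).ncard := by
        have h1 : M.relIndex E ≤ 2 := by
          have hle := Subgroup.relIndex_le_of_le_right (H := M) hET (fun e => by omega)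
          rcases hrel with h | h <;> omega
        have h3 := Subgroup.card_mul_index (M.subgroupOf E)
        rw [hE8, ← Subgroup.relIndex] at h3
        have h4 : Nat.card (M.subgroupOf E) = ((E ⊓ M : Subgroup G) : Set G).ncard := by
          rw [← Nat.card_coe_set_eq]
          exact Nat.card_congr
            { toFun := fun u => ⟨u.1.1, u.1.2, u.2⟩
              invFun := fun u => ⟨⟨u.1, u.2.1⟩, u.2.2⟩
              left_inv := fun u => rfl
              right_inv := fun u => rfl }
        rw [h4] at h3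
        calc 8 = ((E ⊓ M : Subgroup G) : Set G).ncard * M.relIndex E := h3.symm
          _ ≤ ((E ⊓ M : Subgroup G) : Set G).ncard * 2 := Nat.mul_le_mul_left _ h1
          _ = _ := mul_comm _ _
      have hW4 : (W : Set G).ncard = 4 := by
        rw [← Nat.card_coe_set_eq]; exact IsKleinFour.card_four (G := W)
      have heq := Set.eq_of_subset_of_ncard_le hsub (by omega) (Set.toFinite _)
      -- so `E` centralizes `W`
      have hEM : E ≤ M := by
        intro e he
        refine hWM e (hET he) fun w hw => ?_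
        have hw' : w ∈ ((E ⊓ M : Subgroup G) : Set G) := heq ▸ hw
        exact hEc e he w hw'.1
      have : ((E ⊓ M : Subgroup G) : Set G).ncard = 8 := by
        rw [inf_eq_left.mpr hEM, ← Nat.card_coe_set_eq]; exact hE8
      rw [heq, hW4] at this
      omega
    obtain ⟨h8, h2⟩ := extend_four W e (by rw [← pow_two]; exact hE2 e heE) (hMW e heM) heW
    refine ⟨_, sup_le (fun w hw => ?_) (Subgroup.zpowers_le.mpr ?_), h8, h2⟩
    · exact Subgroup.mem_centralizer_singleton_iff.mpr (hMW x' hg w hw).symm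
    · exact Subgroup.mem_centralizer_singleton_iff.mpr (hMW e heM x' hxW)
  · obtain ⟨h8, h2⟩ := extend_four W x' ox' (hMW x' hg) hxW
    refine ⟨_, sup_le (fun w hw => ?_) (Subgroup.zpowers_le.mpr ?_), h8, h2⟩
    · exact Subgroup.mem_centralizer_singleton_iff.mpr (hMW x' hg w hw).symm
    · exact Subgroup.mem_centralizer_singleton_iff.mpr rfl

end Cfsg.Agent.S0221
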