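import Cfsg.Statements.S0224
import Cfsg.Agent.Lib.Involutions.StronglyEmbedded

set_option autoImplicit false
open Cfsg

namespace Cfsg.Agent.S0224

/-- Let H be a proper subgroup of even order of the finite group G. Then H is strongly embedded if and only if each involution of H fixes exactly one point (namely the coset H) in the action of G on the cosets of H. -/
theorem result {G : Type*} [Group G] [Finite G] (H : Subgroup G) (hH : H ≠ ⊤) (heven : Even (Nat.card H)) : Cfsg.IsStronglyEmbedded H ↔ ∀ t ∈ H, orderOf t = 2 → Nat.card {c : G ⧸ H // t • c = c} = 1 := by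
  constructor
  · intro h t _ ht2
    obtain ⟨c, hc, hu⟩ := Involutions.StronglyEmbedded.existsUnique_fixed h ht2
    rw [Nat.card_eq_one_iff_unique]
    exact ⟨⟨fun a b => Subtype.ext ((hu a a.2).trans (hu b b.2).symm)⟩, ⟨⟨c, hc⟩⟩⟩
  · intro h
    refine Involutions.StronglyEmbedded.of_conj hH heven fun t ht ht2 g hg => ?_
    obtain ⟨⟨hs⟩, -⟩ := Nat.card_eq_one_iff_unique.mp (h t ht ht2)
    have h1 : t • ((1 : G) : G ⧸ H) = ((1 : G) : G ⧸ H) := by
      show ((t * 1 : G) : G ⧸ H) = _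
      rw [QuotientGroup.eq]; simpa using ht
    have h2 : t • ((g⁻¹ : G) : G ⧸ H) = ((g⁻¹ : G) : G ⧸ H) := by
      show ((t * g⁻¹ : G) : G ⧸ H) = _
      rw [QuotientGroup.eq]
      have := inv_mem hg
      rw [show (t * g⁻¹)⁻¹ * g⁻¹ = (g * t * g⁻¹)⁻¹ by group]
      exact this
    have h3 : ((1 : G) : G ⧸ H) = ((g⁻¹ : G) : G ⧸ H) := congrArg Subtype.val (hs ⟨_, h1⟩ ⟨_, h2⟩)
    rw [QuotientGroup.eq] at h3
    simpa using h3

end Cfsg.Agent.S0224
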