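import Cfsg.Statements.S0229
import Cfsg.Agent.Lib.Involutions.Isolated

set_option autoImplicit false
open Cfsg

namespace Cfsg.Agent.S0229

/-- Let t be an involution of a Sylow 2-subgroup S of a finite group G, conjugate in G to no other element of S, and let s be an involution of G not conjugate to t. Then the order of st is twice an odd number. -/
theorem result {G : Type*} [Group G] [Finite G] (S : Sylow 2 G) (t : G) (ht : orderOf t = 2) (htS : t ∈ S) (hiso : ∀ g : G, g * t * g⁻¹ ∈ S → g * t * g⁻¹ = t) (s : G) (hs : orderOf s = 2) (hns : ¬ IsConj s t) : orderOf (s * t) % 4 = 2 := by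
  have hz := (Involutions.Isolated.iff_unique_in_sylow S ht htS).mpr hiso
  obtain ⟨m, hm⟩ := Involutions.Basic.even_orderOf_mul_of_not_isConj hs ht hns
  rcases Nat.even_or_odd m with ⟨j, rfl⟩ | ⟨j, rfl⟩
  · exfalso
    have hts : orderOf (t * s) = orderOf (s * t) := by
      rw [show t * s = t * (s * t) * t⁻¹ by group, Involutions.Basic.orderOf_conj]
    have hpos := orderOf_pos (t * s)
    obtain ⟨h2, hct, -⟩ := Involutions.Basic.middle_involution ht hs ⟨j + j, hts.trans hm⟩
    rw [show orderOf (t * s) / 2 = j + j by omega] at h2 hct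
    have hconj : (t * s) ^ (-(j : ℤ)) * t * ((t * s) ^ (-(j : ℤ)))⁻¹ = t * (t * s) ^ (j + j) := by
      rw [Involutions.Basic.zpow_conj_left ht hs, ← zpow_natCast (t * s) (j + j)]
      congr 2; push_cast; ring
    have h := Involutions.Isolated.eq_of_commute hz (IsConj.refl t)
      (isConj_iff.mpr ⟨_, hconj⟩) ((Commute.refl t).mul_right hct.symm)
    exact Involutions.Basic.ne_one h2 (mul_eq_left.mp h.symm)
  · omega

end Cfsg.Agent.S0229
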