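import Cfsg.Statements.S0230
import Cfsg.Agent.Lib.Involutions.Basic

set_option autoImplicit false
open Cfsg

namespace Cfsg.Agent.S0230

/-- Let G be a finite group with two non-conjugate involutions, and let t be an involution whose centralizer has maximal order among centralizers of involutions. Then |G| < |C_G(t)|^3. -/
theorem result {G : Type*} [Group G] [Finite G] (s t : G) (hs : orderOf s = 2) (ht : orderOf t = 2) (hnc : ¬ IsConj s t) (hmax : ∀ u : G, orderOf u = 2 → Nat.card (Subgroup.centralizer ({u} : Set G)) ≤ Nat.card (Subgroup.centralizer ({t} : Set G))) : Nat.card G < Nat.card (Subgroup.centralizer ({t} : Set G)) ^ 3 := by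
  classical
  have : Fintype G := Fintype.ofFinite G
  set c := Nat.card (Subgroup.centralizer ({t} : Set G)) with hc
  let A : Set G := {z | orderOf z = 2 ∧ Commute z t}
  let X : Set G := {u | IsConj s u}
  have hX : X ⊆ ⋃ z ∈ A.toFinset, (Subgroup.centralizer ({z} : Set G) : Set G) := by
    intro u hu
    obtain ⟨g, rfl⟩ := isConj_iff.mp hu
    have hou : orderOf (g * s * g⁻¹) = 2 := by rw [Involutions.Basic.orderOf_conj, hs]
    have hev := Involutions.Basic.even_orderOf_mul_of_not_isConj ht hou
      (fun h => hnc (hu.trans h.symm))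
    obtain ⟨h1, h2, h3⟩ := Involutions.Basic.middle_involution ht hou hev
    simp only [Set.mem_iUnion, Set.mem_toFinset]
    exact ⟨_, ⟨h1, h2⟩, Subgroup.mem_centralizer_singleton_iff.mpr h3.symm⟩
  have hA : A.ncard < c := by
    rw [hc, ← SetLike.coe_sort_coe, Nat.card_coe_set_eq]
    refine Set.ncard_lt_ncard ?_ (Set.toFinite _)
    refine (Set.ssubset_iff_of_subset fun z hz =>
      Subgroup.mem_centralizer_singleton_iff.mpr hz.2).mpr ⟨1, one_mem _, ?_⟩
    intro h
    have := h.1
    simp at this
  have hle : X.ncard ≤ A.ncard * c := by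
    refine (Set.ncard_le_ncard hX (Set.toFinite _)).trans ((Finset.set_ncard_biUnion_le _ _).trans ?_)
    refine (Finset.sum_le_card_nsmul _ _ c fun z hz => ?_).trans (le_of_eq ?_)
    · rw [← Nat.card_coe_set_eq]
      exact hmax z (Set.mem_toFinset.mp hz).1
    · rw [Set.ncard_eq_toFinset_card', smul_eq_mul]
  have hcs : Nat.card (Subgroup.centralizer ({s} : Set G)) ≤ c := hmax s hs
  have hG : Nat.card G = X.ncard * Nat.card (Subgroup.centralizer ({s} : Set G)) := by
    have h := MulAction.card_orbit_mul_card_stabilizer_eq_card_group (ConjAct G) s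
    rw [← Nat.card_eq_fintype_card, ← Nat.card_eq_fintype_card, ← Nat.card_eq_fintype_card] at h
    have e1 : Nat.card (MulAction.orbit (ConjAct G) s) = X.ncard := by
      rw [← Nat.card_coe_set_eq]
      refine Nat.card_congr (Equiv.setCongr ?_)
      ext u
      rw [ConjAct.mem_orbit_conjAct]
      exact ⟨IsConj.symm, IsConj.symm⟩
    have e2 : Nat.card (MulAction.stabilizer (ConjAct G) s) =
        Nat.card (Subgroup.centralizer ({s} : Set G)) := by
      refine Nat.card_congr (Equiv.subtypeEquiv ConjAct.ofConjAct.toEquiv fun u => ?_)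
      rw [MulAction.mem_stabilizer_iff, ConjAct.smul_def, Subgroup.mem_centralizer_singleton_iff,
        mul_inv_eq_iff_eq_mul]
      rfl
    rw [e1, e2] at h
    exact h.symm
  have hc0 : 0 < c := Nat.card_pos
  calc Nat.card G = X.ncard * Nat.card (Subgroup.centralizer ({s} : Set G)) := hG
    _ ≤ A.ncard * c * c := Nat.mul_le_mul hle hcs
    _ < c * c * c := Nat.mul_lt_mul_of_pos_right (Nat.mul_lt_mul_of_pos_right hA hc0) hc0
    _ = c ^ 3 := by ring

end Cfsg.Agent.S0230
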