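import Cfsg.Statements.S0231
import Cfsg.Agent.Lib.Involutions.TwoGroups

set_option autoImplicit false
open scoped Pointwise
open Cfsg

namespace Cfsg.Agent.S0231

/-- Let T be a Sylow 2-subgroup of the finite group G which is not normal and which intersects every other Sylow 2-subgroup trivially. Then G has a single conjugacy class of involutions. -/
theorem result {G : Type*} [Group G] [Finite G] (T : Sylow 2 G) (hnn : ¬ (T : Subgroup G).Normal) (hTI : ∀ g : G, MulAut.conj g • (T : Subgroup G) ≠ T → MulAut.conj g • (T : Subgroup G) ⊓ T = ⊥) (s t : G) (hs : orderOf s = 2) (ht : orderOf t = 2) : IsConj s t := by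
  have : Fact (Nat.Prime 2) := ⟨Nat.prime_two⟩
  by_contra hnc
  -- an involution lies in exactly one Sylow 2-subgroup
  have huniq : ∀ (P Q : Sylow 2 G) (x : G), x ≠ 1 → x ∈ P → x ∈ Q → P = Q := by
    intro P Q x hx1 hP hQ
    obtain ⟨a, rfl⟩ := MulAction.exists_smul_eq G T P
    obtain ⟨b, rfl⟩ := MulAction.exists_smul_eq G T Q
    have hmem : ∀ (g : G) (y : G), y ∈ (g • T : Sylow 2 G) ↔ y ∈ MulAut.conj g • (T : Subgroup G) :=
      fun g y => Iff.rfl
    by_contra hne
    have h := hTI (a⁻¹ * b) (fun e => hne ?_)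
    · have hm : a⁻¹ * x * a ∈ MulAut.conj (a⁻¹ * b) • (T : Subgroup G) ⊓ (T : Subgroup G) := by
        rw [hmem] at hP hQ
        rw [Subgroup.mem_pointwise_smul_iff_inv_smul_mem] at hP hQ
        refine ⟨?_, ?_⟩
        · show a⁻¹ * x * a ∈ MulAut.conj (a⁻¹ * b) • (T : Subgroup G)
          rw [Subgroup.mem_pointwise_smul_iff_inv_smul_mem]
          have e : (MulAut.conj (a⁻¹ * b))⁻¹ • (a⁻¹ * x * a) = (MulAut.conj b)⁻¹ • x := by
            simp [MulAut.smul_def, mul_assoc]
          rw [e]; exact hQ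
        · show a⁻¹ * x * a ∈ (T : Subgroup G)
          simpa [MulAut.smul_def] using hP
      rw [h, Subgroup.mem_bot] at hm
      refine hx1 ?_
      calc x = a * (a⁻¹ * x * a) * a⁻¹ := by group
        _ = 1 := by rw [hm]; group
    · have e' : (a⁻¹ * b) • T = T := Sylow.ext e
      calc a • T = a • ((a⁻¹ * b) • T) := by rw [e']
        _ = b • T := by rw [← mul_smul, mul_inv_cancel_left]
  have hexists : ∀ x : G, orderOf x = 2 → ∃ P : Sylow 2 G, x ∈ P := fun x hx => by
    obtain ⟨P, hP⟩ := (IsPGroup.of_card (n := 1) (by rw [Nat.card_zpowers, hx, pow_one]) :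
      IsPGroup 2 (Subgroup.zpowers x)).exists_le_sylow
    exact ⟨P, hP (Subgroup.mem_zpowers x)⟩
  -- involutions that are not conjugate lie in a common Sylow 2-subgroup
  have hcommon : ∀ a b : G, orderOf a = 2 → orderOf b = 2 → ¬ IsConj a b →
      ∀ P : Sylow 2 G, a ∈ P → b ∈ P := by
    intro a b ha hb hab P haP
    obtain ⟨hz, hza, hzb⟩ := Involutions.Basic.middle_involution ha hb
      (Involutions.Basic.even_orderOf_mul_of_not_isConj ha hb hab)
    set z := (a * b) ^ (orderOf (a * b) / 2) with hzdef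
    have pair : ∀ u : G, orderOf u = 2 → Commute z u → ∃ Q : Sylow 2 G, z ∈ Q ∧ u ∈ Q := by
      intro u hu hzu
      by_cases e : z = u
      · obtain ⟨Q, hQ⟩ := hexists u hu
        exact ⟨Q, e ▸ hQ, hQ⟩
      · obtain ⟨hK, -⟩ := Involutions.TwoGroups.four_group hz hu hzu e
        have hp : IsPGroup 2 ↥(Subgroup.closure ({z, u} : Set G)) :=
          IsPGroup.of_card (n := 2) (by rw [IsKleinFour.card_four]; norm_num)
        obtain ⟨Q, hQ⟩ := hp.exists_le_sylow
        exact ⟨Q, hQ (Subgroup.subset_closure (Set.mem_insert _ _)),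
          hQ (Subgroup.subset_closure (Set.mem_insert_of_mem _ rfl))⟩
    obtain ⟨Q1, hz1, ha1⟩ := pair a ha hza
    obtain ⟨Q2, hz2, hb2⟩ := pair b hb hzb
    rw [huniq P Q1 a (Involutions.Basic.ne_one ha) haP ha1,
      huniq Q1 Q2 z (Involutions.Basic.ne_one hz) hz1 hz2]
    exact hb2
  obtain ⟨P, hsP⟩ := hexists s hs
  have htP := hcommon s t hs ht hnc P hsP
  -- every conjugate of `s` lies in `P`
  have hnormal : ∀ g : G, g • P = P := by
    intro g
    have hog : orderOf (g * s * g⁻¹) = 2 := by rw [Involutions.Basic.orderOf_conj, hs]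
    have hgP : g * s * g⁻¹ ∈ P := hcommon t _ ht hog
      (fun h => hnc ((isConj_iff.mpr ⟨g, rfl⟩).trans h.symm)) P htP
    refine huniq (g • P) P _ (Involutions.Basic.ne_one hog) ?_ hgP
    rw [← SetLike.mem_coe, Sylow.coe_smul]
    exact ⟨s, hsP, rfl⟩
  apply hnn
  obtain ⟨a, rfl⟩ := MulAction.exists_smul_eq G P T
  rw [hnormal a]
  exact Subgroup.normalizer_eq_top_iff.mp (eq_top_iff.mpr fun g _ =>
    Sylow.smul_eq_iff_mem_normalizer.mp (hnormal g))

end Cfsg.Agent.S0231
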