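import Cfsg.Statements.S0232
import Cfsg.Agent.Lib.Involutions.BrauerFowler
import Cfsg.Agent.Lib.Involutions.ThompsonTransfer

set_option autoImplicit false
open Cfsg

namespace Cfsg.Agent.S0232

universe v

theorem bound : ∀ (N : ℕ) (Q : Type v) [Group Q] [Finite Q], Nat.card Q ≤ N → Even (Nat.card Q) →
    2 < Nat.card Q → ∃ H : Subgroup Q, H ≠ ⊤ ∧ Nat.card Q < (Nat.card H) ^ 3 := by
  intro N
  induction N with
  | zero => intro Q _ _ h _ h2; omega
  | succ N ih =>
    intro Q _ _ hN heven hgt
    have : Fact (Nat.Prime 2) := ⟨Nat.prime_two⟩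
    by_cases h2 : ∃ H : Subgroup Q, H.index = 2
    · obtain ⟨H, hH⟩ := h2
      refine ⟨H, fun e => by rw [e, Subgroup.index_top] at hH; omega, ?_⟩
      have h := H.index_mul_card
      rw [hH] at h
      rw [← h]
      have : 2 ≤ Nat.card H := by omega
      nlinarith [Nat.pow_le_pow_left this 2]
    by_cases hz : Odd (Nat.card (Subgroup.center Q))
    · obtain ⟨H, hH, hi | hb⟩ := Involutions.BrauerFowler.exists_small_index heven hz
      · exact absurd ⟨H, hi⟩ h2
      by_contra hno
      push Not at hno
      set g := Nat.card Q with hg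
      set M := Nat.card H with hM
      set μ := H.index with hμ
      set n := Nat.card {x : Q // orderOf x = 2} with hn
      have hμM : μ * M = g := H.index_mul_card
      have hM3 : M ^ 3 ≤ g := hno H hH
      have hM0 : 0 < M := Nat.card_pos
      -- an involution centralizer is proper, hence small
      have hn0 : 0 < n := (Involutions.Counting.odd_card_involutions heven).pos
      obtain ⟨⟨s, hs⟩⟩ := (Nat.card_pos_iff.mp hn0).1
      have hC : Subgroup.centralizer ({s} : Set Q) ≠ ⊤ := by
        intro h
        have hsc : s ∈ Subgroup.center Q := Subgroup.mem_center_iff.mpr fun y =>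
          Subgroup.mem_centralizer_singleton_iff.mp (h ▸ Subgroup.mem_top y)
        have hd : orderOf (⟨s, hsc⟩ : Subgroup.center Q) ∣ Nat.card (Subgroup.center Q) :=
          orderOf_dvd_natCard _
        rw [Subgroup.orderOf_mk, hs] at hd
        obtain ⟨k, hk⟩ := hz
        omega
      set d := Nat.card (Subgroup.centralizer ({s} : Set Q)) with hd
      have hd3 : d ^ 3 ≤ g := hno _ hC
      have hnd : g ≤ n * d := by
        rw [hg, ← Subgroup.index_mul_card (Subgroup.centralizer ({s} : Set Q))]
        exact Nat.mul_le_mul_right _ (Involutions.BrauerFowler.index_centralizer_le hs)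
      have hd0 : 0 < d := Nat.card_pos
      -- compare sizes
      have hdn : d * d ≤ n := by
        by_contra hlt
        push Not at hlt
        have : n * d < d ^ 3 := by rw [pow_succ, pow_two]; exact Nat.mul_lt_mul_of_pos_right hlt hd0
        omega
      have hμ2 : M * M ≤ μ := by
        by_contra hlt
        push Not at hlt
        have : μ * M < M ^ 3 := by rw [pow_succ, pow_two]; exact Nat.mul_lt_mul_of_pos_right hlt hM0
        omega
      have hdμ : d * d ≤ μ := by
        by_contra hlt
        push Not at hlt
        have e6 : M ≤ d := Nat.mul_self_le_mul_self_iff.mp (hμ2.trans hlt.le)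
        have e7 : μ * M < d * d * d :=
          lt_of_le_of_lt (Nat.mul_le_mul_left μ e6) (Nat.mul_lt_mul_of_pos_right hlt hd0)
        have e8 : d ^ 3 = d * d * d := by ring
        omega
      have hMn : M ≤ n := by
        by_contra hlt
        push Not at hlt
        have e1 : d < M := lt_of_le_of_lt ((Nat.le_mul_self d).trans hdn) hlt
        have e2 : n * d < M * M := Nat.mul_lt_mul_of_lt_of_lt hlt e1
        have e3 : M * M ≤ μ * M := hμ2.trans (Nat.le_mul_of_pos_right μ hM0)
        omega
      have hA : g * n ≤ μ * n ^ 2 := by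
        rw [← hμM, pow_two, ← mul_assoc]
        exact Nat.mul_le_mul_right n (Nat.mul_le_mul_left μ hMn)
      have hB : g * g ≤ μ * n ^ 2 := by
        calc g * g ≤ n * d * (n * d) := Nat.mul_le_mul hnd hnd
          _ = d * d * (n * n) := by ring
          _ ≤ μ * (n * n) := Nat.mul_le_mul_right _ hdμ
          _ = μ * n ^ 2 := by ring
      have hC' : 2 * μ * n ^ 2 = μ * n ^ 2 + μ * n ^ 2 := by ring
      rw [mul_add] at hb
      omega
    · rw [Nat.not_odd_iff_even] at hz
      obtain ⟨⟨z, hzc⟩, hzo⟩ := exists_prime_orderOf_dvd_card' (G := Subgroup.center Q) 2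
        (even_iff_two_dvd.mp hz)
      rw [Subgroup.orderOf_mk] at hzo
      set Z := Subgroup.zpowers z with hZ
      have hZn : Z.Normal := by
        refine ⟨fun x hx g => ?_⟩
        have hxc : x ∈ Subgroup.center Q := (Subgroup.zpowers_le.mpr hzc) hx
        rwa [Subgroup.mem_center_iff.mp hxc g, mul_inv_cancel_right]
      have hZ2 : Nat.card Z = 2 := by rw [hZ, Nat.card_zpowers, hzo]
      have hQ := Subgroup.card_eq_card_quotient_mul_card_subgroup Z
      rw [hZ2] at hQ
      rcases Nat.even_or_odd (Nat.card (Q ⧸ Z)) with hqe | hqo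
      · by_cases hq2 : 2 < Nat.card (Q ⧸ Z)
        · obtain ⟨H, hH, hlt⟩ := ih (Q ⧸ Z) (by omega) hqe hq2
          refine ⟨H.comap (QuotientGroup.mk' Z), ?_, ?_⟩
          · intro e
            apply hH
            rw [← Subgroup.map_comap_eq_self_of_surjective (QuotientGroup.mk'_surjective Z) H, e,
              Subgroup.map_top_of_surjective _ (QuotientGroup.mk'_surjective Z)]
          · have h1 : (H.comap (QuotientGroup.mk' Z)).index = H.index :=
              Subgroup.index_comap_of_surjective H (QuotientGroup.mk'_surjective Z)
            have h2' := (H.comap (QuotientGroup.mk' Z)).index_mul_card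
            rw [h1, hQ, ← H.index_mul_card, mul_assoc] at h2'
            have hpos : 0 < H.index := Nat.pos_of_ne_zero Subgroup.index_ne_zero_of_finite
            rw [Nat.eq_of_mul_eq_mul_left hpos h2', hQ, mul_pow]
            have : (0 : ℕ) < Nat.card H ^ 3 := Nat.pow_pos (Nat.card_pos)
            omega
        · have : 0 < Nat.card (Q ⧸ Z) := Nat.card_pos
          refine ⟨Z, fun e => ?_, ?_⟩
          · rw [e, Subgroup.card_top] at hZ2; omega
          · rw [hZ2]
            obtain ⟨k, hk⟩ := hqe
            omega
      · exfalso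
        apply h2
        obtain ⟨T⟩ : Nonempty (Sylow 2 Q) := inferInstance
        have hT2 : Nat.card (T : Subgroup Q) = 2 := by
          rw [Sylow.card_eq_multiplicity, hQ, Nat.factorization_mul (by
            intro e; rw [e] at hqo; simp at hqo) (by norm_num)]
          have h0 : (Nat.card (Q ⧸ Z)).factorization 2 = 0 :=
            Nat.factorization_eq_zero_of_not_dvd (fun h => by obtain ⟨k, hk⟩ := hqo; omega)
          simp [h0, Nat.prime_two.factorization_self]
        exact Involutions.ThompsonTransfer.exists_index_two_of_isCyclic_sylow heven T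
          (isCyclic_of_prime_card hT2)

/-- A finite group G of even order greater than 2 has a proper subgroup H with |G| < |H|^3. -/
theorem result {G : Type*} [Group G] [Finite G] (heven : Even (Nat.card G)) (hgt : 2 < Nat.card G) : ∃ H : Subgroup G, H ≠ ⊤ ∧ Nat.card G < (Nat.card H) ^ 3 := by
  exact bound _ G le_rfl heven hgt

end Cfsg.Agent.S0232
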