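import Cfsg.Statements.S0234
import Cfsg.Agent.Lib.Involutions.BrauerFowler
import Cfsg.Agent.Lib.Involutions.ThompsonTransfer

set_option autoImplicit false
open Cfsg

namespace Cfsg.Agent.S0234

theorem count_A5 : (Finset.univ.filter fun x : alternatingGroup (Fin 5) => x * x = 1 ∧ x ≠ 1).card = 15 := by
  decide +kernel

theorem not_isMulCommutative {G : Type*} [Group G] [Finite G] [IsSimpleGroup G]
    (heven : Even (Nat.card G)) (hgt : 2 < Nat.card G) : ¬ IsMulCommutative G := by
  intro h
  have hc : Subgroup.center G = ⊤ := eq_top_iff.mpr fun x _ =>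
    Subgroup.mem_center_iff.mpr fun y => mul_comm' y x
  have hodd := Involutions.BrauerFowler.center_odd heven hgt
  rw [hc, Subgroup.card_top] at hodd
  exact Nat.not_even_iff_odd.mpr hodd heven

/-- In a finite simple group G of even order greater than 2, the number n of involutions satisfies 3n < |G|. -/
theorem result {G : Type*} [Group G] [Finite G] [IsSimpleGroup G] (heven : Even (Nat.card G)) (hgt : 2 < Nat.card G) : 3 * Nat.card {t : G // orderOf t = 2} < Nat.card G := by
  classical
  have : Fintype G := Fintype.ofFinite G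
  by_contra hlt
  push Not at hlt
  set n := Nat.card {t : G // orderOf t = 2} with hn
  obtain ⟨H, hH, h2 | h⟩ := Involutions.BrauerFowler.exists_small_index heven
    (Involutions.BrauerFowler.center_odd heven hgt)
  · exact Involutions.BrauerFowler.no_index_two hgt H h2
  have hn0 : 0 < n := (Involutions.Counting.odd_card_involutions heven).pos
  rw [← hn] at h
  have h3 : Nat.card G * (Nat.card G + n) ≤ (3 * n) * (3 * n + n) :=
    Nat.mul_le_mul hlt (Nat.add_le_add_right hlt n)
  have hi5 : H.index ≤ 5 := by
    by_contra hc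
    push Not at hc
    nlinarith
  have hd120 : Nat.card G ∣ 120 := (Involutions.BrauerFowler.card_dvd_factorial hH).trans
    (Nat.factorial_dvd_factorial hi5)
  have hnc := not_isMulCommutative heven hgt
  have hA : ∀ K : Subgroup G, K ≠ ⊤ → Nat.card G ∣ K.index.factorial :=
    fun K hK => Involutions.BrauerFowler.card_dvd_factorial hK
  by_cases hsmall : H.index ≤ 4
  · -- no simple group of even order divides 24
    have hd24 : Nat.card G ∣ 24 := (hA H hH).trans (Nat.factorial_dvd_factorial hsmall)
    have hle := Nat.le_of_dvd (by norm_num) hd24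
    have : Fact (Nat.Prime 2) := ⟨Nat.prime_two⟩
    obtain ⟨T⟩ : Nonempty (Sylow 2 G) := inferInstance
    have hT : (T : Subgroup G) ≠ ⊤ := by
      intro e
      have hp : IsPGroup 2 G := by
        have := T.2
        rw [e] at this
        exact this.of_surjective (Subgroup.topEquiv : (⊤ : Subgroup G) ≃* G).toMonoidHom (Subgroup.topEquiv : (⊤ : Subgroup G) ≃* G).surjective
      have : Nontrivial G := by
        rw [← Finite.one_lt_card_iff_nontrivial]; omega
      rcases (show (Subgroup.center G).Normal from inferInstance).eq_bot_or_eq_top with hb | ht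
      · exact (Subgroup.nontrivial_iff_ne_bot _).mp hp.center_nontrivial hb
      · exact hnc ⟨⟨fun a b => Subgroup.mem_center_iff.mp (ht ▸ Subgroup.mem_top b) a⟩⟩
    have hdT := hA _ hT
    have h2T := T.card_eq_multiplicity
    have hidx := (T : Subgroup G).index_mul_card
    have hne1 : (T : Subgroup G).index ≠ 1 := fun e => hT (Subgroup.index_eq_one.mp e)
    have hi3 : (T : Subgroup G).index ∣ 3 := by
      have hdvd : (T : Subgroup G).index ∣ 24 := (Subgroup.index_dvd_card _).trans hd24
      have hc : Nat.Coprime (T : Subgroup G).index 8 := by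
        rw [show (8 : ℕ) = 2 ^ 3 by norm_num]
        exact Nat.Coprime.pow_right 3 ((Nat.prime_two.coprime_iff_not_dvd.mpr T.not_dvd_index).symm)
      exact hc.dvd_of_dvd_mul_left (by simpa using hdvd)
    have hi : (T : Subgroup G).index = 3 :=
      ((Nat.dvd_prime Nat.prime_three).mp hi3).resolve_left hne1
    rw [hi, show Nat.factorial 3 = 6 from rfl] at hdT
    have h6 := Nat.le_of_dvd (by norm_num) hdT
    rw [hi] at hidx
    have h2dvd : 2 ∣ Nat.card (T : Subgroup G) := T.dvd_card_of_dvd_card (even_iff_two_dvd.mp heven)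
    have : Nat.card (T : Subgroup G) = 2 := by omega
    obtain ⟨K, hK⟩ := Involutions.ThompsonTransfer.exists_index_two_of_isCyclic_sylow heven T
      (isCyclic_of_prime_card this)
    exact Involutions.BrauerFowler.no_index_two hgt K hK
  have hi : H.index = 5 := by omega
  -- `G` is isomorphic to `A₅`
  let e5 : G ⧸ H ≃ Fin 5 := Finite.equivFinOfCardEq hi
  set φ : G →* Equiv.Perm (Fin 5) := e5.permCongrHom.toMonoidHom.comp (MulAction.toPermHom G (G ⧸ H))
  have hinj : Function.Injective φ := by
    refine e5.permCongrHom.injective.comp ?_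
    rw [← MonoidHom.ker_eq_bot_iff, ← Subgroup.normalCore_eq_ker]
    rcases H.normalCore_normal.eq_bot_or_eq_top with h' | h'
    · exact h'
    · exact absurd (top_le_iff.mp (h' ▸ Subgroup.normalCore_le H)) hH
  have hrange : ∀ x, φ x ∈ alternatingGroup (Fin 5) := by
    intro x
    rcases (MonoidHom.normal_ker ((Equiv.Perm.sign).comp φ)).eq_bot_or_eq_top with h' | h'
    · exfalso
      have := Subgroup.card_dvd_of_injective _ ((MonoidHom.ker_eq_bot_iff _).mp h')
      rw [Nat.card_eq_fintype_card (α := ℤˣ), Fintype.card_units_int] at this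
      have := Nat.le_of_dvd (by norm_num) this
      omega
    · exact Equiv.Perm.mem_alternatingGroup.mpr
        (MonoidHom.mem_ker.mp (h'.symm ▸ Subgroup.mem_top x : x ∈ ((Equiv.Perm.sign).comp φ).ker))
  let ψ : G →* alternatingGroup (Fin 5) := φ.codRestrict _ hrange
  have hψ : Function.Injective ψ := fun a b h => hinj (congrArg Subtype.val h)
  have hd60 := Subgroup.card_dvd_of_injective ψ hψ
  rw [Nat.card_eq_fintype_card (α := alternatingGroup (Fin 5))] at hd60
  rw [show Fintype.card (alternatingGroup (Fin 5)) = 60 by decide +kernel] at hd60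
  have hn15 : n ≤ 15 := by
    rw [hn, ← count_A5, ← Fintype.card_subtype, ← Nat.card_eq_fintype_card]
    refine Nat.card_le_card_of_injective (fun t => ⟨ψ t.1, ?_, ?_⟩) fun a b h => ?_
    · rw [← map_mul, Involutions.Basic.inv_sq_one t.2, map_one]
    · intro e; exact Involutions.Basic.ne_one t.2 (hψ (e.trans (map_one ψ).symm))
    · exact Subtype.ext (hψ (congrArg Subtype.val h))
  have hle60 := Nat.le_of_dvd (by norm_num) hd60
  rcases hd60 with ⟨k, hk⟩
  have : k = 1 ∨ 2 ≤ k := by rcases k with _ | _ | k <;> omega
  rcases this with rfl | hk2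
  · omega
  · -- then `|G| ≤ 30`, so the Sylow 5-subgroup is normal
    have h30 : Nat.card G ≤ 30 := by
      have := Nat.mul_le_mul_left (Nat.card G) hk2
      omega
    have : Fact (Nat.Prime 5) := ⟨by norm_num⟩
    have h5 : 5 ∣ Nat.card G := hi ▸ H.index_dvd_card
    obtain ⟨P⟩ : Nonempty (Sylow 5 G) := inferInstance
    have hPcard : Nat.card (P : Subgroup G) = 5 := by
      obtain ⟨j, hj⟩ := IsPGroup.iff_card.mp P.2
      have hd : Nat.card (P : Subgroup G) ∣ 60 := (Subgroup.card_subgroup_dvd_card _).trans ⟨k, hk⟩
      have hp : 5 ∣ Nat.card (P : Subgroup G) := P.dvd_card_of_dvd_card h5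
      rw [hj] at hd hp ⊢
      rcases j with _ | _ | j
      · simp at hp
      · rfl
      · have := (Nat.dvd_trans (pow_dvd_pow 5 (show 2 ≤ j + 2 by omega)) hd)
        norm_num at this
    have hmod := card_sylow_modEq_one 5 G
    have hns : Nat.card (Sylow 5 G) ∣ (P : Subgroup G).index := P.card_dvd_index
    have hidx := (P : Subgroup G).index_mul_card
    rw [hPcard] at hidx
    have hidx6 : (P : Subgroup G).index ≤ 6 := by omega
    have hle6 := Nat.le_of_dvd (Nat.pos_of_ne_zero Subgroup.index_ne_zero_of_finite) hns
    have hs1 : Nat.card (Sylow 5 G) = 1 ∨ (P : Subgroup G).index = 6 := by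
      have : Nat.card (Sylow 5 G) % 5 = 1 := hmod
      omega
    have hsub : Subsingleton (Sylow 5 G) → False := by
      intro hsub
      rcases (Sylow.normal_of_subsingleton P).eq_bot_or_eq_top with e | e
      · rw [e, Subgroup.card_bot] at hPcard; omega
      · rw [e, Subgroup.card_top] at hPcard
        obtain ⟨m, hm⟩ := heven
        omega
    rcases hs1 with h1 | h6
    · exact hsub ((Nat.card_eq_one_iff_unique.mp h1).1)
    · -- order thirty: a Sylow 2-subgroup is cyclic
      have : Fact (Nat.Prime 2) := ⟨Nat.prime_two⟩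
      obtain ⟨T⟩ : Nonempty (Sylow 2 G) := inferInstance
      obtain ⟨j, hj⟩ := IsPGroup.iff_card.mp T.2
      have hd : Nat.card (T : Subgroup G) ∣ 30 := by
        have := Subgroup.card_subgroup_dvd_card (T : Subgroup G)
        rwa [show Nat.card G = 30 by omega] at this
      have hT2 : 2 ∣ Nat.card (T : Subgroup G) := T.dvd_card_of_dvd_card (even_iff_two_dvd.mp heven)
      have hc2 : Nat.card (T : Subgroup G) = 2 := by
        rw [hj] at hd hT2 ⊢
        rcases j with _ | _ | j
        · simp at hT2
        · rfl
        · have := (Nat.dvd_trans (pow_dvd_pow 2 (show 2 ≤ j + 2 by omega)) hd)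
          norm_num at this
      obtain ⟨K, hK⟩ := Involutions.ThompsonTransfer.exists_index_two_of_isCyclic_sylow heven T
        (isCyclic_of_prime_card hc2)
      exact Involutions.BrauerFowler.no_index_two hgt K hK

end Cfsg.Agent.S0234
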