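import Cfsg.Statements.S0236
import Cfsg.Agent.Lib.Involutions.Counting

set_option autoImplicit false
open Cfsg

namespace Cfsg.Agent.S0236

/-- If x is an involution, the number of ordered pairs (u, v) of involutions with uv = x, plus one, equals the number of involutions in the centralizer of x. -/
theorem result {G : Type*} [Group G] [Finite G] (x : G) (hx : orderOf x = 2) : Nat.card {p : G × G // orderOf p.1 = 2 ∧ orderOf p.2 = 2 ∧ p.1 * p.2 = x} + 1 = Nat.card {t : G // orderOf t = 2 ∧ Commute t x} := by
  rw [Involutions.Counting.card_pairs]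
  have hxi : x⁻¹ = x := Involutions.Basic.inv_eq hx
  have he : ∀ t : G, orderOf t = 2 → (orderOf (t * x) = 2 ↔ Commute t x ∧ t ≠ x) := fun t ht => by
    rw [Involutions.Counting.mul_involution_iff ht, hxi, mul_inv_eq_iff_eq_mul]
    rfl
  let A : Set G := {t | orderOf t = 2 ∧ orderOf (t * x) = 2}
  let B : Set G := {t | orderOf t = 2 ∧ Commute t x}
  have hins : B = insert x A := by
    ext t
    simp only [A, B, Set.mem_insert_iff, Set.mem_setOf_eq]
    constructor
    · rintro ⟨ht, hc⟩
      by_cases e : t = x
      · exact Or.inl e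
      · exact Or.inr ⟨ht, (he t ht).mpr ⟨hc, e⟩⟩
    · rintro (rfl | ⟨ht, h⟩)
      · exact ⟨hx, Commute.refl _⟩
      · exact ⟨ht, ((he t ht).mp h).1⟩
  have hnot : x ∉ A := fun h => ((he x hx).mp h.2).2 rfl
  have := Set.ncard_insert_of_notMem hnot (Set.toFinite A)
  rw [← hins, ← Nat.card_coe_set_eq, ← Nat.card_coe_set_eq] at this
  exact this.symm

end Cfsg.Agent.S0236
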