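import Cfsg.Statements.S0238
import Cfsg.Agent.Lib.Involutions.Counting

set_option autoImplicit false
open Cfsg

namespace Cfsg.Agent.S0238

/-- For every x in a finite group G, the number c of ordered pairs (u, v) of involutions with uv = x is at most |C_G(x)|; c = 0 when x is not conjugate to x⁻¹; and c + 2 ≤ |C_G(x)| when x is an involution. -/
theorem result {G : Type*} [Group G] [Finite G] (x : G) : Nat.card {p : G × G // orderOf p.1 = 2 ∧ orderOf p.2 = 2 ∧ p.1 * p.2 = x} ≤ Nat.card (Subgroup.centralizer ({x} : Set G)) ∧ (¬ IsConj x x⁻¹ → Nat.card {p : G × G // orderOf p.1 = 2 ∧ orderOf p.2 = 2 ∧ p.1 * p.2 = x} = 0) ∧ (orderOf x = 2 → Nat.card {p : G × G // orderOf p.1 = 2 ∧ orderOf p.2 = 2 ∧ p.1 * p.2 = x} + 2 ≤ Nat.card (Subgroup.centralizer ({x} : Set G))) := by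
  rw [Involutions.Counting.card_pairs]
  have hA : ∀ t : {t : G // orderOf t = 2 ∧ orderOf (t * x) = 2}, (t : G) * x * (t : G)⁻¹ = x⁻¹ :=
    fun t => ((Involutions.Counting.mul_involution_iff t.2.1).mp t.2.2).1
  refine ⟨?_, fun hn => ?_, fun hx => ?_⟩
  · by_cases hr : IsConj x x⁻¹
    · rw [← Involutions.Counting.card_inverting x hr]
      exact Nat.card_le_card_of_injective (fun t => ⟨t.1, hA t⟩)
        (fun a b h => Subtype.ext (by simpa using h))
    · have : IsEmpty {t : G // orderOf t = 2 ∧ orderOf (t * x) = 2} :=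
        ⟨fun t => hr (isConj_iff.mpr ⟨_, hA t⟩)⟩
      simp
  · have : IsEmpty {t : G // orderOf t = 2 ∧ orderOf (t * x) = 2} :=
      ⟨fun t => hn (isConj_iff.mpr ⟨_, hA t⟩)⟩
    simp
  · have hxi : x⁻¹ = x := Involutions.Basic.inv_eq hx
    let A : Set G := {t | orderOf t = 2 ∧ orderOf (t * x) = 2}
    let C : Set G := (Subgroup.centralizer ({x} : Set G) : Set G)
    have hAC : insert (1 : G) (insert x A) ⊆ C := by
      rintro t (rfl | rfl | ht)
      · exact one_mem _
      · exact Subgroup.mem_centralizer_singleton_iff.mpr rfl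
      · have h := hA ⟨t, ht⟩
        rw [hxi, mul_inv_eq_iff_eq_mul] at h
        exact Subgroup.mem_centralizer_singleton_iff.mpr h
    have hx1 : x ∉ A := fun h => ((Involutions.Counting.mul_involution_iff h.1).mp h.2).2 rfl
    have h1 : (1 : G) ∉ insert x A := by
      rintro (h | ⟨h, -⟩)
      · exact Involutions.Basic.ne_one hx h.symm
      · simp at h
    have h := Set.ncard_le_ncard hAC (Set.toFinite _)
    rw [Set.ncard_insert_of_notMem h1 (Set.toFinite _), Set.ncard_insert_of_notMem hx1 (Set.toFinite _),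
      ← Nat.card_coe_set_eq, ← Nat.card_coe_set_eq] at h
    exact h

end Cfsg.Agent.S0238
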