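import Cfsg.Statements.S0257
import Cfsg.Agent.Lib.Classical.GL2
import Cfsg.Agent.Lib.Classical.SmallIso

set_option autoImplicit false
open Cfsg
open Matrix
open scoped MatrixGroups

namespace Cfsg.Agent.S0257

/-- A generator of order four. -/
def x3 : Matrix.SpecialLinearGroup (Fin 2) (ZMod 3) := ⟨!![0, 2; 1, 0], by decide⟩

/-- Another generator of order four. -/
def y3 : Matrix.SpecialLinearGroup (Fin 2) (ZMod 3) := ⟨!![1, 1; 1, 2], by decide⟩

/-- The quaternion group inside `SL₂(3)`, as a function. -/
def qFun : QuaternionGroup 2 → Matrix.SpecialLinearGroup (Fin 2) (ZMod 3)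
  | .a i => x3 ^ (ZMod.val i)
  | .xa i => y3 * x3 ^ (ZMod.val i)

/-- The quaternion group inside `SL₂(3)`. -/
def qHom : QuaternionGroup 2 →* Matrix.SpecialLinearGroup (Fin 2) (ZMod 3) :=
  MonoidHom.mk' qFun (by decide +kernel)

theorem qHom_injective : Function.Injective qHom := by decide +kernel

theorem qHom_conj : ∀ (i j : Fin 2) (h : i ≠ j) (c : ZMod 3) (z : QuaternionGroup 2),
    ∃ w, qFun w = Matrix.SpecialLinearGroup.transvection h c * qFun z *
      (Matrix.SpecialLinearGroup.transvection h c)⁻¹ := by decide +kernel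

theorem qHom_range_normal : qHom.range.Normal := by
  refine ⟨fun a ha g => ?_⟩
  have : Fact (Nat.Prime 3) := ⟨Nat.prime_three⟩
  have hg : g ∈ Subgroup.closure (Classical.Linear.transvectionSet (Fin 2) (ZMod 3)) := by
    rw [Classical.Linear.closure_transvectionSet]; trivial
  revert a ha
  induction hg using Subgroup.closure_induction'' with
  | mem x hx =>
    obtain ⟨i, j, h, c, rfl⟩ := hx
    rintro _ ⟨z, rfl⟩
    exact qHom_conj i j h c z
  | inv_mem x hx =>
    obtain ⟨i, j, h, c, rfl⟩ := hx
    rw [Matrix.SpecialLinearGroup.transvection_inv]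
    rintro _ ⟨z, rfl⟩
    exact qHom_conj i j h (-c) z
  | one => intro a ha; simpa using ha
  | mul x y _ _ hx hy =>
    intro a ha
    have := hx _ (hy a ha)
    simpa [mul_assoc] using this

/-- SL_2(3) has a normal subgroup of index 3 isomorphic to the quaternion group of order 8, and its centre has order 2. -/
theorem result {F : Type*} [Field F] [Fintype F] (hF : Fintype.card F = 3) : (∃ Q : Subgroup (Matrix.SpecialLinearGroup (Fin 2) F), Q.Normal ∧ Q.index = 3 ∧ Nonempty (Q ≃* QuaternionGroup 2)) ∧ Nat.card (Subgroup.center (Matrix.SpecialLinearGroup (Fin 2) F)) = 2 := by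
  have : Fact (Nat.Prime 3) := ⟨Nat.prime_three⟩
  let e : ZMod 3 ≃+* F := FiniteField.ringEquivOfCardEq (by simp [hF])
  let E : Matrix.SpecialLinearGroup (Fin 2) (ZMod 3) ≃* Matrix.SpecialLinearGroup (Fin 2) F :=
    Classical.SmallIso.slCongr e
  have hinj : Function.Injective (E.toMonoidHom.comp qHom) := E.injective.comp qHom_injective
  refine ⟨⟨(E.toMonoidHom.comp qHom).range, ?_, ?_, ⟨(MonoidHom.ofInjective hinj).symm⟩⟩, ?_⟩
  · rw [MonoidHom.range_comp]
    exact qHom_range_normal.map _ E.surjective
  · have h := (E.toMonoidHom.comp qHom).range.card_mul_index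
    rw [← Nat.card_congr (MonoidHom.ofInjective hinj).toEquiv, Nat.card_eq_fintype_card,
      QuaternionGroup.card, Classical.GL2.natCard_SL_two, hF] at h
    omega
  · rw [Classical.Linear.natCard_center_SL, hF]; decide

end Cfsg.Agent.S0257
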