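import Cfsg.Statements.S0263
import Cfsg.Agent.Lib.Classical.GL2

set_option autoImplicit false
open Cfsg

namespace Cfsg.Agent.S0263

/-- A Sylow p-subgroup of GL_n(q), p the characteristic, has order q^(n(n-1)/2). -/
theorem result {F : Type*} [Field F] [Fintype F] {q : ℕ} (hF : Fintype.card F = q) (p : ℕ) [Fact p.Prime] [CharP F p] (n : ℕ) (P : Sylow p (Matrix.GeneralLinearGroup (Fin n) F)) : Nat.card P = q ^ (n * (n - 1) / 2) := by
  subst hF
  rw [Sylow.card_eq_multiplicity, Classical.Linear.natCard_GL_fin]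
  obtain ⟨f, hp, hq⟩ := FiniteField.card F p
  have hdec : (∏ i : Fin n, (Fintype.card F ^ n - Fintype.card F ^ (i : ℕ))) =
      Fintype.card F ^ (n * (n - 1) / 2) * ∏ i : Fin n, (Fintype.card F ^ (n - (i : ℕ)) - 1) := by
    have hsum : (n * (n - 1) / 2) = ∑ i : Fin n, (i : ℕ) := by
      rw [Fin.sum_univ_eq_sum_range (fun i => i) n, Finset.sum_range_id]
    rw [hsum, ← Finset.prod_pow_eq_pow_sum, ← Finset.prod_mul_distrib]
    refine Finset.prod_congr rfl fun i _ => ?_
    rw [Nat.mul_sub, mul_one, ← pow_add, Nat.add_sub_cancel' i.2.le]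
  have hnd : ¬ p ∣ ∏ i : Fin n, (Fintype.card F ^ (n - (i : ℕ)) - 1) := by
    rw [(Nat.Prime.prime hp).dvd_finsetProd_iff]
    rintro ⟨i, -, hi⟩
    exact Classical.GL2.not_dvd_sub_one p (by omega) hi
  have h0 : (∏ i : Fin n, (Fintype.card F ^ (n - (i : ℕ)) - 1)) ≠ 0 := by
    intro h
    exact hnd (h ▸ dvd_zero p)
  have hq0 : Fintype.card F ^ (n * (n - 1) / 2) ≠ 0 := pow_ne_zero _ Fintype.card_ne_zero
  rw [hdec, Nat.factorization_mul hq0 h0, Finsupp.add_apply,
    Nat.factorization_eq_zero_of_not_dvd hnd, add_zero, hq, ← pow_mul, hp.factorization_pow,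
    Finsupp.single_eq_same]

end Cfsg.Agent.S0263
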