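import Cfsg.Statements.S0267
import Cfsg.Agent.Lib.Classical.ProjLine

set_option autoImplicit false
open Cfsg

namespace Cfsg.Agent.S0267

/-- SL_2(q) is 3-transitive on the q+1 points of the projective line if and only if q is even. -/
theorem result {F : Type*} [Field F] [Fintype F] : MulAction.IsMultiplyPretransitive (Matrix.SpecialLinearGroup (Fin 2) F) (Projectivization F (Fin 2 → F)) 3 ↔ ringChar F = 2 := by
  have key : ∀ (h : Matrix.SpecialLinearGroup (Fin 2) F) (v : Projectivization F (Fin 2 → F)),
      h • v = (Matrix.ProjGenLinGroup.mk (Matrix.SpecialLinearGroup.toGL h)) • v := by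
    intro h v
    induction v using Projectivization.ind with | _ v hv => rfl
  constructor
  · intro htrans
    by_contra h2
    obtain ⟨ν, hν⟩ := FiniteField.exists_nonsquare h2
    have hν0 : ν ≠ 0 := fun h => hν (h ▸ IsSquare.zero)
    let d : Matrix.GeneralLinearGroup (Fin 2) F :=
      Matrix.GeneralLinearGroup.mkOfDetNeZero !![ν, 0; 0, 1] (by simp [Matrix.det_fin_two, hν0])
    let x : Fin 3 ↪ Projectivization F (Fin 2 → F) :=
      ⟨Classical.ProjLine.frame, Classical.ProjLine.frame_injective⟩
    let y : Fin 3 ↪ Projectivization F (Fin 2 → F) :=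
      ⟨fun i => Matrix.ProjGenLinGroup.mk d • Classical.ProjLine.frame i,
        (MulAction.injective (Matrix.ProjGenLinGroup.mk d)).comp Classical.ProjLine.frame_injective⟩
    obtain ⟨h, hh⟩ := MulAction.exists_smul_eq (Matrix.SpecialLinearGroup (Fin 2) F) x y
    have h1 := Classical.ProjLine.eq_one_of_fix_frame
      ((Matrix.SpecialLinearGroup.toGL h)⁻¹ * d) (fun i => by
        have hi : h • Classical.ProjLine.frame i =
            Matrix.ProjGenLinGroup.mk d • Classical.ProjLine.frame (F := F) i :=
          DFunLike.congr_fun hh i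
        rw [key] at hi
        rw [map_mul, map_inv, mul_smul, inv_smul_eq_iff, hi])
    rw [Matrix.ProjGenLinGroup.mk_eq_one, Matrix.GeneralLinearGroup.center_eq_range_scalar] at h1
    obtain ⟨u, hu⟩ := h1
    have hdet := congrArg (fun z => ((Matrix.GeneralLinearGroup.det z : Fˣ) : F)) hu
    simp [d, Matrix.det_fin_two_of] at hdet
    exact hν ⟨(u : F), by rw [← hdet]; ring⟩
  · intro h2
    refine ⟨fun x y => ?_⟩
    obtain ⟨g, hg⟩ := Classical.ProjLine.exists_smul_frame (fun i => x i) x.injective
    obtain ⟨g', hg'⟩ := Classical.ProjLine.exists_smul_frame (fun i => y i) y.injective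
    obtain ⟨r, hr⟩ := FiniteField.isSquare_of_char_two h2
      (((g' * g⁻¹).det : Fˣ) : F)
    have hr0 : r ≠ 0 := by
      intro h0
      exact (g' * g⁻¹).det.ne_zero (by rw [hr, h0, mul_zero])
    set m := g' * g⁻¹ * Matrix.GeneralLinearGroup.scalar (Fin 2) (Units.mk0 r hr0)⁻¹ with hm
    have hdet : m.det = 1 := by
      apply Units.ext
      rw [hm, map_mul, Units.val_mul, hr]
      simp
      field_simp
    have hmem : m ∈ (Matrix.SpecialLinearGroup.toGL :
        Matrix.SpecialLinearGroup (Fin 2) F →* _).range := by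
      rw [Classical.Linear.range_toGL_eq_ker_det]; exact hdet
    obtain ⟨h, hh⟩ := hmem
    refine ⟨h, DFunLike.ext _ _ fun i => ?_⟩
    show h • x i = y i
    rw [key, hh, hm, map_mul, Matrix.ProjGenLinGroup.mk_scalar, mul_one, map_mul, map_inv, mul_smul,
      inv_smul_eq_iff.2 (hg i).symm, hg']

end Cfsg.Agent.S0267
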