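import Cfsg.Statements.S0269
import Cfsg.Agent.Lib.Classical.Symplectic

set_option autoImplicit false
open Cfsg

namespace Cfsg.Agent.S0269

/-- Sp_{2m}(q) is perfect except for Sp_2(2), Sp_2(3) and Sp_4(2): stated as m at least 3, or m = 2 and q at least 3, or q at least 4. -/
theorem result {F : Type*} [Field F] [Fintype F] (m : ℕ) (h : 3 ≤ m ∨ (m = 2 ∧ 3 ≤ Fintype.card F) ∨ 4 ≤ Fintype.card F) : commutator (Matrix.symplecticGroup (Fin m) F) = ⊤ := by
  have key : 3 ≤ Fintype.card F → ∃ a : F, a ≠ 0 ∧ a ≠ 1 := by
    intro h3
    by_contra hc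
    push Not at hc
    classical
    have hle : (Finset.univ : Finset F).card ≤ ({0, 1} : Finset F).card :=
      Finset.card_le_card fun x _ => by
        by_cases h0 : x = 0
        · simp [h0]
        · simp [hc x h0]
    rw [Finset.card_univ] at hle
    have := Finset.card_le_two (a := (0 : F)) (b := 1)
    omega
  refine Classical.Symplectic.commutator_eq_top ?_
  rcases h with h | ⟨h, hq⟩ | hq
  · exact Or.inl h
  · exact Or.inr (Or.inl ⟨h, key hq⟩)
  · refine Or.inr (Or.inr ?_)
    by_contra hc
    push Not at hc
    classical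
    have hle : (Finset.univ : Finset F).card ≤ ({0, 1, -1} : Finset F).card :=
      Finset.card_le_card fun x _ => by
        by_cases h0 : x = 0
        · simp [h0]
        · rcases sq_eq_one_iff.1 (hc x h0) with h | h <;> simp [h]
    rw [Finset.card_univ] at hle
    have := Finset.card_le_three (a := (0 : F)) (b := 1) (c := -1)
    omega

end Cfsg.Agent.S0269
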