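import Cfsg.Statements.S0299
import Cfsg.Agent.Lib.Classical.OrthIso
import Cfsg.Agent.Lib.Classical.SL2Rep

set_option autoImplicit false
open Cfsg

namespace Cfsg.Agent.S0299

open Matrix Cfsg.Agent.Classical Cfsg.Agent.Classical.OrthForms Cfsg.Agent.Forms.PlusStd

variable {F : Type*} [Field F]

local notation "Idx" => (Fin 2 ⊕ Fin 2)
local notation "M2" => Matrix (Fin 2) (Fin 2) F
local notation "SS" => SpecialLinearGroup (Fin 2) F × SpecialLinearGroup (Fin 2) F

/-- Vectors as matrices, the form being the determinant. -/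
def toM : (Idx → F) ≃ₗ[F] M2 where
  toFun v := !![v (.inl 0), v (.inl 1); -v (.inr 1), v (.inr 0)]
  map_add' u v := by ext i j; fin_cases i <;> fin_cases j <;> simp [add_comm]
  map_smul' c v := by ext i j; fin_cases i <;> fin_cases j <;> simp
  invFun Y := Sum.elim ![Y 0 0, Y 0 1] ![Y 1 1, -Y 1 0]
  left_inv v := by funext i; rcases i with i | i <;> fin_cases i <;> simp
  right_inv Y := by ext i j; fin_cases i <;> fin_cases j <;> simp

/-- The two sided action. -/
def two : SS →* Module.End F M2 where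
  toFun g :=
    { toFun := fun Y => (g.1 : M2) * Y * (g.2 : M2).adjugate
      map_add' := fun u v => by rw [mul_add, add_mul]
      map_smul' := fun c v => by simp }
  map_one' := LinearMap.ext fun Y => by simp
  map_mul' g h := LinearMap.ext fun Y => by
    simp [Matrix.SpecialLinearGroup.coe_mul, adjugate_mul_distrib, Matrix.mul_assoc]

theorem preserves (g : SS) (v : Idx → F) :
    plusQ F 2 (OrthIso.conjRep toM two g v) = plusQ F 2 v := by
  have hdet : ∀ w : Idx → F, plusQ F 2 w = (toM w).det := fun w => by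
    simp [plusQ_apply, Cfsg.quadFormPlus, toM, det_fin_two]
  rw [hdet, hdet, OrthIso.conjRep_apply, LinearEquiv.apply_symm_apply]
  show ((g.1 : M2) * toM v * (g.2 : M2).adjugate).det = _
  rw [det_mul, det_mul, det_adjugate, g.1.2, g.2.2]
  simp

theorem gen_prod {A B : Type*} [Group A] [Group B] {S : Set A} {T : Set B}
    (hS : Subgroup.closure S = ⊤) (hT : Subgroup.closure T = ⊤) :
    Subgroup.closure (MonoidHom.inl A B '' S ∪ MonoidHom.inr A B '' T) = ⊤ := by
  rw [eq_top_iff]
  rintro ⟨a, b⟩ -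
  have ha : MonoidHom.inl A B a ∈ Subgroup.closure (MonoidHom.inl A B '' S) := by
    rw [← MonoidHom.map_closure, hS]
    exact Subgroup.mem_map_of_mem _ (Subgroup.mem_top a)
  have hb : MonoidHom.inr A B b ∈ Subgroup.closure (MonoidHom.inr A B '' T) := by
    rw [← MonoidHom.map_closure, hT]
    exact Subgroup.mem_map_of_mem _ (Subgroup.mem_top b)
  have := mul_mem (Subgroup.closure_mono Set.subset_union_left ha)
    (show MonoidHom.inr A B b ∈ Subgroup.closure (MonoidHom.inl A B '' S ∪ MonoidHom.inr A B '' T) from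
      Subgroup.closure_mono Set.subset_union_right hb)
  simpa using this

/-- PΩ^+_4(q) is isomorphic to PSL_2(q) x PSL_2(q) for q at least 3. -/
theorem result {F : Type*} [Field F] [Fintype F] (hF : 3 ≤ Fintype.card F) : Nonempty (Cfsg.POmega F (Cfsg.quadFormPlus 2 F) ≃* Matrix.ProjectiveSpecialLinearGroup (Fin 2) F × Matrix.ProjectiveSpecialLinearGroup (Fin 2) F) := by
  rw [← plusQ_eq]
  set φ := OrthIso.repHom (plusQ F 2) (OrthIso.conjRep toM two) preserves with hφ
  have hsc : ∀ g ∈ φ.ker, g.1 = g.2 ∧ g.1 ∈ Subgroup.center (SpecialLinearGroup (Fin 2) F) := by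
    intro g hg
    rw [MonoidHom.mem_ker, hφ, OrthIso.repHom_eq_one, OrthIso.conjRep_eq_iff] at hg
    have e : ∀ Y : Matrix (Fin 2) (Fin 2) F, (g.1 : Matrix (Fin 2) (Fin 2) F) * Y =
        Y * (g.2 : Matrix (Fin 2) (Fin 2) F) := fun Y => by
      conv_rhs => rw [← hg Y]
      show _ = (g.1 : Matrix (Fin 2) (Fin 2) F) * Y * _ * _
      rw [Matrix.mul_assoc _ _ (g.2 : Matrix (Fin 2) (Fin 2) F), adjugate_mul, g.2.2, one_smul,
        Matrix.mul_one]
    have h12 : g.1 = g.2 := GL2.sl_ext (by simpa using e 1)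
    refine ⟨h12, (SL2Rep.mem_center_two _).2 ?_⟩
    rw [← h12] at e
    have a := congrFun (congrFun (e !![0, 1; 0, 0]) 0) 0
    have b := congrFun (congrFun (e !![0, 1; 0, 0]) 0) 1
    have c := congrFun (congrFun (e !![0, 0; 1, 0]) 0) 0
    simp [Matrix.mul_apply, Fin.sum_univ_two] at a b c
    exact ⟨c, a.symm, b⟩
  have hker : φ.ker ≤ Subgroup.center _ := fun g hg => by
    obtain ⟨h12, hc⟩ := hsc g hg
    rw [Subgroup.center_prod, Subgroup.mem_prod]
    exact ⟨hc, h12 ▸ hc⟩
  have hcard : Nat.card φ.ker = Nat.card {c : F // c ^ 2 = 1} := by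
    refine OrthIso.natCard_scalar_eq _ (fun g => g.1 0 0) (fun g hg h hh he => ?_)
      (fun g hg => ?_) (fun c hc => ?_)
    · obtain ⟨eg, cg⟩ := hsc g hg
      obtain ⟨eh, ch⟩ := hsc h hh
      obtain ⟨a1, a2, a3⟩ := (SL2Rep.mem_center_two _).1 cg
      obtain ⟨b1, b2, b3⟩ := (SL2Rep.mem_center_two _).1 ch
      have e1 : g.1 = h.1 := GL2.sl_ext (by
        ext i j
        fin_cases i <;> fin_cases j
        · exact he
        · exact a1.trans b1.symm
        · exact a2.trans b2.symm
        · exact a3.symm.trans (he.trans b3))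
      exact Prod.ext e1 (by rw [← eg, ← eh, e1])
    · obtain ⟨a1, a2, a3⟩ := (SL2Rep.mem_center_two _).1 (hsc g hg).2
      have hd := g.1.2
      rw [det_fin_two, a1, a2, ← a3] at hd
      linear_combination hd
    · refine ⟨(⟨c • 1, by simp [hc]⟩, ⟨c • 1, by simp [hc]⟩), ?_, ?_⟩
      · rw [MonoidHom.mem_ker, hφ, OrthIso.repHom_eq_one, OrthIso.conjRep_eq_iff]
        intro Y
        show (c • (1 : Matrix (Fin 2) (Fin 2) F)) * Y * (c • (1 : Matrix (Fin 2) (Fin 2) F)).adjugate = Y
        rw [adjugate_smul, adjugate_one]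
        simp [smul_smul, ← sq, hc]
      · show (c • (1 : Matrix (Fin 2) (Fin 2) F)) 0 0 = c
        simp
  have hq : 1 < Fintype.card F := by omega
  have hG : Nat.card (SpecialLinearGroup (Fin 2) F × SpecialLinearGroup (Fin 2) F) * 2 =
      Nat.card (Cfsg.isometryGroup F ⇑(plusQ F 2)) := by
    rw [Nat.card_prod, GL2.natCard_SL_two, natCard_O_plus (rfl : Fintype.card F = _) 1,
      Finset.prod_range_succ, Finset.prod_range_zero]
    obtain ⟨r, hr⟩ : ∃ r, Fintype.card F = r + 1 := ⟨Fintype.card F - 1, by omega⟩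
    rw [hr, show (r + 1) ^ (2 * (0 + 1)) - 1 = r * (r + 2) by
      rw [show (r + 1) ^ (2 * (0 + 1)) = r * (r + 2) + 1 by ring, Nat.add_sub_cancel]]
    simp only [Nat.add_sub_cancel]
    ring
  have hidx : (Cfsg.Omega F ⇑(plusQ F 2)).index = 2 * Nat.card φ.ker := by
    rw [OrthIso.index_omega _ (plusQ_nondeg F 2) (by simp) (Or.inl (by omega)), hcard]
  suffices h : Nonempty (Cfsg.POmega F ⇑(plusQ F 2) ≃*
      (SpecialLinearGroup (Fin 2) F × SpecialLinearGroup (Fin 2) F) ⧸
        Subgroup.center (SpecialLinearGroup (Fin 2) F × SpecialLinearGroup (Fin 2) F)) by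
    obtain ⟨e⟩ := h
    let π := MonoidHom.prodMap (QuotientGroup.mk' (Subgroup.center (SpecialLinearGroup (Fin 2) F)))
      (QuotientGroup.mk' (Subgroup.center (SpecialLinearGroup (Fin 2) F)))
    have hπ : Function.Surjective π :=
      (QuotientGroup.mk'_surjective _).prodMap (QuotientGroup.mk'_surjective _)
    have hk : π.ker = Subgroup.center _ := by
      rw [MonoidHom.ker_prodMap, QuotientGroup.ker_mk', Subgroup.center_prod]
    exact ⟨e.trans ((QuotientGroup.quotientMulEquivOfEq hk.symm).trans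
      (QuotientGroup.quotientKerEquivOfSurjective π hπ))⟩
  by_cases h2 : (2 : F) = 0
  · have h4 : 4 ≤ Fintype.card F := by
      have : CharP F 2 := CharTwo.of_one_ne_zero_of_two_eq_zero one_ne_zero h2
      have := FiniteField.even_card_of_char_two (ringChar.eq F 2)
      omega
    have hperf : commutator (SpecialLinearGroup (Fin 2) F × SpecialLinearGroup (Fin 2) F) = ⊤ := by
      rw [commutator_def, ← Subgroup.top_prod_top, Subgroup.commutator_prod_prod, ← commutator_def,
        SL2Rep.commutator_two_eq_top h4, Subgroup.top_prod_top]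
    exact OrthIso.nonempty_equiv_of_perfect _ φ hperf hker hG hidx
  · have hodd : Odd (Fintype.card F) := Nat.odd_iff.2 (FiniteField.odd_card_of_char_ne_two fun h =>
      h2 (by
        have : CharP F 2 := h ▸ ringChar.charP F
        exact CharTwo.two_eq_zero))
    refine OrthIso.nonempty_equiv_of_gen _ φ
      (S := (MonoidHom.inl _ _) '' Linear.transvectionSet (Fin 2) F ∪
        (MonoidHom.inr _ _) '' Linear.transvectionSet (Fin 2) F) ?_ ?_
      (SL2Rep.odd_ringChar hodd) ?_ hker hG hidx (by rw [hcard, OrthIso.natCard_sq_one_odd h2])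
    · exact gen_prod Linear.closure_transvectionSet Linear.closure_transvectionSet
    · rintro _ (⟨s, hs, rfl⟩ | ⟨s, hs, rfl⟩) <;>
        rw [← map_pow, SL2Rep.transvectionSet_pow s hs, map_one]
    · rw [Subgroup.center_prod, Nat.card_congr (Subgroup.prodEquiv _ _).toEquiv, Nat.card_prod,
        Linear.natCard_center_SL, Fintype.card_fin]
      obtain ⟨k, hk⟩ := hodd
      rw [hk, Nat.add_sub_cancel, Nat.gcd_mul_right_right]
      exact Nat.Coprime.mul_right (SL2Rep.odd_ringChar ⟨k, hk⟩).coprime_two_right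
        (SL2Rep.odd_ringChar ⟨k, hk⟩).coprime_two_right

end Cfsg.Agent.S0299
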