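import Cfsg.Statements.S0301
import Cfsg.Agent.Lib.Classical.OrthIso
import Cfsg.Agent.Lib.Classical.Wedge
import Cfsg.Agent.Lib.Classical.Symplectic

set_option autoImplicit false
open Cfsg

namespace Cfsg.Agent.S0301

open Matrix Cfsg.Agent.Classical Cfsg.Agent.Classical.OrthForms Cfsg.Agent.Forms.PlusStd
open Cfsg.Agent.Forms

variable {F : Type*} [Field F]

local notation "Idx" => (Unit ⊕ (Fin 2 ⊕ Fin 2))
local notation "Sp4" => Matrix.symplecticGroup (Fin 2) F

/-- The five dimensional subspace of the exterior square. -/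
def emb : (Idx → F) →ₗ[F] (Fin 6 → F) where
  toFun v := ![v (.inr (.inl 0)), v (.inl ()), v (.inr (.inl 1)), v (.inr (.inr 1)), -v (.inl ()),
    v (.inr (.inr 0))]
  map_add' u v := by funext i; fin_cases i <;> simp [add_comm]
  map_smul' c v := by funext i; fin_cases i <;> simp

/-- A left inverse of `emb`. -/
def proj : (Fin 6 → F) →ₗ[F] (Idx → F) where
  toFun x := Sum.elim (fun _ => x 1) (Sum.elim ![x 0, x 2] ![x 5, x 3])
  map_add' u v := by funext i; rcases i with i | i | i <;> fin_cases i <;> simp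
  map_smul' c v := by funext i; rcases i with i | i | i <;> fin_cases i <;> simp

theorem proj_emb (v : Idx → F) : proj (emb v) = v := by
  funext i; rcases i with i | i | i <;> fin_cases i <;> simp [proj, emb]

theorem emb_proj {x : Fin 6 → F} (h : x 1 + x 4 = 0) : emb (proj x) = x := by
  funext i; fin_cases i <;> simp [proj, emb]
  linear_combination -h

/-- The indices of `Fin 4`. -/
def idx4 : Fin 4 ≃ Fin 2 ⊕ Fin 2 where
  toFun := ![Sum.inl 0, Sum.inl 1, Sum.inr 0, Sum.inr 1]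
  invFun := Sum.elim ![0, 1] ![2, 3]
  left_inv i := by fin_cases i <;> rfl
  right_inv i := by rcases i with i | i <;> fin_cases i <;> rfl

/-- The matrix of a symplectic map on `Fin 4`. -/
def mat4 (g : Sp4) : Matrix (Fin 4) (Fin 4) F :=
  (g : Matrix (Fin 2 ⊕ Fin 2) (Fin 2 ⊕ Fin 2) F).submatrix idx4 idx4

/-- The alternating form on `Fin 4`. -/
def J4 : Matrix (Fin 4) (Fin 4) F := !![0, 0, -1, 0; 0, 0, 0, -1; 1, 0, 0, 0; 0, 1, 0, 0]

theorem mat4_mul (g h : Sp4) : mat4 (g * h) = mat4 g * mat4 h := by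
  rw [mat4, mat4, mat4, Matrix.submatrix_mul_equiv]; rfl

theorem mat4_one : mat4 (1 : Sp4) = 1 := by
  rw [mat4]; exact Matrix.submatrix_one_equiv _

theorem mat4_preserves (g : Sp4) : (mat4 g)ᵀ * J4 * mat4 g = J4 := by
  have hJ : (J4 : Matrix (Fin 4) (Fin 4) F) =
      (Matrix.J (Fin 2) F).submatrix idx4 idx4 := by
    ext i j; fin_cases i <;> fin_cases j <;> simp [J4, Matrix.J, idx4]
  rw [hJ, mat4, transpose_submatrix, submatrix_mul_equiv, submatrix_mul_equiv,
    SymplecticGroup.mem_iff'.1 g.2]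

theorem det_mat4 (g : Sp4) : (mat4 g).det = 1 := by
  rw [mat4, det_submatrix_equiv_self, SymplecticGroup.det_eq_one g.2]

theorem sum_inv (h2 : (2 : F) ≠ 0) (g : Sp4) (x : Fin 6 → F) :
    Wedge.wedge (mat4 g) x 1 + Wedge.wedge (mat4 g) x 4 = x 1 + x 4 := by
  have key : ∀ y : Fin 6 → F, (J4 * Wedge.altMat y).trace = 2 * (y 1 + y 4) := fun y => by
    simp [J4, Wedge.altMat, Matrix.trace, Matrix.mul_apply, Fin.sum_univ_four]
    ring
  refine mul_left_cancel₀ h2 ?_
  rw [← key, ← key, Wedge.altMat_wedge, ← Matrix.mul_assoc, ← Matrix.mul_assoc,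
    Matrix.trace_mul_cycle, ← Matrix.mul_assoc, mat4_preserves]

theorem wedge_emb (h2 : (2 : F) ≠ 0) (g : Sp4) (v : Idx → F) :
    emb (proj (Wedge.wedge (mat4 g) (emb v))) = Wedge.wedge (mat4 g) (emb v) :=
  emb_proj (by rw [sum_inv h2]; simp [emb])

/-- The five dimensional representation. -/
def rep5 (h2 : (2 : F) ≠ 0) : Sp4 →* Module.End F (Idx → F) where
  toFun g := proj.comp ((Wedge.wedge (mat4 g)).comp emb)
  map_one' := LinearMap.ext fun v => by
    show proj (Wedge.wedge (mat4 1) (emb v)) = v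
    rw [mat4_one, Wedge.wedge_one]
    exact proj_emb v
  map_mul' g h := LinearMap.ext fun v => by
    show proj (Wedge.wedge (mat4 (g * h)) (emb v)) =
      proj (Wedge.wedge (mat4 g) (emb (proj (Wedge.wedge (mat4 h) (emb v)))))
    rw [wedge_emb h2, mat4_mul, Wedge.wedge_mul]
    rfl

theorem preserves (h2 : (2 : F) ≠ 0) (g : Sp4) (v : Idx → F) :
    oddQ F 2 (rep5 h2 g v) = oddQ F 2 v := by
  have hpf : ∀ w : Idx → F, oddQ F 2 w = Wedge.pf (emb w) := fun w => by
    simp [oddQ_apply, plusQ_apply, Cfsg.quadFormPlus, Fin.sum_univ_two, Wedge.pf, emb]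
    ring
  rw [hpf, hpf]
  show Wedge.pf (emb (proj (Wedge.wedge (mat4 g) (emb v)))) = _
  rw [wedge_emb h2, Wedge.pf_wedge, det_mat4, one_mul]

theorem rep5_fix_iff (h2 : (2 : F) ≠ 0) (g : Sp4) :
    (∀ v, rep5 h2 g v = v) ↔ ∀ v, Wedge.wedge (mat4 g) (emb v) = emb v :=
  forall_congr' fun v => ⟨fun h => by
    have h' : emb (proj (Wedge.wedge (mat4 g) (emb v))) = emb v := congrArg emb h
    rwa [wedge_emb h2] at h', fun h => by
    show proj (Wedge.wedge (mat4 g) (emb v)) = v
    rw [h, proj_emb]⟩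

theorem mat4_tv : mat4 (SympStd.tv (Pi.single (Sum.inl 0) 1) (1 : F) : Sp4) =
    !![1, 0, 1, 0; 0, 1, 0, 0; 0, 0, 1, 0; 0, 0, 0, 1] := by
  ext i j
  fin_cases i <;> fin_cases j <;>
    simp [mat4, idx4, SympStd.tv, Cfsg.sympTransvection, Matrix.J, Matrix.vecMulVec_apply,
      Matrix.one_apply, Matrix.col]

/-- PΩ_5(q) is isomorphic to PSp_4(q) for q odd. -/
theorem result {F : Type*} [Field F] [Fintype F] (hodd : Odd (Fintype.card F)) : Nonempty (Cfsg.POmega F (Cfsg.quadFormOdd 2 F) ≃* Cfsg.PSp 2 F) := by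
  have h2 := two_ne_zero_of_odd hodd
  rw [← oddQ_eq]
  set φ := OrthIso.repHom (oddQ F 2) (rep5 h2) (preserves h2) with hφ
  have hmem : ∀ g, g ∈ φ.ker ↔ ∀ v, Wedge.wedge (mat4 g) (emb v) = emb v := fun g => by
    rw [MonoidHom.mem_ker, hφ, OrthIso.repHom_eq_one, rep5_fix_iff]
  have hne : ∃ a : F, a ≠ 0 ∧ a ≠ 1 :=
    ⟨-1, neg_ne_zero.2 one_ne_zero, fun h => h2 (by linear_combination -h)⟩
  have hperf : commutator (Matrix.symplecticGroup (Fin 2) F) = ⊤ :=
    Symplectic.commutator_eq_top (Or.inr (Or.inl ⟨rfl, hne⟩))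
  have hsimp : IsSimpleGroup (Matrix.symplecticGroup (Fin 2) F ⧸
      Subgroup.center (Matrix.symplecticGroup (Fin 2) F)) :=
    Symplectic.isSimpleGroup_PSp le_rfl fun _ => hne
  have hker : φ.ker = Subgroup.center _ := by
    refine le_antisymm (OrthIso.le_center_of_simple hperf _ fun htop => ?_) fun g hg => ?_
    · have h := congrFun ((hmem (SympStd.tv (Pi.single (Sum.inl 0) 1) 1)).1
        (htop ▸ Subgroup.mem_top _) (Pi.single (Sum.inr (Sum.inr 1)) 1)) 0
      rw [mat4_tv] at h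
      simp [Wedge.wedge, Wedge.coords, Wedge.altMat, emb, Matrix.mul_apply, Fin.sum_univ_four] at h
    · obtain ⟨a, ha⟩ := (Symplectic.mem_center_iff g).1 hg
      have hg1 : (g : Matrix (Fin 2 ⊕ Fin 2) (Fin 2 ⊕ Fin 2) F) = a • 1 :=
        Matrix.ext_iff_mulVec.2 fun v => by rw [ha, smul_mulVec, one_mulVec]
      have ha2 : a ^ 2 = 1 := by
        have h := SympStd.sympForm_mulVec g (Pi.single (Sum.inr 0) 1) (Pi.single (Sum.inl 0) 1)
        rw [ha, ha, Symplectic.f_smul_left, Symplectic.f_smul_right,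
          SympStd.sympForm_inr_inl, if_pos rfl, mul_one] at h
        rw [sq]; exact h
      refine (hmem g).2 fun v => ?_
      rw [show mat4 g = a • 1 by ext i j; simp [mat4, hg1, Matrix.one_apply],
        Wedge.wedge_smul_one, ha2, one_smul]
  refine OrthIso.nonempty_equiv_of_perfect _ φ hperf hker.le ?_ ?_
  · rw [Symplectic.natCard_sp, natCard_O_odd (rfl : Fintype.card F = _) h2]
    ring
  · have hc : Nat.card φ.ker = Nat.card {c : F // c ^ 2 = 1} := by
      rw [hker, Symplectic.natCard_center (by norm_num), OrthIso.natCard_sq_one_odd h2]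
      obtain ⟨k, hk⟩ := hodd
      rw [hk, Nat.add_sub_cancel, Nat.gcd_mul_right_right]
    rw [OrthIso.index_omega _ (oddQ_nondeg h2 2) (by simp) (Or.inr (by simp)), hc]

end Cfsg.Agent.S0301
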