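import Cfsg.Statements.S0302
import Cfsg.Agent.Lib.Classical.OrthIso
import Cfsg.Agent.Lib.Classical.Wedge
import Cfsg.Agent.Lib.Classical.GL2

set_option autoImplicit false
open Cfsg

namespace Cfsg.Agent.S0302

open Matrix Cfsg.Agent.Classical Cfsg.Agent.Classical.OrthForms Cfsg.Agent.Forms.PlusStd

variable {F : Type*} [Field F]

/-- Coordinates of the Klein correspondence. -/
def klein : (Fin 3 ⊕ Fin 3 → F) ≃ₗ[F] (Fin 6 → F) where
  toFun v := ![v (.inl 0), v (.inl 1), v (.inl 2), v (.inr 2), -v (.inr 1), v (.inr 0)]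
  map_add' u v := by funext i; fin_cases i <;> simp <;> ring
  map_smul' c v := by funext i; fin_cases i <;> simp
  invFun x := Sum.elim ![x 0, x 1, x 2] ![x 5, -x 4, x 3]
  left_inv v := by funext i; rcases i with i | i <;> fin_cases i <;> simp
  right_inv x := by funext i; fin_cases i <;> simp

/-- The action of `SL₄` on the exterior square. -/
def wedgeHom : SpecialLinearGroup (Fin 4) F →* Module.End F (Fin 6 → F) where
  toFun g := Wedge.wedge (g : Matrix (Fin 4) (Fin 4) F)
  map_one' := Wedge.wedge_one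
  map_mul' g h := Wedge.wedge_mul _ _

theorem preserves (g : SpecialLinearGroup (Fin 4) F) (v : Fin 3 ⊕ Fin 3 → F) :
    plusQ F 3 (OrthIso.conjRep klein wedgeHom g v) = plusQ F 3 v := by
  have hpf : ∀ w : Fin 3 ⊕ Fin 3 → F, plusQ F 3 w = Wedge.pf (klein w) := fun w => by
    simp [plusQ_apply, Cfsg.quadFormPlus, Fin.sum_univ_three, Wedge.pf, klein]
  rw [hpf, hpf, OrthIso.conjRep_apply, LinearEquiv.apply_symm_apply]
  exact (Wedge.pf_wedge _ _).trans (by rw [g.2, one_mul])

/-- PΩ^+_6(q) is isomorphic to PSL_4(q). -/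
theorem result {F : Type*} [Field F] [Fintype F] : Nonempty (Cfsg.POmega F (Cfsg.quadFormPlus 3 F) ≃* Matrix.ProjectiveSpecialLinearGroup (Fin 4) F) := by
  rw [← plusQ_eq]
  set φ := OrthIso.repHom (plusQ F 3) (OrthIso.conjRep klein wedgeHom) preserves with hφ
  have hmem : ∀ g, g ∈ φ.ker ↔ ∀ x, Wedge.wedge (g : Matrix (Fin 4) (Fin 4) F) x = x := fun g => by
    rw [MonoidHom.mem_ker, hφ, OrthIso.repHom_eq_one, OrthIso.conjRep_eq_iff]
    rfl
  have hperf : commutator (SpecialLinearGroup (Fin 4) F) = ⊤ :=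
    Linear.commutator_SL_eq_top (by simp)
  have hsimp : IsSimpleGroup (SpecialLinearGroup (Fin 4) F ⧸
      Subgroup.center (SpecialLinearGroup (Fin 4) F)) :=
    Linear.isSimpleGroup_PSL_fin (by norm_num) (by norm_num)
  have hker : φ.ker ≤ Subgroup.center _ := by
    refine OrthIso.le_center_of_simple hperf _ fun htop => ?_
    have h := congrFun ((hmem (SpecialLinearGroup.transvection (show (0 : Fin 4) ≠ 1 by decide) 1)).1
      (htop ▸ Subgroup.mem_top _) (Pi.single 4 1)) 2
    simp [Wedge.wedge, Wedge.coords, Wedge.altMat, SpecialLinearGroup.transvection_coe,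
      Matrix.mul_apply, Fin.sum_univ_four, Matrix.single, Matrix.one_apply] at h
  have hsc : ∀ g ∈ Subgroup.center (SpecialLinearGroup (Fin 4) F),
      (g : Matrix (Fin 4) (Fin 4) F) = (g 0 0) • 1 := fun g hg => by
    obtain ⟨r, -, hr⟩ := Matrix.SpecialLinearGroup.mem_center_iff.1 hg
    rw [← hr, smul_one_eq_diagonal]
    simp
  have hcard : Nat.card φ.ker = Nat.card {c : F // c ^ 2 = 1} := by
    refine OrthIso.natCard_scalar_eq _ (fun g => g 0 0) (fun g hg h hh he => ?_) (fun g hg => ?_)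
      (fun c hc => ?_)
    · refine GL2.sl_ext ?_
      rw [hsc g (hker hg), hsc h (hker hh), show g 0 0 = h 0 0 from he]
    · have h := congrFun ((hmem g).1 hg (Pi.single 0 1)) 0
      rw [hsc g (hker hg), Wedge.wedge_smul_one] at h
      simpa using h
    · refine ⟨⟨c • 1, ?_⟩, (hmem _).2 fun x => ?_, ?_⟩
      · rw [det_smul, det_one, mul_one, Fintype.card_fin]
        linear_combination (c ^ 2 + 1) * hc
      · exact (Wedge.wedge_smul_one c x).trans (by rw [hc, one_smul])
      · show (c • (1 : Matrix (Fin 4) (Fin 4) F)) 0 0 = c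
        simp
  refine OrthIso.nonempty_equiv_of_perfect _ φ hperf hker ?_ ?_
  · have hq : 1 < Fintype.card F := Fintype.one_lt_card
    refine Nat.eq_of_mul_eq_mul_left (show 0 < Fintype.card F - 1 by omega) ?_
    rw [← mul_assoc, Linear.mul_natCard_SL_fin (by norm_num),
      natCard_O_plus (rfl : Fintype.card F = _) 2, Fin.prod_univ_four, Finset.prod_range_succ,
      Finset.prod_range_succ, Finset.prod_range_zero]
    simp only [Fin.val_zero, Fin.val_one, Fin.val_two, show ((3 : Fin 4) : ℕ) = 3 from rfl]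
    obtain ⟨r, hr⟩ : ∃ r, Fintype.card F = r + 2 := ⟨Fintype.card F - 2, by omega⟩
    rw [hr]
    have e : ∀ n, 1 ≤ (r + 2) ^ n := fun n => Nat.one_le_pow _ _ (by omega)
    have e' : ∀ a b, a ≤ b → (r + 2) ^ a ≤ (r + 2) ^ b :=
      fun a b h => Nat.pow_le_pow_right (by omega) h
    zify [e 3, e 2, e 4, e' 0 4 (by omega), e' 1 4 (by omega), e' 2 4 (by omega),
      e' 3 4 (by omega), show 1 ≤ r + 2 by omega]
    ring
  · rw [OrthIso.index_omega _ (plusQ_nondeg F 3) (by simp) (Or.inr (by simp)), hcard]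

end Cfsg.Agent.S0302
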