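import Cfsg.Statements.S0305
import Cfsg.Agent.Lib.Classical.DihedralO2

set_option autoImplicit false
open Cfsg

namespace Cfsg.Agent.S0305

/-- GO^+_2(q) is dihedral of order 2(q-1). -/
theorem result {F : Type*} [Field F] [Fintype F] {q : ℕ} (hF : Fintype.card F = q) : Nonempty (Cfsg.isometryGroup F (Cfsg.quadFormPlus 1 F) ≃* DihedralGroup (q - 1)) := by
  subst hF
  let e : Fin 2 ≃ Fin 1 ⊕ Fin 1 := (finSumFinEquiv (m := 1) (n := 1)).symm
  let φ : Matrix.GeneralLinearGroup (Fin 2) F ≃* Matrix.GeneralLinearGroup (Fin 1 ⊕ Fin 1) F :=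
    Units.mapEquiv (Matrix.reindexAlgEquiv F F e).toMulEquiv
  have key : ∀ g : Matrix.GeneralLinearGroup (Fin 2) F, φ g ∈ isometryGroup F (quadFormPlus 1 F) ↔
      ∀ v : Fin 2 → F, ((g : Matrix (Fin 2) (Fin 2) F).mulVec v) 0 *
        ((g : Matrix (Fin 2) (Fin 2) F).mulVec v) 1 = v 0 * v 1 := by
    intro g
    have hQ : ∀ u : Fin 1 ⊕ Fin 1 → F, quadFormPlus 1 F u = u (e 0) * u (e 1) := by
      intro u
      simp [quadFormPlus, e]
      rfl
    have happ : ∀ (u : Fin 1 ⊕ Fin 1 → F) (i : Fin 2),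
        ((φ g : Matrix (Fin 1 ⊕ Fin 1) (Fin 1 ⊕ Fin 1) F).mulVec u) (e i) =
          ((g : Matrix (Fin 2) (Fin 2) F).mulVec (u ∘ e)) i := by
      intro u i
      show (((g : Matrix (Fin 2) (Fin 2) F).submatrix e.symm e.symm).mulVec u) (e i) = _
      rw [Matrix.submatrix_mulVec_equiv]
      simp
    constructor
    · intro h v
      have := h (v ∘ e.symm) 0
      change quadFormPlus 1 F ((φ g : Matrix (Fin 1 ⊕ Fin 1) (Fin 1 ⊕ Fin 1) F).mulVec _) = quadFormPlus 1 F _ at this
      rw [hQ, hQ, happ, happ] at this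
      simpa [Function.comp_assoc] using this
    · intro h u _
      show quadFormPlus 1 F ((φ g : Matrix (Fin 1 ⊕ Fin 1) (Fin 1 ⊕ Fin 1) F).mulVec u) = quadFormPlus 1 F u
      rw [hQ, hQ, happ, happ]
      exact h _
  have hT : ∀ c : Fˣ, φ (Classical.DihedralO2.diagGL c) ∈ isometryGroup F (quadFormPlus 1 F) := by
    intro c
    rw [key]
    intro v
    simp [Classical.DihedralO2.coe_diagGL, Matrix.mulVec, dotProduct, Fin.sum_univ_two]
    field_simp
  have hS : φ Classical.DihedralO2.swapMat ∈ isometryGroup F (quadFormPlus 1 F) := by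
    rw [key]
    intro v
    simp [Classical.DihedralO2.swapMat, Matrix.mulVec, dotProduct, Fin.sum_univ_two, mul_comm]
  refine Classical.DihedralO2.nonempty_dihedral Classical.Linear.natCard_units_eq
    ((φ.toMonoidHom.comp Classical.DihedralO2.diagGL).codRestrict (isometryGroup F (quadFormPlus 1 F)) hT)
    ?_ ⟨_, hS⟩ ?_ ?_ ?_ ?_
  · intro a b h
    exact Classical.Torus.diagHom_injective
      (Matrix.SpecialLinearGroup.toGL_injective (φ.injective (congrArg Subtype.val h)))
  · refine Subtype.ext ?_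
    show φ _ * φ _ = 1
    rw [← map_mul, Classical.DihedralO2.swapMat_mul_self, map_one]
  · intro c
    refine Subtype.ext ?_
    show φ _ * φ _ * (φ _)⁻¹ = φ _
    rw [← map_inv, ← map_mul, ← map_mul, Classical.DihedralO2.diagGL_conj]
  · intro c h
    have h' : Classical.DihedralO2.diagGL c = Classical.DihedralO2.swapMat :=
      φ.injective (congrArg Subtype.val h)
    have := congrArg (fun g : Matrix.GeneralLinearGroup (Fin 2) F => (g : Matrix (Fin 2) (Fin 2) F) 0 0) h'
    simp [Classical.DihedralO2.coe_diagGL, Classical.DihedralO2.swapMat] at this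
  · rintro ⟨g, hg⟩
    obtain ⟨g', rfl⟩ := φ.surjective g
    obtain ⟨c, rfl | rfl⟩ := Classical.DihedralO2.exists_of_preserves_mul g' ((key g').1 hg)
    · exact ⟨c, Or.inl (Subtype.ext rfl)⟩
    · exact ⟨c, Or.inr (Subtype.ext (map_mul φ _ _))⟩

end Cfsg.Agent.S0305
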