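import Cfsg.Statements.S0307
import Cfsg.Agent.Lib.Classical.Linear

set_option autoImplicit false
open Cfsg

namespace Cfsg.Agent.S0307

/-- PSL_n(q) is normal in PGL_n(q) with cyclic quotient of order gcd(n, q-1): the image of the natural map PSL_n → PGL_n is the kernel of a surjective homomorphism onto the cyclic group of that order. -/
theorem result {F : Type*} [Field F] [Fintype F] {q : ℕ} (hF : Fintype.card F = q) (n : ℕ) (hn : 1 ≤ n) : ∃ g : Matrix.ProjGenLinGroup (Fin n) F →* Multiplicative (ZMod (Nat.gcd n (q - 1))), Function.Surjective g ∧ g.ker = (Matrix.ProjectiveSpecialLinearGroup.toPGL : Matrix.ProjectiveSpecialLinearGroup (Fin n) F →* Matrix.ProjGenLinGroup (Fin n) F).range := by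
  subst hF
  have : Nonempty (Fin n) := ⟨⟨0, hn⟩⟩
  let P : Subgroup Fˣ := (powMonoidHom n : Fˣ →* Fˣ).range
  have hcard : Nat.card (Fˣ ⧸ P) = Nat.gcd n (Fintype.card F - 1) := by
    rw [← Subgroup.index_eq_card, IsCyclic.index_powMonoidHom_range,
      Classical.Linear.natCard_units_eq, Nat.gcd_comm]
  let e : Fˣ ⧸ P ≃* Multiplicative (ZMod (Nat.gcd n (Fintype.card F - 1))) :=
    (hcard ▸ (zmodCyclicMulEquiv (inferInstance : IsCyclic (Fˣ ⧸ P))).symm)
  let g0 : Matrix.ProjGenLinGroup (Fin n) F →* Fˣ ⧸ P :=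
    Matrix.ProjGenLinGroup.lift ((QuotientGroup.mk' P).comp Matrix.GeneralLinearGroup.det) (by
      ext u
      simp only [MonoidHom.comp_apply, MonoidHom.one_apply, QuotientGroup.mk'_apply,
        QuotientGroup.eq_one_iff]
      exact ⟨u, Units.ext (by simp)⟩)
  have hg0 : Function.Surjective g0 := by
    intro x
    obtain ⟨y, rfl⟩ := QuotientGroup.mk'_surjective P x
    obtain ⟨a, rfl⟩ := Matrix.GeneralLinearGroup.det_surjective (n := Fin n) y
    exact ⟨Matrix.ProjGenLinGroup.mk a, rfl⟩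
  refine ⟨e.toMonoidHom.comp g0, e.surjective.comp hg0, ?_⟩
  ext x
  induction x using Matrix.ProjGenLinGroup.induction_on with | mk a =>
  rw [MonoidHom.mem_ker, MonoidHom.comp_apply, MulEquiv.coe_toMonoidHom, map_eq_one_iff _ e.injective,
    Matrix.ProjGenLinGroup.lift_mk, MonoidHom.comp_apply, QuotientGroup.mk'_apply,
    QuotientGroup.eq_one_iff]
  constructor
  · rintro ⟨u, hu⟩
    have hdet : (a * (Matrix.GeneralLinearGroup.scalar (Fin n) u⁻¹)).det = 1 := by
      rw [map_mul, ← hu]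
      apply Units.ext
      simp [← mul_pow]
    have hmem : a * (Matrix.GeneralLinearGroup.scalar (Fin n) u⁻¹) ∈
        (Matrix.SpecialLinearGroup.toGL : Matrix.SpecialLinearGroup (Fin n) F →* _).range := by
      rw [Classical.Linear.range_toGL_eq_ker_det]; exact hdet
    obtain ⟨s, hs⟩ := hmem
    refine ⟨QuotientGroup.mk s, ?_⟩
    rw [Matrix.ProjectiveSpecialLinearGroup.toPGL_mk, hs, map_mul, Matrix.ProjGenLinGroup.mk_scalar,
      mul_one]
  · rintro ⟨y, hy⟩
    obtain ⟨s, rfl⟩ := QuotientGroup.mk_surjective y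
    rw [Matrix.ProjectiveSpecialLinearGroup.toPGL_mk, Matrix.ProjGenLinGroup.mk_eq_mk_iff] at hy
    obtain ⟨u, rfl⟩ := hy
    refine ⟨u, Units.ext ?_⟩
    simp

end Cfsg.Agent.S0307
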