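import Cfsg.Statements.S0316
import Cfsg.Agent.Lib.BN.Parabolic

set_option autoImplicit false
open Cfsg

namespace Cfsg.Agent.S0316

/-- The map `J ↦ P_J` is a lattice isomorphism from the power set of the set of distinguished generators onto the
subgroups containing `B`. -/
theorem result {G : Type*} [Group G] (P : Cfsg.BNPair G) :
    ∃ e : Set P.S ≃o {M : Subgroup G // P.B ≤ M},
      ∀ J : Set P.S, ((e J : {M : Subgroup G // P.B ≤ M}) : Subgroup G) = P.parabolic (Subtype.val '' J) := by
  have hsub : ∀ J : Set P.S, Subtype.val '' J ⊆ P.S := fun J => by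
    rintro _ ⟨s, -, rfl⟩; exact s.2
  let f : Set P.S → {M : Subgroup G // P.B ≤ M} := fun J =>
    ⟨P.parabolic (Subtype.val '' J), Cfsg.Agent.BN.Parabolic.B_le_parabolic _⟩
  have hf : ∀ J K, f J ≤ f K ↔ J ≤ K := fun J K =>
    (Cfsg.Agent.BN.Parabolic.parabolic_le_iff (hsub J) (hsub K)).trans
      (Set.image_subset_image_iff Subtype.val_injective)
  have hinj : Function.Injective f := fun J K h =>
    le_antisymm ((hf J K).1 h.le) ((hf K J).1 h.ge)
  have hsurj : Function.Surjective f := by
    rintro ⟨M, hM⟩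
    obtain ⟨J, hJ, rfl⟩ := Cfsg.Agent.BN.Parabolic.exists_parabolic M hM
    refine ⟨Subtype.val ⁻¹' J, Subtype.ext ?_⟩
    show P.parabolic _ = _
    rw [Set.image_preimage_eq_inter_range, Subtype.range_coe, Set.inter_eq_self_of_subset_left hJ]
  exact ⟨⟨Equiv.ofBijective f ⟨hinj, hsurj⟩, fun {a b} => hf a b⟩, fun _ => rfl⟩

end Cfsg.Agent.S0316
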