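import Cfsg.Statements.S0320
import Cfsg.Agent.Lib.BN.Parabolic
import Cfsg.Agent.Lib.BN.Matsumoto

set_option autoImplicit false
open Cfsg

namespace Cfsg.Agent.S0320

/-- The Weyl group `W = N / (B ⊓ N)` of a (B,N)-pair, with its distinguished involutions, is a Coxeter system. -/
theorem result {G : Type*} [Group G] (P : Cfsg.BNPair G)
    [hN : ((P.B ⊓ P.N).subgroupOf P.N).Normal] :
    ∃ (M : CoxeterMatrix P.S) (cs : CoxeterSystem M (P.N ⧸ (P.B ⊓ P.N).subgroupOf P.N)),
      ∀ s : P.S, cs.simple s = QuotientGroup.mk (⟨(s : G), P.subset s.2⟩ : P.N) := by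
  open Cfsg.Agent.BN.Basic in
  have hred : ∀ L : List P.S, Cfsg.Agent.BN.Matsumoto.Red (gen (P := P)) L ↔
      len (wordW L) = L.length := by
    intro L
    constructor
    · intro h
      obtain ⟨L', hl, hw⟩ := exists_reduced (wordW L)
      have h1 := h L' hw
      have h2 := len_wordW_le L
      omega
    · intro h L' hL'
      have h1 := len_wordW_le L'
      have h2 : wordW L' = wordW L := hL'
      rw [h2, h] at h1
      exact h1
  obtain ⟨M, cs, hcs⟩ := Cfsg.Agent.BN.Matsumoto.exists_coxeterSystem gen_injective gen_ne_one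
    (fun w => exists_word w) (fun s L hr hn => exchange ((hred L).1 hr) (by
      have h1 := (hred L).1 hr
      have h2 : len (gen s * wordW L) ≠ L.length + 1 := fun h =>
        hn ((hred (s :: L)).2 (by rw [wordW_cons, List.length_cons, h]))
      have h3 := len_gen_mul_le s (wordW L)
      have h4 := len_gen_mul_ne s (wordW L)
      omega)) gen_mul_self
  exact ⟨M, cs, fun s => hcs s⟩

end Cfsg.Agent.S0320
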