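import Cfsg.Statements.S0321
import Cfsg.Agent.Lib.BN.Parabolic

set_option autoImplicit false
open Cfsg

namespace Cfsg.Agent.S0321

/-- For `n ∈ N` not in `B`, the union `B ∪ B n B` is (the underlying set of) a subgroup exactly when `n` agrees
modulo `B ⊓ N` with one of the distinguished representatives; thus the distinguished involutions are
determined by `B` and `N`. -/
theorem result {G : Type*} [Group G] (P : Cfsg.BNPair G) {n : G}
    (hn : n ∈ P.N) (hnB : n ∉ P.B) :
    (∃ H : Subgroup G, (H : Set G) = (P.B : Set G) ∪ DoubleCoset.doubleCoset n (P.B : Set G) P.B) ↔ ∃ s ∈ P.S, s⁻¹ * n ∈ P.B := by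
  open Cfsg.Agent.BN.Basic in
  open Cfsg.Agent.BN.Parabolic in
  constructor
  · rintro ⟨H, hH⟩
    have hB : P.B ≤ H := fun x hx => by
      rw [← SetLike.mem_coe, hH]; exact Or.inl hx
    have hnH : n ∈ H := by
      rw [← SetLike.mem_coe, hH]; exact Or.inr (mem_dc_self n)
    obtain ⟨J, hJ, rfl⟩ := exists_parabolic H hB
    rcases J.eq_empty_or_nonempty with rfl | ⟨s, hs⟩
    · exact absurd ((sup_le le_rfl (by simp) : P.B ⊔ Subgroup.closure ∅ ≤ P.B) hnH) hnB
    · refine ⟨s, hJ hs, ?_⟩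
      have hsH : s ∈ (P.parabolic J : Set G) := mem_parabolic_of_mem hs
      rw [hH] at hsH
      rcases hsH with h | h
      · exact absurd ((mkW_eq_one_iff (P.subset (hJ hs))).2 h) (gen_ne_one ⟨s, hJ hs⟩)
      · rw [← mkW_eq_iff (P.subset (hJ hs)) hn]
        exact cell_inj (mem_cell_mkW _) (show s ∈ cell (mkW hn) from h)
  · rintro ⟨s, hs, h⟩
    refine ⟨P.parabolic {s}, ?_⟩
    rw [parabolic_singleton ⟨s, hs⟩]
    congr 1
    rw [← mkW_eq_iff (P.subset hs) hn] at h
    exact congrArg cell h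

end Cfsg.Agent.S0321
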