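import Cfsg.Statements.S0322
import Cfsg.Agent.Lib.BN.Parabolic

set_option autoImplicit false
open Cfsg

namespace Cfsg.Agent.S0322

/-- A group with a (B,N)-pair of rank one acts doubly transitively on the left cosets of `B`. -/
theorem result {G : Type*} [Group G] (P : Cfsg.BNPair G) (h : P.rank = 1) : MulAction.IsMultiplyPretransitive G (G ⧸ P.B) 2 := by
  open Cfsg.Agent.BN.Basic in
  open Cfsg.Agent.BN.Parabolic in
  obtain ⟨hsub, ⟨s₀⟩⟩ := Nat.card_eq_one_iff_unique.1 (show Nat.card P.S = 1 from h)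
  have hS : P.S = {(s₀ : G)} := by
    ext x
    simp only [Set.mem_singleton_iff]
    exact ⟨fun hx => congrArg Subtype.val (hsub.allEq ⟨x, hx⟩ s₀), fun hx => hx ▸ s₀.2⟩
  have hcov : ∀ g : G, g ∈ P.B ∨ g ∈ dc P (s₀ : G) := by
    intro g
    have hg : g ∈ (P.parabolic P.S : Set G) := by simp [parabolic_S]
    rw [hS, parabolic_singleton] at hg
    exact hg
  have hbase : ∀ x : G ⧸ P.B, x ≠ QuotientGroup.mk 1 →
      ∃ b ∈ P.B, b • (QuotientGroup.mk (s₀ : G) : G ⧸ P.B) = x := by
    intro x hx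
    induction x using QuotientGroup.induction_on with
    | H g =>
      rcases hcov g with hg | hg
      · exact absurd (QuotientGroup.eq.2 (by simpa using inv_mem hg)) hx
      · obtain ⟨b, hb, b', hb', rfl⟩ := mem_dc.1 hg
        refine ⟨b, hb, ?_⟩
        rw [MulAction.Quotient.smul_mk, smul_eq_mul]
        exact QuotientGroup.eq.2 (by simpa [mul_assoc] using hb')
  have hfix : ∀ b ∈ P.B, b • (QuotientGroup.mk 1 : G ⧸ P.B) = QuotientGroup.mk 1 := by
    intro b hb
    rw [MulAction.Quotient.smul_mk, smul_eq_mul, mul_one]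
    exact QuotientGroup.eq.2 (by simpa using inv_mem hb)
  have htwo : ∀ a b : G ⧸ P.B, a ≠ b → ∃ g : G, g • (QuotientGroup.mk 1 : G ⧸ P.B) = a ∧
      g • (QuotientGroup.mk (s₀ : G) : G ⧸ P.B) = b := by
    intro a b hab
    induction a using QuotientGroup.induction_on with
    | H g =>
      obtain ⟨c, hc, hc'⟩ := hbase (g⁻¹ • b) (by
        intro e
        apply hab
        rw [inv_smul_eq_iff] at e
        rw [e, MulAction.Quotient.smul_mk, smul_eq_mul, mul_one])
      refine ⟨g * c, ?_, ?_⟩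
      · rw [mul_smul, hfix c hc, MulAction.Quotient.smul_mk, smul_eq_mul, mul_one]
      · rw [mul_smul, hc', smul_inv_smul]
  rw [MulAction.is_two_pretransitive_iff]
  intro a b c d hab hcd
  obtain ⟨g, hg1, hg2⟩ := htwo a b hab
  obtain ⟨g', hg1', hg2'⟩ := htwo c d hcd
  exact ⟨g' * g⁻¹, by rw [← hg1, mul_smul, inv_smul_smul, hg1'],
    by rw [← hg2, mul_smul, inv_smul_smul, hg2']⟩

end Cfsg.Agent.S0322
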