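import Cfsg.Statements.S0323


set_option autoImplicit false
open scoped Pointwise
open Cfsg

namespace Cfsg.Agent.S0323

/-- A doubly transitive action on a set with at least three points yields a (B,N)-pair of rank one:
`B` is the stabiliser of a point `x`, `N` the setwise stabiliser of a pair `{x, y}`. -/
theorem result {G Ω : Type*} [Group G] [MulAction G Ω]
    (h2 : MulAction.IsMultiplyPretransitive G Ω 2) {x y z : Ω} (hxy : x ≠ y) (hyz : y ≠ z) (hxz : x ≠ z) :
    ∃ P : Cfsg.BNPair G, P.B = MulAction.stabilizer G x ∧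
      P.N = MulAction.stabilizer G ({x, y} : Set Ω) ∧ P.rank = 1 := by
  classical
  rw [MulAction.is_two_pretransitive_iff] at h2
  obtain ⟨s, hs1, hs2⟩ := h2 hxy hxy.symm
  have hmem : ∀ g : G, g ∈ MulAction.stabilizer G ({x, y} : Set Ω) ↔
      (g • x = x ∧ g • y = y) ∨ (g • x = y ∧ g • y = x) := by
    intro g
    rw [MulAction.mem_stabilizer_iff]
    simp only [Set.smul_set_insert, Set.smul_set_singleton, Set.pair_eq_pair_iff]
  have hsN : s ∈ MulAction.stabilizer G ({x, y} : Set Ω) := (hmem s).2 (Or.inr ⟨hs1, hs2⟩)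
  have hsB : s ∉ MulAction.stabilizer G x := by
    rw [MulAction.mem_stabilizer_iff, hs1]; exact hxy.symm
  have hcov : ∀ g : G, g ∈ MulAction.stabilizer G x ∨ g ∈ DoubleCoset.doubleCoset s
      (MulAction.stabilizer G x : Set G) (MulAction.stabilizer G x) := by
    intro g
    by_cases hg : g • x = x
    · exact Or.inl hg
    · obtain ⟨b, hb1, hb2⟩ := h2 hxy (Ne.symm hg)
      refine Or.inr (DoubleCoset.mem_doubleCoset.2 ⟨b, hb1, (b * s)⁻¹ * g, ?_, by group⟩)
      rw [SetLike.mem_coe, MulAction.mem_stabilizer_iff, mul_smul, inv_smul_eq_iff, mul_smul, hs1, hb2]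
  have hcases : ∀ n ∈ MulAction.stabilizer G ({x, y} : Set Ω),
      n ∈ MulAction.stabilizer G x ⊓ MulAction.stabilizer G ({x, y} : Set Ω) ∨
      s⁻¹ * n ∈ MulAction.stabilizer G x ⊓ MulAction.stabilizer G ({x, y} : Set Ω) := by
    intro n hn
    rcases (hmem n).1 hn with ⟨h1, -⟩ | ⟨h1, -⟩
    · exact Or.inl (Subgroup.mem_inf.2 ⟨h1, hn⟩)
    · refine Or.inr (Subgroup.mem_inf.2 ⟨?_, mul_mem (inv_mem hsN) hn⟩)
      rw [MulAction.mem_stabilizer_iff, mul_smul, h1, inv_smul_eq_iff, hs1]
  refine ⟨⟨MulAction.stabilizer G x, MulAction.stabilizer G ({x, y} : Set Ω), {s}, ?_, ?_,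
    by simpa using hsN, ?_, ?_, ?_, ?_, ?_⟩, rfl, rfl, ?_⟩
  · rw [eq_top_iff]
    intro g _
    rcases hcov g with hg | hg
    · exact Subgroup.mem_sup_left hg
    · obtain ⟨b, hb, b', hb', rfl⟩ := DoubleCoset.mem_doubleCoset.1 hg
      exact mul_mem (mul_mem (Subgroup.mem_sup_left hb) (Subgroup.mem_sup_right hsN))
        (Subgroup.mem_sup_left hb')
  · intro n hn t ht
    have ht1 : t • x = x := ht.1
    have ht2 : t • y = y := by
      rcases (hmem t).1 ht.2 with h | h
      · exact h.2
      · exact absurd (ht1.symm.trans h.1) hxy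
    rw [MulAction.mem_stabilizer_iff, mul_smul, mul_smul]
    rcases (hmem n).1 hn with ⟨h1, -⟩ | ⟨-, h1⟩
    · rw [inv_smul_eq_iff.2 h1.symm, ht1, h1]
    · rw [inv_smul_eq_iff.2 h1.symm, ht2, h1]
  · rintro _ rfl
    rw [MulAction.mem_stabilizer_iff, mul_smul, hs1, hs2]
  · rintro a rfl b rfl -
    rfl
  · refine le_antisymm (sup_le ((Subgroup.closure_le _).2 (by simpa using hsN)) inf_le_right) ?_
    intro n hn
    rcases hcases n hn with h | h
    · exact Subgroup.mem_sup_right h
    · have e : n = s * (s⁻¹ * n) := by group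
      rw [e]
      exact mul_mem (Subgroup.mem_sup_left (Subgroup.subset_closure rfl)) (Subgroup.mem_sup_right h)
  · intro s' hs'
    rw [Set.mem_singleton_iff.1 hs']
    intro n hn b hb
    have hdcB : ∀ u : G, u ∈ MulAction.stabilizer G x → ∀ g : G, g ∈ MulAction.stabilizer G x →
        g ∈ DoubleCoset.doubleCoset u (MulAction.stabilizer G x : Set G) (MulAction.stabilizer G x) :=
      fun u hu g hg => DoubleCoset.mem_doubleCoset.2
        ⟨g, hg, u⁻¹, inv_mem hu, by group⟩
    rcases hcases n hn with h | h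
    · left
      refine DoubleCoset.mem_doubleCoset.2 ⟨1, one_mem _, n⁻¹ * b * n, ?_, by group⟩
      exact mul_mem (mul_mem (inv_mem h.1) hb) h.1
    · have hsn : s * n ∈ MulAction.stabilizer G x := by
        have hss : s * s ∈ MulAction.stabilizer G x := by
          rw [MulAction.mem_stabilizer_iff, mul_smul, hs1, hs2]
        have := mul_mem hss h.1
        simpa [mul_assoc] using this
      rcases hcov (s * b * n) with hg | hg
      · exact Or.inl (hdcB _ hsn _ hg)
      · right
        obtain ⟨c, hc, c', hc', e⟩ := DoubleCoset.mem_doubleCoset.1 hg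
        refine DoubleCoset.mem_doubleCoset.2 ⟨c, hc, (s⁻¹ * n)⁻¹ * c', mul_mem (inv_mem h.1) hc', ?_⟩
        rw [e]; group
  · intro s' hs'
    rw [Set.mem_singleton_iff.1 hs']
    intro heq
    obtain ⟨b, hb1, hb2⟩ := h2 hxy hxz
    have : s * b * s ∈ (MulAction.stabilizer G x : Set G) := heq ▸ ⟨b, hb1, rfl⟩
    rw [SetLike.mem_coe, MulAction.mem_stabilizer_iff, mul_smul, hs1, mul_smul, hb2] at this
    exact hyz (smul_left_cancel s (hs2.trans this.symm))
  · show Nat.card ({s} : Set G) = 1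
    simp

end Cfsg.Agent.S0323
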