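import Cfsg.Statements.S0327
import Cfsg.Agent.Lib.Suzuki.Group

-- import your own Cfsg.Agent.* helpers here

set_option autoImplicit false
open Cfsg

namespace Cfsg.Agent.S0327

/-- The Suzuki group (`m ≥ 1`) is a Zassenhaus group on the `q² + 1` points of the Suzuki–Tits ovoid. -/
theorem result {F : Type*} [Field F] [Fintype F] {m : ℕ} (hm : 1 ≤ m)
    (hF : Fintype.card F = 2 ^ (2 * m + 1)) :
    Cfsg.IsZassenhausGroup (Cfsg.Sz F m) (Cfsg.suzukiOvoid F m) := by
  haveI := Cfsg.Agent.Suzuki.charTwo hF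
  haveI := Cfsg.Agent.Suzuki.faithful hm hF
  obtain ⟨s, hs⟩ := Cfsg.Agent.Suzuki.exists_unit_ne_one (F := F) hm hF
  refine ⟨inferInstance, Cfsg.Agent.Suzuki.two_transitive hF, ?_, ?_, ?_⟩
  · intro g a b c hab hbc hac ha hb hc
    obtain ⟨h, h1, h2⟩ := (MulAction.is_two_pretransitive_iff.1 (Cfsg.Agent.Suzuki.two_transitive hF))
      hab (Cfsg.Agent.Suzuki.point_ne_infty (m := m) (0 : F) 0).symm
    obtain ⟨s, hs⟩ := Cfsg.Agent.Suzuki.exists_to hm hF (g := h * g * h⁻¹)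
      (by rw [← h1, mul_smul, inv_smul_smul, mul_smul, ha]) (by rw [← h2, mul_smul, inv_smul_smul, mul_smul, hb])
    have h3 : (h * g * h⁻¹) • h • c = h • c := by rw [mul_smul, inv_smul_smul, mul_smul, hc]
    rcases Cfsg.Agent.Suzuki.cases_point (h • c) with hinf | ⟨x, y, hxy⟩
    · exact absurd (smul_left_cancel h (h1.trans hinf.symm)) hac
    rw [hs, hxy, Cfsg.Agent.Suzuki.tor_smul_point] at h3
    obtain ⟨ex, ey⟩ := Cfsg.Agent.Suzuki.point_injective h3
    have hs1 : s = 1 := by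
      by_cases hx : x = 0
      · have hy : y ≠ 0 := by
          rintro rfl
          subst hx
          exact hbc (smul_left_cancel h (h2.trans hxy.symm))
        refine Units.ext (Cfsg.Agent.Suzuki.eq_one_of_theta_mul_sq (m := m) hF ?_)
        rw [Cfsg.Agent.Suzuki.theta_def]
        exact mul_right_cancel₀ hy (ey.trans (one_mul y).symm)
      · refine Units.ext ((Cfsg.Agent.Suzuki.theta F m).injective ?_)
        rw [Units.val_one, map_one, Cfsg.Agent.Suzuki.theta_def]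
        exact mul_right_cancel₀ hx (ex.trans (one_mul x).symm)
    rw [hs1, Cfsg.Agent.Suzuki.tor_one] at hs
    exact conj_eq_one_iff.1 hs
  · exact ⟨Cfsg.Agent.Suzuki.tor hF s,
      fun e => hs (Cfsg.Agent.Suzuki.tor_injective hF (e.trans (Cfsg.Agent.Suzuki.tor_one hF).symm)),
      Cfsg.Agent.Suzuki.infty m, Cfsg.Agent.Suzuki.point m 0 0,
      (Cfsg.Agent.Suzuki.point_ne_infty _ _).symm, Cfsg.Agent.Suzuki.tor_smul_infty hF s,
      Cfsg.Agent.Suzuki.tor_smul_zero hF s⟩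
  · intro N hN hNt
    rcases (Cfsg.Agent.Suzuki.isSimple hm hF).eq_bot_or_eq_top_of_normal N hN with h | h
    · subst h
      obtain ⟨n, hn⟩ := hNt.exists_smul_eq (Cfsg.Agent.Suzuki.infty m) (Cfsg.Agent.Suzuki.point (F := F) m 0 0)
      have hn1 : (n : Cfsg.Sz F m) = 1 := Subgroup.mem_bot.1 n.2
      rw [Subgroup.smul_def, hn1, one_smul] at hn
      exact absurd hn.symm (Cfsg.Agent.Suzuki.point_ne_infty _ _)
    · subst h
      refine ⟨Cfsg.Agent.Suzuki.infty m, fun hbot => hs (Cfsg.Agent.Suzuki.tor_injective hF (m := m) ?_)⟩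
      have hm1 : (⟨Cfsg.Agent.Suzuki.tor hF s, Subgroup.mem_top _⟩ : (⊤ : Subgroup (Cfsg.Sz F m))) ∈
          MulAction.stabilizer (⊤ : Subgroup (Cfsg.Sz F m)) (Cfsg.Agent.Suzuki.infty m) :=
        Cfsg.Agent.Suzuki.tor_smul_infty hF s
      rw [hbot, Subgroup.mem_bot] at hm1
      exact (congrArg Subtype.val hm1).trans (Cfsg.Agent.Suzuki.tor_one hF).symm


end Cfsg.Agent.S0327
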