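import Cfsg.Statements.S0328
import Cfsg.Agent.Lib.Suzuki.Group

-- import your own Cfsg.Agent.* helpers here

set_option autoImplicit false
open Cfsg

namespace Cfsg.Agent.S0328

/-- The stabiliser in the Suzuki group of the two ovoid points spanned by `(1,0,0,0)` and `(0,0,0,1)` is
isomorphic to the multiplicative group of the field (cyclic of order `q - 1`). -/
theorem result {F : Type*} [Field F] [Fintype F] {m : ℕ} (hm : 1 ≤ m)
    (hF : Fintype.card F = 2 ^ (2 * m + 1)) :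
    Nonempty (↥(MulAction.stabilizer (Cfsg.Sz F m) (Cfsg.suzukiPointInfinity F) ⊓
        MulAction.stabilizer (Cfsg.Sz F m) (Cfsg.suzukiPointZero F)) ≃* Fˣ) := by
  haveI := Cfsg.Agent.Suzuki.charTwo hF
  refine ⟨(MulEquiv.ofBijective (MonoidHom.mk' (fun s : Fˣ =>
    (⟨Cfsg.Agent.Suzuki.tor hF s, ?_⟩ : ↥(MulAction.stabilizer (Cfsg.Sz F m) (Cfsg.suzukiPointInfinity F) ⊓
      MulAction.stabilizer (Cfsg.Sz F m) (Cfsg.suzukiPointZero F))))
    (fun s t => Subtype.ext (Cfsg.Agent.Suzuki.tor_mul hF s t))) ⟨?_, ?_⟩).symm⟩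
  · refine ⟨congrArg Subtype.val (Cfsg.Agent.Suzuki.tor_smul_infty hF s), ?_⟩
    have h0 : Cfsg.suzukiPointZero F = (Cfsg.Agent.Suzuki.point (F := F) m 0 0).1 := by
      simp [Cfsg.suzukiPointZero, Cfsg.Agent.Suzuki.point, Cfsg.Agent.Suzuki.vec, Cfsg.Agent.Suzuki.ovf_zero]
    show Cfsg.Agent.Suzuki.tor hF s • Cfsg.suzukiPointZero F = Cfsg.suzukiPointZero F
    rw [h0]
    exact congrArg Subtype.val (Cfsg.Agent.Suzuki.tor_smul_zero hF s)
  · exact fun s t h => Cfsg.Agent.Suzuki.tor_injective hF (congrArg Subtype.val h)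
  · rintro ⟨g, h1, h2⟩
    have h0 : Cfsg.suzukiPointZero F = (Cfsg.Agent.Suzuki.point (F := F) m 0 0).1 := by
      simp [Cfsg.suzukiPointZero, Cfsg.Agent.Suzuki.point, Cfsg.Agent.Suzuki.vec, Cfsg.Agent.Suzuki.ovf_zero]
    obtain ⟨s, hs⟩ := Cfsg.Agent.Suzuki.exists_to hm hF (g := g) (Subtype.ext h1) (Subtype.ext (by
      show g • (Cfsg.Agent.Suzuki.point (F := F) m 0 0).1 = _
      rw [← h0]; exact h2))
    exact ⟨s, Subtype.ext hs.symm⟩


end Cfsg.Agent.S0328
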