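import Cfsg.Statements.S0341
import Cfsg.Agent.Lib.Perm.Zassenhaus.Semiaffine
import Cfsg.Agent.Lib.Perm.RegularNormal
import Cfsg.Agent.Lib.Characters.Frobenius
import Cfsg.Agent.Lib.Coprime.FixedPointFree

set_option autoImplicit false
open Cfsg

namespace Cfsg.Agent.S0341

/-- If a finite group acts faithfully and doubly transitively, no non-identity element fixes three points, some
non-identity element fixes two points, and some normal subgroup acts regularly, then the number of points
is `2^p` with `p` prime. -/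
theorem result {G Ω : Type*} [Group G]
    [MulAction G Ω] [Fintype Ω] [FaithfulSMul G Ω] (h2 : MulAction.IsMultiplyPretransitive G Ω 2)
    (h3 : ∀ g : G, ∀ a b c : Ω, a ≠ b → b ≠ c → a ≠ c → g • a = a → g • b = b → g • c = c → g = 1)
    (hfix : ∃ g : G, g ≠ 1 ∧ ∃ a b : Ω, a ≠ b ∧ g • a = a ∧ g • b = b)
    (N : Subgroup G) [N.Normal] (hNt : MulAction.IsPretransitive N Ω)
    (hNr : ∀ a : Ω, MulAction.stabilizer N a = ⊥) :
    ∃ p : ℕ, p.Prime ∧ Fintype.card Ω = 2 ^ p := by
  classical
  haveI : Finite G := Finite.of_injective _ (MulAction.toPerm_injective (α := G) (β := Ω))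
  obtain ⟨g₀, hg₀1, a, b, hab, hg₀a, hg₀b⟩ := hfix
  obtain ⟨c₀, hc₀⟩ : ∃ c : Ω, g₀ • c ≠ c := by
    by_contra hne
    push Not at hne
    exact hg₀1 (eq_of_smul_eq_smul fun q : Ω => by rw [hne q, one_smul])
  have hc₀a : c₀ ≠ a := fun e => hc₀ (e ▸ hg₀a)
  have hc₀b : c₀ ≠ b := fun e => hc₀ (e ▸ hg₀b)
  have hmove : ∀ c d : Ω, c ≠ a → d ≠ a → ∃ g : MulAction.stabilizer G a, (g : G) • c = d :=
    fun c d hc hd => by
      obtain ⟨g, hga, hgc⟩ := MulAction.is_two_pretransitive_iff.1 h2 hc.symm hd.symm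
      exact ⟨⟨g, hga⟩, hgc⟩
  have hfix2 : ∀ g : G, g ≠ 1 → g • a = a → g • b = b → ∀ c : Ω, g • c = c → c = a ∨ c = b := by
    intro g hg1 hga hgb c hgc
    by_contra hne
    push Not at hne
    exact hg1 (h3 g a b c hab (Ne.symm hne.2) (Ne.symm hne.1) hga hgb hgc)
  -- an element of prime order fixing two points
  have ho1 : orderOf g₀ ≠ 1 := fun e => hg₀1 (orderOf_eq_one_iff.1 e)
  set s := (orderOf g₀).minFac with hs
  haveI : Fact s.Prime := ⟨Nat.minFac_prime ho1⟩
  set h := g₀ ^ (orderOf g₀ / s) with hh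
  have hho : orderOf h = s := orderOf_pow_orderOf_div (orderOf_pos g₀).ne' (Nat.minFac_dvd _)
  have hh1 : h ≠ 1 := fun e => (Fact.out : s.Prime).ne_one (by rw [← hho, e, orderOf_one])
  have hha : h • a = a := pow_mem (show g₀ ∈ MulAction.stabilizer G a from hg₀a) _
  have hhb : h • b = b := pow_mem (show g₀ ∈ MulAction.stabilizer G b from hg₀b) _
  have hhfix := hfix2 h hh1 hha hhb
  -- the regular normal subgroup
  have hNfree : ∀ (n : N) (c : Ω), (n : G) • c = c → n = 1 := fun n c e =>
    Subgroup.mem_bot.1 ((hNr c).le (show n ∈ MulAction.stabilizer N c from e))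
  obtain ⟨r, hr⟩ := hNt.exists_smul_eq a b
  have hr' : (r : G) • a = b := hr
  have hr1 : r ≠ 1 := fun e => hab (by rw [← hr', e, OneMemClass.coe_one, one_smul])
  haveI : Nontrivial N := nontrivial_of_ne r 1 hr1
  obtain ⟨p, hp, hpg, hNc, hexp⟩ := Perm.RegularNormal.elementaryAbelian_of_conj (N := N)
    fun n m hn hm => Perm.RegularNormal.exists_conj hNt hNr
      (fun x y hx hy => by obtain ⟨g, hg⟩ := hmove x y hx hy; exact ⟨g, g.2, hg⟩) n m hn hm
  have hrh : (r : G) = h * r * h⁻¹ := Perm.RegularNormal.eq_conj hNt hNr hha r r (by rw [hr', hhb])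
  have hrb : (r : G) • b = a := by
    have hrh' : h * r = r * h := (mul_inv_eq_iff_eq_mul.1 hrh.symm)
    have e : h • ((r : G) • b) = (r : G) • b := by rw [← mul_smul, hrh', mul_smul, hhb]
    refine (hhfix _ e).resolve_right fun e' => hr1 (hNfree r b e')
  have hr2 : r * r = 1 := hNfree _ a (by rw [Subgroup.coe_mul, mul_smul, hr', hrb])
  have hp2 : p = 2 := by
    have h1 : orderOf r ∣ p := orderOf_dvd_of_pow_eq_one (hexp r)
    rw [orderOf_eq_prime (by rw [pow_two, hr2]) hr1] at h1
    exact ((Nat.prime_dvd_prime_iff_eq Nat.prime_two hp).1 h1).symm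
  subst hp2
  haveI : Fact (Nat.Prime 2) := ⟨Nat.prime_two⟩
  obtain ⟨q, hq⟩ := IsPGroup.iff_card.1 hpg
  have hcardN : Nat.card N = Fintype.card Ω := by
    rw [← Nat.card_eq_fintype_card]
    exact Nat.card_eq_of_bijective _ (Perm.Basic.orbitMap_bijective N hNt hNr a)
  have hΩ : Fintype.card Ω = 2 ^ q := by rw [← hcardN, hq]
  have hq1 : 2 ≤ q := by
    by_contra hlt
    have h3' : ({a, b, c₀} : Finset Ω).card = 3 := Finset.card_eq_three.2
      ⟨a, b, c₀, hab, hc₀a.symm, hc₀b.symm, rfl⟩
    have h4 := h3' ▸ Finset.card_le_univ ({a, b, c₀} : Finset Ω)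
    have : 2 ^ q ≤ 2 ^ 1 := Nat.pow_le_pow_right two_pos (by omega)
    omega
  -- the kernel of the point stabiliser
  let S := MulAction.stabilizer G a
  let E : Subgroup S := (MulAction.stabilizer G b).subgroupOf S
  have hFrob : Cfsg.IsFrobeniusComplement E := by
    refine ⟨?_, ?_, ?_⟩
    · intro h0
      have hmem : (⟨h, hha⟩ : S) ∈ E := hhb
      rw [h0, Subgroup.mem_bot] at hmem
      exact hh1 (congrArg Subtype.val hmem)
    · intro h0
      obtain ⟨g, hg⟩ := hmove b c₀ hab.symm hc₀a
      have hb' : (g : G) • b = b := (h0 ▸ Subgroup.mem_top g : g ∈ E)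
      exact hc₀b (hg.symm.trans hb')
    · intro g hg
      rw [Subgroup.eq_bot_iff_forall]
      rintro y ⟨hy, hy'⟩
      replace hy' := (Characters.mem_conj_smul_iff g y).1 hy'
      have h2 : ((g : G)⁻¹ * (y : G) * (g : G)) • b = b := hy'
      rw [mul_smul, mul_smul, inv_smul_eq_iff] at h2
      by_contra hy1
      rcases hfix2 (y : G) (fun e => hy1 (Subtype.ext e)) y.2 hy _ h2 with e | e
      · exact hab (smul_left_cancel (g : G) (g.2.trans e.symm))
      · exact hg e
  obtain ⟨K₀, hKset, hKn, hKc⟩ := Characters.frobenius_kernel_theorem hFrob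
  set K := K₀.map S.subtype with hK
  have hKS : K ≤ S := Subgroup.map_subtype_le K₀
  have hKa : ∀ u ∈ K, u • a = a := fun u hu => hKS hu
  have hKconj : ∀ g : G, g • a = a → ∀ u ∈ K, g * u * g⁻¹ ∈ K := by
    rintro g hg _ ⟨u, hu, rfl⟩
    exact ⟨_, hKn.conj_mem u hu ⟨g, hg⟩, rfl⟩
  have hKfree : ∀ u ∈ K, u ≠ 1 → ∀ c : Ω, u • c = c → c = a := by
    rintro _ ⟨u, hu, rfl⟩ hu1 c hc
    by_contra hca
    obtain ⟨g, hg⟩ := hmove b c hab.symm hca
    have h0 : u ∈ (K₀ : Set S) := hu
    rw [hKset, Characters.mem_frobeniusKernel_iff] at h0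
    rcases h0 with rfl | h0
    · exact hu1 rfl
    · refine h0 g ?_
      show ((g : G)⁻¹ * (u : G) * (g : G)) • b = b
      rw [mul_smul, mul_smul, hg, inv_smul_eq_iff, hg]
      exact hc
  have hKcard : Nat.card K + 1 = 2 ^ q := by
    have h1 : E = MulAction.stabilizer S b := by ext g; exact Iff.rfl
    have h2 : MulAction.orbit S b = ({a}ᶜ : Set Ω) := by
      ext c
      refine ⟨?_, fun hc => ?_⟩
      · rintro ⟨g, rfl⟩ hc
        exact hab (smul_left_cancel (g : G) (g.2.trans hc.symm))
      · obtain ⟨g, hg⟩ := hmove b c hab.symm hc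
        exact ⟨g, hg⟩
    have h3 : Nat.card K₀ = E.index := hKc.index_eq_card.symm
    rw [hK, Subgroup.card_map_of_injective S.subtype_injective, h3, h1, MulAction.index_stabilizer,
      h2, Set.ncard_compl, Set.ncard_singleton, Nat.card_eq_fintype_card, hΩ]
    have := Nat.one_le_two_pow (n := q)
    omega
  have hKtr : ∀ y z : Ω, y ≠ a → z ≠ a → ∃ u ∈ K, u • y = z := by
    intro y z hy hz
    haveI := Fintype.ofFinite K
    let f : K → {d : Ω // d ≠ a} := fun u => ⟨(u : G) • y, fun h0 =>
      hy (smul_left_cancel (u : G) (h0.trans (hKa u u.2).symm))⟩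
    have hinj : Function.Injective f := fun u v huv => by
      by_contra hne
      refine hy (hKfree _ (K.mul_mem (K.inv_mem v.2) u.2)
        (fun e => hne (Subtype.ext (inv_mul_eq_one.1 e).symm)) y ?_)
      rw [mul_smul, inv_smul_eq_iff]
      exact congrArg Subtype.val huv
    have hbij := (Fintype.bijective_iff_injective_and_card f).2 ⟨hinj, by
      rw [← Nat.card_eq_fintype_card]
      simp only [Fintype.card_subtype_compl, Fintype.card_unique]
      omega⟩
    obtain ⟨u, hu⟩ := hbij.2 ⟨z, hz⟩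
    exact ⟨u, u.2, congrArg Subtype.val hu⟩
  -- it is commutative
  have hKN : K ≤ Subgroup.normalizer (N : Set G) := by
    rw [Subgroup.normalizer_eq_top_iff.2 (inferInstance : N.Normal)]
    exact le_top
  have hfpfN : ∀ u ∈ K, u ≠ 1 → N ⊓ Subgroup.centralizer {u} = ⊥ := by
    intro u hu hu1
    rw [Subgroup.eq_bot_iff_forall]
    rintro n ⟨hn, hnu⟩
    have e : n * u = u * n := Subgroup.mem_centralizer_singleton_iff.1 hnu
    have h1 : u • (n • a) = n • a := by rw [← mul_smul, ← e, mul_smul, hKa u hu]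
    have h2 := hNfree ⟨n, hn⟩ a (hKfree u hu hu1 _ h1)
    exact congrArg Subtype.val h2
  haveI : IsZGroup K := ⟨fun p hp P => by
    haveI := Fact.mk hp
    have hP : IsPGroup p ((P : Subgroup K).map K.subtype) := P.isPGroup'.map _
    rcases Coprime.fpf_isCyclic_or_quaternion hP ((Subgroup.map_subtype_le _).trans hKN)
      (Coprime.fpf_mono hfpfN (Subgroup.map_subtype_le _) le_rfl)
      (fun e => hr1 (Subtype.ext (Subgroup.mem_bot.1 (e.le r.2)))) with h | ⟨rfl, m, ⟨e⟩⟩
    · exact isCyclic_of_injective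
        ((P : Subgroup K).equivMapOfInjective K.subtype K.subtype_injective).toMonoidHom
        (MulEquiv.injective _)
    · exfalso
      haveI : NeZero (2 ^ m) := ⟨by positivity⟩
      have h1 : Nat.card ((P : Subgroup K).map K.subtype) ∣ Nat.card K :=
        Subgroup.card_dvd_of_le (Subgroup.map_subtype_le _)
      rw [Nat.card_congr e.toEquiv, Nat.card_eq_fintype_card, QuaternionGroup.card] at h1
      have h2 : 2 ∣ Nat.card K := (show 2 ∣ 4 * 2 ^ m from ⟨2 * 2 ^ m, by ring⟩).trans h1
      have h4 : 2 ∣ 2 ^ q := dvd_pow_self 2 (by omega)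
      omega⟩
  haveI hCyc : IsCyclic (commutator K) := IsZGroup.isCyclic_commutator K
  have hcen : commutator K ≤ Subgroup.center K := by
    obtain ⟨d₀, hd₀⟩ := hCyc.exists_generator
    let τ : K →* K := MonoidHom.mk' (fun u => ⟨h * u * h⁻¹, hKconj h hha u u.2⟩)
      fun u v => Subtype.ext (show h * ((u : G) * v) * h⁻¹ = (h * u * h⁻¹) * (h * v * h⁻¹) by group)
    have hgen : ∀ d ∈ commutator K, ∃ i : ℤ, d = (d₀ : K) ^ i := fun d hd => by
      obtain ⟨i, hi⟩ := Subgroup.mem_zpowers_iff.1 (hd₀ ⟨d, hd⟩)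
      exact ⟨i, by simpa using (congrArg Subtype.val hi).symm⟩
    have hpow : ∀ f : K →* K, f (d₀ : K) ∈ commutator K →
        ∃ j : ℤ, ∀ d ∈ commutator K, f d = d ^ j := by
      intro f hf
      obtain ⟨j, hj⟩ := hgen _ hf
      refine ⟨j, fun d hd => ?_⟩
      obtain ⟨i, rfl⟩ := hgen d hd
      rw [map_zpow, hj, ← zpow_mul, ← zpow_mul, mul_comm]
    have hτD : τ (d₀ : K) ∈ commutator K := by
      have h1 : (commutator K).map τ ≤ commutator K := by
        rw [commutator_def, Subgroup.map_commutator]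
        exact Subgroup.commutator_mono le_top le_top
      exact h1 ⟨_, d₀.2, rfl⟩
    obtain ⟨j, hj⟩ := hpow τ hτD
    have hsurj : Function.Surjective fun u : K => u⁻¹ * τ u := by
      refine Finite.injective_iff_surjective.1 fun u v e => ?_
      have e' : τ (v * u⁻¹) = v * u⁻¹ := by
        have e1 : τ u = u * (v⁻¹ * τ v) := inv_mul_eq_iff_eq_mul.1 e
        rw [map_mul, map_inv, e1]
        group
      set w := v * u⁻¹
      have ew : h * (w : G) = (w : G) * h := mul_inv_eq_iff_eq_mul.1 (congrArg Subtype.val e')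
      have h1 : h • ((w : G) • b) = (w : G) • b := by rw [← mul_smul, ew, mul_smul, hhb]
      have hw1 : w = 1 := by
        by_contra hne
        rcases hhfix _ h1 with e2 | e2
        · exact hab (smul_left_cancel (w : G) ((hKa w w.2).trans e2.symm))
        · exact hab (hKfree w w.2 (fun e3 => hne (Subtype.ext e3)) b e2).symm
      exact (mul_inv_eq_one.1 hw1).symm
    intro d hd
    rw [Subgroup.mem_center_iff]
    intro y
    obtain ⟨u, rfl⟩ := hsurj y
    obtain ⟨m, hm⟩ := hpow (MulAut.conj u).toMonoidHom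
      ((inferInstance : (commutator K).Normal).conj_mem _ d₀.2 u)
    -- both `u` and its image act as the power `m`
    obtain ⟨i, rfl⟩ := hgen d hd
    have hi : ∀ z : ℤ, τ ((d₀ : K) ^ z) = (d₀ : K) ^ (z * j) := fun z => by
      rw [hj _ ((commutator K).zpow_mem d₀.2 z), ← zpow_mul]
    have hm' : ∀ z : ℤ, u * (d₀ : K) ^ z * u⁻¹ = (d₀ : K) ^ (z * m) := fun z => by
      have := hm _ ((commutator K).zpow_mem d₀.2 z)
      rw [← zpow_mul] at this
      exact this
    obtain ⟨d', hd', hd''⟩ : ∃ d' ∈ commutator K, τ d' = (d₀ : K) ^ i := by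
      have hbij : Function.Surjective (fun x : commutator K =>
          (⟨τ x, (hj x x.2).symm ▸ (commutator K).zpow_mem x.2 j⟩ : commutator K)) := by
        refine Finite.injective_iff_surjective.1 fun x y e => Subtype.ext ?_
        have e1 : h * ((x : K) : G) * h⁻¹ = h * ((y : K) : G) * h⁻¹ :=
          congrArg Subtype.val (congrArg Subtype.val e : τ x = τ y)
        exact Subtype.ext (mul_left_cancel (mul_right_cancel e1))
      obtain ⟨x, hx⟩ := hbij ⟨_, hd⟩
      exact ⟨x, x.2, congrArg Subtype.val hx⟩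
    obtain ⟨z, rfl⟩ := hgen d' hd'
    rw [hi] at hd''
    have e2 : τ u * (d₀ : K) ^ i * (τ u)⁻¹ = u * (d₀ : K) ^ i * u⁻¹ := by
      rw [← hd'']
      conv_lhs => rw [← hi z, ← map_inv, ← map_mul, ← map_mul, hm' z, hi]
      rw [hm', mul_right_comm]
    calc u⁻¹ * τ u * (d₀ : K) ^ i
        = u⁻¹ * (τ u * (d₀ : K) ^ i * (τ u)⁻¹) * τ u := by group
      _ = u⁻¹ * (u * (d₀ : K) ^ i * u⁻¹) * τ u := by rw [e2]
      _ = (d₀ : K) ^ i * (u⁻¹ * τ u) := by group
  have hKab : ∀ u ∈ K, ∀ v ∈ K, u * v = v * u := by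
    haveI : IsCyclic (K ⧸ Subgroup.center K) := by
      haveI : IsCyclic (K ⧸ commutator K) := IsZGroup.isCyclic_abelianization
      exact isCyclic_of_surjective
        (QuotientGroup.map (commutator K) (Subgroup.center K) (MonoidHom.id K) (by simpa using hcen))
        (fun x => by
          induction x using QuotientGroup.induction_on with
          | H g => exact ⟨QuotientGroup.mk g, rfl⟩)
    letI := commGroupOfCyclicCenterQuotient (QuotientGroup.mk' (Subgroup.center K))
      (by rw [QuotientGroup.ker_mk'])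
    exact fun u hu v hv => congrArg Subtype.val (mul_comm (⟨u, hu⟩ : K) ⟨v, hv⟩)
  -- semiaffine coordinates
  have hregN : ∀ y z : Ω, ∃! n : N, (n : G) • y = z := fun y z =>
    (Perm.Basic.orbitMap_bijective N hNt hNr y).existsUnique z
  obtain ⟨e, hsemi, -⟩ := Perm.Zassenhaus.semiaffine_of_regular (p := 2) (q := q) (by omega)
    (by rw [Nat.card_eq_fintype_card, hΩ]) N
    (fun u hu v hv => congrArg Subtype.val (hNc.is_comm.comm (⟨u, hu⟩ : N) ⟨v, hv⟩))
    hregN a K hKa hKab hKconj hKtr
  obtain ⟨c, v, φ, hφ⟩ := hsemi h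
  set d := e b - e a with hd
  have hd0 : d ≠ 0 := sub_ne_zero.2 (e.injective.ne hab.symm)
  have ha' : (c : GaloisField 2 q) * φ (e a) + v = e a := by rw [← hφ, hha]
  have hb' : (c : GaloisField 2 q) * φ (e b) + v = e b := by rw [← hφ, hhb]
  have hcd : (c : GaloisField 2 q) * φ d = d := by
    rw [hd, map_sub]; linear_combination hb' - ha'
  -- in these coordinates `h` is the field automorphism
  have hconj : ∀ w, h • e.symm (e a + d * w) = e.symm (e a + d * φ w) := fun w => by
    apply e.injective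
    rw [hφ, e.apply_symm_apply, e.apply_symm_apply, map_add, map_mul]
    linear_combination ha' + φ w * hcd
  have hfixφ : ∀ w, φ w = w → w = 0 ∨ w = 1 := fun w hw => by
    have := hconj w
    rw [hw] at this
    rcases hhfix _ this with e1 | e1 <;> rw [Equiv.symm_apply_eq] at e1
    · left
      have : d * w = 0 := by linear_combination e1
      exact (mul_eq_zero.1 this).resolve_left hd0
    · right
      refine mul_left_cancel₀ hd0 ?_
      rw [mul_one]
      linear_combination e1 + hd
  have hiter : ∀ (n : ℕ) (w : GaloisField 2 q),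
      (h ^ n) • e.symm (e a + d * w) = e.symm (e a + d * (φ^[n]) w) := by
    intro n
    induction n with
    | zero => intro w; simp
    | succ n ih => intro w; rw [pow_succ, mul_smul, hconj, ih, Function.iterate_succ_apply]
  have hφs : ∀ w, (φ^[s]) w = w := fun w => by
    have := hiter s w
    rw [← hho, pow_orderOf_eq_one, one_smul, hho] at this
    exact (mul_left_cancel₀ hd0 (add_left_cancel (e.symm.injective this))).symm
  refine ⟨q, ?_, hΩ⟩
  let σ : GaloisField 2 q ≃ₐ[ZMod 2] GaloisField 2 q :=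
    AlgEquiv.ofRingEquiv (f := φ) fun x => RingHom.congr_fun
      (RingHom.ext_zmod (φ.toRingHom.comp (algebraMap (ZMod 2) (GaloisField 2 q))) _) x
  haveI : FiniteDimensional (ZMod 2) (GaloisField 2 q) := inferInstance
  have hσord : orderOf σ ∣ s := by
    refine orderOf_dvd_of_pow_eq_one (AlgEquiv.ext fun w => ?_)
    rw [AlgEquiv.one_apply]
    have key : ∀ n : ℕ, (σ ^ n) w = (φ^[n]) w := by
      intro n
      induction n with
      | zero => rfl
      | succ n ih => rw [pow_succ', AlgEquiv.mul_apply, ih, Function.iterate_succ_apply']; rfl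
    rw [key, hφs]
  have hbot : IntermediateField.fixedField (Subgroup.zpowers σ) = ⊥ := by
    rw [eq_bot_iff]
    intro w hw
    rcases hfixφ w (hw ⟨σ, Subgroup.mem_zpowers σ⟩) with rfl | rfl
    · exact zero_mem _
    · exact one_mem _
  have htop : Nat.card (Subgroup.zpowers σ) = q := by
    have h1 := IntermediateField.finrank_fixedField_eq_card (Subgroup.zpowers σ)
    rw [hbot, IntermediateField.finrank_bot', GaloisField.finrank 2 (by omega)] at h1
    exact h1.symm
  rw [Nat.card_zpowers] at htop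
  rcases (Nat.dvd_prime Fact.out).1 (htop ▸ hσord) with h1 | h1
  · omega
  · rw [h1]; exact Fact.out

end Cfsg.Agent.S0341
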