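import Cfsg.Statements.S0380
import Cfsg.Agent.Lib.Golay.Plane

set_option autoImplicit false
open Cfsg

namespace Cfsg.Agent.S0380

open Cfsg.Agent.Golay.M24 Cfsg.Agent.Golay.Plane Cfsg.Agent.Golay.Small Cfsg.Agent.Golay.Perm Cfsg.Agent.Golay.Basic

/-- A three-point stabiliser in the group of the length-24 code is isomorphic to PSL(3, F) for the field F with 4 elements. -/
theorem result (p q r : Cfsg.GolayPt) (hpq : p ≠ q) (hpr : p ≠ r) (hqr : q ≠ r) (F : Type) [Field F] [Fintype F] (hF : Fintype.card F = 4) : Nonempty (↥(MulAction.stabilizer Cfsg.M24 p ⊓ MulAction.stabilizer Cfsg.M24 q ⊓ MulAction.stabilizer Cfsg.M24 r) ≃* Matrix.ProjectiveSpecialLinearGroup (Fin 3) F) := by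
  obtain ⟨a, ha, hai⟩ := exists_to_base 3 (by norm_num) (fun i => [p, q, r].getD i none) (by
    have hnd : [p, q, r].Nodup := by simp [hpq, hpr, hqr]
    intro i hi j hj h
    simp only [Set.mem_Iio] at hi hj
    simp only [List.getD_eq_getElem _ _ (show i < [p, q, r].length from hi),
      List.getD_eq_getElem _ _ (show j < [p, q, r].length from hj)] at h
    exact hnd.getElem_inj_iff.1 h)
  have h0 : a p = pt 0 := hai 0 (by norm_num)
  have h1 : a q = pt 1 := hai 1 (by norm_num)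
  have h2 : a r = pt 2 := hai 2 (by norm_num)
  obtain ⟨ω, hω⟩ := exists_omega F hF
  obtain ⟨e⟩ := M21K_equiv hF hω
  refine ⟨(equivOfConj ha (fixers_le _ _) (fun g => ?_)).trans e.symm⟩
  have key : ∀ x, ((g : Equiv.Perm Cfsg.GolayPt) x = x ↔
      (a * (g : Equiv.Perm Cfsg.GolayPt) * a⁻¹) (a x) = a x) := fun x => by simp
  show (((g : Equiv.Perm Cfsg.GolayPt) p = p ∧ (g : Equiv.Perm Cfsg.GolayPt) q = q) ∧
      (g : Equiv.Perm Cfsg.GolayPt) r = r) ↔ _ ∈ Cfsg.M24 ∧ ∀ x ∈ [pt 0, pt 1, pt 2], _ = x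
  rw [key p, key q, key r, h0, h1, h2]
  simp only [List.mem_cons, List.not_mem_nil, or_false, forall_eq_or_imp, forall_eq]
  have : a * (g : Equiv.Perm Cfsg.GolayPt) * a⁻¹ ∈ Cfsg.M24 :=
    Cfsg.M24.mul_mem (Cfsg.M24.mul_mem ha g.2) (Cfsg.M24.inv_mem ha)
  tauto

end Cfsg.Agent.S0380
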