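import Cfsg.Statements.S0381
import Cfsg.Agent.Lib.Golay.Trans

set_option autoImplicit false
open Cfsg

namespace Cfsg.Agent.S0381

open Cfsg.Agent.Golay.Basic Cfsg.Agent.Golay.Design Cfsg.Agent.Golay.Perm Cfsg.Agent.Golay.M24 Cfsg.Agent.Golay.Trans
open scoped Pointwise

/-- The pointwise stabiliser of an octad in the group of the length-24 code has order 16 and every element of it squares to the identity. -/
theorem result (o : Finset Cfsg.GolayPt) (ho : o ∈ Cfsg.octads) : Nat.card ↥(Cfsg.M24 ⊓ fixingSubgroup (Equiv.Perm Cfsg.GolayPt) (o : Set Cfsg.GolayPt)) = 16 ∧ ∀ g ∈ Cfsg.M24 ⊓ fixingSubgroup (Equiv.Perm Cfsg.GolayPt) (o : Set Cfsg.GolayPt), g * g = 1 := by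
  obtain ⟨a, ha, hao⟩ := exists_smul_octad ho
  have key : ∀ g, g ∈ Cfsg.M24 ⊓ fixingSubgroup (Equiv.Perm Cfsg.GolayPt) (o : Set Cfsg.GolayPt) ↔
      a * g * a⁻¹ ∈ fixers Cfsg.M24 (basePre 6) := by
    intro g
    rw [Subgroup.mem_inf, mem_fixingSubgroup_iff]
    constructor
    · rintro ⟨h1, h2⟩
      refine ⟨Cfsg.M24.mul_mem (Cfsg.M24.mul_mem ha h1) (Cfsg.M24.inv_mem ha), fun x hx => ?_⟩
      have hxo : a⁻¹ x ∈ o := by
        have h3 : ∀ y ∈ basePre 6, y ∈ maskSet Cfsg.Agent.Golay.M24Data.baseOctad := by decide +kernel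
        have h4 := h3 x hx
        rw [← hao, ← (show a (a⁻¹ x) = x by simp), mem_smul_iff] at h4
        exact h4
      have h5 : g (a⁻¹ x) = a⁻¹ x := h2 _ hxo
      simp only [Equiv.Perm.mul_apply, h5]
      exact a.apply_symm_apply x
    · intro h
      refine ⟨?_, fun y hy => ?_⟩
      · simpa [mul_assoc] using Cfsg.M24.mul_mem (Cfsg.M24.mul_mem (Cfsg.M24.inv_mem ha) h.1) ha
      · have := (fix_octad_of_fixers6 h).1 (a y) (by rw [← hao]; exact (mem_smul_iff a o y).2 hy)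
        simpa using this
  refine ⟨?_, fun g hg => ?_⟩
  · rw [card_eq_of_conj a key, card_fixers_basePre 6 (by norm_num)]
    rfl
  · have := (fix_octad_of_fixers6 ((key g).1 hg)).2
    have e : a * (g * g) * a⁻¹ = 1 := by rw [← this]; group
    simpa using e

end Cfsg.Agent.S0381
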