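import Cfsg.Statements.S0383
import Cfsg.Agent.Lib.Golay.Small

set_option autoImplicit false
open scoped Pointwise
open Cfsg

namespace Cfsg.Agent.S0383

open Cfsg.Agent.Golay.Basic Cfsg.Agent.Golay.Design Cfsg.Agent.Golay.Perm Cfsg.Agent.Golay.M24 Cfsg.Agent.Golay.Trans Cfsg.Agent.Golay.Cert Cfsg.Agent.Golay.Small Cfsg.Agent.Golay.SmallData
open scoped Pointwise

/-- A dodecad stabiliser in the group of the length-24 code is simple. -/
theorem result (d : Finset Cfsg.GolayPt) (hd : d ∈ Cfsg.dodecads) : IsSimpleGroup (MulAction.stabilizer Cfsg.M24 d) := by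
  obtain ⟨b, hb, hbd⟩ := exists_smul_dodecad hd
  have had : b⁻¹ • d = d0 := by rw [← hbd, inv_smul_smul]
  exact (equivOfConj (Cfsg.M24.inv_mem hb) (H := MulAction.stabilizer Cfsg.M24 d) M12K_le
    fun g => (conj_mem_M12K (Cfsg.M24.inv_mem hb) had g).symm).isSimpleGroup_congr.2 isSimple_M12K

end Cfsg.Agent.S0383
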