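import Cfsg.Statements.S0384
import Cfsg.Agent.Lib.Golay.Small

set_option autoImplicit false
open scoped Pointwise
open Cfsg

namespace Cfsg.Agent.S0384

open Cfsg.Agent.Golay.Basic Cfsg.Agent.Golay.Design Cfsg.Agent.Golay.Perm Cfsg.Agent.Golay.M24 Cfsg.Agent.Golay.Trans Cfsg.Agent.Golay.Cert Cfsg.Agent.Golay.Small Cfsg.Agent.Golay.SmallData
open scoped Pointwise

/-- A dodecad stabiliser is sharply 5-transitive on the dodecad. -/
theorem result (d : Finset Cfsg.GolayPt) (hd : d ∈ Cfsg.dodecads) (x y : Fin 5 ↪ Cfsg.GolayPt) (hx : ∀ i, x i ∈ d) (hy : ∀ i, y i ∈ d) : ∃! g : MulAction.stabilizer Cfsg.M24 d, ∀ i, ((g : Cfsg.M24) : Equiv.Perm Cfsg.GolayPt) (x i) = y i := by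
  obtain ⟨b, hb, hbd⟩ := exists_smul_dodecad hd
  have had : b⁻¹ • d = d0 := by rw [← hbd, inv_smul_smul]
  have hb' := Cfsg.M24.inv_mem hb
  have tup : ∀ z : Fin 5 ↪ Cfsg.GolayPt, (∀ i, z i ∈ d) →
      ∃ k ∈ M12K, ∀ i : Fin 5, k (pt i.1) = b⁻¹ (z i) := by
    intro z hz
    obtain ⟨k, hk, e⟩ := M12K_exists_tuple (List.ofFn fun i => b⁻¹ (z i)) (by simp)
      (List.nodup_ofFn.2 ((b⁻¹).injective.comp z.injective)) (by
        intro t ht
        obtain ⟨i, rfl⟩ := List.mem_ofFn.1 ht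
        rw [← had]; exact (mem_smul_iff b⁻¹ d (z i)).2 (hz i))
    refine ⟨k, hk, fun i => ?_⟩
    simp [List.ofFn_succ] at e
    fin_cases i <;> simp_all
  obtain ⟨k, hk, hkx⟩ := tup x hx
  obtain ⟨l, hl, hly⟩ := tup y hy
  have hmem : b * (l * k⁻¹) * b⁻¹ ∈ Cfsg.M24 :=
    Cfsg.M24.mul_mem (Cfsg.M24.mul_mem hb (Cfsg.M24.mul_mem hl.1 (Cfsg.M24.inv_mem hk.1))) hb'
  refine ⟨⟨⟨_, hmem⟩, ?_⟩, fun i => ?_, fun g hg => Subtype.ext (Subtype.ext ?_)⟩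
  · show (b * (l * k⁻¹) * b⁻¹) • d = d
    rw [mul_smul, had, mul_smul, mul_smul, inv_smul_eq_iff.2 (mem_M12K.1 hk).2.symm,
      (mem_M12K.1 hl).2, hbd]
  · show b (l (k⁻¹ (b⁻¹ (x i)))) = y i
    rw [← hkx i, show k⁻¹ (k (pt i.1)) = pt i.1 from k.symm_apply_apply _, hly i]
    exact b.apply_symm_apply (y i)
  · set h : Equiv.Perm Cfsg.GolayPt := ((g : Cfsg.M24) : Equiv.Perm Cfsg.GolayPt) with hh
    have hgd : b⁻¹ * h * b ∈ M12K := by
      have := (conj_mem_M12K hb' had g.1).2 g.2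
      simpa using this
    have key : l⁻¹ * (b⁻¹ * h * b) * k = 1 := by
      refine five_fix_d0 (M12K.mul_mem (M12K.mul_mem (M12K.inv_mem hl) hgd) hk) fun p hp => ?_
      have hp' : ∀ p ∈ basePre 5, ∃ i : Fin 5, p = pt i.1 := by decide +kernel
      obtain ⟨i, rfl⟩ := hp' p hp
      show l⁻¹ (b⁻¹ (h (b (k (pt i.1))))) = pt i.1
      rw [hkx i, show b (b⁻¹ (x i)) = x i from b.apply_symm_apply _, hg i, ← hly i]
      exact l.symm_apply_apply _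
    show h = b * (l * k⁻¹) * b⁻¹
    calc h = b * (l * (l⁻¹ * (b⁻¹ * h * b) * k) * k⁻¹) * b⁻¹ := by group
      _ = _ := by rw [key, mul_one]

end Cfsg.Agent.S0384
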