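import Cfsg.Statements.S0386
import Cfsg.Agent.Lib.Golay.Orbit
import Cfsg.Agent.Lib.Golay.OrbitData
import Cfsg.Agent.Lib.Golay.Steiner

set_option autoImplicit false
open Cfsg

namespace Cfsg.Agent.S0386

open Cfsg.Agent.Golay.Basic Cfsg.Agent.Golay.Design Cfsg.Agent.Golay.M24 Cfsg.Agent.Golay.M24Data Cfsg.Agent.Golay.Cert Cfsg.Agent.Golay.Orbit Cfsg.Agent.Golay.OrbitData Cfsg.Agent.Golay.Trans
open scoped Pointwise
set_option maxRecDepth 10000

/-- For a fixed dodecad, 132 octads meet it in 6 points, 132 in 2 points and 495 in 4 points. -/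
theorem result (d : Finset Cfsg.GolayPt) (hd : d ∈ Cfsg.dodecads) : {o : Finset Cfsg.GolayPt | o ∈ Cfsg.octads ∧ (o ∩ d).card = 6}.ncard = 132 ∧ {o : Finset Cfsg.GolayPt | o ∈ Cfsg.octads ∧ (o ∩ d).card = 2}.ncard = 132 ∧ {o : Finset Cfsg.GolayPt | o ∈ Cfsg.octads ∧ (o ∩ d).card = 4}.ncard = 495 := by
  obtain ⟨b, hb, hbd⟩ := exists_smul_dodecad hd
  have ha : b⁻¹ ∈ Cfsg.M24 := Cfsg.M24.inv_mem hb
  have had : b⁻¹ • d = maskSet baseDodecad := by rw [← hbd, inv_smul_smul]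
  have hcount : ∀ j, {o : Finset Cfsg.GolayPt | o ∈ Cfsg.octads ∧ (o ∩ d).card = j}.ncard =
      {t : Finset Cfsg.GolayPt | t ∈ Cfsg.octads ∧ (pc (mask t &&& baseDodecad) == j) = true}.ncard :=
    fun j => ncard_transport b⁻¹ fun s => by
      rw [mem_octads_smul ha, ← inter_smul_card b⁻¹ s d, had, card_inter_eq_pc,
        mask_maskSet (by decide +kernel), beq_iff_eq]
  refine ⟨?_, ?_, ?_⟩
  · rw [hcount 6]; exact count_weight 8 _ (fun m => pc (m &&& baseDodecad) == 6) (fun _ => Iff.rfl) (by decide +kernel)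
  · rw [hcount 2]; exact count_weight 8 _ (fun m => pc (m &&& baseDodecad) == 2) (fun _ => Iff.rfl) (by decide +kernel)
  · rw [hcount 4]; exact count_weight 8 _ (fun m => pc (m &&& baseDodecad) == 4) (fun _ => Iff.rfl) (by decide +kernel)

end Cfsg.Agent.S0386
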