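import Cfsg.Statements.S0389
import Cfsg.Agent.Lib.Golay.Small

set_option autoImplicit false
open scoped Pointwise
open Cfsg

namespace Cfsg.Agent.S0389

open Cfsg.Agent.Golay.Basic Cfsg.Agent.Golay.Design Cfsg.Agent.Golay.Perm Cfsg.Agent.Golay.M24 Cfsg.Agent.Golay.Trans Cfsg.Agent.Golay.Cert Cfsg.Agent.Golay.Small Cfsg.Agent.Golay.SmallData
open scoped Pointwise

/-- The stabiliser of a dodecad and a point on it is 3-transitive on the complementary dodecad. -/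
theorem result (d : Finset Cfsg.GolayPt) (hd : d ∈ Cfsg.dodecads) (p : Cfsg.GolayPt) (hp : p ∈ d) (x y : Fin 3 ↪ Cfsg.GolayPt) (hx : ∀ i, x i ∉ d) (hy : ∀ i, y i ∉ d) : ∃ g ∈ MulAction.stabilizer Cfsg.M24 d ⊓ MulAction.stabilizer Cfsg.M24 p, ∀ i, (g : Equiv.Perm Cfsg.GolayPt) (x i) = y i := by
  obtain ⟨a, ha, had, hap⟩ := exists_conj_dodecad_point hd hp
  have hinv : ∀ g ∈ tabGroup m11Tabs, ∀ z ∈ maskSet (Cfsg.Agent.Golay.Trans.baseDodecad ^^^ 16777215),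
      g z ∈ maskSet (Cfsg.Agent.Golay.Trans.baseDodecad ^^^ 16777215) := by
    intro g hg z hz
    have e : ∀ z, z ∈ maskSet (Cfsg.Agent.Golay.Trans.baseDodecad ^^^ 16777215) ↔ z ∉ d0 := by
      decide +kernel
    rw [e] at hz ⊢
    exact M12K_maps_compl (m11_eq ▸ hg : g ∈ M11K).1 hz
  have e : ∀ z, z ∈ maskSet (Cfsg.Agent.Golay.Trans.baseDodecad ^^^ 16777215) ↔ z ∉ d0 := by
    decide +kernel
  have tup : ∀ z : Fin 3 ↪ Cfsg.GolayPt, (∀ i, z i ∉ d) → ∃ k ∈ M11K, ∀ i : Fin 3,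
      k (pt (m11Outer.getD i.1 (0, 0, [])).1) = a (z i) := by
    intro z hz
    obtain ⟨k, hk, -, hm⟩ := exists_tuple m11Tabs_ok hinv (pre := []) (L := m11Outer) (by simp)
      m11Outer_ok (by decide +kernel) (List.ofFn fun i => a (z i)) (by simp [m11Outer])
      (List.nodup_ofFn.2 (a.injective.comp z.injective)) (fun t ht => ⟨by
        obtain ⟨i, rfl⟩ := List.mem_ofFn.1 ht
        rw [e, ← had, mem_smul_iff]; exact hz i, by simp⟩)
    refine ⟨k, m11_eq ▸ hk, fun i => ?_⟩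
    simp [List.ofFn_succ, m11Outer] at hm
    fin_cases i <;> simp_all [m11Outer]
  obtain ⟨k, hk, hkx⟩ := tup x hx
  obtain ⟨l, hl, hly⟩ := tup y hy
  have hM : a⁻¹ * (l * k⁻¹) * a ∈ Cfsg.M24 := Cfsg.M24.mul_mem
    (Cfsg.M24.mul_mem (Cfsg.M24.inv_mem ha) (M11K_le (M11K.mul_mem hl (M11K.inv_mem hk)))) ha
  refine ⟨⟨_, hM⟩, (mem_M11K_conj ha had hap _).2 ?_, fun i => ?_⟩
  · simpa [mul_assoc] using M11K.mul_mem hl (M11K.inv_mem hk)
  · show a⁻¹ (l (k⁻¹ (a (x i)))) = y i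
    rw [← hkx i, show ∀ z, k⁻¹ (k z) = z from k.symm_apply_apply, hly i]
    exact a.symm_apply_apply _

end Cfsg.Agent.S0389
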