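import Cfsg.Statements.S0413
import Cfsg.Agent.Lib.Golay.Derived23
import Cfsg.Agent.Lib.Golay.Small

set_option autoImplicit false
open Cfsg

namespace Cfsg.Agent.S0413

/-- Aut of an S(4, 7, 23) is simple of order 10200960 and 4-transitive. -/
theorem result {α : Type*} [Fintype α] [DecidableEq α] (hα : Fintype.card α = 23) {B : Set (Finset α)} (hB : Cfsg.IsSteinerSystem 4 7 B) : Cfsg.IsM23 (Cfsg.setSystemAut B) ∧ MulAction.IsMultiplyPretransitive (Cfsg.setSystemAut B) α 4 := by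
  obtain ⟨Φ, -, -, -⟩ := Cfsg.Agent.Golay.Derived23.exists_autEquiv hα hB
  exact ⟨⟨Φ.isSimpleGroup_congr.2 Cfsg.Agent.Golay.Small.isSimple_M23K,
    (Nat.card_congr Φ.toEquiv).trans Cfsg.Agent.Golay.Small.card_M23K⟩,
    Cfsg.Agent.Golay.Derived23.four_pretransitive hα hB⟩

end Cfsg.Agent.S0413
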