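import Cfsg.Statements.S0417
import Cfsg.Agent.Lib.Perm.SharpHigh
-- import your own Cfsg.Agent.* helpers here

set_option autoImplicit false
open Cfsg

namespace Cfsg.Agent.S0417

/-- For k ≥ 6, sharply k-transitive groups have degree k, k+1 or k+2. -/
theorem result {α : Type*} [Fintype α] [DecidableEq α] (G : Subgroup (Equiv.Perm α)) (k : ℕ) (hk : 6 ≤ k) (hn : k ≤ Fintype.card α) [MulAction.IsMultiplyPretransitive G α k] (hsharp : ∀ x : Fin k ↪ α, MulAction.stabilizer G x = ⊥) : Fintype.card α = k ∨ Fintype.card α = k + 1 ∨ Fintype.card α = k + 2 := by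
  suffices key : ∀ (k : ℕ) {β : Type _} [Fintype β] [DecidableEq β] (H : Subgroup (Equiv.Perm β)),
      5 ≤ k → k ≤ Fintype.card β → MulAction.IsMultiplyPretransitive H β k →
      (∀ x : Fin k ↪ β, MulAction.stabilizer H x = ⊥) →
      Fintype.card β = k ∨ Fintype.card β = k + 1 ∨ Fintype.card β = k + 2 ∨
        (k = 5 ∧ Fintype.card β = 12) by
    rcases key k G (by omega) hn inferInstance hsharp with h | h | h | ⟨h, -⟩ <;> omega
  intro k
  induction k with
  | zero => intro β _ _ H h5; omega
  | succ k ih =>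
    intro β _ _ H h5 hkn hk hs
    obtain ⟨a⟩ : Nonempty β := Fintype.card_pos_iff.1 (by omega)
    haveI := hk
    obtain ⟨H', hH', hHs', hcard, -⟩ :=
      Cfsg.Agent.Perm.SharpHigh.exists_pointStabilizer (k := k) (by omega) hs a hkn
    haveI := hH'
    rcases Nat.lt_or_ge k 5 with h4 | h4
    · obtain rfl : k = 4 := by omega
      have := Cfsg.Agent.Perm.SharpHigh.degree_four hHs' (by omega)
      omega
    · rcases ih H' h4 (by omega) hH' hHs' with h | h | h | ⟨rfl, h⟩
      · omega
      · omega
      · omega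
      · have := Cfsg.Agent.Perm.SharpHigh.degree_six_ne (G := H) hs
        omega

end Cfsg.Agent.S0417
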