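import Cfsg.Statements.S0418
import Cfsg.Agent.Lib.Perm.Degree11Simple
import Cfsg.Agent.Lib.Perm.SharpHigh
-- import your own Cfsg.Agent.* helpers here

set_option autoImplicit false
open Cfsg

namespace Cfsg.Agent.S0418

/-- A sharply 4-transitive group of degree 11 is simple of order 7920. -/
theorem result {α : Type*} [Fintype α] [DecidableEq α] (hα : Fintype.card α = 11) (G : Subgroup (Equiv.Perm α)) [MulAction.IsMultiplyPretransitive G α 4] (hsharp : ∀ x : Fin 4 ↪ α, MulAction.stabilizer G x = ⊥) : Cfsg.IsM11 G := by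
  classical
  haveI : Fact (Nat.Prime 11) := ⟨by norm_num⟩
  have hcardG : Nat.card G = 7920 := by
    rw [Cfsg.Agent.Perm.SharpHigh.natCard_eq hsharp (by omega), hα]
    decide
  haveI : MulAction.IsPretransitive G α :=
    MulAction.isPretransitive_of_is_two_pretransitive
      (h2 := MulAction.isMultiplyPretransitive_of_le (n := 4) (by norm_num)
        (by rw [Nat.card_eq_fintype_card, hα]; norm_num))
  obtain ⟨e, t, -, ht⟩ := Cfsg.Agent.Perm.PrimeDegree.exists_coord (p := 11)
    (by rw [Nat.card_eq_fintype_card, hα]) G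
  let φ : Equiv.Perm α ≃* Equiv.Perm (ZMod 11) := e.symm.permCongrHom
  let K : Subgroup (Equiv.Perm (ZMod 11)) := G.map φ.toMonoidHom
  let ψ : G ≃* K := G.equivMapOfInjective φ.toMonoidHom φ.injective
  have hsh : Cfsg.Agent.Perm.Degree11.shift ∈ K := ⟨t, t.2, Equiv.ext fun z => by
    show e.symm ((t : Equiv.Perm α) (e z)) = _
    exact e.symm_apply_eq.2 (ht z)⟩
  haveI := Cfsg.Agent.Perm.Degree11.isSimpleGroup_of_card_7920 hsh
    (by rw [← Nat.card_congr ψ.toEquiv, hcardG])
  exact ⟨ψ.isSimpleGroup, hcardG⟩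

end Cfsg.Agent.S0418
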