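import Cfsg.Statements.S0419
import Cfsg.Agent.S0418
import Cfsg.Agent.Lib.Perm.SharpHigh
import Cfsg.Agent.Lib.Perm.NormalPrimitive
-- import your own Cfsg.Agent.* helpers here

set_option autoImplicit false
open Cfsg

namespace Cfsg.Agent.S0419

/-- A sharply 5-transitive group of degree 12 is simple of order 95040. -/
theorem result {α : Type*} [Fintype α] [DecidableEq α] (hα : Fintype.card α = 12) (G : Subgroup (Equiv.Perm α)) [MulAction.IsMultiplyPretransitive G α 5] (hsharp : ∀ x : Fin 5 ↪ α, MulAction.stabilizer G x = ⊥) : Cfsg.IsM12 G := by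
  classical
  have hcardG : Nat.card G = 95040 := by
    rw [Cfsg.Agent.Perm.SharpHigh.natCard_eq hsharp (by omega), hα]
    decide
  refine ⟨?_, hcardG⟩
  have h2 : MulAction.IsMultiplyPretransitive G α 2 :=
    MulAction.isMultiplyPretransitive_of_le (n := 5) (by norm_num)
      (by rw [Nat.card_eq_fintype_card, hα]; norm_num)
  haveI : Nontrivial α := Fintype.one_lt_card_iff_nontrivial.1 (by omega)
  haveI : MulAction.IsPretransitive G α := MulAction.isPretransitive_of_is_two_pretransitive
  haveI hprim : MulAction.IsPreprimitive G α := MulAction.isPreprimitive_of_is_two_pretransitive h2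
  obtain ⟨a⟩ : Nonempty α := inferInstance
  obtain ⟨H, hH, hHs, hcard, ⟨θ⟩⟩ :=
    Cfsg.Agent.Perm.SharpHigh.exists_pointStabilizer (k := 4) (by norm_num) hsharp a (by omega)
  haveI := hH
  haveI : IsSimpleGroup H := (Cfsg.Agent.S0418.result (by omega) H hHs).1
  haveI : IsSimpleGroup (MulAction.stabilizer G a) := θ.isSimpleGroup
  haveI : Nontrivial G := Finite.one_lt_card_iff_nontrivial.1 (by omega)
  refine { eq_bot_or_eq_top_of_normal := fun N hN => ?_ }
  by_cases hne : N = ⊥
  · exact Or.inl hne
  right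
  haveI := hN
  have hNt := Cfsg.Agent.Perm.NormalPrimitive.isPretransitive_of_normal
    (inferInstance : MulAction.IsQuasiPreprimitive G α) N hne
  have hnorm : (N.subgroupOf (MulAction.stabilizer G a)).Normal := hN.subgroupOf _
  rcases hnorm.eq_bot_or_eq_top with hbot | htop
  · -- a regular normal subgroup of degree twelve
    exfalso
    have hreg : ∀ x : α, MulAction.stabilizer N x = ⊥ := by
      intro x
      rw [Subgroup.eq_bot_iff_forall]
      intro n hn
      haveI := hNt
      obtain ⟨m, hm⟩ := MulAction.exists_smul_eq N x a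
      have hmem : (⟨(m : G) * n * (m : G)⁻¹, by
          rw [MulAction.mem_stabilizer_iff, ← hm]
          show ((m : G) * n * (m : G)⁻¹) • (m : G) • x = (m : G) • x
          rw [mul_smul, inv_smul_smul, mul_smul]
          exact congrArg ((m : G) • ·) hn⟩ : MulAction.stabilizer G a) ∈
          N.subgroupOf (MulAction.stabilizer G a) := N.mul_mem (N.mul_mem m.2 n.2) (N.inv_mem m.2)
      rw [hbot, Subgroup.mem_bot] at hmem
      have h1 : (m : G) * n * (m : G)⁻¹ = 1 := congrArg Subtype.val hmem
      exact Subtype.ext (by simpa using h1)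
    have hN12 : Nat.card N = 12 := by
      rw [Cfsg.Agent.Perm.Basic.card_eq_of_regular N hNt hreg a, Nat.card_eq_fintype_card, hα]
    haveI : Nontrivial N := Finite.one_lt_card_iff_nontrivial.1 (by omega)
    obtain ⟨p, hp, hpg, -, -⟩ := Cfsg.Agent.Perm.RegularNormal.elementaryAbelian_of_conj
      (fun n m hn hm => Cfsg.Agent.Perm.RegularNormal.exists_conj hNt hreg (a := a)
        (fun x y hx hy => Cfsg.Agent.Perm.Sharp.exists_fix_map h2 hx hy) n m hn hm)
    haveI : Fact p.Prime := ⟨hp⟩
    obtain ⟨j, hj⟩ := IsPGroup.iff_card.1 hpg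
    rw [hN12] at hj
    have h2p : p = 2 := ((Nat.prime_dvd_prime_iff_eq Nat.prime_two hp).1
      (Nat.prime_two.dvd_of_dvd_pow (hj ▸ (by norm_num : 2 ∣ 12)))).symm
    have h3p : p = 3 := ((Nat.prime_dvd_prime_iff_eq Nat.prime_three hp).1
      (Nat.prime_three.dvd_of_dvd_pow (hj ▸ (by norm_num : 3 ∣ 12)))).symm
    omega
  · rw [eq_top_iff]
    intro g _
    haveI := hNt
    obtain ⟨n, hn⟩ := MulAction.exists_smul_eq N (g • a) a
    have hmem : (n : G) * g ∈ N := Subgroup.subgroupOf_eq_top.1 htop
      (show (n : G) * g ∈ MulAction.stabilizer G a by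
        rw [MulAction.mem_stabilizer_iff, mul_smul]; exact hn)
    simpa using N.mul_mem (N.inv_mem n.2) hmem

end Cfsg.Agent.S0419
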