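import Cfsg.Statements.S0427
import Cfsg.Agent.Lib.Golay.HigmanSimsGraph

set_option linter.all false

set_option autoImplicit false
open Cfsg

namespace Cfsg.Agent.S0427

open Golay.HigmanSimsGraph SimpleGraph

/-- The block graph (adjacent = disjoint) of an S(3, 6, 22) is strongly regular with parameters (77, 16, 0, 4). -/
theorem result {α : Type*} [Fintype α] (hα : Fintype.card α = 22) {B : Set (Finset α)} (hB : Cfsg.IsSteinerSystem 3 6 B) [Fintype B] [DecidableRel (Cfsg.blockGraph B).Adj] : (Cfsg.blockGraph B).IsSRGWith 77 16 0 4 := by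
  classical
  have hadj : ∀ x y : B, (Cfsg.blockGraph B).Adj x y ↔ Disjoint (x : Finset α) y := fun x y => by
    simp only [Cfsg.blockGraph, fromRel_adj, disjoint_comm (a := (y : Finset α)), or_self]
    refine ⟨fun h => h.2, fun h => ⟨?_, h⟩⟩
    rintro rfl
    rw [disjoint_self, Finset.bot_eq_empty] at h
    simpa [h] using hB.1 _ x.2
  have hN : ∀ x : B, (Cfsg.blockGraph B).neighborSet x = {d : B | Disjoint (x : Finset α) d} := fun x => by
    ext d; exact hadj x d
  have hC : ∀ x y : B, Nat.card ((Cfsg.blockGraph B).commonNeighbors x y) =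
      {d : Finset α | d ∈ B ∧ Disjoint (x : Finset α) d ∧ Disjoint (y : Finset α) d}.ncard := fun x y => by
    rw [Nat.card_coe_set_eq,
      ← ncard_subtype (B := B) fun d => Disjoint (x : Finset α) d ∧ Disjoint (y : Finset α) d]
    congr 1
    ext d
    show d ∈ (Cfsg.blockGraph B).neighborSet x ∩ (Cfsg.blockGraph B).neighborSet y ↔ _
    rw [hN, hN]; rfl
  refine { card := ?_, regular := ?_, of_adj := ?_, of_not_adj := ?_ }
  · rw [Fintype.card_eq_nat_card, Nat.card_coe_set_eq, card_block_set hB hα]
  · intro x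
    rw [← card_neighborSet_eq_degree, Fintype.card_eq_nat_card, hN, Nat.card_coe_set_eq,
      ncard_subtype (B := B) fun d => Disjoint (x : Finset α) d]
    exact card_disjoint hB hα x.2
  · intro x y h
    rw [Fintype.card_eq_nat_card, hC, card_common hB hα x.2 y.2 (fun e => h.ne (Subtype.ext e)), if_pos ((hadj x y).mp h)]
  · intro x y hxy h
    rw [Fintype.card_eq_nat_card, hC, card_common hB hα x.2 y.2 (fun e => hxy (Subtype.ext e)), if_neg (mt (hadj x y).mpr h)]

end Cfsg.Agent.S0427
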