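import Cfsg.Statements.S0428
import Cfsg.Agent.Lib.Golay.HigmanSimsGraph

set_option linter.all false

set_option autoImplicit false
open Cfsg

namespace Cfsg.Agent.S0428

open Golay.HigmanSimsGraph SimpleGraph

/-- The point-block graph of an S(3, 6, 22) is strongly regular with parameters (100, 22, 0, 6). -/
theorem result {α : Type*} [Fintype α] (hα : Fintype.card α = 22) {B : Set (Finset α)} (hB : Cfsg.IsSteinerSystem 3 6 B) [Fintype B] [DecidableRel (Cfsg.pointBlockGraph B).Adj] : (Cfsg.pointBlockGraph B).IsSRGWith 100 22 0 6 := by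
  classical
  let P : α → Option (α ⊕ B) := fun a => some (Sum.inl a)
  let Q : B → Option (α ⊕ B) := fun b => some (Sum.inr b)
  have hP : Function.Injective P := fun a b h => by simpa [P] using h
  have hQ : Function.Injective Q := fun a b h => by simpa [Q] using h
  have hne : ∀ x : B, ¬ Disjoint (x : Finset α) x := fun x h => by
    rw [disjoint_self, Finset.bot_eq_empty] at h
    simpa [h] using hB.1 _ x.2
  -- neighbourhoods
  have n0 : (Cfsg.pointBlockGraph B).neighborSet none = Set.range P := by
    ext v; rcases v with _ | (a | b) <;> simp [P, Cfsg.pointBlockGraph, Cfsg.pointBlockRel]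
  have n1 : ∀ a, (Cfsg.pointBlockGraph B).neighborSet (P a) = insert none (Q '' {b : B | a ∈ (b : Finset α)}) := fun a => by
    ext v; rcases v with _ | (a' | b) <;> simp [P, Q, Cfsg.pointBlockGraph, Cfsg.pointBlockRel]
  have n2 : ∀ b : B, (Cfsg.pointBlockGraph B).neighborSet (Q b) =
      P '' ((b : Finset α) : Set α) ∪ Q '' {d : B | Disjoint (b : Finset α) d} := fun b => by
    ext v; rcases v with _ | (a | d) <;>
      simp [P, Q, Cfsg.pointBlockGraph, Cfsg.pointBlockRel, disjoint_comm]
    exact fun h => fun e => hne b (by subst e; exact h)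
  have hPQ : ∀ (S : Set α) (T : Set B), P '' S ∩ Q '' T = ∅ := fun S T => by
    refine Set.eq_empty_iff_forall_notMem.mpr ?_; rintro v ⟨⟨a, -, rfl⟩, b, -, e⟩; simp [P, Q] at e
  have hcardP : ∀ S : Set α, (P '' S).ncard = S.ncard := fun S => Set.ncard_image_of_injective S hP
  have hcardQ : ∀ (p : Finset α → Prop), (Q '' {d : B | p d}).ncard = {d : Finset α | d ∈ B ∧ p d}.ncard :=
    fun p => (Set.ncard_image_of_injective _ hQ).trans (ncard_subtype p)
  have hC : ∀ v w, Nat.card ((Cfsg.pointBlockGraph B).commonNeighbors v w) = ((Cfsg.pointBlockGraph B).neighborSet v ∩ (Cfsg.pointBlockGraph B).neighborSet w).ncard := fun v w => by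
    rw [Nat.card_coe_set_eq]; rfl
  have hsymm : ∀ v w, ((Cfsg.pointBlockGraph B).neighborSet v ∩ (Cfsg.pointBlockGraph B).neighborSet w).ncard = ((Cfsg.pointBlockGraph B).neighborSet w ∩ (Cfsg.pointBlockGraph B).neighborSet v).ncard :=
    fun v w => by rw [Set.inter_comm]
  refine { card := ?_, regular := ?_, of_adj := ?_, of_not_adj := ?_ }
  · rw [Fintype.card_option, Fintype.card_sum, hα, Fintype.card_eq_nat_card (α := B), Nat.card_coe_set_eq,
      card_block_set hB hα]
  · intro v
    rw [← card_neighborSet_eq_degree, Fintype.card_eq_nat_card, Nat.card_coe_set_eq]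
    rcases v with _ | (a | b)
    · rw [n0, Set.ncard_range_of_injective hP, Nat.card_eq_fintype_card, hα]
    · show ((Cfsg.pointBlockGraph B).neighborSet (P a)).ncard = 22
      rw [n1, Set.ncard_insert_of_notMem (by simp [Q]), hcardQ fun d => a ∈ d, card_point hB hα a]
    · show ((Cfsg.pointBlockGraph B).neighborSet (Q b)).ncard = 22
      rw [n2, Set.ncard_union_eq (Set.disjoint_iff_inter_eq_empty.mpr (hPQ _ _)), hcardP, Set.ncard_coe_finset,
        hB.1 _ b.2, hcardQ fun d => Disjoint (b : Finset α) d, card_disjoint hB hα b.2]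
  · intro v w h
    rw [Fintype.card_eq_nat_card, hC, Set.ncard_eq_zero, Set.eq_empty_iff_forall_notMem]
    rintro x ⟨h1, h2⟩
    rw [mem_neighborSet] at h1 h2
    have key : ∀ {u v w}, (Cfsg.pointBlockGraph B).Adj u v → (Cfsg.pointBlockGraph B).Adj u w → (Cfsg.pointBlockGraph B).Adj v w → False := by
      have hA : ∀ {u v}, (Cfsg.pointBlockGraph B).Adj u v → v ∈ (Cfsg.pointBlockGraph B).neighborSet u := fun h => h
      intro u v w huv huw hvw
      rcases u with _ | (a | b)
      · have h1 := hA huv; have h2 := hA huw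
        rw [n0] at h1 h2
        obtain ⟨a, rfl⟩ := h1; obtain ⟨a', rfl⟩ := h2
        have h3 := hA hvw
        rw [n1] at h3
        simp [P, Q] at h3
      · have h1 := hA huv; have h2 := hA huw
        change _ ∈ (Cfsg.pointBlockGraph B).neighborSet (P a) at h1 h2
        rw [n1] at h1 h2
        rcases h1 with rfl | ⟨b, hb, rfl⟩ <;> rcases h2 with rfl | ⟨b', hb', rfl⟩
        · exact hvw.ne rfl
        · have h3 := hA hvw
          rw [n0] at h3; simp [P, Q] at h3
        · have h3 := hA hvw.symm
          rw [n0] at h3; simp [P, Q] at h3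
        · have h3 := hA hvw
          rw [n2] at h3
          simp [P, Q] at h3
          exact Finset.disjoint_left.mp h3 hb hb'
      · have h1 := hA huv; have h2 := hA huw
        change _ ∈ (Cfsg.pointBlockGraph B).neighborSet (Q b) at h1 h2
        rw [n2] at h1 h2
        rcases h1 with ⟨a, ha, rfl⟩ | ⟨c, hc, rfl⟩ <;> rcases h2 with ⟨a', ha', rfl⟩ | ⟨c', hc', rfl⟩
        · have h3 := hA hvw
          rw [n1] at h3; simp [P, Q] at h3
        · have h3 := hA hvw
          rw [n1] at h3; simp [P, Q] at h3
          exact Finset.disjoint_left.mp hc' ha h3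
        · have h3 := hA hvw.symm
          rw [n1] at h3; simp [P, Q] at h3
          exact Finset.disjoint_left.mp hc ha' h3
        · have h3 := hA hvw
          rw [n2] at h3
          simp [P, Q] at h3
          have hcc : c ≠ c' := fun e => hvw.ne (by rw [e])
          have h0 := card_common hB hα b.2 c.2 (fun e => hne b (by
            have hc'' : Disjoint (b : Finset α) c := hc
            rwa [← e] at hc''))
          rw [if_pos (show Disjoint (b : Finset α) c from hc), Set.ncard_eq_zero, Set.eq_empty_iff_forall_notMem] at h0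
          exact h0 c' ⟨c'.2, hc', h3⟩
    exact key h1 h h2.symm
  · intro v w hvw h
    rw [Fintype.card_eq_nat_card, hC]
    have hmix : ∀ (a : α) (b : B), a ∉ (b : Finset α) → ((Cfsg.pointBlockGraph B).neighborSet (P a) ∩ (Cfsg.pointBlockGraph B).neighborSet (Q b)).ncard = 6 := by
      intro a b hab
      rw [n1, n2, Set.inter_union_distrib_left, Set.insert_inter_of_notMem (by simp [P]),
        Set.insert_inter_of_notMem (by simp [Q]), Set.inter_comm, hPQ, Set.empty_union, ← Set.image_inter hQ]
      exact (hcardQ fun d => a ∈ d ∧ Disjoint (b : Finset α) d).trans (card_point_disjoint hB hα b.2 hab)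
    rcases v with _ | (a | b) <;> rcases w with _ | (a' | b')
    · exact absurd rfl hvw
    · exact absurd (by simp [Cfsg.pointBlockGraph, Cfsg.pointBlockRel]) h
    · show ((Cfsg.pointBlockGraph B).neighborSet none ∩ (Cfsg.pointBlockGraph B).neighborSet (Q b')).ncard = 6
      rw [n0, n2, Set.inter_union_distrib_left, ← Set.image_univ, hPQ, Set.union_empty,
        ← Set.image_inter hP, Set.univ_inter, hcardP, Set.ncard_coe_finset, hB.1 _ b'.2]
    · exact absurd (by simp [Cfsg.pointBlockGraph, Cfsg.pointBlockRel]) h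
    · show ((Cfsg.pointBlockGraph B).neighborSet (P a) ∩ (Cfsg.pointBlockGraph B).neighborSet (P a')).ncard = 6
      rw [n1, n1, ← Set.insert_inter_distrib, ← Set.image_inter hQ, Set.ncard_insert_of_notMem (by simp [Q])]
      have e : {b : B | a ∈ (b : Finset α)} ∩ {b : B | a' ∈ (b : Finset α)} = {b : B | a ∈ (b : Finset α) ∧ a' ∈ (b : Finset α)} := rfl
      rw [e, hcardQ fun d => a ∈ d ∧ a' ∈ d, card_two_points hB hα (fun e => hvw (by rw [e]))]
    · exact hmix a b' fun hab => h (by simp [Cfsg.pointBlockGraph, Cfsg.pointBlockRel, hab])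
    · show ((Cfsg.pointBlockGraph B).neighborSet (Q b) ∩ (Cfsg.pointBlockGraph B).neighborSet none).ncard = 6
      rw [n0, n2, Set.union_inter_distrib_right, ← Set.image_univ, Set.inter_comm (Q '' _), hPQ, Set.union_empty,
        ← Set.image_inter hP, Set.inter_univ, hcardP, Set.ncard_coe_finset, hB.1 _ b.2]
    · rw [hsymm]
      exact hmix a' b fun hab => h (by simp [Cfsg.pointBlockGraph, Cfsg.pointBlockRel, hab])
    · show ((Cfsg.pointBlockGraph B).neighborSet (Q b) ∩ (Cfsg.pointBlockGraph B).neighborSet (Q b')).ncard = 6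
      have hbb : (b : Finset α) ≠ b' := fun e => hvw (by rw [Subtype.ext e])
      have hnd : ¬ Disjoint (b : Finset α) b' := fun hd => h (by
        simp [Cfsg.pointBlockGraph, Cfsg.pointBlockRel, hd]; exact fun e => hbb (by rw [e]))
      rw [n2, n2, Set.union_inter_distrib_right, Set.inter_union_distrib_left, Set.inter_union_distrib_left, hPQ,
        Set.inter_comm (Q '' _) (P '' _), hPQ, Set.union_empty, Set.empty_union,
        Set.ncard_union_eq (Set.disjoint_iff_inter_eq_empty.mpr (by rw [← Set.image_inter hP, ← Set.image_inter hQ, hPQ])),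
        ← Set.image_inter hP, ← Set.image_inter hQ, hcardP, ← Finset.coe_inter, Set.ncard_coe_finset]
      have e : {d : B | Disjoint (b : Finset α) d} ∩ {d : B | Disjoint (b' : Finset α) d} = {d : B | Disjoint (b : Finset α) d ∧ Disjoint (b' : Finset α) d} := rfl
      rw [e, hcardQ fun d => Disjoint (b : Finset α) d ∧ Disjoint (b' : Finset α) d, card_common hB hα b.2 b'.2 hbb, if_neg hnd]
      have := (inter_cases hB hα b.2 b'.2 hbb).resolve_left (fun h0 => hnd (Finset.disjoint_iff_inter_eq_empty.mpr (Finset.card_eq_zero.mp h0)))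
      omega

end Cfsg.Agent.S0428
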