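import Cfsg.Statements.S0429
import Cfsg.Agent.Lib.Perm.SRG77.Extend
-- import your own Cfsg.Agent.* helpers here

set_option autoImplicit false
open Cfsg

namespace Cfsg.Agent.S0429

open Cfsg.Agent.LeechAut

theorem exists_inner {V : Type*} [Fintype V] {G : SimpleGraph V} [DecidableRel G.Adj]
    (hG : G.IsSRGWith 77 16 0 4) :
    Nonempty (G ≃g HSGraph.graph.induce {v | v ≠ HS.y0 ∧ ¬ HSGraph.graph.Adj HS.y0 v}) := by
  classical
  obtain ⟨e⟩ := HSUnique.exists_iso_graph (Perm.SRG77.isSRG_bigGraph hG)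
  obtain ⟨g, hg⟩ : ∃ g : HS.G, g • (e none) = HS.y0 := by
    have h : e none ∈ MulAction.orbit HS.G HS.y0 := HS.orbit_y0 ▸ Set.mem_univ _
    obtain ⟨g, hg⟩ := h
    exact ⟨g⁻¹, by rw [← hg]; exact inv_smul_smul g HS.y0⟩
  let f := e.trans (HSGraph.toAut g)
  have hf : f none = HS.y0 := hg
  refine ⟨Perm.SRG77.innerIso.trans
    { toEquiv := f.toEquiv.subtypeEquiv fun v => ?_
      map_rel_iff' := fun {a b} => f.map_rel_iff }⟩
  show _ ↔ f v ≠ HS.y0 ∧ ¬ HSGraph.graph.Adj HS.y0 (f v)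
  rw [← hf, f.map_rel_iff, f.injective.ne_iff]
  exact Iff.rfl

/-- Uniqueness of the strongly regular graph with parameters (77, 16, 0, 4). -/
theorem result {V W : Type*} [Fintype V] [Fintype W] {G : SimpleGraph V} {H : SimpleGraph W} [DecidableRel G.Adj] [DecidableRel H.Adj] (hG : G.IsSRGWith 77 16 0 4) (hH : H.IsSRGWith 77 16 0 4) : Nonempty (G ≃g H) := by
  obtain ⟨e⟩ := exists_inner hG
  obtain ⟨f⟩ := exists_inner hH
  exact ⟨e.trans f.symm⟩

end Cfsg.Agent.S0429
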