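import Cfsg.Statements.S0431
import Cfsg.Agent.Lib.LeechAut.HSGraph

set_option autoImplicit false
open Cfsg

namespace Cfsg.Agent.S0431

/-- Aut of the point-block graph of an S(3, 6, 22) contains a simple subgroup of order 44352000. -/
theorem result {α : Type*} [Fintype α] (hα : Fintype.card α = 22) {B : Set (Finset α)} (hB : Cfsg.IsSteinerSystem 3 6 B) : ∃ H : Subgroup (Cfsg.pointBlockGraph B ≃g Cfsg.pointBlockGraph B), Cfsg.IsHS H := by
  classical
  obtain ⟨f⟩ := LeechAut.HSGraph.exists_iso hα hB
  let Φ : (LeechAut.HSGraph.graph ≃g LeechAut.HSGraph.graph) →* (pointBlockGraph B ≃g pointBlockGraph B) :=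
    { toFun := fun g => (f.trans g).trans f.symm
      map_one' := RelIso.ext fun x => f.symm_apply_apply x
      map_mul' := fun g h => RelIso.ext fun x => by
        show f.symm (g (h (f x))) = f.symm (g (f (f.symm (h (f x)))))
        rw [RelIso.apply_symm_apply] }
  have hΦ : Function.Injective Φ := fun g h e => RelIso.ext fun y => by
    have e' : f.symm (g (f (f.symm y))) = f.symm (h (f (f.symm y))) := congrArg (fun k => k (f.symm y)) e
    rw [RelIso.apply_symm_apply] at e'
    exact f.symm.injective e'
  have hinj : Function.Injective (Φ.comp LeechAut.HSGraph.toAut) :=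
    hΦ.comp LeechAut.HSGraph.toAut_injective
  obtain ⟨h1, h2⟩ := LeechAut.HS.isHS_G
  let E := MonoidHom.ofInjective hinj
  exact ⟨(Φ.comp LeechAut.HSGraph.toAut).range, E.symm.isSimpleGroup_congr.2 h1,
    (Nat.card_congr E.symm.toEquiv).trans h2⟩

end Cfsg.Agent.S0431
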