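import Cfsg.Statements.S0436
-- import your own Cfsg.Agent.* helpers here

set_option autoImplicit false
open Cfsg

namespace Cfsg.Agent.S0436

theorem sq_one {G : Type*} [Group G] {E : Set G} (hE : Cfsg.IsThreeTranspositionSet E)
    {d : G} (hd : d ∈ E) : d * d = 1 := by
  rw [← pow_two, ← hE.1 d hd, pow_orderOf_eq_one]

theorem inv_self {G : Type*} [Group G] {E : Set G} (hE : Cfsg.IsThreeTranspositionSet E)
    {d : G} (hd : d ∈ E) : d⁻¹ = d := inv_eq_of_mul_eq_one_right (sq_one hE hd)

theorem braid {G : Type*} [Group G] {E : Set G} (hE : Cfsg.IsThreeTranspositionSet E)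
    {d e : G} (hd : d ∈ E) (he : e ∈ E) (h : ¬ Commute d e) : d * e * d = e * d * e := by
  rcases hE.2 d hd e he with h2 | h3
  · exfalso; apply h
    have : d * e = (d * e)⁻¹ := by rw [pow_two] at h2; exact eq_inv_of_mul_eq_one_left h2
    rw [mul_inv_rev, inv_self hE hd, inv_self hE he] at this
    exact this
  · have h3' : d * e * d * (e * d * e) = 1 := by
      rw [pow_three] at h3; simpa [mul_assoc] using h3
    have := eq_inv_of_mul_eq_one_left h3'
    rw [mul_inv_rev, mul_inv_rev, inv_self hE hd, inv_self hE he] at this
    simpa [mul_assoc] using this

/-- For distinct commuting members a, b of a set of 3-transpositions E, a member e of E centralises the product a * b if and only if it centralises both a and b. -/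
theorem result {G : Type*} [Group G] {E : Set G} (hE : Cfsg.IsThreeTranspositionSet E) {a b e : G} (ha : a ∈ E) (hb : b ∈ E) (he : e ∈ E) (hab : a ≠ b) (hcomm : Commute a b) : Commute e (a * b) ↔ (Commute e a ∧ Commute e b) := by
  constructor
  · intro h
    by_cases h1 : Commute e a
    · refine ⟨h1, ?_⟩
      have h2 : Commute e (a⁻¹ * (a * b)) := (h1.inv_right).mul_right h
      simpa using h2
    · exfalso
      by_cases h2 : Commute e b
      · apply h1
        have h3 : Commute e ((a * b) * b⁻¹) := h.mul_right h2.inv_right
        simpa using h3
      · apply hab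
        have aa := sq_one hE ha
        have bb := sq_one hE hb
        have ee := sq_one hE he
        have hea := braid hE he ha h1
        have heb := braid hE he hb h2
        have key : a * b = e * (a * b) * e := by
          rw [h.eq, mul_assoc, ee, mul_one]
        have : a * b = 1 := by
          calc a * b = e * (a * b) * e := key
            _ = (e * a * e) * (e * b * e) := by
              simp only [mul_assoc]; rw [← mul_assoc e e, ee, one_mul]
            _ = (a * e * a) * (b * e * b) := by rw [hea, heb]
            _ = a * (e * (a * b) * e) * b := by simp only [mul_assoc]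
            _ = a * (a * b) * b := by rw [← key]
            _ = 1 := by simp only [← mul_assoc, aa, one_mul, bb]
        rw [mul_eq_one_iff_eq_inv, inv_self hE hb] at this
        exact this
  · rintro ⟨h1, h2⟩
    exact h1.mul_right h2

end Cfsg.Agent.S0436
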