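import Cfsg.Statements.S0437
import Cfsg.Agent.S0436

set_option autoImplicit false
open Cfsg

namespace Cfsg.Agent.S0437

/-- For three distinct, pairwise commuting members a, b, c of a set of 3-transpositions E, a member e of E centralises a * b * c if and only if it centralises each of a, b and c. -/
theorem result {G : Type*} [Group G] {E : Set G} (hE : Cfsg.IsThreeTranspositionSet E) {a b c e : G} (ha : a ∈ E) (hb : b ∈ E) (hc : c ∈ E) (he : e ∈ E) (hab : a ≠ b) (hac : a ≠ c) (hbc : b ≠ c) (h₁ : Commute a b) (h₂ : Commute a c) (h₃ : Commute b c) : Commute e (a * b * c) ↔ (Commute e a ∧ Commute e b ∧ Commute e c) := by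
  constructor
  · intro h
    have aa := S0436.sq_one hE ha
    have bb := S0436.sq_one hE hb
    have ee := S0436.sq_one hE he
    have cc := S0436.sq_one hE hc
    by_cases hea : Commute e a
    · have : Commute e (b * c) := by
        have h2 : Commute e (a⁻¹ * (a * b * c)) := hea.inv_right.mul_right h
        simpa [mul_assoc] using h2
      exact ⟨hea, (S0436.result hE hb hc he hbc h₃).1 this⟩
    by_cases heb : Commute e b
    · have : Commute e (a * c) := by
        have h2 : Commute e ((a * b * c) * b⁻¹) := h.mul_right heb.inv_right
        have h4 : a * b * c * b⁻¹ = a * c := by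
          rw [mul_assoc a b c, h₃.eq, ← mul_assoc, mul_assoc _ b, mul_inv_cancel, mul_one]
        rwa [h4] at h2
      exact absurd ((S0436.result hE ha hc he hac h₂).1 this).1 hea
    by_cases hec : Commute e c
    · have : Commute e (a * b) := by
        have h2 : Commute e ((a * b * c) * c⁻¹) := h.mul_right hec.inv_right
        simpa using h2
      exact absurd ((S0436.result hE ha hb he hab h₁).1 this).1 hea
    exfalso
    have hA := S0436.braid hE he ha hea
    have hB := S0436.braid hE he hb heb
    have hC := S0436.braid hE he hc hec
    have key : a * b * c = e * (a * b * c) * e := by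
      rw [h.eq, mul_assoc (a * b * c), ee, mul_one]
    have hBcB : b * e * b * c * (b * e * b) = a := by
      have e1 : a * b * c = a * (e * (a * b) * e * (b * c) * e * c) := by
        calc a * b * c = e * (a * b * c) * e := key
          _ = (e * a * e) * (e * b * e) * (e * c * e) := by
            simp only [mul_assoc]; simp only [← mul_assoc e e, ee, one_mul]
          _ = (a * e * a) * (b * e * b) * (c * e * c) := by rw [hA, hB, hC]
          _ = _ := by simp only [mul_assoc]
      rw [mul_assoc a b c, mul_right_inj] at e1
      have e2 : b = e * (a * b) * e * (b * c) * e := mul_right_cancel e1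
      have e3 : (a * b) * e * (b * c) = e * b * e := by
        calc (a * b) * e * (b * c) = (e * e) * ((a * b) * e * (b * c)) * (e * e) := by
              rw [ee, one_mul, mul_one]
          _ = e * (e * (a * b) * e * (b * c) * e) * e := by simp only [mul_assoc]
          _ = e * b * e := by rw [← e2]
      rw [hB] at e3
      have e4 : a * (b * e * b) * c = b * e * b := by
        refine Eq.trans ?_ e3
        simp only [mul_assoc]
      have Bsq : b * e * b * (b * e * b) = 1 := by
        simp only [mul_assoc, ← mul_assoc b b, bb, one_mul]
        rw [← mul_assoc e e, ee, one_mul, bb]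
      calc b * e * b * c * (b * e * b)
          = (a * a) * (b * e * b * c) * (b * e * b) := by rw [aa, one_mul]
        _ = a * (a * (b * e * b) * c) * (b * e * b) := by simp only [mul_assoc]
        _ = a * (b * e * b * (b * e * b)) := by rw [e4, mul_assoc]
        _ = a := by rw [Bsq, mul_one]
    have hbr : b * e * b * c * (b * e * b) = c * (b * e * b) * c := by
      have h' : b * e * b * c = b * (e * c) * b := by
        simp only [mul_assoc]; rw [h₃.eq]
      calc b * e * b * c * (b * e * b) = b * (e * c) * (b * b) * e * b := by
            rw [h']; simp only [mul_assoc]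
        _ = b * (e * c * e) * b := by rw [bb, mul_one]; simp only [mul_assoc]
        _ = b * (c * e * c) * b := by rw [hC]
        _ = (b * c) * e * (c * b) := by simp only [mul_assoc]
        _ = (c * b) * e * (b * c) := by rw [h₃.eq]
        _ = c * (b * e * b) * c := by simp only [mul_assoc]
    have hBa : b * e * b = a := by
      rw [hbr] at hBcB
      calc b * e * b = (c * c) * (b * e * b) * (c * c) := by rw [cc, one_mul, mul_one]
        _ = c * (c * (b * e * b) * c) * c := by simp only [mul_assoc]
        _ = c * a * c := by rw [hBcB]
        _ = a := by rw [← h₂.eq, mul_assoc, cc, mul_one]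
    apply hea
    have : e = a := by
      calc e = (b * b) * e * (b * b) := by rw [bb, one_mul, mul_one]
        _ = b * (b * e * b) * b := by simp only [mul_assoc]
        _ = b * a * b := by rw [hBa]
        _ = a := by rw [← h₁.eq, mul_assoc, bb, mul_one]
    rw [this]
  · rintro ⟨x, y, w⟩
    exact (x.mul_right y).mul_right w

end Cfsg.Agent.S0437
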