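import Cfsg.Statements.S0439
-- import your own Cfsg.Agent.* helpers here

set_option autoImplicit false
open Cfsg

namespace Cfsg.Agent.S0439

theorem swap_mul_swap {α : Type*} [DecidableEq α] (x y z w : α) (hxy : x ≠ y) (hzw : z ≠ w) :
    (Equiv.swap x y * Equiv.swap z w) ^ 2 = 1 ∨ (Equiv.swap x y * Equiv.swap z w) ^ 3 = 1 := by
  classical
  have hsq : ∀ a b : α, Equiv.swap a b * Equiv.swap a b = 1 := fun a b => Equiv.swap_mul_self a b
  have h3 : ∀ a b c : α, a ≠ b → a ≠ c → b ≠ c →
      (Equiv.swap a b * Equiv.swap a c) ^ 3 = 1 := by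
    intro a b c h1 h2 h3
    apply Equiv.ext
    intro t
    simp only [pow_three, Equiv.Perm.coe_mul, Function.comp_apply, Equiv.Perm.coe_one, id_eq]
    by_cases ta : t = a <;> by_cases tb : t = b <;> by_cases tc : t = c <;>
      simp_all [Equiv.swap_apply_def, Ne.symm]
  by_cases h1 : x = z
  · subst h1
    by_cases h2 : y = w
    · subst h2; left; rw [hsq, one_pow]
    · right; exact h3 x y w hxy hzw h2
  by_cases h2 : x = w
  · subst h2
    rw [Equiv.swap_comm z x]
    by_cases h4 : y = z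
    · subst h4; left; rw [hsq, one_pow]
    · right; exact h3 x y z hxy h1 h4
  by_cases h4 : y = z
  · subst h4
    right
    rw [Equiv.swap_comm x y]
    exact h3 y x w hxy.symm hzw h2
  by_cases h5 : y = w
  · subst h5
    right
    rw [Equiv.swap_comm x y, Equiv.swap_comm z y]
    exact h3 y x z hxy.symm h4 h1
  left
  apply Equiv.ext
  intro t
  simp only [pow_two, Equiv.Perm.coe_mul, Function.comp_apply, Equiv.Perm.coe_one, id_eq,
    Equiv.swap_apply_def]
  split_ifs <;> grind

/-- In the symmetric group of degree n ≥ 2, the set of transpositions is a conjugacy class of 3-transpositions which generates the group. -/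
theorem result (n : ℕ) (hn : 2 ≤ n) : Cfsg.IsThreeTranspositionClass {σ : Equiv.Perm (Fin n) | σ.IsSwap} := by
  have : Nontrivial (Fin n) := Fin.nontrivial_iff_two_le.2 hn
  obtain ⟨u, v, huv⟩ := exists_pair_ne (Fin n)
  refine ⟨⟨?_, ?_⟩, ⟨Equiv.swap u v, ⟨u, v, huv, rfl⟩, ?_⟩, Equiv.Perm.closure_isSwap⟩
  · rintro d hd
    exact Equiv.Perm.IsSwap.orderOf hd
  · rintro d ⟨x, y, hxy, rfl⟩ e ⟨z, w, hzw, rfl⟩
    exact swap_mul_swap x y z w hxy hzw
  · ext σ
    simp only [conjugatesOf, Set.mem_ofPred_eq]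
    constructor
    · rintro ⟨x, y, hxy, rfl⟩
      exact Equiv.Perm.isConj_swap huv hxy
    · intro h
      obtain ⟨c, hc⟩ := isConj_iff.1 h
      refine ⟨c u, c v, c.injective.ne huv, ?_⟩
      rw [← hc, Equiv.swap_apply_apply]

end Cfsg.Agent.S0439
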