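import Cfsg.Statements.S0440
import Cfsg.Agent.Lib.Forms.SympStd

set_option autoImplicit false
open Cfsg

namespace Cfsg.Agent.S0440

open Matrix
open Cfsg.Agent.Forms.SympStd

variable {n : ℕ}

local notation "Vec" => (Fin n ⊕ Fin n → ZMod 2)
local notation "Mat" => Matrix (Fin n ⊕ Fin n) (Fin n ⊕ Fin n) (ZMod 2)
local notation "Sp" => symplecticGroup (Fin n) (ZMod 2)

theorem exists_form_one {v : Vec} (hv : v ≠ 0) : ∃ x, Cfsg.sympForm n (ZMod 2) v x = 1 := by
  by_contra! h
  refine hv (sympB_nondegenerate.1 v fun x => ?_)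
  rw [sympB_apply]
  exact (by decide : ∀ a : ZMod 2, a ≠ 1 → a = 0) _ (h x)

theorem move {u v : Vec} (hu : u ≠ 0) (hv : v ≠ 0) :
    ∃ A : Sp, (A : Mat) *ᵥ u = v := by
  obtain ⟨x, hx⟩ := exists_form_one hu
  obtain ⟨y, hy⟩ := exists_form_one hv
  obtain ⟨A, -, hA, -⟩ := exists_move_pair (S := (∅ : Set Vec)) (fun s hs => absurd hs (Set.notMem_empty s))
    (fun s hs => absurd hs (Set.notMem_empty s)) (fun s hs => absurd hs (Set.notMem_empty s))
    (fun s hs => absurd hs (Set.notMem_empty s)) hx hy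
  exact ⟨A, hA⟩

theorem conj_tv (A : Sp) (v : Vec) :
    A * tv v 1 * A⁻¹ = tv ((A : Mat) *ᵥ v) 1 := by
  refine sp_ext fun x => ?_
  rw [mul_mulVec_sp, mul_mulVec_sp, tv_mulVec, tv_mulVec, mulVec_add, mulVec_smul,
    ← mul_mulVec_sp A A⁻¹, mul_inv_cancel]
  congr 2
  · exact one_mulVec x
  · rw [one_mul, one_mul, ← sympForm_mulVec A, ← mul_mulVec_sp A A⁻¹, mul_inv_cancel]
    exact congrArg (fun z => Cfsg.sympForm n (ZMod 2) z _) (one_mulVec x)

theorem tv_zero_left (c : ZMod 2) : tv (m := n) (0 : Vec) c = 1 :=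
  sp_ext fun x => by rw [tv_mulVec]; simp

theorem tv_zero_right (v : Vec) : tv v (0 : ZMod 2) = 1 :=
  sp_ext fun x => by rw [tv_mulVec]; simp

theorem tv_sq (v : Vec) : tv v (1 : ZMod 2) * tv v 1 = 1 := by
  refine sp_ext fun x => ?_
  rw [mul_mulVec_sp, tv_mulVec, tv_mulVec]
  have hs : Cfsg.sympForm n (ZMod 2) (x + (1 * Cfsg.sympForm n (ZMod 2) x v) • v) v
      = Cfsg.sympForm n (ZMod 2) x v := by
    simp only [← sympB_apply, map_add, map_smul, LinearMap.add_apply, LinearMap.smul_apply]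
    simp [sympB_apply, sympForm_self]
  rw [hs, add_assoc, ← add_smul, CharTwo.add_self_eq_zero, zero_smul, add_zero]
  exact (one_mulVec x).symm

theorem tv_ne_one {v : Vec} (hv : v ≠ 0) : tv v (1 : ZMod 2) ≠ 1 := by
  intro h
  obtain ⟨x, hx⟩ := exists_form_one hv
  have h1 := tv_mulVec v x (1 : ZMod 2)
  rw [h, sympForm_swap v x, hx] at h1
  apply hv
  have h2 : ((1 : Sp) : Mat) *ᵥ x = x := one_mulVec x
  rw [h2] at h1
  simpa using h1

theorem mem_iff {g : Sp} : ((g : Mat) - 1).rank = 1 ↔ ∃ v : Vec, v ≠ 0 ∧ g = tv v 1 := by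
  constructor
  · intro h
    rw [Matrix.rank, finrank_eq_one_iff'] at h
    obtain ⟨⟨v, hv⟩, hv0, hall⟩ := h
    have hv1 : v ≠ 0 := fun e => hv0 (Subtype.ext e)
    refine ⟨v, hv1, ?_⟩
    have hform : ∀ x, ∃ c : ZMod 2, (g : Mat) *ᵥ x = x + c • v := fun x => by
      obtain ⟨c, hc⟩ := hall ⟨((g : Mat) - 1) *ᵥ x, ⟨x, rfl⟩⟩
      refine ⟨c, ?_⟩
      have h1 : c • v = ((g : Mat) - 1) *ᵥ x := congrArg Subtype.val hc
      rw [h1, sub_mulVec, one_mulVec, add_sub_cancel]
    choose f hf using hform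
    have key : ∀ x y, f y * Cfsg.sympForm n (ZMod 2) x v + f x * Cfsg.sympForm n (ZMod 2) v y = 0 := by
      intro x y
      have h1 := sympForm_mulVec g x y
      rw [hf, hf] at h1
      simp only [← sympB_apply, map_add, map_smul, LinearMap.add_apply, LinearMap.smul_apply,
        smul_eq_mul] at h1
      simp only [sympB_apply, sympForm_self, mul_zero, add_zero] at h1
      linear_combination h1
    obtain ⟨x₀, hx₀⟩ : ∃ x, f x = 1 := by
      by_contra! hcon
      apply hv1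
      obtain ⟨z, hz⟩ := hv
      have h0 : f z = 0 := (by decide : ∀ a : ZMod 2, a ≠ 1 → a = 0) _ (hcon z)
      have : ((g : Mat) - 1).mulVecLin z = 0 := by
        rw [Matrix.mulVecLin_apply, sub_mulVec, one_mulVec, hf, h0, zero_smul, add_zero, sub_self]
      exact hz.symm.trans this
    have hkey := key x₀
    rw [hx₀] at hkey
    have hB : Cfsg.sympForm n (ZMod 2) x₀ v = 1 := by
      by_contra hne
      obtain ⟨y, hy⟩ := exists_form_one hv1
      have := hkey y
      rw [(by decide : ∀ a : ZMod 2, a ≠ 1 → a = 0) _ hne, hy] at this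
      simp at this
    refine sp_ext fun y => ?_
    rw [tv_mulVec, hf, one_mul]
    have h2 := hkey y
    rw [hB, mul_one, one_mul, CharTwo.add_eq_zero] at h2
    rw [h2, sympForm_swap y v, CharTwo.neg_eq]
  · rintro ⟨v, hv, rfl⟩
    refine le_antisymm ?_ (Nat.one_le_iff_ne_zero.2 fun h => ?_)
    · rw [show ((tv v (1 : ZMod 2) : Sp) : Mat) = Cfsg.sympTransvection n v 1 from rfl,
        Cfsg.sympTransvection, add_sub_cancel_left, one_smul]
      exact Matrix.rank_vecMulVec_le _ _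
    · rw [Matrix.rank, Submodule.finrank_eq_zero, LinearMap.range_eq_bot] at h
      refine tv_ne_one hv (sp_ext fun x => ?_)
      have h1 := LinearMap.congr_fun h x
      rw [Matrix.mulVecLin_apply, sub_mulVec, one_mulVec, LinearMap.zero_apply, sub_eq_zero] at h1
      exact h1.trans (one_mulVec x).symm

/-- In the symplectic group in dimension 2n ≥ 2 over the field with two elements, the elements g for which g - 1 has rank one (the symplectic transvections) form a conjugacy class of 3-transpositions generating the group. -/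
theorem result (n : ℕ) (hn : 1 ≤ n) : Cfsg.IsThreeTranspositionClass {g : Matrix.symplecticGroup (Fin n) (ZMod 2) | ((g : Matrix (Fin n ⊕ Fin n) (Fin n ⊕ Fin n) (ZMod 2)) - 1).rank = 1} := by
  simp only [mem_iff]
  obtain ⟨v₀, hv₀⟩ : ∃ v : Fin n ⊕ Fin n → ZMod 2, v ≠ 0 :=
    ⟨Pi.single (Sum.inl ⟨0, hn⟩) 1, by simp⟩
  refine ⟨⟨?_, ?_⟩, ⟨tv v₀ 1, ⟨v₀, hv₀, rfl⟩, ?_⟩, ?_⟩
  · rintro d ⟨v, hv, rfl⟩
    exact orderOf_eq_prime (by rw [pow_two, tv_sq]) (tv_ne_one hv)
  · rintro d ⟨u, -, rfl⟩ e ⟨v, -, rfl⟩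
    have hu : ∀ z, (tv z (1 : ZMod 2) : symplecticGroup (Fin n) (ZMod 2))⁻¹ = tv z 1 :=
      fun z => inv_eq_of_mul_eq_one_left (tv_sq z)
    rcases (by decide : ∀ a : ZMod 2, a = 0 ∨ a = 1) (Cfsg.sympForm n (ZMod 2) u v) with h | h
    · left
      have h1 := conj_tv (tv u 1) v
      rw [hu, tv_mulVec, sympForm_swap u v, h] at h1
      simp only [neg_zero, mul_zero, zero_smul, add_zero] at h1
      rw [pow_two, ← mul_assoc, h1, tv_sq]
    · right
      have h1 := conj_tv (tv u 1) v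
      have h2 := conj_tv (tv v 1) u
      rw [hu, tv_mulVec, sympForm_swap u v, h, CharTwo.neg_eq, one_mul, one_smul] at h1
      rw [hu, tv_mulVec, h, one_mul, one_smul, add_comm] at h2
      calc (tv u 1 * tv v 1) ^ 3
          = (tv u 1 * tv v 1 * tv u 1) * (tv v 1 * tv u 1 * tv v 1) := by
            rw [pow_three]; simp only [mul_assoc]
        _ = _ := by rw [h1, h2, tv_sq]
  · ext g
    simp only [conjugatesOf, Set.mem_ofPred_eq]
    constructor
    · rintro ⟨v, hv, rfl⟩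
      obtain ⟨A, hA⟩ := move hv₀ hv
      exact isConj_iff.2 ⟨A, by rw [conj_tv, hA]⟩
    · intro h
      obtain ⟨A, rfl⟩ := isConj_iff.1 h
      exact ⟨_, fun e => hv₀ (Matrix.mulVec_injective_iff_isUnit.2
        ((Group.isUnit A).map (symplecticGroup (Fin n) (ZMod 2)).subtype) (e.trans (mulVec_zero _).symm)),
        conj_tv A v₀⟩
  · rw [eq_top_iff, ← closure_tvSet_eq_top, Subgroup.closure_le]
    rintro A ⟨w, c, -, hA⟩
    have hA' : A = tv w c := Subtype.ext hA
    subst hA'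
    rcases (by decide : ∀ a : ZMod 2, a = 0 ∨ a = 1) c with rfl | rfl
    · rw [tv_zero_right]; exact one_mem _
    by_cases hw : w = 0
    · subst hw; rw [tv_zero_left]; exact one_mem _
    · exact Subgroup.subset_closure ⟨w, hw, rfl⟩

end Cfsg.Agent.S0440
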