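import Cfsg.Statements.S0441
import Cfsg.Agent.Lib.ThreeTransp.RankThree
import Cfsg.Agent.Lib.ThreeTransp.WidthOne

set_option autoImplicit false
open Cfsg
open scoped commutatorElement

namespace Cfsg.Agent.S0441

/-- Fischer's rank-three property. Let a finite group be generated by a conjugacy class D of 3-transpositions, with non-abelian simple commutator subgroup. Then for a in D there are members of D other than a commuting with a and members not commuting with a, and the centraliser of a acts transitively on each of these two sets. -/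
theorem result {G : Type*} [Group G] [Finite G] {D : Set G} (hD : Cfsg.IsThreeTranspositionClass D) (hsimple : IsSimpleGroup (commutator G)) (hnonab : ∃ x y : commutator G, x * y ≠ y * x) {a : G} (ha : a ∈ D) : (∃ b ∈ D, b ≠ a ∧ Commute a b) ∧ (∃ c ∈ D, ¬ Commute a c) ∧ (∀ b ∈ D, ∀ b' ∈ D, b ≠ a → b' ≠ a → Commute a b → Commute a b' → ∃ g : G, Commute g a ∧ g * b * g⁻¹ = b') ∧ (∀ c ∈ D, ∀ c' ∈ D, ¬ Commute a c → ¬ Commute a c' → ∃ g : G, Commute g a ∧ g * c * g⁻¹ = c') := by
  classical
  obtain ⟨hG, htrans⟩ := ThreeTransp.Classes.of_class hD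
  haveI := hsimple
  haveI hcn : (commutator G).Normal := inferInstance
  have hcongr : ∀ x ∈ D, a⁻¹ * x ∈ commutator G := by
    intro x hx
    obtain ⟨g, rfl⟩ := htrans a ha x hx
    rw [show a⁻¹ * (g * a * g⁻¹) = ⁅a⁻¹, g⁆ by rw [commutatorElement_def]; group, commutator_def]
    exact Subgroup.commutator_mem_commutator (Subgroup.mem_top _) (Subgroup.mem_top _)
  have hidx := ThreeTransp.Primitive.index_le_two hG htrans ha hcongr
  obtain ⟨x₁, y₁, hxy⟩ := hnonab
  -- normal p-subgroups are central
  have hcore : ∀ p : ℕ, p.Prime → Cfsg.pCore p G ≤ Subgroup.center G := by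
    intro p hp
    haveI : Fact p.Prime := ⟨hp⟩
    haveI : (Cfsg.pCore p G).Normal := Cores.pCore_normal p
    rcases (inferInstance : ((Cfsg.pCore p G).subgroupOf (commutator G)).Normal).eq_bot_or_eq_top
      with hb | ht
    · intro x hx
      rw [Subgroup.mem_center_iff]
      intro g
      have hm : g * x * g⁻¹ * x⁻¹ ∈ Cfsg.pCore p G :=
        mul_mem (Subgroup.Normal.conj_mem inferInstance x hx g) (inv_mem hx)
      have hc : g * x * g⁻¹ * x⁻¹ ∈ commutator G := by
        rw [← commutatorElement_def, commutator_def]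
        exact Subgroup.commutator_mem_commutator (Subgroup.mem_top g) (Subgroup.mem_top x)
      have h1 : (⟨_, hc⟩ : commutator G) ∈ (Cfsg.pCore p G).subgroupOf (commutator G) := hm
      rw [hb, Subgroup.mem_bot] at h1
      exact mul_inv_eq_iff_eq_mul.1 (mul_inv_eq_one.1 (congrArg Subtype.val h1))
    · rw [Subgroup.subgroupOf_eq_top] at ht
      have hpg : IsPGroup p (commutator G) := (Cores.pCore_isPGroup p).to_le ht
      haveI := hpg.isNilpotent
      exact absurd (IsSimpleGroup.comm_iff_isSolvable.2 inferInstance x₁ y₁) hxy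
  have hnotcomm : ¬ ∀ x ∈ D, ∀ y ∈ D, Commute x y := by
    intro hall
    have hab : ∀ g h : G, g * h = h * g := by
      intro g h
      have hg : g ∈ Subgroup.closure D := hG.2.2 ▸ Subgroup.mem_top g
      have hh : h ∈ Subgroup.closure D := hG.2.2 ▸ Subgroup.mem_top h
      haveI := Subgroup.isMulCommutative_closure (k := D) fun x hx y hy => hall x hx y hy
      exact congrArg Subtype.val (IsMulCommutative.is_comm.comm
        (⟨g, hg⟩ : Subgroup.closure D) ⟨h, hh⟩)
    exact hxy (Subtype.ext (hab _ _))
  have h2 : ∃ u ∈ D, ∃ v ∈ D, u ≠ v := by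
    by_contra! h
    exact hnotcomm fun x hx y hy => by rw [h x hx y hy]
  have hw : ∃ u ∈ D, ∃ v ∈ D, u ≠ v ∧ Commute u v := by
    by_contra! h
    apply hnotcomm
    have hw1 : ∀ u ∈ D, ∀ v ∈ D, Commute u v → u = v := fun u hu v hv hc => by
      by_contra hne
      exact h u hu v hv hne hc
    intro x hx y hy
    have hz := Subgroup.mem_center_iff.1 (hcore 3 Nat.prime_three
      (ThreeTransp.WidthOne.mul_mem_pCore hG.1 hG.2.1 hw1 hx hy)) x
    have hxx := ThreeTransp.Classes.sq hG hx
    rw [← mul_assoc, hxx, one_mul] at hz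
    show x * y = y * x
    calc x * y = x * (x * y * x) := by rw [← hz]
      _ = (x * x) * y * x := by simp only [mul_assoc]
      _ = y * x := by rw [hxx, one_mul]
  have z2 := hcore 2 Nat.prime_two
  obtain ⟨L, hLn, hL, hF⟩ :=
    ThreeTransp.Structure.exists_component hG htrans h2 z2 (hcore 3 Nat.prime_three)
  haveI := hLn
  -- the component is the derived subgroup
  have hperf : ⁅L, L⁆ = L := by
    haveI := hL.2.1
    have h := congrArg (Subgroup.map L.subtype) (Group.IsPerfect.commutator_eq_top (G := L))
    rw [commutator_def, Subgroup.map_commutator, ← MonoidHom.range_eq_map, Subgroup.range_subtype] at h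
    exact h
  have hLle : L ≤ commutator G := by
    rw [← hperf, commutator_def]
    exact Subgroup.commutator_mono le_top le_top
  have hLeq : L = commutator G := by
    rcases (inferInstance : (L.subgroupOf (commutator G)).Normal).eq_bot_or_eq_top with hb | ht
    · exfalso
      haveI := hL.2.2
      have hbot : L = ⊥ := by
        rw [← inf_eq_left.2 hLle, ← Subgroup.subgroupOf_map_subtype, hb, Subgroup.map_bot]
      haveI : Subsingleton L := by rw [hbot]; infer_instance
      haveI : Subsingleton (L ⧸ Subgroup.center L) := Quotient.instSubsingletonQuotient _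
      exact not_subsingleton (L ⧸ Subgroup.center L) inferInstance
    · exact le_antisymm hLle (Subgroup.subgroupOf_eq_top.1 ht)
  have hprim := ThreeTransp.Primitive.primitive_of_index hG htrans h2 z2 (hcore 3 Nat.prime_three)
    hL.2 hF (by rw [hLeq]; exact hidx)
  have hlink : ∀ p q : G, ThreeTransp.RankThree.Linked D a p q →
      ∃ g : G, Commute g a ∧ g * p * g⁻¹ = q := fun p q ⟨g, hg, e⟩ =>
    ⟨g, (ThreeTransp.RankThree.loc_commute hg).symm, e⟩
  refine ⟨?_, ?_, fun b hb b' hb' hba hba' hab hab' =>
    hlink _ _ (ThreeTransp.RankThree.linked_inner hG hprim hw z2 ha hb hb' hab hab' hba hba'),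
    fun c hc c' hc' hac hac' =>
      hlink _ _ (ThreeTransp.RankThree.linked_outer hG hprim hw ha hc hc' hac hac')⟩
  · obtain ⟨u, hu, v, hv, huv, hc⟩ := hw
    obtain ⟨g, rfl⟩ := htrans u hu a ha
    exact ⟨g * v * g⁻¹, hG.2.1 g v hv, fun e => huv (mul_left_cancel (mul_right_cancel e)).symm,
      ThreeTransp.Basic.commute_conj.2 hc⟩
  · exact ThreeTransp.Classes.exists_noncomm hG htrans h2 ha

end Cfsg.Agent.S0441
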