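import Cfsg.Statements.S0442
-- import your own Cfsg.Agent.* helpers here

set_option autoImplicit false
open Cfsg

namespace Cfsg.Agent.S0442

/-- A standard trick for producing elements of an involution centraliser: for an involution a and an element g, let b be the conjugate g⁻¹ * a * g. If a * b has odd order 2m + 1 then g * (a * b) ^ m commutes with a; if a * b has even order 2m then (a * b) ^ m and (a * (g * a * g⁻¹)) ^ m commute with a. -/
theorem result {G : Type*} [Group G] (a g : G) (ha : orderOf a = 2) : (∀ m : ℕ, orderOf (a * (g⁻¹ * a * g)) = 2 * m + 1 → Commute (g * (a * (g⁻¹ * a * g)) ^ m) a) ∧ (∀ m : ℕ, orderOf (a * (g⁻¹ * a * g)) = 2 * m → Commute ((a * (g⁻¹ * a * g)) ^ m) a ∧ Commute ((a * (g * a * g⁻¹)) ^ m) a) := by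
  have aa : a * a = 1 := by rw [← pow_two, ← ha, pow_orderOf_eq_one]
  have ainv : a⁻¹ = a := inv_eq_of_mul_eq_one_right aa
  set b := g⁻¹ * a * g with hb
  have bb : b * b = 1 := by
    simp only [hb, mul_assoc, mul_inv_cancel_left]
    rw [← mul_assoc a a, aa, one_mul, inv_mul_cancel]
  have binv : b⁻¹ = b := inv_eq_of_mul_eq_one_right bb
  have hconj : ∀ k : ℕ, (a * b) ^ k * a = a * ((a * b) ^ k)⁻¹ := by
    intro k
    have : a * (a * b)⁻¹ * a⁻¹ = a * b := by
      rw [mul_inv_rev, binv, ainv, mul_assoc a, mul_assoc b, aa, mul_one]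
    rw [← inv_pow]
    nth_rewrite 1 [← this]
    rw [conj_pow, inv_mul_cancel_right]
  refine ⟨fun m hm => ?_, fun m hm => ?_⟩
  · have h1 : (a * b) ^ m * (a * b) ^ (m + 1) = 1 := by
      rw [← pow_add, show m + (m + 1) = orderOf (a * b) by omega, pow_orderOf_eq_one]
    have h2 : b * (a * b) ^ m = (a * b) ^ m * a := by
      rw [hconj m, inv_eq_of_mul_eq_one_right h1, pow_succ', ← mul_assoc a (a * b),
        ← mul_assoc a a, aa, one_mul]
    show g * (a * b) ^ m * a = a * (g * (a * b) ^ m)
    rw [mul_assoc g, ← h2, hb]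
    simp only [mul_assoc, mul_inv_cancel_left]
  · have h1 : ((a * b) ^ m)⁻¹ = (a * b) ^ m := by
      apply inv_eq_of_mul_eq_one_right
      rw [← pow_add, show m + m = orderOf (a * b) by omega, pow_orderOf_eq_one]
    refine ⟨?_, ?_⟩
    · show (a * b) ^ m * a = a * (a * b) ^ m
      rw [hconj m, h1]
    · set v := a * (g * a * g⁻¹) with hv
      have hv' : v = g * (a * b)⁻¹ * g⁻¹ := by
        rw [mul_inv_rev, binv, ainv, hb, hv]
        simp only [mul_assoc, mul_inv_cancel_left]
      have hvinv : (v ^ m)⁻¹ = v ^ m := by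
        rw [hv', conj_pow, inv_pow, h1, mul_inv_rev, mul_inv_rev, h1, inv_inv, mul_assoc]
      have hav : a * v⁻¹ * a⁻¹ = v := by
        rw [hv]
        simp only [mul_inv_rev, inv_inv, ainv, mul_assoc, aa, mul_one]
      show v ^ m * a = a * v ^ m
      nth_rewrite 1 [← hav]
      rw [conj_pow, inv_mul_cancel_right, inv_pow, hvinv]

end Cfsg.Agent.S0442
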