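import Cfsg.Statements.S0443
-- import your own Cfsg.Agent.* helpers here

set_option autoImplicit false
open Cfsg

namespace Cfsg.Agent.S0443

/-- Two definitions of a 2-central involution agree: an element t of order 2 of a finite group lies in the centre of some Sylow 2-subgroup if and only if its centraliser contains some Sylow 2-subgroup. -/
theorem result {G : Type*} [Group G] [Finite G] (t : G) (ht : orderOf t = 2) : Cfsg.IsTwoCentralInvolution t ↔ ∃ P : Sylow 2 G, (P : Subgroup G) ≤ Subgroup.centralizer ({t} : Set G) := by
  constructor
  · rintro ⟨-, P, -, hP⟩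
    refine ⟨P, fun x hx => ?_⟩
    rw [Subgroup.mem_centralizer_singleton_iff]
    exact hP x hx
  · rintro ⟨P, hP⟩
    have hcomm : ∀ x ∈ P, x * t = t * x := fun x hx =>
      Subgroup.mem_centralizer_singleton_iff.1 (hP hx)
    refine ⟨ht, P, ?_, hcomm⟩
    have h2 : IsPGroup 2 (Subgroup.zpowers t) :=
      IsPGroup.of_card (n := 1) (by rw [Nat.card_zpowers, ht, pow_one])
    have hn : Subgroup.zpowers t ≤ Subgroup.normalizer ((P : Subgroup G) : Set G) := by
      rw [Subgroup.zpowers_le, Subgroup.mem_normalizer_iff]
      intro x
      constructor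
      · intro hx
        rw [← hcomm x hx, mul_inv_cancel_right]
        exact hx
      · intro hx
        have hy := hcomm _ hx
        have : x = t * x * t⁻¹ := by
          calc x = t⁻¹ * ((t * x * t⁻¹) * t) := by group
            _ = t⁻¹ * (t * (t * x * t⁻¹)) := by rw [hy]
            _ = _ := by group
        rw [this]; exact hx
    have h3 := h2.to_sup_of_normal_right' P.isPGroup' hn
    have h4 := P.is_maximal' h3 le_sup_right
    exact h4.le ((le_sup_left : Subgroup.zpowers t ≤ _) (Subgroup.mem_zpowers t))

end Cfsg.Agent.S0443
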