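import Cfsg.Statements.S0444
import Cfsg.Agent.S0436

set_option autoImplicit false
open Cfsg

namespace Cfsg.Agent.S0444

/-- The homomorphism out of the dihedral group of order 6. -/
theorem exists_hom {G : Type*} [Group G] (d u : G) (dd : d * d = 1) (u3 : u ^ 3 = 1)
    (hdu : d * u⁻¹ = u * d) :
    ∃ φ : DihedralGroup 3 →* G, (∀ i, φ (.r i) = u ^ i.val) ∧ ∀ i, φ (.sr i) = d * u ^ i.val := by
  have ha : ∀ i j : ZMod 3, u ^ (i + j).val = u ^ i.val * u ^ j.val := by
    intro i j
    rw [← pow_add, ZMod.val_add]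
    exact (pow_eq_pow_mod _ u3).symm
  have hsub : ∀ i j : ZMod 3, u ^ (j - i).val = (u ^ i.val)⁻¹ * u ^ j.val := by
    intro i j
    rw [eq_inv_mul_iff_mul_eq, ← ha, add_sub_cancel]
  have hc : ∀ n : ℕ, u ^ n * d = d * (u ^ n)⁻¹ := by
    intro n
    induction n with
    | zero => simp
    | succ n ih =>
      calc u ^ (n + 1) * d = u * (u ^ n * d) := by rw [pow_succ', mul_assoc]
        _ = (u * d) * (u ^ n)⁻¹ := by rw [ih, mul_assoc]
        _ = d * u⁻¹ * (u ^ n)⁻¹ := by rw [hdu]
        _ = _ := by rw [mul_assoc, ← mul_inv_rev, ← pow_succ]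
  let f : DihedralGroup 3 → G := fun x => match x with
    | .r i => u ^ i.val
    | .sr i => d * u ^ i.val
  refine ⟨MonoidHom.mk' f ?_, fun i => rfl, fun i => rfl⟩
  rintro (i | i) (j | j)
  · simp only [DihedralGroup.r_mul_r, f, ha]
  · simp only [DihedralGroup.r_mul_sr, f, hsub, ← mul_assoc, hc]
  · simp only [DihedralGroup.sr_mul_r, f, ha, mul_assoc]
  · simp only [DihedralGroup.sr_mul_sr, f, hsub]
    rw [mul_assoc d, ← mul_assoc (u ^ i.val) d, hc, ← mul_assoc d, ← mul_assoc d d, dd, one_mul]

/-- A model map from the dihedral group of order 6 to the permutations of three letters. -/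
def dihFun : DihedralGroup 3 → Equiv.Perm (Fin 3)
  | .r i => (finRotate 3) ^ i.val
  | .sr i => Equiv.swap 1 2 * (finRotate 3) ^ i.val

theorem dihFun_mul : ∀ x y : DihedralGroup 3, dihFun (x * y) = dihFun x * dihFun y := by decide

theorem dihFun_inj : Function.Injective dihFun := by
  have : ∀ x y : DihedralGroup 3, dihFun x = dihFun y → x = y := by decide
  exact fun x y => this x y

/-- The dihedral group of order 6 is the symmetric group on three letters. -/
noncomputable def dihEquiv : DihedralGroup 3 ≃* Equiv.Perm (Fin 3) :=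
  MulEquiv.ofBijective (MonoidHom.mk' dihFun dihFun_mul)
    ((Fintype.bijective_iff_injective_and_card _).2
      ⟨dihFun_inj, by rw [DihedralGroup.card, Fintype.card_perm, Fintype.card_fin]; rfl⟩)

/-- Two members of a set of 3-transpositions which do not commute generate a subgroup isomorphic to the symmetric group on three letters. -/
theorem result {G : Type*} [Group G] {E : Set G} (hE : Cfsg.IsThreeTranspositionSet E) {d e : G} (hd : d ∈ E) (he : e ∈ E) (h : ¬ Commute d e) : Nonempty (Subgroup.closure ({d, e} : Set G) ≃* Equiv.Perm (Fin 3)) := by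
  have aa := S0436.sq_one hE hd
  have bb := S0436.sq_one hE he
  have br := S0436.braid hE hd he h
  have hne : d ≠ e := by rintro rfl; exact h (Commute.refl d)
  have u3 : (d * e) ^ 3 = 1 := by
    calc (d * e) ^ 3 = d * e * d * (e * d * e) := by rw [pow_three]; simp only [mul_assoc]
      _ = e * d * e * (e * d * e) := by rw [br]
      _ = 1 := by simp only [mul_assoc, ← mul_assoc e e, bb, one_mul]
                  rw [← mul_assoc d d, aa, one_mul, bb]
  obtain ⟨φ, hr, hs⟩ := exists_hom d (d * e) aa u3 (by
    rw [mul_inv_rev, S0436.inv_self hE hd, S0436.inv_self hE he, mul_assoc])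
  have hinj : Function.Injective φ := by
    rw [← MonoidHom.ker_eq_bot_iff, Subgroup.eq_bot_iff_forall]
    intro x hx
    rw [MonoidHom.mem_ker] at hx
    have u1 : d * e ≠ 1 := fun hh => hne (by
      rw [mul_eq_one_iff_eq_inv, S0436.inv_self hE he] at hh; exact hh)
    have u2 : (d * e) * (d * e) ≠ 1 := fun hh => h (by
      have := eq_inv_of_mul_eq_one_left hh
      rw [mul_inv_rev, S0436.inv_self hE hd, S0436.inv_self hE he] at this
      exact this)
    have d1 : d ≠ 1 := fun hh => by simpa [hh] using hE.1 d hd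
    have v0 : ZMod.val (0 : ZMod 3) = 0 := rfl
    have v1 : ZMod.val (1 : ZMod 3) = 1 := rfl
    have v2 : ZMod.val (2 : ZMod 3) = 2 := rfl
    rcases x with i | i <;>
      have hi : i = 0 ∨ i = 1 ∨ i = 2 := (by decide : ∀ j : ZMod 3, j = 0 ∨ j = 1 ∨ j = 2) i
    all_goals rcases hi with rfl | rfl | rfl
    all_goals first | rw [hr] at hx | rw [hs] at hx
    · rfl
    · exfalso; apply u1; simpa [v0, v1, v2] using hx
    · exfalso; apply u2; simpa [v0, v1, v2, pow_two] using hx
    · exfalso; apply d1; simpa [v0, v1, v2] using hx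
    · exfalso; apply d1
      have h0 : d * (d * e) = 1 := by simpa [v0, v1, v2] using hx
      rw [← mul_assoc, aa, one_mul] at h0
      have := hE.1 e he; simp [h0] at this
    · exfalso; apply d1
      have h0 : d * (d * e) ^ 2 = 1 := by simpa [v0, v1, v2] using hx
      rw [pow_two, mul_assoc d e, ← mul_assoc, aa, one_mul, ← mul_assoc, mul_eq_one_iff_eq_inv,
        S0436.inv_self hE he] at h0
      have h1 : e * (e * d) = e * e := by rw [h0]
      rwa [← mul_assoc, bb, one_mul] at h1
  have hrange : φ.range = Subgroup.closure ({d, e} : Set G) := by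
    apply le_antisymm
    · rintro _ ⟨x, rfl⟩
      have hd' : d ∈ Subgroup.closure ({d, e} : Set G) := Subgroup.subset_closure (by simp)
      have he' : e ∈ Subgroup.closure ({d, e} : Set G) := Subgroup.subset_closure (by simp)
      rcases x with i | i
      · rw [hr]; exact pow_mem (mul_mem hd' he') _
      · rw [hs]; exact mul_mem hd' (pow_mem (mul_mem hd' he') _)
    · rw [Subgroup.closure_le]
      rintro y (rfl | rfl)
      · exact ⟨DihedralGroup.sr 0, by simp [hs]⟩
      · refine ⟨DihedralGroup.sr 1, ?_⟩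
        rw [hs, ZMod.val_one, pow_one, ← mul_assoc, aa, one_mul]
  exact ⟨((MulEquiv.subgroupCongr hrange.symm).trans
    (MonoidHom.ofInjective hinj).symm).trans dihEquiv⟩

end Cfsg.Agent.S0444
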