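import Cfsg.Statements.S0447
import Cfsg.Agent.Lib.Perm.DoubleCoverInvolutions

set_option autoImplicit false
open Cfsg

namespace Cfsg.Agent.S0447

/-- Involutions in double covers of alternating groups: for n ≤ 7, a finite non-split double cover of the alternating group of degree n has exactly one element of order 2 (the central one); for degree 8 there is a non-split double cover with two distinct involutions. -/
theorem result : (∀ (n : ℕ) (H : Type) (_ : Group H) (_ : Finite H), n ≤ 7 → Cfsg.IsNonsplitDoubleCover H (alternatingGroup (Fin n)) → ∀ x y : H, orderOf x = 2 → orderOf y = 2 → x = y) ∧ ∃ (H : Type) (_ : Group H) (_ : Finite H), Cfsg.IsNonsplitDoubleCover H (alternatingGroup (Fin 8)) ∧ ∃ x y : H, x ≠ y ∧ orderOf x = 2 ∧ orderOf y = 2 := by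
  refine ⟨?_, ?_⟩
  · intro n H _ _ hn hH x y hx hy
    obtain ⟨hZ, ⟨e⟩, hsplit⟩ := hH
    let π : H →* alternatingGroup (Fin n) := e.toMonoidHom.comp (QuotientGroup.mk' _)
    have hπ : Function.Surjective π := e.surjective.comp (QuotientGroup.mk'_surjective _)
    have hker : π.ker = Subgroup.center H := by
      ext a
      simp [π, MonoidHom.mem_ker]
    have hxc := Perm.DoubleCoverInv.unique_involution hn π hπ hker hZ hsplit x hx
    have hyc := Perm.DoubleCoverInv.unique_involution hn π hπ hker hZ hsplit y hy
    obtain ⟨w, -, hw⟩ := (Nat.card_eq_two_iff' (1 : Subgroup.center H)).1 hZ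
    have h1 := hw ⟨x, hxc⟩ (fun h => by simp [show x = 1 from congrArg Subtype.val h] at hx)
    have h2 := hw ⟨y, hyc⟩ (fun h => by simp [show y = 1 from congrArg Subtype.val h] at hy)
    exact congrArg Subtype.val (h1.trans h2.symm)
  · exact Perm.DoubleCoverInv.cover_eight

end Cfsg.Agent.S0447
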