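import Cfsg.Statements.S0451
import Cfsg.Agent.Lib.HeLocal.Count.Main
import Cfsg.Agent.Lib.HeLocal.LinearCase
import Cfsg.Agent.Lib.HeLocal.Endgame
import Cfsg.Agent.Lib.HeLocal.End.OfEquiv
import Cfsg.Agent.Lib.M24Recog.OfIso
import Cfsg.Agent.InvChar.Coset.HeOrder

set_option autoImplicit false
open Cfsg

namespace Cfsg.Agent.S0451

open HeLocal in
/-- The three cases for one group, with the identification in each. -/
theorem cases_of {G : Type*} [Group G] [Finite G] [IsSimpleGroup G] {z : G} (I : HeLocal.Iso z) :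
    (Nat.card G = 9999360 ∧ Nonempty (G ≃* Matrix.SpecialLinearGroup (Fin 5) (ZMod 2))) ∨
      (Nat.card G = 244823040 ∧ Nonempty (G ≃* Cfsg.M24)) ∨
      (Nat.card G = 4030387200 ∧ Cfsg.Spor.IsoHe G) := by
  have S := I.sides_of_simple
  rcases I.card_trichotomy S with ⟨⟨h6, -⟩, hG⟩ | ⟨h, hG⟩ | ⟨⟨T⟩⟩
  · exact Or.inl ⟨hG, I.nonempty_SL S.one h6 hG⟩
  · refine Or.inr (Or.inl ⟨hG, ?_⟩)
    rcases h with ⟨h6, h7⟩ | ⟨h7, h6⟩
    · exact I.swap.nonempty_equiv_M24 (I.swap_sides S) ((I.swap_zType (i := 7) (by norm_num)).2 h6)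
        (fun h => h7 ((I.swap_zType (i := 6) (by norm_num)).1 h)) hG
    · exact I.nonempty_equiv_M24 S h7 h6 hG
  · obtain ⟨f⟩ := T.isoHe
    exact Or.inr (Or.inr ⟨by rw [Nat.card_congr f.toEquiv]; exact InvChar.Coset.He.simple_and_card.2, ⟨f⟩⟩)

/-- With s a transvection of SL(5, 2): two finite simple groups of equal order, each possessing an involution whose centraliser is isomorphic to the centraliser of s, are isomorphic. -/
theorem result {G H : Type*} [Group G] [Finite G] [IsSimpleGroup G] [Group H] [Finite H] [IsSimpleGroup H] (s : Matrix.SpecialLinearGroup (Fin 5) (ZMod 2)) (hs : (s : Matrix (Fin 5) (Fin 5) (ZMod 2)) = Matrix.transvection 0 1 1) (j : G) (k : H) (hj : orderOf j = 2) (hk : orderOf k = 2) (e : Subgroup.centralizer ({j} : Set G) ≃* Subgroup.centralizer ({s} : Set (Matrix.SpecialLinearGroup (Fin 5) (ZMod 2)))) (f : Subgroup.centralizer ({k} : Set H) ≃* Subgroup.centralizer ({s} : Set (Matrix.SpecialLinearGroup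 (Fin 5) (ZMod 2)))) (hcard : Nat.card G = Nat.card H) : Nonempty (G ≃* H) := by
  obtain ⟨I⟩ := HeLocal.Iso.nonempty_ofEquiv s hs hj e
  obtain ⟨J⟩ := HeLocal.Iso.nonempty_ofEquiv s hs hk f
  rcases cases_of I with ⟨a, ⟨u⟩⟩ | ⟨a, ⟨u⟩⟩ | ⟨a, ⟨u⟩⟩ <;>
    rcases cases_of J with ⟨b, ⟨v⟩⟩ | ⟨b, ⟨v⟩⟩ | ⟨b, ⟨v⟩⟩ <;>
    first | exact ⟨u.trans v.symm⟩ | omega

end Cfsg.Agent.S0451
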