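import Cfsg.Statements.S0455
import Cfsg.Agent.Lib.J2Uniq.Hyps
import Cfsg.Agent.Lib.JankoTwo.Order
import Cfsg.Agent.Lib.J3Glue.Iso

set_option autoImplicit false
open Cfsg

namespace Cfsg.Agent.S0455

/-- Janko's second and third groups: let G be finite simple with a 2-central involution t whose centraliser C contains a normal extraspecial subgroup E of order 32 with C/E isomorphic to the alternating group of degree 5. Then G has order 604800 or 50232960. -/
theorem result {G : Type*} [Group G] [Finite G] [IsSimpleGroup G] (t : G) (ht : Cfsg.IsTwoCentralInvolution t) (E : Subgroup (Subgroup.centralizer ({t} : Set G))) [E.Normal] (hE : Nat.card E = 32) (hX : Cfsg.IsExtraspecial 2 E) (e : (Subgroup.centralizer ({t} : Set G)) ⧸ E ≃* alternatingGroup (Fin 5)) : Cfsg.IsJ2 G ∨ Cfsg.IsJ3 G := by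
  classical
  by_cases hone : ∀ x y : G, orderOf x = 2 → orderOf y = 2 → IsConj x y
  · exact Or.inr (J3Glue.main_isJ3 t ht.1 E hX hE e hone)
  · push Not at hone
    obtain ⟨x, y, hx, hy, hxy⟩ := hone
    obtain ⟨h2c, -⟩ := J3Glue.selfcentralizing ht.1 E hX hE e
    obtain ⟨K, H⟩ := J2Uniq.exists_hyp_simple t ht.1 E hX hE h2c e ⟨x, y, hx, hy, hxy⟩
    obtain ⟨s, V, B, U, S, -⟩ := JankoTwo.exists_second H
    exact Or.inl ⟨inferInstance, (H.order S).1⟩

end Cfsg.Agent.S0455
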