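import Cfsg.Statements.S0462
import Cfsg.Agent.Lib.CosetPerm.Basic
import Cfsg.Agent.InvChar.Coset.HeSympIso

set_option autoImplicit false
open Cfsg

namespace Cfsg.Agent.S0462

/-- The Held group exists as a transitive permutation group of degree 2058: simple of order 4030387200, with point stabiliser containing, with index 2, a copy of the 4-dimensional symplectic group over the field with four elements. -/
theorem result : ∃ H : Subgroup (Equiv.Perm (Fin 2058)), Cfsg.IsHe H ∧ MulAction.IsPretransitive H (Fin 2058) ∧ ∃ (F : Type) (_ : Field F) (_ : Fintype F), Fintype.card F = 4 ∧ ∃ N : Subgroup (MulAction.stabilizer H (0 : Fin 2058)), N.index = 2 ∧ Nonempty (N ≃* Matrix.symplecticGroup (Fin 2) F) := by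
  obtain ⟨hs, hc⟩ := InvChar.Coset.He.simple_and_card
  obtain ⟨N, hN, hidx, ⟨i⟩⟩ := InvChar.Coset.HeSymp.exists_index_two
  haveI := hs
  have hind : InvChar.Coset.HeSymp.H0.index = 2057 + 1 := by
    have h := InvChar.Coset.HeSymp.H0.card_mul_index
    rw [InvChar.Coset.HeSymp.card_H0, hc] at h
    omega
  obtain ⟨H, e, htr, hst⟩ := Lib.CosetPerm.exists_perm InvChar.Coset.HeSymp.H0 hind (by norm_num)
  refine ⟨H, ⟨e.isSimpleGroup_congr.1 hs, ?_⟩, htr, InvChar.Coset.FF, inferInstance, inferInstance,
    InvChar.Coset.FF.card, ?_⟩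
  · rw [← Nat.card_congr e.toEquiv]; exact hc
  let σ := ((InvChar.Coset.HeSymp.H0.equivMapOfInjective e.toMonoidHom e.injective).trans
    (MulEquiv.subgroupCongr hst.symm) : InvChar.Coset.HeSymp.H0 ≃* MulAction.stabilizer H (0 : Fin 2058))
  exact ⟨N.map σ.toMonoidHom, (Subgroup.index_map_equiv N σ).trans hidx,
    ⟨(N.equivMapOfInjective _ σ.injective).symm.trans i⟩⟩

end Cfsg.Agent.S0462
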