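import Cfsg.Statements.S0481
-- import your own Cfsg.Agent.* helpers here

set_option autoImplicit false
open Cfsg

namespace Cfsg.Agent.S0481

/-- Large extraspecial subgroups: let z be an involution of a finite group G whose centraliser C contains a normal 2-subgroup Q with centre of order 2 and all squares central, such that every element of G centralising Q lies in Q. Then C contains a Sylow 2-subgroup of G, and any involution of G whose centraliser contains a Sylow 2-subgroup of G is conjugate to z. -/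
theorem result {G : Type*} [Group G] [Finite G] (z : G) (hz : orderOf z = 2) (Q : Subgroup G) (hQC : Q ≤ Subgroup.centralizer ({z} : Set G)) (hQn : ∀ g ∈ Subgroup.centralizer ({z} : Set G), ∀ q ∈ Q, g * q * g⁻¹ ∈ Q) (hQ2 : IsPGroup 2 Q) (hZ : Nat.card (Subgroup.center Q) = 2) (hsq : ∀ x : Q, x ^ 2 ∈ Subgroup.center Q) (hlarge : Subgroup.centralizer (Q : Set G) ≤ Q) : (∃ P : Sylow 2 G, (P : Subgroup G) ≤ Subgroup.centralizer ({z} : Set G)) ∧ ∀ u : G, orderOf u = 2 → (∃ P : Sylow 2 G, (P : Subgroup G) ≤ Subgroup.centralizer ({u} : Set G)) → IsConj z u := by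
  have : Fact (Nat.Prime 2) := ⟨Nat.prime_two⟩
  set C := Subgroup.centralizer ({z} : Set G) with hC
  have hzQ : z ∈ Q := by
    apply hlarge
    rw [Subgroup.mem_centralizer_iff]
    intro q hq
    exact Subgroup.mem_centralizer_singleton_iff.1 (hQC hq)
  have hzc : (⟨z, hzQ⟩ : Q) ∈ Subgroup.center Q := by
    rw [Subgroup.mem_center_iff]
    intro q
    exact Subtype.ext (Subgroup.mem_centralizer_singleton_iff.1 (hQC q.2))
  have hz1 : z ≠ 1 := fun hh => by simp [hh] at hz
  have huniq : ∀ w : G, w ∈ Subgroup.centralizer (Q : Set G) → w ≠ 1 → w = z := by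
    intro w hw hw1
    have hwQ := hlarge hw
    have hwc : (⟨w, hwQ⟩ : Q) ∈ Subgroup.center Q := by
      rw [Subgroup.mem_center_iff]
      intro q
      exact Subtype.ext (Subgroup.mem_centralizer_iff.1 hw q q.2)
    obtain ⟨a, b, hab, hu⟩ := Nat.card_eq_two_iff.1 hZ
    have h3 : ∀ x y : Subgroup.center Q, x ≠ 1 → y ≠ 1 → x = y := by
      intro x y hx hy
      have hx' : x ∈ ({a, b} : Set _) := hu ▸ Set.mem_univ x
      have hy' : y ∈ ({a, b} : Set _) := hu ▸ Set.mem_univ y
      have h1 : (1 : Subgroup.center Q) ∈ ({a, b} : Set _) := hu ▸ Set.mem_univ _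
      grind
    have := h3 ⟨_, hwc⟩ ⟨_, hzc⟩ (fun hh => hw1 (by simpa using congrArg (fun x : Subgroup.center Q => ((x : Q) : G)) hh))
      (fun hh => hz1 (by simpa using congrArg (fun x : Subgroup.center Q => ((x : Q) : G)) hh))
    exact congrArg (fun x : Subgroup.center Q => ((x : Q) : G)) this
  have hQnC : (Q.subgroupOf C).Normal := by
    constructor
    intro n hn g
    exact hQn g g.2 _ hn
  obtain ⟨P0⟩ : Nonempty (Sylow 2 C) := inferInstance
  have hQP0 : Q.subgroupOf C ≤ (P0 : Subgroup C) := by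
    have h2 : IsPGroup 2 ((P0 : Subgroup C) ⊔ Q.subgroupOf C : Subgroup C) :=
      P0.isPGroup'.to_sup_of_normal_right
        (hQ2.of_equiv (Subgroup.subgroupOfEquivOfLe hQC).symm)
    rw [← P0.is_maximal' h2 le_sup_left]
    exact le_sup_right
  obtain ⟨P, hP⟩ := (P0.isPGroup'.map C.subtype).exists_le_sylow
  have hPC : (P : Subgroup G) ≤ C := by
    by_contra hcon
    set S := (P0 : Subgroup C).map C.subtype with hS
    have hSC : S ≤ C := Subgroup.map_subtype_le _
    have hlt : S.subgroupOf (P : Subgroup G) < ⊤ := by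
      rw [lt_top_iff_ne_top, Ne, Subgroup.subgroupOf_eq_top]
      exact fun hh => hcon (hh.trans hSC)
    have hnc := NormalizerCondition (P : Subgroup G)
    have : Group.IsNilpotent (P : Subgroup G) := P.isPGroup'.isNilpotent
    have hlt2 := Group.normalizerCondition_of_isNilpotent (G := (P : Subgroup G)) _ hlt
    obtain ⟨g, hg, hgS⟩ := SetLike.exists_of_lt hlt2
    apply hgS
    rw [Subgroup.mem_subgroupOf]
    -- g normalizes S, so fixes z
    have hzS : z ∈ S := ⟨⟨z, hQC hzQ⟩, hQP0 hzQ, rfl⟩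
    have hgz : (g : G) * z * (g : G)⁻¹ = z := by
      apply huniq
      · rw [Subgroup.mem_centralizer_iff]
        intro q hq
        have hqS : q ∈ S := ⟨⟨q, hQC hq⟩, hQP0 hq, rfl⟩
        have hqP : q ∈ (P : Subgroup G) := hP hqS
        have hq' : g⁻¹ * (⟨q, hqP⟩ : (P : Subgroup G)) * g ∈ S.subgroupOf (P : Subgroup G) := by
          have := (Subgroup.mem_normalizer_iff.1 (inv_mem hg) ⟨q, hqP⟩).1 hqS
          simpa using this
        have hcm := Subgroup.mem_centralizer_singleton_iff.1 (hSC hq')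
        replace hcm : ((g : G)⁻¹ * q * g) * z = z * ((g : G)⁻¹ * q * g) := hcm
        calc q * ((g : G) * z * (g : G)⁻¹) = g * (((g : G)⁻¹ * q * g) * z) * (g : G)⁻¹ := by group
          _ = g * (z * ((g : G)⁻¹ * q * g)) * (g : G)⁻¹ := by rw [hcm]
          _ = _ := by group
      · intro hh
        exact hz1 (conj_eq_one_iff.1 hh)
    have hgC : (g : G) ∈ C := by
      rw [hC, Subgroup.mem_centralizer_singleton_iff]
      exact mul_inv_eq_iff_eq_mul.1 hgz
    have hle : ((P : Subgroup G).subgroupOf C) = P0 :=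
      P0.is_maximal' (P.isPGroup'.comap_subtype) (fun x hx => hP ⟨x, hx, rfl⟩)
    exact ⟨⟨g, hgC⟩, hle ▸ g.2, rfl⟩
  refine ⟨⟨P, hPC⟩, fun u hu ⟨P', hP'⟩ => ?_⟩
  obtain ⟨c, hc⟩ := MulAction.exists_smul_eq G P' P
  rw [isConj_comm, isConj_iff]
  refine ⟨c, huniq _ ?_ (fun hh => by rw [conj_eq_one_iff] at hh; simp [hh] at hu)⟩
  rw [Subgroup.mem_centralizer_iff]
  intro q hq
  have hqP : q ∈ P := hP ⟨⟨q, hQC hq⟩, hQP0 hq, rfl⟩
  rw [← hc] at hqP
  have hqP' : c⁻¹ * q * c ∈ P' := by
    have := Subgroup.mem_pointwise_smul_iff_inv_smul_mem.1 hqP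
    simpa [MulAut.smul_def, MulAut.inv_def, MulAut.conj_symm_apply, ← SetLike.mem_coe] using this
  have hcm := Subgroup.mem_centralizer_singleton_iff.1 (hP' hqP')
  calc q * (c * u * c⁻¹) = c * ((c⁻¹ * q * c) * u) * c⁻¹ := by group
    _ = c * (u * (c⁻¹ * q * c)) * c⁻¹ := by rw [hcm]
    _ = _ := by group

end Cfsg.Agent.S0481
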