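import Cfsg.Statements.S0493
import Cfsg.Agent.Lib.SmallSimple.Filter

set_option autoImplicit false
set_option linter.style.haveILetI false
open Cfsg

namespace Cfsg.Agent.S0493

/-- A finite simple group of order at most 100 that is not cyclic has order 60. -/
theorem result {G : Type*} [Group G] [Finite G] [IsSimpleGroup G]
    (hG : ¬ IsCyclic G) (h : Nat.card G ≤ 100) : Nat.card G = 60 := by
  have hG' : ¬ IsMulCommutative G := fun hc => hG (by
    letI : CommGroup G := { ‹Group G› with mul_comm := fun a b => mul_comm' a b }
    exact (IsSimpleGroup.isCyclic))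
  have h1 : 1 < Nat.card G := Finite.one_lt_card
  have key : ∀ N ∈ Finset.range 101, 1 < N →
      (∀ p ∈ Finset.range (N + 1), p ∣ N → p.Prime → Cfsg.Agent.SmallSimple.Filter.Ok N p) →
      N = 60 := by decide +kernel
  exact key _ (Finset.mem_range.2 (by omega)) h1 (Cfsg.Agent.SmallSimple.Filter.ok_all hG')

end Cfsg.Agent.S0493
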