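import Cfsg.Statements.S0499
import Cfsg.Agent.Lib.Transfer.Frobenius
import Cfsg.Agent.Lib.Transfer.SmallSylow

set_option autoImplicit false
open Cfsg

namespace Cfsg.Agent.S0499

/-- A non-abelian finite simple group of even order has order divisible by 12, 16 or 56. -/
theorem result {G : Type*} [Group G] [Finite G] [IsSimpleGroup G]
    (hG : ¬ IsMulCommutative G) (h2 : Even (Nat.card G)) :
    12 ∣ Nat.card G ∨ 16 ∣ Nat.card G ∨ 56 ∣ Nat.card G := by
  have : Fact (Nat.Prime 2) := ⟨Nat.prime_two⟩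
  have hnc : ∃ x y : G, x * y ≠ y * x := by
    by_contra h
    push Not at h
    exact hG ⟨⟨h⟩⟩
  by_contra hcon
  push Not at hcon
  obtain ⟨h12, h16, h56⟩ := hcon
  obtain ⟨T⟩ : Nonempty (Sylow 2 G) := inferInstance
  obtain ⟨a, ha⟩ := IsPGroup.iff_card.mp T.2
  have hadvd : 2 ^ a ∣ Nat.card G := ha ▸ Subgroup.card_subgroup_dvd_card _
  have ha3 : a ≤ 3 := by
    by_contra hc
    exact h16 ((pow_dvd_pow 2 (show 4 ≤ a by omega)).trans hadvd)
  refine Transfer.SmallSylow.not_hasNormalPComplement_of_isSimpleGroup (p := 2) hnc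
    (even_iff_two_dvd.mp h2) (Transfer.Frobenius.hasNormalPComplement_of_condition ?_)
  intro Q hQ g hg ho
  obtain ⟨b, hb⟩ := IsPGroup.iff_card.mp hQ
  obtain ⟨R, hR⟩ := hQ.exists_le_sylow
  obtain ⟨c, hc⟩ := MulAction.exists_smul_eq G T R
  have hba : b ≤ a := by
    have h1 := Subgroup.card_dvd_of_le hR
    rw [hb] at h1
    have h2' : Nat.card (R : Subgroup G) = 2 ^ a := by
      rw [← ha]; exact Nat.card_congr (R.equiv T).toEquiv
    rw [h2'] at h1
    exact Nat.pow_dvd_pow_iff_le_right'.mp h1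
  refine Transfer.SmallSylow.mem_centralizer_of_primes hb hg fun r hr hrg d hd hdiv => ?_
  have hrG : r ∣ Nat.card G := hrg.trans (orderOf_dvd_natCard g)
  have hr2 : r ≠ 2 := by
    rintro rfl
    exact Nat.prime_two.not_dvd_one (ho ▸ Nat.dvd_gcd hrg dvd_rfl)
  have hr3 : r = 3 ∨ (r = 7 ∧ b = 3) := by
    have hle := Nat.le_of_dvd (Nat.sub_pos_of_lt (Nat.pow_lt_pow_right (by norm_num) hd)) hdiv
    have hb3 : b ≤ 3 := hba.trans ha3
    have h2 := hr.two_le
    interval_cases b <;> interval_cases d <;> norm_num at hdiv hle ⊢ <;> (interval_cases r) <;>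
      simp_all (config := {decide := true})
  rcases hr3 with rfl | ⟨rfl, rfl⟩
  · -- `2 ^ a` is at least four
    have : 2 ≤ a := by
      by_contra hc
      interval_cases a
      · obtain rfl : b = 0 := by omega
        omega
      · interval_cases b
        · omega
        · obtain rfl : d = 0 := by omega
          norm_num at hdiv
    exact h12 (Nat.Coprime.mul_dvd_of_dvd_of_dvd (show Nat.Coprime 4 3 by norm_num)
      ((pow_dvd_pow 2 this).trans hadvd) hrG)
  · have : a = 3 := by omega
    subst this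
    exact h56 (Nat.Coprime.mul_dvd_of_dvd_of_dvd (show Nat.Coprime 8 7 by norm_num) hadvd hrG)

end Cfsg.Agent.S0499
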