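import Cfsg.Statements.S0502
import Cfsg.Agent.Lib.Involutions.TwoGroups

set_option autoImplicit false
open Cfsg

namespace Cfsg.Agent.S0502

/-- If a finite 2-group has a normal elementary abelian subgroup of order at least 8, then any two of its Klein
four-subgroups are joined by a chain of Klein four-subgroups with consecutive members commuting elementwise. -/
theorem result {P : Type*} [Group P] [Finite P] (hP : IsPGroup 2 P)
    (E : Subgroup P) [E.Normal] (hE : IsMulCommutative E) (hE2 : ∀ e ∈ E, e ^ 2 = 1) (hE8 : 8 ≤ Nat.card E) :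
    Cfsg.IsFourConnected P := by
  have : Fact (Nat.Prime 2) := ⟨Nat.prime_two⟩
  have : Nontrivial P := by
    rw [← Finite.one_lt_card_iff_nontrivial]
    have := Subgroup.card_le_card_group E
    omega
  obtain ⟨z, hz, hzc⟩ := Involutions.TwoGroups.exists_central_involution hP
  have hEc : ∀ a ∈ E, ∀ b ∈ E, a * b = b * a := fun a ha b hb =>
    congrArg Subtype.val (mul_comm' (⟨a, ha⟩ : E) ⟨b, hb⟩)
  let R := fun A B : Subgroup P => IsKleinFour A ∧ IsKleinFour B ∧ ∀ a ∈ A, ∀ b ∈ B, a * b = b * a
  have hsymm : ∀ A B, Relation.ReflTransGen R A B → Relation.ReflTransGen R B A := fun A B h =>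
    (Relation.ReflTransGen.mono (fun x y (hxy : R y x) =>
      (⟨hxy.2.1, hxy.1, fun a ha b hb => (hxy.2.2 b hb a ha).symm⟩ : R x y)) _ _ h.swap)
  -- two-generated four-groups
  have gen_comm : ∀ a b c d : P, (∀ x ∈ ({a, b} : Set P), ∀ y ∈ ({c, d} : Set P), x * y = y * x) →
      ∀ x ∈ Subgroup.closure ({a, b} : Set P), ∀ y ∈ Subgroup.closure ({c, d} : Set P), x * y = y * x := by
    intro a b c d h
    have h1 : Subgroup.closure ({a, b} : Set P) ≤
        Subgroup.centralizer (Subgroup.closure ({c, d} : Set P) : Set P) := by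
      rw [Subgroup.closure_le]
      intro x hx
      rw [SetLike.mem_coe, Subgroup.centralizer_closure, Subgroup.mem_centralizer_iff]
      exact fun y hy => (h x hx y hy).symm
    exact fun x hx y hy => (Subgroup.mem_centralizer_iff.mp (h1 hx) y hy).symm
  -- every four-group is joined to one generated by `z` and an element of `E`
  have step : ∀ U : Subgroup P, IsKleinFour U → ∃ w ∈ E, w ≠ z ∧ orderOf w = 2 ∧
      Relation.ReflTransGen R U (Subgroup.closure ({z, w} : Set P)) := by
    intro U hU
    obtain ⟨hU4, hU2⟩ := (Involutions.TwoGroups.isKleinFour_iff U).mp hU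
    have hUc : ∀ a ∈ U, ∀ b ∈ U, a * b = b * a := by
      have := IsKleinFour.isMulCommutative (G := U)
      exact fun a ha b hb => congrArg Subtype.val (mul_comm' (⟨a, ha⟩ : U) ⟨b, hb⟩)
    obtain ⟨u, huU, hu1, huz⟩ : ∃ u ∈ U, u ≠ 1 ∧ u ≠ z := by
      by_contra hc
      push Not at hc
      have hsub : (U : Set P) ⊆ {1, z} := fun u hu => by
        by_cases e : u = 1
        · exact Or.inl e
        · exact Or.inr (hc u hu e)
      have := Set.ncard_le_ncard hsub (Set.toFinite _)
      rw [← Nat.card_coe_set_eq, SetLike.coe_sort_coe, hU4] at this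
      have := this.trans (Set.ncard_insert_le _ _)
      simp at this
    have hu : orderOf u = 2 := Involutions.Basic.orderOf_two_iff.mpr ⟨hU2 u huU, hu1⟩
    obtain ⟨hZu, hZu'⟩ := Involutions.TwoGroups.four_group hz hu (hzc u).symm (Ne.symm huz)
    have hUZ : R U (Subgroup.closure ({z, u} : Set P)) := by
      refine ⟨hU, hZu, fun a ha b hb => ?_⟩
      rcases hZu' b hb with rfl | rfl | rfl | rfl
      · simp
      · exact hzc a
      · exact hUc a ha _ huU
      · exact ((show Commute a z from hzc a).mul_right (hUc a ha _ huU)).eq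
    -- an element of `E` commuting with `u`, outside `⟨z⟩`
    obtain ⟨w, hwE, hw1, hwz, hwu⟩ : ∃ w ∈ E, w ≠ 1 ∧ w ≠ z ∧ u * w = w * u := by
      by_contra hc
      push Not at hc
      set C := E ⊓ Subgroup.centralizer ({u} : Set P) with hC
      have hC2 : (C : Set P).ncard ≤ 2 := by
        refine (Set.ncard_le_ncard (t := {1, z}) ?_ (Set.toFinite _)).trans
          ((Set.ncard_insert_le _ _).trans (by simp))
        intro w hw
        by_cases e : w = 1
        · exact Or.inl e
        · refine Or.inr ?_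
          by_contra e'
          exact hc w hw.1 e e' (Subgroup.mem_centralizer_singleton_iff.mp hw.2).symm
      have hker : ∀ f ∈ E, u * f * u⁻¹ * f⁻¹ ∈ C := by
        intro f hf
        have hf' : u * f * u⁻¹ ∈ E := (inferInstance : E.Normal).conj_mem f hf u
        refine ⟨E.mul_mem hf' (E.inv_mem hf), Subgroup.mem_centralizer_singleton_iff.mpr ?_⟩
        have ui := Involutions.Basic.inv_eq hu
        have fi : f⁻¹ = f := inv_eq_of_mul_eq_one_left (by rw [← pow_two]; exact hE2 f hf)
        have e1 : u * (u * f * u⁻¹ * f⁻¹) * u⁻¹ = f * (u * f * u⁻¹) := by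
          rw [ui, fi, show u * (u * f * u * f) * u = (u * u) * f * (u * f * u) by group,
            Involutions.Basic.inv_sq_one hu, one_mul]
        rw [hEc f hf _ hf'] at e1
        rw [fi] at e1 ⊢
        exact (mul_inv_eq_iff_eq_mul.mp e1).symm
      have hmap : ((fun f => u * f * u⁻¹ * f⁻¹) '' (E : Set P)) ⊆ (C : Set P) := by
        rintro _ ⟨f, hf, rfl⟩; exact hker f hf
      -- fibres of this map are cosets of `C`
      have hfib : ∀ c ∈ (C : Set P), ({f ∈ (E : Set P) | u * f * u⁻¹ * f⁻¹ = c}).ncard ≤ (C : Set P).ncard := by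
        intro c _
        rcases Set.eq_empty_or_nonempty {f ∈ (E : Set P) | u * f * u⁻¹ * f⁻¹ = c} with he | ⟨f₀, hf₀, hf₀c⟩
        · rw [he]; simp
        · refine Set.ncard_le_ncard_of_injOn (fun f => f₀⁻¹ * f) ?_ (fun a _ b _ h => mul_left_cancel h)
            (Set.toFinite _)
          rintro f ⟨hf, hfc⟩
          refine ⟨E.mul_mem (E.inv_mem hf₀) hf, Subgroup.mem_centralizer_singleton_iff.mpr ?_⟩
          rw [eq_comm, ← mul_inv_eq_iff_eq_mul,
            show u * (f₀⁻¹ * f) * u⁻¹ = (u * f₀ * u⁻¹)⁻¹ * (u * f * u⁻¹) by group]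
          rw [← hf₀c, mul_inv_eq_iff_eq_mul] at hfc
          rw [hfc]
          group
      have hE8' : 8 ≤ (E : Set P).ncard := by
        rwa [← Nat.card_coe_set_eq, SetLike.coe_sort_coe]
      classical
      have : Fintype P := Fintype.ofFinite P
      have h4 : (E : Set P).ncard ≤ 4 := by
        rw [Set.ncard_eq_toFinset_card' (E : Set P)]
        calc (E : Set P).toFinset.card
            ≤ (C : Set P).ncard * (C : Set P).toFinset.card := by
              refine Finset.card_le_mul_card_image_of_maps_to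
                (f := fun f => u * f * u⁻¹ * f⁻¹) (fun f hf => ?_) _ (fun c hc' => ?_)
              · exact Set.mem_toFinset.mpr (hker f (Set.mem_toFinset.mp hf))
              · refine le_trans (le_of_eq ?_) (hfib c (Set.mem_toFinset.mp hc'))
                rw [Set.ncard_eq_toFinset_card' {f ∈ (E : Set P) | u * f * u⁻¹ * f⁻¹ = c}]
                congr 1
                ext f; simp
          _ ≤ 2 * 2 := Nat.mul_le_mul hC2 (by rw [← Set.ncard_eq_toFinset_card']; exact hC2)
      omega
    have hw : orderOf w = 2 :=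
      Involutions.Basic.orderOf_two_iff.mpr ⟨by rw [← pow_two]; exact hE2 w hwE, hw1⟩
    obtain ⟨hZw, -⟩ := Involutions.TwoGroups.four_group hz hw (hzc w).symm (Ne.symm hwz)
    refine ⟨w, hwE, hwz, hw, (Relation.ReflTransGen.single hUZ).tail ⟨hZu, hZw, gen_comm z u z w ?_⟩⟩
    rintro x (rfl | rfl) y (rfl | rfl)
    · rfl
    · exact (hzc y).symm
    · exact hzc x
    · exact hwu
  intro U V hU hV
  obtain ⟨w₁, hw₁E, hw₁z, hw₁, h1⟩ := step U hU
  obtain ⟨w₂, hw₂E, hw₂z, hw₂, h2⟩ := step V hV
  refine h1.trans (Relation.ReflTransGen.head ⟨(Involutions.TwoGroups.four_group hz hw₁ (hzc _).symm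
    (Ne.symm hw₁z)).1, (Involutions.TwoGroups.four_group hz hw₂ (hzc _).symm (Ne.symm hw₂z)).1,
    gen_comm z w₁ z w₂ ?_⟩ (hsymm _ _ h2))
  rintro x (rfl | rfl) y (rfl | rfl)
  · rfl
  · exact (hzc y).symm
  · exact hzc x
  · exact hEc _ hw₁E _ hw₂E

end Cfsg.Agent.S0502
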