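import Cfsg.Statements.S0505
import Cfsg.Agent.Lib.Coprime.PGroup
import Cfsg.Agent.Lib.Cores.Fitting
import Cfsg.Agent.Lib.Involutions.TwoGroups

set_option autoImplicit false
open Cfsg

namespace Cfsg.Agent.S0505

theorem pCore_centric {C : Type*} [Group C] [Finite C] [Group.IsSolvable C]
    (hO : Cfsg.oddCore C = ⊥) : Subgroup.centralizer (Cfsg.pCore 2 C : Set C) ≤ Cfsg.pCore 2 C := by
  have hF : Cfsg.fittingSubgroup C = Cfsg.pCore 2 C := by
    have : Fact (Nat.Prime 2) := ⟨Nat.prime_two⟩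
    refine le_antisymm ?_ (Cores.pCore_le_fitting 2)
    rw [Cores.fittingSubgroup_eq_iSup]
    refine iSup_le fun q => ?_
    by_cases hq : (q : ℕ) = 2
    · rw [hq]
    · have hp : Nat.Prime (q : ℕ) := Nat.prime_of_mem_primeFactors q.2
      have : Fact (Nat.Prime (q : ℕ)) := ⟨hp⟩
      obtain ⟨k, hk⟩ := IsPGroup.iff_card.mp (Cores.pCore_isPGroup (G := C) (q : ℕ))
      have := Cores.le_oddCore (G := C) (N := Cfsg.pCore (q : ℕ) C)
        (by rw [hk]; exact (hp.odd_of_ne_two hq).pow)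
      rw [hO] at this
      exact this.trans bot_le
  have := Cores.centralizer_fittingSubgroup_le (G := C)
  rwa [hF] at this

/-- Let G be a finite group of even order in which the centralizer of every involution is solvable and has trivial
core (no nontrivial normal subgroup of odd order). Then G is of characteristic 2 type. -/
theorem result {G : Type*} [Group G] [Finite G]
    (h2 : Even (Nat.card G))
    (hs : ∀ t : G, orderOf t = 2 → Group.IsSolvable (Subgroup.centralizer ({t} : Set G)))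
    (hc : ∀ t : G, orderOf t = 2 → Cfsg.oddCore (Subgroup.centralizer ({t} : Set G)) = ⊥) :
    Cfsg.IsCharacteristicTwoType G := by
  have : Fact (Nat.Prime 2) := ⟨Nat.prime_two⟩
  refine ⟨h2, fun T hT hTne => ?_⟩
  have : Nontrivial T := (Subgroup.nontrivial_iff_ne_bot _).mpr hTne
  obtain ⟨⟨z, hzT⟩, hz, hzc⟩ := Involutions.TwoGroups.exists_central_involution hT
  rw [Subgroup.orderOf_mk] at hz
  set C := Subgroup.centralizer ({z} : Set G) with hC
  have : Group.IsSolvable ↥C := hs z hz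
  have hTC : T ≤ C := fun t ht => Subgroup.mem_centralizer_singleton_iff.mpr
    (congrArg Subtype.val (hzc ⟨t, ht⟩))
  have hCT : Subgroup.centralizer (T : Set G) ≤ C := fun g hg =>
    Subgroup.mem_centralizer_singleton_iff.mpr (Subgroup.mem_centralizer_iff.mp hg z hzT).symm
  set U : Subgroup G := (Cfsg.pCore 2 ↥C).map C.subtype with hU
  have hUC : C ⊓ Subgroup.centralizer (U : Set G) ≤ U := by
    rintro g ⟨hgC, hgU⟩
    refine ⟨⟨g, hgC⟩, pCore_centric (hc z hz) ?_, rfl⟩
    exact Subgroup.mem_centralizer_iff.mpr fun u hu =>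
      Subtype.ext (Subgroup.mem_centralizer_iff.mp hgU _ ⟨u, hu, rfl⟩)
  have hUp : IsPGroup 2 U := (Cores.pCore_isPGroup 2).map _
  have hCU : C ≤ Subgroup.normalizer (U : Set G) := by
    intro c hc'
    refine Subgroup.mem_normalizer_fintype ?_
    rintro _ ⟨u, hu, rfl⟩
    exact ⟨_, (Cfsg.pCore_normal 2 ↥C).conj_mem u hu ⟨c, hc'⟩, rfl⟩
  set H := Subgroup.normalizer (T : Set G) with hH
  -- `O(H) = 1`
  set O : Subgroup G := (Cfsg.oddCore ↥H).map H.subtype with hO
  have hOodd : Odd (Nat.card O) := by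
    rw [← Nat.card_congr ((Cfsg.oddCore ↥H).equivMapOfInjective _ Subtype.val_injective).toEquiv]
    exact Cores.oddCore_odd
  have hOcop : (Nat.card O).Coprime 2 := Nat.coprime_two_right.mpr hOodd
  have hOH : O ≤ H := Subgroup.map_subtype_le _
  have hHO : H ≤ Subgroup.normalizer (O : Set G) := by
    intro c hc'
    refine Subgroup.mem_normalizer_fintype ?_
    rintro _ ⟨u, hu, rfl⟩
    exact ⟨_, (Cfsg.pPrimeCore_normal 2 ↥H).conj_mem u hu ⟨c, hc'⟩, rfl⟩
  have meet : ∀ (A : Subgroup G), IsPGroup 2 A → A ⊓ O = ⊥ := fun A hA => by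
    obtain ⟨k, hk⟩ := IsPGroup.iff_card.mp hA
    exact (Subgroup.disjoint_of_coprime_natCard (hk ▸ Nat.Coprime.pow_left k hOcop.symm)).eq_bot
  have hOT : O ≤ Subgroup.centralizer (T : Set G) := by
    intro o ho
    rw [Subgroup.mem_centralizer_iff]
    intro t ht
    have h1 : t * o * t⁻¹ * o⁻¹ ∈ T ⊓ O := by
      refine ⟨?_, O.mul_mem ((Subgroup.mem_normalizer_iff.mp (hHO (Subgroup.le_normalizer ht)) o).mp ho)
        (O.inv_mem ho)⟩
      rw [show t * o * t⁻¹ * o⁻¹ = t * (o * t⁻¹ * o⁻¹) by group]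
      exact T.mul_mem ht ((Subgroup.mem_normalizer_iff.mp (hOH ho) t⁻¹).mp (T.inv_mem ht))
    rw [meet T hT, Subgroup.mem_bot, mul_inv_eq_one, mul_inv_eq_iff_eq_mul] at h1
    exact h1
  have hObot : O = ⊥ := by
    have hOC : O ≤ C := hOT.trans hCT
    have hOU : O ≤ Subgroup.centralizer (U : Set G) := by
      refine Coprime.le_centralizer_of_pxq hT hOcop hUp ?_ (hTC.trans hCU) (hOC.trans hCU) ?_
      · exact Subgroup.le_centralizer_iff.mp hOT
      · rintro u ⟨huU, huT⟩
        rw [Subgroup.mem_centralizer_iff]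
        intro o ho
        have h1 : o * u * o⁻¹ * u⁻¹ ∈ U ⊓ O := by
          refine ⟨U.mul_mem ((Subgroup.mem_normalizer_iff.mp (hCU (hOC ho)) u).mp huU) (U.inv_mem huU), ?_⟩
          rw [show o * u * o⁻¹ * u⁻¹ = o * (u * o⁻¹ * u⁻¹) by group]
          exact O.mul_mem ho ((Subgroup.mem_normalizer_iff.mp
            (hHO (Subgroup.centralizer_le_normalizer _ huT)) o⁻¹).mp (O.inv_mem ho))
        rw [meet U hUp, Subgroup.mem_bot, mul_inv_eq_one, mul_inv_eq_iff_eq_mul] at h1
        exact h1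
    rw [eq_bot_iff, ← meet U hUp]
    exact fun o ho => ⟨hUC ⟨hOC ho, hOU ho⟩, ho⟩
  -- the centralizer of `O₂(H)`
  have hOHbot : Cfsg.oddCore ↥H = ⊥ :=
    (Subgroup.map_eq_bot_iff_of_injective _ Subtype.val_injective).mp hObot
  unfold Cfsg.IsOfCharacteristicTwo
  set X := Subgroup.centralizer (Cfsg.pCore 2 ↥H : Set ↥H) with hX
  have hXn : X.Normal := by
    rw [hX]
    have := Cfsg.pCore_normal 2 ↥H
    infer_instance
  have hTle : T.subgroupOf H ≤ Cfsg.pCore 2 ↥H := by
    have : (T.subgroupOf H).Normal := Subgroup.normal_in_normalizer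
    exact Cores.le_pCore (hT.comap_of_injective _ Subtype.val_injective)
  have hXC : X.map H.subtype ≤ C := by
    rintro _ ⟨x, hx, rfl⟩
    apply hCT
    rw [Subgroup.mem_centralizer_iff]
    intro t ht
    exact congrArg Subtype.val (Subgroup.mem_centralizer_iff.mp hx ⟨t, Subgroup.le_normalizer ht⟩
      (hTle ht))
  have : Group.IsSolvable ↥X := by
    have hsC := hs z hz
    let f : ↥X →* ↥C := (H.subtype.comp X.subtype).codRestrict C (fun x => hXC ⟨x.1, x.2, rfl⟩)
    exact Group.isSolvable_of_isSolvable_injective (f := f) (fun a b e => by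
      apply Subtype.ext
      apply Subtype.ext
      have e' := congrArg (fun c : ↥C => (c : G)) e
      exact e')
  have hXodd : Cfsg.oddCore ↥X = ⊥ := by
    apply (Subgroup.map_eq_bot_iff_of_injective _ X.subtype_injective).mp
    rw [eq_bot_iff, ← hOHbot]
    exact Cores.map_pPrimeCore_subtype_le 2 X
  have hX2 : (Cfsg.pCore 2 ↥X).map X.subtype ≤ Cfsg.pCore 2 ↥H := Cores.map_pCore_subtype_le 2 X
  intro x hx
  refine hX2 ⟨⟨x, hx⟩, pCore_centric hXodd ?_, rfl⟩
  refine Subgroup.mem_centralizer_iff.mpr fun y hy => Subtype.ext ?_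
  exact Subgroup.mem_centralizer_iff.mp hx _ (hX2 ⟨y, hy, rfl⟩)

end Cfsg.Agent.S0505
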