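import Cfsg.Statements.S0520
import Cfsg.Agent.Lib.Involutions.Control
import Cfsg.Agent.Lib.Involutions.TwoGroups

set_option autoImplicit false
open Cfsg

namespace Cfsg.Agent.S0520

theorem rank_of_four {G : Type*} [Group G] {U Q : Subgroup G} (hU : IsKleinFour U) (h : U ≤ Q) :
    ¬ Cfsg.PRankLE 2 1 ↥Q := by
  intro hr
  have := IsKleinFour.isMulCommutative (G := U)
  have hc := hr (U.subgroupOf Q)
    ⟨⟨fun a b => Subtype.ext (Subtype.ext (congrArg Subtype.val
      (mul_comm' (⟨a.1.1, a.2⟩ : U) ⟨b.1.1, b.2⟩) :))⟩⟩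
    (fun a ha => Subtype.ext (by
      push_cast
      rw [pow_two]
      exact ((Involutions.TwoGroups.isKleinFour_iff U).mp hU).2 _ ha))
  rw [Nat.card_congr (Subgroup.subgroupOfEquivOfLe h).toEquiv, IsKleinFour.card_four] at hc
  norm_num at hc

theorem four_of_rank {G : Type*} [Group G] [Finite G] {Q : Subgroup G} (h : ¬ Cfsg.PRankLE 2 1 ↥Q) :
    ∃ U : Subgroup G, U ≤ Q ∧ IsKleinFour U := by
  unfold Cfsg.PRankLE at h
  push Not at h
  obtain ⟨A, hA, hA2, hAc⟩ := h
  rw [pow_one] at hAc
  obtain ⟨a, ha, ha1⟩ : ∃ a ∈ A, a ≠ 1 := by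
    by_contra hc; push Not at hc
    have : A = ⊥ := (Subgroup.eq_bot_iff_forall A).mpr hc
    rw [this, Subgroup.card_bot] at hAc
    omega
  obtain ⟨b, hb, hb1, hba⟩ : ∃ b ∈ A, b ≠ 1 ∧ b ≠ a := by
    by_contra hc; push Not at hc
    have hsub : (A : Set Q) ⊆ {1, a} := fun x hx => by
      by_cases e : x = 1
      · exact Or.inl e
      · exact Or.inr (hc x hx e)
    have := (Set.ncard_le_ncard hsub (Set.toFinite _)).trans (Set.ncard_insert_le _ _)
    rw [← Nat.card_coe_set_eq, SetLike.coe_sort_coe, Set.ncard_singleton] at this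
    omega
  have hoa : orderOf (a : G) = 2 := by
    rw [Subgroup.orderOf_coe]; exact orderOf_eq_prime (hA2 a ha) ha1
  have hob : orderOf (b : G) = 2 := by
    rw [Subgroup.orderOf_coe]; exact orderOf_eq_prime (hA2 b hb) hb1
  refine ⟨Subgroup.closure {(a : G), (b : G)}, ?_,
    (Involutions.TwoGroups.four_group hoa hob
      (congrArg (fun x : Q => (x : G)) (congrArg Subtype.val (mul_comm' (⟨a, ha⟩ : A) ⟨b, hb⟩) :) :)
      fun e => hba (Subtype.ext e).symm).1⟩
  rw [Subgroup.closure_le]
  rintro x (rfl | rfl)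
  · exact a.2
  · exact b.2

/-- Let G be a finite group of 2-rank at least 2 and S a Sylow 2-subgroup whose commuting graph of Klein four-subgroups is
connected. Then the commuting graph of Klein four-subgroups of G is disconnected if and only if the 2-generated core — the
subgroup generated by the normalizers N_G(Q) of the subgroups Q of S that contain a Klein four-group — is a proper
subgroup of G. -/
theorem result {G : Type*} [Group G] [Finite G] (h2 : ¬ Cfsg.PRankLE 2 1 G)
    (S : Sylow 2 G) (hS : Cfsg.IsFourConnected (S : Subgroup G)) :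
    ¬ Cfsg.IsFourConnected G ↔
      (⨆ Q : {Q : Subgroup G // Q ≤ (S : Subgroup G) ∧ ¬ Cfsg.PRankLE 2 1 Q},
          Subgroup.normalizer ((Q : Subgroup G) : Set G)) ≠ ⊤ := by
  have : Fact (Nat.Prime 2) := ⟨Nat.prime_two⟩
  set K := ⨆ Q : {Q : Subgroup G // Q ≤ (S : Subgroup G) ∧ ¬ Cfsg.PRankLE 2 1 Q},
    Subgroup.normalizer ((Q : Subgroup G) : Set G) with hK
  rw [ne_eq, not_iff_not]
  let R := fun A B : Subgroup G => IsKleinFour A ∧ IsKleinFour B ∧ ∀ a ∈ A, ∀ b ∈ B, a * b = b * a
  have hsymm : ∀ A B, Relation.ReflTransGen R A B → Relation.ReflTransGen R B A := fun A B h =>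
    (Relation.ReflTransGen.mono (fun x y (hxy : R y x) =>
      (⟨hxy.2.1, hxy.1, fun a ha b hb => (hxy.2.2 b hb a ha).symm⟩ : R x y)) _ _ h.swap)
  have conjKlein : ∀ (U : Subgroup G) (g : G), IsKleinFour U →
      IsKleinFour ↥(U.map (MulAut.conj g).toMonoidHom) := fun U g hU => by
    rw [Involutions.TwoGroups.isKleinFour_iff] at hU ⊢
    refine ⟨by rw [Transfer.Fusion.card_map_conj]; exact hU.1, ?_⟩
    rintro _ ⟨u, hu, rfl⟩
    rw [← map_mul, hU.2 u hu, map_one]
  have conjR : ∀ (g : G) (A B : Subgroup G), Relation.ReflTransGen R A B →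
      Relation.ReflTransGen R (A.map (MulAut.conj g).toMonoidHom) (B.map (MulAut.conj g).toMonoidHom) := by
    intro g A B h
    refine Relation.ReflTransGen.lift (fun X : Subgroup G => X.map (MulAut.conj g).toMonoidHom) ?_ A B h
    rintro X Y ⟨hX, hY, hXY⟩
    refine ⟨conjKlein X g hX, conjKlein Y g hY, ?_⟩
    rintro _ ⟨x, hx, rfl⟩ _ ⟨y, hy, rfl⟩
    rw [← map_mul, ← map_mul, hXY x hx y hy]
  have inS : ∀ U V : Subgroup G, U ≤ S → V ≤ S → IsKleinFour U → IsKleinFour V →
      Relation.ReflTransGen R U V := by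
    intro U V hU hV hU4 hV4
    have sub : ∀ W : Subgroup G, W ≤ S → IsKleinFour W →
        IsKleinFour ↥(W.subgroupOf (S : Subgroup G)) := by
      intro W hW hW4
      rw [Involutions.TwoGroups.isKleinFour_iff] at hW4 ⊢
      exact ⟨by rw [Nat.card_congr (Subgroup.subgroupOfEquivOfLe hW).toEquiv]; exact hW4.1,
        fun e he => Subtype.ext (hW4.2 _ he)⟩
    have h := hS _ _ (sub U hU hU4) (sub V hV hV4)
    have h' := Relation.ReflTransGen.lift (p := R)
      (fun X : Subgroup (S : Subgroup G) => X.map (S : Subgroup G).subtype) ?_ _ _ h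
    · simp only [Function.onFun] at h'
      rwa [Subgroup.map_subgroupOf_eq_of_le hU, Subgroup.map_subgroupOf_eq_of_le hV] at h'
    · rintro X Y ⟨hX, hY, hXY⟩
      have up : ∀ Z : Subgroup (S : Subgroup G), IsKleinFour Z →
          IsKleinFour ↥(Z.map (S : Subgroup G).subtype) := fun Z hZ => by
        rw [Involutions.TwoGroups.isKleinFour_iff] at hZ ⊢
        refine ⟨by rw [← Nat.card_congr (Z.equivMapOfInjective _ Subtype.val_injective).toEquiv]; exact hZ.1, ?_⟩
        rintro _ ⟨u, hu, rfl⟩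
        rw [← map_mul, hZ.2 u hu, map_one]
      refine ⟨up X hX, up Y hY, ?_⟩
      rintro _ ⟨x, hx, rfl⟩ _ ⟨y, hy, rfl⟩
      rw [← map_mul, ← map_mul, hXY x hx y hy]
  obtain ⟨U₀, hU₀S, hU₀⟩ : ∃ U : Subgroup G, U ≤ (S : Subgroup G) ∧ IsKleinFour U := by
    have h' : ¬ Cfsg.PRankLE 2 1 ↥(⊤ : Subgroup G) := by
      intro h
      apply h2
      intro A hA hA2
      let e : G ≃* (⊤ : Subgroup G) := Subgroup.topEquiv.symm
      rw [Nat.card_congr (A.equivMapOfInjective e.toMonoidHom e.injective).toEquiv]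
      refine h _ ⟨⟨?_⟩⟩ ?_
      · rintro ⟨_, a, ha, rfl⟩ ⟨_, b, hb, rfl⟩
        apply Subtype.ext
        show e a * e b = e b * e a
        rw [← map_mul, ← map_mul, show a * b = b * a from congrArg Subtype.val (mul_comm' (⟨a, ha⟩ : A) ⟨b, hb⟩)]
      · rintro _ ⟨a, ha, rfl⟩
        rw [← map_pow, hA2 a ha, map_one]
    obtain ⟨U, -, hU⟩ := four_of_rank h'
    have hp : IsPGroup 2 U := IsPGroup.of_card (n := 2) (by rw [IsKleinFour.card_four]; norm_num)
    obtain ⟨T, hT⟩ := hp.exists_le_sylow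
    obtain ⟨c, hc⟩ := MulAction.exists_smul_eq G T S
    refine ⟨U.map (MulAut.conj c).toMonoidHom, ?_, conjKlein U c hU⟩
    rw [← hc, Transfer.Fusion.coe_smul_eq_map]
    exact Subgroup.map_mono hT
  have hNK : ∀ X : Subgroup G, X ≤ (S : Subgroup G) → ¬ Cfsg.PRankLE 2 1 ↥X →
      Subgroup.normalizer (X : Set G) ≤ K := fun X hX hXr =>
    le_iSup (fun Q : {Q : Subgroup G // Q ≤ (S : Subgroup G) ∧ ¬ Cfsg.PRankLE 2 1 Q} =>
      Subgroup.normalizer ((Q : Subgroup G) : Set G)) ⟨X, hX, hXr⟩
  constructor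
  · intro hconn
    rw [eq_top_iff]
    intro g _
    have hSK : (S : Subgroup G) ≤ K :=
      Subgroup.le_normalizer.trans (hNK _ le_rfl (rank_of_four hU₀ hU₀S))
    have base : ∀ (U : Subgroup G) (c : G), IsKleinFour U → U ≤ (S : Subgroup G) →
        U.map (MulAut.conj c).toMonoidHom ≤ (S : Subgroup G) → c ∈ K := by
      intro U c hU hUS hc
      refine Involutions.Control.mem_of_conj_good K (S : Subgroup G) S.2 hSK
        (fun B hB hBK => Transfer.Fusion.exists_conj_le_of_isPGroup S hSK hB hBK)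
        (fun X => ∃ W ≤ X, IsKleinFour W) (fun A B hAB _ ⟨W, hW, hW4⟩ => ⟨W, hW.trans hAB, hW4⟩)
        (fun A c' ⟨W, hW, hW4⟩ => ⟨_, Subgroup.map_mono hW, conjKlein W c' hW4⟩)
        (fun X hX ⟨W, hW, hW4⟩ => hNK X hX (rank_of_four hW4 hW)) U hUS ⟨U, le_rfl, hU⟩ c hc
    have key : ∀ V : Subgroup G, Relation.ReflTransGen R U₀ V →
        ∀ c : G, V.map (MulAut.conj c).toMonoidHom ≤ (S : Subgroup G) → c ∈ K := by
      intro V hV
      induction hV with
      | refl => exact fun c hc => base U₀ c hU₀ hU₀S hc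
      | @tail X Y _ hXY ih =>
        intro c hc
        obtain ⟨hX, hY, hcomm⟩ := hXY
        have hnorm : X ≤ Subgroup.normalizer (Y : Set G) := fun x hx =>
          Subgroup.mem_normalizer_fintype fun y hy => by
            rw [hcomm x hx y hy, mul_inv_cancel_right]; exact hy
        have hpX : IsPGroup 2 X := IsPGroup.of_card (n := 2) (by rw [IsKleinFour.card_four]; norm_num)
        have hpY : IsPGroup 2 Y := IsPGroup.of_card (n := 2) (by rw [IsKleinFour.card_four]; norm_num)
        obtain ⟨T, hT⟩ := (hpX.to_sup_of_normal_right' hpY hnorm).exists_le_sylow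
        obtain ⟨d, hd⟩ := MulAction.exists_smul_eq G T S
        have hdle : (X ⊔ Y).map (MulAut.conj d).toMonoidHom ≤ (S : Subgroup G) := by
          rw [← hd, Transfer.Fusion.coe_smul_eq_map]
          exact Subgroup.map_mono hT
        have hdK : d ∈ K := ih d ((Subgroup.map_mono le_sup_left).trans hdle)
        have := base (Y.map (MulAut.conj d).toMonoidHom) (c * d⁻¹) (conjKlein Y d hY)
          ((Subgroup.map_mono le_sup_right).trans hdle) (by
            rw [← Transfer.Fusion.map_conj_mul, inv_mul_cancel_right]; exact hc)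
        simpa using K.mul_mem this hdK
    refine key _ (hconn U₀ (U₀.map (MulAut.conj g⁻¹).toMonoidHom) hU₀ (conjKlein _ _ hU₀)) g ?_
    rw [← Transfer.Fusion.map_conj_mul, mul_inv_cancel, Transfer.Fusion.map_conj_one]
    exact hU₀S
  · intro htop
    have hstab : ∀ g : G, Relation.ReflTransGen R U₀ (U₀.map (MulAut.conj g).toMonoidHom) := by
      let St : Subgroup G :=
        { carrier := {g | Relation.ReflTransGen R U₀ (U₀.map (MulAut.conj g).toMonoidHom)}
          mul_mem' := by
            intro a b ha hb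
            show Relation.ReflTransGen R U₀ _
            rw [Transfer.Fusion.map_conj_mul]
            exact Relation.ReflTransGen.trans ha (conjR a _ _ hb)
          one_mem' := by
            show Relation.ReflTransGen R U₀ _
            rw [Transfer.Fusion.map_conj_one]
          inv_mem' := by
            intro a ha
            have := conjR a⁻¹ _ _ (hsymm _ _ ha)
            rw [← Transfer.Fusion.map_conj_mul, inv_mul_cancel, Transfer.Fusion.map_conj_one] at this
            exact this }
      have hle : K ≤ St := by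
        rw [hK]
        refine iSup_le fun Q => ?_
        intro g hg
        obtain ⟨W, hWQ, hW⟩ := four_of_rank Q.2.2
        have hgW : W.map (MulAut.conj g).toMonoidHom ≤ (S : Subgroup G) := by
          rintro _ ⟨w, hw, rfl⟩
          exact Q.2.1 ((Subgroup.mem_normalizer_iff.mp hg w).mp (hWQ hw))
        show Relation.ReflTransGen R U₀ _
        exact (inS U₀ _ hU₀S hgW hU₀ (conjKlein W g hW)).trans
          (conjR g _ _ (inS W U₀ (hWQ.trans Q.2.1) hU₀S hW hU₀))
      intro g
      exact hle (htop ▸ Subgroup.mem_top g)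
    intro U V hU hV
    have conn : ∀ W : Subgroup G, IsKleinFour W → Relation.ReflTransGen R U₀ W := by
      intro W hW
      have hp : IsPGroup 2 W := IsPGroup.of_card (n := 2) (by rw [IsKleinFour.card_four]; norm_num)
      obtain ⟨T, hT⟩ := hp.exists_le_sylow
      obtain ⟨c, hc⟩ := MulAction.exists_smul_eq G T S
      have hle : W.map (MulAut.conj c).toMonoidHom ≤ (S : Subgroup G) := by
        rw [← hc, Transfer.Fusion.coe_smul_eq_map]
        exact Subgroup.map_mono hT
      have h1 := conjR c⁻¹ _ _ (inS U₀ _ hU₀S hle hU₀ (conjKlein W c hW))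
      rw [← Transfer.Fusion.map_conj_mul, inv_mul_cancel, Transfer.Fusion.map_conj_one] at h1
      exact (hstab c⁻¹).trans h1
    exact (hsymm _ _ (conn U hU)).trans (conn V hV)

end Cfsg.Agent.S0520
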