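import Cfsg.Statements.S0521
import Cfsg.Agent.OddLocal.Stability
import Cfsg.Agent.OddLocal.RankTwoAction
import Cfsg.Agent.Lib.PLocal.Quadratic
import Cfsg.Agent.Lib.Cores.Basic
-- import your own Cfsg.Agent.* helpers here

set_option autoImplicit false
open Cfsg

namespace Cfsg.Agent.S0521

open Subgroup in
open scoped commutatorElement in
/-- A Sylow subgroup with cyclic derived subgroup lies in `O_p` when `O_{p'} = 1`, odd order, solvable. -/
theorem sylow_le_pCore {Y : Type*} [Group Y] [Finite Y] [Group.IsSolvable Y] (hY : Odd (Nat.card Y))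
    {p : ℕ} [hp : Fact p.Prime] (hp2 : p ≠ 2) (h0 : Cfsg.pPrimeCore p Y = ⊥) (S : Sylow p Y)
    (hS : IsCyclic (commutator (S : Subgroup Y))) : (S : Subgroup Y) ≤ Cfsg.pCore p Y := by
  intro x hxS
  set P := Cfsg.pCore p Y with hP
  have hPp : IsPGroup p P := Cfsg.Agent.PLocal.Cores.isPGroup_pCore
  set N := (frattini P).map P.subtype with hN
  have hNn : N.Normal := inferInstance
  set f := QuotientGroup.mk' N with hf
  have hPS : P ≤ (S : Subgroup Y) := Cfsg.Agent.Cores.pCore_le_sylow S
  have hP' : (P.map f).Normal := Subgroup.Normal.map inferInstance f (QuotientGroup.mk'_surjective N)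
  set C := centralizer ((P.map f : Subgroup (Y ⧸ N)) : Set (Y ⧸ N)) with hC
  have hquad : ∀ v ∈ P.map f, Commute ⁅v, f x⁆ (f x) := by
    rintro _ ⟨u, hu, rfl⟩
    set φ : (S : Subgroup Y) →* Y ⧸ N := f.comp (S : Subgroup Y).subtype with hφ
    set K := commutator (S : Subgroup Y) ⊓ P.subgroupOf (S : Subgroup Y) with hK
    set M := K.map φ.rangeRestrict with hM
    have hRp : IsPGroup p φ.range := S.isPGroup'.of_surjective _ φ.rangeRestrict_surjective
    have hMn : M.Normal := Subgroup.Normal.map inferInstance _ φ.rangeRestrict_surjective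
    have hKc : IsCyclic K := Subgroup.isCyclic_of_le inf_le_left
    have hMc : IsCyclic M :=
      isCyclic_of_surjective (φ.rangeRestrict.subgroupMap K) (MonoidHom.subgroupMap_surjective _ _)
    have hMcard : Nat.card M ≤ p := by
      obtain ⟨⟨m, k, hk, rfl⟩, hg⟩ := IsCyclic.exists_generator (α := M)
      rw [← orderOf_eq_card_of_forall_mem_zpowers hg]
      refine Nat.le_of_dvd hp.out.pos (orderOf_dvd_of_pow_eq_one (Subtype.ext (Subtype.ext ?_)))
      show f (k : Y) ^ p = 1
      rw [← map_pow]
      have hkP : (k : Y) ∈ P := mem_subgroupOf.1 hk.2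
      exact (QuotientGroup.eq_one_iff _).2
        ⟨(⟨(k : Y), hkP⟩ : P) ^ p, Cfsg.Agent.Solvable.Basics.pow_mem_frattini hPp _, rfl⟩
    have hcen := Cfsg.Agent.OddLocal.RankTwoAction.le_center_of_card_le hRp M hMcard
    let s : (S : Subgroup Y) := ⟨x, hxS⟩
    let t : (S : Subgroup Y) := ⟨u, hPS hu⟩
    have hmem : φ.rangeRestrict ⁅t, s⁆ ∈ M := by
      refine ⟨⁅t, s⁆, ⟨commutator_mem_commutator (mem_top _) (mem_top _), mem_subgroupOf.2 ?_⟩, rfl⟩
      show ⁅u, x⁆ ∈ P
      rw [commutatorElement_def, show u * x * u⁻¹ * x⁻¹ = u * (x * u⁻¹ * x⁻¹) by group]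
      exact mul_mem hu (Subgroup.Normal.conj_mem inferInstance _ (inv_mem hu) x)
    have h2 := congrArg Subtype.val (Subgroup.mem_center_iff.1 (hcen hmem) (φ.rangeRestrict s))
    simp only [MonoidHom.coe_rangeRestrict, Subgroup.coe_mul, map_commutatorElement] at h2
    exact h2.symm
  have hoddq : Odd (Nat.card (Y ⧸ N)) := hY.of_dvd_nat (N.card_quotient_dvd_card)
  have h1 := Cfsg.Agent.OddLocal.Stability.quadratic_mem_pCore (G := Y ⧸ N) hp2 hoddq
    (P := P.map f) (C := C) le_rfl (hPp.map f) hquad
  have hker : IsPGroup p ((QuotientGroup.mk' C).comp f).ker := by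
    intro z
    obtain ⟨k, m, hm, hkm⟩ :=
      Nat.exists_eq_pow_mul_and_not_dvd (orderOf_pos (z : Y)).ne' p hp.out.ne_one
    refine ⟨k, Subtype.ext ?_⟩
    show (z : Y) ^ p ^ k = 1
    set h := (z : Y) ^ p ^ k with hh
    have hord : orderOf h = m := by
      rw [hh, orderOf_pow' _ (pow_ne_zero _ hp.out.ne_zero), hkm,
        Nat.gcd_eq_right (dvd_mul_right _ _), Nat.mul_div_cancel_left _ (pow_pos hp.out.pos _)]
    have hcop : (orderOf h).Coprime p := hord ▸ ((hp.out.coprime_iff_not_dvd).mpr hm).symm
    have hhC : f h ∈ C := by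
      have hz : QuotientGroup.mk' C (f (z : Y)) = 1 := z.2
      rw [hh, map_pow]
      exact pow_mem ((QuotientGroup.eq_one_iff _).1 hz) _
    have hcent : zpowers h ≤ centralizer (P : Set Y) := by
      refine Cfsg.Agent.Coprime.le_centralizer_of_frattini
        (fun _ _ => le_normalizer_of_normal (mem_top _)) ?_ ?_
      · obtain ⟨j, hj⟩ := (hPp.to_subgroup (frattini P)).exists_card_eq
        rw [Nat.card_zpowers, hj]
        exact hcop.pow_right j
      · intro a ha u hu
        have hfa : f a ∈ C := by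
          obtain ⟨i, rfl⟩ := Subgroup.mem_zpowers_iff.1 ha
          rw [map_zpow]
          exact zpow_mem hhC i
        refine (QuotientGroup.eq_one_iff _).1 ?_
        show f (a * u * a⁻¹ * u⁻¹) = 1
        have hc : f u * f a = f a * f u := mem_centralizer_iff.1 hfa (f u) ⟨u, hu, rfl⟩
        simp only [map_mul, map_inv]
        rw [← hc, mul_inv_cancel_right, mul_inv_cancel]
    have hhP : h ∈ P :=
      Cfsg.Agent.Solvable.Fitting.centralizer_pCore_le p h0 (hcent (mem_zpowers h))
    obtain ⟨j, hj⟩ := hPp ⟨h, hhP⟩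
    exact orderOf_eq_one_iff.1 (Nat.eq_one_of_dvd_coprimes (hcop.pow_right j) dvd_rfl
      (orderOf_dvd_of_pow_eq_one (congrArg Subtype.val hj)))
  have hsurj : Function.Surjective ((QuotientGroup.mk' C).comp f) := by
    intro y
    obtain ⟨y, rfl⟩ := QuotientGroup.mk'_surjective C y
    obtain ⟨y, rfl⟩ := QuotientGroup.mk'_surjective N y
    exact ⟨y, rfl⟩
  exact Cfsg.Agent.PLocal.Cores.comap_pCore_le hsurj hker h1

/-- Let X be a finite solvable group of odd order, p a prime and S a Sylow p-subgroup of X whose commutator subgroup is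
cyclic. Then the product of the largest normal subgroup of X of order prime to p with S is a normal subgroup of X. -/
theorem result {X : Type*} [Group X] [Finite X] [Group.IsSolvable X]
    (hX : Odd (Nat.card X)) (p : ℕ) [Fact p.Prime] (S : Sylow p X) (hS : IsCyclic (commutator (S : Subgroup X))) :
    (Cfsg.pPrimeCore p X ⊔ (S : Subgroup X)).Normal := by
  set K := Cfsg.pPrimeCore p X with hK
  set f := QuotientGroup.mk' K with hf
  have hfs : Function.Surjective f := QuotientGroup.mk'_surjective K
  let T : Sylow p (X ⧸ K) := S.mapSurjective hfs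
  have hT : (T : Subgroup (X ⧸ K)) = (S : Subgroup X).map f := rfl
  suffices hn : (T : Subgroup (X ⧸ K)).Normal by
    have h := hn.comap f
    rw [hT, Subgroup.comap_map_eq, QuotientGroup.ker_mk', sup_comm] at h
    exact h
  rcases eq_or_ne p 2 with rfl | hp2
  · have : (T : Subgroup (X ⧸ K)) = ⊥ := by
      obtain ⟨k, hk⟩ := T.isPGroup'.exists_card_eq
      rcases k with _ | k
      · exact Subgroup.eq_bot_of_card_eq _ (by rw [hk, pow_zero])
      · exfalso
        have h2 : Odd (Nat.card (T : Subgroup (X ⧸ K))) :=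
          (hX.of_dvd_nat K.card_quotient_dvd_card).of_dvd_nat (Subgroup.card_subgroup_dvd_card _)
        rw [hk, pow_succ] at h2
        exact (Nat.not_odd_iff_even.2 (Even.mul_left even_two _)) h2
    rw [this]
    infer_instance
  have hc : IsCyclic (commutator (T : Subgroup (X ⧸ K))) := by
    let ψ : (S : Subgroup X) →* (T : Subgroup (X ⧸ K)) := f.subgroupMap (S : Subgroup X)
    have hψ : Function.Surjective ψ := MonoidHom.subgroupMap_surjective _ _
    have hmap : (commutator (S : Subgroup X)).map ψ = commutator (T : Subgroup (X ⧸ K)) := by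
      rw [commutator_def, Subgroup.map_commutator, ← MonoidHom.range_eq_map,
        MonoidHom.range_eq_top.2 hψ, commutator_def]
    haveI := hS
    rw [← hmap]
    exact isCyclic_of_surjective (ψ.subgroupMap _) (MonoidHom.subgroupMap_surjective _ _)
  haveI : Group.IsSolvable (X ⧸ K) := Group.isSolvable_of_surjective hfs
  have hle := sylow_le_pCore (hX.of_dvd_nat K.card_quotient_dvd_card) hp2
    (Cfsg.Agent.Cores.pPrimeCore_quotient_self p) T hc
  have heq : (T : Subgroup (X ⧸ K)) = Cfsg.pCore p (X ⧸ K) :=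
    le_antisymm hle (Cfsg.Agent.Cores.pCore_le_sylow T)
  rw [heq]
  infer_instance

end Cfsg.Agent.S0521
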