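import Cfsg.Statements.S0522
import Cfsg.Agent.OddLocal.TransitivityLocal
-- import your own Cfsg.Agent.* helpers here

set_option autoImplicit false
open Cfsg

namespace Cfsg.Agent.S0522

/-- Transitivity Theorem (odd-order setting). Let X be a finite group of odd order in which the normalizer of every
nontrivial p-subgroup is solvable, P a Sylow p-subgroup, and B an abelian subgroup of P, normalized by P, with
C_P(B) = B and containing an elementary abelian subgroup of order p^3. Then for every prime q ≠ p, any two q-subgroups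
that are maximal among the q-subgroups normalized by B are conjugate by an element of the centralizer of B. -/
theorem result {X : Type*} [Group X] [Finite X] (hX : Odd (Nat.card X)) (p : ℕ)
    [Fact p.Prime] (hloc : ∀ T : Subgroup X, IsPGroup p T → T ≠ ⊥ → Group.IsSolvable (Subgroup.normalizer (T : Set X)))
    (P : Sylow p X) (B : Subgroup X) (hBP : B ≤ (P : Subgroup X))
    (hBn : ∀ x ∈ (P : Subgroup X), ∀ b ∈ B, x * b * x⁻¹ ∈ B) (hBa : IsMulCommutative B)
    (hBc : (P : Subgroup X) ⊓ Subgroup.centralizer (B : Set X) = B)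
    (hB3 : ∃ E : Subgroup X, E ≤ B ∧ (∀ e ∈ E, e ^ p = 1) ∧ p ^ 3 ≤ Nat.card E)
    (q : ℕ) [Fact q.Prime] (hqp : q ≠ p) (Q₁ Q₂ : Subgroup X)
    (h₁ : IsPGroup q Q₁ ∧ B ≤ Subgroup.normalizer (Q₁ : Set X) ∧
      ∀ R : Subgroup X, IsPGroup q R → B ≤ Subgroup.normalizer (R : Set X) → Q₁ ≤ R → R = Q₁)
    (h₂ : IsPGroup q Q₂ ∧ B ≤ Subgroup.normalizer (Q₂ : Set X) ∧
      ∀ R : Subgroup X, IsPGroup q R → B ≤ Subgroup.normalizer (R : Set X) → Q₂ ≤ R → R = Q₂) :
    ∃ c ∈ Subgroup.centralizer (B : Set X), Q₂ = Q₁.map (MulAut.conj c).toMonoidHom := by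
  have := hBa
  obtain ⟨E₀, hE₀B, hE₀p, hE₀c⟩ := hB3
  have hBcomm : ∀ a ∈ B, ∀ c ∈ B, a * c = c * a := fun a ha c hc => setLike_mul_comm (s := B) ha hc
  have hBp : IsPGroup p B := P.isPGroup'.to_le hBP
  obtain ⟨m, hm⟩ := (hBp.to_le hE₀B).exists_card_eq
  obtain ⟨E₁, hE₁⟩ := Sylow.exists_subgroup_card_pow_prime p (n := 3) (G := E₀) (by
    rw [hm]
    exact Nat.pow_dvd_pow p ((Nat.pow_le_pow_iff_right (Fact.out : p.Prime).one_lt).mp (hm ▸ hE₀c)))
  set E := E₁.map E₀.subtype with hEdef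
  have hEE₀ : E ≤ E₀ := Subgroup.map_subtype_le _
  have hEB : E ≤ B := hEE₀.trans hE₀B
  have hE : Cfsg.IsElementaryAbelian p E :=
    ⟨⟨⟨fun a c => Subtype.ext (hBcomm a (hEB a.2) c (hEB c.2))⟩⟩, fun e he => hE₀p e (hEE₀ he)⟩
  have hEc : Nat.card E = p ^ 3 := by
    rw [hEdef, Subgroup.card_map_of_injective E₀.subtype_injective, hE₁]
  have hrank : ¬ Cfsg.PRankLE p 1 ↥B := by
    intro h
    have h' : Nat.card (E.subgroupOf B) ≤ p ^ 1 :=
      h (E.subgroupOf B) inferInstance (fun e he =>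
        Subtype.ext (hE₀p (e : X) (hEE₀ (Subgroup.mem_subgroupOf.mp he))))
    rw [Nat.card_congr (Subgroup.subgroupOfEquivOfLe hEB).toEquiv, hEc] at h'
    exact absurd ((Nat.pow_le_pow_iff_right (Fact.out : p.Prime).one_lt).mp h') (by norm_num)
  have hPn : (P : Subgroup X) ≤ Subgroup.normalizer (B : Set X) :=
    Subgroup.le_normalizer_iff.mpr hBn
  have conv : ∀ Q : Subgroup X, (IsPGroup q Q ∧ B ≤ Subgroup.normalizer (Q : Set X) ∧
      ∀ R : Subgroup X, IsPGroup q R → B ≤ Subgroup.normalizer (R : Set X) → Q ≤ R → R = Q) →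
      Q ∈ Cfsg.maxInvSubgroups ⊤ B {q} := fun Q hQ =>
    ⟨⟨le_top, Cfsg.Agent.OddLocal.Transitivity.isPi_of_isPGroup hQ.1, hQ.2.1⟩, fun R hR hle =>
      hQ.2.2 R (Cfsg.Agent.OddLocal.Transitivity.isPGroup_of_mem hR.2.1) hR.2.2 hle⟩
  refine Cfsg.Agent.OddLocal.TransitivityLocal.transitive hBp hEB
    (fun a ha => Subgroup.mem_centralizer_iff.mpr fun e he => hBcomm e (hEB he) a ha)
    hE hEc hqp ?_ (conv _ h₁) (conv _ h₂)
  intro b hb hb1 Y hY hYc hBY
  exact Cfsg.Agent.OddLocal.TransitivityLocal.le_core_of_scn hX hloc P ⟨hBP, hPn, hBc⟩ hBa hrank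
    (Cfsg.Agent.OddLocal.TransitivityLocal.solvable_centralizer hloc
      (hBp.to_le (Subgroup.zpowers_le.mpr (hEB hb))) hb1)
    (fun a ha => Subgroup.mem_centralizer_singleton_iff.mpr (hBcomm a ha b (hEB hb)))
    hY hYc hBY

end Cfsg.Agent.S0522
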