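import Cfsg.Statements.S0531
import Cfsg.Agent.Lib.Hall.Supersolvable

set_option autoImplicit false
open Cfsg

namespace Cfsg.Agent.S0531

/-- A finite supersolvable group has a subgroup of each order dividing its order. -/
theorem result {G : Type*} [Group G] [Finite G] (hG : Cfsg.IsSupersolvable G) : Cfsg.HasSubgroupOfEveryOrder G := by
  refine Hall.Supersolvable.induction_prime (motive := fun G _ => Cfsg.HasSubgroupOfEveryOrder G)
    ?_ ?_ G hG
  · intro G _ _ h d hd
    rw [Nat.card_of_subsingleton (1 : G), Nat.dvd_one] at hd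
    exact ⟨⊥, by rw [Subgroup.card_bot, hd]⟩
  · intro G _ _ _ P _ hq h d hd
    set q := Nat.card P with hqdef
    by_cases hqd : q ∣ d
    · obtain ⟨d', rfl⟩ := hqd
      obtain ⟨L, hL⟩ := h d' (by
        rw [P.card_eq_card_quotient_mul_card_subgroup, mul_comm (Nat.card (G ⧸ P))] at hd
        exact Nat.dvd_of_mul_dvd_mul_left hq.pos hd)
      exact ⟨L.comap (QuotientGroup.mk' P), by rw [Cores.card_comap_mk', hL]⟩
    · have hcop : d.Coprime q := (hq.coprime_iff_not_dvd.2 hqd).symm
      obtain ⟨L, hL⟩ := h d (by
        rw [P.card_eq_card_quotient_mul_card_subgroup] at hd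
        exact hcop.dvd_of_dvd_mul_right hd)
      set K := L.comap (QuotientGroup.mk' P) with hKdef
      have hPK : P ≤ K := fun x hx => by
        rw [hKdef, Subgroup.mem_comap,
          show QuotientGroup.mk' P x = 1 from (QuotientGroup.eq_one_iff x).2 hx]
        exact L.one_mem
      have hcP : Nat.card (P.subgroupOf K) = q :=
        Nat.card_congr (Subgroup.subgroupOfEquivOfLe hPK).toEquiv
      have hK : Nat.card K = q * d := by rw [hKdef, Cores.card_comap_mk', hL]
      have hPi : (P.subgroupOf K).index = d := by
        have h1 := (P.subgroupOf K).card_mul_index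
        rw [hcP, hK] at h1
        exact Nat.eq_of_mul_eq_mul_left hq.pos h1
      obtain ⟨C, hC⟩ := Subgroup.exists_right_complement'_of_coprime (N := P.subgroupOf K)
        (by rw [hcP, hPi]; exact hcop.symm)
      exact ⟨C.map K.subtype, by
        rw [Subgroup.card_map_of_injective K.subtype_injective, ← hC.symm.index_eq_card, hPi]⟩

end Cfsg.Agent.S0531
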