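import Cfsg.Statements.S0532
import Cfsg.Agent.Lib.Cores.Basic

set_option autoImplicit false
open Cfsg

namespace Cfsg.Agent.S0532

theorem aux (n : ℕ) : ∀ (G : Type*) [Group G] [Finite G], Nat.card G = n →
    (∀ H : Subgroup G, Cfsg.HasSubgroupOfEveryOrder H) → ∀ (p : ℕ) [Fact p.Prime],
      (∀ q : ℕ, q.Prime → q ∣ Nat.card G → q ≤ p) → ∀ P : Sylow p G, (P : Subgroup G).Normal := by
  induction n using Nat.strong_induction_on with
  | _ n ih =>
    intro G _ _ hn h p hp hmax P
    by_cases hG1 : Nat.card G = 1
    · haveI := (Nat.card_eq_one_iff_unique.1 hG1).1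
      rw [Subgroup.eq_bot_of_subsingleton (P : Subgroup G)]
      infer_instance
    set q := (Nat.card G).minFac with hqdef
    have hq : q.Prime := Nat.minFac_prime hG1
    by_cases hqp : q = p
    · have htop : (P : Subgroup G) = ⊤ := by
        refine Subgroup.eq_top_of_card_eq _ (Nat.dvd_antisymm (Subgroup.card_subgroup_dvd_card _) ?_)
        rw [Nat.dvd_iff_prime_pow_dvd_dvd]
        intro r k hr hd
        rcases Nat.eq_zero_or_pos k with rfl | hk
        · simp
        have hrd : r ∣ Nat.card G := (dvd_pow_self r hk.ne').trans hd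
        obtain rfl : r = p := le_antisymm (hmax r hr hrd) (hqp ▸ Nat.minFac_le_of_dvd hr.two_le hrd)
        exact P.pow_dvd_card_of_pow_dvd_card hd
      rw [htop]
      infer_instance
    obtain ⟨H₀, hH₀⟩ := h ⊤ (Nat.card G / q) (by
      rw [Subgroup.card_top]; exact Nat.div_dvd_of_dvd (Nat.minFac_dvd _))
    set H := H₀.map (⊤ : Subgroup G).subtype
    have hHc : Nat.card H = Nat.card G / q := by
      rw [Subgroup.card_map_of_injective (Subgroup.subtype_injective _), hH₀]
    have hHi : H.index = q := by
      refine Nat.eq_of_mul_eq_mul_left (Nat.card_pos (α := H)) ?_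
      rw [H.card_mul_index, hHc, Nat.div_mul_cancel (Nat.minFac_dvd _)]
    haveI hHn : H.Normal := Subgroup.normal_of_index_eq_minFac_card hHi
    have hlt : Nat.card H < n := by
      rw [← hn, ← H.card_mul_index, hHi]
      exact lt_mul_of_one_lt_right Nat.card_pos hq.one_lt
    obtain ⟨Q⟩ : Nonempty (Sylow p H) := inferInstance
    have hQn : (Q : Subgroup H).Normal := by
      refine ih _ hlt H rfl (fun L d hd => ?_) p
        (fun r hr hd => hmax r hr (hd.trans H.card_subgroup_dvd_card)) Q
      let L' := L.map H.subtype
      let e : L ≃* L' := L.equivMapOfInjective _ H.subtype_injective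
      obtain ⟨M, hM⟩ := h L' d (by rwa [← Nat.card_congr e.toEquiv])
      exact ⟨M.map e.symm.toMonoidHom,
        by rw [Subgroup.card_map_of_injective e.symm.injective, hM]⟩
    haveI : (Q : Subgroup H).Characteristic := Q.characteristic_of_normal hQn
    have hQP : (Q : Subgroup H).map H.subtype = P := by
      have hle : (Q : Subgroup H).map H.subtype ≤ P :=
        IsPGroup.le_sylow_of_normal (Q.isPGroup'.map _) P
      refine Subgroup.eq_of_le_of_card_ge hle (le_of_eq ?_)
      rw [Subgroup.card_map_of_injective H.subtype_injective, Q.card_eq_multiplicity,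
        P.card_eq_multiplicity, ← H.card_mul_index, hHi,
        Nat.factorization_mul Nat.card_pos.ne' hq.ne_zero, Finsupp.add_apply, hq.factorization,
        Finsupp.single_eq_of_ne (Ne.symm hqp), add_zero]
    rw [← hQP]
    infer_instance

/-- If each subgroup of a finite group satisfies the converse of Lagrange's theorem, then a Sylow subgroup for the largest prime dividing the group order is normal. -/
theorem result {G : Type*} [Group G] [Finite G] (h : ∀ H : Subgroup G, Cfsg.HasSubgroupOfEveryOrder H) (p : ℕ) [Fact p.Prime] (hdvd : p ∣ Nat.card G) (hmax : ∀ q : ℕ, q.Prime → q ∣ Nat.card G → q ≤ p) (P : Sylow p G) : (P : Subgroup G).Normal := by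
  exact aux _ G rfl h p hmax P

end Cfsg.Agent.S0532
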