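import Cfsg.Statements.S0529
import Cfsg.Agent.Lib.Hall.Supersolvable
import Cfsg.Agent.S0531
import Cfsg.Agent.S0532

set_option autoImplicit false
open Cfsg

namespace Cfsg.Agent.S0529

theorem aux (n : ℕ) : ∀ (G : Type*) [Group G] [Finite G], Nat.card G = n →
    Cfsg.IsSupersolvable G →
      ∃ (n : ℕ) (H : Fin (n + 1) → Subgroup G), H 0 = ⊥ ∧ H (Fin.last n) = ⊤ ∧ (∀ i, (H i).Normal) ∧
        (∀ i : Fin n, H i.castSucc ≤ H i.succ ∧ ((H i.castSucc).relIndex (H i.succ)).Prime) ∧
        (∀ i : Fin n, (H i.castSucc).relIndex (H i.succ) ∣ Nat.card G) ∧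
        ∀ i j : Fin n, i ≤ j →
          (H j.castSucc).relIndex (H j.succ) ≤ (H i.castSucc).relIndex (H i.succ) := by
  induction n using Nat.strong_induction_on with
  | _ n ih =>
    intro G _ _ hn hG
    rcases subsingleton_or_nontrivial G with h | h
    · exact ⟨0, fun _ => ⊥, rfl, Subsingleton.elim _ _, fun _ => inferInstance,
        fun i => i.elim0, fun i => i.elim0, fun i => i.elim0⟩
    have hne : (Nat.card G).primeFactors.Nonempty :=
      Nat.nonempty_primeFactors.2 Finite.one_lt_card
    obtain ⟨p, hp, hmax⟩ : ∃ p ∈ (Nat.card G).primeFactors, ∀ q ∈ (Nat.card G).primeFactors, q ≤ p :=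
      ⟨_, Finset.max'_mem _ hne, fun q hq => Finset.le_max' _ q hq⟩
    obtain ⟨hpp, hpd, -⟩ := Nat.mem_primeFactors.1 hp
    haveI : Fact p.Prime := ⟨hpp⟩
    obtain ⟨S⟩ : Nonempty (Sylow p G) := inferInstance
    haveI : (S : Subgroup G).Normal :=
      S0532.result (fun H => S0531.result (Hall.Supersolvable.to_subgroup hG H)) p hpd
        (fun q hq hd => hmax q (Nat.mem_primeFactors.2 ⟨hq, hd, Nat.card_pos.ne'⟩)) S
    obtain ⟨P, hPn, hPS, hPp⟩ := Hall.Supersolvable.exists_normal_prime_le hG (S : Subgroup G)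
      (S.ne_bot_of_dvd_card hpd)
    have hPc : Nat.card P = p := by
      obtain ⟨k, hk⟩ := IsPGroup.iff_card.1 (S.isPGroup'.to_le hPS)
      exact (Nat.prime_dvd_prime_iff_eq hPp hpp).1 (hPp.dvd_of_dvd_pow (n := k) (by rw [← hk]))
    obtain ⟨m, T, T0, T1, Tn, Ts, Td, Tm⟩ := ih _ (hn ▸ Hall.Supersolvable.card_quotient_lt
      hPp.one_lt) (G ⧸ P) rfl (Hall.Supersolvable.quotient hG P)
    let f := QuotientGroup.mk' P
    have hf : Function.Surjective f := QuotientGroup.mk'_surjective P
    let U : Fin (m + 1 + 1) → Subgroup G := Fin.cases ⊥ (fun i => (T i).comap f)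
    have U0 : U 0 = ⊥ := rfl
    have Us : ∀ i, U i.succ = (T i).comap f := fun i => Fin.cases_succ _
    have hr : ∀ i : Fin m, (U i.succ.castSucc).relIndex (U i.succ.succ) =
        (T i.castSucc).relIndex (T i.succ) := by
      intro i
      rw [← Fin.succ_castSucc, Us, Us, Subgroup.relIndex_comap,
        Subgroup.map_comap_eq_self_of_surjective hf]
    have hr0 : (U (0 : Fin (m + 1)).castSucc).relIndex (U (0 : Fin (m + 1)).succ) = p := by
      rw [Fin.castSucc_zero, U0, Us, T0, MonoidHom.comap_bot, QuotientGroup.ker_mk',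
        Subgroup.relIndex_bot_left, hPc]
    have hle : ∀ i : Fin m, (T i.castSucc).relIndex (T i.succ) ≤ p := fun i =>
      hmax _ (Nat.mem_primeFactors.2 ⟨(Ts i).2, (Td i).trans P.card_quotient_dvd_card,
        Nat.card_pos.ne'⟩)
    refine ⟨m + 1, U, U0, ?_, ?_, ?_, ?_, ?_⟩
    · rw [show Fin.last (m + 1) = (Fin.last m).succ from rfl, Us, T1, Subgroup.comap_top]
    · intro i
      induction i using Fin.cases with
      | zero => exact inferInstanceAs (⊥ : Subgroup G).Normal
      | succ i => rw [Us]; exact (Tn i).comap f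
    · intro i
      induction i using Fin.cases with
      | zero => exact ⟨by rw [Fin.castSucc_zero, U0]; exact bot_le, hr0.symm ▸ hpp⟩
      | succ i =>
        refine ⟨?_, hr i ▸ (Ts i).2⟩
        rw [← Fin.succ_castSucc, Us, Us]
        exact Subgroup.comap_mono (Ts i).1
    · intro i
      induction i using Fin.cases with
      | zero => exact hr0.symm ▸ hpd
      | succ i => rw [hr]; exact (Td i).trans P.card_quotient_dvd_card
    · intro i j hij
      induction i using Fin.cases with
      | zero =>
        rw [hr0]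
        induction j using Fin.cases with
        | zero => exact hr0.le
        | succ j => rw [hr]; exact hle j
      | succ i =>
        induction j using Fin.cases with
        | zero => exact absurd hij (by simp)
        | succ j => rw [hr, hr]; exact Tm i j (Fin.succ_le_succ_iff.1 hij)

/-- A finite supersolvable group has a chain of normal subgroups, from the trivial subgroup to the whole group, in which every step has prime index and the primes occurring are non-increasing as one goes up the chain. -/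
theorem result {G : Type*} [Group G] [Finite G] (hG : Cfsg.IsSupersolvable G) : ∃ (n : ℕ) (H : Fin (n + 1) → Subgroup G), H 0 = ⊥ ∧ H (Fin.last n) = ⊤ ∧ (∀ i, (H i).Normal) ∧ (∀ i : Fin n, H i.castSucc ≤ H i.succ ∧ ((H i.castSucc).relIndex (H i.succ)).Prime) ∧ ∀ i j : Fin n, i ≤ j → (H j.castSucc).relIndex (H j.succ) ≤ (H i.castSucc).relIndex (H i.succ) := by
  obtain ⟨n, H, h0, h1, h2, h3, -, h4⟩ := aux _ G rfl hG
  exact ⟨n, H, h0, h1, h2, h3, h4⟩

end Cfsg.Agent.S0529
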