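import Cfsg.Statements.S0530
import Cfsg.Agent.SolvStruct.Huppert
import Cfsg.Agent.SolvStruct.TwoPrimes

set_option autoImplicit false
open Cfsg

namespace Cfsg.Agent.S0530

open scoped commutatorElement in
theorem aux (p : ℕ) [hp : Fact p.Prime] (n : ℕ) : ∀ (G : Type*) [Group G] [Finite G],
    Nat.card G = n → (∃ k : ℕ, n ∣ 2 * p ^ k) → Cfsg.IsSupersolvable G := by
  induction n using Nat.strong_induction_on with
  | _ n ih =>
    intro G _ _ hn hdvd
    obtain ⟨k, hk⟩ := hdvd
    rw [← hn] at hk
    rcases subsingleton_or_nontrivial G with hG | hG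
    · exact Hall.Supersolvable.of_subsingleton
    haveI hsolv : Group.IsSolvable G := by
      refine SolvStruct.isSolvable_of_primeFactors_card_le_two ?_
      refine (Finset.card_le_card (t := {2, p}) fun q hq => ?_).trans Finset.card_le_two
      obtain ⟨hq1, hq2, -⟩ := Nat.mem_primeFactors.1 hq
      rcases hq1.dvd_mul.1 (hq2.trans hk) with h | h
      · simp [(Nat.prime_dvd_prime_iff_eq hq1 Nat.prime_two).1 h]
      · simp [(Nat.prime_dvd_prime_iff_eq hq1 hp.out).1 (hq1.dvd_of_dvd_pow h)]
    obtain ⟨M, hMn, -, hM, hmin⟩ := Hall.exists_minimal_normal (⊤ : Subgroup G) top_ne_bot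
    suffices hc : (Nat.card M).Prime by
      haveI := Fact.mk hc
      haveI : IsCyclic M := isCyclic_of_prime_card rfl
      exact Hall.Supersolvable.of_normal_cyclic M
        (ih _ (hn ▸ Hall.Supersolvable.card_quotient_lt hc.one_lt) _ rfl
          ⟨k, M.card_quotient_dvd_card.trans hk⟩)
    obtain ⟨r, hr, hrd, hrg, hel⟩ := Hall.minimal_normal_isElementaryAbelian hM hmin
    obtain ⟨j, hj⟩ : ∃ j : ℕ, Nat.card M = r ^ j := haveI := Fact.mk hr; IsPGroup.iff_card.1 hrg
    by_cases hrp : r = p
    · subst hrp
      obtain ⟨P⟩ : Nonempty (Sylow r G) := inferInstance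
      have hPi : (P : Subgroup G).index ∣ 2 := by
        have h1 : (P : Subgroup G).index.Coprime (r ^ k) :=
          (Nat.Coprime.pow_right k ((hp.out.coprime_iff_not_dvd.2 P.not_dvd_index).symm))
        exact h1.dvd_of_dvd_mul_right ((P : Subgroup G).index_dvd_card.trans hk)
      haveI hPn : (P : Subgroup G).Normal := by
        rcases (Nat.dvd_prime Nat.prime_two).1 hPi with h | h
        · rw [Subgroup.index_eq_one.1 h]
          infer_instance
        · exact Subgroup.normal_of_index_eq_two h
      haveI : Group.IsNilpotent (P : Subgroup G) := P.isPGroup'.isNilpotent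
      have hMP : M ≤ (P : Subgroup G) := IsPGroup.le_sylow_of_normal hrg P
      have hPc := Cores.le_centralizer_minimal_normal hMP hM hmin
      have hD : SolvStruct.Huppert.powerResidual (r - 1) G ≤ (P : Subgroup G) := by
        refine SolvStruct.Huppert.powerResidual_le (fun g h => ?_) fun g => ?_
        · rcases (Nat.dvd_prime Nat.prime_two).1 hPi with h' | h'
          · rw [Subgroup.index_eq_one.1 h']
            trivial
          · rw [← QuotientGroup.eq_one_iff]
            haveI : Fact (Nat.Prime 2) := ⟨Nat.prime_two⟩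
            haveI : IsCyclic (G ⧸ (P : Subgroup G)) := isCyclic_of_prime_card h'
            letI : CommGroup (G ⧸ (P : Subgroup G)) := IsCyclic.commGroup
            change QuotientGroup.mk' (P : Subgroup G) ⁅g, h⁆ = 1
            rw [map_commutatorElement, commutatorElement_eq_one_iff_commute]
            exact mul_comm _ _
        · have hdiv : (P : Subgroup G).index ∣ r - 1 := by
            rcases (Nat.dvd_prime Nat.prime_two).1 hPi with h' | h'
            · rw [h']; exact one_dvd _
            · rw [h']
              have hr2 : r ≠ 2 := fun h2 => P.not_dvd_index (by rw [h', h2])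
              obtain ⟨m, hm⟩ := hp.out.odd_of_ne_two hr2
              exact ⟨m, by omega⟩
          obtain ⟨c, hc⟩ := hdiv
          rw [hc, pow_mul]
          exact Subgroup.pow_mem _ (Subgroup.pow_index_mem _ g) c
      obtain ⟨Q, hQn, hQM, hQc⟩ := SolvStruct.Huppert.exists_normal_prime hM hel (hD.trans hPc)
      rcases hmin Q hQn hQM with hb | hb
      · rw [hb, Subgroup.card_bot] at hQc
        exact absurd hQc hp.out.one_lt.ne
      · rw [← hb, hQc]
        exact hp.out
    · have h1 : Nat.card M ∣ 2 := by
        refine Nat.Coprime.dvd_of_dvd_mul_right ?_ (M.card_subgroup_dvd_card.trans hk)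
        rw [hj]
        exact Nat.Coprime.pow j k ((Nat.coprime_primes hr hp.out).2 hrp)
      rcases (Nat.dvd_prime Nat.prime_two).1 h1 with h | h
      · exact absurd (M.eq_bot_of_card_eq h) hM
      · rw [h]
        exact Nat.prime_two

/-- A finite group whose order is twice a prime power is supersolvable. -/
theorem result {G : Type*} [Group G] [Finite G] (p n : ℕ) (hp : p.Prime) (hG : Nat.card G = 2 * p ^ n) : Cfsg.IsSupersolvable G := by
  haveI := Fact.mk hp
  exact aux p _ G rfl ⟨n, hG ▸ dvd_rfl⟩

end Cfsg.Agent.S0530
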