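import Cfsg.Statements.S0533
import Cfsg.Agent.SolvStruct.Huppert
import Cfsg.Agent.S0532
import Cfsg.Agent.SolvStruct.TwoPrimes

set_option autoImplicit false
open Cfsg

namespace Cfsg.Agent.S0533

open scoped commutatorElement in
theorem aux (n : ℕ) : ∀ (G : Type*) [Group G] [Finite G], Nat.card G = n →
    (∀ H : Subgroup G, Cfsg.HasSubgroupOfEveryOrder H) → Cfsg.IsSupersolvable G := by
  induction n using Nat.strong_induction_on with
  | _ n ih =>
    intro G _ _ hn h
    have hsub : ∀ K : Subgroup G, K ≠ ⊤ → Cfsg.IsSupersolvable K := by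
      intro K hK
      have hlt : Nat.card K < n := hn ▸ lt_of_le_of_ne K.card_le_card_group
        fun he => hK (K.eq_top_of_card_eq he)
      refine ih _ hlt K rfl fun L d hd => ?_
      let e : L ≃* L.map K.subtype := L.equivMapOfInjective _ K.subtype_injective
      obtain ⟨M, hM⟩ := h (L.map K.subtype) d (by rwa [← Nat.card_congr e.toEquiv])
      exact ⟨M.map e.symm.toMonoidHom,
        by rw [Subgroup.card_map_of_injective e.symm.injective, hM]⟩
    refine SolvStruct.Huppert.isSupersolvable_of_prime_index G fun M hM => ?_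
    have hne : (Nat.card G).primeFactors.Nonempty := by
      refine Nat.nonempty_primeFactors.2 ?_
      by_contra hh
      push Not at hh
      exact hM.1 (Subgroup.eq_top_of_card_eq _ (le_antisymm M.card_le_card_group
        (hh.trans Nat.card_pos)))
    obtain ⟨p, hp, hmax⟩ : ∃ p ∈ (Nat.card G).primeFactors, ∀ q ∈ (Nat.card G).primeFactors, q ≤ p :=
      ⟨_, Finset.max'_mem _ hne, fun q hq => Finset.le_max' _ q hq⟩
    obtain ⟨hpp, hpd, -⟩ := Nat.mem_primeFactors.1 hp
    haveI : Fact p.Prime := ⟨hpp⟩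
    obtain ⟨P⟩ : Nonempty (Sylow p G) := inferInstance
    haveI hPn : (P : Subgroup G).Normal :=
      S0532.result h p hpd (fun q hq hd => hmax q (Nat.mem_primeFactors.2 ⟨hq, hd, Nat.card_pos.ne'⟩)) P
    set S : Subgroup G := (P : Subgroup G) with hS
    have hS0 : S ≠ ⊥ := P.ne_bot_of_dvd_card hpd
    by_cases hSM : S ≤ M
    · obtain ⟨K, hK⟩ := Subgroup.exists_right_complement'_of_coprime (N := S) P.card_coprime_index
      have hKtop : K ≠ ⊤ := by
        intro ht
        have h1 := hK.disjoint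
        rw [disjoint_iff, ht, inf_top_eq] at h1
        exact hS0 h1
      have hq : Cfsg.IsSupersolvable (G ⧸ S) :=
        Hall.Supersolvable.of_mulEquiv (hsub K hKtop) hK.symm.QuotientMulEquiv.symm
      have hk : (QuotientGroup.mk' S).ker ≤ M := by rwa [QuotientGroup.ker_mk']
      rw [← Subgroup.index_map_eq _ (QuotientGroup.mk'_surjective S) hk]
      refine Hall.Supersolvable.index_coatom_prime hq ⟨fun ht => hM.1 ?_, fun L hL => ?_⟩
      · rw [← Subgroup.comap_map_eq_self hk, ht, Subgroup.comap_top]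
      · rw [← Subgroup.map_comap_eq_self_of_surjective (QuotientGroup.mk'_surjective S) L,
          hM.2 (L.comap (QuotientGroup.mk' S)) ?_,
          Subgroup.map_top_of_surjective _ (QuotientGroup.mk'_surjective S)]
        refine lt_of_le_of_ne ((Subgroup.le_comap_map _ _).trans (Subgroup.comap_mono hL.le))
          fun he => hL.ne ?_
        rw [he, Subgroup.map_comap_eq_self_of_surjective (QuotientGroup.mk'_surjective S)]
    -- `S` is not contained in `M`
    have hSn : Group.IsNilpotent S := P.isPGroup'.isNilpotent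
    have hMS : M ⊔ S = ⊤ := hM.2 _ (lt_of_le_of_ne le_sup_left fun he => hSM (he ▸ le_sup_right))
    set D₀ : Subgroup G := M ⊓ S with hD₀
    have hlt : D₀ < S := lt_of_le_of_ne inf_le_right fun he => hSM (he ▸ inf_le_left)
    have hNM : M ≤ Subgroup.normalizer (D₀ : Set G) :=
      SolvStruct.le_normalizer_of_conj_mem fun g hg x hx =>
        ⟨M.mul_mem (M.mul_mem hg hx.1) (M.inv_mem hg), hPn.conj_mem x hx.2 g⟩
    haveI hD₀n : D₀.Normal := by
      have hnc := normalizerCondition_of_isNilpotent (G := S) (D₀.subgroupOf S)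
        (lt_top_iff_ne_top.2 fun ht => hlt.not_ge (Subgroup.subgroupOf_eq_top.1 ht))
      obtain ⟨x, hx, hxn⟩ := SetLike.exists_of_lt hnc
      have hxN : (x : G) ∈ Subgroup.normalizer (D₀ : Set G) := by
        rw [Subgroup.mem_normalizer_iff]
        intro y
        constructor
        · intro hy
          exact ((Subgroup.mem_normalizer_iff.1 hx ⟨y, hy.2⟩).1 hy :)
        · intro hy
          have hyS : y ∈ S := by
            have h2 := S.mul_mem (S.mul_mem (S.inv_mem x.2) hy.2) x.2
            rwa [show (x : G)⁻¹ * ((x : G) * y * (x : G)⁻¹) * x = y by group] at h2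
          exact ((Subgroup.mem_normalizer_iff.1 hx ⟨y, hyS⟩).2 hy :)
      refine Subgroup.normalizer_eq_top_iff.1 (hM.2 _ (lt_of_le_of_ne hNM fun he => hxn ?_))
      exact ⟨he ▸ hxN, x.2⟩
    have hcM : M.index * Nat.card D₀ = Nat.card S := by
      have h1 := Cores.card_sup_mul_card_inf M S
      rw [hMS, Subgroup.card_top, ← M.card_mul_index, mul_assoc] at h1
      exact Nat.eq_of_mul_eq_mul_left Nat.card_pos h1
    have hchief : ∀ X : Subgroup G, X.Normal → D₀ ≤ X → X ≤ S → X ≠ D₀ → X = S := by
      intro X hX h1 h2 h3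
      have hXM : ¬ X ≤ M := fun hle => h3 (le_antisymm (le_inf hle h2) h1)
      have hXtop : M ⊔ X = ⊤ := hM.2 _ (lt_of_le_of_ne le_sup_left fun he => hXM (he ▸ le_sup_right))
      haveI := hX
      have h4 := Cores.card_sup_mul_card_inf M X
      have hMX : M ⊓ X = D₀ := le_antisymm (inf_le_inf_left M h2) (le_inf inf_le_left h1)
      rw [hXtop, hMX, Subgroup.card_top, ← M.card_mul_index, mul_assoc, hcM] at h4
      exact Subgroup.eq_of_le_of_card_ge h2 (Nat.eq_of_mul_eq_mul_left Nat.card_pos h4).le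
    obtain ⟨j, hj⟩ : ∃ j : ℕ, M.index = p ^ j := by
      obtain ⟨k, hk⟩ := IsPGroup.iff_card.1 P.isPGroup'
      obtain ⟨j, -, hj⟩ := (Nat.dvd_prime_pow hpp).1 (hk ▸ Dvd.intro _ hcM : M.index ∣ p ^ k)
      exact ⟨j, hj⟩
    suffices hle : M.index ≤ p by
      rcases j with _ | _ | j
      · exact absurd (Subgroup.index_eq_one.1 (by rw [hj, pow_zero])) hM.1
      · rw [hj, pow_one]; exact hpp
      · rw [hj] at hle
        exact absurd hle (not_le.2 (lt_of_eq_of_lt (pow_one p).symm
          (Nat.pow_lt_pow_right hpp.one_lt (by omega))))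
    -- a subgroup of index `p`
    obtain ⟨H', hH'⟩ := h ⊤ (Nat.card G / p) (by
      rw [Subgroup.card_top]; exact Nat.div_dvd_of_dvd hpd)
    set H₁ := H'.map (⊤ : Subgroup G).subtype
    have hH₁i : H₁.index = p := by
      refine Nat.eq_of_mul_eq_mul_left (Nat.card_pos (α := H₁)) ?_
      rw [H₁.card_mul_index, Subgroup.card_map_of_injective (Subgroup.subtype_injective _), hH',
        Nat.div_mul_cancel hpd]
    have hH₁top : H₁ ≠ ⊤ := fun ht => hpp.one_lt.ne (by rw [← hH₁i, ht, Subgroup.index_top])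
    have hSH : ¬ S ≤ H₁ := fun hle => P.not_dvd_index ((dvd_of_eq hH₁i.symm).trans (Subgroup.index_dvd_of_le hle))
    set P₁ : Subgroup G := H₁ ⊓ S with hP₁
    have hP₁i : P₁.relIndex S ∣ p := by
      rw [hP₁, Subgroup.inf_relIndex_right, ← hH₁i]
      exact Cores.relIndex_dvd_index_right_normal H₁ S
    have hP₁i' : P₁.relIndex S = p := ((Nat.dvd_prime hpp).1 hP₁i).resolve_left fun h1 =>
      hSH ((Subgroup.relIndex_eq_one.1 h1).trans inf_le_left)
    have hcP₁ : Nat.card P₁ * p = Nat.card S := by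
      rw [← hP₁i', ← Subgroup.relIndex_bot_left, ← Subgroup.relIndex_bot_left,
        Subgroup.relIndex_mul_relIndex ⊥ P₁ S bot_le inf_le_right]
    have hsup : H₁ ⊔ S = ⊤ := by
      refine Subgroup.index_eq_one.1 (((Nat.dvd_prime hpp).1
        (hH₁i ▸ Subgroup.index_dvd_of_le le_sup_left)).resolve_right fun h1 => hSH ?_)
      have h2 : H₁ = H₁ ⊔ S := by
        refine Subgroup.eq_of_le_of_card_ge le_sup_left (le_of_eq ?_)
        refine Nat.eq_of_mul_eq_mul_right hpp.pos ?_
        calc Nat.card ↥(H₁ ⊔ S) * p = Nat.card G := by rw [← h1, (H₁ ⊔ S).card_mul_index]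
          _ = Nat.card H₁ * p := by rw [← hH₁i, H₁.card_mul_index]
      exact h2 ▸ le_sup_right
    haveI hP₁n : P₁.Normal := by
      haveI : Group.IsNilpotent S := hSn
      rw [← Subgroup.normalizer_eq_top_iff, ← top_le_iff, ← hsup]
      refine sup_le (SolvStruct.le_normalizer_of_conj_mem fun g hg x hx =>
        ⟨H₁.mul_mem (H₁.mul_mem hg hx.1) (H₁.inv_mem hg), hPn.conj_mem x hx.2 g⟩) ?_
      refine (Subgroup.normal_subgroupOf_iff_le_normalizer inf_le_right).1 ?_
      have hco : ∀ L : Subgroup S, IsCoatom L → L.Normal :=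
        ((Group.isNilpotent_of_finite_tfae (G := S)).out 0 2 rfl rfl).1 hSn
      refine hco (P₁.subgroupOf S) ?_
      constructor
      · intro ht
        exact hSH ((Subgroup.subgroupOf_eq_top.1 ht).trans inf_le_left)
      · intro L hL
        refine Subgroup.index_eq_one.1 (((Nat.dvd_prime hpp).1
          ((Subgroup.index_dvd_of_le hL.le).trans (hP₁i'.le.antisymm hP₁i'.ge ▸ dvd_rfl :
            (P₁.subgroupOf S).index ∣ p))).resolve_right fun h1 => hL.ne ?_)
        refine Subgroup.eq_of_le_of_card_ge hL.le (le_of_eq ?_)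
        refine Nat.eq_of_mul_eq_mul_right hpp.pos ?_
        calc Nat.card L * p = Nat.card S := by rw [← h1, L.card_mul_index]
          _ = Nat.card (P₁.subgroupOf S) * (P₁.subgroupOf S).index :=
            (P₁.subgroupOf S).card_mul_index.symm
          _ = _ := congrArg _ hP₁i'
    by_cases hDP : D₀ ≤ P₁
    · rcases eq_or_ne P₁ D₀ with he | he
      · rw [← he] at hcM
        rw [← hcP₁, mul_comm] at hcM
        exact (Nat.eq_of_mul_eq_mul_left Nat.card_pos hcM).le
      · exact absurd ((hchief P₁ inferInstance hDP inf_le_right he) ▸ (inf_le_left : P₁ ≤ H₁)) hSH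
    set D : Subgroup G := D₀ ⊓ P₁ with hD
    have hcomm : ∀ x ∈ S, ∀ y ∈ S, x * y * x⁻¹ * y⁻¹ ∈ D₀ := by
      haveI : Group.IsNilpotent S := hSn
      set X : Subgroup G := D₀ ⊔ (commutator S).map S.subtype with hX
      by_cases hXD : X = D₀
      · intro x hx y hy
        rw [← hXD]
        exact Subgroup.mem_sup_right ⟨⁅(⟨x, hx⟩ : S), ⟨y, hy⟩⁆, Subgroup.commutator_mem_commutator
          (Subgroup.mem_top _) (Subgroup.mem_top _), rfl⟩
      · exfalso
        have hXS := hchief X inferInstance le_sup_left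
          (sup_le inf_le_right (Subgroup.map_subtype_le _)) hXD
        have h1 : D₀ = S := Coprime.eq_of_le_of_sup_commutator_eq hlt.le (by
          rw [← Subgroup.map_subtype_commutator]; exact hXS)
        exact hlt.ne h1
    -- a normal subgroup of prime order of `H₁` above `D`
    haveI hDn : D.Normal := inferInstance
    have hH₁ss := hsub H₁ hH₁top
    have hne1 : (P₁.subgroupOf H₁).map (QuotientGroup.mk' (D.subgroupOf H₁)) ≠ ⊥ := by
      rw [Ne, Subgroup.map_eq_bot_iff, QuotientGroup.ker_mk']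
      intro hle
      have hP₁D : P₁ ≤ D := fun x hx => hle (show (⟨x, hx.1⟩ : H₁) ∈ P₁.subgroupOf H₁ from hx)
      have h2 : P₁ ≤ D₀ := hP₁D.trans inf_le_left
      rcases eq_or_ne D₀ P₁ with he | he
      · exact hDP he.le
      · have h3 := Subgroup.card_dvd_of_le h2
        have h4 : Nat.card D₀ < Nat.card S := lt_of_le_of_ne (Subgroup.card_le_of_le hlt.le)
          fun e => hlt.ne (Subgroup.eq_of_le_of_card_ge hlt.le e.ge)
        obtain ⟨c, hc⟩ := h3
        obtain ⟨d, hd⟩ := Subgroup.card_dvd_of_le hlt.le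
        rw [hd, hc, mul_assoc] at hcP₁
        have hcd : p = c * d := Nat.eq_of_mul_eq_mul_left Nat.card_pos hcP₁
        rcases (Nat.dvd_prime hpp).1 (Dvd.intro d hcd.symm) with rfl | rfl
        · rw [mul_one] at hc
          exact he (Subgroup.eq_of_le_of_card_ge h2 hc.le).symm
        · have hd1 : d = 1 := (Nat.mul_eq_left hpp.ne_zero).1 hcd.symm
          rw [hd, hd1, mul_one] at h4
          exact lt_irrefl _ h4
    obtain ⟨Q, hQn, hQle, hQp⟩ := Hall.Supersolvable.exists_normal_prime_le
      (Hall.Supersolvable.quotient hH₁ss (D.subgroupOf H₁)) _ hne1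
    set X' := Q.comap (QuotientGroup.mk' (D.subgroupOf H₁)) with hX'
    set X : Subgroup G := X'.map H₁.subtype with hXdef
    have hXP₁ : X ≤ P₁ := by
      rintro _ ⟨x, hx, rfl⟩
      obtain ⟨y, hy, hyx⟩ := hQle hx
      have h5 : y⁻¹ * x ∈ D.subgroupOf H₁ := QuotientGroup.eq.1 hyx
      have h6 : (x : G) = y * (y⁻¹ * x : H₁) := by simp
      rw [Subgroup.coe_subtype, h6]
      exact P₁.mul_mem hy h5.2
    have hcX : Nat.card X = p * Nat.card D := by
      rw [hXdef, Subgroup.card_map_of_injective H₁.subtype_injective, hX', Cores.card_comap_mk',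
        Nat.card_congr (Subgroup.subgroupOfEquivOfLe (inf_le_right.trans inf_le_left : D ≤ H₁)).toEquiv,
        mul_comm]
      congr 1
      obtain ⟨k, hk⟩ := IsPGroup.iff_card.1 (P.isPGroup'.to_le (inf_le_right : P₁ ≤ S))
      refine (Nat.prime_dvd_prime_iff_eq hQp hpp).1 (hQp.dvd_of_dvd_pow (n := k) ?_)
      rw [← hk, ← Nat.card_congr (Subgroup.subgroupOfEquivOfLe (inf_le_left : P₁ ≤ H₁)).toEquiv]
      exact (Subgroup.card_dvd_of_le hQle).trans (Subgroup.card_map_dvd _ _)
    haveI hXn : X.Normal := by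
      rw [← Subgroup.normalizer_eq_top_iff, ← top_le_iff, ← hsup]
      refine sup_le ?_ ?_
      · have := Subgroup.le_normalizer_map (H := X') H₁.subtype
        rw [Subgroup.normalizer_eq_top_iff.2 (hQn.comap _), ← MonoidHom.range_eq_map,
          Subgroup.range_subtype] at this
        exact this
      · refine SolvStruct.le_normalizer_of_conj_mem fun g hg x hx => ?_
        have h7 : g * x * g⁻¹ * x⁻¹ ∈ D := ⟨hcomm g hg x (hXP₁ hx).2,
          P₁.mul_mem (hP₁n.conj_mem x (hXP₁ hx) g) (P₁.inv_mem (hXP₁ hx))⟩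
        have hDX : D ≤ X := fun d hd => ⟨⟨d, hd.2.1⟩, by
          rw [hX', SetLike.mem_coe, Subgroup.mem_comap]
          rw [show QuotientGroup.mk' (D.subgroupOf H₁) ⟨d, hd.2.1⟩ = 1 from
            (QuotientGroup.eq_one_iff _).2 hd]
          exact Q.one_mem, rfl⟩
        have h8 := X.mul_mem (hDX h7) hx
        rwa [inv_mul_cancel_right] at h8
    have hXS : X ⊔ D₀ = S := hchief _ inferInstance le_sup_right
      (sup_le (hXP₁.trans inf_le_right) inf_le_right) fun he => by
        have h9 : X ≤ D := le_inf (sup_eq_right.1 he) hXP₁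
        have := Subgroup.card_le_of_le h9
        rw [hcX] at this
        exact absurd this (not_le.2 (lt_mul_of_one_lt_left Nat.card_pos hpp.one_lt))
    have hfin := Cores.card_sup_mul_card_inf X D₀
    rw [hXS, ← hcM, hcX] at hfin
    have hDle : Nat.card D ≤ Nat.card ↥(X ⊓ D₀) := by
      refine Subgroup.card_le_of_le (le_inf ?_ inf_le_left)
      intro d hd
      exact ⟨⟨d, hd.2.1⟩, by
          rw [hX', SetLike.mem_coe, Subgroup.mem_comap]
          rw [show QuotientGroup.mk' (D.subgroupOf H₁) ⟨d, hd.2.1⟩ = 1 from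
            (QuotientGroup.eq_one_iff _).2 hd]
          exact Q.one_mem, rfl⟩
    refine Nat.le_of_mul_le_mul_right (a := M.index) (b := p) (c := Nat.card D₀ * Nat.card D) ?_
      (Nat.mul_pos Nat.card_pos Nat.card_pos)
    calc M.index * (Nat.card D₀ * Nat.card D) = M.index * Nat.card D₀ * Nat.card D := by ring
      _ ≤ M.index * Nat.card D₀ * Nat.card ↥(X ⊓ D₀) := Nat.mul_le_mul_left _ hDle
      _ = p * (Nat.card D₀ * Nat.card D) := by rw [hfin]; ring

/-- If every subgroup of a finite group has subgroups of all orders dividing its order, then the group is supersolvable. -/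
theorem result {G : Type*} [Group G] [Finite G] (h : ∀ H : Subgroup G, Cfsg.HasSubgroupOfEveryOrder H) : Cfsg.IsSupersolvable G := by
  exact aux _ G rfl h

end Cfsg.Agent.S0533
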