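import Cfsg.Statements.S0534
import Cfsg.Agent.Lib.Hall.Solvable
import Cfsg.Agent.Lib.Hall.Supersolvable
import Cfsg.Agent.S0531

set_option autoImplicit false
open Cfsg

namespace Cfsg.Agent.S0534

/-- Let G be a finite solvable group and A a finite abelian group such that every prime dividing the order of A divides the order of G and, for each prime p dividing the order of G, the exponent of p in the order of A is one less than its exponent in the order of G. Then G × A has a subgroup of every order dividing its order. -/
theorem result {G A : Type*} [Group G] [CommGroup A] [Finite G] [Finite A] [Group.IsSolvable G] (hA : ∀ p : ℕ, p.Prime → p ∣ Nat.card A → p ∣ Nat.card G) (hexp : ∀ p : ℕ, p.Prime → p ∣ Nat.card G → (Nat.card A).factorization p + 1 = (Nat.card G).factorization p) : Cfsg.HasSubgroupOfEveryOrder (G × A) := by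
  intro d hd
  rw [Nat.card_prod] at hd
  have hd0 : d ≠ 0 := fun e => by
    subst e
    exact Nat.mul_ne_zero Nat.card_pos.ne' Nat.card_pos.ne' (zero_dvd_iff.1 hd)
  set π : Set ℕ := {p | (Nat.card G).factorization p ≤ d.factorization p}
  obtain ⟨K, hK⟩ := Hall.exists_hall π G
  have hKd : Nat.card K ∣ d := by
    rw [Nat.dvd_iff_prime_pow_dvd_dvd]
    intro p k hp hpk
    rcases Nat.eq_zero_or_pos k with rfl | hk
    · simp
    have hpπ : p ∈ π := hK.1 p hp ((dvd_pow_self p hk.ne').trans hpk)
    exact (hp.pow_dvd_iff_le_factorization hd0).2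
      (((hp.pow_dvd_iff_le_factorization Nat.card_pos.ne').1
        (hpk.trans K.card_subgroup_dvd_card)).trans hpπ)
  have hdiv : d / Nat.card K ∣ Nat.card A := by
    have hq0 : d / Nat.card K ≠ 0 :=
      (Nat.div_pos (Nat.le_of_dvd (Nat.pos_of_ne_zero hd0) hKd) Nat.card_pos).ne'
    rw [← Nat.factorization_le_iff_dvd hq0 Nat.card_pos.ne', Nat.factorization_div hKd]
    intro p
    rw [Finsupp.tsub_apply]
    have h1 : d.factorization p ≤ (Nat.card G).factorization p + (Nat.card A).factorization p := by
      have := (Nat.factorization_le_iff_dvd hd0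
        (Nat.mul_ne_zero Nat.card_pos.ne' Nat.card_pos.ne')).2 hd p
      rwa [Nat.factorization_mul Nat.card_pos.ne' Nat.card_pos.ne', Finsupp.add_apply] at this
    by_cases hp : p.Prime
    · by_cases hpπ : p ∈ π
      · have h2 : (Nat.card K).factorization p = (Nat.card G).factorization p := by
          rw [← K.card_mul_index, Nat.factorization_mul Nat.card_pos.ne' Subgroup.index_ne_zero_of_finite,
            Finsupp.add_apply, Nat.factorization_eq_zero_of_not_dvd (hK.2 p hp hpπ), add_zero]
        omega
      · have h3 : d.factorization p < (Nat.card G).factorization p := not_le.1 hpπ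
        have hpd : p ∣ Nat.card G := Nat.dvd_of_factorization_pos (by omega)
        have := hexp p hp hpd
        omega
    · simp [Nat.factorization_eq_zero_of_not_prime _ hp]
  obtain ⟨B, hB⟩ := S0531.result (Hall.Supersolvable.of_isMulCommutative A) _ hdiv
  exact ⟨K.prod B, by
    rw [Nat.card_congr (Subgroup.prodEquiv K B).toEquiv, Nat.card_prod, hB, Nat.mul_div_cancel' hKd]⟩

end Cfsg.Agent.S0534
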