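import Cfsg.Statements.S0535
import Cfsg.Agent.Solvable.HallOrder
import Cfsg.Agent.SolvStruct.TwoPrimes

set_option autoImplicit false
open Cfsg

namespace Cfsg.Agent.S0535

theorem aux (n : ℕ) : ∀ (G : Type*) [Group G] [Finite G], Nat.card G = n →
    (∀ H : Subgroup G, H ≠ ⊥ → ∀ p : ℕ, p.Prime → p ∣ Nat.card H →
      ∃ K : Subgroup H, K ≠ ⊤ ∧ ∃ k : ℕ, K.index = p ^ k) → Group.IsSolvable G := by
  induction n using Nat.strong_induction_on with
  | _ n ih =>
    intro G _ _ hn h
    by_cases hc : (Nat.card G).primeFactors.card ≤ 2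
    · exact SolvStruct.isSolvable_of_primeFactors_card_le_two hc
    have hbot : (⊤ : Subgroup G) ≠ ⊥ := by
      intro hb
      refine hc ?_
      rw [← Subgroup.card_top (G := G), hb, Subgroup.card_bot]
      simp
    have hex : ∀ p ∈ (Nat.card G).primeFactors, ∃ K : Subgroup G, Group.IsSolvable K ∧
        ∃ k : ℕ, K.index = p ^ k := by
      intro p hp
      obtain ⟨hpp, hd, -⟩ := Nat.mem_primeFactors.1 hp
      obtain ⟨K, hK, k, hk⟩ := h ⊤ hbot p hpp (by rwa [Subgroup.card_top])
      let K' := K.map (⊤ : Subgroup G).subtype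
      have hidx : K'.index = K.index := by
        rw [Subgroup.index_map_subtype, Subgroup.index_top, mul_one]
      refine ⟨K', ?_, k, hidx.trans hk⟩
      have hlt : Nat.card K' < n := by
        rw [← hn, ← K'.card_mul_index, hidx]
        exact lt_mul_of_one_lt_right Nat.card_pos
          (Subgroup.one_lt_index_of_ne_top hK)
      refine ih _ hlt K' rfl fun L hL q hq hqd => ?_
      let L' := L.map K'.subtype
      let e : L ≃* L' := L.equivMapOfInjective _ K'.subtype_injective
      have hL' : L' ≠ ⊥ := by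
        simpa [L', Subgroup.map_eq_bot_iff_of_injective _ K'.subtype_injective] using hL
      obtain ⟨M, hM, m, hm⟩ := h L' hL' q hq (by rwa [← Nat.card_congr e.toEquiv])
      refine ⟨M.comap e.toMonoidHom, fun ht => hM ?_, m, ?_⟩
      · rw [← Subgroup.map_comap_eq_self_of_surjective (f := e.toMonoidHom) e.surjective M, ht,
          Subgroup.map_top_of_surjective (f := e.toMonoidHom) e.surjective]
      · rw [Subgroup.index_comap_of_surjective M (f := e.toMonoidHom) e.surjective, hm]
    obtain ⟨p, hp, q, hq, r, hr, hpq, hpr, hqr⟩ := Finset.two_lt_card.1 (Nat.lt_of_not_le hc)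
    obtain ⟨A, hA, a, ha⟩ := hex p hp
    obtain ⟨B, hB, b, hb⟩ := hex q hq
    obtain ⟨C, hC, c, hc'⟩ := hex r hr
    have hcop : ∀ {x y : ℕ}, x ∈ (Nat.card G).primeFactors → y ∈ (Nat.card G).primeFactors →
        x ≠ y → ∀ i j : ℕ, (x ^ i).Coprime (y ^ j) := fun hx hy hne i j =>
      Nat.Coprime.pow _ _ ((Nat.coprime_primes (Nat.prime_of_mem_primeFactors hx)
        (Nat.prime_of_mem_primeFactors hy)).mpr hne)
    exact Solvable.HallOrder.isSolvable_wielandt _ rfl A B C hA hB hC
      (S0007.result A B (ha ▸ hb ▸ hcop hp hq hpq a b)).2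
      (S0007.result A C (ha ▸ hc' ▸ hcop hp hr hpr a c)).2
      (hb ▸ hc' ▸ hcop hq hr hqr b c)

/-- Suppose that for every nontrivial subgroup H of a finite group and every prime p dividing the order of H there is a proper subgroup of H whose index in H is a power of p. Then the group is solvable. -/
theorem result {G : Type*} [Group G] [Finite G] (h : ∀ H : Subgroup G, H ≠ ⊥ → ∀ p : ℕ, p.Prime → p ∣ Nat.card H → ∃ K : Subgroup H, K ≠ ⊤ ∧ ∃ k : ℕ, K.index = p ^ k) : Group.IsSolvable G := by
  exact aux _ G rfl h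

end Cfsg.Agent.S0535
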