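import Cfsg.Statements.S0548
import Cfsg.Agent.Lib.Hall.MinimalNormal

set_option autoImplicit false
open Cfsg

namespace Cfsg.Agent.S0548

/-- Let a finite solvable group G act faithfully and primitively on a set, let M be a minimal normal subgroup and H the stabilizer of a point. Then H is a complement to M, no non-identity element of H centralizes M, and the only subgroups of M normalized by H are the trivial subgroup and M. -/
theorem result {G : Type*} [Group G] [Finite G] [Group.IsSolvable G] {Ω : Type*} [MulAction G Ω] [FaithfulSMul G Ω] (hprim : MulAction.IsPreprimitive G Ω) (M : Subgroup G) [M.Normal] (hM : M ≠ ⊥) (hmin : ∀ K : Subgroup G, K.Normal → K ≤ M → K = ⊥ ∨ K = M) (ω : Ω) : Subgroup.IsComplement' M (MulAction.stabilizer G ω) ∧ MulAction.stabilizer G ω ⊓ Subgroup.centralizer (M : Set G) = ⊥ ∧ ∀ K : Subgroup G, K ≤ M → MulAction.stabilizer G ω ≤ Subgroup.normalizer (K : Set G) → K = ⊥ ∨ K = M := by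
  haveI hc := Hall.minimal_normal_isMulCommutative hmin
  have hfix : MulAction.fixedPoints M Ω ≠ Set.univ := by
    intro h
    refine hM (le_bot_iff.1 fun m hm => ?_)
    refine eq_of_smul_eq_smul (α := Ω) fun x => ?_
    have hx : x ∈ MulAction.fixedPoints M Ω := h ▸ Set.mem_univ x
    rw [one_smul]
    exact hx ⟨m, hm⟩
  haveI ht : MulAction.IsPretransitive M Ω :=
    MulAction.IsQuasiPreprimitive.isPretransitive_of_normal hfix
  have hdec : ∀ g : G, ∃ m ∈ M, ∃ s ∈ MulAction.stabilizer G ω, g = m * s := by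
    intro g
    obtain ⟨⟨m, hm⟩, hmw⟩ := MulAction.exists_smul_eq M ω (g • ω)
    refine ⟨m, hm, m⁻¹ * g, ?_, by rw [mul_inv_cancel_left]⟩
    rw [MulAction.mem_stabilizer_iff, mul_smul, inv_smul_eq_iff]
    exact hmw.symm
  have hcent : MulAction.stabilizer G ω ⊓ Subgroup.centralizer (M : Set G) = ⊥ := by
    refine le_bot_iff.1 fun c hc' => ?_
    refine eq_of_smul_eq_smul (α := Ω) fun x => ?_
    obtain ⟨⟨m, hm⟩, rfl⟩ := MulAction.exists_smul_eq M ω x
    rw [one_smul, Subgroup.mk_smul, ← mul_smul,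
      ← Subgroup.mem_centralizer_iff.1 hc'.2 m hm, mul_smul, MulAction.mem_stabilizer_iff.1 hc'.1]
  refine ⟨Subgroup.isComplement'_of_disjoint_and_mul_eq_univ ?_ ?_, hcent, ?_⟩
  · rw [disjoint_iff, eq_bot_iff, ← hcent, le_inf_iff]
    refine ⟨inf_le_right, inf_le_left.trans ?_⟩
    exact fun m hm n hn => congrArg Subtype.val (mul_comm' (⟨n, hn⟩ : M) ⟨m, hm⟩)
  · refine Set.eq_univ_of_forall fun g => ?_
    obtain ⟨m, hm, s, hs, rfl⟩ := hdec g
    exact Set.mul_mem_mul hm hs
  · intro K hK hKn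
    refine hmin K (Subgroup.normalizer_eq_top_iff.1 (top_le_iff.1 fun g _ => ?_)) hK
    obtain ⟨m, hm, s, hs, rfl⟩ := hdec g
    refine mul_mem ?_ (hKn hs)
    refine Subgroup.centralizer_le_normalizer _ ?_
    exact fun n hn => congrArg Subtype.val (mul_comm' (⟨n, hK hn⟩ : M) ⟨m, hm⟩)

end Cfsg.Agent.S0548
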