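import Cfsg.Statements.S0549
import Cfsg.Agent.Lib.Hall.MinimalNormal

set_option autoImplicit false
open Cfsg

namespace Cfsg.Agent.S0549

/-- Let U be a maximal subgroup of a finite group G whose normal core is trivial, and N a nontrivial normal subgroup with centralizer C. Then C ∩ U = 1, and either C = 1 or C is a minimal normal subgroup of G. -/
theorem result {G : Type*} [Group G] [Finite G] (U : Subgroup G) (hU : IsCoatom U) (hcore : U.normalCore = ⊥) (N : Subgroup G) [N.Normal] (hN : N ≠ ⊥) : Subgroup.centralizer (N : Set G) ⊓ U = ⊥ ∧ (Subgroup.centralizer (N : Set G) = ⊥ ∨ (Subgroup.centralizer (N : Set G) ≠ ⊥ ∧ ∀ K : Subgroup G, K.Normal → K ≤ Subgroup.centralizer (N : Set G) → K = ⊥ ∨ K = Subgroup.centralizer (N : Set G))) := by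
  have hNU : ∀ K : Subgroup G, K.Normal → K ≠ ⊥ → K ⊔ U = ⊤ := by
    intro K hK hK0
    refine hU.2 _ (lt_of_le_of_ne le_sup_right fun h => hK0 (le_bot_iff.1 ?_))
    rw [← hcore]
    haveI := hK
    exact Subgroup.normal_le_normalCore.2 (h ▸ le_sup_left)
  set C := Subgroup.centralizer (N : Set G) with hCdef
  have h1 : (C ⊓ U).Normal := by
    rw [← Subgroup.normalizer_eq_top_iff, ← top_le_iff, ← hNU N inferInstance hN, sup_le_iff]
    constructor
    · refine le_trans ?_ (Subgroup.centralizer_le_normalizer _)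
      exact fun n hn c hc => (Subgroup.mem_centralizer_iff.1 hc.1 n hn).symm
    · intro u hu
      rw [Subgroup.mem_normalizer_iff]
      intro c
      simp only [Subgroup.mem_inf]
      constructor
      · exact fun hc => ⟨Subgroup.Normal.conj_mem inferInstance c hc.1 u,
          U.mul_mem (U.mul_mem hu hc.2) (U.inv_mem hu)⟩
      · rintro ⟨hc, hc'⟩
        refine ⟨?_, ?_⟩
        · have h := Subgroup.Normal.conj_mem (inferInstance : C.Normal) _ hc u⁻¹
          simpa [mul_assoc] using h
        · have h := U.mul_mem (U.mul_mem (U.inv_mem hu) hc') hu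
          simpa [mul_assoc] using h
  have h2 : C ⊓ U = ⊥ := by
    rw [← le_bot_iff, ← hcore]
    haveI := h1
    exact Subgroup.normal_le_normalCore.2 inf_le_right
  refine ⟨h2, or_iff_not_imp_left.2 fun hC => ⟨hC, fun K hK hKC => ?_⟩⟩
  refine or_iff_not_imp_left.2 fun hK0 => le_antisymm hKC fun c hc => ?_
  have hc' : c ∈ K ⊔ U := by rw [hNU K hK hK0]; trivial
  obtain ⟨k, hk, u, hu, rfl⟩ : ∃ k ∈ K, ∃ u ∈ U, k * u = c := by
    haveI := hK
    rw [← SetLike.mem_coe, Subgroup.normal_mul] at hc'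
    exact hc'
  have hu' : u ∈ C ⊓ U := ⟨by simpa using C.mul_mem (C.inv_mem (hKC hk)) hc, hu⟩
  rw [h2, Subgroup.mem_bot] at hu'
  rwa [hu', mul_one]

end Cfsg.Agent.S0549
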