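import Cfsg.Statements.S0550
import Cfsg.Agent.SolvStruct.Primitive

set_option autoImplicit false
open Cfsg

namespace Cfsg.Agent.S0550

/-- Let U be a maximal subgroup with trivial normal core in a finite group G, and A ≠ B two minimal normal subgroups. Then A is the centralizer of B and B that of A, U complements each of them, A and B are non-abelian, and A, B and (A ⊔ B) ∩ U are pairwise isomorphic. -/
theorem result {G : Type*} [Group G] [Finite G] (U : Subgroup G) (hU : IsCoatom U) (hcore : U.normalCore = ⊥) (A B : Subgroup G) [A.Normal] [B.Normal] (hA : A ≠ ⊥) (hB : B ≠ ⊥) (hAmin : ∀ K : Subgroup G, K.Normal → K ≤ A → K = ⊥ ∨ K = A) (hBmin : ∀ K : Subgroup G, K.Normal → K ≤ B → K = ⊥ ∨ K = B) (hAB : A ≠ B) : Subgroup.centralizer (B : Set G) = A ∧ Subgroup.centralizer (A : Set G) = B ∧ Subgroup.IsComplement' A U ∧ Subgroup.IsComplement' B U ∧ ¬ IsMulCommutative A ∧ Nonempty (A ≃* B) ∧ Nonempty (A ≃* ↥((A ⊔ B) ⊓ U)) := by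
  have hd : A ⊓ B = ⊥ := Hall.minimal_normal_inf_eq_bot hAmin fun h => hAB
    ((hBmin A inferInstance h).resolve_left hA)
  obtain ⟨hCB, hAU, ⟨eA⟩⟩ := SolvStruct.Primitive.primitive_two hU hcore hA hB hd
  obtain ⟨hCA, hBU, ⟨eB⟩⟩ := SolvStruct.Primitive.primitive_two hU hcore hB hA
    (by rwa [inf_comm])
  refine ⟨hCB, hCA, SolvStruct.Primitive.isComplement'_of_sup hAU
    (SolvStruct.Primitive.sup_eq_top hU hcore hA), SolvStruct.Primitive.isComplement'_of_sup hBU
    (SolvStruct.Primitive.sup_eq_top hU hcore hB), fun hc => hA ?_,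
    ⟨eA.trans ((MulEquiv.subgroupCongr (by rw [sup_comm])).trans eB.symm)⟩, ⟨eA⟩⟩
  refine le_bot_iff.1 (hd ▸ le_inf le_rfl ?_)
  rw [← hCA]
  exact fun a ha => Subgroup.mem_centralizer_iff.2 fun z hz =>
    congrArg Subtype.val (hc.is_comm.comm (⟨z, hz⟩ : A) ⟨a, ha⟩)

end Cfsg.Agent.S0550
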