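import Cfsg.Statements.S0552
import Cfsg.Agent.Lib.Cores.Fitting

set_option autoImplicit false
open Cfsg

namespace Cfsg.Agent.S0552

/-- Let σ be an automorphism of a finite solvable group G fixing every element of the Fitting subgroup. If σ is not the identity then the order of σ and the order of G have a common prime factor. -/
theorem result {G : Type*} [Group G] [Finite G] [Group.IsSolvable G] (σ : G ≃* G) (hσ : ∀ x ∈ Cfsg.fittingSubgroup G, σ x = x) (hne : σ ≠ MulEquiv.refl G) : ¬ (orderOf σ).Coprime (Nat.card G) := by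
  intro hcop
  refine hne (MulEquiv.ext fun g => ?_)
  have hz : g⁻¹ * σ g ∈ Cfsg.fittingSubgroup G := by
    refine Cores.centralizer_fittingSubgroup_le (fun f hf => ?_)
    have h1 : σ (g * f * g⁻¹) = g * f * g⁻¹ :=
      hσ _ (Subgroup.Normal.conj_mem inferInstance f hf g)
    rw [map_mul, map_mul, map_inv, hσ f hf] at h1
    have h2 : σ g * f = g * f * g⁻¹ * σ g := by rw [← h1]; group
    calc f * (g⁻¹ * σ g) = g⁻¹ * (g * f * g⁻¹ * σ g) := by group
      _ = g⁻¹ * σ g * f := by rw [← h2]; group
  set z := g⁻¹ * σ g with hzdef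
  have hg : σ g = g * z := by rw [hzdef, mul_inv_cancel_left]
  have hpow : ∀ n : ℕ, (σ ^ n : MulAut G) g = g * z ^ n := by
    intro n
    induction n with
    | zero => simp
    | succ n ih =>
      rw [pow_succ', MulAut.mul_apply, ih, map_mul, map_pow, hσ z hz, hg, pow_succ', mul_assoc]
  have h3 : z ^ orderOf σ = 1 := by
    have h := hpow (orderOf σ)
    rw [pow_orderOf_eq_one, MulAut.one_apply] at h
    exact left_eq_mul.1 h
  have h4 : orderOf z = 1 := Nat.eq_one_of_dvd_coprimes hcop (orderOf_dvd_of_pow_eq_one h3)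
    (orderOf_dvd_natCard z)
  rw [orderOf_eq_one_iff] at h4
  rw [hg, h4, mul_one, MulEquiv.refl_apply]

end Cfsg.Agent.S0552
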