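import Cfsg.Statements.S0554
import Cfsg.Agent.Lib.Hall.MinimalNormal

set_option autoImplicit false
open Cfsg

namespace Cfsg.Agent.S0554

theorem prod_ofFn_mul {G : Type*} [Group G] {M : Subgroup G} [M.Normal] :
    ∀ {t : ℕ} (f : Fin t → G) (j : Fin t) {m : G}, m ∈ M →
      ∃ m' ∈ M, (List.ofFn f).prod * m = (List.ofFn (Function.update f j (f j * m'))).prod := by
  intro t
  induction t with
  | zero => exact fun f j => j.elim0
  | succ t ih =>
    intro f j m hm
    rw [List.ofFn_succ, List.prod_cons]
    induction j using Fin.cases with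
    | zero =>
      set R := (List.ofFn fun i : Fin t => f i.succ).prod with hR
      refine ⟨R * m * R⁻¹, Subgroup.Normal.conj_mem inferInstance m hm R, ?_⟩
      rw [List.ofFn_succ, List.prod_cons, Function.update_self,
        show (fun i : Fin t => Function.update f 0 (f 0 * (R * m * R⁻¹)) i.succ) =
          (fun i : Fin t => f i.succ) from funext fun i =>
            Function.update_of_ne (Fin.succ_ne_zero i) _ _, ← hR]
      group
    | succ j =>
      obtain ⟨m', hm', he⟩ := ih (fun i => f i.succ) j hm
      refine ⟨m', hm', ?_⟩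
      rw [mul_assoc, he, List.ofFn_succ, List.prod_cons,
        Function.update_of_ne (Fin.succ_ne_zero j).symm]
      congr 3
      funext i
      rcases eq_or_ne i j with rfl | hij
      · simp
      · rw [Function.update_of_ne hij, Function.update_of_ne (fun h => hij (Fin.succ_injective _ h))]

theorem aux (n : ℕ) : ∀ (G : Type*) [Group G] [Finite G] [Group.IsSolvable G],
    Nat.card G = n → ∀ (t : ℕ) (p : Fin t → ℕ), (∀ i, (p i).Prime) →
      (∀ q : ℕ, q.Prime → q ∣ Nat.card G → ∃ i, p i = q) → ∀ (S : (i : Fin t) → Sylow (p i) G)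
      (g : G), ∃ s : (i : Fin t) → G, (∀ i, s i ∈ (S i : Subgroup G)) ∧ g = (List.ofFn s).prod := by
  induction n using Nat.strong_induction_on with
  | _ n ih =>
    intro G _ _ _ hn t p hp hall S g
    rcases subsingleton_or_nontrivial G with hG | hG
    · exact ⟨fun _ => 1, fun i => one_mem _, Subsingleton.elim _ _⟩
    obtain ⟨M, hMn, -, hM, hmin⟩ := Hall.exists_minimal_normal (⊤ : Subgroup G) top_ne_bot
    obtain ⟨q, hq, hqd, hqg, -⟩ := Hall.minimal_normal_isElementaryAbelian hM hmin
    have hfac : ∀ i, Fact (p i).Prime := fun i => ⟨hp i⟩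
    have hlt : Nat.card (G ⧸ M) < n := by
      rw [← hn, M.card_eq_card_quotient_mul_card_subgroup]
      exact lt_mul_of_one_lt_right Nat.card_pos (M.one_lt_card_iff_ne_bot.2 hM)
    obtain ⟨sb, hsb, hgb⟩ := ih _ hlt (G ⧸ M) rfl t p hp
      (fun r hr hd => hall r hr (hd.trans M.card_quotient_dvd_card))
      (fun i => haveI := hfac i; (S i).mapSurjective (QuotientGroup.mk'_surjective M))
      (QuotientGroup.mk' M g)
    have hex : ∀ i, ∃ x ∈ (S i : Subgroup G), QuotientGroup.mk' M x = sb i := by
      intro i
      haveI := hfac i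
      exact Subgroup.mem_map.1 (hsb i)
    choose s hs hsmap using hex
    have hm : ((List.ofFn s).prod)⁻¹ * g ∈ M := by
      have h : QuotientGroup.mk' M ((List.ofFn s).prod) = QuotientGroup.mk' M g := by
        rw [hgb, map_list_prod, List.map_ofFn]
        congr 2
        exact funext hsmap
      exact QuotientGroup.eq.1 h
    obtain ⟨j, hj⟩ := hall q hq (hqd.trans M.card_subgroup_dvd_card)
    obtain ⟨m', hm', he⟩ := prod_ofFn_mul s j hm
    refine ⟨Function.update s j (s j * m'), fun i => ?_, by rw [← he, mul_inv_cancel_left]⟩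
    rcases eq_or_ne i j with rfl | hij
    · rw [Function.update_self]
      have hMS : M ≤ (S i : Subgroup G) := IsPGroup.le_sylow_of_normal (hj.symm ▸ hqg) (S i)
      exact mul_mem (hs i) (hMS hm')
    · rw [Function.update_of_ne hij]
      exact hs i

/-- Let G be a finite solvable group and let S assign to each of t distinct primes, including every prime divisor of the order of G, a Sylow subgroup of G. Then every element of G is a product s_0 s_1 ⋯ s_(t-1) with s_i in S i, the factors taken in the given order. -/
theorem result {G : Type*} [Group G] [Finite G] [Group.IsSolvable G] (t : ℕ) (p : Fin t → ℕ) (hp : ∀ i, (p i).Prime) (hinj : Function.Injective p) (hall : ∀ q : ℕ, q.Prime → q ∣ Nat.card G → ∃ i, p i = q) (S : (i : Fin t) → Sylow (p i) G) : ∀ g : G, ∃ s : (i : Fin t) → G, (∀ i, s i ∈ (S i : Subgroup G)) ∧ g = (List.ofFn s).prod := by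
  exact aux _ G rfl t p hp hall S

end Cfsg.Agent.S0554
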