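import Cfsg.Statements.S0555
import Cfsg.Agent.SolvStruct.Basic

set_option autoImplicit false
open Cfsg

namespace Cfsg.Agent.S0555

/-- Let i ≥ 1. If in the derived series of a group the quotient of the i-th term by the (i+1)-st and the quotient of the (i+1)-st by the (i+2)-nd are both cyclic, then the (i+1)-st and (i+2)-nd terms coincide. -/
theorem result {G : Type*} [Group G] (i : ℕ) (hi : 1 ≤ i) (h₁ : IsCyclic (↥(derivedSeries G i) ⧸ (derivedSeries G (i + 1)).subgroupOf (derivedSeries G i))) (h₂ : IsCyclic (↥(derivedSeries G (i + 1)) ⧸ (derivedSeries G (i + 2)).subgroupOf (derivedSeries G (i + 1)))) : derivedSeries G (i + 1) = derivedSeries G (i + 2) := by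
  obtain ⟨a, ha, hA⟩ := SolvStruct.exists_gen_of_isCyclic_quotient h₁
  obtain ⟨b, hb, hB⟩ := SolvStruct.exists_gen_of_isCyclic_quotient h₂
  set A := derivedSeries G i with hAdef
  set B := derivedSeries G (i + 1) with hBdef
  set C := derivedSeries G (i + 2) with hCdef
  have hBA : B = ⁅A, A⁆ := derivedSeries_succ (G := G) i
  have hCB : C = ⁅B, B⁆ := derivedSeries_succ (G := G) (i + 1)
  have hAcomm : A ≤ commutator G := by
    rw [← derivedSeries_one]
    exact derivedSeries_antitone G hi
  haveI hBn : B.Normal := derivedSeries_normal G (i + 1)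
  haveI hCn : C.Normal := derivedSeries_normal G (i + 2)
  refine le_antisymm ?_ (hCB ▸ Subgroup.commutator_le_self B)
  let f := QuotientGroup.mk' C
  haveI : (B.map f).Normal := hBn.map f (QuotientGroup.mk'_surjective C)
  haveI : IsCyclic (B.map f) := by
    rw [Subgroup.isCyclic_iff_exists_zpowers_eq_top]
    refine ⟨f b, le_antisymm (Subgroup.zpowers_le.2 ⟨b, hb, rfl⟩) ?_⟩
    rintro _ ⟨x, hx, rfl⟩
    obtain ⟨n, hn⟩ := hB x hx
    refine ⟨n, ?_⟩
    dsimp only
    rw [← map_zpow]
    exact QuotientGroup.eq.2 hn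
  have hcent : A.map f ≤ Subgroup.centralizer (B.map f : Set (G ⧸ C)) := by
    refine le_trans ((Subgroup.map_mono hAcomm).trans ?_)
      (SolvStruct.commutator_le_centralizer_of_isCyclic (B.map f))
    rw [commutator_def, commutator_def, Subgroup.map_commutator]
    exact Subgroup.commutator_mono le_top le_top
  have hdec : ∀ u ∈ A.map f, ∃ n : ℤ, ∃ c ∈ B.map f, u = f a ^ n * c := by
    rintro _ ⟨x, hx, rfl⟩
    obtain ⟨n, hn⟩ := hA x hx
    exact ⟨n, _, ⟨_, hn, rfl⟩, by rw [← map_zpow, ← map_mul, mul_inv_cancel_left]⟩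
  have hab : ⁅A.map f, A.map f⁆ = ⊥ := by
    rw [← le_bot_iff, Subgroup.commutator_le]
    intro u hu v hv
    rw [Subgroup.mem_bot, commutatorElement_eq_one_iff_commute]
    obtain ⟨n, c, hc, rfl⟩ := hdec u hu
    obtain ⟨m, d, hd, rfl⟩ := hdec v hv
    have haf : f a ∈ A.map f := ⟨a, ha, rfl⟩
    have h0 : ∀ e ∈ B.map f, ∀ w ∈ A.map f, Commute e w := fun e he w hw =>
      (hcent hw) e he
    have hcd : Commute c d := h0 c hc d (Subgroup.map_mono (derivedSeries_antitone G (Nat.le_succ i)) hd)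
    exact ((Commute.zpow_zpow_self _ _ _).mul_right (h0 d hd _ (zpow_mem haf n)).symm).mul_left
      ((h0 c hc _ (zpow_mem haf m)).mul_right hcd)
  have h : B.map f = ⊥ := by rw [hBA, Subgroup.map_commutator, hab]
  intro x hx
  have h2 : f x ∈ B.map f := Subgroup.mem_map_of_mem f hx
  rw [h, Subgroup.mem_bot] at h2
  exact (QuotientGroup.eq_one_iff x).1 h2

end Cfsg.Agent.S0555
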