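import Cfsg.Statements.S0557
import Cfsg.Agent.Lib.Cores.Basic

set_option autoImplicit false
open Cfsg

namespace Cfsg.Agent.S0557

theorem focal_le {G : Type*} [Group G] (K : Subgroup G) {H' : Subgroup K} {H : Subgroup G}
    (h : H'.map K.subtype ≤ H) :
    (Subgroup.focalSubgroup H').map K.subtype ≤ Subgroup.focalSubgroup H := by
  rw [Subgroup.focalSubgroup_def, MonoidHom.map_closure, Subgroup.closure_le]
  rintro _ ⟨g, ⟨hg, x, hx, u, rfl⟩, rfl⟩
  exact Subgroup.subset_closure
    ⟨h ⟨_, hg, rfl⟩, x, h ⟨x, hx, rfl⟩, u, map_commutatorElement K.subtype x u⟩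

theorem iterate_le {G : Type*} [Group G] (K : Subgroup G) :
    ∀ (n : ℕ) {H' : Subgroup K} {H : Subgroup G}, H'.map K.subtype ≤ H →
      (((fun L : Subgroup K => Subgroup.focalSubgroup L)^[n]) H').map K.subtype ≤
        ((fun L : Subgroup G => Subgroup.focalSubgroup L)^[n]) H := by
  intro n
  induction n with
  | zero => exact fun h => h
  | succ n ih =>
    intro H' H h
    rw [Function.iterate_succ_apply, Function.iterate_succ_apply]
    exact ih (focal_le K h)

theorem aux (n : ℕ) : ∀ (G : Type*) [Group G] [Finite G] (H : Subgroup G),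
    (Nat.card H).Coprime H.index → (fun K : Subgroup G => Subgroup.focalSubgroup K)^[n] H = ⊥ →
      ∃ N : Subgroup G, N.Normal ∧ Subgroup.IsComplement' N H := by
  induction n with
  | zero =>
    intro G _ _ H _ hf
    simp only [Function.iterate_zero, id_eq] at hf
    subst hf
    exact ⟨⊤, inferInstance, Subgroup.isComplement'_top_bot⟩
  | succ n ih =>
    intro G _ _ H hHall hf
    open scoped IsMulCommutative in
    set V := Subgroup.transferFocal H with hVdef
    set K := V.ker with hK
    have hcop : (Nat.card (H ⧸ Subgroup.focalSubgroupOf H)).Coprime H.index :=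
      hHall.coprime_dvd_left (Subgroup.card_quotient_dvd_card _)
    have hres : ∀ x : H, V x = powCoprime hcop (x : H ⧸ Subgroup.focalSubgroupOf H) :=
      fun x => Subgroup.transferFocal_eq_pow H x
    have hfH : Subgroup.focalSubgroup H ≤ H := Subgroup.focalSubgroup_le H
    have hmemK : ∀ x : H, ((x : G) ∈ K ↔ (x : G) ∈ Subgroup.focalSubgroup H) := by
      intro x
      rw [hK, MonoidHom.mem_ker, hres]
      constructor
      · intro h
        have h' : powCoprime hcop (x : H ⧸ Subgroup.focalSubgroupOf H) = powCoprime hcop 1 :=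
          h.trans (powCoprime_one hcop).symm
        have h2 : (x : H ⧸ Subgroup.focalSubgroupOf H) = 1 := (powCoprime hcop).injective h'
        have h3 := (QuotientGroup.eq_one_iff x).1 h2
        rwa [Subgroup.focalSubgroupOf_def, Subgroup.mem_subgroupOf] at h3
      · intro h
        have h2 : (x : H ⧸ Subgroup.focalSubgroupOf H) = 1 := by
          rw [QuotientGroup.eq_one_iff, Subgroup.focalSubgroupOf_def, Subgroup.mem_subgroupOf]
          exact h
        rw [h2]
        exact powCoprime_one hcop
    have hKH : K ⊓ H = Subgroup.focalSubgroup H := le_antisymm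
      (fun x hx => (hmemK ⟨x, hx.2⟩).1 hx.1)
      (fun x hx => ⟨(hmemK ⟨x, hfH hx⟩).2 hx, hfH hx⟩)
    have hdec : ∀ g : G, ∃ h ∈ H, g * h⁻¹ ∈ K := by
      intro g
      obtain ⟨y, hy⟩ := (powCoprime hcop).surjective (V g)
      obtain ⟨x, rfl⟩ := QuotientGroup.mk_surjective y
      refine ⟨x, x.2, ?_⟩
      rw [hK, MonoidHom.mem_ker, map_mul, map_inv, hres, hy, mul_inv_cancel]
    have hsup : H ⊔ K = ⊤ := top_le_iff.1 fun g _ => by
      obtain ⟨h, hh, hk⟩ := hdec g
      rw [show g = g * h⁻¹ * h by group]
      exact mul_mem (Subgroup.mem_sup_right hk) (Subgroup.mem_sup_left hh)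
    have hidx : H.relIndex K = H.index := by
      have h1 := Cores.card_sup_mul_card_inf H K
      rw [hsup, Subgroup.card_top] at h1
      have h2 : Nat.card ↥(H ⊓ K) * H.relIndex K = Nat.card K := by
        rw [← Subgroup.relIndex_bot_left, ← Subgroup.relIndex_bot_left,
          ← Subgroup.inf_relIndex_right H K,
          Subgroup.relIndex_mul_relIndex ⊥ (H ⊓ K) K bot_le inf_le_right]
      rw [← H.card_mul_index, ← h2] at h1
      refine (Nat.eq_of_mul_eq_mul_left (Nat.card_pos (α := H)) ?_).symm
      refine Nat.eq_of_mul_eq_mul_right (Nat.card_pos (α := ↥(H ⊓ K))) ?_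
      rw [h1]; ring
    set H₁ := (Subgroup.focalSubgroup H).subgroupOf K with hH₁
    have hH₁i : H₁.index = H.index := by
      rw [hH₁, ← Subgroup.relIndex, ← hKH, inf_comm, Subgroup.inf_relIndex_right, hidx]
    have hfocK : Subgroup.focalSubgroup H ≤ K := hKH ▸ inf_le_left
    have hcard₁ : Nat.card H₁ = Nat.card (Subgroup.focalSubgroup H) :=
      Nat.card_congr (Subgroup.subgroupOfEquivOfLe hfocK).toEquiv
    have hHall₁ : (Nat.card H₁).Coprime H₁.index := by
      rw [hcard₁, hH₁i]
      exact hHall.coprime_dvd_left (Subgroup.card_dvd_of_le hfH)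
    have hit : (fun L : Subgroup K => Subgroup.focalSubgroup L)^[n] H₁ = ⊥ := by
      have hle : H₁.map K.subtype ≤ Subgroup.focalSubgroup H :=
        (Subgroup.map_subgroupOf_eq_of_le hfocK).le
      have h := iterate_le K n hle
      rw [Function.iterate_succ_apply] at hf
      rw [hf, le_bot_iff, Subgroup.map_eq_bot_iff_of_injective _ K.subtype_injective] at h
      exact h
    obtain ⟨N₁, hN₁, hN₁c⟩ := ih K H₁ hHall₁ hit
    have hN₁card : Nat.card N₁ = H.index := by rw [← hN₁c.index_eq_card, hH₁i]
    have hN₁i : N₁.index = Nat.card H₁ := hN₁c.symm.index_eq_card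
    haveI : N₁.Normal := hN₁
    haveI : N₁.Characteristic := by
      rw [Subgroup.characteristic_iff_map_le]
      intro φ
      have hc : Nat.card (N₁.map φ.toMonoidHom) = Nat.card N₁ :=
        Subgroup.card_map_of_injective φ.injective
      have h1 : Nat.card ((N₁.map φ.toMonoidHom).map (QuotientGroup.mk' N₁)) = 1 := by
        refine Nat.eq_one_of_dvd_coprimes (?_ : (Nat.card N₁).Coprime N₁.index)
          (hc ▸ Subgroup.card_map_dvd _ _) (Subgroup.card_subgroup_dvd_card _)
        rw [hN₁i, hN₁card, hcard₁]
        exact (hHall.coprime_dvd_left (Subgroup.card_dvd_of_le hfH)).symm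
      intro x hx
      have h2 : QuotientGroup.mk' N₁ x ∈ (N₁.map φ.toMonoidHom).map (QuotientGroup.mk' N₁) :=
        ⟨x, hx, rfl⟩
      rw [Subgroup.eq_bot_of_card_eq _ h1, Subgroup.mem_bot] at h2
      exact (QuotientGroup.eq_one_iff x).1 h2
    refine ⟨N₁.map K.subtype, inferInstance, Subgroup.isComplement'_of_coprime ?_ ?_⟩
    · rw [Subgroup.card_map_of_injective K.subtype_injective, hN₁card, mul_comm, H.card_mul_index]
    · rw [Subgroup.card_map_of_injective K.subtype_injective, hN₁card]
      exact hHall.symm

/-- Let H be a subgroup of a finite group G with order coprime to its index. If iterating the focal-subgroup construction starting from H reaches the trivial subgroup after finitely many steps, then H has a normal complement in G. -/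
theorem result {G : Type*} [Group G] [Finite G] (H : Subgroup G) (hHall : (Nat.card H).Coprime H.index) (n : ℕ) (hfoc : (fun K : Subgroup G => Subgroup.focalSubgroup K)^[n] H = ⊥) : ∃ N : Subgroup G, N.Normal ∧ Subgroup.IsComplement' N H := by
  exact aux n G H hHall hfoc

end Cfsg.Agent.S0557
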