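import Cfsg.Statements.S0558
import Cfsg.Agent.Lib.Transfer.NilpotentHall

set_option autoImplicit false
open Cfsg

namespace Cfsg.Agent.S0558

/-- Let H be a subgroup of a finite group G that is not a Sylow subgroup of G for any prime, and suppose that for every prime p dividing the order of H and every Sylow p-subgroup P of H the normalizer of P in G is exactly H. Then some normal subgroup of G is a complement to H. -/
theorem result {G : Type*} [Group G] [Finite G] (H : Subgroup G) (hnot : ∀ p : ℕ, p.Prime → ∀ P : Sylow p G, (P : Subgroup G) ≠ H) (hnorm : ∀ p : ℕ, p.Prime → p ∣ Nat.card H → ∀ P : Sylow p H, Subgroup.normalizer (((P : Subgroup H).map H.subtype : Subgroup G) : Set G) = H) : ∃ N : Subgroup G, N.Normal ∧ Subgroup.IsComplement' N H := by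
  classical
  -- the Sylow subgroups of `H` are Sylow in `G` and normal in `H`
  have hsyl : ∀ p : ℕ, ∀ [Fact p.Prime], p ∣ Nat.card H → ∀ P : Sylow p H,
      ∃ R : Sylow p G, (R : Subgroup G) = (P : Subgroup H).map H.subtype ∧
        Subgroup.normalizer ((R : Subgroup G) : Set G) = H := by
    intro p _ hp P
    have hN := hnorm p Fact.out hp P
    obtain ⟨R, hR⟩ := (P.2.map H.subtype).exists_le_sylow
    have hRe : (R : Subgroup G) = (P : Subgroup H).map H.subtype := by
      by_contra hne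
      have hlt := Transfer.Frobenius.lt_inf_normalizer R.2 (lt_of_le_of_ne hR (Ne.symm hne))
      rw [hN] at hlt
      refine hlt.not_ge ?_
      intro x hx
      have h1 : (P : Subgroup H) ≤ (R : Subgroup G).subgroupOf H := fun y hy =>
        Subgroup.mem_subgroupOf.2 (hR ⟨y, hy, rfl⟩)
      have h2 := P.3 (R.2.comap_subtype (K := H)) h1
      have hxR : x ∈ (R : Subgroup G) := (Subgroup.mem_inf.1 hx).1
      have hxH : x ∈ H := (Subgroup.mem_inf.1 hx).2
      have h3 : (⟨x, hxH⟩ : H) ∈ (P : Subgroup H) :=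
        (show (R : Subgroup G).subgroupOf H = (P : Subgroup H) from h2) ▸
          Subgroup.mem_subgroupOf.2 hxR
      exact ⟨⟨x, hxH⟩, h3, rfl⟩
    exact ⟨R, hRe, hRe ▸ hN⟩
  have hnormal : ∀ p : ℕ, ∀ [Fact p.Prime], ∀ P : Sylow p H, (P : Subgroup H).Normal := by
    intro p _ P
    by_cases hp : p ∣ Nat.card H
    · have h1 := hnorm p Fact.out hp P
      have h2 := (Subgroup.normal_subgroupOf_iff_le_normalizer
        (Subgroup.map_subtype_le (P : Subgroup H))).2 h1.ge
      rwa [Subgroup.subgroupOf, Subgroup.comap_map_eq_self_of_injective H.subtype_injective] at h2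
    · have h1 : (P : Subgroup H) = ⊥ := by
        rw [← Subgroup.card_eq_one]
        obtain ⟨k, hk⟩ := P.2.exists_card_eq
        rcases k with _ | k
        · rw [hk, pow_zero]
        · exact absurd ((dvd_pow_self p k.succ_ne_zero).trans
            (hk ▸ (P : Subgroup H).card_subgroup_dvd_card)) hp
      rw [h1]; infer_instance
  haveI hnil : Group.IsNilpotent H := by
    have htfae := (Group.isNilpotent_of_finite_tfae (G := H))
    exact (htfae.out 3 0).1 fun p hp P => @hnormal p hp P
  have hHall : (Nat.card H).Coprime H.index := by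
    refine Nat.coprime_of_dvd fun r hr h1 h2 => ?_
    haveI := Fact.mk hr
    obtain ⟨P⟩ := (inferInstance : Nonempty (Sylow r H))
    obtain ⟨R, hR, -⟩ := hsyl r h1 P
    refine R.not_dvd_index ?_
    rw [hR, Subgroup.index_map_subtype]
    exact h2.mul_left _
  -- a prime different from a given one
  have hq : ∀ p : ℕ, p.Prime → ∃ q : ℕ, q.Prime ∧ q ≠ p ∧ q ∣ Nat.card H := by
    intro p hp
    haveI := Fact.mk hp
    by_contra hcon
    push Not at hcon
    by_cases hpH : p ∣ Nat.card H
    · obtain ⟨P⟩ := (inferInstance : Nonempty (Sylow p H))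
      obtain ⟨R, hR, -⟩ := hsyl p hpH P
      refine hnot p hp R ?_
      have h1 : (P : Subgroup H) = ⊤ := by
        rw [← Subgroup.index_eq_one]
        by_contra hne
        obtain ⟨r, hr, hrd⟩ := Nat.exists_prime_and_dvd hne
        by_cases hrp : r = p
        · exact P.not_dvd_index (hrp ▸ hrd)
        · exact hcon r hr hrp (hrd.trans (Subgroup.index_dvd_card _))
      rw [hR, h1, ← MonoidHom.range_eq_map, Subgroup.range_subtype]
    · have hH : H = ⊥ := by
        rw [← Subgroup.card_eq_one]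
        by_contra hne
        obtain ⟨r, hr, hrd⟩ := Nat.exists_prime_and_dvd hne
        by_cases hrp : r = p
        · exact hpH (hrp ▸ hrd)
        · exact hcon r hr hrp hrd
      obtain ⟨r, hrge, hr⟩ := Nat.exists_infinite_primes (Nat.card G + 1)
      haveI := Fact.mk hr
      obtain ⟨R⟩ := (inferInstance : Nonempty (Sylow r G))
      refine hnot r hr R ?_
      rw [hH, ← Subgroup.card_eq_one]
      obtain ⟨k, hk⟩ := R.2.exists_card_eq
      rcases k with _ | k
      · rw [hk, pow_zero]
      · have := Nat.le_of_dvd Nat.card_pos ((dvd_pow_self r k.succ_ne_zero).trans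
          (hk ▸ (R : Subgroup G).card_subgroup_dvd_card))
        omega
  have hcompl : ∀ p : ℕ, ∀ [Fact p.Prime], p ∣ Nat.card H → HasNormalPComplement p G := by
    intro p _ hp
    obtain ⟨P₀⟩ := (inferInstance : Nonempty (Sylow p H))
    obtain ⟨P, hP, -⟩ := hsyl p hp P₀
    obtain ⟨q, hqp, hne, hqH⟩ := hq p Fact.out
    haveI := Fact.mk hqp
    obtain ⟨Q₀⟩ := (inferInstance : Nonempty (Sylow q H))
    obtain ⟨Q, hQ, hQN⟩ := hsyl q hqH Q₀
    have hcomm : ∀ u ∈ (Q : Subgroup G), ∀ v ∈ (P : Subgroup G), u * v = v * u := by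
      intro u hu v hv
      rw [hQ] at hu
      rw [hP] at hv
      obtain ⟨u, hu, rfl⟩ := hu
      obtain ⟨v, hv, rfl⟩ := hv
      rw [← map_mul, ← map_mul, (Subgroup.commute_of_normal_of_disjoint _ _ (hnormal q Q₀)
        (hnormal p P₀) (IsPGroup.disjoint_of_ne q p hne _ _ Q₀.2 P₀.2) u v hu hv).eq]
    refine Transfer.Frobenius.hasNormalPComplement_of_condition
      (Transfer.NilpotentHall.condition_of_fusion P fun x hx g hgx => ?_)
    set C := Subgroup.centralizer ({g * x * g⁻¹} : Set G)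
    have h1 : (Q : Subgroup G) ≤ C := fun u hu =>
      Subgroup.mem_centralizer_singleton_iff.2 (hcomm u hu _ hgx)
    have h2 : ((g • Q : Sylow q G) : Subgroup G) ≤ C := by
      intro u hu
      have hu' := Transfer.Fusion.mem_smul_sylow_iff.1 hu
      refine Subgroup.mem_centralizer_singleton_iff.2 ?_
      calc u * (g * x * g⁻¹) = g * ((g⁻¹ * u * g) * x) * g⁻¹ := by group
        _ = g * (x * (g⁻¹ * u * g)) * g⁻¹ := by rw [hcomm _ hu' x hx]
        _ = g * x * g⁻¹ * u := by group
    obtain ⟨c, hc, hceq⟩ := Transfer.Fusion.exists_conj_eq_of_le h2 h1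
    rw [Transfer.Fusion.coe_smul_eq_map, ← Transfer.Fusion.map_conj_mul] at hceq
    have hn : c * g ∈ H := by
      rw [← hQN]; exact Transfer.Fusion.map_conj_eq_self_iff.1 hceq
    have hcx : c * g * x * (c * g)⁻¹ = g * x * g⁻¹ := by
      calc c * g * x * (c * g)⁻¹ = c * (g * x * g⁻¹) * c⁻¹ := by group
        _ = g * x * g⁻¹ := by rw [Subgroup.mem_centralizer_singleton_iff.1 hc]; group
    obtain ⟨s, hs, w, hw, hsw⟩ := Subgroup.mem_sup_of_normal_left.1
      (show (⟨c * g, hn⟩ : H) ∈ (P₀ : Subgroup H) ⊔ Subgroup.centralizer ((P₀ : Subgroup H) : Set H) by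
        rw [sup_comm, Transfer.NilpotentHall.centralizer_sup_eq_top]; trivial)
    have hswG : (s : G) * (w : G) = c * g := congrArg Subtype.val hsw
    refine ⟨s, show (s : G) ∈ (P : Subgroup G) by rw [hP]; exact ⟨s, hs, rfl⟩, ?_⟩
    rw [← hcx, ← hswG]
    have hxP : x ∈ (P₀ : Subgroup H).map H.subtype := hP ▸ hx
    obtain ⟨x, hx', rfl⟩ := hxP
    have h3 : (x : G) * w = w * x := congrArg Subtype.val (hw x hx')
    calc (s : G) * H.subtype x * (s : G)⁻¹ = s * ((x : G) * w) * (w : G)⁻¹ * (s : G)⁻¹ := by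
          simp [mul_assoc]
      _ = _ := by rw [h3]; simp [mul_assoc]
  have hN : ∀ p : (Nat.card H).primeFactors, ∃ N : Subgroup G, N.Normal ∧
      (Nat.card N).Coprime p ∧ ∃ k : ℕ, N.index = (p : ℕ) ^ k := fun p => by
    haveI := Fact.mk (Nat.prime_of_mem_primeFactors p.2)
    exact Transfer.NormalPComplement.hasNormalPComplement_iff_exists.1
      (hcompl p (Nat.dvd_of_mem_primeFactors p.2))
  choose N hNn hNc k hNi using hN
  refine ⟨⨅ p, N p, Subgroup.normal_iInf_normal hNn, ?_⟩
  haveI := Subgroup.normal_iInf_normal hNn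
  have hdisj : Disjoint (⨅ p, N p) H := by
    refine Subgroup.disjoint_of_coprime_natCard (Nat.coprime_of_dvd fun r hr h1 h2 => ?_)
    let p : (Nat.card H).primeFactors := ⟨r, Nat.mem_primeFactors.2 ⟨hr, h2, Nat.card_pos.ne'⟩⟩
    exact Nat.not_coprime_of_dvd_of_dvd hr.one_lt (h1.trans
      (Subgroup.card_dvd_of_le (iInf_le N p))) dvd_rfl (hNc p)
  refine Subgroup.isComplement'_of_disjoint_and_mul_eq_univ hdisj ?_
  rw [← Subgroup.normal_mul, ← Subgroup.coe_top, SetLike.coe_set_eq, ← Subgroup.index_eq_one]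
  by_contra hne
  obtain ⟨r, hr, hrd⟩ := Nat.exists_prime_and_dvd hne
  haveI := Fact.mk hr
  have hrN : r ∣ (⨅ p, N p).index := hrd.trans (Subgroup.index_dvd_of_le le_sup_left)
  obtain ⟨y, hy⟩ := exists_prime_orderOf_dvd_card' (G := G ⧸ ⨅ p, N p) r hrN
  obtain ⟨y, rfl⟩ := QuotientGroup.mk'_surjective _ y
  obtain ⟨p, hyp⟩ : ∃ p, y ∉ N p := by
    by_contra hcon
    push Not at hcon
    have h1 : QuotientGroup.mk' (⨅ p, N p) y = 1 :=
      (QuotientGroup.eq_one_iff y).2 (Subgroup.mem_iInf.2 hcon)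
    rw [h1, orderOf_one] at hy
    exact hr.one_lt.ne hy
  haveI := hNn p
  have hypow : y ^ r ∈ N p := by
    refine Subgroup.mem_iInf.1 ((QuotientGroup.eq_one_iff _).1 (?_ : QuotientGroup.mk' (⨅ p, N p) (y ^ r) = 1)) p
    rw [map_pow, ← hy, pow_orderOf_eq_one]
  have hop : orderOf (QuotientGroup.mk' (N p) y) = r := by
    refine orderOf_eq_prime ?_ fun h1 => hyp ((QuotientGroup.eq_one_iff y).1 h1)
    rw [← map_pow]; exact (QuotientGroup.eq_one_iff _).2 hypow
  have hrp : r ∣ (p : ℕ) ^ k p := by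
    rw [← hNi p, ← hop]; exact orderOf_dvd_natCard _
  have hrH : r ∣ Nat.card H := by
    rw [(Nat.prime_dvd_prime_iff_eq hr (Nat.prime_of_mem_primeFactors p.2)).1
      (hr.dvd_of_dvd_pow hrp)]
    exact Nat.dvd_of_mem_primeFactors p.2
  exact Nat.not_coprime_of_dvd_of_dvd hr.one_lt hrH
    (hrd.trans (Subgroup.index_dvd_of_le le_sup_right)) hHall


end Cfsg.Agent.S0558
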