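import Cfsg.Statements.S0561
import Cfsg.Agent.SolvStruct.FactorizedHall

set_option autoImplicit false
open Pointwise
open Cfsg

namespace Cfsg.Agent.S0561

/-- Let the finite solvable group G be the product HK of subgroups, and let A be normal in H and B normal in K, where A and B are Hall subgroups of G (order coprime to index). Then for all x, y the product set of xAx⁻¹ and yBy⁻¹ is a subgroup of G. -/
theorem result {G : Type*} [Group G] [Finite G] [Group.IsSolvable G] (H K A B : Subgroup G) (hHK : ∀ g : G, ∃ h ∈ H, ∃ k ∈ K, g = h * k) (hA : A ≤ H) (hAn : (A.subgroupOf H).Normal) (hB : B ≤ K) (hBn : (B.subgroupOf K).Normal) (hAh : (Nat.card A).Coprime A.index) (hBh : (Nat.card B).Coprime B.index) (x y : G) : ∃ S : Subgroup G, (S : Set G) = ((MulAut.conj x • A : Subgroup G) : Set G) * ((MulAut.conj y • B : Subgroup G) : Set G) := by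
  obtain ⟨h, hh, k, hk, hxy⟩ := hHK (x⁻¹ * y)
  obtain ⟨S, hS⟩ := SolvStruct.FactorizedHall.mul_subgroup hHK hA hAn hB hBn hAh hBh
  refine ⟨MulAut.conj (x * h) • S, ?_⟩
  have hA' : MulAut.conj h • A = A := Coprime.conj_smul_eq_self_iff.2
    ((Subgroup.normal_subgroupOf_iff_le_normalizer hA).1 hAn hh)
  have hB' : MulAut.conj k⁻¹ • B = B := Coprime.conj_smul_eq_self_iff.2
    ((Subgroup.normal_subgroupOf_iff_le_normalizer hB).1 hBn (inv_mem hk))
  have hy : x * h = y * k⁻¹ := by
    rw [show y = x * (x⁻¹ * y) by rw [mul_inv_cancel_left], hxy]; simp [mul_assoc]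
  rw [Subgroup.coe_pointwise_smul, hS, smul_mul', ← Subgroup.coe_pointwise_smul,
    ← Subgroup.coe_pointwise_smul]
  nth_rewrite 2 [hy]
  rw [Coprime.conj_smul_mul, Coprime.conj_smul_mul, hA', hB']

end Cfsg.Agent.S0561
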