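import Cfsg.Statements.S0562
import Cfsg.Agent.Lib.Coprime.Basic

set_option autoImplicit false
open Cfsg

namespace Cfsg.Agent.S0562

open scoped Pointwise

/-- Let the finite group G be the product HK of subgroups, A normal in H, B normal in K, and L the normalizer of the subgroup generated by A and B. Then every element of L is a product of an element of L ∩ H and an element of L ∩ K. -/
theorem result {G : Type*} [Group G] [Finite G] (H K A B : Subgroup G) (hHK : ∀ g : G, ∃ h ∈ H, ∃ k ∈ K, g = h * k) (hA : A ≤ H) (hAn : (A.subgroupOf H).Normal) (hB : B ≤ K) (hBn : (B.subgroupOf K).Normal) : ∀ g ∈ Subgroup.normalizer ((A ⊔ B : Subgroup G) : Set G), ∃ h ∈ Subgroup.normalizer ((A ⊔ B : Subgroup G) : Set G) ⊓ H, ∃ k ∈ Subgroup.normalizer ((A ⊔ B : Subgroup G) : Set G) ⊓ K, g = h * k := by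
  intro g hg
  obtain ⟨h, hh, k, hk, rfl⟩ := hHK g
  have hA' : MulAut.conj h • A = A := Coprime.conj_smul_eq_self_iff.2
    ((Subgroup.normal_subgroupOf_iff_le_normalizer hA).1 hAn hh)
  have hB' : MulAut.conj k • B = B := Coprime.conj_smul_eq_self_iff.2
    ((Subgroup.normal_subgroupOf_iff_le_normalizer hB).1 hBn hk)
  set X := A ⊔ B with hX
  have hg' : MulAut.conj h • (MulAut.conj k • X) = X := by
    rw [← Coprime.conj_smul_mul]
    exact Coprime.conj_smul_eq_self_iff.2 hg
  have hle : X ≤ MulAut.conj k • X := by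
    refine sup_le (fun a ha => ?_) (fun b hb => ?_)
    · have h1 : h * a * h⁻¹ ∈ MulAut.conj h • (MulAut.conj k • X) := by
        rw [hg']
        refine Subgroup.mem_sup_left ?_
        rw [← hA']
        exact Coprime.conj_mem_conj_smul ha
      rw [Coprime.mem_conj_smul] at h1
      convert h1 using 1
      group
    · rw [← hB'] at hb
      rw [Coprime.mem_conj_smul] at hb ⊢
      exact Subgroup.mem_sup_right hb
  have hk' : MulAut.conj k • X = X :=
    (Subgroup.eq_of_le_of_card_ge hle (Coprime.card_conj_smul k X).le).symm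
  rw [hk'] at hg'
  exact ⟨h, ⟨Coprime.conj_smul_eq_self_iff.1 hg', hh⟩, k,
    ⟨Coprime.conj_smul_eq_self_iff.1 hk', hk⟩, rfl⟩

end Cfsg.Agent.S0562
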