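import Cfsg.Statements.S0563
import Cfsg.Agent.SolvStruct.Kegel.Main
import Cfsg.Agent.SolvStruct.FactorizedHall

set_option autoImplicit false
open Pointwise
open Cfsg

namespace Cfsg.Agent.S0563

/-- If a finite group G is the product AB of two nilpotent subgroups of coprime orders, then G is solvable, and for every Sylow p-subgroup P of A and Sylow q-subgroup Q of B the product set PQ is a subgroup. -/
theorem result {G : Type*} [Group G] [Finite G] (A B : Subgroup G) (hA : Group.IsNilpotent A) (hB : Group.IsNilpotent B) (hcop : (Nat.card A).Coprime (Nat.card B)) (hAB : ∀ g : G, ∃ a ∈ A, ∃ b ∈ B, g = a * b) : Group.IsSolvable G ∧ ∀ (p q : ℕ) [Fact p.Prime] [Fact q.Prime] (P : Sylow p A) (Q : Sylow q B), ∃ S : Subgroup G, (S : Set G) = (((P : Subgroup A).map A.subtype : Subgroup G) : Set G) * (((Q : Subgroup B).map B.subtype : Subgroup G) : Set G) := by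
  have hs : Group.IsSolvable G := SolvStruct.Kegel.isSolvable _ G A B rfl hA hB hAB
  refine ⟨hs, fun p q _ _ P Q => ?_⟩
  haveI := hs
  have hind : A.index ∣ Nat.card B := by
    have h1 : (Set.univ : Set G) = (A : Set G) * (B : Set G) := by
      refine (Set.eq_univ_iff_forall.2 fun g => ?_).symm
      obtain ⟨a, ha, b, hb, rfl⟩ := hAB g
      exact Set.mul_mem_mul ha hb
    have h2 : Disjoint A B := Subgroup.disjoint_of_coprime_natCard hcop
    have h3 := (Subgroup.isComplement'_of_disjoint_and_mul_eq_univ h2 h1.symm).symm.index_eq_card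
    exact dvd_of_eq h3
  have hind' : B.index ∣ Nat.card A := by
    have h1 : (Set.univ : Set G) = (A : Set G) * (B : Set G) := by
      refine (Set.eq_univ_iff_forall.2 fun g => ?_).symm
      obtain ⟨a, ha, b, hb, rfl⟩ := hAB g
      exact Set.mul_mem_mul ha hb
    have h2 : Disjoint A B := Subgroup.disjoint_of_coprime_natCard hcop
    have h3 := (Subgroup.isComplement'_of_disjoint_and_mul_eq_univ h2 h1.symm).index_eq_card
    exact dvd_of_eq h3
  have key : ∀ (C D : Subgroup G) (r : ℕ) [Fact r.Prime] (R : Sylow r C), Group.IsNilpotent C →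
      C.index ∣ Nat.card D → (Nat.card C).Coprime (Nat.card D) →
      ((((R : Subgroup C).map C.subtype : Subgroup G)).subgroupOf C).Normal ∧
        (Nat.card ((R : Subgroup C).map C.subtype : Subgroup G)).Coprime
          ((R : Subgroup C).map C.subtype : Subgroup G).index := by
    intro C D r _ R hC hCD hco
    haveI := hC
    refine ⟨?_, ?_⟩
    · rw [Subgroup.subgroupOf, Subgroup.comap_map_eq_self_of_injective C.subtype_injective]
      infer_instance
    · rw [Subgroup.card_map_of_injective C.subtype_injective, Subgroup.index_map_subtype]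
      exact Nat.Coprime.mul_right R.card_coprime_index
        ((hco.coprime_dvd_left (Subgroup.card_subgroup_dvd_card _)).coprime_dvd_right hCD)
  obtain ⟨h1, h2⟩ := key A B p P hA hind hcop
  obtain ⟨h3, h4⟩ := key B A q Q hB hind' hcop.symm
  exact SolvStruct.FactorizedHall.mul_subgroup hAB (Subgroup.map_subtype_le _) h1
    (Subgroup.map_subtype_le _) h3 h2 h4

end Cfsg.Agent.S0563
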