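import Cfsg.Statements.S0567
import Cfsg.Agent.SolvStruct.Basic

set_option autoImplicit false
open Cfsg

namespace Cfsg.Agent.S0567

/-- A subgroup H of a group G is subnormal exactly when, for some m, the subgroup obtained from G by taking the commutator with H m times in succession is contained in H. -/
theorem result {G : Type*} [Group G] (H : Subgroup G) : H.IsSubnormal ↔ ∃ m : ℕ, (fun K : Subgroup G => ⁅K, H⁆)^[m] ⊤ ≤ H := by
  constructor
  · intro hH
    obtain ⟨n, f, hf, hn, h0, htop⟩ := hH.exists_chain
    refine ⟨n, ?_⟩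
    suffices h : ∀ k ≤ n, (fun K : Subgroup G => ⁅K, H⁆)^[k] ⊤ ≤ f (n - k) by
      simpa [h0] using h n le_rfl
    intro k hk
    induction k with
    | zero => simp [htop]
    | succ k ih =>
      rw [Function.iterate_succ_apply']
      have e : n - k = n - (k + 1) + 1 := by omega
      have hH' : H ≤ f (n - (k + 1)) := h0 ▸ hf (Nat.zero_le _)
      refine (Subgroup.commutator_mono (ih (by omega)) hH').trans ?_
      rw [e, ← Subgroup.le_normalizer_iff_commutator_le_right]
      have hle : f (n - (k + 1)) ≤ f (n - (k + 1) + 1) := hf (Nat.le_succ _)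
      exact (Subgroup.normal_subgroupOf_iff_le_normalizer hle).1 (hn _)
  · rintro ⟨m, hm⟩
    set T : ℕ → Subgroup G := fun k => (fun K : Subgroup G => ⁅K, H⁆)^[k] ⊤ with hT
    have hsucc : ∀ k, T (k + 1) = ⁅T k, H⁆ := fun k => Function.iterate_succ_apply' _ _ _
    have hmono : ∀ k, T (k + 1) ≤ T k := by
      intro k
      induction k with
      | zero => simp [hT]
      | succ k ih =>
        rw [hsucc (k + 1), hsucc k]
        exact Subgroup.commutator_mono (hsucc k ▸ ih) le_rfl
    have key : ∀ k, (T k ⊔ H).IsSubnormal := by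
      intro k
      induction k with
      | zero =>
        have h0 : T 0 ⊔ H = ⊤ := by simp [hT]
        rw [h0]
        exact Subgroup.IsSubnormal.top
      | succ k ih =>
        have hle : T (k + 1) ⊔ H ≤ T k ⊔ H := sup_le_sup_right (hmono k) H
        refine .step _ _ hle ih ((Subgroup.normal_subgroupOf_iff_le_normalizer hle).2 (sup_le ?_
          (le_sup_right.trans Subgroup.le_normalizer)))
        intro g hg
        have hsw : ∀ u ∈ T k, ∀ x ∈ T (k + 1) ⊔ H, u * x * u⁻¹ ∈ T (k + 1) ⊔ H := by
          intro u hu x hx
          have h1 : (T (k + 1) ⊔ H).map (MulAut.conj u).toMonoidHom ≤ T (k + 1) ⊔ H := by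
            rw [Subgroup.map_sup]
            refine sup_le (le_trans ?_ le_sup_left) ?_
            · rintro _ ⟨y, hy, rfl⟩
              rw [hsucc] at hy ⊢
              exact (Subgroup.mem_normalizer_iff.1 (Subgroup.normalizer_commutator_ge_left (T k) H hu) y).1 hy
            · rintro _ ⟨y, hy, rfl⟩
              rw [MulEquiv.coe_toMonoidHom, conj_eq_commutatorElement_mul]
              exact Subgroup.mul_mem_sup
                (hsucc k ▸ Subgroup.commutator_mem_commutator hu hy) hy
          exact h1 ⟨x, hx, rfl⟩
        exact SolvStruct.le_normalizer_of_conj_mem hsw hg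
    have := key m
    rwa [sup_eq_right.2 hm] at this

end Cfsg.Agent.S0567
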