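import Cfsg.Statements.S0575
import Cfsg.Agent.Lib.Cores.Basic

set_option autoImplicit false
open Cfsg

namespace Cfsg.Agent.S0575

/-- If H is a normal subgroup of a finite group G, then the Frattini subgroup of H, viewed in G, lies in the Frattini subgroup of G. -/
theorem result {G : Type*} [Group G] [Finite G] (H : Subgroup G) [H.Normal] : (frattini ↥H).map H.subtype ≤ frattini G := by
  set K := (frattini ↥H).map H.subtype with hK
  haveI hKn : K.Normal := inferInstance
  refine le_iInf₂ fun M hM => ?_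
  by_contra hKM
  have htop : K ⊔ M = ⊤ := hM.2 _ (lt_of_le_of_ne le_sup_right fun h => hKM (h ▸ le_sup_left))
  have hgen : M.subgroupOf H ⊔ frattini ↥H = ⊤ := by
    refine top_le_iff.1 fun x _ => ?_
    have hx : (x : G) ∈ K ⊔ M := htop ▸ Subgroup.mem_top _
    rw [← SetLike.mem_coe, Subgroup.normal_mul] at hx
    obtain ⟨_, ⟨k, hk, rfl⟩, m, hm, hkm⟩ := hx
    rw [show x = k * (k⁻¹ * x) by group]
    refine mul_mem (Subgroup.mem_sup_right hk) (Subgroup.mem_sup_left ?_)
    rw [Subgroup.mem_subgroupOf]
    have e : ((k⁻¹ * x : H) : G) = m := by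
      rw [Subgroup.coe_mul, ← hkm, Subgroup.coe_inv, Subgroup.subtype_apply, inv_mul_cancel_left]
    rwa [e]
  exact hKM ((Subgroup.map_subtype_le _).trans
    (Subgroup.subgroupOf_eq_top.1 (frattini_nongenerating hgen)))

end Cfsg.Agent.S0575
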