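import Cfsg.Statements.S0576


set_option autoImplicit false
open Cfsg

namespace Cfsg.Agent.S0576

/-- Let H be a normal subgroup of a finite group G with H contained in the Frattini subgroup of G. Then the group of inner automorphisms of H is contained in the Frattini subgroup of the automorphism group of H. -/
theorem result {G : Type*} [Group G] [Finite G] (H : Subgroup G) [H.Normal] (hH : H ≤ frattini G) : (MulAut.conj : ↥H →* MulAut ↥H).range ≤ frattini (MulAut ↥H) := by
  refine le_iInf₂ fun M hM => ?_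
  change IsCoatom M at hM
  set R := (MulAut.conj : ↥H →* MulAut ↥H).range with hR
  by_contra hle
  have hRn : R.Normal := by
    refine ⟨fun r hr f => ?_⟩
    obtain ⟨x, rfl⟩ := hr
    exact ⟨f x, MulEquiv.ext fun y => by simp [MulAut.conj_apply, MulAut.mul_apply, MulAut.inv_def]⟩
  have hMR : M ⊔ R = ⊤ := hM.2 _ (lt_of_le_of_ne le_sup_left fun h => hle (by rw [h]; exact le_sup_right))
  let φ : G →* MulAut ↥H := MulAut.conjNormal
  have hφ : ∀ x : H, φ x = MulAut.conj x := fun x => MulEquiv.ext fun y => Subtype.ext (by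
    simp [φ, MulAut.conjNormal_apply, MulAut.conj_apply])
  have hK : M.comap φ ⊔ H = ⊤ := by
    refine top_le_iff.1 fun g _ => ?_
    haveI := hRn
    obtain ⟨r, hr, m, hm, he⟩ := Subgroup.mem_sup_of_normal_left.1
      (show φ g ∈ R ⊔ M by rw [sup_comm, hMR]; trivial)
    obtain ⟨x, rfl⟩ := hr
    have h1 : (x : G)⁻¹ * g ∈ M.comap φ := by
      rw [Subgroup.mem_comap, map_mul, map_inv, hφ, ← he, inv_mul_cancel_left]; exact hm
    have h2 := mul_mem (Subgroup.mem_sup_right x.2 : (x : G) ∈ M.comap φ ⊔ H)
      (Subgroup.mem_sup_left h1)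
    simpa using h2
  have hT : M.comap φ = ⊤ :=
    frattini_nongenerating (top_le_iff.1 (hK.symm.le.trans (sup_le_sup_left hH _)))
  refine hle fun r hr => ?_
  obtain ⟨x, rfl⟩ := hr
  rw [← hφ]
  exact Subgroup.mem_comap.1 (hT ▸ Subgroup.mem_top (x : G))


end Cfsg.Agent.S0576
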