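import Cfsg.Statements.S0578
import Cfsg.Agent.Lib.Cores.Nilpotent

set_option autoImplicit false
open Cfsg

namespace Cfsg.Agent.S0578

/-- If in a finite group the normalizer of each abelian subgroup coincides with its centralizer, then the group is abelian. -/
theorem result {G : Type*} [Group G] [Finite G] (h : ∀ A : Subgroup G, IsMulCommutative A → Subgroup.normalizer (A : Set G) = Subgroup.centralizer (A : Set G)) : IsMulCommutative G := by
  have hsyl : ∀ (p : ℕ) [Fact p.Prime] (P : Sylow p G), IsMulCommutative (P : Subgroup G) := by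
    intro p _ P
    haveI : Group.IsNilpotent (P : Subgroup G) := P.isPGroup'.isNilpotent
    by_contra hna
    set Z := Subgroup.center (P : Subgroup G) with hZdef
    have hZ : Z ≠ ⊤ := fun hh => hna ((commutator_eq_bot_iff _).1
      ((commutator_eq_bot_iff_center_eq_top _).2 hh))
    haveI : Nontrivial ((P : Subgroup G) ⧸ Z) := QuotientGroup.nontrivial_iff.2 hZ
    obtain ⟨⟨z, hz⟩, hzne⟩ := Subgroup.ne_bot_iff_exists_ne_one.1
      (Group.IsNilpotent.center_ne_bot (G := (P : Subgroup G) ⧸ Z))
    have hz1 : z ≠ 1 := fun e => hzne (Subtype.ext e)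
    obtain ⟨x, rfl⟩ := QuotientGroup.mk_surjective z
    refine hz1 ((QuotientGroup.eq_one_iff x).2 ?_)
    let A : Subgroup G := Subgroup.closure (((Z : Set (P : Subgroup G)).image Subtype.val) ∪ {(x : G)})
    have hA : IsMulCommutative A := by
      refine Subgroup.isMulCommutative_closure ?_
      rintro _ (⟨a, ha, rfl⟩ | rfl) _ (⟨b, hb, rfl⟩ | rfl)
      · exact congrArg Subtype.val (Subgroup.mem_center_iff.1 hb a)
      · exact congrArg Subtype.val (Subgroup.mem_center_iff.1 ha x).symm
      · exact congrArg Subtype.val (Subgroup.mem_center_iff.1 hb x)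
      · rfl
    rw [Subgroup.mem_center_iff]
    intro g
    have hg : (g : G) ∈ Subgroup.normalizer (A : Set G) := by
      have key : ∀ g : (P : Subgroup G), A.map (MulAut.conj (g : G)).toMonoidHom ≤ A := by
        intro g
        rw [MonoidHom.map_closure, Subgroup.closure_le]
        rintro _ ⟨_, (⟨a, ha, rfl⟩ | rfl), rfl⟩
        · refine Subgroup.subset_closure (Or.inl ⟨a, ha, ?_⟩)
          have := congrArg Subtype.val (Subgroup.mem_center_iff.1 ha g)
          simp only [Subgroup.coe_mul] at this
          simp [this]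
        · have hcx : g * x * g⁻¹ * x⁻¹ ∈ Z := by
            rw [← QuotientGroup.eq_one_iff]
            rw [QuotientGroup.mk_mul, QuotientGroup.mk_mul, QuotientGroup.mk_mul,
              QuotientGroup.mk_inv, QuotientGroup.mk_inv, Subgroup.mem_center_iff.1 hz]
            group
          have h1 : ((g * x * g⁻¹ * x⁻¹ : (P : Subgroup G)) : G) * x ∈ A :=
            A.mul_mem (Subgroup.subset_closure (Or.inl ⟨_, hcx, rfl⟩))
              (Subgroup.subset_closure (Or.inr rfl))
          simpa using h1
      rw [Subgroup.mem_normalizer_iff]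
      intro y
      refine ⟨fun hy => key g ⟨y, hy, rfl⟩, fun hy => ?_⟩
      have h2 := key g⁻¹ ⟨_, hy, rfl⟩
      simpa [mul_assoc] using h2
    rw [h A hA] at hg
    exact Subtype.ext (Subgroup.mem_centralizer_iff.1 hg x (Subgroup.subset_closure (Or.inr rfl))).symm
  have hle : ∀ (p : ℕ) [Fact p.Prime], ¬ p ∣ Nat.card (commutator G) := by
    intro p _ hd
    obtain ⟨P⟩ : Nonempty (Sylow p G) := inferInstance
    haveI := hsyl p P
    have hP : Subgroup.normalizer ((P : Subgroup G) : Set G) ≤
        Subgroup.centralizer ((P : Subgroup G) : Set G) := (h _ (hsyl p P)).le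
    have hker : commutator G ≤ (MonoidHom.transferSylow P hP).ker := by
      rw [commutator_def, Subgroup.commutator_le]
      intro a _ b _
      rw [MonoidHom.mem_ker, map_commutatorElement, commutatorElement_eq_one_iff_mul_comm]
      exact mul_comm' _ _
    refine P.not_dvd_index (hd.trans ((Subgroup.card_dvd_of_le hker).trans ?_))
    rw [← (MonoidHom.ker_transferSylow_isComplement' P hP).index_eq_card]
  rw [← commutator_eq_bot_iff]
  refine Subgroup.eq_bot_of_card_eq _ ?_
  by_contra hne
  obtain ⟨p, hp, hd⟩ := Nat.exists_prime_and_dvd hne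
  haveI : Fact p.Prime := ⟨hp⟩
  exact hle p hd

end Cfsg.Agent.S0578
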