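import Cfsg.Statements.S0583
import Cfsg.Agent.Lib.Cores.Fitting
import Cfsg.Agent.Lib.Cores.Nilpotent
import Cfsg.Agent.Lib.Hall.MinimalNormal

set_option autoImplicit false
open Cfsg

namespace Cfsg.Agent.S0583

/-- In a finite group the Fitting subgroup is contained in the centralizer of each minimal normal subgroup. -/
theorem result {G : Type*} [Group G] [Finite G] (M : Subgroup G) [M.Normal] (hM : M ≠ ⊥) (hmin : ∀ K : Subgroup G, K.Normal → K ≤ M → K = ⊥ ∨ K = M) : Cfsg.fittingSubgroup G ≤ Subgroup.centralizer (M : Set G) := by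
  by_cases hMF : M ≤ Cfsg.fittingSubgroup G
  · set F := Cfsg.fittingSubgroup G
    haveI : Group.IsNilpotent F := Cores.fittingSubgroup_isNilpotent
    have h0 : M.subgroupOf F ≠ ⊥ := by
      intro h
      have h1 := congrArg (Subgroup.map F.subtype) h
      rw [Subgroup.map_subgroupOf_eq_of_le hMF, Subgroup.map_bot] at h1
      exact hM h1
    have h2 := Cores.inf_center_ne_bot h0
    have h3 : (Subgroup.center F).map F.subtype ⊓ M = M := by
      refine (hmin _ inferInstance inf_le_right).resolve_left fun h => h2 ?_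
      refine le_bot_iff.1 fun x hx => Subgroup.mem_bot.2 (Subtype.ext ?_)
      have h4 : (x : G) ∈ (Subgroup.center F).map F.subtype ⊓ M := ⟨⟨x, hx.2, rfl⟩, hx.1⟩
      rwa [h, Subgroup.mem_bot] at h4
    intro f hf m hm
    rw [← h3] at hm
    obtain ⟨⟨z, hz, rfl⟩, -⟩ := hm
    exact (congrArg Subtype.val (Subgroup.mem_center_iff.1 hz ⟨f, hf⟩)).symm
  · have h := Hall.minimal_normal_inf_eq_bot (K := Cfsg.fittingSubgroup G) hmin hMF
    rw [← Subgroup.commutator_eq_bot_iff_le_centralizer]
    exact le_bot_iff.1 ((Subgroup.commutator_le_inf _ _).trans (by rw [inf_comm, h]))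

end Cfsg.Agent.S0583
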