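import Cfsg.Statements.S0584
import Cfsg.Agent.Lib.Cores.Fitting

set_option autoImplicit false
open Cfsg

namespace Cfsg.Agent.S0584

/-- Let B ≤ A be normal subgroups of a finite group G with B contained in the Frattini subgroup of G. If A modulo B is nilpotent then A is nilpotent. -/
theorem result {G : Type*} [Group G] [Finite G] (A B : Subgroup G) [A.Normal] [B.Normal] (hBA : B ≤ A) (hB : B ≤ frattini G) (h : Group.IsNilpotent (↥A ⧸ B.subgroupOf A)) : Group.IsNilpotent A := by
  refine ((Group.isNilpotent_of_finite_tfae (G := A)).out 0 3).2 fun p hp P => ?_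
  haveI := hp
  haveI := h
  let f := QuotientGroup.mk' (B.subgroupOf A)
  set P' : Subgroup G := (P : Subgroup A).map A.subtype with hP'
  set Y : Subgroup G := ((P : Subgroup A) ⊔ B.subgroupOf A).map A.subtype with hY
  have hYeq : Y = P' ⊔ B := by rw [hY, Subgroup.map_sup, Subgroup.map_subgroupOf_eq_of_le hBA]
  have hYn : Y.Normal := by
    refine ⟨fun y hy g => ?_⟩
    obtain ⟨y, hy, rfl⟩ := hy
    let e : A ≃* A := MulAut.conjNormal g
    let T : Sylow p A := P.mapSurjective (f := e.toMonoidHom) e.surjective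
    haveI hu : Subsingleton (Sylow p (↥A ⧸ B.subgroupOf A)) := ⟨fun S T => by
      obtain ⟨a, rfl⟩ := MulAction.exists_smul_eq (↥A ⧸ B.subgroupOf A) S T
      exact Sylow.smul_eq_of_normal.symm⟩
    have hT : T.mapSurjective (QuotientGroup.mk'_surjective (B.subgroupOf A)) =
        P.mapSurjective (QuotientGroup.mk'_surjective (B.subgroupOf A)) := Subsingleton.elim _ _
    have hT' := congrArg (fun S : Sylow p _ => Subgroup.comap f (S : Subgroup _)) hT
    simp only [Sylow.coe_mapSurjective, f, Subgroup.comap_map_eq, QuotientGroup.ker_mk'] at hT'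
    refine ⟨e y, ?_, by simp [e]⟩
    rw [SetLike.mem_coe, ← hT']
    have h2 : ((P : Subgroup A) ⊔ B.subgroupOf A).map e.toMonoidHom ≤
        (P : Subgroup A).map e.toMonoidHom ⊔ B.subgroupOf A := by
      rw [Subgroup.map_sup]
      refine sup_le_sup_left ?_ _
      rintro _ ⟨b, hb, rfl⟩
      rw [Subgroup.mem_subgroupOf]
      simpa [e] using (inferInstance : B.Normal).conj_mem _ hb g
    exact h2 ⟨y, hy, rfl⟩
  haveI := hYn
  have hP'Y : P' ≤ Y := hYeq ▸ le_sup_left
  have hYA : Y ≤ A := Subgroup.map_subtype_le _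
  let S : Sylow p Y := IsPGroup.toSylow (P := P'.subgroupOf Y)
    ((P.isPGroup'.map A.subtype).comap_subtype) fun hd => P.not_dvd_index (by
      have h1 : P'.relIndex Y ∣ P'.relIndex A := Dvd.intro _ (Subgroup.relIndex_mul_relIndex _ _ _ hP'Y hYA)
      have h2 : P'.relIndex A = (P : Subgroup A).index := by
        rw [Subgroup.relIndex, hP', Subgroup.subgroupOf, Subgroup.comap_map_eq_self_of_injective A.subtype_injective]
      exact h2 ▸ hd.trans h1)
  have hfr := Sylow.normalizer_sup_eq_top S
  have hSP : (S : Subgroup Y).map Y.subtype = P' := Subgroup.map_subgroupOf_eq_of_le hP'Y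
  rw [hSP] at hfr
  have htop : Subgroup.normalizer (P' : Set G) = ⊤ := by
    refine frattini_nongenerating (top_le_iff.1 (hfr.symm.le.trans (sup_le le_sup_left ?_)))
    rw [hYeq]
    exact sup_le (Subgroup.le_normalizer.trans le_sup_left) (hB.trans le_sup_right)
  exact (Subgroup.normalizer_eq_top_iff.1 htop).of_map_subtype

end Cfsg.Agent.S0584
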