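import Cfsg.Statements.S0585
import Mathlib

set_option autoImplicit false
open Cfsg

namespace Cfsg.Agent.S0585

/-- If the Frattini subgroup of a finite group G is trivial, then every abelian normal subgroup of G has a complement in G. -/
theorem result {G : Type*} [Group G] [Finite G] (hΦ : frattini G = ⊥) (A : Subgroup G) [A.Normal] [IsMulCommutative A] : ∃ H : Subgroup G, Subgroup.IsComplement' A H := by
  obtain ⟨H, -, hH, hmin⟩ := exists_minimal_le_of_wellFoundedLT
    (fun H : Subgroup G => A ⊔ H = ⊤) ⊤ (sup_top_eq A)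
  have hdec : ∀ g : G, ∃ a ∈ A, ∃ h ∈ H, a * h = g := by
    intro g
    have hg : g ∈ A ⊔ H := hH ▸ Subgroup.mem_top g
    rw [← SetLike.mem_coe, Subgroup.normal_mul] at hg
    exact hg
  haveI hn : (A ⊓ H).Normal := by
    refine ⟨fun x hx g => ?_⟩
    obtain ⟨a, ha, h, hh, rfl⟩ := hdec g
    have h1 : h * x * h⁻¹ ∈ A ⊓ H := ⟨Subgroup.Normal.conj_mem inferInstance x hx.1 h,
      H.mul_mem (H.mul_mem hh hx.2) (H.inv_mem hh)⟩
    rw [show a * h * x * (a * h)⁻¹ = a * (h * x * h⁻¹) * a⁻¹ by group,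
      setLike_mul_comm ha h1.1, mul_inv_cancel_right]
    exact h1
  refine ⟨H, Subgroup.isComplement'_of_disjoint_and_mul_eq_univ ?_ ?_⟩
  · rw [disjoint_iff, ← le_bot_iff, ← hΦ]
    refine le_iInf₂ fun M hM => ?_
    by_contra hKM
    have htop : A ⊓ H ⊔ M = ⊤ :=
      hM.2 _ (lt_of_le_of_ne le_sup_right fun h => hKM (h ▸ le_sup_left))
    have h1 : A ⊔ H ⊓ M = ⊤ := by
      rw [← top_le_iff, ← hH]
      refine sup_le le_sup_left fun x hx => ?_
      have h2 : x ∈ A ⊓ H ⊔ M := htop ▸ Subgroup.mem_top x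
      rw [← SetLike.mem_coe, Subgroup.normal_mul] at h2
      obtain ⟨k, hk, m, hm, rfl⟩ := h2
      exact Subgroup.mul_mem_sup hk.1 ⟨by simpa using H.mul_mem (H.inv_mem hk.2) hx, hm⟩
    exact hKM (inf_le_right.trans ((hmin h1 inf_le_left).trans inf_le_right))
  · exact Set.eq_univ_of_forall hdec

end Cfsg.Agent.S0585
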