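import Cfsg.Statements.S0587
import Cfsg.Agent.Lib.Cores.Basic
import Cfsg.Agent.Lib.Coprime.PGroup
import Cfsg.Agent.S0575

set_option autoImplicit false
open Cfsg

namespace Cfsg.Agent.S0587

/-- Let G be a finite group whose largest normal p-subgroup L is nontrivial, and M a maximal subgroup of G with trivial normal core. Then L is elementary abelian, M is a complement to L, L is a minimal normal subgroup of G, the centralizer of L is L, and for every prime q such that the largest normal q-subgroup of M is nontrivial, the order of L is congruent to 1 modulo q and q ≠ p. -/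
theorem result {G : Type*} [Group G] [Finite G] (p : ℕ) [Fact p.Prime] (hL : Cfsg.pCore p G ≠ ⊥) (M : Subgroup G) (hM : IsCoatom M) (hcore : M.normalCore = ⊥) : Cfsg.IsElementaryAbelian p (Cfsg.pCore p G) ∧ Subgroup.IsComplement' (Cfsg.pCore p G) M ∧ (∀ K : Subgroup G, K.Normal → K ≤ Cfsg.pCore p G → K = ⊥ ∨ K = Cfsg.pCore p G) ∧ Subgroup.centralizer ((Cfsg.pCore p G : Subgroup G) : Set G) = Cfsg.pCore p G ∧ ∀ (q : ℕ) [Fact q.Prime], Cfsg.pCore q ↥M ≠ ⊥ → Nat.card (Cfsg.pCore p G) % q = 1 % q ∧ q ≠ p := by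
  haveI hLn : (Cfsg.pCore p G).Normal := Cores.pCore_normal p
  set L := Cfsg.pCore p G with hLdef
  have hLp : IsPGroup p L := Cores.pCore_isPGroup p
  haveI : Group.IsNilpotent L := hLp.isNilpotent
  have hΦ : frattini L = ⊥ := by
    have h1 : (frattini L).map L.subtype ≤ frattini G := S0575.result L
    have h2 : (frattini L).map L.subtype = ⊥ := le_bot_iff.1 (hcore ▸
      Subgroup.normal_le_normalCore.2 (h1.trans (frattini_le_coatom hM)))
    exact (Subgroup.map_eq_bot_iff_of_injective _ L.subtype_injective).1 h2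
  haveI hLc : IsMulCommutative L := (commutator_eq_bot_iff _).1
    (le_bot_iff.1 (hΦ ▸ Coprime.commutator_le_frattini L))
  have htop : ∀ K : Subgroup G, K.Normal → K ≠ ⊥ → K ⊔ M = ⊤ := fun K hK hK0 =>
    hM.2 _ (lt_of_le_of_ne le_sup_right fun he => hK0 (le_bot_iff.1 (by
      haveI := hK
      rw [← hcore]; exact Subgroup.normal_le_normalCore.2 (he ▸ le_sup_left))))
  have hnorm : ∀ X : Subgroup G, X ≤ L → (∀ g ∈ M, ∀ x ∈ X, g * x * g⁻¹ ∈ X) → X.Normal := by
    intro X hXL hXM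
    refine ⟨fun x hx g => ?_⟩
    have hg : g ∈ L ⊔ M := htop L hLn hL ▸ Subgroup.mem_top g
    rw [← SetLike.mem_coe, Subgroup.normal_mul] at hg
    obtain ⟨l, hl, m, hm, rfl⟩ := hg
    have h1 : m * x * m⁻¹ ∈ X := hXM m hm x hx
    have h2 : l * (m * x * m⁻¹) = (m * x * m⁻¹) * l :=
      congrArg Subtype.val (hLc.is_comm.comm ⟨l, hl⟩ ⟨_, hXL h1⟩)
    have e : l * m * x * (l * m)⁻¹ = l * (m * x * m⁻¹) * l⁻¹ := by group
    rw [e, h2, mul_inv_cancel_right]
    exact h1
  have hLM : L ⊓ M = ⊥ := by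
    haveI := hnorm (L ⊓ M) inf_le_left fun g hg x hx =>
      ⟨hLn.conj_mem x hx.1 g, M.mul_mem (M.mul_mem hg hx.2) (M.inv_mem hg)⟩
    exact le_bot_iff.1 (hcore ▸ Subgroup.normal_le_normalCore.2 inf_le_right)
  have hel : Cfsg.IsElementaryAbelian p L := by
    refine ⟨hLc, fun x hx => ?_⟩
    let Ω : Subgroup G :=
      { carrier := {y | ∃ l ∈ L, y = l ^ p}
        one_mem' := ⟨1, L.one_mem, (one_pow p).symm⟩
        mul_mem' := fun {a b} ha hb => by
          obtain ⟨l, hl, rfl⟩ := ha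
          obtain ⟨l', hl', rfl⟩ := hb
          have hc : Commute l l' := congrArg Subtype.val (hLc.is_comm.comm ⟨l, hl⟩ ⟨l', hl'⟩)
          exact ⟨l * l', L.mul_mem hl hl', (hc.mul_pow p).symm⟩
        inv_mem' := fun {a} ha => by
          obtain ⟨l, hl, rfl⟩ := ha
          exact ⟨l⁻¹, L.inv_mem hl, (inv_pow l p).symm⟩ }
    have hΩn : Ω.Normal := ⟨fun y hy g => by
      obtain ⟨l, hl, rfl⟩ := hy
      exact ⟨g * l * g⁻¹, hLn.conj_mem l hl g, conj_pow.symm⟩⟩
    by_contra hne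
    have hΩ : Ω ≠ ⊥ := fun e => hne (Subgroup.mem_bot.1 (e ▸ ⟨x, hx, rfl⟩ : x ^ p ∈ (⊥ : Subgroup G)))
    have hΩL : Ω ≤ L := by rintro _ ⟨l, hl, rfl⟩; exact L.pow_mem hl p
    have hΩeq : Ω = L := by
      refine le_antisymm hΩL fun l hl => ?_
      have h1 : l ∈ Ω ⊔ M := htop Ω hΩn hΩ ▸ Subgroup.mem_top l
      haveI := hΩn
      rw [← SetLike.mem_coe, Subgroup.normal_mul] at h1
      obtain ⟨o, ho, m, hm, rfl⟩ := h1
      have : m ∈ L ⊓ M := ⟨by simpa using L.mul_mem (L.inv_mem (hΩL ho)) hl, hm⟩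
      rw [hLM, Subgroup.mem_bot] at this
      subst this; simpa using ho
    -- the `p`-th power map on `L` is then bijective, but it has a kernel
    haveI : Nontrivial L := L.nontrivial_iff_ne_bot.2 hL
    obtain ⟨c, hc, hce⟩ : ∃ c : L, c ≠ 1 ∧ c ^ p = 1 := by
      obtain ⟨n, hn0, hn⟩ := hLp.nontrivial_iff_card.1 inferInstance
      obtain ⟨c, hc⟩ := exists_prime_orderOf_dvd_card' p (hn ▸ dvd_pow_self p hn0.ne')
      exact ⟨c, fun e => (Fact.out : p.Prime).one_lt.ne (by rw [← hc, e, orderOf_one]),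
        by rw [← hc, pow_orderOf_eq_one]⟩
    have hsurj : Function.Surjective fun l : L => l ^ p := fun y => by
      obtain ⟨l, hl, he⟩ := hΩeq.symm.le y.2
      exact ⟨⟨l, hl⟩, Subtype.ext he.symm⟩
    exact hc (Finite.injective_iff_surjective.2 hsurj (by simpa using hce))
  have hcomp : Subgroup.IsComplement' L M := Subgroup.isComplement'_of_disjoint_and_mul_eq_univ
    (disjoint_iff.2 hLM) (by rw [← Subgroup.normal_mul, htop L hLn hL, Subgroup.coe_top])
  have hmin : ∀ K : Subgroup G, K.Normal → K ≤ L → K = ⊥ ∨ K = L := by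
    refine fun K hK hKL => or_iff_not_imp_left.2 fun hK0 => le_antisymm hKL fun l hl => ?_
    have h1 : l ∈ K ⊔ M := htop K hK hK0 ▸ Subgroup.mem_top l
    haveI := hK
    rw [← SetLike.mem_coe, Subgroup.normal_mul] at h1
    obtain ⟨o, ho, m, hm, rfl⟩ := h1
    have : m ∈ L ⊓ M := ⟨by simpa using L.mul_mem (L.inv_mem (hKL ho)) hl, hm⟩
    rw [hLM, Subgroup.mem_bot] at this
    subst this; simpa using ho
  have hLC : L ≤ Subgroup.centralizer (L : Set G) := fun a ha b hb =>
    congrArg Subtype.val (hLc.is_comm.comm ⟨b, hb⟩ ⟨a, ha⟩)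
  have hcent : Subgroup.centralizer (L : Set G) = L := by
    refine le_antisymm (fun c hc => ?_) hLC
    have hCM : (Subgroup.centralizer (L : Set G) ⊓ M).Normal := by
      refine ⟨fun x hx g => ?_⟩
      have hg : g ∈ L ⊔ M := htop L hLn hL ▸ Subgroup.mem_top g
      rw [← SetLike.mem_coe, Subgroup.normal_mul] at hg
      obtain ⟨l, hl, m, hm, rfl⟩ := hg
      have h1 : m * x * m⁻¹ ∈ Subgroup.centralizer (L : Set G) ⊓ M :=
        ⟨Subgroup.Normal.conj_mem inferInstance x hx.1 m, M.mul_mem (M.mul_mem hm hx.2) (M.inv_mem hm)⟩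
      have e : l * m * x * (l * m)⁻¹ = l * (m * x * m⁻¹) * l⁻¹ := by group
      rw [e, h1.1 l hl, mul_inv_cancel_right]
      exact h1
    have hbot : Subgroup.centralizer (L : Set G) ⊓ M = ⊥ := by
      haveI := hCM
      exact le_bot_iff.1 (hcore ▸ Subgroup.normal_le_normalCore.2 inf_le_right)
    have h1 : c ∈ L ⊔ M := htop L hLn hL ▸ Subgroup.mem_top c
    rw [← SetLike.mem_coe, Subgroup.normal_mul] at h1
    obtain ⟨o, ho, m, hm, rfl⟩ := h1
    have : m ∈ Subgroup.centralizer (L : Set G) ⊓ M :=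
      ⟨by simpa using mul_mem (inv_mem (hLC ho)) hc, hm⟩
    rw [hbot, Subgroup.mem_bot] at this
    subst this; simpa using ho
  refine ⟨hel, hcomp, hmin, hcent, fun q _ hQ => ?_⟩
  set Q : Subgroup G := (Cfsg.pCore q M).map M.subtype with hQdef
  have hQ0 : Q ≠ ⊥ := by rwa [hQdef, Ne, Subgroup.map_eq_bot_iff_of_injective _ M.subtype_injective]
  have hQq : IsPGroup q Q := (Cores.pCore_isPGroup q).map _
  have hQM : Q ≤ M := Subgroup.map_subtype_le _
  have hQn : ∀ g ∈ M, ∀ x ∈ Q, g * x * g⁻¹ ∈ Q := by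
    rintro g hg _ ⟨x, hx, rfl⟩
    exact ⟨_, Subgroup.Normal.conj_mem (Cores.pCore_normal q) x hx ⟨g, hg⟩, rfl⟩
  set F : Subgroup G := L ⊓ Subgroup.centralizer (Q : Set G) with hF
  have hFn : F.Normal := hnorm F inf_le_left fun g hg x hx => ⟨hLn.conj_mem x hx.1 g, fun y hy => by
    have h1 : (g⁻¹ * y * g) * x = x * (g⁻¹ * y * g) :=
      hx.2 _ (by simpa using hQn g⁻¹ (M.inv_mem hg) y hy)
    calc y * (g * x * g⁻¹) = g * ((g⁻¹ * y * g) * x) * g⁻¹ := by group
      _ = g * (x * (g⁻¹ * y * g)) * g⁻¹ := by rw [h1]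
      _ = g * x * g⁻¹ * y := by group⟩
  have hF0 : F = ⊥ := (hmin F hFn inf_le_left).resolve_right fun he => hQ0 (le_bot_iff.1 (by
    rw [← hLM]
    refine le_inf (fun y hy => ?_) hQM
    rw [← hcent]
    exact fun l hl => (((he ▸ inf_le_right : L ≤ Subgroup.centralizer (Q : Set G)) hl) y hy).symm))
  letI : MulAction Q L :=
    { smul := fun y l => ⟨(y : G) * l * (y : G)⁻¹, hLn.conj_mem l l.2 y⟩
      one_smul := fun l => Subtype.ext (show (1 : G) * l * (1 : G)⁻¹ = l by group)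
      mul_smul := fun a b l => Subtype.ext (show ((a : G) * b) * l * ((a : G) * b)⁻¹ =
        (a : G) * ((b : G) * l * (b : G)⁻¹) * (a : G)⁻¹ by group) }
  have hfix : MulAction.fixedPoints Q L = {1} := by
    ext l
    simp only [MulAction.mem_fixedPoints, Set.mem_singleton_iff]
    constructor
    · intro h
      have h1 : (l : G) ∈ F := ⟨l.2, fun y hy => by
        have h2 : y * (l : G) * y⁻¹ = l := congrArg Subtype.val (h ⟨y, hy⟩)
        rwa [mul_inv_eq_iff_eq_mul] at h2⟩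
      rw [hF0, Subgroup.mem_bot] at h1
      exact Subtype.ext h1
    · rintro rfl y
      exact Subtype.ext (show (y : G) * (1 : G) * (y : G)⁻¹ = 1 by group)
  have hmod : Nat.card L % q = 1 % q := by
    have h1 := hQq.card_modEq_card_fixedPoints L
    rw [hfix, Nat.card_coe_set_eq, Set.ncard_singleton] at h1
    exact h1
  refine ⟨hmod, fun hqp => ?_⟩
  subst hqp
  haveI : Nontrivial L := L.nontrivial_iff_ne_bot.2 hL
  obtain ⟨n, hn0, hn⟩ := hLp.nontrivial_iff_card.1 inferInstance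
  have hq1 : 1 < q := (Fact.out : q.Prime).one_lt
  rw [hn, Nat.mod_eq_zero_of_dvd (dvd_pow_self q hn0.ne'), Nat.one_mod_eq_one.2 hq1.ne'] at hmod
  exact absurd hmod (by omega)

end Cfsg.Agent.S0587
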