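import Cfsg.Statements.S0588
import Mathlib

set_option autoImplicit false
open Cfsg

namespace Cfsg.Agent.S0588

/-- If a subgroup H of a finite group G contains the centralizer of every non-identity element of H, then the order of H is coprime to its index. -/
theorem result {G : Type*} [Group G] [Finite G] (H : Subgroup G) (h : ∀ x ∈ H, x ≠ 1 → Subgroup.centralizer ({x} : Set G) ≤ H) : (Nat.card H).Coprime H.index := by
  refine Nat.coprime_of_dvd fun p hp hd hi => ?_
  haveI : Fact p.Prime := ⟨hp⟩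
  obtain ⟨P⟩ : Nonempty (Sylow p H) := inferInstance
  obtain ⟨Q, hQ⟩ := (P.isPGroup'.map H.subtype).exists_le_sylow
  obtain ⟨x, hx, hx1⟩ : ∃ x ∈ (P : Subgroup H), x ≠ 1 := by
    have h0 := P.ne_bot_of_dvd_card hd
    rw [Subgroup.ne_bot_iff_exists_ne_one] at h0
    obtain ⟨⟨x, hx⟩, hne⟩ := h0
    exact ⟨x, hx, fun e => hne (Subtype.ext e)⟩
  have hxQ : (x : G) ∈ (Q : Subgroup G) := hQ ⟨x, hx, rfl⟩
  haveI : Nontrivial (Q : Subgroup G) :=
    ⟨⟨⟨_, hxQ⟩, 1, fun e => hx1 (Subtype.ext (congrArg Subtype.val e :))⟩⟩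
  haveI := Q.isPGroup'.center_nontrivial
  obtain ⟨⟨z, hz⟩, hz1⟩ := exists_ne (1 : Subgroup.center (Q : Subgroup G))
  have hzH : (z : G) ∈ H := h x x.2 (fun e => hx1 (Subtype.ext e)) (Subgroup.mem_centralizer_singleton_iff.2
    (congrArg Subtype.val (Subgroup.mem_center_iff.1 hz ⟨_, hxQ⟩)).symm)
  have hQH : (Q : Subgroup G) ≤ H := fun q hq =>
    h z hzH (fun e => hz1 (Subtype.ext (Subtype.ext e))) (Subgroup.mem_centralizer_singleton_iff.2
      (congrArg Subtype.val (Subgroup.mem_center_iff.1 hz ⟨q, hq⟩)))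
  exact Q.not_dvd_index (hi.trans (Subgroup.index_dvd_of_le hQH))

end Cfsg.Agent.S0588
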