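import Cfsg.Statements.S0589
import Cfsg.Agent.Lib.Coprime.Basic

set_option autoImplicit false
open Pointwise
open Cfsg

namespace Cfsg.Agent.S0589

open scoped Pointwise

theorem ti {G : Type*} [Group G] {H : Subgroup G} (hH : Cfsg.IsFrobeniusComplement H) {a b z : G}
    (hz : z ≠ 1) (ha : z ∈ MulAut.conj a • H) (hb : z ∈ MulAut.conj b • H) :
    MulAut.conj a • H = MulAut.conj b • H := by
  by_cases hab : b⁻¹ * a ∈ H
  · rw [show a = b * (b⁻¹ * a) by group, Coprime.conj_smul_mul,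
      Coprime.conj_smul_eq_self_iff.2 (Subgroup.le_normalizer hab)]
  · exfalso
    rw [Coprime.mem_conj_smul] at ha hb
    have h1 : b⁻¹ * z * b ∈ H ⊓ MulAut.conj (b⁻¹ * a) • H := ⟨hb, Coprime.mem_conj_smul.2 (by
      convert ha using 1
      group)⟩
    rw [hH.2.2 _ hab, Subgroup.mem_bot] at h1
    refine hz ?_
    calc z = b * (b⁻¹ * z * b) * b⁻¹ := by group
      _ = 1 := by rw [h1]; group

theorem centralizer_le {G : Type*} [Group G] {H : Subgroup G} (hH : Cfsg.IsFrobeniusComplement H)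
    {a c z : G} (hz : z ≠ 1) (ha : z ∈ MulAut.conj a • H) (hc : c * z = z * c) :
    c ∈ MulAut.conj a • H := by
  rw [Coprime.mem_conj_smul] at ha ⊢
  by_contra hcH
  have h1 : a⁻¹ * z * a ∈ H ⊓ MulAut.conj (a⁻¹ * c * a) • H := ⟨ha, Coprime.mem_conj_smul.2 (by
    convert ha using 1
    calc (a⁻¹ * c * a)⁻¹ * (a⁻¹ * z * a) * (a⁻¹ * c * a) = a⁻¹ * c⁻¹ * (z * c) * a := by group
      _ = a⁻¹ * z * a := by rw [← hc]; group)⟩
  rw [hH.2.2 _ hcH, Subgroup.mem_bot] at h1
  refine hz ?_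
  calc z = a * (a⁻¹ * z * a) * a⁻¹ := by group
    _ = 1 := by rw [h1]; group

theorem cover {G : Type*} [Group G] [Finite G] {H : Subgroup G}
    (hH : Cfsg.IsFrobeniusComplement H) {x : G} (hx : x ≠ 1)
    (hord : orderOf x ∣ Nat.card H) : ∃ g : G, x ∈ MulAut.conj g • H := by
  obtain ⟨p, hp, hd⟩ := Nat.exists_prime_and_dvd (fun e => hx (orderOf_eq_one_iff.1 e))
  haveI : Fact p.Prime := ⟨hp⟩
  obtain ⟨P⟩ : Nonempty (Sylow p H) := inferInstance
  obtain ⟨Q, hQ⟩ := (P.isPGroup'.map H.subtype).exists_le_sylow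
  obtain ⟨⟨u, hu⟩, hu1⟩ := Subgroup.ne_bot_iff_exists_ne_one.1 (P.ne_bot_of_dvd_card (hd.trans hord))
  have huQ : (u : G) ∈ (Q : Subgroup G) := hQ ⟨u, hu, rfl⟩
  have hune : (u : G) ≠ 1 := fun e => hu1 (Subtype.ext (Subtype.ext e))
  haveI : Nontrivial (Q : Subgroup G) :=
    ⟨⟨⟨_, huQ⟩, 1, fun e => hune (congrArg Subtype.val e :)⟩⟩
  haveI := Q.isPGroup'.center_nontrivial
  obtain ⟨⟨z, hz⟩, hz1⟩ := exists_ne (1 : Subgroup.center (Q : Subgroup G))
  have hzne : (z : G) ≠ 1 := fun e => hz1 (Subtype.ext (Subtype.ext e))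
  have hu' : (u : G) ∈ MulAut.conj (1 : G) • H := by rw [Coprime.conj_smul_one]; exact u.2
  have hzH : (z : G) ∈ MulAut.conj (1 : G) • H := centralizer_le hH hune hu'
    (congrArg Subtype.val (Subgroup.mem_center_iff.1 hz ⟨_, huQ⟩)).symm
  have hQH : (Q : Subgroup G) ≤ MulAut.conj (1 : G) • H := fun q hq => centralizer_le hH hzne hzH
    (congrArg Subtype.val (Subgroup.mem_center_iff.1 hz ⟨q, hq⟩))
  set y := x ^ (orderOf x / p) with hy
  have hyo : orderOf y = p := orderOf_pow_orderOf_div (orderOf_pos x).ne' hd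
  have hyP : IsPGroup p (Subgroup.zpowers y) := IsPGroup.of_card (n := 1) (by
    rw [Nat.card_zpowers, hyo, pow_one])
  obtain ⟨R, hR⟩ := hyP.exists_le_sylow
  obtain ⟨g, hg⟩ := MulAction.exists_smul_eq G Q R
  have hyR := hR (Subgroup.mem_zpowers y)
  rw [← hg, Sylow.coe_subgroup_smul, Coprime.mem_conj_smul] at hyR
  have hyH : y ∈ MulAut.conj g • H := by
    rw [Coprime.mem_conj_smul]
    have := hQH hyR
    rwa [Coprime.conj_smul_one] at this
  have hy1 : y ≠ 1 := fun e => hp.one_lt.ne (by rw [← hyo, e, orderOf_one])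
  exact ⟨g, centralizer_le hH hy1 hyH (Commute.self_pow x _)⟩

theorem inj_bound {G : Type*} [Group G] [Finite G] {H : Subgroup G}
    (hH : Cfsg.IsFrobeniusComplement H) (L : Subgroup G) (a : G) :
    Nat.card L - (MulAut.conj a • H).relIndex L ≤
      {z : G | z ≠ 1 ∧ ∃ l ∈ L, z ∈ L ∧ z ∈ MulAut.conj (l * a) • H}.ncard := by
  set A : Subgroup L := (MulAut.conj a • H).subgroupOf L with hA
  have h1 : Nat.card L - A.index = Nat.card ((L ⧸ A) × {z : A // z ≠ 1}) := by
    have h2 : Nat.card {z : A // z ≠ 1} = Nat.card A - 1 := by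
      classical
      letI := Fintype.ofFinite A
      rw [Nat.card_eq_fintype_card, Nat.card_eq_fintype_card]
      simp [Fintype.card_subtype_compl]
    rw [Nat.card_prod, h2, ← Subgroup.index_eq_card, Nat.mul_sub, mul_one, mul_comm A.index,
      A.card_mul_index]
  rw [Subgroup.relIndex, ← hA, h1, ← Nat.card_coe_set_eq]
  let f : (L ⧸ A) × {z : A // z ≠ 1} →
      {z : G | z ≠ 1 ∧ ∃ l ∈ L, z ∈ L ∧ z ∈ MulAut.conj (l * a) • H} := fun w =>
    ⟨(w.1.out : G) * ((w.2.1 : L) : G) * (w.1.out : G)⁻¹,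
      fun e => w.2.2 (Subtype.ext (Subtype.ext (conj_eq_one_iff.1 e))),
      w.1.out, (w.1.out).2, L.mul_mem (L.mul_mem (w.1.out).2 (w.2.1 : L).2) (L.inv_mem (w.1.out).2), by
        rw [Coprime.conj_smul_mul]
        exact Coprime.conj_mem_conj_smul w.2.1.2⟩
  refine Nat.card_le_card_of_injective f ?_
  rintro ⟨q, ⟨⟨⟨x, hxL⟩, hx⟩, hx1⟩⟩ ⟨q', ⟨⟨⟨x', hxL'⟩, hx'⟩, hx1'⟩⟩ h
  have he : (q.out : G) * x * (q.out : G)⁻¹ = (q'.out : G) * x' * (q'.out : G)⁻¹ :=
    congrArg Subtype.val h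
  have hq : q = q' := by
    rw [← q.out_eq, ← q'.out_eq]
    refine QuotientGroup.eq.2 ?_
    change ((q.out⁻¹ * q'.out : L) : G) ∈ MulAut.conj a • H
    push_cast
    have hne : x' ≠ 1 := fun e => hx1' (Subtype.ext (Subtype.ext e))
    have hxa : x ∈ MulAut.conj a • H := hx
    have hmem : x' ∈ MulAut.conj ((q'.out : G)⁻¹ * q.out * a) • H := by
      rw [Coprime.conj_smul_mul, Coprime.mem_conj_smul]
      convert hxa using 1
      calc ((q'.out : G)⁻¹ * q.out)⁻¹ * x' * ((q'.out : G)⁻¹ * q.out)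
          = (q.out : G)⁻¹ * ((q'.out : G) * x' * (q'.out : G)⁻¹) * q.out := by group
        _ = x := by rw [← he]; group
    have hee := ti hH hne (hx' : x' ∈ MulAut.conj a • H) hmem
    rw [Coprime.mem_conj_smul]
    by_contra hc
    have h3 : (a⁻¹ * x' * a) ∈ H ⊓ MulAut.conj (a⁻¹ * ((q.out : G)⁻¹ * q'.out) * a)⁻¹ • H := by
      refine ⟨Coprime.mem_conj_smul.1 hx', Coprime.mem_conj_smul.2 ?_⟩
      rw [Coprime.mem_conj_smul] at hmem
      convert hmem using 1
      group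
    rw [hH.2.2 _ (fun hh => hc (by simpa using H.inv_mem hh)), Subgroup.mem_bot] at h3
    refine hne ?_
    calc x' = a * (a⁻¹ * x' * a) * a⁻¹ := by group
      _ = 1 := by rw [h3]; group
  subst hq
  have : x = x' := by simpa using he
  subst this
  rfl

/-- Let H be a Frobenius complement in a finite group G and L a subgroup of G whose order divides the order of H. Then L is contained in some conjugate of H. -/
theorem result {G : Type*} [Group G] [Finite G] (H : Subgroup G) (hH : Cfsg.IsFrobeniusComplement H) (L : Subgroup G) (hL : Nat.card L ∣ Nat.card H) : ∃ x : G, L ≤ MulAut.conj x • H := by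
  by_cases hL1 : L = ⊥
  · exact ⟨1, hL1 ▸ bot_le⟩
  by_contra hne
  push Not at hne
  have hcov : ∀ z ∈ L, z ≠ 1 → ∃ g : G, z ∈ MulAut.conj g • H := fun z hz hz1 =>
    cover hH hz1 ((L.orderOf_dvd_natCard hz).trans hL)
  have hhalf : ∀ a : G, (∃ z ∈ L, z ≠ 1 ∧ z ∈ MulAut.conj a • H) →
      2 * (MulAut.conj a • H).relIndex L ≤ Nat.card L ∧
        2 ≤ (MulAut.conj a • H).relIndex L := by
    rintro a ⟨z, hz, hz1, hza⟩
    have hA : 2 ≤ Nat.card ((MulAut.conj a • H).subgroupOf L) := by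
      refine (Subgroup.one_lt_card_iff_ne_bot _).2 fun e => hz1 ?_
      have h1 : (⟨z, hz⟩ : L) ∈ (MulAut.conj a • H).subgroupOf L := hza
      rw [e, Subgroup.mem_bot] at h1
      exact congrArg Subtype.val h1
    refine ⟨?_, ?_⟩
    · rw [Subgroup.relIndex, ← ((MulAut.conj a • H).subgroupOf L).card_mul_index]
      exact Nat.mul_le_mul_right _ hA
    · refine Subgroup.one_lt_index_of_ne_top fun e => hne a ?_
      exact Subgroup.subgroupOf_eq_top.1 e
  set T : G → Set G := fun a => {z : G | z ≠ 1 ∧ ∃ l ∈ L, z ∈ L ∧ z ∈ MulAut.conj (l * a) • H}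
  obtain ⟨⟨z₀, hz₀⟩, hz₀1⟩ := Subgroup.ne_bot_iff_exists_ne_one.1 hL1
  have hz₀ne : z₀ ≠ 1 := fun e => hz₀1 (Subtype.ext e)
  obtain ⟨a, ha⟩ := hcov z₀ hz₀ hz₀ne
  set S : Set G := (L : Set G) \ {1} with hS
  have hSc : S.ncard + 1 = Nat.card L := by
    rw [hS, Set.ncard_sdiff_singleton_add_one L.one_mem (Set.toFinite _), ← Nat.card_coe_set_eq]
    rfl
  have hTS : ∀ a, T a ⊆ S := fun a z hz => ⟨hz.2.choose_spec.2.1, hz.1⟩
  by_cases hall : S ⊆ T a
  · -- a single class cannot cover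
    have hup : (T a).ncard ≤ Nat.card L - (MulAut.conj a • H).relIndex L := by
      set A : Subgroup L := (MulAut.conj a • H).subgroupOf L with hA
      let g : (L ⧸ A) × {z : A // z ≠ 1} → G := fun w =>
        (w.1.out : G) * ((w.2.1 : L) : G) * (w.1.out : G)⁻¹
      have hsub : T a ⊆ Set.range g := by
        rintro z ⟨hz1, l, hl, hzL, hz⟩
        rw [Coprime.conj_smul_mul, Coprime.mem_conj_smul] at hz
        obtain ⟨m, hm⟩ := QuotientGroup.mk_out_eq_mul A ⟨l, hl⟩
        set o : L := ((⟨l, hl⟩ : L) : L ⧸ A).out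
        have hmem : (o : G)⁻¹ * z * o ∈ MulAut.conj a • H := by
          rw [hm]
          push_cast
          rw [show ((l : G) * (m : L))⁻¹ * z * (l * (m : L)) =
            ((m : L) : G)⁻¹ * (l⁻¹ * z * l) * (m : L) by group]
          exact mul_mem (mul_mem (inv_mem (m : A).2) hz) (m : A).2
        refine ⟨⟨((⟨l, hl⟩ : L) : L ⧸ A), ⟨⟨⟨(o : G)⁻¹ * z * o,
          L.mul_mem (L.mul_mem (L.inv_mem o.2) hzL) o.2⟩, hmem⟩, fun e => hz1 ?_⟩⟩, ?_⟩
        · have e' : (o : G)⁻¹ * z * o = 1 := congrArg (fun t : A => ((t : L) : G)) e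
          calc z = (o : G) * ((o : G)⁻¹ * z * o) * (o : G)⁻¹ := by group
            _ = 1 := by rw [e']; group
        · change (o : G) * ((o : G)⁻¹ * z * o) * (o : G)⁻¹ = z
          group
      refine (Set.ncard_le_ncard hsub (Set.toFinite _)).trans ?_
      rw [← Nat.card_coe_set_eq]
      refine (Finite.card_range_le g).trans (le_of_eq ?_)
      have h2 : Nat.card {z : A // z ≠ 1} = Nat.card A - 1 := by
        classical
        letI := Fintype.ofFinite A
        rw [Nat.card_eq_fintype_card, Nat.card_eq_fintype_card]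
        simp [Fintype.card_subtype_compl]
      rw [Nat.card_prod, h2, ← Subgroup.index_eq_card, Nat.mul_sub, mul_one, mul_comm A.index,
        A.card_mul_index]
      rfl
    have h1 := (hhalf a ⟨z₀, hz₀, hz₀ne, ha⟩)
    have h2 := (Set.ncard_le_ncard hall (Set.toFinite _)).trans hup
    omega
  · obtain ⟨w, hw, hwa⟩ := Set.not_subset.1 hall
    obtain ⟨b, hb⟩ := hcov w hw.1 hw.2
    have hdis : Disjoint (T a) (T b) := by
      rw [Set.disjoint_left]
      rintro z ⟨hz1, l, hl, hzL, hza⟩ ⟨-, m, hm, -, hzb⟩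
      refine hwa ⟨hw.2, m⁻¹ * l, L.mul_mem (L.inv_mem hm) hl, hw.1, ?_⟩
      rw [mul_assoc, Coprime.conj_smul_mul, ti hH hz1 hza hzb, Coprime.conj_smul_mul m b,
        Coprime.conj_inv_smul_smul]
      exact hb
    have h1 := inj_bound hH L a
    have h2 := inj_bound hH L b
    have h3 := hhalf a ⟨z₀, hz₀, hz₀ne, ha⟩
    have h4 := hhalf b ⟨w, hw.1, hw.2, hb⟩
    have h5 : (T a).ncard + (T b).ncard ≤ S.ncard := by
      rw [← Set.ncard_union_eq hdis (Set.toFinite _) (Set.toFinite _)]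
      exact Set.ncard_le_ncard (Set.union_subset (hTS a) (hTS b)) (Set.toFinite _)
    have h1' : Nat.card L - (MulAut.conj a • H).relIndex L ≤ (T a).ncard := h1
    have h2' : Nat.card L - (MulAut.conj b • H).relIndex L ≤ (T b).ncard := h2
    omega

end Cfsg.Agent.S0589
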