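import Cfsg.Statements.S0590
import Cfsg.Agent.Lib.PLocal.ThompsonSubgroup
import Cfsg.Agent.OddLocal.Coprime

set_option autoImplicit false
open Cfsg
open scoped commutatorElement

namespace Cfsg.Agent.S0590

/-- Quadratic action on an elementary abelian p-group forces the acting group modulo the kernel of the action to be elementary abelian. -/
theorem result {G : Type*} [Group G] [Finite G] {p : ℕ} [Fact p.Prime] (V H : Subgroup G) (hV : Cfsg.IsElementaryAbelian p V) (hHV : H ≤ Subgroup.normalizer (V : Set G)) (hq : ⁅⁅V, H⁆, H⁆ = ⊥) : ⁅H, H⁆ ≤ Subgroup.centralizer (V : Set G) ∧ ∀ a ∈ H, a ^ p ∈ Subgroup.centralizer (V : Set G) := by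
  open Subgroup in
  obtain ⟨hVc, hVp⟩ := Cfsg.Agent.PLocal.ThompsonSubgroup.isElementaryAbelian_iff.mp hV
  constructor
  · have h := commutator_commutator_eq_bot_of_rotate (H₁ := H) (H₂ := H) (H₃ := V)
      (by rw [commutator_comm H V]; exact hq) hq
    exact commutator_eq_bot_iff_le_centralizer.mp h
  · intro a ha v hv
    set c := ⁅a, v⁆ with hc
    have hcv : a * v * a⁻¹ = c * v := by rw [hc, commutatorElement_def]; group
    have hcV : c ∈ V := by
      have := V.mul_mem ((hHV ha v).mp hv) (V.inv_mem hv)
      rwa [← commutatorElement_def] at this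
    have hca : Commute c a := by
      have hc' : c ∈ ⁅V, H⁆ := by
        rw [commutator_comm]; exact commutator_mem_commutator ha hv
      exact ((commutator_eq_bot_iff_le_centralizer.mp hq) hc' a ha).symm
    have h := Cfsg.Agent.OddLocal.Coprime.pow_conj_of_central_commutator hcv hca p
    rw [hVp c hcV, one_mul] at h
    exact h.symm

end Cfsg.Agent.S0590
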