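import Cfsg.Statements.S0591
import Cfsg.Agent.Lib.PLocal.ThompsonSubgroup

set_option autoImplicit false
open Cfsg
open scoped commutatorElement

namespace Cfsg.Agent.S0591

/-- For a quadratically acting element a on an elementary abelian p-group V, the fixed points C_V(a) have order at least the square root of the order of V. -/
theorem result {G : Type*} [Group G] [Finite G] {p : ℕ} [Fact p.Prime] (V : Subgroup G) (hV : Cfsg.IsElementaryAbelian p V) (a : G) (ha : a ∈ Subgroup.normalizer (V : Set G)) (hq : ⁅⁅V, Subgroup.zpowers a⁆, Subgroup.zpowers a⁆ = ⊥) : Nat.card V ≤ Nat.card ↥(V ⊓ Subgroup.centralizer (Subgroup.zpowers a : Set G)) ^ 2 := by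
  open Subgroup in
  obtain ⟨hVc, hVp⟩ := Cfsg.Agent.PLocal.ThompsonSubgroup.isElementaryAbelian_iff.mp hV
  set F := V ⊓ centralizer (zpowers a : Set G) with hF
  have hcF : ∀ v : V, ⁅(v : G), a⁆ ∈ F := by
    intro v
    refine ⟨?_, ?_⟩
    · have := V.mul_mem v.2 ((ha (v : G)⁻¹).mp (V.inv_mem v.2))
      rwa [← mul_assoc, ← mul_assoc, ← commutatorElement_def] at this
    · exact (commutator_eq_bot_iff_le_centralizer.mp hq)
        (commutator_mem_commutator v.2 (mem_zpowers a))
  let f : V →* ↥F :=
    { toFun := fun v => ⟨⁅(v : G), a⁆, hcF v⟩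
      map_one' := by ext; simp
      map_mul' := fun v w => by
        apply Subtype.ext
        change ⁅(v : G) * w, a⁆ = ⁅(v : G), a⁆ * ⁅(w : G), a⁆
        have h1 : ⁅(v : G) * w, a⁆ = (v : G) * ⁅(w : G), a⁆ * (v : G)⁻¹ * ⁅(v : G), a⁆ := by
          simp only [commutatorElement_def]; group
        rw [h1, hVc _ v.2 _ (hcF w).1, mul_inv_cancel_right, hVc _ (hcF w).1 _ (hcF v).1] }
  have hker : Nat.card f.ker ≤ Nat.card ↥F := by
    refine Nat.card_le_card_of_injective
      (fun v : f.ker => (⟨((v : V) : G), (v : V).2, ?_⟩ : ↥F)) ?_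
    · have hle : zpowers a ≤ centralizer ({((v : V) : G)} : Set G) := by
        rw [zpowers_le, mem_centralizer_iff]
        rintro _ rfl
        exact (commutatorElement_eq_one_iff_commute.mp (congrArg Subtype.val v.2)).eq
      exact fun y hy => (mem_centralizer_iff.mp (hle hy) _ rfl).symm
    · intro v w h
      exact Subtype.ext (Subtype.ext (congrArg (fun t : ↥F => (t : G)) h))
  have h := f.ker.card_mul_index
  rw [index_ker] at h
  rw [← h, sq]
  exact Nat.mul_le_mul hker (card_le_card_group f.range)

end Cfsg.Agent.S0591
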