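import Cfsg.Statements.S0592
import Cfsg.Agent.Lib.PLocal.QuadraticRed

set_option autoImplicit false
open Cfsg

namespace Cfsg.Agent.S0592

/-- Two quadratically acting generators of a linear group that is not a p-group, with the p'-part of the order of their product dividing q - 1, give a homomorphism onto a subgroup of SL(2, q) that is not a p-group. -/
theorem result {K : Type*} [Field K] [Fintype K] {p : ℕ} [Fact p.Prime] [CharP K p] {W : Type*} [AddCommGroup W] [Module K W] [FiniteDimensional K W] [Finite W] [Nontrivial W] (H : Subgroup (W ≃ₗ[K] W)) (a b : W ≃ₗ[K] W) (hH : H = Subgroup.closure {a, b}) (ha : ∀ w : W, a (a w - w) = a w - w) (hb : ∀ w : W, b (b w - w) = b w - w) (hnp : ¬ IsPGroup p H) (hk : ∃ e k : ℕ, orderOf (a * b) = p ^ e * k ∧ k ∣ Fintype.card K - 1) : ∃ φ : H →* Matrix.SpecialLinearGroup (Fin 2) K, ¬ IsPGroup p φ.range := by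
  open Cfsg.Agent.PLocal in
  subst hH
  haveI : Finite (W ≃ₗ[K] W) := Finite.of_injective (fun e => (e : W → W)) DFunLike.coe_injective
  set H := Subgroup.closure ({a, b} : Set (W ≃ₗ[K] W)) with hH
  set a' : H := ⟨a, Subgroup.subset_closure (Or.inl rfl)⟩
  set b' : H := ⟨b, Subgroup.subset_closure (Or.inr rfl)⟩
  have hgen : Subgroup.closure ({a', b'} : Set H) = ⊤ := by
    apply Subgroup.map_injective H.subtype_injective
    rw [MonoidHom.map_closure, ← MonoidHom.range_eq_map, Subgroup.range_subtype, Set.image_pair]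
    rfl
  obtain ⟨e, k, hord, hk⟩ := hk
  obtain ⟨φ, h1, -, -, -⟩ := QuadraticRed.exists_sl2_hom (p := p) _ W rfl H H.subtype a' b' hgen ha hb
    ⟨e, by
      obtain ⟨m, hm⟩ := hk
      show (a * b) ^ _ = 1
      rw [hm, show k * m * p ^ e = p ^ e * k * m by ring, pow_mul, ← hord, pow_orderOf_eq_one, one_pow]⟩
    (by rwa [Subgroup.range_subtype])
  exact ⟨φ, h1⟩

end Cfsg.Agent.S0592
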