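import Cfsg.Statements.S0594
import Cfsg.Agent.Lib.PLocal.Quadratic

set_option autoImplicit false
open Cfsg
open scoped commutatorElement

namespace Cfsg.Agent.S0594

theorem psolvable_ext {X : Type*} [Group X] [Finite X] {p : ℕ} [Fact p.Prime] (N : Subgroup X) [N.Normal]
    (hN : (Nat.card N).Coprime p) (hi : ∃ m, N.index = p ^ m) : Cfsg.IsPSolvable p X := by
  refine ⟨2, ![⊥, N, ⊤], rfl, rfl, ?_, ?_, ?_⟩
  · intro i j hij
    fin_cases i <;> fin_cases j <;> first | exact le_rfl | exact bot_le | exact le_top | exact absurd hij (by decide)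
  · intro i; fin_cases i
    · exact (inferInstance : (⊥ : Subgroup X).Normal)
    · exact (inferInstance : N.Normal)
    · exact (inferInstance : (⊤ : Subgroup X).Normal)
  · intro i
    fin_cases i
    · right; show (Subgroup.relIndex (⊥ : Subgroup X) N).Coprime p
      rwa [Subgroup.relIndex_bot_left]
    · left; show ∃ m, N.relIndex ⊤ = p ^ m
      rwa [Subgroup.relIndex_top_right]


/-- For odd p, two quadratic generators of a faithful group that is not a p-group, one of which acts nontrivially on a normal subgroup of order prime to p, force p = 3 and a section isomorphic to SL(2,3). -/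
theorem result {G : Type*} [Group G] [Finite G] {p : ℕ} [Fact p.Prime] (hp : p ≠ 2) (V H : Subgroup G) (hV : Cfsg.IsElementaryAbelian p V) (hHV : H ≤ Subgroup.normalizer (V : Set G)) (hf : H ⊓ Subgroup.centralizer (V : Set G) = ⊥) (a b : G) (hab : H = Subgroup.closure {a, b}) (ha : ⁅⁅V, Subgroup.zpowers a⁆, Subgroup.zpowers a⁆ = ⊥) (hb : ⁅⁅V, Subgroup.zpowers b⁆, Subgroup.zpowers b⁆ = ⊥) (hnp : ¬ IsPGroup p H) (Q : Subgroup G) (hQH : Q ≤ H) (hQn : H ≤ Subgroup.normalizer (Q : Set G)) (hQ : (Nat.card Q).Coprime p) (hQa : ⁅Q, Subgroup.zpowers a⁆ ≠ ⊥) : p = 3 ∧ ∃ (K L : Subgroup G) (hL : (L.subgroupOf K).Normal), K ≤ H ∧ Nonempty ((K ⧸ L.subgroupOf K) ≃* Matrix.SpecialLinearGroup (Fin 2) (ZMod 3)) := by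
  open Cfsg.Agent.PLocal in
  subst hab
  set H := Subgroup.closure ({a, b} : Set G) with hH
  have haH : a ∈ H := Subgroup.subset_closure (Or.inl rfl)
  obtain ⟨x, hxQ, hx⟩ : ∃ x ∈ Q, x * a ≠ a * x := by
    by_contra hcon
    push Not at hcon
    apply hQa
    rw [Subgroup.commutator_eq_bot_iff_le_centralizer]
    intro y hy z hz
    obtain ⟨n, rfl⟩ := Subgroup.mem_zpowers_iff.mp hz
    have hya : Commute y a := hcon y hy
    exact (hya.symm.zpow_left n).eq
  set c := x * a * x⁻¹ with hc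
  set P := Subgroup.closure ({a, c} : Set G) with hP
  have haN : a ∈ Subgroup.normalizer (Q : Set G) := hQn haH
  have hd : a * c⁻¹ ∈ Q := by
    have : a * c⁻¹ = (a * x * a⁻¹) * x⁻¹ := by rw [hc]; group
    rw [this]
    exact Q.mul_mem ((Subgroup.mem_normalizer_iff.mp haN x).mp hxQ) (Q.inv_mem hxQ)
  have hd1 : a * c⁻¹ ≠ 1 := by
    intro h
    rw [mul_inv_eq_one, hc, eq_mul_inv_iff_mul_eq] at h
    exact hx h.symm
  have hPH : P ≤ H := (Subgroup.closure_le _).mpr (by
    rintro z (rfl | rfl)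
    · exact haH
    · exact H.mul_mem (H.mul_mem (hQH hxQ) haH) (H.inv_mem (hQH hxQ)))
  have hdP : a * c⁻¹ ∈ P :=
    mul_mem (Subgroup.subset_closure (Or.inl rfl)) (inv_mem (Subgroup.subset_closure (Or.inr rfl)))
  have hbad : Quadratic.BadPair p V a c := by
    intro hall
    obtain ⟨k, hk⟩ := hall _ hdP
    have h1 : (a * c⁻¹) ^ p ^ k ∈ (⊥ : Subgroup G) := hf ▸ ⟨pow_mem (hPH hdP) _, hk⟩
    have h2 : orderOf (a * c⁻¹) ∣ p ^ k := orderOf_dvd_of_pow_eq_one (Subgroup.mem_bot.mp h1)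
    have h3 : (orderOf (a * c⁻¹)).Coprime p := hQ.coprime_dvd_left (Subgroup.orderOf_dvd_natCard Q hd)
    exact hd1 (orderOf_eq_one_iff.mp (Nat.eq_one_of_dvd_coprimes (h3.pow_right k) dvd_rfl h2))
  set X := Q ⊔ Subgroup.zpowers a with hX
  have hZ : Subgroup.zpowers a ≤ Subgroup.normalizer (Q : Set G) := Subgroup.zpowers_le.mpr haN
  have hQX : (Q.subgroupOf X).Normal :=
    Subgroup.normal_subgroupOf_of_le_normalizer (sup_le Subgroup.le_normalizer hZ)
  have hap : a ^ p = 1 := by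
    have h1 : a ^ p ∈ (⊥ : Subgroup G) := hf ▸ ⟨pow_mem haH _, Quadratic.pow_mem_centralizer hV (hHV haH) ha⟩
    exact Subgroup.mem_bot.mp h1
  have hXsol : Cfsg.IsPSolvable p X := by
    refine psolvable_ext (Q.subgroupOf X) ?_ ?_
    · rwa [Nat.card_congr (Subgroup.subgroupOfEquivOfLe (le_sup_left : Q ≤ X)).toEquiv]
    · have h1 : (Q.subgroupOf X).relIndex ((Subgroup.zpowers a).subgroupOf X) ∣ p := by
        refine (Subgroup.relIndex_dvd_card _ _).trans ?_
        rw [Nat.card_congr (Subgroup.subgroupOfEquivOfLe (le_sup_right : Subgroup.zpowers a ≤ X)).toEquiv,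
          Nat.card_zpowers]
        exact orderOf_dvd_of_pow_eq_one hap
      rw [← Subgroup.relIndex_sup_right, ← Subgroup.subgroupOf_sup le_sup_right le_sup_left,
        sup_comm, Subgroup.subgroupOf_self, Subgroup.relIndex_top_right] at h1
      obtain ⟨m, -, hm⟩ := (Nat.dvd_prime_pow (Fact.out : p.Prime)).mp ((pow_one p).symm ▸ h1)
      exact ⟨m, hm⟩
  have hPX : P ≤ X := (Subgroup.closure_le _).mpr (by
    rintro z (rfl | rfl)
    · exact Subgroup.mem_sup_right (Subgroup.mem_zpowers _)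
    · exact mul_mem (mul_mem (Subgroup.mem_sup_left hxQ) (Subgroup.mem_sup_right (Subgroup.mem_zpowers _)))
        (Subgroup.mem_sup_left (inv_mem hxQ)))
  obtain ⟨h3, K, L, hL, hK, e⟩ := Quadratic.pair_sl23 hp hV (hHV haH)
    (hHV (hPH (Subgroup.subset_closure (Or.inr rfl)))) ha
    (Quadratic.quad_conj x (hHV (hQH hxQ)) ha) hbad
    (PSolvable.congr (Subgroup.subgroupOfEquivOfLe hPX) (PSolvable.subgroup hXsol _))
  exact ⟨h3, K, L, hL, hK.trans hPH, e⟩

end Cfsg.Agent.S0594
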