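import Cfsg.Statements.S0595
import Cfsg.Agent.Lib.PLocal.Quadratic

set_option autoImplicit false
open Cfsg
open scoped commutatorElement

namespace Cfsg.Agent.S0595

theorem bad_of {G : Type*} [Group G] [Finite G] {p : ℕ} [Fact p.Prime] {V H : Subgroup G}
    (hV : Cfsg.IsElementaryAbelian p V) (hHV : H ≤ Subgroup.normalizer (V : Set G))
    (hf : H ⊓ Subgroup.centralizer (V : Set G) = ⊥) {a : G} (haH : a ∈ H)
    (hq : ⁅⁅V, Subgroup.zpowers a⁆, Subgroup.zpowers a⁆ = ⊥)
    (hna : a ∉ (Cfsg.pCore p H).map H.subtype) :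
    ∃ g ∈ H, Cfsg.Agent.PLocal.Quadratic.BadPair p V a (g * a * g⁻¹) := by
  have hC : (Subgroup.centralizer (V : Set G)).subgroupOf H = ⊥ := by
    rw [eq_bot_iff]
    intro x hx
    have : (x : G) ∈ (⊥ : Subgroup G) := hf ▸ ⟨x.2, hx⟩
    exact Subgroup.mem_bot.mpr (Subtype.ext (Subgroup.mem_bot.mp this))
  haveI : ((Subgroup.centralizer (V : Set G)).subgroupOf H).Normal := hC ▸ inferInstance
  refine Cfsg.Agent.PLocal.Quadratic.exists_bad_pair hV hHV haH hq fun hm => hna ⟨⟨a, haH⟩, ?_, rfl⟩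
  refine Cfsg.Agent.PLocal.Cores.comap_pCore_le (QuotientGroup.mk'_surjective _) ?_ hm
  rw [QuotientGroup.ker_mk', hC]
  exact IsPGroup.of_bot


/-- For odd p, a faithful action on an elementary abelian p-group that is not p-stable forces non-abelian Sylow 2-subgroups. -/
theorem result {G : Type*} [Group G] [Finite G] {p : ℕ} [Fact p.Prime] (hp : p ≠ 2) (V H : Subgroup G) (hV : Cfsg.IsElementaryAbelian p V) (hHV : H ≤ Subgroup.normalizer (V : Set G)) (hf : H ⊓ Subgroup.centralizer (V : Set G) = ⊥) (a : G) (haH : a ∈ H) (hq : ⁅⁅V, Subgroup.zpowers a⁆, Subgroup.zpowers a⁆ = ⊥) (hna : a ∉ (Cfsg.pCore p H).map H.subtype) (T : Sylow 2 H) : ¬ IsMulCommutative T := by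
  open Cfsg.Agent.PLocal in
  intro hT
  obtain ⟨g, hg, hbad⟩ := bad_of hV hHV hf haH hq hna
  have hle : Subgroup.closure ({a, g * a * g⁻¹} : Set G) ≤ H := (Subgroup.closure_le _).mpr (by
    rintro z (rfl | rfl)
    · exact haH
    · exact H.mul_mem (H.mul_mem hg haH) (H.inv_mem hg))
  have hab : Quadratic.AbelianTwo H := by
    intro S
    have h' : IsMulCommutative (T : Subgroup H) := hT
    refine ⟨⟨fun x y => (T.equiv S).symm.injective ?_⟩⟩
    rw [map_mul, map_mul]
    exact h'.is_comm.comm _ _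
  obtain ⟨T'⟩ := (inferInstance : Nonempty (Sylow 2 (Subgroup.closure ({a, g * a * g⁻¹} : Set G))))
  refine Quadratic.pair_sylow_two hp hV (hHV haH) (hHV (hle (Subgroup.subset_closure (Or.inr rfl)))) hq
    (Quadratic.quad_conj g (hHV hg) hq) hbad T' ?_
  let e := (Subgroup.subgroupOfEquivOfLe hle)
  exact (hab.subgroup ((Subgroup.closure ({a, g * a * g⁻¹} : Set G)).subgroupOf H)).of_surjective (f := e.toMonoidHom) e.surjective T'

end Cfsg.Agent.S0595
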