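import Cfsg.Statements.S0600
import Cfsg.Agent.Lib.PLocal.Omega

set_option autoImplicit false
open Cfsg

namespace Cfsg.Agent.S0600

/-- A normal elementary abelian p-subgroup generated by the fixed points of the Sylow p-subgroups admits no nontrivial normal p-subgroup of G modulo its centralizer. -/
theorem result {G : Type*} [Group G] [Finite G] {p : ℕ} [Fact p.Prime] (V : Subgroup G) [V.Normal] (hV : Cfsg.IsElementaryAbelian p V) (hgen : V = ⨆ S : Sylow p G, V ⊓ Subgroup.centralizer ((S : Subgroup G) : Set G)) : Cfsg.pCore p (G ⧸ Subgroup.centralizer (V : Set G)) = ⊥ := by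
  open Subgroup Cfsg.Agent.PLocal.Cores in
  set C := centralizer (V : Set G)
  have : C.Normal := inferInstance
  set π := QuotientGroup.mk' C
  set D := (Cfsg.pCore p (G ⧸ C)).comap π with hD
  have hCD : C ≤ D := fun x hx => by
    rw [hD, mem_comap, show π x = 1 from (QuotientGroup.eq_one_iff x).mpr hx]
    exact one_mem _
  have hDn : D.Normal := Normal.comap inferInstance π
  obtain ⟨k, hk⟩ : ∃ k, C.relIndex D = p ^ k := by
    obtain ⟨k, hk⟩ := (isPGroup_pCore (p := p) (G := G ⧸ C)).exists_card_eq
    refine ⟨k, ?_⟩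
    rw [← hk, ← map_comap_eq_self_of_surjective (QuotientGroup.mk'_surjective C)
      (Cfsg.pCore p (G ⧸ C)), ← relIndex_ker, QuotientGroup.ker_mk']
  have hle : D ≤ C := by
    rw [le_centralizer_iff, hgen]
    refine iSup_le fun S => ?_
    rw [le_centralizer_iff]
    refine Cfsg.Agent.PLocal.Omega.le_centralizer_of_relIndex hCD hk S
      (centralizer_le inf_le_left) ?_
    intro x hx v hv
    exact (hv.2 x hx.1).symm
  rw [← map_comap_eq_self_of_surjective (QuotientGroup.mk'_surjective C) (Cfsg.pCore p (G ⧸ C)),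
    Subgroup.map_eq_bot_iff, QuotientGroup.ker_mk']
  exact hle

end Cfsg.Agent.S0600
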