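import Cfsg.Statements.S0601
import Cfsg.Agent.Lib.PLocal.Omega

set_option autoImplicit false
open Cfsg

namespace Cfsg.Agent.S0601

/-- When O_p(G) contains its centralizer, the normal closure of Ω₁(Z(S)) is elementary abelian and G has no nontrivial normal p-subgroup modulo its centralizer. -/
theorem result {G : Type*} [Group G] [Finite G] {p : ℕ} [Fact p.Prime] (hc : Subgroup.centralizer (Cfsg.pCore p G : Set G) ≤ Cfsg.pCore p G) : (⨆ S : Sylow p G, Cfsg.omegaOne p (((S : Subgroup G)) ⊓ Subgroup.centralizer ((S : Subgroup G) : Set G))).Normal ∧ Cfsg.IsElementaryAbelian p (⨆ S : Sylow p G, Cfsg.omegaOne p (((S : Subgroup G)) ⊓ Subgroup.centralizer ((S : Subgroup G) : Set G))) ∧ ∀ D : Subgroup G, D.Normal → Subgroup.centralizer ((⨆ S : Sylow p G, Cfsg.omegaOne p (((S : Subgroup G)) ⊓ Subgroup.centralizer ((S : Subgroup G) : Set G)) : Subgroup G) : Set G) ≤ D → (∃ k : ℕ, (Subgroup.centralizer ((⨆ S : Sylow p G, Cfsg.omegaOne p (((S : Subgroup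 G)) ⊓ Subgroup.centralizer ((S : Subgroup G) : Set G)) : Subgroup G) : Set G)).relIndex D = p ^ k) → D = Subgroup.centralizer ((⨆ S : Sylow p G, Cfsg.omegaOne p (((S : Subgroup G)) ⊓ Subgroup.centralizer ((S : Subgroup G) : Set G)) : Subgroup G) : Set G) := by
  open Subgroup Cfsg.Agent.PLocal.Cores Cfsg.Agent.PLocal.Omega in
  set Z := ⨆ S : Sylow p G, Cfsg.omegaOne p
    (((S : Subgroup G)) ⊓ centralizer ((S : Subgroup G) : Set G)) with hZ
  let E : Subgroup G :=
    { carrier := {x | x ∈ Cfsg.pCore p G ∧ x ∈ centralizer (Cfsg.pCore p G : Set G) ∧ x ^ p = 1}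
      one_mem' := ⟨one_mem _, one_mem _, one_pow p⟩
      mul_mem' := fun {a b} ha hb => ⟨mul_mem ha.1 hb.1, mul_mem ha.2.1 hb.2.1, by
        rw [(show Commute a b from hb.2.1 a ha.1).mul_pow, ha.2.2, hb.2.2, one_mul]⟩
      inv_mem' := fun {a} ha => ⟨inv_mem ha.1, inv_mem ha.2.1, by rw [inv_pow, ha.2.2, inv_one]⟩ }
  have hZE : Z ≤ E := iSup_le fun S => (closure_le _).mpr fun x hx =>
    have hxC : x ∈ centralizer (Cfsg.pCore p G : Set G) :=
      centralizer_le (pCore_le_sylow S) hx.1.2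
    ⟨hc hxC, hxC, hx.2⟩
  refine ⟨iSup_omega_center_normal, ⟨⟨⟨fun a b => Subtype.ext ?_⟩⟩,
    fun a ha => (hZE ha).2.2⟩, ?_⟩
  · exact (hZE b.2).2.1 _ (hZE a.2).1
  · intro D hDn hCD ⟨k, hk⟩
    refine le_antisymm ?_ hCD
    rw [le_centralizer_iff]
    refine iSup_le fun S => ?_
    rw [le_centralizer_iff]
    refine le_centralizer_of_relIndex hCD hk S (centralizer_le (le_iSup
      (fun T : Sylow p G => Cfsg.omegaOne p ((T : Subgroup G) ⊓
        centralizer ((T : Subgroup G) : Set G))) S)) ?_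
    intro x hx v hv
    exact ((omegaOne_le _ hv).2 x hx.1).symm

end Cfsg.Agent.S0601
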