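import Cfsg.Statements.S0607
import Cfsg.Agent.Lib.PLocal.Replacement

set_option autoImplicit false
open Cfsg
open scoped commutatorElement

namespace Cfsg.Agent.S0607

/-- The replacement Theorem for the Thompson subgroup: from A of maximal order among elementary abelian p-subgroups one obtains A₀ = [V, A] C_A([V, A]) of the same kind, quadratic on V and nontrivial on V when A is. -/
theorem result {G : Type*} [Group G] [Finite G] {p : ℕ} [Fact p.Prime] (V : Subgroup G) [V.Normal] (hV : Cfsg.IsElementaryAbelian p V) (A : Subgroup G) (hA : A ∈ Cfsg.maxElementaryAbelianSubgroups p G) : (⁅V, A⁆ ⊔ (A ⊓ Subgroup.centralizer ((⁅V, A⁆ : Subgroup G) : Set G))) ∈ Cfsg.maxElementaryAbelianSubgroups p G ∧ ⁅⁅V, ⁅V, A⁆ ⊔ (A ⊓ Subgroup.centralizer ((⁅V, A⁆ : Subgroup G) : Set G))⁆, ⁅V, A⁆ ⊔ (A ⊓ Subgroup.centralizer ((⁅V, A⁆ : Subgroup G) : Set G))⁆ = ⊥ ∧ (⁅V, A⁆ ≠ ⊥ → ⁅V, ⁅V, A⁆ ⊔ (A ⊓ Subgroup.centralizer ((⁅V, A⁆ : Subgroup G) : Set G))⁆ ≠ ⊥) := by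
  open Cfsg.Agent.PLocal.Replacement Cfsg.Agent.PLocal.ThompsonSubgroup in
  have hc := (isElementaryAbelian_iff.mp hV).1
  have hAV : A ≤ Subgroup.normalizer (V : Set G) := Subgroup.le_normalizer_of_normal
  have hAE := hA.1
  have hAab := (isElementaryAbelian_iff.mp hAE).1
  have hCA : V ⊓ Subgroup.centralizer (A : Set G) = A ⊓ V := by
    refine le_antisymm (fun x hx => ⟨mem_of_centralizes hA hx.2 (hV.2 x hx.1), hx.1⟩) ?_
    exact fun x hx => ⟨hx.2, fun a ha => hAab a ha x hx.1⟩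
  have hAbest : Cfsg.IsBestOffenderOn p V A := by
    refine ⟨fun D hD => ?_, ?_, fun a ha => ?_⟩
    · set W := V ⊓ Subgroup.centralizer (D : Set G) with hW
      have hE : Cfsg.IsElementaryAbelian p (D ⊔ W : Subgroup G) :=
        IsElementaryAbelian.sup (IsElementaryAbelian.mono hAE hD) (IsElementaryAbelian.mono hV inf_le_left)
          (Subgroup.le_centralizer_iff.mp inf_le_right)
      refine (card_mul_card_le D W).trans (Nat.mul_le_mul (hA.2 _ hE) (Subgroup.card_le_of_le ?_))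
      rw [hCA]
      exact le_inf (inf_le_left.trans hD) (inf_le_right.trans inf_le_left)
    · rw [Subgroup.commutator_le]
      intro a ha b hb
      rw [commutatorElement_eq_one_iff_mul_comm.mpr (hAab a ha b hb)]
      exact one_mem _
    · rw [hAE.2 a ha]
      exact one_mem _
  obtain ⟨h1, h2, h3, h4⟩ := bestOffender_inf_centralizer hV hAV hAbest le_rfl
  rw [hCA] at h3
  set X := ⁅V, A⁆ with hX
  set B := A ⊓ Subgroup.centralizer (X : Set G) with hB
  have hXV : X ≤ V := commutator_le_left hAV le_rfl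
  have hXc : X ≤ Subgroup.centralizer (B : Set G) := Subgroup.le_centralizer_iff.mp inf_le_right
  have hAVB : A ⊓ V ≤ B := fun x hx => ⟨hx.1, fun y hy => hc y (hXV hy) x hx.2⟩
  have hE : Cfsg.IsElementaryAbelian p (X ⊔ B : Subgroup G) :=
    IsElementaryAbelian.sup (IsElementaryAbelian.mono hV hXV) (IsElementaryAbelian.mono hAE inf_le_left) hXc
  have heq : X ⊔ B = (V ⊓ Subgroup.centralizer (B : Set G)) ⊔ B := by
    rw [h3, sup_assoc, sup_eq_right.mpr hAVB]
  have hcard : Nat.card A ≤ Nat.card ↥(X ⊔ B) := by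
    have k := card_mul_card_le (V ⊓ Subgroup.centralizer (B : Set G)) B
    rw [← heq, mul_comm, show Nat.card B * Nat.card ↥(V ⊓ Subgroup.centralizer (B : Set G))
      = weight V A from h2] at k
    have hle : (V ⊓ Subgroup.centralizer (B : Set G)) ⊓ B ≤ V ⊓ Subgroup.centralizer (A : Set G) := by
      rw [hCA]; exact le_inf (inf_le_right.trans inf_le_left) (inf_le_left.trans inf_le_left)
    exact Nat.le_of_mul_le_mul_right (k.trans (Nat.mul_le_mul_left _ (Subgroup.card_le_of_le hle))) Nat.card_pos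
  refine ⟨⟨hE, fun D hD => (hA.2 D hD).trans hcard⟩, ?_, fun hne h => h4 hne ?_⟩
  · rw [Subgroup.commutator_eq_bot_iff_le_centralizer]
    refine le_trans ?_ (?_ : X ≤ _)
    · rw [Subgroup.commutator_le]
      intro v hv y hy
      obtain ⟨b, hb, x, hx, rfl⟩ : ∃ b ∈ B, ∃ x ∈ X, y = b * x := by
        have hn : X ≤ Subgroup.normalizer (B : Set G) := hXc.trans (Subgroup.centralizer_le_normalizer _)
        have h := Subgroup.coe_mul_of_right_le_normalizer_left B X hn
        rw [sup_comm] at hy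
        have hy' : y ∈ (↑(B ⊔ X) : Set G) := hy
        rw [h] at hy'
        obtain ⟨b, hb, x, hx, rfl⟩ := hy'
        exact ⟨b, hb, x, hx, rfl⟩
      have hbv : ⁅v, b⁆ ∈ X := Subgroup.commutator_mem_commutator hv hb.1
      have : ⁅v, b * x⁆ = ⁅v, b⁆ := by
        calc ⁅v, b * x⁆ = v * b * (x * v⁻¹) * x⁻¹ * b⁻¹ := by simp only [commutatorElement_def]; group
          _ = v * b * (v⁻¹ * x) * x⁻¹ * b⁻¹ := by rw [hc x (hXV hx) v⁻¹ (V.inv_mem hv)]
          _ = ⁅v, b⁆ := by simp only [commutatorElement_def]; group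
      rw [this]
      exact hbv
    · refine Subgroup.le_centralizer_iff.mp (sup_le (fun x hx y hy => hc y (hXV hy) x (hXV hx)) ?_)
      exact inf_le_right
  · exact le_bot_iff.mp (h ▸ Subgroup.commutator_mono le_rfl le_sup_right)

end Cfsg.Agent.S0607
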