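import Cfsg.Statements.S0608
import Cfsg.Agent.Lib.PLocal.Omega
import Cfsg.Agent.Lib.PLocal.ThompsonSubgroup

set_option autoImplicit false
open Cfsg

namespace Cfsg.Agent.S0608

/-- With trivial p'-core, Thompson factorizability is equivalent to J(G) centralizing the subgroup generated by all Ω₁(Z(S)), S Sylow. -/
theorem result {G : Type*} [Group G] [Finite G] {p : ℕ} [Fact p.Prime] (hO : Cfsg.pPrimeCore p G = ⊥) : Cfsg.IsThompsonFactorizable p G ↔ Cfsg.thompsonSubgroup p G ≤ Subgroup.centralizer ((⨆ S : Sylow p G, Cfsg.omegaOne p (((S : Subgroup G)) ⊓ Subgroup.centralizer ((S : Subgroup G) : Set G)) : Subgroup G) : Set G) := by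
  open Subgroup Cfsg.Agent.PLocal.Omega Cfsg.Agent.PLocal.ThompsonSubgroup
    Cfsg.Agent.Transfer.Fusion in
  set Z := ⨆ S : Sylow p G, Cfsg.omegaOne p
    (((S : Subgroup G)) ⊓ centralizer ((S : Subgroup G) : Set G)) with hZ
  constructor
  · intro h
    rw [hZ, le_centralizer_iff]
    refine iSup_le fun S => ?_
    rw [le_centralizer_iff, thompsonSubgroup_eq_iSup_sylow]
    refine iSup_le fun T => ?_
    obtain ⟨g, rfl⟩ := MulAction.exists_smul_eq G S T
    obtain ⟨x, hx, c, hc, n, hn, rfl⟩ := h S g
    rw [hO, mem_bot] at hx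
    subst hx
    have hJ : Cfsg.thompsonSubgroupOf p (S : Subgroup G) ≤
        centralizer (Cfsg.omegaOne p ((S : Subgroup G) ⊓
          centralizer ((S : Subgroup G) : Set G)) : Set G) := by
      refine (thompsonSubgroupOf_le _).trans ?_
      intro y hy v hv
      exact ((omegaOne_le _ hv).2 y hy).symm
    rw [coe_smul_eq_map, ← map_thompsonSubgroupOf (MulAut.conj _).injective, one_mul,
      map_conj_mul, map_conj_eq_self_iff.mpr hn]
    rintro _ ⟨y, hy, rfl⟩
    have := mul_mem (mul_mem hc (hJ hy)) (inv_mem hc)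
    simpa using this
  · intro h S g
    set C := centralizer (Z : Set G)
    have : Z.Normal := iSup_omega_center_normal
    have : C.Normal := inferInstance
    obtain ⟨A, hA⟩ := exists_maxElementaryAbelian (p := p) (G := G)
    have hJS : Cfsg.thompsonSubgroupOf p (S : Subgroup G) ≤ (S : Subgroup G) ⊓ C := by
      refine le_inf (thompsonSubgroupOf_le _) (le_trans ?_ h)
      rw [thompsonSubgroup_eq_iSup_sylow]
      exact le_iSup (fun T : Sylow p G => Cfsg.thompsonSubgroupOf p (T : Subgroup G)) S
    have hP : IsPGroup p (((S : Subgroup G) ⊓ C).subgroupOf C) :=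
      (S.2.to_le inf_le_left).comap_subtype
    let P : Sylow p C := hP.toSylow (not_dvd_relIndex_inf S C)
    have hF := Sylow.normalizer_sup_eq_top P
    rw [show (P : Subgroup C) = ((S : Subgroup G) ⊓ C).subgroupOf C from rfl,
      map_subgroupOf_eq_of_le inf_le_right] at hF
    have hg : g ∈ C ⊔ normalizer (((S : Subgroup G) ⊓ C : Subgroup G) : Set G) := by
      rw [sup_comm, hF]; exact mem_top g
    obtain ⟨c, hc, n, hn, rfl⟩ := mem_sup_of_normal_left.mp hg
    refine ⟨1, one_mem _, c, centralizer_le (le_iSup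
      (fun T : Sylow p G => Cfsg.omegaOne p ((T : Subgroup G) ⊓
        centralizer ((T : Subgroup G) : Set G))) S) hc, n, ?_, by group⟩
    rw [← thompsonSubgroupOf_eq_of_le_of_le hJS inf_le_left]
    exact normalizer_le_normalizer_thompsonSubgroupOf _ hn

end Cfsg.Agent.S0608
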