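import Cfsg.Statements.S0609
import Cfsg.Agent.Lib.Components.Local
import Cfsg.Agent.Lib.PLocal.Omega
import Cfsg.Agent.Lib.PLocal.ThompsonSubgroup
import Cfsg.Agent.Lib.PLocal.Cores

set_option autoImplicit false
open Cfsg

namespace Cfsg.Agent.S0609

theorem images {G : Type*} [Group G] [Finite G] {p : ℕ} [Fact p.Prime] {R : Subgroup G} [R.Normal]
    (hR : (Nat.card R).Coprime p) {S : Subgroup G} (hS : IsPGroup p S) :
    (Subgroup.centralizer (Cfsg.omegaOne p (S ⊓ Subgroup.centralizer (S : Set G)) : Set G)).map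
        (QuotientGroup.mk' R) =
      Subgroup.centralizer (Cfsg.omegaOne p ((S.map (QuotientGroup.mk' R)) ⊓
        Subgroup.centralizer (S.map (QuotientGroup.mk' R) : Set (G ⧸ R))) : Set (G ⧸ R)) ∧
    (Subgroup.normalizer (Cfsg.thompsonSubgroupOf p S : Set G)).map (QuotientGroup.mk' R) =
      Subgroup.normalizer (Cfsg.thompsonSubgroupOf p (S.map (QuotientGroup.mk' R)) : Set (G ⧸ R)) := by
  open Cfsg.Agent.PLocal Cfsg.Agent.Components.Local in
  set q := QuotientGroup.mk' R with hq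
  have hinj : Function.Injective (q.comp S.subtype) := by
    rw [injective_iff_map_eq_one]
    intro x hx
    have h1 : (x : G) ∈ S ⊓ R := ⟨x.2, (QuotientGroup.eq_one_iff (x : G)).1 hx⟩
    rw [Cores.inf_eq_bot_of_isPGroup_of_coprime hS hR, Subgroup.mem_bot] at h1
    exact Subtype.ext h1
  constructor
  · have hK : (S ⊓ Subgroup.centralizer (S : Set G)).map q =
        S.map q ⊓ Subgroup.centralizer (S.map q : Set (G ⧸ R)) := by
      refine le_antisymm ?_ ?_
      · rintro _ ⟨x, ⟨hx, hxc⟩, rfl⟩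
        refine ⟨⟨x, hx, rfl⟩, ?_⟩
        rintro _ ⟨y, hy, rfl⟩
        rw [← map_mul, ← map_mul, hxc y hy]
      · rintro _ ⟨⟨x, hx, rfl⟩, hxc⟩
        refine ⟨x, ⟨hx, fun y hy => ?_⟩, rfl⟩
        exact congrArg Subtype.val (hinj (a₁ := ⟨y, hy⟩ * ⟨x, hx⟩) (a₂ := ⟨x, hx⟩ * ⟨y, hy⟩)
          (by rw [map_mul, map_mul]; exact hxc _ ⟨y, hy, rfl⟩))
    have hsub : (S ⊓ Subgroup.centralizer (S : Set G)) =
        ((S ⊓ Subgroup.centralizer (S : Set G)).subgroupOf S).map S.subtype :=
      (Subgroup.map_subgroupOf_eq_of_le inf_le_left).symm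
    rw [map_centralizer_eq (hS.to_le ((Omega.omegaOne_le _).trans inf_le_left)) hR, ← hK, hsub,
      ← Omega.map_omegaOne S.subtype_injective, Subgroup.map_map, Subgroup.map_map,
      ← Omega.map_omegaOne hinj]
  · rw [map_normalizer_eq (hS.to_le (ThompsonSubgroup.thompsonSubgroupOf_le S)) hR]
    congr 2
    let e : S ≃* S.map q := MulEquiv.ofBijective (q.subgroupMap S)
      ⟨fun a b h => hinj (congrArg Subtype.val h), q.subgroupMap_surjective S⟩
    rw [Cfsg.thompsonSubgroupOf, Cfsg.thompsonSubgroupOf,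
      ← ThompsonSubgroup.map_thompsonSubgroup_equiv e, Subgroup.map_map, Subgroup.map_map]
    rfl


/-- Thompson factorizability passes to and from the quotient by the largest normal subgroup of order prime to p. -/
theorem result {G : Type*} [Group G] [Finite G] {p : ℕ} [Fact p.Prime] : Cfsg.IsThompsonFactorizable p G ↔ Cfsg.IsThompsonFactorizable p (G ⧸ Cfsg.pPrimeCore p G) := by
  open Cfsg.Agent.PLocal in
  set R := Cfsg.pPrimeCore p G with hRdef
  have hR : (Nat.card R).Coprime p := Cores.coprime_card_pPrimeCore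
  set q := QuotientGroup.mk' R with hq
  have hqs := QuotientGroup.mk'_surjective R
  constructor
  · intro h S' g'
    obtain ⟨S, rfl⟩ := Sylow.mapSurjective_surjective hqs p S'
    obtain ⟨g, rfl⟩ := hqs g'
    obtain ⟨h1, h2⟩ := images hR S.2
    obtain ⟨x, hx, c, hc, n, hn, rfl⟩ := h S g
    refine ⟨1, one_mem _, q c, ?_, q n, ?_, ?_⟩
    · rw [Sylow.coe_mapSurjective, ← h1]; exact ⟨c, hc, rfl⟩
    · rw [Sylow.coe_mapSurjective, ← h2]; exact ⟨n, hn, rfl⟩
    · rw [map_mul, map_mul, show q x = 1 from (QuotientGroup.eq_one_iff x).2 hx]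
  · intro h S g
    obtain ⟨h1, h2⟩ := images hR S.2
    obtain ⟨x, hx, c', hc, n', hn, he⟩ := h (S.mapSurjective hqs) (q g)
    rw [Cores.pPrimeCore_quotient_pPrimeCore, Subgroup.mem_bot] at hx
    rw [Sylow.coe_mapSurjective, ← h1] at hc
    rw [Sylow.coe_mapSurjective, ← h2] at hn
    obtain ⟨c, hc, rfl⟩ := hc
    obtain ⟨n, hn, rfl⟩ := hn
    refine ⟨g * (c * n)⁻¹, ?_, c, hc, n, hn, by group⟩
    refine (QuotientGroup.eq_one_iff _).1 ?_
    show q (g * (c * n)⁻¹) = 1
    rw [map_mul, map_inv, map_mul, he, hx, one_mul, mul_inv_cancel]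

end Cfsg.Agent.S0609
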