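import Cfsg.Statements.S0613
import Cfsg.Agent.Lib.PLocal.Offender.Factor

set_option autoImplicit false
open Cfsg

namespace Cfsg.Agent.S0613

/-- A minimal nontrivially-acting best offender and a conjugate of it under a non-centralizing element of the p'-core generate SL(2, p) acting naturally on a plane, and p is 2 or 3. -/
theorem result {G : Type*} [Group G] [Finite G] {p : ℕ} [Fact p.Prime] (V H : Subgroup G) (hV : Cfsg.IsElementaryAbelian p V) (hHV : H ≤ Subgroup.normalizer (V : Set G)) (hf : H ⊓ Subgroup.centralizer (V : Set G) = ⊥) (hS1 : Subgroup.centralizer (Cfsg.pPrimeCore p ↥H : Set ↥H) ≤ Cfsg.pPrimeCore p ↥H) (hS3 : H = ⨆ A : {A : Subgroup G // A ≤ H ∧ Cfsg.IsBestOffenderOn p V A}, (A : Subgroup G)) (hH1 : H ≠ ⊥) (A : Subgroup G) (hAH : A ≤ H) (hA : Cfsg.IsBestOffenderOn p V A) (hAV : ⁅V, A⁆ ≠ ⊥) (hmin : ∀ B : Subgroup G, B ≤ A → Cfsg.IsBestOffenderOn p V B → ⁅V, B⁆ ≠ ⊥ → B = A) (x : G) (hx : x ∈ ((Cfsg.pPrimeCore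 p ↥H).map H.subtype)) (hxA : x ∉ Subgroup.centralizer (A : Set G)) : (p = 2 ∨ p = 3) ∧ Nat.card ↥(⁅V, A ⊔ A.map (MulAut.conj x).toMonoidHom⁆) = p ^ 2 ∧ (A ⊔ A.map (MulAut.conj x).toMonoidHom) ⊓ Subgroup.centralizer ((⁅V, A ⊔ A.map (MulAut.conj x).toMonoidHom⁆ : Subgroup G) : Set G) = ⊥ ∧ Nonempty (↥(A ⊔ A.map (MulAut.conj x).toMonoidHom) ≃* Matrix.SpecialLinearGroup (Fin 2) (ZMod p)) := by
  open Cfsg.Agent.PLocal in
  have s := Offender.setup_of hV hHV hf hS1
  obtain ⟨-, hF, hc⟩ := Offender.card_of_minimal s hAH hA hAV hmin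
  have hP : Offender.Point p V H A := ⟨hAH, hc, hF⟩
  have hxH := s.core_le hx
  have hB := Offender.conj_point s hP hxH
  have hBA : A.map (MulAut.conj x).toMonoidHom ≤ (Cfsg.pPrimeCore p ↥H).map H.subtype ⊔ A :=
    (Offender.conj_le_sup s hP hx).trans (sup_le_sup_right
      (Subgroup.le_normalizer_iff_commutator_le_left.mp (hAH.trans s.core_norm)) A)
  have hne := Offender.conj_ne s hP hx hxA
  have hnp := Offender.not_isPGroup_sup s hP hB hBA hne
  have P := Offender.plane s hP hB hnp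
  have d := Offender.core_data s hP hB hBA hne
  obtain ⟨e₁, e₂, hbas, a, b, t, hza, hzb, ht, hactA, hactB⟩ := Offender.plane_coords s hP hB hnp
  have ha : a ∈ A := hza.le (Subgroup.mem_zpowers a)
  have hb : b ∈ A.map (MulAut.conj x).toMonoidHom := hzb.le (Subgroup.mem_zpowers b)
  have hasp : a ∈ Offender.Coord.special hbas := ⟨_, hactA⟩
  have hbsp : b ∈ Offender.Coord.special hbas := ⟨_, hactB⟩
  obtain ⟨e, -⟩ := Offender.Coord.iso_of_actions hbas
    (sup_le (hza.symm.trans_le (Subgroup.zpowers_le.mpr hasp)) (hzb.symm.trans_le (Subgroup.zpowers_le.mpr hbsp)))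
    P.faithful (Subgroup.mem_sup_left ha) (Subgroup.mem_sup_right hb) ht hactA hactB
  exact ⟨d.small, P.card, P.faithful, ⟨e⟩⟩

end Cfsg.Agent.S0613
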