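import Cfsg.Statements.S0615
import Cfsg.Agent.Lib.PLocal.Offender.Commuting

set_option autoImplicit false
open Cfsg
open scoped commutatorElement

namespace Cfsg.Agent.S0615

/-- Two subnormal subgroups acting irreducibly on their incomparable commutator modules, in a faithful group with trivial largest normal p-subgroup, generate their direct product, and the commutator module splits accordingly. -/
theorem result {G : Type*} [Group G] [Finite G] {p : ℕ} [Fact p.Prime] (V E E₁ E₂ : Subgroup G) (hV : Cfsg.IsElementaryAbelian p V) (hEV : E ≤ Subgroup.normalizer (V : Set G)) (hf : E ⊓ Subgroup.centralizer (V : Set G) = ⊥) (hgen : E = E₁ ⊔ E₂) (hs₁ : (E₁.subgroupOf E).IsSubnormal) (hs₂ : (E₂.subgroupOf E).IsSubnormal) (hOp : Cfsg.pCore p ↥E = ⊥) (hirr₁ : (∀ U : Subgroup G, U ≤ ⁅V, E₁⁆ → E₁ ≤ Subgroup.normalizer (U : Set G) → U = ⊥ ∨ U = ⁅V, E₁⁆)) (hirr₂ : (∀ U : Subgroup G, U ≤ ⁅V, E₂⁆ → E₂ ≤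 Subgroup.normalizer (U : Set G) → U = ⊥ ∨ U = ⁅V, E₂⁆)) (h12 : ¬ ⁅V, E₁⁆ ≤ ⁅V, E₂⁆) (h21 : ¬ ⁅V, E₂⁆ ≤ ⁅V, E₁⁆) (hc₁ : 2 < Nat.card E₁) (hc₂ : 2 < Nat.card E₂) : ⁅E₁, E₂⁆ = ⊥ ∧ E₁ ⊓ E₂ = ⊥ ∧ ⁅V, E₁⁆ ⊓ ⁅V, E₂⁆ = ⊥ ∧ ⁅V, E⁆ = ⁅V, E₁⁆ ⊔ ⁅V, E₂⁆ := by
  open Cfsg.Agent.PLocal.Offender Subgroup in
  have h1 : Sub E E₁ := ⟨hgen ▸ le_sup_left, hs₁⟩
  have h2 : Sub E E₂ := ⟨hgen ▸ le_sup_right, hs₂⟩
  obtain ⟨hcm, hdis⟩ := commuting hV E E₁ E₂ hEV hf hOp h1 h2 hirr₁ hirr₂ h12 h21 hc₁ hc₂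
  have hE₁V := h1.1.trans hEV
  have hE₂V := h2.1.trans hEV
  have hW₁ : ⁅V, E₁⁆ ≤ V := module_le hV hE₁V
  have hn : ∀ {X Y : Subgroup G}, X ≤ normalizer (V : Set G) → ⁅Y, X⁆ = ⊥ →
      X ≤ normalizer ((⁅V, Y⁆ : Subgroup G) : Set G) := fun hX h x hx =>
    conj_mem_commutator (hX hx) (centralizer_le_normalizer _
      (le_centralizer_iff_commutator.mpr h hx))
  have hn12 : E₂ ≤ normalizer ((⁅V, E₁⁆ : Subgroup G) : Set G) := hn hE₂V hcm
  have hn21 : E₁ ≤ normalizer ((⁅V, E₂⁆ : Subgroup G) : Set G) :=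
    hn hE₁V (by rw [commutator_comm]; exact hcm)
  have h121 : ⁅⁅V, E₁⁆, E₂⁆ = ⊥ := le_bot_iff.mp (hdis ▸ le_inf
    (le_normalizer_iff_commutator_le_left.mp hn12) (commutator_mono hW₁ le_rfl))
  have h212 : ⁅⁅V, E₂⁆, E₁⁆ = ⊥ := le_bot_iff.mp (hdis ▸ le_inf
    (commutator_mono (module_le hV hE₂V) le_rfl) (le_normalizer_iff_commutator_le_left.mp hn21))
  refine ⟨hcm, ?_, hdis, ?_⟩
  · refine (Sub.of_normalizer (L := E) (inf_le_left.trans h1.1) ?_).eq_bot hOp (isPGroup_of_quad hV (inf_le_left.trans hE₁V)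
      (le_bot_iff.mp (hf ▸ inf_le_inf_right _ (inf_le_left.trans h1.1))) ?_)
    · rw [hgen]
      refine (sup_le ?_ ?_).trans (centralizer_le_normalizer _)
      · exact (commutator_eq_bot_iff_le_centralizer.mp hcm).trans (centralizer_le inf_le_right)
      · exact (le_centralizer_iff_commutator.mpr hcm).trans (centralizer_le inf_le_left)
    · exact le_bot_iff.mp (h121 ▸ commutator_mono (commutator_mono le_rfl inf_le_left) inf_le_right)
  · refine le_antisymm ?_ (sup_le (commutator_mono le_rfl h1.1) (commutator_mono le_rfl h2.1))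
    set W := ⁅V, E₁⁆ ⊔ ⁅V, E₂⁆ with hW
    rw [commutator_le]
    intro v hv e he
    rw [hgen, sup_eq_closure] at he
    have hc1 : ∀ x ∈ E₁, ∀ y ∈ ⁅V, E₂⁆, x * y = y * x := fun x hx y hy =>
      ((le_centralizer_iff_commutator.mpr h212) hx y hy).symm
    have hc2 : ∀ x ∈ E₂, ∀ y ∈ ⁅V, E₁⁆, x * y = y * x := fun x hx y hy =>
      ((le_centralizer_iff_commutator.mpr h121) hx y hy).symm
    have hinv : E₁ ⊔ E₂ ≤ normalizer (W : Set G) := by
      refine sup_le (fun x hx => ?_) (fun x hx => ?_) <;>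
        rw [mem_normalizer_map, hW, Subgroup.map_sup]
      · rw [mem_normalizer_map.mp (normalizer_commutator_ge_right V E₁ hx), mem_normalizer_map.mp (hn21 hx)]
      · rw [mem_normalizer_map.mp (hn12 hx), mem_normalizer_map.mp (normalizer_commutator_ge_right V E₂ hx)]
    suffices H : e ∈ normalizer (W : Set G) ∧ ⁅v, e⁆ ∈ W from H.2
    induction he using closure_induction generalizing v with
    | mem x hx =>
      rcases hx with hx | hx
      · exact ⟨hinv (mem_sup_left hx), mem_sup_left (commutator_mem_commutator hv hx)⟩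
      · exact ⟨hinv (mem_sup_right hx), mem_sup_right (commutator_mem_commutator hv hx)⟩
    | one => exact ⟨one_mem _, by simp⟩
    | mul x y _ _ ihx ihy =>
      refine ⟨mul_mem (ihx v hv).1 (ihy v hv).1, ?_⟩
      rw [show ⁅v, x * y⁆ = ⁅v, x⁆ * (x * ⁅v, y⁆ * x⁻¹) by simp only [commutatorElement_def]; group]
      exact mul_mem (ihx v hv).2 ((mem_normalizer_iff.mp (ihx v hv).1 _).mp (ihy v hv).2)
    | inv x _ ih =>
      refine ⟨inv_mem (ih v hv).1, ?_⟩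
      rw [show ⁅v, x⁻¹⁆ = x⁻¹ * ⁅v, x⁆⁻¹ * x⁻¹⁻¹ by simp only [commutatorElement_def]; group]
      exact (mem_normalizer_iff.mp (inv_mem (ih v hv).1) _).mp (inv_mem (ih v hv).2)

end Cfsg.Agent.S0615
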