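import Cfsg.Statements.S0617
import Cfsg.Agent.Lib.PLocal.Offender.Structure

set_option autoImplicit false
open Cfsg

namespace Cfsg.Agent.S0617

/-- Structure Theorem for failure of factorization: a faithful group generated by best offenders, with self-centralizing p'-core, is a direct product of copies of SL(2, p) (p = 2 or 3), each acting on its own plane in V, which is the direct product of these planes and C_V(H). -/
theorem result {G : Type*} [Group G] [Finite G] {p : ℕ} [Fact p.Prime] (V H : Subgroup G) (hV : Cfsg.IsElementaryAbelian p V) (hHV : H ≤ Subgroup.normalizer (V : Set G)) (hf : H ⊓ Subgroup.centralizer (V : Set G) = ⊥) (hS1 : Subgroup.centralizer (Cfsg.pPrimeCore p ↥H : Set ↥H) ≤ Cfsg.pPrimeCore p ↥H) (hS3 : H = ⨆ A : {A : Subgroup G // A ≤ H ∧ Cfsg.IsBestOffenderOn p V A}, (A : Subgroup G)) (hH1 : H ≠ ⊥) : (p = 2 ∨ p = 3) ∧ (∀ E : {E : Subgroup G // ∃ A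 : Subgroup G, A ≤ H ∧ Cfsg.IsBestOffenderOn p V A ∧ ⁅V, A⁆ ≠ ⊥ ∧ (∀ B : Subgroup G, B ≤ A → Cfsg.IsBestOffenderOn p V B → ⁅V, B⁆ ≠ ⊥ → B = A) ∧ E = ⁅((Cfsg.pPrimeCore p ↥H).map H.subtype), A⁆ ⊔ A}, H ≤ Subgroup.normalizer ((E : Subgroup G) : Set G) ∧ Nonempty (↥(E : Subgroup G) ≃* Matrix.SpecialLinearGroup (Fin 2) (ZMod p)) ∧ Nat.card ↥(⁅V, (E : Subgroup G)⁆) = p ^ 2) ∧ iSupIndep (fun E : {E : Subgroup G // ∃ A : Subgroup G, A ≤ H ∧ Cfsg.IsBestOffenderOn p V A ∧ ⁅V, A⁆ ≠ ⊥ ∧ (∀ B : Subgroup G, B ≤ A → Cfsg.IsBestOffenderOn p V B → ⁅V, B⁆ ≠ ⊥ → B = A) ∧ E = ⁅((Cfsg.pPrimeCore p ↥H).map H.subtype), A⁆ ⊔ A} => (E : Subgroup G)) ∧ (⨆ E : {E : Subgroup G // ∃ A : Subgroup G, A ≤ H ∧ Cfsg.IsBestOffenderOn p V A ∧ ⁅V, A⁆ ≠ ⊥ ∧ (∀ B : Subgroup G, B ≤ A → Cfsg.IsBestOffenderOn p V B → ⁅V, B⁆ ≠ ⊥ → B = A) ∧ E = ⁅((Cfsg.pPrimeCore p ↥H).map H.subtype), A⁆ ⊔ A}, (E : Subgroup G)) = H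 ∧ iSupIndep (fun o : Option {E : Subgroup G // ∃ A : Subgroup G, A ≤ H ∧ Cfsg.IsBestOffenderOn p V A ∧ ⁅V, A⁆ ≠ ⊥ ∧ (∀ B : Subgroup G, B ≤ A → Cfsg.IsBestOffenderOn p V B → ⁅V, B⁆ ≠ ⊥ → B = A) ∧ E = ⁅((Cfsg.pPrimeCore p ↥H).map H.subtype), A⁆ ⊔ A} => o.elim (V ⊓ Subgroup.centralizer (H : Set G)) (fun E => ⁅V, (E : Subgroup G)⁆)) ∧ (V ⊓ Subgroup.centralizer (H : Set G)) ⊔ (⨆ E : {E : Subgroup G // ∃ A : Subgroup G, A ≤ H ∧ Cfsg.IsBestOffenderOn p V A ∧ ⁅V, A⁆ ≠ ⊥ ∧ (∀ B : Subgroup G, B ≤ A → Cfsg.IsBestOffenderOn p V B → ⁅V, B⁆ ≠ ⊥ → B = A) ∧ E = ⁅((Cfsg.pPrimeCore p ↥H).map H.subtype), A⁆ ⊔ A}, ⁅V, (E : Subgroup G)⁆) = V := by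
  open Cfsg.Agent.PLocal Cfsg.Agent.PLocal.Offender Subgroup in
  have s := Offender.setup_of hV hHV hf hS1
  set F := (Cfsg.pPrimeCore p ↥H).map H.subtype with hFdef
  have hex : ∃ A, Point p V H A := by
    by_contra h
    exact hH1 (le_bot_iff.mp (le_of_points s hS3 (K := ⊥) fun B hB => absurd ⟨B, hB⟩ h))
  obtain ⟨A₀, hA₀⟩ := hex
  have hpt : ∀ E : {E : Subgroup G // ∃ A : Subgroup G, A ≤ H ∧ Cfsg.IsBestOffenderOn p V A ∧ ⁅V, A⁆ ≠ ⊥ ∧ (∀ B : Subgroup G, B ≤ A → Cfsg.IsBestOffenderOn p V B → ⁅V, B⁆ ≠ ⊥ → B = A) ∧ E = ⁅F, A⁆ ⊔ A},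
      ∃ A, Point p V H A ∧ (E : Subgroup G) = factorGroup F A := by
    rintro ⟨E, A, hAH, hA, hAV, hmin, hE⟩
    obtain ⟨-, hF, hc⟩ := card_of_minimal s hAH hA hAV hmin
    exact ⟨A, ⟨hAH, hc, hF⟩, hE⟩
  have hsep : ∀ i j, i ≠ j → ∀ A B, Point p V H A → Point p V H B →
      (Subtype.val i : Subgroup G) = factorGroup F A → (Subtype.val j : Subgroup G) = factorGroup F B →
      ⁅V, factorGroup F A⁆ ≠ ⁅V, factorGroup F B⁆ := fun i j hij A B hA hB hi hj h =>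
    hij ((Subtype.ext (hi.trans ((factor_eq_of_eq s hA hB h).symm.trans hj.symm)) :
      (i : {E : Subgroup G // ∃ A : Subgroup G, A ≤ H ∧ Cfsg.IsBestOffenderOn p V A ∧ ⁅V, A⁆ ≠ ⊥ ∧ (∀ B : Subgroup G, B ≤ A → Cfsg.IsBestOffenderOn p V B → ⁅V, B⁆ ≠ ⊥ → B = A) ∧ E = ⁅F, A⁆ ⊔ A}) = j))
  have hsup : (⨆ E : {E : Subgroup G // ∃ A : Subgroup G, A ≤ H ∧ Cfsg.IsBestOffenderOn p V A ∧ ⁅V, A⁆ ≠ ⊥ ∧ (∀ B : Subgroup G, B ≤ A → Cfsg.IsBestOffenderOn p V B → ⁅V, B⁆ ≠ ⊥ → B = A) ∧ E = ⁅F, A⁆ ⊔ A}, (E : Subgroup G)) = H := by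
    refine le_antisymm (iSup_le fun E => ?_) (le_of_points s hS3 fun B hB => ?_)
    · obtain ⟨A, hA, hE⟩ := hpt E
      exact hE.le.trans (factorGroup_le s hA)
    · obtain ⟨h1, h2, h3⟩ := minimal_of_card s hB.le hB.card hB.full
      exact le_trans (le_sup_right : B ≤ factorGroup F B)
        (le_iSup_of_le ⟨_, B, hB.le, h1, h2, h3, rfl⟩ le_rfl)
  have hmodV : ∀ A, Point p V H A → ⁅V, factorGroup F A⁆ ≤ V := fun A hA =>
    le_normalizer_iff_commutator_le_left.mp ((factorGroup_le s hA).trans s.norm)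
  refine ⟨(factor s hA₀).small, fun E => ?_, fun i => ?_, hsup, fun o => ?_, ?_⟩
  · obtain ⟨A, hA, hE⟩ := hpt E
    rw [hE]
    exact ⟨(direct_factor s hS3 hA).1, (factor s hA).iso, (factor s hA).card⟩
  · obtain ⟨A, hA, hi⟩ := hpt i
    rw [disjoint_iff, eq_bot_iff]
    refine le_trans (le_inf inf_le_left (inf_le_right.trans (iSup₂_le fun j hji => ?_)))
      (le_bot_iff.mpr ((factor s hA).faithful))|>.trans' (inf_le_inf_right _ hi.le)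
    obtain ⟨B, hB, hj⟩ := hpt j
    refine hj.le.trans (le_centralizer_iff.mp ((separate s hA hB ?_).2.trans inf_le_right))
    exact hsep i j (Ne.symm hji) A B hA hB hi hj
  · have hC : ∀ A, Point p V H A → V ⊓ centralizer (H : Set G) ≤ V ⊓ centralizer (factorGroup F A : Set G) :=
      fun A hA => inf_le_inf_left _ (centralizer_le (factorGroup_le s hA))
    rw [disjoint_iff, eq_bot_iff]
    cases o with
    | none =>
      haveI : IsMulCommutative V := s.elem.1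
      have hcV : (Nat.card F).Coprime (Nat.card V) := by
        obtain ⟨n, hn⟩ := (ThompsonSubgroup.IsElementaryAbelian.isPGroup s.elem).exists_card_eq
        rw [hn]; exact s.core_cop.pow_right n
      refine le_trans ?_ (le_bot_iff.mpr (Coprime.inf_centralizer_inf_commutator (s.core_le.trans s.norm) hcV))
      refine le_inf (inf_le_left.trans (inf_le_inf_left _ (centralizer_le s.core_le)))
        (inf_le_right.trans (iSup₂_le fun o' ho' => ?_))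
      cases o' with
      | none => exact absurd rfl ho'
      | some E =>
        obtain ⟨B, hB, hE⟩ := hpt E
        show ⁅V, (E : Subgroup G)⁆ ≤ _
        rw [hE, ← module_eq_commutator s hB]
        exact commutator_mono le_rfl (le_normalizer_iff_commutator_le_left.mp (hB.le.trans s.core_norm))
    | some i =>
      obtain ⟨A, hA, hi⟩ := hpt i
      refine le_trans ?_ (le_bot_iff.mpr (factor s hA).disj)
      refine le_inf (inf_le_left.trans (by show ⁅V, (i : Subgroup G)⁆ ≤ _; rw [hi]; exact le_rfl))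
        (inf_le_right.trans (iSup₂_le fun o' ho' => ?_))
      cases o' with
      | none => exact hC A hA
      | some j =>
        obtain ⟨B, hB, hj⟩ := hpt j
        show ⁅V, (j : Subgroup G)⁆ ≤ _
        rw [hj]
        exact (separate s hB hA (hsep j i (fun h => ho' (by rw [h])) B A hB hA hj hi)).2
  · classical
    letI := Fintype.ofFinite {E : Subgroup G // ∃ A : Subgroup G, A ≤ H ∧ Cfsg.IsBestOffenderOn p V A ∧ ⁅V, A⁆ ≠ ⊥ ∧ (∀ B : Subgroup G, B ≤ A → Cfsg.IsBestOffenderOn p V B → ⁅V, B⁆ ≠ ⊥ → B = A) ∧ E = ⁅F, A⁆ ⊔ A}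
    have h := split_finset s (fun E : {E : Subgroup G // ∃ A : Subgroup G, A ≤ H ∧ Cfsg.IsBestOffenderOn p V A ∧ ⁅V, A⁆ ≠ ⊥ ∧ (∀ B : Subgroup G, B ≤ A → Cfsg.IsBestOffenderOn p V B → ⁅V, B⁆ ≠ ⊥ → B = A) ∧ E = ⁅F, A⁆ ⊔ A} => (E : Subgroup G))
      hpt Subtype.val_injective Finset.univ
    rw [Finset.sup_univ_eq_iSup, Finset.sup_univ_eq_iSup, hsup] at h
    rw [sup_comm]
    exact h

end Cfsg.Agent.S0617
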