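import Cfsg.Statements.S0618
import Cfsg.Agent.Lib.PLocal.Offender.Structure
import Cfsg.Agent.Lib.PLocal.Offender.Section
import Cfsg.Agent.S0608

set_option autoImplicit false
open Cfsg

namespace Cfsg.Agent.S0618

/-- A p-separable group with trivial p'-core in which the Thompson factorization fails has p = 2 or 3, and J(G) induces on the normal closure of Ω₁(Z(S)) a group containing a normal SL(2, p). -/
theorem result {G : Type*} [Group G] [Finite G] {p : ℕ} [Fact p.Prime] (hsep : Cfsg.IsPSolvable p G) (hO : Cfsg.pPrimeCore p G = ⊥) (hnf : ¬ Cfsg.IsThompsonFactorizable p G) : (p = 2 ∨ p = 3) ∧ ∃ E : Subgroup G, Subgroup.centralizer ((⨆ S : Sylow p G, Cfsg.omegaOne p ((S : Subgroup G) ⊓ Subgroup.centralizer ((S : Subgroup G) : Set G))) : Set G) ≤ E ∧ E ≤ Cfsg.thompsonSubgroup p G ⊔ Subgroup.centralizer ((⨆ S : Sylow p G, Cfsg.omegaOne p ((S : Subgroup G) ⊓ Subgroup.centralizer ((S : Subgroup G) : Set G))) : Set G) ∧ Cfsg.thompsonSubgroup p G ⊔ Subgroup.centralizer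 ((⨆ S : Sylow p G, Cfsg.omegaOne p ((S : Subgroup G) ⊓ Subgroup.centralizer ((S : Subgroup G) : Set G))) : Set G) ≤ Subgroup.normalizer (E : Set G) ∧ ∃ hn : ((Subgroup.centralizer ((⨆ S : Sylow p G, Cfsg.omegaOne p ((S : Subgroup G) ⊓ Subgroup.centralizer ((S : Subgroup G) : Set G))) : Set G)).subgroupOf E).Normal, Nonempty ((↥E ⧸ (Subgroup.centralizer ((⨆ S : Sylow p G, Cfsg.omegaOne p ((S : Subgroup G) ⊓ Subgroup.centralizer ((S : Subgroup G) : Set G))) : Set G)).subgroupOf E) ≃* Matrix.SpecialLinearGroup (Fin 2) (ZMod p)) := by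
  open Cfsg.Agent.PLocal Cfsg.Agent.PLocal.Offender Subgroup in
  have hV : Cfsg.IsElementaryAbelian p (zetaJoin p G) := zetaJoin_elem hsep hO
  set Z := zetaJoin p G with hZ
  set f := Sec.img Z with hf
  set H := (Cfsg.thompsonSubgroup p G).map f with hH
  have s := Sec.setup (p := p) Z hV (J := Cfsg.thompsonSubgroup p G) hsep pCore_quotient_zetaJoin
  have hgen := map_thompson_gen (p := p) Z hV
  have hex : ∃ A, Point p (Sec.base Z) H A := by
    by_contra h
    refine hnf ((Cfsg.Agent.S0608.result hO).mpr ?_)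
    have hb : H ≤ ⊥ := le_of_points s hgen fun B hB => absurd ⟨B, hB⟩ h
    refine le_trans ?_ (Sec.ker_img Z).le
    exact (map_eq_bot_iff (Cfsg.thompsonSubgroup p G)).mp (le_bot_iff.mp hb)
  obtain ⟨A, hA⟩ := hex
  have d := factor s hA
  obtain ⟨hn, -⟩ := direct_factor s hgen hA
  set E' := factorGroup ((Cfsg.pPrimeCore p ↥H).map H.subtype) A with hE'
  have hE'H : E' ≤ H := factorGroup_le s hA
  set E := E'.comap f with hE
  have hC : centralizer (Z : Set G) = f.ker := (Sec.ker_img Z).symm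
  have hCE : centralizer (Z : Set G) ≤ E := hC.le.trans (MonoidHom.ker_le_comap f E')
  have hEJ : E ≤ Cfsg.thompsonSubgroup p G ⊔ centralizer (Z : Set G) := by
    rw [hC, ← comap_map_eq]
    exact comap_mono hE'H
  have hJn : Cfsg.thompsonSubgroup p G ⊔ centralizer (Z : Set G) ≤ normalizer (E : Set G) := by
    intro g hg
    have hgH : f g ∈ H := by
      rw [hC, ← comap_map_eq] at hg
      exact hg
    refine mem_normalizer_iff.mpr fun x => ?_
    show f x ∈ E' ↔ f (g * x * g⁻¹) ∈ E'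
    rw [map_mul, map_mul, map_inv]
    exact mem_normalizer_iff.mp (hn hgH) (f x)
  let ψ : E →* E' := (f.comp E.subtype).codRestrict E' fun x => x.2
  have hψ : Function.Surjective ψ := by
    rintro ⟨y, hy⟩
    obtain ⟨x, -, rfl⟩ := hE'H hy
    exact ⟨⟨x, hy⟩, rfl⟩
  have hker : ψ.ker = (centralizer (Z : Set G)).subgroupOf E := by
    ext x
    rw [MonoidHom.mem_ker, mem_subgroupOf, hC, MonoidHom.mem_ker]
    exact Subtype.ext_iff
  obtain ⟨e⟩ := d.iso
  have heq : centralizer (⨆ S : Sylow p G, ((Cfsg.omegaOne p ((S : Subgroup G) ⊓ centralizer ((S : Subgroup G) : Set G)) : Subgroup G) : Set G)) = centralizer (Z : Set G) := by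
    refine le_antisymm ?_ (centralizer_le (iSup_le fun S => le_iSup (fun T : Sylow p G => Cfsg.omegaOne p ((T : Subgroup G) ⊓ centralizer ((T : Subgroup G) : Set G))) S))
    rw [hZ, zetaJoin, le_centralizer_iff]
    exact iSup_le fun S => fun v hv c hc => (hc v (Set.mem_iUnion.mpr ⟨S, hv⟩)).symm
  rw [heq]
  refine ⟨d.small, E, hCE, hEJ, hJn, hker ▸ inferInstance, ?_⟩
  exact ⟨((QuotientGroup.quotientMulEquivOfEq hker.symm).trans
    (QuotientGroup.quotientKerEquivOfSurjective ψ hψ)).trans e⟩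

end Cfsg.Agent.S0618
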