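import Cfsg.Statements.S0619
import Cfsg.Agent.Lib.PLocal.Offender.Section

set_option autoImplicit false
open Cfsg

namespace Cfsg.Agent.S0619

/-- For a p-separable group and a normal elementary abelian p-subgroup V with no nontrivial normal p-subgroup modulo its centralizer C, the Thompson subgroup J(G) moves Ω₁(Z(J(C))) only inside V. -/
theorem result {G : Type*} [Group G] [Finite G] {p : ℕ} [Fact p.Prime] (hsep : Cfsg.IsPSolvable p G) (V : Subgroup G) [V.Normal] (hV : Cfsg.IsElementaryAbelian p V) (hO : Cfsg.pCore p (G ⧸ Subgroup.centralizer (V : Set G)) = ⊥) : ⁅Cfsg.omegaOne p (Cfsg.centerThompsonOf p (Subgroup.centralizer (V : Set G))), Cfsg.thompsonSubgroup p G⁆ ≤ V := by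
  open Cfsg.Agent.PLocal Cfsg.Agent.PLocal.Offender Subgroup in
  set C := centralizer (V : Set G) with hC
  set W := Cfsg.omegaOne p (Cfsg.centerThompsonOf p C) with hW
  set f := Sec.img V with hf
  have s := Sec.setup (p := p) V hV (J := Cfsg.thompsonSubgroup p G) hsep hO
  have hVc := (ThompsonSubgroup.isElementaryAbelian_iff.mp hV).1
  suffices h : Cfsg.thompsonSubgroup p G ≤
      (centralizer ((W.map (QuotientGroup.mk' V) : Subgroup (G ⧸ V)) : Set (G ⧸ V))).comap (QuotientGroup.mk' V) by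
    rw [← QuotientGroup.ker_mk' V, ← Subgroup.map_eq_bot_iff, map_commutator]
    exact Offender.le_centralizer_iff_commutator.mp (map_le_iff_le_comap.mpr h)
  refine sSup_le fun A hA => ?_
  set X := (A ⊓ C) ⊔ V with hX
  have hAV : V ⊓ centralizer (A : Set G) = A ⊓ V := by
    refine le_antisymm (fun x hx => ⟨ThompsonSubgroup.mem_of_centralizes hA hx.2 (hV.2 x hx.1), hx.1⟩) ?_
    exact fun x hx => ⟨hx.2, fun a ha =>
      (ThompsonSubgroup.isElementaryAbelian_iff.mp hA.1).1 a ha x hx.1⟩
  have hXE : Cfsg.IsElementaryAbelian p X :=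
    ThompsonSubgroup.IsElementaryAbelian.sup (ThompsonSubgroup.IsElementaryAbelian.mono hA.1 inf_le_left)
      hV inf_le_right
  have hfull := ((isBestOffender_iff s (map_mono (ThompsonSubgroup.le_thompsonSubgroup hA))).mp
    (Sec.offender V (Cfsg.Agent.S0606.result V hV A hA))).2
  have hfull' : Nat.card ↥(A.map f) * Nat.card ↥(A ⊓ V) = Nat.card V := by
    rw [← hAV, ← Sec.card_fixed V A, ← Sec.card_base V]; exact hfull
  have hXmax : X ∈ Cfsg.maxElementaryAbelianSubgroups p G := by
    refine ⟨hXE, fun B hB => (hA.2 B hB).trans (le_of_eq ?_)⟩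
    have h1 := GlaubermanReplacement.card_sup_mul_card_inf
      ((le_normalizer_of_normal (K := A ⊓ C)) : A ⊓ C ≤ normalizer (V : Set G))
    have h2 : Nat.card A = Nat.card ↥(A ⊓ C) * Nat.card ↥(A.map f) := by
      rw [Cores.card_eq_card_inf_ker_mul_card_map A f, hf, Sec.ker_img]
    have h3 : (A ⊓ C) ⊓ V = A ⊓ V := by
      refine le_antisymm (le_inf (inf_le_left.trans inf_le_left) inf_le_right) ?_
      exact le_inf (le_inf inf_le_left fun x hx v hv => hVc v hv x hx.2) inf_le_right
    rw [h3] at h1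
    refine Nat.eq_of_mul_eq_mul_right (Nat.card_pos (α := ↥(A ⊓ V))) ?_
    rw [hX, h1, h2, mul_assoc, hfull', mul_comm]
  have hXC : X ≤ C := sup_le inf_le_right fun x hx v hv => hVc v hv x hx
  have hWX : W ≤ X := by
    refine (closure_le _).mpr ?_
    rintro w ⟨⟨-, hwc⟩, hwp⟩
    exact ThompsonSubgroup.mem_of_centralizes hXmax
      (centralizer_le (ThompsonSubgroup.le_thompsonSubgroupOf hXmax hXC) hwc) hwp
  intro a ha
  rintro _ ⟨w, hw, rfl⟩
  obtain ⟨b, hb, v, hv, rfl⟩ := mem_sup_of_normal_right.mp (hWX hw)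
  have hv1 : QuotientGroup.mk' V v = 1 := (QuotientGroup.eq_one_iff v).mpr hv
  show QuotientGroup.mk' V (b * v) * QuotientGroup.mk' V a = QuotientGroup.mk' V a * QuotientGroup.mk' V (b * v)
  rw [map_mul, hv1, mul_one, ← map_mul, ← map_mul,
    (ThompsonSubgroup.isElementaryAbelian_iff.mp hA.1).1 b hb.1 a ha]

end Cfsg.Agent.S0619
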