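import Cfsg.Statements.S0620
import Cfsg.Agent.Lib.PLocal.Offender.OperatorSection
import Cfsg.Agent.Lib.Transfer.Fusion

set_option autoImplicit false
open Cfsg

namespace Cfsg.Agent.S0620

/-- Under coprime action of an elementary abelian q-group X on a p-separable group K with trivial p'-core, K is generated by the normalizer of J(S), the centralizer of Ω₁(Z(S)) and the fixed points of X. -/
theorem result {G : Type*} [Group G] [Finite G] {p : ℕ} [Fact p.Prime] {q : ℕ} [Fact q.Prime] (K X : Subgroup G) (hXK : X ≤ Subgroup.normalizer (K : Set G)) (hX : Cfsg.IsElementaryAbelian q X) (hq : ¬ q ∣ Nat.card K) (hsep : Cfsg.IsPSolvable p ↥K) (hO : Cfsg.pPrimeCore p ↥K = ⊥) (S : Sylow p ↥K) : (Subgroup.normalizer (Cfsg.thompsonSubgroupOf p (S : Subgroup ↥K) : Set ↥K) ⊔ Subgroup.centralizer (Cfsg.omegaOne p ((S : Subgroup ↥K) ⊓ Subgroup.centralizer ((S : Subgroup ↥K) : Set ↥K)) : Set ↥K) ⊔ (Subgroup.centralizer (X : Set G)).subgroupOf K) = ⊤ := by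
  open Cfsg.Agent.PLocal Cfsg.Agent.PLocal.Offender Subgroup in
  set Z := zetaJoin p K with hZdef
  set f := Sec.img Z with hf
  set J := Cfsg.thompsonSubgroup p K with hJ
  set N1 := normalizer (Cfsg.thompsonSubgroupOf p (S : Subgroup K) : Set K)
  set L := N1 ⊔ centralizer (Cfsg.omegaOne p ((S : Subgroup K) ⊓ centralizer ((S : Subgroup K) : Set K)) : Set K)
    ⊔ (centralizer (X : Set G)).subgroupOf K with hL
  have hCL : f.ker ≤ L := by
    rw [Sec.ker_img]
    exact (centralizer_le (le_iSup (fun T : Sylow p K =>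
      Cfsg.omegaOne p ((T : Subgroup K) ⊓ centralizer ((T : Subgroup K) : Set K))) S)).trans
        (le_sup_right.trans le_sup_left)
  have hN1L : N1 ≤ L := le_sup_left.trans le_sup_left
  have hSN : (S : Subgroup K) ≤ N1 :=
    le_normalizer.trans (ThompsonSubgroup.normalizer_le_normalizer_thompsonSubgroupOf _)
  have hJL : J ≤ L := by
    have hle : imgJ p K ≤ L.map f := le_of_points (img_setup hsep hO) (img_gen hsep hO) fun B hB => by
      have s := img_setup hsep hO
      set E := factorGroup (imgF p K) B with hE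
      have hEH : E ≤ imgJ p K := factorGroup_le s hB
      obtain ⟨hn, -⟩ := direct_factor s (img_gen hsep hO) hB
      set P := ((S : Subgroup K) ⊓ J).map f with hP
      have hPp : IsPGroup p P := (S.2.to_le inf_le_left).map f
      have hPH : P ≤ imgJ p K := map_mono inf_le_right
      have hidx : ¬ p ∣ (P.subgroupOf (imgJ p K)).index := fun h =>
        Omega.not_dvd_relIndex_inf S J (h.trans (PSolvable.relIndex_map_dvd f inf_le_right))
      let PS : Sylow p (imgJ p K) := hPp.comap_subtype.toSylow hidx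
      haveI : (E.subgroupOf (imgJ p K)).Normal := normal_subgroupOf_of_le_normalizer hn
      have hUidx : ¬ p ∣ ((P ⊓ E).subgroupOf E).index := by
        have := Omega.not_dvd_relIndex_inf PS (E.subgroupOf (imgJ p K))
        rw [show (PS : Subgroup (imgJ p K)) = P.subgroupOf (imgJ p K) from rfl,
          show P.subgroupOf (imgJ p K) ⊓ E.subgroupOf (imgJ p K) = (P ⊓ E).subgroupOf (imgJ p K) from (comap_inf P E _).symm,
          relIndex_subgroupOf hEH] at this
        exact this
      let U : Sylow p E := (hPp.to_le inf_le_left).comap_subtype.toSylow hUidx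
      have hBE : B ≤ E := le_sup_right
      obtain ⟨Q, hQ⟩ := ((ThompsonSubgroup.IsElementaryAbelian.isPGroup hB.elem).comap_subtype :
        IsPGroup p (B.subgroupOf E)).exists_le_sylow
      obtain ⟨g, hg⟩ := MulAction.exists_smul_eq E Q U
      intro b hb
      have hgb : (g : Sec.Amb Z) * b * (g : Sec.Amb Z)⁻¹ ∈ P := by
        have h1 : g * ⟨b, hBE hb⟩ * g⁻¹ ∈ (U : Subgroup E) := by
          rw [← hg, Cfsg.Agent.Transfer.Fusion.coe_smul_eq_map]
          exact ⟨⟨b, hBE hb⟩, hQ hb, rfl⟩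
        exact (mem_inf.mp h1).1
      obtain ⟨c, hcX, -, hgc⟩ := exists_fixed_element hXK hsep hO hX hq hB g.2
      have hnb : f c * b * (f c)⁻¹ = (g : Sec.Amb Z) * b * (g : Sec.Amb Z)⁻¹ := by
        have h2 : b * ((g : Sec.Amb Z)⁻¹ * f c) = (g : Sec.Amb Z)⁻¹ * f c * b := hgc.1 b (hBE hb)
        calc f c * b * (f c)⁻¹ = (g : Sec.Amb Z) * (((g : Sec.Amb Z)⁻¹ * f c) * b) * (f c)⁻¹ := by group
          _ = (g : Sec.Amb Z) * (b * ((g : Sec.Amb Z)⁻¹ * f c)) * (f c)⁻¹ := by rw [h2]
          _ = _ := by group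
      have hc : f c ∈ L.map f := ⟨c, mem_sup_right hcX, rfl⟩
      have hP' : P ≤ L.map f := map_mono (inf_le_left.trans (hSN.trans hN1L))
      have hfin : f c * b * (f c)⁻¹ ∈ L.map f := hnb.symm ▸ hP' hgb
      have := mul_mem (mul_mem (inv_mem hc) hfin) hc
      rwa [show (f c)⁻¹ * (f c * b * (f c)⁻¹) * f c = b by group] at this
    intro x hx
    have hxL : x ∈ (L.map f).comap f := hle ⟨x, hx, rfl⟩
    rw [comap_map_eq] at hxL
    exact sup_le le_rfl hCL hxL
  haveI : f.ker.Normal := inferInstance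
  set M := J ⊔ f.ker with hM
  haveI : M.Normal := inferInstance
  have hJS : Cfsg.thompsonSubgroupOf p (S : Subgroup K) ≤ (S : Subgroup K) ⊓ M := by
    refine le_inf (ThompsonSubgroup.thompsonSubgroupOf_le _) (le_trans ?_ le_sup_left)
    rw [hJ, ThompsonSubgroup.thompsonSubgroup_eq_iSup_sylow]
    exact le_iSup (fun T : Sylow p K => Cfsg.thompsonSubgroupOf p (T : Subgroup K)) S
  let PM : Sylow p M := ((S.2.to_le (inf_le_left : (S : Subgroup K) ⊓ M ≤ S)).comap_subtype).toSylow
    (Omega.not_dvd_relIndex_inf S M)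
  have hF := Sylow.normalizer_sup_eq_top PM
  rw [show (PM : Subgroup M) = ((S : Subgroup K) ⊓ M).subgroupOf M from rfl,
    map_subgroupOf_eq_of_le inf_le_right] at hF
  rw [eq_top_iff, ← hF]
  refine sup_le (le_trans ?_ hN1L) (sup_le hJL hCL)
  refine (ThompsonSubgroup.normalizer_le_normalizer_thompsonSubgroupOf (p := p) _).trans ?_
  rw [ThompsonSubgroup.thompsonSubgroupOf_eq_of_le_of_le hJS inf_le_left]

end Cfsg.Agent.S0620
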