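import Cfsg.Statements.S0621
import Cfsg.Agent.Lib.PLocal.Offender.OperatorSection
import Cfsg.Agent.S0608

set_option autoImplicit false
open Cfsg

namespace Cfsg.Agent.S0621

/-- Let K be p-separable with O_p'(K) = 1, normalized by an elementary abelian q-group X for a prime q not dividing the order of K. If the Thompson factorization fails in K, then p is 2 or 3 and the fixed points of X contain a plane W of order p² and a subgroup inducing SL(2, p) on it. -/
theorem result {G : Type*} [Group G] [Finite G] {p : ℕ} [Fact p.Prime] {q : ℕ} [Fact q.Prime] (K X : Subgroup G) (hXK : X ≤ Subgroup.normalizer (K : Set G)) (hX : Cfsg.IsElementaryAbelian q X) (hq : ¬ q ∣ Nat.card K) (hsep : Cfsg.IsPSolvable p ↥K) (hO : Cfsg.pPrimeCore p ↥K = ⊥) (hnf : ¬ Cfsg.IsThompsonFactorizable p ↥K) : (p = 2 ∨ p = 3) ∧ ∃ W D : Subgroup G, W ≤ K ⊓ Subgroup.centralizer (X : Set G) ∧ D ≤ K ⊓ Subgroup.centralizer (X : Set G) ∧ Cfsg.IsElementaryAbelian p W ∧ Nat.card W = p ^ 2 ∧ D ≤ Subgroup.normalizer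 (W : Set G) ∧ ∃ hn : ((Subgroup.centralizer (W : Set G)).subgroupOf D).Normal, Nonempty ((↥D ⧸ (Subgroup.centralizer (W : Set G)).subgroupOf D) ≃* Matrix.SpecialLinearGroup (Fin 2) (ZMod p)) := by
  open Cfsg.Agent.PLocal Cfsg.Agent.PLocal.Offender Subgroup IsMulCommutative in
  classical
  set Z := zetaJoin p K with hZdef
  set f := Sec.img Z with hf
  have s := img_setup hsep hO
  have hgen := img_gen hsep hO
  have hex : ∃ A, Point p (imgV p K) (imgJ p K) A := by
    by_contra h
    refine hnf ((Cfsg.Agent.S0608.result hO).mpr ?_)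
    have hb : imgJ p K ≤ ⊥ := le_of_points s hgen fun B hB => absurd ⟨B, hB⟩ h
    refine le_trans ?_ (Sec.ker_img Z).le
    exact (map_eq_bot_iff (Cfsg.thompsonSubgroup p K)).mp (le_bot_iff.mp hb)
  obtain ⟨A, hA⟩ := hex
  have d := factor s hA
  have o := operators hXK hsep hO hX hq hA
  obtain ⟨hn, -⟩ := direct_factor s hgen hA
  set E := factorGroup (imgF p K) A with hE
  set WE := ⁅imgV p K, E⁆ with hWE
  have hEH : E ≤ imgJ p K := factorGroup_le s hA
  have hWEV : WE ≤ imgV p K := le_normalizer_iff_commutator_le_left.mp (hEH.trans s.norm)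
  have hHW : imgJ p K ≤ normalizer (WE : Set (Sec.Amb Z)) := fun h hh =>
    conj_mem_commutator (s.norm hh) (hn hh)
  have hpK : p ∣ Nat.card K := (hA.card ▸ card_dvd_of_le hA.le).trans card_imgJ_dvd
  have hpq : q ≠ p := fun h => hq (h ▸ hpK)
  have hZe := zetaJoin_elem hsep hO
  haveI : IsMulCommutative Z := hZe.1
  haveI := Fintype.ofFinite X
  let ρ := zetaAut (p := p) hXK
  let inl : Z →* Sec.Amb Z := SemidirectProduct.inl
  have hinl : Function.Injective inl := SemidirectProduct.inl_injective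
  have hρ : ∀ x z, inl (ρ x z) = tau hXK x * inl z * (tau hXK x)⁻¹ := by
    intro x z
    rw [tau, MonoidHom.comp_apply, ← map_inv (SemidirectProduct.inr : MulAut Z →* Sec.Amb Z)]
    exact SemidirectProduct.inl_aut (φ := MonoidHom.id _) (ρ x) z
  set W0 := WE.comap inl with hW0
  have hW0map : W0.map inl = WE := by
    rw [hW0, map_comap_eq, inf_eq_right]
    exact hWEV
  have hW0card : Nat.card W0 = p ^ 2 := by
    rw [← card_map_of_injective (K := W0) hinl, hW0map]; exact d.card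
  set D1 := (imgV p K ⊓ centralizer (E : Set (Sec.Amb Z))).comap inl with hD1
  let ν : Z →* Z := MonoidHom.mk' (fun z => ∏ x, ρ x z) fun a b => by
    simp only [map_mul]; exact Finset.prod_mul_distrib
  have hνfix : ∀ y z, ρ y (ν z) = ν z := by
    intro y z
    show ρ y (∏ x, ρ x z) = ∏ x, ρ x z
    rw [map_prod]
    exact Fintype.prod_equiv (Equiv.mulLeft y) _ _ fun x => by
      rw [Equiv.coe_mulLeft, map_mul]; rfl
  let P : Subgroup X :=
    { carrier := {x | ∀ z ∈ W0, ρ x z = z}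
      one_mem' := fun z _ => by rw [map_one]; rfl
      mul_mem' := fun {x y} hx hy z hz => by
        rw [map_mul, MulAut.mul_apply, hy z hz, hx z hz]
      inv_mem' := fun {x} hx z hz => by
        rw [map_inv]; exact (MulEquiv.symm_apply_eq (ρ x)).mpr (hx z hz).symm }
  have hinj : ∀ z ∈ W0, ν z = 1 → z = 1 := by
    intro z hz h1
    have hout : ∀ x ∈ Finset.univ.filter (¬ · ∈ P), ρ x z ∈ D1 := by
      intro x hx
      rcases conj_cases s o hA x with h | h
      · refine absurd (fun w hw => hinl ?_) (Finset.mem_filter.mp hx).2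
        rw [hρ, h.1 _ hw, mul_inv_cancel_right]
      · rw [hD1, mem_comap, hρ]
        exact h.2 ⟨inl z, hz, rfl⟩
    have hin : ∏ x ∈ Finset.univ.filter (· ∈ P), ρ x z = z ^ Nat.card P := by
      have hc : ∀ x ∈ Finset.univ.filter (· ∈ P), ρ x z = z := fun x hx => (Finset.mem_filter.mp hx).2 z hz
      rw [Finset.prod_congr rfl hc, Finset.prod_const]
      congr 1
      rw [Nat.card_eq_fintype_card, Fintype.card_subtype]
    have h2 : ∏ x ∈ Finset.univ.filter (¬ · ∈ P), ρ x z ∈ D1 := prod_mem hout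
    have h3 : z ^ Nat.card P ∈ W0 ⊓ D1 := by
      refine mem_inf.mpr ⟨pow_mem hz _, ?_⟩
      have : z ^ Nat.card P * ∏ x ∈ Finset.univ.filter (¬ · ∈ P), ρ x z = 1 := by
        rw [← hin, Finset.prod_filter_mul_prod_filter_not]; exact h1
      rw [eq_inv_of_mul_eq_one_left this]
      exact inv_mem h2
    have h4 : z ^ Nat.card P = 1 := by
      refine hinl ?_
      rw [map_one]
      have hm : inl (z ^ Nat.card P) ∈ WE ⊓ (imgV p K ⊓ centralizer (E : Set (Sec.Amb Z))) := h3
      have hd : WE ⊓ (imgV p K ⊓ centralizer (E : Set (Sec.Amb Z))) = ⊥ := d.disj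
      rw [hd, mem_bot] at hm
      exact hm
    obtain ⟨k, hk⟩ := ((ThompsonSubgroup.IsElementaryAbelian.isPGroup hX).to_subgroup P).exists_card_eq
    have hzp : z ^ p = 1 := Subtype.ext (hZe.2 z z.2)
    refine orderOf_eq_one_iff.mp (Nat.eq_one_of_dvd_coprimes (a := q ^ k) (b := p) ?_
      (hk ▸ orderOf_dvd_of_pow_eq_one h4) (orderOf_dvd_of_pow_eq_one hzp))
    exact ((Nat.coprime_primes (Fact.out : q.Prime) (Fact.out : p.Prime)).mpr hpq).pow_left k
  let ι : Z →* G := K.subtype.comp (Subgroup.subtype Z)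
  set W := W0.map (ι.comp ν) with hW
  set D0 := (centralizer (X : Set G)).subgroupOf K ⊓ (imgJ p K).comap f with hD0
  set D := D0.map K.subtype with hD
  have hequi : ∀ k ∈ D0, ∀ z, MulAut.conjNormal k (ν z) = ν (MulAut.conjNormal k z) := by
    intro k hk z
    show MulAut.conjNormal k (∏ x, ρ x z) = ∏ x, ρ x (MulAut.conjNormal k z)
    rw [map_prod]
    refine Finset.prod_congr rfl fun x _ => Subtype.ext (Subtype.ext ?_)
    have hxk : (x : G) * (k : G) = (k : G) * (x : G) := hk.1 _ x.2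
    show (k : G) * ((x : G) * ((z : K) : G) * (x : G)⁻¹) * (k : G)⁻¹ =
      (x : G) * ((k : G) * ((z : K) : G) * (k : G)⁻¹) * (x : G)⁻¹
    calc (k : G) * ((x : G) * ((z : K) : G) * (x : G)⁻¹) * (k : G)⁻¹
        = ((k : G) * (x : G)) * ((z : K) : G) * ((k : G) * (x : G))⁻¹ := by group
      _ = ((x : G) * (k : G)) * ((z : K) : G) * ((x : G) * (k : G))⁻¹ := by rw [hxk]
      _ = _ := by group
  have hk0 : ∀ k ∈ D0, ∀ z ∈ W0, MulAut.conjNormal k z ∈ W0 := by
    intro k hk z hz
    show inl (MulAut.conjNormal k z) ∈ WE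
    rw [show inl (MulAut.conjNormal k z) = f k * inl z * (f k)⁻¹ from (Sec.conj_inl Z k z).symm]
    exact (mem_normalizer_iff.mp (hHW hk.2) _).mp hz
  have hch : ∀ k ∈ D0, ((k : G) ∈ centralizer (W : Set G) ↔ f k ∈ centralizer (WE : Set (Sec.Amb Z))) := by
    intro k hk
    constructor
    · intro h w hw
      obtain ⟨z, hz, rfl⟩ : ∃ z ∈ W0, inl z = w := hW0map.ge hw
      have h1 : MulAut.conjNormal k (ν z) = ν z := Subtype.ext (Subtype.ext (by
        show (k : G) * ((ν z : K) : G) * (k : G)⁻¹ = _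
        exact mul_inv_eq_iff_eq_mul.mpr (h _ ⟨z, hz, rfl⟩).symm))
      have h2 : (MulAut.conjNormal k z) * z⁻¹ = 1 := hinj _ (mul_mem (hk0 k hk z hz) (inv_mem hz)) (by
        rw [map_mul, map_inv, ← hequi k hk, h1, mul_inv_cancel])
      have h3 := Sec.conj_inl Z k z
      rw [mul_inv_eq_one.mp h2] at h3
      exact (mul_inv_eq_iff_eq_mul.mp h3).symm
    · rintro h _ ⟨z, hz, rfl⟩
      have h3 := Sec.conj_inl Z k z
      rw [← h (inl z) hz, mul_inv_cancel_right] at h3
      have h4 := hequi k hk z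
      rw [← SemidirectProduct.inl_injective h3] at h4
      have h5 := congrArg (fun y : Z => ((y : K) : G)) h4
      exact (mul_inv_eq_iff_eq_mul.mp h5).symm
  have hdec : ∀ k : D0, ∃ e : E, (e : Sec.Amb Z)⁻¹ * f k ∈ centralizer (WE : Set (Sec.Amb Z)) := by
    intro k
    obtain ⟨-, -, -, hsup, -⟩ := direct_factor s hgen hA
    have hk' : f (k : K) ∈ E ⊔ (imgJ p K ⊓ centralizer (WE : Set (Sec.Amb Z))) := hsup.ge k.2.2
    obtain ⟨e, he, c, hc, hec⟩ := (Cfsg.Agent.Coprime.mem_sup_of_le_normalizer (inf_le_left.trans hn)).mp hk'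
    exact ⟨⟨e, he⟩, by rw [← hec, inv_mul_cancel_left]; exact hc.2⟩
  choose π hπ using hdec
  have huniq : ∀ (k : D0) (e : E), (e : Sec.Amb Z)⁻¹ * f k ∈ centralizer (WE : Set (Sec.Amb Z)) → π k = e := by
    intro k e he
    have h1 : (e : Sec.Amb Z)⁻¹ * (π k : Sec.Amb Z) ∈ E ⊓ centralizer (WE : Set (Sec.Amb Z)) := by
      refine mem_inf.mpr ⟨mul_mem (inv_mem e.2) (π k).2, ?_⟩
      have := mul_mem he (inv_mem (hπ k))
      rwa [mul_inv_rev, inv_inv, mul_assoc, mul_inv_cancel_left] at this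
    have hb : E ⊓ centralizer (WE : Set (Sec.Amb Z)) = ⊥ := d.faithful
    rw [hb, mem_bot, inv_mul_eq_one] at h1
    exact Subtype.ext h1.symm
  let ψ : D0 →* E := MonoidHom.mk' π fun a b => huniq _ _ (by
    have hn' : ((π b : E) : Sec.Amb Z)⁻¹ ∈ normalizer (centralizer (WE : Set (Sec.Amb Z)) : Set (Sec.Amb Z)) :=
      le_normalizer_centralizer (hEH.trans hHW) (inv_mem (π b).2)
    have := mul_mem ((mem_normalizer_iff.mp hn' _).mp (hπ a)) (hπ b)
    rw [inv_inv] at this
    convert this using 1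
    push_cast
    rw [map_mul]
    group)
  let e0 : D ≃* D0 := (equivMapOfInjective D0 K.subtype K.subtype_injective).symm
  let φ : D →* E := ψ.comp e0.toMonoidHom
  have hφs : Function.Surjective φ := by
    intro e
    obtain ⟨c, hcX, hcH, hce⟩ := exists_fixed_element hXK hsep hO hX hq hA e.2
    refine ⟨e0.symm ⟨c, hcX, hcH⟩, ?_⟩
    show ψ (e0 (e0.symm _)) = e
    rw [MulEquiv.apply_symm_apply]
    exact huniq _ _ hce.2
  have he0 : ∀ x : D, ((e0 x : K) : G) = x := fun x => by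
    have := congrArg Subtype.val ((equivMapOfInjective D0 K.subtype K.subtype_injective).apply_symm_apply x)
    exact this
  have hker : φ.ker = (centralizer (W : Set G)).subgroupOf D := by
    ext x
    rw [MonoidHom.mem_ker, mem_subgroupOf, ← he0 x, hch _ (e0 x).2]
    constructor
    · intro h
      have h' := hπ (e0 x)
      rw [show π (e0 x) = 1 from h] at h'
      simpa using h'
    · intro h
      exact huniq _ _ (by simpa using h)
  obtain ⟨iso⟩ := d.iso
  haveI hnormal : ((centralizer (W : Set G)).subgroupOf D).Normal := hker ▸ (inferInstance : φ.ker.Normal)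
  refine ⟨d.small, W, D, le_inf ?_ ?_, le_inf (map_subtype_le _) ?_, ?_, ?_, ?_, hnormal,
    ⟨((QuotientGroup.quotientMulEquivOfEq hker.symm).trans
      (QuotientGroup.quotientKerEquivOfSurjective φ hφs)).trans iso⟩⟩
  · rintro _ ⟨z, -, rfl⟩; exact (ν z : K).2
  · rintro _ ⟨z, -, rfl⟩ x hx
    have h1 := congrArg (fun y : Z => ((y : K) : G)) (hνfix ⟨x, hx⟩ z)
    exact mul_inv_eq_iff_eq_mul.mp h1
  · rintro _ ⟨k, hk, rfl⟩; exact hk.1
  · exact ThompsonSubgroup.IsElementaryAbelian.map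
      (ThompsonSubgroup.IsElementaryAbelian.mono
        (ThompsonSubgroup.IsElementaryAbelian.comap hZe (Subgroup.subtype_injective Z))
        (fun z _ => (z : Z).2)) _
  · rw [← hW0card, hW]
    refine (Nat.card_congr (Equiv.ofBijective (fun z : W0 => (⟨ι (ν z), ⟨z, z.2, rfl⟩⟩ : W0.map (ι.comp ν)))
      ⟨fun a b h => Subtype.ext ?_, ?_⟩)).symm
    · have h0 : (((ν (a : Z) : Z) : K) : G) = (((ν (b : Z) : Z) : K) : G) :=
        congrArg (fun y : W0.map (ι.comp ν) => (y : G)) h
      have h1 : ν (a : Z) = ν (b : Z) := Subtype.ext (Subtype.ext h0)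
      have h2 := hinj _ (mul_mem a.2 (inv_mem b.2)) (by rw [map_mul, map_inv, h1, mul_inv_cancel])
      exact mul_inv_eq_one.mp h2
    · rintro ⟨_, z, hz, rfl⟩; exact ⟨⟨z, hz⟩, rfl⟩
  · rintro _ ⟨k, hk, rfl⟩
    refine GlaubermanReplacement.mem_normalizer_of_conj_mem ?_
    rintro _ ⟨z, hz, rfl⟩
    exact ⟨MulAut.conjNormal k z, hk0 k hk z hz, congrArg (fun y : Z => ((y : K) : G)) (hequi k hk z).symm⟩

end Cfsg.Agent.S0621
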