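import Cfsg.Statements.S0624
import Cfsg.Agent.Lib.PLocal.StableClosure
import Cfsg.Agent.Lib.PLocal.ThompsonSubgroup
import Cfsg.Agent.S0607
import Cfsg.Agent.Lib.Components.Local
import Cfsg.Agent.Lib.Coprime.Commutator
import Cfsg.Agent.Lib.Transfer.NormalPComplement

set_option autoImplicit false
open Cfsg
open scoped commutatorElement

namespace Cfsg.Agent.S0624

open Cfsg.Agent.PLocal Cfsg.Agent.PLocal.Cores

theorem frattini_sylow {G : Type*} [Group G] [Finite G] {p : ℕ} [Fact p.Prime] (S : Sylow p G)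
    (D : Subgroup G) [D.Normal] : Subgroup.normalizer (((S : Subgroup G) ⊓ D : Subgroup G) : Set G) ⊔ D = ⊤ := by
  let QD : Sylow p D := ((S.2.to_le inf_le_left).comap_subtype (K := D) :
    IsPGroup p (((S : Subgroup G) ⊓ D).subgroupOf D)).toSylow (Omega.not_dvd_relIndex_inf S D)
  have hQm : (QD : Subgroup D).map D.subtype = (S : Subgroup G) ⊓ D :=
    Subgroup.map_subgroupOf_eq_of_le inf_le_right
  have := Sylow.normalizer_sup_eq_top QD
  rwa [hQm] at this

theorem frattini_core {G : Type*} [Group G] [Finite G] {p : ℕ} [Fact p.Prime] (S : Sylow p G)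
    (C : Subgroup G) [C.Normal] :
    Subgroup.normalizer (((S : Subgroup G) ⊓ (Cfsg.pCore p (G ⧸ C)).comap (QuotientGroup.mk' C) :
      Subgroup G) : Set G) ⊔ C = ⊤ := by
  open Subgroup in
  set D := (Cfsg.pCore p (G ⧸ C)).comap (QuotientGroup.mk' C) with hD
  have hCD : C ≤ D := (QuotientGroup.ker_mk' C).ge.trans (MonoidHom.ker_le_comap _ _)
  obtain ⟨k, hk⟩ : ∃ k, C.relIndex D = p ^ k := by
    obtain ⟨k, hk⟩ := (isPGroup_pCore (p := p) (G := G ⧸ C)).exists_card_eq
    refine ⟨k, ?_⟩
    rw [← hk, ← map_comap_eq_self_of_surjective (QuotientGroup.mk'_surjective C) (Cfsg.pCore p (G ⧸ C)),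
      ← relIndex_ker, QuotientGroup.ker_mk']
  have h1 : ((S : Subgroup G) ⊓ D ⊔ C).relIndex D ∣ p ^ k := hk ▸ relIndex_dvd_of_le_left _ le_sup_right
  have h2 : ((S : Subgroup G) ⊓ D ⊔ C).relIndex D ∣ ((S : Subgroup G) ⊓ D).relIndex D :=
    relIndex_dvd_of_le_left _ le_sup_left
  obtain ⟨j, -, hj⟩ := (Nat.dvd_prime_pow (Fact.out : p.Prime)).mp h1
  rcases j with _ | j
  · rw [pow_zero, relIndex_eq_one] at hj
    rw [eq_top_iff, ← frattini_sylow S D]
    exact sup_le le_sup_left (hj.trans (sup_le_sup_right le_normalizer _))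
  · exact absurd ((hj ▸ dvd_pow_self p (Nat.succ_ne_zero j)).trans h2) (Omega.not_dvd_relIndex_inf S D)

theorem quad_mono {G : Type*} [Group G] {W U : Subgroup G} (h : W ≤ U) {x : G}
    (hx : StableClosure.Quad U x) : StableClosure.Quad W x :=
  le_bot_iff.mp ((Subgroup.commutator_mono (Subgroup.commutator_mono h le_rfl) le_rfl).trans hx.le)

theorem oct_elementary {S : Type*} [Group S] {p : ℕ} :
    (∀ a ∈ Cfsg.omegaCenterThompson p S, ∀ b ∈ Cfsg.omegaCenterThompson p S, a * b = b * a) ∧
      ∀ a ∈ Cfsg.omegaCenterThompson p S, a ^ p = 1 := by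
  have hle : Cfsg.omegaCenterThompson p S ≤
      Cfsg.thompsonSubgroup p S ⊓ Subgroup.centralizer (Cfsg.thompsonSubgroup p S : Set S) :=
    Omega.omegaOne_le _
  have hc : ∀ a ∈ Cfsg.omegaCenterThompson p S, ∀ b ∈ Cfsg.omegaCenterThompson p S, a * b = b * a :=
    fun a ha b hb => (hle hb).2 a (hle ha).1
  refine ⟨hc, fun a ha => ?_⟩
  induction ha using Subgroup.closure_induction with
  | mem x hx => exact hx.2
  | one => exact one_pow p
  | mul x y hx' hy' hx hy =>
    have hcomm : Commute x y := hc x hx' y hy'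
    rw [hcomm.mul_pow, hx, hy, one_mul]
  | inv x _ hx => rw [inv_pow, hx, inv_one]


/-- The analogue of the ZJ-Theorem: in an action-p-stable group whose largest normal p-subgroup contains its centralizer, the characteristic subgroup W(S) of a Sylow p-subgroup S is normal. -/
theorem result {G : Type*} [Group G] [Finite G] {p : ℕ} [Fact p.Prime] (hst : Cfsg.IsActionPStable p G) (hc : Subgroup.centralizer (Cfsg.pCore p G : Set G) ≤ Cfsg.pCore p G) (S : Sylow p G) : (((Cfsg.stableNormalClosure p ↥(S : Subgroup G)).map (S : Subgroup G).subtype)).Normal := by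
  open Subgroup in
  set Q := Cfsg.pCore p G with hQ
  have hQS : Q ≤ (S : Subgroup G) := pCore_le_sylow S
  obtain ⟨hst1, hst2, hst3⟩ := hst
  set P := (S : Subgroup G) with hP
  set W0 := Cfsg.stableNormalClosure p ↥P with hW0
  set W := W0.map P.subtype with hW
  set J := Cfsg.thompsonSubgroupOf p P with hJ
  have hWP : W ≤ P := map_subtype_le _
  have hoct := oct_elementary (S := ↥P) (p := p)
  have hWab : ∀ a ∈ W, ∀ b ∈ W, a * b = b * a := by
    rintro _ ⟨a, ha, rfl⟩ _ ⟨b, hb, rfl⟩
    exact congrArg Subtype.val (hoct.1 a (StableClosure.snc_le_omega ha) b (StableClosure.snc_le_omega hb))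
  have hWpow : ∀ a ∈ W, a ^ p = 1 := by
    rintro _ ⟨a, ha, rfl⟩
    rw [← map_pow, hoct.2 a (StableClosure.snc_le_omega ha), map_one]
  -- `N(J)` normalizes `W`
  set N := normalizer (J : Set G) with hN
  have hPN : P ≤ N :=
    (le_normalizer).trans (ThompsonSubgroup.normalizer_le_normalizer_thompsonSubgroupOf P)
  let τ : ↥P →* ↥N := Subgroup.inclusion hPN
  have hτsub : N.subtype.comp τ = P.subtype := MonoidHom.ext fun _ => rfl
  have hJp : IsPGroup p J := S.2.to_le (ThompsonSubgroup.thompsonSubgroupOf_le P)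
  obtain ⟨hO, hl⟩ := Components.Local.normalizer_of_characteristic hc hJp
  have hτ : Cfsg.IsStableEmbedding p τ := by
    refine ⟨Subgroup.inclusion_injective hPN, inferInstance, ⟨S.subtype hPN, ?_⟩, ?_, ?_, ?_⟩
    · rw [Sylow.coe_subtype]
      ext x
      exact ⟨fun hx => ⟨⟨x, hx⟩, rfl⟩, fun ⟨y, hy⟩ => hy ▸ y.2⟩
    · have := Components.Fitting.centralizer_genFitting_le (G := ↥N)
      rwa [Cfsg.generalizedFittingSubgroup, hl, bot_sup_eq,
        Components.PComponents.fitting_eq_pCore hO] at this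
    · have : (Cfsg.thompsonSubgroup p ↥P).map τ = J.subgroupOf N := by
        rw [hJ, Cfsg.thompsonSubgroupOf, ← hτsub, ← map_map, subgroupOf,
          comap_map_eq_self_of_injective N.subtype_injective]
      rw [this]
      exact normal_subgroupOf_of_le_normalizer le_rfl
    · intro V _ hV
      refine hst3 S V ?_
      refine (Subgroup.map_mono hV).trans ?_
      rw [map_map, hτsub]
  have hNW : N ≤ normalizer (W : Set G) := by
    have h := StableClosure.map_normal hτ
    have e : W = (W0.map τ).map N.subtype := by rw [map_map, hτsub]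
    intro g hg
    rw [mem_normalizer_iff]
    intro x
    constructor
    · intro hx
      rw [e] at hx ⊢
      obtain ⟨y, hy, rfl⟩ := hx
      exact ⟨⟨g, hg⟩ * y * ⟨g, hg⟩⁻¹, h.conj_mem y hy _, rfl⟩
    · intro hx
      rw [e] at hx ⊢
      obtain ⟨y, hy, hyx⟩ := hx
      refine ⟨⟨g, hg⟩⁻¹ * y * ⟨g, hg⟩⁻¹⁻¹, h.conj_mem y hy _, ?_⟩
      show g⁻¹ * (y : G) * g⁻¹⁻¹ = x
      rw [show (y : G) = g * x * g⁻¹ from hyx]
      group
  have hPW : P ≤ normalizer (W : Set G) := hPN.trans hNW
  have hcommW : ∀ X : Subgroup G, X ≤ normalizer (W : Set G) → ⁅X, W⁆ ≤ W := by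
    intro X hX
    rw [commutator_le]
    intro x hx w hw
    rw [commutatorElement_def]
    exact W.mul_mem ((mem_normalizer_iff.mp (hX hx) w).mp hw) (W.inv_mem hw)
  -- `W ≤ O_p(G)`
  have hWQ : W ≤ Q := by
    intro a ha
    obtain ⟨D, hDn, hKD, ⟨k, hk⟩, haD⟩ := hst2 a (by
      refine le_trans (le_of_eq ?_) bot_le
      rw [← le_bot_iff]
      refine (commutator_mono ((commutator_mono le_rfl (zpowers_le.mpr ha)).trans
        (hcommW Q (hQS.trans hPW))) (zpowers_le.mpr ha)).trans ?_
      rw [le_bot_iff, commutator_eq_bot_iff_le_centralizer]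
      exact fun x hx y hy => hWab y hy x hx)
    set Φ := (frattini ↥Q).map Q.subtype with hΦ
    have : IsPGroup p (Cfsg.sectionKernel Q Φ) := by
      intro g
      obtain ⟨m, hcop⟩ := Transfer.NormalPComplement.exists_pow_coprime (p := p) (g := (g : G))
        (orderOf_pos _).ne'
      refine ⟨m, Subtype.ext ?_⟩
      show ((g : G)) ^ p ^ m = 1
      have hmem : (g : G) ^ p ^ m ∈ Cfsg.sectionKernel Q Φ := pow_mem g.2 _
      have hcent : zpowers ((g : G) ^ p ^ m) ≤ centralizer (Q : Set G) := by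
        obtain ⟨e, he⟩ := (isPGroup_pCore (p := p) (G := G)).exists_card_eq
        refine Coprime.le_centralizer_of_frattini le_normalizer_of_normal ?_ ?_
        · rw [Nat.card_zpowers]
          exact Nat.Coprime.coprime_dvd_right (card_subgroup_dvd_card _) (he ▸ hcop.pow_right e)
        · intro x hx y hy
          have hxK : x ∈ Cfsg.sectionKernel Q Φ := zpowers_le.mpr hmem hx
          rw [← QuotientGroup.eq_one_iff]
          show QuotientGroup.mk' Φ (x * y * x⁻¹ * y⁻¹) = 1
          rw [map_mul, map_mul, map_mul, map_inv, map_inv, ← hxK _ ⟨y, hy, rfl⟩]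
          group
      have hQm := hc (hcent (mem_zpowers _))
      have h1 : zpowers ((g : G) ^ p ^ m) = ⊥ :=
        not_isPGroup_coprime (isPGroup_pCore.to_le (zpowers_le.mpr hQm)) (by rwa [Nat.card_zpowers])
      exact zpowers_eq_bot.mp h1
    have hDp : IsPGroup p D := by
      obtain ⟨e, he⟩ := this.exists_card_eq
      refine IsPGroup.of_card (n := e + k) ?_
      rw [← relIndex_bot_left, ← relIndex_mul_relIndex _ _ _ bot_le hKD, relIndex_bot_left, he, hk,
        pow_add]
    exact le_pCore hDp haD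
  -- the normal closure of `W` is elementary abelian
  set U := normalClosure (W : Set G) with hU
  have hconjmem : ∀ y ∈ Group.conjugatesOfSet (W : Set G), ∃ g, ∃ w ∈ W, g * w * g⁻¹ = y := by
    intro y hy
    obtain ⟨w, hw, hwy⟩ := Group.mem_conjugatesOfSet_iff.mp hy
    obtain ⟨g, hg⟩ := isConj_iff.mp hwy
    exact ⟨g, w, hw, hg⟩
  have hcomm : ∀ g : G, ∀ w ∈ W, ∀ w' ∈ W, (g * w * g⁻¹) * w' = w' * (g * w * g⁻¹) := by
    intro g w hw w' hw'
    set a := g * w * g⁻¹ with ha
    have hQn : Q.Normal := inferInstance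
    have haQ : a ∈ Q := hQn.conj_mem w (hWQ hw) g
    set Wg := W.map (MulAut.conj g).toMonoidHom with hWg
    have hmem : a ∈ Wg := ⟨w, hw, rfl⟩
    have hq : StableClosure.Quad W a := by
      have h1 : ⁅W, zpowers a⁆ ≤ Wg := by
        refine (commutator_mono hWQ (zpowers_le.mpr hmem)).trans ?_
        rw [commutator_le]
        rintro x hx _ ⟨v, hv, rfl⟩
        refine ⟨⁅g⁻¹ * x * g, v⁆, hcommW Q (hQS.trans hPW) (commutator_mem_commutator ?_ hv), ?_⟩
        · simpa using hQn.conj_mem x hx g⁻¹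
        · simp [commutatorElement_def, mul_assoc]
      refine le_bot_iff.mp ((commutator_mono h1 (zpowers_le.mpr hmem)).trans (le_bot_iff.mpr ?_))
      rw [commutator_eq_bot_iff_le_centralizer]
      rintro _ ⟨x, hx, rfl⟩ _ ⟨y, hy, rfl⟩
      rw [← map_mul, ← map_mul, hWab y hy x hx]
    have haP : a ∈ P := hQS haQ
    have hq0 : StableClosure.Quad W0 (⟨a, haP⟩ : P) :=
      (StableClosure.quad_map_iff P.subtype_injective).mp hq
    obtain ⟨v, hv, rfl⟩ := hw'
    exact (congrArg Subtype.val (StableClosure.quad_centralizes hq0 v hv)).symm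
  have hcomm' : ∀ x ∈ Group.conjugatesOfSet (W : Set G), ∀ y ∈ Group.conjugatesOfSet (W : Set G),
      x * y = y * x := by
    intro x hx y hy
    obtain ⟨g, w, hw, rfl⟩ := hconjmem x hx
    obtain ⟨g', w', hw', rfl⟩ := hconjmem y hy
    have h := hcomm (g'⁻¹ * g) w hw w' hw'
    calc g * w * g⁻¹ * (g' * w' * g'⁻¹) =
        g' * ((g'⁻¹ * g) * w * (g'⁻¹ * g)⁻¹ * w') * g'⁻¹ := by group
      _ = g' * (w' * ((g'⁻¹ * g) * w * (g'⁻¹ * g)⁻¹)) * g'⁻¹ := by rw [h]
      _ = _ := by group
  have hUc : U ≤ centralizer (U : Set G) := by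
    refine (closure_le _).mpr fun x hx => ?_
    have : U ≤ centralizer ({x} : Set G) := (closure_le _).mpr fun y hy =>
      mem_centralizer_singleton_iff.mpr (hcomm' y hy x hx)
    exact fun y hy => mem_centralizer_singleton_iff.mp (this hy)
  have hUE : Cfsg.IsElementaryAbelian p U := by
    refine ThompsonSubgroup.isElementaryAbelian_iff.mpr ⟨fun a ha b hb => hUc hb a ha, fun a ha => ?_⟩
    rw [hU, normalClosure] at ha
    induction ha using Subgroup.closure_induction with
    | mem x hx =>
      obtain ⟨g, w, hw, rfl⟩ := hconjmem x hx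
      rw [conj_pow, hWpow w hw, mul_one, mul_inv_cancel]
    | one => exact one_pow p
    | mul x y hx' hy' hx hy =>
      have hxy : Commute x y := hUc hy' x hx'
      rw [hxy.mul_pow, hx, hy, one_mul]
    | inv x _ hx => rw [inv_pow, hx, inv_one]
  have hWU : W ≤ U := subset_normalClosure
  have hUQ : U ≤ Q := normalClosure_le_normal hWQ
  set C := centralizer (U : Set G) with hC
  have hT := frattini_core S C
  set T := P ⊓ (Cfsg.pCore p (G ⧸ C)).comap (QuotientGroup.mk' C) with hTdef
  have key : ∀ a ∈ P, StableClosure.Quad U a → a ∈ C := by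
    intro a haP haq
    have haT : a ∈ T := ⟨haP, hst1 U hUE a haq⟩
    have hle : U ≤ centralizer ({a} : Set G) := by
      refine (closure_le _).mpr fun x hx => ?_
      obtain ⟨g, w, hw, rfl⟩ := hconjmem x hx
      obtain ⟨n, hn, c, hc', rfl⟩ := mem_sup_of_normal_right.mp (hT.ge (mem_top g))
      have hcw : c * w * c⁻¹ = w := by rw [← hc' w (hWU hw), mul_inv_cancel_right]
      have he : n * c * w * (n * c)⁻¹ = n * w * n⁻¹ := by
        calc n * c * w * (n * c)⁻¹ = n * (c * w * c⁻¹) * n⁻¹ := by group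
          _ = _ := by rw [hcw]
      rw [he, SetLike.mem_coe, mem_centralizer_singleton_iff]
      have hn' := (mem_normalizer_iff.mp (inv_mem hn) a).mp haT
      rw [inv_inv] at hn'
      have hq' := StableClosure.quad_conj (W := U) n⁻¹ haq
      rw [inv_inv] at hq'
      have hq0 : StableClosure.Quad W0 (⟨n⁻¹ * a * n, hn'.1⟩ : P) :=
        (StableClosure.quad_map_iff P.subtype_injective).mp (quad_mono hWU hq')
      obtain ⟨v, hv, rfl⟩ := hw
      have h := congrArg Subtype.val (StableClosure.quad_centralizes hq0 v hv)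
      simp only [Subgroup.coe_mul] at h
      calc n * (v : G) * n⁻¹ * a = n * ((v : G) * (n⁻¹ * a * n)) * n⁻¹ := by group
        _ = n * ((n⁻¹ * a * n) * (v : G)) * n⁻¹ := by rw [h]
        _ = a * (n * (v : G) * n⁻¹) := by group
    exact fun y hy => mem_centralizer_singleton_iff.mp (hle hy)
  have hJC : J ≤ C := by
    rw [hJ, Cfsg.thompsonSubgroupOf, map_le_iff_le_comap]
    refine sSup_le fun A hA => ?_
    have hUP : U ≤ P := hUQ.trans hQS
    set V := U.subgroupOf P with hV
    have hVmap : V.map P.subtype = U := map_subgroupOf_eq_of_le hUP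
    have hVE : Cfsg.IsElementaryAbelian p V := ThompsonSubgroup.IsElementaryAbelian.comap hUE P.subtype_injective
    obtain ⟨-, hquad, hne⟩ := S0607.result V hVE A hA
    set As := ⁅V, A⁆ ⊔ (A ⊓ centralizer ((⁅V, A⁆ : Subgroup P) : Set P))
    have hbot : ⁅V, As⁆ = ⊥ := by
      rw [commutator_comm, commutator_eq_bot_iff_le_centralizer]
      intro y hy v hv
      have hqy : StableClosure.Quad U (y : G) := by
        have : StableClosure.Quad V y := le_bot_iff.mp
          ((commutator_mono (commutator_mono le_rfl (zpowers_le.mpr hy)) (zpowers_le.mpr hy)).trans hquad.le)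
        have h2 := (StableClosure.quad_map_iff P.subtype_injective).mpr this
        rwa [hVmap] at h2
      exact Subtype.ext (key y y.2 hqy (v : G) hv)
    have hVA : ⁅V, A⁆ = ⊥ := by_contra fun h => hne h hbot
    rw [commutator_comm, commutator_eq_bot_iff_le_centralizer] at hVA
    exact fun y hy v hv => congrArg Subtype.val (hVA hy ⟨v, hUP hv⟩ hv)
  have hCtop : normalizer (J : Set G) ⊔ C = ⊤ := by
    rw [eq_top_iff, ← frattini_sylow S C]
    refine sup_le_sup_right ?_ _
    refine (ThompsonSubgroup.normalizer_le_normalizer_thompsonSubgroupOf (p := p) _).trans (le_of_eq ?_)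
    rw [ThompsonSubgroup.thompsonSubgroupOf_eq_of_le_of_le (le_inf (ThompsonSubgroup.thompsonSubgroupOf_le P) hJC) inf_le_left]
  rw [← normalizer_eq_top_iff, eq_top_iff, ← hCtop]
  exact sup_le hNW ((centralizer_le hWU).trans (centralizer_le_normalizer _))

end Cfsg.Agent.S0624
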