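import Cfsg.Statements.S0626
import Cfsg.Agent.Lib.PLocal.Quadratic

set_option autoImplicit false
open Cfsg

namespace Cfsg.Agent.S0626

/-- For odd p, groups whose Sylow 2-subgroups are abelian are p-stable in the action sense. -/
theorem result {G : Type*} [Group G] [Finite G] {p : ℕ} [Fact p.Prime] (hp : p ≠ 2) (hab : ∀ T : Sylow 2 G, IsMulCommutative T) : Cfsg.IsActionPStable p G := by
  open Cfsg.Agent.PLocal in
  exact Quadratic.isActionPStable_of (fun X _ => Quadratic.AbelianTwo X) hab
    (fun H => Quadratic.AbelianTwo.subgroup hab H)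
    (fun N _ => Quadratic.AbelianTwo.of_surjective hab (QuotientGroup.mk'_surjective N))
    (fun X _ _ h W _ hW => Quadratic.isPStableOn_of_abelianTwo hp h hW)

end Cfsg.Agent.S0626
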