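import Cfsg.Statements.S0627
import Cfsg.Agent.Lib.PLocal.PSolvable
import Cfsg.Agent.S0622
import Cfsg.Agent.S0624
import Cfsg.Agent.S0625
import Cfsg.Agent.Lib.Components.Local

set_option autoImplicit false
open Cfsg

namespace Cfsg.Agent.S0627

/-- In a p-separable group with p at least 5, the normalizer of W(S) supplements the largest normal subgroup of order prime to p. -/
theorem result {G : Type*} [Group G] [Finite G] {p : ℕ} [Fact p.Prime] (hp : 5 ≤ p) (hsep : Cfsg.IsPSolvable p G) (S : Sylow p G) : Cfsg.pPrimeCore p G ⊔ Subgroup.normalizer (((Cfsg.stableNormalClosure p ↥(S : Subgroup G)).map (S : Subgroup G).subtype) : Set G) = ⊤ := by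
  open Cfsg.Agent.PLocal in
  set R := Cfsg.pPrimeCore p G with hR
  set q := QuotientGroup.mk' R with hq
  have hqs := QuotientGroup.mk'_surjective R
  have hsol := PSolvable.quotient hsep R
  have hc := PSolvable.centralizer_pCore_le (G := G ⧸ R) Cores.pPrimeCore_quotient_pPrimeCore
    (PSolvable.subgroup hsol _)
  have hn := Cfsg.Agent.S0624.result (Cfsg.Agent.S0625.result hp hsol) hc (S.mapSurjective hqs)
  have hinj : ∀ x ∈ (S : Subgroup G), q x = 1 → x = 1 := by
    intro x hx h1
    have : x ∈ (S : Subgroup G) ⊓ R := ⟨hx, (QuotientGroup.eq_one_iff x).mp h1⟩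
    rw [Cores.inf_eq_bot_of_isPGroup_of_coprime S.2 Cores.coprime_card_pPrimeCore] at this
    exact Subgroup.mem_bot.mp this
  let e : (S : Subgroup G) ≃* (S : Subgroup G).map q :=
    MulEquiv.ofBijective (q.subgroupMap (S : Subgroup G)) ⟨by
      rw [injective_iff_map_eq_one]
      exact fun x hx => Subtype.ext (hinj x x.2 (congrArg Subtype.val hx)),
      q.subgroupMap_surjective _⟩
  set W := (Cfsg.stableNormalClosure p ↥(S : Subgroup G)).map (S : Subgroup G).subtype with hW
  have hWimg : W.map q = (Cfsg.stableNormalClosure p ↥((S : Subgroup G).map q)).map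
      ((S : Subgroup G).map q).subtype := by
    rw [← Cfsg.Agent.S0622.map_snc_eq e, hW, Subgroup.map_map, Subgroup.map_map]
    rfl
  have hWp : IsPGroup p W := S.2.to_le (Subgroup.map_subtype_le _)
  rw [eq_top_iff]
  intro g _
  have hmem : q g ∈ Subgroup.normalizer ((W.map q : Subgroup (G ⧸ R)) : Set (G ⧸ R)) := by
    have hn' : (W.map q).Normal := by rw [hWimg]; exact hn
    exact Subgroup.le_normalizer_of_normal (Subgroup.mem_top _)
  rw [← Components.Local.map_normalizer_eq hWp Cores.coprime_card_pPrimeCore] at hmem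
  obtain ⟨n, hn', he⟩ := hmem
  have : g = (g * n⁻¹) * n := by group
  rw [this]
  refine mul_mem (Subgroup.mem_sup_left ?_) (Subgroup.mem_sup_right hn')
  exact (QuotientGroup.eq_one_iff _).mp (by show q (g * n⁻¹) = 1; rw [map_mul, map_inv, he, mul_inv_cancel])

end Cfsg.Agent.S0627
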