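import Cfsg.Statements.S0628
import Cfsg.Agent.Lib.PLocal.CriticalCase
import Cfsg.Agent.S0622
import Cfsg.Agent.S0624
import Cfsg.Agent.S0626

set_option autoImplicit false
open Cfsg

namespace Cfsg.Agent.S0628

universe v

theorem snc_ne_bot {Q : Type v} [Group Q] [Finite Q] {p : ℕ} [Fact p.Prime] (hQ : IsPGroup p Q)
    (hnt : Nontrivial Q) : Cfsg.stableNormalClosure p Q ≠ ⊥ :=
  (Cfsg.Agent.S0622.result hQ).2.2.2.1 hnt


/-- The normal p-complement Theorem of Thompson in the form with W(S): for odd p, G has a normal p-complement as soon as the normalizer of the characteristic subgroup W(S) of a Sylow p-subgroup S has one. -/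
theorem result {G : Type*} [Group G] [Finite G] {p : ℕ} [Fact p.Prime] (hp : p ≠ 2) (S : Sylow p G) (hN : Cfsg.HasNormalPComplement p ↥(Subgroup.normalizer (((Cfsg.stableNormalClosure p ↥(S : Subgroup G)).map (S : Subgroup G).subtype) : Set G))) : Cfsg.HasNormalPComplement p G := by
  open Cfsg.Agent.PLocal in
  exact CriticalCase.criterion hp (W := fun Q _ => Cfsg.stableNormalClosure p Q)
    ⟨fun Q _ _ hQ hnt => snc_ne_bot hQ hnt, fun Q R _ _ _ _ φ => Cfsg.Agent.S0622.map_snc_eq φ⟩
    (fun X _ _ hab hc S' => Cfsg.Agent.S0624.result (Cfsg.Agent.S0626.result hp hab) hc S') S hN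

end Cfsg.Agent.S0628
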