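import Cfsg.Statements.S0632
import Cfsg.Agent.Lib.Components.Local
import Cfsg.Agent.Lib.PLocal.PSolvable

set_option autoImplicit false
open Cfsg

namespace Cfsg.Agent.S0632

theorem key {G : Type*} [Group G] [Finite G] {p : ℕ} [Fact p.Prime] {R : Subgroup G} [R.Normal]
    (hR : (Nat.card R).Coprime p) {A P : Subgroup G} (hP : IsPGroup p P)
    (hAP : A ≤ Subgroup.normalizer (P : Set G)) :
    (A.subgroupOf (Subgroup.normalizer (P : Set G))).map
          (QuotientGroup.mk' ((Subgroup.centralizer (P : Set G)).subgroupOf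
            (Subgroup.normalizer (P : Set G)))) ≤ Cfsg.pCore p _ ↔
    ((A.map (QuotientGroup.mk' R)).subgroupOf
        (Subgroup.normalizer (P.map (QuotientGroup.mk' R) : Set (G ⧸ R)))).map
          (QuotientGroup.mk' ((Subgroup.centralizer (P.map (QuotientGroup.mk' R) : Set (G ⧸ R))).subgroupOf
            (Subgroup.normalizer (P.map (QuotientGroup.mk' R) : Set (G ⧸ R))))) ≤ Cfsg.pCore p _ := by
  set q := QuotientGroup.mk' R with hq
  set N := Subgroup.normalizer (P : Set G) with hN
  set N' := Subgroup.normalizer (P.map q : Set (G ⧸ R)) with hN'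
  set C' := (Subgroup.centralizer (P.map q : Set (G ⧸ R))).subgroupOf N'
  set C := (Subgroup.centralizer (P : Set G)).subgroupOf N
  have hmn := Cfsg.Agent.Components.Local.map_normalizer_eq hP hR
  let g : N →* N' := (MulEquiv.subgroupCongr hmn).toMonoidHom.comp (q.subgroupMap N)
  have hg : Function.Surjective g :=
    (MulEquiv.subgroupCongr hmn).surjective.comp (q.subgroupMap_surjective N)
  have hgv : ∀ x : N, (g x : G ⧸ R) = q x := fun x => rfl
  let f : N →* N' ⧸ C' := (QuotientGroup.mk' C').comp g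
  have hf : Function.Surjective f := (QuotientGroup.mk'_surjective C').comp hg
  have hker : f.ker = C := by
    ext n
    refine Iff.trans (QuotientGroup.eq_one_iff (g n)) ?_
    rw [Subgroup.mem_subgroupOf, Subgroup.mem_subgroupOf, hgv,
      Subgroup.mem_centralizer_iff, Subgroup.mem_centralizer_iff]
    constructor
    · intro h a ha
      have h1 : (n : G) * a * (n : G)⁻¹ * a⁻¹ ∈ P :=
        P.mul_mem ((Subgroup.mem_normalizer_iff.mp n.2 a).mp ha) (P.inv_mem ha)
      have h2 : (n : G) * a * (n : G)⁻¹ * a⁻¹ ∈ R := by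
        rw [← QuotientGroup.eq_one_iff]
        show q ((n : G) * a * (n : G)⁻¹ * a⁻¹) = 1
        rw [map_mul, map_mul, map_mul, map_inv, map_inv, ← h (q a) ⟨a, ha, rfl⟩]
        group
      have h3 : (n : G) * a * (n : G)⁻¹ * a⁻¹ ∈ (⊥ : Subgroup G) := by
        rw [← Cfsg.Agent.PLocal.Cores.inf_eq_bot_of_isPGroup_of_coprime hP hR]; exact ⟨h1, h2⟩
      rw [Subgroup.mem_bot, mul_inv_eq_one, mul_inv_eq_iff_eq_mul] at h3
      exact h3.symm
    · rintro h _ ⟨a, ha, rfl⟩
      rw [← map_mul, ← map_mul, h a ha]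
  let e : N ⧸ C ≃* N' ⧸ C' := (QuotientGroup.quotientMulEquivOfEq hker.symm).trans
    (QuotientGroup.quotientKerEquivOfSurjective f hf)
  have hA : ((A.subgroupOf N).map (QuotientGroup.mk' C)).map e.toMonoidHom =
      ((A.map q).subgroupOf N').map (QuotientGroup.mk' C') := by
    ext y
    constructor
    · rintro ⟨_, ⟨n, hn, rfl⟩, rfl⟩
      exact ⟨g n, ⟨n, hn, (hgv n).symm⟩, rfl⟩
    · rintro ⟨m, ⟨a, ha, ham⟩, rfl⟩
      refine ⟨_, ⟨⟨a, hAP ha⟩, ha, rfl⟩, ?_⟩
      exact congrArg (QuotientGroup.mk' C') (Subtype.ext ((hgv ⟨a, hAP ha⟩).trans ham))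
  rw [← hA, ← Cfsg.Agent.PLocal.Cores.map_pCore_equiv (p := p) e,
    Subgroup.map_le_map_iff_of_injective e.injective]


/-- For a group with a nontrivial normal p-subgroup, p-stability passes to and from the quotient by the largest normal subgroup of order prime to p. -/
theorem result {G : Type*} [Group G] [Finite G] {p : ℕ} [Fact p.Prime] (hO : Cfsg.pCore p G ≠ ⊥) : Cfsg.IsPStable p G ↔ Cfsg.IsPStable p (G ⧸ Cfsg.pPrimeCore p G) := by
  open Cfsg.Agent.PLocal.Cores in
  set R := Cfsg.pPrimeCore p G with hRdef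
  set q := QuotientGroup.mk' R with hq
  have hqs := QuotientGroup.mk'_surjective R
  have hR : (Nat.card R).Coprime p := coprime_card_pPrimeCore
  have hO' : Cfsg.pCore p (G ⧸ R) ≠ ⊥ := by
    intro h
    apply hO
    have h1 := map_pCore_le (p := p) hqs
    rw [h, le_bot_iff, Subgroup.map_eq_bot_iff, QuotientGroup.ker_mk'] at h1
    rw [← le_bot_iff, ← pCore_inf_pPrimeCore (p := p) (G := G)]
    exact le_inf le_rfl h1
  constructor
  · rintro ⟨hodd, -, h⟩
    refine ⟨hodd, hO', fun A' P' hA' hP' hn' hP'le hnor hcomm => ?_⟩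
    rw [pPrimeCore_quotient_pPrimeCore, bot_sup_eq] at hnor
    set T := P'.comap q with hT
    set B := A'.comap q with hB
    set M := (A' ⊔ P').comap q with hM
    have hBM : B ≤ M := Subgroup.comap_mono le_sup_left
    have hTM : T ≤ M := Subgroup.comap_mono le_sup_right
    obtain ⟨S⟩ := (inferInstance : Nonempty (Sylow p M))
    set S' := (S : Subgroup M).map M.subtype with hS'
    have hS'p : IsPGroup p S' := S.2.map _
    have hS'M : S' ≤ M := Subgroup.map_subtype_le _
    have hMp : IsPGroup p ↥(A' ⊔ P') := hA'.to_sup_of_normal_right hP'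
    have hMmap : M.map q = A' ⊔ P' := Subgroup.map_comap_eq_self_of_surjective hqs _
    have hSmap : S'.map q = A' ⊔ P' := by
      refine le_antisymm ((Subgroup.map_mono hS'M).trans hMmap.le) ?_
      rw [← hMmap]
      refine Subgroup.relIndex_eq_one.mp ?_
      obtain ⟨k, hk⟩ := (hMmap.symm ▸ hMp : IsPGroup p (M.map q)).exists_card_eq
      have h1 : (S'.map q).relIndex (M.map q) ∣ p ^ k := hk ▸ Subgroup.relIndex_dvd_card _ _
      have h2 : (S'.map q).relIndex (M.map q) ∣ S'.relIndex M :=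
        Cfsg.Agent.PLocal.PSolvable.relIndex_map_dvd q hS'M
      have h3 : ¬ p ∣ S'.relIndex M := by
        rw [Subgroup.relIndex, hS', Subgroup.subgroupOf, Subgroup.comap_map_eq_self_of_injective M.subtype_injective]
        exact S.not_dvd_index
      obtain ⟨j, -, hj⟩ := (Nat.dvd_prime_pow (Fact.out : p.Prime)).mp h1
      rcases j with _ | j
      · simpa using hj
      · exact absurd ((hj ▸ dvd_pow_self p (Nat.succ_ne_zero j)).trans h2) h3
    set A := S' ⊓ B with hA
    set P := S' ⊓ T with hP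
    have hmapA : A.map q = A' := by
      refine le_antisymm ((Subgroup.map_mono inf_le_right).trans (Subgroup.map_comap_le _ _)) fun y hy => ?_
      obtain ⟨x, hx, rfl⟩ : y ∈ S'.map q := hSmap ▸ Subgroup.mem_sup_left hy
      exact ⟨x, ⟨hx, hy⟩, rfl⟩
    have hmapP : P.map q = P' := by
      refine le_antisymm ((Subgroup.map_mono inf_le_right).trans (Subgroup.map_comap_le _ _)) fun y hy => ?_
      obtain ⟨x, hx, rfl⟩ : y ∈ S'.map q := hSmap ▸ Subgroup.mem_sup_right hy
      exact ⟨x, ⟨hx, hy⟩, rfl⟩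
    have hTn : T.Normal := hnor.comap q
    have hAn : ∀ a ∈ A, ∀ x ∈ P, a * x * a⁻¹ ∈ P := fun a ha x hx =>
      ⟨S'.mul_mem (S'.mul_mem ha.1 hx.1) (S'.inv_mem ha.1), hTn.conj_mem x hx.2 a⟩
    have hAN : A ≤ Subgroup.normalizer (P : Set G) := by
      intro a ha
      rw [Subgroup.mem_normalizer_iff]
      refine fun x => ⟨fun hx => hAn a ha x hx, fun hx => ?_⟩
      simpa [mul_assoc] using hAn a⁻¹ (inv_mem ha) _ hx
    have hPp : IsPGroup p P := hS'p.to_le inf_le_left
    have key' := (key hR hPp hAN).mp (h A P (hS'p.to_le inf_le_left) hPp hAn ?_ ?_ ?_)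
    · rwa [hmapA, hmapP] at key'
    · intro x hx
      rw [mem_pPrimePCore_iff]
      exact le_pCore hP' (hmapP.le ⟨x, hx, rfl⟩)
    · have : R ⊔ P = T := by
        rw [sup_comm, hT, ← hmapP, Subgroup.comap_map_eq, QuotientGroup.ker_mk']
      rw [this]; exact hTn
    · rw [← le_bot_iff]
      have h1 : ⁅⁅P, A⁆, A⁆ ≤ R := by
        rw [← QuotientGroup.ker_mk' R, ← Subgroup.map_eq_bot_iff, Subgroup.map_commutator,
          Subgroup.map_commutator, hmapA, hmapP, hcomm]
      have hPA : P ≤ S' := inf_le_left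
      have hAS : A ≤ S' := inf_le_left
      have h2 : ⁅⁅P, A⁆, A⁆ ≤ S' := by
        have hle : ∀ {X Y : Subgroup G}, X ≤ S' → Y ≤ S' → ⁅X, Y⁆ ≤ S' := by
          intro X Y hX hY
          rw [Subgroup.commutator_le]
          intro x hx y hy
          exact S'.mul_mem (S'.mul_mem (S'.mul_mem (hX hx) (hY hy)) (S'.inv_mem (hX hx))) (S'.inv_mem (hY hy))
        exact hle (hle hPA hAS) hAS
      rw [← inf_eq_bot_of_isPGroup_of_coprime hS'p hR]
      exact le_inf h2 h1
  · rintro ⟨hodd, -, h⟩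
    refine ⟨hodd, hO, fun A P hA hP hn hPle hnor hcomm => ?_⟩
    have hAN : A ≤ Subgroup.normalizer (P : Set G) := by
      intro a ha
      rw [Subgroup.mem_normalizer_iff]
      refine fun x => ⟨fun hx => hn a ha x hx, fun hx => ?_⟩
      simpa [mul_assoc] using hn a⁻¹ (inv_mem ha) _ hx
    refine (key hR hP hAN).mpr (h _ _ (hA.map q) (hP.map q) ?_ ?_ ?_ ?_)
    · rintro _ ⟨a, ha, rfl⟩ _ ⟨x, hx, rfl⟩
      exact ⟨a * x * a⁻¹, hn a ha x hx, by simp⟩
    · rintro _ ⟨x, hx, rfl⟩
      exact pCore_le_pPrimePCore (mem_pPrimePCore_iff.mp (hPle hx))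
    · rw [pPrimeCore_quotient_pPrimeCore, bot_sup_eq]
      have : P.map q = (R ⊔ P).map q := by
        rw [Subgroup.map_sup, (Subgroup.map_eq_bot_iff R).mpr (QuotientGroup.ker_mk' R).ge, bot_sup_eq]
      rw [this]
      exact hnor.map q hqs
    · rw [← Subgroup.map_commutator, ← Subgroup.map_commutator, hcomm, Subgroup.map_bot]

end Cfsg.Agent.S0632
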