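import Cfsg.Statements.S0633
import Cfsg.Agent.Lib.PLocal.TheoremB.Reduction

set_option autoImplicit false
open Cfsg Cfsg.Agent.PLocal.TheoremB

namespace Cfsg.Agent.S0633

/-- Theorem B of Hall and Higman on the minimal polynomial of a p-element of order p^n in a p-solvable linear group on a nonzero vector space in characteristic p with no nontrivial normal p-subgroup: its degree is p^n, except when some p^n₀ - 1 (n₀ ≤ n) is a power of a prime q for which the Sylow q-subgroups are non-abelian, in which case the degree is at least p^(n-n₀)(p^n₀ - 1). -/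
theorem result {F : Type*} [Field F] {p : ℕ} [Fact p.Prime] [CharP F p] {V : Type*} [AddCommGroup V] [Module F V] [FiniteDimensional F V] [Nontrivial V] (H : Subgroup (V ≃ₗ[F] V)) [Finite H] (hsol : Cfsg.IsPSolvable p H) (hOp : Cfsg.pCore p H = ⊥) (x : V ≃ₗ[F] V) (hx : x ∈ H) (n : ℕ) (hn : orderOf x = p ^ n) (r : ℕ) (hr : minpoly F (x : Module.End F V) = (Polynomial.X - 1) ^ r) : r = p ^ n ∨ ∃ n₀ q m : ℕ, 1 ≤ n₀ ∧ n₀ ≤ n ∧ q.Prime ∧ 1 ≤ m ∧ p ^ n₀ - 1 = q ^ m ∧ (∀ Q : Sylow q H, ¬ IsMulCommutative Q) ∧ p ^ (n - n₀) * (p ^ n₀ - 1) ≤ r := by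

  obtain ⟨hroot, hpoly⟩ : (((x : Module.End F V)) - 1) ^ r = 0 ∧
      (((x : Module.End F V)) - 1) ^ p ^ n = 0 := by
    haveI : CharP (Module.End F V) p :=
      charP_of_injective_algebraMap (algebraMap F (Module.End F V)).injective p
    refine ⟨by simpa [hr] using minpoly.aeval F (x : Module.End F V), ?_⟩
    rw [sub_pow_char_pow_of_commute p n (Commute.one_right _), one_pow, sub_eq_zero]
    have := congrArg (fun e : V ≃ₗ[F] V => (e : Module.End F V)) (hn ▸ pow_orderOf_eq_one x)
    exact (map_pow (LinearEquiv.automorphismGroup.toLinearMapMonoidHom (R := F) (M := V)) x (p ^ n)).symm.trans this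
  have hdeg : (Polynomial.X - 1 : Polynomial F).natDegree = 1 := by
    simpa using Polynomial.natDegree_X_sub_C (1 : F)
  have hrle : r ≤ p ^ n := by
    have hd : minpoly F (x : Module.End F V) ∣ (Polynomial.X - 1) ^ p ^ n :=
      minpoly.dvd F _ (by simpa using hpoly)
    have h1 := Polynomial.natDegree_le_of_dvd hd (pow_ne_zero _ (Polynomial.X_sub_C_ne_zero (1 : F)))
    rw [hr] at h1
    simpa [Polynomial.natDegree_pow, hdeg] using h1
  rcases Nat.eq_zero_or_pos n with rfl | hn1
  · refine Or.inl ?_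
    rw [pow_zero] at hrle ⊢
    have h1 := minpoly.natDegree_pos (Algebra.IsIntegral.isIntegral (R := F) (x : Module.End F V))
    rw [hr] at h1
    have : 0 < r := by simpa [Polynomial.natDegree_pow, hdeg] using h1
    omega
  let ρ : H →* Module.End F V := (LinearEquiv.automorphismGroup.toLinearMapMonoidHom (R := F) (M := V)).comp H.subtype
  have hρ : Function.Injective ρ := fun a b h => Subtype.ext (LinearEquiv.toLinearMap_injective h)
  obtain ⟨q, hq, hb⟩ := bound_faithful ρ hρ hsol hOp hn1 (x := ⟨x, hx⟩) ((Subgroup.orderOf_mk x hx).trans hn) r hroot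
  rcases hb with h | ⟨n₀, m, h1, h2, h3, h4, h5, h6⟩
  · exact Or.inl (le_antisymm hrle h)
  · exact Or.inr ⟨n₀, q, m, h1, h2, hq, h3, h4, h5, h6⟩

end Cfsg.Agent.S0633
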