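import Cfsg.Agent.Base.RecEqns
import Cfsg.Statements.S0634
import Cfsg.Agent.Lib.PLocal.PSolvable

set_option autoImplicit false
open Cfsg

namespace Cfsg.Agent.S0634

/-- In a p-soluble group each p-factor of the upper p-series contains its own centralizer in the corresponding quotient. -/
theorem result {G : Type*} [Group G] [Finite G] {p : ℕ} [Fact p.Prime] (hsol : Cfsg.IsPSolvable p G) (k : ℕ) : Subgroup.centralizer ((((Cfsg.upperPSeries p G (2 * k + 2)).1.map (QuotientGroup.mk' (Cfsg.upperPSeries p G (2 * k + 1)).1)) : Subgroup (G ⧸ (Cfsg.upperPSeries p G (2 * k + 1)).1)) : Set (G ⧸ (Cfsg.upperPSeries p G (2 * k + 1)).1)) ≤ (Cfsg.upperPSeries p G (2 * k + 2)).1.map (QuotientGroup.mk' (Cfsg.upperPSeries p G (2 * k + 1)).1) := by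
  open Cfsg.Agent.PLocal in
  set M := (Cfsg.upperPSeries p G (2 * k + 1)).1 with hM
  have hP : (Cfsg.upperPSeries p G (2 * k + 2)).1.map (QuotientGroup.mk' M) = Cfsg.pCore p (G ⧸ M) := by
    have he : ¬ Even (2 * k + 1) := by simp [parity_simps]
    conv_lhs => rw [show 2 * k + 2 = (2 * k + 1) + 1 from rfl, Cfsg.upperPSeries, if_neg he]
    exact Subgroup.map_comap_eq_self_of_surjective (QuotientGroup.mk'_surjective _) _
  rw [hP]
  refine PSolvable.centralizer_pCore_le ?_
    (PSolvable.subgroup (PSolvable.quotient hsol M) _)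
  refine PSolvable.pPrimeCore_quotient_comap (Cfsg.upperPSeries p G (2 * k)).1 M ?_
  rw [hM, Cfsg.upperPSeries, if_pos (by simp)]

end Cfsg.Agent.S0634
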