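import Cfsg.Agent.Base.RecEqns
import Cfsg.Statements.S0635
import Cfsg.Agent.Lib.PLocal.PSolvable

set_option autoImplicit false
open Cfsg

namespace Cfsg.Agent.S0635

theorem quot_core {G : Type*} [Group G] [Finite G] {p : ℕ} (k : ℕ) :
    Cfsg.pPrimeCore p (G ⧸ (Cfsg.upperPSeries p G (2 * k + 1)).1) = ⊥ := by
  refine Cfsg.Agent.PLocal.PSolvable.pPrimeCore_quotient_comap (Cfsg.upperPSeries p G (2 * k)).1 _ ?_
  rw [Cfsg.upperPSeries, if_pos (by simp)]

theorem le_succ {G : Type*} [Group G] {p : ℕ} (n : ℕ) :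
    (Cfsg.upperPSeries p G n).1 ≤ (Cfsg.upperPSeries p G (n + 1)).1 := by
  conv_rhs => rw [Cfsg.upperPSeries]
  split <;> exact (QuotientGroup.ker_mk' _).ge.trans (MonoidHom.ker_le_comap _ _)

theorem step {G : Type*} [Group G] [Finite G] {p : ℕ} [Fact p.Prime] (hsol : Cfsg.IsPSolvable p G)
    (S : Sylow p G) (k : ℕ) (X : Subgroup G) (hX : ⁅X, (S : Subgroup G)⁆ ≤ (Cfsg.upperPSeries p G (2 * k + 1)).1) :
    X ≤ (Cfsg.upperPSeries p G (2 * k + 2)).1 := by
  open Cfsg.Agent.PLocal in
  set M := (Cfsg.upperPSeries p G (2 * k + 1)).1 with hM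
  set q := QuotientGroup.mk' M
  have hq := QuotientGroup.mk'_surjective M
  have he : ¬ Even (2 * k + 1) := by simp [parity_simps]
  rw [show 2 * k + 2 = (2 * k + 1) + 1 from rfl, Cfsg.upperPSeries, if_neg he]
  rw [← Subgroup.map_le_iff_le_comap]
  refine le_trans ?_ (PSolvable.centralizer_pCore_le (quot_core k)
    (PSolvable.subgroup (PSolvable.quotient hsol M) _))
  refine le_trans ?_ (Subgroup.centralizer_le (Cores.pCore_le_sylow (S.mapSurjective hq)))
  rw [← Subgroup.commutator_eq_bot_iff_le_centralizer, Sylow.coe_mapSurjective,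
    ← Subgroup.map_commutator, Subgroup.map_eq_bot_iff, QuotientGroup.ker_mk']
  exact hX


/-- The p-length of a p-soluble group is at most the nilpotency class of its Sylow p-subgroups. -/
theorem result {G : Type*} [Group G] [Finite G] {p : ℕ} [Fact p.Prime] (hsol : Cfsg.IsPSolvable p G) (S : Sylow p G) : Cfsg.PLengthLE p (Group.nilpotencyClass ↥(S : Subgroup G)) G := by
  open Cfsg.Agent.PLocal in
  set c := Group.nilpotencyClass ↥(S : Subgroup G) with hc
  have hnil : Group.IsNilpotent ↥(S : Subgroup G) := S.2.isNilpotent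
  have main : ∀ k ≤ c, ((⊤ : Subgroup ↥(S : Subgroup G)).lowerCentralSeries (c - k)).map (S : Subgroup G).subtype
      ≤ (Cfsg.upperPSeries p G (2 * k + 1)).1 := by
    intro k
    induction k with
    | zero =>
      intro _
      rw [Nat.sub_zero, hc, Subgroup.lowerCentralSeries_nilpotencyClass, Subgroup.map_bot]
      exact bot_le
    | succ k ih =>
      intro hk
      refine le_trans (step hsol S k _ ?_) (le_succ _)
      refine le_trans ?_ (ih (by omega))
      rw [show c - k = (c - (k + 1)) + 1 by omega, Subgroup.lowerCentralSeries_succ,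
        Subgroup.map_commutator, ← MonoidHom.range_eq_map, Subgroup.range_subtype]
  have hS : (S : Subgroup G) ≤ (Cfsg.upperPSeries p G (2 * c + 1)).1 := by
    have := main c le_rfl
    rwa [Nat.sub_self, Subgroup.lowerCentralSeries_zero, ← MonoidHom.range_eq_map,
      Subgroup.range_subtype] at this
  show (Cfsg.upperPSeries p G (2 * c + 1)).1 = ⊤
  set M := (Cfsg.upperPSeries p G (2 * c + 1)).1 with hM
  have htop : (⊤ : Subgroup (G ⧸ M)) = ⊥ := by
    rw [eq_bot_iff, ← quot_core (p := p) (G := G) c]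
    refine Cores.le_pPrimeCore ?_
    rw [Subgroup.card_top]
    refine ((Fact.out : p.Prime).coprime_iff_not_dvd.mpr ?_).symm
    intro hd
    exact S.not_dvd_index (hd.trans (Subgroup.index_dvd_of_le hS))
  rw [← Subgroup.index_eq_one, Subgroup.index, ← Subgroup.card_top, htop, Subgroup.card_bot]

end Cfsg.Agent.S0635
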