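import Cfsg.Statements.S0638
import Cfsg.Agent.Lib.PLocal.CyclicExtension

set_option autoImplicit false
open Cfsg

namespace Cfsg.Agent.S0638

/-- For odd p, in a non-cyclic metacyclic p-group the elements of order dividing p generate an elementary abelian subgroup of order p². -/
theorem result {R : Type*} [Group R] [Finite R] {p : ℕ} [Fact p.Prime] (hp : p ≠ 2) (hR : IsPGroup p R) (hm : Cfsg.IsMetacyclic R) (hnc : ¬ IsCyclic R) : Cfsg.IsElementaryAbelian p (Cfsg.omegaOne p (⊤ : Subgroup R)) ∧ Nat.card ↥(Cfsg.omegaOne p (⊤ : Subgroup R)) = p ^ 2 := by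
  open Subgroup in
  have hpp : p.Prime := Fact.out
  obtain ⟨N, hN, hNc, hQc⟩ := hm
  have hlt : N < ⊤ := by
    refine lt_top_iff_ne_top.mpr fun h => hnc ?_
    subst h
    exact isCyclic_of_surjective Subgroup.topEquiv.toMonoidHom Subgroup.topEquiv.surjective
  obtain ⟨T, hTn, hNT, -, hrel⟩ :=
    Cfsg.Agent.PLocal.CyclicExtension.exists_normal_relIndex_eq (p := p) hR hlt
  -- every element of order `p` lies in `T`
  have hall : ∀ z : R, z ^ p = 1 → z ∈ T := by
    intro z hz
    set π := QuotientGroup.mk' N
    have hTp : Nat.card ↥(T.map π) = p := by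
      rw [← relIndex_ker, QuotientGroup.ker_mk']; exact hrel
    by_cases h1 : π z = 1
    · exact hNT ((QuotientGroup.eq_one_iff z).mp h1)
    · have ho : Nat.card ↥(zpowers (π z)) = p := by
        rw [Nat.card_zpowers]
        exact orderOf_eq_prime (by rw [← map_pow, hz, map_one]) h1
      have hTle : T.map π ≤ zpowers (π z) ∧ zpowers (π z) ≤ T.map π := by
        classical
        have hfin : Fintype (R ⧸ N) := Fintype.ofFinite _
        have key := IsCyclic.card_pow_eq_one_le (α := R ⧸ N) hpp.pos
        have huniq : ∀ H K : Subgroup (R ⧸ N), Nat.card H = p → Nat.card K = p → H ≤ K := by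
          intro H K hH hK x hx
          by_contra hxK
          have hsub : insert x ((Finset.univ : Finset (R ⧸ N)).filter (· ∈ K)) ⊆
              (Finset.univ : Finset (R ⧸ N)).filter (fun a => a ^ p = 1) := by
            intro y hy
            rw [Finset.mem_filter]
            refine ⟨Finset.mem_univ _, ?_⟩
            rcases Finset.mem_insert.mp hy with rfl | hy
            · exact orderOf_dvd_iff_pow_eq_one.mp (hH ▸ H.orderOf_dvd_natCard hx)
            · exact orderOf_dvd_iff_pow_eq_one.mp
                (hK ▸ K.orderOf_dvd_natCard (Finset.mem_filter.mp hy).2)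
          have h2 := (Finset.card_le_card hsub).trans key
          rw [Finset.card_insert_of_notMem (by simp [hxK]),
            ← Fintype.card_subtype, ← Nat.card_eq_fintype_card] at h2
          have h3 : Nat.card {a // a ∈ K} = p := hK
          omega
        exact ⟨huniq _ _ hTp ho, huniq _ _ ho hTp⟩
      obtain ⟨t, ht, htz⟩ := hTle.2 (mem_zpowers (π z))
      have : t⁻¹ * z ∈ N := by
        rw [← QuotientGroup.eq_one_iff]
        change π (t⁻¹ * z) = 1
        rw [map_mul, map_inv, htz, inv_mul_cancel]
      have := mul_mem ht (hNT this)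
      rwa [mul_inv_cancel_left] at this
  have hTc : ¬ IsCyclic T := by
    intro hTc
    have huniq : ∀ H K : Subgroup R, Nat.card H = p → Nat.card K = p → H = K := by
      intro H K hH hK
      classical
      have hfin : Fintype T := Fintype.ofFinite _
      have key := IsCyclic.card_pow_eq_one_le (α := ↥T) hpp.pos
      have hmem : ∀ L : Subgroup R, Nat.card L = p → ∀ z ∈ L, z ^ p = 1 := fun L hL z hz =>
        orderOf_dvd_iff_pow_eq_one.mp (hL ▸ L.orderOf_dvd_natCard hz)
      refine eq_of_le_of_card_ge (fun x hx => ?_) (by rw [hH, hK])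
      by_contra hxK
      have hKT : K ≤ T := fun z hz => hall z (hmem K hK z hz)
      have hxT : x ∈ T := hall x (hmem H hH x hx)
      have hsub : insert (⟨x, hxT⟩ : T) ((Finset.univ : Finset T).filter (fun a : T => (a : R) ∈ K)) ⊆
          (Finset.univ : Finset T).filter (fun a => a ^ p = 1) := by
        intro y hy
        rw [Finset.mem_filter]
        refine ⟨Finset.mem_univ _, Subtype.ext ?_⟩
        rw [SubmonoidClass.coe_pow, OneMemClass.coe_one]
        rcases Finset.mem_insert.mp hy with rfl | hy
        · exact hmem H hH x hx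
        · exact hmem K hK _ (Finset.mem_filter.mp hy).2
      have h2 := (Finset.card_le_card hsub).trans key
      rw [Finset.card_insert_of_notMem (by simp [hxK]), ← Fintype.card_subtype,
        ← Nat.card_eq_fintype_card] at h2
      have h3 : Nat.card {a : T // (a : R) ∈ K} = p := by
        rw [← hK]
        exact Nat.card_congr (subgroupOfEquivOfLe hKT).toEquiv
      omega
    rcases Cfsg.Agent.PGroups.UniqueSubgroup.isCyclic_or_quaternion hR huniq with h | ⟨h, -⟩
    · exact hnc h
    · exact hp h
  obtain ⟨E, hEn, -, hEe, hEc, hiff⟩ :=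
    Cfsg.Agent.PLocal.CyclicExtension.exists_omega hp hR hNc hNT hrel hTc
  have heq : Cfsg.omegaOne p (⊤ : Subgroup R) = E :=
    le_antisymm ((closure_le _).mpr fun x hx => (hiff x).mpr ⟨hall x hx.2, hx.2⟩)
      fun x hx => subset_closure ⟨mem_top x, ((hiff x).mp hx).2⟩
  rw [heq]
  exact ⟨hEe, hEc⟩

end Cfsg.Agent.S0638
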