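import Cfsg.Statements.S0640
import Cfsg.Agent.OddLocal.AutRankTwo
-- import your own Cfsg.Agent.* helpers here

set_option autoImplicit false
open Cfsg

namespace Cfsg.Agent.S0640

/-- For odd p, a prime q ≠ p dividing the order of the automorphism group of a p-group of rank at most 2 divides p² - 1 and is less than p. -/
theorem result {R : Type*} [Group R] [Finite R] {p : ℕ} [Fact p.Prime] (hp : p ≠ 2) (hR : IsPGroup p R) (hrk : Cfsg.PRankLE p 2 R) (q : ℕ) (hq : q.Prime) (hqp : q ≠ p) (hdvd : q ∣ Nat.card (MulAut R)) : q ∣ p ^ 2 - 1 ∧ q < p := by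
  have hp3 : 3 ≤ p := by
    have := (Fact.out : p.Prime).two_le
    omega
  obtain ⟨k, hk⟩ := (Fact.out : p.Prime).odd_of_ne_two hp
  have e : p ^ 2 - 1 = (p + 1) * (p - 1) := by rw [← Nat.sq_sub_sq, one_pow]
  rcases eq_or_ne q 2 with rfl | hq2
  · refine ⟨?_, by omega⟩
    rw [e]
    exact dvd_mul_of_dvd_left ⟨k + 1, by omega⟩ _
  have := Fact.mk hq
  obtain ⟨a, ha⟩ := exists_prime_orderOf_dvd_card' q hdvd
  have hodd : Odd (Nat.card (Subgroup.zpowers a)) := by
    rw [Nat.card_zpowers, ha]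
    exact hq.odd_of_ne_two hq2
  obtain ⟨-, h⟩ := OddLocal.AutRankTwo.aut_rankTwo hp hR hrk hodd (Subgroup.zpowers a).subtype
  have hd : q ∣ Nat.card (Subgroup.zpowers a).subtype.range := by
    rw [Subgroup.range_subtype, Nat.card_zpowers, ha]
  obtain ⟨j, hj⟩ := hq.odd_of_ne_two hq2
  rcases h q hq hd hqp with h1 | h1
  · refine ⟨e ▸ dvd_mul_of_dvd_right h1 _, ?_⟩
    have := Nat.le_of_dvd (by omega) h1
    omega
  · refine ⟨e ▸ dvd_mul_of_dvd_left h1 _, ?_⟩
    obtain ⟨c, hc⟩ := h1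
    rcases c with _ | _ | c
    · omega
    · omega
    · have h4 : q * 2 ≤ p + 1 := hc ▸ Nat.mul_le_mul_left q (by omega)
      omega

end Cfsg.Agent.S0640
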