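import Cfsg.Statements.S0641

set_option autoImplicit false
open Cfsg

namespace Cfsg.Agent.S0641

/-- Regularity of a p-group passes to quotient groups. -/
theorem result {G : Type*} [Group G] {p : ℕ} [Fact p.Prime] (hG : Cfsg.IsRegularPGroup p G) (N : Subgroup G) [N.Normal] : Cfsg.IsRegularPGroup p (G ⧸ N) := by
  refine ⟨hG.1.to_quotient N, fun a b n => ?_⟩
  obtain ⟨a, rfl⟩ := QuotientGroup.mk'_surjective N a
  obtain ⟨b, rfl⟩ := QuotientGroup.mk'_surjective N b
  obtain ⟨c, hc, he⟩ := hG.2 a b n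
  set f := QuotientGroup.mk' N
  refine ⟨f c, ?_, by simp only [← map_mul, ← map_pow, he]⟩
  have hpair : Subgroup.closure ({f a, f b} : Set (G ⧸ N)) =
      (Subgroup.closure ({a, b} : Set G)).map f := by
    rw [MonoidHom.map_closure, Set.image_pair]
  rw [hpair, ← Subgroup.map_commutator]
  set D := ⁅Subgroup.closure ({a, b} : Set G), Subgroup.closure ({a, b} : Set G)⁆
  have hle : (Cfsg.powerClosure p n D).map f ≤ Cfsg.powerClosure p n (D.map f) := by
    rw [Cfsg.powerClosure, MonoidHom.map_closure, Subgroup.closure_le]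
    rintro _ ⟨_, ⟨x, hx, rfl⟩, rfl⟩
    exact Subgroup.subset_closure ⟨f x, ⟨x, hx, rfl⟩, map_pow f x _⟩
  exact hle ⟨c, hc, rfl⟩

end Cfsg.Agent.S0641
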