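import Cfsg.Statements.S0642
import Cfsg.Agent.Solvable.Basics

set_option autoImplicit false
open Cfsg
open scoped commutatorElement

namespace Cfsg.Agent.S0642

/-- Among finite 2-groups the regular ones are exactly the abelian ones. -/
theorem result {G : Type*} [Group G] [Finite G] (hG : IsPGroup 2 G) : Cfsg.IsRegularPGroup 2 G ↔ ∀ a b : G, a * b = b * a := by
  open Subgroup in
  constructor
  · intro h a b
    obtain ⟨c, hc, he⟩ := h.2 a b 1
    set H := closure ({a, b} : Set G) with hH
    set N₁ := Cfsg.powerClosure 2 1 ⁅H, H⁆ with hN₁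
    have haH : a ∈ H := subset_closure (Or.inl rfl)
    have hbH : b ∈ H := subset_closure (Or.inr rfl)
    have hDH : ⁅H, H⁆ ≤ H := (map_subtype_commutator H).symm.le.trans (map_subtype_le _)
    have hN₁D : N₁ ≤ ⁅H, H⁆ := by
      rw [hN₁, Cfsg.powerClosure, closure_le]
      rintro _ ⟨x, hx, rfl⟩
      exact pow_mem hx _
    have hn : H ≤ normalizer (N₁ : Set G) := by
      rw [hN₁, Cfsg.powerClosure, le_normalizer_closure_iff]
      rintro h hh _ ⟨x, hx, rfl⟩
      refine subset_closure ⟨h * x * h⁻¹, ?_, by rw [conj_pow]⟩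
      rw [← map_subtype_commutator] at hx ⊢
      obtain ⟨y, hy, rfl⟩ := hx
      exact ⟨⟨h, hh⟩ * y * ⟨h, hh⟩⁻¹,
        (inferInstance : (commutator ↥H).Normal).conj_mem y hy _, rfl⟩
    have : (N₁.subgroupOf H).Normal := normal_subgroupOf_of_le_normalizer hn
    set q := QuotientGroup.mk' (N₁.subgroupOf H)
    have hab : q ⟨a, haH⟩ * q ⟨b, hbH⟩ = q ⟨b, hbH⟩ * q ⟨a, haH⟩ := by
      have hc1 : c ∈ H := hDH (hN₁D hc)
      have h1 : q ⟨c, hc1⟩ = 1 := (QuotientGroup.eq_one_iff _).mpr hc
      simp only [pow_one] at he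
      have he' : ((⟨a, haH⟩ : H) * ⟨b, hbH⟩) ^ 2 =
          (⟨a, haH⟩ : H) ^ 2 * (⟨b, hbH⟩ : H) ^ 2 * ⟨c, hc1⟩ := Subtype.ext (by simpa using he)
      have h2 := congrArg q he'
      simp only [map_mul, map_pow, h1, mul_one, pow_two, ← mul_assoc] at h2
      have h3 := mul_right_cancel h2
      rw [mul_assoc, mul_assoc] at h3
      exact (mul_left_cancel h3).symm
    have hcomm : ∀ x y : ↥H, q x * q y = q y * q x := by
      have hgen : closure ({(⟨a, haH⟩ : H), ⟨b, hbH⟩} : Set H) = ⊤ := by
        apply map_injective H.subtype_injective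
        rw [MonoidHom.map_closure, ← MonoidHom.range_eq_map, range_subtype, Set.image_pair]
        rfl
      have key : ∀ z : ↥H, Commute z.1 z.1 → ∀ x : ↥H,
          Commute (q z) (q ⟨a, haH⟩) → Commute (q z) (q ⟨b, hbH⟩) → Commute (q x) (q z) := by
        intro z _ x h1 h2
        have : x ∈ (centralizer ({q z} : Set _)).comap q := by
          have hle : closure ({(⟨a, haH⟩ : H), ⟨b, hbH⟩} : Set H) ≤
              (centralizer ({q z} : Set _)).comap q := by
            rw [closure_le]
            rintro w (rfl | rfl) <;>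
              simp only [SetLike.mem_coe, mem_comap, mem_centralizer_iff, Set.mem_singleton_iff,
                forall_eq]
            · exact h1.eq
            · exact h2.eq
          exact hle (by rw [hgen]; exact mem_top x)
        exact (mem_centralizer_iff.mp this _ rfl).symm
      intro x y
      exact key y (Commute.refl _) x
        (key ⟨a, haH⟩ (Commute.refl _) y (Commute.refl _) hab)
        (key ⟨b, hbH⟩ (Commute.refl _) y hab.symm (Commute.refl _))
    have hD : commutator ↥H ≤ N₁.subgroupOf H := by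
      rw [commutator_def, commutator_le]
      intro x _ y _
      rw [← QuotientGroup.eq_one_iff]
      change q ⁅x, y⁆ = 1
      rw [map_commutatorElement, commutatorElement_eq_one_iff_commute]
      exact hcomm x y
    by_contra hne
    have hD' : ⁅H, H⁆ ≠ ⊥ := fun hbot => by
      have hmem := commutator_mem_commutator (H₁ := H) (H₂ := H) haH hbH
      rw [hbot, mem_bot, commutatorElement_eq_one_iff_commute] at hmem
      exact hne hmem.eq
    have hle : ⁅H, H⁆ ≤ N₁ := by
      intro x hx
      rw [← map_subtype_commutator] at hx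
      obtain ⟨y, hy, rfl⟩ := hx
      exact hD hy
    set D := ⁅H, H⁆
    have hDp : IsPGroup 2 ↥D := hG.to_subgroup _
    have : Fact (Nat.Prime 2) := ⟨Nat.prime_two⟩
    have hfr : D ≤ (frattini ↥D).map D.subtype := by
      refine hle.trans ?_
      rw [hN₁, Cfsg.powerClosure, closure_le]
      rintro _ ⟨x, hx, rfl⟩
      exact ⟨⟨x, hx⟩ ^ 2, Cfsg.Agent.Solvable.Basics.pow_mem_frattini hDp _, by simp⟩
    have htop : frattini ↥D = ⊤ := by
      rw [eq_top_iff]
      intro x _
      obtain ⟨y, hy, hyx⟩ := hfr x.2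
      exact (Subtype.ext hyx : y = x) ▸ hy
    have : (⊥ : Subgroup ↥D) = ⊤ := frattini_nongenerating (by rw [bot_sup_eq, htop])
    apply hD'
    have h2 := congrArg (Subgroup.map D.subtype) this
    rw [Subgroup.map_bot, ← MonoidHom.range_eq_map, range_subtype] at h2
    exact h2.symm
  · intro h
    exact ⟨hG, fun a b n => ⟨1, one_mem _, by rw [mul_one, (show Commute a b from h a b).mul_pow]⟩⟩

end Cfsg.Agent.S0642
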