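import Cfsg.Statements.S0645
import Cfsg.Agent.Lib.PGroups.CyclicMaximal
import Mathlib

set_option autoImplicit false
open Cfsg

namespace Cfsg.Agent.S0645

/-- Classification of p-groups with a cyclic maximal subgroup, odd p: a non-abelian one of order p^n has generators a of order p^(n-1) and b of order p, b outside the cyclic subgroup generated by a, with b a b⁻¹ = a^(1 + p^(n-2)). -/
theorem result {G : Type*} [Group G] [Finite G] {p : ℕ} [Fact p.Prime] (hp : p ≠ 2) (n : ℕ) (hn : 3 ≤ n) (hG : Nat.card G = p ^ n) (C : Subgroup G) (hC : IsCyclic C) (hCi : C.index = p) (hna : ∃ x y : G, x * y ≠ y * x) : ∃ a b : G, orderOf a = p ^ (n - 1) ∧ orderOf b = p ∧ b ∉ Subgroup.zpowers a ∧ b * a * b⁻¹ = a ^ (1 + p ^ (n - 2)) := by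
  have hp' := (Fact.out : p.Prime)
  obtain ⟨a, b, r, s, hCa, hoa, hb, hrlt, hr, hs, hr1, hrp, hps⟩ := Cfsg.Agent.PGroups.CyclicMaximal.setup n hn hG C hC hCi hna
  subst hCa
  obtain ⟨m, hm⟩ : ∃ m, n = m + 3 := ⟨n - 3, by omega⟩
  subst hm
  have e1 : m + 3 - 1 = m + 2 := rfl
  have e2 : m + 3 - 2 = m + 1 := rfl
  rw [e1] at hoa hrlt hrp
  rw [e1, e2]
  have hq : p ∣ p ^ (m + 2) := dvd_pow_self p (by omega)
  -- `r = 1` mod `p`
  have hrmod : r % p = 1 := by
    have h1 : (r : ZMod p) ^ p = 1 := by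
      have := (ZMod.natCast_eq_natCast_iff _ _ _).mpr (hrp.of_dvd hq)
      simpa using this
    rw [ZMod.pow_card] at h1
    have h2 := (ZMod.natCast_eq_natCast_iff' r 1 p).mp (by simpa using h1)
    rwa [Nat.one_mod_eq_one.mpr hp'.ne_one] at h2
  obtain ⟨u, hu, hup⟩ := Cfsg.Agent.PGroups.UniqueSubgroup.geom_sum_of_mod hp' hrmod
    (fun h => absurd h hp)
  obtain ⟨d, rfl⟩ : ∃ d, r = d + 1 := ⟨r - 1, by
    have : r ≠ 0 := fun h => by simp [h] at hrmod
    omega⟩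
  have hd : p ^ (m + 1) ∣ d := by
    have h1 : p ^ (m + 2) ∣ (d + 1) ^ p - 1 := (Nat.modEq_iff_dvd' (Nat.one_le_pow _ _ (Nat.succ_pos _))).mp hrp.symm
    rw [← geom_sum_mul_add d p, Nat.add_sub_cancel, hu, pow_succ', mul_assoc] at h1
    have h2 := Nat.dvd_of_mul_dvd_mul_left hp'.pos h1
    exact ((hp'.coprime_iff_not_dvd.mpr hup).pow_left _).dvd_of_dvd_mul_left h2
  obtain ⟨k, rfl⟩ := hd
  have hk : ¬ p ∣ k := by
    rintro ⟨k', rfl⟩
    have : p ^ (m + 1) * (p * k') + 1 < p ^ (m + 2) := hrlt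
    rw [← mul_assoc, ← pow_succ] at this
    rcases Nat.eq_zero_or_pos k' with rfl | h
    · simp at hr1
    · nlinarith [pow_pos hp'.pos (m + 2)]
  obtain ⟨t, -, ht⟩ := Nat.exists_mul_mod_eq_one_of_coprime (hp'.coprime_iff_not_dvd.mpr hk).symm hp'.one_lt
  -- a power of `b` acting as `1 + p ^ (m + 1)`
  have hpowmod : ∀ i, (p ^ (m + 1) * k + 1) ^ i ≡ 1 + i * k * p ^ (m + 1) [MOD p ^ (m + 2)] := by
    intro i
    induction i with
    | zero => simp [Nat.ModEq.refl]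
    | succ i ih =>
      rw [pow_succ]
      refine (ih.mul_right _).trans ?_
      have : (1 + i * k * p ^ (m + 1)) * (p ^ (m + 1) * k + 1) =
          (1 + (i + 1) * k * p ^ (m + 1)) + p ^ (m + 2) * (i * k * k * p ^ m) := by ring
      rw [this]
      exact Nat.add_modEq_left_iff.mpr (dvd_mul_right _ _)
  have hb1 : b ^ t * a * (b ^ t)⁻¹ = a ^ (1 + p ^ (m + 1)) := by
    rw [Cfsg.Agent.PGroups.UniqueSubgroup.pow_conj_eq hr t, pow_eq_pow_iff_modEq, hoa]
    refine (hpowmod t).trans (Nat.ModEq.add_left 1 ?_)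
    have h3 : t * k ≡ 1 [MOD p] := by
      rw [mul_comm]
      show k * t % p = 1 % p
      rw [Nat.one_mod_eq_one.mpr hp'.ne_one]
      exact ht
    have h4 := h3.mul_right' (p ^ (m + 1))
    rwa [one_mul, ← pow_succ'] at h4
  obtain ⟨s', rfl⟩ := hps
  -- correct the `p`-th power
  obtain ⟨u', hu', hup'⟩ := Cfsg.Agent.PGroups.UniqueSubgroup.geom_sum_of_mod (r := 1 + p ^ (m + 1)) hp'
    (by rw [Nat.add_mod, Nat.mod_eq_zero_of_dvd (dvd_pow_self p (Nat.succ_ne_zero m)), add_zero,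
      Nat.mod_mod, Nat.one_mod_eq_one.mpr hp'.ne_one]) (fun h => absurd h hp)
  obtain ⟨v, -, hv⟩ := Nat.exists_mul_mod_eq_one_of_coprime
    ((hp'.coprime_iff_not_dvd.mpr hup').symm.pow_right (m + 1)) (Nat.one_lt_pow (by omega) hp'.one_lt)
  set j := v * (s' * t * (p ^ (m + 1) - 1)) with hj
  have hnot : a ^ j * b ^ t ∉ Subgroup.zpowers a := by
    intro h
    apply hb
    have hbt : b ^ t ∈ Subgroup.zpowers a :=
      (mul_mem_cancel_left (pow_mem (Subgroup.mem_zpowers a) j)).mp h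
    have hbp : b ^ p ∈ Subgroup.zpowers a := hs ▸ pow_mem (Subgroup.mem_zpowers a) _
    have hg : t.gcd p = 1 := by
      refine (hp'.coprime_iff_not_dvd.mpr ?_).symm
      rintro ⟨t', rfl⟩
      rw [Nat.mul_left_comm, Nat.mul_mod_right] at ht
      exact zero_ne_one ht
    have := Nat.gcd_eq_gcd_ab t p
    rw [hg, Nat.cast_one] at this
    rw [← zpow_one b, this, zpow_add, zpow_mul, zpow_mul, zpow_natCast, zpow_natCast]
    exact mul_mem (zpow_mem hbt _) (zpow_mem hbp _)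
  refine ⟨a, a ^ j * b ^ t, hoa, orderOf_eq_prime ?_ ?_, hnot, ?_⟩
  · rw [Cfsg.Agent.PGroups.UniqueSubgroup.mul_pow_eq hb1, hu', ← pow_mul, mul_comm t p, pow_mul b p t,
      hs, ← pow_mul, ← pow_add, ← orderOf_dvd_iff_pow_eq_one, hoa,
      show j * (p * u') + p * s' * t = p * (u' * v * (s' * t * (p ^ (m + 1) - 1)) + s' * t) by
        rw [hj]; ring, pow_succ' p (m + 1)]
    refine Nat.mul_dvd_mul_left p ?_
    have h3 : u' * v ≡ 1 [MOD p ^ (m + 1)] := hv.trans (Nat.one_mod_eq_one.mpr (Nat.one_lt_pow (by omega) hp'.one_lt).ne').symm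
    refine (Nat.modEq_zero_iff_dvd).mp (((h3.mul_right _).add_right _).trans ?_)
    rw [one_mul, ← Nat.mul_succ, Nat.modEq_zero_iff_dvd, Nat.succ_eq_add_one,
      Nat.sub_add_cancel (Nat.one_le_pow _ _ hp'.pos)]
    exact dvd_mul_left _ _
  · intro h
    exact hnot (h ▸ one_mem _)
  · calc a ^ j * b ^ t * a * (a ^ j * b ^ t)⁻¹ = a ^ j * (b ^ t * a * (b ^ t)⁻¹) * (a ^ j)⁻¹ := by group
      _ = _ := by rw [hb1, (Commute.pow_pow_self a j _).eq, mul_inv_cancel_right]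

end Cfsg.Agent.S0645
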