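import Cfsg.Statements.S0646
import Cfsg.Agent.Lib.PGroups.CyclicMaximal
import Mathlib

set_option autoImplicit false
open Cfsg

namespace Cfsg.Agent.S0646

/-- Classification of non-abelian 2-groups with a cyclic maximal subgroup: dihedral, generalized quaternion, and for order at least 16 the modular group and the semidihedral group, each given by generators a (of index 2) and b with the stated relations. -/
theorem result {G : Type*} [Group G] [Finite G] (n : ℕ) (hn : 3 ≤ n) (hG : Nat.card G = 2 ^ n) (C : Subgroup G) (hC : IsCyclic C) (hCi : C.index = 2) (hna : ∃ x y : G, x * y ≠ y * x) : ∃ a b : G, orderOf a = 2 ^ (n - 1) ∧ b ∉ Subgroup.zpowers a ∧ ((b ^ 2 = 1 ∧ b * a * b⁻¹ = a⁻¹) ∨ (b ^ 2 = a ^ (2 ^ (n - 2)) ∧ b * a * b⁻¹ = a⁻¹) ∨ (4 ≤ n ∧ b ^ 2 = 1 ∧ b * a * b⁻¹ = a ^ (1 + 2 ^ (n - 2))) ∨ (4 ≤ n ∧ b ^ 2 = 1 ∧ b * a * b⁻¹ = a ^ (2 ^ (n - 2) - 1))) := by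
  obtain ⟨a, b, r, s, hCa, hoa, hb, hrlt, hr, hs, hr1, hrp, hps⟩ :=
    Cfsg.Agent.PGroups.CyclicMaximal.setup (p := 2) n hn hG C hC hCi hna
  subst hCa
  obtain ⟨m, hm⟩ : ∃ m, n = m + 3 := ⟨n - 3, by omega⟩
  subst hm
  have e1 : m + 3 - 1 = m + 2 := rfl
  have e2 : m + 3 - 2 = m + 1 := rfl
  rw [e1] at hoa hrlt hrp
  rw [e1, e2]
  have hN : 2 ^ (m + 2) = 2 * 2 ^ (m + 1) := pow_succ' 2 (m + 1)
  have hN1 : 2 ≤ 2 ^ (m + 1) := Nat.le_self_pow (Nat.succ_ne_zero m) 2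
  have hN2 : 2 ^ (m + 1) = 2 * 2 ^ m := pow_succ' 2 m
  obtain ⟨t, rfl⟩ := hps
  -- conjugation fixes `b ^ 2`
  have hfix : 2 * t * r ≡ 2 * t [MOD 2 ^ (m + 2)] := by
    rw [← hoa, ← pow_eq_pow_iff_modEq, ← Cfsg.Agent.PGroups.UniqueSubgroup.conj_pow_eq hr, ← hs]
    group
  have hnot : ∀ j : ℕ, a ^ j * b ∉ Subgroup.zpowers a := fun j h =>
    hb ((mul_mem_cancel_left (pow_mem (Subgroup.mem_zpowers a) j)).mp h)
  have hact : ∀ j : ℕ, a ^ j * b * a * (a ^ j * b)⁻¹ = a ^ r := fun j => by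
    calc a ^ j * b * a * (a ^ j * b)⁻¹ = a ^ j * (b * a * b⁻¹) * (a ^ j)⁻¹ := by group
      _ = _ := by rw [hr, (Commute.pow_pow_self a j _).eq, mul_inv_cancel_right]
  have hsq : ∀ j : ℕ, (a ^ j * b) ^ 2 = a ^ (j * (1 + r) + 2 * t) := fun j => by
    rw [Cfsg.Agent.PGroups.UniqueSubgroup.mul_pow_eq hr, hs, Finset.sum_range_succ,
      Finset.sum_range_succ, Finset.sum_range_zero, pow_zero, pow_one, zero_add, pow_add]
  -- the three possible actions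
  have hr0 : r % 2 = 1 := by
    have h := hrp.of_dvd (dvd_pow_self 2 (Nat.succ_ne_zero (m + 1)))
    rw [Nat.ModEq, Nat.pow_mod] at h
    rcases Nat.mod_two_eq_zero_or_one r with h0 | h0
    · simp [h0] at h
    · exact h0
  obtain ⟨e, rfl⟩ : ∃ e, r = 2 * e + 1 := ⟨r / 2, by omega⟩
  have he : 2 ^ m ∣ e * (e + 1) := by
    have h1 : 2 ^ (m + 2) ∣ (2 * e + 1) ^ 2 - 1 :=
      (Nat.modEq_iff_dvd' (Nat.one_le_pow _ _ (Nat.succ_pos _))).mp hrp.symm
    rw [show (2 * e + 1) ^ 2 = 4 * (e * (e + 1)) + 1 by ring, Nat.add_sub_cancel,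
      show 2 ^ (m + 2) = 4 * 2 ^ m by rw [pow_add]; ring] at h1
    exact Nat.dvd_of_mul_dvd_mul_left (by norm_num) h1
  have hcases : 2 * e + 1 = 2 ^ (m + 2) - 1 ∨
      (1 ≤ m ∧ 2 * e + 1 = 1 + 2 ^ (m + 1)) ∨ (1 ≤ m ∧ 2 * e + 1 = 2 ^ (m + 1) - 1) := by
    rcases Nat.eq_zero_or_pos m with rfl | hm
    · left
      norm_num at hrlt ⊢
      omega
    have h2 : 2 ^ m ∣ e ∨ 2 ^ m ∣ e + 1 := by
      rcases Nat.even_or_odd e with he' | he'
      · left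
        exact ((Nat.coprime_two_left.mpr he'.add_one).pow_left m).dvd_of_dvd_mul_right he
      · right
        exact ((Nat.coprime_two_left.mpr he').pow_left m).dvd_of_dvd_mul_left he
    rcases h2 with ⟨q, hq⟩ | ⟨q, hq⟩
    · have hqb : q < 2 := by
        by_contra h
        have := Nat.mul_le_mul_left (2 ^ m) (not_lt.mp h)
        omega
      interval_cases q
      · omega
      · exact Or.inr (Or.inl ⟨hm, by omega⟩)
    · have hqb : q < 3 := by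
        by_contra h
        have := Nat.mul_le_mul_left (2 ^ m) (not_lt.mp h)
        omega
      interval_cases q
      · omega
      · exact Or.inr (Or.inr ⟨hm, by omega⟩)
      · left; omega
  rcases hcases with hc | ⟨hm, hc⟩ | ⟨hm, hc⟩
  · -- inversion
    have hinv : a ^ (2 * e + 1) = a⁻¹ := by
      rw [hc, eq_inv_iff_mul_eq_one, ← pow_succ, Nat.sub_add_cancel (Nat.one_le_two_pow), ← hoa,
        pow_orderOf_eq_one]
    refine ⟨a, b, hoa, hb, ?_⟩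
    have h4 : 2 ^ (m + 1) ∣ 2 * t := by
      have h0 : 2 * t * (2 * e + 1) + 2 * t ≡ 0 [MOD 2 ^ (m + 2)] := by
        refine Nat.modEq_zero_iff_dvd.mpr ⟨2 * t, ?_⟩
        rw [hc, ← Nat.mul_succ, Nat.succ_eq_add_one, Nat.sub_add_cancel Nat.one_le_two_pow, mul_comm]
      have h1 := ((hfix.add_right (2 * t)).symm.trans h0)
      rw [Nat.modEq_zero_iff_dvd, ← two_mul, hN] at h1
      exact Nat.dvd_of_mul_dvd_mul_left (by norm_num) h1
    obtain ⟨q, hq⟩ := h4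
    rcases Nat.even_or_odd q with ⟨w, hw⟩ | ⟨w, hw⟩
    · refine Or.inl ⟨?_, hr.trans hinv⟩
      rw [hs, ← orderOf_dvd_iff_pow_eq_one, hoa]
      exact ⟨w, by rw [hq, hw, hN]; ring⟩
    · refine Or.inr (Or.inl ⟨?_, hr.trans hinv⟩)
      rw [hs, hq, hw, mul_add, mul_one, pow_add, ← mul_assoc, mul_comm (2 ^ (m + 1)) 2, ← hN, pow_mul,
        ← hoa, pow_orderOf_eq_one, one_pow, one_mul]
  · -- modular
    obtain ⟨u, hu⟩ : ∃ u, 2 + 2 ^ (m + 1) = 2 * u ∧ u % 2 = 1 := ⟨1 + 2 ^ m, by omega, by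
      have : 2 ∣ 2 ^ m := dvd_pow_self 2 (by omega)
      omega⟩
    obtain ⟨v, -, hv⟩ := Nat.exists_mul_mod_eq_one_of_coprime
      (show Nat.Coprime u (2 ^ (m + 1)) from (Nat.coprime_two_right.mpr (Nat.odd_iff.mpr hu.2)).pow_right _)
      (Nat.one_lt_pow (Nat.succ_ne_zero m) one_lt_two)
    set j := v * (t * (2 ^ (m + 1) - 1)) with hj
    refine ⟨a, a ^ j * b, hoa, hnot j, Or.inr (Or.inr (Or.inl ⟨by omega, ?_, by rw [hact, hc]⟩))⟩
    rw [hsq, hc, show 1 + (1 + 2 ^ (m + 1)) = 2 * u by omega, ← orderOf_dvd_iff_pow_eq_one, hoa, hN,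
      show j * (2 * u) + 2 * t = 2 * (u * v * (t * (2 ^ (m + 1) - 1)) + t) by rw [hj]; ring]
    refine Nat.mul_dvd_mul_left 2 ?_
    have h3 : u * v ≡ 1 [MOD 2 ^ (m + 1)] :=
      hv.trans (Nat.one_mod_eq_one.mpr (Nat.one_lt_pow (Nat.succ_ne_zero m) one_lt_two).ne').symm
    refine Nat.modEq_zero_iff_dvd.mp (((h3.mul_right _).add_right _).trans ?_)
    rw [one_mul, ← Nat.mul_succ, Nat.modEq_zero_iff_dvd, Nat.succ_eq_add_one,
      Nat.sub_add_cancel Nat.one_le_two_pow]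
    exact dvd_mul_left _ _
  · -- semidihedral
    have h4 : 2 ^ m ∣ t := by
      have h1 : (2 * t * (2 * e + 1) : ℤ) ≡ (2 * t : ℤ) [ZMOD (2 ^ (m + 2) : ℕ)] :=
        mod_cast Int.natCast_modEq_iff.mpr hfix
      have h2 := Int.modEq_iff_dvd.mp h1.symm
      have hc' : (2 * (e : ℤ) + 1) = 2 * 2 ^ m - 1 := by
        have : 2 * e + 1 + 1 = 2 * 2 ^ m := by omega
        have := congrArg (fun x : ℕ => (x : ℤ)) this
        push_cast at this
        omega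
      rw [hc'] at h2
      have h3 : (4 * 2 ^ m : ℤ) ∣ 4 * ((t : ℤ) * (2 ^ m - 1)) := by
        refine dvd_trans (dvd_of_eq ?_) (h2.trans (dvd_of_eq (by ring)))
        push_cast; ring
      have h5 := Int.dvd_of_mul_dvd_mul_left (by norm_num) h3
      rw [mul_sub, mul_one] at h5
      have := (dvd_sub_right (dvd_mul_left _ _)).mp h5
      exact_mod_cast this
    obtain ⟨w, hw⟩ := h4
    rcases Nat.even_or_odd w with ⟨q, hq⟩ | ⟨q, hq⟩
    · refine ⟨a, b, hoa, hb, Or.inr (Or.inr (Or.inr ⟨by omega, ?_, by rw [hr, hc]⟩))⟩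
      rw [hs, ← orderOf_dvd_iff_pow_eq_one, hoa]
      exact ⟨q, by rw [hw, hq, hN, hN2]; ring⟩
    · refine ⟨a, a ^ 1 * b, hoa, hnot 1, Or.inr (Or.inr (Or.inr ⟨by omega, ?_, by rw [hact, hc]⟩))⟩
      rw [hsq, hc, ← orderOf_dvd_iff_pow_eq_one, hoa, one_mul,
        show 1 + (2 ^ (m + 1) - 1) = 2 ^ (m + 1) by omega]
      exact ⟨q + 1, by rw [hw, hq, hN, hN2]; ring⟩

end Cfsg.Agent.S0646
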