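import Cfsg.Statements.S0647

set_option autoImplicit false
open Cfsg

namespace Cfsg.Agent.S0647

/-- For a nonempty family of maximal abelian subgroups of a finite group, the intersection of the family is the centre of the subgroup it generates, which is also the full centralizer of that subgroup. -/
theorem result {S : Type*} [Group S] [Finite S] (𝒜 : Set (Subgroup S)) (hne : 𝒜.Nonempty) (hab : ∀ A ∈ 𝒜, IsMulCommutative A) (hmax : ∀ A ∈ 𝒜, ∀ B : Subgroup S, IsMulCommutative B → A ≤ B → B = A) : sInf 𝒜 = sSup 𝒜 ⊓ Subgroup.centralizer ((sSup 𝒜 : Subgroup S) : Set S) ∧ sInf 𝒜 = Subgroup.centralizer ((sSup 𝒜 : Subgroup S) : Set S) := by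
  obtain ⟨A₀, hA₀⟩ := hne
  open Subgroup in
  have hC : ∀ A ∈ 𝒜, centralizer (A : Set S) = A := by
    intro A hA
    have hA' := hab A hA
    refine le_antisymm (fun x hx => ?_) A.le_centralizer
    have hset : ∀ y ∈ insert x (A : Set S), ∀ z ∈ insert x (A : Set S), y * z = z * y := by
      intro y hy z hz
      rcases hy with rfl | hy <;> rcases hz with rfl | hz
      · rfl
      · exact (hx z hz).symm
      · exact hx y hy
      · exact (A.le_centralizer hz) y hy
    have hcom : IsMulCommutative (closure (insert x (A : Set S))) := by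
      have h1 : closure (insert x (A : Set S)) ≤ centralizer (insert x (A : Set S)) := by
        rw [closure_le]
        exact fun y hy z hz => hset z hz y hy
      have h2 : closure (insert x (A : Set S)) ≤
          centralizer (closure (insert x (A : Set S)) : Set S) := by
        rw [centralizer_closure]; exact h1
      exact ⟨⟨fun a b => Subtype.ext (h2 b.2 a a.2)⟩⟩
    have heq := hmax A hA _ hcom (fun y hy => subset_closure (Or.inr hy))
    exact heq ▸ subset_closure (Or.inl rfl)
  open Subgroup in
  have h2 : sInf 𝒜 = centralizer ((sSup 𝒜 : Subgroup S) : Set S) := by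
    refine le_antisymm ?_ (le_sInf fun A hA => ?_)
    · rw [le_centralizer_iff]
      refine sSup_le fun A hA => ?_
      rw [le_centralizer_iff]
      exact (sInf_le hA).trans (hC A hA).ge
    · exact (centralizer_le (le_sSup hA : A ≤ sSup 𝒜)).trans (hC A hA).le
  refine ⟨?_, h2⟩
  rw [← h2]
  exact (inf_eq_right.mpr ((sInf_le hA₀).trans (le_sSup hA₀))).symm

end Cfsg.Agent.S0647
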