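import Cfsg.Statements.S0652
import Cfsg.Agent.Lib.PLocal.MaxAbelian

set_option autoImplicit false
open Cfsg

namespace Cfsg.Agent.S0652

/-- For odd p and D normal in the p-group S, the elementary abelian subgroups of D of largest order satisfy the replacement property for class-2 normal subgroups of S. -/
theorem result {S : Type*} [Group S] [Finite S] {p : ℕ} [Fact p.Prime] (hS : IsPGroup p S) (hp : p ≠ 2) (D : Subgroup S) [D.Normal] : ∀ (B : Subgroup S) [B.Normal], ⁅⁅B, B⁆, B⁆ = ⊥ → (∃ U ∈ (Set.image (fun A : Subgroup ↥D => A.map D.subtype) (Cfsg.maxElementaryAbelianSubgroups p ↥D)), ⁅B, B⁆ ≤ U ∧ ¬ B ≤ U) → ∃ A ∈ (Set.image (fun A : Subgroup ↥D => A.map D.subtype) (Cfsg.maxElementaryAbelianSubgroups p ↥D)), ⁅B, B⁆ ≤ A ∧ ¬ B ≤ A ∧ B ≤ Subgroup.normalizer (A : Set S) := by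
  intro B _ _ h
  rw [← Cfsg.Agent.PLocal.MaxAbelian.family_p] at h ⊢
  exact Cfsg.Agent.PLocal.MaxAbelian.replacement_property hp (hS.to_subgroup ⊤) le_top
    (le_of_le_of_eq le_top (Subgroup.normalizer_eq_top _).symm) le_top (le_of_le_of_eq le_top (Subgroup.normalizer_eq_top _).symm) h

end Cfsg.Agent.S0652
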