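import Cfsg.Statements.S0656
import Cfsg.Agent.Techniques.SL2.Pairs

set_option autoImplicit false
open Cfsg

namespace Cfsg.Agent.S0656

/-- For odd p, a faithful group on an elementary abelian p-group with no nontrivial normal p-subgroup in which some nontrivial p-element acts quadratically has a section isomorphic to SL(2, p). -/
theorem result {G : Type*} [Group G] [Finite G] {p : ℕ} [Fact p.Prime] (hp : p ≠ 2) (V H : Subgroup G) (hV : Cfsg.IsElementaryAbelian p V) (hHV : H ≤ Subgroup.normalizer (V : Set G)) (hf : H ⊓ Subgroup.centralizer (V : Set G) = ⊥) (hO : Cfsg.pCore p ↥H = ⊥) (x : G) (hxH : x ∈ H) (hx1 : x ≠ 1) (hxp : ∃ k : ℕ, orderOf x = p ^ k) (hq : ⁅⁅V, Subgroup.zpowers x⁆, Subgroup.zpowers x⁆ = ⊥) : ∃ (K L : Subgroup G) (hL : (L.subgroupOf K).Normal), K ≤ H ∧ Nonempty ((K ⧸ L.subgroupOf K) ≃* Matrix.SpecialLinearGroup (Fin 2) (ZMod p)) := by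
  have hC : (Subgroup.centralizer (V : Set G)).subgroupOf H = ⊥ := by
    rw [eq_bot_iff]
    intro y hy
    have : (y : G) ∈ (⊥ : Subgroup G) := hf ▸ ⟨y.2, hy⟩
    exact Subgroup.mem_bot.mpr (Subtype.ext (Subgroup.mem_bot.mp this))
  haveI : ((Subgroup.centralizer (V : Set G)).subgroupOf H).Normal := hC ▸ inferInstance
  obtain ⟨g, hg, hbad⟩ := Cfsg.Agent.PLocal.Quadratic.exists_bad_pair hV hHV hxH hq fun hm => by
    refine hx1 ?_
    have h2 : (⟨x, hxH⟩ : H) ∈ Cfsg.pCore p ↥H := by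
      refine Cfsg.Agent.PLocal.Cores.comap_pCore_le (QuotientGroup.mk'_surjective _) ?_ hm
      rw [QuotientGroup.ker_mk', hC]
      exact IsPGroup.of_bot
    rw [hO, Subgroup.mem_bot] at h2
    exact congrArg Subtype.val h2
  obtain ⟨K, L, hL, hle, -, he⟩ := Cfsg.Agent.Techniques.SL2.Pairs.exists_section hp hV (hHV hxH)
    (hHV (H.mul_mem (H.mul_mem hg hxH) (H.inv_mem hg))) hq
    (Cfsg.Agent.PLocal.Quadratic.quad_conj g (hHV hg) hq) hbad
  refine ⟨K, L, hL, hle.trans ((Subgroup.closure_le _).mpr ?_), he⟩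
  rintro z (rfl | rfl)
  · exact hxH
  · exact H.mul_mem (H.mul_mem hg hxH) (H.inv_mem hg)

end Cfsg.Agent.S0656
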