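import Cfsg.Statements.S0657
import Cfsg.Agent.Techniques.SL2.Nonstable

set_option autoImplicit false
open Cfsg

namespace Cfsg.Agent.S0657

/-- For odd p, a group that fails to be p-stable modulo its largest normal subgroup of order prime to p, and whose upper p-series does not stop there, has a section isomorphic to SL(2, p). -/
theorem result {G : Type*} [Group G] [Finite G] {p : ℕ} [Fact p.Prime] (hp : p ≠ 2) (hO : Cfsg.pPrimeCore p G < Cfsg.pPrimePCore p G) (hns : ¬ Cfsg.IsPStable p (G ⧸ Cfsg.pPrimeCore p G)) : ∃ (K L : Subgroup G) (hL : (L.subgroupOf K).Normal), K ≤ ⊤ ∧ Nonempty ((K ⧸ L.subgroupOf K) ≃* Matrix.SpecialLinearGroup (Fin 2) (ZMod p)) := by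
  by_cases hst : Cfsg.IsNormalizerPStable p (G ⧸ Cfsg.pPrimeCore p G)
  · exfalso
    refine hns ⟨(Fact.out : p.Prime).odd_of_ne_two hp, ?_, ?_⟩
    · intro hbot
      refine hO.ne (le_antisymm hO.le ?_)
      rw [Cfsg.pPrimePCore, hbot, MonoidHom.comap_bot, QuotientGroup.ker_mk']
    · rintro A P - hP hnorm - - hq _ ⟨a, ha, rfl⟩
      exact hst P hP a.1 a.2 (eq_bot_iff.mpr
        ((Subgroup.commutator_mono (Subgroup.commutator_mono le_rfl (Subgroup.zpowers_le.mpr (show (a : G ⧸ Cfsg.pPrimeCore p G) ∈ A from ha)))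
          (Subgroup.zpowers_le.mpr (show (a : G ⧸ Cfsg.pPrimeCore p G) ∈ A from ha))).trans hq.le))
  · obtain ⟨P, -, -, -, hSL⟩ :=
      Cfsg.Agent.Techniques.SL2.Nonstable.involves_of_not_stable hp hst
    obtain ⟨K, L, hL, he⟩ := Cfsg.Agent.Techniques.SL2.Qd.involves_trans
      (L := (⊤ : Subgroup G))
      ((QuotientGroup.mk' (Cfsg.pPrimeCore p G)).comp (⊤ : Subgroup G).subtype)
      (fun y => by
        obtain ⟨x, rfl⟩ := QuotientGroup.mk'_surjective _ y
        exact ⟨⟨x, Subgroup.mem_top x⟩, rfl⟩)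
      (Cfsg.Agent.Techniques.SL2.Qd.involves_trans (MonoidHom.id _) Function.surjective_id hSL)
    exact ⟨K, L, hL, le_top, he⟩

end Cfsg.Agent.S0657
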