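import Cfsg.Statements.S0658
import Cfsg.Agent.Lib.PLocal.ZJ
import Cfsg.Agent.Lib.PLocal.StableNormal
import Cfsg.Agent.InvChar.PConstrained
import Cfsg.Agent.Lib.Transfer.Frobenius
import Cfsg.Agent.S0659

set_option autoImplicit false
open Cfsg

namespace Cfsg.Agent.S0658

open Subgroup Cfsg.Agent.PLocal

variable {G : Type*} [Group G] [Finite G] {p : ℕ} [Fact p.Prime]

/-- `T` is a maximal `p`-subgroup of `M`. -/
def IsSyl (p : ℕ) (T M : Subgroup G) : Prop :=
  T ≤ M ∧ IsPGroup p T ∧ ∀ U : Subgroup G, U ≤ M → IsPGroup p U → T ≤ U → U = T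

theorem exists_syl {U M : Subgroup G} (hU : U ≤ M) (hp : IsPGroup p U) :
    ∃ T, U ≤ T ∧ IsSyl p T M := by
  obtain ⟨T, ⟨hUT, hTM, hTp⟩, hmax⟩ := Set.exists_max_image
    {T : Subgroup G | U ≤ T ∧ T ≤ M ∧ IsPGroup p T} (fun T => Nat.card T) (Set.toFinite _)
    ⟨U, le_rfl, hU, hp⟩
  exact ⟨T, hUT, hTM, hTp, fun V hV hVp hTV =>
    (eq_of_le_of_card_ge hTV (hmax V ⟨hUT.trans hTV, hV, hVp⟩)).symm⟩

theorem IsSyl.exists_sylow {T M : Subgroup G} (h : IsSyl p T M) :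
    ∃ S : Sylow p M, (S : Subgroup M).map M.subtype = T := by
  refine ⟨⟨T.subgroupOf M, h.2.1.comap_subtype, fun {Q} hQ hle => ?_⟩, map_subgroupOf_eq_of_le h.1⟩
  have := h.2.2 (Q.map M.subtype) (map_subtype_le Q) (hQ.map _)
    (by rw [← map_subgroupOf_eq_of_le h.1]; exact map_mono hle)
  refine Subgroup.map_injective M.subtype_injective ?_
  rw [this, map_subgroupOf_eq_of_le h.1]

theorem IsSyl.core_normal {T M : Subgroup G} (h : IsSyl p T M)
    (hM : ∀ S : Sylow p M, (MaxAbelian.core 0 (S : Subgroup M)).Normal) :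
    M ≤ normalizer (MaxAbelian.core 0 T : Set G) := by
  obtain ⟨S, hS⟩ := h.exists_sylow
  intro m hm
  refine GlaubermanReplacement.mem_normalizer_of_conj_mem fun x hx => ?_
  rw [← hS, MaxAbelian.core_map 0 M.subtype_injective] at hx ⊢
  obtain ⟨y, hy, rfl⟩ := hx
  exact ⟨⟨m, hm⟩ * y * ⟨m, hm⟩⁻¹, (hM S).conj_mem y hy _, rfl⟩

theorem normalizer_lt {T : Subgroup G} {P : Sylow p G} (hTP : T ≤ P) (hne : T ≠ P) :
    T < (P : Subgroup G) ⊓ normalizer (T : Set G) :=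
  Cfsg.Agent.Transfer.Frobenius.lt_inf_normalizer P.2 (lt_of_le_of_ne hTP hne)

theorem core_ne_bot {T : Subgroup G} (hT : IsPGroup p T) (hne : T ≠ ⊥) :
    MaxAbelian.core 0 T ≠ ⊥ := by
  haveI : Nontrivial T := (nontrivial_iff_ne_bot T).mpr hne
  intro h
  have h1 := MaxAbelian.core_map 0 T.subtype_injective (⊤ : Subgroup T)
  rw [← MonoidHom.range_eq_map, range_subtype, h] at h1
  have h2 := (map_eq_bot_iff_of_injective _ T.subtype_injective).mp h1.symm
  exact (nontrivial_iff_ne_bot _).mp hT.center_nontrivial (le_bot_iff.mp (h2 ▸ Cfsg.Agent.S0659.center_le))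

variable (hloc : ∀ R : Subgroup G, IsPGroup p R → R ≠ ⊥ →
    ∀ S : Sylow p ↥(normalizer (R : Set G)), (MaxAbelian.core 0 (S : Subgroup ↥(normalizer (R : Set G)))).Normal)

include hloc in
theorem lemmaA : ∀ n : ℕ, ∀ Q T : Subgroup G, IsPGroup p Q → Q ≠ ⊥ → IsSyl p T (normalizer (Q : Set G)) →
    Nat.card G - Nat.card T = n →
    ∃ R : Sylow p G, T ≤ R ∧ normalizer (Q : Set G) ≤ normalizer (MaxAbelian.core 0 (R : Subgroup G) : Set G) := by
  intro n
  induction n using Nat.strong_induction_on with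
  | _ n IH =>
  intro Q T hQ hQ1 hT hn
  have hQN := hT.core_normal (hloc Q hQ hQ1)
  obtain ⟨R₀, hR₀⟩ := hT.2.1.exists_le_sylow
  by_cases he : T = R₀
  · exact ⟨R₀, hR₀, he ▸ hQN⟩
  have hQT : Q ≤ T := by
    obtain ⟨S, hS⟩ := hT.exists_sylow
    rw [← hS]
    haveI : (Q.comap (normalizer (Q : Set G)).subtype).Normal := normal_in_normalizer
    exact (map_subgroupOf_eq_of_le (le_normalizer : Q ≤ normalizer (Q : Set G))).symm.trans_le
      (map_mono ((hQ.comap_subtype (K := normalizer (Q : Set G))).le_sylow_of_normal S))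
  have hT1 : T ≠ ⊥ := fun h => hQ1 (le_bot_iff.mp (h ▸ hQT))
  set Y := MaxAbelian.core 0 T with hY
  have hYp : IsPGroup p Y := hT.2.1.to_le (MaxAbelian.core_le 0 T)
  obtain ⟨T₂, hle, hT₂⟩ := exists_syl (p := p) (M := normalizer (Y : Set G))
    (inf_le_right.trans (MaxAbelian.normalizer_le_normalizer_core 0 T) :
      (R₀ : Subgroup G) ⊓ normalizer (T : Set G) ≤ _) (R₀.2.to_le inf_le_left)
  have hlt : T < T₂ := (normalizer_lt hR₀ he).trans_le hle
  have hcard : Nat.card T < Nat.card T₂ := by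
    rcases Nat.lt_or_ge (Nat.card T) (Nat.card T₂) with h | h
    · exact h
    · exact absurd (eq_of_le_of_card_ge hlt.le h) hlt.ne
  obtain ⟨R, hR, hN⟩ := IH _ (by
    have := T₂.card_le_card_group
    omega) Y T₂ hYp (core_ne_bot hT.2.1 hT1) hT₂ rfl
  exact ⟨R, hlt.le.trans hR, hQN.trans hN⟩

include hloc in
theorem lemmaB : ∀ n : ℕ, ∀ (P R : Sylow p G) (T : Subgroup G), T ≠ ⊥ → T ≤ P → T ≤ R →
    Nat.card G - Nat.card T = n →
    MaxAbelian.core 0 (P : Subgroup G) = MaxAbelian.core 0 (R : Subgroup G) := by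
  intro n
  induction n using Nat.strong_induction_on with
  | _ n IH =>
  intro P R T hT1 hTP hTR hn
  have hTp : IsPGroup p T := P.2.to_le hTP
  have hlt' : ∀ {U : Subgroup G}, T < U → Nat.card T < Nat.card U := by
    intro U hlt
    rcases Nat.lt_or_ge (Nat.card T) (Nat.card U) with h | h
    · exact h
    · exact absurd (eq_of_le_of_card_ge hlt.le h) hlt.ne
  have step : ∀ (A B : Sylow p G) (U : Subgroup G), T < U → U ≤ A → U ≤ B →
      MaxAbelian.core 0 (A : Subgroup G) = MaxAbelian.core 0 (B : Subgroup G) := by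
    intro A B U hlt hA hB
    refine IH _ ?_ A B U (fun h => not_lt_bot (h ▸ hlt)) hA hB rfl
    have := U.card_le_card_group
    have := hlt' hlt
    omega
  by_cases hP : T = P
  · rw [show P = R from Sylow.ext (P.3 R.2 (hP ▸ hTR)).symm]
  by_cases hR : T = R
  · rw [show R = P from Sylow.ext (R.3 P.2 (hR ▸ hTP)).symm]
  set M := normalizer (T : Set G) with hM
  obtain ⟨T₁, h1, hT₁⟩ := exists_syl (p := p) (M := M)
    (inf_le_right : (P : Subgroup G) ⊓ M ≤ M) (P.2.to_le inf_le_left)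
  obtain ⟨T₂, h2, hT₂⟩ := exists_syl (p := p) (M := M)
    (inf_le_right : (R : Subgroup G) ⊓ M ≤ M) (R.2.to_le inf_le_left)
  obtain ⟨R₁, hR₁, hN⟩ := lemmaA hloc _ T T₁ hTp hT1 hT₁ rfl
  obtain ⟨S₁, hS₁⟩ := hT₁.exists_sylow
  obtain ⟨S₂, hS₂⟩ := hT₂.exists_sylow
  obtain ⟨m, hm⟩ := MulAction.exists_smul_eq M S₁ S₂
  set f := (MulAut.conj (m : G)).toMonoidHom with hf
  let R₂ : Sylow p G := R₁.mapSurjective (f := f) (MulAut.conj (m : G)).surjective
  have hR₂ : (R₂ : Subgroup G) = (R₁ : Subgroup G).map f := Sylow.coe_mapSurjective (MulAut.conj (m : G)).surjective R₁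
  have hT₂R₂ : T₂ ≤ R₂ := by
    rw [← hS₂, ← hm]
    rintro _ ⟨x, hx, rfl⟩
    rw [Sylow.coe_subgroup_smul] at hx
    obtain ⟨y, hy, rfl⟩ := hx
    rw [hR₂]
    exact ⟨y, hR₁ (hS₁ ▸ ⟨y, hy, rfl⟩), rfl⟩
  have e2 : MaxAbelian.core 0 (R₂ : Subgroup G) = MaxAbelian.core 0 (R₁ : Subgroup G) := by
    rw [hR₂, MaxAbelian.core_map 0 (MulAut.conj (m : G)).injective]
    exact mem_normalizer_iff_map_conj_eq.mp (hN m.2)
  rw [step P R₁ _ (normalizer_lt hTP hP) inf_le_left (h1.trans hR₁),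
    step R R₂ _ (normalizer_lt hTR hR) inf_le_left (h2.trans hT₂R₂), e2]


/-- In a group of characteristic p type all of whose p-locals are p-stable (p odd), the normalizer of Z(J(P)) contains the normalizer of every nontrivial subgroup of the Sylow p-subgroup P. -/
theorem result {G : Type*} [Group G] [Finite G] {p : ℕ} [Fact p.Prime] (hp : p ≠ 2) (hloc : ∀ Q : Subgroup G, IsPGroup p Q → Q ≠ ⊥ → Cfsg.pPrimeCore p ↥(Subgroup.normalizer (Q : Set G)) = ⊥ ∧ Cfsg.IsPConstrained p ↥(Subgroup.normalizer (Q : Set G)) ∧ Cfsg.IsPStable p ↥(Subgroup.normalizer (Q : Set G))) (P : Sylow p G) (Q : Subgroup G) (hQP : Q ≤ (P : Subgroup G)) (hQ1 : Q ≠ ⊥) : Subgroup.normalizer (Q : Set G) ≤ Subgroup.normalizer (Cfsg.centerThompsonAOf ((P : Subgroup G)) : Set G) := by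

  open Cfsg.Agent.PLocal in
  have hloc' : ∀ R : Subgroup G, IsPGroup p R → R ≠ ⊥ → ∀ S : Sylow p ↥(Subgroup.normalizer (R : Set G)),
      (MaxAbelian.core 0 (S : Subgroup ↥(Subgroup.normalizer (R : Set G)))).Normal := fun R hR hR1 S => by
    obtain ⟨hO, hc, hs⟩ := hloc R hR hR1
    exact ZJ.core_normal hp ((Cfsg.Agent.InvChar.PConstrained.iff_of_surjective (MonoidHom.id _)
      Function.surjective_id (by rw [(MonoidHom.ker_eq_bot_iff _).mpr Function.injective_id]; simp) hO).mp hc) 0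
      (fun V _ hV => StableNormal.of_isPStable hs hO V hV) S
  rw [Cfsg.Agent.PLocal.MaxAbelian.centerThompsonA_eq]
  have hQp : IsPGroup p Q := P.2.to_le hQP
  obtain ⟨T, hQT, hT⟩ := exists_syl (p := p) (Subgroup.le_normalizer (H := Q)) hQp
  obtain ⟨R, hTR, hN⟩ := lemmaA hloc' _ Q T hQp hQ1 hT rfl
  rwa [lemmaB hloc' _ P R Q hQ1 hQP (hQT.trans hTR) rfl]

end Cfsg.Agent.S0658
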