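import Cfsg.Statements.S0660

set_option autoImplicit false
open Cfsg

namespace Cfsg.Agent.S0660

/-- Under a coprime action on an abelian group, an invariant subgroup that is complemented admits an invariant complement. -/
theorem result {G : Type*} [Group G] [Finite G] (V A U : Subgroup G) (hVab : IsMulCommutative V) (hAV : A ≤ Subgroup.normalizer (V : Set G)) (hcop : (Nat.card A).Coprime (Nat.card V)) (hUV : U ≤ V) (hAU : A ≤ Subgroup.normalizer (U : Set G)) (W : Subgroup G) (hWV : W ≤ V) (hUW : U ⊓ W = ⊥) (hUWV : U ⊔ W = V) : ∃ W' : Subgroup G, W' ≤ V ∧ A ≤ Subgroup.normalizer (W' : Set G) ∧ U ⊓ W' = ⊥ ∧ U ⊔ W' = V := by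
  classical
  open Subgroup in
  open scoped IsMulCommutative in
  let e : ↥U × ↥W →* ↥V :=
    { toFun := fun x => ⟨(x.1 : G) * x.2, V.mul_mem (hUV x.1.2) (hWV x.2.2)⟩
      map_one' := by ext; simp
      map_mul' := fun x y => by
        apply Subtype.ext
        have hc : (y.1 : G) * x.2 = x.2 * y.1 := congrArg Subtype.val
          (hVab.is_comm.comm ⟨(y.1 : G), hUV y.1.2⟩ ⟨(x.2 : G), hWV x.2.2⟩)
        change (x.1 : G) * y.1 * (x.2 * y.2) = (x.1 : G) * x.2 * ((y.1 : G) * y.2)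
        rw [mul_assoc, ← mul_assoc (y.1 : G), hc]
        group }
  have hinj : Function.Injective e := by
    rw [injective_iff_map_eq_one]
    rintro ⟨u, w⟩ h
    have hv : (u : G) * w = 1 := congrArg Subtype.val h
    have hu : (u : G) ∈ U ⊓ W := ⟨u.2, by rw [eq_inv_of_mul_eq_one_left hv]; exact W.inv_mem w.2⟩
    rw [hUW, mem_bot] at hu
    rw [hu, one_mul] at hv
    exact Prod.ext (Subtype.ext hu) (Subtype.ext hv)
  have hsurj : Function.Surjective e := by
    intro v
    have hn : W ≤ normalizer (U : Set G) := by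
      intro w hw
      refine centralizer_le_normalizer _ fun u hu => ?_
      exact congrArg Subtype.val (hVab.is_comm.comm ⟨u, hUV hu⟩ ⟨w, hWV hw⟩)
    have hmem : (v : G) ∈ ((U ⊔ W : Subgroup G) : Set G) := hUWV ▸ v.2
    rw [coe_mul_of_right_le_normalizer_left _ _ hn] at hmem
    obtain ⟨u, hu, w, hw, huw⟩ := hmem
    exact ⟨(⟨u, hu⟩, ⟨w, hw⟩), Subtype.ext huw⟩
  let eV : ↥U × ↥W ≃* ↥V := MulEquiv.ofBijective e ⟨hinj, hsurj⟩
  let π₀ : ↥V →* ↥V := (Subgroup.inclusion hUV).comp ((MonoidHom.fst _ _).comp eV.symm.toMonoidHom)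
  have hπU : ∀ v : ↥V, (v : G) ∈ U → π₀ v = v := by
    intro v hv
    have h1 : eV.symm v = (⟨v, hv⟩, 1) := by
      rw [MulEquiv.symm_apply_eq]
      refine Subtype.ext ?_
      change (v : G) = (v : G) * ((1 : ↥W) : G)
      simp
    change Subgroup.inclusion hUV (eV.symm v).1 = v
    rw [h1]
    rfl
  have hπ : ∀ v : ↥V, (π₀ v : G) ∈ U := fun v => (eV.symm v).1.2
  let act : ↥A →* MulAut ↥V := V.normalizerMonoidHom.comp (Subgroup.inclusion hAV)
  have := Fintype.ofFinite ↥A
  open scoped IsMulCommutative in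
  let φ : ↥V →* ↥V :=
    { toFun := fun v => ∏ a : ↥A, act a (π₀ (act a⁻¹ v))
      map_one' := by simp
      map_mul' := fun v w => by simp [Finset.prod_mul_distrib] }
  have hactU : ∀ (a : ↥A) (v : ↥V), (v : G) ∈ U → ((act a v : ↥V) : G) ∈ U := fun a v hv =>
    (hAU a.2 (v : G)).mp hv
  have hφU : ∀ v, (φ v : G) ∈ U := fun v => by
    have hm : φ v ∈ U.subgroupOf V := by
      open scoped IsMulCommutative in
      exact Subgroup.prod_mem _ fun a _ => mem_subgroupOf.mpr (hactU a _ (hπ _))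
    exact hm
  have hφfix : ∀ v : ↥V, (v : G) ∈ U → φ v = v ^ Nat.card ↥A := by
    open scoped IsMulCommutative in
    intro v hv
    change ∏ a : ↥A, act a (π₀ (act a⁻¹ v)) = _
    rw [Finset.prod_congr rfl (fun a _ => by
      rw [hπU _ (hactU _ v hv), ← MulAut.mul_apply, ← map_mul, mul_inv_cancel, map_one,
        MulAut.one_apply]), Finset.prod_const, Finset.card_univ, Nat.card_eq_fintype_card]
  have hcomm : ∀ (b : ↥A) (v : ↥V), φ (act b v) = act b (φ v) := by
    open scoped IsMulCommutative in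
    intro b v
    change ∏ a : ↥A, act a (π₀ (act a⁻¹ (act b v))) =
      act b (∏ a : ↥A, act a (π₀ (act a⁻¹ v)))
    rw [map_prod]
    refine (Fintype.prod_equiv (Equiv.mulLeft b) _ _ fun a => ?_).symm
    simp only [Equiv.coe_mulLeft, mul_inv_rev, map_mul, MulAut.mul_apply, ← map_inv]
    rw [show act b⁻¹ (act b v) = v by
      rw [← MulAut.mul_apply, ← map_mul, inv_mul_cancel, map_one, MulAut.one_apply]]
  have hpow : Function.Bijective fun v : ↥V => v ^ Nat.card ↥A := (powCoprime hcop.symm).bijective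
  refine ⟨φ.ker.map V.subtype, map_subtype_le _, ?_, ?_, ?_⟩
  · rw [le_normalizer_iff]
    rintro a ha _ ⟨w, hw, rfl⟩
    refine ⟨act ⟨a, ha⟩ w, ?_, rfl⟩
    rw [SetLike.mem_coe, MonoidHom.mem_ker, hcomm, MonoidHom.mem_ker.mp hw, map_one]
  · rw [eq_bot_iff]
    rintro _ ⟨hu, w, hw, rfl⟩
    have h1 : w ^ Nat.card ↥A = 1 := (hφfix w hu).symm.trans hw
    exact congrArg Subtype.val (hpow.1 (h1.trans (one_pow _).symm))
  · refine le_antisymm (sup_le hUV (map_subtype_le _)) fun x hx => ?_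
    obtain ⟨m, hm⟩ := exists_pow_eq_self_of_coprime
      (Nat.Coprime.coprime_dvd_right (orderOf_dvd_natCard (φ ⟨x, hx⟩)) hcop)
    set u : ↥V := φ ⟨x, hx⟩ ^ m with hu
    have huU : (u : G) ∈ U := by rw [hu, SubmonoidClass.coe_pow]; exact pow_mem (hφU _) m
    have h1 : φ u = φ ⟨x, hx⟩ := by
      rw [hφfix u huU, hu, ← pow_mul, mul_comm, pow_mul, hm]
    have h2 : u⁻¹ * ⟨x, hx⟩ ∈ φ.ker := by
      rw [MonoidHom.mem_ker, map_mul, map_inv, h1, inv_mul_cancel]
    have h3 := mul_mem_sup huU (mem_map_of_mem V.subtype h2)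
    simpa using h3

end Cfsg.Agent.S0660
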