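import Cfsg.Statements.S0661
import Cfsg.Agent.Lib.Components.Local
import Cfsg.Agent.Lib.Cores.Basic

set_option autoImplicit false
open Cfsg

namespace Cfsg.Agent.S0661

/-- If, modulo the largest normal subgroup of order prime to p, the largest normal p-subgroup contains its centralizer, then for every p-subgroup P the p'-core of N_G(P) is just O_p'(G) ∩ N_G(P). -/
theorem result {G : Type*} [Group G] [Finite G] {p : ℕ} [Fact p.Prime] (hc : Subgroup.centralizer (Cfsg.pCore p (G ⧸ Cfsg.pPrimeCore p G) : Set (G ⧸ Cfsg.pPrimeCore p G)) ≤ Cfsg.pCore p (G ⧸ Cfsg.pPrimeCore p G)) (P : Subgroup G) (hP : IsPGroup p P) : (Cfsg.pPrimeCore p ↥(Subgroup.normalizer (P : Set G))).map (Subgroup.normalizer (P : Set G)).subtype = Cfsg.pPrimeCore p G ⊓ Subgroup.normalizer (P : Set G) := by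
  open Cfsg.Agent.Components.Local in
  set N := Subgroup.normalizer (P : Set G) with hN
  set R := Cfsg.pPrimeCore p G with hR
  have hRc : (Nat.card R).Coprime p := Cfsg.Agent.Cores.pPrimeCore_card_coprime p
  set q := QuotientGroup.mk' R with hq
  obtain ⟨hO, -⟩ := normalizer_of_characteristic hc (hP.map q)
  let e := MulEquiv.subgroupCongr (map_normalizer_eq hP hRc)
  have hf : Function.Surjective (e.toMonoidHom.comp (q.subgroupMap N)) :=
    e.surjective.comp (q.subgroupMap_surjective N)
  apply le_antisymm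
  · rintro _ ⟨x, hx, rfl⟩
    refine ⟨?_, x.2⟩
    have h1 := Cfsg.Agent.Cores.map_pPrimeCore_le hf p ⟨x, hx, rfl⟩
    rw [hO, Subgroup.mem_bot] at h1
    have h2 : q.subgroupMap N x = 1 := e.injective (h1.trans e.map_one.symm)
    exact (QuotientGroup.eq_one_iff (x : G)).1 (congrArg Subtype.val h2)
  · rintro x ⟨hxR, hxN⟩
    refine ⟨⟨x, hxN⟩, Cfsg.Agent.Cores.le_pPrimeCore (N := R.subgroupOf N) ?_ hxR, rfl⟩
    refine hRc.coprime_dvd_left ?_
    rw [← Subgroup.card_map_of_injective N.subtype_injective, Subgroup.subgroupOf_map_subtype]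
    exact Subgroup.card_dvd_of_le inf_le_left

end Cfsg.Agent.S0661
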