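import Cfsg.Agent.Base.RecEqns
import Cfsg.Statements.S0663
import Cfsg.Agent.Lib.PLocal.Replacement
import Cfsg.Agent.Lib.Coprime.Basic

set_option autoImplicit false
open Cfsg

namespace Cfsg.Agent.S0663

open Subgroup Cfsg.Agent.PLocal
open scoped commutatorElement

section
variable {L : Type*} [Group L] [Finite L] {p : ℕ} [Fact p.Prime] {N G : Subgroup L}

theorem card_mul_rel {A B : Subgroup L} (h : A ≤ B) : Nat.card A * A.relIndex B = Nat.card B := by
  have := relIndex_mul_relIndex ⊥ A B bot_le h
  rwa [relIndex_bot_left, relIndex_bot_left] at this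

theorem iter_le (hGN : G ≤ normalizer (N : Set L)) : ∀ i, iterCommutator N G i ≤ N ∧
    G ≤ normalizer (iterCommutator N G i : Set L)
  | 0 => ⟨le_rfl, hGN⟩
  | i + 1 => by
    obtain ⟨h1, h2⟩ := iter_le hGN i
    exact ⟨(le_normalizer_iff_commutator_le_left.mp h2).trans h1,
      normalizer_commutator_ge_right _ G⟩

theorem iter_succ_le (hGN : G ≤ normalizer (N : Set L)) (i : ℕ) :
    iterCommutator N G (i + 1) ≤ iterCommutator N G i :=
  le_normalizer_iff_commutator_le_left.mp (iter_le hGN i).2

theorem comm_lt {M : Subgroup L} (hM : IsPGroup p M) {H G' : Subgroup L} (hH : H ≤ M) (hG' : G' ≤ M)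
    (hn : G' ≤ normalizer (H : Set L)) (hne : H ≠ ⊥) :
    ⁅H, G'⁆ ≤ H ∧ p * Nat.card ↥⁅H, G'⁆ ≤ Nat.card H := by
  have hle := le_normalizer_iff_commutator_le_left.mp hn
  refine ⟨hle, ?_⟩
  obtain ⟨a, ha⟩ := (hM.to_le hH).exists_card_eq
  obtain ⟨b, hb⟩ := (hM.to_le (hle.trans hH)).exists_card_eq
  have hlt : Nat.card ↥⁅H, G'⁆ < Nat.card H := by
    refine lt_of_le_of_ne (Nat.le_of_dvd Nat.card_pos (card_dvd_of_le hle)) fun h => hne ?_
    refine Replacement.eq_bot_of_le_commutator hM hH ?_
    exact (eq_of_le_of_card_ge hle h.ge).ge.trans (commutator_mono le_rfl hG')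
  rw [ha, hb] at hlt ⊢
  rw [← pow_succ']
  exact Nat.pow_le_pow_right (Fact.out : p.Prime).pos
    ((Nat.pow_lt_pow_iff_right (Fact.out : p.Prime).one_lt).mp hlt)

theorem iter_card {M : Subgroup L} (hM : IsPGroup p M) (hN : N ≤ M) (hG : G ≤ M)
    (hGN : G ≤ normalizer (N : Set L)) : ∀ i, iterCommutator N G i = ⊥ ∨
      p ^ i * Nat.card ↥(iterCommutator N G i) ≤ Nat.card N
  | 0 => Or.inr (by rw [pow_zero, one_mul]; rfl)
  | i + 1 => by
    by_cases h : iterCommutator N G i = ⊥
    · exact Or.inl (le_bot_iff.mp (h ▸ iter_succ_le hGN i))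
    refine Or.inr ?_
    obtain ⟨-, h2⟩ := comm_lt hM ((iter_le hGN i).1.trans hN) hG (iter_le hGN i).2 h
    rw [pow_succ, mul_assoc]
    exact (Nat.mul_le_mul_left _ h2).trans ((iter_card hM hN hG hGN i).resolve_left h)

end


/-- A p-group acts uniserially on a p-group N of order p^n exactly when the iterated commutator chain from N has length n; in that case the chain terms are all the invariant subgroups of N and they are normal in N. -/
theorem result {L : Type*} [Group L] [Finite L] {p : ℕ} [Fact p.Prime] (N G : Subgroup L) (hN : IsPGroup p N) (hG : IsPGroup p G) (hGN : G ≤ Subgroup.normalizer (N : Set L)) (n : ℕ) (hn : Nat.card N = p ^ n) : ((∀ H : Subgroup L, H ≤ N → G ≤ Subgroup.normalizer (H : Set L) → H ≠ ⊥ → (⁅H, G⁆).relIndex H = p) ↔ Cfsg.iterCommutator N G (n - 1) ≠ ⊥ ∨ n = 0) ∧ ((∀ H : Subgroup L, H ≤ N → G ≤ Subgroup.normalizer (H : Set L) → H ≠ ⊥ → (⁅H, G⁆).relIndex H = p) → ∀ H : Subgroup L, H ≤ N → G ≤ Subgroup.normalizer (H : Set L) → (∃ i ≤ n, H = Cfsg.iterCommutator N G i) ∧ N ≤ Subgroup.normalizer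 (H : Set L)) := by

  open Subgroup Cfsg.Agent.PLocal in
  have hp1 := (Fact.out : p.Prime).one_lt
  set M := N ⊔ G with hMdef
  have hM : IsPGroup p M := hN.to_sup_of_normal_left' hG hGN
  have hNM : N ≤ M := le_sup_left
  have hGM : G ≤ M := le_sup_right
  set K := Cfsg.iterCommutator N G with hK
  have hbot : K n = ⊥ := by
    rcases iter_card hM hNM hGM hGN n with h | h
    · exact h
    · rw [hn] at h
      refine card_eq_one.mp (le_antisymm ?_ Nat.card_pos)
      exact Nat.le_of_mul_le_mul_left (h.trans (mul_one _).ge) (pow_pos (Fact.out : p.Prime).pos n)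
  have hfwd : (∀ H : Subgroup L, H ≤ N → G ≤ normalizer (H : Set L) → H ≠ ⊥ → (⁅H, G⁆).relIndex H = p) →
      K (n - 1) ≠ ⊥ ∨ n = 0 := by
    intro hu
    rcases Nat.eq_zero_or_pos n with h | hpos
    · exact Or.inr h
    refine Or.inl ?_
    have key : ∀ i ≤ n, Nat.card ↥(K i) = p ^ (n - i) := by
      intro i
      induction i with
      | zero => exact fun _ => by simpa [hK, Cfsg.iterCommutator] using hn
      | succ i ih =>
        intro hi
        have hci := ih (by omega)
        have hne : K i ≠ ⊥ := fun h => by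
          rw [h, card_bot] at hci
          have := Nat.one_lt_pow (show n - i ≠ 0 by omega) hp1
          omega
        have h := card_mul_rel (iter_succ_le hGN i)
        rw [show (K (i + 1)).relIndex (K i) = p from hu (K i) (iter_le hGN i).1 (iter_le hGN i).2 hne,
          hci, show n - i = n - (i + 1) + 1 by omega, pow_succ] at h
        exact Nat.eq_of_mul_eq_mul_right (Fact.out : p.Prime).pos h
    intro h
    have := key (n - 1) (by omega)
    rw [h, card_bot, show n - (n - 1) = 1 by omega, pow_one] at this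
    omega
  have hbwd : (K (n - 1) ≠ ⊥ ∨ n = 0) → ∀ H : Subgroup L, H ≤ N → G ≤ normalizer (H : Set L) →
      ((∃ i ≤ n, H = K i) ∧ N ≤ normalizer (H : Set L)) ∧ (H ≠ ⊥ → (⁅H, G⁆).relIndex H = p) := by
    intro hlong H hHN hGH
    rcases eq_or_ne H ⊥ with rfl | hH
    · exact ⟨⟨⟨n, le_rfl, hbot.symm⟩, fun x _ => mem_normalizer_iff.mpr fun y => by simp⟩, fun h => absurd rfl h⟩
    have hn0 : n ≠ 0 := fun h => hH (card_eq_one.mp (Nat.eq_one_of_dvd_one (by
      have := card_dvd_of_le hHN; rwa [hn, h, pow_zero] at this)))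
    have hlong' := hlong.resolve_right hn0
    set D := Cfsg.iterCommutator N M with hD
    have hMN : M ≤ normalizer (N : Set L) := sup_le le_normalizer hGN
    have hKD : ∀ i, K i ≤ D i := by
      intro i
      induction i with
      | zero => exact le_rfl
      | succ i ih => exact commutator_mono ih hGM
    have hKne : ∀ i, i < n → K i ≠ ⊥ := by
      intro i hi h
      have hmono : Antitone K := antitone_nat_of_succ_le (iter_succ_le hGN)
      exact hlong' (le_bot_iff.mp (h ▸ hmono (by omega : i ≤ n - 1)))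
    have hDbot : D n = ⊥ := by
      rcases iter_card hM hNM le_rfl hMN n with h | h
      · exact h
      · rw [hn] at h
        refine card_eq_one.mp (le_antisymm ?_ Nat.card_pos)
        exact Nat.le_of_mul_le_mul_left (h.trans (mul_one _).ge) (pow_pos (Fact.out : p.Prime).pos n)
    have hlow : ∀ j, j ≤ n → p ^ j ≤ Nat.card ↥(K (n - j)) := by
      intro j
      induction j with
      | zero => intro _; rw [pow_zero]; exact Nat.card_pos
      | succ j ih =>
        intro hj
        obtain ⟨-, h⟩ := comm_lt hM ((iter_le hGN (n - (j + 1))).1.trans hNM) hGM (iter_le hGN _).2 (hKne _ (by omega))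
        refine le_trans ?_ h
        rw [pow_succ']
        refine Nat.mul_le_mul_left p ?_
        have := ih (by omega)
        rwa [show n - j = n - (j + 1) + 1 by omega] at this
    have hcard : ∀ i ≤ n, Nat.card ↥(K i) = p ^ (n - i) ∧ D i = K i := by
      intro i hi
      have hl := hlow (n - i) (by omega)
      rw [show n - (n - i) = i by omega] at hl
      have hDi : Nat.card ↥(D i) ≤ p ^ (n - i) := by
        rcases iter_card hM hNM le_rfl hMN i with h | h
        · rw [show D i = ⊥ from h, card_bot]; exact Nat.one_le_pow _ _ (Fact.out : p.Prime).pos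
        · rw [hn, show p ^ n = p ^ i * p ^ (n - i) by rw [← pow_add, Nat.add_sub_cancel' hi]] at h
          exact Nat.le_of_mul_le_mul_left h (pow_pos (Fact.out : p.Prime).pos i)
      have hkd := Nat.le_of_dvd Nat.card_pos (card_dvd_of_le (hKD i))
      exact ⟨le_antisymm (hkd.trans hDi) hl, (eq_of_le_of_card_ge (hKD i) (hDi.trans hl)).symm⟩
    have hKnorm : ∀ i, i ≤ n → M ≤ normalizer (K i : Set L) := fun i hi =>
      (hcard i hi).2 ▸ (iter_le hMN i).2
    classical
    have hex : ∃ i, ¬ H ≤ K i := ⟨n, fun h => hH (le_bot_iff.mp (hbot ▸ h))⟩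
    set i1 := Nat.find hex with hi1
    have hi1le : i1 ≤ n := Nat.find_le fun h => hH (le_bot_iff.mp (hbot ▸ h))
    have hi10 : i1 ≠ 0 := fun h => Nat.find_spec hex (by rw [← hi1, h]; exact hHN)
    set i := i1 - 1 with hi
    have hHi : H ≤ K i := not_not.mp (Nat.find_min hex (show i < i1 by omega))
    have hHi1 : ¬ H ≤ K (i + 1) := by rw [show i + 1 = i1 by omega]; exact Nat.find_spec hex
    have hnormle : ∀ j, j ≤ n → H ≤ normalizer (K j : Set L) := fun j hj =>
      (hHN.trans hNM).trans (hKnorm j hj)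
    have hstep : ∀ j, i + 1 ≤ j → j ≤ n → K i ≤ K j ⊔ H := by
      intro j hj
      induction j, hj using Nat.le_induction with
      | base =>
        intro hj
        refine le_of_eq (eq_of_le_of_card_ge (sup_le (iter_succ_le hGN i) hHi) ?_).symm
        have hlt : Nat.card ↥(K (i + 1)) < Nat.card ↥(K (i + 1) ⊔ H) := by
          refine lt_of_le_of_ne (Nat.le_of_dvd Nat.card_pos (card_dvd_of_le le_sup_left)) fun h => hHi1 ?_
          exact le_sup_right.trans (eq_of_le_of_card_ge le_sup_left h.ge).ge
        obtain ⟨a, ha, ha'⟩ := (Nat.dvd_prime_pow (Fact.out : p.Prime)).mp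
          ((hcard i (by omega)).1 ▸ card_dvd_of_le (sup_le (iter_succ_le hGN i) hHi))
        rw [ha', (hcard (i + 1) hj).1] at hlt
        have := (Nat.pow_lt_pow_iff_right hp1).mp hlt
        rw [(hcard i (by omega)).1, ha']
        exact Nat.pow_le_pow_right (Fact.out : p.Prime).pos (by omega)
      | succ j hj ih =>
        intro hj'
        have hih := ih (by omega)
        have h1 : K (i + 1) ≤ K (j + 1) ⊔ H := by
          refine commutator_le.mpr fun x hx g hg => ?_
          obtain ⟨k, hk, h, hh, rfl⟩ := (Cfsg.Agent.Coprime.mem_sup_of_le_normalizer (hnormle j (by omega))).mp (hih hx)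
          have e : ⁅k * h, g⁆ = k * ⁅h, g⁆ * k⁻¹ * ⁅k, g⁆ := by
            simp only [commutatorElement_def]; group
          have hhg : ⁅h, g⁆ ∈ H :=
            le_normalizer_iff_commutator_le_left.mp hGH (commutator_mem_commutator hh hg)
          rw [e]
          refine mul_mem ?_ (mem_sup_left (commutator_mem_commutator hk hg))
          -- `k` normalizes `K (j + 1) H`
          have hkH : ⁅k, ⁅h, g⁆⁆ ∈ K (j + 1) := by
            rw [← (hcard (j + 1) hj').2]
            exact commutator_mem_commutator ((hKD j) hk) (hNM (hHN hhg))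
          have : k * ⁅h, g⁆ * k⁻¹ = ⁅k, ⁅h, g⁆⁆ * ⁅h, g⁆ := by
            rw [commutatorElement_def k ⁅h, g⁆, inv_mul_cancel_right]
          rw [this]
          exact mul_mem (mem_sup_left hkH) (mem_sup_right hhg)
        exact (ih (by omega)).trans (sup_le (((show Antitone K from antitone_nat_of_succ_le (iter_succ_le hGN)) hj).trans h1) le_sup_right)
    have heq : H = K i := le_antisymm hHi (by
      have := hstep n (by omega) le_rfl
      rwa [hbot, bot_sup_eq] at this)
    refine ⟨⟨⟨i, by omega, heq⟩, hNM.trans (heq ▸ hKnorm i (by omega))⟩, fun _ => ?_⟩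
    have h := card_mul_rel (iter_succ_le hGN i)
    rw [(hcard i (by omega)).1, (hcard (i + 1) (by omega)).1, show n - i = n - (i + 1) + 1 by omega, pow_succ] at h
    rw [heq]
    exact Nat.eq_of_mul_eq_mul_left (pow_pos (Fact.out : p.Prime).pos _) h
  exact ⟨⟨hfwd, fun h H h1 h2 h3 => (hbwd h H h1 h2).2 h3⟩,
    fun hu H h1 h2 => (hbwd (hfwd hu) H h1 h2).1⟩

end Cfsg.Agent.S0663
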