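import Cfsg.Statements.S0666
import Cfsg.Agent.Lib.Characters.Frobenius

set_option autoImplicit false
open Cfsg

namespace Cfsg.Agent.S0666

theorem norm_trick {F W : Type*} [Group F] [Finite F] [CommGroup W] [Finite W] [MulDistribMulAction F W]
    (H : Subgroup F) (hH : Cfsg.IsFrobeniusComplement H)
    (hcop : (Nat.card W).Coprime (Nat.card (Cfsg.frobeniusKernel H)))
    (hK : ∀ w : W, (∀ k ∈ Cfsg.frobeniusKernel H, k • w = w) → w = 1)
    (hHfix : ∀ w : W, (∀ h ∈ H, h • w = w) → w = 1) (v : W) : v = 1 := by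
  classical
  have := Fintype.ofFinite F
  obtain ⟨N, hN, hNn, hc⟩ := Cfsg.Agent.Characters.frobenius_kernel_theorem hH
  have fix : ∀ (S : Subgroup F) (w : W) (s : S), (s : F) • ∏ t : S, (t : F) • w = ∏ t : S, (t : F) • w := by
    intro S w s
    rw [Finset.smul_prod']
    exact Fintype.prod_equiv (Equiv.mulLeft s) _ _ fun t => (mul_smul (s : F) (t : F) w).symm
  have hPN : ∀ w : W, ∏ t : N, (t : F) • w = 1 := fun w =>
    hK _ fun k hk => fix N w ⟨k, show k ∈ (N : Set F) by rw [hN]; exact hk⟩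
  have hPH : ∀ w : W, ∏ t : H, (t : F) • w = 1 := fun w => hHfix _ fun h hh => fix H w ⟨h, hh⟩
  have hPF : ∀ w : W, ∏ t : F, t • w = 1 := by
    intro w
    refine hHfix _ fun h _ => ?_
    rw [Finset.smul_prod']
    exact Fintype.prod_equiv (Equiv.mulLeft h) _ _ fun t => (mul_smul h t w).symm
  let Φ : N × H → F := fun x => if x.2 = 1 then (x.1 : F) else x.1 * x.2 * (x.1 : F)⁻¹
  have hnotN : ∀ (k : N) (h : H), h ≠ 1 → (k : F) * h * (k : F)⁻¹ ∉ N := by
    intro k h hh hmem
    have h1 := hNn.conj_mem _ hmem (k : F)⁻¹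
    have h2 : (h : F) ∈ N := by simpa [mul_assoc] using h1
    exact hh (Subtype.ext ((Subgroup.disjoint_def.mp hc.disjoint) h2 h.2))
  have hΦ : Function.Bijective Φ := by
    refine (Fintype.bijective_iff_injective_and_card Φ).mpr ⟨?_, ?_⟩
    · rintro ⟨k, h⟩ ⟨k', h'⟩ e
      by_cases hh : h = 1 <;> by_cases hh' : h' = 1 <;> simp only [Φ, hh, hh', if_true, if_false] at e
      · rw [Subtype.ext e, hh, hh']
      · exact absurd (e ▸ k.2) (hnotN k' h' hh')
      · exact absurd (e.symm ▸ k'.2) (hnotN k h hh)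
      · have hm : (k : F)⁻¹ * k' ∈ H := by
          refine Cfsg.Agent.Characters.mem_of_frobenius_meet hH h.2 ?_ fun e1 => hh (Subtype.ext e1)
          have : ((k : F)⁻¹ * k')⁻¹ * h * ((k : F)⁻¹ * k') = h' := by
            calc _ = (k' : F)⁻¹ * (k * h * (k : F)⁻¹) * k' := by group
              _ = (k' : F)⁻¹ * (k' * h' * (k' : F)⁻¹) * k' := by rw [e]
              _ = h' := by group
          rw [this]; exact h'.2
        have hk : k = k' := Subtype.ext (inv_mul_eq_one.mp
          ((Subgroup.disjoint_def.mp hc.disjoint) (N.mul_mem (N.inv_mem k.2) k'.2) hm))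
        subst hk
        exact Prod.ext rfl (Subtype.ext (mul_left_cancel (mul_right_cancel e)))
    · rw [Fintype.card_prod, ← Nat.card_eq_fintype_card, ← Nat.card_eq_fintype_card,
        ← Nat.card_eq_fintype_card, hc.card_mul_card]
  have hrow : ∀ k : N, (∏ h : H, Φ (k, h) • v) * v = (k : F) • v := by
    intro k
    have e1 := Finset.mul_prod_erase Finset.univ (fun h : H => Φ (k, h) • v) (Finset.mem_univ 1)
    have e2 := Finset.mul_prod_erase Finset.univ (fun h : H => ((k : F) * h * (k : F)⁻¹) • v) (Finset.mem_univ 1)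
    have e3 : (∏ h : H, ((k : F) * h * (k : F)⁻¹) • v) = 1 := by
      calc _ = (k : F) • ∏ h : H, (h : F) • ((k : F)⁻¹ • v) := by
            rw [Finset.smul_prod']; exact Finset.prod_congr rfl fun h _ => by rw [mul_smul, mul_smul]
        _ = 1 := by rw [hPH, smul_one]
    have e4 : ∀ h ∈ (Finset.univ : Finset H).erase 1, Φ (k, h) • v = ((k : F) * h * (k : F)⁻¹) • v :=
      fun h hh => by simp only [Φ, if_neg (Finset.ne_of_mem_erase hh)]
    rw [Finset.prod_congr rfl e4] at e1
    simp only [OneMemClass.coe_one, mul_one, mul_inv_cancel, one_smul] at e2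
    rw [e3] at e2
    have e5 : Φ (k, 1) = (k : F) := if_pos rfl
    rw [← e1, e5, mul_assoc, mul_comm _ v, e2, mul_one]
  have htot : (∏ x : N × H, Φ x • v) * v ^ Nat.card N = 1 := by
    rw [Nat.card_eq_fintype_card, ← Finset.card_univ, ← Finset.prod_const, Fintype.prod_prod_type,
      ← Finset.prod_mul_distrib]
    simp only [hrow, hPN]
  rw [Fintype.prod_bijective Φ hΦ _ (fun t : F => t • v) (fun _ => rfl), hPF, one_mul] at htot
  have hcard : Nat.card N = Nat.card (Cfsg.frobeniusKernel H) :=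
    Nat.card_congr (Equiv.setCongr hN)
  rw [← orderOf_eq_one_iff]
  exact Nat.eq_one_of_dvd_coprimes hcop (orderOf_dvd_natCard v)
    (hcard ▸ orderOf_dvd_of_pow_eq_one htot)


/-- A Frobenius group acting on a nontrivial abelian group of order prime to that of its kernel, with the kernel acting without nontrivial fixed points, has a complement with a nontrivial fixed point. -/
theorem result {G : Type*} [Group G] [Finite G] (V F : Subgroup G) (hVab : IsMulCommutative V) (hV1 : V ≠ ⊥) (hFV : F ≤ Subgroup.normalizer (V : Set G)) (H : Subgroup ↥F) (hH : Cfsg.IsFrobeniusComplement H) (hcop : (Nat.card V).Coprime (Nat.card (Cfsg.frobeniusKernel H))) (hCK : V ⊓ Subgroup.centralizer (Subtype.val '' Cfsg.frobeniusKernel H : Set G) = ⊥) : V ⊓ Subgroup.centralizer ((H.map F.subtype : Subgroup G) : Set G) ≠ ⊥ := by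
  intro hbot
  letI : CommGroup V := { (inferInstance : Group V) with mul_comm := fun a b => hVab.is_comm.comm a b }
  letI : MulDistribMulAction F V :=
    { smul := fun f v => ⟨(f : G) * (v : G) * (f : G)⁻¹, (Subgroup.mem_normalizer_iff.mp (hFV f.2) v).mp v.2⟩
      one_smul := fun v => Subtype.ext (by show ((1 : F) : G) * (v : G) * ((1 : F) : G)⁻¹ = (v : G); simp)
      mul_smul := fun f g v => Subtype.ext (by
        show ((f * g : F) : G) * (v : G) * ((f * g : F) : G)⁻¹ = (f : G) * ((g : G) * (v : G) * (g : G)⁻¹) * (f : G)⁻¹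
        rw [Subgroup.coe_mul]; group)
      smul_one := fun f => Subtype.ext (by show (f : G) * ((1 : V) : G) * (f : G)⁻¹ = ((1 : V) : G); simp)
      smul_mul := fun f v w => Subtype.ext (by
        show (f : G) * ((v * w : V) : G) * (f : G)⁻¹ = _
        rw [Subgroup.coe_mul, Subgroup.coe_mul]
        show _ = ((f : G) * (v : G) * (f : G)⁻¹) * ((f : G) * (w : G) * (f : G)⁻¹)
        group) }
  have key : ∀ (w : V) (f : F), f • w = w → (f : G) * w = w * f := by
    intro w f h
    exact mul_inv_eq_iff_eq_mul.mp (congrArg Subtype.val h)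
  refine hV1 ((Subgroup.eq_bot_iff_forall _).mpr fun x hx => congrArg Subtype.val
    (norm_trick H hH hcop ?_ ?_ (⟨x, hx⟩ : V)))
  · intro w hw
    refine Subtype.ext ((Subgroup.eq_bot_iff_forall _).mp hCK _ ⟨w.2, ?_⟩)
    rintro _ ⟨k, hk, rfl⟩
    exact key w k (hw k hk)
  · intro w hw
    refine Subtype.ext ((Subgroup.eq_bot_iff_forall _).mp hbot _ ⟨w.2, ?_⟩)
    rintro _ ⟨h, hh, rfl⟩
    exact key w h (hw h hh)

end Cfsg.Agent.S0666
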