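import Cfsg.Statements.S0667
import Cfsg.Agent.Lib.PLocal.ZJ
import Cfsg.Agent.Lib.PLocal.StableNormal
import Cfsg.Agent.S0632
import Cfsg.Agent.InvChar.PConstrained
import Cfsg.Agent.Lib.Components.Local

set_option autoImplicit false
open Cfsg

namespace Cfsg.Agent.S0667

/-- Glauberman's Theorem in the p-constrained, p-stable vocabulary: for odd p such a group is the product of its largest normal subgroup of order prime to p with the normalizer of Z(J(P)), and Z(J(P)) is normal when that p'-subgroup is trivial. -/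
theorem result {G : Type*} [Group G] [Finite G] {p : ℕ} [Fact p.Prime] (hp : p ≠ 2) (hc : Cfsg.IsPConstrained p G) (hs : Cfsg.IsPStable p G) (P : Sylow p G) : Cfsg.pPrimeCore p G ⊔ Subgroup.normalizer (Cfsg.centerThompsonAOf ((P : Subgroup G)) : Set G) = ⊤ ∧ (Cfsg.pPrimeCore p G = ⊥ → (Cfsg.centerThompsonAOf ((P : Subgroup G))).Normal) := by
  open Cfsg.Agent.PLocal in
  set R := Cfsg.pPrimeCore p G with hR
  have hO := hs.2.1
  have main : ∀ {X : Type _} [Group X] [Finite X], Cfsg.pPrimeCore p X = ⊥ →
      Cfsg.IsPStable p X → Subgroup.centralizer (Cfsg.pCore p X : Set X) ≤ Cfsg.pCore p X → ∀ T : Sylow p X,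
        (MaxAbelian.core 0 (T : Subgroup X)).Normal := fun hX hsX hcX T =>
    ZJ.core_normal hp hcX 0
      (fun V _ hV => StableNormal.of_isPStable hsX hX V hV) T
  refine ⟨?_, fun h => ?_⟩
  · set q := QuotientGroup.mk' R with hq
    have hqs := QuotientGroup.mk'_surjective R
    have hn := main Cores.pPrimeCore_quotient_pPrimeCore ((Cfsg.Agent.S0632.result hO).mp hs)
      (Cfsg.Agent.InvChar.PConstrained.iff_char.mp hc) (P.mapSurjective hqs)
    have hinj : ∀ x ∈ (P : Subgroup G), q x = 1 → x = 1 := by
      intro x hx h1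
      have : x ∈ (P : Subgroup G) ⊓ R := ⟨hx, (QuotientGroup.eq_one_iff x).mp h1⟩
      rw [Cores.inf_eq_bot_of_isPGroup_of_coprime P.2 Cores.coprime_card_pPrimeCore] at this
      exact Subgroup.mem_bot.mp this
    set W := MaxAbelian.core 0 (P : Subgroup G) with hW
    have hWP : W ≤ (P : Subgroup G) := MaxAbelian.core_le 0 _
    let f : (P : Subgroup G) →* G ⧸ R := q.comp (P : Subgroup G).subtype
    have hf : Function.Injective f := by
      rw [injective_iff_map_eq_one]
      exact fun x hx => Subtype.ext (hinj x x.2 hx)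
    have hWimg : W.map q = MaxAbelian.core 0 ((P : Subgroup G).map q) := by
      have h1 := MaxAbelian.core_map 0 hf (⊤ : Subgroup (P : Subgroup G))
      have h2 := MaxAbelian.core_map 0 (P : Subgroup G).subtype_injective (⊤ : Subgroup (P : Subgroup G))
      rw [← MonoidHom.range_eq_map, MonoidHom.range_comp, Subgroup.range_subtype] at h1
      rw [← MonoidHom.range_eq_map, Subgroup.range_subtype] at h2
      rw [h1, hW, h2, Subgroup.map_map]
    have hWp : IsPGroup p W := P.2.to_le hWP
    rw [MaxAbelian.centerThompsonA_eq, eq_top_iff]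
    intro g _
    have hmem : q g ∈ Subgroup.normalizer ((W.map q : Subgroup (G ⧸ R)) : Set (G ⧸ R)) := by
      have hn' : (W.map q).Normal := by rw [hWimg]; exact hn
      exact Subgroup.le_normalizer_of_normal (Subgroup.mem_top _)
    rw [← Cfsg.Agent.Components.Local.map_normalizer_eq hWp Cores.coprime_card_pPrimeCore] at hmem
    obtain ⟨n, hn', he⟩ := hmem
    have : g = (g * n⁻¹) * n := by group
    rw [this]
    refine mul_mem (Subgroup.mem_sup_left ?_) (Subgroup.mem_sup_right hn')
    exact (QuotientGroup.eq_one_iff _).mp (by show q (g * n⁻¹) = 1; rw [map_mul, map_inv, he, mul_inv_cancel])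
  · rw [MaxAbelian.centerThompsonA_eq]
    exact main h hs ((Cfsg.Agent.InvChar.PConstrained.iff_of_surjective (MonoidHom.id G) Function.surjective_id
      (by rw [(MonoidHom.ker_eq_bot_iff _).mpr Function.injective_id]; simp) h).mp hc) P

end Cfsg.Agent.S0667
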