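import Cfsg.Statements.S0668
-- import your own Cfsg.Agent.* helpers here

set_option autoImplicit false
open Cfsg

namespace Cfsg.Agent.S0668

/-- The equivariant linear maps between the permutation modules of two finite `G`-sets form a space whose dimension is the number of `G`-orbits on the product of the two sets. -/
theorem result {G : Type*} [Group G] {K : Type*} [Field K] {Ω₁ Ω₂ : Type*} [Fintype Ω₁] [Fintype Ω₂] [MulAction G Ω₁] [MulAction G Ω₂] : Module.finrank K ((Cfsg.permRep K G Ω₁).linHom (Cfsg.permRep K G Ω₂)).invariants = Nat.card (MulAction.orbitRel.Quotient G (Ω₁ × Ω₂)) := by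
  classical
  have hmem : ∀ f : (Ω₁ → K) →ₗ[K] (Ω₂ → K),
      f ∈ ((Cfsg.permRep K G Ω₁).linHom (Cfsg.permRep K G Ω₂)).invariants ↔
        ∀ (g : G) (x : Ω₁) (y : Ω₂), f (Pi.single (g • x) 1) (g • y) = f (Pi.single x 1) y := by
    intro f
    rw [Representation.mem_invariants]
    have happ : ∀ (g : G) (x : Ω₁) (y : Ω₂),
        (((Cfsg.permRep K G Ω₁).linHom (Cfsg.permRep K G Ω₂)) g f) (Pi.single x 1) y =
          f (Pi.single (g⁻¹ • x) 1) (g⁻¹ • y) := by
      intro g x y
      have hs : (fun z : Ω₁ => (Pi.single x (1 : K) : Ω₁ → K) (g⁻¹⁻¹ • z)) =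
          Pi.single (g⁻¹ • x) 1 := by
        funext z
        rw [inv_inv]
        by_cases hz : z = g⁻¹ • x
        · subst hz; rw [smul_inv_smul, Pi.single_eq_same, Pi.single_eq_same]
        · rw [Pi.single_eq_of_ne hz, Pi.single_eq_of_ne]
          intro h; exact hz (by rw [← h, inv_smul_smul])
      simp only [Representation.linHom_apply, LinearMap.coe_comp, Function.comp_apply]
      show f (fun z : Ω₁ => (Pi.single x (1 : K) : Ω₁ → K) (g⁻¹⁻¹ • z)) (g⁻¹ • y) = _
      rw [hs]
    constructor
    · intro h g x y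
      have := congrArg (fun F : (Ω₁ → K) →ₗ[K] (Ω₂ → K) => F (Pi.single (g • x) 1) (g • y)) (h g)
      simp only [happ, inv_smul_smul] at this
      exact this.symm
    · intro h g
      refine (Pi.basisFun K Ω₁).ext fun x => funext fun y => ?_
      rw [Pi.basisFun_apply, happ]
      have := h g (g⁻¹ • x) (g⁻¹ • y)
      rw [smul_inv_smul, smul_inv_smul] at this
      exact this.symm
  let Q := MulAction.orbitRel.Quotient G (Ω₁ × Ω₂)
  let T : (Q → K) → ((Ω₁ → K) →ₗ[K] (Ω₂ → K)) := fun φ =>
    (Pi.basisFun K Ω₁).constr K fun x y => φ (Quotient.mk'' (x, y))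
  have hT : ∀ φ x y, T φ (Pi.single x 1) y = φ (Quotient.mk'' (x, y)) := by
    intro φ x y
    simp only [T, ← Pi.basisFun_apply, Module.Basis.constr_basis]
  let e : ((Cfsg.permRep K G Ω₁).linHom (Cfsg.permRep K G Ω₂)).invariants ≃ₗ[K] (Q → K) :=
    { toFun := fun f q => Quotient.liftOn' q (fun p => f.1 (Pi.single p.1 1) p.2) (by
        rintro p q ⟨g, rfl⟩
        exact (hmem f.1).1 f.2 g q.1 q.2)
      map_add' := fun f f' => funext fun q => Quotient.inductionOn' q fun p => rfl
      map_smul' := fun c f => funext fun q => Quotient.inductionOn' q fun p => rfl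
      invFun := fun φ => ⟨T φ, (hmem _).2 fun g x y => by
        rw [hT, hT]
        exact congrArg φ (Quotient.sound' ⟨g, rfl⟩)⟩
      left_inv := fun f => Subtype.ext ((Pi.basisFun K Ω₁).ext fun x => funext fun y => by
        rw [Pi.basisFun_apply]; exact hT _ x y)
      right_inv := fun φ => funext fun q => Quotient.inductionOn' q fun p => hT φ p.1 p.2 }
  have : Fintype Q := Fintype.ofFinite Q
  rw [e.finrank_eq, Module.finrank_fintype_fun_eq_card, Nat.card_eq_fintype_card]

end Cfsg.Agent.S0668
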