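import Cfsg.Statements.S0670
import Cfsg.Agent.Lib.Perm.Basic

set_option autoImplicit false
open Cfsg

namespace Cfsg.Agent.S0670

/-- In characteristic `p`, the permutation module of a transitive action of degree `p ^ f` has the line of constant functions as its only irreducible submodule: every non-zero subrepresentation contains it. -/
theorem result {G : Type*} [Group G] [Finite G] {K : Type*} [Field K] {p f : ℕ} [Fact p.Prime] [CharP K p] {Ω : Type*} [Fintype Ω] [MulAction G Ω] [MulAction.IsPretransitive G Ω] (hf : 1 ≤ f) (hcard : Fintype.card Ω = p ^ f) (W : Subrepresentation (Cfsg.permRep K G Ω)) (hW : W.toSubmodule ≠ ⊥) : (Cfsg.permConstants K G Ω).toSubmodule ≤ W.toSubmodule := by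
  classical
  obtain ⟨w, hwW, hw0⟩ := Submodule.exists_mem_ne_zero_of_ne_bot hW
  obtain ⟨P⟩ : Nonempty (Sylow p G) := inferInstance
  have hP : MulAction.IsPretransitive (P : Subgroup G) Ω :=
    Cfsg.Agent.Perm.Basic.sylow_isPretransitive
      (by rw [Nat.card_eq_fintype_card, hcard]) P
  let O : Set (Ω → K) := Set.range fun g : (P : Subgroup G) => Cfsg.permRep K G Ω g w
  let A : AddSubgroup (Ω → K) := AddSubgroup.closure O
  have hAW : A ≤ W.toSubmodule.toAddSubgroup := by
    rw [AddSubgroup.closure_le]
    rintro _ ⟨g, rfl⟩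
    exact W.apply_mem_toSubmodule _ hwW
  have htor : ∀ v : Ω → K, p • v = 0 := fun v => funext fun x => by simp
  have : Finite A := by
    have : AddGroup.FG A := by
      rw [AddGroup.fg_iff_addSubgroup_fg]
      exact ⟨(Set.finite_range _).toFinset, by rw [Set.Finite.coe_toFinset]⟩
    refine AddCommGroup.finite_of_fg_isAddTorsion A fun a => ?_
    exact isOfFinAddOrder_iff_nsmul_eq_zero.2
      ⟨p, (Fact.out : p.Prime).pos, Subtype.ext (htor (a : Ω → K))⟩
  have hstab : ∀ (g : (P : Subgroup G)) (v : Ω → K), v ∈ A → Cfsg.permRep K G Ω g v ∈ A := by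
    intro g v hv
    induction hv using AddSubgroup.closure_induction with
    | mem x hx =>
      obtain ⟨h, rfl⟩ := hx
      refine AddSubgroup.subset_closure ⟨g * h, ?_⟩
      simp [map_mul]
    | zero => simp
    | add x y _ _ hx hy => simpa using add_mem hx hy
    | neg x _ hx => simpa using neg_mem hx
  let _ : MulAction (P : Subgroup G) A :=
    { smul := fun g v => ⟨Cfsg.permRep K G Ω g v, hstab g v v.2⟩
      mul_smul := fun g h v => Subtype.ext (by
        show Cfsg.permRep K G Ω ((g * h : (P : Subgroup G)) : G) v = _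
        rw [Subgroup.coe_mul, map_mul]; rfl)
      one_smul := fun v => Subtype.ext (by
        show Cfsg.permRep K G Ω ((1 : (P : Subgroup G)) : G) v = _
        rw [OneMemClass.coe_one, map_one]; rfl) }
  have hfix0 : (0 : A) ∈ MulAction.fixedPoints (P : Subgroup G) A :=
    fun g => Subtype.ext (map_zero (Cfsg.permRep K G Ω g))
  have hwA : w ∈ A := AddSubgroup.subset_closure ⟨1, by simp⟩
  have hpA : p ∣ Nat.card A := by
    have : addOrderOf (⟨w, hwA⟩ : A) = p :=
      addOrderOf_eq_prime (Subtype.ext (by simpa using htor w))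
        (fun h => hw0 (congrArg Subtype.val h))
    exact this ▸ addOrderOf_dvd_natCard _
  obtain ⟨v, hv, hv0⟩ :=
    P.isPGroup'.exists_fixed_point_of_prime_dvd_card_of_fixed_point A hpA hfix0
  obtain ⟨x, hx⟩ : ∃ x, (v : Ω → K) x ≠ 0 := by
    by_contra h
    push Not at h
    exact hv0 (Subtype.ext (funext h)).symm
  have hconst : ∀ y, (v : Ω → K) y = (v : Ω → K) x := by
    intro y
    obtain ⟨g, rfl⟩ := hP.exists_smul_eq x y
    have := congrArg (fun u : A => (u : Ω → K) ((g : G) • x)) (hv g)
    show (v : Ω → K) ((g : G) • x) = _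
    rw [← this]
    show (v : Ω → K) ((g : G)⁻¹ • ((g : G) • x)) = _
    rw [inv_smul_smul]
  show Submodule.span K {fun _ => 1} ≤ W.toSubmodule
  rw [Submodule.span_singleton_le_iff_mem]
  have : (fun _ => (1 : K)) = ((v : Ω → K) x)⁻¹ • (v : Ω → K) :=
    funext fun y => by simp [hconst y, hx]
  rw [this]
  exact W.toSubmodule.smul_mem _ (hAW v.2)

end Cfsg.Agent.S0670
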