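import Cfsg.Statements.S0671
import Cfsg.Agent.S0670

set_option autoImplicit false
open Cfsg

namespace Cfsg.Agent.S0671

/-- If the heart of the permutation module in characteristic `p` of a transitive action of degree `p ^ f` has no trivial composition factor, the action is doubly transitive. The hypothesis is phrased without composition series: no invariant subspaces `W < W'` between the constants and the sum-zero functions with trivial action on the quotient. -/
theorem result {G : Type*} [Group G] [Finite G] {K : Type*} [Field K] {p f : ℕ} [Fact p.Prime] [CharP K p] {Ω : Type*} [Fintype Ω] [MulAction G Ω] [MulAction.IsPretransitive G Ω] (hf : 1 ≤ f) (hcard : Fintype.card Ω = p ^ f) (h : ∀ W W' : Subrepresentation (Cfsg.permRep K G Ω), (Cfsg.permConstants K G Ω).toSubmodule ≤ W.toSubmodule → W.toSubmodule < W'.toSubmodule → W'.toSubmodule ≤ (Cfsg.permSumZero K G Ω).toSubmodule → ∃ g : G, ∃ v ∈ W'.toSubmodule, Cfsg.permRep K G Ω g v - v ∉ W.toSubmodule) : MulAction.IsMultiplyPretransitive G Ω 2 := by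
  classical
  haveI : Nonempty Ω := Fintype.card_pos_iff.1 (hcard ▸ pow_pos (Fact.out : p.Prime).pos f)
  -- every invariant subspace not inside the sum-zero functions is everything
  have hmax : ∀ W : Subrepresentation (Cfsg.permRep K G Ω), ∀ w ∈ W.toSubmodule,
      ∑ x, w x ≠ 0 → W.toSubmodule = ⊤ := by
    intro W w hw hsum
    by_contra hne
    obtain ⟨φ, hφ0, hφW⟩ := W.toSubmodule.exists_le_ker_of_lt_top (lt_top_iff_ne_top.2 hne)
    let Ann : Subrepresentation (Cfsg.permRep K G Ω) :=
      { toSubmodule :=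
          { carrier := {u | ∀ x ∈ W.toSubmodule, ∑ y, u y * x y = 0}
            zero_mem' := fun x _ => by simp
            add_mem' := fun {u u'} hu hu' x hx => by
              simp [add_mul, Finset.sum_add_distrib, hu x hx, hu' x hx]
            smul_mem' := fun c u hu x hx => by
              simp [mul_assoc, ← Finset.mul_sum, hu x hx] }
        apply_mem_toSubmodule := fun g u hu x hx => by
          have h1 := hu _ (W.apply_mem_toSubmodule g⁻¹ hx)
          rw [← h1]
          refine Fintype.sum_equiv (MulAction.toPerm g⁻¹) _ _ fun y => ?_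
          show u (g⁻¹ • y) * x y = u (g⁻¹ • y) * x ((g⁻¹)⁻¹ • g⁻¹ • y)
          rw [inv_smul_smul] }
    have hu : (fun y => φ (Pi.single y (1 : K))) ∈ Ann.toSubmodule := by
      intro x hx
      have hx0 : φ x = 0 := hφW hx
      rw [← hx0]
      conv_rhs => rw [pi_eq_sum_univ' x]
      rw [map_sum]
      exact Finset.sum_congr rfl fun y _ => by simp [mul_comm]
    have hAnn : Ann.toSubmodule ≠ ⊥ := fun hb => by
      rw [hb, Submodule.mem_bot] at hu
      refine hφ0 (LinearMap.pi_ext' fun y => LinearMap.ext_ring ?_)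
      simpa using congrFun hu y
    have h1 : (fun _ => (1 : K)) ∈ Ann.toSubmodule :=
      S0670.result hf hcard Ann hAnn (Submodule.mem_span_singleton_self _)
    have h2 := h1 w hw
    simp only [one_mul] at h2
    exact hsum h2
  -- vectors fixed by a point stabiliser
  have hfix : ∀ (a : Ω) (v : Ω → K),
      (∀ g ∈ MulAction.stabilizer G a, ∀ x, v (g • x) = v x) → ∑ x, v x = 0 →
      ∃ c : K, ∀ x, v x = c := by
    intro a v hv hv0
    choose t ht using fun y : Ω => MulAction.exists_smul_eq G a y
    let A : (Ω → K) →ₗ[K] (Ω → K) :=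
      Matrix.toLin' (Matrix.of fun x y => v ((t y)⁻¹ • x))
    have hA : ∀ w x, A w x = ∑ y, v ((t y)⁻¹ • x) * w y := fun w x => by
      simp [A, Matrix.toLin'_apply, Matrix.mulVec, dotProduct]
    have heq : ∀ g w, A (Cfsg.permRep K G Ω g w) = Cfsg.permRep K G Ω g (A w) := by
      intro g w
      funext x
      show A (Cfsg.permRep K G Ω g w) x = A w (g⁻¹ • x)
      rw [hA, hA]
      refine Fintype.sum_equiv (MulAction.toPerm g⁻¹) _ _ fun y => ?_
      show v ((t y)⁻¹ • x) * w (g⁻¹ • y) = v ((t (g⁻¹ • y))⁻¹ • g⁻¹ • x) * w (g⁻¹ • y)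
      congr 1
      have hh : (t (g⁻¹ • y))⁻¹ * g⁻¹ * t y ∈ MulAction.stabilizer G a := by
        rw [MulAction.mem_stabilizer_iff, mul_smul, mul_smul, ht, inv_smul_eq_iff, ht]
      rw [← hv _ hh ((t y)⁻¹ • x), mul_smul, mul_smul, smul_inv_smul]
    have hAU : ∀ w, A w ∈ (Cfsg.permSumZero K G Ω).toSubmodule := by
      intro w
      show ∑ x, A w x = 0
      simp only [hA]
      rw [Finset.sum_comm]
      refine Finset.sum_eq_zero fun y _ => ?_
      rw [← Finset.sum_mul, Fintype.sum_equiv (MulAction.toPerm (t y)⁻¹)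
        (fun x => v ((t y)⁻¹ • x)) v (fun x => rfl), hv0, zero_mul]
    let W : Subrepresentation (Cfsg.permRep K G Ω) :=
      { toSubmodule := (Cfsg.permSumZero K G Ω).toSubmodule.map A ⊔
          (Cfsg.permConstants K G Ω).toSubmodule
        apply_mem_toSubmodule := fun g z hz => by
          obtain ⟨z1, hz1, z2, hz2, rfl⟩ := Submodule.mem_sup.1 hz
          obtain ⟨w, hw, rfl⟩ := hz1
          rw [map_add, ← heq]
          exact Submodule.add_mem_sup
            ⟨_, (Cfsg.permSumZero K G Ω).apply_mem_toSubmodule g hw, rfl⟩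
            ((Cfsg.permConstants K G Ω).apply_mem_toSubmodule g hz2) }
    let W' : Subrepresentation (Cfsg.permRep K G Ω) :=
      { toSubmodule := LinearMap.range A ⊔ (Cfsg.permConstants K G Ω).toSubmodule
        apply_mem_toSubmodule := fun g z hz => by
          obtain ⟨z1, hz1, z2, hz2, rfl⟩ := Submodule.mem_sup.1 hz
          obtain ⟨w, rfl⟩ := hz1
          rw [map_add, ← heq]
          exact Submodule.add_mem_sup ⟨_, rfl⟩
            ((Cfsg.permConstants K G Ω).apply_mem_toSubmodule g hz2) }
    have hle : W.toSubmodule ≤ W'.toSubmodule := sup_le_sup_right LinearMap.map_le_range _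
    have hW'U : W'.toSubmodule ≤ (Cfsg.permSumZero K G Ω).toSubmodule := by
      refine sup_le ?_ ((Submodule.span_singleton_le_iff_mem _ _).2 ?_)
      · rintro _ ⟨w, rfl⟩
        exact hAU w
      · show ∑ _x : Ω, (1 : K) = 0
        rw [Finset.sum_const, Finset.card_univ, hcard, nsmul_eq_mul, mul_one, Nat.cast_pow,
          CharP.cast_eq_zero, zero_pow (by omega)]
    have heqW : W'.toSubmodule ≤ W.toSubmodule := by
      by_contra hn
      obtain ⟨g, z, hz, hzg⟩ := h W W' le_sup_right (lt_of_le_not_ge hle hn) hW'U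
      apply hzg
      obtain ⟨z1, hz1, z2, hz2, rfl⟩ := Submodule.mem_sup.1 hz
      obtain ⟨w, rfl⟩ := hz1
      rw [map_add, ← heq, add_sub_add_comm, ← map_sub]
      refine Submodule.add_mem_sup ⟨_, ?_, rfl⟩
        (Submodule.sub_mem _ ((Cfsg.permConstants K G Ω).apply_mem_toSubmodule g hz2) hz2)
      show ∑ x, (Cfsg.permRep K G Ω g w - w) x = 0
      simp only [Pi.sub_apply, Finset.sum_sub_distrib, sub_eq_zero]
      exact Fintype.sum_equiv (MulAction.toPerm g⁻¹) _ _ fun x => rfl
    obtain ⟨z1, hz1, z2, hz2, hz⟩ :=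
      Submodule.mem_sup.1 (heqW (Submodule.mem_sup_left ⟨Pi.single a 1, rfl⟩))
    obtain ⟨u, hu, rfl⟩ := hz1
    let Pre : Subrepresentation (Cfsg.permRep K G Ω) :=
      { toSubmodule := (Cfsg.permConstants K G Ω).toSubmodule.comap A
        apply_mem_toSubmodule := fun g z hz => by
          show A _ ∈ (Cfsg.permConstants K G Ω).toSubmodule
          rw [heq]
          exact (Cfsg.permConstants K G Ω).apply_mem_toSubmodule g hz }
    have hmem : Pi.single a (1 : K) - u ∈ Pre.toSubmodule := by
      show A _ ∈ (Cfsg.permConstants K G Ω).toSubmodule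
      rw [map_sub, ← hz, add_sub_cancel_left]
      exact hz2
    have htop := hmax Pre _ hmem (by
      have hu' : ∑ x, u x = 0 := hu
      simp [Pi.sub_apply, Finset.sum_sub_distrib, hu', Pi.single_apply])
    have hmem' : Pi.single a (1 : K) ∈ Pre.toSubmodule := htop ▸ Submodule.mem_top
    obtain ⟨c, hc⟩ := Submodule.mem_span_singleton.1
      (hmem' : A (Pi.single a (1 : K)) ∈ Submodule.span K {fun _ => (1 : K)})
    refine ⟨c, fun x => ?_⟩
    have h1 := congrFun hc ((t a) • x)
    simp only [Pi.smul_apply, smul_eq_mul, mul_one] at h1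
    rw [hA, Finset.sum_eq_single a (fun y _ hy => by simp [hy]) (by simp), Pi.single_eq_same,
      mul_one, inv_smul_smul] at h1
    exact h1.symm
  -- conclusion
  have hst : ∀ a b c : Ω, b ≠ a → c ≠ a → ∃ g : G, g • a = a ∧ g • b = c := by
    intro a b c hb hc
    let o : Ω → K := fun x => if x ∈ MulAction.orbit (MulAction.stabilizer G a) b then 1 else 0
    have ho : ∀ g ∈ MulAction.stabilizer G a, ∀ x, o (g • x) = o x := by
      intro g hg x
      have : g • x ∈ MulAction.orbit (MulAction.stabilizer G a) b ↔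
          x ∈ MulAction.orbit (MulAction.stabilizer G a) b := by
        rw [show g • x = (⟨g, hg⟩ : MulAction.stabilizer G a) • x from rfl, ← MulAction.orbit_eq_iff,
          MulAction.orbit_smul, MulAction.orbit_eq_iff]
      simp only [o, this]
    set s := ∑ x, o x
    obtain ⟨k, hk⟩ := hfix a (o - Pi.single a s) (fun g hg x => by
      simp only [Pi.sub_apply, ho g hg x]
      congr 1
      by_cases hx : x = a
      · subst hx; rw [MulAction.mem_stabilizer_iff.1 hg]
      · rw [Pi.single_eq_of_ne hx, Pi.single_eq_of_ne]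
        exact fun h => hx (MulAction.injective g (h.trans (MulAction.mem_stabilizer_iff.1 hg).symm)))
      (by simp [Pi.sub_apply, Finset.sum_sub_distrib, s])
    have h1 := hk b
    have h2 := hk c
    rw [Pi.sub_apply, Pi.single_eq_of_ne hb, sub_zero] at h1
    rw [Pi.sub_apply, Pi.single_eq_of_ne hc, sub_zero, ← h1] at h2
    simp only [o, MulAction.mem_orbit_self, if_true] at h2
    by_cases hm : c ∈ MulAction.orbit (MulAction.stabilizer G a) b
    · obtain ⟨g, hg⟩ := hm
      exact ⟨g, g.2, hg⟩
    · rw [if_neg hm] at h2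
      exact absurd h2 zero_ne_one
  rw [MulAction.is_two_pretransitive_iff]
  intro a b c d hab hcd
  obtain ⟨g, rfl⟩ := MulAction.exists_smul_eq G a c
  have hne : g⁻¹ • d ≠ a := fun h => hcd (by rw [← h, smul_inv_smul])
  obtain ⟨k, hka, hkb⟩ := hst a b (g⁻¹ • d) hab.symm hne
  exact ⟨g * k, by rw [mul_smul, hka], by rw [mul_smul, hkb, smul_inv_smul]⟩

end Cfsg.Agent.S0671
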