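import Cfsg.Statements.S0677
import Cfsg.Agent.Lib.Perm.EvenNormalizer
import Cfsg.Agent.Lib.Perm.NormalPrimitive

set_option autoImplicit false
open Cfsg

namespace Cfsg.Agent.S0677

/-- A symmetric cyclic difference set of prime order is trivial: constant autocorrelation and
symmetry force the non-zero residues to be all in or all out. -/
theorem symm_diffset {p : ℕ} [Fact p.Prime] (hp2 : p ≠ 2) (D : Finset (ZMod p))
    (hsym : ∀ x ∈ D, -x ∈ D) {N : ℕ}
    (hN : ∀ d : ZMod p, d ≠ 0 → (D.filter fun x => x + d ∈ D).card = N) (x y : ZMod p)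
    (hx : x ≠ 0) (hy : y ≠ 0) : x ∈ D ↔ y ∈ D := by
  have h2 : (2 : ZMod p) ≠ 0 := by
    intro h
    have : ((2 : ℕ) : ZMod p) = 0 := by exact_mod_cast h
    rw [ZMod.natCast_eq_zero_iff] at this
    exact hp2 ((Nat.prime_dvd_prime_iff_eq Fact.out Nat.prime_two).1 this)
  have key : ∀ x : ZMod p, x ≠ 0 → (N : ZMod 2) = if x ∈ D then 1 else 0 := by
    intro x hx
    set d : ZMod p := -2 * x with hd
    have hd0 : d ≠ 0 := mul_ne_zero (neg_ne_zero.2 h2) hx
    set S := D.filter fun z => z + d ∈ D with hS
    have hinv : ∀ z ∈ S, -z - d ∈ S := by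
      intro z hz
      simp only [hS, Finset.mem_filter] at hz ⊢
      refine ⟨?_, ?_⟩
      · rw [show -z - d = -(z + d) by ring]
        exact hsym _ hz.2
      · rw [show -z - d + d = -z by ring]
        exact hsym _ hz.1
    have hzero : ∑ z ∈ S.filter (fun z => z ≠ x), (1 : ZMod 2) = 0 := by
      refine Finset.sum_involution (fun z _ => -z - d) (fun z _ => by decide) (fun z hz _ h => ?_)
        (fun z hz => ?_) (fun z _ => by ring)
      · have hzx : z ≠ x := (Finset.mem_filter.1 hz).2
        apply hzx
        have : (2 : ZMod p) * (z - x) = 0 := by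
          rw [hd] at h
          linear_combination -h
        exact sub_eq_zero.1 ((mul_eq_zero.1 this).resolve_left h2)
      · refine Finset.mem_filter.2 ⟨hinv z (Finset.mem_filter.1 hz).1, fun h => ?_⟩
        apply (Finset.mem_filter.1 hz).2
        rw [hd] at h
        linear_combination -h
    rw [← hN d hd0, ← hS, ← nsmul_one, ← Finset.sum_const,
      ← Finset.sum_filter_add_sum_filter_not S (fun z => z ≠ x), hzero, zero_add]
    by_cases hxD : x ∈ D
    · rw [if_pos hxD, show S.filter (fun z => ¬ z ≠ x) = {x} from ?_, Finset.sum_singleton]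
      ext z
      simp only [Finset.mem_filter, ne_eq, not_not, Finset.mem_singleton, hS]
      refine ⟨fun h => h.2, fun h => ⟨⟨h ▸ hxD, ?_⟩, h⟩⟩
      rw [h, hd, show x + -2 * x = -x by ring]
      exact hsym x hxD
    · rw [if_neg hxD, show S.filter (fun z => ¬ z ≠ x) = ∅ from ?_, Finset.sum_empty]
      ext z
      simp only [Finset.mem_filter, ne_eq, not_not, Finset.notMem_empty, iff_false, hS]
      rintro ⟨⟨h1, -⟩, rfl⟩
      exact hxD h1
  have h1 := (key x hx).symm.trans (key y hy)
  by_cases hxD : x ∈ D <;> by_cases hyD : y ∈ D <;> simp_all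

/-- In a transitive permutation group of prime degree `p` whose Sylow `p`-normaliser has even order, the point stabilisers are the only subgroups of index `p`. -/
theorem result {α : Type*} [Fintype α] [DecidableEq α] {p : ℕ} [Fact p.Prime] (hα : Fintype.card α = p) (G : Subgroup (Equiv.Perm α)) [MulAction.IsPretransitive G α] (P : Sylow p G) (heven : Even (Nat.card (Subgroup.normalizer ((P : Subgroup G) : Set G)))) (H : Subgroup G) (hH : H.index = p) : ∃ a : α, H = MulAction.stabilizer G a := by
  classical
  have hp : p.Prime := Fact.out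
  have hαn : Nat.card α = p := by rw [Nat.card_eq_fintype_card, hα]
  suffices hle : ∃ a : α, H ≤ MulAction.stabilizer G a by
    obtain ⟨a, ha⟩ := hle
    refine ⟨a, Subgroup.eq_of_le_of_card_ge ha ?_⟩
    have h1 := H.card_mul_index
    have h2 := (MulAction.stabilizer G a).card_mul_index
    rw [MulAction.index_stabilizer_of_transitive, hαn] at h2
    rw [hH, ← h2] at h1
    exact (Nat.eq_of_mul_eq_mul_right hp.pos h1).ge
  obtain ⟨a₀⟩ : Nonempty α := Fintype.card_pos_iff.1 (hα ▸ hp.pos)
  by_cases hp2 : p = 2
  · refine ⟨a₀, fun x hx => ?_⟩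
    have hd : Nat.card G ∣ 2 := by
      have := Subgroup.card_subgroup_dvd_card G
      rwa [Nat.card_perm, hαn, hp2, Nat.factorial_two] at this
    have h1 := H.card_mul_index
    rw [hH, hp2] at h1
    have h2 : Nat.card H = 1 := by
      have := Nat.le_of_dvd two_pos hd
      have := Nat.card_pos (α := H)
      omega
    rw [Subgroup.card_eq_one] at h2
    rw [h2, Subgroup.mem_bot] at hx
    rw [hx]
    exact Subgroup.one_mem _
  obtain ⟨e, t, h, hto, ht, hh⟩ :=
    Cfsg.Agent.Perm.EvenNormalizer.exists_coord_neg hαn hp2 G P heven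
  have htn : ∀ (n : ℕ) (k : ZMod p), (t ^ n) • e k = e (k + n) := by
    intro n
    induction n with
    | zero => simp
    | succ n ih =>
      intro k
      rw [pow_succ', mul_smul, ih, ht, Nat.cast_succ, add_assoc]
  -- the order of `H` is prime to `p`
  have hpH : ¬ p ∣ Nat.card H := by
    intro hd
    obtain ⟨Q, hQ⟩ := Cfsg.Agent.Perm.EvenNormalizer.sylow_eq_zpowers hαn G hto
    have h2 : p ^ 2 ∣ Nat.card G := by
      rw [← H.card_mul_index, hH, pow_two]
      exact Nat.mul_dvd_mul_right hd p
    have := Nat.le_of_dvd Nat.card_pos (Q.pow_dvd_card_of_pow_dvd_card h2)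
    rw [hQ, Nat.card_zpowers, hto] at this
    nlinarith [hp.two_le]
  haveI hcosf : Finite (G ⧸ H) := inferInstance
  have hcos : Nat.card (G ⧸ H) = p := hH
  haveI := Fintype.ofFinite (G ⧸ H)
  have hcosF : Fintype.card (G ⧸ H) = p := by rw [← Nat.card_eq_fintype_card, hcos]
  -- `t` moves every coset
  have htfree : ∀ (c : G ⧸ H) (n : ℕ), ¬ p ∣ n → t ^ n • c ≠ c := by
    intro c n hn hfix
    induction c using QuotientGroup.induction_on with
    | _ g =>
      rw [MulAction.Quotient.smul_mk, QuotientGroup.eq, smul_eq_mul] at hfix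
      have hm : g⁻¹ * t ^ n * g ∈ H := by
        have := H.inv_mem hfix
        simpa [mul_assoc] using this
      apply hpH
      have ho : orderOf (g⁻¹ * t ^ n * g) = p := by
        rw [show g⁻¹ * t ^ n * g = MulAut.conj g⁻¹ (t ^ n) by simp]
        rw [MulEquiv.orderOf_eq, orderOf_pow, hto,
          Nat.Coprime.gcd_eq_one (hp.coprime_iff_not_dvd.2 hn), Nat.div_one]
      rw [← ho, ← Subgroup.orderOf_mk _ hm]
      exact orderOf_dvd_natCard _
  -- the involution fixes a coset
  have hh2 : h * h = 1 := by
    refine Subtype.ext (Equiv.ext fun x => ?_)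
    obtain ⟨k, rfl⟩ := e.surjective x
    show (h * h) • e k = e k
    rw [mul_smul, hh, hh, neg_neg]
  obtain ⟨c, hc⟩ : ∃ c : G ⧸ H, h • c = c := by
    haveI : Fact (Nat.Prime 2) := ⟨Nat.prime_two⟩
    have hodd : ¬ 2 ∣ Fintype.card (G ⧸ H) := by
      rw [hcosF]
      exact fun hd => hp2 ((Nat.prime_dvd_prime_iff_eq Nat.prime_two hp).1 hd).symm
    exact Equiv.Perm.exists_fixed_point_of_prime (p := 2) (n := 1) hodd
      (σ := MulAction.toPerm h) (Equiv.ext fun x => by
        rw [pow_one, pow_two]
        show h • h • x = x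
        rw [← mul_smul, hh2, one_smul])
  -- coordinates on the cosets
  have ht' : ∀ n m : ℕ, t ^ n • t ^ m • c = t ^ (n + m) • c := fun n m => by
    rw [← mul_smul, ← pow_add]
  have hmod : ∀ n : ℕ, t ^ n = t ^ ((n : ZMod p)).val := fun n => by
    rw [ZMod.val_natCast, ← hto, pow_mod_orderOf]
  let f : ZMod p → G ⧸ H := fun k => t ^ k.val • c
  have hfinj : Function.Injective f := by
    intro i j hij
    by_contra hne
    have h1 : t ^ (i - j).val • (t ^ j.val • c) = t ^ j.val • c := by
      rw [ht', hmod, Nat.cast_add, ZMod.natCast_rightInverse, ZMod.natCast_rightInverse,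
        sub_add_cancel]
      exact hij
    refine htfree _ _ (fun hd => hne (sub_eq_zero.1 ?_)) h1
    rw [← ZMod.natCast_rightInverse (i - j)]
    exact (ZMod.natCast_eq_zero_iff _ p).2 hd
  have hfbij : Function.Bijective f :=
    (Fintype.bijective_iff_injective_and_card f).2 ⟨hfinj, by rw [ZMod.card, hcosF]⟩
  let R : Subgroup (Equiv.Perm (G ⧸ H)) := (MulAction.toPermHom G (G ⧸ H)).range
  haveI hRt : MulAction.IsPretransitive R (G ⧸ H) := ⟨fun u v => by
    obtain ⟨g, hg⟩ := MulAction.exists_smul_eq G u v
    exact ⟨⟨_, g, rfl⟩, hg⟩⟩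
  have hft : ∀ k, (⟨_, t, rfl⟩ : R) • f k = f (k + 1) := by
    intro k
    show t • t ^ k.val • c = t ^ (k + 1).val • c
    rw [← mul_smul, ← pow_succ', hmod, Nat.cast_succ, ZMod.natCast_rightInverse]
  rcases Cfsg.Agent.Perm.PrimeDegree.two_transitive_or_affine R (Equiv.ofBijective f hfbij)
    ⟨_, t, rfl⟩ hft with h2 | haff
  · -- the orbit of `H'` is a symmetric difference set
    obtain ⟨g₀, rfl⟩ := QuotientGroup.mk_surjective c
    set H' : Subgroup G := MulAction.stabilizer G ((g₀ : G) : G ⧸ H) with hH'
    have hH'mem : ∀ x : G, x ∈ H' ↔ g₀⁻¹ * x * g₀ ∈ H := by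
      intro x
      rw [hH', MulAction.mem_stabilizer_iff, MulAction.Quotient.smul_mk, QuotientGroup.eq, smul_eq_mul]
      rw [← H.inv_mem_iff]
      simp [mul_assoc]
    suffices hb : ∃ b : α, ∀ x ∈ H', x • b = b by
      obtain ⟨b, hb⟩ := hb
      refine ⟨g₀⁻¹ • b, fun x hx => ?_⟩
      have := hb (g₀ * x * g₀⁻¹) ((hH'mem _).2 (by simpa [mul_assoc] using hx))
      rw [MulAction.mem_stabilizer_iff, eq_inv_smul_iff]
      rwa [mul_smul, mul_smul] at this
    have hcard' : ¬ p ∣ Nat.card H' := by
      have h1 := H'.card_mul_index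
      rw [hH', MulAction.index_stabilizer_of_transitive, hcos, ← H.card_mul_index, hH] at h1
      rw [Nat.eq_of_mul_eq_mul_right hp.pos h1]
      exact hpH
    set O : Set α := MulAction.orbit H' (e 0) with hO
    let D : Finset (ZMod p) := Finset.univ.filter fun k => e k ∈ O
    have hhH' : h ∈ H' := hc
    have hstab : ∀ x ∈ H', ∀ z ∈ O, x • z ∈ O := by
      rintro x hx z ⟨y, rfl⟩
      exact ⟨⟨x, hx⟩ * y, mul_smul _ _ _⟩
    have hsym : ∀ k ∈ D, -k ∈ D := by
      intro k hk
      simp only [D, Finset.mem_filter, Finset.mem_univ, true_and] at hk ⊢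
      rw [← hh]
      exact hstab h hhH' _ hk
    have h0D : (0 : ZMod p) ∈ D := by simp [D, hO]
    have h2'' : ∀ u v u' v' : G ⧸ H, u ≠ v → u' ≠ v' → ∃ r : R, r • u = u' ∧ r • v = v' :=
      fun u v u' v' => MulAction.is_two_pretransitive_iff.1 h2
    have hcorr : ∀ d : ZMod p, d ≠ 0 → (D.filter fun x => x + d ∈ D).card =
        (D.filter fun x => x + 1 ∈ D).card := by
      intro d hd
      obtain ⟨⟨_, g, rfl⟩, hg1, hg2⟩ := h2'' (f 0) (f (-d)) (f 0) (f (-1))
        (fun h => hd (neg_eq_zero.1 (hfinj h).symm))
        (fun h => one_ne_zero (neg_eq_zero.1 (hfinj h).symm))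
      have hg1' : g ∈ H' := by
        rw [hH', MulAction.mem_stabilizer_iff]
        simpa [f] using (show g • f 0 = f 0 from hg1)
      have hg2' : (t ^ (-1 : ZMod p).val)⁻¹ * g * t ^ (-d).val ∈ H' := by
        rw [hH', MulAction.mem_stabilizer_iff, mul_smul, mul_smul, inv_smul_eq_iff]
        exact hg2
      refine Finset.card_bij (fun k _ => e.symm (g • e k)) ?_ ?_ ?_
      · intro k hk
        simp only [D, Finset.mem_filter, Finset.mem_univ, true_and] at hk ⊢
        refine ⟨by rw [Equiv.apply_symm_apply]; exact hstab g hg1' _ hk.1, ?_⟩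
        have := hstab _ hg2' _ hk.2
        rw [mul_smul, mul_smul, htn, ZMod.natCast_rightInverse, add_neg_cancel_right] at this
        rw [← e.apply_symm_apply (g • e k), inv_smul_eq_iff.2 ?_] at this
        · exact this
        · rw [htn, ZMod.natCast_rightInverse, add_neg_cancel_right]
      · intro k _ l _ hkl
        exact e.injective (MulAction.injective g (e.symm.injective hkl))
      · intro l hl
        simp only [D, Finset.mem_filter, Finset.mem_univ, true_and] at hl
        refine ⟨e.symm (g⁻¹ • e l), ?_, by simp⟩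
        simp only [D, Finset.mem_filter, Finset.mem_univ, true_and]
        refine ⟨by rw [Equiv.apply_symm_apply]; exact hstab _ (H'.inv_mem hg1') _ hl.1, ?_⟩
        have := hstab _ (H'.inv_mem hg2') _ hl.2
        rw [mul_inv_rev, mul_inv_rev, inv_inv, mul_smul, mul_smul, htn,
          ZMod.natCast_rightInverse, add_neg_cancel_right] at this
        rw [← e.apply_symm_apply (g⁻¹ • e l), inv_smul_eq_iff.2 ?_] at this
        · exact this
        · rw [htn, ZMod.natCast_rightInverse, add_neg_cancel_right]
    have hsd := symm_diffset hp2 D hsym hcorr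
    refine ⟨e 0, fun x hx => ?_⟩
    by_contra hxe
    have hxD : e.symm (x • e 0) ∈ D := by
      simp only [D, Finset.mem_filter, Finset.mem_univ, true_and, Equiv.apply_symm_apply]
      exact hstab x hx _ (MulAction.mem_orbit_self _)
    have hx0 : e.symm (x • e 0) ≠ 0 := fun h0 => hxe (by rw [Equiv.symm_apply_eq] at h0; exact h0)
    have hall : ∀ z : α, z ∈ O := by
      intro z
      by_cases hz : e.symm z = 0
      · rw [Equiv.symm_apply_eq] at hz
        rw [hz]
        exact MulAction.mem_orbit_self _
      · have := (hsd _ _ hx0 hz).1 hxD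
        simpa [D] using this
    apply hcard'
    have h1 := (MulAction.stabilizer H' (e 0)).index_mul_card
    rw [MulAction.index_stabilizer, ← hO, show O = Set.univ from Set.eq_univ_of_forall hall,
      Set.ncard_univ, hαn] at h1
    exact ⟨_, h1.symm⟩
  · -- the affine case
    haveI hprim : MulAction.IsPreprimitive G α := MulAction.IsPreprimitive.of_prime_card (hαn ▸ hp)
    have hker : ∀ x : G, (∀ z : G ⧸ H, x • z = z) → x = 1 := by
      have hN : (MulAction.toPermHom G (G ⧸ H)).ker = ⊥ := by
        by_contra hne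
        have htr := Cfsg.Agent.Perm.NormalPrimitive.isPretransitive_of_normal
          (inferInstance : MulAction.IsQuasiPreprimitive G α) (MulAction.toPermHom G (G ⧸ H)).ker hne
        apply hpH
        have hle : (MulAction.toPermHom G (G ⧸ H)).ker ≤ H := by
          intro x hx
          have h1 : x • ((1 : G) : G ⧸ H) = ((1 : G) : G ⧸ H) :=
            congrArg (fun σ : Equiv.Perm (G ⧸ H) => σ ((1 : G) : G ⧸ H)) hx
          rw [MulAction.Quotient.smul_mk, QuotientGroup.eq] at h1
          simpa using h1
        refine dvd_trans ?_ (Subgroup.card_dvd_of_le hle)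
        rw [← (MulAction.stabilizer (MulAction.toPermHom G (G ⧸ H)).ker (e 0)).index_mul_card,
          MulAction.index_stabilizer_of_transitive, hαn]
        exact dvd_mul_right p _
      intro x hx
      rw [← Subgroup.mem_bot, ← hN]
      exact Equiv.ext hx
    -- every element acts affinely on the points
    have haffα : ∀ g : G, ∃ a b : ZMod p, a ≠ 0 ∧ ∀ k, g • e k = e (a * k + b) := by
      intro g
      obtain ⟨a, b, ha, hab⟩ := haff ⟨_, g, rfl⟩
      have hab' : ∀ k, g • f k = f (a * k + b) := hab
      have hconj : g * t = t ^ a.val * g := by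
        rw [← mul_inv_eq_one]
        apply hker
        intro z
        obtain ⟨k, hk⟩ := hfbij.2 ((t ^ a.val * g)⁻¹ • z)
        have e1 : ∀ k, (g * t) • f k = (t ^ a.val * g) • f k := by
          intro k
          rw [mul_smul, mul_smul, show t • f k = f (k + 1) from hft k, hab', hab']
          show t ^ (a * (k + 1) + b).val • c = t ^ a.val • t ^ (a * k + b).val • c
          rw [ht', hmod (a.val + (a * k + b).val), Nat.cast_add, ZMod.natCast_rightInverse,
            ZMod.natCast_rightInverse]
          congr 3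
          ring
        rw [mul_smul, ← hk, e1, hk, smul_inv_smul]
      refine ⟨a, e.symm (g • e 0), ha, fun k => ?_⟩
      have key : ∀ m : ℕ, g • e (m : ZMod p) = e (a * m + e.symm (g • e 0)) := by
        intro m
        induction m with
        | zero => simp
        | succ m ih =>
          rw [Nat.cast_succ, ← ht, ← mul_smul, hconj, mul_smul, ih, htn, ZMod.natCast_rightInverse]
          congr 1
          ring
      have := key k.val
      rwa [ZMod.natCast_rightInverse k] at this
    choose a b ha hab using haffα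
    -- translations in `H` are trivial
    have htrans : ∀ x ∈ H, a x = 1 → x = 1 := by
      intro x hx hax
      have hxt : x = t ^ (b x).val := by
        refine Subtype.ext (Equiv.ext fun z => ?_)
        obtain ⟨k, rfl⟩ := e.surjective z
        show x • e k = t ^ (b x).val • e k
        rw [hab, hax, one_mul, htn, ZMod.natCast_rightInverse]
      by_contra hne
      apply hpH
      have ho : orderOf x = p := by
        rw [hxt, orderOf_pow, hto, Nat.Coprime.gcd_eq_one (hp.coprime_iff_not_dvd.2 ?_), Nat.div_one]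
        intro hd
        rw [hxt, orderOf_dvd_iff_pow_eq_one.1 (hto.symm ▸ hd)] at hne
        exact hne rfl
      rw [← ho, ← Subgroup.orderOf_mk _ hx]
      exact orderOf_dvd_natCard _
    have hamul : ∀ x y : G, a (x * y) = a x * a y := by
      intro x y
      have h1 := hab (x * y) 1
      have h0 := hab (x * y) 0
      rw [mul_smul, hab y, hab x] at h1 h0
      have h1' := e.injective h1
      have h0' := e.injective h0
      linear_combination -h1' + h0'
    have ha1 : a 1 = 1 := by
      have := hamul 1 1
      rw [mul_one] at this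
      exact mul_left_cancel₀ (ha 1) (this.symm.trans (mul_one _).symm)
    have hcomm : ∀ x ∈ H, ∀ y ∈ H, x * y = y * x := by
      intro x hx y hy
      rw [← mul_inv_eq_one]
      apply htrans _ (H.mul_mem (H.mul_mem hx hy) (H.inv_mem (H.mul_mem hy hx)))
      have h2 : a (y * x) * a (y * x)⁻¹ = 1 := by rw [← hamul, mul_inv_cancel, ha1]
      rw [hamul, hamul x y, mul_comm (a x) (a y), ← hamul y x, h2]
    by_cases hall : ∀ x ∈ H, a x = 1
    · exact ⟨a₀, fun x hx => by rw [htrans x hx (hall x hx)]; exact Subgroup.one_mem _⟩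
    push Not at hall
    obtain ⟨u, hu, hau⟩ := hall
    have h1u : (1 : ZMod p) - a u ≠ 0 := sub_ne_zero.2 (Ne.symm hau)
    have hfix : ∀ k, u • e k = e k ↔ k = b u / (1 - a u) := by
      intro k
      rw [hab, e.injective.eq_iff, eq_div_iff h1u]
      constructor <;> intro hk <;> linear_combination -hk
    refine ⟨e (b u / (1 - a u)), fun x hx => ?_⟩
    rw [MulAction.mem_stabilizer_iff]
    have h1 : u • (x • e (b u / (1 - a u))) = x • e (b u / (1 - a u)) := by
      rw [← mul_smul, hcomm u hu x hx, mul_smul, (hfix _).2 rfl]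
    obtain ⟨k, hk⟩ := e.surjective (x • e (b u / (1 - a u)))
    rw [← hk] at h1 ⊢
    rw [(hfix k).1 h1]

end Cfsg.Agent.S0677
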