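import Cfsg.Statements.S0679
import Cfsg.Agent.Lib.Perm.Degree11
import Cfsg.Agent.S0498

set_option autoImplicit false
open Cfsg

namespace Cfsg.Agent.S0679

open Cfsg.Agent.Perm

/-- A non-solvable transitive permutation group on 11 points that does not contain the alternating group is either sharply 4-transitive (of order 7920) or isomorphic to the projective special linear group of degree 2 over the field with 11 elements. -/
theorem result {α : Type*} [Fintype α] [DecidableEq α] (hα : Fintype.card α = 11) (G : Subgroup (Equiv.Perm α)) [MulAction.IsPretransitive G α] (hG : ¬ Group.IsSolvable G) (hA : ¬ alternatingGroup α ≤ G) : (MulAction.IsMultiplyPretransitive G α 4 ∧ ∀ x : Fin 4 ↪ α, MulAction.stabilizer G x = ⊥) ∨ Nonempty (G ≃* Matrix.ProjectiveSpecialLinearGroup (Fin 2) (ZMod 11)) := by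
  classical
  haveI : Fact (Nat.Prime 11) := ⟨by norm_num⟩
  obtain ⟨e, t, -, ht⟩ := PrimeDegree.exists_coord (p := 11)
    (by rw [Nat.card_eq_fintype_card, hα]) G
  let φ : Equiv.Perm α ≃* Equiv.Perm (ZMod 11) := e.symm.permCongrHom
  have hφ : ∀ (g : Equiv.Perm α) z, φ g z = e.symm (g (e z)) := fun g z => rfl
  let K : Subgroup (Equiv.Perm (ZMod 11)) := G.map φ.toMonoidHom
  let ψ : G ≃* K := G.equivMapOfInjective φ.toMonoidHom φ.injective
  have hsh : Degree11.shift ∈ K := ⟨t, t.2, Equiv.ext fun z => by
    show φ t z = _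
    rw [hφ]
    exact e.symm_apply_eq.2 (ht z)⟩
  have hsK : ¬ Group.IsSolvable K := fun h => hG
    (solvable_of_solvable_injective (f := ψ.toMonoidHom) ψ.injective)
  have hAK : ¬ alternatingGroup (ZMod 11) ≤ K := by
    intro h
    apply hA
    intro g hg
    obtain ⟨g', hg', hgg⟩ := h (show φ g ∈ alternatingGroup (ZMod 11) by
      rw [Equiv.Perm.mem_alternatingGroup] at hg ⊢
      rw [show φ g = e.symm.permCongr g from rfl, Equiv.Perm.sign_permCongr, hg])
    rwa [← φ.injective (show φ g' = φ g from hgg)]
  obtain ⟨hK, hcard⟩ := Degree11.main hsh hsK hAK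
  rcases hcard with ⟨h660, hsimple⟩ | h7920
  · right
    haveI := hsimple
    haveI : IsSimpleGroup G := ψ.isSimpleGroup
    exact Cfsg.Agent.S0498.result (G := G) 11 (Or.inl rfl)
      (by rw [Nat.card_congr ψ.toEquiv, h660]; norm_num) (ZMod.card 11)
  · left
    have hstab : ∀ x : Fin 4 ↪ α, MulAction.stabilizer G x = ⊥ := by
      intro x
      rw [eq_bot_iff]
      intro g hg
      rw [MulAction.mem_stabilizer_iff] at hg
      rw [Subgroup.mem_bot]
      have h1 : φ g = 1 := by
        refine hK.eq_one_of_fix ⟨g, g.2, rfl⟩ ?_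
        have hsub : Finset.univ.map (x.trans e.symm.toEmbedding) ⊆ (φ g).supportᶜ := by
          intro z hz
          obtain ⟨i, -, rfl⟩ := Finset.mem_map.1 hz
          rw [Finset.mem_compl, Equiv.Perm.notMem_support, hφ]
          show e.symm ((g : Equiv.Perm α) (e (e.symm (x i)))) = e.symm (x i)
          rw [e.apply_symm_apply]
          exact congrArg e.symm (congrArg (fun y : Fin 4 ↪ α => y i) hg)
        have := Finset.card_le_card hsub
        rw [Finset.card_map, Finset.card_compl, Finset.card_univ, Fintype.card_fin, ZMod.card] at this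
        omega
      exact Subtype.ext (φ.injective (h1.trans φ.map_one.symm))
    refine ⟨?_, hstab⟩
    show MulAction.IsPretransitive G (Fin 4 ↪ α)
    obtain ⟨x₀⟩ : Nonempty (Fin 4 ↪ α) := Function.Embedding.nonempty_of_card_le (by
      rw [Fintype.card_fin, hα]; norm_num)
    have horb : (MulAction.orbit G x₀).ncard = Nat.card G := by
      refine (MulAction.index_stabilizer (G := G) x₀).symm.trans ?_
      rw [hstab, Subgroup.index_bot]
    have huniv : MulAction.orbit G x₀ = Set.univ := by
      apply Set.eq_of_subset_of_ncard_le (Set.subset_univ _)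
      rw [horb, Set.ncard_univ, Nat.card_congr ψ.toEquiv, h7920, Nat.card_eq_fintype_card,
        Fintype.card_embedding_eq, hα, Fintype.card_fin]
      decide
    refine ⟨fun a b => ?_⟩
    obtain ⟨u, rfl⟩ := MulAction.mem_orbit_iff.1 (huniv ▸ Set.mem_univ a : a ∈ MulAction.orbit G x₀)
    obtain ⟨v, rfl⟩ := MulAction.mem_orbit_iff.1 (huniv ▸ Set.mem_univ b : b ∈ MulAction.orbit G x₀)
    exact ⟨v * u⁻¹, (mul_smul _ _ _).trans (congrArg (v • ·) (inv_smul_smul u x₀))⟩

end Cfsg.Agent.S0679
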