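import Cfsg.Statements.S0680
import Cfsg.Agent.Lib.Perm.Sharp

set_option autoImplicit false
open Cfsg

namespace Cfsg.Agent.S0680

/-- A finite sharply doubly transitive permutation group has degree a prime power `p ^ j`; a Sylow `p`-subgroup is normal, elementary abelian and regular, and consists of the identity together with the elements without fixed points. (Frobenius' Theorem is not needed.) -/
theorem result {α : Type*} [Fintype α] [DecidableEq α] (G : Subgroup (Equiv.Perm α)) [MulAction.IsMultiplyPretransitive G α 2] (hsharp : ∀ x : Fin 2 ↪ α, MulAction.stabilizer G x = ⊥) (h2 : 2 ≤ Fintype.card α) : ∃ p j : ℕ, p.Prime ∧ 1 ≤ j ∧ Fintype.card α = p ^ j ∧ ∀ (hp : Fact p.Prime) (P : Sylow p G), (P : Subgroup G).Normal ∧ IsMulCommutative (P : Subgroup G) ∧ (∀ x ∈ (P : Subgroup G), x ^ p = 1) ∧ MulAction.IsPretransitive (P : Subgroup G) α ∧ (∀ a : α, MulAction.stabilizer (P : Subgroup G) a = ⊥) ∧ ∀ g : G, g ∈ (P : Subgroup G) ↔ g = 1 ∨ ∀ a : α, g • a ≠ a := by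
  classical
  have hnt : Nontrivial α := Fintype.one_lt_card_iff_nontrivial.1 (by omega)
  obtain ⟨N, hnorm, hab, htr, hreg, hN, p, hp, hpg, hexp⟩ :=
    Cfsg.Agent.Perm.Sharp.exists_kernel (G := G) (α := α) ‹_› hsharp
  have : Fact p.Prime := ⟨hp⟩
  obtain ⟨j, hj⟩ := IsPGroup.iff_card.1 hpg
  obtain ⟨a⟩ : Nonempty α := inferInstance
  have hcard := Cfsg.Agent.Perm.Basic.card_eq_of_regular N htr hreg a
  rw [hj, Nat.card_eq_fintype_card] at hcard
  have hj1 : 1 ≤ j := by
    rcases Nat.eq_zero_or_pos j with rfl | h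
    · rw [pow_zero] at hcard; omega
    · exact h
  refine ⟨p, j, hp, hj1, hcard.symm, fun hp' P => ?_⟩
  have hidx : ¬ p ∣ N.index := by
    have h1 := N.card_mul_index
    rw [hj, Cfsg.Agent.Perm.Sharp.card_group (α := α) ‹_› hsharp, Nat.card_eq_fintype_card,
      ← hcard] at h1
    rw [Nat.eq_of_mul_eq_mul_left (pow_pos hp.pos j) h1]
    intro hdvd
    have hsub : p ∣ p ^ j := dvd_pow_self p (by omega)
    have := Nat.dvd_sub hsub hdvd
    rw [Nat.sub_sub_self (Nat.one_le_pow _ _ hp.pos)] at this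
    exact hp.one_lt.ne' (Nat.dvd_one.1 this)
  let S : Sylow p G := hpg.toSylow hidx
  have hS : (S : Subgroup G) = N := rfl
  have huniq : (P : Subgroup G) = N := by
    obtain ⟨g, rfl⟩ := MulAction.exists_smul_eq G S P
    rw [Sylow.coe_subgroup_smul, hS]
    exact Subgroup.Normal.conjAct hnorm g
  rw [huniq]
  exact ⟨hnorm, hab, fun x hx => congrArg Subtype.val (hexp ⟨x, hx⟩), htr, hreg, hN⟩

end Cfsg.Agent.S0680
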