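import Cfsg.Statements.S0681
import Mathlib

set_option autoImplicit false
open Cfsg

namespace Cfsg.Agent.S0681

theorem zero_mul_eq {F : Type*} [Cfsg.NearField F] (a : F) : (0 : F) * a = 0 := by
  have h := NearField.right_distrib (0 : F) 0 a
  rw [add_zero] at h
  exact left_eq_add.1 h

theorem neg_mul_eq {F : Type*} [Cfsg.NearField F] (x a : F) : -x * a = -(x * a) := by
  apply eq_neg_of_add_eq_zero_left
  rw [← NearField.right_distrib, neg_add_cancel, zero_mul_eq]

theorem ne_zero_mul {F : Type*} [Cfsg.NearField F] {a b : F} (ha : a ≠ 0) (hb : b ≠ 0) :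
    a * b ≠ 0 := by
  intro h
  obtain ⟨c, hc1, hc2⟩ := NearField.exists_inv b hb
  apply ha
  calc a = a * b * c := by rw [mul_assoc, hc1, mul_one]
    _ = 0 := by rw [h, zero_mul_eq]

/-- The affine maps `x ↦ x * a + b`, `a ≠ 0`, of a near-field form a sharply doubly transitive permutation group. -/
theorem result {F : Type*} [Cfsg.NearField F] : ∃ H : Subgroup (Equiv.Perm F), (∀ σ : Equiv.Perm F, σ ∈ H ↔ ∃ a b : F, a ≠ 0 ∧ ∀ x : F, σ x = x * a + b) ∧ MulAction.IsMultiplyPretransitive H F 2 ∧ ∀ x : Fin 2 ↪ F, MulAction.stabilizer H x = ⊥ := by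
  classical
  let H : Subgroup (Equiv.Perm F) :=
    { carrier := {σ | ∃ a b : F, a ≠ 0 ∧ ∀ x : F, σ x = x * a + b}
      one_mem' := ⟨1, 0, fun h => NearField.zero_ne_one h.symm, fun x => by simp⟩
      mul_mem' := by
        rintro σ τ ⟨a, b, ha, hσ⟩ ⟨c, d, hc, hτ⟩
        refine ⟨c * a, d * a + b, ne_zero_mul hc ha, fun x => ?_⟩
        rw [Equiv.Perm.coe_mul, Function.comp_apply, hτ, hσ, NearField.right_distrib, mul_assoc,
          add_assoc]
      inv_mem' := by
        rintro σ ⟨a, b, ha, hσ⟩
        obtain ⟨c, hac, hca⟩ := NearField.exists_inv a ha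
        refine ⟨c, -b * c, fun h => ?_, fun x => ?_⟩
        · rw [h, NearField.mul_zero] at hac
          exact NearField.zero_ne_one hac
        · rw [Equiv.Perm.inv_def, Equiv.symm_apply_eq, hσ, ← NearField.right_distrib, mul_assoc,
            hca, mul_one, add_assoc, neg_add_cancel, add_zero] }
  refine ⟨H, fun σ => Iff.rfl, ?_, fun e => ?_⟩
  · rw [MulAction.is_two_pretransitive_iff]
    intro x y u v hxy huv
    obtain ⟨c, hc1, hc2⟩ := NearField.exists_inv (y + -x) (fun h => hxy (by
      rw [add_neg_eq_zero] at h; exact h.symm))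
    have hw : v + -u ≠ 0 := fun h => huv (by rw [add_neg_eq_zero] at h; exact h.symm)
    set a := c * (v + -u) with ha
    have ha0 : a ≠ 0 := ne_zero_mul (fun h => by
      rw [h, NearField.mul_zero] at hc1; exact NearField.zero_ne_one hc1) hw
    obtain ⟨c', hac, hca⟩ := NearField.exists_inv a ha0
    let σ : Equiv.Perm F :=
      { toFun := fun z => z * a + (-(x * a) + u)
        invFun := fun z => (z + -(-(x * a) + u)) * c'
        left_inv := fun z => by
          show (z * a + (-(x * a) + u) + -(-(x * a) + u)) * c' = z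
          rw [add_neg_cancel_right, mul_assoc, hac, mul_one]
        right_inv := fun z => by
          show (z + -(-(x * a) + u)) * c' * a + (-(x * a) + u) = z
          rw [mul_assoc, hca, mul_one, neg_add_cancel_right] }
    refine ⟨⟨σ, a, _, ha0, fun z => rfl⟩, ?_, ?_⟩
    · show x * a + (-(x * a) + u) = u
      rw [add_neg_cancel_left]
    · show y * a + (-(x * a) + u) = v
      rw [← add_assoc, ← neg_mul_eq, ← NearField.right_distrib, ha, ← mul_assoc, hc1, one_mul,
        neg_add_cancel_right]
  · rw [Subgroup.eq_bot_iff_forall]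
    rintro ⟨σ, a, b, ha, hσ⟩ hfix
    have h0 : σ (e 0) = e 0 := congrArg (fun f : Fin 2 ↪ F => f 0) hfix
    have h1 : σ (e 1) = e 1 := congrArg (fun f : Fin 2 ↪ F => f 1) hfix
    rw [hσ] at h0 h1
    have hd : e 1 + -e 0 ≠ 0 := fun h => by
      rw [add_neg_eq_zero] at h; exact absurd (e.injective h) (by decide)
    have h2 : (e 1 + -e 0) * a = e 1 + -e 0 := by
      rw [NearField.right_distrib, neg_mul_eq]
      calc e 1 * a + -(e 0 * a) = (e 1 * a + b) + -(e 0 * a + b) := by
            rw [neg_add_rev, add_assoc, ← add_assoc b, add_neg_cancel, zero_add]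
        _ = _ := by rw [h0, h1]
    obtain ⟨d, hd1, hd2⟩ := NearField.exists_inv _ hd
    have ha1 : a = 1 := by
      calc a = d * (e 1 + -e 0) * a := by rw [hd2, one_mul]
        _ = 1 := by rw [mul_assoc, h2, hd2]
    rw [ha1, mul_one] at h0
    have hb : b = 0 := by
      calc b = -e 0 + (e 0 + b) := by rw [neg_add_cancel_left]
        _ = 0 := by rw [h0, neg_add_cancel]
    refine Subtype.ext (Equiv.ext fun z => ?_)
    show σ z = z
    rw [hσ, ha1, hb, mul_one, add_zero]

end Cfsg.Agent.S0681
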