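import Cfsg.Statements.S0682
import Mathlib

set_option autoImplicit false
open Cfsg

namespace Cfsg.Agent.S0682

/-- A finite near-field has prime-power order; its additive group is commutative of prime exponent. -/
theorem result {F : Type*} [Cfsg.NearField F] [Finite F] : ∃ p j : ℕ, p.Prime ∧ 1 ≤ j ∧ Nat.card F = p ^ j ∧ (∀ x y : F, x + y = y + x) ∧ ∀ x : F, p • x = 0 := by
  classical
  have : Fintype F := Fintype.ofFinite F
  have hnt : Nontrivial F := ⟨0, 1, NearField.zero_ne_one⟩
  set p := (Nat.card F).minFac with hp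
  have hpp : p.Prime := Nat.minFac_prime Finite.one_lt_card.ne'
  have : Fact p.Prime := ⟨hpp⟩
  obtain ⟨x, hx⟩ := exists_prime_addOrderOf_dvd_card' (G := F) p (Nat.minFac_dvd _)
  have hx0 : x ≠ 0 := fun hh => by simp [hh] at hx; exact hpp.ne_one hx.symm
  -- right multiplications are additive and carry x to every element
  have hmul : ∀ (y : F), ∃ f : F →+ F, f x = y := by
    intro y
    obtain ⟨c, hc1, hc2⟩ := NearField.exists_inv x hx0
    refine ⟨AddMonoidHom.mk' (fun z => z * (c * y)) (fun u v => NearField.right_distrib u v _), ?_⟩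
    show x * (c * y) = y
    rw [← mul_assoc, hc1, one_mul]
  have hexp : ∀ y : F, p • y = 0 := by
    intro y
    obtain ⟨f, rfl⟩ := hmul y
    rw [← map_nsmul, ← hx, addOrderOf_nsmul_eq_zero, map_zero]
  have hpg : IsPGroup p (Multiplicative F) := fun u => ⟨1, by
    rw [pow_one]; exact hexp u.toAdd⟩
  obtain ⟨z, hz, hz1⟩ := (Subgroup.center (Multiplicative F)).bot_or_exists_ne_one.resolve_left
    (fun hh => by
      have := hpg.center_nontrivial
      rw [hh] at this
      exact not_subsingleton _ (inferInstance : Subsingleton (⊥ : Subgroup (Multiplicative F))))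
  have hcomm : ∀ u v : F, u + v = v + u := by
    intro u v
    by_cases hu : u = 0
    · simp [hu]
    · obtain ⟨c, hc1, hc2⟩ := NearField.exists_inv z.toAdd hz1
      obtain ⟨d, hd1, hd2⟩ := NearField.exists_inv u hu
      -- multiply by r = z⁻¹ u
      have h1 : ∀ w : F, w + z.toAdd = z.toAdd + w := fun w =>
        congrArg Multiplicative.toAdd (Subgroup.mem_center_iff.1 hz (Multiplicative.ofAdd w))
      have hr : z.toAdd * (c * u) = u := by rw [← mul_assoc, hc1, one_mul]
      have hv : v * (d * z.toAdd) * (c * u) = v := by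
        rw [mul_assoc v, mul_assoc d, hr, hd2, mul_one]
      calc u + v = z.toAdd * (c * u) + v * (d * z.toAdd) * (c * u) := by rw [hr, hv]
        _ = (z.toAdd + v * (d * z.toAdd)) * (c * u) := by rw [NearField.right_distrib]
        _ = (v * (d * z.toAdd) + z.toAdd) * (c * u) := by rw [h1]
        _ = v * (d * z.toAdd) * (c * u) + z.toAdd * (c * u) := by rw [NearField.right_distrib]
        _ = v + u := by rw [hr, hv]
  obtain ⟨j, hj⟩ := IsPGroup.iff_card.1 hpg
  rw [show Nat.card (Multiplicative F) = Nat.card F from rfl] at hj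
  refine ⟨p, j, hpp, ?_, hj, hcomm, hexp⟩
  rcases Nat.eq_zero_or_pos j with rfl | h
  · rw [pow_zero] at hj
    exact absurd hj Finite.one_lt_card.ne'
  · exact h

end Cfsg.Agent.S0682
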