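import Cfsg.Statements.S0683
import Cfsg.Agent.Lib.Perm.Sharp

set_option autoImplicit false
open Cfsg

namespace Cfsg.Agent.S0683

/-- A finite sharply doubly transitive permutation group is the affine group of a near-field: the permuted set carries a near-field structure for which the group consists exactly of the maps `x ↦ x * a + b` with `a ≠ 0`. -/
theorem result {α : Type*} [Fintype α] [DecidableEq α] (H : Subgroup (Equiv.Perm α)) [MulAction.IsMultiplyPretransitive H α 2] (hsharp : ∀ x : Fin 2 ↪ α, MulAction.stabilizer H x = ⊥) (h2 : 2 ≤ Fintype.card α) : ∃ _ : Cfsg.NearField α, ∀ σ : Equiv.Perm α, σ ∈ H ↔ ∃ a b : α, a ≠ 0 ∧ ∀ x : α, σ x = x * a + b := by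
  classical
  have hnt : Nontrivial α := Fintype.one_lt_card_iff_nontrivial.1 (by omega)
  have h2t : MulAction.IsMultiplyPretransitive H α 2 := ‹_›
  obtain ⟨N, hnorm, hab, htr, hreg, hN, -⟩ :=
    Cfsg.Agent.Perm.Sharp.exists_kernel (G := H) (α := α) h2t hsharp
  obtain ⟨o, e, hoe⟩ := exists_pair_ne α
  choose T hT using fun x : α => htr.exists_smul_eq o x
  have hTu : ∀ (n : N) (x : α), n • o = x → n = T x := fun n x h =>
    (Cfsg.Agent.Perm.Basic.orbitMap_bijective N htr hreg o).injective (h.trans (hT x).symm)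
  have hMex : ∀ x : α, x ≠ o → ∃ g : H, g • o = o ∧ g • e = x := fun x hx =>
    Cfsg.Agent.Perm.Sharp.exists_fix_map h2t hoe.symm hx
  choose M hMo hMe using hMex
  have hMu : ∀ (g : H) (x : α) (hx : x ≠ o), g • o = o → g • e = x → g = M x hx := by
    intro g x hx h1 h2'
    have := Cfsg.Agent.Perm.Sharp.eq_one_of_fix_two hsharp (g := (M x hx)⁻¹ * g) hoe
      (by rw [mul_smul, h1, inv_smul_eq_iff, hMo]) (by rw [mul_smul, h2', inv_smul_eq_iff, hMe])
    exact (inv_mul_eq_one.1 this).symm
  let m : α → α → α := fun x a => if h : a = o then o else M a h • x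
  have hm : ∀ (x a : α) (h : a ≠ o), m x a = M a h • x := fun x a h => by simp [m, h]
  have hm0 : ∀ x, m x o = o := fun x => by simp [m]
  have h0m : ∀ a, m o a = o := fun a => by
    by_cases h : a = o
    · rw [h, hm0]
    · rw [hm o a h, hMo]
  have hmne : ∀ x a : α, x ≠ o → a ≠ o → m x a ≠ o := fun x a hx ha h => by
    rw [hm x a ha] at h
    exact hx (MulAction.injective (M a ha) (h.trans (hMo a ha).symm))
  -- addition
  have hTadd : ∀ x y : α, T (T y • x) = T y * T x := fun x y =>
    (hTu _ _ (by rw [mul_smul, hT])).symm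
  have hToo : T o = 1 := (hTu 1 o (one_smul _ _)).symm
  -- multiplication
  have hmassoc : ∀ x a c : α, m (m x a) c = m x (m a c) := by
    intro x a c
    by_cases hc : c = o
    · rw [hc, hm0, hm0, hm0]
    by_cases ha : a = o
    · rw [ha, hm0, h0m, hm0]
    · have hac := hmne a c ha hc
      rw [hm x _ hac, hm _ c hc, hm x a ha, ← mul_smul]
      congr 1
      exact hMu _ _ hac (by rw [mul_smul, hMo, hMo]) (by rw [mul_smul, hMe, hm a c hc])
  have hone : ∀ x, m x e = x := fun x => by
    rw [hm x e hoe.symm, ← hMu 1 e hoe.symm (one_smul _ _) (one_smul _ _), one_smul]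
  have hone' : ∀ a, m e a = a := fun a => by
    by_cases ha : a = o
    · rw [ha, hm0]
    · rw [hm e a ha, hMe]
  have hdist : ∀ x y c : α, m (T y • x) c = T (m y c) • m x c := by
    intro x y c
    by_cases hc : c = o
    · rw [hc, hm0, hm0, hm0, hT]
    · rw [hm _ c hc, hm y c hc, hm x c hc]
      have hconj : (⟨M c hc * (T y : H) * (M c hc)⁻¹, hnorm.conj_mem _ (T y).2 _⟩ : N) =
          T (M c hc • y) := hTu _ _ (by
        show (M c hc * (T y : H) * (M c hc)⁻¹) • o = _
        rw [mul_smul, mul_smul, inv_smul_eq_iff.2 (hMo c hc).symm]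
        exact congrArg (M c hc • ·) (hT y))
      rw [← hconj]
      show M c hc • (T y : H) • x = (M c hc * (T y : H) * (M c hc)⁻¹) • M c hc • x
      rw [← mul_smul, ← mul_smul, inv_mul_cancel_right]
  have hTinv : ∀ x : α, T ((T x)⁻¹ • o) = (T x)⁻¹ := fun x => (hTu _ _ rfl).symm
  let nf : Cfsg.NearField α :=
    { add := fun x y => T y • x
      zero := o
      neg := fun x => (T x)⁻¹ • o
      add_assoc := fun x y z => by
        show T z • T y • x = T (T z • y) • x
        rw [hTadd, mul_smul]
      zero_add := fun x => hT x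
      add_zero := fun x => by
        show T o • x = x
        rw [hToo, one_smul]
      nsmul := @nsmulRec α ⟨o⟩ ⟨fun x y => T y • x⟩
      zsmul := @zsmulRec α ⟨o⟩ ⟨fun x y => T y • x⟩ ⟨fun x => (T x)⁻¹ • o⟩
        (@nsmulRec α ⟨o⟩ ⟨fun x y => T y • x⟩)
      neg_add_cancel := fun x => by
        show T x • (T x)⁻¹ • o = o
        rw [smul_inv_smul]
      mul := m
      one := e
      mul_assoc := hmassoc
      one_mul := hone'
      mul_one := hone
      right_distrib := fun x y c => hdist x y c
      mul_zero := hm0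
      zero_ne_one := hoe
      exists_inv := fun a (ha : a ≠ o) => by
        refine ⟨(M a ha)⁻¹ • e, ?_, ?_⟩
        · show m a ((M a ha)⁻¹ • e) = e
          have hb : (M a ha)⁻¹ • e ≠ o := fun h => hoe (by
            rw [inv_smul_eq_iff, hMo] at h; exact h.symm)
          rw [hm _ _ hb, ← hMu (M a ha)⁻¹ _ hb (by rw [inv_smul_eq_iff, hMo]) rfl, inv_smul_eq_iff,
            hMe]
        · show m ((M a ha)⁻¹ • e) a = e
          rw [hm _ a ha, smul_inv_smul] }
  refine ⟨nf, fun σ => ⟨fun hσ => ?_, ?_⟩⟩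
  · set g : H := ⟨σ, hσ⟩ with hg
    set b := g • o with hb
    set g' : H := ((T b : H))⁻¹ * g with hg'
    have hg'o : g' • o = o := by
      rw [hg', mul_smul, ← hb, inv_smul_eq_iff]
      exact (hT b).symm
    have ha : g' • e ≠ o := fun h => hoe (MulAction.injective g' (hg'o.trans h.symm))
    refine ⟨g' • e, b, ha, fun x => ?_⟩
    show g • x = T b • m x (g' • e)
    rw [hm _ _ ha, ← hMu g' _ ha hg'o rfl, hg']
    show g • x = (T b : H) • ((T b : H)⁻¹ * g) • x
    rw [mul_smul, smul_inv_smul]
  · rintro ⟨a, b, ha, hσ⟩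
    have : σ = (((T b : H) * M a ha : H) : Equiv.Perm α) := Equiv.ext fun x => by
      rw [hσ x]
      show T b • m x a = ((T b : H) * M a ha) • x
      rw [hm _ _ ha, mul_smul]
      rfl
    rw [this]
    exact SetLike.coe_mem _

end Cfsg.Agent.S0683
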