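import Cfsg.Statements.S0686
import Cfsg.Agent.Lib.Perm.NearFieldQuat
import Cfsg.Agent.Lib.Perm.Fpf.Main

set_option autoImplicit false
open Cfsg

namespace Cfsg.Agent.S0686

/-- In a linear group over the prime field that is regular on non-zero vectors and has no irreducible cyclic normal subgroup, let `A` be a maximal normal abelian subgroup and `N` a normal subgroup centralising `A` that is minimal among non-abelian normal subgroups centralising `A`. Then `N` is quaternion of order 8 or isomorphic to `SL(2,5)`. -/
theorem result {p : ℕ} [Fact p.Prime] {V : Type*} [AddCommGroup V] [Module (ZMod p) V] [Finite V] (H : Subgroup (V ≃ₗ[ZMod p] V)) (hreg : ∀ v w : V, v ≠ 0 → w ≠ 0 → ∃! h : H, (h : V ≃ₗ[ZMod p] V) v = w) (hI : ∀ A : Subgroup H, A.Normal → IsCyclic A → ∃ W : Submodule (ZMod p) V, W ≠ ⊥ ∧ W ≠ ⊤ ∧ ∀ a ∈ A, ∀ v ∈ W, ((a : H) : V ≃ₗ[ZMod p] V) v ∈ W) (A : Subgroup H) (hAn : A.Normal) (hAc : IsMulCommutative A) (hAmax : ∀ B : Subgroup H, B.Normal → IsMulCommutative B → A ≤ B → B = A) (N : Subgroup H) (hNn : N.Normal) (hNle : N ≤ Subgroup.centralizer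 (A : Set H)) (hNna : ¬ IsMulCommutative N) (hNmin : ∀ M : Subgroup H, M.Normal → M ≤ N → ¬ IsMulCommutative M → M = N) : Nonempty (N ≃* QuaternionGroup 2) ∨ Nonempty (N ≃* Matrix.SpecialLinearGroup (Fin 2) (ZMod 5)) := by
  classical
  obtain ⟨W₁, hW₁, -, -⟩ := hI ⊥ inferInstance inferInstance
  obtain ⟨v, -, hv⟩ := Submodule.exists_mem_ne_zero_of_ne_bot hW₁
  haveI : Nontrivial V := nontrivial_of_ne v 0 hv
  haveI := Perm.NearField.finite_H (H := H)
  by_cases hsolv : Group.IsSolvable N
  · exact Or.inl (Perm.NearField.minimal_q8 hreg hAn hAc hAmax hNn hNle hNna hNmin hsolv)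
  · right
    haveI := hNn
    haveI : Nontrivial N := by
      by_contra hn
      rw [not_nontrivial_iff_subsingleton] at hn
      exact hNna ⟨⟨fun _ _ => Subsingleton.elim _ _⟩⟩
    have hperf : commutator N = ⊤ := by
      by_contra hne
      refine hsolv ?_
      set M := (commutator N).map N.subtype
      have hMN : M ≠ N := fun e => hne (Subgroup.map_injective N.subtype_injective (e.trans (by
        rw [← MonoidHom.range_eq_map, Subgroup.range_subtype])))
      have hMc : IsMulCommutative M := by_contra fun hna =>
        hMN (hNmin M inferInstance (Subgroup.map_subtype_le _) hna)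
      haveI : Group.IsSolvable M :=
        isSolvable_of_comm fun x y => IsMulCommutative.is_comm.comm x y
      haveI : Group.IsSolvable (commutator N) :=
        solvable_of_surjective (f := ((commutator N).equivMapOfInjective N.subtype
          N.subtype_injective).symm.toMonoidHom) (MulEquiv.surjective _)
      exact solvable_of_ker_le_range (commutator N).subtype (Abelianization.of (G := N))
        (by rw [Abelianization.ker_of, Subgroup.range_subtype])
    exact Perm.Fpf.iso_sl25 ((Perm.NearField.endH H).comp N.subtype)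
      (fun g v e hv => Subtype.ext (Perm.NearField.eq_one_of_fix hreg hv e)) hperf

end Cfsg.Agent.S0686
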