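import Cfsg.Statements.S0688
import Cfsg.Agent.Lib.Perm.NearFieldQuat
import Cfsg.Agent.S0685
import Cfsg.Agent.S0687
import Cfsg.Agent.S3742

set_option autoImplicit false
open Cfsg

namespace Cfsg.Agent.S0688

theorem no_sqrt : ∀ c : ZMod 3, c * c ≠ -1 := by decide

/-- Degrees of the soluble exceptional sharply doubly transitive groups: if a solvable linear group over the prime field is regular on the non-zero vectors of `V` and has no irreducible cyclic normal subgroup, then `V` has 25, 49, 121 or 529 elements. -/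
theorem result {p : ℕ} [Fact p.Prime] {V : Type*} [AddCommGroup V] [Module (ZMod p) V] [Finite V] (H : Subgroup (V ≃ₗ[ZMod p] V)) (hreg : ∀ v w : V, v ≠ 0 → w ≠ 0 → ∃! h : H, (h : V ≃ₗ[ZMod p] V) v = w) (hI : ∀ A : Subgroup H, A.Normal → IsCyclic A → ∃ W : Submodule (ZMod p) V, W ≠ ⊥ ∧ W ≠ ⊤ ∧ ∀ a ∈ A, ∀ v ∈ W, ((a : H) : V ≃ₗ[ZMod p] V) v ∈ W) (hsolv : Group.IsSolvable H) : Nat.card V = 25 ∨ Nat.card V = 49 ∨ Nat.card V = 121 ∨ Nat.card V = 529 := by
  classical
  obtain ⟨W₁, hW₁, -, -⟩ := hI ⊥ inferInstance inferInstance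
  obtain ⟨v, -, hv⟩ := Submodule.exists_mem_ne_zero_of_ne_bot hW₁
  haveI : Nontrivial V := nontrivial_of_ne v 0 hv
  haveI := Perm.NearField.finite_H (H := H)
  haveI := hsolv
  -- a maximal abelian normal subgroup
  obtain ⟨A, ⟨hAn, hAc⟩, hAmax'⟩ := wellFounded_gt.has_min
    {A : Subgroup H | A.Normal ∧ IsMulCommutative A} ⟨⊥, inferInstance, inferInstance⟩
  have hAmax : ∀ B : Subgroup H, B.Normal → IsMulCommutative B → A ≤ B → B = A :=
    fun B hB hBc hle => (hle.eq_or_lt.resolve_right (hAmax' B ⟨hB, hBc⟩)).symm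
  have hcyc := Perm.NearField.isCyclic_of_comm hreg hAn hAc
  obtain ⟨W₀, hW₀, hW₀t, hW₀i⟩ := hI A hAn hcyc
  obtain ⟨W, hle, hW⟩ := Perm.NearField.exists_irr_le (A := A) hW₀i hW₀
  have hWt : W ≠ ⊤ := fun e => hW₀t (eq_top_iff.2 (e ▸ hle))
  obtain ⟨-, hna⟩ := S0685.result H hreg hI A hAn hAc hAmax
  haveI := hAn
  -- a minimal nonabelian normal subgroup
  obtain ⟨N, ⟨hNn, hNle, hNna⟩, hNmin'⟩ := wellFounded_lt.has_min
    {N : Subgroup H | N.Normal ∧ N ≤ Subgroup.centralizer (A : Set H) ∧ ¬ IsMulCommutative N}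
    ⟨_, inferInstance, le_rfl, hna⟩
  have hNmin : ∀ M : Subgroup H, M.Normal → M ≤ N → ¬ IsMulCommutative M → M = N :=
    fun M hM hle hMna => hle.eq_or_lt.resolve_right (hNmin' M ⟨hM, hle.trans hNle, hMna⟩)
  obtain ⟨e⟩ := Perm.NearField.minimal_q8 hreg hAn hAc hAmax hNn hNle hNna hNmin inferInstance
  obtain ⟨hfr, hp2⟩ := Perm.NearField.finrank_le_two hreg hNn e
  have hk : 0 < Module.finrank (ZMod p) W := by
    haveI : Nontrivial W := Submodule.nontrivial_iff_ne_bot.2 hW.2.1
    exact Module.finrank_pos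
  have h2k := Perm.NearField.two_mul_le hreg hAn hAc hW hWt
  have hn : Module.finrank (ZMod p) V = 2 := by omega
  have hk1 : Module.finrank (ZMod p) W = 1 := by omega
  have hV : Nat.card V = p ^ 2 := by
    rw [Module.natCard_eq_pow_finrank (K := ZMod p) (V := V), hn, Nat.card_zmod]
  have hA : Nat.card A ∣ p - 1 := by
    simpa [hk1] using Perm.NearField.card_dvd hreg hAn hAc hW
  have hCA : Subgroup.centralizer (N : Set H) = A := (S0687.result H hreg hI A hAn hAc hAmax
    N hNn hNle hNna hNmin).2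
  haveI := hNn
  have hker : (MulAut.conjNormal (H := N)).ker = A := by
    rw [← hCA]
    ext h
    rw [MonoidHom.mem_ker, Subgroup.mem_centralizer_iff]
    constructor
    · intro hh n hn
      have h1 := congrArg Subtype.val (DFunLike.congr_fun hh (⟨n, hn⟩ : N))
      rw [MulAut.conjNormal_apply] at h1
      exact (mul_inv_eq_iff_eq_mul.1 (h1 : h * n * h⁻¹ = n)).symm
    · intro hh
      refine MulEquiv.ext fun n => Subtype.ext ?_
      rw [MulAut.conjNormal_apply, ← hh n n.2, mul_inv_cancel_right]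
      rfl
  have hd : Nat.card H ∣ (p - 1) * 24 := by
    rw [Subgroup.card_eq_card_quotient_mul_card_subgroup (MulAut.conjNormal (H := N)).ker,
      mul_comm, show Nat.card (MulAut.conjNormal (H := N)).ker = Nat.card A by rw [hker]]
    refine mul_dvd_mul hA ?_
    rw [Nat.card_congr (QuotientGroup.quotientKerEquivRange _).toEquiv]
    refine (Subgroup.card_subgroup_dvd_card _).trans ?_
    rw [Nat.card_congr (MulAut.congr e).toEquiv, Nat.card_congr (S3742.result.some).toEquiv,
      Nat.card_perm, Nat.card_fin]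
    decide
  have hH : Nat.card H = p ^ 2 - 1 := by rw [Perm.NearField.card_eq hreg, hV]
  have hp1 := (Fact.out : p.Prime).two_le
  have hdiv : p + 1 ∣ 24 := by
    rw [hH, show p ^ 2 - 1 = (p - 1) * (p + 1) by
      rw [mul_comm, ← Nat.sq_sub_sq, one_pow]] at hd
    exact Nat.dvd_of_mul_dvd_mul_left (by omega) hd
  have hp23 : p ≤ 23 := by have := Nat.le_of_dvd (by norm_num) hdiv; omega
  have h3 : p ≠ 3 := by
    rintro rfl
    have hNc : Nat.card N = 8 := by
      rw [Nat.card_congr e.toEquiv, Nat.card_eq_fintype_card, QuaternionGroup.card]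
    set i : N := e.symm (QuaternionGroup.a 1) with hi
    set B := (Subgroup.zpowers i).map N.subtype with hB
    have hBc : Nat.card B = 4 := by
      rw [hB, Subgroup.card_subtype, Nat.card_zpowers, hi, MulEquiv.orderOf_eq,
        QuaternionGroup.orderOf_a_one]
    have hBidx : B.index = 2 := by
      have := B.card_mul_index
      rw [hBc, hH] at this
      omega
    haveI : IsCyclic B := by
      rw [hB, MonoidHom.map_zpowers]
      infer_instance
    obtain ⟨U, hU, hUt, hUi⟩ := hI B (Subgroup.normal_of_index_eq_two hBidx) inferInstance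
    have hU1 : Module.finrank (ZMod 3) U = 1 := by
      haveI : Nontrivial U := Submodule.nontrivial_iff_ne_bot.2 hU
      have h1 := Submodule.finrank_lt hUt
      have h2 : 0 < Module.finrank (ZMod 3) U := Module.finrank_pos
      omega
    obtain ⟨u, hu, hu0⟩ := Submodule.exists_mem_ne_zero_of_ne_bot hU
    have hiB : (i : H) ∈ B := ⟨i, Subgroup.mem_zpowers i, rfl⟩
    obtain ⟨c, hc⟩ := (finrank_eq_one_iff_of_nonzero' (⟨u, hu⟩ : U)
      fun e => hu0 (congrArg Subtype.val e)).1 hU1 ⟨_, hUi _ hiB u hu⟩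
    have hc' : Perm.NearField.endH H (i : H) u = c • u := (congrArg Subtype.val hc).symm
    have hi2 : (i * i : N) ≠ 1 := by
      intro h
      have := congrArg e h
      simp only [hi, map_mul, map_one, MulEquiv.apply_symm_apply] at this
      revert this; decide
    have hinv := Perm.NearField.involution_apply hreg (h := ((i * i : N) : H))
      (fun h => hi2 (Subtype.ext h)) (by
        rw [← Subgroup.coe_mul, hi, ← map_mul, ← map_mul, show QuaternionGroup.a 1 *
          QuaternionGroup.a 1 * (QuaternionGroup.a 1 * QuaternionGroup.a 1)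
            = (1 : QuaternionGroup 2) by decide, map_one, Subgroup.coe_one]) u
    rw [← Perm.NearField.endH_apply, Subgroup.coe_mul, map_mul, Module.End.mul_apply, hc', map_smul,
      hc', smul_smul, ← neg_one_smul (ZMod 3) u] at hinv
    exact no_sqrt c (smul_left_injective (ZMod 3) hu0 hinv)
  have hprime := (Fact.out : p.Prime)
  rw [hV]
  interval_cases p <;> norm_num at *

end Cfsg.Agent.S0688
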