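import Cfsg.Statements.S0690
import Cfsg.Agent.S0033
import Cfsg.Agent.Lib.Perm.Fpf.OfAut

set_option autoImplicit false
open Cfsg

namespace Cfsg.Agent.S0690

/-- Zassenhaus: a perfect non-trivial group of fixed-point-free automorphisms of a finite group is isomorphic to `SL(2,5)`. -/
theorem result {K : Type*} [Group K] [Finite K] (G : Subgroup (MulAut K)) (hfpf : ∀ φ ∈ G, φ ≠ 1 → ∀ k : K, φ k = k → k = 1) (hperf : commutator G = ⊤) (hne : G ≠ ⊥) : Nonempty (G ≃* Matrix.SpecialLinearGroup (Fin 2) (ZMod 5)) := by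
  classical
  obtain ⟨g, hg, hg1⟩ := (Subgroup.bot_or_exists_ne_one G).resolve_left hne
  have : Nontrivial G := ⟨⟨⟨g, hg⟩, 1, fun e => hg1 (congrArg Subtype.val e)⟩⟩
  have : Nontrivial K := by
    by_contra h
    rw [not_nontrivial_iff_subsingleton] at h
    exact hg1 (MulEquiv.ext fun _ => Subsingleton.elim _ _)
  -- an element of prime order makes `K` nilpotent
  obtain ⟨p, hp, hpG⟩ := Nat.exists_prime_and_dvd (Finite.one_lt_card (α := G)).ne'
  have := Fact.mk hp
  obtain ⟨φ, hφ⟩ := exists_prime_orderOf_dvd_card' p hpG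
  have hφ1 : (φ : MulAut K) ≠ 1 := fun e => by
    rw [show φ = 1 from Subtype.ext e, orderOf_one] at hφ
    exact hp.ne_one hφ.symm
  have : Group.IsNilpotent K := S0033.result (φ : MulAut K)
    (fun k hk => hfpf _ φ.2 hφ1 k hk) p hp (by
      show orderOf (φ : MulAut K) = p
      rw [Subgroup.orderOf_coe, hφ])
  -- an invariant elementary abelian subgroup
  have : Nontrivial (Subgroup.center K) :=
    (Subgroup.nontrivial_iff_ne_bot _).2 (Group.IsNilpotent.center_ne_bot K)
  obtain ⟨r, hr, hrK⟩ :=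
    Nat.exists_prime_and_dvd (Finite.one_lt_card (α := Subgroup.center K)).ne'
  have := Fact.mk hr
  let W : Subgroup K :=
    { carrier := {z | z ∈ Subgroup.center K ∧ z ^ r = 1}
      one_mem' := ⟨one_mem _, one_pow r⟩
      mul_mem' := fun {a b} ha hb => ⟨mul_mem ha.1 hb.1, by
        rw [Commute.mul_pow (Subgroup.mem_center_iff.1 ha.1 b).symm, ha.2, hb.2, one_mul]⟩
      inv_mem' := fun {a} ha => ⟨inv_mem ha.1, by rw [inv_pow, ha.2, inv_one]⟩ }
  have : Nontrivial W := by
    obtain ⟨z, hz⟩ := exists_prime_orderOf_dvd_card' r hrK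
    rw [← Subgroup.orderOf_coe] at hz
    refine ⟨⟨⟨z, z.2, by rw [← hz, pow_orderOf_eq_one]⟩, 1, fun e => ?_⟩⟩
    rw [show (z : K) = 1 from congrArg Subtype.val e, orderOf_one] at hz
    exact hr.ne_one hz.symm
  letI : CommGroup W := { (inferInstance : Group W) with
    mul_comm := fun a b => Subtype.ext (Subgroup.mem_center_iff.1 b.2.1 a) }
  have hinv : ∀ (ψ : MulAut K) (w : K), w ∈ W → ψ w ∈ W := fun ψ w hw =>
    ⟨Subgroup.mem_center_iff.2 fun y => by
      obtain ⟨y', rfl⟩ := ψ.surjective y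
      rw [← map_mul, ← map_mul, Subgroup.mem_center_iff.1 hw.1 y'], by
      rw [← map_pow, hw.2, map_one]⟩
  let act : G →* MulAut W :=
    { toFun := fun ψ =>
        { toFun := fun w => ⟨(ψ : MulAut K) w, hinv _ _ w.2⟩
          invFun := fun w => ⟨(ψ : MulAut K).symm w, hinv _ _ w.2⟩
          left_inv := fun w => Subtype.ext ((ψ : MulAut K).symm_apply_apply _)
          right_inv := fun w => Subtype.ext ((ψ : MulAut K).apply_symm_apply _)
          map_mul' := fun a b => Subtype.ext (map_mul (ψ : MulAut K) _ _) }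
      map_one' := MulEquiv.ext fun w => rfl
      map_mul' := fun a b => MulEquiv.ext fun w => rfl }
  refine Cfsg.Agent.Perm.Fpf.iso_sl25_of_aut (W := W) (r := r) (fun w => Subtype.ext w.2.2) act
    (fun ψ w hw hw1 => ?_) hperf
  by_contra hψ
  exact hw1 (Subtype.ext (hfpf _ ψ.2 (fun e => hψ (Subtype.ext e)) _ (congrArg Subtype.val hw)))

end Cfsg.Agent.S0690
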