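import Cfsg.Statements.S0691
import Cfsg.Agent.PermMat.Cert

set_option autoImplicit false
open Cfsg

namespace Cfsg.Agent.S0691

/-- The generators. -/
def gens : List (Cfsg.Agent.PermMat.Cert.Quad 5) :=
  [(2, 0, 0, 3),
    (0, 4, 1, 0),
    (1, 2, 1, 3)]

/-- The elements of the group. -/
def table : List (Cfsg.Agent.PermMat.Cert.Quad 5) :=
  [(1, 0, 0, 1),
    (2, 0, 0, 3),
    (0, 4, 1, 0),
    (1, 2, 1, 3),
    (4, 0, 0, 4),
    (0, 2, 2, 0),
    (2, 1, 2, 4),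
    (0, 3, 3, 0),
    (2, 4, 3, 4),
    (4, 2, 1, 2),
    (3, 3, 4, 1),
    (3, 0, 0, 2),
    (0, 1, 4, 0),
    (4, 3, 4, 2),
    (3, 1, 2, 1),
    (1, 4, 3, 3),
    (1, 3, 4, 3),
    (3, 2, 1, 1),
    (3, 4, 3, 1),
    (1, 1, 2, 3),
    (2, 2, 1, 4),
    (2, 3, 4, 4),
    (4, 4, 3, 2),
    (4, 1, 2, 2)]

theorem cert_ok : Cfsg.Agent.PermMat.Cert.cert gens table = true := by decide +kernel

theorem cols_nodup : (table.map Cfsg.Agent.PermMat.Cert.col).Nodup := by decide +kernel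

/-- An exceptional sharply doubly transitive group of degree 5^2: the listed matrices generate a subgroup of GL(2,5) of order 24 acting regularly on the non-zero vectors. -/
theorem result (A : Matrix.GeneralLinearGroup (Fin 2) (ZMod 5)) (B : Matrix.GeneralLinearGroup (Fin 2) (ZMod 5)) (C : Matrix.GeneralLinearGroup (Fin 2) (ZMod 5)) (hA : (A : Matrix (Fin 2) (Fin 2) (ZMod 5)) = !![2, 0; 0, -2]) (hB : (B : Matrix (Fin 2) (Fin 2) (ZMod 5)) = !![0, -1; 1, 0]) (hC : (C : Matrix (Fin 2) (Fin 2) (ZMod 5)) = !![1, 2; 1, -2]) : Nat.card (Subgroup.closure ({A, B, C} : Set (Matrix.GeneralLinearGroup (Fin 2) (ZMod 5)))) = 24 ∧ ∀ v w : Fin 2 → ZMod 5, v ≠ 0 → w ≠ 0 → ∃! h : Subgroup.closure ({A, B, C} : Set (Matrix.GeneralLinearGroup (Fin 2) (ZMod 5))), Matrix.mulVec ((h : Matrix.GeneralLinearGroup (Fin 2) (ZMod 5)) : Matrix (Fin 2) (Fin 2) (ZMod 5)) v = w := by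
  have : Fact (Nat.Prime 5) := ⟨by norm_num⟩
  have hs : (fun M : Matrix.GeneralLinearGroup (Fin 2) (ZMod 5) =>
      (M : Matrix (Fin 2) (Fin 2) (ZMod 5))) '' {A, B, C} =
        Cfsg.Agent.PermMat.Cert.toMat '' {g | g ∈ gens} := by
    simp only [gens, List.mem_cons, List.not_mem_nil, or_false, Set.ofPred_or, Set.image_union,
      Set.image_singleton, Set.image_insert_eq]
    simp only [Cfsg.Agent.PermMat.Cert.toMat, hA, hB, hC]
    ext M
    simp [Cfsg.Agent.PermMat.Cert.toMat, show (-1 : ZMod 5) = 4 from rfl, show (-2 : ZMod 5) = 3 from rfl, show (-3 : ZMod 5) = 2 from rfl, or_comm, or_left_comm]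
  have hc := cert_ok
  have hnd : table.Nodup := cols_nodup.of_map _
  have hcard := Cfsg.Agent.PermMat.Cert.card_closure hs hc hnd
  rw [show table.length = 24 from rfl] at hcard
  refine ⟨hcard, Cfsg.Agent.PermMat.Cert.regular (by rw [hcard]; norm_num) ?_⟩
  intro h hh hfix
  obtain ⟨x, hx, hxh⟩ := (Cfsg.Agent.PermMat.Cert.closure_eq hs hc h).1 hh
  rw [hxh, Cfsg.Agent.PermMat.Cert.toMat_mulVec_e1] at hfix
  have hone : ((1, 0, 0, 1) : Cfsg.Agent.PermMat.Cert.Quad 5) ∈ table := List.mem_cons_self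
  have := List.inj_on_of_nodup_map cols_nodup hx hone
    (Prod.ext (congrFun hfix 0) (congrFun hfix 1))
  apply Units.ext
  rw [hxh, this, Cfsg.Agent.PermMat.Cert.toMat_one]
  rfl

end Cfsg.Agent.S0691
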