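import Cfsg.Statements.S0692
import Cfsg.Agent.PermMat.Cert

set_option autoImplicit false
open Cfsg

namespace Cfsg.Agent.S0692

/-- The generators. -/
def gens : List (Cfsg.Agent.PermMat.Cert.Quad 11) :=
  [(0, 10, 1, 0),
    (2, 4, 1, 8)]

/-- The elements of the group. -/
def table : List (Cfsg.Agent.PermMat.Cert.Quad 11) :=
  [(1, 0, 0, 1),
    (0, 10, 1, 0),
    (2, 4, 1, 8),
    (10, 0, 0, 10),
    (4, 9, 8, 10),
    (10, 3, 2, 4),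
    (8, 7, 10, 2),
    (0, 1, 10, 0),
    (9, 7, 10, 3),
    (3, 1, 4, 9),
    (7, 3, 2, 1),
    (6, 0, 4, 2),
    (1, 9, 8, 7),
    (7, 2, 3, 1),
    (1, 8, 9, 7),
    (3, 4, 1, 9),
    (0, 5, 2, 7),
    (9, 10, 7, 3),
    (7, 9, 6, 0),
    (6, 8, 5, 5),
    (1, 2, 10, 10),
    (8, 10, 7, 2),
    (4, 8, 9, 10),
    (5, 0, 7, 9),
    (10, 2, 3, 4),
    (9, 4, 0, 5),
    (8, 5, 5, 6),
    (2, 10, 10, 1),
    (5, 7, 0, 9),
    (6, 6, 6, 8),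
    (1, 1, 1, 2),
    (9, 0, 4, 5),
    (0, 6, 9, 4),
    (2, 1, 4, 8),
    (4, 2, 5, 0),
    (5, 3, 6, 6),
    (10, 9, 1, 1),
    (7, 6, 9, 0),
    (6, 5, 8, 5),
    (1, 10, 2, 10),
    (0, 2, 5, 7),
    (10, 6, 5, 2),
    (3, 0, 10, 4),
    (6, 10, 9, 6),
    (2, 7, 0, 6),
    (3, 6, 6, 5),
    (9, 1, 1, 10),
    (6, 4, 0, 2),
    (5, 5, 5, 3),
    (10, 10, 10, 9),
    (2, 0, 7, 6),
    (6, 1, 2, 6),
    (0, 8, 4, 1),
    (10, 5, 6, 2),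
    (6, 9, 10, 6),
    (1, 7, 3, 0),
    (2, 5, 6, 10),
    (4, 0, 1, 3),
    (4, 5, 2, 0),
    (5, 6, 3, 6),
    (10, 1, 9, 1),
    (0, 9, 6, 4),
    (1, 5, 6, 9),
    (8, 0, 1, 7),
    (5, 1, 2, 5),
    (9, 5, 6, 1),
    (7, 10, 0, 8),
    (5, 9, 10, 5),
    (0, 7, 3, 10),
    (8, 9, 9, 2),
    (3, 3, 3, 7),
    (10, 8, 4, 0),
    (5, 10, 9, 5),
    (0, 3, 7, 10),
    (1, 6, 5, 9),
    (5, 2, 1, 5),
    (10, 4, 8, 0),
    (9, 6, 5, 1),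
    (7, 0, 10, 8),
    (9, 3, 2, 2),
    (3, 8, 7, 8),
    (8, 1, 0, 7),
    (2, 9, 8, 9),
    (8, 4, 3, 3),
    (7, 1, 5, 4),
    (3, 5, 9, 8),
    (2, 6, 5, 10),
    (4, 1, 0, 3),
    (6, 2, 1, 6),
    (0, 4, 8, 1),
    (3, 2, 2, 9),
    (8, 8, 8, 4),
    (1, 3, 7, 0),
    (9, 9, 9, 3),
    (4, 3, 3, 8),
    (1, 4, 4, 6),
    (5, 8, 8, 2),
    (3, 10, 0, 4),
    (6, 7, 7, 1),
    (2, 3, 3, 5),
    (2, 8, 9, 9),
    (8, 3, 4, 3),
    (9, 2, 3, 2),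
    (3, 7, 8, 8),
    (4, 10, 6, 7),
    (8, 6, 2, 3),
    (7, 5, 1, 4),
    (3, 9, 5, 8),
    (6, 3, 3, 9),
    (7, 7, 7, 4),
    (5, 4, 4, 10),
    (2, 2, 2, 8),
    (7, 8, 8, 3),
    (10, 7, 7, 5),
    (9, 8, 8, 6),
    (7, 4, 4, 4),
    (4, 6, 10, 7),
    (8, 2, 6, 3),
    (4, 7, 7, 7),
    (4, 4, 4, 7)]

theorem cert_ok : Cfsg.Agent.PermMat.Cert.cert gens table = true := by decide +kernel

theorem cols_nodup : (table.map Cfsg.Agent.PermMat.Cert.col).Nodup := by decide +kernel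

/-- An exceptional sharply doubly transitive group of degree 11^2: the listed matrices generate a subgroup of GL(2,11) of order 120 acting regularly on the non-zero vectors. -/
theorem result (A : Matrix.GeneralLinearGroup (Fin 2) (ZMod 11)) (B : Matrix.GeneralLinearGroup (Fin 2) (ZMod 11)) (hA : (A : Matrix (Fin 2) (Fin 2) (ZMod 11)) = !![0, -1; 1, 0]) (hB : (B : Matrix (Fin 2) (Fin 2) (ZMod 11)) = !![2, 4; 1, -3]) : Nat.card (Subgroup.closure ({A, B} : Set (Matrix.GeneralLinearGroup (Fin 2) (ZMod 11)))) = 120 ∧ ∀ v w : Fin 2 → ZMod 11, v ≠ 0 → w ≠ 0 → ∃! h : Subgroup.closure ({A, B} : Set (Matrix.GeneralLinearGroup (Fin 2) (ZMod 11))), Matrix.mulVec ((h : Matrix.GeneralLinearGroup (Fin 2) (ZMod 11)) : Matrix (Fin 2) (Fin 2) (ZMod 11)) v = w := by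
  have : Fact (Nat.Prime 11) := ⟨by norm_num⟩
  have hs : (fun M : Matrix.GeneralLinearGroup (Fin 2) (ZMod 11) =>
      (M : Matrix (Fin 2) (Fin 2) (ZMod 11))) '' {A, B} =
        Cfsg.Agent.PermMat.Cert.toMat '' {g | g ∈ gens} := by
    simp only [gens, List.mem_cons, List.not_mem_nil, or_false, Set.ofPred_or, Set.image_union,
      Set.image_singleton, Set.image_insert_eq]
    simp only [Cfsg.Agent.PermMat.Cert.toMat, hA, hB]
    ext M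
    simp [Cfsg.Agent.PermMat.Cert.toMat, show (-1 : ZMod 11) = 10 from rfl, show (-2 : ZMod 11) = 9 from rfl, show (-3 : ZMod 11) = 8 from rfl, or_comm, or_left_comm]
  have hc := cert_ok
  have hnd : table.Nodup := cols_nodup.of_map _
  have hcard := Cfsg.Agent.PermMat.Cert.card_closure hs hc hnd
  rw [show table.length = 120 from rfl] at hcard
  refine ⟨hcard, Cfsg.Agent.PermMat.Cert.regular (by rw [hcard]; norm_num) ?_⟩
  intro h hh hfix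
  obtain ⟨x, hx, hxh⟩ := (Cfsg.Agent.PermMat.Cert.closure_eq hs hc h).1 hh
  rw [hxh, Cfsg.Agent.PermMat.Cert.toMat_mulVec_e1] at hfix
  have hone : ((1, 0, 0, 1) : Cfsg.Agent.PermMat.Cert.Quad 11) ∈ table := List.mem_cons_self
  have := List.inj_on_of_nodup_map cols_nodup hx hone
    (Prod.ext (congrFun hfix 0) (congrFun hfix 1))
  apply Units.ext
  rw [hxh, this, Cfsg.Agent.PermMat.Cert.toMat_one]
  rfl

end Cfsg.Agent.S0692
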