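import Cfsg.Statements.S0693
import Cfsg.Agent.PermMat.Cert

set_option autoImplicit false
open Cfsg

namespace Cfsg.Agent.S0693

/-- The generators of the subgroup of order 120. -/
def gens : List (Cfsg.Agent.PermMat.Cert.Quad 59) :=
  [(0, 58, 1, 0),
    (9, 15, 49, 49)]

/-- The elements of the subgroup of order 120. -/
def table : List (Cfsg.Agent.PermMat.Cert.Quad 59) :=
  [(1, 0, 0, 1),
    (0, 58, 1, 0),
    (9, 15, 49, 49),
    (58, 0, 0, 58),
    (15, 50, 49, 10),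
    (10, 10, 9, 15),
    (49, 44, 10, 9),
    (0, 1, 58, 0),
    (50, 44, 10, 10),
    (10, 49, 15, 50),
    (44, 10, 9, 49),
    (48, 20, 46, 45),
    (49, 50, 49, 44),
    (44, 9, 10, 49),
    (49, 49, 50, 44),
    (10, 15, 49, 50),
    (20, 11, 45, 13),
    (50, 10, 44, 10),
    (13, 14, 48, 20),
    (1, 29, 4, 58),
    (55, 48, 23, 4),
    (49, 10, 44, 9),
    (15, 49, 50, 10),
    (11, 39, 13, 14),
    (10, 9, 10, 15),
    (14, 46, 20, 11),
    (29, 58, 58, 55),
    (48, 4, 4, 36),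
    (11, 13, 39, 14),
    (55, 1, 1, 29),
    (36, 55, 55, 48),
    (14, 20, 46, 11),
    (39, 48, 14, 46),
    (9, 49, 15, 49),
    (46, 45, 11, 39),
    (58, 30, 55, 1),
    (4, 11, 36, 55),
    (13, 48, 14, 20),
    (1, 4, 29, 58),
    (55, 23, 48, 4),
    (20, 45, 11, 13),
    (35, 32, 31, 25),
    (38, 31, 30, 54),
    (28, 35, 34, 32),
    (45, 13, 39, 48),
    (30, 1, 1, 4),
    (11, 55, 55, 23),
    (48, 46, 20, 45),
    (4, 58, 58, 30),
    (23, 4, 4, 11),
    (45, 39, 13, 48),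
    (32, 24, 25, 28),
    (31, 21, 54, 29),
    (35, 31, 32, 25),
    (28, 34, 35, 32),
    (29, 5, 38, 31),
    (25, 27, 28, 35),
    (54, 28, 29, 38),
    (46, 11, 45, 39),
    (58, 55, 30, 1),
    (4, 36, 11, 55),
    (39, 14, 48, 46),
    (24, 27, 28, 34),
    (21, 28, 29, 5),
    (31, 24, 25, 27),
    (34, 31, 32, 24),
    (5, 30, 31, 21),
    (27, 34, 35, 31),
    (28, 5, 38, 30),
    (10, 19, 19, 48),
    (5, 38, 38, 53),
    (30, 21, 54, 28),
    (27, 35, 34, 31),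
    (28, 38, 5, 30),
    (24, 28, 27, 34),
    (31, 25, 24, 27),
    (30, 54, 21, 28),
    (34, 32, 31, 24),
    (5, 31, 30, 21),
    (19, 49, 48, 40),
    (38, 54, 53, 21),
    (21, 29, 28, 5),
    (40, 11, 10, 19),
    (21, 6, 5, 38),
    (25, 16, 42, 34),
    (18, 19, 45, 41),
    (25, 28, 27, 35),
    (54, 29, 28, 38),
    (32, 25, 24, 28),
    (31, 54, 21, 29),
    (49, 40, 40, 11),
    (54, 21, 21, 6),
    (29, 38, 5, 31),
    (11, 19, 19, 49),
    (6, 38, 38, 54),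
    (16, 34, 34, 17),
    (19, 41, 41, 14),
    (38, 30, 31, 54),
    (17, 25, 25, 16),
    (14, 18, 18, 19),
    (40, 10, 11, 19),
    (21, 5, 6, 38),
    (19, 48, 49, 40),
    (38, 53, 54, 21),
    (34, 43, 17, 25),
    (41, 40, 14, 18),
    (25, 42, 16, 34),
    (18, 45, 19, 41),
    (40, 18, 18, 45),
    (56, 52, 52, 3),
    (42, 34, 34, 43),
    (48, 40, 40, 10),
    (53, 21, 21, 5),
    (43, 25, 25, 42),
    (45, 41, 41, 40),
    (52, 3, 3, 7),
    (34, 17, 43, 25),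
    (41, 14, 40, 18),
    (7, 56, 56, 52),
    (3, 7, 7, 56)]

/-- An invariant of a vector under scaling by the squares: the line and a quadratic character. -/
def key (v : ZMod 59 × ZMod 59) : ZMod 59 × Bool × Bool :=
  if v.1 = 0 then (0, decide (v.2 ^ 29 = 1), true) else (v.2 * v.1 ^ 57, decide (v.1 ^ 29 = 1), false)

theorem cert_ok : Cfsg.Agent.PermMat.Cert.cert gens table = true := by decide +kernel

theorem keys_nodup : (table.map fun x => key (Cfsg.Agent.PermMat.Cert.col x)).Nodup := by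
  decide +kernel

theorem cols_ne : (table.all fun x => decide
    (¬ ((Cfsg.Agent.PermMat.Cert.col x).1 = 0 ∧ (Cfsg.Agent.PermMat.Cert.col x).2 = 0))) = true := by
  decide +kernel

theorem pow4_inj : ∀ m < 29, ∀ n < 29, (4 : ZMod 59) ^ m = 4 ^ n → m = n := by decide +kernel

theorem pow58 : (4 : ZMod 59) ^ 58 = 1 := by decide +kernel

theorem pow29 : (4 : ZMod 59) ^ 29 = 1 := by decide +kernel

theorem four_ne_one : (4 : ZMod 59) ≠ 1 := by decide +kernel

theorem key_smul (n : ℕ) (a c : ZMod 59) :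
    key (4 ^ n * a, 4 ^ n * c) = key (a, c) := by
  have : Fact (Nat.Prime 59) := ⟨by norm_num⟩
  have h58 : ((4 : ZMod 59) ^ n) ^ 58 = 1 := by
    rw [← pow_mul, mul_comm, pow_mul, pow58, one_pow]
  have h29 : ((4 : ZMod 59) ^ n) ^ 29 = 1 := by
    rw [← pow_mul, mul_comm, pow_mul, pow29, one_pow]
  have hne : (4 : ZMod 59) ^ n ≠ 0 := fun h => by rw [h] at h58; simp at h58
  simp only [key, mul_eq_zero, hne, false_or, mul_pow, h29, one_mul]
  split_ifs
  · rfl
  · rw [show (4 : ZMod 59) ^ n * c * (((4 : ZMod 59) ^ n) ^ 57 * a ^ 57) =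
      ((4 : ZMod 59) ^ n) ^ 58 * (c * a ^ 57) by ring, h58, one_mul]

/-- An exceptional sharply doubly transitive group of degree 59^2: the listed matrices generate a subgroup of GL(2,59) of order 3480 acting regularly on the non-zero vectors. -/
theorem result (A : Matrix.GeneralLinearGroup (Fin 2) (ZMod 59)) (B : Matrix.GeneralLinearGroup (Fin 2) (ZMod 59)) (C : Matrix.GeneralLinearGroup (Fin 2) (ZMod 59)) (hA : (A : Matrix (Fin 2) (Fin 2) (ZMod 59)) = !![0, -1; 1, 0]) (hB : (B : Matrix (Fin 2) (Fin 2) (ZMod 59)) = !![9, 15; -10, -10]) (hC : (C : Matrix (Fin 2) (Fin 2) (ZMod 59)) = !![4, 0; 0, 4]) : Nat.card (Subgroup.closure ({A, B, C} : Set (Matrix.GeneralLinearGroup (Fin 2) (ZMod 59)))) = 3480 ∧ ∀ v w : Fin 2 → ZMod 59, v ≠ 0 → w ≠ 0 → ∃! h : Subgroup.closure ({A, B, C} : Set (Matrix.GeneralLinearGroup (Fin 2) (ZMod 59))), Matrix.mulVec ((h : Matrix.GeneralLinearGroup (Fin 2) (ZMod 59)) : Matrix (Fin 2) (Fin 2) (ZMod 59)) v = w := by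
  have : Fact (Nat.Prime 59) := ⟨by norm_num⟩
  have hs : (fun M : Matrix.GeneralLinearGroup (Fin 2) (ZMod 59) =>
      (M : Matrix (Fin 2) (Fin 2) (ZMod 59))) '' {A, B} =
        Cfsg.Agent.PermMat.Cert.toMat '' {g | g ∈ gens} := by
    simp only [gens, List.mem_cons, List.not_mem_nil, or_false, Set.ofPred_or, Set.image_union,
      Set.image_singleton, Set.image_insert_eq]
    simp only [Cfsg.Agent.PermMat.Cert.toMat, hA, hB]
    ext M
    simp [Cfsg.Agent.PermMat.Cert.toMat, show (-1 : ZMod 59) = 58 from rfl, show (-10 : ZMod 59) = 49 from rfl, or_comm]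
  set K := Subgroup.closure ({A, B} : Set (Matrix.GeneralLinearGroup (Fin 2) (ZMod 59))) with hK
  set Z := Subgroup.zpowers C with hZ
  set H := Subgroup.closure ({A, B, C} : Set (Matrix.GeneralLinearGroup (Fin 2) (ZMod 59))) with hH
  have hnd : table.Nodup := keys_nodup.of_map _
  have hKc : Nat.card K = 120 := Cfsg.Agent.PermMat.Cert.card_closure hs cert_ok hnd
  have hCval : (C : Matrix (Fin 2) (Fin 2) (ZMod 59)) = (4 : ZMod 59) • 1 := by
    rw [hC, Matrix.one_fin_two]; simp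
  have hCpow : ∀ n : ℕ, ((C ^ n : Matrix.GeneralLinearGroup (Fin 2) (ZMod 59)) :
      Matrix (Fin 2) (Fin 2) (ZMod 59)) = ((4 : ZMod 59) ^ n) • 1 := by
    intro n
    induction n with
    | zero => rw [pow_zero, pow_zero, one_smul]; rfl
    | succ n ih => rw [pow_succ, Units.val_mul, ih, hCval, Matrix.smul_mul, Matrix.one_mul, smul_smul, pow_succ]
  have hord : orderOf C = 29 := by
    have : Fact (Nat.Prime 29) := ⟨by norm_num⟩
    apply orderOf_eq_prime
    · apply Units.ext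
      rw [hCpow, pow29]; simp
    · intro h
      have h0 : (C : Matrix (Fin 2) (Fin 2) (ZMod 59)) = 1 := by rw [h]; rfl
      have := Matrix.ext_iff.2 h0 0 0
      rw [hC] at this
      exact four_ne_one this
  have hKZ : K ≤ Subgroup.normalizer (Z : Set (Matrix.GeneralLinearGroup (Fin 2) (ZMod 59))) := by
    intro k _
    refine Subgroup.centralizer_le_normalizer (Z : Set (Matrix.GeneralLinearGroup (Fin 2) (ZMod 59))) ?_
    rw [Subgroup.mem_centralizer_iff]
    rintro z ⟨i, rfl⟩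
    refine (Commute.zpow_left ?_ i).eq
    show C * k = k * C
    apply Units.ext
    rw [Units.val_mul, Units.val_mul, hCval]
    simp
  have hHeq : H = K ⊔ Z := by
    rw [hH, hK, hZ, Subgroup.zpowers_eq_closure, ← Subgroup.closure_union]
    congr 1
    ext M
    simp [or_assoc, or_comm, or_left_comm]
  have hdec : ∀ h ∈ H, ∃ x ∈ table, ∃ n < 29,
      (h : Matrix (Fin 2) (Fin 2) (ZMod 59)) =
        ((4 : ZMod 59) ^ n) • Cfsg.Agent.PermMat.Cert.toMat x := by
    intro h hh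
    rw [hHeq, ← SetLike.mem_coe, Subgroup.coe_mul_of_left_le_normalizer_right K Z hKZ] at hh
    obtain ⟨k, hk, z, hz, rfl⟩ := Set.mem_mul.1 hh
    obtain ⟨x, hx, hxk⟩ := (Cfsg.Agent.PermMat.Cert.closure_eq hs cert_ok k).1 hk
    obtain ⟨n, hn, rfl⟩ : ∃ n < 29, C ^ n = z := by
      classical
      have h1 := (mem_zpowers_iff_mem_range_orderOf).1 hz
      obtain ⟨n, hn, hn'⟩ := Finset.mem_image.1 h1
      exact ⟨n, by rw [Finset.mem_range, hord] at hn; exact hn, hn'⟩
    exact ⟨x, hx, n, hn, by rw [Units.val_mul, hxk, hCpow]; simp⟩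
  have hkey : ∀ x y : Cfsg.Agent.PermMat.Cert.Quad 59, x ∈ table → y ∈ table →
      ∀ m n : ℕ, m < 29 → n < 29 →
      ((4 : ZMod 59) ^ m) • (Cfsg.Agent.PermMat.Cert.toMat x).mulVec ![1, 0] =
        ((4 : ZMod 59) ^ n) • (Cfsg.Agent.PermMat.Cert.toMat y).mulVec ![1, 0] →
      x = y ∧ m = n := by
    intro x y hx hy m n hm hn h
    rw [Cfsg.Agent.PermMat.Cert.toMat_mulVec_e1, Cfsg.Agent.PermMat.Cert.toMat_mulVec_e1] at h
    have h0 : (4 : ZMod 59) ^ m * (Cfsg.Agent.PermMat.Cert.col x).1 =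
        4 ^ n * (Cfsg.Agent.PermMat.Cert.col y).1 := by simpa using congrFun h 0
    have h1 : (4 : ZMod 59) ^ m * (Cfsg.Agent.PermMat.Cert.col x).2 =
        4 ^ n * (Cfsg.Agent.PermMat.Cert.col y).2 := by simpa using congrFun h 1
    have hxy : x = y := by
      refine List.inj_on_of_nodup_map keys_nodup hx hy ?_
      rw [← key_smul m, ← key_smul n (Cfsg.Agent.PermMat.Cert.col y).1, h0, h1]
    subst hxy
    refine ⟨rfl, ?_⟩
    obtain ⟨hx1, hx2⟩ | hne : ((Cfsg.Agent.PermMat.Cert.col x).1 = 0 ∧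
        (Cfsg.Agent.PermMat.Cert.col x).2 = 0) ∨ ¬ _ := Classical.em _
    · exact absurd (And.intro hx1 hx2) (of_decide_eq_true (List.all_eq_true.1 cols_ne x hx))
    · have h4 : (4 : ZMod 59) ^ m = 4 ^ n := by
        rcases not_and_or.1 hne with h' | h'
        · exact mul_right_cancel₀ h' h0
        · exact mul_right_cancel₀ h' h1
      exact pow4_inj m hm n hn h4
  have hfree : ∀ h ∈ H, (h : Matrix (Fin 2) (Fin 2) (ZMod 59)).mulVec ![1, 0] = ![1, 0] → h = 1 := by
    intro h hh hfix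
    obtain ⟨x, hx, n, hn, hxn⟩ := hdec h hh
    rw [hxn, Matrix.smul_mulVec] at hfix
    obtain ⟨rfl, rfl⟩ := hkey x (1, 0, 0, 1) hx List.mem_cons_self n 0 hn (by norm_num) (by
      rw [hfix, Cfsg.Agent.PermMat.Cert.toMat_one]; simp)
    apply Units.ext
    rw [hxn, Cfsg.Agent.PermMat.Cert.toMat_one, pow_zero, one_smul]; rfl
  have hcard : Nat.card H = 3480 := by
    have hdisj : K ⊓ Z = ⊥ := by
      apply disjoint_iff.1
      apply Subgroup.disjoint_of_coprime_natCard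
      rw [hKc, hZ, Nat.card_zpowers, hord]; norm_num
    have e : Nat.card H = Nat.card (K × Z) := by
      refine (Nat.card_eq_of_bijective (fun q : K × Z => (⟨q.1.1 * q.2.1, hHeq ▸
        mul_mem (le_sup_left (b := Z) q.1.2) (le_sup_right (a := K) q.2.2)⟩ : H)) ⟨?_, ?_⟩).symm
      · rintro ⟨k, z⟩ ⟨k', z'⟩ hq
        have hq' : (k : Matrix.GeneralLinearGroup (Fin 2) (ZMod 59)) * z = k' * z' :=
          congrArg Subtype.val hq
        have hq3 : (k' : Matrix.GeneralLinearGroup (Fin 2) (ZMod 59))⁻¹ * k = z' * (z : Matrix.GeneralLinearGroup (Fin 2) (ZMod 59))⁻¹ := by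
          rw [inv_mul_eq_iff_eq_mul, ← mul_assoc]
          exact eq_mul_inv_iff_mul_eq.2 hq'
        have hmem : (k' : Matrix.GeneralLinearGroup (Fin 2) (ZMod 59))⁻¹ * k ∈ K ⊓ Z :=
          Subgroup.mem_inf.2 ⟨mul_mem (inv_mem k'.2) k.2, by rw [hq3]; exact mul_mem z'.2 (inv_mem z.2)⟩
        rw [hdisj, Subgroup.mem_bot, inv_mul_eq_one] at hmem
        obtain rfl : k' = k := Subtype.ext hmem
        exact Prod.ext rfl (Subtype.ext (mul_left_cancel hq'))
      · rintro ⟨h, hh⟩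
        rw [hHeq, ← SetLike.mem_coe, Subgroup.coe_mul_of_left_le_normalizer_right K Z hKZ] at hh
        obtain ⟨k, hk, z, hz, rfl⟩ := Set.mem_mul.1 hh
        exact ⟨⟨⟨k, hk⟩, ⟨z, hz⟩⟩, rfl⟩
    rw [e, Nat.card_prod, hKc, hZ, Nat.card_zpowers, hord]
  exact ⟨hcard, Cfsg.Agent.PermMat.Cert.regular (by rw [hcard]; norm_num) hfree⟩

end Cfsg.Agent.S0693
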