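import Cfsg.Statements.S0694
import Mathlib

set_option autoImplicit false
open Cfsg

namespace Cfsg.Agent.S0694

/-- The geometric sum. -/
def S (x i : ℕ) : ℕ := ∑ j ∈ Finset.range i, x ^ j

theorem geom (x i : ℕ) (hx : 1 ≤ x) : S x i * (x - 1) + 1 = x ^ i := by
  induction i with
  | zero => simp [S]
  | succ i ih =>
    have h1 : S x (i + 1) = S x i + x ^ i := Finset.sum_range_succ _ _
    obtain ⟨y, rfl⟩ : ∃ y, x = y + 1 := ⟨x - 1, by omega⟩
    rw [Nat.add_sub_cancel] at ih ⊢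
    rw [h1, pow_succ, ← ih]
    ring

theorem S_mul (x a b : ℕ) : S x (a * b) = S x a * S (x ^ a) b := by
  induction b with
  | zero => simp [S]
  | succ b ih =>
    have h1 : S (x ^ a) (b + 1) = S (x ^ a) b + (x ^ a) ^ b := Finset.sum_range_succ _ _
    rw [Nat.mul_succ, h1, Nat.mul_add, ← ih]
    simp only [S, Finset.sum_range_add, pow_add, ← Finset.mul_sum, ← pow_mul]
    ring

theorem pow_modEq_one {r x : ℕ} (hx : 1 ≤ x) (hr : r ∣ x - 1) (j : ℕ) : x ^ j ≡ 1 [MOD r] := by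
  have h : x ≡ 1 [MOD r] := ((Nat.modEq_iff_dvd' hx).2 hr).symm
  simpa using h.pow j

theorem S_modEq {r x : ℕ} (hx : 1 ≤ x) (hr : r ∣ x - 1) (i : ℕ) : S x i ≡ i [MOD r] := by
  induction i with
  | zero => rfl
  | succ i ih =>
    rw [show S x (i + 1) = S x i + x ^ i from Finset.sum_range_succ _ _]
    exact ih.add (pow_modEq_one hx hr i)

theorem dvd_pow_sub_one {r x : ℕ} (hx : 1 ≤ x) (hr : r ∣ x - 1) (a : ℕ) : r ∣ x ^ a - 1 :=
  (Nat.modEq_iff_dvd' (Nat.one_le_pow _ _ hx)).1 (pow_modEq_one hx hr a).symm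

theorem dvd_S (x n : ℕ) (hx : 1 ≤ x) (h : ∀ r : ℕ, r.Prime → r ∣ n → r ∣ x - 1) : n ∣ S x n := by
  induction n using Nat.strongRecOn generalizing x with
  | ind n ih =>
    rcases Nat.lt_or_ge n 2 with hn | hn
    · interval_cases n <;> simp [S]
    · obtain ⟨r, hrp, m, rfl⟩ := Nat.exists_prime_and_dvd (by omega : n ≠ 1)
      have hm : m < r * m := lt_mul_of_one_lt_left (Nat.pos_of_ne_zero (by rintro rfl; omega))
        hrp.one_lt
      rw [S_mul]
      refine Nat.mul_dvd_mul ?_ (ih m hm (x ^ r) (Nat.one_le_pow _ _ hx)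
        fun s hs hsm => dvd_pow_sub_one hx (h s hs (hsm.trans (dvd_mul_left m r))) r)
      exact (Nat.modEq_zero_iff_dvd).1 ((S_modEq hx (h r hrp (dvd_mul_right r m)) r).trans
        (Nat.modEq_zero_iff_dvd.2 dvd_rfl))

theorem S_not_sq (r x : ℕ) (hrp : r.Prime) (hx : 1 ≤ x) (hr : r ∣ x - 1)
    (h4 : r = 2 → 4 ∣ x - 1) : ¬ r ^ 2 ∣ S x r := by
  intro hdvd
  obtain ⟨y, hy⟩ := hr
  have hx' : x = 1 + r * y := by omega
  rcases hrp.eq_two_or_odd' with rfl | hodd
  · have h1 : S x 2 = 1 + x := by simp [S, Finset.sum_range_succ]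
    rw [h1] at hdvd
    have := h4 rfl
    omega
  · have hpow : ∀ j : ℕ, ∃ e, x ^ j = 1 + j * r * y + r ^ 2 * e := by
      intro j
      induction j with
      | zero => exact ⟨0, by simp⟩
      | succ j ih =>
        obtain ⟨e, he⟩ := ih
        exact ⟨e + (j * y * y + r * e * y), by rw [pow_succ, he, hx']; ring⟩
    have hsum : ∀ i : ℕ, ∃ e, 2 * S x i + r * y * i = 2 * i + r * y * i * i + r ^ 2 * e := by
      intro i
      induction i with
      | zero => exact ⟨0, by simp [S]⟩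
      | succ i ih =>
        obtain ⟨e, he⟩ := ih
        obtain ⟨e', he'⟩ := hpow i
        refine ⟨e + 2 * e', ?_⟩
        rw [show S x (i + 1) = S x i + x ^ i from Finset.sum_range_succ _ _, he']
        nlinarith [he]
    obtain ⟨e, he⟩ := hsum r
    obtain ⟨u, hu⟩ := hdvd
    rw [hu] at he
    have h0 : r * (r * (2 * u + y)) = r * (2 + r * (y * r + e)) := by
      nlinarith [he]
    have h1 : r * (2 * u + y) = 2 + r * (y * r + e) := Nat.eq_of_mul_eq_mul_left hrp.pos h0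
    have h2 : r ∣ 2 := by
      have := (Nat.dvd_add_left (dvd_mul_right r (y * r + e))).1 (h1 ▸ dvd_mul_right r (2 * u + y))
      exact this
    have := Nat.le_of_dvd two_pos h2
    have := hrp.two_le
    obtain ⟨w, hw⟩ := hodd
    omega

theorem not_dvd_S (r j m : ℕ) (hrp : r.Prime) (hm : ¬ r ∣ m) :
    ∀ x : ℕ, 1 ≤ x → r ∣ x - 1 → (r = 2 → 1 ≤ j → 4 ∣ x - 1) →
      ¬ r ^ (j + 1) ∣ S x (r ^ j * m) := by
  induction j with
  | zero =>
    intro x hx hr _ h
    rw [pow_zero, one_mul, pow_one] at h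
    exact hm (Nat.modEq_zero_iff_dvd.1
      ((S_modEq hx hr m).symm.trans (Nat.modEq_zero_iff_dvd.2 h)))
  | succ j ih =>
    intro x hx hr h4 h
    rw [show r ^ (j + 1) * m = r * (r ^ j * m) by ring, S_mul, pow_succ'] at h
    have hxr : r ∣ x ^ r - 1 := dvd_pow_sub_one hx hr r
    have h1 : ¬ r ^ 2 ∣ S x r := S_not_sq r x hrp hx hr (fun h2 => h4 h2 (by omega))
    have hrd : r ∣ S x r :=
      Nat.modEq_zero_iff_dvd.1 ((S_modEq hx hr r).trans (Nat.modEq_zero_iff_dvd.2 dvd_rfl))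
    obtain ⟨u, hu⟩ := hrd
    have hu' : ¬ r ∣ u := fun hh => h1 (by rw [hu, pow_two]; exact mul_dvd_mul_left r hh)
    rw [hu, mul_assoc] at h
    have h2 := Nat.dvd_of_mul_dvd_mul_left hrp.pos h
    refine ih (x ^ r) (Nat.one_le_pow _ _ hx) hxr (fun h3 _ => dvd_pow_sub_one hx (h4 h3 (by omega)) r) ?_
    exact (Nat.Coprime.pow_left _ ((Nat.Prime.coprime_iff_not_dvd hrp).2 hu')).dvd_of_dvd_mul_left h2

theorem split (d n : ℕ) (hn : 0 < n) : ∃ A B : ℕ, A * B = n ∧
    (∀ r : ℕ, r.Prime → r ∣ A → r ∣ d) ∧ Nat.Coprime d B := by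
  induction n using Nat.strongRecOn with
  | ind n ih =>
    by_cases hc : Nat.Coprime d n
    · exact ⟨1, n, one_mul n, fun r hr h => absurd (Nat.dvd_one.1 h) hr.ne_one, hc⟩
    · obtain ⟨s, hs, hsd, hsn⟩ := Nat.Prime.not_coprime_iff_dvd.1 hc
      obtain ⟨m, rfl⟩ := hsn
      have hm : 0 < m := Nat.pos_of_ne_zero (by rintro rfl; simp at hn)
      obtain ⟨A, B, hAB, hA, hB⟩ := ih m (lt_mul_of_one_lt_left hm hs.one_lt) hm
      refine ⟨s * A, B, by rw [mul_assoc, hAB], fun r hr h => ?_, hB⟩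
      rcases hr.dvd_mul.1 h with h | h
      · rwa [(Nat.prime_dvd_prime_iff_eq hr hs).1 h]
      · exact hA r hr h

/-- The Dickson pair condition: for a prime power `q` and `n > 1`, (every prime factor of `n` divides `q - 1`, and `4 ∣ n → 4 ∣ q - 1`) holds exactly when `q ^ n ≡ 1` modulo `n * (q - 1)` but `q ^ i` is not, for `0 < i < n`. -/
theorem result (q n : ℕ) (hq : IsPrimePow q) (hn : 1 < n) : ((∀ r : ℕ, r.Prime → r ∣ n → r ∣ q - 1) ∧ (4 ∣ n → 4 ∣ q - 1)) ↔ (q ^ n ≡ 1 [MOD n * (q - 1)] ∧ ∀ i : ℕ, 0 < i → i < n → ¬ q ^ i ≡ 1 [MOD n * (q - 1)]) := by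
  have hq2 : 2 ≤ q := hq.two_le
  have hq1 : 1 ≤ q := by omega
  have key : ∀ i, q ^ i ≡ 1 [MOD n * (q - 1)] ↔ n ∣ S q i := by
    intro i
    rw [← geom q i hq1, Nat.ModEq.comm, Nat.modEq_iff_dvd' (by omega), Nat.add_sub_cancel,
      Nat.mul_dvd_mul_iff_right (by omega : 0 < q - 1)]
  have key' : ∀ i, q ^ i ≡ 1 [MOD n * (q - 1)] ↔ n * (q - 1) ∣ S q i * (q - 1) := by
    intro i
    rw [key, Nat.mul_dvd_mul_iff_right (by omega : 0 < q - 1)]
  constructor
  · rintro ⟨hr, h4⟩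
    refine ⟨(key n).2 (dvd_S q n hq1 (fun r hr' hrn => hr r hr' hrn)), fun i hi hin hqi => ?_⟩
    rw [key] at hqi
    -- some prime power of `n` does not divide `i`
    obtain ⟨r, k, hrp, hk, hki⟩ : ∃ r k, r.Prime ∧ r ^ (k + 1) ∣ n ∧ ¬ r ^ (k + 1) ∣ i := by
      by_contra hcon
      push Not at hcon
      have hdvd : n ∣ i := (Nat.factorization_le_iff_dvd (by omega) hi.ne').1 fun r => by
        by_cases hrp : r.Prime
        · rcases Nat.eq_zero_or_pos (n.factorization r) with h0 | h0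
          · omega
          · have := hcon r (n.factorization r - 1) hrp
              (by rw [Nat.sub_add_cancel h0]; exact Nat.ordProj_dvd n r)
            rw [Nat.sub_add_cancel h0] at this
            exact (hrp.pow_dvd_iff_le_factorization hi.ne').1 this
        · rw [Nat.factorization_eq_zero_of_not_prime n hrp]; exact Nat.zero_le _
      exact absurd (Nat.le_of_dvd hi hdvd) (by omega)
    obtain ⟨j, m, hjm, rfl⟩ := Nat.exists_eq_pow_mul_and_not_dvd hi.ne' r hrp.ne_one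
    have hjk : j ≤ k := by
      by_contra h
      exact hki ((pow_dvd_pow r (by omega)).trans (dvd_mul_right _ _))
    have hrn : r ∣ n := (dvd_pow_self r (by omega)).trans hk
    have hdvd : r ^ (k + 1) ∣ S q (r ^ j * m) := hk.trans hqi
    refine not_dvd_S r j m hrp hjm q hq1 (hr r hrp hrn) ?_ ((pow_dvd_pow r (by omega)).trans hdvd)
    intro h2 hj
    subst h2
    refine h4 ?_
    exact ((pow_dvd_pow 2 (by omega : 2 ≤ k + 1))).trans hk
  · rintro ⟨hn1, hmin⟩
    rw [key] at hn1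
    have hprimes : ∀ r : ℕ, r.Prime → r ∣ n → r ∣ q - 1 := by
      intro r hrp hrn
      by_contra hbad
      obtain ⟨A, B, hAB, hA, hB⟩ := split (q - 1) n (by omega)
      have hB1 : 1 < B := by
        rcases Nat.lt_or_ge 1 B with h | h
        · exact h
        · exfalso
          have hB0 : B ≠ 0 := by rintro rfl; rw [Nat.mul_zero] at hAB; omega
          have : B = 1 := by omega
          rw [this, Nat.mul_one] at hAB
          exact hbad (hA r hrp (hAB ▸ hrn))
      have hA0 : 0 < A := Nat.pos_of_ne_zero (by rintro rfl; rw [Nat.zero_mul] at hAB; omega)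
      have hq' : Nat.Coprime B q := by
        apply Nat.coprime_of_dvd
        intro s hs hsB hsq
        have h1 : s ∣ S q n * (q - 1) + 1 := by
          rw [geom q n hq1]; exact dvd_pow hsq (by omega)
        have h2 : s ∣ S q n * (q - 1) :=
          ((hsB.trans (dvd_mul_left B A)).trans (hAB ▸ dvd_rfl)).trans hn1 |>.mul_right _
        exact hs.one_lt.ne' (Nat.dvd_one.1 ((Nat.dvd_add_right h2).1 h1))
      have hi : A * B.totient < n := by
        rw [← hAB]
        exact Nat.mul_lt_mul_of_pos_left (Nat.totient_lt B hB1) hA0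
      refine hmin (A * B.totient) (Nat.mul_pos hA0 (Nat.totient_pos.2 (by omega))) hi ?_
      rw [show n * (q - 1) = (A * (q - 1)) * B by rw [← hAB]; ring]
      have hcop : Nat.Coprime (A * (q - 1)) B :=
        Nat.Coprime.mul_left (Nat.coprime_of_dvd fun s hs hsA hsB =>
          (Nat.Prime.not_coprime_iff_dvd.2 ⟨s, hs, hA s hs hsA, hsB⟩) hB) hB
      refine (Nat.modEq_and_modEq_iff_modEq_mul hcop).1 ⟨?_, ?_⟩
      · rw [← geom q _ hq1, Nat.ModEq.comm, Nat.modEq_iff_dvd' (by omega), Nat.add_sub_cancel]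
        apply Nat.mul_dvd_mul_right
        rw [S_mul]
        exact (dvd_S q A hq1 hA).trans (dvd_mul_right _ _)
      · rw [mul_comm, pow_mul]
        have h1 := (Nat.ModEq.pow_totient hq'.symm).pow A
        rwa [one_pow] at h1
    refine ⟨hprimes, fun h4 => ?_⟩
    by_contra hbad
    have h2 : 2 ∣ q - 1 := hprimes 2 Nat.prime_two ((by norm_num : 2 ∣ 4).trans h4)
    obtain ⟨t, rfl⟩ := h4
    refine hmin (2 * t) (by omega) (by omega) ((key _).2 ?_)
    rw [S_mul]
    apply Nat.mul_dvd_mul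
    · have : S q 2 = 1 + q := by simp [S, Finset.sum_range_succ]
      rw [this]; omega
    · refine dvd_S _ t (Nat.one_le_pow _ _ (by omega)) fun r hrp hrt => ?_
      have h1 : q - 1 ∣ q ^ 2 - 1 := dvd_pow_sub_one hq1 dvd_rfl 2
      exact (hprimes r hrp (hrt.trans (dvd_mul_left t 4))).trans h1

end Cfsg.Agent.S0694
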