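import Cfsg.Statements.S0699
import Cfsg.Agent.S0698
import Cfsg.Agent.Lib.Perm.CentralizerTransitive
import Cfsg.Agent.Lib.Perm.OddTriple

set_option autoImplicit false
open Cfsg

namespace Cfsg.Agent.S0699

/-- Wagner's Theorem: a non-trivial normal subgroup of a triply transitive permutation group of odd degree at least 5 is triply transitive. -/
theorem result {α : Type*} [Fintype α] [DecidableEq α] (G : Subgroup (Equiv.Perm α)) (hodd : Odd (Fintype.card α)) (h5 : 5 ≤ Fintype.card α) (hG : MulAction.IsMultiplyPretransitive G α 3) (N : Subgroup G) [N.Normal] (hN : N ≠ ⊥) : MulAction.IsMultiplyPretransitive N α 3 := by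
  classical
  have h2G : MulAction.IsMultiplyPretransitive N α 2 := by
    rcases S0698.result G (k := 3) (by omega) (by omega) hG N hN with h | ⟨-, hab, hexp⟩
    · exact h
    exfalso
    have hkc : ((3 : ℕ) : ℕ∞) ≤ ENat.card α := by
      rw [ENat.card_eq_coe_fintype_card]; exact_mod_cast (by omega : 3 ≤ Fintype.card α)
    have h1 : MulAction.IsMultiplyPretransitive G α 2 :=
      MulAction.isMultiplyPretransitive_of_le' (n := 3) (by omega) hkc
    have : MulAction.IsPreprimitive G α := MulAction.isPreprimitive_of_is_two_pretransitive h1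
    have hNt : MulAction.IsPretransitive N α :=
      Cfsg.Agent.Perm.NormalPrimitive.isPretransitive_of_normal inferInstance N hN
    have hc : ∀ m n : G, m ∈ N → n ∈ N → m * n = n * m := fun m n hm hn =>
      congrArg Subtype.val (hab.is_comm.comm ⟨m, hm⟩ ⟨n, hn⟩)
    obtain ⟨a⟩ : Nonempty α := Fintype.card_pos_iff.1 (by omega)
    have hcard := Cfsg.Agent.Perm.Basic.card_eq_of_regular N hNt
      (Cfsg.Agent.Perm.CentralizerTransitive.stabilizer_eq_bot_of_comm N N hNt hc) a
    have hp : IsPGroup 2 N := fun n => ⟨1, Subtype.ext (by simpa using hexp n n.2)⟩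
    obtain ⟨m, hm⟩ := IsPGroup.iff_card.1 hp
    rw [hcard, Nat.card_eq_fintype_card] at hm
    rw [hm] at hodd
    rcases Nat.eq_zero_or_pos m with rfl | hm0
    · simp at hm; omega
    · exact absurd hodd (Nat.not_odd_iff_even.2 ((by decide : Even 2).pow_of_ne_zero hm0.ne'))
  apply Cfsg.Agent.Perm.Basic.isMultiplyPretransitive_of_fixing_pred (by omega)
  intro t ht
  obtain ⟨a, b, hab, rfl⟩ := Finset.card_eq_two.1 (by omega : t.card = 2)
  intro x y hx hy
  simp only [Finset.mem_insert, Finset.mem_singleton, not_or] at hx hy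
  obtain ⟨g, hga, hgb, hgx⟩ := Cfsg.Agent.Perm.OddTriple.exists_fix_map hodd hG N
    h2G hab hx.1 hx.2 hy.1 hy.2
  exact ⟨g, by simp [hga, hgb], hgx⟩

end Cfsg.Agent.S0699
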