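import Cfsg.Statements.S0700
import Cfsg.Agent.Lib.Perm.Burnside

set_option autoImplicit false
open Cfsg

namespace Cfsg.Agent.S0700

/-- Burnside's Theorem on doubly transitive groups: a minimal normal subgroup of a finite doubly transitive permutation group is elementary abelian and regular, or simple and primitive. -/
theorem result {α : Type*} [Fintype α] [DecidableEq α] (G : Subgroup (Equiv.Perm α)) (hG : MulAction.IsMultiplyPretransitive G α 2) (N : Subgroup G) [N.Normal] (hN : N ≠ ⊥) (hmin : ∀ M : Subgroup G, M.Normal → M ≤ N → M = ⊥ ∨ M = N) : (IsMulCommutative N ∧ (∃ p : ℕ, p.Prime ∧ ∀ n ∈ N, n ^ p = 1) ∧ ∀ a : α, MulAction.stabilizer N a = ⊥) ∨ (IsSimpleGroup N ∧ MulAction.IsPreprimitive N α) := by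
  classical
  obtain ⟨g, hg, hg1⟩ := N.bot_or_exists_ne_one.resolve_left hN
  obtain ⟨a, ha⟩ : ∃ a : α, (g : Equiv.Perm α) a ≠ a := by
    by_contra h
    push Not at h
    exact hg1 (Subtype.ext (Equiv.ext h))
  have : Nontrivial α := ⟨⟨_, _, ha⟩⟩
  have : MulAction.IsPreprimitive G α := MulAction.isPreprimitive_of_is_two_pretransitive hG
  have hNt : MulAction.IsPretransitive N α :=
    Cfsg.Agent.Perm.NormalPrimitive.isPretransitive_of_normal inferInstance N hN
  by_cases hreg : ∀ x : α, MulAction.stabilizer N x = ⊥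
  · left
    have : Nontrivial N := (Subgroup.nontrivial_iff_ne_bot N).2 hN
    obtain ⟨p, hp, -, hab, hexp⟩ := Cfsg.Agent.Perm.RegularNormal.elementaryAbelian_of_conj
      (Cfsg.Agent.Perm.RegularNormal.exists_conj (N := N) hNt hreg (a := a) fun x y hx hy => by
        obtain ⟨t, ht1, ht2⟩ := MulAction.is_two_pretransitive_iff.1 hG hx.symm hy.symm
        exact ⟨t, ht1, ht2⟩)
    exact ⟨hab, ⟨p, hp, fun n hn => congrArg Subtype.val (hexp ⟨n, hn⟩)⟩, hreg⟩
  · right
    push Not at hreg
    obtain ⟨b, hb⟩ := hreg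
    have hp := Cfsg.Agent.Perm.Burnside.isPreprimitive_of_minimal hG N hmin hNt b hb
    exact ⟨Cfsg.Agent.Perm.Burnside.isSimpleGroup_of_minimal G hG N hN hmin hp b hb, hp⟩

end Cfsg.Agent.S0700
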