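import Cfsg.Statements.S0701
import Cfsg.Agent.Lib.Perm.Basic

set_option autoImplicit false
open Cfsg

namespace Cfsg.Agent.S0701

/-- The centraliser in the full symmetric group of a transitive permutation group `G` is semiregular, and it is transitive if and only if `G` is regular. -/
theorem result {α : Type*} (G : Subgroup (Equiv.Perm α)) [MulAction.IsPretransitive G α] : (∀ c ∈ Subgroup.centralizer (G : Set (Equiv.Perm α)), ∀ a : α, c a = a → c = 1) ∧ (MulAction.IsPretransitive (Subgroup.centralizer (G : Set (Equiv.Perm α))) α ↔ ∀ a : α, MulAction.stabilizer G a = ⊥) := by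
  have hcomm : ∀ c ∈ Subgroup.centralizer (G : Set (Equiv.Perm α)), ∀ (g : G) (x : α),
      c ((g : Equiv.Perm α) x) = (g : Equiv.Perm α) (c x) := by
    intro c hc g x
    exact (congrArg (fun σ : Equiv.Perm α => σ x) (Subgroup.mem_centralizer_iff.1 hc g g.2)).symm
  refine ⟨fun c hc a hca => Equiv.ext fun x => ?_, ⟨fun htr a => ?_, fun hreg => ⟨fun x y => ?_⟩⟩⟩
  · obtain ⟨g, rfl⟩ := MulAction.exists_smul_eq G a x
    show c ((g : Equiv.Perm α) a) = (g : Equiv.Perm α) a
    rw [hcomm c hc g a, hca]
  · rw [Subgroup.eq_bot_iff_forall]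
    intro g hg
    refine Subtype.ext (Equiv.ext fun x => ?_)
    obtain ⟨c, rfl⟩ := htr.exists_smul_eq a x
    show (g : Equiv.Perm α) ((c : Equiv.Perm α) a) = (c : Equiv.Perm α) a
    rw [← hcomm _ c.2 g a]
    exact congrArg (c : Equiv.Perm α) hg
  · have hbij := fun z => Cfsg.Agent.Perm.Basic.orbitMap_bijective G inferInstance hreg z
    let F : G ≃ α := Equiv.ofBijective _ (hbij x)
    let F' : G ≃ α := Equiv.ofBijective _ (hbij y)
    refine ⟨⟨F.symm.trans F', ?_⟩, ?_⟩
    · rw [Subgroup.mem_centralizer_iff]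
      intro σ hσ
      refine Equiv.ext fun z => ?_
      have : F.symm (σ z) = ⟨σ, hσ⟩ * F.symm z := by
        apply F.injective
        rw [Equiv.apply_symm_apply]
        show σ z = (⟨σ, hσ⟩ * F.symm z) • x
        rw [mul_smul]
        exact congrArg σ (Equiv.apply_symm_apply F z).symm
      show σ (F' (F.symm z)) = F' (F.symm (σ z))
      rw [this]
      exact (mul_smul (⟨σ, hσ⟩ : G) (F.symm z) y).symm
    · show F' (F.symm x) = y
      have : F.symm x = 1 := by
        rw [Equiv.symm_apply_eq]; exact (one_smul G x).symm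
      rw [this]
      exact one_smul G y

end Cfsg.Agent.S0701
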