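import Cfsg.Statements.S0702
-- import your own Cfsg.Agent.* helpers here

set_option autoImplicit false
open Cfsg

namespace Cfsg.Agent.S0702

/-- For a transitive permutation group `G` on a finite set, the centraliser of `G` in the symmetric group is isomorphic to `N_G(G_ω)/G_ω`, and its orbit of `ω` is the set of fixed points of `G_ω`. -/
theorem result {α : Type*} [Finite α] (G : Subgroup (Equiv.Perm α)) [MulAction.IsPretransitive G α] (a : α) : Nonempty (Subgroup.centralizer (G : Set (Equiv.Perm α)) ≃* Subgroup.normalizer ((MulAction.stabilizer G a : Subgroup G) : Set G) ⧸ (MulAction.stabilizer G a).subgroupOf (Subgroup.normalizer ((MulAction.stabilizer G a : Subgroup G) : Set G))) ∧ MulAction.orbit (Subgroup.centralizer (G : Set (Equiv.Perm α))) a = MulAction.fixedPoints (MulAction.stabilizer G a) α := by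
  classical
  set H := MulAction.stabilizer G a with hH
  set C := Subgroup.centralizer (G : Set (Equiv.Perm α)) with hC
  set N := Subgroup.normalizer (H : Set G) with hN
  have hcomm : ∀ (c : C) (g : G) (x : α),
      (c : Equiv.Perm α) ((g : Equiv.Perm α) x) = (g : Equiv.Perm α) ((c : Equiv.Perm α) x) := by
    intro c g x
    exact (congrArg (fun σ : Equiv.Perm α => σ x)
      (Subgroup.mem_centralizer_iff.1 c.2 g g.2)).symm
  -- a normalising element moves `a` to a fixed point of the stabiliser
  have hfix : ∀ n : G, n ∈ N → ∀ h : G, h ∈ H → h • n • a = n • a := by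
    intro n hn h hh
    have : n⁻¹ * h * n ∈ H := by
      have := (Subgroup.mem_normalizer_iff.1 (inv_mem hn) h).1 hh
      simpa using this
    rw [hH, MulAction.mem_stabilizer_iff] at this
    rw [mul_smul, mul_smul, inv_smul_eq_iff] at this
    exact this
  -- every fixed point of the stabiliser is the image of `a` under a centralising permutation
  have hex : ∀ b : α, (∀ h : G, h ∈ H → h • b = b) → ∃ c : C, (c : Equiv.Perm α) a = b := by
    intro b hb
    choose t ht using fun x : α => MulAction.exists_smul_eq G a x
    have key : ∀ g g' : G, g • a = g' • a → g • b = g' • b := by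
      intro g g' hgg
      have h1 : g'⁻¹ * g ∈ H := by
        rw [hH, MulAction.mem_stabilizer_iff, mul_smul, inv_smul_eq_iff, hgg]
      have := hb _ h1
      rwa [mul_smul, inv_smul_eq_iff] at this
    let f : α → α := fun x => t x • b
    have hfequiv : ∀ (g : G) (x : α), f (g • x) = g • f x := by
      intro g x
      show t (g • x) • b = g • t x • b
      rw [← mul_smul]
      exact key _ _ (by rw [ht, mul_smul, ht])
    have hsurj : Function.Surjective f := by
      intro y
      obtain ⟨g, rfl⟩ := MulAction.exists_smul_eq G b y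
      exact ⟨g • a, key _ _ (by rw [ht])⟩
    have hbij : Function.Bijective f := ⟨Finite.injective_iff_surjective.2 hsurj, hsurj⟩
    refine ⟨⟨Equiv.ofBijective f hbij, ?_⟩, ?_⟩
    · rw [hC, Subgroup.mem_centralizer_iff]
      intro σ hσ
      exact Equiv.ext fun x => (hfequiv ⟨σ, hσ⟩ x).symm
    · show t a • b = b
      have h1 := key (t a) 1 (by rw [ht, one_smul])
      rwa [one_smul] at h1
  have hfree : ∀ c : C, (c : Equiv.Perm α) a = a → c = 1 := by
    intro c hc
    refine Subtype.ext (Equiv.ext fun x => ?_)
    obtain ⟨g, rfl⟩ := MulAction.exists_smul_eq G a x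
    show (c : Equiv.Perm α) ((g : Equiv.Perm α) a) = (g : Equiv.Perm α) a
    rw [hcomm, hc]
  have hcfix : ∀ c : C, ∀ h : G, h ∈ H → h • (c : Equiv.Perm α) a = (c : Equiv.Perm α) a := by
    intro c h hh
    show (h : Equiv.Perm α) ((c : Equiv.Perm α) a) = (c : Equiv.Perm α) a
    rw [← hcomm]
    exact congrArg (c : Equiv.Perm α) hh
  refine ⟨?_, ?_⟩
  · -- the map `n ↦ c` with `c a = n⁻¹ a`
    choose φ hφ using fun n : N => hex ((n : G)⁻¹ • a) (hfix _ (inv_mem n.2))
    have hinj : ∀ c c' : C, (c : Equiv.Perm α) a = (c' : Equiv.Perm α) a → c = c' := by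
      intro c c' h
      have := hfree (c'⁻¹ * c) (by
        show ((c' : Equiv.Perm α))⁻¹ ((c : Equiv.Perm α) a) = a
        rw [h]; exact (c' : Equiv.Perm α).symm_apply_apply a)
      rw [inv_mul_eq_one] at this
      exact this.symm
    let Φ : N →* C := MonoidHom.mk' φ fun n m => hinj _ _ (by
      rw [hφ]
      show _ = (φ n : Equiv.Perm α) ((φ m : Equiv.Perm α) a)
      rw [hφ]
      show _ = (φ n : Equiv.Perm α) ((((m : G)⁻¹ : G) : Equiv.Perm α) a)
      rw [hcomm, hφ]
      show ((n : G) * (m : G))⁻¹ • a = (m : G)⁻¹ • (n : G)⁻¹ • a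
      rw [mul_inv_rev, mul_smul])
    have hΦsurj : Function.Surjective Φ := by
      intro c
      obtain ⟨g, hg⟩ := MulAction.exists_smul_eq G a ((c : Equiv.Perm α) a)
      have hgN : g⁻¹ ∈ N := by
        apply inv_mem
        rw [hN, Subgroup.mem_normalizer_iff]
        intro h
        constructor
        · intro hh
          rw [hH, MulAction.mem_stabilizer_iff]
          show (g * h * g⁻¹) • a = a
          have h1 : (c : Equiv.Perm α) ((g * h * g⁻¹) • a) = (c : Equiv.Perm α) a := by
            show (c : Equiv.Perm α) (((g * h * g⁻¹ : G) : Equiv.Perm α) a) = _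
            rw [hcomm]
            show (g * h * g⁻¹) • (c : Equiv.Perm α) a = _
            rw [← hg, ← mul_smul, inv_mul_cancel_right, mul_smul, hh]
          exact (c : Equiv.Perm α).injective h1
        · intro hh
          rw [hH, MulAction.mem_stabilizer_iff] at hh ⊢
          have h1 := hcfix c _ hh
          rw [← hg, ← mul_smul, inv_mul_cancel_right, mul_smul] at h1
          exact MulAction.injective g h1
      refine ⟨⟨g⁻¹, hgN⟩, hinj _ _ ?_⟩
      show (φ _ : Equiv.Perm α) a = _
      rw [hφ]
      simp [hg]
    have hker : Φ.ker = H.subgroupOf N := by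
      ext n
      rw [MonoidHom.mem_ker, Subgroup.mem_subgroupOf, hH, MulAction.mem_stabilizer_iff]
      constructor
      · intro h
        have h1 := hφ n
        rw [show φ n = 1 from h] at h1
        exact (inv_smul_eq_iff.1 h1.symm).symm
      · intro h
        refine hfree _ ?_
        show (φ n : Equiv.Perm α) a = a
        rw [hφ, inv_smul_eq_iff, h]
    exact ⟨((QuotientGroup.quotientMulEquivOfEq hker).symm.trans
      (QuotientGroup.quotientKerEquivOfSurjective Φ hΦsurj)).symm⟩
  · ext x
    constructor
    · rintro ⟨c, rfl⟩ h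
      exact hcfix c (h : G) h.2
    · intro hx
      obtain ⟨c, hc⟩ := hex x (fun h hh => hx ⟨h, hh⟩)
      exact ⟨c, hc⟩

end Cfsg.Agent.S0702
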