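import Cfsg.Statements.S0703
import Cfsg.Agent.Lib.Perm.CentralizerTransitive

set_option autoImplicit false
open Cfsg

namespace Cfsg.Agent.S0703

/-- An abelian transitive minimal normal subgroup `M` of a permutation group on a finite set is self-centralising in the symmetric group, regular, elementary abelian, and is the unique minimal normal subgroup. -/
theorem result {α : Type*} [Finite α] (G : Subgroup (Equiv.Perm α)) (M : Subgroup G) [M.Normal] (hM : M ≠ ⊥) (hmin : ∀ L : Subgroup G, L.Normal → L ≤ M → L = ⊥ ∨ L = M) (hab : IsMulCommutative M) (htrans : MulAction.IsPretransitive M α) : Subgroup.centralizer ((M.map G.subtype : Subgroup (Equiv.Perm α)) : Set (Equiv.Perm α)) = M.map G.subtype ∧ (∀ a : α, MulAction.stabilizer M a = ⊥) ∧ (∃ p : ℕ, p.Prime ∧ ∀ m ∈ M, m ^ p = 1) ∧ ∀ L : Subgroup G, L.Normal → L ≠ ⊥ → (∀ L' : Subgroup G, L'.Normal → L' ≤ L → L' = ⊥ ∨ L' = L) → L = M := by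
  classical
  have hne : Nonempty α := by
    by_contra h
    rw [not_nonempty_iff] at h
    exact hM (Subsingleton.elim _ _)
  have hc : ∀ m n : G, m ∈ M → n ∈ M → m * n = n * m := fun m n hm hn =>
    congrArg Subtype.val (hab.is_comm.comm ⟨m, hm⟩ ⟨n, hn⟩)
  have hcent := Cfsg.Agent.Perm.CentralizerTransitive.centralizer_eq_of_comm M M htrans htrans hc
  refine ⟨hcent, fun a => Cfsg.Agent.Perm.CentralizerTransitive.stabilizer_eq_bot_of_comm M M
    htrans hc a, ?_, ?_⟩
  · have : Nontrivial M := (Subgroup.nontrivial_iff_ne_bot M).2 hM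
    have h1 : Nat.card M ≠ 1 := Finite.one_lt_card.ne'
    set p := (Nat.card M).minFac
    have hpp : p.Prime := Nat.minFac_prime h1
    have : Fact p.Prime := ⟨hpp⟩
    obtain ⟨x, hx⟩ := exists_prime_orderOf_dvd_card' (G := M) p (Nat.minFac_dvd _)
    let K : Subgroup G :=
      { carrier := {g | g ∈ M ∧ g ^ p = 1}
        one_mem' := ⟨M.one_mem, one_pow p⟩
        mul_mem' := fun {a b} ha hb => ⟨M.mul_mem ha.1 hb.1, by
          rw [Commute.mul_pow (hc a b ha.1 hb.1) p, ha.2, hb.2, one_mul]⟩
        inv_mem' := fun {a} ha => ⟨M.inv_mem ha.1, by rw [inv_pow, ha.2, inv_one]⟩ }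
    have hKn : K.Normal := ⟨fun k hk g => ⟨Subgroup.Normal.conj_mem inferInstance k hk.1 g, by
      rw [conj_pow, hk.2, mul_one, mul_inv_cancel]⟩⟩
    rcases hmin K hKn (fun k hk => hk.1) with h | h
    · exfalso
      have hxK : (x : G) ∈ K := ⟨x.2, by
        rw [← SubgroupClass.coe_pow, ← hx, pow_orderOf_eq_one, OneMemClass.coe_one]⟩
      rw [h, Subgroup.mem_bot, OneMemClass.coe_eq_one] at hxK
      rw [hxK, orderOf_one] at hx
      exact hpp.ne_one hx.symm
    · exact ⟨p, hpp, fun m hm => (show m ∈ K from h ▸ hm).2⟩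
  · intro L hLn hL hLmin
    have hLM : (L ⊓ M).Normal := inferInstance
    rcases hLmin _ hLM inf_le_left with h | h
    · exfalso
      apply hL
      refine eq_bot_iff.2 fun l hl => ?_
      have hlM : (l : Equiv.Perm α) ∈ M.map G.subtype := by
        rw [← hcent, Subgroup.mem_centralizer_iff]
        rintro _ ⟨m, hm, rfl⟩
        exact congrArg Subtype.val (Subgroup.commute_of_normal_of_disjoint M L inferInstance hLn
          (disjoint_iff.2 (by rw [inf_comm, h])) m l hm hl).eq
      obtain ⟨m, hm, hml⟩ := hlM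
      have : m = l := Subtype.ext hml
      rw [← h]
      exact ⟨hl, this ▸ hm⟩
    · have hle : L ≤ M := h ▸ inf_le_right
      rcases hmin L hLn hle with h' | h'
      · exact absurd h' hL
      · exact h'

end Cfsg.Agent.S0703
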