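import Cfsg.Statements.S0704
import Cfsg.Agent.Lib.Perm.CentralizerTransitive

set_option autoImplicit false
open Cfsg

namespace Cfsg.Agent.S0704

/-- Two distinct transitive minimal normal subgroups `M`, `N` of a permutation group are regular, non-abelian, isomorphic, each other's centraliser in the symmetric group, and the only minimal normal subgroups. -/
theorem result {α : Type*} (G : Subgroup (Equiv.Perm α)) (M N : Subgroup G) [M.Normal] [N.Normal] (hM : M ≠ ⊥) (hN : N ≠ ⊥) (hMmin : ∀ L : Subgroup G, L.Normal → L ≤ M → L = ⊥ ∨ L = M) (hNmin : ∀ L : Subgroup G, L.Normal → L ≤ N → L = ⊥ ∨ L = N) (hMN : M ≠ N) (hMt : MulAction.IsPretransitive M α) (hNt : MulAction.IsPretransitive N α) : (∀ a : α, MulAction.stabilizer M a = ⊥) ∧ (∀ a : α, MulAction.stabilizer N a = ⊥) ∧ ¬ IsMulCommutative M ∧ Nonempty (M ≃* N) ∧ Subgroup.centralizer ((M.map G.subtype : Subgroup (Equiv.Perm α)) : Set (Equiv.Perm α)) = N.map G.subtype ∧ Subgroup.centralizer ((N.map G.subtype : Subgroup (Equiv.Perm α)) : Set (Equiv.Perm α))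 = M.map G.subtype ∧ ∀ L : Subgroup G, L.Normal → L ≠ ⊥ → (∀ L' : Subgroup G, L'.Normal → L' ≤ L → L' = ⊥ ∨ L' = L) → L = M ∨ L = N := by
  classical
  have hne : Nonempty α := by
    by_contra h
    rw [not_nonempty_iff] at h
    exact hM (Subsingleton.elim _ _)
  have hdis : M ⊓ N = ⊥ := by
    rcases hMmin _ (inferInstance : (M ⊓ N).Normal) inf_le_left with h | h
    · exact h
    · have hle : M ≤ N := h ▸ inf_le_right
      rcases hNmin M inferInstance hle with h' | h'
      · exact absurd h' hM
      · exact absurd h' hMN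
  have hc : ∀ m n : G, m ∈ M → n ∈ N → m * n = n * m := fun m n hm hn =>
    (Subgroup.commute_of_normal_of_disjoint M N inferInstance inferInstance
      (disjoint_iff.2 hdis) m n hm hn).eq
  have hc' : ∀ n m : G, n ∈ N → m ∈ M → n * m = m * n := fun n m hn hm => (hc m n hm hn).symm
  have hcM := Cfsg.Agent.Perm.CentralizerTransitive.centralizer_eq_of_comm M N hMt hNt hc
  have hcN := Cfsg.Agent.Perm.CentralizerTransitive.centralizer_eq_of_comm N M hNt hMt hc'
  have hMreg := Cfsg.Agent.Perm.CentralizerTransitive.stabilizer_eq_bot_of_comm N M hNt hc'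
  have hNreg := Cfsg.Agent.Perm.CentralizerTransitive.stabilizer_eq_bot_of_comm M N hMt hc
  refine ⟨hMreg, hNreg, ?_, ?_, hcM, hcN, ?_⟩
  · intro hab
    apply hM
    refine eq_bot_iff.2 fun m hm => ?_
    have hmN : (m : Equiv.Perm α) ∈ N.map G.subtype := by
      rw [← hcM, Subgroup.mem_centralizer_iff]
      rintro _ ⟨m', hm', rfl⟩
      exact congrArg (fun z : M => ((z : G) : Equiv.Perm α)) (hab.is_comm.comm ⟨m', hm'⟩ ⟨m, hm⟩)
    obtain ⟨n, hn, hnm⟩ := hmN
    have : n = m := Subtype.ext hnm
    rw [← hdis]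
    exact ⟨hm, this ▸ hn⟩
  · obtain ⟨a⟩ := hne
    have hM' := Cfsg.Agent.Perm.Basic.orbitMap_bijective M hMt hMreg a
    have hN' := Cfsg.Agent.Perm.Basic.orbitMap_bijective N hNt hNreg a
    let f : M → N := fun m => (Equiv.ofBijective _ hN').symm (m⁻¹ • a)
    have hf : ∀ m : M, f m • a = m⁻¹ • a := fun m => (Equiv.ofBijective _ hN').apply_symm_apply _
    refine ⟨MulEquiv.ofBijective (MonoidHom.mk' f fun m m' => hN'.injective ?_)
      ⟨fun m m' h => ?_, fun n => ?_⟩⟩
    · show f (m * m') • a = (f m * f m') • a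
      rw [hf, mul_smul, hf, mul_inv_rev, mul_smul, ← hf]
      show (((m'⁻¹ : M) : G) • ((f m : G) • a)) = ((f m : G) • (((m'⁻¹ : M) : G) • a))
      rw [← mul_smul, ← mul_smul, hc _ _ (m'⁻¹).2 (f m).2]
    · have h1 := hf m
      rw [show f m = f m' from h, hf] at h1
      exact inv_injective (hM'.injective h1.symm)
    · obtain ⟨m, hm⟩ := hM'.surjective ((n : G) • a)
      refine ⟨m⁻¹, hN'.injective ?_⟩
      show f m⁻¹ • a = n • a
      rw [hf, inv_inv]
      exact hm
  · intro L hLn hL hLmin
    have hLM : (L ⊓ M).Normal := inferInstance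
    rcases hLmin _ hLM inf_le_left with h | h
    · right
      have hle : L ≤ N := by
        intro l hl
        have hlN : (l : Equiv.Perm α) ∈ N.map G.subtype := by
          rw [← hcM, Subgroup.mem_centralizer_iff]
          rintro _ ⟨m, hm, rfl⟩
          exact congrArg Subtype.val (Subgroup.commute_of_normal_of_disjoint M L inferInstance hLn
            (disjoint_iff.2 (by rw [inf_comm, h])) m l hm hl).eq
        obtain ⟨n, hn, hnl⟩ := hlN
        have : n = l := Subtype.ext hnl
        exact this ▸ hn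
      rcases hNmin L hLn hle with h' | h'
      · exact absurd h' hL
      · exact h'
    · left
      have hle : L ≤ M := h ▸ inf_le_right
      rcases hMmin L hLn hle with h' | h'
      · exact absurd h' hL
      · exact h'

end Cfsg.Agent.S0704
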