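import Cfsg.Statements.S0705
import Cfsg.Agent.Lib.Perm.Basic

set_option autoImplicit false
open scoped Pointwise
open Cfsg

namespace Cfsg.Agent.S0705

/-- A generously `k`-transitive permutation group (every `(k+1)`-subset has its full symmetric group induced by the setwise stabiliser) of degree greater than `k` is `k`-transitive, and for a `k`-subset the setwise and pointwise stabilisers have the same orbits outside it. -/
theorem result {α : Type*} [Fintype α] [DecidableEq α] (G : Subgroup (Equiv.Perm α)) {k : ℕ} (hk : k < Fintype.card α) (hgen : ∀ s : Finset α, s.card = k + 1 → ∀ σ : Equiv.Perm ↥s, ∃ g ∈ G, ∀ x : ↥s, g (x : α) = σ x) : MulAction.IsMultiplyPretransitive G α k ∧ ∀ s : Finset α, s.card = k → ∀ a b : α, a ∉ s → b ∉ s → (∃ g ∈ G, g • s = s ∧ g a = b) → ∃ g ∈ G, (∀ x ∈ s, g x = x) ∧ g a = b := by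
  have hswap : ∀ t : Finset α, t.card < k → ∀ x y, x ∉ t → y ∉ t →
      ∃ g : G, (∀ z ∈ t, g • z = z) ∧ g • x = y := by
    intro t ht x y hx hy
    obtain ⟨s, hs, hsc⟩ : ∃ s : Finset α, insert x (insert y t) ⊆ s ∧ s.card = k + 1 := by
      obtain ⟨u, hu, -, huc⟩ := Finset.exists_subsuperset_card_eq
        (s := insert x (insert y t)) (Finset.subset_univ _) (n := k + 1)
        (by
          have := Finset.card_insert_le x (insert y t)
          have := Finset.card_insert_le y t
          omega)
        (by rw [Finset.card_univ]; omega)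
      exact ⟨u, hu, huc⟩
    have hxs : x ∈ s := hs (by simp)
    have hys : y ∈ s := hs (by simp)
    obtain ⟨g, hg, hgσ⟩ := hgen s hsc (Equiv.swap ⟨x, hxs⟩ ⟨y, hys⟩)
    refine ⟨⟨g, hg⟩, fun z hz => ?_, ?_⟩
    · show g z = z
      have := hgσ ⟨z, hs (by simp [hz])⟩
      rw [Equiv.swap_apply_of_ne_of_ne] at this
      · exact this
      · intro h; exact hx (by rwa [← show z = x from congrArg Subtype.val h])
      · intro h; exact hy (by rwa [← show z = y from congrArg Subtype.val h])
    · show g x = y
      have := hgσ ⟨x, hxs⟩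
      rw [Equiv.swap_apply_left] at this
      exact this
  refine ⟨Cfsg.Agent.Perm.Basic.isMultiplyPretransitive_of_fixing hswap, ?_⟩
  rintro s hs a b ha hb ⟨g, hg, hgs, hgab⟩
  have hmem : ∀ z ∈ s, g⁻¹ z ∈ s := by
    intro z hz
    rw [← hgs, Finset.smul_finset_def, Finset.mem_image] at hz
    obtain ⟨w, hw, rfl⟩ := hz
    simpa [Equiv.Perm.smul_def] using hw
  let σ : Equiv.Perm ↥(insert a s) :=
    { toFun := fun z => if h : (z : α) = a then z else
        ⟨g⁻¹ z, Finset.mem_insert_of_mem (hmem z ((Finset.mem_insert.1 z.2).resolve_left h))⟩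
      invFun := fun z => if h : (z : α) = a then z else
        ⟨g z, Finset.mem_insert_of_mem (by
          refine (Finset.ext_iff.1 hgs (g z)).1 ?_
          rw [Finset.smul_finset_def]
          exact Finset.mem_image.2 ⟨z, (Finset.mem_insert.1 z.2).resolve_left h, rfl⟩)⟩
      left_inv := fun z => by
        by_cases h : (z : α) = a
        · simp [h]
        · have : g⁻¹ (z : α) ≠ a := fun h' => ha (h' ▸ hmem z ((Finset.mem_insert.1 z.2).resolve_left h))
          simp only [h, dite_false, this]
          exact Subtype.ext (g.apply_symm_apply z)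
      right_inv := fun z => by
        by_cases h : (z : α) = a
        · simp [h]
        · have : g (z : α) ≠ a := fun h' => ha (by
            refine (Finset.ext_iff.1 hgs a).1 ?_
            rw [← h', Finset.smul_finset_def]
            exact Finset.mem_image.2 ⟨z, (Finset.mem_insert.1 z.2).resolve_left h, rfl⟩)
          simp only [h, dite_false, this]
          exact Subtype.ext (g.symm_apply_apply z) }
  obtain ⟨h, hh, hhσ⟩ := hgen (insert a s) (by rw [Finset.card_insert_of_notMem ha, hs]) σ
  refine ⟨g * h, mul_mem hg hh, fun x hx => ?_, ?_⟩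
  · have := hhσ ⟨x, Finset.mem_insert_of_mem hx⟩
    have hne : x ≠ a := fun h' => ha (h' ▸ hx)
    simp only [σ, Equiv.coe_fn_mk, hne, dite_false] at this
    show g (h x) = x
    rw [this]
    exact g.apply_symm_apply x
  · have := hhσ ⟨a, Finset.mem_insert_self a s⟩
    simp only [σ, Equiv.coe_fn_mk, dite_true] at this
    show g (h a) = b
    rw [this, hgab]

end Cfsg.Agent.S0705
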