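import Cfsg.Statements.S0706
import Mathlib

set_option autoImplicit false
open Cfsg

namespace Cfsg.Agent.S0706


open scoped Pointwise in
theorem homog {α : Type*} [DecidableEq α] (G : Subgroup (Equiv.Perm α)) {k : ℕ}
    (hgen : ∀ s : Finset α, s.card = k + 1 → ∀ σ : Equiv.Perm ↥s, ∃ g ∈ G, ∀ x : ↥s, g (x : α) = σ x) :
    ∀ (n : ℕ) (A B : Finset α), A.card = k → B.card = k → (B \ A).card = n →
      ∃ g : G, ∀ a ∈ A, g • a ∈ B := by
  intro n
  induction n with
  | zero =>
    intro A B hA hB h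
    refine ⟨1, fun a ha => ?_⟩
    rw [one_smul]
    have hsub : B ⊆ A := Finset.sdiff_eq_empty_iff_subset.1 (Finset.card_eq_zero.1 h)
    rwa [Finset.eq_of_subset_of_card_le hsub (by omega)]
  | succ n ih =>
    intro A B hA hB h
    obtain ⟨b, hb⟩ := Finset.card_pos.1 (by omega : 0 < (B \ A).card)
    rw [Finset.mem_sdiff] at hb
    have hAB : (A \ B).Nonempty := by
      rw [Finset.sdiff_nonempty]
      intro hsub
      have heq : A = B := Finset.eq_of_subset_of_card_le hsub (le_of_eq (hB.trans hA.symm))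
      exact hb.2 (heq ▸ hb.1)
    obtain ⟨a, ha⟩ := hAB
    rw [Finset.mem_sdiff] at ha
    have hab : a ≠ b := fun e => hb.2 (e ▸ ha.1)
    obtain ⟨g, hgG, hg⟩ := hgen (insert b A) (by rw [Finset.card_insert_of_notMem hb.2, hA])
      ((Equiv.swap a b).subtypePerm (fun x => by
        rcases eq_or_ne x a with rfl | hxa
        · simp [ha.1]
        rcases eq_or_ne x b with rfl | hxb
        · simp [ha.1]
        rw [Equiv.swap_apply_of_ne_of_ne hxa hxb]))
    let A' := insert b (A.erase a)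
    have hA' : A'.card = k := by
      rw [Finset.card_insert_of_notMem (fun hm => hb.2 (Finset.mem_of_mem_erase hm)),
        Finset.card_erase_of_mem ha.1]
      have := Finset.card_pos.2 ⟨a, ha.1⟩
      omega
    have hd : (B \ A').card = n := by
      rw [show B \ A' = (B \ A).erase b by
        ext x
        simp only [A', Finset.mem_sdiff, Finset.mem_insert, Finset.mem_erase]
        constructor
        · rintro ⟨h1, h2⟩
          exact ⟨fun e => h2 (Or.inl e), h1,
            fun h3 => h2 (Or.inr ⟨fun e => ha.2 (e ▸ h1), h3⟩)⟩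
        · rintro ⟨h1, h2, h3⟩
          exact ⟨h2, fun h4 => h4.elim h1 fun h5 => h3 h5.2⟩,
        Finset.card_erase_of_mem (Finset.mem_sdiff.2 hb), h]
      omega
    obtain ⟨g', hg'⟩ := ih A' B hA' hB hd
    refine ⟨g' * ⟨g, hgG⟩, fun x hx => ?_⟩
    rw [mul_smul]
    apply hg'
    have hgx : g x = Equiv.swap a b x := hg ⟨x, Finset.mem_insert_of_mem hx⟩
    show g x ∈ A'
    rw [hgx]
    rcases eq_or_ne x a with rfl | hxa
    · simp [A']
    have hxb : x ≠ b := fun e => hb.2 (e ▸ hx)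
    rw [Equiv.swap_apply_of_ne_of_ne hxa hxb]
    simp [A', hxa, hx]

/-- In a generously `k`-transitive permutation group, for a prime `p ≤ k` and a `k`-set `Γ`, there are no `p` points outside `Γ` lying in distinct orbits of the pointwise stabiliser of `Γ` all of length prime to `p` (at most `p - 1` such orbits). -/
theorem result {α : Type*} [Fintype α] [DecidableEq α] (G : Subgroup (Equiv.Perm α)) {k : ℕ} (hk : k < Fintype.card α) (hgen : ∀ s : Finset α, s.card = k + 1 → ∀ σ : Equiv.Perm ↥s, ∃ g ∈ G, ∀ x : ↥s, g (x : α) = σ x) {p : ℕ} (hp : p.Prime) (hpk : p ≤ k) (Γ : Finset α) (hΓ : Γ.card = k) (f : Fin p → α) (hf : ∀ i, f i ∉ Γ) (hdist : ∀ i j, i ≠ j → f j ∉ MulAction.orbit (fixingSubgroup G (Γ : Set α)) (f i)) : ∃ i, p ∣ Nat.card (MulAction.orbit (fixingSubgroup G (Γ : Set α)) (f i)) := by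
  classical
  haveI : Fact p.Prime := ⟨hp⟩
  -- every permutation of `Γ` is induced by an element fixing a given outside point
  have hind : ∀ x, x ∉ Γ → ∀ σ : Equiv.Perm ↥Γ, ∃ h : G, h • x = x ∧ ∀ y : ↥Γ, h • (y : α) = σ y := by
    intro x hx σ
    let π : Equiv.Perm α := Equiv.Perm.ofSubtype σ
    obtain ⟨g, hgG, hg⟩ := hgen (insert x Γ) (by rw [Finset.card_insert_of_notMem hx, hΓ])
      (π.subtypePerm (fun y => by
        by_cases hy : y ∈ Γ
        · simp [π, Equiv.Perm.ofSubtype_apply_of_mem σ hy, hy]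
        · simp [π, Equiv.Perm.ofSubtype_apply_of_not_mem σ hy]))
    refine ⟨⟨g, hgG⟩, ?_, fun y => ?_⟩
    · show g x = x
      rw [hg ⟨x, Finset.mem_insert_self _ _⟩]
      exact Equiv.Perm.ofSubtype_apply_of_not_mem σ hx
    · show g y = σ y
      rw [hg ⟨y, Finset.mem_insert_of_mem y.2⟩]
      exact Equiv.Perm.ofSubtype_apply_of_mem σ y.2
  by_contra hcon
  push Not at hcon
  set K := fixingSubgroup G (Γ : Set α) with hKdef
  have hKmem : ∀ g : G, g ∈ K ↔ ∀ y ∈ Γ, g • y = y := fun g => by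
    rw [hKdef, mem_fixingSubgroup_iff]
    rfl
  obtain ⟨C, -, hC⟩ := Finset.exists_subset_card_eq
    (show p ≤ (Finset.univ : Finset ↥Γ).card by rw [Finset.card_univ, Fintype.card_coe, hΓ]; exact hpk)
  obtain ⟨τ, hτ⟩ := exists_prime_orderOf_dvd_card' (G := Equiv.Perm ↥C) p (by
    rw [Nat.card_perm, Nat.card_eq_fintype_card, Fintype.card_coe, hC]
    exact Nat.dvd_factorial hp.pos le_rfl)
  let σ : Equiv.Perm ↥Γ := Equiv.Perm.ofSubtype τ
  have hσ : orderOf σ = p := by
    rw [← hτ]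
    exact orderOf_injective _ Equiv.Perm.ofSubtype_injective τ
  let R : Finset α := Γ \ C.map (Function.Embedding.subtype _)
  let H : Subgroup G :=
    { carrier := {g | (∀ y, g • y ∈ Γ ↔ y ∈ Γ) ∧ ∀ y ∈ R, g • y = y}
      one_mem' := ⟨fun y => by rw [one_smul], fun y _ => one_smul _ y⟩
      mul_mem' := fun {g h} hg hh => ⟨fun y => by rw [mul_smul, hg.1, hh.1],
        fun y hy => by rw [mul_smul, hh.2 y hy, hg.2 y hy]⟩
      inv_mem' := fun {g} hg => ⟨fun y => by rw [← hg.1 (g⁻¹ • y), smul_inv_smul],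
        fun y hy => by rw [inv_smul_eq_iff, hg.2 y hy]⟩ }
  let ψ : H →* Equiv.Perm ↥Γ :=
    { toFun := fun g => ((g : G) : Equiv.Perm α).subtypePerm g.2.1
      map_one' := Equiv.ext fun y => Subtype.ext rfl
      map_mul' := fun g h => Equiv.ext fun y => Subtype.ext rfl }
  -- `σ` lies in the image of `ψ`
  obtain ⟨u, hux, hu⟩ := hind (f ⟨0, hp.pos⟩) (hf _) σ
  have huH : u ∈ H := by
    refine ⟨fun y => ⟨fun hy => ?_, fun hy => ?_⟩, fun y hy => ?_⟩
    · obtain ⟨z, hz⟩ := σ.surjective ⟨_, hy⟩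
      have : u • (z : α) = u • y := by rw [hu z, hz]
      exact MulAction.injective u this ▸ z.2
    · rw [hu ⟨y, hy⟩]
      exact (σ ⟨y, hy⟩).2
    · rw [Finset.mem_sdiff] at hy
      rw [hu ⟨y, hy.1⟩, Equiv.Perm.ofSubtype_apply_of_not_mem τ (fun hm => hy.2
        (Finset.mem_map.2 ⟨⟨y, hy.1⟩, hm, rfl⟩))]
  have hσr : σ ∈ ψ.range := ⟨⟨u, huH⟩, Equiv.ext fun y => Subtype.ext (hu y)⟩
  have hKH : K ≤ H := fun g hg => by
    have h := (hKmem g).1 hg
    refine ⟨fun y => ⟨fun hy => ?_, fun hy => by rwa [h y hy]⟩,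
      fun y hy => h y (Finset.mem_sdiff.1 hy).1⟩
    exact MulAction.injective g (h _ hy) ▸ hy
  have hker : ψ.ker = K.subgroupOf H := by
    ext g
    rw [MonoidHom.mem_ker, Subgroup.mem_subgroupOf, hKmem]
    exact ⟨fun h y hy => by
      have h' := DFunLike.congr_fun h ⟨y, hy⟩
      exact congrArg Subtype.val h',
      fun h => Equiv.ext fun y => Subtype.ext (h y y.2)⟩
  have hdvd : Nat.card K * p ∣ Nat.card H := by
    rw [← ψ.ker.card_mul_index, Subgroup.index_ker, hker,
      Nat.card_congr (Subgroup.subgroupOfEquivOfLe hKH).toEquiv]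
    refine Nat.mul_dvd_mul_left _ ?_
    rw [← hσ, ← Subgroup.orderOf_mk σ hσr]
    exact orderOf_dvd_natCard _
  -- a `p`-subgroup of `H` with larger order than any in `K`
  set a := (Nat.card K).factorization p
  obtain ⟨S, hS⟩ := Sylow.exists_subgroup_card_pow_prime (G := H) p (n := a + 1)
    (by rw [pow_succ]; exact (Nat.mul_dvd_mul_right (Nat.ordProj_dvd _ _) p).trans hdvd)
  have hinv : ∀ i, ∀ g ∈ H, ∀ y ∈ MulAction.orbit K (f i), g • y ∈ MulAction.orbit K (f i) := by
    rintro i g hg _ ⟨q, rfl⟩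
    have hgq : g * (q : G) ∈ H := H.mul_mem hg (hKH q.2)
    obtain ⟨h, hhx, hh⟩ := hind (f i) (hf i) (ψ ⟨g * (q : G), hgq⟩)
    have hmem : g * (q : G) * h⁻¹ ∈ K := by
      rw [hKmem]
      intro y hy
      obtain ⟨z, hz⟩ := (ψ ⟨g * (q : G), hgq⟩).surjective ⟨y, hy⟩
      have h1 : h • (z : α) = y := by rw [hh z, hz]
      rw [mul_smul, inv_smul_eq_iff.2 h1.symm]
      exact congrArg Subtype.val hz
    refine ⟨⟨_, hmem⟩, ?_⟩
    show (g * (q : G) * h⁻¹) • f i = g • ((q : G) • f i)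
    rw [mul_smul, inv_smul_eq_iff.2 hhx.symm, mul_smul]
  have hfix : ∀ i, ∃ y ∈ MulAction.orbit K (f i), ∀ g : S, ((g : H) : G) • y = y := by
    intro i
    let T : SubMulAction S α :=
      { carrier := MulAction.orbit K (f i)
        smul_mem' := fun g y hy => hinv i _ (g : H).2 y hy }
    obtain ⟨⟨y, hy⟩, hfy⟩ := (IsPGroup.of_card (p := p) (n := a + 1) hS).nonempty_fixed_point_of_prime_not_dvd_card
      T (hcon i)
    exact ⟨y, hy, fun g => congrArg Subtype.val (hfy g)⟩
  choose x hx hxfix using hfix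
  have hxΓ : ∀ i, x i ∉ Γ := by
    intro i hxi
    obtain ⟨q, hq⟩ := hx i
    have h1 : (q : G) • x i = x i := (hKmem q).1 q.2 _ hxi
    have h2 : (q : G) • f i = x i := hq
    exact hf i (MulAction.injective (q : G) (h2.trans h1.symm) ▸ hxi)
  have hxinj : Function.Injective x := by
    intro i j hij
    by_contra hne
    apply hdist i j hne
    rw [← MulAction.orbit_eq_iff, ← MulAction.orbit_eq_iff.2 (hx j), ← hij,
      MulAction.orbit_eq_iff.2 (hx i)]
  let Γ' : Finset α := R ∪ Finset.univ.image x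
  have hΓ' : Γ'.card = k := by
    have hsub : C.map (Function.Embedding.subtype _) ⊆ Γ := by
      intro y hy
      obtain ⟨z, -, rfl⟩ := Finset.mem_map.1 hy
      exact z.2
    rw [Finset.card_union_of_disjoint, Finset.card_sdiff_of_subset hsub, Finset.card_map, hC, hΓ,
      Finset.card_image_of_injective _ hxinj, Finset.card_univ, Fintype.card_fin]
    · omega
    rw [Finset.disjoint_left]
    intro y hy hy'
    obtain ⟨i, -, rfl⟩ := Finset.mem_image.1 hy'
    exact hxΓ i (Finset.mem_sdiff.1 hy).1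
  obtain ⟨g0, hg0⟩ := homog G hgen _ Γ Γ' hΓ hΓ' rfl
  -- conjugate `S` into `K`
  let S' : Subgroup G := (S.map H.subtype).map (MulAut.conj g0⁻¹).toMonoidHom
  have hS'K : S' ≤ K := by
    rintro _ ⟨_, ⟨g, hg, rfl⟩, rfl⟩
    rw [hKmem]
    intro y hy
    show (g0⁻¹ * (g : G) * g0⁻¹⁻¹) • y = y
    rw [inv_inv, mul_smul, mul_smul]
    have hy' := hg0 y hy
    have hfixy : (g : G) • (g0 • y) = g0 • y := by
      rcases Finset.mem_union.1 hy' with h | h
      · exact g.2.2 _ h
      · obtain ⟨i, -, hi⟩ := Finset.mem_image.1 h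
        rw [← hi]
        exact hxfix i ⟨g, hg⟩
    rw [hfixy, inv_smul_smul]
  have hS'c : Nat.card S' = p ^ (a + 1) := by
    rw [Subgroup.card_map_of_injective (MulAut.conj g0⁻¹).injective,
      Subgroup.card_map_of_injective H.subtype_injective, hS]
  have := Subgroup.card_dvd_of_le hS'K
  rw [hS'c] at this
  exact Nat.pow_succ_factorization_not_dvd Nat.card_pos.ne' hp this

end Cfsg.Agent.S0706
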