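import Cfsg.Statements.S0707
import Cfsg.Agent.Lib.Perm.Basic

set_option autoImplicit false
open Cfsg

namespace Cfsg.Agent.S0707

/-- In a primitive permutation group, distinct points have distinct stabilisers unless the group is regular of prime degree. -/
theorem result {α : Type*} (G : Subgroup (Equiv.Perm α)) [MulAction.IsPreprimitive G α] (h : ¬ (Nat.card α).Prime ∨ ∃ a : α, MulAction.stabilizer G a ≠ ⊥) {a b : α} (hab : a ≠ b) : MulAction.stabilizer G a ≠ MulAction.stabilizer G b := by
  intro heq
  have : Nontrivial α := ⟨a, b, hab⟩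
  have hco := MulAction.IsPreprimitive.isCoatom_stabilizer_of_isPreprimitive (G := G) a
  by_cases hbot : MulAction.stabilizer G a = ⊥
  · have hreg : ∀ x : α, MulAction.stabilizer G x = ⊥ := by
      intro x
      obtain ⟨g, rfl⟩ := MulAction.exists_smul_eq G a x
      rw [MulAction.stabilizer_smul_eq_stabilizer_map_conj, hbot, Subgroup.map_bot]
    have hp : ¬ (Nat.card α).Prime := h.resolve_right (fun ⟨x, hx⟩ => hx (hreg x))
    rw [hbot] at hco
    have : IsSimpleOrder (Subgroup G) := isSimpleOrder_iff_isCoatom_bot.2 hco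
    have hbij := Cfsg.Agent.Perm.Basic.orbitMap_bijective G inferInstance hreg a
    apply hp
    rw [← Nat.card_eq_of_bijective _ hbij]
    have : Nontrivial G := by
      by_contra hnt
      rw [not_nontrivial_iff_subsingleton] at hnt
      exact not_subsingleton α hbij.surjective.subsingleton
    obtain ⟨g, hg⟩ := exists_ne (1 : G)
    have htop : Subgroup.zpowers g = ⊤ :=
      (IsSimpleOrder.eq_bot_or_eq_top _).resolve_left (fun hh => hg (Subgroup.zpowers_eq_bot.1 hh))
    have : IsMulCommutative G := ⟨⟨fun x y => by
      obtain ⟨i, rfl⟩ := Subgroup.mem_zpowers_iff.1 (htop.ge (Subgroup.mem_top x))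
      obtain ⟨j, rfl⟩ := Subgroup.mem_zpowers_iff.1 (htop.ge (Subgroup.mem_top y))
      rw [← zpow_add, ← zpow_add, add_comm]⟩⟩
    exact Group.is_simple_iff_prime_card.1
      { eq_bot_or_eq_top_of_normal := fun H _ => IsSimpleOrder.eq_bot_or_eq_top H }
  · have hnt : ∃ g : G, g • a = a ∧ g ≠ 1 := by
      obtain ⟨g, hg, hg1⟩ := (Subgroup.bot_or_exists_ne_one _).resolve_left hbot
      exact ⟨g, hg, hg1⟩
    let B : Set α := {x | MulAction.stabilizer G x = MulAction.stabilizer G a}
    have hB : MulAction.IsBlock G B := by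
      rw [MulAction.isBlock_iff_smul_eq_of_nonempty]
      rintro g ⟨x, ⟨y, hy, rfl⟩, hx⟩
      ext z
      rw [Set.mem_smul_set_iff_inv_smul_mem]
      simp only [B, Set.mem_ofPred_eq] at hx hy ⊢
      simp only [MulAction.stabilizer_smul_eq_stabilizer_map_conj] at hx ⊢
      rw [hy] at hx
      constructor
      · intro hz
        rw [← hx, ← hz, Subgroup.map_map]
        convert (Subgroup.map_id _).symm using 2
        ext w
        simp [MulAut.conj_apply, mul_assoc]
      · intro hz
        rw [hz]
        conv_lhs => rw [← hx, Subgroup.map_map]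
        convert Subgroup.map_id _ using 2
        ext w
        simp [MulAut.conj_apply, mul_assoc]
    rcases hB.subsingleton_or_eq_univ with hsub | huniv
    · exact hab (hsub rfl heq.symm)
    · obtain ⟨g, hga, hg1⟩ := hnt
      apply hg1
      refine Subtype.ext (Equiv.ext fun x => ?_)
      have hx : x ∈ B := huniv ▸ Set.mem_univ x
      exact hx.ge hga

end Cfsg.Agent.S0707
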