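import Cfsg.Statements.S0708
import Mathlib

set_option autoImplicit false
open Cfsg

namespace Cfsg.Agent.S0708


theorem emb4 {Ω : Type*} {a b c d : Ω} (h : List.Nodup [a, b, c, d]) :
    ∃ x : Fin 4 ↪ Ω, x 0 = a ∧ x 1 = b ∧ x 2 = c ∧ x 3 = d := by
  simp only [List.nodup_cons, List.mem_cons, List.not_mem_nil, List.nodup_nil] at h
  exact ⟨⟨![a, b, c, d], by intro i j hij; fin_cases i <;> fin_cases j <;> simp_all [eq_comm]⟩,
    rfl, rfl, rfl, rfl⟩

/-- Tits' argument: a sharply 4-transitive group (no finiteness assumed) has finite degree at most 11, and at most 6 when the degree is even. -/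
theorem result {G : Type*} [Group G] {Ω : Type*} [MulAction G Ω] (h4 : MulAction.IsMultiplyPretransitive G Ω 4) (hsharp : ∀ x : Fin 4 ↪ Ω, MulAction.stabilizer G x = ⊥) (hne : Nonempty (Fin 4 ↪ Ω)) : Finite Ω ∧ Nat.card Ω ≤ 11 ∧ (Even (Nat.card Ω) → Nat.card Ω ≤ 6) := by
  classical
  -- elements agreeing on four points are equal, and any four points can be moved to any four
  have huniq : ∀ {g h : G} {a b c d : Ω}, List.Nodup [a, b, c, d] → g • a = h • a → g • b = h • b →
      g • c = h • c → g • d = h • d → g = h := by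
    intro g h a b c d hnd ha hb hc hd
    obtain ⟨x, x0, x1, x2, x3⟩ := emb4 hnd
    have hmem : h⁻¹ * g ∈ MulAction.stabilizer G x := by
      rw [MulAction.mem_stabilizer_iff]
      refine DFunLike.ext _ _ fun i => ?_
      show (h⁻¹ * g) • x i = x i
      rw [mul_smul, inv_smul_eq_iff]
      fin_cases i
      · rw [show x ⟨0, _⟩ = a from x0]; exact ha
      · rw [show x ⟨1, _⟩ = b from x1]; exact hb
      · rw [show x ⟨2, _⟩ = c from x2]; exact hc
      · rw [show x ⟨3, _⟩ = d from x3]; exact hd
    rw [hsharp x, Subgroup.mem_bot, inv_mul_eq_one] at hmem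
    exact hmem.symm
  have hmap : ∀ {a b c d a' b' c' d' : Ω}, List.Nodup [a, b, c, d] → List.Nodup [a', b', c', d'] →
      ∃ g : G, g • a = a' ∧ g • b = b' ∧ g • c = c' ∧ g • d = d' := by
    intro a b c d a' b' c' d' hx hy
    obtain ⟨x, x0, x1, x2, x3⟩ := emb4 hx
    obtain ⟨y, y0, y1, y2, y3⟩ := emb4 hy
    obtain ⟨g, hg⟩ := h4.exists_smul_eq x y
    refine ⟨g, ?_, ?_, ?_, ?_⟩
    · rw [← x0, ← y0]; exact DFunLike.congr_fun hg 0
    · rw [← x1, ← y1]; exact DFunLike.congr_fun hg 1
    · rw [← x2, ← y2]; exact DFunLike.congr_fun hg 2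
    · rw [← x3, ← y3]; exact DFunLike.congr_fun hg 3
  obtain ⟨e⟩ := hne
  set a := e 0
  set b := e 1
  set c := e 2
  set d := e 3
  have hab : a ≠ b := e.injective.ne (by decide)
  have hac : a ≠ c := e.injective.ne (by decide)
  have had : a ≠ d := e.injective.ne (by decide)
  have hbc : b ≠ c := e.injective.ne (by decide)
  have hbd : b ≠ d := e.injective.ne (by decide)
  have hcd : c ≠ d := e.injective.ne (by decide)
  have hnd : List.Nodup [a, b, c, d] := by simp [hab, hac, had, hbc, hbd, hcd]
  obtain ⟨u, hua, hub, huc, hud⟩ := hmap hnd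
    (a' := b) (b' := a) (c' := c) (d' := d) (by simp [hab.symm, hac, had, hbc, hbd, hcd])
  have hu2 : u * u = 1 := huniq hnd (by rw [mul_smul, hua, hub, one_smul])
    (by rw [mul_smul, hub, hua, one_smul]) (by rw [mul_smul, huc, huc, one_smul])
    (by rw [mul_smul, hud, hud, one_smul])
  have huu : ∀ x : Ω, u • u • x = x := fun x => by rw [← mul_smul, hu2, one_smul]
  have hu1 : u ≠ 1 := fun h => hab (by rw [← hua, h, one_smul])
  -- at most one further fixed point
  have hphi : ∀ f f' : Ω, f ≠ c → f ≠ d → f' ≠ c → f' ≠ d → u • f = f → u • f' = f' → f = f' := by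
    intro f f' h1 h2 h3 h4 hf hf'
    by_contra hff
    exact hu1 (huniq (a := c) (b := d) (c := f) (d := f')
      (by simp [hcd, h1.symm, h2.symm, h3.symm, h4.symm, hff]) (by rw [huc, one_smul])
      (by rw [hud, one_smul]) (by rw [hf, one_smul]) (by rw [hf', one_smul]))
  set M : Set Ω := {x | x ≠ a ∧ x ≠ b ∧ u • x ≠ x} with hMdef
  -- commuting lifts
  have hlift : ∀ x ∈ M, ∃ z : G, z • a = b ∧ z • b = a ∧ z • x = x ∧ z * u = u * z ∧
      ¬ (z • c = c ∧ z • d = d) ∧ z ≠ 1 ∧ z * z = 1 := by
    rintro x ⟨hxa, hxb, hxu⟩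
    have hya : u • x ≠ a := fun h => hxb (by rw [← huu x, h, hua])
    have hyb : u • x ≠ b := fun h => hxa (by rw [← huu x, h, hub])
    have hnd' : List.Nodup [a, b, x, u • x] := by
      simp [hab, hxa.symm, hxb.symm, hya.symm, hyb.symm, hxu.symm]
    obtain ⟨z, hza, hzb, hzx, hzy⟩ := hmap hnd' (a' := b) (b' := a) (c' := x) (d' := u • x)
      (by simp [hab.symm, hxa.symm, hxb.symm, hya.symm, hyb.symm, hxu.symm])
    refine ⟨z, hza, hzb, hzx, ?_, ?_, fun h => hab (by rw [← hza, h, one_smul]), ?_⟩
    · refine huniq hnd' ?_ ?_ ?_ ?_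
      · rw [mul_smul, mul_smul, hua, hzb, hza, hub]
      · rw [mul_smul, mul_smul, hub, hza, hzb, hua]
      · rw [mul_smul, mul_smul, hzy, hzx]
      · rw [mul_smul, mul_smul, huu, hzx, hzy, huu]
    · rintro ⟨hzc, hzd⟩
      have hzu : z = u := huniq hnd (hza.trans hua.symm) (hzb.trans hub.symm) (hzc.trans huc.symm)
        (hzd.trans hud.symm)
      exact hxu (hzu ▸ hzx)
    · exact huniq hnd' (by rw [mul_smul, hza, hzb, one_smul]) (by rw [mul_smul, hzb, hza, one_smul])
        (by rw [mul_smul, hzx, hzx, one_smul]) (by rw [mul_smul, hzy, hzy, one_smul])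
  choose! ζ hζa hζb hζx hζu hζne hζ1 hζ2 using hlift
  have himg : ∀ x ∈ M, ∀ q : Ω, u • q = q → u • (ζ x • q) = ζ x • q := by
    intro x hx q hq
    rw [← mul_smul, ← hζu x hx, mul_smul, hq]
  have hinv : ∀ x ∈ M, ∀ p q : Ω, ζ x • p = q → ζ x • q = p := by
    intro x hx p q h
    rw [← h, ← mul_smul, hζ2 x hx, one_smul]
  -- each of them accounts for at most two points
  have hfib : ∀ x ∈ M, ∀ y ∈ M, ζ y = ζ x → y = x ∨ y = u • x := by
    intro x hx y hy h
    by_contra hcon
    push Not at hcon
    obtain ⟨h1, h2⟩ := hcon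
    have hzy : ζ x • y = y := h ▸ hζx y hy
    have h3 : u • y ≠ x := fun e => h2 (by rw [← e, huu])
    have hfix : ∀ q : Ω, ζ x • q = q → ζ x • (u • q) = u • q := fun q hq => by
      rw [← mul_smul, hζu x hx, mul_smul, hq]
    exact hζ1 x hx (huniq (a := x) (b := u • x) (c := y) (d := u • y)
      (by simp [hx.2.2.symm, h1.symm, h2.symm, h3.symm, hy.2.2.symm, fun e : u • x = u • y => h1 (MulAction.injective u e).symm])
      (by rw [hζx x hx, one_smul]) (by rw [hfix x (hζx x hx), one_smul]) (by rw [hzy, one_smul])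
      (by rw [hfix y hzy, one_smul]))
  have hcover : ∀ S : Finset G, (∀ x ∈ M, ζ x ∈ S) → M.Finite ∧ M.ncard ≤ 2 * S.card := by
    intro S hS
    let r : G → Finset Ω := fun g =>
      if h : ∃ x ∈ M, ζ x = g then {h.choose, u • h.choose} else ∅
    have hsub : M ⊆ ↑(S.biUnion r) := by
      intro x hx
      rw [Finset.mem_coe, Finset.mem_biUnion]
      refine ⟨ζ x, hS x hx, ?_⟩
      have h : ∃ y ∈ M, ζ y = ζ x := ⟨x, hx, rfl⟩
      simp only [r, dif_pos h, Finset.mem_insert, Finset.mem_singleton]
      exact hfib _ h.choose_spec.1 x hx h.choose_spec.2.symm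
    refine ⟨(S.biUnion r).finite_toSet.subset hsub, ?_⟩
    refine (Set.ncard_le_ncard hsub (S.biUnion r).finite_toSet).trans ?_
    rw [Set.ncard_coe_finset, mul_comm]
    refine Finset.card_biUnion_le_card_mul S r 2 fun g _ => ?_
    simp only [r]
    split_ifs with h
    · exact Finset.card_le_two
    · simp
  have hrest : ∀ x : Ω, x = a ∨ x = b ∨ u • x = x ∨ x ∈ M := by
    intro x
    simp only [hMdef, Set.mem_setOf_eq]
    tauto
  by_cases hf : ∃ f, f ≠ c ∧ f ≠ d ∧ u • f = f
  · obtain ⟨f, hfc, hfd, huf⟩ := hf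
    have hfa : f ≠ a := fun h => hab (by rw [← hua, ← h, huf])
    have hfb : f ≠ b := fun h => hab (by rw [← hub, ← h, huf])
    have hto : ∀ x ∈ M, ∀ q : Ω, u • q = q → ζ x • q = c ∨ ζ x • q = d ∨ ζ x • q = f := by
      intro x hx q hq
      by_contra! h
      exact h.2.2 (hphi _ _ h.1 h.2.1 hfc hfd (himg x hx q hq) huf)
    have hval : ∀ x ∈ M, (ζ x • c = c ∧ ζ x • d = f) ∨ (ζ x • c = d ∧ ζ x • d = c) ∨
        (ζ x • c = f ∧ ζ x • d = d) := by
      intro x hx
      have hinj : ∀ p q : Ω, ζ x • p = ζ x • q → p = q := fun p q h => MulAction.injective (ζ x) h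
      rcases hto x hx c huc with h | h | h
      · rcases hto x hx d hud with h' | h' | h'
        · exact absurd (hinj _ _ (h.trans h'.symm)) hcd
        · exact absurd ⟨h, h'⟩ (hζne x hx)
        · exact Or.inl ⟨h, h'⟩
      · exact Or.inr (Or.inl ⟨h, hinv x hx _ _ h⟩)
      · rcases hto x hx d hud with h' | h' | h'
        · exact absurd (hinv x hx _ _ h') (by rw [h]; exact hfd)
        · exact Or.inr (Or.inr ⟨h, h'⟩)
        · exact absurd (hinj _ _ (h.trans h'.symm)) hcd
    obtain ⟨z1, h11, h12, h13, h14⟩ := hmap hnd (a' := b) (b' := a) (c' := c) (d' := f)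
      (by simp [hab.symm, hac, hbc, hfa.symm, hfb.symm, hfc.symm])
    obtain ⟨z2, h21, h22, h23, h24⟩ := hmap hnd (a' := b) (b' := a) (c' := d) (d' := c)
      (by simp [hab.symm, hac, hbc, had, hbd, hcd.symm])
    obtain ⟨z3, h31, h32, h33, h34⟩ := hmap hnd (a' := b) (b' := a) (c' := f) (d' := d)
      (by simp [hab.symm, had, hbd, hfa.symm, hfb.symm, hfd])
    obtain ⟨hfin, hM⟩ := hcover {z1, z2, z3} fun x hx => by
      simp only [Finset.mem_insert, Finset.mem_singleton]
      rcases hval x hx with ⟨p, q⟩ | ⟨p, q⟩ | ⟨p, q⟩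
      · exact Or.inl (huniq hnd ((hζa x hx).trans h11.symm) ((hζb x hx).trans h12.symm)
          (p.trans h13.symm) (q.trans h14.symm))
      · exact Or.inr (Or.inl (huniq hnd ((hζa x hx).trans h21.symm) ((hζb x hx).trans h22.symm)
          (p.trans h23.symm) (q.trans h24.symm)))
      · exact Or.inr (Or.inr (huniq hnd ((hζa x hx).trans h31.symm) ((hζb x hx).trans h32.symm)
          (p.trans h33.symm) (q.trans h34.symm)))
    have hsub : (Set.univ : Set Ω) ⊆ ({a, b, c, d, f} : Finset Ω) ∪ M := by
      intro x _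
      rcases hrest x with h | h | h | h
      · left; simp [h]
      · left; simp [h]
      · left
        by_cases hxc : x = c
        · simp [hxc]
        by_cases hxd : x = d
        · simp [hxd]
        simp [hphi x f hxc hxd hfc hfd h huf]
      · exact Or.inr h
    have hfin' : Finite Ω := Set.finite_univ_iff.1 (((Finset.finite_toSet _).union hfin).subset hsub)
    refine ⟨hfin', ?_, fun heven => ?_⟩
    · have h := (Set.ncard_le_ncard hsub ((Finset.finite_toSet _).union hfin)).trans
        (Set.ncard_union_le _ _)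
      rw [Set.ncard_univ, Set.ncard_coe_finset] at h
      have h5 : ({a, b, c, d, f} : Finset Ω).card ≤ 5 := Finset.card_le_five
      have h6 : ({z1, z2, z3} : Finset G).card ≤ 3 := Finset.card_le_three
      omega
    · exfalso
      haveI := Fintype.ofFinite Ω
      let σ : Equiv.Perm Ω := MulAction.toPerm u
      have hσ : σ ^ 2 ^ 1 = 1 := by
        ext x
        exact huu x
      haveI : Fact (Nat.Prime 2) := ⟨Nat.prime_two⟩
      have hsupp := Equiv.Perm.card_compl_support_modEq hσ
      have hcompl : σ.supportᶜ = {c, d, f} := by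
        ext x
        simp only [Finset.mem_compl, Equiv.Perm.mem_support, not_not, Finset.mem_insert,
          Finset.mem_singleton, σ, MulAction.toPerm_apply]
        constructor
        · intro h
          by_contra! hne'
          exact hne'.2.2 (hphi x f hne'.1 hne'.2.1 hfc hfd h huf)
        · rintro (rfl | rfl | rfl) <;> assumption
      rw [hcompl, Finset.card_insert_of_notMem (by simp [hcd, hfc.symm]),
        Finset.card_pair hfd.symm] at hsupp
      rw [Nat.card_eq_fintype_card] at heven
      obtain ⟨j, hj⟩ := heven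
      unfold Nat.ModEq at hsupp
      omega
  · push Not at hf
    have hval : ∀ x ∈ M, ζ x • c = d ∧ ζ x • d = c := by
      intro x hx
      have hto : ∀ q : Ω, u • q = q → ζ x • q = c ∨ ζ x • q = d := by
        intro q hq
        by_contra! h
        exact hf _ h.1 h.2 (himg x hx q hq)
      rcases hto c huc with h | h
      · rcases hto d hud with h' | h'
        · exact absurd (MulAction.injective (ζ x) (h.trans h'.symm)) hcd
        · exact absurd ⟨h, h'⟩ (hζne x hx)
      · exact ⟨h, hinv x hx _ _ h⟩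
    obtain ⟨z, hz1, hz2, hz3, hz4⟩ := hmap hnd (a' := b) (b' := a) (c' := d) (d' := c)
      (by simp [hab.symm, hac, hbc, had, hbd, hcd.symm])
    obtain ⟨hfin, hM⟩ := hcover {z} fun x hx => by
      rw [Finset.mem_singleton]
      exact huniq hnd ((hζa x hx).trans hz1.symm) ((hζb x hx).trans hz2.symm)
        ((hval x hx).1.trans hz3.symm) ((hval x hx).2.trans hz4.symm)
    have hsub : (Set.univ : Set Ω) ⊆ ({a, b, c, d} : Finset Ω) ∪ M := by
      intro x _
      rcases hrest x with h | h | h | h
      · left; simp [h]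
      · left; simp [h]
      · left
        by_cases hxc : x = c
        · simp [hxc]
        by_cases hxd : x = d
        · simp [hxd]
        exact absurd h (hf x hxc hxd)
      · exact Or.inr h
    have hfin' : Finite Ω := Set.finite_univ_iff.1 (((Finset.finite_toSet _).union hfin).subset hsub)
    have h := (Set.ncard_le_ncard hsub ((Finset.finite_toSet _).union hfin)).trans
        (Set.ncard_union_le _ _)
    rw [Set.ncard_univ, Set.ncard_coe_finset] at h
    have h5 : ({a, b, c, d} : Finset Ω).card ≤ 4 := Finset.card_le_four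
    rw [Finset.card_singleton] at hM
    exact ⟨hfin', by omega, fun _ => by omega⟩

end Cfsg.Agent.S0708
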