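import Cfsg.Statements.S0709
-- import your own Cfsg.Agent.* helpers here

set_option autoImplicit false
open Cfsg

namespace Cfsg.Agent.S0709

/-- The elementary double coset step: `K ∪ K s K` is closed. -/
theorem double_coset_step {X : Type*} [Group X] {L K : Subgroup X} {r s : X} (hLK : L ≤ K)
    (hrK : r ∈ K) (hK : ∀ x ∈ K, x ∈ L ∨ ∃ u ∈ L, ∃ v ∈ L, x = u * r * v)
    (hn : ∀ l ∈ L, s * l * s⁻¹ ∈ L) (hs : s ^ 2 ∈ L) (hb : (r * s) ^ 3 ∈ L) :
    ∀ x ∈ Subgroup.closure ((K : Set X) ∪ {s}), x ∈ K ∨ ∃ u ∈ K, ∃ v ∈ K, x = u * s * v := by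
  have hs' : s ^ 2 ∈ K := hLK hs
  have hn' : ∀ l ∈ L, s⁻¹ * l * s ∈ L := by
    intro l hl
    have : (s ^ 2)⁻¹ * (s * l * s⁻¹) * s ^ 2 ∈ L := L.mul_mem (L.mul_mem (L.inv_mem hs) (hn l hl)) hs
    convert! this using 1
    group
  -- the middle products
  have hmid : ∀ k ∈ K, s * k * s ∈ K ∨ ∃ u ∈ K, ∃ v ∈ K, s * k * s = u * s * v := by
    intro k hk
    rcases hK k hk with hl | ⟨a, ha, b, hb', rfl⟩
    · left
      rw [show s * k * s = (s * k * s⁻¹) * s ^ 2 by group]
      exact hLK (L.mul_mem (hn k hl) hs)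
    · right
      refine ⟨(s * a * s⁻¹) * r⁻¹ * (r * s) ^ 3 * (s ^ 2)⁻¹, ?_, r⁻¹ * (s⁻¹ * b * s), ?_, ?_⟩
      · exact K.mul_mem (K.mul_mem (K.mul_mem (hLK (hn a ha)) (K.inv_mem hrK)) (hLK hb))
          (K.inv_mem hs')
      · exact K.mul_mem (K.inv_mem hrK) (hLK (hn' b hb'))
      · simp only [pow_succ, pow_zero, one_mul, mul_assoc, mul_inv_rev, mul_inv_cancel_left,
          inv_mul_cancel_left]
  let S : Subgroup X :=
    { carrier := {x | x ∈ K ∨ ∃ u ∈ K, ∃ v ∈ K, x = u * s * v}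
      one_mem' := Or.inl K.one_mem
      inv_mem' := by
        rintro x (hx | ⟨u, hu, v, hv, rfl⟩)
        · exact Or.inl (K.inv_mem hx)
        · exact Or.inr ⟨v⁻¹ * (s ^ 2)⁻¹, K.mul_mem (K.inv_mem hv) (K.inv_mem hs'), u⁻¹,
            K.inv_mem hu, by group⟩
      mul_mem' := by
        rintro x y (hx | ⟨u, hu, v, hv, rfl⟩) (hy | ⟨u', hu', v', hv', rfl⟩)
        · exact Or.inl (K.mul_mem hx hy)
        · exact Or.inr ⟨x * u', K.mul_mem hx hu', v', hv', by group⟩
        · exact Or.inr ⟨u, hu, v * y, K.mul_mem hv hy, by group⟩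
        · have he : u * s * v * (u' * s * v') = u * (s * (v * u') * s) * v' := by group
          rcases hmid _ (K.mul_mem hv hu') with h | ⟨p, hp, q, hq, h⟩
          · exact Or.inl (he ▸ K.mul_mem (K.mul_mem hu h) hv')
          · refine Or.inr ⟨u * p, K.mul_mem hu hp, q * v', K.mul_mem hq hv', ?_⟩
            rw [he, h]
            group }
  intro x hx
  have hle : Subgroup.closure ((K : Set X) ∪ {s}) ≤ S := by
    rw [Subgroup.closure_le]
    rintro y (hy | hy)
    · exact Or.inl hy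
    · rw [Set.mem_singleton_iff] at hy
      exact Or.inr ⟨1, K.one_mem, 1, K.one_mem, by rw [hy, one_mul, mul_one]⟩
  exact hle hx

/-- Witt's Lemma for constructing transitive extensions. Points `q 1, …, q t` (`t ≥ 2`) of a finite set are given; `G` fixes `q i` for `i ≥ 3` and is doubly transitive on the remaining points; `s 1 ∈ G` swaps `q 1, q 2`; for `2 ≤ i ≤ t-1`, `s i` swaps `q i, q (i+1)` and fixes the other `q j`; with `H` the stabiliser of `q 1, q 2` in `G`: `s i ^ 2 ∈ H`, `(s i * s (i+1)) ^ 3 ∈ H`, `(s i * s j) ^ 2 ∈ H` for `j ≥ i + 2`, and `s i` (`i ≥ 2`) normalises the stabiliser of `q 2` in `G`. Then `G` and the `s i` generate a `t`-transitive group whose pointwise stabiliser of the `q`'s is `H`. -/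
theorem result {α : Type*} [Fintype α] [DecidableEq α] (t : ℕ) (ht : 2 ≤ t) (q : ℕ → α) (hq : ∀ i j : ℕ, 1 ≤ i → i ≤ t → 1 ≤ j → j ≤ t → q i = q j → i = j) (G : Subgroup (Equiv.Perm α)) (hfix : ∀ g ∈ G, ∀ i : ℕ, 3 ≤ i → i ≤ t → g (q i) = q i) (h2 : ∀ a b c d : α, (∀ i, 3 ≤ i → i ≤ t → a ≠ q i ∧ b ≠ q i ∧ c ≠ q i ∧ d ≠ q i) → a ≠ b → c ≠ d → ∃ g ∈ G, g a = c ∧ g b = d) (s : ℕ → Equiv.Perm α) (hs1 : s 1 ∈ G) (hs1q : s 1 (q 1) = q 2 ∧ s 1 (q 2) = q 1) (hsq : ∀ i : ℕ, 2 ≤ i → i + 1 ≤ t → s i (q i) = q (i + 1) ∧ s i (q (i + 1)) = q i ∧ ∀ j : ℕ, 1 ≤ j → j ≤ t → j ≠ i → j ≠ i + 1 → s i (q j) = q j) (H : Subgroup (Equiv.Perm α)) (hH : H = G ⊓ MulAction.stabilizer (Equiv.Perm α) (q 1) ⊓ MulAction.stabilizer (Equiv.Perm α) (q 2)) (hsq2 : ∀ i : ℕ, 1 ≤ i → i + 1 ≤ t → s i ^ 2 ∈ H) (hbraid : ∀ i : ℕ, 1 ≤ i → i + 2 ≤ t → (s i * s (i + 1)) ^ 3 ∈ H) (hcomm : ∀ i j : ℕ, 1 ≤ i → i + 2 ≤ j → j + 1 ≤ t → (s i * s j) ^ 2 ∈ H ∧ (s j * s i) ^ 2 ∈ H) (hnorm : ∀ i : ℕ, 2 ≤ i → i + 1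 ≤ t → ∀ g ∈ G ⊓ MulAction.stabilizer (Equiv.Perm α) (q 2), s i * g * (s i)⁻¹ ∈ G ⊓ MulAction.stabilizer (Equiv.Perm α) (q 2)) : MulAction.IsMultiplyPretransitive ↥(Subgroup.closure ((G : Set (Equiv.Perm α)) ∪ {x | ∃ i : ℕ, 2 ≤ i ∧ i + 1 ≤ t ∧ x = s i})) α t ∧ Subgroup.closure ((G : Set (Equiv.Perm α)) ∪ {x | ∃ i : ℕ, 2 ≤ i ∧ i + 1 ≤ t ∧ x = s i}) ⊓ fixingSubgroup (Equiv.Perm α) {x | ∃ i : ℕ, 1 ≤ i ∧ i ≤ t ∧ x = q i} = H := by
  classical
  let K : ℕ → Subgroup (Equiv.Perm α) := fun i =>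
    Subgroup.closure ((G : Set (Equiv.Perm α)) ∪ {x | ∃ j : ℕ, 2 ≤ j ∧ j ≤ i ∧ x = s j})
  let L : ℕ → Subgroup (Equiv.Perm α) := fun i =>
    if i = 0 then G ⊓ MulAction.stabilizer (Equiv.Perm α) (q 2) else K i
  have hHG : H ≤ G := hH ▸ inf_le_left.trans inf_le_left
  have hHL0 : H ≤ L 0 := by
    simp only [L, if_true]
    exact le_inf hHG (hH ▸ inf_le_right)
  have hGK : ∀ i, G ≤ K i := fun i g hg => Subgroup.subset_closure (Or.inl hg)
  have hK1 : K 1 = G := by
    refine le_antisymm ?_ (hGK 1)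
    rw [Subgroup.closure_le]
    rintro x (hx | ⟨j, hj2, hj1, -⟩)
    · exact hx
    · omega
  have hsK : ∀ i j, 2 ≤ j → j ≤ i → s j ∈ K i :=
    fun i j h1 h2' => Subgroup.subset_closure (Or.inr ⟨j, h1, h2', rfl⟩)
  have hKsucc : ∀ i, 1 ≤ i → K (i + 1) = Subgroup.closure ((K i : Set (Equiv.Perm α)) ∪ {s (i + 1)}) := by
    intro i hi
    apply le_antisymm <;> rw [Subgroup.closure_le]
    · rintro x (hx | ⟨j, hj2, hj1, rfl⟩)
      · exact Subgroup.subset_closure (Or.inl (hGK i hx))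
      · rcases Nat.lt_or_ge j (i + 1) with h | h
        · exact Subgroup.subset_closure (Or.inl (hsK i j hj2 (by omega)))
        · exact Subgroup.subset_closure (Or.inr (by rw [show j = i + 1 by omega]; rfl))
    · rintro x (hx | hx)
      · refine Subgroup.closure_mono (Set.union_subset_union_right _ ?_) hx
        rintro y ⟨j, hj2, hj1, rfl⟩
        exact ⟨j, hj2, by omega, rfl⟩
      · rw [Set.mem_singleton_iff] at hx
        exact hx ▸ hsK _ _ (by omega) le_rfl
  have hHK : ∀ i, H ≤ L i := by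
    intro i
    rcases Nat.eq_zero_or_pos i with rfl | hi
    · exact hHL0
    · simp only [L, if_neg hi.ne']
      exact hHG.trans (hGK i)
  have hsmem : ∀ i, 1 ≤ i → s i ∈ K i := by
    intro i hi
    rcases Nat.lt_or_ge i 2 with h | h
    · obtain rfl : i = 1 := by omega
      exact hGK 1 hs1
    · exact hsK i i h le_rfl
  -- the decomposition of `G`
  have hG1 : ∀ g ∈ G, g ∈ L 0 ∨ ∃ u ∈ L 0, ∃ v ∈ L 0, g = u * s 1 * v := by
    intro g hg
    simp only [L, if_true, Subgroup.mem_inf, MulAction.mem_stabilizer_iff, Equiv.Perm.smul_def]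
    by_cases hgq : g (q 2) = q 2
    · exact Or.inl ⟨hg, hgq⟩
    right
    have h12 : q 1 ≠ q 2 := fun h => absurd (hq 1 2 le_rfl (by omega) (by omega) ht h) (by omega)
    obtain ⟨u, hu, hu1, hu2⟩ := h2 (q 1) (q 2) (g (q 2)) (q 2) (fun i h3 hi => by
      refine ⟨fun h => ?_, fun h => ?_, fun h => ?_, fun h => ?_⟩
      · exact absurd (hq 1 i le_rfl (by omega) (by omega) hi h) (by omega)
      · exact absurd (hq 2 i (by omega) ht (by omega) hi h) (by omega)
      · rw [← hfix g hg i h3 hi] at h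
        exact absurd (hq 2 i (by omega) ht (by omega) hi (g.injective h)) (by omega)
      · exact absurd (hq 2 i (by omega) ht (by omega) hi h) (by omega)) h12 hgq
    refine ⟨u, ⟨hu, hu2⟩, (u * s 1)⁻¹ * g, ⟨G.mul_mem (G.inv_mem (G.mul_mem hu hs1)) hg, ?_⟩,
      by group⟩
    rw [Equiv.Perm.mul_apply, Equiv.Perm.inv_eq_iff_eq, Equiv.Perm.mul_apply, hs1q.2, hu1]
  -- normalisation
  have hN : ∀ i j, i + 2 ≤ j → j + 1 ≤ t → ∀ l ∈ L i, s j * l * (s j)⁻¹ ∈ L i := by
    intro i j hij hjt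
    rcases Nat.eq_zero_or_pos i with rfl | hi
    · simp only [L, if_true]
      exact hnorm j (by omega) hjt
    simp only [L, if_neg hi.ne']
    have hconj : ∀ l, 1 ≤ l → l ≤ i → s j * s l * (s j)⁻¹ ∈ K i := by
      intro l hl hli
      have hsl : s l ∈ K i := by
        rcases Nat.lt_or_ge l 2 with h | h
        · obtain rfl : l = 1 := by omega
          exact hGK i hs1
        · exact hsK i l h hli
      have e : s j * s l * (s j)⁻¹ = (s j * s l) ^ 2 * (s l)⁻¹ * (s j ^ 2)⁻¹ := by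
        simp only [pow_two, mul_inv_rev, mul_assoc, mul_inv_cancel_left]
      rw [e]
      exact (K i).mul_mem ((K i).mul_mem (hGK i (hHG (hcomm l j hl (by omega) hjt).2))
        ((K i).inv_mem hsl)) ((K i).inv_mem (hGK i (hHG (hsq2 j (by omega) hjt))))
    have hle : K i ≤ (K i).comap (MulAut.conj (s j)).toMonoidHom := by
      refine (Subgroup.closure_le _).2 ?_
      rintro x (hx | ⟨l, hl2, hli, rfl⟩)
      · show s j * x * (s j)⁻¹ ∈ K i
        have h0 : ∀ y ∈ L 0, s j * y * (s j)⁻¹ ∈ K i := by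
          intro y hy
          simp only [L, if_true] at hy
          exact hGK i (hnorm j (by omega) hjt y hy).1
        rcases hG1 x hx with hx0 | ⟨u, hu, v, hv, rfl⟩
        · exact h0 x hx0
        · rw [show s j * (u * s 1 * v) * (s j)⁻¹ =
            (s j * u * (s j)⁻¹) * (s j * s 1 * (s j)⁻¹) * (s j * v * (s j)⁻¹) by group]
          exact (K i).mul_mem ((K i).mul_mem (h0 u hu) (hconj 1 le_rfl hi)) (h0 v hv)
      · exact hconj l (by omega) hli
    exact fun l hl => hle hl
  -- the double coset decompositions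
  have hD : ∀ i, 1 ≤ i → i + 1 ≤ t →
      ∀ x ∈ K i, x ∈ L (i - 1) ∨ ∃ u ∈ L (i - 1), ∃ v ∈ L (i - 1), x = u * s i * v := by
    intro i hi
    induction i, hi using Nat.le_induction with
    | base =>
      intro _ x hx
      rw [hK1] at hx
      exact hG1 x hx
    | succ i hi ih =>
      intro hit x hx
      rw [hKsucc i hi] at hx
      simp only [Nat.add_sub_cancel, L, if_neg (by omega : i ≠ 0)]
      have hLK : L (i - 1) ≤ K i := by
        rcases Nat.eq_zero_or_pos (i - 1) with h | h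
        · simp only [L, if_pos h]
          exact inf_le_left.trans (hGK i)
        · simp only [L, if_neg h.ne']
          refine Subgroup.closure_mono (Set.union_subset_union_right _ ?_)
          rintro y ⟨l, hl2, hl, rfl⟩
          exact ⟨l, hl2, by omega, rfl⟩
      exact double_coset_step hLK (hsmem i hi) (ih (by omega))
        (hN (i - 1) (i + 1) (by omega) hit) (hHK _ (hsq2 (i + 1) (by omega) hit))
        (hHK _ (hbraid i hi (by omega))) x hx
  -- the tail points are fixed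
  have hfixK : ∀ i, 1 ≤ i → i + 1 ≤ t → ∀ x ∈ K i, ∀ l, i + 2 ≤ l → l ≤ t → x (q l) = q l := by
    intro i hi hit x hx l hl hlt
    have : K i ≤ MulAction.stabilizer (Equiv.Perm α) (q l) := by
      rw [Subgroup.closure_le]
      rintro y (hy | ⟨j, hj2, hji, rfl⟩)
      · exact hfix y hy l (by omega) hlt
      · exact (hsq j hj2 (by omega)).2.2 l (by omega) hlt (by omega) (by omega)
    exact this hx
  -- stabiliser of the last point
  have hstab : ∀ i, 1 ≤ i → i + 2 ≤ t → ∀ x ∈ K (i + 1), x (q (i + 2)) = q (i + 2) → x ∈ K i := by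
    intro i hi hit x hx hxq
    rcases hD (i + 1) (by omega) (by omega) x hx with h | ⟨u, hu, v, hv, rfl⟩
    · simp only [Nat.add_sub_cancel, L, if_neg (by omega : i ≠ 0)] at h
      exact h
    · exfalso
      simp only [Nat.add_sub_cancel, L, if_neg (by omega : i ≠ 0)] at hu hv
      rw [Equiv.Perm.mul_apply, Equiv.Perm.mul_apply, hfixK i hi (by omega) v hv (i + 2) le_rfl hit,
        (hsq (i + 1) (by omega) hit).2.1] at hxq
      have h' := hxq.trans (hfixK i hi (by omega) u hu (i + 2) le_rfl hit).symm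
      exact absurd (hq (i + 1) (i + 2) (by omega) (by omega) (by omega) hit (u.injective h'))
        (by omega)
  -- multiple transitivity
  have hmove : ∀ i, 1 ≤ i → i + 1 ≤ t → ∀ x : Fin (i + 1) → α, Function.Injective x →
      (∀ j l, i + 2 ≤ l → l ≤ t → x j ≠ q l) →
      ∃ g ∈ K i, ∀ j : Fin (i + 1), g (x j) = q (j + 1) := by
    intro i hi
    induction i, hi using Nat.le_induction with
    | base =>
      intro _ x hx hxo
      obtain ⟨g, hg, hg0, hg1⟩ := h2 (x 0) (x 1) (q 1) (q 2) (fun l h3 hl => ⟨hxo 0 l h3 hl,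
        hxo 1 l h3 hl,
        fun h => absurd (hq 1 l le_rfl (by omega) (by omega) hl h) (by omega),
        fun h => absurd (hq 2 l (by omega) ht (by omega) hl h) (by omega)⟩)
        (fun h => absurd (hx h) (by decide))
        (fun h => absurd (hq 1 2 le_rfl (by omega) (by omega) ht h) (by omega))
      refine ⟨g, hGK 1 hg, fun j => ?_⟩
      fin_cases j
      · exact hg0
      · exact hg1
    | succ i hi ih =>
      intro hit x hx hxo
      have hs' := hsq (i + 1) (by omega) hit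
      -- transitivity on the allowed points
      obtain ⟨g, hg, hgl⟩ : ∃ g ∈ K (i + 1), g (x (Fin.last (i + 1))) = q (i + 2) := by
        by_cases he : x (Fin.last (i + 1)) = q (i + 2)
        · exact ⟨1, (K (i + 1)).one_mem, he⟩
        -- extend the point to an injective tuple avoiding the tail
        have htail : ∀ l, i + 2 ≤ l → l ≤ t → x (Fin.last (i + 1)) ≠ q l := by
          intro l hl hlt
          rcases Nat.lt_or_ge l (i + 3) with h | h
          · rw [show l = i + 2 by omega]; exact he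
          · exact hxo _ l (by omega) hlt
        let y : Fin (i + 1) → α := fun j =>
          Equiv.swap (q (i + 1)) (x (Fin.last (i + 1))) (q (j + 1))
        have hy : Function.Injective y := fun a b hab => by
          have := (Equiv.swap _ _).injective hab
          exact Fin.ext (by
            have := hq _ _ (by omega) (by omega) (by omega) (by omega) this
            omega)
        obtain ⟨g, hg, hgy⟩ := ih (by omega) y hy (fun j l hl hlt h => by
          simp only [y] at h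
          rw [Equiv.swap_apply_eq_iff, Equiv.swap_apply_of_ne_of_ne
            (fun h' => absurd (hq l (i + 1) (by omega) hlt (by omega) (by omega) h') (by omega))
            (htail l hl hlt).symm] at h
          exact absurd (hq _ _ (by omega) (by omega) (by omega) hlt h) (by omega))
        refine ⟨s (i + 1) * g, (K (i + 1)).mul_mem (hsK _ _ (by omega) le_rfl) ?_, ?_⟩
        · refine Subgroup.closure_mono (Set.union_subset_union_right _ ?_) hg
          rintro z ⟨l, hl2, hl, rfl⟩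
          exact ⟨l, hl2, by omega, rfl⟩
        · have := hgy (Fin.last i)
          simp only [y, Fin.val_last, Equiv.swap_apply_left] at this
          rw [Equiv.Perm.mul_apply, this, hs'.1]
      obtain ⟨k, hk, hkx⟩ := ih (by omega) (fun j => g (x j.castSucc))
        (fun a b hab => Fin.castSucc_injective _ (hx (g.injective hab))) (fun j l hl hlt h => by
          rcases Nat.lt_or_ge l (i + 3) with h' | h'
          · rw [show l = i + 2 by omega, ← hgl] at h
            exact absurd (hx (g.injective h)) (Fin.castSucc_lt_last j).ne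
          · rw [← hfixK (i + 1) (by omega) hit g hg l h' hlt] at h
            exact hxo _ l h' hlt (g.injective h))
      refine ⟨k * g, (K (i + 1)).mul_mem ?_ hg, fun j => ?_⟩
      · refine Subgroup.closure_mono (Set.union_subset_union_right _ ?_) hk
        rintro z ⟨l, hl2, hl, rfl⟩
        exact ⟨l, hl2, by omega, rfl⟩
      · rcases Fin.eq_castSucc_or_eq_last j with ⟨j, rfl⟩ | rfl
        · exact hkx j
        · rw [Equiv.Perm.mul_apply, hgl, hfixK i hi (by omega) k hk (i + 2) le_rfl hit]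
          simp [Fin.val_last]
  have hKt : Subgroup.closure ((G : Set (Equiv.Perm α)) ∪ {x | ∃ i : ℕ, 2 ≤ i ∧ i + 1 ≤ t ∧ x = s i}) =
      K (t - 1) := by
    show _ = Subgroup.closure _
    congr 2
    ext x
    exact exists_congr fun j => ⟨fun h => ⟨h.1, by omega, h.2.2⟩, fun h => ⟨h.1, by omega, h.2.2⟩⟩
  rw [hKt]
  refine ⟨⟨fun e e' => ?_⟩, ?_⟩
  · obtain ⟨u, rfl⟩ : ∃ u, t = u + 1 := ⟨t - 1, by omega⟩
    obtain ⟨g, hg, hge⟩ := hmove u (by omega) le_rfl e e.injective
      (fun j l hl hlt => absurd hlt (by omega))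
    obtain ⟨g', hg', hge'⟩ := hmove u (by omega) le_rfl e' e'.injective
      (fun j l hl hlt => absurd hlt (by omega))
    refine ⟨⟨g'⁻¹ * g, (K _).mul_mem ((K _).inv_mem hg') hg⟩, Function.Embedding.ext fun j => ?_⟩
    show (g'⁻¹ * g) (e j) = e' j
    rw [Equiv.Perm.mul_apply, hge j, ← hge' j, Equiv.Perm.inv_eq_iff_eq]
  · refine le_antisymm (fun x hx => ?_) (fun x hx => ?_)
    · obtain ⟨hxK, hxf⟩ := Subgroup.mem_inf.1 hx
      rw [mem_fixingSubgroup_iff] at hxf
      have hxq : ∀ l, 1 ≤ l → l ≤ t → x (q l) = q l := fun l h1 h2' => hxf _ ⟨l, h1, h2', rfl⟩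
      have hdown : ∀ d i, i + d + 1 = t → 1 ≤ i → x ∈ K (i + d) → x ∈ K i := by
        intro d
        induction d with
        | zero => intro i _ _ h; exact h
        | succ d ih =>
          intro i hid hi h
          refine ih i.succ (by omega) (by omega) ?_ |> hstab i hi (by omega) x |> fun f => f (hxq _ (by omega) (by omega))
          rw [show i.succ + d = i + (d + 1) by omega]
          exact h
      have hxG : x ∈ G := by
        rw [← hK1]
        exact hdown (t - 2) 1 (by omega) le_rfl (by rw [show 1 + (t - 2) = t - 1 by omega]; exact hxK)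
      rw [hH]
      exact ⟨⟨hxG, hxq 1 le_rfl (by omega)⟩, hxq 2 (by omega) ht⟩
    · refine Subgroup.mem_inf.2 ⟨hGK _ (hHG hx), ?_⟩
      rw [hH] at hx
      obtain ⟨⟨hxG, hx1⟩, hx2⟩ := hx
      rw [mem_fixingSubgroup_iff]
      rintro _ ⟨l, hl1, hlt, rfl⟩
      rcases Nat.lt_or_ge l 3 with h | h
      · rcases (by omega : l = 1 ∨ l = 2) with rfl | rfl
        · exact hx1
        · exact hx2
      · exact hfix x hxG l h hlt

end Cfsg.Agent.S0709
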