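import Cfsg.Statements.S0710
import Cfsg.Agent.Lib.Perm.Basic

set_option autoImplicit false
open Cfsg

namespace Cfsg.Agent.S0710

/-- No transitive permutation group on 13 points has order `13 * 12 * 11 * 10 * 9 * 8`. -/
theorem result {α : Type*} [Fintype α] [DecidableEq α] (hα : Fintype.card α = 13) (G : Subgroup (Equiv.Perm α)) [MulAction.IsPretransitive G α] : Nat.card G ≠ 13 * 12 * 11 * 10 * 9 * 8 := by
  intro hG
  have : Fact (Nat.Prime 13) := ⟨by norm_num⟩
  obtain ⟨P⟩ : Nonempty (Sylow 13 G) := inferInstance
  have hcardP : Nat.card (P : Subgroup G) = 13 := by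
    rw [Sylow.card_eq_multiplicity, hG]
    have : (13 * 12 * 11 * 10 * 9 * 8 : ℕ).factorization 13 = 1 := by
      rw [show (13 * 12 * 11 * 10 * 9 * 8 : ℕ) = 13 * 95040 by norm_num,
        Nat.factorization_mul (by norm_num) (by norm_num), Finsupp.add_apply,
        Nat.Prime.factorization_self (by norm_num), Nat.factorization_eq_zero_of_not_dvd (by norm_num)]
    rw [this, pow_one]
  have hα' : Nat.card α = 13 := by rw [Nat.card_eq_fintype_card, hα]
  have hP : MulAction.IsPretransitive (P : Subgroup G) α :=
    Cfsg.Agent.Perm.Basic.sylow_isPretransitive (f := 1) (by rw [hα', pow_one]) P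
  obtain ⟨a⟩ : Nonempty α := Fintype.card_pos_iff.1 (by omega)
  set N := Subgroup.normalizer ((P : Subgroup G) : Set G) with hN
  have hPN : (P : Subgroup G) ≤ N := Subgroup.le_normalizer
  have : MulAction.IsPretransitive N α := ⟨fun x y => by
    obtain ⟨g, hg⟩ := hP.exists_smul_eq x y
    exact ⟨⟨g, hPN g.2⟩, hg⟩⟩
  have hidx := MulAction.index_stabilizer_of_transitive N a
  rw [hα'] at hidx
  have hd : Nat.card (MulAction.stabilizer N a) ∣ 12 := by
    let φ : MulAction.stabilizer N a →* MulAut (P : Subgroup G) :=
      (P : Subgroup G).normalizerMonoidHom.comp (MulAction.stabilizer N a).subtype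
    have hinj : Function.Injective φ := by
      rw [← MonoidHom.ker_eq_bot_iff, Subgroup.eq_bot_iff_forall]
      intro g hg
      refine Subtype.ext (Subtype.ext (Subtype.ext (Equiv.ext fun x => ?_)))
      obtain ⟨q, rfl⟩ := hP.exists_smul_eq a x
      have hq := congrArg (fun f : MulAut (P : Subgroup G) => ((f q : (P : Subgroup G)) : G)) hg
      have hq' : (g : G) * q * (g : G)⁻¹ = q := hq
      have hga : (g : G) • a = a := g.2
      show (g : G) • (q : G) • a = (q : G) • a
      nth_rewrite 2 [← hq']
      rw [mul_smul, mul_smul, inv_smul_eq_iff.2 hga.symm]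
    have := Subgroup.card_dvd_of_injective φ hinj
    have hcyc : IsCyclic (P : Subgroup G) := isCyclic_of_prime_card hcardP
    rw [IsCyclic.card_mulAut, hcardP] at this
    exact this.trans (by rw [Nat.totient_prime (by norm_num)])
  have hNc : Nat.card N = Nat.card (MulAction.stabilizer N a) * 13 := by
    rw [← (MulAction.stabilizer N a).card_mul_index, hidx]
  have hs := card_sylow_modEq_one 13 G
  rw [P.card_eq_index_normalizer] at hs
  change N.index ≡ 1 [MOD 13] at hs
  have hmul := N.card_mul_index
  rw [hNc, hG] at hmul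
  have : Nat.card (MulAction.stabilizer N a) ≤ 12 := Nat.le_of_dvd (by norm_num) hd
  set i := N.index with hi
  interval_cases (Nat.card (MulAction.stabilizer N a)) <;>
    simp [Nat.ModEq] at hs hd hmul <;> omega

end Cfsg.Agent.S0710
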