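import Cfsg.Statements.S0711
import Cfsg.Agent.Lib.Perm.Agree

set_option autoImplicit false
open Cfsg

namespace Cfsg.Agent.S0711

/-- For a permutation and `j` no larger than its support, a set of `j` moved points with at most
one of them leaving the set. -/
theorem exists_chain {α : Type*} [Fintype α] [DecidableEq α] (g : Equiv.Perm α) :
    ∀ j ≤ g.support.card, ∃ T : Finset α, T ⊆ g.support ∧ T.card = j ∧
      (T.filter fun a => g a ∉ T).card ≤ 1 := by
  intro j
  induction j with
  | zero => exact fun _ => ⟨∅, by simp, rfl, by simp⟩
  | succ j ih =>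
    intro hj
    obtain ⟨T, hTs, hTc, hT⟩ := ih (by omega)
    by_cases hex : ∃ a ∈ T, g a ∉ T
    · obtain ⟨a, ha, hga⟩ := hex
      refine ⟨insert (g a) T, ?_, by rw [Finset.card_insert_of_notMem hga, hTc], ?_⟩
      · exact Finset.insert_subset (Equiv.Perm.apply_mem_support.2 (hTs ha)) hTs
      · refine le_trans (Finset.card_le_card (t := {g a}) fun b hb => ?_) (Finset.card_singleton _).le
        simp only [Finset.mem_filter, Finset.mem_insert, not_or] at hb
        rw [Finset.mem_singleton]
        refine hb.1.resolve_right fun hbT => hb.2.1 ?_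
        rw [Finset.card_le_one.1 hT b (by simp [hbT, hb.2.2]) a (by simp [ha, hga])]
    · push Not at hex
      obtain ⟨b, hb, hbT⟩ := Finset.exists_mem_notMem_of_card_lt_card (by omega : T.card < g.support.card)
      refine ⟨insert b T, Finset.insert_subset hb hTs,
        by rw [Finset.card_insert_of_notMem hbT, hTc], ?_⟩
      refine le_trans (Finset.card_le_card (t := {b}) fun x hx => ?_) (Finset.card_singleton _).le
      simp only [Finset.mem_filter, Finset.mem_insert, not_or] at hx
      rw [Finset.mem_singleton]
      exact hx.1.resolve_right fun hxT => hx.2.2 (hex x hxT)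

theorem inv_self_apply {α : Type*} (σ : Equiv.Perm α) (x : α) : σ⁻¹ (σ x) = x :=
  σ.symm_apply_apply x

/-- The agreement bound. -/
theorem agree_fix {α : Type*} [Fintype α] [DecidableEq α] (g x : Equiv.Perm α) (T : Finset α)
    (hx : ∀ a ∈ T, x a = a) : ∀ a ∈ T, g a ∈ T → (g⁻¹ * (x * g * x⁻¹)) a = a := by
  intro a ha hga
  simp only [Equiv.Perm.coe_mul, Function.comp_apply]
  rw [show x⁻¹ a = a from Equiv.Perm.inv_eq_iff_eq.2 (hx a ha).symm, hx _ hga]
  exact g.symm_apply_apply a

theorem alternating_le {α : Type*} [Fintype α] [DecidableEq α] (G : Subgroup (Equiv.Perm α))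
    {k : ℕ} (hk : 3 ≤ k) (hkn : k ≤ Fintype.card α)
    (hG : MulAction.IsMultiplyPretransitive G α k) :
    ∀ m : ℕ, ∀ g : Equiv.Perm α, g ∈ G → g ≠ 1 → g.support.card = m → m < 2 * k - 2 →
      alternatingGroup α ≤ G := by
  classical
  have hkn' : k ≤ Nat.card α := by rwa [Nat.card_eq_fintype_card]
  intro m
  induction m using Nat.strongRecOn with
  | ind m ih =>
    intro g hg hg1 hm hlt
    rcases Nat.lt_or_ge k m with hkm | hmk
    · -- a conjugate agreeing with g on many points
      obtain ⟨T, hTs, hTc, hTex⟩ := exists_chain g (k - 1) (by omega)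
      have hmn : m ≤ Fintype.card α := hm ▸ Finset.card_le_univ _
      have hout : ∀ c, ∀ a b : α, a ∉ T → b ∉ T → c = insert a T →
          ∃ x : G, (∀ u ∈ T, (x : Equiv.Perm α) u = u) ∧ (x : Equiv.Perm α) a = b := by
        intro c a b ha hb hc
        obtain ⟨x, hx⟩ := Cfsg.Agent.Perm.Agree.exists_smul_eq hkn' hG c
          (by rw [hc, Finset.card_insert_of_notMem ha]; omega) (fun z => if z = a then b else z) (by
            intro u hu v hv huv
            simp only at huv
            simp only [hc, Finset.coe_insert, Set.mem_insert_iff, Finset.mem_coe] at hu hv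
            grind)
        refine ⟨x, fun u hu => ?_, ?_⟩
        · have := hx u (hc ▸ Finset.mem_insert_of_mem hu)
          rw [if_neg (fun h : u = a => ha (h ▸ hu))] at this
          exact this
        · have := hx a (hc ▸ Finset.mem_insert_self a T)
          rwa [if_pos rfl] at this
      rcases Nat.lt_or_ge m (Fintype.card α) with hmn' | hmn'
      swap
      · -- everything is moved: a point stabiliser has a smaller element
        obtain ⟨a, ha⟩ : (g.support \ T).Nonempty := by
          rw [← Finset.card_pos, Finset.card_sdiff_of_subset hTs]; omega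
        obtain ⟨b, hb, hba⟩ : ∃ b ∈ g.support \ T, b ≠ a :=
          Finset.exists_mem_ne (by rw [Finset.card_sdiff_of_subset hTs]; omega) a
        rw [Finset.mem_sdiff] at ha hb
        obtain ⟨x, hxT, hxa⟩ := hout _ a b ha.2 hb.2 rfl
        have hle : (x : Equiv.Perm α).support ⊆ Tᶜ := fun z hz => Finset.mem_compl.2 fun h =>
          Equiv.Perm.mem_support.1 hz (hxT z h)
        have h1 := Finset.card_le_card hle
        rw [Finset.card_compl] at h1
        refine ih (x : Equiv.Perm α).support.card (by omega) _ x.2 (fun h => hba ?_) rfl (by omega)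
        rw [← hxa, h]; rfl
      -- the count
      have count : ∀ (x : G) (A : Finset α), (∀ u ∈ T, (x : Equiv.Perm α) u = u) →
          A ⊆ T → (∀ u ∈ A, g u ∈ T) → T.card + A.card + 1 ≤
            (g.support ∩ ((x : Equiv.Perm α) * g * (x : Equiv.Perm α)⁻¹).support).card + A.card + 1 ∧
          (g⁻¹ * ((x : Equiv.Perm α) * g * (x : Equiv.Perm α)⁻¹)).support.card + A.card +
            (g.support ∩ ((x : Equiv.Perm α) * g * (x : Equiv.Perm α)⁻¹).support).card ≤ 2 * m := by
        intro x A hxT hA hgA
        set h := (x : Equiv.Perm α) * g * (x : Equiv.Perm α)⁻¹ with hh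
        have hsupp : h.support = g.support.image (x : Equiv.Perm α) := by
          rw [hh, Equiv.Perm.support_conj, Finset.map_eq_image]; rfl
        have hsub : (g⁻¹ * h).support ⊆ (g.support ∪ h.support) \ A := by
          intro z hz
          rw [Finset.mem_sdiff]
          refine ⟨?_, fun hzA => ?_⟩
          · have := Equiv.Perm.support_mul_le g⁻¹ h hz
            rwa [Equiv.Perm.support_inv] at this
          · exact Equiv.Perm.mem_support.1 hz (agree_fix g x T hxT z (hA hzA) (hgA z hzA))
        have hTh : T ⊆ g.support ∩ h.support := fun z hz => Finset.mem_inter.2 ⟨hTs hz, by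
          rw [hsupp]; exact Finset.mem_image.2 ⟨z, hTs hz, hxT z hz⟩⟩
        have hAg : A ⊆ g.support ∪ h.support := (hA.trans hTs).trans Finset.subset_union_left
        have h1 := Finset.card_le_card hsub
        rw [Finset.card_sdiff_of_subset hAg] at h1
        have h2 := Finset.card_union_add_card_inter g.support h.support
        have h3 := Finset.card_le_card hTh
        have h4 : h.support.card = m := by
          rw [hsupp, Finset.card_image_of_injective _ (Equiv.injective _), hm]
        have h5 := Finset.card_le_card hAg
        constructor <;> omega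
      by_cases hclosed : ∀ u ∈ T, g u ∈ T
      · obtain ⟨a, ha⟩ : (g.support \ T).Nonempty := by
          rw [← Finset.card_pos, Finset.card_sdiff_of_subset hTs]; omega
        rw [Finset.mem_sdiff] at ha
        obtain ⟨b, hb⟩ : ∃ b, b ∉ g.support := by
          by_contra hcon
          push Not at hcon
          have := Finset.card_le_card (s := Finset.univ) (t := g.support) fun z _ => hcon z
          rw [Finset.card_univ] at this
          omega
        obtain ⟨x, hxT, hxa⟩ := hout _ a b ha.2 (fun h => hb (hTs h)) rfl
        obtain ⟨h1, h2⟩ := count x T hxT (subset_refl T) hclosed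
        refine ih _ (by omega) _ (mul_mem (inv_mem hg) (mul_mem (mul_mem x.2 hg) (inv_mem x.2)))
          (fun h => hb ?_) rfl (by omega)
        rw [inv_mul_eq_one] at h
        rw [h, Equiv.Perm.support_conj, Finset.map_eq_image, Finset.mem_image]
        exact ⟨a, ha.1, hxa⟩
      · push Not at hclosed
        obtain ⟨u, hu, hgu⟩ := hclosed
        have hgus : g u ∈ g.support := Equiv.Perm.apply_mem_support.2 (hTs hu)
        obtain ⟨b, hb, hba⟩ : ∃ b ∈ g.support \ T, b ≠ g u :=
          Finset.exists_mem_ne (by rw [Finset.card_sdiff_of_subset hTs]; omega) (g u)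
        rw [Finset.mem_sdiff] at hb
        obtain ⟨x, hxT, hxa⟩ := hout _ (g u) b hgu hb.2 rfl
        obtain ⟨h1, h2⟩ := count x (T.erase u) hxT (Finset.erase_subset _ _) fun v hv => by
          by_contra hgv
          rw [Finset.mem_erase] at hv
          exact hv.1 (Finset.card_le_one.1 hTex v (by simp [hv.2, hgv]) u (by simp [hu, hgu]))
        rw [Finset.card_erase_of_mem hu] at h1 h2
        have h3 : insert b T ⊆ g.support ∩ ((x : Equiv.Perm α) * g * (x : Equiv.Perm α)⁻¹).support := by
          intro z hz
          rw [Equiv.Perm.support_conj, Finset.map_eq_image, Finset.mem_inter, Finset.mem_image]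
          rcases Finset.mem_insert.1 hz with rfl | hz
          · exact ⟨hb.1, g u, hgus, hxa⟩
          · exact ⟨hTs hz, z, hTs hz, hxT z hz⟩
        have h4 := Finset.card_le_card h3
        rw [Finset.card_insert_of_notMem hb.2] at h4
        refine ih _ (by omega) _ (mul_mem (inv_mem hg) (mul_mem (mul_mem x.2 hg) (inv_mem x.2)))
          (fun h => hba ?_) rfl (by omega)
        rw [inv_mul_eq_one] at h
        have h5 : g u = ((x : Equiv.Perm α) * g * (x : Equiv.Perm α)⁻¹) u :=
          congrArg (fun σ : Equiv.Perm α => σ u) h
        simp only [Equiv.Perm.coe_mul, Function.comp_apply] at h5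
        rw [show (x : Equiv.Perm α)⁻¹ u = u from Equiv.Perm.inv_eq_iff_eq.2 (hxT u hu).symm, hxa] at h5
        exact h5.symm
    · -- all conjugates of g lie in G
      rcases Nat.lt_or_ge (Fintype.card α) 5 with h5 | h5
      · have : MulAction.IsMultiplyPretransitive G α (Nat.card α - 2) :=
          MulAction.isMultiplyPretransitive_of_le (n := k) (by rw [Nat.card_eq_fintype_card]; omega) hkn'
        exact IsMultiplyPretransitive.alternatingGroup_le α G this
      · have hconj : ∀ σ : Equiv.Perm α, σ * g * σ⁻¹ ∈ G := by
          intro σ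
          obtain ⟨x, hx⟩ := Cfsg.Agent.Perm.Agree.exists_smul_eq hkn' hG g.support (by omega) σ
            σ.injective.injOn
          have : σ * g * σ⁻¹ = (x : Equiv.Perm α) * g * (x : Equiv.Perm α)⁻¹ := by
            refine Equiv.ext fun z => ?_
            obtain ⟨u, rfl⟩ := (x : Equiv.Perm α).surjective z
            simp only [Equiv.Perm.coe_mul, Function.comp_apply, inv_self_apply]
            by_cases hu : u ∈ g.support
            · rw [show (x : Equiv.Perm α) u = σ u from hx u hu, inv_self_apply,
                show (x : Equiv.Perm α) (g u) = σ (g u) from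
                  hx _ (Equiv.Perm.apply_mem_support.2 hu)]
            · rw [Equiv.Perm.notMem_support.1 hu]
              have hu2 : σ⁻¹ ((x : Equiv.Perm α) u) ∉ g.support := fun hv => hu (by
                have h2 : (x : Equiv.Perm α) (σ⁻¹ ((x : Equiv.Perm α) u)) =
                    (x : Equiv.Perm α) u := (hx _ hv).trans (σ.apply_symm_apply _)
                rwa [(x : Equiv.Perm α).injective h2] at hv)
              rw [Equiv.Perm.notMem_support.1 hu2]
              exact σ.apply_symm_apply _
          rw [this]
          exact mul_mem (mul_mem x.2 hg) (inv_mem x.2)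
        have hN : Subgroup.normalClosure ({g} : Set (Equiv.Perm α)) ≤ G := by
          refine (Subgroup.closure_le G).2 fun z hz => ?_
          obtain ⟨u, hu, hc⟩ := Group.mem_conjugatesOfSet_iff.1 hz
          rw [Set.mem_singleton_iff] at hu
          subst hu
          obtain ⟨c, rfl⟩ := isConj_iff.1 hc
          exact hconj c
        refine le_trans (Cfsg.Agent.Perm.Agree.alternatingGroup_le_of_normal h5 _ fun h => hg1 ?_) hN
        have := Subgroup.subset_normalClosure (Set.mem_singleton g)
        rw [h] at this
        exact Subgroup.mem_bot.1 this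

/-- A `k`-transitive permutation group (`k ≥ 3`) with a non-identity element of support smaller than `2k - 2` contains a non-identity element of support at most 3, and therefore contains the alternating group. -/
theorem result {α : Type*} [Fintype α] [DecidableEq α] (G : Subgroup (Equiv.Perm α)) {k : ℕ} (hk : 3 ≤ k) (hkn : k ≤ Fintype.card α) (hG : MulAction.IsMultiplyPretransitive G α k) (g : Equiv.Perm α) (hg : g ∈ G) (hg1 : g ≠ 1) (hsupp : g.support.card < 2 * k - 2) : (∃ h : Equiv.Perm α, h ∈ G ∧ h ≠ 1 ∧ h.support.card ≤ 3) ∧ alternatingGroup α ≤ G := by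
  classical
  have key := alternating_le G hk hkn hG g.support.card g hg hg1 rfl hsupp
  refine ⟨?_, key⟩
  obtain ⟨a, b, c, hab, hac, hbc⟩ := Fintype.two_lt_card_iff.1 (by omega : 2 < Fintype.card α)
  have h3 := Equiv.Perm.isThreeCycle_swap_mul_swap_same hab hac hbc
  refine ⟨_, key h3.mem_alternatingGroup, fun h => ?_, h3.card_support.le⟩
  have := h3.card_support
  rw [h, Equiv.Perm.support_one] at this
  simp at this

end Cfsg.Agent.S0711
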