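import Cfsg.Statements.S0712
import Mathlib

set_option autoImplicit false
open Cfsg

namespace Cfsg.Agent.S0712

/-- Jordan: a primitive group in which the pointwise stabiliser of a set `s` is doubly transitive on the complement of `s` (which has at least 2 points) is `(|s| + 2)`-transitive. -/
theorem result {α : Type*} [Fintype α] [DecidableEq α] (G : Subgroup (Equiv.Perm α)) (hG : MulAction.IsPreprimitive G α) (s : Set α) {m : ℕ} (hsm : s.ncard = m) (hm : m + 2 ≤ Fintype.card α) (h2 : MulAction.IsMultiplyPretransitive (fixingSubgroup G s) (SubMulAction.ofFixingSubgroup G s) 2) : MulAction.IsMultiplyPretransitive G α (m + 2) := by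
  classical
  rcases Nat.eq_zero_or_pos m with rfl | hm0
  · have hs : s = ∅ := (Set.ncard_eq_zero (Set.toFinite s)).1 hsm
    subst hs
    rw [MulAction.is_two_pretransitive_iff] at h2 ⊢
    intro a b c d hab hcd
    obtain ⟨g, h1, h1'⟩ := h2 (a := ⟨a, by simp [SubMulAction.mem_ofFixingSubgroup_iff]⟩)
      (b := ⟨b, by simp [SubMulAction.mem_ofFixingSubgroup_iff]⟩)
      (c := ⟨c, by simp [SubMulAction.mem_ofFixingSubgroup_iff]⟩)
      (d := ⟨d, by simp [SubMulAction.mem_ofFixingSubgroup_iff]⟩)
      (fun h => hab (congrArg Subtype.val h)) (fun h => hcd (congrArg Subtype.val h))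
    exact ⟨g, congrArg Subtype.val h1, congrArg Subtype.val h1'⟩
  obtain ⟨n, rfl⟩ : ∃ n, m = n + 1 := ⟨m - 1, by omega⟩
  have hprim := MulAction.isPreprimitive_of_is_two_pretransitive h2
  have hM := hG.isMultiplyPreprimitive hsm (by rw [Nat.card_eq_fintype_card]; omega) hprim
  have hm' : MulAction.IsMultiplyPretransitive G α (n + 1) :=
    MulAction.isMultiplyPretransitive_of_le' (n := n + 2) (by omega)
      (by rw [ENat.card_eq_coe_fintype_card]; exact_mod_cast (by omega : n + 2 ≤ Fintype.card α))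
  let f : Fin (n + 1) ↪ α :=
    (Finset.equivFinOfCardEq (s := s.toFinset)
      (by rw [← Set.ncard_eq_toFinset_card']; exact hsm)).symm.toEmbedding.trans
      (Function.Embedding.subtype _)
  have hf : ∀ x, x ∈ s ↔ ∃ i, f i = x := by
    intro x
    constructor
    · intro hx
      refine ⟨Finset.equivFinOfCardEq (by rw [← Set.ncard_eq_toFinset_card']; exact hsm) ⟨x, Set.mem_toFinset.2 hx⟩, ?_⟩
      simp [f]
    · rintro ⟨i, rfl⟩
      exact Set.mem_toFinset.1 (Subtype.prop _)
  -- move the first n + 1 points to s, then use the pointwise stabiliser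
  refine ⟨fun e e' => ?_⟩
  have key : ∀ d : Fin (n + 1 + 2) ↪ α, ∃ (g : G)
      (r : Fin 2 ↪ SubMulAction.ofFixingSubgroup G s),
      (∀ i, g • d (Fin.castAdd 2 i) = f i) ∧ ∀ j, g • d (Fin.natAdd (n + 1) j) = (r j : α) := by
    intro d
    obtain ⟨g, hg⟩ := hm'.exists_smul_eq ((Fin.castAddEmb 2).trans d) f
    have hgi : ∀ i, g • d (Fin.castAdd 2 i) = f i := fun i =>
      congrArg (fun u : Fin (n + 1) ↪ α => u i) hg
    have hout : ∀ j, g • d (Fin.natAdd (n + 1) j) ∈ SubMulAction.ofFixingSubgroup G s := by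
      intro j hj
      obtain ⟨i, hi⟩ := (hf _).1 hj
      rw [← hgi i] at hi
      have := congrArg Fin.val (d.injective (MulAction.injective g hi))
      simp at this
      omega
    refine ⟨g, ⟨fun j => ⟨_, hout j⟩, fun j j' hjj => ?_⟩, hgi, fun j => rfl⟩
    have := d.injective (MulAction.injective g (congrArg Subtype.val hjj))
    exact Fin.natAdd_injective _ _ this
  obtain ⟨g, r, hg1, hg2⟩ := key e
  obtain ⟨g', r', hg1', hg2'⟩ := key e'
  obtain ⟨h, hh⟩ := h2.exists_smul_eq r r'
  refine ⟨g'⁻¹ * h * g, Function.Embedding.ext fun i => ?_⟩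
  show (g'⁻¹ * (h : G) * g) • e i = e' i
  rw [mul_smul, mul_smul, inv_smul_eq_iff]
  induction i using Fin.addCases with
  | left i => rw [hg1, hg1']; exact (mem_fixingSubgroup_iff G).1 h.2 _ ((hf _).2 ⟨i, rfl⟩)
  | right j =>
    rw [hg2, hg2']
    exact congrArg (fun u : Fin 2 ↪ SubMulAction.ofFixingSubgroup G s => ((u j) : α)) hh

end Cfsg.Agent.S0712
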