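import Cfsg.Statements.S0714
import Mathlib

set_option autoImplicit false
open Cfsg

namespace Cfsg.Agent.S0714

/-- Over any field, the permutation module of the alternating group of degree at least 5 has exactly four invariant subspaces: zero, the constant functions, the functions with coordinate sum zero, and everything. -/
theorem result {α : Type*} [Fintype α] [DecidableEq α] (hα : 5 ≤ Fintype.card α) {K : Type*} [Field K] (W : Subrepresentation (Cfsg.permRep K (alternatingGroup α) α)) : W.toSubmodule = ⊥ ∨ W = Cfsg.permConstants K (alternatingGroup α) α ∨ W = Cfsg.permSumZero K (alternatingGroup α) α ∨ W.toSubmodule = ⊤ := by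
  classical
  have hperm : ∀ (g : alternatingGroup α) (v : α → K) (x : α),
      Cfsg.permRep K (alternatingGroup α) α g v x = v ((g : Equiv.Perm α)⁻¹ x) :=
    fun g v x => rfl
  have hev : ∀ a b c d : α, a ≠ b → c ≠ d → Equiv.swap a b * Equiv.swap c d ∈ alternatingGroup α := by
    intro a b c d h1 h2
    rw [Equiv.Perm.mem_alternatingGroup, Equiv.Perm.sign_mul, Equiv.Perm.sign_swap h1,
      Equiv.Perm.sign_swap h2]
    decide
  by_cases hc : ∀ v ∈ W.toSubmodule, ∀ x y : α, v x = v y
  · by_cases h0 : W.toSubmodule = ⊥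
    · exact Or.inl h0
    right; left
    obtain ⟨v, hv, hv0⟩ := Submodule.exists_mem_ne_zero_of_ne_bot h0
    obtain ⟨a⟩ : Nonempty α := Fintype.card_pos_iff.1 (by omega)
    apply Subrepresentation.toSubmodule_injective
    show W.toSubmodule = Submodule.span K {fun _ => 1}
    refine le_antisymm (fun w hw => Submodule.mem_span_singleton.2
      ⟨w a, funext fun x => by simp [hc w hw x a]⟩) ?_
    rw [Submodule.span_singleton_le_iff_mem]
    have hva : v a ≠ 0 := fun h => hv0 (funext fun x => by simp [hc v hv x a, h])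
    rw [show (fun _ => (1 : K)) = (v a)⁻¹ • v from funext fun x => by simp [hc v hv x a, hva]]
    exact W.toSubmodule.smul_mem _ hv
  push Not at hc
  obtain ⟨v, hv, a, b, hab⟩ := hc
  have hab' : a ≠ b := fun h => hab (congrArg v h)
  -- three further points
  obtain ⟨c, hca, hcb⟩ : ∃ c, c ≠ a ∧ c ≠ b := by
    obtain ⟨c, hc⟩ := Finset.card_pos.1 (by
      rw [Finset.card_sdiff, Finset.inter_univ, Finset.card_univ]
      have := Finset.card_le_two (a := a) (b := b)
      omega : 0 < (Finset.univ \ {a, b} : Finset α).card)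
    simp only [Finset.mem_sdiff, Finset.mem_univ, Finset.mem_insert, Finset.mem_singleton,
      true_and, not_or] at hc
    exact ⟨c, hc⟩
  obtain ⟨d, e, hde, hda, hdb, hdc, hea, heb, hec⟩ : ∃ d e, d ≠ e ∧ d ≠ a ∧ d ≠ b ∧ d ≠ c ∧
      e ≠ a ∧ e ≠ b ∧ e ≠ c := by
    obtain ⟨d, hd, e, he, hde⟩ := Finset.one_lt_card.1 (by
      rw [Finset.card_sdiff, Finset.inter_univ, Finset.card_univ]
      have := Finset.card_le_three (a := a) (b := b) (c := c)
      omega : 1 < (Finset.univ \ {a, b, c} : Finset α).card)
    simp only [Finset.mem_sdiff, Finset.mem_univ, Finset.mem_insert, Finset.mem_singleton,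
      true_and, not_or] at hd he
    exact ⟨d, e, hde, hd.1, hd.2.1, hd.2.2, he.1, he.2.1, he.2.2⟩
  let g : alternatingGroup α := ⟨_, hev a b b c hab' (Ne.symm hcb)⟩
  set u := Cfsg.permRep K (alternatingGroup α) α g v - v with hu
  have huW : u ∈ W.toSubmodule := Submodule.sub_mem _ (W.apply_mem_toSubmodule g hv) hv
  have hux : ∀ x, u x = v (Equiv.swap b c (Equiv.swap a b x)) - v x := fun x => by
    rw [hu, Pi.sub_apply, hperm]
    simp [g, mul_inv_rev]
  have hu0 : ∀ x, x ≠ a → x ≠ b → x ≠ c → u x = 0 := by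
    intro x h1 h2 h3
    rw [hux, Equiv.swap_apply_of_ne_of_ne h1 h2, Equiv.swap_apply_of_ne_of_ne h2 h3, sub_self]
  have hub : u b = v a - v b := by
    rw [hux, Equiv.swap_apply_right, Equiv.swap_apply_of_ne_of_ne hab' (Ne.symm hca)]
  -- an elementary vector
  obtain ⟨p, q, k, hpq, hk, hkW⟩ : ∃ (p q : α) (k : K), p ≠ q ∧ k ≠ 0 ∧
      k • (Pi.single p (1 : K) - Pi.single q 1) ∈ W.toSubmodule := by
    by_cases h1 : u a = u b
    · by_cases h2 : u b = u c
      · -- all three coordinates agree
        refine ⟨c, d, u c, Ne.symm hdc, by rw [← h2, hub]; exact sub_ne_zero.2 hab, ?_⟩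
        let h : alternatingGroup α := ⟨_, hev a b c d hab' (Ne.symm hdc)⟩
        convert! Submodule.sub_mem _ huW (W.apply_mem_toSubmodule h huW) using 1
        funext x
        rw [Pi.sub_apply, hperm]
        simp only [h, mul_inv_rev, Equiv.swap_inv, Equiv.Perm.mul_apply, Pi.smul_apply, Pi.sub_apply,
          smul_eq_mul]
        have hud := hu0 d hda hdb hdc
        rcases eq_or_ne x a with rfl | hxa
        · simp [hab', Ne.symm hca, Ne.symm hda, hcb, Ne.symm hcb, hdb, Ne.symm hdb,
            Equiv.swap_apply_of_ne_of_ne, h1]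
        rcases eq_or_ne x b with rfl | hxb
        · simp [Ne.symm hcb, Ne.symm hdb, Equiv.swap_apply_of_ne_of_ne, hca, hda, Ne.symm hca,
            Ne.symm hda, h1]
        rcases eq_or_ne x c with rfl | hxc
        · simp [Ne.symm hdc, Equiv.swap_apply_of_ne_of_ne, hca, hcb, hud]
        rcases eq_or_ne x d with rfl | hxd
        · simp [hdc, Equiv.swap_apply_of_ne_of_ne, hda, hdb, hud]
        · simp [Equiv.swap_apply_of_ne_of_ne, hxa, hxb, hxc, hxd]
      · refine ⟨b, c, u b - u c, Ne.symm hcb, sub_ne_zero.2 h2, ?_⟩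
        let h : alternatingGroup α := ⟨_, hev b c d e (Ne.symm hcb) hde⟩
        convert! Submodule.sub_mem _ huW (W.apply_mem_toSubmodule h huW) using 1
        funext x
        rw [Pi.sub_apply, hperm]
        simp only [h, mul_inv_rev, Equiv.swap_inv, Equiv.Perm.mul_apply, Pi.smul_apply, Pi.sub_apply,
          smul_eq_mul]
        have hud := hu0 d hda hdb hdc
        have hue := hu0 e hea heb hec
        rcases eq_or_ne x b with rfl | hxb
        · simp [Ne.symm hcb, Ne.symm hdb, Ne.symm heb, hdc, Ne.symm hdc, hec, Ne.symm hec,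
            Equiv.swap_apply_of_ne_of_ne]
        rcases eq_or_ne x c with rfl | hxc
        · simp [hcb, Ne.symm hdb, Ne.symm heb, Ne.symm hdc, Ne.symm hec, Equiv.swap_apply_of_ne_of_ne]
        rcases eq_or_ne x d with rfl | hxd
        · simp [hdb, hdc, heb, hec, Equiv.swap_apply_of_ne_of_ne, hud, hue]
        rcases eq_or_ne x e with rfl | hxe
        · simp [hdb, hdc, heb, hec, Equiv.swap_apply_of_ne_of_ne, hud, hue]
        · simp [Equiv.swap_apply_of_ne_of_ne, hxb, hxc, hxd, hxe]
    · refine ⟨a, b, u a - u b, hab', sub_ne_zero.2 h1, ?_⟩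
      let h : alternatingGroup α := ⟨_, hev a b d e hab' hde⟩
      convert! Submodule.sub_mem _ huW (W.apply_mem_toSubmodule h huW) using 1
      funext x
      rw [Pi.sub_apply, hperm]
      simp only [h, mul_inv_rev, Equiv.swap_inv, Equiv.Perm.mul_apply, Pi.smul_apply, Pi.sub_apply,
        smul_eq_mul]
      have hud := hu0 d hda hdb hdc
      have hue := hu0 e hea heb hec
      rcases eq_or_ne x a with rfl | hxa
      · simp [hab', hda, Ne.symm hda, hdb, Ne.symm hdb, hea, Ne.symm hea, heb, Ne.symm heb,
          Equiv.swap_apply_of_ne_of_ne]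
      rcases eq_or_ne x b with rfl | hxb
      · simp [hab'.symm, hda, Ne.symm hda, hdb, Ne.symm hdb, hea, Ne.symm hea, heb, Ne.symm heb,
          Equiv.swap_apply_of_ne_of_ne]
      rcases eq_or_ne x d with rfl | hxd
      · simp [hda, hdb, hea, heb, Equiv.swap_apply_of_ne_of_ne, hud, hue]
      rcases eq_or_ne x e with rfl | hxe
      · simp [hda, hdb, hea, heb, Equiv.swap_apply_of_ne_of_ne, hud, hue]
      · simp [Equiv.swap_apply_of_ne_of_ne, hxa, hxb, hxd, hxe]
  have hpqW : Pi.single p (1 : K) - Pi.single q 1 ∈ W.toSubmodule := by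
    have := W.toSubmodule.smul_mem k⁻¹ hkW
    rwa [inv_smul_smul₀ hk] at this
  -- two-transitivity
  haveI h2 : MulAction.IsMultiplyPretransitive (alternatingGroup α) α 2 := by
    haveI := alternatingGroup.isMultiplyPretransitive α
    exact MulAction.isMultiplyPretransitive_of_le (n := Nat.card α - 2)
      (by rw [Nat.card_eq_fintype_card]; omega) (Nat.sub_le _ _)
  have hall : ∀ x y, Pi.single x (1 : K) - Pi.single y 1 ∈ W.toSubmodule := by
    intro x y
    by_cases hxy : x = y
    · simp [hxy]
    obtain ⟨h, hp, hq⟩ := MulAction.is_two_pretransitive_iff.1 h2 hpq hxy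
    convert! W.apply_mem_toSubmodule h hpqW using 1
    funext z
    show _ = (Pi.single p (1 : K) - Pi.single q 1 : α → K) (h⁻¹ • z)
    simp only [Pi.sub_apply, Pi.single_apply, inv_smul_eq_iff, hp, hq]
  have hsz : (Cfsg.permSumZero K (alternatingGroup α) α).toSubmodule ≤ W.toSubmodule := by
    intro w hw
    have hw' : ∑ x, w x = 0 := hw
    have : w = ∑ x, w x • (Pi.single x (1 : K) - Pi.single a 1) := by
      funext z
      simp [Finset.sum_apply, Pi.single_apply, mul_sub, Finset.sum_sub_distrib, hw']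
    rw [this]
    exact Submodule.sum_mem _ fun x _ => W.toSubmodule.smul_mem _ (hall x a)
  by_cases hex : ∃ w ∈ W.toSubmodule, ∑ x, w x ≠ 0
  · right; right; right
    obtain ⟨w, hw, hs⟩ := hex
    rw [eq_top_iff]
    intro z _
    set r := (∑ x, z x) / (∑ x, w x)
    rw [show z = (z - r • w) + r • w by abel]
    refine Submodule.add_mem _ (hsz ?_) (W.toSubmodule.smul_mem _ hw)
    show ∑ x, (z - r • w) x = 0
    simp only [Pi.sub_apply, Pi.smul_apply, smul_eq_mul, Finset.sum_sub_distrib, ← Finset.mul_sum, r,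
      div_mul_cancel₀ _ hs, sub_self]
  · right; right; left
    push Not at hex
    exact Subrepresentation.toSubmodule_injective (le_antisymm (fun w hw => hex w hw) hsz)

end Cfsg.Agent.S0714
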