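import Cfsg.Statements.S0719
import Cfsg.Agent.Lib.Perm.Subdegrees

set_option autoImplicit false
open Cfsg

namespace Cfsg.Agent.S0719

open Module Cfsg.Agent.Characters Cfsg.Agent.Perm.PermModule Cfsg.Agent.Perm.CentraliserRing

/-- The trace of an isotypic operator. -/
theorem trace_isoOp {G : Type*} [Group G] [Fintype G] {Ω : Type*} [Fintype Ω] [MulAction G Ω]
    (χ : G → ℂ) : LinearMap.trace ℂ (Ω → ℂ) (isoOp Ω χ) =
      χ 1 * Cfsg.classInner (permChar G Ω) χ := by
  rw [isoOp, map_smul, trace_sum_smul, character_permRep, classInner_def, smul_eq_mul, mul_assoc]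
  congr 2
  exact Finset.sum_congr rfl fun g _ => mul_comm _ _

/-- The arithmetic of the two eigenvalues. -/
theorem arith {m d : ℕ} (hm : 2 ≤ m) {R S : ℤ} (h1 : (d : ℤ) + ((m : ℤ) - 1) * R + m * S = 0)
    (h2 : (d : ℤ) ^ 2 + ((m : ℤ) - 1) * R ^ 2 + m * S ^ 2 = 2 * m * d) (hd1 : 2 ≤ d)
    (hd2 : d + 3 ≤ 2 * m) :
    (m : ℤ) = 2 * R ^ 2 + 2 * R + 1 ∧ (d : ℤ) = (R + 1) * (2 * R + 1) := by
  obtain ⟨t, rfl⟩ : ∃ t, S = -R - t := ⟨-R - S, by ring⟩
  have hd : (d : ℤ) = R + t * m := by linarith
  have hq : 2 * R ^ 2 + (4 * t - 2) * R + t ^ 2 + m * (t ^ 2 - 2 * t) = 0 := by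
    have hm0 : (m : ℤ) ≠ 0 := by omega
    apply mul_left_cancel₀ hm0
    rw [hd] at h2
    linear_combination h2
  have ht : t = 0 ∨ t = 1 ∨ t = 2 := by
    by_contra h
    have h3 : 3 ≤ t ^ 2 - 2 * t := by
      rcases (by omega : t ≤ -1 ∨ 3 ≤ t) with h' | h' <;> nlinarith
    have hm' : (2 : ℤ) ≤ m := by omega
    nlinarith [sq_nonneg (2 * R + 2 * t - 1)]
  rcases ht with rfl | rfl | rfl
  · exfalso
    have hR : R = d := by linarith
    subst hR
    have : 2 * (d : ℤ) * ((d : ℤ) - 1) = 0 := by linear_combination hq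
    rcases mul_eq_zero.1 this with h | h <;> omega
  · refine ⟨by linarith, ?_⟩
    linear_combination hd - hq
  · exfalso
    have : (R + 1) * (R + 2) = 0 := by linarith
    rcases mul_eq_zero.1 this with h | h <;> omega

/-- Groups of Wielandt type: if a primitive group of degree `2m` has rank 3 and permutation character `1 + χ₁ + χ₂` with irreducible `χ₁, χ₂` of degrees `m - 1` and `m`, then `m = 2a² + 2a + 1` for some positive integer `a` and the two non-trivial subdegrees are `a(2a+1)` and `(a+1)(2a+1)`. -/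
theorem result {G : Type*} [Group G] [Fintype G] {Ω : Type*} [Fintype Ω] [MulAction G Ω] (hprim : MulAction.IsPreprimitive G Ω) {m : ℕ} (hm : Fintype.card Ω = 2 * m) (a₀ : Ω) (hrank : Nat.card (MulAction.orbitRel.Quotient (MulAction.stabilizer G a₀) Ω) = 3) (χ₁ χ₂ : G → ℂ) (h₁ : Cfsg.IsIrrCharacter G χ₁) (h₂ : Cfsg.IsIrrCharacter G χ₂) (hπ : (fun g : G => (Nat.card (MulAction.fixedBy Ω g) : ℂ)) = fun g => 1 + χ₁ g + χ₂ g) (hd₁ : χ₁ 1 = (m : ℂ) - 1) (hd₂ : χ₂ 1 = m) : ∃ a : ℕ, 0 < a ∧ m = 2 * a ^ 2 + 2 * a + 1 ∧ ∀ b : Ω, b ≠ a₀ → Nat.card (MulAction.orbit (MulAction.stabilizer G a₀) b) = a * (2 * a + 1) ∨ Nat.card (MulAction.orbit (MulAction.stabilizer G a₀) b) = (a + 1) * (2 * a + 1) := by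
  classical
  haveI := hprim.toIsPretransitive
  haveI : Nonempty Ω := ⟨a₀⟩
  set H := MulAction.stabilizer G a₀ with hH
  set Q := MulAction.orbitRel.Quotient H Ω with hQ
  haveI := Fintype.ofFinite Q
  have hQ3 : Fintype.card Q = 3 := Nat.card_eq_fintype_card.symm.trans hrank
  have hm2 : 2 ≤ m := by
    have := Nat.card_le_card_of_surjective (Quotient.mk'' : Ω → Q) Quotient.mk''_surjective
    rw [hrank, Nat.card_eq_fintype_card, hm] at this
    omega
  haveI : Nontrivial Ω := Fintype.one_lt_card_iff_nontrivial.1 (by omega)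
  -- a point suborbit of size one is impossible
  have hsingle : ∀ b : Ω, b ≠ a₀ → Nat.card (MulAction.orbit H b) ≠ 1 := by
    intro b hb hone
    haveI := (Nat.card_eq_one_iff_unique.1 hone).1
    have hfixb : H ≤ MulAction.stabilizer G b := fun g hg =>
      congrArg Subtype.val (Subsingleton.elim
        (⟨g • b, ⟨g, hg⟩, rfl⟩ : MulAction.orbit H b) ⟨b, MulAction.mem_orbit_self b⟩)
    have hco := MulAction.IsPreprimitive.isCoatom_stabilizer_of_isPreprimitive (G := G) a₀
    obtain ⟨t, ht⟩ := MulAction.exists_smul_eq G a₀ b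
    have htop : Subgroup.normalizer (H : Set G) = ⊤ := by
      rcases eq_or_lt_of_le (Subgroup.le_normalizer : H ≤ Subgroup.normalizer (H : Set G)) with
        h | h
      · exfalso
        have hbH : MulAction.stabilizer G b = H :=
          (hco.le_iff.1 hfixb).resolve_left fun hbt => hb (by
            have htb : t • b = b := (hbt ▸ Subgroup.mem_top t : t ∈ MulAction.stabilizer G b)
            exact MulAction.injective t (htb.trans ht.symm))
        have : t ∈ Subgroup.normalizer (H : Set G) := by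
          rw [Subgroup.mem_normalizer_iff]
          intro g
          rw [← hbH]
          constructor
          · intro hg
            rw [hbH] at hg
            rw [MulAction.mem_stabilizer_iff, mul_smul, mul_smul, inv_smul_eq_iff.2 ht.symm,
              MulAction.mem_stabilizer_iff.1 hg, ht]
          · intro hg
            rw [hbH]
            rw [MulAction.mem_stabilizer_iff, mul_smul, mul_smul, inv_smul_eq_iff.2 ht.symm,
              smul_eq_iff_eq_inv_smul t, inv_smul_eq_iff.2 ht.symm] at hg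
            exact hg
        rw [← h] at this
        exact hb (ht.symm.trans this)
      · exact hco.2 _ h
    have hall : ∀ g ∈ H, ∀ x : Ω, g • x = x := by
      intro g hg x
      obtain ⟨u, rfl⟩ := MulAction.exists_smul_eq G a₀ x
      have h1 : u⁻¹ * g * u ∈ H := by
        have hu : u⁻¹ ∈ Subgroup.normalizer (H : Set G) := htop ▸ Subgroup.mem_top _
        simpa using (Subgroup.mem_normalizer_iff.1 hu g).1 hg
      rw [hH, MulAction.mem_stabilizer_iff, mul_smul, mul_smul, inv_smul_eq_iff] at h1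
      exact h1
    have hinj : Function.Injective (Quotient.mk'' : Ω → Q) := fun x y hxy => by
      obtain ⟨g, hg⟩ := (Quotient.eq''.1 hxy : x ∈ MulAction.orbit H y)
      exact hg.symm.trans (hall g g.2 y)
    have := Nat.card_le_card_of_injective _ hinj
    rw [hrank, Nat.card_eq_fintype_card, hm] at this
    omega
  have horbit_a : ∀ y ∈ MulAction.orbit H a₀, y = a₀ := by
    rintro _ ⟨g, rfl⟩
    exact g.2
  -- the other suborbit
  have hbound : ∀ b : Ω, b ≠ a₀ → 2 ≤ Nat.card (MulAction.orbit H b) ∧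
      Nat.card (MulAction.orbit H b) + 3 ≤ 2 * m := by
    intro b hb
    have hne : ∀ c : Ω, c ≠ a₀ → 2 ≤ Nat.card (MulAction.orbit H c) := by
      intro c hc
      haveI : Nonempty (MulAction.orbit H c) := ⟨⟨c, MulAction.mem_orbit_self c⟩⟩
      have := Nat.card_pos (α := MulAction.orbit H c)
      have := hsingle c hc
      omega
    refine ⟨hne b hb, ?_⟩
    obtain ⟨q, hqa, hqb⟩ : ∃ q : Q, q ≠ Quotient.mk'' a₀ ∧ q ≠ Quotient.mk'' b := by
      by_contra h
      push Not at h
      have h' : (Finset.univ : Finset Q) ⊆ {Quotient.mk'' a₀, Quotient.mk'' b} := fun q _ => by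
        by_cases hq : q = Quotient.mk'' a₀
        · simp [hq]
        · simp [h q hq]
      have := (Finset.card_le_card h').trans Finset.card_le_two
      rw [Finset.card_univ] at this
      omega
    obtain ⟨c, rfl⟩ := Quotient.mk''_surjective q
    have hca : c ≠ a₀ := fun h => hqa (h ▸ rfl)
    have := hne c hca
    have hdis : Disjoint (MulAction.orbit H b).toFinset (MulAction.orbit H c).toFinset := by
      rw [Finset.disjoint_left]
      intro y hy hy'
      rw [Set.mem_toFinset, ← MulAction.orbit_eq_iff] at hy hy'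
      apply hqb
      exact Quotient.eq''.2 (MulAction.orbit_eq_iff.1 (hy'.symm.trans hy))
    have hsub : (MulAction.orbit H b).toFinset ∪ (MulAction.orbit H c).toFinset ⊆
        Finset.univ.erase a₀ := by
      intro y hy
      refine Finset.mem_erase.2 ⟨fun hya => ?_, Finset.mem_univ _⟩
      rw [Finset.mem_union, Set.mem_toFinset, Set.mem_toFinset] at hy
      subst hya
      rcases hy with hy | hy
      · exact hb (horbit_a b (MulAction.orbit_eq_iff.1 (MulAction.orbit_eq_iff.2 hy).symm))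
      · exact hca (horbit_a c (MulAction.orbit_eq_iff.1 (MulAction.orbit_eq_iff.2 hy).symm))
    have hcard := Finset.card_le_card hsub
    rw [Finset.card_union_of_disjoint hdis, Finset.card_erase_of_mem (Finset.mem_univ _),
      Finset.card_univ, hm, ← Set.ncard_eq_toFinset_card', ← Set.ncard_eq_toFinset_card',
      ← Nat.card_coe_set_eq, ← Nat.card_coe_set_eq] at hcard
    omega
  -- all suborbits are self-paired
  have hswap : ∀ x y : Ω, ∃ g : G, g • x = y ∧ g • y = x := by
    intro x y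
    by_cases hxy : x = y
    · exact ⟨1, by rw [hxy, one_smul], by rw [hxy, one_smul]⟩
    haveI : Fact (Nat.Prime 2) := ⟨Nat.prime_two⟩
    have h2 : 2 ∣ Nat.card (MulAction.toPermHom G Ω).range := by
      have ht : MulAction.IsPretransitive (MulAction.toPermHom G Ω).range Ω :=
        ⟨fun u v => by
          obtain ⟨g, hg⟩ := MulAction.exists_smul_eq G u v
          exact ⟨⟨_, g, rfl⟩, hg⟩⟩
      rw [← (MulAction.stabilizer (MulAction.toPermHom G Ω).range a₀).index_mul_card,
        MulAction.index_stabilizer_of_transitive, Nat.card_eq_fintype_card (α := Ω), hm]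
      exact Dvd.dvd.mul_right (dvd_mul_right 2 m) _
    obtain ⟨⟨_, g, rfl⟩, hord⟩ := exists_prime_orderOf_dvd_card' 2 h2
    obtain ⟨u, hu⟩ : ∃ u : Ω, g • u ≠ u := by
      by_contra h
      push Not at h
      have h1 : MulAction.toPermHom G Ω g = 1 := Equiv.ext h
      have h' : (⟨_, g, rfl⟩ : (MulAction.toPermHom G Ω).range) = 1 := Subtype.ext h1
      rw [h', orderOf_one] at hord
      omega
    have hgg : g • g • u = u := by
      have h' := pow_orderOf_eq_one (⟨_, g, rfl⟩ : (MulAction.toPermHom G Ω).range)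
      rw [hord] at h'
      have := congrArg (fun s : (MulAction.toPermHom G Ω).range => (s : Equiv.Perm Ω) u) h'
      simpa [pow_two] using this
    by_contra hno
    push Not at hno
    -- four points in different suborbits
    have hpt : ∀ v w : Ω, ∃ z : Ω, ∃ k : G, k • v = a₀ ∧ k • w = z := fun v w => by
      obtain ⟨k, hk⟩ := MulAction.exists_smul_eq G v a₀
      exact ⟨k • w, k, hk, rfl⟩
    obtain ⟨z1, k1, hk1, hk1'⟩ := hpt x y
    obtain ⟨z2, k2, hk2, hk2'⟩ := hpt y x
    obtain ⟨z3, k3, hk3, hk3'⟩ := hpt u (g • u)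
    have hzne : ∀ {v w z : Ω} {k : G}, v ≠ w → k • v = a₀ → k • w = z →
        (Quotient.mk'' z : Q) ≠ Quotient.mk'' a₀ := by
      intro v w z k hvw hv hw he
      have := horbit_a z (Quotient.eq''.1 he)
      rw [← hw, ← hv] at this
      exact hvw (MulAction.injective k this).symm
    have hzeq : ∀ {v w z v' w' z' : Ω} {k k' : G}, k • v = a₀ → k • w = z → k' • v' = a₀ →
        k' • w' = z' → (Quotient.mk'' z : Q) = Quotient.mk'' z' →
        ∃ l : G, l • v' = v ∧ l • w' = w := by
      intro v w z v' w' z' k k' hv hw hv' hw' he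
      obtain ⟨h, hh⟩ := (Quotient.eq''.1 he : z ∈ MulAction.orbit H z')
      refine ⟨k⁻¹ * (h : G) * k', ?_, ?_⟩
      · rw [mul_smul, mul_smul, hv', show (h : G) • a₀ = a₀ from h.2, ← hv, inv_smul_smul]
      · rw [mul_smul, mul_smul, hw', show (h : G) • z' = z from hh, ← hw, inv_smul_smul]
    have h12 : (Quotient.mk'' z1 : Q) ≠ Quotient.mk'' z2 := fun he => by
      obtain ⟨l, hl1, hl2⟩ := hzeq hk1 hk1' hk2 hk2' he
      exact hno l hl2 hl1
    have h13 : (Quotient.mk'' z1 : Q) ≠ Quotient.mk'' z3 := fun he => by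
      obtain ⟨l, hl1, hl2⟩ := hzeq hk1 hk1' hk3 hk3' he
      refine hno (l * g * l⁻¹) ?_ ?_
      · rw [← hl1, mul_smul, mul_smul, inv_smul_smul, hl2]
      · rw [← hl2, mul_smul, mul_smul, inv_smul_smul, hgg, hl1]
    have h23 : (Quotient.mk'' z2 : Q) ≠ Quotient.mk'' z3 := fun he => by
      obtain ⟨l, hl1, hl2⟩ := hzeq hk2 hk2' hk3 hk3' he
      refine hno (l * g * l⁻¹) ?_ ?_
      · rw [← hl2, mul_smul, mul_smul, inv_smul_smul, hgg, hl1]
      · rw [← hl1, mul_smul, mul_smul, inv_smul_smul, hl2]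
    have h4 : ({Quotient.mk'' a₀, Quotient.mk'' z1, Quotient.mk'' z2, Quotient.mk'' z3} :
        Finset Q).card = 4 := by
      have e1 := hzne hxy hk1 hk1'
      have e2 := hzne (Ne.symm hxy) hk2 hk2'
      have e3 := hzne (Ne.symm hu) hk3 hk3'
      simp [h12, h13, h23, e1.symm, e2.symm, e3.symm]
    have := Finset.card_le_univ
      ({Quotient.mk'' a₀, Quotient.mk'' z1, Quotient.mk'' z2, Quotient.mk'' z3} : Finset Q)
    omega
  -- the constituents
  have hπ' : permChar G Ω = (fun _ => 1) + χ₁ + χ₂ := hπ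
  have h21 : χ₂ ≠ fun _ => 1 := fun h => by
    rw [congrFun h 1] at hd₂
    have : m = 1 := by exact_mod_cast hd₂.symm
    omega
  have h12 : χ₁ ≠ χ₂ := fun h => by
    rw [h, hd₂] at hd₁
    exact one_ne_zero (by linear_combination hd₁ : (1 : ℂ) = 0)
  have hone : Cfsg.IsIrrCharacter G (fun _ => (1 : ℂ)) := isIrrCharacter_one
  have h11 : χ₁ ≠ fun _ => 1 := fun h => by
    have h' := classInner_permChar_one (G := G) (Ω := Ω)
    rw [hπ', classInner_add_left, classInner_add_left, h, classInner_isIrr_self hone,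
      classInner_isIrr_ne h₂ hone h21, add_zero] at h'
    exact one_ne_zero (by linear_combination h' : (1 : ℂ) = 0)
  have hin0 : Cfsg.classInner (permChar G Ω) (fun _ => 1) = 1 := classInner_permChar_one
  have hin1 : Cfsg.classInner (permChar G Ω) χ₁ = 1 := by
    rw [hπ', classInner_add_left, classInner_add_left, classInner_isIrr_self h₁,
      classInner_isIrr_ne hone h₁ (Ne.symm h11), classInner_isIrr_ne h₂ h₁ (Ne.symm h12)]
    ring
  have hin2 : Cfsg.classInner (permChar G Ω) χ₂ = 1 := by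
    rw [hπ', classInner_add_left, classInner_add_left, classInner_isIrr_self h₂,
      classInner_isIrr_ne hone h₂ (Ne.symm h21), classInner_isIrr_ne h₁ h₂ h12]
    ring
  have honly : ∀ χ, Cfsg.IsIrrCharacter G χ → Cfsg.classInner (permChar G Ω) χ ≠ 0 →
      χ = (fun _ => 1) ∨ χ = χ₁ ∨ χ = χ₂ := by
    intro χ hχ hne
    by_contra h
    push Not at h
    apply hne
    rw [hπ', classInner_add_left, classInner_add_left, classInner_isIrr_ne hone hχ (Ne.symm h.1),
      classInner_isIrr_ne h₁ hχ (Ne.symm h.2.1), classInner_isIrr_ne h₂ hχ (Ne.symm h.2.2)]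
    ring
  have hmf : IsMultFree G Ω := by
    intro χ hχ
    by_cases hne : Cfsg.classInner (permChar G Ω) χ = 0
    · exact Or.inl hne
    · rcases honly χ hχ hne with rfl | rfl | rfl
      · exact Or.inr hin0
      · exact Or.inr hin1
      · exact Or.inr hin2
  obtain ⟨U₁, hU₁, hirr₁, hc₁⟩ := exists_sub_of_ne_zero h₁ (by rw [hin1]; exact one_ne_zero)
  obtain ⟨U₂, hU₂, hirr₂, hc₂⟩ := exists_sub_of_ne_zero h₂ (by rw [hin2]; exact one_ne_zero)
  -- the main computation
  have key : ∀ b : Ω, b ≠ a₀ → ∃ R : ℤ, (m : ℤ) = 2 * R ^ 2 + 2 * R + 1 ∧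
      (Nat.card (MulAction.orbit H b) : ℤ) = (R + 1) * (2 * R + 1) := by
    intro b hb
    set d := Nat.card (MulAction.orbit H b) with hdd
    set A : Module.End ℂ (Ω → ℂ) := orbital G a₀ b with hA
    obtain ⟨r, hr⟩ := exists_scalar hmf ⟨hU₁, hirr₁⟩ (isEquivariant_orbital (G := G) a₀ b)
    obtain ⟨s, hs⟩ := exists_scalar hmf ⟨hU₂, hirr₂⟩ (isEquivariant_orbital (G := G) a₀ b)
    have hpow : ∀ (U : Submodule ℂ (Ω → ℂ)) (c : ℂ), (∀ v ∈ U, A v = c • v) →
        ∀ (k : ℕ), ∀ v ∈ U, (A ^ k) v = c ^ k • v := by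
      intro U c hc k v hv
      induction k with
      | zero => simp
      | succ k ih => rw [pow_succ', Module.End.mul_apply, ih, map_smul, hc v hv, smul_smul, pow_succ]
    have hop : ∀ k : ℕ, A ^ k = ((d : ℂ) ^ k) • isoOp Ω (fun _ : G => (1 : ℂ)) +
        r ^ k • isoOp Ω χ₁ + s ^ k • isoOp Ω χ₂ := by
      intro k
      refine ext_irr (G := G) fun U hUi v hv => ?_
      obtain ⟨hU, hirr⟩ := hUi
      haveI := hirr
      haveI : Nontrivial U := nontrivial_of_isIrreducible (subRep _ U hU)
      have hne : U ≠ ⊥ := Submodule.nontrivial_iff_ne_bot.1 inferInstance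
      simp only [LinearMap.add_apply, LinearMap.smul_apply]
      rcases honly _ (isIrrCharacter_subChar hirr) (classInner_subChar_ne_zero hU hne) with h | h | h
      · rw [isoOp_apply_ne hirr h₁ (h ▸ Ne.symm h11) hv,
          isoOp_apply_ne hirr h₂ (h ▸ Ne.symm h21) hv, ← h, isoOp_apply_self hirr hv,
          smul_zero, smul_zero, add_zero, add_zero]
        refine hpow U (d : ℂ) (fun w hw => ?_) k v hv
        have hd1 : (finrank ℂ U : ℂ) = 1 := by
          rw [← congrFun h 1]
          exact (Representation.char_one _).symm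
        have hfix : ∀ g : G, Cfsg.permRep ℂ G Ω g w = w := by
          intro g
          have := rep_apply_eq_id_of_char_eq (subRep _ U hU) g ((congrFun h g).trans hd1.symm)
          exact congrArg Subtype.val (congrArg (fun L : U →ₗ[ℂ] U => L ⟨w, hw⟩) this)
        have hw' : w = w a₀ • fun _ => (1 : ℂ) := funext fun x => by
          simp [Cfsg.Agent.Perm.Subdegrees.eq_of_fixed hfix x a₀]
        rw [hw', map_smul, smul_comm]
        congr 1
        funext x
        rw [hA, Cfsg.Agent.Perm.Subdegrees.orbital_one, hdd, hH]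
        simp
      · have hUU := eq_of_subChar_eq hirr hirr₁ (by rw [h, hin1]) (h.trans hc₁.symm)
        rw [isoOp_apply_ne hirr hone (h ▸ h11) hv, isoOp_apply_ne hirr h₂ (h ▸ h12) hv, ← h,
          isoOp_apply_self hirr hv, smul_zero, smul_zero, zero_add, add_zero]
        exact hpow U r (fun w hw => hr w (hUU ▸ hw)) k v hv
      · have hUU := eq_of_subChar_eq hirr hirr₂ (by rw [h, hin2]) (h.trans hc₂.symm)
        rw [isoOp_apply_ne hirr hone (h ▸ h21) hv, isoOp_apply_ne hirr h₁ (h ▸ Ne.symm h12) hv, ← h,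
          isoOp_apply_self hirr hv, smul_zero, smul_zero, zero_add, zero_add]
        exact hpow U s (fun w hw => hs w (hUU ▸ hw)) k v hv
    have htr : ∀ k : ℕ, LinearMap.trace ℂ (Ω → ℂ) (A ^ k) =
        (d : ℂ) ^ k + r ^ k * ((m : ℂ) - 1) + s ^ k * m := by
      intro k
      rw [hop k, map_add, map_add, map_smul, map_smul, map_smul, trace_isoOp, trace_isoOp,
        trace_isoOp, hin0, hin1, hin2, hd₁, hd₂]
      simp [smul_eq_mul]
    -- the traces
    let M : Matrix Ω Ω ℤ :=
      Matrix.of fun x y => if (x, y) ∈ MulAction.orbit G (a₀, b) then (1 : ℤ) else 0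
    have hAM : A = Matrix.toLinAlgEquiv' ((Int.castRingHom ℂ).mapMatrix M) := by
      rw [hA, orbital]
      show Matrix.toLin' _ = Matrix.toLin' _
      congr 1
      ext x y
      simp only [RingHom.mapMatrix_apply, Matrix.map_apply, Matrix.of_apply, M]
      split_ifs <;> simp
    have htrM : ∀ k : ℕ, LinearMap.trace ℂ (Ω → ℂ) (A ^ k) = (((M ^ k).trace : ℤ) : ℂ) := by
      intro k
      rw [hAM, ← map_pow, ← map_pow]
      refine (Cfsg.Agent.Perm.Subdegrees.trace_toLin _).trans ?_
      simp [Matrix.trace, RingHom.mapMatrix_apply, Matrix.map_apply]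
    have htr1 : (M ^ 1).trace = 0 := by
      rw [pow_one, Matrix.trace]
      refine Finset.sum_eq_zero fun x _ => ?_
      simp only [Matrix.diag_apply, M, Matrix.of_apply]
      rw [if_neg]
      rintro ⟨g, hg⟩
      exact hb (MulAction.injective g ((congrArg Prod.snd hg).trans (congrArg Prod.fst hg).symm))
    have htr2 : (M ^ 2).trace = 2 * m * d := by
      have hrow : ∀ x, ∑ y, M x y = (d : ℤ) := by
        intro x
        have h1 := Cfsg.Agent.Perm.Subdegrees.orbital_one (G := G) a₀ b x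
        rw [orbital_apply] at h1
        have h2 : ((∑ y, M x y : ℤ) : ℂ) = ((d : ℤ) : ℂ) := by
          rw [Int.cast_sum, Int.cast_natCast, hdd, hH, ← h1]
          refine Finset.sum_congr rfl fun y _ => ?_
          simp only [M, Matrix.of_apply]
          split_ifs <;> simp
        exact_mod_cast h2
      have hsym : ∀ x y, M x y * M y x = M x y := by
        intro x y
        simp only [M, Matrix.of_apply]
        obtain ⟨g, hg1, hg2⟩ := hswap x y
        have := mem_orbital_smul g a₀ b x y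
        rw [hg1, hg2] at this
        split_ifs <;> simp_all
      rw [pow_two, Matrix.trace]
      simp only [Matrix.diag_apply, Matrix.mul_apply, hsym, hrow, Finset.sum_const,
        Finset.card_univ, hm, nsmul_eq_mul]
      push_cast
      ring
    have e1 := (htr 1).symm.trans (htrM 1)
    have e2 := (htr 2).symm.trans (htrM 2)
    have e3 := (htr 3).symm.trans (htrM 3)
    rw [htr1] at e1
    rw [htr2] at e2
    push_cast at e1 e2
    simp only [pow_one] at e1
    set z : ℤ := (M ^ 3).trace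
    -- rationality
    have hN : (2 * (m : ℂ) - 1) ≠ 0 := fun h => by
      have : 2 * m = 1 := by exact_mod_cast sub_eq_zero.1 h
      omega
    have hmm : (m : ℂ) * ((m : ℂ) - 1) * (2 * (m : ℂ) - 1) ≠ 0 := by
      refine mul_ne_zero (mul_ne_zero (Nat.cast_ne_zero.2 (by omega)) ?_) hN
      exact sub_ne_zero.2 fun h => by
        have : m = 1 := by exact_mod_cast h
        omega
    set w : ℂ := (r - s) / (2 * (m : ℂ) - 1) with hw
    set u : ℂ := -(d : ℂ) / (2 * (m : ℂ) - 1) with hu
    have hrw : r = u + m * w := by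
      rw [hu, hw]; field_simp; linear_combination e1
    have hsw : s = u - ((m : ℂ) - 1) * w := by
      rw [hu, hw]; field_simp; linear_combination e1
    have hw2 : w ^ 2 = (2 * m * d - d ^ 2 - (2 * m - 1) * u ^ 2) /
        ((m : ℂ) * ((m : ℂ) - 1) * (2 * (m : ℂ) - 1)) := by
      rw [hrw, hsw] at e2
      rw [eq_div_iff hmm]
      linear_combination e2
    have hw3 : w ^ 3 = ((z : ℂ) - d ^ 3 - (2 * m - 1) * u ^ 3 -
        3 * u * w ^ 2 * ((m : ℂ) * ((m : ℂ) - 1) * (2 * (m : ℂ) - 1))) /
          ((m : ℂ) * ((m : ℂ) - 1) * (2 * (m : ℂ) - 1)) := by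
      rw [hrw, hsw] at e3
      rw [eq_div_iff hmm]
      linear_combination e3
    let uq : ℚ := -(d : ℚ) / (2 * (m : ℚ) - 1)
    let w2q : ℚ := (2 * m * d - d ^ 2 - (2 * m - 1) * uq ^ 2) /
        ((m : ℚ) * ((m : ℚ) - 1) * (2 * (m : ℚ) - 1))
    let w3q : ℚ := ((z : ℚ) - d ^ 3 - (2 * m - 1) * uq ^ 3 -
        3 * uq * w2q * ((m : ℚ) * ((m : ℚ) - 1) * (2 * (m : ℚ) - 1))) /
          ((m : ℚ) * ((m : ℚ) - 1) * (2 * (m : ℚ) - 1))
    have huq : (uq : ℂ) = u := by rw [hu]; simp only [uq]; push_cast; ring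
    have hw2q : (w2q : ℂ) = w ^ 2 := by rw [hw2, ← huq]; simp only [w2q]; push_cast; ring
    have hw3q : (w3q : ℂ) = w ^ 3 := by
      rw [hw3, ← hw2q, ← huq]; simp only [w3q]; push_cast; ring
    obtain ⟨wq, hwq⟩ : ∃ q : ℚ, (q : ℂ) = w := by
      by_cases h0 : w = 0
      · exact ⟨0, by simp [h0]⟩
      · refine ⟨w3q / w2q, ?_⟩
        rw [Rat.cast_div, hw2q, hw3q]
        field_simp
    have hint : ∀ (U : Submodule ℂ (Ω → ℂ)) (c : ℂ), U ≠ ⊥ → (∀ v ∈ U, A v = c • v) →
        IsIntegral ℤ c := by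
      intro U c hne hc
      obtain ⟨v, hv, hv0⟩ := U.ne_bot_iff.1 hne
      refine Cfsg.Agent.Perm.Subdegrees.isIntegral_eigen M hv0 ?_
      rw [← hc v hv, hAM]
      rfl
    haveI := hirr₁
    haveI := hirr₂
    haveI : Nontrivial U₁ := nontrivial_of_isIrreducible (subRep _ U₁ hU₁)
    haveI : Nontrivial U₂ := nontrivial_of_isIrreducible (subRep _ U₂ hU₂)
    have hr' := hint U₁ r (Submodule.nontrivial_iff_ne_bot.1 inferInstance) hr
    have hs' := hint U₂ s (Submodule.nontrivial_iff_ne_bot.1 inferInstance) hs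
    have hrq : r = ((uq + m * wq : ℚ) : ℂ) := by push_cast; rw [huq, hwq, hrw]
    have hsq : s = ((uq - ((m : ℚ) - 1) * wq : ℚ) : ℂ) := by push_cast; rw [huq, hwq, hsw]
    rw [hrq] at hr'
    rw [hsq] at hs'
    obtain ⟨R, hR⟩ := exists_int_of_isIntegral_ratCast hr'
    obtain ⟨S, hS⟩ := exists_int_of_isIntegral_ratCast hs'
    rw [← hrq] at hR
    rw [← hsq] at hS
    rw [hR, hS] at e1 e2
    obtain ⟨hb1, hb2⟩ := hbound b hb
    refine ⟨R, arith hm2 (S := S) ?_ ?_ hb1 hb2⟩
    · have : (((d : ℤ) + ((m : ℤ) - 1) * R + m * S : ℤ) : ℂ) = ((0 : ℤ) : ℂ) := by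
        push_cast; linear_combination e1
      exact_mod_cast this
    · have : (((d : ℤ) ^ 2 + ((m : ℤ) - 1) * R ^ 2 + m * S ^ 2 : ℤ) : ℂ) =
          ((2 * m * d : ℤ) : ℂ) := by
        push_cast; linear_combination e2
      exact_mod_cast this
  obtain ⟨b₀, hb₀⟩ := exists_ne a₀
  obtain ⟨R, hR, -⟩ := key b₀ hb₀
  obtain ⟨a, ha0, ha⟩ : ∃ a : ℕ, 0 < a ∧ (m : ℤ) = 2 * (a : ℤ) ^ 2 + 2 * a + 1 := by
    rcases le_or_gt 0 R with hR0 | hR0
    · refine ⟨R.toNat, ?_, by rw [Int.toNat_of_nonneg hR0]; exact hR⟩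
      by_contra h
      have : R = 0 := by omega
      subst this
      simp at hR
      omega
    · refine ⟨(-R - 1).toNat, ?_, by rw [Int.toNat_of_nonneg (by omega)]; linear_combination hR⟩
      by_contra h
      have : R = -1 := by omega
      subst this
      simp at hR
      omega
  refine ⟨a, ha0, by exact_mod_cast ha, fun b hb => ?_⟩
  obtain ⟨S, hS, hdS⟩ := key b hb
  have hprod : (S - a) * (S + a + 1) = 0 := by
    have : 2 * ((S - a) * (S + a + 1)) = 0 := by linear_combination ha - hS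
    linarith
  rcases mul_eq_zero.1 hprod with h | h
  · right
    have hSa : S = a := by linarith
    subst hSa
    exact_mod_cast hdS
  · left
    have hSa : S = -(a : ℤ) - 1 := by linarith
    subst hSa
    have : ((Nat.card (MulAction.orbit H b) : ℕ) : ℤ) = ((a * (2 * a + 1) : ℕ) : ℤ) := by
      push_cast; linear_combination hdS
    exact_mod_cast this

end Cfsg.Agent.S0719
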