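import Cfsg.Statements.S0722
import Mathlib

set_option autoImplicit false
open Cfsg

namespace Cfsg.Agent.S0722

/-- In a primitive group `H`, with `N` a minimal normal subgroup and `K` a point stabiliser, `K ⊓ N` is maximal among proper `K`-invariant subgroups of `N`. -/
theorem result {α : Type*} [Finite α] (H : Subgroup (Equiv.Perm α)) [MulAction.IsPreprimitive H α] (N : Subgroup H) [N.Normal] (hN : N ≠ ⊥) (hmin : ∀ M : Subgroup H, M.Normal → M ≤ N → M = ⊥ ∨ M = N) (a : α) (X : Subgroup H) (hX : X ≤ N) (hKX : MulAction.stabilizer H a ⊓ N ≤ X) (hinv : MulAction.stabilizer H a ≤ Subgroup.normalizer (X : Set H)) : X = MulAction.stabilizer H a ⊓ N ∨ X = N := by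
  classical
  set K := MulAction.stabilizer H a with hK
  by_cases hnt : Nontrivial α
  · have hco := MulAction.IsPreprimitive.isCoatom_stabilizer_of_isPreprimitive (G := H) a
    rcases eq_or_lt_of_le (le_sup_right : K ≤ X ⊔ K) with heq | hlt
    · left
      refine le_antisymm (le_inf ?_ hX) hKX
      rw [hK]
      exact le_sup_left.trans heq.ge
    · right
      refine le_antisymm hX fun n hn => ?_
      have htop := hco.2 _ hlt
      have hn' : n ∈ ((X ⊔ K : Subgroup H) : Set H) := by rw [htop]; trivial
      rw [Subgroup.coe_mul_of_right_le_normalizer_left X K hinv] at hn'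
      obtain ⟨x, hx, k, hk, rfl⟩ := Set.mem_mul.1 hn'
      refine mul_mem hx (hKX ⟨hk, ?_⟩)
      have := mul_mem (inv_mem (hX hx)) hn
      rwa [inv_mul_cancel_left] at this
  · exfalso
    rw [not_nontrivial_iff_subsingleton] at hnt
    apply hN
    rw [Subgroup.eq_bot_iff_forall]
    intro x _
    exact Subtype.ext (Equiv.ext fun y => Subsingleton.elim _ _)

end Cfsg.Agent.S0722
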