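import Cfsg.Statements.S0723
import Cfsg.Agent.Lib.Perm.CharSimple
import Cfsg.Agent.Lib.Perm.Subdirect
import Cfsg.Agent.Lib.Perm.NormalPrimitive
import Cfsg.Agent.S0722

set_option autoImplicit false
open Cfsg

namespace Cfsg.Agent.S0723

/-- The core of the O'Nan–Scott Theorem. Let `H` be a primitive permutation group on a finite set whose unique minimal normal subgroup `N` is non-abelian, and `K` a point stabiliser. Then there are a non-abelian simple group `T` and an isomorphism `N ≃* T^m` (`m ≥ 1`) under which `K ⊓ N` becomes either a product `∏ K_i` of proper subgroups `K_i < T`, or the set of functions constant on each block of a partition of the index set into blocks of one common size `k ≥ 2`. -/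
theorem result {α : Type*} [Finite α] (H : Subgroup (Equiv.Perm α)) [MulAction.IsPreprimitive H α] (N : Subgroup H) [N.Normal] (hN : N ≠ ⊥) (hmin : ∀ M : Subgroup H, M.Normal → M ≤ N → M = ⊥ ∨ M = N) (huniq : ∀ L : Subgroup H, L.Normal → L ≠ ⊥ → (∀ M : Subgroup H, M.Normal → M ≤ L → M = ⊥ ∨ M = L) → L = N) (hnab : ¬ IsMulCommutative N) (a : α) : ∃ (T : Type) (_ : Group T) (m : ℕ) (e : N ≃* (Fin m → T)), IsSimpleGroup T ∧ ¬ IsMulCommutative T ∧ 0 < m ∧ ((∃ K : Fin m → Subgroup T, (∀ i, K i ≠ ⊤) ∧ ∀ n : N, (n : H) ∈ MulAction.stabilizer H a ↔ ∀ i, e n i ∈ K i) ∨ (∃ (k : ℕ) (c : Fin m → Fin m), 2 ≤ k ∧ (∀ j : Fin m, Nat.card {i : Fin m // c i = j} = k ∨ Nat.card {i : Fin m // c i = j} = 0) ∧ ∀ n : N, (n : H) ∈ MulAction.stabilizer H a ↔ ∀ i j : Fin m, c i = c j → e n i = e n j)) := by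
  classical
  obtain ⟨m, V, hm, hV, hinj, hind, hsup, hsimple, hconj⟩ :=
    Cfsg.Agent.Perm.CharSimple.exists_decomposition_minimal_normal N hN hmin
  obtain ⟨T, ⟨δ⟩⟩ : ∃ T : Type, Nonempty (T ≃ V ⟨0, hm⟩) :=
    ⟨Fin (Nat.card (V ⟨0, hm⟩)), ⟨(Finite.equivFin _).symm⟩⟩
  letI : Group T := δ.group
  let E : T ≃* V ⟨0, hm⟩ := δ.mulEquiv
  have := hsimple ⟨0, hm⟩
  have hTs : IsSimpleGroup T := E.isSimpleGroup
  have hεex : ∀ i, Nonempty (V i ≃* T) := fun i => by
    obtain ⟨g, hg⟩ := hconj i ⟨0, hm⟩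
    exact ⟨((Subgroup.equivMapOfInjective (V i) (MulAut.conjNormal g : MulAut N).toMonoidHom
      (MulAut.conjNormal g : MulAut N).injective).trans (MulEquiv.subgroupCongr hg)).trans E.symm⟩
  let ε : ∀ i, V i ≃* T := fun i => (hεex i).some
  -- coordinates
  have hcomm : Pairwise fun i j : Fin m => ∀ x y : N, x ∈ V i → y ∈ V j → Commute x y :=
    fun i j hij x y => (hV i).commute (hV j) (fun he => hij (hinj he)) x y
  let f := Subgroup.noncommPiCoprod hcomm
  have hsurj : Function.Surjective f := by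
    rw [← MonoidHom.range_eq_top, Subgroup.noncommPiCoprod_range, hsup]
  have hbij : Function.Bijective f :=
    ⟨Subgroup.injective_noncommPiCoprod_of_iSupIndep hind, hsurj⟩
  let F := MulEquiv.ofBijective f hbij
  let e : N ≃* (Fin m → T) := F.symm.trans (MulEquiv.piCongrRight ε)
  have hTnab : ¬ IsMulCommutative T := fun h => hnab ⟨⟨fun x y => e.injective (funext fun i => by
    rw [map_mul, map_mul]; exact h.is_comm.comm _ _)⟩⟩
  have hTZ : Subgroup.center T = ⊥ :=
    (IsSimpleGroup.eq_bot_or_eq_top_of_normal _ inferInstance).resolve_right fun h =>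
      hTnab ⟨⟨fun x y => Subgroup.mem_center_iff.1 (h ▸ Subgroup.mem_top y) x⟩⟩
  -- every minimal normal subgroup of `N` is a factor
  have hVall : ∀ W : Subgroup N, Cfsg.Agent.Perm.CharSimple.IsMinNormal W → ∃ j, W = V j := by
    intro W hW
    by_contra h
    push Not at h
    refine hW.2.1 ((Subgroup.eq_bot_iff_forall _).2 fun w hw => ?_)
    have hcent : ∀ n : N, n * w = w * n := by
      intro n
      have hle : ⊤ ≤ Subgroup.centralizer ({w} : Set N) := by
        rw [← hsup, iSup_le_iff]
        intro j v hv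
        rw [Subgroup.mem_centralizer_singleton_iff]
        exact ((hV j).commute hW (Ne.symm (h j)) v w hv hw).eq
      exact Subgroup.mem_centralizer_singleton_iff.1 (hle (Subgroup.mem_top n))
    apply e.injective
    rw [map_one]
    funext i
    have : e w i ∈ Subgroup.center T := Subgroup.mem_center_iff.2 fun t => by
      obtain ⟨n, hn⟩ := e.surjective (Pi.mulSingle i t)
      have h1 := congrArg (fun z => e z i) (hcent n)
      simpa [hn] using h1
    rw [hTZ, Subgroup.mem_bot] at this
    exact this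
  let π : Fin m → N →* T := fun i => (Pi.evalMonoidHom (fun _ => T) i).comp e.toMonoidHom
  let D : Fin m → Subgroup N := fun i => ⨆ j, ⨆ (_ : j ≠ i), V j
  have hF : ∀ (j : Fin m) (v : V j), F (Pi.mulSingle j v) = (v : N) := fun j v =>
    Subgroup.noncommPiCoprod_mulSingle (hcomm := hcomm) j v
  have hD : ∀ i, D i = (π i).ker := by
    intro i
    refine le_antisymm (iSup₂_le fun j hj v hv => ?_) fun n hn => ?_
    · show ε i (F.symm v i) = 1
      rw [show v = F (Pi.mulSingle j (⟨v, hv⟩ : V j)) from (hF j ⟨v, hv⟩).symm,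
        MulEquiv.symm_apply_apply, Pi.mulSingle_eq_of_ne (Ne.symm hj), map_one]
    · have hn' : F.symm n i = 1 := (ε i).injective (hn.trans (map_one _).symm)
      rw [← F.apply_symm_apply n]
      refine Subgroup.pi_mem_of_mulSingle_mem (H := (D i).comap F.toMonoidHom) (F.symm n)
        fun j => ?_
      by_cases hj : j = i
      · subst hj
        rw [hn', Pi.mulSingle_one]
        exact one_mem _
      · show F (Pi.mulSingle j (F.symm n j)) ∈ D i
        rw [hF]
        exact (le_iSup₂ (f := fun j (_ : j ≠ i) => V j) j hj) (F.symm n j).2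
  -- the action of the point stabiliser on the factors
  set L : Subgroup N := (MulAction.stabilizer H a).subgroupOf N with hL
  have hperm : ∀ g : H, ∃ σ : Fin m → Fin m, Function.Bijective σ ∧
      ∀ i, (V i).map (MulAut.conjNormal g : MulAut N).toMonoidHom = V (σ i) := by
    intro g
    choose σ hσ using fun i => hVall _ ((hV i).map (MulAut.conjNormal g : MulAut N))
    refine ⟨σ, Finite.injective_iff_bijective.1 fun i j hij => hinj ?_, hσ⟩
    apply Subgroup.map_injective (MulAut.conjNormal g : MulAut N).injective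
    exact (hσ i).trans ((congrArg V hij).trans (hσ j).symm)
  have hmapD : ∀ (g : H) (σ : Fin m → Fin m), Function.Bijective σ →
      (∀ i, (V i).map (MulAut.conjNormal g : MulAut N).toMonoidHom = V (σ i)) →
      ∀ i, (D i).map (MulAut.conjNormal g : MulAut N).toMonoidHom = D (σ i) := by
    intro g σ hσb hσ i
    simp only [D, Subgroup.map_iSup, hσ]
    refine le_antisymm (iSup₂_le fun j hj => ?_) (iSup₂_le fun j hj => ?_)
    · exact le_iSup₂ (f := fun j (_ : j ≠ σ i) => V j) (σ j) (fun h => hj (hσb.1 h))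
    · obtain ⟨l, rfl⟩ := hσb.2 j
      exact le_iSup₂ (f := fun l (_ : l ≠ i) => V (σ l)) l (fun h => hj (h ▸ rfl))
  have hmapL : ∀ g : H, g • a = a →
      L.map (MulAut.conjNormal g : MulAut N).toMonoidHom = L := by
    intro g hg
    have key : ∀ g : H, g • a = a → ∀ x ∈ L, (MulAut.conjNormal g : MulAut N) x ∈ L := by
      intro g hg x hx
      rw [hL, Subgroup.mem_subgroupOf, MulAction.mem_stabilizer_iff] at hx ⊢
      rw [MulAut.conjNormal_apply, mul_smul, mul_smul, inv_smul_eq_iff.2 hg.symm, hx, hg]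
    refine le_antisymm ?_ fun x hx => ?_
    · rintro _ ⟨x, hx, rfl⟩
      exact key g hg x hx
    · refine ⟨_, key g⁻¹ (inv_smul_eq_iff.2 hg.symm) x hx, ?_⟩
      show (MulAut.conjNormal g : MulAut N) ((MulAut.conjNormal g⁻¹ : MulAut N) x) = x
      rw [← MulAut.mul_apply, ← map_mul, mul_inv_cancel, map_one, MulAut.one_apply]
  have hne_top : L ≠ ⊤ := by
    intro h
    apply hN
    refine (Subgroup.eq_bot_iff_forall _).2 fun n hn => ?_
    refine Subtype.ext (Equiv.ext fun x => ?_)
    obtain ⟨g, rfl⟩ := MulAction.exists_smul_eq H a x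
    have h1 : (⟨g⁻¹ * n * g, by simpa using Subgroup.Normal.conj_mem ‹N.Normal› n hn g⁻¹⟩ : N) ∈ L :=
      h ▸ Subgroup.mem_top _
    rw [hL, Subgroup.mem_subgroupOf, MulAction.mem_stabilizer_iff, mul_smul, mul_smul,
      inv_smul_eq_iff] at h1
    exact h1
  have hNt : MulAction.IsPretransitive N α :=
    Cfsg.Agent.Perm.NormalPrimitive.isPretransitive_of_normal inferInstance N hN
  have htrans : ∀ i j, ∃ (g : H) (σ : Fin m → Fin m), g • a = a ∧ Function.Bijective σ ∧
      (∀ i, (V i).map (MulAut.conjNormal g : MulAut N).toMonoidHom = V (σ i)) ∧ σ i = j := by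
    intro i j
    obtain ⟨g, hg⟩ := hconj i j
    obtain ⟨n, hn⟩ := MulAction.exists_smul_eq N a (g • a)
    refine ⟨(n : H)⁻¹ * g, ?_⟩
    obtain ⟨σ, hσb, hσ⟩ := hperm ((n : H)⁻¹ * g)
    refine ⟨σ, ?_, hσb, hσ, hinj ?_⟩
    · rw [mul_smul, inv_smul_eq_iff]
      exact hn.symm
    · rw [← hσ i]
      have hle : (V i).map (MulAut.conjNormal ((n : H)⁻¹ * g) : MulAut N).toMonoidHom ≤ V j := by
        rintro _ ⟨v, hv, rfl⟩
        have h1 : (MulAut.conjNormal g : MulAut N) v ∈ V j := hg ▸ ⟨v, hv, rfl⟩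
        have h2 := (hV j).1.conj_mem _ h1 n⁻¹
        convert! h2 using 1
      rcases (hV j).2.2 _ ((hV i).map _).1 hle with h | h
      · exact absurd h ((hV i).map (MulAut.conjNormal ((n : H)⁻¹ * g) : MulAut N)).2.1
      · exact h
  -- the product of the projections
  let X : Subgroup N := ⨅ i, L ⊔ D i
  have hLX : L ≤ X := le_iInf fun i => le_sup_left
  have : Nonempty (Fin m) := ⟨⟨0, hm⟩⟩
  have hXinv : ∀ g : H, g • a = a → ∀ x ∈ X, (MulAut.conjNormal g : MulAut N) x ∈ X := by
    intro g hg x hx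
    obtain ⟨σ, hσb, hσ⟩ := hperm g
    simp only [X, Subgroup.mem_iInf] at hx ⊢
    intro j
    obtain ⟨i, rfl⟩ := hσb.2 j
    rw [← hmapD g σ hσb hσ i, ← hmapL g hg, ← Subgroup.map_sup]
    exact ⟨x, hx i, rfl⟩
  have hX := S0722.result H N hN hmin a (X.map N.subtype) (Subgroup.map_subtype_le X)
    (fun x hx => ⟨⟨x, hx.2⟩, hLX hx.1, rfl⟩) (fun g hg => by
      rw [Subgroup.mem_normalizer_iff]
      intro h
      constructor
      · rintro ⟨x, hx, rfl⟩
        exact ⟨_, hXinv g hg x hx, MulAut.conjNormal_apply g x⟩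
      · rintro ⟨x, hx, hxh⟩
        refine ⟨_, hXinv g⁻¹ (inv_mem hg) x hx, ?_⟩
        show ((MulAut.conjNormal g⁻¹ : MulAut N) x : H) = h
        rw [MulAut.conjNormal_apply, show (x : H) = g * h * g⁻¹ from hxh]
        group)
  have hmapπ : ∀ i, (L.map (π i)).comap (π i) = L ⊔ D i := fun i => by
    rw [Subgroup.comap_map_eq, hD]
  have hπsurj : ∀ i, Function.Surjective (π i) := fun i t => by
    obtain ⟨n, hn⟩ := e.surjective (Pi.mulSingle i t)
    exact ⟨n, by show e n i = t; rw [hn, Pi.mulSingle_eq_same]⟩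
  by_cases hall : ∀ i, L ⊔ D i = ⊤
  · -- diagonal type
    let M : Subgroup (Fin m → T) := L.map e.toMonoidHom
    obtain ⟨c, φ, hc, hidem, hφid, hmem⟩ := Cfsg.Agent.Perm.Subdirect.exists_diagonal hTnab M
      (fun i t => by
        obtain ⟨n, rfl⟩ := hπsurj i t
        have hn : π i n ∈ L.map (π i) := by
          rw [← Subgroup.mem_comap, hmapπ, hall i]
          trivial
        obtain ⟨l, hl, hln⟩ := hn
        exact ⟨e l, ⟨l, hl, rfl⟩, hln⟩)
    let e' : N ≃* (Fin m → T) := e.trans (MulEquiv.piCongrRight fun i => (φ i).symm)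
    have he'c : ∀ (n : N) (i : Fin m), e' n (c i) = e n (c i) := fun n i => by
      show (φ (c i)).symm (e n (c i)) = _
      rw [MulEquiv.symm_apply_eq, hφid]
    have hLmem : ∀ n : N, n ∈ L ↔ ∀ i, e' n i = e' n (c i) := by
      intro n
      have h1 : n ∈ L ↔ e n ∈ M := (Subgroup.mem_map_iff_mem e.injective).symm
      rw [h1, hmem]
      refine forall_congr' fun i => ?_
      rw [he'c]
      show _ ↔ (φ i).symm (e n i) = _
      rw [MulEquiv.symm_apply_eq]
    refine ⟨T, inferInstance, m, e', hTs, hTnab, hm, Or.inr ?_⟩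
    have hrelmap : ∀ (g : H) (σ : Fin m → Fin m), g • a = a → Function.Bijective σ →
        (∀ i, (V i).map (MulAut.conjNormal g : MulAut N).toMonoidHom = V (σ i)) →
        ∀ i j, c (σ i) = c (σ j) ↔ c i = c j := by
      intro g σ hg hσb hσ i j
      have hrel : ∀ i j, c i = c j ↔ L ⊓ D i = L ⊓ D j := by
        intro i j
        rw [hc]
        constructor
        · intro h
          ext n
          simp only [Subgroup.mem_inf, hD, MonoidHom.mem_ker]
          exact and_congr_right fun hn => h (e n) ⟨n, hn, rfl⟩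
        · rintro h _ ⟨n, hn, rfl⟩
          have := SetLike.ext_iff.1 h n
          simp only [Subgroup.mem_inf, hD, MonoidHom.mem_ker] at this
          exact (and_congr_right_iff.1 this) hn
      rw [hrel, hrel]
      have hmap : ∀ i, (L ⊓ D i).map (MulAut.conjNormal g : MulAut N).toMonoidHom =
          L ⊓ D (σ i) := fun i =>
        (Subgroup.map_inf L (D i) (MulAut.conjNormal g : MulAut N).toMonoidHom
          (MulAut.conjNormal g : MulAut N).injective).trans
          (congrArg₂ (· ⊓ ·) (hmapL g hg) (hmapD g σ hσb hσ i))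
      rw [← hmap, ← hmap]
      exact (Subgroup.map_injective (MulAut.conjNormal g : MulAut N).injective).eq_iff
    set i₀ : Fin m := c ⟨0, hm⟩
    have hfib : ∀ j, c j = j → Nat.card {i : Fin m // c i = j} = Nat.card {i : Fin m // c i = i₀} := by
      intro j hj
      obtain ⟨g, σ, hg, hσb, hσ, hσj⟩ := htrans j i₀
      refine Nat.card_congr (Equiv.subtypeEquiv (Equiv.ofBijective σ hσb) fun i => ?_)
      show c i = j ↔ c (σ i) = i₀
      rw [show i₀ = c (σ j) from by rw [hσj]; exact (hidem _).symm, hrelmap g σ hg hσb hσ, hj]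
    refine ⟨Nat.card {i : Fin m // c i = i₀}, c, ?_, fun j => ?_, fun n => ?_⟩
    · by_contra hk
      apply hne_top
      refine (Subgroup.eq_top_iff' _).2 fun n => (hLmem n).2 fun i => ?_
      have h1 : Nat.card {l : Fin m // c l = c i} ≤ 1 := by
        rw [hfib _ (hidem i)]; omega
      have := Finite.card_le_one_iff_subsingleton.1 h1
      have h2 := congrArg Subtype.val (Subsingleton.elim (⟨i, rfl⟩ : {l : Fin m // c l = c i})
        ⟨c i, hidem i⟩)
      exact congrArg (e' n) h2
    · by_cases hj : ∃ i, c i = j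
      · obtain ⟨i, rfl⟩ := hj
        exact Or.inl (hfib _ (hidem i))
      · right
        have : IsEmpty {i : Fin m // c i = j} := ⟨fun i => hj ⟨i, i.2⟩⟩
        exact Nat.card_of_isEmpty
    · show n ∈ L ↔ _
      rw [hLmem]
      exact ⟨fun h i j hij => (h i).trans ((congrArg (e' n) hij).trans (h j).symm),
        fun h i => h i (c i) (hidem i).symm⟩
  · -- product type
    have hXtop : X ≠ ⊤ := fun h => hall fun i => top_le_iff.1 (h.symm.trans_le (iInf_le _ i))
    have hXL : X = L := by
      rcases hX with h | h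
      · refine le_antisymm (fun x hx => ?_) hLX
        have : (x : H) ∈ MulAction.stabilizer H a ⊓ N := h ▸ ⟨x, hx, rfl⟩
        exact this.1
      · exact absurd (Subgroup.map_injective N.subtype_injective
          (h.trans (by rw [← MonoidHom.range_eq_map, Subgroup.range_subtype]))) hXtop
    push Not at hall
    obtain ⟨i₁, hi₁⟩ := hall
    have hprop : ∀ i, L ⊔ D i ≠ ⊤ := by
      intro i hi
      obtain ⟨g, σ, hg, hσb, hσ, hσi⟩ := htrans i i₁
      apply hi₁
      rw [← hσi, ← hmapD g σ hσb hσ i, ← hmapL g hg, ← Subgroup.map_sup, hi]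
      exact Subgroup.map_top_of_surjective (MulAut.conjNormal g : MulAut N).toMonoidHom
        (MulAut.conjNormal g : MulAut N).surjective
    refine ⟨T, inferInstance, m, e, hTs, hTnab, hm, Or.inl ⟨fun i => L.map (π i), fun i h => ?_,
      fun n => ?_⟩⟩
    · apply hprop i
      rw [← hmapπ, show L.map (π i) = ⊤ from h, Subgroup.comap_top]
    · show n ∈ L ↔ ∀ i, π i n ∈ L.map (π i)
      have h1 : n ∈ L ↔ n ∈ X := by rw [hXL]
      rw [h1]
      simp only [X, Subgroup.mem_iInf, ← hmapπ, Subgroup.mem_comap]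

end Cfsg.Agent.S0723
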