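import Cfsg.Statements.S0724
import Mathlib

set_option autoImplicit false
open Cfsg

namespace Cfsg.Agent.S0724

/-- Blichfeldt's Theorem: if a finite set `L` of natural numbers contains the number of fixed points of every non-identity element of a permutation group `G` of degree `n`, then the order of `G` divides `∏ (n - l)` over `l ∈ L`. -/
theorem result {α : Type*} [Fintype α] [DecidableEq α] (G : Subgroup (Equiv.Perm α)) (L : Finset ℕ) (hL : ∀ g ∈ G, g ≠ 1 → Nat.card (MulAction.fixedBy α g) ∈ L) : Nat.card G ∣ ∏ l ∈ L, (Fintype.card α - l) := by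
  classical
  have key : ∀ k : ℕ, Nat.card G ∣ ∑ g : G, (Nat.card (MulAction.fixedBy α g)) ^ k := by
    intro k
    have := MulAction.sum_card_fixedBy_eq_card_orbits_mul_card_group G (Fin k → α)
    have h2 : ∀ g : G, Fintype.card (MulAction.fixedBy (Fin k → α) g) =
        (Nat.card (MulAction.fixedBy α g)) ^ k := by
      intro g
      rw [← Nat.card_eq_fintype_card]
      let e : MulAction.fixedBy (Fin k → α) g ≃ (Fin k → MulAction.fixedBy α g) :=
        { toFun := fun f i => ⟨f.1 i, congrFun f.2 i⟩
          invFun := fun f => ⟨fun i => (f i).1, funext fun i => (f i).2⟩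
          left_inv := fun f => rfl
          right_inv := fun f => rfl }
      rw [Nat.card_congr e, Nat.card_fun, Nat.card_fin]
    simp only [h2] at this
    rw [this, Nat.card_eq_fintype_card]
    exact dvd_mul_left _ _
  let Q : Polynomial ℤ := ∏ l ∈ L, (Polynomial.X - Polynomial.C (l : ℤ))
  have hsum : (Nat.card G : ℤ) ∣ ∑ g : G, Q.eval (Nat.card (MulAction.fixedBy α g) : ℤ) := by
    simp only [Polynomial.eval_eq_sum_range]
    rw [Finset.sum_comm]
    refine Finset.dvd_sum fun i _ => ?_
    rw [← Finset.mul_sum]
    refine Dvd.dvd.mul_left ?_ _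
    have := Int.natCast_dvd_natCast.2 (key i)
    push_cast at this
    exact this
  have hsingle : ∑ g : G, Q.eval (Nat.card (MulAction.fixedBy α g) : ℤ) =
      Q.eval (Fintype.card α : ℤ) := by
    rw [Finset.sum_eq_single (1 : G)]
    · rw [MulAction.fixedBy_one_eq_univ, Nat.card_univ, Nat.card_eq_fintype_card]
    · intro g _ hg
      have hmem := hL g g.2 (fun h => hg (Subtype.ext h))
      rw [Polynomial.eval_prod]
      refine Finset.prod_eq_zero hmem ?_
      simp [show MulAction.fixedBy α (g : Equiv.Perm α) = MulAction.fixedBy α g from rfl]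
    · simp
  rw [hsingle, Polynomial.eval_prod] at hsum
  simp only [Polynomial.eval_sub, Polynomial.eval_X, Polynomial.eval_C] at hsum
  by_cases hall : ∀ l ∈ L, l ≤ Fintype.card α
  · apply Int.natCast_dvd_natCast.1
    rw [Nat.cast_prod]
    refine hsum.trans (dvd_of_eq (Finset.prod_congr rfl fun l hl => ?_))
    rw [Nat.cast_sub (hall l hl)]
  · push Not at hall
    obtain ⟨l, hl, hlt⟩ := hall
    rw [Finset.prod_eq_zero hl (by omega)]
    exact dvd_zero _

end Cfsg.Agent.S0724
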