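import Cfsg.Statements.S0726
-- import your own Cfsg.Agent.* helpers here

set_option autoImplicit false
open Cfsg

namespace Cfsg.Agent.S0726

/-- The left and right regular permutation representations of a group are each other's centralisers in the symmetric group: the centraliser of the left regular image is the right regular image, and a transitive subgroup centralising the left regular image is the whole right regular image. -/
theorem result {G : Type*} [Group G] : Subgroup.centralizer ((MulAction.toPermHom G G).range : Set (Equiv.Perm G)) = (MulAction.toPermHom Gᵐᵒᵖ G).range ∧ ∀ H : Subgroup (Equiv.Perm G), H ≤ Subgroup.centralizer ((MulAction.toPermHom G G).range : Set (Equiv.Perm G)) → MulAction.IsPretransitive H G → H = (MulAction.toPermHom Gᵐᵒᵖ G).range := by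
  have hc : ∀ σ : Equiv.Perm G, σ ∈ Subgroup.centralizer ((MulAction.toPermHom G G).range : Set (Equiv.Perm G)) →
      σ = MulAction.toPermHom Gᵐᵒᵖ G (MulOpposite.op (σ 1)) := by
    intro σ hσ
    refine Equiv.ext fun x => ?_
    have := congrArg (fun τ : Equiv.Perm G => τ 1)
      (Subgroup.mem_centralizer_iff.1 hσ (MulAction.toPermHom G G x) ⟨x, rfl⟩)
    simp only [Equiv.Perm.coe_mul, Function.comp_apply] at this
    show σ x = x * σ 1
    change x * σ 1 = σ (x * 1) at this
    rw [mul_one] at this
    exact this.symm
  refine ⟨le_antisymm (fun σ hσ => ⟨_, (hc σ hσ).symm⟩) ?_, fun H hH htr => ?_⟩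
  · rintro σ ⟨m, rfl⟩
    rw [Subgroup.mem_centralizer_iff]
    rintro τ ⟨g, rfl⟩
    refine Equiv.ext fun x => ?_
    exact (mul_assoc g x m.unop).symm
  · refine le_antisymm (fun σ hσ => ⟨_, (hc σ (hH hσ)).symm⟩) ?_
    rintro σ ⟨m, rfl⟩
    obtain ⟨h, hh⟩ := htr.exists_smul_eq (1 : G) m.unop
    have := hc h (hH h.2)
    rw [show (h : Equiv.Perm G) 1 = m.unop from hh, MulOpposite.op_unop] at this
    rw [← this]
    exact h.2

end Cfsg.Agent.S0726
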