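import Cfsg.Statements.S0727
import Cfsg.Agent.Lib.Perm.Zassenhaus.SharpThree
import Cfsg.Agent.Lib.Perm.Zassenhaus.Main

set_option autoImplicit false
open Cfsg

namespace Cfsg.Agent.S0727

/-- A sharply triply transitive permutation group of degree `2^f + 1` is isomorphic to the projective general linear group of degree 2 over the field with `2^f` elements. -/
theorem result {α : Type*} [Fintype α] [DecidableEq α] {f : ℕ} (hf : 1 ≤ f) (hα : Fintype.card α = 2 ^ f + 1) (G : Subgroup (Equiv.Perm α)) (h3 : MulAction.IsMultiplyPretransitive G α 3) (hsharp : ∀ x : Fin 3 ↪ α, MulAction.stabilizer G x = ⊥) : ∃ (F : Type) (_ : Field F) (_ : Fintype F), Fintype.card F = 2 ^ f ∧ Nonempty (G ≃* Matrix.ProjGenLinGroup (Fin 2) F) := by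
  classical
  have h2f : 2 ≤ 2 ^ f := Nat.le_self_pow (by omega) 2
  obtain ⟨x, b, F, p, s, hp, hF, hFp, hexp, hsx, hs, hcard⟩ :=
    Perm.Zassenhaus.exists_frame inferInstance h3 hsharp (by rw [Nat.card_eq_fintype_card]; omega)
  have hFcard : Nat.card F = 2 ^ f := by
    have := hF.card_F
    rw [Nat.card_eq_fintype_card, hα] at this
    omega
  haveI := Fact.mk hp
  obtain ⟨m, hm⟩ := IsPGroup.iff_card.1 hFp
  have hp2 : p = 2 := by
    have h2 : 2 ∣ p ^ m := by rw [← hm, hFcard]; exact dvd_pow_self 2 (by omega)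
    exact ((Nat.prime_dvd_prime_iff_eq Nat.prime_two hp).1 (Nat.prime_two.dvd_of_dvd_pow h2)).symm
  subst hp2
  obtain ⟨K, i1, i2, hK, hpgl, -⟩ := hF.iso_of_inverted hsx hs
    (hF.inverted_char_two hsx hs (fun u hu => by rw [← pow_two]; exact hexp u hu) hcard)
    (Or.inl hcard)
  refine ⟨K, i1, i2, ?_, hpgl hcard⟩
  rw [Nat.card_eq_fintype_card, hα] at hK
  omega

end Cfsg.Agent.S0727
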