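import Cfsg.Statements.S0728
import Cfsg.Agent.Lib.Perm.Sharp

set_option autoImplicit false
open Cfsg

namespace Cfsg.Agent.S0728

/-- In a sharply triply transitive group of even degree at least 6 (degree `q + 1`, `q` odd), a two-point stabiliser has at most one subgroup of order 3. -/
theorem result {α : Type*} [Fintype α] [DecidableEq α] (heven : Even (Fintype.card α)) (h6 : 6 ≤ Fintype.card α) (G : Subgroup (Equiv.Perm α)) (h3 : MulAction.IsMultiplyPretransitive G α 3) (hsharp : ∀ x : Fin 3 ↪ α, MulAction.stabilizer G x = ⊥) {a b : α} (hab : a ≠ b) (A B : Subgroup G) (hA : A ≤ MulAction.stabilizer G a ⊓ MulAction.stabilizer G b) (hB : B ≤ MulAction.stabilizer G a ⊓ MulAction.stabilizer G b) (hA3 : Nat.card A = 3) (hB3 : Nat.card B = 3) : A = B := by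
  classical
  set n := Fintype.card α with hn
  set Gab := MulAction.stabilizer G a ⊓ MulAction.stabilizer G b with hGab
  have huniq : ∀ (h h' : G) (x y z : α), x ≠ y → x ≠ z → y ≠ z →
      h • x = h' • x → h • y = h' • y → h • z = h' • z → h = h' := by
    intro h h' x y z hxy hxz hyz e1 e2 e3
    have hinj : Function.Injective ![x, y, z] := by
      intro i j hij
      fin_cases i <;> fin_cases j <;> simp_all
    have h1 := (Cfsg.Agent.Perm.Sharp.stabilizer_embedding_eq_bot_iff ⟨![x, y, z], hinj⟩).1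
      (hsharp _) (h'⁻¹ * h) (fun i => by
        show (h'⁻¹ * h) • ![x, y, z] i = ![x, y, z] i
        fin_cases i <;> simp [mul_smul, e1, e2, e3])
    exact (inv_mul_eq_one.1 h1).symm
  have hex : ∀ (x y z u v w : α), x ≠ y → x ≠ z → y ≠ z → u ≠ v → u ≠ w → v ≠ w →
      ∃ h : G, h • x = u ∧ h • y = v ∧ h • z = w := by
    intro x y z u v w h1 h2 h4 h5 h6 h7
    have hi : ∀ p q r : α, p ≠ q → p ≠ r → q ≠ r → Function.Injective ![p, q, r] := by
      intro p q r hpq hpr hqr i j hij
      fin_cases i <;> fin_cases j <;> simp_all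
    obtain ⟨h, hh⟩ := h3.exists_smul_eq ⟨_, hi x y z h1 h2 h4⟩ ⟨_, hi u v w h5 h6 h7⟩
    have := fun i => congrArg (fun f : Fin 3 ↪ α => f i) hh
    exact ⟨h, this 0, this 1, this 2⟩
  have gen : ∀ A : Subgroup G, A ≤ Gab → Nat.card A = 3 →
      ∃ g : G, g ∈ Gab ∧ g ≠ 1 ∧ g ^ 3 = 1 ∧ A = Subgroup.zpowers g := by
    intro A hA hA3
    have : Fact (Nat.Prime 3) := ⟨Nat.prime_three⟩
    obtain ⟨g, hg⟩ := exists_prime_orderOf_dvd_card' (G := A) 3 (by rw [hA3])
    have hg' : orderOf (g : G) = 3 := by rw [Subgroup.orderOf_coe, hg]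
    refine ⟨g, hA g.2, fun h => by simp [h] at hg', by rw [← hg', pow_orderOf_eq_one],
      (Subgroup.eq_of_le_of_card_ge (Subgroup.zpowers_le.2 g.2)
        (by rw [Nat.card_zpowers, hg', hA3])).symm⟩
  obtain ⟨g, hg, hg1, hg3, rfl⟩ := gen A hA hA3
  obtain ⟨k, hk, hk1, hk3, rfl⟩ := gen B hB hB3
  -- moved points
  have moved : ∀ u : G, u ∈ Gab → u ≠ 1 → u ^ 3 = 1 → ∀ x, x ≠ a → x ≠ b →
      x ≠ u • x ∧ x ≠ u • u • x ∧ u • x ≠ u • u • x ∧ u • u • u • x = x := by
    intro u hu hu1 hu3 x hxa hxb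
    have hfix : ∀ y, y ≠ a → y ≠ b → u • y ≠ y := fun y hya hyb hy =>
      hu1 (huniq u 1 a b y hab hya.symm hyb.symm (by rw [one_smul]; exact hu.1)
        (by rw [one_smul]; exact hu.2) (by rw [one_smul, hy]))
    have huu : u • u • u • x = x := by
      rw [← mul_smul, ← mul_smul, mul_assoc, ← pow_three, hu3, one_smul]
    refine ⟨(hfix x hxa hxb).symm, fun h => hfix x hxa hxb ?_, fun h => hfix x hxa hxb
      (MulAction.injective u h).symm, huu⟩
    have h' : u • u • x = x := h.symm
    nth_rewrite 2 [← huu]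
    rw [h']
  have hc3 : ∃ c, c ≠ a ∧ c ≠ b := by
    by_contra h
    push Not at h
    have : (Finset.univ : Finset α) ⊆ {a, b} := fun c _ => by
      by_cases hca : c = a
      · simp [hca]
      · simp [h c hca]
    have := (Finset.card_le_card this).trans Finset.card_le_two
    rw [Finset.card_univ] at this
    omega
  obtain ⟨c, hca, hcb⟩ := hc3
  obtain ⟨hc1, hc2, hc4, hc5⟩ := moved g hg hg1 hg3 c hca hcb
  -- any element of order 3 fixing a and b is conjugate to g by some h
  have conj : ∀ u : G, u ∈ Gab → u ≠ 1 → u ^ 3 = 1 → ∃ h : G, h * g * h⁻¹ = u := by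
    intro u hu hu1 hu3
    obtain ⟨d1, d2, d4, d5⟩ := moved u hu hu1 hu3 c hca hcb
    obtain ⟨h, h1, h2, h4⟩ := hex c (g • c) (g • g • c) c (u • c) (u • u • c) hc1 hc2 hc4 d1 d2 d4
    refine ⟨h, ?_⟩
    rw [mul_inv_eq_iff_eq_mul]
    refine huniq _ _ c (g • c) (g • g • c) hc1 hc2 hc4 ?_ ?_ ?_
    · rw [mul_smul, h2, mul_smul, h1]
    · rw [mul_smul, h4, mul_smul, h2]
    · rw [mul_smul, hc5, h1, mul_smul, h4, d5]
  let C : Finset G := Finset.univ.filter fun h => h * g = g * h
  let P : Finset G := Finset.univ.filter fun h =>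
    (h • a = a ∧ h • b = b) ∨ (h • a = b ∧ h • b = a)
  have hC : n - 2 ≤ C.card := by
    have h1 : (Finset.univ \ {a, b} : Finset α) ⊆ C.image fun h => h • c := by
      intro x hx
      simp only [Finset.mem_sdiff, Finset.mem_univ, true_and, Finset.mem_insert,
        Finset.mem_singleton, not_or] at hx
      obtain ⟨d1, d2, d4, d5⟩ := moved g hg hg1 hg3 x hx.1 hx.2
      obtain ⟨h, h1, h2, h4⟩ := hex c (g • c) (g • g • c) x (g • x) (g • g • x) hc1 hc2 hc4 d1 d2 d4
      refine Finset.mem_image.2 ⟨h, ?_, h1⟩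
      simp only [C, Finset.mem_filter, Finset.mem_univ, true_and]
      refine huniq _ _ c (g • c) (g • g • c) hc1 hc2 hc4 ?_ ?_ ?_
      · rw [mul_smul, h2, mul_smul, h1]
      · rw [mul_smul, h4, mul_smul, h2]
      · rw [mul_smul, hc5, h1, mul_smul, h4, d5]
    have h2 := (Finset.card_le_card h1).trans Finset.card_image_le
    rw [Finset.card_univ_sdiff, Finset.card_pair hab, ← hn] at h2
    exact h2
  have hP : P.card ≤ 2 * (n - 2) := by
    have h1 : ∀ h ∈ P, (decide (h • a = a), h • c) ∈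
        (Finset.univ : Finset Bool) ×ˢ (Finset.univ \ {a, b} : Finset α) := by
      intro h hh
      simp only [P, Finset.mem_filter, Finset.mem_univ, true_and] at hh
      simp only [Finset.mem_product, Finset.mem_univ, true_and, Finset.mem_sdiff,
        Finset.mem_insert, Finset.mem_singleton, not_or]
      rcases hh with ⟨e1, e2⟩ | ⟨e1, e2⟩
      · exact ⟨fun e => hca (MulAction.injective h (e.trans e1.symm)),
          fun e => hcb (MulAction.injective h (e.trans e2.symm))⟩
      · exact ⟨fun e => hcb (MulAction.injective h (e.trans e2.symm)),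
          fun e => hca (MulAction.injective h (e.trans e1.symm))⟩
    have h2 := Finset.card_le_card_of_injOn (fun h => (decide (h • a = a), h • c)) h1
      (fun h hh h' hh' heq => by
        simp only [P, Finset.coe_filter, Finset.mem_univ, true_and, Set.mem_ofPred_eq] at hh hh'
        simp only [Prod.mk.injEq, decide_eq_decide] at heq
        rcases hh with ⟨e1, e2⟩ | ⟨e1, e2⟩ <;> rcases hh' with ⟨f1, f2⟩ | ⟨f1, f2⟩
        · exact huniq h h' a b c hab hca.symm hcb.symm (e1.trans f1.symm) (e2.trans f2.symm) heq.2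
        · exact absurd (f1.symm.trans (heq.1.1 e1)) hab.symm
        · exact absurd (e1.symm.trans (heq.1.2 f1)) hab.symm
        · exact huniq h h' a b c hab hca.symm hcb.symm (e1.trans f1.symm) (e2.trans f2.symm) heq.2)
    rw [Finset.card_product, Finset.card_univ_sdiff, Finset.card_pair hab, Finset.card_univ,
      Fintype.card_bool, ← hn] at h2
    exact h2
  have inP : ∀ u : G, u ∈ Gab → u ≠ 1 → u ^ 3 = 1 → ∀ h : G, h * g * h⁻¹ = u → h ∈ P := by
    intro u hu hu1 hu3 h hh
    have hfix : ∀ x, g • x = x → x = a ∨ x = b := by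
      intro x hx
      by_contra hcon
      push Not at hcon
      exact (moved g hg hg1 hg3 x hcon.1 hcon.2).1 hx.symm
    have key : ∀ y, (y = a ∨ y = b) → h⁻¹ • y = a ∨ h⁻¹ • y = b := by
      intro y hy
      apply hfix
      rw [eq_inv_smul_iff, ← mul_smul, ← mul_smul,
        show h * g * h⁻¹ = u from hh]
      rcases hy with rfl | rfl
      · exact hu.1
      · exact hu.2
    simp only [P, Finset.mem_filter, Finset.mem_univ, true_and]
    rcases key a (Or.inl rfl) with e1 | e1 <;> rcases key b (Or.inr rfl) with e2 | e2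
    · exact absurd (MulAction.injective h⁻¹ (e1.trans e2.symm)) hab
    · exact Or.inl ⟨(inv_smul_eq_iff.1 e1).symm, (inv_smul_eq_iff.1 e2).symm⟩
    · exact Or.inr ⟨(inv_smul_eq_iff.1 e2).symm, (inv_smul_eq_iff.1 e1).symm⟩
    · exact absurd (MulAction.injective h⁻¹ (e1.trans e2.symm)) hab
  -- the only elements of order 3 fixing a and b are g and g⁻¹
  have hginv : g⁻¹ ≠ g := fun h => hg1 (by
    have h2 : g * g = 1 := by nth_rewrite 1 [← h]; exact inv_mul_cancel g
    rw [pow_three, h2, mul_one] at hg3; exact hg3)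
  have hk' : k = g ∨ k = g⁻¹ := by
    by_contra hcon
    push Not at hcon
    obtain ⟨h, hh⟩ := conj g⁻¹ (inv_mem hg) (inv_ne_one.2 hg1) (by rw [inv_pow, hg3, inv_one])
    obtain ⟨h', hh'⟩ := conj k hk hk1 hk3
    have hone : (1 : G) * g * (1 : G)⁻¹ = g := by group
    let cos : G → Finset G := fun t => C.image (t * ·)
    have hval : ∀ t x, x ∈ cos t → x * g * x⁻¹ = t * g * t⁻¹ := by
      intro t x hx
      obtain ⟨y, hy, rfl⟩ := Finset.mem_image.1 hx
      simp only [C, Finset.mem_filter, Finset.mem_univ, true_and] at hy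
      calc t * y * g * (t * y)⁻¹ = t * (y * g) * y⁻¹ * t⁻¹ := by group
        _ = t * (g * y) * y⁻¹ * t⁻¹ := by rw [hy]
        _ = _ := by group
    have hsub : ∀ t u, u ∈ Gab → u ≠ 1 → u ^ 3 = 1 → t * g * t⁻¹ = u → cos t ⊆ P :=
      fun t u h1 h2 h4 h5 x hx => inP u h1 h2 h4 x ((hval t x hx).trans h5)
    have hcard : ∀ t, (cos t).card = C.card := fun t =>
      Finset.card_image_of_injective _ (mul_right_injective t)
    have hd : ∀ t t', t * g * t⁻¹ ≠ t' * g * t'⁻¹ → Disjoint (cos t) (cos t') := fun t t' hne =>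
      Finset.disjoint_left.2 fun x hx hx' => hne ((hval t x hx).symm.trans (hval t' x hx'))
    have h1 := Finset.card_le_card (Finset.union_subset (Finset.union_subset
      (hsub 1 g hg hg1 hg3 hone)
      (hsub h g⁻¹ (inv_mem hg) (inv_ne_one.2 hg1) (by rw [inv_pow, hg3, inv_one]) hh))
      (hsub h' k hk hk1 hk3 hh'))
    rw [Finset.card_union_of_disjoint, Finset.card_union_of_disjoint, hcard, hcard, hcard] at h1
    · omega
    · exact hd _ _ (by rw [hone, hh]; exact hginv.symm)
    · exact Finset.disjoint_union_left.2 ⟨hd _ _ (by rw [hone, hh']; exact hcon.1.symm),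
        hd _ _ (by rw [hh, hh']; exact hcon.2.symm)⟩
  rcases hk' with rfl | rfl
  · rfl
  · exact Subgroup.zpowers_inv.symm

end Cfsg.Agent.S0728
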