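import Cfsg.Statements.S0731
import Cfsg.Agent.Lib.Perm.Zassenhaus.Main

set_option autoImplicit false
open Cfsg

namespace Cfsg.Agent.S0731

/-- A finite Zassenhaus group whose point stabiliser has an abelian regular normal subgroup on the remaining points is sharply triply transitive or isomorphic to `PSL(2, F)` for a finite field `F` of odd characteristic. -/
theorem result {G Ω : Type*} [Group G] [Finite G] [MulAction G Ω] [Finite Ω] (hZ : Cfsg.IsZassenhausGroup G Ω) (x : Ω) (F : Subgroup G) (hFle : F ≤ MulAction.stabilizer G x) (hFn : (F.subgroupOf (MulAction.stabilizer G x)).Normal) (hFab : IsMulCommutative F) (hreg : ∀ y z : Ω, y ≠ x → z ≠ x → ∃! u : F, (u : G) • y = z) : (MulAction.IsMultiplyPretransitive G Ω 3 ∧ ∀ t : Fin 3 ↪ Ω, MulAction.stabilizer G t = ⊥) ∨ ∃ (K : Type) (_ : Field K) (_ : Fintype K), ringChar K ≠ 2 ∧ Nonempty (G ≃* Matrix.ProjectiveSpecialLinearGroup (Fin 2) K) := by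
  classical
  haveI := Fintype.ofFinite Ω
  obtain ⟨b, hb⟩ : ∃ b : Ω, x ≠ b := by
    obtain ⟨g, -, a, c, hac, -, -⟩ := hZ.2.2.2.1
    by_contra! h
    exact hac ((h a).symm.trans (h c))
  have h := Perm.Zassenhaus.frame_of_zass hZ hb F hFle hFn hFab hreg
  have hcard := h.card_F
  rw [Nat.card_eq_fintype_card] at hcard
  have hd1 := Perm.Zassenhaus.two_lt_stab hZ hb
  set d := Nat.card ↥(MulAction.stabilizer G x ⊓ MulAction.stabilizer G b) with hd_def
  obtain ⟨k, hk⟩ : d ∣ Nat.card F - 1 := h.card_dvd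
  have hbound : Fintype.card Ω - 2 ≤ 2 * d := by
    rcases Nat.even_or_odd d with he | ho
    · exact S0741.result hZ hb he
    · rcases S0885.result hZ hb (Nat.card F) d hcard rfl ho F hFle hcard.symm h.fix_only with
        h' | ⟨-, ⟨u, v, huv⟩, -⟩
      · omega
      · exact absurd (hFab.is_comm.comm u v) huv
  have hpos : 3 ≤ Fintype.card Ω := by
    obtain ⟨g, hg1, a, c, hac, hga, hgc⟩ := hZ.2.2.2.1
    obtain ⟨e, he⟩ : ∃ e, g • e ≠ e := by
      by_contra! h'
      exact hg1 (hZ.1.eq_of_smul_eq_smul fun e => by rw [h' e, one_smul])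
    have : ({a, c, e} : Finset Ω).card = 3 := Finset.card_eq_three.2
      ⟨a, c, e, hac, fun h' => he (h' ▸ hga), fun h' => he (h' ▸ hgc), rfl⟩
    exact this ▸ Finset.card_le_univ _
  rcases k with _ | _ | _ | k
  · simp at hk; omega
  · exact Or.inl (Perm.Zassenhaus.sharp_three hZ hb (by rw [Nat.card_eq_fintype_card]; omega))
  · obtain ⟨K, i1, i2, hK, -, hiso⟩ := Perm.Zassenhaus.psl_of_zass hZ h (by omega)
    exact Or.inr ⟨K, i1, i2, hK, hiso⟩
  · exfalso
    have : d * 3 ≤ d * (k + 3) := Nat.mul_le_mul_left d (by omega)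
    rw [show k + 1 + 1 + 1 = k + 3 from rfl] at hk
    omega

end Cfsg.Agent.S0731
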