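import Cfsg.Statements.S0733
import Mathlib

set_option autoImplicit false
open Cfsg

namespace Cfsg.Agent.S0733

/-- A permutation group of affine type — generated by the translations of a finite vector space `V` over `ZMod p` together with a group `G₀` of linear automorphisms — is primitive on `V` if and only if `G₀` is irreducible on `V`. -/
theorem result {p : ℕ} [Fact p.Prime] {V : Type*} [AddCommGroup V] [Module (ZMod p) V] [Finite V] [Nontrivial V] (G₀ : Subgroup (V ≃ₗ[ZMod p] V)) (G : Subgroup (Equiv.Perm V)) (hG : ∀ σ : Equiv.Perm V, σ ∈ G ↔ ∃ g ∈ G₀, ∃ b : V, ∀ x : V, σ x = (g : V ≃ₗ[ZMod p] V) x + b) : MulAction.IsPreprimitive G V ↔ ∀ W : Submodule (ZMod p) V, (∀ g ∈ G₀, ∀ v ∈ W, (g : V ≃ₗ[ZMod p] V) v ∈ W) → W = ⊥ ∨ W = ⊤ := by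
  classical
  have htrmem : ∀ b : V, Equiv.addRight b ∈ G := fun b => by
    rw [hG]; exact ⟨1, one_mem G₀, b, fun x => rfl⟩
  let t : V → G := fun b => ⟨Equiv.addRight b, htrmem b⟩
  have ht : ∀ b x : V, t b • x = x + b := fun b x => rfl
  have : MulAction.IsPretransitive G V := ⟨fun x y => ⟨t (y - x), by rw [ht, add_sub_cancel]⟩⟩
  have hlin : ∀ g ∈ G₀, ∃ s : G, ∀ x : V, s • x = (g : V ≃ₗ[ZMod p] V) x := fun g hg =>
    ⟨⟨g.toEquiv, (hG _).2 ⟨g, hg, 0, fun x => (add_zero _).symm⟩⟩, fun x => rfl⟩
  constructor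
  · intro hprim W hW
    have hB : MulAction.IsBlock G (W : Set V) := by
      rw [MulAction.isBlock_iff_smul_eq_of_nonempty]
      rintro σ ⟨_, ⟨u, hu, rfl⟩, hσu⟩
      obtain ⟨g, hg, b, hσ⟩ := (hG _).1 σ.2
      have hσ' : ∀ x : V, σ • x = (g : V ≃ₗ[ZMod p] V) x + b := hσ
      have hb : b ∈ W := by
        have : σ • u ∈ W := hσu
        rw [hσ'] at this
        simpa using W.sub_mem this (hW g hg u hu)
      apply Set.eq_of_subset_of_ncard_le ?_ ?_ (Set.toFinite _)
      · rintro _ ⟨x, hx, rfl⟩
        show σ • x ∈ W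
        rw [hσ']
        exact W.add_mem (hW g hg x hx) hb
      · exact (Set.ncard_image_of_injective _ (MulAction.injective σ)).ge
    rcases hB.subsingleton_or_eq_univ with h | h
    · left
      exact (Submodule.eq_bot_iff _).2 fun x hx => h hx W.zero_mem
    · right
      exact SetLike.coe_injective (h.trans Submodule.top_coe.symm)
  · intro hirr
    refine MulAction.IsPreprimitive.of_isTrivialBlock_base (0 : V) fun {B} h0 hB => ?_
    have hinv : ∀ σ : G, σ • (0 : V) ∈ B → ∀ x ∈ B, σ • x ∈ B := by
      intro σ hσ x hx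
      have h1 := MulAction.isBlock_iff_smul_eq_of_nonempty.1 hB (g := σ)
        ⟨σ • 0, ⟨0, h0, rfl⟩, hσ⟩
      rw [← h1]
      exact ⟨x, hx, rfl⟩
    have hadd : ∀ x ∈ B, ∀ b ∈ B, x + b ∈ B := fun x hx b hb => by
      have := hinv (t b) (by rwa [ht, zero_add]) x hx
      rwa [ht] at this
    let A : AddSubgroup V :=
      { carrier := B
        zero_mem' := h0
        add_mem' := fun {x y} hx hy => hadd x hx y hy
        neg_mem' := fun {x} hx => by
          have hk : ∀ k : ℕ, k • x ∈ B := by
            intro k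
            induction k with
            | zero => rwa [zero_nsmul]
            | succ k ih => rw [succ_nsmul]; exact hadd _ ih _ hx
          have h1 : (addOrderOf x - 1) • x + x = 0 := by
            rw [← succ_nsmul, Nat.sub_add_cancel (isOfFinAddOrder_of_finite x).addOrderOf_pos,
              addOrderOf_nsmul_eq_zero]
          show -x ∈ B
          rw [← eq_neg_of_add_eq_zero_left h1]
          exact hk _ }
    rcases hirr (AddSubgroup.toZModSubmodule p A) (fun g hg x hx => by
      obtain ⟨s, hs⟩ := hlin g hg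
      have := hinv s (by rw [hs, map_zero]; exact h0) x hx
      rwa [hs] at this) with h | h
    · left
      intro x hx y hy
      have hx' : x ∈ AddSubgroup.toZModSubmodule p A := hx
      have hy' : y ∈ AddSubgroup.toZModSubmodule p A := hy
      rw [h, Submodule.mem_bot] at hx' hy'
      rw [hx', hy']
    · right
      ext x
      have hx : x ∈ AddSubgroup.toZModSubmodule p A := h ▸ Submodule.mem_top
      exact ⟨fun _ => trivial, fun _ => hx⟩

end Cfsg.Agent.S0733
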