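import Cfsg.Statements.S0742
import Cfsg.Agent.Lib.Perm.Zassenhaus.Main
import Cfsg.Agent.Lib.CharTheory.Zassenhaus.Exists
import Cfsg.Agent.S0738

set_option autoImplicit false
open Cfsg

namespace Cfsg.Agent.S0742

/-- A finite Zassenhaus group of degree `n + 1` with two-point stabilisers of even order `d` satisfying `2d ≤ n - 1` has `n = p^f` for an odd prime `p` and is isomorphic to `PSL(2, p^f)`. -/
theorem result {G Ω : Type*} [Group G] [Finite G] [MulAction G Ω] [Fintype Ω] (hZ : Cfsg.IsZassenhausGroup G Ω) {a b : Ω} (hab : a ≠ b) (heven : Even (Nat.card ↥(MulAction.stabilizer G a ⊓ MulAction.stabilizer G b))) (hd : 2 * Nat.card ↥(MulAction.stabilizer G a ⊓ MulAction.stabilizer G b) ≤ Fintype.card Ω - 2) : ∃ (p f : ℕ) (K : Type) (_ : Field K) (_ : Fintype K), p.Prime ∧ p ≠ 2 ∧ Fintype.card K = p ^ f ∧ Fintype.card Ω = p ^ f + 1 ∧ Nonempty (G ≃* Matrix.ProjectiveSpecialLinearGroup (Fin 2) K) := by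
  classical
  set d := Nat.card ↥(MulAction.stabilizer G a ⊓ MulAction.stabilizer G b) with hd_def
  have h41 := S0741.result hZ hab heven
  have h3 := CharTheory.Zassenhaus.exists_config hZ hab
  obtain ⟨F, hc⟩ := h3
  have hcard : Fintype.card Ω = 2 * d + 2 := by
    have h3 := CharTheory.Zassenhaus.two_le hc
    omega
  have hn : (F.subgroupOf (MulAction.stabilizer G a)).Normal :=
    ⟨fun u hu g => CharTheory.Zassenhaus.conj_mem hc g.2 hu⟩
  have hreg : ∀ y z : Ω, y ≠ a → z ≠ a → ∃! u : F, (u : G) • y = z := by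
    intro y z hy hz
    obtain ⟨u, hu, rfl⟩ := CharTheory.Zassenhaus.exists_mem_smul hc hy
    obtain ⟨v, hv, rfl⟩ := CharTheory.Zassenhaus.exists_mem_smul hc hz
    refine ⟨⟨v * u⁻¹, mul_mem hv (inv_mem hu)⟩, by simp [mul_smul], fun w hw => ?_⟩
    have h := CharTheory.Zassenhaus.eq_of_smul_eq_a hc (mul_mem w.2 hu) hv (by rw [mul_smul]; exact hw)
    exact Subtype.ext (eq_mul_inv_of_mul_eq h)
  obtain ⟨hcomm, p, f, hp, -, hpf⟩ := S0738.result hZ hab (by omega) F hc.le hn hreg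
  obtain ⟨K, i1, i2, hK, hKcard, hiso⟩ := Perm.Zassenhaus.psl_of_zass hZ
    (Perm.Zassenhaus.frame_of_zass hZ hab F hc.le hn hcomm hreg) hcard
  refine ⟨p, f, K, i1, i2, hp, ?_, by omega, hpf, hiso⟩
  rintro rfl
  have h1 := FiniteField.odd_card_of_char_ne_two hK
  have h2 : Fintype.card K = 2 ^ f := by omega
  rcases f.eq_zero_or_pos with rfl | hf
  · have := Fintype.one_lt_card (α := K)
    simp at h2; omega
  · have h4 : 2 ∣ Fintype.card K := h2 ▸ dvd_pow_self 2 hf.ne'
    omega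

end Cfsg.Agent.S0742
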