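import Cfsg.Statements.S0752
import Cfsg.Agent.Lib.Forms.Bases

set_option autoImplicit false
open Cfsg Cfsg.Agent.Forms.Bases

namespace Cfsg.Agent.S0752

/-- Classification of alternating forms: for an alternating bilinear form B on a finite-dimensional space over any field there is a basis indexed by (Fin m ⊕ Fin m) ⊕ Fin k such that B (e_i, f_j) = δ_ij, the e's are pairwise orthogonal, the f's are pairwise orthogonal, and the last k basis vectors are orthogonal to everything (they span the radical). -/
theorem result {F V : Type*} [Field F] [AddCommGroup V] [Module F V] [FiniteDimensional F V] (B : LinearMap.BilinForm F V) (hA : B.IsAlt) : ∃ (m k : ℕ) (b : Module.Basis ((Fin m ⊕ Fin m) ⊕ Fin k) F V), (∀ i j : Fin m, B (b (Sum.inl (Sum.inl i))) (b (Sum.inl (Sum.inr j))) = if i = j then 1 else 0) ∧ (∀ i j : Fin m, B (b (Sum.inl (Sum.inl i))) (b (Sum.inl (Sum.inl j))) = 0) ∧ (∀ i j : Fin m, B (b (Sum.inl (Sum.inr i))) (b (Sum.inl (Sum.inr j))) = 0) ∧ (∀ (j : Fin k) (v : V), B (b (Sum.inr j)) v = 0) := by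
  classical
  obtain ⟨W, hW⟩ := exists_isCompl (LinearMap.ker B)
  have hs : ∀ u v, B v u = - B u v := fun u v => (LinearMap.IsAlt.neg hA u v).symm
  have hnd : NondegOn B W := by
    intro u hu h
    have : u ∈ LinearMap.ker B := by
      rw [LinearMap.mem_ker]
      refine LinearMap.ext fun v => ?_
      obtain ⟨a, ha, w, hw, rfl⟩ := Submodule.mem_sup.1
        (show v ∈ LinearMap.ker B ⊔ W by rw [hW.sup_eq_top]; trivial)
      rw [LinearMap.mem_ker] at ha
      simp [h w hw, hs a u, ha]
    exact Submodule.disjoint_def.1 hW.disjoint u this hu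
  obtain ⟨m, e, f, hef⟩ := exists_sympFamily B hA W hnd
  let bW : Module.Basis (Fin m ⊕ Fin m) F W :=
    (Module.Basis.span hef.linearIndependent).map (LinearEquiv.ofEq _ _ (le_antisymm
      (Submodule.span_le.2 (by rintro _ ⟨i | i, rfl⟩; exacts [hef.e_mem i, hef.f_mem i]))
      hef.span))
  let bR := Module.finBasis F ↥(LinearMap.ker B)
  refine ⟨m, _, (bW.prod bR).map (W.prodEquivOfIsCompl _ hW.symm), ?_, ?_, ?_, ?_⟩
  · intro i j; simp [bW, hef.ef, Module.Basis.span_apply]
  · intro i j; simp [bW, hef.ee, Module.Basis.span_apply]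
  · intro i j; simp [bW, hef.ff, Module.Basis.span_apply]
  · intro j v
    have h : B (bR j : V) = 0 := LinearMap.mem_ker.1 (bR j).2
    simp [h]

end Cfsg.Agent.S0752
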