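import Cfsg.Statements.S0757

set_option autoImplicit false
open Cfsg

namespace Cfsg.Agent.S0757

/-- The two diagonal forms Σ x_i^2 and Σ_(i<n) x_i^2 + α x_n^2 on F^(n+1), with α a non-square and 2 ≠ 0 in F, are inequivalent quadratic forms (so over a finite field of odd order there are exactly two classes of non-singular symmetric bilinear forms in each dimension). -/
theorem result {F : Type*} [Field F] (h2 : (2 : F) ≠ 0) (n : ℕ) (α : F) (hα : ¬ IsSquare α) : ¬ (QuadraticMap.weightedSumSquares F (fun _ : Fin (n + 1) => (1 : F))).Equivalent (QuadraticMap.weightedSumSquares F (fun i : Fin (n + 1) => if i = Fin.last n then α else (1 : F))) := by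
  classical
  have : Invertible (2 : F) := invertibleOfNonzero h2
  rintro ⟨e⟩
  set w : Fin (n + 1) → F := fun i => if i = Fin.last n then α else 1 with hw
  have hcomp : (QuadraticMap.weightedSumSquares F w).comp e.toLinearEquiv.toLinearMap
      = QuadraticMap.weightedSumSquares F (fun _ : Fin (n + 1) => (1 : F)) := by
    ext x
    exact e.map_app x
  have hd : ∀ v : Fin (n + 1) → F,
      QuadraticForm.toMatrix' (QuadraticMap.weightedSumSquares F v) = Matrix.diagonal v := by
    intro v
    have hass : ∀ x y : Fin (n + 1) → F,
        QuadraticMap.associated (R := F) (QuadraticMap.weightedSumSquares F v) x y =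
          ∑ k, v k * (x k * y k) := fun x y => by
      have h3 : ∀ k, v k * ((x k + y k) * (x k + y k)) - v k * (x k * x k) - v k * (y k * y k)
          = 2 * (v k * (x k * y k)) := fun k => by ring
      simp only [QuadraticMap.associated_apply, QuadraticMap.weightedSumSquares_apply,
        smul_eq_mul, Pi.add_apply, ← Finset.sum_sub_distrib, h3, ← Finset.mul_sum]
      rw [Module.End.smul_def, QuadraticMap.half_moduleEnd_apply_eq_half_smul]
      simp only [smul_eq_mul, ← mul_assoc, invOf_mul_self, one_mul]
    ext i j
    simp only [QuadraticForm.toMatrix', LinearMap.toMatrix₂'_apply, hass]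
    rcases eq_or_ne i j with rfl | hij
    · simp [Pi.single_apply]
    · simp [Pi.single_apply, Matrix.diagonal, hij, hij.symm]
  have hdet := congrArg (fun Q => (QuadraticForm.toMatrix' Q).det) hcomp
  simp only [QuadraticForm.toMatrix'_comp, hd, Matrix.det_mul, Matrix.det_transpose,
    Matrix.det_diagonal] at hdet
  rw [Fin.prod_univ_castSucc] at hdet
  simp [hw, Fin.castSucc_ne_last] at hdet
  set d := LinearMap.det (e.toLinearEquiv : (Fin (n + 1) → F) →ₗ[F] Fin (n + 1) → F)
  have hd0 : d ≠ 0 := fun h => by simp [h] at hdet
  exact hα ⟨d⁻¹, by field_simp; linear_combination hdet⟩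

end Cfsg.Agent.S0757
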