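import Cfsg.Statements.S0758

set_option autoImplicit false
open Cfsg

namespace Cfsg.Agent.S0758

/-- For a finite field F of odd order q and a non-square α: the form x² + y² is isotropic iff q ≡ 1 mod 4, and the form x² + α y² is isotropic iff q ≡ 3 mod 4. -/
theorem result {F : Type*} [Field F] [Fintype F] (h2 : (2 : F) ≠ 0) (α : F) (hα : ¬ IsSquare α) : ((∃ x y : F, (x ≠ 0 ∨ y ≠ 0) ∧ x ^ 2 + y ^ 2 = 0) ↔ Fintype.card F % 4 = 1) ∧ ((∃ x y : F, (x ≠ 0 ∨ y ≠ 0) ∧ x ^ 2 + α * y ^ 2 = 0) ↔ Fintype.card F % 4 = 3) := by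
  classical
  have hodd : Fintype.card F % 2 = 1 :=
    FiniteField.odd_card_of_char_ne_two fun h => h2 (by
      have : CharP F 2 := ringChar.eq_iff.1 h
      exact CharTwo.two_eq_zero)
  have hneg : IsSquare (-1 : F) ↔ Fintype.card F % 4 = 1 := by
    rw [FiniteField.isSquare_neg_one_iff]; omega
  have hα0 : α ≠ 0 := fun h => hα (h ▸ ⟨0, by simp⟩)
  have h1 : ∀ c : F, c ≠ 0 → ((∃ x y : F, (x ≠ 0 ∨ y ≠ 0) ∧ x ^ 2 + c * y ^ 2 = 0) ↔
      IsSquare (-c)) := by
    intro c hc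
    constructor
    · rintro ⟨x, y, hxy, h⟩
      have hy : y ≠ 0 := fun hy => by subst hy; simp_all
      exact ⟨x / y, by field_simp; linear_combination -h⟩
    · rintro ⟨s, hs⟩
      exact ⟨s, 1, Or.inr one_ne_zero, by linear_combination -hs⟩
  refine ⟨by simpa [hneg] using h1 1 one_ne_zero, (h1 α hα0).trans ⟨fun h => ?_, fun h => ?_⟩⟩
  · by_contra hne
    obtain ⟨s, hs⟩ := h
    obtain ⟨t, ht⟩ := hneg.2 (by omega)
    exact hα ⟨s * t, by linear_combination -hs + s * s * ht⟩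
  · have hnsq : ¬ IsSquare (-1 : F) := fun hh => by have := hneg.1 hh; omega
    rw [← quadraticChar_one_iff_isSquare (neg_ne_zero.2 hα0),
      show -α = (-1 : F) * α by ring, map_mul,
      quadraticChar_neg_one_iff_not_isSquare.2 hα,
      quadraticChar_neg_one_iff_not_isSquare.2 hnsq]
    norm_num

end Cfsg.Agent.S0758
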