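import Cfsg.Statements.S0759
import Cfsg.Agent.Lib.Forms.Disc

set_option autoImplicit false
open Cfsg Cfsg.Agent.Forms.Disc

namespace Cfsg.Agent.S0759

/-- Type of the orthonormal form: over a finite field of odd order q and for m ≥ 1, the quadratic form Σ_(i<2m) x_i² on F^(2m) admits an m-dimensional subspace on which it vanishes identically if and only if it is not the case that q ≡ 3 (mod 4) and m is odd. -/
theorem result {F : Type*} [Field F] [Fintype F] (h2 : (2 : F) ≠ 0) (m : ℕ) (hm : 1 ≤ m) : (∃ W : Submodule F (Fin (2 * m) → F), Module.finrank F W = m ∧ ∀ w ∈ W, ∑ i, w i ^ 2 = 0) ↔ ¬ (Fintype.card F % 4 = 3 ∧ Odd m) := by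
  classical
  let B : LinearMap.BilinForm F (Fin (2 * m) → F) := Matrix.toBilin' 1
  have hBv : ∀ u v, B u v = ∑ i, u i * v i := fun u v => by
    simp [B, Matrix.toBilin'_apply', dotProduct]
  have hS : B.IsSymm := ⟨fun u v => by rw [hBv, hBv]; simp [mul_comm]⟩
  have hB : B.Nondegenerate :=
    LinearMap.BilinForm.nondegenerate_toBilin'_iff_det_ne_zero.2 (by simp)
  have hg : gram B (Pi.basisFun F (Fin (2 * m))) = 1 := by
    ext i j; simp [gram, B, Matrix.toBilin'_single]
  have key := exists_lagrangian_iff h2 B hS hB (m := m) (by simp) (Pi.basisFun F (Fin (2 * m)))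
  rw [hg, Matrix.det_one, mul_one] at key
  have hiso : ∀ W : Submodule F (Fin (2 * m) → F), (∀ w ∈ W, ∑ i, w i ^ 2 = 0) ↔
      ∀ x ∈ W, ∀ y ∈ W, B x y = 0 := by
    intro W
    constructor
    · intro h x hx y hy
      have h0 := h (x + y) (W.add_mem hx hy)
      have hx0 := h x hx
      have hy0 := h y hy
      have : (2 : F) * B x y = 0 := by
        rw [hBv, Finset.mul_sum]
        have e : ∀ i, 2 * (x i * y i) = (x + y) i ^ 2 - x i ^ 2 - y i ^ 2 := fun i => by
          simp; ring
        simp only [e, Finset.sum_sub_distrib, h0, hx0, hy0, sub_zero]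
      simpa [h2] using this
    · intro h w hw
      simpa [hBv, sq] using h w hw w hw
  simp only [hiso, key]
  have hodd : Fintype.card F % 2 = 1 :=
    FiniteField.odd_card_of_char_ne_two fun h => h2 (by
      have : CharP F 2 := h ▸ ringChar.charP F
      exact CharTwo.two_eq_zero)
  rcases Nat.even_or_odd m with he | ho
  · simp [he.neg_one_pow, Nat.not_odd_iff_even.2 he]
  · rw [ho.neg_one_pow, FiniteField.isSquare_neg_one_iff]
    simp [ho]

end Cfsg.Agent.S0759
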