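import Cfsg.Statements.S0760
import Cfsg.Agent.Lib.Forms.Witt

set_option autoImplicit false
open Cfsg Cfsg.Agent.Forms.Witt

namespace Cfsg.Agent.S0760

/-- Witt index is well defined: if Q is a quadratic form on a finite-dimensional space V over a finite field with non-degenerate polar form, and W₁, W₂ are subspaces on which Q vanishes that are maximal with this property, then W₁ and W₂ have the same dimension, and twice this dimension is at most dim V. -/
theorem result {F V : Type*} [Field F] [Finite F] [AddCommGroup V] [Module F V] [FiniteDimensional F V] (Q : QuadraticForm F V) (hQ : (QuadraticMap.polarBilin Q).Nondegenerate) (W₁ W₂ : Submodule F V) (h₁ : ∀ w ∈ W₁, Q w = 0) (h₂ : ∀ w ∈ W₂, Q w = 0) (hmax₁ : ∀ W : Submodule F V, W₁ ≤ W → (∀ w ∈ W, Q w = 0) → W = W₁) (hmax₂ : ∀ W : Submodule F V, W₂ ≤ W → (∀ w ∈ W, Q w = 0) → W = W₂) : Module.finrank F W₁ = Module.finrank F W₂ ∧ 2 * Module.finrank F W₁ ≤ Module.finrank F V := by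
  have hle : ∀ U₁ U₂ : Submodule F V, (∀ w ∈ U₁, Q w = 0) → (∀ w ∈ U₂, Q w = 0) →
      (∀ W : Submodule F V, U₁ ≤ W → (∀ w ∈ W, Q w = 0) → W = U₁) →
      Module.finrank F U₂ ≤ Module.finrank F U₁ := by
    intro U₁ U₂ h₁ h₂ hmax
    by_contra hlt
    push Not at hlt
    obtain ⟨U', hU', hU'd⟩ : ∃ U' : Submodule F V, U' ≤ U₂ ∧
        Module.finrank F U' = Module.finrank F U₁ := by
      let b := Module.finBasis F U₂
      let v : Fin (Module.finrank F U₁) → V := fun i => (b (Fin.castLE hlt.le i) : V)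
      have hv : LinearIndependent F v := by
        have h3 := b.linearIndependent.map' U₂.subtype U₂.ker_subtype
        exact h3.comp _ (Fin.castLE_injective _)
      refine ⟨Submodule.span F (Set.range v), Submodule.span_le.2 ?_, by
        rw [finrank_span_eq_card hv]; simp⟩
      rintro _ ⟨i, rfl⟩
      exact (b _).2
    obtain ⟨φ⟩ : Nonempty (↥U₁ ≃ₗ[F] ↥U') := ⟨LinearEquiv.ofFinrankEq _ _ hU'd.symm⟩
    obtain ⟨g, hg, hgx⟩ := witt_quad Q hQ U₁ (U'.subtype ∘ₗ φ.toLinearMap)
      (Subtype.val_injective.comp φ.injective) fun x => by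
        rw [h₁ _ x.2]
        exact h₂ _ (hU' (φ x).2)
    have h := hmax (U₂.comap g.toLinearMap) (fun x hx => by
        rw [Submodule.mem_comap]
        exact (hgx ⟨x, hx⟩).symm ▸ hU' (φ ⟨x, hx⟩).2) (fun w hw => by
        rw [← hg w]; exact h₂ _ hw)
    have h2 := g.finrank_map_eq (U₂.comap g.toLinearMap)
    rw [h, ← h, Submodule.map_comap_eq_of_surjective g.surjective] at h2
    rw [h] at h2
    omega
  refine ⟨le_antisymm (hle W₂ W₁ h₂ h₁ hmax₂) (hle W₁ W₂ h₁ h₂ hmax₁), ?_⟩
  let B : LinearMap.BilinForm F V := QuadraticMap.polarBilin Q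
  have hsub : W₁ ≤ B.orthogonal W₁ := fun x hx y hy => by
    show QuadraticMap.polar Q y x = 0
    simp [QuadraticMap.polar, h₁ _ (W₁.add_mem hy hx), h₁ _ hx, h₁ _ hy]
  have h3 := Submodule.finrank_mono hsub
  rw [LinearMap.BilinForm.finrank_orthogonal hQ] at h3
  omega

end Cfsg.Agent.S0760
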