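import Cfsg.Statements.S0761
import Cfsg.Agent.Lib.Forms.Witt

set_option autoImplicit false
open Cfsg Cfsg.Agent.Forms.Witt

namespace Cfsg.Agent.S0761

/-- Hyperbolic partners: let B be a non-degenerate bilinear form on a finite-dimensional space, either alternating, or symmetric with 2 ≠ 0. If Z is a subspace on which B vanishes, x ∉ Z is isotropic and orthogonal to Z, then there is an isotropic y with B x y = 1 which is orthogonal to Z. -/
theorem result {F V : Type*} [Field F] [AddCommGroup V] [Module F V] [FiniteDimensional F V] (B : LinearMap.BilinForm F V) (hB : B.Nondegenerate) (hform : B.IsAlt ∨ (B.IsSymm ∧ (2 : F) ≠ 0)) (x : V) (Z : Submodule F V) (hxZ : x ∉ Z) (hx : B x x = 0) (hxz : ∀ z ∈ Z, B x z = 0) (hZ : ∀ z ∈ Z, ∀ z' ∈ Z, B z z' = 0) : ∃ y : V, B y y = 0 ∧ B x y = 1 ∧ ∀ z ∈ Z, B z y = 0 := by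
  obtain ⟨w, hwZ', hwx'⟩ := exists_sep (σ := RingHom.id F) (fun t => ⟨t, rfl⟩) B.flip
    (fun v hv => hB.1 v fun u => hv u) hxZ
  have hwx : B x w = 1 := hwx'
  have hwZ : ∀ z ∈ Z, B z w = 0 := hwZ'
  rcases hform with hA | ⟨hS, h2⟩
  · exact ⟨w, hA w, hwx, hwZ⟩
  · refine ⟨w + (-(B w w / 2)) • x, ?_, ?_, fun z hz => ?_⟩
    · have hs : B w x = 1 := by rw [hS.eq]; exact hwx
      simp [hx, hs, hwx]
      field_simp
      ring
    · simp [hx, hwx]
    · have hs : B z x = 0 := by rw [hS.eq]; exact hxz z hz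
      simp [hwZ z hz, hs]

end Cfsg.Agent.S0761
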