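import Cfsg.Statements.S0762

set_option autoImplicit false
open Cfsg

namespace Cfsg.Agent.S0762

/-- In characteristic two over a finite field, a quadratic form on a space of dimension at least 3 vanishes on some non-zero vector. -/
theorem result {F V : Type*} [Field F] [Finite F] [CharP F 2] [AddCommGroup V] [Module F V] [FiniteDimensional F V] (Q : QuadraticForm F V) (h3 : 3 ≤ Module.finrank F V) : ∃ v : V, v ≠ 0 ∧ Q v = 0 := by
  classical
  cases nonempty_fintype F
  set B := QuadraticMap.polarBilin Q
  have hne : ∃ v : V, v ≠ 0 := by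
    have : Nontrivial V := Module.nontrivial_of_finrank_pos (R := F) (by omega)
    exact exists_ne 0
  obtain ⟨v, hv⟩ := hne
  by_cases hQv : Q v = 0
  · exact ⟨v, hv, hQv⟩
  obtain ⟨w, hw, hwv⟩ : ∃ w ∈ LinearMap.ker (B v), w ∉ Submodule.span F {v} := by
    by_contra h
    push Not at h
    have h1 := Submodule.finrank_mono (show LinearMap.ker (B v) ≤ Submodule.span F {v} from h)
    rw [finrank_span_singleton hv] at h1
    have h2 := LinearMap.finrank_range_add_finrank_ker (B v)
    have h3 : Module.finrank F ↥(LinearMap.range (B v)) ≤ 1 :=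
      (Submodule.finrank_le _).trans (Module.finrank_self F).le
    omega
  obtain ⟨t, ht⟩ := (FiniteField.isSquare_of_char_two (ringChar.eq F 2) (Q w / Q v) :
    IsSquare (Q w / Q v))
  refine ⟨w + t • v, fun h => hwv ?_, ?_⟩
  · have : w = -t • v := by rw [neg_smul]; exact eq_neg_of_add_eq_zero_left h
    exact this ▸ Submodule.smul_mem _ _ (Submodule.mem_span_singleton_self v)
  · have hpol : QuadraticMap.polar Q w v = 0 := by
      rw [QuadraticMap.polar_comm]; exact hw
    rw [QuadraticMap.map_add Q, QuadraticMap.map_smul, QuadraticMap.polar_smul_right, hpol]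
    rw [← ht]
    simp [div_mul_cancel₀ _ hQv, CharTwo.add_self_eq_zero]

end Cfsg.Agent.S0762
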