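import Cfsg.Statements.S0763
import Cfsg.Agent.Lib.Forms.Witt

set_option autoImplicit false
open Cfsg Cfsg.Agent.Forms.Witt

namespace Cfsg.Agent.S0763

/-- Binary quadratic forms in characteristic two over a finite field: if Q is a quadratic form on a 2-dimensional space whose polar form is non-degenerate, then either there are vectors v, w with Q v = Q w = 0 and polar value 1 (Q is xy in these coordinates), or there are v, w and μ with Q v = 1, Q w = μ, polar value 1 and x² + x + μ without roots in F (Q is x² + xy + μy²). -/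
theorem result {F V : Type*} [Field F] [Finite F] [CharP F 2] [AddCommGroup V] [Module F V] (Q : QuadraticForm F V) (h2 : Module.finrank F V = 2) (hQ : (QuadraticMap.polarBilin Q).Nondegenerate) : (∃ v w : V, LinearIndependent F ![v, w] ∧ Q v = 0 ∧ Q w = 0 ∧ QuadraticMap.polar Q v w = 1) ∨ (∃ (v w : V) (μ : F), LinearIndependent F ![v, w] ∧ (∀ x : F, x ^ 2 + x + μ ≠ 0) ∧ Q v = 1 ∧ Q w = μ ∧ QuadraticMap.polar Q v w = 1) := by
  classical
  cases nonempty_fintype F
  have hfd : FiniteDimensional F V := FiniteDimensional.of_finrank_pos (by omega)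
  set B := QuadraticMap.polarBilin Q with hB
  have hself : ∀ v, B v v = 0 := fun v => by simp [hB, CharTwo.two_eq_zero]
  obtain ⟨v, hv⟩ : ∃ v : V, v ≠ 0 := by
    have : Nontrivial V := Module.nontrivial_of_finrank_pos (R := F) (by omega)
    exact exists_ne 0
  have mk : ∀ v : V, v ≠ 0 → ∃ w, QuadraticMap.polar Q v w = 1 ∧ LinearIndependent F ![v, w] := by
    intro v hv
    obtain ⟨w, -, hwv⟩ := exists_sep (σ := RingHom.id F) (fun t => ⟨t, rfl⟩) B hQ.2
      (W := (⊥ : Submodule F V)) (x := v) (by simpa using hv)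
    have hvw : QuadraticMap.polar Q v w = 1 := by
      rw [QuadraticMap.polar_comm]; exact hwv
    refine ⟨w, hvw, LinearIndependent.pair_iff.2 fun s t h => ?_⟩
    have h1 : B v (s • v + t • w) = 0 := by rw [h, map_zero]
    have h2 : B w (s • v + t • w) = 0 := by rw [h, map_zero]
    rw [map_add, map_smul, map_smul, hself, hwv] at h2
    rw [map_add, map_smul, map_smul, hself, show B v w = 1 from hvw] at h1
    exact ⟨by simpa using h2, by simpa using h1⟩
  by_cases hsing : ∃ v : V, v ≠ 0 ∧ Q v = 0
  · obtain ⟨v, hv, hQv⟩ := hsing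
    obtain ⟨w, hvw, hli⟩ := mk v hv
    refine Or.inl ⟨v, w + Q w • v, ?_, hQv, ?_, ?_⟩
    · rw [add_comm]; exact (LinearIndependent.pair_add_smul_right_iff _).2 hli
    · rw [QuadraticMap.map_add Q, QuadraticMap.map_smul, hQv, QuadraticMap.polar_smul_right,
        QuadraticMap.polar_comm, hvw]
      simp [CharTwo.add_self_eq_zero]
    · rw [QuadraticMap.polar_add_right, QuadraticMap.polar_smul_right, hvw,
        QuadraticMap.polar_self, hQv]
      simp
  push Not at hsing
  obtain ⟨s, hs⟩ := (FiniteField.isSquare_of_char_two (ringChar.eq F 2) (Q v)⁻¹ :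
    IsSquare (Q v)⁻¹)
  have hQv := hsing v hv
  have hv1 : Q (s • v) = 1 := by
    rw [QuadraticMap.map_smul, smul_eq_mul, ← hs, inv_mul_cancel₀ hQv]
  have hsv : s • v ≠ 0 := fun h => by simp [h] at hv1
  obtain ⟨w, hvw, hli⟩ := mk _ hsv
  refine Or.inr ⟨s • v, w, Q w, hli, fun x h => ?_, hv1, rfl, hvw⟩
  refine hsing (x • (s • v) + w) (fun h0 => ?_) ?_
  · exact absurd (LinearIndependent.pair_iff.1 hli x 1 (by simpa using h0)).2 one_ne_zero
  · rw [QuadraticMap.map_add Q, QuadraticMap.map_smul, hv1, QuadraticMap.polar_smul_left, hvw]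
    simp only [smul_eq_mul]
    linear_combination h

end Cfsg.Agent.S0763
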