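import Cfsg.Statements.S0767
import Cfsg.Agent.Lib.Forms.SympStd

set_option autoImplicit false
open Cfsg Cfsg.Agent.Forms.SympStd

namespace Cfsg.Agent.S0767

/-- The root group of a point: T_v(c) T_v(d) = T_v(c + d), and for A in the symplectic group with A v = a v, the conjugate A T_v(c) A⁻¹ is again some T_v(d). -/
theorem result {F : Type*} [Field F] (m : ℕ) (v : Fin m ⊕ Fin m → F) : (∀ c d : F, Cfsg.sympTransvection m v c * Cfsg.sympTransvection m v d = Cfsg.sympTransvection m v (c + d)) ∧ ∀ (A : Matrix (Fin m ⊕ Fin m) (Fin m ⊕ Fin m) F) (a : F), A ∈ Matrix.symplecticGroup (Fin m) F → A.mulVec v = a • v → ∀ c : F, ∃ d : F, A * Cfsg.sympTransvection m v c * A⁻¹ = Cfsg.sympTransvection m v d := by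
  refine ⟨fun c d => Matrix.ext_iff_mulVec.2 fun x => ?_, fun A a hA hAv c => ⟨a * a * c, ?_⟩⟩
  · rw [← Matrix.mulVec_mulVec]
    simp only [transvection_mulVec, ← sympB_apply, map_add, map_smul, LinearMap.add_apply,
      LinearMap.smul_apply, smul_eq_mul]
    simp only [sympB_apply, sympForm_self]
    module
  · have h : A * Cfsg.sympTransvection m v c = Cfsg.sympTransvection m v (a * a * c) * A := by
      refine Matrix.ext_iff_mulVec.2 fun x => ?_
      rw [← Matrix.mulVec_mulVec, ← Matrix.mulVec_mulVec, transvection_mulVec, transvection_mulVec,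
        Matrix.mulVec_add, Matrix.mulVec_smul, hAv]
      have h1 : Cfsg.sympForm m F x v = a * Cfsg.sympForm m F (A.mulVec x) v := by
        rw [← mem_sp_iff.1 hA x v, hAv, ← sympB_apply, map_smul, sympB_apply, smul_eq_mul]
      rw [h1]
      module
    rw [h, Matrix.mul_nonsing_inv_cancel_right _ _ (SymplecticGroup.symplectic_det hA)]

end Cfsg.Agent.S0767
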