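import Cfsg.Statements.S0768
import Cfsg.Agent.Lib.Forms.SympStd

set_option autoImplicit false
open scoped LinearAlgebra.Projectivization Pointwise
open Cfsg Cfsg.Agent.Forms.SympStd

namespace Cfsg.Agent.S0768

open scoped LinearAlgebra.Projectivization Pointwise
open Matrix

variable {F : Type*} [Field F] {m : ℕ}

local notation "Vec" => (Fin m ⊕ Fin m → F)

theorem exists_spGL (A : symplecticGroup (Fin m) F) :
    ∃ g : Cfsg.spGL m F, ((g : GeneralLinearGroup (Fin m ⊕ Fin m) F) :
      Matrix (Fin m ⊕ Fin m) (Fin m ⊕ Fin m) F) = (A : Matrix (Fin m ⊕ Fin m) (Fin m ⊕ Fin m) F) :=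
  ⟨⟨GeneralLinearGroup.mkOfDetNeZero _ (SymplecticGroup.symplectic_det A.2).ne_zero,
    fun u v => mem_sp_iff.1 A.2 u v⟩, rfl⟩

theorem smul_mk_eq (g : Cfsg.spGL m F) {u v : Vec} (hu : u ≠ 0) (hv : v ≠ 0)
    (h : ((g : GeneralLinearGroup (Fin m ⊕ Fin m) F) :
      Matrix (Fin m ⊕ Fin m) (Fin m ⊕ Fin m) F) *ᵥ u = v) :
    g • Projectivization.mk F u hu = Projectivization.mk F v hv := by
  subst h
  rfl

theorem exists_move {u v : Vec} (hu : u ≠ 0) (hv : v ≠ 0) :
    ∃ g : Cfsg.spGL m F, ((g : GeneralLinearGroup (Fin m ⊕ Fin m) F) :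
      Matrix (Fin m ⊕ Fin m) (Fin m ⊕ Fin m) F) *ᵥ u = v := by
  let e := LinearEquiv.toSpanNonzeroSingleton F Vec u hu
  let φ : Submodule.span F {u} →ₗ[F] Vec := LinearMap.toSpanSingleton F Vec v ∘ₗ e.symm.toLinearMap
  have hφ : Function.Injective φ := fun a b hab =>
    e.symm.injective (smul_left_injective F hv hab)
  obtain ⟨A, hA⟩ := exists_extend _ φ hφ fun x x' => by
    obtain ⟨a, ha⟩ := Submodule.mem_span_singleton.1 x.2
    obtain ⟨b, hb⟩ := Submodule.mem_span_singleton.1 x'.2
    simp only [φ, LinearMap.comp_apply, LinearMap.toSpanSingleton_apply, LinearEquiv.coe_coe,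
      ← sympB_apply, map_smul, LinearMap.smul_apply, smul_eq_mul, ← ha, ← hb]
    simp only [sympB_apply, sympForm_self, mul_zero]
  obtain ⟨g, hg⟩ := exists_spGL A
  refine ⟨g, ?_⟩
  have := hA ⟨u, Submodule.mem_span_singleton_self u⟩
  rw [hg, this]
  have he : e.symm ⟨u, Submodule.mem_span_singleton_self u⟩ = 1 :=
    e.injective (Subtype.ext (by simp [e]))
  simp [φ, he]

theorem exists_move_pair' {u v u' v' : Vec} (h : LinearIndependent F ![u, v])
    (h' : LinearIndependent F ![u', v'])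
    (hf : Cfsg.sympForm m F u v = Cfsg.sympForm m F u' v') :
    ∃ g : Cfsg.spGL m F, ((g : GeneralLinearGroup (Fin m ⊕ Fin m) F) :
      Matrix (Fin m ⊕ Fin m) (Fin m ⊕ Fin m) F) *ᵥ u = u' ∧
      ((g : GeneralLinearGroup (Fin m ⊕ Fin m) F) :
      Matrix (Fin m ⊕ Fin m) (Fin m ⊕ Fin m) F) *ᵥ v = v' := by
  let b : Module.Basis (Fin 2) F (Submodule.span F (Set.range ![u, v])) := Module.Basis.span h
  have hbv : ∀ i, (b i : Vec) = ![u, v] i := fun i => Module.Basis.coe_span_apply h i
  let L : (Fin 2 → F) →ₗ[F] Vec := Fintype.linearCombination F ![u', v']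
  let φ := L ∘ₗ b.equivFun.toLinearMap
  have hx : ∀ x, (x : Submodule.span F (Set.range ![u, v])).1 =
      b.equivFun x 0 • u + b.equivFun x 1 • v := fun x => by
    conv_lhs => rw [← b.sum_equivFun x]
    simp only [Fin.sum_univ_two, Submodule.coe_add, Submodule.coe_smul, hbv,
      Matrix.cons_val_zero, Matrix.cons_val_one]
  have hφ' : ∀ x, φ x = b.equivFun x 0 • u' + b.equivFun x 1 • v' := fun x => by
    simp [φ, L, Fintype.linearCombination_apply, Fin.sum_univ_two]
  obtain ⟨A, hA⟩ := exists_extend _ φ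
    (h'.fintypeLinearCombination_injective.comp b.equivFun.injective) fun x x' => by
    rw [hφ', hφ', hx x, hx x']
    simp only [← sympB_apply, map_add, map_smul, LinearMap.add_apply, LinearMap.smul_apply,
      smul_eq_mul]
    simp only [sympB_apply, sympForm_self, sympForm_swap u v, sympForm_swap u' v', hf]
  obtain ⟨g, hg⟩ := exists_spGL A
  refine ⟨g, ?_, ?_⟩
  · have := hA (b 0)
    rw [hbv] at this
    rw [hg]
    simpa [φ, L, Fintype.linearCombination_apply, Pi.single_apply] using this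
  · have := hA (b 1)
    rw [hbv] at this
    rw [hg]
    simpa [φ, L, Fintype.linearCombination_apply, Pi.single_apply] using this

/-- Inside a block, two members spread to everything in the same relation to the first. -/
theorem spread {B : Set (ℙ F Vec)} (hB : MulAction.IsBlock (Cfsg.spGL m F) B) {u v w : Vec}
    (hu : u ≠ 0) (hv : v ≠ 0) (hw : w ≠ 0) (hBu : Projectivization.mk F u hu ∈ B)
    (hBv : Projectivization.mk F v hv ∈ B) (hind : ∀ a : F, a • u ≠ v)
    (h : Cfsg.sympForm m F u w = 0 ↔ Cfsg.sympForm m F u v = 0) :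
    Projectivization.mk F w hw ∈ B := by
  by_cases hdep : ∃ a : F, a • u = w
  · obtain ⟨a, ha⟩ := hdep
    rwa [show Projectivization.mk F w hw = Projectivization.mk F u hu from
      (Projectivization.mk_eq_mk_iff' F w u hw hu).2 ⟨a, ha⟩]
  push Not at hdep
  obtain ⟨c, hc, hcf⟩ : ∃ c : F, c ≠ 0 ∧ Cfsg.sympForm m F u (c • w) = Cfsg.sympForm m F u v := by
    by_cases h0 : Cfsg.sympForm m F u v = 0
    · exact ⟨1, one_ne_zero, by rw [one_smul, h.2 h0, h0]⟩
    · refine ⟨Cfsg.sympForm m F u v / Cfsg.sympForm m F u w, div_ne_zero h0 (mt h.1 h0), ?_⟩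
      rw [← sympB_apply, map_smul, sympB_apply, smul_eq_mul, div_mul_cancel₀ _ (mt h.1 h0)]
  obtain ⟨g, hg1, hg2⟩ := exists_move_pair' ((LinearIndependent.pair_iff' hu).2 hind)
    ((LinearIndependent.pair_iff' hu).2 (fun a ha => hdep (c⁻¹ * a) (by
      rw [← smul_smul, ha, smul_smul, inv_mul_cancel₀ hc, one_smul]))) hcf.symm
  have hgB : g • B = B := hB.smul_eq_of_mem hBu (by rwa [smul_mk_eq g hu hu hg1])
  have h2 : g • Projectivization.mk F v hv ∈ g • B := Set.smul_mem_smul_set hBv
  rw [hgB, smul_mk_eq g hv (smul_ne_zero hc hw) hg2] at h2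
  rwa [show Projectivization.mk F w hw = Projectivization.mk F (c • w) (smul_ne_zero hc hw) from
    (Projectivization.mk_eq_mk_iff' F w (c • w) hw (smul_ne_zero hc hw)).2
      ⟨c⁻¹, by rw [smul_smul, inv_mul_cancel₀ hc, one_smul]⟩]

theorem exists_both {u r : Vec} (hu : u ≠ 0) (hr : r ≠ 0) :
    ∃ s : Vec, Cfsg.sympForm m F u s ≠ 0 ∧ Cfsg.sympForm m F r s ≠ 0 := by
  have hex : ∀ {x : Vec}, x ≠ 0 → ∃ a, Cfsg.sympForm m F x a ≠ 0 := fun {x} hx => by
    by_contra h
    push Not at h
    exact hx (sympB_nondegenerate.1 x fun a => (sympB_apply x a).trans (h a))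
  obtain ⟨a, ha⟩ := hex hu
  obtain ⟨b, hb⟩ := hex hr
  by_cases h1 : Cfsg.sympForm m F r a = 0
  · by_cases h2 : Cfsg.sympForm m F u b = 0
    · exact ⟨a + b, by rwa [← sympB_apply, map_add, sympB_apply, sympB_apply, h2, add_zero],
        by rwa [← sympB_apply, map_add, sympB_apply, sympB_apply, h1, zero_add]⟩
    · exact ⟨b, h2, hb⟩
  · exact ⟨a, ha, h1⟩

theorem fill {B : Set (ℙ F Vec)} (hB : MulAction.IsBlock (Cfsg.spGL m F) B) {u v : Vec}
    (hu : u ≠ 0) (hv : v ≠ 0) (hBu : Projectivization.mk F u hu ∈ B)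
    (hBv : Projectivization.mk F v hv ∈ B) (hind : ∀ a : F, a • u ≠ v) (r : Vec) (hr : r ≠ 0) :
    Projectivization.mk F r hr ∈ B := by
  by_cases huv : Cfsg.sympForm m F u v = 0
  · by_cases hur : Cfsg.sympForm m F u r = 0
    · exact spread hB hu hv hr hBu hBv hind (by simp [huv, hur])
    have hru : Cfsg.sympForm m F r u ≠ 0 := by rw [sympForm_swap]; simpa
    set s := v + (-(Cfsg.sympForm m F r v / Cfsg.sympForm m F r u)) • u with hs
    have hrs : Cfsg.sympForm m F r s = 0 := by
      rw [hs, ← sympB_apply, map_add, map_smul, sympB_apply, sympB_apply, smul_eq_mul, neg_mul,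
        div_mul_cancel₀ _ hru, add_neg_cancel]
    have hus : Cfsg.sympForm m F u s = 0 := by
      rw [hs, ← sympB_apply, map_add, map_smul, sympB_apply, sympB_apply, sympForm_self, huv]
      simp
    have hinds : ∀ a : F, a • u ≠ s := fun a ha =>
      hind (a + Cfsg.sympForm m F r v / Cfsg.sympForm m F r u) (by
        rw [add_smul, ha, hs, neg_smul, neg_add_cancel_right])
    have hs0 : s ≠ 0 := fun h => hinds 0 (by rw [zero_smul, h])
    have hBs := spread hB hu hv hs0 hBu hBv hind (by simp [huv, hus])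
    refine spread hB hs0 hu hr hBs hBu (fun a ha => ?_) ?_
    · rcases eq_or_ne a 0 with rfl | h0
      · exact hu (by simpa using ha.symm)
      · exact hinds a⁻¹ (by rw [← ha, smul_smul, inv_mul_cancel₀ h0, one_smul])
    · rw [sympForm_swap r s, sympForm_swap u s, hrs, hus]
  · by_cases hur : Cfsg.sympForm m F u r = 0
    · obtain ⟨s, hus, hrs⟩ := exists_both hu hr
      have hs0 : s ≠ 0 := fun h => hus (by rw [h, ← sympB_apply, map_zero])
      have hBs := spread hB hu hv hs0 hBu hBv hind (by simp [huv, hus])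
      refine spread hB hs0 hu hr hBs hBu (fun a ha => hus ?_) ?_
      · rw [← ha, ← sympB_apply, map_smul, LinearMap.smul_apply, sympB_apply, sympForm_self]
        simp
      · rw [sympForm_swap r s, sympForm_swap u s]
        simp [hus, hrs]
    · exact spread hB hu hv hr hBu hBv hind (by simp [huv, hur])

/-- Primitivity: for m ≥ 1 and F finite, the symplectic group of the form sympForm (as a subgroup of the general linear group) acts primitively on the projective space of F^(2m). -/
theorem result {F : Type*} [Field F] [Finite F] (m : ℕ) (hm : 1 ≤ m) : MulAction.IsPreprimitive ↥(Cfsg.spGL m F) (ℙ F (Fin m ⊕ Fin m → F)) := by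
  have htrans : MulAction.IsPretransitive ↥(Cfsg.spGL m F) (ℙ F (Fin m ⊕ Fin m → F)) := by
    refine ⟨fun p q => ?_⟩
    obtain ⟨g, hg⟩ := exists_move p.rep_nonzero q.rep_nonzero
    exact ⟨g, by rw [← p.mk_rep, ← q.mk_rep, smul_mk_eq g p.rep_nonzero q.rep_nonzero hg]⟩
  constructor
  intro B hB
  by_cases hsub : B.Subsingleton
  · exact Or.inl hsub
  refine Or.inr (Set.eq_univ_of_forall fun p => ?_)
  obtain ⟨p₁, hp₁, p₂, hp₂, hne⟩ := Set.not_subsingleton_iff.1 hsub
  induction p₁ using Projectivization.ind with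
  | h u hu =>
  induction p₂ using Projectivization.ind with
  | h v hv =>
  induction p using Projectivization.ind with
  | h r hr =>
  have hind : ¬ ∃ a : F, a • u = v := fun ⟨a, ha⟩ =>
    hne ((Projectivization.mk_eq_mk_iff' F u v hu hv).2 ⟨a⁻¹, by
      rcases eq_or_ne a 0 with rfl | h0
      · exact absurd (by simpa using ha.symm) hv
      · rw [← ha, smul_smul, inv_mul_cancel₀ h0, one_smul]⟩)
  push Not at hind
  exact fill hB hu hv hp₁ hp₂ hind r hr

end Cfsg.Agent.S0768
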