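import Cfsg.Statements.S0769

set_option autoImplicit false
open Cfsg

namespace Cfsg.Agent.S0769

/-- Order of the Borel subgroup of GL_n(q): the invertible lower-triangular n × n matrices over a field with q elements number q^(n(n-1)/2) (q-1)^n (unitriangular part times the diagonal torus). -/
theorem result {F : Type*} [Field F] [Fintype F] {q : ℕ} (hF : Fintype.card F = q) (n : ℕ) : Nat.card {g : Matrix.GeneralLinearGroup (Fin n) F // ∀ i j : Fin n, i < j → (g : Matrix (Fin n) (Fin n) F) i j = 0} = q ^ (n * (n - 1) / 2) * (q - 1) ^ n := by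
  classical
  have hdet : ∀ A : Matrix (Fin n) (Fin n) F, (∀ i j, i < j → A i j = 0) →
      A.det = ∏ i, A i i := fun A h =>
    Matrix.det_of_isLowerTriangular (M := A) fun i j hij => h i j hij
  let e : {g : Matrix.GeneralLinearGroup (Fin n) F //
      ∀ i j : Fin n, i < j → (g : Matrix (Fin n) (Fin n) F) i j = 0} ≃
      (Fin n → Fˣ) × ({p : Fin n × Fin n // p.2 < p.1} → F) :=
    { toFun := fun g => (fun i => Units.mk0 ((g.1 : Matrix (Fin n) (Fin n) F) i i) (by
          intro h
          have h0 := (Matrix.isUnit_iff_isUnit_det _).1 g.1.isUnit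
          rw [hdet _ g.2] at h0
          exact h0.ne_zero (Finset.prod_eq_zero (Finset.mem_univ i) h)),
        fun p => (g.1 : Matrix (Fin n) (Fin n) F) p.1.1 p.1.2)
      invFun := fun d => ⟨Matrix.GeneralLinearGroup.mkOfDetNeZero
        (Matrix.of fun i j => if h : j < i then d.2 ⟨(i, j), h⟩ else if i = j then (d.1 i : F) else 0)
        (by
          rw [hdet _ fun i j hij => by simp [hij.asymm, hij.ne]]
          exact Finset.prod_ne_zero_iff.2 fun i _ => by simp),
        fun i j hij => by simp [hij.asymm, hij.ne]⟩
      left_inv := fun g => by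
        refine Subtype.ext (Units.ext (Matrix.ext fun i j => ?_))
        rcases lt_trichotomy i j with h | h | h
        · simp [h.asymm, h.ne, g.2 i j h]
        · simp [h]
        · simp [h]
      right_inv := fun d => by
        refine Prod.ext (funext fun i => Units.ext ?_) (funext fun p => ?_)
        · simp
        · simp [p.2] }
  rw [Nat.card_congr e, Nat.card_prod, Nat.card_fun, Nat.card_fun, Nat.card_units,
    Nat.card_eq_fintype_card (α := F), hF, mul_comm, Nat.card_eq_fintype_card,
    Nat.card_eq_fintype_card, Fintype.card_fin, Fintype.card_subtype]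
  congr 2
  rw [Finset.card_filter, Fintype.sum_prod_type]
  have h : ∀ i : Fin n, (∑ j : Fin n, if j < i then 1 else 0) = (i : ℕ) := fun i => by
    rw [← Finset.card_filter, show (Finset.univ.filter (· < i)) = Finset.Iio i by ext; simp,
      Fin.card_Iio]
  simp only [h]
  rw [Fin.sum_univ_eq_sum_range (fun i => i), Finset.sum_range_id]

end Cfsg.Agent.S0769
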