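import Cfsg.Statements.S0770

set_option autoImplicit false
open Cfsg

namespace Cfsg.Agent.S0770

/-- For a field with at least 3 elements, an invertible matrix normalises the subgroup of invertible diagonal matrices of GL_n if and only if it is monomial (exactly one non-zero entry in each row). -/
theorem result {F : Type*} [Field F] (hF : ∃ a : F, a ≠ 0 ∧ a ≠ 1) (n : ℕ) (g : Matrix.GeneralLinearGroup (Fin n) F) : g ∈ Subgroup.normalizer ((Units.map (Matrix.diagonalRingHom (Fin n) F).toMonoidHom).range : Subgroup (Matrix.GeneralLinearGroup (Fin n) F)) ↔ ∀ i : Fin n, ∃! j : Fin n, (g : Matrix (Fin n) (Fin n) F) i j ≠ 0 := by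
  classical
  obtain ⟨a, ha0, ha1⟩ := hF
  set D : Subgroup (Matrix.GeneralLinearGroup (Fin n) F) :=
    (Units.map (Matrix.diagonalRingHom (Fin n) F).toMonoidHom).range with hD
  have hmemD : ∀ x, x ∈ D ↔ ∃ d : (Fin n → F)ˣ,
      ((x : Matrix.GeneralLinearGroup (Fin n) F) : Matrix (Fin n) (Fin n) F) =
        Matrix.diagonal (d : Fin n → F) := by
    intro x
    constructor
    · rintro ⟨d, rfl⟩; exact ⟨d, rfl⟩
    · rintro ⟨d, hd⟩; exact ⟨d, Units.ext hd.symm⟩
  have hrow : ∀ i, ∃ j, (g : Matrix (Fin n) (Fin n) F) i j ≠ 0 := by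
    intro i
    by_contra h
    push Not at h
    exact (Matrix.isUnit_iff_isUnit_det _).1 g.isUnit |>.ne_zero (Matrix.det_eq_zero_of_row_eq_zero i h)
  constructor
  · intro hg i
    obtain ⟨j, hj⟩ := hrow i
    refine ⟨j, hj, fun k hk => ?_⟩
    by_contra hne
    let d : (Fin n → F)ˣ := MulEquiv.piUnits.symm
      (fun l => if l = j then Units.mk0 a ha0 else 1)
    have hdD : (Units.map (Matrix.diagonalRingHom (Fin n) F).toMonoidHom) d ∈ D := ⟨d, rfl⟩
    have hc := (Subgroup.mem_normalizer_iff.1 hg _).1 hdD
    obtain ⟨d', hd'⟩ := (hmemD _).1 hc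
    rw [Units.val_mul, Units.val_mul] at hd'
    have heq : (g : Matrix (Fin n) (Fin n) F) * Matrix.diagonal (d : Fin n → F) =
        Matrix.diagonal (d' : Fin n → F) * (g : Matrix (Fin n) (Fin n) F) := by
      rw [← hd', mul_assoc, Units.inv_mul, mul_one]
      rfl
    have e1 := congrFun (congrFun heq i) j
    have e2 := congrFun (congrFun heq i) k
    rw [Matrix.mul_diagonal, Matrix.diagonal_mul] at e1 e2
    rw [mul_comm] at e1 e2
    have f1 := mul_right_cancel₀ hj e1
    have f2 := mul_right_cancel₀ hk e2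
    simp [d, hne] at f1 f2
    exact ha1 (f1.trans f2.symm)
  · intro h
    choose s hs hsu using h
    have hbij : Function.Bijective s := by
      rw [← Finite.surjective_iff_bijective]
      intro j
      by_contra hcon
      push Not at hcon
      refine (Matrix.isUnit_iff_isUnit_det _).1 g.isUnit |>.ne_zero
        (Matrix.det_eq_zero_of_column_eq_zero j fun i => ?_)
      by_contra hne
      exact hcon i (hsu i j hne).symm
    let e := Equiv.ofBijective s hbij
    have key : ∀ d : Fin n → F, (g : Matrix (Fin n) (Fin n) F) * Matrix.diagonal d =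
        Matrix.diagonal (d ∘ s) * (g : Matrix (Fin n) (Fin n) F) := by
      intro d
      ext i j
      rw [Matrix.mul_diagonal, Matrix.diagonal_mul]
      by_cases hij : (g : Matrix (Fin n) (Fin n) F) i j = 0
      · simp [hij]
      · rw [hsu i j hij]; simp [mul_comm]
    rw [Subgroup.mem_normalizer_iff]
    intro x
    constructor
    · intro hx
      obtain ⟨d, hd⟩ := (hmemD _).1 hx
      refine (hmemD _).2 ⟨MulEquiv.piUnits.symm fun i => MulEquiv.piUnits d (s i), ?_⟩
      rw [Units.val_mul, Units.val_mul, hd, key, mul_assoc, Units.mul_inv, mul_one]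
      rfl
    · intro hx
      obtain ⟨d, hd⟩ := (hmemD _).1 hx
      refine (hmemD _).2 ⟨MulEquiv.piUnits.symm fun i => MulEquiv.piUnits d (e.symm i), ?_⟩
      rw [Units.val_mul, Units.val_mul] at hd
      have h1 : (g : Matrix (Fin n) (Fin n) F) * (x : Matrix (Fin n) (Fin n) F) =
          Matrix.diagonal (d : Fin n → F) * (g : Matrix (Fin n) (Fin n) F) := by
        rw [← hd, mul_assoc, Units.inv_mul, mul_one]
      have h2 : (g : Matrix (Fin n) (Fin n) F) * (x : Matrix (Fin n) (Fin n) F) =
          (g : Matrix (Fin n) (Fin n) F) * Matrix.diagonal ((d : Fin n → F) ∘ e.symm) := by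
        rw [h1, key, Function.comp_assoc, show (e.symm ∘ s) = id from funext e.symm_apply_apply,
          Function.comp_id]
      exact g.isUnit.mul_left_cancel h2

end Cfsg.Agent.S0770
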