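import Cfsg.Statements.S0774
import Cfsg.Agent.Lib.Forms.SympStab
-- import your own Cfsg.Agent.* helpers here

set_option autoImplicit false
open Cfsg

namespace Cfsg.Agent.S0774

open Matrix Cfsg.Agent.Forms.SympStd Cfsg.Agent.Forms.SympStab

section

variable {F : Type*} [Field F] {m : ℕ}

/-- the flag spaces -/
def flag (F : Type*) [Field F] {m : ℕ} (k : Fin m) : Set (Fin m ⊕ Fin m → F) :=
  {v | (∀ i : Fin m, (k : ℕ) < (i : ℕ) → v (Sum.inl i) = 0) ∧ ∀ i : Fin m, v (Sum.inr i) = 0}

/-- adapted tuples -/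
def adapted (F : Type*) [Field F] (m : ℕ) : Set (Fin m → Fin m ⊕ Fin m → F) :=
  {g | ∀ i, g i ∈ flag F i ∧ g i (Sum.inl i) ≠ 0}

theorem mem_flag_expand {k : Fin m} {v : Fin m ⊕ Fin m → F} (hv : v ∈ flag F k) :
    v = ∑ i : Fin m, v (Sum.inl i) • stdTuple F le_rfl i := by
  funext z
  rcases z with j | j
  · simp [stdTuple, Pi.single_apply]
  · simp [stdTuple, hv.2 j]

theorem natCard_adapted [Fintype F] :
    Nat.card (adapted F m) = (Fintype.card F - 1) ^ m * Fintype.card F ^ (∑ j ∈ Finset.range m, j) := by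
  classical
  let e : adapted F m ≃ ∀ i : Fin m, {x : F // x ≠ 0} × (Fin (i : ℕ) → F) :=
    { toFun := fun g i => (⟨g.1 i (Sum.inl i), (g.2 i).2⟩,
        fun l => g.1 i (Sum.inl (Fin.castLE i.2.le l)))
      invFun := fun p => ⟨fun i => Sum.elim (fun j => if h : (j : ℕ) < (i : ℕ) then (p i).2 ⟨j, h⟩
          else if j = i then (p i).1.1 else 0) (fun _ => 0), fun i => by
        refine ⟨⟨fun j hj => ?_, fun j => rfl⟩, ?_⟩
        · simp [show ¬ j < i from not_lt.2 hj.le, Fin.ne_of_val_ne (by omega : (j : ℕ) ≠ i)]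
        · simpa using (p i).1.2⟩
      left_inv := fun g => Subtype.ext (funext fun i => funext fun z => by
        rcases z with j | j
        · rcases lt_trichotomy (j : ℕ) (i : ℕ) with h | h | h
          · simp [show j < i from h]
          · obtain rfl : j = i := Fin.ext h
            simp
          · simp [show ¬ j < i from not_lt.2 h.le, Fin.ne_of_val_ne (by omega : (j : ℕ) ≠ i), (g.2 i).1.1 j h]
        · simp [(g.2 i).1.2 j])
      right_inv := fun p => funext fun i => Prod.ext (Subtype.ext (by simp))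
        (funext fun l => by simp [show Fin.castLE i.2.le l < i from l.2]) }
  rw [Nat.card_congr e, Nat.card_pi]
  have : ∀ i : Fin m, Nat.card ({x : F // x ≠ 0} × (Fin (i : ℕ) → F)) =
      (Fintype.card F - 1) * Fintype.card F ^ (i : ℕ) := by
    intro i
    rw [Nat.card_prod, Nat.card_fun, Nat.card_fin, Nat.card_eq_fintype_card,
      Fintype.card_subtype_compl, Fintype.card_subtype_eq, Nat.card_eq_fintype_card]
  rw [Finset.prod_congr rfl fun i _ => this i, Finset.prod_mul_distrib, Finset.prod_const,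
    Finset.card_univ, Fintype.card_fin, Fin.prod_univ_eq_prod_range (fun i => Fintype.card F ^ i) m,
    Finset.prod_pow_eq_pow_sum]

theorem adapted_li {g : Fin m → Fin m ⊕ Fin m → F} (hg : g ∈ adapted F m) :
    LinearIndependent F g := by
  classical
  rw [Fintype.linearIndependent_iff]
  intro c hc
  by_contra hne
  push Not at hne
  obtain ⟨i, hi, hmax⟩ := Finset.exists_max_image (Finset.univ.filter fun i => c i ≠ 0) id
    (by obtain ⟨i, hi⟩ := hne; exact ⟨i, by simp [hi]⟩)
  simp only [Finset.mem_filter, Finset.mem_univ, true_and, id] at hi hmax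
  have h := congrFun hc (Sum.inl i)
  rw [Finset.sum_apply, Finset.sum_eq_single i] at h
  · simp [hi, (hg i).2] at h
  · intro j _ hj
    rcases eq_or_ne (c j) 0 with h0 | h0
    · simp [h0]
    · have hlt : j < i := lt_of_le_of_ne (hmax j h0) hj
      simp [(hg j).1.1 i hlt]
  · simp

theorem adapted_iso {g : Fin m → Fin m ⊕ Fin m → F} (hg : g ∈ adapted F m) (i j : Fin m) :
    Cfsg.sympForm m F (g i) (g j) = 0 := by
  rw [sympForm_eq]
  refine Finset.sum_eq_zero fun l _ => ?_
  rw [(hg i).1.2, (hg j).1.2]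
  ring

theorem natCard_borel [Fintype F] :
    Nat.card ↥(⨅ k : Fin m, Cfsg.stabilizing (Cfsg.spToMat m F) (flag F k)) *
        Nat.card (IT F m m) =
      Nat.card (adapted F m) * Nat.card (Matrix.symplecticGroup (Fin m) F) := by
  have hstd : ∀ i : Fin m, stdTuple F le_rfl i ∈ flag F i ∧ stdTuple F le_rfl i (Sum.inl i) ≠ 0 := by
    intro i
    refine ⟨⟨fun j hj => ?_, fun j => ?_⟩, ?_⟩
    · simp [stdTuple, Fin.ne_of_val_ne (by omega : (j : ℕ) ≠ i)]
    · simp [stdTuple]
    · simp [stdTuple]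
  refine natCard_subgroup_orbit _ ⟨stdTuple F le_rfl, stdTuple_li _, stdTuple_iso _⟩ _ ?_ ?_ ?_
  · intro A hA
    have hfix : ∀ B ∈ fixer (stdTuple F (m := m) le_rfl), ∀ k, ∀ v ∈ flag F k,
        (B : Matrix (Fin m ⊕ Fin m) (Fin m ⊕ Fin m) F) *ᵥ v = v := by
      intro B hB k v hv
      conv_lhs => rw [mem_flag_expand hv]
      rw [← Matrix.mulVecLin_apply, map_sum]
      conv_rhs => rw [mem_flag_expand hv]
      refine Finset.sum_congr rfl fun i _ => ?_
      rw [map_smul, Matrix.mulVecLin_apply]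
      congr 1
      exact congrFun hB i
    rw [Subgroup.mem_iInf]
    intro k v
    constructor
    · intro hv
      show _ *ᵥ v ∈ _
      rwa [show Cfsg.spToMat m F A = (A : Matrix (Fin m ⊕ Fin m) (Fin m ⊕ Fin m) F) from rfl,
        hfix A hA k v hv]
    · intro hv
      have h1 := hfix A⁻¹ (Subgroup.inv_mem _ hA) k _ hv
      rw [show Cfsg.spToMat m F A = (A : Matrix (Fin m ⊕ Fin m) (Fin m ⊕ Fin m) F) from rfl,
        ← mul_mulVec_sp, inv_mul_cancel] at h1
      have h2 : v = _ := (one_mulVec v).symm.trans h1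
      rw [h2]
      exact hv
  · intro A hA
    rw [Subgroup.mem_iInf] at hA
    intro i
    refine ⟨(hA i (stdTuple F le_rfl i)).1 (hstd i).1, fun h0 => ?_⟩
    rcases Nat.eq_zero_or_pos (i : ℕ) with hi | hi
    · have h1 := (hA i (stdTuple F le_rfl i)).1 (hstd i).1
      have hz : (A : Matrix (Fin m ⊕ Fin m) (Fin m ⊕ Fin m) F) *ᵥ stdTuple F le_rfl i = 0 := by
        funext z
        rcases z with j | j
        · rcases eq_or_ne j i with rfl | hj
          · exact h0
          · exact h1.1 j (by have := Fin.val_ne_of_ne hj; omega)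
        · exact h1.2 j
      have := sp_injective A (a₁ := stdTuple F le_rfl i) (a₂ := 0) (by
        rw [Matrix.mulVecLin_apply, map_zero]; exact hz)
      exact (hstd i).2 (by rw [this]; rfl)
    · have hmem : (A : Matrix (Fin m ⊕ Fin m) (Fin m ⊕ Fin m) F) *ᵥ stdTuple F le_rfl i ∈
          flag F (⟨(i : ℕ) - 1, by omega⟩ : Fin m) := by
        have h1 := (hA i (stdTuple F le_rfl i)).1 (hstd i).1
        refine ⟨fun j hj => ?_, h1.2⟩
        rcases eq_or_ne j i with rfl | hj'
        · exact h0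
        · exact h1.1 j (by have := Fin.val_ne_of_ne hj'; simp only at hj; omega)
      exact (hstd i).2 (((hA _ (stdTuple F le_rfl i)).2 hmem).1 i (by simp only; omega))
  · intro g hg
    obtain ⟨A, hA⟩ := exists_move_tuple (stdTuple_li le_rfl) (adapted_li hg) (stdTuple_iso le_rfl)
      (adapted_iso hg)
    refine ⟨A, ?_, funext hA⟩
    rw [Subgroup.mem_iInf]
    intro k
    have hfwd : ∀ v ∈ flag F k, (A : Matrix (Fin m ⊕ Fin m) (Fin m ⊕ Fin m) F) *ᵥ v ∈ flag F k := by
      intro v hv
      rw [mem_flag_expand hv, ← Matrix.mulVecLin_apply, map_sum]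
      refine ⟨fun j hj => ?_, fun j => ?_⟩
      · rw [Finset.sum_apply]
        refine Finset.sum_eq_zero fun i _ => ?_
        rw [map_smul, Matrix.mulVecLin_apply, hA, Pi.smul_apply]
        rcases Nat.lt_or_ge (k : ℕ) (i : ℕ) with h | h
        · rw [hv.1 i h, zero_smul]
        · rw [(hg i).1.1 j (by omega), smul_zero]
      · rw [Finset.sum_apply]
        refine Finset.sum_eq_zero fun i _ => ?_
        rw [map_smul, Matrix.mulVecLin_apply, hA, Pi.smul_apply, (hg i).1.2, smul_zero]
    intro v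
    refine ⟨hfwd v, fun hv => ?_⟩
    have hbij : Function.Bijective fun w : flag F k =>
        (⟨_, hfwd w.1 w.2⟩ : flag F k) :=
      Finite.injective_iff_bijective.1 fun a b h =>
        Subtype.ext (sp_injective A (congrArg Subtype.val h))
    obtain ⟨w, hw⟩ := hbij.2 ⟨_, hv⟩
    exact sp_injective A (congrArg Subtype.val hw) ▸ w.2

end



/-- Borel subgroup of the symplectic group: the elements of Sp_2m(q) stabilising each of the totally isotropic coordinate subspaces ⟨e_0, ..., e_k⟩ (k < m) form a subgroup of order q^(m²) (q − 1)^m. -/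
theorem result {F : Type*} [Field F] [Fintype F] {q : ℕ} (hF : Fintype.card F = q) (m : ℕ) : Nat.card ↥(⨅ k : Fin m, Cfsg.stabilizing (Cfsg.spToMat m F) {v : Fin m ⊕ Fin m → F | (∀ i : Fin m, (k : ℕ) < (i : ℕ) → v (Sum.inl i) = 0) ∧ ∀ i : Fin m, v (Sum.inr i) = 0}) = q ^ (m ^ 2) * (q - 1) ^ m := by
  have h : Nat.card ↥(⨅ k : Fin m, Cfsg.stabilizing (Cfsg.spToMat m F) (flag F k)) *
      Nat.card (Forms.SympStab.IT F m m) = _ := natCard_borel
  rw [natCard_adapted, Classical.Symplectic.natCard_sp, Forms.SympStab.natCard_IT le_rfl, hF] at h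
  have hT : 0 < ∏ j : Fin m, (q ^ (2 * m - (j : ℕ)) - q ^ (j : ℕ)) := by
    refine Finset.prod_pos fun j _ => Nat.sub_pos_of_lt ?_
    exact Nat.pow_lt_pow_right (hF ▸ Fintype.one_lt_card) (by omega)
  refine Nat.eq_of_mul_eq_mul_right hT (h.trans ?_)
  have h2 := Forms.SympStab.prod_tuples q m m le_rfl
  rw [Nat.sub_self, Finset.range_zero, Finset.prod_empty, mul_one] at h2
  rw [h2]
  ring

end Cfsg.Agent.S0774
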