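import Cfsg.Statements.S0775
import Cfsg.Agent.Lib.Forms.SympStab
-- import your own Cfsg.Agent.* helpers here

set_option autoImplicit false
open Cfsg

namespace Cfsg.Agent.S0775



/-- Maximal parabolics of the symplectic group: if W is a k-dimensional subspace of F^(2m) on which the symplectic form vanishes identically, its stabiliser in Sp_2m(q) has order q^(k(k+1)/2 + 2k(m−k)) · |Sp_(2m−2k)(q)| · |GL_k(q)|. -/
theorem result {F : Type*} [Field F] [Fintype F] {q : ℕ} (hF : Fintype.card F = q) (m k : ℕ) (hk : k ≤ m) (W : Submodule F (Fin m ⊕ Fin m → F)) (hWk : Module.finrank F W = k) (hW : ∀ u ∈ W, ∀ v ∈ W, Cfsg.sympForm m F u v = 0) : Nat.card ↥(Cfsg.stabilizing (Cfsg.spToMat m F) (W : Set (Fin m ⊕ Fin m → F))) = q ^ (k * (k + 1) / 2 + 2 * k * (m - k)) * (q ^ ((m - k) ^ 2) * ∏ i ∈ Finset.range (m - k), (q ^ (2 * (i + 1)) - 1)) * ∏ i : Fin k, (q ^ k - q ^ (i : ℕ)) := by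
  have h := Forms.SympStab.natCard_stab_mul W hWk hW
  rw [Classical.Symplectic.natCard_sp, Forms.SympStab.natCard_IT hk, hF] at h
  have hT : 0 < ∏ j : Fin k, (q ^ (2 * m - (j : ℕ)) - q ^ (j : ℕ)) := by
    refine Finset.prod_pos fun j _ => Nat.sub_pos_of_lt ?_
    exact Nat.pow_lt_pow_right (hF ▸ Fintype.one_lt_card) (by omega)
  refine Nat.eq_of_mul_eq_mul_right hT (h.trans ?_)
  have he : k * (k + 1) / 2 + 2 * k * (m - k) + (m - k) ^ 2 + ∑ j ∈ Finset.range k, j = m ^ 2 := by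
    have := Forms.SympStab.sum_id_exp k
    obtain ⟨r, rfl⟩ : ∃ r, m = k + r := ⟨m - k, by omega⟩
    rw [Nat.add_sub_cancel_left, show (k + r) ^ 2 = k * k + 2 * k * r + r ^ 2 by ring]
    omega
  rw [← he]
  simp only [pow_add]
  linear_combination (q ^ (k * (k + 1) / 2) * q ^ (2 * k * (m - k)) * q ^ ((m - k) ^ 2) *
    ∏ i : Fin k, (q ^ k - q ^ (i : ℕ))) * (Forms.SympStab.prod_tuples q m k hk).symm

end Cfsg.Agent.S0775
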