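import Cfsg.Statements.S0776
import Cfsg.Agent.Lib.Forms.SympStd
import Cfsg.Agent.Lib.Forms.Bases

set_option autoImplicit false
open Cfsg Cfsg.Agent.Forms.SympStd

namespace Cfsg.Agent.S0776

open Matrix

variable {F : Type*} [Field F] {m k l : ℕ}

/-- The orthogonal sum of two standard alternating forms, seen on the block coordinates. -/
def blockForm (x y : (Fin k ⊕ Fin k) ⊕ (Fin l ⊕ Fin l) → F) : F :=
  Cfsg.sympForm k F (x ∘ Sum.inl) (y ∘ Sum.inl) + Cfsg.sympForm l F (x ∘ Sum.inr) (y ∘ Sum.inr)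

theorem exists_adapted (hk : k ≤ m) (W : Submodule F (Fin m ⊕ Fin m → F))
    (hWk : Module.finrank F W = 2 * k)
    (hW : ∀ u ∈ W, (∀ v ∈ W, Cfsg.sympForm m F u v = 0) → u = 0) :
    ∃ b : Module.Basis ((Fin k ⊕ Fin k) ⊕ (Fin (m - k) ⊕ Fin (m - k))) F (Fin m ⊕ Fin m → F),
      (∀ x y, Cfsg.sympForm m F (b.equivFun.symm x) (b.equivFun.symm y) = blockForm x y) ∧
      W = Submodule.span F (Set.range fun i => b (Sum.inl i)) := by
  classical
  set B := sympB m F with hB
  have hA : B.IsAlt := sympB_isAlt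
  have hs : ∀ u v, B v u = - B u v := fun u v => (LinearMap.IsAlt.neg hA u v).symm
  have hWn : Cfsg.Agent.Forms.Bases.NondegOn B W := fun u hu h =>
    hW u hu fun v hv => by rw [← sympB_apply]; exact h v hv
  have hrefl : B.IsRefl := fun u v h => by rw [hs u v, h, neg_zero]
  set P := B.orthogonal W with hP
  have hPmem : ∀ x, x ∈ P ↔ ∀ w ∈ W, B w x = 0 := fun x => Iff.rfl
  have hcompl : IsCompl W P := by
    rw [hP, LinearMap.BilinForm.isCompl_orthogonal_iff_disjoint hrefl]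
    rw [Submodule.disjoint_def]
    exact fun x hx hxP => hWn x hx fun v hv => by rw [hs v x, (hPmem x).1 hxP v hv, neg_zero]
  have hPn : Cfsg.Agent.Forms.Bases.NondegOn B P := fun u hu h => by
    refine sympB_nondegenerate.1 u fun z => ?_
    obtain ⟨w, hw, p, hp, rfl⟩ := Submodule.mem_sup.1
      (show z ∈ W ⊔ P by rw [hcompl.sup_eq_top]; trivial)
    rw [← hB, map_add, h p hp, add_zero, hs w u, (hPmem u).1 hu w hw, neg_zero]
  obtain ⟨r, e, f, hef⟩ := Cfsg.Agent.Forms.Bases.exists_sympFamily B hA W hWn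
  obtain ⟨r', e', f', hef'⟩ := Cfsg.Agent.Forms.Bases.exists_sympFamily B hA P hPn
  have hr := hef.finrank_eq
  have hr' := hef'.finrank_eq
  have hsum := Submodule.finrank_add_eq_of_isCompl hcompl
  rw [finrank_vec, hWk] at hsum
  obtain rfl : r = k := by omega
  obtain rfl : r' = m - r := by omega
  have hspanW : Submodule.span F (Set.range (Sum.elim e f)) = W := le_antisymm
    (Submodule.span_le.2 (by rintro _ ⟨i | i, rfl⟩; exacts [hef.e_mem i, hef.f_mem i])) hef.span
  have hspanP : Submodule.span F (Set.range (Sum.elim e' f')) = P := le_antisymm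
    (Submodule.span_le.2 (by rintro _ ⟨i | i, rfl⟩; exacts [hef'.e_mem i, hef'.f_mem i])) hef'.span
  let w := Sum.elim (Sum.elim f e) (Sum.elim f' e')
  have hli : LinearIndependent F w := by
    have h1 := hef.linearIndependent.comp _ (Equiv.sumComm (Fin r) (Fin r)).injective
    have h2 := hef'.linearIndependent.comp _ (Equiv.sumComm (Fin (m - r)) (Fin (m - r))).injective
    have e1 : Sum.elim e f ∘ Equiv.sumComm (Fin r) (Fin r) = Sum.elim f e := by
      funext i; cases i <;> rfl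
    have e2 : Sum.elim e' f' ∘ Equiv.sumComm (Fin (m - r)) (Fin (m - r)) = Sum.elim f' e' := by
      funext i; cases i <;> rfl
    rw [e1] at h1; rw [e2] at h2
    refine h1.sum_type h2 (hcompl.disjoint.mono ?_ ?_)
    · refine Submodule.span_le.2 ?_
      rintro _ ⟨i | i, rfl⟩
      exacts [hef.f_mem i, hef.e_mem i]
    · refine Submodule.span_le.2 ?_
      rintro _ ⟨i | i, rfl⟩
      exacts [hef'.f_mem i, hef'.e_mem i]
  let b := basisOfLinearIndependentOfCardEqFinrank' w hli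
    (by rw [finrank_vec]; simp only [Fintype.card_sum, Fintype.card_fin]; omega)
  have hbw : ⇑b = w := coe_basisOfLinearIndependentOfCardEqFinrank' w hli _
  refine ⟨b, fun x y => ?_, ?_⟩
  · have hWP : ∀ {u v}, u ∈ W → v ∈ P → B u v = 0 ∧ B v u = 0 := fun {u v} hu hv =>
      ⟨(hPmem v).1 hv u hu, by rw [hs u v, (hPmem v).1 hv u hu, neg_zero]⟩
    let pl : ((Fin r ⊕ Fin r) ⊕ (Fin (m - r) ⊕ Fin (m - r)) → F) →ₗ[F] (Fin r ⊕ Fin r → F) :=
      LinearMap.funLeft F F Sum.inl
    let pr : ((Fin r ⊕ Fin r) ⊕ (Fin (m - r) ⊕ Fin (m - r)) → F) →ₗ[F]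
        (Fin (m - r) ⊕ Fin (m - r) → F) := LinearMap.funLeft F F Sum.inr
    have key : LinearMap.compl₁₂ B b.equivFun.symm.toLinearMap b.equivFun.symm.toLinearMap =
        LinearMap.compl₁₂ (sympB r F) pl pl + LinearMap.compl₁₂ (sympB (m - r) F) pr pr := by
      refine LinearMap.ext_basis (Pi.basisFun F _) (Pi.basisFun F _) fun i j => ?_
      have hsl : ∀ i : Fin r ⊕ Fin r, pl (Pi.single (Sum.inl i) 1) = Pi.single i 1 := fun i => by
        funext a; simp [pl, LinearMap.funLeft_apply, Pi.single_apply]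
      have hsl' : ∀ i, pl (Pi.single (Sum.inr i) 1) = 0 := fun i => by
        funext a; simp [pl, LinearMap.funLeft_apply, Pi.single_apply]
      have hsr : ∀ i : Fin (m - r) ⊕ Fin (m - r), pr (Pi.single (Sum.inr i) 1) = Pi.single i 1 :=
        fun i => by funext a; simp [pr, LinearMap.funLeft_apply, Pi.single_apply]
      have hsr' : ∀ i, pr (Pi.single (Sum.inl i) 1) = 0 := fun i => by
        funext a; simp [pr, LinearMap.funLeft_apply, Pi.single_apply]
      have hbs : ∀ i, b.equivFun.symm (Pi.single i 1) = w i := fun i => by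
        rw [← hbw]; simp
      simp only [Pi.basisFun_apply, LinearMap.compl₁₂_apply, LinearMap.add_apply,
        LinearEquiv.coe_coe, hbs]
      rcases i with (i | i) | (i | i) <;> rcases j with (j | j) | (j | j)
      all_goals simp only [w, Sum.elim_inl, Sum.elim_inr, hsl, hsl', hsr, hsr', map_zero,
        LinearMap.zero_apply, add_zero, zero_add, sympB_apply, sympForm_inl_inl,
        sympForm_inr_inr, sympForm_inl_inr, sympForm_inr_inl]
      all_goals first
        | exact hef.ff i j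
        | exact hef.ee i j
        | exact hef.ef i j
        | exact hef'.ff i j
        | exact hef'.ee i j
        | exact hef'.ef i j
        | (rw [hs (e j) (f i), hef.ef]; by_cases h : i = j <;> simp [h, Ne.symm])
        | (rw [hs (e' j) (f' i), hef'.ef]; by_cases h : i = j <;> simp [h, Ne.symm])
        | exact (hWP (hef.f_mem i) (hef'.f_mem j)).1
        | exact (hWP (hef.f_mem i) (hef'.e_mem j)).1
        | exact (hWP (hef.e_mem i) (hef'.f_mem j)).1
        | exact (hWP (hef.e_mem i) (hef'.e_mem j)).1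
        | exact (hWP (hef.f_mem j) (hef'.f_mem i)).2
        | exact (hWP (hef.e_mem j) (hef'.f_mem i)).2
        | exact (hWP (hef.f_mem j) (hef'.e_mem i)).2
        | exact (hWP (hef.e_mem j) (hef'.e_mem i)).2
    have h1 := congrArg (fun C : LinearMap.BilinForm F _ => C x y) key
    simp only [LinearMap.compl₁₂_apply, LinearMap.add_apply, hB, sympB_apply,
      LinearEquiv.coe_coe] at h1
    exact h1
  · refine hspanW.symm.trans ?_
    have e1 : (fun i => b (Sum.inl i)) = Sum.elim e f ∘ Equiv.sumComm (Fin r) (Fin r) := by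
      funext i; rw [hbw]; cases i <;> rfl
    rw [e1, (Equiv.sumComm (Fin r) (Fin r)).surjective.range_comp]

/-- Block matrices in the basis `b`. -/
noncomputable def blockHom
    (b : Module.Basis ((Fin k ⊕ Fin k) ⊕ (Fin l ⊕ Fin l)) F (Fin m ⊕ Fin m → F)) :
    (symplecticGroup (Fin k) F × symplecticGroup (Fin l) F) →* Matrix (Fin m ⊕ Fin m) (Fin m ⊕ Fin m) F :=
  ((Matrix.toLinAlgEquiv b).trans LinearMap.toMatrixAlgEquiv').toRingEquiv.toRingHom.toMonoidHom.comp
    { toFun := fun AB => fromBlocks (AB.1 : Matrix (Fin k ⊕ Fin k) (Fin k ⊕ Fin k) F) 0 0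
        (AB.2 : Matrix (Fin l ⊕ Fin l) (Fin l ⊕ Fin l) F)
      map_one' := by simp
      map_mul' := fun x y => by simp [fromBlocks_multiply] }

variable (b : Module.Basis ((Fin k ⊕ Fin k) ⊕ (Fin l ⊕ Fin l)) F (Fin m ⊕ Fin m → F))

theorem blockHom_apply (AB : symplecticGroup (Fin k) F × symplecticGroup (Fin l) F)
    (x : (Fin k ⊕ Fin k) ⊕ (Fin l ⊕ Fin l) → F) :
    blockHom b AB *ᵥ (b.equivFun.symm x) =
      b.equivFun.symm (fromBlocks (AB.1 : Matrix (Fin k ⊕ Fin k) (Fin k ⊕ Fin k) F) 0 0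
        (AB.2 : Matrix (Fin l ⊕ Fin l) (Fin l ⊕ Fin l) F) *ᵥ x) := by
  rw [← Matrix.toLin'_apply]
  simp only [blockHom, MonoidHom.comp_apply]
  show Matrix.toLin' (LinearMap.toMatrixAlgEquiv' (Matrix.toLinAlgEquiv b _)) _ = _
  rw [show ∀ f : (Fin m ⊕ Fin m → F) →ₗ[F] (Fin m ⊕ Fin m → F),
    Matrix.toLin' (LinearMap.toMatrixAlgEquiv' f) = f from fun f => Matrix.toLin'_toMatrix' f]
  simp only [Matrix.toLinAlgEquiv_apply, MonoidHom.coe_mk, OneHom.coe_mk]
  rw [b.equivFun_symm_apply (fromBlocks _ _ _ _ *ᵥ x)]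
  refine Finset.sum_congr rfl fun i _ => ?_
  congr 3
  exact b.equivFun.apply_symm_apply x

variable (hb : ∀ x y, Cfsg.sympForm m F (b.equivFun.symm x) (b.equivFun.symm y) = blockForm x y)

include hb in
theorem blockHom_mem (AB : symplecticGroup (Fin k) F × symplecticGroup (Fin l) F) :
    blockHom b AB ∈ symplecticGroup (Fin m) F := by
  refine mem_sp_iff.2 fun u v => ?_
  obtain ⟨x, rfl⟩ := b.equivFun.symm.surjective u
  obtain ⟨y, rfl⟩ := b.equivFun.symm.surjective v
  rw [blockHom_apply, blockHom_apply, hb, hb, blockForm, blockForm, fromBlocks_mulVec,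
    fromBlocks_mulVec]
  simp only [Sum.elim_comp_inl, Sum.elim_comp_inr, zero_mulVec, add_zero, zero_add, sympForm_mulVec]

theorem mem_span_inl {W : Submodule F (Fin m ⊕ Fin m → F)}
    (hbW : W = Submodule.span F (Set.range fun i => b (Sum.inl i)))
    (x : (Fin k ⊕ Fin k) ⊕ (Fin l ⊕ Fin l) → F) :
    b.equivFun.symm x ∈ W ↔ x ∘ Sum.inr = 0 := by
  subst hbW
  constructor
  · intro h
    obtain ⟨c, hc⟩ := (Submodule.mem_span_range_iff_exists_fun F).1 h
    have : x = Sum.elim c 0 := b.equivFun.symm.injective (by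
      rw [← hc, b.equivFun_symm_apply (Sum.elim c 0), Fintype.sum_sum_type]; simp)
    rw [this]; rfl
  · intro h
    rw [b.equivFun_symm_apply, Fintype.sum_sum_type]
    refine Submodule.add_mem _ (Submodule.sum_mem _ fun i _ => Submodule.smul_mem _ _
      (Submodule.subset_span ⟨i, rfl⟩)) ?_
    simp [show ∀ i, x (Sum.inr i) = 0 from congrFun h]

theorem blockHom_stab {W : Submodule F (Fin m ⊕ Fin m → F)}
    (hbW : W = Submodule.span F (Set.range fun i => b (Sum.inl i)))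
    (AB : symplecticGroup (Fin k) F × symplecticGroup (Fin l) F)
    (v : Fin m ⊕ Fin m → F) : v ∈ (W : Set (Fin m ⊕ Fin m → F)) ↔
      blockHom b AB *ᵥ v ∈ (W : Set (Fin m ⊕ Fin m → F)) := by
  obtain ⟨x, rfl⟩ := b.equivFun.symm.surjective v
  show b.equivFun.symm x ∈ W ↔ blockHom b AB *ᵥ _ ∈ W
  rw [blockHom_apply, mem_span_inl b hbW, mem_span_inl b hbW, fromBlocks_mulVec]
  simp only [Sum.elim_comp_inr, zero_mulVec, zero_add]
  refine ⟨fun h => by rw [h, mulVec_zero], fun h => ?_⟩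
  have h2 : ((AB.2⁻¹ * AB.2 : symplecticGroup (Fin l) F) :
      Matrix (Fin l ⊕ Fin l) (Fin l ⊕ Fin l) F) *ᵥ (x ∘ Sum.inr) = x ∘ Sum.inr := by
    rw [inv_mul_cancel]; exact one_mulVec _
  rwa [mul_mulVec_sp, h, mulVec_zero, eq_comm] at h2

theorem blockHom_injective : Function.Injective (blockHom b) := by
  intro x y h
  have h1 : fromBlocks (x.1 : Matrix (Fin k ⊕ Fin k) (Fin k ⊕ Fin k) F) 0 0
      (x.2 : Matrix (Fin l ⊕ Fin l) (Fin l ⊕ Fin l) F) =
    fromBlocks (y.1 : Matrix (Fin k ⊕ Fin k) (Fin k ⊕ Fin k) F) 0 0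
      (y.2 : Matrix (Fin l ⊕ Fin l) (Fin l ⊕ Fin l) F) :=
    Matrix.ext_iff_mulVec.2 fun z => b.equivFun.symm.injective (by
      rw [← blockHom_apply b x z, ← blockHom_apply b y z, h])
  rw [fromBlocks_inj] at h1
  exact Prod.ext (Subtype.ext h1.1) (Subtype.ext h1.2.2.2)

include hb in
theorem blockHom_surj {W : Submodule F (Fin m ⊕ Fin m → F)}
    (hbW : W = Submodule.span F (Set.range fun i => b (Sum.inl i)))
    (g : symplecticGroup (Fin m) F)
    (hg : g ∈ Cfsg.stabilizing (Cfsg.spToMat m F) (W : Set (Fin m ⊕ Fin m → F))) :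
    ∃ AB, blockHom b AB = (g : Matrix (Fin m ⊕ Fin m) (Fin m ⊕ Fin m) F) := by
  classical
  set M := (g : Matrix (Fin m ⊕ Fin m) (Fin m ⊕ Fin m) F) with hM
  let T : Matrix ((Fin k ⊕ Fin k) ⊕ (Fin l ⊕ Fin l)) ((Fin k ⊕ Fin k) ⊕ (Fin l ⊕ Fin l)) F :=
    LinearMap.toMatrix' (b.equivFun.toLinearMap ∘ₗ Matrix.toLin' M ∘ₗ b.equivFun.symm.toLinearMap)
  have hT : ∀ x, M *ᵥ b.equivFun.symm x = b.equivFun.symm (T *ᵥ x) := fun x => by
    simp only [T, ← Matrix.toLin'_apply, Matrix.toLin'_toMatrix', LinearMap.comp_apply,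
      LinearEquiv.coe_coe, LinearEquiv.symm_apply_apply]
  have hpres : ∀ x y, blockForm (T *ᵥ x) (T *ᵥ y) = blockForm x y := fun x y => by
    rw [← hb, ← hb, ← hT, ← hT]; exact sympForm_mulVec g _ _
  have hstab : ∀ x, x ∘ Sum.inr = 0 ↔ (T *ᵥ x) ∘ Sum.inr = 0 := fun x => by
    rw [← mem_span_inl b hbW, ← mem_span_inl b hbW, ← hT]
    exact hg _
  have h21 : T.toBlocks₂₁ = 0 := by
    ext i j
    have h1 := (hstab (Pi.single (Sum.inl j) 1)).1 (by ext i; simp)
    simpa [toBlocks₂₁, mulVec_single] using congrFun h1 i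
  have hTdec : T = fromBlocks T.toBlocks₁₁ T.toBlocks₁₂ 0 T.toBlocks₂₂ := by
    rw [← h21, fromBlocks_toBlocks]
  have hA' : T.toBlocks₁₁ ∈ symplecticGroup (Fin k) F := mem_sp_iff.2 fun c c' => by
    have h1 := hpres (Sum.elim c 0) (Sum.elim c' 0)
    rw [hTdec, fromBlocks_mulVec, fromBlocks_mulVec] at h1
    simpa [blockForm, Cfsg.sympForm] using h1
  have hmix : ∀ c d, Cfsg.sympForm k F (T.toBlocks₁₁ *ᵥ c) (T.toBlocks₁₂ *ᵥ d) = 0 := fun c d => by
    have h1 := hpres (Sum.elim c 0) (Sum.elim 0 d)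
    rw [hTdec, fromBlocks_mulVec, fromBlocks_mulVec] at h1
    simpa [blockForm, Cfsg.sympForm] using h1
  have h12 : T.toBlocks₁₂ = 0 := by
    refine Matrix.ext_iff_mulVec.2 fun d => ?_
    rw [zero_mulVec]
    refine sympB_nondegenerate.2 _ fun z => ?_
    have h1 := hmix (((⟨_, hA'⟩ : symplecticGroup (Fin k) F)⁻¹ :
      symplecticGroup (Fin k) F).1 *ᵥ z) d
    have h2 := mul_mulVec_sp (⟨_, hA'⟩ : symplecticGroup (Fin k) F) (⟨_, hA'⟩)⁻¹ z
    rw [mul_inv_cancel] at h2
    change (1 : Matrix (Fin k ⊕ Fin k) (Fin k ⊕ Fin k) F) *ᵥ z = T.toBlocks₁₁ *ᵥ _ at h2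
    rw [one_mulVec] at h2
    rw [← h2] at h1
    rw [sympB_apply]; exact h1
  have hTdec2 : T = fromBlocks T.toBlocks₁₁ 0 0 T.toBlocks₂₂ := by rw [← h12]; exact hTdec
  have hD' : T.toBlocks₂₂ ∈ symplecticGroup (Fin l) F := mem_sp_iff.2 fun c c' => by
    have h1 := hpres (Sum.elim 0 c) (Sum.elim 0 c')
    rw [hTdec2, fromBlocks_mulVec, fromBlocks_mulVec] at h1
    simpa [blockForm, Cfsg.sympForm] using h1
  refine ⟨(⟨_, hA'⟩, ⟨_, hD'⟩), Matrix.ext_iff_mulVec.2 fun v => ?_⟩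
  obtain ⟨x, rfl⟩ := b.equivFun.symm.surjective v
  rw [blockHom_apply, hT]
  exact congrArg (fun X => b.equivFun.symm (X *ᵥ x)) hTdec2.symm

/-- If W ≤ F^(2m) is a 2k-dimensional subspace on which the symplectic form is non-degenerate, then the stabiliser of W in Sp_2m(F) is isomorphic to Sp_2k(F) × Sp_(2m−2k)(F). -/
theorem result {F : Type*} [Field F] (m k : ℕ) (hk : k ≤ m) (W : Submodule F (Fin m ⊕ Fin m → F)) (hWk : Module.finrank F W = 2 * k) (hW : ∀ u ∈ W, (∀ v ∈ W, Cfsg.sympForm m F u v = 0) → u = 0) : Nonempty (↥(Cfsg.stabilizing (Cfsg.spToMat m F) (W : Set (Fin m ⊕ Fin m → F))) ≃* Matrix.symplecticGroup (Fin k) F × Matrix.symplecticGroup (Fin (m - k)) F) := by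
  classical
  obtain ⟨b, hb, hbW⟩ := exists_adapted hk W hWk hW
  let G := Cfsg.stabilizing (Cfsg.spToMat m F) (W : Set (Fin m ⊕ Fin m → F))
  let Φ : (Matrix.symplecticGroup (Fin k) F × Matrix.symplecticGroup (Fin (m - k)) F) →* G :=
    MonoidHom.codRestrict (MonoidHom.codRestrict (blockHom b) (Matrix.symplecticGroup (Fin m) F)
      (fun AB => blockHom_mem b hb AB)) G (fun AB => blockHom_stab b hbW AB)
  exact ⟨(MulEquiv.ofBijective Φ ⟨fun x y h =>
    blockHom_injective b (congrArg (fun z : G =>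
      ((z : Matrix.symplecticGroup (Fin m) F) : Matrix (Fin m ⊕ Fin m) (Fin m ⊕ Fin m) F)) h),
    fun z => by
      obtain ⟨AB, hAB⟩ := blockHom_surj b hb hbW z.1 z.2
      exact ⟨AB, Subtype.ext (Subtype.ext hAB)⟩⟩).symm⟩

end Cfsg.Agent.S0776
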