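import Cfsg.Statements.S0777
import Cfsg.Agent.Lib.Forms.SympStab
-- import your own Cfsg.Agent.* helpers here

set_option autoImplicit false
open Cfsg

namespace Cfsg.Agent.S0777

open Matrix Cfsg.Agent.Forms.SympStd Cfsg.Agent.Forms.SympStab

section

variable {F : Type*} [Field F] {m : ℕ}

local notation "Vec" => (Fin m ⊕ Fin m → F)
local notation "Mat" => Matrix (Fin m ⊕ Fin m) (Fin m ⊕ Fin m) F
local notation "Sp" => symplecticGroup (Fin m) F

/-- standard vectors -/
def e (F : Type*) [Field F] {m : ℕ} (z : Fin m ⊕ Fin m) : Fin m ⊕ Fin m → F := Pi.single z 1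

/-- the diagonal torus -/
def torus (F : Type*) [Field F] (m : ℕ) : Subgroup (symplecticGroup (Fin m) F) :=
  ⨅ i : Fin m ⊕ Fin m, Cfsg.stabilizing (Cfsg.spToMat m F)
    ((Submodule.span F {(Pi.single i (1 : F) : Fin m ⊕ Fin m → F)} :
      Submodule F (Fin m ⊕ Fin m → F)) : Set (Fin m ⊕ Fin m → F))

theorem e_ne (z : Fin m ⊕ Fin m) : e F z ≠ 0 := fun h => by simpa [e] using congrFun h z

theorem mem_torus {h : Sp} : h ∈ torus F m ↔ ∀ z, ∃ l : F, (h : Mat) *ᵥ e F z = l • e F z := by
  rw [torus, Subgroup.mem_iInf]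
  constructor
  · intro hh z
    obtain ⟨l, hl⟩ := Submodule.mem_span_singleton.1
      ((hh z (e F z)).1 (Submodule.mem_span_singleton_self _))
    exact ⟨l, hl.symm⟩
  · intro hh z v
    obtain ⟨l, hl⟩ := hh z
    have hl0 : l ≠ 0 := fun h0 => e_ne z (sp_injective h (a₁ := e F z) (a₂ := 0) (by
      rw [Matrix.mulVecLin_apply, map_zero, hl, h0, zero_smul]))
    show v ∈ Submodule.span F {e F z} ↔ (h : Mat) *ᵥ v ∈ Submodule.span F {e F z}
    rw [Submodule.mem_span_singleton, Submodule.mem_span_singleton]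
    constructor
    · rintro ⟨c, rfl⟩
      exact ⟨c * l, by rw [mulVec_smul, hl, smul_smul]⟩
    · rintro ⟨c, hc⟩
      refine ⟨c / l, sp_injective h ?_⟩
      rw [Matrix.mulVecLin_apply, Matrix.mulVecLin_apply, mulVec_smul, hl, smul_smul,
        div_mul_cancel₀ _ hl0, hc]

/-- image index -/
def tgt (σ : Equiv.Perm (Fin m)) (ε : Fin m → Bool) : Fin m ⊕ Fin m → Fin m ⊕ Fin m
  | .inl a => if ε a then .inr (σ a) else .inl (σ a)
  | .inr a => if ε a then .inl (σ a) else .inr (σ a)

/-- coefficient -/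
def coef (ε : Fin m → Bool) (c : Fin m → Fˣ) : Fin m ⊕ Fin m → F
  | .inl a => c a
  | .inr a => if ε a then -((c a : F))⁻¹ else ((c a : F))⁻¹

theorem coef_ne (ε : Fin m → Bool) (c : Fin m → Fˣ) (z : Fin m ⊕ Fin m) : coef ε c z ≠ 0 := by
  rcases z with a | a <;> simp [coef]
  split_ifs <;> simp

/-- monomial matrices -/
noncomputable def mon (σ : Equiv.Perm (Fin m)) (ε : Fin m → Bool) (c : Fin m → Fˣ) : Mat :=
  Matrix.of fun r z => if r = tgt σ ε z then coef ε c z else 0

theorem mon_e (σ : Equiv.Perm (Fin m)) (ε : Fin m → Bool) (c : Fin m → Fˣ) (z : Fin m ⊕ Fin m) :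
    mon σ ε c *ᵥ e F z = coef ε c z • e F (tgt σ ε z) := by
  funext r
  simp [mon, e, Pi.single_apply, mulVec_single_one]

theorem mon_mem (σ : Equiv.Perm (Fin m)) (ε : Fin m → Bool) (c : Fin m → Fˣ) :
    mon σ ε c ∈ symplecticGroup (Fin m) F := by
  rw [mem_sp_iff]
  have h : (sympB m F).compl₁₂ (Matrix.mulVecLin (mon σ ε c)) (Matrix.mulVecLin (mon σ ε c)) =
      sympB m F := by
    refine LinearMap.ext_basis (Pi.basisFun F _) (Pi.basisFun F _) fun x y => ?_
    simp only [LinearMap.compl₁₂_apply, Pi.basisFun_apply, Matrix.mulVecLin_apply]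
    rw [show (Pi.single x 1 : Vec) = e F x from rfl, show (Pi.single y 1 : Vec) = e F y from rfl,
      mon_e, mon_e]
    simp only [map_smul, LinearMap.smul_apply, smul_eq_mul, sympB_apply]
    rcases x with a | a <;> rcases y with b | b <;> rcases eq_or_ne a b with rfl | hab
    all_goals (rcases ha : ε a <;> simp [tgt, coef, e, ha, sympForm_inl_inl, sympForm_inr_inr,
      sympForm_inl_inr, sympForm_inr_inl])
    all_goals (rcases hb : ε b <;> simp [sympForm_inl_inl, sympForm_inr_inr,
      sympForm_inl_inr, sympForm_inr_inl, hab])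
  intro u v
  rw [← sympB_apply, ← sympB_apply]
  exact LinearMap.congr_fun₂ h u v

theorem tgt_surjective (σ : Equiv.Perm (Fin m)) (ε : Fin m → Bool) :
    Function.Surjective (tgt σ ε) := by
  rintro (a | a) <;> obtain ⟨b, rfl⟩ := σ.surjective a <;> rcases h : ε b
  · exact ⟨.inl b, by simp [tgt, h]⟩
  · exact ⟨.inr b, by simp [tgt, h]⟩
  · exact ⟨.inr b, by simp [tgt, h]⟩
  · exact ⟨.inl b, by simp [tgt, h]⟩

theorem mon_mem_normalizer (σ : Equiv.Perm (Fin m)) (ε : Fin m → Bool) (c : Fin m → Fˣ) :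
    (⟨_, mon_mem σ ε c⟩ : Sp) ∈ Subgroup.normalizer (torus F m : Set Sp) := by
  set M : Sp := ⟨_, mon_mem σ ε c⟩ with hM
  have hMe : ∀ z, (M : Mat) *ᵥ e F z = coef ε c z • e F (tgt σ ε z) := mon_e σ ε c
  have hinv : ∀ z, ((M⁻¹ : Sp) : Mat) *ᵥ e F (tgt σ ε z) = (coef ε c z)⁻¹ • e F z := by
    intro z
    have h1 := inv_mulVec_of_eq (hMe z)
    rw [mulVec_smul] at h1
    conv_rhs => rw [← h1]
    rw [smul_smul, inv_mul_cancel₀ (coef_ne ε c z), one_smul]
  refine Subgroup.mem_normalizer_iff.2 fun h => ?_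
  simp only [SetLike.mem_coe, mem_torus]
  constructor
  · intro hh z
    obtain ⟨i, rfl⟩ := tgt_surjective σ ε z
    obtain ⟨l, hl⟩ := hh i
    refine ⟨l, ?_⟩
    rw [mul_mulVec_sp, mul_mulVec_sp, hinv, mulVec_smul, hl, mulVec_smul, mulVec_smul, hMe,
      smul_smul, smul_smul]
    congr 1
    field_simp [coef_ne ε c i]
  · intro hh z
    obtain ⟨l, hl⟩ := hh (tgt σ ε z)
    refine ⟨l, sp_injective M ?_⟩
    have : (M : Mat) *ᵥ ((h : Mat) *ᵥ e F z) = ((M * h * M⁻¹ : Sp) : Mat) *ᵥ ((M : Mat) *ᵥ e F z) := by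
      rw [← mul_mulVec_sp, ← mul_mulVec_sp, inv_mul_cancel_right]
    rw [Matrix.mulVecLin_apply, Matrix.mulVecLin_apply, this, hMe, mulVec_smul, hl, mulVec_smul, hMe,
      smul_smul, smul_smul, mul_comm]

variable [Fintype F]

theorem exists_sep (hq : 4 ≤ Fintype.card F) : ∃ t : Fˣ, (t : F) ≠ 1 ∧ (t : F) * t ≠ 1 := by
  classical
  by_contra hne
  push Not at hne
  have : Finset.univ ⊆ ({0, 1, -1} : Finset F) := fun x _ => by
    rcases eq_or_ne x 0 with h | h
    · simp [h]
    rcases eq_or_ne x 1 with h1 | h1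
    · simp [h1]
    have := hne (Units.mk0 x h) h1
    rcases mul_self_eq_one_iff.1 this with h2 | h2
    · exact absurd h2 h1
    · simp [show x = -1 from h2]
  have := (Finset.card_le_card this).trans Finset.card_le_three
  rw [Finset.card_univ] at this
  omega

theorem normalizer_monomial (hq : 4 ≤ Fintype.card F) {n : Sp}
    (hn : n ∈ Subgroup.normalizer (torus F m : Set Sp)) (z : Fin m ⊕ Fin m) :
    ∃ (w : Fin m ⊕ Fin m) (d : F), d ≠ 0 ∧ (n : Mat) *ᵥ e F z = d • e F w := by
  obtain ⟨t, ht1, ht2⟩ := exists_sep hq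
  set v := (n : Mat) *ᵥ e F z with hv
  have hv0 : v ≠ 0 := fun h => e_ne z (sp_injective n (a₁ := e F z) (a₂ := 0) (by
    rw [Matrix.mulVecLin_apply, map_zero]; exact h))
  obtain ⟨w, hw⟩ := Function.ne_iff.1 hv0
  refine ⟨w, v w, hw, funext fun r => ?_⟩
  rcases eq_or_ne r w with rfl | hrw
  · simp [e]
  rw [Pi.smul_apply, e, Pi.single_eq_of_ne hrw, smul_zero]
  by_contra hr
  let a : Fin m := Sum.elim id id r
  let c : Fin m → Fˣ := fun j => if j = a then t else 1
  let h : Sp := ⟨_, mon_mem 1 (fun _ => false) c⟩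
  have hh : ∀ y, (h : Mat) *ᵥ e F y = coef (fun _ => false) c y • e F y := by
    intro y
    have := mon_e (F := F) 1 (fun _ => false) c y
    rcases y with b | b <;> simpa [tgt] using this
  have hT : h ∈ torus F m := mem_torus.2 fun y => ⟨_, hh y⟩
  have hT' := (Subgroup.mem_normalizer_iff.1 (Subgroup.inv_mem _ hn) h).1 hT
  rw [inv_inv, mem_torus] at hT'
  obtain ⟨l, hl⟩ := hT' z
  have hv' : (h : Mat) *ᵥ v = l • v := by
    have h2 : (n : Mat) *ᵥ (((n⁻¹ * h * n : Sp) : Mat) *ᵥ e F z) = (n : Mat) *ᵥ (l • e F z) := by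
      rw [hl]
    rwa [← mul_mulVec_sp, mul_assoc n⁻¹, ← mul_assoc n, mul_inv_cancel, one_mul, mul_mulVec_sp,
      mulVec_smul] at h2
  have hcoord : ∀ y, ((h : Mat) *ᵥ v) y = coef (fun _ => false) c y * v y := by
    intro y
    have hvexp : v = ∑ x, v x • e F x := by
      funext x; simp [e, Pi.single_apply]
    conv_lhs => rw [hvexp, ← Matrix.mulVecLin_apply, map_sum]
    rw [Finset.sum_apply, Finset.sum_eq_single y]
    · rw [map_smul, Matrix.mulVecLin_apply, hh, smul_smul]; simp [e, mul_comm]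
    · intro x _ hx
      rw [map_smul, Matrix.mulVecLin_apply, hh, smul_smul]; simp [e, Pi.single_eq_of_ne hx.symm]
    · simp
  have h1 := hcoord r
  have h2 := hcoord w
  rw [hv', Pi.smul_apply, smul_eq_mul] at h1 h2
  have e1 := mul_right_cancel₀ hr h1
  have e2 := mul_right_cancel₀ hw h2
  rw [e1] at e2
  rcases r with b | b <;> rcases w with d | d <;>
    simp only [coef, Bool.false_eq_true, if_false] at e2 <;>
    rw [show c b = t from if_pos rfl] at e2 <;>
    rcases eq_or_ne d b with hdb | hdb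
  any_goals (rw [show c d = 1 from if_neg hdb] at e2; exact ht1 (by simpa using e2))
  · exact hrw (by rw [hdb])
  · rw [hdb, show c b = t from if_pos rfl] at e2
    exact ht2 (by field_simp at e2; linear_combination e2)
  · rw [hdb, show c b = t from if_pos rfl] at e2
    exact ht2 (by field_simp at e2; linear_combination -e2)
  · exact hrw (by rw [hdb])

theorem natCard_normalizer (hq : 4 ≤ Fintype.card F) :
    Nat.card ↥(Subgroup.normalizer (torus F m : Set Sp)) =
      2 ^ m * Nat.factorial m * (Fintype.card F - 1) ^ m := by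
  classical
  let f : Equiv.Perm (Fin m) × (Fin m → Bool) × (Fin m → Fˣ) →
      ↥(Subgroup.normalizer (torus F m : Set Sp)) :=
    fun p => ⟨⟨_, mon_mem p.1 p.2.1 p.2.2⟩, mon_mem_normalizer p.1 p.2.1 p.2.2⟩
  have hf : Function.Bijective f := by
    constructor
    · rintro ⟨σ, ε, c⟩ ⟨σ', ε', c'⟩ h
      have h1 : mon σ ε c = mon σ' ε' c' := congrArg Subtype.val (congrArg Subtype.val h)
      have key : ∀ a, ε a = ε' a ∧ σ a = σ' a ∧ c a = c' a := by
        intro a
        have h2 := congrArg (fun A : Mat => A *ᵥ e F (Sum.inl a)) h1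
        simp only [mon_e] at h2
        have ht : tgt σ ε (Sum.inl a) = tgt σ' ε' (Sum.inl a) := by
          by_contra hne
          have := congrFun h2 (tgt σ ε (Sum.inl a))
          simp [e, Pi.single_eq_of_ne hne, coef] at this
        rw [ht] at h2
        have hc := smul_left_injective F (e_ne _) h2
        refine ⟨?_, ?_, Units.ext hc⟩ <;>
          rcases ha : ε a <;> rcases ha' : ε' a <;> simp_all [tgt]
      refine Prod.ext (Equiv.ext fun a => (key a).2.1)
        (Prod.ext (funext fun a => (key a).1) (funext fun a => (key a).2.2))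
    · rintro ⟨n, hn⟩
      choose w d hd hwd using normalizer_monomial hq hn
      let s : Fin m → Fin m := fun a => Sum.elim id id (w (Sum.inl a))
      let ε : Fin m → Bool := fun a => (w (Sum.inl a)).isRight
      have hw : ∀ a, w (Sum.inl a) = if ε a then Sum.inr (s a) else Sum.inl (s a) := by
        intro a
        simp only [ε, s]
        rcases w (Sum.inl a) with b | b <;> simp
      have hpair : ∀ x y, d x * d y * Cfsg.sympForm m F (e F (w x)) (e F (w y)) =
          Cfsg.sympForm m F (e F x) (e F y) := by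
        intro x y
        rw [← sympForm_mulVec n (e F x) (e F y), hwd, hwd, ← sympB_apply, ← sympB_apply]
        simp only [map_smul, LinearMap.smul_apply, smul_eq_mul]
        ring
      have hinr : ∀ a, w (Sum.inr a) = if ε a then Sum.inl (s a) else Sum.inr (s a) := by
        intro a
        have h := hpair (Sum.inr a) (Sum.inl a)
        rw [hw a] at h
        rcases hx : w (Sum.inr a) with b | b <;> rcases ha : ε a <;> rw [hx, ha] at h <;>
          simp [e, sympForm_inl_inl, sympForm_inr_inr, sympForm_inl_inr, sympForm_inr_inl] at h ⊢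
        · by_contra hne; simp [hne] at h
        · by_contra hne; simp [hne] at h
      have hinj : Function.Injective s := by
        intro a b hab
        by_contra hne
        have h1 := hpair (Sum.inr a) (Sum.inl b)
        have h2 := hpair (Sum.inl a) (Sum.inl b)
        have hr0 : Cfsg.sympForm m F (e F (Sum.inr a)) (e F (Sum.inl b)) = 0 := by
          simp [e, sympForm_inr_inl, hne]
        have hl0 : Cfsg.sympForm m F (e F (Sum.inl a)) (e F (Sum.inl b)) = 0 := by
          simp [e, sympForm_inl_inl]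
        rw [hr0] at h1
        rw [hl0] at h2
        simp only [mul_eq_zero, hd, false_or] at h1 h2
        rw [hinr a, hw b, hab] at h1
        rw [hw a, hw b, hab] at h2
        rcases ha : ε a <;> rcases hb : ε b <;>
          simp [ha, hb, e, sympForm_inl_inl, sympForm_inr_inr, sympForm_inl_inr, sympForm_inr_inl]
            at h1 h2
      let σ : Equiv.Perm (Fin m) := Equiv.ofBijective s (Finite.injective_iff_bijective.1 hinj)
      let c : Fin m → Fˣ := fun a => Units.mk0 (d (Sum.inl a)) (hd _)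
      refine ⟨(σ, ε, c), Subtype.ext (Subtype.ext ?_)⟩
      refine Matrix.toLin'.injective ((Pi.basisFun F _).ext fun x => ?_)
      rw [Pi.basisFun_apply, Matrix.toLin'_apply, Matrix.toLin'_apply]
      show mon σ ε c *ᵥ e F x = (n : Mat) *ᵥ e F x
      rw [mon_e, hwd]
      rcases x with a | a
      · rw [hw a]; rfl
      · have h := hpair (Sum.inr a) (Sum.inl a)
        rw [hinr a, hw a] at h
        rw [hinr a]
        have ht : tgt σ ε (Sum.inr a) = if ε a then Sum.inl (s a) else Sum.inr (s a) := rfl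
        rw [ht]
        congr 1
        have hd1 := hd (Sum.inl a)
        rcases ha : ε a <;> rw [ha] at h <;>
          simp [e, sympForm_inl_inr, sympForm_inr_inl] at h <;>
          simp [coef, c, ha] <;> field_simp <;> first | linear_combination h | linear_combination -h
  rw [← Nat.card_congr (Equiv.ofBijective f hf), Nat.card_prod, Nat.card_prod, Nat.card_fun,
    Nat.card_fun, Nat.card_fin, Nat.card_perm, Nat.card_units, Nat.card_fin,
    Nat.card_eq_fintype_card (α := F), Nat.card_eq_fintype_card (α := Bool), Fintype.card_bool]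
  ring

end



/-- Weyl group of type C_m: for q ≥ 4 the diagonal matrices of Sp_2m(q) form a torus T ≅ (C_(q−1))^m (the elements stabilising every coordinate axis), and the normaliser of T in Sp_2m(q) has order 2^m · m! · (q − 1)^m. -/
theorem result {F : Type*} [Field F] [Fintype F] {q : ℕ} (hF : Fintype.card F = q) (hq : 4 ≤ q) (m : ℕ) : Nat.card ↥(Subgroup.normalizer (⨅ i : Fin m ⊕ Fin m, Cfsg.stabilizing (Cfsg.spToMat m F) ((Submodule.span F {(Pi.single i (1 : F) : Fin m ⊕ Fin m → F)} : Submodule F (Fin m ⊕ Fin m → F)) : Set (Fin m ⊕ Fin m → F)) : Set (Matrix.symplecticGroup (Fin m) F))) = 2 ^ m * Nat.factorial m * (q - 1) ^ m := by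
  subst hF
  rw [Set.iInf_eq_iInter, ← Subgroup.coe_iInf]
  exact natCard_normalizer hq

end Cfsg.Agent.S0777
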