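import Cfsg.Statements.S0778
import Cfsg.Agent.Lib.Forms.SympStd

set_option autoImplicit false
open Cfsg Cfsg.Agent.Forms.SympStd

namespace Cfsg.Agent.S0778

open Matrix

/-- `P ↦ diag(P, (P⁻¹)ᵀ)`. -/
noncomputable def leviHom {F : Type*} [Field F] (m : ℕ) :
    Matrix.GeneralLinearGroup (Fin m) F →* Matrix.symplecticGroup (Fin m) F where
  toFun P := ⟨fromBlocks (P : Matrix (Fin m) (Fin m) F) 0 0
      ((P⁻¹ : Matrix.GeneralLinearGroup (Fin m) F) : Matrix (Fin m) (Fin m) F)ᵀ, by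
    rw [SymplecticGroup.mem_iff, J, fromBlocks_transpose, fromBlocks_multiply, fromBlocks_multiply]
    have h1 : (P : Matrix (Fin m) (Fin m) F) *
        ((P⁻¹ : Matrix.GeneralLinearGroup (Fin m) F) : Matrix (Fin m) (Fin m) F) = 1 :=
      P.mul_inv
    simp only [transpose_transpose, transpose_zero, Matrix.mul_zero, Matrix.zero_mul, add_zero,
      zero_add, Matrix.mul_one, Matrix.mul_neg, Matrix.neg_mul, h1]
    congr 1
    · rw [← transpose_mul, h1, transpose_one]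
    · exact neg_zero⟩
  map_one' := by
    apply Subtype.ext
    simp
  map_mul' P Q := by
    apply Subtype.ext
    simp [fromBlocks_multiply, Matrix.transpose_mul, Matrix.mul_inv_rev]

theorem leviHom_val {F : Type*} [Field F] {m : ℕ} (P : Matrix.GeneralLinearGroup (Fin m) F) :
    (leviHom m P : Matrix (Fin m ⊕ Fin m) (Fin m ⊕ Fin m) F) =
      fromBlocks (P : Matrix (Fin m) (Fin m) F) 0 0
        ((P⁻¹ : Matrix.GeneralLinearGroup (Fin m) F) : Matrix (Fin m) (Fin m) F)ᵀ := rfl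

theorem leviHom_injective {F : Type*} [Field F] {m : ℕ} :
    Function.Injective (leviHom (F := F) m) := fun P Q h => by
  have h1 := congrArg (fun A : Matrix.symplecticGroup (Fin m) F =>
    (A : Matrix (Fin m ⊕ Fin m) (Fin m ⊕ Fin m) F).toBlocks₁₁) h
  simp only [leviHom_val, toBlocks_fromBlocks₁₁] at h1
  exact Units.ext h1

theorem eq_zero_of_mulVec {F : Type*} [Field F] {m : ℕ} (U : (Matrix (Fin m) (Fin m) F)ˣ)
    {x : Fin m → F} (h : (U : Matrix (Fin m) (Fin m) F) *ᵥ x = 0) : x = 0 := by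
  rw [← one_mulVec x, ← U.inv_mul, ← mulVec_mulVec, h, mulVec_zero]

theorem levi_stab_left {F : Type*} [Field F] {m : ℕ} (P : Matrix.GeneralLinearGroup (Fin m) F)
    (v : Fin m ⊕ Fin m → F) :
    v ∈ {v : Fin m ⊕ Fin m → F | ∀ i : Fin m, v (Sum.inr i) = 0} ↔
      Cfsg.spToMat m F (leviHom m P) *ᵥ v ∈
        {v : Fin m ⊕ Fin m → F | ∀ i : Fin m, v (Sum.inr i) = 0} := by
  show (∀ i, v (Sum.inr i) = 0) ↔ ∀ i,
    ((leviHom m P : Matrix (Fin m ⊕ Fin m) (Fin m ⊕ Fin m) F) *ᵥ v) (Sum.inr i) = 0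
  rw [leviHom_val, fromBlocks_mulVec]
  simp only [zero_mulVec, zero_add, Sum.elim_inr]
  constructor
  · intro h i
    rw [show v ∘ Sum.inr = 0 from funext h]; simp
  · intro h i
    let U : (Matrix (Fin m) (Fin m) F)ˣ :=
      ⟨((P⁻¹ : Matrix.GeneralLinearGroup (Fin m) F) : Matrix (Fin m) (Fin m) F)ᵀ,
        (P : Matrix (Fin m) (Fin m) F)ᵀ,
        by rw [← transpose_mul]; exact (congrArg transpose P.mul_inv).trans transpose_one,
        by rw [← transpose_mul]; exact (congrArg transpose P.inv_mul).trans transpose_one⟩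
    exact congrFun (eq_zero_of_mulVec U (funext h)) i

theorem levi_stab_right {F : Type*} [Field F] {m : ℕ} (P : Matrix.GeneralLinearGroup (Fin m) F)
    (v : Fin m ⊕ Fin m → F) :
    v ∈ {v : Fin m ⊕ Fin m → F | ∀ i : Fin m, v (Sum.inl i) = 0} ↔
      Cfsg.spToMat m F (leviHom m P) *ᵥ v ∈
        {v : Fin m ⊕ Fin m → F | ∀ i : Fin m, v (Sum.inl i) = 0} := by
  show (∀ i, v (Sum.inl i) = 0) ↔ ∀ i,
    ((leviHom m P : Matrix (Fin m ⊕ Fin m) (Fin m ⊕ Fin m) F) *ᵥ v) (Sum.inl i) = 0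
  rw [leviHom_val, fromBlocks_mulVec]
  simp only [zero_mulVec, add_zero, Sum.elim_inl]
  constructor
  · intro h i
    rw [show v ∘ Sum.inl = 0 from funext h]; simp
  · intro h i
    exact congrFun (eq_zero_of_mulVec P (funext h)) i

theorem levi_surj {F : Type*} [Field F] {m : ℕ} (A : Matrix.symplecticGroup (Fin m) F)
    (hl : A ∈ Cfsg.stabilizing (Cfsg.spToMat m F)
      {v : Fin m ⊕ Fin m → F | ∀ i : Fin m, v (Sum.inr i) = 0})
    (hr : A ∈ Cfsg.stabilizing (Cfsg.spToMat m F)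
      {v : Fin m ⊕ Fin m → F | ∀ i : Fin m, v (Sum.inl i) = 0}) :
    ∃ P, leviHom m P = A := by
  set M := (A : Matrix (Fin m ⊕ Fin m) (Fin m ⊕ Fin m) F) with hM
  have h21 : ∀ i j, M (Sum.inr i) (Sum.inl j) = 0 := fun i j => by
    have := (hl (Pi.single (Sum.inl j) 1)).1 (fun k => by simp) i
    simpa [Matrix.mulVec_single, hM] using this
  have h12 : ∀ i j, M (Sum.inl i) (Sum.inr j) = 0 := fun i j => by
    have := (hr (Pi.single (Sum.inr j) 1)).1 (fun k => by simp) i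
    simpa [Matrix.mulVec_single, hM] using this
  have hdec : M = fromBlocks M.toBlocks₁₁ 0 0 M.toBlocks₂₂ := by
    ext (i | i) (j | j) <;> simp [toBlocks₁₁, toBlocks₂₂, h12, h21]
  have hA := SymplecticGroup.mem_iff.1 A.2
  rw [← hM, hdec, J, fromBlocks_transpose, fromBlocks_multiply, fromBlocks_multiply,
    fromBlocks_inj] at hA
  have h1 : M.toBlocks₂₂ * M.toBlocks₁₁ᵀ = 1 := by simpa using hA.2.2.1
  have h2 : M.toBlocks₁₁ * M.toBlocks₂₂ᵀ = 1 := by
    have := congrArg transpose h1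
    simpa [transpose_mul] using this
  let P : Matrix.GeneralLinearGroup (Fin m) F :=
    ⟨M.toBlocks₁₁, M.toBlocks₂₂ᵀ, h2, mul_eq_one_comm.1 h2⟩
  refine ⟨P, Subtype.ext ?_⟩
  rw [leviHom_val, ← hM, hdec]
  exact congrArg (fromBlocks M.toBlocks₁₁ 0 0) (transpose_transpose _)

/-- The elements of Sp_2m(F) stabilising both W = ⟨e_1..e_m⟩ and U = ⟨f_1..f_m⟩ form a subgroup isomorphic to GL_m(F) (block-diagonal matrices diag(X, X^(−ᵀ)) up to the sign convention of J), for m ≥ 1 or m = 0 alike. -/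
theorem result {F : Type*} [Field F] (m : ℕ) : Nonempty (↥(Cfsg.stabilizing (Cfsg.spToMat m F) {v : Fin m ⊕ Fin m → F | ∀ i : Fin m, v (Sum.inr i) = 0} ⊓ Cfsg.stabilizing (Cfsg.spToMat m F) {v : Fin m ⊕ Fin m → F | ∀ i : Fin m, v (Sum.inl i) = 0}) ≃* Matrix.GeneralLinearGroup (Fin m) F) := by
  refine ⟨(MulEquiv.ofBijective ((leviHom (F := F) m).codRestrict _ fun P =>
    Subgroup.mem_inf.2 ⟨fun v => ?_, fun v => ?_⟩) ⟨fun P Q h => ?_, fun A => ?_⟩).symm⟩
  · exact levi_stab_left P v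
  · exact levi_stab_right P v
  · exact leviHom_injective (congrArg Subtype.val h)
  · obtain ⟨P, hP⟩ := levi_surj A.1 (Subgroup.mem_inf.1 A.2).1 (Subgroup.mem_inf.1 A.2).2
    exact ⟨P, Subtype.ext hP⟩

end Cfsg.Agent.S0778
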