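import Cfsg.Statements.S0779
import Cfsg.Agent.Lib.Forms.HermStd

set_option autoImplicit false
open Cfsg Cfsg.Agent.Forms.HermStd

namespace Cfsg.Agent.S0779

/-- Unitary transvections: let |F| = q², h the standard Hermitian form Σ x_i y_i^q and v ≠ 0 with h(v, v) = 0. The linear map x ↦ x + c h(x, v) v is an isometry of h if and only if c = 0 or c^(q−1) = −1. -/
theorem result {F : Type*} [Field F] [Fintype F] {q : ℕ} (hF : Fintype.card F = q ^ 2) (n : ℕ) (v : Fin n → F) (hv : v ≠ 0) (hv0 : Cfsg.hermForm n F q v v = 0) (c : F) : (∀ x y : Fin n → F, Cfsg.hermForm n F q ((Cfsg.unitaryTransvection n q v c).mulVec x) ((Cfsg.unitaryTransvection n q v c).mulVec y) = Cfsg.hermForm n F q x y) ↔ (c = 0 ∨ c ^ (q - 1) = -1) := by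
  classical
  have hq := one_lt_q hF
  have hsemi : ∀ x y, (hermB hF n) y x = Cfsg.hermForm n F q x y := fun x y => rfl
  have key : ∀ x y : Fin n → F, Cfsg.hermForm n F q ((Cfsg.unitaryTransvection n q v c).mulVec x)
      ((Cfsg.unitaryTransvection n q v c).mulVec y) = Cfsg.hermForm n F q x y +
        (c + c ^ q) * (Cfsg.hermForm n F q x v * Cfsg.hermForm n F q v y) := by
    intro x y
    simp only [transvection_mulVec, ← hsemi, map_add, LinearMap.map_smulₛₗ, map_smul,
      LinearMap.add_apply, LinearMap.smul_apply, smul_eq_mul, qHom_apply, RingHom.id_apply]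
    simp only [hsemi, hv0, mul_pow, hermForm_conj hF]
    ring
  obtain ⟨i, hi⟩ := Function.ne_iff.1 hv
  have hiv : Cfsg.hermForm n F q v (Pi.single i 1) = v i :=
    hermForm_single_right v i (by omega)
  have hvi : Cfsg.hermForm n F q (Pi.single i 1) v = (v i) ^ q := by
    rw [← hermForm_conj hF v (Pi.single i 1), hiv]
  have hne : Cfsg.hermForm n F q (Pi.single i 1) v * Cfsg.hermForm n F q v (Pi.single i 1) ≠ 0 := by
    rw [hiv, hvi]
    exact mul_ne_zero (pow_ne_zero _ hi) hi
  constructor
  · intro h
    have h1 := h (Pi.single i 1) (Pi.single i 1)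
    rw [key] at h1
    have h2 : c + c ^ q = 0 := (mul_eq_zero.1 (by linear_combination h1)).resolve_right hne
    by_cases hc : c = 0
    · exact Or.inl hc
    · refine Or.inr ?_
      have h3 : c * (1 + c ^ (q - 1)) = 0 := by
        rw [mul_add, mul_one, ← pow_succ', Nat.sub_add_cancel (by omega)]; exact h2
      exact eq_neg_of_add_eq_zero_right ((mul_eq_zero.1 h3).resolve_left hc)
  · intro h x y
    rw [key]
    have h2 : c + c ^ q = 0 := by
      rcases h with rfl | h
      · rw [zero_pow (by omega), add_zero]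
      · rw [← Nat.sub_add_cancel (show 1 ≤ q by omega), pow_succ, h]; ring
    rw [h2, zero_mul, add_zero]

end Cfsg.Agent.S0779
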