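import Cfsg.Statements.S0781
import Cfsg.Agent.Lib.Forms.HermStd

set_option autoImplicit false
open Cfsg Cfsg.Agent.Forms.HermStd

namespace Cfsg.Agent.S0781

open Matrix

variable {F : Type*} [Field F] [Fintype F] {q n : ℕ}

theorem trace_zero (hF : Fintype.card F = q ^ 2) {v : Fin n → F} {c : F} (hv : v ≠ 0)
    (hv0 : Cfsg.hermForm n F q v v = 0)
    (h : ∀ x y, Cfsg.hermForm n F q ((Cfsg.unitaryTransvection n q v c).mulVec x)
      ((Cfsg.unitaryTransvection n q v c).mulVec y) = Cfsg.hermForm n F q x y) :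
    c + c ^ q = 0 := by
  have hq := one_lt_q hF
  obtain ⟨i, hi⟩ := Function.ne_iff.1 hv
  have hvi : Cfsg.hermForm n F q v (Pi.single i 1) = v i :=
    hermForm_single_right v i (by omega : q ≠ 0)
  have hiv : Cfsg.hermForm n F q (Pi.single i 1) v = (v i) ^ q := by
    rw [← hermForm_conj hF v (Pi.single i 1), hvi]
  have h1 := h (Pi.single i 1) (Pi.single i 1)
  have hsemi : ∀ a b, (hermB hF n) b a = Cfsg.hermForm n F q a b := fun a b => rfl
  simp only [transvection_mulVec, ← hsemi, map_add, LinearMap.map_smulₛₗ, map_smul,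
    LinearMap.add_apply, LinearMap.smul_apply, smul_eq_mul, qHom_apply, RingHom.id_apply] at h1
  simp only [hsemi, hv0, hvi, hiv, mul_pow, pow_q_q hF] at h1
  have h2 : (c + c ^ q) * ((v i) ^ q * v i) = 0 := by linear_combination h1
  exact (mul_eq_zero.1 h2).resolve_right (mul_ne_zero (pow_ne_zero _ hi) hi)

theorem exists_orth (hF : Fintype.card F = q ^ 2) (hn : 3 ≤ n) {v : Fin n → F} (hv : v ≠ 0) :
    ∃ w, Cfsg.hermForm n F q v w = 0 ∧ Cfsg.hermForm n F q w w ≠ 0 := by
  by_contra h
  push Not at h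
  set B := hermB hF n with hB
  set W := LinearMap.ker (B v) with hW
  have hW0 : ∀ w ∈ W, Cfsg.hermForm n F q v w = 0 := fun w hw => by
    have h1 : Cfsg.hermForm n F q w v = 0 := hw
    rw [← hermForm_conj hF w v, h1, zero_pow (by have := one_lt_q hF; omega)]
  obtain ⟨c, hc⟩ : ∃ c : F, qHom hF c ≠ c := by
    by_contra hh
    push Not at hh
    exact qHom_ne_id hF (RingHom.ext hh)
  have htot : ∀ a ∈ W, ∀ b ∈ W, B a b = 0 := by
    intro a ha b hb
    have key : ∀ b ∈ W, B a b + qHom hF (B a b) = 0 := fun b hb => by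
      have h1 : B (a + b) (a + b) = 0 := h _ (hW0 _ (W.add_mem ha hb))
      have h2 : B a a = 0 := h _ (hW0 _ ha)
      have h3 : B b b = 0 := h _ (hW0 _ hb)
      simp only [map_add, LinearMap.add_apply, h2, h3] at h1
      rw [← (hermB_isSymm hF).eq a b] at h1
      linear_combination h1
    have h2 := key (c • b) (W.smul_mem _ hb)
    simp only [map_smul, smul_eq_mul, map_mul] at h2
    have h3 : (qHom hF c - c) * B a b = 0 := by linear_combination qHom hF c * key b hb - h2
    exact (mul_eq_zero.1 h3).resolve_left (sub_ne_zero.2 hc)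
  obtain ⟨y, hy⟩ : ∃ y, B v y ≠ 0 := by
    by_contra hh
    push Not at hh
    exact hv ((hermB_nondegenerate hF).1 v hh)
  have hle : W ≤ Submodule.span F {v} := fun a ha => by
    refine Submodule.mem_span_singleton.2 ⟨qHom hF (B a y / B v y), ?_⟩
    refine sub_eq_zero.1 ((hermB_nondegenerate hF).1 _ fun z => ?_)
    have hz : z - (B v z / B v y) • y ∈ W := by
      rw [hW, LinearMap.mem_ker, map_sub, map_smul, smul_eq_mul, div_mul_cancel₀ _ hy, sub_self]
    have h1 := htot a ha _ hz
    rw [map_sub, map_smul, smul_eq_mul, sub_eq_zero] at h1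
    rw [← hB, map_sub, LinearMap.map_smulₛₗ, LinearMap.sub_apply, LinearMap.smul_apply,
      qHom_qHom hF, smul_eq_mul, h1]
    field_simp
    ring
  have h1 := Submodule.finrank_mono hle
  rw [finrank_span_singleton hv] at h1
  have h2 := LinearMap.finrank_range_add_finrank_ker (B v)
  rw [Module.finrank_pi, Fintype.card_fin] at h2
  have h3 : Module.finrank F ↥(LinearMap.range (B v)) ≤ 1 :=
    (Submodule.finrank_le _).trans (Module.finrank_self F).le
  rw [← hW] at h2
  omega

/-- The Eichler map. -/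
def eich (q : ℕ) (v w : Fin n → F) (d : F) (x : Fin n → F) : Fin n → F :=
  x + Cfsg.hermForm n F q x v • w - Cfsg.hermForm n F q x w • v
    + (d * Cfsg.hermForm n F q x v) • v

theorem exists_eichler (hF : Fintype.card F = q ^ 2) {v w : Fin n → F} {d : F}
    (hv0 : Cfsg.hermForm n F q v v = 0) (hvw : Cfsg.hermForm n F q v w = 0)
    (hd : d + d ^ q = -Cfsg.hermForm n F q w w) :
    ∃ E : ↥(Cfsg.SU n F q), ∀ x : Fin n → F,
      ((E : SpecialLinearGroup (Fin n) F) : Matrix (Fin n) (Fin n) F) *ᵥ x = eich q v w d x := by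
  classical
  have hq := one_lt_q hF
  set B := hermB hF n with hB
  have hsemi : ∀ a b, B b a = Cfsg.hermForm n F q a b := fun a b => rfl
  have hwv : Cfsg.hermForm n F q w v = 0 := by
    rw [← hermForm_conj hF v w, hvw, zero_pow (by omega)]
  let N : (Fin n → F) →ₗ[F] (Fin n → F) :=
    (B v).smulRight w - (B w).smulRight v + (d • B v).smulRight v
  have hN : ∀ x, x + N x = eich q v w d x := fun x => by
    simp only [N, eich, LinearMap.add_apply, LinearMap.sub_apply, LinearMap.smulRight_apply,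
      LinearMap.smul_apply, hsemi, smul_eq_mul]
    abel
  have hN3 : ∀ x, N (N (N x)) = 0 := fun x => by
    simp only [N, LinearMap.add_apply, LinearMap.sub_apply, LinearMap.smulRight_apply,
      LinearMap.smul_apply, map_add, map_sub, map_smul, hsemi, smul_eq_mul, hv0, hvw, hwv]
    simp only [mul_zero, zero_mul, add_zero, zero_add, sub_zero, zero_sub, zero_smul, neg_zero,
      smul_zero]
  set M := LinearMap.toMatrix' (LinearMap.id + N) with hM
  have hMv : ∀ x, M *ᵥ x = eich q v w d x := fun x => by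
    rw [hM, ← Matrix.toLin'_apply, Matrix.toLin'_toMatrix', ← hN]; rfl
  have hdet : M.det = 1 := by
    obtain ⟨p, hp⟩ := CharP.exists F
    haveI := hp
    obtain ⟨k, hpp, -⟩ := FiniteField.card F p
    haveI := Fact.mk hpp
    haveI : Nonempty (Fin n) ∨ IsEmpty (Fin n) := (isEmpty_or_nonempty (Fin n)).symm
    rcases isEmpty_or_nonempty (Fin n) with hne | hne
    · exact Matrix.det_isEmpty
    have h0 : (LinearMap.toMatrix' N) ^ 3 = 0 := by
      refine Matrix.ext_iff_mulVec.2 fun x => ?_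
      rw [pow_succ, pow_two, ← mulVec_mulVec, ← mulVec_mulVec]
      simp only [← Matrix.toLin'_apply, Matrix.toLin'_toMatrix', hN3, map_zero, LinearMap.zero_apply]
    have hMN : M = 1 + LinearMap.toMatrix' N := by
      rw [hM, map_add, LinearMap.toMatrix'_id]
    have hpow : M ^ (p ^ 2) = 1 := by
      rw [hMN, add_pow_char_pow_of_commute (p := p) 2 (Commute.one_left _), one_pow]
      have h4 : 3 ≤ p ^ 2 := le_trans (by norm_num) (Nat.pow_le_pow_left hpp.two_le 2)
      obtain ⟨r, hr⟩ := Nat.exists_eq_add_of_le h4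
      rw [hr, pow_add, h0, zero_mul, add_zero]
    have h5 := congrArg Matrix.det hpow
    rw [det_pow, det_one] at h5
    exact iterateFrobenius_inj F p 2 (by simp only [iterateFrobenius_def, one_pow, h5])
  refine ⟨⟨⟨M, hdet⟩, mem_SU_iff.2 fun x y => ?_⟩, hMv⟩
  show Cfsg.hermForm n F q (M *ᵥ x) (M *ᵥ y) = _
  rw [hMv, hMv]
  simp only [eich, ← hsemi, map_add, map_sub, LinearMap.map_smulₛₗ, map_smul,
    LinearMap.add_apply, LinearMap.sub_apply, LinearMap.smul_apply, smul_eq_mul, qHom_apply,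
    RingHom.id_apply]
  simp only [hsemi, hv0, hvw, hwv, mul_pow, hermForm_conj hF]
  rw [show d ^ q = -Cfsg.hermForm n F q w w - d by rw [← hd]; ring]
  ring

/-- In SU_n(q) with n ≥ 4, or n = 3 and q > 2, every element whose matrix is a unitary transvection x ↦ x + c h(x, v) v (v isotropic) is a commutator ⁅B, C⁆ of two elements of SU_n(q). -/
theorem result {F : Type*} [Field F] [Fintype F] {q : ℕ} (hF : Fintype.card F = q ^ 2) (n : ℕ) (hn : 4 ≤ n ∨ (n = 3 ∧ 3 ≤ q)) (A : ↥(Cfsg.SU n F q)) (v : Fin n → F) (c : F) (hv0 : Cfsg.hermForm n F q v v = 0) (hA : ((A : Matrix.SpecialLinearGroup (Fin n) F) : Matrix (Fin n) (Fin n) F) = Cfsg.unitaryTransvection n q v c) : A ∈ commutatorSet ↥(Cfsg.SU n F q) := by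
  classical
  have hn3 : 3 ≤ n := by omega
  by_cases htriv : v = 0 ∨ c = 0
  · refine ⟨1, 1, ?_⟩
    rw [commutatorElement_one_left]
    refine Subtype.ext (Subtype.ext (Eq.symm ?_))
    rw [hA, Cfsg.unitaryTransvection]
    rcases htriv with rfl | rfl <;> simp
  push Not at htriv
  obtain ⟨hv, hc⟩ := htriv
  have hpres : ∀ x y, Cfsg.hermForm n F q ((Cfsg.unitaryTransvection n q v c).mulVec x)
      ((Cfsg.unitaryTransvection n q v c).mulVec y) = Cfsg.hermForm n F q x y := fun x y => by
    rw [← hA]; exact mem_SU_iff.1 A.2 x y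
  have hcc : c + c ^ q = 0 := trace_zero hF hv hv0 hpres
  obtain ⟨w, hvw, hww⟩ := exists_orth hF hn3 hv
  obtain ⟨t, ht⟩ := Cfsg.Agent.Forms.Witt.exists_trace_ne_zero (qHom hF) (qHom_ne_id hF)
  simp only [qHom_apply] at ht
  set e := Cfsg.hermForm n F q w w with he
  have heq : e ^ q = e := hermForm_conj hF w w
  have hT : (t + t ^ q) ^ q = t + t ^ q := by rw [add_pow_q hF, pow_q_q hF, add_comm]
  set s := -(c * t) / ((t + t ^ q) * e) with hs
  have hse : s ^ q - s = c / e := by
    rw [hs, ← qHom_apply hF, map_div₀, map_neg, map_mul, map_mul]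
    simp only [qHom_apply, hT, heq]
    rw [show c ^ q = -c from eq_neg_of_add_eq_zero_right hcc]
    field_simp
    ring
  have hd : ∀ z : Fin n → F, ∃ d : F, d + d ^ q = -Cfsg.hermForm n F q z z := fun z => by
    refine ⟨-Cfsg.hermForm n F q z z * t / (t + t ^ q), ?_⟩
    rw [← qHom_apply hF (_ / _), map_div₀, map_mul, map_neg]
    simp only [qHom_apply, hT, hermForm_conj hF]
    field_simp
    ring
  obtain ⟨d₁, hd₁⟩ := hd w
  obtain ⟨d₂, hd₂⟩ := hd (s • w)
  have hvw2 : Cfsg.hermForm n F q v (s • w) = 0 := by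
    have : Cfsg.hermForm n F q v (s • w) = (hermB hF n) (s • w) v := rfl
    rw [this, LinearMap.map_smulₛₗ, LinearMap.smul_apply, hermB_apply, hvw, smul_zero]
  obtain ⟨E₁, hE₁⟩ := exists_eichler hF hv0 hvw hd₁
  obtain ⟨E₂, hE₂⟩ := exists_eichler hF hv0 hvw2 hd₂
  refine ⟨E₁, E₂, ?_⟩
  rw [commutatorElement_def, mul_assoc, ← _root_.mul_inv_rev, mul_inv_eq_iff_eq_mul]
  refine Subtype.ext (Subtype.ext (Matrix.ext_iff_mulVec.2 fun x => ?_))
  simp only [Subgroup.coe_mul, Matrix.SpecialLinearGroup.coe_mul, ← Matrix.mulVec_mulVec, hA, hE₁,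
    hE₂, transvection_mulVec]
  have hwv : Cfsg.hermForm n F q w v = 0 := by
    rw [← hermForm_conj hF v w, hvw, zero_pow (by have := one_lt_q hF; omega)]
  have hsemi : ∀ a b, (hermB hF n) b a = Cfsg.hermForm n F q a b := fun a b => rfl
  simp only [eich, ← hsemi, map_add, map_sub, LinearMap.map_smulₛₗ, map_smul,
    LinearMap.add_apply, LinearMap.sub_apply, LinearMap.smul_apply, smul_eq_mul, qHom_apply,
    RingHom.id_apply]
  simp only [hsemi, hv0, hvw, hwv, ← he]
  rw [show s ^ q = s + c / e by rw [← hse]; ring]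
  match_scalars <;> field_simp <;> ring

end Cfsg.Agent.S0781
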