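import Cfsg.Statements.S0783
import Cfsg.Agent.Lib.Forms.HermStd

set_option autoImplicit false
open Cfsg Cfsg.Agent.Forms.HermStd

namespace Cfsg.Agent.S0783

open Matrix

variable {F : Type*} [Field F] [Fintype F] {q n : ℕ}

theorem exists_diag (hF : Fintype.card F = q ^ 2) (d : Fin n → Fˣ)
    (hd : ∀ i, ((d i : F)) ^ (q + 1) = 1) :
    ∃ g : ↥(Cfsg.GU n F q), ((g : GeneralLinearGroup (Fin n) F) : Matrix (Fin n) (Fin n) F) =
      diagonal fun i => (d i : F) := by
  refine ⟨⟨GeneralLinearGroup.mkOfDetNeZero (diagonal fun i => (d i : F))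
    (by rw [det_diagonal]; exact Finset.prod_ne_zero_iff.2 fun i _ => (d i).ne_zero),
    mem_GU_iff.2 fun u v => ?_⟩, rfl⟩
  show hermForm n F q (diagonal (fun i => (d i : F)) *ᵥ u) (diagonal (fun i => (d i : F)) *ᵥ v) = _
  simp only [hermForm, mulVec_diagonal]
  refine Finset.sum_congr rfl fun i _ => ?_
  rw [mul_pow]
  have := hd i
  rw [pow_succ] at this
  linear_combination (u i * v i ^ q) * this

theorem exists_det (hF : Fintype.card F = q ^ 2) (hn : 1 ≤ n) (z : Fˣ) (hz : (z : F) ^ (q + 1) = 1) :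
    ∃ g : ↥(Cfsg.GU n F q),
      ((g : GeneralLinearGroup (Fin n) F) : Matrix (Fin n) (Fin n) F).det = z := by
  let i₀ : Fin n := ⟨0, by omega⟩
  obtain ⟨g, hg⟩ := exists_diag hF (fun i => if i = i₀ then z else 1) fun i => by
    by_cases h : i = i₀ <;> simp [h, hz]
  refine ⟨g, ?_⟩
  rw [hg, det_diagonal, Finset.prod_eq_single i₀]
  · simp
  · intro j _ hj; simp [hj]
  · simp

theorem exists_scalar (hF : Fintype.card F = q ^ 2) (z : Fˣ) (hz : (z : F) ^ (q + 1) = 1) :
    ∃ s : ↥(Cfsg.GU n F q), ((s : GeneralLinearGroup (Fin n) F) : Matrix (Fin n) (Fin n) F) =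
      (z : F) • 1 ∧ s ∈ Subgroup.center ↥(Cfsg.GU n F q) := by
  obtain ⟨g, hg⟩ := exists_diag (n := n) hF (fun _ => z) fun _ => hz
  have hg' : ((g : GeneralLinearGroup (Fin n) F) : Matrix (Fin n) (Fin n) F) = (z : F) • 1 := by
    rw [hg, smul_one_eq_diagonal]
  refine ⟨g, hg', Subgroup.mem_center_iff.2 fun h => Subtype.ext (Units.ext ?_)⟩
  show ((h : GeneralLinearGroup (Fin n) F) : Matrix (Fin n) (Fin n) F) *
    ((g : GeneralLinearGroup (Fin n) F) : Matrix (Fin n) (Fin n) F) = _ * _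
  rw [hg']
  simp

theorem exists_perm (hF : Fintype.card F = q ^ 2) (s : Equiv.Perm (Fin n)) :
    ∃ g : ↥(Cfsg.GU n F q), ∀ v : Fin n → F,
      ((g : GeneralLinearGroup (Fin n) F) : Matrix (Fin n) (Fin n) F) *ᵥ v = v ∘ s := by
  refine ⟨guOfEquiv (LinearEquiv.funCongrLeft F F s) fun u v => ?_, fun v => guOfEquiv_mulVec _ _ v⟩
  exact Equiv.sum_comp s fun i => u i * v i ^ q

theorem center_scalar (hF : Fintype.card F = q ^ 2) (hn : 2 ≤ n) {x : ↥(Cfsg.GU n F q)}
    (hx : x ∈ Subgroup.center ↥(Cfsg.GU n F q)) :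
    ∃ z : Fˣ, (z : F) ^ (q + 1) = 1 ∧
      ((x : GeneralLinearGroup (Fin n) F) : Matrix (Fin n) (Fin n) F) = (z : F) • 1 := by
  classical
  have hq := one_lt_q hF
  obtain ⟨w, hw, hw1⟩ : ∃ w : Fˣ, (w : F) ^ (q + 1) = 1 ∧ (w : F) ≠ 1 := by
    have hc : Nat.card (powMonoidHom (q + 1) : Fˣ →* Fˣ).ker = q + 1 := by
      rw [IsCyclic.card_powMonoidHom_ker, Nat.card_units, Nat.card_eq_fintype_card, hF]
      refine Nat.gcd_eq_right ⟨q - 1, ?_⟩
      obtain ⟨r, rfl⟩ : ∃ r, q = r + 1 := ⟨q - 1, by omega⟩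
      simp only [Nat.add_sub_cancel]
      have : (r + 1) ^ 2 = (r + 1 + 1) * r + 1 := by ring
      omega
    have : Nontrivial (powMonoidHom (q + 1) : Fˣ →* Fˣ).ker :=
      Finite.one_lt_card_iff_nontrivial.1 (by omega)
    obtain ⟨⟨w, hw⟩, hw1⟩ := exists_ne (1 : (powMonoidHom (q + 1) : Fˣ →* Fˣ).ker)
    exact ⟨w, congrArg Units.val hw, fun h => hw1 (Subtype.ext (Units.ext h))⟩
  set M := ((x : GeneralLinearGroup (Fin n) F) : Matrix (Fin n) (Fin n) F) with hM
  have hcomm : ∀ g : ↥(Cfsg.GU n F q),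
      ((g : GeneralLinearGroup (Fin n) F) : Matrix (Fin n) (Fin n) F) * M = M * _ :=
    fun g => congrArg (fun y : ↥(Cfsg.GU n F q) =>
      ((y : GeneralLinearGroup (Fin n) F) : Matrix (Fin n) (Fin n) F)) (Subgroup.mem_center_iff.1 hx g)
  have hoff : ∀ i j, i ≠ j → M i j = 0 := by
    intro i j hij
    obtain ⟨g, hg⟩ := exists_diag hF (fun k => if k = i then w else 1) fun k => by
      by_cases h : k = i <;> simp [h, hw]
    have h1 := congrFun (congrFun (hcomm g) i) j
    rw [hg, diagonal_mul, mul_diagonal] at h1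
    simp only [↓reduceIte, if_neg (Ne.symm hij), Units.val_one, mul_one] at h1
    have h2 : ((w : F) - 1) * M i j = 0 := by linear_combination h1
    exact (mul_eq_zero.1 h2).resolve_left (sub_ne_zero.2 hw1)
  have hdiag : ∀ i j, M i i = M j j := by
    intro i j
    obtain ⟨g, hg⟩ := exists_perm (n := n) hF (Equiv.swap i j)
    have h1 : ((g : GeneralLinearGroup (Fin n) F) : Matrix (Fin n) (Fin n) F) *ᵥ
        (M *ᵥ Pi.single j 1) = M *ᵥ (((g : GeneralLinearGroup (Fin n) F) :
          Matrix (Fin n) (Fin n) F) *ᵥ Pi.single j 1) := by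
      rw [mulVec_mulVec, mulVec_mulVec, hcomm g]
    rw [hg, hg] at h1
    have h2 := congrFun h1 i
    have h3 : ((Pi.single j 1 : Fin n → F) ∘ Equiv.swap i j) = Pi.single i 1 := by
      funext k
      rcases eq_or_ne k i with rfl | hk
      · simp
      · rcases eq_or_ne k j with rfl | hk'
        · simp [Pi.single_apply, hk, hk.symm]
        · simp [Equiv.swap_apply_of_ne_of_ne hk hk', hk, hk']
    rw [h3] at h2
    simpa [mulVec_single] using h2.symm
  let i₀ : Fin n := ⟨0, by omega⟩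
  have hsc : M = M i₀ i₀ • 1 := by
    ext i j
    rcases eq_or_ne i j with rfl | hij
    · simp [hdiag i i₀]
    · simp [hij, hoff i j hij]
  have hne : M i₀ i₀ ≠ 0 := by
    intro h
    have hdet := (Matrix.isUnit_iff_isUnit_det M).1 (x : GeneralLinearGroup (Fin n) F).isUnit
    haveI : Nonempty (Fin n) := ⟨i₀⟩
    rw [hsc, h, zero_smul, det_zero] at hdet
    exact hdet.ne_zero rfl
  refine ⟨Units.mk0 _ hne, ?_, hsc⟩
  have h1 := mem_GU_iff.1 x.2 (Pi.single i₀ 1) (Pi.single i₀ 1)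
  rw [← hM, hsc, hermForm_single_single i₀ i₀ (by omega : q ≠ 0), if_pos rfl, smul_mulVec,
    one_mulVec] at h1
  simp only [hermForm] at h1
  rw [Finset.sum_eq_single i₀] at h1
  · rw [Units.val_mk0, pow_succ']; simpa using h1
  · intro j _ hj; simp [hj]
  · simp

/-- PGU_n(q)/PSU_n(q) is cyclic of order (n, q+1): for n ≥ 2 and |F| = q² there is a surjective homomorphism from GU_n(q) onto the cyclic group of order gcd(n, q + 1) whose kernel is generated by the determinant-one elements together with the centre. -/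
theorem result {F : Type*} [Field F] [Fintype F] {q : ℕ} (hF : Fintype.card F = q ^ 2) (n : ℕ) (hn : 2 ≤ n) : ∃ φ : ↥(Cfsg.GU n F q) →* Multiplicative (ZMod (Nat.gcd n (q + 1))), Function.Surjective φ ∧ φ.ker = (Matrix.GeneralLinearGroup.det : Matrix.GeneralLinearGroup (Fin n) F →* Fˣ).ker.subgroupOf (Cfsg.GU n F q) ⊔ Subgroup.center ↥(Cfsg.GU n F q) := by
  classical
  have hq := one_lt_q hF
  set μ : Subgroup Fˣ := (powMonoidHom (q + 1) : Fˣ →* Fˣ).ker with hμ
  have hμcard : Nat.card μ = q + 1 := by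
    rw [hμ, IsCyclic.card_powMonoidHom_ker, Nat.card_units, Nat.card_eq_fintype_card, hF]
    refine Nat.gcd_eq_right ⟨q - 1, ?_⟩
    obtain ⟨r, rfl⟩ : ∃ r, q = r + 1 := ⟨q - 1, by omega⟩
    simp only [Nat.add_sub_cancel]
    have : (r + 1) ^ 2 = (r + 1 + 1) * r + 1 := by ring
    omega
  let d : ↥(Cfsg.GU n F q) →* μ :=
    (Matrix.GeneralLinearGroup.det.comp (Cfsg.GU n F q).subtype).codRestrict μ fun g => by
      rw [hμ, MonoidHom.mem_ker]
      exact Units.ext (det_norm hF _ (mem_GU_iff.1 g.2))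
  let N : Subgroup μ := (powMonoidHom n : μ →* μ).range
  have hNidx : N.index = Nat.gcd n (q + 1) := by
    rw [IsCyclic.index_powMonoidHom_range, hμcard, Nat.gcd_comm]
  haveI : IsCyclic (μ ⧸ N) := isCyclic_of_surjective _ (QuotientGroup.mk'_surjective N)
  have hcardQ : Nat.card (μ ⧸ N) = Nat.card (Multiplicative (ZMod (Nat.gcd n (q + 1)))) := by
    rw [Nat.card_congr Multiplicative.toAdd, Nat.card_zmod]
    exact hNidx
  let e : μ ⧸ N ≃* Multiplicative (ZMod (Nat.gcd n (q + 1))) := mulEquivOfCyclicCardEq hcardQ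
  refine ⟨e.toMonoidHom.comp ((QuotientGroup.mk' N).comp d), ?_, ?_⟩
  · exact e.surjective.comp ((QuotientGroup.mk'_surjective N).comp fun z => by
      obtain ⟨g, hg⟩ := exists_det hF (show 1 ≤ n by omega) z.1 (congrArg Units.val z.2)
      exact ⟨g, Subtype.ext (Units.ext hg)⟩)
  · ext g
    rw [MonoidHom.mem_ker, MonoidHom.comp_apply, MulEquiv.coe_toMonoidHom, map_eq_one_iff e e.injective,
      MonoidHom.comp_apply, QuotientGroup.mk'_apply, QuotientGroup.eq_one_iff]
    constructor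
    · rintro ⟨z, hz⟩
      have hzn : ((z : Fˣ) : F) ^ n =
          ((g : Matrix.GeneralLinearGroup (Fin n) F) : Matrix (Fin n) (Fin n) F).det :=
        congrArg (fun w : μ => ((w : Fˣ) : F)) hz
      obtain ⟨s, hs, hsc⟩ := exists_scalar (n := n) hF z.1 (congrArg Units.val z.2)
      have hg : g = (g * s⁻¹) * s := by group
      rw [hg]
      refine Subgroup.mul_mem _ (Subgroup.mem_sup_left ?_) (Subgroup.mem_sup_right hsc)
      rw [Subgroup.mem_subgroupOf, MonoidHom.mem_ker, Subgroup.coe_mul, Subgroup.coe_inv, map_mul,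
        map_inv, mul_inv_eq_one]
      refine Units.ext ?_
      show ((g : Matrix.GeneralLinearGroup (Fin n) F) : Matrix (Fin n) (Fin n) F).det =
        ((s : Matrix.GeneralLinearGroup (Fin n) F) : Matrix (Fin n) (Fin n) F).det
      rw [← hzn, hs, Matrix.det_smul, Fintype.card_fin, Matrix.det_one, mul_one]
    · intro hg
      have hle : ((Matrix.GeneralLinearGroup.det : Matrix.GeneralLinearGroup (Fin n) F →* Fˣ).ker.subgroupOf
          (Cfsg.GU n F q) ⊔ Subgroup.center ↥(Cfsg.GU n F q)) ≤ N.comap d := by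
        refine sup_le (fun x hx => ?_) (fun x hx => ?_)
        · rw [Subgroup.mem_comap, show d x = 1 from Subtype.ext hx]
          exact one_mem N
        · obtain ⟨z, hz, hxz⟩ := center_scalar hF hn hx
          refine ⟨⟨z, Units.ext hz⟩, Subtype.ext (Units.ext ?_)⟩
          show (z : F) ^ n = ((x : Matrix.GeneralLinearGroup (Fin n) F) : Matrix (Fin n) (Fin n) F).det
          rw [hxz, Matrix.det_smul, Fintype.card_fin, Matrix.det_one, mul_one]
      exact hle hg

end Cfsg.Agent.S0783
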