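import Cfsg.Statements.S0794
import Cfsg.Agent.Lib.Forms.QuadStd

set_option autoImplicit false
open Cfsg Cfsg.Agent.Forms.QuadStd

namespace Cfsg.Agent.S0794

theorem exists_scale {F : Type*} [Field F] {n : ℕ} (Q : QuadraticForm F (Fin n → F))
    (hQ : (QuadraticMap.polarBilin Q).Nondegenerate) {u v : Fin n → F} (hu : Q u = 0) (hv : Q v = 0)
    (huv : QuadraticMap.polar Q u v = 0) (hli : LinearIndependent F ![u, v]) (h2 : (2 : F) ≠ 0) :
    ∃ f : (Fin n → F) ≃ₗ[F] (Fin n → F), (∀ x, Q (f x) = Q x) ∧ f u = (2 : F) • u ∧ f v = v := by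
  let L : (Fin 2 → F) →ₗ[F] (Fin n → F) := Fintype.linearCombination F ![(2 : F) • u, v]
  let X : Submodule F (Fin n → F) := Submodule.span F (Set.range ![u, v])
  let b : Module.Basis (Fin 2) F X := Module.Basis.span hli
  let φ : X →ₗ[F] (Fin n → F) := L ∘ₗ b.equivFun.toLinearMap
  have hli2 : LinearIndependent F ![(2 : F) • u, v] := by
    refine LinearIndependent.pair_iff.2 fun s t h => ?_
    have := LinearIndependent.pair_iff.1 hli (s * 2) t (by rwa [← smul_smul])
    exact ⟨by simpa [h2] using this.1, this.2⟩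
  have hφ : Function.Injective φ :=
    hli2.fintypeLinearCombination_injective.comp b.equivFun.injective
  have hb : ∀ i, φ (b i) = ![(2 : F) • u, v] i := fun i => by
    simp [φ, L, Fintype.linearCombination_apply, Pi.single_apply]
    fin_cases i <;> simp
  have hbv : ∀ i, (b i : Fin n → F) = ![u, v] i := fun i => Module.Basis.coe_span_apply hli i
  have hzero : ∀ s t : F, Q (s • u + t • v) = 0 := fun s t => by
    simp [QuadraticMap.map_add Q, QuadraticMap.map_smul, hu, hv, QuadraticMap.polar_smul_left,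
      QuadraticMap.polar_smul_right, huv]
  obtain ⟨f, hf, hfx⟩ := Cfsg.Agent.Forms.Witt.witt_quad Q hQ X φ hφ fun x => by
    have hx : (x : Fin n → F) = b.equivFun x 0 • u + b.equivFun x 1 • v := by
      conv_lhs => rw [← b.sum_equivFun x]
      simp only [Fin.sum_univ_two, Submodule.coe_add, Submodule.coe_smul, hbv,
        Matrix.cons_val_zero, Matrix.cons_val_one]
    rw [hx, hzero]
    simp only [φ, L, LinearMap.comp_apply, Fintype.linearCombination_apply, Fin.sum_univ_two,
      LinearEquiv.coe_coe, Matrix.cons_val_zero, Matrix.cons_val_one, smul_smul]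
    exact hzero _ _
  refine ⟨f, hf, ?_, ?_⟩
  · have := hfx (b 0)
    rwa [hbv, hb] at this
  · have := hfx (b 1)
    rwa [hbv, hb] at this

/-- For q odd, n ≥ 5 and Q with non-degenerate polar form: an isometry whose matrix is a Siegel transformation T_(u,v)(c) (u, v singular and orthogonal) is a commutator in the isometry group, so lies in Ω. -/
theorem result {F : Type*} [Field F] [Fintype F] (h2 : (2 : F) ≠ 0) {n : ℕ} (hn : 5 ≤ n) (Q : QuadraticForm F (Fin n → F)) (hQ : (QuadraticMap.polarBilin Q).Nondegenerate) (u v : Fin n → F) (hu : Q u = 0) (hv : Q v = 0) (huv : QuadraticMap.polar ⇑Q u v = 0) (c : F) (g : ↥(Cfsg.isometryGroup F ⇑Q)) (hg : ((g : Matrix.GeneralLinearGroup (Fin n) F) : Matrix (Fin n) (Fin n) F) = Cfsg.siegelMatrix ⇑Q u v c) : g ∈ commutatorSet ↥(Cfsg.isometryGroup F ⇑Q) ∧ g ∈ Cfsg.Omega F ⇑Q := by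
  suffices h : g ∈ commutatorSet ↥(Cfsg.isometryGroup F ⇑Q) from
    ⟨h, by rw [Cfsg.Omega, commutator_eq_closure]; exact Subgroup.subset_closure h⟩
  by_cases hli : LinearIndependent F ![u, v]
  · obtain ⟨f, hf, hfu, hfv⟩ := exists_scale Q hQ hu hv huv hli h2
    refine ⟨isoOfEquiv ⇑Q f hf, g, ?_⟩
    rw [commutatorElement_def, mul_inv_eq_iff_eq_mul, mul_inv_eq_iff_eq_mul]
    refine iso_ext fun x => ?_
    simp only [mul_mulVec_iso, hg, isoOfEquiv_mulVec]
    have hpol : ∀ a b, QuadraticMap.polar Q (f a) (f b) = QuadraticMap.polar Q a b := fun a b => by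
      simp only [QuadraticMap.polar, ← map_add, hf]
    have h1 : QuadraticMap.polar Q u (f x) * 2 = QuadraticMap.polar Q u x := by
      conv_rhs => rw [← hpol u x, hfu, QuadraticMap.polar_smul_left, smul_eq_mul]
      ring
    have h3 : QuadraticMap.polar Q v (f x) = QuadraticMap.polar Q v x := by
      conv_rhs => rw [← hpol v x, hfv]
    have huu : QuadraticMap.polar Q u u = 0 := by rw [QuadraticMap.polar_self, hu, smul_zero]
    have hvv : QuadraticMap.polar Q v v = 0 := by rw [QuadraticMap.polar_self, hv, smul_zero]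
    have hvu : QuadraticMap.polar Q v u = 0 := by rw [QuadraticMap.polar_comm, huv]
    simp only [siegel_mulVec, map_add, map_sub, map_smul, hfu, hfv,
      ← QuadraticMap.polarBilin_apply_apply]
    simp only [QuadraticMap.polarBilin_apply_apply, huu, hvv, huv, hvu, h3, smul_eq_mul]
    rw [← h1]
    module
  · refine ⟨1, 1, ?_⟩
    rw [commutatorElement_one_left]
    refine (iso_ext fun x => ?_).symm
    rw [hg, siegel_mulVec]
    simp only [OneMemClass.coe_one, Units.val_one, Matrix.one_mulVec]
    by_cases hu0 : u = 0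
    · subst hu0
      simp
    · obtain ⟨a, rfl⟩ : ∃ a : F, a • u = v := by
        rw [LinearIndependent.pair_iff' hu0] at hli
        push Not at hli
        exact hli
      rw [QuadraticMap.polar_smul_left, smul_eq_mul]
      module

end Cfsg.Agent.S0794
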