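import Cfsg.Statements.S0795
import Cfsg.Agent.Lib.Classical.OrthEichler
import Cfsg.Agent.S0794
-- import your own Cfsg.Agent.* helpers here

set_option autoImplicit false
open Cfsg

namespace Cfsg.Agent.S0795

open Matrix Cfsg.Agent.Forms.QuadStd Cfsg.Agent.Forms.Reflections Cfsg.Agent.Classical.Orth

section

variable {F : Type*} [Field F] [Fintype F] {n : ℕ} {Q : QuadraticForm F (Fin n → F)}

local notation "B" => QuadraticMap.polar Q

theorem exists_singular_in (h2 : (2 : F) ≠ 0) (W : Submodule F (Fin n → F))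
    (hW : ∀ z ∈ W, (∀ s ∈ W, B z s = 0) → z = 0) (hd : 3 ≤ Module.finrank F W) :
    ∃ a b, a ∈ W ∧ b ∈ W ∧ IsPair Q a b := by
  have hS : (polB Q).IsSymm := ⟨fun u v => QuadraticMap.polar_comm _ u v⟩
  have hWn : Forms.Bases.NondegOn (polB Q) W := hW
  obtain ⟨u, hu, huu, -⟩ := Forms.Bases.exists_symm_unit h2 (polB Q) hS W hWn (by omega) 2 h2
  obtain ⟨hW', -, hfr⟩ := Forms.Bases.split_anisotropic (polB Q)
    (fun u v h => by rw [polB_apply, QuadraticMap.polar_comm]; exact h) hWn hu
    (by rw [huu]; exact h2)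
  obtain ⟨w, hw, hww, -⟩ := Forms.Bases.exists_symm_unit h2 (polB Q) hS _ hW' (by omega) (-2)
    (neg_ne_zero.2 h2)
  obtain ⟨hwW, hwu⟩ := Submodule.mem_inf.1 hw
  rw [LinearMap.mem_ker, polB_apply] at hwu
  rw [polB_apply, polar_self'] at huu hww
  have hQu : Q u = 1 := mul_left_cancel₀ h2 (by rw [huu, mul_one])
  have hQw : Q w = -1 := mul_left_cancel₀ h2 (by rw [hww, mul_neg, mul_one])
  set a := u + w
  have haW : a ∈ W := W.add_mem hu hwW
  have hQa : Q a = 0 := by rw [Classical.Orth.map_add', hQu, hQw, hwu]; ring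
  have ha0 : a ≠ 0 := fun h => h2 (by
    have h1 : B u a = 2 := by
      rw [QuadraticMap.polar_add_right, polar_self', hQu, hwu, mul_one, add_zero]
    rw [← h1, h, QuadraticMap.polar_zero_right])
  obtain ⟨z, hz, hzne⟩ : ∃ z ∈ W, B a z ≠ 0 := by
    by_contra hne
    push Not at hne
    exact ha0 (hW a haW hne)
  set z' := (B a z)⁻¹ • z
  have hz' : B a z' = 1 := by
    rw [QuadraticMap.polar_smul_right, smul_eq_mul, inv_mul_cancel₀ hzne]
  have hz'W : z' ∈ W := W.smul_mem _ hz
  clear_value z'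
  refine ⟨a, z' - Q z' • a, haW, W.sub_mem hz'W (W.smul_mem _ haW), hQa, ?_, ?_⟩
  · rw [Classical.Orth.map_sub', Classical.Orth.map_smul', QuadraticMap.polar_smul_right, QuadraticMap.polar_comm _ z' a, hz', hQa,
      smul_eq_mul]
    ring
  · rw [QuadraticMap.polar_sub_right, hz', QuadraticMap.polar_smul_right, polar_self_zero hQa]
    simp

theorem exists_partner (hQ : (QuadraticMap.polarBilin Q).Nondegenerate) {u : Fin n → F} (hu : Q u = 0)
    (hu0 : u ≠ 0) : ∃ v, IsPair Q u v := by
  obtain ⟨z, hz⟩ : ∃ z, B u z ≠ 0 := by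
    by_contra hne
    push Not at hne
    exact hu0 (hQ.1 u hne)
  set z' := (B u z)⁻¹ • z
  have hz' : B u z' = 1 := by
    rw [QuadraticMap.polar_smul_right, smul_eq_mul, inv_mul_cancel₀ hz]
  clear_value z'
  refine ⟨z' - Q z' • u, hu, ?_, ?_⟩
  · rw [Classical.Orth.map_sub', Classical.Orth.map_smul', QuadraticMap.polar_smul_right, QuadraticMap.polar_comm _ z' u, hz', hu,
      smul_eq_mul]
    ring
  · rw [QuadraticMap.polar_sub_right, hz', QuadraticMap.polar_smul_right, polar_self_zero hu]
    simp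

/-- the complement of a pair -/
noncomputable def comp (Q : QuadraticForm F (Fin n → F)) (u v : Fin n → F) :
    Submodule F (Fin n → F) :=
  LinearMap.ker (polB Q u) ⊓ LinearMap.ker (polB Q v)

theorem mem_comp {u v x : Fin n → F} : x ∈ comp Q u v ↔ B u x = 0 ∧ B v x = 0 := by
  simp [comp, polB_apply]

theorem proj_in_comp {u v : Fin n → F} (hp : IsPair Q u v) (x : Fin n → F) :
    proj Q u v x ∈ comp Q u v := by
  rw [mem_comp, QuadraticMap.polar_comm _ u, QuadraticMap.polar_comm _ v]
  exact proj_perp hp x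

theorem comp_nondeg (hQ : (QuadraticMap.polarBilin Q).Nondegenerate) {u v : Fin n → F}
    (hp : IsPair Q u v) : ∀ z ∈ comp Q u v, (∀ s ∈ comp Q u v, B z s = 0) → z = 0 := by
  intro z hz h
  obtain ⟨hzu, hzv⟩ := mem_comp.1 hz
  refine hQ.1 z fun s => ?_
  show B z s = 0
  rw [proj_add (Q := Q) u v s, QuadraticMap.polar_add_right, QuadraticMap.polar_add_right,
    QuadraticMap.polar_smul_right, QuadraticMap.polar_smul_right, QuadraticMap.polar_comm _ z u,
    QuadraticMap.polar_comm _ z v, hzu, hzv, h _ (proj_in_comp hp s)]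
  simp

theorem comp_finrank (hn : 5 ≤ n) (u v : Fin n → F) : 3 ≤ Module.finrank F (comp Q u v) := by
  have hk : ∀ w, n ≤ Module.finrank F (LinearMap.ker (polB Q w)) + 1 := by
    intro w
    have h1 := LinearMap.finrank_range_add_finrank_ker (polB Q w)
    have h2 := Submodule.finrank_le (LinearMap.range (polB Q w))
    rw [Module.finrank_self] at h2
    rw [Module.finrank_fin_fun] at h1
    omega
  have h := Submodule.finrank_sup_add_finrank_inf_eq (LinearMap.ker (polB Q u))
    (LinearMap.ker (polB Q v))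
  have h3 := Submodule.finrank_le (LinearMap.ker (polB Q u) ⊔ LinearMap.ker (polB Q v))
  rw [Module.finrank_fin_fun] at h3
  have := hk u
  have := hk v
  unfold comp
  omega

theorem exists_frame (h2 : (2 : F) ≠ 0) (hn : 5 ≤ n)
    (hQ : (QuadraticMap.polarBilin Q).Nondegenerate) : Nonempty (Frame Q) := by
  obtain ⟨u, v, -, -, hp⟩ := exists_singular_in h2 ⊤ (fun z _ h => hQ.1 z fun s => h s trivial)
    (by rw [finrank_top, Module.finrank_fin_fun]; omega)
  obtain ⟨a, b, ha, hb, hp'⟩ := exists_singular_in h2 _ (comp_nondeg hQ hp) (comp_finrank hn u v)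
  obtain ⟨x₀, hx₀, hx0⟩ : ∃ x, (B u x = 0 ∧ B v x = 0 ∧ B a x = 0 ∧ B b x = 0) ∧ Q x ≠ 0 := by
    by_contra hne
    push Not at hne
    have hz : ∀ x, B u x = 0 → B v x = 0 → B a x = 0 → B b x = 0 → x = 0 := by
      intro x h1 h2' h3 h4
      have hp1 := proj_perp hp
      refine hQ.1 x fun s => ?_
      show B x s = 0
      have hs := proj_add (Q := Q) u v s
      have hs' := proj_add (Q := Q) a b (proj Q u v s)
      have hin := proj_in_comp hp s
      have hin2 : proj Q a b (proj Q u v s) ∈ comp Q u v := proj_mem ha hb hin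
      have hin3 := proj_in_comp hp' (proj Q u v s)
      rw [mem_comp] at hin2 hin3
      set y := proj Q a b (proj Q u v s)
      have hy : B x y = 0 := by
        have hxy := hne (x + y) ⟨by rw [QuadraticMap.polar_add_right, h1, hin2.1, add_zero],
          by rw [QuadraticMap.polar_add_right, h2', hin2.2, add_zero],
          by rw [QuadraticMap.polar_add_right, h3, hin3.1, add_zero],
          by rw [QuadraticMap.polar_add_right, h4, hin3.2, add_zero]⟩
        rw [Classical.Orth.map_add', hne x ⟨h1, h2', h3, h4⟩, hne y ⟨hin2.1, hin2.2, hin3.1, hin3.2⟩] at hxy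
        simpa using hxy
      rw [hs, hs']
      simp only [QuadraticMap.polar_add_right, QuadraticMap.polar_smul_right,
        QuadraticMap.polar_comm _ x u, QuadraticMap.polar_comm _ x v, QuadraticMap.polar_comm _ x a,
        QuadraticMap.polar_comm _ x b, h1, h2', h3, h4, hy, smul_zero, add_zero]
    have : Module.finrank F (Fin n → F) ≤ 4 := by
      let L : (Fin n → F) →ₗ[F] F × F × F × F :=
        (polB Q u).prod ((polB Q v).prod ((polB Q a).prod (polB Q b)))
      have hL : Function.Injective L := by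
        rw [injective_iff_map_eq_zero]
        intro x hx
        exact hz x (by simpa [L, polB_apply] using congrArg Prod.fst hx)
          (by simpa [L, polB_apply] using congrArg (fun p => p.2.1) hx)
          (by simpa [L, polB_apply] using congrArg (fun p => p.2.2.1) hx)
          (by simpa [L, polB_apply] using congrArg (fun p => p.2.2.2) hx)
      refine (LinearMap.finrank_le_finrank_of_injective hL).trans (le_of_eq ?_)
      simp
    rw [Module.finrank_fin_fun] at this
    omega
  rw [mem_comp] at ha hb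
  exact ⟨⟨u, v, a, b, x₀, hp, hp', ha.1, hb.1, ha.2, hb.2, hx₀.1, hx₀.2.1, hx₀.2.2.1, hx₀.2.2.2, hx0⟩⟩

theorem eich_eq_siegel {u s : Fin n → F} (hu : Q u = 0) (hs : Q s = 0) (hus : B u s = 0) :
    ((eich u s hu hus : Matrix.GeneralLinearGroup (Fin n) F) : Matrix (Fin n) (Fin n) F) =
      Cfsg.siegelMatrix ⇑Q u s 1 := by
  refine Matrix.ext_iff_mulVec.2 fun x => ?_
  rw [← act_apply, act_eich, siegel_mulVec, hs, QuadraticMap.polar_comm _ x u,
    QuadraticMap.polar_comm _ x s]
  simp

/-- generation by Siegel transformations -/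
theorem omega_eq_siegel (h2 : (2 : F) ≠ 0) (hn : 5 ≤ n)
    (hQ : (QuadraticMap.polarBilin Q).Nondegenerate) :
    Cfsg.Omega F ⇑Q = Subgroup.closure {g : ↥(Cfsg.isometryGroup F ⇑Q) |
      ∃ (u v : Fin n → F) (c : F), Q u = 0 ∧ Q v = 0 ∧ QuadraticMap.polar ⇑Q u v = 0 ∧
        ((g : Matrix.GeneralLinearGroup (Fin n) F) : Matrix (Fin n) (Fin n) F) =
          Cfsg.siegelMatrix ⇑Q u v c} := by
  refine le_antisymm ?_ ((Subgroup.closure_le _).2 ?_)
  swap
  · rintro g ⟨u, v, c, hu, hv, huv, hg⟩
    exact (S0794.result h2 hn Q hQ u v hu hv huv c g hg).2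
  obtain ⟨f⟩ := exists_frame h2 hn hQ
  rw [omega_eq_eGroup hQ f (by rw [Fintype.card_fin]; exact hn)]
  refine (Subgroup.closure_le _).2 ?_
  rintro g ⟨u, w, hu, huw, -, -, rfl⟩
  set K := Subgroup.closure {g : ↥(Cfsg.isometryGroup F ⇑Q) |
      ∃ (u v : Fin n → F) (c : F), Q u = 0 ∧ Q v = 0 ∧ QuadraticMap.polar ⇑Q u v = 0 ∧
        ((g : Matrix.GeneralLinearGroup (Fin n) F) : Matrix (Fin n) (Fin n) F) =
          Cfsg.siegelMatrix ⇑Q u v c}
  rcases eq_or_ne u 0 with rfl | hu0
  · rw [eich_zero_left hu huw]; exact one_mem _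
  obtain ⟨v, hp⟩ := exists_partner hQ hu hu0
  obtain ⟨a, b, ha, hb, hp'⟩ := exists_singular_in h2 _ (comp_nondeg hQ hp) (comp_finrank hn u v)
  let S : AddSubmonoid (Fin n → F) :=
    { carrier := {x | ∃ h : B u x = 0, eich u x hu h ∈ K}
      zero_mem' := ⟨by simp, by rw [eich_zero_right]; exact one_mem _⟩
      add_mem' := fun {x y} hx hy => by
        obtain ⟨h1, h1'⟩ := hx
        obtain ⟨h2', h2''⟩ := hy
        refine ⟨by rw [QuadraticMap.polar_add_right, h1, h2', add_zero], ?_⟩
        rw [← eich_mul hu h1 h2']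
        exact mul_mem h1' h2'' }
  have hsing : ∀ s, Q s = 0 → B u s = 0 → s ∈ S := fun s hs hus =>
    ⟨hus, Subgroup.subset_closure ⟨u, s, 1, hu, hs, hus, eich_eq_siegel hu hs hus⟩⟩
  suffices w ∈ S by exact this.2
  rw [mem_comp] at ha hb
  set w' := proj Q u v w with hw'
  set y := proj Q a b w' with hy
  have hw'in : B u w' = 0 ∧ B v w' = 0 := mem_comp.1 (proj_in_comp hp w)
  have hyin : B a y = 0 ∧ B b y = 0 := mem_comp.1 (proj_in_comp hp' w')
  have hyu : B u y = 0 := by
    rw [hy, proj, QuadraticMap.polar_sub_right, QuadraticMap.polar_sub_right,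
      QuadraticMap.polar_smul_right, QuadraticMap.polar_smul_right, hw'in.1, ha.1, hb.1]
    simp
  have e : w = B w v • u + B w' b • a + B w' a • b + (y + a + (-Q y) • b) + (-1 : F) • a + Q y • b := by
    have e1 := proj_add (Q := Q) u v w
    have e2 := proj_add (Q := Q) a b w'
    rw [← hy] at e2
    rw [QuadraticMap.polar_comm _ w u, huw, zero_smul, add_zero, ← hw'] at e1
    conv_lhs => rw [e1, e2]
    module
  have hsa : ∀ t : F, t • a ∈ S := fun t => hsing _ (by rw [Classical.Orth.map_smul', hp'.hu, mul_zero])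
    (by rw [QuadraticMap.polar_smul_right, ha.1, smul_zero])
  have hsb : ∀ t : F, t • b ∈ S := fun t => hsing _ (by rw [Classical.Orth.map_smul', hp'.hv, mul_zero])
    (by rw [QuadraticMap.polar_smul_right, hb.1, smul_zero])
  rw [e]
  refine add_mem (add_mem (add_mem (add_mem (add_mem ?_ (hsa _)) (hsb _)) ?_) (hsa _)) (hsb _)
  · exact hsing _ (by rw [Classical.Orth.map_smul', hu, mul_zero])
      (by rw [QuadraticMap.polar_smul_right, polar_self_zero hu, smul_zero])
  · refine hsing _ ?_ ?_
    · rw [Classical.Orth.map_add', Classical.Orth.map_add', Classical.Orth.map_smul', hp'.hu, hp'.hv, QuadraticMap.polar_add_left,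
        QuadraticMap.polar_smul_right, QuadraticMap.polar_smul_right, QuadraticMap.polar_comm _ y a,
        QuadraticMap.polar_comm _ y b, hyin.1, hyin.2, hp'.huv]
      simp
    · rw [QuadraticMap.polar_add_right, QuadraticMap.polar_add_right, QuadraticMap.polar_smul_right,
        hyu, ha.1, hb.1]
      simp

end



/-- Generation of Ω by root elements: for q odd, n ≥ 5 and Q with non-degenerate polar form on F^n, the commutator subgroup of the isometry group equals the subgroup generated by the isometries whose matrices are Siegel transformations T_(u,v)(c) with u, v singular and orthogonal. -/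
theorem result {F : Type*} [Field F] [Fintype F] (h2 : (2 : F) ≠ 0) {n : ℕ} (hn : 5 ≤ n) (Q : QuadraticForm F (Fin n → F)) (hQ : (QuadraticMap.polarBilin Q).Nondegenerate) : Cfsg.Omega F ⇑Q = Subgroup.closure {g : ↥(Cfsg.isometryGroup F ⇑Q) | ∃ (u v : Fin n → F) (c : F), Q u = 0 ∧ Q v = 0 ∧ QuadraticMap.polar ⇑Q u v = 0 ∧ ((g : Matrix.GeneralLinearGroup (Fin n) F) : Matrix (Fin n) (Fin n) F) = Cfsg.siegelMatrix ⇑Q u v c} := by
  exact omega_eq_siegel h2 hn hQ

end Cfsg.Agent.S0795
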