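import Cfsg.Statements.S0796

set_option autoImplicit false
open Cfsg

namespace Cfsg.Agent.S0796

/-- If G is finite and acts faithfully and primitively on X, H is the stabiliser of a point, A is a normal subgroup of H whose normal closure in G is G, then for every non-trivial normal subgroup K of G the quotient G ⧸ K is isomorphic to A ⧸ B for some normal subgroup B of A. -/
theorem result {G X : Type*} [Group G] [Finite G] [MulAction G X] [FaithfulSMul G X] (hprim : MulAction.IsPreprimitive G X) (x : X) (A : Subgroup G) (hA : A ≤ MulAction.stabilizer G x) (hAn : (A.subgroupOf (MulAction.stabilizer G x)).Normal) (hgen : Subgroup.normalClosure (A : Set G) = ⊤) (K : Subgroup G) [K.Normal] (hK : K ≠ ⊥) : ∃ (B : Subgroup A) (_ : B.Normal), Nonempty (G ⧸ K ≃* A ⧸ B) := by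
  haveI := hprim
  haveI : MulAction.IsQuasiPreprimitive G X := inferInstance
  haveI hKtrans : MulAction.IsPretransitive K X := by
    refine MulAction.IsQuasiPreprimitive.isPretransitive_of_normal (N := K) fun hfix => hK ?_
    rw [eq_bot_iff]
    intro k hk
    refine Subgroup.mem_bot.2 (eq_of_smul_eq_smul (α := X) fun y => ?_)
    have : y ∈ MulAction.fixedPoints K X := hfix ▸ Set.mem_univ y
    simpa [Subgroup.smul_def] using this ⟨k, hk⟩
  set φ : A →* G ⧸ K := (QuotientGroup.mk' K).comp A.subtype with hφ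
  have hnorm : φ.range.Normal := by
    refine ⟨?_⟩
    rintro _ ⟨a, rfl⟩ z
    obtain ⟨g, rfl⟩ := QuotientGroup.mk'_surjective K z
    obtain ⟨⟨k, hk⟩, hkx⟩ := MulAction.exists_smul_eq K x (g • x)
    have hkx' : k • x = g • x := hkx
    have hs : k⁻¹ * g ∈ MulAction.stabilizer G x := by
      rw [MulAction.mem_stabilizer_iff, mul_smul, ← hkx', inv_smul_smul]
    have hmem : k⁻¹ * g * a * (k⁻¹ * g)⁻¹ ∈ A :=
      hAn.conj_mem ⟨(a : G), hA a.2⟩ a.2 ⟨_, hs⟩
    refine ⟨⟨_, hmem⟩, ?_⟩
    have hk1 : (QuotientGroup.mk' K) k = 1 := by simpa [QuotientGroup.eq_one_iff] using hk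
    simp only [hφ, MonoidHom.comp_apply, Subgroup.coe_subtype, map_mul, map_inv, hk1, inv_one,
      one_mul]
  have hle : Subgroup.normalClosure (A : Set G) ≤ φ.range.comap (QuotientGroup.mk' K) :=
    Subgroup.normalClosure_le_normal fun a ha => ⟨⟨a, ha⟩, rfl⟩
  rw [hgen] at hle
  have hsurj : Function.Surjective φ := fun z => by
    obtain ⟨g, rfl⟩ := QuotientGroup.mk'_surjective K z
    exact hle (Subgroup.mem_top g)
  exact ⟨φ.ker, inferInstance, ⟨(QuotientGroup.quotientKerEquivOfSurjective φ hsurj).symm⟩⟩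

end Cfsg.Agent.S0796
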