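import Cfsg.Statements.S0797
import Cfsg.Agent.Lib.Forms.SpecialOrth

set_option autoImplicit false
open Cfsg Cfsg.Agent.Forms.QuadStd Cfsg.Agent.Forms.Reflections Cfsg.Agent.Forms.Spinor Cfsg.Agent.Forms.SpecialOrth

namespace Cfsg.Agent.S0797

theorem card_index_two : Nat.card {K : Subgroup (ℤˣ × ℤˣ) // K.index = 2} = 3 := by
  have h4 : Nat.card (ℤˣ × ℤˣ) = 4 := by rw [Nat.card_eq_fintype_card]; rfl
  have hsq : ∀ x : ℤˣ × ℤˣ, x ^ 2 = 1 := fun x => by
    rcases x with ⟨a, b⟩; ext <;> simp [Int.units_sq]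
  have hzp : ∀ x : ℤˣ × ℤˣ, x ≠ 1 → Nat.card (Subgroup.zpowers x) = 2 := fun x hx => by
    rw [Nat.card_zpowers]
    exact orderOf_eq_prime (hsq x) hx
  let e : {x : ℤˣ × ℤˣ // x ≠ 1} → {K : Subgroup (ℤˣ × ℤˣ) // K.index = 2} := fun x =>
    ⟨Subgroup.zpowers x.1, by
      have := Subgroup.card_mul_index (Subgroup.zpowers x.1)
      rw [hzp _ x.2, h4] at this
      omega⟩
  have hbij : Function.Bijective e := by
    constructor
    · intro x y h
      have hm : x.1 ∈ Subgroup.zpowers y.1 := by
        rw [← show Subgroup.zpowers x.1 = Subgroup.zpowers y.1 from congrArg Subtype.val h]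
        exact Subgroup.mem_zpowers x.1
      obtain ⟨k, hk⟩ := hm
      change y.1 ^ k = x.1 at hk
      rw [← Int.emod_add_mul_ediv k 2, zpow_add, zpow_mul, zpow_ofNat, hsq, one_zpow, mul_one] at hk
      rcases Int.emod_two_eq_zero_or_one k with h0 | h0 <;> rw [h0] at hk
      · exact absurd (by simpa using hk.symm) x.2
      · exact Subtype.ext (by simpa using hk.symm)
    · rintro ⟨K, hK⟩
      have hK2 : Nat.card K = 2 := by
        have := Subgroup.card_mul_index K
        rw [hK, h4] at this
        omega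
      have : K ≠ ⊥ := fun h => by rw [h, Subgroup.card_bot] at hK2; omega
      obtain ⟨x, hxK, hx⟩ := (Subgroup.bot_or_exists_ne_one K).resolve_left this
      refine ⟨⟨x, hx⟩, Subtype.ext (Subgroup.eq_of_le_of_card_ge ?_ ?_)⟩
      · exact Subgroup.zpowers_le.2 hxK
      · rw [hK2, hzp x hx]
  rw [← Nat.card_congr (Equiv.ofBijective e hbij), Nat.card_eq_fintype_card]
  rfl

/-- O^ε_2m(q) ≅ Ω.2² for q odd: if F is finite of odd characteristic, n ≥ 2 is even and Q has non-degenerate polar form on F^n, the isometry group of Q has exactly three subgroups of index 2. -/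
theorem result {F : Type*} [Field F] [Fintype F] (h2 : (2 : F) ≠ 0) {n : ℕ} (hn : 2 ≤ n) (heven : Even n) (Q : QuadraticForm F (Fin n → F)) (hQ : (QuadraticMap.polarBilin Q).Nondegenerate) : Nat.card {H : Subgroup ↥(Cfsg.isometryGroup F ⇑Q) // H.index = 2} = 3 := by
  have hn' : 2 ≤ Fintype.card (Fin n) := by simpa using hn
  have hsurj := pairHom_surjective hQ h2 hn'
  have hker := ker_pairHom hQ h2 hn'
  let e : {K : Subgroup (ℤˣ × ℤˣ) // K.index = 2} ≃
      {H : Subgroup ↥(Cfsg.isometryGroup F ⇑Q) // H.index = 2} :=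
    Equiv.ofBijective (fun K => ⟨K.1.comap (pairHom hQ h2),
      by rw [Subgroup.index_comap_of_surjective _ hsurj]; exact K.2⟩)
      ⟨fun K L h => Subtype.ext (Subgroup.comap_injective hsurj (congrArg Subtype.val h)),
       fun H => by
        have hle : (pairHom hQ h2).ker ≤ H.1 := by
          rw [hker, Cfsg.Omega, commutator_eq_closure, Subgroup.closure_le]
          haveI := Subgroup.normal_of_index_eq_two H.2
          rintro _ ⟨a, b, rfl⟩
          rw [SetLike.mem_coe, ← QuotientGroup.eq_one_iff, ← QuotientGroup.mk'_apply,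
            map_commutatorElement, commutatorElement_eq_one_iff_commute]
          have hcard : Nat.card (↥(Cfsg.isometryGroup F ⇑Q) ⧸ H.1) = 2 := H.2
          haveI : Fact (Nat.Prime 2) := ⟨Nat.prime_two⟩
          haveI := isCyclic_of_prime_card hcard
          exact IsMulCommutative.is_comm.comm _ _
        refine ⟨⟨H.1.map (pairHom hQ h2), ?_⟩, Subtype.ext (Subgroup.comap_map_eq_self hle)⟩
        rw [Subgroup.index_map, sup_eq_left.2 hle, MonoidHom.range_eq_top.2 hsurj,
          Subgroup.index_top, mul_one]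
        exact H.2⟩
  rw [← Nat.card_congr e]
  exact card_index_two

end Cfsg.Agent.S0797
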