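import Cfsg.Statements.S0802
import Cfsg.Agent.Lib.Forms.KleinClasses
-- import your own Cfsg.Agent.* helpers here

set_option autoImplicit false
open Cfsg

namespace Cfsg.Agent.S0802

theorem pi_inj {F : Type*} [Field F] [Fintype F] [CharP F 2] :
    Function.Injective (Forms.KleinPSL.pi F) := by
  intro a b h
  rcases Forms.KleinPSL.pi_eq_iff.1 h with h | h
  · exact h
  · rw [h]
    apply Subtype.ext
    rw [Matrix.SpecialLinearGroup.coe_neg]
    ext i j
    simp [CharTwo.neg_eq]

theorem exists_data_char_two {F : Type*} [Field F] [Fintype F] [CharP F 2] (k : ℕ)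
    (hF : Fintype.card F = 2 ^ (k + k)) (hk : k ≠ 0) :
    ∃ a b w : Matrix.SpecialLinearGroup (Fin 2) F, Forms.KleinGroups.Alt4Data a b w := by
  classical
  have h3 : 3 ∣ Fintype.card Fˣ := by
    rw [Fintype.card_units, hF, ← two_mul, pow_mul]
    have : (2 ^ 2) ^ k % 3 = 1 := by rw [Nat.pow_mod]; norm_num
    omega
  haveI : Fact (Nat.Prime 3) := ⟨Nat.prime_three⟩
  obtain ⟨μ, hμ⟩ := exists_prime_orderOf_dvd_card 3 h3
  have hne : (μ : F) ≠ 1 := fun h => by
    rw [Units.val_eq_one] at h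
    simp [h] at hμ
  have hcube : (μ : F) * μ * μ = 1 := by
    have := congrArg (Units.val) (pow_orderOf_eq_one μ)
    rw [hμ, Units.val_pow_eq_pow_val, pow_succ, pow_two, Units.val_one] at this
    exact this
  have h2 : (2 : F) = 0 := CharTwo.two_eq_zero
  have hsum : (μ : F) * μ + μ + 1 = 0 := by
    have : ((μ : F) - 1) * ((μ : F) * μ + μ + 1) = 0 := by linear_combination hcube
    exact (mul_eq_zero.1 this).resolve_left (sub_ne_zero.2 hne)
  let U : F → Matrix.SpecialLinearGroup (Fin 2) F := fun x =>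
    ⟨!![1, x; 0, 1], by simp [Matrix.det_fin_two]⟩
  let W : Matrix.SpecialLinearGroup (Fin 2) F :=
    ⟨!![(μ : F), 0; 0, μ * μ], by simp [Matrix.det_fin_two]; linear_combination hcube⟩
  have hU : ∀ x y, U x * U y = U (x + y) := fun x y => by
    apply Subtype.ext
    show !![1, x; 0, 1] * !![1, y; 0, 1] = !![1, x + y; 0, 1]
    ext i j
    fin_cases i <;> fin_cases j <;> simp [Matrix.mul_apply, Fin.sum_univ_two, add_comm]
  have hU0 : U 0 = 1 := by
    apply Subtype.ext
    show !![1, (0 : F); 0, 1] = 1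
    exact Matrix.one_fin_two.symm
  have hU1 : ∀ x, x ≠ 0 → U x ≠ 1 := fun x hx h => hx (by
    have := congrArg (fun g : Matrix.SpecialLinearGroup (Fin 2) F =>
      (g : Matrix (Fin 2) (Fin 2) F) 0 1) h
    simpa [U] using this)
  refine ⟨U 1, U μ, W, ⟨?_, ?_, ?_, hU1 1 one_ne_zero, hU1 μ μ.ne_zero, ?_, ?_, ?_, ?_⟩⟩
  · rw [hU, CharTwo.add_self_eq_zero, hU0]
  · rw [hU, CharTwo.add_self_eq_zero, hU0]
  · show U 1 * U μ = U μ * U 1
    rw [hU, hU, add_comm]
  · intro h
    have := congrArg (fun g : Matrix.SpecialLinearGroup (Fin 2) F =>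
      (g : Matrix (Fin 2) (Fin 2) F) 0 1) h
    simp [U] at this
    exact hne this.symm
  · apply Subtype.ext
    show !![(μ : F), 0; 0, μ * μ] * !![(μ : F), 0; 0, μ * μ] * !![(μ : F), 0; 0, μ * μ] = 1
    rw [Matrix.one_fin_two]
    ext i j
    fin_cases i <;> fin_cases j <;> simp [Matrix.mul_apply, Fin.sum_univ_two]
    · linear_combination hcube
    · linear_combination ((μ : F) * μ * μ + 1) * hcube
  · rw [hU]
    apply Subtype.ext
    show !![(μ : F), 0; 0, μ * μ] * !![1, 1; 0, 1] = !![1, 1 + (μ : F); 0, 1] * !![(μ : F), 0; 0, μ * μ]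
    ext i j
    fin_cases i <;> fin_cases j <;> simp [Matrix.mul_apply, Fin.sum_univ_two]
    linear_combination -hsum + h2 * (μ : F) - hcube
  · apply Subtype.ext
    show !![(μ : F), 0; 0, μ * μ] * !![1, (μ : F); 0, 1] = !![1, 1; 0, 1] * !![(μ : F), 0; 0, μ * μ]
    ext i j
    fin_cases i <;> fin_cases j <;> simp [Matrix.mul_apply, Fin.sum_univ_two]

theorem three_dvd_of_data {F : Type*} [Field F] [Fintype F] [CharP F 2]
    {u v g : Matrix.SpecialLinearGroup (Fin 2) F} (hu : u * u = 1) (hv : v * v = 1) (hu1 : u ≠ 1)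
    (hv1 : v ≠ 1) (huv : u ≠ v) (hc : u * v = v * u) (hgu : g * u = v * g) (hgv : g * v = u * v * g) :
    3 ∣ Fintype.card F - 1 := by
  classical
  have h2 : (2 : F) = 0 := CharTwo.two_eq_zero
  set P := (u : Matrix (Fin 2) (Fin 2) F)
  set Q := (v : Matrix (Fin 2) (Fin 2) F)
  set G := (g : Matrix (Fin 2) (Fin 2) F)
  have inv : ∀ w : Matrix.SpecialLinearGroup (Fin 2) F, w * w = 1 →
      (w : Matrix (Fin 2) (Fin 2) F) 1 1 = (w : Matrix (Fin 2) (Fin 2) F) 0 0 ∧
      ((w : Matrix (Fin 2) (Fin 2) F) 0 0 + 1) * ((w : Matrix (Fin 2) (Fin 2) F) 0 0 + 1) =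
        (w : Matrix (Fin 2) (Fin 2) F) 0 1 * (w : Matrix (Fin 2) (Fin 2) F) 1 0 := by
    intro w hw
    set R := (w : Matrix (Fin 2) (Fin 2) F) with hR
    have hm : R * R = 1 := by
      rw [← Matrix.SpecialLinearGroup.coe_mul, hw, Matrix.SpecialLinearGroup.coe_one]
    have e00 := congrFun (congrFun hm 0) 0
    have e11 := congrFun (congrFun hm 1) 1
    simp [Matrix.mul_apply, Fin.sum_univ_two] at e00 e11
    have hd : R 0 0 * R 1 1 - R 0 1 * R 1 0 = 1 := by rw [← Matrix.det_fin_two]; exact w.2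
    have ht : R 0 0 + R 1 1 = 0 := by
      have : (R 0 0 + R 1 1) * (R 0 0 + R 1 1) = 0 := by
        linear_combination e00 + e11 + 2 * hd + 2 * h2
      exact mul_self_eq_zero.1 this
    refine ⟨?_, ?_⟩
    · linear_combination ht - h2 * R 0 0
    · linear_combination e00 + h2 * (R 0 0 - R 0 1 * R 1 0 + 1)
  obtain ⟨p11, pq⟩ := inv u hu
  obtain ⟨q11, qq⟩ := inv v hv
  replace pq : (P 0 0 + 1) * (P 0 0 + 1) = P 0 1 * P 1 0 := pq
  replace qq : (Q 0 0 + 1) * (Q 0 0 + 1) = Q 0 1 * Q 1 0 := qq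
  replace p11 : P 1 1 = P 0 0 := p11
  replace q11 : Q 1 1 = Q 0 0 := q11
  have hcm : P * Q = Q * P := by
    rw [← Matrix.SpecialLinearGroup.coe_mul, hc, Matrix.SpecialLinearGroup.coe_mul]
  have c00 := congrFun (congrFun hcm 0) 0
  simp [Matrix.mul_apply, Fin.sum_univ_two] at c00
  have hP : P 0 1 ≠ 0 ∨ P 1 0 ≠ 0 := by
    by_contra h
    push Not at h
    obtain ⟨b0, c0⟩ := h
    have a0 : P 0 0 = 1 := by
      rw [b0, zero_mul] at pq
      linear_combination (mul_self_eq_zero.1 pq) - h2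
    refine hu1 (Subtype.ext ?_)
    rw [Matrix.SpecialLinearGroup.coe_one]
    show P = 1
    ext i j
    fin_cases i <;> fin_cases j <;> simp [b0, c0, a0, p11]
  obtain ⟨l, l01, l10⟩ : ∃ l, Q 0 1 = l * P 0 1 ∧ Q 1 0 = l * P 1 0 := by
    by_cases hb : P 0 1 = 0
    · have hc0 : P 1 0 ≠ 0 := hP.resolve_left (fun h => h hb)
      refine ⟨Q 1 0 / P 1 0, ?_, (div_mul_cancel₀ _ hc0).symm⟩
      have : Q 0 1 * P 1 0 = 0 := by linear_combination -c00 + Q 1 0 * hb
      rw [(mul_eq_zero.1 this).resolve_right hc0, hb, mul_zero]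
    · refine ⟨Q 0 1 / P 0 1, (div_mul_cancel₀ _ hb).symm, ?_⟩
      field_simp
      linear_combination c00
  have l00 : Q 0 0 + 1 = l * (P 0 0 + 1) := by
    have : (Q 0 0 + 1 - l * (P 0 0 + 1)) * (Q 0 0 + 1 - l * (P 0 0 + 1)) = 0 := by
      rw [l01, l10] at qq
      linear_combination qq + l * l * pq +
        h2 * (l * l * (P 0 1 * P 1 0) - l * (P 0 0 + 1) * (Q 0 0 + 1))
    exact sub_eq_zero.1 (mul_self_eq_zero.1 this)
  set N := P - 1 with hN
  have hM : Q - 1 = l • N := by
    ext i j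
    fin_cases i <;> fin_cases j <;> simp [hN, l01, l10, p11, q11]
    · linear_combination l00 - h2 * (1 - l)
    · linear_combination l00 - h2 * (1 - l)
  have hl0 : l ≠ 0 := fun h => hv1 (Subtype.ext (by
    rw [h, zero_smul, sub_eq_zero] at hM
    rw [Matrix.SpecialLinearGroup.coe_one]; exact hM))
  have hl1 : l ≠ 1 := fun h => huv (Subtype.ext (by
    rw [h, one_smul, hN] at hM
    exact (sub_left_injective hM).symm))
  have hNN : N * N = 0 := by
    have hm : P * P = 1 := by
      rw [← Matrix.SpecialLinearGroup.coe_mul, hu, Matrix.SpecialLinearGroup.coe_one]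
    rw [hN, sub_mul, mul_sub, one_mul, mul_one, hm]
    ext i j
    simp only [Matrix.sub_apply, Matrix.zero_apply]
    linear_combination h2 * ((1 : Matrix (Fin 2) (Fin 2) F) i j - P i j)
  have e1 : G * N = l • (N * G) := by
    have : G * P = Q * G := congrArg Subtype.val hgu
    rw [hN, mul_sub, mul_one, this, ← smul_mul_assoc, ← hN, ← hM, sub_mul, one_mul]
  have e3 : G * (l • N) = N * G + l • (N * G) := by
    have h' : G * Q = P * Q * G := congrArg Subtype.val hgv
    have hQ : Q = 1 + l • N := by rw [← hM]; abel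
    have hPQ : P * Q - 1 = N + l • N := by
      rw [hQ, show P = N + 1 by rw [hN]; abel, add_mul, mul_add, mul_one, Matrix.mul_smul, hNN,
        smul_zero, one_mul]
      abel
    rw [← hM, mul_sub, mul_one, h', ← smul_mul_assoc, ← add_mul, ← hPQ, sub_mul, one_mul]
  have hNG : N * G ≠ 0 := fun h => hu1 (Subtype.ext (by
    have h' := congrArg (· * ((g⁻¹ : Matrix.SpecialLinearGroup (Fin 2) F) : Matrix (Fin 2) (Fin 2) F)) h
    simp only [zero_mul, mul_assoc, G] at h'
    rw [← Matrix.SpecialLinearGroup.coe_mul, mul_inv_cancel, Matrix.SpecialLinearGroup.coe_one, mul_one,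
      hN, sub_eq_zero] at h'
    rw [Matrix.SpecialLinearGroup.coe_one]; exact h'))
  rw [Matrix.mul_smul, e1, smul_smul] at e3
  have hl : l * l = 1 + l := by
    by_contra h
    apply hNG
    have : (l * l - (1 + l)) • (N * G) = 0 := by rw [sub_smul, e3, add_smul, one_smul, sub_self]
    exact (smul_eq_zero.1 this).resolve_left (sub_ne_zero.2 h)
  have hcube : Units.mk0 l hl0 ^ 3 = 1 := Units.ext (by
    rw [Units.val_pow_eq_pow_val, Units.val_mk0, Units.val_one]
    linear_combination (l - 1) * hl + h2 * (l * l - 1))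
  have ho : orderOf (Units.mk0 l hl0) = 3 :=
    orderOf_eq_prime (hp := ⟨Nat.prime_three⟩) hcube fun h => hl1 (congrArg Units.val h)
  rw [← Fintype.card_units, ← ho]
  exact orderOf_dvd_card

/-- PSL_2(p^n) has a subgroup isomorphic to A_4 if and only if it is not the case that p = 2 and n is odd. -/
theorem result {F : Type*} [Field F] [Fintype F] (p n : ℕ) [Fact p.Prime] [CharP F p] (hF : Fintype.card F = p ^ n) : (∃ H : Subgroup (Matrix.ProjectiveSpecialLinearGroup (Fin 2) F), Nonempty (H ≃* alternatingGroup (Fin 4))) ↔ ¬ (p = 2 ∧ Odd n) := by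
  have hn : n ≠ 0 := fun h => by
    rw [h, pow_zero] at hF
    exact (Fintype.one_lt_card (α := F)).ne' hF
  constructor
  · rintro ⟨H, ⟨e⟩⟩ ⟨rfl, hodd⟩
    let x : alternatingGroup (Fin 4) := ⟨Equiv.swap 0 1 * Equiv.swap 2 3, Equiv.Perm.mem_alternatingGroup.2 (by decide)⟩
    let y : alternatingGroup (Fin 4) := ⟨Equiv.swap 0 2 * Equiv.swap 1 3, Equiv.Perm.mem_alternatingGroup.2 (by decide)⟩
    let t : alternatingGroup (Fin 4) := ⟨Equiv.swap 1 2 * Equiv.swap 2 3, Equiv.Perm.mem_alternatingGroup.2 (by decide)⟩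
    let f : alternatingGroup (Fin 4) →* Matrix.ProjectiveSpecialLinearGroup (Fin 2) F :=
      H.subtype.comp e.symm.toMonoidHom
    have hf : Function.Injective f := H.subtype_injective.comp e.symm.injective
    obtain ⟨U, hU⟩ := Forms.KleinPSL.pi_surjective (f x)
    obtain ⟨V, hV⟩ := Forms.KleinPSL.pi_surjective (f y)
    obtain ⟨T, hT⟩ := Forms.KleinPSL.pi_surjective (f t)
    have inj := pi_inj (F := F)
    have h3 := three_dvd_of_data (u := U) (v := V) (g := T)
      (inj (by rw [map_mul, hU, ← map_mul, show x * x = 1 by decide, map_one, map_one]))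
      (inj (by rw [map_mul, hV, ← map_mul, show y * y = 1 by decide, map_one, map_one]))
      (fun h => (show x ≠ 1 by decide) (hf (by rw [← hU, h, map_one, map_one])))
      (fun h => (show y ≠ 1 by decide) (hf (by rw [← hV, h, map_one, map_one])))
      (fun h => (show x ≠ y by decide) (hf (by rw [← hU, h, hV])))
      (inj (by rw [map_mul, map_mul, hU, hV, ← map_mul, ← map_mul, show x * y = y * x by decide]))
      (inj (by rw [map_mul, map_mul, hU, hV, hT, ← map_mul, ← map_mul, show t * x = y * t by decide]))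
      (inj (by rw [map_mul, map_mul, map_mul, hU, hV, hT, ← map_mul, ← map_mul, ← map_mul,
        show t * y = x * y * t by decide]))
    rw [hF] at h3
    obtain ⟨k, rfl⟩ := hodd
    have : 2 ^ (2 * k + 1) % 3 = 2 := by
      rw [pow_succ, pow_mul, Nat.mul_mod, Nat.pow_mod]; norm_num
    generalize 2 ^ (2 * k + 1) = Q at h3 this
    omega
  · intro h
    rcases eq_or_ne p 2 with rfl | hp
    · obtain ⟨k, rfl⟩ := (Nat.even_or_odd n).resolve_right fun ho => h ⟨rfl, ho⟩
      obtain ⟨a, b, w, d⟩ := exists_data_char_two k hF (by omega)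
      have inj := pi_inj (F := F)
      refine Forms.KleinGroups.Alt4Data.exists_alt4 (a := Forms.KleinPSL.pi F a)
        (b := Forms.KleinPSL.pi F b) (w := Forms.KleinPSL.pi F w) ?_
      exact {
        ha := by rw [← map_mul, d.ha, map_one]
        hb := by rw [← map_mul, d.hb, map_one]
        hc := d.hc.map _
        ha1 := fun e => d.ha1 (inj (by rw [e, map_one]))
        hb1 := fun e => d.hb1 (inj (by rw [e, map_one]))
        hab := fun e => d.hab (inj e)
        hw := by rw [← map_mul, ← map_mul, d.hw, map_one]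
        hwa := by rw [← map_mul, ← map_mul, ← map_mul, d.hwa]
        hwb := by rw [← map_mul, ← map_mul, d.hwb] }
    · have hodd : Odd (Fintype.card F) := hF ▸ ((Fact.out : p.Prime).odd_of_ne_two hp).pow
      have h2 := Classical.SylowSL2.two_ne_zero_of_odd hodd
      obtain ⟨a, b, hab⟩ := Forms.KleinSL2.exists_circ h2 (-1 : F)
      exact (Forms.KleinClasses.alt4Data hab h2).exists_alt4

end Cfsg.Agent.S0802
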