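import Cfsg.Statements.S0808
import Cfsg.Agent.Lib.Forms.KleinClasses
-- import your own Cfsg.Agent.* helpers here

set_option autoImplicit false
open Cfsg

namespace Cfsg.Agent.S0808



/-- Conjugacy classes of four-groups in PSL_2(q), q odd: if q ≡ 3 or 5 (mod 8) all Klein four-subgroups are conjugate; if q ≡ 1 or 7 (mod 8) there are two Klein four-subgroups which are not conjugate, and every Klein four-subgroup is conjugate to one of them. -/
theorem result {F : Type*} [Field F] [Fintype F] {q : ℕ} (hF : Fintype.card F = q) (hodd : Odd q) : ((q % 8 = 3 ∨ q % 8 = 5) → ∀ V W : Subgroup (Matrix.ProjectiveSpecialLinearGroup (Fin 2) F), IsKleinFour V → IsKleinFour W → ∃ g : Matrix.ProjectiveSpecialLinearGroup (Fin 2) F, W = V.map (MulAut.conj g).toMonoidHom) ∧ ((q % 8 = 1 ∨ q % 8 = 7) → ∃ V₁ V₂ : Subgroup (Matrix.ProjectiveSpecialLinearGroup (Fin 2) F), IsKleinFour V₁ ∧ IsKleinFour V₂ ∧ (¬ ∃ g : Matrix.ProjectiveSpecialLinearGroup (Fin 2) F, V₂ = V₁.map (MulAut.conj g).toMonoidHom) ∧ ∀ W : Subgroup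 (Matrix.ProjectiveSpecialLinearGroup (Fin 2) F), IsKleinFour W → (∃ g : Matrix.ProjectiveSpecialLinearGroup (Fin 2) F, W = V₁.map (MulAut.conj g).toMonoidHom) ∨ (∃ g : Matrix.ProjectiveSpecialLinearGroup (Fin 2) F, W = V₂.map (MulAut.conj g).toMonoidHom)) := by
  subst hF
  have h2 := Classical.SylowSL2.two_ne_zero_of_odd hodd
  obtain ⟨a, b, hab⟩ := Forms.KleinSL2.exists_circ h2 (-1 : F)
  have hB := Forms.KleinClasses.bq_sq hab
  have hanti := Forms.KleinClasses.bq_anti hab
  let J : Forms.KleinClasses.tor F := ⟨Forms.KleinSL2.jSL, Forms.KleinClasses.jSL_mem_tor⟩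
  have hidx := Forms.KleinClasses.squares_index (F := F) h2
  have hsq : ∀ n u : Forms.KleinClasses.tor F, u * n⁻¹ ∈ Forms.KleinClasses.squares F →
      ∃ g : Matrix.ProjectiveSpecialLinearGroup (Fin 2) F, Forms.KleinClasses.four h2 hanti u =
        (Forms.KleinClasses.four h2 hanti n).map (MulAut.conj g).toMonoidHom := by
    rintro n u ⟨z, hz⟩
    refine ⟨Forms.KleinPSL.pi F (z : Matrix.SpecialLinearGroup (Fin 2) F), ?_⟩
    rw [← Forms.KleinClasses.four_move h2 hB hanti z n]
    congr 1
    exact mul_inv_eq_iff_eq_mul.1 (hz.symm : u * n⁻¹ = z * z)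
  constructor
  · intro hq V W hV hW
    have hJ : J ∉ Forms.KleinClasses.squares F := by
      rw [Forms.KleinClasses.jSL_mem_squares_iff h2, Forms.KleinClasses.eight_dvd_tor_iff h2]
      omega
    have key : ∀ U : Subgroup (Matrix.ProjectiveSpecialLinearGroup (Fin 2) F), IsKleinFour U →
        ∃ g : Matrix.ProjectiveSpecialLinearGroup (Fin 2) F, U =
          (Forms.KleinClasses.four h2 hanti 1).map (MulAut.conj g).toMonoidHom := by
      intro U hU
      obtain ⟨g, u, rfl⟩ := Forms.KleinClasses.exists_four h2 hB hanti U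
      by_cases hu : u ∈ Forms.KleinClasses.squares F
      · obtain ⟨h, hh⟩ := hsq 1 u (by simpa using hu)
        refine ⟨g * h, ?_⟩
        rw [hh, Subgroup.map_map]
        congr 1
        ext x
        simp [mul_assoc]
      · have hJu : J * u ∈ Forms.KleinClasses.squares F :=
          (Subgroup.mul_mem_iff_of_index_two hidx).2 (iff_of_false hJ hu)
        obtain ⟨h, hh⟩ := hsq 1 (J * u) (by simpa using hJu)
        refine ⟨g * h, ?_⟩
        rw [← Forms.KleinClasses.four_jSL_mul h2 hanti u, hh, Subgroup.map_map]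
        congr 1
        ext x
        simp [mul_assoc]
    obtain ⟨g, hg⟩ := key V hV
    obtain ⟨h, hh⟩ := key W hW
    exact ⟨_, Forms.KleinClasses.map_conj_trans hg hh⟩
  · intro hq
    have hJ : J ∈ Forms.KleinClasses.squares F := by
      rw [Forms.KleinClasses.jSL_mem_squares_iff h2, Forms.KleinClasses.eight_dvd_tor_iff h2]
      exact hq
    obtain ⟨n, hn⟩ : ∃ n, n ∉ Forms.KleinClasses.squares F := by
      by_contra h
      push Not at h
      rw [(Subgroup.eq_top_iff' _).2 h, Subgroup.index_top] at hidx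
      omega
    have hfour : ∀ u, IsKleinFour (Forms.KleinClasses.four h2 hanti u) := fun u => by
      obtain ⟨-, -, -, h1, h3, h4⟩ := Forms.KleinClasses.four_data h2 hanti u.2
      exact Forms.KleinPSL.kSub_isKleinFour h1 h3 h4
    refine ⟨Forms.KleinClasses.four h2 hanti 1, Forms.KleinClasses.four h2 hanti n, hfour 1, hfour n,
      fun ⟨g, hg⟩ => Forms.KleinClasses.four_not_conj h2 hab hJ hn g hg, fun W hW => ?_⟩
    obtain ⟨g, u, rfl⟩ := Forms.KleinClasses.exists_four h2 hB hanti W
    by_cases hu : u ∈ Forms.KleinClasses.squares F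
    · left
      obtain ⟨h, hh⟩ := hsq 1 u (by simpa using hu)
      refine ⟨g * h, ?_⟩
      rw [hh, Subgroup.map_map]
      congr 1
      ext x
      simp [mul_assoc]
    · right
      have hun : u * n⁻¹ ∈ Forms.KleinClasses.squares F :=
        (Subgroup.mul_mem_iff_of_index_two hidx).2 (iff_of_false hu fun h => hn (inv_mem_iff.1 h))
      obtain ⟨h, hh⟩ := hsq n u hun
      refine ⟨g * h, ?_⟩
      rw [hh, Subgroup.map_map]
      congr 1
      ext x
      simp [mul_assoc]

end Cfsg.Agent.S0808
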