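import Cfsg.Statements.S0809
import Cfsg.Agent.Lib.Forms.KleinPSL
-- import your own Cfsg.Agent.* helpers here

set_option autoImplicit false
open Cfsg

namespace Cfsg.Agent.S0809



/-- In SL_2(q), q odd: any two subgroups of order 4 are conjugate, and the normaliser of a subgroup of order 4 has order 2(q − 1) if q ≡ 1 (mod 4) and 2(q + 1) if q ≡ 3 (mod 4); consequently all involutions of PSL_2(q) are conjugate. -/
theorem result {F : Type*} [Field F] [Fintype F] {q : ℕ} (hF : Fintype.card F = q) (hodd : Odd q) (A : Subgroup (Matrix.SpecialLinearGroup (Fin 2) F)) (hA : Nat.card A = 4) : (∀ B : Subgroup (Matrix.SpecialLinearGroup (Fin 2) F), Nat.card B = 4 → ∃ g : Matrix.SpecialLinearGroup (Fin 2) F, B = A.map (MulAut.conj g).toMonoidHom) ∧ (q % 4 = 1 → Nat.card ↥(Subgroup.normalizer (A : Set (Matrix.SpecialLinearGroup (Fin 2) F))) = 2 * (q - 1)) ∧ (q % 4 = 3 → Nat.card ↥(Subgroup.normalizer (A : Set (Matrix.SpecialLinearGroup (Fin 2) F)))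 = 2 * (q + 1)) ∧ (∀ x y : Matrix.ProjectiveSpecialLinearGroup (Fin 2) F, orderOf x = 2 → orderOf y = 2 → IsConj x y) := by
  subst hF
  have h2 := Classical.SylowSL2.two_ne_zero_of_odd hodd
  obtain ⟨X, hX, rfl⟩ := Forms.KleinPSL.exists_quarter_gen h2 A hA
  refine ⟨fun B hB => ?_, fun hm => ?_, fun hm => ?_,
    fun x y hx hy => Forms.KleinPSL.involutions_isConj h2 x y hx hy⟩
  · obtain ⟨Y, hY, rfl⟩ := Forms.KleinPSL.exists_quarter_gen h2 B hB
    obtain ⟨g, hg⟩ := Forms.KleinSL2.exists_conj_j h2 hX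
    obtain ⟨g', hg'⟩ := Forms.KleinSL2.exists_conj_j h2 hY
    refine ⟨g' * g⁻¹, ?_⟩
    rw [MonoidHom.map_zpowers]
    congr 1
    show Y = g' * g⁻¹ * X * (g' * g⁻¹)⁻¹
    rw [← hg, ← hg']
    group
  · rw [Forms.KleinPSL.natCard_normalizer h2 hX, (Forms.KleinSL2.natCard_circ_one h2).1 hm]
  · rw [Forms.KleinPSL.natCard_normalizer h2 hX, (Forms.KleinSL2.natCard_circ_one h2).2 hm]

end Cfsg.Agent.S0809
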