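import Cfsg.Statements.S0810
import Cfsg.Agent.Lib.Forms.DicksonSolvable
import Cfsg.Agent.Lib.Forms.DicksonCor
import Cfsg.Agent.Lib.Forms.PslMap
import Cfsg.Agent.Lib.Classical.Linear
import Cfsg.Agent.Lib.Characters.Burnside
import Cfsg.Agent.S0804
-- import your own Cfsg.Agent.* helpers here

set_option autoImplicit false
open Cfsg

namespace Cfsg.Agent.S0810

theorem not_isSolvable_of_simple {G : Type*} [Group G] [IsSimpleGroup G] (h : ¬ IsMulCommutative G) :
    ¬ Group.IsSolvable G := fun hs => h ⟨⟨IsSimpleGroup.comm_iff_isSolvable.2 hs⟩⟩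

theorem not_solvable_psl {K : Type*} [Field K] [Fintype K] (h4 : 4 ≤ Fintype.card K) :
    ¬ Group.IsSolvable (Matrix.ProjectiveSpecialLinearGroup (Fin 2) K) := by
  haveI := Classical.Linear.isSimpleGroup_PSL_fin (F := K) (le_refl 2) fun _ => h4
  intro hs
  obtain ⟨p, hp⟩ : ∃ p, (Nat.card (Matrix.ProjectiveSpecialLinearGroup (Fin 2) K)) = p ∧ p.Prime :=
    ⟨_, rfl, by
      letI : CommGroup (Matrix.ProjectiveSpecialLinearGroup (Fin 2) K) :=
        { (inferInstance : Group (Matrix.ProjectiveSpecialLinearGroup (Fin 2) K)) with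
          mul_comm := IsSimpleGroup.comm_iff_isSolvable.2 hs }
      exact IsSimpleGroup.prime_card⟩
  have hG := Forms.DicksonCor.gcd_mul_natCard (F := K)
  rw [hp.1] at hG
  set k := Fintype.card K
  have hd : Nat.gcd 2 (k - 1) ≤ 2 := Nat.le_of_dvd (by norm_num) (Nat.gcd_dvd_left _ _)
  have hk : k ∣ Nat.gcd 2 (k - 1) * p := ⟨_, hG⟩
  have hk1 : (k - 1) * (k + 1) ∣ Nat.gcd 2 (k - 1) * p := ⟨k, by rw [hG]; ring⟩
  rcases (Nat.Prime.eq_one_or_self_of_dvd hp.2 _ (Nat.gcd_dvd_left p k)) with h | h
  · have := Nat.le_of_dvd (Nat.gcd_pos_of_pos_left _ (by norm_num))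
      ((Nat.Coprime.symm h).dvd_of_dvd_mul_right hk)
    omega
  · have hpk : p ≤ k := Nat.le_of_dvd (by omega) (h ▸ Nat.gcd_dvd_right p k)
    have h3 := Nat.le_of_dvd (Nat.mul_pos (Nat.gcd_pos_of_pos_left _ (by norm_num)) hp.2.pos) hk1
    have h5 : Nat.gcd 2 (k - 1) * p ≤ 2 * k := Nat.mul_le_mul hd hpk
    have h6 : 3 * (k + 1) ≤ (k - 1) * (k + 1) := Nat.mul_le_mul_right _ (by omega)
    omega

theorem not_simple_small {K : Type*} [Field K] [Fintype K] (h4 : Fintype.card K < 4)
    (h : IsMinimalSimple (Matrix.ProjectiveSpecialLinearGroup (Fin 2) K)) : False := by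
  obtain ⟨hs, hc, -⟩ := h
  haveI := hs
  have hG := Forms.DicksonCor.gcd_mul_natCard (F := K)
  have h2 : 2 ≤ Fintype.card K := Fintype.one_lt_card
  have hk : Fintype.card K = 2 ∨ Fintype.card K = 3 := by omega
  rcases hk with hk | hk <;> rw [hk] at hG <;> norm_num at hG
  · exact not_isSolvable_of_simple hc
      (Characters.burnside_pa_qb Nat.prime_two Nat.prime_three (a := 1) (b := 1) (by omega))
  · exact not_isSolvable_of_simple hc
      (Characters.burnside_pa_qb Nat.prime_two Nat.prime_three (a := 2) (b := 1) (by omega))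

theorem solvable_small {K H : Type*} [Field K] [Fintype K] [Group H] [Finite H]
    (h4 : Fintype.card K < 4)
    (h : Nonempty (H ≃* Matrix.ProjectiveSpecialLinearGroup (Fin 2) K) ∨
      Nonempty (H ≃* Matrix.ProjGenLinGroup (Fin 2) K)) : Group.IsSolvable H := by
  have hG := Forms.DicksonCor.gcd_mul_natCard (F := K)
  have h2 : 2 ≤ Fintype.card K := Fintype.one_lt_card
  have hP := Classical.GL2.natCard_SL_two (F := K)
  have hk : Fintype.card K = 2 ∨ Fintype.card K = 3 := by omega
  have hc : Nat.card H = 2 ^ 1 * 3 ^ 1 ∨ Nat.card H = 2 ^ 2 * 3 ^ 1 ∨ Nat.card H = 2 ^ 3 * 3 ^ 1 := by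
    rcases h with h | h <;> obtain ⟨e⟩ := h <;> rw [Nat.card_congr e.toEquiv] <;>
      rcases hk with hk | hk <;> rw [hk] at hG hP <;> norm_num at hG hP ⊢
    all_goals first
      | omega
      | (rw [Classical.Linear.natCard_PGL]; omega)
  rcases hc with hc | hc | hc <;>
    exact Characters.burnside_pa_qb Nat.prime_two Nat.prime_three hc


/-- PSL_2(q) is minimal simple iff q is 2^r (r prime), 3^r (r an odd prime), a prime greater than 5 congruent to 2 or 3 mod 5, or 5. -/
theorem result {F : Type*} [Field F] [Fintype F] {q : ℕ} (hF : Fintype.card F = q) : Cfsg.IsMinimalSimple (Matrix.ProjectiveSpecialLinearGroup (Fin 2) F) ↔ ((∃ r : ℕ, r.Prime ∧ q = 2 ^ r) ∨ (∃ r : ℕ, r.Prime ∧ r ≠ 2 ∧ q = 3 ^ r) ∨ (q.Prime ∧ 5 < q ∧ (q % 5 = 2 ∨ q % 5 = 3)) ∨ q = 5) := by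
  subst hF
  obtain ⟨p, hpc⟩ := CharP.exists F
  haveI := hpc
  haveI hpf : Fact p.Prime := ⟨CharP.char_is_prime F p⟩
  have hp : p.Prime := hpf.out
  obtain ⟨n, -, hn⟩ := FiniteField.card F p
  set q := Fintype.card F with hq'
  have hn0 : 1 ≤ (n : ℕ) := n.pos
  have hpp : ∀ a b : ℕ, a.Prime → q = a ^ b → p = a := fun a b ha h => by
    have hd : p ∣ a ^ b := h ▸ hn ▸ dvd_pow_self p n.ne_zero
    exact (Nat.prime_dvd_prime_iff_eq hp ha).1 (hp.dvd_of_dvd_pow hd)
  constructor
  · intro hmin
    have h4 : 4 ≤ q := by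
      by_contra h
      exact not_simple_small (by omega) hmin
    obtain ⟨-, -, hsol⟩ := hmin
    have hA5 : q = 4 ∨ q = 5 ∨ ¬ 5 ∣ q * (q ^ 2 - 1) := by
      by_contra hne
      simp only [not_or, not_not] at hne
      obtain ⟨H, ⟨e⟩⟩ := (S0804.result rfl).2 hne.2.2
      have hH : H ≠ ⊤ := by
        intro he
        have h60 : Nat.card H = 60 := by
          rw [Nat.card_congr e.toEquiv, nat_card_alternatingGroup, Nat.card_fin]; rfl
        rw [he, Subgroup.card_top] at h60
        have hG := Forms.DicksonCor.gcd_mul_natCard (F := F)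
        rw [← hq', h60] at hG
        have hd : Nat.gcd 2 (q - 1) ≤ 2 := Nat.le_of_dvd (by norm_num) (Nat.gcd_dvd_left _ _)
        have : 6 * (5 * 7) ≤ q * ((q - 1) * (q + 1)) :=
          Nat.mul_le_mul (by omega) (Nat.mul_le_mul (by omega) (by omega))
        have : Nat.gcd 2 (q - 1) * 60 ≤ 2 * 60 := Nat.mul_le_mul_right _ hd
        omega
      haveI := hsol H hH
      exact Equiv.Perm.not_isSolvable_fin_5 (by
        haveI : Group.IsSolvable (alternatingGroup (Fin 5)) :=
          Group.isSolvable_of_surjective (f := e.toMonoidHom) e.surjective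
        exact Group.isSolvable_of_ker_le_range (alternatingGroup (Fin 5)).subtype Equiv.Perm.sign
          (by rw [Subgroup.range_subtype]; exact fun g hg => hg))
    have hsub : ∀ a : ℕ, a ≠ 0 → a ∣ (n : ℕ) → a < n → p ^ a < 4 := by
      intro a ha hd hlt
      by_contra h
      obtain ⟨m, hm⟩ := hd
      haveI : NeZero a := ⟨ha⟩
      haveI : Fintype (GaloisField p a) := Fintype.ofFinite _
      have hK : Fintype.card (GaloisField p a) = p ^ a := by
        rw [← Nat.card_eq_fintype_card, GaloisField.card p a ha]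
      obtain ⟨f⟩ := Forms.PslMap.nonempty_ringHom (K := GaloisField p a) (F := F) m
        (by rw [hK, ← pow_mul, ← hm, ← hn])
      obtain ⟨H, ⟨e⟩⟩ := Forms.PslMap.exists_subgroup_psl f
      have hne : H ≠ ⊤ := by
        intro he
        have hc := Nat.card_congr e.toEquiv
        rw [he, Subgroup.card_top] at hc
        have hG := Forms.DicksonCor.gcd_mul_natCard (F := F)
        have hG' := Forms.DicksonCor.gcd_mul_natCard (F := GaloisField p a)
        rw [← hc, hK] at hG'
        rw [← hq'] at hG
        have hd1 : Nat.gcd 2 (q - 1) = Nat.gcd 2 (p ^ a - 1) := by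
          rcases hp.eq_two_or_odd with h2 | h2
          · have e1 : ∀ j : ℕ, j ≠ 0 → Nat.gcd 2 (p ^ j - 1) = 1 := fun j hj => by
              refine Nat.prime_two.coprime_iff_not_dvd.2 ?_
              have : 2 ∣ p ^ j := h2 ▸ dvd_pow_self p hj
              have : 0 < p ^ j := pow_pos hp.pos j
              omega
            rw [hn, e1 _ ha, e1 _ n.ne_zero]
          · have e2 : ∀ j : ℕ, Nat.gcd 2 (p ^ j - 1) = 2 := fun j => by
              refine Nat.gcd_eq_left (Nat.dvd_of_mod_eq_zero ?_)
              have : p ^ j % 2 = 1 := by rw [Nat.pow_mod, h2, one_pow, Nat.one_mod]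
              omega
            rw [hn, e2, e2]
        rw [hd1, hG'] at hG
        have hlt' : p ^ a < q := hn ▸ Nat.pow_lt_pow_right hp.one_lt hlt
        have : p ^ a * ((p ^ a - 1) * (p ^ a + 1)) < q * ((q - 1) * (q + 1)) := by
          refine Nat.mul_lt_mul_of_lt_of_le hlt' (Nat.mul_le_mul (by omega) (by omega)) ?_
          exact Nat.mul_pos (by omega) (by omega)
        omega
      haveI := hsol H hne
      exact not_solvable_psl (K := GaloisField p a) (by omega)
        (Group.isSolvable_of_surjective (f := e.toMonoidHom) e.surjective)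
    rcases eq_or_lt_of_le hn0 with h1 | h1
    · have hq : q = p := by rw [hn, ← h1, pow_one]
      rw [hq] at hA5 h4 ⊢
      rcases hA5 with h | h | h
      · rw [h] at hp; norm_num at hp
      · exact Or.inr (Or.inr (Or.inr h))
      · refine Or.inr (Or.inr (Or.inl ⟨hp, ?_, ?_⟩))
        · rcases Nat.lt_trichotomy p 5 with h5 | h5 | h5
          · have : p = 4 := by omega
            rw [this] at hp; norm_num at hp
          · exact absurd (by rw [h5]; norm_num) h
          · exact h5
        · have h' : ¬ 5 ∣ p * ((p - 1) * (p + 1)) := by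
            rwa [mul_comm (p - 1), ← Nat.sq_sub_sq, one_pow]
          simp only [Nat.Prime.dvd_mul (by norm_num : Nat.Prime 5), not_or] at h'
          omega
    · have hp3 : p = 2 ∨ p = 3 := by
        have := hsub 1 one_ne_zero (one_dvd _) h1
        rw [pow_one] at this
        have := hp.two_le
        omega
      have hnp : (n : ℕ).Prime := by
        refine Nat.prime_def_lt.2 ⟨h1, fun a hlt hd => ?_⟩
        rcases Nat.eq_zero_or_pos a with rfl | ha
        · simp at hd
        · by_contra ha1
          have := hsub a (by omega) hd hlt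
          have : 2 ^ 2 ≤ p ^ a :=
            (Nat.pow_le_pow_right (by norm_num) (by omega : 2 ≤ a)).trans (Nat.pow_le_pow_left hp.two_le a)
          omega
      rcases hp3 with h | h
      · exact Or.inl ⟨n, hnp, by rw [hn, h]⟩
      · refine Or.inr (Or.inl ⟨n, hnp, fun h2 => ?_, by rw [hn, h]⟩)
        have h9 : q = 9 := by rw [hn, h, h2]; norm_num
        rw [h9] at hA5
        norm_num at hA5
  · intro hR
    have h4 : 4 ≤ q := by
      rcases hR with ⟨r, hr, h⟩ | ⟨r, hr, -, h⟩ | h | h
      · have : 2 ^ 2 ≤ 2 ^ r := Nat.pow_le_pow_right (by norm_num) hr.two_le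
        omega
      · have : 3 ^ 2 ≤ 3 ^ r := Nat.pow_le_pow_right (by norm_num) hr.two_le
        omega
      · omega
      · omega
    haveI hs := Classical.Linear.isSimpleGroup_PSL_fin (F := F) (le_refl 2) fun _ => h4
    refine ⟨hs, fun hc => not_solvable_psl h4 (Group.isSolvable_of_comm fun a b => hc.1.1 a b), fun H hH => ?_⟩
    rcases Forms.DicksonList.classify p H with ⟨g, -, -, h⟩ | ⟨x, -, hfix⟩ | h | h | h |
        ⟨K, iK, fK, m, hm, h⟩
    · rcases h with ⟨hcy, -⟩ | ⟨⟨e⟩⟩
      · haveI := hcy
        exact Group.isSolvable_of_comm fun a b => IsCyclic.commGroup.mul_comm a b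
      · haveI := Forms.DicksonSolvable.isSolvable_dihedral (orderOf g)
        exact Group.isSolvable_of_surjective (f := e.symm.toMonoidHom) e.symm.surjective
    · exact Forms.DicksonSolvable.isSolvable_of_fix p H x hfix
    · obtain ⟨e⟩ := h
      exact Characters.burnside_pa_qb Nat.prime_two Nat.prime_three (a := 2) (b := 1)
        (by rw [Nat.card_congr e.toEquiv, nat_card_alternatingGroup, Nat.card_fin]; rfl)
    · obtain ⟨e⟩ := h
      exact Characters.burnside_pa_qb Nat.prime_two Nat.prime_three (a := 3) (b := 1)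
        (by rw [Nat.card_congr e.toEquiv, Nat.card_perm, Nat.card_fin]; rfl)
    · exfalso
      obtain ⟨e⟩ := h
      have h60 : Nat.card H = 60 := by
        rw [Nat.card_congr e.toEquiv, nat_card_alternatingGroup, Nat.card_fin]; rfl
      have h5 : 5 ∣ q * (q ^ 2 - 1) := (S0804.result rfl).1 ⟨H, ⟨e⟩⟩
      have hq45 : q = 4 ∨ q = 5 := by
        rcases hR with ⟨r, hr, h⟩ | ⟨r, hr, hr2, h⟩ | ⟨hqp, hq5, hm5⟩ | h
        · rcases hr.eq_two_or_odd with rfl | hodd
          · exact Or.inl h
          · exfalso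
            have e4 : ∀ j : ℕ, 2 ^ (2 * j + 1) % 5 = 2 ∨ 2 ^ (2 * j + 1) % 5 = 3 := fun j => by
              induction j with
              | zero => norm_num
              | succ j ih => rw [show 2 * (j + 1) + 1 = 2 + (2 * j + 1) by ring, pow_add]; omega
            have hm5 : q % 5 = 2 ∨ q % 5 = 3 := by
              rw [h, show r = 2 * (r / 2) + 1 by omega]; exact e4 _
            have e2 : (q ^ 2 - 1) % 5 = 3 := by
              have : q ^ 2 % 5 = 4 := by rcases hm5 with e | e <;> rw [Nat.pow_mod, e]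
              omega
            rcases (Nat.Prime.dvd_mul (by norm_num : Nat.Prime 5)).1 h5 with e | e <;> omega
        · exfalso
          have hodd : r % 2 = 1 := hr.eq_two_or_odd.resolve_left hr2
          have e4 : ∀ j : ℕ, 3 ^ (2 * j + 1) % 5 = 2 ∨ 3 ^ (2 * j + 1) % 5 = 3 := fun j => by
            induction j with
            | zero => norm_num
            | succ j ih => rw [show 2 * (j + 1) + 1 = 2 + (2 * j + 1) by ring, pow_add]; omega
          have hm5 : q % 5 = 2 ∨ q % 5 = 3 := by
            rw [h, show r = 2 * (r / 2) + 1 by omega]; exact e4 _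
          have e2 : (q ^ 2 - 1) % 5 = 3 := by
            have : q ^ 2 % 5 = 4 := by rcases hm5 with e | e <;> rw [Nat.pow_mod, e]
            omega
          rcases hm5 with e | e <;> rw [Nat.dvd_iff_mod_eq_zero, Nat.mul_mod, e, e2] at h5 <;>
            norm_num at h5
        · exfalso
          have e2 : (q ^ 2 - 1) % 5 = 3 := by
            have : q ^ 2 % 5 = 4 := by rcases hm5 with e | e <;> rw [Nat.pow_mod, e]
            omega
          rcases hm5 with e | e <;> rw [Nat.dvd_iff_mod_eq_zero, Nat.mul_mod, e, e2] at h5 <;>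
            norm_num at h5
        · exact Or.inr h
      have hG := Forms.DicksonCor.gcd_mul_natCard (F := F)
      rw [← hq'] at hG
      refine hH (H.eq_top_of_card_eq ?_)
      rcases hq45 with hh | hh <;> rw [hh] at hG <;> norm_num at hG <;> omega
    · refine solvable_small ?_ h
      obtain ⟨hm2, -⟩ := Forms.DicksonCor.subfield_bound H hH K m hm h
      by_contra hk
      obtain ⟨r, hKc⟩ := CharP.exists K
      haveI := hKc
      haveI : Fact r.Prime := ⟨CharP.char_is_prime K r⟩
      obtain ⟨a, -, ha⟩ := FiniteField.card K r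
      rw [ha, ← pow_mul] at hm
      have hrq : q = r ^ ((a : ℕ) * m) := hm.symm
      have hmul : 2 ≤ (a : ℕ) * m := hm2.trans (Nat.le_mul_of_pos_left m a.pos)
      have hrp := hpp r _ Fact.out hrq
      subst hrp
      have hexp : (n : ℕ) = (a : ℕ) * m := Nat.pow_right_injective hp.two_le (hn.symm.trans hrq)
      have key : ∀ s : ℕ, s.Prime → s < 4 → ∀ r : ℕ, r.Prime → q = s ^ r → False := by
        intro s hs hs4 r hr h
        have := hpp s r hs h
        subst this
        have hnr : r = (n : ℕ) := Nat.pow_right_injective hp.two_le (h.symm.trans hn)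
        have hmn : (a : ℕ) = 1 := by
          rcases hr.eq_one_or_self_of_dvd a (hnr ▸ hexp ▸ dvd_mul_right _ _) with e | e
          · exact e
          · rw [hnr, hexp] at e
            have : (a : ℕ) * 2 ≤ (a : ℕ) * m := Nat.mul_le_mul_left _ hm2
            have := a.pos
            omega
        rw [hmn, pow_one] at ha
        omega
      rcases hR with ⟨r, hr, h⟩ | ⟨r, hr, -, h⟩ | ⟨hqp, -⟩ | h
      · exact key 2 Nat.prime_two (by norm_num) r hr h
      · exact key 3 Nat.prime_three (by norm_num) r hr h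
      · rw [hn] at hqp
        have := hqp.pow_eq_iff.1 rfl
        have := (Nat.Prime.pow_eq_iff (a := p) (k := (n : ℕ)) hqp).1 rfl
        omega
      · have hp5 : p = 5 := hpp 5 1 (by norm_num) (by rw [h]; rfl)
        subst hp5
        have : (n : ℕ) = 1 := Nat.pow_right_injective (le_refl 2 |>.trans (by norm_num)) (hn.symm.trans (h.trans (pow_one 5).symm))
        omega

end Cfsg.Agent.S0810
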