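import Cfsg.Statements.S0819
-- import your own Cfsg.Agent.* helpers here

set_option autoImplicit false
open Cfsg

namespace Cfsg.Agent.S0819

open Matrix Polynomial

/-- addition table of the field with four elements -/
def add4 (i j : Fin 4) : Fin 4 :=
  (![![0, 1, 2, 3], ![1, 0, 3, 2], ![2, 3, 0, 1], ![3, 2, 1, 0]] : Fin 4 → Fin 4 → Fin 4) i j

/-- multiplication table of the field with four elements -/
def mul4 (i j : Fin 4) : Fin 4 :=
  (![![0, 0, 0, 0], ![0, 1, 2, 3], ![0, 2, 3, 1], ![0, 3, 1, 2]] : Fin 4 → Fin 4 → Fin 4) i j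

/-- powers of a matrix with `X³ + aX² + bX + 1` as characteristic polynomial -/
def pw4 (a b : Fin 4) : ℕ → Fin 4 × Fin 4 × Fin 4
  | 0 => (0, 0, 1)
  | n + 1 =>
    let t := pw4 a b n
    (add4 (mul4 a t.1) t.2.1, add4 (mul4 b t.1) t.2.2, t.1)

set_option maxRecDepth 20000 in
theorem pw4_check : ∀ a b : Fin 4, ((pw4 a b 84).1 = 0 ∧ (pw4 a b 84).2.1 = 0) ∨
    ((pw4 a b 5).1 = 0 ∧ (pw4 a b 5).2.1 = 0) := by decide

theorem exists_scalar_pow {F : Type*} [Field F] [Fintype F] (hF : Fintype.card F = 4)
    (A : Matrix (Fin 3) (Fin 3) F) (hA : A.det = 1) :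
    (∃ c : F, A ^ 84 = c • 1) ∨ ∃ c : F, A ^ 5 = c • 1 := by
  classical
  have h2 : (2 : F) = 0 := by
    have h4 : ((4 : ℕ) : F) = 0 := hF ▸ Nat.cast_card_eq_zero F
    have : (2 : F) * 2 = 0 := by norm_num at h4 ⊢; exact h4
    exact mul_self_eq_zero.1 this
  have : CharP F 2 := CharTwo.of_one_ne_zero_of_two_eq_zero one_ne_zero h2
  obtain ⟨w, hw0, hw1⟩ : ∃ w : F, w ≠ 0 ∧ w ≠ 1 := by
    by_contra hne
    push Not at hne
    have : Finset.univ ⊆ ({0, 1} : Finset F) := fun x _ => by
      rcases eq_or_ne x 0 with h | h <;> simp [h, hne x]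
    have := (Finset.card_le_card this).trans Finset.card_le_two
    rw [Finset.card_univ, hF] at this
    omega
  have hw2 : w * w = w + 1 := by
    have h3 : w ^ 3 = 1 := by
      have := FiniteField.pow_card_sub_one_eq_one w hw0
      rwa [hF] at this
    have : (w - 1) * (w * w + w + 1) = 0 := by linear_combination h3
    have h4 := (mul_eq_zero.1 this).resolve_left (sub_ne_zero.2 hw1)
    linear_combination h4 - (w + 1) * h2
  let φ : Fin 4 → F := ![0, 1, w, w + 1]
  have hadd : ∀ i j, φ (add4 i j) = φ i + φ j := by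
    intro i j
    fin_cases i <;> fin_cases j <;> simp [φ, add4] <;>
      first
        | linear_combination -(h2)
        | linear_combination -w * h2
        | linear_combination -(w + 1) * h2
        | linear_combination (-1 : F) * h2 - w * h2
        | ring
  have hmul : ∀ i j, φ (mul4 i j) = φ i * φ j := by
    intro i j
    fin_cases i <;> fin_cases j <;> simp [φ, mul4] <;>
      first
        | linear_combination -hw2
        | linear_combination -hw2 - w * h2
        | linear_combination -hw2 - (w + 1) * h2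
        | linear_combination -hw2 + (-1 : F) * h2 - w * h2
  have hinj : Function.Injective φ := by
    intro i j h
    fin_cases i <;> fin_cases j <;> simp [φ] at h ⊢ <;>
      first
        | exact absurd h hw0
        | exact absurd h.symm hw0
        | exact absurd h hw1
        | exact absurd h.symm hw1
        | (exfalso; apply hw1; linear_combination h - (1:F) * h2)
        | (exfalso; apply hw1; linear_combination -h - (1:F) * h2)
        | (exfalso; apply hw0; linear_combination h)
        | (exfalso; apply hw0; linear_combination -h)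
  have hsurj : Function.Surjective φ :=
    ((Fintype.bijective_iff_injective_and_card φ).2 ⟨hinj, by rw [hF, Fintype.card_fin]⟩).2
  obtain ⟨a, ha⟩ := hsurj (A.charpoly.coeff 2)
  obtain ⟨b, hb⟩ := hsurj (A.charpoly.coeff 1)
  have hcoeff : A.charpoly.coeff 0 = 1 := by
    have := A.det_eq_sign_charpoly_coeff
    rw [hA, Fintype.card_fin] at this
    simpa [CharTwo.neg_eq] using this.symm
  have hdeg : A.charpoly.natDegree = 3 := by
    rw [charpoly_natDegree_eq_dim, Fintype.card_fin]
  have h3 : A ^ 3 = φ a • A ^ 2 + φ b • A + 1 := by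
    have h := aeval_self_charpoly A
    rw [aeval_eq_sum_range, hdeg] at h
    simp only [Finset.sum_range_succ, Finset.sum_range_zero, zero_add, pow_zero, pow_one] at h
    have hm := (charpoly_monic A).coeff_natDegree
    rw [hdeg] at hm
    rw [hcoeff, hm, one_smul, one_smul, ← ha, ← hb] at h
    rw [← sub_eq_zero]
    have hn : ∀ x : Matrix (Fin 3) (Fin 3) F, -x = x := fun x => by
      ext i j; simp [CharTwo.neg_eq]
    rw [sub_eq_add_neg, hn, ← h]
    abel
  have hpow : ∀ n, A ^ n = φ (pw4 a b n).1 • A ^ 2 + φ (pw4 a b n).2.1 • A +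
      φ (pw4 a b n).2.2 • 1 := by
    intro n
    induction n with
    | zero => simp [pw4, φ]
    | succ n ih =>
      rw [pow_succ, ih, add_mul, add_mul, smul_mul_assoc, smul_mul_assoc, smul_mul_assoc, ← pow_succ,
        ← pow_two, one_mul, show (2 + 1 : ℕ) = 3 from rfl, h3]
      simp only [pw4, hadd, hmul]
      module
  rcases pw4_check a b with ⟨h1, h1'⟩ | ⟨h1, h1'⟩
  · exact Or.inl ⟨φ (pw4 a b 84).2.2, by rw [hpow, h1, h1']; simp [φ]⟩
  · exact Or.inr ⟨φ (pw4 a b 5).2.2, by rw [hpow, h1, h1']; simp [φ]⟩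



/-- No element of PSL_3(4) has order 15. -/
theorem result {F : Type*} [Field F] [Fintype F] (hF : Fintype.card F = 4) (g : Matrix.ProjectiveSpecialLinearGroup (Fin 3) F) : orderOf g ≠ 15 := by
  intro hg
  obtain ⟨A, rfl⟩ := QuotientGroup.mk_surjective g
  have key : ∀ k : ℕ, (∃ c : F, (A : Matrix (Fin 3) (Fin 3) F) ^ k = c • 1) → 15 ∣ k := by
    rintro k ⟨c, hc⟩
    rw [← hg]
    refine orderOf_dvd_of_pow_eq_one ?_
    rw [← QuotientGroup.mk_pow, QuotientGroup.eq_one_iff, Subgroup.mem_center_iff]
    intro B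
    apply Subtype.ext
    rw [Matrix.SpecialLinearGroup.coe_mul, Matrix.SpecialLinearGroup.coe_mul,
      Matrix.SpecialLinearGroup.coe_pow, hc, mul_smul_comm, smul_mul_assoc, mul_one, one_mul]
  rcases exists_scalar_pow hF _ A.2 with h | h
  · exact absurd (key 84 h) (by norm_num)
  · exact absurd (key 5 h) (by norm_num)

end Cfsg.Agent.S0819
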