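import Cfsg.Statements.S0820
import Cfsg.Agent.Lib.Forms.ParabolicGL
-- import your own Cfsg.Agent.* helpers here

set_option autoImplicit false
open Cfsg

namespace Cfsg.Agent.S0820

open Matrix Cfsg.Agent.Forms.ParabolicGL

theorem exists_conj_std {F : Type*} [Field F] (B : Matrix (Fin 3) (Fin 3) F) (h2 : (2 : F) = 0)
    (hB : B * B = 1) (hB1 : B ≠ 1)
    (h02 : Pi.single (2 : Fin 3) (1 : F) ⬝ᵥ Pi.single (0 : Fin 3) 1 = 0) :
    ∃ p : GL (Fin 3) F, ((p * vmU h02 * p⁻¹ : GL (Fin 3) F) : Matrix (Fin 3) (Fin 3) F) = B := by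
  classical
  set N := B - 1 with hN
  have hNN : N * N = 0 := by
    have : N * N = (2 : F) • (1 - B) := by
      rw [hN, sub_mul, mul_sub, mul_sub, hB, mul_one, one_mul, one_mul, two_smul]
      abel
    rw [this, h2, zero_smul]
  have hN0 : N ≠ 0 := sub_ne_zero.2 hB1
  obtain ⟨i, j, hij⟩ : ∃ i j, N i j ≠ 0 := by
    by_contra hne
    push Not at hne
    exact hN0 (Matrix.ext hne)
  let u : Fin 3 → F := N *ᵥ Pi.single j 1
  have hle : LinearMap.range N.mulVecLin ≤ LinearMap.ker N.mulVecLin := by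
    rintro _ ⟨x, rfl⟩
    rw [LinearMap.mem_ker, mulVecLin_apply, mulVecLin_apply, mulVec_mulVec, hNN, zero_mulVec]
  have hu : u ≠ 0 := fun h => hij (by simpa [u, mulVec_single_one] using congrFun h i)
  have hr : LinearMap.range N.mulVecLin = Submodule.span F {u} := by
    have hs : Submodule.span F {u} ≤ LinearMap.range N.mulVecLin := by
      rw [Submodule.span_singleton_le_iff_mem]; exact ⟨_, rfl⟩
    refine (Submodule.eq_of_le_of_finrank_le hs ?_).symm
    rw [finrank_span_singleton hu]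
    have h1 := LinearMap.finrank_range_add_finrank_ker N.mulVecLin
    have h3 := Submodule.finrank_mono hle
    rw [Module.finrank_fin_fun] at h1
    omega
  have hui : u i ≠ 0 := by simpa [u, mulVec_single_one] using hij
  let ψ : Fin 3 → F := fun c => N i c * (u i)⁻¹
  have hNe : N = vecMulVec u ψ := by
    ext r c
    obtain ⟨t, ht⟩ := Submodule.mem_span_singleton.1 (hr ▸ LinearMap.mem_range_self N.mulVecLin
      (Pi.single c 1) : N.mulVecLin (Pi.single c 1) ∈ Submodule.span F {u})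
    have e : ∀ l, t * u l = N l c := fun l => by simpa [mulVec_single_one] using congrFun ht l
    show N r c = u r * (N i c * (u i)⁻¹)
    rw [← e i, ← e r]
    field_simp
  have hψu : ψ ⬝ᵥ u = 0 := by
    have hu0 : N *ᵥ u = 0 := by
      rw [mulVec_mulVec, hNN, zero_mulVec]
    have := congrFun hu0 i
    rw [hNe] at this
    rw [vecMulVec_mulVec] at this
    simpa [hui] using this
  have hψj : ψ j ≠ 0 := mul_ne_zero hij (inv_ne_zero hui)
  obtain ⟨a, b, hab, ha, hb⟩ : ∃ a b, a ≠ b ∧ u a ≠ 0 ∧ ψ b ≠ 0 := by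
    by_contra hne
    push Not at hne
    have hij' : i = j := by
      by_contra h; exact hψj (hne i j h hui)
    have : ψ ⬝ᵥ u = ψ j * u j := Finset.sum_eq_single j (fun l _ hl => by
      rw [hne i l (by rw [hij']; exact Ne.symm hl) hui, zero_mul]) (by simp)
    rw [this, ← hij'] at hψu
    rcases mul_eq_zero.1 hψu with h | h
    · exact hψj (hij' ▸ h)
    · exact hui h
  have hab0 : Pi.single b (1 : F) ⬝ᵥ Pi.single a 1 = 0 := by simp [hab]
  obtain ⟨p, hp, -⟩ := exists_conj_pair_gen hab ha hb hψu hab0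
  have hperm : ∀ a b : Fin 3, a ≠ b → ∃ σ : Equiv.Perm (Fin 3), σ 0 = a ∧ σ 2 = b := by decide
  obtain ⟨σ, hσa, hσb⟩ := hperm a b hab
  let P : Matrix (Fin 3) (Fin 3) F := Matrix.of fun r c => if σ.symm r = c then 1 else 0
  have hP : IsUnit P := by
    refine ⟨⟨P, Matrix.of fun r c => if σ r = c then 1 else 0, ?_, ?_⟩, rfl⟩
    · ext r c
      simp [P, mul_apply, one_apply, Equiv.apply_eq_iff_eq_symm_apply]
    · ext r c
      simp [P, mul_apply, one_apply, Equiv.symm_apply_eq]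
  have hq : hP.unit * vmU h02 * hP.unit⁻¹ = vmU hab0 := by
    apply conj_vmU
    · ext r
      simp [P, IsUnit.unit_spec, mulVec_single_one, Pi.single_apply, Equiv.symm_apply_eq, hσa]
    · ext c
      simp [P, IsUnit.unit_spec, single_one_vecMul, Pi.single_apply, ← hσb, eq_comm]
  refine ⟨p * hP.unit, ?_⟩
  have : p * hP.unit * vmU h02 * (p * hP.unit)⁻¹ = vmU hψu := by rw [← hp, ← hq]; group
  rw [this, coe_vmU, vm, ← hNe, hN, add_sub_cancel]

theorem conj_of_involutions {F : Type*} [Field F] (h2 : (2 : F) = 0)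
    (X Y : Matrix.SpecialLinearGroup (Fin 3) F)
    (hX : (X : Matrix (Fin 3) (Fin 3) F) * X = 1) (hY : (Y : Matrix (Fin 3) (Fin 3) F) * Y = 1)
    (hX1 : (X : Matrix (Fin 3) (Fin 3) F) ≠ 1) (hY1 : (Y : Matrix (Fin 3) (Fin 3) F) ≠ 1) :
    IsConj X Y := by
  have h02 : Pi.single (2 : Fin 3) (1 : F) ⬝ᵥ Pi.single (0 : Fin 3) 1 = 0 := by simp
  obtain ⟨p, hp⟩ := exists_conj_std (X : Matrix (Fin 3) (Fin 3) F) h2 hX hX1 h02
  obtain ⟨r, hr⟩ := exists_conj_std (Y : Matrix (Fin 3) (Fin 3) F) h2 hY hY1 h02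
  set d : F := ((Matrix.GeneralLinearGroup.det r * (Matrix.GeneralLinearGroup.det p)⁻¹ : Fˣ) : F) with hd
  have hd0 : d ≠ 0 := Units.ne_zero _
  let D : GL (Fin 3) F := Matrix.GeneralLinearGroup.mkOfDetNeZero (diagonal ![1, d⁻¹, 1]) (by
    simp [Fin.prod_univ_three, hd0])
  have hD : D * vmU h02 * D⁻¹ = vmU h02 := by
    apply conj_vmU
    · ext r; fin_cases r <;> simp [D, Matrix.GeneralLinearGroup.mkOfDetNeZero, mulVec_diagonal]
    · ext c; fin_cases c <;> simp [D, Matrix.GeneralLinearGroup.mkOfDetNeZero, vecMul_diagonal]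
  let g : GL (Fin 3) F := r * D * p⁻¹
  have hg : ((g : Matrix (Fin 3) (Fin 3) F)).det = 1 := by
    have e : Matrix.GeneralLinearGroup.det g = 1 := by
      have hDd : Matrix.GeneralLinearGroup.det D =
          (Matrix.GeneralLinearGroup.det r * (Matrix.GeneralLinearGroup.det p)⁻¹)⁻¹ := by
        ext
        simp [D, Matrix.GeneralLinearGroup.mkOfDetNeZero, Fin.prod_univ_three, hd]
      simp only [g, map_mul, map_inv, hDd, _root_.mul_inv_rev, inv_inv]
      rw [mul_comm (Matrix.GeneralLinearGroup.det p) (Matrix.GeneralLinearGroup.det r)⁻¹]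
      group
    exact congrArg Units.val e
  refine isConj_iff.2 ⟨⟨(g : Matrix (Fin 3) (Fin 3) F), hg⟩, ?_⟩
  refine mul_inv_eq_iff_eq_mul.2 (Subtype.ext ?_)
  show (g : Matrix (Fin 3) (Fin 3) F) * (X : Matrix (Fin 3) (Fin 3) F) =
    (Y : Matrix (Fin 3) (Fin 3) F) * (g : Matrix (Fin 3) (Fin 3) F)
  rw [← hp, ← hr, ← Units.val_mul, ← Units.val_mul]
  congr 1
  calc g * (p * vmU h02 * p⁻¹) = r * (D * vmU h02 * D⁻¹) * (D * p⁻¹) := by simp only [g]; group
    _ = r * vmU h02 * (D * p⁻¹) := by rw [hD]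
    _ = r * vmU h02 * r⁻¹ * g := by simp only [g]; group

theorem exists_involution_lift {F : Type*} [Field F] [Fintype F] (hF : Fintype.card F = 4)
    (x : Matrix.ProjectiveSpecialLinearGroup (Fin 3) F) (hx : orderOf x = 2) :
    ∃ X : Matrix.SpecialLinearGroup (Fin 3) F, QuotientGroup.mk X = x ∧
      (X : Matrix (Fin 3) (Fin 3) F) * X = 1 ∧ (X : Matrix (Fin 3) (Fin 3) F) ≠ 1 := by
  obtain ⟨A, hA⟩ := QuotientGroup.mk_surjective x
  have h1 : A ^ 2 ∈ Subgroup.center (Matrix.SpecialLinearGroup (Fin 3) F) := by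
    rw [← QuotientGroup.eq_one_iff, QuotientGroup.mk_pow, hA, ← hx, pow_orderOf_eq_one]
  obtain ⟨c, hc, hAc⟩ := Matrix.SpecialLinearGroup.mem_center_iff.1 h1
  rw [Fintype.card_fin] at hc
  have hc' : (c ^ 2) ^ 3 = 1 := by rw [← pow_mul, pow_mul' c 2 3, hc, one_pow]
  let Z : Matrix.SpecialLinearGroup (Fin 3) F := ⟨c • 1, by simp [det_smul, hc]⟩
  have hZ : Z ∈ Subgroup.center (Matrix.SpecialLinearGroup (Fin 3) F) := by
    rw [Matrix.SpecialLinearGroup.mem_center_iff]
    exact ⟨c, by rw [Fintype.card_fin, hc], by simp [Z, smul_one_eq_diagonal]⟩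
  refine ⟨A * Z, ?_, ?_, ?_⟩
  · rw [QuotientGroup.mk_mul, (QuotientGroup.eq_one_iff Z).2 hZ, mul_one, hA]
  · have hA2 : (A : Matrix (Fin 3) (Fin 3) F) * A = c • 1 := by
      rw [← Matrix.SpecialLinearGroup.coe_mul, ← pow_two, ← hAc, smul_one_eq_diagonal]
      rfl
    rw [Matrix.SpecialLinearGroup.coe_mul]
    show (A : Matrix (Fin 3) (Fin 3) F) * (c • 1) * ((A : Matrix (Fin 3) (Fin 3) F) * (c • 1)) = 1
    simp only [mul_smul_comm, smul_mul_assoc, mul_one, hA2, smul_smul]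
    rw [show c * (c * c) = c ^ 3 by ring, hc, one_smul]
  · intro h
    have h' : A * Z = 1 := Subtype.ext h
    have : x = 1 := by
      rw [← hA, ← QuotientGroup.mk_one, ← h', QuotientGroup.mk_mul,
        (QuotientGroup.eq_one_iff Z).2 hZ, mul_one]
    rw [this, orderOf_one] at hx
    omega



/-- Any two elements of order 2 of PSL_3(4) are conjugate. -/
theorem result {F : Type*} [Field F] [Fintype F] (hF : Fintype.card F = 4) (x y : Matrix.ProjectiveSpecialLinearGroup (Fin 3) F) (hx : orderOf x = 2) (hy : orderOf y = 2) : IsConj x y := by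
  obtain ⟨X, rfl, hX, hX1⟩ := exists_involution_lift hF x hx
  obtain ⟨Y, rfl, hY, hY1⟩ := exists_involution_lift hF y hy
  have h2 : (2 : F) = 0 := by
    have h4 : ((4 : ℕ) : F) = 0 := hF ▸ Nat.cast_card_eq_zero F
    have : (2 : F) * 2 = 0 := by norm_num at h4 ⊢; exact h4
    exact mul_self_eq_zero.1 this
  exact (QuotientGroup.mk' _).map_isConj (conj_of_involutions h2 X Y hX hY hX1 hY1)

end Cfsg.Agent.S0820
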