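import Cfsg.Statements.S0821
import Cfsg.Agent.Lib.Forms.SympInvClasses
import Cfsg.Agent.Lib.Forms.SpecialOrth
import Cfsg.Agent.Lib.Classical.OrthForms
-- import your own Cfsg.Agent.* helpers here

set_option autoImplicit false
open Cfsg

namespace Cfsg.Agent.S0821

open Cfsg.Agent.Forms Cfsg.Agent.Forms.QuadStd Cfsg.Agent.Forms.Reflections Cfsg.Agent.Forms.Spinor

section general

variable {F : Type*} [Field F] {ι : Type} [Fintype ι] [DecidableEq ι]
variable (Q : QuadraticForm F (ι → F))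

/-- `-1` as an isometry -/
def negOne : Cfsg.isometryGroup F ⇑Q :=
  ⟨-1, (mem_isometry_iff _ _).2 fun v => by
    rw [Units.val_neg, Units.val_one, Matrix.neg_mulVec, Matrix.one_mulVec, QuadraticMap.map_neg]⟩

theorem act_negOne (x : ι → F) : act (negOne Q) x = -x := by
  rw [act_apply]
  show ((-1 : Matrix.GeneralLinearGroup ι F) : Matrix ι ι F).mulVec x = -x
  rw [Units.val_neg, Units.val_one, Matrix.neg_mulVec, Matrix.one_mulVec]

theorem negOne_comm (g : Cfsg.isometryGroup F ⇑Q) : g * negOne Q = negOne Q * g := by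
  refine iso_ext fun x => ?_
  rw [← act_apply, ← act_apply, act_mul, act_mul, act_negOne, act_negOne, map_neg]

theorem negOne_sq : negOne Q * negOne Q = 1 := by
  refine iso_ext fun x => ?_
  rw [← act_apply, ← act_apply, act_mul, act_negOne, act_negOne, act_one, neg_neg]

theorem conj_eq (h : Cfsg.isometryGroup F ⇑Q) (v : ι → F) :
    h * (negOne Q * reflect Q v) * h⁻¹ = negOne Q * reflect Q (act h v) := by
  rw [← reflect_conj h v, ← mul_assoc h (negOne Q), negOne_comm, mul_assoc (negOne Q) h,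
    mul_assoc (negOne Q)]

theorem par_negOne (h2 : (2 : F) ≠ 0) (ho : Odd (Fintype.card ι)) : par (negOne Q) = -1 := by
  have hfix : fixSp (negOne Q) = ⊥ := by
    rw [eq_bot_iff]
    intro x hx
    have := mem_fixSp.1 hx
    rw [act_negOne, neg_eq_iff_add_eq_zero, ← two_smul F, smul_eq_zero] at this
    exact (Submodule.mem_bot F).2 (this.resolve_left h2)
  rw [par, hfix, finrank_bot, zero_add]
  exact ho.neg_one_pow

variable [Fintype F]

/-- the conjugates of `-s_v` are at most as many as the lines off the quadric -/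
theorem natCard_class (v : ι → F) (hv : Q v ≠ 0) (g : Cfsg.Omega F ⇑Q)
    (hg : (g : Cfsg.isometryGroup F ⇑Q) = negOne Q * reflect Q v) :
    Nat.card {y : Cfsg.Omega F ⇑Q // IsConj g y} * (Fintype.card F - 1) ≤
      Nat.card {u : ι → F // Q u ≠ 0} := by
  classical
  have hy : ∀ y : {y : Cfsg.Omega F ⇑Q // IsConj g y}, ∃ u, Q u ≠ 0 ∧
      (y.1 : Cfsg.isometryGroup F ⇑Q) = negOne Q * reflect Q u := by
    intro y
    obtain ⟨h, hh⟩ := isConj_iff.1 y.2
    refine ⟨act (h : Cfsg.isometryGroup F ⇑Q) v, by rwa [act_map], ?_⟩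
    rw [← hh, Subgroup.coe_mul, Subgroup.coe_mul, Subgroup.coe_inv, hg, conj_eq]
  choose u hu hyu using hy
  let Φ : {y : Cfsg.Omega F ⇑Q // IsConj g y} × Fˣ → {u : ι → F // Q u ≠ 0} := fun p =>
    ⟨(p.2 : F) • u p.1, by
      rw [QuadraticMap.map_smul, smul_eq_mul]
      exact mul_ne_zero (mul_ne_zero p.2.ne_zero p.2.ne_zero) (hu p.1)⟩
  have hΦ : Function.Injective Φ := by
    intro p p' h
    have h' : (p.2 : F) • u p.1 = (p'.2 : F) • u p'.1 := congrArg Subtype.val h
    have e : p.1 = p'.1 := by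
      refine Subtype.ext (Subtype.ext ?_)
      rw [hyu, hyu, ← reflect_smul (Q := Q) (u p.1) p.2.ne_zero, h', reflect_smul _ p'.2.ne_zero]
    rw [e] at h'
    have hne : u p'.1 ≠ 0 := fun e0 => hu p'.1 (by rw [e0, QuadraticMap.map_zero])
    exact Prod.ext e (Units.ext (smul_left_injective F hne h'))
  have h := Nat.card_le_card_of_injective Φ hΦ
  rwa [Nat.card_prod, Nat.card_units, Nat.card_eq_fintype_card (α := F)] at h

end general


/-- PSp_2m(q) ≇ PΩ_(2m+1)(q) for q odd and m ≥ 3 (they have the same order). -/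
theorem result {F : Type*} [Field F] [Fintype F] (hodd : Odd (Fintype.card F)) (m : ℕ) (hm : 3 ≤ m) : IsEmpty (Cfsg.PSp m F ≃* Cfsg.POmega F (Cfsg.quadFormOdd m F)) := by
  classical
  refine ⟨fun e => ?_⟩
  have h2 := Classical.OrthForms.two_ne_zero_of_odd (F := F) hodd
  rw [← Classical.OrthForms.oddQ_eq] at e
  set Q := Classical.OrthForms.oddQ F m with hQdef
  have hQ : (QuadraticMap.polarBilin Q).Nondegenerate := Classical.OrthForms.oddQ_nondeg h2 m
  have hn : 2 ≤ Fintype.card (Unit ⊕ (Fin m ⊕ Fin m)) := by simp; omega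
  have ho : Odd (Fintype.card (Unit ⊕ (Fin m ⊕ Fin m))) := ⟨m, by simp; omega⟩
  obtain ⟨α, hα⟩ := FiniteField.exists_nonsquare (F := F) (fun h => h2 (by
    have : CharP F 2 := h ▸ ringChar.charP F
    exact CharTwo.two_eq_zero))
  obtain ⟨c, hc, hcs⟩ : ∃ c : F, c ≠ 0 ∧
      (if IsSquare c then (-1 : ℤˣ) else 1) = spin Q 1 (negOne Q) := by
    rcases Int.units_eq_one_or (spin Q 1 (negOne Q)) with h | h <;> rw [h]
    · exact ⟨α, fun h0 => hα (h0 ▸ ⟨0, by simp⟩), if_neg hα⟩
    · exact ⟨1, one_ne_zero, if_pos IsSquare.one⟩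
  set i0 : Fin m := ⟨0, by omega⟩ with hi0
  set i1 : Fin m := ⟨1, by omega⟩ with hi1
  have hi : i0 ≠ i1 := by simp [hi0, hi1]
  set v : Unit ⊕ (Fin m ⊕ Fin m) → F :=
    Pi.single (.inr (.inl i0)) 1 + Pi.single (.inr (.inr i0)) c with hvdef
  set x : Unit ⊕ (Fin m ⊕ Fin m) → F := Pi.single (.inr (.inl i1)) 1 with hxdef
  have hQx : Q x = 0 := by
    rw [hQdef, Classical.OrthForms.oddQ_eq, Cfsg.quadFormOdd, hxdef]
    simp [Pi.single_apply]
  have hQv : Q v = c := by
    rw [hQdef, Classical.OrthForms.oddQ_eq, Cfsg.quadFormOdd, hvdef]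
    simp [Pi.single_apply]
  have hvx : QuadraticMap.polar Q v x = 0 := by
    simp only [QuadraticMap.polar, hQdef, Classical.OrthForms.oddQ_eq, Cfsg.quadFormOdd]
    simp [hvdef, hxdef, Pi.single_apply, hi, hi.symm, Finset.sum_add_distrib, add_mul, mul_add]
  set g₀ := negOne Q * reflect Q v with hg₀
  have hv0 : Q v ≠ 0 := hQv ▸ hc
  have hmem : g₀ ∈ Cfsg.Omega F ⇑Q := by
    rw [← ker_pairHom hQ h2 hn, MonoidHom.mem_ker, hg₀, map_mul, pairHom_reflect hQ h2 hv0, hQv, hcs]
    show (par (negOne Q), spin Q 1 (negOne Q)) * (-1, spin Q 1 (negOne Q)) = 1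
    rw [par_negOne Q h2 ho, Prod.mk_mul_mk, Int.units_mul_self, Int.units_mul_self]
    rfl
  set g : Cfsg.Omega F ⇑Q := ⟨g₀, hmem⟩ with hgdef
  have hgg : g * g = 1 := by
    refine Subtype.ext ?_
    show g₀ * g₀ = 1
    rw [hg₀, mul_assoc, ← mul_assoc (reflect Q v), negOne_comm, mul_assoc (negOne Q) (reflect Q v),
      reflect_sq, mul_one, negOne_sq]
  have hgc : g ∉ Subgroup.center (Cfsg.Omega F ⇑Q) := by
    intro hcen
    set w := v + x with hwdef
    have hQw : Q w = c := by rw [hwdef, QuadraticMap.map_add Q, hQx, hQv, hvx]; ring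
    have hvw : QuadraticMap.polar Q v w = 2 * c := by
      rw [hwdef, QuadraticMap.polar_add_right, hvx, QuadraticMap.polar_self, hQv]; simp
    set r := reflect Q w with hr
    have hv' : act r v = -v + (-2 : F) • x := by
      rw [hr, act_reflect, QuadraticMap.polar_comm, hvw, hQw, hwdef]
      match_scalars <;> field_simp <;> ring
    set v' := act r v with hv'd
    have hg' : r * g₀ * r⁻¹ ∈ Cfsg.Omega F ⇑Q :=
      (inferInstance : (Cfsg.Omega F ⇑Q).Normal).conj_mem _ hmem r
    have hcomm : g₀ * (r * g₀ * r⁻¹) = (r * g₀ * r⁻¹) * g₀ :=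
      congrArg Subtype.val (Subgroup.mem_center_iff.1 hcen ⟨_, hg'⟩).symm
    rw [hg₀, conj_eq, ← hv'd] at hcomm
    have hcomm' : reflect Q v * reflect Q v' = reflect Q v' * reflect Q v := by
      have h1 : ∀ a b : Cfsg.isometryGroup F ⇑Q, negOne Q * a * (negOne Q * b) = a * b := fun a b => by
        rw [mul_assoc, ← mul_assoc a, negOne_comm, mul_assoc (negOne Q) a, ← mul_assoc, negOne_sq, one_mul]
      rwa [h1, h1] at hcomm
    have hu : reflect Q (act (reflect Q v) v') = reflect Q v' := by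
      rw [← reflect_conj, hcomm', mul_assoc, mul_inv_cancel, mul_one]
    have hev := congrArg (fun h : Cfsg.isometryGroup F ⇑Q => act h v') hu
    have hQv' : Q v' = c := by rw [hv'd, act_map, hQv]
    have hpv : QuadraticMap.polar Q v v' = -(2 * c) := by
      rw [hv', QuadraticMap.polar_add_right, QuadraticMap.polar_smul_right, hvx,
        QuadraticMap.polar_neg_right, QuadraticMap.polar_self, hQv]
      simp
    have hru : act (reflect Q v) v' = v' + (2 : F) • v := by
      rw [act_reflect, hpv, hQv]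
      match_scalars <;> field_simp
    have hrhs : act (reflect Q v') v' = -v' := by
      rw [act_reflect, QuadraticMap.polar_self, hQv']
      match_scalars
      field_simp
      ring
    simp only [hrhs] at hev
    rw [hru, act_reflect] at hev
    set k := (Q (v' + (2 : F) • v))⁻¹ * QuadraticMap.polar Q (v' + (2 : F) • v) v'
    have e1 := congrFun hev (.inr (.inl i1))
    have e2 := congrFun hev (.inr (.inl i0))
    simp [hv', hvdef, hxdef, Pi.single_apply, hi, hi.symm] at e1 e2
    have h8 : (2 : F) ^ 3 = 0 := by linear_combination -e1 - 2 * e2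
    exact h2 (eq_zero_of_pow_eq_zero h8)
  -- its image
  set xg : Cfsg.POmega F ⇑Q := QuotientGroup.mk g with hxg
  have hx1 : xg ≠ 1 := fun h => hgc ((QuotientGroup.eq_one_iff g).1 h)
  set y := e.symm xg with hy
  have hlow := Forms.SympInvClasses.lt_natCard_conj h2 hm y
    (fun h => hx1 (by rw [← e.apply_symm_apply xg, ← hy, h, map_one]))
    (by rw [hy, ← map_mul, hxg, ← QuotientGroup.mk_mul, hgg, QuotientGroup.mk_one, map_one])
  have hsurj : ∀ z : {z : Cfsg.PSp m F // IsConj y z}, ∃ Y : {Y : Cfsg.Omega F ⇑Q // IsConj g Y},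
      e z.1 = QuotientGroup.mk Y.1 := by
    intro z
    obtain ⟨h, hh⟩ := isConj_iff.1 z.2
    obtain ⟨k, hk⟩ := QuotientGroup.mk_surjective (e h)
    refine ⟨⟨k * g * k⁻¹, isConj_iff.2 ⟨k, rfl⟩⟩, ?_⟩
    show e z.1 = QuotientGroup.mk (k * g * k⁻¹)
    rw [← hh, map_mul, map_mul, map_inv, hy, e.apply_symm_apply, ← hk, QuotientGroup.mk_mul,
      QuotientGroup.mk_mul, QuotientGroup.mk_inv]
  choose Y hY using hsurj
  have hle : Nat.card {z : Cfsg.PSp m F // IsConj y z} ≤ Nat.card {Y : Cfsg.Omega F ⇑Q // IsConj g Y} :=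
    Nat.card_le_card_of_injective Y fun a b hab =>
      Subtype.ext (e.injective (by rw [hY a, hY b, hab]))
  have hup := natCard_class Q v hv0 g rfl
  have hzero : Nat.card {u : Unit ⊕ (Fin m ⊕ Fin m) → F // Q u = 0} = Fintype.card F ^ (2 * m) := by
    rw [← Classical.OrthForms.zeros_odd rfl h2 m]; rfl
  have htot : Nat.card {u : Unit ⊕ (Fin m ⊕ Fin m) → F // Q u ≠ 0} + Fintype.card F ^ (2 * m) =
      Fintype.card F ^ (2 * m) * Fintype.card F := by
    rw [← hzero, add_comm, ← Nat.card_sum, Nat.card_congr (Equiv.sumCompl fun u => Q u = 0), hzero,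
      Nat.card_eq_fintype_card, ← pow_succ]
    simp
    ring
  set q := Fintype.card F
  have hq2 : 2 ≤ q := Fintype.one_lt_card
  have h9 := hlow.trans_le hle
  have h10 := Nat.mul_lt_mul_of_pos_right h9 (by omega : 0 < q - 1)
  rw [Nat.mul_sub_one] at h10
  omega

end Cfsg.Agent.S0821
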