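import Cfsg.Statements.S0823
import Cfsg.Agent.Lib.Forms.SmallPerm
-- import your own Cfsg.Agent.* helpers here

set_option autoImplicit false
open Cfsg

namespace Cfsg.Agent.S0823

open Matrix Cfsg.Agent.Forms.QuadStd Cfsg.Agent.Forms.Reflections Cfsg.Agent.Forms.SmallPerm

set_option maxRecDepth 100000
set_option maxHeartbeats 1000000

theorem act_inv_cancel' {F : Type*} [Field F] {ι : Type} [Fintype ι] [DecidableEq ι]
    {Q : QuadraticForm F (ι → F)} (g : Cfsg.isometryGroup F ⇑Q) (x : ι → F) :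
    act g⁻¹ (act g x) = x := by
  rw [← act_mul, inv_mul_cancel, act_one]

/-- index type -/
abbrev I : Type := Unit ⊕ (Fin 1 ⊕ Fin 1)

/-- the form -/
noncomputable def qf : QuadraticForm (ZMod 3) (I → ZMod 3) :=
  QuadraticMap.linMulLin (LinearMap.proj (R := ZMod 3) (φ := fun _ : I => ZMod 3) (Sum.inl ()))
      (LinearMap.proj (R := ZMod 3) (φ := fun _ : I => ZMod 3) (Sum.inl ())) +
    QuadraticMap.linMulLin
      (LinearMap.proj (R := ZMod 3) (φ := fun _ : I => ZMod 3) (Sum.inr (Sum.inl 0)))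
      (LinearMap.proj (R := ZMod 3) (φ := fun _ : I => ZMod 3) (Sum.inr (Sum.inr 0)))

theorem qf_eq : ⇑qf = Cfsg.quadFormOdd 1 (ZMod 3) := by
  funext v
  simp [qf, Cfsg.quadFormOdd, sq]

/-- the four isotropic points -/
def pt : Fin 4 → I → ZMod 3 :=
  ![Sum.elim (fun _ => 0) (Sum.elim (fun _ => 1) (fun _ => 0)),
    Sum.elim (fun _ => 0) (Sum.elim (fun _ => 0) (fun _ => -1)),
    Sum.elim (fun _ => 1) (Sum.elim (fun _ => 1) (fun _ => -1)),
    Sum.elim (fun _ => -1) (Sum.elim (fun _ => 1) (fun _ => -1))]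

theorem pt_polar : ∀ i j : Fin 4, QuadraticMap.polar (Cfsg.quadFormOdd 1 (ZMod 3)) (pt i) (pt j) =
    if i = j then 0 else -1 := by decide

theorem pt_class : ∀ v : I → ZMod 3, Cfsg.quadFormOdd 1 (ZMod 3) v = 0 → v ≠ 0 →
    ∃ i, v = pt i ∨ v = -pt i := by decide

theorem pt_single : ∀ z : I, ∃ a b c : Fin 4, ∃ s t u : ZMod 3,
    Pi.single z (1 : ZMod 3) = s • pt a + t • pt b + u • pt c := by decide

theorem pt_value : ∀ i j : Fin 4, i ≠ j → Cfsg.quadFormOdd 1 (ZMod 3) (pt i - pt j) = 1 := by decide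

theorem pt_refl : ∀ i j k : Fin 4, i ≠ j → -(pt k -
    QuadraticMap.polar (Cfsg.quadFormOdd 1 (ZMod 3)) (pt i - pt j) (pt k) • (pt i - pt j)) =
      -pt (Equiv.swap i j k) := by decide

theorem pt_sing : ∀ i : Fin 4, Cfsg.quadFormOdd 1 (ZMod 3) (pt i) = 0 ∧ pt i ≠ 0 := by decide

theorem pt_ne : ∀ i j : Fin 4, (pt i = pt j ∨ -pt i = pt j) → i = j := by decide

theorem pt_span : Submodule.span (ZMod 3) (Set.range pt) = ⊤ := by
  rw [eq_top_iff]
  intro v _
  rw [pi_eq_sum_univ' v]
  refine Submodule.sum_mem _ fun z _ => Submodule.smul_mem _ _ ?_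
  obtain ⟨a, b, c, s, t, u, h⟩ := pt_single z
  rw [h]
  exact add_mem (add_mem (Submodule.smul_mem _ _ (Submodule.subset_span ⟨a, rfl⟩))
    (Submodule.smul_mem _ _ (Submodule.subset_span ⟨b, rfl⟩)))
    (Submodule.smul_mem _ _ (Submodule.subset_span ⟨c, rfl⟩))

theorem equiv_s4 : Nonempty (↥(Cfsg.specialIsometryGroup (ZMod 3) ⇑qf) ≃* Equiv.Perm (Fin 4)) := by
  let χ : Equiv.Perm (Fin 4) →* ZMod 3 :=
    (Int.castRingHom (ZMod 3)).toMonoidHom.comp ((Units.coeHom ℤ).comp Equiv.Perm.sign)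
  have χ_val : ∀ σ, χ σ = 1 ∨ χ σ = -1 := by
    intro σ
    rcases Int.units_eq_one_or (Equiv.Perm.sign σ) with h | h <;> simp [χ, h]
  have hneg : (-1 : Matrix.GeneralLinearGroup I (ZMod 3)) ∈ Cfsg.isometryGroup (ZMod 3) ⇑qf := by
    rw [mem_isometry_iff]
    intro v
    simp [neg_mulVec, QuadraticMap.map_neg]
  have hswap : ∀ i j : Fin 4, i ≠ j → ∃ g ∈ Cfsg.specialIsometryGroup (ZMod 3) ⇑qf,
      ∀ x, act g (pt x) = χ (Equiv.swap i j) • pt (Equiv.swap i j • x) := by
    intro i j hij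
    have hv : qf (pt i - pt j) = 1 := by rw [qf_eq]; exact pt_value i j hij
    refine ⟨⟨-1, hneg⟩ * reflect qf (pt i - pt j), ?_, fun x => ?_⟩
    · rw [mem_special_iff, Subgroup.coe_mul, Units.val_mul, det_mul]
      rw [show (((⟨-1, hneg⟩ : Cfsg.isometryGroup (ZMod 3) ⇑qf) : Matrix.GeneralLinearGroup I (ZMod 3))
          : Matrix I I (ZMod 3)) = -1 from rfl]
      rw [det_neg, det_one]
      have : ((reflect qf (pt i - pt j) : Matrix.GeneralLinearGroup I (ZMod 3))
          : Matrix I I (ZMod 3)).det = -1 := reflection_det qf (by rw [hv]; decide)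
      rw [this]
      simp [pow_succ]
    · rw [act_mul, act_reflect, hv, inv_one, one_mul,
        show QuadraticMap.polar (⇑qf) (pt i - pt j) (pt x) = QuadraticMap.polar
          (Cfsg.quadFormOdd 1 (ZMod 3)) (pt i - pt j) (pt x) by rw [qf_eq], act_apply]
      show ((-1 : Matrix I I (ZMod 3))) *ᵥ _ = _
      rw [neg_mulVec, one_mulVec, pt_refl i j x hij]
      simp [χ, Equiv.Perm.sign_swap hij]
  have hsurj : ∀ g ∈ Cfsg.specialIsometryGroup (ZMod 3) ⇑qf, ∃ σ : Equiv.Perm (Fin 4),
      ∀ x, act g (pt x) = χ σ • pt (σ • x) := by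
    intro g hg
    have hcl : ∀ x, ∃ (y : Fin 4) (e : ZMod 3), (e = 1 ∨ e = -1) ∧ act g (pt x) = e • pt y := by
      intro x
      have h0 : Cfsg.quadFormOdd 1 (ZMod 3) (act g (pt x)) = 0 := by
        rw [← qf_eq, act_map, qf_eq]; exact (pt_sing x).1
      have h1 : act g (pt x) ≠ 0 := by
        intro h
        have := act_inv_cancel' g (pt x)
        rw [h, map_zero] at this
        exact (pt_sing x).2 this.symm
      obtain ⟨y, hy | hy⟩ := pt_class _ h0 h1
      · exact ⟨y, 1, Or.inl rfl, by rw [hy, one_smul]⟩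
      · exact ⟨y, -1, Or.inr rfl, by rw [hy, neg_one_smul]⟩
    choose π e he hπ using hcl
    have hpol : ∀ x y, x ≠ y → e x * e y *
        QuadraticMap.polar (Cfsg.quadFormOdd 1 (ZMod 3)) (pt (π x)) (pt (π y)) = -1 := by
      intro x y hxy
      have h := act_polar g (pt x) (pt y)
      rw [hπ, hπ, QuadraticMap.polar_smul_left, QuadraticMap.polar_smul_right, qf_eq, pt_polar x y,
        if_neg hxy] at h
      simpa [smul_eq_mul, mul_assoc] using h
    have hinj : Function.Injective π := by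
      intro x y hxy
      by_contra hne
      have h := hpol x y hne
      rw [hxy, pt_polar, if_pos rfl, mul_zero] at h
      exact absurd h (by decide)
    have hee : ∀ x y, e x = e y := by
      intro x y
      rcases eq_or_ne x y with rfl | hxy
      · rfl
      have h := hpol x y hxy
      rw [pt_polar, if_neg (hinj.ne hxy)] at h
      rcases he x with a | a <;> rcases he y with b | b <;> rw [a, b] at h ⊢ <;>
        exact absurd h (by decide)
    let σ : Equiv.Perm (Fin 4) := Equiv.ofBijective π (Finite.injective_iff_bijective.1 hinj)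
    refine ⟨σ, fun x => ?_⟩
    suffices e x = χ σ by rw [hπ, this]; rfl
    by_contra hne
    have hneg' : ∀ y, e y = -χ σ := by
      intro y
      rw [hee y x]
      rcases he x with a | a <;> rcases χ_val σ with b | b <;> rw [a, b] at hne ⊢ <;>
        first | exact absurd rfl hne | simp
    obtain ⟨f, hf⟩ := exists_permHom (Cfsg.specialIsometryGroup (ZMod 3) ⇑qf) pt pt_span χ hswap
    have hact : act g = -act (f σ : Cfsg.isometryGroup (ZMod 3) ⇑qf) := by
      refine LinearMap.ext_on_range pt_span fun y => ?_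
      rw [LinearMap.neg_apply, hf, hπ, hneg', neg_smul]
      rfl
    have hmat := congrArg LinearMap.toMatrix' hact
    rw [act, act, map_neg, LinearMap.toMatrix'_toLin', LinearMap.toMatrix'_toLin'] at hmat
    have hdet := congrArg Matrix.det hmat
    rw [det_neg, (mem_special_iff).1 hg, (mem_special_iff).1 (f σ).2] at hdet
    exact absurd hdet (by decide)
  refine nonempty_permEquiv _ pt pt_span χ hswap (fun σ hσ => Equiv.ext fun x => ?_) hsurj
  have h := hσ x
  refine pt_ne _ _ ?_
  rcases χ_val σ with a | a <;> rw [a] at h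
  · left; simpa using h
  · right; simpa using h


/-- SO_3(3) ≅ S_4: the determinant-one isometries of the form x_0² + x_1y_1 over the field with 3 elements form a group isomorphic to the symmetric group on 4 letters. -/
theorem result {F : Type*} [Field F] [Fintype F] (hF : Fintype.card F = 3) : Nonempty (↥(Cfsg.specialIsometryGroup F (Cfsg.quadFormOdd 1 F)) ≃* Equiv.Perm (Fin 4)) := by
  let e : F ≃+* ZMod 3 := (ZMod.ringEquivOfPrime F Nat.prime_three hF).symm
  have h : ∀ v, e (Cfsg.quadFormOdd 1 F v) = qf (e ∘ v) := fun v => by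
    rw [qf_eq]; simp [Cfsg.quadFormOdd]
  obtain ⟨f⟩ := equiv_s4
  exact ⟨(((isoCongr e h).subgroupMap _).trans (MulEquiv.subgroupCongr (map_special e h))).trans f⟩

end Cfsg.Agent.S0823
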