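import Cfsg.Statements.S0826
import Cfsg.Agent.Lib.Forms.SympStd
-- import your own Cfsg.Agent.* helpers here

set_option autoImplicit false
open Cfsg

namespace Cfsg.Agent.S0826

open Matrix Cfsg.Agent.Forms.SympStd

/-- extension of a function by zero -/
def ext {N : ℕ} (x : Fin N → ZMod 2) (i : ℕ) : ZMod 2 := if h : i < N then x ⟨i, h⟩ else 0

/-- partial sums -/
def ps (a : ℕ → ZMod 2) (r : ℕ) : ZMod 2 := ∑ i ∈ Finset.range r, a i

theorem two_zero : (2 : ZMod 2) = 0 := by decide

theorem key (a b : ℕ → ZMod 2) (p r : ZMod 2) (m : ℕ) :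
    ∑ k ∈ Finset.range m, ((ps a (2 * k + 1) + p) * (b (2 * k) + b (2 * k + 1)) +
      (a (2 * k) + a (2 * k + 1)) * (ps b (2 * k + 1) + r)) =
    (∑ i ∈ Finset.range (2 * m), a i * b i) + ps a (2 * m) * ps b (2 * m) +
      p * ps b (2 * m) + ps a (2 * m) * r := by
  induction m with
  | zero => simp [ps]
  | succ m ih =>
    rw [Finset.sum_range_succ, ih, show 2 * (m + 1) = 2 * m + 1 + 1 by ring]
    simp only [ps, Finset.sum_range_succ]
    linear_combination -(a (2 * m + 1) * b (2 * m + 1)) * two_zero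

/-- the even subsets -/
def evens (N : ℕ) : Submodule (ZMod 2) (Fin N → ZMod 2) where
  carrier := {x | ∑ i, x i = 0}
  add_mem' := fun {x y} hx hy => by
    simp only [Set.mem_setOf_eq, Pi.add_apply, Finset.sum_add_distrib] at hx hy ⊢
    rw [hx, hy, add_zero]
  zero_mem' := by simp
  smul_mem' := fun c {x} hx => by
    simp only [Set.mem_setOf_eq, Pi.smul_apply, smul_eq_mul, ← Finset.mul_sum] at hx ⊢
    rw [hx, mul_zero]

theorem mem_evens {N : ℕ} {x : Fin N → ZMod 2} : x ∈ evens N ↔ ∑ i, x i = 0 := Iff.rfl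

/-- coordinates of a subset -/
noncomputable def phi (m : ℕ) : (Fin (2 * (m + 1)) → ZMod 2) →ₗ[ZMod 2] (Fin m ⊕ Fin m → ZMod 2) where
  toFun x := Sum.elim (fun k => ps (ext x) (2 * (k : ℕ) + 1) + ext x (2 * m))
    (fun k => ext x (2 * (k : ℕ)) + ext x (2 * (k : ℕ) + 1))
  map_add' x y := by
    have he : ∀ i, ext (x + y) i = ext x i + ext y i := fun i => by
      unfold ext; split_ifs <;> simp
    funext z
    rcases z with k | k <;> simp only [Sum.elim_inl, Sum.elim_inr, Pi.add_apply, ps, he,
      Finset.sum_add_distrib] <;> abel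
  map_smul' c x := by
    have he : ∀ i, ext (c • x) i = c * ext x i := fun i => by
      unfold ext; split_ifs <;> simp
    funext z
    rcases z with k | k <;> simp only [Sum.elim_inl, Sum.elim_inr, Pi.smul_apply, smul_eq_mul, ps,
      he, ← Finset.mul_sum, RingHom.id_apply] <;> ring

theorem form_phi (m : ℕ) {u v : Fin (2 * (m + 1)) → ZMod 2} (hu : u ∈ evens _) (hv : v ∈ evens _) :
    Cfsg.sympForm m (ZMod 2) (phi m u) (phi m v) = u ⬝ᵥ v := by
  have h1 : ∀ x : Fin (2 * (m + 1)) → ZMod 2,
      ∑ i, x i = ps (ext x) (2 * m) + ext x (2 * m) + ext x (2 * m + 1) := by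
    intro x
    rw [ps, ← Finset.sum_range_succ, ← Finset.sum_range_succ, ← Fin.sum_univ_eq_sum_range (ext x)]
    refine Finset.sum_congr rfl fun i _ => ?_
    simp [ext, i.isLt]
  have h2 : u ⬝ᵥ v = (∑ i ∈ Finset.range (2 * m), ext u i * ext v i) +
      ext u (2 * m) * ext v (2 * m) + ext u (2 * m + 1) * ext v (2 * m + 1) := by
    rw [← Finset.sum_range_succ, ← Finset.sum_range_succ,
      ← Fin.sum_univ_eq_sum_range (fun i => ext u i * ext v i)]
    refine Finset.sum_congr rfl fun i _ => ?_
    simp [ext, i.isLt]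
  have hS : ps (ext u) (2 * m) + ext u (2 * m) + ext u (2 * m + 1) = 0 := (h1 u).symm.trans hu
  have hT : ps (ext v) (2 * m) + ext v (2 * m) + ext v (2 * m + 1) = 0 := (h1 v).symm.trans hv
  have h3 : Cfsg.sympForm m (ZMod 2) (phi m u) (phi m v) = ∑ k ∈ Finset.range m,
      ((ps (ext u) (2 * k + 1) + ext u (2 * m)) * (ext v (2 * k) + ext v (2 * k + 1)) +
      (ext u (2 * k) + ext u (2 * k + 1)) * (ps (ext v) (2 * k + 1) + ext v (2 * m))) := by
    rw [sympForm_eq, ← Fin.sum_univ_eq_sum_range]
    refine Finset.sum_congr rfl fun k _ => ?_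
    simp only [phi, LinearMap.coe_mk, AddHom.coe_mk, Sum.elim_inl, Sum.elim_inr, CharTwo.sub_eq_add]
    ring
  rw [h3, key, h2]
  linear_combination (ps (ext v) (2 * m) + ext v (2 * m)) * hS - ext u (2 * m + 1) * hT
    - ext u (2 * m) * ext v (2 * m) * two_zero

theorem pair_mem {N : ℕ} (i j : Fin N) :
    Pi.single i 1 + Pi.single j (1 : ZMod 2) ∈ evens N := by
  simp [mem_evens, Finset.sum_add_distrib, ZModModule.add_self]

theorem const_of_ker (m : ℕ) {y : Fin (2 * (m + 1)) → ZMod 2} (hy : y ∈ evens _) (h : phi m y = 0)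
    (i j : Fin (2 * (m + 1))) : y i = y j := by
  have h1 := form_phi m hy (pair_mem i j)
  rw [h] at h1
  simp [Cfsg.sympForm, dotProduct_add] at h1
  exact CharTwo.add_eq_zero.1 h1.symm

theorem phi_surjective (m : ℕ) : ∀ v, ∃ x ∈ evens (2 * (m + 1)), phi m x = v := by
  have hle : ∀ v, v ∈ LinearMap.range ((phi m).comp (evens (2 * (m + 1))).subtype) := by
    suffices h : LinearMap.range ((phi m).comp (evens (2 * (m + 1))).subtype) = ⊤ by
      intro v; rw [h]; trivial
    refine Submodule.eq_top_of_finrank_eq (le_antisymm (Submodule.finrank_le _) ?_)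
    have hE : 2 * (m + 1) ≤ Module.finrank (ZMod 2) (evens (2 * (m + 1))) + 1 := by
      let tot : (Fin (2 * (m + 1)) → ZMod 2) →ₗ[ZMod 2] ZMod 2 :=
        { toFun := fun x => ∑ i, x i
          map_add' := fun x y => by simp [Finset.sum_add_distrib]
          map_smul' := fun c x => by simp [Finset.mul_sum] }
      have he : evens (2 * (m + 1)) = LinearMap.ker tot := by ext x; rfl
      have := LinearMap.finrank_range_add_finrank_ker tot
      have hr := Submodule.finrank_le (LinearMap.range tot)
      simp only [Module.finrank_fin_fun, Module.finrank_self] at this hr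
      rw [he]; omega
    have hK : Module.finrank (ZMod 2)
        (LinearMap.ker ((phi m).comp (evens (2 * (m + 1))).subtype)) ≤ 1 := by
      let g : LinearMap.ker ((phi m).comp (evens (2 * (m + 1))).subtype) →ₗ[ZMod 2] ZMod 2 :=
        (LinearMap.proj (R := ZMod 2) (φ := fun _ : Fin (2 * (m + 1)) => ZMod 2)
          ⟨0, by omega⟩).comp ((evens (2 * (m + 1))).subtype.comp (Submodule.subtype _))
      have hg : Function.Injective g := by
        rw [injective_iff_map_eq_zero]
        intro x hx
        apply Subtype.ext; apply Subtype.ext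
        funext i
        have := const_of_ker m x.1.2 x.2 i ⟨0, by omega⟩
        rw [this]; exact hx
      exact (LinearMap.finrank_le_finrank_of_injective hg).trans (le_of_eq (Module.finrank_self _))
    have := LinearMap.finrank_range_add_finrank_ker ((phi m).comp (evens (2 * (m + 1))).subtype)
    rw [finrank_vec]
    omega
  intro v
  obtain ⟨x, hx⟩ := hle v
  exact ⟨x.1, x.2, hx⟩

theorem embeds (m : ℕ) (hm : 2 ≤ m) :
    ∃ f : Equiv.Perm (Fin (2 * (m + 1))) →* Matrix.symplecticGroup (Fin m) (ZMod 2),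
      Function.Injective f := by
  let F := ((phi m).comp (evens (2 * (m + 1))).subtype)
  obtain ⟨sec, hsec⟩ := F.exists_rightInverse_of_surjective (LinearMap.range_eq_top.2 fun v => by
    obtain ⟨x, hx, e⟩ := phi_surjective m v
    exact ⟨⟨x, hx⟩, e⟩)
  have hs : ∀ v, phi m (sec v : Fin (2 * (m + 1)) → ZMod 2) = v := fun v => LinearMap.congr_fun hsec v
  let P := fun σ : Equiv.Perm (Fin (2 * (m + 1))) =>
    LinearMap.funLeft (ZMod 2) (ZMod 2) (σ.symm : Fin (2 * (m + 1)) → Fin (2 * (m + 1)))
  have hP : ∀ σ x, x ∈ evens _ → P σ x ∈ evens _ := by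
    intro σ x hx
    rw [mem_evens] at hx ⊢
    exact (Equiv.sum_comp σ.symm x).trans hx
  have hcong : ∀ σ x y, x ∈ evens _ → y ∈ evens _ → phi m x = phi m y →
      phi m (P σ x) = phi m (P σ y) := by
    intro σ x y hx hy h
    have hd : phi m (x - y) = 0 := by rw [map_sub, h, sub_self]
    have hc : P σ (x - y) = x - y := funext fun i =>
      const_of_ker m (Submodule.sub_mem _ hx hy) hd (σ.symm i) i
    rw [← sub_eq_zero, ← map_sub, ← map_sub, hc, hd]
  let T := fun σ => (phi m).comp ((P σ).comp ((evens _).subtype.comp sec))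
  have hT : ∀ σ, LinearMap.toMatrix' (T σ) ∈ Matrix.symplecticGroup (Fin m) (ZMod 2) := by
    intro σ
    rw [mem_sp_iff]
    intro u v
    simp only [← Matrix.toLin'_apply, Matrix.toLin'_toMatrix']
    conv_rhs => rw [← hs u, ← hs v]
    simp only [T, LinearMap.comp_apply, Submodule.subtype_apply]
    rw [form_phi m (hP _ _ (sec u).2) (hP _ _ (sec v).2), form_phi m (sec u).2 (sec v).2]
    simp only [dotProduct, P, LinearMap.funLeft_apply]
    exact Equiv.sum_comp σ.symm fun i => (sec u).1 i * (sec v).1 i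
  refine ⟨MonoidHom.mk' (fun σ => ⟨_, hT σ⟩) fun σ τ => Subtype.ext ?_, ?_⟩
  · show LinearMap.toMatrix' (T (σ * τ)) = LinearMap.toMatrix' (T σ) * LinearMap.toMatrix' (T τ)
    rw [← LinearMap.toMatrix'_comp]
    congr 1
    refine LinearMap.ext fun v => ?_
    simp only [T, LinearMap.comp_apply, Submodule.subtype_apply]
    rw [hcong σ _ (P τ (sec v)) (sec _).2 (hP _ _ (sec v).2) (hs _)]
    rfl
  · rw [injective_iff_map_eq_one]
    intro σ hσ
    have h1 : LinearMap.toMatrix' (T σ) = 1 := congrArg Subtype.val hσ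
    rw [← LinearMap.toMatrix'_id] at h1
    have h2 : ∀ x, x ∈ evens _ → phi m (P σ x) = phi m x := by
      intro x hx
      have := LinearMap.congr_fun (LinearMap.toMatrix'.injective h1) (phi m x)
      simp only [T, LinearMap.comp_apply, Submodule.subtype_apply, LinearMap.id_apply] at this
      rw [← hcong σ _ x (sec _).2 hx (hs _)]
      exact this
    refine Equiv.ext fun i => ?_
    by_contra hne
    rw [Equiv.Perm.one_apply] at hne
    obtain ⟨j, hj⟩ : ∃ j, j ∉ ({i, σ i, σ.symm i} : Finset _) := by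
      by_contra hex
      push Not at hex
      have hsub : (Finset.univ : Finset (Fin (2 * (m + 1)))) ⊆ {i, σ i, σ.symm i} :=
        fun x _ => hex x
      have := (Finset.card_le_card hsub).trans Finset.card_le_three
      rw [Finset.card_univ, Fintype.card_fin] at this
      omega
    simp only [Finset.mem_insert, Finset.mem_singleton, not_or] at hj
    obtain ⟨l, hl⟩ : ∃ l, l ∉ ({i, j, σ i, σ j} : Finset _) := by
      by_contra hex
      push Not at hex
      have hsub : (Finset.univ : Finset (Fin (2 * (m + 1)))) ⊆ {i, j, σ i, σ j} :=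
        fun x _ => hex x
      have := (Finset.card_le_card hsub).trans Finset.card_le_four
      rw [Finset.card_univ, Fintype.card_fin] at this
      omega
    simp only [Finset.mem_insert, Finset.mem_singleton, not_or] at hl
    obtain ⟨hl1, hl2, hl3, hl4⟩ := hl
    set x : Fin (2 * (m + 1)) → ZMod 2 := Pi.single i 1 + Pi.single j 1 with hx
    have hd : phi m (P σ x - x) = 0 := by rw [map_sub, h2 x (pair_mem i j), sub_self]
    have hc := const_of_ker m (Submodule.sub_mem _ (hP _ _ (pair_mem i j)) (pair_mem i j)) hd i l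
    have e1 : σ.symm i ≠ i := fun h => hne (by conv_lhs => rw [← h, Equiv.apply_symm_apply])
    have e2 : σ.symm l ≠ i := fun h => hl3 (by rw [← h, Equiv.apply_symm_apply])
    have e3 : σ.symm l ≠ j := fun h => hl4 (by rw [← h, Equiv.apply_symm_apply])
    have e4 : σ.symm i ≠ j := fun h => hj.2.2 h.symm
    simp [P, hx, LinearMap.funLeft_apply, e1, e2, e3, e4, hl1, hl2, Ne.symm hj.1] at hc



/-- S_2n ≤ Sp_(2n−2)(2) for n ≥ 3: there is an injective homomorphism from the symmetric group on 2n letters into the symplectic group of degree 2n − 2 over the field with two elements. -/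
theorem result (n : ℕ) (hn : 3 ≤ n) : ∃ f : Equiv.Perm (Fin (2 * n)) →* Matrix.symplecticGroup (Fin (n - 1)) (ZMod 2), Function.Injective f := by
  obtain ⟨m, rfl⟩ : ∃ m, n = m + 1 := ⟨n - 1, by omega⟩
  rw [Nat.add_sub_cancel]
  exact embeds m (by omega)

end Cfsg.Agent.S0826
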