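import Cfsg.Statements.S0828
import Cfsg.Agent.Lib.Forms.IsoLines
-- import your own Cfsg.Agent.* helpers here

set_option autoImplicit false
open Cfsg

namespace Cfsg.Agent.S0828



/-- The symplectic generalised quadrangle over a field with q elements: the number of 2-dimensional subspaces of F^4 on which the symplectic form vanishes is (q + 1)(q² + 1), and every non-zero vector lies in exactly q + 1 of them. -/
theorem result {F : Type*} [Field F] [Fintype F] {q : ℕ} (hF : Fintype.card F = q) : Nat.card {W : Submodule F (Fin 2 ⊕ Fin 2 → F) // Module.finrank F W = 2 ∧ ∀ u ∈ W, ∀ v ∈ W, Cfsg.sympForm 2 F u v = 0} = (q + 1) * (q ^ 2 + 1) ∧ ∀ v : Fin 2 ⊕ Fin 2 → F, v ≠ 0 → Nat.card {W : Submodule F (Fin 2 ⊕ Fin 2 → F) // Module.finrank F W = 2 ∧ v ∈ W ∧ ∀ u ∈ W, ∀ w ∈ W, Cfsg.sympForm 2 F u w = 0} = q + 1 := by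
  have h1 := Forms.IsoLines.symp_hyp (F := F)
  have hq : 1 < q := hF ▸ Fintype.one_lt_card
  have hq1 : 1 ≤ q ^ 2 := Nat.one_le_pow _ _ (by omega)
  have hq2 : q ≤ q ^ 2 := Nat.le_self_pow (by norm_num) q
  have hq3 : q ≤ q ^ 3 := Nat.le_self_pow (by norm_num) q
  have hq4 : 1 ≤ q ^ 4 := Nat.one_le_pow _ _ (by omega)
  have hqq : 1 < q ^ 2 := Nat.one_lt_pow (by norm_num) hq
  have hlt : q < q ^ 2 := by nlinarith
  have hN : ∀ v : Fin 2 ⊕ Fin 2 → F, v ≠ 0 →
      Nat.card (Forms.IsoLines.TIv (F := F) (fun u w => Cfsg.sympForm 2 F u w = 0) v) = q + 1 := by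
    intro v hv
    have h := Forms.IsoLines.card_ext h1.1 h1.2 hv (Forms.SympStd.sympForm_self v)
    rw [Forms.IsoLines.symp_card_ext hv, hF] at h
    refine Nat.eq_of_mul_eq_mul_right (show 0 < q ^ 2 - q by omega) ?_
    rw [← h]
    zify [hq2, hq3]
    ring
  refine ⟨?_, hN⟩
  have h := Forms.IsoLines.card_total (F := F)
    (R := fun u w : Fin 2 ⊕ Fin 2 → F => Cfsg.sympForm 2 F u w = 0) (fun v hv _ => hN v hv)
  have hV : Nat.card {v : Fin 2 ⊕ Fin 2 → F // v ≠ 0 ∧ Cfsg.sympForm 2 F v v = 0} = q ^ 4 - 1 := by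
    classical
    simp only [Forms.SympStd.sympForm_self, and_true]
    rw [Nat.card_eq_fintype_card, Fintype.card_subtype_compl, Fintype.card_subtype_eq,
      Fintype.card_fun, hF]
    simp
  rw [hV, hF] at h
  refine Nat.eq_of_mul_eq_mul_right (show 0 < q ^ 2 - 1 by omega) (h.trans ?_)
  zify [hq1, hq4]
  ring

end Cfsg.Agent.S0828
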