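import Cfsg.Statements.S0829
import Cfsg.Agent.Lib.Forms.IsoLines
-- import your own Cfsg.Agent.* helpers here

set_option autoImplicit false
open Cfsg

namespace Cfsg.Agent.S0829



/-- The unitary quadrangle of PSU_4(q): with |F| = q², the number of 2-dimensional subspaces of F^4 on which the Hermitian form Σ x_i y_i^q vanishes is (q + 1)(q³ + 1). -/
theorem result {F : Type*} [Field F] [Fintype F] {q : ℕ} (hF : Fintype.card F = q ^ 2) : Nat.card {W : Submodule F (Fin 4 → F) // Module.finrank F W = 2 ∧ ∀ u ∈ W, ∀ v ∈ W, Cfsg.hermForm 4 F q u v = 0} = (q + 1) * (q ^ 3 + 1) := by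
  have h1 := Forms.IsoLines.herm_hyp hF (n := 4)
  have hq := Classical.UnitaryCount.one_lt_q hF
  have hq1 : 1 ≤ q ^ 2 := Nat.one_le_pow _ _ (by omega)
  have hq4 : 1 ≤ q ^ 4 := Nat.one_le_pow _ _ (by omega)
  have hqq : 1 < q ^ 2 := Nat.one_lt_pow (by norm_num) hq
  have hq22 : q ^ 2 ≤ (q ^ 2) ^ 2 := Nat.le_self_pow (by norm_num) _
  have hlt : q ^ 2 < (q ^ 2) ^ 2 := by nlinarith
  have hlt4 : 1 < (q ^ 2) ^ 2 := by omega
  have hN : ∀ v : Fin 4 → F, v ≠ 0 → Cfsg.hermForm 4 F q v v = 0 →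
      Nat.card (Forms.IsoLines.TIv (F := F) (fun u w => Cfsg.hermForm 4 F q u w = 0) v) = q + 1 := by
    intro v hv hvv
    have h := Forms.IsoLines.card_ext h1.1 h1.2 hv hvv
    have h2 := Forms.IsoLines.herm_card_ext hF (m := 2) hv hvv
    rw [hF] at h
    rw [h] at h2
    have hc : Classical.UnitaryCount.cnt F q 2 0 = (q ^ 2 - 1) * (q + 1) + 1 := by
      rw [Classical.UnitaryCount.cnt_zero_eq hF]
      norm_num [show Even 2 from even_two, show ¬ Even 3 by decide]
    rw [hc] at h2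
    refine Nat.eq_of_mul_eq_mul_right (show 0 < (q ^ 2) ^ 2 - q ^ 2 by omega) ?_
    zify [hq22, hq1] at h2 ⊢
    linear_combination h2
  have h := Forms.IsoLines.card_total (F := F)
    (R := fun u w : Fin 4 → F => Cfsg.hermForm 4 F q u w = 0) hN
  have hV : Nat.card {v : Fin 4 → F // v ≠ 0 ∧ Cfsg.hermForm 4 F q v v = 0} = (q ^ 4 - 1) * (q ^ 3 + 1) := by
    have h2 := Forms.IsoLines.herm_card_isotropic hF (n := 4)
    rw [Classical.UnitaryCount.cnt_zero_eq hF] at h2
    norm_num [show Even 4 by decide, show ¬ Even 5 by decide] at h2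
    exact h2
  rw [hV, hF] at h
  refine Nat.eq_of_mul_eq_mul_right (show 0 < (q ^ 2) ^ 2 - 1 by omega) (h.trans ?_)
  have e : (q ^ 2) ^ 2 = q ^ 4 := by ring
  rw [e]
  ring

end Cfsg.Agent.S0829
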