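import Cfsg.Statements.S0831
import Cfsg.Agent.Lib.Forms.Reflections
import Cfsg.Agent.Lib.Forms.PlusStd
-- import your own Cfsg.Agent.* helpers here

set_option autoImplicit false
open Cfsg

namespace Cfsg.Agent.S0831

open Cfsg.Agent.Forms.Reflections Cfsg.Agent.Forms.PlusStd

section

variable {F : Type*} [Field F] {m : ℕ}

/-- totally singular of dimension `m` -/
def Max (U : Submodule F (Fin m ⊕ Fin m → F)) : Prop :=
  Module.finrank F U = m ∧ ∀ w ∈ U, plusQ F m w = 0

theorem polar_zero {U : Submodule F (Fin m ⊕ Fin m → F)} (hU : ∀ w ∈ U, plusQ F m w = 0)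
    {u v : Fin m ⊕ Fin m → F} (hu : u ∈ U) (hv : v ∈ U) : QuadraticMap.polar (plusQ F m) u v = 0 := by
  simp [QuadraticMap.polar, hU _ (U.add_mem hu hv), hU _ hu, hU _ hv]

theorem orth_finrank (U : Submodule F (Fin m ⊕ Fin m → F)) :
    Module.finrank F ↥((polB (plusQ F m)).orthogonal U) = 2 * m - Module.finrank F U := by
  rw [finrank_orth (plusQ_nondeg F m)]
  simp [two_mul]

theorem finrank_le {U : Submodule F (Fin m ⊕ Fin m → F)} (hU : ∀ w ∈ U, plusQ F m w = 0) :
    Module.finrank F U ≤ m := by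
  have hle : U ≤ (polB (plusQ F m)).orthogonal U := fun v hv =>
    mem_orth.2 fun w hw => polar_zero hU hw hv
  have h := Submodule.finrank_mono hle
  rw [orth_finrank] at h
  omega

theorem orth_eq {U : Submodule F (Fin m ⊕ Fin m → F)} (hU : Max U) :
    (polB (plusQ F m)).orthogonal U = U := by
  refine (Submodule.eq_of_le_of_finrank_eq (fun v hv => mem_orth.2 fun w hw =>
    polar_zero hU.2 hw hv) ?_).symm
  rw [orth_finrank, hU.1]; omega

theorem sing_sup {H : Submodule F (Fin m ⊕ Fin m → F)} (hH : ∀ w ∈ H, plusQ F m w = 0)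
    {x : Fin m ⊕ Fin m → F} (hx : plusQ F m x = 0)
    (ho : x ∈ (polB (plusQ F m)).orthogonal H) :
    ∀ w ∈ H ⊔ Submodule.span F {x}, plusQ F m w = 0 := by
  intro w hw
  obtain ⟨h, hh, y, hy, rfl⟩ := Submodule.mem_sup.1 hw
  obtain ⟨c, rfl⟩ := Submodule.mem_span_singleton.1 hy
  rw [QuadraticMap.map_add (plusQ F m), hH h hh, QuadraticMap.map_smul, hx,
    QuadraticMap.polar_smul_right, mem_orth.1 ho h hh]
  simp

theorem finrank_sup_single {H : Submodule F (Fin m ⊕ Fin m → F)} {x : Fin m ⊕ Fin m → F}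
    (hx : x ∉ H) : Module.finrank F ↥(H ⊔ Submodule.span F {x}) = Module.finrank F H + 1 :=
  Submodule.finrank_sup_span_singleton hx

theorem inter_orth {H X : Submodule F (Fin m ⊕ Fin m → F)} (hX : Max X)
    (hH : Module.finrank F H + 1 = m) :
    Module.finrank F ↥(X ⊓ (polB (plusQ F m)).orthogonal H) = Module.finrank F ↥(X ⊓ H) + 1 := by
  have he : X ⊓ (polB (plusQ F m)).orthogonal H = (polB (plusQ F m)).orthogonal (X ⊔ H) := by
    conv_lhs => rw [← orth_eq hX]
    ext v
    simp only [Submodule.mem_inf, mem_orth]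
    constructor
    · rintro ⟨h1, h2⟩ w hw
      obtain ⟨a, ha, b, hb, rfl⟩ := Submodule.mem_sup.1 hw
      rw [QuadraticMap.polar_add_left, h1 a ha, h2 b hb, add_zero]
    · intro h
      exact ⟨fun w hw => h w (Submodule.mem_sup_left hw), fun w hw => h w (Submodule.mem_sup_right hw)⟩
  rw [he, orth_finrank]
  have := Submodule.finrank_sup_add_finrank_inf_eq X H
  have h2 := Submodule.finrank_mono (inf_le_right : X ⊓ H ≤ H)
  rw [hX.1] at this
  omega

/-- the crucial case: adjacent maximal subspaces have opposite parity -/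
theorem adjacent {U W X : Submodule F (Fin m ⊕ Fin m → F)} (hU : Max U) (hW : Max W) (hX : Max X)
    (h : Module.finrank F ↥(U ⊓ W) + 1 = m) :
    Module.finrank F ↥(U ⊓ X) = Module.finrank F ↥(W ⊓ X) + 1 ∨
      Module.finrank F ↥(W ⊓ X) = Module.finrank F ↥(U ⊓ X) + 1 := by
  set H := U ⊓ W with hHdef
  have hHU : H ≤ U := inf_le_left
  have hHW : H ≤ W := inf_le_right
  have hHs : ∀ w ∈ H, plusQ F m w = 0 := fun w hw => hU.2 w (hHU hw)
  have hlt : Module.finrank F ↥(X ⊓ H) < Module.finrank F ↥(X ⊓ (polB (plusQ F m)).orthogonal H) := by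
    rw [inter_orth hX h]; omega
  obtain ⟨x, hx, hxH⟩ := SetLike.not_le_iff_exists.1
    (fun hle : X ⊓ (polB (plusQ F m)).orthogonal H ≤ X ⊓ H =>
      absurd (Submodule.finrank_mono hle) (not_le.2 hlt))
  obtain ⟨hxX, hxo⟩ := Submodule.mem_inf.1 hx
  have hxH' : x ∉ H := fun hh => hxH (Submodule.mem_inf.2 ⟨hxX, hh⟩)
  -- `x` lies in `U` or in `W`
  obtain ⟨u, hu, huH⟩ := SetLike.not_le_iff_exists.1
    (fun hle : U ≤ H => by have := Submodule.finrank_mono hle; rw [hU.1] at this; omega)
  obtain ⟨w, hw, hwH⟩ := SetLike.not_le_iff_exists.1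
    (fun hle : W ≤ H => by have := Submodule.finrank_mono hle; rw [hW.1] at this; omega)
  have hUe : H ⊔ Submodule.span F {u} = U := Submodule.eq_of_le_of_finrank_eq
    (sup_le hHU (by simpa using hu)) (by rw [finrank_sup_single huH, hU.1, h])
  have hWe : H ⊔ Submodule.span F {w} = W := Submodule.eq_of_le_of_finrank_eq
    (sup_le hHW (by simpa using hw)) (by rw [finrank_sup_single hwH, hW.1, h])
  have huo : u ∈ (polB (plusQ F m)).orthogonal H :=
    mem_orth.2 fun a ha => polar_zero hU.2 (hHU ha) hu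
  have hwo : w ∈ (polB (plusQ F m)).orthogonal H :=
    mem_orth.2 fun a ha => polar_zero hW.2 (hHW ha) hw
  have hwU : w ∉ U := fun hh => hwH (Submodule.mem_inf.2 ⟨hh, hw⟩)
  have huw : QuadraticMap.polar (plusQ F m) u w ≠ 0 := by
    intro h0
    have ho : w ∈ (polB (plusQ F m)).orthogonal U := by
      refine mem_orth.2 fun a ha => ?_
      rw [← hUe] at ha
      obtain ⟨a, haH, b, hb, rfl⟩ := Submodule.mem_sup.1 ha
      obtain ⟨c, rfl⟩ := Submodule.mem_span_singleton.1 hb
      rw [QuadraticMap.polar_add_left, QuadraticMap.polar_smul_left, h0,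
        mem_orth.1 hwo a haH]
      simp
    rw [orth_eq hU] at ho
    exact hwU ho
  have horth : (polB (plusQ F m)).orthogonal H = U ⊔ W := by
    refine (Submodule.eq_of_le_of_finrank_eq ?_ ?_).symm
    · refine sup_le (fun a ha => ?_) (fun a ha => ?_)
      · exact mem_orth.2 fun b hb => polar_zero hU.2 (hHU hb) ha
      · exact mem_orth.2 fun b hb => polar_zero hW.2 (hHW hb) ha
    · have := Submodule.finrank_sup_add_finrank_inf_eq U W
      rw [hU.1, hW.1] at this
      rw [orth_finrank]
      rw [← hHdef] at this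
      omega
  have hxUW : x ∈ U ∨ x ∈ W := by
    rw [horth, ← hUe, ← hWe] at hxo
    obtain ⟨p, hp, r, hr, rfl⟩ := Submodule.mem_sup.1 hxo
    obtain ⟨h1, hh1, p', hp', rfl⟩ := Submodule.mem_sup.1 hp
    obtain ⟨h2, hh2, r', hr', rfl⟩ := Submodule.mem_sup.1 hr
    obtain ⟨a, rfl⟩ := Submodule.mem_span_singleton.1 hp'
    obtain ⟨b, rfl⟩ := Submodule.mem_span_singleton.1 hr'
    have h0 := hX.2 _ hxX
    rw [QuadraticMap.map_add (plusQ F m), hU.2 _ (U.add_mem (hHU hh1) (U.smul_mem a hu)),
      hW.2 _ (W.add_mem (hHW hh2) (W.smul_mem b hw)), QuadraticMap.polar_add_left,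
      QuadraticMap.polar_add_right, QuadraticMap.polar_add_right, polar_zero hHs hh1 hh2,
      QuadraticMap.polar_smul_right, mem_orth.1 hwo h1 hh1,
      QuadraticMap.polar_smul_left, QuadraticMap.polar_comm _ u h2, mem_orth.1 huo h2 hh2,
      QuadraticMap.polar_smul_left, QuadraticMap.polar_smul_right] at h0
    simp [huw] at h0
    rcases h0 with ha | hb
    · subst ha
      right
      simpa [zero_smul] using W.add_mem (hHW hh1) (W.add_mem (hHW hh2) (W.smul_mem b hw))
    · subst hb
      left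
      simpa [zero_smul] using U.add_mem (U.add_mem (hHU hh1) (U.smul_mem a hu)) (hHU hh2)
  have upper : ∀ (A : Submodule F (Fin m ⊕ Fin m → F)), H ≤ A → Module.finrank F A = m →
      Module.finrank F ↥(A ⊓ X) ≤ Module.finrank F ↥(X ⊓ H) + 1 := by
    intro A hA hAr
    have h1 := Submodule.finrank_sup_add_finrank_inf_eq (A ⊓ X) H
    have h2 := Submodule.finrank_mono (sup_le inf_le_left hA : (A ⊓ X) ⊔ H ≤ A)
    have h3 : (A ⊓ X) ⊓ H = X ⊓ H := by
      rw [inf_assoc]
      exact inf_eq_right.2 (inf_le_right.trans hA)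
    rw [h3] at h1
    omega
  have lower : ∀ (A : Submodule F (Fin m ⊕ Fin m → F)), H ≤ A → x ∈ A →
      Module.finrank F ↥(X ⊓ H) + 1 ≤ Module.finrank F ↥(A ⊓ X) := by
    intro A hA hxA
    rw [← finrank_sup_single (H := X ⊓ H) (x := x) hxH]
    refine Submodule.finrank_mono (sup_le (le_inf (inf_le_right.trans hA) inf_le_left) ?_)
    simpa using Submodule.mem_inf.2 ⟨hxA, hxX⟩
  have same : ∀ (A B : Submodule F (Fin m ⊕ Fin m → F)), A ⊓ B = H → Max A → Max B → x ∈ A →
      Module.finrank F ↥(B ⊓ X) = Module.finrank F ↥(X ⊓ H) := by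
    intro A B hAB hA hB hxA
    skip
    suffices B ⊓ X = X ⊓ H by rw [this]
    refine le_antisymm (fun z hz => ?_) (le_inf (inf_le_right.trans (hAB ▸ inf_le_right)) inf_le_left)
    obtain ⟨hzB, hzX⟩ := Submodule.mem_inf.1 hz
    refine Submodule.mem_inf.2 ⟨hzX, ?_⟩
    by_contra hzH
    have hHB : H ≤ B := hAB ▸ inf_le_right
    have hHA : H ≤ A := hAB ▸ inf_le_left
    have hAe : H ⊔ Submodule.span F {x} = A := Submodule.eq_of_le_of_finrank_eq
      (sup_le hHA (by simpa using hxA)) (by rw [finrank_sup_single hxH', hA.1, h])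
    have ho : z ∈ (polB (plusQ F m)).orthogonal A := by
      refine mem_orth.2 fun a ha => ?_
      rw [← hAe] at ha
      obtain ⟨a, haH, b, hb, rfl⟩ := Submodule.mem_sup.1 ha
      obtain ⟨c, rfl⟩ := Submodule.mem_span_singleton.1 hb
      rw [QuadraticMap.polar_add_left, QuadraticMap.polar_smul_left,
        polar_zero hB.2 (hHB haH) hzB, polar_zero hX.2 hxX hzX]
      simp
    rw [orth_eq hA] at ho
    exact hzH (hAB ▸ Submodule.mem_inf.2 ⟨ho, hzB⟩)
  rcases hxUW with hh | hh
  · left
    have h1 := upper U hHU hU.1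
    have h2 := lower U hHU hh
    have h3 := same U W hHdef.symm hU hW hh
    omega
  · right
    have h1 := upper W hHW hW.1
    have h2 := lower W hHW hh
    have h3 := same W U (by rw [inf_comm]) hW hU hh
    omega

theorem parity : ∀ (d : ℕ) (U W X : Submodule F (Fin m ⊕ Fin m → F)), Max U → Max W → Max X →
    m - Module.finrank F ↥(U ⊓ W) = d →
    Even (d + (m - Module.finrank F ↥(W ⊓ X)) + (m - Module.finrank F ↥(U ⊓ X))) := by
  intro d
  induction d with
  | zero =>
    intro U W X hU hW hX hd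
    have h1 := Submodule.finrank_mono (inf_le_left : U ⊓ W ≤ U)
    rw [hU.1] at h1
    have he1 : U ⊓ W = U := Submodule.eq_of_le_of_finrank_eq inf_le_left (by rw [hU.1]; omega)
    have he2 : U ⊓ W = W := Submodule.eq_of_le_of_finrank_eq inf_le_right (by rw [hW.1]; omega)
    have : U = W := he1.symm.trans he2
    rw [this]
    exact ⟨m - Module.finrank F ↥(W ⊓ X), by omega⟩
  | succ d ih =>
    intro U W X hU hW hX hd
    -- a hyperplane of `U` containing `U ⊓ W`
    obtain ⟨H, hIH, hHU, hH⟩ : ∃ H, U ⊓ W ≤ H ∧ H ≤ U ∧ Module.finrank F H + 1 = m := by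
      suffices h : ∀ k, k ≤ d → ∃ H, U ⊓ W ≤ H ∧ H ≤ U ∧
          Module.finrank F H = Module.finrank F ↥(U ⊓ W) + k by
        obtain ⟨H, h1, h2, h3⟩ := h d le_rfl
        exact ⟨H, h1, h2, by omega⟩
      intro k hk
      induction k with
      | zero => exact ⟨U ⊓ W, le_rfl, inf_le_left, rfl⟩
      | succ k ihk =>
        obtain ⟨H, h1, h2, h3⟩ := ihk (by omega)
        obtain ⟨u, hu, huH⟩ := SetLike.not_le_iff_exists.1
          (fun hle : U ≤ H => by have := Submodule.finrank_mono hle; rw [hU.1] at this; omega)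
        exact ⟨H ⊔ Submodule.span F {u}, h1.trans le_sup_left, sup_le h2 (by simpa using hu),
          by rw [finrank_sup_single huH, h3]; omega⟩
    have hHs : ∀ w ∈ H, plusQ F m w = 0 := fun w hw => hU.2 w (hHU hw)
    obtain ⟨w, hw, hwH⟩ := SetLike.not_le_iff_exists.1
      (fun hle : W ⊓ (polB (plusQ F m)).orthogonal H ≤ W ⊓ H => by
        have := Submodule.finrank_mono hle
        rw [inter_orth hW hH] at this; omega)
    obtain ⟨hwW, hwo⟩ := Submodule.mem_inf.1 hw
    have hwH' : w ∉ H := fun hh => hwH (Submodule.mem_inf.2 ⟨hwW, hh⟩)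
    have hwU : w ∉ U := fun hh => hwH' (hIH (Submodule.mem_inf.2 ⟨hh, hwW⟩))
    set U' := H ⊔ Submodule.span F {w} with hU'def
    have hwU' : w ∈ U' := Submodule.mem_sup_right (Submodule.mem_span_singleton_self w)
    have hU' : Max U' := ⟨by rw [finrank_sup_single hwH', hH], sing_sup hHs (hW.2 w hwW) hwo⟩
    have hUU' : U ⊓ U' = H := by
      refine le_antisymm (fun z hz => ?_) (le_inf hHU le_sup_left)
      obtain ⟨hzU, hzU'⟩ := Submodule.mem_inf.1 hz
      obtain ⟨h1, hh1, b, hb, rfl⟩ := Submodule.mem_sup.1 hzU'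
      obtain ⟨c, rfl⟩ := Submodule.mem_span_singleton.1 hb
      rcases eq_or_ne c 0 with rfl | hc
      · simpa using hh1
      · refine absurd ?_ hwU
        have := U.sub_mem hzU (hHU hh1)
        rw [add_sub_cancel_left] at this
        exact (U.smul_mem_iff hc).1 this
    have hint : Module.finrank F ↥(U' ⊓ W) = Module.finrank F ↥(U ⊓ W) + 1 := by
      have hle : (U ⊓ W) ⊔ Submodule.span F {w} ≤ U' ⊓ W :=
        sup_le (le_inf (hIH.trans le_sup_left) inf_le_right)
          (by simpa using Submodule.mem_inf.2 ⟨hwU', hwW⟩)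
      have h1 := Submodule.finrank_mono hle
      rw [finrank_sup_single (fun hh => hwU (inf_le_left (b := W) hh))] at h1
      have h2 := Submodule.finrank_sup_add_finrank_inf_eq (U' ⊓ W) H
      have h3 := Submodule.finrank_mono (sup_le inf_le_left le_sup_left : (U' ⊓ W) ⊔ H ≤ U')
      have h4 : (U' ⊓ W) ⊓ H = U ⊓ W := by
        refine le_antisymm ?_ (le_inf (le_inf (hIH.trans le_sup_left) inf_le_right) hIH)
        exact le_inf (inf_le_right.trans hHU) (inf_le_left.trans inf_le_right)
      rw [h4] at h2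
      rw [hU'.1] at h3
      omega
    have h1 := ih U' W X hU' hW hX (by omega)
    have h2 := adjacent hU hU' hX (by rw [hUU', hH])
    have h3 := Submodule.finrank_mono (inf_le_left : U ⊓ X ≤ U)
    have h4 := Submodule.finrank_mono (inf_le_left : U' ⊓ X ≤ U')
    rw [hU.1] at h3
    rw [hU'.1] at h4
    rw [Nat.even_iff] at h1 ⊢
    omega

/-- vectors supported on a set of coordinates -/
def supp (F : Type*) [Field F] (S : Finset (Fin m ⊕ Fin m)) : Submodule F (Fin m ⊕ Fin m → F) where
  carrier := {v | ∀ z ∉ S, v z = 0}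
  add_mem' := fun {a b} ha hb z hz => by simp [ha z hz, hb z hz]
  zero_mem' := fun _ _ => rfl
  smul_mem' := fun c {a} ha z hz => by simp [ha z hz]

theorem finrank_supp (S : Finset (Fin m ⊕ Fin m)) : Module.finrank F (supp F S) = S.card := by
  let e : supp F S ≃ₗ[F] (S → F) :=
    { toFun := fun v z => v.1 z
      map_add' := fun _ _ => rfl
      map_smul' := fun _ _ => rfl
      invFun := fun f => ⟨fun z => if h : z ∈ S then f ⟨z, h⟩ else 0, fun z hz => by simp [hz]⟩
      left_inv := fun v => Subtype.ext (funext fun z => by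
        by_cases h : z ∈ S
        · simp [h]
        · simp [h, v.2 z h])
      right_inv := fun f => funext fun z => by simp }
  rw [e.finrank_eq]
  simp

end



/-- The two families of maximal totally singular subspaces of the hyperbolic quadric: for the form Σ x_i y_i on F^(2m), m ≥ 1, and m-dimensional subspaces U, W, X on which it vanishes, the parities of m − dim(U ∩ W), m − dim(W ∩ X) and m − dim(U ∩ X) sum to an even number (so 'even codimension of the intersection' is an equivalence relation), and there exist two such subspaces meeting in codimension 1 (so there are exactly two classes). -/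
theorem result {F : Type*} [Field F] (m : ℕ) (hm : 1 ≤ m) : (∀ U W X : Submodule F (Fin m ⊕ Fin m → F), (Module.finrank F U = m ∧ ∀ w ∈ U, Cfsg.quadFormPlus m F w = 0) → (Module.finrank F W = m ∧ ∀ w ∈ W, Cfsg.quadFormPlus m F w = 0) → (Module.finrank F X = m ∧ ∀ w ∈ X, Cfsg.quadFormPlus m F w = 0) → Even ((m - Module.finrank F ↥(U ⊓ W)) + (m - Module.finrank F ↥(W ⊓ X)) + (m - Module.finrank F ↥(U ⊓ X)))) ∧ ∃ U W : Submodule F (Fin m ⊕ Fin m → F), (Module.finrank F U = m ∧ ∀ w ∈ U, Cfsg.quadFormPlus m F w = 0) ∧ (Module.finrank F W = m ∧ ∀ w ∈ W, Cfsg.quadFormPlus m F w = 0) ∧ Module.finrank F ↥(U ⊓ W) + 1 = m := by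
  simp only [← plusQ_apply]
  refine ⟨fun U W X hU hW hX => parity _ U W X hU hW hX rfl, ?_⟩
  classical
  let i₀ : Fin m := ⟨0, hm⟩
  let S : Finset (Fin m ⊕ Fin m) := Finset.univ.image Sum.inl
  let T : Finset (Fin m ⊕ Fin m) :=
    Finset.univ.image fun i => if i = i₀ then Sum.inr i else Sum.inl i
  have hTinj : Function.Injective fun i : Fin m => if i = i₀ then (Sum.inr i : Fin m ⊕ Fin m) else Sum.inl i := by
    intro a b h
    dsimp only at h
    split_ifs at h <;> simp_all
  refine ⟨supp F S, supp F T, ⟨?_, ?_⟩, ⟨?_, ?_⟩, ?_⟩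
  · rw [finrank_supp, Finset.card_image_of_injective _ Sum.inl_injective]; simp
  · intro w hw
    rw [plusQ_apply]
    refine Finset.sum_eq_zero fun i _ => ?_
    rw [hw (Sum.inr i) (by simp [S]), mul_zero]
  · rw [finrank_supp, Finset.card_image_of_injective _ hTinj]; simp
  · intro w hw
    rw [plusQ_apply]
    refine Finset.sum_eq_zero fun i _ => ?_
    by_cases hi : i = i₀
    · rw [hw (Sum.inl i) ?_, zero_mul]
      intro h
      obtain ⟨a, -, ha⟩ := Finset.mem_image.1 h
      split_ifs at ha with h'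
      exact h' ((Sum.inl_injective ha).trans hi)
    · rw [hw (Sum.inr i) ?_, mul_zero]
      intro h
      obtain ⟨a, -, ha⟩ := Finset.mem_image.1 h
      split_ifs at ha with h'
      exact hi ((Sum.inr_injective ha) ▸ h')
  · have he : supp F S ⊓ supp F T = supp F (S.erase (Sum.inl i₀)) := by
      ext v
      simp only [Submodule.mem_inf]
      constructor
      · rintro ⟨h1, h2⟩ z hz
        by_cases hzS : z ∈ S
        · have : z = Sum.inl i₀ := by
            by_contra hne; exact hz (Finset.mem_erase.2 ⟨hne, hzS⟩)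
          subst this
          refine h2 _ fun h => ?_
          obtain ⟨a, -, ha⟩ := Finset.mem_image.1 h
          split_ifs at ha with h'
          exact h' (Sum.inl_injective ha)
        · exact h1 z hzS
      · intro h
        refine ⟨fun z hz => h z fun hh => hz (Finset.mem_of_mem_erase hh), fun z hz => h z fun hh => hz ?_⟩
        obtain ⟨hne, hh⟩ := Finset.mem_erase.1 hh
        obtain ⟨a, -, rfl⟩ := Finset.mem_image.1 hh
        refine Finset.mem_image.2 ⟨a, Finset.mem_univ _, if_neg fun e => hne (by rw [e])⟩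
    rw [he, finrank_supp, Finset.card_erase_of_mem (by simp [S]),
      Finset.card_image_of_injective _ Sum.inl_injective, Finset.card_univ, Fintype.card_fin]
    omega

end Cfsg.Agent.S0831
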