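import Cfsg.Statements.S0832
import Cfsg.Agent.Lib.Forms.Witt
import Cfsg.Agent.Lib.Forms.PlusStd

set_option autoImplicit false
open Cfsg Cfsg.Agent.Forms.PlusStd

namespace Cfsg.Agent.S0832

/-- For the form Σ x_i y_i on F^(2m) over a finite field, m ≥ 1: an (m−1)-dimensional subspace on which the form vanishes is contained in exactly two m-dimensional subspaces on which it vanishes. -/
theorem result {F : Type*} [Field F] [Finite F] (m : ℕ) (hm : 1 ≤ m) (U : Submodule F (Fin m ⊕ Fin m → F)) (hU : Module.finrank F U + 1 = m ∧ ∀ u ∈ U, Cfsg.quadFormPlus m F u = 0) : Nat.card {W : Submodule F (Fin m ⊕ Fin m → F) // Module.finrank F W = m ∧ (∀ w ∈ W, Cfsg.quadFormPlus m F w = 0) ∧ U ≤ W} = 2 := by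
  obtain ⟨hUd, hUs⟩ := hU
  obtain ⟨k, rfl⟩ : ∃ k, m = k + 1 := ⟨m - 1, by omega⟩
  let U₀ : Submodule F (Fin (k + 1) ⊕ Fin (k + 1) → F) :=
    Submodule.span F (Set.range fun i : Fin k => Pi.single (Sum.inl i.castSucc) 1)
  have hU₀li : LinearIndependent F (fun i : Fin k =>
      (Pi.single (Sum.inl i.castSucc) 1 : Fin (k + 1) ⊕ Fin (k + 1) → F)) := by
    have h := (Pi.basisFun F (Fin (k + 1) ⊕ Fin (k + 1))).linearIndependent.comp
      (fun i : Fin k => (Sum.inl i.castSucc : Fin (k + 1) ⊕ Fin (k + 1)))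
      (Sum.inl_injective.comp (Fin.castSucc_injective k))
    simpa [Function.comp_def] using h
  have hU₀d : Module.finrank F U₀ = Module.finrank F U := by
    rw [finrank_span_eq_card hU₀li, Fintype.card_fin]; omega
  have hU₀mem : ∀ x : Fin (k + 1) ⊕ Fin (k + 1) → F, x ∈ U₀ ↔
      (∀ i, x (Sum.inr i) = 0) ∧ x (Sum.inl (Fin.last k)) = 0 := by
    intro x
    constructor
    · intro hx
      induction hx using Submodule.span_induction with
      | mem y hy => obtain ⟨i, rfl⟩ := hy; simp [Fin.castSucc_ne_last, Pi.single_apply, eq_comm]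
      | zero => simp
      | add a b _ _ ha hb => exact ⟨fun i => by simp [ha.1 i, hb.1 i], by simp [ha.2, hb.2]⟩
      | smul c a _ ha => exact ⟨fun i => by simp [ha.1 i], by simp [ha.2]⟩
    · rintro ⟨h1, h2⟩
      have : x = ∑ i : Fin k, x (Sum.inl i.castSucc) •
          (Pi.single (Sum.inl i.castSucc) 1 : Fin (k + 1) ⊕ Fin (k + 1) → F) := by
        funext z
        rcases z with z | z
        · refine Fin.lastCases ?_ (fun j => ?_) z
          · simp [h2, Fin.castSucc_ne_last, Pi.single_apply, eq_comm]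
          · simp [Pi.single_apply]
        · simp [h1 z]
      rw [this]
      exact U₀.sum_mem fun i _ => U₀.smul_mem _ (Submodule.subset_span ⟨i, rfl⟩)
  obtain ⟨e⟩ : Nonempty (↥U₀ ≃ₗ[F] ↥U) := ⟨LinearEquiv.ofFinrankEq _ _ hU₀d⟩
  obtain ⟨g, hg, hgx⟩ := Cfsg.Agent.Forms.Witt.witt_quad (plusQ F (k + 1)) (plusQ_nondeg F (k + 1))
    U₀ (U.subtype ∘ₗ e.toLinearMap) (Subtype.val_injective.comp e.injective) fun x => by
      rw [plusQ_apply, plusQ_apply]
      refine (hUs _ (e x).2).trans ?_
      simp [Cfsg.quadFormPlus, ((hU₀mem _).1 x.2).1]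
  simp only [plusQ_apply] at hg
  have hgU : U₀.map g.toLinearMap = U := by
    refine Submodule.eq_of_le_of_finrank_eq ?_ (by rw [LinearEquiv.finrank_map_eq, hU₀d])
    rintro _ ⟨x, hx, rfl⟩
    exact (hgx ⟨x, hx⟩).symm ▸ (e ⟨x, hx⟩).2
  let E : Fin (k + 1) ⊕ Fin (k + 1) → F := Pi.single (Sum.inl (Fin.last k)) 1
  let G : Fin (k + 1) ⊕ Fin (k + 1) → F := Pi.single (Sum.inr (Fin.last k)) 1
  let W₀ := fun z : Fin (k + 1) ⊕ Fin (k + 1) → F => U₀ ⊔ Submodule.span F {z}
  have hE : E ∉ U₀ := fun h => one_ne_zero (α := F) (by simpa [E] using ((hU₀mem _).1 h).2)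
  have hG : G ∉ U₀ := fun h => one_ne_zero (α := F) (by simpa [G] using ((hU₀mem _).1 h).1 (Fin.last k))
  have hWd : ∀ z, z ∉ U₀ → Module.finrank F (W₀ z) = k + 1 := fun z hz => by
    have h0 : z ≠ 0 := fun h => hz (h ▸ U₀.zero_mem)
    have := Submodule.finrank_sup_add_finrank_inf_eq U₀ (Submodule.span F {z})
    rw [disjoint_iff.1 ((Submodule.disjoint_span_singleton' h0).2 hz), finrank_bot,
      finrank_span_singleton h0, hU₀d] at this
    show Module.finrank F ↥(U₀ ⊔ Submodule.span F {z}) = k + 1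
    omega
  have hsing : ∀ z, (z = E ∨ z = G) → ∀ w ∈ W₀ z, Cfsg.quadFormPlus (k + 1) F w = 0 := by
    intro z hz w hw
    obtain ⟨a, ha, b, hb, rfl⟩ := Submodule.mem_sup.1 hw
    obtain ⟨c, rfl⟩ := Submodule.mem_span_singleton.1 hb
    obtain ⟨ha1, ha2⟩ := (hU₀mem a).1 ha
    refine Finset.sum_eq_zero fun i _ => ?_
    rcases hz with rfl | rfl
    · simp [E, ha1]
    · by_cases hi : i = Fin.last k
      · subst hi; simp [G, ha2]
      · simp [G, ha1, Ne.symm hi, Pi.single_apply, hi]
  have key : ∀ W : Submodule F (Fin (k + 1) ⊕ Fin (k + 1) → F),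
      (Module.finrank F W = k + 1 ∧ (∀ w ∈ W, Cfsg.quadFormPlus (k + 1) F w = 0) ∧ U ≤ W) ↔
      (W = (W₀ E).map g.toLinearMap ∨ W = (W₀ G).map g.toLinearMap) := by
    intro W
    constructor
    · rintro ⟨hd, hs, hle⟩
      set W' := W.comap g.toLinearMap with hW'
      have hUW : U₀ ≤ W' := fun x hx => hle (hgU ▸ Submodule.mem_map_of_mem hx)
      have hs' : ∀ w ∈ W', Cfsg.quadFormPlus (k + 1) F w = 0 := fun w hw => by
        rw [← hg w]; exact hs _ hw
      have hcoord : ∀ w ∈ W', ∀ i : Fin k, w (Sum.inr i.castSucc) = 0 := fun w hw i => by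
        have h1 := hs' w hw
        have h2 := hs' (w + Pi.single (Sum.inl i.castSucc) 1)
          (W'.add_mem hw (hUW (Submodule.subset_span ⟨i, rfl⟩)))
        simp only [Cfsg.quadFormPlus, Pi.add_apply, add_mul, Finset.sum_add_distrib] at h1 h2
        simpa [h1, Pi.single_apply] using h2
      have hor : ∀ w ∈ W', w ∈ W₀ E ∨ w ∈ W₀ G := fun w hw => by
        have h1 := hs' w hw
        rw [Cfsg.quadFormPlus, Fin.sum_univ_castSucc] at h1
        simp [hcoord w hw] at h1
        rcases h1 with h1 | h1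
        · refine Or.inr (Submodule.mem_sup.2 ⟨w - w (Sum.inr (Fin.last k)) • G, (hU₀mem _).2
            ⟨fun i => ?_, by simp [G, h1]⟩, _,
            Submodule.smul_mem _ _ (Submodule.mem_span_singleton_self G), sub_add_cancel _ _⟩)
          refine Fin.lastCases ?_ (fun j => ?_) i
          · simp [G]
          · simp [G, hcoord w hw j, Pi.single_apply, Fin.castSucc_ne_last]
        · refine Or.inl (Submodule.mem_sup.2 ⟨w - w (Sum.inl (Fin.last k)) • E, (hU₀mem _).2
            ⟨fun i => ?_, by simp [E]⟩, _,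
            Submodule.smul_mem _ _ (Submodule.mem_span_singleton_self E), sub_add_cancel _ _⟩)
          refine Fin.lastCases ?_ (fun j => ?_) i
          · simp [E, h1]
          · simp [E, hcoord w hw j]
      have hd' : Module.finrank F W' = k + 1 := by
        refine Eq.trans ?_ hd
        rw [← LinearEquiv.finrank_map_eq g W', hW',
          Submodule.map_comap_eq_of_surjective g.surjective]
      have hWW : W = W'.map g.toLinearMap := (Submodule.map_comap_eq_of_surjective g.surjective W).symm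
      have : W' ≤ W₀ E ∨ W' ≤ W₀ G := by
        by_contra hcon
        push Not at hcon
        obtain ⟨⟨a, ha, ha'⟩, ⟨b, hb, hb'⟩⟩ := hcon.imp SetLike.not_le_iff_exists.1 SetLike.not_le_iff_exists.1
        have ha2 := (hor a ha).resolve_left ha'
        have hb2 := (hor b hb).resolve_right hb'
        rcases hor _ (W'.add_mem ha hb) with h | h
        · exact ha' (((W₀ E).add_mem_iff_left hb2).1 h)
        · exact hb' (((W₀ G).add_mem_iff_right ha2).1 h)
      rcases this with h | h
      · exact Or.inl (by rw [hWW, Submodule.eq_of_le_of_finrank_eq h (by rw [hd', hWd E hE])])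
      · exact Or.inr (by rw [hWW, Submodule.eq_of_le_of_finrank_eq h (by rw [hd', hWd G hG])])
    · intro h
      obtain ⟨z, hz, hzn, rfl⟩ : ∃ z, (z = E ∨ z = G) ∧ z ∉ U₀ ∧
          W = (W₀ z).map g.toLinearMap := by
        rcases h with rfl | rfl
        exacts [⟨E, Or.inl rfl, hE, rfl⟩, ⟨G, Or.inr rfl, hG, rfl⟩]
      refine ⟨by rw [LinearEquiv.finrank_map_eq, hWd z hzn], ?_, ?_⟩
      · rintro _ ⟨w, hw, rfl⟩
        exact (hg w).trans (hsing z hz w hw)
      · rw [← hgU]; exact Submodule.map_mono le_sup_left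
  have hne : (W₀ E).map g.toLinearMap ≠ (W₀ G).map g.toLinearMap := fun h => by
    have h2 := Submodule.map_injective_of_injective g.injective h
    have hGE : G ∈ W₀ E := h2 ▸ Submodule.mem_sup_right (Submodule.mem_span_singleton_self G)
    obtain ⟨a, ha, b, hb, hab⟩ := Submodule.mem_sup.1 hGE
    obtain ⟨c, rfl⟩ := Submodule.mem_span_singleton.1 hb
    have := congrFun hab (Sum.inr (Fin.last k))
    simp [E, G, ((hU₀mem a).1 ha).1] at this
  rw [Nat.card_congr (Equiv.subtypeEquivRight key)]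
  exact (Set.ncard_pair hne : ({(W₀ E).map g.toLinearMap, (W₀ G).map g.toLinearMap} : Set _).ncard = 2)

end Cfsg.Agent.S0832
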