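import Cfsg.Statements.S0833
import Cfsg.Agent.Lib.Forms.Disc

set_option autoImplicit false
open Cfsg Cfsg.Agent.Forms.Disc Cfsg.Agent.Forms.Bases

namespace Cfsg.Agent.S0833

theorem gram_tmul {F U W ι κ : Type*} [Field F] [AddCommGroup U] [Module F U] [AddCommGroup W]
    [Module F W] (B₁ : LinearMap.BilinForm F U) (B₂ : LinearMap.BilinForm F W)
    (b₁ : Module.Basis ι F U) (b₂ : Module.Basis κ F W) :
    gram (B₁.tmul B₂) (b₁.tensorProduct b₂) =
      Matrix.kroneckerMap (· * ·) (gram B₁ b₁) (gram B₂ b₂) := by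
  ext ⟨i, j⟩ ⟨k, l⟩
  simp [gram, Module.Basis.tensorProduct_apply, mul_comm]

theorem nondeg_of_gram {F U ι : Type*} [Field F] [AddCommGroup U] [Module F U] [Fintype ι]
    [DecidableEq ι] (B : LinearMap.BilinForm F U) (b : Module.Basis ι F U)
    (h : (gram B b).det ≠ 0) : B.Nondegenerate := by
  have : gram B b = LinearMap.BilinForm.toMatrix b B := by
    ext i j; simp [gram, LinearMap.BilinForm.toMatrix_apply]
  exact (LinearMap.BilinForm.nondegenerate_iff_det_ne_zero b).2 (this ▸ h)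

/-- If B₁, B₂ are non-degenerate alternating forms on U (dim 2k) and W (dim 2l), then B₁ ⊗ B₂ on U ⊗ W is symmetric, non-degenerate, and vanishes identically on some subspace of dimension 2kl (half of dim U ⊗ W). -/
theorem result {F U W : Type*} [Field F] [Fintype F] [AddCommGroup U] [Module F U] [FiniteDimensional F U] [AddCommGroup W] [Module F W] [FiniteDimensional F W] (B₁ : LinearMap.BilinForm F U) (B₂ : LinearMap.BilinForm F W) (h₁ : B₁.Nondegenerate) (h₂ : B₂.Nondegenerate) (hA₁ : B₁.IsAlt) (hA₂ : B₂.IsAlt) (k l : ℕ) (hU : Module.finrank F U = 2 * k) (hW : Module.finrank F W = 2 * l) : (B₁.tmul B₂).IsSymm ∧ (B₁.tmul B₂).Nondegenerate ∧ (∃ X : Submodule F (TensorProduct F U W), Module.finrank F X = 2 * k * l ∧ ∀ x ∈ X, ∀ y ∈ X, (B₁.tmul B₂) x y = 0) := by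
  classical
  have hs₁ : ∀ u v, B₁ v u = - B₁ u v := fun u v => (LinearMap.IsAlt.neg hA₁ u v).symm
  have hs₂ : ∀ u v, B₂ v u = - B₂ u v := fun u v => (LinearMap.IsAlt.neg hA₂ u v).symm
  obtain ⟨b₁, he1, hee1, hff1⟩ := exists_sympBasis B₁ hA₁ h₁ hU
  obtain ⟨b₂, -, -, -⟩ := exists_sympBasis B₂ hA₂ h₂ hW
  refine ⟨⟨fun x y => ?_⟩, ?_, ?_⟩
  · have : (B₁.tmul B₂).flip = B₁.tmul B₂ :=
      LinearMap.ext_basis (b₁.tensorProduct b₂) (b₁.tensorProduct b₂) fun ⟨i, j⟩ ⟨i', j'⟩ => by
        show B₁.tmul B₂ (b₁.tensorProduct b₂ (i', j')) (b₁.tensorProduct b₂ (i, j)) =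
          B₁.tmul B₂ (b₁.tensorProduct b₂ (i, j)) (b₁.tensorProduct b₂ (i', j'))
        simp [Module.Basis.tensorProduct_apply, hs₁ (b₁ i) (b₁ i'), hs₂ (b₂ j) (b₂ j')]
    exact (congrArg (fun C : LinearMap.BilinForm F (TensorProduct F U W) => C y x) this)
  · refine nondeg_of_gram _ (b₁.tensorProduct b₂) ?_
    rw [gram_tmul, Matrix.det_kronecker]
    exact mul_ne_zero (pow_ne_zero _ (det_gram_ne_zero h₁ b₁))
      (pow_ne_zero _ (det_gram_ne_zero h₂ b₂))
  · let b := b₁.tensorProduct b₂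
    let v : Fin k × (Fin l ⊕ Fin l) → TensorProduct F U W := fun p => b (Sum.inl p.1, p.2)
    have hv : LinearIndependent F v :=
      b.linearIndependent.comp (fun p : Fin k × (Fin l ⊕ Fin l) => (Sum.inl p.1, p.2))
        (fun p p' h => by
          obtain ⟨h1, h2⟩ := Prod.mk.inj h
          exact Prod.ext (Sum.inl_injective h1) h2)
    refine ⟨Submodule.span F (Set.range v), by rw [finrank_span_eq_card hv]; simp; ring,
      fun x hx y hy => ?_⟩
    have hx' : ∀ j, B₁.tmul B₂ x (v j) = 0 := by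
      intro j
      induction hx using Submodule.span_induction with
      | mem z hz =>
        obtain ⟨i, rfl⟩ := hz
        simp [v, b, Module.Basis.tensorProduct_apply, hee1]
      | zero => simp
      | add a b _ _ ha hb => simp [ha, hb]
      | smul a z _ hz => simp [hz]
    induction hy using Submodule.span_induction with
    | mem z hz => obtain ⟨j, rfl⟩ := hz; exact hx' j
    | zero => simp
    | add a b _ _ ha hb => simp [ha, hb]
    | smul a z _ hz => simp [hz]

end Cfsg.Agent.S0833
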