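import Cfsg.Statements.S0834
import Cfsg.Agent.Lib.Forms.Disc

set_option autoImplicit false
open Cfsg Cfsg.Agent.Forms.Disc

namespace Cfsg.Agent.S0834

theorem gram_tmul {F U W ι κ : Type*} [Field F] [AddCommGroup U] [Module F U] [AddCommGroup W]
    [Module F W] (B₁ : LinearMap.BilinForm F U) (B₂ : LinearMap.BilinForm F W)
    (b₁ : Module.Basis ι F U) (b₂ : Module.Basis κ F W) :
    gram (B₁.tmul B₂) (b₁.tensorProduct b₂) =
      Matrix.kroneckerMap (· * ·) (gram B₁ b₁) (gram B₂ b₂) := by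
  ext ⟨i, j⟩ ⟨k, l⟩
  simp [gram, Module.Basis.tensorProduct_apply, mul_comm]

theorem nondeg_of_gram {F U ι : Type*} [Field F] [AddCommGroup U] [Module F U] [Fintype ι]
    [DecidableEq ι] (B : LinearMap.BilinForm F U) (b : Module.Basis ι F U)
    (h : (gram B b).det ≠ 0) : B.Nondegenerate := by
  have : gram B b = LinearMap.BilinForm.toMatrix b B := by
    ext i j; simp [gram, LinearMap.BilinForm.toMatrix_apply]
  exact (LinearMap.BilinForm.nondegenerate_iff_det_ne_zero b).2 (this ▸ h)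

/-- Over a finite field with 2 ≠ 0: if B₁ on U (dim 2k, k ≥ 1) and B₂ on W (dim 2l, l ≥ 1) are non-degenerate symmetric forms admitting no totally isotropic subspaces of dimensions k, resp. l (minus type), then B₁ ⊗ B₂ admits a totally isotropic subspace of dimension 2kl (plus type). -/
theorem result {F U W : Type*} [Field F] [Fintype F] [AddCommGroup U] [Module F U] [FiniteDimensional F U] [AddCommGroup W] [Module F W] [FiniteDimensional F W] (h2 : (2 : F) ≠ 0) (B₁ : LinearMap.BilinForm F U) (B₂ : LinearMap.BilinForm F W) (h₁ : B₁.Nondegenerate) (h₂ : B₂.Nondegenerate) (hS₁ : B₁.IsSymm) (hS₂ : B₂.IsSymm) (k l : ℕ) (hk : 1 ≤ k) (hl : 1 ≤ l) (hU : Module.finrank F U = 2 * k) (hW : Module.finrank F W = 2 * l) (hm₁ : ¬ (∃ X : Submodule F (U), Module.finrank F X = k ∧ ∀ x ∈ X, ∀ y ∈ X, (B₁) x y = 0)) (hm₂ : ¬ (∃ X : Submodule F (W), Module.finrank F X = l ∧ ∀ x ∈ X, ∀ y ∈ X, (B₂) x y = 0)) : (∃ X : Submodule F (TensorProduct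 F U W), Module.finrank F X = 2 * k * l ∧ ∀ x ∈ X, ∀ y ∈ X, (B₁.tmul B₂) x y = 0) := by
  classical
  let b₁ := Module.finBasis F U
  let b₂ := Module.finBasis F W
  have hg := gram_tmul B₁ B₂ b₁ b₂
  have hdet : (gram (B₁.tmul B₂) (b₁.tensorProduct b₂)).det =
      (gram B₁ b₁).det ^ (2 * l) * (gram B₂ b₂).det ^ (2 * k) := by
    rw [hg, Matrix.det_kronecker]
    simp [hU, hW]
  refine (exists_lagrangian_iff h2 (B₁.tmul B₂) ⟨fun x y => (LinearMap.IsSymm.tmul ⟨hS₁.eq⟩ ⟨hS₂.eq⟩).eq x y⟩ (nondeg_of_gram _ (b₁.tensorProduct b₂)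
    ?_) (m := 2 * k * l) (by rw [Module.finrank_tensorProduct, hU, hW]; ring)
    (b₁.tensorProduct b₂)).2 ⟨(gram B₁ b₁).det ^ l * (gram B₂ b₂).det ^ k, ?_⟩
  · rw [hdet]
    exact mul_ne_zero (pow_ne_zero _ (det_gram_ne_zero h₁ b₁)) (pow_ne_zero _ (det_gram_ne_zero h₂ b₂))
  · rw [hdet, (Even.neg_one_pow ⟨k * l, by ring⟩ : (-1 : F) ^ (2 * k * l) = 1)]
    ring

end Cfsg.Agent.S0834
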