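import Cfsg.Statements.S0835
import Cfsg.Agent.Lib.Forms.Disc

set_option autoImplicit false
open Cfsg Cfsg.Agent.Forms.Disc

namespace Cfsg.Agent.S0835

theorem gram_tmul {F U W ι κ : Type*} [Field F] [AddCommGroup U] [Module F U] [AddCommGroup W]
    [Module F W] (B₁ : LinearMap.BilinForm F U) (B₂ : LinearMap.BilinForm F W)
    (b₁ : Module.Basis ι F U) (b₂ : Module.Basis κ F W) :
    gram (B₁.tmul B₂) (b₁.tensorProduct b₂) =
      Matrix.kroneckerMap (· * ·) (gram B₁ b₁) (gram B₂ b₂) := by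
  ext ⟨i, j⟩ ⟨k, l⟩
  simp [gram, Module.Basis.tensorProduct_apply, mul_comm]

theorem nondeg_of_gram {F U ι : Type*} [Field F] [AddCommGroup U] [Module F U] [Fintype ι]
    [DecidableEq ι] (B : LinearMap.BilinForm F U) (b : Module.Basis ι F U)
    (h : (gram B b).det ≠ 0) : B.Nondegenerate := by
  have : gram B b = LinearMap.BilinForm.toMatrix b B := by
    ext i j; simp [gram, LinearMap.BilinForm.toMatrix_apply]
  exact (LinearMap.BilinForm.nondegenerate_iff_det_ne_zero b).2 (this ▸ h)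

/-- Over a finite field with 2 ≠ 0: if B₁ on U (dim 2k, k ≥ 1) is non-degenerate symmetric of minus type (no totally isotropic k-subspace) and B₂ on W (dim 2l + 1) is non-degenerate symmetric, then B₁ ⊗ B₂ (dimension 2k(2l+1)) admits no totally isotropic subspace of dimension k(2l+1) (minus type). -/
theorem result {F U W : Type*} [Field F] [Fintype F] [AddCommGroup U] [Module F U] [FiniteDimensional F U] [AddCommGroup W] [Module F W] [FiniteDimensional F W] (h2 : (2 : F) ≠ 0) (B₁ : LinearMap.BilinForm F U) (B₂ : LinearMap.BilinForm F W) (h₁ : B₁.Nondegenerate) (h₂ : B₂.Nondegenerate) (hS₁ : B₁.IsSymm) (hS₂ : B₂.IsSymm) (k l : ℕ) (hk : 1 ≤ k) (hU : Module.finrank F U = 2 * k) (hW : Module.finrank F W = 2 * l + 1) (hm₁ : ¬ (∃ X : Submodule F (U), Module.finrank F X = k ∧ ∀ x ∈ X, ∀ y ∈ X, (B₁) x y = 0)) : ¬ (∃ X : Submodule F (TensorProduct F U W), Module.finrank F X = k * (2 * l + 1) ∧ ∀ x ∈ X, ∀ y ∈ X, (B₁.tmul B₂) x y = 0) :=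 by
  classical
  let b₁ := Module.finBasis F U
  let b₂ := Module.finBasis F W
  have hg := gram_tmul B₁ B₂ b₁ b₂
  have hd₁ := det_gram_ne_zero h₁ b₁
  have hd₂ := det_gram_ne_zero h₂ b₂
  have hdet : (gram (B₁.tmul B₂) (b₁.tensorProduct b₂)).det =
      (gram B₁ b₁).det ^ (2 * l + 1) * (gram B₂ b₂).det ^ (2 * k) := by
    rw [hg, Matrix.det_kronecker]
    simp [hU, hW]
  intro hX
  refine hm₁ ((exists_lagrangian_iff h2 B₁ hS₁ h₁ hU b₁).2 ?_)
  obtain ⟨s, hs⟩ := (exists_lagrangian_iff h2 (B₁.tmul B₂) ⟨fun x y => (LinearMap.IsSymm.tmul ⟨hS₁.eq⟩ ⟨hS₂.eq⟩).eq x y⟩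
    (nondeg_of_gram _ (b₁.tensorProduct b₂) (by
      rw [hdet]; exact mul_ne_zero (pow_ne_zero _ hd₁) (pow_ne_zero _ hd₂)))
    (m := k * (2 * l + 1)) (by rw [Module.finrank_tensorProduct, hU, hW]; ring)
    (b₁.tensorProduct b₂)).1 hX
  rw [hdet] at hs
  refine ⟨s / ((gram B₁ b₁).det ^ l * (gram B₂ b₂).det ^ k), ?_⟩
  have e : (-1 : F) ^ (k * (2 * l + 1)) = (-1) ^ k := by
    rw [mul_add, pow_add, mul_one, show k * (2 * l) = 2 * (k * l) by ring, pow_mul]
    simp
  rw [e] at hs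
  field_simp
  linear_combination hs

end Cfsg.Agent.S0835
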