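import Cfsg.Statements.S0836

set_option autoImplicit false
open Cfsg

namespace Cfsg.Agent.S0836

/-- For i ≠ j and any scalar c, the elementary transvection 1 + c E_ij is a commutator ⁅g, h⁆ of two elements of SL_n(F) provided n ≥ 3, or n = 2 and F contains x ≠ 0 with x² ≠ 1. -/
theorem result {F : Type*} [Field F] (n : ℕ) (hn : 3 ≤ n ∨ (n = 2 ∧ ∃ x : F, x ≠ 0 ∧ x ^ 2 ≠ 1)) (i j : Fin n) (hij : i ≠ j) (c : F) (t : Matrix.SpecialLinearGroup (Fin n) F) (ht : (t : Matrix (Fin n) (Fin n) F) = Matrix.transvection i j c) : t ∈ commutatorSet (Matrix.SpecialLinearGroup (Fin n) F) := by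
  obtain ⟨x, hx, hx2⟩ | ⟨k, hki, hkj⟩ :
      (∃ x : F, x ≠ 0 ∧ x ^ 2 ≠ 1 ∧ n = 2) ∨ ∃ k : Fin n, k ≠ i ∧ k ≠ j := by
    rcases hn with h | ⟨rfl, x, hx, hx2⟩
    · refine Or.inr ?_
      by_contra hne
      push Not at hne
      have hsub : (Finset.univ : Finset (Fin n)) ⊆ {i, j} := fun k _ => by
        by_cases h1 : k = i
        · simp [h1]
        · simp [hne k h1]
      have h1 := (Finset.card_le_card hsub).trans Finset.card_le_two
      simp at h1
      omega
    · exact Or.inl ⟨x, hx, hx2, rfl⟩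
  · obtain ⟨hx2, rfl⟩ := hx2
    let d : Matrix.SpecialLinearGroup (Fin 2) F :=
      ⟨Matrix.diagonal fun k => if k = i then x else x⁻¹, by
        rw [Matrix.det_diagonal]
        fin_cases i <;> simp [Fin.prod_univ_two, hx]⟩
    let s : Matrix.SpecialLinearGroup (Fin 2) F :=
      ⟨Matrix.transvection i j (c / (x ^ 2 - 1)), Matrix.det_transvection_of_ne _ _ hij _⟩
    refine ⟨d, s, ?_⟩
    rw [commutatorElement_def, mul_assoc, ← mul_inv_rev, mul_inv_eq_iff_eq_mul]
    apply Subtype.ext
    show (Matrix.diagonal fun k => if k = i then x else x⁻¹) *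
        Matrix.transvection i j (c / (x ^ 2 - 1)) =
      (t : Matrix (Fin 2) (Fin 2) F) * (Matrix.transvection i j (c / (x ^ 2 - 1)) *
        Matrix.diagonal fun k => if k = i then x else x⁻¹)
    rw [ht]
    have hx1 : x ^ 2 - 1 ≠ 0 := sub_ne_zero.2 hx2
    ext a b
    fin_cases i <;> fin_cases j <;> first | exact absurd rfl hij | skip
    all_goals fin_cases a <;> fin_cases b <;>
      simp [Matrix.mul_apply, Fin.sum_univ_two, Matrix.transvection, Matrix.single_apply,
        Matrix.diagonal_apply] <;> field_simp <;> ring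
  · let s1 : Matrix.SpecialLinearGroup (Fin n) F :=
      ⟨Matrix.transvection i k c, Matrix.det_transvection_of_ne _ _ (Ne.symm hki) _⟩
    let s2 : Matrix.SpecialLinearGroup (Fin n) F :=
      ⟨Matrix.transvection k j 1, Matrix.det_transvection_of_ne _ _ hkj _⟩
    refine ⟨s1, s2, ?_⟩
    rw [commutatorElement_def, mul_assoc, ← mul_inv_rev, mul_inv_eq_iff_eq_mul]
    apply Subtype.ext
    show Matrix.transvection i k c * Matrix.transvection k j 1 =
      (t : Matrix (Fin n) (Fin n) F) * (Matrix.transvection k j 1 * Matrix.transvection i k c)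
    rw [ht]
    simp only [Matrix.transvection]
    simp [add_mul, mul_add, Matrix.single_mul_single_of_ne, hki, Ne.symm hki, hkj, Ne.symm hkj,
      hij, Ne.symm hij]
    abel

end Cfsg.Agent.S0836
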