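import Cfsg.Statements.S0837
import Cfsg.Agent.Lib.Forms.HermStd

set_option autoImplicit false
open Cfsg Cfsg.Agent.Forms.HermStd

namespace Cfsg.Agent.S0837

open Matrix

variable {F : Type*} [Field F] [Fintype F] {q n k l : ℕ}

theorem exists_adapted (hF : Fintype.card F = q ^ 2) (W : Submodule F (Fin n → F))
    (hWk : Module.finrank F W = k) (hnd : ∀ u ∈ W, (∀ v ∈ W, hermB hF n u v = 0) → u = 0) :
    ∃ b : Module.Basis (Fin k ⊕ Fin (n - k)) F (Fin n → F),
      (∀ i j, Cfsg.hermForm n F q (b i) (b j) = if i = j then 1 else 0) ∧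
      W = Submodule.span F (Set.range fun i => b (Sum.inl i)) := by
  classical
  set B := hermB hF n with hB
  obtain ⟨u, huW, hu⟩ := Cfsg.Agent.Forms.Bases.exists_orthonormal (qHom hF) (qHom_ne_id hF) (qHom_qHom hF) B
    (hermB_isSymm hF) W hnd
  let P : Submodule F (Fin n → F) := ⨅ i, LinearMap.ker (B (u i))
  have huli : LinearIndependent F u :=
    Cfsg.Agent.Forms.Bases.linearIndependent_of_orth (B := B) (fun i j h => by simp [hu, h]) (fun i => by simp [hu])
  have hspan : Submodule.span F (Set.range u) = W := by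
    refine Submodule.eq_of_le_of_finrank_eq (Submodule.span_le.2 ?_) ?_
    · rintro _ ⟨i, rfl⟩; exact huW i
    · rw [finrank_span_eq_card huli, Fintype.card_fin]
  have hPmem : ∀ x, x ∈ P ↔ ∀ i, B (u i) x = 0 := fun x => by
    simp [P, Submodule.mem_iInf, LinearMap.mem_ker]
  have hcompl : IsCompl W P := by
    constructor
    · rw [Submodule.disjoint_def]
      intro x hxW hxP
      refine hnd x hxW fun v hv => ?_
      have hxv : B v x = 0 := by
        rw [← hspan] at hv
        induction hv using Submodule.span_induction with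
        | mem z hz => obtain ⟨i, rfl⟩ := hz; exact (hPmem x).1 hxP i
        | zero => simp
        | add a b _ _ ha hb => simp [ha, hb]
        | smul a z _ hz => simp [hz]
      rw [← (hermB_isSymm hF).eq v x, hxv, map_zero]
    · rw [codisjoint_iff, eq_top_iff]
      intro x _
      refine Submodule.mem_sup.2 ⟨∑ i, B (u i) x • u i, W.sum_mem fun i _ => W.smul_mem _ (huW i),
        x - ∑ i, B (u i) x • u i, (hPmem _).2 fun j => ?_, add_sub_cancel _ _⟩
      simp [map_sum, hu]
  have hPd : Module.finrank F P = n - k := by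
    have := Submodule.finrank_add_eq_of_isCompl hcompl
    rw [Module.finrank_pi, Fintype.card_fin, hWk] at this
    omega
  have hPnd : ∀ a ∈ P, (∀ c ∈ P, B a c = 0) → a = 0 := by
    intro a ha h
    refine (hermB_nondegenerate hF).1 a fun z => ?_
    obtain ⟨w, hw, p, hp, rfl⟩ := Submodule.mem_sup.1
      (show z ∈ W ⊔ P by rw [hcompl.sup_eq_top]; trivial)
    rw [← hB, map_add, h p hp, add_zero]
    rw [← hspan] at hw
    induction hw using Submodule.span_induction with
    | mem z hz => obtain ⟨i, rfl⟩ := hz; rw [← (hermB_isSymm hF).eq (u i) a, (hPmem a).1 ha i, map_zero]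
    | zero => simp
    | add a b _ _ ha hb => simp [ha, hb]
    | smul a z _ hz => simp [hz]
  obtain ⟨v, hvP, hv⟩ := Cfsg.Agent.Forms.Bases.exists_orthonormal (qHom hF) (qHom_ne_id hF) (qHom_qHom hF) B
    (hermB_isSymm hF) P hPnd
  let u' : Fin k → (Fin n → F) := u ∘ Fin.cast hWk.symm
  let v' : Fin (n - k) → (Fin n → F) := v ∘ Fin.cast hPd.symm
  let w := Sum.elim u' v'
  have huv : ∀ i j, B (u i) (v j) = 0 := fun i j => (hPmem _).1 (hvP j) i
  have hw : ∀ i j, B (w i) (w j) = if i = j then 1 else 0 := by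
    rintro (i | i) (j | j)
    · simp [w, u', hu]
    · simp [w, u', v', huv]
    · simp only [w, u', v', Sum.elim_inl, Sum.elim_inr, Function.comp_apply, reduceCtorEq, if_false]
      rw [← (hermB_isSymm hF).eq, huv, map_zero]
    · simp [w, v', hv]
  have hli : LinearIndependent F w :=
    Cfsg.Agent.Forms.Bases.linearIndependent_of_orth (B := B) (fun i j h => by simp [hw, h]) (fun i => by simp [hw])
  have hk : k ≤ n := by
    have := Submodule.finrank_le W
    rw [Module.finrank_pi, Fintype.card_fin, hWk] at this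
    exact this
  refine ⟨basisOfLinearIndependentOfCardEqFinrank' w hli
    (by rw [Module.finrank_pi, Fintype.card_sum]; simp only [Fintype.card_fin]; omega), fun i j => ?_,
    ?_⟩
  · have h1 := hw j i
    simp only [hB, hermB_apply] at h1
    simp [h1, eq_comm]
  · refine hspan.symm.trans ?_
    simp only [coe_basisOfLinearIndependentOfCardEqFinrank', w, Sum.elim_inl, u']
    exact congrArg (Submodule.span F) ((finCongr hWk.symm).surjective.range_comp u).symm

/-- Block matrices in the basis `b`. -/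
noncomputable def blockHom (b : Module.Basis (Fin k ⊕ Fin l) F (Fin n → F)) :
    (↥(Cfsg.GU k F q) × ↥(Cfsg.GU l F q)) →* GeneralLinearGroup (Fin n) F :=
  MonoidHom.toHomUnits
    (((Matrix.toLinAlgEquiv b).trans LinearMap.toMatrixAlgEquiv').toRingEquiv.toRingHom.toMonoidHom.comp
      { toFun := fun AB => fromBlocks ((AB.1 : GeneralLinearGroup (Fin k) F) : Matrix (Fin k) (Fin k) F)
          0 0 ((AB.2 : GeneralLinearGroup (Fin l) F) : Matrix (Fin l) (Fin l) F)
        map_one' := by simp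
        map_mul' := fun x y => by simp [fromBlocks_multiply] })

theorem blockHom_apply (b : Module.Basis (Fin k ⊕ Fin l) F (Fin n → F))
    (AB : ↥(Cfsg.GU k F q) × ↥(Cfsg.GU l F q)) (x : Fin k ⊕ Fin l → F) :
    (blockHom b AB : Matrix (Fin n) (Fin n) F) *ᵥ (b.equivFun.symm x) =
      b.equivFun.symm (fromBlocks ((AB.1 : GeneralLinearGroup (Fin k) F) : Matrix (Fin k) (Fin k) F)
          0 0 ((AB.2 : GeneralLinearGroup (Fin l) F) : Matrix (Fin l) (Fin l) F) *ᵥ x) := by
  rw [← Matrix.toLin'_apply]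
  simp only [blockHom, MonoidHom.coe_toHomUnits, MonoidHom.comp_apply]
  show Matrix.toLin' (LinearMap.toMatrixAlgEquiv' (Matrix.toLinAlgEquiv b _)) _ = _
  rw [show ∀ f : (Fin n → F) →ₗ[F] (Fin n → F), Matrix.toLin' (LinearMap.toMatrixAlgEquiv' f) = f
    from fun f => Matrix.toLin'_toMatrix' f]
  simp only [Matrix.toLinAlgEquiv_apply, MonoidHom.coe_mk, OneHom.coe_mk]
  rw [b.equivFun_symm_apply (fromBlocks _ _ _ _ *ᵥ x)]
  refine Finset.sum_congr rfl fun i _ => ?_
  congr 3
  exact b.equivFun.apply_symm_apply x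

theorem herm_equivFun (hF : Fintype.card F = q ^ 2)
    (b : Module.Basis (Fin k ⊕ Fin l) F (Fin n → F))
    (hb : ∀ i j, Cfsg.hermForm n F q (b i) (b j) = if i = j then 1 else 0)
    (x y : Fin k ⊕ Fin l → F) :
    Cfsg.hermForm n F q (b.equivFun.symm x) (b.equivFun.symm y) =
      Cfsg.hermForm k F q (x ∘ Sum.inl) (y ∘ Sum.inl) +
      Cfsg.hermForm l F q (x ∘ Sum.inr) (y ∘ Sum.inr) := by
  have hb' : ∀ i j, hermB hF n (b i) (b j) = if j = i then 1 else 0 := fun i j => hb j i
  rw [← hermB_apply hF, b.equivFun_symm_apply, b.equivFun_symm_apply]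
  simp only [map_add, LinearMap.add_apply, map_sum, LinearMap.sum_apply, LinearMap.map_smulₛₗ, map_smul, LinearMap.smul_apply,
    smul_eq_mul, hb', qHom_apply, RingHom.id_apply, mul_ite, mul_one, mul_zero, Finset.sum_ite_eq,
    Finset.sum_ite_eq', Finset.mem_univ, if_true, Fintype.sum_sum_type, Cfsg.hermForm,
    Function.comp_apply]
  simp

theorem blockHom_mem (hF : Fintype.card F = q ^ 2)
    (b : Module.Basis (Fin k ⊕ Fin l) F (Fin n → F))
    (hb : ∀ i j, Cfsg.hermForm n F q (b i) (b j) = if i = j then 1 else 0)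
    (AB : ↥(Cfsg.GU k F q) × ↥(Cfsg.GU l F q)) : blockHom b AB ∈ Cfsg.GU n F q := by
  refine mem_GU_iff.2 fun u v => ?_
  obtain ⟨x, rfl⟩ := b.equivFun.symm.surjective u
  obtain ⟨y, rfl⟩ := b.equivFun.symm.surjective v
  rw [blockHom_apply, blockHom_apply, herm_equivFun hF b hb, herm_equivFun hF b hb,
    fromBlocks_mulVec, fromBlocks_mulVec]
  simp only [Sum.elim_comp_inl, Sum.elim_comp_inr, zero_mulVec, add_zero, zero_add]
  rw [mem_GU_iff.1 AB.1.2, mem_GU_iff.1 AB.2.2]

omit [Fintype F] in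
theorem mem_span_inl {W : Submodule F (Fin n → F)} (b : Module.Basis (Fin k ⊕ Fin l) F (Fin n → F))
    (hbW : W = Submodule.span F (Set.range fun i => b (Sum.inl i))) (x : Fin k ⊕ Fin l → F) :
    b.equivFun.symm x ∈ W ↔ x ∘ Sum.inr = 0 := by
  subst hbW
  constructor
  · intro h
    obtain ⟨c, hc⟩ := (Submodule.mem_span_range_iff_exists_fun F).1 h
    have : x = Sum.elim c 0 := b.equivFun.symm.injective (by
      rw [← hc, b.equivFun_symm_apply, Fintype.sum_sum_type]; simp)
    rw [this]; rfl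
  · intro h
    rw [b.equivFun_symm_apply, Fintype.sum_sum_type]
    refine Submodule.add_mem _ (Submodule.sum_mem _ fun i _ => Submodule.smul_mem _ _
      (Submodule.subset_span ⟨i, rfl⟩)) ?_
    simp [show ∀ i, x (Sum.inr i) = 0 from congrFun h]

theorem blockHom_stab {W : Submodule F (Fin n → F)}
    (b : Module.Basis (Fin k ⊕ Fin l) F (Fin n → F))
    (hbW : W = Submodule.span F (Set.range fun i => b (Sum.inl i)))
    (AB : ↥(Cfsg.GU k F q) × ↥(Cfsg.GU l F q)) :
    blockHom b AB ∈ Cfsg.stabilizing (Cfsg.glToMat (Fin n) F) (W : Set (Fin n → F)) := by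
  intro v
  obtain ⟨x, rfl⟩ := b.equivFun.symm.surjective v
  show b.equivFun.symm x ∈ W ↔ (blockHom b AB : Matrix (Fin n) (Fin n) F) *ᵥ _ ∈ W
  rw [blockHom_apply, mem_span_inl b hbW, mem_span_inl b hbW, fromBlocks_mulVec]
  simp only [Sum.elim_comp_inr, zero_mulVec, zero_add]
  refine ⟨fun h => by rw [h, mulVec_zero], fun h => ?_⟩
  rw [← one_mulVec (x ∘ Sum.inr), ← (AB.2 : GeneralLinearGroup (Fin l) F).inv_mul,
    ← mulVec_mulVec, h, mulVec_zero]

theorem blockHom_injective (b : Module.Basis (Fin k ⊕ Fin l) F (Fin n → F)) :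
    Function.Injective (blockHom (q := q) b) := by
  intro x y h
  have h1 : fromBlocks ((x.1 : GeneralLinearGroup (Fin k) F) : Matrix (Fin k) (Fin k) F) 0 0
      ((x.2 : GeneralLinearGroup (Fin l) F) : Matrix (Fin l) (Fin l) F) =
    fromBlocks ((y.1 : GeneralLinearGroup (Fin k) F) : Matrix (Fin k) (Fin k) F) 0 0
      ((y.2 : GeneralLinearGroup (Fin l) F) : Matrix (Fin l) (Fin l) F) :=
    Matrix.ext_iff_mulVec.2 fun z => b.equivFun.symm.injective (by
      rw [← blockHom_apply b x z, ← blockHom_apply b y z, h])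
  rw [fromBlocks_inj] at h1
  exact Prod.ext (Subtype.ext (Units.ext h1.1)) (Subtype.ext (Units.ext h1.2.2.2))

theorem blockHom_surj (hF : Fintype.card F = q ^ 2) {W : Submodule F (Fin n → F)}
    (b : Module.Basis (Fin k ⊕ Fin l) F (Fin n → F))
    (hb : ∀ i j, Cfsg.hermForm n F q (b i) (b j) = if i = j then 1 else 0)
    (hbW : W = Submodule.span F (Set.range fun i => b (Sum.inl i)))
    (g : ↥(Cfsg.GU n F q))
    (hg : (g : GeneralLinearGroup (Fin n) F) ∈
      Cfsg.stabilizing (Cfsg.glToMat (Fin n) F) (W : Set (Fin n → F))) :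
    ∃ AB, blockHom (q := q) b AB = (g : GeneralLinearGroup (Fin n) F) := by
  classical
  set M := ((g : GeneralLinearGroup (Fin n) F) : Matrix (Fin n) (Fin n) F) with hM
  let T : Matrix (Fin k ⊕ Fin l) (Fin k ⊕ Fin l) F :=
    LinearMap.toMatrix' (b.equivFun.toLinearMap ∘ₗ Matrix.toLin' M ∘ₗ b.equivFun.symm.toLinearMap)
  have hT : ∀ x, M *ᵥ b.equivFun.symm x = b.equivFun.symm (T *ᵥ x) := fun x => by
    simp only [T, ← Matrix.toLin'_apply, Matrix.toLin'_toMatrix', LinearMap.comp_apply,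
      LinearEquiv.coe_coe, LinearEquiv.symm_apply_apply]
  have hpres : ∀ x y, Cfsg.hermForm n F q (b.equivFun.symm (T *ᵥ x)) (b.equivFun.symm (T *ᵥ y)) =
      Cfsg.hermForm n F q (b.equivFun.symm x) (b.equivFun.symm y) := fun x y => by
    rw [← hT, ← hT]; exact mem_GU_iff.1 g.2 _ _
  have hstab : ∀ x, x ∘ Sum.inr = 0 ↔ (T *ᵥ x) ∘ Sum.inr = 0 := fun x => by
    rw [← mem_span_inl b hbW, ← mem_span_inl b hbW, ← hT]
    exact hg _
  have hTinj : Function.Injective fun x => T *ᵥ x := fun x y hxy => b.equivFun.symm.injective (by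
    have h1 : M *ᵥ b.equivFun.symm x = M *ᵥ b.equivFun.symm y := by rw [hT, hT]; exact congrArg _ hxy
    have h2 := congrArg (fun z => (((g : GeneralLinearGroup (Fin n) F)⁻¹ :
      GeneralLinearGroup (Fin n) F) : Matrix (Fin n) (Fin n) F) *ᵥ z) h1
    simp only [mulVec_mulVec, hM, Units.inv_mul, one_mulVec] at h2
    exact h2)
  have h21 : T.toBlocks₂₁ = 0 := by
    ext i j
    have h1 := (hstab (Pi.single (Sum.inl j) 1)).1 (by ext i; simp)
    simpa [toBlocks₂₁, mulVec_single] using congrFun h1 i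
  have hTdec : T = fromBlocks T.toBlocks₁₁ T.toBlocks₁₂ 0 T.toBlocks₂₂ := by
    rw [← h21, fromBlocks_toBlocks]
  have hA : Function.Injective fun c => T.toBlocks₁₁ *ᵥ c := by
    intro c c' hcc
    have := hTinj (a₁ := Sum.elim c 0) (a₂ := Sum.elim c' 0) (by
      simp only
      rw [hTdec, fromBlocks_mulVec, fromBlocks_mulVec]
      simp only at hcc
      simp [hcc])
    exact congrArg (fun z => z ∘ Sum.inl) this
  have hsurjA : Function.Surjective fun c => T.toBlocks₁₁ *ᵥ c := Finite.surjective_of_injective hA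
  have hA' : ∀ c c', Cfsg.hermForm k F q (T.toBlocks₁₁ *ᵥ c) (T.toBlocks₁₁ *ᵥ c') =
      Cfsg.hermForm k F q c c' := fun c c' => by
    have h1 := hpres (Sum.elim c 0) (Sum.elim c' 0)
    rw [herm_equivFun hF b hb, herm_equivFun hF b hb, hTdec, fromBlocks_mulVec, fromBlocks_mulVec] at h1
    simpa [Cfsg.hermForm] using h1
  have hmix : ∀ c d, Cfsg.hermForm k F q (T.toBlocks₁₁ *ᵥ c) (T.toBlocks₁₂ *ᵥ d) = 0 := fun c d => by
    have h1 := hpres (Sum.elim c 0) (Sum.elim 0 d)
    rw [herm_equivFun hF b hb, herm_equivFun hF b hb, hTdec, fromBlocks_mulVec, fromBlocks_mulVec] at h1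
    simpa [Cfsg.hermForm, zero_pow (by have := one_lt_q hF; omega : q ≠ 0)]
      using h1
  have h12 : T.toBlocks₁₂ = 0 := by
    refine Matrix.ext_iff_mulVec.2 fun d => ?_
    rw [zero_mulVec]
    refine (hermB_nondegenerate hF).1 _ fun z => ?_
    obtain ⟨c, rfl⟩ := hsurjA z
    exact hmix c d
  have hTdec2 : T = fromBlocks T.toBlocks₁₁ 0 0 T.toBlocks₂₂ := by rw [← h12]; exact hTdec
  have hD' : ∀ c c', Cfsg.hermForm l F q (T.toBlocks₂₂ *ᵥ c) (T.toBlocks₂₂ *ᵥ c') =
      Cfsg.hermForm l F q c c' := fun c c' => by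
    have h1 := hpres (Sum.elim 0 c) (Sum.elim 0 c')
    rw [herm_equivFun hF b hb, herm_equivFun hF b hb, hTdec2, fromBlocks_mulVec, fromBlocks_mulVec] at h1
    simpa [Cfsg.hermForm] using h1
  have hdet : ∀ {r : ℕ} (X : Matrix (Fin r) (Fin r) F),
      (∀ c c', Cfsg.hermForm r F q (X *ᵥ c) (X *ᵥ c') = Cfsg.hermForm r F q c c') → X.det ≠ 0 :=
    fun X hX h => by
      have := det_norm hF X hX
      rw [h, zero_pow (by omega)] at this
      exact zero_ne_one this
  refine ⟨(⟨GeneralLinearGroup.mkOfDetNeZero _ (hdet _ hA'), mem_GU_iff.2 hA'⟩,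
    ⟨GeneralLinearGroup.mkOfDetNeZero _ (hdet _ hD'), mem_GU_iff.2 hD'⟩), Units.ext ?_⟩
  refine Matrix.ext_iff_mulVec.2 fun v => ?_
  obtain ⟨x, rfl⟩ := b.equivFun.symm.surjective v
  rw [blockHom_apply, ← hM, hT]
  exact congrArg (fun X : Matrix (Fin k ⊕ Fin l) (Fin k ⊕ Fin l) F => b.equivFun.symm (X *ᵥ x))
    hTdec2.symm

/-- If W ≤ F^n (|F| = q²) is a k-dimensional subspace on which the Hermitian form Σ x_i y_i^q is non-degenerate, then the stabiliser of W in GU_n(q) is isomorphic to GU_k(q) × GU_(n−k)(q). -/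
theorem result {F : Type*} [Field F] [Fintype F] {q : ℕ} (hF : Fintype.card F = q ^ 2) (n k : ℕ) (hk : k ≤ n) (W : Submodule F (Fin n → F)) (hWk : Module.finrank F W = k) (hW : ∀ u ∈ W, (∀ v ∈ W, Cfsg.hermForm n F q u v = 0) → u = 0) : Nonempty (↥((Cfsg.stabilizing (Cfsg.glToMat (Fin n) F) (W : Set (Fin n → F))).subgroupOf (Cfsg.GU n F q)) ≃* ↥(Cfsg.GU k F q) × ↥(Cfsg.GU (n - k) F q)) := by
  classical
  have hmem : ∀ u ∈ W, (∀ v ∈ W, hermB hF n u v = 0) → u = 0 := fun u hu h =>
    hW u hu fun v hv => by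
      rw [← hermForm_conj hF v u, show Cfsg.hermForm n F q v u = 0 from h v hv,
        zero_pow (by have := one_lt_q hF; omega)]
  obtain ⟨b, hb, hbW⟩ := exists_adapted hF W hWk hmem
  let G := (Cfsg.stabilizing (Cfsg.glToMat (Fin n) F) (W : Set (Fin n → F))).subgroupOf (Cfsg.GU n F q)
  let Φ : (↥(Cfsg.GU k F q) × ↥(Cfsg.GU (n - k) F q)) →* G :=
    MonoidHom.codRestrict (MonoidHom.codRestrict (blockHom b) (Cfsg.GU n F q)
      (fun AB => blockHom_mem hF b hb AB)) G (fun AB => blockHom_stab b hbW AB)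
  exact ⟨(MulEquiv.ofBijective Φ ⟨fun x y h =>
    blockHom_injective b (congrArg (fun z : G =>
      ((z : ↥(Cfsg.GU n F q)) : Matrix.GeneralLinearGroup (Fin n) F)) h), fun z => by
      obtain ⟨AB, hAB⟩ := blockHom_surj hF b hb hbW z.1 z.2
      exact ⟨AB, Subtype.ext (Subtype.ext hAB)⟩⟩).symm⟩

end Cfsg.Agent.S0837
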