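import Cfsg.Statements.S0838
import Cfsg.Agent.Lib.Forms.Disc

set_option autoImplicit false
open Cfsg Cfsg.Agent.Forms.Disc

namespace Cfsg.Agent.S0838

/-- Over a finite field with 2 ≠ 0 and n odd: two quadratic forms Q₁, Q₂ on F^n with non-degenerate polar forms are similar — there are an invertible linear map g and a scalar c ≠ 0 with Q₂ (g v) = c · Q₁ v for all v. -/
theorem result {F : Type*} [Field F] [Fintype F] (h2 : (2 : F) ≠ 0) {n : ℕ} (hn : Odd n) (Q₁ Q₂ : QuadraticForm F (Fin n → F)) (h₁ : (QuadraticMap.polarBilin Q₁).Nondegenerate) (h₂ : (QuadraticMap.polarBilin Q₂).Nondegenerate) : ∃ (g : (Fin n → F) ≃ₗ[F] (Fin n → F)) (c : F), c ≠ 0 ∧ ∀ v, Q₂ (g v) = c * Q₁ v := by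
  classical
  have : Invertible (2 : F) := invertibleOfNonzero h2
  set B₁ := QuadraticMap.polarBilin Q₁ with hB₁
  set B₂ := QuadraticMap.polarBilin Q₂ with hB₂
  let b := Pi.basisFun F (Fin n)
  set d₁ := (gram B₁ b).det
  set d₂ := (gram B₂ b).det
  set c := d₁ * d₂
  have hd₁ : d₁ ≠ 0 := det_gram_ne_zero h₁ b
  have hd₂ : d₂ ≠ 0 := det_gram_ne_zero h₂ b
  have hc : c ≠ 0 := mul_ne_zero hd₁ hd₂
  have hsym : ∀ Q : QuadraticForm F (Fin n → F), (QuadraticMap.polarBilin Q).IsSymm :=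
    fun Q => ⟨fun u v => QuadraticMap.polar_comm _ _ _⟩
  have hS1 : LinearMap.BilinForm.IsSymm (c • B₁) := ⟨fun u v => by
    show c * B₁ u v = c * B₁ v u
    rw [show B₁ u v = B₁ v u from QuadraticMap.polar_comm _ _ _]⟩
  have hN1 : (c • B₁).Nondegenerate := by
    refine ⟨fun u h => h₁.1 u fun v => ?_, fun v h => h₁.2 v fun u => ?_⟩
    · simpa [hc] using h v
    · simpa [hc] using h u
  obtain ⟨e, he⟩ := exists_isometry h2 (c • B₁) hS1 hN1 B₂ ⟨(hsym Q₂).eq⟩ h₂ rfl b b (by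
    have : gram (c • B₁) b = c • gram B₁ b := by
      ext i j; simp [gram]
    rw [this, Matrix.det_smul, Fintype.card_fin]
    obtain ⟨k, rfl⟩ := hn
    exact ⟨c ^ (k + 1), by show c ^ (2 * k + 1) * d₁ * d₂ = _; simp only [c]; ring⟩)
  refine ⟨e, c, hc, fun v => ?_⟩
  have h := he v v
  simp [hB₁, hB₂] at h
  exact mul_left_cancel₀ h2 (by linear_combination h)

end Cfsg.Agent.S0838
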