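import Cfsg.Statements.S0841
import Mathlib

set_option autoImplicit false
open Cfsg
open scoped commutatorElement

namespace Cfsg.Agent.S0841

/-- If the commutator subgroup of G lies in the centre, then for all x, y in G and every natural number n one has (x * y) ^ n = x ^ n * y ^ n * c ^ (n * (n - 1) / 2) with c = y⁻¹ * x⁻¹ * y * x. -/
theorem result {G : Type*} [Group G] (hG : commutator G ≤ Subgroup.center G) (x y : G) (n : ℕ) : (x * y) ^ n = x ^ n * y ^ n * (y⁻¹ * x⁻¹ * y * x) ^ (n * (n - 1) / 2) := by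
  set c : G := y⁻¹ * x⁻¹ * y * x with hc
  have hcen : c ∈ Subgroup.center G := by
    apply hG
    have : c = ⁅y⁻¹, x⁻¹⁆ := by simp [hc, commutatorElement_def]
    rw [this, commutator_def]
    exact Subgroup.commutator_mem_commutator (Subgroup.mem_top _) (Subgroup.mem_top _)
  have hcc : ∀ g : G, Commute c g := fun g => ((Subgroup.mem_center_iff.mp hcen) g).symm
  have hswap : ∀ k : ℕ, y ^ k * x = x * y ^ k * c ^ k := by
    intro k
    induction k with
    | zero => simp
    | succ k ih =>
      have h1 : y * x = x * y * c := by simp [hc, mul_assoc]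
      calc y ^ (k+1) * x = y * (y ^ k * x) := by rw [pow_succ', mul_assoc]
        _ = (y * x) * y ^ k * c ^ k := by rw [ih]; simp [mul_assoc]
        _ = x * y * (c * y ^ k) * c ^ k := by rw [h1]; simp [mul_assoc]
        _ = x * y * (y ^ k * c) * c ^ k := by rw [(hcc _).eq]
        _ = x * y ^ (k+1) * c ^ (k+1) := by rw [pow_succ' y, pow_succ' c]; simp [mul_assoc]
  induction n with
  | zero => simp
  | succ n ih =>
    have hn : (n + 1) * (n + 1 - 1) / 2 = n + n * (n - 1) / 2 := by
      have h2 : (n+1) * (n + 1 - 1) = n * (n - 1) + 2 * n := by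
        cases n with
        | zero => rfl
        | succ m => simp only [Nat.add_sub_cancel]; ring
      rw [h2, Nat.add_mul_div_left _ _ (by norm_num : 0 < 2), add_comm]
    calc (x * y) ^ (n+1) = x ^ n * y ^ n * c ^ (n * (n - 1) / 2) * (x * y) := by rw [pow_succ, ih]
      _ = x ^ n * y ^ n * ((x * y) * c ^ (n * (n - 1) / 2)) := by
          rw [mul_assoc (x ^ n * y ^ n), ((hcc (x*y)).pow_left _).eq]
      _ = x ^ n * (y ^ n * x) * y * c ^ (n * (n - 1) / 2) := by simp [mul_assoc]
      _ = x ^ n * x * y ^ n * (c ^ n * y) * c ^ (n * (n - 1) / 2) := by rw [hswap]; simp [mul_assoc]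
      _ = x ^ n * x * y ^ n * (y * c ^ n) * c ^ (n * (n - 1) / 2) := by rw [((hcc y).pow_left n).eq]
      _ = x ^ (n+1) * y ^ (n+1) * c ^ (n + n * (n - 1) / 2) := by
          rw [pow_succ x, pow_succ y, pow_add]; simp [mul_assoc]
      _ = _ := by rw [hn]

end Cfsg.Agent.S0841
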