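import Cfsg.Statements.S0842
import Cfsg.Agent.Lib.CharTheory.BrauerSuzuki.Complement
-- import your own Cfsg.Agent.* helpers here

set_option autoImplicit false
open Cfsg

open Cfsg.Agent.CharTheory.BrauerSuzuki

namespace Cfsg.Agent.S0842

/-- Suppose a Sylow 2-subgroup S of the finite group G is generalized quaternion of order at least 16, and let D be the commutator subgroup of S, C its centralizer and N its normalizer in G. Then there is a subgroup K of odd order, contained in C and normalized by N, with K ⊔ S = N and K ⊔ (S ⊓ C) = C, and C has index 2 in N. -/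
theorem result {G : Type*} [Group G] [Finite G] (S : Sylow 2 G) (n : ℕ) (e : (S : Subgroup G) ≃* QuaternionGroup (2 ^ (n + 2))) (D : Subgroup G) (hD : D = ⁅(S : Subgroup G), (S : Subgroup G)⁆) : ∃ K : Subgroup G, Odd (Nat.card K) ∧ K ≤ Subgroup.centralizer (D : Set G) ∧ Subgroup.normalizer (D : Set G) ≤ Subgroup.normalizer (K : Set G) ∧ K ⊔ (S : Subgroup G) = Subgroup.normalizer (D : Set G) ∧ K ⊔ ((S : Subgroup G) ⊓ Subgroup.centralizer (D : Set G)) = Subgroup.centralizer (D : Set G) ∧ ((Subgroup.centralizer (D : Set G)).subgroupOf (Subgroup.normalizer (D : Set G))).index = 2 := by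
  obtain ⟨x, y, h⟩ := exists_gen S n e
  obtain rfl : D = dgp x := hD.trans (commutator_eq h)
  obtain ⟨K, hodd, hK, hN, -, hcov⟩ := exists_complement h
  refine ⟨K, hodd, hK, hN, ?_, ?_, index_cgp h⟩
  · refine le_antisymm (sup_le (hK.trans cgp_le_ngp) (S_le_ngp h)) fun g hg => ?_
    obtain ⟨c, hc, hg'⟩ := exists_mul_of_mem_ngp h hg
    obtain ⟨k, hk, i, rfl⟩ := hcov c hc
    have h1 : k * x ^ i ∈ K ⊔ (S : Subgroup G) :=
      mul_mem (le_sup_left (a := K) hk) (le_sup_right (a := K) (zpow_mem_S h i))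
    rcases hg' with rfl | rfl
    · exact h1
    · exact mul_mem h1 (le_sup_right (a := K) h.mem_y)
  · refine le_antisymm (sup_le hK inf_le_right) fun c hc => ?_
    obtain ⟨k, hk, i, rfl⟩ := hcov c hc
    exact mul_mem (le_sup_left (a := K) hk)
      (le_sup_right (a := K) ⟨zpow_mem_S h i, zpow_mem (x_mem_cgp h) i⟩)

end Cfsg.Agent.S0842
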