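import Cfsg.Statements.S0844
import Cfsg.Agent.Lib.CharTheory.BrauerSuzuki.Main
-- import your own Cfsg.Agent.* helpers here

set_option autoImplicit false
open Cfsg

open Cfsg.Agent.CharTheory.BrauerSuzuki

namespace Cfsg.Agent.S0844

/-- Suppose a Sylow 2-subgroup S of the finite group G is generalized quaternion of order at least 16. Then G has two non-principal irreducible characters χ₁ and χ₂ with χ₁ 1 = χ₂ 1 + 1 such that χ₁ g - χ₂ g = 1 for every element g whose order is not divisible by 4. -/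
theorem result {G : Type*} [Group G] [Fintype G] (S : Sylow 2 G) (n : ℕ) (e : (S : Subgroup G) ≃* QuaternionGroup (2 ^ (n + 2))) : ∃ χ₁ χ₂ : G → ℂ, Cfsg.IsIrrCharacter G χ₁ ∧ Cfsg.IsIrrCharacter G χ₂ ∧ χ₁ ≠ (fun _ => 1) ∧ χ₂ ≠ (fun _ => 1) ∧ χ₁ 1 = χ₂ 1 + 1 ∧ ∀ g : G, ¬ 4 ∣ orderOf g → χ₁ g - χ₂ g = 1 := by
  obtain ⟨x, y, h⟩ := exists_gen S n e
  obtain ⟨Φ, χ₁, χ₂, i₁, i₂, n₁, n₂, hdeg, hΦ, -, hsupp⟩ := exists_exceptional h
  refine ⟨χ₁, χ₂, i₁, i₂, n₁, n₂, hdeg, fun g hg => ?_⟩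
  have h0 : Φ g = 0 := by
    by_contra hne
    obtain ⟨a, -, ha⟩ := hsupp g hne
    rw [card_dgp h, show orderOf (a⁻¹ * g * a) = orderOf g by
      simpa using orderOf_injective (MulAut.conj a⁻¹).toMonoidHom (MulAut.conj a⁻¹).injective g] at ha
    exact hg ((show 4 ∣ 2 ^ (n + 2) from ⟨2 ^ n, by ring⟩).trans ha)
  rw [hΦ] at h0
  linear_combination -h0

end Cfsg.Agent.S0844
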