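import Cfsg.Statements.S0849
import Mathlib
import Cfsg.Agent.Lib.CharTheory.IndBasic

set_option autoImplicit false
open Cfsg
open Cfsg.Agent.CharTheory.IndBasic

namespace Cfsg.Agent.S0849

/-- Let H be a subgroup of a finite group G and S a subset of H that is mapped to itself under conjugation by H, is disjoint from its conjugate by any element outside H, and is closed under inverses. Let φ be a class function of H vanishing on H away from S, and let u, v be involutions of G. Then the sum of the induced function of φ over all products a * b with a conjugate to u and b conjugate to v equals the index of H times the sum of φ (a * b) over such pairs with a and b in H. -/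
theorem result {G : Type*} [Group G] [Fintype G] (H : Subgroup G) (S : Set G) (hSH : S ⊆ H) (hHS : ∀ h ∈ H, ∀ s ∈ S, h * s * h⁻¹ ∈ S) (hTI : ∀ g : G, g ∉ H → ∀ s ∈ S, g * s * g⁻¹ ∉ S) (hinv : ∀ s ∈ S, s⁻¹ ∈ S) (φ : H → ℂ) (hφ : Cfsg.IsClassFunction H φ) (hφS : ∀ x : H, (x : G) ∉ S → φ x = 0) (u v : G) (hu : orderOf u = 2) (hv : orderOf v = 2) : ∑ᶠ p ∈ {p : G × G | IsConj u p.1 ∧ IsConj v p.2}, Cfsg.indFun H φ (p.1 * p.2) = (H.index : ℂ) * ∑ᶠ p ∈ {p : H × H | IsConj u (p.1 : G) ∧ IsConj v (p.2 : G)}, φ (p.1 * p.2) := by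
  classical
  set P : Finset (G × G) := Finset.univ.filter fun p => IsConj u p.1 ∧ IsConj v p.2 with hP
  set Q : Finset (H × H) :=
    Finset.univ.filter fun p => IsConj u (p.1 : G) ∧ IsConj v (p.2 : G) with hQ
  rw [finsum_mem_eq_finite_toFinset_sum _ (Set.toFinite _),
    finsum_mem_eq_finite_toFinset_sum _ (Set.toFinite _),
    show (Set.toFinite {p : G × G | IsConj u p.1 ∧ IsConj v p.2}).toFinset = P by ext; simp [hP],
    show (Set.toFinite {p : H × H | IsConj u (p.1 : G) ∧ IsConj v (p.2 : G)}).toFinset = Q by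
      ext; simp [hQ]]
  have hinvol : ∀ {w p : G}, orderOf w = 2 → IsConj w p → p⁻¹ = p := by
    intro w p hw hp
    obtain ⟨c, rfl⟩ := isConj_iff.mp hp
    have hw2 : w * w = 1 := by rw [← sq, ← hw, pow_orderOf_eq_one]
    rw [conj_inv, inv_eq_of_mul_eq_one_left hw2]
  have hconj : ∀ (x w p : G), IsConj w (x⁻¹ * p * x) ↔ IsConj w p := by
    intro x w p
    have h1 : IsConj p (x⁻¹ * p * x) := isConj_iff.mpr ⟨x⁻¹, by simp⟩
    exact ⟨fun h => h.trans h1.symm, fun h => h.trans h1⟩
  have hshift : ∀ x : G, ∑ p ∈ P, Cfsg.extendByZero H φ (x⁻¹ * (p.1 * p.2) * x) =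
      ∑ p ∈ P, Cfsg.extendByZero H φ (p.1 * p.2) := by
    intro x
    refine Finset.sum_equiv
      ((MulAut.conj x⁻¹).toEquiv.prodCongr (MulAut.conj x⁻¹).toEquiv) (fun p => ?_) (fun p _ => ?_)
    · simp only [hP, Finset.mem_filter, Finset.mem_univ, true_and, Equiv.prodCongr_apply, Prod.map,
        MulEquiv.toEquiv_eq_coe, EquivLike.coe_coe, MulAut.conj_apply, inv_inv, hconj]
    · simp [mul_assoc]
  have hsupp : ∑ p ∈ P, Cfsg.extendByZero H φ (p.1 * p.2) = ∑ p ∈ Q, φ (p.1 * p.2) := by
    symm
    refine Finset.sum_of_injOn (fun p : H × H => ((p.1 : G), (p.2 : G)))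
      (fun p _ q _ h => Prod.ext (Subtype.ext (congrArg Prod.fst h))
        (Subtype.ext (congrArg Prod.snd h))) (fun p hp => ?_) (fun p hp hnot => ?_) (fun p _ => ?_)
    · simpa [hP, hQ] using hp
    · obtain ⟨p, q⟩ := p
      simp only [hP, Finset.mem_filter, Finset.mem_univ, true_and] at hp
      by_cases hpq : p * q ∈ H
      · rw [extendByZero_of_mem H φ hpq]
        refine hφS _ fun hS => ?_
        have hpH : p ∈ H := by
          by_contra hpn
          refine hTI p hpn _ hS ?_
          have h1 : p * (p * q) * p⁻¹ = (p * q)⁻¹ := by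
            have hp' := hinvol hu hp.1
            have hq' := hinvol hv hp.2
            have hpp : p * p = 1 := by
              conv_lhs => arg 1; rw [← hp']
              exact inv_mul_cancel p
            rw [mul_inv_rev, hp', hq', ← mul_assoc p, hpp, one_mul]
          rw [h1]
          exact hinv _ hS
        have hqH : q ∈ H := (H.mul_mem_cancel_left hpH).mp hpq
        refine hnot ⟨(⟨p, hpH⟩, ⟨q, hqH⟩), ?_, rfl⟩
        simp only [hQ, Finset.coe_filter, Set.mem_ofPred_eq, Finset.mem_univ, true_and]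
        exact hp
      · exact extendByZero_of_notMem H φ hpq
    · exact (extendByZero_coe H φ (p.1 * p.2)).symm
  have h0 : (Nat.card H : ℂ) ≠ 0 := Nat.cast_ne_zero.mpr Nat.card_pos.ne'
  apply mul_left_cancel₀ h0
  simp_rw [Finset.mul_sum, card_mul_indFun]
  rw [Finset.sum_comm, Finset.sum_congr rfl fun x _ => hshift x, Finset.sum_const, Finset.card_univ,
    nsmul_eq_mul, hsupp, Finset.mul_sum]
  refine Finset.sum_congr rfl fun p _ => ?_
  rw [← mul_assoc, ← Nat.cast_mul, H.card_mul_index, Nat.card_eq_fintype_card]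

end Cfsg.Agent.S0849
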