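import Cfsg.Statements.S0855
import Cfsg.Agent.Lib.CharTheory.Ito

set_option autoImplicit false
open Cfsg

namespace Cfsg.Agent.S0855

open Cfsg.Agent.Characters

universe u

theorem complement_aux (p : ℕ) (hp : p.Prime) : ∀ (m : ℕ) (G : Type u) [Group G] [Finite G],
    Nat.card G = m → (∀ χ : Cfsg.IrrCharacter G, ∃ k : ℕ, (χ : G → ℂ) 1 = (p : ℂ) ^ k) →
    ∃ A : Subgroup G, A.Normal ∧ (∀ a ∈ A, ∀ b ∈ A, a * b = b * a) ∧
      Nat.Coprime (Nat.card A) p ∧ ∃ k : ℕ, A.index = p ^ k := by
  intro m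
  induction m using Nat.strong_induction_on with
  | _ m ih =>
  intro G _ _ hm hdeg
  classical
  haveI := Fact.mk hp
  haveI := Fintype.ofFinite G
  haveI := Fintype.ofFinite (Cfsg.IrrCharacter G)
  by_cases hlin : ∀ χ : Cfsg.IrrCharacter G, (χ : G → ℂ) 1 = 1
  · -- abelian group
    have hcomm := comm_of_forall_degree_one hlin
    obtain ⟨P⟩ : Nonempty (Sylow p G) := inferInstance
    haveI : (P : Subgroup G).Normal :=
      ⟨fun x hx g => by rwa [hcomm g x, mul_inv_cancel_right]⟩
    obtain ⟨B, hB⟩ := Subgroup.exists_right_complement'_of_coprime P.card_coprime_index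
    refine ⟨B, ⟨fun x hx g => by rwa [hcomm g x, mul_inv_cancel_right]⟩,
      fun a _ b _ => hcomm a b, ?_, ?_⟩
    · have h := hB.symm.index_eq_card
      rw [← h]
      exact (hp.coprime_iff_not_dvd.2 P.not_dvd_index).symm
    · exact ⟨(Nat.card G).factorization p, hB.index_eq_card.trans P.card_eq_multiplicity⟩
  · -- a normal subgroup of index `p`
    push Not at hlin
    obtain ⟨χ₀, hχ₀⟩ := hlin
    choose k hk using hdeg
    have hpG : p ∣ Nat.card G := by
      obtain ⟨d, hd, -, hdvd⟩ := irr_degree_dvd_card χ₀.2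
      have hk0 : k χ₀ ≠ 0 := fun h => hχ₀ (by rw [hk, h, pow_zero])
      refine dvd_trans ?_ hdvd
      rw [show d = p ^ k χ₀ by exact_mod_cast hd.symm.trans (hk χ₀)]
      exact dvd_pow_self p hk0
    have hpidx : p ∣ (commutator G).index := by
      have hs := sum_degree_sq (G := G)
      simp only [hk] at hs
      have hs' : ∑ χ : Cfsg.IrrCharacter G, (p ^ k χ) ^ 2 = Nat.card G := by exact_mod_cast hs
      rw [← Finset.sum_filter_add_sum_filter_not Finset.univ (fun χ => k χ = 0),
        Finset.sum_congr rfl (g := fun _ => 1) (fun χ hχ => by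
          rw [(Finset.mem_filter.1 hχ).2, pow_zero, one_pow]), Finset.sum_const, smul_eq_mul,
        mul_one, ← Fintype.card_subtype, ← Nat.card_eq_fintype_card] at hs'
      have hc : Nat.card {χ : Cfsg.IrrCharacter G // k χ = 0} = (commutator G).index := by
        rw [← card_degree_one]
        refine Nat.card_congr (Equiv.subtypeEquivRight fun χ => ?_)
        rw [hk]
        refine ⟨fun h => by rw [h, pow_zero], fun h => ?_⟩
        have h' : p ^ k χ = 1 := by exact_mod_cast h
        exact (pow_eq_one_iff.1 h').resolve_left hp.ne_one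
      rw [hc] at hs'
      refine (Nat.dvd_add_left (Finset.dvd_sum fun χ hχ => ?_)).1 (hs' ▸ hpG)
      exact dvd_trans (dvd_pow_self p (Finset.mem_filter.1 hχ).2) (dvd_pow_self _ two_ne_zero)
    rw [← card_linear_hom] at hpidx
    haveI : Finite (G →* ℂˣ) :=
      Nat.finite_of_card_ne_zero (by rw [card_linear_hom]; exact Subgroup.index_ne_zero_of_finite)
    obtain ⟨f, hf⟩ := exists_prime_orderOf_dvd_card' p hpidx
    have hfp : ∀ x, f x ^ p = 1 := fun x => by
      rw [← MonoidHom.pow_apply, ← hf, pow_orderOf_eq_one, MonoidHom.one_apply]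
    have hfr : f.ker.index = p := by
      rw [Subgroup.index_ker]
      have hle : f.range ≤ rootsOfUnity p ℂ := by
        rintro _ ⟨x, rfl⟩
        exact (mem_rootsOfUnity p _).2 (hfp x)
      haveI : NeZero p := ⟨hp.ne_zero⟩
      have hcard : Nat.card (rootsOfUnity p ℂ) = p := Complex.card_rootsOfUnity p
      have hdvd := Subgroup.card_dvd_of_le hle
      rw [hcard] at hdvd
      refine (hp.eq_one_or_self_of_dvd _ hdvd).resolve_left fun h1 => ?_
      have : f = 1 := MonoidHom.ext fun x => by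
        have h2 : f x ∈ f.range := ⟨x, rfl⟩
        rw [Subgroup.card_eq_one.1 h1, Subgroup.mem_bot] at h2
        exact h2
      rw [this, orderOf_one] at hf
      exact hp.ne_one hf.symm
    set N := f.ker with hN
    have hlt : Nat.card N < m := by
      rw [← hm, ← N.card_mul_index, hfr]
      exact lt_mul_of_one_lt_right Nat.card_pos hp.one_lt
    haveI := Fintype.ofFinite N
    have hdegN : ∀ θ : Cfsg.IrrCharacter N, ∃ j : ℕ, (θ : N → ℂ) 1 = (p : ℂ) ^ j := by
      intro θ
      obtain ⟨d, hd⟩ := char_one_nat (irr_isCharacter θ)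
      obtain ⟨χ, hχ, hne⟩ := Cfsg.Agent.CharTheory.Ito.exists_constituent
        (isCharacter_indFun N (irr_isCharacter θ)) (by
          rw [indFun_one]
          exact mul_ne_zero (Nat.cast_ne_zero.2 Subgroup.index_ne_zero_of_finite)
            (irr_one_ne_zero θ.2))
      have hne' : Cfsg.classInner (fun n : N => χ n) (θ : N → ℂ) ≠ 0 := by
        intro h
        apply hne
        rw [frobenius_reciprocity N _ (char_isClassFunction (isCharacter_of_isIrr hχ)),
          classInner_conj_symm, h, map_zero]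
      have hdvd := (Cfsg.Agent.S0887.result N χ hχ (θ : N → ℂ) θ.2 hne' (p ^ k ⟨χ, hχ⟩) d
        (by rw [Nat.cast_pow]; exact hk ⟨χ, hχ⟩) hd).1
      obtain ⟨j, -, hj⟩ := (Nat.dvd_prime_pow hp).1 hdvd
      exact ⟨j, by rw [hd, hj, Nat.cast_pow]⟩
    obtain ⟨A, hAn, hAab, hAcop, j, hj⟩ := ih _ hlt N rfl hdegN
    refine ⟨A.map N.subtype, ⟨?_⟩, ?_, ?_, j + 1, ?_⟩
    · rintro _ ⟨a, ha, rfl⟩ g
      refine ⟨⟨g * a * g⁻¹, (inferInstance : N.Normal).conj_mem _ a.2 g⟩, ?_, rfl⟩
      haveI := hAn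
      set x : N := ⟨g * a * g⁻¹, (inferInstance : N.Normal).conj_mem _ a.2 g⟩
      have hx : x ^ Nat.card A = 1 := by
        have h1 : a ^ Nat.card A = 1 := congrArg Subtype.val (pow_card_eq_one' (x := (⟨a, ha⟩ : A)))
        apply Subtype.ext
        show (g * (a : G) * g⁻¹) ^ Nat.card A = 1
        rw [conj_pow, ← SubmonoidClass.coe_pow, h1]
        simp
      rw [SetLike.mem_coe, ← QuotientGroup.eq_one_iff]
      have h1 : orderOf (x : N ⧸ A) ∣ Nat.card A := orderOf_dvd_of_pow_eq_one (by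
        rw [← QuotientGroup.mk_pow, hx, QuotientGroup.mk_one])
      have h2 : orderOf (x : N ⧸ A) ∣ p ^ j := hj ▸ orderOf_dvd_natCard _
      rw [← orderOf_eq_one_iff]
      exact Nat.eq_one_of_dvd_coprimes (hAcop.pow_right j) h1 h2
    · rintro _ ⟨a, ha, rfl⟩ _ ⟨b, hb, rfl⟩
      rw [← map_mul, ← map_mul, hAab a ha b hb]
    · rwa [Subgroup.card_map_of_injective N.subtype_injective]
    · rw [Subgroup.index_map_subtype, hj, hfr, pow_succ]

/-- For a finite group G and a prime p: every irreducible character of G has degree a power of p if and only if G has an abelian normal subgroup whose order is prime to p and whose index is a power of p. -/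
theorem result {G : Type*} [Group G] [Finite G] (p : ℕ) (hp : p.Prime) : (∀ χ : Cfsg.IrrCharacter G, ∃ k : ℕ, (χ : G → ℂ) 1 = (p : ℂ) ^ k) ↔ ∃ A : Subgroup G, A.Normal ∧ (∀ a ∈ A, ∀ b ∈ A, a * b = b * a) ∧ Nat.Coprime (Nat.card A) p ∧ ∃ k : ℕ, A.index = p ^ k := by
  refine ⟨complement_aux p hp _ G rfl, ?_⟩
  rintro ⟨A, hA, hab, -, j, hj⟩ χ
  obtain ⟨d, hd, hdvd⟩ := Cfsg.Agent.CharTheory.Ito.degree_dvd_index_abelian A hab χ.2
  obtain ⟨i, -, hi⟩ := (Nat.dvd_prime_pow hp).1 (hj ▸ hdvd)
  exact ⟨i, by rw [hd, hi, Nat.cast_pow]⟩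

end Cfsg.Agent.S0855
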