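import Cfsg.Statements.S0856
import Mathlib
import Cfsg.Agent.Lib.CharTheory.Clifford

set_option autoImplicit false
open Cfsg Cfsg.Agent.Characters
open Cfsg.Agent.CharTheory

namespace Cfsg.Agent.S0856

/-- Let N be a normal subgroup of the finite group G and φ, ϑ irreducible characters of N that are invariant under conjugation by G, such that the pointwise product φ * ϑ is irreducible and ϑ is the restriction of an irreducible character χ of G. Then multiplication by χ is a bijection from the set of irreducible characters of G having nonzero inner product with the function induced from φ onto the set of those having nonzero inner product with the function induced from φ * ϑ. -/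
theorem result {G : Type*} [Group G] [Fintype G] (N : Subgroup G) [hN : N.Normal] (φ ϑ : N → ℂ) (hφ : Cfsg.IsIrrCharacter N φ) (hϑ : Cfsg.IsIrrCharacter N ϑ) (hφinv : ∀ (g : G) (n : N), φ ⟨g * n * g⁻¹, hN.conj_mem (n : G) n.2 g⟩ = φ n) (hϑinv : ∀ (g : G) (n : N), ϑ ⟨g * n * g⁻¹, hN.conj_mem (n : G) n.2 g⟩ = ϑ n) (hprod : Cfsg.IsIrrCharacter N (φ * ϑ)) (χ : G → ℂ) (hχ : Cfsg.IsIrrCharacter G χ) (hext : ∀ n : N, χ n = ϑ n) : Set.BijOn (fun β : G → ℂ => β * χ) {β : G → ℂ | Cfsg.IsIrrCharacter G β ∧ Cfsg.classInner (Cfsg.indFun N φ) β ≠ 0} {ψ : G → ℂ | Cfsg.IsIrrCharacter G ψ ∧ Cfsg.classInner (Cfsg.indFun N (φ * ϑ)) ψ ≠ 0} := by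
  classical
  haveI := Fintype.ofFinite (Cfsg.IrrCharacter G)
  haveI := Fintype.ofFinite N
  set Φ := Cfsg.indFun N φ with hΦdef
  have hχc := isCharacter_of_isIrr hχ
  have hΦ : Cfsg.IsCharacter G Φ := isCharacter_indFun N (isCharacter_of_isIrr hφ)
  have hφ' : ∀ g : G, Clifford.conjBy N g φ = φ := fun g => funext (hφinv g)
  have hp' : ∀ g : G, Clifford.conjBy N g (φ * ϑ) = φ * ϑ := fun g => funext fun n => by
    simp only [Clifford.conjBy_apply, Pi.mul_apply, hφinv g n, hϑinv g n]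
  have hprod' : Cfsg.indFun N (φ * ϑ) = Φ * χ := by
    funext g
    by_cases hg : g ∈ N
    · lift g to N using hg
      rw [Pi.mul_apply, hΦdef, Clifford.indFun_coe_of_invariant N hφ',
        Clifford.indFun_coe_of_invariant N hp', hext, Pi.mul_apply]
      ring
    · rw [Pi.mul_apply, hΦdef, Clifford.indFun_of_notMem N _ hg, Clifford.indFun_of_notMem N _ hg,
        zero_mul]
  rw [hprod']
  choose a ha using fun β : Cfsg.IrrCharacter G => classInner_char_nat hΦ (irr_isCharacter β)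
  have hexp : Φ = ∑ β, (a β : ℂ) • (β : G → ℂ) := by
    conv_lhs => rw [classFun_eq_sum (char_isClassFunction hΦ)]
    simp only [ha]
  have hexpχ : Φ * χ = ∑ β, (a β : ℂ) • ((β : G → ℂ) * χ) := by
    rw [hexp, Finset.sum_mul]
    simp only [smul_mul_assoc]
  choose k hk using fun β γ : Cfsg.IrrCharacter G =>
    classInner_char_nat (isCharacter_mul (irr_isCharacter β) hχc)
      (isCharacter_mul (irr_isCharacter γ) hχc)
  have hnorm : ∑ β, ∑ γ, a β * a γ * k β γ = N.index := by
    have h := Clifford.classInner_indFun_self N hprod hp'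
    rw [hprod', hexpχ] at h
    simp only [classInner_sum_left, classInner_sum_right, classInner_smul_left,
      classInner_smul_right, map_natCast, hk, Finset.mul_sum] at h
    rw [← Nat.cast_inj (R := ℂ), ← h]
    push_cast
    rw [Finset.sum_comm]
    exact Finset.sum_congr rfl fun β _ => Finset.sum_congr rfl fun γ _ => by ring
  have hsq : ∑ β, a β * a β = N.index := by
    have h1 := classInner_eq_sum Φ (char_isClassFunction hΦ)
    rw [hΦdef, Clifford.classInner_indFun_self N hφ hφ', ← hΦdef] at h1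
    simp only [fun β : Cfsg.IrrCharacter G => classInner_conj_symm Φ (β : G → ℂ), ha,
      map_natCast] at h1
    exact_mod_cast h1.symm
  have hk1 : ∀ β, 1 ≤ k β β := by
    intro β
    refine Nat.one_le_iff_ne_zero.mpr fun h0 => ?_
    have h := hk β β
    rw [h0, Nat.cast_zero, classInner_self_eq_zero] at h
    have := congrFun h 1
    rw [Pi.mul_apply, Pi.zero_apply, mul_eq_zero] at this
    exact this.elim (irr_one_ne_zero β.2) (irr_one_ne_zero hχ)
  have hle : ∀ β, ∀ γ ∈ (Finset.univ : Finset (Cfsg.IrrCharacter G)),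
      (if β = γ then a β * a β else 0) ≤ a β * a γ * k β γ := by
    intro β γ _
    split_ifs with h
    · subst h; exact Nat.le_mul_of_pos_right _ (hk1 β)
    · exact Nat.zero_le _
  have heq : ∀ β γ, (if β = γ then a β * a β else 0) = a β * a γ * k β γ := by
    intro β γ
    have h1 : ∑ β, ∑ γ, (if β = γ then a β * a β else 0) = ∑ β, ∑ γ, a β * a γ * k β γ := by
      rw [hnorm, ← hsq]; simp
    have h2 := (Finset.sum_eq_sum_iff_of_le (fun β _ => Finset.sum_le_sum (hle β))).mp h1 β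
      (Finset.mem_univ _)
    exact (Finset.sum_eq_sum_iff_of_le (hle β)).mp h2 γ (Finset.mem_univ _)
  have hkδ : ∀ β γ, a β ≠ 0 → a γ ≠ 0 → k β γ = if β = γ then 1 else 0 := by
    intro β γ hβ hγ
    have h := heq β γ
    split_ifs at h ⊢ with hbg
    · subst hbg
      exact (Nat.eq_of_mul_eq_mul_left (Nat.pos_of_ne_zero (mul_ne_zero hβ hβ))
        (by rw [mul_one]; exact h)).symm
    · simpa [hβ, hγ] using h.symm
  have hmem : ∀ β : Cfsg.IrrCharacter G, Cfsg.classInner Φ (β : G → ℂ) ≠ 0 ↔ a β ≠ 0 := by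
    intro β; rw [ha]; exact_mod_cast Iff.rfl
  have hirr : ∀ β, a β ≠ 0 → Cfsg.IsIrrCharacter G ((β : G → ℂ) * χ) := fun β hβ =>
    isIrr_of_isCharacter_of_norm_one (isCharacter_mul (irr_isCharacter β) hχc)
      (by rw [hk, hkδ β β hβ hβ, if_pos rfl, Nat.cast_one])
  refine ⟨?_, ?_, ?_⟩
  · rintro β ⟨hβ, hne⟩
    have h0 : a ⟨β, hβ⟩ ≠ 0 := (hmem _).mp hne
    refine ⟨hirr _ h0, ?_⟩
    rw [hexpχ, classInner_sum_left]
    simp only [classInner_smul_left]
    rw [Finset.sum_eq_single (⟨β, hβ⟩ : Cfsg.IrrCharacter G) ?_ (fun h => absurd (Finset.mem_univ _) h)]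
    · rw [hk ⟨β, hβ⟩ ⟨β, hβ⟩, hkδ _ _ h0 h0, if_pos rfl, Nat.cast_one, mul_one]
      exact_mod_cast h0
    · intro γ _ hγ
      rcases eq_or_ne (a γ) 0 with h | h
      · rw [h, Nat.cast_zero, zero_mul]
      · rw [hk γ ⟨β, hβ⟩, hkδ _ _ h h0, if_neg hγ, Nat.cast_zero, mul_zero]
  · rintro β ⟨hβ, hne⟩ γ ⟨hγ, hne'⟩ heqv
    by_contra hbg
    have h0 := (hmem ⟨β, hβ⟩).mp hne
    have h1 := (hmem ⟨γ, hγ⟩).mp hne'
    have h := hk ⟨β, hβ⟩ ⟨γ, hγ⟩
    rw [hkδ _ _ h0 h1, if_neg (fun h => hbg (congrArg Subtype.val h))] at h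
    change Cfsg.classInner (β * χ) (γ * χ) = _ at h
    change β * χ = γ * χ at heqv
    rw [← heqv, classInner_isIrr_self (hirr _ h0)] at h
    simp at h
  · rintro ψ ⟨hψ, hne⟩
    rw [hexpχ, classInner_sum_left] at hne
    obtain ⟨β, -, hβ⟩ := Finset.exists_ne_zero_of_sum_ne_zero hne
    rw [classInner_smul_left] at hβ
    obtain ⟨h0, h1⟩ := mul_ne_zero_iff.mp hβ
    have h0' : a β ≠ 0 := by exact_mod_cast h0
    refine ⟨β.1, ⟨β.2, (hmem β).mpr h0'⟩, ?_⟩
    by_contra hne'
    exact h1 (classInner_isIrr_ne (hirr β h0') hψ hne')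

end Cfsg.Agent.S0856
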