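import Mathlib
import Cfsg.Statements.S4558
import Cfsg.Agent.Lib.Characters.Basic

set_option autoImplicit false
open Cfsg

namespace Cfsg.Agent.S4558

/-- Let χ be a character of the finite group G and g an element of p-power order for the prime p. If χ g = 0, then p divides the degree of χ. -/
theorem result {G : Type*} [Group G] [Finite G] (p : ℕ) [Fact p.Prime] (χ : G → ℂ) (hχ : Cfsg.IsCharacter G χ) (g : G) (hg : ∃ j : ℕ, orderOf g = p ^ j) (h0 : χ g = 0) : p ∣ Cfsg.charDegree χ := by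
  obtain ⟨n, ρ, rfl⟩ := hχ
  obtain ⟨j, hj⟩ := hg
  obtain ⟨w, hw, hk⟩ := Cfsg.Agent.Characters.exists_rootsOfUnity_sum ρ g
  have hd : Cfsg.charDegree ρ.character = Module.finrank ℂ (Fin n → ℂ) := by
    simp [Cfsg.charDegree]
  rw [hd]
  clear hd
  revert w
  generalize Module.finrank ℂ (Fin n → ℂ) = d
  intro w hw hk
  have hwi : ∀ i, w i ∈ Cfsg.AlgInt := fun i =>
    IsIntegral.of_pow (orderOf_pos g) (by rw [hw i]; exact isIntegral_one)
  let a : Fin d → Cfsg.AlgInt := fun i => ⟨w i, hwi i⟩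
  have hp := (Fact.out : p.Prime)
  have h1 : ∑ i, a i = 0 := by
    apply Subtype.ext
    have := hk 1
    rw [pow_one, h0] at this
    simp only [pow_one] at this
    push_cast
    exact this.symm
  have ha : ∀ i, a i ^ (p ^ j) = 1 := fun i => Subtype.ext (by simpa [hj] using hw i)
  obtain ⟨r, hr⟩ : (p : Cfsg.AlgInt) ∣ (∑ i, a i) ^ (p ^ j) - ∑ i, a i ^ (p ^ j) := by
    rw [← Ideal.mem_span_singleton]
    by_cases hu : IsUnit (p : Cfsg.AlgInt)
    · rw [Ideal.span_singleton_eq_top.2 hu]; trivial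
    haveI := CharP.quotient Cfsg.AlgInt p hu
    rw [← Ideal.Quotient.eq_zero_iff_mem, map_sub, map_pow, map_sum, map_sum,
      sum_pow_char_pow p, sub_eq_zero]
    simp
  rw [h1, zero_pow (pow_ne_zero _ hp.ne_zero), zero_sub] at hr
  simp only [ha, Finset.sum_const, Finset.card_univ, Fintype.card_fin, nsmul_eq_mul, mul_one] at hr
  have hr' : -(d : ℂ) = (p : ℂ) * (r : ℂ) := by
    have := congrArg Subtype.val hr
    simpa using this
  have hrat : (r : ℂ) = algebraMap ℚ ℂ (-(d : ℚ) / p) := by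
    have hp' : (p : ℂ) ≠ 0 := by exact_mod_cast hp.ne_zero
    simp only [map_div₀, map_neg, map_natCast]
    rw [hr', mul_div_cancel_left₀ _ hp']
  have hi : IsIntegral ℤ (-(d : ℚ) / p) :=
    (isIntegral_algebraMap_iff (algebraMap ℚ ℂ).injective).1 (hrat ▸ r.2)
  obtain ⟨k, hk'⟩ := IsIntegrallyClosed.isIntegral_iff.1 hi
  have hkq : ((k * p : ℤ) : ℚ) = ((-(d : ℤ) : ℤ) : ℚ) := by
    have hp' : (p : ℚ) ≠ 0 := by exact_mod_cast hp.ne_zero
    push_cast
    rw [show (k : ℚ) = -(d : ℚ) / p from by simpa using hk']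
    field_simp
  have hkz : k * p = -(d : ℤ) := by exact_mod_cast hkq
  have : (p : ℤ) ∣ (d : ℤ) := ⟨-k, by rw [mul_neg, mul_comm, hkz, neg_neg]⟩
  exact_mod_cast this

end Cfsg.Agent.S4558
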