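import Cfsg.Statements.S0861
import Cfsg.Agent.Lib.CharTheory.Ito
import Cfsg.Agent.Lib.Characters.Galois
import Cfsg.Agent.S4558

set_option autoImplicit false
open Cfsg

namespace Cfsg.Agent.S0861

open Cfsg.Agent.Characters
open scoped ComplexConjugate

/-- Let P be a normal abelian Sylow p-subgroup of the finite group G and suppose some element g of P has centralizer exactly P. Then the number of irreducible characters of G is at most the order of P, and if equality holds then G / P is abelian (the commutator subgroup lies in P). -/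
theorem result {G : Type*} [Group G] [Finite G] (p : ℕ) [Fact p.Prime] (P : Sylow p G) [(P : Subgroup G).Normal] (hab : ∀ a ∈ P, ∀ b ∈ P, a * b = b * a) (g : G) (hg : g ∈ P) (hC : Subgroup.centralizer ({g} : Set G) = P) : Nat.card (Cfsg.IrrCharacter G) ≤ Nat.card P ∧ (Nat.card (Cfsg.IrrCharacter G) = Nat.card P → commutator G ≤ P) := by
  classical
  haveI := Fintype.ofFinite G
  haveI := Fintype.ofFinite (Cfsg.IrrCharacter G)
  have hp : p.Prime := Fact.out
  -- character values on `P` do not vanish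
  have hne : ∀ (χ : Cfsg.IrrCharacter G) (x : G), x ∈ P → (χ : G → ℂ) x ≠ 0 := by
    intro χ x hx h0
    obtain ⟨d, hd, hdvd⟩ := Cfsg.Agent.CharTheory.Ito.degree_dvd_index_abelian
      (P : Subgroup G) hab χ.2
    obtain ⟨j, hj⟩ := P.2 ⟨x, hx⟩
    obtain ⟨i, -, hi⟩ := (Nat.dvd_prime_pow hp).1
      (orderOf_dvd_of_pow_eq_one (show x ^ p ^ j = 1 by simpa using congrArg Subtype.val hj))
    have h1 := Cfsg.Agent.S4558.result p (χ : G → ℂ) (irr_isCharacter χ) x ⟨i, hi⟩ h0
    rw [Cfsg.charDegree, hd, Complex.natCast_re, Nat.floor_natCast] at h1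
    exact P.not_dvd_index (h1.trans hdvd)
  set M := Nat.card G with hMdef
  have hM : 0 < M := Nat.card_pos
  set ζ := Complex.exp (2 * Real.pi * Complex.I / M)
  have hζ : IsPrimitiveRoot ζ M := Complex.isPrimitiveRoot_exp M hM.ne'
  haveI : NeZero M := ⟨hM.ne'⟩
  have hR : ∀ μ ∈ primitiveRoots M ℂ, ∃ k, k.Coprime M ∧ ζ ^ k = μ := fun μ hμ => by
    obtain ⟨k, _, hk, hk'⟩ := (hζ.isPrimitiveRoot_iff (ξ := μ) (k := M)).1
      ((mem_primitiveRoots hM).1 hμ)
    exact ⟨k, hk, hk'⟩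
  choose! k hk hk' using hR
  -- for each conjugate the squared values sum to `|P|`
  have hcol : ∀ μ ∈ primitiveRoots M ℂ,
      ∑ χ : Cfsg.IrrCharacter G, ‖(χ : G → ℂ) (g ^ k μ)‖ ^ 2 = (Nat.card P : ℝ) := by
    intro μ hμ
    apply Complex.ofReal_injective
    push_cast
    simp only [← Complex.mul_conj']
    rw [second_orthogonality, if_pos (IsConj.refl _)]
    obtain ⟨l, hl⟩ := exists_pow_eq_self_of_coprime
      ((hk μ hμ).coprime_dvd_right (orderOf_dvd_natCard g))
    have : Subgroup.centralizer ({g ^ k μ} : Set G) = (P : Subgroup G) := by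
      rw [← hC]
      ext y
      simp only [Subgroup.mem_centralizer_iff, Set.mem_singleton_iff, forall_eq]
      refine ⟨fun h => ?_, fun h => (Commute.pow_left h (k μ)).eq⟩
      have := (Commute.pow_left (show Commute (g ^ k μ) y from h) l).eq
      rwa [hl] at this
    rw [this]
  set R := primitiveRoots M ℂ with hRdef
  have hRpos : 0 < (R.card : ℝ) := by
    exact_mod_cast Finset.card_pos.2 ⟨ζ, (mem_primitiveRoots hM).2 hζ⟩
  -- Galois averaging
  have hge : ∀ χ : Cfsg.IrrCharacter G,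
      (R.card : ℝ) ≤ ∑ μ ∈ R, ‖(χ : G → ℂ) (g ^ k μ)‖ ^ 2 ∧
      ((R.card : ℝ) = ∑ μ ∈ R, ‖(χ : G → ℂ) (g ^ k μ)‖ ^ 2 →
        ∀ μ ∈ R, ‖(χ : G → ℂ) (g ^ k μ)‖ ^ 2 = 1) := by
    intro χ
    obtain ⟨n, σ, -, hσ⟩ := χ.2
    obtain ⟨Q, hQ⟩ := exists_poly_values σ g hM pow_card_eq_one' hζ
    have hval : ∀ μ ∈ R, (χ : G → ℂ) (g ^ k μ) = Polynomial.aeval μ Q := fun μ hμ => by
      rw [← hσ, hQ, hk' μ hμ]
    have hnz : ∀ μ ∈ R, Polynomial.aeval μ Q ≠ 0 := fun μ hμ =>
      hval μ hμ ▸ hne χ _ ((P : Subgroup G).pow_mem hg _)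
    have hprod := one_le_prod_norm_primitiveRoots hM Q
      (fun μ hμ => hval μ hμ ▸ char_value_isIntegral (irr_isCharacter χ) _) hnz
    have hpos : ∀ μ ∈ R, 0 < ‖Polynomial.aeval μ Q‖ ^ 2 := fun μ hμ =>
      pow_pos (norm_pos_iff.2 (hnz μ hμ)) 2
    have hlog : 0 ≤ ∑ μ ∈ R, Real.log (‖Polynomial.aeval μ Q‖ ^ 2) := by
      rw [← Real.log_prod (fun μ hμ => (hpos μ hμ).ne'), Finset.prod_pow]
      exact Real.log_nonneg (one_le_pow₀ hprod)
    rw [Finset.sum_congr rfl (fun μ hμ => by rw [hval μ hμ])]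
    refine ⟨?_, fun heq μ hμ => ?_⟩
    · have h2 := hlog.trans
        (Finset.sum_le_sum fun μ hμ => Real.log_le_sub_one_of_pos (hpos μ hμ))
      rwa [Finset.sum_sub_distrib, sub_nonneg, Finset.sum_const, nsmul_one] at h2
    · rw [hval μ hμ]
      by_contra h1
      have h2 := hlog.trans_lt (Finset.sum_lt_sum
        (fun ν hν => Real.log_le_sub_one_of_pos (hpos ν hν))
        ⟨μ, hμ, Real.log_lt_sub_one_of_pos (hpos μ hμ) h1⟩)
      rw [Finset.sum_sub_distrib, Finset.sum_const, nsmul_one, ← heq, sub_self] at h2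
      exact lt_irrefl _ h2
  have htot : ∑ χ : Cfsg.IrrCharacter G, ∑ μ ∈ R, ‖(χ : G → ℂ) (g ^ k μ)‖ ^ 2 =
      (R.card : ℝ) * (Nat.card P : ℝ) := by
    rw [Finset.sum_comm, Finset.sum_congr rfl hcol, Finset.sum_const, nsmul_eq_mul]
  have hle := Finset.sum_le_sum (s := (Finset.univ : Finset (Cfsg.IrrCharacter G)))
    fun χ _ => (hge χ).1
  rw [htot, Finset.sum_const, nsmul_eq_mul, Finset.card_univ, ← Nat.card_eq_fintype_card,
    mul_comm, mul_le_mul_iff_right₀ hRpos, Nat.cast_le] at hle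
  refine ⟨hle, fun heq => ?_⟩
  have hall := (Finset.sum_eq_sum_iff_of_le
    (s := (Finset.univ : Finset (Cfsg.IrrCharacter G))) fun χ _ => (hge χ).1).1 (by
    rw [htot, Finset.sum_const, nsmul_eq_mul, Finset.card_univ, ← Nat.card_eq_fintype_card,
      heq, mul_comm])
  -- characters of the quotient are linear
  have hlin : ∀ ψ : Cfsg.IrrCharacter (G ⧸ (P : Subgroup G)),
      (ψ : G ⧸ (P : Subgroup G) → ℂ) 1 = 1 := by
    intro ψ
    obtain ⟨d, hd0, hd⟩ := irr_one_pos ψ.2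
    let χ : Cfsg.IrrCharacter G := ⟨_, isIrrCharacter_comp_surjective
      (QuotientGroup.mk' (P : Subgroup G)) (QuotientGroup.mk'_surjective _) ψ.2⟩
    have hμ : ζ ∈ R := (mem_primitiveRoots hM).2 hζ
    have h1 := (hge χ).2 (hall χ (Finset.mem_univ _)) ζ hμ
    have hg1 : QuotientGroup.mk' (P : Subgroup G) (g ^ k ζ) = 1 :=
      (QuotientGroup.eq_one_iff _).2 ((P : Subgroup G).pow_mem hg _)
    simp only [χ, Function.comp_apply, hg1, hd, Complex.norm_natCast] at h1
    have h2 : d ^ 2 = 1 := by exact_mod_cast h1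
    rw [hd, (pow_eq_one_iff.1 h2).resolve_right two_ne_zero, Nat.cast_one]
  rw [commutator_def, Subgroup.commutator_le]
  intro a _ b _
  rw [← QuotientGroup.eq_one_iff, commutatorElement_def]
  simp only [QuotientGroup.mk_mul, QuotientGroup.mk_inv]
  rw [comm_of_forall_degree_one hlin (a : G ⧸ (P : Subgroup G)) (b : G ⧸ (P : Subgroup G))]
  group

end Cfsg.Agent.S0861
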