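import Cfsg.Statements.S0865
import Mathlib
import Cfsg.Agent.Lib.CharTheory.ExtendChar

set_option autoImplicit false
open Cfsg Cfsg.Agent.Characters Cfsg.Agent.CharTheory

namespace Cfsg.Agent.S0865

/-- Let N be a normal subgroup of the finite group G and λ a character of N of degree 1, invariant under conjugation by G, whose order (under pointwise multiplication) is coprime to the index of N. Then there is a character μ of G of degree 1 restricting to λ with the same order as λ, and μ is the only degree-1 character of G restricting to λ whose order is coprime to the index of N. -/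
theorem result {G : Type*} [Group G] [Finite G] (N : Subgroup G) [hN : N.Normal] (lam : N → ℂ) (hlam : Cfsg.IsCharacter N lam ∧ lam 1 = 1) (hinv : ∀ (g : G) (n : N), lam ⟨g * n * g⁻¹, hN.conj_mem (n : G) n.2 g⟩ = lam n) (hcop : Nat.Coprime N.index (orderOf lam)) : ∃ μ : G → ℂ, (Cfsg.IsCharacter G μ ∧ μ 1 = 1 ∧ (∀ n : N, μ n = lam n) ∧ orderOf μ = orderOf lam) ∧ ∀ μ' : G → ℂ, Cfsg.IsCharacter G μ' ∧ μ' 1 = 1 → (∀ n : N, μ' n = lam n) → Nat.Coprime N.index (orderOf μ') → μ' = μ := by
  obtain ⟨μ, hres, hord⟩ := ExtendChar.exists_linear_extension_coprime N hlam hinv hcop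
  refine ⟨_, ⟨(ExtendChar.hom_isLinear μ).1, (ExtendChar.hom_isLinear μ).2, hres, hord⟩, ?_⟩
  intro μ' hμ' hres' hcop'
  exact ExtendChar.linear_extension_unique N (ExtendChar.hom_isLinear μ).1
    (ExtendChar.hom_isLinear μ).2 hμ'.1 hμ'.2 (fun n => (hres' n).trans (hres n).symm)
    (hord ▸ hcop) hcop'

end Cfsg.Agent.S0865
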