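import Cfsg.Statements.S0869
import Mathlib

set_option autoImplicit false
open Cfsg

namespace Cfsg.Agent.S0869

/-- Let S be a nonempty finite type and R an additive subgroup of the integer-valued functions on S that is closed under pointwise multiplication. If the constant function 1 is not in R, then there exist a point x of S and a prime p such that p divides f x for every f in R. -/
theorem result {S : Type*} [Finite S] [Nonempty S] (R : AddSubgroup (S → ℤ)) (hmul : ∀ f ∈ R, ∀ g ∈ R, f * g ∈ R) (h1 : (1 : S → ℤ) ∉ R) : ∃ (x : S) (p : ℕ), p.Prime ∧ ∀ f ∈ R, (p : ℤ) ∣ f x := by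
  classical
  have := Fintype.ofFinite S
  by_contra hne
  push_neg at hne
  have key : ∀ x : S, ∃ f ∈ R, f x = 1 := by
    intro x
    obtain ⟨d, hd⟩ := Int.subgroup_cyclic (R.map (Pi.evalAddMonoidHom (fun _ : S => ℤ) x))
    rw [← AddSubgroup.zmultiples_eq_closure] at hd
    have hmem : ∀ f ∈ R, d ∣ f x := by
      intro f hf
      have : f x ∈ AddSubgroup.zmultiples d := by rw [← hd]; exact ⟨f, hf, rfl⟩
      exact Int.mem_zmultiples_iff.mp this
    have hd1 : IsUnit d := by
      by_contra hu
      rw [Int.isUnit_iff_natAbs_eq] at hu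
      obtain ⟨q, hq, hqd⟩ := Nat.exists_prime_and_dvd hu
      obtain ⟨f, hf, hf'⟩ := hne x q hq
      exact hf' ((Int.natCast_dvd.mpr hqd).trans (hmem f hf))
    have : (1 : ℤ) ∈ R.map (Pi.evalAddMonoidHom (fun _ : S => ℤ) x) := by
      rw [hd]; exact Int.mem_zmultiples_iff.mpr (isUnit_iff_dvd_one.mp hd1)
    exact this
  have main : ∀ T : Finset S, ∃ g ∈ R, ∀ x ∈ T, g x = 1 := by
    intro T
    induction T using Finset.induction_on with
    | empty => exact ⟨0, R.zero_mem, by simp⟩
    | insert a T ha ih =>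
      obtain ⟨g, hg, hg1⟩ := ih
      obtain ⟨f, hf, hf1⟩ := key a
      refine ⟨f + g - f * g, R.sub_mem (R.add_mem hf hg) (hmul f hf g hg), fun x hx => ?_⟩
      rcases Finset.mem_insert.mp hx with rfl | hx
      · simp [hf1]
      · simp [hg1 x hx]
  obtain ⟨g, hg, hg1⟩ := main Finset.univ
  exact h1 ((funext fun x => hg1 x (Finset.mem_univ x) : g = 1) ▸ hg)

end Cfsg.Agent.S0869
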