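import Cfsg.Statements.S0876
import Mathlib
import Cfsg.Agent.Lib.CharTheory.Sections
import Cfsg.Agent.Lib.Blocks.LocalRing

set_option autoImplicit false
open Cfsg Cfsg.Agent.Characters Cfsg.Agent.CharTheory
open Cfsg.Agent

namespace Cfsg.Agent.S0876

/-- Let G be a finite group, p a prime and M a maximal ideal of the ring of algebraic integers containing p. Let x, y be elements with p-parts a and b (so a⁻¹ * x and b⁻¹ * y are their p-regular parts). Then a⁻¹ * x and b⁻¹ * y are conjugate in G if and only if, for every irreducible character χ, the difference χ x - χ y lies in the local ideal at M. -/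
theorem result {G : Type*} [Group G] [Finite G] (p : ℕ) (M : Ideal Cfsg.AlgInt) (hM : Cfsg.IsPModular p M) (x y a b : G) (ha : Cfsg.IsPPart p x a) (hb : Cfsg.IsPPart p y b) : IsConj (a⁻¹ * x) (b⁻¹ * y) ↔ ∀ χ : Cfsg.IrrCharacter G, Cfsg.MemLocalIdeal M ((χ : G → ℂ) x - (χ : G → ℂ) y) := by
  classical
  have := Fintype.ofFinite G
  have := Fintype.ofFinite (Cfsg.IrrCharacter G)
  have hp : p.Prime := hM.1
  obtain ⟨k, n, hn, hcard⟩ := Nat.exists_eq_pow_mul_and_not_dvd (Nat.card_pos (α := G)).ne' p hp.ne_one
  set m := p ^ k with hm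
  have hcop : Nat.Coprime m n := (hp.coprime_iff_not_dvd.mpr hn).pow_left k
  -- the `p'`-part
  have hpart : ∀ x a : G, Cfsg.IsPPart p x a → a⁻¹ * x = Sections.nPart hcop x := by
    rintro x a ⟨w, rfl, haw, ⟨j, hj⟩, hw⟩
    rw [inv_mul_cancel_left, Sections.nPart_mul hcop haw
      (Sections.pow_eq_one_of_coprime hcard (hj ▸ (hp.coprime_iff_not_dvd.mpr hn).pow_left j))
      (Sections.pow_eq_one_of_coprime (m := n) (n := m) (by rw [hcard, mul_comm])
        (((hp.coprime_iff_not_dvd.mpr hw).symm).pow_right k))]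
  rw [hpart x a ha, hpart y b hb]
  -- a character is congruent to its value at the `p'`-part
  have hcong : ∀ (χ : Cfsg.IrrCharacter G) (z : G),
      Cfsg.MemLocalIdeal M ((χ : G → ℂ) z - (χ : G → ℂ) (Sections.nPart hcop z)) := by
    rintro ⟨χ, d, ρ, -, rfl⟩ z
    obtain ⟨w, hw, hsum⟩ := exists_rootsOfUnity_sum ρ z
    have h1 := hsum 1
    simp only [pow_one] at h1
    show Cfsg.MemLocalIdeal M (ρ.character z - ρ.character (z ^ Sections.idem hcop))
    rw [h1, hsum, ← Finset.sum_sub_distrib]
    refine Blocks.ideal_sum hM fun i _ => ?_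
    have hwN : w i ^ (m * n) = 1 := by
      obtain ⟨c, hc⟩ := orderOf_dvd_natCard z
      rw [← hcard, hc, pow_mul, hw, one_pow]
    have hsplit : w i = w i ^ Sections.idem hcop.symm * w i ^ Sections.idem hcop := by
      have h2 := pow_eq_pow_mod (Sections.idem hcop.symm + Sections.idem hcop) hwN
      rw [Sections.idem_add hcop, ← pow_eq_pow_mod 1 hwN, pow_one, pow_add] at h2
      exact h2.symm
    have h3 : (w i ^ Sections.idem hcop.symm) ^ m = 1 := by
      obtain ⟨j, hj⟩ := Nat.modEq_zero_iff_dvd.mp (Sections.idem_modEq_zero hcop.symm)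
      rw [← pow_mul, hj, show n * j * m = m * n * j by ring, pow_mul, hwN, one_pow]
    rw [show w i - w i ^ Sections.idem hcop =
      (w i ^ Sections.idem hcop.symm - 1) * w i ^ Sections.idem hcop by
        rw [sub_mul, ← hsplit, one_mul]]
    exact Blocks.ideal_mul_right hM (Blocks.cong_one_of_pow_prime_pow hM (k := k) h3)
      (Blocks.ring_pow hM (Blocks.ring_of_pow_eq_one hM (orderOf_pos z).ne' (hw i)) _)
  constructor
  · intro hxy χ
    obtain ⟨c, hc⟩ := isConj_iff.mp hxy
    have h1 := hcong χ x
    have h2 := hcong χ y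
    rw [← hc, irr_isClassFunction χ] at h2
    simpa using Blocks.ideal_sub hM h1 h2
  · intro hall
    by_contra hne
    set g := Sections.nPart hcop x with hg
    have hS : Cfsg.MemLocalIdeal M (Sections.sectionFun hcop g x - Sections.sectionFun hcop g y) := by
      rw [classFun_eq_sum (Sections.isClassFunction_sectionFun hcop g)]
      simp only [Finset.sum_apply, Pi.smul_apply, smul_eq_mul, ← Finset.sum_sub_distrib, ← mul_sub]
      exact Blocks.ideal_sum hM fun χ _ => Blocks.ideal_mul_left hM
        (Blocks.ring_of_isIntegral hM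
          (Sections.classInner_sectionFun_isIntegral hcop hcard g (irr_isCharacter χ))) (hall χ)
    simp only [Sections.sectionFun] at hS
    rw [if_pos (hg ▸ IsConj.refl g), if_neg (fun h => hne h.symm), sub_zero] at hS
    exact hn ((Blocks.ideal_natCast_iff hM n).mp hS)

end Cfsg.Agent.S0876
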