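import Cfsg.Statements.S0877
import Mathlib
import Cfsg.Agent.Lib.Characters.Kernel
import Cfsg.Agent.Lib.CharTheory.Sections

set_option autoImplicit false
open Cfsg Cfsg.Agent.Characters Cfsg.Agent.CharTheory
open scoped ComplexConjugate

namespace Cfsg.Agent.S0877

theorem isElementary_of_surjective {A B : Type*} [Group A] [Group B] [Finite A] (f : A →* B)
    (hf : Function.Surjective f) {p : ℕ} (hp : p.Prime) (h : Cfsg.IsElementary p A) :
    Cfsg.IsElementary p B := by
  obtain ⟨x, hx, hcop, k, hk⟩ := h
  refine ⟨f x, ?_, hcop.coprime_dvd_left (orderOf_map_dvd f x), ?_⟩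
  · refine Subgroup.mem_center_iff.mpr fun y => ?_
    obtain ⟨z, rfl⟩ := hf y
    rw [← map_mul, ← map_mul, Subgroup.mem_center_iff.mp hx]
  · have h1 : (Subgroup.zpowers (f x)).index ∣ p ^ k := by
      rw [← MonoidHom.map_zpowers, ← hk]
      exact Subgroup.index_map_dvd _ hf
    obtain ⟨i, -, hi⟩ := (Nat.dvd_prime_pow hp).mp h1
    exact ⟨i, hi⟩

/-- Let H be a subgroup of the finite group G whose order is coprime to its index. Suppose that elements of H conjugate in G are conjugate in H, and that every subgroup E of G that is elementary for some prime (in the sense used for Brauer's characterisation of characters) and whose order divides the order of H is conjugate to a subgroup of H. Then there is a normal subgroup K with K ⊔ H = ⊤ and K ⊓ H trivial. -/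
theorem result {G : Type*} [Group G] [Finite G] (H : Subgroup G) (hHall : Nat.Coprime (Nat.card H) H.index) (hfus : ∀ x ∈ H, ∀ y ∈ H, IsConj x y → ∃ h ∈ H, h * x * h⁻¹ = y) (helem : ∀ (E : Subgroup G) (p : ℕ), p.Prime → Cfsg.IsElementary p E → Nat.card E ∣ Nat.card H → ∃ g : G, E.map (MulAut.conj g).toMonoidHom ≤ H) : ∃ K : Subgroup G, K.Normal ∧ K ⊔ H = ⊤ ∧ K ⊓ H = ⊥ := by
  classical
  have := Fintype.ofFinite G
  have := Fintype.ofFinite H
  set n := Nat.card H with hn
  set m := H.index with hm
  have hcard : Nat.card G = m * n := (H.index_mul_card).symm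
  have hcard' : Nat.card G = n * m := by rw [hcard, mul_comm]
  have hcop : Nat.Coprime m n := hHall.symm
  have hn0 : (n : ℂ) ≠ 0 := natCard_ne_zero
  -- every element of exponent `n` is conjugate into `H`
  have hinto : ∀ v : G, v ^ n = 1 → ∃ r : H, IsConj v (r : G) := by
    intro v hv
    obtain ⟨p, hple, hp⟩ := Nat.exists_infinite_primes (orderOf v + 1)
    have hcp : Nat.Coprime (orderOf v) p := Nat.Coprime.symm (hp.coprime_iff_not_dvd.mpr
      fun hd => absurd (Nat.le_of_dvd (orderOf_pos v) hd) (by omega))
    have hel : Cfsg.IsElementary p (Subgroup.zpowers v) := by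
      refine ⟨⟨v, Subgroup.mem_zpowers v⟩, ?_, by rwa [Subgroup.orderOf_mk], 0, ?_⟩
      · refine Subgroup.mem_center_iff.mpr ?_
        rintro ⟨y, i, rfl⟩
        exact Subtype.ext (Commute.zpow_self v i).eq
      · rw [pow_zero, Subgroup.index_eq_one, Subgroup.eq_top_iff']
        rintro ⟨y, i, rfl⟩
        exact ⟨i, Subtype.ext (by simp)⟩
    obtain ⟨g, hg⟩ := helem _ p hp hel (by rw [Nat.card_zpowers]; exact orderOf_dvd_of_pow_eq_one hv)
    refine ⟨⟨_, hg (Subgroup.mem_map_of_mem _ (Subgroup.mem_zpowers v))⟩, isConj_iff.mpr ⟨g, ?_⟩⟩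
    simp
  choose r hr using fun x : G => hinto _ (Sections.nPart_pow hcop hcard x)
  have hfusH : ∀ {θ : H → ℂ}, Cfsg.IsClassFunction H θ → ∀ (a b : H),
      IsConj (a : G) (b : G) → θ a = θ b := by
    intro θ hθ a b hab
    obtain ⟨k, hk, hkab⟩ := hfus _ a.2 _ b.2 hab
    have h1 : (⟨k, hk⟩ : H) * a * (⟨k, hk⟩ : H)⁻¹ = b := Subtype.ext hkab
    rw [← h1, hθ]
  have hnH : ∀ h : H, Sections.nPart hcop (h : G) = (h : G) := fun h =>
    Sections.pow_idem_self hcop (by rw [← Subgroup.coe_pow, hn, pow_card_eq_one', OneMemClass.coe_one])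
  have hrH : ∀ {θ : H → ℂ}, Cfsg.IsClassFunction H θ → ∀ h : H, θ (r (h : G)) = θ h := fun hθ h =>
    hfusH hθ _ _ ((hnH h ▸ hr (h : G)).symm)
  -- the extended functions are class functions and generalized characters
  have hcls : ∀ {θ : H → ℂ}, Cfsg.IsClassFunction H θ →
      Cfsg.IsClassFunction G (fun x => θ (r x)) := by
    intro θ hθ x y
    refine hfusH hθ _ _ ((hr _).symm.trans (IsConj.trans ?_ (hr x)))
    exact (isConj_iff.mpr ⟨y, (Sections.nPart_conj hcop y x).symm⟩ : IsConj (Sections.nPart hcop x)
      (Sections.nPart hcop (y * x * y⁻¹))).symm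
  have hgen : ∀ {θ : H → ℂ}, Cfsg.IsCharacter H θ →
      Cfsg.IsGeneralizedCharacter G (fun x => θ (r x)) := by
    intro θ hθ
    refine BrauerInduction.isGen_of_elementary (hcls (char_isClassFunction hθ)) fun E p hp hel => ?_
    have hE : ∀ x : E, x ^ (m * n) = 1 := fun x => Subtype.ext (by
      rw [Subgroup.coe_pow, Sections.pow_mul_eq_one hcard]; rfl)
    have hE' : ∀ x : E, x ^ (n * m) = 1 := fun x => by rw [mul_comm]; exact hE x
    set U := Sections.torsionPart hcop hE hp hel
    set V := Sections.torsionPart hcop.symm hE' hp hel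
    have hUn : U.Normal := ⟨fun x hx y => by
      show (y * x * y⁻¹) ^ m = 1
      rw [conj_pow, show x ^ m = 1 from hx, mul_one, mul_inv_cancel]⟩
    have hVn : V.Normal := ⟨fun x hx y => by
      show (y * x * y⁻¹) ^ n = 1
      rw [conj_pow, show x ^ n = 1 from hx, mul_one, mul_inv_cancel]⟩
    have hdisj : Disjoint U V := by
      rw [disjoint_iff, eq_bot_iff]
      intro x hx
      rw [Subgroup.mem_bot, ← orderOf_eq_one_iff]
      exact Nat.eq_one_of_dvd_coprimes hcop (orderOf_dvd_of_pow_eq_one hx.1)
        (orderOf_dvd_of_pow_eq_one hx.2)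
    have hVmem : ∀ x : E, Sections.nPart hcop x ∈ V := fun x => Subtype.ext (by
      simpa [Sections.nPart] using Sections.nPart_pow hcop hcard (x : G))
    have hUmem : ∀ x : E, Sections.nPart hcop.symm x ∈ U := fun x => Subtype.ext (by
      simpa [Sections.nPart] using Sections.nPart_pow hcop.symm hcard' (x : G))
    have hdec : ∀ x : E, Sections.nPart hcop.symm x * Sections.nPart hcop x = x := fun x =>
      Subtype.ext (by simpa [Sections.nPart] using Sections.mPart_mul_nPart hcop hcard (x : G))
    let pr : E →* V := MonoidHom.mk' (fun x => ⟨_, hVmem x⟩) fun x y => Subtype.ext (by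
      have hUV : ∀ a ∈ U, ∀ b ∈ V, Commute a b := fun a ha b hb =>
        Subgroup.commute_of_normal_of_disjoint U V hUn hVn hdisj a b ha hb
      show Sections.nPart hcop (x * y) = Sections.nPart hcop x * Sections.nPart hcop y
      have he : x * y = (Sections.nPart hcop.symm x * Sections.nPart hcop.symm y) *
          (Sections.nPart hcop x * Sections.nPart hcop y) := by
        conv_lhs => rw [← hdec x, ← hdec y]
        simp only [mul_assoc]
        rw [← mul_assoc (Sections.nPart hcop x), ← (hUV _ (hUmem y) _ (hVmem x)).eq, mul_assoc]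
      conv_lhs => rw [he]
      exact Sections.nPart_mul hcop (hUV _ (U.mul_mem (hUmem x) (hUmem y)) _
        (V.mul_mem (hVmem x) (hVmem y))) (U.mul_mem (hUmem x) (hUmem y))
        (V.mul_mem (hVmem x) (hVmem y)))
    have hsurj : Function.Surjective pr := fun v => ⟨(v : E), Subtype.ext
      (show Sections.nPart hcop (v : E) = (v : E) from Sections.pow_idem_self hcop v.2)⟩
    have hVel := isElementary_of_surjective pr hsurj hp hel
    have hVel' : Cfsg.IsElementary p (V.map E.subtype) :=
      BrauerInduction.isElementary_of_mulEquiv (V.equivMapOfInjective _ E.subtype_injective) hVel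
    have hVdvd : Nat.card (V.map E.subtype) ∣ n := by
      rw [Subgroup.card_map_of_injective E.subtype_injective]
      have h1 : Nat.card V ∣ m * n :=
        hcard ▸ ((V.card_subgroup_dvd_card).trans E.card_subgroup_dvd_card)
      refine Nat.Coprime.dvd_of_dvd_mul_left (Nat.coprime_of_dvd fun q hq hqV hqm => ?_) h1
      have := Fact.mk hq
      obtain ⟨v, hv⟩ := exists_prime_orderOf_dvd_card' q hqV
      have h2 : q ∣ n := by
        rw [← hv, ← Subgroup.orderOf_coe]
        exact orderOf_dvd_of_pow_eq_one v.2
      exact hq.one_lt.ne' (Nat.eq_one_of_dvd_coprimes hcop hqm h2)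
    obtain ⟨g, hg⟩ := helem _ p hp hVel' hVdvd
    let f : E →* H := ((MulAut.conj g).toMonoidHom.comp (E.subtype.comp (V.subtype.comp pr))).codRestrict
      H fun x => hg (Subgroup.mem_map_of_mem _ (Subgroup.mem_map_of_mem _ (pr x).2))
    have hf : (fun e : E => θ (r (e : G))) = θ ∘ f := funext fun x => by
      refine hfusH (char_isClassFunction hθ) _ _ ((hr (x : G)).symm.trans (isConj_iff.mpr ⟨g, ?_⟩))
      simp [f, pr, Sections.nPart]
    rw [hf]
    exact isGen_of_isCharacter (isCharacter_comp f hθ)
  -- weights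
  set CH : G → Subgroup G := fun v => H ⊓ Subgroup.centralizer ({v} : Set G) with hCH
  set Cc : G → ℕ := fun v => Nat.card (Subgroup.centralizer ({v} : Set G)) with hCc
  set N : G → ℕ := fun v => Nat.card {x : G // Sections.nPart hcop x = v} with hN
  have hdvd : ∀ h : H, Cc h ∣ N h * Nat.card (CH h) := by
    intro h
    set C := Subgroup.centralizer ({(h : G)} : Set G) with hC
    have hCdvd : Nat.card C ∣ m * n := hcard ▸ C.card_subgroup_dvd_card
    have hsplit : Nat.card C = Nat.gcd (Nat.card C) m * Nat.gcd (Nat.card C) n := by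
      rw [← Nat.Coprime.gcd_mul _ hcop, Nat.gcd_eq_left hCdvd]
    show Nat.card C ∣ _
    rw [hsplit]
    refine mul_dvd_mul ?_ ?_
    · have hFrob := Sections.dvd_card_pow_eq_one (G := C)
        (hcop.coprime_dvd_left (Nat.gcd_dvd_right _ m) |>.coprime_dvd_right (Nat.gcd_dvd_right _ n))
        hsplit
      refine hFrob.trans (dvd_of_eq (Nat.card_congr ?_))
      have hcomm : ∀ u : C, Commute (u : G) (h : G) := fun u =>
        Subgroup.mem_centralizer_singleton_iff.mp u.2
      have hmem : ∀ x : G, Sections.nPart hcop x = (h : G) → Sections.nPart hcop.symm x ∈ C := by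
        intro x hx
        refine Subgroup.mem_centralizer_singleton_iff.mpr ?_
        rw [← hx]
        exact Sections.commute_parts hcop x
      have hpow : ∀ u : C, u ^ Nat.gcd (Nat.card C) m = 1 ↔ (u : G) ^ m = 1 := by
        intro u
        rw [pow_gcd_eq_one, pow_card_eq_one', and_iff_right rfl, ← Subgroup.coe_pow,
          OneMemClass.coe_eq_one]
      exact
        { toFun := fun u => ⟨(u.1 : G) * h, Sections.nPart_mul hcop (hcomm u.1) ((hpow u.1).mp u.2)
            (by rw [← Subgroup.coe_pow, hn, pow_card_eq_one', OneMemClass.coe_one])⟩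
          invFun := fun x => ⟨⟨_, hmem x.1 x.2⟩, (hpow _).mpr (Sections.nPart_pow hcop.symm hcard' x.1)⟩
          left_inv := fun u => Subtype.ext (Subtype.ext (by
            show Sections.nPart hcop.symm ((u.1 : G) * h) = (u.1 : G)
            rw [(hcomm u.1).eq]
            exact Sections.nPart_mul hcop.symm (hcomm u.1).symm
              (by rw [← Subgroup.coe_pow, hn, pow_card_eq_one', OneMemClass.coe_one])
              ((hpow u.1).mp u.2)))
          right_inv := fun x => Subtype.ext (by
            show Sections.nPart hcop.symm x.1 * (h : G) = x.1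
            conv_rhs => rw [← Sections.mPart_mul_nPart hcop hcard x.1, x.2]) }
    · refine (Nat.dvd_iff_prime_pow_dvd_dvd _ _).mpr fun q j hq hqj => ?_
      have := Fact.mk hq
      have hqC : q ^ j ∣ Nat.card C := hqj.trans (Nat.gcd_dvd_left _ _)
      have hqn : q ^ j ∣ n := hqj.trans (Nat.gcd_dvd_right _ _)
      obtain ⟨S', hS'⟩ := Sylow.exists_subgroup_card_pow_prime q hqC
      set S := S'.map C.subtype with hS
      have hScard : Nat.card S = q ^ j := by
        rw [hS, Subgroup.card_map_of_injective C.subtype_injective, hS']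
      have hSC : S ≤ C := Subgroup.map_subtype_le _
      set E := S ⊔ Subgroup.zpowers (h : G) with hE
      have hSN : S ≤ Subgroup.normalizer (Subgroup.zpowers (h : G) : Set G) := fun y hy => by
        refine Subgroup.centralizer_le_normalizer _ (Subgroup.mem_centralizer_iff.mpr fun c hc => ?_)
        obtain ⟨i, rfl⟩ := Subgroup.mem_zpowers_iff.mp hc
        exact (Commute.zpow_right
          (show Commute y (h : G) from Subgroup.mem_centralizer_singleton_iff.mp (hSC hy)) i).eq.symm
      obtain ⟨t, htcard⟩ : ∃ t, t ∣ q ^ j ∧ Nat.card E = orderOf (h : G) * t := by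
        refine ⟨(Subgroup.zpowers (h : G)).relIndex E, ?_, ?_⟩
        · rw [hE, QuasiElementary.relIndex_sup_of_le_normalizer hSN, ← hScard]
          exact Subgroup.index_dvd_card _
        · rw [← Nat.card_zpowers, ← Subgroup.relIndex_bot_left, ← Subgroup.relIndex_bot_left]
          exact (Subgroup.relIndex_mul_relIndex ⊥ _ E bot_le le_sup_right).symm
      obtain ⟨u, v, huv, -, hu, hv, ⟨i, hvi⟩, hucop⟩ :=
        QuasiElementary.exists_pPart_decomp (h : G) hq
      have huE : u ∈ E := (le_sup_right : _ ≤ E) hu
      have hel : Cfsg.IsElementary q E := by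
        refine ⟨⟨u, huE⟩, Subgroup.mem_center_iff.mpr fun y => Subtype.ext ?_,
          by rwa [Subgroup.orderOf_mk], ?_⟩
        · have hEC : E ≤ Subgroup.centralizer ({u} : Set G) := by
            obtain ⟨i', hi'⟩ := Subgroup.mem_zpowers_iff.mp hu
            refine sup_le (fun y' hy' => ?_) (Subgroup.zpowers_le.mpr ?_) <;>
              refine Subgroup.mem_centralizer_singleton_iff.mpr ?_
            · rw [← hi']
              exact (Commute.zpow_right (show Commute y' (h : G) from
                Subgroup.mem_centralizer_singleton_iff.mp (hSC hy')) i').eq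
            · rw [← hi']
              exact (Commute.refl (h : G)).zpow_right i'
          exact Subgroup.mem_centralizer_singleton_iff.mp (hEC y.2)
        · have h1 : (Subgroup.zpowers (⟨u, huE⟩ : E)).index * orderOf u = orderOf (h : G) * t := by
            rw [← htcard.2, ← (Subgroup.zpowers (⟨u, huE⟩ : E)).index_mul_card, Nat.card_zpowers,
              Subgroup.orderOf_mk]
          have h2 : orderOf (h : G) ∣ orderOf u * q ^ i := by
            rw [huv, ← hvi]
            exact (Commute.orderOf_mul_dvd_lcm (x := u) (y := v) (by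
              obtain ⟨a, ha⟩ := Subgroup.mem_zpowers_iff.mp hu
              obtain ⟨b, hb⟩ := Subgroup.mem_zpowers_iff.mp hv
              rw [← ha, ← hb]
              exact Commute.zpow_zpow_self _ _ _)).trans (Nat.lcm_dvd_mul _ _)
          have h3 : (Subgroup.zpowers (⟨u, huE⟩ : E)).index * orderOf u ∣ q ^ (i + j) * orderOf u := by
            rw [h1, pow_add, mul_comm (q ^ i * q ^ j), ← mul_assoc]
            exact mul_dvd_mul h2 htcard.1
          obtain ⟨l, -, hl⟩ :=
            (Nat.dvd_prime_pow hq).mp (Nat.dvd_of_mul_dvd_mul_right (orderOf_pos u) h3)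
          exact ⟨l, hl⟩
      have hEn : Nat.card E ∣ n := by
        have h1 : Nat.card E ∣ n * n := by
          rw [htcard.2]
          exact mul_dvd_mul (by rw [Subgroup.orderOf_coe, hn]; exact orderOf_dvd_natCard h)
            (htcard.1.trans hqn)
        have h2 : Nat.card E ∣ m * n := hcard ▸ E.card_subgroup_dvd_card
        exact ((hcop.mul_right hcop).symm.coprime_dvd_left h1).dvd_of_dvd_mul_left h2
      obtain ⟨g, hg⟩ := helem E q hq hel hEn
      have hgE : ∀ y ∈ E, g * y * g⁻¹ ∈ H := fun y hy => by
        simpa using hg (Subgroup.mem_map_of_mem _ hy)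
      obtain ⟨k, hk, hkh⟩ := hfus _ (hgE _ ((le_sup_right : _ ≤ E) (Subgroup.mem_zpowers _))) _ h.2
        (isConj_iff.mpr ⟨g⁻¹, by simp [mul_assoc]⟩)
      have hle : S.map (MulAut.conj (k * g)).toMonoidHom ≤ CH h := by
        rintro _ ⟨y, hy, rfl⟩
        simp only [MulEquiv.coe_toMonoidHom, MulAut.conj_apply]
        refine ⟨?_, Subgroup.mem_centralizer_singleton_iff.mpr ?_⟩
        · have h1 := H.mul_mem (H.mul_mem hk (hgE y ((le_sup_left : S ≤ E) hy))) (H.inv_mem hk)
          simpa [mul_assoc] using h1
        · have hconj : MulAut.conj (k * g) (h : G) = (h : G) := by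
            simpa [mul_assoc] using hkh
          have hc : Commute y (h : G) := Subgroup.mem_centralizer_singleton_iff.mp (hSC hy)
          have h2 := congrArg (MulAut.conj (k * g)) hc.eq
          rwa [map_mul (MulAut.conj (k * g)), map_mul (MulAut.conj (k * g)), hconj] at h2
      have h4 := Subgroup.card_dvd_of_le hle
      rwa [Subgroup.card_map_of_injective (MulAut.conj (k * g)).injective, hScard] at h4
  set w : H → ℂ := fun h => (Nat.card (CH h) : ℂ) / ((Cc h : ℂ) * n) with hw
  have hCc0 : ∀ v : G, (Cc v : ℂ) ≠ 0 := fun v => natCard_ne_zero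
  have hCH0 : ∀ v : G, (Nat.card (CH v) : ℂ) ≠ 0 := fun v => natCard_ne_zero
  have hcent : ∀ v y : G, Subgroup.centralizer ({y * v * y⁻¹} : Set G) =
      (Subgroup.centralizer ({v} : Set G)).map (MulAut.conj y).toMonoidHom := by
    intro v y
    ext z
    simp only [Subgroup.mem_map, Subgroup.mem_centralizer_singleton_iff,
      MulEquiv.coe_toMonoidHom, MulAut.conj_apply]
    constructor
    · intro hz
      refine ⟨y⁻¹ * z * y, ?_, by simp [mul_assoc]⟩
      have := congrArg (fun t => y⁻¹ * t * y) hz
      simpa [mul_assoc] using this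
    · rintro ⟨z', hz', rfl⟩
      have := congrArg (fun t => y * t * y⁻¹) hz'
      simpa [mul_assoc] using this
  have hfibre : ∀ a b : G,
      (∑ y : G, if y * a * y⁻¹ = b then (1 : ℂ) else 0) = if IsConj a b then (Cc a : ℂ) else 0 := by
    intro a b
    split_ifs with hab
    · obtain ⟨y0, rfl⟩ := isConj_iff.mp hab
      rw [Finset.sum_boole, Nat.cast_inj, hCc]
      simp only [Nat.card_eq_fintype_card]
      rw [← Fintype.card_subtype]
      refine Fintype.card_congr ((Equiv.mulLeft y0⁻¹).subtypeEquiv fun y => ?_)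
      rw [Subgroup.mem_centralizer_singleton_iff, Equiv.coe_mulLeft]
      constructor
      · intro e
        calc y0⁻¹ * y * a = y0⁻¹ * (y * a * y⁻¹) * y := by simp [mul_assoc]
          _ = a * (y0⁻¹ * y) := by rw [e]; simp [mul_assoc]
      · intro e
        calc y * a * y⁻¹ = y0 * ((y0⁻¹ * y) * a) * y⁻¹ := by simp [mul_assoc]
          _ = y0 * a * y0⁻¹ := by rw [e]; simp [mul_assoc]
    · exact Finset.sum_eq_zero fun y _ => if_neg fun e => hab (isConj_iff.mpr ⟨y, e⟩)
  have hHclass : ∀ a : H, ((Finset.univ.filter fun h : H => IsConj (h : G) (a : G)).card : ℂ) *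
      (Nat.card (CH a) : ℂ) = n := by
    intro a
    have h1 : (Finset.univ.filter fun h : H => IsConj (h : G) (a : G)).card =
        Nat.card (ConjClasses.mk a).carrier := by
      rw [Nat.card_eq_fintype_card, ← Fintype.card_subtype]
      refine Fintype.card_congr (Equiv.subtypeEquivRight fun h => ?_)
      rw [ConjClasses.mem_carrier_iff_mk_eq, ConjClasses.mk_eq_mk_iff_isConj]
      constructor
      · intro hha
        obtain ⟨k, hk, hka⟩ := hfus _ h.2 _ a.2 hha
        exact isConj_iff.mpr ⟨⟨k, hk⟩, Subtype.ext hka⟩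
      · intro hha
        exact H.subtype.map_isConj hha
    have h2 : Nat.card (CH a) = Nat.card (Subgroup.centralizer ({a} : Set H)) := by
      refine Nat.card_congr
        { toFun := fun x => ⟨⟨x.1, x.2.1⟩, Subgroup.mem_centralizer_singleton_iff.mpr
            (Subtype.ext (Subgroup.mem_centralizer_singleton_iff.mp x.2.2))⟩
          invFun := fun x => ⟨(x.1 : G), x.1.2, Subgroup.mem_centralizer_singleton_iff.mpr
            (congrArg Subtype.val (Subgroup.mem_centralizer_singleton_iff.mp x.2))⟩
          left_inv := fun _ => rfl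
          right_inv := fun _ => rfl }
    rw [h1, h2, ← Nat.cast_mul, card_carrier_mul_card_centralizer]
  have hpart : ∀ x : G,
      (∑ h : H, ∑ y : G, if y * (h : G) * y⁻¹ = Sections.nPart hcop x then w h else 0) = 1 := by
    intro x
    have hwc : ∀ h : H, IsConj (h : G) (r x : G) →
        w h * (Cc (h : G) : ℂ) = (Nat.card (CH (r x : G)) : ℂ) / n := by
      intro h hh
      obtain ⟨k, hk, hkr⟩ := hfus _ h.2 _ (r x).2 hh
      have h1 : Nat.card (CH (r x : G)) = Nat.card (CH (h : G)) := by
        rw [hCH, ← hkr]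
        simp only
        rw [hcent]
        have hH : H = H.map (MulAut.conj k).toMonoidHom := by
          refine (Subgroup.eq_of_le_of_card_ge ?_ ?_).symm
          · rintro _ ⟨z, hz, rfl⟩
            exact H.mul_mem (H.mul_mem hk hz) (H.inv_mem hk)
          · rw [Subgroup.card_map_of_injective (MulAut.conj k).injective]
        conv_rhs =>
          rw [← Subgroup.card_map_of_injective (f := (MulAut.conj k).toMonoidHom)
            (MulAut.conj k).injective, Subgroup.map_inf _ _ _ (MulAut.conj k).injective, ← hH]
      rw [h1, hw]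
      simp only
      field_simp [hCc0]
    calc (∑ h : H, ∑ y : G, if y * (h : G) * y⁻¹ = Sections.nPart hcop x then w h else 0)
        = ∑ h : H, if IsConj (h : G) (r x : G) then (Nat.card (CH (r x : G)) : ℂ) / n else 0 := by
          refine Finset.sum_congr rfl fun h _ => ?_
          rw [Finset.sum_congr rfl (g := fun y => w h *
            (if y * (h : G) * y⁻¹ = Sections.nPart hcop x then (1 : ℂ) else 0))
            (fun y _ => by split_ifs <;> simp), ← Finset.mul_sum, hfibre]
          by_cases hh : IsConj (h : G) (r x : G)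
          · rw [if_pos hh, if_pos (hh.trans (hr x).symm), hwc h hh]
          · rw [if_neg hh, if_neg fun e => hh (e.trans (hr x)), mul_zero]
      _ = 1 := by
          rw [← Finset.sum_filter, Finset.sum_const, nsmul_eq_mul, mul_div_assoc', hHclass,
            div_self hn0]
  have hNconj : ∀ v y : G, N (y * v * y⁻¹) = N v := by
    intro v y
    refine (Nat.card_congr ((MulAut.conj y).toEquiv.subtypeEquiv fun x => ?_)).symm
    show Sections.nPart hcop x = v ↔ Sections.nPart hcop (y * x * y⁻¹) = y * v * y⁻¹
    rw [Sections.nPart_conj, mul_left_inj, mul_right_inj]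
  have hsum : ∀ F : H → ℂ, Cfsg.IsClassFunction H F →
      ∑ x : G, F (r x) = (Nat.card G : ℂ) * ∑ h : H, w h * (N (h : G) : ℂ) * F h := by
    intro F hF
    calc ∑ x : G, F (r x)
        = ∑ x : G, ∑ h : H, ∑ y : G,
            (if y * (h : G) * y⁻¹ = Sections.nPart hcop x then w h else 0) * F (r x) := by
          refine Finset.sum_congr rfl fun x _ => ?_
          simp_rw [← Finset.sum_mul]
          rw [hpart, one_mul]
      _ = ∑ h : H, ∑ y : G, ∑ x : G,
            (if y * (h : G) * y⁻¹ = Sections.nPart hcop x then w h * F h else 0) := by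
          rw [Finset.sum_comm]
          refine Finset.sum_congr rfl fun h _ => ?_
          rw [Finset.sum_comm]
          refine Finset.sum_congr rfl fun y _ => Finset.sum_congr rfl fun x _ => ?_
          split_ifs with he
          · rw [hfusH hF (r x) h ((hr x).symm.trans
              (he ▸ (isConj_iff.mpr ⟨y, rfl⟩ : IsConj (h : G) (y * (h : G) * y⁻¹)).symm))]
          · rw [zero_mul]
      _ = _ := by
          rw [Finset.mul_sum]
          refine Finset.sum_congr rfl fun h _ => ?_
          rw [Finset.sum_congr rfl (g := fun _ => (N (h : G) : ℂ) * (w h * F h)) fun y _ => ?_]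
          · rw [Finset.sum_const, Finset.card_univ, nsmul_eq_mul, Nat.card_eq_fintype_card]
            ring
          · rw [← Finset.sum_filter, Finset.sum_const, nsmul_eq_mul, ← hNconj (h : G) y, hN]
            simp only [Nat.card_eq_fintype_card, Fintype.card_subtype, eq_comm]
  have hwN : ∀ h : H, w h * (N (h : G) : ℂ) = 1 / n := by
    choose q hq using hdvd
    have hqw : ∀ h : H, w h * (N (h : G) : ℂ) = (q h : ℂ) / n := by
      intro h
      have h1 : (N (h : G) : ℂ) * (Nat.card (CH h) : ℂ) = (Cc h : ℂ) * (q h : ℂ) := by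
        exact_mod_cast hq h
      rw [hw]
      simp only
      field_simp [hCc0]
      linear_combination h1
    have hq1 : ∀ h : H, 1 ≤ q h := by
      intro h
      refine Nat.one_le_iff_ne_zero.mpr fun h0 => ?_
      have h1 := hq h
      rw [h0, mul_zero, mul_eq_zero] at h1
      rcases h1 with h1 | h1
      · have : Nonempty {x : G // Sections.nPart hcop x = (h : G)} := ⟨⟨h, hnH h⟩⟩
        exact Nat.card_pos.ne' h1
      · exact Nat.card_pos.ne' h1
    have htot : ∑ h : H, q h = ∑ _h : H, 1 := by
      have h1 := hsum (fun _ => 1) (fun _ _ => rfl)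
      simp only [mul_one, hqw, ← Finset.sum_div, Finset.sum_const, Finset.card_univ,
        nsmul_eq_mul] at h1
      rw [← Nat.card_eq_fintype_card, eq_comm, mul_div_assoc', div_eq_iff hn0] at h1
      have h2 := mul_left_cancel₀ natCard_ne_zero h1
      rw [Finset.sum_const, Finset.card_univ, smul_eq_mul, mul_one, ← Nat.card_eq_fintype_card,
        ← hn, ← Nat.cast_inj (R := ℂ)]
      push_cast
      exact h2
    intro h
    have h1 := (Finset.sum_eq_sum_iff_of_le (fun h _ => hq1 h)).mp htot.symm h (Finset.mem_univ h)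
    rw [hqw, ← h1, Nat.cast_one]
  -- the extensions are irreducible
  have hirr : ∀ θ : Cfsg.IrrCharacter H, Cfsg.IsIrrCharacter G (fun x => (θ : H → ℂ) (r x)) := by
    intro θ
    refine isIrr_of_gen_norm_one (hgen (irr_isCharacter θ)) ?_ ?_
    · have hF : Cfsg.IsClassFunction H (fun h => (θ : H → ℂ) h * conj ((θ : H → ℂ) h)) :=
        fun a b => by simp only [irr_isClassFunction θ a b]
      rw [classInner_def, hsum _ hF]
      simp only [hwN, one_div]
      rw [inv_mul_cancel_left₀ natCard_ne_zero, ← Finset.mul_sum]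
      exact classInner_isIrr_self θ.2
    · obtain ⟨d, hd, he⟩ := irr_one_pos θ.2
      have h1 : (θ : H → ℂ) (r 1) = (d : ℂ) := by
        rw [← he, ← hrH (irr_isClassFunction θ) 1, OneMemClass.coe_one]
      simp only [h1, Complex.natCast_re]
      exact_mod_cast hd
  set K : Subgroup G := ⨅ θ : Cfsg.IrrCharacter H,
    charKernel _ (isCharacter_of_isIrr (hirr θ)) with hK
  have hKn : K.Normal := Subgroup.normal_iInf_normal fun θ => charKernel_normal _
  have hr1 : ∀ (θ : Cfsg.IrrCharacter H), (θ : H → ℂ) (r 1) = (θ : H → ℂ) 1 := fun θ => by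
    rw [← hrH (irr_isClassFunction θ) 1, OneMemClass.coe_one]
  have hmemK : ∀ x : G, x ∈ K ↔ Sections.nPart hcop x = 1 := by
    intro x
    simp only [hK, Subgroup.mem_iInf, mem_charKernel]
    constructor
    · intro hx
      have h1 : r x = 1 := eq_one_of_forall_irr fun θ => (hx θ).trans (hr1 θ)
      have h2 := hr x
      rw [h1, OneMemClass.coe_one, isConj_one_left] at h2
      exact h2
    · intro hx θ
      have h2 := hr x
      rw [hx, isConj_one_right] at h2
      rw [hr1, show r x = 1 from Subtype.ext h2]
  have hKH : K ⊓ H = ⊥ := by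
    rw [eq_bot_iff]
    intro x hx
    rw [Subgroup.mem_bot, ← (hmemK x).mp hx.1]
    exact (hnH ⟨x, hx.2⟩).symm
  refine ⟨K, hKn, ?_, hKH⟩
  have hKcard : Nat.card K = m := by
    have h1 : Nat.card K = N 1 := Nat.card_congr (Equiv.subtypeEquivRight hmemK)
    have h2 := hwN 1
    have hCc1 : Cc 1 = Nat.card G := by
      rw [hCc]
      simp only
      rw [show Subgroup.centralizer ({1} : Set G) = ⊤ from by
        ext; simp [Subgroup.mem_centralizer_singleton_iff], Subgroup.card_top]
    have hCH1 : Nat.card (CH 1) = n := by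
      rw [hCH]
      simp only
      rw [show H ⊓ Subgroup.centralizer ({1} : Set G) = H from by
        ext; simp [Subgroup.mem_centralizer_singleton_iff]]
    rw [hw] at h2
    simp only [OneMemClass.coe_one, hCH1, hCc1] at h2
    rw [h1, ← Nat.cast_inj (R := ℂ)]
    have hG0 : (Nat.card G : ℂ) ≠ 0 := natCard_ne_zero
    field_simp at h2
    rw [hcard] at h2
    push_cast at h2
    apply mul_left_cancel₀ hn0
    linear_combination h2
  apply Subgroup.eq_top_of_card_eq
  refine Nat.dvd_antisymm (Subgroup.card_subgroup_dvd_card _) ?_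
  rw [hcard]
  exact hcop.mul_dvd_of_dvd_of_dvd (hKcard ▸ Subgroup.card_dvd_of_le le_sup_left)
    (Subgroup.card_dvd_of_le le_sup_right)

end Cfsg.Agent.S0877
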