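import Cfsg.Statements.S0879
import Mathlib
import Cfsg.Agent.CharactersDeep.Zassenhaus

set_option autoImplicit false
open Cfsg
open Cfsg.Agent.CharactersDeep

namespace Cfsg.Agent.S0879

/-- Let G be a Zassenhaus group on the finite set Ω and E the stabilizer of two distinct points a, b. Then an element outside the normalizer of E conjugates no non-identity element of E into E, and E has index 2 in its normalizer. -/
theorem result {G Ω : Type*} [Group G] [Finite G] [MulAction G Ω] [Fintype Ω] (hZ : Cfsg.IsZassenhausGroup G Ω) {a b : Ω} (hab : a ≠ b) : (∀ g : G, g ∉ Subgroup.normalizer ((MulAction.stabilizer G a ⊓ MulAction.stabilizer G b : Subgroup G) : Set G) → ∀ x ∈ (MulAction.stabilizer G a ⊓ MulAction.stabilizer G b : Subgroup G), g * x * g⁻¹ ∈ (MulAction.stabilizer G a ⊓ MulAction.stabilizer G b : Subgroup G) → x = 1) ∧ ((MulAction.stabilizer G a ⊓ MulAction.stabilizer G b : Subgroup G).subgroupOf (Subgroup.normalizer ((MulAction.stabilizer G a ⊓ MulAction.stabilizer G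 b : Subgroup G) : Set G))).index = 2 := by
  classical
  set D : Subgroup G := MulAction.stabilizer G a ⊓ MulAction.stabilizer G b with hD
  refine ⟨fun g hg x hx hgx => ?_, ?_⟩
  · by_contra hx1
    exact hg ((Zassenhaus.mem_normalizer_two_point hZ hab g).mpr
      (Zassenhaus.two_point_TI hZ hab hx.1 hx.2 hgx.1 hgx.2 hx1))
  · obtain ⟨w, hwa, hwb⟩ := Zassenhaus.two_trans hZ hab hab.symm
    rw [Subgroup.index_eq_two_iff]
    refine ⟨⟨w, (Zassenhaus.mem_normalizer_two_point hZ hab w).mpr (Or.inr ⟨hwa, hwb⟩)⟩,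
      fun ⟨g, hg⟩ => ?_⟩
    simp only [Subgroup.mem_subgroupOf, Subgroup.coe_mul, hD, Subgroup.mem_inf,
      MulAction.mem_stabilizer_iff, mul_smul, hwa, hwb]
    rcases (Zassenhaus.mem_normalizer_two_point hZ hab g).mp hg with ⟨h1, h2⟩ | ⟨h1, h2⟩
    · refine Or.inr ⟨⟨h1, h2⟩, ?_⟩
      rintro ⟨h, -⟩
      exact hab (h.symm.trans h2)
    · refine Or.inl ⟨⟨h2, h1⟩, ?_⟩
      rintro ⟨h, -⟩
      exact hab (h.symm.trans h1)

end Cfsg.Agent.S0879
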