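import Cfsg.Statements.S0880
import Cfsg.Agent.Lib.CharTheory.Zassenhaus.FixedPoints
import Cfsg.Agent.Lib.CharTheory.Zassenhaus.Exists

set_option autoImplicit false
open Cfsg

namespace Cfsg.Agent.S0880

/-- Let G be a finite simple Zassenhaus group on Ω with n points whose two-point stabilizer E has odd order less than n - 2. Then there are two elements of G, each fixing no point of Ω, that are not conjugate. -/
theorem result {G Ω : Type*} [Group G] [Finite G] [MulAction G Ω] [Fintype Ω] (hZ : Cfsg.IsZassenhausGroup G Ω) {a b : Ω} (hab : a ≠ b) [IsSimpleGroup G] (hodd : Odd (Nat.card ↥(MulAction.stabilizer G a ⊓ MulAction.stabilizer G b : Subgroup G))) (hlt : Nat.card ↥(MulAction.stabilizer G a ⊓ MulAction.stabilizer G b : Subgroup G) < Fintype.card Ω - 2) : ∃ x y : G, (∀ c : Ω, x • c ≠ c) ∧ (∀ c : Ω, y • c ≠ c) ∧ ¬ IsConj x y := by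
  classical
  haveI := Fintype.ofFinite G
  obtain ⟨H, hc⟩ := CharTheory.Zassenhaus.exists_config hZ hab
  have h3 : 3 ≤ Fintype.card Ω := CharactersDeep.Zassenhaus.three_le_card hZ
  have hG := CharTheory.Zassenhaus.card_group hc
  rw [show Nat.card H = Fintype.card Ω - 1 by rw [← hc.card]; omega, ← mul_assoc] at hG
  set n := Fintype.card Ω with hn
  set e := Nat.card (CharTheory.Zassenhaus.two (G := G) a b) with he
  have he3 : 3 ≤ e := by
    have h1 : e ≠ 1 := fun h => CharactersDeep.Zassenhaus.two_point_ne_bot hZ hab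
      (Subgroup.card_eq_one.1 h)
    obtain ⟨k, hk⟩ : Odd e := hodd
    omega
  have hfree := CharTheory.Zassenhaus.two_mul_card_free hZ hab hG
  set n0 := Nat.card {g : G // ∀ c : Ω, g • c ≠ c} with hn0
  have hGz : (Nat.card G : ℤ) = (n : ℤ) * ((n : ℤ) - 1) * e := by
    rw [hG]; push_cast [Nat.cast_sub (show 1 ≤ n by omega)]; ring
  have hn3 : (3 : ℤ) ≤ n := by exact_mod_cast h3
  have he3' : (3 : ℤ) ≤ e := by exact_mod_cast he3
  obtain ⟨x, hx⟩ : ∃ x : G, ∀ c : Ω, x • c ≠ c := by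
    by_contra hne
    push Not at hne
    haveI : IsEmpty {g : G // ∀ c : Ω, g • c ≠ c} :=
      ⟨fun g => (hne g.1).elim fun c hc' => g.2 c hc'⟩
    rw [show n0 = 0 from Nat.card_of_isEmpty] at hfree
    simp only [Nat.cast_zero, mul_zero] at hfree
    nlinarith [mul_le_mul_of_nonneg_left he3' (show (0 : ℤ) ≤ (n : ℤ) * ((n : ℤ) - 1) by nlinarith)]
  refine ⟨x, ?_⟩
  by_contra hcon
  push Not at hcon
  have hall : ∀ y : G, (∀ c : Ω, y • c ≠ c) → IsConj x y := fun y hy => hcon y hx hy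
  have hset : ∀ y : G, (∀ c : Ω, y • c ≠ c) ↔ y ∈ MulAction.orbit (ConjAct G) x := by
    intro y
    rw [ConjAct.mem_orbit_conjAct]
    refine ⟨fun hy => (hall y hy).symm, fun hy c hyc => ?_⟩
    obtain ⟨g, rfl⟩ := isConj_iff.1 hy.symm
    refine hx (g⁻¹ • c) ?_
    rw [eq_inv_smul_iff, ← mul_smul, ← mul_smul]
    exact hyc
  have hcard : n0 * Nat.card (Subgroup.centralizer ({x} : Set G)) = Nat.card G := by
    have hst : Nat.card (MulAction.stabilizer (ConjAct G) x) =
        Nat.card (Subgroup.centralizer ({x} : Set G)) :=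
      Nat.card_congr (Equiv.subtypeEquiv ConjAct.toConjAct.toEquiv.symm fun g => by
        rw [MulAction.mem_stabilizer_iff, ConjAct.smul_def, Subgroup.mem_centralizer_singleton_iff]
        exact mul_inv_eq_iff_eq_mul)
    rw [hn0, Nat.card_congr (Equiv.subtypeEquivRight hset), Nat.card_coe_set_eq,
      ← MulAction.index_stabilizer, ← hst, Subgroup.index_mul_card]
    rfl
  set cz := Nat.card (Subgroup.centralizer ({x} : Set G)) with hcz
  have hc2 : 2 ≤ cz := by
    have h1 : x ∈ Subgroup.centralizer ({x} : Set G) := Subgroup.mem_centralizer_singleton_iff.2 rfl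
    have h2 : x ≠ 1 := fun h => hx a (by rw [h, one_smul])
    by_contra hlt'
    have h4 : cz = 1 := by
      have := Nat.card_pos (α := Subgroup.centralizer ({x} : Set G))
      omega
    have h5 := Subgroup.card_eq_one.1 h4
    rw [h5, Subgroup.mem_bot] at h1
    exact h2 h1
  have hcz2 : (2 : ℤ) ≤ cz := by exact_mod_cast hc2
  have hcard' : (n0 : ℤ) * cz = (n : ℤ) * ((n : ℤ) - 1) * e := by
    rw [← hGz]; exact_mod_cast hcard
  -- `cz ((h+1) e - (h-1)) = 2 (h+1) e`
  have key : (cz : ℤ) * ((n : ℤ) * e - ((n : ℤ) - 2)) = 2 * (n : ℤ) * e := by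
    have h1 : (cz : ℤ) * (((n : ℤ) * ((n : ℤ) - 1) * e) - ((n : ℤ) - 1) * ((n : ℤ) - 2)) =
        2 * ((n : ℤ) * ((n : ℤ) - 1) * e) := by
      rw [← hcard', ← hGz] at *
      rw [show ((n0 : ℤ) * cz) - ((n : ℤ) - 1) * ((n : ℤ) - 2) = 2 * n0 by linarith]
      ring
    refine mul_right_cancel₀ (show ((n : ℤ) - 1) ≠ 0 by omega) ?_
    linarith
  have hc3 : (3 : ℤ) ≤ cz := by
    rcases lt_or_ge (cz : ℤ) 3 with h | h
    · have : (cz : ℤ) = 2 := by omega
      rw [this] at key
      linarith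
    · exact h
  nlinarith [mul_le_mul_of_nonneg_left he3' (show (0 : ℤ) ≤ (n : ℤ) * ((cz : ℤ) - 2) by nlinarith)]

end Cfsg.Agent.S0880
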