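import Cfsg.Statements.S0893
import Cfsg.Agent.Lib.CharTheory.Extraspecial
import Cfsg.Agent.Lib.CharTheory.Basics
import Cfsg.Agent.Lib.Characters.Induction
import Cfsg.Agent.Lib.PGroups.Extraspecial

set_option autoImplicit false
open Cfsg

namespace Cfsg.Agent.S0893

/-- Let P be an extraspecial p-group of order p ^ (2 * n + 1), A an abelian subgroup of order p ^ (n + 1), and λ a character of A of degree 1 that is not identically 1 on the elements of A lying in the centre of P. Then the function induced from λ to P is an irreducible character of P and vanishes at every element outside the centre. -/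
theorem result {P : Type*} [Group P] [Fintype P] (p n : ℕ) [Fact p.Prime] (hP : Cfsg.IsExtraspecial p P) (hcard : Nat.card P = p ^ (2 * n + 1)) (A : Subgroup P) (hab : ∀ a ∈ A, ∀ b ∈ A, a * b = b * a) (hA : Nat.card A = p ^ (n + 1)) (lam : A → ℂ) (hlam : Cfsg.IsCharacter A lam ∧ lam 1 = 1) (hZ : ∃ a : A, (a : P) ∈ Subgroup.center P ∧ lam a ≠ 1) : Cfsg.IsIrrCharacter P (Cfsg.indFun A lam) ∧ ∀ x : P, x ∉ Subgroup.center P → Cfsg.indFun A lam x = 0 := by
  classical
  obtain ⟨z, hzc, hz1⟩ := hZ
  have hpp : p.Prime := Fact.out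
  -- `A` contains the centre
  have hZA : Subgroup.center P ≤ A := by
    haveI : IsMulCommutative (A ⊔ Subgroup.center P : Subgroup P) := by
      rw [← Subgroup.le_centralizer_iff_isMulCommutative]
      refine sup_le ?_ (Subgroup.center_le_centralizer _)
      rw [Subgroup.le_centralizer_iff]
      refine sup_le (fun a ha => Subgroup.mem_centralizer_iff.2 fun b hb => ?_)
        (Subgroup.center_le_centralizer _)
      exact hab b hb a ha
    have h := Cfsg.Agent.PGroups.Extraspecial.card_sq_le_of_abelian hP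
      (A ⊔ Subgroup.center P)
    rw [hcard] at h
    have hle : Nat.card (A ⊔ Subgroup.center P : Subgroup P) ≤ Nat.card A := by
      rw [hA]
      refine (Nat.pow_le_pow_iff_left (by norm_num : (2 : ℕ) ≠ 0)).1 (h.trans_eq ?_)
      ring
    rw [Subgroup.eq_of_le_of_card_ge le_sup_left hle]
    exact le_sup_right
  have hidx : A.index = p ^ n := by
    have h := A.card_mul_index
    rw [hA, hcard, show 2 * n + 1 = (n + 1) + n by omega, pow_add p (n + 1) n] at h
    exact Nat.eq_of_mul_eq_mul_left (pow_pos hpp.pos _) h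
  set Φ := Cfsg.indFun A lam with hΦ
  have hΦc : Cfsg.IsCharacter P Φ := Cfsg.Agent.Characters.isCharacter_indFun A hlam.1
  have hΦ1 : Φ 1 = (p : ℂ) ^ n := by
    rw [hΦ, Cfsg.Agent.Characters.indFun_one, hlam.2, hidx, mul_one, Nat.cast_pow]
  obtain ⟨χ, hχ, hχne⟩ : ∃ χ, Cfsg.IsIrrCharacter P χ ∧ Cfsg.classInner Φ χ ≠ 0 := by
    by_contra h
    push Not at h
    haveI := Fintype.ofFinite (Cfsg.IrrCharacter P)
    have h1 := congrFun (Cfsg.Agent.Characters.classFun_eq_sum
      (Cfsg.Agent.Characters.char_isClassFunction hΦc)) 1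
    rw [Finset.sum_eq_zero (fun ψ _ => by rw [h _ ψ.2, zero_smul]), hΦ1] at h1
    exact pow_ne_zero n (Nat.cast_ne_zero.2 hpp.ne_zero) h1
  have hne : χ z ≠ χ 1 := by
    intro h
    apply hχne
    rw [hΦ, Cfsg.Agent.Characters.frobenius_reciprocity A lam
      (Cfsg.Agent.Characters.char_isClassFunction (Cfsg.Agent.Characters.isCharacter_of_isIrr hχ)),
      Cfsg.Agent.Characters.classInner_def]
    set S := ∑ a : A, lam a * (starRingEnd ℂ) (χ a) with hS
    have hshift : S = lam z * S := by
      rw [hS, Finset.mul_sum]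
      refine (Fintype.sum_equiv (Equiv.mulLeft z) _ _ fun a => ?_).symm
      simp only [Equiv.coe_mulLeft, Subgroup.coe_mul]
      rw [Cfsg.Agent.Characters.char_mul_of_degree_one hlam.1 hlam.2,
        Cfsg.Agent.Characters.char_mul_of_eq_one
          (Cfsg.Agent.Characters.isCharacter_of_isIrr hχ) h, mul_assoc]
    have hS0 : S = 0 := by
      by_contra h0
      exact hz1 (mul_right_cancel₀ h0 (hshift.symm.trans (one_mul _).symm))
    rw [hS0, mul_zero]
  have hdeg := Cfsg.Agent.CharTheory.Extraspecial.degree_eq hP hcard hχ hzc hne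
  obtain ⟨m, hm⟩ := Cfsg.Agent.Characters.classInner_char_nat hΦc
    (Cfsg.Agent.Characters.isCharacter_of_isIrr hχ)
  have hm0 : m ≠ 0 := by rintro rfl; exact hχne (by rw [hm, Nat.cast_zero])
  have hle : m * p ^ n ≤ p ^ n :=
    Cfsg.Agent.CharTheory.Basics.degree_le hΦc hχ hm (by rw [hΦ1, Nat.cast_pow])
      (by rw [hdeg, Nat.cast_pow])
  have hm1 : m = 1 := by
    have := pow_pos hpp.pos n
    nlinarith [Nat.pos_of_ne_zero hm0]
  subst hm1
  have heq := Cfsg.Agent.CharTheory.Basics.eq_of_degree_eq hΦc hχ hm (by rw [hΦ1, hdeg]; simp)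
  rw [Nat.cast_one, one_smul] at heq
  rw [heq]
  exact ⟨hχ, fun x hx => Cfsg.Agent.CharTheory.Extraspecial.vanish hP hχ hzc hne hx⟩

end Cfsg.Agent.S0893
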