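import Cfsg.Statements.S0894
import Cfsg.Agent.Lib.CharTheory.Extraspecial
import Cfsg.Agent.Lib.PGroups.Extraspecial

set_option autoImplicit false
open Cfsg

namespace Cfsg.Agent.S0894

/-- Let P be an extraspecial p-group of order p ^ (2 * n + 1). Then every irreducible character of P has degree 1 or p ^ n, and exactly p - 1 of them have degree p ^ n. -/
theorem result {P : Type*} [Group P] [Finite P] (p n : ℕ) [Fact p.Prime] (hP : Cfsg.IsExtraspecial p P) (hcard : Nat.card P = p ^ (2 * n + 1)) : (∀ χ : Cfsg.IrrCharacter P, (χ : P → ℂ) 1 = 1 ∨ (χ : P → ℂ) 1 = (p : ℂ) ^ n) ∧ Nat.card {χ : Cfsg.IrrCharacter P // (χ : P → ℂ) 1 = (p : ℂ) ^ n} = p - 1 := by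
  classical
  haveI := Fintype.ofFinite P
  haveI := Fintype.ofFinite (Cfsg.IrrCharacter P)
  have hpp : p.Prime := Fact.out
  have hall : ∀ χ : Cfsg.IrrCharacter P, (χ : P → ℂ) 1 = 1 ∨ (χ : P → ℂ) 1 = (p : ℂ) ^ n := by
    intro χ
    by_cases h : ∀ z ∈ Subgroup.center P, (χ : P → ℂ) z = (χ : P → ℂ) 1
    · exact Or.inl (Cfsg.Agent.CharTheory.Extraspecial.degree_eq_one hP χ.2 h)
    · push Not at h
      obtain ⟨z, hz, hne⟩ := h
      exact Or.inr (Cfsg.Agent.CharTheory.Extraspecial.degree_eq hP hcard χ.2 hz hne)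
  refine ⟨hall, ?_⟩
  obtain ⟨m, hm1, hm⟩ := Cfsg.Agent.PGroups.Extraspecial.exists_card_eq hP
  have hn : 1 ≤ n := by
    have := Nat.pow_right_injective hpp.two_le (hm.symm.trans hcard)
    omega
  have hne1 : (p : ℂ) ^ n ≠ 1 := by
    rw [← Nat.cast_pow, Nat.cast_ne_one]
    exact (Nat.one_lt_pow (by omega) hpp.one_lt).ne'
  have ha : Nat.card {χ : Cfsg.IrrCharacter P // (χ : P → ℂ) 1 = 1} = p ^ (2 * n) := by
    rw [Cfsg.Agent.Characters.card_degree_one, hP.1.2.2]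
    have h := (Subgroup.center P).card_mul_index
    rw [hP.2, hcard, pow_succ'] at h
    exact Nat.eq_of_mul_eq_mul_left hpp.pos h
  set b := Nat.card {χ : Cfsg.IrrCharacter P // (χ : P → ℂ) 1 = (p : ℂ) ^ n} with hb
  have hsum := Cfsg.Agent.Characters.sum_degree_sq (G := P)
  rw [← Finset.sum_filter_add_sum_filter_not Finset.univ
      (fun χ : Cfsg.IrrCharacter P => (χ : P → ℂ) 1 = 1),
    Finset.sum_congr rfl (g := fun _ => (1 : ℂ)) (fun χ hχ => by
      rw [(Finset.mem_filter.1 hχ).2, one_pow]),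
    Finset.sum_congr (s₁ := Finset.univ.filter
      (fun χ : Cfsg.IrrCharacter P => ¬ (χ : P → ℂ) 1 = 1))
      (s₂ := Finset.univ.filter (fun χ : Cfsg.IrrCharacter P => (χ : P → ℂ) 1 = (p : ℂ) ^ n))
      (g := fun _ => ((p : ℂ) ^ n) ^ 2)
      (Finset.filter_congr fun χ _ =>
        ⟨(hall χ).resolve_left, fun h => by rw [h]; exact hne1⟩)
      (fun χ hχ => by rw [(Finset.mem_filter.1 hχ).2]),
    Finset.sum_const, Finset.sum_const, nsmul_eq_mul, nsmul_eq_mul, mul_one,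
    ← Fintype.card_subtype, ← Fintype.card_subtype, ← Nat.card_eq_fintype_card,
    ← Nat.card_eq_fintype_card, ha, ← hb, hcard] at hsum
  have h' : p ^ (2 * n) + b * (p ^ n) ^ 2 = p ^ (2 * n + 1) := by exact_mod_cast hsum
  rw [← pow_mul, mul_comm n 2, pow_succ] at h'
  have h2 : (1 + b) * p ^ (2 * n) = p * p ^ (2 * n) := by linarith
  have := Nat.eq_of_mul_eq_mul_right (pow_pos hpp.pos _) h2
  omega

end Cfsg.Agent.S0894
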