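import Cfsg.Statements.S0895
import Cfsg.Agent.Lib.FrobeniusSchur.Basic

set_option autoImplicit false
open Cfsg

namespace Cfsg.Agent.S0895

open Matrix

/-- Let χ be a real-valued irreducible character of a finite group G whose degree is an odd natural number. Then the average over s in G of χ (s * s) equals 1. -/
theorem result {G : Type*} [Group G] [Fintype G] (χ : G → ℂ) (hχ : Cfsg.IsIrrCharacter G χ) (hreal : ∀ g : G, (χ g).im = 0) (d : ℕ) (hd : χ 1 = d) (hodd : Odd d) : (Nat.card G : ℂ)⁻¹ * ∑ s : G, χ (s * s) = 1 := by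
  obtain ⟨m, σ, hσ, he⟩ := id hχ
  have hm : m = d := by
    have h1 : σ.character 1 = (m : ℂ) := by rw [Representation.char_one]; simp
    rw [he, hd] at h1
    exact_mod_cast h1.symm
  subst hm
  have hsq := Cfsg.Agent.FrobeniusSchur.avg_sq_irr (⟨χ, hχ⟩ : Cfsg.IrrCharacter G)
  rw [if_pos hreal] at hsq
  simp only at hsq
  rw [← he] at hsq
  obtain ⟨⟨M, hM0, hM⟩, hnu, htr⟩ := Cfsg.Agent.FrobeniusSchur.of_trace_one σ hsq
  rw [← he]
  refine hnu.resolve_right fun hneg => ?_
  have hskew : Mᵀ = -M := by rw [htr M hM, hneg, neg_one_smul]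
  -- the kernel of the form is invariant
  have hker : ∀ g : G, ∀ v ∈ LinearMap.ker (Matrix.toLin' M),
      σ g v ∈ LinearMap.ker (Matrix.toLin' M) := by
    intro g v hv
    rw [LinearMap.mem_ker, Matrix.toLin'_apply] at hv ⊢
    have hg : σ g v = FrobeniusSchur.mat σ g *ᵥ v := by
      rw [FrobeniusSchur.mat, ← Matrix.toLin'_apply, Matrix.toLin'_toMatrix']
    have hinv : (FrobeniusSchur.mat σ g⁻¹)ᵀ * (FrobeniusSchur.mat σ g)ᵀ = 1 := by
      rw [← Matrix.transpose_mul, ← FrobeniusSchur.mat_mul, mul_inv_cancel,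
        FrobeniusSchur.mat_one, Matrix.transpose_one]
    calc M *ᵥ σ g v = ((FrobeniusSchur.mat σ g⁻¹)ᵀ * (FrobeniusSchur.mat σ g)ᵀ) *ᵥ
          (M *ᵥ σ g v) := by rw [hinv, Matrix.one_mulVec]
      _ = (FrobeniusSchur.mat σ g⁻¹)ᵀ *ᵥ
          (((FrobeniusSchur.mat σ g)ᵀ * M * FrobeniusSchur.mat σ g) *ᵥ v) := by
          simp [hg, Matrix.mulVec_mulVec, Matrix.mul_assoc]
      _ = 0 := by rw [hM, hv, Matrix.mulVec_zero]
  rcases ((Cfsg.Agent.Characters.isIrreducible_iff σ).1 hσ).2 _ hker with h | h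
  · have hdet : M.det ≠ 0 := fun hd0 => by
      obtain ⟨v, hv0, hv⟩ := Matrix.exists_mulVec_eq_zero_iff.2 hd0
      have : v ∈ LinearMap.ker (Matrix.toLin' M) := by simpa using hv
      rw [h] at this
      exact hv0 (by simpa using this)
    apply hdet
    have h2 := congrArg Matrix.det hskew
    rw [Matrix.det_transpose, Matrix.det_neg, Fintype.card_fin, hodd.neg_one_pow] at h2
    linear_combination h2 / 2
  · apply hM0
    apply Matrix.toLin'.injective
    rw [map_zero]
    exact LinearMap.ker_eq_top.1 h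

end Cfsg.Agent.S0895
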