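import Cfsg.Statements.S0901
import Cfsg.Agent.Lib.Blocks.LocalRing

set_option autoImplicit false
open Cfsg

namespace Cfsg.Agent.S0901

open Cfsg.Agent.Blocks

/-- Let M be a maximal ideal of the ring of algebraic integers containing the prime p, and let U be the set of complex roots of unity of order prime to p. Then reduction modulo M is injective on U, and every algebraic integer not in M is congruent modulo M to an element of U (so U maps bijectively onto the nonzero residues). -/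
theorem result (p : ℕ) [Fact p.Prime] (M : Ideal Cfsg.AlgInt) (hM : Cfsg.IsPModular p M) : (∀ ε₁ ε₂ : Cfsg.AlgInt, (∃ m : ℕ, ¬ p ∣ m ∧ (ε₁ : ℂ) ^ m = 1) → (∃ m : ℕ, ¬ p ∣ m ∧ (ε₂ : ℂ) ^ m = 1) → ε₁ - ε₂ ∈ M → ε₁ = ε₂) ∧ (∀ a : Cfsg.AlgInt, a ∉ M → ∃ ε : Cfsg.AlgInt, (∃ m : ℕ, ¬ p ∣ m ∧ (ε : ℂ) ^ m = 1) ∧ a - ε ∈ M) := by
  have hp := hM.1
  have hinj : ∀ (m : ℕ), ¬ p ∣ m → ∀ η : Cfsg.AlgInt, η ^ m = 1 → η - 1 ∈ M → η = 1 := by
    intro m hm η hη hmem
    refine Subtype.ext (eq_one_of_cong_one hM hm ?_ ?_)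
    · rw [← SubmonoidClass.coe_pow, hη]; rfl
    · have := (ideal_coe_iff hM (η - 1)).2 hmem
      simpa [Cong] using this
  refine ⟨?_, ?_⟩
  · rintro ε₁ ε₂ ⟨m₁, hm₁, h₁⟩ ⟨m₂, hm₂, h₂⟩ hsub
    have hm : ¬ p ∣ m₁ * m₂ := fun h => (hp.dvd_mul.1 h).elim hm₁ hm₂
    have hm2 : m₂ ≠ 0 := fun h => hm₂ (h ▸ dvd_zero p)
    have e1 : ε₁ ^ m₁ = 1 := Subtype.ext (by simpa using h₁)
    have e2 : ε₂ ^ m₂ = 1 := Subtype.ext (by simpa using h₂)
    have hu : ε₂ * ε₂ ^ (m₂ - 1) = 1 := by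
      rw [← pow_succ', Nat.sub_add_cancel (Nat.pos_of_ne_zero hm2), e2]
    have h := hinj _ hm (ε₁ * ε₂ ^ (m₂ - 1)) (by
      rw [mul_pow, pow_mul, e1, one_pow, one_mul, ← pow_mul,
        show (m₂ - 1) * (m₁ * m₂) = m₂ * ((m₂ - 1) * m₁) by ring, pow_mul, e2, one_pow]) (by
      have := M.mul_mem_right (ε₂ ^ (m₂ - 1)) hsub
      rwa [sub_mul, hu] at this)
    calc ε₁ = ε₁ * (ε₂ * ε₂ ^ (m₂ - 1)) := by rw [hu, mul_one]
      _ = ε₁ * ε₂ ^ (m₂ - 1) * ε₂ := by ring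
      _ = ε₂ := by rw [h, one_mul]
  · intro a ha
    haveI := isMaximal_of_pm hM
    letI := Ideal.Quotient.field M
    set π := Ideal.Quotient.mk M with hπ
    haveI : CharP (Cfsg.AlgInt ⧸ M) p := (CharP.charP_iff_prime_eq_zero hp).2 (by
      rw [← map_natCast π]; exact Ideal.Quotient.eq_zero_iff_mem.2 hM.2.2)
    letI : Algebra (ZMod p) (Cfsg.AlgInt ⧸ M) := ZMod.algebra _ p
    have hint : IsIntegral (ZMod p) (π a) := by
      obtain ⟨f, hf, hfa⟩ := a.2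
      refine ⟨f.map (Int.castRingHom (ZMod p)), hf.map _, ?_⟩
      rw [Polynomial.eval₂_map, RingHom.ext_int ((algebraMap (ZMod p) (Cfsg.AlgInt ⧸ M)).comp
        (Int.castRingHom (ZMod p))) (π.comp (algebraMap ℤ Cfsg.AlgInt)), ← Polynomial.hom_eval₂]
      have : Polynomial.eval₂ (algebraMap ℤ Cfsg.AlgInt) a f = 0 := by
        apply Subtype.val_injective
        rw [show ((Polynomial.eval₂ (algebraMap ℤ Cfsg.AlgInt) a f : Cfsg.AlgInt) : ℂ) =
          (Cfsg.AlgInt.val.toRingHom) (Polynomial.eval₂ (algebraMap ℤ Cfsg.AlgInt) a f) from rfl,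
          Polynomial.hom_eval₂]
        rw [RingHom.ext_int (Cfsg.AlgInt.val.toRingHom.comp (algebraMap ℤ Cfsg.AlgInt))
          (algebraMap ℤ ℂ)]
        exact hfa
      rw [this, map_zero]
    set S := Algebra.adjoin (ZMod p) ({π a} : Set (Cfsg.AlgInt ⧸ M))
    haveI : Module.Finite (ZMod p) S := Module.Finite.iff_fg.2 hint.fg_adjoin_singleton
    haveI : Finite S := Module.finite_of_finite (ZMod p)
    obtain ⟨i, j, hne, hij⟩ := Finite.exists_ne_map_eq_of_infinite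
      (fun n : ℕ => (⟨π a ^ n, pow_mem (Algebra.self_mem_adjoin_singleton _ _) n⟩ : S))
    simp only [Subtype.mk.injEq] at hij
    have hane : π a ≠ 0 := fun h => ha (Ideal.Quotient.eq_zero_iff_mem.1 h)
    obtain ⟨d, hd0, hd⟩ : ∃ d, d ≠ 0 ∧ π a ^ d = 1 := by
      rcases Nat.lt_or_gt_of_ne hne with h | h
      · refine ⟨j - i, by omega, mul_left_cancel₀ (pow_ne_zero i hane) ?_⟩
        rw [← pow_add, mul_one, Nat.add_sub_cancel' h.le, hij]
      · refine ⟨i - j, by omega, mul_left_cancel₀ (pow_ne_zero j hane) ?_⟩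
        rw [← pow_add, mul_one, Nat.add_sub_cancel' h.le, ← hij]
    obtain ⟨e, m, hm, rfl⟩ := Nat.exists_eq_pow_mul_and_not_dvd hd0 p hp.ne_one
    have hm1 : π a ^ m = 1 := by
      have h0 : (π a ^ m - 1) ^ p ^ e = 0 := by
        rw [sub_pow_char_pow, one_pow, ← pow_mul, mul_comm, hd, sub_self]
      exact sub_eq_zero.1 (eq_zero_of_pow_eq_zero h0)
    have hm0 : m ≠ 0 := fun h => hm (h ▸ dvd_zero p)
    haveI : NeZero m := ⟨hm0⟩
    obtain ⟨ζ, hζ⟩ : ∃ ζ : ℂ, IsPrimitiveRoot ζ m := ⟨_, Complex.isPrimitiveRoot_exp m hm0⟩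
    let z : Cfsg.AlgInt := ⟨ζ, isIntegral_of_pow_eq_one hm0 hζ.pow_eq_one⟩
    have hz : z ^ m = 1 := Subtype.ext (by simpa [z] using hζ.pow_eq_one)
    have hprim : IsPrimitiveRoot (π z) m := by
      refine ⟨by rw [← map_pow, hz, map_one], fun l hl => ?_⟩
      rw [← map_pow, ← map_one π, hπ, Ideal.Quotient.eq] at hl
      have := hinj m hm (z ^ l) (by rw [← pow_mul, mul_comm, pow_mul, hz, one_pow]) hl
      exact hζ.dvd_of_pow_eq_one l (by simpa [z] using congrArg Subtype.val this)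
    obtain ⟨l, -, hl⟩ := hprim.eq_pow_of_pow_eq_one hm1
    refine ⟨z ^ l, ⟨m, hm, ?_⟩, ?_⟩
    · have : (z ^ l) ^ m = 1 := by rw [← pow_mul, mul_comm, pow_mul, hz, one_pow]
      simpa using congrArg Subtype.val this
    · rw [← Ideal.Quotient.eq, map_pow]; exact hl.symm

end Cfsg.Agent.S0901
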