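import Cfsg.Statements.S0903
import Cfsg.Agent.Lib.Blocks.PGroupSum

set_option autoImplicit false
open Cfsg

namespace Cfsg.Agent.S0903

/-- Let P be a p-subgroup of the finite group G, let c centralize P and let g, h ∈ G. The number of pairs (x, y) with x conjugate to g, y conjugate to h and x * y = c is congruent modulo p to the number of such pairs in which x and y both centralize P. (This is why the Brauer map on class sums is multiplicative.) -/
theorem result {G : Type*} [Group G] [Finite G] (p : ℕ) [Fact p.Prime] (P : Subgroup G) (hP : IsPGroup p P) (c : G) (hc : c ∈ Subgroup.centralizer (P : Set G)) (g h : G) : Nat.card {xy : G × G // IsConj g xy.1 ∧ IsConj h xy.2 ∧ xy.1 * xy.2 = c} ≡ Nat.card {xy : G × G // IsConj g xy.1 ∧ IsConj h xy.2 ∧ xy.1 * xy.2 = c ∧ xy.1 ∈ Subgroup.centralizer (P : Set G) ∧ xy.2 ∈ Subgroup.centralizer (P : Set G)} [MOD p] := by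
  classical
  set X := {xy : G × G // IsConj g xy.1 ∧ IsConj h xy.2 ∧ xy.1 * xy.2 = c}
  let act : ↥P → X → X := fun u t =>
    ⟨((u : G) * t.1.1 * (u : G)⁻¹, (u : G) * t.1.2 * (u : G)⁻¹),
      t.2.1.trans (isConj_iff.2 ⟨u, rfl⟩), t.2.2.1.trans (isConj_iff.2 ⟨u, rfl⟩), by
        rw [show (u : G) * t.1.1 * (u : G)⁻¹ * ((u : G) * t.1.2 * (u : G)⁻¹) =
          (u : G) * (t.1.1 * t.1.2) * (u : G)⁻¹ by group, t.2.2.2,
          Subgroup.mem_centralizer_iff.1 hc u u.2, mul_inv_cancel_right]⟩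
  letI : MulAction P X :=
    { smul := act
      one_smul := fun t => Subtype.ext (by simp [HSMul.hSMul, SMul.smul, act])
      mul_smul := fun u w t => Subtype.ext (by simp [HSMul.hSMul, SMul.smul, act, mul_assoc]) }
  refine (hP.card_modEq_card_fixedPoints X).trans (congrArg (fun k => k % p) (Nat.card_congr
    { toFun := fun t => ⟨t.1.1, t.1.2.1, t.1.2.2.1, t.1.2.2.2,
        Subgroup.mem_centralizer_iff.2 fun u hu => mul_inv_eq_iff_eq_mul.1
          (congrArg (fun s : X => s.1.1) (t.2 ⟨u, hu⟩ :)),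
        Subgroup.mem_centralizer_iff.2 fun u hu => mul_inv_eq_iff_eq_mul.1
          (congrArg (fun s : X => s.1.2) (t.2 ⟨u, hu⟩ :))⟩
      invFun := fun t => ⟨⟨t.1, t.2.1, t.2.2.1, t.2.2.2.1⟩, fun u => Subtype.ext (Prod.ext
        (mul_inv_eq_iff_eq_mul.2 (Subgroup.mem_centralizer_iff.1 t.2.2.2.2.1 u u.2))
        (mul_inv_eq_iff_eq_mul.2 (Subgroup.mem_centralizer_iff.1 t.2.2.2.2.2 u u.2)))⟩
      left_inv := fun t => rfl
      right_inv := fun t => rfl }))

end Cfsg.Agent.S0903
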