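import Cfsg.Statements.S0905
import Cfsg.Agent.Lib.Blocks.PGroupSum
import Cfsg.Agent.Lib.PLocal.Cores

set_option autoImplicit false
open Cfsg

namespace Cfsg.Agent.S0905

open Cfsg.Agent.Blocks Cfsg.Agent.Characters
open scoped ComplexConjugate

/-- Let F be a field of characteristic p and let g be an element of the finite group G no conjugate of which centralizes O_p(G). Then the class sum of g is a nilpotent element of the group algebra F[G]. -/
theorem result {G : Type*} [Group G] [Finite G] (p : ℕ) [Fact p.Prime] (F : Type*) [Field F] [CharP F p] (g : G) (hg : ∀ x : G, IsConj g x → x ∉ Subgroup.centralizer (Cfsg.pCore p G : Set G)) : IsNilpotent (∑ᶠ x ∈ ConjClasses.carrier (ConjClasses.mk g), MonoidAlgebra.single x (1 : F) : MonoidAlgebra F G) := by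
  classical
  haveI := Fintype.ofFinite G
  haveI : (Cfsg.pCore p G).Normal := Cfsg.Agent.PLocal.Cores.pCore_normal'
  obtain ⟨n, -, hn⟩ := exists_pow_classSumInt_dvd Cfsg.Agent.PLocal.Cores.isPGroup_pCore hg
  have hmap : MonoidAlgebra.mapRingHom G (Int.castRingHom F) (classSumInt g) =
      ∑ᶠ x ∈ ConjClasses.carrier (ConjClasses.mk g), MonoidAlgebra.single x (1 : F) := by
    have hcar : ConjClasses.carrier (ConjClasses.mk g) =
        ↑(Finset.univ.filter (fun x : G => IsConj g x)) := by
      ext x
      simp only [Finset.coe_filter, Finset.mem_univ, true_and, Set.mem_setOf_eq,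
        ConjClasses.mem_carrier_iff_mk_eq, ConjClasses.mk_eq_mk_iff_isConj]
      exact ⟨IsConj.symm, IsConj.symm⟩
    rw [hcar, finsum_mem_coe_finset, classSumInt, map_sum]
    refine Finset.sum_congr (Finset.ext fun x => by simp only [Finset.mem_filter, Finset.mem_univ])
      fun x _ => ?_
    refine MonoidAlgebra.ext (Finsupp.ext fun z => ?_)
    simp only [MonoidAlgebra.coeff_mapRingHom, MonoidAlgebra.coeff_single, Finsupp.single_apply]
    split_ifs <;> simp
  refine ⟨n, ?_⟩
  rw [← hmap, ← map_pow]
  refine MonoidAlgebra.ext (Finsupp.ext fun z => ?_)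
  rw [MonoidAlgebra.coeff_mapRingHom, MonoidAlgebra.coeff_zero, Finsupp.zero_apply]
  exact (CharP.intCast_eq_zero_iff F p _).2 (hn z)

end Cfsg.Agent.S0905
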