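import Cfsg.Statements.S0914
import Cfsg.Agent.Lib.Blocks.Defect

set_option autoImplicit false
open Cfsg

namespace Cfsg.Agent.S0914

open Cfsg.Agent.Blocks Cfsg.Agent.Characters
open scoped ComplexConjugate

/-- Let χ be an irreducible character of the finite group G, p a prime and M a maximal ideal of the algebraic integers containing p. Then p does not divide the integer (Nat.card G) / χ(1) if and only if the block of χ relative to M consists of χ alone. -/
theorem result {G : Type*} [Group G] [Finite G] (p : ℕ) [Fact p.Prime] (M : Ideal Cfsg.AlgInt) (hM : Cfsg.IsPModular p M) (χ : Cfsg.IrrCharacter G) : ¬ p ∣ Nat.card G / Cfsg.charDegree (χ : G → ℂ) ↔ Cfsg.blockOf M (χ : G → ℂ) = {χ} := by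
  classical
  haveI := Fintype.ofFinite G
  haveI := Fintype.ofFinite (Cfsg.IrrCharacter G)
  have hB := isPBlock_blockOf M χ
  have hG : (Nat.card G) ≠ 0 := Nat.card_pos.ne'
  have hd0 := (charDegree_pos χ).ne'
  set dd := Cfsg.charDegree (χ : G → ℂ) with hdd
  constructor
  · intro hnd
    have hself := mem_blockOf_self hM χ
    refine Set.Subset.antisymm (blockOf_subset_of_intEl hM (fun g => ?_) rfl)
      (Set.singleton_subset_iff.2 hself)
    rw [coeff_blockIdem, Cfsg.blockCoeff, finsum_mem_singleton, ← charDegree_cast χ, ← hdd,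
      ← mul_assoc, inv_mul_eq_div]
    refine ring_mul hM (ring_natCast_div hM hG ?_) (irr_conj_ring hM χ g)
    by_contra hlt
    refine hnd (Nat.Prime.dvd_iff_one_le_factorization hM.1 ?_ |>.2 ?_)
    · have hdv : dd ∣ Nat.card G := by
        have := char_degree_dvd_card χ
        exact this
      exact (Nat.div_pos (Nat.le_of_dvd Nat.card_pos hdv) (Nat.pos_of_ne_zero hd0)).ne'
    · rw [Nat.factorization_div (char_degree_dvd_card χ)]
      simp only [Finsupp.coe_tsub, Pi.sub_apply]
      rw [← hdd]
      omega
  · intro hB1 hdvd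
    obtain ⟨g, hg⟩ := exists_defectClass hM hB
    have hχ := mem_blockOf_self hM χ
    obtain ⟨D, hD⟩ := exists_defectGroup hM hB
    have heq := degree_factorization_eq hM hB hχ
    have hh : Cfsg.blockHeight p (Cfsg.blockOf M (χ : G → ℂ)) (χ : G → ℂ) = 0 := by
      obtain ⟨ψ, hψ, h0⟩ := exists_height_zero hM hB
      rw [hB1, Set.mem_singleton_iff] at hψ
      rwa [hψ] at h0
    have hcard := card_defectGroup hM hB hD
    -- the block idempotent vanishes off the `p`-regular elements, so `|G|_p` divides `χ 1`
    obtain ⟨P⟩ : Nonempty (Sylow p G) := inferInstance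
    haveI := Fintype.ofFinite (P : Subgroup G)
    have hvan : ∀ t ∈ (P : Subgroup G), t ≠ 1 → ∑ θ : Cfsg.IrrCharacter G,
        (if θ = χ then (1 : ℂ) else 0) * (θ : G → ℂ) (1 * t) = 0 := by
      intro t ht ht1
      rw [Finset.sum_eq_single χ (by intros; simp [*]) (by simp), if_pos rfl, one_mul, one_mul]
      have hsing : p ∣ orderOf t⁻¹ := by
        rw [orderOf_inv]
        obtain ⟨k, hk⟩ := IsPGroup.iff_orderOf.1 P.isPGroup' ⟨t, ht⟩
        rw [Subgroup.orderOf_mk] at hk
        rw [hk]
        exact dvd_pow_self p fun e => ht1 (orderOf_eq_one_iff.1 (by rw [hk, e, pow_zero]))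
      have h := blockCoeff_eq_zero_of_singular hM (intEl_blockIdem hM hB) hsing
      rw [hB1, Cfsg.blockCoeff, finsum_mem_singleton, ← char_inv (irr_isCharacter χ), inv_inv,
        mul_eq_zero, inv_eq_zero, mul_eq_zero] at h
      exact (h.resolve_left natCard_ne_zero).resolve_left (irr_one_ne_zero χ.2)
    have key := value_div_card_ring hM (D := (P : Subgroup G)) (y := 1) (one_mem _)
      (fun θ => if θ = χ then (1 : ℂ) else 0)
      (fun θ => by split <;> simp [ring_one hM, ring_zero hM]) hvan
    rw [Finset.sum_eq_single χ (by intros; simp [*]) (by simp), if_pos rfl, one_mul,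
      ← charDegree_cast χ, ← hdd, P.card_eq_multiplicity] at key
    have hlt : dd.factorization p < (Nat.card G).factorization p := by
      have := (Nat.Prime.dvd_iff_one_le_factorization hM.1 (by
        exact (Nat.div_pos (Nat.le_of_dvd Nat.card_pos (char_degree_dvd_card χ))
          (Nat.pos_of_ne_zero hd0)).ne')).1 hdvd
      rw [Nat.factorization_div (char_degree_dvd_card χ)] at this
      simp only [Finsupp.coe_tsub, Pi.sub_apply] at this
      rw [← hdd] at this
      omega
    have h2 : Cfsg.MemLocalIdeal M (((p ^ (Nat.card G).factorization p : ℕ) : ℂ) / (dd : ℂ)) := by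
      refine ideal_natCast_div hM hd0 ?_
      rw [hM.1.factorization_pow, Finsupp.single_eq_same]
      exact hlt
    have h3 := ideal_mul_left hM key h2
    rw [div_mul_div_comm, mul_comm, div_self (mul_ne_zero (natCast_p_pow_ne_zero hM _)
      (Nat.cast_ne_zero.2 hd0))] at h3
    exact not_ideal_one hM h3

end Cfsg.Agent.S0914
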