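import Cfsg.Statements.S0916
import Cfsg.Agent.Lib.Blocks.FirstMain

set_option autoImplicit false
open Cfsg

namespace Cfsg.Agent.S0916

open Cfsg.Agent.Blocks Cfsg.Agent.Characters

/-- Let P be a p-subgroup of the finite group G, C its centralizer and N its normalizer. Say that a conjugacy class (of G, or of N) has defect group P when P is a Sylow p-subgroup of the centralizer (in G, respectively in N) of some element of the class. Then: (i) if the class of g in G has defect group P, the elements of that class lying in C form a single N-class, again with defect group P; (ii) every N-class with defect group P arises this way from exactly one G-class with defect group P. -/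
theorem result {G : Type*} [Group G] [Finite G] (p : ℕ) [Fact p.Prime] (P : Subgroup G) (hP : IsPGroup p P) : (∀ g : G, (∃ S : Sylow p (Subgroup.centralizer ({g} : Set G)), (S : Subgroup (Subgroup.centralizer ({g} : Set G))).map (Subgroup.centralizer ({g} : Set G)).subtype = P) → (∃ c : G, IsConj g c ∧ c ∈ Subgroup.centralizer (P : Set G)) ∧ (∀ c₁ c₂ : G, IsConj g c₁ → IsConj g c₂ → c₁ ∈ Subgroup.centralizer (P : Set G) → c₂ ∈ Subgroup.centralizer (P : Set G) → ∃ n ∈ Subgroup.normalizer (P : Set G), n * c₁ * n⁻¹ = c₂)) ∧ (∀ c : G, c ∈ Subgroup.centralizer (P : Set G) → (∃ S : Sylow p (Subgroup.centralizer ({c} : Set G) ⊓ Subgroup.normalizer (P : Set G) : Subgroup G), (S : Subgroup ↥(Subgroup.centralizer ({c} : Set G) ⊓ Subgroup.normalizer (P : Set G))).map (Subgroup.centralizer ({c} : Set G) ⊓ Subgroup.normalizer (P : Set G)).subtype = P) → ∃ S : Sylow p (Subgroup.centralizer ({c} : Set G)), (S : Subgroup (Subgroup.centralizer ({c} : Set G))).map (Subgroup.centralizer ({c} : Set G)).subtype = P) := by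
  refine ⟨fun g hS => ?_, fun c hc hS => ?_⟩
  · obtain ⟨S, hS⟩ := hS
    have hs : IsSylCent p g P := ⟨S, hS.symm⟩
    exact ⟨⟨g, IsConj.refl g, isSylCent_mem hs⟩,
      fun c₁ c₂ h₁ h₂ hc₁ hc₂ => exists_normalizer_conj hs h₁ h₂ hc₁ hc₂⟩
  · obtain ⟨S, hS⟩ := hS
    obtain ⟨T, hT⟩ := isSylCent_of_max hP (le_centralizer_iff_mem.2 hc) fun Q hQ hPQ hQC => by
      refine eq_of_max_normalizer (fun R hR hPR hRC hRN => ?_) hQ hPQ hQC
      have hRK : R ≤ Subgroup.centralizer ({c} : Set G) ⊓ Subgroup.normalizer (P : Set G) :=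
        le_inf hRC hRN
      have h := S.is_maximal' (isPGroup_subgroupOf hR hRK) fun x hx => Subgroup.mem_subgroupOf.2
        (hPR (hS.le ⟨x, hx, rfl⟩))
      rw [← map_subgroupOf_eq hRK, h, hS]
    exact ⟨T, hT.symm⟩

end Cfsg.Agent.S0916
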