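import Cfsg.Statements.S0927
import Cfsg.Agent.Lib.Blocks.Defect

set_option autoImplicit false
open Cfsg

namespace Cfsg.Agent.S0927

open Cfsg.Agent.Blocks Cfsg.Agent.Characters
open scoped ComplexConjugate

/-- Let B be a block of the finite group G relative to a maximal ideal M of the algebraic integers containing p, let y represent a defect class of B and let P be a Sylow p-subgroup of the centralizer of y. (a) If x ∈ P and χ ∈ B has height zero, then χ (x * y) is not in the local ideal at M. (b) If x lies in the centre of P, then for every χ ∈ B the central character of χ at x * y is not in the local ideal at M. -/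
theorem result {G : Type*} [Group G] [Finite G] (p : ℕ) [Fact p.Prime] (M : Ideal Cfsg.AlgInt) (hM : Cfsg.IsPModular p M) (B : Set (Cfsg.IrrCharacter G)) (hB : Cfsg.IsPBlock M B) (y : G) (hy : Cfsg.IsDefectClass M B y) (P : Sylow p (Subgroup.centralizer ({y} : Set G))) (x : Subgroup.centralizer ({y} : Set G)) (hx : x ∈ (P : Subgroup (Subgroup.centralizer ({y} : Set G)))) : (∀ χ ∈ B, Cfsg.blockHeight p B (χ : G → ℂ) = 0 → ¬ Cfsg.MemLocalIdeal M ((χ : G → ℂ) ((x : G) * y))) ∧ ((∀ w ∈ (P : Subgroup (Subgroup.centralizer ({y} : Set G))), x * w = w * x) → ∀ χ ∈ B, ¬ Cfsg.MemLocalIdeal M (Cfsg.centralChar (χ : G → ℂ) ((x : G) * y))) := by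
  have hs : IsSylCent p y ((P : Subgroup (Subgroup.centralizer ({y} : Set G))).map
      (Subgroup.centralizer ({y} : Set G)).subtype) := ⟨P, rfl⟩
  have hxy : Commute (x : G) y := ((Subgroup.mem_centralizer_iff.1 x.2) y rfl).symm
  obtain ⟨k, hk⟩ := IsPGroup.iff_orderOf.1 P.isPGroup' ⟨x, hx⟩
  rw [Subgroup.orderOf_mk] at hk
  have hxk : (x : G) ^ p ^ k = 1 := by
    rw [← Subgroup.orderOf_coe] at hk
    rw [← hk, pow_orderOf_eq_one]
  have hval : ∀ χ : Cfsg.IrrCharacter G,
      Cong M ((χ : G → ℂ) ((x : G) * y)) ((χ : G → ℂ) y) := fun χ =>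
    char_cong_of_commute hM χ hxy hxk (defectClass_regular hM hB hy)
  have h0 : ∀ χ ∈ B, Cfsg.blockHeight p B (χ : G → ℂ) = 0 →
      ¬ Cfsg.MemLocalIdeal M ((χ : G → ℂ) ((x : G) * y)) := by
    intro χ hχ hh
    rw [ideal_iff_of_cong hM (hval χ)]
    intro hi
    refine hy.2.2 χ hχ ?_
    rw [Cfsg.centralChar, mul_div_right_comm, ← charDegree_cast χ]
    refine ideal_mul_left hM (ring_natCast_div hM (charDegree_pos χ).ne' ?_) hi
    have h1 := degree_factorization_eq hM hB hχ
    have h2 := blockDefect_eq hM hB hy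
    have h3 := factorization_index_add (Subgroup.centralizer ({y} : Set G)) p
    rw [hh] at h1
    rw [show (Nat.card (Subgroup.centralizer ({y} : Set G))).factorization p = Cfsg.blockDefect p B from h2.symm] at h3
    omega
  refine ⟨h0, fun hcomm χ hχ => ?_⟩
  obtain ⟨χ₀, hχ₀, hh⟩ := exists_height_zero hM hB
  intro hi
  refine h0 χ₀ hχ₀ hh ?_
  have hi0 := (ideal_iff_of_cong hM (sameBlock_of_mem hM hB hχ hχ₀ ((x : G) * y))).1 hi
  rw [Cfsg.centralChar, mul_div_right_comm, ← charDegree_cast χ₀] at hi0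
  set C' := Subgroup.centralizer ({(x : G) * y} : Set G)
  have hle : (P : Subgroup (Subgroup.centralizer ({y} : Set G))).map (Subgroup.centralizer ({y} : Set G)).subtype ≤ C' := by
    rintro _ ⟨w, hw, rfl⟩
    rw [Subgroup.mem_centralizer_iff]
    rintro _ rfl
    have e1 : (w : G) * x = x * w := (congrArg Subtype.val (hcomm w hw)).symm
    have e2 : (w : G) * y = y * w := ((Subgroup.mem_centralizer_iff.1 w.2) y rfl).symm
    show (x : G) * y * (w : G) = (w : G) * ((x : G) * y)
    rw [← mul_assoc, e1, mul_assoc, mul_assoc, e2]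
  have h1 := degree_factorization_eq hM hB hχ₀
  have h3 := factorization_index_add C' p
  have h4 : Cfsg.blockDefect p B ≤ (Nat.card C').factorization p := by
    have hc := Subgroup.card_dvd_of_le hle
    rw [card_sylCent_eq hs, ← blockDefect_eq hM hB hy] at hc
    exact (hM.1.pow_dvd_iff_le_factorization Nat.card_pos.ne').1 hc
  have hu : ¬ Cfsg.MemLocalIdeal M ((C'.index : ℂ) / (Cfsg.charDegree (χ₀ : G → ℂ) : ℂ)) := by
    refine not_ideal_natCast_div hM C'.index_ne_zero_of_finite (charDegree_pos χ₀).ne' ?_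
    rw [hh] at h1
    have h5 : C'.index.factorization p ≤ (Cfsg.charDegree (χ₀ : G → ℂ)).factorization p := by omega
    by_contra hne'
    have h6 : C'.index.factorization p < (Cfsg.charDegree (χ₀ : G → ℂ)).factorization p := by omega
    exact h0 χ₀ hχ₀ hh (ideal_value_of_index_lt hM χ₀ _ h6)
  exact ((ideal_mul_iff hM (ring_natCast_div hM (charDegree_pos χ₀).ne' (by
    by_contra hlt
    exact h0 χ₀ hχ₀ hh (ideal_value_of_index_lt hM χ₀ _ (by show C'.index.factorization p < _; omega))))
    (irr_value_ring hM χ₀ _)).1 hi0).resolve_left hu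

end Cfsg.Agent.S0927
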