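import Cfsg.Statements.S0928
import Cfsg.Agent.Lib.Blocks.DefectCenter
import Cfsg.Agent.BlockCharsA.DefectZeroVanish

set_option autoImplicit false
open Cfsg

namespace Cfsg.Agent.S0928

open Cfsg.Agent.Blocks Cfsg.Agent.Characters

/-- Let χ be an irreducible character of the finite group G and p a prime. If χ g = 0 for every element g of order p, then the exponent of p in the degree χ(1) equals the exponent of p in the order of G (χ has p-defect zero). -/
theorem result {G : Type*} [Group G] [Finite G] (p : ℕ) [Fact p.Prime] (χ : Cfsg.IrrCharacter G) (hvan : ∀ g : G, orderOf g = p → (χ : G → ℂ) g = 0) : (Cfsg.charDegree (χ : G → ℂ)).factorization p = (Nat.card G).factorization p := by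
  obtain ⟨M, hM⟩ := Cfsg.Agent.BlockCharsA.DefectZeroVanish.exists_modular (Fact.out : p.Prime)
  have h0 := blockDefect_zero_of_vanish hM χ hvan
  have h := degree_factorization_eq hM (isPBlock_blockOf M χ) (mem_blockOf_self hM χ)
  have hle := (Nat.factorization_le_iff_dvd (charDegree_pos χ).ne' Nat.card_pos.ne').2
    (char_degree_dvd_card χ) p
  omega

end Cfsg.Agent.S0928
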