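import Cfsg.Statements.S0932
import Cfsg.Agent.Lib.Blocks.GroupAlgebra
import Cfsg.Agent.Lib.Characters.Induction

set_option autoImplicit false
open Cfsg

namespace Cfsg.Agent.S0932

open Cfsg.Agent.Blocks Cfsg.Agent.Characters
open scoped ComplexConjugate

/-- Let H be a subgroup of the finite group G and ξ a character of H. For every g ∈ G, the sum of ξ h / ξ 1 over the elements h ∈ H that are conjugate in G to g equals the central character at g of the character of G induced from ξ (class size times value divided by degree). -/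
theorem result {G : Type*} [Group G] [Fintype G] (H : Subgroup G) (ξ : H → ℂ) (hξ : Cfsg.IsCharacter H ξ) (g : G) : Cfsg.inducedCentralChar H ξ g = Cfsg.centralChar (Cfsg.indFun H ξ) g := by
  classical
  rw [Cfsg.inducedCentralChar, Cfsg.centralChar, indFun_one]
  rcases eq_or_ne (ξ 1) 0 with h0 | h0
  · simp [h0]
  haveI := Fintype.ofFinite H
  rw [finsum_mem_def, finsum_eq_sum_of_fintype]
  have hG : (Nat.card H : ℂ) * (H.index : ℂ) = (Nat.card G : ℂ) := by
    exact_mod_cast H.card_mul_index
  have hkey : (Nat.card H : ℂ) * Cfsg.indFun H ξ g * (Subgroup.centralizer ({g} : Set G)).index =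
      (Nat.card G : ℂ) * ∑ h : H, {h : H | IsConj g (h : G)}.indicator ξ h := by
    rw [CharTheory.IndBasic.card_mul_indFun]
    have hcl : ∀ y : G, IsConj g y → ∑ x : G, Cfsg.extendByZero H ξ (x⁻¹ * g * x) =
        ∑ x : G, Cfsg.extendByZero H ξ (x⁻¹ * y * x) := by
      intro y hy
      obtain ⟨c, rfl⟩ := isConj_iff.1 hy
      exact Fintype.sum_equiv (Equiv.mulLeft c) _ _ fun x => by
        simp [mul_assoc]
    rw [← card_filter_isConj g, mul_comm, ← nsmul_eq_mul, ← Finset.sum_const,
      Finset.sum_congr rfl fun y hy => hcl y (Finset.mem_filter.1 hy).2, Finset.sum_comm]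
    rw [Finset.sum_congr rfl (g := fun _ : G =>
      ∑ h : H, {h : H | IsConj g (h : G)}.indicator ξ h) fun x _ => ?_]
    · simp [Nat.card_eq_fintype_card]
    rw [Finset.sum_filter]
    calc ∑ y : G, (if IsConj g y then Cfsg.extendByZero H ξ (x⁻¹ * y * x) else 0)
        = ∑ y : G, Cfsg.extendByZero H ξ y * (if IsConj g y then 1 else 0) := by
          refine Fintype.sum_equiv (MulAut.conj x⁻¹).toEquiv _ _ fun y => ?_
          simp only [MulEquiv.toEquiv_eq_coe, MulEquiv.coe_toEquiv, MulAut.conj_apply, inv_inv]
          have hiff : IsConj g (x⁻¹ * y * x) ↔ IsConj g y := by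
            simpa using isConj_conj_right_iff (g := g) (x := y) (h := x⁻¹)
          by_cases hy : IsConj g y
          · rw [if_pos hy, if_pos (hiff.2 hy), mul_one]
          · rw [if_neg hy, if_neg (fun h => hy (hiff.1 h)), mul_zero]
      _ = _ := by
          rw [sum_extendByZero_mul H ξ]
          exact Finset.sum_congr rfl fun h _ => by
            by_cases hh : IsConj g (h : G)
            · rw [if_pos hh, mul_one, Set.indicator_of_mem (show h ∈ {h : H | IsConj g (h : G)} from hh)]
            · rw [if_neg hh, mul_zero, Set.indicator_of_notMem (show h ∉ {h : H | IsConj g (h : G)} from hh)]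
  rw [show (∑ i : H, {h : H | IsConj g (h : G)}.indicator (fun h => ξ h / ξ 1) i) =
      (∑ h : H, {h : H | IsConj g (h : G)}.indicator ξ h) / ξ 1 by
    rw [Finset.sum_div]
    exact Finset.sum_congr rfl fun h _ => by
      by_cases hh : h ∈ {h : H | IsConj g (h : G)}
      · rw [Set.indicator_of_mem hh, Set.indicator_of_mem hh]
      · rw [Set.indicator_of_notMem hh, Set.indicator_of_notMem hh, zero_div]]
  have hi : (H.index : ℂ) ≠ 0 := Nat.cast_ne_zero.2 H.index_ne_zero_of_finite
  have hH : (Nat.card H : ℂ) ≠ 0 := Nat.cast_ne_zero.2 Nat.card_pos.ne'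
  rw [div_eq_div_iff h0 (mul_ne_zero hi h0)]
  rw [← hG] at hkey
  refine mul_left_cancel₀ hH ?_
  linear_combination -(ξ 1) * hkey

end Cfsg.Agent.S0932
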