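import Cfsg.Statements.S0951
import Cfsg.Agent.Lib.ZStar.Consequences

set_option autoImplicit false
open Cfsg

namespace Cfsg.Agent.S0951

/-- Let S be a Sylow 2-subgroup of the finite group G isomorphic to the quaternion group of order 8. Suppose G has no nontrivial normal subgroup of odd order and G ≠ S. Then, relative to any maximal ideal M of the algebraic integers containing 2, the principal block of G consists of exactly 7 irreducible characters. -/
theorem result {G : Type*} [Group G] [Finite G] (M : Ideal Cfsg.AlgInt) (hM : Cfsg.IsPModular 2 M) (S : Sylow 2 G) (e : (S : Subgroup G) ≃* QuaternionGroup 2) (hO : ∀ N : Subgroup G, N.Normal → Odd (Nat.card N) → N = ⊥) (hG : (S : Subgroup G) ≠ ⊤) : Nat.card (Cfsg.principalBlock M G) = 7 := by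
  classical
  haveI : Fact (Nat.Prime 2) := ⟨Nat.prime_two⟩
  haveI := Fintype.ofFinite G
  haveI := Fintype.ofFinite (Cfsg.IrrCharacter G)
  have hO' := Agent.ZStar.Consequences.oddCore_eq_bot hO
  have hU := Agent.ZStar.Consequences.commInvEq_of_sylow_quaternion S e
  have h2 : 2 ∣ Nat.card (S : Subgroup G) := by
    rw [Nat.card_congr e.toEquiv, Nat.card_eq_fintype_card, QuaternionGroup.card]
    norm_num
  obtain ⟨z, hz⟩ := exists_prime_orderOf_dvd_card' 2 h2
  have hz' : orderOf (z : G) = 2 := by rw [Subgroup.orderOf_coe, hz]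
  have hnc : ¬ Agent.Transfer.Frobenius.Condition 2 G := fun h => by
    obtain ⟨T, N, hN, hc⟩ := Agent.Transfer.Frobenius.hasNormalPComplement_of_condition h
    have hT := Agent.ZStar.Main.sylow_eq_top_of_complement hO' T hN hc
    refine hG (Subgroup.eq_top_of_card_eq _ ?_)
    rw [S.card_eq_multiplicity, ← T.card_eq_multiplicity, hT, Subgroup.card_top]
  exact (Agent.ZStar.QuaternionEight.exists_trivial_and_card hM S e hU z.2 hz' hnc).2
    (Agent.ZStar.Main.mem_center_of_isolated hO'
      (Agent.ZStar.UniqueInvolution.isolated hU hz'))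

end Cfsg.Agent.S0951
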