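import Cfsg.Statements.S0955
import Cfsg.Agent.Lib.Blocks.FirstMain
import Cfsg.Agent.Lib.PLocal.Cores

set_option autoImplicit false
open Cfsg

namespace Cfsg.Agent.S0955

open Cfsg.Agent.Blocks Cfsg.Agent.Characters

/-- Let D be a defect group of a block of the finite group G relative to a maximal ideal M of the algebraic integers containing the prime p. Then D is the largest normal p-subgroup of its own normalizer: O_p(N_G(D)) = D. -/
theorem result {G : Type*} [Group G] [Finite G] (p : ℕ) [Fact p.Prime] (M : Ideal Cfsg.AlgInt) (hM : Cfsg.IsPModular p M) (B : Set (Cfsg.IrrCharacter G)) (hB : Cfsg.IsPBlock M B) (D : Subgroup G) (hD : Cfsg.IsDefectGroup p M B D) : (Cfsg.pCore p (Subgroup.normalizer (D : Set G))).map (Subgroup.normalizer (D : Set G)).subtype = D := by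
  obtain ⟨b, ⟨hb, hbD, hind⟩, -⟩ := existsUnique_correspondent hM hB hD
  haveI : (Cfsg.pCore p (Subgroup.normalizer (D : Set G))).Normal :=
    Cfsg.Agent.PLocal.Cores.pCore_normal'
  haveI := normal_subgroupOf (H := Subgroup.normalizer (D : Set G)) (P := D) le_rfl
  refine le_antisymm ?_ ?_
  · refine (Subgroup.map_mono (normal_le_defect hM Cfsg.Agent.PLocal.Cores.isPGroup_pCore hb hbD)).trans ?_
    rw [map_subgroupOf_eq Subgroup.le_normalizer]
  · conv_lhs => rw [← map_subgroupOf_eq (Subgroup.le_normalizer (H := D))]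
    exact Subgroup.map_mono (Cfsg.Agent.PLocal.Cores.le_pCore
      (isPGroup_subgroupOf (isPGroup_defect hD) Subgroup.le_normalizer))

end Cfsg.Agent.S0955
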