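import Cfsg.Statements.S0957
import Cfsg.Agent.Lib.Blocks.Defect

set_option autoImplicit false
open Cfsg

namespace Cfsg.Agent.S0957

open Cfsg.Agent.Blocks Cfsg.Agent.Characters

/-- Let P be a Sylow p-subgroup of the finite group G, let g, h ∈ G and let p ^ d be the order of a Sylow p-subgroup of the centralizer of g. Then the number of pairs (y, z) with y conjugate to g, z conjugate to h and z * y⁻¹ ∈ P is divisible by the order of P divided by p ^ d. -/
theorem result {G : Type*} [Group G] [Finite G] (p : ℕ) [Fact p.Prime] (P : Sylow p G) (g h : G) (S : Sylow p (Subgroup.centralizer ({g} : Set G))) : Nat.card P / Nat.card S ∣ Nat.card {yz : G × G // IsConj g yz.1 ∧ IsConj h yz.2 ∧ yz.2 * yz.1⁻¹ ∈ (P : Subgroup G)} := by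
  classical
  set T := {yz : G × G // IsConj g yz.1 ∧ IsConj h yz.2 ∧ yz.2 * yz.1⁻¹ ∈ (P : Subgroup G)}
  let act : ↥(P : Subgroup G) → T → T := fun u t => ⟨((u : G) * t.1.1 * (u : G)⁻¹, (u : G) * t.1.2 * (u : G)⁻¹),
    t.2.1.trans (isConj_iff.2 ⟨u, rfl⟩), t.2.2.1.trans (isConj_iff.2 ⟨u, rfl⟩), by
      have := (P : Subgroup G).mul_mem ((P : Subgroup G).mul_mem u.2 t.2.2.2)
        ((P : Subgroup G).inv_mem u.2)
      simpa [mul_assoc] using this⟩
  letI : MulAction (P : Subgroup G) T :=
    { smul := act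
      one_smul := fun t => Subtype.ext (by show _ = t.1; simp [HSMul.hSMul, SMul.smul, act])
      mul_smul := fun u w t => Subtype.ext (by
        simp [HSMul.hSMul, SMul.smul, act, mul_assoc]) }
  haveI : Finite T := Subtype.finite
  haveI := Fintype.ofFinite T
  haveI := Fintype.ofFinite (MulAction.orbitRel.Quotient (P : Subgroup G) T)
  rw [Nat.card_congr (MulAction.selfEquivSigmaOrbits (P : Subgroup G) T), Nat.card_sigma]
  refine Finset.dvd_sum fun ω _ => ?_
  set t := Quotient.out ω
  haveI := Fintype.ofFinite (MulAction.orbit (P : Subgroup G) t)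
  haveI := Fintype.ofFinite (MulAction.stabilizer (P : Subgroup G) t)
  haveI := Fintype.ofFinite (P : Subgroup G)
  set R := (MulAction.stabilizer (P : Subgroup G) t).map (P : Subgroup G).subtype
  have hR : IsPGroup p R := (P.isPGroup'.to_subgroup _).map _
  have hRg : R ≤ Subgroup.centralizer ({t.1.1} : Set G) := by
    rintro _ ⟨u, hu, rfl⟩
    refine Subgroup.mem_centralizer_singleton_iff.2 ?_
    have h2 : (u : G) * t.1.1 * (u : G)⁻¹ = t.1.1 :=
      congrArg (fun s : T => s.1.1) (hu : u • t = t)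
    exact mul_inv_eq_iff_eq_mul.1 h2
  obtain ⟨a, ha⟩ := isConj_iff.1 t.2.1
  have hdvd : Nat.card R ∣ Nat.card (S : Subgroup (Subgroup.centralizer ({g} : Set G))) := by
    obtain ⟨k, hk⟩ := IsPGroup.iff_card.1 hR
    have hd := Subgroup.card_dvd_of_le hRg
    rw [← ha, card_centralizer_conj, hk] at hd
    rw [S.card_eq_multiplicity, hk]
    exact pow_dvd_pow p (((Fact.out : p.Prime).pow_dvd_iff_le_factorization Nat.card_pos.ne').1 hd)
  rw [Subgroup.card_map_of_injective (P : Subgroup G).subtype_injective] at hdvd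
  have horb : Nat.card (MulAction.orbit (P : Subgroup G) t) *
      Nat.card (MulAction.stabilizer (P : Subgroup G) t) = Nat.card (P : Subgroup G) := by
    simpa only [Nat.card_eq_fintype_card] using
      MulAction.card_orbit_mul_card_stabilizer_eq_card_group (P : Subgroup G) t
  obtain ⟨c, hc⟩ := hdvd
  show Nat.card (P : Subgroup G) / _ ∣ _
  rw [← horb, hc, mul_comm (Nat.card (MulAction.orbit _ t)),
    Nat.mul_div_mul_left _ _ Nat.card_pos]
  refine Nat.div_dvd_of_dvd (Nat.dvd_of_mul_dvd_mul_left Nat.card_pos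
    (show Nat.card (MulAction.stabilizer (P : Subgroup G) t) * c ∣ _ * _ from ?_))
  rw [mul_comm _ (Nat.card (MulAction.orbit _ t)), horb, ← hc]
  show Nat.card S ∣ Nat.card P
  rw [S.card_eq_multiplicity, P.card_eq_multiplicity]
  exact pow_dvd_pow p ((Nat.factorization_le_iff_dvd Nat.card_pos.ne' Nat.card_pos.ne').2
    (Subgroup.card_subgroup_dvd_card _) p)

end Cfsg.Agent.S0957
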