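import Cfsg.Statements.S0962
import Cfsg.Agent.Lib.Blocks.Defect

set_option autoImplicit false
open Cfsg

namespace Cfsg.Agent.S0962

open Cfsg.Agent.Blocks Cfsg.Agent.Characters
open scoped ComplexConjugate

/-- Fix a maximal ideal M of the algebraic integers containing the prime p and a natural number d. The number of blocks of the finite group G of defect at least d is at most the number of conjugacy classes of p-regular elements of G of defect at least d, where the defect of a class is the exponent of p in the order of the centralizer of any of its elements. -/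
theorem result {G : Type*} [Group G] [Finite G] (p : ℕ) [Fact p.Prime] (M : Ideal Cfsg.AlgInt) (hM : Cfsg.IsPModular p M) (d : ℕ) : Nat.card {B : Set (Cfsg.IrrCharacter G) // Cfsg.IsPBlock M B ∧ d ≤ Cfsg.blockDefect p B} ≤ Nat.card {C : ConjClasses G // ∃ g : G, ConjClasses.mk g = C ∧ Cfsg.IsPRegular p g ∧ d ≤ (Nat.card (Subgroup.centralizer ({g} : Set G))).factorization p} := by
  classical
  haveI := Fintype.ofFinite (ConjClasses G)
  haveI := Fintype.ofFinite (Cfsg.IrrCharacter G)
  set ι := {B : Set (Cfsg.IrrCharacter G) // Cfsg.IsPBlock M B ∧ d ≤ Cfsg.blockDefect p B}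
  set κ := {C : ConjClasses G // ∃ g : G, ConjClasses.mk g = C ∧ Cfsg.IsPRegular p g ∧
    d ≤ (Nat.card (Subgroup.centralizer ({g} : Set G))).factorization p}
  haveI := Fintype.ofFinite ι
  haveI := Fintype.ofFinite κ
  choose χ hχ using fun B : ι => block_nonempty hM B.2.1
  set r : κ → G := fun C => Quotient.out C.1
  let A : Matrix ι κ ℂ := Matrix.of fun B C => Cfsg.blockCoeff B.1 (r C)
  let W : Matrix κ ι ℂ := Matrix.of fun C B => Cfsg.centralChar (χ B : G → ℂ) (r C)
  have hprod : ∀ B B', Cong M ((A * W) B B') (if B = B' then 1 else 0) := by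
    intro B B'
    have h1 := congrArg (omega (χ B' : G → ℂ)) (central_eq_sum (central_blockIdem B.1))
    have h2 : omega (χ B' : G → ℂ) (blockIdem B.1) = if B = B' then 1 else 0 := by
      by_cases e : B = B'
      · subst e; rw [if_pos rfl, omega_blockIdem_mem (hχ B)]
      · rw [if_neg e, omega_blockIdem_notMem fun hmem =>
          e (Subtype.ext (block_eq_of_mem hM B.2.1 B'.2.1 hmem (hχ B')))]
    rw [h2, omega_sum] at h1
    simp only [omega_smul, omega_classSum (irr_isClassFunction (χ B')), coeff_blockIdem] at h1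
    rw [h1, ← Finset.sum_filter_add_sum_filter_not Finset.univ (fun C : ConjClasses G =>
      ∃ g : G, ConjClasses.mk g = C ∧ Cfsg.IsPRegular p g ∧
        d ≤ (Nat.card (Subgroup.centralizer ({g} : Set G))).factorization p)]
    rw [Finset.sum_subtype (p := fun C : ConjClasses G => ∃ g : G, ConjClasses.mk g = C ∧
      Cfsg.IsPRegular p g ∧ d ≤ (Nat.card (Subgroup.centralizer ({g} : Set G))).factorization p)
      _ (fun C => by simp) _]
    have hz : Cfsg.MemLocalIdeal M (∑ C ∈ Finset.univ.filter (fun C : ConjClasses G =>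
        ¬ ∃ g : G, ConjClasses.mk g = C ∧ Cfsg.IsPRegular p g ∧
          d ≤ (Nat.card (Subgroup.centralizer ({g} : Set G))).factorization p),
        Cfsg.blockCoeff B.1 (Quotient.out C) * Cfsg.centralChar (χ B' : G → ℂ) (Quotient.out C)) := by
      refine ideal_sum hM fun C hC => ?_
      by_contra hn
      rw [ideal_mul_iff hM (blockCoeff_ring hM B.2.1 _) (centralChar_ring hM _ _), not_or] at hn
      refine (Finset.mem_filter.1 hC).2 ⟨_, Quotient.out_eq C,
        not_singular_of_blockCoeff hM B.2.1 hn.1, ?_⟩
      obtain ⟨g, hg⟩ := exists_defectClass hM B'.2.1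
      have := (defectClass_minimal hM B'.2.1 hg (hχ B')).2 _ hn.2
      have h4 := blockDefect_eq hM B'.2.1 hg
      have h5 := B'.2.2
      omega
    unfold Cong
    rw [show (A * W) B B' = ∑ C : κ, Cfsg.blockCoeff B.1 (Quotient.out C.1) *
        Cfsg.centralChar (χ B' : G → ℂ) (Quotient.out C.1) from rfl, sub_add_cancel_left]
    exact ideal_neg hM hz
  have hdet : Cong M (A * W).det 1 := by
    rw [Matrix.det_apply', ← Matrix.det_one (n := ι) (R := ℂ), Matrix.det_apply']
    refine cong_sum hM fun σ _ => cong_mul_left hM (ring_intCast hM _) ?_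
    have : ∀ s : Finset ι, Cong M (∏ i ∈ s, (A * W) (σ i) i)
        (∏ i ∈ s, (1 : Matrix ι ι ℂ) (σ i) i) ∧
        Cfsg.MemLocalRing M (∏ i ∈ s, (1 : Matrix ι ι ℂ) (σ i) i) := by
      intro s
      induction s using Finset.induction with
      | empty => simp [cong_refl hM, ring_one hM]
      | insert i s hi ih =>
        rw [Finset.prod_insert hi, Finset.prod_insert hi]
        have h1 : Cong M ((A * W) (σ i) i) ((1 : Matrix ι ι ℂ) (σ i) i) := by
          rw [Matrix.one_apply]; exact hprod _ _
        have h2 : Cfsg.MemLocalRing M ((1 : Matrix ι ι ℂ) (σ i) i) := by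
          rw [Matrix.one_apply]; split <;> simp [ring_one hM, ring_zero hM]
        exact ⟨cong_mul hM h1 ih.1 h2 ih.2, ring_mul hM h2 ih.2⟩
    exact (this Finset.univ).1
  have hne : (A * W).det ≠ 0 := fun e => not_cong_zero_one hM (e ▸ hdet)
  have hrank : (A * W).rank = Fintype.card ι :=
    Matrix.rank_of_isUnit _ ((Matrix.isUnit_iff_isUnit_det _).2 (isUnit_iff_ne_zero.2 hne))
  have := (Matrix.rank_mul_le_left A W).trans A.rank_le_card_width
  rw [hrank] at this
  rw [Nat.card_eq_fintype_card, Nat.card_eq_fintype_card]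
  exact this

end Cfsg.Agent.S0962
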