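import Cfsg.Statements.S0973
import Cfsg.Agent.Lib.Blocks.Correspondents

set_option autoImplicit false
open Cfsg

namespace Cfsg.Agent.S0973

open Cfsg.Agent.Blocks Cfsg.Agent.Characters

/-- Let B be a block of the finite group G with defect group P (relative to a maximal ideal M of the algebraic integers containing p), and let L = P ⊔ C_G(P). Then (i) some block b of L with defect group P (viewed in L) induces B, and (ii) if b and b' are blocks of L both inducing B, there is n ∈ N_G(P) carrying b to b': for every θ ∈ b there is θ' ∈ b' with θ' x = θ (n x n⁻¹) for all x ∈ L. -/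
theorem result {G : Type*} [Group G] [Finite G] (p : ℕ) [Fact p.Prime] (M : Ideal Cfsg.AlgInt) (hM : Cfsg.IsPModular p M) (B : Set (Cfsg.IrrCharacter G)) (hB : Cfsg.IsPBlock M B) (P : Subgroup G) (hP : Cfsg.IsDefectGroup p M B P) : (∃ b : Set (Cfsg.IrrCharacter ↥(P ⊔ Subgroup.centralizer (P : Set G))), Cfsg.IsDefectGroup p M b (P.subgroupOf (P ⊔ Subgroup.centralizer (P : Set G))) ∧ Cfsg.IsInducedBlock M (P ⊔ Subgroup.centralizer (P : Set G)) b B) ∧ ∀ b b' : Set (Cfsg.IrrCharacter ↥(P ⊔ Subgroup.centralizer (P : Set G))), Cfsg.IsInducedBlock M (P ⊔ Subgroup.centralizer (P : Set G)) b B → Cfsg.IsInducedBlock M (P ⊔ Subgroup.centralizer (P : Set G)) b' B → ∃ n ∈ Subgroup.normalizer (P : Set G), ∀ θ ∈ b, ∃ θ' ∈ b', ∀ x : ↥(P ⊔ Subgroup.centralizer (P : Set G)), ∀ hx : n * (x : G) * n⁻¹ ∈ P ⊔ Subgroup.centralizer (P : Set G), (θ' : ↥(P ⊔ Subgroup.centralizer (P : Set G)) → ℂ) x = (θ : ↥(P ⊔ Subgroup.centralizer (P : Set G)) → ℂ) ⟨n * (x : G) * n⁻¹, hx⟩ := by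
  refine ⟨?_, fun b b' h h' => correspondents_conj hM hP h h'⟩
  have hPp := isPGroup_defect hP
  have hHN : P ⊔ Subgroup.centralizer (P : Set G) ≤ Subgroup.normalizer (P : Set G) :=
    sup_le Subgroup.le_normalizer (centralizer_le_normalizer' P)
  obtain ⟨b, hind⟩ := (exists_induced_iff hM hPp le_sup_left le_sup_right hHN hB hP).2
    ⟨1, by rw [map_conj_one]⟩
  obtain ⟨D, hD⟩ := exists_defectGroup hM hind.1
  haveI := normal_subgroupOf (P := P) hHN
  have hle := normal_le_defect hM (isPGroup_subgroupOf hPp le_sup_left) hind.1 hD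
  obtain ⟨E, hE, hDE⟩ := exists_defect_le_of_induced hM hind hD
  obtain ⟨x, rfl⟩ := exists_defectGroup_conj_eq hM hB hP hE
  refine ⟨b, ?_, hind⟩
  rwa [eq_of_le_of_card_le hle ?_]
  rw [Nat.card_congr (Subgroup.subgroupOfEquivOfLe
      (le_sup_left : P ≤ P ⊔ Subgroup.centralizer (P : Set G))).toEquiv,
    ← Subgroup.card_map_of_injective (P ⊔ Subgroup.centralizer (P : Set G)).subtype_injective,
    ← card_map_conj P x]
  exact Subgroup.card_le_of_le hDE

end Cfsg.Agent.S0973
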