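import Cfsg.Statements.S0986
import Mathlib

set_option autoImplicit false
open Cfsg

namespace Cfsg.Agent.S0986

/-- Let P and Q be distinct Sylow p-subgroups of a finite group G chosen so that the order of P ∩ Q is as large as possible among intersections of two distinct Sylow p-subgroups, and let N be the normalizer of P ∩ Q. Then N has more than one Sylow p-subgroup, any two distinct Sylow p-subgroups of N intersect exactly in P ∩ Q, and each Sylow p-subgroup of N lies in exactly one Sylow p-subgroup of G. -/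
theorem result {G : Type*} [Group G] [Finite G] (p : ℕ) [Fact p.Prime] (P Q : Sylow p G) (hPQ : P ≠ Q) (hmax : ∀ P' Q' : Sylow p G, P' ≠ Q' → Nat.card ↥((P' : Subgroup G) ⊓ (Q' : Subgroup G)) ≤ Nat.card ↥((P : Subgroup G) ⊓ (Q : Subgroup G))) : 1 < Nat.card (Sylow p ↥(Subgroup.normalizer (((P : Subgroup G) ⊓ (Q : Subgroup G) : Subgroup G) : Set G))) ∧ (∀ S T : Sylow p ↥(Subgroup.normalizer (((P : Subgroup G) ⊓ (Q : Subgroup G) : Subgroup G) : Set G)), S ≠ T → (S : Subgroup _) ⊓ (T : Subgroup _) = ((P : Subgroup G) ⊓ (Q : Subgroup G)).subgroupOf (Subgroup.normalizer (((P : Subgroup G) ⊓ (Q : Subgroup G) : Subgroup G) : Set G))) ∧ ∀ S : Sylow p ↥(Subgroup.normalizer (((P : Subgroup G) ⊓ (Q : Subgroup G) : Subgroup G) : Set G)), ∃! T : Sylow p G, (S : Subgroup _).map (Subgroup.normalizer (((P : Subgroup G) ⊓ (Q : Subgroup G) : Subgroup G) : Set G)).subtype ≤ (T : Subgroup G) := by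
  classical
  set D : Subgroup G := (P : Subgroup G) ⊓ (Q : Subgroup G) with hD
  set N : Subgroup G := Subgroup.normalizer (D : Set G) with hN
  have hDN : D ≤ N := Subgroup.le_normalizer
  have hlift : ∀ S : Sylow p N, ∃ T : Sylow p G, (S : Subgroup N).map N.subtype ≤ (T : Subgroup G) :=
    fun S => (S.2.map N.subtype).exists_le_sylow
  have hback : ∀ (S : Sylow p N) (T : Sylow p G), (S : Subgroup N).map N.subtype ≤ (T : Subgroup G) →
      (T : Subgroup G).subgroupOf N = S := fun S T hT =>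
    S.3 (T.2.comap_of_injective N.subtype N.subtype_injective) fun x hx => hT ⟨x, hx, rfl⟩
  haveI : (D.subgroupOf N).Normal := Subgroup.normal_in_normalizer
  have hDS : ∀ S : Sylow p N, D.subgroupOf N ≤ S := fun S =>
    IsPGroup.le_sylow_of_normal (N := D.subgroupOf N) ((P.2.to_le inf_le_left).comap_of_injective N.subtype N.subtype_injective) S
  -- the intersection is proper in both
  have hlt : ∀ R : Sylow p G, D ≤ (R : Subgroup G) → (P ≠ R ∨ Q ≠ R) → D < (R : Subgroup G) ⊓ N := by
    intro R hR hne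
    have hDR : D ≠ (R : Subgroup G) := by
      intro he
      rcases hne with h | h
      · exact h (Sylow.ext (R.3 P.2 (he ▸ inf_le_left)))
      · exact h (Sylow.ext (R.3 Q.2 (he ▸ inf_le_right)))
    haveI := Fintype.ofFinite (R : Subgroup G)
    haveI : Group.IsNilpotent (R : Subgroup G) := R.2.isNilpotent
    have hlt' : D.subgroupOf (R : Subgroup G) < ⊤ := lt_top_iff_ne_top.2 fun he =>
      hDR (le_antisymm hR (Subgroup.subgroupOf_eq_top.1 he))
    have := Group.normalizerCondition_of_isNilpotent (G := (R : Subgroup G)) _ hlt'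
    obtain ⟨x, hx, hxD⟩ := SetLike.exists_of_lt this
    refine lt_of_le_of_ne (le_inf hR hDN) fun he => hxD ?_
    have hxN : (x : G) ∈ N := by
      rw [hN, Subgroup.mem_normalizer_iff]
      intro y
      constructor
      · intro hy
        exact (Subgroup.mem_normalizer_iff.1 hx ⟨y, hR hy⟩).1 hy
      · intro hy
        have h2 : x⁻¹ * ⟨(x : G) * y * (x : G)⁻¹, hR hy⟩ * x ∈ D.subgroupOf (R : Subgroup G) :=
          (Subgroup.mem_normalizer_iff''.1 hx _).1 hy
        simpa [Subgroup.mem_subgroupOf, mul_assoc] using h2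
    show (x : G) ∈ D
    rw [he]
    exact ⟨x.2, hxN⟩
  have hcardlt : ∀ A B : Subgroup G, A < B → Nat.card A < Nat.card B := fun A B h => by
    by_contra hge
    exact h.ne (Subgroup.eq_of_le_of_card_ge h.le (not_lt.1 hge))
  refine ⟨?_, ?_, ?_⟩
  · by_contra hc
    haveI : Subsingleton (Sylow p N) := Finite.card_le_one_iff_subsingleton.1 (not_lt.1 hc)
    let S : Sylow p N := default
    obtain ⟨T, hT⟩ := hlift S
    have hsub : ∀ R : Sylow p G, (R : Subgroup G) ⊓ N ≤ (T : Subgroup G) := by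
      intro R
      obtain ⟨S', hS'⟩ := (R.2.comap_of_injective N.subtype N.subtype_injective).exists_le_sylow
      rw [Subsingleton.elim S' S] at hS'
      exact fun x hx => hT ⟨⟨x, hx.2⟩, hS' hx.1, rfl⟩
    have key : ∀ R : Sylow p G, D ≤ (R : Subgroup G) → (P ≠ R ∨ Q ≠ R) → T = R := by
      intro R hR hne
      by_contra hTR
      have h1 := hmax T R hTR
      have h2 : (R : Subgroup G) ⊓ N ≤ (T : Subgroup G) ⊓ (R : Subgroup G) := le_inf (hsub R) inf_le_left
      exact absurd ((hcardlt _ _ ((hlt R hR hne).trans_le h2))) (not_lt.2 h1)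
    exact hPQ ((key P inf_le_left (Or.inr hPQ.symm)).symm.trans (key Q inf_le_right (Or.inl hPQ)))
  · intro S T hST
    obtain ⟨S', hS'⟩ := hlift S
    obtain ⟨T', hT'⟩ := hlift T
    have hne : S' ≠ T' := fun he => hST (Sylow.ext (by rw [← hback S S' hS', he, hback T T' hT']))
    refine le_antisymm ?_ (le_inf (hDS S) (hDS T))
    have hle : D ≤ (S' : Subgroup G) ⊓ (T' : Subgroup G) := fun x hx =>
      ⟨hS' ⟨⟨x, hDN hx⟩, hDS S hx, rfl⟩, hT' ⟨⟨x, hDN hx⟩, hDS T hx, rfl⟩⟩
    have heq : D = (S' : Subgroup G) ⊓ (T' : Subgroup G) :=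
      Subgroup.eq_of_le_of_card_ge hle (hmax S' T' hne)
    intro x hx
    show (x : G) ∈ D
    rw [heq]
    exact ⟨hS' ⟨x, hx.1, rfl⟩, hT' ⟨x, hx.2, rfl⟩⟩
  · intro S
    obtain ⟨T, hT⟩ := hlift S
    refine ⟨T, hT, fun T₂ hT₂ => ?_⟩
    by_contra hne
    have hle : D ≤ (S : Subgroup N).map N.subtype := fun x hx => ⟨⟨x, hDN hx⟩, hDS S hx, rfl⟩
    have hSD : (S : Subgroup N).map N.subtype = D := by
      refine (Subgroup.eq_of_le_of_card_ge hle ?_).symm
      exact (Nat.card_le_card_of_injective _ (Subgroup.inclusion_injective (le_inf hT₂ hT))).trans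
        (hmax T₂ T hne)
    obtain ⟨x, hxP, hxD⟩ := SetLike.exists_of_lt (hlt P inf_le_left (Or.inr hPQ.symm))
    have hS : (S : Subgroup N) = D.subgroupOf N := by
      rw [← hSD]; exact (Subgroup.comap_map_eq_self_of_injective N.subtype_injective _).symm
    haveI : (S : Subgroup N).Normal := hS ▸ inferInstance
    obtain ⟨S₂, hS₂⟩ := (P.2.comap_of_injective N.subtype N.subtype_injective).exists_le_sylow
    haveI := Sylow.unique_of_normal S inferInstance
    rw [Subsingleton.elim S₂ S, hS] at hS₂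
    exact hxD (hS₂ (x := ⟨x, hxP.2⟩) hxP.1)

end Cfsg.Agent.S0986
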