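import Cfsg.Statements.S0987
import Mathlib
import Cfsg.Agent.Lib.SmallSimple.Basic

set_option autoImplicit false
open Cfsg

namespace Cfsg.Agent.S0987

/-- If a finite group has order pqr for primes p < q < r, then its Sylow r-subgroups are normal. -/
theorem result {G : Type*} [Group G] [Finite G] (p q r : ℕ) (hp : p.Prime) (hq : q.Prime) [Fact r.Prime] (hpq : p < q) (hqr : q < r) (hG : Nat.card G = p * q * r) (R : Sylow r G) : (R : Subgroup G).Normal := by
  classical
  have hr : r.Prime := Fact.out
  haveI : Fact p.Prime := ⟨hp⟩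
  have hpqp : ¬ p ∣ q * r := fun h => by
    rcases hp.dvd_mul.1 h with h | h
    · exact hpq.ne ((Nat.prime_dvd_prime_iff_eq hp hq).1 h)
    · exact (hpq.trans hqr).ne ((Nat.prime_dvd_prime_iff_eq hp hr).1 h)
  have hmin : (Nat.card G).minFac = p := by
    refine le_antisymm (Nat.minFac_le_of_dvd hp.two_le ⟨q * r, by rw [hG, mul_assoc]⟩) ?_
    have hne : Nat.card G ≠ 1 := fun h => by
      rw [hG] at h
      simp only [mul_eq_one] at h
      exact hp.ne_one h.1.1
    have h1 := Nat.minFac_prime hne
    have h2 := Nat.minFac_dvd (Nat.card G)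
    rw [hG] at h2 h1 ⊢
    rcases h1.dvd_mul.1 h2 with h | h
    · rcases h1.dvd_mul.1 h with h | h
      · exact ((Nat.prime_dvd_prime_iff_eq h1 hp).1 h).ge
      · exact hpq.le.trans ((Nat.prime_dvd_prime_iff_eq h1 hq).1 h).ge
    · exact (hpq.trans hqr).le.trans ((Nat.prime_dvd_prime_iff_eq h1 hr).1 h).ge
  have P : Sylow p G := default
  have hPc : Nat.card (P : Subgroup G) = p ^ 1 :=
    Cfsg.Agent.SmallSimple.Basic.card_sylow_eq_pow (by rw [hG, pow_one, mul_assoc]) hpqp P
  rw [pow_one] at hPc
  have hcyc : IsCyclic P := isCyclic_of_prime_card hPc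
  have hK := IsCyclic.isComplement' (P := P) hmin hcyc
  set K := (MonoidHom.transferSylow P (hcyc.normalizer_le_centralizer hmin)).ker with hKdef
  haveI : K.Normal := MonoidHom.normal_ker _
  have hKc : Nat.card K = q * r := by
    have := hK.card_mul
    rw [hPc, hG] at this
    exact Nat.eq_of_mul_eq_mul_left hp.pos (by rw [← mul_assoc, mul_comm, this])
  have hRK : (R : Subgroup G) ≤ K := by
    intro x hx
    obtain ⟨k, hk⟩ := R.2 ⟨x, hx⟩
    have hk' : x ^ r ^ k = 1 := congrArg Subtype.val hk
    have hord : orderOf (QuotientGroup.mk' K x) ∣ r ^ k :=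
      orderOf_dvd_of_pow_eq_one (by rw [← map_pow, hk', map_one])
    have hcard : Nat.card (G ⧸ K) = p := by
      rw [← Subgroup.index_eq_card, hK.symm.index_eq_card, hPc]
    have hcop : Nat.Coprime (r ^ k) p :=
      Nat.Coprime.pow_left _ ((Nat.coprime_primes hr hp).2 (hpq.trans hqr).ne')
    have h1 : orderOf (QuotientGroup.mk' K x) = 1 :=
      Nat.eq_one_of_dvd_coprimes hcop hord (hcard ▸ orderOf_dvd_natCard _)
    exact (QuotientGroup.eq_one_iff x).1 (orderOf_eq_one_iff.1 h1)
  have hRc : Nat.card (R : Subgroup G) = r := by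
    have hrn : ¬ r ∣ p * q := fun h => by
      rcases hr.dvd_mul.1 h with h | h
      · exact (hpq.trans hqr).ne' ((Nat.prime_dvd_prime_iff_eq hr hp).1 h)
      · exact hqr.ne' ((Nat.prime_dvd_prime_iff_eq hr hq).1 h)
    simpa using Cfsg.Agent.SmallSimple.Basic.card_sylow_eq_pow (a := 1)
      (by rw [hG, pow_one, mul_comm]) hrn R
  let R' : Sylow r K := R.subtype hRK
  have hone : Nat.card (Sylow r K) = 1 := by
    have hdvd : Nat.card (Sylow r K) ∣ q := by
      have h1 := R'.card_dvd_index
      have h2 := (R' : Subgroup K).card_mul_index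
      rw [Nat.card_congr (Subgroup.subgroupOfEquivOfLe hRK).toEquiv |> (show Nat.card (R' : Subgroup K) = _ from ·),
        hRc, hKc, mul_comm q r] at h2
      rwa [Nat.eq_of_mul_eq_mul_left hr.pos h2] at h1
    rcases (Nat.dvd_prime hq).1 hdvd with h | h
    · exact h
    · have := card_sylow_modEq_one r K
      rw [h, Nat.ModEq, Nat.mod_eq_of_lt hqr, Nat.one_mod_eq_one.2 hr.ne_one] at this
      exact absurd this hq.ne_one
  haveI : Subsingleton (Sylow r K) := Finite.card_le_one_iff_subsingleton.1 hone.le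
  haveI : (R' : Subgroup K).Characteristic := Sylow.characteristic_of_subsingleton R'
  have hmap : (R' : Subgroup K).map K.subtype = R :=
    Subgroup.map_subgroupOf_eq_of_le hRK
  exact hmap ▸ ConjAct.normal_of_characteristic_of_normal

end Cfsg.Agent.S0987
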