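import Cfsg.Statements.S0994
import Cfsg.Agent.Lib.SmallSimple.Basic

set_option autoImplicit false
open Cfsg

namespace Cfsg.Agent.S0994

/-- No finite simple group has order 1188 = 2^2 * 3^3 * 11. -/
theorem result {G : Type*} [Group G] [Finite G] [IsSimpleGroup G] : Nat.card G ≠ 1188 := by
  intro h
  open Cfsg.Agent.SmallSimple in
  haveI : Fact (Nat.Prime 11) := ⟨by norm_num⟩
  have hG : ¬ IsMulCommutative G := Basic.not_comm_of_not_prime (by rw [h]; norm_num)
  obtain ⟨hd, hmod, h1, -⟩ := Basic.sylow_count (p := 11) hG (by rw [h]; norm_num) (a := 1)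
    (m := 108) (by rw [h]; norm_num) (by norm_num)
  have key : ∀ x ∈ Nat.divisors 108, x % 11 = 1 → 1 < x → x = 12 := by decide +kernel
  have hn := key _ (Nat.mem_divisors.2 ⟨hd, by norm_num⟩) hmod h1
  obtain P : Sylow 11 G := default
  set N := Subgroup.normalizer ((P : Subgroup G) : Set G) with hN
  have hP : Nat.card (P : Subgroup G) = 11 := by
    simpa using Basic.card_sylow_eq_pow (a := 1) (m := 108) (by rw [h]; norm_num) (by norm_num) P
  have hmul : Nat.card N * Nat.card (Sylow 11 G) = Nat.card G := Basic.card_normalizer_mul P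
  rw [hn, h] at hmul
  have hN99 : Nat.card N = 99 := by omega
  haveI : IsCyclic (P : Subgroup G) := isCyclic_of_prime_card hP
  refine Basic.not_normalizer_le_centralizer hG (by rw [h]; norm_num) P ?_
  -- conjugation maps `N` into a group of order ten
  have hker := Subgroup.normalizerMonoidHom_ker (P : Subgroup G)
  have h10 : ((Subgroup.centralizer ((P : Subgroup G) : Set G)).subgroupOf N).index ∣ 10 := by
    rw [← hker, Subgroup.index_ker]
    refine (Subgroup.card_subgroup_dvd_card _).trans ?_
    rw [IsCyclic.card_mulAut, hP, Nat.totient_prime (by norm_num)]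
  have h99 : ((Subgroup.centralizer ((P : Subgroup G) : Set G)).subgroupOf N).index ∣ 99 :=
    hN99 ▸ Subgroup.index_dvd_card _
  have h1' : ((Subgroup.centralizer ((P : Subgroup G) : Set G)).subgroupOf N).index = 1 :=
    Nat.eq_one_of_dvd_coprimes (by norm_num : Nat.Coprime 10 99) h10 h99
  exact Subgroup.relIndex_eq_one.1 h1'

end Cfsg.Agent.S0994
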