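import Cfsg.Statements.S0995
import Mathlib
import Cfsg.Agent.Lib.SmallSimple.Basic

set_option autoImplicit false
open Cfsg

namespace Cfsg.Agent.S0995

/-- Let G be a finite perfect group containing an element z of prime order p whose centralizer is the cyclic group it generates. Let t be the number of conjugacy classes of elements of order p. Then t divides p - 1, the number of Sylow p-subgroups has the form 1 + n * p, and |G| * t = (p - 1) * p * (1 + n * p). -/
theorem result {G : Type*} [Group G] [Finite G] (hperf : commutator G = ⊤) (p : ℕ) [Fact p.Prime] (z : G) (hz : orderOf z = p) (hC : Subgroup.centralizer ({z} : Set G) = Subgroup.zpowers z) : ∃ n t : ℕ, t = Nat.card {c : ConjClasses G // ∃ g : G, ConjClasses.mk g = c ∧ orderOf g = p} ∧ t ∣ p - 1 ∧ Nat.card (Sylow p G) = 1 + n * p ∧ Nat.card G * t = (p - 1) * p * (1 + n * p) := by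
  classical
  open Cfsg.Agent.SmallSimple.Basic in
  have hp : p.Prime := Fact.out
  have hpz : IsPGroup p (Subgroup.zpowers z) := IsPGroup.of_card (n := 1) (by rw [Nat.card_zpowers, hz, pow_one])
  obtain ⟨P, hP⟩ := hpz.exists_le_sylow
  have hzP : z ∈ (P : Subgroup G) := hP (Subgroup.mem_zpowers z)
  have hPeq : (P : Subgroup G) = Subgroup.zpowers z := by
    refine le_antisymm ?_ hP
    haveI : Nontrivial (P : Subgroup G) := ⟨⟨⟨z, hzP⟩, 1, fun h => by
      have : z = 1 := congrArg Subtype.val h
      rw [this, orderOf_one] at hz; exact hp.one_lt.ne hz⟩⟩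
    haveI := P.2.center_nontrivial
    obtain ⟨c, hc⟩ := exists_ne (1 : Subgroup.center (P : Subgroup G))
    have hcz : ((c : (P : Subgroup G)) : G) ∈ Subgroup.zpowers z := by
      rw [← hC, Subgroup.mem_centralizer_singleton_iff]
      exact congrArg Subtype.val (Subgroup.mem_center_iff.1 c.2 ⟨z, hzP⟩).symm
    have hgen : Subgroup.zpowers ((c : (P : Subgroup G)) : G) = Subgroup.zpowers z := by
      refine Subgroup.eq_of_le_of_card_ge (Subgroup.zpowers_le.2 hcz) ?_
      rw [Nat.card_zpowers, hz, Nat.card_zpowers]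
      have hd : orderOf ((c : (P : Subgroup G)) : G) ∣ p := by
        have := orderOf_dvd_natCard (⟨_, hcz⟩ : Subgroup.zpowers z)
        rwa [Nat.card_zpowers, hz, Subgroup.orderOf_mk] at this
      rcases hp.eq_one_or_self_of_dvd _ hd with h | h
      · exact absurd (Subtype.ext (Subtype.ext (orderOf_eq_one_iff.1 h))) hc
      · exact h.ge
    intro x hx
    have hzc : z ∈ Subgroup.zpowers ((c : (P : Subgroup G)) : G) := hgen ▸ Subgroup.mem_zpowers z
    rw [← hC, Subgroup.mem_centralizer_singleton_iff]
    obtain ⟨j, hj⟩ := hzc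
    subst hj
    exact (Commute.zpow_right (show Commute x ((c : (P : Subgroup G)) : G) from
      congrArg Subtype.val (Subgroup.mem_center_iff.1 c.2 ⟨x, hx⟩)) j)
  have hPc : Nat.card (P : Subgroup G) = p := by rw [hPeq, Nat.card_zpowers, hz]
  have hsyl : ∀ Q : Sylow p G, Nat.card (Q : Subgroup G) = p := fun Q =>
    (Nat.card_congr (Q.equiv P).toEquiv).trans hPc
  haveI := Fintype.ofFinite (Sylow p G)
  haveI := Fintype.ofFinite G
  -- every element of order `p` has centraliser of order `p`
  have hcent : ∀ y : G, orderOf y = p → Nat.card (Subgroup.centralizer ({y} : Set G)) = p := by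
    intro y hy
    obtain ⟨Q, hQ⟩ := (IsPGroup.of_card (n := 1) (G := Subgroup.zpowers y)
      (by rw [Nat.card_zpowers, hy, pow_one])).exists_le_sylow
    obtain ⟨g, hg⟩ := MulAction.exists_smul_eq G P Q
    have hQy : (Q : Subgroup G) = Subgroup.zpowers y :=
      (Subgroup.eq_of_le_of_card_ge hQ (by rw [hsyl, Nat.card_zpowers, hy])).symm
    have hzy : g * z * g⁻¹ ∈ Subgroup.zpowers y := by
      rw [← hQy, ← hg, Sylow.coe_subgroup_smul]
      exact ⟨z, hzP, rfl⟩
    have hgen : Subgroup.zpowers (g * z * g⁻¹) = Subgroup.zpowers y := by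
      refine Subgroup.eq_of_le_of_card_ge (Subgroup.zpowers_le.2 hzy) ?_
      rw [Nat.card_zpowers, Nat.card_zpowers, hy, ← MulAut.conj_apply, MulEquiv.orderOf_eq, hz]
    have hce : Subgroup.centralizer ({y} : Set G) =
        (Subgroup.centralizer ({z} : Set G)).map (MulAut.conj g).toMonoidHom := by
      have h1 : Subgroup.centralizer ({y} : Set G) = Subgroup.centralizer ({g * z * g⁻¹} : Set G) := by
        rw [← Subgroup.centralizer_closure {y}, ← Subgroup.centralizer_closure {g * z * g⁻¹},
          ← Subgroup.zpowers_eq_closure, ← Subgroup.zpowers_eq_closure, hgen]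
      rw [h1]
      ext x
      rw [show (MulAut.conj g).toMonoidHom = ((MulAut.conj g : G ≃* G) : G →* G) from rfl,
        Subgroup.map_equiv_eq_comap_symm, Subgroup.mem_comap, Subgroup.mem_centralizer_singleton_iff,
        Subgroup.mem_centralizer_singleton_iff]
      simp only [MonoidHom.coe_coe, MulAut.conj_symm_apply]
      constructor
      · intro h
        calc g⁻¹ * x * g * z = g⁻¹ * (x * (g * z * g⁻¹)) * g := by group
          _ = g⁻¹ * (g * z * g⁻¹ * x) * g := by rw [h]
          _ = z * (g⁻¹ * x * g) := by group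
      · intro h
        calc x * (g * z * g⁻¹) = g * (g⁻¹ * x * g * z) * g⁻¹ := by group
          _ = g * (z * (g⁻¹ * x * g)) * g⁻¹ := by rw [h]
          _ = g * z * g⁻¹ * x := by group
    rw [hce, Subgroup.card_map_of_injective (MulAut.conj g).injective, hC, Nat.card_zpowers, hz]
  -- counting elements of order `p` by Sylow subgroups
  have hcnt1 : Nat.card {y : G // orderOf y = p} = Nat.card (Sylow p G) * (p - 1) := by
    have e : {y : G // orderOf y = p} ≃ Σ Q : Sylow p G, {y : (Q : Subgroup G) // y ≠ 1} :=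
      { toFun := fun y =>
          ⟨Sylow.ofCard (Subgroup.zpowers y.1) (by
            rw [Nat.card_zpowers, y.2, ← P.card_eq_multiplicity, hPc]),
            ⟨⟨y.1, Subgroup.mem_zpowers _⟩, fun he => by
              have := y.2
              rw [show y.1 = 1 from congrArg Subtype.val he, orderOf_one] at this
              exact hp.one_lt.ne this⟩⟩
        invFun := fun s => ⟨(s.2.1 : G), by
          rw [Subgroup.orderOf_coe]
          exact orderOf_eq_prime ((congrArg (s.2.1 ^ ·) (hsyl s.1).symm).trans pow_card_eq_one') s.2.2⟩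
        left_inv := fun y => rfl
        right_inv := fun ⟨Q, a⟩ => by
          have hq : ∀ (Q₁ Q₂ : Sylow p G) (_ : Q₁ = Q₂) (a : {y : (Q₁ : Subgroup G) // y ≠ 1})
              (b : {y : (Q₂ : Subgroup G) // y ≠ 1}), (a.1 : G) = b.1 →
              (⟨Q₁, a⟩ : Σ Q : Sylow p G, {y : (Q : Subgroup G) // y ≠ 1}) = ⟨Q₂, b⟩ := by
            rintro Q₁ Q₂ rfl a b hab
            rw [Subtype.ext (Subtype.ext hab : a.1 = b.1)]
          refine hq _ _ (Sylow.ext ?_) _ _ rfl
          have hy : orderOf a.1 = p :=
            orderOf_eq_prime ((congrArg (a.1 ^ ·) (hsyl Q).symm).trans pow_card_eq_one') a.2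
          rw [Sylow.coe_ofCard]
          exact Subgroup.eq_of_le_of_card_ge (Subgroup.zpowers_le.2 a.1.2)
            (by rw [Nat.card_zpowers, Subgroup.orderOf_coe, hy, hsyl]) }
    rw [Nat.card_congr e, Nat.card_sigma]
    have : ∀ Q : Sylow p G, Nat.card {y : (Q : Subgroup G) // y ≠ 1} = p - 1 := fun Q => by
      haveI := Fintype.ofFinite (Q : Subgroup G)
      rw [Nat.card_eq_fintype_card, Fintype.card_subtype_compl, Fintype.card_subtype_eq,
        ← Nat.card_eq_fintype_card, hsyl]
    rw [Finset.sum_congr rfl fun Q _ => this Q, Finset.sum_const, Finset.card_univ, smul_eq_mul,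
      Nat.card_eq_fintype_card]
  -- counting by classes
  set S := {c : ConjClasses G // ∃ g : G, ConjClasses.mk g = c ∧ orderOf g = p}
  haveI := Fintype.ofFinite S
  have hcls : ∀ c : S, p * Nat.card {y : G // ConjClasses.mk y = c.1} = Nat.card G := by
    rintro ⟨c, g, rfl, hg⟩
    refine Eq.trans ?_ (Cfsg.Agent.SmallSimple.Basic.card_centralizer_mul_card_class g)
    rw [hcent g hg]
    rw [Nat.card_congr (Equiv.subtypeEquivRight (p := fun y => ConjClasses.mk y = ConjClasses.mk g)
      (q := fun y => IsConj g y) fun y => by rw [ConjClasses.mk_eq_mk_iff_isConj, isConj_comm])]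
  have e2 : {y : G // orderOf y = p} ≃ Σ c : S, {y : G // ConjClasses.mk y = c.1} :=
    { toFun := fun y => ⟨⟨ConjClasses.mk y.1, y.1, rfl, y.2⟩, y.1, rfl⟩
      invFun := fun s => ⟨s.2.1, by
        obtain ⟨g, hg1, hg2⟩ := s.1.2
        obtain ⟨u, hu⟩ := isConj_iff.1 (ConjClasses.mk_eq_mk_iff_isConj.1 (hg1.trans s.2.2.symm))
        rw [← hu, ← hg2]
        exact MulEquiv.orderOf_eq (MulAut.conj u) g⟩
      left_inv := fun y => rfl
      right_inv := fun s => Sigma.subtype_ext (Subtype.ext s.2.2) rfl }
  have htot : Nat.card G * Nat.card S = p * (Nat.card (Sylow p G) * (p - 1)) := by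
    rw [← hcnt1, Nat.card_congr e2, Nat.card_sigma, Finset.mul_sum]
    rw [Finset.sum_congr rfl fun c _ => hcls c, Finset.sum_const, Finset.card_univ, smul_eq_mul,
      ← Nat.card_eq_fintype_card, mul_comm]
  have hmod : Nat.card (Sylow p G) % p = 1 := by
    have := card_sylow_modEq_one p G
    rwa [Nat.ModEq, Nat.one_mod_eq_one.2 hp.ne_one] at this
  have hn := Nat.div_add_mod (Nat.card (Sylow p G)) p
  rw [hmod] at hn
  refine ⟨Nat.card (Sylow p G) / p, Nat.card S, rfl, ?_, by rw [mul_comm]; omega, ?_⟩
  · have hN := Cfsg.Agent.SmallSimple.Basic.card_normalizer_mul P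
    obtain ⟨e, he⟩ := Cfsg.Agent.SmallSimple.Basic.sylow_dvd_normalizer P
    rw [he, hPc] at hN
    rw [← hN] at htot
    refine ⟨e, ?_⟩
    have h0 : 0 < p * Nat.card (Sylow p G) := Nat.mul_pos hp.pos Nat.card_pos
    exact Nat.eq_of_mul_eq_mul_left h0 (by linarith)
  · rw [htot, show 1 + Nat.card (Sylow p G) / p * p = Nat.card (Sylow p G) by rw [mul_comm]; omega]
    ring

end Cfsg.Agent.S0995
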