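import Cfsg.Statements.S0998
import Cfsg.Agent.Lib.PrimeBlock.ThreePrimes
import Cfsg.Agent.Lib.SmallSimple.PrimeChecks

set_option autoImplicit false
set_option linter.style.haveILetI false
open Cfsg

namespace Cfsg.Agent.S0998

/-- A non-cyclic finite simple group whose order has the form p * r * q^b for distinct primes p, q, r is isomorphic to the projective special linear group of dimension 2 over the field with 5 or with 7 elements. -/
theorem result {G : Type*} [Group G] [Finite G] [IsSimpleGroup G] (hG : ¬ IsCyclic G) (p q r b : ℕ) (hp : p.Prime) (hq : q.Prime) (hr : r.Prime) (hpq : p ≠ q) (hpr : p ≠ r) (hqr : q ≠ r) (hG' : Nat.card G = p * r * q ^ b) : (∃ (F : Type) (_ : Field F) (_ : Fintype F), Fintype.card F = 5 ∧ Nonempty (G ≃* Matrix.ProjectiveSpecialLinearGroup (Fin 2) F)) ∨ (∃ (F : Type) (_ : Field F) (_ : Fintype F), Fintype.card F = 7 ∧ Nonempty (G ≃* Matrix.ProjectiveSpecialLinearGroup (Fin 2) F)) := by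
  have hnp : ¬ (Nat.card G).Prime := by
    rw [hG', mul_assoc]
    exact Nat.not_prime_mul hp.ne_one (fun h => hr.ne_one (Nat.eq_one_of_mul_eq_one_right h))
  have hnc : ¬ IsMulCommutative G := Cfsg.Agent.SmallSimple.Basic.not_comm_of_not_prime hnp
  haveI : Fact (Nat.Prime 5) := ⟨by norm_num⟩
  haveI : Fact (Nat.Prime 7) := ⟨by norm_num⟩
  have key : Nat.card G = 60 ∨ Nat.card G = 168 := by
    rcases lt_or_gt_of_ne hpr with h | h
    · exact Cfsg.Agent.PrimeBlock.card_eq_of_lt hnc hp hr hq hpq hqr.symm h hG'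
    · exact Cfsg.Agent.PrimeBlock.card_eq_of_lt (b := b) hnc hr hp hq hqr.symm hpq h (by rw [hG']; ring)
  rcases key with h | h
  · refine Or.inl ⟨ZMod 5, inferInstance, inferInstance, ZMod.card 5, ?_⟩
    exact Cfsg.Agent.SmallSimple.Recognize.mulEquiv_psl (q := 5) (by norm_num)
      Cfsg.Agent.SmallSimple.ProjectiveLine.check5 Cfsg.Agent.SmallSimple.ProjectiveLine.div5
      (by rw [h]; norm_num) (ZMod.card 5)
  · refine Or.inr ⟨ZMod 7, inferInstance, inferInstance, ZMod.card 7, ?_⟩
    exact Cfsg.Agent.SmallSimple.Recognize.mulEquiv_psl (q := 7) (by norm_num)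
      Cfsg.Agent.SmallSimple.ProjectiveLine.check7 Cfsg.Agent.SmallSimple.ProjectiveLine.div7
      (by rw [h]; norm_num) (ZMod.card 7)

end Cfsg.Agent.S0998
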