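import Cfsg.Statements.S1001
import Cfsg.Agent.S0904
import Cfsg.Agent.Lib.SmallSimple.PSqQR
-- import your own Cfsg.Agent.* helpers here

set_option autoImplicit false
open Cfsg

namespace Cfsg.Agent.S1001

/-- In a finite simple group whose order has the form p * 3^a * 2^b with p prime, the centralizer of any element of order p is the cyclic group it generates. -/
theorem result {G : Type*} [Group G] [Finite G] [IsSimpleGroup G] (p a b : ℕ) (hp : p.Prime) (hG : Nat.card G = p * 3 ^ a * 2 ^ b) (x : G) (hx : orderOf x = p) : Subgroup.centralizer ({x} : Set G) = Subgroup.zpowers x := by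
  have : Fact p.Prime := ⟨hp⟩
  have hle : Subgroup.zpowers x ≤ Subgroup.centralizer ({x} : Set G) :=
    Subgroup.zpowers_le.2 (Subgroup.mem_centralizer_singleton_iff.2 rfl)
  by_cases hab : IsMulCommutative G
  · letI : CommGroup G := { ‹Group G› with mul_comm := fun u v => mul_comm' u v }
    have hpr : (Nat.card G).Prime := IsSimpleGroup.prime_card
    have hxdvd : p ∣ Nat.card G := hx ▸ orderOf_dvd_natCard x
    have hcard : Nat.card G = p := ((Nat.prime_dvd_prime_iff_eq hp hpr).1 hxdvd).symm
    refine le_antisymm ?_ hle
    have htop : Subgroup.zpowers x = ⊤ :=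
      Subgroup.eq_top_of_card_eq _ (by rw [Nat.card_zpowers, hx, hcard])
    rw [htop]
    exact le_top
  have h2 : p ≠ 2 := by
    intro h
    exact hab (SmallSimple.PSqQR.two_primes (p := 2) (q := 3) (a := b + 1) (b := a)
      Nat.prime_two Nat.prime_three (by rw [hG, h]; ring))
  have h3 : p ≠ 3 := by
    intro h
    exact hab (SmallSimple.PSqQR.two_primes (p := 2) (q := 3) (a := b) (b := a + 1)
      Nat.prime_two Nat.prime_three (by rw [hG, h]; ring))
  have hcard : Nat.card G = 2 ^ b * 3 ^ a * p := by rw [hG]; ring
  have hfac : (Nat.card G).factorization p = 1 := by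
    have hne : ∀ {l n : ℕ}, l.Prime → l ≠ p → (l ^ n).factorization p = 0 := fun hl hne => by
      rw [hl.factorization_pow, Finsupp.single_eq_of_ne hne.symm]
    rw [hcard, Nat.factorization_mul (by positivity) hp.ne_zero,
      Nat.factorization_mul (by positivity) (by positivity), Finsupp.add_apply, Finsupp.add_apply,
      hne Nat.prime_two h2.symm, hne Nat.prime_three h3.symm, hp.factorization_self]
  let S : Sylow p G := Sylow.ofCard (Subgroup.zpowers x) (by
    rw [Nat.card_zpowers, hx, hfac, pow_one])
  have key := S0904.result 2 3 p b a Nat.prime_two Nat.prime_three (by norm_num) h2.symm h3.symm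
    hcard S
  refine le_antisymm (fun g hg => ?_) hle
  have hS : ((S : Subgroup G) : Set G) = (Subgroup.zpowers x : Set G) := rfl
  have : g ∈ Subgroup.centralizer (S : Set G) := by
    rw [Subgroup.mem_centralizer_iff]
    intro y hy
    obtain ⟨k, rfl⟩ : y ∈ Subgroup.zpowers x := hy
    exact (Commute.zpow_left (Subgroup.mem_centralizer_singleton_iff.1 hg).symm k).eq
  rw [key] at this
  exact this

end Cfsg.Agent.S1001
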