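import Cfsg.Statements.S1009
import Mathlib
import Cfsg.Agent.Lib.SmallSimple.Basic

set_option autoImplicit false
open Cfsg

namespace Cfsg.Agent.S1009

/-- Brodkey's Theorem: if a finite group has abelian Sylow p-subgroups, then there are two Sylow p-subgroups whose intersection equals the intersection of all Sylow p-subgroups. -/
theorem result {G : Type*} [Group G] [Finite G] (p : ℕ) [Fact p.Prime] (hab : ∀ P : Sylow p G, IsMulCommutative ↥(P : Subgroup G)) : ∃ P Q : Sylow p G, (P : Subgroup G) ⊓ (Q : Subgroup G) = ⨅ R : Sylow p G, (R : Subgroup G) := by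
  classical
  haveI : Nonempty (Sylow p G × Sylow p G) := ⟨(default, default)⟩
  haveI := Fintype.ofFinite (Sylow p G × Sylow p G)
  obtain ⟨⟨P, Q⟩, -, hmin⟩ := Finset.exists_min_image (Finset.univ : Finset (Sylow p G × Sylow p G))
    (fun R => Nat.card ↥((R.1 : Subgroup G) ⊓ (R.2 : Subgroup G))) Finset.univ_nonempty
  refine ⟨P, Q, le_antisymm (le_iInf fun R => ?_) (le_inf (iInf_le _ P) (iInf_le _ Q))⟩
  set D := (P : Subgroup G) ⊓ (Q : Subgroup G) with hD
  set C := Subgroup.centralizer (D : Set G) with hC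
  have hcomm : ∀ S : Sylow p G, D ≤ (S : Subgroup G) → (S : Subgroup G) ≤ C := by
    intro S hS x hx y hy
    haveI := hab S
    exact congrArg Subtype.val (mul_comm' (⟨y, hS hy⟩ : (S : Subgroup G)) ⟨x, hx⟩)
  obtain ⟨T, hT⟩ := (R.2.comap_of_injective C.subtype C.subtype_injective).exists_le_sylow
  obtain ⟨c, hc⟩ := MulAction.exists_smul_eq C (P.subtype (hcomm P inf_le_left)) T
  rw [Sylow.smul_subtype] at hc
  set P' : Sylow p G := (c : G) • P with hP'
  set Q' : Sylow p G := (c : G) • Q with hQ'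
  have hfix : ∀ x ∈ D, (c : G)⁻¹ * x * (c : G) = x := fun x hx => by
    rw [mul_assoc, (show x * (c : G) = (c : G) * x from c.2 x hx), inv_mul_cancel_left]
  have hDD : (P' : Subgroup G) ⊓ (Q' : Subgroup G) = D := by
    ext x
    simp only [Subgroup.mem_inf, hP', hQ', Sylow.coe_subgroup_smul,
      Subgroup.mem_pointwise_smul_iff_inv_smul_mem, MulAut.smul_def, MulAut.inv_apply,
      MulAut.conj_symm_apply]
    constructor
    · rintro ⟨h1, h2⟩
      have hy : (c : G)⁻¹ * x * (c : G) ∈ D := ⟨h1, h2⟩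
      have := c.2 _ hy
      have hx : x = (c : G)⁻¹ * x * (c : G) := by
        calc x = (c : G) * ((c : G)⁻¹ * x * (c : G)) * (c : G)⁻¹ := by group
          _ = (c : G)⁻¹ * x * (c : G) := by rw [← this]; group
      rw [hx]; exact hy
    · intro hx
      rw [hfix x hx]
      exact hx
  have hQC : (Q' : Subgroup G) ≤ C := hcomm Q' (hDD ▸ inf_le_right)
  have hsub : (R : Subgroup G) ⊓ (Q' : Subgroup G) ≤ D := by
    intro x hx
    rw [← hDD]
    refine ⟨?_, hx.2⟩
    have h1 : (⟨x, hQC hx.2⟩ : C) ∈ (T : Subgroup C) := hT hx.1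
    rw [← hc] at h1
    exact h1
  have := Subgroup.eq_of_le_of_card_ge hsub (hmin (R, Q') (Finset.mem_univ _))
  exact this ▸ inf_le_left

end Cfsg.Agent.S1009
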