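import Cfsg.Statements.S1013
import Mathlib
import Cfsg.Agent.Lib.SmallSimple.Basic

set_option autoImplicit false
open Cfsg

namespace Cfsg.Agent.S1013

/-- Let G be a transitive permutation group of prime degree p having more than one Sylow p-subgroup, and suppose a Sylow p-subgroup P has prime index in its normalizer. Then G is simple. -/
theorem result {α : Type*} [Fintype α] [DecidableEq α] {p : ℕ} [Fact p.Prime] (hα : Fintype.card α = p) (G : Subgroup (Equiv.Perm α)) [MulAction.IsPretransitive ↥G α] (P : Sylow p ↥G) (hn : 1 < Nat.card (Sylow p ↥G)) (ht : (((P : Subgroup ↥G).subgroupOf (Subgroup.normalizer ((P : Subgroup ↥G) : Set ↥G))).index).Prime) : IsSimpleGroup ↥G := by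
  classical
  have hp : p.Prime := Fact.out
  have hcardα : Nat.card α = p := by rw [Nat.card_eq_fintype_card, hα]
  -- every nontrivial normal subgroup is transitive, of order divisible by p
  have hnorm : ∀ M : Subgroup ↥G, M.Normal → M ≠ ⊥ → p ∣ Nat.card M := by
    intro M hM hne
    obtain ⟨m, hm, hm1⟩ := M.bot_or_exists_ne_one.resolve_left hne
    have : (m : Equiv.Perm α) ≠ 1 := fun e => hm1 (Subtype.ext e)
    obtain ⟨a, ha⟩ : ∃ a, (m : Equiv.Perm α) a ≠ a := by
      by_contra hc; push Not at hc; exact this (Equiv.ext hc)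
    have hB : MulAction.IsBlock G (MulAction.orbit M a) := MulAction.IsBlock.orbit_of_normal a
    have hd := hB.ncard_dvd_card ⟨a, MulAction.mem_orbit_self a⟩
    rw [hcardα] at hd
    have hne1 : (MulAction.orbit M a).ncard ≠ 1 := by
      intro h1
      obtain ⟨b, hb⟩ := Set.ncard_eq_one.1 h1
      have e1 : a ∈ MulAction.orbit M a := MulAction.mem_orbit_self a
      have e2 : (m : Equiv.Perm α) a ∈ MulAction.orbit M a := ⟨⟨m, hm⟩, rfl⟩
      rw [hb] at e1 e2
      exact ha (e2.trans e1.symm)
    rw [← (hp.eq_one_or_self_of_dvd _ hd).resolve_left hne1, ← Nat.card_coe_set_eq,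
      Nat.card_congr (MulAction.orbitEquivQuotientStabilizer M a)]
    exact Subgroup.index_dvd_card _
  have hGdvd : Nat.card G ∣ p.factorial := by
    rw [← hα, ← Nat.card_eq_fintype_card, ← Nat.card_perm]
    exact Subgroup.card_subgroup_dvd_card G
  haveI : Nontrivial ↥G := by
    by_contra hnt
    rw [not_nontrivial_iff_subsingleton] at hnt
    haveI : Subsingleton (Sylow p ↥G) := ⟨fun A B => Sylow.ext (Subsingleton.elim _ _)⟩
    have := Finite.card_le_one_iff_subsingleton.2 ‹Subsingleton (Sylow p ↥G)›
    omega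
  have hpG : p ∣ Nat.card G := by
    have := hnorm ⊤ inferInstance top_ne_bot
    rwa [Subgroup.card_top] at this
  have hP : Nat.card (P : Subgroup ↥G) = p := by
    have h1 := Cfsg.Agent.SmallSimple.Basic.card_sylow_eq P
    have h2 : (p.factorial).factorization p = 1 := by
      obtain ⟨k, hk⟩ := Nat.exists_eq_succ_of_ne_zero hp.ne_zero
      have e : p.factorial = p * k.factorial := by rw [hk, Nat.factorial_succ]
      rw [e, Nat.factorization_mul hp.ne_zero (Nat.factorial_ne_zero k), Finsupp.add_apply,
        hp.factorization_self, Nat.factorization_eq_zero_of_not_dvd (fun h => by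
          have := hp.dvd_factorial.1 h; omega)]
    have h3 : (Nat.card G).factorization p ≤ 1 := h2 ▸
      (Nat.factorization_le_iff_dvd Nat.card_pos.ne' (Nat.factorial_ne_zero p)).2 hGdvd p
    have h4 : 0 < (Nat.card G).factorization p := hp.factorization_pos_of_dvd Nat.card_pos.ne' hpG
    rw [h1, show (Nat.card G).factorization p = 1 by omega, pow_one]
  refine { eq_bot_or_eq_top_of_normal := fun M hM => ?_ }
  by_cases hne : M = ⊥
  · exact Or.inl hne
  right
  haveI := hM
  have hpM := hnorm M hM hne
  have hPM : (P : Subgroup ↥G) ≤ M := by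
    obtain ⟨a, ha⟩ := exists_prime_orderOf_dvd_card' p hpM
    have haG : orderOf (a : ↥G) = p := by rw [Subgroup.orderOf_coe, ha]
    obtain ⟨Q, hQ⟩ := (IsPGroup.of_card (n := 1) (G := Subgroup.zpowers (a : ↥G))
      (by rw [Nat.card_zpowers, haG, pow_one])).exists_le_sylow
    have hQc : Nat.card (Q : Subgroup ↥G) = p := (Nat.card_congr (Q.equiv P).toEquiv).trans hP
    have hQa : (Q : Subgroup ↥G) = Subgroup.zpowers (a : ↥G) :=
      (Subgroup.eq_of_le_of_card_ge hQ (by rw [hQc, Nat.card_zpowers, haG])).symm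
    obtain ⟨g, hg⟩ := MulAction.exists_smul_eq G Q P
    rw [← hg, Sylow.coe_subgroup_smul]
    intro x hx
    rw [Subgroup.mem_pointwise_smul_iff_inv_smul_mem, MulAut.smul_def, MulAut.inv_apply,
      MulAut.conj_symm_apply, hQa] at hx
    have := hM.conj_mem _ (Subgroup.zpowers_le.2 a.2 hx) g
    simpa [mul_assoc] using this
  set N := Subgroup.normalizer ((P : Subgroup ↥G) : Set ↥G) with hN
  have hfr : M ⊔ N = ⊤ := sup_comm (α := Subgroup ↥G) _ _ |>.trans (Sylow.normalizer_sup_eq_top' P hPM)
  have hmid : (P : Subgroup ↥G).relIndex (M ⊓ N) * (M ⊓ N).relIndex N = (P : Subgroup ↥G).relIndex N :=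
    Subgroup.relIndex_mul_relIndex _ _ _ (le_inf hPM Subgroup.le_normalizer) inf_le_right
  have ht' : ((P : Subgroup ↥G).relIndex N).Prime := ht
  rcases (Nat.dvd_prime ht').1 ⟨_, hmid.symm⟩ with h1 | h1
  · -- the normal p-complement of M
    exfalso
    have hle : M ⊓ N ≤ (P : Subgroup ↥G) := Subgroup.relIndex_eq_one.1 h1
    let P' : Sylow p M := P.subtype hPM
    have hP'c : Nat.card (P' : Subgroup M) = p := by
      rw [show (P' : Subgroup M) = (P : Subgroup ↥G).subgroupOf M from rfl,
        Nat.card_congr (Subgroup.subgroupOfEquivOfLe hPM).toEquiv, hP]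
    haveI : IsCyclic (P' : Subgroup M) := isCyclic_of_prime_card hP'c
    have hnc : Subgroup.normalizer ((P' : Subgroup M) : Set M) ≤
        Subgroup.centralizer ((P' : Subgroup M) : Set M) := by
      intro x hx y hy
      have hxP : (x : ↥G) ∈ (P : Subgroup ↥G) := by
        refine hle ⟨x.2, ?_⟩
        show (x : ↥G) ∈ Subgroup.normalizer ((P : Subgroup ↥G) : Set ↥G)
        rw [Subgroup.mem_normalizer_iff]
        intro z
        constructor
        · intro hz
          exact (Subgroup.mem_normalizer_iff.1 hx ⟨z, hPM hz⟩).1 hz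
        · intro hz
          have h2 : x⁻¹ * ⟨(x : ↥G) * z * (x : ↥G)⁻¹, hPM hz⟩ * x ∈ (P' : Subgroup M) :=
            (Subgroup.mem_normalizer_iff''.1 hx _).1 hz
          simpa [P', Sylow.coe_subtype, Subgroup.mem_subgroupOf, mul_assoc] using h2
      exact congrArg Subtype.val (mul_comm' (⟨y, hy⟩ : (P' : Subgroup M)) ⟨x, hxP⟩)
    set K := (MonoidHom.transferSylow P' hnc).ker
    have hKc := MonoidHom.ker_transferSylow_isComplement' P' hnc
    have hKp : ¬ p ∣ Nat.card K := MonoidHom.not_dvd_card_ker_transferSylow P' hnc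
    haveI : K.Normal := MonoidHom.normal_ker _
    have hchar : K.Characteristic := by
      rw [Subgroup.characteristic_iff_map_le]
      intro φ
      rintro _ ⟨k, hk, rfl⟩
      have hord : orderOf k ∣ Nat.card K := Subgroup.orderOf_dvd_natCard _ hk
      rw [MonoidHom.mem_ker]
      have h2 : orderOf (MonoidHom.transferSylow P' hnc (φ.toMonoidHom k)) ∣ Nat.card K :=
        ((orderOf_map_dvd _ _).trans (orderOf_map_dvd _ _)).trans hord
      have h3 : orderOf (MonoidHom.transferSylow P' hnc (φ.toMonoidHom k)) ∣ p :=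
        (orderOf_dvd_natCard _).trans (dvd_of_eq hP'c)
      exact orderOf_eq_one_iff.1 (Nat.eq_one_of_dvd_coprimes (hp.coprime_iff_not_dvd.2 hKp).symm h2 h3)
    haveI := hchar
    have hKn : (K.map M.subtype).Normal := ConjAct.normal_of_characteristic_of_normal
    have hKbot : K = ⊥ := by
      by_contra hKne
      refine hKp ?_
      rw [← Nat.card_congr (K.equivMapOfInjective M.subtype M.subtype_injective).toEquiv.symm]
      exact hnorm _ hKn fun e => hKne ((Subgroup.map_eq_bot_iff_of_injective _ M.subtype_injective).1 e)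
    have hMc : Nat.card M = p := by
      rw [← hKc.card_mul, show Nat.card (MonoidHom.transferSylow P' hnc).ker = Nat.card K from rfl, hKbot, Subgroup.card_bot, one_mul, hP'c]
    have hMP : (P : Subgroup ↥G) = M := Subgroup.eq_of_le_of_card_ge hPM (by rw [hMc, hP])
    haveI : (P : Subgroup ↥G).Normal := hMP ▸ hM
    haveI := Sylow.unique_of_normal P inferInstance
    rw [Nat.card_unique] at hn
    exact absurd hn (lt_irrefl 1)
  · rw [h1] at hmid
    have h0 : (M ⊓ N).relIndex N = 1 := by
      have := ht'.pos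
      exact Nat.eq_of_mul_eq_mul_left this (by rw [hmid, mul_one])
    exact top_le_iff.1 (hfr ▸ sup_le le_rfl ((Subgroup.relIndex_eq_one.1 h0).trans inf_le_left))

end Cfsg.Agent.S1013
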