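import Cfsg.Statements.S1014
import Mathlib
import Cfsg.Agent.Lib.SmallSimple.Orders

set_option autoImplicit false
open Cfsg

namespace Cfsg.Agent.S1014

/-- No finite simple group has order 1104 = 2^4 * 3 * 23. -/
theorem result {G : Type*} [Group G] [Finite G] [IsSimpleGroup G] : Nat.card G ≠ 1104 := by
  intro h
  open Cfsg.Agent.SmallSimple in
  haveI : Fact (Nat.Prime 23) := ⟨by norm_num⟩
  have hG : ¬ IsMulCommutative G := Basic.not_comm_of_not_prime (by rw [h]; norm_num)
  obtain ⟨hd, hmod, h1, -⟩ := Basic.sylow_count (p := 23) hG (by rw [h]; norm_num) (a := 1) (m := 48)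
    (by rw [h]; norm_num) (by norm_num)
  have key : ∀ x ∈ Nat.divisors 48, x % 23 = 1 → 1 < x → x = 24 := by decide +kernel
  have hn := key _ (Nat.mem_divisors.2 ⟨hd, by norm_num⟩) hmod h1
  obtain ⟨P, hP, he, hPc⟩ := Orders.exists_selfCent (p := 23) (m := 48) (e := 2) hG
    (by rw [h]) (by norm_num) (by norm_num) (by norm_num) hn
  haveI := Fintype.ofFinite G
  obtain ⟨ε, c, X, s, hε, hX1, hXd, -, hsq, hdeg, hsum, hs⟩ :=
    Exceptional.degree_data hG hP he (t := 11) (by rw [hPc]) (by norm_num)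
  have hcard := Orders.multiset_card_le s (fun v hv => (hs v hv).1)
  obtain ⟨rfl, hr⟩ := Orders.c_eq_zero hε (by norm_num) (le_trans (Int.natCast_nonneg _) hcard) hsq
  have hv : ∀ v ∈ s, v.1 ^ 2 ≤ 2 ∧ v.2 ≤ 33 ∧ 1 < v.2 ∧ v.2 ∣ 1104 ∧ (23 : ℤ) ∣ (v.2 : ℤ) - v.1 := by
    intro v hv
    obtain ⟨-, hx1, hxd, hxc⟩ := hs v hv
    obtain ⟨s', rfl⟩ := Multiset.exists_cons_of_mem hv
    simp only [Multiset.map_cons, Multiset.sum_cons] at hsum hr
    have hnn : 0 ≤ (s'.map fun v => v.1 ^ 2).sum := Multiset.sum_nonneg (by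
      intro a ha
      obtain ⟨w, -, rfl⟩ := Multiset.mem_map.1 ha
      exact sq_nonneg _)
    rw [h] at hxd hsum
    rw [hPc] at hxc
    refine ⟨?_, ?_, hx1, hxd, by exact_mod_cast hxc⟩
    · push_cast at hr
      linarith
    · by_contra hbig
      push Not at hbig
      have hB : 34 ≤ v.2 := hbig
      have h2 := (Nat.pow_le_pow_left hB 2).trans ((Nat.le_add_right _ _).trans ((Nat.le_add_left _ _).trans hsum))
      norm_num at h2
  have hval : ∀ v ∈ s, v = ((1 : ℤ), 24) := by
    intro v hv'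
    obtain ⟨hb, hx, hx1, hxd, hxc⟩ := hv v hv'
    have hb0 := (hs v hv').1
    have hb' : v.1 = 1 ∨ v.1 = -1 := by
      have : v.1 ≤ 1 := by nlinarith
      have : -1 ≤ v.1 := by nlinarith
      omega
    have key2 : ∀ x ≤ 33, 1 < x → x ∣ 1104 → (x % 23 ≠ 1 ∧ x % 23 ≠ 22) ∨ x = 24 := by
      decide +kernel
    have h2 := key2 v.2 hx hx1 hxd
    obtain ⟨b, x⟩ := v
    try simp only at *
    try simp only [Prod.mk.injEq]
    omega
  rw [h] at hsum hXd
  norm_num at hr hdeg hsum
  have hc2 : Multiset.card s ≤ 1 := by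
    have : (Multiset.card s : ℤ) ≤ 1 := by linarith
    exact_mod_cast this
  rcases s.empty_or_exists_mem with rfl | ⟨v, hvs⟩
  · simp at hr
  · obtain ⟨s', rfl⟩ := Multiset.exists_cons_of_mem hvs
    rcases s'.empty_or_exists_mem with rfl | ⟨w, hw⟩
    · rcases hval v (Multiset.mem_cons_self _ _) with rfl <;>
        rcases hε with rfl | rfl <;> simp at hdeg <;>
        first
          | omega
          | (have hXeq : X = 25 := by omega
             subst hXeq
             norm_num at hXd)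
    · obtain ⟨s'', rfl⟩ := Multiset.exists_cons_of_mem hw
      simp at hc2

end Cfsg.Agent.S1014
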