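import Cfsg.Statements.S1015
import Cfsg.Agent.Lib.SmallSimple.Basic

set_option autoImplicit false
open Cfsg

namespace Cfsg.Agent.S1015

/-- No finite simple group has order 1200 = 2^4 * 3 * 5^2. -/
theorem result {G : Type*} [Group G] [Finite G] [IsSimpleGroup G] : Nat.card G ≠ 1200 := by
  intro h
  open Cfsg.Agent.SmallSimple in
  haveI : Fact (Nat.Prime 5) := ⟨by norm_num⟩
  have hG : ¬ IsMulCommutative G := Basic.not_comm_of_not_prime (by rw [h]; norm_num)
  obtain ⟨hd, hmod, h1, hf⟩ := Basic.sylow_count (p := 5) hG (by rw [h]; norm_num) (a := 2)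
    (m := 48) (by rw [h]; norm_num) (by norm_num)
  rw [h] at hf
  have key : ∀ x ∈ Nat.divisors 48, x % 5 = 1 → 1 < x → x = 6 ∨ x = 16 := by decide +kernel
  have hn : Nat.card (Sylow 5 G) = 16 := by
    rcases key _ (Nat.mem_divisors.2 ⟨hd, by norm_num⟩) hmod h1 with e | e
    · rw [e] at hf; norm_num [Nat.factorial] at hf
    · exact e
  have hP : ∀ P : Sylow 5 G, Nat.card (P : Subgroup G) = 5 ^ 2 := fun P =>
    Basic.card_sylow_eq_pow (a := 2) (m := 48) (by rw [h]; norm_num) (by norm_num) P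
  obtain P : Sylow 5 G := default
  -- two Sylow subgroups meet non-trivially
  obtain ⟨Q, hQP, hQ⟩ : ∃ Q : Sylow 5 G, Q ≠ P ∧ (P : Subgroup G) ⊓ (Q : Subgroup G) ≠ ⊥ := by
    by_contra hno
    push Not at hno
    have hfix : ∀ Q : Sylow 5 G, Q ≠ P → MulAction.stabilizer (P : Subgroup G) Q = ⊥ := by
      intro Q hQ
      rw [eq_bot_iff]
      intro x hx
      have hxN : (x : G) ∈ Subgroup.normalizer ((Q : Subgroup G) : Set G) :=
        Sylow.smul_eq_iff_mem_normalizer.1 hx
      have h1 : (P : Subgroup G) ⊓ Subgroup.normalizer ((Q : Subgroup G) : Set G) =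
          (P : Subgroup G) ⊓ (Q : Subgroup G) := P.2.inf_normalizer_sylow Q
      have h2 : (x : G) ∈ (P : Subgroup G) ⊓ (Q : Subgroup G) := h1 ▸ ⟨x.2, hxN⟩
      rw [hno Q hQ, Subgroup.mem_bot] at h2
      exact Subgroup.mem_bot.2 (Subtype.ext h2)
    have hfree : ∀ Q : Sylow 5 G, Q ≠ P → Nat.card (MulAction.orbit (P : Subgroup G) Q) = 25 := by
      intro Q hQ
      rw [Nat.card_coe_set_eq, ← MulAction.index_stabilizer (P : Subgroup G) Q, hfix Q hQ, Subgroup.index_bot, hP]
      norm_num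
    obtain ⟨Q, hQ⟩ : ∃ Q : Sylow 5 G, Q ≠ P := by
      by_contra hall
      push Not at hall
      haveI : Subsingleton (Sylow 5 G) := ⟨fun a b => (hall a).trans (hall b).symm⟩
      have := Finite.card_le_one_iff_subsingleton.2 ‹Subsingleton (Sylow 5 G)›
      omega
    have hle : Nat.card (MulAction.orbit (P : Subgroup G) Q) ≤ Nat.card (Sylow 5 G) :=
      Finite.card_subtype_le _
    rw [hfree Q hQ, hn] at hle
    norm_num at hle
  set D := (P : Subgroup G) ⊓ (Q : Subgroup G) with hD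
  set C := Subgroup.centralizer (D : Set G) with hC
  haveI hcomm : ∀ R : Sylow 5 G, IsMulCommutative (R : Subgroup G) := fun R =>
    ⟨⟨IsPGroup.commutative_of_card_eq_prime_sq (hP R)⟩⟩
  have hle : ∀ R : Sylow 5 G, D ≤ (R : Subgroup G) → (R : Subgroup G) ≤ C := fun R hR x hx y hy => by
    haveI := hcomm R
    exact congrArg Subtype.val (mul_comm' (⟨y, hR hy⟩ : (R : Subgroup G)) ⟨x, hx⟩)
  have hPC := hle P inf_le_left
  have hQC := hle Q inf_le_right
  have hCtop : C ≠ ⊤ := fun e => by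
    refine hQ (eq_bot_iff.2 fun x hx => ?_)
    rw [← Basic.center_eq_bot hG, Subgroup.mem_center_iff]
    intro g
    have hg : g ∈ C := e ▸ Subgroup.mem_top g
    exact (hg x hx).symm
  have h2 := Basic.two_mul_card_dvd_factorial hG C hCtop
  rw [h] at h2
  have hmulC := Subgroup.card_mul_index C
  rw [h] at hmulC
  have h25 : 25 ∣ Nat.card C := by
    have := Subgroup.card_dvd_of_le hPC
    rw [hP] at this; simpa using this
  -- several Sylow 5-subgroups in the centraliser
  let P' := P.subtype hPC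
  let Q' := Q.subtype hQC
  have hne : P' ≠ Q' := fun e => hQP (Sylow.subtype_injective e).symm
  have h5 : 1 < Nat.card (Sylow 5 C) := Finite.one_lt_card_iff_nontrivial.2 ⟨⟨P', Q', hne⟩⟩
  have hmodC : Nat.card (Sylow 5 C) % 5 = 1 := card_sylow_modEq_one 5 C
  have hdC : Nat.card (Sylow 5 C) ∣ Nat.card C / 25 := by
    have h1 := P'.card_dvd_index
    have h2 := Subgroup.card_mul_index (P' : Subgroup C)
    rw [Sylow.coe_subtype, Nat.card_congr (Subgroup.subgroupOfEquivOfLe hPC).toEquiv, hP] at h2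
    rw [← h2, show (5 : ℕ) ^ 2 = 25 from rfl, Nat.mul_div_cancel_left _ (by norm_num)]
    exact h1
  obtain ⟨k, hk⟩ := h25
  have hk48 : k ∣ 48 := by
    have h' : 25 * k ∣ 25 * 48 := by
      have := Subgroup.card_subgroup_dvd_card C
      rwa [hk, h] at this
    exact Nat.dvd_of_mul_dvd_mul_left (by norm_num) h'
  rw [hk, Nat.mul_div_cancel_left _ (by norm_num)] at hdC
  rw [hk] at hmulC
  have hkey : ∀ i ∈ Nat.divisors 48, ∀ m ∈ Nat.divisors i, m % 5 = 1 → 1 < m → 6 ≤ i := by
    decide +kernel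
  have hk6 := hkey k (Nat.mem_divisors.2 ⟨hk48, by norm_num⟩) _
    (Nat.mem_divisors.2 ⟨hdC, fun e => by rw [e, mul_zero] at hk; exact (Nat.card_pos).ne' hk⟩)
    hmodC h5
  have hidx : C.index ≤ 8 := by nlinarith
  have h2' : 2 * 1200 ∣ Nat.factorial 8 := h2.trans (Nat.factorial_dvd_factorial hidx)
  norm_num [Nat.factorial] at h2'

end Cfsg.Agent.S1015
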