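import Cfsg.Statements.S1018
import Mathlib
import Cfsg.Agent.Lib.SmallSimple.Basic

set_option autoImplicit false
open Cfsg

namespace Cfsg.Agent.S1018

/-- Let P be a Sylow p-subgroup of order p of a finite group G, and consider the action of G on the left cosets of the normalizer N of P. Then every element of order p fixes exactly one coset, and an element of N that does not centralize P fixes at most as many cosets as there are orbits of P. -/
theorem result {G : Type*} [Group G] [Finite G] (p : ℕ) [Fact p.Prime] (P : Sylow p G) (hP : Nat.card ↥(P : Subgroup G) = p) : (∀ y : G, orderOf y = p → Nat.card (MulAction.fixedBy (G ⧸ Subgroup.normalizer ((P : Subgroup G) : Set G)) y) = 1) ∧ ∀ x : G, x ∈ Subgroup.normalizer ((P : Subgroup G) : Set G) → x ∉ Subgroup.centralizer ((P : Subgroup G) : Set G) → Nat.card (MulAction.fixedBy (G ⧸ Subgroup.normalizer ((P : Subgroup G) : Set G)) x) ≤ Nat.card (MulAction.orbitRel.Quotient ↥(P : Subgroup G) (G ⧸ Subgroup.normalizer ((P : Subgroup G) : Set G))) := by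
  classical
  have hp : p.Prime := Fact.out
  set N := Subgroup.normalizer ((P : Subgroup G) : Set G) with hN
  haveI : IsCyclic (P : Subgroup G) := isCyclic_of_prime_card hP
  have hmemfix : ∀ y g : G, y • (g : G ⧸ N) = (g : G ⧸ N) ↔ g⁻¹ * y * g ∈ N := by
    intro y g
    rw [MulAction.Quotient.smul_coe, eq_comm, QuotientGroup.eq, smul_eq_mul, mul_assoc]
  have hgen : ∀ y : G, y ∈ (P : Subgroup G) → y ≠ 1 → Subgroup.zpowers y = (P : Subgroup G) := by
    intro y hy hy1
    refine Subgroup.eq_of_le_of_card_ge (Subgroup.zpowers_le.2 hy) ?_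
    rw [Nat.card_zpowers, hP]
    have h : orderOf (⟨y, hy⟩ : (P : Subgroup G)) = p :=
      orderOf_eq_prime ((congrArg ((⟨y, hy⟩ : (P : Subgroup G)) ^ ·) hP.symm).trans pow_card_eq_one')
        (fun e => hy1 (congrArg Subtype.val e))
    rw [Subgroup.orderOf_mk] at h
    exact h.ge
  constructor
  · intro y hy
    rw [Nat.card_eq_one_iff_unique]
    have hpow : ∀ g : G, g⁻¹ * y * g ∈ N → Subgroup.zpowers (g⁻¹ * y * g) = (P : Subgroup G) := by
      intro g hg
      have hpg : IsPGroup p (Subgroup.zpowers (g⁻¹ * y * g)) := IsPGroup.of_card (n := 1) (by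
        rw [Nat.card_zpowers, pow_one]
        have := MulEquiv.orderOf_eq (MulAut.conj g⁻¹) y
        simp only [MulAut.conj_apply, inv_inv] at this
        rw [this, hy])
      have h1 : g⁻¹ * y * g ∈ (P : Subgroup G) := by
        have h2 : Subgroup.zpowers (g⁻¹ * y * g) ⊓ Subgroup.normalizer (P : Set G) ≤ (P : Subgroup G) :=
          (hpg.inf_normalizer_sylow P).le.trans inf_le_right
        exact h2 ⟨Subgroup.mem_zpowers _, hg⟩
      refine hgen _ h1 fun e => ?_
      have hy1 : y = 1 := by
        have := congrArg (fun t => g * t * g⁻¹) e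
        simpa [mul_assoc] using this
      rw [hy1, orderOf_one] at hy
      exact hp.one_lt.ne hy
    refine ⟨⟨fun a b => ?_⟩, ?_⟩
    · obtain ⟨a, ha⟩ := a
      obtain ⟨b, hb⟩ := b
      induction a using QuotientGroup.induction_on with
      | _ g =>
      induction b using QuotientGroup.induction_on with
      | _ h =>
      apply Subtype.ext
      show (g : G ⧸ N) = (h : G ⧸ N)
      rw [QuotientGroup.eq]
      have hg := hpow g ((hmemfix y g).1 ha)
      have hh := hpow h ((hmemfix y h).1 hb)
      rw [hN, Subgroup.mem_normalizer_iff_map_conj_eq]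
      conv_lhs => rw [← hh]
      rw [MonoidHom.map_zpowers]
      have e : (MulAut.conj (g⁻¹ * h)).toMonoidHom (h⁻¹ * y * h) = g⁻¹ * y * g := by
        simp [mul_assoc]
      rw [show ((MulAut.conj (g⁻¹ * h) : G ≃* G) : G →* G) = (MulAut.conj (g⁻¹ * h)).toMonoidHom from rfl,
        e, hg]
    · obtain ⟨Q, hQ⟩ := (IsPGroup.of_card (n := 1) (G := Subgroup.zpowers y)
        (by rw [Nat.card_zpowers, hy, pow_one])).exists_le_sylow
      obtain ⟨g, rfl⟩ := MulAction.exists_smul_eq G P Q
      have h1 := hQ (Subgroup.mem_zpowers y)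
      rw [Sylow.coe_subgroup_smul, Subgroup.mem_pointwise_smul_iff_inv_smul_mem, MulAut.smul_def,
        MulAut.inv_apply, MulAut.conj_symm_apply] at h1
      exact ⟨⟨(g : G ⧸ N), (hmemfix y g).2 (Subgroup.le_normalizer h1)⟩⟩
  · intro x hxN hxC
    refine Nat.card_le_card_of_injective
      (fun a => (Quotient.mk'' a.1 : MulAction.orbitRel.Quotient ↥(P : Subgroup G) (G ⧸ N))) ?_
    rintro ⟨a, ha⟩ ⟨b, hb⟩ hab
    apply Subtype.ext
    show a = b
    obtain ⟨u, hu⟩ : b ∈ MulAction.orbit (P : Subgroup G) a :=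
      MulAction.orbitRel_apply.1 (Quotient.exact' hab.symm)
    have hu' : (u : G) • a = b := hu
    by_contra hne
    have hu1 : (u : G) ≠ 1 := fun e => hne (by rw [← hu', e, one_smul])
    have hxu : x * (u : G) * x⁻¹ ∈ (P : Subgroup G) := (Subgroup.mem_normalizer_iff.1 hxN _).1 u.2
    have hfa : x • a = a := ha
    have hfb : x • b = b := hb
    have h3 : (x * (u : G) * x⁻¹) • a = b := by
      have : x⁻¹ • a = a := by rw [inv_smul_eq_iff, hfa]
      rw [mul_smul, mul_smul, this, hu', hfb]
    set w : G := (u : G)⁻¹ * (x * (u : G) * x⁻¹) with hw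
    have hwP : w ∈ (P : Subgroup G) := mul_mem (inv_mem u.2) hxu
    have hwfix : w • a = a := by rw [hw, mul_smul, h3, ← hu', inv_smul_smul]
    rcases eq_or_ne w 1 with hw1 | hw1
    · refine hxC fun t ht => ?_
      have hux : (u : G) * x = x * (u : G) := mul_inv_eq_iff_eq_mul.1
        (show x * (u : G) * x⁻¹ = (u : G) from (inv_mul_eq_one.1 hw1).symm) |>.symm
      have htu : t ∈ Subgroup.zpowers (u : G) := (hgen u u.2 hu1).symm ▸ ht
      obtain ⟨j, rfl⟩ := htu
      exact ((show Commute (u : G) x from hux).zpow_left j).eq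
    · have hst : Subgroup.zpowers w ≤ MulAction.stabilizer G a := Subgroup.zpowers_le.2 hwfix
      rw [hgen w hwP hw1] at hst
      exact hne ((hst u.2).symm.trans hu')

end Cfsg.Agent.S1018
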