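import Cfsg.Statements.S1019
import Mathlib
import Cfsg.Agent.Lib.SmallSimple.Basic

set_option autoImplicit false
open Cfsg

namespace Cfsg.Agent.S1019

/-- Let H be a subgroup of a finite group G and x an element of H. In the action of G on the left cosets of H, the number of cosets fixed by x, multiplied by the size of the conjugacy class of x, equals the index of H multiplied by the number of conjugates of x that lie in H. -/
theorem result {G : Type*} [Group G] [Finite G] (H : Subgroup G) (x : G) (hx : x ∈ H) : Nat.card (MulAction.fixedBy (G ⧸ H) x) * Nat.card {g : G // IsConj x g} = H.index * Nat.card {g : G // IsConj x g ∧ g ∈ H} := by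
  classical
  have hC := Cfsg.Agent.SmallSimple.Basic.card_centralizer_mul_card_class x
  have hQ := Cfsg.Agent.SmallSimple.Basic.card_conjugating x (fun y => y ∈ H)
  have hfix : Nat.card {g : G // g * x * g⁻¹ ∈ H} =
      Nat.card (MulAction.fixedBy (G ⧸ H) x) * Nat.card H := by
    have e : {g : G // g * x * g⁻¹ ∈ H} ≃ {c : G ⧸ H // x • c = c} × H :=
      ((Equiv.inv G).subtypeEquiv (q := fun g : G => x • (g : G ⧸ H) = (g : G ⧸ H)) fun g => by
        simp only [Equiv.inv_apply]
        rw [MulAction.Quotient.smul_coe, eq_comm (a := ((x • g⁻¹ : G) : G ⧸ H)), QuotientGroup.eq,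
          inv_inv, smul_eq_mul, mul_assoc]).trans
      ((QuotientGroup.preimageMkEquivSubgroupProdSet H {c : G ⧸ H | x • c = c}).trans
        (Equiv.prodComm _ _))
    rw [Nat.card_congr e, Nat.card_prod]
    rfl
  rw [hfix] at hQ
  have hG := Subgroup.card_mul_index H
  have h0 : 0 < Nat.card (Subgroup.centralizer ({x} : Set G)) := Nat.card_pos
  apply Nat.eq_of_mul_eq_mul_left h0
  calc _ = Nat.card (MulAction.fixedBy (G ⧸ H) x) * (Nat.card (Subgroup.centralizer ({x} : Set G)) *
          Nat.card {g : G // IsConj x g}) := by ring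
    _ = (Nat.card (MulAction.fixedBy (G ⧸ H) x) * Nat.card H) * H.index := by rw [hC, ← hG]; ring
    _ = _ := by rw [hQ]; ring

end Cfsg.Agent.S1019
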