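import Cfsg.Statements.S1024
import Cfsg.Agent.Lib.Chevalley.Relations
import Cfsg.Agent.Lib.Chevalley.Types.All

set_option autoImplicit false
open Cfsg

namespace Cfsg.Agent.S1024

/-- `x_r(0) = 1`, and `x_r(t) = 1` forces `t = 0`: the map `t ↦ x_r(t)` is injective. -/
theorem result {F : Type*} [Field F] (D : Cfsg.Lie.ChevalleyDatum) (hD : D ∈ [Cfsg.Lie.chevG2, Cfsg.Lie.chevB2, Cfsg.Lie.chevD4, Cfsg.Lie.chevF4, Cfsg.Lie.chevE6, Cfsg.Lie.chevE7, Cfsg.Lie.chevE8]) (r : ℕ) (hr : r < D.nroots) (t : F) :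
    D.x F r t = 1 ↔ t = 0 := by
  open Cfsg.Agent.Chevalley.Cert Cfsg.Agent.Chevalley.Columns in
  open Matrix in
  obtain ⟨T, hC⟩ := Cfsg.Agent.Chevalley.Types.All.exists_certified hD
  refine ⟨fun h => ?_, fun h => h ▸ Cfsg.Agent.Chevalley.Relations.x_zero hC r⟩
  by_contra ht
  have h1 := x_neg (F := F) hC hr t
  rw [h, Matrix.one_mulVec] at h1
  have hc : ∀ i < D.rank, ((cor D r i : ℤ) : F) = 0 := by
    intro i hi
    have h2 := congrFun h1 (Sum.inl ⟨i, hi⟩)
    simp only [Pi.add_apply, Pi.sub_apply, Pi.smul_apply, ev_inl, Finset.sum_apply, smul_eq_mul,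
      mul_zero, sub_zero, zero_add] at h2
    rw [Finset.sum_eq_single i] at h2
    · rw [eh_eq hi, Pi.single_eq_same, mul_one, eq_comm, mul_eq_zero] at h2
      exact h2.resolve_left ht
    · intro j hj hji
      rw [eh_eq (Finset.mem_range.1 hj), Pi.single_eq_of_ne (by simp [Fin.ext_iff, Ne.symm hji]),
        mul_zero]
    · intro hi'; exact absurd (Finset.mem_range.2 hi) hi'
  have hd := hC.cor_gcd hr (d := ringChar F) fun i hi => (CharP.intCast_eq_zero_iff F _ _).1 (hc i hi)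
  exact CharP.ringChar_ne_one hd

end Cfsg.Agent.S1024
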