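import Cfsg.Statements.S1026
import Cfsg.Agent.Lib.Chevalley.Borel
import Cfsg.Agent.Lib.Chevalley.Types.All

set_option autoImplicit false
open Cfsg

namespace Cfsg.Agent.S1026

/-- Every element of `U` has a unique expression `∏_{r ∈ Φ⁺} x_r(t_r)`, the product over the positive roots in increasing index order (the coefficient family `t`, supported on the positive roots, exists and is unique); and conversely every such ordered product is the matrix of an element of `U`. -/
theorem result {F : Type*} [Field F] (D : Cfsg.Lie.ChevalleyDatum) (hD : D ∈ [Cfsg.Lie.chevG2, Cfsg.Lie.chevB2, Cfsg.Lie.chevD4, Cfsg.Lie.chevF4, Cfsg.Lie.chevE6, Cfsg.Lie.chevE7, Cfsg.Lie.chevE8]) :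
    (∀ g : GL D.Idx F, g ∈ D.posUnipotent F →
      ∃! t : ℕ → F, (∀ r, ¬ D.IsPosRoot r → t r = 0) ∧
        (g : Matrix D.Idx D.Idx F) = D.wordMat F (D.posRoots.map fun r => (r, t r))) ∧
    (∀ t : ℕ → F, ∃ g : GL D.Idx F, g ∈ D.posUnipotent F ∧
      (g : Matrix D.Idx D.Idx F) = D.wordMat F (D.posRoots.map fun r => (r, t r))) := by
  open Cfsg.Agent.Chevalley.Cert Cfsg.Agent.Chevalley.Unip Cfsg.Agent.Chevalley.Borel in
  obtain ⟨T, hC⟩ := Cfsg.Agent.Chevalley.Types.All.exists_certified hD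
  refine ⟨fun g hg => ?_, fun t => ?_⟩
  · obtain ⟨t, ht⟩ := exists_prodX hC hg
    classical
    refine ⟨fun r => if D.IsPosRoot r then t r else 0, ⟨fun r hr => if_neg hr, ?_⟩, fun s hs => ?_⟩
    · rw [← prodX_eq_wordMat hC, ht]
      congr 1
      exact prodX_congr hC fun r hr => (if_pos (by simpa [Cfsg.Lie.ChevalleyDatum.posRoots] using (List.mem_filter.1 hr).2)).symm
    · funext r
      by_cases hr : D.IsPosRoot r
      · rw [if_pos hr]
        refine prodX_inj hC posRoots_sorted (fun x hx => (mem_posRoots hC).1 hx) ?_ r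
          ((mem_posRoots hC).2 ⟨hr.1, (hC.posRoot_iff hr.1).1 hr⟩)
        rw [← ht]
        exact Units.ext ((prodX_eq_wordMat hC _ s).trans hs.2.symm)
      · rw [if_neg hr, hs.1 r hr]
  · refine ⟨prodX hC D.posRoots t, ?_, prodX_eq_wordMat hC _ t⟩
    rw [← Uge_zero hC]
    exact prodX_mem hC fun r hr => ⟨((mem_posRoots hC).1 hr).1, ((mem_posRoots hC).1 hr).2, Nat.zero_le r⟩

end Cfsg.Agent.S1026
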