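import Cfsg.Statements.S1028
import Cfsg.Agent.Lib.Chevalley.Borel
import Cfsg.Agent.Lib.Chevalley.Types.All

set_option autoImplicit false
open Cfsg

namespace Cfsg.Agent.S1028

/-- Elements of `U` (the subgroup generated by the root elements of the positive roots) are unipotent linear maps: `(u - 1)^n = 0` with `n = rank + nroots` the dimension of the module. -/
theorem result {F : Type*} [Field F] (D : Cfsg.Lie.ChevalleyDatum) (hD : D ∈ [Cfsg.Lie.chevG2, Cfsg.Lie.chevB2, Cfsg.Lie.chevD4, Cfsg.Lie.chevF4, Cfsg.Lie.chevE6, Cfsg.Lie.chevE7, Cfsg.Lie.chevE8]) (g : GL D.Idx F) (hg : g ∈ D.posUnipotent F) :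
    ((g : Matrix D.Idx D.Idx F) - 1) ^ (D.rank + D.nroots) = 0 := by
  obtain ⟨T, hC⟩ := Cfsg.Agent.Chevalley.Types.All.exists_certified hD
  have h := (Cfsg.Agent.Chevalley.Unip.U_le_UT hC hg).1
  classical
  refine Cfsg.Agent.Chevalley.Weight.pow_eq_zero_of_fil _ h
    (fun a => (Finset.univ.filter fun c => Cfsg.Agent.Chevalley.Weight.wt D T c <
      Cfsg.Agent.Chevalley.Weight.wt D T a).card) _ (fun a b hab => ?_) (fun a => ?_)
  · refine Finset.card_lt_card ⟨fun c hc => ?_, fun hsub => ?_⟩
    · simp only [Finset.mem_filter, Finset.mem_univ, true_and] at hc ⊢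
      exact hc.trans hab
    · have := hsub (x := b) (by simpa using hab)
      simp at this
  · have h1 : (Finset.univ.filter fun c => Cfsg.Agent.Chevalley.Weight.wt D T c <
      Cfsg.Agent.Chevalley.Weight.wt D T a).card < (Finset.univ : Finset D.Idx).card :=
      Finset.card_lt_card ⟨Finset.filter_subset _ _, fun hsub => by simpa using hsub (Finset.mem_univ a)⟩
    simpa [Finset.card_univ, Fintype.card_sum, Fintype.card_fin] using h1

end Cfsg.Agent.S1028
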