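import Cfsg.Statements.S1030
import Cfsg.Agent.Lib.Chevalley.SL2
import Cfsg.Agent.Lib.Chevalley.Types.All

set_option autoImplicit false
open Cfsg

namespace Cfsg.Agent.S1030

/-- There is a homomorphism `SL₂(F) → GL` with image `⟨X_r, X_{-r}⟩` sending `[[1,t],[0,1]]` to `x_r(t)` and `[[1,0],[t,1]]` to `x_{-r}(t)`. -/
theorem result {F : Type*} [Field F] (D : Cfsg.Lie.ChevalleyDatum) (hD : D ∈ [Cfsg.Lie.chevG2, Cfsg.Lie.chevB2, Cfsg.Lie.chevD4, Cfsg.Lie.chevF4, Cfsg.Lie.chevE6, Cfsg.Lie.chevE7, Cfsg.Lie.chevE8]) (r : ℕ) (hr : r < D.nroots) :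
    ∃ φ : Matrix.SpecialLinearGroup (Fin 2) F →* GL D.Idx F,
      φ.range = D.rootSubgroup F r ⊔ D.rootSubgroup F (D.neg r) ∧
      ∀ (g : Matrix.SpecialLinearGroup (Fin 2) F) (t : F),
        ((g : Matrix (Fin 2) (Fin 2) F) = !![1, t; 0, 1] → ((φ g : GL D.Idx F) : Matrix D.Idx D.Idx F) = D.x F r t) ∧
        ((g : Matrix (Fin 2) (Fin 2) F) = !![1, 0; t, 1] → ((φ g : GL D.Idx F) : Matrix D.Idx D.Idx F) = D.x F (D.neg r) t) := by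
  obtain ⟨T, hC⟩ := Cfsg.Agent.Chevalley.Types.All.exists_certified hD
  obtain ⟨φ, hx, hy, hle⟩ := Cfsg.Agent.Chevalley.SL2.exists_hom
    (Cfsg.Agent.Chevalley.SL2.rank1 (F := F) hC hr)
  refine ⟨φ, le_antisymm ?_ ?_, fun g t => ⟨fun hg => ?_, fun hg => ?_⟩⟩
  · rintro _ ⟨g, rfl⟩
    refine (Subgroup.closure_le _).2 ?_ (hle g)
    rintro x (⟨t, rfl⟩ | ⟨t, rfl⟩)
    · exact Subgroup.mem_sup_left ((Cfsg.Agent.Chevalley.Borel.mem_rootSubgroup hC).2 ⟨t, rfl⟩)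
    · exact Subgroup.mem_sup_right ((Cfsg.Agent.Chevalley.Borel.mem_rootSubgroup hC).2 ⟨t, rfl⟩)
  · refine sup_le ?_ ?_ <;> intro x hxr
    · obtain ⟨t, rfl⟩ := (Cfsg.Agent.Chevalley.Borel.mem_rootSubgroup hC).1 hxr
      exact ⟨_, hx t⟩
    · obtain ⟨t, rfl⟩ := (Cfsg.Agent.Chevalley.Borel.mem_rootSubgroup hC).1 hxr
      exact ⟨_, hy t⟩
  · rw [show g = Cfsg.Agent.Chevalley.SL2.sx t from Subtype.ext hg, hx]
    rfl
  · rw [show g = Cfsg.Agent.Chevalley.SL2.sy t from Subtype.ext hg, hy]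
    rfl

end Cfsg.Agent.S1030
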