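import Cfsg.Statements.S1044
import Cfsg.Agent.Lib.Chevalley.Bruhat
import Cfsg.Agent.Lib.Chevalley.Types.All

set_option autoImplicit false
open Cfsg

namespace Cfsg.Agent.S1044

/-- For a fundamental root `p` the set `B ∪ B n_p B` is (the carrier of) a subgroup of the general linear group. -/
theorem result {F : Type*} [Field F] (D : Cfsg.Lie.ChevalleyDatum) (hD : D ∈ [Cfsg.Lie.chevG2, Cfsg.Lie.chevB2, Cfsg.Lie.chevD4, Cfsg.Lie.chevF4, Cfsg.Lie.chevE6, Cfsg.Lie.chevE7, Cfsg.Lie.chevE8]) (i : ℕ) (hi : i < D.rank) (n : GL D.Idx F)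
    (hn : (n : Matrix D.Idx D.Idx F) = D.nMat F (D.simple i) 1) :
    ∃ P : Subgroup (GL D.Idx F), (P : Set (GL D.Idx F)) =
      (D.borelSubgroup F : Set (GL D.Idx F)) ∪ DoubleCoset.doubleCoset n (D.borelSubgroup F : Set (GL D.Idx F)) (D.borelSubgroup F) := by
  open Cfsg.Agent.Chevalley in
  obtain ⟨T, hC⟩ := Types.All.exists_certified hD
  have hn' : n = Group.ng hC (D.simple i) (1 : F) := Units.ext (hn.trans (Group.coe_ng hC _ _).symm)
  have hnG : n ∈ D.group F := hn' ▸ Borel.N_le_group hC (Bruhat.ng_mem_N hC hi)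
  let s : (Bruhat.bn (F := F) hC).S := ⟨⟨n, hnG⟩, i, hi, hn'⟩
  refine ⟨((Bruhat.bn hC).parabolic {(s : ↥(D.group F))}).map (D.group F).subtype, ?_⟩
  rw [Subgroup.coe_map, Cfsg.Agent.BN.Parabolic.parabolic_singleton]
  ext x
  constructor
  · rintro ⟨y, hy | hy, rfl⟩
    · exact Or.inl hy
    · obtain ⟨b, hb, b', hb', rfl⟩ := DoubleCoset.mem_doubleCoset.1 hy
      exact Or.inr (DoubleCoset.mem_doubleCoset.2 ⟨_, hb, _, hb', rfl⟩)
  · rintro (hx | hx)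
    · exact ⟨⟨x, Borel.B_le_group hC hx⟩, Or.inl hx, rfl⟩
    · obtain ⟨b, hb, b', hb', rfl⟩ := DoubleCoset.mem_doubleCoset.1 hx
      exact ⟨⟨b, Borel.B_le_group hC hb⟩ * ⟨n, hnG⟩ * ⟨b', Borel.B_le_group hC hb'⟩,
        Or.inr (DoubleCoset.mem_doubleCoset.2 ⟨_, hb, _, hb', rfl⟩), rfl⟩

end Cfsg.Agent.S1044
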