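import Cfsg.Statements.S1045
import Cfsg.Agent.Lib.Chevalley.Bruhat
import Cfsg.Agent.Lib.Chevalley.Types.All

set_option autoImplicit false
open Cfsg

namespace Cfsg.Agent.S1045

/-- For a fundamental root `p`, the subgroup `U_p` generated by the `X_s`, `s` positive and `s ≠ p`, is normalised by `X_p` and `X_{-p}`, and `U = U_p ⊔ X_p`. -/
theorem result {F : Type*} [Field F] (D : Cfsg.Lie.ChevalleyDatum) (hD : D ∈ [Cfsg.Lie.chevG2, Cfsg.Lie.chevB2, Cfsg.Lie.chevD4, Cfsg.Lie.chevF4, Cfsg.Lie.chevE6, Cfsg.Lie.chevE7, Cfsg.Lie.chevE8]) (i : ℕ) (hi : i < D.rank) :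
    D.rootSubgroup F (D.simple i) ⊔ D.rootSubgroup F (D.neg (D.simple i)) ≤
        Subgroup.normalizer (Subgroup.closure {g : GL D.Idx F | ∃ (s : ℕ) (t : F), D.IsPosRoot s ∧ s ≠ D.simple i ∧
          (g : Matrix D.Idx D.Idx F) = D.x F s t} : Set (GL D.Idx F)) ∧
      Subgroup.closure {g : GL D.Idx F | ∃ (s : ℕ) (t : F), D.IsPosRoot s ∧ s ≠ D.simple i ∧
          (g : Matrix D.Idx D.Idx F) = D.x F s t} ⊔ D.rootSubgroup F (D.simple i) = D.posUnipotent F := by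
  open Cfsg.Agent.Chevalley in
  obtain ⟨T, hC⟩ := Types.All.exists_certified hD
  have e : Subgroup.closure {g : GL D.Idx F | ∃ (s : ℕ) (t : F), D.IsPosRoot s ∧ s ≠ D.simple i ∧
      (g : Matrix D.Idx D.Idx F) = D.x F s t} = Bruhat.Uom hC F (D.simple i) :=
    le_antisymm
      (Subgroup.closure_mono fun g ⟨s, t, hs, hne, hg⟩ =>
        ⟨s, t, hs.1, ⟨(hC.posRoot_iff hs.1).1 hs, hne⟩, Group.eq_xg hC hg⟩)
      (Subgroup.closure_mono fun g ⟨s, t, hs, ⟨hp, hne⟩, hg⟩ =>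
        ⟨s, t, (hC.posRoot_iff hs).2 hp, hne, by rw [hg, Group.coe_xg]⟩)
  rw [e]
  exact ⟨Bruhat.rootSubgroups_le_normalizer hC hi, Bruhat.Uom_sup hC hi⟩

end Cfsg.Agent.S1045
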