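import Cfsg.Statements.S1058
import Cfsg.Agent.Lib.Chevalley.StSteinberg
import Cfsg.Agent.Lib.Chevalley.Types.OrderB2
import Cfsg.Agent.Lib.Chevalley.Types.StCerts
import Cfsg.Agent.Lib.Chevalley.Types.CoefB2
import Mathlib.GroupTheory.Perm.Fin
import Mathlib.GroupTheory.Perm.Sign

set_option autoImplicit false
set_option linter.unusedSectionVars false
open Cfsg Cfsg.Lie Cfsg.Agent.Chevalley

namespace Cfsg.Agent.S1058

/-- The transposition of two points. -/
abbrev sw (a b : Fin 6) : Equiv.Perm (Fin 6) := Equiv.swap a b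

/-- The images of the root involutions. -/
def sigma (r : ℕ) : Equiv.Perm (Fin 6) :=
  ([sw 0 2 * sw 1 4 * sw 3 5, sw 0 2, sw 3 5, sw 0 2 * sw 1 3 * sw 4 5,
    sw 0 1 * sw 2 4 * sw 3 5, sw 4 5, sw 0 1, sw 0 1 * sw 2 3 * sw 4 5]).getD r 1

/-- The relations hold at parameter one. -/
theorem rel_ok : ((List.range 8).all fun r => decide (chevB2.neg r < 8) &&
      decide (sigma r * sigma r = 1) &&
      decide ((sigma r * sigma (chevB2.neg r) * sigma r) *
        (sigma r * sigma (chevB2.neg r) * sigma r) = 1) &&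
      (List.range 8).all fun s => Nat.beq s r || (Nat.beq s (chevB2.neg r) ||
        decide (sigma s * sigma r * sigma s * sigma r =
          ((chevB2.commTerms r s).map fun c =>
            if c.2.1.natAbs % 2 = 1 then sigma c.1 else 1).prod))) = true := by
  decide +kernel

theorem pos_ok : ((List.range 8).all fun r => (List.range 8).all fun s =>
    (chevB2.commTerms r s).all fun c => decide (c.1 < 8) && decide (0 < c.2.2.1) &&
      decide (0 < c.2.2.2)) = true := by
  decide +kernel

theorem sw01 : sw 0 1 = sigma 6 := by decide +kernel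
theorem sw12 : sw 1 2 = sigma 1 * sigma 6 * sigma 1 := by decide +kernel
theorem sw23 : sw 2 3 = sigma 3 * sigma 6 * sigma 3 := by decide +kernel
theorem sw34 : sw 3 4 = sigma 2 * sigma 5 * sigma 2 := by decide +kernel
theorem sw45 : sw 4 5 = sigma 5 := by decide +kernel

theorem center_perm : Subgroup.center (Equiv.Perm (Fin 6)) = ⊥ := by
  rw [eq_bot_iff]
  intro z hz
  rw [Subgroup.mem_bot]
  refine Equiv.ext fun a => ?_
  rw [Equiv.Perm.one_apply]
  by_contra hne
  obtain ⟨c, hca, hcb⟩ : ∃ c, c ≠ a ∧ c ≠ z a := by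
    revert hne
    generalize z a = b
    revert a b
    decide
  have := Equiv.congr_fun (Subgroup.mem_center_iff.1 hz (Equiv.swap (z a) c)) a
  simp only [Equiv.Perm.mul_apply, Equiv.swap_apply_left] at this
  rw [Equiv.swap_apply_of_ne_of_ne (Ne.symm hne) (Ne.symm hca)] at this
  exact hcb this

variable {F : Type*} [Field F] [Fintype F]

open scoped Classical in
/-- The image of a generator. -/
noncomputable def img (r : ℕ) (t : F) : Equiv.Perm (Fin 6) := if t = 0 then 1 else sigma r

theorem zero_or_one (hF : Fintype.card F = 2) (t : F) : t = 0 ∨ t = 1 := by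
  classical
  by_contra! h
  have hc := Finset.card_le_univ ({0, 1, t} : Finset F)
  rw [hF, Finset.card_insert_of_notMem (by simp [h.1.symm]),
    Finset.card_insert_of_notMem (by simp [h.2.symm]), Finset.card_singleton] at hc
  omega

theorem two_zero (hF : Fintype.card F = 2) : (1 : F) + 1 = 0 := by
  rcases zero_or_one hF ((1 : F) + 1) with h | h
  · exact h
  · simp at h

theorem img_zero (r : ℕ) : img r (0 : F) = 1 := by simp [img]

theorem img_one (r : ℕ) : img r (1 : F) = sigma r := by simp [img]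

theorem rels (hF : Fintype.card F = 2) : ∀ w ∈ chevB2.steinbergRels F,
    FreeGroup.lift (fun p : Fin chevB2.nroots × F => img p.1 p.2) w = 1 := by
  have h8 : chevB2.nroots = 8 := rfl
  have hX : ∀ r, r < 8 → ∀ t : F,
      FreeGroup.lift (fun p : Fin chevB2.nroots × F => img p.1 p.2) (chevB2.stX r t) = img r t := by
    intro r hr t
    rw [ChevalleyDatum.stX, dif_pos (h8 ▸ hr), FreeGroup.lift_apply_of]
  have h11 := two_zero hF
  have hm : (-1 : F) = 1 := neg_eq_of_add_eq_zero_left h11
  have hrel : ∀ r, r < 8 → chevB2.neg r < 8 ∧ sigma r * sigma r = 1 ∧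
      ((sigma r * sigma (chevB2.neg r) * sigma r) *
        (sigma r * sigma (chevB2.neg r) * sigma r) = 1) ∧
      ∀ s, s < 8 → s ≠ r → s ≠ chevB2.neg r → sigma s * sigma r * sigma s * sigma r =
          ((chevB2.commTerms r s).map fun c =>
            if c.2.1.natAbs % 2 = 1 then sigma c.1 else 1).prod := by
    intro r hr
    have h := List.all_eq_true.1 rel_ok r (List.mem_range.2 hr)
    simp only [Bool.and_eq_true, decide_eq_true_eq] at h
    refine ⟨h.1.1.1, h.1.1.2, h.1.2, fun s hs hne hnn => ?_⟩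
    have h' := List.all_eq_true.1 h.2 s (List.mem_range.2 hs)
    simpa [Nat.beq_eq, hne, hnn] using h'
  have hinv : ∀ r, r < 8 → (sigma r)⁻¹ = sigma r := fun r hr =>
    inv_eq_of_mul_eq_one_right (hrel r hr).2.1
  rintro w ((⟨r, a, b, hr, rfl⟩ | ⟨r, s, t, u, hr, hs, hne, hnn, rfl⟩) |
    ⟨r, a, b, hr, ha, hb, rfl⟩)
  · simp only [map_mul, map_inv, hX r hr]
    rcases zero_or_one hF a with rfl | rfl <;> rcases zero_or_one hF b with rfl | rfl <;>
      simp [h11, img_zero, img_one, (hrel r hr).2.1]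
  · have hpos : ∀ c ∈ chevB2.commTerms r s, c.1 < 8 ∧ 0 < c.2.2.1 ∧ 0 < c.2.2.2 := fun c hc => by
      have := List.all_eq_true.1 (List.all_eq_true.1 (List.all_eq_true.1 pos_ok r
        (List.mem_range.2 hr)) s (List.mem_range.2 hs)) c hc
      simpa [and_assoc] using this
    have hw : FreeGroup.lift (fun p : Fin chevB2.nroots × F => img p.1 p.2)
        (chevB2.stWord (chevB2.commWord F r s t u)) =
        ((chevB2.commTerms r s).map fun c =>
          img c.1 ((c.2.1 : F) * (-t) ^ c.2.2.1 * u ^ c.2.2.2)).prod := by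
      rw [ChevalleyDatum.stWord, map_list_prod, ChevalleyDatum.commWord, List.map_map, List.map_map]
      congr 1
      exact List.map_congr_left fun c hc => hX _ (hpos c hc).1 _
    simp only [map_mul, map_inv, hX r hr, hX s hs, hw, mul_inv_eq_one]
    have hz : t = 0 ∨ u = 0 → ((chevB2.commTerms r s).map fun c =>
        img c.1 ((c.2.1 : F) * (-t) ^ c.2.2.1 * u ^ c.2.2.2)).prod = 1 := fun h => by
      refine List.prod_eq_one fun x hx => ?_
      obtain ⟨c, hc, rfl⟩ := List.mem_map.1 hx
      rcases h with rfl | rfl <;> simp [img_zero, (hpos c hc).2.1.ne', (hpos c hc).2.2.ne']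
    rcases zero_or_one hF t with rfl | rfl
    · rw [hz (Or.inl rfl)]; simp [img_zero]
    rcases zero_or_one hF u with rfl | rfl
    · rw [hz (Or.inr rfl)]; simp [img_zero]
    rw [img_one, img_one, hinv r hr, hinv s hs, (hrel r hr).2.2.2 s hs hne hnn, hm]
    congr 1
    refine List.map_congr_left fun c _ => ?_
    simp only [one_pow, mul_one]
    have : CharP F 2 := CharTwo.of_one_ne_zero_of_two_eq_zero one_ne_zero (by rw [← one_add_one_eq_two, h11])
    have hc2 : ((c.2.1 : F) = 0) ↔ (2 : ℤ) ∣ c.2.1 := by exact_mod_cast CharP.intCast_eq_zero_iff F 2 c.2.1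
    by_cases hp : c.2.1.natAbs % 2 = 1
    · rw [if_pos hp, img, if_neg (fun e => by have := hc2.1 e; omega)]
    · rw [if_neg hp, img, if_pos (hc2.2 (by omega))]
  · have ha' : a = 1 := (zero_or_one hF a).resolve_left ha
    have hb' : b = 1 := (zero_or_one hF b).resolve_left hb
    subst ha' hb'
    have hn := (hrel r hr).1
    have e : FreeGroup.lift (fun p : Fin chevB2.nroots × F => img p.1 p.2) (chevB2.stH r (1 : F)) = 1 := by
      rw [ChevalleyDatum.stH, ChevalleyDatum.stWord, map_list_prod, List.map_map]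
      simp only [ChevalleyDatum.hWord, ChevalleyDatum.nWord, hm, inv_one, List.cons_append,
        List.nil_append, List.map_cons, List.map_nil, Function.comp_apply, List.prod_cons,
        List.prod_nil, mul_one, hX r hr, hX _ hn, img_one]
      simpa [mul_assoc] using (hrel r hr).2.2.1
    simp only [map_mul, map_inv, mul_one, e, inv_one]

/-- B₂(2) ≅ S₆. -/
theorem result {F : Type*} [Field F] [Fintype F] (hF : Fintype.card F = 2) :
    Nonempty (↥(Cfsg.Lie.chevB2.group F) ≃* Equiv.Perm (Fin 6)) := by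
  have hC := Types.B2.certified
  have hT : StKernel.HasCerts _ := ⟨⟨_, Types.CoefB2.coef_ok⟩, ⟨_, Types.StCerts.conj_B2⟩⟩
  obtain ⟨φ, hφ⟩ : ∃ φ : chevB2.SteinbergGroup F →* Equiv.Perm (Fin 6),
      ∀ r (hr : r < 8), φ (PresentedGroup.of ((⟨r, hr⟩, 1) : Fin chevB2.nroots × F)) = sigma r :=
    ⟨PresentedGroup.toGroup (rels hF), fun r hr => by
      rw [PresentedGroup.toGroup.of]; exact img_one r⟩
  have hs : ∀ r, r < 8 → sigma r ∈ φ.range := fun r hr => ⟨_, hφ r hr⟩
  have hφs : Function.Surjective φ := by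
    rw [← MonoidHom.range_eq_top, eq_top_iff]
    rintro g -
    have hsub : ∀ i : Fin 5, Equiv.swap i.castSucc i.succ ∈ φ.range := by
      intro i
      fin_cases i
      · show sw 0 1 ∈ φ.range; rw [sw01]; exact hs 6 (by omega)
      · show sw 1 2 ∈ φ.range; rw [sw12]; exact mul_mem (mul_mem (hs 1 (by omega)) (hs 6 (by omega))) (hs 1 (by omega))
      · show sw 2 3 ∈ φ.range; rw [sw23]; exact mul_mem (mul_mem (hs 3 (by omega)) (hs 6 (by omega))) (hs 3 (by omega))
      · show sw 3 4 ∈ φ.range; rw [sw34]; exact mul_mem (mul_mem (hs 2 (by omega)) (hs 5 (by omega))) (hs 2 (by omega))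
      · show sw 4 5 ∈ φ.range; rw [sw45]; exact hs 5 (by omega)
    refine (Submonoid.closure_le (S := φ.range.toSubmonoid)).2 ?_
      ((Equiv.Perm.mclosure_swap_castSucc_succ 5).symm ▸ Submonoid.mem_top g)
    rintro _ ⟨i, rfl⟩
    exact hsub i
  obtain ⟨S, hS⟩ : ∃ S, S = StSteinberg.stSys hC (StSteinberg.stHom hC)
      (StSteinberg.stHom_gen (F := F) hC) := ⟨_, rfl⟩
  have hθr : (StSteinberg.stHom (F := F) hC).range = chevB2.group F := by
    have := StKernel.th_range S
    rw [hS] at this
    exact this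
  obtain ⟨θ, hθ⟩ : ∃ θ : chevB2.SteinbergGroup F →* chevB2.group F,
      ∀ x, (θ x : GL chevB2.Idx F) = StSteinberg.stHom hC x :=
    ⟨(StSteinberg.stHom hC).codRestrict _ fun x => hθr ▸ ⟨x, rfl⟩, fun _ => rfl⟩
  have hθs : Function.Surjective θ := by
    rintro ⟨y, hy⟩
    rw [← hθr] at hy
    obtain ⟨x, rfl⟩ := hy
    exact ⟨x, Subtype.ext (hθ x)⟩
  have hker : θ.ker ≤ φ.ker := by
    intro z hz
    have hzc : z ∈ Subgroup.center (chevB2.SteinbergGroup F) := by
      have := StSteinberg.center_eq_ker S hT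
      rw [hS] at this
      rw [← this, MonoidHom.mem_ker]
      show StSteinberg.stHom hC z = 1
      rw [← hθ z, MonoidHom.mem_ker.1 hz]
      rfl
    rw [MonoidHom.mem_ker, ← Subgroup.mem_bot, ← center_perm, Subgroup.mem_center_iff]
    intro y
    obtain ⟨w, rfl⟩ := hφs y
    rw [← map_mul, ← map_mul, Subgroup.mem_center_iff.1 hzc w]
  let ψ : chevB2.group F →* Equiv.Perm (Fin 6) :=
    (QuotientGroup.lift θ.ker φ hker).comp
      (QuotientGroup.quotientKerEquivOfSurjective θ hθs).symm.toMonoidHom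
  have hψs : Function.Surjective ψ := by
    intro y
    obtain ⟨w, rfl⟩ := hφs y
    exact ⟨QuotientGroup.quotientKerEquivOfSurjective θ hθs (QuotientGroup.mk w), by simp [ψ]⟩
  have hcard : Nat.card (chevB2.group F) = Nat.card (Equiv.Perm (Fin 6)) := by
    have h := Types.OrderB2.card_group F
    rw [hF] at h
    rw [Nat.card_perm, Nat.card_fin]
    norm_num [Fin.prod_univ_two, Types.OrderB2.ed, Nat.factorial] at h ⊢
    omega
  have : Finite (chevB2.group F) := Nat.finite_of_card_ne_zero (by rw [hcard]; exact Nat.card_pos.ne')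
  exact ⟨MulEquiv.ofBijective ψ ((Nat.bijective_iff_surjective_and_card ψ).2 ⟨hψs, hcard⟩)⟩

end Cfsg.Agent.S1058
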