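import Cfsg.Statements.S1079
import Cfsg.Agent.Lib.Chevalley.Cover.CenterE6
import Cfsg.Agent.Lib.Chevalley.Cover.CenterE7
-- Template for statement S1079 (row 1079; see /opt/grader/pristine/manifest.json for weights).
-- Copy to Cfsg/Agent/S1079.lean and replace the sorry. The statement below is byte-identical to the frozen
-- statement Cfsg.CfsgFrozen.S1079 (Cfsg/Statements/S1079.lean; the theorem Cfsg.steinberg_card_center_e6_e7);
-- the grader kernel-checks Cfsg.Agent.S1079.result against that frozen type. Keep the theorem IN THIS FILE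
-- (a `result` declared elsewhere and merely imported here is not credited); helpers may live anywhere
-- under Cfsg/Agent/.
-- import your own Cfsg.Agent.* helpers here

set_option autoImplicit false
open Cfsg

namespace Cfsg.Agent.S1079

/-- `|Z(Ḡ)| = gcd(3, q-1)` for E₆ and `gcd(2, q-1)` for E₇ over a field with `q` elements (the centre is dual to the weight lattice modulo the root lattice). -/
theorem result {K : Type*} [Field K] [Fintype K] {q : ℕ} (hq : Fintype.card K = q)
    (p : Cfsg.Lie.ChevalleyDatum × ℕ) (hp : p ∈ [(Cfsg.Lie.chevE6, 3), (Cfsg.Lie.chevE7, 2)]) :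
    Nat.card (Subgroup.center (p.1.SteinbergGroup K)) = Nat.gcd p.2 (q - 1) := by
  subst hq
  open Cfsg.Agent.Chevalley.Cover in
  simp only [List.mem_cons, List.not_mem_nil, or_false] at hp
  rcases hp with rfl | rfl
  · obtain ⟨e, -⟩ := Cfsg.Agent.Chevalley.Cover.K2.exists_iso_all (D := Cfsg.Lie.chevE6) (F := K) (by simp)
    exact (Nat.card_congr (Subgroup.centerCongr e).toEquiv).symm.trans
      Cfsg.Agent.Chevalley.Cover.CenterE6.center_card
  · obtain ⟨e, -⟩ := Cfsg.Agent.Chevalley.Cover.K2.exists_iso_all (D := Cfsg.Lie.chevE7) (F := K) (by simp)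
    exact (Nat.card_congr (Subgroup.centerCongr e).toEquiv).symm.trans
      Cfsg.Agent.Chevalley.Cover.CenterE7.center_card

end Cfsg.Agent.S1079
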