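import Cfsg.Statements.S1081
import Cfsg.Agent.Lib.Chevalley.Types.GAut
-- import your own Cfsg.Agent.* helpers here

set_option autoImplicit false
open Cfsg

namespace Cfsg.Agent.S1081

/-- Graph automorphisms: for E₆ with ρ = (p₁ p₆)(p₃ p₅) and for D₄ with ρ the 3-cycle on the outer nodes there is a group automorphism sending `x_p(t) ↦ x_{ρ(p)}(t)` and `x_{-p}(t) ↦ x_{-ρ(p)}(t)` for every fundamental root `p`. -/
theorem result {F : Type*} [Field F] (p : Cfsg.Lie.ChevalleyDatum × List ℕ)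
    (hp : p ∈ [(Cfsg.Lie.chevE6, [5, 1, 4, 3, 2, 0]), (Cfsg.Lie.chevD4, [2, 1, 3, 0]), (Cfsg.Lie.chevD4, [3, 1, 0, 2])]) :
    ∃ α : ↥(p.1.group F) ≃* ↥(p.1.group F), ∀ (g : ↥(p.1.group F)) (i : ℕ) (t : F), i < p.1.rank →
      (((g : GL p.1.Idx F) : Matrix p.1.Idx p.1.Idx F) = p.1.x F (p.1.simple i) t →
        ((α g : GL p.1.Idx F) : Matrix p.1.Idx p.1.Idx F) = p.1.x F (p.1.simple (p.2.getD i 0)) t) ∧
      (((g : GL p.1.Idx F) : Matrix p.1.Idx p.1.Idx F) = p.1.x F (p.1.neg (p.1.simple i)) t →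
        ((α g : GL p.1.Idx F) : Matrix p.1.Idx p.1.Idx F) = p.1.x F (p.1.neg (p.1.simple (p.2.getD i 0))) t) := by
  simp only [List.mem_cons, List.not_mem_nil, or_false] at hp
  have hch : Cfsg.Agent.Chevalley.GraphAut.CharOK F 0 := Or.inl rfl
  rcases hp with rfl | rfl | rfl
  · obtain ⟨α, hα⟩ := Cfsg.Agent.Chevalley.GraphAut.exists_aut (F := F) Cfsg.Agent.Chevalley.Types.E6.certified
            ⟨⟨_, Cfsg.Agent.Chevalley.Types.CoefE6.coef_ok⟩, ⟨_, Cfsg.Agent.Chevalley.Types.StCerts.conj_E6⟩⟩ hch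
            Cfsg.Agent.Chevalley.Types.GAut.rel_E6 Cfsg.Agent.Chevalley.Types.GAut.onto_E6 Cfsg.Agent.Chevalley.Types.GAut.simple_E6
            Cfsg.Agent.Chevalley.Types.GAut.rel_E6 Cfsg.Agent.Chevalley.Types.GAut.onto_E6 Cfsg.Agent.Chevalley.Types.GAut.simple_E6
            (q := 1) (by decide) (by decide +kernel)
    refine ⟨α, fun g i t hi => ?_⟩
    have e : ∀ j < Cfsg.Lie.chevE6.rank, (([5, 1, 4, 3, 2, 0] : List ℕ).getD j 0) =
        ((([5, 1, 4, 3, 2, 0] : List ℕ).map fun a => (a, 1)).getD j (0, 1)).1 ∧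
        ((([5, 1, 4, 3, 2, 0] : List ℕ).map fun a => (a, 1)).getD j (0, 1)).2 = 1 := by decide +kernel
    have h := hα g i t hi
    obtain ⟨e1, e2⟩ := e i hi
    simp only [List.map_cons, List.map_nil] at e1 e2
    simp only [e1, e2, pow_one] at h ⊢
    exact h
  · obtain ⟨α, hα⟩ := Cfsg.Agent.Chevalley.GraphAut.exists_aut (F := F) Cfsg.Agent.Chevalley.Types.D4.certified
            ⟨⟨_, Cfsg.Agent.Chevalley.Types.CoefD4.coef_ok⟩, ⟨_, Cfsg.Agent.Chevalley.Types.StCerts.conj_D4⟩⟩ hch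
            Cfsg.Agent.Chevalley.Types.GAut.rel_D4a Cfsg.Agent.Chevalley.Types.GAut.onto_D4a Cfsg.Agent.Chevalley.Types.GAut.simple_D4a
            Cfsg.Agent.Chevalley.Types.GAut.rel_D4b Cfsg.Agent.Chevalley.Types.GAut.onto_D4b Cfsg.Agent.Chevalley.Types.GAut.simple_D4b
            (q := 1) (by decide) (by decide +kernel)
    refine ⟨α, fun g i t hi => ?_⟩
    have e : ∀ j < Cfsg.Lie.chevD4.rank, (([2, 1, 3, 0] : List ℕ).getD j 0) =
        ((([2, 1, 3, 0] : List ℕ).map fun a => (a, 1)).getD j (0, 1)).1 ∧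
        ((([2, 1, 3, 0] : List ℕ).map fun a => (a, 1)).getD j (0, 1)).2 = 1 := by decide +kernel
    have h := hα g i t hi
    obtain ⟨e1, e2⟩ := e i hi
    simp only [List.map_cons, List.map_nil] at e1 e2
    simp only [e1, e2, pow_one] at h ⊢
    exact h
  · obtain ⟨α, hα⟩ := Cfsg.Agent.Chevalley.GraphAut.exists_aut (F := F) Cfsg.Agent.Chevalley.Types.D4.certified
            ⟨⟨_, Cfsg.Agent.Chevalley.Types.CoefD4.coef_ok⟩, ⟨_, Cfsg.Agent.Chevalley.Types.StCerts.conj_D4⟩⟩ hch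
            Cfsg.Agent.Chevalley.Types.GAut.rel_D4b Cfsg.Agent.Chevalley.Types.GAut.onto_D4b Cfsg.Agent.Chevalley.Types.GAut.simple_D4b
            Cfsg.Agent.Chevalley.Types.GAut.rel_D4a Cfsg.Agent.Chevalley.Types.GAut.onto_D4a Cfsg.Agent.Chevalley.Types.GAut.simple_D4a
            (q := 1) (by decide) (by decide +kernel)
    refine ⟨α, fun g i t hi => ?_⟩
    have e : ∀ j < Cfsg.Lie.chevD4.rank, (([3, 1, 0, 2] : List ℕ).getD j 0) =
        ((([3, 1, 0, 2] : List ℕ).map fun a => (a, 1)).getD j (0, 1)).1 ∧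
        ((([3, 1, 0, 2] : List ℕ).map fun a => (a, 1)).getD j (0, 1)).2 = 1 := by decide +kernel
    have h := hα g i t hi
    obtain ⟨e1, e2⟩ := e i hi
    simp only [List.map_cons, List.map_nil] at e1 e2
    simp only [e1, e2, pow_one] at h ⊢
    exact h

end Cfsg.Agent.S1081
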