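import Cfsg.Statements.S1085
import Cfsg.Agent.Lib.Chevalley.Twist.E6
-- import your own Cfsg.Agent.* helpers here

set_option autoImplicit false
open Cfsg

namespace Cfsg.Agent.S1085

/-- ²E₆(q) has a (B,N)-pair: B¹ = G¹ ∩ B and N¹ = G¹ ∩ N, intersections with the ambient Chevalley group's B = UH and N. -/
theorem result {K : Type*} [Field K] [Fintype K] {q : ℕ} (hq : IsPrimePow q) (hK : Fintype.card K = q ^ 2) :
    ∃ P : Cfsg.BNPair ↥(Cfsg.Lie.twistedE6 K q),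
      P.B = (Cfsg.Lie.chevE6.borelSubgroup K ⊓ Cfsg.Lie.twistedE6 K q).subgroupOf (Cfsg.Lie.twistedE6 K q) ∧
      P.N = (Cfsg.Lie.chevE6.monomialSubgroup K ⊓ Cfsg.Lie.twistedE6 K q).subgroupOf (Cfsg.Lie.twistedE6 K q) := by
  open Cfsg.Agent.Chevalley.Twist in
  obtain ⟨X⟩ := E6.exists_setup hq hK
  have hne : ∀ a < X.O.k, ∃ x ∈ Fx X.S, x ≠ 1 ∧ ∀ c : ℕ → Kˣ,
      x ∈ Cfsg.Agent.Chevalley.NormalForm.Uminus Cfsg.Lie.chevE6 K
        (Cfsg.Agent.Chevalley.Group.tor Cfsg.Lie.chevE6 c *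
          Cfsg.Agent.Chevalley.Group.nL E6.hC K (X.O.J a)) :=
    fun a ha => exists_unip_ne X.O X.π_eq
      (fun b hb => by rw [X.J_eq]; exact orth_of_chk E6.hC (E6.orth_ok b (X.k_eq ▸ hb))) ha
  exact ⟨bnK X.gen hne, rfl, rfl⟩

end Cfsg.Agent.S1085
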