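import Cfsg.Statements.S1099
import Cfsg.Agent.Lib.Chevalley.Types.GAut
-- import your own Cfsg.Agent.* helpers here

set_option autoImplicit false
open Cfsg

namespace Cfsg.Agent.S1099

/-- Graph automorphism of G₂ in characteristic 3 (K perfect): `x_a(t) ↦ x_b(t³)`, `x_b(t) ↦ x_a(t)`, `x_{-a}(t) ↦ x_{-b}(t³)`, `x_{-b}(t) ↦ x_{-a}(t)` extend to an automorphism of the group. -/
theorem result {K : Type*} [Field K] [CharP K 3] (hperf : ∀ x : K, ∃ y : K, y ^ 3 = x) :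
    ∃ α : ↥(Cfsg.Lie.chevG2.group K) ≃* ↥(Cfsg.Lie.chevG2.group K), ∀ (g : ↥(Cfsg.Lie.chevG2.group K)) (t : K),
      (((g : GL Cfsg.Lie.chevG2.Idx K) : Matrix _ _ K) = Cfsg.Lie.chevG2.x K Cfsg.Lie.g2a t →
        ((α g : GL Cfsg.Lie.chevG2.Idx K) : Matrix _ _ K) = Cfsg.Lie.chevG2.x K Cfsg.Lie.g2b (t ^ 3)) ∧
      (((g : GL Cfsg.Lie.chevG2.Idx K) : Matrix _ _ K) = Cfsg.Lie.chevG2.x K Cfsg.Lie.g2b t →
        ((α g : GL Cfsg.Lie.chevG2.Idx K) : Matrix _ _ K) = Cfsg.Lie.chevG2.x K Cfsg.Lie.g2a t) ∧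
      (((g : GL Cfsg.Lie.chevG2.Idx K) : Matrix _ _ K) = Cfsg.Lie.chevG2.x K Cfsg.Lie.g2ma t →
        ((α g : GL Cfsg.Lie.chevG2.Idx K) : Matrix _ _ K) = Cfsg.Lie.chevG2.x K Cfsg.Lie.g2mb (t ^ 3)) ∧
      (((g : GL Cfsg.Lie.chevG2.Idx K) : Matrix _ _ K) = Cfsg.Lie.chevG2.x K Cfsg.Lie.g2mb t →
        ((α g : GL Cfsg.Lie.chevG2.Idx K) : Matrix _ _ K) = Cfsg.Lie.chevG2.x K Cfsg.Lie.g2ma t) := by
  have hch : Cfsg.Agent.Chevalley.GraphAut.CharOK K 3 := Or.inr ⟨Nat.prime_three, inferInstance, hperf⟩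
  obtain ⟨α, hα⟩ := Cfsg.Agent.Chevalley.GraphAut.exists_aut (F := K) Cfsg.Agent.Chevalley.Types.G2.certified
        ⟨⟨_, Cfsg.Agent.Chevalley.Types.CoefG2.coef_ok⟩, ⟨_, Cfsg.Agent.Chevalley.Types.StCerts.conj_G2⟩⟩ hch
        Cfsg.Agent.Chevalley.Types.GAut.rel_G2 Cfsg.Agent.Chevalley.Types.GAut.onto_G2 Cfsg.Agent.Chevalley.Types.GAut.simple_G2
        Cfsg.Agent.Chevalley.Types.GAut.rel_G2 Cfsg.Agent.Chevalley.Types.GAut.onto_G2 Cfsg.Agent.Chevalley.Types.GAut.simple_G2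
        (q := 3) (by decide) (by decide +kernel)
  refine ⟨α, fun g t => ?_⟩
  have h0 := hα g 0 t (by decide)
  have h1 := hα g 1 t (by decide)
  simp only [List.getD_cons_zero, List.getD_cons_succ, pow_one] at h0 h1
  exact ⟨h0.1, h1.1, h0.2, h1.2⟩

end Cfsg.Agent.S1099
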