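import Cfsg.Statements.S1118
import Cfsg.Agent.Lib.Involutions.RankOne.Basic

-- import your own Cfsg.Agent.* helpers here

set_option autoImplicit false
open Cfsg

namespace Cfsg.Agent.S1118

/-- In the rank-one set-up (`G` finite and doubly transitive on `Ω`, `t` an involution moving `a`, `Q` normal in `G_a` with `G_a = Q D`, `Q ⊓ D = 1` for the two-point stabiliser `D = G_a ⊓ G_{t • a}`, `|Q|` even, `|D|` odd), the normaliser of a subset of `Q` containing a non-identity element lies in `G_a`; consequently `N_G(Q) = N_G(G_a) = G_a`. -/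
theorem result {G Ω : Type*} [Group G] [Finite G] [MulAction G Ω] {a : Ω} {t : G} {Q : Subgroup G}
    (hS : Cfsg.IsRankOneSetup G Ω a t Q) :
    (∀ X : Set G, X ⊆ (Q : Set G) → (∃ x ∈ X, x ≠ 1) → Subgroup.normalizer X ≤ MulAction.stabilizer G a) ∧
      Subgroup.normalizer (Q : Set G) = MulAction.stabilizer G a ∧
      Subgroup.normalizer (MulAction.stabilizer G a : Set G) = MulAction.stabilizer G a := by
  have h1 : ∀ X : Set G, X ⊆ (Q : Set G) → (∃ x ∈ X, x ≠ 1) →
      Subgroup.normalizer X ≤ MulAction.stabilizer G a := by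
    intro X hX ⟨x, hx, hx1⟩ g hg
    have hy : g⁻¹ * x * g ∈ X := by
      rw [Subgroup.mem_set_normalizer_iff.1 hg]
      simpa [mul_assoc] using hx
    have hy1 : g⁻¹ * x * g ≠ 1 := fun e => hx1 (by
      calc x = g * (g⁻¹ * x * g) * g⁻¹ := by group
        _ = 1 := by rw [e]; group)
    have h2 : (g⁻¹ * x * g) • (g⁻¹ • a) = g⁻¹ • a := by
      rw [mul_smul, mul_smul, smul_inv_smul, show x • a = a from hS.le (hX hx)]
    have h3 := Cfsg.Agent.Involutions.RankOne.eq_a_of_fixed hS (hX hy) hy1 h2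
    exact (inv_smul_eq_iff.1 h3).symm
  obtain ⟨x, hx, hx1⟩ := Cfsg.Agent.Involutions.RankOne.exists_ne_one hS
  refine ⟨h1, le_antisymm (h1 _ subset_rfl ⟨x, hx, hx1⟩) ?_,
    le_antisymm ?_ Subgroup.le_normalizer⟩
  · exact Subgroup.le_normalizer_iff.2 hS.conj_mem
  · intro g hg
    have h2 : g⁻¹ * x * g ∈ MulAction.stabilizer G a := by
      refine (Subgroup.mem_set_normalizer_iff.1 hg _).2 ?_
      simpa [mul_assoc] using hS.le hx
    have h3 : x • (g • a) = g • a := by
      have h2' : (g⁻¹ * x * g) • a = a := h2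
      rwa [mul_smul, mul_smul, inv_smul_eq_iff] at h2'
    exact Cfsg.Agent.Involutions.RankOne.eq_a_of_fixed hS hx hx1 h3


end Cfsg.Agent.S1118
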