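import Cfsg.Statements.S1119
import Cfsg.Agent.Lib.Involutions.RankOne.Basic

-- import your own Cfsg.Agent.* helpers here

set_option autoImplicit false
open Cfsg

namespace Cfsg.Agent.S1119

/-- In the rank-one set-up (`G` finite and doubly transitive on `Ω`, `t` an involution moving `a`, `Q` normal in `G_a` with `G_a = Q D`, `Q ⊓ D = 1` for the two-point stabiliser `D = G_a ⊓ G_{t • a}`, `|Q|` even, `|D|` odd): `Q` acts regularly on `Ω` minus `a`; hence `|Ω| = |Q| + 1`, `|G| = |Q| |D| (|Q| + 1)`, some Sylow 2-subgroup of `G` lies in `Q`, and each `g ∉ G_a` is uniquely `x t y` with `x ∈ G_a`, `y ∈ Q` (canonical form). -/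
theorem result {G Ω : Type*} [Group G] [Finite G] [MulAction G Ω] {a : Ω} {t : G} {Q : Subgroup G}
    (hS : Cfsg.IsRankOneSetup G Ω a t Q) :
    (∀ b c : Ω, b ≠ a → c ≠ a → ∃! x : Q, (x : G) • b = c) ∧
      Nat.card Ω = Nat.card Q + 1 ∧
      Nat.card G = Nat.card Q * Nat.card ↥(MulAction.stabilizer G a ⊓ MulAction.stabilizer G (t • a)) * (Nat.card Q + 1) ∧
      (∃ P : Sylow 2 G, (P : Subgroup G) ≤ Q) ∧
      ∀ g : G, g ∉ MulAction.stabilizer G a → ∃! p : G × G, p.1 ∈ MulAction.stabilizer G a ∧ p.2 ∈ Q ∧ g = p.1 * t * p.2 := by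
  haveI : Fact (Nat.Prime 2) := ⟨Nat.prime_two⟩
  refine ⟨fun b c hb hc => ?_, Cfsg.Agent.Involutions.RankOne.card_points hS,
    Cfsg.Agent.Involutions.RankOne.card_group hS, ?_, fun g hg => ?_⟩
  · obtain ⟨q₁, hq₁, rfl⟩ := Cfsg.Agent.Involutions.RankOne.exists_q hS hb
    obtain ⟨q₂, hq₂, rfl⟩ := Cfsg.Agent.Involutions.RankOne.exists_q hS hc
    refine ⟨⟨q₂ * q₁⁻¹, mul_mem hq₂ (inv_mem hq₁)⟩, ?_, fun y hy => Subtype.ext ?_⟩
    · show (q₂ * q₁⁻¹) • q₁ • (t • a) = q₂ • (t • a)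
      rw [mul_smul, inv_smul_smul]
    · refine Cfsg.Agent.Involutions.RankOne.q_unique hS y.2 (mul_mem hq₂ (inv_mem hq₁)) hb ?_
      rw [mul_smul q₂ q₁⁻¹, inv_smul_smul]
      exact hy
  · obtain ⟨S⟩ : Nonempty (Sylow 2 Q) := inferInstance
    have hc : Nat.card ((S : Subgroup Q).map Q.subtype) = 2 ^ (Nat.card G).factorization 2 := by
      rw [Subgroup.card_map_of_injective Q.subtype_injective, S.card_eq_multiplicity,
        Cfsg.Agent.Involutions.RankOne.card_group hS]
      congr 1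
      have h1 := Nat.card_pos (α := Q)
      have h2 := Nat.card_pos (α := ↥(MulAction.stabilizer G a ⊓ MulAction.stabilizer G (t • a)))
      rw [Nat.factorization_mul (mul_ne_zero h1.ne' h2.ne') (show Nat.card Q + 1 ≠ 0 by omega),
        Nat.factorization_mul h1.ne' h2.ne', Finsupp.add_apply, Finsupp.add_apply,
        Nat.factorization_eq_zero_of_not_dvd
          (fun hd => Nat.not_even_iff_odd.2 hS.odd_card (even_iff_two_dvd.2 hd)),
        Nat.factorization_eq_zero_of_not_dvd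
          (fun hd => Nat.not_even_iff_odd.2 hS.even_card.add_one (even_iff_two_dvd.2 hd))]
      simp
    exact ⟨Sylow.ofCard _ hc, by simpa using Subgroup.map_subtype_le (S : Subgroup Q)⟩
  · have hga : g⁻¹ • a ≠ a := fun e => hg (inv_smul_eq_iff.1 e).symm
    have ht := Cfsg.Agent.Involutions.RankOne.t_inv hS
    obtain ⟨q, hq, hqc⟩ := Cfsg.Agent.Involutions.RankOne.exists_q hS hga
    refine ⟨(g * q * t, q⁻¹), ⟨?_, inv_mem hq, ?_⟩, ?_⟩
    · show (g * q * t) • a = a
      rw [mul_smul, mul_smul, hqc, smul_inv_smul]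
    · show g = g * q * t * t * q⁻¹
      simp [mul_assoc, hS.mul_self]
    · rintro ⟨p, q'⟩ ⟨hp, hq', he⟩
      simp only at hp hq' he
      subst he
      have h1 : q'⁻¹ • (t • a) = q • (t • a) := by
        rw [hqc, mul_inv_rev, mul_inv_rev, mul_smul, mul_smul, ht,
          show p⁻¹ • a = a from inv_smul_eq_iff.2 (show a = p • a from hp.symm)]
      have h2 := Cfsg.Agent.Involutions.RankOne.q_unique hS (inv_mem hq') hq
        (Cfsg.Agent.Involutions.RankOne.b_ne hS) h1
      rw [← h2]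
      simp [mul_assoc, hS.mul_self]


end Cfsg.Agent.S1119
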