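import Cfsg.Statements.S1124
import Cfsg.Agent.Lib.Involutions.RankOne.InvertedSet

-- import your own Cfsg.Agent.* helpers here

set_option autoImplicit false
open scoped Pointwise
open Cfsg

namespace Cfsg.Agent.S1124

/-- Let `t` be an element of order 2 of a finite group normalising a subgroup `X` of odd order, `Y = C_X(t)` and `Z` the set of elements of `X` inverted by `t`. Then `(y, z) ↦ y z` is a bijection `Y × Z → X`, so `|X| = |Y| |Z|`, and the subgroup generated by `Z` is normal in `X`. -/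
theorem result {M : Type*} [Group M] [Finite M]
    (t : M) (ht : orderOf t = 2) (X : Subgroup M) (hodd : Odd (Nat.card X))
    (hnorm : ∀ x ∈ X, t * x * t⁻¹ ∈ X) :
    (∀ x ∈ X, ∃! p : M × M, p.1 ∈ X ⊓ Subgroup.centralizer {t} ∧ p.2 ∈ Cfsg.invertedBy X t ∧ x = p.1 * p.2) ∧
      Nat.card X = Nat.card ↥(X ⊓ Subgroup.centralizer {t}) * Nat.card (Cfsg.invertedBy X t) ∧
      ∀ x ∈ X, MulAut.conj x • Subgroup.closure (Cfsg.invertedBy X t) = Subgroup.closure (Cfsg.invertedBy X t) := by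
  have ht2 : t * t = 1 := by rw [← sq, ← ht, pow_orderOf_eq_one]
  refine ⟨fun x hx => ?_, Cfsg.Agent.Involutions.InvertedSet.card_eq hodd ht2 hnorm, fun x hx => ?_⟩
  · obtain ⟨c, k, hc, hct, hk, rfl⟩ :=
      Cfsg.Agent.Involutions.InvertedSet.exists_decomp hodd ht2 hnorm hx
    refine ⟨(c, k), ⟨⟨hc, Cfsg.Agent.Involutions.InvertedSet.mem_cent.2 hct⟩, hk, rfl⟩, ?_⟩
    rintro ⟨c', k'⟩ ⟨hc', hk', he⟩
    obtain ⟨h1, h2⟩ := Cfsg.Agent.Involutions.InvertedSet.unique_decomp hodd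
      (Cfsg.Agent.Involutions.InvertedSet.mem_cent.1 hc'.2) hk' hct hk he.symm
    exact Prod.ext h1 h2
  · have hn := Cfsg.Agent.Involutions.InvertedSet.le_normalizer_closure hodd ht2 hnorm hx
    exact Subgroup.mem_normalizer_iff_map_conj_eq.1 hn


end Cfsg.Agent.S1124
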