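import Cfsg.Statements.S1142
import Cfsg.Agent.Lib.BN.FeitHigman.Theorem

set_option autoImplicit false
open Cfsg

namespace Cfsg.Agent.S1142

/-- Feit–Higman: if a finite group has a (B,N)-pair of rank 2, its Weyl group `N/(B ⊓ N)` has order 4, 6, 8, 12 or 16. -/
theorem result {G : Type*} [Group G] [Finite G] (P : Cfsg.BNPair G)
    (h2 : P.rank = 2) :
    ((P.B ⊓ P.N).subgroupOf P.N).index ∈ ({4, 6, 8, 12, 16} : Set ℕ) := by
  classical
  obtain ⟨s, t, hst, hu⟩ := Nat.card_eq_two_iff.1 (show Nat.card P.S = 2 from h2)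
  have h : Cfsg.Agent.BN.FeitHigman.IsPair s t := ⟨hst, fun x => by
    have : x ∈ ({s, t} : Set P.S) := hu ▸ Set.mem_univ x
    simpa using this⟩
  letI : Fintype (Cfsg.Agent.BN.FeitHigman.Ch P) := Fintype.ofFinite _
  letI : Fintype (Cfsg.Agent.BN.Basic.W P) := Fintype.ofFinite _
  have hn := Cfsg.Agent.BN.FeitHigman.feit_higman h
  change Nat.card (Cfsg.Agent.BN.Basic.W P) ∈ _
  rw [Cfsg.Agent.BN.FeitHigman.natCard_W h]
  simp only [Set.mem_insert_iff, Set.mem_singleton_iff] at hn ⊢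
  omega

end Cfsg.Agent.S1142
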