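import Cfsg.Statements.S1156
import Cfsg.Agent.Lib.Ree.Orders

set_option autoImplicit false
open Cfsg
open scoped MatrixGroups

namespace Cfsg.Agent.S1156

/-- In the small Ree group ²G₂(q), q = 3^(2m+1) with m ≥ 1, realised as G¹ inside the Chevalley group G₂ over the field with q elements (θ the 3^m-th power map): for every prime `p > 3` the Sylow `p`-subgroups of `G¹` are cyclic. -/
theorem result {K : Type*} [Field K] [Fintype K] {m : ℕ} (hm : 1 ≤ m) (hK : Fintype.card K = 3 ^ (2 * m + 1))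
    {p : ℕ} [Fact p.Prime] (hp : 3 < p) (P : Sylow p ↥(Cfsg.Lie.twistedG2 K (3 ^ m))) : IsCyclic (P : Subgroup ↥(Cfsg.Lie.twistedG2 K (3 ^ m))) := by
  haveI := Cfsg.Agent.Chevalley.Twist.G2.charThree hK
  obtain ⟨X⟩ := Cfsg.Agent.Chevalley.Twist.G2.exists_setup hK
  obtain ⟨Φ, hΦ⟩ := Cfsg.Agent.Ree.exists_embed X
  open Cfsg.Agent.Ree Cfsg.Agent.Chevalley.Twist.G2 in
  by_cases hdvd : p ∣ Nat.card ↥(Cfsg.Lie.twistedG2 K (3 ^ m))
  · obtain ⟨Q, C, hC, hQ⟩ : ∃ (Q : Sylow p ↥(Cfsg.Lie.twistedG2 K (3 ^ m)))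
        (C : Subgroup ↥(Cfsg.Lie.twistedG2 K (3 ^ m))), IsCyclic C ∧
          (Q : Subgroup ↥(Cfsg.Lie.twistedG2 K (3 ^ m))) ≤ C := by
      rcases prime_cases X (Fact.out : p.Prime) hdvd with e | e | ⟨e, e'⟩ | ⟨e, e'⟩ | e
      · omega
      · omega
      · obtain ⟨Q⟩ : Nonempty (Sylow p (torusHom X).range) := inferInstance
        have hcard : Nat.card ((Q : Subgroup (torusHom X).range).map (torusHom X).range.subtype) =
            p ^ (Nat.card ↥(Cfsg.Lie.twistedG2 K (3 ^ m))).factorization p := by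
          rw [Subgroup.card_map_of_injective (torusHom X).range.subtype_injective,
            Q.card_eq_multiplicity, card_H' X, (factorization_pred X Fact.out e e').1]
        exact ⟨Sylow.ofCard _ hcard, _, isCyclic_H' X, by
          rw [Sylow.coe_ofCard]; exact Subgroup.map_subtype_le _⟩
      · obtain ⟨Q, hQ⟩ := sylow_T2 X hΦ e e'
        exact ⟨Q, _, isCyclic_T2 X hΦ, hQ⟩
      · obtain ⟨T, hT, hpT⟩ := exists_six X hΦ (Fact.out : p.Prime) e
        obtain ⟨Q, hQ⟩ := six_sylow X hΦ hm hT hpT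
        exact ⟨Q, T, six_cyclic X hΦ hm hT, hQ⟩
    haveI := hC
    haveI : IsCyclic (Q : Subgroup ↥(Cfsg.Lie.twistedG2 K (3 ^ m))) :=
      isCyclic_of_injective (Subgroup.inclusion hQ) (Subgroup.inclusion_injective hQ)
    exact isCyclic_of_surjective (Q.equiv P).toMonoidHom (Q.equiv P).surjective
  · have h1 := P.card_eq_multiplicity
    rw [Nat.factorization_eq_zero_of_not_dvd hdvd, pow_zero] at h1
    haveI : Subsingleton (P : Subgroup ↥(Cfsg.Lie.twistedG2 K (3 ^ m))) :=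
      (Nat.card_eq_one_iff_unique.1 h1).1
    exact isCyclic_of_subsingleton

end Cfsg.Agent.S1156
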