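import Cfsg.Statements.S1158
import Cfsg.Agent.Lib.Ree.Orders

set_option autoImplicit false
open Cfsg
open scoped MatrixGroups

namespace Cfsg.Agent.S1158

/-- In the small Ree group ²G₂(q), q = 3^(2m+1) with m ≥ 1, realised as G¹ inside the Chevalley group G₂ over the field with q elements (θ the 3^m-th power map), with `r = 3^(m+1)` (so `r² = 3q`): for each `k ∈ {(q-1)/2, (q+1)/4, q - r + 1, q + r + 1}` there is a cyclic subgroup `A` of order `k` whose normaliser has order `2(q-1)`, `6(q+1)`, `6(q-r+1)`, `6(q+r+1)` respectively, and `N(A₀) = N(A)` for every non-trivial `A₀ ≤ A`. -/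
theorem result {K : Type*} [Field K] [Fintype K] {m : ℕ} (hm : 1 ≤ m) (hK : Fintype.card K = 3 ^ (2 * m + 1)) :
    ∀ kn ∈ ({((3 ^ (2 * m + 1) - 1) / 2, 2 * (3 ^ (2 * m + 1) - 1)), ((3 ^ (2 * m + 1) + 1) / 4, 6 * (3 ^ (2 * m + 1) + 1)),
        (3 ^ (2 * m + 1) - 3 ^ (m + 1) + 1, 6 * (3 ^ (2 * m + 1) - 3 ^ (m + 1) + 1)),
        (3 ^ (2 * m + 1) + 3 ^ (m + 1) + 1, 6 * (3 ^ (2 * m + 1) + 3 ^ (m + 1) + 1))} : Set (ℕ × ℕ)),
      ∃ A : Subgroup ↥(Cfsg.Lie.twistedG2 K (3 ^ m)), IsCyclic A ∧ Nat.card A = kn.1 ∧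
        Nat.card (Subgroup.normalizer (A : Set ↥(Cfsg.Lie.twistedG2 K (3 ^ m)))) = kn.2 ∧
        ∀ A₀ : Subgroup ↥(Cfsg.Lie.twistedG2 K (3 ^ m)), A₀ ≤ A → A₀ ≠ ⊥ →
          Subgroup.normalizer (A₀ : Set ↥(Cfsg.Lie.twistedG2 K (3 ^ m))) = Subgroup.normalizer (A : Set ↥(Cfsg.Lie.twistedG2 K (3 ^ m))) := by
  haveI := Cfsg.Agent.Chevalley.Twist.G2.charThree hK
  obtain ⟨X⟩ := Cfsg.Agent.Chevalley.Twist.G2.exists_setup hK
  obtain ⟨Φ, hΦ⟩ := Cfsg.Agent.Ree.exists_embed X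
  obtain ⟨Ta, Tb, ha, hb, hca, hcb, hna, hnb, -⟩ := Cfsg.Agent.Ree.exists_tori X hΦ hm
  open Cfsg.Agent.Ree Cfsg.Agent.Chevalley.Twist.G2 in
  intro kn hkn
  rw [← hK] at hkn
  rw [hca] at hna
  rw [hcb] at hnb
  simp only [Set.mem_insert_iff, Set.mem_singleton_iff] at hkn
  have h27 := twenty_seven_le X hm
  rcases hkn with rfl | rfl | rfl | rfl
  · have key : ∀ A₀ : Subgroup ↥(Cfsg.Lie.twistedG2 K (3 ^ m)), A₀ ≤ AH X hΦ → A₀ ≠ ⊥ →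
        Subgroup.normalizer (A₀ : Set ↥(Cfsg.Lie.twistedG2 K (3 ^ m))) = NH X := by
      intro A₀ h0 h1
      obtain ⟨x, hx, hx1⟩ := (Subgroup.bot_or_exists_ne_one A₀).resolve_left h1
      obtain ⟨y, hy, rfl⟩ := AH_reg X hΦ (h0 hx) hx1
      exact norm_tor X hΦ hm (h0.trans (AH_le X hΦ)) hy hx
    have hne : AH X hΦ ≠ ⊥ := fun e => by
      have h := card_AH X hΦ
      rw [e, Subgroup.card_bot] at h
      omega
    refine ⟨AH X hΦ, isCyclic_AH X hΦ, card_AH X hΦ, ?_, fun A₀ h0 h1 => ?_⟩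
    · rw [key _ le_rfl hne, card_NH X hΦ hm]
    · rw [key A₀ h0 h1, key _ le_rfl hne]
  · have hne : A0 X hΦ ≠ ⊥ := fun e => by
      have h := (card_A0 X hΦ).1
      rw [e, Subgroup.card_bot] at h
      omega
    refine ⟨A0 X hΦ, isCyclic_A0 X hΦ, (card_A0 X hΦ).1, ?_, fun A₀ h0 h1 => ?_⟩
    · rw [norm_A0 X hΦ hm le_rfl hne, card_N0 X hΦ hm]
    · rw [norm_A0 X hΦ hm h0 h1, norm_A0 X hΦ hm le_rfl hne]
  · exact ⟨Ta, six_cyclic X hΦ hm ha, hca, hna, fun A₀ h0 h1 => six_norm_eq X hΦ hm ha h0 h1⟩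
  · exact ⟨Tb, six_cyclic X hΦ hm hb, hcb, hnb, fun A₀ h0 h1 => six_norm_eq X hΦ hm hb h0 h1⟩

end Cfsg.Agent.S1158
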