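import Cfsg.Statements.S1159
import Cfsg.Agent.Lib.Ree.Orders

set_option autoImplicit false
open Cfsg
open scoped MatrixGroups

namespace Cfsg.Agent.S1159

/-- In the small Ree group ²G₂(q), q = 3^(2m+1) with m ≥ 1, realised as G¹ inside the Chevalley group G₂ over the field with q elements (θ the 3^m-th power map), with `r = 3^(m+1)`: a natural number is the order of an element of `G¹` iff it divides one of `6`, `9`, `q - 1`, `(q + 1)/2`, `q - r + 1`, `q + r + 1`. -/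
theorem result {K : Type*} [Field K] [Fintype K] {m : ℕ} (hm : 1 ≤ m) (hK : Fintype.card K = 3 ^ (2 * m + 1)) (d : ℕ) :
    (∃ g : ↥(Cfsg.Lie.twistedG2 K (3 ^ m)), orderOf g = d) ↔
      (d ∣ 6 ∨ d ∣ 9 ∨ d ∣ 3 ^ (2 * m + 1) - 1 ∨ d ∣ (3 ^ (2 * m + 1) + 1) / 2 ∨
        d ∣ 3 ^ (2 * m + 1) - 3 ^ (m + 1) + 1 ∨ d ∣ 3 ^ (2 * m + 1) + 3 ^ (m + 1) + 1) := by
  haveI := Cfsg.Agent.Chevalley.Twist.G2.charThree hK
  obtain ⟨X⟩ := Cfsg.Agent.Chevalley.Twist.G2.exists_setup hK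
  obtain ⟨Φ, hΦ⟩ := Cfsg.Agent.Ree.exists_embed X
  obtain ⟨Ta, Tb, ha, hb, hca, hcb, -, -, hset⟩ := Cfsg.Agent.Ree.exists_tori X hΦ hm
  open Cfsg.Agent.Ree Cfsg.Agent.Chevalley.Twist.G2 in
  rw [← hK]
  rw [← hca, ← hcb]
  constructor
  · rintro ⟨g, rfl⟩
    rcases sort_all X hΦ hm g with h | h | h | h | h | h | h | h
    · exact Or.inl (h ▸ one_dvd 6)
    · exact Or.inl (by rw [h]; norm_num)
    · exact Or.inl (by rw [h]; norm_num)
    · exact Or.inl (by rw [h])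
    · exact Or.inr (Or.inl (by rw [h]))
    · exact Or.inr (Or.inr (Or.inl (regH_order X hΦ h).1))
    · exact Or.inr (Or.inr (Or.inr (Or.inl (regT_order X hΦ h).1)))
    · rw [hset] at h
      rcases h with ⟨k, hk, -⟩ | ⟨k, hk, -⟩
      · exact Or.inr (Or.inr (Or.inr (Or.inr (Or.inl (orderOf_conj X k g ▸
          Subgroup.orderOf_dvd_natCard _ hk)))))
      · exact Or.inr (Or.inr (Or.inr (Or.inr (Or.inr (orderOf_conj X k g ▸
          Subgroup.orderOf_dvd_natCard _ hk)))))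
  · intro hd
    obtain ⟨x, hx⟩ : ∃ x : ↥(Cfsg.Lie.twistedG2 K (3 ^ m)), d ∣ orderOf x := by
      have hcyc : ∀ C : Subgroup ↥(Cfsg.Lie.twistedG2 K (3 ^ m)), IsCyclic C →
          ∃ x : ↥(Cfsg.Lie.twistedG2 K (3 ^ m)), orderOf x = Nat.card C := fun C hC => by
        obtain ⟨c, hc⟩ := IsCyclic.exists_generator (α := C)
        exact ⟨c, (Subgroup.orderOf_coe c).trans (orderOf_eq_card_of_forall_mem_zpowers hc)⟩
      rcases hd with h | h | h | h | h | h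
      · exact ⟨_, (orderOf_negMap X (0, 1, 0)).2 one_ne_zero ▸ h⟩
      · exact ⟨_, (orderOf_uu X (p := (1, 0, 0)) (by simp)).2 one_ne_zero ▸ h⟩
      · obtain ⟨x, hx⟩ := hcyc _ (isCyclic_H' X)
        exact ⟨x, by rwa [hx, card_H' X]⟩
      · exact ⟨t2gen X hΦ, by rw [← orderOf_t2gen X hΦ, Nat.mul_div_cancel_left _ two_pos] at h; exact h⟩
      · obtain ⟨x, hx⟩ := hcyc _ (six_cyclic X hΦ hm ha)
        exact ⟨x, by rwa [hx]⟩
      · obtain ⟨x, hx⟩ := hcyc _ (six_cyclic X hΦ hm hb)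
        exact ⟨x, by rwa [hx]⟩
    exact ⟨_, orderOf_pow_orderOf_div (orderOf_pos x).ne' hx⟩

end Cfsg.Agent.S1159
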