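import Cfsg.Statements.S1164
import Cfsg.Agent.Lib.Chevalley.CT.Iso
import Cfsg.Agent.Lib.Chevalley.CT.TypesD4
import Cfsg.Agent.Lib.Chevalley.CT.TypesF4
import Cfsg.Agent.Lib.Chevalley.CT.TypesE6
import Cfsg.Agent.Lib.Chevalley.CT.TypesE7
import Cfsg.Agent.Lib.Chevalley.CT.TypesE8
import Cfsg.Agent.Lib.Chevalley.Types.StCerts

set_option autoImplicit false
open Cfsg

namespace Cfsg.Agent.S1164

/-- Curtis–Tits: for the Chevalley datum of type D₄, F₄, E₆, E₇ or E₈ and a field `K` with at least four elements, there is an isomorphism from the group presented by the Curtis–Tits relators (additivity, the commutator relators and the `h̄`-relators only for roots inside a common rank-two subsystem spanned by two fundamental roots, all other generators killed) onto the group of Steinberg's presentation, sending each generator `x̄_r(t)` with `r` in such a subsystem to `x̄_r(t)`. -/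
theorem result (D : Cfsg.Lie.ChevalleyDatum)
    (hD : D ∈ [Cfsg.Lie.chevD4, Cfsg.Lie.chevF4, Cfsg.Lie.chevE6, Cfsg.Lie.chevE7, Cfsg.Lie.chevE8])
    (K : Type*) [Field K] [Fintype K] (hK : 4 ≤ Fintype.card K) :
    ∃ e : D.CurtisTitsGroup K ≃* D.SteinbergGroup K,
      ∀ (i j r : ℕ) (t : K), D.InRankTwoSub i j r →
        e (PresentedGroup.mk (D.curtisTitsRels K) (D.stX r t)) = D.stGen K r t := by
  obtain ⟨T, hC, hCT, hT⟩ : ∃ T, Chevalley.Cert.Certified D T ∧ Chevalley.CT.CTCerts T ∧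
      Chevalley.StKernel.HasCerts T := by
    simp only [List.mem_cons, List.not_mem_nil, or_false] at hD
    rcases hD with rfl | rfl | rfl | rfl | rfl
    exacts [⟨_, Chevalley.Types.D4.certified, Chevalley.CT.Types.D4.certs,
        ⟨_, Chevalley.Types.CoefD4.coef_ok⟩, ⟨_, Chevalley.Types.StCerts.conj_D4⟩⟩,
      ⟨_, Chevalley.Types.F4.certified, Chevalley.CT.Types.F4.certs,
        ⟨_, Chevalley.Types.CoefF4.coef_ok⟩, ⟨_, Chevalley.Types.StCerts.conj_F4⟩⟩,
      ⟨_, Chevalley.Types.E6.certified, Chevalley.CT.Types.E6.certs,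
        ⟨_, Chevalley.Types.CoefE6.coef_ok⟩, ⟨_, Chevalley.Types.StCerts.conj_E6⟩⟩,
      ⟨_, Chevalley.Types.E7.certified, Chevalley.CT.Types.E7.certs,
        ⟨_, Chevalley.Types.CoefE7.coef_ok⟩, ⟨_, Chevalley.Types.StCerts.conj_E7⟩⟩,
      ⟨_, Chevalley.Types.E8.certified, Chevalley.CT.Types.E8.certs,
        ⟨_, Chevalley.Types.CoefE8.coef_ok⟩, ⟨_, Chevalley.Types.StCerts.conj_E8⟩⟩]
  obtain ⟨e, he⟩ := Chevalley.CT.exists_iso (F := K) hC hCT hT
  refine ⟨e, fun i j r t h => ?_⟩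
  obtain ⟨hi, hj, h'⟩ := (Chevalley.CT.sub_iff i j r).1 h
  exact he r ⟨i, j, hi, hj, h'⟩ t

end Cfsg.Agent.S1164
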