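import Cfsg.Statements.S1167
import Cfsg.Agent.Lib.Perm.Zassenhaus.Main
import Cfsg.Agent.S0738

set_option autoImplicit false
open Cfsg

namespace Cfsg.Agent.S1167

/-- Let `G` be a finite simple Zassenhaus group on `Ω`, `U` a normal subgroup of `G_a` regular on `Ω` minus `a` which is an abelian 2-group, and `v` an involution with `v • a ≠ a`. Then there is a unique `u₀ ∈ U`, `u₀ ≠ 1`, with `v u₀ v = u₀ v u₀`. -/
theorem result {G Ω : Type*} [Group G] [Finite G] [MulAction G Ω] [Finite Ω]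
    (hZ : Cfsg.IsZassenhausGroup G Ω) [IsSimpleGroup G] {a : Ω}
    (U : Subgroup G) (hUle : U ≤ MulAction.stabilizer G a)
    (hUn : ∀ h ∈ MulAction.stabilizer G a, ∀ u ∈ U, h * u * h⁻¹ ∈ U)
    (hreg : ∀ c d : Ω, c ≠ a → d ≠ a → ∃! u : U, (u : G) • c = d)
    (hU2 : IsPGroup 2 U) (hUab : ∀ u ∈ U, ∀ u' ∈ U, u * u' = u' * u)
    (v : G) (hv1 : v ≠ 1) (hv2 : v * v = 1) (hva : v • a ≠ a) :
    ∃! u₀ : G, u₀ ∈ U ∧ u₀ ≠ 1 ∧ v * u₀ * v = u₀ * v * u₀ := by
  classical
  haveI := Fintype.ofFinite Ω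
  haveI := hZ.1
  have hab : a ≠ v • a := fun e => hva e.symm
  set b := v • a with hb
  have hn : (U.subgroupOf (MulAction.stabilizer G a)).Normal :=
    ⟨fun u hu g => hUn g g.2 u hu⟩
  have hcomm : IsMulCommutative U :=
    ⟨⟨fun u w => Subtype.ext (hUab u u.2 w w.2)⟩⟩
  have h := Perm.Zassenhaus.frame_of_zass hZ hab U hUle hn hcomm hreg
  have hcard := h.card_F
  rw [Nat.card_eq_fintype_card] at hcard
  have h3 := Cfsg.Agent.CharactersDeep.Zassenhaus.three_le_card hZ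
  have hbound : Fintype.card Ω - 2 ≤
      2 * Nat.card ↥(MulAction.stabilizer G a ⊓ MulAction.stabilizer G b) := by
    rcases Nat.even_or_odd (Nat.card ↥(MulAction.stabilizer G a ⊓ MulAction.stabilizer G b))
      with he | ho
    · exact S0741.result hZ hab he
    · rcases S0885.result hZ hab (Nat.card U) _ hcard rfl ho U hUle hcard.symm h.fix_only with
        h' | ⟨-, ⟨x, y, hxy⟩, -⟩
      · omega
      · exact absurd (hcomm.is_comm.comm x y) hxy
  obtain ⟨-, p, f, hp, hexp, hpf⟩ := S0738.result hZ hab hbound U hUle hn hreg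
  have hUcard : Nat.card U = p ^ f := by omega
  have hf : f ≠ 0 := by rintro rfl; simp at hpf; omega
  have hp2 : p = 2 := by
    obtain ⟨k, hk⟩ := IsPGroup.iff_card.1 hU2
    rw [hUcard] at hk
    exact (Nat.prime_dvd_prime_iff_eq hp Nat.prime_two).1
      (hp.dvd_of_dvd_pow (hk ▸ dvd_pow_self p hf))
  subst hp2
  have hvo : orderOf v = 2 := orderOf_eq_prime (by rw [pow_two, hv2]) hv1
  have hvb : v • b = a := by rw [hb, ← mul_smul, hv2, one_smul]
  have hoddΩ : Odd (Fintype.card Ω) := by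
    rw [hpf]
    exact (Nat.even_pow.2 ⟨even_two, hf⟩).add_one
  have hfix := ((S0740.result hZ hab).2.1 v hvo hb.symm hvb).1 hoddΩ
  rw [Nat.card_eq_one_iff_unique] at hfix
  obtain ⟨hsub, ⟨⟨c, hc⟩⟩⟩ := hfix
  have hc' : v • c = c := hc
  have hca : c ≠ a := fun e => hva ((congrArg (v • ·) e).symm.trans (hc'.trans e))
  have hcb : c ≠ b := fun e => hca (hc'.symm.trans ((congrArg (v • ·) e).trans hvb))
  obtain ⟨⟨u, hu⟩, hub, -⟩ := hreg b c hab.symm hca
  have hub' : u • b = c := hub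
  have hua : u • a = a := hUle hu
  have hu2 : u * u = 1 := by rw [← pow_two]; exact hexp u hu
  have hu1 : u ≠ 1 := fun e => hcb (by rw [← hub', e, one_smul])
  have huc : u • c = b := by rw [← hub', ← mul_smul, hu2, one_smul]
  refine ⟨u, ⟨hu, hu1, ?_⟩, ?_⟩
  · refine inv_mul_eq_one.1 (hZ.2.2.1 ((v * u * v)⁻¹ * (u * v * u)) a b c hab hcb.symm hca.symm
      ?_ ?_ ?_) <;> rw [mul_smul, inv_smul_eq_iff]
    · simp only [mul_smul, hua, ← hb, hub', hc']
    · simp only [mul_smul, hvb, hua, ← hb, hub', hc', huc]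
    · simp only [mul_smul, hc', huc, hvb, hua]
  · rintro w ⟨hw, hw1, hwe⟩
    have hwa : w • a = a := hUle hw
    have e := congrArg (fun g : G => g • a) hwe
    simp only [mul_smul, hwa, ← hb] at e
    have hwb : (⟨w • b, e⟩ : MulAction.fixedBy Ω v) = ⟨c, hc⟩ := Subsingleton.elim _ _
    exact congrArg Subtype.val ((hreg b c hab.symm hca).unique
      (y₁ := (⟨w, hw⟩ : U)) (y₂ := (⟨u, hu⟩ : U)) (congrArg Subtype.val hwb) hub)

end Cfsg.Agent.S1167
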