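import Cfsg.Statements.S1172
import Cfsg.Agent.GStructB.ProductFusion.Dihedral

set_option autoImplicit false
open Cfsg

namespace Cfsg.Agent.S1172

private lemma sq_one {G : Type*} [Group G] {A : Subgroup G} {m : ℕ} (e : A ≃* DihedralGroup m) :
    ∀ s ∈ A, (∀ t ∈ A, s * t = t * s) → s * s = 1 := by
  intro s hs hc
  have h := ProductFusion.center_sq (z := e ⟨s, hs⟩) fun y => by
    obtain ⟨⟨t, ht⟩, rfl⟩ := e.surjective y
    rw [← map_mul, ← map_mul]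
    exact congrArg e (Subtype.ext (hc t ht))
  rw [← map_mul, ← e.map_one, e.injective.eq_iff] at h
  exact congrArg Subtype.val h

private lemma isSquare_center {G : Type*} [Group G] {A : Subgroup G} (hA : IsPGroup 2 A) {m : ℕ}
    (hm : 2 ≤ m) (e : A ≃* DihedralGroup m) (hne : ¬ ∀ a ∈ A, ∀ b ∈ A, a * b = b * a) :
    ∀ s ∈ A, (∀ t ∈ A, s * t = t * s) → ∃ w ∈ A, s = w * w := by
  haveI : NeZero m := ⟨by omega⟩
  haveI : Finite A := Finite.of_equiv _ e.symm.toEquiv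
  haveI : Fact (Nat.Prime 2) := ⟨Nat.prime_two⟩
  obtain ⟨k, hk⟩ := (IsPGroup.iff_card (p := 2)).1 hA
  have hm' : m ∣ 2 ^ k := by
    rw [← hk, Nat.card_congr e.toEquiv, DihedralGroup.nat_card]; exact dvd_mul_left m 2
  obtain ⟨j, -, rfl⟩ := (Nat.dvd_prime_pow Nat.prime_two).1 hm'
  have hj : 2 ≤ j := by
    by_contra hlt
    interval_cases j
    · omega
    · refine hne fun a ha b hb => ?_
      have h2 : ∀ x y : DihedralGroup 2, x * y = y * x := by decide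
      exact congrArg Subtype.val (e.injective (a₁ := ⟨a, ha⟩ * ⟨b, hb⟩) (a₂ := ⟨b, hb⟩ * ⟨a, ha⟩)
        (by rw [map_mul, map_mul]; exact h2 _ _))
  intro s hs hc
  obtain ⟨w, hw⟩ := ProductFusion.center_isSquare hj (z := e ⟨s, hs⟩) fun y => by
    obtain ⟨⟨t, ht⟩, rfl⟩ := e.surjective y
    rw [← map_mul, ← map_mul]
    exact congrArg e (Subtype.ext (hc t ht))
  obtain ⟨⟨u, hu⟩, rfl⟩ := e.surjective w
  rw [← map_mul, e.injective.eq_iff] at hw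
  exact ⟨u, hu, congrArg Subtype.val hw⟩

/-- Let G be a finite group with no nontrivial normal subgroup of odd order and no proper normal subgroup of odd index, whose Sylow 2-subgroup S is not commutative and is the internal direct product of two subgroups each isomorphic to a dihedral group of order at least 4 and each strongly closed in S with respect to G (product fusion). Then G is the internal direct product of two normal subgroups G₁, G₂, and S is the internal direct product of dihedral subgroups R₁ ≤ G₁ and R₂ ≤ G₂ of odd index in G₁ and G₂ respectively (so R_i is a Sylow 2-subgroup of G_i). -/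
theorem result {G : Type*} [Group G] [Finite G] (hO : Cfsg.oddCore G = ⊥) (hO' : ∀ N : Subgroup G, N.Normal → Odd N.index → N = ⊤) (S : Sylow 2 G) (hS : ¬ IsMulCommutative (S : Subgroup G)) (S₁ S₂ : Subgroup G) (hprod : Cfsg.IsInternalDirectProduct S₁ S₂ (S : Subgroup G)) (m₁ m₂ : ℕ) (hm₁ : 2 ≤ m₁) (hm₂ : 2 ≤ m₂) (e₁ : S₁ ≃* DihedralGroup m₁) (e₂ : S₂ ≃* DihedralGroup m₂) (hcl₁ : Cfsg.IsStronglyClosed S₁ (S : Subgroup G)) (hcl₂ : Cfsg.IsStronglyClosed S₂ (S : Subgroup G)) : ∃ G₁ G₂ : Subgroup G, G₁.Normal ∧ G₂.Normal ∧ Cfsg.IsInternalDirectProduct G₁ G₂ ⊤ ∧ ∃ R₁ R₂ : Subgroup G, Cfsg.IsInternalDirectProduct R₁ R₂ (S : Subgroup G) ∧ (∃ n₁, 2 ≤ n₁ ∧ Nonempty (R₁ ≃* DihedralGroup n₁)) ∧ (∃ n₂, 2 ≤ n₂ ∧ Nonempty (R₂ ≃* DihedralGroup n₂)) ∧ R₁ ≤ G₁ ∧ R₂ ≤ G₂ ∧ Odd (R₁.relIndex G₁) ∧ Odd (R₂.relIndex G₂) := by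
  haveI : Fact (Nat.Prime 2) := ⟨Nat.prime_two⟩
  obtain ⟨hS₁, hS₂, hc, hd, hT⟩ := hprod
  by_cases hne : ∀ a ∈ S₁, ∀ b ∈ S₁, a * b = b * a
  · have hne₂ : ¬ ∀ a ∈ S₂, ∀ b ∈ S₂, a * b = b * a := fun hne₂ => hS ⟨⟨fun x y => Subtype.ext (by
      obtain ⟨a, ha, b, hb, h⟩ := ProductFusion.mem_sup_of_commute hc (hT.ge x.2)
      obtain ⟨a', ha', b', hb', h'⟩ := ProductFusion.mem_sup_of_commute hc (hT.ge y.2)
      show (x : G) * y = y * x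
      rw [h, h']
      have c1 : Commute a' b := hc a' ha' b hb
      have c2 : Commute a b' := hc a ha b' hb'
      have c3 : Commute a a' := hne a ha a' ha'
      have c4 : Commute b b' := hne₂ b hb b' hb'
      exact ((c3.mul_right c2).mul_left (c1.symm.mul_right c4)).eq)⟩⟩
    obtain ⟨G₂, G₁, hn₂, hn₁, ⟨-, -, hc', hd', hG⟩, R₂, R₁, ⟨hR₂, hR₁, hcR, hdR, hR⟩, ⟨f₂⟩, ⟨f₁⟩,
        h2, h1, ho₂, ho₁⟩ :=
      ProductFusion.split hO hO' S S₂ S₁ ⟨hS₂, hS₁, fun a ha b hb => (hc b hb a ha).symm,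
        by rw [inf_comm, hd], by rw [sup_comm, hT]⟩ hcl₂ hcl₁ (sq_one e₁)
        (isSquare_center (S.2.to_le hS₂) hm₂ e₂ hne₂)
    exact ⟨G₁, G₂, hn₁, hn₂, ⟨le_top, le_top, fun a ha b hb => (hc' b hb a ha).symm,
      by rw [inf_comm, hd'], by rw [sup_comm, hG]⟩, R₁, R₂, ⟨hR₁, hR₂,
      fun a ha b hb => (hcR b hb a ha).symm, by rw [inf_comm, hdR], by rw [sup_comm, hR]⟩,
      ⟨m₁, hm₁, ⟨f₁.trans e₁⟩⟩, ⟨m₂, hm₂, ⟨f₂.trans e₂⟩⟩, h1, h2, ho₁, ho₂⟩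
  · obtain ⟨G₁, G₂, hn₁, hn₂, hG, R₁, R₂, hR, ⟨f₁⟩, ⟨f₂⟩, h1, h2, ho₁, ho₂⟩ :=
      ProductFusion.split hO hO' S S₁ S₂ ⟨hS₁, hS₂, hc, hd, hT⟩ hcl₁ hcl₂ (sq_one e₂)
        (isSquare_center (S.2.to_le hS₁) hm₁ e₁ hne)
    exact ⟨G₁, G₂, hn₁, hn₂, hG, R₁, R₂, hR, ⟨m₁, hm₁, ⟨f₁.trans e₁⟩⟩,
      ⟨m₂, hm₂, ⟨f₂.trans e₂⟩⟩, h1, h2, ho₁, ho₂⟩

end Cfsg.Agent.S1172
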