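import Cfsg.Statements.S1176
import Cfsg.Agent.Lib.Involutions.Basic

set_option autoImplicit false
open Cfsg

namespace Cfsg.Agent.S1176

open Cfsg.Agent.Involutions.Basic

theorem conj_class {G : Type*} [Group G] {x₀ x : G} (hx : IsConj x₀ x) (g : G) :
    IsConj x₀ (g * x * g⁻¹) := hx.trans (isConj_iff.2 ⟨g, rfl⟩)

/-- Let x₀ be an involution of the finite group G and D its conjugacy class. Assume (a) for each x ∈ D the subgroup W(x) generated by the members of D commuting with x is a 2-group of nilpotency class at most 2, and (b) the product of two distinct commuting members of D again lies in D. Then for all x, y ∈ D, if xy has even order greater than 2, its order is 4. -/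
theorem result {G : Type*} [Group G] [Finite G] (x₀ : G) (hx₀ : orderOf x₀ = 2) (ha : ∀ x : G, IsConj x₀ x → IsPGroup 2 ↥(Subgroup.closure {y : G | IsConj x₀ y ∧ Commute y x}) ∧ ⁅⁅Subgroup.closure {y : G | IsConj x₀ y ∧ Commute y x}, Subgroup.closure {y : G | IsConj x₀ y ∧ Commute y x}⁆, Subgroup.closure {y : G | IsConj x₀ y ∧ Commute y x}⁆ = ⊥) (hb : ∀ x y : G, IsConj x₀ x → IsConj x₀ y → x ≠ y → Commute x y → IsConj x₀ (x * y)) (x y : G) (hx : IsConj x₀ x) (hy : IsConj x₀ y) (heven : Even (orderOf (x * y))) (hgt : 2 < orderOf (x * y)) : orderOf (x * y) = 4 := by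
  have ho : ∀ v : G, IsConj x₀ v → orderOf v = 2 := fun v hv => by
    obtain ⟨g, rfl⟩ := isConj_iff.1 hv
    rw [orderOf_conj, hx₀]
  obtain ⟨k, hk⟩ := heven
  have hn2 : (x * y) ^ (2 * (k : ℤ)) = 1 := by
    rw [show (2 * (k : ℤ)) = ((k + k : ℕ) : ℤ) by push_cast; ring, zpow_natCast, ← hk, pow_orderOf_eq_one]
  have hi1 : (x * y) ^ (k : ℤ) ≠ 1 := by
    rw [zpow_natCast]
    exact pow_ne_one_of_lt_orderOf (by omega) (by omega)
  have hneg : (x * y) ^ (-(k : ℤ)) = (x * y) ^ (k : ℤ) := by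
    rw [← mul_inv_eq_one, ← zpow_neg, ← zpow_add, show -(k : ℤ) + -(k : ℤ) = -(2 * k) by ring,
      zpow_neg, hn2, inv_one]
  have hcomx : Commute x ((x * y) ^ (k : ℤ)) := by
    have := conj_zpow_left (ho x hx) (ho y hy) k
    rw [hneg] at this
    exact mul_inv_eq_iff_eq_mul.1 this
  have hcomy : Commute y ((x * y) ^ (k : ℤ)) := by
    have := conj_zpow_right (ho x hx) (ho y hy) k
    rw [hneg] at this
    exact mul_inv_eq_iff_eq_mul.1 this
  -- `x` times the central involution is in the class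
  have hxi : IsConj x₀ (x * (x * y) ^ (k : ℤ)) := by
    rcases Nat.even_or_odd' k with ⟨j, hj | hj⟩
    · have h := conj_class hx ((x * y) ^ (-(j : ℤ)))
      rw [zpow_conj_left (ho x hx) (ho y hy)] at h
      rw [hj]; convert h using 3; push_cast; ring
    · have h := conj_class hy ((x * y) ^ (-(j : ℤ)))
      have e : (x * y) ^ (-(j : ℤ)) * y * ((x * y) ^ (-(j : ℤ)))⁻¹ = x * (x * y) ^ (k : ℤ) := by
        have hy' : y = x * (x * y) := by rw [← mul_assoc, inv_sq_one (ho x hx), one_mul]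
        nth_rw 2 [hy']
        rw [← mul_assoc ((x * y) ^ (-(j : ℤ))), zpow_mul_left (ho x hx) (ho y hy), mul_assoc x,
          mul_assoc x, ← zpow_neg]
        congr 1
        rw [← zpow_add_one, ← zpow_add, hj]
        congr 1; push_cast; ring
      rwa [e] at h
  have hne : x ≠ x * (x * y) ^ (k : ℤ) := fun h => hi1 (mul_eq_left.1 h.symm)
  have hi : IsConj x₀ ((x * y) ^ (k : ℤ)) := by
    have := hb x _ hx hxi hne ((Commute.refl x).mul_right hcomx)
    rwa [← mul_assoc, inv_sq_one (ho x hx), one_mul] at this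
  obtain ⟨-, hnil⟩ := ha _ hi
  set W := Subgroup.closure {z : G | IsConj x₀ z ∧ Commute z ((x * y) ^ (k : ℤ))}
  have hxW : x ∈ W := Subgroup.subset_closure ⟨hx, hcomx⟩
  have hyW : y ∈ W := Subgroup.subset_closure ⟨hy, hcomy⟩
  have h2W : (x * y) ^ (2 : ℤ) ∈ ⁅W, W⁆ := by
    have h1 := Subgroup.commutator_mem_commutator hxW hyW
    rw [commutatorElement_def, inv_eq (ho x hx), inv_eq (ho y hy)] at h1
    rwa [zpow_two, ← mul_assoc]
  have hcen : (x * y) ^ (2 : ℤ) * x = x * (x * y) ^ (2 : ℤ) := by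
    have h3 := Subgroup.commutator_mem_commutator h2W hxW
    rw [hnil, Subgroup.mem_bot, commutatorElement_eq_one_iff_mul_comm] at h3
    exact h3
  have h4 : (x * y) ^ (4 : ℕ) = 1 := by
    rw [zpow_mul_left (ho x hx) (ho y hy), mul_right_inj] at hcen
    have h5 : (x * y) ^ ((2 : ℤ) + 2) = 1 := by
      rw [zpow_add]; nth_rw 1 [← hcen]; rw [← zpow_add, neg_add_cancel, zpow_zero]
    exact_mod_cast h5
  have hdvd := orderOf_dvd_of_pow_eq_one h4
  have := Nat.le_of_dvd (by norm_num) hdvd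
  interval_cases h : orderOf (x * y) <;> omega

end Cfsg.Agent.S1176
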