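import Cfsg.Statements.S1177


set_option autoImplicit false
open Cfsg

namespace Cfsg.Agent.S1177

/-- Let A be a nontrivial elementary abelian 2-subgroup of a finite group G which is a T.I. set (each conjugate of A meets A trivially or equals A) and which does not commute elementwise with any conjugate of A other than A itself. Then for every a ∈ A, a ≠ 1, every conjugate of A contained in C_G(a) is equal to A (A is weakly closed in C_G(a)). -/
theorem result {G : Type*} [Group G] [Finite G] (A : Subgroup G) (hA : Cfsg.IsElementaryAbelian 2 A) (hA1 : A ≠ ⊥) (hTI : ∀ g : G, A.map (MulAut.conj g).toMonoidHom ⊓ A = ⊥ ∨ A.map (MulAut.conj g).toMonoidHom = A) (hb : ∀ g : G, (∀ a ∈ A, ∀ b ∈ A.map (MulAut.conj g).toMonoidHom, a * b = b * a) → A.map (MulAut.conj g).toMonoidHom = A) (a : G) (ha : a ∈ A) (ha1 : a ≠ 1) (g : G) (hg : A.map (MulAut.conj g).toMonoidHom ≤ Subgroup.centralizer ({a} : Set G)) : A.map (MulAut.conj g).toMonoidHom = A := by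
  obtain ⟨hAc, hA2⟩ := hA
  have hab : ∀ x ∈ A, ∀ y ∈ A, x * y = y * x := fun x hx y hy =>
    congrArg Subtype.val (mul_comm' (⟨x, hx⟩ : A) ⟨y, hy⟩)
  set B := A.map (MulAut.conj g).toMonoidHom with hB
  have memB : ∀ x ∈ A, g * x * g⁻¹ ∈ B := fun x hx => ⟨x, hx, rfl⟩
  -- `B` normalizes `A`
  have hBA : ∀ b ∈ B, ∀ x ∈ A, b * x * b⁻¹ ∈ A := by
    intro b hb x hx
    rcases hTI b with h | h
    · exfalso
      have : b * a * b⁻¹ ∈ A.map (MulAut.conj b).toMonoidHom ⊓ A := by
        refine ⟨⟨a, ha, rfl⟩, ?_⟩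
        have := Subgroup.mem_centralizer_singleton_iff.mp (hg hb)
        rw [this, mul_inv_cancel_right]
        exact ha
      rw [h, Subgroup.mem_bot] at this
      exact ha1 (by simpa using this)
    · have := Subgroup.mem_map_of_mem (MulAut.conj b).toMonoidHom hx
      rw [h] at this
      exact this
  by_cases hne : B = A
  · exact hne
  have hint : B ⊓ A = ⊥ := (hTI g).resolve_right hne
  -- some non-identity element of `B` commutes with any given element of `A`
  have key : ∀ x ∈ A, ∃ b ∈ B, b ≠ 1 ∧ b * x * b⁻¹ = x := by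
    intro x hx
    by_contra hno
    push Not at hno
    have hinj : Function.Injective fun b : B => (⟨(b : G) * x * (b : G)⁻¹, hBA b b.2 x hx⟩ : A) := by
      intro b c h
      have h' : (b : G) * x * (b : G)⁻¹ = c * x * (c : G)⁻¹ := congrArg Subtype.val h
      by_contra hbc
      refine hno ((c : G)⁻¹ * b) (mul_mem (inv_mem c.2) b.2) (fun e => hbc ?_) ?_
      · exact Subtype.ext (inv_mul_eq_one.mp e).symm
      · calc (c : G)⁻¹ * b * x * ((c : G)⁻¹ * b)⁻¹ = (c : G)⁻¹ * (b * x * (b : G)⁻¹) * c := by group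
          _ = (c : G)⁻¹ * (c * x * (c : G)⁻¹) * c := by rw [h']
          _ = x := by group
    have hcard : Nat.card B = Nat.card A :=
      Nat.card_congr (A.equivMapOfInjective _ (MulAut.conj g).injective).toEquiv.symm
    have hs := ((Nat.bijective_iff_injective_and_card _).mpr ⟨hinj, hcard⟩).2
    obtain ⟨b, hb⟩ := hs ⟨a, ha⟩
    obtain ⟨c, hc⟩ := hs 1
    have hb' : (b : G) * x * (b : G)⁻¹ = a := congrArg Subtype.val hb
    have hxa : x = a := by
      have := Subgroup.mem_centralizer_singleton_iff.mp (hg b.2)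
      rw [← mul_inv_eq_iff_eq_mul] at this
      exact mul_left_cancel (mul_right_cancel (hb'.trans this.symm))
    have hc' : (c : G) * x * (c : G)⁻¹ = 1 := congrArg Subtype.val hc
    exact ha1 (hxa ▸ (by simpa using hc'))
  apply hb g
  intro x hx y hy
  obtain ⟨b, hbB, hb1, hbx⟩ := key x hx
  have hbx' : x * b * x⁻¹ = b := by
    rw [mul_inv_eq_iff_eq_mul] at hbx ⊢; exact hbx.symm
  -- `x` normalizes `B`
  obtain ⟨b0, hb0, hb0e⟩ := hbB
  change g * b0 * g⁻¹ = b at hb0e
  have hxB : x * y * x⁻¹ ∈ B := by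
    rcases hTI (g⁻¹ * x * g) with h | h
    · exfalso
      have : b0 ∈ A.map (MulAut.conj (g⁻¹ * x * g)).toMonoidHom ⊓ A := by
        refine ⟨⟨b0, hb0, ?_⟩, hb0⟩
        show g⁻¹ * x * g * b0 * (g⁻¹ * x * g)⁻¹ = b0
        calc g⁻¹ * x * g * b0 * (g⁻¹ * x * g)⁻¹ = g⁻¹ * (x * (g * b0 * g⁻¹) * x⁻¹) * g := by group
          _ = b0 := by rw [hb0e, hbx', ← hb0e]; group
      rw [h, Subgroup.mem_bot] at this
      exact hb1 (by rw [← hb0e, this]; group)
    · obtain ⟨y0, hy0, rfl⟩ := hy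
      have := Subgroup.mem_map_of_mem (MulAut.conj (g⁻¹ * x * g)).toMonoidHom hy0
      rw [h] at this
      refine ⟨_, this, ?_⟩
      show g * (g⁻¹ * x * g * y0 * (g⁻¹ * x * g)⁻¹) * g⁻¹ = x * (g * y0 * g⁻¹) * x⁻¹
      group
  have h1 : x * y * x⁻¹ * y⁻¹ ∈ B ⊓ A := by
    refine ⟨B.mul_mem hxB (B.inv_mem hy), ?_⟩
    rw [show x * y * x⁻¹ * y⁻¹ = x * (y * x⁻¹ * y⁻¹) by group]
    exact A.mul_mem hx (hBA y hy _ (A.inv_mem hx))
  rw [hint, Subgroup.mem_bot, mul_inv_eq_one, mul_inv_eq_iff_eq_mul] at h1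
  exact h1

end Cfsg.Agent.S1177
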