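import Cfsg.Statements.S1178


set_option autoImplicit false
open Cfsg

namespace Cfsg.Agent.S1178

/-- Let A be a subgroup of a Sylow 2-subgroup S of the finite group G which is weakly closed in S. If a conjugate g A g⁻¹ commutes elementwise with A, then g A g⁻¹ = A. -/
theorem result {G : Type*} [Group G] [Finite G] (S : Sylow 2 G) (A : Subgroup G) (hW : Cfsg.IsWeaklyClosed A (S : Subgroup G)) (g : G) (hc : ∀ a ∈ A, ∀ b ∈ A.map (MulAut.conj g).toMonoidHom, a * b = b * a) : A.map (MulAut.conj g).toMonoidHom = A := by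
  have : Fact (Nat.Prime 2) := ⟨Nat.prime_two⟩
  set B := A.map (MulAut.conj g).toMonoidHom with hB
  have hpA : IsPGroup 2 A := S.2.to_le hW.1
  have hpB : IsPGroup 2 B := hpA.map _
  have hnorm : A ≤ Subgroup.normalizer (B : Set G) := by
    intro a ha
    exact Subgroup.mem_normalizer_fintype fun b hb => by rw [hc a ha b hb, mul_inv_cancel_right]; exact hb
  obtain ⟨Q, hQ⟩ := (hpA.to_sup_of_normal_right' hpB hnorm).exists_le_sylow
  obtain ⟨c, hcQ⟩ := MulAction.exists_smul_eq G Q S
  have mem : ∀ x ∈ Q, c * x * c⁻¹ ∈ S := by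
    intro x hx
    rw [← hcQ, ← SetLike.mem_coe, Sylow.coe_smul]
    exact ⟨x, hx, rfl⟩
  have h1 := hW.2 c (by rintro _ ⟨a, ha, rfl⟩; exact mem a (hQ (Subgroup.mem_sup_left ha)))
  have hcomp : A.map (MulAut.conj (c * g)).toMonoidHom = B.map (MulAut.conj c).toMonoidHom := by
    rw [hB, Subgroup.map_map]; congr 1; ext x; simp [mul_assoc]
  have h2 := hW.2 (c * g) (by
    rw [hcomp]; rintro _ ⟨b, hb, rfl⟩; exact mem b (hQ (Subgroup.mem_sup_right hb)))
  rw [hcomp] at h2
  exact Subgroup.map_injective (MulAut.conj c).injective (h2.trans h1.symm)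

end Cfsg.Agent.S1178
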