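import Cfsg.Statements.S1189
import Cfsg.Agent.Lib.Involutions.QuasiDihedralSubgroups

set_option autoImplicit false
open Cfsg

namespace Cfsg.Agent.S1189

open Cfsg.Agent.Involutions.QuasiDihedral

theorem card_two_of_forms {α : Type*} {p : α → Prop} {a b : α} (hne : a ≠ b) (ha : p a) (hb : p b)
    (h : ∀ c, p c → c = a ∨ c = b) : Nat.card {c // p c} = 2 :=
  Nat.card_eq_two_iff.2 ⟨⟨a, ha⟩, ⟨b, hb⟩, fun e => hne (congrArg Subtype.val e),
    Set.eq_univ_of_forall fun c => by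
      rcases h c.1 c.2 with e | e
      · exact Or.inl (Subtype.ext e)
      · exact Or.inr (Subtype.ext e)⟩

/-- A quasi-dihedral 2-group has exactly two conjugacy classes of elements of order 2 and exactly two conjugacy classes of elements of order 4. -/
theorem result {S : Type*} [Group S] [Finite S] (hS : Cfsg.IsQuasiDihedral S) : Nat.card {C : ConjClasses S // ∃ t : S, orderOf t = 2 ∧ ConjClasses.mk t = C} = 2 ∧ Nat.card {C : ConjClasses S // ∃ t : S, orderOf t = 4 ∧ ConjClasses.mk t = C} = 2 := by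
  obtain ⟨D⟩ := exists_gens hS
  constructor
  · refine card_two_of_forms (a := ConjClasses.mk D.z) (b := ConjClasses.mk (D.q 0)) ?_
      ⟨D.z, D.orderOf_z, rfl⟩ ⟨D.q 0, D.orderOf_q_even ⟨0, by simp⟩, rfl⟩ ?_
    · intro e
      obtain ⟨s, hs⟩ := isConj_iff.1 (ConjClasses.mk_eq_mk_iff_isConj.1 e)
      rw [← (D.mem_center_z s).eq, mul_inv_cancel_right] at hs
      exact D.P_ne_q _ _ hs
    · rintro _ ⟨t, ht, rfl⟩
      rcases D.eq_of_orderOf_two ht with rfl | ⟨i, hi, rfl⟩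
      · exact Or.inl rfl
      · obtain ⟨k, hk⟩ := D.isConj_q (i := i) (j := 0) (by simpa using hi.neg)
        exact Or.inr (ConjClasses.mk_eq_mk_iff_isConj.2 (isConj_iff.2 ⟨_, hk⟩))
  · refine card_two_of_forms (a := ConjClasses.mk (D.P D.c)) (b := ConjClasses.mk (D.q 1)) ?_
      ⟨_, D.orderOf_P_c, rfl⟩ ⟨_, D.orderOf_q_odd D.not_even_one, rfl⟩ ?_
    · intro e
      obtain ⟨s, hs⟩ := isConj_iff.1 (ConjClasses.mk_eq_mk_iff_isConj.1 e)
      rcases D.conj_P_eq s D.c with h | h <;> exact D.P_ne_q _ _ (h.symm.trans hs)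
    · rintro _ ⟨t, ht, rfl⟩
      rcases D.eq_of_orderOf_four ht with rfl | rfl | ⟨i, hi, rfl⟩
      · exact Or.inl rfl
      · refine Or.inl (ConjClasses.mk_eq_mk_iff_isConj.2 (isConj_iff.2 ⟨D.q 0, ?_⟩))
        rw [D.conj_q_P, D.r_mul_even D.even_c.neg, neg_neg]
      · obtain ⟨k, hk⟩ := D.isConj_q (i := i) (j := 1) (by
          simpa using ((Cfsg.Agent.Involutions.QuasiDihedral.even_or_even_sub_one i).resolve_left hi).neg)
        exact Or.inr (ConjClasses.mk_eq_mk_iff_isConj.2 (isConj_iff.2 ⟨_, hk⟩))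

end Cfsg.Agent.S1189
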