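import Cfsg.Statements.S1190
import Cfsg.Agent.Lib.Involutions.QuasiDihedralSubgroups

set_option autoImplicit false
open Cfsg

namespace Cfsg.Agent.S1190

open Cfsg.Agent.Involutions.QuasiDihedral

/-- In a quasi-dihedral 2-group S, any two Klein four-subgroups are conjugate, and every Klein four-subgroup T satisfies C_S(T) = T and |N_S(T) : T| = 2. -/
theorem result {S : Type*} [Group S] [Finite S] (hS : Cfsg.IsQuasiDihedral S) : (∀ T₁ T₂ : Subgroup S, IsKleinFour T₁ → IsKleinFour T₂ → ∃ s : S, T₁.map (MulAut.conj s).toMonoidHom = T₂) ∧ (∀ T : Subgroup S, IsKleinFour T → Subgroup.centralizer (T : Set S) = T ∧ T.relIndex (Subgroup.normalizer (T : Set S)) = 2) := by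
  obtain ⟨D⟩ := exists_gens hS
  refine ⟨fun T₁ T₂ h₁ h₂ => ?_, fun T hT => ?_⟩
  · obtain ⟨k, hk⟩ := D.four_conj h₁ h₂
    exact ⟨_, hk⟩
  refine ⟨le_antisymm (fun s hs => D.mem_four_of_centralizer hT fun t ht =>
    (Subgroup.mem_centralizer_iff.1 hs t ht).symm) fun s hs => ?_, ?_⟩
  · refine Subgroup.mem_centralizer_iff.2 fun t ht => ?_
    haveI := hT; exact congrArg Subtype.val (mul_comm_of_exponent_two (IsKleinFour.exponent_two (G := T)) ⟨t, ht⟩ ⟨s, hs⟩)
  · obtain ⟨hn, hnot, hd⟩ := D.four_normalizer hT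
    rw [Subgroup.relIndex, Subgroup.index_eq_two_iff]
    refine ⟨⟨_, hn⟩, fun b => ?_⟩
    simp only [Subgroup.mem_subgroupOf, Subgroup.coe_mul]
    rcases hd b b.2 with h | h
    · exact Or.inr ⟨h, fun h' => hnot (by simpa using mul_mem (inv_mem h) h')⟩
    · exact Or.inl ⟨h, fun h' => hnot (by simpa using mul_mem (inv_mem h') h)⟩

end Cfsg.Agent.S1190
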