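import Cfsg.Statements.S1191
import Cfsg.Agent.Lib.Involutions.QuasiDihedralSubgroups

set_option autoImplicit false
open Cfsg

namespace Cfsg.Agent.S1191

open Cfsg.Agent.Involutions.QuasiDihedral

/-- In a quasi-dihedral 2-group S, any two subgroups isomorphic to the quaternion group of order 8 are conjugate, and each such subgroup Q satisfies C_S(Q) = Z(Q) and |N_S(Q) : Q| = 2. -/
theorem result {S : Type*} [Group S] [Finite S] (hS : Cfsg.IsQuasiDihedral S) : (∀ Q₁ Q₂ : Subgroup S, Nonempty (Q₁ ≃* QuaternionGroup 2) → Nonempty (Q₂ ≃* QuaternionGroup 2) → ∃ s : S, Q₁.map (MulAut.conj s).toMonoidHom = Q₂) ∧ (∀ Q : Subgroup S, Nonempty (Q ≃* QuaternionGroup 2) → Subgroup.centralizer (Q : Set S) = (Subgroup.center Q).map Q.subtype ∧ Q.relIndex (Subgroup.normalizer (Q : Set S)) = 2) := by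
  obtain ⟨D⟩ := exists_gens hS
  refine ⟨fun T₁ T₂ h₁ h₂ => ?_, fun Q ⟨e⟩ => ?_⟩
  · obtain ⟨e₁⟩ := h₁
    obtain ⟨e₂⟩ := h₂
    obtain ⟨k, hk⟩ := D.quaternion_conj e₁ e₂
    exact ⟨_, hk⟩
  refine ⟨le_antisymm (fun s hs => ?_) ?_, ?_⟩
  · have hsQ : ∀ t ∈ Q, Commute s t := fun t ht => (Subgroup.mem_centralizer_iff.1 hs t ht).symm
    have hmem : s ∈ Q := by
      obtain ⟨j, -, hQ⟩ := D.quaternion_forms e
      rcases D.quaternion_centralizer e hsQ with rfl | rfl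
      · exact one_mem Q
      · exact (hQ _).2 ⟨D.h, by linear_combination 2 * D.h_add_h, Or.inl rfl⟩
    exact ⟨⟨s, hmem⟩, Subgroup.mem_center_iff.2 fun t => Subtype.ext (hsQ t t.2).symm.eq, rfl⟩
  · rintro _ ⟨s, hs, rfl⟩
    exact Subgroup.mem_centralizer_iff.2 fun t ht =>
      congrArg Subtype.val (Subgroup.mem_center_iff.1 hs ⟨t, ht⟩)
  · obtain ⟨hn, hnot, hd, -⟩ := D.quaternion_normalizer e
    rw [Subgroup.relIndex, Subgroup.index_eq_two_iff]
    refine ⟨⟨_, hn⟩, fun b => ?_⟩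
    simp only [Subgroup.mem_subgroupOf, Subgroup.coe_mul]
    rcases hd b b.2 with h | h
    · exact Or.inr ⟨h, fun h' => hnot (by simpa using mul_mem (inv_mem h) h')⟩
    · exact Or.inl ⟨h, fun h' => hnot (by simpa using mul_mem (inv_mem h') h)⟩

end Cfsg.Agent.S1191
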