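import Cfsg.Statements.S1192
import Cfsg.Agent.Lib.Involutions.QuasiDihedralSubgroups

set_option autoImplicit false
open Cfsg

namespace Cfsg.Agent.S1192

open Cfsg.Agent.Involutions.QuasiDihedral

/-- A quasi-dihedral group S of order 2^(n+1) has exactly three maximal subgroups; one is cyclic, one is isomorphic to the generalized quaternion group of order 2^n and one to the dihedral group of order 2^n. -/
theorem result {S : Type*} [Group S] [Finite S] (hS : Cfsg.IsQuasiDihedral S) (n : ℕ) (hn : Nat.card S = 2 ^ (n + 1)) : ∃ M₁ M₂ M₃ : Subgroup S, IsCoatom M₁ ∧ IsCoatom M₂ ∧ IsCoatom M₃ ∧ M₁ ≠ M₂ ∧ M₁ ≠ M₃ ∧ M₂ ≠ M₃ ∧ (∀ M : Subgroup S, IsCoatom M → M = M₁ ∨ M = M₂ ∨ M = M₃) ∧ IsCyclic M₁ ∧ Nonempty (M₂ ≃* QuaternionGroup (2 ^ (n - 2))) ∧ Nonempty (M₃ ≃* DihedralGroup (2 ^ (n - 1))) := by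
  obtain ⟨D⟩ := exists_gens hS
  have hDn : n = D.n := by
    have := Nat.pow_right_injective le_rfl (hn.symm.trans D.hcard)
    omega
  subst hDn
  refine ⟨Subgroup.zpowers D.x, D.half 1, D.half 0, D.isCoatom_zpowers, D.isCoatom_half 1,
    D.isCoatom_half 0, D.zpowers_ne_half 1, D.zpowers_ne_half 0, D.half_zero_ne_one.symm,
    fun M hM => D.eq_of_isCoatom hM, inferInstance, D.half_one_equiv, D.half_zero_equiv⟩

end Cfsg.Agent.S1192
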