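import Cfsg.Statements.S1195
import Cfsg.Agent.Lib.Involutions.WreathedSubgroups

set_option autoImplicit false
open Cfsg

namespace Cfsg.Agent.S1195

open Cfsg.Agent.Involutions.Wreathed

theorem card_three_of_forms {α : Type*} {p : α → Prop} {a b c : α}
    (hab : a ≠ b) (hac : a ≠ c) (hbc : b ≠ c) (ha : p a) (hb : p b) (hc : p c)
    (h : ∀ d, p d → d = a ∨ d = b ∨ d = c) : Nat.card {d // p d} = 3 := by
  rw [show Nat.card {d // p d} = Nat.card ({a, b, c} : Set α) from Nat.card_congr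
    (Equiv.subtypeEquivRight fun d => ⟨h d, by rintro (rfl | rfl | rfl) <;> assumption⟩),
    Nat.card_coe_set_eq, Set.ncard_eq_three]
  exact ⟨a, b, c, hab, hac, hbc, rfl⟩

/-- A wreathed 2-group has exactly three conjugacy classes of elements of order 2. -/
theorem result {S : Type*} [Group S] [Finite S] (hS : Cfsg.IsWreathed S) : Nat.card {C : ConjClasses S // ∃ t : S, orderOf t = 2 ∧ ConjClasses.mk t = C} = 3 := by
  obtain ⟨D⟩ := exists_gens hS
  have hh : ∀ i : ZMod (2 ^ D.n), (i = 0 ∨ i = D.h) → i + i = 0 := fun i => D.add_self.2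
  refine card_three_of_forms (a := ConjClasses.mk (D.U D.h D.h)) (b := ConjClasses.mk (D.U D.h 0))
    (c := ConjClasses.mk (D.w 0 0)) ?_ ?_ ?_
    ⟨_, D.orderOf_U_two ⟨D.h_add_h, D.h_add_h⟩ fun e => D.h_ne_zero e.1, rfl⟩
    ⟨_, D.orderOf_U_two ⟨D.h_add_h, add_zero 0⟩ fun e => D.h_ne_zero e.1, rfl⟩
    ⟨_, by simpa using D.orderOf_w_neg 0, rfl⟩ ?_
  · intro e
    obtain ⟨s, hs⟩ := isConj_iff.1 (ConjClasses.mk_eq_mk_iff_isConj.1 e)
    rw [← (D.U_diag_central D.h s).eq, mul_inv_cancel_right, D.U_inj] at hs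
    exact D.h_ne_zero hs.2
  · intro e
    obtain ⟨s, hs⟩ := isConj_iff.1 (ConjClasses.mk_eq_mk_iff_isConj.1 e)
    rw [← (D.U_diag_central D.h s).eq, mul_inv_cancel_right] at hs
    exact D.U_ne_w _ _ _ _ hs
  · intro e
    obtain ⟨s, hs⟩ := isConj_iff.1 (ConjClasses.mk_eq_mk_iff_isConj.1 e)
    rcases D.forms s with ⟨i, j, rfl⟩ | ⟨i, j, rfl⟩
    · rw [D.conj_U_U] at hs; exact D.U_ne_w _ _ _ _ hs
    · rw [D.conj_w_U] at hs; exact D.U_ne_w _ _ _ _ hs
  · rintro _ ⟨t, ht, rfl⟩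
    rcases D.mul_self_eq_one (by rw [← sq, ← ht, pow_orderOf_eq_one]) with
      ⟨i, j, hi, hj, rfl⟩ | ⟨i, rfl⟩
    · rcases hi with rfl | rfl <;> rcases hj with rfl | rfl
      · rw [D.U_zero, orderOf_one] at ht; omega
      · exact Or.inr (Or.inl (ConjClasses.mk_eq_mk_iff_isConj.2
          (isConj_iff.2 ⟨D.w 0 0, D.conj_w_U _ _ _ _⟩)))
      · exact Or.inr (Or.inl rfl)
      · exact Or.inl rfl
    · exact Or.inr (Or.inr (ConjClasses.mk_eq_mk_iff_isConj.2 (isConj_iff.2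
        ⟨D.U i 0, D.conj_to_w_zero i (-i) (add_neg_cancel i)⟩).symm))

end Cfsg.Agent.S1195
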