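import Cfsg.Statements.S1196
import Cfsg.Agent.Lib.Involutions.WreathedSubgroups

set_option autoImplicit false
open Cfsg

namespace Cfsg.Agent.S1196

open Cfsg.Agent.Involutions.Wreathed

/-- A wreathed 2-group S of order 2^(2n+1) has a unique commutative subgroup of order 2^(2n), and this subgroup is isomorphic to the direct product of two cyclic groups of order 2^n. -/
theorem result {S : Type*} [Group S] [Finite S] (hS : Cfsg.IsWreathed S) (n : ℕ) (hn : Nat.card S = 2 ^ (2 * n + 1)) : (∃! U : Subgroup S, IsMulCommutative U ∧ Nat.card U = 2 ^ (2 * n)) ∧ ∀ U : Subgroup S, IsMulCommutative U → Nat.card U = 2 ^ (2 * n) → Nonempty (U ≃* Multiplicative (ZMod (2 ^ n) × ZMod (2 ^ n))) := by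
  obtain ⟨D⟩ := exists_gens hS
  have hDn : n = D.n := by
    have := Nat.pow_right_injective le_rfl (hn.symm.trans D.hcard)
    omega
  subst hDn
  refine ⟨⟨D.base, ⟨D.base_isMulCommutative, D.card_base⟩, fun V hV => D.eq_base hV.1 hV.2⟩,
    fun V hV hc => ?_⟩
  rw [D.eq_base hV hc]
  exact ⟨D.baseEquiv.symm⟩

end Cfsg.Agent.S1196
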