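import Cfsg.Statements.S1198
import Cfsg.Agent.Lib.Involutions.WreathedSubgroups

set_option autoImplicit false
open Cfsg

namespace Cfsg.Agent.S1198

open Cfsg.Agent.Involutions.Wreathed

/-- A wreathed 2-group S has a normal Klein four-subgroup T such that every Klein four-subgroup of S other than T is conjugate in S to any other such subgroup; in particular S has exactly two conjugacy classes of Klein four-subgroups. -/
theorem result {S : Type*} [Group S] [Finite S] (hS : Cfsg.IsWreathed S) : ∃ T : Subgroup S, IsKleinFour T ∧ T.Normal ∧ (∃ T₀ : Subgroup S, IsKleinFour T₀ ∧ T₀ ≠ T) ∧ ∀ T₁ T₂ : Subgroup S, IsKleinFour T₁ → IsKleinFour T₂ → T₁ ≠ T → T₂ ≠ T → ∃ s : S, T₁.map (MulAut.conj s).toMonoidHom = T₂ := by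
  obtain ⟨D⟩ := exists_gens hS
  exact ⟨D.omega, D.omega_kleinFour, D.omega_normal, D.exists_four_ne_omega,
    fun T₁ T₂ h₁ h₂ n₁ n₂ => D.four_conj h₁ h₂ n₁ n₂⟩

end Cfsg.Agent.S1198
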