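import Cfsg.Statements.S1199
import Cfsg.Agent.Lib.Involutions.WreathedSubgroups

set_option autoImplicit false
open Cfsg

namespace Cfsg.Agent.S1199

open Cfsg.Agent.Involutions.Wreathed

/-- A wreathed 2-group S of order 2^(2n+1) has exactly one subgroup of order 2^(n+1) isomorphic to a generalized quaternion group, and that subgroup is normal in S. -/
theorem result {S : Type*} [Group S] [Finite S] (hS : Cfsg.IsWreathed S) (n : ℕ) (hn : Nat.card S = 2 ^ (2 * n + 1)) : (∃! Y : Subgroup S, Nat.card Y = 2 ^ (n + 1) ∧ Nonempty (Y ≃* QuaternionGroup (2 ^ (n - 1)))) ∧ ∀ Y : Subgroup S, Nat.card Y = 2 ^ (n + 1) → Nonempty (Y ≃* QuaternionGroup (2 ^ (n - 1))) → Y.Normal := by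
  obtain ⟨D⟩ := exists_gens hS
  have hDn : n = D.n := by
    have := Nat.pow_right_injective le_rfl (hn.symm.trans D.hcard)
    omega
  subst hDn
  refine ⟨⟨D.quat, ⟨D.card_quat, D.quat_equiv⟩, fun Y hY => ?_⟩, fun Y hc ⟨e⟩ => ?_⟩
  · obtain ⟨hc, ⟨e⟩⟩ := hY
    exact D.eq_quat hc e
  · rw [D.eq_quat hc e]; exact D.quat_normal

end Cfsg.Agent.S1199
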