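import Cfsg.Statements.S1202
import Cfsg.Agent.Lib.Involutions.WreathedAut

set_option autoImplicit false
open Cfsg

namespace Cfsg.Agent.S1202

open Cfsg.Agent.Involutions.Wreathed

theorem shape_of {S : Type*} [Group S] (D : Gens S) {X : Subgroup S}
    (hC : Subgroup.centralizer (X : Set S) ≤ X) (hA : ¬ IsPGroup 2 (MulAut X))
    (hab : ¬ IsMulCommutative X) : ∃ i₀, D.IsShape X i₀ := by
  have := D.finite
  obtain ⟨σ, hne, ho⟩ := exists_odd_aut hA
  exact D.exists_shape hab ((Subgroup.center_le_centralizer _).trans hC) hne ho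

theorem eq_base_of {S : Type*} [Group S] (D : Gens S) {X : Subgroup S}
    (hC : Subgroup.centralizer (X : Set S) ≤ X) (hA : ¬ IsPGroup 2 (MulAut X))
    (hab : IsMulCommutative X) : X = D.base := by
  have := D.finite
  obtain ⟨σ, hne, ho⟩ := exists_odd_aut hA
  by_cases hle : X ≤ D.base
  · refine le_antisymm hle fun s hs => hC (Subgroup.mem_centralizer_iff.2 fun t ht => ?_)
    exact congrArg Subtype.val (D.base_isMulCommutative.is_comm.comm ⟨t, hle ht⟩ ⟨s, hs⟩)
  · obtain ⟨v, hv, hvb⟩ := SetLike.not_le_iff_exists.1 hle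
    obtain ⟨i, j, rfl⟩ : ∃ i j, v = D.w i j := (D.forms v).resolve_left hvb
    exact absurd (D.abelian_aut hab ((Subgroup.center_le_centralizer _).trans hC) hv ho) hne

/-- Let S be a wreathed 2-group of order 2^(2n+1) and X a subgroup with C_S(X) ≤ X such that Aut(X) is not a 2-group. Then |N_S(X) : X| = 2, and either X is the commutative subgroup of order 2^(2n), or X = Q·Z(S) for some subgroup Q ≅ Q₈; in the latter case any two such subgroups are conjugate in S. -/
theorem result {S : Type*} [Group S] [Finite S] (hS : Cfsg.IsWreathed S) (n : ℕ) (hn : Nat.card S = 2 ^ (2 * n + 1)) (X : Subgroup S) (hC : Subgroup.centralizer (X : Set S) ≤ X) (hA : ¬ IsPGroup 2 (MulAut X)) : X.relIndex (Subgroup.normalizer (X : Set S)) = 2 ∧ ((IsMulCommutative X ∧ Nat.card X = 2 ^ (2 * n)) ∨ ∃ Q : Subgroup S, Nonempty (Q ≃* QuaternionGroup 2) ∧ X = Q ⊔ Subgroup.center S) ∧ ∀ X' : Subgroup S, Subgroup.centralizer (X' : Set S) ≤ X' → ¬ IsPGroup 2 (MulAut X') → ¬ IsMulCommutative X → ¬ IsMulCommutative X'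 → ∃ s : S, X.map (MulAut.conj s).toMonoidHom = X' := by
  obtain ⟨D⟩ := exists_gens hS
  have hDn : n = D.n := by
    have := Nat.pow_right_injective le_rfl (hn.symm.trans D.hcard)
    omega
  subst hDn
  refine ⟨?_, ?_, fun X' hC' hA' hab hab' => ?_⟩
  · by_cases hab : IsMulCommutative X
    · rw [eq_base_of D hC hA hab]
      have : D.base.Normal := Subgroup.normal_of_index_eq_two D.index_base
      rw [Subgroup.normalizer_eq_top, Subgroup.relIndex_top_right, D.index_base]
    · obtain ⟨i₀, h⟩ := shape_of D hC hA hab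
      exact D.shape_relIndex h
  · by_cases hab : IsMulCommutative X
    · exact Or.inl ⟨hab, by rw [eq_base_of D hC hA hab, D.card_base]⟩
    · obtain ⟨i₀, h⟩ := shape_of D hC hA hab
      exact Or.inr (D.shape_quaternion h)
  · obtain ⟨i₀, h⟩ := shape_of D hC hA hab
    obtain ⟨i₁, h'⟩ := shape_of D hC' hA' hab'
    exact D.shape_conj h h'

end Cfsg.Agent.S1202
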