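import Cfsg.Statements.S1204
import Cfsg.Agent.Lib.Involutions.QuasiDihedralClasses

set_option autoImplicit false
open Cfsg

namespace Cfsg.Agent.S1204

open Cfsg.Agent.Involutions.QuasiDihedral Cfsg.Agent.Involutions.QuasiDihedralClasses

/-- Let G be a finite group with quasi-dihedral Sylow 2-subgroup S, T a Klein four-subgroup and Q a quaternion subgroup of order 8 of S, with |N_G(T) : C_G(T)| = 6 and |N_G(Q) : Q C_G(Q)| = 6. Then G has no subgroup of index 2, exactly one conjugacy class of involutions and exactly one conjugacy class of elements of order 4. -/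
theorem result {G : Type*} [Group G] [Finite G] (S : Sylow 2 G) (hS : Cfsg.IsQuasiDihedral (S : Subgroup G)) (T : Subgroup G) (hT : IsKleinFour T) (hTS : T ≤ S) (Q : Subgroup G) (hQS : Q ≤ S) (eQ : Q ≃* QuaternionGroup 2) (h₁ : (Subgroup.centralizer (T : Set G)).relIndex (Subgroup.normalizer (T : Set G)) = 6) (h₂ : (Q ⊔ Subgroup.centralizer (Q : Set G)).relIndex (Subgroup.normalizer (Q : Set G)) = 6) : (∀ H : Subgroup G, H.index ≠ 2) ∧ Nat.card {C : ConjClasses G // ∃ t : G, orderOf t = 2 ∧ ConjClasses.mk t = C} = 1 ∧ Nat.card {C : ConjClasses G // ∃ t : G, orderOf t = 4 ∧ ConjClasses.mk t = C} = 1 := by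
  obtain ⟨D⟩ := exists_gens hS
  have hT6 := TMoves_of_six D hT hTS h₁
  have hQ6 := QMoves_of_six D hQS eQ h₂
  obtain ⟨o1, -, o3, -⟩ := orderOf_inv_reps D
  refine ⟨fun H hH => ?_, card_classes_one o1 fun t ht => isConj_inv_of_TMoves D hT hTS hT6 ht,
    card_classes_one o3 fun t ht => isConj_four_of_QMoves D hQS eQ hQ6 ht⟩
  have h2 : H.relIndex ⊤ = 2 := by rw [Subgroup.relIndex_top_right, hH]
  have hq : ∀ i : ZMod (2 ^ D.n), (D.q i : G) ∈ H := fun i => by
    by_cases hi : Even i
    · exact q_even_mem D hT hTS hT6 le_top h2 (fun _ _ => trivial) (fun _ _ => trivial) hi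
    · exact q_odd_mem D hQS eQ hQ6 le_top h2 (fun _ _ => trivial) (fun _ _ => trivial) hi
  have hle : (S : Subgroup G) ≤ H := fun s hs => by
    rcases D.forms ⟨s, hs⟩ with ⟨i, h⟩ | ⟨i, h⟩ <;> rw [show s = _ from congrArg Subtype.val h]
    · have : D.P i = D.q i * D.q 0 := by rw [D.q_mul_q, mul_zero, add_zero]
      rw [this, Subgroup.coe_mul]; exact mul_mem (hq i) (hq 0)
    · exact hq i
  have h3 := Subgroup.index_dvd_of_le hle
  rw [hH] at h3
  exact S.not_dvd_index h3

end Cfsg.Agent.S1204
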