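import Cfsg.Statements.S1205
import Cfsg.Agent.Lib.Involutions.QuasiDihedralClasses

set_option autoImplicit false
open Cfsg

namespace Cfsg.Agent.S1205

open Cfsg.Agent.Involutions.QuasiDihedral Cfsg.Agent.Involutions.QuasiDihedralClasses

/-- Let G be a finite group with quasi-dihedral Sylow 2-subgroup S, T a Klein four-subgroup and Q a quaternion subgroup of order 8 of S, with |N_G(T) : C_G(T)| = 2 and |N_G(Q) : Q C_G(Q)| = 6. Then G has a normal subgroup K of index 2 whose Sylow 2-subgroups are generalized quaternion and which has no subgroup of index 2; the centre of S is weakly closed in S; and G has exactly two classes of involutions and one class of elements of order 4. -/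
theorem result {G : Type*} [Group G] [Finite G] (S : Sylow 2 G) (hS : Cfsg.IsQuasiDihedral (S : Subgroup G)) (T : Subgroup G) (hT : IsKleinFour T) (hTS : T ≤ S) (Q : Subgroup G) (hQS : Q ≤ S) (eQ : Q ≃* QuaternionGroup 2) (h₁ : (Subgroup.centralizer (T : Set G)).relIndex (Subgroup.normalizer (T : Set G)) = 2) (h₂ : (Q ⊔ Subgroup.centralizer (Q : Set G)).relIndex (Subgroup.normalizer (Q : Set G)) = 6) : (∃ K : Subgroup G, K.Normal ∧ K.index = 2 ∧ (∀ P : Sylow 2 ↥K, ∃ m : ℕ, 1 ≤ m ∧ Nonempty ((P : Subgroup ↥K) ≃* QuaternionGroup (2 ^ m))) ∧ (∀ H : Subgroup ↥K, H.index ≠ 2)) ∧ Cfsg.IsWeaklyClosed ((Subgroup.center (S : Subgroup G)).map (S : Subgroup G).subtype) (S : Subgroup G) ∧ Nat.card {C : ConjClasses G // ∃ t : G, orderOf t = 2 ∧ ConjClasses.mk t = C} = 2 ∧ Nat.card {C : ConjClasses G // ∃ t : G, orderOf t = 4 ∧ ConjClasses.mk t = C} = 1 := by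
  obtain ⟨D⟩ := exists_gens hS
  have hT2 := TFix_of_two D hT hTS h₁
  have hQ6 := QMoves_of_six D hQS eQ h₂
  obtain ⟨o1, o2, o3, -⟩ := orderOf_inv_reps D
  obtain ⟨K, hKn, hK2, hKM⟩ := Cfsg.Agent.Involutions.ThreePoint.exists_index_two S (D.half 1) (D.index_half 1)
    fun a b ⟨g, hg⟩ => ⟨half_one_fus D hT2 (isConj_iff.2 ⟨g, hg⟩),
      half_one_fus D hT2 (isConj_iff.2 ⟨g, hg⟩).symm⟩
  refine ⟨⟨K, hKn, hK2, fun P => ?_, ?_⟩, ?_, ?_,
    card_classes_one o3 fun t ht => isConj_four_of_QMoves D hQS eQ hQ6 ht⟩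
  · obtain ⟨e⟩ := sylow_equiv (D.index_half 1) hK2 (fun s => (hKM s).2) P
    obtain ⟨e'⟩ := D.half_one_equiv
    exact ⟨D.n - 2, by have := D.hn; omega, ⟨e.trans e'⟩⟩
  · refine no_index_two (D.index_half 1) hK2 (fun s => (hKM s).2) fun H hHK h2 s hs => ?_
    have hodd : ∀ n : G, Odd (orderOf n) → n ∈ K := fun n hn =>
      mem_of_odd (K := ⊤) (by rw [Subgroup.relIndex_top_right, hK2]) trivial hn
    have hq : ∀ i : ZMod (2 ^ D.n), ¬ Even i → (D.q i : G) ∈ H := fun i hi =>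
      q_odd_mem D hQS eQ hQ6 hHK h2 hodd (fun s => (hKM s).2) hi
    rcases hs with ⟨i, hi, rfl⟩ | ⟨i, hi, rfl⟩
    · obtain ⟨k, hk⟩ : ∃ k, i = k + D.r * 1 := ⟨i - D.r, by ring⟩
      have hk1 : ¬ Even k := fun hk' => by
        have h5 : Even (D.r * 1) := by
          rw [show D.r * 1 = i - k by rw [hk]; ring]; exact hi.sub hk'
        exact D.not_even_one (D.even_r_mul_iff.1 h5)
      rw [hk, ← D.q_mul_q, Subgroup.coe_mul]
      exact mul_mem (hq k hk1) (hq 1 D.not_even_one)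
    · exact hq i fun h => D.not_even_one (by simpa using h.sub hi)
  · refine ⟨Subgroup.map_subtype_le _, fun g hg => ?_⟩
    have hmap : (Subgroup.center (S : Subgroup G)).map (S : Subgroup G).subtype =
        Subgroup.zpowers (D.z : G) := by
      rw [D.center_eq, MonoidHom.map_zpowers]; rfl
    rw [hmap, MonoidHom.map_zpowers] at hg ⊢
    have hgz : g * D.z * g⁻¹ ∈ (S : Subgroup G) := hg (Subgroup.mem_zpowers _)
    have ho : orderOf (⟨_, hgz⟩ : (S : Subgroup G)) = 2 := by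
      rw [← orderOf_eq_of_conj (a := D.z) (b := ⟨_, hgz⟩) (isConj_iff.2 ⟨g, rfl⟩), D.orderOf_z]
    rcases D.eq_of_orderOf_two ho with h | ⟨i, hi, h⟩
    · exact congrArg Subgroup.zpowers (congrArg Subtype.val h)
    · exact absurd (isConj_iff.2 ⟨g, congrArg Subtype.val h⟩).symm (hT2 i hi)
  · exact card_classes_two o1 o2 (fun h => hT2 0 ⟨0, by simp⟩ h.symm) fun t ht => inv_cases D ht

end Cfsg.Agent.S1205
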