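import Cfsg.Statements.S1206
import Cfsg.Agent.Lib.Involutions.QuasiDihedralClasses

set_option autoImplicit false
open Cfsg

namespace Cfsg.Agent.S1206

open Cfsg.Agent.Involutions.QuasiDihedral Cfsg.Agent.Involutions.QuasiDihedralClasses

/-- Let G be a finite group with quasi-dihedral Sylow 2-subgroup S, T a Klein four-subgroup and Q a quaternion subgroup of order 8 of S, with |N_G(T) : C_G(T)| = 6 and |N_G(Q) : Q C_G(Q)| = 2. Then G has a normal subgroup K of index 2 whose Sylow 2-subgroups are dihedral and which has no subgroup of index 2, and G has exactly one class of involutions and two classes of elements of order 4. -/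
theorem result {G : Type*} [Group G] [Finite G] (S : Sylow 2 G) (hS : Cfsg.IsQuasiDihedral (S : Subgroup G)) (T : Subgroup G) (hT : IsKleinFour T) (hTS : T ≤ S) (Q : Subgroup G) (hQS : Q ≤ S) (eQ : Q ≃* QuaternionGroup 2) (h₁ : (Subgroup.centralizer (T : Set G)).relIndex (Subgroup.normalizer (T : Set G)) = 6) (h₂ : (Q ⊔ Subgroup.centralizer (Q : Set G)).relIndex (Subgroup.normalizer (Q : Set G)) = 2) : (∃ K : Subgroup G, K.Normal ∧ K.index = 2 ∧ (∀ P : Sylow 2 ↥K, ∃ m : ℕ, Nonempty ((P : Subgroup ↥K) ≃* DihedralGroup m)) ∧ (∀ H : Subgroup ↥K, H.index ≠ 2)) ∧ Nat.card {C : ConjClasses G // ∃ t : G, orderOf t = 2 ∧ ConjClasses.mk t = C} = 1 ∧ Nat.card {C : ConjClasses G // ∃ t : G, orderOf t = 4 ∧ ConjClasses.mk t = C} = 2 := by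
  obtain ⟨D⟩ := exists_gens hS
  have hT6 := TMoves_of_six D hT hTS h₁
  have hQ2 := QFix_of_two D hQS eQ h₂
  obtain ⟨o1, -, o3, o4⟩ := orderOf_inv_reps D
  obtain ⟨K, hKn, hK2, hKM⟩ := Cfsg.Agent.Involutions.ThreePoint.exists_index_two S (D.half 0) (D.index_half 0)
    fun a b ⟨g, hg⟩ => ⟨half_zero_fus D hQ2 (isConj_iff.2 ⟨g, hg⟩),
      half_zero_fus D hQ2 (isConj_iff.2 ⟨g, hg⟩).symm⟩
  refine ⟨⟨K, hKn, hK2, fun P => ?_, ?_⟩,
    card_classes_one o1 fun t ht => isConj_inv_of_TMoves D hT hTS hT6 ht, ?_⟩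
  · obtain ⟨e⟩ := sylow_equiv (D.index_half 0) hK2 (fun s => (hKM s).2) P
    obtain ⟨e'⟩ := D.half_zero_equiv
    exact ⟨_, ⟨e.trans e'⟩⟩
  · refine no_index_two (D.index_half 0) hK2 (fun s => (hKM s).2) fun H hHK h2 s hs => ?_
    have hodd : ∀ n : G, Odd (orderOf n) → n ∈ K := fun n hn =>
      mem_of_odd (K := ⊤) (by rw [Subgroup.relIndex_top_right, hK2]) trivial hn
    have hK : ∀ j : ZMod (2 ^ D.n), Even j → (D.q j : G) ∈ K := fun j hj =>
      (hKM _).2 (D.q_mem_half.2 (by rwa [sub_zero]))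
    have hq : ∀ i : ZMod (2 ^ D.n), Even i → (D.q i : G) ∈ H := fun i hi =>
      q_even_mem D hT hTS hT6 hHK h2 hodd hK hi
    rcases hs with ⟨i, hi, rfl⟩ | ⟨i, hi, rfl⟩
    · have : D.P i = D.q i * D.q 0 := by rw [D.q_mul_q, mul_zero, add_zero]
      rw [this, Subgroup.coe_mul]
      exact mul_mem (hq i hi) (hq 0 ⟨0, by simp⟩)
    · exact hq i (by rwa [sub_zero] at hi)
  · exact card_classes_two o3 o4 (fun h => hQ2 1 D.not_even_one h.symm) fun t ht => four_cases D ht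

end Cfsg.Agent.S1206
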