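import Cfsg.Statements.S1207
import Cfsg.Agent.Lib.Involutions.QuasiDihedralClasses

set_option autoImplicit false
open Cfsg

namespace Cfsg.Agent.S1207

open Cfsg.Agent.Involutions.QuasiDihedral Cfsg.Agent.Involutions.QuasiDihedralClasses

/-- Let G be a finite group with quasi-dihedral Sylow 2-subgroup S, T a Klein four-subgroup and Q a quaternion subgroup of order 8 of S, with |N_G(T) : C_G(T)| = 2 and |N_G(Q) : Q C_G(Q)| = 2. Then G has a normal 2-complement, exactly two classes of involutions and exactly two classes of elements of order 4. -/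
theorem result {G : Type*} [Group G] [Finite G] (S : Sylow 2 G) (hS : Cfsg.IsQuasiDihedral (S : Subgroup G)) (T : Subgroup G) (hT : IsKleinFour T) (hTS : T ≤ S) (Q : Subgroup G) (hQS : Q ≤ S) (eQ : Q ≃* QuaternionGroup 2) (h₁ : (Subgroup.centralizer (T : Set G)).relIndex (Subgroup.normalizer (T : Set G)) = 2) (h₂ : (Q ⊔ Subgroup.centralizer (Q : Set G)).relIndex (Subgroup.normalizer (Q : Set G)) = 2) : Cfsg.HasNormalPComplement 2 G ∧ Nat.card {C : ConjClasses G // ∃ t : G, orderOf t = 2 ∧ ConjClasses.mk t = C} = 2 ∧ Nat.card {C : ConjClasses G // ∃ t : G, orderOf t = 4 ∧ ConjClasses.mk t = C} = 2 := by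
  obtain ⟨D⟩ := exists_gens hS
  have hT2 := TFix_of_two D hT hTS h₁
  have hQ2 := QFix_of_two D hQS eQ h₂
  obtain ⟨o1, o2, o3, o4⟩ := orderOf_inv_reps D
  refine ⟨?_, card_classes_two o1 o2 (fun h => hT2 0 ⟨0, by simp⟩ h.symm) fun t ht => inv_cases D ht,
    card_classes_two o3 o4 (fun h => hQ2 1 D.not_even_one h.symm) fun t ht => four_cases D ht⟩
  obtain ⟨K, hKn, hK2, hKM⟩ := Cfsg.Agent.Involutions.ThreePoint.exists_index_two S (Subgroup.zpowers D.x) D.index_zpowers
    fun a b ⟨g, hg⟩ => ⟨zpowers_fus D hT2 hQ2 (isConj_iff.2 ⟨g, hg⟩),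
      zpowers_fus D hT2 hQ2 (isConj_iff.2 ⟨g, hg⟩).symm⟩
  obtain ⟨P⟩ := (inferInstance : Nonempty (Sylow 2 K))
  obtain ⟨e⟩ := sylow_equiv D.index_zpowers hK2 (fun s => (hKM s).2) P
  have hcyc : IsCyclic (P : Subgroup K) := isCyclic_of_surjective e.symm e.symm.surjective
  have hmin : (Nat.card K).minFac = 2 := by
    rw [Nat.minFac_eq_two_iff]
    have h1 : Nat.card (P : Subgroup K) = 2 ^ D.n := by
      rw [Nat.card_congr e.toEquiv, Nat.card_zpowers, D.hx]
    refine Dvd.dvd.trans ?_ (Subgroup.card_subgroup_dvd_card (P : Subgroup K))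
    rw [h1]; exact dvd_pow_self 2 (by have := D.hn; omega)
  refine Cfsg.Agent.Transfer.NormalPComplement.hasNormalPComplement_of_normal_index (N := K)
    ⟨P, _, MonoidHom.normal_ker _, hcyc.isComplement' hmin⟩ (k := 1) (by rw [pow_one, hK2])

end Cfsg.Agent.S1207
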