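import Cfsg.Statements.S1226
import Cfsg.Agent.Lib.Involutions.StronglyEmbedded
import Cfsg.Agent.Lib.Involutions.TwoGroups

set_option autoImplicit false
open Cfsg

namespace Cfsg.Agent.S1226

/-- Let G be a finite group with a Sylow 2-subgroup T that is neither cyclic nor normal, such that the centralizer of every involution is an elementary abelian 2-group. Then N_G(T) is a strongly embedded subgroup of G. -/
theorem result {G : Type*} [Group G] [Finite G] (T : Sylow 2 G) (hnc : ¬ IsCyclic (T : Subgroup G)) (hnn : ¬ (T : Subgroup G).Normal) (hC : ∀ t : G, orderOf t = 2 → IsMulCommutative (Subgroup.centralizer ({t} : Set G)) ∧ ∀ c ∈ Subgroup.centralizer ({t} : Set G), c ^ 2 = 1) : Cfsg.IsStronglyEmbedded (Subgroup.normalizer ((T : Subgroup G) : Set G)) := by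
  have : Fact (Nat.Prime 2) := ⟨Nat.prime_two⟩
  have hTne : (T : Subgroup G) ≠ ⊥ := fun e => hnn (e ▸ inferInstance)
  have : Nontrivial (T : Subgroup G) := (Subgroup.nontrivial_iff_ne_bot _).mpr hTne
  obtain ⟨z, hz, hzc⟩ := Involutions.TwoGroups.exists_central_involution T.2
  have hz' : orderOf (z : G) = 2 := by rw [Subgroup.orderOf_coe, hz]
  have hTz : (T : Subgroup G) ≤ Subgroup.centralizer ({(z : G)} : Set G) := fun u hu =>
    Subgroup.mem_centralizer_singleton_iff.mpr (congrArg Subtype.val (hzc ⟨u, hu⟩))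
  have hab : ∀ a ∈ (T : Subgroup G), ∀ b ∈ (T : Subgroup G), a * b = b * a := fun a ha b hb => by
    have := (hC _ hz').1
    exact congrArg Subtype.val (mul_comm' (⟨a, hTz ha⟩ : Subgroup.centralizer ({(z : G)} : Set G))
      ⟨b, hTz hb⟩)
  -- involution centralizers inside `T` are `T`
  have hcent : ∀ t ∈ (T : Subgroup G), orderOf t = 2 →
      Subgroup.centralizer ({t} : Set G) = (T : Subgroup G) := by
    intro t ht ht2
    refine T.3 (fun c => ⟨1, Subtype.ext ((hC t ht2).2 c c.2)⟩) fun u hu => ?_
    exact Subgroup.mem_centralizer_singleton_iff.mpr (hab u hu t ht)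
  refine Involutions.StronglyEmbedded.of_conj (fun e => hnn ?_) ?_ fun t ht ht2 g hg => ?_
  · exact Subgroup.normalizer_eq_top_iff.mp e
  · refine even_iff_two_dvd.mpr ?_
    have h := orderOf_dvd_natCard (⟨(z : G), Subgroup.le_normalizer z.2⟩ :
      Subgroup.normalizer ((T : Subgroup G) : Set G))
    rwa [Subgroup.orderOf_mk, hz'] at h
  · have inT : ∀ x ∈ Subgroup.normalizer ((T : Subgroup G) : Set G), orderOf x = 2 →
        x ∈ (T : Subgroup G) := by
      intro x hx hx2
      have hp : IsPGroup 2 (Subgroup.zpowers x) :=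
        IsPGroup.of_card (n := 1) (by rw [Nat.card_zpowers, hx2, pow_one])
      rw [← T.3 (hp.to_sup_of_normal_right' T.2 (Subgroup.zpowers_le.mpr hx)) le_sup_right]
      exact Subgroup.mem_sup_left (Subgroup.mem_zpowers x)
    have htT := inT t ht ht2
    have hsT := inT _ hg (by rw [Involutions.Basic.orderOf_conj, ht2])
    rw [Subgroup.mem_normalizer_iff_map_conj_eq]
    show (T : Subgroup G).map (MulAut.conj g).toMonoidHom = T
    refine Subgroup.eq_of_le_of_card_ge ?_ (le_of_eq
      (Nat.card_congr ((T : Subgroup G).equivMapOfInjective _ (MulAut.conj g).injective).toEquiv))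
    rintro _ ⟨u, hu, rfl⟩
    rw [← hcent _ hsT (by rw [Involutions.Basic.orderOf_conj, ht2]), Subgroup.mem_centralizer_singleton_iff]
    show g * u * g⁻¹ * (g * t * g⁻¹) = g * t * g⁻¹ * (g * u * g⁻¹)
    rw [show g * u * g⁻¹ * (g * t * g⁻¹) = g * (u * t) * g⁻¹ by group, hab u hu t htT]
    group

end Cfsg.Agent.S1226
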