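import Cfsg.Statements.S1228
import Cfsg.Agent.Lib.Involutions.ElementaryCentralizers

set_option autoImplicit false
open Cfsg

namespace Cfsg.Agent.S1228

open Cfsg.Agent.Involutions.ElementaryCentralizers
open Cfsg.Agent.Involutions.Basic (inv_eq inv_sq_one)

/-- Let G be a finite group with a Sylow 2-subgroup T that is neither cyclic nor normal, such that the centralizer of every involution is an elementary abelian 2-group; put H = N_G(T), let u be an involution outside H and D = H ∩ uHu⁻¹. Then N_G(D) = D ⊔ ⟨u⟩, and a coset gH is fixed by every element of D exactly when gH = H or gH = uH. -/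
theorem result {G : Type*} [Group G] [Finite G] (T : Sylow 2 G) (hnc : ¬ IsCyclic (T : Subgroup G)) (hnn : ¬ (T : Subgroup G).Normal) (hC : ∀ t : G, orderOf t = 2 → IsMulCommutative (Subgroup.centralizer ({t} : Set G)) ∧ ∀ c ∈ Subgroup.centralizer ({t} : Set G), c ^ 2 = 1) (u : G) (hu : orderOf u = 2) (huH : u ∉ Subgroup.normalizer ((T : Subgroup G) : Set G)) : Subgroup.normalizer ((Subgroup.normalizer ((T : Subgroup G) : Set G) ⊓ (Subgroup.normalizer ((T : Subgroup G) : Set G)).map (MulAut.conj u).toMonoidHom : Subgroup G) : Set G) = (Subgroup.normalizer ((T : Subgroup G) : Set G) ⊓ (Subgroup.normalizer ((T : Subgroup G) : Set G)).map (MulAut.conj u).toMonoidHom) ⊔ Subgroup.zpowers u ∧ ∀ g : G, ((∀ d ∈ Subgroup.normalizer ((T : Subgroup G) : Set G) ⊓ (Subgroup.normalizer ((T : Subgroup G) : Set G)).map (MulAut.conj u).toMonoidHom, d • (QuotientGroup.mk g : G ⧸ Subgroup.normalizer ((T : Subgroup G) : Set G)) = QuotientGroup.mk g) ↔ (QuotientGroup.mk g : G ⧸ Subgroup.normalizer ((T : Subgroup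 G) : Set G)) = QuotientGroup.mk 1 ∨ (QuotientGroup.mk g : G ⧸ Subgroup.normalizer ((T : Subgroup G) : Set G)) = QuotientGroup.mk u) := by
  have h : Hyp T := ⟨hnc, hnn, hC⟩
  have hne : o T ≠ u • o T := fun e => huH (smul_o.1 e.symm)
  have hD := two_eq_inter (T := T) (u := u)
  rw [show Subgroup.normalizer ((T : Subgroup G) : Set G) = nH T from rfl] at *
  rw [hD]
  set D := two (o T) (u • o T) with hDdef
  have huo : u • o T = ((u : G) : G ⧸ nH T) := by
    show ((u * 1 : G) : G ⧸ nH T) = _
    rw [mul_one]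
  obtain ⟨d₀, hd₀, hd₀1⟩ : ∃ d ∈ D, d ≠ 1 := by
    by_contra hall
    push Not at hall
    have h1 : D = ⊥ := (Subgroup.eq_bot_iff_forall _).2 hall
    have := h.card_two hne
    have := h.four_le_card
    rw [← hDdef, h1, Subgroup.card_bot] at *
    omega
  have hfix : ∀ x : G ⧸ nH T, (∀ d ∈ D, d • x = x) ↔ x = o T ∨ x = u • o T := by
    intro x
    refine ⟨fun hx => h.fixed_two hne hd₀ hd₀1 (hx d₀ hd₀), ?_⟩
    rintro (rfl | rfl) d hd
    exacts [hd.1, hd.2]
  refine ⟨le_antisymm (fun g hg => ?_) (sup_le Subgroup.le_normalizer ?_), fun g => ?_⟩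
  · have hperm : ∀ x : G ⧸ nH T, (∀ d ∈ D, d • x = x) → ∀ d ∈ D, d • (g • x) = g • x := by
      intro x hx d hd
      have h1 : g⁻¹ * d * g ∈ D := by
        have := (Subgroup.mem_normalizer_iff.1 (inv_mem hg) d).1 hd
        rwa [inv_inv] at this
      have h2 := hx _ h1
      rwa [mul_smul, mul_smul, inv_smul_eq_iff] at h2
    have ho := (hfix _).1 (hperm _ ((hfix _).2 (Or.inl rfl)))
    have hu' := (hfix _).1 (hperm _ ((hfix _).2 (Or.inr rfl)))
    rcases ho with e | e
    · refine Subgroup.mem_sup_left (mem_two.2 ⟨e, hu'.resolve_left fun e' => hne ?_⟩)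
      exact MulAction.injective g (e.trans e'.symm)
    · have e' : g • (u • o T) = o T := hu'.resolve_right fun e' =>
        hne (MulAction.injective g (e.trans e'.symm))
      have h1 : u * g ∈ D := mem_two.2
        ⟨by rw [mul_smul, e, smul_smul, inv_sq_one hu, one_smul], by rw [mul_smul, e']⟩
      rw [show g = u * (u * g) by rw [← mul_assoc, inv_sq_one hu, one_mul]]
      exact mul_mem (Subgroup.mem_sup_right (Subgroup.mem_zpowers u)) (Subgroup.mem_sup_left h1)
  · have hc : ∀ d ∈ D, u * d * u⁻¹ ∈ D := fun d hd => by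
      rw [h.swap_inverts hne hu rfl hd]; exact inv_mem hd
    refine Subgroup.zpowers_le.2 (Subgroup.mem_normalizer_iff.2 fun d => ⟨hc d, fun hd => ?_⟩)
    have h1 := hc _ hd
    rw [inv_eq hu] at h1
    rwa [show u * (u * d * u) * u = (u * u) * d * (u * u) by group, inv_sq_one hu, one_mul,
      mul_one] at h1
  · rw [hfix, huo]
    rfl

end Cfsg.Agent.S1228
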