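import Cfsg.Statements.S1229
import Cfsg.Agent.Lib.Involutions.ElementaryCentralizers

set_option autoImplicit false
open Cfsg

namespace Cfsg.Agent.S1229

open Cfsg.Agent.Involutions.ElementaryCentralizers

/-- Let G be a finite group with a Sylow 2-subgroup T that is neither cyclic nor normal, such that the centralizer of every involution is an elementary abelian 2-group; put H = N_G(T) and X = G/H. Then G is triply transitive on X, an element fixing three distinct points of X is the identity, and T acts regularly on X minus the point H. -/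
theorem result {G : Type*} [Group G] [Finite G] (T : Sylow 2 G) (hnc : ¬ IsCyclic (T : Subgroup G)) (hnn : ¬ (T : Subgroup G).Normal) (hC : ∀ t : G, orderOf t = 2 → IsMulCommutative (Subgroup.centralizer ({t} : Set G)) ∧ ∀ c ∈ Subgroup.centralizer ({t} : Set G), c ^ 2 = 1) : (∀ x₁ x₂ x₃ y₁ y₂ y₃ : G ⧸ Subgroup.normalizer ((T : Subgroup G) : Set G), x₁ ≠ x₂ → x₁ ≠ x₃ → x₂ ≠ x₃ → y₁ ≠ y₂ → y₁ ≠ y₃ → y₂ ≠ y₃ → ∃ g : G, g • x₁ = y₁ ∧ g • x₂ = y₂ ∧ g • x₃ = y₃) ∧ (∀ g : G, ∀ x₁ x₂ x₃ : G ⧸ Subgroup.normalizer ((T : Subgroup G) : Set G), x₁ ≠ x₂ → x₁ ≠ x₃ → x₂ ≠ x₃ → g • x₁ = x₁ → g • x₂ = x₂ → g • x₃ = x₃ → g = 1) ∧ (∀ x y : G ⧸ Subgroup.normalizer ((T : Subgroup G) : Set G), x ≠ QuotientGroup.mk 1 → y ≠ QuotientGroup.mk 1 → ∃! t : G, t ∈ T ∧ t • x = y) := by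
  have h : Hyp T := ⟨hnc, hnn, hC⟩
  rw [show Subgroup.normalizer ((T : Subgroup G) : Set G) = nH T from rfl] at *
  have hthree : ∀ g : G, ∀ x₁ x₂ x₃ : G ⧸ nH T, x₁ ≠ x₂ → x₁ ≠ x₃ → x₂ ≠ x₃ →
      g • x₁ = x₁ → g • x₂ = x₂ → g • x₃ = x₃ → g = 1 := by
    intro g x₁ x₂ x₃ h12 h13 h23 e1 e2 e3
    by_contra hg
    rcases h.fixed_two h12 (mem_two.2 ⟨e1, e2⟩) hg e3 with e | e
    exacts [h13 e.symm, h23 e.symm]
  have hn := h.card_points
  have hq := h.four_le_card
  refine ⟨?_, hthree, ?_⟩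
  · classical
    have := Fintype.ofFinite G
    have := Fintype.ofFinite (G ⧸ nH T)
    intro x₁ x₂ x₃ y₁ y₂ y₃ hx12 hx13 hx23 hy12 hy13 hy23
    have mk3 : ∀ a b c : G ⧸ nH T, a ≠ b → a ≠ c → b ≠ c →
        ∃ f : Fin 3 ↪ G ⧸ nH T, f 0 = a ∧ f 1 = b ∧ f 2 = c := fun a b c hab hac hbc =>
      ⟨⟨![a, b, c], fun i j => by
        fin_cases i <;> fin_cases j <;> simp [hab, hac, hbc, hab.symm, hac.symm, hbc.symm]⟩,
        rfl, rfl, rfl⟩
    obtain ⟨p, hp0, hp1, hp2⟩ := mk3 x₁ x₂ x₃ hx12 hx13 hx23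
    obtain ⟨p', hp0', hp1', hp2'⟩ := mk3 y₁ y₂ y₃ hy12 hy13 hy23
    let f : G → (Fin 3 ↪ G ⧸ nH T) := fun g => p.trans (MulAction.toPerm g).toEmbedding
    have hf : Function.Injective f := by
      intro g g' e
      have e' : ∀ i, g • p i = g' • p i := fun i => congrArg (fun q : Fin 3 ↪ G ⧸ nH T => q i) e
      have e'' : ∀ i, (g'⁻¹ * g) • p i = p i := fun i => by rw [mul_smul, e', inv_smul_smul]
      have h1 := hthree _ _ _ _ (fun e => absurd (p.injective e) (by decide))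
        (fun e => absurd (p.injective e) (by decide)) (fun e => absurd (p.injective e) (by decide))
        (e'' 0) (e'' 1) (e'' 2)
      exact (inv_mul_eq_one.1 h1).symm
    have hcard : Fintype.card G = Fintype.card (Fin 3 ↪ G ⧸ nH T) := by
      rw [Fintype.card_embedding_eq, Fintype.card_fin, ← Nat.card_eq_fintype_card,
        ← Nat.card_eq_fintype_card, hn, ← (nH T).card_mul_index, h.card_nH, Subgroup.index, hn]
      obtain ⟨r, hr⟩ : ∃ r, Nat.card T = r + 1 := ⟨Nat.card T - 1, by omega⟩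
      rw [hr]
      simp [Nat.descFactorial_succ]
      ring
    obtain ⟨g, hg⟩ := ((Fintype.bijective_iff_injective_and_card f).2 ⟨hf, hcard⟩).2 p'
    have hgi : ∀ i, g • p i = p' i := fun i => congrArg (fun q : Fin 3 ↪ G ⧸ nH T => q i) hg
    exact ⟨g, by rw [← hp0, ← hp0']; exact hgi 0, by rw [← hp1, ← hp1']; exact hgi 1,
      by rw [← hp2, ← hp2']; exact hgi 2⟩
  · intro x y hx hy
    let f : ↥(T : Subgroup G) → {z : G ⧸ nH T // z ≠ o T} := fun t => ⟨(t : G) • x, fun e => hx (by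
      calc x = (t : G)⁻¹ • ((t : G) • x) := (inv_smul_smul _ _).symm
        _ = (t : G)⁻¹ • o T := by rw [e]
        _ = _ := smul_o.2 (inv_mem (le_nH t.2)))⟩
    have hf : Function.Injective f := by
      intro s t e
      have e' : (s : G) • x = (t : G) • x := congrArg Subtype.val e
      have h1 := two_disjoint h hx (mul_mem (inv_mem t.2) s.2) (by
        rw [mul_smul, e', inv_smul_smul])
      exact Subtype.ext (inv_mul_eq_one.1 h1).symm
    have hcard : Nat.card (T : Subgroup G) = Nat.card {z : G ⧸ nH T // z ≠ o T} := by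
      classical
      have := Fintype.ofFinite (G ⧸ nH T)
      rw [Nat.card_eq_fintype_card (α := {z : G ⧸ nH T // z ≠ o T}), Fintype.card_subtype_compl,
        Fintype.card_subtype_eq, ← Nat.card_eq_fintype_card, hn]
      exact (Nat.add_sub_cancel _ _).symm
    obtain ⟨t, ht⟩ := ((Nat.bijective_iff_injective_and_card f).2 ⟨hf, hcard⟩).2 ⟨y, hy⟩
    refine ⟨(t : G), ⟨t.2, congrArg Subtype.val ht⟩, fun s hs => ?_⟩
    exact congrArg Subtype.val (hf (a₁ := ⟨s, hs.1⟩) (a₂ := t) (Subtype.ext (hs.2.trans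
      (congrArg Subtype.val ht).symm)))

end Cfsg.Agent.S1229
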