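import Cfsg.Statements.S1231
import Cfsg.Agent.Lib.Involutions.Control

set_option autoImplicit false
open Cfsg

namespace Cfsg.Agent.S1231

theorem rank_of_le {G : Type*} [Group G] (p j : ℕ) {A B : Subgroup G} (h : A ≤ B)
    (hB : Cfsg.PRankLE p j ↥B) : Cfsg.PRankLE p j ↥A := by
  intro E hE hE2
  have hi : Function.Injective (Subgroup.inclusion h) := Subgroup.inclusion_injective h
  rw [Nat.card_congr (E.equivMapOfInjective _ hi).toEquiv]
  refine hB _ ?_ ?_
  · refine ⟨⟨?_⟩⟩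
    rintro ⟨_, a, ha, rfl⟩ ⟨_, b, hb, rfl⟩
    apply Subtype.ext
    show Subgroup.inclusion h a * Subgroup.inclusion h b = Subgroup.inclusion h b * Subgroup.inclusion h a
    rw [← map_mul, ← map_mul, show a * b = b * a from congrArg Subtype.val (mul_comm' (⟨a, ha⟩ : E) ⟨b, hb⟩)]
  · rintro _ ⟨a, ha, rfl⟩
    rw [← map_pow, hE2 a ha, map_one]

theorem rank_conj {G : Type*} [Group G] (p j : ℕ) (A : Subgroup G) (g : G)
    (h : Cfsg.PRankLE p j ↥(A.map (MulAut.conj g).toMonoidHom)) : Cfsg.PRankLE p j ↥A := by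
  intro E hE hE2
  let e := A.equivMapOfInjective (MulAut.conj g).toMonoidHom (MulAut.conj g).injective
  rw [Nat.card_congr (E.equivMapOfInjective e.toMonoidHom e.injective).toEquiv]
  refine h _ ?_ ?_
  · refine ⟨⟨?_⟩⟩
    rintro ⟨_, a, ha, rfl⟩ ⟨_, b, hb, rfl⟩
    apply Subtype.ext
    show e a * e b = e b * e a
    rw [← map_mul, ← map_mul, show a * b = b * a from congrArg Subtype.val (mul_comm' (⟨a, ha⟩ : E) ⟨b, hb⟩)]
  · rintro _ ⟨a, ha, rfl⟩
    rw [← map_pow, hE2 a ha, map_one]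

/-- Let H be a subgroup of the finite group G, p a prime, k ≥ 1, and P a Sylow p-subgroup of H whose p-rank is at least k. Then N_G(X) ≤ H for every subgroup X of P of p-rank at least k if and only if H ∩ gHg⁻¹ has p-rank less than k for every g ∉ H. -/
theorem result {G : Type*} [Group G] [Finite G] {p : ℕ} [Fact p.Prime] (k : ℕ) (hk : 1 ≤ k) (H : Subgroup G) (P : Sylow p ↥H) (hP : ¬ Cfsg.PRankLE p (k - 1) ↥(P : Subgroup ↥H)) : (∀ X : Subgroup G, X ≤ (P : Subgroup ↥H).map H.subtype → ¬ Cfsg.PRankLE p (k - 1) ↥X → Subgroup.normalizer (X : Set G) ≤ H) ↔ (∀ g : G, g ∉ H → Cfsg.PRankLE p (k - 1) ↥(H ⊓ H.map (MulAut.conj g).toMonoidHom)) := by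
  have : Fact p.Prime := inferInstance
  set P' : Subgroup G := (P : Subgroup ↥H).map H.subtype with hP'
  have hPH : P' ≤ H := Subgroup.map_subtype_le _
  have hP'p : IsPGroup p P' := P.2.map _
  have hSyl : ∀ B : Subgroup G, IsPGroup p B → B ≤ H →
      ∃ h ∈ H, B.map (MulAut.conj h).toMonoidHom ≤ P' := by
    intro B hB hBH
    obtain ⟨Q, hQ⟩ := (hB.comap_of_injective H.subtype Subtype.val_injective).exists_le_sylow
    obtain ⟨h, hh⟩ := MulAction.exists_smul_eq (↥H) Q P
    refine ⟨h.1, h.2, ?_⟩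
    rintro _ ⟨b, hb, rfl⟩
    refine ⟨h * ⟨b, hBH hb⟩ * h⁻¹, ?_, rfl⟩
    rw [← hh]
    show h * ⟨b, hBH hb⟩ * h⁻¹ ∈ (h • Q : Sylow p ↥H)
    rw [← SetLike.mem_coe, Sylow.coe_smul]
    exact ⟨⟨b, hBH hb⟩, hQ hb, rfl⟩
  constructor
  · intro h g hg
    by_contra hbad
    unfold Cfsg.PRankLE at hbad
    push Not at hbad
    obtain ⟨A, hA, hA2, hAc⟩ := hbad
    apply hg
    set A' : Subgroup G := A.map (H ⊓ H.map (MulAut.conj g).toMonoidHom).subtype with hA'
    have hA'p : IsPGroup p A' := by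
      refine IsPGroup.map ?_ _
      intro a
      exact ⟨1, Subtype.ext (by rw [pow_one]; exact hA2 a a.2)⟩
    have hA'r : ¬ Cfsg.PRankLE p (k - 1) ↥A' := by
      intro hr
      have e := A.equivMapOfInjective (H ⊓ H.map (MulAut.conj g).toMonoidHom).subtype Subtype.val_injective
      have h4 := hr ⊤ ⟨⟨fun x y => by
        apply Subtype.ext
        apply e.symm.injective
        rw [Subgroup.coe_mul, Subgroup.coe_mul, map_mul, map_mul]
        exact mul_comm' _ _⟩⟩ (fun x _ => by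
          apply e.symm.injective
          rw [map_pow, map_one]
          exact Subtype.ext (hA2 _ (e.symm x).2))
      rw [Nat.card_congr Subgroup.topEquiv.toEquiv, ← Nat.card_congr e.toEquiv] at h4
      omega
    have hle : A' ≤ H ⊓ H.map (MulAut.conj g).toMonoidHom := Subgroup.map_subtype_le _
    have hB : A'.map (MulAut.conj g⁻¹).toMonoidHom ≤ H := by
      rintro _ ⟨a, ha, rfl⟩
      obtain ⟨y, hy, hy'⟩ := (hle ha).2
      rw [← hy']
      show g⁻¹ * (g * y * g⁻¹) * g⁻¹⁻¹ ∈ H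
      simpa [mul_assoc] using hy
    obtain ⟨a, haH, ha⟩ := hSyl _ hA'p (hle.trans inf_le_left)
    obtain ⟨b, hbH, hb⟩ := hSyl _ (hA'p.map _) hB
    rw [← Transfer.Fusion.map_conj_mul] at hb
    have hmem := Involutions.Control.mem_of_conj_good H P' hP'p hPH hSyl
      (fun X => ¬ Cfsg.PRankLE p (k - 1) ↥X) (fun A B hAB _ hA hB => hA (rank_of_le p _ hAB hB))
      (fun A c hA hc => hA (rank_conj p _ A c hc)) h
      (A'.map (MulAut.conj a).toMonoidHom) ha (fun e => hA'r (rank_conj p _ A' a e)) (b * g⁻¹ * a⁻¹) (by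
        rw [← Transfer.Fusion.map_conj_mul]
        simpa [mul_assoc] using hb)
    have := H.mul_mem (H.mul_mem (H.inv_mem hbH) hmem) haH
    simpa [mul_assoc] using H.inv_mem this
  · intro h X hX hXr g hg
    by_contra hgH
    apply hXr
    refine rank_of_le p _ ?_ (h g hgH)
    refine le_inf (hX.trans hPH) fun x hx => ?_
    refine ⟨g⁻¹ * x * g, hPH (hX ?_), ?_⟩
    · have := (Subgroup.mem_normalizer_iff.mp ((Subgroup.normalizer (X : Set G)).inv_mem hg) x).mp hx
      simpa using this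
    · show g * (g⁻¹ * x * g) * g⁻¹ = x
      group

end Cfsg.Agent.S1231
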