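import Cfsg.Statements.S1233
import Cfsg.Agent.S0501
import Cfsg.Agent.Lib.PGroups.Q8Q8.Hyp
import Cfsg.Agent.Lib.PGroups.Q8Q8.Rank

set_option autoImplicit false
open Cfsg

namespace Cfsg.Agent.S1233

/-- Let S be a finite 2-group and Q a subgroup of order 32 generated by two elementwise-commuting subgroups Q₁, Q₂ each isomorphic to the quaternion group of order 8 (so Q = Q₁ ∗ Q₂). If C_S(Q) ≤ Q, then every section of S has 2-rank at most 4. -/
theorem result {S : Type*} [Group S] [Finite S] (hS : IsPGroup 2 S) (Q Q₁ Q₂ : Subgroup S) (e₁ : Q₁ ≃* QuaternionGroup 2) (e₂ : Q₂ ≃* QuaternionGroup 2) (hcomm : ∀ a ∈ Q₁, ∀ b ∈ Q₂, a * b = b * a) (hQ : Q₁ ⊔ Q₂ = Q) (hQ32 : Nat.card Q = 32) (hC : Subgroup.centralizer (Q : Set S) ≤ Q) : Cfsg.SectionalPRankLE 2 4 S := by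
  by_cases hA : ∀ A : Subgroup S, A.Normal → IsMulCommutative A → (∀ a ∈ A, a ^ 2 = 1) →
      Nat.card A ≤ 4
  · exact Cfsg.Agent.S0501.result hS hA
  push Not at hA
  obtain ⟨A, hAn, hAc, hA2, hA4⟩ := hA
  have hA2' : ∀ a ∈ A, a * a = 1 := fun a ha => by rw [← sq]; exact hA2 a ha
  haveI : Fact (Nat.Prime 2) := ⟨Nat.prime_two⟩
  have hA8 : 2 ^ 3 ≤ Nat.card A := by
    obtain ⟨t, ht⟩ := IsPGroup.iff_card.1 (hS.to_subgroup A)
    rw [ht] at hA4 ⊢
    refine Nat.pow_le_pow_right two_pos ?_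
    by_contra hlt
    have := Nat.pow_le_pow_right two_pos (by omega : t ≤ 2)
    omega
  obtain ⟨B, hBn, hBA, hB8⟩ := PGroups.Q8Q8.exists_normal_card hS A hA2' 3 hA8
  have hBc : IsMulCommutative B := IsMulCommutative.of_comm fun a b => Subtype.ext
    (congrArg Subtype.val (hAc.is_comm.comm (⟨a, hBA a.2⟩ : A) ⟨b, hBA b.2⟩) :)
  obtain ⟨z, hset⟩ := PGroups.Q8Q8.exists_setup hS e₁ e₂ hcomm hQ hQ32 hC
  obtain ⟨e, f, p, q, E⟩ := PGroups.Q8Q8.exists_eight hset hS hBc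
    (fun a ha => hA2' a (hBA ha)) (by rw [hB8]; norm_num)
  intro H N _ V hV _
  let L : Subgroup H := V.comap (QuotientGroup.mk' N)
  let H' : Subgroup S := L.map H.subtype
  let φ : H' →* V :=
    ((QuotientGroup.mk' N).comp L.subtype).codRestrict V (fun x => x.2) |>.comp
      (L.equivMapOfInjective H.subtype H.subtype_injective).symm.toMonoidHom
  have hφ : Function.Surjective φ := by
    intro a
    obtain ⟨x, hx⟩ := QuotientGroup.mk'_surjective N (a : ↥H ⧸ N)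
    have hxL : x ∈ L := by rw [Subgroup.mem_comap, hx]; exact a.2
    refine ⟨L.equivMapOfInjective H.subtype H.subtype_injective ⟨x, hxL⟩, ?_⟩
    simp only [φ, MonoidHom.comp_apply, MulEquiv.coe_toMonoidHom, MulEquiv.symm_apply_apply]
    exact Subtype.ext hx
  exact E.card_le_sixteen hS H' hV.is_comm.comm φ hφ

end Cfsg.Agent.S1233
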