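import Cfsg.Statements.S1234
import Cfsg.Agent.Lib.PGroups.SelfCentEight.Main

set_option autoImplicit false
open Cfsg

namespace Cfsg.Agent.S1234

/-- Let S be a finite 2-group and Q ≤ S a subgroup of order 32 having an elementary abelian subgroup E of order 16 and an involution s ∉ E whose centralizer in E has order 4 (so Q ≅ (Z₂ × Z₂) ≀ Z₂). If C_S(Z(Q)) = Q, then every section of S has 2-rank at most 4. -/
theorem result {S : Type*} [Group S] [Finite S] (hS : IsPGroup 2 S) (Q E : Subgroup S) (hEQ : E ≤ Q) (hE : Cfsg.IsElementaryAbelian 2 E) (hE16 : Nat.card E = 16) (hQ32 : Nat.card Q = 32) (s : S) (hsQ : s ∈ Q) (hsE : s ∉ E) (hs : orderOf s = 2) (hfix : Nat.card ↥(E ⊓ Subgroup.centralizer ({s} : Set S)) = 4) (hC : Subgroup.centralizer (((Subgroup.center Q).map Q.subtype : Subgroup S) : Set S) = Q) : Cfsg.SectionalPRankLE 2 4 S := by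
  classical
  obtain ⟨hEc, hE2⟩ := hE
  have hEc' : ∀ x ∈ E, ∀ y ∈ E, x * y = y * x := fun x hx y hy =>
    congrArg Subtype.val (hEc.is_comm.comm ⟨x, hx⟩ ⟨y, hy⟩)
  have hE2' : ∀ x ∈ E, x * x = 1 := fun x hx => by rw [← sq]; exact hE2 x hx
  have hs2 : s * s = 1 := by rw [← sq, ← hs, pow_orderOf_eq_one]
  set V := E ⊓ Subgroup.centralizer ({s} : Set S) with hV
  have hVs : ∀ v ∈ V, v * s = s * v := fun v hv => Subgroup.mem_centralizer_singleton_iff.mp hv.2
  -- `E` has index two in `Q`
  have hidx : (E.subgroupOf Q).index = 2 := by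
    have h := Subgroup.card_mul_index (E.subgroupOf Q)
    rw [Nat.card_congr (Subgroup.subgroupOfEquivOfLe hEQ).toEquiv, hE16, hQ32] at h
    omega
  have hQform : ∀ x ∈ Q, x ∈ E ∨ x * s ∈ E := fun x hx => by
    by_cases hxE : x ∈ E
    · exact Or.inl hxE
    · have h := Subgroup.mul_mem_iff_of_index_two (H := E.subgroupOf Q) hidx
        (a := ⟨x, hx⟩) (b := ⟨s, hsQ⟩)
      simp only [Subgroup.mem_subgroupOf, Subgroup.coe_mul] at h
      exact Or.inr (h.mpr (iff_of_false hxE hsE))
  let A : Subgroup S :=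
    { carrier := {x | x ∈ V ∨ x * s ∈ V}
      one_mem' := Or.inl V.one_mem
      mul_mem' := by
        rintro p q (hp | hp) (hq | hq)
        · exact Or.inl (mul_mem hp hq)
        · exact Or.inr (by rw [mul_assoc]; exact mul_mem hp hq)
        · refine Or.inr ?_
          rw [mul_assoc, hVs q hq, ← mul_assoc]
          exact mul_mem hp hq
        · refine Or.inl ?_
          have := mul_mem hp hq
          rwa [← mul_assoc (p * s), mul_assoc p s q,
            show s * q = q * s from by
              have h := hVs _ hq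
              calc s * q = s * (q * s) * s := by rw [mul_assoc s, mul_assoc q, hs2, mul_one]
                _ = q * s * (s * s) := by rw [← h]; simp only [mul_assoc]
                _ = q * s := by rw [hs2, mul_one],
            ← mul_assoc, mul_assoc (p * q), hs2, mul_one] at this
      inv_mem' := by
        rintro p (hp | hp)
        · exact Or.inl (inv_mem hp)
        · refine Or.inr ?_
          have e : p⁻¹ * s = (p * s)⁻¹ := by
            have h := hVs _ (inv_mem hp)
            rw [mul_inv_rev] at h ⊢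
            rw [show s⁻¹ = s from inv_eq_of_mul_eq_one_left hs2] at h ⊢
            calc p⁻¹ * s = s * (s * p⁻¹ * s) := by
                  rw [mul_assoc s p⁻¹, ← mul_assoc s s, hs2, one_mul]
              _ = s * (s * (s * p⁻¹)) := by rw [h]
              _ = s * p⁻¹ := by rw [← mul_assoc s s, hs2, one_mul]
          rw [e]
          exact inv_mem hp }
  have hAs : s ∈ A := Or.inr (by rw [hs2]; exact V.one_mem)
  have hAc : ∀ x ∈ A, x * s = s * x := by
    rintro x (hx | hx)
    · exact hVs x hx
    · have h := hVs _ hx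
      rw [← mul_assoc] at h
      exact mul_right_cancel h
  have hAdec : ∀ x ∈ A, ∃ v ∈ V, x = v ∨ x = v * s := fun x hx => hx.elim
    (fun h => ⟨x, h, Or.inl rfl⟩) fun h => ⟨x * s, h, Or.inr (by rw [mul_assoc, hs2, mul_one])⟩
  have hAcomm : ∀ x ∈ A, ∀ y ∈ A, x * y = y * x := by
    intro x hx y hy
    have hc : ∀ v ∈ V, v * y = y * v := fun v hv => by
      obtain ⟨u, hu, rfl | rfl⟩ := hAdec y hy
      · exact hEc' v hv.1 _ hu.1
      · exact (show Commute v u from hEc' v hv.1 u hu.1).mul_right (hVs v hv)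
    obtain ⟨v, hv, rfl | rfl⟩ := hAdec x hx
    · exact hc _ hv
    · exact (show Commute v y from hc v hv).mul_left (show Commute s y from (hAc y hy).symm)
  have hA2 : ∀ x ∈ A, x * x = 1 := by
    intro x hx
    obtain ⟨v, hv, rfl | rfl⟩ := hAdec x hx
    · exact hE2' _ hv.1
    · rw [← sq, (show Commute v s from hVs v hv).mul_pow, sq, sq, hE2' v hv.1, hs2, one_mul]
  have hA8 : Nat.card A = 8 := by
    have hVA : V ≤ A := fun x hx => Or.inl hx
    refine le_antisymm ?_ ?_
    · rw [← Subgroup.card_mul_index (V.subgroupOf A),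
        Nat.card_congr (Subgroup.subgroupOfEquivOfLe hVA).toEquiv, hfix]
      refine (Nat.mul_le_mul_left 4 ((Cfsg.Agent.PGroups.SelfCentEight.relIndex_le_card V A
        (fun g => decide (g ∈ V)) Finset.univ (fun g _ => Finset.mem_univ _) ?_).trans
          (le_of_eq (by simp)))).trans (le_refl (4 * 2))
      intro g hg h hh e
      simp only [decide_eq_decide] at e
      rcases hg with h1 | h1
      · exact mul_mem (inv_mem h1) (e.mp h1)
      · rcases hh with h2 | h2
        · exact mul_mem (inv_mem (e.mpr h2)) h2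
        · have h3 := mul_mem (inv_mem h1) h2
          have hmem : g⁻¹ * h ∈ A := mul_mem (inv_mem (Or.inr h1 : g ∈ A)) (Or.inr h2)
          rwa [mul_inv_rev, ← mul_assoc, mul_assoc s⁻¹, mul_assoc s⁻¹, hAc _ hmem,
            inv_mul_cancel_left] at h3
    · have hlt : V < A := lt_of_le_of_ne hVA fun h => hsE (h ▸ hAs : s ∈ V).1
      have h := Cfsg.Agent.PGroups.SelfCentEight.two_mul_card_le hlt
      omega
  refine Cfsg.Agent.PGroups.SelfCentEight.sectionalRank hS A hAcomm hA2 hA8 ?_
  refine le_antisymm (fun x hx => ?_) fun x hx y hy => hAcomm y hy x hx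
  -- the centre of `Q` lies in `V`
  have hxQ : x ∈ Q := by
    rw [← hC]
    rintro y ⟨z, hz, rfl⟩
    have hcz : ∀ q ∈ Q, q * (z : S) = z * q := fun q hq =>
      congrArg Subtype.val (Subgroup.mem_center_iff.mp hz ⟨q, hq⟩)
    refine hx _ (Or.inl ⟨?_, Subgroup.mem_centralizer_singleton_iff.mpr (hcz s hsQ).symm⟩)
    refine (hQform _ z.2).resolve_right fun hzs => ?_
    have hle : E ≤ V := fun e he => by
      refine ⟨he, Subgroup.mem_centralizer_singleton_iff.mpr ?_⟩
      have h1 := hEc' _ he _ hzs
      rw [← mul_assoc, hcz e (hEQ he), mul_assoc, mul_assoc] at h1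
      exact mul_left_cancel h1
    have := Subgroup.card_le_of_le hle
    omega
  have hxs : s * x = x * s := hx s hAs
  rcases hQform x hxQ with h | h
  · exact Or.inl ⟨h, Subgroup.mem_centralizer_singleton_iff.mpr hxs.symm⟩
  · exact Or.inr ⟨h, Subgroup.mem_centralizer_singleton_iff.mpr (by
      rw [mul_assoc, hs2, mul_one, ← mul_assoc, hxs, mul_assoc, hs2, mul_one])⟩

end Cfsg.Agent.S1234
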