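import Cfsg.Statements.S1235
import Cfsg.Agent.Lib.PGroups.SelfCentEight.KleinFactorTwo
import Mathlib.GroupTheory.SpecificGroups.Dihedral
import Mathlib.GroupTheory.SpecificGroups.KleinFour

set_option autoImplicit false
open Cfsg

namespace Cfsg.Agent.S1235

/-- Let G be a finite group, x an involution and T ≤ G a Sylow 2-subgroup of C_G(x) (T ≤ C_G(x) with |C_G(x) : T| odd) which is the internal direct product of a subgroup D that is dihedral (of order ≥ 4) or quasi-dihedral and a Klein four-subgroup B. Suppose that for every involution b ∈ B, T ≤ C_G(b) with |C_G(b) : T| odd. Then every section of G has 2-rank at most 4. -/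
theorem result {G : Type*} [Group G] [Finite G] (x : G) (hx : orderOf x = 2) (T D B : Subgroup G) (hT : IsPGroup 2 T) (hTx : T ≤ Subgroup.centralizer ({x} : Set G)) (hTxi : Odd (T.relIndex (Subgroup.centralizer ({x} : Set G)))) (hprod : Cfsg.IsInternalDirectProduct D B T) (hD : (∃ m : ℕ, 2 ≤ m ∧ Nonempty (D ≃* DihedralGroup m)) ∨ Cfsg.IsQuasiDihedral D) (hB : IsKleinFour B) (hTb : ∀ b ∈ B, orderOf b = 2 → T ≤ Subgroup.centralizer ({b} : Set G) ∧ Odd (T.relIndex (Subgroup.centralizer ({b} : Set G)))) : Cfsg.SectionalPRankLE 2 4 G := by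
  classical
  haveI : Fact (Nat.Prime 2) := ⟨Nat.prime_two⟩
  obtain ⟨hDT, hBT, hDB, hinf, hsup⟩ := hprod
  have hB4 : Nat.card B = 4 := hB.card_four
  have hB2 : ∀ b ∈ B, b * b = 1 := fun b hb => congrArg Subtype.val
    (IsKleinFour.mul_self (G := B) ⟨b, hb⟩)
  have hBc : ∀ a ∈ B, ∀ b ∈ B, a * b = b * a := fun a ha b hb => by
    rw [← mul_inv_eq_one, mul_inv_rev, inv_eq_of_mul_eq_one_left (hB2 _ ha),
      inv_eq_of_mul_eq_one_left (hB2 _ hb)]
    exact hB2 _ (mul_mem ha hb)
  obtain ⟨P, hTP⟩ := hT.exists_le_sylow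
  refine Cfsg.Agent.PGroups.SelfCentEight.sectionalRank_of_sylow P fun H K hK => ?_
  -- inside the Sylow subgroup
  have hcent : ∀ b ∈ B, b ≠ 1 → ∀ g ∈ P.1, g * b = b * g → g ∈ T := by
    intro b hb hb1 g hgP hgb
    obtain ⟨hTb, hodd⟩ := hTb b hb (orderOf_eq_prime (by rw [sq]; exact hB2 b hb) hb1)
    set C := (P : Subgroup G) ⊓ Subgroup.centralizer ({b} : Set G)
    have hTC : T ≤ C := le_inf hTP hTb
    have h1 : T.relIndex C ∣ T.relIndex (Subgroup.centralizer ({b} : Set G)) :=
      ⟨_, (Subgroup.relIndex_mul_relIndex T C _ hTC inf_le_right).symm⟩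
    obtain ⟨k, hk⟩ := (P.isPGroup'.to_le (inf_le_left : C ≤ _)).index (T.subgroupOf C)
    change T.relIndex C = 2 ^ k at hk
    have hk0 : k = 0 := by
      by_contra hk0
      rw [hk] at h1
      exact (Nat.not_even_iff_odd.mpr hodd)
        (even_iff_two_dvd.mpr ((dvd_pow_self 2 hk0).trans h1))
    rw [hk0, pow_zero] at hk
    exact Subgroup.relIndex_eq_one.mp hk
      ⟨hgP, Subgroup.mem_centralizer_singleton_iff.mpr hgb⟩
  -- the shape of `D`
  have hshape : (∀ d ∈ D, ∀ d' ∈ D, d * d' = d' * d) ∧ (∀ d ∈ D, d * d = 1) ∧ Nat.card D = 4 ∨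
      (∃ c ∈ D, (Subgroup.zpowers c).relIndex D = 2) ∧ ∃ u ∈ D, ∃ v ∈ D, u * v ≠ v * u := by
    have hrel : ∀ c : D, 2 * orderOf c = Nat.card D →
        (Subgroup.zpowers (c : G)).relIndex D = 2 := by
      intro c hc
      have e : (Subgroup.zpowers (c : G)).subgroupOf D = Subgroup.zpowers c := by
        refine Subgroup.map_injective D.subtype_injective ?_
        rw [Subgroup.subgroupOf_map_subtype, MonoidHom.map_zpowers]
        exact inf_eq_left.mpr (Subgroup.zpowers_le.mpr c.2)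
      have h := Subgroup.card_mul_index (Subgroup.zpowers c)
      rw [Nat.card_zpowers, ← hc, mul_comm] at h
      rw [Subgroup.relIndex, e]
      exact Nat.eq_of_mul_eq_mul_right (orderOf_pos c) h
    rcases hD with ⟨m, hm, ⟨e⟩⟩ | ⟨n, hn, hcard, u, v, hu, hv, huv⟩
    · haveI : NeZero m := ⟨by omega⟩
      have hcard : Nat.card D = 2 * m := by rw [Nat.card_congr e.toEquiv, DihedralGroup.nat_card]
      by_cases hm2 : m = 2
      · subst hm2
        have hsq : ∀ d : D, d * d = 1 := fun d => e.injective (by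
          rw [map_mul, map_one]
          exact (show ∀ q : DihedralGroup 2, q * q = 1 by decide) _)
        have hcm : ∀ d d' : D, d * d' = d' * d := fun d d' => e.injective (by
          rw [map_mul, map_mul]
          exact (show ∀ p q : DihedralGroup 2, p * q = q * p by decide) _ _)
        exact Or.inl ⟨fun d hd d' hd' => congrArg Subtype.val (hcm ⟨d, hd⟩ ⟨d', hd'⟩),
          fun d hd => congrArg Subtype.val (hsq ⟨d, hd⟩), hcard⟩
      · refine Or.inr ⟨⟨_, (e.symm (.r 1)).2, hrel _ ?_⟩, _, (e.symm (.r 1)).2, _,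
          (e.symm (.sr 0)).2, fun h => ?_⟩
        · rw [MulEquiv.orderOf_eq, DihedralGroup.orderOf_r_one, hcard]
        · have h' := e.symm.injective (show e.symm (.r 1 * .sr 0) = e.symm (.sr 0 * .r 1) by
            rw [map_mul, map_mul]; exact Subtype.ext h)
          simp only [DihedralGroup.r_mul_sr, DihedralGroup.sr_mul_r, DihedralGroup.sr.injEq,
            zero_sub, zero_add] at h'
          have h2 : ((2 : ℕ) : ZMod m) = 0 := by push_cast; linear_combination -h'
          exact hm2 (Nat.le_antisymm (Nat.le_of_dvd (by omega)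
            ((ZMod.natCast_eq_zero_iff 2 m).mp h2)) hm)
    · refine Or.inr ⟨⟨u, u.2, hrel u (by rw [hu, hcard, pow_succ, mul_comm])⟩, v, v.2, u, u.2,
        fun h => ?_⟩
      have h' : v * u = u * v := Subtype.ext h
      have hconj : v * u * v⁻¹ = u := by rw [h', mul_inv_cancel_right]
      rw [hconj] at huv
      have hlt : 2 ^ (n - 1) - 1 < 2 ^ n := lt_of_le_of_lt (Nat.sub_le _ _)
        (Nat.pow_lt_pow_right (by norm_num) (by omega))
      have h4 : 4 ≤ 2 ^ (n - 1) := le_trans (show 4 ≤ 2 ^ 2 from le_rfl)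
        (Nat.pow_le_pow_right (by norm_num) (by omega))
      have := pow_injOn_Iio_orderOf (x := u) (show 1 ∈ Set.Iio (orderOf u) by
          rw [hu, Set.mem_Iio]; exact Nat.one_lt_two_pow (by omega))
        (show 2 ^ (n - 1) - 1 ∈ Set.Iio (orderOf u) by rw [hu, Set.mem_Iio]; exact hlt)
        (show u ^ 1 = u ^ (2 ^ (n - 1) - 1) by rw [pow_one]; exact huv)
      omega
  -- transport to the type `P`
  let T' := T.subgroupOf P
  let D' := D.subgroupOf P
  let B' := B.subgroupOf P
  have hDP : D ≤ (P : Subgroup G) := hDT.trans hTP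
  have hBP : B ≤ (P : Subgroup G) := hBT.trans hTP
  have hB4' : Nat.card B' = 4 := by
    rw [Nat.card_congr (Subgroup.subgroupOfEquivOfLe hBP).toEquiv, hB4]
  have hcent' : ∀ b ∈ B', b ≠ 1 → ∀ g, g * b = b * g → g ∈ T' := fun b hb hb1 g hg =>
    hcent b hb (fun h => hb1 (Subtype.ext h)) g g.2 (congrArg Subtype.val hg)
  rcases hshape with ⟨hDc, hD2, hD4⟩ | ⟨⟨c, hcD, hc⟩, u, hu, v, hv, huv⟩
  · have hform : ∀ t ∈ T, ∃ d ∈ D, ∃ b ∈ B, t = d * b := by
      let DB : Subgroup G :=
        { carrier := {t | ∃ d ∈ D, ∃ b ∈ B, t = d * b}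
          one_mem' := ⟨1, D.one_mem, 1, B.one_mem, (one_mul _).symm⟩
          mul_mem' := by
            rintro p q ⟨d, hd, b, hb, rfl⟩ ⟨d', hd', b', hb', rfl⟩
            exact ⟨d * d', mul_mem hd hd', b * b', mul_mem hb hb', by
              rw [mul_assoc, ← mul_assoc b d', ← hDB d' hd' b hb]; simp only [mul_assoc]⟩
          inv_mem' := by
            rintro p ⟨d, hd, b, hb, rfl⟩
            exact ⟨d⁻¹, inv_mem hd, b⁻¹, inv_mem hb, by
              rw [mul_inv_rev]; exact (hDB _ (inv_mem hd) _ (inv_mem hb)).symm⟩ }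
      exact fun t ht => (sup_le (fun d hd => ⟨d, hd, 1, B.one_mem, (mul_one d).symm⟩)
        (fun b hb => ⟨1, D.one_mem, b, hb, (one_mul b).symm⟩) : D ⊔ B ≤ DB) (hsup ▸ ht)
    have hTc : ∀ p ∈ T, ∀ q ∈ T, p * q = q * p := by
      intro p hp q hq
      obtain ⟨d, hd, b, hb, rfl⟩ := hform p hp
      obtain ⟨d', hd', b', hb', rfl⟩ := hform q hq
      exact ((show Commute d d' from hDc d hd d' hd').mul_right (hDB d hd b' hb')).mul_left
        ((show Commute b d' from (hDB d' hd' b hb).symm).mul_right (hBc b hb b' hb'))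
    have hT2 : ∀ p ∈ T, p * p = 1 := by
      intro p hp
      obtain ⟨d, hd, b, hb, rfl⟩ := hform p hp
      rw [← sq, (show Commute d b from hDB d hd b hb).mul_pow, sq, sq, hD2 d hd, hB2 b hb,
        one_mul]
    have hT16 : Nat.card T' = 16 := by
      rw [Nat.card_congr (Subgroup.subgroupOfEquivOfLe hTP).toEquiv]
      let f : D × B → T := fun p => ⟨p.1 * p.2, mul_mem (hDT p.1.2) (hBT p.2.2)⟩
      have hf : Function.Bijective f := by
        refine ⟨fun p q h => ?_, fun t => ?_⟩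
        · have h' : (p.1 : G) * p.2 = q.1 * q.2 := congrArg Subtype.val h
          have h2 : (q.1 : G)⁻¹ * p.1 = q.2 * (p.2 : G)⁻¹ := by
            rw [eq_mul_inv_iff_mul_eq, mul_assoc, h', inv_mul_cancel_left]
          have h3 : (q.1 : G)⁻¹ * p.1 ∈ D ⊓ B :=
            ⟨mul_mem (D.inv_mem q.1.2) p.1.2, h2 ▸ mul_mem q.2.2 (B.inv_mem p.2.2)⟩
          rw [hinf, Subgroup.mem_bot] at h3
          rw [h3] at h2
          exact Prod.ext (Subtype.ext (inv_mul_eq_one.mp h3).symm)
            (Subtype.ext (mul_inv_eq_one.mp h2.symm).symm)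
        · obtain ⟨d, hd, b, hb, e⟩ := hform _ t.2
          exact ⟨(⟨d, hd⟩, ⟨b, hb⟩), Subtype.ext e.symm⟩
      rw [← Nat.card_congr (Equiv.ofBijective f hf), Nat.card_prod, hD4, hB4]
    exact Cfsg.Agent.PGroups.SelfCentEight.index_le_elementary P.isPGroup' T' B' hB4'
      (fun p hp => hBT hp) hcent' hT16 (fun p hp q hq => Subtype.ext (hTc _ hp _ hq))
      (fun p hp => Subtype.ext (hT2 _ hp)) K hK
  · refine Cfsg.Agent.PGroups.SelfCentEight.index_le_nonabelian P.isPGroup' T' D' B'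
      (fun p hp => hDT hp) (fun p hp => hBT hp) ?_
      (fun d hd b hb => Subtype.ext (hDB _ hd _ hb)) ?_ hB4'
      (fun p hp q hq => Subtype.ext (hBc _ hp _ hq)) (fun p hp => Subtype.ext (hB2 _ hp))
      hcent' ⟨c, hDP hcD⟩ hcD ?_
      ⟨⟨u, hDP hu⟩, hu, ⟨v, hDP hv⟩, hv, fun h => huv (congrArg Subtype.val h)⟩ K hK
    · rw [← Subgroup.subgroupOf_sup hDP hBP, hsup]
    · ext p
      simp only [D', B', Subgroup.mem_inf, Subgroup.mem_subgroupOf, Subgroup.mem_bot]
      rw [← Subgroup.mem_inf, hinf, Subgroup.mem_bot]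
      exact ⟨fun h => Subtype.ext h, fun h => by rw [h]; rfl⟩
    · have e : Subgroup.zpowers (⟨c, hDP hcD⟩ : ↥(P : Subgroup G)) =
          (Subgroup.zpowers c).subgroupOf P := by
        refine Subgroup.map_injective P.1.subtype_injective ?_
        rw [Subgroup.subgroupOf_map_subtype, MonoidHom.map_zpowers]
        exact (inf_eq_left.mpr (Subgroup.zpowers_le.mpr (hDP hcD))).symm
      rw [e, Subgroup.relIndex_subgroupOf hDP]
      exact hc

end Cfsg.Agent.S1235
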