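import Cfsg.Statements.S1236
import Cfsg.Agent.Lib.Involutions.QuasiDihedralFusion

set_option autoImplicit false
open Cfsg

namespace Cfsg.Agent.S1236

open Cfsg.Agent.Involutions.QuasiDihedral

theorem dihedral_self_centralizing {m : ℕ} [NeZero m] {T : Subgroup (DihedralGroup m)}
    (hT : Nat.card T = 4) (hsq : ∀ t ∈ T, t * t = 1) {g : DihedralGroup m}
    (hg : ∀ t ∈ T, Commute g t) : g ∈ T := by
  -- at most two solutions of `j + j = 0`
  have htwo : ∀ u : ZMod m, u + u = 0 → u = 0 ∨ 2 * u.val = m := by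
    intro u hu
    rw [← two_mul, ← ZMod.natCast_zmod_val u,
      show (2 : ZMod m) * (u.val : ZMod m) = ((2 * u.val : ℕ) : ZMod m) by push_cast; rfl,
      ZMod.natCast_eq_zero_iff] at hu
    obtain ⟨k, hk⟩ := hu
    rcases Nat.eq_zero_or_pos k with rfl | hk0
    · left; rw [← ZMod.natCast_zmod_val u, show u.val = 0 by omega, Nat.cast_zero]
    · have := ZMod.val_lt u
      have : k = 1 := by
        by_contra hk1
        have : m * 2 ≤ m * k := Nat.mul_le_mul_left m (by omega)
        omega
      subst this; right; omega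
  set h : ZMod m := ((m / 2 : ℕ) : ZMod m)
  have htwo' : ∀ u : ZMod m, u + u = 0 → u = 0 ∨ u = h := fun u hu =>
    (htwo u hu).imp id fun h' => by
      rw [← ZMod.natCast_zmod_val u, show u.val = m / 2 by omega]
  obtain ⟨i, hi⟩ : ∃ i, DihedralGroup.sr i ∈ T := by
    by_contra hne
    push Not at hne
    have hsub : (T : Set (DihedralGroup m)) ⊆ {.r 0, .r h} := by
      rintro (u | u) hu
      · have := hsq _ hu
        rw [DihedralGroup.r_mul_r, DihedralGroup.one_def, DihedralGroup.r.injEq] at this
        rcases htwo' u this with rfl | rfl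
        · exact Or.inl rfl
        · exact Or.inr rfl
      · exact absurd hu (hne u)
    have h1 := Set.ncard_le_ncard hsub (Set.toFinite _)
    have h2 : ({DihedralGroup.r 0, .r h} : Set (DihedralGroup m)).ncard ≤ 2 :=
      (Set.ncard_insert_le _ _).trans (by simp)
    rw [← Nat.card_coe_set_eq] at h1
    change Nat.card T ≤ _ at h1
    omega
  -- everything commuting with `sr i`
  let C : Set (DihedralGroup m) := {.r 0, .r h, .sr i, .sr (i + h)}
  have hC : ∀ x : DihedralGroup m, Commute x (.sr i) → x ∈ C := by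
    rintro (u | u) hx
    · have := hx.eq
      rw [DihedralGroup.r_mul_sr, DihedralGroup.sr_mul_r, DihedralGroup.sr.injEq] at this
      rcases htwo' u (by linear_combination -this) with rfl | rfl
      · exact Or.inl rfl
      · exact Or.inr (Or.inl rfl)
    · have := hx.eq
      rw [DihedralGroup.sr_mul_sr, DihedralGroup.sr_mul_sr, DihedralGroup.r.injEq] at this
      rcases htwo' (u - i) (by linear_combination -this) with h' | h'
      · exact Or.inr (Or.inr (Or.inl (by rw [sub_eq_zero.1 h'])))
      · exact Or.inr (Or.inr (Or.inr (by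
          rw [Set.mem_singleton_iff, sub_eq_iff_eq_add'.1 h'])))
  have hsub : (T : Set (DihedralGroup m)) ⊆ C := fun t ht => hC t (by
    show t * .sr i = .sr i * t
    have h1 := hsq _ (mul_mem ht hi)
    have h2 := hsq _ ht
    have h3 := hsq _ hi
    calc t * .sr i = (t * .sr i)⁻¹ := eq_inv_of_mul_eq_one_left h1
      _ = .sr i * t := by
        rw [mul_inv_rev, inv_eq_of_mul_eq_one_left h2, inv_eq_of_mul_eq_one_left h3])
  have heq : (T : Set (DihedralGroup m)) = C := by
    refine Set.eq_of_subset_of_ncard_le hsub ?_ (Set.toFinite _)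
    rw [← Nat.card_coe_set_eq]
    change _ ≤ Nat.card T
    rw [hT]
    refine (Set.ncard_insert_le _ _).trans ?_
    have h1 := Set.ncard_insert_le (DihedralGroup.r h) {DihedralGroup.sr i, .sr (i + h)}
    have h2 := Set.ncard_insert_le (DihedralGroup.sr i) {DihedralGroup.sr (i + h)}
    rw [Set.ncard_singleton] at h2
    omega
  show g ∈ (T : Set (DihedralGroup m))
  rw [heq]
  exact hC g (hg _ hi)

/-- Let R be a finite group, t a central involution of R such that R ⧸ ⟨t⟩ is dihedral (of order ≥ 4) or quasi-dihedral, and A ≤ R an elementary abelian subgroup of order 8 containing t. Then C_R(A) = A. -/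
theorem result {R : Type*} [Group R] [Finite R] (t : R) (ht : orderOf t = 2) (htz : t ∈ Subgroup.center R) [(Subgroup.zpowers t).Normal] (hq : (∃ m : ℕ, 2 ≤ m ∧ Nonempty (R ⧸ Subgroup.zpowers t ≃* DihedralGroup m)) ∨ Cfsg.IsQuasiDihedral (R ⧸ Subgroup.zpowers t)) (A : Subgroup R) (hA : Cfsg.IsElementaryAbelian 2 A) (hA8 : Nat.card A = 8) (htA : t ∈ A) : Subgroup.centralizer (A : Set R) = A := by
  set φ := QuotientGroup.mk' (Subgroup.zpowers t)
  have hle : Subgroup.zpowers t ≤ A := Subgroup.zpowers_le.2 htA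
  have hcard : Nat.card (A.map φ) = 4 := by
    have h1 := Subgroup.card_mul_index ((Subgroup.zpowers t).subgroupOf A)
    have h2 : Nat.card ((Subgroup.zpowers t).subgroupOf A) = 2 := by
      rw [Nat.card_congr (Subgroup.subgroupOfEquivOfLe hle).toEquiv, Nat.card_zpowers, ht]
    have h3 : ((φ.comp A.subtype)).ker = (Subgroup.zpowers t).subgroupOf A := by
      ext a; simp [φ, Subgroup.mem_subgroupOf]
    rw [h2, hA8, ← h3, Subgroup.index_ker, MonoidHom.range_comp, Subgroup.range_subtype] at h1
    omega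
  have hsq : ∀ a ∈ A.map φ, a * a = 1 := by
    rintro _ ⟨a, ha, rfl⟩
    rw [← map_mul, ← sq, hA.2 a ha, map_one]
  have key : ∀ g : R, (∀ a ∈ A, Commute g a) → φ g ∈ A.map φ := by
    intro g hg
    have hg' : ∀ a ∈ A.map φ, Commute (φ g) a := by
      rintro _ ⟨a, ha, rfl⟩; exact (hg a ha).map φ
    rcases hq with ⟨m, hm, ⟨e⟩⟩ | hQD
    · have : NeZero m := ⟨by omega⟩
      have := dihedral_self_centralizing (T := (A.map φ).map e.toMonoidHom)
        (by rw [Subgroup.card_map_of_injective e.injective, hcard])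
        (by rintro _ ⟨a, ha, rfl⟩; rw [← map_mul, hsq a ha, map_one])
        (g := e (φ g)) (by rintro _ ⟨a, ha, rfl⟩; exact (hg' a ha).map e)
      obtain ⟨a, ha, he⟩ := this
      exact e.injective he ▸ ha
    · obtain ⟨D⟩ := exists_gens hQD
      refine D.mem_four_of_centralizer ⟨hcard, ?_⟩ hg'
      refine Nat.dvd_antisymm (Monoid.exponent_dvd_of_forall_pow_eq_one fun a => ?_) ?_
      · exact Subtype.ext (by rw [Subgroup.coe_pow, sq]; exact hsq a a.2)
      · obtain ⟨a, ha⟩ := exists_prime_orderOf_dvd_card' (G := A.map φ) 2 (by rw [hcard]; norm_num)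
        exact ha ▸ Monoid.order_dvd_exponent a
  refine le_antisymm (fun g hg => ?_) fun a ha => Subgroup.mem_centralizer_iff.2 fun b hb =>
    congrArg Subtype.val (hA.1.is_comm.comm ⟨b, hb⟩ ⟨a, ha⟩)
  have h1 := key g fun a ha => (Subgroup.mem_centralizer_iff.1 hg a ha).symm
  have h2 : g ∈ (A.map φ).comap φ := h1
  rwa [Subgroup.comap_map_eq, QuotientGroup.ker_mk', sup_eq_left.2 hle] at h2

end Cfsg.Agent.S1236
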