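import Cfsg.Statements.S1244
import Cfsg.Agent.Lib.Involutions.TransferControl
import Cfsg.Agent.Lib.Transfer.Fusion
import Cfsg.Agent.Lib.Involutions.Basic

set_option autoImplicit false
open Cfsg

namespace Cfsg.Agent.S1244

open Subgroup

theorem exists_index_two_of_hom {G A : Type*} [Group G] [Finite G] [CommGroup A] (hA : IsPGroup 2 A)
    (φ : G →* A) {g : G} (hg : φ g ≠ 1) : ∃ H : Subgroup G, H.index = 2 := by
  have : Finite φ.range := Finite.of_surjective _ φ.rangeRestrict_surjective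
  obtain ⟨k, hk⟩ := IsPGroup.iff_card.1 (hA.to_subgroup φ.range)
  have hk0 : k ≠ 0 := by
    rintro rfl
    rw [pow_zero, Subgroup.card_eq_one] at hk
    exact hg (by simpa [hk] using (show φ g ∈ φ.range from ⟨g, rfl⟩))
  obtain ⟨H, hH⟩ := Sylow.exists_subgroup_card_pow_prime 2 (n := k - 1) (G := φ.range)
    (by rw [hk]; exact pow_dvd_pow 2 (Nat.sub_le _ _))
  refine ⟨H.comap φ.rangeRestrict, ?_⟩
  rw [Subgroup.index_comap_of_surjective _ φ.rangeRestrict_surjective]
  have h1 := H.card_mul_index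
  rw [hH, hk] at h1
  refine Nat.eq_of_mul_eq_mul_left (Nat.two_pow_pos (k - 1)) (h1.trans ?_)
  rw [← pow_succ, Nat.sub_add_cancel (Nat.pos_of_ne_zero hk0)]

theorem prod_mem_iff {A ι : Type*} [CommGroup A] {W : Subgroup A} (f : ι → A) (s : Finset ι)
    (h : ∀ i ∈ s, ∀ j ∈ s, f i * f j ∈ W) (hout : ∀ i ∈ s, f i ∉ W) :
    (∏ i ∈ s, f i) ∈ W ↔ Even s.card := by
  classical
  have key : ∀ u : Finset ι, u ⊆ s → (Even u.card → (∏ i ∈ u, f i) ∈ W) ∧
      (¬ Even u.card → ∀ b ∈ s, (∏ i ∈ u, f i) * f b ∈ W) := by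
    intro u
    induction u using Finset.induction with
    | empty => exact fun _ => ⟨fun _ => by simp, fun h => absurd (by simp) h⟩
    | insert a u ha ih =>
      intro hsub
      have has := hsub (Finset.mem_insert_self a u)
      obtain ⟨h1, h2⟩ := ih ((Finset.subset_insert a u).trans hsub)
      rw [Finset.prod_insert ha, Finset.card_insert_of_notMem ha, Nat.even_add_one]
      refine ⟨fun hev => by rw [mul_comm]; exact h2 hev a has, fun hev b hb => ?_⟩
      rw [mul_comm (f a), mul_assoc]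
      exact mul_mem (h1 (not_not.1 hev)) (h a has b hb)
  obtain ⟨h1, h2⟩ := key s subset_rfl
  refine ⟨fun hp => by_contra fun hev => ?_, h1⟩
  rcases s.eq_empty_or_nonempty with rfl | ⟨b, hb⟩
  · exact hev (by simp)
  · exact hout b hb ((Subgroup.mul_mem_cancel_left W hp).1 (h2 hev b hb))

/-- Let G be a finite group with no subgroup of index 2 whose Sylow 2-subgroup S is commutative, and let R ≤ S be a subgroup whose 2-rank is exactly one less than the 2-rank r of S. Then every involution of S is conjugate, by an element of N_G(S), to an element of R. -/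
theorem result {G : Type*} [Group G] [Finite G] (hG : ∀ H : Subgroup G, H.index ≠ 2) (S : Sylow 2 G) (hS : IsMulCommutative (S : Subgroup G)) (r : ℕ) (hr1 : 1 ≤ r) (hSr : Cfsg.PRankLE 2 r (S : Subgroup G) ∧ ¬ Cfsg.PRankLE 2 (r - 1) (S : Subgroup G)) (R : Subgroup G) (hRS : R ≤ S) (hRr : Cfsg.PRankLE 2 (r - 1) R ∧ (r = 1 ∨ ¬ Cfsg.PRankLE 2 (r - 2) R)) (t : G) (ht : orderOf t = 2) (htS : t ∈ S) : ∃ n ∈ Subgroup.normalizer ((S : Subgroup G) : Set G), n * t * n⁻¹ ∈ R := by
  classical
  have : Fact (Nat.Prime 2) := ⟨Nat.prime_two⟩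
  letI : CommGroup (S : Subgroup G) :=
    { (inferInstance : Group (S : Subgroup G)) with mul_comm := hS.is_comm.comm }
  have hcomm : ∀ x ∈ (S : Subgroup G), ∀ y ∈ (S : Subgroup G), x * y = y * x := fun x hx y hy =>
    congrArg Subtype.val (hS.is_comm.comm ⟨x, hx⟩ ⟨y, hy⟩)
  let V : Subgroup (S : Subgroup G) := (powMonoidHom 2 : (S : Subgroup G) →* _).ker
  have hVmem : ∀ x, x ∈ V ↔ x ^ 2 = 1 := fun x => Iff.rfl
  have hVp : IsPGroup 2 V := S.2.to_subgroup V
  obtain ⟨a, hacard⟩ := IsPGroup.iff_card.1 hVp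
  have hVle : Nat.card V ≤ 2 ^ r := hSr.1 V
    ⟨⟨fun u v => Subtype.ext (hS.is_comm.comm _ _)⟩⟩ fun u hu => hu
  have hVge : 2 ^ (r - 1) < Nat.card V := by
    by_contra hge
    refine hSr.2 fun A _ hA => ?_
    exact (Subgroup.card_le_of_le (fun u hu => (hVmem u).2 (hA u hu))).trans (not_lt.1 hge)
  let W : Subgroup (S : Subgroup G) := V ⊓ R.subgroupOf S
  obtain ⟨b, hbcard⟩ := IsPGroup.iff_card.1 (S.2.to_subgroup W)
  have hWle : Nat.card W ≤ 2 ^ (r - 1) := by
    have h := hRr.1 ((W.map (S : Subgroup G).subtype).subgroupOf R)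
      ⟨⟨fun u v => Subtype.ext (Subtype.ext (hcomm _ (hRS u.1.2) _ (hRS v.1.2)))⟩⟩
      (by
        rintro ⟨u, hu⟩ ⟨w, hw, e⟩
        refine Subtype.ext ?_
        show (u : G) ^ 2 = 1
        rw [← show (w : G) = u from e, ← SubmonoidClass.coe_pow, (hVmem w).1 hw.1, OneMemClass.coe_one])
    rwa [Nat.card_congr (Subgroup.subgroupOfEquivOfLe (by
      rintro _ ⟨w, hw, rfl⟩; exact hw.2)).toEquiv,
      Subgroup.card_map_of_injective (Subgroup.subtype_injective _)] at h
  have hWge : 2 ^ (r - 1) ≤ Nat.card W := by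
    rcases hRr.2 with rfl | hne
    · have : 0 < Nat.card W := Nat.card_pos
      rw [Nat.sub_self, pow_zero]; omega
    · by_contra hlt
      apply hne
      intro A _ hA
      let f : A → W := fun u => ⟨⟨((u : R) : G), hRS (u : R).2⟩,
        (hVmem _).2 (Subtype.ext (show ((u : R) : G) ^ 2 = 1 by rw [← SubmonoidClass.coe_pow, hA u u.2]; rfl)), (u : R).2⟩
      have hf : Function.Injective f := fun u v e => by
        have := congrArg (fun x : W => ((x : (S : Subgroup G)) : G)) e
        exact Subtype.ext (Subtype.ext this)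
      refine (Nat.card_le_card_of_injective f hf).trans ?_
      rw [hbcard] at hlt ⊢
      have : b < r - 1 := (Nat.pow_lt_pow_iff_right one_lt_two).1 (not_le.1 hlt)
      exact Nat.pow_le_pow_right two_pos (by omega)
  have hpair : ∀ x ∈ V, ∀ y ∈ V, x ∉ W → y ∉ W → x * y ∈ W := by
    intro x hx y hy hxW hyW
    have h2 : (W.subgroupOf V).index = 2 := by
      have h := (W.subgroupOf V).card_mul_index
      rw [Nat.card_congr (Subgroup.subgroupOfEquivOfLe (inf_le_left : W ≤ V)).toEquiv] at h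
      have hV : Nat.card V = 2 ^ r := by
        rw [hacard] at hVle hVge ⊢
        have h1 := (Nat.pow_le_pow_iff_right one_lt_two).1 hVle
        have h3 := (Nat.pow_lt_pow_iff_right one_lt_two).1 hVge
        congr 1; omega
      rw [le_antisymm hWle hWge, hV] at h
      refine Nat.eq_of_mul_eq_mul_left (Nat.two_pow_pos (r - 1)) (h.trans ?_)
      rw [← pow_succ, Nat.sub_add_cancel hr1]
    exact (Subgroup.mul_mem_iff_of_index_two h2 (a := ⟨x, hx⟩) (b := ⟨y, hy⟩)).2
      (iff_of_false hxW hyW)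
  by_contra hno
  push Not at hno
  set N := Subgroup.normalizer ((S : Subgroup G) : Set G)
  let act : N → ↥(S : Subgroup G) → ↥(S : Subgroup G) := fun n v =>
    ⟨(n : G) * v * (n : G)⁻¹, (Subgroup.mem_normalizer_iff.1 n.2 _).1 v.2⟩
  let t₀ : (S : Subgroup G) := ⟨t, htS⟩
  have := Fintype.ofFinite N
  set Γ : Finset (S : Subgroup G) := Finset.univ.image fun n : N => act n t₀ with hΓ
  have hΓV : ∀ x ∈ Γ, x ∈ V ∧ x ∉ W := by
    intro x hx
    obtain ⟨n, -, rfl⟩ := Finset.mem_image.1 hx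
    refine ⟨(hVmem _).2 (Subtype.ext ?_), fun h => hno n n.2 h.2⟩
    show ((act n t₀ : (S : Subgroup G)) : G) ^ 2 = 1
    show ((n : G) * t * (n : G)⁻¹) ^ 2 = 1
    rw [conj_pow, ← ht, pow_orderOf_eq_one, mul_one, mul_inv_cancel]
  have hodd : ¬ Even Γ.card := by
    intro hev
    let St : Subgroup N :=
      (Subgroup.centralizer ({t} : Set G)).subgroupOf N
    have hcardΓ : Γ.card = St.index := by
      have e : N ⧸ St ≃ {x // x ∈ Γ} := by
        refine Equiv.ofBijective (fun q => ⟨act q.out t₀,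
          Finset.mem_image.2 ⟨_, Finset.mem_univ _, rfl⟩⟩) ⟨fun p q h => ?_, fun ⟨x, hx⟩ => ?_⟩
        · rw [← p.out_eq, ← q.out_eq]
          refine QuotientGroup.eq.2 ?_
          have h' : (p.out : G) * t * (p.out : G)⁻¹ = (q.out : G) * t * (q.out : G)⁻¹ :=
            congrArg (fun x : {x // x ∈ Γ} => ((x : (S : Subgroup G)) : G)) h
          rw [Subgroup.mem_subgroupOf, Subgroup.mem_centralizer_singleton_iff, Subgroup.coe_mul,
            Subgroup.coe_inv]
          calc (p.out : G)⁻¹ * q.out * t = (p.out : G)⁻¹ * ((q.out : G) * t * (q.out : G)⁻¹) * q.out := by group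
            _ = (p.out : G)⁻¹ * ((p.out : G) * t * (p.out : G)⁻¹) * q.out := by rw [h']
            _ = t * ((p.out : G)⁻¹ * q.out) := by group
        · obtain ⟨n, -, rfl⟩ := Finset.mem_image.1 hx
          refine ⟨(n : N ⧸ St), Subtype.ext (Subtype.ext ?_)⟩
          obtain ⟨c, hc⟩ := QuotientGroup.mk_out_eq_mul St n
          show ((n : N ⧸ St).out : G) * t * ((n : N ⧸ St).out : G)⁻¹ = (n : G) * t * (n : G)⁻¹
          rw [hc, Subgroup.coe_mul]
          have := Subgroup.mem_centralizer_singleton_iff.1 (Subgroup.mem_subgroupOf.1 c.2)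
          calc (n : G) * (c : N) * t * ((n : G) * (c : N))⁻¹
              = (n : G) * ((c : N) * t) * ((c : N) : G)⁻¹ * (n : G)⁻¹ := by group
            _ = _ := by rw [this]; group
      rw [← Fintype.card_coe, ← Nat.card_eq_fintype_card, ← Nat.card_congr e, Subgroup.index_eq_card]
    have hSt : (S : Subgroup G).subgroupOf N ≤ St := fun x hx =>
      Subgroup.mem_centralizer_singleton_iff.2 (hcomm _ hx t htS)
    exact (S.subtype (Subgroup.le_normalizer : (S : Subgroup G) ≤ N)).not_dvd_index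
      (((hcardΓ ▸ hev.two_dvd : 2 ∣ St.index)).trans (Subgroup.index_dvd_of_le hSt))
  set f : (S : Subgroup G) := ∏ x ∈ Γ, x with hf
  have hfW : f ∉ W := fun h => hodd ((prod_mem_iff (fun x => x) Γ
    (fun i hi j hj => hpair _ (hΓV i hi).1 _ (hΓV j hj).1 (hΓV i hi).2 (hΓV j hj).2)
    (fun i hi => (hΓV i hi).2)).1 h)
  have hfix : ∀ n : N, (n : G) * f * (n : G)⁻¹ = f := by
    intro n
    let ψ : (S : Subgroup G) →* (S : Subgroup G) :=
      MonoidHom.mk' (act n) fun u v => Subtype.ext (by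
        show (n : G) * (u * v) * (n : G)⁻¹ = (n : G) * u * (n : G)⁻¹ * ((n : G) * v * (n : G)⁻¹)
        group)
    have hψ : ψ f = f := by
      rw [hf, map_prod]
      refine Finset.prod_bij (fun x _ => ψ x) ?_ ?_ ?_ (fun _ _ => rfl)
      · intro x hx
        obtain ⟨k, -, rfl⟩ := Finset.mem_image.1 hx
        refine Finset.mem_image.2 ⟨n * k, Finset.mem_univ _, Subtype.ext ?_⟩
        show ((n : G) * k) * t * ((n : G) * k)⁻¹ = (n : G) * ((k : G) * t * (k : G)⁻¹) * (n : G)⁻¹
        group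
      · intro x _ y _ h
        exact Subtype.ext (mul_left_cancel (mul_right_cancel (congrArg Subtype.val h)))
      · intro x hx
        obtain ⟨k, -, rfl⟩ := Finset.mem_image.1 hx
        refine ⟨act (n⁻¹ * k) t₀, Finset.mem_image.2 ⟨_, Finset.mem_univ _, rfl⟩, Subtype.ext ?_⟩
        show (n : G) * (((n⁻¹ * k : N) : G) * t * ((n⁻¹ * k : N) : G)⁻¹) * (n : G)⁻¹ =
          (k : G) * t * (k : G)⁻¹
        rw [Subgroup.coe_mul, Subgroup.coe_inv]; group
    exact congrArg Subtype.val hψ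
  have key : ∀ (k : ℕ) (a : G) (ha : a * (f : G) ^ k * a⁻¹ ∈ (S : Subgroup G)),
      (MonoidHom.id (S : Subgroup G)) ⟨a * (f : G) ^ k * a⁻¹, ha⟩ =
        (MonoidHom.id (S : Subgroup G)) ⟨(f : G), f.2⟩ ^ k := by
    intro k a ha
    have hsing : ∀ v ∈ (S : Subgroup G), ∀ x ∈ S, (fun y => x * y * x⁻¹) '' ({v} : Set G) = {v} :=
      fun v hv x hx => by
        rw [Set.image_singleton, hcomm x hx v hv, mul_inv_cancel_right]
    obtain ⟨n, hn, he⟩ := Cfsg.Agent.Transfer.Fusion.burnside_fusion_set S (X := {(f : G) ^ k})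
      (Y := {a * (f : G) ^ k * a⁻¹}) (hsing _ (pow_mem f.2 k)) (hsing _ ha) (g := a)
      (by rw [Set.image_singleton])
    rw [Set.image_singleton, Set.singleton_eq_singleton_iff] at he
    refine Subtype.ext ?_
    show a * (f : G) ^ k * a⁻¹ = ((f ^ k : (S : Subgroup G)) : G)
    rw [← he, SubmonoidClass.coe_pow, ← conj_pow, hfix ⟨n, hn⟩]
  have h1 := Cfsg.Agent.Involutions.TransferControl.transfer_eq_pow (MonoidHom.id _) f.2 key
  obtain ⟨H, hH⟩ := exists_index_two_of_hom (A := (S : Subgroup G)) S.2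
    (MonoidHom.transfer (MonoidHom.id (S : Subgroup G))) (g := (f : G)) (by
      rw [h1]
      intro h2
      refine hfW ?_
      have hc : (orderOf f).Coprime (S : Subgroup G).index := by
        obtain ⟨k, hk⟩ := IsPGroup.iff_orderOf.1 S.2 f
        rw [hk]
        exact (Nat.prime_two.coprime_iff_not_dvd.2 S.not_dvd_index).pow_left k
      have : f = 1 := orderOf_eq_one_iff.1 (Nat.eq_one_of_dvd_coprimes hc dvd_rfl
        (orderOf_dvd_of_pow_eq_one h2))
      rw [this]; exact one_mem W)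
  exact hG H hH

end Cfsg.Agent.S1244
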