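import Cfsg.Statements.S1246
import Cfsg.Agent.Lib.CharP.CharP
import Cfsg.Agent.Lib.CharP.FittingAction
import Cfsg.Agent.Lib.Transfer.Frobenius

set_option autoImplicit false
open Cfsg

namespace Cfsg.Agent.S1246

open Subgroup

/-- `F*(X)` is a `p`-group iff `X` has characteristic `p`. -/
theorem charP_iff_genFitting {X : Type*} [Group X] [Finite X] {p : ℕ} [Fact p.Prime] :
    IsPGroup p ↥(Cfsg.generalizedFittingSubgroup X) ↔
      centralizer (Cfsg.pCore p X : Set X) ≤ Cfsg.pCore p X := by
  constructor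
  · intro h
    have hle : Cfsg.generalizedFittingSubgroup X ≤ Cfsg.pCore p X := Cfsg.Agent.Cores.le_pCore h
    exact (centralizer_le hle).trans
      ((Cfsg.Agent.Components.Fitting.centralizer_genFitting_le (G := X)).trans hle)
  · intro h
    rw [Cfsg.Agent.CharP.genFitting_eq_pCore_iff.2 h]
    exact Cfsg.Agent.Cores.pCore_isPGroup p

theorem step {G : Type*} [Group G] [Finite G] {p : ℕ} [Fact p.Prime] (U V : Subgroup G) (hVU : V ≤ U)
    (hU : IsPGroup p U) (hUV : U ≤ normalizer (V : Set G))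
    (h : centralizer (Cfsg.pCore p ↥(centralizer (V : Set G)) : Set ↥(centralizer (V : Set G))) ≤
      Cfsg.pCore p ↥(centralizer (V : Set G))) :
    centralizer (Cfsg.pCore p ↥(centralizer (U : Set G)) : Set ↥(centralizer (U : Set G))) ≤
      Cfsg.pCore p ↥(centralizer (U : Set G)) := by
  set H := centralizer (V : Set G) with hH
  set C := centralizer (U : Set G) with hC
  have hCH : C ≤ H := centralizer_le hVU
  set O := (Cfsg.pCore p ↥H).map H.subtype with hO
  have hUH : U ≤ normalizer (H : Set G) := fun u hu => by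
    have h1 : ∀ w ∈ U, ∀ c ∈ H, w * c * w⁻¹ ∈ H := by
      intro w hw c hc
      refine mem_centralizer_iff.2 fun v hv => ?_
      have h2 : w⁻¹ * v * w ∈ V := by
        have := (mem_normalizer_iff.1 (hUV (inv_mem hw)) v).1 hv
        rwa [inv_inv] at this
      have h3 := mem_centralizer_iff.1 hc _ h2
      calc v * (w * c * w⁻¹) = w * ((w⁻¹ * v * w) * c) * w⁻¹ := by group
        _ = w * (c * (w⁻¹ * v * w)) * w⁻¹ := by rw [h3]
        _ = _ := by group
    refine mem_normalizer_iff.2 fun c => ⟨h1 u hu c, fun hc => ?_⟩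
    have := h1 _ (inv_mem hu) _ hc
    rwa [show u⁻¹ * (u * c * u⁻¹) * u⁻¹⁻¹ = c by group] at this
  have hUO : U ≤ normalizer (O : Set G) :=
    Cfsg.Agent.CharP.le_normalizer_map_subtype_of_characteristic hUH _
  have hHO : H ≤ normalizer (O : Set G) :=
    Cfsg.Agent.CharP.le_normalizer_map_subtype_of_characteristic le_normalizer _
  have hOp : IsPGroup p O := (Cfsg.Agent.Cores.pCore_isPGroup p).map _
  have hQC : O ⊓ centralizer (U : Set G) ≤ C := inf_le_right
  have hQn : ((O ⊓ centralizer (U : Set G)).subgroupOf C).Normal := by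
    constructor
    intro a ha c
    rw [mem_subgroupOf] at ha ⊢
    refine ⟨(mem_normalizer_iff.1 (hHO (hCH c.2)) _).1 ha.1, (c * a * c⁻¹ : ↥C).2⟩
  have hQ : (O ⊓ centralizer (U : Set G)).subgroupOf C ≤ Cfsg.pCore p ↥C :=
    Cfsg.Agent.Cores.le_pCore ((hOp.to_le inf_le_left).comap_subtype)
  set K := centralizer (Cfsg.pCore p ↥C : Set ↥C) with hK
  refine Cfsg.Agent.Cores.le_pCore (Cfsg.Agent.CharP.isPGroup_of_forall_coprime fun x hx hcop => ?_)
  have hxO : zpowers (x : G) ≤ centralizer (O : Set G) := by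
    refine Cfsg.Agent.Coprime.le_centralizer_of_pxq (P := U) hU ?_ hOp ?_ hUO ?_ ?_
    · rw [Nat.card_zpowers, orderOf_coe]; exact hcop
    · rw [le_centralizer_iff, zpowers_le]; exact x.2
    · exact zpowers_le.2 (hHO (hCH x.2))
    · intro q hq
      refine mem_centralizer_iff.2 fun y hy => ?_
      obtain ⟨k, rfl⟩ := mem_zpowers_iff.1 hy
      have h1 : Commute (x : G) q := (congrArg Subtype.val
        (mem_centralizer_iff.1 hx ⟨q, hQC hq⟩ (hQ hq))).symm
      exact (h1.zpow_left k).eq
  have h2 : (⟨(x : G), hCH x.2⟩ : ↥H) ∈ centralizer (Cfsg.pCore p ↥H : Set ↥H) :=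
    mem_centralizer_iff.2 fun y hy => Subtype.ext
      (mem_centralizer_iff.1 (hxO (mem_zpowers _)) _ ⟨y, hy, rfl⟩)
  have h3 : (x : G) ∈ O := ⟨_, h h2, rfl⟩
  exact Subtype.ext (Cfsg.Agent.CharP.eq_one_of_mem_pgroup hOp h3
    (by rw [orderOf_coe]; exact hcop))

theorem charP_mono {G : Type*} [Group G] [Finite G] {p : ℕ} [Fact p.Prime] (U : Subgroup G)
    (hU : IsPGroup p U) : ∀ (d : ℕ) (V : Subgroup G), Nat.card U - Nat.card V ≤ d → V ≤ U →
    centralizer (Cfsg.pCore p ↥(centralizer (V : Set G)) : Set ↥(centralizer (V : Set G))) ≤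
      Cfsg.pCore p ↥(centralizer (V : Set G)) →
    centralizer (Cfsg.pCore p ↥(centralizer (U : Set G)) : Set ↥(centralizer (U : Set G))) ≤
      Cfsg.pCore p ↥(centralizer (U : Set G)) := by
  intro d
  induction d with
  | zero =>
    intro V hd hVU h
    obtain rfl : V = U := eq_of_le_of_card_ge hVU (by omega)
    exact h
  | succ d ih =>
    intro V hd hVU h
    rcases eq_or_lt_of_le hVU with rfl | hlt
    · exact h
    have hW := Cfsg.Agent.Transfer.Frobenius.lt_inf_normalizer hU hlt
    have hcard : Nat.card V < Nat.card (U ⊓ normalizer (V : Set G) : Subgroup G) := by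
      by_contra hge
      exact hW.ne (eq_of_le_of_card_ge hW.le (not_lt.1 hge))
    exact ih _ (by omega) inf_le_left
      (step _ V hW.le (hU.to_le inf_le_left) inf_le_right h)

/-- Let V ≤ U be p-subgroups of the finite group G. If the generalized Fitting subgroup of C_G(V) is a p-group, then so is that of C_G(U). -/
theorem result {G : Type*} [Group G] [Finite G] {p : ℕ} [Fact p.Prime] (U V : Subgroup G) (hVU : V ≤ U) (hU : IsPGroup p U) (hV : IsPGroup p ↥(Cfsg.generalizedFittingSubgroup ↥(Subgroup.centralizer (V : Set G)))) : IsPGroup p ↥(Cfsg.generalizedFittingSubgroup ↥(Subgroup.centralizer (U : Set G))) := by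
  exact charP_iff_genFitting.2 (charP_mono U hU _ V le_rfl hVU (charP_iff_genFitting.1 hV))

end Cfsg.Agent.S1246
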