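import Cfsg.Statements.S1248
import Cfsg.Agent.Lib.Involutions.SylowPSUThree
-- import your own Cfsg.Agent.* helpers here

set_option autoImplicit false
open Cfsg

namespace Cfsg.Agent.S1248

/-- Let F be a field with 16 elements and S a Sylow 2-subgroup of PSU(3) over F (the unitary group U₃(4)). Then |S| = 64; the centre Z(S) is a Klein four-group and coincides with the subgroup generated by the involutions of S and with the derived subgroup; and every element of S ⧸ Z(S) squares to the identity, S ⧸ Z(S) having order 16. -/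
theorem result {F : Type*} [Field F] [Fintype F] (hF : Fintype.card F = 16) (S : Sylow 2 (Cfsg.PSU 3 F 4)) : Nat.card S = 64 ∧ IsKleinFour (Subgroup.center (S : Subgroup (Cfsg.PSU 3 F 4))) ∧ Subgroup.center (S : Subgroup (Cfsg.PSU 3 F 4)) = Subgroup.closure {x : (S : Subgroup (Cfsg.PSU 3 F 4)) | orderOf x = 2} ∧ Subgroup.center (S : Subgroup (Cfsg.PSU 3 F 4)) = commutator (S : Subgroup (Cfsg.PSU 3 F 4)) ∧ Nat.card ((S : Subgroup (Cfsg.PSU 3 F 4)) ⧸ Subgroup.center (S : Subgroup (Cfsg.PSU 3 F 4))) = 16 ∧ ∀ x : (S : Subgroup (Cfsg.PSU 3 F 4)) ⧸ Subgroup.center (S : Subgroup (Cfsg.PSU 3 F 4)), x ^ 2 = 1 := by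
  have hF2 : Fintype.card F = (2 ^ 2) ^ 2 := by rw [hF]; norm_num
  haveI : Fact (Nat.Prime 2) := ⟨Nat.prime_two⟩
  haveI : CharP F 2 := charP_of_card_eq_prime_pow (p := 2) (f := 4) (by rw [hF]; norm_num)
  obtain ⟨B⟩ := Cfsg.Agent.Involutions.SylowPSUThree.exists_base (F := F) (n := 2) hF2
  obtain ⟨e₀⟩ := Cfsg.Agent.Involutions.SylowPSUThree.sylow_equiv hF2 B S
  obtain ⟨e⟩ : Nonempty (Cfsg.Agent.Involutions.SylowPSUThree.heis hF2 B ≃*
      (S : Subgroup (Cfsg.PSU 3 F 4))) := ⟨e₀⟩
  have hc : ∀ s, e s ∈ Subgroup.center (S : Subgroup (Cfsg.PSU 3 F 4)) ↔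
      s ∈ Subgroup.center (Cfsg.Agent.Involutions.SylowPSUThree.heis hF2 B) := fun s => by
    rw [Subgroup.mem_center_iff, Subgroup.mem_center_iff]
    constructor
    · intro h g
      exact e.injective (by rw [map_mul, map_mul, h])
    · intro h g
      obtain ⟨g, rfl⟩ := e.surjective g
      rw [← map_mul, ← map_mul, h]
  have hinv : ∀ x ∈ Subgroup.center (S : Subgroup (Cfsg.PSU 3 F 4)), x * x = 1 := fun x hx => by
    obtain ⟨s, rfl⟩ := e.surjective x
    rw [← map_mul, Cfsg.Agent.Involutions.SylowPSUThree.isPow_two hF2 B s ((hc s).1 hx), map_one]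
  have hcard : Nat.card S = 64 :=
    (Nat.card_congr e.toEquiv).symm.trans
      ((Cfsg.Agent.Involutions.SylowPSUThree.card_heis hF2 B).trans (by norm_num))
  have hcc : Nat.card (Subgroup.center (S : Subgroup (Cfsg.PSU 3 F 4))) = 4 := by
    rw [← Nat.card_congr (Subgroup.centerCongr e).toEquiv,
      Cfsg.Agent.Involutions.SylowPSUThree.card_center hF2 B]
    norm_num
  refine ⟨hcard, ?_, ?_, ?_, ?_, ?_⟩
  · refine ⟨hcc, ?_⟩
    refine Nat.dvd_antisymm (Monoid.exponent_dvd_of_forall_pow_eq_one fun x => Subtype.ext (by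
      rw [sq]; exact hinv _ x.2)) ?_
    haveI : Nontrivial (Subgroup.center (S : Subgroup (Cfsg.PSU 3 F 4))) :=
      Finite.one_lt_card_iff_nontrivial.1 (by omega)
    obtain ⟨x, hx⟩ := exists_ne (1 : Subgroup.center (S : Subgroup (Cfsg.PSU 3 F 4)))
    have h2 : orderOf x = 2 := orderOf_eq_prime (Subtype.ext (by rw [sq]; exact hinv _ x.2)) hx
    exact (dvd_of_eq h2.symm).trans (Monoid.order_dvd_exponent x)
  · refine le_antisymm (fun x hx => ?_) ((Subgroup.closure_le _).2 fun x hx => ?_)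
    · rcases eq_or_ne x 1 with rfl | hx1
      · exact one_mem _
      · exact Subgroup.subset_closure (orderOf_eq_prime (by rw [sq]; exact hinv x hx) hx1)
    · obtain ⟨s, rfl⟩ := e.surjective x
      refine (hc s).2 (Cfsg.Agent.Involutions.SylowPSUThree.involution_central hF2 B (e.injective ?_))
      rw [map_mul, map_one, ← sq]
      exact (congrArg (e s ^ ·) hx).symm.trans (pow_orderOf_eq_one _)
  · have hcom : (commutator (Cfsg.Agent.Involutions.SylowPSUThree.heis hF2 B)).map e.toMonoidHom =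
        commutator (S : Subgroup (Cfsg.PSU 3 F 4)) := by
      rw [commutator_def, Subgroup.map_commutator, ← MonoidHom.range_eq_map,
        MonoidHom.range_eq_top.2 e.surjective, commutator_def]
    rw [← hcom, Cfsg.Agent.Involutions.SylowPSUThree.commutator_eq hF2 B]
    ext x
    obtain ⟨s, rfl⟩ := e.surjective x
    rw [hc s]
    exact ⟨fun h => ⟨s, h, rfl⟩, fun ⟨t, ht, h⟩ => e.injective h ▸ ht⟩
  · have h := Subgroup.card_eq_card_quotient_mul_card_subgroup
      (Subgroup.center (S : Subgroup (Cfsg.PSU 3 F 4)))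
    rw [hcard, hcc] at h
    omega
  · intro x
    induction x using QuotientGroup.induction_on with
    | _ x =>
      obtain ⟨s, rfl⟩ := e.surjective x
      rw [← QuotientGroup.mk_pow, QuotientGroup.eq_one_iff, sq, ← map_mul]
      exact (hc _).2 (Cfsg.Agent.Involutions.SylowPSUThree.sq_mem_center hF2 B s)

end Cfsg.Agent.S1248
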