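import Cfsg.Statements.S1249


set_option autoImplicit false
open Cfsg

namespace Cfsg.Agent.S1249

/-- Let P and Q be Sylow p-subgroups of the finite group G both containing the subgroup A. If A is strongly closed in P, then A is strongly closed in Q. -/
theorem result {G : Type*} [Group G] [Finite G] {p : ℕ} [Fact p.Prime] (P Q : Sylow p G) (A : Subgroup G) (hAQ : A ≤ Q) (hA : Cfsg.IsStronglyClosed A (P : Subgroup G)) : Cfsg.IsStronglyClosed A (Q : Subgroup G) := by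
  obtain ⟨g, hg⟩ := MulAction.exists_smul_eq G P Q
  have toP : ∀ x ∈ Q, g⁻¹ * x * g ∈ P := by
    intro x hx
    rw [← hg, ← SetLike.mem_coe, Sylow.coe_smul] at hx
    obtain ⟨y, hy, rfl⟩ := hx
    simpa [MulAut.smul_def, mul_assoc] using hy
  have hgA : ∀ a ∈ A, g⁻¹ * a * g ∈ A := by
    intro a ha
    have := hA.2 a ha g⁻¹ (by rw [inv_inv]; exact toP a (hAQ ha))
    rwa [inv_inv] at this
  have hgA' : A.map (MulAut.conj g⁻¹).toMonoidHom = A := by
    refine Subgroup.eq_of_le_of_card_ge ?_ (le_of_eq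
      (Nat.card_congr (A.equivMapOfInjective _ (MulAut.conj g⁻¹).injective).toEquiv))
    rintro _ ⟨a, ha, rfl⟩
    show g⁻¹ * a * g⁻¹⁻¹ ∈ A
    rw [inv_inv]; exact hgA a ha
  refine ⟨hAQ, fun x hx h hh => ?_⟩
  have h2 := hA.2 x hx (g⁻¹ * h) (by
    rw [show g⁻¹ * h * x * (g⁻¹ * h)⁻¹ = g⁻¹ * (h * x * h⁻¹) * g by group]
    exact toP _ hh)
  rw [← hgA'] at h2
  obtain ⟨a, ha, e⟩ := h2
  have e' : g⁻¹ * a * g⁻¹⁻¹ = g⁻¹ * h * x * (g⁻¹ * h)⁻¹ := e
  have : h * x * h⁻¹ = a := by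
    calc h * x * h⁻¹ = g * (g⁻¹ * h * x * (g⁻¹ * h)⁻¹) * g⁻¹ := by group
      _ = g * (g⁻¹ * a * g⁻¹⁻¹) * g⁻¹ := by rw [e']
      _ = a := by group
  rw [this]; exact ha

end Cfsg.Agent.S1249
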