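import Cfsg.Statements.S1250
import Cfsg.Agent.Lib.Transfer.Fusion

set_option autoImplicit false
open Cfsg

namespace Cfsg.Agent.S1250

/-- Let S be a Sylow p-subgroup of the finite group G, A ≤ S strongly closed in S, and N a normal subgroup. Then the image of A in G ⧸ N is strongly closed in the image of S (which is a Sylow p-subgroup of G ⧸ N). -/
theorem result {G : Type*} [Group G] [Finite G] {p : ℕ} [Fact p.Prime] (S : Sylow p G) (A : Subgroup G) (hA : Cfsg.IsStronglyClosed A (S : Subgroup G)) (N : Subgroup G) [N.Normal] : Cfsg.IsStronglyClosed (A.map (QuotientGroup.mk' N)) ((S : Subgroup G).map (QuotientGroup.mk' N)) := by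
  refine ⟨Subgroup.map_mono hA.1, ?_⟩
  rintro _ ⟨x, hx, rfl⟩ q hq
  obtain ⟨g, rfl⟩ := QuotientGroup.mk'_surjective N q
  rw [← map_inv, ← map_mul, ← map_mul] at hq ⊢
  set y := g * x * g⁻¹ with hy
  have hyK : y ∈ N ⊔ (S : Subgroup G) := by
    rw [sup_comm]
    have : y ∈ ((S : Subgroup G).map (QuotientGroup.mk' N)).comap (QuotientGroup.mk' N) := hq
    rwa [Subgroup.comap_map_eq, QuotientGroup.ker_mk'] at this
  have hB : IsPGroup p (Subgroup.zpowers y) := by
    rw [hy, show g * x * g⁻¹ = (MulAut.conj g).toMonoidHom x from rfl, ← MonoidHom.map_zpowers]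
    exact (S.2.to_le (Subgroup.zpowers_le.mpr (hA.1 hx))).map _
  obtain ⟨k, hk, hkle⟩ := Transfer.Fusion.exists_conj_le_of_isPGroup (K := N ⊔ (S : Subgroup G)) S le_sup_right hB
    (Subgroup.zpowers_le.mpr hyK)
  obtain ⟨n, hn, s, hs, rfl⟩ := Subgroup.mem_sup_of_normal_left.mp hk
  have hkyS : n * s * y * (n * s)⁻¹ ∈ (S : Subgroup G) :=
    hkle ⟨y, Subgroup.mem_zpowers y, rfl⟩
  have ha := hA.2 x hx (n * s * g) (by
    rw [show n * s * g * x * (n * s * g)⁻¹ = n * s * (g * x * g⁻¹) * (n * s)⁻¹ by group, ← hy]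
    exact hkyS)
  rw [show n * s * g * x * (n * s * g)⁻¹ = n * s * (g * x * g⁻¹) * (n * s)⁻¹ by group, ← hy] at ha
  -- remove the conjugation by `s`
  have hsA : s⁻¹ * (n * s * y * (n * s)⁻¹) * s ∈ A := by
    have := hA.2 _ ha s⁻¹ (by
      rw [inv_inv]; exact S.mul_mem (S.mul_mem (S.inv_mem hs) hkyS) hs)
    rwa [inv_inv] at this
  refine ⟨_, hsA, ?_⟩
  have hn1 : QuotientGroup.mk' N n = 1 := (QuotientGroup.eq_one_iff n).mpr hn
  simp only [map_mul, map_inv, hn1]
  group

end Cfsg.Agent.S1250
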