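import Cfsg.Statements.S1255
import Cfsg.Agent.Lib.Involutions.DihedralSylow

set_option autoImplicit false
open Cfsg

namespace Cfsg.Agent.S1255

open Cfsg.Agent.Involutions

/-- Let X be a finite group whose Sylow 2-subgroup S is dihedral of order 2m ≥ 4. Then X has no subgroup of index 2 and no isolated involution if and only if either all involutions of X are conjugate, or for every Klein four-subgroup U ≤ S the index |N_X(U) : C_X(U)| equals 3 when |S| = 4 and equals 6 when |S| > 4. -/
theorem result {X : Type*} [Group X] [Finite X] (S : Sylow 2 X) (m : ℕ) (hm : 2 ≤ m) (eS : (S : Subgroup X) ≃* DihedralGroup m) : ((∀ H : Subgroup X, H.index ≠ 2) ∧ (∀ z : X, ¬ Cfsg.IsIsolatedInvolution z)) ↔ ((∀ a b : X, orderOf a = 2 → orderOf b = 2 → IsConj a b) ∨ (∀ U : Subgroup X, U ≤ S → IsKleinFour U → (Subgroup.centralizer (U : Set X)).relIndex (Subgroup.normalizer (U : Set X)) = (if Nat.card S = 4 then 3 else 6))) := by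
  have hm' := DihedralSylow.two_dvd S eS hm
  have hm0 : m ≠ 0 := by omega
  constructor
  · rintro ⟨hG, -⟩
    exact Or.inl fun a b ha hb => (DihedralSylow.isConj_z_of_no_index_two S eS hm' hm0 hG ha).trans
      (DihedralSylow.isConj_z_of_no_index_two S eS hm' hm0 hG hb).symm
  · intro h
    refine DihedralSylow.fusion_simple_of_one_class S eS hm' hm0 ?_
    rcases h with h | h
    · exact h
    · have h2 : ∀ t : X, orderOf t = 2 → IsConj t (DihedralSylow.z S eS) := fun t ht =>
        DihedralSylow.isConj_z_of_relIndex S eS hm' hm0 (fun U hUS hU => by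
          rw [h U hUS hU]; split_ifs <;> norm_num) ht
      exact fun a b ha hb => (h2 a ha).trans (h2 b hb).symm

end Cfsg.Agent.S1255
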