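import Cfsg.Statements.S1256
import Cfsg.Agent.Lib.Involutions.DihedralSylow

set_option autoImplicit false
open Cfsg

namespace Cfsg.Agent.S1256

open Cfsg.Agent.Involutions

theorem exists_conj_le {X : Type*} [Group X] [Finite X] (S : Sylow 2 X) {U : Subgroup X}
    (hU : IsKleinFour U) : ∃ x : X, U.map (MulAut.conj x).toMonoidHom ≤ S := by
  have hp : IsPGroup 2 U := IsPGroup.of_card (n := 2) (by rw [hU.card_four]; rfl)
  obtain ⟨g, -, hg⟩ := Cfsg.Agent.Transfer.Fusion.exists_conj_le_of_isPGroup (K := ⊤) S le_top hp le_top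
  exact ⟨g, hg⟩

/-- Let X be a finite group whose Sylow 2-subgroup S is dihedral of order 2m ≥ 4. If |S| = 4, any two Klein four-subgroups of X are conjugate; if |S| > 4, there are Klein four-subgroups U₁, U₂ of X that are not conjugate, and every Klein four-subgroup of X is conjugate to U₁ or to U₂. -/
theorem result {X : Type*} [Group X] [Finite X] (S : Sylow 2 X) (m : ℕ) (hm : 2 ≤ m) (eS : (S : Subgroup X) ≃* DihedralGroup m) : (Nat.card S = 4 → ∀ U V : Subgroup X, IsKleinFour U → IsKleinFour V → (∃ x : X, U.map (MulAut.conj x).toMonoidHom = V)) ∧ (4 < Nat.card S → ∃ U₁ U₂ : Subgroup X, IsKleinFour U₁ ∧ IsKleinFour U₂ ∧ ¬ (∃ x : X, U₁.map (MulAut.conj x).toMonoidHom = U₂) ∧ ∀ V : Subgroup X, IsKleinFour V → (∃ x : X, V.map (MulAut.conj x).toMonoidHom = U₁) ∨ (∃ x : X, V.map (MulAut.conj x).toMonoidHom = U₂)) := by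
  have hm' := DihedralSylow.two_dvd S eS hm
  have hm0 : m ≠ 0 := by omega
  constructor
  · intro h4 U V hU hV
    obtain ⟨x, hx⟩ := exists_conj_le S hU
    obtain ⟨y, hy⟩ := exists_conj_le S hV
    have key : ∀ W : Subgroup X, IsKleinFour W → W ≤ S → W = S := fun W hW hWS =>
      Subgroup.eq_of_le_of_card_ge hWS (by rw [hW.card_four]; omega)
    have hmapK : ∀ (W : Subgroup X) (z : X), IsKleinFour W →
        IsKleinFour (W.map (MulAut.conj z).toMonoidHom) := fun W z hW =>
      (TwoGroups.isKleinFour_iff _).2 ⟨by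
        rw [Cfsg.Agent.Transfer.Fusion.card_map_conj]; exact hW.card_four, by
        rintro _ ⟨w, hw, rfl⟩
        rw [← map_mul, ((TwoGroups.isKleinFour_iff _).1 hW).2 w hw, map_one]⟩
    refine ⟨y⁻¹ * x, ?_⟩
    rw [Cfsg.Agent.Transfer.Fusion.map_conj_mul, key _ (hmapK U x hU) hx,
      ← key _ (hmapK V y hV) hy, Cfsg.Agent.Transfer.Fusion.map_conj_inv_cancel]
  · intro h4
    have hm2 : 2 < m := by
      rw [Nat.card_congr eS.toEquiv, DihedralGroup.nat_card] at h4; omega
    have hm4 := DihedralSylow.four_dvd S eS hm2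
    refine ⟨_, _, DihedralSylow.four_isKleinFour S eS hm' hm0 0,
      DihedralSylow.four_isKleinFour S eS hm' hm0 1,
      fun ⟨g, hg⟩ => DihedralSylow.four_not_conj S eS hm' hm4 hm0 g hg, fun V hV => ?_⟩
    obtain ⟨x, hx⟩ := exists_conj_le S hV
    have hK : IsKleinFour (V.map (MulAut.conj x).toMonoidHom) :=
      (TwoGroups.isKleinFour_iff _).2 ⟨by
        rw [Cfsg.Agent.Transfer.Fusion.card_map_conj]; exact hV.card_four, by
        rintro _ ⟨w, hw, rfl⟩
        rw [← map_mul, ((TwoGroups.isKleinFour_iff _).1 hV).2 w hw, map_one]⟩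
    obtain ⟨i, hi⟩ := DihedralSylow.exists_eq_four S eS hm' hm0 hK hx
    obtain ⟨s, hs | hs⟩ := DihedralSylow.four_conj_cases S eS hm' hm0 i
    · exact Or.inl ⟨s * x, by rw [Cfsg.Agent.Transfer.Fusion.map_conj_mul, hi, hs]⟩
    · exact Or.inr ⟨s * x, by rw [Cfsg.Agent.Transfer.Fusion.map_conj_mul, hi, hs]⟩

end Cfsg.Agent.S1256
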