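import Cfsg.Statements.S1266
import Cfsg.Agent.Lib.Components.Local

set_option autoImplicit false
open Cfsg

namespace Cfsg.Agent.S1266

/-- Let P be a p-subgroup of the finite group G and N = N_G(P). Then the preimage in N of E(N / O_{p'}(N)) centralizes O_p(G). -/
theorem result {G : Type*} [Group G] [Finite G] (p : ℕ) [Fact p.Prime] (P : Subgroup G) (hP : IsPGroup p ↥P) : (((Cfsg.layer (↥(Subgroup.normalizer ((P : Subgroup G) : Set G)) ⧸ Cfsg.pPrimeCore p ↥(Subgroup.normalizer ((P : Subgroup G) : Set G)))).comap (QuotientGroup.mk' (Cfsg.pPrimeCore p ↥(Subgroup.normalizer ((P : Subgroup G) : Set G))))).map (Subgroup.normalizer ((P : Subgroup G) : Set G)).subtype) ≤ Subgroup.centralizer (Cfsg.pCore p G : Set G) := by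
  open Subgroup Cfsg.Agent.Components.Basic Cfsg.Agent.Components.Fitting Cfsg.Agent.Components.PComponents Cfsg.Agent.Components.Local in
  set N := Subgroup.normalizer ((P : Subgroup G) : Set G)
  set q := QuotientGroup.mk' (Cfsg.pPrimeCore p ↥N)
  set W := (Cfsg.layer (↥N ⧸ Cfsg.pPrimeCore p ↥N)).comap q
  rw [Subgroup.map_le_iff_le_comap]
  have hperf : Group.IsPerfect (W.map q) := by
    rw [Subgroup.map_comap_eq_self_of_surjective (QuotientGroup.mk'_surjective _), Subgroup.isPerfect_iff]
    exact commutator_layer_self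
  refine le_of_pPrime_mem (Cores.pPrimeCore_card_coprime p) hperf fun x hx hord => ?_
  refine Subgroup.mem_comap.mpr (mem_centralizer_pCore hP (by rwa [Subgroup.coe_subtype, orderOf_coe]) ?_)
  rw [Subgroup.mem_centralizer_iff]
  rintro _ ⟨z, hz, rfl⟩
  exact congrArg Subtype.val (Subgroup.mem_centralizer_iff.mp (comap_layer_le_centralizer_pCore hx) z hz)

end Cfsg.Agent.S1266
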