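import Cfsg.Statements.S1267
import Cfsg.Agent.Lib.Components.Local

set_option autoImplicit false
open Cfsg

namespace Cfsg.Agent.S1267

/-- Let G be finite and P ≤ O_p(G). Then E(N_G(P)) = E(G). -/
theorem result {G : Type*} [Group G] [Finite G] (p : ℕ) [Fact p.Prime] (P : Subgroup G) (hP : P ≤ Cfsg.pCore p G) : (Cfsg.layer ↥(Subgroup.normalizer ((P : Subgroup G) : Set G))).map (Subgroup.normalizer ((P : Subgroup G) : Set G)).subtype = Cfsg.layer G := by
  open Subgroup Cfsg.Agent.Components.Basic Cfsg.Agent.Components.Fitting Cfsg.Agent.Components.PComponents Cfsg.Agent.Components.Local in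
  have hPp : IsPGroup p ↥P := (Cores.pCore_isPGroup p).to_le hP
  set N := Subgroup.normalizer ((P : Subgroup G) : Set G)
  have hC : Subgroup.centralizer (Cfsg.pCore p G : Set G) ≤ N :=
    (Subgroup.centralizer_le (by exact hP)).trans (Subgroup.centralizer_le_normalizer _)
  apply le_antisymm
  · rw [Subgroup.map_le_iff_le_comap]
    refine layer_le fun L hL => Subgroup.map_le_iff_le_comap.mp (le_layer ?_)
    have hle : L.map N.subtype ≤ Subgroup.centralizer (Cfsg.pCore p G : Set G) :=
      (Subgroup.map_mono (le_layer hL)).trans (map_layer_normalizer_le_centralizer hPp)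
    refine ⟨Subgroup.IsSubnormal.trans hle ?_
      (inferInstance : (Subgroup.centralizer (Cfsg.pCore p G : Set G)).Normal).isSubnormal,
      quasisimple_of_mulEquiv (L.equivMapOfInjective _ N.subtype_injective) hL.2⟩
    have h2 : ((L.map N.subtype).subgroupOf (Subgroup.centralizer (Cfsg.pCore p G : Set G))) =
        L.comap (Subgroup.inclusion hC) := by
      ext x
      constructor
      · rintro ⟨y, hy, hxy⟩
        rw [Subgroup.mem_comap]
        rwa [show Subgroup.inclusion hC x = y from Subtype.ext hxy.symm]
      · intro hx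
        exact ⟨_, hx, rfl⟩
    rw [h2]
    exact hL.1.comap _
  · refine layer_le fun L hL => ?_
    have hle : L ≤ N := ((le_layer hL).trans layer_le_centralizer_pCore).trans hC
    rw [← Subgroup.map_subgroupOf_eq_of_le hle]
    exact Subgroup.map_mono (le_layer (component_subgroupOf hL hle))

end Cfsg.Agent.S1267
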