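import Cfsg.Statements.S1271
import Cfsg.Agent.Lib.Components.LocalFix
import Cfsg.Agent.S1270
import Cfsg.Agent.Lib.Components.Layer

set_option autoImplicit false
open Cfsg

namespace Cfsg.Agent.S1271

open Subgroup Cfsg.Agent.Components.Basic Cfsg.Agent.Components.Fitting
  Cfsg.Agent.Components.PComponents Cfsg.Agent.Components.LocalFix in
private lemma centralizes_component {G : Type*} [Group G] [Finite G] (p : ℕ) [Fact p.Prime]
    (hO : Cfsg.pPrimeCore p G = ⊥)
    (h : ∀ L : Subgroup G, Cfsg.IsComponent L → ∀ H : Subgroup G, L ≤ H → (L.subgroupOf H).Normal →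
      ∀ [((Subgroup.centralizer (L : Set G)).subgroupOf H).Normal],
        Cfsg.IsBalancedFor p (↥H ⧸ (Subgroup.centralizer (L : Set G)).subgroupOf H))
    {x : G} (hx : orderOf x = p) {W : Subgroup G} (hWcop : (Nat.card W).Coprime p)
    (hWx : W ≤ centralizer ({x} : Set G)) (hxW : centralizer ({x} : Set G) ≤ normalizer (W : Set G))
    (hWO : W ≤ centralizer (Cfsg.pCore p G : Set G))
    {L : Subgroup G} (hL : Cfsg.IsComponent L) (hWL : W ≤ normalizer (L : Set G))
    (hxL : x ∈ normalizer (L : Set G)) (hxc : x ∉ centralizer (L : Set G)) :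
    ⁅L, W⁆ = ⊥ := by
  set T := W ⊔ zpowers x with hT
  have hTL : T ≤ normalizer (L : Set G) := sup_le hWL (zpowers_le.mpr hxL)
  have hTx : T ≤ centralizer ({x} : Set G) :=
    sup_le hWx (zpowers_le.mpr (mem_centralizer_singleton_iff.mpr rfl))
  set H := L ⊔ T with hH
  have hLH : L ≤ H := le_sup_left
  have hHL : H ≤ normalizer (L : Set G) := sup_le le_normalizer hTL
  have hxH : x ∈ H := mem_sup_right (mem_sup_right (mem_zpowers x))
  have hWH : W ≤ H := le_sup_left.trans le_sup_right
  haveI hDn : ((centralizer (L : Set G)).subgroupOf H).Normal := by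
    refine normal_subgroupOf_of_le_normalizer (hHL.trans (le_normalizer_iff.mpr fun g hg c hc => ?_))
    rw [mem_centralizer_iff]
    intro a ha
    have ha' : g⁻¹ * a * g ∈ L := (mem_normalizer_iff''.mp hg a).mp ha
    calc a * (g * c * g⁻¹) = g * ((g⁻¹ * a * g) * c) * g⁻¹ := by group
      _ = g * (c * (g⁻¹ * a * g)) * g⁻¹ := by rw [mem_centralizer_iff.mp hc _ ha']
      _ = g * c * g⁻¹ * a := by group
  set D := (centralizer (L : Set G)).subgroupOf H with hD
  set q := QuotientGroup.mk' D with hq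
  have hq1 : ∀ u : H, q u = 1 ↔ (u : G) ∈ centralizer (L : Set G) := fun u => QuotientGroup.eq_one_iff u
  set x' : H := ⟨x, hxH⟩ with hx'
  have hord : orderOf (q x') = p := by
    refine orderOf_eq_prime ?_ (fun h1 => hxc ((hq1 x').mp h1))
    rw [← map_pow, show x' ^ p = 1 from Subtype.ext (hx ▸ pow_orderOf_eq_one x), map_one]
  set C₀ := L ⊓ centralizer ({x} : Set G) with hC₀
  set V := C₀ ⊔ W with hV
  have hVH : V ≤ H := sup_le (inf_le_left.trans hLH) hWH
  have hVW : V ≤ normalizer (W : Set G) := sup_le (inf_le_right.trans hxW) le_normalizer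
  have hTV : T ≤ normalizer (V : Set G) := by
    have hWC : W ≤ normalizer (C₀ : Set G) :=
      le_trans (le_inf hWL (hWx.trans le_normalizer)) inf_normalizer_le_normalizer_inf
    have hxC : x ∈ normalizer (C₀ : Set G) := inf_normalizer_le_normalizer_inf
      ⟨hxL, le_normalizer (mem_centralizer_singleton_iff.mpr rfl)⟩
    refine sup_le ((le_sup_right : W ≤ V).trans le_normalizer) (zpowers_le.mpr ?_)
    have hxWn : x ∈ normalizer (W : Set G) := hxW (mem_centralizer_singleton_iff.mpr rfl)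
    rw [mem_normalizer_iff_map_conj_eq] at hxC hxWn ⊢
    rw [hV, Subgroup.map_sup]
    congr 1
  set Cb := centralizer ({q x'} : Set (↥H ⧸ D)) with hCb
  set Vb := (V.subgroupOf H).map q with hVb
  set Wb := (W.subgroupOf H).map q with hWb
  have hVC : Vb ≤ Cb := by
    rintro _ ⟨v, hv, rfl⟩
    rw [mem_centralizer_singleton_iff, ← map_mul, ← map_mul]
    congr 1
    exact Subtype.ext (mem_centralizer_singleton_iff.mp
      ((sup_le inf_le_right hWx : V ≤ centralizer ({x} : Set G)) hv))
  have hWV : Wb ≤ Vb := Subgroup.map_mono (fun u hu => mem_subgroupOf.mpr (mem_sup_right hu))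
  have hCV : Cb ≤ normalizer (Vb : Set (↥H ⧸ D)) := by
    intro y hy
    obtain ⟨⟨g, hg⟩, rfl⟩ := QuotientGroup.mk'_surjective D y
    obtain ⟨l, hl, u, hu, rfl⟩ := (Coprime.mem_sup_of_le_normalizer hTL).mp hg
    have hux := mem_centralizer_singleton_iff.mp (hTx hu)
    have hz1 : q (x' * ⟨l * u, hg⟩ * x'⁻¹ * (⟨l * u, hg⟩ : H)⁻¹) = 1 := by
      rw [map_mul, map_mul, map_mul, map_inv, map_inv,
        (mem_centralizer_singleton_iff.mp hy).symm, mul_inv_cancel_right, mul_inv_cancel]
    have hz2 : x * l * x⁻¹ * l⁻¹ ∈ centralizer (L : Set G) := by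
      have hc : u * x⁻¹ * u⁻¹ = x⁻¹ := by
        calc u * x⁻¹ * u⁻¹ = (u * x * u⁻¹)⁻¹ := by group
          _ = x⁻¹ := by rw [hux, mul_inv_cancel_right]
      have e : x * l * x⁻¹ * l⁻¹ = x * (l * u) * x⁻¹ * (l * u)⁻¹ := by
        calc x * l * x⁻¹ * l⁻¹ = x * l * (u * x⁻¹ * u⁻¹) * l⁻¹ := by rw [hc]
          _ = _ := by group
      rw [e]; exact (hq1 _).mp hz1
    set z := x * l * x⁻¹ * l⁻¹ with hz
    have hzL : z ∈ L := L.mul_mem ((mem_normalizer_iff.mp hxL l).mp hl) (L.inv_mem hl)
    have hzO : z ∈ Cfsg.pCore p G := by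
      rw [← fitting_eq_pCore hO]
      exact le_fitting_of_isSubnormal
        ((isSubnormal_map_subtype_iff hL.1 _).mpr (Subgroup.Normal.isSubnormal inferInstance))
        (@Group.nilpotent_of_mulEquiv _ _ _ _ (isNilpotent_of_isMulCommutative (Subgroup.center L))
          (equivMapOfInjective _ L.subtype L.subtype_injective))
        ⟨⟨z, hzL⟩, Subgroup.mem_center_iff.mpr fun w =>
          Subtype.ext (mem_centralizer_iff.mp hz2 w w.2), rfl⟩
    have hxl : x * l * x⁻¹ = z * l := by rw [hz]; group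
    have hxl' : x * l⁻¹ * x⁻¹ = l⁻¹ * z⁻¹ := by
      calc x * l⁻¹ * x⁻¹ = (x * l * x⁻¹)⁻¹ := by group
        _ = _ := by rw [hxl, mul_inv_rev]
    have hkey : ∀ c ∈ C₀, l * c * l⁻¹ ∈ C₀ := by
      intro c hc
      refine ⟨L.mul_mem (L.mul_mem hl hc.1) (L.inv_mem hl), mem_centralizer_singleton_iff.mpr ?_⟩
      have hlc : l * c * l⁻¹ ∈ L := L.mul_mem (L.mul_mem hl hc.1) (L.inv_mem hl)
      have hcx : x * c * x⁻¹ = c := by rw [← mem_centralizer_singleton_iff.mp hc.2, mul_inv_cancel_right]
      have e : x * (l * c * l⁻¹) * x⁻¹ = l * c * l⁻¹ := by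
        calc x * (l * c * l⁻¹) * x⁻¹ = (x * l * x⁻¹) * (x * c * x⁻¹) * (x * l⁻¹ * x⁻¹) := by group
          _ = z * (l * c * l⁻¹) * z⁻¹ := by rw [hxl, hxl', hcx]; group
          _ = l * c * l⁻¹ := by rw [← mem_centralizer_iff.mp hz2 _ hlc, mul_inv_cancel_right]
      calc l * c * l⁻¹ * x = (x * (l * c * l⁻¹) * x⁻¹) * x := by rw [e]
        _ = x * (l * c * l⁻¹) := by group
    have hkeyW : ∀ w ∈ W, l * w * l⁻¹ ∈ V := by
      intro w hw
      have hwl : w * l⁻¹ * w⁻¹ ∈ L := (mem_normalizer_iff.mp (hWL hw) _).mp (L.inv_mem hl)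
      have hc : l * w * l⁻¹ * w⁻¹ ∈ C₀ := by
        have hcl : l * w * l⁻¹ * w⁻¹ ∈ L := by
          have := L.mul_mem hl hwl; simpa [mul_assoc] using this
        refine ⟨hcl, mem_centralizer_singleton_iff.mpr ?_⟩
        have hwx : x * w * x⁻¹ = w := by
          rw [← mem_centralizer_singleton_iff.mp (hWx hw), mul_inv_cancel_right]
        have hwx' : x * w⁻¹ * x⁻¹ = w⁻¹ := by
          calc x * w⁻¹ * x⁻¹ = (x * w * x⁻¹)⁻¹ := by group
            _ = _ := by rw [hwx]
        have hwz : z * w = w * z := mem_centralizer_iff.mp (hWO hw) z hzO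
        have e : x * (l * w * l⁻¹ * w⁻¹) * x⁻¹ = l * w * l⁻¹ * w⁻¹ := by
          calc x * (l * w * l⁻¹ * w⁻¹) * x⁻¹
              = (x * l * x⁻¹) * (x * w * x⁻¹) * (x * l⁻¹ * x⁻¹) * (x * w⁻¹ * x⁻¹) := by group
            _ = z * l * w * l⁻¹ * (z⁻¹ * w⁻¹) := by rw [hxl, hxl', hwx, hwx']; group
            _ = z * l * w * l⁻¹ * (w⁻¹ * z⁻¹) := by
              rw [← mul_inv_rev w z, ← mul_inv_rev z w, hwz]
            _ = z * (l * w * l⁻¹ * w⁻¹) * z⁻¹ := by group
            _ = _ := by rw [← mem_centralizer_iff.mp hz2 _ hcl, mul_inv_cancel_right]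
        calc l * w * l⁻¹ * w⁻¹ * x = (x * (l * w * l⁻¹ * w⁻¹) * x⁻¹) * x := by rw [e]
          _ = x * (l * w * l⁻¹ * w⁻¹) := by group
      have : l * w * l⁻¹ = (l * w * l⁻¹ * w⁻¹) * w := by group
      rw [this]; exact mul_mem (mem_sup_left hc) (mem_sup_right hw)
    have hlV : l ∈ normalizer (V : Set G) := by
      have hle : V.map (MulAut.conj l).toMonoidHom ≤ V := by
        rw [map_le_iff_le_comap]
        exact sup_le (fun c hc => mem_sup_left (hkey c hc)) hkeyW
      rw [mem_normalizer_iff_map_conj_eq]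
      exact Subgroup.eq_of_le_of_card_ge hle
        (le_of_eq (Subgroup.card_map_of_injective (MulAut.conj l).injective).symm)
    exact le_normalizer_map q ⟨⟨l * u, hg⟩,
      le_normalizer_comap H.subtype (show l * u ∈ normalizer (V : Set G) from mul_mem hlV (hTV hu)), rfl⟩
  have hVbW : Vb ≤ normalizer (Wb : Set (↥H ⧸ D)) := by
    refine le_trans (Subgroup.map_mono ?_) (le_normalizer_map q)
    exact fun v hv => le_normalizer_comap H.subtype (hVW hv)
  have hsub : (Wb.subgroupOf Cb).IsSubnormal := by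
    have h2 : (Vb.subgroupOf Cb).Normal := normal_subgroupOf_of_le_normalizer hCV
    refine IsSubnormal.trans (fun u hu => hWV hu) (normal_subgroupOf_of_le_normalizer ?_).isSubnormal
      h2.isSubnormal
    exact fun u hu => le_normalizer_comap Cb.subtype (hVbW hu)
  have hWbc : (Nat.card (Wb.subgroupOf Cb)).Coprime p := by
    rw [Nat.card_congr (subgroupOfEquivOfLe (hWV.trans hVC)).toEquiv]
    refine Nat.Coprime.coprime_dvd_left ((W.subgroupOf H).card_map_dvd q) ?_
    rwa [Nat.card_congr (subgroupOfEquivOfLe hWH).toEquiv]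
  have hWb1 : Wb ≤ Cfsg.pPrimeCore p (↥H ⧸ D) := by
    refine le_trans ?_ (h L hL H hLH (normal_subgroupOf_of_le_normalizer hHL) (q x') hord)
    exact (map_subgroupOf_eq_of_le (hWV.trans hVC)).symm.le.trans
      (Subgroup.map_mono (le_pPrimeCore_of_isSubnormal hsub hWbc))
  set R := ((Cfsg.pPrimeCore p (↥H ⧸ D)).comap q).map H.subtype with hR
  have hRH : R ≤ H := map_subtype_le _
  have hRn : H ≤ normalizer (R : Set G) := by
    refine le_trans ?_ (le_normalizer_map H.subtype)
    rw [normalizer_eq_top, ← MonoidHom.range_eq_map, range_subtype]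
  have hWR : W ≤ R := fun w hw => ⟨⟨w, hWH hw⟩, hWb1 ⟨⟨w, hWH hw⟩, hw, rfl⟩, rfl⟩
  have hQn : (R.subgroupOf L).Normal := normal_subgroupOf_of_le_normalizer (hLH.trans hRn)
  have hQ : R.subgroupOf L ≤ Subgroup.center ↥L := by
    refine (quasisimple_eq_top_or_le_center_of_normal hL.2 _).resolve_left fun htop => ?_
    obtain ⟨S⟩ := (inferInstance : Nonempty (Sylow p L))
    have hSc : (S : Subgroup L) ≤ Subgroup.center ↥L := by
      intro z hz
      obtain ⟨⟨w, hw⟩, hwR, hwz⟩ := subgroupOf_eq_top.mp htop z.2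
      change w = (z : G) at hwz
      subst hwz
      obtain ⟨k, hk⟩ := S.isPGroup' ⟨z, hz⟩
      have hk' : (⟨z, hw⟩ : H) ^ p ^ k = 1 :=
        Subtype.ext (congrArg Subtype.val (congrArg Subtype.val hk) : (z : G) ^ p ^ k = 1)
      have h1 : q ⟨z, hw⟩ = 1 := by
        rw [← orderOf_eq_one_iff]
        exact Nat.eq_one_of_dvd_coprimes ((Cores.pPrimeCore_card_coprime p).pow_right k)
          (orderOf_dvd_natCard _ hwR) (orderOf_dvd_of_pow_eq_one (by rw [← map_pow, hk', map_one]))
      rw [Subgroup.mem_center_iff]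
      exact fun u => Subtype.ext (mem_centralizer_iff.mp ((hq1 _).mp h1) u u.2)
    exact quasisimple_center_ne_top hL.2 (component_eq_top_of_coprime_index hO hL _
      (((Fact.out : p.Prime).coprime_iff_not_dvd.mpr
        fun hd => S.not_dvd_index (hd.trans (index_dvd_of_le hSc))).symm))
  refine commutator_eq_bot_of_perfect (component_commutator_self hL) ?_
  rw [commutator_eq_bot_iff_le_centralizer]
  have h1 : ⁅L, W⁆ ≤ L := le_normalizer_iff_commutator_le_left.mp hWL
  have h2 : ⁅L, W⁆ ≤ R := (commutator_mono le_rfl hWR).trans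
    (le_normalizer_iff_commutator_le_right.mp (hLH.trans hRn))
  intro c hc
  rw [mem_centralizer_iff]
  intro a ha
  exact congrArg Subtype.val
    (Subgroup.mem_center_iff.mp (hQ (show (⟨c, h1 hc⟩ : L) ∈ R.subgroupOf L from h2 hc)) ⟨a, ha⟩)

/-- Let G be finite with O_{p'}(G) = 1. Suppose that for every component L of G and every subgroup H ≥ L in which L is normal, the quotient H / C_H(L) is balanced for the prime p. Then G is balanced for p. -/
theorem result {G : Type*} [Group G] [Finite G] (p : ℕ) [Fact p.Prime] (hO : Cfsg.pPrimeCore p G = ⊥) (h : ∀ L : Subgroup G, Cfsg.IsComponent L → ∀ H : Subgroup G, L ≤ H → (L.subgroupOf H).Normal → ∀ [((Subgroup.centralizer (L : Set G)).subgroupOf H).Normal], Cfsg.IsBalancedFor p (↥H ⧸ (Subgroup.centralizer (L : Set G)).subgroupOf H)) : Cfsg.IsBalancedFor p G := by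
  intro x hx
  rw [hO]
  open Subgroup in
  set W := Cfsg.centralizerPPrimeCore p x with hW
  open Subgroup in
  have hWcop : (Nat.card W).Coprime p := by
    rw [hW, Cfsg.centralizerPPrimeCore,
      Subgroup.card_map_of_injective (centralizer ({x} : Set G)).subtype_injective]
    exact Cfsg.Agent.Cores.pPrimeCore_card_coprime p
  have hWx : W ≤ Subgroup.centralizer ({x} : Set G) := Subgroup.map_subtype_le _
  have hxW : Subgroup.centralizer ({x} : Set G) ≤ Subgroup.normalizer (W : Set G) :=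
    le_trans Subgroup.le_normalizer (Cfsg.Agent.Components.LocalFix.normalizer_le_normalizer_pPrimeCore _)
  have hP : IsPGroup p (Subgroup.zpowers x) :=
    IsPGroup.iff_card.mpr ⟨1, by rw [Nat.card_zpowers, hx, pow_one]⟩
  -- `W` centralizes `O_p(G)`
  have hWO : W ≤ Subgroup.centralizer (Cfsg.pCore p G : Set G) := by
    intro w hw
    have hord : (orderOf w).Coprime p := Cfsg.Agent.Components.Local.coprime_orderOf_of_mem hWcop hw
    refine Cfsg.Agent.Components.Local.mem_centralizer_of_pxq hP (Cfsg.Agent.Cores.pCore_isPGroup p)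
      (by rw [Subgroup.normalizer_eq_top]; exact le_top) hord
      (by rw [Subgroup.normalizer_eq_top]; exact Subgroup.mem_top w)
      (by rw [Subgroup.zpowers_eq_closure, Subgroup.centralizer_closure]; exact hWx hw) ?_
    rw [Subgroup.mem_centralizer_iff]
    rintro u ⟨huO, huN⟩
    have hux : u * x * u⁻¹ * x⁻¹ ∈ Cfsg.pCore p G := by
      rw [mul_assoc, mul_assoc, ← mul_assoc x]
      exact mul_mem huO ((inferInstance : (Cfsg.pCore p G).Normal).conj_mem _ (inv_mem huO) x)
    have huz : u * x * u⁻¹ * x⁻¹ ∈ Subgroup.zpowers x :=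
      mul_mem ((Subgroup.mem_normalizer_iff.mp huN x).mp (Subgroup.mem_zpowers x))
        (inv_mem (Subgroup.mem_zpowers x))
    have hwc : ∀ v ∈ Subgroup.zpowers x, v * w = w * v := fun v hv =>
      Subgroup.mem_centralizer_iff.mp
        ((by rw [Subgroup.zpowers_eq_closure, Subgroup.centralizer_closure]; exact hWx hw :
          w ∈ Subgroup.centralizer ((Subgroup.zpowers x : Subgroup G) : Set G))) v hv
    -- `u` normalizes `C(x)`, hence `W`
    have huC : u ∈ Subgroup.normalizer (Subgroup.centralizer ({x} : Set G) : Set G) := by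
      have hcl : Subgroup.centralizer ({x} : Set G) =
          Subgroup.centralizer ((Subgroup.zpowers x : Subgroup G) : Set G) := by
        rw [Subgroup.zpowers_eq_closure, Subgroup.centralizer_closure]
      rw [hcl]
      exact (Subgroup.le_normalizer_iff.mpr fun g hg c hc => Subgroup.mem_centralizer_iff.mpr fun a ha => by
        have ha' : g⁻¹ * a * g ∈ Subgroup.zpowers x := (Subgroup.mem_normalizer_iff''.mp hg a).mp ha
        calc a * (g * c * g⁻¹) = g * ((g⁻¹ * a * g) * c) * g⁻¹ := by group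
          _ = g * (c * (g⁻¹ * a * g)) * g⁻¹ := by rw [Subgroup.mem_centralizer_iff.mp hc _ ha']
          _ = g * c * g⁻¹ * a := by group) huN
    have huW : u ∈ Subgroup.normalizer (W : Set G) :=
      Cfsg.Agent.Components.LocalFix.normalizer_le_normalizer_pPrimeCore _ huC
    have h1 : u * w * u⁻¹ * w⁻¹ ∈ W := mul_mem ((Subgroup.mem_normalizer_iff.mp huW w).mp hw) (inv_mem hw)
    have h2 : u * w * u⁻¹ * w⁻¹ ∈ Cfsg.pCore p G := by
      rw [mul_assoc, mul_assoc, ← mul_assoc w]
      exact mul_mem huO ((inferInstance : (Cfsg.pCore p G).Normal).conj_mem _ (inv_mem huO) w)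
    obtain ⟨k, hk⟩ := Cfsg.Agent.Cores.pCore_isPGroup p (⟨_, h2⟩ : Cfsg.pCore p G)
    have h3 : u * w * u⁻¹ * w⁻¹ = 1 := by
      rw [← orderOf_eq_one_iff]
      exact Nat.eq_one_of_dvd_coprimes (hWcop.pow_right k) (Subgroup.orderOf_dvd_natCard _ h1)
        (orderOf_dvd_of_pow_eq_one (congrArg Subtype.val hk))
    exact mul_inv_eq_iff_eq_mul.mp (mul_inv_eq_one.mp h3)
  -- `W` centralizes the layer
  have hWE : Cfsg.layer G ≤ Subgroup.centralizer (W : Set G) := by
    refine Cfsg.Agent.Components.Basic.layer_le fun L hL => ?_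
    rw [← Subgroup.commutator_eq_bot_iff_le_centralizer]
    by_cases hne : ⁅L, Subgroup.zpowers x⁆ = L
    · have hxL : x ∈ Subgroup.normalizer (L : Set G) :=
        Subgroup.le_normalizer_iff_commutator_le_left.mpr hne.le (Subgroup.mem_zpowers x)
      refine centralizes_component p hO h hx hWcop hWx hxW hWO hL ?_ hxL fun hc => ?_
      · intro w hw
        have := Cfsg.Agent.Components.LocalFix.centralizerPPrimeCore_le_fixer hO hx hw
        simp only [Cfsg.Agent.Components.LocalFix.fixer, Subgroup.mem_iInf] at this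
        exact this ⟨L, hL⟩
      · refine Cfsg.Agent.Components.Basic.component_ne_bot hL (hne ▸ ?_)
        rw [Subgroup.commutator_eq_bot_iff_le_centralizer, Subgroup.le_centralizer_iff]
        exact Subgroup.zpowers_le.mpr hc
    · exact Cfsg.Agent.S1270.result p hO x hx L hL hne
  have hWF : W ≤ Subgroup.centralizer (Cfsg.generalizedFittingSubgroup G : Set G) := by
    rw [Subgroup.le_centralizer_iff, Cfsg.generalizedFittingSubgroup,
      Cfsg.Agent.Components.PComponents.fitting_eq_pCore hO]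
    exact sup_le hWE (Subgroup.le_centralizer_iff.mp hWO)
  have hCn : (Subgroup.centralizer (Cfsg.generalizedFittingSubgroup G : Set G)).Normal := inferInstance
  have hle := Cfsg.Agent.Components.Fitting.centralizer_genFitting_le (G := G)
  haveI : IsMulCommutative ↥(Subgroup.centralizer (Cfsg.generalizedFittingSubgroup G : Set G)) :=
    ⟨⟨fun a b => Subtype.ext (Subgroup.mem_centralizer_iff.mp b.2 a.1 (hle a.2))⟩⟩
  have hWp : W ≤ Cfsg.pCore p G := hWF.trans (by
    rw [← Cfsg.Agent.Components.PComponents.fitting_eq_pCore hO]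
    exact Cfsg.Agent.Components.Fitting.le_fitting_of_isSubnormal hCn.isSubnormal
      (Cfsg.Agent.Components.Fitting.isNilpotent_of_isMulCommutative _))
  refine (Subgroup.eq_bot_iff_forall W).mpr (fun w hw => ?_) |>.le
  obtain ⟨k, hk⟩ := Cfsg.Agent.Cores.pCore_isPGroup p (⟨w, hWp hw⟩ : Cfsg.pCore p G)
  rw [← orderOf_eq_one_iff]
  exact Nat.eq_one_of_dvd_coprimes (hWcop.pow_right k) (Subgroup.orderOf_dvd_natCard _ hw)
    (orderOf_dvd_of_pow_eq_one (congrArg Subtype.val hk))

end Cfsg.Agent.S1271
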