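import Cfsg.Statements.S1273
import Cfsg.Agent.Lib.Components.Local

set_option autoImplicit false
open Cfsg

namespace Cfsg.Agent.S1273

/-- Let K be a p-component of the finite group X and N a normal subgroup of K whose index in K is prime to p. Then N = K. -/
theorem result {X : Type*} [Group X] [Finite X] (p : ℕ) [Fact p.Prime] (K : Subgroup X) (hK : Cfsg.IsPComponent p K) (N : Subgroup ↥K) [N.Normal] (hidx : (N.index).Coprime p) : N = ⊤ := by
  open Subgroup Cfsg.Agent.Components.Basic Cfsg.Agent.Components.Fitting Cfsg.Agent.Components.PComponents Cfsg.Agent.Components.Local in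
  have hle : K ≤ N.map K.subtype := by
    intro x hx
    have : pGen p ((K.map (QuotientGroup.mk' (Cfsg.pPrimeCore p X))).comap
        (QuotientGroup.mk' (Cfsg.pPrimeCore p X))) = K := (pcomp_eq_liftComp hK).symm
    have hgen : K ≤ pGen p K := by
      refine this.symm.le.trans ((Subgroup.closure_le _).mpr ?_)
      rintro y ⟨hy, k, hk⟩
      exact Subgroup.subset_closure ⟨this ▸ Subgroup.subset_closure ⟨hy, k, hk⟩, k, hk⟩
    refine (Subgroup.closure_le _).mpr ?_ (hgen hx)
    rintro y ⟨hy, k, hk⟩
    exact ⟨⟨y, hy⟩, mem_of_isSubnormal_of_coprime_index (Subgroup.Normal.isSubnormal inferInstance) hidx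
      (x := (⟨y, hy⟩ : ↥K)) (k := k) (Subtype.ext hk), rfl⟩
  rw [eq_top_iff]
  intro x _
  obtain ⟨y, hy, hxy⟩ := hle x.2
  rwa [← Subtype.ext hxy]

end Cfsg.Agent.S1273
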