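import Cfsg.Statements.S1275
import Cfsg.Agent.Lib.Components.Local

set_option autoImplicit false
open Cfsg

namespace Cfsg.Agent.S1275

/-- For a 2-component K of a finite group X, the quotient of K by its core O(K) is quasisimple. -/
theorem result {X : Type*} [Group X] [Finite X] (K : Subgroup X) (hK : Cfsg.IsPComponent 2 K) : Cfsg.IsQuasisimple (↥K ⧸ Cfsg.oddCore ↥K) := by
  open Subgroup Cfsg.Agent.Components.Basic Cfsg.Agent.Components.Fitting Cfsg.Agent.Components.PComponents Cfsg.Agent.Components.Local in
  set q := QuotientGroup.mk' (Cfsg.pPrimeCore 2 X)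
  set f := q.subgroupMap K
  have hker : f.ker = Cfsg.oddCore ↥K := by
    have h := congrArg (Subgroup.comap K.subtype) (pcomp_core hK)
    rw [Subgroup.comap_map_eq_self_of_injective K.subtype_injective, Subgroup.comap_inf] at h
    rw [Cfsg.oddCore, h]
    ext x
    rw [MonoidHom.mem_ker, ← Subtype.coe_inj]
    simp only [Subgroup.mem_inf, Subgroup.mem_comap, Subgroup.coe_subtype, SetLike.coe_mem, and_true]
    exact QuotientGroup.eq_one_iff (x : X)
  exact quasisimple_of_mulEquiv ((QuotientGroup.quotientKerEquivOfSurjective f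
    (q.subgroupMap_surjective K)).symm.trans (QuotientGroup.quotientMulEquivOfEq hker)) hK.2.1.2

end Cfsg.Agent.S1275
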