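import Cfsg.Statements.S1277
import Cfsg.Agent.Lib.Components.Local

set_option autoImplicit false
open Cfsg

namespace Cfsg.Agent.S1277

/-- For a finite group X with core O(X): the image of E(X) in X / O(X) is all of E(X / O(X)) if and only if every 2-component of X is a component, i.e. L_{2'}(X) ≤ E(X). -/
theorem result {X : Type*} [Group X] [Finite X] : (Cfsg.layer X).map (QuotientGroup.mk' (Cfsg.oddCore X)) = Cfsg.layer (X ⧸ Cfsg.oddCore X) ↔ Cfsg.pLayer 2 X ≤ Cfsg.layer X := by
  open Subgroup Cfsg.Agent.Components.Basic Cfsg.Agent.Components.Fitting Cfsg.Agent.Components.PComponents Cfsg.Agent.Components.Local in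
  set q := QuotientGroup.mk' (Cfsg.pPrimeCore 2 X) with hq
  constructor
  · intro h
    refine sSup_le fun K hK => ?_
    obtain ⟨L, hL, hLK⟩ : ∃ L, Cfsg.IsComponent L ∧ L.map q = K.map q := by
      by_contra hno
      push Not at hno
      have h1 : K.map q ≤ Subgroup.centralizer ((K.map q : Subgroup _) : Set _) := by
        refine (le_layer hK.2.1).trans ?_
        refine h.symm.le.trans (Subgroup.map_le_iff_le_comap.mpr (layer_le fun L hL => ?_))
        rcases component_le_or_map_isComponent (Cfsg.pPrimeCore 2 X) hL with h2 | h2
        · exact h2.trans ((QuotientGroup.ker_mk' _).symm.le.trans (Subgroup.ker_le_comap _ _))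
        · exact Subgroup.map_le_iff_le_comap.mp (Subgroup.commutator_eq_bot_iff_le_centralizer.mp
              (component_commutator_eq_bot_of_ne h2 hK.2.1 (hno L hL)))
      refine component_ne_bot hK.2.1 ?_
      rw [← component_commutator_self hK.2.1, Subgroup.commutator_eq_bot_iff_le_centralizer]
      exact h1
    rw [pcomp_eq_liftComp hK]
    refine le_trans (pGen_le_of_map_eq _ (Cores.pPrimeCore_card_coprime 2) ?_ hL.1 ?_) (le_layer hL)
    · rw [← hLK]
      exact Subgroup.le_comap_map _ _
    · rw [Subgroup.map_comap_eq_self_of_surjective (QuotientGroup.mk'_surjective _)]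
      exact hLK
  · intro h
    refine le_antisymm (map_layer_le _) ?_
    exact map_pLayer.symm.le.trans (Subgroup.map_mono h)

end Cfsg.Agent.S1277
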