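import Cfsg.Statements.S1278
import Cfsg.Agent.Lib.Components.Local

set_option autoImplicit false
open Cfsg

namespace Cfsg.Agent.S1278

/-- Let K ≠ L be 2-components of the finite group X. Then ⁅K, L⁆ ≤ O(K) ⊓ O(L), and if K is quasisimple then ⁅K, L⁆ = 1. -/
theorem result {X : Type*} [Group X] [Finite X] (K L : Subgroup X) (hK : Cfsg.IsPComponent 2 K) (hL : Cfsg.IsPComponent 2 L) (hne : K ≠ L) : ⁅K, L⁆ ≤ ((Cfsg.oddCore ↥K).map K.subtype) ⊓ ((Cfsg.oddCore ↥L).map L.subtype) ∧ (Cfsg.IsQuasisimple ↥K → ⁅K, L⁆ = ⊥) := by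
  open Subgroup Cfsg.Agent.Components.Basic Cfsg.Agent.Components.Fitting Cfsg.Agent.Components.PComponents Cfsg.Agent.Components.Local in
  rw [Cfsg.oddCore, Cfsg.oddCore, pcomp_core hK, pcomp_core hL]
  have h := commutator_pcomp_le_core hK hL hne
  refine ⟨le_inf (h.trans (le_inf inf_le_left (inf_le_right.trans inf_le_left)))
    (h.trans (le_inf inf_le_left (inf_le_right.trans inf_le_right))), fun hq => ?_⟩
  apply commutator_eq_bot_of_perfect (pcomp_perfect hK)
  rw [Subgroup.commutator_comm]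
  exact le_bot_iff.mp ((Subgroup.commutator_mono le_rfl
    (h.trans (le_inf inf_le_left (inf_le_right.trans inf_le_left)))).trans ((pcomp_isQuasisimple_iff hK).mp hq).le)

end Cfsg.Agent.S1278
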