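import Cfsg.Statements.S1280
import Cfsg.Agent.Lib.Components.Hyperplane
import Cfsg.Agent.Lib.Coprime.Action

set_option autoImplicit false
open Cfsg

namespace Cfsg.Agent.S1280

/-- Let θ be a solvable A-signalizer functor (A a noncyclic elementary abelian p-subgroup of the finite group G), and X, Y members of its family with Y ≤ N_G(X). Then X ⊔ Y (= XY) is again in the family. -/
theorem result {G : Type*} [Group G] [Finite G] (p : ℕ) [Fact p.Prime] (A : Subgroup G) (hA : Cfsg.IsElementaryAbelian p A) (hA2 : p ^ 2 ≤ Nat.card ↥A) (θ : G → Subgroup G) (hθ : Cfsg.IsSolvableSignalizerFunctor p A θ) (X Y : Subgroup G) (hX : X ∈ Cfsg.signalizerFamily p A θ) (hY : Y ∈ Cfsg.signalizerFamily p A θ) (hn : Y ≤ Subgroup.normalizer (X : Set G)) : X ⊔ Y ∈ Cfsg.signalizerFamily p A θ := by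
  obtain ⟨hXs, hXp, hXA, hXθ⟩ := hX
  obtain ⟨hYs, hYp, hYA, hYθ⟩ := hY
  have hp : p.Prime := Fact.out
  have hcard : Nat.card ↥(X ⊔ Y) ∣ Nat.card ↥X * Nat.card ↥Y := by
    have h1 : Nat.card ↥(X ⊔ Y) = Nat.card ↥X * X.relIndex (X ⊔ Y) := by
      rw [← Subgroup.relIndex_bot_left, ← Subgroup.relIndex_bot_left,
        Subgroup.relIndex_mul_relIndex ⊥ X (X ⊔ Y) bot_le le_sup_left]
    have hsub : Y.subgroupOf (Subgroup.normalizer (X : Set G)) ≤ ⊤ := le_top
    have h2 : X.relIndex (X ⊔ Y) = (X ⊓ Y).relIndex Y := by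
      rw [Subgroup.inf_relIndex_right]
      have : (X.subgroupOf (Subgroup.normalizer (X : Set G))).Normal := Subgroup.normal_in_normalizer
      have h := Subgroup.relIndex_sup_right (Y.subgroupOf (Subgroup.normalizer (X : Set G)))
        (X.subgroupOf (Subgroup.normalizer (X : Set G)))
      rw [← Subgroup.subgroupOf_sup hn Subgroup.le_normalizer,
        Subgroup.relIndex_subgroupOf (sup_le hn Subgroup.le_normalizer),
        Subgroup.relIndex_subgroupOf hn, sup_comm] at h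
      exact h
    rw [h1, h2]
    exact mul_dvd_mul_left _ (Subgroup.relIndex_dvd_card _ _)
  refine ⟨?_, fun h => (hp.dvd_mul.mp (h.trans hcard)).elim hXp hYp, ?_, ?_⟩
  · have : (X.subgroupOf (X ⊔ Y)).Normal :=
      Subgroup.normal_subgroupOf_of_le_normalizer (sup_le Subgroup.le_normalizer hn)
    rw [Group.isSolvable_iff_subgroup_quotient (X.subgroupOf (X ⊔ Y))]
    refine ⟨Group.isSolvable_of_isSolvable_injective
      (f := (Subgroup.subgroupOfEquivOfLe (le_sup_left : X ≤ X ⊔ Y)).toMonoidHom) (MulEquiv.injective _), ?_⟩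
    · refine Group.isSolvable_of_surjective
        (f := (QuotientGroup.mk' (X.subgroupOf (X ⊔ Y))).comp (Subgroup.inclusion (le_sup_right : Y ≤ X ⊔ Y))) ?_
      intro z
      obtain ⟨⟨w, hw⟩, rfl⟩ := QuotientGroup.mk'_surjective _ z
      obtain ⟨x, hx, y, hy, rfl⟩ := (Coprime.mem_sup_of_le_normalizer hn).mp hw
      refine ⟨⟨y, hy⟩, ?_⟩
      show QuotientGroup.mk' _ (⟨y, _⟩ : ↥(X ⊔ Y)) = QuotientGroup.mk' _ _
      rw [QuotientGroup.mk'_eq_mk']
      refine ⟨(⟨y, Subgroup.mem_sup_right hy⟩ : ↥(X ⊔ Y))⁻¹ * ⟨x * y, hw⟩, ?_, by simp⟩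
      rw [Subgroup.mem_subgroupOf]
      show y⁻¹ * (x * y) ∈ X
      have := (Subgroup.mem_normalizer_iff.mp (inv_mem (hn hy)) x).mp hx
      simpa [mul_assoc] using this
  · intro b hb u hu
    obtain ⟨x, hx, y, hy, rfl⟩ := (Coprime.mem_sup_of_le_normalizer hn).mp hu
    have : b * (x * y) * b⁻¹ = (b * x * b⁻¹) * (b * y * b⁻¹) := by simp [mul_assoc]
    rw [this]
    exact Subgroup.mul_mem_sup (hXA b hb x hx) (hYA b hb y hy)
  · intro a ha ha1
    rintro u ⟨hu, hua⟩
    obtain ⟨x, hx, y, hy, rfl⟩ := (Coprime.mem_sup_of_le_normalizer hn).mp hu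
    have hua' := Subgroup.mem_centralizer_singleton_iff.mp hua
    have hoa : orderOf a = p := Components.Hyperplane.orderOf_eq hA ha ha1
    have hmem : ∀ a' ∈ Subgroup.zpowers a, a' * y * a'⁻¹ * y⁻¹ ∈ X ⊓ Y := by
      intro a' ha'
      have ha'A : a' ∈ A := (Subgroup.zpowers_le.mpr ha) ha'
      have hy' : a' * y * a'⁻¹ ∈ Y := hYA a' ha'A y hy
      refine ⟨?_, Y.mul_mem hy' (Y.inv_mem hy)⟩
      have hc : a' * (x * y) * a'⁻¹ = x * y := by
        obtain ⟨m, rfl⟩ := Subgroup.mem_zpowers_iff.mp ha'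
        have hcom : Commute (a ^ m) (x * y) := (Commute.symm hua').zpow_left m
        rw [hcom.eq, mul_inv_cancel_right]
      have h1 : a' * y * a'⁻¹ = (a' * x * a'⁻¹)⁻¹ * (x * y) := by
        conv_rhs => rw [← hc]
        group
      have : a' * y * a'⁻¹ * y⁻¹ = (a' * x * a'⁻¹)⁻¹ * x := by rw [h1]; group
      rw [this]
      exact X.mul_mem (X.inv_mem (hXA a' ha'A x hx)) hx
    have hAY : Subgroup.zpowers a ≤ Subgroup.normalizer (Y : Set G) := by
      refine le_trans (Subgroup.zpowers_le.mpr ha) fun b hb => Subgroup.mem_normalizer_iff.mpr fun z =>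
        ⟨hYA b hb z, fun hz => ?_⟩
      have := hYA b⁻¹ (inv_mem hb) _ hz
      simpa [mul_assoc] using this
    have hAX : Subgroup.zpowers a ≤ Subgroup.normalizer (X : Set G) := by
      refine le_trans (Subgroup.zpowers_le.mpr ha) fun b hb => Subgroup.mem_normalizer_iff.mpr fun z =>
        ⟨hXA b hb z, fun hz => ?_⟩
      have := hXA b⁻¹ (inv_mem hb) _ hz
      simpa [mul_assoc] using this
    obtain ⟨c, hc, hcy⟩ := Coprime.exists_fixed_mod (A := Subgroup.zpowers a) (K := Y) (N := X ⊓ Y)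
      (by rw [Nat.card_zpowers, hoa]; exact hp.coprime_iff_not_dvd.mpr hYp)
      (Or.inr hYs) inf_le_right
      (le_trans (le_inf hn Subgroup.le_normalizer) Subgroup.inf_normalizer_le_normalizer_inf)
      (le_trans (le_inf hAX hAY) Subgroup.inf_normalizer_le_normalizer_inf) hy hmem
    have hca : c ∈ Subgroup.centralizer ({a} : Set G) := Subgroup.mem_centralizer_singleton_iff.mpr
      (Subgroup.mem_centralizer_iff.mp hc.2 a (Subgroup.mem_zpowers a)).symm
    have hxn : x * (y * c⁻¹) ∈ X ⊓ Subgroup.centralizer ({a} : Set G) := by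
      refine ⟨X.mul_mem hx ?_, ?_⟩
      · have h1 := (Subgroup.mem_normalizer_iff.mp (hn hy) _).mp (X.inv_mem hcy.1)
        simpa [mul_assoc] using h1
      · rw [← mul_assoc]
        exact Subgroup.mul_mem _ hua (Subgroup.inv_mem _ hca)
    have := (θ a).mul_mem (hXθ a ha ha1 hxn) (hYθ a ha ha1 ⟨hc.1, hca⟩)
    simpa [mul_assoc] using this

end Cfsg.Agent.S1280
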