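import Cfsg.Statements.S1281
import Cfsg.Agent.Lib.Components.Hyperplane
import Cfsg.Agent.Lib.Coprime.Action

set_option autoImplicit false
open Cfsg

namespace Cfsg.Agent.S1281

/-- Let θ be a solvable A-signalizer functor on the finite group G (A a noncyclic elementary abelian p-subgroup) and N a normal subgroup of order prime to p. Then for all non-identity a, b ∈ A, the image of θ a in G / N meets the centralizer of the image of b inside the image of θ b. -/
theorem result {G : Type*} [Group G] [Finite G] (p : ℕ) [Fact p.Prime] (A : Subgroup G) (hA : Cfsg.IsElementaryAbelian p A) (hA2 : p ^ 2 ≤ Nat.card ↥A) (θ : G → Subgroup G) (hθ : Cfsg.IsSolvableSignalizerFunctor p A θ) (N : Subgroup G) [N.Normal] (hN : ¬ p ∣ Nat.card ↥N) (a b : G) (ha : a ∈ A) (ha1 : a ≠ 1) (hb : b ∈ A) (hb1 : b ≠ 1) : (θ a).map (QuotientGroup.mk' N) ⊓ Subgroup.centralizer {QuotientGroup.mk' N b} ≤ (θ b).map (QuotientGroup.mk' N) := by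
  have hp : p.Prime := Fact.out
  obtain ⟨⟨hC, hd, hinv, hbal⟩, hsol⟩ := hθ
  have hn : Subgroup.zpowers b ≤ Subgroup.normalizer (θ a : Set G) := by
    refine le_trans (Subgroup.zpowers_le.mpr hb) fun c hc => Subgroup.mem_normalizer_iff.mpr fun z =>
      ⟨hinv a ha ha1 c hc z, fun hz => ?_⟩
    have := hinv a ha ha1 c⁻¹ (inv_mem hc) _ hz
    simpa [mul_assoc] using this
  have h := Coprime.map_inf_centralizer (QuotientGroup.mk' N) hn
    (by rw [Nat.card_zpowers, Components.Hyperplane.orderOf_eq hA hb hb1]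
        exact hp.coprime_iff_not_dvd.mpr (hd a ha ha1))
    (Or.inr (hsol a ha ha1))
  have e1 : Subgroup.centralizer (Subgroup.zpowers b : Set G) = Subgroup.centralizer ({b} : Set G) := by
    rw [Subgroup.zpowers_eq_closure, Subgroup.centralizer_closure]
  rw [e1, MonoidHom.map_zpowers, Subgroup.zpowers_eq_closure, Subgroup.centralizer_closure] at h
  exact h.symm.le.trans (Subgroup.map_mono (hbal a ha ha1 b hb hb1))

end Cfsg.Agent.S1281
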