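import Cfsg.Statements.S1285
import Cfsg.Agent.Lib.Components.Signalizer

set_option autoImplicit false
open Cfsg

namespace Cfsg.Agent.S1285

/-- Let θ be a solvable A-signalizer functor on the finite group G with A elementary abelian of rank at least 3, and suppose that for some prime q every θ a (a ∈ A non-identity) is a q-group. Then θ is complete. -/
theorem result {G : Type*} [Group G] [Finite G] (p : ℕ) [Fact p.Prime] (A : Subgroup G) (hA : Cfsg.IsElementaryAbelian p A) (hA3 : p ^ 3 ≤ Nat.card ↥A) (θ : G → Subgroup G) (hθ : Cfsg.IsSolvableSignalizerFunctor p A θ) (q : ℕ) [Fact q.Prime] (hq : ∀ a ∈ A, a ≠ 1 → IsPGroup q ↥(θ a)) : Cfsg.IsCompleteSignalizerFunctor p A θ := by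
  open Cfsg.Agent.Components.Signalizer in
  obtain ⟨Q, -, hQ⟩ := exists_isMaxQ_ge (q := q) (U := (⊥ : Subgroup G))
    (p := p) (A := A) (θ := θ)
    ⟨inferInstance, fun h => (Fact.out : p.Prime).one_lt.ne' (Nat.dvd_one.mp (by simpa using h)),
      fun b _ x hx => by simp_all, fun a _ _ x hx => by simp_all [Subgroup.mem_inf]⟩ (IsPGroup.of_bot)
  refine ⟨hθ.1, Q, hQ.1.2.2.1, hQ.1.2.1, fun a ha ha1 => le_antisymm (hQ.1.2.2.2 a ha ha1) ?_⟩
  obtain ⟨S, hS⟩ := Cfsg.Agent.Components.Signalizer.exists_sylow_inf_centralizer hA hA3 hθ hQ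
    (Subgroup.zpowers_le.mpr ha) (by simpa using ha1)
  revert hS S
  rw [Cfsg.Agent.Components.Signalizer.inf_zpowers hθ ha ha1]
  intro S hS
  have htop : (S : Subgroup ↥(θ a)) = ⊤ :=
    (S.is_maximal' ((hq a ha ha1).of_equiv Subgroup.topEquiv.symm) le_top).symm
  rw [htop, ← MonoidHom.range_eq_map, Subgroup.range_subtype] at hS
  exact hS ▸ inf_le_inf_left _ (Subgroup.centralizer_le
    (Set.singleton_subset_iff.mpr (Subgroup.mem_zpowers a)))

end Cfsg.Agent.S1285
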