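import Cfsg.Statements.S1286
import Mathlib.GroupTheory.Perm.Fin

set_option autoImplicit false
open Cfsg

namespace Cfsg.Agent.S1286

private def s : Equiv.Perm (Fin 5) := Equiv.swap 0 1
private def t : Equiv.Perm (Fin 5) := Equiv.swap 3 4
private def x : Equiv.Perm (Fin 5) := Equiv.swap 2 3 * Equiv.swap 3 4
private def y : Equiv.Perm (Fin 5) := Equiv.swap 0 1 * Equiv.swap 1 2

private def four : Subgroup (Equiv.Perm (Fin 5)) where
  carrier := {g | g = 1 ∨ g = s ∨ g = t ∨ g = s * t}
  one_mem' := Or.inl rfl
  mul_mem' := by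
    rintro a b (rfl | rfl | rfl | rfl) (rfl | rfl | rfl | rfl) <;> simp only [Set.mem_setOf_eq] <;> decide
  inv_mem' := by
    rintro a (rfl | rfl | rfl | rfl) <;> simp only [Set.mem_setOf_eq] <;> decide

private def three (z : Equiv.Perm (Fin 5)) (hz : z ^ 3 = 1) : Subgroup (Equiv.Perm (Fin 5)) where
  carrier := {g | g = 1 ∨ g = z ∨ g = z * z}
  one_mem' := Or.inl rfl
  mul_mem' := by
    have hz' : z * z * z = 1 := by rwa [pow_succ, pow_two] at hz
    rintro a b (rfl | rfl | rfl) (rfl | rfl | rfl) <;> simp only [Set.mem_setOf_eq, mul_one, one_mul] <;>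
      simp [← mul_assoc, hz']
  inv_mem' := by
    have hz' : z * z * z = 1 := by rwa [pow_succ, pow_two] at hz
    rintro a (rfl | rfl | rfl)
    · exact Or.inl inv_one
    · exact Or.inr (Or.inr (inv_eq_of_mul_eq_one_right (by rwa [← mul_assoc])))
    · exact Or.inr (Or.inl (inv_eq_of_mul_eq_one_right hz'))

private def theta (a : Equiv.Perm (Fin 5)) : Subgroup (Equiv.Perm (Fin 5)) :=
  if a = s then three x (by decide) else if a = t then three y (by decide) else ⊥

private lemma theta_s : theta s = three x (by decide) := by simp [theta]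
private lemma theta_t : theta t = three y (by decide) := by
  rw [theta, if_neg (by decide), if_pos rfl]
private lemma theta_st : theta (s * t) = ⊥ := by
  rw [theta, if_neg (by decide), if_neg (by decide)]


/-- There exist a finite group X, an elementary abelian subgroup A of order 4 and a solvable A-signalizer functor θ on X for the prime 2 which is not complete. -/
theorem result : ∃ (X : Type) (_ : Group X) (_ : Finite X) (A : Subgroup X) (θ : X → Subgroup X), Cfsg.IsElementaryAbelian 2 A ∧ Nat.card ↥A = 4 ∧ Cfsg.IsSolvableSignalizerFunctor 2 A θ ∧ ¬ Cfsg.IsCompleteSignalizerFunctor 2 A θ := by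
  refine ⟨Equiv.Perm (Fin 5), inferInstance, inferInstance, four, theta, ?_, ?_, ?_, ?_⟩
  · refine ⟨⟨⟨?_⟩⟩, ?_⟩
    · rintro ⟨a, ha⟩ ⟨b, hb⟩
      rcases ha with rfl | rfl | rfl | rfl <;> rcases hb with rfl | rfl | rfl | rfl <;>
        exact Subtype.ext (by decide +revert)
    · rintro a (rfl | rfl | rfl | rfl) <;> decide
  · show Nat.card {g : Equiv.Perm (Fin 5) // g = 1 ∨ g = s ∨ g = t ∨ g = s * t} = 4
    rw [Nat.card_eq_fintype_card]
    decide
  · refine ⟨⟨?_, ?_, ?_, ?_⟩, ?_⟩
    · rintro a (rfl | rfl | rfl | rfl) ha1 g hg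
      · exact absurd rfl ha1
      all_goals rw [Subgroup.mem_centralizer_singleton_iff]
      · rw [theta_s] at hg; rcases hg with rfl | rfl | rfl <;> decide
      · rw [theta_t] at hg; rcases hg with rfl | rfl | rfl <;> decide
      · rw [theta_st, Subgroup.mem_bot] at hg; subst hg; decide
    · have h3 : ∀ z (hz : z ^ 3 = 1), z ≠ 1 → z * z ≠ 1 → ¬ 2 ∣ Nat.card ↥(three z hz) := by
        intro z hz h1 h2 hd
        obtain ⟨⟨g, hg⟩, ho⟩ := exists_prime_orderOf_dvd_card' (G := ↥(three z hz)) 2 hd
        rw [← Subgroup.orderOf_coe] at ho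
        have hg2 : g ^ 2 = 1 := by rw [← ho]; exact pow_orderOf_eq_one g
        rcases hg with rfl | rfl | rfl
        · simp at ho
        · exact h2 (by rwa [pow_two] at hg2)
        · refine h1 ?_
          have hz' : z * z * z = 1 := by rwa [pow_succ, pow_two] at hz
          rwa [pow_two, ← mul_assoc, hz', one_mul] at hg2
      rintro a (rfl | rfl | rfl | rfl) ha1
      · exact absurd rfl ha1
      · rw [theta_s]; exact h3 _ _ (by decide) (by decide)
      · rw [theta_t]; exact h3 _ _ (by decide) (by decide)
      · rw [theta_st]; simp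
    · rintro a (rfl | rfl | rfl | rfl) ha1 b hb g hg
      · exact absurd rfl ha1
      · rw [theta_s] at hg ⊢
        rcases hb with rfl | rfl | rfl | rfl <;> rcases hg with rfl | rfl | rfl <;>
          (show _ = 1 ∨ _ = x ∨ _ = x * x) <;> decide
      · rw [theta_t] at hg ⊢
        rcases hb with rfl | rfl | rfl | rfl <;> rcases hg with rfl | rfl | rfl <;>
          (show _ = 1 ∨ _ = y ∨ _ = y * y) <;> decide
      · rw [theta_st, Subgroup.mem_bot] at hg ⊢
        subst hg; simp
    · rintro a ha ha1 b hb hb1 g ⟨hg, hgb⟩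
      have hgb' := Subgroup.mem_centralizer_singleton_iff.mp hgb
      by_cases hab : a = b
      · exact hab ▸ hg
      suffices g = 1 from this ▸ one_mem _
      rcases ha with rfl | rfl | rfl | rfl
      · exact absurd rfl ha1
      · rw [theta_s] at hg
        rcases hb with rfl | rfl | rfl | rfl <;>
          first
            | exact absurd rfl hb1
            | exact absurd rfl hab
            | (rcases hg with rfl | rfl | rfl <;> first | rfl | exact absurd hgb' (by decide))
      · rw [theta_t] at hg
        rcases hb with rfl | rfl | rfl | rfl <;>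
          first
            | exact absurd rfl hb1
            | exact absurd rfl hab
            | (rcases hg with rfl | rfl | rfl <;> first | rfl | exact absurd hgb' (by decide))
      · rw [theta_st] at hg
        exact Subgroup.mem_bot.mp hg
    · rintro a (rfl | rfl | rfl | rfl) ha1
      · exact absurd rfl ha1
      all_goals
        refine Group.isSolvable_of_comm fun u v => Subtype.ext ?_
        obtain ⟨u, hu⟩ := u
        obtain ⟨v, hv⟩ := v
      · rw [theta_s] at hu hv; rcases hu with rfl | rfl | rfl <;> rcases hv with rfl | rfl | rfl <;> simp only [Subgroup.coe_mul] <;> decide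
      · rw [theta_t] at hu hv; rcases hu with rfl | rfl | rfl <;> rcases hv with rfl | rfl | rfl <;> simp only [Subgroup.coe_mul] <;> decide
      · rw [theta_st, Subgroup.mem_bot] at hu hv; simp [hu, hv]
  · rintro ⟨-, X, -, hX, hθX⟩
    have hx : x ∈ X := by
      have : x ∈ X ⊓ Subgroup.centralizer {s} := by
        rw [hθX s (Or.inr (Or.inl rfl)) (by decide), theta_s]; exact Or.inr (Or.inl rfl)
      exact this.1
    have hy : y ∈ X := by
      have : y ∈ X ⊓ Subgroup.centralizer {t} := by
        rw [hθX t (Or.inr (Or.inr (Or.inl rfl))) (by decide), theta_t]; exact Or.inr (Or.inl rfl)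
      exact this.1
    have hw : orderOf (x * x * y * x * y) = 2 := orderOf_eq_prime (by decide) (by decide)
    exact hX (hw ▸ Subgroup.orderOf_dvd_natCard X
      (X.mul_mem (X.mul_mem (X.mul_mem (X.mul_mem hx hx) hy) hx) hy))

end Cfsg.Agent.S1286
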