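import Cfsg.Statements.S1292
import Cfsg.Agent.Lib.Components.Local

set_option autoImplicit false
open Cfsg

namespace Cfsg.Agent.S1292

/-- Let G be a finite group such that F*(C_G(t)) = O_2(C_G(t)) for every involution t. Then F*(N_G(T)) = O_2(N_G(T)) for every nontrivial 2-subgroup T of G. -/
theorem result {G : Type*} [Group G] [Finite G] (h : ∀ t : G, orderOf t = 2 → Cfsg.generalizedFittingSubgroup ↥(Subgroup.centralizer ({t} : Set G)) = Cfsg.pCore 2 ↥(Subgroup.centralizer ({t} : Set G))) (T : Subgroup G) (hT : IsPGroup 2 ↥T) (hT1 : T ≠ ⊥) : Cfsg.generalizedFittingSubgroup ↥(Subgroup.normalizer (T : Set G)) = Cfsg.pCore 2 ↥(Subgroup.normalizer (T : Set G)) := by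
  open Subgroup Cfsg.Agent.Components.Basic Cfsg.Agent.Components.Fitting Cfsg.Agent.Components.PComponents Cfsg.Agent.Components.Local in
  have : Fact (Nat.Prime 2) := ⟨Nat.prime_two⟩
  have : Nontrivial ↥T := (Subgroup.nontrivial_iff_ne_bot T).mpr hT1
  -- a central involution of `T`
  obtain ⟨z, hz⟩ : ∃ z : ↥T, z ∈ Subgroup.center ↥T ∧ orderOf z = 2 := by
    have := hT.center_nontrivial
    obtain ⟨n, hn, hcard⟩ := (hT.to_subgroup (Subgroup.center ↥T)).nontrivial_iff_card.mp this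
    obtain ⟨z, hz⟩ := exists_prime_orderOf_dvd_card' (G := ↥(Subgroup.center ↥T)) 2
      (hcard ▸ dvd_pow_self 2 (by omega))
    exact ⟨z, z.2, by rwa [orderOf_coe]⟩
  set C := Subgroup.centralizer ({(z : G)} : Set G) with hC
  set N := Subgroup.normalizer (T : Set G) with hN
  have hTC : T ≤ C := fun t ht => Subgroup.mem_centralizer_singleton_iff.mpr
    (congrArg Subtype.val (Subgroup.mem_center_iff.mp hz.1 ⟨t, ht⟩))
  have hCT : Subgroup.centralizer (T : Set G) ≤ C :=
    Subgroup.centralizer_le (Set.singleton_subset_iff.mpr z.2)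
  have hFC := h (z : G) (by rw [orderOf_coe]; exact hz.2)
  have hchar : Subgroup.centralizer (Cfsg.pCore 2 ↥C : Set ↥C) ≤ Cfsg.pCore 2 ↥C := by
    have := centralizer_genFitting_le (G := ↥C)
    rwa [hFC] at this
  set U := (Cfsg.pCore 2 ↥C).map C.subtype with hU
  have hU2 : IsPGroup 2 ↥U := (Cores.pCore_isPGroup 2).map _
  have hCU : C ≤ Subgroup.normalizer (U : Set G) := by
    refine Subgroup.le_normalizer_of_normal_subgroupOf (hK := ?_) (Subgroup.map_subtype_le _)
    rw [Subgroup.subgroupOf, hU, Subgroup.comap_map_eq_self_of_injective C.subtype_injective]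
    infer_instance
  have key : ∀ x : G, x ∈ Subgroup.centralizer (T : Set G) → (orderOf x).Coprime 2 →
      x ∈ Subgroup.centralizer ((U ⊓ N : Subgroup G) : Set G) → x = 1 := by
    intro x hxT hxo hxU
    have hxC : x ∈ C := hCT hxT
    have hc := mem_centralizer_of_pxq hT hU2 (hTC.trans hCU) hxo (hCU hxC) hxT hxU
    have hx2 : (⟨x, hxC⟩ : ↥C) ∈ Cfsg.pCore 2 ↥C := by
      refine hchar (Subgroup.mem_centralizer_iff.mpr fun u hu => Subtype.ext ?_)
      exact Subgroup.mem_centralizer_iff.mp hc (u : G) ⟨u, hu, rfl⟩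
    obtain ⟨k, hk⟩ := Cores.pCore_isPGroup 2 (⟨_, hx2⟩ : Cfsg.pCore 2 ↥C)
    rw [← orderOf_eq_one_iff]
    exact Nat.eq_one_of_dvd_coprimes (hxo.pow_right k) dvd_rfl
      (orderOf_dvd_of_pow_eq_one (congrArg Subtype.val (congrArg Subtype.val hk)))
  have hTN : T ≤ (Cfsg.pCore 2 ↥N).map N.subtype := le_map_pCore_normalizer hT
  -- the odd core is trivial
  have hcore : Cfsg.pPrimeCore 2 ↥N = ⊥ := by
    rw [← le_bot_iff]
    intro y hy
    have hyT : (y : G) ∈ Subgroup.centralizer (T : Set G) := by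
      rw [Subgroup.mem_centralizer_iff]
      intro t ht
      obtain ⟨t', ht', rfl⟩ := hTN ht
      have hc : ⁅Cfsg.pCore 2 ↥N, Cfsg.pPrimeCore 2 ↥N⁆ = ⊥ :=
        Subgroup.commutator_eq_bot_of_disjoint (disjoint_iff.mpr (Cores.pCore_inf_pPrimeCore 2))
      exact congrArg Subtype.val
        (Subgroup.mem_centralizer_iff.mp (Subgroup.commutator_eq_bot_iff_le_centralizer.mp hc ht') y hy).symm
    refine Subgroup.mem_bot.mpr (Subtype.ext (key y hyT
      (by rw [orderOf_coe]; exact coprime_orderOf_of_mem (Cores.pPrimeCore_card_coprime 2) hy) ?_))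
    rw [Subgroup.mem_centralizer_iff]
    rintro u ⟨huU, huN⟩
    have hd : Disjoint U ((Cfsg.pPrimeCore 2 ↥N).map N.subtype) := by
      obtain ⟨k, hk⟩ := IsPGroup.iff_card.1 hU2
      refine Subgroup.disjoint_of_coprime_natCard ?_
      rw [hk, Subgroup.card_map_of_injective N.subtype_injective]
      exact (Cores.pPrimeCore_card_coprime 2).symm.pow_left k
    have h1 : u * (y : G) * u⁻¹ * (y : G)⁻¹ ∈ U := by
      rw [mul_assoc u, mul_assoc u]
      exact U.mul_mem huU ((Subgroup.mem_normalizer_iff.mp (hCU (hCT hyT)) u⁻¹).mp (U.inv_mem huU))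
    have h2 : u * (y : G) * u⁻¹ * (y : G)⁻¹ ∈ (Cfsg.pPrimeCore 2 ↥N).map N.subtype :=
      ⟨(⟨u, huN⟩ : ↥N) * y * (⟨u, huN⟩ : ↥N)⁻¹ * y⁻¹,
        (Cfsg.pPrimeCore 2 ↥N).mul_mem ((inferInstance : (Cfsg.pPrimeCore 2 ↥N).Normal).conj_mem y hy _)
          ((Cfsg.pPrimeCore 2 ↥N).inv_mem hy), rfl⟩
    have := Subgroup.disjoint_def.mp hd h1 h2
    rwa [mul_inv_eq_one, mul_inv_eq_iff_eq_mul] at this
  have hlayer : Cfsg.layer ↥N = ⊥ := by
    refine layer_eq_bot_iff.mpr fun L hL => component_ne_bot hL ?_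
    have hLp : ⁅L, L⁆ = L := component_commutator_self hL
    have hLT : L.map N.subtype ≤ Subgroup.centralizer (T : Set G) := by
      rintro _ ⟨x, hx, rfl⟩
      rw [Subgroup.mem_centralizer_iff]
      intro t ht
      obtain ⟨t', ht', rfl⟩ := hTN ht
      exact congrArg Subtype.val
        (Subgroup.mem_centralizer_iff.mp (layer_le_centralizer_pCore (le_layer hL hx)) t' ht')
    have hLC : L.map N.subtype ≤ C := hLT.trans hCT
    have hs : Group.IsSolvable ↥(U.subgroupOf N) := by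
      have h1 : IsPGroup 2 ↥(U.subgroupOf N) := hU2.comap_subtype
      have := h1.isNilpotent
      exact IsNilpotent.to_isSolvable
    have hn : L ≤ Subgroup.normalizer (U.subgroupOf N : Set ↥N) := fun x hx =>
      Subgroup.le_normalizer_comap N.subtype (hCU (hLC ⟨x, hx, rfl⟩))
    have hcom := Subgroup.commutator_eq_bot_iff_le_centralizer.mp
      (component_commutator_eq_bot_of_le_normalizer hL hs hn)
    have : L ≤ ⊥ := le_of_pPrime_mem_of_perfect (p := 2) hLp fun x hx hord =>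
      Subgroup.mem_bot.mpr (Subtype.ext (key x (hLT ⟨x, hx, rfl⟩) (by rwa [orderOf_coe])
        (Subgroup.mem_centralizer_iff.mpr fun u hu => congrArg Subtype.val
          (Subgroup.mem_centralizer_iff.mp (hcom hx) (⟨u, hu.2⟩ : ↥N) hu.1))))
    exact le_bot_iff.mp this
  rw [Cfsg.generalizedFittingSubgroup, hlayer, bot_sup_eq, fitting_eq_pCore hcore]

end Cfsg.Agent.S1292
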