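import Cfsg.Statements.S1293
import Cfsg.Agent.Lib.Components.Local

set_option autoImplicit false
open Cfsg

namespace Cfsg.Agent.S1293

/-- Let G be finite with L_{p'}(G) = 1, and H = N_G(P) for a nontrivial p-subgroup P. Then L_{p'}(H) = 1 and O_{p'}(H) ≤ O_{p'}(G). -/
theorem result {G : Type*} [Group G] [Finite G] (p : ℕ) [Fact p.Prime] (hL : Cfsg.pLayer p G = ⊥) (P : Subgroup G) (hP : IsPGroup p ↥P) (hP1 : P ≠ ⊥) : Cfsg.pLayer p ↥(Subgroup.normalizer (P : Set G)) = ⊥ ∧ (Cfsg.pPrimeCore p ↥(Subgroup.normalizer (P : Set G))).map (Subgroup.normalizer (P : Set G)).subtype ≤ Cfsg.pPrimeCore p G := by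
  open Subgroup Cfsg.Agent.Components.Basic Cfsg.Agent.Components.Fitting Cfsg.Agent.Components.PComponents Cfsg.Agent.Components.Local in
  set N := Subgroup.normalizer (P : Set G) with hN
  set R := Cfsg.pPrimeCore p G with hR
  set q := QuotientGroup.mk' R with hq
  have hO : Cfsg.pPrimeCore p (G ⧸ R) = ⊥ := Cores.pPrimeCore_quotient_self p
  have hQ : Subgroup.centralizer (Cfsg.pCore p (G ⧸ R) : Set (G ⧸ R)) ≤ Cfsg.pCore p (G ⧸ R) := by
    have := centralizer_genFitting_le (G := G ⧸ R)
    rwa [Cfsg.generalizedFittingSubgroup, pLayer_eq_bot_iff.mp hL, bot_sup_eq, fitting_eq_pCore hO] at this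
  have hNbar := map_normalizer_eq hP (Cores.pPrimeCore_card_coprime (G := G) p)
  obtain ⟨h1, h2⟩ := normalizer_of_characteristic hQ (hP.map q)
  rw [← hNbar] at h1 h2
  set f := q.subgroupMap N with hf
  have hker : f.ker = R.subgroupOf N := by
    ext x
    rw [MonoidHom.mem_ker, Subgroup.mem_subgroupOf, ← Subtype.coe_inj]
    exact QuotientGroup.eq_one_iff (x : G)
  have hcore : Cfsg.pPrimeCore p ↥N = R.subgroupOf N := by
    refine le_antisymm ?_ (Cores.pPrimeCore_subgroupOf_le p N)
    have := Cores.map_pPrimeCore_le (f := f) (q.subgroupMap_surjective N) p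
    rw [h1, le_bot_iff, Subgroup.map_eq_bot_iff, hker] at this
    exact this
  constructor
  · rw [pLayer_eq_bot_iff]
    have e : ↥N ⧸ Cfsg.pPrimeCore p ↥N ≃* ↥(N.map q) :=
      (QuotientGroup.quotientMulEquivOfEq (hcore.trans hker.symm)).trans
        (QuotientGroup.quotientKerEquivOfSurjective f (q.subgroupMap_surjective N))
    have := layer_map_equiv e.symm
    rw [h2, Subgroup.map_bot] at this
    exact this.symm
  · rw [hcore, Subgroup.subgroupOf_map_subtype]
    exact inf_le_left

end Cfsg.Agent.S1293
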