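import Cfsg.Statements.S1295
import Cfsg.Agent.Lib.SolvableSignalizer.Connected
import Cfsg.Agent.Lib.Components.PComponents
-- import your own Cfsg.Agent.* helpers here

set_option autoImplicit false
open Cfsg

namespace Cfsg.Agent.S1295

/-- Let G be finite with O_{p'}(G) = 1 and p-rank at least 3, whose reduced rank-2 commuting graph for p is connected. Suppose that for every element a of order p with m_p(C_G(a)) ≥ 3 the p-layer of C_G(a) is trivial and O_{p'}(C_G(a)) is solvable. Then F*(C_G(a)) = O_p(C_G(a)) for every such a. -/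
theorem result {G : Type*} [Group G] [Finite G] (p : ℕ) [Fact p.Prime] (hO : Cfsg.pPrimeCore p G = ⊥) (hrk : ¬ Cfsg.PRankLE p 2 G) (hconn : Cfsg.IsRankGraphConnected p 2 G) (hL : ∀ a : G, (orderOf a = p ∧ ¬ Cfsg.PRankLE p 2 ↥(Subgroup.centralizer ({a} : Set G))) → Cfsg.pLayer p ↥(Subgroup.centralizer ({a} : Set G)) = ⊥ ∧ Group.IsSolvable ↥(Cfsg.centralizerPPrimeCore p a)) (a : G) (ha : (orderOf a = p ∧ ¬ Cfsg.PRankLE p 2 ↥(Subgroup.centralizer ({a} : Set G)))) : Cfsg.generalizedFittingSubgroup ↥(Subgroup.centralizer ({a} : Set G)) = Cfsg.pCore p ↥(Subgroup.centralizer ({a} : Set G)) := by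
  have B : Cfsg.Agent.SolvableSignalizer.Balanced p (fun b : G => Cfsg.centralizerPPrimeCore p b) := by
    refine ⟨fun b hb => ⟨Components.Balance.centralizerPPrimeCore_le_centralizer p b,
      (Fact.out : p.Prime).coprime_iff_not_dvd.mp
        (Components.Balance.centralizerPPrimeCore_coprime p b).symm, (hL b hb).2⟩, fun b g _ => ?_,
      fun b c hb hc hbc => Components.Balance.centralizerPPrimeCore_inf_le
        (IsPGroup.of_card (n := 1) (by rw [Nat.card_zpowers, hb.1, pow_one])) hbc (hL c hc).1⟩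
    exact Cfsg.Agent.SolvableSignalizer.centralizerPPrimeCore_conj p b g
  have h0 : Cfsg.centralizerPPrimeCore p a = ⊥ := B.eq_bot hO hconn ha
  set C := Subgroup.centralizer ({a} : Set G)
  have hpc : Cfsg.pPrimeCore p C = ⊥ :=
    (Subgroup.map_eq_bot_iff_of_injective _ C.subtype_injective).mp h0
  have hlay : Cfsg.layer C = ⊥ := by
    refine Components.Basic.layer_eq_bot_iff.mpr fun L hL' => ?_
    have h1 := Components.Basic.layer_eq_bot_iff.mp (Components.PComponents.pLayer_eq_bot_iff.mp (hL a ha).1)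
    refine h1 _ ((Components.Basic.isComponent_map_equiv (MulEquiv.ofBijective
      (QuotientGroup.mk' (Cfsg.pPrimeCore p C)) ⟨?_, QuotientGroup.mk'_surjective _⟩) L).mpr hL')
    rw [← MonoidHom.ker_eq_bot_iff, QuotientGroup.ker_mk', hpc]
  rw [Cfsg.generalizedFittingSubgroup, hlay, bot_sup_eq, Components.PComponents.fitting_eq_pCore hpc]

end Cfsg.Agent.S1295
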