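import Cfsg.Statements.S1298
import Cfsg.Agent.Lib.Components.LocalBalance

set_option autoImplicit false
open Cfsg

namespace Cfsg.Agent.S1298

open Subgroup in
/-- A `p'`-subgroup of `C(a)` normalized by it lies in `O_{p'}(C(a))`. -/
private lemma le_cpc {H : Type*} [Group H] [Finite H] {p : ℕ} {a : H} {W : Subgroup H}
    (hW : W ≤ centralizer ({a} : Set H)) (hn : centralizer ({a} : Set H) ≤ normalizer (W : Set H))
    (hc : (Nat.card W).Coprime p) : W ≤ Cfsg.centralizerPPrimeCore p a := by
  haveI : (W.subgroupOf (centralizer ({a} : Set H))).Normal := normal_subgroupOf_of_le_normalizer hn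
  refine (map_subgroupOf_eq_of_le hW).symm.le.trans (Subgroup.map_mono (Cfsg.Agent.Cores.le_pPrimeCore ?_))
  rwa [Nat.card_congr (subgroupOfEquivOfLe hW).toEquiv]

open Subgroup in
private lemma cpc_coprime {H : Type*} [Group H] [Finite H] {p : ℕ} (a : H) :
    (Nat.card ↥(Cfsg.centralizerPPrimeCore p a)).Coprime p := by
  rw [Cfsg.centralizerPPrimeCore,
    Subgroup.card_map_of_injective (centralizer ({a} : Set H)).subtype_injective]
  exact Cfsg.Agent.Cores.pPrimeCore_card_coprime p

/-- Let G be finite and k ≥ 1. Suppose that for every x of order p, writing C = C_G(x), every component K of C / O_{p'}(C) has K / Z(K) locally k-balanced for p. Then G is k-balanced for p. -/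
theorem result {G : Type*} [Group G] [Finite G] (p k : ℕ) [Fact p.Prime] (hk : 1 ≤ k) (h : ∀ x : G, orderOf x = p → ∀ K : Subgroup (↥(Subgroup.centralizer ({x} : Set G)) ⧸ Cfsg.pPrimeCore p ↥(Subgroup.centralizer ({x} : Set G))), Cfsg.IsComponent K → Cfsg.IsLocallyKBalanced p k (↥K ⧸ Subgroup.center ↥K)) : Cfsg.IsKBalanced p k G := by
  intro A hA hAk b hb hcomm
  open Subgroup in
  set C := centralizer ({b} : Set G) with hC
  open Subgroup in
  have hAC : A ≤ C := fun a ha => mem_centralizer_singleton_iff.mpr (hcomm a ha)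
  open Subgroup in
  set R := Cfsg.pPrimeCore p ↥C with hR
  open Subgroup in
  set q := QuotientGroup.mk' R with hq
  open Subgroup in
  set D := Cfsg.signalizerDelta p A ⊓ C with hD
  open Subgroup in
  set Ab := (A.subgroupOf C).map q with hAb
  open Subgroup in
  have hinj : ∀ a : ↥C, (a : G) ∈ A → q a = 1 → a = 1 := by
    intro a ha h1
    have hm : a ∈ R := (QuotientGroup.eq_one_iff a).mp h1
    rw [← orderOf_eq_one_iff]
    refine Nat.eq_one_of_dvd_coprimes (Cfsg.Agent.Cores.pPrimeCore_card_coprime p)
      (orderOf_dvd_natCard _ hm) (orderOf_dvd_of_pow_eq_one (Subtype.ext ?_))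
    exact hA.2 _ ha
  open Subgroup in
  have hAbE : Cfsg.IsElementaryAbelian p Ab := by
    refine ⟨⟨⟨?_⟩⟩, ?_⟩
    · rintro ⟨_, a, ha, rfl⟩ ⟨_, c, hc, rfl⟩
      refine Subtype.ext ?_
      show q a * q c = q c * q a
      rw [← map_mul, ← map_mul]
      exact congrArg q (Subtype.ext (Cfsg.Agent.Components.Hyperplane.mem_comm hA ha hc))
    · rintro _ ⟨a, ha, rfl⟩
      rw [← map_pow, show a ^ p = 1 from Subtype.ext (hA.2 _ ha), map_one]
  open Subgroup in
  have hAbc : Nat.card Ab = p ^ k := by
    rw [← hAk, ← Nat.card_congr (subgroupOfEquivOfLe hAC).toEquiv]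
    have hi : Function.Injective (q.comp (A.subgroupOf C).subtype) := by
      rw [← MonoidHom.ker_eq_bot_iff, eq_bot_iff]
      exact fun a ha => Subgroup.mem_bot.mpr (Subtype.ext (hinj a.1 a.2 ha))
    have he : (q.comp (A.subgroupOf C).subtype).range = Ab :=
      (MonoidHom.range_comp q (A.subgroupOf C).subtype).trans (congrArg (Subgroup.map q) (range_subtype _))
    rw [Nat.card_congr (MonoidHom.ofInjective hi).toEquiv, he]
  open Subgroup in
  have hDb : (D.subgroupOf C).map q = ⊥ := by
    refine Cfsg.Agent.Components.LocalBalance.eq_bot_of_locallyKBalanced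
      (Cfsg.Agent.Cores.pPrimeCore_quotient_self p) hk (fun K hK => h b hb K hK) hAbE hAbc ?_
    rintro _ ⟨a, ha, rfl⟩ hne
    have hord : orderOf a = p := orderOf_eq_prime (Subtype.ext (hA.2 _ ha))
      (fun e => hne (by rw [e, map_one]))
    set W₀ := Cfsg.centralizerPPrimeCore p (a : G) ⊓ C with hW₀
    have hW₀C : W₀ ≤ C := inf_le_right
    have h1 : D.subgroupOf C ≤ Cfsg.centralizerPPrimeCore p a := by
      have hle : D.subgroupOf C ≤ W₀.subgroupOf C := by
        intro d hd
        have hd' := Subgroup.mem_iInf.mp (mem_inf.mp (mem_subgroupOf.mp hd)).1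
          ⟨(a : G), ha, fun e => hne (by rw [show a = 1 from Subtype.ext e, map_one])⟩
        exact mem_subgroupOf.mpr ⟨hd', d.2⟩
      refine hle.trans (le_cpc ?_ ?_ ?_)
      · intro w hw
        exact mem_centralizer_singleton_iff.mpr (Subtype.ext
          (mem_centralizer_singleton_iff.mp (map_subtype_le _ (mem_inf.mp (mem_subgroupOf.mp hw)).1)))
      · intro g hg
        refine le_normalizer_comap C.subtype (show (g : G) ∈ normalizer (W₀ : Set G) from
          inf_normalizer_le_normalizer_inf ⟨?_, le_normalizer g.2⟩)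
        exact Cfsg.Agent.Components.LocalFix.normalizer_le_normalizer_pPrimeCore _
          (le_normalizer (mem_centralizer_singleton_iff.mpr
            (congrArg Subtype.val (mem_centralizer_singleton_iff.mp hg))))
      · rw [Nat.card_congr (subgroupOfEquivOfLe hW₀C).toEquiv]
        exact (cpc_coprime (p := p) (a : G)).coprime_dvd_left (card_dvd_of_le inf_le_left)
    refine (Subgroup.map_mono h1).trans (le_cpc ?_ ?_ ?_)
    · rintro _ ⟨w, hw, rfl⟩
      rw [mem_centralizer_singleton_iff, ← map_mul, ← map_mul]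
      exact congrArg q (mem_centralizer_singleton_iff.mp (map_subtype_le _ hw))
    · have hP : IsPGroup p (zpowers a) := IsPGroup.iff_card.mpr ⟨1, by rw [Nat.card_zpowers, hord, pow_one]⟩
      have he := Cfsg.Agent.Components.Local.map_centralizer_eq hP
        (R := R) (Cfsg.Agent.Cores.pPrimeCore_card_coprime p)
      rw [MonoidHom.map_zpowers, zpowers_eq_closure, centralizer_closure, zpowers_eq_closure,
        centralizer_closure] at he
      rw [← he]
      refine (Subgroup.map_mono ?_).trans (le_normalizer_map q)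
      exact le_trans le_normalizer (Cfsg.Agent.Components.LocalFix.normalizer_le_normalizer_pPrimeCore _)
    · exact (cpc_coprime (p := p) a).coprime_dvd_left ((Cfsg.centralizerPPrimeCore p a).card_map_dvd q)
  open Subgroup in
  rw [Subgroup.map_eq_bot_iff, QuotientGroup.ker_mk'] at hDb
  open Subgroup in
  exact (map_subgroupOf_eq_of_le (inf_le_right : D ≤ C)).symm.le.trans (Subgroup.map_mono hDb)

end Cfsg.Agent.S1298
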