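import Cfsg.Statements.S1297
import Cfsg.Agent.S1298

set_option autoImplicit false
open Cfsg

namespace Cfsg.Agent.S1297

/-- Let G be finite. Suppose that for every involution x, writing C = C_G(x), every component K of C / O(C) has K / Z(K) locally balanced. Then G is balanced. -/
theorem result {G : Type*} [Group G] [Finite G] (h : ∀ x : G, orderOf x = 2 → ∀ K : Subgroup (↥(Subgroup.centralizer ({x} : Set G)) ⧸ Cfsg.oddCore ↥(Subgroup.centralizer ({x} : Set G))), Cfsg.IsComponent K → Cfsg.IsLocallyBalanced (↥K ⧸ Subgroup.center ↥K)) : Cfsg.IsBalanced G := by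
  haveI : Fact (Nat.Prime 2) := ⟨Nat.prime_two⟩
  have hloc : ∀ x : G, orderOf x = 2 → ∀ K : Subgroup (↥(Subgroup.centralizer ({x} : Set G)) ⧸
      Cfsg.pPrimeCore 2 ↥(Subgroup.centralizer ({x} : Set G))), Cfsg.IsComponent K →
      Cfsg.IsLocallyKBalanced 2 1 (↥K ⧸ Subgroup.center ↥K) := by
    intro x hx K hK H hH A hA hAc
    obtain ⟨a, ha, ha1⟩ : ∃ a ∈ A, a ≠ 1 := by
      refine A.bot_or_exists_ne_one.resolve_left fun he => ?_
      rw [he, Subgroup.card_bot] at hAc
      omega
    rw [← le_bot_iff, ← h x hx K hK H hH a (orderOf_eq_prime (hA.2 a ha) ha1)]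
    exact iInf_le_of_le ⟨a, ha, ha1⟩ le_rfl
  have hbal := Cfsg.Agent.S1298.result 2 1 le_rfl hloc
  have key : ∀ x y : G, orderOf x = 2 → orderOf y = 2 → x * y = y * x →
      Cfsg.centralizerPPrimeCore 2 x ⊓ Subgroup.centralizer {y} ≤ Cfsg.centralizerPPrimeCore 2 y := by
    intro x y hx hy hxy
    have hA : Cfsg.IsElementaryAbelian 2 (Subgroup.zpowers x) := ⟨inferInstance, fun a ha => by
      obtain ⟨n, rfl⟩ := Subgroup.mem_zpowers_iff.mp ha
      rw [← zpow_natCast (x ^ n), ← zpow_mul, mul_comm, zpow_mul, zpow_natCast,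
        show x ^ 2 = 1 from hx ▸ pow_orderOf_eq_one x, one_zpow]⟩
    refine le_trans (inf_le_inf_right _ (le_iInf fun a => ?_))
      (hbal (Subgroup.zpowers x) hA (by rw [Nat.card_zpowers, hx, pow_one]) y hy fun a ha => ?_)
    · obtain ⟨a, ha, ha1⟩ := a
      have : a = x := by
        obtain ⟨n, hn⟩ := (IsOfFinOrder.mem_powers_iff_mem_zpowers (isOfFinOrder_of_finite x)).mpr ha
        rw [← hn] at ha1 ⊢
        show x ^ n = x
        change x ^ n ≠ 1 at ha1
        rw [← pow_mod_orderOf, hx] at ha1 ⊢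
        rcases Nat.mod_two_eq_zero_or_one n with h2 | h2 <;> rw [h2] at ha1 ⊢
        · exact absurd (pow_zero x) ha1
        · exact pow_one x
      subst this; exact le_rfl
    · obtain ⟨n, rfl⟩ := Subgroup.mem_zpowers_iff.mp ha
      exact (Commute.zpow_left hxy n).eq
  intro x y hx hy hxy
  exact le_antisymm (le_inf (key x y hx hy hxy) (inf_le_left.trans (Subgroup.map_subtype_le _)))
    (le_inf (key y x hy hx hxy.symm) (inf_le_left.trans (Subgroup.map_subtype_le _)))

end Cfsg.Agent.S1297
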