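import Cfsg.Statements.S1299
import Cfsg.Agent.Lib.Components.KBalance

set_option autoImplicit false
set_option maxHeartbeats 1000000
open Cfsg

namespace Cfsg.Agent.S1299

open Subgroup Components in
/-- Let G be finite and k-balanced for the prime p (k ≥ 1), A an elementary abelian p-subgroup of order at least p^(k+2) such that O_{p'}(C_G(a)) is solvable for every non-identity a ∈ A. For a ∈ A put θ a = the subgroup generated by the Δ_G(D) ∩ C_G(a) over the subgroups D ≤ A of order p^k. Then θ is an A-signalizer functor. -/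
theorem result {G : Type*} [Group G] [Finite G] (p k : ℕ) [Fact p.Prime] (hk : 1 ≤ k) (hbal : Cfsg.IsKBalanced p k G) (A : Subgroup G) (hA : Cfsg.IsElementaryAbelian p A) (hAk : p ^ (k + 2) ≤ Nat.card ↥A) (hsolv : ∀ a ∈ A, a ≠ 1 → Group.IsSolvable ↥(Cfsg.centralizerPPrimeCore p a)) : Cfsg.IsSignalizerFunctor p A (fun a => ⨆ D : {D : Subgroup G // D ≤ A ∧ Nat.card ↥D = p ^ k}, Cfsg.signalizerDelta p (D : Subgroup G) ⊓ Subgroup.centralizer {a}) := by
  have hfam : KBalance.IsFamily p k A (Cfsg.signalizerDelta p) :=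
    KBalance.isFamily_delta hk hA fun D hD hc b hb hb1 =>
      hbal D (Hyperplane.isElementaryAbelian_of_le hA hD) hc b (Hyperplane.orderOf_eq hA hb hb1)
        fun d hd => Hyperplane.mem_comm hA (hD hd) hb
  set θ : G → Subgroup G := fun a => ⨆ D : {D : Subgroup G // D ≤ A ∧ Nat.card ↥D = p ^ k},
    Cfsg.signalizerDelta p (D : Subgroup G) ⊓ centralizer {a} with hθ
  have hK : ∀ a ∈ A, a ≠ 1 → θ a ≤ Cfsg.centralizerPPrimeCore p a := fun a ha ha1 => iSup_le fun D =>
    hbal D (Hyperplane.isElementaryAbelian_of_le hA D.2.1) D.2.2 a (Hyperplane.orderOf_eq hA ha ha1)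
      fun d hd => Hyperplane.mem_comm hA (D.2.1 hd) ha
  have hp' : ∀ a ∈ A, a ≠ 1 → ¬ p ∣ Nat.card ↥(θ a) := fun a ha ha1 h =>
    (Fact.out : p.Prime).coprime_iff_not_dvd.mp (Balance.centralizerPPrimeCore_coprime p a).symm
      (h.trans (card_dvd_of_le (hK a ha ha1)))
  have hXn : ∀ a ∈ A, ∀ D : Subgroup G, D ≤ A →
      A ≤ normalizer ((Cfsg.signalizerDelta p D ⊓ centralizer {a} : Subgroup G) : Set G) := fun a ha D hD =>
    (le_inf (hfam.le_norm D hD) fun b hb => Subgroup.le_normalizer (mem_centralizer_singleton_iff.mpr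
      (Hyperplane.mem_comm hA hb ha))).trans inf_normalizer_le_normalizer_inf
  have hAn : ∀ a ∈ A, A ≤ normalizer (θ a : Set G) := by
    intro a ha b hb
    rw [mem_normalizer_iff_map_conj_eq, hθ, Subgroup.map_iSup]
    exact iSup_congr fun D => mem_normalizer_iff_map_conj_eq.mp (hXn a ha D D.2.1 hb)
  refine ⟨fun a ha ha1 => (hK a ha ha1).trans (Balance.centralizerPPrimeCore_le_centralizer p a), hp',
    fun a ha ha1 b hb x hx => (mem_normalizer_iff.mp (hAn a ha hb) x).mp hx, fun a ha ha1 b hb hb1 => ?_⟩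
  have hgen : θ a ≤ ⨆ F : {F : Subgroup G // F ≤ A ∧ F.relIndex A = p}, θ a ⊓ Cfsg.signalizerDelta p F :=
    iSup_le fun D => (hfam.le_iSup hA hAk D.2.1 D.2.2.ge inf_le_left (hXn a ha D D.2.1)
      (fun h => hp' a ha ha1 (h.trans (card_dvd_of_le (le_iSup_of_le D le_rfl))))).trans
      (iSup_mono fun F => inf_le_inf_right _ (le_iSup_of_le D le_rfl))
  have hsθ : Group.IsSolvable ↥(θ a) := Coprime.isSolvable_of_le (hK a ha ha1) (hsolv a ha ha1)
  have hW : A ≤ normalizer ((θ a ⊓ centralizer {b} : Subgroup G) : Set G) :=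
    (le_inf (hAn a ha) fun c hc => Subgroup.le_normalizer (mem_centralizer_singleton_iff.mpr
      (Hyperplane.mem_comm hA hc hb))).trans inf_normalizer_le_normalizer_inf
  have hA2 : p ^ 2 ≤ Nat.card A :=
    (Nat.pow_le_pow_right (Fact.out : p.Prime).pos (Nat.le_add_left 2 k)).trans hAk
  have hgoal : θ a ⊓ centralizer {b} ≤ θ b := by
    have heq := Hyperplane.eq_iSup_hyperplane (K := θ a ⊓ centralizer {b}) hA hA2
      (fun h => hp' a ha ha1 (h.trans (card_dvd_of_le inf_le_left))) hW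
    rw [heq]
    refine iSup_le fun F x hx => ?_
    obtain ⟨D, hD, -, hDc⟩ := QuotientDelta.exists_card_eq
      (Hyperplane.isElementaryAbelian_of_le hA F.2.1) (KBalance.card_hyperplane hAk F.2.1 F.2.2)
    have hxF : x ∈ Cfsg.signalizerDelta p (F : Subgroup G) :=
      hfam.inf_centralizer_le hA hAk (θ a) (hAn a ha) (hp' a ha ha1) hsθ hgen F.2.1
        (KBalance.card_hyperplane hAk F.2.1 F.2.2) (Subgroup.mem_inf.mpr ⟨hx.1.1, hx.2⟩)
    have hmem : x ∈ Cfsg.signalizerDelta p D ⊓ centralizer {b} :=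
      Subgroup.mem_inf.mpr ⟨hfam.anti D F hD hxF, hx.1.2⟩
    exact Subgroup.mem_iSup_of_mem (S := fun D : {D : Subgroup G // D ≤ A ∧ Nat.card ↥D = p ^ k} =>
      Cfsg.signalizerDelta p (D : Subgroup G) ⊓ centralizer {b}) ⟨D, hD.trans F.2.1, hDc⟩ hmem
  exact hgoal

end Cfsg.Agent.S1299
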