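import Cfsg.Statements.S1300
import Cfsg.Agent.Lib.Components.Hyperplane

set_option autoImplicit false
open Cfsg

namespace Cfsg.Agent.S1300

/-- For a finite group G, balance in the sense of commuting involutions is the same as 1-balance for the prime 2. -/
theorem result {G : Type*} [Group G] [Finite G] : Cfsg.IsBalanced G ↔ Cfsg.IsKBalanced 2 1 G := by
  open Subgroup in
  constructor
  · intro hG A hA hcard b hb hcomm
    have : Nontrivial ↥A := Finite.one_lt_card_iff_nontrivial.mp (by omega)
    obtain ⟨⟨a, haA⟩, ha1⟩ := exists_ne (1 : ↥A)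
    have ha1' : a ≠ 1 := fun h => ha1 (Subtype.ext h)
    have : Fact (Nat.Prime 2) := ⟨Nat.prime_two⟩
    have hoa : orderOf a = 2 := Components.Hyperplane.orderOf_eq hA haA ha1'
    have h := hG a b hoa hb (hcomm a haA)
    refine le_trans (inf_le_inf_right _ ?_) (h.le.trans inf_le_left)
    exact iInf_le_of_le ⟨a, haA, ha1'⟩ le_rfl
  · intro hG x y hx hy hxy
    have key : ∀ x y : G, orderOf x = 2 → orderOf y = 2 → x * y = y * x →
        Cfsg.centralizerPPrimeCore 2 x ⊓ centralizer {y} ≤ Cfsg.centralizerPPrimeCore 2 y ⊓ centralizer {x} := by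
      intro x y hx hy hxy
      refine le_inf ?_ (inf_le_left.trans (map_subtype_le _))
      have hA : Cfsg.IsElementaryAbelian 2 (zpowers x) := by
        refine ⟨inferInstance, fun a ha => ?_⟩
        obtain ⟨m, rfl⟩ := mem_zpowers_iff.mp ha
        rw [← zpow_natCast, ← zpow_mul, mul_comm, zpow_mul, zpow_natCast, ← hx, pow_orderOf_eq_one, one_zpow]
      have h := hG (zpowers x) hA (by rw [Nat.card_zpowers, hx, pow_one]) y hy fun a ha => by
        obtain ⟨m, rfl⟩ := mem_zpowers_iff.mp ha
        exact ((show Commute x y from hxy).zpow_left m).eq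
      refine le_trans (inf_le_inf_right _ (le_iInf ?_)) h
      rintro ⟨a, ha, ha1⟩
      have : a = x := by
        obtain ⟨m, hm⟩ := mem_zpowers_iff.mp ha
        rw [← zpow_mod_orderOf, hx] at hm
        rcases Int.emod_two_eq_zero_or_one m with h0 | h0
        · simp [h0] at hm; exact absurd hm.symm ha1
        · simpa [h0] using hm.symm
      show Cfsg.centralizerPPrimeCore 2 x ≤ Cfsg.centralizerPPrimeCore 2 a
      rw [this]
    exact le_antisymm (key x y hx hy hxy) (key y x hy hx hxy.symm)

end Cfsg.Agent.S1300
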