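import Cfsg.Statements.S1303
import Cfsg.Agent.Lib.Components.Balance
import Mathlib.Tactic.NormNum.Prime

set_option autoImplicit false
open Cfsg

namespace Cfsg.Agent.S1303

abbrev SL23 := Matrix.SpecialLinearGroup (Fin 2) (ZMod 3)

def gen : SL23 := ⟨!![1, 1; 0, 1], by decide⟩

lemma gen_ne : gen ≠ 1 := by decide +kernel

lemma gen_pow : gen ^ 3 = 1 := by decide +kernel

lemma odd_elements : ∀ g : SL23, g ^ 3 = 1 → g ≠ 1 → ∃ h : SL23, (g * (h * g * h⁻¹)) ^ 3 ≠ 1 := by
  decide +kernel

lemma order_cases : ∀ g : SL23, g ^ 12 = 1 := by decide +kernel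

lemma involution_central : ∀ t : SL23, t ^ 2 = 1 → ∀ g : SL23, g * t = t * g := by decide +kernel

lemma four_closed : ∀ a b : SL23, a ^ 4 = 1 → b ^ 4 = 1 → (a * b) ^ 4 = 1 := by decide +kernel

lemma comm_four : ∀ a b : SL23, (a * b * a⁻¹ * b⁻¹) ^ 4 = 1 := by decide +kernel

def quat : Subgroup SL23 where
  carrier := {g | g ^ 4 = 1}
  one_mem' := one_pow 4
  mul_mem' := fun {a b} ha hb => four_closed a b ha hb
  inv_mem' := fun {a} ha => by
    show a⁻¹ ^ 4 = 1
    rw [inv_pow, show a ^ 4 = 1 from ha, inv_one]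


/-- The group X = SL(2, 3): it is 2-constrained, O_{2'}(X) = 1, its centre A = Z(X) contains every involution of X = C_X(A), and X has a subgroup of order 3 (normalized by A) not contained in O_{2'}(X). -/
theorem result : Cfsg.IsPConstrained 2 (Matrix.SpecialLinearGroup (Fin 2) (ZMod 3)) ∧ Cfsg.pPrimeCore 2 (Matrix.SpecialLinearGroup (Fin 2) (ZMod 3)) = ⊥ ∧ (∀ t : Matrix.SpecialLinearGroup (Fin 2) (ZMod 3), orderOf t = 2 → t ∈ Subgroup.center (Matrix.SpecialLinearGroup (Fin 2) (ZMod 3))) ∧ ∃ Q : Subgroup (Matrix.SpecialLinearGroup (Fin 2) (ZMod 3)), Nat.card ↥Q = 3 ∧ ¬ (Q ≤ Cfsg.pPrimeCore 2 (Matrix.SpecialLinearGroup (Fin 2) (ZMod 3))) := by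
  have : Fact (Nat.Prime 2) := ⟨Nat.prime_two⟩
  have hcom : commutator SL23 ≤ quat := by
    rw [_root_.commutator_def, Subgroup.commutator_le]
    intro a _ b _
    exact comm_four a b
  have hqn : quat.Normal := Subgroup.Normal.of_commutator_le SL23 hcom
  have hsolv : Group.IsSolvable SL23 := by
    rw [Group.isSolvable_iff_subgroup_quotient quat]
    refine ⟨?_, ?_⟩
    · have h : IsPGroup 2 ↥quat := fun a => ⟨2, Subtype.ext (by
        rw [SubgroupClass.coe_pow]; exact (a.2 : (a : SL23) ^ 4 = 1))⟩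
      have := h.isNilpotent
      exact IsNilpotent.to_isSolvable
    · have := Subgroup.Normal.quotient_commutative_iff_commutator_le.mpr hcom
      exact Group.isSolvable_of_comm fun a b => this.is_comm.comm a b
  have hcore : Cfsg.pPrimeCore 2 SL23 = ⊥ := by
    rw [Subgroup.eq_bot_iff_forall]
    intro g hg
    by_contra hg1
    have key : ∀ z ∈ Cfsg.pPrimeCore 2 SL23, z ^ 3 = 1 := by
      intro z hz
      rw [← orderOf_dvd_iff_pow_eq_one]
      have h1 : (orderOf z).Coprime 2 :=
        Components.Local.coprime_orderOf_of_mem (Cores.pPrimeCore_card_coprime 2) hz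
      exact (Nat.Coprime.pow_right 2 h1).dvd_of_dvd_mul_left
        (by rw [show 2 ^ 2 * 3 = 12 by norm_num]; exact orderOf_dvd_of_pow_eq_one (order_cases z))
    obtain ⟨h, hh⟩ := odd_elements g (key g hg) hg1
    exact hh (key _ (mul_mem hg ((inferInstance : (Cfsg.pPrimeCore 2 SL23).Normal).conj_mem g hg h)))
  refine ⟨?_, hcore, fun t ht => Subgroup.mem_center_iff.mpr fun g =>
    involution_central t ((orderOf_dvd_iff_pow_eq_one (n := 2)).mp (dvd_of_eq ht)) g, ?_⟩
  · intro P
    have hO : Subgroup.centralizer (Cfsg.pCore 2 (SL23 ⧸ Cfsg.pPrimeCore 2 SL23) : Set _) ≤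
        Cfsg.pCore 2 (SL23 ⧸ Cfsg.pPrimeCore 2 SL23) := by
      have h := Components.Fitting.centralizer_genFitting_le (G := SL23 ⧸ Cfsg.pPrimeCore 2 SL23)
      rwa [Cfsg.generalizedFittingSubgroup,
        Components.PComponents.pLayer_eq_bot_iff.mp Components.Balance.pLayer_eq_bot_of_isSolvable,
        bot_sup_eq, Components.PComponents.fitting_eq_pCore (Cores.pPrimeCore_quotient_self 2)] at h
    rw [← Components.Local.map_sylow_pPrimePCore P, ← Components.Local.map_centralizer_eq
      (P.isPGroup'.map _) (Cores.pPrimeCore_card_coprime 2), Components.Local.map_sylow_pPrimePCore P,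
      Subgroup.map_le_iff_le_comap] at hO
    exact hO
  · refine ⟨Subgroup.zpowers gen, ?_, ?_⟩
    · rw [Nat.card_zpowers]
      exact orderOf_eq_prime (hp := ⟨Nat.prime_three⟩) gen_pow gen_ne
    · rw [hcore, Subgroup.zpowers_le, Subgroup.mem_bot]
      exact gen_ne

end Cfsg.Agent.S1303
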