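import Cfsg.Statements.S1304
import Cfsg.Agent.Lib.Components.Basic

set_option autoImplicit false
open Cfsg
open scoped commutatorElement

namespace Cfsg.Agent.S1304

/-- Let X be a perfect group and α an automorphism of X with α(x) x⁻¹ central for every x. Then α is the identity. -/
theorem result {X : Type*} [Group X] (hperf : commutator X = ⊤) (α : X ≃* X) (h : ∀ x : X, α x * x⁻¹ ∈ Subgroup.center X) : ∀ x : X, α x = x := by
  intro x
  have key : commutator X ≤ MonoidHom.eqLocus α.toMonoidHom (MonoidHom.id X) := by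
    rw [_root_.commutator_def, Subgroup.commutator_le]
    intro a _ b _
    show α ⁅a, b⁆ = ⁅a, b⁆
    obtain ⟨za, hza, ea⟩ : ∃ z ∈ Subgroup.center X, α a = z * a := ⟨_, h a, by group⟩
    obtain ⟨zb, hzb, eb⟩ : ∃ z ∈ Subgroup.center X, α b = z * b := ⟨_, h b, by group⟩
    rw [show α ⁅a, b⁆ = ⁅α a, α b⁆ from map_commutatorElement α.toMonoidHom a b, ea, eb,
      ← Subgroup.mem_center_iff.mp hza a, ← Subgroup.mem_center_iff.mp hzb b,
      Components.Basic.commutatorElement_mul_center_left _ _ hza,
      Components.Basic.commutatorElement_mul_center_right _ _ hzb]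
  exact key (hperf ▸ Subgroup.mem_top x)

end Cfsg.Agent.S1304
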