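import Cfsg.Statements.S1305
import Cfsg.Agent.Lib.Components.ComponentTwo

set_option autoImplicit false
open Cfsg Subgroup
open Cfsg.Agent.Components

namespace Cfsg.Agent.S1305

/-- Let G be a finite group of component type with the B-property and no nontrivial normal subgroup of odd order. Let a be an involution and K a component of C_G(a) such that (a) |K| is maximal among the orders of components of centralizers of involutions of G, (b) subject to (a) the 2-rank of the centralizer of K in C_G(a) is as large as possible, and (c) K has 2-rank at least 2. If B is an elementary abelian 2-subgroup of that centralizer of the largest possible order, then K is a component of C_G(b) for every non-identity b ∈ B. -/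
theorem result {G : Type*} [Group G] [Finite G] (hO : Cfsg.oddCore G = ⊥) (hB : Cfsg.HasBProperty G) (hct : Cfsg.IsComponentType G) (a : G) (ha : orderOf a = 2) (K : Subgroup G) (hKa : K ≤ Subgroup.centralizer ({a} : Set G)) (hK : Cfsg.IsComponent (K.subgroupOf (Subgroup.centralizer ({a} : Set G)))) (hmax : ∀ y : G, orderOf y = 2 → ∀ K' : Subgroup G, K' ≤ Subgroup.centralizer ({y} : Set G) → Cfsg.IsComponent (K'.subgroupOf (Subgroup.centralizer ({y} : Set G))) → Nat.card ↥K' ≤ Nat.card ↥K ∧ (Nat.card ↥K' = Nat.card ↥K → ∀ k : ℕ, Cfsg.PRankLE 2 k ↥(Subgroup.centralizer ({a} : Set G) ⊓ Subgroup.centralizer (K : Set G)) → Cfsg.PRankLE 2 k ↥(Subgroup.centralizer ({y} : Set G) ⊓ Subgroup.centralizer (K' : Set G)))) (hrk : ¬ Cfsg.PRankLE 2 1 ↥K) (B : Subgroup G) (hBle : B ≤ Subgroup.centralizer ({a} : Set G) ⊓ Subgroup.centralizer (K : Set G)) (hBel : Cfsg.IsElementaryAbelian 2 B) (hBmax : ∀ B' : Subgroup G, B' ≤ Subgroup.centralizer ({a} : Set G) ⊓ Subgroup.centralizer (K : Set G) → Cfsg.IsElementaryAbelian 2 B'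 → Nat.card ↥B' ≤ Nat.card ↥B) (b : G) (hb : b ∈ B) (hb1 : b ≠ 1) : K ≤ Subgroup.centralizer ({b} : Set G) ∧ Cfsg.IsComponent (K.subgroupOf (Subgroup.centralizer ({b} : Set G))) := by
  have hBc := hBel.1
  have hBC : B ≤ centralizer ({b} : Set G) := fun x hx =>
    mem_centralizer_singleton_iff.mpr (setLike_mul_comm hx hb)
  have hKC : K ≤ centralizer ({b} : Set G) := fun k hk =>
    mem_centralizer_singleton_iff.mpr (mem_centralizer_iff.mp (hBle hb).2 k hk)
  refine ⟨hKC, ?_⟩
  set C := centralizer ({b} : Set G) with hC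
  have hb2 : orderOf b = 2 := orderOf_eq_prime (hBel.2 b hb) hb1
  have ha2 : a * a = 1 := by rw [← sq, ← ha]; exact pow_orderOf_eq_one a
  have haK : a ∈ centralizer (K : Set G) := mem_centralizer_iff.mpr fun k hk =>
    mem_centralizer_singleton_iff.mp (hKa hk)
  have haB : a ∈ B := by
    by_contra haB
    have hZel : Cfsg.IsElementaryAbelian 2 (zpowers a) := by
      refine ⟨inferInstance, ?_⟩
      rintro _ ⟨n, rfl⟩
      show (a ^ n) ^ 2 = 1
      rw [← zpow_natCast, ← zpow_mul, mul_comm, zpow_mul, zpow_natCast, sq, ha2, one_zpow]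
    have hd : Disjoint B (zpowers a) := by
      have hc : Nat.card (zpowers a) = 2 := by rw [Nat.card_zpowers, ha]
      rw [disjoint_iff]
      rcases eq_or_ne (B ⊓ zpowers a) ⊥ with h | h
      · exact h
      exfalso
      have h2 : Nat.card ↥(B ⊓ zpowers a) ∣ 2 := hc ▸ card_dvd_of_le inf_le_right
      rcases (Nat.dvd_prime Nat.prime_two).mp h2 with h3 | h3
      · exact h (Subgroup.card_eq_one.mp h3)
      · exact haB ((eq_of_le_of_card_ge inf_le_right (by rw [h3, hc]) :
          B ⊓ zpowers a = zpowers a).ge (mem_zpowers a)).1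
    obtain ⟨hel, hcard⟩ := ComponentTwo.elementary_sup hBel hZel (hBle.trans inf_le_left |>.trans
      (by rw [zpowers_eq_closure, centralizer_closure])) hd
    have hle := hBmax _ (sup_le hBle (zpowers_le.mpr ⟨mem_centralizer_singleton_iff.mpr rfl, haK⟩)) hel
    rw [hcard, Nat.card_zpowers, ha] at hle
    have := Nat.card_pos (α := B)
    omega
  have haC : a ∈ C := hBC haB
  obtain ⟨A, hA, hA2, hA3⟩ : ∃ A : Subgroup K, IsMulCommutative A ∧ (∀ x ∈ A, x ^ 2 = 1) ∧ 2 < Nat.card A := by
    by_contra h
    push Not at h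
    exact hrk fun A h1 h2 => by simpa using h A h1 h2
  have hAp : IsPGroup 2 A := fun x => ⟨1, Subtype.ext (by simpa using hA2 x x.2)⟩
  haveI : Fact (Nat.Prime 2) := ⟨Nat.prime_two⟩
  obtain ⟨j, hj⟩ := IsPGroup.iff_card.mp hAp
  have he : Even (Nat.card K) := by
    refine even_iff_two_dvd.mpr ((Dvd.dvd.trans ?_ (Subgroup.card_subgroup_dvd_card A)))
    rcases Nat.eq_zero_or_pos j with rfl | h
    · rw [pow_zero] at hj; omega
    · exact hj ▸ dvd_pow_self 2 h.ne'
  -- the layer of `C`
  have hBb : ⁅Cfsg.pLayer 2 C, Cfsg.oddCore C⁆ = ⊥ :=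
    (map_eq_bot_iff_of_injective _ C.subtype_injective).mp (le_bot_iff.mp (hO ▸ hB b hb2))
  set a' : C := ⟨a, haC⟩
  have ha' : a' * a' = 1 := Subtype.ext ha2
  set K' := K.subgroupOf C with hK'
  have hK'a : K' ≤ centralizer ({a'} : Set C) := fun x hx =>
    mem_centralizer_singleton_iff.mpr (Subtype.ext (mem_centralizer_singleton_iff.mp (hKa hx)))
  let ψ : centralizer ({a'} : Set C) →* centralizer ({a} : Set G) :=
    (C.subtype.comp (Subgroup.subtype _)).codRestrict _ fun x => mem_centralizer_singleton_iff.mpr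
      (congrArg Subtype.val (mem_centralizer_singleton_iff.mp x.2))
  have hψ : Function.Injective ψ := fun x y h => Subtype.ext (Subtype.ext (congrArg (fun z : centralizer ({a} : Set G) => (z : G)) h))
  have hK'c : Cfsg.IsComponent (K'.subgroupOf (centralizer ({a'} : Set C))) := by
    have h := ComponentTwo.component_comap hψ (K := K.subgroupOf (centralizer ({a} : Set G)))
      (fun x hx => ⟨⟨⟨x.1, hKC hx⟩, mem_centralizer_singleton_iff.mpr
        (Subtype.ext (mem_centralizer_singleton_iff.mp x.2))⟩, Subtype.ext rfl⟩) hK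
    exact h
  have hcardK' : Nat.card K' = Nat.card K := Nat.card_congr (subgroupOfEquivOfLe hKC).toEquiv
  have hza : IsPGroup 2 (zpowers a') := by
    refine IsPGroup.of_card (n := 1) ?_
    rw [Nat.card_zpowers, pow_one]
    exact (orderOf_injective C.subtype C.subtype_injective a').symm.trans ha
  have hE := ComponentTwo.le_layer_of_component hza hK'a hK'c (hcardK' ▸ he) hBb
  obtain ⟨D, hD, -, hfix, hmov⟩ := ComponentTwo.exists_component ha' hK'a hK'c hE
  have hDc : Cfsg.IsComponent ((D.map C.subtype).subgroupOf C) := by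
    have : (D.map C.subtype).subgroupOf C = D := comap_map_eq_self_of_injective C.subtype_injective D
    rwa [this]
  obtain ⟨hle, hrkeq⟩ := hmax b hb2 (D.map C.subtype) (map_subtype_le D) hDc
  have hcardD : Nat.card (D.map C.subtype) = Nat.card D := card_map_of_injective C.subtype_injective
  rw [hcardD] at hle hrkeq
  by_cases hf : D.map (MulAut.conj a').toMonoidHom = D
  · have : K' = D := eq_of_le_of_card_ge (hfix hf) (hcardK' ▸ hle)
    exact this ▸ hD
  exfalso
  obtain ⟨h, hR⟩ := hmov hf
  have h1 : Nat.card K' ≤ Nat.card (ComponentTwo.diag D a' h).range := card_le_of_le hR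
  have h2 : Nat.card (ComponentTwo.diag D a' h).range ≤ Nat.card D :=
    Nat.card_le_card_of_surjective _ (ComponentTwo.diag D a' h).rangeRestrict_surjective
  have heqR : K' = (ComponentTwo.diag D a' h).range := eq_of_le_of_card_ge hR (by omega)
  have hinj : Function.Injective (ComponentTwo.diag D a' h) := by
    have hbij := (Nat.bijective_iff_surjective_and_card (ComponentTwo.diag D a' h).rangeRestrict).mpr
      ⟨(ComponentTwo.diag D a' h).rangeRestrict_surjective, by omega⟩
    exact fun x y hxy => hbij.1 (Subtype.ext hxy)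
  have hBp : IsPGroup 2 B := fun x => ⟨1, Subtype.ext (by simpa using hBel.2 x x.2)⟩
  obtain ⟨m, hm⟩ := IsPGroup.iff_card.mp hBp
  have hrkm := hrkeq (by omega) m (fun A' hA'c hA'2 => by
    rw [← hm]
    refine (card_map_of_injective (K := A') (Subgroup.subtype_injective _)).symm.le.trans ?_
    refine hBmax _ (map_subtype_le A') ⟨inferInstance, ?_⟩
    rintro _ ⟨x, hx, rfl⟩
    rw [← map_pow, hA'2 x hx, map_one])
  -- an elementary abelian subgroup of `D` of order at least four
  have hB' : Cfsg.IsElementaryAbelian 2 (B.subgroupOf C) :=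
    ⟨⟨⟨fun x y => Subtype.ext (Subtype.ext (setLike_mul_comm (S := Subgroup G) (s := B) x.2 y.2))⟩⟩,
      fun x hx => Subtype.ext (hBel.2 x hx)⟩
  let e : D ≃* K := ((MonoidHom.ofInjective hinj).trans (MulEquiv.subgroupCongr heqR.symm)).trans
    (subgroupOfEquivOfLe hKC)
  set A0 := (A.map e.symm.toMonoidHom).map D.subtype with hA0
  have hA0el : Cfsg.IsElementaryAbelian 2 A0 := by
    refine ⟨inferInstance, ?_⟩
    rintro _ ⟨_, ⟨x, hx, rfl⟩, rfl⟩
    rw [← map_pow, ← map_pow, hA2 x hx, map_one, map_one]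
  have hA0card : Nat.card A0 = Nat.card A := by
    rw [hA0, card_map_of_injective D.subtype_injective, card_map_of_injective e.symm.injective]
  obtain ⟨E, hED, hEel, hEcard⟩ := ComponentTwo.exists_larger_elementary ha' hD hf h hinj hB'
    (mem_subgroupOf.mpr haB)
    (heqR ▸ fun x hx => mem_centralizer_iff.mpr fun k hk =>
      Subtype.ext (mem_centralizer_iff.mp (hBle hx).2 k hk))
    (map_subtype_le _) hA0el (hA0card ▸ hA3)
  set S := centralizer ({b} : Set G) ⊓ centralizer ((D.map C.subtype : Subgroup G) : Set G) with hS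
  have hES : E.map C.subtype ≤ S := by
    rintro _ ⟨x, hx, rfl⟩
    refine ⟨x.2, mem_centralizer_iff.mpr ?_⟩
    rintro _ ⟨d, hd, rfl⟩
    exact congrArg Subtype.val (mem_centralizer_iff.mp (hED hx) d hd)
  have hEc := hEel.1
  have := hrkm ((E.map C.subtype).subgroupOf S)
    ⟨⟨fun x y => Subtype.ext (Subtype.ext (setLike_mul_comm (S := Subgroup G) (s := E.map C.subtype) x.2 y.2))⟩⟩
    (fun x hx => by
      obtain ⟨z, hz, hzx⟩ := mem_subgroupOf.mp hx
      refine Subtype.ext ?_
      rw [coe_pow, ← hzx, ← map_pow, hEel.2 z hz, map_one]; rfl)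
  rw [Nat.card_congr (subgroupOfEquivOfLe hES).toEquiv, card_map_of_injective C.subtype_injective,
    ← hm, ← Nat.card_congr (subgroupOfEquivOfLe hBC).toEquiv] at this
  omega

end Cfsg.Agent.S1305
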