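import Cfsg.Statements.S1306
import Cfsg.Agent.Lib.Components.LocalFix

set_option autoImplicit false
open Cfsg

namespace Cfsg.Agent.S1306

/-- Let G be finite, x an involution and L ≤ C_G(x) a component of C_G(x). Suppose L is a component of C_G(y) for every involution y ∈ C_G(L), and ⁅L, g L g⁻¹⁆ ≠ 1 whenever g L g⁻¹ ≠ L. Then L is a standard subgroup of G. -/
theorem result {G : Type*} [Group G] [Finite G] (x : G) (hx : orderOf x = 2) (L : Subgroup G) (hLx : L ≤ Subgroup.centralizer ({x} : Set G)) (hL : Cfsg.IsComponent (L.subgroupOf (Subgroup.centralizer ({x} : Set G)))) (hne : ∀ y : G, orderOf y = 2 → y ∈ Subgroup.centralizer (L : Set G) → L ≤ Subgroup.centralizer ({y} : Set G) ∧ Cfsg.IsComponent (L.subgroupOf (Subgroup.centralizer ({y} : Set G)))) (hnc : ∀ g : G, L.map (MulAut.conj g).toMonoidHom ≠ L → ⁅L, L.map (MulAut.conj g).toMonoidHom⁆ ≠ ⊥) : Cfsg.IsStandardSubgroup L := by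
  haveI : Fact (Nat.Prime 2) := ⟨Nat.prime_two⟩
  open Subgroup Cfsg.Agent.Components.Basic in
  have hq : Cfsg.IsQuasisimple L := quasisimple_of_mulEquiv (subgroupOfEquivOfLe hLx) hL.2
  open Subgroup Cfsg.Agent.Components.Basic in
  have hxC : x ∈ centralizer (L : Set G) := mem_centralizer_iff.mpr fun l hl =>
    mem_centralizer_singleton_iff.mp (hLx hl)
  -- two conjugates centralized by a common involution coincide
  open Subgroup Cfsg.Agent.Components.Basic in
  have key : ∀ g u : G, orderOf u = 2 → u ∈ centralizer (L : Set G) →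
      (MulAut.conj g⁻¹) u ∈ centralizer (L : Set G) → L.map (MulAut.conj g).toMonoidHom = L := by
    intro g u hu hu1 hu2
    by_contra hne'
    obtain ⟨hLu, hcomp⟩ := hne u hu hu1
    set v := (MulAut.conj g⁻¹) u with hv
    obtain ⟨hLv, hcompv⟩ := hne v (((MulAut.conj g⁻¹).orderOf_eq u).trans hu) hu2
    have huv : g * v * g⁻¹ = u := by simp [hv, mul_assoc]
    set L' := L.map (MulAut.conj g).toMonoidHom with hL'
    have hmapC : (centralizer ({v} : Set G)).map (MulAut.conj g).toMonoidHom = centralizer ({u} : Set G) := by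
      ext z
      constructor
      · rintro ⟨w, hw, rfl⟩
        have h := congrArg (MulAut.conj g) (mem_centralizer_singleton_iff.mp hw)
        rw [map_mul, map_mul] at h
        rw [mem_centralizer_singleton_iff, ← huv]
        exact h
      · intro hz
        refine ⟨g⁻¹ * z * g, mem_centralizer_singleton_iff.mpr ?_, by simp [mul_assoc]⟩
        have h := mem_centralizer_singleton_iff.mp hz
        rw [← huv] at h
        calc g⁻¹ * z * g * v = g⁻¹ * (z * (g * v * g⁻¹)) * g := by group
          _ = g⁻¹ * ((g * v * g⁻¹) * z) * g := by rw [h]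
          _ = v * (g⁻¹ * z * g) := by group
    have hL'u : L' ≤ centralizer ({u} : Set G) := hmapC ▸ Subgroup.map_mono hLv
    have hcomp' : Cfsg.IsComponent (L'.subgroupOf (centralizer ({u} : Set G))) := by
      set e : ↥(centralizer ({v} : Set G)) ≃* ↥(centralizer ({u} : Set G)) :=
        ((MulAut.conj g).subgroupMap _).trans (MulEquiv.subgroupCongr hmapC) with he
      have heq : (L.subgroupOf (centralizer ({v} : Set G))).map e.toMonoidHom =
          L'.subgroupOf (centralizer ({u} : Set G)) := by
        ext z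
        constructor
        · rintro ⟨w, hw, rfl⟩
          exact mem_subgroupOf.mpr ⟨w, mem_subgroupOf.mp hw, rfl⟩
        · intro hz
          obtain ⟨l, hl, hlz⟩ := mem_subgroupOf.mp hz
          exact ⟨⟨l, hLv hl⟩, hl, Subtype.ext hlz⟩
      rw [← heq]
      exact (isComponent_map_equiv e _).mpr hcompv
    refine hnc g hne' ?_
    have h0 := component_commutator_eq_bot_of_ne hcomp hcomp' fun h => hne' ?_
    · have := congrArg (Subgroup.map (centralizer ({u} : Set G)).subtype) h0
      rwa [map_commutator, map_subgroupOf_eq_of_le hLu, map_subgroupOf_eq_of_le hL'u, Subgroup.map_bot] at this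
    · have := congrArg (Subgroup.map (centralizer ({u} : Set G)).subtype) h
      rw [map_subgroupOf_eq_of_le hLu, map_subgroupOf_eq_of_le hL'u] at this
      exact this.symm
  open Subgroup Cfsg.Agent.Components.Basic in
  have hNC : normalizer (L : Set G) ≤ normalizer (centralizer (L : Set G) : Set G) := by
    refine le_normalizer_iff.mpr fun g hg c hc => ?_
    rw [mem_centralizer_iff]
    intro l hl
    have hl' : g⁻¹ * l * g ∈ L := (mem_normalizer_iff''.mp hg l).mp hl
    calc l * (g * c * g⁻¹) = g * ((g⁻¹ * l * g) * c) * g⁻¹ := by group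
      _ = g * (c * (g⁻¹ * l * g)) * g⁻¹ := by rw [mem_centralizer_iff.mp hc _ hl']
      _ = g * c * g⁻¹ * l := by group
  refine ⟨hq, ⟨?_, fun g hg => ?_⟩, hnc, le_antisymm hNC fun g hg => ?_⟩
  · exact even_iff_two_dvd.mpr (hx ▸ Subgroup.orderOf_dvd_natCard _ hxC)
  · by_contra hev
    rw [Nat.not_odd_iff_even, even_iff_two_dvd] at hev
    obtain ⟨⟨u, hu⟩, huo⟩ := exists_prime_orderOf_dvd_card' 2 hev
    rw [Subgroup.orderOf_mk] at huo
    obtain ⟨hu1, hu2⟩ := Subgroup.mem_inf.mp hu
    obtain ⟨c, hc, hcu⟩ := hu2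
    refine hg (hNC (Subgroup.mem_normalizer_iff_map_conj_eq.mpr (key g u huo hu1 ?_)))
    rw [← hcu]
    simpa [mul_assoc] using hc
  · refine Subgroup.mem_normalizer_iff_map_conj_eq.mpr (key g x hx hxC ?_)
    exact ((Subgroup.mem_normalizer_iff''.mp hg x).mp hxC) |> fun h => by simpa [mul_assoc] using h

end Cfsg.Agent.S1306
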