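import Cfsg.Statements.S1307
import Cfsg.Agent.Lib.Components.Basic
import Cfsg.Agent.Lib.ZStar.Consequences
import Cfsg.Agent.Lib.PGroups.UniqueSubgroup
import Cfsg.Agent.Lib.Involutions.ThompsonTransfer

set_option autoImplicit false
set_option linter.style.haveILetI false
set_option linter.unusedVariables false
open Cfsg

namespace Cfsg.Agent.S1307

open Subgroup Components
open scoped commutatorElement

universe u

/-- A quasisimple group of even order and rank one has quaternion Sylow subgroups and a central involution. -/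
lemma structure_of_rank_one {X : Type u} [Group X] [Finite X] (hq : Cfsg.IsQuasisimple X)
    (heven : Even (Nat.card X)) (hrk : Cfsg.PRankLE 2 1 X) :
    (∃ z : X, orderOf z = 2 ∧ z ∈ center X) ∧
      ∃ S : Sylow 2 X, ∃ n : ℕ, Nonempty ((S : Subgroup X) ≃* QuaternionGroup (2 ^ (n + 1))) := by
  haveI : Fact (Nat.Prime 2) := ⟨Nat.prime_two⟩
  have hU : ZStar.UniqueInvolution.CommInvEq X :=
    ZStar.Consequences.commInvEq_of_no_klein fun E hE => by
      have h4 : Nat.card E = 4 := hE.card_four
      have hc : IsMulCommutative E := ⟨⟨fun a b => mul_comm_of_exponent_two hE.exponent_two a b⟩⟩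
      have := hrk E hc fun a ha => congrArg Subtype.val
        (show (⟨a, ha⟩ : E) ^ 2 = 1 by rw [← hE.exponent_two]; exact Monoid.pow_exponent_eq_one _)
      rw [h4] at this
      norm_num at this
  obtain ⟨z, hz⟩ := exists_prime_orderOf_dvd_card' (G := X) 2 (even_iff_two_dvd.mp heven)
  have hperf : commutator X = ⊤ := hq.1.commutator_eq_top
  have hOZ : Cfsg.oddCore X ≤ center X := by
    refine (Basic.quasisimple_eq_top_or_le_center_of_normal hq _).resolve_left fun h => ?_
    have h' := InvChar.Core.odd_card_oddCore (G := X)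
    rw [h, card_top] at h'
    exact Nat.not_even_iff_odd.mpr h' heven
  have hzc : z ∈ center X := by
    have hmem : ∀ g : X, z * g * z⁻¹ * g⁻¹ ∈ center X := fun g =>
      hOZ (ZStar.Main.commutator_mem_oddCore (ZStar.UniqueInvolution.isolated hU hz) g)
    let f : X →* center X :=
      { toFun := fun g => ⟨z * g * z⁻¹ * g⁻¹, hmem g⟩
        map_one' := Subtype.ext (by simp)
        map_mul' := fun g h => Subtype.ext (by
          show z * (g * h) * z⁻¹ * (g * h)⁻¹ = z * g * z⁻¹ * g⁻¹ * (z * h * z⁻¹ * h⁻¹)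
          rw [mem_center_iff.mp (hmem h) (z * g * z⁻¹ * g⁻¹)]
          have h2 := mem_center_iff.mp (hmem h) (z * g * z⁻¹)
          calc z * (g * h) * z⁻¹ * (g * h)⁻¹
              = (z * g * z⁻¹) * (z * h * z⁻¹ * h⁻¹) * g⁻¹ := by group
            _ = (z * h * z⁻¹ * h⁻¹) * (z * g * z⁻¹) * g⁻¹ := by rw [h2]
            _ = _ := by group) }
    refine mem_center_iff.mpr fun g => ?_
    have hg : g ∈ f.ker := by
      have h1 : commutator X ≤ f.ker := (commutator_def X).le.trans (commutator_le.mpr fun a _ b _ => by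
        rw [MonoidHom.mem_ker, map_commutatorElement, commutatorElement_eq_one_iff_commute]
        exact Subtype.ext (mem_center_iff.mp (f b).2 (f a : X)))
      rw [hperf] at h1
      exact h1 (mem_top g)
    have h1 : z * g * z⁻¹ * g⁻¹ = 1 := congrArg Subtype.val (MonoidHom.mem_ker.mp hg)
    exact (mul_inv_eq_iff_eq_mul.mp (mul_inv_eq_one.mp h1)).symm
  refine ⟨⟨z, hz, hzc⟩, ?_⟩
  obtain ⟨S⟩ := (inferInstance : Nonempty (Sylow 2 X))
  have hncyc : ¬ IsCyclic (S : Subgroup X) := fun hc => by
    obtain ⟨H, hH⟩ := Involutions.ThompsonTransfer.exists_index_two_of_isCyclic_sylow heven S hc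
    haveI := normal_of_index_eq_two hH
    have h1 : commutator X ≤ H := (commutator_def X).le.trans (commutator_le.mpr fun a _ b _ => by
      haveI : IsCyclic (X ⧸ H) := isCyclic_of_prime_card (p := 2) hH
      refine (QuotientGroup.eq_one_iff ⁅a, b⁆).mp ?_
      show QuotientGroup.mk' H ⁅a, b⁆ = 1
      rw [map_commutatorElement, commutatorElement_eq_one_iff_commute]
      obtain ⟨g, hg⟩ := IsCyclic.exists_generator (α := X ⧸ H)
      obtain ⟨m, hm⟩ := hg (QuotientGroup.mk' H a)
      obtain ⟨m', hm'⟩ := hg (QuotientGroup.mk' H b)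
      rw [← hm, ← hm']
      exact Commute.zpow_zpow_self g m m')
    rw [hperf, top_le_iff] at h1
    rw [h1, index_top] at hH
    norm_num at hH
  have huniq : ∀ H K : Subgroup (S : Subgroup X), Nat.card H = 2 → Nat.card K = 2 → H = K := by
    intro H K hH hK
    obtain ⟨a, ha⟩ := exists_prime_orderOf_dvd_card' (G := H) 2 hH.symm.dvd
    obtain ⟨b, hb⟩ := exists_prime_orderOf_dvd_card' (G := K) 2 hK.symm.dvd
    have hzS : z ∈ (S : Subgroup X) := by
      haveI : (zpowers z).Normal := ⟨fun v hv g => by
        rwa [mem_center_iff.mp (zpowers_le.mpr hzc hv) g, mul_inv_cancel_right]⟩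
      exact (IsPGroup.of_card (n := 1) (by rw [Nat.card_zpowers, hz, pow_one]) :
        IsPGroup 2 (zpowers z)).le_sylow_of_normal S (mem_zpowers z)
    have key : ∀ (H : Subgroup (S : Subgroup X)) (a : H), Nat.card H = 2 → orderOf a = 2 →
        H = zpowers (⟨z, hzS⟩ : (S : Subgroup X)) := by
      intro H a hH ha
      have h : ((a : (S : Subgroup X)) : X) = z := hU _ _ (by rw [orderOf_coe, orderOf_coe, ha]) hz
        (mem_center_iff.mp hzc _)
      refine (eq_of_le_of_card_ge (zpowers_le.mpr ?_) (le_of_eq ?_)).symm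
      · rw [show (⟨z, hzS⟩ : (S : Subgroup X)) = a from Subtype.ext h.symm]
        exact a.2
      · rw [hH, Nat.card_zpowers, ← orderOf_coe]
        exact hz.symm
    rw [key H a hH ha, key K b hK hb]
  rcases PGroups.UniqueSubgroup.isCyclic_or_quaternion S.isPGroup' huniq with h | ⟨-, n, hn⟩
  · exact absurd h hncyc
  · obtain ⟨e⟩ := hn
    cases n with
    | zero =>
      refine absurd ?_ hncyc
      haveI := QuaternionGroup.quaternionGroup_one_isCyclic
      exact isCyclic_of_surjective e.symm.toMonoidHom e.symm.surjective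
    | succ n => exact ⟨S, n, ⟨e⟩⟩


/-- Let G be finite, x an involution and L ≤ C_G(x) a component of C_G(x) of even order and 2-rank 1, such that L is a component of C_G(y) for every involution y ∈ C_G(L). Then some involution of L is a classical involution of G. -/
theorem result {G : Type*} [Group G] [Finite G] (x : G) (hx : orderOf x = 2) (L : Subgroup G) (hLx : L ≤ Subgroup.centralizer ({x} : Set G)) (hL : Cfsg.IsComponent (L.subgroupOf (Subgroup.centralizer ({x} : Set G)))) (heven : Even (Nat.card ↥L)) (hrk : Cfsg.PRankLE 2 1 ↥L) (hne : ∀ y : G, orderOf y = 2 → y ∈ Subgroup.centralizer (L : Set G) → L ≤ Subgroup.centralizer ({y} : Set G) ∧ Cfsg.IsComponent (L.subgroupOf (Subgroup.centralizer ({y} : Set G)))) : ∃ t ∈ L, Cfsg.IsClassicalInvolution t := by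
  set C := centralizer ({x} : Set G)
  have hq : Cfsg.IsQuasisimple L := Basic.quasisimple_of_mulEquiv (subgroupOfEquivOfLe hLx) hL.2
  obtain ⟨⟨z, hz, hzc⟩, hS⟩ := structure_of_rank_one hq heven hrk
  have hzo : orderOf (z : G) = 2 := by rw [orderOf_coe, hz]
  have hzC : (z : G) ∈ centralizer (L : Set G) := mem_centralizer_iff.mpr fun l hl =>
    congrArg Subtype.val (mem_center_iff.mp hzc ⟨l, hl⟩)
  obtain ⟨hLz, hLzc⟩ := hne (z : G) hzo hzC
  exact ⟨z, z.2, hzo, L, hLz, z.2, hLzc.1, hS⟩

end Cfsg.Agent.S1307
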