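import Cfsg.Statements.S1313
import Cfsg.Agent.Lib.Components.Fitting

set_option autoImplicit false
open Cfsg

namespace Cfsg.Agent.S1313

/-- For a finite group H, |H| ≤ |F*(H)|!. -/
theorem result {H : Type*} [Group H] [Finite H] : Nat.card H ≤ Nat.factorial (Nat.card ↥(Cfsg.generalizedFittingSubgroup H)) := by
  classical
  set F := Cfsg.generalizedFittingSubgroup H with hF
  have hn : F.Normal := inferInstance
  set φ : H →* MulAut ↥F := MulAut.conjNormal with hφ
  have hker : φ.ker = Subgroup.centralizer (F : Set H) := by
    ext h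
    rw [MonoidHom.mem_ker, Subgroup.mem_centralizer_iff]
    constructor
    · intro he x hx
      have := congrArg (fun e : MulAut ↥F => ((e ⟨x, hx⟩ : ↥F) : H)) he
      simp only [hφ, MulAut.conjNormal_apply, MulAut.one_apply] at this
      exact (mul_inv_eq_iff_eq_mul.mp this).symm
    · intro hc
      ext x
      simp only [hφ, MulAut.conjNormal_apply, MulAut.one_apply]
      rw [mul_inv_eq_iff_eq_mul]
      exact (hc x x.2).symm
  have hC : Nat.card φ.ker ≤ Nat.card ↥F := by
    rw [hker]
    exact Subgroup.card_le_of_le Components.Fitting.centralizer_genFitting_le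
  have hfin : Finite (MulAut ↥F) := Finite.of_injective _ MulEquiv.toEquiv_injective
  have hA : Nat.card φ.range ≤ Nat.factorial (Nat.card ↥F - 1) := by
    refine le_trans (Subgroup.card_le_card_group _) ?_
    have hinj : Function.Injective (fun e : MulAut ↥F =>
        (e.toEquiv.subtypeEquiv (p := fun x => x ≠ 1) (q := fun x => x ≠ 1)
          fun x => by simp : Equiv.Perm {x : ↥F // x ≠ 1})) := by
      intro e₁ e₂ he
      ext x
      by_cases hx : x = 1
      · subst hx
        simp
      · exact congrArg (fun y => ((y.1 : ↥F) : H)) (Equiv.congr_fun he ⟨x, hx⟩)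
    refine (Nat.card_le_card_of_injective _ hinj).trans ?_
    have := Fintype.ofFinite ↥F
    rw [Nat.card_perm, Nat.card_eq_fintype_card, Nat.card_eq_fintype_card, Fintype.card_subtype_compl,
      Fintype.card_subtype_eq]
  calc Nat.card H = Nat.card φ.ker * Nat.card φ.range := by
        rw [← Subgroup.index_ker, Subgroup.card_mul_index]
    _ ≤ Nat.card ↥F * Nat.factorial (Nat.card ↥F - 1) := Nat.mul_le_mul hC hA
    _ = Nat.factorial (Nat.card ↥F) := Nat.mul_factorial_pred Nat.card_pos.ne'

end Cfsg.Agent.S1313
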