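import Cfsg.Statements.S1314
import Cfsg.Agent.Lib.Components.Basic
import Cfsg.Agent.Lib.Coprime.Basic

set_option autoImplicit false
open Cfsg
open scoped commutatorElement

namespace Cfsg.Agent.S1314

/-- Let x be an involution of a group G and L a perfect subgroup with ⁅L, x L x⁻¹⁆ = 1. Then l ↦ l (x l x⁻¹) is a group homomorphism π from L to G whose kernel is central in L and whose image lies in C_G(x); and the commutator subgroup of C_{L ⊔ xLx⁻¹}(x) equals the image of π. -/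
theorem result {G : Type*} [Group G] [Finite G] (x : G) (hx : orderOf x = 2) (L : Subgroup G) (hperf : ⁅L, L⁆ = L) (hcomm : ⁅L, L.map (MulAut.conj x).toMonoidHom⁆ = ⊥) : ∃ π : ↥L →* G, (∀ l : ↥L, π l = (l : G) * (x * (l : G) * x⁻¹)) ∧ π.ker ≤ Subgroup.center ↥L ∧ π.range ≤ Subgroup.centralizer ({x} : Set G) ∧ ⁅(L ⊔ L.map (MulAut.conj x).toMonoidHom) ⊓ Subgroup.centralizer ({x} : Set G), (L ⊔ L.map (MulAut.conj x).toMonoidHom) ⊓ Subgroup.centralizer ({x} : Set G)⁆ = π.range := by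
  have hx2 : x * x = 1 := by rw [← pow_two, ← hx, pow_orderOf_eq_one]
  have hxi : x⁻¹ = x := inv_eq_of_mul_eq_one_right hx2
  set L' := L.map (MulAut.conj x).toMonoidHom with hL'
  have hconj : ∀ l : G, l ∈ L → x * l * x⁻¹ ∈ L' := fun l hl => ⟨l, hl, rfl⟩
  have hc : ∀ a ∈ L, ∀ b ∈ L', a * b = b * a := fun a ha b hb =>
    (Subgroup.mem_centralizer_iff.mp (Subgroup.commutator_eq_bot_iff_le_centralizer.mp hcomm ha) b hb).symm
  let π : ↥L →* G :=
    { toFun := fun l => (l : G) * (x * (l : G) * x⁻¹)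
      map_one' := by simp
      map_mul' := fun a b => by
        have h := hc b b.2 _ (hconj a a.2)
        calc ((a * b : ↥L) : G) * (x * ((a * b : ↥L) : G) * x⁻¹)
            = (a : G) * ((b : G) * (x * (a : G) * x⁻¹)) * (x * (b : G) * x⁻¹) := by simp [mul_assoc]
          _ = (a : G) * (x * (a : G) * x⁻¹) * ((b : G) * (x * (b : G) * x⁻¹)) := by
              rw [h]; simp [mul_assoc] }
  have hπC : π.range ≤ Subgroup.centralizer ({x} : Set G) := by
    rintro _ ⟨l, rfl⟩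
    rw [Subgroup.mem_centralizer_singleton_iff]
    show (l : G) * (x * (l : G) * x⁻¹) * x = x * ((l : G) * (x * (l : G) * x⁻¹))
    calc (l : G) * (x * (l : G) * x⁻¹) * x = (l : G) * x * (l : G) := by group
      _ = x * ((x * (l : G) * x⁻¹) * (l : G)) := by
          rw [hxi, ← mul_assoc x, ← mul_assoc x, ← mul_assoc x, hx2, one_mul]
      _ = x * ((l : G) * (x * (l : G) * x⁻¹)) := by rw [hc l l.2 _ (hconj l l.2)]
  have hL'n : L' ≤ Subgroup.normalizer (L : Set G) :=
    le_trans (fun b hb => Subgroup.mem_centralizer_iff.mpr fun a ha => hc a ha b hb)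
      (Subgroup.centralizer_le_normalizer _)
  refine ⟨π, fun l => rfl, ?_, hπC, ?_⟩
  · intro l hl
    rw [MonoidHom.mem_ker] at hl
    rw [Subgroup.mem_center_iff]
    intro g
    have hlL' : (l : G) ∈ L' := by
      have h : (l : G) = (x * (l : G) * x⁻¹)⁻¹ := eq_inv_of_mul_eq_one_left hl
      rw [h]; exact L'.inv_mem (hconj l l.2)
    exact Subtype.ext (hc g g.2 l hlL')
  · set M := (L ⊔ L') ⊓ Subgroup.centralizer ({x} : Set G)
    have hrange : π.range ≤ M := by
      refine le_inf ?_ hπC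
      rintro _ ⟨l, rfl⟩
      exact Subgroup.mul_mem_sup l.2 (hconj l l.2)
    have hp : ⁅π.range, π.range⁆ = π.range := by
      have := Subgroup.isPerfect_iff.mpr hperf
      exact Subgroup.isPerfect_iff.mp (Group.IsPerfect.range π)
    refine le_antisymm ?_ (hp.symm.le.trans (Subgroup.commutator_mono hrange hrange))
    have hdec : ∀ m ∈ M, ∃ r ∈ π.range, ∃ z, (∀ y ∈ π.range, z * y = y * z) ∧
        (∀ z' ∈ L ⊓ L', z * z' = z' * z) ∧ z ∈ L ⊓ L' ∧ m = r * z := by
      rintro m ⟨hm, hmC⟩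
      obtain ⟨a, ha, b', hb', rfl⟩ := (Coprime.mem_sup_of_le_normalizer hL'n).mp hm
      rw [hc a ha b' hb'] at hmC ⊢
      obtain ⟨b, hb, rfl⟩ := hb'
      change x * b * x⁻¹ * a ∈ Subgroup.centralizer ({x} : Set G) at hmC
      have hfix := Subgroup.mem_centralizer_singleton_iff.mp hmC
      -- `b' a = (x a x) b`, so `z = b⁻¹ a` lies in both factors
      have h1 : x * a * x⁻¹ * b = x * b * x⁻¹ * a := by
        have h' : x * (x * b * x⁻¹ * a) * x⁻¹ = x * b * x⁻¹ * a := by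
          rw [show x * (x * b * x⁻¹ * a) = (x * b * x⁻¹ * a) * x from hfix.symm, mul_inv_cancel_right]
        rw [← h', hxi, ← hc b hb (x * a * x) (by have := hconj a ha; rwa [hxi] at this)]
        calc b * (x * a * x) = (x * x) * b * (x * a * x) := by rw [hx2, one_mul]
          _ = x * (x * b * x * a) * x := by group
      have hz1 : b⁻¹ * a ∈ L := L.mul_mem (L.inv_mem hb) ha
      have h2 : a * b⁻¹ = (x * b * x⁻¹)⁻¹ * (x * a * x⁻¹) := by
        rw [eq_inv_mul_iff_mul_eq, ← mul_assoc, ← h1, mul_inv_cancel_right]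
      have hz2 : a * b⁻¹ ∈ L' := h2 ▸ L'.mul_mem (L'.inv_mem (hconj b hb)) (hconj a ha)
      have hz3 : b⁻¹ * a = a * b⁻¹ := by
        have h := hc b⁻¹ (L.inv_mem hb) _ hz2
        calc b⁻¹ * a = b⁻¹ * (a * b⁻¹) * b := by group
          _ = (a * b⁻¹) * b⁻¹ * b := by rw [h]
          _ = a * b⁻¹ := by group
      have hzL' : b⁻¹ * a ∈ L' := hz3 ▸ hz2
      refine ⟨x * b * x⁻¹ * b, ⟨⟨b, hb⟩, hc b hb _ (hconj b hb)⟩, b⁻¹ * a, ?_, ?_, ⟨hz1, hzL'⟩, ?_⟩
      · rintro _ ⟨l, rfl⟩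
        show b⁻¹ * a * ((l : G) * (x * (l : G) * x⁻¹)) = (l : G) * (x * (l : G) * x⁻¹) * (b⁻¹ * a)
        rw [← mul_assoc, ← hc l l.2 _ hzL', mul_assoc (l : G), hc _ hz1 _ (hconj l l.2), ← mul_assoc]
      · intro z' hz'
        exact hc _ hz1 z' hz'.2
      · show x * b * x⁻¹ * a = x * b * x⁻¹ * b * (b⁻¹ * a)
        group
    rw [Subgroup.commutator_le]
    intro m hm n hn
    obtain ⟨r, hr, z, hzr, hzz, hz, rfl⟩ := hdec m hm
    obtain ⟨s, hs, w, hwr, hwz, hw, rfl⟩ := hdec n hn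
    have : ⁅r * z, s * w⁆ = ⁅r, s⁆ := by
      simp only [commutatorElement_def, mul_inv_rev]
      have e1 : z * s = s * z := hzr s hs
      have e2 : z * w = w * z := hzz w hw
      have e3 : Commute z r⁻¹ := Commute.inv_right (hzr r hr)
      have e4 : Commute w s⁻¹ := Commute.inv_right (hwr s hs)
      have e5 : Commute w r⁻¹ := Commute.inv_right (hwr r hr)
      calc r * z * (s * w) * (z⁻¹ * r⁻¹) * (w⁻¹ * s⁻¹)
          = r * (z * s) * w * z⁻¹ * r⁻¹ * w⁻¹ * s⁻¹ := by group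
        _ = r * s * (z * w) * z⁻¹ * r⁻¹ * w⁻¹ * s⁻¹ := by rw [e1]; group
        _ = r * s * (w * r⁻¹) * w⁻¹ * s⁻¹ := by rw [e2]; group
        _ = r * s * r⁻¹ * s⁻¹ := by rw [e5.eq]; group
    rw [this]
    exact hp.le (Subgroup.commutator_mem_commutator hr hs)

end Cfsg.Agent.S1314
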