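import Cfsg.Statements.S1316
import Cfsg.Agent.Lib.Components.Fitting

set_option autoImplicit false
open Cfsg

namespace Cfsg.Agent.S1316

/-- For a finite group X, E(X) equals the intersection of the derived series of F*(X) (its last term). -/
theorem result {X : Type*} [Group X] [Finite X] : (⨅ n : ℕ, (derivedSeries ↥(Cfsg.generalizedFittingSubgroup X) n).map (Cfsg.generalizedFittingSubgroup X).subtype) = Cfsg.layer X := by
  open Cfsg.Agent.Components.Basic Cfsg.Agent.Components.Fitting in
  set F := Cfsg.generalizedFittingSubgroup X with hF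
  apply le_antisymm
  · have hsol : Group.IsSolvable ↥((Cfsg.fittingSubgroup X).map (QuotientGroup.mk' (Cfsg.layer X))) :=
      Group.isSolvable_of_surjective ((QuotientGroup.mk' (Cfsg.layer X)).subgroupMap_surjective _)
    set f : ↥F →* ↥((Cfsg.fittingSubgroup X).map (QuotientGroup.mk' (Cfsg.layer X))) :=
      ((QuotientGroup.mk' (Cfsg.layer X)).comp F.subtype).codRestrict _ (fun y => by
        obtain ⟨e, he, g, hg, hy⟩ := Subgroup.mem_sup_of_normal_right.mp y.2
        refine ⟨g, hg, ?_⟩
        show QuotientGroup.mk' (Cfsg.layer X) g = QuotientGroup.mk' (Cfsg.layer X) (y : X)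
        rw [← hy, map_mul, (QuotientGroup.eq_one_iff (N := Cfsg.layer X) e).mpr he |> (fun h => (h : QuotientGroup.mk' (Cfsg.layer X) e = 1)), one_mul]) with hf
    obtain ⟨n, hn⟩ := hsol
    refine iInf_le_of_le n ?_
    rintro x ⟨y, hy, rfl⟩
    have : f y ∈ derivedSeries _ n := map_derivedSeries_le_derivedSeries f n ⟨y, hy, rfl⟩
    rw [hn, Subgroup.mem_bot] at this
    exact (QuotientGroup.eq_one_iff _).mp (congrArg Subtype.val this)
  · refine le_iInf fun n => ?_
    induction n with
    | zero =>
      rw [derivedSeries_zero, ← MonoidHom.range_eq_map, Subgroup.range_subtype]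
      exact layer_le_genFitting
    | succ n ih =>
      rw [derivedSeries_succ, Subgroup.map_commutator]
      exact commutator_layer_self.symm.trans_le (Subgroup.commutator_mono ih ih)

end Cfsg.Agent.S1316
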