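import Cfsg.Statements.S1319
import Cfsg.Agent.Lib.Components.Fitting

set_option autoImplicit false
open Cfsg

namespace Cfsg.Agent.S1319

/-- Let A be a subnormal subgroup of the finite group X with E(A) = A. Then A ≤ E(X) and A is normal in E(X). -/
theorem result {X : Type*} [Group X] [Finite X] (A : Subgroup X) (hsn : A.IsSubnormal) (hA : Cfsg.layer ↥A = ⊤) : A ≤ Cfsg.layer X ∧ (A.subgroupOf (Cfsg.layer X)).Normal := by
  open Cfsg.Agent.Components.Basic Cfsg.Agent.Components.Fitting in
  have hle : A ≤ Cfsg.layer X := by
    have h := map_layer_subtype_le hsn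
    rw [hA, ← MonoidHom.range_eq_map, Subgroup.range_subtype] at h
    exact h.trans inf_le_left
  refine ⟨hle, Subgroup.normal_subgroupOf_of_le_normalizer (layer_le fun K hK => ?_)⟩
  rcases component_le_or_commutator_eq_bot hK hsn with h | h
  · exact h.trans Subgroup.le_normalizer
  · exact (Subgroup.commutator_eq_bot_iff_le_centralizer.mp h).trans
      (Subgroup.centralizer_le_normalizer _)

end Cfsg.Agent.S1319
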