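import Cfsg.Statements.S1323
import Mathlib
import Cfsg.Agent.Lib.Components.Basic

set_option autoImplicit false
open Cfsg

namespace Cfsg.Agent.S1323

open Equiv Equiv.Perm Pointwise in
/-- A permutation in `A(s)` moving `y` and fixing `x`. -/
private lemma exists_move {n : ℕ} {s : Finset (Fin n)} {y : Fin n} (hy : y ∈ s) (x : Fin n)
    (hx : x ≠ y) (hs : 4 ≤ s.card) :
    ∃ k ∈ (alternatingGroup.ofSubtype s).range,
      (k : Equiv.Perm (Fin n)) y ≠ y ∧ (k : Equiv.Perm (Fin n)) x = x := by
  have h2 : 2 ≤ ((s.erase y).erase x).card := by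
    have h := Finset.pred_card_le_card_erase (a := x) (s := s.erase y)
    rw [Finset.card_erase_of_mem hy] at h
    omega
  obtain ⟨c, d, hc, hd, hcd⟩ := Finset.one_lt_card_iff.mp h2
  simp only [Finset.mem_erase] at hc hd
  have hk : swap y c * swap y d ∈ alternatingGroup (Fin n) :=
    Equiv.Perm.mem_alternatingGroup.mpr (by rw [map_mul, sign_swap hc.2.1.symm, sign_swap hd.2.1.symm]; rfl)
  refine ⟨⟨_, hk⟩, (alternatingGroup.mem_range_ofSubtype_iff s _).mpr fun z hz => ?_, ?_, ?_⟩
  · simp only [mem_support, Perm.coe_mul, Function.comp_apply] at hz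
    by_contra hzs
    have hzy : z ≠ y := fun h => hzs (h ▸ hy)
    have hzc : z ≠ c := fun h => hzs (h ▸ hc.2.2)
    have hzd : z ≠ d := fun h => hzs (h ▸ hd.2.2)
    exact hz (by rw [swap_apply_of_ne_of_ne hzy hzd, swap_apply_of_ne_of_ne hzy hzc])
  · simp only [Perm.coe_mul, Function.comp_apply, swap_apply_left]
    rw [swap_apply_of_ne_of_ne hd.2.1 hcd.symm]
    exact hd.2.1
  · simp only [Perm.coe_mul, Function.comp_apply]
    rw [swap_apply_of_ne_of_ne hx hd.1.symm, swap_apply_of_ne_of_ne hx hc.1.symm]

open Equiv Equiv.Perm Pointwise in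
private lemma subset_of_le {n : ℕ} {s s' : Finset (Fin n)} (hs : 4 ≤ s.card)
    (h : (alternatingGroup.ofSubtype s).range ≤ (alternatingGroup.ofSubtype s').range) : s ⊆ s' := by
  intro y hy
  obtain ⟨x, -, hx⟩ := Finset.exists_mem_ne (s := s) (by omega) y
  obtain ⟨k, hk, hky, -⟩ := exists_move hy x hx hs
  exact (alternatingGroup.mem_range_ofSubtype_iff s' k).mp (h hk) (mem_support.mpr hky)

open Equiv Equiv.Perm Pointwise in
private lemma centralizer_range {n : ℕ} {s : Finset (Fin n)} (hs : 4 ≤ s.card) :
    Subgroup.centralizer ((alternatingGroup.ofSubtype s).range : Set ↥(alternatingGroup (Fin n))) =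
      (alternatingGroup.ofSubtype sᶜ).range := by
  ext g
  rw [alternatingGroup.mem_range_ofSubtype_iff, Subgroup.mem_centralizer_iff]
  constructor
  · intro hg x hx
    rw [Finset.mem_compl]
    intro hxs
    have hgx := mem_support.mp hx
    have hcomm : ∀ k ∈ (alternatingGroup.ofSubtype s).range,
        (k : Perm (Fin n)) ((g : Perm (Fin n)) x) = (g : Perm (Fin n)) ((k : Perm (Fin n)) x) :=
      fun k hk => by
        have h := congrArg (fun u : ↥(alternatingGroup (Fin n)) => (u : Perm (Fin n)) x) (hg k hk)
        simpa using h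
    by_cases hys : (g : Perm (Fin n)) x ∈ s
    · obtain ⟨k, hk, hky, hkx⟩ := exists_move hys x (Ne.symm hgx) hs
      exact hky (by rw [hcomm k hk, hkx])
    · obtain ⟨k, hk, hky, -⟩ := exists_move hxs _ hgx hs
      refine hky ((g : Perm (Fin n)).injective ?_)
      rw [← hcomm k hk]
      exact notMem_support.mp fun hh => hys ((alternatingGroup.mem_range_ofSubtype_iff s k).mp hk hh)
  · intro hg k hk
    have hd : Equiv.Perm.Disjoint (k : Perm (Fin n)) (g : Perm (Fin n)) :=
      disjoint_iff_disjoint_support.mpr (Finset.disjoint_of_subset_left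
        ((alternatingGroup.mem_range_ofSubtype_iff s k).mp hk)
        (Finset.disjoint_of_subset_right hg disjoint_compl_right))
    exact Subtype.ext hd.commute.eq

/-- For n ≥ 9, the subgroup of the alternating group on Fin n fixing each of the points 0, 1, 2, 3 is a standard subgroup. -/
theorem result (n : ℕ) (h4 : 4 ≤ n) (hn : 9 ≤ n) : Cfsg.IsStandardSubgroup (⨅ i : Fin 4, MulAction.stabilizer ↥(alternatingGroup (Fin n)) (Fin.castLE h4 i : Fin n)) := by
  classical
  open Pointwise in
  set F : Finset (Fin n) := Finset.univ.image (Fin.castLE h4) with hF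
  open Pointwise in
  have hFc : F.card = 4 := by
    rw [hF, Finset.card_image_of_injective _ (Fin.castLE_injective h4)]; simp
  have hsc : Fᶜ.card = n - 4 := by rw [Finset.card_compl, hFc, Fintype.card_fin]
  have hL : (⨅ i : Fin 4, MulAction.stabilizer ↥(alternatingGroup (Fin n)) (Fin.castLE h4 i : Fin n)) =
      (alternatingGroup.ofSubtype Fᶜ).range := by
    ext g
    simp only [Subgroup.mem_iInf, MulAction.mem_stabilizer_iff, alternatingGroup.mem_range_ofSubtype_iff]
    constructor
    · intro h x hx
      rw [Finset.mem_compl, hF, Finset.mem_image]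
      rintro ⟨i, -, rfl⟩
      exact Equiv.Perm.mem_support.mp hx (h i)
    · intro h i
      refine Equiv.Perm.notMem_support.mp fun hx => ?_
      have := h hx
      rw [Finset.mem_compl] at this
      exact this (Finset.mem_image_of_mem _ (Finset.mem_univ i))
  rw [hL]
  set s := Fᶜ with hs
  have hs4 : 4 ≤ s.card := by omega
  have hcomp : sᶜ = F := compl_compl F
  open Pointwise in
  have hconj : ∀ (t : Finset (Fin n)) (g : ↥(alternatingGroup (Fin n))),
      (alternatingGroup.ofSubtype t).range.map (MulAut.conj g).toMonoidHom =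
        (alternatingGroup.ofSubtype (g • t)).range :=
    fun t g => alternatingGroup.conj_smul_range_ofSubtype t g
  open Pointwise in
  have hnorm : ∀ (t : Finset (Fin n)), 4 ≤ t.card → ∀ g : ↥(alternatingGroup (Fin n)),
      (g ∈ Subgroup.normalizer ((alternatingGroup.ofSubtype t).range : Set ↥(alternatingGroup (Fin n))) ↔
        g • t = t) := by
    intro t ht g
    rw [Subgroup.mem_normalizer_iff_map_conj_eq]
    constructor
    · intro h
      have h' : (alternatingGroup.ofSubtype (g • t)).range = (alternatingGroup.ofSubtype t).range :=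
        (hconj t g).symm.trans h
      exact Finset.eq_of_subset_of_card_le (subset_of_le (by rwa [Finset.card_smul_finset]) h'.le)
        (le_of_eq (by rw [Finset.card_smul_finset]))
    · intro h
      exact (hconj t g).trans (by rw [h])
  open Pointwise in
  have hcompl : ∀ g : ↥(alternatingGroup (Fin n)), g • F = (g • s)ᶜ := by
    intro g
    ext x
    rw [Finset.mem_compl, ← Finset.inv_smul_mem_iff, ← Finset.inv_smul_mem_iff, hs, Finset.mem_compl, not_not]
  refine ⟨?_, ⟨?_, ?_⟩, ?_, ?_⟩
  · have h5 : 5 ≤ Nat.card s := by rw [Nat.card_eq_fintype_card, Fintype.card_coe]; omega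
    haveI := alternatingGroup.isSimpleGroup h5
    refine Cfsg.Agent.Components.Basic.quasisimple_of_mulEquiv
      (MonoidHom.ofInjective (alternatingGroup.ofSubtype_injective (s := s))) ⟨?_, ?_⟩
    · exact ⟨commutator_alternatingGroup_eq_top h5⟩
    · have e : ↥(alternatingGroup ↥s) ⧸ Subgroup.center ↥(alternatingGroup ↥s) ≃* ↥(alternatingGroup ↥s) :=
        (QuotientGroup.quotientMulEquivOfEq (alternatingGroup.center_eq_bot (by omega))).trans
          QuotientGroup.quotientBot
      haveI : Nontrivial (↥(alternatingGroup ↥s) ⧸ Subgroup.center ↥(alternatingGroup ↥s)) :=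
        e.toEquiv.nontrivial
      exact IsSimpleGroup.isSimpleGroup_of_surjective e.symm.toMonoidHom e.symm.surjective
  · rw [centralizer_range hs4, hcomp]
    haveI : Nontrivial ↥F := Fintype.one_lt_card_iff_nontrivial.mp (by rw [Fintype.card_coe, hFc]; omega)
    rw [Nat.card_congr (MonoidHom.ofInjective (alternatingGroup.ofSubtype_injective (s := F))).symm.toEquiv,
      nat_card_alternatingGroup, Nat.card_eq_fintype_card, Fintype.card_coe, hFc]
    decide
  · intro g hg
    rw [centralizer_range hs4, hcomp] at hg ⊢
    open Pointwise in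
    have hne : g • F ≠ F := fun h => hg ((hnorm F hFc.ge g).mpr h)
    open Pointwise in
    have he : (alternatingGroup.ofSubtype F).range ⊓
        (alternatingGroup.ofSubtype F).range.map (MulAut.conj g).toMonoidHom =
          (alternatingGroup.ofSubtype (F ∩ g • F)).range := by
      rw [hconj]
      ext k
      simp only [Subgroup.mem_inf, alternatingGroup.mem_range_ofSubtype_iff, Finset.subset_inter_iff]
    open Pointwise in
    have hlt : (F ∩ g • F).card < 4 := by
      refine lt_of_le_of_ne ((Finset.card_le_card Finset.inter_subset_left).trans hFc.le) fun h => hne ?_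
      have h1 : F ∩ g • F = F := Finset.eq_of_subset_of_card_le Finset.inter_subset_left (by omega)
      exact (Finset.eq_of_subset_of_card_le (Finset.inter_eq_left.mp h1) (le_of_eq (by rw [Finset.card_smul_finset]))).symm
    rw [he]
    generalize (F ∩ g • F) = u at hlt
    rw [Nat.card_congr (MonoidHom.ofInjective (alternatingGroup.ofSubtype_injective (s := u))).symm.toEquiv]
    rcases subsingleton_or_nontrivial ↥u with hu | hu
    · rw [Nat.card_unique]; exact odd_one
    · have h2 : 2 ≤ u.card := by
        have := Fintype.one_lt_card (α := ↥u); rw [Fintype.card_coe] at this; omega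
      rw [nat_card_alternatingGroup, Nat.card_eq_fintype_card, Fintype.card_coe]
      interval_cases u.card <;> decide
  · intro g _ h0
    rw [Subgroup.commutator_eq_bot_iff_le_centralizer, Subgroup.le_centralizer_iff] at h0
    open Pointwise in
    have h1 : g • s ⊆ sᶜ := subset_of_le (by rwa [Finset.card_smul_finset])
      ((hconj s g).symm.trans_le (h0.trans (centralizer_range hs4).le))
    have h2 := Finset.card_le_card h1
    rw [Finset.card_smul_finset, hcomp, hFc, hsc] at h2
    omega
  · ext g
    rw [centralizer_range hs4, hcomp, hnorm s hs4, hnorm F hFc.ge, hcompl, hs, compl_eq_comm]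
    exact eq_comm

end Cfsg.Agent.S1323
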