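import Cfsg.Statements.S1326
import Cfsg.Agent.Lib.Components.Fitting

set_option autoImplicit false
open Cfsg

namespace Cfsg.Agent.S1326

/-- For a finite group X: the Fitting subgroup contains its centralizer if and only if the layer of X is trivial. -/
theorem result {X : Type*} [Group X] [Finite X] : Subgroup.centralizer (Cfsg.fittingSubgroup X : Set X) ≤ Cfsg.fittingSubgroup X ↔ Cfsg.layer X = ⊥ := by
  open Cfsg.Agent.Components.Basic Cfsg.Agent.Components.Fitting in
  constructor
  · intro h
    refine layer_eq_bot_iff.mpr fun L hL => ?_
    exact component_not_le_of_isSolvable hL fitting_isSolvable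
      (((le_layer hL).trans layer_le_centralizer_fitting).trans h)
  · intro h
    have hF : Cfsg.generalizedFittingSubgroup X = Cfsg.fittingSubgroup X := by
      rw [Cfsg.generalizedFittingSubgroup, h, bot_sup_eq]
    have := centralizer_genFitting_le (G := X)
    rwa [hF] at this

end Cfsg.Agent.S1326
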