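import Cfsg.Statements.S1328
import Cfsg.Agent.Lib.Components.LocalBalance

set_option autoImplicit false
open Cfsg

namespace Cfsg.Agent.S1328

open Subgroup in
private lemma core_normalized {G : Type*} [Group G] [Finite G] {H : Subgroup G} [H.Normal]
    (hO : Cfsg.oddCore ↥H = ⊥) (hsq : ∀ g : G, g ^ 2 ∈ H) : Cfsg.pPrimeCore 2 G = ⊥ := by
  set N := Cfsg.pPrimeCore 2 G
  have hNo : (Nat.card N).Coprime 2 := Cfsg.Agent.Cores.pPrimeCore_card_coprime 2
  refine (Subgroup.eq_bot_iff_forall N).mpr fun g hg => ?_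
  have hmem : (⟨g ^ 2, hsq g⟩ : H) ∈ Cfsg.oddCore ↥H :=
    Cfsg.Agent.Cores.pPrimeCore_subgroupOf_le 2 H (show (⟨g ^ 2, hsq g⟩ : H) ∈ N.subgroupOf H from pow_mem hg 2)
  rw [hO, Subgroup.mem_bot] at hmem
  have h2 : g ^ 2 = 1 := congrArg Subtype.val hmem
  rw [← orderOf_eq_one_iff]
  exact Nat.eq_one_of_dvd_coprimes hNo.symm (orderOf_dvd_of_pow_eq_one h2) (orderOf_dvd_natCard _ hg)

/-- Let G be finite, H ≤ G with O(H) = 1, t an involution of G normalizing H, and Y a nontrivial subgroup of O(C_H(t)). Then some component E of H is normalized by t and by Y and centralized by neither t nor Y. -/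
theorem result {G : Type*} [Group G] [Finite G] (H : Subgroup G) (hO : Cfsg.oddCore ↥H = ⊥) (t : G) (ht : orderOf t = 2) (htH : t ∈ Subgroup.normalizer (H : Set G)) (Y : Subgroup G) (hY1 : Y ≠ ⊥) (hY : Y ≤ (Cfsg.oddCore ↥(H ⊓ Subgroup.centralizer ({t} : Set G))).map (H ⊓ Subgroup.centralizer ({t} : Set G)).subtype) : ∃ E : Subgroup ↥H, Cfsg.IsComponent E ∧ (E.map H.subtype).map (MulAut.conj t).toMonoidHom = E.map H.subtype ∧ Y ≤ Subgroup.normalizer ((E.map H.subtype : Subgroup G) : Set G) ∧ ¬ (t ∈ Subgroup.centralizer ((E.map H.subtype : Subgroup G) : Set G)) ∧ ¬ (Y ≤ Subgroup.centralizer ((E.map H.subtype : Subgroup G) : Set G)) := by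
  haveI : Fact (Nat.Prime 2) := ⟨Nat.prime_two⟩
  open Subgroup in
  set G₀ := H ⊔ zpowers t with hG₀
  open Subgroup in
  have hHn : G₀ ≤ normalizer (H : Set G) := sup_le le_normalizer (zpowers_le.mpr htH)
  open Subgroup in
  have hH₀ : H ≤ G₀ := le_sup_left
  open Subgroup in
  haveI hn : (H.subgroupOf G₀).Normal := normal_subgroupOf_of_le_normalizer hHn
  open Subgroup in
  set H' := H.subgroupOf G₀ with hH'
  open Subgroup in
  have htG : t ∈ G₀ := mem_sup_right (mem_zpowers t)
  open Subgroup in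
  set t' : G₀ := ⟨t, htG⟩ with ht'
  open Subgroup in
  have hto : orderOf t' = 2 := (Subgroup.orderOf_coe t').symm.trans ht
  open Subgroup in
  set q := QuotientGroup.mk' H' with hq
  open Subgroup in
  have hgen : ∀ g : G₀, ∃ n : ℤ, q g = q t' ^ n := by
    rintro ⟨g, hg⟩
    obtain ⟨a, ha, b, hb, rfl⟩ :=
      (Cfsg.Agent.Coprime.mem_sup_of_le_normalizer (zpowers_le.mpr htH)).mp hg
    obtain ⟨n, rfl⟩ := mem_zpowers_iff.mp hb
    refine ⟨n, ?_⟩
    rw [← map_zpow, show (⟨a * t ^ n, hg⟩ : G₀) = ⟨a, hH₀ ha⟩ * t' ^ n from rfl, map_mul,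
      show q ⟨a, hH₀ ha⟩ = 1 from (QuotientGroup.eq_one_iff (N := H') _).mpr (mem_subgroupOf.mpr ha), one_mul]
  open Subgroup in
  have hab : ∀ g k : G₀, q g * q k = q k * q g := fun g k => by
    obtain ⟨n, hn⟩ := hgen g
    obtain ⟨m, hm⟩ := hgen k
    rw [hn, hm, ← zpow_add, ← zpow_add, add_comm]
  open Subgroup in
  have hsq : ∀ g : G₀, g ^ 2 ∈ H' := fun g => by
    obtain ⟨n, hn⟩ := hgen g
    refine (QuotientGroup.eq_one_iff (N := H') _).mp ?_
    show q (g ^ 2) = 1
    rw [map_pow, hn, ← zpow_natCast (q t' ^ n), ← zpow_mul, mul_comm, zpow_mul, zpow_natCast, ← map_pow,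
      show t' ^ 2 = 1 from hto ▸ pow_orderOf_eq_one t', map_one, one_zpow]
  open Subgroup in
  have hO' : Cfsg.oddCore ↥H' = ⊥ := by
    have e := Cfsg.Agent.Cores.map_pPrimeCore_eq (subgroupOfEquivOfLe hH₀).symm 2
    show Cfsg.pPrimeCore 2 ↥H' = ⊥
    rw [← e, show Cfsg.pPrimeCore 2 ↥H = ⊥ from hO, Subgroup.map_bot]
  open Subgroup in
  have hO₀ : Cfsg.pPrimeCore 2 G₀ = ⊥ := core_normalized hO' hsq
  open Subgroup in
  set W := Cfsg.centralizerPPrimeCore 2 t' with hW
  open Subgroup in
  set C := H ⊓ centralizer ({t} : Set G) with hC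
  open Subgroup in
  set Oc := (Cfsg.pPrimeCore 2 ↥C).map C.subtype with hOc
  open Subgroup in
  have hOcC : Oc ≤ C := map_subtype_le _
  open Subgroup in
  have hOcW : Oc.subgroupOf G₀ ≤ W := by
    have hle : Oc.subgroupOf G₀ ≤ centralizer ({t'} : Set G₀) := fun z hz =>
      mem_centralizer_singleton_iff.mpr (Subtype.ext
        (mem_centralizer_singleton_iff.mp (hOcC (mem_subgroupOf.mp hz)).2))
    haveI : ((Oc.subgroupOf G₀).subgroupOf (centralizer ({t'} : Set G₀))).Normal := by
      refine normal_subgroupOf_of_le_normalizer fun g hg => le_normalizer_comap G₀.subtype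
        (Cfsg.Agent.Components.LocalFix.normalizer_le_normalizer_pPrimeCore C
          (inf_normalizer_le_normalizer_inf ⟨hHn g.2, le_normalizer (mem_centralizer_singleton_iff.mpr
            (congrArg Subtype.val (mem_centralizer_singleton_iff.mp hg)))⟩))
    refine (map_subgroupOf_eq_of_le hle).symm.le.trans
      (Subgroup.map_mono (Cfsg.Agent.Cores.le_pPrimeCore ?_))
    rw [Nat.card_congr (subgroupOfEquivOfLe hle).toEquiv,
      Nat.card_congr (subgroupOfEquivOfLe (hOcC.trans (inf_le_left.trans hH₀))).toEquiv,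
      hOc, Subgroup.card_map_of_injective C.subtype_injective]
    exact Cfsg.Agent.Cores.pPrimeCore_card_coprime 2
  open Subgroup in
  have hY₀ : Y ≤ G₀ := hY.trans (hOcC.trans (inf_le_left.trans hH₀))
  open Subgroup in
  have hYW : Y.subgroupOf G₀ ≤ W := fun y hy => hOcW (mem_subgroupOf.mpr (hY (mem_subgroupOf.mp hy)))
  by_contra hcon
  push Not at hcon
  refine hY1 ?_
  -- `Y` centralizes every component
  open Subgroup Cfsg.Agent.Components.Basic in
  have hYE : Cfsg.layer G₀ ≤ centralizer (Y.subgroupOf G₀ : Set G₀) := by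
    refine layer_le fun L hL => le_centralizer_iff.mp ?_
    by_cases hne : ⁅L, zpowers t'⁆ = L
    swap
    · refine hYW.trans ?_
      rw [le_centralizer_iff]
      exact commutator_eq_bot_iff_le_centralizer.mp (Cfsg.Agent.S1270.result 2 hO₀ t' hto L hL hne)
    have hLH : L ≤ H' := by
      have h1 : L.map q = ⊥ := by
        rw [← component_commutator_self hL, map_commutator, commutator_eq_bot_iff_le_centralizer]
        rintro _ ⟨g, -, rfl⟩
        rw [mem_centralizer_iff]
        rintro _ ⟨k, -, rfl⟩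
        exact hab k g
      rwa [Subgroup.map_eq_bot_iff, QuotientGroup.ker_mk'] at h1
    have hle : L.map G₀.subtype ≤ H := by
      rintro _ ⟨l, hl, rfl⟩; exact mem_subgroupOf.mp (hLH hl)
    set E := (L.map G₀.subtype).subgroupOf H with hE
    have hEcomp : Cfsg.IsComponent E := by
      have e : E = (L.subgroupOf H').map (subgroupOfEquivOfLe hH₀).toMonoidHom := by
        ext z
        constructor
        · intro hz
          obtain ⟨l, hl, hlz⟩ := mem_subgroupOf.mp hz
          exact ⟨⟨l, hLH hl⟩, hl, Subtype.ext hlz⟩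
        · rintro ⟨w, hw, rfl⟩
          exact mem_subgroupOf.mpr ⟨w.1, hw, rfl⟩
      rw [e, isComponent_map_equiv]
      exact component_subgroupOf hL hLH
    have hEmap : E.map H.subtype = L.map G₀.subtype := map_subgroupOf_eq_of_le hle
    have htL : t' ∈ normalizer (L : Set G₀) :=
      le_normalizer_iff_commutator_le_left.mpr hne.le (mem_zpowers t')
    have hYL : Y.subgroupOf G₀ ≤ normalizer (L : Set G₀) := fun y hy => by
      have := Cfsg.Agent.Components.LocalFix.centralizerPPrimeCore_le_fixer hO₀ hto (hYW hy)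
      simp only [Cfsg.Agent.Components.LocalFix.fixer, mem_iInf] at this
      exact this ⟨L, hL⟩
    have hc := hcon E hEcomp ?_ ?_ ?_
    · rw [hEmap] at hc
      intro y hy
      rw [mem_centralizer_iff]
      intro l hl
      exact Subtype.ext (mem_centralizer_iff.mp (hc (mem_subgroupOf.mp hy)) _ ⟨l, hl, rfl⟩)
    · rw [hEmap]
      exact mem_normalizer_iff_map_conj_eq.mp (le_normalizer_map G₀.subtype ⟨t', htL, rfl⟩)
    · rw [hEmap]
      exact fun y hy => le_normalizer_map G₀.subtype ⟨⟨y, hY₀ hy⟩, hYL (mem_subgroupOf.mpr hy), rfl⟩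
    · rw [hEmap]
      intro hc
      refine component_ne_bot hL (hne.symm.trans ?_)
      rw [commutator_eq_bot_iff_le_centralizer, le_centralizer_iff]
      refine zpowers_le.mpr (mem_centralizer_iff.mpr fun l hl => ?_)
      exact Subtype.ext (mem_centralizer_iff.mp hc _ ⟨l, hl, rfl⟩)
  open Subgroup Cfsg.Agent.Components.Fitting Cfsg.Agent.Components.PComponents in
  have hbot : Y.subgroupOf G₀ = ⊥ := by
    have hYO := hYW.trans (Cfsg.Agent.Components.LocalBalance.centralizerPPrimeCore_le_centralizer_pCore hto)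
    have hF : Y.subgroupOf G₀ ≤ centralizer (Cfsg.generalizedFittingSubgroup G₀ : Set G₀) := by
      rw [le_centralizer_iff, Cfsg.generalizedFittingSubgroup, fitting_eq_pCore hO₀]
      exact sup_le hYE (le_centralizer_iff.mp hYO)
    have hcl := centralizer_genFitting_le (G := G₀)
    haveI : IsMulCommutative ↥(centralizer (Cfsg.generalizedFittingSubgroup G₀ : Set G₀)) :=
      ⟨⟨fun a b => Subtype.ext (mem_centralizer_iff.mp b.2 a.1 (hcl a.2))⟩⟩
    have hp : Y.subgroupOf G₀ ≤ Cfsg.pCore 2 G₀ := hF.trans (by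
      rw [← fitting_eq_pCore hO₀]
      exact le_fitting_of_isSubnormal (Subgroup.Normal.isSubnormal inferInstance)
        (isNilpotent_of_isMulCommutative _))
    refine (Subgroup.eq_bot_iff_forall _).mpr fun y hy => ?_
    have hcop : (orderOf y).Coprime 2 := Cfsg.Agent.Components.Local.coprime_orderOf_of_mem (R := W) (by
      rw [hW, Cfsg.centralizerPPrimeCore,
        Subgroup.card_map_of_injective (centralizer ({t'} : Set G₀)).subtype_injective]
      exact Cfsg.Agent.Cores.pPrimeCore_card_coprime 2) (hYW hy)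
    obtain ⟨m, hm⟩ := Cfsg.Agent.Cores.pCore_isPGroup 2 (⟨y, hp hy⟩ : Cfsg.pCore 2 G₀)
    rw [← orderOf_eq_one_iff]
    exact Nat.eq_one_of_dvd_coprimes (hcop.pow_right m) dvd_rfl
      (orderOf_dvd_of_pow_eq_one (congrArg Subtype.val hm))
  rw [← Subgroup.map_subgroupOf_eq_of_le hY₀, hbot, Subgroup.map_bot]

end Cfsg.Agent.S1328
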