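import Cfsg.Statements.S1335

set_option autoImplicit false
open Cfsg

namespace Cfsg.Agent.S1335

/-- Let H be a subgroup of the finite group G, p a prime, k ≥ 1, P a Sylow p-subgroup of H of p-rank at least k, and suppose N_G(X) ≤ H for every subgroup X ≤ P of p-rank at least k. Then P is a Sylow p-subgroup of G. -/
theorem result {G : Type*} [Group G] [Finite G] {p : ℕ} [Fact p.Prime] (k : ℕ) (hk : 1 ≤ k) (H : Subgroup G) (P : Sylow p ↥H) (hP : ¬ Cfsg.PRankLE p (k - 1) ↥(P : Subgroup ↥H)) (hΓ : (∀ X : Subgroup G, X ≤ (P : Subgroup ↥H).map H.subtype → ¬ Cfsg.PRankLE p (k - 1) ↥X → Subgroup.normalizer (X : Set G) ≤ H)) : ∃ Q : Sylow p G, (Q : Subgroup G) = (P : Subgroup ↥H).map H.subtype := by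
  set P' := (P : Subgroup ↥H).map H.subtype with hP'
  have hPp : IsPGroup p ↥P' := P.isPGroup'.map _
  have hne : ¬ Cfsg.PRankLE p (k - 1) ↥P' := by
    intro h
    apply hP
    intro A hAc hAp
    have e := (P : Subgroup ↥H).equivMapOfInjective H.subtype H.subtype_injective
    have hc : IsMulCommutative ↥(A.map e.toMonoidHom) := inferInstance
    have := h (A.map e.toMonoidHom) hc (by rintro _ ⟨a, ha, rfl⟩; rw [← map_pow, hAp a ha, map_one])
    rwa [Subgroup.card_map_of_injective e.injective] at this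
  have hN := hΓ P' le_rfl hne
  obtain ⟨Q, hQ⟩ := hPp.exists_le_sylow
  refine ⟨Q, ?_⟩
  by_contra hneq
  have hlt : P'.subgroupOf (Q : Subgroup G) < ⊤ := lt_top_iff_ne_top.mpr fun h =>
    hneq (le_antisymm (Subgroup.subgroupOf_eq_top.mp h) hQ)
  have := Q.isPGroup'.isNilpotent
  have h2 := normalizerCondition_of_isNilpotent (G := ↥(Q : Subgroup G)) _ hlt
  obtain ⟨y, hy, hyn⟩ := SetLike.exists_of_lt h2
  have hyN : (y : G) ∈ Subgroup.normalizer (P' : Set G) := by
    rw [Subgroup.mem_normalizer_iff]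
    intro z
    constructor
    · intro hz
      exact (Subgroup.mem_normalizer_iff.mp hy ⟨z, hQ hz⟩).mp hz
    · intro hz
      have hzQ : z ∈ (Q : Subgroup G) := by
        have := (Q : Subgroup G).mul_mem ((Q : Subgroup G).mul_mem (inv_mem y.2) (hQ hz)) y.2
        simpa [mul_assoc] using this
      exact (Subgroup.mem_normalizer_iff.mp hy ⟨z, hzQ⟩).mpr hz
  have hyH : (y : G) ∈ H := hN hyN
  set R := (P' ⊔ Subgroup.zpowers (y : G)) with hR
  have hRH : R ≤ H := sup_le (Subgroup.map_subtype_le _) (Subgroup.zpowers_le.mpr hyH)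
  have hRQ : R ≤ Q := sup_le hQ (Subgroup.zpowers_le.mpr y.2)
  have hRp : IsPGroup p ↥(R.subgroupOf H) := (Q.isPGroup'.to_le hRQ).comap_subtype
  have hle : (P : Subgroup ↥H) ≤ R.subgroupOf H := fun z hz =>
    Subgroup.mem_subgroupOf.mpr (Subgroup.mem_sup_left ⟨z, hz, rfl⟩)
  have := P.is_maximal' hRp hle
  apply hyn
  have hyP : (⟨(y : G), hyH⟩ : ↥H) ∈ (P : Subgroup ↥H) := by
    rw [← this]
    exact Subgroup.mem_sup_right (Subgroup.mem_zpowers _)
  exact ⟨_, hyP, rfl⟩

end Cfsg.Agent.S1335
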