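import Cfsg.Statements.S1336

set_option autoImplicit false
open Cfsg

namespace Cfsg.Agent.S1336

/-- Let G be finite and p prime. Then G has a proper subgroup H with p ∣ |H| and p ∤ |H ∩ gHg⁻¹| for every g ∉ H (a strongly p-embedded subgroup) if and only if G is not 1-connected for p. -/
theorem result {G : Type*} [Group G] [Finite G] (p : ℕ) [Fact p.Prime] : (∃ H : Subgroup G, H ≠ ⊤ ∧ p ∣ Nat.card ↥H ∧ ∀ g : G, g ∉ H → ¬ p ∣ Nat.card ↥(H ⊓ H.map (MulAut.conj g).toMonoidHom)) ↔ ¬ Cfsg.IsKConnected p 1 G := by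
  classical
  have hp : p.Prime := Fact.out
  set rel : Subgroup G → Subgroup G → Prop := fun A B => Cfsg.IsElementaryAbelian p A ∧ p ^ 1 ≤ Nat.card ↥A ∧
    Cfsg.IsElementaryAbelian p B ∧ p ^ 1 ≤ Nat.card ↥B ∧ ∀ a ∈ A, ∀ b ∈ B, a * b = b * a with hrel
  set V : Subgroup G → Prop := fun A => Cfsg.IsElementaryAbelian p A ∧ p ^ 1 ≤ Nat.card ↥A with hV
  have hsymm : ∀ {A B}, Relation.ReflTransGen rel A B → Relation.ReflTransGen rel B A := by
    intro A B h
    induction h with
    | refl => exact Relation.ReflTransGen.refl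
    | tail _ hbc ih =>
      exact Relation.ReflTransGen.head
        ⟨hbc.2.2.1, hbc.2.2.2.1, hbc.1, hbc.2.1, fun a ha b hb => (hbc.2.2.2.2 b hb a ha).symm⟩ ih
  have hzV : ∀ x : G, orderOf x = p → V (Subgroup.zpowers x) := by
    intro x hx
    refine ⟨⟨inferInstance, fun a ha => ?_⟩, by rw [Nat.card_zpowers, hx, pow_one]⟩
    obtain ⟨m, rfl⟩ := Subgroup.mem_zpowers_iff.mp ha
    rw [← zpow_natCast, ← zpow_mul, mul_comm, zpow_mul, zpow_natCast, ← hx, pow_orderOf_eq_one, one_zpow]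
  have hVmem : ∀ E, V E → ∃ x ∈ E, orderOf x = p := by
    rintro E ⟨hE, hEc⟩
    have : Nontrivial ↥E := Finite.one_lt_card_iff_nontrivial.mp (by
      have := hp.one_lt; rw [pow_one] at hEc; omega)
    obtain ⟨⟨x, hx⟩, hx1⟩ := exists_ne (1 : ↥E)
    exact ⟨x, hx, orderOf_eq_prime (hE.2 x hx) fun h => hx1 (Subtype.ext h)⟩
  have hconjV : ∀ (g : G) E, V E → V (E.map (MulAut.conj g).toMonoidHom) := by
    rintro g E ⟨⟨hc, he⟩, hEc⟩
    refine ⟨⟨inferInstance, ?_⟩, by rwa [Subgroup.card_map_of_injective (MulAut.conj g).injective]⟩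
    rintro _ ⟨a, ha, rfl⟩
    rw [← map_pow, he a ha, map_one]
  have hconj : ∀ (g : G) {A B}, Relation.ReflTransGen rel A B →
      Relation.ReflTransGen rel (A.map (MulAut.conj g).toMonoidHom) (B.map (MulAut.conj g).toMonoidHom) := by
    intro g A B h
    induction h with
    | refl => exact Relation.ReflTransGen.refl
    | tail _ hbc ih =>
      refine ih.tail ⟨(hconjV g _ ⟨hbc.1, hbc.2.1⟩).1, (hconjV g _ ⟨hbc.1, hbc.2.1⟩).2,
        (hconjV g _ ⟨hbc.2.2.1, hbc.2.2.2.1⟩).1, (hconjV g _ ⟨hbc.2.2.1, hbc.2.2.2.1⟩).2, ?_⟩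
      rintro _ ⟨a, ha, rfl⟩ _ ⟨b, hb, rfl⟩
      rw [← map_mul, ← map_mul, hbc.2.2.2.2 a ha b hb]
  have hpdvd : ∀ (K : Subgroup G) (x : G), x ∈ K → orderOf x = p → p ∣ Nat.card ↥K := fun K x hx ho =>
    ho ▸ Subgroup.orderOf_dvd_natCard K hx
  constructor
  · rintro ⟨H, hH, hpH, hem⟩ hcon
    have hstep : ∀ {A B}, rel A B → A ≤ H → B ≤ H := by
      intro A B hab hA y hy
      obtain ⟨x, hxA, hxo⟩ := hVmem A ⟨hab.1, hab.2.1⟩
      by_contra hyH
      refine hem y hyH (hpdvd _ x ⟨hA hxA, x, hA hxA, ?_⟩ hxo)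
      show y * x * y⁻¹ = x
      rw [← hab.2.2.2.2 x hxA y hy, mul_inv_cancel_right]
    obtain ⟨x, hx⟩ := exists_prime_orderOf_dvd_card' (G := ↥H) p hpH
    obtain ⟨g, hg⟩ : ∃ g, g ∉ H := by
      by_contra h
      push Not at h
      exact hH (eq_top_iff.mpr fun g _ => h g)
    have hxo : orderOf (x : G) = p := by rw [Subgroup.orderOf_coe]; exact hx
    have hxo' : orderOf (g * (x : G) * g⁻¹) = p := by
      rw [← hxo]
      exact orderOf_injective (MulAut.conj g).toMonoidHom (MulAut.conj g).injective (x : G)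
    have hreach : ∀ {A B}, Relation.ReflTransGen rel A B → A ≤ H → B ≤ H := by
      intro A B h hA
      induction h with
      | refl => exact hA
      | tail _ hbc ih => exact hstep hbc ih
    have hle := hreach (hcon _ _ (hzV _ hxo).1 (hzV _ hxo).2 (hzV _ hxo').1 (hzV _ hxo').2)
      (Subgroup.zpowers_le.mpr x.2)
    exact hem g hg (hpdvd _ _ ⟨hle (Subgroup.mem_zpowers _), x, x.2, rfl⟩ hxo')
  · intro hcon
    rw [Cfsg.IsKConnected] at hcon
    push Not at hcon
    obtain ⟨E₀, E₁, hE₀, hE₀c, hE₁, hE₁c, hne⟩ := hcon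
    obtain ⟨x₀, hx₀E, hx₀⟩ := hVmem E₀ ⟨hE₀, hE₀c⟩
    set Z := Subgroup.zpowers x₀ with hZ
    have hZE : Relation.ReflTransGen rel Z E₀ := Relation.ReflTransGen.single
      ⟨(hzV _ hx₀).1, (hzV _ hx₀).2, hE₀, hE₀c, fun a ha b hb => by
        obtain ⟨m, rfl⟩ := Subgroup.mem_zpowers_iff.mp ha
        exact congrArg Subtype.val (hE₀.1.is_comm.comm (⟨_, zpow_mem hx₀E m⟩ : ↥E₀) ⟨b, hb⟩)⟩
    let H : Subgroup G :=
      { carrier := {g | Relation.ReflTransGen rel Z (Z.map (MulAut.conj g).toMonoidHom)}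
        one_mem' := by
          show Relation.ReflTransGen rel Z (Z.map (MulAut.conj (1 : G)).toMonoidHom)
          rw [show Z.map (MulAut.conj (1 : G)).toMonoidHom = Z by ext; simp]
        mul_mem' := fun {a b} ha hb => by
          have := hconj a hb
          rw [Subgroup.map_map] at this
          refine ha.trans ?_
          convert this using 2
          ext
          simp [mul_assoc]
        inv_mem' := fun {a} ha => by
          have := hsymm (hconj a⁻¹ ha)
          rw [Subgroup.map_map] at this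
          have he : Z.map ((MulAut.conj a⁻¹).toMonoidHom.comp (MulAut.conj a).toMonoidHom) = Z := by
            conv_rhs => rw [← Subgroup.map_id Z]
            congr 1
            ext
            simp [mul_assoc]
          rwa [he] at this }
    have hZp : IsPGroup p ↥Z := IsPGroup.of_card (n := 1) (by rw [Nat.card_zpowers, hx₀, pow_one])
    obtain ⟨P, hP⟩ := hZp.exists_le_sylow
    have : Nontrivial ↥(P : Subgroup G) := by
      refine ⟨⟨⟨x₀, hP (Subgroup.mem_zpowers _)⟩, 1, fun h => ?_⟩⟩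
      have := congrArg Subtype.val h
      simp only at this
      exact hp.ne_one (by rw [← hx₀, this]; simp)
    obtain ⟨n, hn, hcard⟩ := (P.isPGroup'.to_subgroup (Subgroup.center ↥(P : Subgroup G))).nontrivial_iff_card.mp
      P.isPGroup'.center_nontrivial
    obtain ⟨z, hz⟩ := exists_prime_orderOf_dvd_card' (G := ↥(Subgroup.center ↥(P : Subgroup G))) p
      (hcard ▸ dvd_pow_self p (by omega))
    set W := Subgroup.zpowers ((z : ↥(P : Subgroup G)) : G) with hW
    have hzo : orderOf ((z : ↥(P : Subgroup G)) : G) = p := by rwa [Subgroup.orderOf_coe, Subgroup.orderOf_coe]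
    have hWcomm : ∀ w ∈ W, ∀ u ∈ (P : Subgroup G), w * u = u * w := by
      intro w hw u hu
      obtain ⟨m, rfl⟩ := Subgroup.mem_zpowers_iff.mp hw
      have : Commute ((z : ↥(P : Subgroup G)) : G) u :=
        (congrArg Subtype.val (Subgroup.mem_center_iff.mp z.2 ⟨u, hu⟩)).symm
      exact this.zpow_left m
    have hVW : ∀ E, V E → E ≤ P → Relation.ReflTransGen rel W E := fun E hE hle =>
      Relation.ReflTransGen.single ⟨(hzV _ hzo).1, (hzV _ hzo).2, hE.1, hE.2, fun a ha b hb =>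
        hWcomm a ha b (hle hb)⟩
    have hZW : Relation.ReflTransGen rel Z W := hsymm (hVW Z (hzV _ hx₀) hP)
    have hPH : (P : Subgroup G) ≤ H := by
      intro h hh
      refine hZW.trans (hVW _ (hconjV h Z (hzV _ hx₀)) ?_)
      rintro _ ⟨a, ha, rfl⟩
      exact (P : Subgroup G).mul_mem ((P : Subgroup G).mul_mem hh (hP ha)) (inv_mem hh)
    have hHne : H ≠ ⊤ := by
      intro htop
      apply hne
      obtain ⟨x₁, hx₁E, hx₁⟩ := hVmem E₁ ⟨hE₁, hE₁c⟩
      have hE₁p : IsPGroup p ↥E₁ := fun e => ⟨1, Subtype.ext (by simpa using hE₁.2 e e.2)⟩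
      obtain ⟨Q, hQ⟩ := hE₁p.exists_le_sylow
      obtain ⟨g, hg⟩ := MulAction.exists_smul_eq G P Q
      have hQe : (Q : Subgroup G) = (P : Subgroup G).map (MulAut.conj g).toMonoidHom := by
        rw [← hg]; rfl
      refine (hsymm hZE).trans ((show g ∈ H from htop ▸ Subgroup.mem_top g).trans ?_)
      refine (hconj g hZW).trans (Relation.ReflTransGen.single
        ⟨(hconjV g W (hzV _ hzo)).1, (hconjV g W (hzV _ hzo)).2, hE₁, hE₁c, ?_⟩)
      rintro _ ⟨w, hw, rfl⟩ b hb
      obtain ⟨u, hu, rfl⟩ := hQe ▸ hQ hb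
      rw [← map_mul, ← map_mul, hWcomm w hw u hu]
    refine ⟨H, hHne, hpdvd H _ (hPH (hP (Subgroup.mem_zpowers _))) hx₀, fun g hg hdvd => hg ?_⟩
    have key : ∀ y ∈ H, orderOf y = p → Relation.ReflTransGen rel Z (Subgroup.zpowers y) := by
      intro y hy hyo
      have hyp : IsPGroup p ↥((Subgroup.zpowers y).subgroupOf H) :=
        ((IsPGroup.of_card (n := 1) (by rw [Nat.card_zpowers, hyo, pow_one])) :
          IsPGroup p ↥(Subgroup.zpowers y)).comap_subtype
      obtain ⟨Q, hQ⟩ := hyp.exists_le_sylow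
      obtain ⟨h, hh⟩ := MulAction.exists_smul_eq ↥H (P.subtype hPH) Q
      refine (show (h : G) ∈ H from h.2).trans ((hconj (h : G) hZW).trans (Relation.ReflTransGen.single
        ⟨(hconjV _ W (hzV _ hzo)).1, (hconjV _ W (hzV _ hzo)).2, (hzV _ hyo).1, (hzV _ hyo).2, ?_⟩))
      rintro _ ⟨w, hw, rfl⟩ b hb
      have hbH : b ∈ H := Subgroup.zpowers_le.mpr hy hb
      have hbQ : (⟨b, hbH⟩ : ↥H) ∈ Q := hQ hb
      rw [← hh] at hbQ
      obtain ⟨u, hu, hub⟩ := hbQ
      have : b = (MulAut.conj (h : G)).toMonoidHom (u : G) := by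
        rw [← show ((⟨b, hbH⟩ : ↥H) : G) = b from rfl, ← hub]; rfl
      rw [this, ← map_mul, ← map_mul, hWcomm w hw (u : G) hu]
    obtain ⟨y, hy⟩ := exists_prime_orderOf_dvd_card' (G := ↥(H ⊓ H.map (MulAut.conj g).toMonoidHom)) p hdvd
    obtain ⟨hyH, y', hy'H, hyy⟩ := y.2
    have hyo : orderOf (y : G) = p := by rwa [Subgroup.orderOf_coe]
    have hy'o : orderOf y' = p := by
      rw [← hyo, ← hyy]
      exact (orderOf_injective (MulAut.conj g).toMonoidHom (MulAut.conj g).injective y').symm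
    have h1 := hconj g (key y' hy'H hy'o)
    have he : (Subgroup.zpowers y').map (MulAut.conj g).toMonoidHom = Subgroup.zpowers (y : G) := by
      rw [MonoidHom.map_zpowers, hyy]
    rw [he] at h1
    exact (key (y : G) hyH hyo).trans (hsymm h1)

end Cfsg.Agent.S1336
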