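import Cfsg.Statements.S1337
import Cfsg.Agent.Lib.Components.RankTwo

set_option autoImplicit false
open Cfsg

namespace Cfsg.Agent.S1337

open Cfsg.Agent.Components Cfsg.Agent.PLocal.ThompsonSubgroup Subgroup in

/-- Let P be a finite p-group of p-rank greater than 2. Then P has a normal elementary abelian subgroup U of order p², and for every elementary abelian X ≤ P with |X| ≥ p²: X is joined to U by a chain of pairwise commuting elementary abelian subgroups of order ≥ p² if and only if C_P(X) has p-rank greater than 2. -/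
theorem result {P : Type*} [Group P] [Finite P] (p : ℕ) [Fact p.Prime] (hP : IsPGroup p P) (hrk : ¬ Cfsg.PRankLE p 2 P) : ∃ U : Subgroup P, U.Normal ∧ Cfsg.IsElementaryAbelian p U ∧ Nat.card ↥U = p ^ 2 ∧ ∀ X : Subgroup P, Cfsg.IsElementaryAbelian p X → p ^ 2 ≤ Nat.card ↥X → (Relation.ReflTransGen (fun A B : Subgroup P => Cfsg.IsElementaryAbelian p A ∧ p ^ 2 ≤ Nat.card ↥A ∧ Cfsg.IsElementaryAbelian p B ∧ p ^ 2 ≤ Nat.card ↥B ∧ ∀ a ∈ A, ∀ b ∈ B, a * b = b * a) X U ↔ ¬ Cfsg.PRankLE p 2 ↥(Subgroup.centralizer (X : Set P))) := by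
  obtain ⟨U, hUn, hUe, hUc⟩ := RankTwo.exists_normal_sq hP hrk
  refine ⟨U, hUn, hUe, hUc, fun X hXe hXc => ?_⟩
  set C := centralizer (U : Set P) with hC
  set R := fun A B : Subgroup P => Cfsg.IsElementaryAbelian p A ∧ p ^ 2 ≤ Nat.card ↥A ∧
    Cfsg.IsElementaryAbelian p B ∧ p ^ 2 ≤ Nat.card ↥B ∧ ∀ a ∈ A, ∀ b ∈ B, a * b = b * a
  have hp := (Fact.out : p.Prime)
  have hbig : ∀ F : Subgroup P, p ^ 2 < Nat.card F → p ^ 2 ≤ Nat.card ↥(F ⊓ C) := fun F hF => by
    have h := RankTwo.card_le_mul_inf_centralizer hP hUc F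
    obtain ⟨j, hj⟩ := IsPGroup.iff_card.mp (hP.to_subgroup (F ⊓ C))
    rw [← hC, hj, ← pow_succ'] at h
    have := (Nat.pow_lt_pow_iff_right hp.one_lt).mp (hF.trans_le h)
    rw [hj]
    exact Nat.pow_le_pow_right hp.pos (by omega)
  have hEle : ∀ {A B : Subgroup P}, Cfsg.IsElementaryAbelian p B → A ≤ B → Cfsg.IsElementaryAbelian p A :=
    fun {A B} hB h => ⟨⟨⟨fun x y => Subtype.ext
      (congrArg Subtype.val (hB.1.is_comm.comm (⟨x, h x.2⟩ : B) ⟨y, h y.2⟩) :)⟩⟩, fun b hb => hB.2 b (h hb)⟩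
  constructor
  · intro hchain hX
    have key : ∀ B, R X B → B = X := by
      intro B hR
      obtain ⟨-, -, hBe, hBc, hXB⟩ := hR
      have hle : X ≤ centralizer (B : Set P) := fun a ha => mem_centralizer_iff.mpr fun b hb =>
        (hXB a ha b hb).symm
      have hse := IsElementaryAbelian.sup hXe hBe hle
      have hsle : X ⊔ B ≤ centralizer (X : Set P) := sup_le
        (fun a ha => mem_centralizer_iff.mpr fun b hb =>
          congrArg Subtype.val (hXe.1.is_comm.comm (⟨b, hb⟩ : X) ⟨a, ha⟩)) (le_centralizer_iff.mp hle)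
      have hcard : Nat.card ↥(X ⊔ B) ≤ p ^ 2 := by
        by_contra hlt
        exact absurd hX ((RankTwo.not_pRankLE_subgroup_iff p 2 _).mpr ⟨_, hsle, hse, not_le.mp hlt⟩)
      have h1 := eq_of_le_of_card_ge (le_sup_left : X ≤ X ⊔ B) (hcard.trans hXc)
      have h2 := eq_of_le_of_card_ge (le_sup_right : B ≤ X ⊔ B) (hcard.trans hBc)
      rw [← h2] at h1
      exact h1.symm
    have hall : ∀ B, Relation.ReflTransGen R X B → B = X := by
      intro B h
      induction h with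
      | refl => rfl
      | tail _ hbc ih => exact key _ (ih ▸ hbc)
    have hUX : U = X := hall U hchain
    subst hUX
    obtain ⟨F, -, hFe, hFc⟩ := (RankTwo.not_pRankLE_subgroup_iff p 2 (⊤ : Subgroup P)).mp
      (fun h => hrk fun A h1 h2 => by
        have := h (A.subgroupOf ⊤) ⟨⟨fun x y => Subtype.ext (Subtype.ext
          (congrArg Subtype.val (mul_comm' (⟨x, x.2⟩ : A) ⟨y, y.2⟩) :))⟩⟩
          (fun a ha => Subtype.ext (by simpa using h2 _ ha))
        rwa [Nat.card_congr (subgroupOfEquivOfLe le_top).toEquiv] at this)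
    have hle : F ⊓ C ≤ centralizer (U : Set P) := inf_le_right
    have hse := IsElementaryAbelian.sup (hEle hFe inf_le_left) hUe hle
    have hcard : Nat.card ↥((F ⊓ C) ⊔ U) ≤ p ^ 2 := by
      by_contra hlt
      refine absurd hX ((RankTwo.not_pRankLE_subgroup_iff p 2 _).mpr ⟨_, sup_le hle ?_, hse, not_le.mp hlt⟩)
      exact fun a ha => mem_centralizer_iff.mpr fun b hb =>
        congrArg Subtype.val (hUe.1.is_comm.comm (⟨b, hb⟩ : U) ⟨a, ha⟩)
    have h1 := eq_of_le_of_card_ge (le_sup_left : F ⊓ C ≤ _) (hcard.trans (hbig F hFc))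
    have hUF : U ≤ F := le_sup_right.trans (h1.ge.trans inf_le_left)
    have hFC : F ≤ C := fun f hf => mem_centralizer_iff.mpr fun u hu =>
      congrArg Subtype.val (hFe.1.is_comm.comm (⟨u, hUF hu⟩ : F) ⟨f, hf⟩)
    rw [inf_eq_left.mpr hFC] at h1
    exact absurd ((card_le_of_le (le_sup_left : F ≤ F ⊔ U)).trans ((inf_eq_left.mpr hFC).symm ▸ hcard))
      (not_le.mpr hFc)
  · intro hX
    obtain ⟨F, hFX, hFe, hFc⟩ := (RankTwo.not_pRankLE_subgroup_iff p 2 _).mp hX
    have h2 := hbig F hFc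
    refine (Relation.ReflTransGen.single ⟨hXe, hXc, hFe, hFc.le, fun a ha b hb =>
      mem_centralizer_iff.mp (hFX hb) a ha⟩).trans ?_
    refine (Relation.ReflTransGen.single ⟨hFe, hFc.le, hEle hFe inf_le_left, h2, fun a ha b hb =>
      congrArg Subtype.val (hFe.1.is_comm.comm (⟨a, ha⟩ : F) ⟨b, hb.1⟩)⟩).trans ?_
    exact Relation.ReflTransGen.single ⟨hEle hFe inf_le_left, h2, hUe, hUc.ge, fun a ha b hb =>
      (mem_centralizer_iff.mp ha.2 b hb).symm⟩

end Cfsg.Agent.S1337
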