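import Cfsg.Statements.S1338
import Cfsg.Agent.S1337
import Cfsg.Agent.Lib.Components.NormalRankFour

set_option autoImplicit false
open Cfsg

namespace Cfsg.Agent.S1338

open Cfsg.Agent.Components in
open Cfsg.Agent.PLocal.ThompsonSubgroup Subgroup in
/-- Three steps of `σ - 1` vanish on a group of exponent `3` when `σ ^ 3 = 1`. -/
lemma delta_cubed {V : Type*} [CommGroup V] (h3 : ∀ v : V, v ^ 3 = 1) (s : V →* V)
    (hs : ∀ v, s (s (s v)) = v) (f : V → V) (hf : ∀ v, f v = s v * v⁻¹) (v : V) : f (f (f v)) = 1 := by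
  have key : ∀ w : Additive V, (3 : ℕ) • w = 0 := fun w => h3 w.toMul
  simp only [hf, map_mul, map_inv, hs]
  have : ∀ w : V, w * w * w = 1 := fun w => by rw [← h3 w, pow_succ, pow_two]
  calc _ = (v * v⁻¹) * ((s v * s v * s v)) * (s (s v) * s (s v) * s (s v))⁻¹ := by
        apply Additive.ofMul.injective
        simp only [ofMul_mul, ofMul_inv]
        abel
    _ = 1 := by rw [this, this, mul_inv_cancel, inv_one, one_mul, one_mul]

open Cfsg.Agent.Components in
open Cfsg.Agent.PLocal.ThompsonSubgroup Subgroup in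

/-- A finite 3-group of 3-rank at least 4 is 2-connected for the prime 3: its commuting graph on elementary abelian subgroups of order ≥ 9 is connected. -/
theorem result {P : Type*} [Group P] [Finite P] (hP : IsPGroup 3 P) (hrk : ¬ Cfsg.PRankLE 3 3 P) : Cfsg.IsKConnected 3 2 P := by
  classical
  have hp3 : Fact (Nat.Prime 3) := ⟨Nat.prime_three⟩
  obtain ⟨F, -, hFe, hFc⟩ : ∃ F : Subgroup P, True ∧ Cfsg.IsElementaryAbelian 3 F ∧ 3 ^ 3 < Nat.card F := by
    simp only [Cfsg.PRankLE, not_forall, not_le] at hrk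
    obtain ⟨F, h1, h2, h3⟩ := hrk
    exact ⟨F, trivial, ⟨h1, h2⟩, h3⟩
  have hrk2 : ¬ Cfsg.PRankLE 3 2 P := fun h =>
    absurd (h F hFe.1 hFe.2) (by have : (3 : ℕ) ^ 2 < 3 ^ 3 := by norm_num
                                 omega)
  obtain ⟨E₄, hE₄F, hE₄c⟩ : ∃ E₄ : Subgroup P, E₄ ≤ F ∧ Nat.card E₄ = 3 ^ 4 := by
    obtain ⟨j, hj⟩ := IsPGroup.iff_card.mp (hP.to_subgroup F)
    have h4 : 3 ^ 4 ≤ Nat.card F := by
      rw [hj] at hFc ⊢
      exact Nat.pow_le_pow_right (by norm_num) ((Nat.pow_lt_pow_iff_right (by norm_num)).mp hFc)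
    obtain ⟨M, -, -, hM⟩ := Cfsg.Agent.PGroups.Normal.exists_normal_le_card (hP.to_subgroup F) ⊤ 4
      (by rwa [Subgroup.card_top])
    exact ⟨M.map F.subtype, map_subtype_le M, by rwa [card_subtype]⟩
  obtain ⟨A, hAn, hAe, hAc⟩ := NormalRankFour.exists_normal (by norm_num) hP
    (IsElementaryAbelian.mono hFe hE₄F) hE₄c
  have hAcomm := (isElementaryAbelian_iff.mp hAe).1
  -- every vertex has a centralizer of rank at least three
  have key : ∀ X : Subgroup P, Cfsg.IsElementaryAbelian 3 X → 3 ^ 2 ≤ Nat.card X →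
      ¬ Cfsg.PRankLE 3 2 ↥(centralizer (X : Set P)) := by
    intro X hX hXc
    rw [RankTwo.not_pRankLE_subgroup_iff]
    have hXX : X ≤ centralizer (X : Set P) := fun x hx => mem_centralizer_iff.mpr fun y hy =>
      (isElementaryAbelian_iff.mp hX).1 y hy x hx
    by_cases hbig : 3 ^ 2 < Nat.card X
    · exact ⟨X, hXX, hX, hbig⟩
    have hX9 : Nat.card X = 3 ^ 2 := le_antisymm (not_lt.mp hbig) hXc
    by_cases hXA : X ≤ A
    · exact ⟨A, fun a ha => mem_centralizer_iff.mpr fun y hy => hAcomm y (hXA hy) a ha, hAe,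
        by rw [hAc]; norm_num⟩
    set CA := A ⊓ centralizer (X : Set P) with hCA
    suffices hne : ¬ CA ≤ X by
      refine ⟨X ⊔ CA, sup_le hXX inf_le_right,
        IsElementaryAbelian.sup hX (IsElementaryAbelian.mono hAe inf_le_left) (le_centralizer_iff.mp inf_le_right), ?_⟩
      rw [← hX9]
      refine lt_of_le_of_ne (card_le_of_le le_sup_left) fun h => hne ?_
      exact le_sup_right.trans (eq_of_le_of_card_ge (le_sup_left : X ≤ X ⊔ CA) h.ge).ge
    intro hle
    by_cases hbot : X ⊓ A = ⊥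
    · have := hP.isNilpotent
      have hA1 : A ≠ ⊥ := fun h => by rw [h, card_bot] at hAc; norm_num at hAc
      have h1 : A ⊓ center P ≠ ⊥ := Cfsg.Agent.Cores.inf_center_ne_bot hA1
      refine h1 (le_bot_iff.mp fun z hz => ?_)
      rw [← hbot]
      exact ⟨hle ⟨hz.1, center_le_centralizer _ hz.2⟩, hz.1⟩
    obtain ⟨x, hx, hxA⟩ := SetLike.not_le_iff_exists.mp hXA
    obtain ⟨y, hy, hy1⟩ := (bot_or_exists_ne_one (X ⊓ A)).resolve_left hbot
    -- `X = ⟨y⟩⟨x⟩`, so `C_A(X) = C_A(x)`
    have hxy : zpowers y ⊔ zpowers x = X := by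
      refine eq_of_le_of_card_ge (sup_le (zpowers_le.mpr hy.1) (zpowers_le.mpr hx)) ?_
      rw [hX9, NormalRankFour.card_sup_zpowers (p := 3) _ (hX.2 x hx)
        (fun h => hxA ((zpowers_le.mpr hy.2) h)), Nat.card_zpowers, orderOf_eq_prime (hX.2 y hy.1) hy1]
      · norm_num
      · exact centralizer_le_normalizer _ (mem_centralizer_iff.mpr fun c hc =>
          (isElementaryAbelian_iff.mp hX).1 c ((zpowers_le.mpr hy.1) hc) x hx)
    have hCx : A ⊓ centralizer ({x} : Set P) ≤ CA := by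
      refine le_inf inf_le_left ?_
      rw [le_centralizer_iff, ← hxy]
      refine sup_le (zpowers_le.mpr ?_) (zpowers_le.mpr ?_)
      · exact mem_centralizer_iff.mpr fun a ha => hAcomm a ha.1 y hy.2
      · exact mem_centralizer_iff.mpr fun a ha => mem_centralizer_singleton_iff.mp ha.2
    have := hAe.1
    let _ : CommGroup A := { (inferInstance : Group A) with mul_comm := fun a b => mul_comm' a b }
    let s : A →* A := (MulAut.conjNormal x).toMonoidHom
    let f : A →* A := s * (MonoidHom.id A)⁻¹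
    have hf : ∀ a, f a = s a * a⁻¹ := fun a => rfl
    have hfff : ∀ a, f (f (f a)) = 1 := fun a => delta_cubed (fun v => Subtype.ext (by simpa using hAe.2 v v.2)) s
      (fun v => Subtype.ext (by
        show x * (x * (x * (v : P) * x⁻¹) * x⁻¹) * x⁻¹ = v
        calc x * (x * (x * (v : P) * x⁻¹) * x⁻¹) * x⁻¹ = (x * x * x) * v * (x * x * x)⁻¹ := by group
          _ = v := by rw [← pow_three' x, hX.2 x hx]; group)) f hf a
    have hker : f.ker.map A.subtype ≤ X ⊓ A := by
      rintro _ ⟨a, ha, rfl⟩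
      have h1 : x * (a : P) * x⁻¹ = a := congrArg Subtype.val (mul_inv_eq_one.mp ha)
      exact ⟨hle (hCx ⟨a.2, mem_centralizer_singleton_iff.mpr (mul_inv_eq_iff_eq_mul.mp h1).symm⟩), a.2⟩
    have hsmall : Nat.card f.ker ≤ 3 := by
      rw [← card_subtype A f.ker]
      refine (card_le_of_le hker).trans ?_
      obtain ⟨j, hj⟩ := IsPGroup.iff_card.mp (hP.to_subgroup (X ⊓ A))
      by_contra hlt
      push Not at hlt
      refine hXA (inf_eq_left.mp (eq_of_le_of_card_ge inf_le_left ?_))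
      rw [hX9, hj] at *
      refine Nat.pow_le_pow_right (by norm_num) ?_
      by_contra hlt2
      have : (3 : ℕ) ^ j ≤ 3 ^ 1 := Nat.pow_le_pow_right (by norm_num) (by omega)
      omega
    have hstep : ∀ W : Subgroup A, Nat.card W ≤ 3 * Nat.card (W.map f) := fun W => by
      have h := (f.comp W.subtype).ker.card_mul_index
      rw [Subgroup.index_ker, MonoidHom.range_comp, range_subtype] at h
      rw [← h]
      refine Nat.mul_le_mul_right _ (le_trans ?_ hsmall)
      exact Nat.card_le_card_of_injective (fun z => (⟨z.1.1, z.2⟩ : f.ker))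
        fun z w h => Subtype.ext (Subtype.ext (congrArg Subtype.val h :))
    have h1 := hstep ⊤
    have h2 := hstep ((⊤ : Subgroup A).map f)
    have h3 := hstep (((⊤ : Subgroup A).map f).map f)
    have h0 : (((⊤ : Subgroup A).map f).map f).map f = ⊥ := by
      rw [eq_bot_iff]
      rintro _ ⟨_, ⟨_, ⟨a, -, rfl⟩, rfl⟩, rfl⟩
      exact mem_bot.mpr (hfff a)
    rw [h0, card_bot] at h3
    rw [Subgroup.card_top, hAc] at h1
    omega
  obtain ⟨U, -, -, -, hU⟩ := Cfsg.Agent.S1337.result 3 hP hrk2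
  intro E E' hE hEc hE' hEc'
  refine ((hU E hE hEc).mpr (key E hE hEc)).trans ?_
  refine Relation.ReflTransGen.mono ?_ _ _ ((hU E' hE' hEc').mpr (key E' hE' hEc')).swap
  exact fun A B h => ⟨h.2.2.1, h.2.2.2.1, h.1, h.2.1, fun a ha b hb => (h.2.2.2.2 b hb a ha).symm⟩

end Cfsg.Agent.S1338
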