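import Cfsg.Statements.S1339
import Cfsg.Agent.Lib.CharP.CharP

set_option autoImplicit false
open Cfsg

namespace Cfsg.Agent.S1339

/-- Let F be a field with 2 elements, n ≥ 3, and t ∈ SL(n, F) a transvection (t = 1 + E_{ij}, i ≠ j). Then the generalized Fitting subgroup of C(t) is O_2(C(t)). -/
theorem result {F : Type*} [Field F] [Fintype F] [DecidableEq F] (hF : Fintype.card F = 2) (n : ℕ) (hn : 3 ≤ n) (i j : Fin n) (hij : i ≠ j) (t : Matrix.SpecialLinearGroup (Fin n) F) (ht : (t : Matrix (Fin n) (Fin n) F) = Matrix.transvection i j 1) : Cfsg.generalizedFittingSubgroup ↥(Subgroup.centralizer ({t} : Set (Matrix.SpecialLinearGroup (Fin n) F))) = Cfsg.pCore 2 ↥(Subgroup.centralizer ({t} : Set (Matrix.SpecialLinearGroup (Fin n) F))) := by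
  classical
  haveI : Fact (Nat.Prime 2) := ⟨Nat.prime_two⟩
  haveI : CharP F 2 := (CharP.charP_iff_prime_eq_zero Nat.prime_two).mpr (by
    have h : (Fintype.card F : F) = 0 := Nat.cast_card_eq_zero F
    rwa [hF] at h)
  set C := Subgroup.centralizer ({t} : Set (Matrix.SpecialLinearGroup (Fin n) F)) with hC
  have hsum : ∀ x : F, x ≠ 0 → x = 1 := by
    intro x hx
    have h1 : Fintype.card Fˣ = 1 := by rw [Fintype.card_units, hF]
    haveI : Subsingleton Fˣ := Fintype.card_le_one_iff_subsingleton.mp h1.le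
    exact congrArg Units.val (Subsingleton.elim (Units.mk0 x hx) 1)
  -- commuting with `1 + E_ij`
  have hcomm : ∀ g : C, ((g : Matrix.SpecialLinearGroup (Fin n) F) : Matrix (Fin n) (Fin n) F) * Matrix.single i j (1 : F)
      = Matrix.single i j (1 : F) * ((g : Matrix.SpecialLinearGroup (Fin n) F) : Matrix (Fin n) (Fin n) F) := by
    intro g
    have h := congrArg (fun u : Matrix.SpecialLinearGroup (Fin n) F => (u : Matrix (Fin n) (Fin n) F))
      (Subgroup.mem_centralizer_singleton_iff.mp g.2)
    simp only [Matrix.SpecialLinearGroup.coe_mul, ht, Matrix.transvection, mul_add, add_mul,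
      mul_one, one_mul, add_right_inj] at h
    exact h
  have hcol : ∀ (g : C) (k : Fin n), k ≠ i →
      ((g : Matrix.SpecialLinearGroup (Fin n) F) : Matrix (Fin n) (Fin n) F) k i = 0 := by
    intro g k hk
    have h := congrFun (congrFun (hcomm g) k) j
    rwa [Matrix.mul_single_apply_same, Matrix.single_mul_apply_of_ne (1 : F) i j k j hk, mul_one] at h
  have hrow : ∀ (g : C) (l : Fin n), l ≠ j →
      ((g : Matrix.SpecialLinearGroup (Fin n) F) : Matrix (Fin n) (Fin n) F) j l = 0 := by
    intro g l hl
    have h := congrFun (congrFun (hcomm g) i) l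
    rw [Matrix.mul_single_apply_of_ne (1 : F) i j i l hl, Matrix.single_mul_apply_same, one_mul] at h
    exact h.symm
  have hii : ∀ g : C, ((g : Matrix.SpecialLinearGroup (Fin n) F) : Matrix (Fin n) (Fin n) F) i i = 1 := by
    intro g
    refine hsum _ fun h0 => ?_
    have hdet := (g : Matrix.SpecialLinearGroup (Fin n) F).2
    rw [Matrix.det_eq_zero_of_column_eq_zero i (fun k => ?_)] at hdet
    · exact zero_ne_one hdet
    · by_cases hk : k = i
      · rw [hk]; exact h0
      · exact hcol g k hk
  have hjj : ∀ g : C, ((g : Matrix.SpecialLinearGroup (Fin n) F) : Matrix (Fin n) (Fin n) F) j j = 1 := by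
    intro g
    have h := congrFun (congrFun (hcomm g) i) j
    rw [Matrix.mul_single_apply_same, Matrix.single_mul_apply_same, mul_one, one_mul, hii g] at h
    exact h.symm
  let S : Set C := {g | ∀ k l : Fin n, k ≠ i → l ≠ j →
    ((g : Matrix.SpecialLinearGroup (Fin n) F) : Matrix (Fin n) (Fin n) F) k l = (1 : Matrix (Fin n) (Fin n) F) k l}
  have hmul : ∀ (a b : C) (k l : Fin n), a ∈ S → k ≠ i → l ≠ j →
      (((a * b : C) : Matrix.SpecialLinearGroup (Fin n) F) : Matrix (Fin n) (Fin n) F) k l
        = ((b : Matrix.SpecialLinearGroup (Fin n) F) : Matrix (Fin n) (Fin n) F) k l := by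
    intro a b k l ha hk hl
    rw [Subgroup.coe_mul, Matrix.SpecialLinearGroup.coe_mul, Matrix.mul_apply,
      Finset.sum_eq_single_of_mem k (Finset.mem_univ k)]
    · by_cases hkj : k = j
      · rw [hkj, hjj, one_mul]
      · rw [ha k k hk hkj, Matrix.one_apply_eq, one_mul]
    · intro m _ hmk
      by_cases hmj : m = j
      · rw [hmj, hrow b l hl, mul_zero]
      · rw [ha k m hk hmj, Matrix.one_apply_ne (Ne.symm hmk), zero_mul]
  have hmul' : ∀ (a b : C) (k l : Fin n), b ∈ S → k ≠ i → l ≠ j →
      (((a * b : C) : Matrix.SpecialLinearGroup (Fin n) F) : Matrix (Fin n) (Fin n) F) k l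
        = ((a : Matrix.SpecialLinearGroup (Fin n) F) : Matrix (Fin n) (Fin n) F) k l := by
    intro a b k l hb hk hl
    rw [Subgroup.coe_mul, Matrix.SpecialLinearGroup.coe_mul, Matrix.mul_apply,
      Finset.sum_eq_single_of_mem l (Finset.mem_univ l)]
    · by_cases hli : l = i
      · rw [hli, hii, mul_one]
      · rw [hb l l hli hl, Matrix.one_apply_eq, mul_one]
    · intro m _ hml
      by_cases hmi : m = i
      · rw [hmi, hcol a k hk, zero_mul]
      · rw [hb m l hmi hl, Matrix.one_apply_ne hml, mul_zero]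
  have h1S : (1 : C) ∈ S := fun k l _ _ => by simp
  let Q : Subgroup C :=
    { carrier := S
      one_mem' := h1S
      mul_mem' := fun {a b} ha hb k l hk hl => by rw [hmul a b k l ha hk hl]; exact hb k l hk hl
      inv_mem' := fun {a} ha k l hk hl => by
        rw [← hmul a a⁻¹ k l ha hk hl, mul_inv_cancel]; exact h1S k l hk hl }
  haveI hQn : Q.Normal := ⟨fun a ha g => by
    intro k l hk hl
    have e : g * a * g⁻¹ * g = g * a := by group
    -- compare `g * a * g⁻¹` with `g * g⁻¹`
    have h1 : ∀ m, m ≠ i → ∀ q, q ≠ j →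
        (((g * a : C) : Matrix.SpecialLinearGroup (Fin n) F) : Matrix (Fin n) (Fin n) F) m q =
          ((g : Matrix.SpecialLinearGroup (Fin n) F) : Matrix (Fin n) (Fin n) F) m q :=
      fun m hm q hq => hmul' g a m q ha hm hq
    have h2 : (((g * a * g⁻¹ : C) : Matrix.SpecialLinearGroup (Fin n) F) : Matrix (Fin n) (Fin n) F) k l =
        (((g * g⁻¹ : C) : Matrix.SpecialLinearGroup (Fin n) F) : Matrix (Fin n) (Fin n) F) k l := by
      simp only [Subgroup.coe_mul, Matrix.SpecialLinearGroup.coe_mul, Matrix.mul_apply]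
      refine Finset.sum_congr rfl fun m _ => ?_
      by_cases hmj : m = j
      · rw [hmj, hrow g⁻¹ l hl, mul_zero, mul_zero]
      · have := h1 k hk m hmj
        simp only [Subgroup.coe_mul, Matrix.SpecialLinearGroup.coe_mul, Matrix.mul_apply] at this
        rw [this]
    rw [mul_inv_cancel] at h2
    rw [h2]
    exact h1S k l hk hl⟩
  have hQp : IsPGroup 2 Q := by
    intro g
    refine ⟨2, Subtype.ext (Subtype.ext (Subtype.ext ?_))⟩
    set N := ((g.1 : Matrix.SpecialLinearGroup (Fin n) F) : Matrix (Fin n) (Fin n) F) - 1 with hN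
    have hN0 : ∀ k l, k ≠ i → l ≠ j → N k l = 0 := fun k l hk hl => by
      rw [hN, Matrix.sub_apply, g.2 k l hk hl, sub_self]
    have hNi : ∀ k, N k i = 0 := fun k => by
      by_cases hk : k = i
      · rw [hN, Matrix.sub_apply, hk, hii, Matrix.one_apply_eq, sub_self]
      · exact hN0 k i hk hij
    have hNj : ∀ l, N j l = 0 := fun l => by
      by_cases hl : l = j
      · rw [hN, Matrix.sub_apply, hl, hjj, Matrix.one_apply_eq, sub_self]
      · exact hN0 j l (Ne.symm hij) hl
    have hN2 : ∀ k l, (k ≠ i ∨ l ≠ j) → (N * N) k l = 0 := by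
      intro k l hkl
      rw [Matrix.mul_apply]
      refine Finset.sum_eq_zero fun m _ => ?_
      by_cases hmi : m = i
      · rw [hmi, hNi, zero_mul]
      by_cases hmj : m = j
      · rw [hmj, hNj, mul_zero]
      rcases hkl with hk | hl
      · rw [hN0 k m hk hmj, zero_mul]
      · rw [hN0 m l hmi hl, mul_zero]
    have hN4 : N ^ 4 = 0 := by
      rw [show N ^ 4 = N * N * (N * N) by simp [pow_succ, mul_assoc]]
      ext k l
      rw [Matrix.mul_apply]
      refine Finset.sum_eq_zero fun m _ => ?_
      by_cases hmi : m = i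
      · rw [hN2 k m (Or.inr (hmi ▸ hij)), zero_mul]
      · rw [hN2 m l (Or.inl hmi), mul_zero]
    haveI : Nonempty (Fin n) := ⟨i⟩
    have : (((g.1 : Matrix.SpecialLinearGroup (Fin n) F) : Matrix (Fin n) (Fin n) F)) ^ 2 ^ 2 = 1 := by
      rw [show ((g.1 : Matrix.SpecialLinearGroup (Fin n) F) : Matrix (Fin n) (Fin n) F) = 1 + N by rw [hN]; abel,
        add_pow_char_pow_of_commute 2 2 (Commute.one_left N), one_pow, show (2 : ℕ) ^ 2 = 4 from rfl, hN4, add_zero]
    simpa using this
  have hQc : Subgroup.centralizer (Q : Set C) ≤ Q := by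
    intro g hg k l hk hl
    by_cases hkj : k = j
    · rw [hkj]
      rw [hrow g l hl, Matrix.one_apply_ne (Ne.symm hl)]
    · let e : Matrix.SpecialLinearGroup (Fin n) F :=
        ⟨Matrix.transvection i k 1, Matrix.det_transvection_of_ne _ _ (Ne.symm hk) _⟩
      have he' : (e : Matrix (Fin n) (Fin n) F) = Matrix.transvection i k 1 := rfl
      have he : e ∈ C := by
        refine Subgroup.mem_centralizer_singleton_iff.mpr (Subtype.ext ?_)
        simp only [Matrix.SpecialLinearGroup.coe_mul, ht, Matrix.transvection, mul_add, add_mul,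
          mul_one, one_mul, he', Matrix.single_mul_single_of_ne (1 : F) i k i hk,
          Matrix.single_mul_single_of_ne (1 : F) i j i (Ne.symm hij), add_zero]
        abel
      have heQ : (⟨e, he⟩ : C) ∈ Q := by
        intro a b ha hb
        show Matrix.transvection i k (1 : F) a b = _
        rw [Matrix.transvection, Matrix.add_apply, Matrix.single_apply, if_neg (fun h => ha h.1.symm), add_zero]
      have h := congrArg (fun u : C => ((u : Matrix.SpecialLinearGroup (Fin n) F) : Matrix (Fin n) (Fin n) F))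
        (Subgroup.mem_centralizer_iff.mp hg _ heQ)
      simp only [Subgroup.coe_mul, Matrix.SpecialLinearGroup.coe_mul, he', Matrix.transvection, mul_add,
        add_mul, mul_one, one_mul, add_right_inj] at h
      have h' := congrFun (congrFun h i) l
      rw [Matrix.single_mul_apply_same, one_mul] at h'
      rw [h']
      by_cases hkl : k = l
      · rw [← hkl, Matrix.mul_single_apply_same, hii, one_mul, Matrix.one_apply_eq]
      · rw [Matrix.mul_single_apply_of_ne (1 : F) i k i l (Ne.symm hkl), Matrix.one_apply_ne hkl]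
  refine Cfsg.Agent.CharP.genFitting_eq_pCore_iff.mpr ?_
  have hle : Q ≤ Cfsg.pCore 2 C := Cfsg.Agent.Cores.le_pCore hQp
  exact (Subgroup.centralizer_le hle).trans (hQc.trans hle)

end Cfsg.Agent.S1339
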