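import Cfsg.Statements.S1340
import Cfsg.Agent.Lib.Components.BlockSL

set_option autoImplicit false
open Cfsg

namespace Cfsg.Agent.S1340

/-- Let F be a finite field of odd order and n ≥ 3 with (n, |F|) ≠ (3, 3). Then GL(n, F) has a non-central involution t such that C(t) / O(C(t)) has a component. -/
theorem result {F : Type*} [Field F] [Fintype F] [DecidableEq F] (hF : Odd (Fintype.card F)) (n : ℕ) (hn : 3 ≤ n) (h33 : ¬ (n = 3 ∧ Fintype.card F = 3)) : ∃ t : Matrix.GeneralLinearGroup (Fin n) F, orderOf t = 2 ∧ t ∉ Subgroup.center (Matrix.GeneralLinearGroup (Fin n) F) ∧ Cfsg.HasComponent (↥(Subgroup.centralizer ({t} : Set (Matrix.GeneralLinearGroup (Fin n) F))) ⧸ Cfsg.oddCore ↥(Subgroup.centralizer ({t} : Set (Matrix.GeneralLinearGroup (Fin n) F)))) := by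
  classical
  open Cfsg.Agent.Components in
  obtain ⟨m, rfl⟩ : ∃ m, n = m + 1 := ⟨n - 1, by omega⟩
  set σ : Fin m ⊕ Unit ≃ Fin (m + 1) :=
    (Equiv.sumCongr (Equiv.refl _) finOneEquiv.symm).trans finSumFinEquiv with hσ
  haveI : Nontrivial (Fin m) := Fin.nontrivial_iff_two_le.mpr (by omega)
  have h2 : (2 : F) ≠ 0 := by
    intro h
    haveI : CharP F 2 := (CharP.charP_iff_prime_eq_zero Nat.prime_two).mpr h
    obtain ⟨k, hk⟩ := FiniteField.card F 2
    obtain ⟨-, hk'⟩ := hk
    rw [hk'] at hF
    exact (Nat.not_even_iff_odd.mpr hF) ((even_two).pow_of_ne_zero k.pos.ne')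
  have hT := Cfsg.Agent.Components.BlockSL.tMat_sq (F := F) σ
  set t : Matrix.GeneralLinearGroup (Fin (m + 1)) F :=
    ⟨Cfsg.Agent.Components.BlockSL.tMat σ, Cfsg.Agent.Components.BlockSL.tMat σ, hT, hT⟩ with ht
  haveI : Fact (Nat.Prime 2) := ⟨Nat.prime_two⟩
  refine ⟨t, orderOf_eq_prime (Units.ext ?_) (fun h => ?_), fun hc => ?_, ?_⟩
  · rw [pow_two]; exact hT
  · exact Cfsg.Agent.Components.BlockSL.tMat_ne_one σ h2 (congrArg Units.val h)
  · set a : Fin (m + 1) := σ (Sum.inl ⟨0, by omega⟩) with ha
    set b : Fin (m + 1) := σ (Sum.inr ()) with hb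
    have hab : a ≠ b := fun h => by simpa using σ.injective h
    have hdet : IsUnit (Matrix.transvection a b (1 : F)) := by
      rw [Matrix.isUnit_iff_isUnit_det, Matrix.det_transvection_of_ne _ _ hab]; exact isUnit_one
    have h := congrArg Units.val (Subgroup.mem_center_iff.mp hc hdet.unit)
    simp only [Units.val_mul, IsUnit.unit_spec] at h
    have h' := congrFun (congrFun h a) b
    have e : ∀ x y, (t : Matrix (Fin (m + 1)) (Fin (m + 1)) F) x y =
        Matrix.fromBlocks (-1 : Matrix (Fin m) (Fin m) F) 0 0 (1 : Matrix Unit Unit F) (σ.symm x) (σ.symm y) :=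
      fun x y => rfl
    simp only [Matrix.transvection, Matrix.add_mul, Matrix.mul_add, Matrix.one_mul, Matrix.mul_one,
      Matrix.add_apply, Matrix.single_mul_apply_same, Matrix.mul_single_apply_same, e, ha, hb,
      Equiv.symm_apply_apply, Matrix.fromBlocks_apply₁₁, Matrix.fromBlocks_apply₁₂, Matrix.fromBlocks_apply₂₂,
      Matrix.neg_apply, Matrix.one_apply_eq, Matrix.zero_apply] at h'
    exact h2 (by linear_combination h')
  · set C := Subgroup.centralizer ({t} : Set (Matrix.GeneralLinearGroup (Fin (m + 1)) F)) with hC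
    set L := (Cfsg.Agent.Components.BlockSL.phiGL (F := F) σ).range with hL
    have hq3 : m = 2 → 4 ≤ Fintype.card F := by
      intro hm
      have h1 : 1 < Fintype.card F := Fintype.one_lt_card
      have h3 : Fintype.card F ≠ 3 := fun h => h33 ⟨by omega, h⟩
      have h2' : Fintype.card F ≠ 2 := fun h => (Nat.not_even_iff_odd.mpr hF) (h ▸ even_two)
      omega
    have hle : L ≤ C := Cfsg.Agent.Components.BlockSL.phiGL_le_centralizer σ t rfl
    have hcomp : Cfsg.IsComponent (L.subgroupOf C) := by
      refine ⟨(Subgroup.normal_subgroupOf_of_le_normalizer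
        (Cfsg.Agent.Components.BlockSL.centralizer_le_normalizer_GL σ h2 t rfl)).isSubnormal, ?_⟩
      exact Cfsg.Agent.Components.Basic.quasisimple_of_mulEquiv
        ((MonoidHom.ofInjective (Cfsg.Agent.Components.BlockSL.phiGL_injective σ)).trans
          (Subgroup.subgroupOfEquivOfLe hle).symm)
        (Cfsg.Agent.Components.BlockSL.isQuasisimple_SL m (by omega) hq3)
    rcases Cfsg.Agent.Components.Local.component_le_or_map_isComponent (Cfsg.oddCore ↥C) hcomp with h | h
    · exfalso
      set i : Fin m := ⟨0, by omega⟩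
      set j : Fin m := ⟨1, by omega⟩
      set v : Fin m → F := fun k => if k = i ∨ k = j then -1 else 1 with hv
      have hij : i ≠ j := by simp [i, j]
      have hdet : (Matrix.diagonal v).det = 1 := by
        rw [Matrix.det_diagonal, ← Finset.prod_subset (Finset.subset_univ ({i, j} : Finset (Fin m)))
          (fun k _ hk => by simp only [Finset.mem_insert, Finset.mem_singleton] at hk; simp [hv, hk]),
          Finset.prod_pair hij]
        simp [hv]
      set d : Matrix.SpecialLinearGroup (Fin m) F := ⟨Matrix.diagonal v, hdet⟩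
      have hd : orderOf d = 2 := by
        refine orderOf_eq_prime ?_ fun h => ?_
        · refine Subtype.ext ?_
          show (Matrix.diagonal v) ^ 2 = 1
          rw [Matrix.diagonal_pow, ← Matrix.diagonal_one]
          congr 1
          funext k
          simp only [Pi.pow_apply, hv]
          split <;> ring
        · have := congrFun (congrFun (congrArg Subtype.val h) i) i
          simp [d, hv] at this
          exact h2 (by linear_combination -this)
      have hdvd : 2 ∣ Nat.card ↥(L.subgroupOf C) := by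
        rw [Nat.card_congr (Subgroup.subgroupOfEquivOfLe hle).toEquiv,
          Nat.card_congr (MonoidHom.ofInjective (Cfsg.Agent.Components.BlockSL.phiGL_injective σ)).symm.toEquiv,
          ← hd]
        exact orderOf_dvd_natCard d
      have hodd : Odd (Nat.card ↥(Cfsg.oddCore ↥C)) := Cfsg.Agent.Cores.oddCore_odd
      exact (Nat.not_even_iff_odd.mpr hodd) (even_iff_two_dvd.mpr (hdvd.trans (Subgroup.card_dvd_of_le h)))
    · exact ⟨_, h⟩

end Cfsg.Agent.S1340
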