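import Cfsg.Statements.S1342
import Cfsg.Agent.Lib.Components.ExtendedLayer

set_option autoImplicit false
open Cfsg

namespace Cfsg.Agent.S1342

/-- For a finite group X, L*_{2'}(X) is normal in X. -/
theorem result {X : Type*} [Group X] [Finite X] : (Cfsg.extendedTwoLayer X).Normal := by
  haveI : Fact (Nat.Prime 2) := ⟨Nat.prime_two⟩
  obtain ⟨T⟩ := (inferInstance : Nonempty (Sylow 2 ↥(Cfsg.pLayer 2 X ⊔ Cfsg.pPrimePCore 2 X)))
  have h : Cfsg.extendedTwoLayer X = Cfsg.Agent.Components.ExtendedLayer.extAt T :=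
    le_antisymm (sup_le le_sup_left (iSup_le fun S =>
      Cfsg.Agent.Components.ExtendedLayer.coreCent_amb_le T S))
      (sup_le le_sup_left (le_sup_of_le_right (le_iSup_of_le T le_rfl)))
  exact h ▸ Cfsg.Agent.Components.ExtendedLayer.extAt_normal T

end Cfsg.Agent.S1342
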