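import Cfsg.Statements.S1343
import Cfsg.Agent.Lib.Components.ExtendedLayer

set_option autoImplicit false
open Cfsg

namespace Cfsg.Agent.S1343

/-- Let X be finite. Then L*_{2'}(X) = L_{2'}(X) ⊔ F for some subgroup F of odd order normalized by a Sylow 2-subgroup of X. -/
theorem result {X : Type*} [Group X] [Finite X] : ∃ F : Subgroup X, Odd (Nat.card ↥F) ∧ (∃ S : Sylow 2 X, (S : Subgroup X) ≤ Subgroup.normalizer (F : Set X)) ∧ Cfsg.extendedTwoLayer X = Cfsg.pLayer 2 X ⊔ F := by
  haveI : Fact (Nat.Prime 2) := ⟨Nat.prime_two⟩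
  haveI := Cfsg.Agent.Components.ExtendedLayer.sup_pLayer_pPrimePCore_normal (G := X) (p := 2)
  obtain ⟨S⟩ := (inferInstance : Nonempty (Sylow 2 X))
  set M := Cfsg.pLayer 2 X ⊔ Cfsg.pPrimePCore 2 X with hM
  set T : Sylow 2 ↥M := IsPGroup.toSylow (S.isPGroup'.comap_subtype (K := M))
    (Cfsg.Agent.Cores.sylow_subgroupOf_isSubnormal S (inferInstance : M.Normal).isSubnormal)
  have hT : Cfsg.Agent.Components.ExtendedLayer.amb T = (S : Subgroup X) ⊓ M :=
    Subgroup.subgroupOf_map_subtype _ _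
  set W := Cfsg.Agent.Components.ExtendedLayer.coreCent 2
    (Cfsg.Agent.Components.ExtendedLayer.amb T) with hW
  refine ⟨W ⊔ Cfsg.oddCore X, ?_, ⟨S, fun s hs => ?_⟩, ?_⟩
  · exact Nat.coprime_two_right.1 (((Cfsg.Agent.Components.ExtendedLayer.coprime_card_coreCent
      (p := 2) (Cfsg.Agent.Components.ExtendedLayer.amb T)).mul_left
        (Cfsg.Agent.Cores.pPrimeCore_card_coprime (G := X) 2)).coprime_dvd_left
      (Cfsg.Agent.Cores.card_sup_dvd_mul W (Cfsg.pPrimeCore 2 X)))
  · rw [Subgroup.mem_normalizer_iff_map_conj_eq, Subgroup.map_sup]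
    erw [Cfsg.Agent.Components.ExtendedLayer.map_conj_normal (Cfsg.oddCore X),
      Cfsg.Agent.Components.ExtendedLayer.coreCent_map_equiv]
    congr 2
    rw [hT]
    erw [Subgroup.map_inf _ _ _ (MulAut.conj s).injective,
      Cfsg.Agent.Components.ExtendedLayer.map_conj_normal M s]
    congr 1
    exact Subgroup.mem_normalizer_iff_map_conj_eq.mp (Subgroup.le_normalizer hs)
  · refine le_antisymm (sup_le (sup_le le_sup_left (le_sup_of_le_right le_sup_right))
      (iSup_le fun U => ?_)) (sup_le (le_sup_left.trans le_sup_left)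
        (sup_le (le_sup_of_le_right (le_iSup_of_le T le_rfl)) (le_sup_right.trans le_sup_left)))
    refine (Cfsg.Agent.Components.ExtendedLayer.coreCent_amb_le T U).trans ?_
    exact sup_le (sup_le le_sup_left (le_sup_of_le_right le_sup_right))
      (le_sup_of_le_right le_sup_left)

end Cfsg.Agent.S1343
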