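import Cfsg.Statements.S1344
import Cfsg.Agent.Lib.Components.ExtendedLayer

set_option autoImplicit false
open Cfsg

namespace Cfsg.Agent.S1344

/-- Let K be a 2-component of the finite group X. Then K ≤ L*_{2'}(X) and K is normal in L*_{2'}(X). -/
theorem result {X : Type*} [Group X] [Finite X] (K : Subgroup X) (hK : Cfsg.IsPComponent 2 K) : K ≤ Cfsg.extendedTwoLayer X ∧ (K.subgroupOf (Cfsg.extendedTwoLayer X)).Normal := by
  haveI : Fact (Nat.Prime 2) := ⟨Nat.prime_two⟩
  have hle : K ≤ Cfsg.extendedTwoLayer X :=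
    (le_sSup hK : K ≤ Cfsg.pLayer 2 X).trans (le_sup_left.trans le_sup_left)
  refine ⟨hle, Subgroup.normal_subgroupOf_of_le_normalizer (sup_le (sup_le
    (Cfsg.Agent.Components.PComponents.pLayer_le_normalizer hK)
    (Cfsg.Agent.Components.ExtendedLayer.pPrimeCore_le_normalizer hK)) (iSup_le fun T => ?_))⟩
  exact Cfsg.Agent.Components.ExtendedLayer.coreCent_le_normalizer hK T

end Cfsg.Agent.S1344
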