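import Cfsg.Statements.S1348
import Cfsg.Agent.Lib.Components.BlockSL

set_option autoImplicit false
open Cfsg

namespace Cfsg.Agent.S1348

/-- Let F be a finite field of odd order, n ≥ 7 odd, and t ∈ SL(n, F) the diagonal matrix with entries −1, …, −1, 1. Then E(C(t)) is a standard subgroup of SL(n, F). -/
theorem result {F : Type*} [Field F] [Fintype F] [DecidableEq F] (hF : Odd (Fintype.card F)) (n : ℕ) (hn : 7 ≤ n) (hodd : Odd n) (t : Matrix.SpecialLinearGroup (Fin n) F) (ht : (t : Matrix (Fin n) (Fin n) F) = Matrix.diagonal (fun i : Fin n => if (i : ℕ) + 1 = n then (1 : F) else -1)) : Cfsg.IsStandardSubgroup ((Cfsg.layer ↥(Subgroup.centralizer ({t} : Set (Matrix.SpecialLinearGroup (Fin n) F)))).map (Subgroup.centralizer ({t} : Set (Matrix.SpecialLinearGroup (Fin n) F))).subtype) := by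
  classical
  obtain ⟨m, rfl⟩ : ∃ m, n = m + 1 := ⟨n - 1, by omega⟩
  have hm : Even m := by rwa [Nat.odd_add_one, Nat.not_odd_iff_even] at hodd
  set σ : Fin m ⊕ Unit ≃ Fin (m + 1) :=
    (Equiv.sumCongr (Equiv.refl _) finOneEquiv.symm).trans finSumFinEquiv with hσ
  haveI : Nontrivial (Fin m) := Fin.nontrivial_iff_two_le.mpr (by omega)
  haveI : Fact (Nat.Prime 2) := ⟨Nat.prime_two⟩
  have h2 : (2 : F) ≠ 0 := by
    intro h
    haveI : CharP F 2 := (CharP.charP_iff_prime_eq_zero Nat.prime_two).mpr h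
    obtain ⟨k, hk⟩ := FiniteField.card F 2
    obtain ⟨-, hk'⟩ := hk
    rw [hk'] at hF
    exact (Nat.not_even_iff_odd.mpr hF) ((even_two).pow_of_ne_zero k.pos.ne')
  have htM : (t : Matrix (Fin (m + 1)) (Fin (m + 1)) F) = Cfsg.Agent.Components.BlockSL.tMat σ := by
    rw [ht]
    ext x y
    obtain ⟨x', rfl⟩ := σ.surjective x
    obtain ⟨y', rfl⟩ := σ.surjective y
    show Matrix.diagonal _ (σ x') (σ y') =
      Matrix.fromBlocks (-1 : Matrix (Fin m) (Fin m) F) 0 0 (1 : Matrix Unit Unit F)
        (σ.symm (σ x')) (σ.symm (σ y'))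
    rw [σ.symm_apply_apply, σ.symm_apply_apply]
    by_cases hxy : x' = y'
    · subst hxy
      rcases x' with a | u
      · have : ((σ (Sum.inl a) : Fin (m + 1)) : ℕ) = a := by simp [hσ]
        simp only [Matrix.diagonal_apply_eq, Matrix.fromBlocks_apply₁₁, Matrix.neg_apply, Matrix.one_apply_eq]
        rw [if_neg (by have := a.isLt; omega)]
      · have : ((σ (Sum.inr u) : Fin (m + 1)) : ℕ) = m := by simp [hσ]
        simp only [Matrix.diagonal_apply_eq, Matrix.fromBlocks_apply₂₂, Matrix.one_apply_eq]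
        rw [if_pos (by omega)]
    · rw [Matrix.diagonal_apply_ne _ (σ.injective.ne hxy)]
      rcases x' with a | u <;> rcases y' with b | v
      · simp only [Matrix.fromBlocks_apply₁₁, Matrix.neg_apply]
        rw [Matrix.one_apply_ne (fun h => hxy (congrArg Sum.inl h)), neg_zero]
      · simp
      · simp
      · exact absurd rfl hxy
  set C := Subgroup.centralizer ({t} : Set (Matrix.SpecialLinearGroup (Fin (m + 1)) F)) with hC
  set L := (Cfsg.Agent.Components.BlockSL.phiSL (F := F) σ).range with hL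
  have hle : L ≤ C := Cfsg.Agent.Components.BlockSL.phiSL_le_centralizer σ t htM
  have hCn : C ≤ Subgroup.normalizer (L : Set (Matrix.SpecialLinearGroup (Fin (m + 1)) F)) :=
    Cfsg.Agent.Components.BlockSL.centralizer_le_normalizer_SL σ h2 t htM
  have hq : Cfsg.IsQuasisimple L := Cfsg.Agent.Components.Basic.quasisimple_of_mulEquiv
    (MonoidHom.ofInjective (Cfsg.Agent.Components.BlockSL.phiSL_injective σ))
    (Cfsg.Agent.Components.BlockSL.isQuasisimple_SL m (by omega) (fun h => by omega))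
  have hcomp : Cfsg.IsComponent (L.subgroupOf C) :=
    ⟨(Subgroup.normal_subgroupOf_of_le_normalizer hCn).isSubnormal,
      Cfsg.Agent.Components.Basic.quasisimple_of_mulEquiv (Subgroup.subgroupOfEquivOfLe hle).symm hq⟩
  -- the centralizer of `L`
  have hscal : ∀ u ∈ Subgroup.centralizer (L : Set (Matrix.SpecialLinearGroup (Fin (m + 1)) F)), ∃ x y : F,
      x ^ m * y = 1 ∧ (u : Matrix (Fin (m + 1)) (Fin (m + 1)) F) =
        Matrix.reindexAlgEquiv F F σ (Matrix.fromBlocks (x • 1) 0 0 (y • 1)) := by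
    intro u hu
    obtain ⟨x, y, hxy⟩ := Cfsg.Agent.Components.BlockSL.exists_scalar_of_comm σ
      (M := (u : Matrix (Fin (m + 1)) (Fin (m + 1)) F)) (fun A =>
        congrArg (fun w : (Matrix.SpecialLinearGroup (Fin (m + 1)) F) => (w : Matrix (Fin (m + 1)) (Fin (m + 1)) F))
          (Subgroup.mem_centralizer_iff.mp hu _ ⟨A, rfl⟩).symm)
    refine ⟨x, y, ?_, hxy⟩
    have hd := u.2
    rw [show (u.1 : Matrix (Fin (m + 1)) (Fin (m + 1)) F) = _ from hxy, Matrix.det_reindexAlgEquiv,
      Matrix.det_fromBlocks_zero₂₁, Matrix.det_smul, Matrix.det_smul] at hd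
    simpa using hd
  have hab : ∀ u ∈ Subgroup.centralizer (L : Set (Matrix.SpecialLinearGroup (Fin (m + 1)) F)), ∀ v ∈ Subgroup.centralizer (L : Set (Matrix.SpecialLinearGroup (Fin (m + 1)) F)), u * v = v * u := by
    intro u hu v hv
    obtain ⟨x, y, -, hxy⟩ := hscal u hu
    obtain ⟨x', y', -, hxy'⟩ := hscal v hv
    refine Subtype.ext ?_
    show (u : Matrix (Fin (m + 1)) (Fin (m + 1)) F) * v = (v : Matrix (Fin (m + 1)) (Fin (m + 1)) F) * u
    rw [hxy, hxy', ← map_mul, ← map_mul, Matrix.fromBlocks_multiply, Matrix.fromBlocks_multiply]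
    simp [smul_smul, mul_comm]
  have hinv : ∀ u ∈ Subgroup.centralizer (L : Set (Matrix.SpecialLinearGroup (Fin (m + 1)) F)), orderOf u = 2 → u = t := by
    intro u hu ho
    obtain ⟨x, y, hdet, hxy⟩ := hscal u hu
    have hu2 : (u : Matrix (Fin (m + 1)) (Fin (m + 1)) F) * u = 1 :=
      congrArg (fun w : (Matrix.SpecialLinearGroup (Fin (m + 1)) F) => (w : Matrix (Fin (m + 1)) (Fin (m + 1)) F))
        ((by rw [← pow_two, ← ho]; exact pow_orderOf_eq_one u) : u * u = 1)
    rw [hxy, ← map_mul, Matrix.fromBlocks_multiply, ← map_one (Matrix.reindexAlgEquiv F F σ),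
      ← Matrix.fromBlocks_one] at hu2
    obtain ⟨e1, -, -, e2⟩ := Matrix.fromBlocks_inj.mp ((Matrix.reindexAlgEquiv F F σ).injective hu2)
    have hx := congrFun (congrFun e1 ⟨0, by omega⟩) ⟨0, by omega⟩
    simp [smul_smul] at hx
    have hy1 : y = 1 := by
      rcases mul_self_eq_one_iff.mp hx with h | h <;> rw [h] at hdet
      · simpa using hdet
      · rwa [hm.neg_one_pow, one_mul] at hdet
    subst hy1
    rcases mul_self_eq_one_iff.mp hx with h | h <;> subst h
    · exfalso
      have : u = 1 := Subtype.ext (by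
        rw [show (u.1 : Matrix (Fin (m + 1)) (Fin (m + 1)) F) = _ from hxy]; simp [Matrix.fromBlocks_one])
      rw [this, orderOf_one] at ho
      omega
    · refine Subtype.ext ?_
      rw [show (u.1 : Matrix (Fin (m + 1)) (Fin (m + 1)) F) = _ from hxy,
        show (t.1 : Matrix (Fin (m + 1)) (Fin (m + 1)) F) = _ from htM, Cfsg.Agent.Components.BlockSL.tMat]
      simp
  have htC : t ∈ Subgroup.centralizer (L : Set (Matrix.SpecialLinearGroup (Fin (m + 1)) F)) := Subgroup.mem_centralizer_iff.mpr fun l hl =>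
    Subgroup.mem_centralizer_singleton_iff.mp (hle hl)
  have hto : orderOf t = 2 := by
    refine orderOf_eq_prime (Subtype.ext ?_) fun h => ?_
    · show ((t ^ 2 : (Matrix.SpecialLinearGroup (Fin (m + 1)) F)) : Matrix (Fin (m + 1)) (Fin (m + 1)) F) = 1
      rw [Matrix.SpecialLinearGroup.coe_pow, pow_two, htM]
      exact Cfsg.Agent.Components.BlockSL.tMat_sq σ
    · exact Cfsg.Agent.Components.BlockSL.tMat_ne_one σ h2 (htM.symm.trans (congrArg Subtype.val h))
  have hnab : ¬ (L ≤ Subgroup.centralizer (L : Set (Matrix.SpecialLinearGroup (Fin (m + 1)) F))) := by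
    intro h
    have h1 : Subgroup.center ↥L = ⊤ := by
      rw [eq_top_iff]
      intro a _
      rw [Subgroup.mem_center_iff]
      intro b
      exact Subtype.ext (Subgroup.mem_centralizer_iff.mp (h a.2) b.1 b.2)
    exact Cfsg.Agent.Components.Basic.quasisimple_center_ne_top hq h1
  -- the layer
  have hlayer : (Cfsg.layer ↥C).map C.subtype = L := by
    refine le_antisymm ?_ ?_
    · rw [Subgroup.map_le_iff_le_comap]
      refine Cfsg.Agent.Components.Basic.layer_le fun K hK => ?_
      by_cases hne : K = L.subgroupOf C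
      · exact hne.le
      exfalso
      have h0 := Cfsg.Agent.Components.Basic.component_commutator_eq_bot_of_ne hK hcomp hne
      rw [Subgroup.commutator_eq_bot_iff_le_centralizer] at h0
      have hKc : ∀ k ∈ K, (k : (Matrix.SpecialLinearGroup (Fin (m + 1)) F)) ∈ Subgroup.centralizer (L : Set (Matrix.SpecialLinearGroup (Fin (m + 1)) F)) := fun k hk =>
        Subgroup.mem_centralizer_iff.mpr fun l hl =>
          congrArg Subtype.val (Subgroup.mem_centralizer_iff.mp (h0 hk) ⟨l, hle hl⟩ hl)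
      have h1 : ⁅K, K⁆ = ⊥ := by
        rw [Subgroup.commutator_eq_bot_iff_le_centralizer]
        intro a ha
        rw [Subgroup.mem_centralizer_iff]
        intro b hb
        exact Subtype.ext (hab _ (hKc b hb) _ (hKc a ha))
      exact Cfsg.Agent.Components.Basic.component_ne_bot hK
        (Cfsg.Agent.Components.Basic.component_commutator_self hK ▸ h1)
    · calc L = (L.subgroupOf C).map C.subtype := (Subgroup.map_subgroupOf_eq_of_le hle).symm
        _ ≤ _ := Subgroup.map_mono (Cfsg.Agent.Components.Basic.le_layer hcomp)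
  show Cfsg.IsStandardSubgroup ((Cfsg.layer ↥C).map C.subtype)
  rw [hlayer]
  have hNC : Subgroup.normalizer (L : Set (Matrix.SpecialLinearGroup (Fin (m + 1)) F)) ≤
      Subgroup.normalizer (Subgroup.centralizer (L : Set (Matrix.SpecialLinearGroup (Fin (m + 1)) F)) : Set (Matrix.SpecialLinearGroup (Fin (m + 1)) F)) := by
    refine Subgroup.le_normalizer_iff.mpr fun g hg c hc => ?_
    rw [Subgroup.mem_centralizer_iff]
    intro l hl
    have hl' : g⁻¹ * l * g ∈ L := (Subgroup.mem_normalizer_iff''.mp hg l).mp hl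
    calc l * (g * c * g⁻¹) = g * ((g⁻¹ * l * g) * c) * g⁻¹ := by group
      _ = g * (c * (g⁻¹ * l * g)) * g⁻¹ := by rw [Subgroup.mem_centralizer_iff.mp hc _ hl']
      _ = g * c * g⁻¹ * l := by group
  have hfix : ∀ g : (Matrix.SpecialLinearGroup (Fin (m + 1)) F), g * t * g⁻¹ = t → g ∈ Subgroup.normalizer (L : Set (Matrix.SpecialLinearGroup (Fin (m + 1)) F)) := fun g h =>
    hCn (Subgroup.mem_centralizer_singleton_iff.mpr (mul_inv_eq_iff_eq_mul.mp h))
  refine ⟨hq, ⟨?_, fun g hg => ?_⟩, fun g _ h => ?_, le_antisymm hNC fun g hg => ?_⟩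
  · exact even_iff_two_dvd.mpr (hto ▸ Subgroup.orderOf_dvd_natCard _ htC)
  · by_contra hev
    rw [Nat.not_odd_iff_even, even_iff_two_dvd] at hev
    obtain ⟨⟨u, hu⟩, huo⟩ := exists_prime_orderOf_dvd_card' 2 hev
    rw [Subgroup.orderOf_mk] at huo
    obtain ⟨hu1, hu2⟩ := Subgroup.mem_inf.mp hu
    obtain ⟨c, hc, hcu⟩ := hu2
    have hut := hinv u hu1 huo
    have hco : orderOf c = 2 := by
      rw [← huo, ← hcu]
      exact ((MulAut.conj g).orderOf_eq c).symm
    have hct := hinv c hc hco
    refine hg (hNC (hfix g ?_))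
    rw [hct, hut] at hcu
    exact hcu
  · rw [Subgroup.commutator_eq_bot_iff_le_centralizer, Subgroup.le_centralizer_iff] at h
    refine hnab fun a ha => Subgroup.mem_centralizer_iff.mpr fun b hb => ?_
    have := hab _ (h ⟨a, ha, rfl⟩) _ (h ⟨b, hb, rfl⟩)
    exact ((MulAut.conj g).injective (by rw [map_mul, map_mul]; exact this)).symm
  · refine hfix g (hinv _ ((Subgroup.mem_normalizer_iff.mp hg t).mp htC) ?_)
    rw [← hto]
    exact (MulAut.conj g).orderOf_eq t

end Cfsg.Agent.S1348
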