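import Cfsg.Statements.S1349
import Cfsg.Agent.Lib.Components.ThompsonDihedral
import Cfsg.Agent.Lib.Components.Fitting

set_option autoImplicit false
open Cfsg

namespace Cfsg.Agent.S1349

open Cfsg.Agent.Components Subgroup in
open scoped Pointwise in

/-- Let G be finite, L ≤ G solvable of odd order, and A an elementary abelian 2-subgroup of order 2^d (d ≥ 1) normalizing L with C_A(L) = 1. Then there are subgroups A_1, …, A_d of A of order 2 generating A and subgroups L_1, …, L_d of L such that each A_i ⊔ L_i is dihedral of order 2 n_i with n_i odd and at least 3, and A_i ⊔ L_i commutes elementwise with A_j ⊔ L_j for i ≠ j. -/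
theorem result {G : Type*} [Group G] [Finite G] (L A : Subgroup G) (hLs : Group.IsSolvable ↥L) (hLodd : Odd (Nat.card ↥L)) (hA : Cfsg.IsElementaryAbelian 2 A) (d : ℕ) (hd : 1 ≤ d) (hAd : Nat.card ↥A = 2 ^ d) (hAL : A ≤ Subgroup.normalizer (L : Set G)) (hfaith : A ⊓ Subgroup.centralizer (L : Set G) = ⊥) : ∃ (Ai : Fin d → Subgroup G) (Li : Fin d → Subgroup G) (n : Fin d → ℕ), (∀ i, Ai i ≤ A ∧ Nat.card ↥(Ai i) = 2 ∧ Li i ≤ L ∧ Odd (n i) ∧ 3 ≤ n i ∧ Nonempty (↥(Ai i ⊔ Li i) ≃* DihedralGroup (n i))) ∧ (⨆ i, Ai i) = A ∧ ∀ i j, i ≠ j → ∀ x ∈ Ai i ⊔ Li i, ∀ y ∈ Ai j ⊔ Li j, x * y = y * x := by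
  have _ := hd
  set F := (Cfsg.fittingSubgroup ↥L).map L.subtype with hF
  have hFL : F ≤ L := map_subtype_le _
  have hFn : Group.IsNilpotent F :=
    Cores.isNilpotent_map _ _ (Cores.fittingSubgroup_isNilpotent)
  have hFA : A ≤ normalizer (F : Set G) := fun a ha => by
    rw [mem_normalizer_iff]
    have key : ∀ b ∈ A, ∀ y ∈ F, b * y * b⁻¹ ∈ F := by
      intro b hb y hy
      have hmap : L.map (MulAut.conj b).toMonoidHom = L :=
        Coprime.conj_smul_eq_self_iff.mpr (hAL hb)
      let e : ↥L ≃* ↥L := ((MulAut.conj b).subgroupMap L).trans (MulEquiv.subgroupCongr hmap)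
      obtain ⟨z, hz, rfl⟩ := hy
      have h1 : e z ∈ Cfsg.fittingSubgroup ↥L := by
        rw [← Fitting.fitting_map_equiv e]
        exact ⟨z, hz, rfl⟩
      exact ⟨e z, h1, rfl⟩
    exact fun y => ⟨key a ha y, fun h => by simpa [mul_assoc] using key a⁻¹ (inv_mem ha) _ h⟩
  have hfF : A ⊓ centralizer (F : Set G) = ⊥ := by
    rw [eq_bot_iff, ← hfaith]
    exact fun a ha => ⟨ha.1, ThompsonDihedral.mem_centralizer_of_fitting hLs hLodd
      (by rw [← pow_two]; exact hA.2 a ha.1) (hAL ha.1) ha.2⟩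
  obtain ⟨a, x, h1, h2, h3⟩ := ThompsonDihedral.exists_pairs hA
    (hLodd.of_dvd_nat (card_dvd_of_le hFL)) hFn hFA hfF hAd
  refine ⟨fun i => zpowers (a i), fun i => zpowers (x i), fun i => orderOf (x i), fun i => ?_, h3,
    fun i j hij => ?_⟩
  · obtain ⟨ga, ga1, gx, gx1, gc⟩ := h1 i
    have hodd : Odd (orderOf (x i)) :=
      hLodd.of_dvd_nat (ThompsonDihedral.orderOf_dvd_natCard' (hFL gx))
    have hao : orderOf (a i) = 2 := orderOf_eq_prime (hA.2 _ ga) ga1
    have hax : a i ∉ zpowers (x i) := fun h => by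
      have h1 := ThompsonDihedral.orderOf_dvd_natCard' h
      rw [hao, Nat.card_zpowers] at h1
      exact Nat.not_even_iff_odd.mpr hodd (even_iff_two_dvd.mpr h1)
    have haa : a i * a i = 1 := by rw [← pow_two]; exact hA.2 _ ga
    refine ⟨zpowers_le.mpr ga, by rw [Nat.card_zpowers, hao], zpowers_le.mpr (hFL gx), hodd, ?_, ?_⟩
    · have h1 : orderOf (x i) ≠ 1 := fun h => gx1 (orderOf_eq_one_iff.mp h)
      obtain ⟨k, hk⟩ := hodd
      show 3 ≤ orderOf (x i)
      omega
    obtain ⟨f, hf, fx, fa⟩ := Cfsg.Agent.Classical.CyclicExt.exists_dihedral_hom (x i) (a i) rfl haa gc hax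
    have hn : zpowers (a i) ≤ normalizer (zpowers (x i) : Set G) :=
      zpowers_le.mpr (Coprime.conj_smul_eq_self_iff.mp (show (zpowers (x i)).map
        (MulAut.conj (a i)).toMonoidHom = zpowers (x i) by
          rw [MonoidHom.map_zpowers, MulEquiv.coe_toMonoidHom, MulAut.conj_apply, gc, zpowers_inv]))
    have hd' : Disjoint (zpowers (x i)) (zpowers (a i)) := Coprime.disjoint_of_coprime (by
      rw [Nat.card_zpowers, Nat.card_zpowers, hao]
      exact (Nat.coprime_two_right.mpr hodd))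
    have hcard := Coprime.card_sup_of_disjoint hn hd'
    rw [Nat.card_zpowers, Nat.card_zpowers, hao] at hcard
    have hr : zpowers (a i) ⊔ zpowers (x i) = f.range := by
      refine eq_of_le_of_card_ge (sup_le (zpowers_le.mpr fa) (zpowers_le.mpr fx)) ?_
      rw [sup_comm, hcard, ← Nat.card_congr (MonoidHom.ofInjective hf).toEquiv,
        DihedralGroup.nat_card]
      omega
    exact ⟨((MonoidHom.ofInjective hf).trans (MulEquiv.subgroupCongr hr.symm)).symm⟩
  · have cA : Commute (a i) (a j) := Hyperplane.mem_comm hA (h1 i).1 (h1 j).1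
    obtain ⟨c1, c2⟩ := h2 i j hij
    obtain ⟨c3, -⟩ := h2 j i (Ne.symm hij)
    have key : zpowers (a i) ⊔ zpowers (x i) ≤
        centralizer ((zpowers (a j) ⊔ zpowers (x j) : Subgroup G) : Set G) := by
      rw [le_centralizer_iff]
      refine sup_le (zpowers_le.mpr ?_) (zpowers_le.mpr ?_) <;>
      · rw [mem_centralizer_iff]
        intro z hz
        refine (mem_centralizer_singleton_iff.mp ((sup_le (zpowers_le.mpr ?_) (zpowers_le.mpr ?_) :
          zpowers (a i) ⊔ zpowers (x i) ≤ centralizer _) hz))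
        all_goals rw [mem_centralizer_singleton_iff]
        all_goals first | exact cA.eq | exact c1.eq | exact c2.eq | exact c3.symm.eq
    exact fun u hu v hv => (mem_centralizer_iff.mp (key hu) v hv).symm

end Cfsg.Agent.S1349
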