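import Cfsg.Statements.S1350
import Cfsg.Agent.OddLocal.SigmaCore
-- import your own Cfsg.Agent.* helpers here

set_option autoImplicit false
open Cfsg

namespace Cfsg.Agent.S1350

/-- Let G be a minimal simple group of odd order and M a maximal subgroup. Then M_σ (the largest normal σ(M)-subgroup of M) is a Hall σ(M)-subgroup of M and also of G, and every Hall σ(M)-subgroup of M that is normal in M equals M_σ. -/
theorem result {G : Type*} [Group G] [Finite G] (hG : Cfsg.IsMinSimpleOddOrder G)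
    (M : Subgroup G) (hM : IsCoatom M) :
    Cfsg.IsPiHallOf (Cfsg.sigma M) (Cfsg.sigmaCore M) M ∧ Cfsg.IsPiHall (Cfsg.sigma M) (Cfsg.sigmaCore M) ∧
      ∀ N : Subgroup G, M ≤ Subgroup.normalizer (N : Set G) → Cfsg.IsPiHallOf (Cfsg.sigma M) N M →
        N = Cfsg.sigmaCore M := by
  obtain ⟨h1, h2⟩ := OddLocal.Sigma.sigmaCore_hall hG hM
  refine ⟨h1, h2, fun N hN hNh => ?_⟩
  obtain ⟨hNM, hNp, hNi⟩ := hNh
  have hle : N ≤ sigmaCore M := OddLocal.Transitivity.le_piCoreOf_of_normal hNM hN hNp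
  refine le_antisymm hle (Subgroup.relIndex_eq_one.mp ?_)
  refine Nat.eq_one_iff_not_exists_prime_dvd.mpr fun q hq hd => ?_
  refine hNi q hq (h1.2.1 q hq (hd.trans (Subgroup.relIndex_dvd_card _ _))) ?_
  rw [← Subgroup.relIndex_mul_relIndex N (sigmaCore M) M hle h1.1]
  exact hd.mul_right _

end Cfsg.Agent.S1350
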