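import Cfsg.Statements.S1351
import Cfsg.Agent.OddLocal.PTypeCover
-- import your own Cfsg.Agent.* helpers here

set_option autoImplicit false
open Cfsg

namespace Cfsg.Agent.S1351

/-- Let G be a minimal simple group of odd order and M a maximal subgroup. Then M possesses a Hall κ(M)-subgroup, and every Hall κ(M)-subgroup of M is cyclic. -/
theorem result {G : Type*} [Group G] [Finite G] (hG : Cfsg.IsMinSimpleOddOrder G)
    (M : Subgroup G) (hM : IsCoatom M) :
    (∃ K : Subgroup G, Cfsg.IsPiHallOf (Cfsg.kappa M) K M) ∧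
      ∀ K : Subgroup G, Cfsg.IsPiHallOf (Cfsg.kappa M) K M → IsCyclic K := by
  refine ⟨?_, fun K hK => ?_⟩
  · obtain ⟨K, hK, -⟩ := OddLocal.PType.exists_hall_ge hG hM (π := Cfsg.kappa M) (V := ⊥) bot_le
      fun p hp hd => absurd (Nat.dvd_one.mp (by rwa [Subgroup.card_bot] at hd)) hp.ne_one
    exact ⟨K, hK⟩
  · rcases eq_or_ne K ⊥ with rfl | hK1
    · infer_instance
    · obtain ⟨H, h⟩ := OddLocal.PType.exists_pair hG hM hK hK1
      have := h.cyclic
      exact Subgroup.isCyclic_of_le (le_sup_left : K ≤ K ⊔ OddLocal.PType.star M K)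

end Cfsg.Agent.S1351
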