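import Cfsg.Statements.S1358
import Cfsg.Agent.OddLocal.KappaDecomp
-- import your own Cfsg.Agent.* helpers here

set_option autoImplicit false
open Cfsg

namespace Cfsg.Agent.S1358

/-- Let G be a minimal simple group of odd order and M a maximal subgroup with standard factorisation M = K U M_σ. Then for every prime p, every Sylow p-subgroup of U is abelian and has no elementary abelian subgroup of order p ^ 3. -/
theorem result {G : Type*} [Group G] [Finite G] (hG : Cfsg.IsMinSimpleOddOrder G)
    (M : Subgroup G) (hM : IsCoatom M) (K U : Subgroup G) (hKU : Cfsg.IsSigmaDecomposition M K U) :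
    ∀ (p : ℕ), p.Prime → ∀ P : Sylow p U, IsMulCommutative (P : Subgroup U) ∧ Cfsg.PRankLE p 2 (P : Subgroup U) := by
  intro p hp P
  have := Fact.mk hp
  set f : (P : Subgroup U) →* G := U.subtype.comp (P : Subgroup U).subtype with hf
  have hinj : Function.Injective f := U.subtype_injective.comp (P : Subgroup U).subtype_injective
  by_cases hd : p ∣ Nat.card U
  · have hσ := OddLocal.KappaDecomp.not_sigma_of_dvd hG hM hKU hp hd
    have hPM : (P : Subgroup U).map U.subtype ≤ M := (Subgroup.map_subtype_le _).trans hKU.compl.1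
    refine ⟨?_, ?_⟩
    · have hN : IsPGroup p ((P : Subgroup U).map U.subtype) := P.isPGroup'.map _
      have := OddLocal.SigmaCompl.nilpotent_comm hG hM hPM hN.isNilpotent fun r hr hrd => by
        obtain ⟨n, hn⟩ := hN.exists_card_eq
        rw [hn] at hrd
        exact ((Nat.prime_dvd_prime_iff_eq hr hp).mp (hr.dvd_of_dvd_pow hrd)) ▸ hσ
      exact ⟨⟨fun a b => hinj (by
        rw [map_mul, map_mul]
        exact congrArg Subtype.val (this.is_comm.comm
          (⟨f a, ⟨_, a.2, rfl⟩⟩ : (P : Subgroup U).map U.subtype) ⟨f b, ⟨_, b.2, rfl⟩⟩))⟩⟩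
    · intro A _ hA
      have hAM : A.map f ≤ M := by
        rintro _ ⟨a, -, rfl⟩
        exact hPM ⟨_, a.2, rfl⟩
      rw [← Subgroup.card_map_of_injective (f := f) hinj (K := A),
        ← Nat.card_congr (Subgroup.subgroupOfEquivOfLe hAM).toEquiv]
      refine OddLocal.SigmaCompl.rank_le hG hM hp hσ _ ⟨⟨fun a b => Subtype.ext (Subtype.ext ?_)⟩⟩ fun a ha => Subtype.ext ?_
      · obtain ⟨x, -, hx⟩ := Subgroup.mem_subgroupOf.mp a.2
        obtain ⟨y, -, hy⟩ := Subgroup.mem_subgroupOf.mp b.2
        show ((a : M) : G) * ((b : M) : G) = ((b : M) : G) * ((a : M) : G)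
        have := OddLocal.SigmaCompl.nilpotent_comm hG hM hPM ((P.isPGroup'.map U.subtype).isNilpotent)
          fun r hr hrd => by
            obtain ⟨n, hn⟩ := (P.isPGroup'.map U.subtype).exists_card_eq
            rw [hn] at hrd
            exact ((Nat.prime_dvd_prime_iff_eq hr hp).mp (hr.dvd_of_dvd_pow hrd)) ▸ hσ
        rw [← hx, ← hy]
        exact congrArg Subtype.val (this.is_comm.comm
          (⟨f x, ⟨_, x.2, rfl⟩⟩ : (P : Subgroup U).map U.subtype) ⟨f y, ⟨_, y.2, rfl⟩⟩)
      · obtain ⟨x, hx, hxe⟩ := Subgroup.mem_subgroupOf.mp ha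
        show (a : G) ^ p = 1
        rw [← hxe, ← map_pow, hA x hx, map_one]
  · have hP : (P : Subgroup U) = ⊥ := by
      rw [← Subgroup.card_eq_one]
      obtain ⟨n, hn⟩ := P.isPGroup'.exists_card_eq
      rcases n with - | n
      · rw [hn, pow_zero]
      · exact absurd ((Dvd.intro_left _ (pow_succ p n).symm).trans (hn ▸ Subgroup.card_subgroup_dvd_card _)) hd
    have : Subsingleton (P : Subgroup U) := by rw [hP]; infer_instance
    exact ⟨⟨⟨fun a b => Subsingleton.elim _ _⟩⟩, fun A _ _ =>
      (Nat.card_of_subsingleton (1 : A)).le.trans (Nat.one_le_pow _ _ hp.pos)⟩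

end Cfsg.Agent.S1358
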