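import Cfsg.Statements.S1369
import Cfsg.Agent.OddLocal.PTypeCover
-- import your own Cfsg.Agent.* helpers here

set_option autoImplicit false
open Cfsg

namespace Cfsg.Agent.S1369

/-- Let G be a minimal simple group of odd order, M a maximal subgroup with standard factorisation M = K U M_σ, K ≠ 1, K* = M_σ ∩ C_G(K), and M* a maximal subgroup with K = M*_σ ∩ C_G(K*) and K* a Hall κ(M*)-subgroup of M*. Then either U ≠ 1 or every K*-invariant complement of K* M*_σ in M* is nontrivial; and every maximal subgroup H of G with κ(H) nonempty is conjugate to M or to M*. -/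
theorem result {G : Type*} [Group G] [Finite G] (hG : Cfsg.IsMinSimpleOddOrder G)
    (M : Subgroup G) (hM : IsCoatom M) (K U : Subgroup G) (hKU : Cfsg.IsSigmaDecomposition M K U) (hK1 : K ≠ ⊥) (Mstar : Subgroup G) (hMstar : IsCoatom Mstar)
    (hKst : K = Cfsg.sigmaCore Mstar ⊓ Subgroup.centralizer ((Cfsg.sigmaCore M ⊓ Subgroup.centralizer (K : Set G)) : Set G))
    (hKstH : Cfsg.IsPiHallOf (Cfsg.kappa Mstar) (Cfsg.sigmaCore M ⊓ Subgroup.centralizer (K : Set G)) Mstar) :
    (U ≠ ⊥ ∨ ∀ Ustar : Subgroup G, Cfsg.IsSigmaDecomposition Mstar (Cfsg.sigmaCore M ⊓ Subgroup.centralizer (K : Set G)) Ustar → Ustar ≠ ⊥) ∧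
      ∀ H : Subgroup G, IsCoatom H → (Cfsg.kappa H).Nonempty →
        ∃ g : G, H = M.map (MulAut.conj g).toMonoidHom ∨ H = Mstar.map (MulAut.conj g).toMonoidHom := by
  have h := OddLocal.PType.pair_of_partner hG hM hKU hK1 hMstar hKst
  refine ⟨?_, fun H hH hκ => ?_⟩
  · rcases h.p2 with ⟨hP, -⟩ | ⟨hP, -⟩
    · exact Or.inl ((OddLocal.PType.notP1_iff hG hM hKU).mp hP)
    · exact Or.inr fun Ustar hU => (OddLocal.PType.notP1_iff hG hMstar hU).mp hP
  · obtain ⟨K', hK', -⟩ := OddLocal.PType.exists_hall_ge hG hH (π := Cfsg.kappa H) (V := ⊥) bot_le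
      fun p hp hd => absurd (Nat.dvd_one.mp (by rwa [Subgroup.card_bot] at hd)) hp.ne_one
    have hK'1 : K' ≠ ⊥ := by
      rintro rfl
      obtain ⟨p, hp⟩ := hκ
      exact hK'.2.2 p hp.1 hp (by rw [Subgroup.relIndex_bot_left]; exact hp.2.1)
    obtain ⟨H', h'⟩ := OddLocal.PType.exists_pair hG hH hK' hK'1
    exact h.conj_cases hG h'

end Cfsg.Agent.S1369
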