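import Cfsg.Statements.S1385
import Cfsg.Agent.OddChar.TypeOne.Gap.Structure
-- import your own Cfsg.Agent.* helpers here

set_option autoImplicit false
open Cfsg

namespace Cfsg.Agent.S1385

/-- Let G be a minimal simple group of odd order. Then either every maximal subgroup of G is of Type I, or there are nontrivial subgroups W₁, W₂ generating a cyclic group W that is the normalizer of every nonempty subset of W outside W₁ ∪ W₂, and maximal subgroups S, T with W₁ a complement to S' in S, W₂ a complement to T' in T, S ∩ T = W, S or T of Type II, each of S, T of Type II, III, IV or V, and every maximal subgroup of G of Type I or conjugate to S or to T. -/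
theorem result {G : Type*} [Group G] [Finite G] (hG : Cfsg.IsMinSimpleOddOrder G) :
    (∀ M : Subgroup G, IsCoatom M → Cfsg.IsOfTypeI M) ∨
      ∃ W₁ W₂ S T : Subgroup G, Cfsg.IsSelfNormalizingCyclic W₁ W₂ ∧ IsCoatom S ∧ IsCoatom T ∧
        Cfsg.IsComplIn ⁅S, S⁆ W₁ S ∧ Cfsg.IsComplIn ⁅T, T⁆ W₂ T ∧ S ⊓ T = W₁ ⊔ W₂ ∧
        (Cfsg.IsOfTypeII S ∨ Cfsg.IsOfTypeII T) ∧
        (Cfsg.IsOfTypeII S ∨ Cfsg.IsOfTypeIII S ∨ Cfsg.IsOfTypeIV S ∨ Cfsg.IsOfTypeV S) ∧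
        (Cfsg.IsOfTypeII T ∨ Cfsg.IsOfTypeIII T ∨ Cfsg.IsOfTypeIV T ∨ Cfsg.IsOfTypeV T) ∧
        ∀ M : Subgroup G, IsCoatom M → Cfsg.IsOfTypeI M ∨ ∃ g : G, M = S.map (MulAut.conj g).toMonoidHom ∨ M = T.map (MulAut.conj g).toMonoidHom := by
  obtain ⟨M, hM, hκ⟩ := Cfsg.Agent.OddChar.TypeOne.Gap.exists_kappa hG
  obtain ⟨K, U, hKU⟩ := Cfsg.Agent.OddLocal.Fcore.exists_decomp hG hM
  have hK1 : K ≠ ⊥ := fun e => Set.not_nonempty_empty (Cfsg.Agent.OddChar.TypeOne.Gap.kappa_eq_empty hKU e ▸ hκ)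
  obtain ⟨H, h⟩ := Cfsg.Agent.OddLocal.PType.exists_pair_of_decomposition hG hM hKU hK1
  have := h.cyclic
  obtain ⟨V, hKV⟩ := Cfsg.Agent.OddLocal.KappaDecomp.exists_decomposition hG h.hH h.hKs
    (Subgroup.isCyclic_of_le (le_sup_right : Cfsg.Agent.OddLocal.PType.star M K ≤
      K ⊔ Cfsg.Agent.OddLocal.PType.star M K))
  have hS1 : Cfsg.Agent.OddLocal.PType.star M K ≠ ⊥ := h.star_ne_bot hG
  refine Or.inr ⟨K, Cfsg.Agent.OddLocal.PType.star M K, M, H,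
    Cfsg.Agent.OddLocal.Types.selfNormalizing hG hM hKU hK1, hM, h.hH,
    Cfsg.Agent.OddLocal.Types.compl_commutator hG hM hKU hK1,
    Cfsg.Agent.OddLocal.Types.compl_commutator hG h.hH hKV hS1, h.inter, ?_,
    Cfsg.Agent.OddChar.TypeOne.Gap.typeP_cases hG hM hKU hK1,
    Cfsg.Agent.OddChar.TypeOne.Gap.typeP_cases hG h.hH hKV hS1, fun N hN => ?_⟩
  · rcases h.p2 with ⟨hP, -⟩ | ⟨hP, -⟩
    · exact Or.inl (Cfsg.Agent.OddLocal.Types.typeII hG hM hKU hK1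
        ((Cfsg.Agent.OddLocal.PType.notP1_iff hG hM hKU).mp hP))
    · exact Or.inr (Cfsg.Agent.OddLocal.Types.typeII hG h.hH hKV hS1
        ((Cfsg.Agent.OddLocal.PType.notP1_iff hG h.hH hKV).mp hP))
  · rcases (Cfsg.kappa N).eq_empty_or_nonempty with hN0 | hN1
    · exact Or.inl (Cfsg.Agent.OddChar.TypeOne.Gap.typeI_of_kappa hG hN hN0)
    · obtain ⟨K', U', hKU'⟩ := Cfsg.Agent.OddLocal.Fcore.exists_decomp hG hN
      obtain ⟨H', h'⟩ := Cfsg.Agent.OddLocal.PType.exists_pair_of_decomposition hG hN hKU' (fun e =>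
        Set.not_nonempty_empty (Cfsg.Agent.OddChar.TypeOne.Gap.kappa_eq_empty hKU' e ▸ hN1))
      exact Or.inr (h.conj_cases hG h')

end Cfsg.Agent.S1385
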