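import Cfsg.Statements.S1386
import Cfsg.Agent.OddLocal.Basics

set_option autoImplicit false
open Cfsg

namespace Cfsg.Agent.S1386

/-- Let G be a finite group, W₁, W₂ subgroups forming a self-normalizing cyclic pair, S a subgroup with W₂ ≤ S and W₁ a complement to S' in S, and (W₁, U, W₂') type-P data for S. Then W₂' = W₂ (that is, C_{S'}(W₁) = W₂). -/
theorem result {G : Type*} [Group G] [Finite G] (W₁ W₂ S U W₂' : Subgroup G) (hW : Cfsg.IsSelfNormalizingCyclic W₁ W₂)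
    (hSW : Cfsg.IsComplIn ⁅S, S⁆ W₁ S) (hW₂S : W₂ ≤ S) (hP : Cfsg.IsTypePWith S W₁ U W₂') :
    W₂' = W₂ := by
  set V := W₁ ⊔ W₂ with hV
  obtain ⟨hW₁, hW₂, hdisj, hcomm, hcyc, hnorm⟩ := hW
  obtain ⟨-, -, hd', hcomm', hcyc', -⟩ := hP.selfNormalizing
  obtain ⟨x, hx, hx1⟩ := (Subgroup.bot_or_exists_ne_one W₁).resolve_left hW₁
  obtain ⟨y, hy, hy1⟩ := (Subgroup.bot_or_exists_ne_one W₂).resolve_left hW₂
  obtain ⟨hS'S, hW₁S, -, hfac⟩ := hSW
  haveI : IsMulCommutative W₁ := hP.W₁_cyclic.isMulCommutative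
  -- W₂ lies in W₁ ⊔ W₂'
  have h1 : W₂ ≤ W₁ ⊔ W₂' := by
    intro w hw
    obtain ⟨a, ha, b, hb, hab⟩ := hfac w (hW₂S hw)
    have haW : a ∈ W₂' := by
      rw [← hP.W₂_centralizer x hx hx1]
      refine ⟨ha, Subgroup.mem_centralizer_singleton_iff.mpr ?_⟩
      have e1 : Commute x w := hcomm x hx w hw
      have e2 : Commute x b := Subgroup.mul_comm_of_mem_isMulCommutative W₁ hx hb
      have ha' : a = w * b⁻¹ := by rw [hab]; group
      rw [ha']
      exact (e1.mul_right e2.inv_right).symm.eq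
    rw [hab]
    exact mul_mem (Subgroup.mem_sup_right haW) (Subgroup.mem_sup_left hb)
  have hV' : W₁ ⊔ W₂ = W₁ ⊔ W₂' := by
    refine le_antisymm (sup_le le_sup_left h1) (sup_le le_sup_left ?_)
    intro c hc
    haveI : IsMulCommutative ↥(W₁ ⊔ W₂') := hcyc'.isMulCommutative
    have hxy : x * y ∈ W₁ ⊔ W₂' := mul_mem (Subgroup.mem_sup_left hx) (h1 hy)
    have hcc : Commute c (x * y) :=
      Subgroup.mul_comm_of_mem_isMulCommutative _ (Subgroup.mem_sup_right hc) hxy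
    have hmem : ({x * y} : Set G) ⊆ (↑(W₁ ⊔ W₂) : Set G) \ (↑W₁ ∪ ↑W₂) := by
      rintro z rfl
      refine ⟨Subgroup.mul_mem_sup hx hy, ?_⟩
      rintro (h | h)
      · exact hy1 (Subgroup.disjoint_def.mp (disjoint_iff.mpr hdisj)
          ((mul_mem_cancel_left hx).mp h) hy)
      · exact hx1 (Subgroup.disjoint_def.mp (disjoint_iff.mpr hdisj) hx
          ((mul_mem_cancel_right hy).mp h))
    rw [← hnorm _ hmem (Set.singleton_nonempty _), Subgroup.mem_normalizer_iff_conj_image_eq]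
    simp [hcc.eq]
  -- both are complements of W₁ in the same cyclic group
  have hcard : ∀ W₃ : Subgroup G, W₁ ⊓ W₃ = ⊥ → (∀ a ∈ W₁, ∀ b ∈ W₃, a * b = b * a) →
      Nat.card ↥(W₁ ⊔ W₃) = Nat.card W₁ * Nat.card W₃ := by
    intro W₃ hd hc
    refine OddLocal.Basics.card_eq_of_isCompl' le_sup_left le_sup_right hd ?_
    intro m hm
    refine (OddLocal.Basics.mem_sup_of_normalizing ?_).mp hm
    refine le_trans ?_ (Subgroup.centralizer_le_normalizer (W₃ : Set G))
    intro a ha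
    rw [Subgroup.mem_centralizer_iff]
    exact fun b hb => (hc a ha b hb).symm
  have e1 := hcard W₂ hdisj hcomm
  have e2 := hcard W₂' hd' hcomm'
  rw [← hV'] at e2
  have e3 : Nat.card W₂ = Nat.card W₂' := Nat.eq_of_mul_eq_mul_left Nat.card_pos (e1.symm.trans e2)
  haveI := hcyc
  have h2 : W₂' ≤ V := by rw [hV, hV']; exact le_sup_right
  have h3 : W₂ ≤ V := le_sup_right
  have h4 : W₂'.subgroupOf V = W₂.subgroupOf V := by
    apply OddLocal.Basics.subgroup_eq_of_card_eq_of_isCyclic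
    rw [Nat.card_congr (Subgroup.subgroupOfEquivOfLe h2).toEquiv,
      Nat.card_congr (Subgroup.subgroupOfEquivOfLe h3).toEquiv, e3]
  rw [Subgroup.subgroupOf_inj, inf_eq_left.mpr h2, inf_eq_left.mpr h3] at h4
  exact h4

end Cfsg.Agent.S1386
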