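import Cfsg.Statements.S1389
import Cfsg.Agent.OddLocal.TypeClass
-- import your own Cfsg.Agent.* helpers here

set_option autoImplicit false
open Cfsg

namespace Cfsg.Agent.S1389

/-- Let G be a minimal simple group of odd order and M a maximal subgroup, and let M_s be M' if M is of Type III or IV and M_F otherwise. Then N_G(P) ≤ M for every nontrivial Sylow subgroup P of M_s, and both M_F and M_s have order coprime to their index in G. -/
theorem result {G : Type*} [Group G] [Finite G] (hG : Cfsg.IsMinSimpleOddOrder G)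
    (M : Subgroup G) (hM : IsCoatom M) :
    (∀ (p : ℕ), p.Prime → ∀ (P : Sylow p ↥(Cfsg.typeCore M)), (P : Subgroup ↥(Cfsg.typeCore M)) ≠ ⊥ →
        Subgroup.normalizer ((((P : Subgroup ↥(Cfsg.typeCore M)).map (Cfsg.typeCore M).subtype : Subgroup G)) : Set G) ≤ M) ∧
      (Nat.card (Cfsg.fittingHallOf M)).Coprime (Cfsg.fittingHallOf M).index ∧
      (Nat.card (Cfsg.typeCore M)).Coprime (Cfsg.typeCore M).index := by
  rw [OddLocal.Types.typeCore_eq hG hM]
  refine ⟨fun p hp P hP => ?_, ?_, ?_⟩
  · have := Fact.mk hp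
    have hd : p ∣ Nat.card (sigmaCore M) := by
      obtain ⟨n, hn⟩ := IsPGroup.iff_card.mp P.isPGroup'
      rcases Nat.eq_zero_or_pos n with rfl | hn0
      · exact absurd (Subgroup.card_eq_one.mp (by simpa using hn)) hP
      · exact (dvd_pow_self p hn0.ne').trans (hn ▸ Subgroup.card_subgroup_dvd_card _)
    exact OddLocal.Types.normalizer_sylow_le hG hM le_rfl hd (by rw [Subgroup.relIndex_self]; exact hp.not_dvd_one) P
  · have hle := OddLocal.SigmaParts.fittingHallOf_le_sigmaCore hG hM
    rw [← Subgroup.relIndex_mul_index hle]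
    refine Nat.Coprime.mul_right ?_ (Nat.coprime_of_dvd fun p hp h1 h2 => ?_)
    · refine (OddLocal.FittingStructure.fittingHallOf_hall M).coprime_dvd_right ?_
      rw [← Subgroup.relIndex_mul_relIndex _ _ M hle (OddLocal.Sigma.sigmaCore_le M)]
      exact dvd_mul_right _ _
    · exact (OddLocal.Sigma.sigmaCore_hall hG hM).2.2 p hp
        ((OddLocal.Sigma.sigmaCore_hall hG hM).2.1 p hp (h1.trans (Subgroup.card_dvd_of_le hle))) h2
  · exact Nat.coprime_of_dvd fun p hp h1 h2 => (OddLocal.Sigma.sigmaCore_hall hG hM).2.2 p hp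
      ((OddLocal.Sigma.sigmaCore_hall hG hM).2.1 p hp h1) h2

end Cfsg.Agent.S1389
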