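import Cfsg.Statements.S1391
import Cfsg.Agent.OddChar.TypeOne.Gap.Tame
-- import your own Cfsg.Agent.* helpers here

set_option autoImplicit false
open Cfsg

namespace Cfsg.Agent.S1391

/-- Let G be a minimal simple group of odd order, M a maximal subgroup, X = A(M) or A₀(M), and D the set of x ∈ X with C_G(x) not contained in M. Then two elements of X conjugate in G are conjugate in M; D ⊆ A₁(M) and for x ∈ D the centralizer C_G(x) lies in exactly one maximal subgroup; and for x ∈ D and the maximal subgroup L containing C_G(x): M ∩ L complements L_F in L, C_M(x) complements the normal subgroup C_{L_F}(x) of C_G(x), the order of L_F is coprime to that of C_M(y) for every y ∈ X, x ∈ A(L) but x ∉ A₁(L), L is of Type I or II, and if L is of Type II then M is a Frobenius group with kernel M_F. -/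
theorem result {G : Type*} [Group G] [Finite G] (hG : Cfsg.IsMinSimpleOddOrder G)
    (M : Subgroup G) (hM : IsCoatom M) (X : Set G) (hX : X = Cfsg.typeA M ∨ X = Cfsg.typeA0 M) :
    (∀ x ∈ X, ∀ g : G, g * x * g⁻¹ ∈ X → ∃ m ∈ M, m * x * m⁻¹ = g * x * g⁻¹) ∧
      (∀ x ∈ X, ¬ Subgroup.centralizer ({x} : Set G) ≤ M → x ∈ Cfsg.typeA1 M ∧ ∃! L : Subgroup G, IsCoatom L ∧ Subgroup.centralizer ({x} : Set G) ≤ L) ∧
      ∀ x ∈ X, ¬ Subgroup.centralizer ({x} : Set G) ≤ M → ∀ L : Subgroup G, IsCoatom L → Subgroup.centralizer ({x} : Set G) ≤ L →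
        Cfsg.IsComplIn (Cfsg.fittingHallOf L) (M ⊓ L) L ∧
        Subgroup.centralizer ({x} : Set G) ≤ Subgroup.normalizer ((Cfsg.fittingHallOf L ⊓ Subgroup.centralizer ({x} : Set G) : Subgroup G) : Set G) ∧
        Cfsg.IsComplIn (Cfsg.fittingHallOf L ⊓ Subgroup.centralizer ({x} : Set G)) (M ⊓ Subgroup.centralizer ({x} : Set G)) (Subgroup.centralizer ({x} : Set G)) ∧
        (∀ y ∈ X, (Nat.card (Cfsg.fittingHallOf L)).Coprime (Nat.card ↥(M ⊓ Subgroup.centralizer ({y} : Set G)))) ∧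
        (x ∈ Cfsg.typeA L ∧ x ∉ Cfsg.typeA1 L) ∧
        (Cfsg.IsOfTypeI L ∨ Cfsg.IsOfTypeII L) ∧
        (Cfsg.IsOfTypeII L → ∃ E : Subgroup ↥M, Cfsg.IsFrobeniusComplement E ∧ Cfsg.frobeniusKernel E = ((Cfsg.fittingHall ↥M : Subgroup ↥M) : Set ↥M)) := by
  obtain ⟨K, U, hKU⟩ := Cfsg.Agent.OddLocal.Fcore.exists_decomp hG hM
  obtain ⟨hsub, -, -⟩ := Cfsg.Agent.OddLocal.DadeSets.three_sets hG hM hKU X (Or.inr hX)
  have hfc : ∀ a ∈ X, _ := fun a ha =>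
    Cfsg.Agent.OddLocal.DadeSets.fusion_centralizer hG hM hKU (hsub a ha).1 (hsub a ha).2
  refine ⟨fun x hx g hg => (hfc x hx).1 g (hsub _ hg).1, fun x hx hxM => ?_, fun x hx hxM L hL hxL => ?_⟩
  · have hxσ := (hfc x hx).2 hxM
    obtain ⟨N, h⟩ := Cfsg.Agent.OddLocal.Signalizer.exists_sig hG hM hxσ (hsub x hx).2 hxM
    refine ⟨?_, N, ⟨h.hN, h.hC⟩, fun L hL => h.uniq L hL.1 hL.2⟩
    rw [Cfsg.typeA1, Cfsg.Agent.OddLocal.Types.typeCore_eq hG hM]
    exact ⟨hxσ, (hsub x hx).2⟩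
  have hxσ := (hfc x hx).2 hxM
  have hx1 := (hsub x hx).2
  obtain ⟨N, h⟩ := Cfsg.Agent.OddLocal.Signalizer.exists_sig hG hM hxσ hx1 hxM
  obtain rfl := h.uniq L hL hxL
  have hκ := Cfsg.Agent.OddChar.TypeOne.Gap.kappa_empty_of_not_le hG hM hxσ hx1 hxM
  obtain ⟨hII, hA, hA1⟩ := Cfsg.Agent.OddChar.TypeOne.Gap.support_typeII hG hM hxσ hx1 hxM h
  have hF := Cfsg.Agent.OddLocal.SigmaParts.sigmaCore_eq_fittingHallOf hG hL h.nil
  rw [← hF]
  refine ⟨Cfsg.Agent.OddChar.TypeOne.Gap.compl_symm h.compl, h.normal,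
    Cfsg.Agent.OddChar.TypeOne.Gap.compl_symm h.compl_centralizer, fun y hy => ?_, ⟨hA, hA1⟩, Or.inr hII,
    fun _ => ?_⟩
  · obtain ⟨⟨⟨hyM, z, hz, hz1, hyz⟩, -⟩, hy1⟩ := hsub y hy
    have hyσ := Cfsg.Agent.OddChar.TypeOne.Gap.frob hG hM hκ hyM hz hz1 hyz
    refine Nat.coprime_of_dvd fun r hr h1 h2 => ?_
    exact Cfsg.Agent.OddLocal.SigmaParts.not_sigma_of_ne hG hM hL h.hne
      (Cfsg.Agent.OddLocal.Transitivity.isPi_piCoreOf (Cfsg.sigma M) M r hr (h2.trans (Subgroup.card_dvd_of_le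
        (Cfsg.Agent.OddChar.TypeOne.Gap.inf_centralizer_le hG hM hκ hyσ hy1))))
      (Cfsg.Agent.OddLocal.Transitivity.isPi_piCoreOf (Cfsg.sigma L) L r hr h1)
  · obtain ⟨N', K', U', S', E, u, c⟩ := Cfsg.Agent.OddChar.TypeOne.Gap.exists_setting hG hM hxσ hx1 hxM
    exact ⟨E.subgroupOf M, Cfsg.Agent.OddChar.TypeOne.Gap.frobenius_setting c⟩

end Cfsg.Agent.S1391
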