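import Cfsg.Statements.S1394
import Cfsg.Agent.OddLocal.Transitivity
-- import your own Cfsg.Agent.* helpers here

set_option autoImplicit false
open Cfsg

namespace Cfsg.Agent.S1394

/-- Let G be a minimal simple group of odd order, A a subgroup satisfying the transitivity hypothesis whose centre has rank at least 2, K = O_{π(A)'}(C_G(A)), and q a prime dividing the order of C_G(A) but not that of A. Then any two maximal A-invariant q-subgroups of G are conjugate by an element of K. -/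
theorem result {G : Type*} [Group G] [Finite G] (hG : Cfsg.IsMinSimpleOddOrder G)
    (A : Subgroup G) (hA : Cfsg.TransitivityHypothesis A) (hZ : ¬ Cfsg.RankLE 1 ↥(A ⊓ Subgroup.centralizer (A : Set G)))
    (q : ℕ) (hq : q.Prime) (hqA : ¬ q ∣ Nat.card A) (hqC : q ∣ Nat.card (Subgroup.centralizer (A : Set G))) :
    ∀ Q₁ ∈ Cfsg.maxInvSubgroups ⊤ A {q}, ∀ Q₂ ∈ Cfsg.maxInvSubgroups ⊤ A {q}, ∃ k ∈ Cfsg.piCoreOf (Cfsg.primesNotDvd (Nat.card A)) (Subgroup.centralizer (A : Set G)), Q₂ = Q₁.map (MulAut.conj k).toMonoidHom := by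
  have := Fact.mk hq
  obtain ⟨p, B, hp, hBZ, hB, hBc⟩ := OddLocal.Transitivity.exists_elementary_of_not_rankLE hZ
  have := Fact.mk hp
  obtain ⟨x, hx⟩ := exists_prime_orderOf_dvd_card' (G := Subgroup.centralizer (A : Set G)) q hqC
  have hxq : IsPGroup q (Subgroup.zpowers (x : G)) :=
    IsPGroup.of_card (n := 1) (by rw [Nat.card_zpowers, Subgroup.orderOf_coe, hx, pow_one])
  obtain ⟨Q₃, h₃, hxQ₃⟩ := OddLocal.Transitivity.exists_max_ge
    (A := A) (q := q) (Y := Subgroup.zpowers (x : G))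
    (OddLocal.Transitivity.mem_invSubgroups_iff.mpr ⟨OddLocal.Transitivity.isPi_of_isPGroup hxq,
      fun a ha => Subgroup.centralizer_le_normalizer _ (Subgroup.mem_centralizer_iff.mpr fun y hy => by
        obtain ⟨m, rfl⟩ := Subgroup.mem_zpowers_iff.mp hy
        exact ((show Commute a (x : G) from Subgroup.mem_centralizer_iff.mp x.2 a ha).zpow_right m).symm)⟩)
  have hx1 : (x : G) ≠ 1 := fun h => hq.ne_one (by
    rw [← hx, ← Subgroup.orderOf_coe, h, orderOf_one])
  have hne₃ : Q₃ ≠ ⊥ := fun h => hx1 (Subgroup.mem_bot.mp (h ▸ hxQ₃ (Subgroup.mem_zpowers _)))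
  have key : ∀ Q ∈ Cfsg.maxInvSubgroups ⊤ A {q}, OddLocal.Transitivity.Conjugate A Q Q₃ := by
    intro Q hQ
    have hne : Q ≠ ⊥ := fun h => hne₃ (OddLocal.Transitivity.eq_bot_of_max_bot hQ h₃ h)
    have hpA : p ∣ Nat.card A :=
      (hBc ▸ dvd_pow_self p (Nat.succ_ne_zero 1) : p ∣ Nat.card B).trans
        (Subgroup.card_dvd_of_le (hBZ.trans inf_le_left))
    have hpQ : ¬ p ∣ Nat.card Q := fun h => hqA (hQ.1.2.1 p hp h ▸ hpA)
    have := hB.1
    have hcop : (Nat.card B).Coprime (Nat.card Q) := by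
      rw [hBc]; exact (hp.coprime_iff_not_dvd.mpr hpQ).pow_left _
    have hgen := Coprime.fixedGen_eq (Components.Hyperplane.not_isCyclic hB hBc.ge)
      ((hBZ.trans inf_le_left).trans hQ.1.2.2) hcop
    obtain ⟨b, hb, hb1, hbne⟩ : ∃ b ∈ B, b ≠ 1 ∧ Q ⊓ Subgroup.centralizer {b} ≠ ⊥ := by
      by_contra hcon
      push Not at hcon
      refine hne (hgen.symm.trans (eq_bot_iff.mpr (iSup₂_le fun a ha => ?_)))
      rw [hcon a ha.1 ha.2]
    refine OddLocal.Transitivity.conjugate_of_meet hG hA hqA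
      (OddLocal.Transitivity.centralizer_ne_top hG (Set.mem_singleton b) hb1) ?_ hQ h₃ ?_ ?_
    · intro a ha
      exact Subgroup.mem_centralizer_singleton_iff.mpr
        (Subgroup.mem_centralizer_iff.mp (hBZ hb).2 a ha)
    · rwa [inf_comm]
    · intro hbot
      refine hx1 (Subgroup.mem_bot.mp (hbot ▸ ⟨?_, hxQ₃ (Subgroup.mem_zpowers _)⟩))
      exact Subgroup.mem_centralizer_singleton_iff.mpr
        (Subgroup.mem_centralizer_iff.mp x.2 b (hBZ hb).1).symm
  exact fun Q₁ h₁ Q₂ h₂ => (key Q₁ h₁).trans (key Q₂ h₂).symm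


end Cfsg.Agent.S1394
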