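import Cfsg.Statements.S1413
import Cfsg.Agent.OddLocal.SylowFusion
-- import your own Cfsg.Agent.* helpers here

set_option autoImplicit false
open Cfsg Subgroup Cfsg.Agent.Transfer.Fusion

namespace Cfsg.Agent.S1413

/-- Let G be a minimal simple group of odd order, p a prime and P a Sylow p-subgroup. (c) If Q ≤ P and xQx⁻¹ ≤ P then xQx⁻¹ = yQy⁻¹ for some y ∈ N_G(P). (d) For every Q ≤ P, p does not divide the index of N_P(Q) in N_G(Q). (e) If R is a p-subgroup and Q ≤ P ∩ R is normal in N_G(P), then Q is normal in N_G(R). -/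
theorem result {G : Type*} [Group G] [Finite G] (hG : Cfsg.IsMinSimpleOddOrder G) (p : ℕ) [Fact p.Prime] (P : Sylow p G) :
    (∀ (Q : Subgroup G) (x : G), Q ≤ (P : Subgroup G) → Q.map (MulAut.conj x).toMonoidHom ≤ (P : Subgroup G) →
        ∃ y ∈ Subgroup.normalizer ((P : Subgroup G) : Set G), Q.map (MulAut.conj x).toMonoidHom = Q.map (MulAut.conj y).toMonoidHom) ∧
      (∀ Q : Subgroup G, Q ≤ (P : Subgroup G) →
        ¬ p ∣ ((P : Subgroup G) ⊓ Subgroup.normalizer (Q : Set G)).relIndex (Subgroup.normalizer (Q : Set G))) ∧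
      (∀ (R Q : Subgroup G), IsPGroup p R → Q ≤ (P : Subgroup G) ⊓ R →
        Subgroup.normalizer ((P : Subgroup G) : Set G) ≤ Subgroup.normalizer (Q : Set G) →
        Subgroup.normalizer (R : Set G) ≤ Subgroup.normalizer (Q : Set G)) := by
  classical
  have hfus : ∀ (Q : Subgroup G) (x : G), Q ≤ (P : Subgroup G) →
      Q.map (MulAut.conj x).toMonoidHom ≤ (P : Subgroup G) → ∃ y ∈ Subgroup.normalizer ((P : Subgroup G) : Set G),
      Q.map (MulAut.conj x).toMonoidHom = Q.map (MulAut.conj y).toMonoidHom := by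
    intro Q x hQ hx
    obtain ⟨m, hm, c, hc, rfl⟩ := Cfsg.Agent.OddLocal.SylowFusion.conj_eq hG P hQ hx
    exact ⟨m, hm, by rw [map_conj_mul, map_conj_eq_self_iff.mpr (centralizer_le_normalizer _ hc)]⟩
  refine ⟨hfus, fun Q hQ hd => ?_, fun R Q hR hQ hNP n hn => ?_⟩
  · set L := Subgroup.normalizer (Q : Set G) with hL
    obtain ⟨T, hT⟩ := ((P.isPGroup'.to_le inf_le_left :
      IsPGroup p ((P : Subgroup G) ⊓ L : Subgroup G)).comap_subtype (K := L)).exists_le_sylow
    set T' := (T : Subgroup L).map L.subtype with hT'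
    have hQT : Q ≤ T' := fun q hq => ⟨⟨q, le_normalizer hq⟩, hT ⟨hQ hq, le_normalizer hq⟩, rfl⟩
    obtain ⟨R, hTR⟩ := (T.isPGroup'.map L.subtype).exists_le_sylow
    obtain ⟨g, hg⟩ := MulAction.exists_smul_eq G R P
    have hgT : T'.map (MulAut.conj g).toMonoidHom ≤ (P : Subgroup G) := by
      refine (map_mono hTR).trans ?_
      rw [← coe_smul_eq_map, hg]
    obtain ⟨y, hy, he⟩ := hfus Q g hQ ((map_mono hQT).trans hgT)
    have hyg : y⁻¹ * g ∈ L := by
      rw [hL, ← map_conj_eq_self_iff, map_conj_mul, he, map_conj_inv_cancel]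
    have hle : T'.map (MulAut.conj (y⁻¹ * g)).toMonoidHom ≤ (P : Subgroup G) ⊓ L := by
      refine le_inf ?_ ?_
      · rw [map_conj_mul, map_conj_le_iff, inv_inv, map_conj_eq_self_iff.mpr hy]
        exact hgT
      · rintro _ ⟨t, ht, rfl⟩
        exact mul_mem (mul_mem hyg (map_subtype_le _ ht)) (inv_mem hyg)
    have h1 := card_dvd_of_le hle
    rw [card_map_conj, hT', card_map_of_injective L.subtype_injective, T.card_eq_multiplicity] at h1
    have h2 := Subgroup.relIndex_mul_relIndex ⊥ ((P : Subgroup G) ⊓ L) L bot_le inf_le_right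
    rw [relIndex_bot_left, relIndex_bot_left] at h2
    exact Nat.pow_succ_factorization_not_dvd Nat.card_pos.ne' (Fact.out : p.Prime)
      ((pow_succ p _).symm ▸ (h2 ▸ Nat.mul_dvd_mul h1 hd))
  · have hQP : Q ≤ (P : Subgroup G) := hQ.trans inf_le_left
    have hwc : ∀ g : G, Q.map (MulAut.conj g).toMonoidHom ≤ (P : Subgroup G) →
        g ∈ Subgroup.normalizer (Q : Set G) := fun g hg => by
      obtain ⟨y, hy, he⟩ := hfus Q g hQP hg
      rw [← map_conj_eq_self_iff, he, map_conj_eq_self_iff.mpr (hNP hy)]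
    obtain ⟨S, hS⟩ := hR.exists_le_sylow
    obtain ⟨g, hg⟩ := MulAction.exists_smul_eq G S P
    have hgR : R.map (MulAut.conj g).toMonoidHom ≤ (P : Subgroup G) := by
      refine (map_mono hS).trans ?_
      rw [← coe_smul_eq_map, hg]
    have h1 := hwc g ((map_mono (hQ.trans inf_le_right)).trans hgR)
    have h2 := hwc (g * n) (by
      rw [map_conj_mul]
      refine (map_mono ?_).trans hgR
      exact (map_mono (hQ.trans inf_le_right)).trans (map_conj_eq_self_iff.mpr hn).le)
    simpa using mul_mem (inv_mem h1) h2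

end Cfsg.Agent.S1413
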