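import Cfsg.Statements.S1427
import Cfsg.Agent.OddLocal.PrimeActionMain
-- import your own Cfsg.Agent.* helpers here

set_option autoImplicit false
open Cfsg

namespace Cfsg.Agent.S1427

/-- Let G be a minimal simple group of odd order, M a maximal subgroup, E a complement to M_σ in M, and S a nontrivial cyclic Sylow subgroup of E (for some prime). Then M_σ ∩ C_G(x) = M_σ ∩ C_G(S) for every non-identity x ∈ S. -/
theorem result {G : Type*} [Group G] [Finite G] (hG : Cfsg.IsMinSimpleOddOrder G)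
    (M : Subgroup G) (hM : IsCoatom M) (E : Subgroup G) (hE : Cfsg.IsComplIn E (Cfsg.sigmaCore M) M) (p : ℕ) [Fact p.Prime] (S : Sylow p E) (hS1 : (S : Subgroup E) ≠ ⊥) (hSc : IsCyclic (S : Subgroup E)) :
    ∀ x ∈ (S : Subgroup E).map E.subtype, x ≠ 1 →
        Cfsg.sigmaCore M ⊓ Subgroup.centralizer ({x} : Set G) = Cfsg.sigmaCore M ⊓ Subgroup.centralizer (((S : Subgroup E).map E.subtype : Subgroup G) : Set G) := by
  have hp : p.Prime := Fact.out
  intro x hx hx1
  set S' := (S : Subgroup E).map E.subtype with hS'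
  have hS'E : S' ≤ E := Subgroup.map_subtype_le _
  have hS'p : IsPGroup p S' := S.isPGroup'.map _
  have hS'c : IsCyclic S' := isCyclic_of_surjective _
    ((S : Subgroup E).equivMapOfInjective E.subtype E.subtype_injective).surjective
  have hpE : p ∣ Nat.card E := by
    obtain ⟨n, hn⟩ := S.isPGroup'.exists_card_eq
    rcases n.eq_zero_or_pos with rfl | hn0
    · exact absurd (Subgroup.card_eq_one.mp (hn.trans (pow_zero p))) hS1
    · exact (hn ▸ dvd_pow_self p hn0.ne').trans (Subgroup.card_subgroup_dvd_card _)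
  have hpσ : p ∉ Cfsg.sigma M := OddLocal.Compl.not_sigma hG hM hE hp hpE
  have h1 : Cfsg.PRankLE p 1 M := by
    by_contra h2
    obtain ⟨A, hAE, h⟩ := OddLocal.SigmaCompl.exists_ctx hG hM hE
      ⟨hp, hpσ, OddLocal.SigmaCompl.rank_le hG hM hp hpσ, h2⟩
    obtain ⟨S₁, hAS⟩ := (h.hA.isPGroup.comap_subtype (K := E)).exists_le_sylow
    have : IsCyclic (S₁ : Subgroup E) := isCyclic_of_surjective _ (S.equiv S₁).surjective
    have hAc : IsCyclic (A.subgroupOf E) := isCyclic_of_injective (Subgroup.inclusion hAS)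
      (Subgroup.inclusion_injective hAS)
    exact h.hA.not_isCyclic (isCyclic_of_surjective _ (Subgroup.subgroupOfEquivOfLe hAE).surjective)
  obtain ⟨k, hk⟩ := hS'p ⟨x, hx⟩
  obtain ⟨j, -, hj⟩ := (Nat.dvd_prime_pow hp).mp
    (orderOf_dvd_of_pow_eq_one (congrArg Subtype.val hk : x ^ p ^ k = 1))
  have hj0 : j ≠ 0 := fun e => hx1 (orderOf_eq_one_iff.mp (by rw [hj, e, pow_zero]))
  set u := x ^ p ^ (j - 1) with hu
  have huo : orderOf u = p := by
    rw [hu, orderOf_pow' _ (pow_ne_zero _ hp.ne_zero), hj, Nat.gcd_eq_right (pow_dvd_pow p (Nat.sub_le j 1)),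
      Nat.pow_div (Nat.sub_le j 1) hp.pos, Nat.sub_sub_self (Nat.one_le_iff_ne_zero.mpr hj0), pow_one]
  have h := OddLocal.PrimeAction.le_centralizer_of_cyclic hG hM hpσ h1 (X := Subgroup.zpowers u)
    (by rw [Nat.card_zpowers, huo]) hS'p hS'c (Subgroup.zpowers_le.mpr (pow_mem hx _)) (hS'E.trans hE.1)
  refine le_antisymm (le_inf inf_le_left (le_trans (inf_le_inf_left _ ?_) h))
    (inf_le_inf_left _ (Subgroup.centralizer_le (Set.singleton_subset_iff.mpr hx)))
  rw [OddLocal.TauTwo.centralizer_zpowers u]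
  intro y hy
  exact Subgroup.mem_centralizer_singleton_iff.mpr
    ((show Commute y x from Subgroup.mem_centralizer_singleton_iff.mp hy).pow_right _).eq

end Cfsg.Agent.S1427
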