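import Cfsg.Statements.S1430
import Cfsg.Agent.OddLocal.KappaStructure
-- import your own Cfsg.Agent.* helpers here

set_option autoImplicit false
open Cfsg

namespace Cfsg.Agent.S1430

/-- Let G be a minimal simple group of odd order, M a maximal subgroup, K ≠ 1 a Hall κ(M)-subgroup of M and K* = M_σ ∩ C_G(K). Then M_σ ∩ C_G(k) = K* for every non-identity k ∈ K; there is an abelian subgroup U of M, a Hall subgroup of M for the primes outside κ(M) ∪ σ(M), normalized by K with U ∩ C_G(k) = 1 for all non-identity k ∈ K; and for every subgroup X ≤ K of prime order, M ∩ N_G(X) = M ∩ N_G(K) = K ⊔ K*, and X ≤ M*_σ for every maximal subgroup M* containing N_G(X). -/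
theorem result {G : Type*} [Group G] [Finite G] (hG : Cfsg.IsMinSimpleOddOrder G)
    (M : Subgroup G) (hM : IsCoatom M) (K : Subgroup G) (hK : Cfsg.IsPiHallOf (Cfsg.kappa M) K M) (hK1 : K ≠ ⊥) :
    (∀ k ∈ K, k ≠ 1 → Cfsg.sigmaCore M ⊓ Subgroup.centralizer ({k} : Set G) = (Cfsg.sigmaCore M ⊓ Subgroup.centralizer (K : Set G))) ∧
      (∃ U : Subgroup G, IsMulCommutative U ∧ Cfsg.IsPiHallOf {q | q.Prime ∧ q ∉ Cfsg.kappa M ∧ q ∉ Cfsg.sigma M} U M ∧
        K ≤ Subgroup.normalizer (U : Set G) ∧ ∀ k ∈ K, k ≠ 1 → U ⊓ Subgroup.centralizer ({k} : Set G) = ⊥) ∧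
      ∀ X : Subgroup G, X ≤ K → (Nat.card X).Prime →
        M ⊓ Subgroup.normalizer (X : Set G) = K ⊔ (Cfsg.sigmaCore M ⊓ Subgroup.centralizer (K : Set G)) ∧ M ⊓ Subgroup.normalizer (K : Set G) = K ⊔ (Cfsg.sigmaCore M ⊓ Subgroup.centralizer (K : Set G)) ∧
        ∀ Mstar : Subgroup G, IsCoatom Mstar → Subgroup.normalizer (X : Set G) ≤ Mstar → X ≤ Cfsg.sigmaCore Mstar := by
  obtain ⟨E, U, hd⟩ := OddLocal.KappaStructure.exists_data hG hM hK hK1
  refine ⟨hd.fixed, ⟨U, hd.hUc, ⟨hd.hUE.trans hd.hE.1, ?_, ?_⟩, hd.hKE.trans hd.hUn, hd.fpf⟩, ?_⟩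
  · exact fun t ht htU => ⟨ht, hd.hUκ t ht htU,
      OddLocal.Compl.not_sigma hG hM hd.hE ht (htU.trans (Subgroup.card_dvd_of_le hd.hUE))⟩
  · intro t ht ⟨_, htκ, htσ⟩ htd
    rw [← Subgroup.relIndex_mul_relIndex U E M hd.hUE hd.hE.1, OddLocal.Compl.relIndex_eq hd.hE] at htd
    rcases ht.dvd_mul.mp htd with h | h
    · refine htκ (hK.2.1 t ht (h.trans ?_))
      have h1 : E ≤ U ⊔ K := fun e he => by
        obtain ⟨a, ha, k, hk, rfl⟩ := hd.split e he
        exact mul_mem (Subgroup.mem_sup_left ha) (Subgroup.mem_sup_right hk)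
      have h2 : U.relIndex E * Nat.card U ∣ Nat.card U * Nat.card K := by
        rw [mul_comm (U.relIndex E),
          ← Subgroup.relIndex_bot_left U, Subgroup.relIndex_mul_relIndex ⊥ U E bot_le hd.hUE,
          Subgroup.relIndex_bot_left, Subgroup.relIndex_bot_left]
        exact (Subgroup.card_dvd_of_le h1).trans
          (OddLocal.RegularMain.card_sup_dvd (hd.hKE.trans hd.hUn))
      exact (Nat.mul_dvd_mul_iff_left Nat.card_pos).mp (mul_comm (U.relIndex E) _ ▸ h2)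
    · exact OddLocal.Compl.not_dvd_sigmaCore ht htσ h
  intro X hXK hX
  have := Fact.mk hX
  obtain ⟨a, ha, ha1, hap, hXa⟩ := OddLocal.PrimeAction.exists_zpowers_eq (X := X) (p := Nat.card X) rfl
  have hao : orderOf a = Nat.card X := orderOf_eq_prime hap ha1
  refine ⟨hXa ▸ hd.normalizer_line hG hM (hXK ha) hao, hd.normalizer_eq hG hM hK hK1,
    fun N hN hle => ?_⟩
  rw [← hXa] at hle ⊢
  have hκ : Nat.card X ∈ kappa M := hK.2.1 _ hX (Subgroup.card_dvd_of_le hXK)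
  obtain ⟨q, y, hq, hy, hyo, hay⟩ := OddLocal.KappaStructure.kappa_fixed hκ (hK.1 (hXK ha)) hao
  have := Fact.mk hq
  exact Subgroup.zpowers_le.mpr (OddLocal.KappaOver.over_sigma hG hM (hK.1 (hXK ha)) hao hκ.2.2.1
    (OddLocal.KappaStructure.rank_of_kappa hκ) hy hyo hay hN hle).2.2.2.2.1

end Cfsg.Agent.S1430
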