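import Cfsg.Statements.S1435
import Cfsg.Agent.OddLocal.PTypeU2
import Cfsg.Agent.OddLocal.FPFFitting
-- import your own Cfsg.Agent.* helpers here

set_option autoImplicit false
open Cfsg

namespace Cfsg.Agent.S1435

/-- Let G be a minimal simple group of odd order, M a maximal subgroup with standard factorisation M = K U M_σ, K ≠ 1, U ≠ 1, K* = M_σ ∩ C_G(K), M* a maximal subgroup with K = M*_σ ∩ C_G(K*) and K* a Hall κ(M*)-subgroup of M*, r a prime dividing the order of U, R a Sylow r-subgroup of U, and H a maximal subgroup containing N_G(R). Then κ(H) is empty, U ≤ H_σ, M ∩ H = U ⊔ K, H ∩ N_G(U) ⊄ M, K ≤ F(H ∩ M*), and H ∩ M* is a complement to H_σ in H. -/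
theorem result {G : Type*} [Group G] [Finite G] (hG : Cfsg.IsMinSimpleOddOrder G)
    (M : Subgroup G) (hM : IsCoatom M) (K U : Subgroup G) (hKU : Cfsg.IsSigmaDecomposition M K U) (hK1 : K ≠ ⊥) (hU1 : U ≠ ⊥) (Mstar : Subgroup G) (hMstar : IsCoatom Mstar)
    (hKst : K = Cfsg.sigmaCore Mstar ⊓ Subgroup.centralizer ((Cfsg.sigmaCore M ⊓ Subgroup.centralizer (K : Set G)) : Set G))
    (hKstH : Cfsg.IsPiHallOf (Cfsg.kappa Mstar) (Cfsg.sigmaCore M ⊓ Subgroup.centralizer (K : Set G)) Mstar)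
    (r : ℕ) [Fact r.Prime] (hr : r ∣ Nat.card U) (R : Sylow r U) (H : Subgroup G) (hH : IsCoatom H)
    (hNR : Subgroup.normalizer (((R : Subgroup U).map U.subtype : Subgroup G) : Set G) ≤ H) :
    Cfsg.kappa H = ∅ ∧ U ≤ Cfsg.sigmaCore H ∧ M ⊓ H = U ⊔ K ∧ ¬ H ⊓ Subgroup.normalizer (U : Set G) ≤ M ∧
      K ≤ Cfsg.fittingOf (H ⊓ Mstar) ∧ Cfsg.IsComplIn (H ⊓ Mstar) (Cfsg.sigmaCore H) H := by
  have h := OddLocal.PType.pair_of_partner hG hM hKU hK1 hMstar hKst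
  obtain ⟨u, P⟩ := OddLocal.PType.P2.exists_gen hG h hKU hU1
  obtain ⟨hHM, hpσ, huH, hκ, hUσ, hinter, hN⟩ := P.over hr hH hNR
  obtain ⟨E, B, hE, hES, huB, hBE, hEB, hBc⟩ := P.compl_le hH hHM hpσ huH
  have hEeq : H ⊓ Mstar = E := by
    refine le_antisymm (fun x hx => ?_) (le_inf hE.1 hES)
    obtain ⟨hxH, hxS⟩ := Subgroup.mem_inf.mp hx
    obtain ⟨e, he, s, hs, rfl⟩ := hE.2.2.2 x hxH
    have hsS : s ∈ Mstar := by
      have := mul_mem (inv_mem (hES he)) hxS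
      rwa [inv_mul_cancel_left] at this
    have hs1 : s ∈ Cfsg.sigmaCore H ⊓ Mstar := Subgroup.mem_inf.mpr ⟨hs, hsS⟩
    rw [P.core_inf_partner hH hHM hpσ huH, Subgroup.mem_bot] at hs1
    rwa [hs1, mul_one]
  refine ⟨hκ, hUσ, hinter, hN, ?_, hEeq.symm ▸ hE⟩
  rw [hEeq, ← P.hKu, Subgroup.zpowers_le]
  have : (B.subgroupOf E).Normal := Subgroup.normal_subgroupOf_iff_le_normalizer hBE |>.mpr hEB
  have hBn : Group.IsNilpotent (B.subgroupOf E) := by
    exact Cores.isNilpotent_subgroupOf (@CommGroup.isNilpotent B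
      { (inferInstance : Group B) with mul_comm := fun a b => hBc.is_comm.comm a b }) E
  exact ⟨⟨u, hBE huB⟩, Cores.le_fittingSubgroup hBn (Subgroup.mem_subgroupOf.mpr huB), rfl⟩

end Cfsg.Agent.S1435
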