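import Cfsg.Statements.S1441
import Cfsg.Agent.OddLocal.Coprime

set_option autoImplicit false
open Cfsg

namespace Cfsg.Agent.S1441

/-- Let G be a finite group, H a solvable subgroup and A a subgroup normalizing H. Suppose there is a chain H = H₀ ≥ H₁ ≥ ⋯ ≥ H_n = 1 of subgroups normal in H and normalized by A such that A acts trivially on each factor H_{i-1}/H_i (that is, [H_{i-1}, A] ≤ H_i). Then every prime dividing the index of C_A(H) in A divides the order of H. -/
theorem result {G : Type*} [Group G] [Finite G] (H A : Subgroup G) (hH : Group.IsSolvable H) (hA : (A ≤ Subgroup.normalizer (H : Set G)))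
    (n : ℕ) (c : Fin (n + 1) → Subgroup G) (hc0 : c 0 = H) (hcn : c (Fin.last n) = ⊥) (hanti : Antitone c)
    (hcN : ∀ i, H ≤ Subgroup.normalizer ((c i : Subgroup G) : Set G)) (hcA : ∀ i, A ≤ Subgroup.normalizer ((c i : Subgroup G) : Set G))
    (htriv : ∀ i : Fin n, ⁅c i.castSucc, A⁆ ≤ c i.succ) :
    ∀ p : ℕ, p.Prime → p ∣ (A ⊓ Subgroup.centralizer (H : Set G)).relIndex A → p ∣ Nat.card H := by
  intro p hp hpdvd
  by_contra hpH
  haveI := Fact.mk hp
  set C := A ⊓ Subgroup.centralizer (H : Set G) with hC
  obtain ⟨S⟩ : Nonempty (Sylow p A) := inferInstance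
  have key : ∀ a : A, IsPGroup p (Subgroup.zpowers (a : G)) → (a : G) ∈ C := by
    intro a ha
    refine ⟨a.2, ?_⟩
    set Z := Subgroup.zpowers (a : G) with hZ
    have hZA : Z ≤ A := Subgroup.zpowers_le.mpr a.2
    have hZs : Group.IsSolvable Z := Cfsg.Agent.Coprime.isSolvable_of_isPGroup ha
    have hstep : ∀ i : Fin (n + 1), Z ≤ Subgroup.centralizer ((c i : Subgroup G) : Set G) := by
      intro i
      induction i using Fin.reverseInduction with
      | last =>
        rw [hcn]; intro z _
        rw [Subgroup.mem_centralizer_iff]; intro y hy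
        simp_all
      | cast i ih =>
        have hiH : c i.castSucc ≤ H := hc0 ▸ hanti (Fin.zero_le _)
        have hcp : (Nat.card Z).Coprime (Nat.card ↥(c i.castSucc)) := by
          obtain ⟨k, hk⟩ := IsPGroup.iff_card.mp ha
          rw [hk]
          exact (((hp.coprime_iff_not_dvd.mpr hpH).coprime_dvd_right
            (Subgroup.card_dvd_of_le hiH))).pow_left k
        exact Cfsg.Agent.Coprime.le_centralizer_of_series (hZA.trans (hcA i.castSucc)) hcp (Or.inl hZs)
          ih ((Subgroup.commutator_mono le_rfl hZA).trans (htriv i))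
    exact hc0 ▸ hstep 0 (Subgroup.mem_zpowers _)
  have hSC : (S : Subgroup A) ≤ C.subgroupOf A := by
    intro a ha
    refine key a ?_
    have h1 : Subgroup.zpowers (a : G) ≤ (S : Subgroup A).map A.subtype :=
      Subgroup.zpowers_le.mpr ⟨a, ha, rfl⟩
    exact (S.2.map A.subtype).to_le h1
  exact S.not_dvd_index (hpdvd.trans (Subgroup.index_dvd_of_le hSC))

end Cfsg.Agent.S1441
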