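import Cfsg.Statements.S1442
import Cfsg.Agent.OddLocal.Coprime

set_option autoImplicit false
open Cfsg

namespace Cfsg.Agent.S1442

/-- Let G be a finite group, H a nilpotent subgroup and A a subgroup normalizing H with the orders of A and H coprime. Put C = H ∩ C_G(A). If H ∩ C_G(C) ≤ C then A centralizes H. -/
theorem result {G : Type*} [Group G] [Finite G] (H A : Subgroup G) (hH : Group.IsNilpotent H) (hA : (A ≤ Subgroup.normalizer (H : Set G))) (hcop : (Nat.card A).Coprime (Nat.card H))
    (hC : H ⊓ Subgroup.centralizer (((H ⊓ Subgroup.centralizer (A : Set G)) : Subgroup G) : Set G) ≤ (H ⊓ Subgroup.centralizer (A : Set G))) :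
    A ≤ Subgroup.centralizer (H : Set G) := by
  haveI := hH
  set C := H ⊓ Subgroup.centralizer (A : Set G) with hC'
  by_cases hCH : H ≤ C
  · exact Subgroup.le_centralizer_iff.mp (hCH.trans inf_le_right)
  exfalso
  set N := H ⊓ Subgroup.normalizer (C : Set G) with hN
  have hsolvN : Group.IsSolvable N :=
    Cfsg.Agent.Coprime.isSolvable_of_le inf_le_left inferInstance
  have hAC : A ≤ Subgroup.centralizer (C : Set G) := Subgroup.le_centralizer_iff.mp inf_le_right
  have hAN : A ≤ Subgroup.normalizer (N : Set G) := by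
    intro a ha
    apply Subgroup.mem_normalizer_fintype (S := (N : Set G))
    intro x hx
    refine ⟨(Subgroup.mem_normalizer_iff.mp (hA ha) x).mp hx.1, ?_⟩
    have han : a ∈ Subgroup.normalizer (C : Set G) := Subgroup.centralizer_le_normalizer _ (hAC ha)
    exact Subgroup.mul_mem _ (Subgroup.mul_mem _ han hx.2) (Subgroup.inv_mem _ han)
  have hNA : ⁅N, A⁆ ≤ C := by
    have h1 : ⁅⁅A, C⁆, N⁆ = ⊥ := by
      rw [Subgroup.commutator_eq_bot_iff_le_centralizer.mpr hAC, Subgroup.commutator_bot_left]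
    have hCN : ⁅C, N⁆ ≤ C :=
      Subgroup.le_normalizer_iff_commutator_le_left.mp (inf_le_right : N ≤ Subgroup.normalizer (C : Set G))
    have h2 : ⁅⁅C, N⁆, A⁆ = ⊥ :=
      le_bot_iff.mp (le_trans (Subgroup.commutator_mono hCN le_rfl)
        (Cfsg.Agent.Coprime.commutator_eq_bot_iff_le_centralizer'.mpr hAC).le)
    have h3 := Subgroup.commutator_commutator_eq_bot_of_rotate h1 h2
    exact (le_inf ((Cfsg.Agent.Coprime.commutator_le_of_le_normalizer hAN).trans inf_le_left)
      (Subgroup.commutator_eq_bot_iff_le_centralizer.mp h3)).trans hC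
  have hNC : N ≤ C := by
    refine le_inf inf_le_left (Subgroup.le_centralizer_iff.mp ?_)
    exact Cfsg.Agent.Coprime.le_centralizer_of_series hAN
      (hcop.coprime_dvd_right (Subgroup.card_dvd_of_le inf_le_left)) (Or.inr hsolvN) hAC hNA
  have htop : C.subgroupOf H < ⊤ := lt_top_iff_ne_top.mpr fun h => hCH (Subgroup.subgroupOf_eq_top.mp h)
  obtain ⟨x, hx, hxn⟩ := SetLike.exists_of_lt (Group.normalizerCondition_of_isNilpotent _ htop)
  apply hxn
  show (x : G) ∈ C
  apply hNC
  refine ⟨x.2, ?_⟩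
  apply Subgroup.mem_normalizer_fintype (S := (C : Set G))
  intro y hy
  exact (Subgroup.mem_normalizer_iff.mp hx ⟨y, hy.1⟩).mp (show (⟨y, hy.1⟩ : H) ∈ C.subgroupOf H from hy)

end Cfsg.Agent.S1442
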