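import Cfsg.Statements.S1447
import Cfsg.Agent.OddLocal.MetacyclicAction
import Cfsg.Agent.Lib.Coprime.Commutator
import Cfsg.Agent.OddLocal.OmegaQuotient
import Cfsg.Agent.S0638
-- import your own Cfsg.Agent.* helpers here

set_option autoImplicit false
open Cfsg
open scoped commutatorElement

namespace Cfsg.Agent.S1447

/-- Let G be a finite group, p an odd prime, R a metacyclic p-subgroup and A a subgroup of order coprime to p normalizing R. Then [R, A] is abelian; R is generated by [R, A] and R ∩ C_G(A), which meet trivially; and if R is non-abelian and A does not centralize R, then [R, A] and R ∩ C_G(A) are nontrivial cyclic groups and [R, R] ≤ [R, A]. -/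
theorem result {G : Type*} [Group G] [Finite G] (p : ℕ) [Fact p.Prime] (hp : p ≠ 2) (R A : Subgroup G) (hR : IsPGroup p R) (hRm : Cfsg.IsMetacyclic R)
    (hA : (A ≤ Subgroup.normalizer (R : Set G))) (hcop : (Nat.card A).Coprime p) :
    IsMulCommutative ↥⁅R, A⁆ ∧ ⁅R, A⁆ ⊔ (R ⊓ Subgroup.centralizer (A : Set G)) = R ∧ ⁅R, A⁆ ⊓ (R ⊓ Subgroup.centralizer (A : Set G)) = ⊥ ∧
      (¬ IsMulCommutative R → ¬ A ≤ Subgroup.centralizer (R : Set G) →
        ⁅R, A⁆ ≠ ⊥ ∧ IsCyclic ↥⁅R, A⁆ ∧ (R ⊓ Subgroup.centralizer (A : Set G)) ≠ ⊥ ∧ IsCyclic ↥(R ⊓ Subgroup.centralizer (A : Set G)) ∧ ⁅R, R⁆ ≤ ⁅R, A⁆) := by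
  open Subgroup in
  obtain ⟨j, hj⟩ := hR.exists_card_eq
  have hcopR : (Nat.card A).Coprime (Nat.card R) := hj ▸ hcop.pow_right j
  have := hR.isNilpotent
  have hsol : Group.IsSolvable A ∨ Group.IsSolvable R := Or.inr inferInstance
  set X := ⁅R, A⁆ with hX
  set C := R ⊓ centralizer (A : Set G) with hC
  have hXR : X ≤ R := Coprime.commutator_le_of_le_normalizer hA
  have hXA : ⁅X, A⁆ = X := Coprime.commutator_commutator_eq hA hcopR hsol
  have hsup : X ⊔ C = R := Coprime.commutator_sup_inf_centralizer hA hcopR hsol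
  have hAX : A ≤ normalizer (X : Set G) := normalizer_commutator_ge_right R A
  have hXp : IsPGroup p X := hR.to_le hXR
  let φ : A →* MulAut X := X.normalizerMonoidHom.comp (inclusion hAX)
  have hgen : closure {y : X | ∃ a x, y = φ a x * x⁻¹} = ⊤ := by
    refine top_le_iff.mp ?_
    have key : X ≤ (closure {y : X | ∃ a x, y = φ a x * x⁻¹}).map X.subtype := by
      conv_lhs => rw [← hXA]
      rw [commutator_le]
      intro x hx a ha
      refine ⟨(φ ⟨a, ha⟩ ⟨x, hx⟩ * ⟨x, hx⟩⁻¹)⁻¹, inv_mem (subset_closure ⟨_, _, rfl⟩), ?_⟩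
      show ((a * x * a⁻¹) * x⁻¹)⁻¹ = x * a * x⁻¹ * a⁻¹
      group
    intro y _
    obtain ⟨z, hz, hzy⟩ := key y.2
    exact (Subtype.ext hzy : z = y) ▸ hz
  have hab : IsMulCommutative X := OddLocal.MetacyclicAction.abelian_of_generates hp hXp
    (OddLocal.MetacyclicAction.isMetacyclic_of_injective hRm (inclusion hXR) (inclusion_injective hXR))
    φ hcop hgen
  have hdisj : X ⊓ C = ⊥ := by
    have h := Coprime.inf_centralizer_inf_commutator hAX (hcopR.coprime_dvd_right (card_dvd_of_le hXR))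
    rw [hXA] at h
    exact le_bot_iff.mp (le_trans (le_inf (le_inf inf_le_left (inf_le_right.trans inf_le_right)) inf_le_left) h.le)
  refine ⟨hab, hsup, hdisj, fun hna hnc => ?_⟩
  have hX0 : X ≠ ⊥ := fun h => hnc (Coprime.commutator_eq_bot_iff_le_centralizer'.mp h)
  have hC0 : C ≠ ⊥ := fun h => hna (by
    rw [h, sup_bot_eq] at hsup
    rwa [hsup] at hab)
  -- a noncyclic subgroup of `R` contains all elements of order `p`
  have hnc' : ¬ IsCyclic R := fun h => hna h.isMulCommutative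
  obtain ⟨-, hO⟩ := S0638.result hp hR hRm hnc'
  have key : ∀ Y : Subgroup G, Y ≤ R → Y ≠ ⊥ → ¬ IsCyclic Y → ∀ z ∈ R, z ^ p = 1 → z ∈ Y := by
    intro Y hY _ hYc z hz hzp
    obtain ⟨-, hOY⟩ := S0638.result hp (hR.to_le hY)
      (OddLocal.MetacyclicAction.isMetacyclic_of_injective hRm (inclusion hY) (inclusion_injective hY)) hYc
    have hle : (Cfsg.omegaOne p (⊤ : Subgroup Y)).map (inclusion hY) ≤ Cfsg.omegaOne p (⊤ : Subgroup R) := by
      rw [OddLocal.OmegaQuotient.omegaOne_top, OddLocal.OmegaQuotient.omegaOne_top, MonoidHom.map_closure]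
      refine closure_mono ?_
      rintro _ ⟨y, hy, rfl⟩
      show inclusion hY y ^ p = 1
      rw [← map_pow, show y ^ p = 1 from hy, map_one]
    have heq := eq_of_le_of_card_ge hle (by
      rw [card_map_of_injective (inclusion_injective hY), hO, hOY])
    have hm : (⟨z, hz⟩ : R) ∈ Cfsg.omegaOne p (⊤ : Subgroup R) :=
      subset_closure ⟨mem_top _, Subtype.ext hzp⟩
    rw [← heq] at hm
    obtain ⟨y, -, hy⟩ := hm
    have hy' : ((inclusion hY y : R) : G) = z := congrArg Subtype.val hy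
    rw [← hy']
    exact y.2
  have ordp : ∀ Y : Subgroup G, Y ≤ R → Y ≠ ⊥ → ∃ z ∈ Y, z ^ p = 1 ∧ z ≠ 1 := by
    intro Y hY hY0
    obtain ⟨k, hk⟩ := (hR.to_le hY).exists_card_eq
    have hk0 : k ≠ 0 := fun h => hY0 (eq_bot_of_card_eq _ (by rw [hk, h, pow_zero]))
    obtain ⟨z, hz⟩ := exists_prime_orderOf_dvd_card' (G := Y) p (hk ▸ dvd_pow_self p hk0)
    rw [← orderOf_coe] at hz
    exact ⟨z, z.2, hz ▸ pow_orderOf_eq_one (z : G),
      fun h => (Fact.out : p.Prime).ne_one (by rw [← hz, h, orderOf_one])⟩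
  have cyc : ∀ Y Z : Subgroup G, Y ≤ R → Y ≠ ⊥ → Z ≤ R → Z ≠ ⊥ → Y ⊓ Z = ⊥ → IsCyclic Y := by
    intro Y Z hY hY0 hZ hZ0 hYZ
    by_contra h
    obtain ⟨z, hz, hzp, hz1⟩ := ordp Z hZ hZ0
    exact hz1 (mem_bot.mp (hYZ ▸ (⟨key Y hY hY0 h z (hZ hz) hzp, hz⟩ : z ∈ Y ⊓ Z)))
  have hXc := cyc X C hXR hX0 inf_le_left hC0 hdisj
  have hCc := cyc C X inf_le_left hC0 hXR hX0 (by rw [inf_comm]; exact hdisj)
  refine ⟨hX0, hXc, hC0, hCc, ?_⟩
  have hRX : R ≤ normalizer (X : Set G) := normalizer_commutator_ge_left R A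
  rw [commutator_le]
  intro u hu v hv
  have hXn : (X.subgroupOf R).Normal := normal_subgroupOf_of_le_normalizer hRX
  have hdec : ∀ w ∈ R, ∃ x ∈ X, ∃ c ∈ C, w = x * c := by
    intro w hw
    obtain ⟨c, hc, x, hx, rfl⟩ := Coprime.exists_eq_centralizer_mul_commutator hA hcopR hsol hw
    refine ⟨c * x * c⁻¹, (Subgroup.le_normalizer_iff.mp hRX) c hc.1 x hx, c, hc, by group⟩
  set f := QuotientGroup.mk' (X.subgroupOf R) with hf
  have hone : ∀ x (hx : x ∈ X), f ⟨x, hXR hx⟩ = 1 := fun x hx => (QuotientGroup.eq_one_iff _).mpr hx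
  obtain ⟨x, hx, c, hc, rfl⟩ := hdec u hu
  obtain ⟨x', hx', c', hc', rfl⟩ := hdec v hv
  have hm : ⁅(⟨x, hXR hx⟩ : R) * ⟨c, hc.1⟩, (⟨x', hXR hx'⟩ : R) * ⟨c', hc'.1⟩⁆ ∈ X.subgroupOf R := by
    refine (QuotientGroup.eq_one_iff _).mp ?_
    show f _ = 1
    rw [map_commutatorElement, map_mul, map_mul, hone x hx, hone x' hx', one_mul, one_mul,
      ← map_commutatorElement]
    have : ⁅(⟨c, hc.1⟩ : R), (⟨c', hc'.1⟩ : R)⁆ = 1 := by
      rw [commutatorElement_eq_one_iff_mul_comm]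
      have := hCc.isMulCommutative
      exact Subtype.ext (setLike_mul_comm (s := C) hc hc')
    rw [this, map_one]
  exact hm

end Cfsg.Agent.S1447
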