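import Cfsg.Statements.S1449
import Cfsg.Agent.OddLocal.AutRankTwo
-- import your own Cfsg.Agent.* helpers here

set_option autoImplicit false
open Cfsg

namespace Cfsg.Agent.S1449

/-- Let G be a finite group, p an odd prime, R a p-subgroup with no elementary abelian subgroup of order p ^ 3, and A a solvable subgroup of odd order normalizing R with A ∩ C_G(R) = 1. Then the derived subgroup [A, A] is a p-group. -/
theorem result {G : Type*} [Group G] [Finite G] (p : ℕ) [Fact p.Prime] (hp : p ≠ 2) (R A : Subgroup G) (hR : IsPGroup p R) (hr : Cfsg.PRankLE p 2 R)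
    (hA : (A ≤ Subgroup.normalizer (R : Set G))) (hAs : Group.IsSolvable A) (hAodd : Odd (Nat.card A)) (hfaith : A ⊓ Subgroup.centralizer (R : Set G) = ⊥) :
    IsPGroup p ↥⁅A, A⁆ := by
  let φ : A →* MulAut R := R.normalizerMonoidHom.comp (Subgroup.inclusion hA)
  have hinj : Function.Injective φ := by
    rw [← MonoidHom.ker_eq_bot_iff, eq_bot_iff]
    intro a ha
    refine Subgroup.mem_bot.mpr (Subtype.ext (Subgroup.mem_bot.mp (hfaith ▸
      (⟨a.2, Subgroup.mem_centralizer_iff.mpr fun r hr' => ?_⟩ :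
        (a : G) ∈ A ⊓ Subgroup.centralizer (R : Set G)))))
    have h0 := DFunLike.congr_fun (show φ a = 1 from ha) (⟨r, hr'⟩ : R)
    have h : (a : G) * r * (a : G)⁻¹ = r := congrArg Subtype.val h0
    exact (mul_inv_eq_iff_eq_mul.mp h).symm
  obtain ⟨h, -⟩ := OddLocal.AutRankTwo.aut_rankTwo hp hR hr hAodd φ
  intro c
  have hc : (c : G) ∈ (commutator A).map A.subtype := by
    rw [Subgroup.map_subtype_commutator]
    exact c.2
  obtain ⟨a, ha, hac⟩ := hc
  obtain ⟨k, hk⟩ := h a ha
  refine ⟨k, Subtype.ext ?_⟩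
  rw [← map_pow] at hk
  have h1 : a ^ p ^ k = 1 := hinj (hk.trans (map_one φ).symm)
  show (c : G) ^ p ^ k = 1
  rw [← hac, ← map_pow, h1, map_one]

end Cfsg.Agent.S1449
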