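import Cfsg.Statements.S1454
import Cfsg.Agent.OddLocal.Narrow
import Cfsg.Agent.OddLocal.Metacyclic
import Cfsg.Agent.Lib.CharP.Sylow
import Cfsg.Agent.Lib.Coprime.Commutator
-- import your own Cfsg.Agent.* helpers here

set_option autoImplicit false
open Cfsg
open scoped commutatorElement

namespace Cfsg.Agent.S1454

open Subgroup in
theorem core_of_pGroup_commutator {A : Type*} [Group A] [Finite A] {p : ℕ} [Fact p.Prime]
    (h : IsPGroup p (commutator A)) :
    commutator A ≤ Cfsg.pCore p A ∧ ((Cfsg.pCore p A).index).Coprime p := by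
  have hle : commutator A ≤ Cfsg.pCore p A := CharP.le_pCore inferInstance h
  obtain ⟨P, hP⟩ := (CharP.isPGroup_pCore p A).exists_le_sylow
  have hPn : (P : Subgroup A).Normal := Normal.of_commutator_le A (hle.trans hP)
  have heq : (P : Subgroup A) = Cfsg.pCore p A := le_antisymm (CharP.le_pCore hPn P.2) hP
  refine ⟨hle, ?_⟩
  rw [← heq]
  exact (((Fact.out : p.Prime).coprime_iff_not_dvd).mpr P.not_dvd_index).symm

/-- Let G be a finite group, p an odd prime, R a narrow p-subgroup and A a solvable subgroup of odd order normalizing R with A ∩ C_G(R) = 1. Then [A, A] ≤ O_p(A) and the index of O_p(A) in A is coprime to p; if R has an elementary abelian subgroup of order p ^ 3 then the order of every element of A of order coprime to p divides p − 1; and if the order of A is a prime not dividing p(p − 1), then 2·#A divides p + 1, and if in addition [R, A] = R and R is non-abelian then #R = p ^ 3. -/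
theorem result {G : Type*} [Group G] [Finite G] (p : ℕ) [Fact p.Prime] (hp : p ≠ 2) (R A : Subgroup G) (hR : IsPGroup p R) (hRn : Cfsg.IsNarrow p R)
    (hA : (A ≤ Subgroup.normalizer (R : Set G))) (hAs : Group.IsSolvable A) (hAodd : Odd (Nat.card A)) (hfaith : A ⊓ Subgroup.centralizer (R : Set G) = ⊥) :
    (commutator ↥A ≤ Cfsg.pCore p ↥A ∧ ((Cfsg.pCore p ↥A).index).Coprime p) ∧
      (¬ Cfsg.PRankLE p 2 R → ∀ a ∈ A, (orderOf a).Coprime p → orderOf a ∣ p - 1) ∧
      ((Nat.card A).Prime → ¬ Nat.card A ∣ p * (p - 1) →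
        2 * Nat.card A ∣ p + 1 ∧ (⁅R, A⁆ = R → ¬ IsMulCommutative R → Nat.card R = p ^ 3)) := by
  open Subgroup in
  have hprime : p.Prime := Fact.out
  let φ : A →* MulAut R := R.normalizerMonoidHom.comp (inclusion hA)
  have hinj : Function.Injective φ := by
    rw [← MonoidHom.ker_eq_bot_iff, eq_bot_iff]
    intro a ha
    refine mem_bot.mpr (Subtype.ext (mem_bot.mp (hfaith ▸
      (⟨a.2, mem_centralizer_iff.mpr fun r hr' => ?_⟩ : (a : G) ∈ A ⊓ centralizer (R : Set G)))))
    have h0 := DFunLike.congr_fun (show φ a = 1 from ha) (⟨r, hr'⟩ : R)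
    have h : (a : G) * r * (a : G)⁻¹ = r := congrArg Subtype.val h0
    exact (mul_inv_eq_iff_eq_mul.mp h).symm
  have hab : IsPGroup p (commutator A) ∧
      (¬ Cfsg.PRankLE p 2 R → ∀ a : A, (orderOf a).Coprime p → orderOf a ∣ p - 1) := by
    by_cases hr : Cfsg.PRankLE p 2 R
    · refine ⟨fun c => ?_, fun h => absurd hr h⟩
      obtain ⟨k, hk⟩ := (OddLocal.AutRankTwo.aut_rankTwo hp hR hr hAodd φ).1 c c.2
      refine ⟨k, Subtype.ext (hinj ?_)⟩
      rw [SubmonoidClass.coe_pow, map_pow, OneMemClass.coe_one, map_one]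
      exact hk
    obtain ⟨K, hKp, hKc, hKe⟩ := OddLocal.Narrow.exists_kernel_of_narrow hp hR hRn hr
    have hK : IsPGroup p (K.comap φ) := hKp.comap_of_injective φ hinj
    refine ⟨hK.to_le ?_, fun _ a ha => ?_⟩
    · rw [_root_.commutator_def, commutator_le]
      intro a _ b _
      rw [mem_comap, map_commutatorElement]
      exact hKc _ _
    · obtain ⟨k, hk⟩ := hK ⟨a ^ (p - 1), by rw [mem_comap, map_pow]; exact hKe _⟩
      have h1 : a ^ ((p - 1) * p ^ k) = 1 := by
        rw [pow_mul]
        exact congrArg Subtype.val hk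
      exact (ha.pow_right k).dvd_of_dvd_mul_right (orderOf_dvd_of_pow_eq_one h1)
  refine ⟨core_of_pGroup_commutator hab.1, fun hr a ha hcop => ?_, fun hq hnd => ?_⟩
  · rw [show orderOf a = orderOf (⟨a, ha⟩ : A) from Subgroup.orderOf_mk a ha |>.symm]
    exact hab.2 hr ⟨a, ha⟩ (by rw [← orderOf_coe]; exact hcop)
  have := Fact.mk hq
  have hqp : ¬ Nat.card A ∣ p - 1 := fun h => hnd (h.mul_left p)
  have hqne : Nat.card A ≠ p := fun h => hnd (h ▸ dvd_mul_right p (p - 1))
  have hcop : (Nat.card A).Coprime p := (Nat.coprime_primes hq hprime).mpr hqne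
  have hr : Cfsg.PRankLE p 2 R := by
    by_contra hr
    obtain ⟨a, ha⟩ := exists_prime_orderOf_dvd_card' (G := A) (Nat.card A) dvd_rfl
    exact hqp (ha ▸ hab.2 hr a (by rw [ha]; exact hcop))
  have hq1 : Nat.card A ∣ p + 1 := by
    have hcard : Nat.card φ.range = Nat.card A :=
      (Nat.card_congr (MonoidHom.ofInjective hinj).toEquiv).symm
    rcases (OddLocal.AutRankTwo.aut_rankTwo hp hR hr hAodd φ).2 _ hq (by rw [hcard]) hqne with h | h
    · exact absurd h hqp
    · exact h
  have h2q : 2 * Nat.card A ∣ p + 1 := by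
    refine Nat.Coprime.mul_dvd_of_dvd_of_dvd ?_ ?_ hq1
    · exact Nat.coprime_two_left.mpr hAodd
    · have := hprime.eq_two_or_odd.resolve_left hp
      omega
  refine ⟨h2q, fun hRA hna => ?_⟩
  have h3 : 3 < p := by
    have h4 := Nat.le_of_dvd (by omega) h2q
    have := hq.two_le
    have h5 : Nat.card A ≠ 2 := fun h => by rw [h] at hAodd; exact absurd hAodd (by decide)
    omega
  have hgen : closure {y : R | ∃ a x, y = φ a x * x⁻¹} = ⊤ := by
    refine top_le_iff.mp ?_
    have key : R ≤ (closure {y : R | ∃ a x, y = φ a x * x⁻¹}).map R.subtype := by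
      conv_lhs => rw [← hRA]
      rw [commutator_le]
      intro x hx a ha
      refine ⟨(φ ⟨a, ha⟩ ⟨x, hx⟩ * ⟨x, hx⟩⁻¹)⁻¹, inv_mem (subset_closure ⟨_, _, rfl⟩), ?_⟩
      show ((a * x * a⁻¹) * x⁻¹)⁻¹ = x * a * x⁻¹ * a⁻¹
      group
    intro y _
    obtain ⟨z, hz, hzy⟩ := key y.2
    exact (Subtype.ext hzy : z = y) ▸ hz
  by_cases hsmall : Nat.card (closure {x : R | x ^ p = 1}) ≤ p ^ 2
  · exact absurd (OddLocal.MetacyclicAction.abelian_of_generates hp hR
      (OddLocal.Metacyclic.metacyclic h3 _ rfl hR hsmall) φ hcop hgen) hna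
  obtain ⟨O, C, hsup, hcomm, -, hcard, -, hcyc, -, hCinv⟩ :=
    OddLocal.RankTwoAction.central_product h3 hR hr (not_le.mp hsmall) φ hcop hAodd hgen
  -- `A` centralizes the cyclic factor
  have hfix : ∀ a : A, ∀ c ∈ C, φ a c = c := by
    let ψ : A →* MulAut C :=
      { toFun := fun a =>
          { toFun := fun x => ⟨φ a x, hCinv a x x.2⟩
            invFun := fun x => ⟨φ a⁻¹ x, hCinv a⁻¹ x x.2⟩
            left_inv := fun x => Subtype.ext (by
              show φ a⁻¹ (φ a x) = x
              rw [← MulAut.mul_apply, ← map_mul, inv_mul_cancel, map_one]; rfl)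
            right_inv := fun x => Subtype.ext (by
              show φ a (φ a⁻¹ x) = x
              rw [← MulAut.mul_apply, ← map_mul, mul_inv_cancel, map_one]; rfl)
            map_mul' := fun x y => Subtype.ext (map_mul (φ a) _ _) }
        map_one' := MulEquiv.ext fun x => Subtype.ext (by simp)
        map_mul' := fun a b => MulEquiv.ext fun x => Subtype.ext (by simp) }
    have hψ : Nat.card ψ.range = 1 := by
      by_contra hne
      have h6 : Nat.card ψ.range = Nat.card A :=
        ((Nat.dvd_prime hq).mp (card_range_dvd ψ)).resolve_left hne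
      have h7 : Nat.card ψ.range ∣ Nat.card (MulAut C) := card_subgroup_dvd_card _
      rw [h6, IsCyclic.card_mulAut] at h7
      obtain ⟨k, hk⟩ := (hR.to_subgroup C).exists_card_eq
      rw [hk] at h7
      rcases k with _ | k
      · rw [pow_zero, Nat.totient_one] at h7
        exact hq.ne_one (Nat.dvd_one.mp h7)
      · rw [Nat.totient_prime_pow_succ hprime] at h7
        rcases hq.dvd_mul.mp h7 with h | h
        · exact hqne ((Nat.prime_dvd_prime_iff_eq hq hprime).mp (hq.dvd_of_dvd_pow h))
        · exact hqp h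
    intro a c hc
    have h8 : ψ a = 1 := mem_bot.mp (eq_bot_of_card_eq _ hψ ▸ (⟨a, rfl⟩ : ψ a ∈ ψ.range))
    exact congrArg Subtype.val (DFunLike.congr_fun h8 ⟨c, hc⟩)
  have hOn : O.Normal := by
    rw [← normalizer_eq_top_iff, eq_top_iff, ← hsup]
    exact sup_le O.le_normalizer fun c hc => centralizer_le_normalizer (O : Set R)
      (mem_centralizer_iff.mpr fun u hu => hcomm u hu c hc)
  have hCO : C ≤ O := by
    have hder : commutator R ≤ O := by
      rw [_root_.commutator_def, commutator_le]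
      intro u _ v _
      have hmk : ∀ w, ∃ c ∈ C, QuotientGroup.mk' O w = QuotientGroup.mk' O c := fun w => by
        obtain ⟨o, ho, c, hc, rfl⟩ := mem_sup_of_normal_left.mp (hsup ▸ mem_top w : w ∈ O ⊔ C)
        exact ⟨c, hc, by rw [map_mul, show QuotientGroup.mk' O o = 1 from (QuotientGroup.eq_one_iff o).mpr ho, one_mul]⟩
      obtain ⟨c, hc, e1⟩ := hmk u
      obtain ⟨d, hd, e2⟩ := hmk v
      rw [← QuotientGroup.eq_one_iff, ← QuotientGroup.mk'_apply, map_commutatorElement, e1, e2,
        ← map_commutatorElement]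
      have := hcyc.isMulCommutative
      rw [commutatorElement_eq_one_iff_mul_comm.mpr (setLike_mul_comm (s := C) hc hd), map_one]
    intro c hc
    exact hder (OddLocal.MetacyclicAction.mem_of_fixed_coset hR φ hcop hgen (commutator R) le_rfl
      (fun a x hx => characteristic_iff_map_le.mp inferInstance (φ a) ⟨x, hx, rfl⟩)
      fun a => by rw [hfix a c hc, mul_inv_cancel]; exact one_mem _)
  have hO : O = ⊤ := by rwa [sup_of_le_left hCO] at hsup
  rwa [hO, card_top] at hcard

end Cfsg.Agent.S1454
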