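import Cfsg.Statements.S1455
import Cfsg.Agent.OddLocal.NarrowSolvable
import Cfsg.Agent.S1450
-- import your own Cfsg.Agent.* helpers here

set_option autoImplicit false
open Cfsg

namespace Cfsg.Agent.S1455

/-- Let G be a solvable group of odd order, p a prime dividing its order, and S a Sylow p-subgroup of G that is narrow; if S has an elementary abelian subgroup of order p ^ 3 assume also G = O_{p',p,p'}(G). Then every prime dividing the index of O_{p'}(G) is at most p; if p = 3 or p is the smallest prime divisor of #G then G has a normal p-complement; G' has a normal p-complement; every subgroup of G' of order coprime to p lies in O_{p'}(G'); and G' ≤ O_{p',p}(G) with the index of O_{p',p}(G) coprime to p. -/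
theorem result {G : Type*} [Group G] [Finite G] [Group.IsSolvable G] (hodd : Odd (Nat.card G)) (p : ℕ) [Fact p.Prime] (hpG : p ∣ Nat.card G) (S : Sylow p G) (hS : Cfsg.IsNarrow p ↥(S : Subgroup G))
    (hpl : ¬ Cfsg.PRankLE p 2 ↥(S : Subgroup G) → Cfsg.PLengthLE p 1 G) :
    (∀ q : ℕ, q.Prime → q ∣ (Cfsg.pPrimeCore p G).index → q ≤ p) ∧
      ((p = 3 ∨ ∀ q : ℕ, q.Prime → q ∣ Nat.card G → p ≤ q) → Cfsg.HasNormalPComplement p G) ∧
      Cfsg.HasNormalPComplement p ↥(commutator G) ∧
      (∀ L : Subgroup ↥(commutator G), (Nat.card L).Coprime p → L ≤ Cfsg.pPrimeCore p ↥(commutator G)) ∧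
      commutator G ≤ Cfsg.pPrimePCore p G ∧ ((Cfsg.pPrimePCore p G).index).Coprime p := by
  obtain ⟨h1, h2, h3⟩ : commutator G ≤ Cfsg.pPrimePCore p G ∧ (Cfsg.pPrimePCore p G).index.Coprime p ∧
      ∀ q : ℕ, q.Prime → q ∣ (Cfsg.pPrimeCore p G).index → q ≤ p := by
    by_cases hr : Cfsg.PRankLE p 2 (S : Subgroup G)
    · exact OddLocal.RankTwoSolvable.structure_rankTwo hodd hpG (OddLocal.NarrowSolvable.pRankLE_of_sylow S hr)
    · exact OddLocal.NarrowSolvable.structure_narrow hodd hpG S hS hr (hpl hr)
  have hp : p.Prime := Fact.out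
  obtain ⟨m, hm⟩ : ∃ m, (Cfsg.pPrimeCore p ↥(commutator G)).index = p ^ m := by
    set N := Cfsg.pPrimeCore p G
    set K := N.subgroupOf (commutator G) with hK
    have hle : K ≤ Cfsg.pPrimeCore p ↥(commutator G) := Cores.le_pPrimeCore <|
      (Cores.pPrimeCore_card_coprime p).coprime_dvd_left (by
        rw [← Subgroup.card_map_of_injective (commutator G).subtype_injective,
          Subgroup.subgroupOf_map_subtype]
        exact Subgroup.card_dvd_of_le inf_le_left)
    have hd : K.index ∣ Nat.card (Cfsg.pCore p (G ⧸ N)) := by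
      show N.relIndex (commutator G) ∣ _
      have h4 : Nat.card ((commutator G).map (QuotientGroup.mk' N)) = N.relIndex (commutator G) := by
        rw [← Subgroup.relIndex_ker, QuotientGroup.ker_mk']
      rw [← h4]
      exact Subgroup.card_dvd_of_le (Subgroup.map_le_iff_le_comap.mpr h1)
    obtain ⟨j, hj⟩ := (Cores.pCore_isPGroup (G := G ⧸ N) p).exists_card_eq
    obtain ⟨i, -, hi⟩ := (Nat.dvd_prime_pow hp).mp ((Subgroup.index_dvd_of_le hle).trans (hj ▸ hd))
    exact ⟨i, hi⟩
  refine ⟨h3, fun hsm => ?_, (S1450.complement_of_index hm).1, (S1450.complement_of_index hm).2, h1, h2⟩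
  refine (S1450.complement_of_index (n := (Cfsg.pPrimeCore p G).index.primeFactorsList.length) ?_).1
  refine Nat.eq_prime_pow_of_unique_prime_dvd Subgroup.index_ne_zero_of_finite fun {q} hq hqd => ?_
  have hqG : q ∣ Nat.card G := hqd.trans (Subgroup.index_dvd_card _)
  rcases hsm with rfl | hsm
  · have h5 := h3 q hq hqd
    have h6 : q ≠ 2 := by
      rintro rfl
      exact Nat.not_even_iff_odd.mpr hodd (even_iff_two_dvd.mpr hqG)
    have := hq.two_le
    omega
  · exact le_antisymm (h3 q hq hqd) (hsm q hq hqG)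

end Cfsg.Agent.S1455
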