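import Cfsg.Statements.S1456
import Cfsg.Agent.OddLocal.RankTwoFitting
import Cfsg.Agent.OddLocal.Narrow
-- import your own Cfsg.Agent.* helpers here

set_option autoImplicit false
open Cfsg

namespace Cfsg.Agent.S1456

/-- Let G be a solvable group of odd order, p a prime, and E an elementary abelian p-subgroup of the Fitting subgroup F(G) such that F(G) ∩ C_G(E) has no elementary abelian subgroup of order q ^ 3 for any prime q. Then the derived subgroup of G is contained in F(G). -/
theorem result {G : Type*} [Group G] [Finite G] [Group.IsSolvable G] (hodd : Odd (Nat.card G)) (p : ℕ) [Fact p.Prime] (E : Subgroup G) (hE : E ≤ Cfsg.fittingSubgroup G) (hEe : Cfsg.IsElementaryAbelian p E)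
    (hr : Cfsg.RankLE 2 ↥(Cfsg.fittingSubgroup G ⊓ Subgroup.centralizer (E : Set G))) :
    commutator G ≤ Cfsg.fittingSubgroup G := by
  open Subgroup in
  set F := Cfsg.fittingSubgroup G with hF
  set D := F ⊓ centralizer (E : Set G) with hD
  refine OddLocal.RankTwoFitting.commutator_le_fitting_of_aut fun q _ hqd c hc => ?_
  have hq2 := OddLocal.RankTwoSolvable.odd_prime_of_dvd hodd hqd
  set P := Cfsg.pCore q G with hP
  have hPp : IsPGroup q P := Cores.pCore_isPGroup q
  have hPF : P ≤ F := OddLocal.RankTwoFitting.pCore_le_fitting q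
  have hEp : IsPGroup p E := fun e => ⟨1, Subtype.ext (by rw [pow_one]; exact hEe.2 e e.2)⟩
  have hEP : E ≤ Cfsg.pCore p G := by
    have := Cores.fittingSubgroup_isNilpotent (G := G)
    obtain ⟨U, hU⟩ := (hEp.comap_of_injective F.subtype F.subtype_injective :
      IsPGroup p (E.subgroupOf F)).exists_le_sylow
    exact (map_subgroupOf_eq_of_le hE).symm.le.trans ((map_mono hU).trans (Cores.sylow_fitting_map U).le)
  by_cases hrP : Cfsg.PRankLE q 2 P
  · exact (OddLocal.AutRankTwo.aut_rankTwo hq2 hPp hrP hodd MulAut.conjNormal).1 c hc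
  have hnotD : ¬ P ≤ centralizer (E : Set G) := fun h =>
    hrP (OddLocal.RankTwoFitting.pRankLE_mono (le_inf hPF h) (hr q Fact.out))
  obtain rfl : q = p := by
    by_contra hne
    refine hnotD fun y hy => mem_centralizer_iff.mpr fun e he => ?_
    exact (commute_of_normal_of_disjoint (Cfsg.pCore p G) P inferInstance inferInstance
      (IsPGroup.disjoint_of_ne p q (Ne.symm hne) _ _ (Cores.pCore_isPGroup p) hPp) e y (hEP he) hy).eq
  have hEP' : Cfsg.IsElementaryAbelian q (E.subgroupOf P) := by
    have := hEe.1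
    exact ⟨⟨⟨fun u v => Subtype.ext (Subtype.ext (setLike_mul_comm (s := E) u.2 v.2))⟩⟩,
      fun u hu => Subtype.ext (hEe.2 _ hu)⟩
  obtain ⟨B, hEB, hBm⟩ := (Set.toFinite {B : Subgroup P | Cfsg.IsElementaryAbelian q B}).exists_le_maximal
    (show E.subgroupOf P ∈ {B : Subgroup P | Cfsg.IsElementaryAbelian q B} from hEP')
  have hmax : ∀ C : Subgroup P, Cfsg.IsElementaryAbelian q C → B ≤ C → C = B := fun C hC hBC =>
    le_antisymm (hBm.2 hC hBC) hBC
  have hBc : B.map P.subtype ≤ centralizer (E : Set G) := by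
    rintro _ ⟨b, hb, rfl⟩
    refine mem_centralizer_iff.mpr fun e he => ?_
    have := hBm.1.1
    exact congrArg Subtype.val (setLike_mul_comm (s := B)
      (hEB (show (⟨e, hEP he⟩ : P) ∈ E.subgroupOf P from he)) hb)
  have hBle : Nat.card B ≤ q ^ 2 := by
    have hle : B.map P.subtype ≤ D := le_inf ((map_subtype_le B).trans hPF) hBc
    rw [← card_map_of_injective (K := B) P.subtype_injective,
      ← Nat.card_congr (subgroupOfEquivOfLe hle).toEquiv]
    have := hBm.1.1
    have := map_isMulCommutative B P.subtype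
    refine hr q Fact.out _ ⟨⟨fun u v => Subtype.ext (Subtype.ext
      (setLike_mul_comm (s := B.map P.subtype) u.2 v.2))⟩⟩ fun u hu => ?_
    obtain ⟨b, hb, hbu⟩ := hu
    refine Subtype.ext ?_
    show (u : G) ^ q = 1
    rw [show (u : G) = P.subtype b from hbu.symm, ← map_pow, hBm.1.2 b hb, map_one]
  have hB2 : Nat.card B = q ^ 2 := by
    refine le_antisymm hBle (le_of_not_gt fun hlt => hnotD ?_)
    have : Nontrivial P := by
      refine not_subsingleton_iff_nontrivial.mp fun h => hrP fun A _ _ => ?_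
      have : Subsingleton A := ⟨fun a b => Subtype.ext (Subsingleton.elim _ _)⟩
      rw [Nat.card_unique]
      exact Nat.one_le_pow _ _ (Fact.out : q.Prime).pos
    obtain ⟨z, hzc, hzp, hz1⟩ := OddLocal.RankThree.exists_center_order_p (p := q) hPp
    have hzB : z ∈ B := OddLocal.RankThree.omega_center B hmax hBm.1 (center_le_centralizer _ hzc) hzp
    obtain ⟨k, hk⟩ := (hPp.to_subgroup B).exists_card_eq
    rw [hk, Nat.pow_lt_pow_iff_right (Fact.out : q.Prime).one_lt] at hlt
    have heq : zpowers z = B := eq_of_le_of_card_ge (zpowers_le.mpr hzB) (by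
      rw [hk, Nat.card_zpowers, orderOf_eq_prime hzp hz1]
      exact (Nat.pow_le_pow_right (Fact.out : q.Prime).pos (by omega : k ≤ 1)).trans (pow_one q).le)
    intro y hy
    refine mem_centralizer_iff.mpr fun e he => ?_
    have h1 : (⟨e, hEP he⟩ : P) ∈ center P :=
      (heq ▸ zpowers_le.mpr hzc : B ≤ center P) (hEB (show (⟨e, hEP he⟩ : P) ∈ E.subgroupOf P from he))
    exact congrArg Subtype.val (mem_center_iff.mp h1 ⟨y, hy⟩).symm
  obtain ⟨K, hKp, hKc, -⟩ := OddLocal.Narrow.exists_kernel_of_maximal hq2 hPp hrP B hBm.1 hB2 hmax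
  have hcK : (MulAut.conjNormal c : MulAut P) ∈ K := by
    have : (commutator G).map (MulAut.conjNormal : G →* MulAut P) ≤ K := by
      rw [_root_.commutator_def, map_commutator, commutator_le]
      intro a _ b _
      exact hKc a b
    exact this ⟨c, hc, rfl⟩
  obtain ⟨k, hk⟩ := hKp ⟨_, hcK⟩
  exact ⟨k, congrArg Subtype.val hk⟩

end Cfsg.Agent.S1456
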