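import Cfsg.Statements.S1458
import Cfsg.Agent.Lib.PLocal.ZJCenter
import Cfsg.Agent.Lib.PLocal.StableNormal
import Cfsg.Agent.Solvable.Fitting
import Cfsg.Agent.Lib.PLocal.Cores

set_option autoImplicit false
open Cfsg

namespace Cfsg.Agent.S1458

/-- Let G be a solvable group of odd order, p a prime and S a Sylow p-subgroup of G. Then the subgroup generated by the centre of the Thompson subgroup of S and O_{p'}(G) is normal in G. -/
theorem result {G : Type*} [Group G] [Finite G] [Group.IsSolvable G] (hodd : Odd (Nat.card G)) (p : ℕ) [Fact p.Prime] (S : Sylow p G) :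
    (Cfsg.centerThompsonOf p (S : Subgroup G) ⊔ Cfsg.pPrimeCore p G).Normal := by
  open Cfsg.Agent.PLocal in
  set R := Cfsg.pPrimeCore p G with hR
  set W := Cfsg.centerThompsonOf p (S : Subgroup G) with hW
  set q := QuotientGroup.mk' R with hq
  have hqs := QuotientGroup.mk'_surjective R
  have hWS : W ≤ (S : Subgroup G) := inf_le_left.trans (ThompsonSubgroup.thompsonSubgroupOf_le _)
  rcases eq_or_ne p 2 with hp2 | hp2
  · subst hp2
    have hS : (S : Subgroup G) = ⊥ := by
      rw [← Subgroup.card_eq_one]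
      obtain ⟨k, hk⟩ := S.2.exists_card_eq
      rw [hk]
      rcases k with _ | k
      · rfl
      · exfalso
        exact (Nat.not_even_iff_odd.mpr (hodd.of_dvd_nat (Subgroup.card_subgroup_dvd_card (S : Subgroup G))))
          (hk ▸ even_two.pow_of_ne_zero k.succ_ne_zero)
    rw [hS, le_bot_iff] at hWS
    rw [hWS, bot_sup_eq]
    infer_instance
  have hinj : ∀ x ∈ (S : Subgroup G), q x = 1 → x = 1 := by
    intro x hx h1
    have : x ∈ (S : Subgroup G) ⊓ R := ⟨hx, (QuotientGroup.eq_one_iff x).mp h1⟩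
    rw [Cores.inf_eq_bot_of_isPGroup_of_coprime S.2 Cores.coprime_card_pPrimeCore] at this
    exact Subgroup.mem_bot.mp this
  let f : (S : Subgroup G) →* G ⧸ R := q.comp (S : Subgroup G).subtype
  have hf : Function.Injective f := by
    rw [injective_iff_map_eq_one]
    exact fun x hx => Subtype.ext (hinj x x.2 hx)
  have hab : Cfsg.Agent.PLocal.Quadratic.AbelianTwo (G ⧸ R) := by
    intro T
    have hT : (T : Subgroup (G ⧸ R)) = ⊥ := by
      rw [← Subgroup.card_eq_one]
      obtain ⟨k, hk⟩ := T.2.exists_card_eq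
      rw [hk]
      rcases k with _ | k
      · rfl
      · exfalso
        exact (Nat.not_even_iff_odd.mpr (hodd.of_dvd_nat ((Subgroup.card_subgroup_dvd_card (T : Subgroup (G ⧸ R))).trans
          (Subgroup.card_quotient_dvd_card R)))) (hk ▸ even_two.pow_of_ne_zero k.succ_ne_zero)
    exact ⟨⟨fun x y => Subtype.ext (by
      show (x : G ⧸ R) * (y : G ⧸ R) = (y : G ⧸ R) * (x : G ⧸ R)
      rw [Subgroup.mem_bot.mp (hT.le x.2 : (x : G ⧸ R) ∈ (⊥ : Subgroup (G ⧸ R))),
        show y = 1 from Subtype.ext (Subgroup.mem_bot.mp (hT.le y.2))]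
      simp)⟩⟩
  have hn := ZJCenter.centerThompson_normal hp2
    (Cfsg.Agent.Solvable.Fitting.centralizer_pCore_le p (Cores.pPrimeCore_quotient_pPrimeCore (G := G)))
    (fun V _ hV => StableNormal.of_abelianTwo hp2 hab V hV) (S.mapSurjective hqs)
  rw [Sylow.coe_mapSurjective] at hn
  have hWimg : W.map q = Cfsg.centerThompsonOf p ((S : Subgroup G).map q) := by
    have h1 := ThompsonSubgroup.map_thompsonSubgroupOf (p := p) (K := (⊤ : Subgroup (S : Subgroup G))) hf
    have h2 := ThompsonSubgroup.map_thompsonSubgroupOf (p := p) (K := (⊤ : Subgroup (S : Subgroup G)))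
      (S : Subgroup G).subtype_injective
    rw [← MonoidHom.range_eq_map, MonoidHom.range_comp, Subgroup.range_subtype] at h1
    rw [← MonoidHom.range_eq_map, Subgroup.range_subtype] at h2
    rw [hW, Cfsg.centerThompsonOf, Cfsg.centerThompsonOf, ← h1, ← h2]
    ext y
    constructor
    · rintro ⟨x, ⟨⟨j, hj, rfl⟩, hxc⟩, rfl⟩
      refine ⟨⟨j, hj, rfl⟩, ?_⟩
      rintro _ ⟨i, hi, rfl⟩
      exact congrArg q (hxc _ ⟨i, hi, rfl⟩) |> fun h => by simpa [f] using h
    · rintro ⟨⟨j, hj, rfl⟩, hc⟩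
      refine ⟨(j : G), ⟨⟨j, hj, rfl⟩, ?_⟩, rfl⟩
      rintro _ ⟨i, hi, rfl⟩
      exact congrArg Subtype.val (hf (by rw [map_mul, map_mul]; exact hc _ ⟨i, hi, rfl⟩) : i * j = j * i)
  have : (W ⊔ R) = (W.map q).comap q := by
    rw [Subgroup.comap_map_eq, QuotientGroup.ker_mk']
  rw [this, hWimg]
  exact hn.comap q

end Cfsg.Agent.S1458
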