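import Cfsg.Statements.S1459
import Cfsg.Agent.OddLocal.Coprime

set_option autoImplicit false
open Cfsg

namespace Cfsg.Agent.S1459

open scoped commutatorElement

/-- A normal Hall subgroup inside the derived subgroup of a solvable group. -/
theorem core {X : Type*} [Group X] [Finite X] [Group.IsSolvable X] (H K : Subgroup X) (hn : H.Normal)
    (hc : (Nat.card H).Coprime H.index) (hK : Subgroup.IsComplement' H K) (hle : H ≤ commutator X) :
    H = ⁅H, K⁆ ∧ H ⊓ Subgroup.centralizer (K : Set X) ≤ ⁅H, H⁆ := by
  haveI := hn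
  have hgen : H ⊔ K = ⊤ := hK.sup_eq_top
  have hcop : (Nat.card K).Coprime (Nat.card H) := by
    rw [hK.symm.index_eq_card.symm]; exact hc.symm
  have hMn : (⁅H, K⁆).Normal := by
    refine Subgroup.normalizer_eq_top_iff.mp (top_le_iff.mp (hgen ▸ sup_le ?_ ?_))
    · exact Subgroup.normalizer_commutator_ge_left H K
    · exact Subgroup.normalizer_commutator_ge_right H K
  haveI := hMn
  have hsup : H ≤ ⁅H, H⁆ ⊔ ⁅H, K⁆ := by
    set M := ⁅H, H⁆ ⊔ ⁅H, K⁆ with hM
    haveI : M.Normal := Subgroup.sup_normal _ _
    set f := QuotientGroup.mk' M with hf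
    have hcen : ∀ h ∈ H, ∀ g : X, f h * f g = f g * f h := by
      intro h hh g
      have : (⊤ : Subgroup X) ≤ (Subgroup.centralizer {f h}).comap f := by
        refine hgen ▸ sup_le ?_ ?_
        · intro h' hh'
          refine Subgroup.mem_centralizer_singleton_iff.mpr (Eq.symm ?_)
          refine commutatorElement_eq_one_iff_commute.mp ?_
          rw [← map_commutatorElement]
          exact (QuotientGroup.eq_one_iff _).mpr
            (Subgroup.mem_sup_left (Subgroup.commutator_mem_commutator hh hh'))
        · intro k hk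
          refine Subgroup.mem_centralizer_singleton_iff.mpr (Eq.symm ?_)
          refine commutatorElement_eq_one_iff_commute.mp ?_
          rw [← map_commutatorElement]
          exact (QuotientGroup.eq_one_iff _).mpr
            (Subgroup.mem_sup_right (Subgroup.commutator_mem_commutator hh hk))
      exact (Subgroup.mem_centralizer_singleton_iff.mp (this (Subgroup.mem_top g))).symm
    have hder : commutator X ≤ M ⊔ ⁅K, K⁆ := by
      rw [commutator_def, Subgroup.commutator_le]
      intro a _ b _
      obtain ⟨ha1, hb1⟩ : a ∈ H ⊔ K ∧ b ∈ H ⊔ K := by rw [hgen]; exact ⟨trivial, trivial⟩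
      obtain ⟨h₁, hh₁, k₁, hk₁, rfl⟩ := Subgroup.mem_sup_of_normal_left.mp ha1
      obtain ⟨h₂, hh₂, k₂, hk₂, rfl⟩ := Subgroup.mem_sup_of_normal_left.mp hb1
      have e : f ⁅h₁ * k₁, h₂ * k₂⁆ = f ⁅k₁, k₂⁆ := by
        rw [map_commutatorElement, map_commutatorElement, map_mul, map_mul]
        have c1 := fun g => hcen h₁ hh₁ g
        have c2 := fun g => hcen h₂ hh₂ g
        have d1 : ∀ y, f h₁ * y = y * f h₁ := fun y => by
          obtain ⟨g, rfl⟩ := QuotientGroup.mk'_surjective M y; exact c1 g
        have d2 : ∀ y, f h₂ * y = y * f h₂ := fun y => by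
          obtain ⟨g, rfl⟩ := QuotientGroup.mk'_surjective M y; exact c2 g
        rw [commutatorElement_def, commutatorElement_def]
        calc f h₁ * f k₁ * (f h₂ * f k₂) * (f h₁ * f k₁)⁻¹ * (f h₂ * f k₂)⁻¹
            = f h₁ * (f k₁ * (f h₂ * f k₂) * (f k₁)⁻¹) * (f h₁)⁻¹ * ((f k₂)⁻¹ * (f h₂)⁻¹) := by group
          _ = f k₁ * (f h₂ * f k₂) * (f k₁)⁻¹ * ((f k₂)⁻¹ * (f h₂)⁻¹) := by
            rw [d1, mul_inv_cancel_right]
          _ = f h₂ * (f k₁ * f k₂ * (f k₁)⁻¹ * (f k₂)⁻¹) * (f h₂)⁻¹ := by
            rw [← mul_assoc (f k₁) (f h₂) (f k₂), ← d2 (f k₁)]; group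
          _ = f k₁ * f k₂ * (f k₁)⁻¹ * (f k₂)⁻¹ := by rw [d2, mul_inv_cancel_right]
      have hmem : ⁅h₁ * k₁, h₂ * k₂⁆ * ⁅k₁, k₂⁆⁻¹ ∈ M := by
        rw [← QuotientGroup.eq_one_iff]
        show f _ = 1
        rw [map_mul, map_inv, e, mul_inv_cancel]
      have := Subgroup.mul_mem_sup hmem (Subgroup.commutator_mem_commutator hk₁ hk₂)
      rwa [inv_mul_cancel_right] at this
    intro x hx
    obtain ⟨m, hm, k, hk, rfl⟩ := Subgroup.mem_sup_of_normal_left.mp (hder (hle hx))
    have hMH : M ≤ H := sup_le H.commutator_le_self (Subgroup.commutator_le_left H K)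
    have hkH : k ∈ H := (mul_mem_cancel_left (hMH hm)).mp hx
    rw [Subgroup.disjoint_def.mp hK.disjoint hkH (K.commutator_le_self hk), mul_one]
    exact hm
  have hHK : H = ⁅H, K⁆ := by
    refine le_antisymm ?_ (Subgroup.commutator_le_left H K)
    set g := QuotientGroup.mk' ⁅H, K⁆ with hg
    by_contra hne
    have hne' : H.map g ≠ ⊥ := by
      rw [Ne, Subgroup.map_eq_bot_iff, QuotientGroup.ker_mk']; exact hne
    refine (Cfsg.Agent.Coprime.commutator_lt_of_isSolvable inferInstance hne').not_ge ?_
    rw [← Subgroup.map_commutator]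
    intro y hy
    obtain ⟨x, hx, rfl⟩ := hy
    obtain ⟨a, ha, b, hb, rfl⟩ := Subgroup.mem_sup_of_normal_right.mp (hsup hx)
    exact ⟨a, ha, by rw [map_mul, (QuotientGroup.eq_one_iff b).mpr hb |>.trans rfl |> (show g b = 1 from ·), mul_one]⟩
  refine ⟨hHK, ?_⟩
  set g := QuotientGroup.mk' ⁅H, H⁆ with hg
  haveI : IsMulCommutative (H.map g) := by
    refine ⟨⟨fun a b => ?_⟩⟩
    obtain ⟨x, hx, hxa⟩ := a.2
    obtain ⟨y, hy, hyb⟩ := b.2
    ext
    show (a : X ⧸ ⁅H, H⁆) * b = b * a
    rw [← hxa, ← hyb]
    refine commutatorElement_eq_one_iff_commute.mp ?_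
    rw [← map_commutatorElement]
    exact (QuotientGroup.eq_one_iff _).mpr (Subgroup.commutator_mem_commutator hx hy)
  have hnormal : (H.map g).Normal := hn.map g (QuotientGroup.mk'_surjective _)
  have h0 := Cfsg.Agent.Coprime.inf_centralizer_inf_commutator (A := K.map g) (V := H.map g)
    (by rw [Subgroup.normalizer_eq_top]; exact le_top)
    ((hcop.coprime_dvd_left (Subgroup.card_map_dvd K g)).coprime_dvd_right (Subgroup.card_map_dvd H g))
  rw [← Subgroup.map_commutator, ← hHK, inf_right_comm, inf_idem] at h0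
  intro x hx
  rw [← QuotientGroup.eq_one_iff, ← Subgroup.mem_bot]
  show g x ∈ _
  rw [← h0]
  exact ⟨Subgroup.mem_map_of_mem g hx.1,
    Subgroup.map_centralizer_le_centralizer_image (K : Set X) g (Subgroup.mem_map_of_mem g hx.2)⟩



/-- Let G be a finite solvable group. (a) If H is a normal subgroup of order coprime to its index, K is a complement to H, and H ≤ G', then H = [H, K] and H ∩ C_G(K) ≤ [H, H]. (b) If G' is nilpotent and has prime index in G, then the order of G' is coprime to its index and G' = [G, K] (the subgroup generated by commutators of elements of G with elements of K) for every complement K of G'. -/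
theorem result {G : Type*} [Group G] [Finite G] [Group.IsSolvable G] :
    (∀ (H K : Subgroup G), H.Normal → (Nat.card H).Coprime H.index → Subgroup.IsComplement' H K → H ≤ commutator G →
        H = ⁅H, K⁆ ∧ H ⊓ Subgroup.centralizer (K : Set G) ≤ ⁅H, H⁆) ∧
      (Group.IsNilpotent ↥(commutator G) → (commutator G).index.Prime →
        (Nat.card ↥(commutator G)).Coprime (commutator G).index ∧
        ∀ K : Subgroup G, Subgroup.IsComplement' (commutator G) K → commutator G = ⁅(⊤ : Subgroup G), K⁆) := by
  have part1 : ∀ {X : Type _} [Group X] [Finite X] [Group.IsSolvable X] (H K : Subgroup X), H.Normal →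
      (Nat.card H).Coprime H.index → Subgroup.IsComplement' H K → H ≤ commutator X →
      H = ⁅H, K⁆ ∧ H ⊓ Subgroup.centralizer (K : Set X) ≤ ⁅H, H⁆ := fun H K hn hc hK hle =>
    core H K hn hc hK hle
  refine ⟨fun H K hn hc hK hle => core H K hn hc hK hle, fun hnil hq => ?_⟩
  set N := commutator G with hN
  haveI := hnil
  have hnd : (Nat.card N).Coprime N.index := by
    rw [Nat.coprime_comm, hq.coprime_iff_not_dvd]
    intro hdvd
    set q := N.index with hqdef
    haveI := Fact.mk hq
    -- a nilpotent group of order divisible by q has abelianization of such order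
    have hab : q ∣ (commutator N).index := by
      by_contra hnd
      obtain ⟨Q⟩ : Nonempty (Sylow q N) := inferInstance
      have hQn : (Q : Subgroup N).Normal :=
        inferInstance
      have hQle : (Q : Subgroup N) ≤ commutator N := by
        intro x hx
        rw [← QuotientGroup.eq_one_iff, ← orderOf_eq_one_iff]
        obtain ⟨k, hk⟩ := (Q.2 ⟨x, hx⟩)
        have h1 : orderOf (x : N ⧸ commutator N) ∣ q ^ k := by
          refine (orderOf_map_dvd (QuotientGroup.mk' (commutator N)) x).trans
            (orderOf_dvd_of_pow_eq_one ?_)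
          exact congrArg Subtype.val hk
        exact Nat.eq_one_of_dvd_coprimes ((hq.coprime_iff_not_dvd.mpr hnd).pow_left k) h1
          (orderOf_dvd_natCard _)
      obtain ⟨L, hL⟩ := Subgroup.exists_right_complement'_of_coprime (N := (Q : Subgroup N))
        Q.card_coprime_index
      have hQ := (part1 (Q : Subgroup N) L hQn Q.card_coprime_index hL hQle).1
      have hne : (Q : Subgroup N) ≠ ⊥ := Q.ne_bot_of_dvd_card hdvd
      haveI : Group.IsNilpotent (⊤ : Subgroup N) := Group.nilpotent_of_mulEquiv Subgroup.topEquiv.symm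
      have hlt := Cfsg.Agent.Coprime.commutator_lt_of_isNilpotent (Y := (⊤ : Subgroup N)) le_top hne
        (by rw [Subgroup.normalizer_eq_top])
      exact hlt.not_ge (hQ.le.trans (Subgroup.commutator_mono le_rfl le_top))
    let f := QuotientGroup.mk' (⁅N, N⁆ : Subgroup G)
    have hker : f.ker ≤ N := by rw [QuotientGroup.ker_mk']; exact N.commutator_le_self
    haveI : (N.map f).Normal := Subgroup.Normal.map inferInstance f (QuotientGroup.mk'_surjective _)
    haveI : IsMulCommutative (N.map f) := by
      refine ⟨⟨fun a b => ?_⟩⟩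
      obtain ⟨x, hx, hxa⟩ := a.2
      obtain ⟨y, hy, hyb⟩ := b.2
      ext
      show (a : G ⧸ ⁅N, N⁆) * b = b * a
      rw [← hxa, ← hyb]
      refine commutatorElement_eq_one_iff_commute.mp ?_
      rw [← map_commutatorElement]
      exact (QuotientGroup.eq_one_iff _).mpr (Subgroup.commutator_mem_commutator hx hy)
    refine OddLocal.Coprime.coprime_of_index_prime (V := N.map f) hq ?_ ?_ ?_
    · exact Subgroup.index_map_eq N (QuotientGroup.mk'_surjective _) hker
    · have h : (commutator G).map f = commutator _ := by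
        rw [commutator_def, Subgroup.map_commutator,
          Subgroup.map_top_of_surjective f (QuotientGroup.mk'_surjective _), ← commutator_def]
      exact h.symm
    · refine hab.trans (dvd_of_eq ?_)
      have h1 : (commutator N).map N.subtype = ⁅N, N⁆ := Subgroup.map_subtype_commutator N
      have h2 := Subgroup.card_mul_index (commutator N)
      have h3 := (Subgroup.relIndex_ker (K := N) f).symm
      have h4 : (commutator N).index = (⁅N, N⁆ : Subgroup G).relIndex N := by
        conv_rhs => rw [← h1, Subgroup.relIndex, Subgroup.subgroupOf,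
          Subgroup.comap_map_eq_self_of_injective N.subtype_injective]
      rw [h4, h3, QuotientGroup.ker_mk']
  refine ⟨hnd, fun K hK => le_antisymm ?_ ?_⟩
  · exact (part1 N K inferInstance hnd hK le_rfl).1.le.trans (Subgroup.commutator_mono le_top le_rfl)
  · rw [hN, commutator_def]; exact Subgroup.commutator_mono le_rfl le_top

end Cfsg.Agent.S1459
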