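import Cfsg.Statements.S1464
import Cfsg.Agent.OddLocal.Stability
import Cfsg.Agent.Lib.Cores.Basic
-- import your own Cfsg.Agent.* helpers here

set_option autoImplicit false
open Cfsg
open scoped commutatorElement

namespace Cfsg.Agent.S1464

/-- Let p be an odd prime and G a solvable group of odd order, P a p-subgroup with O_{p'}(G)P normal in G, and A a p-subgroup of N_G(P) with [[P, A], A] = 1. Then the image of A in the quotient N_G(P)/C_G(P) is contained in the p-core of that quotient. -/
theorem result {G : Type*} [Group G] [Finite G] [Group.IsSolvable G] (hodd : Odd (Nat.card G)) (p : ℕ) [Fact p.Prime] (hp : p ≠ 2) (P A : Subgroup G) (hP : IsPGroup p P) (hPn : (Cfsg.pPrimeCore p G ⊔ P).Normal)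
    (hA : IsPGroup p A) (hAN : A ≤ Subgroup.normalizer (P : Set G)) (hquad : ⁅⁅P, A⁆, A⁆ = ⊥) :
    (A.subgroupOf (Subgroup.normalizer (P : Set G))).map
        (QuotientGroup.mk' ((Subgroup.centralizer (P : Set G)).subgroupOf (Subgroup.normalizer (P : Set G))))
      ≤ Cfsg.pCore p _ := by
  set N := Subgroup.normalizer (P : Set G) with hN
  set C := (Subgroup.centralizer (P : Set G)).subgroupOf N with hC
  have : (P.subgroupOf N).Normal := Subgroup.normal_in_normalizer
  rintro _ ⟨a, ha, rfl⟩
  refine OddLocal.Stability.quadratic_mem_pCore hp (hodd.of_dvd_nat (Subgroup.card_subgroup_dvd_card N))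
    (P := P.subgroupOf N) (fun c hc => ?_)
    (hP.comap_of_injective N.subtype N.subtype_injective) (fun u hu => ?_)
  · rw [Subgroup.mem_subgroupOf, Subgroup.mem_centralizer_iff]
    intro y hy
    exact congrArg Subtype.val (Subgroup.mem_centralizer_iff.mp hc
      ⟨y, Subgroup.le_normalizer hy⟩ hy)
  · have h1 : ⁅(u : G), (a : G)⁆ ∈ ⁅P, A⁆ := Subgroup.commutator_mem_commutator hu ha
    have h2 : ⁅⁅(u : G), (a : G)⁆, (a : G)⁆ = 1 := by
      rw [← Subgroup.mem_bot, ← hquad]
      exact Subgroup.commutator_mem_commutator h1 ha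
    exact Subtype.ext (commutatorElement_eq_one_iff_mul_comm.mp h2)


end Cfsg.Agent.S1464
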