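import Cfsg.Agent.Base.RecEqns
import Cfsg.Statements.S1467
import Cfsg.Agent.OddLocal.Puig

set_option autoImplicit false
open Cfsg

namespace Cfsg.Agent.S1467

/-- Let G be a finite group with Puig series L_n(G). Then L_0 = 1, L_1 = G; L_{2n} ≤ L_{2n+2} ≤ L_{2m+3} ≤ L_{2m+1} for all n, m; there is k with L_{2n}(G) = L_*(G) and L_{2n+1}(G) = L(G) for all n ≥ k; L_*(G) ≤ L(G); and applying one Puig step to L_*(G) gives L(G) and to L(G) gives L_*(G). -/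
theorem result {G : Type*} [Group G] [Finite G] :
    Cfsg.puigSeq G 0 = ⊥ ∧ Cfsg.puigSeq G 1 = ⊤ ∧
      (∀ n m : ℕ, Cfsg.puigSeq G (2 * n) ≤ Cfsg.puigSeq G (2 * n + 2) ∧ Cfsg.puigSeq G (2 * n) ≤ Cfsg.puigSeq G (2 * m + 1) ∧
        Cfsg.puigSeq G (2 * m + 3) ≤ Cfsg.puigSeq G (2 * m + 1)) ∧
      (∃ k : ℕ, ∀ n : ℕ, k ≤ n → Cfsg.puigSeq G (2 * n) = Cfsg.puigLower G ∧ Cfsg.puigSeq G (2 * n + 1) = Cfsg.puigSubgroup G) ∧
      Cfsg.puigLower G ≤ Cfsg.puigSubgroup G ∧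
      Cfsg.puigStep (Cfsg.puigLower G) = Cfsg.puigSubgroup G ∧ Cfsg.puigStep (Cfsg.puigSubgroup G) = Cfsg.puigLower G := by
  refine ⟨OddLocal.Puig.puigSeq_zero, OddLocal.Puig.puigSeq_one, fun n m => ⟨?_, ?_, ?_⟩, OddLocal.Puig.stable, ?_⟩
  · rw [show 2 * n + 2 = 2 * (n + 1) by ring]
    exact OddLocal.Puig.even_mono (G := G) (Nat.le_succ n)
  · exact OddLocal.Puig.even_le_odd n m
  · rw [show 2 * m + 3 = 2 * (m + 1) + 1 by ring]
    exact OddLocal.Puig.odd_antitone (G := G) (Nat.le_succ m)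
  · obtain ⟨k, hk⟩ := OddLocal.Puig.stable (G := G)
    obtain ⟨e1, e2⟩ := hk k le_rfl
    obtain ⟨e3, -⟩ := hk (k + 1) (Nat.le_succ k)
    have hs : ∀ j : ℕ, Cfsg.puigStep (Cfsg.puigSeq G j) = Cfsg.puigSeq G (j + 1) :=
      fun j => (OddLocal.Puig.puigSeq_succ j).symm
    refine ⟨e1.symm.le.trans ((OddLocal.Puig.even_le_odd_self k).trans e2.le), ?_, ?_⟩
    · exact (congrArg Cfsg.puigStep e1.symm).trans ((hs (2 * k)).trans e2)
    · have e4 : 2 * (k + 1) = 2 * k + 1 + 1 := by ring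
      exact (congrArg Cfsg.puigStep e2.symm).trans
        ((hs (2 * k + 1)).trans ((congrArg (Cfsg.puigSeq G) e4.symm).trans e3))

end Cfsg.Agent.S1467
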