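import Cfsg.Statements.S1474
import Cfsg.Agent.OddLocal.CNHall
import Cfsg.Agent.Lib.Frobenius.Basic
-- import your own Cfsg.Agent.* helpers here

set_option autoImplicit false
open Cfsg

namespace Cfsg.Agent.S1474

/-- Let G be a finite group in which every non-identity element has nilpotent centralizer, not itself nilpotent, and having a nontrivial normal Sylow p-subgroup for some prime p. Let H be the largest normal nilpotent Hall subgroup of G. Then H is a nontrivial proper normal subgroup with a complement E that is a Frobenius complement in G (no non-identity element of E centralizes a non-identity element of H), and G/H is nilpotent. -/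
theorem result {G : Type*} [Group G] [Finite G] (hCN : Cfsg.IsCNGroup G) (hnn : ¬ Group.IsNilpotent G) (p : ℕ) [Fact p.Prime] (P : Sylow p G)
    (hP1 : (P : Subgroup G) ≠ ⊥) (hPn : (P : Subgroup G).Normal) :
    Cfsg.fittingHall G ≠ ⊥ ∧ Cfsg.fittingHall G ≠ ⊤ ∧
      (∃ E : Subgroup G, Subgroup.IsComplement' (Cfsg.fittingHall G) E ∧ Cfsg.IsFrobeniusComplement E ∧
        ∀ e ∈ E, e ≠ 1 → Cfsg.fittingHall G ⊓ Subgroup.centralizer ({e} : Set G) = ⊥) ∧
      Group.IsNilpotent (G ⧸ Cfsg.fittingHall G) := by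
  set M := Cfsg.fittingHall G with hM
  have hMn : M.Normal := Subgroup.sSup_normal _ (fun _ h => h.1)
  have hnil : Group.IsNilpotent M := OddLocal.CN.fittingHall_isNilpotent
  have hPM : (P : Subgroup G) ≤ M := le_sSup ⟨hPn, P.isPGroup'.isNilpotent, P.card_coprime_index⟩
  have hM1 : M ≠ ⊥ := fun h => hP1 (le_bot_iff.mp (h ▸ hPM))
  have hMtop : M ≠ ⊤ := fun h => hnn (by
    rw [h] at hnil
    exact Group.nilpotent_of_mulEquiv Subgroup.topEquiv)
  have hcopM := OddLocal.Basics.fittingHall_coprime G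
  obtain ⟨E, hE⟩ := Subgroup.exists_right_complement'_of_coprime (N := M) hcopM
  have hcard : Nat.card E = M.index := (Subgroup.IsComplement'.index_eq_card hE.symm).symm
  have hE1 : E ≠ ⊥ := fun h => hMtop (Subgroup.isComplement'_bot_right.mp (h ▸ hE))
  have hfpf : ∀ e ∈ E, e ≠ 1 → M ⊓ Subgroup.centralizer ({e} : Set G) = ⊥ := fun e he he1 =>
    OddLocal.CN.fpf_fittingHall hCN hM1
      ((hcard ▸ hcopM).symm.coprime_dvd_left (E.orderOf_dvd_natCard he)) he1
  have hEn : Group.IsNilpotent E :=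
    OddLocal.CN.fpf_isNilpotent hCN Subgroup.le_normalizer_of_normal hfpf hM1
  refine ⟨hM1, hMtop, ⟨E, hE, ?_, hfpf⟩, ?_⟩
  · refine (Frobenius.Basic.isFrobeniusComplement_of_fixedPointFree M E
      (disjoint_iff.mp hE.disjoint) hE.sup_eq_top hM1 hE1 fun h hh hh1 n hn hnh => ?_).1
    exact Subgroup.mem_bot.mp (hfpf h hh hh1 ▸
      (⟨hn, Subgroup.mem_centralizer_singleton_iff.mpr hnh⟩ :
        n ∈ M ⊓ Subgroup.centralizer ({h} : Set G)))
  · have := hEn
    refine Group.nilpotent_of_surjective ((QuotientGroup.mk' M).comp E.subtype) fun y => ?_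
    obtain ⟨g, rfl⟩ := QuotientGroup.mk'_surjective M y
    obtain ⟨m, hm, e, he, rfl⟩ := Subgroup.mem_sup_of_normal_left.mp
      (show g ∈ M ⊔ E from hE.sup_eq_top ▸ Subgroup.mem_top g)
    refine ⟨⟨e, he⟩, ?_⟩
    show QuotientGroup.mk' M e = QuotientGroup.mk' M (m * e)
    rw [map_mul, show QuotientGroup.mk' M m = 1 from (QuotientGroup.eq_one_iff m).mpr hm, one_mul]


end Cfsg.Agent.S1474
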