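import Cfsg.Statements.S1480
import Cfsg.Agent.Lib.CharP.TransitivityCore
import Cfsg.Agent.OddLocal.TransitivityLocal

set_option autoImplicit false
open Cfsg

namespace Cfsg.Agent.S1480

open scoped commutatorElement

open Subgroup in
/-- The core lemma applied in a centralizer. -/
theorem core_step {G : Type*} [Group G] [Finite G] {p : ℕ} [Fact p.Prime]
    (hloc : ∀ T : Subgroup G, IsPGroup p T → T ≠ ⊥ → Cfsg.IsPConstrained p ↥(Subgroup.normalizer (T : Set G)))
    (h2 : p = 2 → Cfsg.Agent.CharP.TransitivityCore.Class2 G p)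
    {E : Subgroup G} (hEp : IsPGroup p E)
    (hEfull : ∀ x ∈ Subgroup.centralizer (E : Set G), IsPGroup p (Subgroup.zpowers x) → x ∈ E)
    {b : G} (hb : IsPGroup p (zpowers b)) (hb1 : b ≠ 1) (hEb : E ≤ centralizer ({b} : Set G))
    {Y : Subgroup G} (hYb : Y ≤ centralizer ({b} : Set G)) (hY : (Nat.card Y).Coprime p)
    (hEY : E ≤ normalizer (Y : Set G)) : Y ≤ Cfsg.centralizerPPrimeCore p b := by
  set C := centralizer ({b} : Set G) with hC
  have hcon : Cfsg.IsPConstrained p C := by
    have hn := hloc _ hb (zpowers_ne_bot.mpr hb1)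
    have hle : C ≤ normalizer (zpowers b : Set G) := by
      rw [hC, ← centralizer_closure, ← zpowers_eq_closure]
      exact centralizer_le_normalizer _
    have h := Cfsg.Agent.InvChar.PConstrained.centralizer_constrained hn
      (P := (zpowers b).subgroupOf (normalizer (zpowers b : Set G))) hb.comap_subtype
    have e : centralizer (((zpowers b).subgroupOf (normalizer (zpowers b : Set G)) :
        Subgroup _) : Set (normalizer (zpowers b : Set G))) = C.subgroupOf (normalizer (zpowers b : Set G)) := by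
      rw [hC, ← centralizer_closure ({b} : Set G), ← zpowers_eq_closure]
      ext x
      simp only [mem_subgroupOf, mem_centralizer_iff, SetLike.mem_coe]
      exact ⟨fun hx t ht => congrArg Subtype.val (hx ⟨t, le_normalizer ht⟩ ht),
        fun hx t ht => Subtype.ext (hx t ht)⟩
    rw [e] at h
    exact Cfsg.Agent.InvChar.PConstrained.constrained_of_equiv (subgroupOfEquivOfLe hle) h
  have h := Cfsg.Agent.CharP.TransitivityCore.le_pPrimeCore hcon (A := E.subgroupOf C)
    (Y := Y.subgroupOf C) (fun hp2 T hT x hx y hy z hz => Subtype.ext ?_) hEp.comap_subtype ?_ ?_ ?_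
  · rw [Cfsg.centralizerPPrimeCore, ← map_subgroupOf_eq_of_le hYb]
    exact map_mono h
  · exact h2 hp2 _ (hT.map C.subtype) x ⟨x, hx, rfl⟩ y ⟨y, hy, rfl⟩ z ⟨z, hz, rfl⟩
  · intro x hx hxp
    refine hEfull x (mem_centralizer_iff.2 fun a ha => ?_) ?_
    · exact congrArg Subtype.val (mem_centralizer_iff.1 hx ⟨a, hEb ha⟩ ha)
    · have := hxp.map C.subtype
      rwa [MonoidHom.map_zpowers] at this
  · rwa [Nat.card_congr (subgroupOfEquivOfLe hYb).toEquiv]
  · intro a ha
    refine mem_normalizer_iff.2 fun y => ?_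
    exact mem_normalizer_iff.1 (hEY ha) y


/-- Let G be a finite group and p a prime such that the normalizer of every nontrivial p-subgroup of G is p-constrained; if p = 2 assume also that the Sylow 2-subgroups of G have nilpotency class at most 2. Let E be an abelian p-subgroup containing an elementary abelian subgroup of order p ^ 3 and containing every element of p-power order of C_G(E). Then for every prime q ≠ p, any two maximal E-invariant q-subgroups of G are conjugate by an element of O_{p'}(C_G(E)). -/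
theorem result {G : Type*} [Group G] [Finite G] (p : ℕ) [Fact p.Prime]
    (hloc : ∀ T : Subgroup G, IsPGroup p T → T ≠ ⊥ → Cfsg.IsPConstrained p ↥(Subgroup.normalizer (T : Set G)))
    (h2 : p = 2 → ∀ S : Sylow p G, Group.IsNilpotent (S : Subgroup G) ∧ Group.nilpotencyClass (S : Subgroup G) ≤ 2)
    (E : Subgroup G) (hEp : IsPGroup p E) (hEc : IsMulCommutative E) (hE3 : ¬ Cfsg.PRankLE p 2 E)
    (hEfull : ∀ x ∈ Subgroup.centralizer (E : Set G), IsPGroup p (Subgroup.zpowers x) → x ∈ E)
    (q : ℕ) [Fact q.Prime] (hqp : q ≠ p) :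
    ∀ Q₁ ∈ Cfsg.maxInvSubgroups ⊤ E {q}, ∀ Q₂ ∈ Cfsg.maxInvSubgroups ⊤ E {q},
        ∃ k ∈ Cfsg.piCoreOf (Cfsg.primesNotDvd p) (Subgroup.centralizer (E : Set G)), Q₂ = Q₁.map (MulAut.conj k).toMonoidHom := by
  classical
  have hcl : p = 2 → Cfsg.Agent.CharP.TransitivityCore.Class2 G p := by
    intro hp2 T hT x hx y hy z hz
    obtain ⟨S, hS⟩ := hT.exists_le_sylow
    obtain ⟨hn, hle⟩ := h2 hp2 S
    haveI := hn
    have h := (Subgroup.lowerCentralSeries_eq_bot_iff_nilpotencyClass_le (G := (S : Subgroup G))).2 hle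
    have hm : ⁅⁅(⟨x, hS hx⟩ : (S : Subgroup G)), (⟨y, hS hy⟩ : (S : Subgroup G))⁆, (⟨z, hS hz⟩ : (S : Subgroup G))⁆ ∈
        (⊤ : Subgroup (S : Subgroup G)).lowerCentralSeries 2 := by
      rw [Subgroup.lowerCentralSeries_succ, Subgroup.lowerCentralSeries_succ, Subgroup.lowerCentralSeries_zero]
      exact Subgroup.commutator_mem_commutator
        (Subgroup.commutator_mem_commutator (Subgroup.mem_top _) (Subgroup.mem_top _)) (Subgroup.mem_top _)
    rw [h, Subgroup.mem_bot] at hm
    exact congrArg Subtype.val hm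
  -- an elementary subgroup of order `p ^ 3`
  simp only [Cfsg.PRankLE, not_forall, not_le] at hE3
  obtain ⟨B, hBc, hBe, hBcard⟩ := hE3
  obtain ⟨k, hk⟩ := IsPGroup.iff_card.1 (hEp.to_subgroup B)
  rw [hk] at hBcard
  have hk3 : 3 ≤ k := (Nat.pow_lt_pow_iff_right (Fact.out : p.Prime).one_lt).1 hBcard
  obtain ⟨B3, hB3⟩ := Sylow.exists_subgroup_card_pow_prime p (G := B) (n := 3) (hk ▸ pow_dvd_pow p hk3)
  set E0 := (B3.map B.subtype).map E.subtype with hE0
  have hE0E : E0 ≤ E := Subgroup.map_subtype_le _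
  have hEcomm : ∀ a ∈ E, ∀ c ∈ E, a * c = c * a := fun a ha c hc =>
    congrArg Subtype.val (mul_comm' (⟨a, ha⟩ : E) ⟨c, hc⟩)
  have hE0el : Cfsg.IsElementaryAbelian p E0 := by
    refine ⟨⟨⟨fun u v => Subtype.ext (hEcomm _ (hE0E u.2) _ (hE0E v.2))⟩⟩, ?_⟩
    rintro _ ⟨_, ⟨a, -, rfl⟩, rfl⟩
    exact congrArg E.subtype (hBe a a.2)
  have hE0card : Nat.card E0 = p ^ 3 := by
    rw [hE0, Subgroup.card_map_of_injective E.subtype_injective,
      Subgroup.card_map_of_injective B.subtype_injective, hB3]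
  intro Q₁ h₁ Q₂ h₂
  have hEE0 : E ≤ Subgroup.centralizer (E0 : Set G) := fun a ha =>
    Subgroup.mem_centralizer_iff.2 fun c hc => hEcomm c (hE0E hc) a ha
  obtain ⟨c, hc, hcQ⟩ := Cfsg.Agent.OddLocal.TransitivityLocal.transitive hEp hE0E hEE0 hE0el hE0card hqp
    (fun b hb hb1 Y hY hYc hEY => core_step hloc hcl hEp hEfull
      (Cfsg.Agent.Components.Hyperplane.zpowers_isPGroup hE0el hb) hb1
      (fun a ha => Subgroup.mem_centralizer_singleton_iff.2 (hEcomm b (hE0E hb) a ha).symm)
      hY hYc hEY) h₁ h₂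
  -- `E` is a central Sylow subgroup of its centralizer
  set C := Subgroup.centralizer (E : Set G) with hCdef
  have hEC : E ≤ C := fun a ha => Subgroup.mem_centralizer_iff.2 fun b hb => hEcomm b hb a ha
  obtain ⟨S⟩ : Nonempty (Sylow p C) := inferInstance
  have hSE : ∀ s ∈ (S : Subgroup C), (s : G) ∈ E := fun s hs => by
    refine hEfull s s.2 ?_
    have := (S.isPGroup'.to_le (Subgroup.zpowers_le.2 hs)).map C.subtype
    rwa [MonoidHom.map_zpowers] at this
  have hN : Subgroup.normalizer ((S : Subgroup C) : Set C) ≤ Subgroup.centralizer (S : Set C) := fun g _ =>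
    Subgroup.mem_centralizer_iff.2 fun s hs =>
      Subtype.ext (Subgroup.mem_centralizer_iff.1 g.2 _ (hSE s hs))
  have hcompl := MonoidHom.ker_transferSylow_isComplement' S hN
  set K := (MonoidHom.transferSylow S hN).ker with hK
  have hcK : (⟨c, hc⟩ : C) ∈ ((S : Subgroup C) ⊔ K : Subgroup C) := by
    rw [hcompl.symm.sup_eq_top]; trivial
  obtain ⟨e, he, k', hk', hek⟩ := Subgroup.mem_sup_of_normal_right.1 hcK
  have hKpi : K ≤ Cfsg.piCore (Cfsg.primesNotDvd p) C := by
    refine Cfsg.Agent.Cores.le_piCore (fun r hr hd => ⟨hr, ?_⟩)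
    intro hrp
    have hrp' := (Nat.prime_dvd_prime_iff_eq hr (Fact.out : p.Prime)).1 hrp
    subst hrp'
    refine S.not_dvd_index ?_
    rw [hcompl.index_eq_card]
    exact hd
  refine ⟨(k' : G), Subgroup.mem_map_of_mem C.subtype (hKpi hk'), ?_⟩
  · have hc' : c = (e : G) * (k' : G) := (congrArg Subtype.val hek).symm
    rw [hcQ, hc', ← Cfsg.Agent.OddLocal.Transitivity.map_conj_map]
    refine Subgroup.mem_normalizer_iff_map_conj_eq.1 ?_
    refine (Cfsg.Agent.OddLocal.Transitivity.conj_mem_maxInvSubgroups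
      (Subgroup.centralizer_le_normalizer _ k'.2) h₁).1.2.2 (hSE e he)

end Cfsg.Agent.S1480
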