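import Cfsg.Statements.S1485
import Cfsg.Agent.Lib.Characters.Normal

set_option autoImplicit false
open Cfsg

namespace Cfsg.Agent.S1485

/-- Let H be a normal subgroup of the finite group G and θ an irreducible character of H. On H, the function induced from θ equals r times the sum of the distinct G-conjugates of θ, where r is the number of elements of G fixing θ under conjugation divided by the order of H (the index of H in the inertia group). -/
theorem result {G : Type*} [Group G] [Fintype G] (H : Subgroup G) [hN : H.Normal] (θ : H → ℂ) (hθ : Cfsg.IsIrrCharacter H θ) : (fun h : H => Cfsg.indFun H θ h) = ((Nat.card {g : G // ∀ h : H, θ ⟨g * h * g⁻¹, hN.conj_mem h h.2 g⟩ = θ h} : ℂ) / (Nat.card H : ℂ)) • ∑ᶠ ψ ∈ {ψ : H → ℂ | ∃ g : G, ψ = fun h : H => θ ⟨g * h * g⁻¹, hN.conj_mem h h.2 g⟩}, ψ := by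
  classical
  set s := Finset.univ.image (fun g : G => Characters.conjFun H θ g) with hs
  have hset : {ψ : H → ℂ | ∃ g : G, ψ = fun h : H => θ ⟨g * h * g⁻¹, hN.conj_mem h h.2 g⟩}
      = (s : Set (H → ℂ)) := by
    ext ψ
    simp only [hs, Finset.coe_image, Finset.coe_univ, Set.image_univ, Set.mem_range, Set.mem_ofPred_eq]
    exact ⟨fun ⟨g, hg⟩ => ⟨g, hg.symm⟩, fun ⟨g, hg⟩ => ⟨g, hg.symm⟩⟩
  rw [hset, finsum_mem_coe_finset, Characters.indFun_restrict_normal]
  have hcard : (Nat.card {g : G // ∀ h : H, θ ⟨g * h * g⁻¹, hN.conj_mem h h.2 g⟩ = θ h}) =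
      (Finset.univ.filter fun g : G => Characters.conjFun H θ g = θ).card := by
    rw [← Fintype.card_subtype, ← Nat.card_eq_fintype_card]
    exact Nat.card_congr (Equiv.subtypeEquivRight fun g => ⟨fun h => funext h, fun h x => congrFun h x⟩)
  rw [hcard, div_eq_inv_mul, mul_smul]
  congr 1
  rw [Fintype.sum_equiv (Equiv.inv G) (fun x => Characters.conjFun H θ x⁻¹)
      (fun x => Characters.conjFun H θ x) (fun _ => rfl),
    ← Finset.sum_fiberwise_of_maps_to (t := s) (g := fun g : G => Characters.conjFun H θ g)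
      (fun g _ => Finset.mem_image_of_mem _ (Finset.mem_univ g)), Finset.smul_sum]
  refine Finset.sum_congr rfl fun ψ hψ => ?_
  obtain ⟨g₀, -, rfl⟩ := Finset.mem_image.1 hψ
  rw [Finset.sum_congr rfl fun x hx => (Finset.mem_filter.1 hx).2, Finset.sum_const,
    ← Nat.cast_smul_eq_nsmul ℂ]
  congr 2
  refine Finset.card_equiv (Equiv.mulRight g₀⁻¹) fun x => ?_
  simp only [Finset.mem_filter, Finset.mem_univ, true_and, Equiv.coe_mulRight]
  have h1 : Characters.conjFun H θ 1 = θ := by funext n; simp [Characters.conjFun]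
  constructor
  · intro h
    rw [Characters.conjFun_mul, h, ← Characters.conjFun_mul, mul_inv_cancel, h1]
  · intro h
    have := congrArg (fun f => Characters.conjFun H f g₀) h
    simp only [← Characters.conjFun_mul, inv_mul_cancel_right] at this
    exact this

end Cfsg.Agent.S1485
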