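import Cfsg.Statements.S1487
import Cfsg.Agent.Lib.Characters.Normal

set_option autoImplicit false
open Cfsg

namespace Cfsg.Agent.S1487

/-- Let A ≤ H be normal subgroups of the finite group G and θ an irreducible character of H. Then θ takes the value θ 1 on all of A if and only if the function induced from θ to G takes its value at 1 on all of A. -/
theorem result {G : Type*} [Group G] [Fintype G] (A H : Subgroup G) [A.Normal] [H.Normal] (hAH : A ≤ H) (θ : H → ℂ) (hθ : Cfsg.IsIrrCharacter H θ) : (∀ a : H, (a : G) ∈ A → θ a = θ 1) ↔ (∀ a : G, a ∈ A → Cfsg.indFun H θ a = Cfsg.indFun H θ 1) := by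
  classical
  have hval : ∀ a : G, ∀ ha : a ∈ A, Cfsg.indFun H θ a = (Nat.card H : ℂ)⁻¹ *
      ∑ x : G, θ ⟨x⁻¹ * a * x, hAH (by simpa using Subgroup.Normal.conj_mem inferInstance a ha x⁻¹)⟩ := by
    intro a ha
    simp only [Cfsg.indFun]
    congr 1
    exact Finset.sum_congr rfl fun x _ => CharTheory.IndBasic.extendByZero_of_mem H θ _
  have hone : ∀ x : G, θ ⟨x⁻¹ * 1 * x, hAH (by simpa using A.one_mem)⟩ = θ 1 := fun x =>
    congrArg θ (Subtype.ext (by simp))
  constructor
  · intro h a ha
    rw [hval a ha, hval 1 A.one_mem]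
    congr 1
    refine Finset.sum_congr rfl fun x _ => (h _ ?_).trans (hone x).symm
    simpa using Subgroup.Normal.conj_mem inferInstance a ha x⁻¹
  · intro h a ha
    have hc := Characters.isCharacter_of_isIrr hθ
    obtain ⟨n, hn⟩ := Characters.char_one_nat hc
    have hb : ∀ y : H, (θ y).re ≤ (n : ℝ) := fun y =>
      ((Complex.re_le_norm _).trans (Characters.char_norm_le hc y)).trans (by simp [hn])
    have h2 := h a ha
    rw [hval _ ha, hval 1 A.one_mem] at h2
    have h3 := congrArg Complex.re (mul_left_cancel₀ (inv_ne_zero (Nat.cast_ne_zero.2 Nat.card_pos.ne')) h2)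
    simp only [hone, Complex.re_sum, hn, Complex.natCast_re] at h3
    have h4 := (Finset.sum_eq_sum_iff_of_le fun x _ => hb _).1 h3 1 (Finset.mem_univ _)
    have h5 : (θ a).re = (n : ℝ) := by
      refine Eq.trans ?_ h4
      exact congrArg (fun y => (θ y).re) (Subtype.ext (by simp))
    have h6 : ‖θ a‖ ≤ (n : ℝ) := (Characters.char_norm_le hc a).trans (by simp [hn])
    rw [hn]
    apply Complex.ext
    · simpa using h5
    · have h7 := Complex.normSq_add_mul_I (θ a).re (θ a).im
      rw [Complex.re_add_im, Complex.normSq_eq_norm_sq, h5] at h7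
      have h8 : ‖θ a‖ ^ 2 ≤ (n : ℝ) ^ 2 := by gcongr
      have : (θ a).im ^ 2 = 0 := le_antisymm (by linarith) (sq_nonneg _)
      simpa using pow_eq_zero_iff two_ne_zero |>.1 this

end Cfsg.Agent.S1487
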