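import Cfsg.Statements.S1488
import Cfsg.Agent.Lib.Characters.Normal

set_option autoImplicit false
open Cfsg

namespace Cfsg.Agent.S1488

/-- Let A be a normal subgroup of the finite group G contained in the subgroup H, let θ be a function on H and θ₁ a function on the image of H in G ⧸ A whose composite with the projection is θ. Then the function induced from θ₁ to G ⧸ A, composed with the projection G → G ⧸ A, equals the function induced from θ to G. -/
theorem result {G : Type*} [Group G] [Fintype G] (A H : Subgroup G) [A.Normal] (hAH : A ≤ H) [Fintype (G ⧸ A)] [Fintype ↥(H.map (QuotientGroup.mk' A))] (θ : H → ℂ) (θ₁ : ↥(H.map (QuotientGroup.mk' A)) → ℂ) (hθ : ∀ x : H, θ₁ ⟨QuotientGroup.mk' A x, Subgroup.mem_map_of_mem _ x.2⟩ = θ x) (g : G) : Cfsg.indFun (H.map (QuotientGroup.mk' A)) θ₁ (QuotientGroup.mk' A g) = Cfsg.indFun H θ g := by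
  classical
  have hfib : ∀ f : (G ⧸ A) → ℂ, ∑ x : G, f ((QuotientGroup.mk' A) x) = (Nat.card A : ℂ) * ∑ y : G ⧸ A, f y := by
    intro f
    rw [← Finset.sum_fiberwise Finset.univ (fun x : G => (QuotientGroup.mk' A) x), Finset.mul_sum]
    refine Finset.sum_congr rfl fun y _ => ?_
    rw [Finset.sum_congr rfl fun x hx => congrArg f (Finset.mem_filter.1 hx).2, Finset.sum_const,
      nsmul_eq_mul]
    congr 2
    obtain ⟨y, rfl⟩ := QuotientGroup.mk'_surjective A y
    rw [← Fintype.card_subtype, ← Nat.card_eq_fintype_card]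
    refine Nat.card_congr ⟨fun x => ⟨y⁻¹ * x.1, QuotientGroup.eq.1 x.2.symm⟩, fun a => ⟨y * a.1, ?_⟩,
      fun x => Subtype.ext (by simp), fun a => Subtype.ext (by simp)⟩
    refine (QuotientGroup.eq.2 ?_).symm
    simp
  have hmem : ∀ y : G, (QuotientGroup.mk' A) y ∈ H.map (QuotientGroup.mk' A) ↔ y ∈ H := by
    refine fun y => ⟨?_, fun h => Subgroup.mem_map_of_mem _ h⟩
    rintro ⟨h, hh, e⟩
    simpa using H.mul_mem hh (hAH (QuotientGroup.eq.1 e))
  have hext : ∀ y : G, Cfsg.extendByZero (H.map (QuotientGroup.mk' A)) θ₁ ((QuotientGroup.mk' A) y) = Cfsg.extendByZero H θ y := by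
    intro y
    by_cases hy : y ∈ H
    · rw [CharTheory.IndBasic.extendByZero_of_mem _ _ ((hmem y).2 hy),
        CharTheory.IndBasic.extendByZero_of_mem _ _ hy]
      exact hθ ⟨y, hy⟩
    · rw [CharTheory.IndBasic.extendByZero_of_notMem _ _ (fun h => hy ((hmem y).1 h)),
        CharTheory.IndBasic.extendByZero_of_notMem _ _ hy]
  have hcardH : (Nat.card H : ℂ) = (Nat.card A : ℂ) * (Nat.card ↥(H.map (QuotientGroup.mk' A)) : ℂ) := by
    have h := hfib fun z => if z ∈ H.map (QuotientGroup.mk' A) then 1 else 0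
    simp only [hmem, Finset.sum_boole] at h
    simpa [Nat.card_eq_fintype_card, Fintype.card_subtype] using h
  have hA : (Nat.card A : ℂ) ≠ 0 := Nat.cast_ne_zero.2 Nat.card_pos.ne'
  simp only [Cfsg.indFun]
  rw [← Finset.sum_congr rfl fun x _ => hext (x⁻¹ * g * x), hcardH]
  simp only [map_mul, map_inv]
  rw [hfib fun z => Cfsg.extendByZero (H.map (QuotientGroup.mk' A)) θ₁ (z⁻¹ * (QuotientGroup.mk' A) g * z)]
  field_simp

end Cfsg.Agent.S1488
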