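import Cfsg.Statements.S1492
import Cfsg.Agent.OddChar.Constituent

set_option autoImplicit false
open Cfsg

namespace Cfsg.Agent.S1492

/-- Let ψ be an irreducible character of the finite group G and B ≤ D ≤ C subgroups with B normal in C, every commutator of an element of D with an element of C lying in B (so D/B is central in C/B), and ψ constant equal to ψ 1 on B. Then ψ(1) ^ 2 * |C| * |D| ≤ |G| ^ 2. -/
theorem result {G : Type*} [Group G] [Finite G] (ψ : G → ℂ) (hψ : Cfsg.IsIrrCharacter G ψ) (B C D : Subgroup G) (hBD : B ≤ D) (hDC : D ≤ C) (hBn : ∀ c ∈ C, ∀ b ∈ B, c * b * c⁻¹ ∈ B) (hcent : ∀ d ∈ D, ∀ c ∈ C, d * c * d⁻¹ * c⁻¹ ∈ B) (hker : ∀ b ∈ B, ψ b = ψ 1) : ‖ψ 1‖ ^ 2 * (Nat.card C : ℝ) * (Nat.card D : ℝ) ≤ (Nat.card G : ℝ) ^ 2 := by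
  classical
  haveI := Fintype.ofFinite G
  haveI := Fintype.ofFinite C
  have hc := Characters.isCharacter_of_isIrr hψ
  set ξ : C → ℂ := fun x => ψ x with hξdef
  have hξ : Cfsg.IsCharacter C ξ := Characters.isCharacter_restrict C hc
  obtain ⟨θ, hθ, hinner⟩ := OddChar.Constituent.exists_constituent hξ
    (by simpa [hξdef] using Characters.irr_one_ne_zero hψ)
  have hθc := Characters.isCharacter_of_isIrr hθ
  obtain ⟨t, ht0, ht⟩ := Characters.irr_one_pos hθ
  obtain ⟨p, hp0, hp⟩ := Characters.irr_one_pos hψ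
  have hBker : ∀ b (hb : b ∈ B), θ ⟨b, hDC (hBD hb)⟩ = θ 1 := fun b hb =>
    OddChar.Constituent.constituent_apply_eq_one hξ hθ hinner
      (by simpa [hξdef] using hker b hb)
  -- `D` acts by scalars
  have hnorm : ∀ d (hd : d ∈ D), ‖θ ⟨d, hDC hd⟩‖ = (t : ℝ) := by
    obtain ⟨n, ρ, hρ, hθρ⟩ := hθ
    haveI := hρ
    intro d hd
    have hcomm : ∀ c : C, ρ ⟨d, hDC hd⟩ ∘ₗ ρ c = ρ c ∘ₗ ρ ⟨d, hDC hd⟩ := by
      intro c
      have hb := hcent d hd c c.2
      have hid : ρ ⟨_, hDC (hBD hb)⟩ = LinearMap.id := by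
        refine Characters.rep_apply_eq_id_of_char_eq ρ _ ?_
        rw [← ρ.char_one, hθρ]
        exact hBker _ hb
      have he : (⟨d, hDC hd⟩ : C) * c = ⟨_, hDC (hBD hb)⟩ * (c * ⟨d, hDC hd⟩) :=
        Subtype.ext (by simp [mul_assoc])
      rw [← Module.End.mul_eq_comp, ← Module.End.mul_eq_comp, ← map_mul, ← map_mul, he, map_mul,
        hid]
      rfl
    obtain ⟨z, hz⟩ := Characters.schur_scalar ρ (ρ ⟨d, hDC hd⟩)
      fun c v => LinearMap.congr_fun (hcomm c) v
    have h1 : θ 1 = (Module.finrank ℂ (Fin n → ℂ) : ℂ) := by rw [← hθρ]; exact ρ.char_one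
    have hv : θ ⟨d, hDC hd⟩ = z * θ 1 := by
      rw [h1, ← hθρ]
      simp [Representation.character, hz]
    -- `z` is a root of unity
    have hzn : ‖z‖ = 1 := by
      refine Complex.norm_eq_one_of_pow_eq_one (n := orderOf (⟨d, hDC hd⟩ : C)) ?_
        (orderOf_pos _).ne'
      have hpow : ∀ k : ℕ, ρ (⟨d, hDC hd⟩ ^ k) = z ^ k • LinearMap.id := by
        intro k
        induction k with
        | zero => simp [Module.End.one_eq_id]
        | succ k ih =>
          rw [pow_succ, map_mul, ih, hz, pow_succ, Module.End.mul_eq_comp]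
          ext v
          simp [mul_smul, mul_comm, mul_left_comm]
      have hp := hpow (orderOf (⟨d, hDC hd⟩ : C))
      rw [pow_orderOf_eq_one, map_one] at hp
      have h2 := congrArg (LinearMap.trace ℂ (Fin n → ℂ)) hp
      simp only [map_smul, LinearMap.trace_id, LinearMap.trace_one, smul_eq_mul] at h2
      rw [← h1, ht] at h2
      exact mul_right_cancel₀ (b := (t : ℂ)) (Nat.cast_ne_zero.2 ht0.ne') (by rw [one_mul]; exact h2.symm)
    rw [hv, norm_mul, hzn, one_mul, ht, Complex.norm_natCast]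
  have hsq : (Nat.card D : ℝ) * (t : ℝ) ^ 2 ≤ (Nat.card C : ℝ) := by
    have h := Characters.classInner_isIrr_self hθ
    rw [Characters.classInner_def, inv_mul_eq_iff_eq_mul₀ Characters.natCard_ne_zero, mul_one] at h
    have h' := congrArg Complex.re h
    simp only [Complex.re_sum, Complex.mul_conj, Complex.ofReal_re, Complex.natCast_re,
      Complex.normSq_eq_norm_sq] at h'
    rw [← h']
    calc (Nat.card D : ℝ) * (t : ℝ) ^ 2
        = ∑ x ∈ Finset.univ.filter (fun x : C => (x : G) ∈ D), ‖θ x‖ ^ 2 := by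
          rw [Finset.sum_congr rfl (g := fun _ => (t : ℝ) ^ 2) (fun x hx => by
              rw [← hnorm (x : G) (Finset.mem_filter.1 hx).2]), Finset.sum_const, nsmul_eq_mul]
          congr 2
          rw [Nat.card_congr ((Subgroup.subgroupOfEquivOfLe hDC).symm.toEquiv), ← Fintype.card_subtype,
            ← Nat.card_eq_fintype_card]
          rfl
      _ ≤ ∑ x : C, ‖θ x‖ ^ 2 :=
          Finset.sum_le_sum_of_subset_of_nonneg (Finset.filter_subset _ _) fun _ _ _ => sq_nonneg _
  have hdeg : (p : ℝ) ≤ (C.index : ℝ) * (t : ℝ) := by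
    have hne : Cfsg.classInner (Cfsg.indFun C θ) ψ ≠ 0 := by
      rw [Characters.frobenius_reciprocity C θ (Characters.char_isClassFunction hc),
        Characters.classInner_conj_symm ξ θ]
      simpa using hinner
    have h := Characters.irr_degree_le (Characters.isCharacter_indFun C hθc) hψ hne
    rw [Characters.indFun_one, hp, ht] at h
    simpa using h
  have hG : (Nat.card G : ℝ) = (C.index : ℝ) * (Nat.card C : ℝ) := by
    rw [← Nat.cast_mul, Subgroup.index_mul_card]
  rw [hp, Complex.norm_natCast, hG]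
  calc (p : ℝ) ^ 2 * (Nat.card C : ℝ) * (Nat.card D : ℝ)
      ≤ ((C.index : ℝ) * (t : ℝ)) ^ 2 * (Nat.card C : ℝ) * (Nat.card D : ℝ) := by gcongr
    _ = (C.index : ℝ) ^ 2 * (Nat.card C : ℝ) * ((Nat.card D : ℝ) * (t : ℝ) ^ 2) := by ring
    _ ≤ (C.index : ℝ) ^ 2 * (Nat.card C : ℝ) * (Nat.card C : ℝ) := by gcongr
    _ = _ := by ring

end Cfsg.Agent.S1492
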