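import Cfsg.Statements.S1494
import Cfsg.Agent.OddChar.Lattice
import Cfsg.Agent.Lib.Characters.Kernel

set_option autoImplicit false
open Cfsg

namespace Cfsg.Agent.S1494

/-- Let χ be a generalized character of the finite group G, p a prime, x an element of order p and y an element commuting with x. Then χ(x * y) − χ(y) = (1 − ε) * ω for some algebraic integer ω, where ε = exp(2πi/p). -/
theorem result {G : Type*} [Group G] [Finite G] (χ : G → ℂ) (hχ : Cfsg.IsGeneralizedCharacter G χ) (p : ℕ) (hp : p.Prime) (x y : G) (hx : orderOf x = p) (hxy : x * y = y * x) : ∃ ω : ℂ, IsIntegral ℤ ω ∧ χ (x * y) - χ y = (1 - Complex.exp (2 * Real.pi * Complex.I / p)) * ω := by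
  classical
  haveI := Fintype.ofFinite G
  set ζ := Complex.exp (2 * Real.pi * Complex.I / p) with hζdef
  have hζ : IsPrimitiveRoot ζ p := Complex.isPrimitiveRoot_exp p hp.ne_zero
  have hint : IsIntegral ℤ ζ := hζ.isIntegral hp.pos
  haveI : NeZero p := ⟨hp.ne_zero⟩
  set A := Subgroup.closure ({x, y} : Set G) with hA
  have hcomm : ∀ a b : A, a * b = b * a := by
    have hs : ({x, y} : Set G).Pairwise Commute := by
      intro a ha b hb _
      simp only [Set.mem_insert_iff, Set.mem_singleton_iff] at ha hb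
      rcases ha with rfl | rfl <;> rcases hb with rfl | rfl
      exacts [Commute.refl _, hxy, hxy.symm, Commute.refl _]
    haveI : IsMulCommutative A := Subgroup.isMulCommutative_closure (by
      intro a ha b hb
      by_cases h : a = b
      · rw [h]
      · exact hs ha hb h)
    exact fun a b => mul_comm' a b
  haveI := Fintype.ofFinite A
  haveI := Fintype.ofFinite (Cfsg.IrrCharacter A)
  have hxA : x ∈ A := Subgroup.subset_closure (by simp)
  have hyA : y ∈ A := Subgroup.subset_closure (by simp)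
  set X : A := ⟨x, hxA⟩
  set Y : A := ⟨y, hyA⟩
  have hX : X ^ p = 1 := Subtype.ext (by
    show x ^ p = 1
    rw [← hx, pow_orderOf_eq_one])
  have hlin : ∀ ψ : Cfsg.IrrCharacter A, ∃ ω : ℂ, IsIntegral ℤ ω ∧
      (ψ : A → ℂ) (X * Y) - (ψ : A → ℂ) Y = (1 - ζ) * ω := by
    intro ψ
    have h1 := Characters.irr_degree_one_of_comm hcomm ψ.2
    have hmul := Characters.char_mul_of_degree_one (Characters.irr_isCharacter ψ) h1
    set lam := Characters.linearOfDegreeOne (Characters.irr_isCharacter ψ) h1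
    have hval : ∀ a : A, (ψ : A → ℂ) a = (lam a : ℂ) := fun a => by
      simp [lam, Characters.linearOfDegreeOne]
    have hp1 : ((lam X : ℂ)) ^ p = 1 := by
      rw [← Units.val_pow_eq_pow_val, ← map_pow, hX, map_one, Units.val_one]
    obtain ⟨k, -, hk⟩ := hζ.eq_pow_of_pow_eq_one hp1
    refine ⟨-(lam Y : ℂ) * ∑ j ∈ Finset.range k, ζ ^ j, ?_, ?_⟩
    · refine ((hval Y) ▸ Characters.char_value_isIntegral (Characters.irr_isCharacter ψ) Y).neg.mul
        (IsIntegral.sum _ fun j _ => hint.pow j)
    · rw [hmul, hval X, hval Y, ← hk]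
      linear_combination (lam Y : ℂ) * (mul_neg_geom_sum ζ k)
  have hres : Cfsg.IsGeneralizedCharacter A (fun a : A => χ a) := Characters.isGen_restrict A hχ
  choose ω hω hωe using hlin
  refine ⟨∑ ψ : Cfsg.IrrCharacter A, (OddChar.Lattice.coeff (fun a : A => χ a) ψ : ℂ) * ω ψ,
    IsIntegral.sum _ fun ψ _ => (isIntegral_algebraMap (R := ℤ) (A := ℂ) (x := _)).mul (hω ψ), ?_⟩
  have e1 := OddChar.Lattice.apply_eq_sum hres (X * Y)
  have e2 := OddChar.Lattice.apply_eq_sum hres Y
  simp only [X, Y, Subgroup.coe_mul] at e1 e2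
  rw [e1, e2, ← Finset.sum_sub_distrib, Finset.mul_sum]
  exact Finset.sum_congr rfl fun ψ _ => by rw [← mul_sub, hωe ψ]; ring

end Cfsg.Agent.S1494
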