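import Cfsg.Statements.S1497
import Mathlib

set_option autoImplicit false
open Cfsg

namespace Cfsg.Agent.S1497

/-- Let A be a nonempty subset of the finite group G not containing 1 and L a subgroup. Then A is a TI-subset whose normaliser is L if and only if the Dade hypothesis holds for A, L and the constant choice H(a) = ⊥. -/
theorem result {G : Type*} [Group G] [Finite G] (A : Set G) (hA : A.Nonempty) (h1 : (1 : G) ∉ A) (L : Subgroup G) : (Cfsg.IsTISubset A ∧ Subgroup.normalizer A = L) ↔ Cfsg.DadeHypothesis A L (fun _ => ⊥) := by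
  constructor
  · rintro ⟨hTI, rfl⟩
    have hcent : ∀ a ∈ A, Subgroup.centralizer ({a} : Set G) ≤ Subgroup.normalizer A := by
      intro a ha c hc
      by_contra hcN
      refine h1 ?_
      have he : c * a * c⁻¹ = a := by
        rw [Subgroup.mem_centralizer_singleton_iff.1 hc, mul_inv_cancel_right]
      rwa [← hTI c hcN a ha (by rw [he]; exact ha)]
    refine ⟨h1, ?_, ?_, ?_, fun a _ => bot_le, ?_, fun a _ => bot_inf_eq _, ?_, ?_⟩
    · intro a ha
      exact hcent a ha (Subgroup.mem_centralizer_singleton_iff.2 rfl)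
    · intro x hx a ha
      exact (hx a).1 ha
    · intro a ha g hg
      by_cases hgN : g ∈ Subgroup.normalizer A
      · exact ⟨g, hgN, rfl⟩
      · exact absurd (hTI g hgN a ha hg ▸ ha) h1
    · intro a _ c _ u hu
      rw [Subgroup.mem_bot] at hu ⊢
      rw [hu, mul_one, mul_inv_cancel]
    · intro a ha
      rw [bot_sup_eq, inf_eq_right.2 (hcent a ha)]
    · intro a _ b _
      rw [Subgroup.card_bot]
      exact Nat.coprime_one_left _
  · intro hD
    have hkey : ∀ g : G, ∀ a ∈ A, g * a * g⁻¹ ∈ A → g ∈ L := by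
      intro g a ha hg
      obtain ⟨x, hx, he⟩ := hD.fusion a ha g hg
      have hc : x⁻¹ * g ∈ Subgroup.centralizer ({a} : Set G) := by
        rw [Subgroup.mem_centralizer_singleton_iff]
        calc x⁻¹ * g * a = x⁻¹ * (g * a * g⁻¹) * g := by group
          _ = x⁻¹ * (x * a * x⁻¹) * g := by rw [he]
          _ = a * (x⁻¹ * g) := by group
      rw [← hD.sup_eq a ha, bot_sup_eq] at hc
      simpa using L.mul_mem hx hc.1
    have hN : Subgroup.normalizer A = L := by
      refine le_antisymm (fun g hg => ?_) fun x hx a => ⟨hD.conj_mem x hx a, fun ha => ?_⟩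
      · obtain ⟨a, ha⟩ := hA
        exact hkey g a ha ((hg a).1 ha)
      · have := hD.conj_mem x⁻¹ (L.inv_mem hx) _ ha
        simpa [mul_assoc] using this
    exact ⟨fun g hg x hx hgx => absurd (hkey g x hx hgx) (hN ▸ hg), hN⟩

end Cfsg.Agent.S1497
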