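import Cfsg.Statements.S1499
import Cfsg.Agent.OddChar.Dade.Basic

set_option autoImplicit false
open Cfsg

namespace Cfsg.Agent.S1499

/-- Under the Dade hypothesis for (A, L, H), let a, b ∈ A. If an element of the coset a·H(a) is conjugate in G to an element of b·H(b), then a and b are conjugate by an element of L. Moreover the set normaliser of the coset a·H(a) is the centraliser of a. -/
theorem result {G : Type*} [Group G] [Finite G] (A : Set G) (L : Subgroup G) (H : G → Subgroup G) (hD : Cfsg.DadeHypothesis A L H) (a b : G) (ha : a ∈ A) (hb : b ∈ A) : ((∃ u ∈ H a, ∃ v ∈ H b, ∃ g : G, g * (a * u) * g⁻¹ = b * v) → ∃ x ∈ L, x * a * x⁻¹ = b) ∧ Subgroup.normalizer ((fun u : G => a * u) '' (H a : Set G)) = Subgroup.centralizer ({a} : Set G) := by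
  refine ⟨?_, ?_⟩
  · rintro ⟨u, hu, v, hv, g, h⟩
    exact OddChar.Dade.exists_fusion hD ha hb (OddChar.Dade.conj_eq hD ha hb hu hv h).1
  · ext g
    rw [Subgroup.mem_centralizer_singleton_iff]
    constructor
    · intro hg
      have hm : g * (a * 1) * g⁻¹ ∈ (fun u : G => a * u) '' (H a : Set G) :=
        (Subgroup.mem_set_normalizer_iff.1 hg _).1 ⟨1, (H a).one_mem, rfl⟩
      obtain ⟨v, hv, e⟩ := hm
      have h1 := (OddChar.Dade.conj_eq hD ha ha (H a).one_mem hv e.symm).1
      calc g * a = g * a * g⁻¹ * g := by group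
        _ = a * g := by rw [h1]
    · intro hg
      have hsub : ∀ c : G, c * a = a * c → ∀ w ∈ (fun u : G => a * u) '' (H a : Set G),
          c * w * c⁻¹ ∈ (fun u : G => a * u) '' (H a : Set G) := by
        rintro c hc w ⟨u, hu, rfl⟩
        refine ⟨c * u * c⁻¹, hD.conj_mem_H a ha c (Subgroup.mem_centralizer_singleton_iff.2 hc) u hu, ?_⟩
        show a * (c * u * c⁻¹) = c * (a * u) * c⁻¹
        rw [← mul_assoc c a u, hc]; group
      rw [Subgroup.mem_set_normalizer_iff]
      refine fun w => ⟨hsub g hg w, fun hw => ?_⟩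
      simpa [mul_assoc] using hsub g⁻¹ (Commute.inv_left hg).eq _ hw

end Cfsg.Agent.S1499
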