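import Cfsg.Statements.S1504
import Cfsg.Agent.OddChar.CyclicTI.Basic

set_option autoImplicit false
open Cfsg

namespace Cfsg.Agent.S1504

/-- Let W₁, W₂ be subgroups of a finite group with W₁ ⊓ W₂ = ⊥ whose elements commute, and W = W₁ ⊔ W₂. For linear characters φ, ψ of W with φ trivial on W₂ and ψ trivial on W₁, the function (1 − φ)(1 − ψ) vanishes on W₁ ∪ W₂; and the family of these functions, indexed by pairs (φ, ψ) with φ ≠ 1 ≠ ψ, is linearly independent over ℂ. -/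
theorem result {G : Type*} [Group G] [Finite G] (W₁ W₂ : Subgroup G) (hdisj : W₁ ⊓ W₂ = ⊥) (hcomm : ∀ a ∈ W₁, ∀ b ∈ W₂, a * b = b * a) : (∀ φ ψ : ↥(W₁ ⊔ W₂) →* ℂˣ, (∀ w : ↥(W₁ ⊔ W₂), (w : G) ∈ W₂ → φ w = 1) → (∀ w : ↥(W₁ ⊔ W₂), (w : G) ∈ W₁ → ψ w = 1) → ∀ w : ↥(W₁ ⊔ W₂), ((w : G) ∈ W₁ ∨ (w : G) ∈ W₂) → (1 - (φ w : ℂ) - (ψ w : ℂ) + (φ w : ℂ) * (ψ w : ℂ)) = 0) ∧ LinearIndependent ℂ (fun p : {p : (↥(W₁ ⊔ W₂) →* ℂˣ) × (↥(W₁ ⊔ W₂) →* ℂˣ) // p.1 ≠ 1 ∧ p.2 ≠ 1 ∧ (∀ w : ↥(W₁ ⊔ W₂), (w : G) ∈ W₂ → p.1 w = 1) ∧ (∀ w : ↥(W₁ ⊔ W₂), (w : G) ∈ W₁ → p.2 w = 1)} => fun w : ↥(W₁ ⊔ W₂) => 1 - (p.1.1 w : ℂ) - (p.1.2 w : ℂ) + (p.1.1 w : ℂ) * (p.1.2 w : ℂ)) := by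
  classical
  haveI := Fintype.ofFinite G
  haveI := Fintype.ofFinite ↥(W₁ ⊔ W₂)
  have hS : OddChar.CyclicTI.Split W₁ W₂ := ⟨hdisj, hcomm⟩
  refine ⟨fun φ ψ hφ hψ w hw => OddChar.CyclicTI.alpha_eq_zero hφ hψ hw, ?_⟩
  rw [linearIndependent_iff']
  rintro s c hc ⟨⟨φ₀, ψ₀⟩, hp1, hp2, hp3, hp4⟩ hp
  have h := congrArg (fun f => Cfsg.classInner f (fun w => ((φ₀ * ψ₀) w : ℂ))) hc
  simp only [Characters.classInner_sum_left, Characters.classInner_smul_left,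
    Characters.classInner_zero_left] at h
  rw [Finset.sum_eq_single (⟨(φ₀, ψ₀), hp1, hp2, hp3, hp4⟩ : {p : (↥(W₁ ⊔ W₂) →* ℂˣ) × (↥(W₁ ⊔ W₂) →* ℂˣ) // p.1 ≠ 1 ∧ p.2 ≠ 1 ∧ (∀ w : ↥(W₁ ⊔ W₂), (w : G) ∈ W₂ → p.1 w = 1) ∧ (∀ w : ↥(W₁ ⊔ W₂), (w : G) ∈ W₁ → p.2 w = 1)})] at h
  · have hv : Cfsg.classInner (OddChar.CyclicTI.alpha φ₀ ψ₀) (fun w => ((φ₀ * ψ₀) w : ℂ)) = 1 := by
      rw [OddChar.CyclicTI.alpha_eq]
      simp only [Characters.classInner_add_left, Characters.classInner_sub_left,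
        OddChar.CyclicTI.inner_linear]
      have e1 : (1 : ↥(W₁ ⊔ W₂) →* ℂˣ) ≠ φ₀ * ψ₀ := fun e => hp1
        (hS.mul_inj hp3 OddChar.CyclicTI.isLeft_one hp4 OddChar.CyclicTI.isRight_one
          (e.symm.trans (one_mul (1 : ↥(W₁ ⊔ W₂) →* ℂˣ)).symm)).1
      have e2 : φ₀ ≠ φ₀ * ψ₀ := fun e => hp2
        (hS.mul_inj hp3 hp3 hp4 OddChar.CyclicTI.isRight_one (e.symm.trans (mul_one φ₀).symm)).2
      have e3 : ψ₀ ≠ φ₀ * ψ₀ := fun e => hp1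
        (hS.mul_inj hp3 OddChar.CyclicTI.isLeft_one hp4 hp4 (e.symm.trans (one_mul ψ₀).symm)).1
      rw [if_neg e1, if_neg e2, if_neg e3]; simp
    exact (mul_eq_zero.1 h).resolve_right (fun e => one_ne_zero (hv.symm.trans e))
  · rintro ⟨⟨φ, ψ⟩, h1, h2, h3, h4⟩ _ hne
    refine mul_eq_zero_of_right _ ?_
    show Cfsg.classInner (OddChar.CyclicTI.alpha φ ψ) _ = 0
    rw [OddChar.CyclicTI.alpha_eq]
    simp only [Characters.classInner_add_left, Characters.classInner_sub_left,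
      OddChar.CyclicTI.inner_linear]
    have e1 : (1 : ↥(W₁ ⊔ W₂) →* ℂˣ) ≠ φ₀ * ψ₀ := fun e => hp1
      (hS.mul_inj hp3 OddChar.CyclicTI.isLeft_one hp4 OddChar.CyclicTI.isRight_one
        (e.symm.trans (one_mul (1 : ↥(W₁ ⊔ W₂) →* ℂˣ)).symm)).1
    have e2 : φ ≠ φ₀ * ψ₀ := fun e => hp2
      (hS.mul_inj hp3 h3 hp4 OddChar.CyclicTI.isRight_one (e.symm.trans (mul_one φ).symm)).2
    have e3 : ψ ≠ φ₀ * ψ₀ := fun e => hp1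
      (hS.mul_inj hp3 OddChar.CyclicTI.isLeft_one hp4 h4 (e.symm.trans (one_mul ψ).symm)).1
    have e4 : φ * ψ ≠ φ₀ * ψ₀ := fun e => hne (by
      obtain ⟨a, b⟩ := hS.mul_inj h3 hp3 h4 hp4 e
      subst a b; rfl)
    rw [if_neg e1, if_neg e2, if_neg e3, if_neg e4]; ring
  · intro h'; exact absurd hp h'

end Cfsg.Agent.S1504
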