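import Cfsg.Statements.S1507
import Cfsg.Agent.OddChar.CyclicTI.Duals
import Cfsg.Agent.OddChar.CyclicTI.Few

set_option autoImplicit false
open Cfsg

namespace Cfsg.Agent.S1507

open Classical in
/-- Let W₁, W₂ ≤ G form a self-normalising cyclic subgroup W = W₁ ⊔ W₂ of odd order with Nat.card W₁ < Nat.card W₂, and χ an orthonormal family of irreducible characters of G up to sign, indexed by the linear characters ω of W, with χ_1 = 1, χ_ω = ω on W outside W₁ ∪ W₂, and the induction identity for (1 − φ)(1 − ψ). Let θ be a class function of G vanishing on W outside W₁ ∪ W₂, and suppose fewer than 2 · Nat.card W₁ linear characters ω of W have ⟨θ, χ ω⟩ ≠ 0. Then one of: all ⟨θ, χ ω⟩ vanish; or there are ψ₀ and a with ⟨θ, χ ω⟩ = a when ω ψ₀⁻¹ is trivial on W₂ and 0 otherwise; or there are φ₀ and a with ⟨θ, χ ω⟩ = a when ω φ₀⁻¹ is trivial on W₁ and 0 otherwise. -/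
theorem result {G : Type*} [Group G] [Fintype G] (W₁ W₂ : Subgroup G) (hW : Cfsg.IsSelfNormalizingCyclic W₁ W₂) (hodd : Odd (Nat.card ↥(W₁ ⊔ W₂))) (χ : (↥(W₁ ⊔ W₂) →* ℂˣ) → (G → ℂ)) (hχ : Cfsg.IsCyclicTIFamily W₁ W₂ χ) (hlt : Nat.card W₁ < Nat.card W₂) (θ : G → ℂ) (hθ : Cfsg.IsClassFunction G θ) (hθV : ∀ w : ↥(W₁ ⊔ W₂), (w : G) ∉ W₁ → (w : G) ∉ W₂ → θ w = 0) (hfew : Nat.card {ω : ↥(W₁ ⊔ W₂) →* ℂˣ // Cfsg.classInner θ (χ ω) ≠ 0} < 2 * Nat.card W₁) : (∀ ω, Cfsg.classInner θ (χ ω) = 0) ∨ (∃ (ψ₀ : ↥(W₁ ⊔ W₂) →* ℂˣ) (a : ℂ), ∀ ω, Cfsg.classInner θ (χ ω) = if (∀ w : ↥(W₁ ⊔ W₂), (w : G) ∈ W₂ → (ω * ψ₀⁻¹) w = 1) then a else 0) ∨ (∃ (φ₀ : ↥(W₁ ⊔ W₂) →* ℂˣ) (a : ℂ), ∀ ω, Cfsg.classInner θ (χ ω) = if (∀ w : ↥(W₁ ⊔ W₂), (w : G) ∈ W₁ → (ω * φ₀⁻¹) w = 1) then a else 0) := by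
  classical
  haveI := Fintype.ofFinite (↥(W₁ ⊔ W₂) →* ℂˣ)
  have hS := OddChar.CyclicTI.split_of hW
  have hcm := OddChar.CyclicTI.comm_of hW
  set b := fun ω => Cfsg.classInner θ (χ ω) with hb
  have hrel : ∀ φ ψ, OddChar.CyclicTI.IsLeft φ → OddChar.CyclicTI.IsRight ψ →
      b (φ * ψ) = (b φ - b 1) + b ψ := fun φ ψ hl hr => by
    simp only [hb, OddChar.CyclicTI.relation_of_vanish hW hχ hθ hθV hl hr]; ring
  let I := {φ : ↥(W₁ ⊔ W₂) →* ℂˣ // OddChar.CyclicTI.IsLeft φ}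
  let J := {φ : ↥(W₁ ⊔ W₂) →* ℂˣ // OddChar.CyclicTI.IsRight φ}
  have hI : Fintype.card I = Nat.card W₁ := by
    rw [← Nat.card_eq_fintype_card]; exact OddChar.CyclicTI.card_left hS hcm
  have hJ : Fintype.card J = Nat.card W₂ := by
    rw [← Nat.card_eq_fintype_card]; exact OddChar.CyclicTI.card_right hS hcm
  have hodd1 : Odd (Nat.card W₁) :=
    hodd.of_dvd_nat (Subgroup.card_dvd_of_le le_sup_left)
  have hodd2 : Odd (Nat.card W₂) :=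
    hodd.of_dvd_nat (Subgroup.card_dvd_of_le le_sup_right)
  have hne1 : Nat.card W₁ ≠ 1 := fun e => hW.1 (Subgroup.card_eq_one.1 e)
  have h2 : 2 ≤ Fintype.card I := by
    rw [hI]; have := Nat.card_pos (α := W₁); omega
  have hq : Fintype.card I + 2 ≤ Fintype.card J := by
    rw [hI, hJ]; obtain ⟨u, hu⟩ := hodd1; obtain ⟨v, hv⟩ := hodd2; omega
  have hcount : (Finset.univ.filter fun x : I × J =>
      (b x.1.1 - b 1) + b x.2.1 ≠ 0).card < 2 * Fintype.card I := by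
    refine lt_of_le_of_lt ?_ (hI.symm ▸ hfew)
    rw [Nat.card_eq_fintype_card, Fintype.card_subtype]
    refine Finset.card_le_card_of_injOn (fun x => x.1.1 * x.2.1) (fun x hx => ?_) ?_
    · refine Finset.mem_filter.2 ⟨Finset.mem_univ _, ?_⟩
      have h' := (Finset.mem_filter.1 hx).2
      rwa [← hrel _ _ x.1.2 x.2.2] at h'
    · intro x _ y _ he
      obtain ⟨e1, e2⟩ := hS.mul_inj x.1.2 y.1.2 x.2.2 y.2.2 he
      exact Prod.ext (Subtype.ext e1) (Subtype.ext e2)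
  have hwhole : ∀ ω, ∃ φ : I, ∃ ψ : J, ω = φ.1 * ψ.1 := fun ω => by
    obtain ⟨φ, ψ, hl, hr, e⟩ := hS.exists_split ω
    exact ⟨⟨φ, hl⟩, ⟨ψ, hr⟩, e⟩
  rcases OddChar.CyclicTI.few_nonzero (fun φ : I => b φ.1 - b 1) (fun ψ : J => b ψ.1) h2 hq hcount
    with h | ⟨ψ₀, a, h⟩ | ⟨φ₀, a, h⟩
  · refine Or.inl fun ω => ?_
    obtain ⟨φ, ψ, rfl⟩ := hwhole ω
    exact (hrel _ _ φ.2 ψ.2).trans (h φ ψ)
  · refine Or.inr (Or.inl ⟨ψ₀.1, a, fun ω => ?_⟩)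
    obtain ⟨φ, ψ, rfl⟩ := hwhole ω
    refine (hrel _ _ φ.2 ψ.2).trans ((h φ ψ).trans ?_)
    refine if_congr ?_ rfl rfl
    constructor
    · rintro rfl w hw
      simp [φ.2 w hw]
    · intro h'
      refine Subtype.ext (MonoidHom.ext fun w => ?_)
      obtain ⟨x, y, hx, hy, rfl⟩ := hS.exists_mul w
      have := h' y hy
      simp only [MonoidHom.mul_apply, MonoidHom.inv_apply, φ.2 y hy, one_mul, mul_inv_eq_one] at this
      rw [map_mul, map_mul, ψ.2 x hx, ψ₀.2 x hx, this]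
  · refine Or.inr (Or.inr ⟨φ₀.1, a, fun ω => ?_⟩)
    obtain ⟨φ, ψ, rfl⟩ := hwhole ω
    refine (hrel _ _ φ.2 ψ.2).trans ((h φ ψ).trans ?_)
    refine if_congr ?_ rfl rfl
    constructor
    · rintro rfl w hw
      simp [ψ.2 w hw]
    · intro h'
      refine Subtype.ext (MonoidHom.ext fun w => ?_)
      obtain ⟨x, y, hx, hy, rfl⟩ := hS.exists_mul w
      have := h' x hx
      simp only [MonoidHom.mul_apply, MonoidHom.inv_apply, ψ.2 x hx, mul_one, mul_inv_eq_one] at this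
      rw [map_mul, map_mul, φ.2 y hy, φ₀.2 y hy, this]

end Cfsg.Agent.S1507
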