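import Cfsg.Statements.S1509
import Cfsg.Agent.OddChar.Signed

set_option autoImplicit false
open Cfsg

namespace Cfsg.Agent.S1509

/-- Let α, β, γ, δ be functions on a finite group X each of which is an irreducible character or the negative of one, and u, v nonzero real numbers. Suppose ⟨α, β⟩ = ⟨γ, δ⟩ = 0, ⟨α − β, uγ − vδ⟩ = 0, α 1 = β 1 and u γ 1 = v δ 1. Then also ⟨α, γ⟩ = ⟨α, δ⟩ = ⟨β, γ⟩ = ⟨β, δ⟩ = 0. -/
theorem result {X : Type*} [Group X] [Fintype X] (α β γ δ : X → ℂ) (hα : Cfsg.IsIrrCharacter X α ∨ Cfsg.IsIrrCharacter X (-α)) (hβ : Cfsg.IsIrrCharacter X β ∨ Cfsg.IsIrrCharacter X (-β)) (hγ : Cfsg.IsIrrCharacter X γ ∨ Cfsg.IsIrrCharacter X (-γ)) (hδ : Cfsg.IsIrrCharacter X δ ∨ Cfsg.IsIrrCharacter X (-δ)) (u v : ℝ) (hu : u ≠ 0) (hv : v ≠ 0) (hab : Cfsg.classInner α β = 0) (hcd : Cfsg.classInner γ δ = 0) (hmix : Cfsg.classInner (α - β) ((u : ℂ) • γ - (v : ℂ) • δ) = 0) (h1 : α 1 = β 1) (h2 : (u : ℂ) * γ 1 = (v : ℂ) * δ 1) : Cfsg.classInner α γ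 = 0 ∧ Cfsg.classInner α δ = 0 ∧ Cfsg.classInner β γ = 0 ∧ Cfsg.classInner β δ = 0 := by
  have key : ∀ a b c d : X → ℂ, OddChar.Signed.IsSIrr a → OddChar.Signed.IsSIrr b →
      OddChar.Signed.IsSIrr c → OddChar.Signed.IsSIrr d → ∀ u v : ℝ, u ≠ 0 → v ≠ 0 →
      Cfsg.classInner a b = 0 → Cfsg.classInner c d = 0 →
      Cfsg.classInner (a - b) ((u : ℂ) • c - (v : ℂ) • d) = 0 →
      a 1 = b 1 → (u : ℂ) * c 1 = (v : ℂ) * d 1 → Cfsg.classInner a c = 0 := by
    intro a b c d ha hb hc hd u v hu hv hab hcd hmix h1 h2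
    rcases ha.inner_cases hc with h | hac
    · exact h
    exfalso
    obtain ⟨s, hs, rfl⟩ : ∃ s : ℂ, s * s = 1 ∧ a = s • c := by
      rcases hac with e | e
      · exact ⟨1, by simp, by simp [e]⟩
      · exact ⟨-1, by simp, by simp [e]⟩
    have hs0 : s ≠ 0 := fun e => by simp [e] at hs
    have hcb : Cfsg.classInner b c = 0 := by
      rw [Characters.classInner_conj_symm c b]
      rw [Characters.classInner_smul_left] at hab
      simp [(mul_eq_zero.1 hab).resolve_left hs0]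
    simp only [Characters.classInner_sub_left, Characters.classInner_sub_right,
      Characters.classInner_smul_left, Characters.classInner_smul_right, Complex.conj_ofReal,
      hc.inner_self, hcd, hcb] at hmix
    have hbd : b = d ∨ b = -d := by
      refine (hb.inner_cases hd).resolve_left fun h => ?_
      have : (u : ℂ) * s = 0 := by linear_combination hmix - (v : ℂ) * h
      simp [hu, hs0] at this
    obtain ⟨t, ht, rfl⟩ : ∃ t : ℂ, t * t = 1 ∧ b = t • d := by
      rcases hbd with e | e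
      · exact ⟨1, by simp, by simp [e]⟩
      · exact ⟨-1, by simp, by simp [e]⟩
    simp only [Characters.classInner_smul_left, hd.inner_self] at hmix
    simp only [Pi.smul_apply, smul_eq_mul] at h1
    have e : 2 * ((v : ℂ) * d 1) = 0 := by
      linear_combination (-1 : ℂ) * h2 + (s * u) * h1 - ((u : ℂ) * c 1) * hs - (v : ℂ) * d 1 * ht
        + t * d 1 * hmix
    simp [hv, hd.apply_one_ne_zero] at e
  have hcd' : Cfsg.classInner δ γ = 0 := by rw [Characters.classInner_conj_symm γ δ, hcd, map_zero]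
  have hba : Cfsg.classInner β α = 0 := by rw [Characters.classInner_conj_symm α β, hab, map_zero]
  have e1 : (v : ℂ) • δ - (u : ℂ) • γ = -((u : ℂ) • γ - (v : ℂ) • δ) := (neg_sub _ _).symm
  have e2 : β - α = -(α - β) := (neg_sub _ _).symm
  have m1 : Cfsg.classInner (α - β) ((v : ℂ) • δ - (u : ℂ) • γ) = 0 := by
    rw [e1, Characters.classInner_conj_symm, Characters.classInner_neg_left,
      map_neg, ← Characters.classInner_conj_symm, hmix, neg_zero]
  have m2 : Cfsg.classInner (β - α) ((u : ℂ) • γ - (v : ℂ) • δ) = 0 := by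
    rw [e2, Characters.classInner_neg_left, hmix, neg_zero]
  have m3 : Cfsg.classInner (β - α) ((v : ℂ) • δ - (u : ℂ) • γ) = 0 := by
    rw [e2, Characters.classInner_neg_left, m1, neg_zero]
  exact ⟨key α β γ δ hα hβ hγ hδ u v hu hv hab hcd hmix h1 h2,
    key α β δ γ hα hβ hδ hγ v u hv hu hab hcd' m1 h1 h2.symm,
    key β α γ δ hβ hα hγ hδ u v hu hv hba hcd m2 h1.symm h2,
    key β α δ γ hβ hα hδ hγ v u hv hu hba hcd' m3 h1.symm h2.symm⟩

end Cfsg.Agent.S1509
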