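import Cfsg.Statements.S1511
import Cfsg.Agent.OddChar.PrimeFrobMain

set_option autoImplicit false
open Cfsg

namespace Cfsg.Agent.S1511

/-- Let L be a finite group with K normal with complement W₁ ≠ 1 a cyclic Hall subgroup, and W₂ ≠ 1 a cyclic subgroup of K equal to C_K(x) for every non-identity x ∈ W₁, with W₁W₂ of odd order. Then there are a map μ from the linear characters of W = W₁ ⊔ W₂ to irreducible characters of L, injective, and a sign δ(ω) ∈ {1, −1} depending only on the values of ω on W₂, such that: for ω, ω' agreeing on W₂, the function induced to L from ω − ω' equals δ(ω) • (μ ω − μ ω'); μ ω x = δ(ω) ω x for x ∈ W outside W₂; every irreducible character of L not of the form μ ω vanishes on W outside W₂; and μ ω 1 − δ(ω) is an integer multiple of Nat.card W₁. -/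
theorem result {L : Type*} [Group L] [Fintype L] (K W₁ W₂ : Subgroup L) [hK : K.Normal] (hKW₁ : K ⊓ W₁ = ⊥) (hKW₁' : K ⊔ W₁ = ⊤) (hW₁ : W₁ ≠ ⊥) (hW₁c : IsCyclic W₁) (hHall : Nat.Coprime (Nat.card W₁) W₁.index) (hW₂ : W₂ ≠ ⊥) (hW₂c : IsCyclic W₂) (hW₂K : W₂ ≤ K) (hC : ∀ x ∈ W₁, x ≠ 1 → K ⊓ Subgroup.centralizer ({x} : Set L) = W₂) (hodd : Odd (Nat.card ↥(W₁ ⊔ W₂))) : ∃ (μ : (↥(W₁ ⊔ W₂) →* ℂˣ) → (L → ℂ)) (δ : (↥(W₁ ⊔ W₂) →* ℂˣ) → ℂ), Function.Injective μ ∧ (∀ ω, Cfsg.IsIrrCharacter L (μ ω)) ∧ (∀ ω, δ ω = 1 ∨ δ ω = -1) ∧ (∀ ω ω' : ↥(W₁ ⊔ W₂) →* ℂˣ, (∀ w : ↥(W₁ ⊔ W₂), (w : L) ∈ W₂ → ω w = ω' w) → δ ω = δ ω' ∧ Cfsg.indFun (W₁ ⊔ W₂) (fun w => (ω w : ℂ) - (ω' w : ℂ)) = δ ω • (μ ω - μ ω')) ∧ (∀ ω, ∀ w : ↥(W₁ ⊔ W₂), (w : L) ∉ W₂ → μ ω w = δ ω * (ω w : ℂ)) ∧ (∀ θ : L → ℂ, Cfsg.IsIrrCharacter L θ → (∀ ω, θ ≠ μ ω) → ∀ w : ↥(W₁ ⊔ W₂), (w : L) ∉ W₂ → θ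 w = 0) ∧ (∀ ω, ∃ n : ℤ, μ ω 1 - δ ω = n * (Nat.card W₁ : ℂ)) := by
  classical
  have h : OddChar.PrimeFrob.Setup K W₁ W₂ :=
    ⟨hKW₁, hKW₁', hW₁, hW₁c, hHall, hW₂, hW₂c, hW₂K, hC, hodd⟩
  obtain ⟨χ, hχ⟩ := OddChar.CyclicTI.exists_family (OddChar.PrimeFrob.cyclicTI h) hodd
  let δ : (↥(W₁ ⊔ W₂) →* ℂˣ) → ℂ := fun ω => if Cfsg.IsIrrCharacter L (χ ω) then 1 else -1
  have hδ : ∀ ω, δ ω = 1 ∨ δ ω = -1 := fun ω => by simp only [δ]; split_ifs <;> simp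
  have hδδ : ∀ ω, δ ω * δ ω = 1 := fun ω => by rcases hδ ω with e | e <;> rw [e] <;> norm_num
  have hμ : ∀ ω, δ ω • χ ω = (OddChar.PrimeFrob.absIrr hχ ω : L → ℂ) := by
    intro ω
    simp only [δ, OddChar.PrimeFrob.absIrr]
    split_ifs <;> simp
  refine ⟨fun ω => δ ω • χ ω, δ, ?_, ?_, hδ, ?_, ?_, ?_, ?_⟩
  · intro ω ω' e
    exact OddChar.PrimeFrob.absIrr_injective hχ
      (Subtype.ext (((hμ ω).symm.trans e).trans (hμ ω')))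
  · intro ω; show Cfsg.IsIrrCharacter L (δ ω • χ ω)
    rw [hμ ω]; exact (OddChar.PrimeFrob.absIrr hχ ω).2
  · intro ω ω' he
    have hd : δ ω = δ ω' := by
      simp only [δ, OddChar.PrimeFrob.isIrr_iff_of_eq h hχ he]
    refine ⟨hd, ?_⟩
    rw [OddChar.PrimeFrob.indFun_sub_eq h hχ he]
    show χ ω - χ ω' = δ ω • (δ ω • χ ω - δ ω' • χ ω')
    rw [← hd, ← smul_sub, smul_smul, hδδ, one_smul]
  · intro ω w hw
    show δ ω * χ ω w = _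
    rw [OddChar.PrimeFrob.family_eq_on h hχ ω w hw]
  · intro θ hθ hne w hw
    by_contra hn
    obtain ⟨ω, e⟩ := OddChar.PrimeFrob.exists_absIrr h hχ (θ := ⟨θ, hθ⟩)
      (fun hK' => hw (OddChar.PrimeFrob.mem_W₂_of_mem_K h w.2 hK')) hn
    exact hne ω ((congrArg Subtype.val e).symm.trans (hμ ω).symm)
  · intro ω
    obtain ⟨n, hn⟩ := OddChar.PrimeFrob.family_one_congr h hχ ω
    rcases hδ ω with e | e <;> simp only [Pi.smul_apply, smul_eq_mul, e]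
    · exact ⟨n, by linear_combination hn⟩
    · exact ⟨-n, by push_cast; linear_combination -hn⟩

end Cfsg.Agent.S1511
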