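import Cfsg.Statements.S1525
import Cfsg.Agent.OddChar.Dade.Sum

set_option autoImplicit false
open Cfsg

namespace Cfsg.Agent.S1525

/-- Under the Dade hypothesis for (A, L, H), let χ be a class function of G and let ψ be a function on L whose value at each a ∈ A is the average of χ over the coset a·H(a). Then (1/|G|) Σ |χ g|² over the elements g of G conjugate into some coset a·H(a) with a ∈ A is at least (1/|L|) Σ_{a ∈ A ∩ L} |ψ a|². -/
theorem result {G : Type*} [Group G] [Fintype G] (A : Set G) (L : Subgroup G) [Fintype L] (H : G → Subgroup G) (hD : Cfsg.DadeHypothesis A L H) (χ : G → ℂ) (hχ : Cfsg.IsClassFunction G χ) (ψ : L → ℂ) (hψ : ∀ a : L, (a : G) ∈ A → ψ a = (Nat.card (H a) : ℂ)⁻¹ * ∑ᶠ u ∈ (H a : Set G), χ (a * u)) : (Nat.card L : ℝ)⁻¹ * ∑ᶠ a ∈ {a : L | (a : G) ∈ A}, ‖ψ a‖ ^ 2 ≤ (Nat.card G : ℝ)⁻¹ * ∑ᶠ g ∈ {g : G | ∃ a ∈ A, ∃ u ∈ H a, ∃ x : G, x * g * x⁻¹ = a * u}, ‖χ g‖ ^ 2 := by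
  classical
  set F : G → ℂ := fun g => ((‖χ g‖ ^ 2 : ℝ) : ℂ) with hFdef
  have key := OddChar.Dade.sum_support hD F fun g z => by simp only [hFdef, hχ g z]
  simp only [hFdef, ← Complex.ofReal_natCast, ← Complex.ofReal_inv, ← Complex.ofReal_sum,
    ← Complex.ofReal_mul, Complex.ofReal_inj] at key
  rw [finsum_mem_eq_toFinset_sum, finsum_mem_eq_toFinset_sum]
  have hs : ∀ g : G, (∃ a ∈ A, ∃ u ∈ H a, ∃ x : G, x * g * x⁻¹ = a * u) ↔
      g ∈ OddChar.Dade.support A H := fun g => Iff.rfl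
  have hR : {g : G | ∃ a ∈ A, ∃ u ∈ H a, ∃ x : G, x * g * x⁻¹ = a * u}.toFinset =
      Finset.univ.filter fun g => g ∈ OddChar.Dade.support A H := by
    ext g; simp [hs]
  rw [hR, key]
  refine mul_le_mul_of_nonneg_left ?_ (by positivity)
  calc ∑ a ∈ {a : L | (a : G) ∈ A}.toFinset, ‖ψ a‖ ^ 2
      ≤ ∑ a ∈ {a : L | (a : G) ∈ A}.toFinset, (Nat.card (H a) : ℝ)⁻¹ *
          ∑ u ∈ Finset.univ.filter (fun u => u ∈ H a), ‖χ ((a : G) * u)‖ ^ 2 := by
        refine Finset.sum_le_sum fun a ha => ?_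
        have haA : (a : G) ∈ A := by simpa using ha
        rw [hψ a haA, finsum_mem_eq_toFinset_sum,
          show (H a : Set G).toFinset = Finset.univ.filter (fun u => u ∈ H a) by ext; simp,
          norm_mul, norm_inv, Complex.norm_natCast]
        set t := Finset.univ.filter (fun u => u ∈ H (a : G))
        have hcard : (Nat.card (H (a : G)) : ℝ) = (t.card : ℝ) := by
          rw [Nat.card_eq_fintype_card, Fintype.card_subtype]
        have hpos : (0 : ℝ) < Nat.card (H (a : G)) := Nat.cast_pos.2 Nat.card_pos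
        calc ((Nat.card (H (a : G)) : ℝ)⁻¹ * ‖∑ u ∈ t, χ ((a : G) * u)‖) ^ 2
            ≤ ((Nat.card (H (a : G)) : ℝ)⁻¹ * ∑ u ∈ t, ‖χ ((a : G) * u)‖) ^ 2 := by
              gcongr; exact norm_sum_le _ _
          _ = ((Nat.card (H (a : G)) : ℝ)⁻¹) ^ 2 * (∑ u ∈ t, ‖χ ((a : G) * u)‖) ^ 2 := mul_pow _ _ _
          _ ≤ ((Nat.card (H (a : G)) : ℝ)⁻¹) ^ 2 *
                ((t.card : ℝ) * ∑ u ∈ t, ‖χ ((a : G) * u)‖ ^ 2) :=
              mul_le_mul_of_nonneg_left sq_sum_le_card_mul_sum_sq (sq_nonneg _)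
          _ = _ := by rw [← hcard]; field_simp
    _ = _ := by
        refine (Finset.sum_bij' (fun a ha => (⟨a, hD.subset (Finset.mem_filter.1 ha).2⟩ : L))
          (fun a _ => (a : G)) (by simp) (by simp) (by simp) (by simp) ?_).symm
        intro a ha; rfl

end Cfsg.Agent.S1525
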