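import Cfsg.Statements.S1527
import Mathlib

set_option autoImplicit false
open Cfsg

namespace Cfsg.Agent.S1527

/-- Let G be a finite group and H i (i in a finite index type) subgroups of pairwise coprime orders, each of whose underlying sets is a TI-subset of G, such that every non-identity element of G is conjugate to an element of some H i. Then Nat.card G − 1 = Σ_i [G : N_G(H i)] · (Nat.card (H i) − 1). -/
theorem result {G : Type*} [Group G] [Finite G] {ι : Type*} [Fintype ι] (H : ι → Subgroup G) (hcop : ∀ i j, i ≠ j → Nat.Coprime (Nat.card (H i)) (Nat.card (H j))) (hTI : ∀ i, Cfsg.IsTISubset (H i : Set G)) (hcover : ∀ g : G, g ≠ 1 → ∃ i, ∃ x : G, x * g * x⁻¹ ∈ H i) : Nat.card G - 1 = ∑ i, (Subgroup.normalizer (H i : Set G)).index * (Nat.card (H i) - 1) := by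
  classical
  let N : ι → Subgroup G := fun i => Subgroup.normalizer (H i : Set G)
  let f : (Σ i, (G ⧸ N i) × {h : H i // h ≠ 1}) → {g : G // g ≠ 1} := fun s =>
    ⟨s.2.1.out * ((s.2.2.1 : H s.1) : G) * s.2.1.out⁻¹, fun e => s.2.2.2 (by
      have h1 : ((s.2.2.1 : H s.1) : G) = 1 := conj_eq_one_iff.1 e
      exact Subtype.ext h1)⟩
  have hf : Function.Bijective f := by
    constructor
    · rintro ⟨i, c, h, hh⟩ ⟨j, d, k, hk⟩ he
      have he' : c.out * (h : G) * c.out⁻¹ = d.out * (k : G) * d.out⁻¹ := congrArg Subtype.val he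
      have hord : orderOf (h : G) = orderOf (k : G) := by
        have := congrArg orderOf he'
        rwa [← MulAut.conj_apply, ← MulAut.conj_apply, MulEquiv.orderOf_eq, MulEquiv.orderOf_eq] at this
      obtain rfl : i = j := by
        by_contra hne
        refine hh (Subtype.ext (orderOf_eq_one_iff.1 (Nat.eq_one_of_dvd_coprimes (hcop i j hne)
          (Subgroup.orderOf_dvd_natCard _ h.2) ?_)))
        rw [hord]
        exact Subgroup.orderOf_dvd_natCard _ k.2
      have hkh : (d.out⁻¹ * c.out) * (h : G) * (d.out⁻¹ * c.out)⁻¹ = k := by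
        calc (d.out⁻¹ * c.out) * (h : G) * (d.out⁻¹ * c.out)⁻¹
            = d.out⁻¹ * (c.out * (h : G) * c.out⁻¹) * d.out := by group
          _ = d.out⁻¹ * (d.out * (k : G) * d.out⁻¹) * d.out := by rw [he']
          _ = k := by group
      have hmem : d.out⁻¹ * c.out ∈ N i := by
        by_contra hn
        exact hh (Subtype.ext (hTI i _ hn _ h.2 (by rw [hkh]; exact k.2)))
      obtain rfl : c = d := by
        have h2 : (d.out : G ⧸ N i) = (c.out : G ⧸ N i) := QuotientGroup.eq.2 hmem
        rw [QuotientGroup.out_eq', QuotientGroup.out_eq'] at h2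
        exact h2.symm
      rw [inv_mul_cancel, one_mul, inv_one, mul_one] at hkh
      obtain rfl : h = k := Subtype.ext hkh
      rfl
    · rintro ⟨g, hg⟩
      obtain ⟨i, x, hx⟩ := hcover g hg
      set c : G ⧸ N i := QuotientGroup.mk x⁻¹
      obtain ⟨n, hn⟩ := QuotientGroup.mk_out_eq_mul (N i) x⁻¹
      have hmem : c.out⁻¹ * g * c.out ∈ H i := by
        rw [show c.out = x⁻¹ * (n : G) from hn]
        have h2 := (Subgroup.mem_normalizer_iff''.1 n.2 _).1 hx
        simpa [mul_assoc] using h2
      refine ⟨⟨i, c, ⟨_, hmem⟩, fun e => hg ?_⟩, Subtype.ext (by simp [f, mul_assoc])⟩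
      have : c.out⁻¹ * g * c.out = 1 := congrArg Subtype.val e
      have h3 := congrArg (fun t => c.out * t * c.out⁻¹) this
      simpa [mul_assoc] using h3
  have hcard := Nat.card_eq_of_bijective f hf
  haveI := Fintype.ofFinite G
  have hcompl : ∀ (K : Subgroup G), Nat.card {h : K // h ≠ 1} = Nat.card K - 1 := fun K => by
    rw [Nat.card_eq_fintype_card, Fintype.card_subtype_compl, Fintype.card_subtype_eq,
      Nat.card_eq_fintype_card]
  rw [Nat.card_sigma] at hcard
  simp only [Nat.card_prod, hcompl] at hcard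
  rw [show Nat.card {g : G // g ≠ 1} = Nat.card G - 1 by
    rw [Nat.card_eq_fintype_card, Fintype.card_subtype_compl, Fintype.card_subtype_eq,
      Nat.card_eq_fintype_card]] at hcard
  exact hcard.symm

end Cfsg.Agent.S1527
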