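import Cfsg.Statements.S1528
import Cfsg.Agent.OddChar.Constituent

set_option autoImplicit false
open Cfsg

namespace Cfsg.Agent.S1528

/-- Let N be a normal subgroup of the finite group G such that every element of G commuting with a non-identity element of N lies in N. If χ is an irreducible character of G with χ n ≠ χ 1 for some n ∈ N, then χ is the function induced from some irreducible character of N. -/
theorem result {G : Type*} [Group G] [Fintype G] (N : Subgroup G) [N.Normal] (hC : ∀ n ∈ N, n ≠ 1 → Subgroup.centralizer ({n} : Set G) ≤ N) (χ : G → ℂ) (hχ : Cfsg.IsIrrCharacter G χ) (hker : ∃ n ∈ N, χ n ≠ χ 1) : ∃ φ : N → ℂ, Cfsg.IsIrrCharacter N φ ∧ χ = Cfsg.indFun N φ := by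
  classical
  haveI : Fintype N := Fintype.ofFinite N
  have hc := Characters.isCharacter_of_isIrr hχ
  obtain ⟨n, hn, hne⟩ := hker
  set ξ : N → ℂ := fun x => χ x with hξdef
  have hξ : Cfsg.IsCharacter N ξ := Characters.isCharacter_restrict N hc
  obtain ⟨θ, hθ, hinner, hθn⟩ := OddChar.Constituent.exists_constituent_ne hξ (g := ⟨n, hn⟩)
    (by simpa [hξdef] using hne)
  have hθ1 : θ ≠ fun _ => 1 := fun e => hθn (by rw [e])
  have hstab : ∀ g : G, Characters.conjFun N θ g = θ → g ∈ N := by
    intro g hg
    obtain ⟨h, hh1, hconj⟩ := (OddChar.Constituent.exists_fixed_irr_iff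
      (Characters.conjAut N g)).1 ⟨θ, hθ, hθ1, hg⟩
    obtain ⟨k, hk⟩ := isConj_iff.1 hconj
    have e : (k : G) * (g * h * g⁻¹) * (k : G)⁻¹ = h := congrArg Subtype.val hk
    have hmem : (k : G) * g ∈ Subgroup.centralizer ({(h : G)} : Set G) := by
      rw [Subgroup.mem_centralizer_singleton_iff]
      conv_rhs => rw [← e]
      group
    have := hC h h.2 (fun e => hh1 (Subtype.ext e)) hmem
    simpa using N.mul_mem (N.inv_mem k.2) this
  have hfix : ∀ g ∈ N, Characters.conjFun N θ g = θ := by
    intro g hg
    funext x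
    exact (Characters.char_isClassFunction (Characters.isCharacter_of_isIrr hθ) x ⟨g, hg⟩ :)
  have hnorm : Cfsg.classInner (Cfsg.indFun N θ) (Cfsg.indFun N θ) = 1 := by
    have h := Characters.card_mul_classInner_indFun N hθ
    have hcard : Nat.card {g : G // Characters.conjFun N θ g = θ} = Nat.card N :=
      Nat.card_congr (Equiv.subtypeEquivRight fun g => ⟨hstab g, hfix g⟩)
    rw [hcard] at h
    exact mul_left_cancel₀ (Nat.cast_ne_zero.2 (Nat.card_pos (α := N)).ne') (by rw [h, mul_one])
  have hI := Characters.isIrr_of_isCharacter_of_norm_one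
    (Characters.isCharacter_indFun N (Characters.isCharacter_of_isIrr hθ)) hnorm
  refine ⟨θ, hθ, by_contra fun hne' => hinner ?_⟩
  have h0 := Characters.classInner_isIrr_ne hI hχ (fun e => hne' e.symm)
  rw [Characters.frobenius_reciprocity N θ (Characters.char_isClassFunction hc)] at h0
  rw [Characters.classInner_conj_symm θ ξ, h0, map_zero]

end Cfsg.Agent.S1528
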