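import Cfsg.Statements.S1529
import Cfsg.Agent.OddChar.Signed
import Cfsg.Agent.OddChar.Isometry

set_option autoImplicit false
open Cfsg

namespace Cfsg.Agent.S1529

/-- Let N be a subgroup of the finite group G, S a set of irreducible characters of N with at least two members, and τ₁ a linear isometry on the integer combinations of S with virtual-character values such that τ₁ α vanishes at 1 whenever α ∈ ℤ[S] does. Then there is ε ∈ {1, −1} such that ε • τ₁ χ is an irreducible character of G for every χ ∈ S, and distinct members of S give distinct characters. -/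
theorem result {G : Type*} [Group G] [Fintype G] (N : Subgroup G) [Fintype N] (S : Set (N → ℂ)) (hirr : ∀ χ ∈ S, Cfsg.IsIrrCharacter N χ) (htwo : ∃ χ ∈ S, ∃ ψ ∈ S, χ ≠ ψ) (τ₁ : (N → ℂ) → (G → ℂ)) (hτ₁ : Cfsg.IsLinearIsometryOn (Cfsg.zspan S) τ₁) (h0 : ∀ α ∈ Cfsg.zspan S, α 1 = 0 → τ₁ α 1 = 0) : ∃ ε : ℂ, (ε = 1 ∨ ε = -1) ∧ (∀ χ ∈ S, Cfsg.IsIrrCharacter G (ε • τ₁ χ)) ∧ (∀ χ ∈ S, ∀ ψ ∈ S, τ₁ χ = τ₁ ψ → χ = ψ) := by
  classical
  have hτ : Cfsg.IsLinearIsometryOn ((OddChar.Isometry.zS S : Submodule ℤ (N → ℂ)) : Set (N → ℂ)) τ₁ := hτ₁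
  have hm : ∀ χ ∈ S, χ ∈ Cfsg.zspan S := fun χ h => OddChar.Isometry.mem_zS h
  have hnorm : ∀ χ ∈ S, Cfsg.classInner (τ₁ χ) (τ₁ χ) = 1 := fun χ h => by
    rw [hτ₁.2.2.1 χ (hm χ h) χ (hm χ h), Characters.classInner_isIrr_self (hirr χ h)]
  have hs : ∀ χ ∈ S, OddChar.Signed.IsSIrr (τ₁ χ) := fun χ h =>
    OddChar.Signed.isSIrr_of_norm_one (hτ₁.2.2.2 χ (hm χ h)) (hnorm χ h)
  have hreal : ∀ χ ∈ S, ∃ z : ℝ, z ≠ 0 ∧ τ₁ χ 1 = (z : ℂ) := by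
    intro χ h
    rcases hs χ h with h' | h'
    · obtain ⟨n, hn, e⟩ := Characters.irr_one_pos h'
      exact ⟨n, by simp [hn.ne'], by simp [e]⟩
    · obtain ⟨n, hn, e⟩ := Characters.irr_one_pos h'
      refine ⟨-n, by simp [hn.ne'], ?_⟩
      simp only [Pi.neg_apply] at e
      rw [← neg_neg (τ₁ χ 1), e]; simp
  choose z hz0 hz using hreal
  have hprop : ∀ χ (hχ : χ ∈ S) ψ (hψ : ψ ∈ S), 0 < z χ hχ → 0 < z ψ hψ := by
    intro χ hχ ψ hψ hpos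
    obtain ⟨m, hm0, hmv⟩ := Characters.irr_one_pos (hirr χ hχ)
    obtain ⟨n, hn0, hnv⟩ := Characters.irr_one_pos (hirr ψ hψ)
    have h1 := (OddChar.Isometry.zS S).smul_mem (n : ℤ) (hm χ hχ)
    have h2 := (OddChar.Isometry.zS S).smul_mem (m : ℤ) (hm ψ hψ)
    have h3 := h0 _ ((OddChar.Isometry.zS S).sub_mem h1 h2) (by simp [hmv, hnv, mul_comm])
    rw [OddChar.Isometry.map_sub' hτ h1 h2, hτ₁.2.1 χ (hm χ hχ), hτ₁.2.1 ψ (hm ψ hψ)] at h3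
    simp [hz χ hχ, hz ψ hψ, sub_eq_zero] at h3
    have h4 : (n : ℝ) * z χ hχ = (m : ℝ) * z ψ hψ := by exact_mod_cast h3
    have hn1 : (0 : ℝ) < n := Nat.cast_pos.2 hn0
    have hm1 : (0 : ℝ) < m := Nat.cast_pos.2 hm0
    nlinarith [mul_pos hn1 hpos]
  obtain ⟨χ₀, hχ₀, -⟩ := htwo
  have hinj : ∀ χ ∈ S, ∀ ψ ∈ S, τ₁ χ = τ₁ ψ → χ = ψ := by
    intro χ hχ ψ hψ h
    by_contra hne
    have := hτ₁.2.2.1 χ (hm χ hχ) ψ (hm ψ hψ)
    rw [h, hnorm ψ hψ, Characters.classInner_isIrr_ne (hirr χ hχ) (hirr ψ hψ) hne] at this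
    simp at this
  rcases lt_or_gt_of_ne (hz0 χ₀ hχ₀) with hneg | hpos
  · refine ⟨-1, Or.inr rfl, fun χ hχ => ?_, hinj⟩
    rw [neg_one_smul]
    refine Characters.isIrr_of_gen_norm_one (Characters.isGen_neg (hτ₁.2.2.2 χ (hm χ hχ))) ?_ ?_
    · simpa [Characters.classInner_def] using hnorm χ hχ
    · have : z χ hχ < 0 := lt_of_le_of_ne
        (le_of_not_gt fun h => (hprop χ hχ χ₀ hχ₀ h).not_gt hneg) (hz0 χ hχ)
      simpa [hz χ hχ] using this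
  · refine ⟨1, Or.inl rfl, fun χ hχ => ?_, hinj⟩
    rw [one_smul]
    refine Characters.isIrr_of_gen_norm_one (hτ₁.2.2.2 χ (hm χ hχ)) (hnorm χ hχ) ?_
    simpa [hz χ hχ] using hprop χ₀ hχ₀ χ hχ hpos

end Cfsg.Agent.S1529
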