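import Cfsg.Statements.S1532
import Cfsg.Agent.OddChar.Coherence.SibleyMain

set_option autoImplicit false
open Cfsg

namespace Cfsg.Agent.S1532

/-- Let G be a finite group, p an odd prime and P a Sylow p-subgroup that is non-abelian, whose underlying set is a TI-subset of G, with P properly contained in its set normaliser N and C_G(x) ≤ P for every non-identity x ∈ P. Let Z be a nontrivial subgroup of the centre of P normalised by N. Then the set of irreducible characters χ of N with χ z ≠ χ 1 for some z ∈ Z is coherent for the map induced by induction from N to G. -/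
theorem result {G : Type*} [Group G] [Fintype G] (p : ℕ) [Fact p.Prime] (hp : p ≠ 2) (P : Sylow p G) (hna : ¬ IsMulCommutative (P : Subgroup G)) (hTI : Cfsg.IsTISubset ((P : Subgroup G) : Set G)) (hlt : (P : Subgroup G) < Subgroup.normalizer ((P : Subgroup G) : Set G)) (hC : ∀ k ∈ (P : Subgroup G), k ≠ 1 → Subgroup.centralizer ({k} : Set G) ≤ (P : Subgroup G)) [Fintype ↥(Subgroup.normalizer ((P : Subgroup G) : Set G))] (Z : Subgroup G) (hZ1 : Z ≠ ⊥) (hZP : ∀ z ∈ Z, z ∈ (P : Subgroup G) ∧ ∀ y ∈ (P : Subgroup G), z * y = y * z) (hZn : ∀ x ∈ Subgroup.normalizer ((P : Subgroup G) : Set G), ∀ z ∈ Z, x * z * x⁻¹ ∈ Z) : Cfsg.IsCoherent {χ : ↥(Subgroup.normalizer ((P : Subgroup G) : Set G)) → ℂ | Cfsg.IsIrrCharacter ↥(Subgroup.normalizer ((P : Subgroup G) : Set G)) χ ∧ ∃ z : ↥(Subgroup.normalizer ((P : Subgroup G) : Set G)), (z : G) ∈ Z ∧ χ z ≠ χ 1} {1}ᶜ (fun α => Cfsg.indFun (Subgroup.normalizer ((P : Subgroup G) : Set G)) α) := by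
  set K := (P : Subgroup G).subgroupOf (Subgroup.normalizer ((P : Subgroup G) : Set G)) with hK
  haveI : K.Normal := Subgroup.normal_in_normalizer
  have hC' := OddChar.Coherence.Sibley.cent_transfer (P : Subgroup G)
    (Subgroup.normalizer ((P : Subgroup G) : Set G)) hC
  have hodd := (OddChar.Coherence.Sibley.coherent_sylow_nonabelian p hp P hna hTI hlt hC).2
  set W := Z.subgroupOf (Subgroup.normalizer ((P : Subgroup G) : Set G)) with hW
  haveI : W.Normal := ⟨fun w hw x => hZn x x.2 w hw⟩
  have hpK : IsPGroup p K := P.2.comap_subtype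
  have hWK : W ≤ K := fun w hw => (hZP w hw).1
  have hW1 : W ≠ ⊥ := fun e => hZ1 (by
    rw [eq_bot_iff]
    intro z hz
    have : (⟨z, Subgroup.le_normalizer (hZP z hz).1⟩ :
        Subgroup.normalizer ((P : Subgroup G) : Set G)) ∈ W := hz
    rw [e, Subgroup.mem_bot] at this
    exact congrArg Subtype.val this)
  exact OddChar.Coherence.TI.coherent_central_ti _ K hC'
    (OddChar.Coherence.Sibley.ti_transfer (P : Subgroup G) hTI) hodd hpK.isNilpotent
    (lt_top_iff_ne_top.2 fun e => hlt.not_ge (Subgroup.subgroupOf_eq_top.1 e)) W hW1 hWK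
    fun w hw k hk => Subtype.ext ((hZP w hw).2 k hk)

end Cfsg.Agent.S1532
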