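import Cfsg.Statements.S1533
import Cfsg.Agent.OddChar.Coherence.SibleyMain

set_option autoImplicit false
open Cfsg

namespace Cfsg.Agent.S1533

/-- Let G be a finite group, p an odd prime, and P a nontrivial Sylow p-subgroup whose underlying set is a TI-subset of G, with P properly contained in its set normaliser N and C_G(x) ≤ P for every non-identity x ∈ P. Let S be the set of irreducible characters χ of N with χ x ≠ χ 1 for some x ∈ P. Then either S has exactly one member, P is elementary abelian and Nat.card P = [N:P] + 1; or (S, N minus 1, induction to G) is coherent. -/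
theorem result {G : Type*} [Group G] [Fintype G] (p : ℕ) [Fact p.Prime] (hp : p ≠ 2) (P : Sylow p G) (hP1 : (P : Subgroup G) ≠ ⊥) (hTI : Cfsg.IsTISubset ((P : Subgroup G) : Set G)) (hlt : (P : Subgroup G) < Subgroup.normalizer ((P : Subgroup G) : Set G)) (hC : ∀ k ∈ (P : Subgroup G), k ≠ 1 → Subgroup.centralizer ({k} : Set G) ≤ (P : Subgroup G)) [Fintype ↥(Subgroup.normalizer ((P : Subgroup G) : Set G))] : (Nat.card {χ : ↥(Subgroup.normalizer ((P : Subgroup G) : Set G)) → ℂ // Cfsg.IsIrrCharacter ↥(Subgroup.normalizer ((P : Subgroup G) : Set G)) χ ∧ ∃ x : ↥(Subgroup.normalizer ((P : Subgroup G) : Set G)), (x : G) ∈ (P : Subgroup G) ∧ χ x ≠ χ 1} = 1 ∧ Cfsg.IsElementaryAbelian p (P : Subgroup G) ∧ Nat.card (P : Subgroup G) = ((P : Subgroup G).subgroupOf (Subgroup.normalizer ((P : Subgroup G) : Set G))).index + 1) ∨ Cfsg.IsCoherent {χ : ↥(Subgroup.normalizer ((P : Subgroup G) : Set G)) → ℂ | Cfsg.IsIrrCharacter ↥(Subgroup.normalizer ((P : Subgroup G) : Set G)) χ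 ∧ ∃ x : ↥(Subgroup.normalizer ((P : Subgroup G) : Set G)), (x : G) ∈ (P : Subgroup G) ∧ χ x ≠ χ 1} {1}ᶜ (fun α => Cfsg.indFun (Subgroup.normalizer ((P : Subgroup G) : Set G)) α) := by
  by_cases hab : IsMulCommutative (P : Subgroup G)
  swap
  · exact Or.inr (OddChar.Coherence.Sibley.coherent_sylow_nonabelian p hp P hab hTI hlt hC).1
  set K := (P : Subgroup G).subgroupOf (Subgroup.normalizer ((P : Subgroup G) : Set G)) with hK
  haveI : K.Normal := Subgroup.normal_in_normalizer
  have hC' := OddChar.Coherence.Sibley.cent_transfer (P : Subgroup G)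
    (Subgroup.normalizer ((P : Subgroup G) : Set G)) hC
  let eqv : K ≃* (P : Subgroup G) := Subgroup.subgroupOfEquivOfLe Subgroup.le_normalizer
  have hK1 : K ≠ ⊥ := fun e => hP1 (by
    rw [eq_bot_iff]
    intro x hx
    have : (⟨x, Subgroup.le_normalizer hx⟩ :
        Subgroup.normalizer ((P : Subgroup G) : Set G)) ∈ K := hx
    rw [e, Subgroup.mem_bot] at this
    exact congrArg Subtype.val this)
  have hK2 : K ≠ ⊤ := fun e => hlt.not_ge (Subgroup.subgroupOf_eq_top.1 e)
  by_cases he : Nat.card K = K.index + 1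
  · obtain ⟨h1, q, hq, -, -, hexp⟩ := OddChar.Coherence.Sibley.minimal_case K hC' hK1 he
    refine Or.inl ⟨h1, ⟨hab, fun a ha => ?_⟩, (Nat.card_congr eqv.toEquiv).symm.trans he⟩
    have h3 : a ^ q = 1 := congrArg
      (fun y : K => ((y : Subgroup.normalizer ((P : Subgroup G) : Set G)) : G))
      (hexp ⟨⟨a, Subgroup.le_normalizer ha⟩, ha⟩)
    obtain ⟨k, hk⟩ := P.2 ⟨a, ha⟩
    have hk' : a ^ p ^ k = 1 := congrArg Subtype.val hk
    obtain ⟨j, -, hj⟩ := (Nat.dvd_prime_pow Fact.out).1 (orderOf_dvd_of_pow_eq_one hk')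
    rcases (Nat.dvd_prime hq).1 (orderOf_dvd_of_pow_eq_one h3) with h | h
    · rw [orderOf_eq_one_iff.1 h, one_pow]
    · have hj0 : j ≠ 0 := fun e => hq.ne_one (by rw [← h, hj, e, pow_zero])
      rw [hj] at h
      have hpq : p = q := (Nat.prime_dvd_prime_iff_eq Fact.out hq).1 (h ▸ dvd_pow_self p hj0)
      rw [hpq]; exact h3
  obtain ⟨hτ, hτ1⟩ := OddChar.Coherence.TI.ind_isometry _ K hC'
    (OddChar.Coherence.Sibley.ti_transfer (P : Subgroup G) hTI)
    (T := OddChar.Coherence.TI.nontrivOn _ K) subset_rfl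
  rcases OddChar.Coherence.Frobenius.feit K hC' hK1 hK2 he hτ hτ1 with h | ⟨q, -, -, hnc, -⟩
  · exact Or.inr h
  · refine absurd ⟨⟨fun a b => eqv.injective ?_⟩⟩ hnc
    rw [map_mul, map_mul, mul_comm' (eqv a) (eqv b)]

end Cfsg.Agent.S1533
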