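import Cfsg.Statements.S1553
import Cfsg.Agent.Lib.Golay.OctadStab

set_option autoImplicit false
open scoped Pointwise
open Cfsg

namespace Cfsg.Agent.S1553

open Cfsg.Agent.Golay.OctadStab
open scoped Pointwise

/-- The stabiliser of an octad in the group of the length-24 code induces on the octad exactly its alternating group. -/
theorem result (o : Finset Cfsg.GolayPt) (ho : o ∈ Cfsg.octads) : {e : Equiv.Perm ↥o | ∃ g : Equiv.Perm Cfsg.GolayPt, g ∈ Cfsg.M24 ∧ ∃ h : (∀ x, g x ∈ o ↔ x ∈ o), g.subtypePerm h = e} = (alternatingGroup ↥o : Set (Equiv.Perm ↥o)) := by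
  rw [← range_rho ho]
  ext e
  simp only [Set.mem_setOf_eq, SetLike.mem_coe, MonoidHom.mem_range]
  constructor
  · rintro ⟨g, hg, h, rfl⟩
    refine ⟨⟨g, hg, ?_⟩, rfl⟩
    show g • o = o
    refine Finset.eq_of_subset_of_card_le (fun y hy => ?_) (by rw [Finset.card_smul_finset])
    obtain ⟨x, hx, rfl⟩ := Finset.mem_smul_finset.1 hy
    exact (h x).2 hx
  · rintro ⟨g, rfl⟩
    have hg : (g : Equiv.Perm Cfsg.GolayPt) • o = o := g.2.2
    refine ⟨g.1, g.2.1, fun x => ?_, rfl⟩
    have hh := Cfsg.Agent.Golay.M24.mem_smul_iff (g : Equiv.Perm Cfsg.GolayPt) o x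
    simpa only [hg] using hh

end Cfsg.Agent.S1553
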