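import Cfsg.Statements.S1554
import Cfsg.Agent.Lib.Golay.OctadStab

set_option autoImplicit false
open scoped Pointwise
open Cfsg

namespace Cfsg.Agent.S1554

open Cfsg.Agent.Golay.OctadStab
open scoped Pointwise

/-- An octad stabiliser is a split extension: the joint stabiliser of the octad and a point outside it is a complement to the pointwise stabiliser of the octad, and is isomorphic to the alternating group of degree 8. -/
theorem result (o : Finset Cfsg.GolayPt) (ho : o ∈ Cfsg.octads) (p : Cfsg.GolayPt) (hp : p ∉ o) : (Cfsg.M24 ⊓ fixingSubgroup (Equiv.Perm Cfsg.GolayPt) (o : Set Cfsg.GolayPt)) ⊓ (Cfsg.M24 ⊓ MulAction.stabilizer (Equiv.Perm Cfsg.GolayPt) o ⊓ MulAction.stabilizer (Equiv.Perm Cfsg.GolayPt) p) = ⊥ ∧ (Cfsg.M24 ⊓ fixingSubgroup (Equiv.Perm Cfsg.GolayPt) (o : Set Cfsg.GolayPt)) ⊔ (Cfsg.M24 ⊓ MulAction.stabilizer (Equiv.Perm Cfsg.GolayPt) o ⊓ MulAction.stabilizer (Equiv.Perm Cfsg.GolayPt)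 p) = (Cfsg.M24 ⊓ MulAction.stabilizer (Equiv.Perm Cfsg.GolayPt) o) ∧ Nonempty (↥(Cfsg.M24 ⊓ MulAction.stabilizer (Equiv.Perm Cfsg.GolayPt) o ⊓ MulAction.stabilizer (Equiv.Perm Cfsg.GolayPt) p) ≃* alternatingGroup (Fin 8)) := by
  obtain ⟨he, hc⟩ := stab_point_equiv ho hp
  have hbot : FK o ⊓ (OK o ⊓ MulAction.stabilizer (Equiv.Perm Cfsg.GolayPt) p) = ⊥ :=
    eq_bot_iff.2 fun g hg => Subgroup.mem_bot.2 (fix_eq_one ho hp hg.1 hg.2.2)
  refine ⟨hbot, ?_, he⟩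
  have hle : FK o ⊔ (OK o ⊓ MulAction.stabilizer (Equiv.Perm Cfsg.GolayPt) p) ≤ OK o :=
    sup_le (FK_le_OK o) inf_le_left
  refine Subgroup.eq_of_le_of_card_ge hle ?_
  let f : FK o × ↥(OK o ⊓ MulAction.stabilizer (Equiv.Perm Cfsg.GolayPt) p) →
      ↥(FK o ⊔ (OK o ⊓ MulAction.stabilizer (Equiv.Perm Cfsg.GolayPt) p)) := fun x =>
    ⟨x.1.1 * x.2.1, Subgroup.mul_mem_sup x.1.2 x.2.2⟩
  have hf : Function.Injective f :=
    fun a b h => Subgroup.mul_injective_of_disjoint (disjoint_iff.2 hbot) (congrArg Subtype.val h)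
  have := Nat.card_le_card_of_injective f hf
  rw [Nat.card_prod, card_FK ho, hc] at this
  rw [card_OK ho]
  omega

end Cfsg.Agent.S1554
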