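import Cfsg.Statements.S1556
import Cfsg.Agent.Lib.Golay.Orbit
import Cfsg.Agent.Lib.Golay.OrbitData
import Cfsg.Agent.Lib.Golay.Steiner

set_option autoImplicit false
open scoped Pointwise
open Cfsg

namespace Cfsg.Agent.S1556

open Cfsg.Agent.Golay.Basic Cfsg.Agent.Golay.Design Cfsg.Agent.Golay.M24 Cfsg.Agent.Golay.M24Data Cfsg.Agent.Golay.Cert Cfsg.Agent.Golay.Orbit Cfsg.Agent.Golay.OrbitData Cfsg.Agent.Golay.Trans
open scoped Pointwise
set_option maxRecDepth 10000

/-- Two octads meeting a fixed octad in equally many points are in the same orbit of its stabiliser. -/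
theorem result (o o' o'' : Finset Cfsg.GolayPt) (ho : o ∈ Cfsg.octads) (ho' : o' ∈ Cfsg.octads) (ho'' : o'' ∈ Cfsg.octads) (h : (o ∩ o').card = (o ∩ o'').card) : ∃ g : Equiv.Perm Cfsg.GolayPt, g ∈ Cfsg.M24 ∧ g • o = o ∧ g • o' = o'' := by
  obtain ⟨a, ha, (hao : a • o = o0)⟩ := exists_smul_octad ho
  have hX : octTabs.all tabOK = true := by decide +kernel
  obtain ⟨g, hg, e⟩ := transitive_of_codeCovers hX (L := octCert) (key := fun m => pc (m &&& baseOctad))
    (Q := fun _ => true) (w := 8) (by decide +kernel) (by decide +kernel)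
    (smul_mem_octads ha ho') (smul_mem_octads ha ho'') rfl rfl (by
      have e := inter_smul_card a o o'
      have e' := inter_smul_card a o o''
      rw [hao, Finset.inter_comm, card_inter_eq_pc, mask_maskSet (by decide +kernel)] at e e'
      rw [e, e', h])
  refine ⟨a⁻¹ * g * a, Cfsg.M24.mul_mem (Cfsg.M24.mul_mem (Cfsg.M24.inv_mem ha) (tabGroup_le_M24 hX hg)) ha, ?_, ?_⟩
  · rw [mul_smul, mul_smul, hao, tabGroup_stab hX (masks := [baseOctad]) (by decide +kernel)
      (by decide +kernel) List.mem_cons_self hg, (show maskSet baseOctad = a • o from hao.symm), inv_smul_smul]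
  · rw [mul_smul, mul_smul, e, inv_smul_smul]

end Cfsg.Agent.S1556
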