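import Cfsg.Statements.S1559
import Cfsg.Agent.Lib.Golay.Suborbits

set_option autoImplicit false
open scoped Pointwise
open Cfsg

namespace Cfsg.Agent.S1559

open Cfsg.Agent.Golay.Suborbits Cfsg.Agent.Golay.SubData

/-- A trio stabiliser has five orbits on the 3795 trios, of sizes 1, 42, 56, 1008, 2688; and the stabiliser is a maximal proper subgroup. -/
theorem result (T : Finset (Finset Cfsg.GolayPt)) (hT : T ∈ Cfsg.trios) : ∃ X₁ ∈ Cfsg.trios, ∃ X₂ ∈ Cfsg.trios, ∃ X₃ ∈ Cfsg.trios, ∃ X₄ ∈ Cfsg.trios, (MulAction.orbit ↥(MulAction.stabilizer Cfsg.M24 T) X₁).ncard = 42 ∧ (MulAction.orbit ↥(MulAction.stabilizer Cfsg.M24 T) X₂).ncard = 56 ∧ (MulAction.orbit ↥(MulAction.stabilizer Cfsg.M24 T) X₃).ncard = 1008 ∧ (MulAction.orbit ↥(MulAction.stabilizer Cfsg.M24 T) X₄).ncard = 2688 ∧ Cfsg.trios = {T} ∪ MulAction.orbit ↥(MulAction.stabilizer Cfsg.M24 T) X₁ ∪ MulAction.orbit ↥(MulAction.stabilizer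 Cfsg.M24 T) X₂ ∪ MulAction.orbit ↥(MulAction.stabilizer Cfsg.M24 T) X₃ ∪ MulAction.orbit ↥(MulAction.stabilizer Cfsg.M24 T) X₄ ∧ IsCoatom (MulAction.stabilizer Cfsg.M24 T) := by
  obtain ⟨r, h0, h1, h2, -⟩ := trio_suborbits hT
  have hmem : ∀ i, r i ∈ Cfsg.trios := fun i => by
    rw [h2]; exact Set.mem_iUnion.2 ⟨i, MulAction.mem_orbit_self _⟩
  have hs : MulAction.orbit (MulAction.stabilizer Cfsg.M24 T) (r 0) = {T} := by
    rw [h0]
    refine Set.eq_singleton_iff_unique_mem.2 ⟨MulAction.mem_orbit_self _, ?_⟩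
    rintro _ ⟨g, rfl⟩
    exact g.2
  refine ⟨r 1, hmem 1, r 4, hmem 4, r 3, hmem 3, r 2, hmem 2, h1 1, h1 4, h1 3, h1 2, ?_,
    isCoatom_trio hT⟩
  conv_lhs => rw [h2]
  ext x
  simp only [Set.mem_iUnion, Fin.exists_fin_succ, Fin.exists_fin_zero, or_false, Set.mem_union, hs]
  tauto

end Cfsg.Agent.S1559
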