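import Cfsg.Statements.S1560
import Cfsg.Agent.Lib.Golay.Orbit
import Cfsg.Agent.Lib.Golay.OrbitData
import Cfsg.Agent.Lib.Golay.Steiner

set_option autoImplicit false
open scoped Pointwise
open Cfsg

namespace Cfsg.Agent.S1560

open Cfsg.Agent.Golay.Basic Cfsg.Agent.Golay.Design Cfsg.Agent.Golay.M24 Cfsg.Agent.Golay.M24Data Cfsg.Agent.Golay.Cert Cfsg.Agent.Golay.Orbit Cfsg.Agent.Golay.OrbitData Cfsg.Agent.Golay.Trans
open scoped Pointwise
set_option maxRecDepth 10000

/-- Intersection numbers of dodecads: a dodecad meets every other dodecad in 0, 4, 6 or 8 points, meeting 495 of them in 4 points, 1584 in 6 points and 495 in 8 points. -/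
theorem result (d : Finset Cfsg.GolayPt) (hd : d ∈ Cfsg.dodecads) : (∀ d' ∈ Cfsg.dodecads, d' ≠ d → (d ∩ d').card = 0 ∨ (d ∩ d').card = 4 ∨ (d ∩ d').card = 6 ∨ (d ∩ d').card = 8) ∧ {d' : Finset Cfsg.GolayPt | d' ∈ Cfsg.dodecads ∧ (d ∩ d').card = 4}.ncard = 495 ∧ {d' : Finset Cfsg.GolayPt | d' ∈ Cfsg.dodecads ∧ (d ∩ d').card = 6}.ncard = 1584 ∧ {d' : Finset Cfsg.GolayPt | d' ∈ Cfsg.dodecads ∧ (d ∩ d').card = 8}.ncard = 495 := by
  obtain ⟨b, hb, hbd⟩ := exists_smul_dodecad hd
  have ha : b⁻¹ ∈ Cfsg.M24 := Cfsg.M24.inv_mem hb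
  have had : b⁻¹ • d = maskSet baseDodecad := by rw [← hbd, inv_smul_smul]
  have hkey : ∀ s, (d ∩ s).card = pc (mask (b⁻¹ • s) &&& baseDodecad) := fun s => by
    rw [← inter_smul_card b⁻¹ d s, had, Finset.inter_comm, card_inter_eq_pc,
      mask_maskSet (by decide +kernel)]
  have hcount : ∀ j, {d' : Finset Cfsg.GolayPt | d' ∈ Cfsg.dodecads ∧ (d ∩ d').card = j}.ncard =
      {t : Finset Cfsg.GolayPt | t ∈ Cfsg.dodecads ∧ (pc (mask t &&& baseDodecad) == j) = true}.ncard :=
    fun j => ncard_transport b⁻¹ fun s => by rw [mem_dodecads_smul ha, hkey, beq_iff_eq]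
  refine ⟨fun d' hd' hne => ?_, ?_, ?_, ?_⟩
  · have hd'' := mem_dodecads_iff.1 (smul_mem_dodecads ha hd')
    rw [card_eq_pc] at hd''
    have h := forall_code (P := fun m => !(pc m == 12) || m == baseDodecad ||
      (let k := pc (m &&& baseDodecad); k == 0 || k == 4 || k == 6 || k == 8)) (by decide +kernel) hd''.1
    simp only [hd''.2, beq_self_eq_true, Bool.not_true, Bool.false_or, Bool.or_eq_true, beq_iff_eq] at h
    rw [hkey]
    rcases h with h | h
    · exact absurd (MulAction.injective b⁻¹ (mask_injective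
        (show mask (b⁻¹ • d') = mask (b⁻¹ • d) by rw [h, had, mask_maskSet (by decide +kernel)]))) hne
    · tauto
  · rw [hcount 4]; exact count_weight 12 _ (fun m => pc (m &&& baseDodecad) == 4) (fun _ => Iff.rfl) (by decide +kernel)
  · rw [hcount 6]; exact count_weight 12 _ (fun m => pc (m &&& baseDodecad) == 6) (fun _ => Iff.rfl) (by decide +kernel)
  · rw [hcount 8]; exact count_weight 12 _ (fun m => pc (m &&& baseDodecad) == 8) (fun _ => Iff.rfl) (by decide +kernel)

end Cfsg.Agent.S1560
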