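import Cfsg.Statements.S1561
import Cfsg.Agent.Lib.Golay.Orbit
import Cfsg.Agent.Lib.Golay.OrbitData
import Cfsg.Agent.Lib.Golay.Steiner

set_option autoImplicit false
open scoped Pointwise
open Cfsg

namespace Cfsg.Agent.S1561

open Cfsg.Agent.Golay.Basic Cfsg.Agent.Golay.Design Cfsg.Agent.Golay.M24 Cfsg.Agent.Golay.M24Data Cfsg.Agent.Golay.Cert Cfsg.Agent.Golay.Orbit Cfsg.Agent.Golay.OrbitData Cfsg.Agent.Golay.Trans
open scoped Pointwise
set_option maxRecDepth 10000

/-- Two dodecads meeting a fixed dodecad in equally many points lie in one orbit of its stabiliser. -/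
theorem result (d d' d'' : Finset Cfsg.GolayPt) (hd : d ∈ Cfsg.dodecads) (hd' : d' ∈ Cfsg.dodecads) (hd'' : d'' ∈ Cfsg.dodecads) (h : (d ∩ d').card = (d ∩ d'').card) : ∃ g : Equiv.Perm Cfsg.GolayPt, g ∈ Cfsg.M24 ∧ g • d = d ∧ g • d' = d'' := by
  obtain ⟨b, hb, hbd⟩ := exists_smul_dodecad hd
  have ha : b⁻¹ ∈ Cfsg.M24 := Cfsg.M24.inv_mem hb
  have had : b⁻¹ • d = maskSet baseDodecad := by rw [← hbd, inv_smul_smul]
  have hX : dodTabs.all tabOK = true := by decide +kernel
  obtain ⟨g, hg, e⟩ := transitive_of_codeCovers hX (L := dodCert) (key := fun m => pc (m &&& baseDodecad))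
    (Q := fun _ => true) (w := 12) (by decide +kernel) (by decide +kernel)
    (smul_mem_dodecads ha hd') (smul_mem_dodecads ha hd'') rfl rfl (by
      have e := inter_smul_card b⁻¹ d d'
      have e' := inter_smul_card b⁻¹ d d''
      rw [had, Finset.inter_comm, card_inter_eq_pc, mask_maskSet (by decide +kernel)] at e e'
      rw [e, e', h])
  refine ⟨b * g * b⁻¹, Cfsg.M24.mul_mem (Cfsg.M24.mul_mem hb (tabGroup_le_M24 hX hg)) ha, ?_, ?_⟩
  · rw [mul_smul, mul_smul, had, tabGroup_stab hX (masks := [baseDodecad]) (by decide +kernel)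
      (by decide +kernel) List.mem_cons_self hg, hbd]
  · rw [mul_smul, mul_smul, e, smul_inv_smul]

end Cfsg.Agent.S1561
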