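import Cfsg.Statements.S1562
import Cfsg.Agent.Lib.Golay.SetOrbit

set_option autoImplicit false
open scoped Pointwise
open Cfsg

namespace Cfsg.Agent.S1562

open Cfsg.Agent.Golay.Basic Cfsg.Agent.Golay.M24 Cfsg.Agent.Golay.Orbit Cfsg.Agent.Golay.KSubsets Cfsg.Agent.Golay.SetOrbit
open scoped Pointwise
set_option maxRecDepth 10000

/-- Orbits of a triad stabiliser on the triads disjoint from it: the 210 triads inside a common octad with it form one orbit and the remaining 1120 another. -/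
theorem result (T : Finset Cfsg.GolayPt) (hT : T.card = 3) : {U : Finset Cfsg.GolayPt | U.card = 3 ∧ Disjoint T U ∧ (∃ o ∈ Cfsg.octads, T ∪ U ⊆ o)}.ncard = 210 ∧ {U : Finset Cfsg.GolayPt | U.card = 3 ∧ Disjoint T U ∧ ¬ (∃ o ∈ Cfsg.octads, T ∪ U ⊆ o)}.ncard = 1120 ∧ ∀ U U' : Finset Cfsg.GolayPt, U.card = 3 → U'.card = 3 → Disjoint T U → Disjoint T U' → ((∃ o ∈ Cfsg.octads, T ∪ U ⊆ o) ↔ (∃ o ∈ Cfsg.octads, T ∪ U' ⊆ o)) → ∃ g : Equiv.Perm Cfsg.GolayPt, g ∈ Cfsg.M24 ∧ g • T = T ∧ g • U = U' := by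
  classical
  obtain ⟨a, ha, haT⟩ := exists_smul_small hT (by norm_num)
  have hoct : ∀ U : Finset GolayPt, (∃ o ∈ octads, T ∪ U ⊆ o) ↔
      inAny octThrough3 (7 ||| mask (a • U)) = true := by
    intro U
    have h7 : mask (a • T) = 7 := by rw [haT]; exact mask_maskSet (by norm_num)
    rw [exists_octad_smul ha, Finset.smul_finset_union,
      exists_octad_iff octThrough3_eq (by
        rw [mask_union, h7, Nat.and_or_distrib_left]
        apply Nat.eq_of_testBit_eq
        intro i
        simp only [Nat.testBit_or, Nat.testBit_and]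
        cases (7 : ℕ).testBit i <;> simp), mask_union, h7]
  have hdis : ∀ U : Finset GolayPt, Disjoint T U ↔ mask (a • U) &&& 7 = 0 := by
    intro U
    rw [← disjoint_smul_iff a, disjoint_iff_and, haT, mask_maskSet (by norm_num), Nat.and_comm]
    rfl
  refine ⟨?_, ?_, ?_⟩
  · rw [ncard_transport a (Q := fun V => V.card = 3 ∧ (mask V &&& 7 = 0 ∧
        inAny octThrough3 (7 ||| mask V) = true))
      (fun U => by rw [Finset.card_smul_finset, ← hdis, ← hoct])]
    exact ncard_ksub 3 _ (fun m => m &&& 7 == 0 && inAny octThrough3 (7 ||| m))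
      (fun s _ => by simp) (by decide +kernel)
  · rw [ncard_transport a (Q := fun V => V.card = 3 ∧ (mask V &&& 7 = 0 ∧
        ¬ inAny octThrough3 (7 ||| mask V) = true))
      (fun U => by rw [Finset.card_smul_finset, ← hdis, ← hoct])]
    exact ncard_ksub 3 _ (fun m => m &&& 7 == 0 && !inAny octThrough3 (7 ||| m))
      (fun s _ => by simp) (by decide +kernel)
  · intro U U' hU hU' hd hd' hiff
    have hmem : ∀ V : Finset GolayPt, V.card = 3 → Disjoint T V → mask (a • V) ∈ triCands := by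
      intro V hV hdV
      exact List.mem_filter.2 ⟨mask_mem_ksub (by rw [Finset.card_smul_finset, hV]),
        by simp [(hdis V).1 hdV]⟩
    obtain ⟨g, hg, hgU⟩ := transitive_of_covers triGens_ok.1 (by decide +kernel) tri_covers
      (hmem U hU hd) (hmem U' hU' hd') (by
        rw [hoct, hoct, ← Bool.eq_iff_iff] at hiff
        simp only [triKey, hiff])
    have hgT := tabGroup_stab triGens_ok.1 triGens_ok.2 (m := 7) (by norm_num) (by simp) hg
    refine ⟨a⁻¹ * g * a, ?_, ?_, ?_⟩
    · exact M24.mul_mem (M24.mul_mem (M24.inv_mem ha) (Cfsg.Agent.Golay.Cert.tabGroup_le_M24 triGens_ok.1 hg)) ha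
    · rw [mul_smul, mul_smul, haT, show (2 ^ 3 - 1 : ℕ) = 7 from rfl, hgT, inv_smul_eq_iff, haT]; rfl
    · rw [mul_smul, mul_smul, hgU, inv_smul_smul]

end Cfsg.Agent.S1562
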