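import Cfsg.Statements.S1568
import Cfsg.Agent.Lib.Leech.Shapes

set_option autoImplicit false
open Cfsg

namespace Cfsg.Agent.S1568

open Cfsg.Agent.Leech.Count Cfsg.Agent.Leech.Shapes
set_option maxRecDepth 10000

/-- Shape census of the lattice vectors of sum of squares 48 (customary norm 6): the four families (2^12, 0^12), (±3^3, ±1^21), (±4, ±2^8, 0^15) and (±5, ±1^23) have 5275648, 8290304, 3108864 and 98304 members. -/
theorem result : {x : Cfsg.GolayPt → ℤ | x ∈ Cfsg.leechLattice ∧ Cfsg.sqNorm x = 48 ∧ ∀ i, x i = 0 ∨ x i = 2 ∨ x i = -2}.ncard = 5275648 ∧ {x : Cfsg.GolayPt → ℤ | x ∈ Cfsg.leechLattice ∧ Cfsg.sqNorm x = 48 ∧ ∃ i j k, i ≠ j ∧ j ≠ k ∧ i ≠ k ∧ |x i| = 3 ∧ |x j| = 3 ∧ |x k| = 3}.ncard = 8290304 ∧ {x : Cfsg.GolayPt → ℤ | x ∈ Cfsg.leechLattice ∧ Cfsg.sqNorm x = 48 ∧ ∃ i, |x i| = 4}.ncard = 3108864 ∧ {x : Cfsg.GolayPt → ℤ | x ∈ Cfsg.leechLattice ∧ Cfsg.sqNorm x = 48 ∧ ∃ i, |x i| = 5}.ncard = 98304 := by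
  refine ⟨?_, ?_, (ncard_exists_abs 4).trans (by decide +kernel), (ncard_exists_abs 5).trans (by decide +kernel)⟩
  · refine Eq.trans ?_ ((count_vectors (fun a => a == 0 || a == 2 || a == -2) (N := 48) (by norm_num)).trans (by decide +kernel))
    refine congrArg Set.ncard (Set.ext fun x => ?_)
    simp [or_assoc]
  · refine Eq.trans ?_ ((count_vectors (fun a => a.natAbs == 1 || a.natAbs == 3) (N := 48) (by norm_num)).trans (by decide +kernel))
    refine congrArg Set.ncard (Set.ext fun x => ?_)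
    exact and_congr_right fun h1 => and_congr_right fun h2 => three_threes h1 h2

end Cfsg.Agent.S1568
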