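import Cfsg.Statements.S1569
import Cfsg.Agent.Lib.Leech.Mod2

set_option autoImplicit false
open scoped Pointwise
open Cfsg

namespace Cfsg.Agent.S1569

open Cfsg.Agent.Leech.Mod2 Cfsg.Agent.Leech.Classes

/-- The cross through a lattice vector of customary norm 8 has exactly 48 members. -/
theorem result (x : Cfsg.GolayPt → ℤ) (hx : x ∈ Cfsg.leechLattice) (hxn : Cfsg.sqNorm x = 64) : (Cfsg.cross x).ncard = 48 := by
  have h := (class_count leech_shells).2 ⟨x, hx⟩ (by rw [lform_self]; exact hxn)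
  rw [← h, ← Set.ncard_image_of_injective _ Subtype.val_injective]
  refine congrArg Set.ncard (Set.ext fun y => ?_)
  simp only [Set.mem_image, Set.mem_ofPred_eq, lform_self, exists_half_iff, Cfsg.cross, hxn]
  constructor
  · rintro ⟨hy, hn, hz⟩; exact ⟨⟨y, hy⟩, ⟨hn, hz⟩, rfl⟩
  · rintro ⟨⟨y, hy⟩, ⟨hn, hz⟩, rfl⟩; exact ⟨hy, hn, hz⟩

end Cfsg.Agent.S1569
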