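import Cfsg.Statements.S1578
import Cfsg.Agent.Lib.LeechAut.Census

set_option autoImplicit false
open Cfsg

namespace Cfsg.Agent.S1578

/-- A lattice vector of customary norm 6 is the sum of an unordered pair of minimal vectors in exactly 276 ways (552 ordered summands). -/
theorem result (u : ↥Cfsg.leechLattice) (hu : Cfsg.sqNorm (u : Cfsg.GolayPt → ℤ) = 48) : {v : ↥Cfsg.leechLattice | Cfsg.sqNorm (v : Cfsg.GolayPt → ℤ) = 32 ∧ Cfsg.sqNorm ((u - v) : Cfsg.GolayPt → ℤ) = 32}.ncard = 552 := by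
  rw [← (LeechAut.Moments.census48 hu).1, ← LeechAut.Census.ncard_cnt]
  refine congrArg Set.ncard (Set.ext fun v => ?_)
  simp only [Set.mem_ofPred_eq]
  refine and_congr_right fun hv => ?_
  have e := LeechAut.Basic.sqNorm_add (u : GolayPt → ℤ) (-(v : GolayPt → ℤ))
  have n := LeechAut.Moments.neg_norm v
  rw [AddSubgroup.coe_neg] at n
  rw [← sub_eq_add_neg, LeechAut.Moments.dot_neg_right, n, hv, hu] at e
  show sqNorm ((u : GolayPt → ℤ) - (v : GolayPt → ℤ)) = 32 ↔ _
  constructor <;> intro h <;> omega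

end Cfsg.Agent.S1578
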