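import Cfsg.Statements.S1579
import Cfsg.Agent.Lib.LeechAut.Pairs

set_option autoImplicit false
open Cfsg

namespace Cfsg.Agent.S1579

/-- The stabiliser of a vector of customary norm 6 is transitive on the 552 minimal vectors that complete it to a sum of two minimal vectors. -/
theorem result (u v v' : ↥Cfsg.leechLattice) (hu : Cfsg.sqNorm (u : Cfsg.GolayPt → ℤ) = 48) (hv : Cfsg.sqNorm (v : Cfsg.GolayPt → ℤ) = 32 ∧ Cfsg.sqNorm ((u - v) : Cfsg.GolayPt → ℤ) = 32) (hv' : Cfsg.sqNorm (v' : Cfsg.GolayPt → ℤ) = 32 ∧ Cfsg.sqNorm ((u - v') : Cfsg.GolayPt → ℤ) = 32) : ∃ g : ↥Cfsg.Co0, g • u = u ∧ g • v = v' := by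
  obtain ⟨hv, hvu⟩ := hv
  obtain ⟨hv', hvu'⟩ := hv'
  have key : ∀ x : ↥leechLattice, sqNorm (x : GolayPt → ℤ) = 32 →
      sqNorm ((u : GolayPt → ℤ) - (x : GolayPt → ℤ)) = 32 →
      sqNorm ((u - x : ↥leechLattice) : GolayPt → ℤ) = 32 ∧
        dotInt (x : GolayPt → ℤ) ((u - x : ↥leechLattice) : GolayPt → ℤ) = -8 := by
    intro x hx hxu
    have e : sqNorm ((u - x : ↥leechLattice) : GolayPt → ℤ) = 32 := hxu
    have h := LeechAut.Basic.sqNorm_add (x : GolayPt → ℤ) ((u - x : ↥leechLattice) : GolayPt → ℤ)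
    rw [e, hx, ← AddSubgroup.coe_add, add_sub_cancel, hu] at h
    exact ⟨e, by omega⟩
  obtain ⟨a1, a2⟩ := key v hv hvu
  obtain ⟨b1, b2⟩ := key v' hv' hvu'
  obtain ⟨g, h1, h2⟩ := LeechAut.Pairs.trans_pairs v (u - v) v' (u - v') hv a1 hv' b1
    (Or.inl (by rw [a2]; rfl)) (by rw [a2, b2])
  refine ⟨g, ?_, h1⟩
  have e := LeechAut.Basic.smul_add' g v (u - v)
  rwa [h1, h2, add_sub_cancel, add_sub_cancel] at e

end Cfsg.Agent.S1579
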