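import Cfsg.Statements.S1580
import Cfsg.Agent.Lib.LeechAut.McL275

set_option autoImplicit false
open Cfsg

namespace Cfsg.Agent.S1580

/-- The McLaughlin configuration: for u of customary norm 6 and v minimal with u − v minimal, there are 275 further such summands x of customary inner product 2 with v, permuted transitively by the stabiliser of u and v. -/
theorem result (u v : ↥Cfsg.leechLattice) (hu : Cfsg.sqNorm (u : Cfsg.GolayPt → ℤ) = 48) (hv : Cfsg.sqNorm (v : Cfsg.GolayPt → ℤ) = 32 ∧ Cfsg.sqNorm ((u - v) : Cfsg.GolayPt → ℤ) = 32) : {x : ↥Cfsg.leechLattice | Cfsg.sqNorm (x : Cfsg.GolayPt → ℤ) = 32 ∧ Cfsg.sqNorm ((u - x) : Cfsg.GolayPt → ℤ) = 32 ∧ Cfsg.dotInt (v : Cfsg.GolayPt → ℤ) (x : Cfsg.GolayPt → ℤ) = 16}.ncard = 275 ∧ ∀ x ∈ {x : ↥Cfsg.leechLattice | Cfsg.sqNorm (x : Cfsg.GolayPt → ℤ) = 32 ∧ Cfsg.sqNorm ((u - x) : Cfsg.GolayPt → ℤ) = 32 ∧ Cfsg.dotInt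 (v : Cfsg.GolayPt → ℤ) (x : Cfsg.GolayPt → ℤ) = 16}, ∀ x' ∈ {x : ↥Cfsg.leechLattice | Cfsg.sqNorm (x : Cfsg.GolayPt → ℤ) = 32 ∧ Cfsg.sqNorm ((u - x) : Cfsg.GolayPt → ℤ) = 32 ∧ Cfsg.dotInt (v : Cfsg.GolayPt → ℤ) (x : Cfsg.GolayPt → ℤ) = 16}, ∃ g : ↥Cfsg.Co0, g • u = u ∧ g • v = v ∧ g • x = x' := by
  classical
  obtain ⟨h, hv', hu'⟩ := LeechAut.McL275.exists_frame hu hv.1 hv.2
  refine ⟨?_, ?_⟩
  · have e := LeechAut.McL275.ncard_set hu hv' hu' (fun _ => True) (fun _ => True) (fun _ => Iff.rfl)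
    simp only [and_true, Finset.filter_true] at e
    exact e.trans LeechAut.McL275.card_Af
  · intro x hx x' hx'
    obtain ⟨g, hg, e⟩ := LeechAut.McL275.to_T _ ((LeechAut.McL275.mem_iff hu hv' hu' x).1 hx)
    obtain ⟨g', hg', e'⟩ := LeechAut.McL275.to_T _ ((LeechAut.McL275.mem_iff hu hv' hu' x').1 hx')
    obtain ⟨f1, f2⟩ := LeechAut.McL275.fix_of hv' hu' hv' hu' (Subgroup.mul_mem _ (Subgroup.inv_mem _ hg') hg)
    refine ⟨h⁻¹ * (g'⁻¹ * g) * h, f1, f2, ?_⟩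
    rw [mul_smul, mul_smul, mul_smul, e, ← e', inv_smul_smul, inv_smul_smul]

end Cfsg.Agent.S1580
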