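import Cfsg.Statements.S1581
import Cfsg.Agent.Lib.LeechAut.McL275

set_option autoImplicit false
open Cfsg

namespace Cfsg.Agent.S1581

/-- The McLaughlin group acts with rank 3 and subdegrees 1, 112, 162 on its 275 points: the point stabiliser has two orbits on the remaining points, distinguished by customary inner product 1 or 2 with the fixed point. -/
theorem result (u v x : ↥Cfsg.leechLattice) (hu : Cfsg.sqNorm (u : Cfsg.GolayPt → ℤ) = 48) (hv : Cfsg.sqNorm (v : Cfsg.GolayPt → ℤ) = 32 ∧ Cfsg.sqNorm ((u - v) : Cfsg.GolayPt → ℤ) = 32) (hx : x ∈ {x : ↥Cfsg.leechLattice | Cfsg.sqNorm (x : Cfsg.GolayPt → ℤ) = 32 ∧ Cfsg.sqNorm ((u - x) : Cfsg.GolayPt → ℤ) = 32 ∧ Cfsg.dotInt (v : Cfsg.GolayPt → ℤ) (x : Cfsg.GolayPt → ℤ) = 16}) : {y : ↥Cfsg.leechLattice | y ∈ {x : ↥Cfsg.leechLattice | Cfsg.sqNorm (x : Cfsg.GolayPt → ℤ) = 32 ∧ Cfsg.sqNorm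 ((u - x) : Cfsg.GolayPt → ℤ) = 32 ∧ Cfsg.dotInt (v : Cfsg.GolayPt → ℤ) (x : Cfsg.GolayPt → ℤ) = 16} ∧ Cfsg.dotInt (x : Cfsg.GolayPt → ℤ) (y : Cfsg.GolayPt → ℤ) = 8}.ncard = 112 ∧ {y : ↥Cfsg.leechLattice | y ∈ {x : ↥Cfsg.leechLattice | Cfsg.sqNorm (x : Cfsg.GolayPt → ℤ) = 32 ∧ Cfsg.sqNorm ((u - x) : Cfsg.GolayPt → ℤ) = 32 ∧ Cfsg.dotInt (v : Cfsg.GolayPt → ℤ) (x : Cfsg.GolayPt → ℤ) = 16} ∧ y ≠ x ∧ Cfsg.dotInt (x : Cfsg.GolayPt → ℤ) (y : Cfsg.GolayPt → ℤ) = 16}.ncard = 162 ∧ ∀ y ∈ {x : ↥Cfsg.leechLattice | Cfsg.sqNorm (x : Cfsg.GolayPt → ℤ) = 32 ∧ Cfsg.sqNorm ((u - x) : Cfsg.GolayPt → ℤ) = 32 ∧ Cfsg.dotInt (v : Cfsg.GolayPt → ℤ) (x : Cfsg.GolayPt → ℤ) = 16}, ∀ y' ∈ {x : ↥Cfsg.leechLattice | Cfsg.sqNorm (x : Cfsg.GolayPt → ℤ) = 32 ∧ Cfsg.sqNorm ((u - x) : Cfsg.GolayPt → ℤ) = 32 ∧ Cfsg.dotInt (v : Cfsg.GolayPt → ℤ) (x : Cfsg.GolayPt → ℤ) =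 16}, y ≠ x → y' ≠ x → Cfsg.dotInt (x : Cfsg.GolayPt → ℤ) (y : Cfsg.GolayPt → ℤ) = Cfsg.dotInt (x : Cfsg.GolayPt → ℤ) (y' : Cfsg.GolayPt → ℤ) → ∃ g : ↥Cfsg.Co0, g • u = u ∧ g • v = v ∧ g • x = x ∧ g • y = y' := by
  classical
  obtain ⟨h, hv', hu'⟩ := LeechAut.McL275.exists_frame hu hv.1 hv.2
  obtain ⟨g, hg, e⟩ := LeechAut.McL275.to_T _ ((LeechAut.McL275.mem_iff hu hv' hu' x).1 hx)
  obtain ⟨g1, g2⟩ := LeechAut.McL.mem_G.1 hg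
  have tv : (g * h) • v = LeechAut.Pairs.v0 := by rw [mul_smul, hv', g1]
  have tu : (g * h) • u = LeechAut.Pairs.v0 + LeechAut.McL.w1 := by rw [mul_smul, hu', LeechAut.Basic.smul_add', g1, g2]
  have tx : (g * h) • x = LeechAut.McL275.T := by rw [mul_smul, e]
  have hd : ∀ y : leechLattice, dotInt (x : GolayPt → ℤ) (y : GolayPt → ℤ) =
      dotInt (LeechAut.McL275.T : GolayPt → ℤ) (((g * h) • y : leechLattice) : GolayPt → ℤ) := fun y => by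
    rw [← tx, LeechAut.Basic.dot_smul]
  have hne : ∀ y : leechLattice, y ≠ x ↔ (g * h) • y ≠ LeechAut.McL275.T := fun y => by
    rw [← tx]; exact not_congr (MulAction.injective _).eq_iff.symm
  refine ⟨?_, ?_, ?_⟩
  · exact (LeechAut.McL275.ncard_set hu tv tu _ (fun z : leechLattice =>
      dotInt (LeechAut.McL275.T : GolayPt → ℤ) (z : GolayPt → ℤ) = 8) (fun y => by rw [hd])).trans
      LeechAut.McL275.sub_counts.1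
  · exact (LeechAut.McL275.ncard_set hu tv tu _ (fun z : leechLattice => z ≠ LeechAut.McL275.T ∧
      dotInt (LeechAut.McL275.T : GolayPt → ℤ) (z : GolayPt → ℤ) = 16) (fun y => by rw [hd, hne])).trans
      LeechAut.McL275.sub_counts.2
  · intro y hy y' hy' n n' hdd
    obtain ⟨k, hk, kT, ky⟩ := LeechAut.McL275.trans_T ((LeechAut.McL275.mem_iff hu tv tu y).1 hy)
      ((LeechAut.McL275.mem_iff hu tv tu y').1 hy') ((hne y).1 n) ((hne y').1 n') (by rw [← hd, ← hd]; exact hdd)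
    obtain ⟨f1, f2⟩ := LeechAut.McL275.fix_of tv tu tv tu hk
    refine ⟨(g * h)⁻¹ * k * (g * h), f1, f2, ?_, ?_⟩
    · rw [mul_smul, mul_smul, tx, kT, ← tx, inv_smul_smul]
    · rw [mul_smul, mul_smul, ky, inv_smul_smul]

end Cfsg.Agent.S1581
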