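import Cfsg.Statements.S1583
import Cfsg.Agent.Lib.LeechAut.Census

set_option autoImplicit false
open Cfsg

namespace Cfsg.Agent.S1583

/-- The Higman–Sims configuration: for two vectors of customary norm 6 with inner product −4, exactly 100 minimal vectors have customary inner products 3 and −3 with them, and the joint stabiliser permutes these transitively. -/
theorem result (v w : ↥Cfsg.leechLattice) (hv : Cfsg.sqNorm (v : Cfsg.GolayPt → ℤ) = 48) (hw : Cfsg.sqNorm (w : Cfsg.GolayPt → ℤ) = 48) (hvw : Cfsg.dotInt (v : Cfsg.GolayPt → ℤ) (w : Cfsg.GolayPt → ℤ) = -32) : {x : ↥Cfsg.leechLattice | Cfsg.sqNorm (x : Cfsg.GolayPt → ℤ) = 32 ∧ Cfsg.dotInt (v : Cfsg.GolayPt → ℤ) (x : Cfsg.GolayPt → ℤ) = 24 ∧ Cfsg.dotInt (w : Cfsg.GolayPt → ℤ) (x : Cfsg.GolayPt → ℤ) = -24}.ncard = 100 ∧ ∀ x ∈ {x : ↥Cfsg.leechLattice | Cfsg.sqNorm (x : Cfsg.GolayPt → ℤ) = 32 ∧ Cfsg.dotInt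 (v : Cfsg.GolayPt → ℤ) (x : Cfsg.GolayPt → ℤ) = 24 ∧ Cfsg.dotInt (w : Cfsg.GolayPt → ℤ) (x : Cfsg.GolayPt → ℤ) = -24}, ∀ x' ∈ {x : ↥Cfsg.leechLattice | Cfsg.sqNorm (x : Cfsg.GolayPt → ℤ) = 32 ∧ Cfsg.dotInt (v : Cfsg.GolayPt → ℤ) (x : Cfsg.GolayPt → ℤ) = 24 ∧ Cfsg.dotInt (w : Cfsg.GolayPt → ℤ) (x : Cfsg.GolayPt → ℤ) = -24}, ∃ g : ↥Cfsg.Co0, g • v = v ∧ g • w = w ∧ g • x = x' := by
  obtain ⟨hs, hsv⟩ := LeechAut.Triples.sum_facts hv hw hvw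
  have key : ∀ x : ↥leechLattice, dotInt (v : GolayPt → ℤ) (x : GolayPt → ℤ) = 24 →
      (dotInt (w : GolayPt → ℤ) (x : GolayPt → ℤ) = -24 ↔
        dotInt ((v + w : ↥leechLattice) : GolayPt → ℤ) (x : GolayPt → ℤ) = 0) := fun x h => by
    rw [AddSubgroup.coe_add, LeechAut.Triples.dot_add_left, h]
    omega
  refine ⟨?_, fun x hx x' hx' => ?_⟩
  · rw [← LeechAut.Census.card_hundred hs hv hsv, ← Set.ncard_coe_finset]
    refine congrArg Set.ncard (Set.ext fun x => ?_)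
    rw [Finset.mem_coe, Finset.mem_filter, LeechAut.Moments.mem_short, Set.mem_ofPred_eq]
    exact ⟨fun ⟨a, b, c⟩ => ⟨a, (key x b).1 c, b⟩, fun ⟨a, c, b⟩ => ⟨a, b, (key x b).2 c⟩⟩
  · obtain ⟨a, b, c⟩ := hx
    obtain ⟨a', b', c'⟩ := hx'
    obtain ⟨g, g1, g2, g3⟩ := LeechAut.Triples.trans_triple (v + w) v x (v + w) v x' hs hv a hsv
      ((key x b).1 c) b hs hv a' hsv ((key x' b').1 c') b'
    refine ⟨g, g2, ?_, g3⟩
    rw [LeechAut.Basic.smul_add', g2] at g1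
    exact add_left_cancel g1

end Cfsg.Agent.S1583
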