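import Cfsg.Statements.S1584
import Cfsg.Agent.Lib.LeechAut.HS

set_option autoImplicit false
open Cfsg

namespace Cfsg.Agent.S1584

/-- The Higman–Sims group acts with rank 3 and subdegrees 1, 22, 77 on its 100 points, the orbits of a point stabiliser being distinguished by customary inner product 1 with the fixed point. -/
theorem result (v w x : ↥Cfsg.leechLattice) (hv : Cfsg.sqNorm (v : Cfsg.GolayPt → ℤ) = 48) (hw : Cfsg.sqNorm (w : Cfsg.GolayPt → ℤ) = 48) (hvw : Cfsg.dotInt (v : Cfsg.GolayPt → ℤ) (w : Cfsg.GolayPt → ℤ) = -32) (hx : x ∈ {x : ↥Cfsg.leechLattice | Cfsg.sqNorm (x : Cfsg.GolayPt → ℤ) = 32 ∧ Cfsg.dotInt (v : Cfsg.GolayPt → ℤ) (x : Cfsg.GolayPt → ℤ) = 24 ∧ Cfsg.dotInt (w : Cfsg.GolayPt → ℤ) (x : Cfsg.GolayPt → ℤ) = -24}) : {y : ↥Cfsg.leechLattice | y ∈ {x : ↥Cfsg.leechLattice | Cfsg.sqNorm (x : Cfsg.GolayPt → ℤ) = 32 ∧ Cfsg.dotInt (v : Cfsg.GolayPt → ℤ) (x :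 Cfsg.GolayPt → ℤ) = 24 ∧ Cfsg.dotInt (w : Cfsg.GolayPt → ℤ) (x : Cfsg.GolayPt → ℤ) = -24} ∧ Cfsg.dotInt (x : Cfsg.GolayPt → ℤ) (y : Cfsg.GolayPt → ℤ) = 8}.ncard = 22 ∧ {y : ↥Cfsg.leechLattice | y ∈ {x : ↥Cfsg.leechLattice | Cfsg.sqNorm (x : Cfsg.GolayPt → ℤ) = 32 ∧ Cfsg.dotInt (v : Cfsg.GolayPt → ℤ) (x : Cfsg.GolayPt → ℤ) = 24 ∧ Cfsg.dotInt (w : Cfsg.GolayPt → ℤ) (x : Cfsg.GolayPt → ℤ) = -24} ∧ y ≠ x ∧ Cfsg.dotInt (x : Cfsg.GolayPt → ℤ) (y : Cfsg.GolayPt → ℤ) ≠ 8}.ncard = 77 ∧ ∀ y ∈ {x : ↥Cfsg.leechLattice | Cfsg.sqNorm (x : Cfsg.GolayPt → ℤ) = 32 ∧ Cfsg.dotInt (v : Cfsg.GolayPt → ℤ) (x : Cfsg.GolayPt → ℤ) = 24 ∧ Cfsg.dotInt (w : Cfsg.GolayPt → ℤ) (x : Cfsg.GolayPt → ℤ) = -24}, ∀ y' ∈ {x : ↥Cfsg.leechLattice | Cfsg.sqNorm (x : Cfsg.GolayPt → ℤ) = 32 ∧ Cfsg.dotInt (v : Cfsg.GolayPt → ℤ) (x : Cfsg.GolayPt → ℤ) = 24 ∧ Cfsg.dotInt (w : Cfsg.GolayPt → ℤ) (x : Cfsg.GolayPt → ℤ)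 = -24}, y ≠ x → y' ≠ x → (Cfsg.dotInt (x : Cfsg.GolayPt → ℤ) (y : Cfsg.GolayPt → ℤ) = 8 ↔ Cfsg.dotInt (x : Cfsg.GolayPt → ℤ) (y' : Cfsg.GolayPt → ℤ) = 8) → ∃ g : ↥Cfsg.Co0, g • v = v ∧ g • w = w ∧ g • x = x ∧ g • y = y' := by
  obtain ⟨hx32, hvx, hwx⟩ := hx
  obtain ⟨hs, hsv⟩ := LeechAut.Triples.sum_facts hv hw hvw
  have hsx : dotInt ((v + w : ↥leechLattice) : GolayPt → ℤ) (x : GolayPt → ℤ) = 0 := by
    rw [AddSubgroup.coe_add, LeechAut.Triples.dot_add_left, hvx, hwx]; rfl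
  obtain ⟨h, h1, h2, h3⟩ := LeechAut.Triples.trans_triple (v + w) v x LeechAut.Pairs.v0
    LeechAut.Census.u5 LeechAut.Pairs.w0 hs hv hx32 hsv hsx hvx LeechAut.Pairs.sqNorm_v0
    LeechAut.Census.u5_facts.1 LeechAut.HS.w0_inY.1 LeechAut.HS.dot_v0u5 LeechAut.HS.w0_inY.2.1
    LeechAut.HS.w0_inY.2.2
  have hsplit : ∀ y : ↥leechLattice, dotInt ((v + w : ↥leechLattice) : GolayPt → ℤ) (y : GolayPt → ℤ) =
      dotInt (v : GolayPt → ℤ) (y : GolayPt → ℤ) + dotInt (w : GolayPt → ℤ) (y : GolayPt → ℤ) := fun y => by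
    rw [AddSubgroup.coe_add, LeechAut.Triples.dot_add_left]
  have hset : ∀ y : ↥leechLattice, (sqNorm (y : GolayPt → ℤ) = 32 ∧
      dotInt (v : GolayPt → ℤ) (y : GolayPt → ℤ) = 24 ∧ dotInt (w : GolayPt → ℤ) (y : GolayPt → ℤ) = -24) ↔
      LeechAut.HS.InY (h • y) := by
    intro y
    have a := LeechAut.Basic.dot_smul h (v + w) y
    have b := LeechAut.Basic.dot_smul h v y
    rw [h1, hsplit] at a
    rw [h2] at b
    unfold LeechAut.HS.InY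
    rw [LeechAut.Basic.sqNorm_smul, a, b]
    constructor
    · rintro ⟨p, q, r⟩; exact ⟨p, by omega, q⟩
    · rintro ⟨p, q, r⟩; exact ⟨p, r, by omega⟩
  have hdot : ∀ y : ↥leechLattice, LeechAut.HS.InY (h • y) →
      dotInt (x : GolayPt → ℤ) (y : GolayPt → ℤ) = 8 * ((h • y : ↥leechLattice) : GolayPt → ℤ) none := by
    intro y hy
    rw [← LeechAut.Basic.dot_smul h x y, h3, LeechAut.HS.dot_w0_Y hy]
  have hw0 : ((LeechAut.Pairs.w0 : ↥leechLattice) : GolayPt → ℤ) none = 4 := by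
    show LeechAut.Pairs.orthVec none = 4
    decide +kernel
  refine ⟨?_, ?_, fun y hy y' hy' hne hne' hiff => ?_⟩
  · refine Eq.trans ?_ LeechAut.HS.card_one
    refine Set.ncard_congr (fun y _ => h • y) ?_ (fun a b _ _ e => MulAction.injective h e) ?_
    · rintro y ⟨hy, h8⟩
      have hY := (hset y).1 hy
      have e := hdot y hY
      exact ⟨hY, by omega⟩
    · rintro z ⟨hz, hz1⟩
      refine ⟨h⁻¹ • z, ?_, smul_inv_smul h z⟩
      have hY : LeechAut.HS.InY (h • h⁻¹ • z) := by rw [smul_inv_smul]; exact hz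
      have e := hdot _ hY
      rw [smul_inv_smul, hz1] at e
      exact ⟨(hset _).2 hY, e⟩
  · refine Eq.trans ?_ LeechAut.HS.card_two
    refine Set.ncard_congr (fun y _ => h • y) ?_ (fun a b _ _ e => MulAction.injective h e) ?_
    · rintro y ⟨hy, hne, h8⟩
      have hY := (hset y).1 hy
      have e := hdot y hY
      rcases LeechAut.HS.one_or_two hY (fun e' => hne (MulAction.injective h (e'.trans h3.symm))) with a | a
      · omega
      · exact ⟨hY, a⟩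
    · rintro z ⟨hz, hz1⟩
      refine ⟨h⁻¹ • z, ?_, smul_inv_smul h z⟩
      have hY : LeechAut.HS.InY (h • h⁻¹ • z) := by rw [smul_inv_smul]; exact hz
      have e := hdot _ hY
      rw [smul_inv_smul, hz1] at e
      refine ⟨(hset _).2 hY, fun e' => ?_, by omega⟩
      have e'' := congrArg (fun t => ((h • t : ↥leechLattice) : GolayPt → ℤ) none) e'
      simp only [smul_inv_smul, h3, hw0, hz1] at e''
      norm_num at e''
  · have hY := (hset y).1 hy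
    have hY' := (hset y').1 hy'
    rw [hdot y hY, hdot y' hY'] at hiff
    have hh : ∀ z, z ≠ x → h • z ≠ LeechAut.Pairs.w0 := fun z hz e' =>
      hz (MulAction.injective h (e'.trans h3.symm))
    obtain ⟨g, hg, he⟩ : ∃ g ∈ LeechAut.HS.S, g • (h • y) = h • y' := by
      rcases LeechAut.HS.one_or_two hY (hh y hne) with a | a <;>
        rcases LeechAut.HS.one_or_two hY' (hh y' hne') with b | b
      · exact LeechAut.HS.S_trans_one hY hY' a b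
      · rw [a, b] at hiff; norm_num at hiff
      · rw [a, b] at hiff; norm_num at hiff
      · exact LeechAut.HS.S_trans_two hY hY' a b
    obtain ⟨hG, gw⟩ := LeechAut.HS.mem_S.1 hg
    obtain ⟨gv, gu⟩ := LeechAut.HS.mem_G.1 hG
    have t1 : (h⁻¹ * g * h) • v = v := by rw [mul_smul, mul_smul, h2, gu, ← h2, inv_smul_smul]
    have t2 : (h⁻¹ * g * h) • (v + w) = v + w := by rw [mul_smul, mul_smul, h1, gv, ← h1, inv_smul_smul]
    rw [LeechAut.Basic.smul_add', t1] at t2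
    exact ⟨h⁻¹ * g * h, t1, add_left_cancel t2,
      by rw [mul_smul, mul_smul, h3, gw, ← h3, inv_smul_smul],
      by rw [mul_smul, mul_smul, he, inv_smul_smul]⟩

end Cfsg.Agent.S1584
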