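import Cfsg.Statements.S1585
import Cfsg.Agent.Lib.LeechAut.Triples

set_option autoImplicit false
open Cfsg

namespace Cfsg.Agent.S1585

/-- Two vectors of customary norm 6 with inner product −4 are exchanged by some automorphism of the lattice. -/
theorem result (v w : ↥Cfsg.leechLattice) (hv : Cfsg.sqNorm (v : Cfsg.GolayPt → ℤ) = 48) (hw : Cfsg.sqNorm (w : Cfsg.GolayPt → ℤ) = 48) (hvw : Cfsg.dotInt (v : Cfsg.GolayPt → ℤ) (w : Cfsg.GolayPt → ℤ) = -32) : ∃ g : ↥Cfsg.Co0, g • v = w ∧ g • w = v := by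
  obtain ⟨hs, hsv⟩ := LeechAut.Triples.sum_facts hv hw hvw
  obtain ⟨-, hsw⟩ := LeechAut.Triples.sum_facts hw hv (by rw [LeechAut.Pairs.dot_comm]; exact hvw)
  rw [add_comm w v] at hsw
  obtain ⟨g, gs, gv⟩ := LeechAut.Triples.trans_sv (v + w) v (v + w) w hs hv hsv hs hw hsw
  refine ⟨g, gv, ?_⟩
  rw [LeechAut.Basic.smul_add', gv, add_comm v w] at gs
  exact add_left_cancel gs

end Cfsg.Agent.S1585
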