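import Cfsg.Statements.S1589
import Cfsg.Agent.GroupStructure3.MathieuIndex.Main
import Cfsg.Agent.Lib.M24Module.OctadFix
import Cfsg.Agent.Lib.M24Module.CentBase

set_option autoImplicit false
open scoped Pointwise
open Cfsg

namespace Cfsg.Agent.S1589

section Helpers

open Cfsg.Agent.Golay.Basic Cfsg.Agent.Golay.M24 Cfsg.Agent.Golay.Trans Cfsg.Agent.Golay.Perm
  Cfsg.Agent.Golay.Design Cfsg.Agent.Golay.AutBig Cfsg.Agent.GroupStructure3.MathieuIndex
open scoped Pointwise

local notation "pG" => Equiv.Perm GolayPt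

theorem card_H {H : Subgroup ↥M24} {d : ℕ} (hd : H.index = d) :
    d * Nat.card H = 244823040 := by
  rw [← hd, H.index_mul_card, card_M24]

theorem odd_index_cases (H : Subgroup ↥M24) (hodd : 1024 ∣ Nat.card H) :
    ∃ g : ↥M24, T0 ≤ H.map (M24.subtype.comp (MulAut.conj g).toMonoidHom) := by
  haveI : Fact (Nat.Prime 2) := ⟨Nat.prime_two⟩
  have hf : (Nat.card ↥M24).factorization 2 = 10 := by
    rw [card_M24, Nat.factorization_def _ Nat.prime_two, show (244823040 : ℕ) = 2 ^ 10 * 239085 by norm_num,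
      padicValNat.mul (by norm_num) (by norm_num), padicValNat.prime_pow,
      padicValNat.eq_zero_of_not_dvd (by norm_num)]
  obtain ⟨Q, hQ⟩ := Sylow.exists_subgroup_card_pow_prime (G := H) 2 (n := 10) hodd
  have hQ' : Nat.card (Q.map H.subtype) = 2 ^ (Nat.card ↥M24).factorization 2 := by
    rw [hf, Subgroup.card_map_of_injective H.subtype_injective, hQ]
  have hT : Nat.card (T0.subgroupOf M24) = 2 ^ (Nat.card ↥M24).factorization 2 := by
    rw [hf, Nat.card_congr (Subgroup.subgroupOfEquivOfLe T0_le).toEquiv, card_T0]; norm_num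
  obtain ⟨g, hg⟩ := MulAction.exists_smul_eq ↥M24 (Sylow.ofCard _ hQ') (Sylow.ofCard _ hT)
  refine ⟨g, fun t ht => ?_⟩
  have hm : (⟨t, T0_le ht⟩ : ↥M24) ∈ ((Sylow.ofCard _ hT : Sylow 2 ↥M24) : Subgroup ↥M24) :=
    Subgroup.mem_subgroupOf.2 ht
  rw [← hg] at hm
  obtain ⟨q, hq, e⟩ := hm
  obtain ⟨q', -, rfl⟩ := hq
  exact ⟨(q' : ↥M24), q'.2, congrArg Subtype.val e⟩

theorem structure_of_index (H : Subgroup ↥M24) {d : ℕ} (hd : H.index = d)
    (h : d = 759 ∨ d = 1771 ∨ d = 253) :
    (∃ o ∈ octads, H ≤ MulAction.stabilizer M24 o) ∨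
      ∃ S ∈ sextets, H ≤ MulAction.stabilizer M24 S := by
  have hc := card_H hd
  obtain ⟨g, hg⟩ := odd_index_cases H (by rcases h with rfl | rfl | rfl <;> omega)
  set K := H.map (M24.subtype.comp (MulAut.conj g).toMonoidHom) with hK
  have hinj : Function.Injective (M24.subtype.comp (MulAut.conj g).toMonoidHom) :=
    M24.subtype_injective.comp (MulAut.conj g).injective
  have hKc : Nat.card K = Nat.card H := Subgroup.card_map_of_injective hinj
  have hKle : K ≤ M24 := by
    rintro _ ⟨x, -, rfl⟩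
    exact (MulAut.conj g x).2
  have key : ∀ {α : Type} [MulAction pG α] (x : α), (∀ k ∈ K, k • x = x) →
      H ≤ MulAction.stabilizer M24 (((g⁻¹ : ↥M24) : pG) • x) := by
    intro α _ x hx h' hh'
    have := hx _ ⟨h', hh', rfl⟩
    show (h' : pG) • ((g⁻¹ : ↥M24) : pG) • x = ((g⁻¹ : ↥M24) : pG) • x
    rw [← mul_smul, show ((g⁻¹ : ↥M24) : pG) = (g : pG)⁻¹ from rfl, eq_inv_smul_iff, ← mul_smul,
      ← mul_assoc]
    exact this
  rcases octad_or_sextet hKle hg (by rw [hKc]; rcases h with rfl | rfl | rfl <;> omega)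
    (by
      intro n hn
      simp only [List.mem_cons, List.not_mem_nil, or_false] at hn
      rw [hKc]
      rcases h with rfl | rfl | rfl <;> rcases hn with rfl | rfl | rfl | rfl <;> omega)
    (by rw [hKc]; rcases h with rfl | rfl | rfl <;> omega) with h1 | ⟨S, hS, h1⟩
  · exact Or.inl ⟨_, smul_mem_octads (g⁻¹).2 oSet_mem, key oSet h1⟩
  · exact Or.inr ⟨_, Cfsg.Agent.Golay.Suborbits.smul_mem_sextets (g⁻¹).2 hS, key S h1⟩

theorem pair_of_index (H : Subgroup ↥M24) (hd : H.index = 276) :
    ∃ s : Finset GolayPt, s.card = 2 ∧ H ≤ MulAction.stabilizer M24 s := by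
  classical
  have hc := card_H hd
  set K := H.map M24.subtype with hK
  have hKc : Nat.card K = 887040 := by
    rw [hK, Subgroup.card_map_of_injective M24.subtype_injective]; omega
  have hKle : K ≤ M24 := Subgroup.map_subtype_le H
  have hfin : ∀ s : Finset GolayPt, (∀ k ∈ K, k • s = s) → H ≤ MulAction.stabilizer M24 s :=
    fun s hs h hh => hs _ ⟨h, hh, rfl⟩
  have h24 : (Finset.univ : Finset GolayPt).card = 24 := by
    rw [Finset.card_univ]; exact Cfsg.Agent.Golay.Sextet.card_pts
  have hrel : ∀ {L M : Subgroup pG}, L ≤ M → Nat.card M = Nat.card L * 276 → L.relIndex M = 276 := by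
    intro L M hLM he
    have h := (L.subgroupOf M).card_mul_index
    rw [Nat.card_congr (Subgroup.subgroupOfEquivOfLe hLM).toEquiv, he] at h
    exact Nat.eq_of_mul_eq_mul_left Nat.card_pos h
  have hsize : ∀ S : Finset GolayPt, (∀ k ∈ K, k • S = S) → S.card ∈ [0, 2, 22, 24] := by
    intro S hS
    obtain ⟨d₅, hd₅, h₅⟩ := invariant_set (G := M24) Finset.univ (fun g _ => by simp) (min S.card 5)
      (fun T T' _ _ h1 h2 => exists_image24 (h1.trans h2.symm) (by omega)) hKle S (by simp) hS
    obtain ⟨d₃, hd₃, h₃⟩ := invariant_set (G := M24) Finset.univ (fun g _ => by simp) (min S.card 3)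
      (fun T T' _ _ h1 h2 => exists_image24 (h1.trans h2.symm) (by omega)) hKle S (by simp) hS
    rw [hrel hKle (by rw [card_M24, hKc])] at hd₅ hd₃
    rw [h24] at h₅ h₃
    have key : ∀ k ≤ 24, ∀ d ∈ Nat.divisors 276, ∀ e ∈ Nat.divisors 276,
        (24 : ℕ).choose (min k 5) ∣ d * k.choose (min k 5) →
        (24 : ℕ).choose (min k 3) ∣ e * k.choose (min k 3) →
        k ∈ ([0, 2, 22, 24] : List ℕ) := by decide +kernel
    exact key _ (h24 ▸ Finset.card_le_card (Finset.subset_univ S)) d₅
      (Nat.mem_divisors.2 ⟨hd₅, by norm_num⟩) d₃ (Nat.mem_divisors.2 ⟨hd₃, by norm_num⟩) h₅ h₃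
  obtain ⟨S, haS, hS, horb⟩ := exists_orbit_set (H := K) a0
  have hk := hsize S hS
  simp only [List.mem_cons, List.not_mem_nil, or_false] at hk
  rcases hk with h0 | h2 | h22 | htop
  · exact absurd (Finset.card_eq_zero.1 h0) (Finset.ne_empty_of_mem haS)
  · exact ⟨S, h2, hfin S hS⟩
  · refine ⟨Finset.univ \ S, ?_, hfin _ fun k hk => ?_⟩
    · rw [Finset.card_sdiff_of_subset (Finset.subset_univ _), h24, h22]
    · rw [Finset.smul_finset_sdiff, hS k hk, show k • (Finset.univ : Finset GolayPt) = Finset.univ by simp]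
  exfalso
  have hSu : S = Finset.univ := Finset.eq_univ_of_card _ (by rw [htop]; decide)
  -- stabilisers of points
  have hcardL : ∀ x : GolayPt, Nat.card (fixers K [x]) = 36960 := by
    intro x
    obtain ⟨S', hxS', hS', horb'⟩ := exists_orbit_set (H := K) x
    obtain ⟨k, hk, hkx⟩ := horb x (hSu ▸ Finset.mem_univ x)
    have ha' : a0 ∈ S' := by
      have := (mem_smul_iff k⁻¹ S' x).2 hxS'
      rwa [hS' _ (K.inv_mem hk), ← hkx, Equiv.Perm.inv_def, Equiv.symm_apply_apply] at this
    have hS'u : S' = Finset.univ := Finset.eq_univ_of_forall fun z => by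
      obtain ⟨k', hk', rfl⟩ := horb z (hSu ▸ Finset.mem_univ z)
      have := (mem_smul_iff k' S' a0).2 ha'
      rwa [hS' _ hk'] at this
    have h := orbit_set_dvd hxS' hS' horb'
    rw [hS'u, h24, hKc] at h
    have e : Nat.card (fixers K [x]) = Nat.card (MulAction.stabilizer K x) :=
      Nat.card_congr ⟨fun g => ⟨⟨g, g.2.1⟩, g.2.2 x (by simp)⟩,
        fun g => ⟨g.1, g.1.2, fun w hw => by rw [List.mem_singleton.1 hw]; exact g.2⟩,
        fun g => rfl, fun g => rfl⟩
    omega
  -- each point stabiliser fixes exactly one further point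
  have hex : ∀ x : GolayPt, ∃ y, y ≠ x ∧ ∀ k ∈ K, k x = x → k y = y := by
    intro x
    have hle : fixers K [x] ≤ fixers M24 [x] := fixers_mono hKle _
    obtain ⟨c, hcx⟩ := exists_ne x
    obtain ⟨T, hcT, hT, horbT⟩ := exists_orbit_set (H := fixers K [x]) c
    let U : Finset GolayPt := {x}ᶜ
    have hTU : T ⊆ U := by
      intro z hz
      simp only [U, Finset.mem_compl, Finset.mem_singleton]
      intro hzx
      rw [hzx] at hz
      obtain ⟨k, hk, e⟩ := horbT x hz
      exact hcx (k.injective (e.trans (hk.2 x (by simp)).symm))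
    have hU : ∀ g ∈ fixers M24 [x], g • U = U := fun g hg => by
      simp only [U, Finset.compl_eq_univ_sdiff, Finset.smul_finset_sdiff, Finset.smul_finset_singleton,
        Equiv.Perm.smul_def, hg.2 x (List.mem_singleton_self x)]
      simp
    have h23 : U.card = 23 := by
      rw [Finset.card_compl, Finset.card_singleton, Cfsg.Agent.Golay.Sextet.card_pts]
    obtain ⟨d₄, hd₄, h₄⟩ := invariant_set U hU (min T.card 4)
      (fun A A' hA hA' h1 h2 => exists_image
        (fun h => by simpa [U] using hA h) (fun h => by simpa [U] using hA' h)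
        (h1.trans h2.symm) (by omega)) hle T hTU hT
    rw [hrel hle (by rw [card_M23, hcardL])] at hd₄
    rw [h23] at h₄
    have hdvd := Dvd.intro _ (orbit_set_dvd hcT hT horbT)
    rw [hcardL] at hdvd
    have key : ∀ k ≤ 23, ∀ d ∈ Nat.divisors 276, 0 < k → k ∣ 36960 →
        (23 : ℕ).choose (min k 4) ∣ d * k.choose (min k 4) → k = 1 ∨ k = 22 := by decide +kernel
    rcases key _ (h23 ▸ Finset.card_le_card hTU) d₄ (Nat.mem_divisors.2 ⟨hd₄, by norm_num⟩)
      (Finset.card_pos.2 ⟨c, hcT⟩) hdvd h₄ with h1 | h22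
    · obtain ⟨y, rfl⟩ := Finset.card_eq_one.1 h1
      refine ⟨y, Ne.symm (by simpa [U] using hTU : x ≠ y), fun k hk hkx => ?_⟩
      have := hT k ⟨hk, fun w hw => by rw [List.mem_singleton.1 hw]; exact hkx⟩
      simpa [Finset.smul_finset_singleton] using this
    · obtain ⟨y, hy⟩ := Finset.card_eq_one.1 (show (U \ T).card = 1 by
        rw [Finset.card_sdiff_of_subset hTU, h23, h22])
      have hyU : y ∈ U := (Finset.mem_sdiff.1 (hy ▸ Finset.mem_singleton_self y)).1
      refine ⟨y, by simpa [U] using hyU, fun k hk hkx => ?_⟩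
      have hkL : k ∈ fixers K [x] := ⟨hk, fun w hw => by rw [List.mem_singleton.1 hw]; exact hkx⟩
      have e : k • (U \ T) = U \ T := by
        rw [Finset.smul_finset_sdiff, hU k (hle hkL), hT k hkL]
      rw [hy, Finset.smul_finset_singleton, Finset.singleton_inj] at e
      exact e
  have huniq : ∀ {x y y' : GolayPt}, y ≠ x → y' ≠ x → (∀ k ∈ K, k x = x → k y = y) →
      (∀ k ∈ K, k x = x → k y' = y') → y = y' := by
    intro x y y' hy hy' h h'
    by_contra hne
    have hle : fixers K [x] ≤ fixers M24 [x, y, y'] := by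
      intro k hk
      refine ⟨hKle hk.1, fun w hw => ?_⟩
      simp only [List.mem_cons, List.not_mem_nil, or_false] at hw
      rcases hw with rfl | rfl | rfl
      · exact hk.2 _ (by simp)
      · exact h k hk.1 (hk.2 x (by simp))
      · exact h' k hk.1 (hk.2 x (by simp))
    have hcl := Subgroup.card_le_of_le hle
    rw [hcardL, card_fixers (by simp [hy.symm, hy'.symm, hne]) (by simp),
      show [x, y, y'].length = 3 from rfl] at hcl
    revert hcl
    decide +kernel
  have hsym : ∀ {x y : GolayPt}, (∀ k ∈ K, k x = x → k y = y) → (∀ k ∈ K, k y = y → k x = x) := by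
    intro x y h k hk hky
    have hle : fixers K [x] ≤ fixers K [y] := fun g hg => ⟨hg.1, fun w hw => by
      rw [List.mem_singleton.1 hw]; exact h g hg.1 (hg.2 x (by simp))⟩
    have he := Subgroup.eq_of_le_of_card_ge hle (by rw [hcardL, hcardL])
    have hm : k ∈ fixers K [y] := ⟨hk, fun w hw => by rw [List.mem_singleton.1 hw]; exact hky⟩
    rw [← he] at hm
    exact hm.2 x (by simp)
  -- an element of order seven
  haveI : Fact (Nat.Prime 7) := ⟨by norm_num⟩
  obtain ⟨g, hg⟩ := exists_prime_orderOf_dvd_card' 7 (G := K) (by rw [hKc]; norm_num)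
  have hg7 : orderOf (g : pG) = 7 := by rw [Subgroup.orderOf_coe, hg]
  have hlt : (Cfsg.Agent.GroupStructure3.MathieuSub.fixF (g : pG)).card < 5 := by
    by_contra h5
    have := Cfsg.Agent.GroupStructure3.MathieuSub.orderOf_dvd_of_fix (hKle g.2) (by omega)
    rw [hg7] at this
    norm_num at this
  have hmod := Cfsg.Agent.GroupStructure3.MathieuSub.fixF_mod hg7
  obtain ⟨x, y, z, hxy, hxz, hyz, hF⟩ := Finset.card_eq_three.1
    (show (Cfsg.Agent.GroupStructure3.MathieuSub.fixF (g : pG)).card = 3 by omega)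
  have hfix : ∀ w, (g : pG) w = w ↔ w = x ∨ w = y ∨ w = z := fun w => by
    rw [← Cfsg.Agent.GroupStructure3.MathieuSub.mem_fixF, hF]; simp
  obtain ⟨x', hx'x, hx'⟩ := hex x
  have hgx' := (hfix x').1 (hx' _ g.2 ((hfix x).2 (Or.inl rfl)))
  -- the partner of the third fixed point
  have third : ∀ {u v w : GolayPt}, u ≠ w → v ≠ w → u ≠ v → (∀ k ∈ K, k u = u → k v = v) →
      (∀ p, (g : pG) p = p → p = u ∨ p = v ∨ p = w) → (g : pG) w = w → False := by
    intro u v w huw hvw huv h hall hw
    obtain ⟨w', hw'w, hw'⟩ := hex w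
    rcases hall w' (hw' _ g.2 hw) with rfl | rfl | rfl
    · exact hvw (huniq huv.symm huw.symm h (hsym hw'))
    · exact huw (huniq huv hvw.symm (hsym h) (hsym hw'))
    · exact hw'w rfl
  rcases hgx' with rfl | rfl | rfl
  · exact hx'x rfl
  · exact third hxz hyz hxy hx' (fun p hp => (hfix p).1 hp) ((hfix z).2 (Or.inr (Or.inr rfl)))
  · exact third hxy hyz.symm hxz hx'
      (fun p hp => by rcases (hfix p).1 hp with h | h | h <;> tauto) ((hfix y).2 (Or.inr (Or.inl rfl)))

theorem card_pair_stab_le {s : Finset GolayPt} (hs : s.card = 2) :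
    Nat.card (MulAction.stabilizer M24 s) ≤ 887040 := by
  classical
  obtain ⟨y, z, hyz, rfl⟩ := Finset.card_eq_two.1 hs
  set P := MulAction.stabilizer M24 ({y, z} : Finset GolayPt)
  rw [← (MulAction.stabilizer P y).card_mul_index, MulAction.index_stabilizer]
  have hmap : ∀ g : P, ((g : ↥M24) : pG) y = y ∨ ((g : ↥M24) : pG) y = z := fun g => by
    have := (mem_smul_iff ((g : ↥M24) : pG) {y, z} y).2 (by simp)
    rw [show ((g : ↥M24) : pG) • ({y, z} : Finset GolayPt) = {y, z} from g.2] at this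
    simpa using this
  have horb : (MulAction.orbit P y).ncard ≤ 2 := by
    refine le_trans (Set.ncard_le_ncard (t := {y, z}) ?_ (Set.toFinite _)) (Set.ncard_pair hyz).le
    rintro _ ⟨g, rfl⟩
    exact hmap g
  have hst : Nat.card (MulAction.stabilizer P y) ≤ 443520 := by
    let f : MulAction.stabilizer P y → fixers M24 [y, z] := fun g =>
      ⟨((g.1 : ↥M24) : pG), g.1.1.2, by
        intro w hw
        simp only [List.mem_cons, List.not_mem_nil, or_false] at hw
        have hy : ((g.1 : ↥M24) : pG) y = y := g.2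
        rcases hw with rfl | rfl
        · exact hy
        · have := (mem_smul_iff ((g.1 : ↥M24) : pG) {y, w} w).2 (by simp)
          rw [show ((g.1 : ↥M24) : pG) • ({y, w} : Finset GolayPt) = {y, w} from g.1.2] at this
          simp only [Finset.mem_insert, Finset.mem_singleton] at this
          rcases this with h | h
          · exact absurd (((g.1 : ↥M24) : pG).injective (h.trans hy.symm)) (Ne.symm hyz)
          · exact h⟩
    have h3 := Nat.card_le_card_of_injective f fun g g' h =>
      Subtype.ext (Subtype.ext (Subtype.ext (congrArg (fun w => w.1) h :)))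
    rwa [card_two hyz] at h3
  calc _ ≤ 443520 * 2 := Nat.mul_le_mul hst horb
    _ = 887040 := rfl

end Helpers

/-- Subgroups of the group of the length-24 code of index 759, 276 and 1771 are exactly the octad, duad and sextet stabilisers, and no subgroup has index 253. -/
theorem result : (∀ H : Subgroup ↥Cfsg.M24, H.index = 759 → ∃ o ∈ Cfsg.octads, H = MulAction.stabilizer Cfsg.M24 o) ∧ (∀ H : Subgroup ↥Cfsg.M24, H.index = 276 → ∃ s : Finset Cfsg.GolayPt, s.card = 2 ∧ H = MulAction.stabilizer Cfsg.M24 s) ∧ (∀ H : Subgroup ↥Cfsg.M24, H.index = 1771 → ∃ S ∈ Cfsg.sextets, H = MulAction.stabilizer Cfsg.M24 S) ∧ ∀ H : Subgroup ↥Cfsg.M24, H.index ≠ 253 := by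
  have hoct := fun (o : Finset GolayPt) (ho : o ∈ octads) =>
    Cfsg.Agent.M24Module.OctadFix.card_stabilizer_octad ho
  have hsex := fun (S : Finset (Finset GolayPt)) (hS : S ∈ sextets) =>
    Cfsg.Agent.M24Module.CentBase.card_stabilizer_sextet hS
  have heq : ∀ {H P : Subgroup ↥M24} {d n : ℕ}, H.index = d → H ≤ P → Nat.card P = n →
      d * n ≤ 244823040 → H = P := by
    intro H P d n hd hle hn hdn
    refine Subgroup.eq_of_le_of_card_ge hle ?_
    have hc := card_H hd
    have hd0 : 0 < d := Nat.pos_of_ne_zero fun h => by simp [h] at hc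
    exact Nat.le_of_mul_le_mul_left (by rw [hc, hn]; exact hdn) hd0
  have hnot : ∀ {H P : Subgroup ↥M24} {d n : ℕ}, H.index = d → H ≤ P → Nat.card P = n →
      ¬ 244823040 ∣ d * n → False := by
    intro H P d n hd hle hn hdn
    have hc := card_H hd
    exact hdn (hn ▸ hc ▸ Nat.mul_dvd_mul_left d (Subgroup.card_dvd_of_le hle))
  refine ⟨fun H hH => ?_, fun H hH => ?_, fun H hH => ?_, fun H hH => ?_⟩
  · rcases structure_of_index H hH (Or.inl rfl) with ⟨o, ho, hle⟩ | ⟨S, hS, hle⟩
    · exact ⟨o, ho, heq hH hle (hoct o ho) (by norm_num)⟩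
    · exact (hnot hH hle (hsex S hS) (by norm_num)).elim
  · obtain ⟨s, hs, hle⟩ := pair_of_index H hH
    refine ⟨s, hs, Subgroup.eq_of_le_of_card_ge hle ?_⟩
    have := card_H hH
    have := card_pair_stab_le hs
    omega
  · rcases structure_of_index H hH (Or.inr (Or.inl rfl)) with ⟨o, ho, hle⟩ | ⟨S, hS, hle⟩
    · exact (hnot hH hle (hoct o ho) (by norm_num)).elim
    · exact ⟨S, hS, heq hH hle (hsex S hS) (by norm_num)⟩
  · rcases structure_of_index H hH (Or.inr (Or.inr rfl)) with ⟨o, ho, hle⟩ | ⟨S, hS, hle⟩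
    · exact hnot hH hle (hoct o ho) (by norm_num)
    · exact hnot hH hle (hsex S hS) (by norm_num)

end Cfsg.Agent.S1589
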