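import Cfsg.Statements.S1590
import Cfsg.Agent.Lib.Golay.Ternary

set_option autoImplicit false
open Cfsg

namespace Cfsg.Agent.S1590

open Cfsg.Agent.Golay.Ternary
set_option maxRecDepth 20000

/-- The length-12 ternary code has 729 words with weight distribution 0^1 6^264 9^440 12^24. -/
theorem result : Nat.card ↥Cfsg.ternaryGolayCode = 729 ∧ (∀ x ∈ Cfsg.ternaryGolayCode, x ≠ 0 → (Cfsg.ternarySupport x).card = 6 ∨ (Cfsg.ternarySupport x).card = 9 ∨ (Cfsg.ternarySupport x).card = 12) ∧ {x : Cfsg.ArrayPt → ZMod 3 | x ∈ Cfsg.ternaryGolayCode ∧ (Cfsg.ternarySupport x).card = 6}.ncard = 264 ∧ {x : Cfsg.ArrayPt → ZMod 3 | x ∈ Cfsg.ternaryGolayCode ∧ (Cfsg.ternarySupport x).card = 9}.ncard = 440 ∧ {x : Cfsg.ArrayPt → ZMod 3 | x ∈ Cfsg.ternaryGolayCode ∧ (Cfsg.ternarySupport x).card = 12}.ncard = 24 := by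
  refine ⟨card_code, fun x hx hne => ?_, ncard_weight 6 264 (by decide +kernel),
    ncard_weight 9 440 (by decide +kernel), ncard_weight 12 24 (by decide +kernel)⟩
  obtain ⟨n, hn, rfl⟩ := mem_iff.1 hx
  have hn0 : n ≠ 0 := by
    rintro rfl
    exact hne (Finset.sum_eq_zero fun j _ => by simp [digit])
  have hall : ∀ n < 729, n = 0 ∨ wt (sup n) = 6 ∨ wt (sup n) = 9 ∨ wt (sup n) = 12 := by decide +kernel
  rw [card_eq_wt, msk_support hn]
  exact (hall n hn).resolve_left hn0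

end Cfsg.Agent.S1590
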