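import Cfsg.Statements.S1596
import Cfsg.Agent.Lib.Golay.QuartetUse

set_option autoImplicit false
open scoped Pointwise
open Cfsg

namespace Cfsg.Agent.S1596

open Cfsg.Agent.Golay.M24 Cfsg.Agent.Golay.Small Cfsg.Agent.Golay.Quartet Cfsg.Agent.Golay.QuartetData Cfsg.Agent.Golay.Suborbit
open scoped Pointwise

/-- A quartet of a dodecad is determined by any two of its triples: two disjoint triples uniting to a hexad extend to exactly one quartet. -/
theorem result (d : Finset Cfsg.GolayPt) (hd : d ∈ Cfsg.dodecads) (t u : Finset Cfsg.GolayPt) (ht : t.card = 3) (hu : u.card = 3) (htu : Disjoint t u) (hh : t ∪ u ∈ Cfsg.hexadsOn d) : ∃! Q : Finset (Finset Cfsg.GolayPt), Q ∈ Cfsg.quartets d ∧ t ∈ Q ∧ u ∈ Q := by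
  obtain ⟨a, ha, had⟩ := exists_to_d0 hd
  have h := smul_mem_hexadsOn ha hh
  rw [had, Finset.smul_finset_union] at h
  obtain ⟨R, ⟨hR, htR, huR⟩, huniq⟩ := unique_quartet (t := a • t) (u := a • u)
    (by rw [Finset.card_smul_finset, ht]) (by rw [Finset.card_smul_finset, hu])
    ((Cfsg.Agent.Golay.SetOrbit.disjoint_smul_iff a).2 htu) h
  refine ⟨a⁻¹ • R, ⟨(mem_quartets_smul ha).1 (by rw [smul_inv_smul, had]; exact hR), ?_, ?_⟩, ?_⟩
  · rw [← Finset.smul_mem_smul_finset_iff a, smul_inv_smul]; exact htR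
  · rw [← Finset.smul_mem_smul_finset_iff a, smul_inv_smul]; exact huR
  · rintro S ⟨hS, htS, huS⟩
    rw [eq_inv_smul_iff]
    exact huniq _ ⟨had ▸ smul_mem_quartets ha hS, Finset.smul_mem_smul_finset htS,
      Finset.smul_mem_smul_finset huS⟩

end Cfsg.Agent.S1596
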