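import Cfsg.Statements.S1597
import Cfsg.Agent.Lib.Golay.QuartetUse

set_option autoImplicit false
open scoped Pointwise
open Cfsg

namespace Cfsg.Agent.S1597

open Cfsg.Agent.Golay.M24 Cfsg.Agent.Golay.Small Cfsg.Agent.Golay.Quartet Cfsg.Agent.Golay.QuartetData Cfsg.Agent.Golay.Suborbit
open scoped Pointwise

/-- A dodecad has 220 quartets and its stabiliser is transitive on them. -/
theorem result (d : Finset Cfsg.GolayPt) (hd : d ∈ Cfsg.dodecads) : (Cfsg.quartets d).ncard = 220 ∧ ∀ Q ∈ Cfsg.quartets d, ∀ Q' ∈ Cfsg.quartets d, ∃ g : Equiv.Perm Cfsg.GolayPt, g ∈ Cfsg.M24 ∧ g • d = d ∧ g • Q = Q' := by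
  obtain ⟨a, ha, had⟩ := exists_to_d0 hd
  refine ⟨?_, fun Q hQ Q' hQ' => ?_⟩
  · rw [← quartets_d0_ncard, ← had, ← Set.ncard_image_of_injective (Cfsg.quartets d) (MulAction.injective a)]
    congr 1
    ext R
    refine ⟨fun ⟨Q, hQ, e⟩ => e ▸ smul_mem_quartets ha hQ, fun hR => ⟨a⁻¹ • R, ?_, smul_inv_smul a R⟩⟩
    exact (mem_quartets_smul ha).1 (by rwa [smul_inv_smul])
  · obtain ⟨b, hb, hbd, hbQ⟩ := exists_to_q0 hd hQ
    obtain ⟨c, hc, hcd, hcQ⟩ := exists_to_q0 hd hQ'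
    exact ⟨c⁻¹ * b, Cfsg.M24.mul_mem (Cfsg.M24.inv_mem hc) hb,
      by rw [mul_smul, hbd, ← hcd, inv_smul_smul], by rw [mul_smul, hbQ, ← hcQ, inv_smul_smul]⟩

end Cfsg.Agent.S1597
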