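import Cfsg.Statements.S1598
import Cfsg.Agent.Lib.Golay.QuartetUse

set_option autoImplicit false
open scoped Pointwise
open Cfsg

namespace Cfsg.Agent.S1598

open Cfsg.Agent.Golay.M24 Cfsg.Agent.Golay.Small Cfsg.Agent.Golay.Quartet Cfsg.Agent.Golay.QuartetData Cfsg.Agent.Golay.Suborbit
open scoped Pointwise

/-- A quartet stabiliser inside the dodecad stabiliser has order 432, a normal subgroup of order 9 with quotient GL(2, 3), and is transitive on the dodecad. -/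
theorem result (d : Finset Cfsg.GolayPt) (hd : d ∈ Cfsg.dodecads) (Q : Finset (Finset Cfsg.GolayPt)) (hQ : Q ∈ Cfsg.quartets d) : Nat.card ↥(MulAction.stabilizer Cfsg.M24 d ⊓ MulAction.stabilizer Cfsg.M24 Q) = 432 ∧ (∃ (N : Subgroup ↥(MulAction.stabilizer Cfsg.M24 d ⊓ MulAction.stabilizer Cfsg.M24 Q)) (_ : N.Normal), Nat.card N = 9 ∧ Nonempty (↥(MulAction.stabilizer Cfsg.M24 d ⊓ MulAction.stabilizer Cfsg.M24 Q) ⧸ N ≃* GL (Fin 2) (ZMod 3))) ∧ ∀ p ∈ d, ∀ q ∈ d, ∃ g ∈ (MulAction.stabilizer Cfsg.M24 d ⊓ MulAction.stabilizer Cfsg.M24 Q), ((g : ↥Cfsg.M24) : Equiv.Perm Cfsg.GolayPt) p = q := by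
  obtain ⟨a, ha, had, haQ⟩ := exists_to_q0 hd hQ
  let e := equivOfConj ha QK_le (H := MulAction.stabilizer Cfsg.M24 d ⊓ MulAction.stabilizer Cfsg.M24 Q)
    (mem_QK_conj ha had haQ)
  refine ⟨(Nat.card_congr e.toEquiv).trans card_QK, ?_, fun p hp q hq => ?_⟩
  · obtain ⟨N, hN, hcard, ⟨f⟩⟩ := QK_quotient
    haveI := hN
    have hN' : (N.comap e.toMonoidHom).Normal := hN.comap _
    haveI := hN'
    have hmap : (N.comap e.toMonoidHom).map e.toMonoidHom = N :=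
      Subgroup.map_comap_eq_self_of_surjective e.surjective N
    refine ⟨_, hN', ?_, ⟨(QuotientGroup.congr _ N e hmap).trans f⟩⟩
    rw [← hcard]
    conv_rhs => rw [← hmap]
    exact (Subgroup.card_map_of_injective e.injective).symm
  · obtain ⟨g, hg, hgp⟩ := QK_transitive (p := a p) (q := a q)
      (by rw [← had, mem_smul_iff]; exact hp) (by rw [← had, mem_smul_iff]; exact hq)
    refine ⟨(e.symm ⟨g, hg⟩).1, (e.symm ⟨g, hg⟩).2, ?_⟩
    show (a⁻¹ * g * a) p = q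
    rw [Equiv.Perm.mul_apply, Equiv.Perm.mul_apply, hgp, Equiv.Perm.inv_eq_iff_eq]

end Cfsg.Agent.S1598
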