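import Cfsg.Statements.S1599
import Cfsg.Agent.Lib.Golay.QuartetUse

set_option autoImplicit false
open scoped Pointwise
open Cfsg

namespace Cfsg.Agent.S1599

open Cfsg.Agent.Golay.M24 Cfsg.Agent.Golay.Small Cfsg.Agent.Golay.Quartet Cfsg.Agent.Golay.QuartetData Cfsg.Agent.Golay.Suborbit
open scoped Pointwise

/-- A quartet stabiliser has five orbits on the quartets of its dodecad, of sizes 1, 12, 27, 72, 108. -/
theorem result (d : Finset Cfsg.GolayPt) (hd : d ∈ Cfsg.dodecads) (Q : Finset (Finset Cfsg.GolayPt)) (hQ : Q ∈ Cfsg.quartets d) : ∃ X₁ ∈ Cfsg.quartets d, ∃ X₂ ∈ Cfsg.quartets d, ∃ X₃ ∈ Cfsg.quartets d, ∃ X₄ ∈ Cfsg.quartets d, (MulAction.orbit ↥(MulAction.stabilizer Cfsg.M24 d ⊓ MulAction.stabilizer Cfsg.M24 Q) X₁).ncard = 12 ∧ (MulAction.orbit ↥(MulAction.stabilizer Cfsg.M24 d ⊓ MulAction.stabilizer Cfsg.M24 Q) X₂).ncard = 27 ∧ (MulAction.orbit ↥(MulAction.stabilizer Cfsg.M24 d ⊓ MulAction.stabilizer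 Cfsg.M24 Q) X₃).ncard = 72 ∧ (MulAction.orbit ↥(MulAction.stabilizer Cfsg.M24 d ⊓ MulAction.stabilizer Cfsg.M24 Q) X₄).ncard = 108 ∧ Cfsg.quartets d = {Q} ∪ MulAction.orbit ↥(MulAction.stabilizer Cfsg.M24 d ⊓ MulAction.stabilizer Cfsg.M24 Q) X₁ ∪ MulAction.orbit ↥(MulAction.stabilizer Cfsg.M24 d ⊓ MulAction.stabilizer Cfsg.M24 Q) X₂ ∪ MulAction.orbit ↥(MulAction.stabilizer Cfsg.M24 d ⊓ MulAction.stabilizer Cfsg.M24 Q) X₃ ∪ MulAction.orbit ↥(MulAction.stabilizer Cfsg.M24 d ⊓ MulAction.stabilizer Cfsg.M24 Q) X₄ := by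
  obtain ⟨a, ha, had, haQ⟩ := exists_to_q0 hd hQ
  obtain ⟨h1, h2⟩ := suborbits_q0
  obtain ⟨r, hr⟩ : ∃ r : Fin 5 → Finset (Finset Cfsg.GolayPt), ∀ i, r i = a⁻¹ • famSet (quartetRoot i) :=
    ⟨_, fun _ => rfl⟩
  have horb := fun i => orbit_conj (β := Finset (Finset Cfsg.GolayPt)) ha QK_le
    (mem_QK_conj ha had haQ) (famSet (quartetRoot i))
  have hsz : ∀ i, (MulAction.orbit ↥(MulAction.stabilizer Cfsg.M24 d ⊓ MulAction.stabilizer Cfsg.M24 Q)
      (r i)).ncard = quartetSize i := fun i => by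
    rw [hr, horb i, Set.ncard_image_of_injective _ (MulAction.injective _), h1 i]
  have hmem : ∀ i, r i ∈ Cfsg.quartets d := fun i => (mem_quartets_smul ha).1 (by
    rw [hr, smul_inv_smul, had]; exact (famSet_mem_quartets (quartetRoot_mem i)).1)
  have hall : Cfsg.quartets d =
      ⋃ i, MulAction.orbit ↥(MulAction.stabilizer Cfsg.M24 d ⊓ MulAction.stabilizer Cfsg.M24 Q) (r i) := by
    simp only [hr]
    rw [Set.iUnion_congr horb, ← Set.image_iUnion, ← h2]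
    ext R
    refine ⟨fun hR => ⟨a • R, had ▸ smul_mem_quartets ha hR, inv_smul_smul a R⟩, ?_⟩
    rintro ⟨S, hS, rfl⟩
    exact (mem_quartets_smul ha).1 (by rw [smul_inv_smul, had]; exact hS)
  have h0 : r 0 = Q := by
    rw [hr]
    show a⁻¹ • q0 = Q
    rw [← haQ, inv_smul_smul]
  have hs : MulAction.orbit ↥(MulAction.stabilizer Cfsg.M24 d ⊓ MulAction.stabilizer Cfsg.M24 Q) (r 0) = {Q} := by
    rw [h0]
    refine Set.eq_singleton_iff_unique_mem.2 ⟨MulAction.mem_orbit_self _, ?_⟩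
    rintro _ ⟨g, rfl⟩
    exact g.2.2
  refine ⟨r 1, hmem 1, r 4, hmem 4, r 2, hmem 2, r 3, hmem 3, ?_, ?_, ?_, ?_, ?_⟩
  · exact (hsz 1).trans (by decide +kernel)
  · exact (hsz 4).trans (by decide +kernel)
  · exact (hsz 2).trans (by decide +kernel)
  · exact (hsz 3).trans (by decide +kernel)
  conv_lhs => rw [hall]
  ext x
  simp only [Set.mem_iUnion, Fin.exists_fin_succ, Fin.exists_fin_zero, or_false, Set.mem_union, hs]
  tauto

end Cfsg.Agent.S1599
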