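import Cfsg.Statements.S1600
import Cfsg.Agent.Lib.Golay.QuartetUse

set_option autoImplicit false
open scoped Pointwise
open Cfsg

namespace Cfsg.Agent.S1600

open Cfsg.Agent.Golay.M24 Cfsg.Agent.Golay.Small Cfsg.Agent.Golay.Quartet Cfsg.Agent.Golay.QuartetData Cfsg.Agent.Golay.Suborbit
open scoped Pointwise

/-- The pointwise stabiliser of three points of a dodecad inside the dodecad stabiliser (order 72) is transitive on the complementary dodecad. -/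
theorem result (d : Finset Cfsg.GolayPt) (hd : d ∈ Cfsg.dodecads) (p q r : Cfsg.GolayPt) (hp : p ∈ d) (hq : q ∈ d) (hr : r ∈ d) (hpq : p ≠ q) (hpr : p ≠ r) (hqr : q ≠ r) : Nat.card ↥(MulAction.stabilizer Cfsg.M24 d ⊓ MulAction.stabilizer Cfsg.M24 p ⊓ MulAction.stabilizer Cfsg.M24 q ⊓ MulAction.stabilizer Cfsg.M24 r) = 72 ∧ ∀ x ∉ d, ∀ y ∉ d, ∃ g ∈ (MulAction.stabilizer Cfsg.M24 d ⊓ MulAction.stabilizer Cfsg.M24 p ⊓ MulAction.stabilizer Cfsg.M24 q ⊓ MulAction.stabilizer Cfsg.M24 r), ((g : ↥Cfsg.M24) : Equiv.Perm Cfsg.GolayPt) x = y := by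
  obtain ⟨a, ha, had, hap, haq, har⟩ := exists_to_three hd hp hq hr hpq hpr hqr
  let e := equivOfConj ha ThreeK_le
    (H := MulAction.stabilizer Cfsg.M24 d ⊓ MulAction.stabilizer Cfsg.M24 p ⊓
      MulAction.stabilizer Cfsg.M24 q ⊓ MulAction.stabilizer Cfsg.M24 r)
    (mem_ThreeK_conj ha had hap haq har)
  refine ⟨(Nat.card_congr e.toEquiv).trans card_ThreeK, fun x hx y hy => ?_⟩
  obtain ⟨g, hg, hgx⟩ := ThreeK_transitive (x := a x) (y := a y)
    (by rw [← had, mem_smul_iff]; exact hx) (by rw [← had, mem_smul_iff]; exact hy)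
  refine ⟨(e.symm ⟨g, hg⟩).1, (e.symm ⟨g, hg⟩).2, ?_⟩
  show (a⁻¹ * g * a) x = y
  rw [Equiv.Perm.mul_apply, Equiv.Perm.mul_apply, hgx, Equiv.Perm.inv_eq_iff_eq]

end Cfsg.Agent.S1600
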