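import Cfsg.Statements.S1604
import Cfsg.Agent.Lib.Golay.Orbit
import Cfsg.Agent.Lib.Golay.OrbitData
import Cfsg.Agent.Lib.Golay.Steiner

set_option autoImplicit false
open scoped Pointwise
open Cfsg

namespace Cfsg.Agent.S1604

open Cfsg.Agent.Golay.Basic Cfsg.Agent.Golay.Design Cfsg.Agent.Golay.M24 Cfsg.Agent.Golay.M24Data Cfsg.Agent.Golay.Cert Cfsg.Agent.Golay.Orbit Cfsg.Agent.Golay.OrbitData Cfsg.Agent.Golay.Trans
open scoped Pointwise
set_option maxRecDepth 10000

/-- A hexad stabiliser in the two-point stabiliser has orbits of sizes 1, 16, 60 on the 77 hexads: the 16 hexads disjoint from it and the 60 meeting it in two points. -/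
theorem result (p q : Cfsg.GolayPt) (hpq : p ≠ q) (o o' o'' : Finset Cfsg.GolayPt) (ho : o ∈ Cfsg.octads) (ho' : o' ∈ Cfsg.octads) (ho'' : o'' ∈ Cfsg.octads) (hp : p ∈ o ∧ p ∈ o' ∧ p ∈ o'') (hq : q ∈ o ∧ q ∈ o' ∧ q ∈ o'') (h : (o ∩ o').card = (o ∩ o'').card) : {x : Finset Cfsg.GolayPt | x ∈ Cfsg.octads ∧ p ∈ x ∧ q ∈ x ∧ (o ∩ x).card = 2}.ncard = 16 ∧ {x : Finset Cfsg.GolayPt | x ∈ Cfsg.octads ∧ p ∈ x ∧ q ∈ x ∧ (o ∩ x).card = 4}.ncard = 60 ∧ ∃ g : Equiv.Perm Cfsg.GolayPt, g ∈ Cfsg.M24 ∧ g p = p ∧ g q = q ∧ g • o = o ∧ g • o' = o'' := by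
  obtain ⟨a, ha, hao, hap, haq⟩ := normal_octad_mem_two ho hp.1 hq.1 hpq
  have hX : octTwoTabs.all tabOK = true := by decide +kernel
  have hmem : ∀ s : Finset Cfsg.GolayPt, (p ∈ s ∧ q ∈ s) ↔
      ((mask (a • s)).testBit 0 && (mask (a • s)).testBit 1) = true := fun s => by
    rw [show (0 : ℕ) = ix (pt 0) from rfl, show (1 : ℕ) = ix (pt 1) from rfl, testBit_mask, testBit_mask,
      ← hap, ← haq, Bool.and_eq_true, decide_eq_true_eq, decide_eq_true_eq, mem_smul_iff, mem_smul_iff]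
  have hcount : ∀ j, {x : Finset Cfsg.GolayPt | x ∈ Cfsg.octads ∧ p ∈ x ∧ q ∈ x ∧ (o ∩ x).card = j}.ncard =
      {t : Finset Cfsg.GolayPt | t ∈ Cfsg.octads ∧
        (((mask t).testBit 0 && (mask t).testBit 1) && pc (mask t &&& baseOctad) == j) = true}.ncard :=
    fun j => ncard_transport a fun s => by
      rw [mem_octads_smul ha, Bool.and_eq_true, ← hmem, ← inter_smul_card a o s, hao, Finset.inter_comm,
        card_inter_eq_pc, mask_maskSet (by decide +kernel), beq_iff_eq, and_assoc]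
  refine ⟨?_, ?_, ?_⟩
  · rw [hcount 2]; exact count_weight 8 _ (fun m => (m.testBit 0 && m.testBit 1) && pc (m &&& baseOctad) == 2) (fun _ => Iff.rfl) (by decide +kernel)
  · rw [hcount 4]; exact count_weight 8 _ (fun m => (m.testBit 0 && m.testBit 1) && pc (m &&& baseOctad) == 4) (fun _ => Iff.rfl) (by decide +kernel)
  obtain ⟨g, hg, e⟩ := transitive_of_codeCovers hX (L := octTwoCert) (key := fun m => pc (m &&& baseOctad))
    (Q := fun m => m.testBit 0 && m.testBit 1) (w := 8) (by decide +kernel) (by decide +kernel)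
    (smul_mem_octads ha ho') (smul_mem_octads ha ho'') ((hmem o').1 ⟨hp.2.1, hq.2.1⟩)
    ((hmem o'').1 ⟨hp.2.2, hq.2.2⟩) (by
      have e := inter_smul_card a o o'
      have e' := inter_smul_card a o o''
      rw [hao, Finset.inter_comm, card_inter_eq_pc, mask_maskSet (by decide +kernel)] at e e'
      rw [e, e', h])
  refine ⟨a⁻¹ * g * a, Cfsg.M24.mul_mem (Cfsg.M24.mul_mem (Cfsg.M24.inv_mem ha) (tabGroup_le_M24 hX hg)) ha, ?_, ?_, ?_, ?_⟩
  · simp only [Equiv.Perm.mul_apply, hap, tabGroup_fix hX (pts := [0, 1]) (by decide +kernel)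
      (by norm_num) List.mem_cons_self hg]
    rw [← hap]; exact a.symm_apply_apply p
  · simp only [Equiv.Perm.mul_apply, haq, tabGroup_fix hX (pts := [0, 1]) (by decide +kernel)
      (by norm_num) (List.mem_cons_of_mem _ List.mem_cons_self) hg]
    rw [← haq]; exact a.symm_apply_apply q
  · rw [mul_smul, mul_smul, hao, tabGroup_stab hX (masks := [baseOctad]) (by decide +kernel)
      (by decide +kernel) List.mem_cons_self hg, (show maskSet baseOctad = a • o from hao.symm), inv_smul_smul]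
  · rw [mul_smul, mul_smul, e, inv_smul_smul]

end Cfsg.Agent.S1604
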