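import Cfsg.Statements.S1605
import Cfsg.Agent.Lib.Golay.Orbit
import Cfsg.Agent.Lib.Golay.OrbitData
import Cfsg.Agent.Lib.Golay.Steiner

set_option autoImplicit false
open scoped Pointwise
open Cfsg

namespace Cfsg.Agent.S1605

open Cfsg.Agent.Golay.Basic Cfsg.Agent.Golay.Design Cfsg.Agent.Golay.M24 Cfsg.Agent.Golay.M24Data Cfsg.Agent.Golay.Cert Cfsg.Agent.Golay.Orbit Cfsg.Agent.Golay.OrbitData Cfsg.Agent.Golay.Trans
open scoped Pointwise
set_option maxRecDepth 10000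

/-- The two-point stabiliser acts on the 176 octads through the first point avoiding the second with rank 3 and subdegrees 1, 70, 105 (intersections 8, 2, 4). -/
theorem result (p q : Cfsg.GolayPt) (hpq : p ≠ q) : {x : Finset Cfsg.GolayPt | (x ∈ Cfsg.octads ∧ p ∈ x ∧ q ∉ x)}.ncard = 176 ∧ (∀ o o' : Finset Cfsg.GolayPt, (o ∈ Cfsg.octads ∧ p ∈ o ∧ q ∉ o) → (o' ∈ Cfsg.octads ∧ p ∈ o' ∧ q ∉ o') → ∃ g : Equiv.Perm Cfsg.GolayPt, g ∈ Cfsg.M24 ∧ g p = p ∧ g q = q ∧ g • o = o') ∧ ∀ o : Finset Cfsg.GolayPt, (o ∈ Cfsg.octads ∧ p ∈ o ∧ q ∉ o) → {x : Finset Cfsg.GolayPt | (x ∈ Cfsg.octads ∧ p ∈ x ∧ q ∉ x) ∧ (o ∩ x).card = 2}.ncard = 70 ∧ {x : Finset Cfsg.GolayPt | (x ∈ Cfsg.octads ∧ p ∈ x ∧ q ∉ x) ∧ (o ∩ x).card = 4}.ncard = 105 ∧ ∀ o' o'' : Finset Cfsg.GolayPt, (o' ∈ Cfsg.octads ∧ p ∈ o' ∧ q ∉ o') → (o'' ∈ Cfsg.octads ∧ p ∈ o'' ∧ q ∉ o'') → (o ∩ o').card = (o ∩ o'').card → ∃ g : Equiv.Perm Cfsg.GolayPt, g ∈ Cfsg.M24 ∧ g p = p ∧ g q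 = q ∧ g • o = o ∧ g • o' = o'' := by
  have hmem : ∀ (a : Equiv.Perm Cfsg.GolayPt), a p = pt 0 → a q = pt 5 → ∀ s : Finset Cfsg.GolayPt,
      (p ∈ s ∧ q ∉ s) ↔ ((mask (a • s)).testBit 0 && !(mask (a • s)).testBit 5) = true := fun a hap haq s => by
    rw [show (0 : ℕ) = ix (pt 0) from rfl, show (5 : ℕ) = ix (pt 5) from rfl, testBit_mask, testBit_mask,
      ← hap, ← haq, Bool.and_eq_true, Bool.not_eq_true', decide_eq_true_eq, decide_eq_false_iff_not,
      mem_smul_iff, mem_smul_iff]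
  refine ⟨?_, fun o o' ho ho' => ?_, fun o ho => ?_⟩
  · have hinj : ∀ u v : Cfsg.GolayPt, u ≠ v → Function.Injective (![u, v]) := by
      intro u v huv i j h; fin_cases i <;> fin_cases j <;> simp_all
    obtain ⟨a, ha, hi⟩ := exists_map_tuple (n := 2) (by norm_num) ⟨![p, q], hinj p q hpq⟩
      ⟨![pt 0, pt 5], hinj _ _ (by decide)⟩
    rw [ncard_transport a (Q := fun t => t ∈ Cfsg.octads ∧ ((mask t).testBit 0 && !(mask t).testBit 5) = true)
      (fun s => by rw [mem_octads_smul ha, ← hmem a (hi 0) (hi 1)])]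
    exact count_weight 8 _ (fun m => m.testBit 0 && !m.testBit 5) (fun _ => Iff.rfl) (by decide +kernel)
  · obtain ⟨a, ha, hao, hap, haq⟩ := normal_octad_mem_notMem ho.1 ho.2.1 ho.2.2
    obtain ⟨b, hb, hbo, hbp, hbq⟩ := normal_octad_mem_notMem ho'.1 ho'.2.1 ho'.2.2
    refine ⟨b⁻¹ * a, Cfsg.M24.mul_mem (Cfsg.M24.inv_mem hb) ha, ?_, ?_, ?_⟩
    · rw [Equiv.Perm.mul_apply, Equiv.Perm.inv_eq_iff_eq, hap, hbp]
    · rw [Equiv.Perm.mul_apply, Equiv.Perm.inv_eq_iff_eq, haq, hbq]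
    · rw [mul_smul, hao, ← hbo, inv_smul_smul]
  · obtain ⟨a, ha, hao, hap, haq⟩ := normal_octad_mem_notMem ho.1 ho.2.1 ho.2.2
    have hX : octInOutTabs.all tabOK = true := by decide +kernel
    have hcount : ∀ j, {x : Finset Cfsg.GolayPt | (x ∈ Cfsg.octads ∧ p ∈ x ∧ q ∉ x) ∧ (o ∩ x).card = j}.ncard =
        {t : Finset Cfsg.GolayPt | t ∈ Cfsg.octads ∧
          (((mask t).testBit 0 && !(mask t).testBit 5) && pc (mask t &&& baseOctad) == j) = true}.ncard :=
      fun j => ncard_transport a fun s => by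
        rw [mem_octads_smul ha, Bool.and_eq_true, ← hmem a hap haq, ← inter_smul_card a o s, hao,
          Finset.inter_comm, card_inter_eq_pc, mask_maskSet (by decide +kernel), beq_iff_eq, and_assoc]
    refine ⟨?_, ?_, fun o' o'' ho' ho'' h => ?_⟩
    · rw [hcount 2]; exact count_weight 8 _ (fun m => (m.testBit 0 && !m.testBit 5) && pc (m &&& baseOctad) == 2) (fun _ => Iff.rfl) (by decide +kernel)
    · rw [hcount 4]; exact count_weight 8 _ (fun m => (m.testBit 0 && !m.testBit 5) && pc (m &&& baseOctad) == 4) (fun _ => Iff.rfl) (by decide +kernel)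
    obtain ⟨g, hg, e⟩ := transitive_of_codeCovers hX (L := octInOutCert) (key := fun m => pc (m &&& baseOctad))
      (Q := fun m => m.testBit 0 && !m.testBit 5) (w := 8) (by decide +kernel) (by decide +kernel)
      (smul_mem_octads ha ho'.1) (smul_mem_octads ha ho''.1) ((hmem a hap haq o').1 ho'.2)
      ((hmem a hap haq o'').1 ho''.2) (by
        have e := inter_smul_card a o o'
        have e' := inter_smul_card a o o''
        rw [hao, Finset.inter_comm, card_inter_eq_pc, mask_maskSet (by decide +kernel)] at e e'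
        rw [e, e', h])
    refine ⟨a⁻¹ * g * a, Cfsg.M24.mul_mem (Cfsg.M24.mul_mem (Cfsg.M24.inv_mem ha) (tabGroup_le_M24 hX hg)) ha, ?_, ?_, ?_, ?_⟩
    · simp only [Equiv.Perm.mul_apply, hap, tabGroup_fix hX (pts := [0, 5]) (by decide +kernel)
        (by norm_num) List.mem_cons_self hg]
      rw [← hap]; exact a.symm_apply_apply p
    · simp only [Equiv.Perm.mul_apply, haq, tabGroup_fix hX (pts := [0, 5]) (by decide +kernel)
        (by norm_num) (List.mem_cons_of_mem _ List.mem_cons_self) hg]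
      rw [← haq]; exact a.symm_apply_apply q
    · rw [mul_smul, mul_smul, hao, tabGroup_stab hX (masks := [baseOctad]) (by decide +kernel)
        (by decide +kernel) List.mem_cons_self hg, (show maskSet baseOctad = a • o from hao.symm), inv_smul_smul]
    · rw [mul_smul, mul_smul, e, inv_smul_smul]

end Cfsg.Agent.S1605
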