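import Cfsg.Statements.S1607
import Cfsg.Agent.Lib.Golay.Orbit
import Cfsg.Agent.Lib.Golay.OrbitData
import Cfsg.Agent.Lib.Golay.Steiner

set_option autoImplicit false
open scoped Pointwise
open Cfsg

namespace Cfsg.Agent.S1607

open Cfsg.Agent.Golay.Basic Cfsg.Agent.Golay.Design Cfsg.Agent.Golay.M24 Cfsg.Agent.Golay.M24Data Cfsg.Agent.Golay.Cert Cfsg.Agent.Golay.Orbit Cfsg.Agent.Golay.OrbitData Cfsg.Agent.Golay.Trans
open scoped Pointwise
set_option maxRecDepth 10000

/-- The point stabiliser acts on the 253 heptads of its S(4, 7, 23) with rank 3 and subdegrees 1, 112, 140 (intersections 8, 2, 4). -/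
theorem result (x : Cfsg.GolayPt) (o : Finset Cfsg.GolayPt) (ho : o ∈ Cfsg.octads) (hx : x ∈ o) : {o' : Finset Cfsg.GolayPt | o' ∈ Cfsg.octads ∧ x ∈ o' ∧ (o ∩ o').card = 2}.ncard = 112 ∧ {o' : Finset Cfsg.GolayPt | o' ∈ Cfsg.octads ∧ x ∈ o' ∧ (o ∩ o').card = 4}.ncard = 140 ∧ ∀ o' o'' : Finset Cfsg.GolayPt, o' ∈ Cfsg.octads → o'' ∈ Cfsg.octads → x ∈ o' → x ∈ o'' → (o ∩ o').card = (o ∩ o'').card → ∃ g : Equiv.Perm Cfsg.GolayPt, g ∈ Cfsg.M24 ∧ g x = x ∧ g • o = o ∧ g • o' = o'' := by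
  obtain ⟨a, ha, hao, hax⟩ := normal_octad_mem ho hx
  have hX : octPtTabs.all tabOK = true := by decide +kernel
  have hmem : ∀ s : Finset Cfsg.GolayPt, x ∈ s ↔ (mask (a • s)).testBit 0 = true := fun s => by
    rw [show (0 : ℕ) = ix (pt 0) from rfl, testBit_mask, ← hax, decide_eq_true_eq, mem_smul_iff]
  have hcount : ∀ j, {o' : Finset Cfsg.GolayPt | o' ∈ Cfsg.octads ∧ x ∈ o' ∧ (o ∩ o').card = j}.ncard =
      {t : Finset Cfsg.GolayPt | t ∈ Cfsg.octads ∧ ((mask t).testBit 0 && pc (mask t &&& baseOctad) == j) = true}.ncard :=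
    fun j => ncard_transport a fun s => by
      rw [mem_octads_smul ha, hmem, ← inter_smul_card a o s, hao, Finset.inter_comm, card_inter_eq_pc,
        mask_maskSet (by decide +kernel), Bool.and_eq_true, beq_iff_eq]
  refine ⟨?_, ?_, fun o' o'' ho' ho'' hx' hx'' h => ?_⟩
  · rw [hcount 2]; exact count_weight 8 _ (fun m => m.testBit 0 && pc (m &&& baseOctad) == 2) (fun _ => Iff.rfl) (by decide +kernel)
  · rw [hcount 4]; exact count_weight 8 _ (fun m => m.testBit 0 && pc (m &&& baseOctad) == 4) (fun _ => Iff.rfl) (by decide +kernel)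
  obtain ⟨g, hg, e⟩ := transitive_of_codeCovers hX (L := octPtCert) (key := fun m => pc (m &&& baseOctad))
    (Q := fun m => m.testBit 0) (w := 8) (by decide +kernel) (by decide +kernel)
    (smul_mem_octads ha ho') (smul_mem_octads ha ho'') ((hmem o').1 hx') ((hmem o'').1 hx'') (by
      have e := inter_smul_card a o o'
      have e' := inter_smul_card a o o''
      rw [hao, Finset.inter_comm, card_inter_eq_pc, mask_maskSet (by decide +kernel)] at e e'
      rw [e, e', h])
  refine ⟨a⁻¹ * g * a, Cfsg.M24.mul_mem (Cfsg.M24.mul_mem (Cfsg.M24.inv_mem ha) (tabGroup_le_M24 hX hg)) ha, ?_, ?_, ?_⟩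
  · simp only [Equiv.Perm.mul_apply, hax, tabGroup_fix hX (pts := [0]) (by decide +kernel)
      (by norm_num) List.mem_cons_self hg]
    rw [← hax]; exact a.symm_apply_apply x
  · rw [mul_smul, mul_smul, hao, tabGroup_stab hX (masks := [baseOctad]) (by decide +kernel)
      (by decide +kernel) List.mem_cons_self hg, (show maskSet baseOctad = a • o from hao.symm), inv_smul_smul]
  · rw [mul_smul, mul_smul, e, inv_smul_smul]

end Cfsg.Agent.S1607
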