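import Cfsg.Statements.S1610
import Cfsg.Agent.Lib.Golay.Hexacode

set_option autoImplicit false
open Cfsg

namespace Cfsg.Agent.S1610

open Cfsg.Agent.Golay.Hexacode
set_option maxRecDepth 20000

/-- The hexacode has 64 words, minimum weight 4, and weight distribution 0^1 4^45 6^18. -/
theorem result (F : Type*) [Field F] [Fintype F] [DecidableEq F] (hF : Fintype.card F = 4) (ω : F) (hω : ω ^ 2 + ω + 1 = 0) : Nat.card ↥(Cfsg.hexacode F ω) = 64 ∧ (∀ x ∈ Cfsg.hexacode F ω, x ≠ 0 → (Finset.univ.filter fun i => x i ≠ 0).card = 4 ∨ (Finset.univ.filter fun i => x i ≠ 0).card = 6) ∧ {x : Fin 6 → F | x ∈ Cfsg.hexacode F ω ∧ (Finset.univ.filter fun i => x i ≠ 0).card = 4}.ncard = 45 ∧ {x : Fin 6 → F | x ∈ Cfsg.hexacode F ω ∧ (Finset.univ.filter fun i => x i ≠ 0).card = 6}.ncard = 18 := by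
  refine ⟨card_code hF hω, fun x hx hne => ?_, ncard_weight hF hω 4 45 (by decide +kernel),
    ncard_weight hF hω 6 18 (by decide +kernel)⟩
  obtain ⟨n, rfl⟩ := (mem_iff hF hω).1 hx
  rw [weight_word hF hω]
  have hn0 : n ≠ (0, 0, 0) := by
    rintro rfl
    refine hne (funext fun i => ?_)
    show val hF ω (word (0, 0, 0) i) = 0
    have : ∀ i, word (0, 0, 0) i = 0 := by decide +kernel
    rw [this]; rfl
  have hall : ∀ n, n = (0, 0, 0) ∨ (Finset.univ.filter fun i => word n i ≠ 0).card = 4 ∨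
      (Finset.univ.filter fun i => word n i ≠ 0).card = 6 := by decide +kernel
  exact (hall n).resolve_left hn0

end Cfsg.Agent.S1610
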