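import Cfsg.Statements.S1612
import Cfsg.Agent.Lib.ThreeTransp.Radical

set_option autoImplicit false
open Cfsg

namespace Cfsg.Agent.S1612

/-- In a 3-transposition group (no solvable normal subgroup, perfect derived group), the normaliser of a commuting set of transpositions of maximum size contains a Sylow 2-subgroup and is doubly transitive on the set. -/
theorem result {G : Type*} [Group G] [Finite G] (hsol : ∀ N : Subgroup G, N.Normal → Group.IsSolvable ↥N → N = ⊥) (hperf : ⁅commutator G, commutator G⁆ = commutator G) {D : Set G} (hD : Cfsg.IsThreeTranspositionClass D) {E : Set G} (hE : E ⊆ D) (hc : ∀ a ∈ E, ∀ b ∈ E, Commute a b) (hmax : ∀ E' : Set G, E' ⊆ D → (∀ a ∈ E', ∀ b ∈ E', Commute a b) → E'.ncard ≤ E.ncard) : (∃ P : Sylow 2 G, (P : Subgroup G) ≤ Subgroup.normalizer E) ∧ ∀ a ∈ E, ∀ b ∈ E, ∀ c ∈ E, ∀ d ∈ E, a ≠ b → c ≠ d → ∃ g ∈ Subgroup.normalizer E, g * a * g⁻¹ = c ∧ g * b * g⁻¹ = d := by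
  classical
  have f2 : Fact (Nat.Prime 2) := ⟨Nat.prime_two⟩
  obtain ⟨hG, -⟩ := ThreeTransp.Classes.of_class hD
  -- members of a 2-group containing `E` are exactly `E`
  have key : ∀ (S : Subgroup G), IsPGroup 2 S → ∀ (g : G), (∀ e ∈ E, g * e * g⁻¹ ∈ S) →
      {x | x ∈ D ∧ x ∈ S} = (fun e => g * e * g⁻¹) '' E := by
    intro S hS g hgS
    have hsub : (fun e => g * e * g⁻¹) '' E ⊆ {x | x ∈ D ∧ x ∈ S} := by
      rintro _ ⟨e, he, rfl⟩
      exact ⟨hG.2.1 g e (hE he), hgS e he⟩
    refine (Set.eq_of_subset_of_ncard_le hsub ?_ (Set.toFinite _)).symm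
    rw [Set.ncard_image_of_injective E fun x y h => mul_left_cancel (mul_right_cancel h)]
    exact hmax _ (fun x hx => hx.1) fun x hx y hy =>
      ThreeTransp.Basic.commute_of_pGroup hG.1 Nat.prime_two (by norm_num) hS hx.1 hy.1
        (S.mul_mem hx.2 hy.2)
  refine ⟨?_, ?_⟩
  · obtain ⟨P, hP⟩ := (ThreeTransp.Radical.isPGroup_closure hG.1 hE hc).exists_le_sylow
    refine ⟨P, fun x hx => ?_⟩
    have h1 := key P P.isPGroup' 1 fun e he => by
      simpa using hP (Subgroup.subset_closure he)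
    have h2 := key P P.isPGroup' x fun e he =>
      (P : Subgroup G).mul_mem ((P : Subgroup G).mul_mem hx (hP (Subgroup.subset_closure he)))
        ((P : Subgroup G).inv_mem hx)
    rw [Subgroup.mem_set_normalizer_iff]
    intro n
    have hEx : (fun e => x * e * x⁻¹) '' E = E := by rw [← h2, h1]; simp
    conv_rhs => rw [← hEx]
    constructor
    · exact fun hn => ⟨n, hn, rfl⟩
    · rintro ⟨e, he, he'⟩
      rwa [← mul_left_cancel (mul_right_cancel he')]
  intro a ha b hb c hc' d hd hne hne'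
  obtain ⟨g, hga, hgb⟩ := ThreeTransp.Radical.exists_pair hsol hperf hD (hE ha) (hE hb) (hE hc') (hE hd)
    (hc a ha b hb) (hc c hc' d hd) hne.symm hne'.symm
  set C : Subgroup G := Subgroup.centralizer ({c, d} : Set G) with hC
  have hEC : ∀ e ∈ E, e ∈ C ∧ g * e * g⁻¹ ∈ C := fun e he => by
    constructor <;> rw [hC, Subgroup.mem_centralizer_iff] <;> rintro _ (rfl | rfl)
    · exact (hc _ hc' e he).eq
    · exact (hc _ hd e he).eq
    · rw [← hga]; exact (ThreeTransp.Basic.commute_conj.2 (hc a ha e he)).eq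
    · rw [← hgb]; exact (ThreeTransp.Basic.commute_conj.2 (hc b hb e he)).eq
  have hcl : Subgroup.closure E ≤ C := (Subgroup.closure_le _).2 fun e he => (hEC e he).1
  have hcl' : (Subgroup.closure E).map (MulAut.conj g).toMonoidHom ≤ C := by
    rw [MonoidHom.map_closure, Subgroup.closure_le]
    rintro _ ⟨e, he, rfl⟩
    exact (hEC e he).2
  have hp := ThreeTransp.Radical.isPGroup_closure hG.1 hE hc
  obtain ⟨P₁, h₁⟩ := (hp.comap_of_injective C.subtype C.subtype_injective).exists_le_sylow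
  obtain ⟨P₂, h₂⟩ := ((hp.map (MulAut.conj g).toMonoidHom).comap_of_injective C.subtype
    C.subtype_injective).exists_le_sylow
  obtain ⟨k, hk⟩ := MulAction.exists_smul_eq C P₂ P₁
  have hS := P₁.isPGroup'.map C.subtype
  have h3 := key _ hS 1 fun e he => by
    rw [one_mul, inv_one, mul_one]
    exact ⟨⟨e, hcl (Subgroup.subset_closure he)⟩, h₁ (Subgroup.subset_closure he), rfl⟩
  have h4 := key _ hS ((k : G) * g) fun e he => by
    refine ⟨k * ⟨g * e * g⁻¹, (hEC e he).2⟩ * k⁻¹, ?_, ?_⟩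
    · rw [← hk]
      exact Subgroup.smul_mem_pointwise_smul _ (MulAut.conj k) _
        (h₂ ⟨e, Subgroup.subset_closure he, rfl⟩)
    · show (k : G) * (g * e * g⁻¹) * (k : G)⁻¹ = _
      group
  have hEx : (fun e => (k : G) * g * e * ((k : G) * g)⁻¹) '' E = E := by rw [← h4, h3]; simp
  refine ⟨(k : G) * g, ?_, ?_, ?_⟩
  · rw [Subgroup.mem_set_normalizer_iff]
    intro n
    conv_rhs => rw [← hEx]
    constructor
    · exact fun hn => ⟨n, hn, rfl⟩
    · rintro ⟨e, he, he'⟩
      rwa [← mul_left_cancel (mul_right_cancel he')]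
  · have h5 := Subgroup.mem_centralizer_iff.1 k.2 c (by simp)
    rw [show (k : G) * g * a * ((k : G) * g)⁻¹ = (k : G) * (g * a * g⁻¹) * (k : G)⁻¹ by group, hga,
      ← h5, mul_inv_cancel_right]
  · have h5 := Subgroup.mem_centralizer_iff.1 k.2 d (by simp)
    rw [show (k : G) * g * b * ((k : G) * g)⁻¹ = (k : G) * (g * b * g⁻¹) * (k : G)⁻¹ by group, hgb,
      ← h5, mul_inv_cancel_right]

end Cfsg.Agent.S1612
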