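import Cfsg.Statements.S1617
import Cfsg.Agent.Lib.PrimeTransp.RankThree
-- import your own Cfsg.Agent.* helpers here

set_option autoImplicit false
open Cfsg

namespace Cfsg.Agent.S1617

/-- A generating conjugacy class of involutions on which the group (with trivial solvable radical) acts with rank 3 is a class of 3-transpositions. -/
theorem result {G : Type*} [Group G] [Finite G] (hsol : ∀ N : Subgroup G, N.Normal → Group.IsSolvable ↥N → N = ⊥) {D : Set G} (hinv : ∀ d ∈ D, orderOf d = 2) (hconj : ∃ d ∈ D, D = conjugatesOf d) (hgen : Subgroup.closure D = ⊤) (hrank : ∀ x ∈ D, ∃ y ∈ D, ∃ z ∈ D, {w : G | ∃ g : G, Commute g x ∧ g * y * g⁻¹ = w} ≠ {w : G | ∃ g : G, Commute g x ∧ g * x * g⁻¹ = w} ∧ {w : G | ∃ g : G, Commute g x ∧ g * z * g⁻¹ = w} ≠ {w : G | ∃ g : G, Commute g x ∧ g * x * g⁻¹ = w} ∧ {w : G | ∃ g : G, Commute g x ∧ g * y * g⁻¹ = w} ≠ {w : G | ∃ g : G, Commute g x ∧ g * z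 * g⁻¹ = w} ∧ D = {w : G | ∃ g : G, Commute g x ∧ g * x * g⁻¹ = w} ∪ {w : G | ∃ g : G, Commute g x ∧ g * y * g⁻¹ = w} ∪ {w : G | ∃ g : G, Commute g x ∧ g * z * g⁻¹ = w}) : Cfsg.IsThreeTranspositionClass D := by
  obtain ⟨d, hd, hD⟩ := hconj
  have hmem : ∀ a ∈ D, IsConj d a := fun a ha => (hD ▸ ha : a ∈ conjugatesOf d)
  have hcl : ∀ a ∈ D, ∀ g : G, g * a * g⁻¹ ∈ D := fun a ha g => by
    rw [hD]
    exact (hmem a ha).trans (isConj_iff.2 ⟨g, rfl⟩)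
  refine ⟨⟨hinv, PrimeTransp.RankThree.main hsol hinv hcl
    (fun a ha b hb => isConj_iff.1 ((hmem a ha).symm.trans (hmem b hb))) hgen fun x hx => ?_⟩,
    ⟨d, hd, hD⟩, hgen⟩
  obtain ⟨y, -, z, -, -, -, -, hu⟩ := hrank x hx
  exact ⟨y, z, hu.le⟩

end Cfsg.Agent.S1617
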