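import Cfsg.Statements.S1618
import Cfsg.Agent.Lib.ZStar.OddProduct

-- import your own Cfsg.Agent.* helpers here

set_option autoImplicit false
open Cfsg
open scoped commutatorElement

namespace Cfsg.Agent.S1618

/-- A group generated by a class of involutions whose pairwise products (of distinct members) have p-power order for a fixed odd prime p has nilpotent derived subgroup. -/
theorem result {G : Type*} [Group G] [Finite G] (p : ℕ) (hp : p.Prime) (hodd : p ≠ 2) {D : Set G} (hinv : ∀ d ∈ D, orderOf d = 2) (hconj : ∃ d ∈ D, D = conjugatesOf d) (hgen : Subgroup.closure D = ⊤) (hprod : ∀ x ∈ D, ∀ y ∈ D, x ≠ y → ∃ k : ℕ, orderOf (x * y) = p ^ k) : Group.IsNilpotent ↥(commutator G) := by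
  classical
  haveI := Fact.mk hp
  obtain ⟨d, hd, rfl⟩ := hconj
  have hprod' : ∀ a ∈ conjugatesOf d, ∀ b ∈ conjugatesOf d, ∃ k : ℕ, orderOf (a * b) = p ^ k := by
    intro a ha b hb
    rcases eq_or_ne a b with rfl | hne
    · refine ⟨0, ?_⟩
      rw [pow_zero, orderOf_eq_one_iff, ← pow_two, ← hinv a ha, pow_orderOf_eq_one]
    · exact hprod a ha b hb hne
  set N := Cfsg.pCore p G with hN
  have hmem := Cfsg.Agent.ZStar.OddProduct.product_mem_pCore hp hodd (hinv d hd) hprod'
  have hle : commutator G ≤ N := by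
    have hsame : ∀ a ∈ conjugatesOf d,
        QuotientGroup.mk' N a ∈ Subgroup.zpowers (QuotientGroup.mk' N d) := by
      intro a ha
      have h1 : QuotientGroup.mk' N (a * d) = 1 := (QuotientGroup.eq_one_iff _).2 (hmem a ha d hd)
      rw [map_mul, mul_eq_one_iff_eq_inv] at h1
      rw [h1]
      exact inv_mem (Subgroup.mem_zpowers _)
    have htop : (⊤ : Subgroup (G ⧸ N)) ≤ Subgroup.zpowers (QuotientGroup.mk' N d) := by
      rw [← Subgroup.map_top_of_surjective _ (QuotientGroup.mk'_surjective N), ← hgen,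
        MonoidHom.map_closure, Subgroup.closure_le]
      rintro _ ⟨a, ha, rfl⟩
      exact hsame a ha
    rw [commutator_def, Subgroup.commutator_le]
    intro u _ v _
    rw [← QuotientGroup.eq_one_iff]
    change QuotientGroup.mk' N ⁅u, v⁆ = 1
    rw [map_commutatorElement]
    obtain ⟨i, hi⟩ := htop (Subgroup.mem_top (QuotientGroup.mk' N u))
    obtain ⟨j, hj⟩ := htop (Subgroup.mem_top (QuotientGroup.mk' N v))
    rw [commutatorElement_eq_one_iff_commute, ← hi, ← hj]
    exact ((Commute.refl _).zpow_left i).zpow_right j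
  exact ((Cfsg.Agent.Cores.pCore_isPGroup (G := G) p).to_le hle).isNilpotent


end Cfsg.Agent.S1618
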