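import Cfsg.Statements.S1621
import Cfsg.Agent.Lib.IcoLeech.Center

set_option autoImplicit false
open Quaternion
open Cfsg

namespace Cfsg.Agent.S1621

open Cfsg.Agent.IcoLeech

/-- The icosian Leech lattice has 37800 minimal vectors giving 315 distinct reflections. -/
theorem result : {r : Fin 3 → ℍ[ℝ] | r ∈ Cfsg.Spor.icoLeech ∧ Cfsg.Spor.qip r r = 4}.ncard = 37800 ∧ {f : Equiv.Perm ↥Cfsg.Spor.icoLeech | Cfsg.Spor.IsIcoReflection f}.ncard = 315 := by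
  refine ⟨?_, card_refl⟩
  rw [← card_min, ← Set.ncard_image_of_injective _ V3.toV_injective]
  congr 1
  ext r
  constructor
  · rintro ⟨h, hq⟩
    exact ⟨vec ⟨r, h⟩, (isMin_iff ⟨r, h⟩).2 hq, toV_vec ⟨r, h⟩⟩
  · rintro ⟨v, hv, rfl⟩
    exact ⟨(V3.toV_mem_iff v).2 hv.1, by rw [← V3.qip_toV, hv.2, toH_four]⟩

end Cfsg.Agent.S1621
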