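import Cfsg.Statements.S1628
import Cfsg.Agent.Lib.RuLattice.Rootless

set_option autoImplicit false
open Cfsg

namespace Cfsg.Agent.S1628

/-- The Conway–Wales lattice as stored is even with no vectors of true norm 2: stored norms are multiples of 8, never equal to 8, and the minimum over nonzero vectors is 16. -/
theorem result : (∀ x ∈ Cfsg.Spor.ruLattice, (8 : ℤ) ∣ Cfsg.Spor.ruNorm x) ∧ (∀ x ∈ Cfsg.Spor.ruLattice, Cfsg.Spor.ruNorm x ≠ 8) ∧ (∀ x ∈ Cfsg.Spor.ruLattice, x ≠ 0 → 16 ≤ Cfsg.Spor.ruNorm x) ∧ ∃ x ∈ Cfsg.Spor.ruLattice, Cfsg.Spor.ruNorm x = 16 := by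
  open Cfsg.Agent.RuLattice in
  refine ⟨fun x hx => eight_dvd (le_lat hx), fun x hx => ne_eight (le_lat hx), fun x hx h0 => ?_,
    ⟨_, (AddSubgroup.mem_sInf.2 fun L hL => table_head_mem L hL), table_head_norm⟩⟩
  have h8 := Cfsg.Agent.RuLattice.eight_dvd (Cfsg.Agent.RuLattice.le_lat hx)
  have hne := Cfsg.Agent.RuLattice.ne_eight (Cfsg.Agent.RuLattice.le_lat hx)
  have hpos : 0 < Cfsg.Spor.ruNorm x := by
    obtain ⟨p, hp⟩ := Function.ne_iff.1 h0
    refine Finset.sum_pos' (fun i _ => GaussianInt.norm_nonneg _) ⟨p, Finset.mem_univ _, ?_⟩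
    exact GaussianInt.norm_pos.2 hp
  omega

end Cfsg.Agent.S1628
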