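import Cfsg.Statements.S1634
import Cfsg.Agent.Lib.LeechAut.McL

set_option autoImplicit false
open Cfsg

namespace Cfsg.Agent.S1634

/-- The McLaughlin group acts on 2025 points (minimal vectors orthogonal to v with customary inner product 2 with w) transitively with rank 4 and subdegrees 1, 330, 462, 1232. -/
theorem result (v w : ↥Cfsg.leechLattice) (hv : Cfsg.sqNorm (v : Cfsg.GolayPt → ℤ) = 32) (hw : Cfsg.sqNorm (w : Cfsg.GolayPt → ℤ) = 32) (hvw : Cfsg.dotInt (v : Cfsg.GolayPt → ℤ) (w : Cfsg.GolayPt → ℤ) = -8) : {x : ↥Cfsg.leechLattice | Cfsg.sqNorm (x : Cfsg.GolayPt → ℤ) = 32 ∧ Cfsg.dotInt (v : Cfsg.GolayPt → ℤ) (x : Cfsg.GolayPt → ℤ) = 0 ∧ Cfsg.dotInt (w : Cfsg.GolayPt → ℤ) (x : Cfsg.GolayPt → ℤ) = 16}.ncard = 2025 ∧ (∀ x ∈ {x : ↥Cfsg.leechLattice | Cfsg.sqNorm (x : Cfsg.GolayPt → ℤ) = 32 ∧ Cfsg.dotInt (v : Cfsg.GolayPt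 → ℤ) (x : Cfsg.GolayPt → ℤ) = 0 ∧ Cfsg.dotInt (w : Cfsg.GolayPt → ℤ) (x : Cfsg.GolayPt → ℤ) = 16}, ∀ x' ∈ {x : ↥Cfsg.leechLattice | Cfsg.sqNorm (x : Cfsg.GolayPt → ℤ) = 32 ∧ Cfsg.dotInt (v : Cfsg.GolayPt → ℤ) (x : Cfsg.GolayPt → ℤ) = 0 ∧ Cfsg.dotInt (w : Cfsg.GolayPt → ℤ) (x : Cfsg.GolayPt → ℤ) = 16}, ∃ g : ↥Cfsg.Co0, g • v = v ∧ g • w = w ∧ g • x = x') ∧ ∀ x ∈ {x : ↥Cfsg.leechLattice | Cfsg.sqNorm (x : Cfsg.GolayPt → ℤ) = 32 ∧ Cfsg.dotInt (v : Cfsg.GolayPt → ℤ) (x : Cfsg.GolayPt → ℤ) = 0 ∧ Cfsg.dotInt (w : Cfsg.GolayPt → ℤ) (x : Cfsg.GolayPt → ℤ) = 16}, ∃ y₁ ∈ {x : ↥Cfsg.leechLattice | Cfsg.sqNorm (x : Cfsg.GolayPt → ℤ) = 32 ∧ Cfsg.dotInt (v : Cfsg.GolayPt → ℤ) (x : Cfsg.GolayPt → ℤ) = 0 ∧ Cfsg.dotInt (w : Cfsg.GolayPt → ℤ) (x : Cfsg.GolayPt → ℤ) = 16}, ∃ y₂ ∈ {x : ↥Cfsg.leechLattice | Cfsg.sqNorm (x : Cfsg.GolayPt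 → ℤ) = 32 ∧ Cfsg.dotInt (v : Cfsg.GolayPt → ℤ) (x : Cfsg.GolayPt → ℤ) = 0 ∧ Cfsg.dotInt (w : Cfsg.GolayPt → ℤ) (x : Cfsg.GolayPt → ℤ) = 16}, ∃ y₃ ∈ {x : ↥Cfsg.leechLattice | Cfsg.sqNorm (x : Cfsg.GolayPt → ℤ) = 32 ∧ Cfsg.dotInt (v : Cfsg.GolayPt → ℤ) (x : Cfsg.GolayPt → ℤ) = 0 ∧ Cfsg.dotInt (w : Cfsg.GolayPt → ℤ) (x : Cfsg.GolayPt → ℤ) = 16}, (MulAction.orbit ↥(MulAction.stabilizer ↥Cfsg.Co0 v ⊓ MulAction.stabilizer ↥Cfsg.Co0 w ⊓ MulAction.stabilizer ↥Cfsg.Co0 x) y₁).ncard = 330 ∧ (MulAction.orbit ↥(MulAction.stabilizer ↥Cfsg.Co0 v ⊓ MulAction.stabilizer ↥Cfsg.Co0 w ⊓ MulAction.stabilizer ↥Cfsg.Co0 x) y₂).ncard = 462 ∧ (MulAction.orbit ↥(MulAction.stabilizer ↥Cfsg.Co0 v ⊓ MulAction.stabilizer ↥Cfsg.Co0 w ⊓ MulAction.stabilizer ↥Cfsg.Co0 x) y₃).ncard = 1232 := by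
  obtain ⟨h, h1, h2⟩ := LeechAut.Pairs.trans_pairs v w LeechAut.Pairs.v0 LeechAut.McL.w1 hv hw
    LeechAut.Pairs.sqNorm_v0 LeechAut.McL.w1_norm (Or.inl (by rw [hvw]; rfl))
    (by rw [hvw, LeechAut.McL.dot_v0w1])
  have hX : ∀ z : leechLattice, LeechAut.McL.InX (h • z) ↔
      (sqNorm (z : GolayPt → ℤ) = 32 ∧ dotInt (v : GolayPt → ℤ) (z : GolayPt → ℤ) = 0 ∧
        dotInt (w : GolayPt → ℤ) (z : GolayPt → ℤ) = 16) := fun z => by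
    show _ ∧ _ ∧ _ ↔ _
    rw [← h1, ← h2, LeechAut.Basic.dot_smul, LeechAut.Basic.dot_smul, LeechAut.Basic.sqNorm_smul]
  have hone : ∀ z : leechLattice, (sqNorm (z : GolayPt → ℤ) = 32 ∧
      dotInt (v : GolayPt → ℤ) (z : GolayPt → ℤ) = 0 ∧ dotInt (w : GolayPt → ℤ) (z : GolayPt → ℤ) = 16) →
      ∃ t : Co0, t • v = LeechAut.Pairs.v0 ∧ t • w = LeechAut.McL.w1 ∧ t • z = LeechAut.Pairs.w0 ∧
        ∀ u : leechLattice, LeechAut.McL.InX (t • u) →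
          (sqNorm (u : GolayPt → ℤ) = 32 ∧ dotInt (v : GolayPt → ℤ) (u : GolayPt → ℤ) = 0 ∧
            dotInt (w : GolayPt → ℤ) (u : GolayPt → ℤ) = 16) := fun z hz => by
    obtain ⟨g, hg, e⟩ := LeechAut.McL.to_one _ ((hX z).2 hz)
    obtain ⟨g1, g2⟩ := LeechAut.McL.mem_G.1 hg
    refine ⟨g * h, by rw [mul_smul, h1, g1], by rw [mul_smul, h2, g2], by rw [mul_smul, e], fun u hu => ?_⟩
    refine (hX u).1 ?_
    have := LeechAut.McL.inX_smul (Subgroup.inv_mem _ hg) hu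
    rwa [mul_smul, inv_smul_smul] at this
  refine ⟨?_, ?_, ?_⟩
  · refine Eq.trans ?_ LeechAut.McL.ncard_X
    rw [← Set.ncard_image_of_injective _ (MulAction.injective h)]
    refine congrArg Set.ncard (Set.ext fun u => ?_)
    constructor
    · rintro ⟨z, hz, rfl⟩
      exact (hX z).2 hz
    · intro hu
      refine ⟨h⁻¹ • u, (hX _).1 ?_, smul_inv_smul h u⟩
      rwa [smul_inv_smul]
  · intro x hx x' hx'
    obtain ⟨t, t1, t2, t3, -⟩ := hone x hx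
    obtain ⟨t', t1', t2', t3', -⟩ := hone x' hx'
    refine ⟨t'⁻¹ * t, ?_, ?_, ?_⟩
    · rw [mul_smul, t1, ← t1', inv_smul_smul]
    · rw [mul_smul, t2, ← t2', inv_smul_smul]
    · rw [mul_smul, t3, ← t3', inv_smul_smul]
  · intro x hx
    obtain ⟨t, t1, t2, t3, tX⟩ := hone x hx
    obtain ⟨y₁, a1, b1⟩ := Set.nonempty_of_ncard_ne_zero
      (by rw [LeechAut.McL.card_zero]; norm_num : {y : leechLattice | LeechAut.McL.InX y ∧ (y : GolayPt → ℤ) none = 0}.ncard ≠ 0)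
    obtain ⟨y₂, a2, b2⟩ := Set.nonempty_of_ncard_ne_zero
      (by rw [LeechAut.McL.card_twos]; norm_num : {y : leechLattice | LeechAut.McL.InX y ∧ (y : GolayPt → ℤ) none = 2}.ncard ≠ 0)
    obtain ⟨y₃, a3, b3⟩ := Set.nonempty_of_ncard_ne_zero
      (by rw [LeechAut.McL.card_ones]; norm_num : {y : leechLattice | LeechAut.McL.InX y ∧ (y : GolayPt → ℤ) none = 1}.ncard ≠ 0)
    refine ⟨t⁻¹ • y₁, tX _ (by rwa [smul_inv_smul]), t⁻¹ • y₂, tX _ (by rwa [smul_inv_smul]),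
      t⁻¹ • y₃, tX _ (by rwa [smul_inv_smul]), ?_, ?_, ?_⟩
    · rw [LeechAut.McL.orbit_transport t1 t2 t3, LeechAut.McL.orbit_S (by norm_num) a1 b1]
      exact LeechAut.McL.card_zero
    · rw [LeechAut.McL.orbit_transport t1 t2 t3, LeechAut.McL.orbit_S (by norm_num) a2 b2]
      exact LeechAut.McL.card_twos
    · rw [LeechAut.McL.orbit_transport t1 t2 t3, LeechAut.McL.orbit_S (by norm_num) a3 b3]
      exact LeechAut.McL.card_ones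

end Cfsg.Agent.S1634
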