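import Cfsg.Statements.S1635
import Cfsg.Agent.Lib.Golay.Coset

set_option autoImplicit false
open Cfsg

namespace Cfsg.Agent.S1635

open Cfsg.Agent.Golay.Basic Cfsg.Agent.Golay.Design Cfsg.Agent.Golay.Sextet Cfsg.Agent.Golay.Coset Finset

/-- Coset leaders of the length-24 code: a coset contains a unique word of weight ≤ 3, or else exactly six words of weight 4 and none lighter. -/
theorem result (w : Cfsg.GolayPt → ZMod 2) : ({v : Cfsg.GolayPt → ZMod 2 | hammingNorm v ≤ 4 ∧ w - v ∈ Cfsg.golayCode}.ncard = 1 ∧ ∃ v : Cfsg.GolayPt → ZMod 2, hammingNorm v ≤ 3 ∧ w - v ∈ Cfsg.golayCode) ∨ ({v : Cfsg.GolayPt → ZMod 2 | hammingNorm v ≤ 4 ∧ w - v ∈ Cfsg.golayCode}.ncard = 6 ∧ ∀ v : Cfsg.GolayPt → ZMod 2, w - v ∈ Cfsg.golayCode → hammingNorm v ≤ 4 → hammingNorm v = 4) := by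
  have himg : support₂ '' {v : Cfsg.GolayPt → ZMod 2 | hammingNorm v ≤ 4 ∧ w - v ∈ Cfsg.golayCode} =
      {u : Finset Cfsg.GolayPt | u.card ≤ 4 ∧ isCode (mask (support₂ w) ^^^ mask u) = true} := by
    ext u
    constructor
    · rintro ⟨v, ⟨h1, h2⟩, rfl⟩
      exact ⟨h1, (sub_mem_iff w v).1 h2⟩
    · rintro ⟨h1, h2⟩
      exact ⟨word u, ⟨by rwa [hammingNorm_eq_card, support₂_word], (sub_mem_iff w _).2 (by rwa [support₂_word])⟩,
        support₂_word u⟩
  have hinj : Function.Injective (support₂ (α := Cfsg.GolayPt)) := fun v v' h => by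
    rw [← word_support₂ v, h, word_support₂]
  have hncard := congrArg Set.ncard himg
  rw [Set.ncard_image_of_injective _ hinj] at hncard
  rw [hncard]
  rcases low_set (support₂ w) with ⟨t, ht, he⟩ | ⟨t, ht, he⟩
  · refine Or.inl ⟨by rw [he, Set.ncard_singleton], word t, by rwa [hammingNorm_eq_card, support₂_word], ?_⟩
    have hmem : t ∈ {u : Finset Cfsg.GolayPt | u.card ≤ 4 ∧ isCode (mask (support₂ w) ^^^ mask u) = true} := by
      rw [he]; rfl
    exact (sub_mem_iff w _).2 (by rw [support₂_word]; exact hmem.2)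
  · refine Or.inr ⟨by rw [he, Set.ncard_coe_finset, (sextetOf_mem ht).1], fun v hv h4 => ?_⟩
    have hmem : support₂ v ∈ (sextetOf t : Set (Finset Cfsg.GolayPt)) := by
      rw [← he, ← himg]; exact ⟨v, ⟨h4, hv⟩, rfl⟩
    rw [hammingNorm_eq_card]
    exact (sextetOf_mem ht).2.1 _ hmem

end Cfsg.Agent.S1635
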