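import Cfsg.Statements.S1636
import Cfsg.Agent.Lib.Golay.Coset

set_option autoImplicit false
open Cfsg

namespace Cfsg.Agent.S1636

open Cfsg.Agent.Golay.Basic Cfsg.Agent.Golay.Design Cfsg.Agent.Golay.Sextet Cfsg.Agent.Golay.Coset Finset

/-- The punctured length-23 code has weight distribution 0^1 7^253 8^506 11^1288 12^1288 15^506 16^253 23^1. -/
theorem result : {u : ZMod 23 → ZMod 2 | ∃ w ∈ Cfsg.golayCode, ∀ x : ZMod 23, u x = w (some x)}.ncard = 4096 ∧ {u : ZMod 23 → ZMod 2 | u ∈ {u : ZMod 23 → ZMod 2 | ∃ w ∈ Cfsg.golayCode, ∀ x : ZMod 23, u x = w (some x)} ∧ hammingNorm u = 7}.ncard = 253 ∧ {u : ZMod 23 → ZMod 2 | u ∈ {u : ZMod 23 → ZMod 2 | ∃ w ∈ Cfsg.golayCode, ∀ x : ZMod 23, u x = w (some x)} ∧ hammingNorm u = 8}.ncard = 506 ∧ {u : ZMod 23 → ZMod 2 | u ∈ {u : ZMod 23 → ZMod 2 | ∃ w ∈ Cfsg.golayCode, ∀ x : ZMod 23, u x = w (some x)} ∧ hammingNorm u = 11}.ncard = 1288 ∧ {u : ZMod 23 → ZMod 2 | u ∈ {u :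 ZMod 23 → ZMod 2 | ∃ w ∈ Cfsg.golayCode, ∀ x : ZMod 23, u x = w (some x)} ∧ hammingNorm u = 12}.ncard = 1288 ∧ {u : ZMod 23 → ZMod 2 | u ∈ {u : ZMod 23 → ZMod 2 | ∃ w ∈ Cfsg.golayCode, ∀ x : ZMod 23, u x = w (some x)} ∧ hammingNorm u = 15}.ncard = 506 ∧ {u : ZMod 23 → ZMod 2 | u ∈ {u : ZMod 23 → ZMod 2 | ∃ w ∈ Cfsg.golayCode, ∀ x : ZMod 23, u x = w (some x)} ∧ hammingNorm u = 16}.ncard = 253 ∧ ∀ u ∈ {u : ZMod 23 → ZMod 2 | ∃ w ∈ Cfsg.golayCode, ∀ x : ZMod 23, u x = w (some x)}, u ≠ 0 → 7 ≤ hammingNorm u := by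
  have hset : {u : ZMod 23 → ZMod 2 | ∃ w ∈ Cfsg.golayCode, ∀ x : ZMod 23, u x = w (some x)} =
      puncture '' (Cfsg.golayCode : Set (Cfsg.GolayPt → ZMod 2)) := by
    ext u
    exact ⟨fun ⟨w, hw, h⟩ => ⟨w, hw, funext fun x => (h x).symm⟩, fun ⟨w, hw, h⟩ => ⟨w, hw, fun x => h ▸ rfl⟩⟩
  have hinj : Function.Injective (support₂ (α := Cfsg.GolayPt)) := fun v v' h => by
    rw [← word_support₂ v, h, word_support₂]
  have hnorm : ∀ w, hammingNorm (puncture w) = pc (mask (support₂ w) &&& 8388607) := by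
    intro w
    rw [hammingNorm_puncture, card_eq_pc]
    congr 1
    rw [show (8388607 : ℕ) = mask ((univ : Finset Cfsg.GolayPt).erase none) by decide +kernel, ← mask_inter,
      inter_erase, inter_univ]
  have hn : ∀ n, (codeList.filter fun m => pc (m &&& 8388607) == n).length =
      {u : ZMod 23 → ZMod 2 | u ∈ puncture '' (Cfsg.golayCode : Set (Cfsg.GolayPt → ZMod 2)) ∧ hammingNorm u = n}.ncard := by
    intro n
    have e1 : {u : ZMod 23 → ZMod 2 | u ∈ puncture '' (Cfsg.golayCode : Set (Cfsg.GolayPt → ZMod 2)) ∧ hammingNorm u = n} =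
        puncture '' {w | w ∈ Cfsg.golayCode ∧ hammingNorm (puncture w) = n} := by
      ext u
      exact ⟨fun ⟨⟨w, hw, e⟩, h⟩ => ⟨w, ⟨hw, e ▸ h⟩, e⟩, fun ⟨w, ⟨hw, h⟩, e⟩ => ⟨⟨w, hw, e⟩, e ▸ h⟩⟩
    rw [e1, Set.InjOn.ncard_image (puncture_injOn.mono fun w hw => hw.1),
      ← Set.ncard_image_of_injective _ hinj]
    refine (ncard_code_filter' (fun m => pc (m &&& 8388607) == n) _ (fun s => ?_) _ rfl).symm
    simp only [beq_iff_eq]
    constructor
    · rintro ⟨w, ⟨hw, h⟩, rfl⟩; exact ⟨mem_code_iff.1 hw, hnorm w ▸ h⟩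
    · rintro ⟨h1, h2⟩
      exact ⟨word s, ⟨mem_code_iff.2 (by rwa [support₂_word]), by rw [hnorm, support₂_word]; exact h2⟩, support₂_word s⟩
  simp only [hset, Set.mem_ofPred_eq]
  refine ⟨?_, ?_, ?_, ?_, ?_, ?_, ?_, fun u hu hne => ?_⟩
  · rw [Set.InjOn.ncard_image puncture_injOn, ← Set.ncard_image_of_injective _ hinj]
    exact ncard_code_filter' (fun _ => true) _
      (fun s => by simp only [and_true]; exact mem_supports_iff) _ (by decide +kernel)
  · exact (hn 7).symm.trans (by decide +kernel)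
  · exact (hn 8).symm.trans (by decide +kernel)
  · exact (hn 11).symm.trans (by decide +kernel)
  · exact (hn 12).symm.trans (by decide +kernel)
  · exact (hn 15).symm.trans (by decide +kernel)
  · exact (hn 16).symm.trans (by decide +kernel)
  · obtain ⟨w, hw, rfl⟩ := hu
    rw [hammingNorm_puncture]
    have h := weights_supports (s := support₂ w) ⟨w, hw, rfl⟩
    have hle := pred_card_le_card_erase (a := (none : Cfsg.GolayPt)) (s := support₂ w)
    by_contra hlt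
    have hz : (support₂ w).card = 0 := by omega
    apply hne
    rw [← word_support₂ w, card_eq_zero.1 hz]
    funext x
    simp [puncture, word]

end Cfsg.Agent.S1636
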