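import Cfsg.Statements.S1637
import Cfsg.Agent.Lib.Golay.Coset

set_option autoImplicit false
open Cfsg

namespace Cfsg.Agent.S1637

open Cfsg.Agent.Golay.Basic Cfsg.Agent.Golay.Design Cfsg.Agent.Golay.Sextet Cfsg.Agent.Golay.Coset Finset

/-- The punctured length-23 code is a perfect 3-error-correcting code: each word of length 23 is within distance 3 of exactly one codeword. -/
theorem result (u : ZMod 23 → ZMod 2) : ∃! c : ZMod 23 → ZMod 2, c ∈ {u : ZMod 23 → ZMod 2 | ∃ w ∈ Cfsg.golayCode, ∀ x : ZMod 23, u x = w (some x)} ∧ hammingDist u c ≤ 3 := by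
  have hlift : ∀ c : ZMod 23 → ZMod 2, c ∈ {u : ZMod 23 → ZMod 2 | ∃ w ∈ Cfsg.golayCode, ∀ x : ZMod 23, u x = w (some x)} →
      ∃ w ∈ Cfsg.golayCode, puncture w = c := fun c ⟨w, hw, h⟩ => ⟨w, hw, funext fun x => (h x).symm⟩
  let U : Cfsg.GolayPt → ZMod 2 := fun p => p.elim 0 u
  have hnone : ∃ t : Finset Cfsg.GolayPt, (t.erase none).card ≤ 3 ∧
      isCode (mask (support₂ U) ^^^ mask t) = true := by
    rcases low_set (support₂ U) with ⟨t, ht, he⟩ | ⟨t, ht, he⟩
    · have hmem : t ∈ {u : Finset Cfsg.GolayPt | u.card ≤ 4 ∧ isCode (mask (support₂ U) ^^^ mask u) = true} := by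
        rw [he]; rfl
      exact ⟨t, le_trans (card_erase_le) ht, hmem.2⟩
    · obtain ⟨S, ⟨hS, hin⟩, -⟩ := sextets_through ht
      obtain ⟨hc, h4, hU⟩ := hS
      have hS' : S = sextetOf t := eq_sextetOf ⟨hc, h4, hU⟩ hin
      have hd : (S : Set (Finset Cfsg.GolayPt)).PairwiseDisjoint id := by
        intro a ha b hb hab
        show Disjoint a b
        rw [← card_union_eq_card_add_card, octad_card (hU a ha b hb hab), h4 a ha, h4 b hb]
      have hall : S.biUnion id = univ := by
        refine eq_univ_of_card _ ?_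
        rw [card_biUnion hd]; simp only [id]; rw [sum_const_nat (m := 4) (fun a ha => h4 a ha), hc, card_pts]
      have hn : (none : Cfsg.GolayPt) ∈ S.biUnion id := hall ▸ mem_univ _
      obtain ⟨a, ha, hna⟩ := mem_biUnion.1 hn
      have hmem : a ∈ {u : Finset Cfsg.GolayPt | u.card ≤ 4 ∧ isCode (mask (support₂ U) ^^^ mask u) = true} := by
        rw [he, ← hS']; exact ha
      exact ⟨a, by rw [card_erase_of_mem (show none ∈ a from hna), h4 a ha], hmem.2⟩
  obtain ⟨t, ht, hcode⟩ := hnone
  have hw : U - word t ∈ Cfsg.golayCode := (sub_mem_iff _ _).2 (by rwa [support₂_word])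
  refine ⟨puncture (U - word t), ⟨⟨_, hw, fun _ => rfl⟩, ?_⟩, ?_⟩
  · rw [hammingDist_eq_hammingNorm, show -u + puncture (U - word t) = puncture (word t) from
      funext fun x => by
        have h2 : ∀ a b : ZMod 2, -a + (a - b) = b := by decide
        exact h2 _ _, hammingNorm_puncture, support₂_word]
    exact ht
  · rintro c ⟨hc, hdist⟩
    obtain ⟨w', hw', rfl⟩ := hlift c hc
    have hd1 : hammingDist u (puncture (U - word t)) ≤ 3 := by
      rw [hammingDist_eq_hammingNorm, show -u + puncture (U - word t) = puncture (word t) from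
        funext fun x => by
        have h2 : ∀ a b : ZMod 2, -a + (a - b) = b := by decide
        exact h2 _ _, hammingNorm_puncture, support₂_word]
      exact ht
    have h6 : hammingDist (puncture w') (puncture (U - word t)) ≤ 6 :=
      (hammingDist_triangle_left _ _ u).trans (by omega)
    rw [hammingDist_eq_hammingNorm, show -puncture w' + puncture (U - word t) = puncture (w' - (U - word t)) from
      funext fun x => by
        have h2 : ∀ a b : ZMod 2, -a + b = a - b := by decide
        exact h2 _ _, hammingNorm_puncture] at h6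
    have hdiff := sub_mem hw' hw
    have h0 := weights_supports (s := support₂ (w' - (U - word t))) ⟨_, hdiff, rfl⟩
    have hle := pred_card_le_card_erase (a := (none : Cfsg.GolayPt)) (s := support₂ (w' - (U - word t)))
    have hz : (support₂ (w' - (U - word t))).card = 0 := by omega
    have := word_support₂ (w' - (U - word t))
    rw [card_eq_zero.1 hz, show word (∅ : Finset Cfsg.GolayPt) = 0 from funext fun p => by simp [word]] at this
    rw [sub_eq_zero.1 this.symm]

end Cfsg.Agent.S1637
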