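import Cfsg.Statements.S1638
import Cfsg.Agent.Lib.Golay.SetOrbit

set_option autoImplicit false
open scoped Pointwise
open Cfsg

namespace Cfsg.Agent.S1638

open Cfsg.Agent.Golay.Basic Cfsg.Agent.Golay.M24 Cfsg.Agent.Golay.Orbit Cfsg.Agent.Golay.KSubsets Cfsg.Agent.Golay.SetOrbit
open scoped Pointwise
set_option maxRecDepth 10000

/-- Fix two points p ≠ q and a pair s of two further points. Among the pairs avoiding p, q and disjoint from s, exactly 30 lie in an octad together with p, q and s and exactly 160 do not; and any two pairs other than s that meet s in equally many points and agree on that octad property are carried to one another by an element of the group of the length-24 code fixing p, q and s. -/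
theorem result (p q : Cfsg.GolayPt) (hpq : p ≠ q) (s : Finset Cfsg.GolayPt) (hs : (s.card = 2 ∧ p ∉ s ∧ q ∉ s)) : {t : Finset Cfsg.GolayPt | (t.card = 2 ∧ p ∉ t ∧ q ∉ t) ∧ Disjoint s t ∧ (∃ o ∈ Cfsg.octads, p ∈ o ∧ q ∈ o ∧ s ∪ t ⊆ o)}.ncard = 30 ∧ {t : Finset Cfsg.GolayPt | (t.card = 2 ∧ p ∉ t ∧ q ∉ t) ∧ Disjoint s t ∧ ¬ (∃ o ∈ Cfsg.octads, p ∈ o ∧ q ∈ o ∧ s ∪ t ⊆ o)}.ncard = 160 ∧ ∀ t t' : Finset Cfsg.GolayPt, (t.card = 2 ∧ p ∉ t ∧ q ∉ t) → (t'.card = 2 ∧ p ∉ t' ∧ q ∉ t') → t ≠ s → t' ≠ s → (s ∩ t).card = (s ∩ t').card → ((∃ o ∈ Cfsg.octads, p ∈ o ∧ q ∈ o ∧ s ∪ t ⊆ o) ↔ (∃ o ∈ Cfsg.octads, p ∈ o ∧ q ∈ o ∧ s ∪ t' ⊆ o)) → ∃ g : Equiv.Perm Cfsg.GolayPt, g ∈ Cfsg.M24 ∧ g p = p ∧ g q = q ∧ g • s = s ∧ g • t = t' := by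
  classical
  obtain ⟨hs2, hps, hqs⟩ := hs
  obtain ⟨x, y, hxy, rfl⟩ := Finset.card_eq_two.1 hs2
  simp only [Finset.mem_insert, Finset.mem_singleton, not_or] at hps hqs
  obtain ⟨a, ha, hai⟩ := exists_to_base 4 (by norm_num) (fun i => [p, q, x, y].getD i none) (by
    have hnd : [p, q, x, y].Nodup := by
      simp [hpq, hps.1, hps.2, hqs.1, hqs.2, hxy]
    intro i hi j hj h
    simp only [Set.mem_Iio] at hi hj
    simp only [List.getD_eq_getElem _ _ (show i < [p, q, x, y].length from hi),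
      List.getD_eq_getElem _ _ (show j < [p, q, x, y].length from hj)] at h
    exact hnd.getElem_inj_iff.1 h)
  have hap : a p = pt 0 := hai 0 (by norm_num)
  have haq : a q = pt 1 := hai 1 (by norm_num)
  have hax : a x = pt 2 := hai 2 (by norm_num)
  have hay : a y = pt 3 := hai 3 (by norm_num)
  have has : a • ({x, y} : Finset GolayPt) = maskSet 12 := by
    rw [smul_finset_def, Finset.image_insert, Finset.image_singleton, hax, hay]; decide +kernel
  have hoct : ∀ t : Finset GolayPt, (∃ o ∈ octads, p ∈ o ∧ q ∈ o ∧ {x, y} ∪ t ⊆ o) ↔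
      inAny octThrough4 (15 ||| mask (a • t)) = true := by
    intro t
    have h15 : mask (a • (({p, q} : Finset GolayPt) ∪ {x, y})) = 15 := by
      rw [Finset.smul_finset_union, smul_finset_def, Finset.image_insert, Finset.image_singleton,
        hap, haq, has]
      decide +kernel
    have e : (∃ o ∈ octads, p ∈ o ∧ q ∈ o ∧ {x, y} ∪ t ⊆ o) ↔
        ∃ o ∈ octads, (({p, q} : Finset GolayPt) ∪ {x, y}) ∪ t ⊆ o := by
      simp only [Finset.union_subset_iff, Finset.insert_subset_iff, Finset.singleton_subset_iff,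
        and_assoc]
    rw [e, exists_octad_smul ha, Finset.smul_finset_union,
      exists_octad_iff octThrough4_eq (by
        rw [mask_union, h15, Nat.and_or_distrib_left]
        apply Nat.eq_of_testBit_eq
        intro i
        simp only [Nat.testBit_or, Nat.testBit_and]
        cases (15 : ℕ).testBit i <;> simp), mask_union, h15]
  have hpq' : ∀ t : Finset GolayPt, (p ∉ t ∧ q ∉ t) ↔ mask (a • t) &&& 3 = 0 := by
    intro t
    have h3 : mask (a • ({p, q} : Finset GolayPt)) = 3 := by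
      rw [smul_finset_def, Finset.image_insert, Finset.image_singleton, hap, haq]; decide +kernel
    rw [Nat.and_comm, ← h3, ← disjoint_iff_and, disjoint_smul_iff, Finset.disjoint_insert_left,
      Finset.disjoint_singleton_left]
  have hdis : ∀ t : Finset GolayPt, Disjoint {x, y} t ↔ mask (a • t) &&& 12 = 0 := by
    intro t
    rw [← disjoint_smul_iff a, disjoint_iff_and, has, mask_maskSet (by norm_num), Nat.and_comm]
  refine ⟨?_, ?_, ?_⟩
  · rw [ncard_transport a (Q := fun V => V.card = 2 ∧ (mask V &&& 3 = 0 ∧ mask V &&& 12 = 0 ∧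
        inAny octThrough4 (15 ||| mask V) = true))
      (fun U => by rw [Finset.card_smul_finset, ← hdis, ← hoct, ← hpq', and_assoc])]
    exact ncard_ksub 2 _ (fun m => m &&& 3 == 0 && m &&& 12 == 0 && inAny octThrough4 (15 ||| m))
      (fun s _ => by simp [and_assoc]) (by decide +kernel)
  · rw [ncard_transport a (Q := fun V => V.card = 2 ∧ (mask V &&& 3 = 0 ∧ mask V &&& 12 = 0 ∧
        ¬ inAny octThrough4 (15 ||| mask V) = true))
      (fun U => by rw [Finset.card_smul_finset, ← hdis, ← hoct, ← hpq', and_assoc])]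
    exact ncard_ksub 2 _ (fun m => m &&& 3 == 0 && m &&& 12 == 0 && !inAny octThrough4 (15 ||| m))
      (fun s _ => by simp [and_assoc]) (by decide +kernel)
  · intro t t' ht ht' hne hne' hcard hiff
    have hmem : ∀ V : Finset GolayPt, (V.card = 2 ∧ p ∉ V ∧ q ∉ V) → V ≠ {x, y} →
        mask (a • V) ∈ ppCands := by
      intro V hV hVne
      refine List.mem_filter.2 ⟨mask_mem_ksub (by rw [Finset.card_smul_finset, hV.1]), ?_⟩
      simp only [Bool.and_eq_true, beq_iff_eq, Bool.not_eq_true', beq_eq_false_iff_ne]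
      refine ⟨(hpq' V).1 hV.2, fun e => hVne ?_⟩
      have h12 : mask (a • ({x, y} : Finset GolayPt)) = 12 := by
        rw [has, mask_maskSet (by norm_num)]
      exact MulAction.injective a (mask_injective (e.trans h12.symm))
    obtain ⟨g, hg, hgt⟩ := transitive_of_covers ppGens_ok.1 (by decide +kernel) pp_covers
      (hmem t ht hne) (hmem t' ht' hne') (by
        rw [hoct, hoct, ← Bool.eq_iff_iff] at hiff
        have hk : ∀ V : Finset GolayPt, pc (mask (a • V) &&& 12) = (({x, y} : Finset GolayPt) ∩ V).card := by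
          intro V
          rw [← inter_smul_card a, card_inter_eq_pc, has, mask_maskSet (by norm_num), Nat.and_comm]
        simp only [ppKey, hiff, hk, hcard])
    have hgM := Cfsg.Agent.Golay.Cert.tabGroup_le_M24 ppGens_ok.1 hg
    refine ⟨a⁻¹ * g * a, M24.mul_mem (M24.mul_mem (M24.inv_mem ha) hgM) ha, ?_, ?_, ?_, ?_⟩
    · rw [Equiv.Perm.mul_apply, Equiv.Perm.mul_apply, hap,
        tabGroup_fix ppGens_ok.1 ppGens_ok.2.1 (i := 0) (by norm_num) (by simp) hg,
        Equiv.Perm.inv_eq_iff_eq, hap]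
    · rw [Equiv.Perm.mul_apply, Equiv.Perm.mul_apply, haq,
        tabGroup_fix ppGens_ok.1 ppGens_ok.2.1 (i := 1) (by norm_num) (by simp) hg,
        Equiv.Perm.inv_eq_iff_eq, haq]
    · rw [mul_smul, mul_smul, has,
        tabGroup_stab ppGens_ok.1 ppGens_ok.2.2 (m := 12) (by norm_num) (by simp) hg,
        inv_smul_eq_iff, has]
    · rw [mul_smul, mul_smul, hgt, inv_smul_smul]

end Cfsg.Agent.S1638
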