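import Cfsg.Statements.S1639
import Cfsg.Agent.Lib.Golay.Orbit
import Cfsg.Agent.Lib.Golay.OrbitData
import Cfsg.Agent.Lib.Golay.Steiner

set_option autoImplicit false
open scoped Pointwise
open Cfsg

namespace Cfsg.Agent.S1639

open Cfsg.Agent.Golay.Basic Cfsg.Agent.Golay.Design Cfsg.Agent.Golay.M24 Cfsg.Agent.Golay.M24Data Cfsg.Agent.Golay.Cert Cfsg.Agent.Golay.Orbit Cfsg.Agent.Golay.OrbitData Cfsg.Agent.Golay.Trans
open scoped Pointwise
set_option maxRecDepth 10000

/-- The point stabiliser acts on the 1288 dodecads through the point with rank 4 and subdegrees 1, 165, 330, 792, distinguished by intersection 4, 8, 6 with the fixed dodecad. -/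
theorem result (x : Cfsg.GolayPt) (d : Finset Cfsg.GolayPt) (hd : d ∈ Cfsg.dodecads) (hx : x ∈ d) : {d' : Finset Cfsg.GolayPt | d' ∈ Cfsg.dodecads ∧ x ∈ d' ∧ (d ∩ d').card = 4}.ncard = 165 ∧ {d' : Finset Cfsg.GolayPt | d' ∈ Cfsg.dodecads ∧ x ∈ d' ∧ (d ∩ d').card = 8}.ncard = 330 ∧ {d' : Finset Cfsg.GolayPt | d' ∈ Cfsg.dodecads ∧ x ∈ d' ∧ (d ∩ d').card = 6}.ncard = 792 ∧ ∀ d' d'' : Finset Cfsg.GolayPt, d' ∈ Cfsg.dodecads → d'' ∈ Cfsg.dodecads → x ∈ d' → x ∈ d'' → (d ∩ d').card = (d ∩ d'').card → ∃ g : Equiv.Perm Cfsg.GolayPt, g ∈ Cfsg.M24 ∧ g x = x ∧ g • d = d ∧ g • d' = d'' := by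
  obtain ⟨a, ha, had, hax⟩ := Cfsg.Agent.Golay.Small.exists_conj_dodecad_point hd hx
  have hX : dodPtTabs.all tabOK = true := by decide +kernel
  have hmem : ∀ s : Finset Cfsg.GolayPt, x ∈ s ↔ (mask (a • s)).testBit 0 = true := fun s => by
    rw [show (0 : ℕ) = ix (pt 0) from rfl, testBit_mask, ← hax, decide_eq_true_eq, mem_smul_iff]
  have hcount : ∀ j, {d' : Finset Cfsg.GolayPt | d' ∈ Cfsg.dodecads ∧ x ∈ d' ∧ (d ∩ d').card = j}.ncard =
      {t : Finset Cfsg.GolayPt | t ∈ Cfsg.dodecads ∧ ((mask t).testBit 0 && pc (mask t &&& baseDodecad) == j) = true}.ncard :=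
    fun j => ncard_transport a fun s => by
      rw [mem_dodecads_smul ha, hmem, ← inter_smul_card a d s, had, Finset.inter_comm, card_inter_eq_pc,
        mask_maskSet (by decide +kernel), Bool.and_eq_true, beq_iff_eq]
  refine ⟨?_, ?_, ?_, fun d' d'' hd' hd'' hx' hx'' h => ?_⟩
  · rw [hcount 4]; exact count_weight 12 _ (fun m => m.testBit 0 && pc (m &&& baseDodecad) == 4) (fun _ => Iff.rfl) (by decide +kernel)
  · rw [hcount 8]; exact count_weight 12 _ (fun m => m.testBit 0 && pc (m &&& baseDodecad) == 8) (fun _ => Iff.rfl) (by decide +kernel)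
  · rw [hcount 6]; exact count_weight 12 _ (fun m => m.testBit 0 && pc (m &&& baseDodecad) == 6) (fun _ => Iff.rfl) (by decide +kernel)
  obtain ⟨g, hg, e⟩ := transitive_of_codeCovers hX (L := dodPtCert) (key := fun m => pc (m &&& baseDodecad))
    (Q := fun m => m.testBit 0) (w := 12) (by decide +kernel) (by decide +kernel)
    (smul_mem_dodecads ha hd') (smul_mem_dodecads ha hd'') ((hmem d').1 hx') ((hmem d'').1 hx'') (by
      have e := inter_smul_card a d d'
      have e' := inter_smul_card a d d''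
      rw [had, Finset.inter_comm, card_inter_eq_pc, mask_maskSet (by decide +kernel)] at e e'
      rw [e, e', h])
  refine ⟨a⁻¹ * g * a, Cfsg.M24.mul_mem (Cfsg.M24.mul_mem (Cfsg.M24.inv_mem ha) (tabGroup_le_M24 hX hg)) ha, ?_, ?_, ?_⟩
  · simp only [Equiv.Perm.mul_apply, hax, tabGroup_fix hX (pts := [0]) (by decide +kernel)
      (by norm_num) List.mem_cons_self hg]
    rw [← hax]; exact a.symm_apply_apply x
  · rw [mul_smul, mul_smul, had, tabGroup_stab hX (masks := [baseDodecad]) (by decide +kernel)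
      (by decide +kernel) List.mem_cons_self hg, (show maskSet baseDodecad = a • d from had.symm), inv_smul_smul]
  · rw [mul_smul, mul_smul, e, inv_smul_smul]

end Cfsg.Agent.S1639
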