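import Cfsg.Statements.S1640
import Cfsg.Agent.Lib.LeechAut.Census

set_option autoImplicit false
open Cfsg

namespace Cfsg.Agent.S1640

/-- The stabiliser of a vector of customary norm 6 is transitive on the 11178 minimal vectors of customary inner product −2 with it. -/
theorem result (u : ↥Cfsg.leechLattice) (hu : Cfsg.sqNorm (u : Cfsg.GolayPt → ℤ) = 48) : {x : ↥Cfsg.leechLattice | Cfsg.sqNorm (x : Cfsg.GolayPt → ℤ) = 32 ∧ Cfsg.dotInt (u : Cfsg.GolayPt → ℤ) (x : Cfsg.GolayPt → ℤ) = -16}.ncard = 11178 ∧ ∀ x ∈ {x : ↥Cfsg.leechLattice | Cfsg.sqNorm (x : Cfsg.GolayPt → ℤ) = 32 ∧ Cfsg.dotInt (u : Cfsg.GolayPt → ℤ) (x : Cfsg.GolayPt → ℤ) = -16}, ∀ x' ∈ {x : ↥Cfsg.leechLattice | Cfsg.sqNorm (x : Cfsg.GolayPt → ℤ) = 32 ∧ Cfsg.dotInt (u : Cfsg.GolayPt → ℤ) (x : Cfsg.GolayPt → ℤ) = -16}, ∃ g : ↥Cfsg.Co0, g • u = u ∧ g • x = x' := by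
  refine ⟨?_, fun x hx x' hx' => ?_⟩
  · rw [LeechAut.Census.ncard_cnt, LeechAut.Moments.cnt_neg]
    exact (LeechAut.Moments.census48 hu).2.1
  · have key : ∀ x : ↥leechLattice, dotInt (u : GolayPt → ℤ) (x : GolayPt → ℤ) = -16 →
        dotInt (x : GolayPt → ℤ) ((-u : ↥leechLattice) : GolayPt → ℤ) = 16 := fun x h => by
      rw [AddSubgroup.coe_neg, LeechAut.Moments.dot_neg_right, LeechAut.Pairs.dot_comm, h]; rfl
    have hn : sqNorm ((-u : ↥leechLattice) : GolayPt → ℤ) = 48 :=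
      (LeechAut.Moments.neg_norm u).trans hu
    obtain ⟨g, h1, h2⟩ := LeechAut.Triples.trans_sv x (-u) x' (-u) hx.1 hn (key x hx.2) hx'.1 hn (key x' hx'.2)
    rw [LeechAut.Basic.smul_neg', neg_inj] at h2
    exact ⟨g, h2, h1⟩

end Cfsg.Agent.S1640
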