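import Cfsg.Statements.S1641
import Cfsg.Agent.Lib.LeechAut.Co3Orbits

set_option autoImplicit false
open Cfsg

namespace Cfsg.Agent.S1641

/-- The third Conway group acts on the 11178 cosets of the Higman–Sims group with rank 5 and subdegrees 1, 352, 1100, 4125, 5600. -/
theorem result (u x : ↥Cfsg.leechLattice) (hu : Cfsg.sqNorm (u : Cfsg.GolayPt → ℤ) = 48) (hx : x ∈ {x : ↥Cfsg.leechLattice | Cfsg.sqNorm (x : Cfsg.GolayPt → ℤ) = 32 ∧ Cfsg.dotInt (u : Cfsg.GolayPt → ℤ) (x : Cfsg.GolayPt → ℤ) = -16}) : ∃ y₁ ∈ {x : ↥Cfsg.leechLattice | Cfsg.sqNorm (x : Cfsg.GolayPt → ℤ) = 32 ∧ Cfsg.dotInt (u : Cfsg.GolayPt → ℤ) (x : Cfsg.GolayPt → ℤ) = -16}, ∃ y₂ ∈ {x : ↥Cfsg.leechLattice | Cfsg.sqNorm (x : Cfsg.GolayPt → ℤ) = 32 ∧ Cfsg.dotInt (u : Cfsg.GolayPt → ℤ) (x : Cfsg.GolayPt → ℤ) = -16}, ∃ y₃ ∈ {x : ↥Cfsg.leechLattice | Cfsg.sqNorm (x : Cfsg.GolayPt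 → ℤ) = 32 ∧ Cfsg.dotInt (u : Cfsg.GolayPt → ℤ) (x : Cfsg.GolayPt → ℤ) = -16}, ∃ y₄ ∈ {x : ↥Cfsg.leechLattice | Cfsg.sqNorm (x : Cfsg.GolayPt → ℤ) = 32 ∧ Cfsg.dotInt (u : Cfsg.GolayPt → ℤ) (x : Cfsg.GolayPt → ℤ) = -16}, (MulAction.orbit ↥(MulAction.stabilizer ↥Cfsg.Co0 u ⊓ MulAction.stabilizer ↥Cfsg.Co0 x) y₁).ncard = 352 ∧ (MulAction.orbit ↥(MulAction.stabilizer ↥Cfsg.Co0 u ⊓ MulAction.stabilizer ↥Cfsg.Co0 x) y₂).ncard = 1100 ∧ (MulAction.orbit ↥(MulAction.stabilizer ↥Cfsg.Co0 u ⊓ MulAction.stabilizer ↥Cfsg.Co0 x) y₃).ncard = 4125 ∧ (MulAction.orbit ↥(MulAction.stabilizer ↥Cfsg.Co0 u ⊓ MulAction.stabilizer ↥Cfsg.Co0 x) y₄).ncard = 5600 ∧ {x : ↥Cfsg.leechLattice | Cfsg.sqNorm (x : Cfsg.GolayPt → ℤ) = 32 ∧ Cfsg.dotInt (u : Cfsg.GolayPt → ℤ) (x : Cfsg.GolayPt → ℤ) = -16} = {x} ∪ MulAction.orbit ↥(MulAction.stabilizer ↥Cfsg.Co0 u ⊓ MulAction.stabilizer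 ↥Cfsg.Co0 x) y₁ ∪ MulAction.orbit ↥(MulAction.stabilizer ↥Cfsg.Co0 u ⊓ MulAction.stabilizer ↥Cfsg.Co0 x) y₂ ∪ MulAction.orbit ↥(MulAction.stabilizer ↥Cfsg.Co0 u ⊓ MulAction.stabilizer ↥Cfsg.Co0 x) y₃ ∪ MulAction.orbit ↥(MulAction.stabilizer ↥Cfsg.Co0 u ⊓ MulAction.stabilizer ↥Cfsg.Co0 x) y₄ := by
  classical
  obtain ⟨hxn, hxd⟩ := hx
  obtain ⟨h, h1, h2⟩ := LeechAut.Triples.trans_sv (-x) u LeechAut.Pairs.v0 LeechAut.Census.u5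
    (by simpa [sqNorm] using hxn) hu
    (by rw [AddSubgroup.coe_neg, LeechAut.Pairs.dot_comm, LeechAut.Co3Orbits.dot_neg, hxd]; norm_num)
    LeechAut.Pairs.sqNorm_v0 LeechAut.Census.u5_facts.1 LeechAut.HS.dot_v0u5
  have hx' : h • x = -LeechAut.Pairs.v0 := by
    rw [← h1, LeechAut.Co3Orbits.smul_neg', neg_neg]
  have hmem := LeechAut.Co3Orbits.mem_B_iff h2
  have key : ∀ d M, ({y : leechLattice | LeechAut.Co3Orbits.InD d y}.ncard = M ∧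
      ∃ y0, LeechAut.Co3Orbits.InD d y0 ∧ ∀ y, LeechAut.Co3Orbits.InD d y ↔
        y ∈ MulAction.orbit LeechAut.HS.G y0) → ∃ z : leechLattice,
      (sqNorm (z : GolayPt → ℤ) = 32 ∧ dotInt (u : GolayPt → ℤ) (z : GolayPt → ℤ) = -16) ∧
      (MulAction.orbit ↥(MulAction.stabilizer Co0 u ⊓ MulAction.stabilizer Co0 x) z).ncard = M ∧
      ∀ y, y ∈ MulAction.orbit ↥(MulAction.stabilizer Co0 u ⊓ MulAction.stabilizer Co0 x) z ↔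
        LeechAut.Co3Orbits.InD d (-(h • y)) := by
    rintro d M ⟨hM, y0, hy0, horb⟩
    have hi : Function.Injective fun w : leechLattice => h⁻¹ • (-w) := fun a b e =>
      neg_injective (MulAction.injective h⁻¹ e)
    refine ⟨h⁻¹ • (-y0), (hmem _).2 (by rw [smul_inv_smul, neg_neg]; exact hy0.1), ?_, fun y => ?_⟩
    · rw [LeechAut.Co3Orbits.transfer h2 hx', Set.ncard_image_of_injective _ hi, ← hM]
      exact congrArg Set.ncard (Set.ext fun w => (horb w).symm)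
    · rw [LeechAut.Co3Orbits.transfer h2 hx', horb]
      constructor
      · rintro ⟨w, hw, rfl⟩; simpa using hw
      · intro hw; exact ⟨_, hw, by simp⟩
  obtain ⟨y₁, a1, b1, c1⟩ := key _ _ LeechAut.Co3Orbits.orbit352
  obtain ⟨y₂, a2, b2, c2⟩ := key _ _ LeechAut.Co3Orbits.orbit1100
  obtain ⟨y₃, a3, b3, c3⟩ := key _ _ LeechAut.Co3Orbits.orbit4125
  obtain ⟨y₄, a4, b4, c4⟩ := key _ _ LeechAut.Co3Orbits.orbit5600
  refine ⟨y₁, a1, y₂, a2, y₃, a3, y₄, a4, b1, b2, b3, b4, Set.ext fun y => ?_⟩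
  simp only [Set.mem_ofPred_eq, Set.mem_union, Set.mem_singleton_iff, c1, c2, c3, c4]
  constructor
  · intro hy
    have hB := (hmem y).1 hy
    rcases LeechAut.Co3Orbits.values hB with e | e | e | e | e
    · refine Or.inl (Or.inl (Or.inl (Or.inl (MulAction.injective h ?_))))
      show h • y = h • x
      rw [hx', ← e, neg_neg]
    · exact Or.inl (Or.inl (Or.inl (Or.inr ⟨hB, e⟩)))
    · exact Or.inl (Or.inl (Or.inr ⟨hB, e⟩))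
    · exact Or.inl (Or.inr ⟨hB, e⟩)
    · exact Or.inr ⟨hB, e⟩
  · rintro ((((e | e) | e) | e) | e)
    · rw [e]; exact ⟨hxn, hxd⟩
    all_goals exact (hmem y).2 e.1

end Cfsg.Agent.S1641
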