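import Cfsg.Statements.S1642
import Cfsg.Agent.Lib.LeechAut.Triples

set_option autoImplicit false
open Cfsg

namespace Cfsg.Agent.S1642

open Cfsg.Agent.Golay.Basic Cfsg.Agent.Golay.Design Cfsg.Agent.Leech.Basic Cfsg.Agent.LeechAut.Basic
  Cfsg.Agent.LeechAut.Gens Cfsg.Agent.LeechAut.Shells Cfsg.Agent.LeechAut.Pairs Finset
open scoped symmDiff

theorem inLat_vd : inLat (fun p => if (15130653 : ℕ).testBit (ix p) then (2 : ℤ) else 0) = true := by
  decide +kernel

/-- The standard dodecad vector. -/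
def vd : leechLattice := ⟨_, mem_of_inLat inLat_vd⟩

/-- Its partner. -/
def vd' : leechLattice := v0 - vd

theorem vd_norm : sqNorm (vd : GolayPt → ℤ) = 48 := by
  show sqNorm (fun p => if (15130653 : ℕ).testBit (ix p) then (2 : ℤ) else 0) = 48
  decide +kernel

theorem vd_dot : dotInt (v0 : GolayPt → ℤ) (vd : GolayPt → ℤ) = 16 := by
  show dotInt stdVec (fun p => if (15130653 : ℕ).testBit (ix p) then (2 : ℤ) else 0) = 16
  decide +kernel

theorem vd_apply (p : GolayPt) :
    (vd : GolayPt → ℤ) p = if p ∈ maskSet 15130653 then 2 else 0 := by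
  show (if (15130653 : ℕ).testBit (ix p) then (2 : ℤ) else 0) = _
  by_cases hp : p ∈ maskSet 15130653
  · rw [if_pos hp, if_pos (mem_maskSet.1 hp)]
  · rw [if_neg hp, if_neg (fun e => hp (mem_maskSet.2 e))]

theorem dodecad : maskSet 15130653 ∈ dodecads := mem_dodecads_iff.2 (by decide +kernel)

theorem compl_mem' : (maskSet 15130653)ᶜ ∈ Cfsg.Agent.Leech.Basic.codeSets :=
  Cfsg.Agent.Leech.Basic.compl_mem (mem_supports_iff.2 (by decide +kernel))

/-- The sign change off the dodecad. -/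
def flipD : Co0 := sign _ compl_mem'

theorem flipD_sq : flipD * flipD = 1 := ext' fun v => Subtype.ext (by
  rw [mul_smul, one_smul, flipD, sign_smul, sign_smul, LeechAut.Basic.flip_flip])

theorem flipD_v : flipD • vd = vd := Subtype.ext (funext fun p => by
  rw [flipD, sign_smul, LeechAut.Basic.flip, vd_apply]
  by_cases hp : p ∈ maskSet 15130653
  · rw [if_neg (by simp [hp])]
  · rw [if_pos (mem_compl.2 hp), if_neg hp, neg_zero])

theorem flipD_v0 : flipD • v0 = v0 :=
  sign_fix _ (fun h => mem_compl.1 h (mem_maskSet.2 (by decide +kernel)))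
    (fun h => mem_compl.1 h (mem_maskSet.2 (by decide +kernel)))

theorem flipD_w : flipD • vd' = vd' := by
  rw [vd', smul_sub', flipD_v, flipD_v0]

theorem flipD_ne_one : flipD ≠ 1 := by
  intro h
  have h1 : (15130653 : ℕ).testBit (ix (pt 1)) = false := by decide +kernel
  have e := congrArg (fun g : Co0 =>
    ((g • LeechAut.Cross.frame (pt 1) : leechLattice) : GolayPt → ℤ) (pt 1)) h
  simp only [flipD, sign_smul, one_smul, LeechAut.Cross.frame_coe, LeechAut.Basic.flip,
    Pi.single_eq_same] at e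
  rw [if_pos (mem_compl.2 fun hm => by rw [mem_maskSet, h1] at hm; cases hm)] at e
  norm_num at e

theorem moves (y : leechLattice) (hy : sqNorm (y : GolayPt → ℤ) = 32)
    (h1 : dotInt (vd : GolayPt → ℤ) (y : GolayPt → ℤ) = 24)
    (h2 : dotInt (vd' : GolayPt → ℤ) (y : GolayPt → ℤ) = -24) (hfix : flipD • y = y) : False := by
  classical
  have hzero : ∀ p, p ∉ maskSet 15130653 → (y : GolayPt → ℤ) p = 0 := by
    intro p hp
    have e := congrArg (fun z : leechLattice => (z : GolayPt → ℤ) p) hfix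
    simp only [flipD, sign_smul, LeechAut.Basic.flip] at e
    rw [if_pos (mem_compl.2 hp)] at e
    omega
  have hout : (15130653 : ℕ).testBit (ix (pt 1)) = false := by decide +kernel
  have hb := abs_le_eight hy (by norm_num)
  obtain ⟨hc1, hc2⟩ := counts hy (by norm_num)
  have heven : (y : GolayPt → ℤ) none % 2 = 0 := by
    obtain ⟨m, c, a, hm, -, hx, -⟩ := mem_lattice_iff.1 y.2
    have e1 := hx none
    have e2 := hx (pt 1)
    rw [hzero (pt 1) (fun hm => by rw [mem_maskSet, hout] at hm; cases hm)] at e2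
    omega
  obtain ⟨hc, n1, n3, n5, n7, -⟩ := even_class y.2 hb heven
  have hw := weights_supports hc
  rw [union_card] at hw
  have hcases : ((atVal (y : GolayPt → ℤ) 4).card = 2 ∧ (atVal (y : GolayPt → ℤ) 2).card = 0 ∧
      (atVal (y : GolayPt → ℤ) 6).card = 0 ∧ (atVal (y : GolayPt → ℤ) 8).card = 0) ∨
      ((atVal (y : GolayPt → ℤ) 2).card = 8 ∧ (atVal (y : GolayPt → ℤ) 6).card = 0) := by omega
  rcases hcases with ⟨c4, c2, c6, c8⟩ | ⟨c2, c6⟩
  · have hsum := sum_fibre (y : GolayPt → ℤ) hb fun a => a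
    simp only [sum_range_succ, sum_range_zero, c4, c2, c6, c8, n1, n3, n5, n7] at hsum
    push_cast at hsum
    have hle : dotInt (vd : GolayPt → ℤ) (y : GolayPt → ℤ) ≤ ∑ p, 2 * |(y : GolayPt → ℤ) p| := by
      refine sum_le_sum fun p _ => ?_
      have := le_abs_self ((y : GolayPt → ℤ) p)
      have := abs_nonneg ((y : GolayPt → ℤ) p)
      rw [vd_apply]
      split_ifs <;> omega
    rw [← mul_sum, hsum, h1] at hle
    omega
  · simp only [Finset.card_eq_zero] at c6
    rw [c6, union_empty] at hc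
    have hsub : atVal (y : GolayPt → ℤ) 2 ⊆ maskSet 15130653 := fun p hp => by
      by_contra hn
      rw [mem_atVal, hzero p hn] at hp
      norm_num at hp
    have e1 := card_symmDiff_eq (atVal (y : GolayPt → ℤ) 2) (maskSet 15130653)
    rw [inter_eq_left.2 hsub, c2, (mem_dodecads_iff.1 dodecad).2] at e1
    have e2 := weights_supports (symmDiff_mem_supports hc dodecad.1)
    omega


/-- Some involution of the Higman–Sims group acts without fixed points on its 100 points. -/
theorem result (v w : ↥Cfsg.leechLattice) (hv : Cfsg.sqNorm (v : Cfsg.GolayPt → ℤ) = 48) (hw : Cfsg.sqNorm (w : Cfsg.GolayPt → ℤ) = 48) (hvw : Cfsg.dotInt (v : Cfsg.GolayPt → ℤ) (w : Cfsg.GolayPt → ℤ) = -32) : ∃ g : ↥Cfsg.Co0, g • v = v ∧ g • w = w ∧ orderOf g = 2 ∧ ∀ x ∈ {x : ↥Cfsg.leechLattice | Cfsg.sqNorm (x : Cfsg.GolayPt → ℤ) = 32 ∧ Cfsg.dotInt (v : Cfsg.GolayPt → ℤ) (x : Cfsg.GolayPt → ℤ) = 24 ∧ Cfsg.dotInt (w : Cfsg.GolayPt → ℤ) (x : Cfsg.GolayPt → ℤ) = -24}, g • x ≠ x := by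
  obtain ⟨hs, hsv⟩ := LeechAut.Triples.sum_facts hv hw hvw
  obtain ⟨h, hs', hv'⟩ := LeechAut.Triples.trans_sv (v + w) v LeechAut.Pairs.v0 vd hs hv hsv
    LeechAut.Pairs.sqNorm_v0 vd_norm vd_dot
  have hw' : h • w = vd' := by
    rw [LeechAut.Basic.smul_add', hv'] at hs'
    exact eq_sub_of_add_eq' hs'
  refine ⟨h⁻¹ * flipD * h, ?_, ?_, ?_, ?_⟩
  · rw [mul_smul, mul_smul, hv', flipD_v, ← hv', inv_smul_smul]
  · rw [mul_smul, mul_smul, hw', flipD_w, ← hw', inv_smul_smul]
  · haveI : Fact (Nat.Prime 2) := ⟨Nat.prime_two⟩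
    refine orderOf_eq_prime ?_ fun e => flipD_ne_one ?_
    · rw [pow_two, show h⁻¹ * flipD * h * (h⁻¹ * flipD * h) = h⁻¹ * (flipD * flipD) * h by group,
        flipD_sq]
      group
    · calc flipD = h * (h⁻¹ * flipD * h) * h⁻¹ := by group
        _ = 1 := by rw [e]; group
  · rintro x ⟨hx, hvx, hwx⟩ e
    have e' : flipD • (h • x) = h • x := by
      calc flipD • h • x = h • ((h⁻¹ * flipD * h) • x) := by rw [mul_smul, mul_smul, smul_inv_smul]
        _ = h • x := by rw [e]
    have a := LeechAut.Basic.dot_smul h v x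
    have b := LeechAut.Basic.dot_smul h w x
    rw [hv', hvx] at a
    rw [hw', hwx] at b
    exact moves (h • x) ((LeechAut.Basic.sqNorm_smul h x).trans hx) a b e'

end Cfsg.Agent.S1642
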