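import Cfsg.Statements.S1645
import Cfsg.Agent.Lib.AltDouble.Fusion
import Cfsg.Agent.Lib.AltDouble.Congr
import Cfsg.Agent.Lib.AltDouble.NineCount
import Cfsg.Agent.Lib.AltDouble.Ten
import Cfsg.Agent.Lib.AltDouble.TenSub
import Cfsg.Agent.Lib.McLType.Inverted
import Cfsg.Agent.Lib.McLType.Outer
import Cfsg.Agent.Lib.McLType.ThreeGen
import Cfsg.Agent.Lib.McLType.Exists
import Cfsg.Agent.S2073
import Cfsg.Agent.S2132

set_option autoImplicit false
open Cfsg

namespace Cfsg.Agent.S1645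

/-- If some involution of a finite simple group has centraliser a non-split double cover of the alternating group of degree n ≥ 5, then n is 8 or 11 (the McLaughlin and Lyons cases). -/
theorem result {G : Type*} [Group G] [Finite G] [IsSimpleGroup G] (n : ℕ) (hn : 5 ≤ n) (z : G) (hz : orderOf z = 2) (hcov : Cfsg.IsNonsplitDoubleCover (Subgroup.centralizer ({z} : Set G)) (alternatingGroup (Fin n))) : n = 8 ∨ n = 11 := by
  classical
  have hzmem : z ∈ Subgroup.centralizer ({z} : Set G) := Subgroup.mem_centralizer_singleton_iff.2 rfl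
  obtain ⟨π, hc⟩ := AltDouble.exists_isAltCover hn hcov ⟨z, hzmem⟩
    (by rw [Subgroup.orderOf_mk, hz])
    (Subgroup.mem_center_iff.2 fun y => Subtype.ext (Subgroup.mem_centralizer_singleton_iff.1 y.2))
  obtain ⟨g, hg, hne⟩ := AltDouble.exists_fused hn hz hcov
  obtain ⟨⟨h8, h11⟩, τ, c, hτ2, hτz, hτs, hc1, hc2, hc3, -⟩ :=
    AltDouble.small hn hz (zc := ⟨z, hzmem⟩) rfl hc hg hne
  by_contra hcon
  push Not at hcon
  obtain rfl | rfl : n = 9 ∨ n = 10 := by omega
  · -- degree nine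
    set C0 := (AltDouble.fix8 π).map (Subgroup.centralizer ({z} : Set G)).subtype with hC0
    obtain ⟨M, hM, ⟨e⟩⟩ := McLType.exists_mcl_sub z hz C0 (Subgroup.map_subtype_le _)
      (AltDouble.cover_congr ((AltDouble.fix8 π).equivMapOfInjective _
        (Subgroup.subtype_injective _)) (AltDouble.cover_fix8 hc (by norm_num)))
      (fun y hy hy2 hyz => by
        obtain ⟨h, hh⟩ := AltDouble.exists_conj_fix8 hc (by norm_num) (by norm_num) (x := ⟨y, hy⟩)
          (by rw [Subgroup.orderOf_mk, hy2]) (fun e => hyz (congrArg Subtype.val e))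
        exact ⟨h, h.2, ⟨_, hh, rfl⟩⟩)
      (fun y hy hy2 hyz h hh => by
        obtain ⟨d, hd, rfl⟩ := hy
        refine ⟨⟨h, hh.1⟩, AltDouble.cent_le_fix8 hc (by norm_num) le_rfl hd
          (by rw [← Subgroup.orderOf_coe]; exact hy2) (fun e => hyz (by rw [e]; rfl))
          (Subtype.ext (Subgroup.mem_centralizer_singleton_iff.1 hh.2)), rfl⟩)
      g hg hne
    exact AltDouble.Nine.false_of_setting
      ⟨z, π, ⟨z, hzmem⟩, rfl, hc, M, e, fun d hd => hM ⟨d, hd, rfl⟩⟩
      fun D hD φ hφ => McLType.inverted_le ⟨e⟩ D hD φ hφ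
  · -- degree ten
    obtain ⟨h, hh⟩ := AltDouble.exists_conj_fix8 hc (by norm_num) (by norm_num) hτ2 hτz
    set τ' := h * τ * h⁻¹ with hτ'
    have hτ'2 : orderOf τ' = 2 := by rw [hτ', Involutions.Basic.orderOf_conj, hτ2]
    have hτ'z : τ' ≠ ⟨z, hzmem⟩ := fun e => hτz (by
      rw [hτ'] at e
      rw [mul_inv_eq_iff_eq_mul, ← (AltDouble.z_comm hc h).eq] at e
      exact mul_left_cancel e)
    have hzh : (h : G) * z * (h : G)⁻¹ = z := by
      rw [Subgroup.mem_centralizer_singleton_iff.1 h.2, mul_inv_cancel_right]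
    obtain ⟨d, hdV, hdD, ⟨e⟩⟩ := AltDouble.TenSub.exists_sub (zc := ⟨z, hzmem⟩) rfl hc
      McLType.eV_mem_threes hh (Involutions.Basic.inv_sq_one hτ'2)
      (Involutions.Basic.ne_one hτ'2) hτ'z (u0 := (h : G) * c * (h : G)⁻¹)
      (by
        show (h : G) * c * (h : G)⁻¹ * z * _ = (h : G) * τ * (h : G)⁻¹
        calc (h : G) * c * (h : G)⁻¹ * z * ((h : G) * c * (h : G)⁻¹)⁻¹
            = (h : G) * c * (h : G)⁻¹ * ((h : G) * z * (h : G)⁻¹) * ((h : G) * c * (h : G)⁻¹)⁻¹ := by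
              rw [hzh]
          _ = (h : G) * (c * z * c⁻¹) * (h : G)⁻¹ := by group
          _ = _ := by rw [hc1])
      (by
        show (h : G) * c * (h : G)⁻¹ * ((h : G) * τ * (h : G)⁻¹) * _ = (h : G) * τ * (h : G)⁻¹ * z
        calc (h : G) * c * (h : G)⁻¹ * ((h : G) * τ * (h : G)⁻¹) * ((h : G) * c * (h : G)⁻¹)⁻¹
            = (h : G) * (c * τ * c⁻¹) * (h : G)⁻¹ := by group
          _ = (h : G) * τ * (h : G)⁻¹ * ((h : G) * z * (h : G)⁻¹) := by rw [hc2]; group
          _ = _ := by rw [hzh])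
      (by
        show (h : G) * c * (h : G)⁻¹ * ((h : G) * τ * (h : G)⁻¹ * z) * _ = z
        calc (h : G) * c * (h : G)⁻¹ * ((h : G) * τ * (h : G)⁻¹ * z) * ((h : G) * c * (h : G)⁻¹)⁻¹
            = (h : G) * c * (h : G)⁻¹ * ((h : G) * τ * (h : G)⁻¹ * ((h : G) * z * (h : G)⁻¹)) *
              ((h : G) * c * (h : G)⁻¹)⁻¹ := by rw [hzh]
          _ = (h : G) * (c * (τ * z) * c⁻¹) * (h : G)⁻¹ := by group
          _ = z := by rw [hc3, hzh])
    haveI : Finite ↥Spor.McL := Finite.of_equiv _ e.toEquiv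
    refine AltDouble.Ten.false_ten hz (zc := ⟨z, hzmem⟩) rfl hc S2132.result.1 ?_ McLType.exists_outer
      S2073.result hh (Involutions.Basic.inv_sq_one hτ'2) ?_ hdV hdD _ rfl e
    · intro x hx
      obtain ⟨h1, t, ht, hcovt⟩ := S2132.result
      obtain ⟨k, hk⟩ := isConj_iff.1 (h1 t x ht hx)
      rw [← McLType.card_of_cover hcovt, ← hk]
      have hF : ∀ y : Subgroup.centralizer ({t} : Set ↥Spor.McL),
          k * y.1 * k⁻¹ ∈ Subgroup.centralizer ({k * t * k⁻¹} : Set ↥Spor.McL) := fun y => by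
        refine Subgroup.mem_centralizer_singleton_iff.2 ?_
        calc k * y.1 * k⁻¹ * (k * t * k⁻¹) = k * (y.1 * t) * k⁻¹ := by group
          _ = k * (t * y.1) * k⁻¹ := by rw [Subgroup.mem_centralizer_singleton_iff.1 y.2]
          _ = k * t * k⁻¹ * (k * y.1 * k⁻¹) := by group
      have hF' : ∀ y : Subgroup.centralizer ({k * t * k⁻¹} : Set ↥Spor.McL),
          k⁻¹ * y.1 * k ∈ Subgroup.centralizer ({t} : Set ↥Spor.McL) := fun y => by
        refine Subgroup.mem_centralizer_singleton_iff.2 ?_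
        calc k⁻¹ * y.1 * k * t = k⁻¹ * (y.1 * (k * t * k⁻¹)) * k := by group
          _ = k⁻¹ * ((k * t * k⁻¹) * y.1) * k := by rw [Subgroup.mem_centralizer_singleton_iff.1 y.2]
          _ = t * (k⁻¹ * y.1 * k) := by group
      exact (Nat.card_congr
        { toFun := fun y => ⟨_, hF y⟩
          invFun := fun y => ⟨_, hF' y⟩
          left_inv := fun y => Subtype.ext (by simp [mul_assoc])
          right_inv := fun y => Subtype.ext (by simp [mul_assoc]) }).symm
    · obtain ⟨hpos, hdvd⟩ := AltDouble.eight_of_involution hc (by norm_num) hτ'2 hτ'z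
      have := Nat.le_of_dvd hpos hdvd
      omega

end Cfsg.Agent.S1645
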