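import Cfsg.Statements.S1663
import Cfsg.Agent.Lib.M22Order.Local
import Cfsg.Agent.Lib.M22Order.Identify
import Cfsg.Agent.Lib.M22Order.Graph
import Cfsg.Agent.Lib.Golay.M22Involution
import Cfsg.Agent.Lib.Golay.M22TwoBlock

set_option autoImplicit false
open Cfsg

namespace Cfsg.Agent.S1663

/-- The Mathieu group of degree 22 is determined by its order: a finite simple group of order 443520 is isomorphic to the concrete M₂₂ (a two-point stabiliser in the group of the length-24 Golay code). -/
theorem result {G : Type*} [Group G] [Finite G] (hG : Cfsg.IsM22 G) : Cfsg.Spor.IsoM22 G := by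
  obtain ⟨hsimple, hcard⟩ := hG
  haveI := hsimple
  haveI : IsSimpleGroup Cfsg.Spor.M22 := Cfsg.Agent.Golay.M22TwoBlock.isSimple
  have hM : Nat.card Cfsg.Spor.M22 = 443520 := Cfsg.Agent.Golay.M22Involution.card_M22
  obtain ⟨F⟩ := Cfsg.Agent.M22Order.exists_frame hcard
  obtain ⟨F'⟩ := Cfsg.Agent.M22Order.exists_frame hM
  obtain ⟨f, hf⟩ := Cfsg.Agent.M22Order.exists_hom_aut hcard F
  obtain ⟨g, hg⟩ := Cfsg.Agent.M22Order.exists_hom_aut hM F'
  exact Cfsg.Agent.M22Order.nonempty_mulEquiv_of_aut hcard hM f g hf hg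

end Cfsg.Agent.S1663
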