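import Cfsg.Statements.S1664
import Cfsg.Agent.Lib.M23Order.Final
import Cfsg.Agent.Lib.Golay.MultBig
import Cfsg.Agent.S0377

set_option autoImplicit false
open Cfsg

namespace Cfsg.Agent.S1664

/-- The Mathieu group of degree 23 is determined by its order: a finite simple group of order 10200960 is isomorphic to the concrete M₂₃ (a point stabiliser in the group of the length-24 Golay code). -/
theorem result {G : Type*} [Group G] [Finite G] (hG : Cfsg.IsM23 G) : Cfsg.Spor.IsoM23 G := by
  obtain ⟨hsimple, hcard⟩ := hG
  haveI := hsimple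
  have hst : Nonempty (↥Cfsg.Spor.M23 ≃* MulAction.stabilizer Cfsg.M24 (none : GolayPt)) :=
    ⟨(MulEquiv.subgroupCongr (show Cfsg.Spor.M23 = (MulAction.stabilizer Cfsg.M24 (none : GolayPt)).map
        Cfsg.M24.subtype by
      ext g
      simp [Cfsg.Spor.M23, MulAction.mem_stabilizer_iff, and_comm])).trans
      ((MulAction.stabilizer Cfsg.M24 (none : GolayPt)).equivMapOfInjective _
        Cfsg.M24.subtype_injective).symm⟩
  haveI : IsSimpleGroup Cfsg.Spor.M23 := by
    obtain ⟨e⟩ := hst
    haveI := Cfsg.Agent.S0377.result (none : GolayPt)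
    exact e.isSimpleGroup_congr.2 inferInstance
  exact Cfsg.Agent.M23Order.nonempty_mulEquiv_of_order hcard Cfsg.Agent.Golay.MultBig.card_M23'

end Cfsg.Agent.S1664
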