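import Cfsg.Statements.S1678
import Cfsg.Agent.Lib.Co3Type.EndWit
import Cfsg.Agent.Lib.Co3Type.Top
-- import your own Cfsg.Agent.* helpers here

set_option autoImplicit false
open Cfsg

namespace Cfsg.Agent.S1678

/-- The third Conway group from an involution centraliser: let G be a finite group with no non-trivial normal subgroup of odd order and trivial centre, having an involution t whose centraliser is a non-split double cover of the symplectic group Sp(6, 2). Then G is isomorphic to the third Conway group (the stabiliser in the Leech lattice automorphism group of a vector of the second shortest length). -/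
theorem result {G : Type*} [Group G] [Finite G] (hO : Cfsg.oddCore G = ⊥) (hZ : Subgroup.center G = ⊥) (t : G) (ht : orderOf t = 2) (hC : Cfsg.IsNonsplitDoubleCover (Subgroup.centralizer ({t} : Set G)) (Matrix.symplecticGroup (Fin 3) (ZMod 2))) : Cfsg.Spor.IsoCo3 G := by
  open Cfsg.Agent.Co3Type in
  obtain ⟨φ, S⟩ := exists_setting ht hC
  have hne : Subgroup.centralizer ({t} : Set G) ⊔ Cfsg.oddCore G ≠ ⊤ := by
    rw [hO, sup_bot_eq]
    intro e
    have : t ∈ Subgroup.center G := Subgroup.mem_center_iff.2 fun g =>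
      Subgroup.mem_centralizer_singleton_iff.1 (e ▸ Subgroup.mem_top g)
    rw [hZ, Subgroup.mem_bot] at this
    rw [this, orderOf_one] at ht
    omega
  haveI : Fact (Nat.Prime 2) := ⟨Nat.prime_two⟩
  have hx : ∃ x : G, Commute (x * t * x⁻¹) t ∧ x * t * x⁻¹ ≠ t := by
    by_contra hcon
    push Not at hcon
    refine hne ?_
    rw [sup_comm]
    exact Cfsg.Agent.ZStar.InvariantSylow.oddCore_sup_centralizer ⟨ht, fun g hg => hcon g hg.symm⟩
  obtain ⟨c, c1, c2, -⟩ := S.exists_cycle hx
  have hcyc : Cfsg.Agent.Co3Type.Cyc φ c := ⟨by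
      rw [Cfsg.Agent.Co3Type.Sends, S.t_eq, c1, Cfsg.Agent.Co3Type.base_eqs.1], by
      rw [Cfsg.Agent.Co3Type.Sends, Cfsg.Agent.Co3Type.Model.el_1260, c2, S.t_eq]⟩
  obtain ⟨c', hconf⟩ := S.exists_conf hcyc
  have hcyc' := S.act_cyc (c := c') (v := 0) (by norm_num) hconf.act
  obtain ⟨M, D, ⟨e⟩⟩ := S.endData hcyc' hconf
  have hM : M = ⊤ := Cfsg.Agent.Co3Type.eq_top ht hC D
  subst hM
  exact ⟨(Subgroup.topEquiv.symm).trans e.symm⟩

end Cfsg.Agent.S1678
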