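import Cfsg.Statements.S1685
import Cfsg.Agent.InvChar.Coset.Fi22Order
-- import your own Cfsg.Agent.* helpers here

set_option autoImplicit false
open Cfsg

namespace Cfsg.Agent.S1685

/-- In the presented Fischer group Fi₂₂ (generators a, …, i), the subgroup generated by the images of b, c, d, e, f, g, h, i has index 14080. -/
theorem result : (((Subgroup.closure ({Cfsg.Spor.Fi22.b, Cfsg.Spor.Fi22.c, Cfsg.Spor.Fi22.d, Cfsg.Spor.Fi22.e, Cfsg.Spor.Fi22.f, Cfsg.Spor.Fi22.g, Cfsg.Spor.Fi22.h, Cfsg.Spor.Fi22.i} : Set (FreeGroup Cfsg.Spor.Fi22.Gen))).map (PresentedGroup.mk (Cfsg.Spor.coxRelators Cfsg.Spor.Fi22.edges ∪ {r | r ∈ Cfsg.Spor.Fi22.extra})))).index = 14080 := by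
  rw [← InvChar.Coset.Fi22B.index_sub]
  congr 1
  rw [MonoidHom.map_closure]
  unfold CosetCert.subg
  congr 1
  ext p
  simp [CosetCert.CoxData.gen, InvChar.Coset.Fi22B.data, InvChar.Coset.Fi22B.ofIdx, InvChar.Coset.Fi22B.table, InvChar.Coset.Fi22B.cert,
    Cfsg.Spor.Fi22.b, Cfsg.Spor.Fi22.c, Cfsg.Spor.Fi22.d, Cfsg.Spor.Fi22.e, Cfsg.Spor.Fi22.f, Cfsg.Spor.Fi22.g, Cfsg.Spor.Fi22.h, Cfsg.Spor.Fi22.i, PresentedGroup.of, eq_comm]

end Cfsg.Agent.S1685
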