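import Cfsg.Statements.S1691
import Mathlib

set_option autoImplicit false
open Cfsg

namespace Cfsg.Agent.S1691

open Cfsg.Spor

theorem edge_eq {A : Type*} [CommGroup A] (f : Cfsg.Spor.Fi24 →* A) {x y : Fi24.Gen}
    (hx : x ∈ coxNodes Fi24.edges) (hy : y ∈ coxNodes Fi24.edges)
    (h : coxLabel Fi24.edges x y = 3) : f (PresentedGroup.of x) = f (PresentedGroup.of y) := by
  have key : ∀ a ∈ coxNodes Fi24.edges, ∀ b ∈ coxNodes Fi24.edges,
      (f (PresentedGroup.of a) * f (PresentedGroup.of b)) ^ coxLabel Fi24.edges a b = 1 := by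
    intro a ha b hb
    have h1 : PresentedGroup.mk (coxRelators Fi24.edges ∪ {r | r ∈ Fi24.extra})
        ((FreeGroup.of a * FreeGroup.of b) ^ coxLabel Fi24.edges a b) = 1 :=
      PresentedGroup.one_of_mem (Or.inl ⟨a, ha, b, hb, rfl⟩)
    have h2 := congrArg f h1
    rw [map_pow, map_mul, map_pow, map_mul, map_one] at h2
    exact h2
  have hxx := key x hx x hx
  have hyy := key y hy y hy
  have hxy := key x hx y hy
  simp only [coxLabel, if_pos, pow_one] at hxx hyy
  rw [h, mul_pow] at hxy
  have e : ∀ a : A, a * a = 1 → a ^ 3 = a := fun a ha => by rw [pow_succ, sq, ha, one_mul]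
  rw [e _ hxx, e _ hyy] at hxy
  exact mul_right_cancel (hxy.trans hyy.symm)

/-- The commutator subgroup of the presented group Fi₂₄ has index 2 (the presented group is Fi₂₄′:2 with Fi₂₄′ its derived subgroup). -/
theorem result : (commutator Cfsg.Spor.Fi24).index = 2 := by
  let φ : Cfsg.Spor.Fi24 →* Multiplicative (ZMod 2) :=
    PresentedGroup.toGroup (f := fun _ => Multiplicative.ofAdd (1 : ZMod 2)) (by
      rintro r (⟨x, -, y, -, rfl⟩ | hr)
      · simp only [map_pow, map_mul, FreeGroup.lift_apply_of]
        rw [show Multiplicative.ofAdd (1 : ZMod 2) * Multiplicative.ofAdd (1 : ZMod 2) = 1 by decide,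
          one_pow]
      · simp only [Set.mem_setOf_eq, Fi24.extra, List.mem_cons, List.not_mem_nil, or_false] at hr
        rcases hr with rfl | rfl
        · simp only [Fi24.l, Fi24.a, Fi24.b, Fi24.c, Fi24.d, Fi24.e, Fi24.f, Fi24.h,
            map_pow, map_mul, map_inv, FreeGroup.lift_apply_of]
          decide
        · simp only [Fi24.l, Fi24.k, Fi24.a, Fi24.b, Fi24.c, Fi24.d, Fi24.e, Fi24.f, Fi24.g, Fi24.j,
            Fi24.h, Fi24.i, map_pow, map_mul, FreeGroup.lift_apply_of]
          decide)
  let ab : Cfsg.Spor.Fi24 →* Abelianization Cfsg.Spor.Fi24 := Abelianization.of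
  let g0 := ab (PresentedGroup.of Fi24.Gen.d)
  have hgen : ∀ x : Fi24.Gen, ab (PresentedGroup.of x) = g0 := by
    have E := fun x y => @edge_eq _ _ ab x y
    have hc := E .c .d (by decide) (by decide) (by decide)
    have hb := E .b .c (by decide) (by decide) (by decide)
    have ha := E .a .b (by decide) (by decide) (by decide)
    have hk := E .k .a (by decide) (by decide) (by decide)
    have hl := E .l .k (by decide) (by decide) (by decide)
    have he := E .e .d (by decide) (by decide) (by decide)
    have hf := E .f .e (by decide) (by decide) (by decide)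
    have hg := E .g .f (by decide) (by decide) (by decide)
    have hj := E .j .g (by decide) (by decide) (by decide)
    have hh := E .h .d (by decide) (by decide) (by decide)
    have hi := E .i .h (by decide) (by decide) (by decide)
    intro x
    cases x <;> simp only [g0, hc, hb, ha, hk, hl, he, hf, hg, hj, hh, hi]
  have htop : ∀ q : Abelianization Cfsg.Spor.Fi24, q ∈ Subgroup.zpowers g0 := by
    intro q
    obtain ⟨y, rfl⟩ := QuotientGroup.mk_surjective q
    induction y using PresentedGroup.induction_on with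
    | _ w =>
      have h : (Subgroup.zpowers g0).comap (ab.comp (PresentedGroup.mk _)) = ⊤ := by
        rw [eq_top_iff, ← FreeGroup.closure_range_of, Subgroup.closure_le]
        rintro _ ⟨x, rfl⟩
        exact (hgen x).symm ▸ Subgroup.mem_zpowers g0
      exact (h ▸ Subgroup.mem_top w : w ∈ (Subgroup.zpowers g0).comap (ab.comp (PresentedGroup.mk _)))
  have hsq : g0 * g0 = 1 := by
    have h1 := PresentedGroup.one_of_mem
      (rels := coxRelators Fi24.edges ∪ {r | r ∈ Fi24.extra})
      (x := (FreeGroup.of Fi24.Gen.d * FreeGroup.of Fi24.Gen.d) ^ coxLabel Fi24.edges .d .d)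
      (Or.inl ⟨.d, by decide, .d, by decide, rfl⟩)
    have h2 := congrArg ab h1
    simp only [coxLabel, if_pos, pow_one, map_mul, map_one] at h2
    exact h2
  have hsurj : Function.Surjective (Abelianization.lift φ) := by
    intro v
    rcases (show v = 1 ∨ v = Multiplicative.ofAdd (1 : ZMod 2) from by revert v; decide) with rfl | rfl
    · exact ⟨1, map_one _⟩
    · exact ⟨g0, by simp [g0, ab, φ]⟩
  have hfin : ∀ q : Abelianization Cfsg.Spor.Fi24, q = 1 ∨ q = g0 := by
    intro q
    obtain ⟨k, rfl⟩ := htop q
    rcases Int.even_or_odd k with ⟨r, rfl⟩ | ⟨r, rfl⟩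
    · left
      simp only
      rw [← two_mul, zpow_mul, zpow_ofNat, sq, hsq, one_zpow]
    · right
      simp only
      rw [zpow_add, zpow_mul, zpow_ofNat, sq, hsq, one_zpow, one_mul, zpow_one]
  have hne : g0 ≠ 1 := by
    intro h
    obtain ⟨q, hq⟩ := hsurj (Multiplicative.ofAdd (1 : ZMod 2))
    rcases hfin q with rfl | rfl
    · rw [map_one] at hq; revert hq; decide
    · rw [h, map_one] at hq; revert hq; decide
  show Nat.card (Abelianization Cfsg.Spor.Fi24) = 2
  refine (Nat.card_eq_two_iff).2 ⟨1, g0, hne.symm, ?_⟩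
  exact Set.eq_univ_of_forall fun q => by simpa using hfin q

end Cfsg.Agent.S1691
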