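import Cfsg.Statements.S1716
import Cfsg.Agent.Lib.HeLocal.Count.Main
import Cfsg.Agent.Lib.HeLocal.LinearCase
import Cfsg.Agent.Lib.HeLocal.Endgame
import Cfsg.Agent.Lib.HeLocal.End.OfEquiv
import Cfsg.Agent.Lib.HeLocal.End.Stab
import Cfsg.Agent.Lib.M24Recog.OfIso

set_option autoImplicit false
open Cfsg

namespace Cfsg.Agent.S1716

/-- Groups with the involution centraliser of SL(5, 2), at the level of isomorphism: let G be a finite group with an involution z whose centraliser is isomorphic to the centraliser of a transvection s of SL(5, 2), and suppose some conjugate of z different from z lies in O₂ of the centraliser of z. Then G is isomorphic to the stabiliser in SL(5, 2) of a non-zero vector of the natural module, or to SL(5, 2), or to the Mathieu group M₂₄, or to the presented Held group. -/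
theorem result {G : Type*} [Group G] [Finite G] (s : Matrix.SpecialLinearGroup (Fin 5) (ZMod 2)) (hs : (s : Matrix (Fin 5) (Fin 5) (ZMod 2)) = Matrix.transvection 0 1 1) (z : G) (hz : orderOf z = 2) (e : (Subgroup.centralizer ({z} : Set G)) ≃* Subgroup.centralizer ({s} : Set (Matrix.SpecialLinearGroup (Fin 5) (ZMod 2)))) (hnwc : ∃ g : G, (∃ hq : g * z * g⁻¹ ∈ Subgroup.centralizer ({z} : Set G), (⟨g * z * g⁻¹, hq⟩ : Subgroup.centralizer ({z} : Set G)) ∈ Cfsg.pCore 2 (Subgroup.centralizer ({z} : Set G))) ∧ g * z * g⁻¹ ≠ z) : (∃ v : Fin 5 → ZMod 2, v ≠ 0 ∧ Nonempty (G ≃* MulAction.stabilizer (Matrix.SpecialLinearGroup (Fin 5) (ZMod 2)) v)) ∨ Nonempty (G ≃* Matrix.SpecialLinearGroup (Fin 5) (ZMod 2)) ∨ Nonempty (G ≃* Cfsg.M24) ∨ Cfsg.Spor.IsoHe G := by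
  open Cfsg.Agent.HeLocal in
  obtain ⟨I⟩ := Iso.nonempty_ofEquiv s hs hz e
  rcases I.cases with h | ⟨h1, hle⟩ | ⟨h1, hle⟩ | S
  · exfalso
    obtain ⟨g, ⟨hq, -⟩, hne⟩ := hnwc
    obtain ⟨m, hm⟩ := I.exists_ι (Subgroup.mem_centralizer_singleton_iff.1 hq)
    have hmz : I.ZType m := isConj_iff.2 ⟨g, hm.symm⟩
    rw [h m hmz, I.ι_zc] at hm
    exact hne hm.symm
  · exact Or.inl (I.stab_of_side h1 hle)
  · exact Or.inl (I.swap.stab_of_side h1 hle)
  · rcases I.card_trichotomy S with ⟨⟨h6, -⟩, hG⟩ | ⟨h67, hG⟩ | hT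
    · exact Or.inr (Or.inl (I.nonempty_SL S.one h6 hG))
    · refine Or.inr (Or.inr (Or.inl ?_))
      rcases h67 with ⟨h6, h7⟩ | ⟨h7, h6⟩
      · exact I.swap.nonempty_equiv_M24 (I.swap_sides S) ((I.swap_zType (show 7 < 8 by norm_num)).2 h6)
          (fun h => h7 ((I.swap_zType (show 6 < 8 by norm_num)).1 h)) hG
      · exact I.nonempty_equiv_M24 S h7 h6 hG
    · obtain ⟨T⟩ := hT
      exact Or.inr (Or.inr (Or.inr T.isoHe))

end Cfsg.Agent.S1716
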