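import Cfsg.Statements.S3208
import Mathlib

set_option autoImplicit false
open Cfsg

namespace Cfsg.Agent.S3208

/-- Let j be an involution of a finite group G, H a subgroup of G, and T a Sylow 2-subgroup of H ∩ C_G(j) containing j such that ⟨j⟩ is a characteristic subgroup of T. Then T is a Sylow 2-subgroup of H. -/
theorem result {G : Type*} [Group G] [Finite G]
    (j : G) (hj : orderOf j = 2) (H T : Subgroup G) (hT : T ≤ H ⊓ Subgroup.centralizer ({j} : Set G)) (h2 : IsPGroup 2 ↥T)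
    (hSyl : ¬ 2 ∣ T.relIndex (H ⊓ Subgroup.centralizer ({j} : Set G))) (hjT : j ∈ T)
    (hchar : ((Subgroup.zpowers j).subgroupOf T).Characteristic) :
    ¬ 2 ∣ T.relIndex H := by
  have hTH : T ≤ H := hT.trans inf_le_left
  obtain ⟨Q, hQ⟩ := IsPGroup.exists_le_sylow (p := 2) (P := T.subgroupOf H) (h2.comap_subtype (K := H))
  suffices heq : T.subgroupOf H = (Q : Subgroup ↥H) by
    rw [Subgroup.relIndex, heq]
    exact Sylow.not_dvd_index Q
  by_contra hne
  have hlt : (T.subgroupOf H).subgroupOf (Q : Subgroup ↥H) < ⊤ :=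
    lt_top_iff_ne_top.2 fun h => hne (le_antisymm hQ (Subgroup.subgroupOf_eq_top.1 h))
  have := Q.2.isNilpotent
  obtain ⟨n, hn, hn'⟩ := SetLike.exists_of_lt (Group.normalizerCondition_of_isNilpotent _ hlt)
  have hnT : ∀ a : G, a ∈ T ↔ (n : G) * a * (n : G)⁻¹ ∈ T := by
    intro a
    constructor
    · intro ha
      have haQ : (⟨a, hTH ha⟩ : ↥H) ∈ (Q : Subgroup ↥H) := hQ ha
      exact (Subgroup.mem_normalizer_iff.1 hn ⟨⟨a, hTH ha⟩, haQ⟩).1 ha
    · intro ha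
      have haH : a ∈ H := by
        have := mul_mem (mul_mem (inv_mem (n : ↥H).2) (hTH ha)) (n : ↥H).2
        simpa [mul_assoc] using this
      have haQ : (⟨a, haH⟩ : ↥H) ∈ (Q : Subgroup ↥H) := by
        have h4 : (n : ↥H) * ⟨a, haH⟩ * (n : ↥H)⁻¹ ∈ (Q : Subgroup ↥H) := hQ ha
        have := mul_mem (mul_mem (inv_mem n.2) h4) n.2
        simpa [mul_assoc] using this
      exact (Subgroup.mem_normalizer_iff.1 hn ⟨⟨a, haH⟩, haQ⟩).2 ha
  let φ : ↥T ≃* ↥T :=
    { toFun := fun a => ⟨_, (hnT a).1 a.2⟩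
      invFun := fun a => ⟨((n : G))⁻¹ * a * (n : G), (hnT _).2 (by simp [mul_assoc])⟩
      left_inv := fun a => Subtype.ext (by simp [mul_assoc])
      right_inv := fun a => Subtype.ext (by simp [mul_assoc])
      map_mul' := fun a b => Subtype.ext (by simp [mul_assoc]) }
  have hnj : (n : G) * j * (n : G)⁻¹ = j := by
    have h4 : φ ⟨j, hjT⟩ ∈ (Subgroup.zpowers j).subgroupOf T := by
      rw [← Subgroup.characteristic_iff_map_eq.1 hchar φ]
      exact ⟨⟨j, hjT⟩, Subgroup.mem_zpowers j, rfl⟩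
    have hne1 : (n : G) * j * (n : G)⁻¹ ≠ 1 := by
      intro h; rw [conj_eq_one_iff] at h; rw [h, orderOf_one] at hj; omega
    obtain ⟨i, hi⟩ : (n : G) * j * (n : G)⁻¹ ∈ Subgroup.zpowers j := h4
    rcases Int.even_or_odd i with ⟨r, hr⟩ | ⟨r, hr⟩
    · refine absurd ?_ hne1
      rw [← hi]
      simp only
      rw [hr, ← two_mul, zpow_mul, zpow_ofNat, (orderOf_eq_prime_iff.1 hj).1, one_zpow]
    · rw [← hi]
      simp only
      rw [hr, zpow_add, zpow_mul, zpow_ofNat, (orderOf_eq_prime_iff.1 hj).1, one_zpow, one_mul,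
        zpow_one]
  have hnC : (n : G) ∈ H ⊓ Subgroup.centralizer ({j} : Set G) :=
    ⟨(n : ↥H).2, Subgroup.mem_centralizer_singleton_iff.2 (mul_inv_eq_iff_eq_mul.1 hnj)⟩
  -- the 2-group `Q ⊓ C(j)` lies in `T`
  have hp : IsPGroup 2 ↥((H ⊓ Subgroup.centralizer ({j} : Set G)) ⊓ (Q : Subgroup ↥H).map H.subtype) :=
    (Q.2.map H.subtype).to_le inf_le_right
  set U := (H ⊓ Subgroup.centralizer ({j} : Set G)) ⊓ (Q : Subgroup ↥H).map H.subtype with hU
  have hTU : T ≤ U := fun a ha => ⟨hT ha, ⟨⟨a, hTH ha⟩, hQ ha, rfl⟩⟩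
  obtain ⟨k, hk⟩ := (IsPGroup.iff_card.1 hp)
  have hd : T.relIndex U ∣ T.relIndex (H ⊓ Subgroup.centralizer ({j} : Set G)) :=
    ⟨_, (Subgroup.relIndex_mul_relIndex T U _ hTU inf_le_left).symm⟩
  have h1 : T.relIndex U = 1 := by
    obtain ⟨i, -, hi⟩ := (Nat.dvd_prime_pow Nat.prime_two).1 (hk ▸ Subgroup.relIndex_dvd_card T U)
    rcases i with _ | i
    · simpa using hi
    · exact absurd ((hi ▸ dvd_pow_self 2 (Nat.succ_ne_zero i) : 2 ∣ T.relIndex U).trans hd) hSyl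
  exact hn' (Subgroup.relIndex_eq_one.1 h1 ⟨hnC, ⟨(n : ↥H), n.2, rfl⟩⟩)

end Cfsg.Agent.S3208
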