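import Cfsg.Statements.S1717
import Mathlib
import Cfsg.Agent.S3208

set_option linter.all false

set_option autoImplicit false
open Cfsg

namespace Cfsg.Agent.S1717

abbrev M5 := Matrix (Fin 5) (Fin 5) (ZMod 2)
abbrev SL5 := Matrix.SpecialLinearGroup (Fin 5) (ZMod 2)

/-- position in the ordering 0 < 2 < 3 < 4 < 1 -/
def rk : Fin 5 → ℕ := ![0, 4, 1, 2, 3]

def tv (a b : Fin 5) (h : a ≠ b) : SL5 :=
  ⟨Matrix.transvection a b 1, Matrix.det_transvection_of_ne a b h 1⟩

def gens : Set SL5 := {tv 0 2 (by decide), tv 2 3 (by decide), tv 3 4 (by decide), tv 4 1 (by decide)}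

def Tri (g : M5) : Prop := ∀ i j, rk j ≤ rk i → g i j = (1 : M5) i j

theorem tri_mul {g h : M5} (hg : Tri g) (hh : Tri h) : Tri (g * h) := by
  intro i j hij
  rw [Matrix.mul_apply]
  rw [Finset.sum_eq_single i]
  · rw [hg i i le_rfl, hh i j hij, Matrix.one_apply_eq, one_mul]
  · intro l _ hl
    rcases le_or_gt (rk l) (rk i) with h1 | h1
    · rw [hg i l h1, Matrix.one_apply_ne (Ne.symm hl), zero_mul]
    · rw [hh l j (hij.trans h1.le), Matrix.one_apply_ne, mul_zero]
      intro e; subst e; omega
  · simp

theorem tri_one : Tri (1 : M5) := fun _ _ _ => rfl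

theorem tri_pow {g : M5} (hg : Tri g) (n : ℕ) : Tri (g ^ n) := by
  induction n with
  | zero => simpa using tri_one
  | succ n ih => rw [pow_succ]; exact tri_mul ih hg

theorem sub_pow_zero {N : M5} (hN : ∀ i j, rk j < rk i + 1 → N i j = 0) (k : ℕ) :
    ∀ i j, rk j < rk i + k → (N ^ k) i j = 0 := by
  induction k with
  | zero =>
    intro i j h
    rw [pow_zero, Matrix.one_apply_ne]
    intro e; subst e; omega
  | succ k ih =>
    intro i j h
    rw [pow_succ, Matrix.mul_apply]
    refine Finset.sum_eq_zero (fun l _ => ?_)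
    rcases lt_or_ge (rk l) (rk i + k) with h1 | h1
    · rw [ih i l h1, zero_mul]
    · rw [hN l j (by omega), mul_zero]

theorem tri_pow_eight {g : M5} (hg : Tri g) : g ^ (2 ^ 3) = 1 := by
  have hN : (g - 1) ^ (2 ^ 3) = 0 := by
    ext i j
    refine sub_pow_zero (fun a b h => ?_) (2 ^ 3) i j ?_
    · rw [Matrix.sub_apply, hg a b (by omega), sub_self]
    · have : ∀ j : Fin 5, rk j < 8 := by decide
      have := this j
      omega
  have h := add_pow_expChar_pow_of_commute 2 3 (Commute.one_right (g - 1))
  rw [sub_add_cancel, hN, one_pow, zero_add] at h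
  exact h

theorem tri_tv {a b : Fin 5} (h : rk a < rk b) : Tri (Matrix.transvection a b 1) := by
  intro i j hij
  rw [Matrix.transvection, Matrix.add_apply, Matrix.single_apply_of_ne, add_zero]
  rintro ⟨rfl, rfl⟩; omega

theorem tri_of_mem {g : SL5} (hg : g ∈ Subgroup.closure gens) : Tri (g : M5) := by
  rw [← Subgroup.mem_toSubmonoid, Subgroup.closure_toSubmonoid_of_finite] at hg
  induction hg using Submonoid.closure_induction with
  | mem x hx =>
    rcases hx with rfl | rfl | rfl | rfl <;> exact tri_tv (by decide)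
  | one => exact tri_one
  | mul x y _ _ hx hy => rw [Matrix.SpecialLinearGroup.coe_mul]; exact tri_mul hx hy

theorem isPGroup_gens : IsPGroup 2 ↥(Subgroup.closure gens) := by
  intro g
  refine ⟨3, Subtype.ext (Subtype.ext ?_)⟩
  rw [Subgroup.coe_pow, Matrix.SpecialLinearGroup.coe_pow]
  exact tri_pow_eight (tri_of_mem g.2)

theorem transvection_eq (a b : Fin 5) : Matrix.transvection a b (1 : ZMod 2) = 1 + Matrix.single a b 1 :=
  rfl

theorem entries {g : M5} {a b : Fin 5} (h : g * Matrix.transvection a b 1 = Matrix.transvection a b 1 * g) :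
    ∀ i j, (if j = b then g i a else 0) = (if i = a then g b j else 0) := by
  intro i j
  have h2 : g * Matrix.single a b 1 = Matrix.single a b 1 * g := by
    rw [transvection_eq, mul_add, add_mul, mul_one, one_mul] at h
    exact add_left_cancel h
  have h3 := congrFun (congrFun h2 i) j
  by_cases hj : j = b <;> by_cases hi : i = a
  · subst hj hi; simpa using h3
  · subst hj; simpa [hi] using h3
  · subst hi; simpa [hj] using h3
  · simp [hi, hj]

theorem centre_gens {g : SL5} (h : ∀ x ∈ gens, g * x = x * g) :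
    (g : M5) = 1 ∨ (g : M5) = Matrix.transvection 0 1 1 := by
  have hx : ∀ a b (hab : a ≠ b), tv a b hab ∈ gens → ∀ i j,
      (if j = b then (g : M5) i a else 0) = (if i = a then (g : M5) b j else 0) := fun a b hab hm =>
    entries (congrArg Subtype.val (h _ hm))
  have e1 := hx 0 2 (by decide) (Or.inl rfl)
  have e2 := hx 2 3 (by decide) (Or.inr (Or.inl rfl))
  have e3 := hx 3 4 (by decide) (Or.inr (Or.inr (Or.inl rfl)))
  have e4 := hx 4 1 (by decide) (Or.inr (Or.inr (Or.inr rfl)))
  have hdiag : ∀ i, (g : M5) i i = (g : M5) 0 0 := by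
    have a1 := e1 0 2; have a2 := e2 2 3; have a3 := e3 3 4; have a4 := e4 4 1
    simp at a1 a2 a3 a4
    intro i; fin_cases i
    · rfl
    · exact (a4.symm.trans (a3.symm.trans (a2.symm.trans a1.symm)))
    · exact a1.symm
    · exact a2.symm.trans a1.symm
    · exact a3.symm.trans (a2.symm.trans a1.symm)
  have hoff : ∀ i j, i ≠ j → (i, j) ≠ ((0 : Fin 5), (1 : Fin 5)) → (g : M5) i j = 0 := by
    intro i j hij hne
    fin_cases j
    · simpa [show i ≠ (0 : Fin 5) from hij] using e1 i 2
    · -- column 1 : row 2, 3, 4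
      fin_cases i
      · exact absurd rfl hne
      · exact absurd rfl hij
      · simpa using (e1 0 1).symm
      · simpa using (e2 2 1).symm
      · simpa using (e3 3 1).symm
    · simpa [show i ≠ (2 : Fin 5) from hij] using e2 i 3
    · simpa [show i ≠ (3 : Fin 5) from hij] using e3 i 4
    · simpa [show i ≠ (4 : Fin 5) from hij] using e4 i 1
  have h00 : (g : M5) 0 0 = 1 := by
    rcases (by decide : ∀ x : ZMod 2, x = 0 ∨ x = 1) ((g : M5) 0 0) with h0 | h0
    · exfalso
      have hz : ∀ j, (g : M5) 1 j = 0 := by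
        intro j
        by_cases hj : (1 : Fin 5) = j
        · subst hj; rw [hdiag, h0]
        · exact hoff 1 j hj (by simp)
      have := Matrix.det_eq_zero_of_row_eq_zero 1 hz
      rw [g.2] at this
      exact one_ne_zero this
    · exact h0
  rcases (by decide : ∀ x : ZMod 2, x = 0 ∨ x = 1) ((g : M5) 0 1) with h1 | h1
  · left
    ext i j
    by_cases hij : i = j
    · subst hij; rw [hdiag, h00, Matrix.one_apply_eq]
    · rw [Matrix.one_apply_ne hij]
      by_cases hne : (i, j) = ((0 : Fin 5), (1 : Fin 5))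
      · rw [Prod.mk.injEq] at hne; rw [hne.1, hne.2, h1]
      · exact hoff i j hij hne
  · right
    ext i j
    rw [transvection_eq, Matrix.add_apply]
    by_cases hij : i = j
    · subst hij
      rw [hdiag, h00, Matrix.one_apply_eq, Matrix.single_apply_of_ne]
      · simp
      · rintro ⟨rfl, h2⟩; exact absurd h2 (by decide)
    · rw [Matrix.one_apply_ne hij, zero_add]
      by_cases hne : (i, j) = ((0 : Fin 5), (1 : Fin 5))
      · rw [Prod.mk.injEq] at hne; rw [hne.1, hne.2, h1, Matrix.single_apply_same]
      · rw [hoff i j hij hne, Matrix.single_apply_of_ne]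
        rintro ⟨rfl, rfl⟩; exact hne rfl

theorem gens_le (s : SL5) (hs : (s : M5) = Matrix.transvection 0 1 1) :
    Subgroup.closure gens ≤ Subgroup.centralizer ({s} : Set SL5) := by
  rw [Subgroup.closure_le]
  intro x hx
  rw [SetLike.mem_coe, Subgroup.mem_centralizer_singleton_iff]
  apply Subtype.ext
  rw [Matrix.SpecialLinearGroup.coe_mul, Matrix.SpecialLinearGroup.coe_mul, hs]
  have key : ∀ a b : Fin 5, a ≠ 1 → b ≠ 0 → Matrix.transvection a b (1 : ZMod 2) * Matrix.transvection 0 1 1
      = Matrix.transvection 0 1 1 * Matrix.transvection a b 1 := by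
    intro a b ha hb
    simp only [transvection_eq, mul_add, add_mul, mul_one, one_mul,
      Matrix.single_mul_single_of_ne _ _ _ _ hb, Matrix.single_mul_single_of_ne _ _ _ _ (Ne.symm ha)]
    abel
  rcases hx with rfl | rfl | rfl | rfl <;> exact key _ _ (by decide) (by decide)

theorem conj_comm {A : Type*} [Group A] (c x w : A) (h : x * w = w * x) :
    c * x * c⁻¹ * (c * w * c⁻¹) = c * w * c⁻¹ * (c * x * c⁻¹) := by
  calc c * x * c⁻¹ * (c * w * c⁻¹) = c * (x * w) * c⁻¹ := by group
    _ = c * (w * x) * c⁻¹ := by rw [h]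
    _ = _ := by group

theorem conj_centralizes {A : Type*} [Group A] {p : ℕ} [Fact p.Prime] (c : A) (P R : Sylow p A) (hc : c • P = R)
    (x : A) (hx : ∀ y ∈ (P : Subgroup A), x * y = y * x) :
    ∀ y ∈ (R : Subgroup A), (c * x * c⁻¹) * y = y * (c * x * c⁻¹) := by
  intro y hy
  rw [← hc, Sylow.coe_subgroup_smul] at hy
  obtain ⟨w, hw, rfl⟩ := hy
  exact conj_comm c x w (hx w hw)

theorem centre_sylow (s : SL5) (hs : (s : M5) = Matrix.transvection 0 1 1)
    (P : Sylow 2 (Subgroup.centralizer ({s} : Set SL5))) (x : Subgroup.centralizer ({s} : Set SL5))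
    (hx : ∀ y ∈ (P : Subgroup (Subgroup.centralizer ({s} : Set SL5))), x * y = y * x) :
    x = 1 ∨ (x : SL5) = s := by
  obtain ⟨R, hR⟩ := IsPGroup.exists_le_sylow (p := 2)
    (P := (Subgroup.closure gens).subgroupOf (Subgroup.centralizer ({s} : Set SL5)))
    (isPGroup_gens.comap_subtype)
  obtain ⟨c, hc⟩ := MulAction.exists_smul_eq (Subgroup.centralizer ({s} : Set SL5)) P R
  have key : ∀ y ∈ gens, ((c * x * c⁻¹ : Subgroup.centralizer ({s} : Set SL5)) : SL5) * y =
      y * ((c * x * c⁻¹ : Subgroup.centralizer ({s} : Set SL5)) : SL5) := by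
    intro y hy
    have hy' := gens_le s hs (Subgroup.subset_closure hy)
    have hyR : (⟨y, hy'⟩ : Subgroup.centralizer ({s} : Set SL5)) ∈
        (R : Subgroup (Subgroup.centralizer ({s} : Set SL5))) := hR (Subgroup.subset_closure hy)
    exact congrArg Subtype.val (conj_centralizes c P R hc x hx _ hyR)
  have hcs : (c : SL5) * s = s * (c : SL5) := Subgroup.mem_centralizer_singleton_iff.1 c.2
  rcases centre_gens key with h | h
  · left
    have h2 : c * x * c⁻¹ = 1 := Subtype.ext (Subtype.ext h)
    exact conj_eq_one_iff.1 h2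
  · right
    have h2 : ((c * x * c⁻¹ : Subgroup.centralizer ({s} : Set SL5)) : SL5) = s :=
      Subtype.ext (h.trans hs.symm)
    rw [Subgroup.coe_mul, Subgroup.coe_mul, Subgroup.coe_inv] at h2
    have h3 := mul_inv_eq_iff_eq_mul.1 h2
    rw [← hcs] at h3
    exact mul_left_cancel h3

theorem main {G : Type*} [Group G] [Finite G] (s : SL5)
    (hs : (s : M5) = Matrix.transvection 0 1 1) (z : G) (hz : orderOf z = 2) (C : Subgroup G)
    (hC : C = Subgroup.centralizer ({z} : Set G))
    (e : C ≃* Subgroup.centralizer ({s} : Set SL5)) (T : Sylow 2 C) :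
    ¬ 2 ∣ ((T : Subgroup C).map C.subtype).index := by
  classical
  have hzC : z ∈ C := hC ▸ Subgroup.mem_centralizer_singleton_iff.2 rfl
  set T' := (T : Subgroup C).map C.subtype with hT'
  have hzcen : ∀ c : C, c * ⟨z, hzC⟩ = ⟨z, hzC⟩ * c := fun c =>
    Subtype.ext (Subgroup.mem_centralizer_singleton_iff.1 ((SetLike.ext_iff.1 hC _).1 c.2))
  have hzT : (⟨z, hzC⟩ : C) ∈ (T : Subgroup C) := by
    have hp : IsPGroup 2 ↥(Subgroup.zpowers (⟨z, hzC⟩ : C)) :=
      IsPGroup.of_card (n := 1) (by rw [Nat.card_zpowers, ← Subgroup.orderOf_coe, pow_one]; exact hz)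
    haveI : (Subgroup.zpowers (⟨z, hzC⟩ : C)).Normal := by
      constructor
      intro n hn g
      obtain ⟨k, rfl⟩ := hn
      refine ⟨k, ?_⟩
      simp only
      rw [((Commute.zpow_right (show Commute g ⟨z, hzC⟩ from hzcen g) k)).eq, mul_inv_cancel_right]
    exact hp.le_sylow_of_normal T (Subgroup.mem_zpowers _)
  have hchar : ((Subgroup.zpowers z).subgroupOf T').Characteristic := by
    have heq : (Subgroup.zpowers z).subgroupOf T' = Subgroup.center ↥T' := by
      apply le_antisymm
      · rintro x ⟨k, hk⟩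
        rw [Subgroup.mem_center_iff]
        intro y
        apply Subtype.ext
        obtain ⟨_, y', hy', hyy⟩ := y
        subst hyy
        have h1 : Commute (y' : G) z := congrArg Subtype.val (hzcen y')
        have h2 := (h1.zpow_right k).eq
        simp only [] at hk
        rw [Subgroup.coe_mul, Subgroup.coe_mul]
        change (y' : G) * (T'.subtype x) = (T'.subtype x) * (y' : G)
        rw [← hk]
        exact h2
      · intro x hx
        obtain ⟨_, x', hx', hxx⟩ := x
        subst hxx
        have hcomm : ∀ y ∈ (T.mapSurjective (f := e.toMonoidHom) e.surjective : Subgroup _),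
            e x' * y = y * e x' := by
          rintro _ ⟨w, hw, rfl⟩
          have hw' : C.subtype w ∈ T' := ⟨w, hw, rfl⟩
          have h3 := congrArg Subtype.val ((Subgroup.mem_center_iff.1 hx) ⟨_, hw'⟩)
          have h4 : w * x' = x' * w := Subtype.ext h3
          change e x' * e w = e w * e x'
          rw [← map_mul, ← map_mul, h4]
        have hz2 : (e ⟨z, hzC⟩ : SL5) = s := by
          rcases centre_sylow s hs (T.mapSurjective (f := e.toMonoidHom) e.surjective) (e ⟨z, hzC⟩) (fun y _ => by
              obtain ⟨w, rfl⟩ := e.surjective y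
              rw [← map_mul, ← map_mul, ← hzcen w]) with h | h
          · exfalso
            rw [map_eq_one_iff e e.injective] at h
            have : z = 1 := congrArg Subtype.val h
            rw [this] at hz; simp at hz
          · exact h
        rcases centre_sylow s hs (T.mapSurjective (f := e.toMonoidHom) e.surjective) (e x') hcomm with h | h
        · have : x' = 1 := (map_eq_one_iff e e.injective).1 h
          subst this
          exact Subgroup.one_mem (Subgroup.zpowers z)
        · have : x' = ⟨z, hzC⟩ := e.injective (Subtype.ext (h.trans hz2.symm))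
          subst this
          exact Subgroup.mem_zpowers z
    rw [heq]
    infer_instance
  have hle : T' ≤ ⊤ ⊓ C := le_inf le_top (Subgroup.map_subtype_le _)
  have hSyl : ¬ 2 ∣ T'.relIndex (⊤ ⊓ C) := by
    rw [top_inf_eq, Subgroup.relIndex, hT', Subgroup.subgroupOf, Subgroup.comap_map_eq_self_of_injective C.subtype_injective]
    exact Sylow.not_dvd_index T
  have := Cfsg.Agent.S3208.result z hz ⊤ T' (hC ▸ hle) (T.2.map _) (hC ▸ hSyl) ⟨_, hzT, rfl⟩ hchar
  rwa [Subgroup.relIndex_top_right] at this

/-- Let G be a finite group with an involution z whose centraliser C is isomorphic to the centraliser of a transvection of SL(5, 2). Then a Sylow 2-subgroup of C, viewed in G, is a Sylow 2-subgroup of G (its index in G is odd). -/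
theorem result {G : Type*} [Group G] [Finite G] (s : Matrix.SpecialLinearGroup (Fin 5) (ZMod 2)) (hs : (s : Matrix (Fin 5) (Fin 5) (ZMod 2)) = Matrix.transvection 0 1 1) (z : G) (hz : orderOf z = 2) (e : (Subgroup.centralizer ({z} : Set G)) ≃* Subgroup.centralizer ({s} : Set (Matrix.SpecialLinearGroup (Fin 5) (ZMod 2)))) (T : Sylow 2 (Subgroup.centralizer ({z} : Set G))) : ¬ 2 ∣ ((T : Subgroup (Subgroup.centralizer ({z} : Set G))).map (Subgroup.subtype (Subgroup.centralizer ({z} : Set G)))).index := by
  exact main s hs z hz _ rfl e T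

end Cfsg.Agent.S1717
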