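-- Solution for statement S1743: involution classes with a Sylow 2-subgroup of type G₂(q), q odd.
import Cfsg.Statements.S1743
import Cfsg.Agent.Lib.G2Type.Fusion
import Cfsg.Agent.Lib.G2Type.Real

set_option autoImplicit false
open Cfsg

namespace Cfsg.Agent.S1743

/-- Let G be a finite simple group whose Sylow 2-subgroups are isomorphic to a Sylow 2-subgroup of the Chevalley group of type G₂ over a finite field of odd order, and let S be a Sylow 2-subgroup of G. Then either all involutions of G are conjugate, or S has order 64 and the involutions of G form exactly two conjugacy classes. -/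
theorem result {G : Type*} [Group G] [Finite G] [IsSimpleGroup G]
    {F : Type*} [Field F] [Fintype F] (hF : Odd (Fintype.card F)) (S : Sylow 2 G) (P : Sylow 2 ↥(Cfsg.Lie.chevG2.group F))
    (hS : Nonempty (↥(S : Subgroup G) ≃* ↥(P : Subgroup ↥(Cfsg.Lie.chevG2.group F)))) :
    (∀ x y : G, orderOf x = 2 → orderOf y = 2 → IsConj x y) ∨
      (Nat.card ↥(S : Subgroup G) = 64 ∧ ∃ x y : G, orderOf x = 2 ∧ orderOf y = 2 ∧ ¬ IsConj x y ∧
        ∀ z : G, orderOf z = 2 → IsConj z x ∨ IsConj z y) := by
  obtain ⟨e⟩ := hS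
  haveI : Fact (Nat.Prime 2) := ⟨Nat.prime_two⟩
  obtain ⟨k, hk0, ι, Q, hk, hi, hQ⟩ := Cfsg.Agent.G2Type.exists_sylow (F := F) hF
  have f : Cfsg.Agent.G2Type.Mdl (4 * k) ≃* ↥(S : Subgroup G) :=
    (((MonoidHom.ofInjective hi).trans (MulEquiv.subgroupCongr hQ)).trans (Q.equiv P)).trans e.symm
  set j := (S : Subgroup G).subtype.comp f.toMonoidHom with hj
  have hji : Function.Injective j := (S : Subgroup G).subtype_injective.comp f.injective
  have hjr : j.range = (S : Subgroup G) := by
    rw [hj, MonoidHom.range_comp, MonoidHom.range_eq_top.2 f.surjective, ← MonoidHom.range_eq_map,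
      Subgroup.range_subtype]
  rcases Cfsg.Agent.G2Type.Fusion.main j S hjr hji inferInstance hk with h | ⟨rfl, h⟩
  · exact Or.inl h
  · refine Or.inr ⟨?_, h⟩
    rw [← Nat.card_congr f.toEquiv, Cfsg.Agent.G2Type.Mdl.card_eq]
    norm_num

end Cfsg.Agent.S1743
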