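-- Solution for statement S1744: the centralizer of an involution, Sylow 2-subgroup of type G₂(q), q odd.
import Cfsg.Statements.S1744
import Cfsg.Agent.Lib.G2Cent.Main
import Cfsg.Agent.Lib.G2Type.Real

set_option autoImplicit false
open Cfsg

namespace Cfsg.Agent.S1744

/-- Let G be a finite simple group whose Sylow 2-subgroups are isomorphic to a Sylow 2-subgroup of the Chevalley group of type G₂ over a finite field of odd order, in which all involutions are conjugate. Let S be a Sylow 2-subgroup, t an involution in the centre of S, C its centralizer and Q the quotient of C by its largest normal subgroup of odd order. Then Q has normal subgroups L₁ and L₂, isomorphic to special linear groups of dimension 2 over fields of odd orders, which commute elementwise and whose product is the commutator subgroup of Q. -/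
theorem result {G : Type*} [Group G] [Finite G] [IsSimpleGroup G]
    {F : Type*} [Field F] [Fintype F] (hF : Odd (Fintype.card F)) (S : Sylow 2 G) (P : Sylow 2 ↥(Cfsg.Lie.chevG2.group F))
    (hS : Nonempty (↥(S : Subgroup G) ≃* ↥(P : Subgroup ↥(Cfsg.Lie.chevG2.group F))))
    (h1 : ∀ x y : G, orderOf x = 2 → orderOf y = 2 → IsConj x y) (t : G) (ht : orderOf t = 2) (htS : t ∈ (S : Subgroup G))
    (htZ : ∀ s ∈ (S : Subgroup G), s * t = t * s) :
    ∃ L₁ L₂ : Subgroup (↥(Subgroup.centralizer ({t} : Set G)) ⧸ Cfsg.oddCore ↥(Subgroup.centralizer ({t} : Set G))),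
      L₁.Normal ∧ L₂.Normal ∧
      (∃ (F₁ : Type) (_ : Field F₁) (_ : Fintype F₁), Odd (Fintype.card F₁) ∧ Nonempty (↥L₁ ≃* Matrix.SpecialLinearGroup (Fin 2) F₁)) ∧
      (∃ (F₂ : Type) (_ : Field F₂) (_ : Fintype F₂), Odd (Fintype.card F₂) ∧ Nonempty (↥L₂ ≃* Matrix.SpecialLinearGroup (Fin 2) F₂)) ∧
      ⁅L₁, L₂⁆ = ⊥ ∧ L₁ ⊔ L₂ = commutator _ := by
  obtain ⟨e⟩ := hS
  haveI : Fact (Nat.Prime 2) := ⟨Nat.prime_two⟩
  obtain ⟨k, hk0, ι, Q, hk, hi, hQ⟩ := Cfsg.Agent.G2Type.exists_sylow (F := F) hF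
  have f : Cfsg.Agent.G2Type.Mdl (4 * k) ≃* ↥(S : Subgroup G) :=
    (((MonoidHom.ofInjective hi).trans (MulEquiv.subgroupCongr hQ)).trans (Q.equiv P)).trans e.symm
  obtain ⟨ε, hε⟩ : ∃ ε : ℕ, k = 2 ^ ε := by
    obtain ⟨m, hm⟩ := S.isPGroup'.exists_card_eq
    rw [← Nat.card_congr f.toEquiv, Cfsg.Agent.G2Type.Mdl.card_eq] at hm
    obtain ⟨ε, -, h⟩ := (Nat.dvd_prime_pow Nat.prime_two).1
      (show k ∣ 2 ^ m from hm ▸ ⟨64 * k, by ring⟩)
    exact ⟨ε, h⟩
  set j := (S : Subgroup G).subtype.comp f.toMonoidHom with hj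
  have hji : Function.Injective j := (S : Subgroup G).subtype_injective.comp f.injective
  have hjr : j.range = (S : Subgroup G) := by
    rw [hj, MonoidHom.range_comp, MonoidHom.range_eq_top.2 f.surjective, ← MonoidHom.range_eq_map,
      Subgroup.range_subtype]
  obtain rfl : t = j (Cfsg.Agent.G2Type.Mdl.zE k) := by
    obtain ⟨x, hx⟩ : t ∈ j.range := hjr.symm ▸ htS
    rw [← hx]
    refine congrArg j (Cfsg.Agent.G2Cent.Facts.eq_zE_of_central (fun y => hji ?_) (hji ?_) fun h => ?_)
    · rw [map_mul, map_mul, hx, htZ (j y) (hjr ▸ ⟨y, rfl⟩)]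
    · rw [map_mul, hx, map_one, ← pow_two, ← ht, pow_orderOf_eq_one]
    · rw [← hx, h, map_one, orderOf_one] at ht
      norm_num at ht
  exact Cfsg.Agent.G2Cent.main hε j S hjr hji h1

end Cfsg.Agent.S1744
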