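import Cfsg.Statements.S1753


set_option autoImplicit false
universe u
open Cfsg

namespace Cfsg.Agent.S1753

/-- Let K be any property of groups. (1) If G is a minimal counterexample relative to K — a finite non-abelian simple group not satisfying K such that every finite non-abelian simple group of smaller order satisfies K — then every proper subgroup of G is a K-group (all its non-abelian simple sections satisfy K), since such sections have smaller order than G. (2) Consequently (induction on the order), if every finite non-abelian simple group all of whose proper subgroups are K-groups satisfies K, then every finite non-abelian simple group satisfies K. -/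
theorem result (K : ∀ (X : Type u) [Group X], Prop) :
    (∀ (G : Type u) [Group G], Cfsg.IsMinCounterexampleWith K G → Cfsg.IsKProperWith K G) ∧
      ((∀ (X : Type u) [Group X] [Finite X], IsSimpleGroup X → ¬ IsMulCommutative X → Cfsg.IsKProperWith K X → K X) →
        ∀ (G : Type u) [Group G] [Finite G], IsSimpleGroup G → ¬ IsMulCommutative G → K G) := by
  have key : ∀ (G : Type u) [Group G], Cfsg.IsMinCounterexampleWith K G → Cfsg.IsKProperWith K G := by
    intro G _ hG H hH S N _ hs hn
    obtain ⟨hfin, -, -, -, hmin⟩ := hG
    refine hmin (↥S ⧸ N) hs hn ?_
    calc Nat.card (↥S ⧸ N) ≤ Nat.card ↥S :=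
          Nat.card_le_card_of_surjective _ (QuotientGroup.mk'_surjective N)
      _ ≤ Nat.card ↥H := Subgroup.card_le_card_group S
      _ < Nat.card G := by
          refine lt_of_le_of_ne (Subgroup.card_le_card_group H) fun h => hH ?_
          exact H.eq_top_of_card_eq h
  refine ⟨key, fun hK => ?_⟩
  intro G _ _ hs hn
  induction hc : Nat.card G using Nat.strong_induction_on generalizing G with
  | _ m ih =>
    by_contra hKG
    refine hKG (hK G hs hn (key G ⟨inferInstance, hs, hn, hKG, ?_⟩))
    intro X _ _ hXs hXn hlt
    exact ih _ (hc ▸ hlt) X hXs hXn rfl

end Cfsg.Agent.S1753
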