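import Cfsg.Statements.S1756
import Mathlib

set_option linter.all false

set_option autoImplicit false
open Cfsg

namespace Cfsg.Agent.S1756

open scoped commutatorElement

theorem exists_dual {Q : Type*} [Group Q] [Finite Q] (z : Q) (hzC : z ∈ Subgroup.center Q) (hz1 : z ≠ 1)
    (hcomm : ∀ u v : Q, u * v = v * u ∨ u * v = z * (v * u))
    (C : Subgroup Q) (hC : C.index = 2) (hZC : Subgroup.center Q ≤ C) :
    ∃ u : Q, (∀ v ∈ C, u * v = v * u) ∧ ∀ v, v ∉ C → u * v = z * (v * u) := by
  classical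
  haveI : Fintype Q := Fintype.ofFinite Q
  have hzc : ∀ w, w * z = z * w := Subgroup.mem_center_iff.1 hzC
  have hz2 : z ^ 2 = 1 := by
    obtain ⟨u, v, huv⟩ : ∃ u v : Q, u * v ≠ v * u := by
      by_contra hc
      push Not at hc
      have : C = ⊤ := (Subgroup.eq_top_iff' C).2 fun g => hZC (Subgroup.mem_center_iff.2 fun h => hc h g)
      rw [this, Subgroup.index_top] at hC
      omega
    have h1 := (hcomm u v).resolve_left huv
    have h2 := (hcomm v u).resolve_left (Ne.symm huv)
    rw [h2, ← mul_assoc] at h1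
    rw [pow_two]
    exact mul_eq_right.1 h1.symm
  let β : Q → Q → ℤ := fun u v => if u * v = v * u then 1 else -1
  let ψ : Q → ℤ := fun v => if v ∈ C then 1 else -1
  have hβ : ∀ u v w, β u (v * w) = β u v * β u w := by
    intro u v w
    rcases hcomm u v with h1 | h1 <;> rcases hcomm u w with h2 | h2
    · have : u * (v * w) = v * w * u := by rw [← mul_assoc, h1, mul_assoc, h2, ← mul_assoc]
      simp only [β, if_pos h1, if_pos h2, if_pos this, mul_one]
    · have e : u * (v * w) = z * (v * w * u) := by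
        rw [← mul_assoc, h1, mul_assoc, h2, ← mul_assoc, hzc, mul_assoc, mul_assoc]
      have hne : ∀ a : Q, z * a ≠ a := fun a h => hz1 (mul_eq_right.1 h)
      have h3 : u * (v * w) ≠ v * w * u := e ▸ hne _
      have h4 : u * w ≠ w * u := h2 ▸ hne _
      simp only [β, if_pos h1, if_neg h4, if_neg h3, one_mul]
    · have e : u * (v * w) = z * (v * w * u) := by
        rw [← mul_assoc, h1, mul_assoc, mul_assoc, h2, ← mul_assoc v w u]
      have hne : ∀ a : Q, z * a ≠ a := fun a h => hz1 (mul_eq_right.1 h)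
      have h3 : u * (v * w) ≠ v * w * u := e ▸ hne _
      have h4 : u * v ≠ v * u := h1 ▸ hne _
      simp only [β, if_neg h4, if_pos h2, if_neg h3, mul_one]
    · have e : u * (v * w) = v * w * u := by
        rw [← mul_assoc, h1, mul_assoc, mul_assoc, h2, ← mul_assoc v z, hzc v, mul_assoc z v, ← mul_assoc z z,
          ← pow_two, hz2, one_mul, ← mul_assoc v w u]
      have hne : ∀ a : Q, z * a ≠ a := fun a h => hz1 (mul_eq_right.1 h)
      have h4 : u * v ≠ v * u := h1 ▸ hne _
      have h5 : u * w ≠ w * u := h2 ▸ hne _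
      simp only [β, if_neg h4, if_neg h5, if_pos e]
      norm_num
  have hψ : ∀ v w, ψ (v * w) = ψ v * ψ w := by
    intro v w
    have h := Subgroup.mul_mem_iff_of_index_two hC (a := v) (b := w)
    by_cases hv : v ∈ C <;> by_cases hw : w ∈ C <;> simp [ψ, hv, hw, h]
  have hsym : ∀ u v, β u v = β v u := by
    intro u v
    simp only [β, eq_comm (a := u * v)]
  suffices h : ∃ u, ∀ v, β u v = ψ v by
    obtain ⟨u, hu⟩ := h
    refine ⟨u, fun v hv => ?_, fun v hv => ?_⟩
    · have h := hu v
      by_contra hne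
      simp only [β, ψ, if_neg hne, if_pos hv] at h
      omega
    · refine (hcomm u v).resolve_left fun he => ?_
      have h := hu v
      simp only [β, ψ, if_pos he, if_neg hv] at h
      omega
  by_contra hc
  push Not at hc
  have hzero : ∀ u, ∑ v, β u v * ψ v = 0 := by
    intro u
    obtain ⟨v₀, hv₀⟩ := hc u
    have hneg : β u v₀ * ψ v₀ = -1 := by
      simp only [β, ψ] at hv₀ ⊢
      split_ifs at hv₀ ⊢ <;> simp_all
    have h := (Equiv.sum_comp (Equiv.mulRight v₀) (fun v => β u v * ψ v)).symm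
    simp only [Equiv.coe_mulRight, hβ, hψ] at h
    have h2 : ∑ v, β u v * ψ v = (∑ v, β u v * ψ v) * (β u v₀ * ψ v₀) := by
      rw [Finset.sum_mul]
      rw [h]
      exact Finset.sum_congr rfl fun v _ => by ring
    rw [hneg] at h2
    omega
  have htot : ∑ v, ψ v * ∑ u, β u v = 0 := by
    have : ∀ v, ψ v * ∑ u, β u v = ∑ u, β u v * ψ v := fun v => by
      rw [Finset.mul_sum]; exact Finset.sum_congr rfl fun u _ => mul_comm _ _
    rw [Finset.sum_congr rfl fun v _ => this v, Finset.sum_comm]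
    exact Finset.sum_eq_zero fun u _ => hzero u
  have hterm : ∀ v, ψ v * ∑ u, β u v = if v ∈ Subgroup.center Q then (Fintype.card Q : ℤ) else 0 := by
    intro v
    by_cases hv : v ∈ Subgroup.center Q
    · have h1 : ∀ u, β u v = 1 := fun u => if_pos (Subgroup.mem_center_iff.1 hv u)
      simp [ψ, hZC hv, hv, h1]
    · obtain ⟨u₀, hu₀⟩ : ∃ u₀, u₀ * v ≠ v * u₀ := by
        rw [Subgroup.mem_center_iff] at hv
        push Not at hv
        exact hv
      have hneg : β u₀ v = -1 := if_neg hu₀
      have h := (Equiv.sum_comp (Equiv.mulRight u₀) (fun u => β u v)).symm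
      simp only [Equiv.coe_mulRight] at h
      have h2 : ∑ u, β (u * u₀) v = ∑ u, - β u v := Finset.sum_congr rfl fun u _ => by
        rw [hsym, hβ, hsym v u, hsym v u₀, hneg]; ring
      rw [h2, Finset.sum_neg_distrib] at h
      have h0 : ∑ u, β u v = 0 := by omega
      rw [h0, mul_zero, if_neg hv]
  rw [Finset.sum_congr rfl fun v _ => hterm v] at htot
  have hpos : (0 : ℤ) < ∑ v, if v ∈ Subgroup.center Q then (Fintype.card Q : ℤ) else 0 := by
    refine Finset.sum_pos' (fun v _ => by split_ifs <;> omega) ⟨1, Finset.mem_univ _, ?_⟩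
    rw [if_pos (Subgroup.one_mem _)]
    exact_mod_cast Fintype.card_pos
  omega

/-- Let Q be an extraspecial 2-subgroup of the finite group G (special with centre of order 2) and t an involution of G normalizing Q such that the centralizer of t in Q has index at most 2 in Q. Then t lies in the product of Q with the centralizer of Q. -/
theorem result {G : Type*} [Group G] [Finite G] (Q : Subgroup G)
    (hQ : Cfsg.IsExtraspecial 2 ↥Q) (t : G) (ht : orderOf t = 2) (htN : t ∈ Subgroup.normalizer (Q : Set G))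
    (hi : (Subgroup.centralizer ({t} : Set G) ⊓ Q).relIndex Q ≤ 2) :
    t ∈ Q ⊔ Subgroup.centralizer (Q : Set G) := by
  classical
  obtain ⟨⟨h2, -, hder⟩, hZ2⟩ := hQ
  obtain ⟨z, hz, hall⟩ : ∃ z : Q, z ≠ 1 ∧ ∀ w ∈ Subgroup.center ↥Q, w = 1 ∨ w = z := by
    obtain ⟨a, b, hab, huniv⟩ := Nat.card_eq_two_iff.1 hZ2
    have hmem : ∀ w : Subgroup.center ↥Q, w = a ∨ w = b := fun w => by
      have := huniv.ge (Set.mem_univ w)
      simpa using this
    rcases hmem 1 with h1 | h1
    · refine ⟨b, fun e => hab ((h1.symm).trans (Subtype.ext e.symm)), fun w hw => ?_⟩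
      rcases hmem ⟨w, hw⟩ with h | h
      · exact Or.inl (congrArg Subtype.val (h.trans h1.symm))
      · exact Or.inr (congrArg Subtype.val h)
    · refine ⟨a, fun e => hab ((Subtype.ext e : a = 1).trans h1), fun w hw => ?_⟩
      rcases hmem ⟨w, hw⟩ with h | h
      · exact Or.inr (congrArg Subtype.val h)
      · exact Or.inl (congrArg Subtype.val (h.trans h1.symm))
  have hzC : z ∈ Subgroup.center ↥Q := by
    haveI : Nontrivial ↥(Subgroup.center ↥Q) := by
      rw [← Finite.one_lt_card_iff_nontrivial, hZ2]; norm_num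
    obtain ⟨w, hw⟩ := exists_ne (1 : ↥(Subgroup.center ↥Q))
    rcases hall w w.2 with h | h
    · exact absurd (Subtype.ext h) hw
    · exact h ▸ w.2
  have hcomm : ∀ u v : Q, u * v = v * u ∨ u * v = z * (v * u) := by
    intro u v
    have hmem : ⁅u, v⁆ ∈ Subgroup.center ↥Q := hder.le (by
      rw [commutator_def]
      exact Subgroup.commutator_mem_commutator (Subgroup.mem_top u) (Subgroup.mem_top v))
    rcases hall _ hmem with h | h
    · exact Or.inl (commutatorElement_eq_one_iff_mul_comm.1 h)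
    · exact Or.inr (by rw [← h, commutatorElement_def]; group)
  -- the automorphism induced by `t`
  let τ : MulAut Q :=
    { toFun := fun q => ⟨t * q * t⁻¹, (Subgroup.mem_normalizer_iff.1 htN q).1 q.2⟩
      invFun := fun q => ⟨t⁻¹ * q * t, (Subgroup.mem_normalizer_iff.1 htN _).2 (by simp [mul_assoc])⟩
      left_inv := fun q => Subtype.ext (by simp [mul_assoc])
      right_inv := fun q => Subtype.ext (by simp [mul_assoc])
      map_mul' := fun a b => Subtype.ext (by simp [mul_assoc]) }
  have hti : t⁻¹ = t := inv_eq_of_mul_eq_one_right (by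
    have := pow_orderOf_eq_one t; rwa [ht, pow_two] at this)
  have hττ : ∀ q, τ (τ q) = q := fun q => Subtype.ext (by
    show t * (t * (q : G) * t⁻¹) * t⁻¹ = q
    nth_rewrite 1 [← hti]
    nth_rewrite 2 [hti]
    group)
  set C := (Subgroup.centralizer ({t} : Set G) ⊓ Q).subgroupOf Q with hC
  have hfix : ∀ q, q ∈ C ↔ τ q = q := by
    intro q
    rw [hC, Subgroup.mem_subgroupOf, Subgroup.mem_inf, Subgroup.mem_centralizer_singleton_iff]
    constructor
    · rintro ⟨h, -⟩
      apply Subtype.ext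
      show t * (q : G) * t⁻¹ = q
      rw [← h, mul_inv_cancel_right]
    · intro h
      have h' : t * (q : G) * t⁻¹ = q := congrArg Subtype.val h
      exact ⟨(mul_inv_eq_iff_eq_mul.1 h').symm, q.2⟩
  have hZC : Subgroup.center ↥Q ≤ C := by
    intro w hw
    rw [hfix]
    have hτw : τ w ∈ Subgroup.center ↥Q := by
      rw [Subgroup.mem_center_iff]
      intro q
      obtain ⟨q', rfl⟩ := τ.surjective q
      rw [← map_mul, ← map_mul, Subgroup.mem_center_iff.1 hw q']
    rcases hall w hw with h | h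
    · rw [h, map_one]
    · rcases hall _ hτw with h' | h'
      · exact absurd ((map_eq_one_iff τ τ.injective).1 h') (h ▸ hz)
      · exact h'.trans h.symm
  have hCi : C.index = 1 ∨ C.index = 2 := by
    have h0 : C.index ≠ 0 := Subgroup.FiniteIndex.index_ne_zero
    have : C.index ≤ 2 := hi
    omega
  have hfin : ∀ u : Q, (∀ q, τ q = u * q * u⁻¹) → t ∈ Q ⊔ Subgroup.centralizer (Q : Set G) := by
    intro u hu
    have hc : (u : G)⁻¹ * t ∈ Subgroup.centralizer (Q : Set G) := by
      rw [Subgroup.mem_centralizer_iff]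
      intro q hq
      have h : t * q * t⁻¹ = (u : G) * q * (u : G)⁻¹ := congrArg Subtype.val (hu ⟨q, hq⟩)
      calc q * ((u : G)⁻¹ * t) = (u : G)⁻¹ * ((u : G) * q * (u : G)⁻¹) * t := by group
        _ = (u : G)⁻¹ * (t * q * t⁻¹) * t := by rw [h]
        _ = _ := by group
    have := Subgroup.mul_mem _ (Subgroup.mem_sup_left (T := Subgroup.centralizer (Q : Set G)) u.2)
      (Subgroup.mem_sup_right (S := Q) hc)
    rwa [mul_inv_cancel_left] at this
  rcases hCi with hC1 | hC2
  · refine hfin 1 fun q => ?_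
    rw [(hfix q).1 (Subgroup.index_eq_one.1 hC1 ▸ Subgroup.mem_top q)]
    group
  obtain ⟨q₀, hq₀⟩ : ∃ q, q ∉ C := by
    by_contra hc
    push Not at hc
    rw [(Subgroup.eq_top_iff' C).2 hc, Subgroup.index_top] at hC2
    omega
  have hτq₀ : τ q₀ ∉ C := fun h => hq₀ (by
    have h1 := (hfix _).1 h
    rw [hττ] at h1
    exact (hfix q₀).2 h1.symm)
  set c := q₀⁻¹ * τ q₀ with hc
  have hcC : c ∈ C := (Subgroup.mul_mem_iff_of_index_two hC2).2
    (iff_of_false (fun h => hq₀ (by simpa using C.inv_mem h)) hτq₀)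
  have hτ : τ q₀ = q₀ * c := by rw [hc, mul_inv_cancel_left]
  have hcd : ∀ d ∈ C, c * d = d * c := by
    intro d hd
    have hdτ := (hfix d).1 hd
    have hk : ⁅q₀, d⁆ ∈ C := hZC (hder.le (by
      rw [commutator_def]
      exact Subgroup.commutator_mem_commutator (Subgroup.mem_top _) (Subgroup.mem_top _)))
    have h1 : τ ⁅q₀, d⁆ = ⁅q₀, d⁆ := (hfix _).1 hk
    rw [map_commutatorElement, hdτ, hτ, commutatorElement_def, commutatorElement_def] at h1
    have h2 : c * d * c⁻¹ = d := by
      calc c * d * c⁻¹ = q₀⁻¹ * (q₀ * c * d * (q₀ * c)⁻¹ * d⁻¹) * (d * q₀) := by group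
        _ = q₀⁻¹ * (q₀ * d * q₀⁻¹ * d⁻¹) * (d * q₀) := by rw [h1]
        _ = d := by group
    exact mul_inv_eq_iff_eq_mul.1 h2
  have hc2 : c * c = 1 := by
    have h := hττ q₀
    rw [hτ, map_mul, (hfix c).1 hcC, hτ, mul_assoc] at h
    exact mul_eq_left.1 h
  have hcq : q₀ * c = c * q₀ := by
    have hsq : q₀ * q₀ ∈ C := Subgroup.mul_self_mem_of_index_two hC2 q₀
    have h := (hfix _).1 hsq
    rw [map_mul, hτ, mul_assoc, mul_right_inj] at h
    calc q₀ * c = c⁻¹ * (c * (q₀ * c)) := by group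
      _ = c⁻¹ * q₀ := by rw [h]
      _ = c * q₀ := by rw [inv_eq_of_mul_eq_one_right hc2]
  have hccen : c ∈ Subgroup.center ↥Q := by
    rw [Subgroup.mem_center_iff]
    intro w
    by_cases hw : w ∈ C
    · exact (hcd w hw).symm
    · have hd : q₀⁻¹ * w ∈ C := (Subgroup.mul_mem_iff_of_index_two hC2).2
        (iff_of_false (fun h => hq₀ (by simpa using C.inv_mem h)) hw)
      have h := hcd _ hd
      have e : w = q₀ * (q₀⁻¹ * w) := by group
      rw [e, mul_assoc, ← h, ← mul_assoc, hcq, mul_assoc]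
  have hext : ∀ u : Q, (∀ v ∈ C, u * v = v * u) → u * q₀ * u⁻¹ = τ q₀ → ∀ q, τ q = u * q * u⁻¹ := by
    intro u hu hu0 q
    by_cases hq : q ∈ C
    · rw [(hfix q).1 hq, hu q hq, mul_inv_cancel_right]
    · have hd : q₀⁻¹ * q ∈ C := (Subgroup.mul_mem_iff_of_index_two hC2).2
        (iff_of_false (fun h => hq₀ (by simpa using C.inv_mem h)) hq)
      obtain ⟨d, hdC, rfl⟩ : ∃ d ∈ C, q = q₀ * d := ⟨_, hd, by group⟩
      calc τ (q₀ * d) = τ q₀ * d := by rw [map_mul, (hfix d).1 hdC]
        _ = u * q₀ * u⁻¹ * d := by rw [hu0]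
        _ = u * q₀ * u⁻¹ * (d * u) * u⁻¹ := by group
        _ = u * q₀ * u⁻¹ * (u * d) * u⁻¹ := by rw [hu d hdC]
        _ = _ := by group
  rcases hall c hccen with h1 | h1
  · refine hfin 1 (hext 1 (fun v _ => by simp) ?_)
    rw [hτ, h1]
    group
  · obtain ⟨u, hu1, hu2⟩ := exists_dual z hzC hz hcomm C hC2 hZC
    refine hfin u (hext u hu1 ?_)
    rw [hu2 q₀ hq₀, hτ, h1, Subgroup.mem_center_iff.1 hzC q₀]
    group

end Cfsg.Agent.S1756
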