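import Cfsg.Statements.S1757
import Mathlib

set_option autoImplicit false
open Cfsg

namespace Cfsg.Agent.S1757

/-- Let p be a prime and A, B p-subgroups of the finite group G, each of which meets every conjugate of itself other than itself trivially. Suppose the order of A is at most that of B, A and B intersect trivially, and B normalizes A. Then A and B commute elementwise. -/
theorem result {G : Type*} [Group G] [Finite G] (p : ℕ) [Fact p.Prime] (A B : Subgroup G)
    (hA : IsPGroup p ↥A) (hB : IsPGroup p ↥B)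
    (hAti : ∀ g : G, A.map (MulAut.conj g).toMonoidHom = A ∨ A.map (MulAut.conj g).toMonoidHom ⊓ A = ⊥)
    (hBti : ∀ g : G, B.map (MulAut.conj g).toMonoidHom = B ∨ B.map (MulAut.conj g).toMonoidHom ⊓ B = ⊥)
    (hle : Nat.card ↥A ≤ Nat.card ↥B) (hAB : A ⊓ B = ⊥) (hN : B ≤ Subgroup.normalizer (A : Set G)) : ⁅A, B⁆ = ⊥ := by
  rcases eq_or_ne B ⊥ with hB1 | hB1
  · simp [hB1]
  have hAN : A ≤ Subgroup.normalizer (B : Set G) := by
    intro a ha
    rcases hBti a with h | h
    · rw [Subgroup.mem_normalizer_iff]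
      intro b
      constructor
      · intro hb
        rw [← h]
        exact ⟨b, hb, by simp⟩
      · intro hb
        rw [← h] at hb
        obtain ⟨b', hb', heq⟩ := hb
        simp at heq
        rwa [← heq]
    exfalso
    have hb : a ∈ B := by
      have hmem : ∀ b₁ b₂ : ↥B, a * (b₁ : G) * a⁻¹ * b₂ ∈ A ⊔ B := fun b₁ b₂ =>
        mul_mem (mul_mem (mul_mem (Subgroup.mem_sup_left ha) (Subgroup.mem_sup_right b₁.2))
          (Subgroup.mem_sup_left (inv_mem ha))) (Subgroup.mem_sup_right b₂.2)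
      let f : ↥B × ↥B → ↥(A ⊔ B) := fun p => ⟨_, hmem p.1 p.2⟩
      have hinj : Function.Injective f := by
        rintro ⟨b₁, b₂⟩ ⟨c₁, c₂⟩ he
        have he' : a * (b₁ : G) * a⁻¹ * b₂ = a * c₁ * a⁻¹ * c₂ := congrArg Subtype.val he
        have h2 : a * ((c₁ : G)⁻¹ * b₁) * a⁻¹ = c₂ * (b₂ : G)⁻¹ := by
          calc a * ((c₁ : G)⁻¹ * b₁) * a⁻¹
              = (a * c₁ * a⁻¹)⁻¹ * (a * (b₁ : G) * a⁻¹ * b₂) * (b₂ : G)⁻¹ := by group
            _ = c₂ * (b₂ : G)⁻¹ := by rw [he']; group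
        have h3 : a * ((c₁ : G)⁻¹ * b₁) * a⁻¹ ∈ B.map (MulAut.conj a).toMonoidHom ⊓ B :=
          ⟨⟨_, B.mul_mem (B.inv_mem c₁.2) b₁.2, by simp⟩, h2 ▸ B.mul_mem c₂.2 (B.inv_mem b₂.2)⟩
        rw [h, Subgroup.mem_bot] at h3
        rw [h3, eq_comm, mul_inv_eq_one] at h2
        simp only [mul_inv_eq_one, mul_eq_left, inv_mul_eq_one] at h3
        simp only [Prod.mk.injEq]
        exact ⟨Subtype.ext h3.symm, Subtype.ext h2.symm⟩
      have hcard : Nat.card ↥(A ⊔ B) ≤ Nat.card (↥B × ↥B) := by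
        have hsurj : Function.Surjective (fun p : ↥A × ↥B =>
            (⟨(p.1 : G) * p.2, mul_mem (Subgroup.mem_sup_left p.1.2) (Subgroup.mem_sup_right p.2.2)⟩ :
              ↥(A ⊔ B))) := by
          rintro ⟨g, hg⟩
          have hg' : g ∈ ((A ⊔ B : Subgroup G) : Set G) := hg
          rw [Subgroup.coe_mul_of_right_le_normalizer_left A B hN] at hg'
          obtain ⟨u, hu, v, hv, rfl⟩ := Set.mem_mul.1 hg'
          exact ⟨(⟨u, hu⟩, ⟨v, hv⟩), rfl⟩
        refine (Nat.card_le_card_of_surjective _ hsurj).trans ?_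
        rw [Nat.card_prod, Nat.card_prod]
        exact Nat.mul_le_mul_right _ hle
      have hbij := hinj.bijective_of_nat_card_le hcard
      obtain ⟨⟨b₁, b₂⟩, he⟩ := hbij.2 ⟨a, Subgroup.mem_sup_left ha⟩
      have he' : a * (b₁ : G) * a⁻¹ * b₂ = a := congrArg Subtype.val he
      have : a = (b₂ : G) * b₁ := by
        calc a = (b₂ : G) * (a * (b₁ : G) * a⁻¹ * b₂)⁻¹ * a * b₁ := by group
          _ = _ := by rw [he']; group
      rw [this]
      exact mul_mem b₂.2 b₁.2
    have hfix : B.map (MulAut.conj a).toMonoidHom = B := by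
      ext y
      constructor
      · rintro ⟨b, hb', rfl⟩
        exact B.mul_mem (B.mul_mem hb hb') (B.inv_mem hb)
      · intro hy
        exact ⟨a⁻¹ * y * a, B.mul_mem (B.mul_mem (B.inv_mem hb) hy) hb, by simp [mul_assoc]⟩
    rw [hfix, inf_idem] at h
    exact hB1 h
  rw [eq_bot_iff, Subgroup.commutator_le]
  intro a ha b hb
  rw [← hAB, commutatorElement_def]
  refine ⟨?_, ?_⟩
  · have h1 := (Subgroup.mem_normalizer_iff.1 (hN hb) a⁻¹).1 (A.inv_mem ha)
    have := A.mul_mem ha h1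
    simpa [mul_assoc] using this
  · have h1 := (Subgroup.mem_normalizer_iff.1 (hAN ha) b).1 hb
    exact B.mul_mem h1 (B.inv_mem hb)

end Cfsg.Agent.S1757
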