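import Cfsg.Statements.S1774
import Mathlib
import Cfsg.Agent.S1755
import Cfsg.Agent.InvChar.Extraspecial
import Cfsg.Agent.InvChar.Symplectic
import Cfsg.Agent.Lib.Components.Fitting

set_option linter.all false

set_option autoImplicit false
open Cfsg

namespace Cfsg.Agent.S1774

structure Sym {G : Type*} [Group G] (P : Subgroup G) (v : G) : Prop where
  mem : v ∈ P
  cen : ∀ p ∈ P, p * v = v * p
  ne : v ≠ 1
  inv : v * v = 1
  comm : ∀ a ∈ P, ∀ b ∈ P, a * b = b * a ∨ a * b = v * (b * a)
  sq : ∀ a ∈ P, a * a = 1 ∨ a * a = v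
  uniq : ∀ a ∈ P, (∀ b ∈ P, a * b = b * a) → a * a = 1 → a = 1 ∨ a = v
  norm : ∀ x, x * v = v * x → ∀ p ∈ P, x * p * x⁻¹ ∈ P
  self : ∀ x, x * v = v * x → (∀ p ∈ P, x * p = p * x) → x ∈ P

theorem sym_conj {G : Type*} [Group G] {P : Subgroup G} {v : G} (h : Sym P v) (g : G) :
    Sym (P.map (MulAut.conj g).toMonoidHom) (g * v * g⁻¹) := by
  have hv : (MulAut.conj g).toMonoidHom v = g * v * g⁻¹ := rfl
  have hinj : Function.Injective (MulAut.conj g).toMonoidHom := (MulAut.conj g).injective
  rw [← hv]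
  set f := (MulAut.conj g).toMonoidHom with hf
  have hsurj : Function.Surjective f := (MulAut.conj g).surjective
  refine ⟨⟨v, h.mem, rfl⟩, ?_, fun e => h.ne (hinj (e.trans (map_one f).symm)), ?_, ?_, ?_, ?_, ?_, ?_⟩
  · rintro _ ⟨p, hp, rfl⟩; rw [← map_mul, h.cen p hp, map_mul]
  · rw [← map_mul, h.inv, map_one]
  · rintro _ ⟨a, ha, rfl⟩ _ ⟨b, hb, rfl⟩
    rcases h.comm a ha b hb with e | e
    · left; rw [← map_mul, e, map_mul]
    · right; rw [← map_mul, e, map_mul, map_mul]
  · rintro _ ⟨a, ha, rfl⟩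
    rcases h.sq a ha with e | e
    · left; rw [← map_mul, e, map_one]
    · right; rw [← map_mul, e]
  · rintro _ ⟨a, ha, rfl⟩ hc he
    have hc' : ∀ b ∈ P, a * b = b * a := fun b hb => hinj (by
      rw [map_mul, map_mul]; exact hc _ ⟨b, hb, rfl⟩)
    have he' : a * a = 1 := hinj (by rw [map_mul, map_one]; exact he)
    rcases h.uniq a ha hc' he' with e | e
    · left; rw [e, map_one]
    · right; rw [e]
  · intro x hx
    obtain ⟨x', rfl⟩ := hsurj x
    rintro _ ⟨p, hp, rfl⟩
    refine ⟨x' * p * x'⁻¹, h.norm x' (hinj (by rw [map_mul, map_mul]; exact hx)) p hp, ?_⟩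
    rw [map_mul, map_mul, map_inv]
  · intro x hx hall
    obtain ⟨x', rfl⟩ := hsurj x
    exact ⟨x', h.self x' (hinj (by rw [map_mul, map_mul]; exact hx))
      (fun p hp => hinj (by rw [map_mul, map_mul]; exact hall _ ⟨p, hp, rfl⟩)), rfl⟩

theorem sep {G : Type*} [Group G] [Finite G] {P : Subgroup G} {v : G} (h : Sym P v) (N : Subgroup G)
    (hN : ∀ a ∈ P, (∀ b ∈ P, a * b = b * a) → a ∈ N) {u : G} (hu : u ∈ P) (huN : u ∉ N) :
    ∃ p ∈ P, (∀ n ∈ N, n ∈ P → p * n = n * p) ∧ p * u ≠ u * p := by
  have hvc : (⟨v, h.mem⟩ : P) ∈ Subgroup.center P :=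
    Subgroup.mem_center_iff.2 fun p => Subtype.ext (h.cen p p.2)
  obtain ⟨p, hp1, hp2⟩ := Cfsg.Agent.InvChar.Extraspecial.exists_separating_of_comm hvc
    (fun e => h.ne (congrArg Subtype.val e))
    (fun a b => (h.comm a a.2 b b.2).imp (fun e => Subtype.ext e) (fun e => Subtype.ext e))
    (fun a => by
      rcases h.sq a a.2 with e | e
      · rw [show a * a = 1 from Subtype.ext e]; exact Subgroup.one_mem _
      · rw [show a * a = (⟨v, h.mem⟩ : P) from Subtype.ext e]; exact hvc)
    (N.subgroupOf P)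
    (fun a ha => hN a a.2 fun b hb => (congrArg Subtype.val (Subgroup.mem_center_iff.1 ha ⟨b, hb⟩)).symm)
    (u := ⟨u, hu⟩) huN
  exact ⟨p, p.2, fun n hn hnP => congrArg Subtype.val (hp1 ⟨n, hnP⟩ hn), fun e => hp2 (Subtype.ext e)⟩

theorem forms {G : Type*} [Group G] [Finite G] {P : Subgroup G} {v : G} (h : Sym P v) {a b : G}
    (ha : a ∈ P) (hb : b ∈ P) (ha2 : a * a = 1) (hab : b * a ≠ a * b)
    (hcov : ∀ x ∈ P, (∀ p ∈ P, x * p = p * x) ∨ (∀ p ∈ P, x * a * p = p * (x * a)) ∨
      (∀ p ∈ P, b⁻¹ * x * p = p * (b⁻¹ * x)) ∨ (∀ p ∈ P, b⁻¹ * x * a * p = p * (b⁻¹ * x * a)))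
    {y e : G} (hy : y ∈ P) (he : e ∈ P) (hye : y * e = e * y) (hec : ¬ ∀ p ∈ P, e * p = p * e) :
    (∀ p ∈ P, y * p = p * y) ∨ ∀ p ∈ P, y * e * p = p * (y * e) := by
  have hform : ∀ x ∈ P, ∃ u c : G, (u = 1 ∨ u = a ∨ u = b ∨ u = b * a) ∧ (∀ p ∈ P, c * p = p * c) ∧ x = u * c := by
    intro x hx
    rcases hcov x hx with h1 | h1 | h1 | h1
    · exact ⟨1, x, Or.inl rfl, h1, (one_mul x).symm⟩
    · refine ⟨a, x * a, Or.inr (Or.inl rfl), h1, ?_⟩
      rw [← h1 a ha, mul_assoc, ha2, mul_one]
    · exact ⟨b, b⁻¹ * x, Or.inr (Or.inr (Or.inl rfl)), h1, by group⟩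
    · refine ⟨b * a, b⁻¹ * x * a, Or.inr (Or.inr (Or.inr rfl)), h1, ?_⟩
      rw [mul_assoc b a, ← h1 a ha, mul_assoc (b⁻¹ * x), ha2, mul_one]
      group
  obtain ⟨u, c, hu, hc, rfl⟩ := hform y hy
  obtain ⟨w, d, hw, hd, rfl⟩ := hform e he
  have hmem : ∀ x, (x = 1 ∨ x = a ∨ x = b ∨ x = b * a) → x ∈ P := by
    rintro x (rfl | rfl | rfl | rfl)
    · exact P.one_mem
    · exact ha
    · exact hb
    · exact P.mul_mem hb ha
  have hprod : u * c * (w * d) = u * w * (c * d) := by
    rw [mul_assoc u c, ← mul_assoc c w d, hc w (hmem w hw)]; group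
  have huw : u * w = w * u := by
    have h2 : w * d * (u * c) = w * u * (c * d) := by
      rw [mul_assoc w d, ← mul_assoc d u c, hd u (hmem u hu), mul_assoc u d c]
      have hdP : d ∈ P := by
        have := P.mul_mem (P.inv_mem (hmem w hw)) he
        rwa [inv_mul_cancel_left] at this
      rw [← hc d hdP]
      group
    rw [hprod, h2] at hye
    exact mul_right_cancel hye
  have hvcen : ∀ p ∈ P, v * p = p * v := fun p hp => (h.cen p hp).symm
  have hsqc : ∀ x, x ∈ P → ∀ p ∈ P, x * x * p = p * (x * x) := by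
    intro x hx p hp
    rcases h.sq x hx with e | e <;> rw [e]
    · simp
    · exact hvcen p hp
  have hsame : u = w → ∀ p ∈ P, u * c * (w * d) * p = p * (u * c * (w * d)) := by
    intro heq p hp
    rw [hprod, ← heq, mul_assoc, mul_assoc c d p, hd p hp, ← mul_assoc c p d, hc p hp, mul_assoc p c d,
      ← mul_assoc, hsqc u (hmem u hu) p hp, mul_assoc]
  have hcentral : u = 1 → ∀ p ∈ P, u * c * p = p * (u * c) := fun heq p hp => by
    rw [heq, one_mul]; exact hc p hp
  rcases hu with rfl | rfl | rfl | rfl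
  · exact Or.inl (hcentral rfl)
  all_goals rcases hw with rfl | rfl | rfl | rfl
  all_goals first
    | exact Or.inr (hsame rfl)
    | (exfalso; apply hec; intro p hp; rw [one_mul]; exact hd p hp)
    | (exfalso; apply hab; first
        | exact huw
        | exact huw.symm
        | exact mul_right_cancel (huw.symm.trans (mul_assoc _ _ _).symm)
        | exact mul_right_cancel (huw.trans (mul_assoc _ _ _).symm)
        | exact (mul_left_cancel ((mul_assoc _ _ _).symm.trans huw))
        | exact (mul_left_cancel ((mul_assoc _ _ _).symm.trans huw.symm))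
        | exact (mul_left_cancel ((mul_assoc _ _ _).symm.trans huw)).symm
        | exact (mul_left_cancel ((mul_assoc _ _ _).symm.trans huw.symm)).symm
        | exact (mul_right_cancel (huw.symm.trans (mul_assoc _ _ _).symm)).symm
        | exact (mul_right_cancel (huw.trans (mul_assoc _ _ _).symm)).symm)

theorem main {G : Type*} [Group G] [Finite G] (z : G) (Q : Subgroup G) (hQ : Sym Q z) (g : G)
    (hne : g * z * g⁻¹ ≠ z) (hin : g * z * g⁻¹ ∈ Q) :
    z ∈ Q.map (MulAut.conj g).toMonoidHom ∧
      ∀ u ∈ Subgroup.closure ({z, g * z * g⁻¹} : Set G), ∀ v ∈ Subgroup.closure ({z, g * z * g⁻¹} : Set G),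
        u ≠ 1 → v ≠ 1 → u ≠ v → ∃ x ∈ Q ⊔ Q.map (MulAut.conj g).toMonoidHom,
          x * z * x⁻¹ = u ∧ x * (g * z * g⁻¹) * x⁻¹ = v := by
  classical
  have hS0 := sym_conj hQ g
  obtain ⟨z', hz'⟩ : ∃ z', z' = g * z * g⁻¹ := ⟨_, rfl⟩
  rw [← hz'] at hne hin hS0 ⊢
  set P' := Q.map (MulAut.conj g).toMonoidHom with hP'
  have hS : Sym P' z' := hS0
  have hzi : z⁻¹ = z := inv_eq_of_mul_eq_one_right hQ.inv
  have hz'2 : z' * z' = 1 := hS.inv
  have hzz' : z * z' = z' * z := (hQ.cen z' hin).symm
  -- noncentral involutions are inverted by conjugation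
  have hflip : ∀ (P : Subgroup G) (v u : G), Sym P v → u ∈ P → u * u = 1 → u ≠ 1 → u ≠ v →
      ∃ q ∈ P, q * u * q⁻¹ = v * u := by
    intro P v u hP hu hu2 hu1 huv
    by_contra hc
    push Not at hc
    have hcen : ∀ b ∈ P, u * b = b * u := fun b hb => by
      rcases hP.comm b hb u hu with e | e
      · exact e.symm
      · exact absurd (show b * u * b⁻¹ = v * u by rw [e]; group) (hc b hb)
    rcases hP.uniq u hu hcen hu2 with e | e
    · exact hu1 e
    · exact huv e
  obtain ⟨q, hq, hqz'⟩ := hflip Q z z' hQ hin hz'2 hS.ne hne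
  have hqz : q * z * q⁻¹ = z := by rw [hQ.cen q hq, mul_inv_cancel_right]
  -- a swap moves `Q` onto `P'`
  have hswap : ∀ x ∈ P', x * z * x⁻¹ = z * z' →
      (q * x * q) * z * (q * x * q)⁻¹ = z' ∧ (q * x * q) * z' * (q * x * q)⁻¹ = z := by
    intro x hx hxz
    have hxz' : x * z' * x⁻¹ = z' := by rw [hS.cen x hx, mul_inv_cancel_right]
    constructor
    · calc q * x * q * z * (q * x * q)⁻¹ = q * (x * (q * z * q⁻¹) * x⁻¹) * q⁻¹ := by group
        _ = q * (z * z') * q⁻¹ := by rw [hqz, hxz]
        _ = (q * z * q⁻¹) * (q * z' * q⁻¹) := by group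
        _ = z * (z * z') := by rw [hqz, hqz']
        _ = z' := by rw [← mul_assoc, hQ.inv, one_mul]
    · calc q * x * q * z' * (q * x * q)⁻¹ = q * (x * (q * z' * q⁻¹) * x⁻¹) * q⁻¹ := by group
        _ = q * (x * (z * z') * x⁻¹) * q⁻¹ := by rw [hqz']
        _ = q * ((x * z * x⁻¹) * (x * z' * x⁻¹)) * q⁻¹ := by group
        _ = q * (z * z' * z') * q⁻¹ := by rw [hxz, hxz']
        _ = q * z * q⁻¹ := by rw [mul_assoc z, hz'2, mul_one]
        _ = z := hqz
  have hmove : ∀ h : G, h * z * h⁻¹ = z' → ∀ p ∈ Q, h * p * h⁻¹ ∈ P' := by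
    intro h hh p hp
    have hc : g⁻¹ * h * z = z * (g⁻¹ * h) := by
      calc g⁻¹ * h * z = g⁻¹ * (h * z * h⁻¹) * h := by group
        _ = g⁻¹ * z' * h := by rw [hh]
        _ = _ := by rw [hz']; group
    exact ⟨_, hQ.norm _ hc p hp, by simp [mul_assoc]⟩
  have hzP : z ∈ P' := by
    by_contra hnot
    have hNX : ∀ x ∈ P', x * z * x⁻¹ ≠ z * z' := by
      intro x hx hxz
      obtain ⟨h1, h2⟩ := hswap x hx hxz
      exact hnot (h2 ▸ hmove _ h1 z' hin)
    -- `e y = z y z⁻¹ y⁻¹`
    have hzc : z * z' = z' * z := hzz'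
    have heP : ∀ y ∈ P', z * y * z⁻¹ * y⁻¹ ∈ P' := fun y hy => P'.mul_mem (hS.norm z hzc y hy) (P'.inv_mem hy)
    have hE1 : ∀ y ∈ P', (z * y * z⁻¹ * y⁻¹ = 1 ∨ z * y * z⁻¹ * y⁻¹ = z') → z * y = y * z := by
      intro y hy h
      rcases h with h | h
      · exact mul_inv_eq_iff_eq_mul.1 (mul_inv_eq_one.1 h)
      · exfalso
        apply hNX y hy
        calc y * z * y⁻¹ = z * (z * y * z * y⁻¹) := by rw [← mul_assoc z, ← mul_assoc z, ← mul_assoc z, hQ.inv, one_mul]
          _ = z * (z * y * z⁻¹ * y⁻¹) := by rw [hzi]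
          _ = z * z' := by rw [h]
    have hee : ∀ y ∈ P', z * (z * y * z⁻¹ * y⁻¹) = (z * y * z⁻¹ * y⁻¹) * z ∧
        (z * y * z⁻¹ * y⁻¹) * (z * y * z⁻¹ * y⁻¹) = 1 := by
      intro y hy
      set e := z * y * z⁻¹ * y⁻¹ with he
      have hzez : z * e * z⁻¹ = e⁻¹ := by
        rw [he]
        calc z * (z * y * z⁻¹ * y⁻¹) * z⁻¹ = (z * z) * y * z⁻¹ * y⁻¹ * z⁻¹ := by group
          _ = _ := by rw [hQ.inv, hzi]; simp [mul_assoc, hzi]
      have he2 : z * e * z⁻¹ * e⁻¹ = 1 ∨ z * e * z⁻¹ * e⁻¹ = z' := by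
        rw [hzez, ← mul_inv_rev]
        rcases hS.sq e (heP y hy) with h | h <;> rw [h]
        · left; exact inv_one
        · right; exact inv_eq_of_mul_eq_one_right hz'2
      have hc := hE1 e (heP y hy) he2
      refine ⟨hc, ?_⟩
      rw [hc, mul_inv_cancel_right] at hzez
      nth_rewrite 1 [hzez]
      exact inv_mul_cancel e
    have hye : ∀ y ∈ P', y * (z * y * z⁻¹ * y⁻¹) = (z * y * z⁻¹ * y⁻¹) * y := by
      intro y hy
      obtain ⟨hc, h1⟩ := hee y hy
      set e := z * y * z⁻¹ * y⁻¹ with he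
      have hy2 : z * (y * y) * z⁻¹ = y * y := by
        rcases hS.sq y hy with h | h <;> rw [h]
        · group
        · rw [hzc, mul_inv_cancel_right]
      have e1 : z * y * z⁻¹ = e * y := by rw [he, inv_mul_cancel_right]
      have h2 : e * y * (e * y) = y * y := by
        rw [← e1]
        calc z * y * z⁻¹ * (z * y * z⁻¹) = z * (y * y) * z⁻¹ := by group
          _ = y * y := hy2
      have h3 : e * (y * e) = y := by
        refine mul_right_cancel (b := y) ?_
        rw [← h2]; group
      calc y * e = (e * e) * (y * e) := by rw [h1, one_mul]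
        _ = e * (e * (y * e)) := by group
        _ = e * y := by rw [h3]
    -- central elements are fixed by `z`
    have hcfix : ∀ c ∈ P', (∀ p ∈ P', c * p = p * c) → z * c = c * z := by
      intro c hc hcc
      refine hE1 c hc ?_
      have hzp : ∀ p ∈ P', z⁻¹ * p * z ∈ P' := fun p hp => by
        have := hS.norm z hzc p hp
        rwa [hzi] at this ⊢
      refine hS.uniq _ (heP c hc) (fun p hp => ?_) (hee c hc).2
      have h5 : z * c * z⁻¹ * p = p * (z * c * z⁻¹) := by
        calc z * c * z⁻¹ * p = z * (c * (z⁻¹ * p * z)) * z⁻¹ := by group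
          _ = z * ((z⁻¹ * p * z) * c) * z⁻¹ := by rw [hcc _ (hzp p hp)]
          _ = _ := by group
      calc z * c * z⁻¹ * c⁻¹ * p = z * c * z⁻¹ * (c⁻¹ * p) := by group
        _ = z * c * z⁻¹ * (p * c⁻¹) := by rw [(show Commute c p from hcc p hp).inv_left.eq]
        _ = (z * c * z⁻¹ * p) * c⁻¹ := by group
        _ = _ := by rw [h5]; group
    -- the centralizer of `E` lies in `E`
    have hCE : ∀ u ∈ P', (∀ x ∈ P', z * x = x * z → u * x = x * u) → z * u = u * z := by
      intro u hu hux
      set gens : Set G := {x | ∃ y ∈ P', x = z * y * z⁻¹ * y⁻¹} ∪ {x | x ∈ P' ∧ ∀ p ∈ P', x * p = p * x}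
      set N := Subgroup.closure gens with hN
      have hNle : N ≤ P' ⊓ Subgroup.centralizer ({z} : Set G) := by
        rw [hN, Subgroup.closure_le]
        rintro x (⟨y, hy, rfl⟩ | ⟨hx, hxc⟩)
        · exact ⟨heP y hy, Subgroup.mem_centralizer_singleton_iff.2 (hee y hy).1.symm⟩
        · exact ⟨hx, Subgroup.mem_centralizer_singleton_iff.2 (hcfix x hx hxc).symm⟩
      by_cases huN : u ∈ N
      · exact (Subgroup.mem_centralizer_singleton_iff.1 (hNle huN).2).symm
      exfalso
      obtain ⟨p, hp, hpN, hpu⟩ := sep hS N (fun a ha hac => Subgroup.subset_closure (Or.inr ⟨ha, hac⟩)) hu huN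
      apply hpu
      refine (hux p hp (hE1 p hp ?_)).symm
      -- `p` commutes with all `e y`
      refine hS.uniq _ (heP p hp) ?_ (hee p hp).2
      intro y hy
      set k := p * y * p⁻¹ * y⁻¹ with hk
      have hkm : k = 1 ∨ k = z' := by
        rcases hS.comm p hp y hy with h | h
        · left; rw [hk, h]; group
        · right; rw [hk, h]; group
      have hkz : z * k * z⁻¹ = k := by
        rcases hkm with h | h <;> rw [h]
        · group
        · rw [hzc, mul_inv_cancel_right]
      set ey := z * y * z⁻¹ * y⁻¹ with hey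
      have hpe : p * ey = ey * p := hpN ey (Subgroup.subset_closure (Or.inl ⟨y, hy, rfl⟩)) (heP y hy)
      have h1 : p * (z * y * z⁻¹) * p⁻¹ * (z * y * z⁻¹)⁻¹ = k := by
        calc p * (z * y * z⁻¹) * p⁻¹ * (z * y * z⁻¹)⁻¹ = p * ey * (y * p⁻¹ * y⁻¹) * ey⁻¹ := by rw [hey]; group
          _ = ey * p * (y * p⁻¹ * y⁻¹) * ey⁻¹ := by rw [hpe]
          _ = ey * k * ey⁻¹ := by rw [hk]; group
          _ = k := by
            rcases hkm with h | h <;> rw [h]
            · group
            · rw [hS.cen ey (heP y hy), mul_inv_cancel_right]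
      have h2 : (z * p * z⁻¹) * (z * (z * y * z⁻¹) * z⁻¹) * (z * p * z⁻¹)⁻¹ * (z * (z * y * z⁻¹) * z⁻¹)⁻¹ = k := by
        rw [← hkz, ← h1]; group
      have hzzy : z * (z * y * z⁻¹) * z⁻¹ = y := by
        calc z * (z * y * z⁻¹) * z⁻¹ = (z * z) * y * (z * z)⁻¹ := by group
          _ = y := by rw [hQ.inv]; group
      rw [hzzy] at h2
      have h3 : z * p * z⁻¹ * y * (z * p * z⁻¹)⁻¹ = p * y * p⁻¹ := by
        refine mul_right_cancel (b := y⁻¹) ?_
        rw [h2, hk]
      set m := z * p * z⁻¹ * p⁻¹ with hm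
      have e3 : z * p * z⁻¹ = m * p := by rw [hm, inv_mul_cancel_right]
      rw [e3] at h3
      have h4 : m * (p * y * p⁻¹) = p * y * p⁻¹ * m := by
        refine mul_inv_eq_iff_eq_mul.1 (Eq.trans ?_ h3)
        group
      have hky : p * y * p⁻¹ = k * y := by rw [hk]; group
      have hkc : k * m = m * k := by
        rcases hkm with h | h <;> rw [h]
        · simp
        · exact (hS.cen m (heP p hp)).symm
      rw [hky] at h4
      refine mul_left_cancel (a := k) ?_
      rw [← mul_assoc, hkc, mul_assoc, h4, mul_assoc]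
    -- action of `D` on `P'`
    set D := Q ⊓ Subgroup.centralizer ({z'} : Set G) with hD
    have hDc : ∀ d ∈ D, d * z' = z' * d := fun d hd => Subgroup.mem_centralizer_singleton_iff.1 hd.2
    have hkey : ∀ d ∈ D, ∀ x ∈ P', z * x = x * z →
        d * x * d⁻¹ * x⁻¹ = 1 ∨ d * x * d⁻¹ * x⁻¹ = z' := by
      intro d hd x hx hxz
      set k := d * x * d⁻¹ * x⁻¹ with hk
      have hkP : k ∈ P' := P'.mul_mem (hS.norm d (hDc d hd) x hx) (P'.inv_mem hx)
      have hkQ : k ∈ Q := by
        have := Q.mul_mem hd.1 (hQ.norm x hxz.symm d⁻¹ (Q.inv_mem hd.1))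
        rw [hk]; simpa [mul_assoc] using this
      have hkD : ∀ d' ∈ D, d' * k = k * d' := by
        intro d' hd'
        rcases hQ.comm d' hd'.1 k hkQ with h | h
        · exact h
        · exfalso
          apply hnot
          have e : d' * k * d'⁻¹ * k⁻¹ = z := by rw [h]; group
          exact e ▸ P'.mul_mem (hS.norm d' (hDc d' hd') k hkP) (P'.inv_mem hkP)
      let N : Subgroup G :=
        { carrier := {a | a ∈ Q ∧ ((∀ b ∈ Q, a * b = b * a) ∨ ∀ b ∈ Q, a * z' * b = b * (a * z'))}
          one_mem' := ⟨Q.one_mem, Or.inl fun b _ => by simp⟩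
          mul_mem' := by
            rintro a b ⟨ha, ha'⟩ ⟨hb, hb'⟩
            refine ⟨Q.mul_mem ha hb, ?_⟩
            rcases ha' with ha' | ha' <;> rcases hb' with hb' | hb'
            · left; intro c hc; rw [mul_assoc, hb' c hc, ← mul_assoc, ha' c hc, mul_assoc]
            · right; intro c hc
              calc a * b * z' * c = a * (b * z' * c) := by group
                _ = a * (c * (b * z')) := by rw [hb' c hc]
                _ = (a * c) * (b * z') := by group
                _ = (c * a) * (b * z') := by rw [ha' c hc]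
                _ = _ := by group
            · right; intro c hc
              calc a * b * z' * c = a * (b * z') * c := by group
                _ = a * (z' * b) * c := by rw [hb' z' hin]
                _ = a * z' * (b * c) := by group
                _ = a * z' * (c * b) := by rw [hb' c hc]
                _ = (a * z' * c) * b := by group
                _ = c * (a * z') * b := by rw [ha' c hc]
                _ = c * a * (z' * b) := by group
                _ = c * a * (b * z') := by rw [← hb' z' hin]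
                _ = _ := by group
            · left; intro c hc
              have hbz : b * z' = z' * b := by
                have := hb' z' hin
                rw [mul_assoc b z' z', hz'2, mul_one] at this
                calc b * z' = z' * (b * z') * z' := by rw [← this]
                  _ = z' * b * (z' * z') := by group
                  _ = z' * b := by rw [hz'2, mul_one]
              have e : a * b = (a * z') * (b * z') := by
                calc a * b = a * b * (z' * z') := by rw [hz'2, mul_one]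
                  _ = a * (b * z') * z' := by group
                  _ = a * (z' * b) * z' := by rw [hbz]
                  _ = _ := by group
              rw [e, mul_assoc, hb' c hc, ← mul_assoc, ha' c hc, mul_assoc]
          inv_mem' := by
            rintro a ⟨ha, ha'⟩
            refine ⟨Q.inv_mem ha, ?_⟩
            rcases ha' with ha' | ha'
            · left; exact fun c hc => (show Commute a c from ha' c hc).inv_left.eq
            · right
              intro c hc
              have haz : z' * a = a * z' := by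
                calc z' * a = z' * (a * z') * z' := by rw [mul_assoc z', mul_assoc a, hz'2, mul_one]
                  _ = (a * z') * z' * z' := by rw [← ha' z' hin]
                  _ = _ := by rw [mul_assoc (a * z'), hz'2, mul_one]
              have e : a⁻¹ * z' = (a * z')⁻¹ := by
                rw [← haz, mul_inv_rev, inv_eq_of_mul_eq_one_right hz'2]
              rw [e]
              exact (show Commute (a * z') c from ha' c hc).inv_left.eq }
      have hkN : k ∈ N := by
        by_contra hc
        obtain ⟨p, hp, hpN, hpk⟩ := sep hQ N (fun a ha hac => ⟨ha, Or.inl hac⟩) hkQ hc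
        have hz'N : z' ∈ N := ⟨hin, Or.inr fun b _ => by rw [hz'2]; simp⟩
        exact hpk (hkD p ⟨hp, Subgroup.mem_centralizer_singleton_iff.2 (hpN z' hz'N hin)⟩)
      have hcentralP : ∀ c ∈ Q, (∀ b ∈ Q, c * b = b * c) → c ∈ P' → c = 1 := by
        intro c hc hcc hcP
        have hc2 : c * c = 1 := (hQ.sq c hc).resolve_right fun h => hnot (h ▸ P'.mul_mem hcP hcP)
        exact (hQ.uniq c hc hcc hc2).resolve_right fun h => hnot (h ▸ hcP)
      rcases hkN.2 with h | h
      · exact Or.inl (hcentralP k hkQ h hkP)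
      · refine Or.inr ?_
        have h1 := hcentralP _ (Q.mul_mem hkQ hin) h (P'.mul_mem hkP hS.mem)
        rw [mul_eq_one_iff_eq_inv.1 h1, inv_eq_of_mul_eq_one_right hz'2]
    have hfinish : (∀ y ∈ P', z * y * z⁻¹ * y⁻¹ = 1 ∨ z * y * z⁻¹ * y⁻¹ = z') → False := fun h =>
      hnot (hS.self z hzc (fun y hy => hE1 y hy (h y hy)))
    by_cases hDab : ∀ a ∈ D, ∀ b ∈ D, a * b = b * a
    · -- `Q` modulo its centre has order four
      let N : Set G := {a | (∀ b ∈ Q, a * b = b * a) ∨ ∀ b ∈ Q, a * z' * b = b * (a * z')}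
      have hDN : ∀ d ∈ D, d ∈ N := by
        intro d hd
        by_contra hc
        set M := Subgroup.closure ({z'} ∪ {a | a ∈ Q ∧ ∀ b ∈ Q, a * b = b * a}) with hM
        have hdM : d ∉ M := by
          intro hdM
          apply hc
          have hsub : ∀ a ∈ M, a ∈ Q ∧ a ∈ N := by
            intro a ha
            induction ha using Subgroup.closure_induction with
            | mem x hx =>
              rcases hx with hx | ⟨hx, hxc⟩
              · rw [Set.mem_singleton_iff] at hx
                subst hx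
                exact ⟨hin, Or.inr fun b _ => by rw [hz'2]; simp⟩
              · exact ⟨hx, Or.inl hxc⟩
            | one => exact ⟨Q.one_mem, Or.inl fun b _ => by simp⟩
            | mul a b _ _ ha hb =>
              refine ⟨Q.mul_mem ha.1 hb.1, ?_⟩
              rcases ha.2 with ha' | ha' <;> rcases hb.2 with hb' | hb'
              · left; intro c hc; rw [mul_assoc, hb' c hc, ← mul_assoc, ha' c hc, mul_assoc]
              · right; intro c hc
                rw [mul_assoc a b z', mul_assoc a, hb' c hc, ← mul_assoc, ha' c hc, mul_assoc]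
              · right; intro c hc
                have e : a * b * z' = (a * z') * b := by rw [mul_assoc, hb' z' hin]; group
                rw [e, mul_assoc, hb' c hc, ← mul_assoc, ha' c hc, mul_assoc]
              · left; intro c hc
                have hbz : b * z' = z' * b := by
                  have := hb' z' hin
                  rw [mul_assoc b z' z', hz'2, mul_one] at this
                  calc b * z' = z' * (b * z') * z' := by rw [← this]
                    _ = z' * b * (z' * z') := by group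
                    _ = z' * b := by rw [hz'2, mul_one]
                have e : a * b = (a * z') * (b * z') := by
                  calc a * b = a * b * (z' * z') := by rw [hz'2, mul_one]
                    _ = a * (b * z') * z' := by group
                    _ = a * (z' * b) * z' := by rw [hbz]
                    _ = _ := by group
                rw [e, mul_assoc, hb' c hc, ← mul_assoc, ha' c hc, mul_assoc]
            | inv a _ ha =>
              refine ⟨Q.inv_mem ha.1, ?_⟩
              rcases ha.2 with ha' | ha'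
              · left; exact fun c hc => (show Commute a c from ha' c hc).inv_left.eq
              · right
                intro c hc
                have haz : z' * a = a * z' := by
                  calc z' * a = z' * (a * z') * z' := by rw [mul_assoc z', mul_assoc a, hz'2, mul_one]
                    _ = (a * z') * z' * z' := by rw [← ha' z' hin]
                    _ = _ := by rw [mul_assoc (a * z'), hz'2, mul_one]
                have e : a⁻¹ * z' = (a * z')⁻¹ := by
                  rw [← haz, mul_inv_rev, inv_eq_of_mul_eq_one_right hz'2]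
                rw [e]
                exact (show Commute (a * z') c from ha' c hc).inv_left.eq
          exact (hsub d hdM).2
        obtain ⟨p, hp, hpN, hpd⟩ := sep hQ M (fun a ha hac => Subgroup.subset_closure (Or.inr ⟨ha, hac⟩)) hd.1 hdM
        exact hpd (hDab p ⟨hp, Subgroup.mem_centralizer_singleton_iff.2
          (hpN z' (Subgroup.subset_closure (Or.inl rfl)) hin)⟩ d hd)
      have hcov : ∀ x ∈ Q, x ∈ N ∨ q⁻¹ * x ∈ N := by
        intro x hx
        rcases hQ.comm x hx z' hin with h | h
        · exact Or.inl (hDN x ⟨hx, Subgroup.mem_centralizer_singleton_iff.2 h⟩)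
        · refine Or.inr (hDN _ ⟨Q.mul_mem (Q.inv_mem hq) hx, Subgroup.mem_centralizer_singleton_iff.2 ?_⟩)
          have h1 : q * z' = z * z' * q := mul_inv_eq_iff_eq_mul.1 hqz'
          calc q⁻¹ * x * z' = q⁻¹ * (x * z') := by group
            _ = q⁻¹ * (z * z' * x) := by rw [h, mul_assoc]
            _ = (q⁻¹ * (z * z' * q)) * (q⁻¹ * x) := by group
            _ = (q⁻¹ * (q * z')) * (q⁻¹ * x) := by rw [h1]
            _ = _ := by group
      set f := (MulAut.conj g).toMonoidHom with hf
      have hcP : ∀ a, (∀ b ∈ Q, a * b = b * a) → ∀ p ∈ P', f a * p = p * f a := by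
        rintro a ha _ ⟨p, hp, rfl⟩
        rw [← map_mul, ha p hp, map_mul]
      have hcov' : ∀ x ∈ P', (∀ p ∈ P', x * p = p * x) ∨ (∀ p ∈ P', x * f z' * p = p * (x * f z')) ∨
          (∀ p ∈ P', (f q)⁻¹ * x * p = p * ((f q)⁻¹ * x)) ∨
          (∀ p ∈ P', (f q)⁻¹ * x * f z' * p = p * ((f q)⁻¹ * x * f z')) := by
        rintro _ ⟨x, hx, rfl⟩
        rw [← map_inv, ← map_mul, ← map_mul, ← map_mul]
        rcases hcov x hx with h | h <;> rcases h with h | h
        · exact Or.inl (hcP x h)
        · exact Or.inr (Or.inl (hcP _ h))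
        · exact Or.inr (Or.inr (Or.inl (hcP _ h)))
        · exact Or.inr (Or.inr (Or.inr (hcP _ h)))
      have hab : f q * f z' ≠ f z' * f q := by
        intro h
        rw [← map_mul, ← map_mul] at h
        have h1 := (MulAut.conj g).injective h
        rw [h1, mul_inv_cancel_right] at hqz'
        exact hQ.ne (mul_eq_right.1 hqz'.symm)
      apply hfinish
      intro y hy
      obtain ⟨hc, h1⟩ := hee y hy
      set e := z * y * z⁻¹ * y⁻¹ with he
      by_cases hec : ∀ p ∈ P', e * p = p * e
      · exact hS.uniq e (heP y hy) hec h1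
      exfalso
      have hfz : f z' * f z' = 1 := by rw [← map_mul, hz'2, map_one]
      have hzy : z * y = y * z := by
        rcases forms hS ⟨z', hin, rfl⟩ ⟨q, hq, rfl⟩ hfz hab hcov' hy (heP y hy) (hye y hy) hec with h | h
        · exact hcfix y hy h
        · have h5 := hcfix _ (P'.mul_mem hy (heP y hy)) h
          refine mul_right_cancel (b := e) ?_
          rw [mul_assoc, mul_assoc, h5, mul_assoc, hc]
      apply hec
      intro p _
      rw [he, hzy]
      group
    · -- `z` is a commutator in `D`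
      push Not at hDab
      obtain ⟨d1, hd1, d2, hd2, hne'⟩ := hDab
      have h12 : d1 * d2 = z * (d2 * d1) := (hQ.comm d1 hd1.1 d2 hd2.1).resolve_left hne'
      apply hfinish
      intro y hy
      have hu : ∀ d ∈ D, z * (d * y * d⁻¹ * y⁻¹) = (d * y * d⁻¹ * y⁻¹) * z := by
        intro d hd
        refine hCE _ (P'.mul_mem (hS.norm d (hDc d hd) y hy) (P'.inv_mem hy)) ?_
        intro x hx hxz
        have hdz : d * z = z * d := hQ.cen d hd.1
        set x0 := d⁻¹ * x * d with hx0
        have hd' : d⁻¹ * z' = z' * d⁻¹ := (show Commute d z' from hDc d hd).inv_left.eq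
        have hx0P : x0 ∈ P' := by
          have := hS.norm d⁻¹ hd' x hx
          rwa [inv_inv] at this
        have hx0z : z * x0 = x0 * z := by
          have hc1 : Commute z d := hdz.symm
          exact ((hc1.inv_right.mul_right hxz).mul_right hc1).eq
        have hj := hkey d hd x0 hx0P hx0z
        set j := d * x0 * d⁻¹ * x0⁻¹ with hj'
        have hxj : x = j * x0 := by rw [hj', hx0]; group
        set k := y * x0 * y⁻¹ * x0⁻¹ with hk
        have hkm : k = 1 ∨ k = z' := by
          rcases hS.comm y hy x0 hx0P with h | h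
          · left; rw [hk, h]; group
          · right; rw [hk, h]; group
        have hcz : ∀ w : G, (w = 1 ∨ w = z') → ∀ p ∈ P', w * p = p * w := by
          rintro w (rfl | rfl) p hp
          · simp
          · exact (hS.cen p hp).symm
        have hdk : d * k * d⁻¹ = k := by
          rcases hkm with h | h <;> rw [h]
          · group
          · rw [hDc d hd, mul_inv_cancel_right]
        have h1 : d * y * d⁻¹ * x * (d * y * d⁻¹)⁻¹ = k * x := by
          calc d * y * d⁻¹ * x * (d * y * d⁻¹)⁻¹ = d * (k * x0) * d⁻¹ := by rw [hk, hx0]; group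
            _ = (d * k * d⁻¹) * (d * x0 * d⁻¹) := by group
            _ = k * x := by rw [hdk, hx0]; group
        have h2 : y * x * y⁻¹ = k * x := by
          calc y * x * y⁻¹ = (y * j) * x0 * y⁻¹ := by rw [hxj]; group
            _ = (j * y) * x0 * y⁻¹ := by rw [hcz j hj y hy]
            _ = j * k * x0 := by rw [hk]; group
            _ = k * j * x0 := by rw [hcz j hj k (by rw [hk]; exact P'.mul_mem (P'.mul_mem (P'.mul_mem hy hx0P) (P'.inv_mem hy)) (P'.inv_mem hx0P))]
            _ = k * x := by rw [hxj, mul_assoc]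
        have h3 : y⁻¹ * (k * x) * y = x := by rw [← h2]; group
        have hk2 : k * k = 1 := by rcases hkm with h | h <;> rw [h] <;> simp [hz'2]
        have h6 : y⁻¹ * x * y = k * x := by
          have hkc : k * y⁻¹ = y⁻¹ * k := hcz k hkm _ (P'.inv_mem hy)
          calc y⁻¹ * x * y = k * k * (y⁻¹ * x * y) := by rw [hk2, one_mul]
            _ = k * (k * y⁻¹) * x * y := by group
            _ = k * (y⁻¹ * k) * x * y := by rw [hkc]
            _ = k * (y⁻¹ * (k * x) * y) := by group
            _ = k * x := by rw [h3]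
        have hkd : k * (d * y * d⁻¹) = d * y * d⁻¹ * k := hcz k hkm _ (hS.norm d (hDc d hd) y hy)
        refine mul_inv_eq_iff_eq_mul.1 ?_
        calc d * y * d⁻¹ * y⁻¹ * x * (d * y * d⁻¹ * y⁻¹)⁻¹
            = d * y * d⁻¹ * (y⁻¹ * x * y) * (d * y * d⁻¹)⁻¹ := by group
          _ = (d * y * d⁻¹ * k) * x * (d * y * d⁻¹)⁻¹ := by rw [h6]; group
          _ = (k * (d * y * d⁻¹)) * x * (d * y * d⁻¹)⁻¹ := by rw [hkd]
          _ = k * (d * y * d⁻¹ * x * (d * y * d⁻¹)⁻¹) := by group
          _ = k * (k * x) := by rw [h1]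
          _ = x := by rw [← mul_assoc, hk2, one_mul]
      set u1 := d1 * y * d1⁻¹ * y⁻¹ with hu1
      set u2 := d2 * y * d2⁻¹ * y⁻¹ with hu2
      have hu1P : u1 ∈ P' := P'.mul_mem (hS.norm d1 (hDc d1 hd1) y hy) (P'.inv_mem hy)
      have hu2P : u2 ∈ P' := P'.mul_mem (hS.norm d2 (hDc d2 hd2) y hy) (P'.inv_mem hy)
      have hpair : ∀ a b : G, (a = 1 ∨ a = z') → (b = 1 ∨ b = z') → a * b = 1 ∨ a * b = z' := by
        rintro a b (rfl | rfl) (rfl | rfl) <;> simp [hz'2]
      set a1 := d1 * u2 * d1⁻¹ * u2⁻¹ with ha1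
      set a2 := d2 * u1 * d2⁻¹ * u1⁻¹ with ha2
      have ha1m := hkey d1 hd1 u2 hu2P (hu d2 hd2)
      have ha2m := hkey d2 hd2 u1 hu1P (hu d1 hd1)
      set l := u2 * u1 * u2⁻¹ * u1⁻¹ with hl
      have hlm : l = 1 ∨ l = z' := by
        rcases hS.comm u2 hu2P u1 hu1P with h | h
        · left; rw [hl, h]; group
        · right; rw [hl, h]; group
      have hA : d1 * d2 * y * (d1 * d2)⁻¹ = a1 * l * u1 * u2 * y := by
        calc d1 * d2 * y * (d1 * d2)⁻¹ = d1 * (d2 * y * d2⁻¹ * y⁻¹) * d1⁻¹ * (d1 * y * d1⁻¹ * y⁻¹) * y := by group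
          _ = d1 * u2 * d1⁻¹ * u1 * y := by rw [← hu2, ← hu1]
          _ = (d1 * u2 * d1⁻¹ * u2⁻¹) * (u2 * u1 * u2⁻¹ * u1⁻¹) * u1 * u2 * y := by group
          _ = _ := by rw [← ha1, ← hl]
      have hB : d2 * d1 * y * (d2 * d1)⁻¹ = a2 * u1 * u2 * y := by
        calc d2 * d1 * y * (d2 * d1)⁻¹ = d2 * (d1 * y * d1⁻¹ * y⁻¹) * d2⁻¹ * (d2 * y * d2⁻¹ * y⁻¹) * y := by group
          _ = d2 * u1 * d2⁻¹ * u2 * y := by rw [← hu2, ← hu1]
          _ = (d2 * u1 * d2⁻¹ * u1⁻¹) * u1 * u2 * y := by group
          _ = _ := by rw [← ha2]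
      have hinvp : ∀ a : G, (a = 1 ∨ a = z') → a * a = 1 := by
        rintro a (rfl | rfl) <;> simp [hz'2]
      have hl' := hpair _ _ (hpair _ _ ha1m hlm) ha2m
      -- `z` acts on `w = u1 u2 y` as a central element
      set W := a2 * u1 * u2 * y with hW
      have hWP : W ∈ P' := by
        have ha2P : a2 ∈ P' := P'.mul_mem (hS.norm d2 (hDc d2 hd2) u1 hu1P) (P'.inv_mem hu1P)
        exact P'.mul_mem (P'.mul_mem (P'.mul_mem ha2P hu1P) hu2P) hy
      have hzW : z * W * z⁻¹ = (a1 * l * a2) * W := by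
        calc z * W * z⁻¹ = z * (d2 * d1 * y * (d2 * d1)⁻¹) * z⁻¹ := by rw [hB]
          _ = (z * (d2 * d1)) * y * (z * (d2 * d1))⁻¹ := by group
          _ = a1 * l * u1 * u2 * y := by rw [← h12, hA]
          _ = _ := by
            rw [hW]
            calc a1 * l * u1 * u2 * y = a1 * l * (a2 * a2) * u1 * u2 * y := by rw [hinvp a2 ha2m, mul_one]
              _ = _ := by group
      have hW' : z * W * z⁻¹ * W⁻¹ = 1 ∨ z * W * z⁻¹ * W⁻¹ = z' := by
        rw [hzW, mul_inv_cancel_right]; exact hl'
      have hzWc := hE1 W hWP hW'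
      have hfix : ∀ w : G, (w = 1 ∨ w = z') → z * w = w * z := by
        rintro w (rfl | rfl)
        · simp
        · exact hzc
      have hy' : z * y = y * z := by
        have e : y = u2⁻¹ * u1⁻¹ * a2⁻¹ * W := by rw [hW]; group
        rw [e]
        exact ((((show Commute z u2 from hu d2 hd2).inv_right.mul_right
          (show Commute z u1 from hu d1 hd1).inv_right).mul_right
          (show Commute z a2 from hfix a2 ha2m).inv_right).mul_right hzWc).eq
      left
      rw [hy']; group
  refine ⟨hzP, ?_⟩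
  obtain ⟨x, hx, hxz⟩ := hflip P' z' z hS hzP hQ.inv hQ.ne (Ne.symm hne)
  rw [← hzz'] at hxz
  have hxz' : x * z' * x⁻¹ = z' := by rw [hS.cen x hx, mul_inv_cancel_right]
  obtain ⟨hh1, hh2⟩ := hswap x hx hxz
  set h := q * x * q with hh
  have hqM : q ∈ Q ⊔ P' := Subgroup.mem_sup_left hq
  have hxM : x ∈ Q ⊔ P' := Subgroup.mem_sup_right hx
  have hhM : h ∈ Q ⊔ P' := Subgroup.mul_mem _ (Subgroup.mul_mem _ hqM hxM) hqM
  intro u hu v hv hu1 hv1 huv
  have hfour : ∀ w ∈ Subgroup.closure ({z, z'} : Set G), w = 1 ∨ w = z ∨ w = z' ∨ w = z * z' := by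
    intro w hw
    induction hw using Subgroup.closure_induction with
    | mem a ha =>
      rcases ha with rfl | ha
      · exact Or.inr (Or.inl rfl)
      · exact Or.inr (Or.inr (Or.inl ha))
    | one => exact Or.inl rfl
    | mul a b _ _ ha hb =>
      have h1 : z' * (z * z') = z := by rw [hzz', ← mul_assoc, hz'2, one_mul]
      have h2 : z * z' * z = z' := by rw [mul_assoc, ← hzz', ← mul_assoc, hQ.inv, one_mul]
      have h3 : z * z' * z' = z := by rw [mul_assoc, hz'2, mul_one]
      have h4 : z * z' * (z * z') = 1 := by rw [← mul_assoc, h2, hz'2]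
      have h5 : z * (z * z') = z' := by rw [← mul_assoc, hQ.inv, one_mul]
      rcases ha with rfl | rfl | rfl | rfl <;> rcases hb with rfl | rfl | rfl | rfl <;>
        simp [hQ.inv, hz'2, h1, h2, h3, h4, h5, ← hzz']
    | inv a _ ha =>
      rcases ha with rfl | rfl | rfl | rfl
      · exact Or.inl inv_one
      · exact Or.inr (Or.inl hzi)
      · exact Or.inr (Or.inr (Or.inl (inv_eq_of_mul_eq_one_right hz'2)))
      · refine Or.inr (Or.inr (Or.inr ?_))
        rw [mul_inv_rev, hzi, inv_eq_of_mul_eq_one_right hz'2, hzz']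
  have hxzz : x * (z * z') * x⁻¹ = z := by
    calc x * (z * z') * x⁻¹ = (x * z * x⁻¹) * (x * z' * x⁻¹) := by group
      _ = z * z' * z' := by rw [hxz, hxz']
      _ = z := by rw [mul_assoc, hz'2, mul_one]
  rcases (hfour u hu).resolve_left hu1 with he | he | he <;> subst u <;>
    rcases (hfour v hv).resolve_left hv1 with he | he | he <;> subst v
  · exact absurd rfl huv
  · exact ⟨1, Subgroup.one_mem _, by group, by group⟩
  · exact ⟨q, hqM, hqz, hqz'⟩
  · exact ⟨h, hhM, hh1, hh2⟩
  · exact absurd rfl huv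
  · refine ⟨x * h, Subgroup.mul_mem _ hxM hhM, ?_, ?_⟩
    · calc x * h * z * (x * h)⁻¹ = x * (h * z * h⁻¹) * x⁻¹ := by group
        _ = z' := by rw [hh1, hxz']
    · calc x * h * z' * (x * h)⁻¹ = x * (h * z' * h⁻¹) * x⁻¹ := by group
        _ = z * z' := by rw [hh2, hxz]
  · refine ⟨q * h, Subgroup.mul_mem _ hqM hhM, ?_, ?_⟩
    · calc q * h * z * (q * h)⁻¹ = q * (h * z * h⁻¹) * q⁻¹ := by group
        _ = z * z' := by rw [hh1, hqz']
    · calc q * h * z' * (q * h)⁻¹ = q * (h * z' * h⁻¹) * q⁻¹ := by group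
        _ = z := by rw [hh2, hqz]
  · exact ⟨x, hxM, hxz, hxz'⟩
  · exact absurd rfl huv

/-- Let G be a finite group and let z be an involution of G such that Q, the generalized Fitting subgroup of the centralizer C of z, is a 2-group of symplectic type (every characteristic abelian subgroup of Q is cyclic); suppose every element of Q has order dividing 4. Let g ∈ G with z' = g z g⁻¹ ≠ z and z' ∈ Q. Then z lies in the conjugate g Q g⁻¹, and the subgroup X generated by Q and g Q g⁻¹ induces every automorphism of the four-group generated by z and z': for any two distinct non-identity elements u, v of that four-group there is x ∈ X with x z x⁻¹ = u and x z' x⁻¹ = v. -/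
theorem result {G : Type*} [Group G] [Finite G] (z : G) (hz : orderOf z = 2) (hQ : Cfsg.IsOfSymplecticType ↥(Cfsg.generalizedFittingSubgroup ↥(Subgroup.centralizer ({z} : Set G))))
    (h4 : ∀ q ∈ (Cfsg.generalizedFittingSubgroup ↥(Subgroup.centralizer ({z} : Set G))).map (Subgroup.centralizer ({z} : Set G)).subtype, q ^ 4 = 1) (g : G) (hne : g * z * g⁻¹ ≠ z) (hin : g * z * g⁻¹ ∈ (Cfsg.generalizedFittingSubgroup ↥(Subgroup.centralizer ({z} : Set G))).map (Subgroup.centralizer ({z} : Set G)).subtype) :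
    z ∈ ((Cfsg.generalizedFittingSubgroup ↥(Subgroup.centralizer ({z} : Set G))).map (Subgroup.centralizer ({z} : Set G)).subtype).map (MulAut.conj g).toMonoidHom ∧
      ∀ u ∈ Subgroup.closure ({z, g * z * g⁻¹} : Set G), ∀ v ∈ Subgroup.closure ({z, g * z * g⁻¹} : Set G),
        u ≠ 1 → v ≠ 1 → u ≠ v →
          ∃ x ∈ (Cfsg.generalizedFittingSubgroup ↥(Subgroup.centralizer ({z} : Set G))).map (Subgroup.centralizer ({z} : Set G)).subtype ⊔ ((Cfsg.generalizedFittingSubgroup ↥(Subgroup.centralizer ({z} : Set G))).map (Subgroup.centralizer ({z} : Set G)).subtype).map (MulAut.conj g).toMonoidHom, x * z * x⁻¹ = u ∧ x * (g * z * g⁻¹) * x⁻¹ = v := by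
  classical
  have hzC : z ∈ Subgroup.centralizer ({z} : Set G) := Subgroup.mem_centralizer_singleton_iff.2 rfl
  have hzc : (⟨z, hzC⟩ : Subgroup.centralizer ({z} : Set G)) ∈ Subgroup.center _ :=
    Subgroup.mem_center_iff.2 fun c => Subtype.ext (Subgroup.mem_centralizer_singleton_iff.1 c.2)
  set C := Subgroup.centralizer ({z} : Set G) with hC
  have hn := Cfsg.Agent.S1755.gfit_normal ↥C
  have hzQ := Cfsg.Agent.S1755.center_le_gfit _ hzc
  have hself := Cfsg.Agent.Components.Fitting.centralizer_genFitting_le (G := ↥C)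
  set w : Cfsg.generalizedFittingSubgroup ↥C := ⟨⟨z, hzC⟩, hzQ⟩ with hw
  have hwo : orderOf w = 2 := by rw [← Subgroup.orderOf_coe, ← Subgroup.orderOf_coe, hw]; exact hz
  have hwc : w ∈ Subgroup.center ↥(Cfsg.generalizedFittingSubgroup ↥C) :=
    Subgroup.mem_center_iff.2 fun q => Subtype.ext (Subgroup.mem_center_iff.1 hzc q)
  have h4' : ∀ a : Cfsg.generalizedFittingSubgroup ↥C, a ^ 4 = 1 := fun a =>
    Subtype.ext (Subtype.ext (h4 _ ⟨(a : C), a.2, rfl⟩))
  have hfacts := Cfsg.Agent.InvChar.Symplectic.commutator_facts hQ h4' hwc hwo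
  have hzz : z * z = 1 := by have := pow_orderOf_eq_one z; rwa [hz, pow_two] at this
  refine main z _ ⟨Subgroup.mem_map.2 ⟨⟨z, hzC⟩, hzQ, rfl⟩, ?_, fun e => by rw [e] at hz; simp at hz, hzz, ?_, ?_, ?_, ?_, ?_⟩ g hne hin
  · rintro _ ⟨p, hp, rfl⟩
    exact congrArg Subtype.val (Subgroup.mem_center_iff.1 hzc p)
  · rintro _ ⟨a, ha, rfl⟩ _ ⟨b, hb, rfl⟩
    rcases hfacts ⟨a, ha⟩ ⟨b, hb⟩ with h | h
    · left
      have := congrArg (fun r : Cfsg.generalizedFittingSubgroup ↥C => ((r : C) : G)) h
      exact mul_inv_eq_iff_eq_mul.1 (mul_inv_eq_one.1 this)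
    · right
      have h' : (a : G) * b * (a : G)⁻¹ * (b : G)⁻¹ = z :=
        congrArg (fun r : Cfsg.generalizedFittingSubgroup ↥C => ((r : C) : G)) h
      simp only [Subgroup.coe_subtype]
      rw [← h']; group
  · rintro _ ⟨a, ha, rfl⟩
    have hZcyc : IsCyclic (Subgroup.center ↥(Cfsg.generalizedFittingSubgroup ↥C)) :=
      hQ.2 _ inferInstance inferInstance
    set a' : Cfsg.generalizedFittingSubgroup ↥C := ⟨a, ha⟩ with ha'
    have hsqc : a' * a' ∈ Subgroup.center ↥(Cfsg.generalizedFittingSubgroup ↥C) := by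
      rw [Subgroup.mem_center_iff]
      intro b
      set k := a' * b * a'⁻¹ * b⁻¹ with hk
      have hkc : k ∈ Subgroup.center ↥(Cfsg.generalizedFittingSubgroup ↥C) :=
        Cfsg.Agent.InvChar.Symplectic.pair_mem_center hwc (hfacts a' b)
      have hkk : k * k = 1 := by
        rcases hfacts a' b with h | h <;> rw [hk, h]
        · exact mul_one 1
        · have := pow_orderOf_eq_one w; rwa [hwo, pow_two] at this
      have e : a' * b = k * (b * a') := by rw [hk]; group
      symm
      calc a' * a' * b = a' * (a' * b) := by group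
        _ = (a' * k) * (b * a') := by rw [e]; group
        _ = (k * a') * (b * a') := by rw [Subgroup.mem_center_iff.1 hkc a']
        _ = k * (a' * b) * a' := by group
        _ = k * k * (b * (a' * a')) := by rw [e]; group
        _ = b * (a' * a') := by rw [hkk, one_mul]
    have h4a : a' * a' * (a' * a') = 1 := by
      have := h4' a'
      rw [pow_succ, pow_succ, pow_succ, pow_one] at this
      rw [← this]; group
    rcases Cfsg.Agent.InvChar.Symplectic.sq_one_cases hZcyc hwc hwo hsqc h4a with h | h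
    · left; exact congrArg (fun r : Cfsg.generalizedFittingSubgroup ↥C => ((r : C) : G)) h
    · right; exact congrArg (fun r : Cfsg.generalizedFittingSubgroup ↥C => ((r : C) : G)) h
  · rintro _ ⟨a, ha, rfl⟩ hc h2
    have hZcyc : IsCyclic (Subgroup.center ↥(Cfsg.generalizedFittingSubgroup ↥C)) :=
      hQ.2 _ inferInstance inferInstance
    have hac : (⟨a, ha⟩ : Cfsg.generalizedFittingSubgroup ↥C) ∈ Subgroup.center _ :=
      Subgroup.mem_center_iff.2 fun b => Subtype.ext (Subtype.ext (hc _ ⟨(b : C), b.2, rfl⟩).symm)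
    rcases Cfsg.Agent.InvChar.Symplectic.sq_one_cases hZcyc hwc hwo hac
      (Subtype.ext (Subtype.ext h2)) with h | h
    · left; exact congrArg (fun r : Cfsg.generalizedFittingSubgroup ↥C => ((r : C) : G)) h
    · right; exact congrArg (fun r : Cfsg.generalizedFittingSubgroup ↥C => ((r : C) : G)) h
  · intro x hx
    rintro _ ⟨p, hp, rfl⟩
    exact ⟨⟨x, Subgroup.mem_centralizer_singleton_iff.2 hx⟩ * p * ⟨x, Subgroup.mem_centralizer_singleton_iff.2 hx⟩⁻¹,
      hn.conj_mem p hp _, rfl⟩
  · intro x hx hc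
    refine ⟨⟨x, Subgroup.mem_centralizer_singleton_iff.2 hx⟩, hself (Subgroup.mem_centralizer_iff.2 fun p hp => ?_), rfl⟩
    exact Subtype.ext (hc _ ⟨p, hp, rfl⟩).symm

end Cfsg.Agent.S1774
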