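import Cfsg.Statements.S1775
import Mathlib
import Cfsg.Agent.Lib.Components.Local
import Cfsg.Agent.Lib.Cores.Basic
import Cfsg.Agent.Lib.Components.ExtendedLayer

set_option linter.all false
open scoped commutatorElement

set_option autoImplicit false
open Cfsg

namespace Cfsg.Agent.S1775

open Subgroup Cfsg.Agent.Components.Basic Cfsg.Agent.Components.Fitting Cfsg.Agent.Components.PComponents
  Cfsg.Agent.Components.Local

theorem pGen_self_of_pcomp {D : Type*} [Group D] [Finite D] [Fact (Nat.Prime 2)] {J : Subgroup D}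
    (hJ : Cfsg.IsPComponent 2 J) : J ≤ pGen 2 J := by
  conv_lhs => rw [pcomp_eq_liftComp hJ]
  refine (closure_le _).2 ?_
  rintro x ⟨hx, k, hk⟩
  refine subset_closure ⟨?_, k, hk⟩
  rw [pcomp_eq_liftComp hJ]
  exact subset_closure ⟨hx, k, hk⟩

/-- Images of `2`-components under a map with odd kernel onto a normal subgroup. -/
theorem push {D W : Type*} [Group D] [Group W] [Finite D] [Finite W] [Fact (Nat.Prime 2)] (g : D →* W)
    (hker : (Nat.card g.ker).Coprime 2) (hn : g.range.Normal) {J : Subgroup D}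
    (hJ : Cfsg.IsPComponent 2 J) :
    Cfsg.IsPComponent 2 (J.map g) ∧ J.map g ≤ pGen 2 (J.map g) := by
  have hgen : J.map g ≤ pGen 2 (J.map g) := (map_mono (pGen_self_of_pcomp hJ)).trans (map_pGen_le g J)
  have hsub : ∀ A : Subgroup D, A.IsSubnormal → (A.map g).IsSubnormal := by
    intro A hA
    have hle : A.map g ≤ g.range := map_le_range g A
    refine IsSubnormal.trans hle ?_ hn.isSubnormal
    convert hA.map g.rangeRestrict_surjective using 1
    ext w
    constructor
    · rintro ⟨a, ha, e⟩; exact ⟨a, ha, Subtype.ext e⟩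
    · rintro ⟨a, ha, rfl⟩; exact ⟨a, ha, rfl⟩
  set R := Cfsg.pPrimeCore 2 W with hR
  set q := QuotientGroup.mk' R with hq
  have hO : (Cfsg.pPrimeCore 2 D).map g ≤ R :=
    le_pPrimeCore_of_isSubnormal (hsub _ (inferInstance : (Cfsg.pPrimeCore 2 D).Normal).isSubnormal)
      ((Cores.pPrimeCore_card_coprime (G := D) 2).coprime_dvd_left (Subgroup.card_map_dvd _ _))
  set qD := QuotientGroup.mk' (Cfsg.pPrimeCore 2 D) with hqD
  obtain ⟨hJs, hJc, hJmin⟩ := hJ
  have hJ' : Cfsg.IsPComponent 2 J := ⟨hJs, hJc, hJmin⟩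
  refine ⟨⟨hsub J hJs, ⟨(hsub J hJs).map (QuotientGroup.mk'_surjective R), ?_⟩, ?_⟩, hgen⟩
  · let h : D ⧸ Cfsg.pPrimeCore 2 D →* W ⧸ R := QuotientGroup.lift _ (q.comp g) (fun a ha =>
      MonoidHom.mem_ker.2 ((QuotientGroup.eq_one_iff (g a)).2 (hO (mem_map_of_mem g ha))))
    have he : (J.map qD).map h = (J.map g).map q := by
      rw [Subgroup.map_map, Subgroup.map_map]
      rfl
    have : Nontrivial ((J.map qD).map h) := by
      rw [he, nontrivial_iff_ne_bot]
      intro hb
      rw [Subgroup.map_eq_bot_iff, QuotientGroup.ker_mk'] at hb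
      refine pcomp_ne_bot hJ' (le_bot_iff.1 ((pGen_self_of_pcomp hJ').trans ((closure_le _).2 ?_)))
      rintro x ⟨hx, k, hk⟩
      have h1 : g x = 1 := by
        have hc := coprime_orderOf_of_mem (Cores.pPrimeCore_card_coprime (G := W) 2) (hb (mem_map_of_mem g hx))
        have hd : orderOf (g x) ∣ 2 ^ k := orderOf_dvd_of_pow_eq_one (by rw [← map_pow, hk, map_one])
        exact orderOf_eq_one_iff.1 (Nat.eq_one_of_dvd_coprimes (hc.pow_right k) dvd_rfl hd)
      have hc := coprime_orderOf_of_mem hker (MonoidHom.mem_ker.2 h1)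
      exact mem_bot.2 (orderOf_eq_one_iff.1 (Nat.eq_one_of_dvd_coprimes (hc.pow_right k) dvd_rfl
        (orderOf_dvd_of_pow_eq_one hk)))
    have := isQuasisimple_of_surjective (MonoidHom.subgroupMap_surjective h (J.map qD)) hJc.2
    exact quasisimple_of_mulEquiv (MulEquiv.subgroupCongr he) this
  · intro H hH hle hmap
    exact le_antisymm hle (hgen.trans (pGen_le_of_map_eq R (Cores.pPrimeCore_card_coprime 2) hle hH hmap))

/-- A subnormal perfect subgroup generated by 2-elements, centralizing the odd core, centralizes every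
odd-order subgroup it normalizes. -/
theorem commutator_eq_bot {W : Type*} [Group W] [Finite W] [Fact (Nat.Prime 2)] {K E : Subgroup W}
    (hK : K.IsSubnormal) (hperf : ⁅K, K⁆ = K) (hgen : K ≤ pGen 2 K)
    (hcore : ⁅K, Cfsg.pPrimeCore 2 W⁆ = ⊥) (hE : Odd (Nat.card E)) (hn : K ≤ normalizer (E : Set W)) :
    ⁅K, E⁆ = ⊥ := by
  set M := K ⊔ E
  have hEc : (Nat.card E).Coprime 2 := Nat.coprime_two_right.2 hE
  have hidx : (K.subgroupOf M).index.Coprime 2 := by
    refine hEc.coprime_dvd_left ?_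
    have h1 : Nat.card M ∣ Nat.card K * Nat.card E := by
      haveI : (E.subgroupOf M).Normal := normal_subgroupOf_of_le_normalizer (sup_le hn le_normalizer)
      have h2 := Cores.card_sup_dvd_mul (K.subgroupOf M) (E.subgroupOf M)
      rwa [← subgroupOf_sup (le_sup_left : K ≤ M) (le_sup_right : E ≤ M), subgroupOf_self, Subgroup.card_top,
        Nat.card_congr (subgroupOfEquivOfLe (le_sup_left : K ≤ M)).toEquiv,
        Nat.card_congr (subgroupOfEquivOfLe (le_sup_right : E ≤ M)).toEquiv] at h2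
    rw [← (K.subgroupOf M).card_mul_index,
      Nat.card_congr (subgroupOfEquivOfLe (le_sup_left : K ≤ M)).toEquiv] at h1
    exact Nat.dvd_of_mul_dvd_mul_left Nat.card_pos h1
  have hKM : K = pGen 2 M := by
    refine le_antisymm (hgen.trans ((closure_le _).2 ?_)) ((closure_le _).2 ?_)
    · rintro x ⟨hx, k, hk⟩
      exact subset_closure ⟨le_sup_left (a := K) hx, k, hk⟩
    · rintro x ⟨hx, k, hk⟩
      exact mem_of_isSubnormal_of_coprime_index (hK.subgroupOf (K := M)) hidx (x := ⟨x, hx⟩) (k := k)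
        (Subtype.ext hk)
  have hEK : E ≤ normalizer (K : Set W) := by
    rw [hKM]
    exact le_sup_right.trans (le_normalizer.trans (normalizer_le_normalizer_pGen M))
  have hN : ⁅K, E⁆ ≤ K ⊓ E :=
    le_inf (le_normalizer_iff_commutator_le_left.1 hEK) (le_normalizer_iff_commutator_le_right.1 hn)
  have hNO : K ⊓ E ≤ Cfsg.pPrimeCore 2 W := by
    refine le_pPrimeCore_of_isSubnormal ?_ (hEc.coprime_dvd_left (card_dvd_of_le inf_le_right))
    refine IsSubnormal.trans inf_le_left ?_ hK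
    rw [inf_subgroupOf_left]
    exact (normal_subgroupOf_of_le_normalizer hn).isSubnormal
  have h1 : ⁅⁅K, E⁆, K⁆ = ⊥ := by
    rw [← le_bot_iff, ← hcore]
    exact (commutator_comm _ _).le.trans (commutator_mono le_rfl (hN.trans hNO))
  have h2 : ⁅⁅E, K⁆, K⁆ = ⊥ := by rw [commutator_comm E K, h1]
  have h3 := commutator_commutator_eq_bot_of_rotate h1 h2
  rwa [hperf] at h3

/-- Let G be a finite group whose generalized Fitting subgroup is a non-abelian simple group and in which every proper section (every quotient H/N of a proper subgroup H, or of G by a nontrivial normal subgroup) has the B-property. Let x, y be commuting involutions, let D be the intersection of the 2-layer of C_G(x) with C_G(y), and let J be a 2-component of D. Write Q for the quotient of C_G(y) by its largest normal odd-order subgroup. Then (i) the image of J in Q is a component of the centralizer in Q of the image of x; and (ii) for every J-invariant subgroup E of odd order of C_G(x) ∩ C_G(y),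 the commutator subgroup [J, E] lies in the largest normal odd-order subgroup of C_G(y). -/
theorem result {G : Type*} [Group G] [Finite G]
    (hF : IsSimpleGroup ↥(Cfsg.generalizedFittingSubgroup G)) (hF' : ¬ IsMulCommutative ↥(Cfsg.generalizedFittingSubgroup G))
    (hsec : ∀ (H : Subgroup G) (N : Subgroup ↥H) [N.Normal], (H ≠ ⊤ ∨ N ≠ ⊥) → Cfsg.HasBProperty (↥H ⧸ N))
    (x y : G) (hx : orderOf x = 2) (hy : orderOf y = 2) (hxy : x * y = y * x)
    (J : Subgroup ↥((Cfsg.pLayer 2 ↥(Subgroup.centralizer ({x} : Set G))).map (Subgroup.centralizer ({x} : Set G)).subtype ⊓ Subgroup.centralizer ({y} : Set G)))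
    (hJ : Cfsg.IsPComponent 2 J) :
    Cfsg.IsComponent
        ((((J.map (Subgroup.subtype _)).subgroupOf (Subgroup.centralizer ({y} : Set G))).map (QuotientGroup.mk' (Cfsg.oddCore ↥(Subgroup.centralizer ({y} : Set G))))).subgroupOf
          (Subgroup.centralizer ({(QuotientGroup.mk' (Cfsg.oddCore ↥(Subgroup.centralizer ({y} : Set G))) ⟨x, Subgroup.mem_centralizer_singleton_iff.mpr hxy⟩ : ↥(Subgroup.centralizer ({y} : Set G)) ⧸ Cfsg.oddCore ↥(Subgroup.centralizer ({y} : Set G)))} : Set _))) ∧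
      ∀ E : Subgroup G, E ≤ Subgroup.centralizer ({x} : Set G) ⊓ Subgroup.centralizer ({y} : Set G) → Odd (Nat.card ↥E) →
        (∀ j ∈ J.map (Subgroup.subtype _), ∀ e ∈ E, j * e * j⁻¹ ∈ E) →
          ⁅J.map (Subgroup.subtype _), E⁆ ≤ (Cfsg.oddCore ↥(Subgroup.centralizer ({y} : Set G))).map (Subgroup.centralizer ({y} : Set G)).subtype := by
  haveI : Fact (Nat.Prime 2) := ⟨Nat.prime_two⟩
  revert hJ J
  set Y := Subgroup.centralizer ({y} : Set G) with hYdef
  set R := Cfsg.oddCore ↥Y with hRdef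
  set q := QuotientGroup.mk' R with hqdef
  set x' : Y := ⟨x, Subgroup.mem_centralizer_singleton_iff.mpr hxy⟩ with hx'
  set W := Subgroup.centralizer ({q x'} : Set (↥Y ⧸ R)) with hWdef
  set A := (Cfsg.pLayer 2 ↥(Subgroup.centralizer ({x} : Set G))).map
    (Subgroup.centralizer ({x} : Set G)).subtype ⊓ Y with hAdef
  intro J hJ
  have hR2 : (Nat.card R).Coprime 2 := Cores.pPrimeCore_card_coprime 2
  have hYtop : Y ≠ ⊤ := by
    intro h
    haveI := hF
    have hyc : y ∈ Subgroup.center G := Subgroup.mem_center_iff.2 fun g =>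
      Subgroup.mem_centralizer_singleton_iff.1 (h ▸ Subgroup.mem_top g : g ∈ Y)
    have hyF : y ∈ Cfsg.generalizedFittingSubgroup G := centralizer_genFitting_le (Subgroup.mem_centralizer_iff.2
      fun g _ => Subgroup.mem_center_iff.1 hyc g)
    have hc : (⟨y, hyF⟩ : Cfsg.generalizedFittingSubgroup G) ∈ Subgroup.center _ :=
      Subgroup.mem_center_iff.2 fun g => Subtype.ext (Subgroup.mem_center_iff.1 hyc g)
    rcases IsSimpleGroup.eq_bot_or_eq_top_of_normal (Subgroup.center ↥(Cfsg.generalizedFittingSubgroup G))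
      inferInstance with h1 | h1
    · rw [h1, Subgroup.mem_bot] at hc
      rw [show y = 1 from congrArg Subtype.val hc, orderOf_one] at hy
      omega
    · exact hF' ⟨⟨fun a b => Subgroup.mem_center_iff.1
        (h1 ▸ Subgroup.mem_top b : b ∈ Subgroup.center ↥(Cfsg.generalizedFittingSubgroup G)) a⟩⟩
  have hordq : orderOf (q x') = 2 := by
    have hx'2 : orderOf x' = 2 := by rw [← Subgroup.orderOf_coe]; exact hx
    refine orderOf_eq_prime ?_ ?_
    · have h1 := pow_orderOf_eq_one x'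
      rw [hx'2] at h1
      rw [← map_pow, h1, map_one]
    · intro h1
      have := coprime_orderOf_of_mem hR2 ((QuotientGroup.eq_one_iff x').1 h1)
      rw [hx'2] at this
      norm_num at this
  have hB : ⁅Cfsg.pLayer 2 W, Cfsg.pPrimeCore 2 W⁆ = ⊥ := by
    have := hsec Y R (Or.inl hYtop) (q x') hordq
    rw [show Cfsg.oddCore (↥Y ⧸ R) = ⊥ from Cores.pPrimeCore_quotient_self 2, le_bot_iff] at this
    exact (Subgroup.map_eq_bot_iff_of_injective _ W.subtype_injective).1 this
  have hAx : ∀ a : A, (a : G) * x = x * a := fun a => by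
    obtain ⟨c, -, hc⟩ := a.2.1
    rw [← hc]
    exact Subgroup.mem_centralizer_singleton_iff.1 c.2
  let g : A →* W :=
    { toFun := fun a => ⟨q ⟨a, a.2.2⟩, Subgroup.mem_centralizer_singleton_iff.2 (by
        rw [← map_mul, ← map_mul]; exact congrArg q (Subtype.ext (hAx a)))⟩
      map_one' := Subtype.ext (map_one q)
      map_mul' := fun a b => Subtype.ext (map_mul q ⟨a, a.2.2⟩ ⟨b, b.2.2⟩) }
  have hker : (Nat.card g.ker).Coprime 2 := by
    refine hR2.coprime_dvd_left ?_
    let i : g.ker →* R :=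
      { toFun := fun a => ⟨⟨(a : A), (a : A).2.2⟩, (QuotientGroup.eq_one_iff _).1
          (congrArg Subtype.val (MonoidHom.mem_ker.1 a.2))⟩
        map_one' := rfl
        map_mul' := fun a b => rfl }
    exact Subgroup.card_dvd_of_injective i fun a b h => Subtype.ext (Subtype.ext (congrArg (fun r : R => ((r : Y) : G)) h))
  have hsurj : ∀ w : W, ∃ c : Y, (c : G) * x = x * c ∧ q c = w := by
    intro w
    have hP : IsPGroup 2 (Subgroup.zpowers x') := IsPGroup.of_card (n := 1) (by
      rw [Nat.card_zpowers, ← Subgroup.orderOf_coe, pow_one]; exact hx)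
    have hw : (w : ↥Y ⧸ R) ∈ Subgroup.centralizer (((Subgroup.zpowers x').map q : Subgroup _) : Set (↥Y ⧸ R)) := by
      rw [MonoidHom.map_zpowers]
      rintro _ ⟨i, rfl⟩
      exact ((show Commute (w : ↥Y ⧸ R) (q x') from Subgroup.mem_centralizer_singleton_iff.1 w.2).zpow_right i).eq.symm
    rw [← map_centralizer_eq hP hR2] at hw
    obtain ⟨c, hc, hcw⟩ := hw
    exact ⟨c, (congrArg Subtype.val (Subgroup.mem_centralizer_iff.1 hc x' (Subgroup.mem_zpowers x'))).symm, hcw⟩
  have hrange : g.range.Normal := by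
    refine ⟨fun n hn w => ?_⟩
    obtain ⟨a, rfl⟩ := hn
    obtain ⟨c, hc, hcw⟩ := hsurj w
    have hca : (c : G) * a * (c : G)⁻¹ ∈ A := by
      refine ⟨?_, Y.mul_mem (Y.mul_mem c.2 a.2.2) (Y.inv_mem c.2)⟩
      obtain ⟨b, hb, hba⟩ := a.2.1
      refine ⟨⟨c, Subgroup.mem_centralizer_singleton_iff.2 hc⟩ * b * ⟨c, Subgroup.mem_centralizer_singleton_iff.2 hc⟩⁻¹,
        (Components.ExtendedLayer.pLayer_normal (G := ↥(Subgroup.centralizer ({x} : Set G))) (p := 2)).conj_mem _ hb _, ?_⟩
      rw [← hba]; rfl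
    refine ⟨⟨_, hca⟩, Subtype.ext ?_⟩
    show q (c * ⟨a, a.2.2⟩ * c⁻¹) = (w : ↥Y ⧸ R) * q ⟨a, a.2.2⟩ * (w : ↥Y ⧸ R)⁻¹
    rw [map_mul, map_mul, map_inv, hcw]
  obtain ⟨hP, hgen⟩ := push g hker hrange hJ
  have hcore : ⁅J.map g, Cfsg.pPrimeCore 2 W⁆ = ⊥ :=
    le_bot_iff.1 ((Subgroup.commutator_mono (le_sSup hP) le_rfl).trans hB.le)
  refine ⟨?_, ?_⟩
  · have hqs : Cfsg.IsQuasisimple ↥(J.map g) := (pcomp_isQuasisimple_iff hP).2
      (le_bot_iff.1 ((Subgroup.commutator_mono le_rfl inf_le_left).trans hcore.le))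
    suffices heq : (((J.map A.subtype).subgroupOf Y).map q).subgroupOf W = J.map g by
      exact heq.symm ▸ (⟨hP.1, hqs⟩ : Cfsg.IsComponent (J.map g))
    ext w
    constructor
    · rintro ⟨c, ⟨j, hj, hjc⟩, hcw⟩
      refine ⟨j, hj, Subtype.ext ?_⟩
      show q ⟨j, j.2.2⟩ = (w : ↥Y ⧸ R)
      rw [← show q c = (w : ↥Y ⧸ R) from hcw]
      exact congrArg q (Subtype.ext hjc)
    · rintro ⟨j, hj, rfl⟩
      exact ⟨⟨j, j.2.2⟩, ⟨j, hj, rfl⟩, rfl⟩
  · intro E hE hEodd hJE
    let e : E →* W :=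
      { toFun := fun a => ⟨q ⟨a, (hE a.2).2⟩, Subgroup.mem_centralizer_singleton_iff.2 (by
          rw [← map_mul, ← map_mul]
          exact congrArg q (Subtype.ext (Subgroup.mem_centralizer_singleton_iff.1 (hE a.2).1)))⟩
        map_one' := Subtype.ext (map_one q)
        map_mul' := fun a b => Subtype.ext (map_mul q ⟨a, (hE a.2).2⟩ ⟨b, (hE b.2).2⟩) }
    have hEo : Odd (Nat.card e.range) := Odd.of_dvd_nat hEodd (Subgroup.card_range_dvd e)
    have hn : J.map g ≤ Subgroup.normalizer (e.range : Set W) := by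
      refine Subgroup.le_normalizer_iff.2 ?_
      rintro _ ⟨j, hj, rfl⟩ _ ⟨a, rfl⟩
      refine ⟨⟨(j : G) * a * (j : G)⁻¹, hJE j ⟨j, hj, rfl⟩ a a.2⟩, Subtype.ext ?_⟩
      show q _ = q ⟨j, j.2.2⟩ * q ⟨a, (hE a.2).2⟩ * (q ⟨j, j.2.2⟩)⁻¹
      rw [← map_inv, ← map_mul, ← map_mul]
      rfl
    have hz := commutator_eq_bot hP.1 (pcomp_perfect hP) hgen hcore hEo hn
    rw [Subgroup.commutator_le]
    rintro _ ⟨j, hj, rfl⟩ a ha
    have h1 : ⁅g j, e ⟨a, ha⟩⁆ = 1 := by
      have := Subgroup.commutator_mem_commutator (Subgroup.mem_map_of_mem g hj) (MonoidHom.mem_range.2 ⟨⟨a, ha⟩, rfl⟩ : e ⟨a, ha⟩ ∈ e.range)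
      rwa [hz, Subgroup.mem_bot] at this
    refine ⟨⁅(⟨(j : G), j.2.2⟩ : Y), ⟨a, (hE ha).2⟩⁆, ?_, map_commutatorElement Y.subtype _ _⟩
    rw [SetLike.mem_coe, ← QuotientGroup.eq_one_iff]
    have h2 := congrArg Subtype.val h1
    exact ((map_commutatorElement q _ _).trans h2)

end Cfsg.Agent.S1775
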