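import Cfsg.Statements.S1776
import Cfsg.Agent.Lib.J2Type.OneClass.Main
import Cfsg.Agent.Lib.J2Type.TwoClass.Final

set_option autoImplicit false
open Cfsg

namespace Cfsg.Agent.S1776

/-- Let G be a finite simple group whose Sylow 2-subgroups are isomorphic to a Sylow 2-subgroup of the second Janko group. Then G is isomorphic to the second Janko group or to the third Janko group. -/
theorem result {G : Type*} [Group G] [Finite G] [IsSimpleGroup G]
    (S : Sylow 2 G) (P : Sylow 2 Cfsg.Spor.J2) (hS : Nonempty (↥(S : Subgroup G) ≃* ↥(P : Subgroup Cfsg.Spor.J2))) :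
    Cfsg.Spor.IsoJ2 G ∨ Cfsg.Spor.IsoJ3 G := by
  obtain ⟨ρ, F⟩ := J2Type.exists_syl P hS
  have hN := F.Q_normal_mod_core (J2Type.index_ne_two_of_simple F)
  refine F.isoJ2_or_isoJ3 hN ?_
  by_cases h : IsConj (ρ 16) (ρ 416)
  · exact F.oddCore_bot_one_class hN fun v hv =>
      (F.two_classes hN hv).elim id fun e => e.trans h.symm
  · exact F.oddCore_bot_two_class h

end Cfsg.Agent.S1776
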