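import Cfsg.Statements.S1780


set_option autoImplicit false
open Cfsg

namespace Cfsg.Agent.S1780

theorem fix_involution {A : Type*} [CommGroup A] (t : MulAut A) (k : ℕ) (hk : t ^ 2 ^ k = 1)
    (hC : ∀ a : A, t (t a) = a → t a = a) (v : A) (hv : v ^ 2 = 1) : t v = v := by
  let D : A → A := fun a => t a * a
  have hsq : ∀ a : A, a ^ 2 = 1 → a * a = 1 := fun a ha => by rw [← sq]; exact ha
  have hclosed : ∀ (i : ℕ) (a : A), a ^ 2 = 1 → (D^[i] a) ^ 2 = 1 := by
    intro i
    induction i with
    | zero => exact fun a ha => ha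
    | succ i ih =>
      intro a ha
      rw [Function.iterate_succ_apply]
      exact ih _ (by simp only [D, mul_pow, ← map_pow, ha, map_one, mul_one])
  have hpow : ∀ (j : ℕ) (a : A), a ^ 2 = 1 → D^[2 ^ j] a = (t ^ 2 ^ j) a * a := by
    intro j
    induction j with
    | zero => intro a _; simp [D]
    | succ j ih =>
      intro a ha
      rw [pow_succ, mul_two, Function.iterate_add_apply]
      rw [ih _ (hclosed _ a ha), ih a ha, map_mul]
      rw [← MulAut.mul_apply, ← pow_add]
      rw [mul_assoc, ← mul_assoc ((t ^ 2 ^ j) a) ((t ^ 2 ^ j) a) a]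
      rw [← map_mul (t ^ 2 ^ j), hsq a ha, map_one, one_mul]
  have hdesc : ∀ (i : ℕ) (a : A), a ^ 2 = 1 → D^[i] a = 1 → D a = 1 := by
    intro i
    induction i with
    | zero => intro a _ h; simp only [Function.iterate_zero_apply] at h; simp [h, D]
    | succ i ih =>
      intro a ha h
      rw [Function.iterate_succ_apply] at h
      have h2 := ih _ (hclosed 1 a ha) h
      have ht2 : t (t a) = a := by
        have h3 : t (t a) * a = 1 := by
          simp only [D, Function.iterate_one, map_mul] at h2
          rw [mul_assoc, ← mul_assoc (t a) (t a) a, ← map_mul, hsq a ha, map_one, one_mul] at h2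
          exact h2
        exact mul_right_cancel (h3.trans (hsq a ha).symm)
      simp only [D, hC a ht2, hsq a ha]
  have h1 := hdesc _ v hv (by rw [hpow k v hv, hk, MulAut.one_apply]; exact hsq v hv)
  exact mul_right_cancel ((h1 : t v * v = 1).trans (hsq v hv).symm)

/-- Let A be a finite abelian 2-group and t an automorphism of A whose order is a power of 2. If every element of A fixed by t² is fixed by t, then t fixes every element of A. -/
theorem result {A : Type*} [CommGroup A] [Finite A]
    (hA : IsPGroup 2 A) (t : MulAut A) (ht : ∃ k : ℕ, orderOf t = 2 ^ k) (hC : ∀ a : A, t (t a) = a → t a = a) :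
    ∀ a : A, t a = a := by
  obtain ⟨k, hk⟩ := ht
  have hk' : t ^ 2 ^ k = 1 := by rw [← hk, pow_orderOf_eq_one]
  suffices h : ∀ (m : ℕ) (a : A), a ^ 2 ^ m = 1 → t a = a by
    intro a
    obtain ⟨m, hm⟩ := hA a
    exact h m a hm
  intro m
  induction m with
  | zero =>
    intro a ha
    simp only [pow_zero, pow_one] at ha
    simp [ha]
  | succ m ih =>
    intro a ha
    have hsq : t (a ^ 2) = a ^ 2 := ih _ (by rw [← pow_mul, ← pow_succ', ha])
    have hu2 : (t a / a) ^ 2 = 1 := by rw [div_pow, ← map_pow, hsq, div_self']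
    have hu := fix_involution t k hk' hC (t a / a) hu2
    rw [map_div] at hu
    apply hC
    have h3 : t (t a) = (t a / a) ^ 2 * a := by
      rw [div_eq_iff_eq_mul.1 hu, sq, mul_assoc, div_mul_cancel]
    rw [h3, hu2, one_mul]

end Cfsg.Agent.S1780
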