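import Cfsg.Statements.S1781
import Mathlib

set_option linter.all false

set_option autoImplicit false
open Cfsg

namespace Cfsg.Agent.S1781

theorem key {G : Type*} [Group G] [Finite G] (A B : Subgroup G) (hAa : IsMulCommutative A)
    (hBa : IsMulCommutative B) (hA2 : IsPGroup 2 A) (hB2 : IsPGroup 2 B)
    (hti : ∀ b a : G, a ∈ A → a ≠ 1 → b * a * b⁻¹ ∈ A → b ∈ Subgroup.normalizer (A : Set G))
    (hAB : A ⊓ B = ⊥) (a : G) (ha : a ∈ A) (haN : a ∈ Subgroup.normalizer (B : Set G))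
    (ha2 : a ^ 2 ≠ 1) : B ≤ Subgroup.normalizer (A : Set G) := by
  have ha1 : a ≠ 1 := fun e => ha2 (by rw [e, one_pow])
  have hBc : ∀ x ∈ B, ∀ y ∈ B, x * y = y * x := fun x hx y hy =>
    congrArg Subtype.val (hBa.is_comm.comm (⟨x, hx⟩ : B) ⟨y, hy⟩)
  have hσ : ∀ (j : ℕ) (b : G), b ∈ B → a ^ j * b * (a ^ j)⁻¹ ∈ B := fun j b hb =>
    (Subgroup.mem_normalizer_iff.1 (Subgroup.pow_mem _ haN j) b).1 hb
  -- centralizer of `a ^ 2` in `B` is centralizer of `a`
  have hsq : ∀ b ∈ B, a ^ 2 * b = b * a ^ 2 → a * b = b * a := by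
    intro b hb hc
    have hN : b ∈ Subgroup.normalizer (A : Set G) := by
      refine hti b (a ^ 2) (Subgroup.pow_mem _ ha 2) ha2 ?_
      rw [← hc, mul_inv_cancel_right]
      exact Subgroup.pow_mem _ ha 2
    have h1 : a * b * a⁻¹ * b⁻¹ ∈ A := by
      have h := Subgroup.mul_mem _ ha ((Subgroup.mem_normalizer_iff.1 hN a⁻¹).1 (Subgroup.inv_mem _ ha))
      simpa [mul_assoc] using h
    have h2 : a * b * a⁻¹ * b⁻¹ ∈ B := Subgroup.mul_mem _
      (by simpa using hσ 1 b hb) (Subgroup.inv_mem _ hb)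
    have h3 : a * b * a⁻¹ * b⁻¹ = 1 := Subgroup.mem_bot.1 (hAB ▸ Subgroup.mem_inf.2 ⟨h1, h2⟩)
    exact mul_inv_eq_iff_eq_mul.1 (mul_inv_eq_one.1 h3)
  let P : G → Prop := fun b => b ∈ B ∧ a * b = b * a
  have hPmul : ∀ {x y}, P x → P y → P (x * y) := fun {x y} hx hy => by
    refine ⟨Subgroup.mul_mem _ hx.1 hy.1, ?_⟩
    rw [← mul_assoc, hx.2, mul_assoc, hy.2, mul_assoc]
  have hPinv : ∀ {x}, P x → P x⁻¹ := fun {x} hx =>
    ⟨Subgroup.inv_mem _ hx.1, (show Commute a x from hx.2).inv_right.eq⟩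
  have hall : ∀ b ∈ B, a * b = b * a := by
    by_contra hcon
    push Not at hcon
    obtain ⟨x, hx, hxE⟩ := hcon
    -- an element outside with square inside
    obtain ⟨b₀, hb₀, hb₀E, hb₀2⟩ : ∃ b, b ∈ B ∧ a * b ≠ b * a ∧ P (b ^ 2) := by
      obtain ⟨n, hn⟩ := hB2 ⟨x, hx⟩
      have hn' : x ^ (2 ^ n) = 1 := congrArg Subtype.val hn
      clear hn
      induction n generalizing x with
      | zero =>
        refine absurd ?_ hxE
        rw [pow_zero, pow_one] at hn'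
        simp [hn']
      | succ n ih =>
        by_cases h2 : a * x ^ 2 = x ^ 2 * a
        · exact ⟨x, hx, hxE, Subgroup.pow_mem _ hx 2, h2⟩
        · exact ih (x ^ 2) (Subgroup.pow_mem _ hx 2) h2 (by rw [← pow_mul, ← pow_succ']; exact hn')
    obtain ⟨m, hm⟩ := hA2 ⟨a, ha⟩
    have hm' : a ^ (2 ^ m) = 1 := congrArg Subtype.val hm
    obtain ⟨b, hb, hbE, hb2, hb1⟩ : ∃ b, b ∈ B ∧ a * b ≠ b * a ∧ P (b ^ 2) ∧
        P (a * b * a⁻¹ * b⁻¹) := by
      suffices h : ∀ k : ℕ, (∃ b, b ∈ B ∧ a * b ≠ b * a ∧ P (b ^ 2) ∧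
          P (a ^ (2 ^ k) * b * (a ^ (2 ^ k))⁻¹ * b⁻¹)) →
          ∃ b, b ∈ B ∧ a * b ≠ b * a ∧ P (b ^ 2) ∧ P (a * b * a⁻¹ * b⁻¹) by
        refine h m ⟨b₀, hb₀, hb₀E, hb₀2, ?_⟩
        rw [hm', inv_one, one_mul, mul_one, mul_inv_cancel]
        exact ⟨Subgroup.one_mem _, by simp⟩
      intro k
      induction k with
      | zero => simp only [pow_zero, pow_one]; exact id
      | succ k ih =>
        rintro ⟨b, hb, hbE, hb2, hbk⟩
        set j := 2 ^ k with hj
        set c := a ^ j * b * (a ^ j)⁻¹ * b⁻¹ with hc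
        have hs : a ^ j * b * (a ^ j)⁻¹ ∈ B := hσ j b hb
        by_cases hcE : a * c = c * a
        · exact ih ⟨b, hb, hbE, hb2, Subgroup.mul_mem _ hs (Subgroup.inv_mem _ hb), hcE⟩
        · have hcomm : Commute (a ^ j * b * (a ^ j)⁻¹) b⁻¹ := hBc _ hs _ (Subgroup.inv_mem _ hb)
          have hPs : P ((a ^ j * b * (a ^ j)⁻¹) ^ 2) := by
            have hcj : Commute (a ^ j) (b ^ 2) := (show Commute a (b ^ 2) from hb2.2).pow_left j
            rw [conj_pow, hcj.eq, mul_inv_cancel_right]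
            exact hb2
          refine ih ⟨c, Subgroup.mul_mem _ hs (Subgroup.inv_mem _ hb), hcE, ?_, ?_⟩
          · rw [hc, hcomm.mul_pow, inv_pow]
            exact hPmul hPs (hPinv hb2)
          · have e : a ^ j * c * (a ^ j)⁻¹ * c⁻¹ =
                (a ^ (2 ^ (k + 1)) * b * (a ^ (2 ^ (k + 1)))⁻¹ * b⁻¹) *
                  (b * (a ^ j * b * (a ^ j)⁻¹)⁻¹ * b * (a ^ j * b * (a ^ j)⁻¹)⁻¹) := by
              rw [hc, pow_succ 2 k, ← hj, pow_mul, pow_two]
              group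
            have hcomm2 : Commute b (a ^ j * b * (a ^ j)⁻¹)⁻¹ :=
              hBc _ hb _ (Subgroup.inv_mem _ hs)
            rw [e]
            refine hPmul hbk ?_
            have e2 : b * (a ^ j * b * (a ^ j)⁻¹)⁻¹ * b * (a ^ j * b * (a ^ j)⁻¹)⁻¹ =
                b ^ 2 * ((a ^ j * b * (a ^ j)⁻¹) ^ 2)⁻¹ := by
              rw [← inv_pow (a ^ j * b * (a ^ j)⁻¹) 2, ← hcomm2.mul_pow, pow_two]; exact mul_assoc _ _ _
            rw [e2]
            exact hPmul hb2 (hPinv hPs)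
    -- now `e = [a, b]` is an involution fixed by `a`
    set e := a * b * a⁻¹ * b⁻¹ with he
    have hab : a * b * a⁻¹ = e * b := by rw [he, inv_mul_cancel_right]
    have heb : Commute e b := hBc _ hb1.1 _ hb
    have he2 : e ^ 2 = 1 := by
      have h : (e * b) ^ 2 = b ^ 2 := by
        rw [← hab, conj_pow, hb2.2, mul_inv_cancel_right]
      rw [heb.mul_pow] at h
      exact mul_eq_right.1 h
    apply hbE
    apply hsq b hb
    have h4 : a ^ 2 * b * (a ^ 2)⁻¹ = b := by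
      calc a ^ 2 * b * (a ^ 2)⁻¹ = a * (a * b * a⁻¹) * a⁻¹ := by rw [pow_two]; group
        _ = a * (e * b) * a⁻¹ := by rw [hab]
        _ = (a * e) * b * a⁻¹ := by group
        _ = (e * a) * b * a⁻¹ := by rw [hb1.2]
        _ = e * (a * b * a⁻¹) := by group
        _ = e * (e * b) := congrArg (e * ·) hab
        _ = e ^ 2 * b := by rw [pow_two]; exact (mul_assoc e e b).symm
        _ = b := by rw [he2, one_mul]
    exact mul_inv_eq_iff_eq_mul.1 h4
  intro b hb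
  refine hti b a ha ha1 ?_
  rw [← hall b hb, mul_inv_cancel_right]
  exact ha

/-- Let A be an abelian 2-subgroup of the finite group G such that every conjugate of A equals A or meets A trivially, and let g ∈ G with g A g⁻¹ ≠ A. Then either the subgroup of those elements of A that normalize g A g⁻¹ is an elementary abelian 2-group, or A and g A g⁻¹ commute elementwise. -/
theorem result {G : Type*} [Group G] [Finite G] (A : Subgroup G)
    (hA2 : IsPGroup 2 ↥A) (hAa : IsMulCommutative ↥A)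
    (hti : ∀ h : G, A.map (MulAut.conj h).toMonoidHom = A ∨ A.map (MulAut.conj h).toMonoidHom ⊓ A = ⊥)
    (g : G) (hg : A.map (MulAut.conj g).toMonoidHom ≠ A) :
    Cfsg.IsElementaryAbelian 2 (A ⊓ Subgroup.normalizer ((A.map (MulAut.conj g).toMonoidHom : Subgroup G) : Set G)) ∨
      ⁅A, A.map (MulAut.conj g).toMonoidHom⁆ = ⊥ := by
  classical
  by_cases hel : Cfsg.IsElementaryAbelian 2
      (A ⊓ Subgroup.normalizer ((A.map (MulAut.conj g).toMonoidHom : Subgroup G) : Set G))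
  · exact Or.inl hel
  right
  set B := A.map (MulAut.conj g).toMonoidHom with hB
  have hAB : B ⊓ A = ⊥ := (hti g).resolve_left hg
  have htiA : ∀ b a : G, a ∈ A → a ≠ 1 → b * a * b⁻¹ ∈ A →
      b ∈ Subgroup.normalizer (A : Set G) := by
    intro b a ha ha1 hba
    rcases hti b with h | h
    · rw [Subgroup.mem_normalizer_iff]
      intro x
      constructor
      · intro hx; rw [← h]; exact ⟨x, hx, by simp⟩
      · intro hx
        rw [← h] at hx
        obtain ⟨y, hy, hyx⟩ := hx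
        simp only [MulEquiv.coe_toMonoidHom, MulAut.conj_apply] at hyx
        rwa [mul_left_cancel (mul_right_cancel hyx)] at hy
    · exfalso
      have : b * a * b⁻¹ = 1 :=
        Subgroup.mem_bot.1 (h ▸ Subgroup.mem_inf.2 ⟨⟨a, ha, by simp⟩, hba⟩)
      exact ha1 (conj_eq_one_iff.1 this)
  have htiB : ∀ b a : G, a ∈ B → a ≠ 1 → b * a * b⁻¹ ∈ B →
      b ∈ Subgroup.normalizer (B : Set G) := by
    rintro b _ ⟨a, ha, rfl⟩ ha1 ⟨a', ha', hba⟩
    simp only [MulEquiv.coe_toMonoidHom, MulAut.conj_apply] at hba ha1 ⊢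
    have h := htiA (g⁻¹ * b * g) a ha (fun e => ha1 (by simp [e])) (by
      have : g⁻¹ * b * g * a * (g⁻¹ * b * g)⁻¹ = a' := by
        have e1 : g * (g⁻¹ * b * g * a * (g⁻¹ * b * g)⁻¹) * g⁻¹ = b * (g * a * g⁻¹) * b⁻¹ := by group
        rw [← hba] at e1
        exact mul_left_cancel (mul_right_cancel e1)
      rw [this]; exact ha')
    rw [Subgroup.mem_normalizer_iff]
    intro x
    rw [hB, Subgroup.mem_map_equiv, Subgroup.mem_map_equiv]
    simp only [MulAut.conj_symm_apply]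
    rw [Subgroup.mem_normalizer_iff.1 h]
    have e2 : g⁻¹ * b * g * (g⁻¹ * x * g) * (g⁻¹ * b * g)⁻¹ = g⁻¹ * (b * x * b⁻¹) * g := by group
    rw [e2]
  have hAc : ∀ x ∈ A, ∀ y ∈ A, x * y = y * x := fun x hx y hy =>
    congrArg Subtype.val (hAa.is_comm.comm (⟨x, hx⟩ : A) ⟨y, hy⟩)
  have hBa : IsMulCommutative B := by
    refine ⟨⟨?_⟩⟩
    rintro ⟨_, x, hx, rfl⟩ ⟨_, y, hy, rfl⟩
    apply Subtype.ext
    simp only [Subgroup.coe_mul, ← map_mul]
    rw [hAc x hx y hy]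
  obtain ⟨a, ha, ha2⟩ : ∃ a, a ∈ A ⊓ Subgroup.normalizer (B : Set G) ∧ a ^ 2 ≠ 1 := by
    by_contra hc
    push Not at hc
    refine hel ⟨⟨⟨fun x y => Subtype.ext (hAc _ x.2.1 _ y.2.1)⟩⟩, hc⟩
  have hBN : B ≤ Subgroup.normalizer (A : Set G) :=
    key A B hAa hBa hA2 (hA2.map _) htiA (by rw [inf_comm]; exact hAB) a ha.1 ha.2 ha2
  have hAN : A ≤ Subgroup.normalizer (B : Set G) :=
    key B A hBa hAa (hA2.map _) hA2 htiB hAB (g * a * g⁻¹) ⟨a, ha.1, by simp⟩
      (hBN ⟨a, ha.1, by simp⟩) (by rw [conj_pow]; exact fun e => ha2 (conj_eq_one_iff.1 e))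
  rw [eq_bot_iff, Subgroup.commutator_le]
  intro x hx y hy
  rw [← hAB, Subgroup.mem_inf, commutatorElement_def]
  constructor
  · exact Subgroup.mul_mem _ ((Subgroup.mem_normalizer_iff.1 (hAN hx) y).1 hy) (Subgroup.inv_mem _ hy)
  · have := Subgroup.mul_mem _ hx ((Subgroup.mem_normalizer_iff.1 (hBN hy) x⁻¹).1 (Subgroup.inv_mem _ hx))
    simpa [mul_assoc] using this

end Cfsg.Agent.S1781
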