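import Cfsg.Statements.S1782
import Mathlib

set_option linter.all false
set_option maxHeartbeats 1600000

set_option autoImplicit false
open Cfsg

namespace Cfsg.Agent.S1782

def Comm {S : Type*} [Group S] (R T : Subgroup S) : Prop := ∀ r ∈ R, ∀ t ∈ T, r * t = t * r

theorem cmap_one {S : Type*} [Group S] (R : Subgroup S) : R.map (MulAut.conj (1 : S)).toMonoidHom = R := by
  ext x; simp [Subgroup.mem_map]

theorem cmap_mul {S : Type*} [Group S] (R : Subgroup S) (a b : S) :
    R.map (MulAut.conj (a * b)).toMonoidHom =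
      (R.map (MulAut.conj b).toMonoidHom).map (MulAut.conj a).toMonoidHom := by
  rw [Subgroup.map_map]
  congr 1
  ext x
  simp [mul_assoc]

/-- The subgroup generated by the `K`-conjugates of `R`. -/
def clo {S : Type*} [Group S] (K R : Subgroup S) : Subgroup S :=
  ⨆ k : K, R.map (MulAut.conj (k : S)).toMonoidHom

theorem clo_le_normalizer {S : Type*} [Group S] (K R : Subgroup S) :
    K ≤ Subgroup.normalizer (clo K R : Set S) := by
  have hle : ∀ k : K, (clo K R).map (MulAut.conj (k : S)).toMonoidHom ≤ clo K R := by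
    intro k
    rw [clo, Subgroup.map_iSup]
    refine iSup_le fun l => ?_
    rw [← cmap_mul]
    exact le_iSup (fun m : K => R.map (MulAut.conj (m : S)).toMonoidHom) (k * l)
  intro k hk
  rw [Subgroup.mem_normalizer_iff]
  intro x
  refine ⟨fun hx => hle ⟨k, hk⟩ ⟨x, hx, by simp⟩, fun hx => ?_⟩
  have := hle ⟨k⁻¹, K.inv_mem hk⟩ ⟨_, hx, rfl⟩
  simpa [mul_assoc] using this

theorem le_clo {S : Type*} [Group S] (K R : Subgroup S) : R ≤ clo K R :=
  (cmap_one R).symm.le.trans (le_iSup (fun m : K => R.map (MulAut.conj (m : S)).toMonoidHom) 1)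

theorem exists_normal_proper {S : Type*} [Group S] [Finite S] (hS : IsPGroup 2 S) {K R : Subgroup S}
    (hRK : R < K) : ∃ M : Subgroup S, R ≤ M ∧ M < K ∧ clo K R ≤ M := by
  haveI : Fact (Nat.Prime 2) := ⟨Nat.prime_two⟩
  have hne : R.subgroupOf K ≠ ⊤ := fun h => hRK.ne (le_antisymm hRK.le (Subgroup.subgroupOf_eq_top.1 h))
  obtain ⟨M', hM', hRM'⟩ := (eq_top_or_exists_le_coatom (R.subgroupOf K)).resolve_left hne
  haveI := (hS.to_subgroup K).isNilpotent
  haveI : M'.Normal := Subgroup.NormalizerCondition.normal_of_coatom M' Group.normalizerCondition_of_isNilpotent hM'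
  refine ⟨M'.map K.subtype, ?_, ?_, ?_⟩
  · intro r hr
    exact ⟨⟨r, hRK.le hr⟩, hRM' hr, rfl⟩
  · refine lt_of_le_of_ne (Subgroup.map_subtype_le _) fun h => hM'.1 ?_
    apply Subgroup.map_injective K.subtype_injective
    rw [h, ← MonoidHom.range_eq_map, Subgroup.range_subtype]
  · refine iSup_le fun k => ?_
    rintro _ ⟨r, hr, rfl⟩
    exact ⟨k * ⟨r, hRK.le hr⟩ * k⁻¹, Subgroup.Normal.conj_mem inferInstance _
      (hRM' (show (⟨r, hRK.le hr⟩ : K) ∈ R.subgroupOf K from hr)) k, rfl⟩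

/-- `T` normalises `R` forces `R` to normalise `T`. -/
theorem step1 {S : Type*} [Group S] [Finite S] (R T : Subgroup S) (hcard : Nat.card R = Nat.card T)
    (hint : R ⊓ T = ⊥) (hT : T ≤ Subgroup.normalizer (R : Set S))
    (hfix : ∀ x t : S, t ∈ T → t ≠ 1 → x * t * x⁻¹ = t → x ∈ Subgroup.normalizer (T : Set S))
    (hconj : ∀ r ∈ R, r ∈ Subgroup.normalizer (T : Set S) ∨
      (Comm T (T.map (MulAut.conj r).toMonoidHom) ∧ T.map (MulAut.conj r).toMonoidHom ⊓ T = ⊥)) :
    R ≤ Subgroup.normalizer (T : Set S) := by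
  intro r hr
  by_contra hrN
  obtain ⟨hcm, hdis⟩ := (hconj r hr).resolve_left hrN
  set E := R ⊓ Subgroup.normalizer (T : Set S) with hE
  have hx : ∀ t ∈ T, r * t * r⁻¹ * t⁻¹ ∈ E := by
    intro t ht
    refine ⟨?_, ?_⟩
    · have h := R.mul_mem hr ((Subgroup.mem_normalizer_iff.1 (hT ht) r⁻¹).1 (R.inv_mem hr))
      simpa [mul_assoc] using h
    · by_cases ht1 : t = 1
      · subst ht1; simp
      · refine hfix _ t ht ht1 ?_
        have h := hcm t ht _ ⟨t, ht, rfl⟩
        simp only [MulEquiv.coe_toMonoidHom, MulAut.conj_apply] at h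
        calc r * t * r⁻¹ * t⁻¹ * t * (r * t * r⁻¹ * t⁻¹)⁻¹ = (r * t * r⁻¹) * t * (r * t * r⁻¹)⁻¹ := by group
          _ = t := by rw [← h, mul_inv_cancel_right]
  have hinj : Function.Injective (fun t : T => (⟨r * t * r⁻¹ * (t : S)⁻¹, hx t t.2⟩ : E)) := by
    intro a b h
    have h' : r * a * r⁻¹ * (a : S)⁻¹ = r * b * r⁻¹ * (b : S)⁻¹ := congrArg Subtype.val h
    have h2 : r * ((b : S)⁻¹ * a) * r⁻¹ = (b : S)⁻¹ * a := by
      calc r * ((b : S)⁻¹ * a) * r⁻¹ = (r * b * r⁻¹)⁻¹ * (r * a * r⁻¹ * (a : S)⁻¹) * a := by group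
        _ = (r * b * r⁻¹)⁻¹ * (r * b * r⁻¹ * (b : S)⁻¹) * a := by rw [h']
        _ = _ := by group
    have h3 : (b : S)⁻¹ * a = 1 := Subgroup.mem_bot.1 (hdis ▸ Subgroup.mem_inf.2
      ⟨⟨(b : S)⁻¹ * a, T.mul_mem (T.inv_mem b.2) a.2, by simpa using h2⟩, T.mul_mem (T.inv_mem b.2) a.2⟩)
    exact Subtype.ext (inv_mul_eq_one.1 h3).symm
  have hlt : Nat.card E < Nat.card R := by
    rcases lt_or_eq_of_le (Subgroup.card_le_of_le (inf_le_left : E ≤ R)) with h | h
    · exact h
    · exact absurd ((Subgroup.eq_of_le_of_card_ge (inf_le_left : E ≤ R) h.ge).ge hr).2 hrN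
  have := Nat.card_le_card_of_injective _ hinj
  omega

/-- If neither normalises the other, the normalised parts are trivial. -/
theorem step2 {S : Type*} [Group S] [Finite S] (hS : IsPGroup 2 S) (R T : Subgroup S)
    (N : Subgroup S) (hint : R ⊓ T = ⊥) (hNR : N ≤ Subgroup.normalizer (R : Set S))
    (hcomm : ∀ t ∈ T, ∀ s ∈ R, s * t * s⁻¹ * t⁻¹ ∈ N)
    (hfix : ∀ x t : S, t ∈ T → t ≠ 1 → x * t * x⁻¹ = t → x ∈ Subgroup.normalizer (T : Set S))
    (t : S) (ht : t ∈ T) (hcm : Comm R (R.map (MulAut.conj t).toMonoidHom))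
    (hdis : R.map (MulAut.conj t).toMonoidHom ⊓ R = ⊥)
    (hR : ¬ R ≤ Subgroup.normalizer (T : Set S)) : R ⊓ Subgroup.normalizer (T : Set S) = ⊥ := by
  haveI : Fact (Nat.Prime 2) := ⟨Nat.prime_two⟩
  have key : ∀ s ∈ R, s ∈ Subgroup.normalizer (T : Set S) → s ≠ 1 → ∀ u ∈ R, u * s = s * u →
      u ∈ Subgroup.normalizer (T : Set S) := by
    intro s hs hsN hs1 u hu hus
    set y := s * t * s⁻¹ * t⁻¹ with hy
    have hyT : y ∈ T := T.mul_mem ((Subgroup.mem_normalizer_iff.1 hsN t).1 ht) (T.inv_mem ht)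
    have hy1 : y ≠ 1 := by
      intro h
      apply hs1
      have e : t * s * t⁻¹ = s := by
        have h2 : s * t * s⁻¹ = t := mul_inv_eq_one.1 h
        have h3 := mul_inv_eq_iff_eq_mul.1 h2
        rw [← h3, mul_inv_cancel_right]
      exact Subgroup.mem_bot.1 (hdis ▸ Subgroup.mem_inf.2 ⟨⟨s, hs, by simpa using e⟩, hs⟩)
    refine hfix u y hyT hy1 ?_
    have h2 : u * (t * s⁻¹ * t⁻¹) = t * s⁻¹ * t⁻¹ * u := hcm u hu _ ⟨s⁻¹, R.inv_mem hs, by simp⟩
    calc u * y * u⁻¹ = (u * s) * (t * s⁻¹ * t⁻¹) * u⁻¹ := by rw [hy]; group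
      _ = (s * u) * (t * s⁻¹ * t⁻¹) * u⁻¹ := by rw [hus]
      _ = s * (u * (t * s⁻¹ * t⁻¹)) * u⁻¹ := by group
      _ = s * (t * s⁻¹ * t⁻¹ * u) * u⁻¹ := by rw [h2]
      _ = y := by rw [hy]; group
  by_contra hne
  obtain ⟨⟨s, hs, hsN⟩, hs1⟩ := (Subgroup.ne_bot_iff_exists_ne_one).1 hne
  haveI : Nontrivial R := ⟨⟨⟨s, hs⟩, 1, fun h => hs1 (Subtype.ext (by simpa using congrArg Subtype.val h))⟩⟩
  haveI := (hS.to_subgroup R).center_nontrivial
  obtain ⟨z, hz⟩ := exists_ne (1 : Subgroup.center R)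
  have hzc : ∀ u ∈ R, u * (z : R) = (z : R) * u := fun u hu =>
    congrArg Subtype.val (Subgroup.mem_center_iff.1 z.2 ⟨u, hu⟩)
  have hzN : ((z : R) : S) ∈ Subgroup.normalizer (T : Set S) :=
    key s hs hsN (fun h => hs1 (Subtype.ext h)) _ (z : R).2 (hzc s hs).symm
  exact hR fun u hu => key _ (z : R).2 hzN (fun h => hz (Subtype.ext (Subtype.ext h))) u hu (hzc u hu)

/-- Let S be a finite 2-group and Δ a set of subgroups of S closed under conjugation by S, all of the same order, each with nontrivial Frattini subgroup, and such that two distinct members of Δ meet trivially. Then any two distinct members of Δ commute elementwise. -/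
theorem result {S : Type*} [Group S] [Finite S] (hS : IsPGroup 2 S)
    (Δ : Set (Subgroup S)) (hinv : ∀ s : S, ∀ R ∈ Δ, R.map (MulAut.conj s).toMonoidHom ∈ Δ)
    (hΦ : ∀ R ∈ Δ, frattini ↥R ≠ ⊥) (hord : ∀ R ∈ Δ, ∀ T ∈ Δ, Nat.card ↥R = Nat.card ↥T)
    (hti : ∀ R ∈ Δ, ∀ T ∈ Δ, R = T ∨ R ⊓ T = ⊥) :
    ∀ R ∈ Δ, ∀ T ∈ Δ, R ≠ T → ⁅R, T⁆ = ⊥ := by
  classical
  haveI : Fact (Nat.Prime 2) := ⟨Nat.prime_two⟩
  have hR1 : ∀ R ∈ Δ, R ≠ ⊥ := by
    intro R hR h
    apply hΦ R hR
    haveI : Subsingleton R := by rw [h]; infer_instance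
    exact Subsingleton.elim _ _
  have hconj : ∀ (R : Subgroup S), R ∈ Δ → ∀ x : S, x ∈ Subgroup.normalizer (R : Set S) ∨
      R.map (MulAut.conj x).toMonoidHom ⊓ R = ⊥ := by
    intro R hR x
    rcases hti _ (hinv x R hR) R hR with h | h
    · left
      rw [Subgroup.mem_normalizer_iff]
      intro a
      constructor
      · intro ha; rw [← h]; exact ⟨a, ha, by simp⟩
      · intro ha
        rw [← h] at ha
        obtain ⟨b, hb, hba⟩ := ha
        simp only [MulEquiv.coe_toMonoidHom, MulAut.conj_apply] at hba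
        rwa [mul_left_cancel (mul_right_cancel hba)] at hb
    · exact Or.inr h
  have hfix : ∀ T ∈ Δ, ∀ x t : S, t ∈ T → t ≠ 1 → x * t * x⁻¹ = t →
      x ∈ Subgroup.normalizer (T : Set S) := by
    intro T hT x t ht ht1 he
    refine (hconj T hT x).resolve_right fun h => ht1 ?_
    exact Subgroup.mem_bot.1 (h ▸ Subgroup.mem_inf.2 ⟨⟨t, ht, by simpa using he⟩, ht⟩)
  have hinf : ∀ R ∈ Δ, ∀ T ∈ Δ, R ≠ T → R ⊓ T = ⊥ := fun R hR T hT h => (hti R hR T hT).resolve_left h
  suffices h : ∀ (m : ℕ) (K : Subgroup S), Nat.card K ≤ m → ∀ R ∈ Δ, ∀ T ∈ Δ, R ≤ K → T ≤ K → R ≠ T →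
      Comm R T by
    intro R hR T hT hne
    rw [eq_bot_iff, Subgroup.commutator_le]
    intro r hr t ht
    have h := h _ ⊤ le_rfl R hR T hT le_top le_top hne r hr t ht
    rw [Subgroup.mem_bot, commutatorElement_eq_one_iff_mul_comm]
    exact h
  intro m
  induction m with
  | zero =>
    intro K hK
    exact absurd hK (by have := Nat.card_pos (α := K); omega)
  | succ m ih =>
    intro K hK R hR T hT hRK hTK hne
    have hlt : ∀ (X Y : Subgroup S), X ∈ Δ → Y ∈ Δ → Y ≤ K → X ≠ Y → X ≤ K → X < K := by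
      intro X Y hX hY hYK hXY hXK
      refine lt_of_le_of_ne hXK fun h => hR1 Y hY ?_
      rw [← inf_eq_right.2 (h ▸ hYK : Y ≤ X)]
      exact hinf X hX Y hY hXY
    -- conjugates of a member by elements of `K` commute with it
    have hpair : ∀ (X Y : Subgroup S), X ∈ Δ → Y ∈ Δ → Y ≤ K → X ≠ Y → X ≤ K → ∀ k ∈ K,
        k ∈ Subgroup.normalizer (X : Set S) ∨
        (Comm X (X.map (MulAut.conj k).toMonoidHom) ∧ X.map (MulAut.conj k).toMonoidHom ⊓ X = ⊥) := by
      intro X Y hX hY hYK hXY hXK k hk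
      rcases hconj X hX k with h | h
      · exact Or.inl h
      · refine Or.inr ⟨?_, h⟩
        obtain ⟨M, hXM, hMK, hclo⟩ := exists_normal_proper hS (hlt X Y hX hY hYK hXY hXK)
        have hk' : X.map (MulAut.conj k).toMonoidHom ≤ M :=
          (le_iSup (fun m : K => X.map (MulAut.conj (m : S)).toMonoidHom) ⟨k, hk⟩).trans hclo
        refine ih M ?_ X hX _ (hinv k X hX) hXM hk' ?_
        · have : Nat.card M < Nat.card K := by
            by_contra hc
            exact hMK.ne (Subgroup.eq_of_le_of_card_ge hMK.le (not_lt.1 hc))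
          omega
        · intro e
          rw [← e, inf_idem] at h
          exact hR1 X hX h
    have hcloN : ∀ (X Y : Subgroup S), X ∈ Δ → Y ∈ Δ → Y ≤ K → X ≠ Y → X ≤ K →
        clo K X ≤ Subgroup.normalizer (X : Set S) := by
      intro X Y hX hY hYK hXY hXK
      refine iSup_le fun k => ?_
      rcases hpair X Y hX hY hYK hXY hXK k k.2 with h | ⟨h, -⟩
      · rintro _ ⟨x, hx, rfl⟩
        simp only [MulEquiv.coe_toMonoidHom, MulAut.conj_apply]
        exact Subgroup.mul_mem _ (Subgroup.mul_mem _ h (Subgroup.le_normalizer hx)) (Subgroup.inv_mem _ h)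
      · intro y hy
        rw [Subgroup.mem_normalizer_iff]
        intro x
        constructor
        · intro hx; rw [← h x hx y hy, mul_inv_cancel_right]; exact hx
        · intro hx
          have h2 := h _ hx y hy
          have e : x = y⁻¹ * (y * x * y⁻¹) * y := by group
          rw [e, mul_assoc, h2, inv_mul_cancel_left]
          exact hx
    set N := clo K R ⊓ clo K T with hN
    have hNR : N ≤ Subgroup.normalizer (R : Set S) := inf_le_left.trans (hcloN R T hR hT hTK hne hRK)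
    have hNT : N ≤ Subgroup.normalizer (T : Set S) := inf_le_right.trans (hcloN T R hT hR hRK hne.symm hTK)
    have hmemN : ∀ t ∈ T, ∀ s ∈ R, s * t * s⁻¹ * t⁻¹ ∈ N := by
      intro t ht s hs
      have h1 : t * s⁻¹ * t⁻¹ ∈ clo K R :=
        (Subgroup.mem_normalizer_iff.1 (clo_le_normalizer K R (hTK ht)) _).1 (le_clo K R (R.inv_mem hs))
      have h2 : s * t * s⁻¹ ∈ clo K T :=
        (Subgroup.mem_normalizer_iff.1 (clo_le_normalizer K T (hRK hs)) _).1 (le_clo K T ht)
      refine ⟨?_, Subgroup.mul_mem _ h2 (Subgroup.inv_mem _ (le_clo K T ht))⟩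
      have := Subgroup.mul_mem _ (le_clo K R hs) h1
      simpa [mul_assoc] using this
    have hmemN' : ∀ s ∈ R, ∀ t ∈ T, t * s * t⁻¹ * s⁻¹ ∈ N := by
      intro s hs t ht
      have := N.inv_mem (hmemN t ht s hs)
      simpa [mul_assoc] using this
    have hboth : R ≤ Subgroup.normalizer (T : Set S) → T ≤ Subgroup.normalizer (R : Set S) → Comm R T := by
      intro h1 h2 r hr t ht
      have ha : r * t * r⁻¹ * t⁻¹ ∈ T := T.mul_mem ((Subgroup.mem_normalizer_iff.1 (h1 hr) t).1 ht) (T.inv_mem ht)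
      have hb : r * t * r⁻¹ * t⁻¹ ∈ R := by
        have h := R.mul_mem hr ((Subgroup.mem_normalizer_iff.1 (h2 ht) r⁻¹).1 (R.inv_mem hr))
        simpa [mul_assoc] using h
      have he : r * t * r⁻¹ * t⁻¹ = 1 :=
        Subgroup.mem_bot.1 (hinf R hR T hT hne ▸ Subgroup.mem_inf.2 ⟨hb, ha⟩)
      exact mul_inv_eq_iff_eq_mul.1 (mul_inv_eq_one.1 he)
    have hpT : ∀ r ∈ R, r ∈ Subgroup.normalizer (T : Set S) ∨
        (Comm T (T.map (MulAut.conj r).toMonoidHom) ∧ T.map (MulAut.conj r).toMonoidHom ⊓ T = ⊥) :=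
      fun r hr => hpair T R hT hR hRK hne.symm hTK r (hRK hr)
    have hpR : ∀ t ∈ T, t ∈ Subgroup.normalizer (R : Set S) ∨
        (Comm R (R.map (MulAut.conj t).toMonoidHom) ∧ R.map (MulAut.conj t).toMonoidHom ⊓ R = ⊥) :=
      fun t ht => hpair R T hR hT hTK hne hRK t (hTK ht)
    by_cases h1 : T ≤ Subgroup.normalizer (R : Set S)
    · exact hboth (step1 R T (hord R hR T hT) (hinf R hR T hT hne) h1 (hfix T hT) hpT) h1
    by_cases h2 : R ≤ Subgroup.normalizer (T : Set S)
    · exact hboth h2 (step1 T R (hord T hT R hR) (hinf T hT R hR hne.symm) h2 (hfix R hR) hpR)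
    exfalso
    obtain ⟨t₀, ht₀, ht₀N⟩ := SetLike.not_le_iff_exists.1 h1
    obtain ⟨r₀, hr₀, hr₀N⟩ := SetLike.not_le_iff_exists.1 h2
    obtain ⟨hc1, hd1⟩ := (hpR t₀ ht₀).resolve_left ht₀N
    obtain ⟨hc2, hd2⟩ := (hpT r₀ hr₀).resolve_left hr₀N
    have hR0 : R ⊓ Subgroup.normalizer (T : Set S) = ⊥ :=
      step2 hS R T N (hinf R hR T hT hne) hNR hmemN (hfix T hT) t₀ ht₀ hc1 hd1 h2
    have hT0 : T ⊓ Subgroup.normalizer (R : Set S) = ⊥ :=
      step2 hS T R N (hinf T hT R hR hne.symm) hNT hmemN' (hfix R hR) r₀ hr₀ hc2 hd2 h1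
    -- `N` centralises `R` and `T`
    have hcen : ∀ (X : Subgroup S), X ≤ K → N ≤ Subgroup.normalizer (X : Set S) → X ⊓ N = ⊥ →
        ∀ n ∈ N, ∀ x ∈ X, n * x = x * n := by
      intro X hXK hXN hXint n hn x hx
      have ha : n * x * n⁻¹ * x⁻¹ ∈ X := X.mul_mem ((Subgroup.mem_normalizer_iff.1 (hXN hn) x).1 hx) (X.inv_mem hx)
      have hb : n * x * n⁻¹ * x⁻¹ ∈ N := by
        have h : x * n⁻¹ * x⁻¹ ∈ N :=
          ⟨(Subgroup.mem_normalizer_iff.1 (clo_le_normalizer K R (hXK hx)) _).1 (N.inv_mem hn).1,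
           (Subgroup.mem_normalizer_iff.1 (clo_le_normalizer K T (hXK hx)) _).1 (N.inv_mem hn).2⟩
        have := N.mul_mem hn h
        simpa [mul_assoc] using this
      exact mul_inv_eq_iff_eq_mul.1 (mul_inv_eq_one.1
        (Subgroup.mem_bot.1 (hXint ▸ Subgroup.mem_inf.2 ⟨ha, hb⟩)))
    have hRN : R ⊓ N = ⊥ := le_bot_iff.1 ((inf_le_inf_left R hNT).trans hR0.le)
    have hTN : T ⊓ N = ⊥ := le_bot_iff.1 ((inf_le_inf_left T hNR).trans hT0.le)
    -- an element of `T` with nontrivial square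
    obtain ⟨t, ht, ht2⟩ : ∃ t ∈ T, t * t ≠ 1 := by
      by_contra hc
      push Not at hc
      apply hΦ T hT
      have hcomm : ∀ a b : T, a * b = b * a := by
        intro a b
        have ha := inv_eq_of_mul_eq_one_right (hc a a.2)
        have hb := inv_eq_of_mul_eq_one_right (hc b b.2)
        have hab := inv_eq_of_mul_eq_one_right (hc _ (T.mul_mem a.2 b.2))
        apply Subtype.ext
        rw [mul_inv_rev, ha, hb] at hab
        exact hab.symm
      haveI : IsMulCommutative T := ⟨⟨hcomm⟩⟩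
      rw [eq_bot_iff]
      intro x hx
      by_contra hx1
      -- an elementary abelian group has a maximal subgroup avoiding `x`
      obtain ⟨H, hH, hmax⟩ := (Set.toFinite {H : Subgroup T | x ∉ H}).exists_le_maximal
        (a := (⊥ : Subgroup T)) (by simpa using hx1)
      refine hmax.1 (?_ : x ∈ H)
      have hco : IsCoatom H := by
        refine ⟨fun h => hmax.1 (h ▸ Subgroup.mem_top x), fun H' hH' => ?_⟩
        have hxH' : x ∈ H' := by
          by_contra hc'
          exact hH'.ne (le_antisymm hH'.le (hmax.2 hc' hH'.le))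
        rw [Subgroup.eq_top_iff']
        intro y
        by_contra hy
        have hxy : x ∈ H ⊔ Subgroup.zpowers y := by
          by_contra hc'
          have := hmax.2 hc' le_sup_left
          exact hy (hH'.le (this (Subgroup.mem_sup_right (Subgroup.mem_zpowers y))))
        haveI : H.Normal := ⟨fun n hn g => by rw [hcomm g n, mul_inv_cancel_right]; exact hn⟩
        obtain ⟨a, ha, b, hb, hab⟩ := Subgroup.mem_sup_of_normal_left.1 hxy
        obtain ⟨i, rfl⟩ := hb
        simp only at hab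
        have hy2 : y * y = 1 := Subtype.ext (hc y y.2)
        rcases Int.even_or_odd i with ⟨j, hj⟩ | ⟨j, hj⟩
        · rw [hj, zpow_add, ← Commute.mul_zpow (Commute.refl y), hy2, one_zpow, mul_one] at hab
          exact hmax.1 (hab ▸ ha)
        · rw [hj, zpow_add, zpow_one, zpow_mul, zpow_ofNat, pow_two, hy2, one_zpow, one_mul] at hab
          refine hy ?_
          have h := H'.mul_mem (H'.inv_mem (hH'.le ha)) hxH'
          rwa [← hab, inv_mul_cancel_left] at h
      exact frattini_le_coatom hco hx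
    obtain ⟨r, hr⟩ : ∃ r : R, orderOf r = 2 := by
      apply exists_prime_orderOf_dvd_card' 2
      obtain ⟨k, hk⟩ := IsPGroup.iff_card.1 (hS.to_subgroup R)
      cases k with
      | zero => exact absurd (Subgroup.eq_bot_of_card_eq R (by simpa using hk)) (hR1 R hR)
      | succ k => exact hk ▸ dvd_pow_self 2 k.succ_ne_zero
    have hr2 : (r : S) * r = 1 := by
      have := pow_orderOf_eq_one r
      rw [hr, pow_two] at this
      exact congrArg Subtype.val this
    set a := t * r * t⁻¹ * (r : S)⁻¹ with ha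
    have haN : a ∈ N := hmemN' r r.2 t ht
    have hat : a * t = t * a := hcen T hTK hNT hTN a haN t ht
    have har : a * r = r * a := hcen R hRK hNR hRN a haN r r.2
    have e1 : t * (r : S) * t⁻¹ = a * r := by rw [ha, inv_mul_cancel_right]
    have ha2 : a * a = 1 := by
      calc a * a = a * r * (a * r) := by
            rw [mul_assoc a (r : S), ← mul_assoc (r : S) a, ← har, mul_assoc a (r : S) r, hr2, mul_one]
        _ = t * r * t⁻¹ * (t * r * t⁻¹) := by rw [e1]
        _ = t * (r * r) * t⁻¹ := by group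
        _ = 1 := by rw [hr2]; group
    have e2 : t * t * (r : S) * (t * t)⁻¹ = r := by
      calc t * t * (r : S) * (t * t)⁻¹ = t * (t * r * t⁻¹) * t⁻¹ := by group
        _ = t * a * r * t⁻¹ := by rw [e1]; exact congrArg (· * t⁻¹) (mul_assoc t a (r : S)).symm
        _ = a * t * r * t⁻¹ := by rw [hat]
        _ = a * (t * r * t⁻¹) := by group
        _ = a * a * r := by rw [e1]; exact (mul_assoc a a (r : S)).symm
        _ = r := by rw [ha2, one_mul]
    have htN := hfix R hR (t * t) r r.2 (fun h => by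
      have : r = 1 := Subtype.ext h
      rw [this, orderOf_one] at hr
      omega) e2
    exact ht2 (Subgroup.mem_bot.1 (hT0 ▸ Subgroup.mem_inf.2 ⟨T.mul_mem ht ht, htN⟩))

end Cfsg.Agent.S1782
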