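import Cfsg.Statements.S1783
import Mathlib
import Cfsg.Agent.S1782
import Cfsg.Agent.Lib.Coprime.Commutator
import Cfsg.Agent.Lib.CharP.Coprime
import Cfsg.Agent.Lib.Components.Fitting
import Cfsg.Agent.Lib.Cores.Basic

set_option linter.all false

set_option autoImplicit false
open Cfsg

namespace Cfsg.Agent.S1783

theorem sq_mem_frattini {P : Type*} [Group P] [Finite P] (hP : IsPGroup 2 P) (a : P) :
    a ^ 2 ∈ frattini P := by
  haveI : Fact (Nat.Prime 2) := ⟨Nat.prime_two⟩
  haveI := hP.isNilpotent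
  change a ^ 2 ∈ Order.radical (Subgroup P)
  rw [Order.radical]
  simp only [Subgroup.mem_iInf]
  intro M hM
  haveI := Subgroup.NormalizerCondition.normal_of_coatom M Group.normalizerCondition_of_isNilpotent hM
  by_contra hc
  have htop : M ⊔ Subgroup.zpowers (a ^ 2) = ⊤ := hM.2 _ (lt_of_le_of_ne le_sup_left fun h =>
    hc (h.ge (Subgroup.mem_sup_right (Subgroup.mem_zpowers _))))
  obtain ⟨m, hm, y, hy, hmy⟩ := Subgroup.mem_sup_of_normal_left.1
    (htop.ge (Subgroup.mem_top a))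
  obtain ⟨i, rfl⟩ := hy
  simp only [] at hmy
  have hma : a ^ (1 - 2 * i) ∈ M := by
    rw [zpow_sub, zpow_one, zpow_mul, zpow_ofNat]
    nth_rewrite 1 [← hmy]
    rwa [mul_inv_cancel_right]
  apply hc
  obtain ⟨k, hk⟩ := hP a
  have hcop : IsCoprime (1 - 2 * i) ((2 : ℤ) ^ k) :=
    IsCoprime.pow_right ⟨1, i, by ring⟩
  obtain ⟨u, v, huv⟩ := hcop
  have ha : a ∈ M := by
    have h : a ^ ((2 : ℤ) ^ k) = 1 := by exact_mod_cast hk
    have h2 := M.zpow_mem hma u
    rw [← zpow_mul, mul_comm, ← mul_one (a ^ (u * (1 - 2 * i))),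
      show (1 : P) = a ^ (v * (2 : ℤ) ^ k) by rw [mul_comm v, zpow_mul, h, one_zpow],
      ← zpow_add, huv, zpow_one] at h2
    exact h2
  exact M.pow_mem ha 2

/-- A TI family of conjugate subgroups inside a 2-subgroup commutes pairwise. -/
theorem pairwise_commute {X : Type*} [Group X] [Finite X] (S : Subgroup X) (hS : IsPGroup 2 S)
    (Δ : Set (Subgroup X)) (hle : ∀ R ∈ Δ, R ≤ S)
    (hinv : ∀ s ∈ S, ∀ R ∈ Δ, R.map (MulAut.conj s).toMonoidHom ∈ Δ)
    (hsq : ∀ R ∈ Δ, ∃ a ∈ R, a ^ 2 ≠ 1) (hord : ∀ R ∈ Δ, ∀ T ∈ Δ, Nat.card R = Nat.card T)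
    (hti : ∀ R ∈ Δ, ∀ T ∈ Δ, R = T ∨ R ⊓ T = ⊥) :
    ∀ R ∈ Δ, ∀ T ∈ Δ, R ≠ T → ∀ r ∈ R, ∀ t ∈ T, r * t = t * r := by
  classical
  intro R hR T hT hne r hr t ht
  let Δ' : Set (Subgroup S) := {R' | R'.map S.subtype ∈ Δ}
  have hcard : ∀ R' : Subgroup S, Nat.card ↥(R'.map S.subtype) = Nat.card R' := fun R' =>
    (Nat.card_congr (R'.equivMapOfInjective _ S.subtype_injective).toEquiv).symm
  have h := Cfsg.Agent.S1782.result hS Δ' (fun s R' hR' => by
      show (R'.map (MulAut.conj s).toMonoidHom).map S.subtype ∈ Δ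
      have e : (R'.map (MulAut.conj s).toMonoidHom).map S.subtype =
          (R'.map S.subtype).map (MulAut.conj (s : X)).toMonoidHom := by
        rw [Subgroup.map_map, Subgroup.map_map]
        congr 1
      rw [e]
      exact hinv s s.2 _ hR')
    (fun R' hR' hbot => by
      obtain ⟨a, ⟨a', ha', rfl⟩, ha2⟩ := hsq _ hR'
      apply ha2
      have h1 := sq_mem_frattini (hS.to_subgroup R') ⟨a', ha'⟩
      rw [hbot, Subgroup.mem_bot] at h1
      exact congrArg (fun x : R' => ((x : S) : X)) h1)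
    (fun A hA B hB => by rw [← hcard A, ← hcard B]; exact hord _ hA _ hB)
    (fun A hA B hB => by
      rcases hti _ hA _ hB with h | h
      · exact Or.inl (Subgroup.map_injective S.subtype_injective h)
      · rw [← Subgroup.map_inf _ _ _ S.subtype_injective,
          Subgroup.map_eq_bot_iff_of_injective _ S.subtype_injective] at h
        exact Or.inr h)
    (R.subgroupOf S) (by show _ ∈ Δ; rw [Subgroup.subgroupOf_map_subtype, inf_eq_left.2 (hle R hR)]; exact hR)
    (T.subgroupOf S) (by show _ ∈ Δ; rw [Subgroup.subgroupOf_map_subtype, inf_eq_left.2 (hle T hT)]; exact hT)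
    (fun e => hne (by
      rw [← inf_eq_left.2 (hle R hR), ← inf_eq_left.2 (hle T hT), ← Subgroup.subgroupOf_map_subtype R,
        ← Subgroup.subgroupOf_map_subtype T, e]))
  rw [Subgroup.commutator_eq_bot_iff_le_centralizer] at h
  have h2 := Subgroup.mem_centralizer_iff.1 (h (show (⟨r, hle R hR hr⟩ : S) ∈ R.subgroupOf S from hr))
    ⟨t, hle T hT ht⟩ ht
  exact (congrArg Subtype.val h2).symm

theorem conj_family {X : Type*} [Group X] (A : Subgroup X)
    (hti : ∀ h : X, A.map (MulAut.conj h).toMonoidHom = A ∨ A.map (MulAut.conj h).toMonoidHom ⊓ A = ⊥)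
    (x y : X) : A.map (MulAut.conj x).toMonoidHom = A.map (MulAut.conj y).toMonoidHom ∨
      A.map (MulAut.conj x).toMonoidHom ⊓ A.map (MulAut.conj y).toMonoidHom = ⊥ := by
  have hcomp : ∀ a b : X, (A.map (MulAut.conj a).toMonoidHom).map (MulAut.conj b).toMonoidHom =
      A.map (MulAut.conj (b * a)).toMonoidHom := by
    intro a b
    rw [Subgroup.map_map]
    congr 1
    ext u
    simp [mul_assoc]
  have hx : A.map (MulAut.conj x).toMonoidHom =
      (A.map (MulAut.conj (y⁻¹ * x)).toMonoidHom).map (MulAut.conj y).toMonoidHom := by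
    rw [hcomp, mul_inv_cancel_left]
  rcases hti (y⁻¹ * x) with h | h
  · left; rw [hx, h]
  · right
    rw [hx, ← Subgroup.map_inf _ _ _ (MulAut.conj y).injective, h, Subgroup.map_bot]

/-- Let X be a finite group whose generalized Fitting subgroup equals its largest normal 2-subgroup Q, and let A be an abelian 2-subgroup of X such that every conjugate of A equals A or meets A trivially. Let B be the subgroup generated by the squares of the elements of A. Then B lies in Q, and if B is not an elementary abelian 2-group then the normal closure of B in X is commutative. -/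
theorem result {X : Type*} [Group X] [Finite X]
    (hX : Cfsg.generalizedFittingSubgroup X = Cfsg.pCore 2 X) (A : Subgroup X) (hA2 : IsPGroup 2 ↥A) (hAa : IsMulCommutative ↥A)
    (hti : ∀ h : X, A.map (MulAut.conj h).toMonoidHom = A ∨ A.map (MulAut.conj h).toMonoidHom ⊓ A = ⊥) :
    Subgroup.closure ((fun a : X => a ^ 2) '' (A : Set X)) ≤ Cfsg.pCore 2 X ∧
      (¬ Cfsg.IsElementaryAbelian 2 (Subgroup.closure ((fun a : X => a ^ 2) '' (A : Set X))) →
        IsMulCommutative ↥(Subgroup.normalClosure ((fun a : X => a ^ 2) '' (A : Set X)))) := by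
  classical
  haveI : Fact (Nat.Prime 2) := ⟨Nat.prime_two⟩
  set Q := Cfsg.pCore 2 X with hQ
  haveI hQn : Q.Normal := Subgroup.sSup_normal _ (fun N hN => hN.1)
  have hQp : IsPGroup 2 Q := Cfsg.Agent.Cores.pCore_isPGroup 2
  have hCQ : Subgroup.centralizer (Q : Set X) ≤ Q := by
    have h := Cfsg.Agent.Components.Fitting.centralizer_genFitting_le (G := X)
    rw [hX] at h
    exact h
  have hAc : ∀ a ∈ A, ∀ b ∈ A, a * b = b * a := fun a ha b hb =>
    congrArg Subtype.val (hAa.is_comm.comm (⟨a, ha⟩ : A) ⟨b, hb⟩)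
  have hcomp : ∀ (K : Subgroup X) (a b : X), (K.map (MulAut.conj a).toMonoidHom).map (MulAut.conj b).toMonoidHom =
      K.map (MulAut.conj (b * a)).toMonoidHom := by
    intro K a b
    rw [Subgroup.map_map]
    congr 1
    ext u
    simp [mul_assoc]
  set N := (frattini Q).map Q.subtype with hN
  haveI hNn : N.Normal := inferInstance
  let π := QuotientGroup.mk' N
  haveI hQbar : (Q.map π).Normal := Subgroup.Normal.map hQn π (QuotientGroup.mk'_surjective N)
  set K := (Subgroup.centralizer (Q.map π : Set (X ⧸ N))).comap π with hK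
  haveI hKn : K.Normal := Subgroup.Normal.comap inferInstance π
  have hKmem : ∀ x, x ∈ K → ∀ q ∈ Q, x * q * x⁻¹ * q⁻¹ ∈ N := by
    intro x hx q hq
    have h := Subgroup.mem_centralizer_iff.1 hx (π q) ⟨q, hq, rfl⟩
    rw [← QuotientGroup.eq_one_iff]
    show π (x * q * x⁻¹ * q⁻¹) = 1
    simp only [map_mul, map_inv]
    rw [← h]
    group
  have hKp : IsPGroup 2 K := by
    refine Cfsg.Agent.CharP.isPGroup_of_forall_coprime (fun x hx hcop => ?_)
    have hxC : x ∈ Subgroup.centralizer (Q : Set X) := by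
      have h := Cfsg.Agent.Coprime.le_centralizer_of_frattini (A := Subgroup.zpowers x) (K := Q)
        (by rw [Subgroup.normalizer_eq_top]; exact le_top) (by
          rw [Nat.card_zpowers]
          obtain ⟨k, hk⟩ := IsPGroup.iff_card.1 (hQp.to_subgroup (frattini Q))
          rw [hk]
          exact hcop.pow_right k)
        (fun a ha q hq => by
          obtain ⟨i, rfl⟩ := ha
          exact hKmem _ (K.zpow_mem hx i) q hq)
      exact h (Subgroup.mem_zpowers x)
    obtain ⟨k, hk⟩ := IsPGroup.iff_orderOf.1 hQp ⟨x, hCQ hxC⟩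
    rw [← Subgroup.orderOf_coe] at hk
    simp only [] at hk
    rw [hk] at hcop
    rw [← orderOf_eq_one_iff, hk]
    cases k with
    | zero => exact pow_zero 2
    | succ k => exact absurd (Nat.coprime_two_right.1 hcop) (Nat.not_odd_iff_even.2 ((Nat.even_pow).2 ⟨even_two, k.succ_ne_zero⟩))
  have hsqQ : ∀ a ∈ A, a ^ 2 ∈ Q := by
    intro a ha
    haveI : K.Normal := hKn
    refine Cfsg.Agent.Cores.le_pCore hKp ?_
    show π (a ^ 2) ∈ Subgroup.centralizer (Q.map π : Set (X ⧸ N))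
    rw [Subgroup.mem_centralizer_iff]
    rintro _ ⟨q, hq, rfl⟩
    by_cases ha2 : a ^ 2 = 1
    · rw [ha2, map_one, mul_one, one_mul]
    have hcom : a * (q * a * q⁻¹) = q * a * q⁻¹ * a := by
      set S := A ⊔ Q with hS
      have hSp : IsPGroup 2 S := IsPGroup.to_sup_of_normal_right hA2 hQp
      have hqS : q ∈ S := Subgroup.mem_sup_right hq
      by_cases he : A.map (MulAut.conj q).toMonoidHom = A
      · exact hAc a ha _ (he.le ⟨a, ha, by simp⟩)
      · refine pairwise_commute S hSp {R | ∃ s ∈ S, A.map (MulAut.conj s).toMonoidHom = R} ?_ ?_ ?_ ?_ ?_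
          A ⟨1, S.one_mem, by ext; simp⟩ _ ⟨q, hqS, rfl⟩ (fun e => he e.symm) a ha _ ⟨a, ha, by simp⟩
        · rintro _ ⟨s, hs, rfl⟩ _ ⟨b, hb, rfl⟩
          exact S.mul_mem (S.mul_mem hs (Subgroup.mem_sup_left hb)) (S.inv_mem hs)
        · rintro s hs _ ⟨s', hs', rfl⟩
          exact ⟨s * s', S.mul_mem hs hs', (hcomp A s' s).symm⟩
        · rintro _ ⟨s, hs, rfl⟩
          refine ⟨s * a * s⁻¹, ⟨a, ha, by simp⟩, ?_⟩
          rw [conj_pow]
          exact fun h => ha2 (conj_eq_one_iff.1 h)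
        · rintro _ ⟨s, hs, rfl⟩ _ ⟨s', hs', rfl⟩
          rw [← Nat.card_congr (A.equivMapOfInjective _ (MulAut.conj s).injective).toEquiv,
            ← Nat.card_congr (A.equivMapOfInjective _ (MulAut.conj s').injective).toEquiv]
        · rintro _ ⟨s, hs, rfl⟩ _ ⟨s', hs', rfl⟩
          exact conj_family A hti s s'
    set e := a * q * a⁻¹ * q⁻¹ with he
    have heQ : e ∈ Q := Q.mul_mem (hQn.conj_mem q hq a) (Q.inv_mem hq)
    have hea : a * e = e * a := by
      have h3 : Commute a (a * (q * a⁻¹ * q⁻¹)) := by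
        refine Commute.mul_right (Commute.refl a) ?_
        have h4 : q * a⁻¹ * q⁻¹ = (q * a * q⁻¹)⁻¹ := by group
        rw [h4]
        exact (show Commute a (q * a * q⁻¹) from hcom).inv_right
      have h5 : e = a * (q * a⁻¹ * q⁻¹) := by rw [he]; group
      rw [h5]
      exact h3
    have h2 : a ^ 2 * q = e ^ 2 * (q * a ^ 2) := by
      rw [pow_two, pow_two]
      calc a * a * q = a * (e * (q * a)) := by rw [he]; group
        _ = a * e * q * a := by group
        _ = e * a * q * a := by rw [hea]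
        _ = e * (e * (q * a)) * a := by rw [he]; group
        _ = _ := by group
    have he2 : π (e ^ 2) = 1 := by
      show ((e ^ 2 : X) : X ⧸ N) = 1
      rw [QuotientGroup.eq_one_iff]
      exact ⟨(⟨e, heQ⟩ : Q) ^ 2, sq_mem_frattini hQp _, by simp⟩
    rw [← map_mul, ← map_mul, h2, map_mul π (e ^ 2), he2, one_mul]
  refine ⟨(Subgroup.closure_le _).2 ?_, ?_⟩
  · rintro _ ⟨a, ha, rfl⟩
    exact hsqQ a ha
  intro hB
  set gens := (fun a : X => a ^ 2) '' (A : Set X) with hgens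
  set B := Subgroup.closure gens with hBdef
  have hBA : B ≤ A := (Subgroup.closure_le _).2 (by rintro _ ⟨a, ha, rfl⟩; exact A.pow_mem ha 2)
  have hBQ : B ≤ Q := (Subgroup.closure_le _).2 (by rintro _ ⟨a, ha, rfl⟩; exact hsqQ a ha)
  have hBc : ∀ a ∈ B, ∀ b ∈ B, a * b = b * a := fun a ha b hb => hAc a (hBA ha) b (hBA hb)
  obtain ⟨b₀, hb₀, hb₀2⟩ : ∃ b ∈ B, b ^ 2 ≠ 1 := by
    by_contra hc
    push Not at hc
    exact hB ⟨⟨⟨fun a b => Subtype.ext (hBc a a.2 b b.2)⟩⟩, hc⟩
  have hBmap : ∀ x : X, A.map (MulAut.conj x).toMonoidHom = A → B.map (MulAut.conj x).toMonoidHom = B := by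
    intro x h
    rw [hBdef, MonoidHom.map_closure]
    congr 1
    ext u
    constructor
    · rintro ⟨_, ⟨a, ha, rfl⟩, rfl⟩
      exact ⟨_, h.le ⟨a, ha, rfl⟩, (map_pow (MulAut.conj x).toMonoidHom a 2).symm⟩
    · rintro ⟨a, ha, rfl⟩
      obtain ⟨a', ha', he⟩ := h.ge ha
      refine ⟨_, ⟨a', ha', rfl⟩, ?_⟩
      simp only [map_pow, he]
  have hBti : ∀ h : X, B.map (MulAut.conj h).toMonoidHom = B ∨ B.map (MulAut.conj h).toMonoidHom ⊓ B = ⊥ := by
    intro h
    rcases hti h with h1 | h1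
    · exact Or.inl (hBmap h h1)
    · exact Or.inr (le_bot_iff.1 ((inf_le_inf (Subgroup.map_mono hBA) hBA).trans h1.le))
  have hmem : ∀ u ∈ Group.conjugatesOfSet gens, ∃ x : X, u ∈ B.map (MulAut.conj x).toMonoidHom := by
    intro u hu
    obtain ⟨v, hv, hvu⟩ := Group.mem_conjugatesOfSet_iff.1 hu
    obtain ⟨x, rfl⟩ := isConj_iff.1 hvu
    exact ⟨x, v, Subgroup.subset_closure hv, by simp⟩
  refine Subgroup.isMulCommutative_closure fun u hu v hv => ?_
  obtain ⟨x, hux⟩ := hmem u hu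
  obtain ⟨y, hvy⟩ := hmem v hv
  by_cases hxy : B.map (MulAut.conj x).toMonoidHom = B.map (MulAut.conj y).toMonoidHom
  · obtain ⟨u', hu', rfl⟩ := hux
    obtain ⟨v', hv', rfl⟩ := hxy ▸ hvy
    rw [← map_mul, ← map_mul, hBc u' hu' v' hv']
  · refine pairwise_commute Q hQp {R | ∃ x : X, B.map (MulAut.conj x).toMonoidHom = R} ?_ ?_ ?_ ?_ ?_
      _ ⟨x, rfl⟩ _ ⟨y, rfl⟩ hxy u hux v hvy
    · rintro _ ⟨x, rfl⟩ _ ⟨b, hb, rfl⟩
      exact hQn.conj_mem b (hBQ hb) x
    · rintro s - _ ⟨x, rfl⟩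
      exact ⟨s * x, (hcomp B x s).symm⟩
    · rintro _ ⟨x, rfl⟩
      refine ⟨x * b₀ * x⁻¹, ⟨b₀, hb₀, by simp⟩, ?_⟩
      rw [conj_pow]
      exact fun h => hb₀2 (conj_eq_one_iff.1 h)
    · rintro _ ⟨x, rfl⟩ _ ⟨y, rfl⟩
      rw [← Nat.card_congr (B.equivMapOfInjective _ (MulAut.conj x).injective).toEquiv,
        ← Nat.card_congr (B.equivMapOfInjective _ (MulAut.conj y).injective).toEquiv]
    · rintro _ ⟨x, rfl⟩ _ ⟨y, rfl⟩
      exact conj_family B hBti x y

end Cfsg.Agent.S1783
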