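import Cfsg.Statements.S1784
import Mathlib
import Cfsg.Agent.S1755
import Cfsg.Agent.InvChar.Extraspecial
import Cfsg.Agent.Lib.Components.Fitting

set_option linter.all false

set_option autoImplicit false
open Cfsg

namespace Cfsg.Agent.S1784

theorem core {Q : Type*} [Group Q] [Finite Q] (hQ : Cfsg.IsExtraspecial 2 Q) {z : Q}
    (hzC : z ∈ Subgroup.center Q) (hz1 : z ≠ 1) (τ : MulAut Q) (hττ : ∀ q, τ (τ q) = q)
    (hτne : ∃ q, τ q ≠ q) (u : Q) :
    u ∈ Subgroup.closure (Set.range fun q : Q => τ q * q⁻¹) ↔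
      τ u * u⁻¹ ∈ Subgroup.center Q ∧ ∀ m : Q, τ m * m⁻¹ ∈ Subgroup.center Q → m * u = u * m := by
  classical
  obtain ⟨hall, hzz, hcomm, hsq⟩ := Cfsg.Agent.InvChar.Extraspecial.facts hQ hzC hz1
  have hτz : τ z = z := by
    have hmem : τ z ∈ Subgroup.center Q := Subgroup.mem_center_iff.2 fun q => by
      obtain ⟨q', rfl⟩ := τ.surjective q
      rw [← map_mul, ← map_mul, Subgroup.mem_center_iff.1 hzC q']
    exact (hall _ hmem).resolve_left fun h => hz1 ((map_eq_one_iff τ τ.injective).1 h)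
  have hκ : ∀ a b : Q, a * b * a⁻¹ * b⁻¹ ∈ Subgroup.center Q ∧ τ (a * b * a⁻¹ * b⁻¹) = a * b * a⁻¹ * b⁻¹ := by
    intro a b
    rcases hcomm a b with h | h
    · have e : a * b * a⁻¹ * b⁻¹ = 1 := by rw [h]; group
      rw [e]
      exact ⟨Subgroup.one_mem _, map_one τ⟩
    · have e : a * b * a⁻¹ * b⁻¹ = z := by rw [h]; group
      rw [e]
      exact ⟨hzC, hτz⟩
  set N := Subgroup.closure (Set.range fun q : Q => τ q * q⁻¹) with hN
  have hd : ∀ q, τ q * q⁻¹ ∈ N := fun q => Subgroup.subset_closure ⟨q, rfl⟩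
  let Q0 : Subgroup Q :=
    { carrier := {q | τ q * q⁻¹ ∈ Subgroup.center Q}
      one_mem' := by simp
      mul_mem' := fun {a b} ha hb => by
        have e : τ (a * b) * (a * b)⁻¹ = τ a * (τ b * b⁻¹) * a⁻¹ := by rw [map_mul]; group
        show τ (a * b) * (a * b)⁻¹ ∈ Subgroup.center Q
        rw [e, Subgroup.mem_center_iff.1 hb (τ a), mul_assoc]
        exact Subgroup.mul_mem _ hb ha
      inv_mem' := fun {a} ha => by
        have e : τ a⁻¹ * a⁻¹⁻¹ = (τ a)⁻¹ * (τ a * a⁻¹)⁻¹ * τ a := by rw [map_inv]; group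
        show τ a⁻¹ * a⁻¹⁻¹ ∈ Subgroup.center Q
        rw [e]
        have h : (τ a * a⁻¹)⁻¹ ∈ Subgroup.center Q := Subgroup.inv_mem _ (show τ a * a⁻¹ ∈ Subgroup.center Q from ha)
        rw [Subgroup.mem_center_iff.1 h, mul_assoc, inv_mul_cancel, mul_one]
        exact h }
  have hQ0m : ∀ q, q ∈ Q0 ↔ τ q * q⁻¹ ∈ Subgroup.center Q := fun q => Iff.rfl
  have hNQ0 : N ≤ Q0 := by
    rw [hN, Subgroup.closure_le]
    rintro _ ⟨q, rfl⟩
    show τ (τ q * q⁻¹) * (τ q * q⁻¹)⁻¹ ∈ Subgroup.center Q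
    rw [map_mul, hττ, map_inv, show q * (τ q)⁻¹ * (τ q * q⁻¹)⁻¹ = (τ q * q⁻¹)⁻¹ * (τ q * q⁻¹)⁻¹ by group]
    exact hsq _
  have hQ0N : ∀ m ∈ Q0, ∀ n ∈ N, m * n = n * m := by
    intro m hm
    have hle : N ≤ Subgroup.centralizer ({m} : Set Q) := by
      rw [hN, Subgroup.closure_le]
      rintro _ ⟨q, rfl⟩
      rw [SetLike.mem_coe, Subgroup.mem_centralizer_singleton_iff]
      obtain ⟨hk1, hk2⟩ := hκ m q
      set c := τ m * m⁻¹ with hc
      have hτm : τ m = c * m := by rw [hc, inv_mul_cancel_right]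
      have hcc : ∀ x, x * c = c * x := Subgroup.mem_center_iff.1 hm
      have h1 : m * τ q * m⁻¹ * (τ q)⁻¹ = m * q * m⁻¹ * q⁻¹ := by
        conv_rhs => rw [← hk2]
        rw [map_mul, map_mul, map_mul, map_inv, map_inv, hτm]
        calc m * τ q * m⁻¹ * (τ q)⁻¹ = m * τ q * (c * c⁻¹) * m⁻¹ * (τ q)⁻¹ := by group
          _ = m * (τ q * c) * c⁻¹ * m⁻¹ * (τ q)⁻¹ := by group
          _ = m * (c * τ q) * c⁻¹ * m⁻¹ * (τ q)⁻¹ := by rw [hcc]
          _ = (m * c) * τ q * (c⁻¹ * m⁻¹) * (τ q)⁻¹ := by group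
          _ = (c * m) * τ q * (c * m)⁻¹ * (τ q)⁻¹ := by rw [← hcc m]; group
      have h2 : m * (τ q * q⁻¹) * m⁻¹ = τ q * q⁻¹ := by
        set k := m * q * m⁻¹ * q⁻¹ with hk
        have hkc : ∀ x, x * k = k * x := Subgroup.mem_center_iff.1 hk1
        have hq : m * q⁻¹ * m⁻¹ = q⁻¹ * k⁻¹ := by rw [hk]; group
        calc m * (τ q * q⁻¹) * m⁻¹ = (m * τ q * m⁻¹ * (τ q)⁻¹) * τ q * (m * q⁻¹ * m⁻¹) := by group
          _ = k * τ q * (q⁻¹ * k⁻¹) := by rw [h1, hq]
          _ = (k * (τ q * q⁻¹)) * k⁻¹ := by group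
          _ = ((τ q * q⁻¹) * k) * k⁻¹ := by rw [hkc]
          _ = τ q * q⁻¹ := mul_inv_cancel_right _ _
      exact (mul_inv_eq_iff_eq_mul.1 h2).symm
    exact fun n hn => (Subgroup.mem_centralizer_singleton_iff.1 (hle hn)).symm
  constructor
  · intro hu
    exact ⟨hNQ0 hu, fun m hm => hQ0N m hm u hu⟩
  rintro ⟨hu0, hu⟩
  by_contra huN
  have hzN : z ∈ N := by
    obtain ⟨q, hq⟩ := hτne
    have hw1 : τ q * q⁻¹ ≠ 1 := fun h => hq (mul_inv_eq_one.1 h)
    by_cases hw : τ q * q⁻¹ ∈ Subgroup.center Q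
    · exact ((hall _ hw).resolve_left hw1) ▸ hd q
    · rw [Subgroup.mem_center_iff] at hw
      push Not at hw
      obtain ⟨v, hv⟩ := hw
      have h := (hcomm v _).resolve_left hv
      have h2 : v * (τ q * q⁻¹) * v⁻¹ ∈ N := by
        have := N.mul_mem (N.inv_mem (hd v)) (hd (v * q))
        rw [map_mul] at this
        convert this using 1
        group
      rw [h, ← mul_assoc, mul_inv_cancel_right] at h2
      exact (N.mul_mem_cancel_right (hd q)).1 h2
  have hZN : Subgroup.center Q ≤ N := fun w hw => by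
    rcases hall w hw with h | h
    · exact h ▸ N.one_mem
    · exact h ▸ hzN
  obtain ⟨v, hvN, hvu⟩ := Cfsg.Agent.InvChar.Extraspecial.exists_separating hQ hzC hz1 N hZN huN
  apply hvu
  refine hu v (Subgroup.mem_center_iff.2 fun x => ?_)
  -- `v` commutes with `N`, so it is in `Q0`
  obtain ⟨hk1, hk2⟩ := hκ v x
  have hn := hvN _ (hd x)
  set k := v * x * v⁻¹ * x⁻¹ with hk
  have hkc : ∀ y, y * k = k * y := Subgroup.mem_center_iff.1 hk1
  have hA : v * τ x * v⁻¹ * (τ x)⁻¹ = k := by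
    calc v * τ x * v⁻¹ * (τ x)⁻¹ = v * (τ x * x⁻¹) * (x * v⁻¹ * (τ x)⁻¹) := by group
      _ = τ x * x⁻¹ * v * (x * v⁻¹ * (τ x)⁻¹) := by rw [hn]
      _ = (τ x * x⁻¹) * k * (τ x * x⁻¹)⁻¹ := by rw [hk]; group
      _ = k := by rw [hkc, mul_inv_cancel_right]
  have hB := congrArg τ hA
  rw [hk2, map_mul, map_mul, map_mul, map_inv, map_inv, hττ] at hB
  have e : τ v * x * (τ v)⁻¹ = v * x * v⁻¹ := by
    rw [hk] at hB
    exact mul_right_cancel hB
  have h3 : v⁻¹ * τ v * x = x * (v⁻¹ * τ v) := by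
    calc v⁻¹ * τ v * x = v⁻¹ * (τ v * x * (τ v)⁻¹) * τ v := by group
      _ = v⁻¹ * (v * x * v⁻¹) * τ v := by rw [e]
      _ = _ := by group
  have hcen : v⁻¹ * τ v ∈ Subgroup.center Q := Subgroup.mem_center_iff.2 fun y => by
    obtain ⟨l1, l2⟩ := hκ v y
    have hn := hvN _ (hd y)
    set l := v * y * v⁻¹ * y⁻¹ with hl
    have hlc : ∀ w, w * l = l * w := Subgroup.mem_center_iff.1 l1
    have hA : v * τ y * v⁻¹ * (τ y)⁻¹ = l := by
      calc v * τ y * v⁻¹ * (τ y)⁻¹ = v * (τ y * y⁻¹) * (y * v⁻¹ * (τ y)⁻¹) := by group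
        _ = τ y * y⁻¹ * v * (y * v⁻¹ * (τ y)⁻¹) := by rw [hn]
        _ = (τ y * y⁻¹) * l * (τ y * y⁻¹)⁻¹ := by rw [hl]; group
        _ = l := by rw [hlc, mul_inv_cancel_right]
    have hB := congrArg τ hA
    rw [l2, map_mul, map_mul, map_mul, map_inv, map_inv, hττ, hl] at hB
    have e : τ v * y * (τ v)⁻¹ = v * y * v⁻¹ := mul_right_cancel hB
    calc y * (v⁻¹ * τ v) = v⁻¹ * (v * y * v⁻¹) * τ v := by group
      _ = v⁻¹ * (τ v * y * (τ v)⁻¹) * τ v := by rw [e]
      _ = _ := by group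
  have e2 : τ v * v⁻¹ = v * (v⁻¹ * τ v) * v⁻¹ := by group
  rw [e2, Subgroup.mem_center_iff.1 hcen v, mul_inv_cancel_right]
  exact Subgroup.mem_center_iff.1 hcen x

theorem main {G : Type*} [Group G] [Finite G] (z α : G) (hz : orderOf z = 2) (hα : orderOf α = 2)
    (C : Subgroup G) (QC : Subgroup C) (hQn : QC.Normal) (hE : Cfsg.IsExtraspecial 2 QC)
    (hCQ : Subgroup.centralizer (QC : Set C) ≤ QC) (hzC : z ∈ C) (hzQ : (⟨z, hzC⟩ : C) ∈ QC)
    (hzc : (⟨z, hzC⟩ : C) ∈ Subgroup.center C) (hαC : α ∈ C) (hαQ : α ∉ QC.map C.subtype)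
    (Q₀ : Subgroup G)
    (hQ₀ : ∀ q : G, q ∈ Q₀ ↔ (q ∈ QC.map C.subtype ∧ α * q * α⁻¹ * q⁻¹ ∈ Subgroup.zpowers z)) :
    Subgroup.closure ((fun q : G => α * q * α⁻¹ * q⁻¹) '' (QC.map C.subtype : Set G)) =
        (Subgroup.center ↥Q₀).map Q₀.subtype ∧
      (¬ Q₀ ≤ (QC.map C.subtype ⊓ Subgroup.centralizer ({α} : Set G)) ⊔ Subgroup.zpowers z →
        ∃ q ∈ QC.map C.subtype, q * α * q⁻¹ = α * z) := by
  classical
  have hαi : α⁻¹ = α := inv_eq_of_mul_eq_one_right (by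
    have := pow_orderOf_eq_one α; rwa [hα, pow_two] at this)
  have hzz : z * z = 1 := by
    have := pow_orderOf_eq_one z; rwa [hz, pow_two] at this
  set w : QC := ⟨⟨z, hzC⟩, hzQ⟩ with hw
  have hwC : w ∈ Subgroup.center QC := Subgroup.mem_center_iff.2 fun q =>
    Subtype.ext (Subgroup.mem_center_iff.1 hzc q)
  have hw1 : w ≠ 1 := fun h => by
    have : z = 1 := congrArg (fun q : QC => ((q : C) : G)) h
    rw [this] at hz; simp at hz
  obtain ⟨hall, -, -, -⟩ := Cfsg.Agent.InvChar.Extraspecial.facts hE hwC hw1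
  set τ : MulAut QC := MulAut.conjNormal (⟨α, hαC⟩ : C) with hτ
  have hτv : ∀ q : QC, ((τ q : C) : G) = α * ((q : C) : G) * α⁻¹ := fun q => rfl
  have hττ : ∀ q, τ (τ q) = q := fun q => by
    apply Subtype.ext; apply Subtype.ext
    rw [hτv, hτv]
    conv_rhs => rw [← mul_one ((q : C) : G), ← one_mul ((q : C) : G)]
    have haa : α * α = 1 := by
      have := pow_orderOf_eq_one α; rwa [hα, pow_two] at this
    rw [hαi]
    calc α * (α * ((q : C) : G) * α) * α = (α * α) * ((q : C) : G) * (α * α) := by group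
      _ = _ := by rw [haa]
  have hτne : ∃ q, τ q ≠ q := by
    by_contra hc
    push Not at hc
    refine hαQ ⟨⟨α, hαC⟩, hCQ (Subgroup.mem_centralizer_iff.2 fun q hq => ?_), rfl⟩
    apply Subtype.ext
    have h := congrArg (fun r : QC => ((r : C) : G)) (hc ⟨q, hq⟩)
    simp only [hτv] at h
    exact (mul_inv_eq_iff_eq_mul.1 h).symm
  have hcen : ∀ q : QC, τ q * q⁻¹ ∈ Subgroup.center QC ↔
      α * ((q : C) : G) * α⁻¹ * ((q : C) : G)⁻¹ ∈ Subgroup.zpowers z := by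
    intro q
    constructor
    · intro h
      rcases hall _ h with h1 | h1
      · have := congrArg (fun r : QC => ((r : C) : G)) h1
        simp only [Subgroup.coe_mul, Subgroup.coe_inv, hτv] at this
        rw [this]
        exact Subgroup.one_mem (Subgroup.zpowers z)
      · have := congrArg (fun r : QC => ((r : C) : G)) h1
        simp only [Subgroup.coe_mul, Subgroup.coe_inv, hτv, hw] at this
        rw [this]
        exact Subgroup.mem_zpowers z
    · rintro ⟨i, hi⟩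
      have e : τ q * q⁻¹ = w ^ i := by
        apply Subtype.ext; apply Subtype.ext
        simp only [Subgroup.coe_mul, Subgroup.coe_inv, hτv, Subgroup.coe_zpow, hw]
        exact hi.symm
      rw [e]
      exact (Subgroup.center QC).zpow_mem hwC i
  let ι : QC →* G := C.subtype.comp QC.subtype
  have himg : ((fun q : G => α * q * α⁻¹ * q⁻¹) '' (QC.map C.subtype : Set G)) =
      ι '' (Set.range fun q : QC => τ q * q⁻¹) := by
    ext x
    constructor
    · rintro ⟨_, ⟨c, hc, rfl⟩, rfl⟩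
      exact ⟨_, ⟨⟨c, hc⟩, rfl⟩, rfl⟩
    · rintro ⟨_, ⟨q, rfl⟩, rfl⟩
      exact ⟨_, ⟨(q : C), q.2, rfl⟩, rfl⟩
  refine ⟨?_, fun hns => ?_⟩
  · rw [himg, ← MonoidHom.map_closure]
    ext x
    constructor
    · rintro ⟨u, hu, rfl⟩
      obtain ⟨h1, h2⟩ := (core hE hwC hw1 τ hττ hτne u).1 hu
      have hux : ι u ∈ Q₀ := (hQ₀ _).2 ⟨⟨(u : C), u.2, rfl⟩, (hcen u).1 h1⟩
      refine ⟨⟨ι u, hux⟩, Subgroup.mem_center_iff.2 fun m => Subtype.ext ?_, rfl⟩
      obtain ⟨⟨c, hc, hcm⟩, hm⟩ := (hQ₀ _).1 m.2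
      have h := h2 ⟨c, hc⟩ ((hcen ⟨c, hc⟩).2 (by rw [← hcm] at hm; exact hm))
      have h' := congrArg ι h
      rw [map_mul, map_mul] at h'
      rw [Subgroup.coe_mul, Subgroup.coe_mul, ← hcm]
      exact h'
    · rintro ⟨⟨y, hy⟩, hyc, rfl⟩
      obtain ⟨⟨c, hc, hcy⟩, hy2⟩ := (hQ₀ _).1 hy
      refine ⟨⟨c, hc⟩, (core hE hwC hw1 τ hττ hτne ⟨c, hc⟩).2 ⟨(hcen _).2 (by subst hcy; exact hy2), ?_⟩, hcy⟩
      intro m hm
      have hmQ : ι m ∈ Q₀ := (hQ₀ _).2 ⟨⟨(m : C), m.2, rfl⟩, (hcen m).1 hm⟩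
      have h := congrArg Subtype.val (Subgroup.mem_center_iff.1 hyc ⟨ι m, hmQ⟩)
      subst hcy
      apply Subtype.ext; apply Subtype.ext
      exact h
  · obtain ⟨q, hq, hqn⟩ := SetLike.not_le_iff_exists.1 hns
    obtain ⟨hqQ, hqz⟩ := (hQ₀ q).1 hq
    refine ⟨q, hqQ, ?_⟩
    obtain ⟨i, hi⟩ := hqz
    simp only [] at hi
    have hi2 : z ^ i = 1 ∨ z ^ i = z := by
      rcases Int.even_or_odd i with ⟨r, hr⟩ | ⟨r, hr⟩
      · left; rw [hr, ← two_mul, zpow_mul, zpow_ofNat, pow_two, hzz, one_zpow]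
      · right; rw [hr, zpow_add, zpow_mul, zpow_ofNat, pow_two, hzz, one_zpow, one_mul, zpow_one]
    rcases hi2 with h | h
    · exfalso
      apply hqn
      refine Subgroup.mem_sup_left ⟨hqQ, ?_⟩
      rw [h] at hi
      show q ∈ Subgroup.centralizer ({α} : Set G)
      rw [Subgroup.mem_centralizer_singleton_iff]
      exact (mul_inv_eq_iff_eq_mul.1 (mul_inv_eq_one.1 hi.symm)).symm
    · rw [h] at hi
      obtain ⟨c, hc, rfl⟩ := hqQ
      have hcz : (c : G) * z = z * (c : G) := congrArg Subtype.val (Subgroup.mem_center_iff.1 hzc c)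
      simp only [Subgroup.coe_subtype] at hi ⊢
      have hαz : α * z = z * α := congrArg Subtype.val (Subgroup.mem_center_iff.1 hzc ⟨α, hαC⟩)
      have h4 : (c : G) * α⁻¹ * (c : G)⁻¹ = α⁻¹ * z := by rw [hi]; group
      rwa [hαi] at h4

/-- Let G be a finite group and let z be an involution of G such that Q, the generalized Fitting subgroup of the centralizer C of z, is a 2-group of symplectic type (every characteristic abelian subgroup of Q is cyclic); suppose Q is extraspecial, and view Q inside G. Let α be an involution of C that is not in Q, and let Q₀ be the subgroup of those q ∈ Q whose commutator with α lies in the subgroup generated by z. Then (a) the subgroup generated by the commutators α q α⁻¹ q⁻¹, q ∈ Q, equals the centre of Q₀; and (b) if Q₀ is not contained in the product of the centralizer of α in Q with the subgroup generated by z, then some element of Q conjugates α to α z. -/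
theorem result {G : Type*} [Group G] [Finite G] (z : G) (hz : orderOf z = 2) (hQ : Cfsg.IsOfSymplecticType ↥(Cfsg.generalizedFittingSubgroup ↥(Subgroup.centralizer ({z} : Set G)))) (hE : Cfsg.IsExtraspecial 2 ↥(Cfsg.generalizedFittingSubgroup ↥(Subgroup.centralizer ({z} : Set G))))
    (α : G) (hα : orderOf α = 2) (hαC : α ∈ Subgroup.centralizer ({z} : Set G)) (hαQ : α ∉ (Cfsg.generalizedFittingSubgroup ↥(Subgroup.centralizer ({z} : Set G))).map (Subgroup.centralizer ({z} : Set G)).subtype)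
    (Q₀ : Subgroup G) (hQ₀ : ∀ q : G, q ∈ Q₀ ↔ (q ∈ (Cfsg.generalizedFittingSubgroup ↥(Subgroup.centralizer ({z} : Set G))).map (Subgroup.centralizer ({z} : Set G)).subtype ∧ α * q * α⁻¹ * q⁻¹ ∈ Subgroup.zpowers z)) :
    Subgroup.closure ((fun q : G => α * q * α⁻¹ * q⁻¹) '' ((Cfsg.generalizedFittingSubgroup ↥(Subgroup.centralizer ({z} : Set G))).map (Subgroup.centralizer ({z} : Set G)).subtype : Set G)) = (Subgroup.center ↥Q₀).map Q₀.subtype ∧
      (¬ Q₀ ≤ ((Cfsg.generalizedFittingSubgroup ↥(Subgroup.centralizer ({z} : Set G))).map (Subgroup.centralizer ({z} : Set G)).subtype ⊓ Subgroup.centralizer ({α} : Set G)) ⊔ Subgroup.zpowers z →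
        ∃ q ∈ (Cfsg.generalizedFittingSubgroup ↥(Subgroup.centralizer ({z} : Set G))).map (Subgroup.centralizer ({z} : Set G)).subtype, q * α * q⁻¹ = α * z) := by
  have hzC : z ∈ Subgroup.centralizer ({z} : Set G) := Subgroup.mem_centralizer_singleton_iff.2 rfl
  have hzc : (⟨z, hzC⟩ : Subgroup.centralizer ({z} : Set G)) ∈ Subgroup.center _ :=
    Subgroup.mem_center_iff.2 fun c => Subtype.ext (Subgroup.mem_centralizer_singleton_iff.1 c.2)
  exact main z α hz hα _ _ (Cfsg.Agent.S1755.gfit_normal _) hE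
    Cfsg.Agent.Components.Fitting.centralizer_genFitting_le hzC (Cfsg.Agent.S1755.center_le_gfit _ hzc)
    hzc hαC hαQ Q₀ hQ₀

end Cfsg.Agent.S1784
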