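import Cfsg.Statements.S1785
import Mathlib

set_option linter.all false

set_option autoImplicit false
open Cfsg

namespace Cfsg.Agent.S1785

def El {X : Type*} [Group X] (A : Subgroup X) : Prop :=
  (∀ a ∈ A, ∀ b ∈ A, a * b = b * a) ∧ ∀ a ∈ A, a ^ 2 = 1

theorem el_iff {X : Type*} [Group X] (A : Subgroup X) : Cfsg.IsElementaryAbelian 2 A ↔ El A := by
  constructor
  · exact fun h => ⟨fun a ha b hb => congrArg Subtype.val (h.1.is_comm.comm (⟨a, ha⟩ : A) ⟨b, hb⟩), h.2⟩
  · exact fun h => ⟨⟨⟨fun a b => Subtype.ext (h.1 a a.2 b b.2)⟩⟩, h.2⟩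

theorem el_sup {X : Type*} [Group X] {A B : Subgroup X} (hA : El A) (hB : El B)
    (hc : ∀ a ∈ A, ∀ b ∈ B, a * b = b * a) : El (A ⊔ B) := by
  have hset : A ⊔ B = Subgroup.closure ((A : Set X) ∪ B) := by
    rw [Subgroup.closure_union, Subgroup.closure_eq, Subgroup.closure_eq]
  have hab : ∀ u ∈ A ⊔ B, ∀ v ∈ A ⊔ B, u * v = v * u := by
    rw [hset]
    intro u hu v hv
    refine congrArg Subtype.val ((Subgroup.isMulCommutative_closure ?_).is_comm.comm
      (⟨u, hu⟩ : Subgroup.closure ((A : Set X) ∪ B)) ⟨v, hv⟩)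
    rintro x (hx | hx) y (hy | hy)
    · exact hA.1 x hx y hy
    · exact hc x hx y hy
    · exact (hc y hy x hx).symm
    · exact hB.1 x hx y hy
  refine ⟨hab, fun u hu => ?_⟩
  rw [hset] at hu
  induction hu using Subgroup.closure_induction with
  | mem x hx => exact hx.elim (hA.2 x) (hB.2 x)
  | one => exact one_pow 2
  | mul x y hx hy ihx ihy =>
    rw [← hset] at hx hy
    rw [(show Commute x y from hab x hx y hy).mul_pow, ihx, ihy, one_mul]
  | inv x hx ihx => rw [inv_pow, ihx, inv_one]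

theorem el_le {X : Type*} [Group X] {A B : Subgroup X} (hB : El B) (h : A ≤ B) : El A :=
  ⟨fun a ha b hb => hB.1 a (h ha) b (h hb), fun a ha => hB.2 a (h ha)⟩

theorem el_zpowers {X : Type*} [Group X] {a : X} (ha : a ^ 2 = 1) : El (Subgroup.zpowers a) := by
  refine ⟨?_, ?_⟩
  · rintro _ ⟨i, rfl⟩ _ ⟨j, rfl⟩
    exact ((Commute.refl a).zpow_zpow i j).eq
  · rintro _ ⟨i, rfl⟩
    change (a ^ i) ^ 2 = 1
    rw [← zpow_natCast, zpow_comm, zpow_natCast, ha, one_zpow]

/-- An involution fixes at least the square root of an elementary abelian group it normalizes. -/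
theorem fixed_bound {X : Type*} [Group X] [Finite X] {W : Subgroup X} (hW : El W) {b : X} (hb : b ^ 2 = 1)
    (hn : ∀ w ∈ W, b * w * b⁻¹ ∈ W) :
    Nat.card W ≤ Nat.card ↥(W ⊓ Subgroup.centralizer ({b} : Set X)) ^ 2 := by
  have hbi : b⁻¹ = b := inv_eq_of_mul_eq_one_right (by rwa [pow_two] at hb)
  have hwi : ∀ w ∈ W, w⁻¹ = w := fun w hw =>
    inv_eq_of_mul_eq_one_right (by have := hW.2 w hw; rwa [pow_two] at this)
  let f : W →* W := MonoidHom.mk' (fun w => ⟨(w : X) * (b * w * b⁻¹), W.mul_mem w.2 (hn _ w.2)⟩)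
    (fun u v => by
      apply Subtype.ext
      simp only [Subgroup.coe_mul]
      have h1 : (v : X) * (b * u * b⁻¹) = b * u * b⁻¹ * v := hW.1 _ v.2 _ (hn _ u.2)
      calc (u : X) * v * (b * (u * v) * b⁻¹) = u * (v * (b * u * b⁻¹)) * (b * v * b⁻¹) := by group
        _ = u * (b * u * b⁻¹ * v) * (b * v * b⁻¹) := by rw [h1]
        _ = _ := by group)
  have hmem : ∀ w : X, w ∈ W → w * b = b * w → w ∈ W ⊓ Subgroup.centralizer ({b} : Set X) := fun w hw h =>
    ⟨hw, Subgroup.mem_centralizer_singleton_iff.2 h⟩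
  have hr : f.range.map W.subtype ≤ W ⊓ Subgroup.centralizer ({b} : Set X) := by
    rintro _ ⟨_, ⟨w, rfl⟩, rfl⟩
    refine hmem _ (f w).2 ?_
    change (w : X) * (b * w * b⁻¹) * b = b * ((w : X) * (b * w * b⁻¹))
    have h1 : (w : X) * (b * w * b⁻¹) = b * w * b⁻¹ * w := hW.1 _ w.2 _ (hn _ w.2)
    conv_lhs => rw [h1]
    rw [hbi]
    simp only [mul_assoc]
  have hk : f.ker.map W.subtype ≤ W ⊓ Subgroup.centralizer ({b} : Set X) := by
    rintro _ ⟨w, hw, rfl⟩
    refine hmem _ w.2 ?_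
    have h : (w : X) * (b * w * b⁻¹) = 1 := congrArg Subtype.val hw
    have h2 : (w : X)⁻¹ = b * w * b⁻¹ := inv_eq_of_mul_eq_one_right h
    rw [hwi _ w.2] at h2
    exact (mul_inv_eq_iff_eq_mul.1 h2.symm).symm
  have hcard : ∀ K : Subgroup W, Nat.card ↥(K.map W.subtype) = Nat.card K := fun K =>
    (Nat.card_congr (K.equivMapOfInjective _ W.subtype_injective).toEquiv).symm
  rw [← f.ker.card_mul_index, Subgroup.index_ker, pow_two, ← hcard, ← hcard]
  exact Nat.mul_le_mul (Subgroup.card_le_of_le hk) (Subgroup.card_le_of_le hr)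

theorem card_eq_pow {X : Type*} [Group X] [Finite X] (hX : IsPGroup 2 X) (A : Subgroup X) :
    ∃ k, Nat.card A = 2 ^ k := by
  haveI : Fact (Nat.Prime 2) := ⟨Nat.prime_two⟩
  exact IsPGroup.iff_card.1 (hX.to_subgroup A)

theorem exists_eight {X : Type*} [Group X] [Finite X] (hX : IsPGroup 2 X) {T B : Subgroup X}
    (hBT : B ≤ T) (hB : Nat.card B ≤ 8) (hT : 8 ≤ Nat.card T) :
    ∃ A : Subgroup X, B ≤ A ∧ A ≤ T ∧ Nat.card A = 8 := by
  haveI : Fact (Nat.Prime 2) := ⟨Nat.prime_two⟩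
  obtain ⟨i, hi⟩ := card_eq_pow hX B
  obtain ⟨j, hj⟩ := card_eq_pow hX T
  have hi3 : i ≤ 3 := (Nat.pow_le_pow_iff_right (by norm_num : 1 < 2)).1 (by rw [← hi]; exact hB)
  have hj3 : 3 ≤ j := (Nat.pow_le_pow_iff_right (by norm_num : 1 < 2)).1 (by rw [← hj]; exact hT)
  have hBc : Nat.card (B.subgroupOf T) = 2 ^ i := by
    rw [Nat.card_congr (Subgroup.subgroupOfEquivOfLe hBT).toEquiv, hi]
  obtain ⟨K, hK, hBK⟩ := Sylow.exists_subgroup_card_pow_prime_le (G := T) 2
    (n := i) (m := 3) (by rw [hj]; exact pow_dvd_pow 2 hj3) (B.subgroupOf T) hBc hi3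
  refine ⟨K.map T.subtype, fun b hb => ⟨⟨b, hBT hb⟩, hBK hb, rfl⟩, Subgroup.map_subtype_le _, ?_⟩
  rw [← Nat.card_congr (K.equivMapOfInjective _ T.subtype_injective).toEquiv, hK]
  norm_num

/-- Let X be a finite 2-group having a normal elementary abelian subgroup of order at least 32. Then (a) for any two elementary abelian subgroups A, B of X of order 8 there is a chain A = A₁, A₂, …, Aₙ = B of elementary abelian subgroups of order 8 in which consecutive members commute elementwise; and (b) every elementary abelian subgroup of X of order 4 is contained in an elementary abelian subgroup of order 8. -/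
theorem result {X : Type*} [Group X] [Finite X]
    (hX : IsPGroup 2 X) (E : Subgroup X) [E.Normal] (hE : Cfsg.IsElementaryAbelian 2 E) (hE32 : 32 ≤ Nat.card ↥E) :
    (∀ A B : Subgroup X, Cfsg.IsElementaryAbelian 2 A → Nat.card ↥A = 8 → Cfsg.IsElementaryAbelian 2 B → Nat.card ↥B = 8 →
        Relation.ReflTransGen
          (fun C D : Subgroup X => Cfsg.IsElementaryAbelian 2 C ∧ Nat.card ↥C = 8 ∧ Cfsg.IsElementaryAbelian 2 D ∧ Nat.card ↥D = 8 ∧ ⁅C, D⁆ = ⊥)
          A B) ∧
      (∀ V : Subgroup X, Cfsg.IsElementaryAbelian 2 V → Nat.card ↥V = 4 →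
        ∃ A : Subgroup X, V ≤ A ∧ Cfsg.IsElementaryAbelian 2 A ∧ Nat.card ↥A = 8) := by
  classical
  haveI : Fact (Nat.Prime 2) := ⟨Nat.prime_two⟩
  have hEl : El E := (el_iff E).1 hE
  let r : Subgroup X → Subgroup X → Prop := fun C D =>
    Cfsg.IsElementaryAbelian 2 C ∧ Nat.card ↥C = 8 ∧ Cfsg.IsElementaryAbelian 2 D ∧ Nat.card ↥D = 8 ∧ ⁅C, D⁆ = ⊥
  have hadj : ∀ T A B : Subgroup X, El T → A ≤ T → B ≤ T → Nat.card A = 8 → Nat.card B = 8 → r A B := by
    intro T A B hT hA hB ha hb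
    refine ⟨(el_iff A).2 (el_le hT hA), ha, (el_iff B).2 (el_le hT hB), hb, ?_⟩
    rw [eq_bot_iff, Subgroup.commutator_le]
    intro a haA b hbB
    rw [Subgroup.mem_bot, commutatorElement_eq_one_iff_mul_comm]
    exact hT.1 a (hA haA) b (hB hbB)
  have hnorm : ∀ (a : X) (b : X), a * b = b * a → ∀ w ∈ E ⊓ Subgroup.centralizer ({a} : Set X),
      b * w * b⁻¹ ∈ E ⊓ Subgroup.centralizer ({a} : Set X) := by
    intro a b hab w hw
    refine ⟨Subgroup.Normal.conj_mem inferInstance w hw.1 b, ?_⟩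
    show b * w * b⁻¹ ∈ Subgroup.centralizer ({a} : Set X)
    rw [Subgroup.mem_centralizer_singleton_iff]
    have h1 : Commute a w := (Subgroup.mem_centralizer_singleton_iff.1 hw.2).symm
    have h2 : Commute a b := hab
    exact ((h2.mul_right h1).mul_right h2.inv_right).eq.symm
  -- centralisers in `E`
  have hCa : ∀ a : X, a ^ 2 = 1 → 8 ≤ Nat.card ↥(E ⊓ Subgroup.centralizer ({a} : Set X)) := by
    intro a ha
    have h := fixed_bound hEl ha (fun w hw => Subgroup.Normal.conj_mem inferInstance w hw a)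
    obtain ⟨k, hk⟩ := card_eq_pow hX (E ⊓ Subgroup.centralizer ({a} : Set X))
    rw [hk] at h ⊢
    rcases Nat.lt_or_ge k 3 with hk3 | hk3
    · have h2 : (2 ^ k) ^ 2 ≤ (2 ^ 2) ^ 2 := by
        refine Nat.pow_le_pow_left (Nat.pow_le_pow_right (by norm_num) (by omega)) 2
      omega
    · exact (Nat.pow_le_pow_right (by norm_num) hk3 : 2 ^ 3 ≤ 2 ^ k)
  have hCab : ∀ a b : X, a ^ 2 = 1 → b ^ 2 = 1 → a * b = b * a →
      4 ≤ Nat.card ↥(E ⊓ Subgroup.centralizer ({a} : Set X) ⊓ Subgroup.centralizer ({b} : Set X)) := by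
    intro a b ha hb hab
    have h := fixed_bound (el_le hEl (inf_le_left : E ⊓ Subgroup.centralizer ({a} : Set X) ≤ E)) hb (hnorm a b hab)
    have h8 := hCa a ha
    obtain ⟨k, hk⟩ := card_eq_pow hX (E ⊓ Subgroup.centralizer ({a} : Set X) ⊓ Subgroup.centralizer ({b} : Set X))
    rw [hk] at h ⊢
    rcases Nat.lt_or_ge k 2 with hk2 | hk2
    · have h2 : (2 ^ k) ^ 2 ≤ (2 ^ 1) ^ 2 :=
        Nat.pow_le_pow_left (Nat.pow_le_pow_right (by norm_num) (by omega)) 2
      omega
    · exact (Nat.pow_le_pow_right (by norm_num) hk2 : 2 ^ 2 ≤ 2 ^ k)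
  constructor
  · -- connectedness
    obtain ⟨z, hzE, hz1, hzc⟩ : ∃ z ∈ E, z ≠ 1 ∧ ∀ x : X, x * z = z * x := by
      haveI : Nontrivial E := by
        rw [← Finite.one_lt_card_iff_nontrivial]; omega
      letI : MulAction X E := MulAction.compHom E (MulAut.conjNormal : X →* MulAut E)
      obtain ⟨k, hk⟩ := card_eq_pow hX E
      have hdvd : 2 ∣ Nat.card E := by
        cases k with
        | zero => rw [hk] at hE32; norm_num at hE32
        | succ k => exact hk ▸ dvd_pow_self 2 k.succ_ne_zero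
      obtain ⟨u, hu, hne⟩ := hX.exists_fixed_point_of_prime_dvd_card_of_fixed_point E hdvd (a := 1)
        (fun a => map_one (MulAut.conjNormal a))
      refine ⟨u, u.2, fun h => hne (Subtype.ext h).symm, fun a => ?_⟩
      have h1 : MulAut.conjNormal a u = u := hu a
      have h2 := congrArg Subtype.val h1
      rw [MulAut.conjNormal_apply] at h2
      exact mul_inv_eq_iff_eq_mul.1 h2
    have hzp : El (Subgroup.zpowers z) := el_zpowers (hEl.2 z hzE)
    have hzle : ∀ x : X, ∀ w ∈ Subgroup.zpowers z, x * w = w * x := by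
      rintro x _ ⟨i, rfl⟩
      exact ((show Commute x z from hzc x).zpow_right i).eq
    -- every vertex is joined to one inside `E`
    have hjoin : ∀ A : Subgroup X, El A → Nat.card A = 8 →
        ∃ Y ≤ E, Nat.card Y = 8 ∧ Relation.ReflTransGen r A Y ∧ Relation.ReflTransGen r Y A := by
      intro A hA hA8
      have hT₀ : El (A ⊔ Subgroup.zpowers z) := el_sup hA hzp (fun a _ w hw => hzle a w hw)
      obtain ⟨A', hzA', hA'T, hA'8⟩ := exists_eight hX (le_sup_right : Subgroup.zpowers z ≤ A ⊔ Subgroup.zpowers z)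
        (by
          rw [Nat.card_zpowers]
          exact le_trans (Nat.le_of_dvd (by norm_num) (orderOf_dvd_of_pow_eq_one (hEl.2 z hzE))) (by norm_num))
        (hA8.ge.trans (Subgroup.card_le_of_le le_sup_left))
      have r1 := hadj _ A A' hT₀ le_sup_left hA'T hA8 hA'8
      have r1' := hadj _ A' A hT₀ hA'T le_sup_left hA'8 hA8
      by_cases hA'E : A' ≤ E
      · exact ⟨A', hA'E, hA'8, .single r1, .single r1'⟩
      obtain ⟨a, haA, haE⟩ := SetLike.not_le_iff_exists.1 hA'E
      have hA' : El A' := el_le hT₀ hA'T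
      have hz2 : orderOf z = 2 := orderOf_eq_prime (hEl.2 z hzE) hz1
      have hza : El (Subgroup.zpowers z ⊔ Subgroup.zpowers a) :=
        el_sup hzp (el_zpowers (hA'.2 a haA)) (fun w hw u _ => (hzle u w hw).symm)
      have hlt : Nat.card ↥(Subgroup.zpowers z ⊔ Subgroup.zpowers a) ≤ 4 := by
        haveI : (Subgroup.zpowers z).Normal := ⟨fun n hn g => by
          rw [hzle g n hn, mul_inv_cancel_right]; exact hn⟩
        have h1 : Nat.card ↥(Subgroup.zpowers z ⊔ Subgroup.zpowers a) ≤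
            Nat.card (Subgroup.zpowers z) * Nat.card (Subgroup.zpowers a) := by
          let g : Subgroup.zpowers z × Subgroup.zpowers a → ↥(Subgroup.zpowers z ⊔ Subgroup.zpowers a) :=
            fun p => ⟨p.1 * p.2, Subgroup.mul_mem_sup p.1.2 p.2.2⟩
          have hg : Function.Surjective g := by
            rintro ⟨x, hx⟩
            obtain ⟨u, hu, v, hv, rfl⟩ := Subgroup.mem_sup_of_normal_left.1 hx
            exact ⟨(⟨u, hu⟩, ⟨v, hv⟩), rfl⟩
          exact (Nat.card_le_card_of_surjective g hg).trans_eq (Nat.card_prod _ _)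
        rw [Nat.card_zpowers, Nat.card_zpowers, hz2] at h1
        have := Nat.le_of_dvd (by norm_num : 0 < 2) (orderOf_dvd_of_pow_eq_one (hA'.2 a haA))
        omega
      obtain ⟨b, hbA, hb⟩ : ∃ b ∈ A', b ∉ Subgroup.zpowers z ⊔ Subgroup.zpowers a := by
        by_contra hc
        push Not at hc
        have := Subgroup.card_le_of_le (fun x hx => hc x hx : A' ≤ Subgroup.zpowers z ⊔ Subgroup.zpowers a)
        omega
      -- `A'` is generated by `z`, `a`, `b`
      have hgen : A' = Subgroup.zpowers z ⊔ Subgroup.zpowers a ⊔ Subgroup.zpowers b := by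
        have hle : Subgroup.zpowers z ⊔ Subgroup.zpowers a ⊔ Subgroup.zpowers b ≤ A' :=
          sup_le (sup_le hzA' (Subgroup.zpowers_le.2 haA)) (Subgroup.zpowers_le.2 hbA)
        refine (Subgroup.eq_of_le_of_card_ge hle ?_).symm
        obtain ⟨i, hi⟩ := card_eq_pow hX (Subgroup.zpowers z ⊔ Subgroup.zpowers a)
        obtain ⟨j, hj⟩ := card_eq_pow hX (Subgroup.zpowers z ⊔ Subgroup.zpowers a ⊔ Subgroup.zpowers b)
        have h4 : 4 ≤ Nat.card ↥(Subgroup.zpowers z ⊔ Subgroup.zpowers a) := by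
          have h2 : Nat.card (Subgroup.zpowers z) < Nat.card ↥(Subgroup.zpowers z ⊔ Subgroup.zpowers a) := by
            refine lt_of_le_of_ne (Subgroup.card_le_of_le le_sup_left) fun h => haE ?_
            exact Subgroup.zpowers_le.2 hzE ((Subgroup.eq_of_le_of_card_ge le_sup_left h.ge).ge
              (Subgroup.mem_sup_right (Subgroup.mem_zpowers a)))
          rw [Nat.card_zpowers, hz2, hi] at h2
          rw [hi]
          exact (Nat.pow_le_pow_right (by norm_num) ((Nat.pow_lt_pow_iff_right (by norm_num : 1 < 2)).1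
            (show 2 ^ 1 < 2 ^ i from h2)) : 2 ^ 2 ≤ 2 ^ i)
        have h3 : Nat.card ↥(Subgroup.zpowers z ⊔ Subgroup.zpowers a) <
            Nat.card ↥(Subgroup.zpowers z ⊔ Subgroup.zpowers a ⊔ Subgroup.zpowers b) := by
          refine lt_of_le_of_ne (Subgroup.card_le_of_le le_sup_left) fun h => hb ?_
          exact (Subgroup.eq_of_le_of_card_ge le_sup_left h.ge).ge
            (Subgroup.mem_sup_right (Subgroup.mem_zpowers b))
        rw [hA'8, hj]
        rw [hj] at h3
        have : 2 ^ 2 < 2 ^ j := lt_of_le_of_lt h4 h3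
        exact (Nat.pow_le_pow_right (by norm_num) ((Nat.pow_lt_pow_iff_right (by norm_num : 1 < 2)).1 this) :
          2 ^ 3 ≤ 2 ^ j)
      set F := E ⊓ Subgroup.centralizer ({a} : Set X) ⊓ Subgroup.centralizer ({b} : Set X) with hF
      have hF4 : 4 ≤ Nat.card F := hCab a b (hA'.2 a haA) (hA'.2 b hbA) (hA'.1 a haA b hbA)
      have hFel : El F := el_le hEl (inf_le_left.trans inf_le_left)
      have hFA : ∀ x ∈ A', ∀ f ∈ F, x * f = f * x := by
        have hle : A' ≤ Subgroup.centralizer (F : Set X) := by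
          rw [hgen, sup_le_iff, sup_le_iff, Subgroup.zpowers_le, Subgroup.zpowers_le, Subgroup.zpowers_le]
          refine ⟨⟨?_, ?_⟩, ?_⟩
          · exact Subgroup.mem_centralizer_iff.2 fun f _ => hzc f
          · exact Subgroup.mem_centralizer_iff.2 fun f hf => Subgroup.mem_centralizer_singleton_iff.1 hf.1.2
          · exact Subgroup.mem_centralizer_iff.2 fun f hf => Subgroup.mem_centralizer_singleton_iff.1 hf.2
        exact fun x hx f hf => (Subgroup.mem_centralizer_iff.1 (hle hx) f hf).symm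
      have hT1 : El (A' ⊔ F) := el_sup hA' hFel hFA
      have hbig : 8 ≤ Nat.card ↥(Subgroup.zpowers a ⊔ F) := by
        obtain ⟨i, hi⟩ := card_eq_pow hX F
        obtain ⟨j, hj⟩ := card_eq_pow hX (Subgroup.zpowers a ⊔ F)
        have h3 : Nat.card F < Nat.card ↥(Subgroup.zpowers a ⊔ F) := by
          refine lt_of_le_of_ne (Subgroup.card_le_of_le le_sup_right) fun h => haE ?_
          exact ((Subgroup.eq_of_le_of_card_ge le_sup_right h.ge).ge
            (Subgroup.mem_sup_left (Subgroup.mem_zpowers a))).1.1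
        rw [hj] at h3 ⊢
        exact (Nat.pow_le_pow_right (by norm_num) ((Nat.pow_lt_pow_iff_right (by norm_num : 1 < 2)).1
          (lt_of_le_of_lt hF4 h3 : 2 ^ 2 < 2 ^ j)) : 2 ^ 3 ≤ 2 ^ j)
      obtain ⟨A₁, -, hA₁T, hA₁8⟩ := exists_eight hX (bot_le : ⊥ ≤ Subgroup.zpowers a ⊔ F)
        (by simp) hbig
      have hT2 : El (Subgroup.zpowers a ⊔ (E ⊓ Subgroup.centralizer ({a} : Set X))) := by
        refine el_sup (el_zpowers (hA'.2 a haA)) (el_le hEl inf_le_left) ?_
        rintro _ ⟨i, rfl⟩ w hw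
        exact ((show Commute a w from (Subgroup.mem_centralizer_singleton_iff.1 hw.2).symm).zpow_left i).eq
      have hA₁' : A₁ ≤ A' ⊔ F := hA₁T.trans (sup_le_sup_right (Subgroup.zpowers_le.2 haA) F)
      obtain ⟨Y, -, hYE, hY8⟩ := exists_eight hX (bot_le : ⊥ ≤ E ⊓ Subgroup.centralizer ({a} : Set X))
        (by simp) (hCa a (hA'.2 a haA))
      have hA₁'' : A₁ ≤ Subgroup.zpowers a ⊔ (E ⊓ Subgroup.centralizer ({a} : Set X)) :=
        hA₁T.trans (sup_le_sup_left inf_le_left _)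
      refine ⟨Y, hYE.trans inf_le_left, hY8, ?_, ?_⟩
      · exact ((Relation.ReflTransGen.single r1).tail (hadj _ A' A₁ hT1 le_sup_left hA₁' hA'8 hA₁8)).tail
          (hadj _ A₁ Y hT2 hA₁'' (hYE.trans le_sup_right) hA₁8 hY8)
      · exact ((Relation.ReflTransGen.single (hadj _ Y A₁ hT2 (hYE.trans le_sup_right) hA₁'' hY8 hA₁8)).tail
          (hadj _ A₁ A' hT1 hA₁' le_sup_left hA₁8 hA'8)).tail r1'
    intro A B hA hA8 hB hB8
    obtain ⟨Y, hYE, hY8, hAY, -⟩ := hjoin A ((el_iff A).1 hA) hA8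
    obtain ⟨Z, hZE, hZ8, -, hZB⟩ := hjoin B ((el_iff B).1 hB) hB8
    exact (hAY.tail (hadj E Y Z hEl hYE hZE hY8 hZ8)).trans hZB
  · intro V hV hV4
    have hVel := (el_iff V).1 hV
    set F := E ⊓ Subgroup.centralizer (V : Set X) with hF
    have hT : El (V ⊔ F) := el_sup hVel (el_le hEl inf_le_left)
      (fun v hv f hf => Subgroup.mem_centralizer_iff.1 hf.2 v hv)
    by_cases hbig : 8 ≤ Nat.card ↥(V ⊔ F)
    · obtain ⟨A, hVA, hAT, hA8⟩ := exists_eight hX (le_sup_left : V ≤ V ⊔ F) (by omega) hbig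
      exact ⟨A, hVA, (el_iff A).2 (el_le hT hAT), hA8⟩
    exfalso
    obtain ⟨i, hi⟩ := card_eq_pow hX (V ⊔ F)
    have hle4 : Nat.card ↥(V ⊔ F) ≤ 4 := by
      rw [hi] at hbig ⊢
      have : i < 3 := (Nat.pow_lt_pow_iff_right (by norm_num : 1 < 2)).1 (show 2 ^ i < 2 ^ 3 by omega)
      exact (Nat.pow_le_pow_right (by norm_num) (by omega) : 2 ^ i ≤ 2 ^ 2)
    have hFV : F ≤ V := by
      have h := Subgroup.eq_of_le_of_card_ge (le_sup_left : V ≤ V ⊔ F) (by omega)
      rw [h]
      exact le_sup_right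
    -- `F` has order at least four
    haveI : Nontrivial V := by rw [← Finite.one_lt_card_iff_nontrivial]; omega
    obtain ⟨a, ha⟩ := exists_ne (1 : V)
    obtain ⟨b, hbV, hb⟩ : ∃ b ∈ V, b ∉ Subgroup.zpowers (a : X) := by
      by_contra hc
      push Not at hc
      have := Subgroup.card_le_of_le (fun x hx => hc x hx : V ≤ Subgroup.zpowers (a : X))
      rw [Nat.card_zpowers] at this
      have := Nat.le_of_dvd (by norm_num : 0 < 2) (orderOf_dvd_of_pow_eq_one (hVel.2 a a.2))
      omega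
    have hgen : V = Subgroup.zpowers (a : X) ⊔ Subgroup.zpowers b := by
      have hle : Subgroup.zpowers (a : X) ⊔ Subgroup.zpowers b ≤ V :=
        sup_le (Subgroup.zpowers_le.2 a.2) (Subgroup.zpowers_le.2 hbV)
      refine (Subgroup.eq_of_le_of_card_ge hle ?_).symm
      obtain ⟨j, hj⟩ := card_eq_pow hX (Subgroup.zpowers (a : X) ⊔ Subgroup.zpowers b)
      have ha2 : orderOf (a : X) = 2 := orderOf_eq_prime (hVel.2 a a.2) (fun h => ha (Subtype.ext h))
      have h3 : Nat.card (Subgroup.zpowers (a : X)) < Nat.card ↥(Subgroup.zpowers (a : X) ⊔ Subgroup.zpowers b) := by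
        refine lt_of_le_of_ne (Subgroup.card_le_of_le le_sup_left) fun h => hb ?_
        exact (Subgroup.eq_of_le_of_card_ge le_sup_left h.ge).ge
          (Subgroup.mem_sup_right (Subgroup.mem_zpowers b))
      rw [Nat.card_zpowers, ha2, hj] at h3
      rw [hV4, hj]
      exact (Nat.pow_le_pow_right (by norm_num) ((Nat.pow_lt_pow_iff_right (by norm_num : 1 < 2)).1
        (h3 : 2 ^ 1 < 2 ^ j)) : 2 ^ 2 ≤ 2 ^ j)
    have hsub : E ⊓ Subgroup.centralizer ({(a : X)} : Set X) ⊓ Subgroup.centralizer ({b} : Set X) ≤ F := by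
      intro x hx
      refine ⟨hx.1.1, ?_⟩
      have hle : V ≤ Subgroup.centralizer ({x} : Set X) := by
        rw [hgen, sup_le_iff, Subgroup.zpowers_le, Subgroup.zpowers_le]
        exact ⟨Subgroup.mem_centralizer_singleton_iff.2 (Subgroup.mem_centralizer_singleton_iff.1 hx.1.2).symm,
          Subgroup.mem_centralizer_singleton_iff.2 (Subgroup.mem_centralizer_singleton_iff.1 hx.2).symm⟩
      exact Subgroup.mem_centralizer_iff.2 fun v hv => Subgroup.mem_centralizer_singleton_iff.1 (hle hv)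
    have hF4 : 4 ≤ Nat.card F :=
      (hCab a b (hVel.2 a a.2) (hVel.2 b hbV) (hVel.1 a a.2 b hbV)).trans (Subgroup.card_le_of_le hsub)
    have hFeq : F = V := Subgroup.eq_of_le_of_card_ge hFV (by omega)
    have hVE : V ≤ E := hFeq ▸ inf_le_left
    have hEF : E ≤ F := le_inf le_rfl fun e he =>
      Subgroup.mem_centralizer_iff.2 fun v hv => hEl.1 v (hVE hv) e he
    have := Subgroup.card_le_of_le hEF
    have := Subgroup.card_le_of_le hFV
    omega

end Cfsg.Agent.S1785
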