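import Cfsg.Statements.S1786
import Cfsg.Agent.Lib.TISpread.Basic
import Cfsg.Agent.Lib.TISpread.Jordan
import Cfsg.Agent.Lib.Components.Fitting
import Cfsg.Agent.Lib.Coprime.PGroup
import Cfsg.Agent.Lib.CharP.Basic
import Cfsg.Agent.Lib.Classical.Linear

set_option autoImplicit false
set_option linter.style.longLine false
set_option maxHeartbeats 800000
open Cfsg

namespace Cfsg.Agent.S1786

open Subgroup
open Cfsg.Agent.TISpread
open scoped MatrixGroups commutatorElement IsMulCommutative

variable {G : Type*} [Group G] [Finite G] {V V' : Subgroup G}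

/-- `[u, x]` in additive notation. -/
def dAdd (p : Pair V V') (u : PP V) : Additive ↥V' →+ Additive ↥V :=
  AddMonoidHom.mk' (fun x => Additive.ofMul ⟨cm (u : G) (x.toMul : G), p.PP_cm u.2 (p.le_PP x.toMul.2)⟩)
    fun x y => congrArg Additive.ofMul (Subtype.ext
      (p.cm_mul_right u.2 (p.le_PP x.toMul.2) (p.le_PP y.toMul.2)))

theorem dAdd_apply (p : Pair V V') (u : PP V) (x : V') :
    ((dAdd p u (Additive.ofMul x)).toMul : G) = cm (u : G) x := rfl

theorem dAdd_ext (p : Pair V V') {u : PP V} {f : Additive ↥V' →+ Additive ↥V}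
    (h : ∀ x : V', cm (u : G) x = ((f (Additive.ofMul x)).toMul : G)) : dAdd p u = f :=
  AddMonoidHom.ext fun x => Additive.toMul.injective (Subtype.ext (h x.toMul))

theorem dAdd_mul [IsMulCommutative ↥V] (p : Pair V V') (u w : PP V) : dAdd p (u * w) = dAdd p u + dAdd p w :=
  dAdd_ext p fun x => p.cm_mul_left u.2 w.2 (p.le_PP x.2)

theorem dAdd_bij (p : Pair V V') {u : PP V} (hu : dAdd p u ≠ 0) : Function.Bijective (dAdd p u) := by
  have hinj : Function.Injective (dAdd p u) := by
    refine (injective_iff_map_eq_zero _).2 fun x hx => ?_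
    by_contra hx0
    refine hu (dAdd_ext p fun x' => cm_eq_one.2 ?_)
    refine p.inj u.2 x.toMul.2 (fun e => hx0 (Additive.toMul.injective (Subtype.ext e))) ?_ x'.2
    exact cm_eq_one.1 (congrArg (fun z : Additive ↥V => (z.toMul : G)) hx)
  refine (Nat.bijective_iff_injective_and_card _).2 ⟨hinj, ?_⟩
  rw [Nat.card_congr Additive.toMul, Nat.card_congr Additive.toMul, p.card_eq]

theorem exists_move (p : Pair V V') : ∃ u : PP V, dAdd p u ≠ 0 := by
  obtain ⟨V₁, p₁, hap⟩ := p.exists_partner
  obtain ⟨x, hx, hx1⟩ := p.exists_ne_one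
  obtain ⟨y, hy, hy1⟩ := p₁.exists_ne_one
  refine ⟨⟨y, p₁.le_PP hy⟩, fun h => p.not_commute p₁ hap hx hx1 hy hy1 (cm_eq_one.1 ?_)⟩
  exact congrArg (fun f : Additive ↥V' →+ Additive ↥V => ((f (Additive.ofMul ⟨x, hx⟩)).toMul : G)) h

/-- The field attached to the spread. -/
theorem exists_field [IsMulCommutative ↥V] (p : Pair V V') :
    ∃ (F : Type) (_ : Field F) (_ : Fintype F), Fintype.card F = Nat.card ↥V ∧
      ∃ (ρ : F →+* AddMonoid.End (Additive ↥V)) (v0 : Additive ↥V) (e : Additive ↥V' ≃+ Additive ↥V),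
        Function.Bijective (fun a : F => ρ a v0) ∧
        (∀ u : PP V, ∃ a : F, ∀ x, dAdd p u x = ρ a (e x)) ∧
        (∀ a : F, ∃ u : PP V, ∀ x, dAdd p u x = ρ a (e x)) := by
  classical
  obtain ⟨u0, hu0⟩ := exists_move p
  set e : Additive ↥V' ≃+ Additive ↥V := AddEquiv.ofBijective (dAdd p u0) (dAdd_bij p hu0) with he
  have hadd : ∀ f : AddMonoid.End (Additive ↥V), f + f = 0 := fun f =>
    AddMonoidHom.ext fun v => Additive.toMul.injective (Subtype.ext (p.conf.mul_self (f v).toMul.2))
  let A : PP V → AddMonoid.End (Additive ↥V) := fun u => (dAdd p u).comp e.symm.toAddMonoidHom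
  have hA : ∀ u v, A u v = dAdd p u (e.symm v) := fun u v => rfl
  have hAmul : ∀ u w, A (u * w) = A u + A w := fun u w =>
    AddMonoidHom.ext fun v => by
      show dAdd p (u * w) (e.symm v) = dAdd p u (e.symm v) + dAdd p w (e.symm v)
      rw [dAdd_mul]; rfl
  have hneg : ∀ f : AddMonoid.End (Additive ↥V), -f = f := fun f =>
    neg_eq_of_add_eq_zero_left (hadd f)
  let B : AddSubgroup (AddMonoid.End (Additive ↥V)) :=
    { carrier := Set.range A
      zero_mem' := ⟨1, AddMonoidHom.ext fun v =>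
        Additive.toMul.injective (Subtype.ext (by
          show cm (1 : G) _ = 1
          simp [cm]))⟩
      add_mem' := by
        rintro _ _ ⟨u, rfl⟩ ⟨w, rfl⟩
        exact ⟨u * w, hAmul u w⟩
      neg_mem' := by
        rintro _ ⟨u, rfl⟩
        exact ⟨u, (hneg _).symm⟩ }
  have hone : A u0 = 1 := AddMonoidHom.ext fun v => e.apply_symm_apply v
  have hne0 : ∀ u, A u ≠ 0 → dAdd p u ≠ 0 := fun u hu h => hu (AddMonoidHom.ext fun v => DFunLike.congr_fun h (e.symm v))
  have hunit : ∀ u, A u ≠ 0 → IsUnit (A u) := by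
    intro u hu
    have hb : Function.Bijective (A u) := (dAdd_bij p (hne0 u hu)).comp e.symm.bijective
    set q := AddEquiv.ofBijective (A u : Additive ↥V →+ Additive ↥V) hb with hq
    exact ⟨⟨A u, q.symm.toAddMonoidHom, AddMonoidHom.ext fun v => q.apply_symm_apply v,
      AddMonoidHom.ext fun v => q.symm_apply_apply v⟩, rfl⟩
  -- `a c⁻¹ a` stays in the spread
  have htri : ∀ y z, A y ≠ 0 → A z ≠ 0 → ∀ b, A z * b = 1 → A y * b * A y ∈ B := by
    intro y z hy hz b hb
    have hmove : ∀ u, A u ≠ 0 → ∃ x ∈ V', ¬ Commute (u : G) x := by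
      intro u hu
      by_contra hall
      push Not at hall
      exact hne0 u hu (dAdd_ext p fun x => cm_eq_one.2 (hall x x.2))
    obtain ⟨x0, hx0, h0⟩ := hmove y hy
    obtain ⟨x1, hx1, h1⟩ := hmove z hz
    obtain ⟨u, hu, hrel⟩ := p.triple y.2 z.2 hx0 h0 hx1 h1
    refine ⟨⟨u, hu⟩, AddMonoidHom.ext fun v => ?_⟩
    set w := e.symm v with hw
    set x' := e.symm (b (A y v)) with hx'
    have h2 : dAdd p z x' = dAdd p y w := by
      rw [hx', ← hA z, ← hA y]
      exact DFunLike.congr_fun hb (A y v)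
    have h3 := hrel w.toMul w.toMul.2 x'.toMul x'.toMul.2
      (congrArg (fun t : Additive ↥V => (t.toMul : G)) h2)
    show dAdd p ⟨u, hu⟩ w = A y (b (A y v))
    rw [hA y, ← hx']
    exact Additive.toMul.injective (Subtype.ext h3)
  have hinvB : ∀ z, A z ≠ 0 → ∀ b, A z * b = 1 → b ∈ B := by
    intro z hz b hb
    by_cases h10 : (1 : AddMonoid.End (Additive ↥V)) = 0
    · rw [show b = 0 by rw [← one_mul b, h10, zero_mul]]
      exact zero_mem B
    have := htri u0 z (by rw [hone]; exact h10) hz b hb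
    rwa [hone, one_mul, mul_one] at this
  haveI : Finite (AddMonoid.End (Additive ↥V)) :=
    Finite.of_injective (fun f : Additive ↥V →+ Additive ↥V => (f : Additive ↥V → Additive ↥V))
      DFunLike.coe_injective
  have hJ : JD B := by
    refine ⟨⟨u0, hone⟩, ?_, ?_, hadd, inferInstance⟩
    · rintro _ ⟨y, rfl⟩ _ ⟨z, rfl⟩
      by_cases hy : A y = 0
      · simp [hy]
      by_cases hz : A z = 0
      · simp [hz]
      obtain ⟨cu, hcu⟩ := hunit z hz
      have hbB := hinvB z hz (↑cu⁻¹) (by rw [← hcu, Units.mul_inv])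
      obtain ⟨w, hw⟩ := hbB
      have hw0 : A w ≠ 0 := by
        intro h
        have : (1 : AddMonoid.End (Additive ↥V)) = 0 := by
          rw [← Units.mul_inv cu, ← hw, h, mul_zero]
        exact hz (by rw [← one_mul (A z), this, zero_mul])
      exact htri y w hy hw0 (A z) (by rw [hw, ← hcu, Units.inv_mul])
    · rintro _ ⟨u, rfl⟩ hu
      exact hunit u hu
  let S : Subring (AddMonoid.End (Additive ↥V)) :=
    { B with
      mul_mem' := fun {a b} ha hb => hJ.mul_mem_of_commute ha hb (hJ.commute a ha b hb)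
      one_mem' := hJ.one_mem }
  obtain ⟨x0, hx0, hx01⟩ := p.exists_ne_one
  set v0 := e (Additive.ofMul ⟨x0, hx0⟩) with hv0
  have hv00 : v0 ≠ 0 := by
    intro h
    rw [hv0, map_eq_zero_iff _ e.injective] at h
    exact hx01 (congrArg (fun t : Additive ↥V' => (t.toMul : G)) h)
  have h10 : (1 : AddMonoid.End (Additive ↥V)) ≠ 0 := fun h => hv00 (DFunLike.congr_fun h v0)
  have hfield : IsField S :=
    { exists_pair_ne := ⟨0, 1, fun h => h10 (congrArg Subtype.val h).symm⟩
      mul_comm := fun a b => Subtype.ext (hJ.commute a a.2 b b.2)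
      mul_inv_cancel := fun {a} ha => by
        obtain ⟨b, hb, hab, -, -⟩ := hJ.exists_inv a.2 (fun h => ha (Subtype.ext h))
        exact ⟨⟨b, hb⟩, Subtype.ext hab⟩ }
  letI : Field S := hfield.toField
  have heval : Function.Bijective (fun a : S => (a : AddMonoid.End (Additive ↥V)) v0) := by
    refine ⟨fun a b h => ?_, fun v => ?_⟩
    · by_contra hne
      have hab : ((a : AddMonoid.End (Additive ↥V)) + b) ≠ 0 := fun h' =>
        hne (Subtype.ext (hJ.eq_of_add h'))
      obtain ⟨c, hc⟩ := hJ.unit _ (add_mem a.2 b.2) hab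
      refine hv00 ?_
      have h1 : (c : AddMonoid.End (Additive ↥V)) v0 = 0 := by
        rw [hc]
        show (a : AddMonoid.End (Additive ↥V)) v0 + (b : AddMonoid.End (Additive ↥V)) v0 = 0
        rw [show (a : AddMonoid.End (Additive ↥V)) v0 = (b : AddMonoid.End (Additive ↥V)) v0 from h]
        exact Additive.toMul.injective (Subtype.ext (p.conf.mul_self (Additive.toMul ((b : AddMonoid.End (Additive ↥V)) v0)).2))
      calc v0 = ((↑c⁻¹ * ↑c : AddMonoid.End (Additive ↥V))) v0 := by rw [Units.inv_mul]; rfl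
        _ = (↑c⁻¹ : AddMonoid.End (Additive ↥V)) ((c : AddMonoid.End (Additive ↥V)) v0) := rfl
        _ = 0 := by rw [h1, map_zero]
    · obtain ⟨V₁, p₁, hap⟩ := p.exists_partner
      obtain ⟨y, hy, hyv⟩ := p.surj p₁ hap hx0 hx01 v.toMul.2
      refine ⟨⟨A ⟨y, p₁.le_PP hy⟩, _, rfl⟩, ?_⟩
      show dAdd p _ (e.symm v0) = v
      rw [hv0, e.symm_apply_apply]
      exact Additive.toMul.injective (Subtype.ext hyv)
  obtain ⟨k, hk⟩ := hJ.natCard_two_pow
  haveI : Fact (Nat.Prime 2) := ⟨Nat.prime_two⟩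
  have hcardS : Nat.card S = 2 ^ k := hk
  have hk0 : k ≠ 0 := by
    rintro rfl
    have := (Nat.card_eq_one_iff_unique.1 (hcardS.trans (pow_zero 2))).1
    exact h10 (congrArg Subtype.val (Subsingleton.elim (1 : S) 0))
  haveI : Finite S := Nat.finite_of_card_ne_zero (by rw [hcardS]; positivity)
  letI : Fintype S := Fintype.ofFinite S
  letI : Fintype (GaloisField 2 k) := Fintype.ofFinite _
  let iso : GaloisField 2 k ≃+* S := FiniteField.ringEquivOfCardEq
    (by rw [← Nat.card_eq_fintype_card, ← Nat.card_eq_fintype_card, GaloisField.card 2 k hk0, hcardS])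
  refine ⟨GaloisField 2 k, inferInstance, inferInstance, ?_, S.subtype.comp iso.toRingHom, v0, e,
    heval.comp iso.bijective, ?_, ?_⟩
  · rw [← Nat.card_eq_fintype_card, Nat.card_congr iso.toEquiv, Nat.card_congr (Equiv.ofBijective _ heval)]
    exact Nat.card_congr Additive.toMul
  · intro u
    refine ⟨iso.symm ⟨A u, u, rfl⟩, fun x => ?_⟩
    show _ = (iso (iso.symm _) : AddMonoid.End (Additive ↥V)) (e x)
    rw [RingEquiv.apply_symm_apply]
    show _ = dAdd p u (e.symm (e x))
    rw [e.symm_apply_apply]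
  · intro a
    obtain ⟨u, hu⟩ := (iso a).2
    refine ⟨u, fun x => ?_⟩
    show _ = (iso a : AddMonoid.End (Additive ↥V)) (e x)
    rw [← hu, hA, e.symm_apply_apply]

theorem H_le_normalizer (p : Pair V V') : PP V ⊔ PP V' ≤ normalizer (p.W : Set G) := by
  refine sup_le p.PP_norm_W ?_
  have := p.symm.PP_norm_W
  rwa [p.symm.W_eq, sup_comm, ← p.W_eq] at this

/-- `H / C_H(W) ≅ SL₂(q)`. -/
theorem quotient_iso [IsMulCommutative ↥V] (p : Pair V V')
    (hN : ((Subgroup.centralizer (p.W : Set G)).subgroupOf (PP V ⊔ PP V')).Normal) :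
    ∃ (F : Type) (_ : Field F) (_ : Fintype F), Fintype.card F = Nat.card ↥V ∧
      Nonempty (↥(PP V ⊔ PP V') ⧸ (Subgroup.centralizer (p.W : Set G)).subgroupOf (PP V ⊔ PP V') ≃*
        Matrix.SpecialLinearGroup (Fin 2) F) := by
  classical
  obtain ⟨F, iF, iFin, hcard, ρ, v0, e, hbij, hup, hdown⟩ := exists_field p
  refine ⟨F, iF, iFin, hcard, ?_⟩
  set H := PP V ⊔ PP V' with hH
  let α : F ≃+ Additive ↥V := AddEquiv.ofBijective
    (AddMonoidHom.mk' (fun a => ρ a v0) fun a b => by rw [map_add]; rfl) hbij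
  have hα : ∀ a b : F, ρ a (α b) = α (a * b) := fun a b => by
    show ρ a (ρ b v0) = ρ (a * b) v0
    rw [map_mul]; rfl
  let E0 : (Fin 2 → F) → p.W := fun c =>
    ⟨((α (c 0)).toMul : G) * ((e.symm (α (c 1))).toMul : G),
      _, (α (c 0)).toMul.2, _, (e.symm (α (c 1))).toMul.2, rfl⟩
  have hE0add : ∀ c d, E0 (c + d) = E0 c * E0 d := by
    intro c d
    refine Subtype.ext ?_
    show ((α (c 0 + d 0)).toMul : G) * ((e.symm (α (c 1 + d 1))).toMul : G) = _
    rw [map_add α, map_add α, map_add e.symm, toMul_add, toMul_add, Subgroup.coe_mul, Subgroup.coe_mul]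
    have := (p.comm (e.symm (α (c 1))).toMul.2 (α (d 0)).toMul.2).eq
    show _ = ((α (c 0)).toMul : G) * ((e.symm (α (c 1))).toMul : G) *
      (((α (d 0)).toMul : G) * ((e.symm (α (d 1))).toMul : G))
    rw [mul_assoc, ← mul_assoc ((α (d 0)).toMul : G), ← this]
    group
  have hE0 : Function.Bijective E0 := by
    constructor
    · intro c d h
      obtain ⟨h1, h2⟩ := p.W_unique (α (c 0)).toMul.2 (α (d 0)).toMul.2
        (e.symm (α (c 1))).toMul.2 (e.symm (α (d 1))).toMul.2 (congrArg Subtype.val h)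
      funext i
      fin_cases i
      · exact α.injective (Additive.toMul.injective (Subtype.ext h1))
      · exact α.injective (e.symm.injective (Additive.toMul.injective (Subtype.ext h2)))
    · rintro ⟨w, v, hv, x, hx, rfl⟩
      refine ⟨![α.symm (Additive.ofMul ⟨v, hv⟩), α.symm (e (Additive.ofMul ⟨x, hx⟩))], Subtype.ext ?_⟩
      simp [E0]
  let E : (Fin 2 → F) ≃ p.W := Equiv.ofBijective E0 hE0
  have hEadd : ∀ c d, E (c + d) = E c * E d := hE0add
  let Φ0 : SL(2, F) → MulAut p.W := fun g =>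
    { toFun := fun w => E (g • E.symm w)
      invFun := fun w => E (g⁻¹ • E.symm w)
      left_inv := fun w => by simp
      right_inv := fun w => by simp
      map_mul' := fun w w' => by
        rw [← hEadd]
        congr 1
        rw [← smul_add]
        congr 1
        apply E.injective
        rw [hEadd]; simp }
  let Φ : SL(2, F) →* MulAut p.W :=
    { toFun := Φ0
      map_one' := MulEquiv.ext fun w => by simp [Φ0]
      map_mul' := fun g g' => MulEquiv.ext fun w => by simp [Φ0, mul_smul] }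
  have hΦinj : Function.Injective Φ := by
    intro g g' h
    refine Classical.Linear.eq_of_mulVec fun c k => ?_
    have := DFunLike.congr_fun h (E c)
    simp only [Φ, Φ0, MonoidHom.coe_mk, OneHom.coe_mk] at this
    exact congrFun (E.injective (by simpa using this)) k
  let κ : H →* MulAut p.W := p.W.normalizerMonoidHom.comp (Subgroup.inclusion (H_le_normalizer p))
  have hκ : ∀ (h : H) (w : p.W), ((κ h w : p.W) : G) = (h : G) * w * (h : G)⁻¹ := fun h w => rfl
  have hker : κ.ker = (Subgroup.centralizer (p.W : Set G)).subgroupOf H := by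
    rw [← MonoidHom.comap_ker, Subgroup.normalizerMonoidHom_ker]
    rfl
  have h01 : (0 : Fin 2) ≠ 1 := by decide
  have h10 : (1 : Fin 2) ≠ 0 := by decide
  have upper : ∀ (u : PP V) (a : F), (∀ x, dAdd p u x = ρ a (e x)) →
      κ ⟨u, mem_sup_left u.2⟩ = Φ (Matrix.SpecialLinearGroup.transvection h01 a) := by
    intro u a hu
    refine MulEquiv.ext fun w => Subtype.ext ?_
    obtain ⟨c, rfl⟩ := E.surjective w
    rw [hκ]
    show _ = ((E (Matrix.SpecialLinearGroup.transvection h01 a • E.symm (E c)) : p.W) : G)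
    rw [E.symm_apply_apply]
    show (u : G) * (((α (c 0)).toMul : G) * ((e.symm (α (c 1))).toMul : G)) * (u : G)⁻¹ =
      ((α ((Matrix.SpecialLinearGroup.transvection h01 a • c) 0)).toMul : G) *
        ((e.symm (α ((Matrix.SpecialLinearGroup.transvection h01 a • c) 1))).toMul : G)
    rw [Classical.Linear.transvection_smul_apply, Classical.Linear.transvection_smul_apply,
      if_pos rfl, if_neg h10, add_zero, map_add α, ← hα, toMul_add, Subgroup.coe_mul]
    set v := ((α (c 0)).toMul : G) with hv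
    set x := ((e.symm (α (c 1))).toMul : G) with hx
    have h1 : cm (u : G) x = (((ρ a) (α (c 1))).toMul : G) := by
      have := hu (e.symm (α (c 1)))
      rw [e.apply_symm_apply] at this
      rw [← this]; rfl
    rw [← h1, mul_assoc v, ← cm_spec]
    have hc := (Conf.PP_comm_V u.2 (α (c 0)).toMul.2).eq
    rw [← hv] at hc
    calc (u : G) * (v * x) * (u : G)⁻¹ = (u : G) * v * x * (u : G)⁻¹ := by group
      _ = v * ((u : G) * x * (u : G)⁻¹) := by rw [hc]; group
  have hA1 : ∀ c : F, ∀ a : F, a ≠ 0 → ∀ u : PP V, (∀ x, dAdd p u x = ρ a (e x)) →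
      cm (u : G) ((e.symm (α (a⁻¹ * c))).toMul : G) = ((α c).toMul : G) := by
    intro c a ha u hu
    have := hu (e.symm (α (a⁻¹ * c)))
    rw [e.apply_symm_apply, hα, ← mul_assoc, mul_inv_cancel₀ ha, one_mul] at this
    rw [← this]; rfl
  have lower : ∀ (r : G) (hr : r ∈ PP V') (b : F),
      (∀ c : F, cm r ((α c).toMul : G) = ((e.symm (α (b * c))).toMul : G)) →
      κ ⟨r, mem_sup_right hr⟩ = Φ (Matrix.SpecialLinearGroup.transvection h10 b) := by
    intro r hr b hb
    refine MulEquiv.ext fun w => Subtype.ext ?_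
    obtain ⟨c, rfl⟩ := E.surjective w
    rw [hκ]
    show _ = ((E (Matrix.SpecialLinearGroup.transvection h10 b • E.symm (E c)) : p.W) : G)
    rw [E.symm_apply_apply]
    show r * (((α (c 0)).toMul : G) * ((e.symm (α (c 1))).toMul : G)) * r⁻¹ =
      ((α ((Matrix.SpecialLinearGroup.transvection h10 b • c) 0)).toMul : G) *
        ((e.symm (α ((Matrix.SpecialLinearGroup.transvection h10 b • c) 1))).toMul : G)
    rw [Classical.Linear.transvection_smul_apply, Classical.Linear.transvection_smul_apply,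
      if_neg h01, if_pos rfl, add_zero, map_add α, map_add e.symm, toMul_add, Subgroup.coe_mul,
      ← hb]
    set v := ((α (c 0)).toMul : G) with hv
    set x := ((e.symm (α (c 1))).toMul : G) with hx
    have hc := (Conf.PP_comm_V hr (e.symm (α (c 1))).toMul.2).eq
    rw [← hx] at hc
    have hcv : cm r v ∈ V' := p.symm.PP_cm hr (p.symm.le_PP (α (c 0)).toMul.2)
    calc r * (v * x) * r⁻¹ = (r * v * r⁻¹) * (r * x * r⁻¹) := by group
      _ = (cm r v * v) * x := by rw [cm_spec, hc, mul_inv_cancel_right]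
      _ = v * (x * cm r v) := by
        rw [(p.comm hcv (α (c 0)).toMul.2).eq, mul_assoc,
          (p.conf'.comm hcv (e.symm (α (c 1))).toMul.2).eq]
  -- upper elements give lower ones
  have relb : ∀ (u : PP V) (a : F), a ≠ 0 → (∀ x, dAdd p u x = ρ a (e x)) →
      ∀ r ∈ PP V', (∀ x ∈ V', r * cm (u : G) x * r⁻¹ = cm (u : G) x * x) →
      ∀ c : F, cm r ((α c).toMul : G) = ((e.symm (α (a⁻¹ * c))).toMul : G) := by
    intro u a ha hu r hr hrel c
    have h1 := hrel _ (e.symm (α (a⁻¹ * c))).toMul.2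
    rw [hA1 c a ha u hu, ← (p.comm (e.symm (α (a⁻¹ * c))).toMul.2 (α c).toMul.2).eq, cm_spec] at h1
    exact mul_right_cancel h1
  have hmove : ∀ (u : PP V) (a : F), a ≠ 0 → (∀ x, dAdd p u x = ρ a (e x)) →
      ∃ x0 ∈ V', ¬ Commute (u : G) x0 := by
    intro u a ha hu
    refine ⟨((e.symm (α (a⁻¹ * 1))).toMul : G), (e.symm (α (a⁻¹ * 1))).toMul.2, fun hc => ?_⟩
    have := hA1 1 a ha u hu
    rw [cm_eq_one.2 hc] at this
    exact one_ne_zero (α.injective (Additive.toMul.injective (Subtype.ext
      (this.symm.trans (by rw [map_zero, toMul_zero]; rfl)))))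
  have hrange : κ.range = Φ.range := by
    refine le_antisymm ?_ ?_
    · rw [MonoidHom.range_eq_map, Subgroup.map_le_iff_le_comap]
      rw [← Subgroup.subgroupOf_self H]
      conv_lhs => arg 1; rw [hH]
      rw [Subgroup.subgroupOf_sup (le_sup_left : PP V ≤ H) (le_sup_right : PP V' ≤ H)]
      refine sup_le ?_ ?_
      · rintro ⟨u, huH⟩ hu
        obtain ⟨a, ha⟩ := hup ⟨u, hu⟩
        exact ⟨_, (upper ⟨u, hu⟩ a ha).symm⟩
      · rintro ⟨r, hrH⟩ hr
        change r ∈ PP V' at hr
        show κ ⟨r, hrH⟩ ∈ Φ.range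
        by_cases hall : ∀ v ∈ V, Commute r v
        · have h0 := lower r hr 0 fun c => by
            rw [cm_eq_one.2 (hall _ (α c).toMul.2), zero_mul, map_zero, map_zero, toMul_zero]; rfl
          exact ⟨_, h0.symm⟩
        · push Not at hall
          obtain ⟨v, hv, hrv⟩ := hall
          obtain ⟨u, hu, -, hurel⟩ := p.symm.rel_exists hr hv hrv
          obtain ⟨a, ha⟩ := hup ⟨u, hu⟩
          have hx : cm r v ∈ V' := p.symm.PP_cm hr (p.symm.le_PP hv)
          have huv : cm u (cm r v) = v := by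
            have h1 := hurel v hv
            rw [cm_spec u, (p.comm hx hv).eq] at h1
            exact mul_right_cancel h1
          have ha0 : a ≠ 0 := by
            rintro rfl
            have := ha (Additive.ofMul ⟨cm r v, hx⟩)
            rw [map_zero] at this
            have h0 : cm u (cm r v) = 1 := congrArg (fun t : Additive ↥V => (t.toMul : G)) this
            rw [huv] at h0
            exact hrv (h0 ▸ Commute.one_right r)
          have h0 := lower r hr a⁻¹ (fun c => by
            have hx' := hA1 c a ha0 ⟨u, hu⟩ ha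
            have hcr : cm r ((α c).toMul : G) ∈ V' :=
              p.symm.PP_cm hr (p.symm.le_PP (α c).toMul.2)
            have h1 := hurel _ (α c).toMul.2
            rw [cm_spec u, (p.comm hcr (α c).toMul.2).eq] at h1
            have h2 : cm u (cm r ((α c).toMul : G)) = ((α c).toMul : G) := mul_right_cancel h1
            have hd : dAdd p ⟨u, hu⟩ (Additive.ofMul ⟨_, hcr⟩) =
                dAdd p ⟨u, hu⟩ (e.symm (α (a⁻¹ * c))) :=
              Additive.toMul.injective (Subtype.ext (h2.trans hx'.symm))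
            have hinj := (dAdd_bij p (u := ⟨u, hu⟩) (fun hz => hrv (by
              have h0 : cm u (cm r v) = 1 := congrArg
                (fun f : Additive ↥V' →+ Additive ↥V => ((f (Additive.ofMul ⟨cm r v, hx⟩)).toMul : G)) hz
              rw [huv] at h0
              exact h0 ▸ Commute.one_right r))).1 hd
            exact congrArg (fun t : Additive ↥V' => (t.toMul : G)) hinj)
          exact ⟨_, h0.symm⟩
    · rw [MonoidHom.range_eq_map, ← Classical.Linear.closure_transvectionSet, MonoidHom.map_closure,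
        Subgroup.closure_le]
      rintro _ ⟨_, ⟨i, j, hij, a, rfl⟩, rfl⟩
      have hcases : ∀ i j : Fin 2, i ≠ j → (i = 0 ∧ j = 1) ∨ (i = 1 ∧ j = 0) := by decide
      replace hcases := hcases i j hij
      rcases hcases with ⟨rfl, rfl⟩ | ⟨rfl, rfl⟩
      · obtain ⟨u, hu⟩ := hdown a
        exact ⟨_, upper u a hu⟩
      · by_cases ha : a = 0
        · subst ha
          rw [Matrix.SpecialLinearGroup.transvection_coeff_zero, map_one]
          exact one_mem _
        · obtain ⟨u, hu⟩ := hdown a⁻¹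
          obtain ⟨x0, hx0, h0⟩ := hmove u a⁻¹ (inv_ne_zero ha) hu
          obtain ⟨r, hr, -, hrel⟩ := p.rel_exists u.2 hx0 h0
          have := relb u a⁻¹ (inv_ne_zero ha) hu r hr hrel
          rw [inv_inv] at this
          exact ⟨_, lower r hr a this⟩
  exact ⟨(QuotientGroup.quotientMulEquivOfEq hker.symm).trans
    ((QuotientGroup.quotientKerEquivRange κ).trans
      ((MulEquiv.subgroupCongr hrange).trans (MonoidHom.ofInjective hΦinj).symm))⟩

theorem structure_Q (p : Pair V V') :
    (frattini ↥(QQ V)).map (QQ V).subtype = V ∧ (Subgroup.center ↥(QQ V)).map (QQ V).subtype = V ∧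
      (commutator ↥(QQ V)).map (QQ V).subtype = V := by
  haveI : Fact (Nat.Prime 2) := ⟨Nat.prime_two⟩
  have hPQ : ∀ {q : G}, q ∈ QQ V → q ∈ PP V := fun hq => by rw [p.PP_eq]; exact hq
  have hQ2 : IsPGroup 2 (QQ V) := CharP.isPGroup_pCoreOf 2 _
  haveI : Group.IsNilpotent (QQ V) := hQ2.isNilpotent
  haveI : (V.subgroupOf (QQ V)).Normal :=
    ⟨fun v hv y => mem_subgroupOf.2 (nmem (Conf.QQ_le_norm y.2) (mem_subgroupOf.1 hv))⟩
  have hcomm_le : commutator ↥(QQ V) ≤ V.subgroupOf (QQ V) := by
    rw [commutator_def, Subgroup.commutator_le]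
    intro a _ b _
    exact p.PP_cm (hPQ a.2) (hPQ b.2)
  have hV_le : V ≤ (commutator ↥(QQ V)).map (QQ V).subtype := by
    intro v hv
    obtain ⟨V₁, p₁, hap⟩ := p.exists_partner
    obtain ⟨x, hx, hx1⟩ := p.exists_ne_one
    obtain ⟨y, hy, e⟩ := p.surj p₁ hap hx hx1 hv
    refine ⟨⁅(⟨y, p₁.le hy⟩ : QQ V), ⟨x, p.le hx⟩⁆, ?_, e⟩
    rw [commutator_def]
    exact Subgroup.commutator_mem_commutator (mem_top _) (mem_top _)
  have hfr_le : frattini ↥(QQ V) ≤ V.subgroupOf (QQ V) := by
    rw [← QuotientGroup.ker_mk' (V.subgroupOf (QQ V))]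
    refine CharP.frattini_le_ker (p := 2) _ (fun a b => ?_) fun a => ?_
    · have h : (QuotientGroup.mk' (V.subgroupOf (QQ V))) (a * b * a⁻¹ * b⁻¹) = 1 :=
        (QuotientGroup.eq_one_iff (N := V.subgroupOf (QQ V)) _).2 (p.PP_cm (hPQ a.2) (hPQ b.2))
      rw [map_mul, map_mul, map_mul, map_inv, map_inv, mul_inv_eq_one, mul_inv_eq_iff_eq_mul] at h
      exact h
    · rw [← map_pow]
      exact (QuotientGroup.eq_one_iff (N := V.subgroupOf (QQ V)) _).2 (mem_subgroupOf.2 (by
        rw [SubmonoidClass.coe_pow, sq]; exact p.PP_sq (hPQ a.2)))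
  have hmap : ∀ K : Subgroup ↥(QQ V), K ≤ V.subgroupOf (QQ V) → K.map (QQ V).subtype ≤ V := by
    rintro K hK _ ⟨k, hk, rfl⟩
    exact hK hk
  refine ⟨le_antisymm (hmap _ hfr_le)
      (hV_le.trans (map_mono (Coprime.commutator_le_frattini _))),
    le_antisymm ?_ ?_, le_antisymm (hmap _ hcomm_le) hV_le⟩
  · rintro _ ⟨z, hz, rfl⟩
    exact p.center_PP (hPQ z.2) fun r hr =>
      (congrArg Subtype.val (Subgroup.mem_center_iff.1 hz ⟨r, Conf.PP_le_QQ hr⟩)).symm
  · intro v hv
    refine ⟨⟨v, p.conf.le_QQ hv⟩, Subgroup.mem_center_iff.2 fun q => Subtype.ext ?_, rfl⟩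
    exact (Conf.PP_comm_V (hPQ q.2) hv).eq

/-- Let G be a finite group, V an elementary abelian 2-subgroup of G and M the normalizer of V; write Q for the largest normal 2-subgroup of M. Suppose (1) the generalized Fitting subgroup of M equals Q; (2) V is a maximal abelian normal subgroup of M; (3) every conjugate of V equals V or meets V trivially, and for some g ∈ G the conjugate V' = g V g⁻¹ is different from V and contained in Q. Let P be the centralizer of V in Q, W the subgroup generated by V and V', and H the subgroup generated by P and g P g⁻¹. Then: (a) V is contained in g Q g⁻¹; (b) every non-identity element of W lies in exactly one conjugate of V contained in W, H normalizes W, and H modulo the centralizer of W in H is isomorphic to the special linear group of dimension 2 over the field with |V| elements; (c) P = Q, and V equals the Frattini subgroup, the centre and the commutator subgroup of Q. -/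
theorem result {G : Type*} [Group G] [Finite G] (V : Subgroup G)
    (hV : Cfsg.IsElementaryAbelian 2 V)
    (h1 : (Cfsg.generalizedFittingSubgroup ↥(Subgroup.normalizer (V : Set G))).map (Subgroup.normalizer (V : Set G)).subtype =
      (Cfsg.pCore 2 ↥(Subgroup.normalizer (V : Set G))).map (Subgroup.normalizer (V : Set G)).subtype)
    (h2 : ∀ A : Subgroup G, V ≤ A → A ≤ Subgroup.normalizer (V : Set G) → IsMulCommutative ↥A →
      (∀ m ∈ Subgroup.normalizer (V : Set G), ∀ a ∈ A, m * a * m⁻¹ ∈ A) → A = V)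
    (hti : ∀ x : G, V.map (MulAut.conj x).toMonoidHom = V ∨ V.map (MulAut.conj x).toMonoidHom ⊓ V = ⊥)
    (g : G) (hg : V.map (MulAut.conj g).toMonoidHom ≠ V)
    (hgQ : V.map (MulAut.conj g).toMonoidHom ≤ (Cfsg.pCore 2 ↥(Subgroup.normalizer (V : Set G))).map (Subgroup.normalizer (V : Set G)).subtype) :
    let Q : Subgroup G := (Cfsg.pCore 2 ↥(Subgroup.normalizer (V : Set G))).map (Subgroup.normalizer (V : Set G)).subtype
    let P : Subgroup G := Q ⊓ Subgroup.centralizer (V : Set G)
    let W : Subgroup G := V ⊔ V.map (MulAut.conj g).toMonoidHom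
    let H : Subgroup G := P ⊔ P.map (MulAut.conj g).toMonoidHom
    V ≤ Q.map (MulAut.conj g).toMonoidHom ∧
      (∀ w ∈ W, w ≠ 1 → ∃! U : Subgroup G, (∃ x : G, U = V.map (MulAut.conj x).toMonoidHom) ∧ U ≤ W ∧ w ∈ U) ∧
      H ≤ Subgroup.normalizer (W : Set G) ∧
      (∀ hN : ((Subgroup.centralizer (W : Set G)).subgroupOf H).Normal, ∃ (F : Type) (_ : Field F) (_ : Fintype F), Fintype.card F = Nat.card ↥V ∧
        Nonempty (↥H ⧸ (Subgroup.centralizer (W : Set G)).subgroupOf H ≃* Matrix.SpecialLinearGroup (Fin 2) F)) ∧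
      P = Q ∧ (frattini ↥Q).map Q.subtype = V ∧ (Subgroup.center ↥Q).map Q.subtype = V ∧ (commutator ↥Q).map Q.subtype = V := by
  have hQd : (Cfsg.pCore 2 ↥(Subgroup.normalizer (V : Set G))).map (Subgroup.normalizer (V : Set G)).subtype = QQ V := rfl
  have hconf : Conf V := by
    refine ⟨hV, ?_, h2, hti⟩
    intro x hx hc
    have hm := congrArg (fun K : Subgroup G => x ∈ K) h1
    rw [hQd] at hm
    rw [← hm]
    refine ⟨⟨x, hx⟩, Components.Fitting.centralizer_genFitting_le ?_, rfl⟩
    intro f hf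
    refine Subtype.ext ((hc f ?_).eq.symm)
    rw [← hQd, ← h1]
    exact ⟨f, hf, rfl⟩
  have p : Pair V (V.map (MulAut.conj g).toMonoidHom) := ⟨hconf, ⟨g, rfl⟩, hg, hgQ⟩
  have hPg : (PP V).map (MulAut.conj g).toMonoidHom = PP (V.map (MulAut.conj g).toMonoidHom) :=
    (PP_cj g V).symm
  haveI : IsMulCommutative ↥V := hV.1
  intro Q P W H
  have hW : W = p.W := p.W_eq.symm
  have hH : H = PP V ⊔ PP (V.map (MulAut.conj g).toMonoidHom) := by rw [← hPg]; rfl
  refine ⟨?_, ?_, ?_, ?_, p.PP_eq, (structure_Q p).1, (structure_Q p).2.1, (structure_Q p).2.2⟩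
  · have := p.le_QQ'
    rw [QQ_cj] at this
    exact this
  · intro w hw hw1
    rw [hW] at hw ⊢
    exact p.exists_unique_member hw hw1
  · rw [hH, hW]; exact H_le_normalizer p
  · rw [hH, hW]
    intro hN
    exact quotient_iso p hN

end Cfsg.Agent.S1786
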