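import Cfsg.Statements.S1824
import Cfsg.Agent.Lib.PLocal.CommonNormal.Qrc.Main

set_option autoImplicit false
open Cfsg

namespace Cfsg.Agent.S1824

/-- The qrc-lemma in the form used for simple QTKE-groups. Let G be a non-abelian finite simple QTKE-group, T a Sylow 2-subgroup of G and M a maximal 2-local subgroup of G containing T. Let T ≤ M₀ ≤ M, let H be a minimal member of the set of subgroups of G with nontrivial 2-core that contain T and are not contained in M, and let V be a 2-reduced elementary abelian normal 2-subgroup of M₀ with O₂(M₀) = C_T(V). Suppose H ∩ M normalizes O²(M₀) or normalizes V. Then one of the following holds: (1) some nontrivial subgroup of O₂(M₀) is normalized by both M₀ and H; (2) V ≰ O₂(H) and q̂(M₀/C_{M₀}(V), V) ≤ 2; (3) q(M₀/C_{M₀}(V), V) ≤ 2. Here q (resp. q̂) ≤ 2 means that some subgroup of M₀ inducing a nontrivial elementary abelian 2-group A on V acts quadratically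 (resp. cubically) on V with |V : C_V(A)| ≤ |A|². -/
theorem result {G : Type*} [Group G] [Finite G] [IsSimpleGroup G]
    (hG : ¬ IsMulCommutative G) (hQ : Cfsg.IsQTKE G) (T : Sylow 2 G) (M M₀ H V : Subgroup G)
    (hM : M ∈ Cfsg.maxTwoLocalsContaining (T : Subgroup G))
    (hTM₀ : (T : Subgroup G) ≤ M₀) (hM₀M : M₀ ≤ M) (hH : H ∈ Cfsg.calHMin (T : Subgroup G) M)
    (hV : V ∈ Cfsg.calR2 M₀)
    (hR : (Cfsg.pCore 2 ↥M₀).map M₀.subtype = (T : Subgroup G) ⊓ Subgroup.centralizer (V : Set G))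
    (hI : H ⊓ M ≤ Subgroup.normalizer (Cfsg.oddGenerated M₀ : Set G) ∨
      H ⊓ M ≤ Subgroup.normalizer (V : Set G)) :
    (∃ R₀ : Subgroup G, R₀ ≠ ⊥ ∧ R₀ ≤ (Cfsg.pCore 2 ↥M₀).map M₀.subtype ∧
        M₀ ⊔ H ≤ Subgroup.normalizer (R₀ : Set G)) ∨
      (¬ V ≤ (Cfsg.pCore 2 ↥H).map H.subtype ∧ Cfsg.CubicParamLE M₀ V 2) ∨
      Cfsg.QuadParamLE M₀ V 2 := by
  obtain ⟨⟨⟨hH1, hTH⟩, hHM⟩, hmin⟩ := hH
  obtain ⟨hVle, hVn, hVel, -⟩ := hV
  obtain ⟨hVc, hV2⟩ := Cfsg.Agent.PLocal.ThompsonSubgroup.isElementaryAbelian_iff.1 hVel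
  refine Cfsg.Agent.PLocal.CommonNormal.Qrc.qrc (T := T) (M := M)
    ⟨hQ.2.2, hM.2, hTM₀, hTH, hH1, hHM, fun X hTX hXH => ?_, hVle, hVn, hVc,
      fun u hu => by rw [← pow_two]; exact hV2 u hu, hR⟩
  by_cases hXM : X ≤ M
  · exact Or.inr hXM
  refine Or.inl (hmin X ⟨⟨fun e => hH1 ?_, hTX⟩, hXM⟩ hXH)
  have hQT : Cfsg.pCoreOf 2 H ≤ (T : Subgroup G) :=
    Cfsg.Agent.CharP.pCoreOf_le_of_isSylIn
      ((Cfsg.Agent.CharP.isSylIn_top_iff.2 ⟨T, rfl⟩).mono hTH le_top)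
  have hle : Cfsg.pCoreOf 2 H ≤ Cfsg.pCoreOf 2 X :=
    Cfsg.Agent.CharP.le_pCoreOf (hQT.trans hTX) (hXH.trans (Cfsg.Agent.CharP.le_normalizer_pCoreOf 2 H))
      (Cfsg.Agent.CharP.isPGroup_pCoreOf 2 H)
  rw [Cfsg.pCoreOf, Cfsg.pCoreOf, e, Subgroup.map_bot, le_bot_iff] at hle
  exact (Subgroup.map_eq_bot_iff_of_injective _ H.subtype_injective).1 hle

end Cfsg.Agent.S1824
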