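import Cfsg.Statements.S1829
import Cfsg.Agent.Lib.S4Wr.Fusion
import Cfsg.Agent.Lib.S4Wr.Endgame
-- import your own Cfsg.Agent.* helpers here

set_option autoImplicit false
open Cfsg

namespace Cfsg.Agent.S1829

/-- There is no non-abelian finite simple QTKE-group G with a Sylow 2-subgroup T and a maximal 2-local subgroup M containing T such that M is isomorphic to the wreath product S₄ ≀ Z₂ (the subgroup of the symmetric group of degree 8 preserving a partition into two blocks of size 4; order 1152). -/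
theorem result {G : Type*} [Group G] [Finite G] [IsSimpleGroup G]
    (hG : ¬ IsMulCommutative G) (hQ : Cfsg.IsQTKE G) (T : Sylow 2 G) (M : Subgroup G)
    (hM : M ∈ Cfsg.maxTwoLocalsContaining (T : Subgroup G))
    (hW : Nonempty (↥M ≃* ↥Cfsg.blockStabilizerS4wr2)) : False := by
  haveI : Fact (Nat.Prime 2) := ⟨Nat.prime_two⟩
  obtain ⟨e, he⟩ := Cfsg.Agent.S4Wr.exists_emb M hW
  have hdvd : Nat.card (T : Subgroup G) ∣ 1152 := by
    rw [← e.card_wr, he]
    exact Subgroup.card_dvd_of_le hM.2
  have hT : Nat.card (T : Subgroup G) ≤ 128 := by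
    obtain ⟨i, hi⟩ := T.2.exists_card_eq
    rw [hi] at hdvd ⊢
    by_contra hlt
    have h8 : 8 ≤ i := by
      by_contra hi8
      exact hlt ((Nat.pow_le_pow_right two_pos (show i ≤ 7 by omega)).trans le_rfl)
    have := (pow_dvd_pow 2 h8).trans hdvd
    norm_num at this
  obtain ⟨Q, hQs⟩ := (IsPGroup.of_card (p := 2) (n := 7) e.card_syl).exists_le_sylow
  have hQT : Nat.card (Q : Subgroup G) = Nat.card (T : Subgroup G) := by
    rw [Sylow.card_eq_multiplicity, Sylow.card_eq_multiplicity]
  have hQe : (Q : Subgroup G) = e.syl :=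
    (Subgroup.eq_of_le_of_card_ge hQs (by rw [e.card_syl, hQT]; exact hT)).symm
  let c : Cfsg.Agent.S4Wr.Ctx G :=
    { e := e
      T := Q
      hT := hQe
      hmax := he.symm ▸ hM.1
      qt := hQ.1
      ec := hQ.2.2
      simple := inferInstance }
  obtain ⟨hk1, hkz, ρ, h1, h2, h3, h4, h5⟩ := c.exists_rho
  exact c.endgame hk1 hkz ρ h1 h2 h3 h4 h5

end Cfsg.Agent.S1829
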