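import Cfsg.Statements.S1832
import Cfsg.Agent.Lib.QTTwoMax.Main
import Cfsg.Agent.Lib.QTTwoMax.Ident
import Cfsg.Agent.Lib.QTTwoMax.Wreath

set_option autoImplicit false
open Cfsg Cfsg.Agent.QTTwoMax

namespace Cfsg.Agent.S1832

/-- Let G be a non-abelian finite simple QTKE-group and T a Sylow 2-subgroup of G, and let Z = Ω₁(Z(T)) be the subgroup generated by the involutions of the centre of T. Suppose ℒ_f(G, T) is empty and C_G(Z) lies in at least two distinct maximal 2-local subgroups of G. Then G is isomorphic to L₃(2) or to A₆. -/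
theorem result {G : Type*} [Group G] [Finite G] [IsSimpleGroup G]
    (hG : ¬ IsMulCommutative G) (hQ : Cfsg.IsQTKE G) (T : Sylow 2 G)
    (hE : Cfsg.calLf (T : Subgroup G) = ∅)
    (hZ : ∃ M₁ M₂ : Subgroup G,
      M₁ ∈ Cfsg.maxTwoLocalsContaining (Subgroup.centralizer ((Cfsg.omegaOne 2 ((T : Subgroup G) ⊓ Subgroup.centralizer ((T : Subgroup G) : Set G))) : Set G)) ∧
      M₂ ∈ Cfsg.maxTwoLocalsContaining (Subgroup.centralizer ((Cfsg.omegaOne 2 ((T : Subgroup G) ⊓ Subgroup.centralizer ((T : Subgroup G) : Set G))) : Set G)) ∧ M₁ ≠ M₂) :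
    (∃ (F : Type) (_ : Field F) (_ : Fintype F), Fintype.card F = 2 ∧
        Nonempty (G ≃* Matrix.ProjectiveSpecialLinearGroup (Fin 3) F)) ∨
      Nonempty (G ≃* ↥(alternatingGroup (Fin 6))) := by
  obtain ⟨M₁, M₂, hM₁, hM₂, hne⟩ := hZ
  have hcz : QTCentZ.cz T = (T : Subgroup G) :=
    QTCentZ.eq_of_irred ⟨hQ.2.2, hE, hM₁, M₂, hM₂, hne.symm⟩ hQ.1
      fun N hN => QTCentZ.irred hG hQ hN
  have c : Ctx T := by
    refine ⟨hQ.1, hcz, fun M hM => ?_, M₁, M₂, ⟨hM₁.1, hcz.ge.trans hM₁.2⟩,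
      ⟨hM₂.1, hcz.ge.trans hM₂.2⟩, hne⟩
    refine ⟨hQ.2.2, hE, ⟨hM.1, hcz.le.trans hM.2⟩, ?_⟩
    by_cases h : M₁ = M
    · exact ⟨M₂, hM₂, fun e => hne (h.trans e.symm)⟩
    · exact ⟨M₁, hM₁, h⟩
  obtain ⟨M, M', hM, hM', hne'⟩ := c.two
  by_cases hall : ∀ N, Mx T N → ∃ L₁ L₂, Double T N L₁ L₂
  · exact (wreath hG hQ.2.1 c (fun N hN => nJ_le c hN) hall
      fun N N' L₁ L₂ L₁' L₂' hN hN' h d d' => dir c hN hN' h d d').elim
  push Not at hall
  obtain ⟨N, hN, hno⟩ := hall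
  obtain ⟨K, s⟩ : ∃ K, Single T N K := by
    rcases kind c hN with h | ⟨K₁, K₂, d⟩
    · exact h
    · exact absurd d (hno K₁ K₂)
  obtain ⟨N', hN', hd⟩ : ∃ N', Mx T N' ∧ N ≠ N' := by
    by_cases h : N = M
    · exact ⟨M', hM', fun e => hne' (h.symm.trans e)⟩
    · exact ⟨M, hM, h⟩
  rcases kind c hN' with ⟨K', s'⟩ | ⟨K₁, K₂, d'⟩
  · exact ident hG T hcz (Single.two c s s' hN hN' hd)
  · exact (Single.no_double c s d' hN hN').elim

end Cfsg.Agent.S1832
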