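import Cfsg.Statements.S1850
import Mathlib
import Cfsg.Agent.InvChar.EvenChar

set_option linter.all false

set_option autoImplicit false
open Cfsg

namespace Cfsg.Agent.S1850

/-- Let G be a non-abelian finite simple QTKE-group and T a Sylow 2-subgroup of G. If U is a nontrivial 2-subgroup of G with U ∩ Z(T) ≠ 1, then F*(N_G(U)) = O₂(N_G(U)). -/
theorem result {G : Type*} [Group G] [Finite G] [IsSimpleGroup G]
    (hG : ¬ IsMulCommutative G) (hQ : Cfsg.IsQTKE G) (T : Sylow 2 G) (U : Subgroup G)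
    (hU : IsPGroup 2 ↥U) (hZ : U ⊓ ((T : Subgroup G) ⊓ Subgroup.centralizer ((T : Subgroup G) : Set G)) ≠ ⊥) :
    Subgroup.normalizer (U : Set G) ∈ Cfsg.calHe G := by
  haveI : Fact (Nat.Prime 2) := ⟨Nat.prime_two⟩
  obtain ⟨⟨z, hz⟩, hz1⟩ := Subgroup.ne_bot_iff_exists_ne_one.1 hZ
  have hz1' : z ≠ 1 := fun e => hz1 (Subtype.ext e)
  have hX : Subgroup.zpowers z ≠ ⊥ := by simpa using hz1'
  have hTX : (T : Subgroup G) ≤ Subgroup.normalizer (Subgroup.zpowers z : Set G) := by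
    intro t ht
    refine Subgroup.centralizer_le_normalizer _ ?_
    rintro _ ⟨i, rfl⟩
    exact ((Commute.zpow_right (show Commute t z from hz.2.2 t ht) i).eq).symm
  have h1 := InvChar.EvenChar.normalizer_mono hU (Subgroup.zpowers z) (Subgroup.zpowers_le.2 hz.1)
    ((CharP.isCharP_iff _).2 (hQ.2.2 _ ⟨_, hU.to_le (Subgroup.zpowers_le.2 hz.1), hX, rfl⟩ ⟨T, hTX⟩))
  exact CharP.genFitting_eq_pCore_iff.2 ((CharP.isCharP_iff _).1 h1)

end Cfsg.Agent.S1850
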