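import Cfsg.Statements.S1892
import Cfsg.Agent.Lib.PLocal.PSolvable
import Cfsg.Agent.Lib.Coprime.OmegaDetect

set_option autoImplicit false
open Cfsg
open scoped commutatorElement

namespace Cfsg.Agent.S1892

/-- Let S be a finite p-solvable group with no nontrivial normal subgroup of order prime to p, A a p-subgroup of S, and Q a nontrivial A-invariant subgroup of order prime to p with [A, Q] = Q. Then the commutator [O_p(S), A, Q] is nontrivial. -/
theorem result {S : Type*} [Group S] [Finite S] {p : ℕ} [Fact p.Prime]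
    (hS : Cfsg.IsPSolvable p S) (hred : Cfsg.pPrimeCore p S = ⊥)
    (A Q : Subgroup S) (hA : IsPGroup p A) (hQ : ¬ p ∣ Nat.card Q) (hQ1 : Q ≠ ⊥)
    (hinv : ∀ a ∈ A, ∀ x ∈ Q, a * x * a⁻¹ ∈ Q) (hAQ : ⁅A, Q⁆ = Q) :
    ⁅⁅Cfsg.pCore p S, A⁆, Q⁆ ≠ ⊥ := by
  intro h0
  set P := Cfsg.pCore p S with hPdef
  set W := ⁅P, A⁆ with hW
  have hPp : IsPGroup p P := Cfsg.Agent.PLocal.Cores.isPGroup_pCore
  have hPn : P.Normal := inferInstance
  have hWP : W ≤ P := Subgroup.commutator_le_left P A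
  rw [Subgroup.commutator_eq_bot_iff_le_centralizer] at h0
  have hcop : ∀ c ∈ Q, (orderOf c).Coprime p := fun c hc =>
    ((Fact.out : p.Prime).coprime_iff_not_dvd.mpr hQ).symm.coprime_dvd_left
      (Subgroup.orderOf_dvd_natCard Q hc)
  have hchar := Cfsg.Agent.PLocal.PSolvable.centralizer_pCore_le hred
    (Cfsg.Agent.PLocal.PSolvable.subgroup hS _)
  have key : ∀ a ∈ A, ∀ x ∈ Q, a * x * a⁻¹ * x⁻¹ = 1 := by
    intro a ha x hx
    set c := a * x * a⁻¹ * x⁻¹ with hc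
    have hcQ : c ∈ Q := Q.mul_mem (hinv a ha x hx) (Q.inv_mem hx)
    have hQW : ∀ w ∈ W, ∀ y ∈ Q, y * w = w * y := fun w hw y hy =>
      Subgroup.mem_centralizer_iff.mp (h0 hw) y hy
    have hmod : ∀ k ∈ P, ∀ z ∈ A, z * k * z⁻¹ * k⁻¹ ∈ W := by
      intro k hk z hz
      have := W.inv_mem (Subgroup.commutator_mem_commutator hk hz : ⁅k, z⁆ ∈ W)
      rw [commutatorElement_def] at this
      rwa [show (k * z * k⁻¹ * z⁻¹)⁻¹ = z * k * z⁻¹ * k⁻¹ by group] at this
    have hcC : c ∈ Subgroup.centralizer (P : Set S) := by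
      rw [Subgroup.mem_centralizer_iff]
      intro k hk
      refine (Cfsg.Agent.Coprime.OmegaDetect.eq_one_of_fix (hQW _ ?_ c hcQ) ?_).symm
      · set k1 := x⁻¹ * k * x
        have hk1 : k1 ∈ P := by simpa [k1] using hPn.conj_mem k hk x⁻¹
        set k2 := a⁻¹ * k1 * a
        have hk2 : k2 ∈ P := by simpa [k2] using hPn.conj_mem k1 hk1 a⁻¹
        set k3 := x * k2 * x⁻¹
        have hk3 : k3 ∈ P := hPn.conj_mem k2 hk2 x
        have e1 := hmod k1 hk1 a⁻¹ (A.inv_mem ha)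
        rw [show a⁻¹ * k1 * a⁻¹⁻¹ * k1⁻¹ = k2 * k1⁻¹ by simp only [k2]; group] at e1
        have e2 : k3 * k⁻¹ ∈ W := by
          have : x * (k2 * k1⁻¹) * x⁻¹ = k2 * k1⁻¹ := by rw [hQW _ e1 x hx, mul_inv_cancel_right]
          rw [show k3 * k⁻¹ = x * (k2 * k1⁻¹) * x⁻¹ by simp only [k3, k1]; group, this]
          exact e1
        have := W.mul_mem (hmod k3 hk3 a ha) e2
        rwa [show a * k3 * a⁻¹ * k3⁻¹ * (k3 * k⁻¹) = c * k * c⁻¹ * k⁻¹ by
          simp only [hc, k3, k2, k1]; group] at this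
      · exact Cfsg.Agent.Coprime.OmegaDetect.coprime_of_mem hPp (hcop c hcQ)
          (P.mul_mem (hPn.conj_mem k hk c) (P.inv_mem hk))
    have hcP : c ∈ P := hchar hcC
    exact orderOf_eq_one_iff.mp (Nat.eq_one_of_dvd_coprimes
      (Cfsg.Agent.Coprime.OmegaDetect.coprime_of_mem hPp (hcop c hcQ) hcP) dvd_rfl dvd_rfl)
  apply hQ1
  rw [← hAQ, Subgroup.commutator_eq_bot_iff_le_centralizer]
  intro a ha
  rw [Subgroup.mem_centralizer_iff]
  intro x hx
  have h := key a ha x hx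
  rw [mul_inv_eq_one, mul_inv_eq_iff_eq_mul] at h
  exact h.symm

end Cfsg.Agent.S1892
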