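import Cfsg.Statements.S1893
import Cfsg.Agent.Lib.PLocal.SolvableSeparable
import Cfsg.Agent.Lib.PLocal.Quadratic
import Cfsg.Agent.Lib.PLocal.StableNormal
import Cfsg.Agent.Lib.Cores.Fitting
import Cfsg.Agent.Lib.Hall.Solvable
import Mathlib

set_option autoImplicit false
open Cfsg

namespace Cfsg.Agent.S1893

open Cfsg.Agent
open scoped commutatorElement

/-- In a solvable group the action on every `q`-core, `q ≥ 5`, is `q`-stable. -/
theorem stable_on_core {G : Type*} [Group G] [Finite G] [Group.IsSolvable G] {q : ℕ} [Fact q.Prime]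
    (hq : pCore q G ≠ ⊥ → 5 ≤ q) : IsPStableOn q (pCore q G) := by
  by_cases hV : pCore q G = ⊥
  · intro a _
    have hC : Subgroup.centralizer (pCore q G : Set G) = ⊤ := by
      rw [hV, eq_top_iff]
      intro g _
      rw [Subgroup.mem_centralizer_iff]
      intro h hh
      simp_all
    rw [show (QuotientGroup.mk a : G ⧸ Subgroup.centralizer (pCore q G : Set G)) = 1 from
      (QuotientGroup.eq_one_iff a).mpr (hC ▸ Subgroup.mem_top a)]
    exact one_mem _
  have hVp : IsPGroup q (pCore q G) := PLocal.Cores.isPGroup_pCore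
  refine PLocal.StableNormal.of_section _ hVp ?_
  haveI : ((pCore q G).map (QuotientGroup.mk' ((frattini ↥(pCore q G)).map (pCore q G).subtype))).Normal :=
    Subgroup.Normal.map inferInstance _ (QuotientGroup.mk'_surjective _)
  exact PLocal.Quadratic.isPStableOnSection_of _ _ (PLocal.Quadratic.isPStableOn_of_pSolvable (hq hV)
    (PLocal.PSolvable.quotient (PLocal.SolvableSeparable.isPSolvable_of_isSolvable q G) _)
    (PLocal.Quadratic.frattini_quotient_elementary hVp))

/-- An abelian self-centralizing normal subgroup of a subgroup containing all the cores of a solvable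
group with Fitting primes at least 5 contains its centralizer. -/
theorem centralizer_le {G : Type*} [Group G] [Finite G] [Group.IsSolvable G]
    (hq5 : ∀ q : ℕ, q.Prime → pCore q G ≠ ⊥ → 5 ≤ q) (E A : Subgroup G)
    (hE : ∀ q : ℕ, q.Prime → pCore q G ≤ E) (hEA : E ≤ Subgroup.normalizer (A : Set G))
    (hcA : E ⊓ Subgroup.centralizer (A : Set G) = A) :
    Subgroup.centralizer (A : Set G) ≤ A := by
  -- every prime-power element of the centralizer lies in a core
  have key : ∀ (q : ℕ) [Fact q.Prime] (y : G), y ∈ Subgroup.centralizer (A : Set G) →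
      (∃ k : ℕ, y ^ q ^ k = 1) → y ∈ E := by
    intro q hq y hy ⟨k, hk⟩
    have hquad : ∀ r : ℕ, r.Prime → ⁅⁅pCore r G, Subgroup.zpowers y⁆, Subgroup.zpowers y⁆ = ⊥ := by
      intro r hr
      rw [Subgroup.commutator_eq_bot_iff_le_centralizer, Subgroup.commutator_le]
      intro v hv z hz
      have hzA : z ∈ Subgroup.centralizer (A : Set G) := Subgroup.zpowers_le.mpr hy hz
      have hc : ⁅v, z⁆ ∈ A := by
        rw [← hcA, Subgroup.mem_inf, commutatorElement_def]
        refine ⟨?_, mul_mem ?_ (inv_mem hzA)⟩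
        · rw [show v * z * v⁻¹ * z⁻¹ = v * (z * v⁻¹ * z⁻¹) by group]
          exact mul_mem (hE r hr hv) (hE r hr ((inferInstance : (pCore r G).Normal).conj_mem _ (inv_mem hv) z))
        · rw [Subgroup.mem_centralizer_iff]
          intro a ha
          have ha' : v⁻¹ * a * v ∈ A := by
            simpa using (Subgroup.mem_normalizer_iff.mp (inv_mem (hEA (hE r hr hv))) a).mp ha
          have h := Subgroup.mem_centralizer_iff.mp hzA _ ha'
          calc a * (v * z * v⁻¹) = v * ((v⁻¹ * a * v) * z) * v⁻¹ := by group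
            _ = v * (z * (v⁻¹ * a * v)) * v⁻¹ := by rw [h]
            _ = _ := by group
      rw [Subgroup.mem_centralizer_iff]
      intro w hw
      exact (Subgroup.mem_centralizer_iff.mp (Subgroup.zpowers_le.mpr hy hw) _ hc).symm
    set W : Subgroup G := (pCore q (G ⧸ Subgroup.centralizer (pCore q G : Set G))).comap
        (QuotientGroup.mk' _) ⊓
      ⨅ r : {r : ℕ // r.Prime ∧ r ≠ q}, Subgroup.centralizer (pCore (r : ℕ) G : Set G) with hW
    haveI hWn : W.Normal := by
      haveI : (⨅ r : {r : ℕ // r.Prime ∧ r ≠ q}, Subgroup.centralizer (pCore (r : ℕ) G : Set G)).Normal :=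
        Subgroup.normal_iInf_normal fun r => inferInstance
      rw [hW]
      exact inferInstance
    have hyW : y ∈ W := by
      refine Subgroup.mem_inf.mpr ⟨stable_on_core (hq5 q hq.out) y (hquad q hq.out), ?_⟩
      refine Subgroup.mem_iInf.mpr fun ⟨r, hr, hne⟩ => ?_
      haveI : Fact r.Prime := ⟨hr⟩
      have h1 := stable_on_core (hq5 r hr) y (hquad r hr)
      obtain ⟨j, hj⟩ := (PLocal.Cores.isPGroup_pCore
        (p := r) (G := G ⧸ Subgroup.centralizer (pCore r G : Set G))) ⟨_, h1⟩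
      have hj' : (QuotientGroup.mk y : G ⧸ Subgroup.centralizer (pCore r G : Set G)) ^ r ^ j = 1 :=
        congrArg Subtype.val hj
      have hk' : (QuotientGroup.mk y : G ⧸ Subgroup.centralizer (pCore r G : Set G)) ^ q ^ k = 1 := by
        rw [← QuotientGroup.mk_pow, hk, QuotientGroup.mk_one]
      have h2 : (QuotientGroup.mk y : G ⧸ Subgroup.centralizer (pCore r G : Set G)) = 1 :=
        orderOf_eq_one_iff.mp (Nat.eq_one_of_dvd_coprimes
          (((Nat.coprime_primes hr hq.out).mpr hne).pow j k)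
          (orderOf_dvd_of_pow_eq_one hj') (orderOf_dvd_of_pow_eq_one hk'))
      exact (QuotientGroup.eq_one_iff y).mp h2
    set F := fittingSubgroup G with hF
    set CF := Subgroup.centralizer (F : Set G) with hCF
    set CW := CF.subgroupOf W with hCW
    haveI : F.Normal := Cores.fittingSubgroup_normal
    haveI : CW.Normal := by rw [hCW, hCF]; infer_instance
    have hquot : IsPGroup q (W ⧸ CW) := by
      intro m
      obtain ⟨⟨m, hm⟩, rfl⟩ := QuotientGroup.mk'_surjective CW m
      obtain ⟨hm1, hm2⟩ := Subgroup.mem_inf.mp hm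
      obtain ⟨j, hj⟩ := (PLocal.Cores.isPGroup_pCore
        (p := q) (G := G ⧸ Subgroup.centralizer (pCore q G : Set G))) ⟨_, hm1⟩
      refine ⟨j, (QuotientGroup.eq_one_iff _).mpr ?_⟩
      rw [hCW, Subgroup.mem_subgroupOf, hCF, Subgroup.mem_centralizer_iff]
      intro f hf
      have hF' : F ≤ Subgroup.centralizer ({m ^ q ^ j} : Set G) := by
        rw [hF, Cores.fittingSubgroup_eq_iSup]
        refine iSup_le fun r w hw => Subgroup.mem_centralizer_singleton_iff.mpr ?_
        rcases eq_or_ne (r : ℕ) q with hrq | hrq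
        · rw [hrq] at hw
          exact Subgroup.mem_centralizer_iff.mp
            ((QuotientGroup.eq_one_iff _).mp (congrArg Subtype.val hj)) w hw
        · exact Subgroup.mem_centralizer_iff.mp
            (pow_mem (Subgroup.mem_iInf.mp hm2 ⟨r, Nat.prime_of_mem_primeFactors r.2, hrq⟩) _) w hw
      exact Subgroup.mem_centralizer_singleton_iff.mp (hF' hf)
    obtain ⟨P, hP⟩ := IsPGroup.exists_le_sylow (G := W) (P := Subgroup.zpowers (⟨y, hyW⟩ : W))
      (p := q) (by
        rintro ⟨_, i, rfl⟩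
        refine ⟨k, Subtype.ext (Subtype.ext ?_)⟩
        show (y ^ i) ^ q ^ k = 1
        rw [← zpow_natCast, ← zpow_mul, mul_comm, zpow_mul, zpow_natCast, hk, one_zpow])
    set PG := (P : Subgroup W).map W.subtype with hPG
    have hVW : pCore q G ≤ W := by
      intro v hv
      refine Subgroup.mem_inf.mpr ⟨?_, Subgroup.mem_iInf.mpr fun ⟨r, hr, hne⟩ => ?_⟩
      · exact PLocal.Cores.map_pCore_le (QuotientGroup.mk'_surjective _) ⟨v, hv, rfl⟩
      · haveI : Fact r.Prime := ⟨hr⟩
        exact Subgroup.mem_centralizer_iff.mpr fun w hw => Cores.pCore_commute hne hw hv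
    have hVP : pCore q G ≤ PG := by
      intro v hv
      refine ⟨⟨v, hVW hv⟩, ?_, rfl⟩
      exact (((PLocal.Cores.isPGroup_pCore (p := q)).comap_subtype (K := W)).le_sylow_of_normal P
        : (pCore q G).subgroupOf W ≤ P) hv
    have hFN : F ≤ Subgroup.normalizer (PG : Set G) := by
      rw [hF, Cores.fittingSubgroup_eq_iSup]
      refine iSup_le fun r => ?_
      rcases eq_or_ne (r : ℕ) q with hrq | hrq
      · rw [hrq]
        exact hVP.trans Subgroup.le_normalizer
      · intro w hw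
        refine Subgroup.mem_normalizer_fintype fun m hm => ?_
        obtain ⟨m', hm', rfl⟩ := hm
        have h := Subgroup.mem_centralizer_iff.mp (Subgroup.mem_iInf.mp (Subgroup.mem_inf.mp m'.2).2
          ⟨r, Nat.prime_of_mem_primeFactors r.2, hrq⟩) w hw
        rw [show w * W.subtype m' = W.subtype m' * w from h, mul_inv_cancel_right]
        exact ⟨m', hm', rfl⟩
    have hPn : (P : Subgroup W).Normal := by
      rw [← Subgroup.normalizer_eq_top_iff, eq_top_iff]
      have htop : (P : Subgroup W) ⊔ CW = ⊤ := by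
        obtain ⟨e, he⟩ := IsPGroup.iff_card.mp hquot
        refine Subgroup.index_eq_one.mp (Nat.eq_one_of_dvd_coprimes
          ((hq.out.coprime_iff_not_dvd.mpr P.not_dvd_index).pow_left e)
          (he ▸ Subgroup.index_dvd_of_le (le_sup_right : CW ≤ _)) (Subgroup.index_dvd_of_le le_sup_left))
      rw [← htop]
      refine sup_le Subgroup.le_normalizer fun z hz => Subgroup.mem_normalizer_fintype fun m hm => ?_
      have hzF : (z : G) ∈ F := Cores.centralizer_fittingSubgroup_le hz
      obtain ⟨m', hm', he⟩ := (Subgroup.mem_normalizer_iff.mp (hFN hzF) m).mp ⟨m, hm, rfl⟩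
      rwa [show z * m * z⁻¹ = m' from (Subtype.ext he).symm]
    haveI : (P : Subgroup W).Characteristic := P.characteristic_of_normal hPn
    have hPV : PG ≤ pCore q G := PLocal.Cores.le_pCore (P.isPGroup'.map W.subtype)
    exact hE q hq.out (hPV ⟨⟨y, hyW⟩, hP (Subgroup.mem_zpowers _), rfl⟩)
  intro x hx
  rw [← hcA]
  refine Subgroup.mem_inf.mpr ⟨?_, hx⟩
  suffices h : E.subgroupOf (Subgroup.zpowers x) = ⊤ from
    Subgroup.subgroupOf_eq_top.mp h (Subgroup.mem_zpowers x)
  refine Cores.eq_top_of_sylow_le fun q hq _ => ?_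
  haveI : Fact q.Prime := ⟨hq⟩
  obtain ⟨P⟩ : Nonempty (Sylow q (Subgroup.zpowers x)) := inferInstance
  refine ⟨P, fun z hz => Subgroup.mem_subgroupOf.mpr (key q z (Subgroup.zpowers_le.mpr hx z.2) ?_)⟩
  obtain ⟨k, hk⟩ := P.isPGroup' ⟨z, hz⟩
  exact ⟨k, congrArg (fun w : (P : Subgroup (Subgroup.zpowers x)) => ((w : Subgroup.zpowers x) : G)) hk⟩

/-- Let S be a finite solvable group, π a set of primes containing neither 2 nor 3, H a Hall π-subgroup of S, and A a self-centralizing normal subgroup of the Fitting subgroup F(H). Then C_S(A) = A × D for a normal subgroup D of C_S(A) whose order has no prime divisor in π. -/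
theorem result {S : Type*} [Group S] [Finite S] [Group.IsSolvable S]
    (π : Set ℕ) (h2 : 2 ∉ π) (h3 : 3 ∉ π) (H : Subgroup S) (hH : Cfsg.IsPiHall π H)
    (A : Subgroup S) (hA : Cfsg.IsSCN ((Cfsg.fittingSubgroup H).map H.subtype) A) :
    ∃ D : Subgroup S, D ≤ Subgroup.centralizer (A : Set S) ∧
      (∀ c ∈ Subgroup.centralizer (A : Set S), ∀ d ∈ D, c * d * c⁻¹ ∈ D) ∧
      A ⊓ D = ⊥ ∧ A ⊔ D = Subgroup.centralizer (A : Set S) ∧
      ∀ q : ℕ, q.Prime → q ∣ Nat.card D → q ∉ π := by
  obtain ⟨hAE, hEA, hcA⟩ := hA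
  set E := (Cfsg.fittingSubgroup H).map H.subtype with hE
  have hEH : E ≤ H := Subgroup.map_subtype_le _
  have hAC : A ≤ Subgroup.centralizer (A : Set S) := hcA.ge.trans inf_le_right
  set M := piCore πᶜ S
  set f := QuotientGroup.mk' M with hf
  have hfs : Function.Surjective f := QuotientGroup.mk'_surjective M
  have hMpi : Cores.IsPi πᶜ M := Cores.piCore_isPi _
  have hone : ∀ z ∈ M, (∀ r : ℕ, r.Prime → r ∣ orderOf z → r ∈ π) → z = 1 := by
    intro z hz h
    by_contra hne
    obtain ⟨r, hr, hrd⟩ := Nat.exists_prime_and_dvd (fun e => hne (orderOf_eq_one_iff.mp e))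
    exact hMpi r hr (hrd.trans (Subgroup.orderOf_dvd_natCard M hz)) (h r hr hrd)
  have hinj : ∀ u ∈ H, ∀ v ∈ H, f u = f v → u = v := by
    intro u hu v hv h
    rw [← inv_mul_eq_one]
    refine hone _ ((QuotientGroup.eq).mp h) fun r hr hd => hH.1 r hr ?_
    exact hd.trans (Subgroup.orderOf_dvd_natCard H (mul_mem (inv_mem hu) hv))
  have hHall : Cfsg.IsPiHall π (H.map f) := Hall.isPiHall_map hH hfs
  have hrπ : ∀ r : ℕ, r.Prime → pCore r (S ⧸ M) ≠ ⊥ → r ∈ π := by
    intro r hr hne
    by_contra hrn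
    haveI : Fact r.Prime := ⟨hr⟩
    apply hne
    rw [eq_bot_iff, ← Cores.piCore_quotient_self (G := S) πᶜ, Cores.pCore_eq_piCore r]
    exact Cores.piCore_mono (Set.singleton_subset_iff.mpr hrn)
  have hcore : ∀ r : ℕ, r.Prime → pCore r (S ⧸ M) ≤ E.map f := by
    intro r hr
    by_cases hne : pCore r (S ⧸ M) = ⊥
    · rw [hne]; exact bot_le
    haveI : Fact r.Prime := ⟨hr⟩
    set V := pCore r (S ⧸ M)
    have hVπ : Cores.IsPi π V :=
      Cores.IsPi.mono ((Cores.isPi_iff_isPGroup V).2 (Cores.pCore_isPGroup r))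
        (Set.singleton_subset_iff.mpr (hrπ r hr hne))
    have hVH : V ≤ H.map f := by
      rw [Hall.isPiHall_eq_of_le hHall (Cores.IsPi.sup hHall.1 hVπ) le_sup_left]
      exact le_sup_right
    let e : H →* S ⧸ M := f.comp H.subtype
    have he : Function.Injective e := fun u v h => Subtype.ext (hinj u u.2 v v.2 h)
    have hpg : IsPGroup r (V.comap e) :=
      (Cores.pCore_isPGroup r).comap_of_injective e he
    have h1 : V.comap e ≤ fittingSubgroup H := Cores.le_fittingSubgroup hpg.isNilpotent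
    intro v hv
    obtain ⟨u, hu, rfl⟩ := hVH hv
    exact ⟨u, ⟨⟨u, hu⟩, h1 hv, rfl⟩, rfl⟩
  have hq5 : ∀ r : ℕ, r.Prime → pCore r (S ⧸ M) ≠ ⊥ → 5 ≤ r := by
    intro r hr hne
    have hrπ' := hrπ r hr hne
    rcases Nat.lt_or_ge r 5 with h | h
    · interval_cases r
      · exact absurd hr Nat.not_prime_zero
      · exact absurd hr Nat.not_prime_one
      · exact absurd hrπ' h2
      · exact absurd hrπ' h3
      · exact absurd hr (by norm_num)
    · exact h
  have hbar : Subgroup.centralizer ((A.map f : Subgroup (S ⧸ M)) : Set (S ⧸ M)) ≤ A.map f := by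
    refine centralizer_le hq5 (E.map f) (A.map f) hcore ?_ ?_
    · rintro _ ⟨u, hu, rfl⟩
      refine Subgroup.mem_normalizer_fintype ?_
      rintro _ ⟨a, ha, rfl⟩
      exact ⟨u * a * u⁻¹, (Subgroup.mem_normalizer_iff.mp (hEA hu) a).mp ha, by simp⟩
    · refine le_antisymm ?_ (le_inf (Subgroup.map_mono hAE) ?_)
      · rintro _ ⟨⟨u, hu, rfl⟩, hc⟩
        refine ⟨u, hcA.le (Subgroup.mem_inf.mpr ⟨hu, ?_⟩), rfl⟩
        rw [Subgroup.mem_centralizer_iff]
        intro a ha
        refine hinj _ (mul_mem (hEH (hAE ha)) (hEH hu)) _ (mul_mem (hEH hu) (hEH (hAE ha))) ?_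
        rw [map_mul, map_mul]
        exact Subgroup.mem_centralizer_iff.mp hc _ ⟨a, ha, rfl⟩
      · rintro _ ⟨a, ha, rfl⟩
        rw [Subgroup.mem_centralizer_iff]
        rintro _ ⟨b, hb, rfl⟩
        rw [← map_mul, ← map_mul, Subgroup.mem_centralizer_iff.mp (hAC ha) b hb]
  set C := Subgroup.centralizer (A : Set S) with hC
  have hAπ : Cores.IsPi π A := Cores.IsPi.to_le hH.1 (hAE.trans hEH)
  have hpel : ∀ x ∈ C, (∀ r : ℕ, r.Prime → r ∣ orderOf x → r ∈ π) → x ∈ A := by
    intro x hx hπx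
    have hfx : f x ∈ Subgroup.centralizer ((A.map f : Subgroup (S ⧸ M)) : Set (S ⧸ M)) := by
      rw [Subgroup.mem_centralizer_iff]
      rintro _ ⟨a, ha, rfl⟩
      rw [← map_mul, ← map_mul, Subgroup.mem_centralizer_iff.mp hx a ha]
    obtain ⟨a, ha, hax⟩ := hbar hfx
    have h1 : a⁻¹ * x = 1 := by
      refine hone _ ((QuotientGroup.eq).mp hax) fun r hr hd => ?_
      have hc : Commute a⁻¹ x := Subgroup.mem_centralizer_iff.mp hx _ (inv_mem ha)
      rcases (Nat.Prime.dvd_mul hr).mp (hd.trans hc.orderOf_mul_dvd_mul_orderOf) with h | h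
      · exact hAπ r hr (h.trans (Subgroup.orderOf_dvd_natCard A (inv_mem ha)))
      · exact hπx r hr h
    rwa [← inv_mul_eq_one.mp h1]
  set AC := A.subgroupOf C with hACdef
  have hcomm : ∀ a ∈ AC, ∀ c : C, c * a = a * c := fun a ha c =>
    Subtype.ext (Subgroup.mem_centralizer_iff.mp c.2 _ ha).symm
  haveI hACn : AC.Normal := ⟨fun a ha g => by rwa [hcomm a ha g, mul_inv_cancel_right]⟩
  have hidx : ∀ r : ℕ, r.Prime → r ∈ π → ¬ r ∣ AC.index := by
    intro r hr hrπ' hd
    haveI : Fact r.Prime := ⟨hr⟩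
    obtain ⟨P⟩ : Nonempty (Sylow r C) := inferInstance
    refine P.not_dvd_index (hd.trans (Subgroup.index_dvd_of_le fun z hz => ?_))
    refine Subgroup.mem_subgroupOf.mpr (hpel z z.2 fun r' hr' hd' => ?_)
    obtain ⟨k, hk⟩ := P.isPGroup' ⟨z, hz⟩
    have hk' : (z : S) ^ r ^ k = 1 :=
      congrArg (fun w : (P : Subgroup C) => ((w : C) : S)) hk
    rwa [(Nat.prime_dvd_prime_iff_eq hr' hr).mp
      (hr'.dvd_of_dvd_pow (hd'.trans (orderOf_dvd_of_pow_eq_one hk')))]
  have hcardAC : Nat.card AC = Nat.card A := Nat.card_congr (Subgroup.subgroupOfEquivOfLe hAC).toEquiv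
  obtain ⟨D, hD⟩ := Subgroup.exists_right_complement'_of_coprime (N := AC)
    (Nat.coprime_of_dvd fun r hr hd hd' => hidx r hr (hAπ r hr (hcardAC ▸ hd)) hd')
  have hDn : D.Normal := by
    rw [← Subgroup.normalizer_eq_top_iff, eq_top_iff, ← hD.sup_eq_top]
    refine sup_le (fun a ha => Subgroup.mem_normalizer_fintype fun d hd => ?_) Subgroup.le_normalizer
    rwa [← hcomm a ha d, mul_inv_cancel_right]
  refine ⟨D.map C.subtype, Subgroup.map_subtype_le _, ?_, ?_, ?_, ?_⟩
  · rintro c hc _ ⟨d, hd, rfl⟩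
    exact ⟨⟨c, hc⟩ * d * ⟨c, hc⟩⁻¹, hDn.conj_mem d hd _, rfl⟩
  · rw [← Subgroup.map_subgroupOf_eq_of_le hAC, ← Subgroup.map_inf _ _ _ C.subtype_injective,
      disjoint_iff.mp hD.disjoint, Subgroup.map_bot]
  · have h1 := congrArg (Subgroup.map C.subtype) hD.sup_eq_top
    rwa [Subgroup.map_sup, Subgroup.map_subgroupOf_eq_of_le hAC, ← MonoidHom.range_eq_map,
      Subgroup.range_subtype] at h1
  · intro r hr hd hrπ'
    rw [Subgroup.card_subtype] at hd
    exact hidx r hr hrπ' (hD.symm.index_eq_card ▸ hd)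

end Cfsg.Agent.S1893
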