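import Cfsg.Statements.S1894
import Cfsg.Agent.Techniques.Basic

set_option autoImplicit false
open Cfsg

namespace Cfsg.Agent.S1894

/-- Let P be a finite p-group, A a normal subgroup of P and B an abelian subgroup of A that is normal in P. Then some subgroup C of A containing B is normal in P and is self-centralizing and normal in A (C ∈ SCN(A)). -/
theorem result {P : Type*} [Group P] [Finite P] {p : ℕ} [Fact p.Prime] (hP : IsPGroup p P)
    (A : Subgroup P) [A.Normal] (B : Subgroup P) [B.Normal] (hBA : B ≤ A) (hB : IsMulCommutative B) :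
    ∃ C : Subgroup P, C.Normal ∧ B ≤ C ∧ Cfsg.IsSCN A C := by
  classical
  obtain ⟨C, hC, hmax⟩ := (Set.toFinite {C : Subgroup P | C.Normal ∧ B ≤ C ∧ C ≤ A ∧ IsMulCommutative C}).exists_maximal
    ⟨B, inferInstance, le_rfl, hBA, hB⟩
  obtain ⟨hCn, hBC, hCA, hCab⟩ := hC
  refine ⟨C, hCn, hBC, hCA, le_trans le_top (Subgroup.normalizer_eq_top_iff.mpr hCn).ge, ?_⟩
  have hCC : C ≤ Subgroup.centralizer (C : Set P) := Subgroup.le_centralizer_iff_isMulCommutative.mpr hCab
  refine le_antisymm ?_ (le_inf hCA hCC)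
  set D := A ⊓ Subgroup.centralizer (C : Set P) with hD
  by_contra hne
  have := hCn
  have hDn : (D.map (QuotientGroup.mk' C)).Normal :=
    Subgroup.Normal.map (by rw [hD]; infer_instance) _ (QuotientGroup.mk'_surjective C)
  have hDbot : D.map (QuotientGroup.mk' C) ≠ ⊥ := by
    rw [Ne, Subgroup.map_eq_bot_iff, QuotientGroup.ker_mk']; exact hne
  have hq : IsPGroup p (P ⧸ C) := hP.to_quotient C
  obtain ⟨x', hx', hx'1, hxc⟩ := Techniques.exists_center_mem hq hDbot
  obtain ⟨x, hxD, rfl⟩ := hx'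
  have hxC : x ∉ C := fun h => hx'1 ((QuotientGroup.eq_one_iff x).mpr h)
  obtain ⟨hxA, hxcen⟩ := Subgroup.mem_inf.mp hxD
  have hn : (C ⊔ Subgroup.zpowers x).Normal := by
    have hmap : (Subgroup.zpowers x).map (QuotientGroup.mk' C) ≤ Subgroup.center _ := by
      rw [MonoidHom.map_zpowers, Subgroup.zpowers_le]; exact hxc
    have : ((C ⊔ Subgroup.zpowers x).map (QuotientGroup.mk' C)).Normal := by
      refine ⟨fun a ha g => ?_⟩
      have : a ∈ Subgroup.center (P ⧸ C) := by
        rw [Subgroup.map_sup, (Subgroup.map_eq_bot_iff _).mpr (QuotientGroup.ker_mk' C).ge, bot_sup_eq] at ha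
        exact hmap ha
      rw [Subgroup.mem_center_iff.mp this g, mul_inv_cancel_right]; exact ha
    have h2 := this.comap (QuotientGroup.mk' C)
    rwa [Subgroup.comap_map_eq, QuotientGroup.ker_mk', sup_comm _ C, ← sup_assoc, sup_idem] at h2
  have hab : IsMulCommutative ↥(C ⊔ Subgroup.zpowers x : Subgroup P) := by
    rw [← Subgroup.le_centralizer_iff_isMulCommutative]
    have hxx : Subgroup.zpowers x ≤ Subgroup.centralizer (C : Set P) := Subgroup.zpowers_le.mpr hxcen
    refine sup_le ?_ ?_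
    · rw [Subgroup.le_centralizer_iff]; exact sup_le hCC hxx
    · rw [Subgroup.le_centralizer_iff]
      exact sup_le (Subgroup.le_centralizer_iff.mp hxx)
        (Subgroup.le_centralizer (Subgroup.zpowers x))
  exact hxC (hmax ⟨hn, hBC.trans le_sup_left, sup_le hCA (Subgroup.zpowers_le.mpr hxA), hab⟩ le_sup_left
    (Subgroup.mem_sup_right (Subgroup.mem_zpowers x)))

end Cfsg.Agent.S1894
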