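import Cfsg.Statements.S1895
import Cfsg.Agent.Lib.Coprime.OmegaDetect
import Cfsg.Agent.Lib.Coprime.PGroup
import Cfsg.Agent.Lib.Fusion.Saturation
import Cfsg.Agent.Lib.PLocal.CyclicExtension
import Cfsg.Agent.Lib.Cores.Subnormal
import Mathlib

set_option autoImplicit false
open Cfsg

namespace Cfsg.Agent.S1895

open scoped commutatorElement

universe u

/-- Commutators with an element whose `p`-th power is in the central `Ω` lie in `Ω`. -/
theorem commutator_mem {G : Type*} [Group G] [Finite G] {p : ℕ} [Fact p.Prime] (hp : p ≠ 2)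
    {T Ω : Subgroup G} (hT : IsPGroup p T) (hΩ : ∀ x, x ∈ Ω ↔ x ∈ T ∧ x ^ p = 1)
    (hc : ∀ x ∈ T, x ^ p = 1 → ∀ y ∈ T, x * y = y * x) (H : Subgroup G) (hHT : H ≤ T) :
    ∀ x ∈ H, ∀ y ∈ H, x ^ p ∈ Ω → x * y * x⁻¹ * y⁻¹ ∈ Ω := by
  induction hn : Nat.card H using Nat.strongRecOn generalizing H with
  | ind n ih =>
  subst hn
  intro x hx y hy hxp
  by_cases hcy : Subgroup.zpowers x = H
  · rw [← hcy] at hy
    obtain ⟨k, rfl⟩ := Subgroup.mem_zpowers_iff.mp hy
    rw [show x * x ^ k * x⁻¹ * (x ^ k)⁻¹ = 1 by group]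
    exact one_mem _
  obtain ⟨M, hMge, hM⟩ := Set.Finite.exists_le_maximal
    (s := {M : Subgroup G | M < H}) (Set.toFinite _) (a := Subgroup.zpowers x)
    ((Subgroup.zpowers_le.mpr hx).lt_of_ne hcy)
  have hMlt : M < H := hM.1
  have hxM : x ∈ M := hMge (Subgroup.mem_zpowers x)
  -- `M` is normal in `H`
  have hHM : H ≤ Subgroup.normalizer (M : Set G) := by
    obtain ⟨g, ⟨hgH, hgn⟩, hgM⟩ :=
      Cfsg.Agent.Fusion.Saturation.exists_mem_normalizer_not_mem (hT.to_le hHT) hMlt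
    have h1 : M < H ⊓ Subgroup.normalizer (M : Set G) :=
      SetLike.lt_iff_le_and_exists.mpr ⟨le_inf hMlt.le Subgroup.le_normalizer, g, Subgroup.mem_inf.mpr ⟨hgH, hgn⟩, hgM⟩
    by_contra h
    have h2 : H ⊓ Subgroup.normalizer (M : Set G) < H :=
      inf_le_left.lt_of_ne fun e => h (inf_eq_left.mp e)
    exact h1.not_ge (hM.2 h2 h1.le)
  set z := y * x * y⁻¹ with hz
  have hzM : z ∈ M := (Subgroup.mem_normalizer_iff.mp (hHM hy) x).mp hxM
  have hzT : z ∈ T := hHT (hMlt.le hzM)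
  have hxT : x ∈ T := hHT hx
  have hd := ih _ (lt_of_not_ge fun h => hMlt.ne (Subgroup.eq_of_le_of_card_ge hMlt.le h)) M
    (hMlt.le.trans hHT) rfl x hxM z⁻¹ (inv_mem hzM) hxp
  set d := x * z⁻¹ * x⁻¹ * z⁻¹⁻¹ with hddef
  obtain ⟨hdT, hdp⟩ := (hΩ d).mp hd
  -- `x z⁻¹ = d z⁻¹ x`
  have hpow : (x * z⁻¹) ^ p = 1 := by
    have hcomm : ∀ v ∈ T, Commute d v := fun v hv => hc d hdT hdp v hv
    have h1 := Cfsg.Agent.Coprime.OmegaDetect.mul_pow_central (x := z⁻¹) (y := x) (c := d⁻¹)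
      (by rw [(((hcomm _ (mul_mem hxT (inv_mem hzT))).inv_left)).symm.eq, hddef]; group)
      ((hcomm _ (inv_mem hzT)).inv_left) ((hcomm x hxT).inv_left) p
    rw [h1]
    obtain ⟨hxpT, hxpp⟩ := (hΩ _).mp hxp
    have hzp : z ^ p = x ^ p := by
      rw [hz, conj_pow, ← hc _ hxpT hxpp y (hHT hy), mul_inv_cancel_right]
    obtain ⟨m, hm⟩ := (Fact.out : p.Prime).dvd_choose_self (k := 2) two_ne_zero
      (lt_of_le_of_ne (Fact.out : p.Prime).two_le (Ne.symm hp))
    rw [inv_pow z, hzp, mul_inv_cancel, one_mul, hm, pow_mul, inv_pow, hdp, inv_one, one_pow]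
  have hmem : x * z⁻¹ ∈ Ω := (hΩ _).mpr ⟨mul_mem hxT (inv_mem hzT), hpow⟩
  rwa [hz, show x * (y * x * y⁻¹)⁻¹ = x * y * x⁻¹ * y⁻¹ by group] at hmem

/-- Irreducible top factor of a `p`-group all of whose elements of order `p` are central. -/
theorem central_case : ∀ (n : ℕ) {G : Type u} [Group G] [Finite G] {p : ℕ} [Fact p.Prime],
    Nat.card G = n → p ≠ 2 → ∀ (T K Ω : Subgroup G), T.Normal → K.Normal → IsPGroup p T →
    K < T → (∀ L : Subgroup G, L.Normal → L ≤ T → L ≠ T → L ≤ K) →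
    (∀ x, x ∈ Ω ↔ x ∈ T ∧ x ^ p = 1) → (∀ x ∈ T, x ^ p = 1 → ∀ y ∈ T, x * y = y * x) →
    Nat.card Ω ≤ p ^ 2 → K.relIndex T ≤ p ^ 2 := by
  intro n
  induction n using Nat.strong_induction_on with
  | _ n ih =>
  intro G _ _ p hp hn hp2 T K Ω hTn hKn hT hKT htop hΩ hc hcard
  subst hn
  have hΩT : Ω ≤ T := fun x hx => ((hΩ x).mp hx).1
  have hΩn : Ω.Normal := ⟨fun x hx g => (hΩ _).mpr ⟨hTn.conj_mem x (hΩT hx) g,
    by rw [conj_pow, ((hΩ x).mp hx).2, mul_one, mul_inv_cancel]⟩⟩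
  by_cases hΩe : Ω = T
  · exact le_trans (Nat.le_of_dvd Nat.card_pos (K.subgroupOf T).index_dvd_card) (hΩe ▸ hcard)
  have hΩK : Ω ≤ K := htop Ω hΩn hΩT hΩe
  have hΩ1 : Ω ≠ ⊥ := by
    intro h
    have hne : T ≠ ⊥ := fun h' => not_lt_bot (h' ▸ hKT)
    obtain ⟨k, hk⟩ := IsPGroup.iff_card.mp hT
    have hk0 : k ≠ 0 := fun h0 => hne (Subgroup.card_eq_one.mp (by rw [hk, h0, pow_zero]))
    obtain ⟨⟨x, hx⟩, hxo⟩ := exists_prime_orderOf_dvd_card' p (hk ▸ dvd_pow_self p hk0)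
    rw [Subgroup.orderOf_mk] at hxo
    have : x ∈ Ω := (hΩ x).mpr ⟨hx, hxo ▸ pow_orderOf_eq_one x⟩
    rw [h, Subgroup.mem_bot] at this
    rw [this, orderOf_one] at hxo
    exact hp.out.ne_one hxo.symm
  set f := QuotientGroup.mk' Ω with hf
  have hfs : Function.Surjective f := QuotientGroup.mk'_surjective Ω
  have hlt : Nat.card (G ⧸ Ω) < Nat.card G := by
    have h1 := Ω.one_lt_card_iff_ne_bot.mpr hΩ1
    rw [Subgroup.card_eq_card_quotient_mul_card_subgroup Ω]
    exact lt_mul_of_one_lt_right Nat.card_pos h1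
  -- the elements with `p`-th power in `Ω`
  have hcom : ∀ x ∈ T, ∀ y ∈ T, x ^ p ∈ Ω → x * y * x⁻¹ * y⁻¹ ∈ Ω := fun x hx y hy =>
    commutator_mem hp2 hT hΩ hc T le_rfl x hx y hy
  have hpmul : ∀ u ∈ T, ∀ v ∈ T, u ^ p ∈ Ω → (u * v) ^ p = u ^ p * v ^ p := by
    intro u hu v hv hup
    have hd := hcom u hu v hv hup
    obtain ⟨hdT, hdp⟩ := (hΩ _).mp hd
    have hcv : ∀ w ∈ T, Commute (u * v * u⁻¹ * v⁻¹) w := fun w hw => hc _ hdT hdp w hw
    rw [Cfsg.Agent.Coprime.OmegaDetect.mul_pow_central (x := v) (y := u) (c := (u * v * u⁻¹ * v⁻¹)⁻¹)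
      (by rw [((hcv _ (mul_mem hu hv)).inv_left).symm.eq]; group)
      ((hcv v hv).inv_left) ((hcv u hu).inv_left) p]
    obtain ⟨m, hm⟩ := hp.out.dvd_choose_self (k := 2) two_ne_zero
      (lt_of_le_of_ne hp.out.two_le (Ne.symm hp2))
    rw [hm, pow_mul, inv_pow, hdp, inv_one, one_pow, mul_one]
  let Ω2 : Subgroup G :=
    { carrier := {x | x ∈ T ∧ x ^ p ∈ Ω}
      one_mem' := ⟨one_mem _, by rw [one_pow]; exact one_mem _⟩
      mul_mem' := fun {u v} hu hv => ⟨mul_mem hu.1 hv.1, by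
        rw [hpmul u hu.1 v hv.1 hu.2]; exact mul_mem hu.2 hv.2⟩
      inv_mem' := fun {u} hu => ⟨inv_mem hu.1, by rw [inv_pow]; exact inv_mem hu.2⟩ }
  have hmemf : ∀ {A : Subgroup G}, Ω ≤ A → ∀ {x : G}, f x ∈ A.map f → x ∈ A := by
    intro A hA x hx
    rw [← Subgroup.mem_comap, Subgroup.comap_map_eq, QuotientGroup.ker_mk', sup_eq_left.mpr hA] at hx
    exact hx
  have hb : Nat.card (Ω2.map f) ≤ Nat.card Ω := by
    let g1 : Ω2 →* G ⧸ Ω := f.comp Ω2.subtype
    let g2 : Ω2 →* Ω :=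
      { toFun := fun u => ⟨(u : G) ^ p, u.2.2⟩
        map_one' := Subtype.ext (one_pow p)
        map_mul' := fun u v => Subtype.ext (hpmul _ u.2.1 _ v.2.1 u.2.2) }
    have hker : g1.ker = g2.ker := by
      ext u
      rw [MonoidHom.mem_ker, MonoidHom.mem_ker]
      constructor
      · intro h
        exact Subtype.ext ((hΩ _).mp ((QuotientGroup.eq_one_iff (u : G)).mp h)).2
      · intro h
        exact (QuotientGroup.eq_one_iff (u : G)).mpr ((hΩ _).mpr ⟨u.2.1, congrArg Subtype.val h⟩)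
    have h1 : g1.range = Ω2.map f := by
      rw [MonoidHom.range_eq_map, ← Subgroup.map_map, ← MonoidHom.range_eq_map, Subgroup.range_subtype]
    rw [← h1, ← Subgroup.index_ker, hker, Subgroup.index_ker]
    exact Subgroup.card_le_card_group _
  have hidx : K.relIndex T = (K.map f).relIndex (T.map f) := by
    rw [← Subgroup.relIndex_comap, Subgroup.comap_map_eq, QuotientGroup.ker_mk', sup_eq_left.mpr hΩK]
  rw [hidx]
  refine ih _ hlt rfl hp2 (T.map f) (K.map f) (Ω2.map f) (hTn.map f hfs) (hKn.map f hfs) (hT.map f)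
    ?_ ?_ ?_ ?_ (hb.trans hcard)
  · refine (Subgroup.map_mono hKT.le).lt_of_ne fun h => hKT.not_ge fun x hx => ?_
    exact hmemf hΩK (h ▸ Subgroup.mem_map_of_mem f hx)
  · intro L hLn hLT hne
    have h1 : L.comap f ≤ T := fun x hx => hmemf hΩT (hLT hx)
    have h2 : L.comap f ≠ T := fun h => hne (by rw [← h, Subgroup.map_comap_eq_self_of_surjective hfs])
    rw [← Subgroup.map_comap_eq_self_of_surjective hfs L]
    exact Subgroup.map_mono (htop _ (hLn.comap f) h1 h2)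
  · intro xb
    constructor
    · rintro ⟨x, hx, rfl⟩
      refine ⟨Subgroup.mem_map_of_mem f hx.1, ?_⟩
      rw [← map_pow]
      exact (QuotientGroup.eq_one_iff _).mpr hx.2
    · rintro ⟨⟨x, hx, rfl⟩, hxp⟩
      rw [← map_pow] at hxp
      exact ⟨x, ⟨hx, (QuotientGroup.eq_one_iff _).mp hxp⟩, rfl⟩
  · rintro _ ⟨x, hx, rfl⟩ hxp _ ⟨y, hy, rfl⟩
    rw [← map_pow] at hxp
    have h1 : f (x * y * x⁻¹ * y⁻¹) = 1 :=
      (QuotientGroup.eq_one_iff _).mpr (hcom x hx y hy ((QuotientGroup.eq_one_iff _).mp hxp))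
    rw [map_mul, map_mul, map_mul, map_inv, map_inv, mul_inv_eq_one, mul_inv_eq_iff_eq_mul] at h1
    exact h1

/-- A `G`-normal `p`-subgroup of rank at most 2 has irreducible top factors of order at most `p²`. -/
theorem top_le {G : Type u} [Group G] [Finite G] {p : ℕ} [hp : Fact p.Prime] (hp2 : p ≠ 2)
    (hr : Cfsg.PRankLE p 2 G) (T K : Subgroup G) (hTn : T.Normal) (hKn : K.Normal) (hT : IsPGroup p T)
    (hKT : K < T) (htop : ∀ L : Subgroup G, L.Normal → L ≤ T → L ≠ T → L ≤ K) :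
    K.relIndex T ≤ p ^ 2 := by
  classical
  by_cases hall : ∀ x ∈ T, x ^ p = 1 → ∀ y ∈ T, x * y = y * x
  · let Ω : Subgroup G :=
      { carrier := {x | x ∈ T ∧ x ^ p = 1}
        one_mem' := ⟨one_mem _, one_pow p⟩
        mul_mem' := fun {u v} hu hv => ⟨mul_mem hu.1 hv.1, by
          rw [(show Commute u v from hall u hu.1 hu.2 v hv.1).mul_pow, hu.2, hv.2, one_mul]⟩
        inv_mem' := fun {u} hu => ⟨inv_mem hu.1, by rw [inv_pow, hu.2, inv_one]⟩ }
    refine central_case _ rfl hp2 T K Ω hTn hKn hT hKT htop (fun _ => Iff.rfl) hall (hr Ω ?_ fun a ha => ha.2)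
    exact ⟨⟨fun a b => Subtype.ext (hall _ a.2.1 a.2.2 _ b.2.1)⟩⟩
  push Not at hall
  obtain ⟨x₀, hx₀, hx₀p, y₀, hy₀, hxy₀⟩ := hall
  let Z : Subgroup G :=
    { carrier := {x | x ∈ T ∧ x ^ p = 1 ∧ ∀ y ∈ T, x * y = y * x}
      one_mem' := ⟨one_mem _, one_pow p, fun y _ => by simp⟩
      mul_mem' := fun {u v} hu hv => ⟨mul_mem hu.1 hv.1,
        by rw [(show Commute u v from hu.2.2 v hv.1).mul_pow, hu.2.1, hv.2.1, one_mul],
        fun y hy => (Commute.mul_left (hu.2.2 y hy) (hv.2.2 y hy)).eq⟩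
      inv_mem' := fun {u} hu => ⟨inv_mem hu.1, by rw [inv_pow, hu.2.1, inv_one],
        fun y hy => (Commute.inv_left (hu.2.2 y hy)).eq⟩ }
  -- adjoining an element of order `p` to `Z`
  have hext : ∀ (S : Subgroup G), (∀ a ∈ S, a ^ p = 1) → IsMulCommutative S → ∀ u : G, u ^ p = 1 →
      (∀ a ∈ S, a * u = u * a) → Nat.card (S ⊔ Subgroup.zpowers u : Subgroup G) ≤ p ^ 2 := by
    intro S hS hSc u hu hcomm
    refine hr _ ?_ ?_
    · rw [show S ⊔ Subgroup.zpowers u = Subgroup.closure ((S : Set G) ∪ {u}) by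
        rw [Subgroup.closure_union, Subgroup.closure_eq, Subgroup.zpowers_eq_closure]]
      refine Subgroup.isMulCommutative_closure ?_
      rintro a (ha | ha) b (hb | hb)
      · exact congrArg Subtype.val (hSc.is_comm.comm ⟨a, ha⟩ ⟨b, hb⟩)
      · rw [Set.mem_singleton_iff.mp hb]; exact hcomm a ha
      · rw [Set.mem_singleton_iff.mp ha]; exact (hcomm b hb).symm
      · rw [Set.mem_singleton_iff.mp ha, Set.mem_singleton_iff.mp hb]
    · intro a ha
      have hn : Subgroup.zpowers u ≤ Subgroup.normalizer (S : Set G) := by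
        rw [Subgroup.zpowers_le]
        refine Subgroup.mem_normalizer_fintype fun b hb => ?_
        rw [← hcomm b hb, mul_inv_cancel_right]
        exact hb
      rw [Cfsg.Agent.Coprime.mem_sup_of_le_normalizer hn] at ha
      obtain ⟨s, hs, w, hw, rfl⟩ := ha
      obtain ⟨k, rfl⟩ := Subgroup.mem_zpowers_iff.mp hw
      rw [((show Commute s u from hcomm s hs).zpow_right k).mul_pow, hS s hs, one_mul, ← zpow_natCast,
        ← zpow_mul, mul_comm, zpow_mul, zpow_natCast, hu, one_zpow]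
  have hZc : IsMulCommutative Z := ⟨⟨fun a b => Subtype.ext (a.2.2.2 _ b.2.1)⟩⟩
  have hsq : ∀ u ∈ T, u ^ p = 1 → u ∉ Z →
      p * Nat.card Z ≤ Nat.card (Z ⊔ Subgroup.zpowers u : Subgroup G) ∧
        Nat.card (Z ⊔ Subgroup.zpowers u : Subgroup G) ≤ p ^ 2 := by
    intro u hu hup huZ
    refine ⟨?_, hext Z (fun a ha => ha.2.1) hZc u hup (fun a ha => ha.2.2 u hu)⟩
    set S := Z ⊔ Subgroup.zpowers u
    have hlt : Z < S := le_sup_left.lt_of_ne fun h => huZ (h ▸ Subgroup.mem_sup_right (Subgroup.mem_zpowers u))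
    have hS : IsPGroup p S := hT.to_le (sup_le (fun a ha => ha.1) (Subgroup.zpowers_le.mpr hu))
    obtain ⟨i, hi⟩ := IsPGroup.iff_card.mp hS
    obtain ⟨j, hj⟩ := IsPGroup.iff_card.mp (hS.to_le hlt.le)
    have h1 : Nat.card Z < Nat.card S :=
      lt_of_not_ge fun h => hlt.ne (Subgroup.eq_of_le_of_card_ge hlt.le h)
    rw [hi, hj] at h1 ⊢
    rw [← pow_succ']
    exact Nat.pow_le_pow_right hp.out.pos ((Nat.pow_lt_pow_iff_right hp.out.one_lt).mp h1)
  have hx₀Z : x₀ ∉ Z := fun h => hxy₀ (h.2.2 y₀ hy₀)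
  have hZle : Nat.card Z ≤ p := by
    obtain ⟨h1, h2⟩ := hsq x₀ hx₀ hx₀p hx₀Z
    exact Nat.le_of_mul_le_mul_left (by linarith [sq p]) hp.out.pos
  -- the elements of order `p` central modulo `Z`
  have hcent : ∀ c ∈ Z, ∀ a ∈ T, Commute c a := fun c hc a ha => hc.2.2 a ha
  let Y : Subgroup G :=
    { carrier := {u | u ∈ T ∧ u ^ p = 1 ∧ ∀ t ∈ T, u * t * u⁻¹ * t⁻¹ ∈ Z}
      one_mem' := ⟨one_mem _, one_pow p, fun t _ => by simp⟩
      mul_mem' := fun {u v} hu hv => ⟨mul_mem hu.1 hv.1, by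
        have hd := hu.2.2 v hv.1
        rw [Cfsg.Agent.Coprime.OmegaDetect.mul_pow_central (x := v) (y := u) (c := (u * v * u⁻¹ * v⁻¹)⁻¹)
          (by rw [((hcent _ hd _ (mul_mem hu.1 hv.1)).inv_left).symm.eq]; group)
          ((hcent _ hd v hv.1).inv_left) ((hcent _ hd u hu.1).inv_left) p, hu.2.1, hv.2.1]
        obtain ⟨m, hm⟩ := hp.out.dvd_choose_self (k := 2) two_ne_zero
          (lt_of_le_of_ne hp.out.two_le (Ne.symm hp2))
        rw [hm, pow_mul, inv_pow, hd.2.1, inv_one, one_pow, mul_one, mul_one], fun t ht => by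
        rw [show u * v * t * (u * v)⁻¹ * t⁻¹ = u * (v * t * v⁻¹ * t⁻¹) * u⁻¹ * (u * t * u⁻¹ * t⁻¹) by group,
          ← (hcent _ (hv.2.2 t ht) u hu.1).eq, mul_inv_cancel_right]
        exact mul_mem (hv.2.2 t ht) (hu.2.2 t ht)⟩
      inv_mem' := fun {u} hu => ⟨inv_mem hu.1, by rw [inv_pow, hu.2.1, inv_one], fun t ht => by
        rw [show u⁻¹ * t * u⁻¹⁻¹ * t⁻¹ = u⁻¹ * (u * t * u⁻¹ * t⁻¹)⁻¹ * u by group,
          mul_assoc, ((hcent _ (hu.2.2 t ht) u hu.1).inv_left).eq, inv_mul_cancel_left]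
        exact inv_mem (hu.2.2 t ht)⟩ }
  have hYn : ∀ g : G, ∀ u ∈ Y, g * u * g⁻¹ ∈ Y := by
    intro g u hu
    refine ⟨hTn.conj_mem u hu.1 g, by rw [conj_pow, hu.2.1, mul_one, mul_inv_cancel], fun t ht => ?_⟩
    have ht' : g⁻¹ * t * g ∈ T := by simpa using hTn.conj_mem t ht g⁻¹
    have h := hu.2.2 _ ht'
    rw [show g * u * g⁻¹ * t * (g * u * g⁻¹)⁻¹ * t⁻¹ =
      g * (u * (g⁻¹ * t * g) * u⁻¹ * (g⁻¹ * t * g)⁻¹) * g⁻¹ by group]
    refine ⟨hTn.conj_mem _ h.1 g, by rw [conj_pow, h.2.1, mul_one, mul_inv_cancel], fun y hy => ?_⟩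
    have hy' : g⁻¹ * y * g ∈ T := by simpa using hTn.conj_mem y hy g⁻¹
    generalize u * (g⁻¹ * t * g) * u⁻¹ * (g⁻¹ * t * g)⁻¹ = w at h ⊢
    calc g * w * g⁻¹ * y = g * (w * (g⁻¹ * y * g)) * g⁻¹ := by group
      _ = g * ((g⁻¹ * y * g) * w) * g⁻¹ := by rw [h.2.2 _ hy']
      _ = _ := by group
  -- `Y` is larger than `Z`
  obtain ⟨u, huY, huZ⟩ : ∃ u ∈ Y, u ∉ Z := by
    have hcyc : ¬ IsCyclic T := fun h => hxy₀ (by
      exact congrArg Subtype.val ((IsCyclic.isMulCommutative (α := T)).is_comm.comm ⟨x₀, hx₀⟩ ⟨y₀, hy₀⟩))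
    obtain ⟨E, -, hEn, hE, hEc⟩ := Cfsg.Agent.PLocal.CyclicExtension.exists_normal_elementaryAbelian_sq
      hp2 hT (⊤ : Subgroup T) (fun h => hcyc (Subgroup.topEquiv.isCyclic.mp h))
    set E' := E.map T.subtype with hE'
    have hE'T : E' ≤ T := Subgroup.map_subtype_le E
    have hTE : T ≤ Subgroup.normalizer (E' : Set G) := by
      intro t ht
      refine Subgroup.mem_normalizer_fintype ?_
      rintro _ ⟨e, he, rfl⟩
      exact ⟨⟨t, ht⟩ * e * ⟨t, ht⟩⁻¹, hEn.conj_mem e he _, rfl⟩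
    have hE'c : Nat.card E' = p ^ 2 := by rw [hE', Subgroup.card_subtype, hEc]
    by_contra h
    push Not at h
    have hEY : E' ≤ Y := by
      rintro _ ⟨e, he, rfl⟩
      refine ⟨e.2, congrArg Subtype.val (hE.2 e he), fun t ht => ?_⟩
      have := hT.isNilpotent
      have hne : E' ≠ ⊥ := fun h0 => by
        rw [h0, Subgroup.card_bot] at hE'c
        exact absurd hE'c (Nat.one_lt_pow two_ne_zero hp.out.one_lt).ne
      set E1 := ⁅E', T⁆
      have hlt := Cfsg.Agent.Coprime.commutator_lt_of_isNilpotent hE'T hne hTE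
      have hmem : T.subtype e * t * (T.subtype e)⁻¹ * t⁻¹ ∈ E1 := by
        have := Subgroup.commutator_mem_commutator (Subgroup.mem_map_of_mem T.subtype he : T.subtype e ∈ E') ht
        rwa [commutatorElement_def] at this
      by_cases hE1 : E1 = ⊥
      · rw [hE1, Subgroup.mem_bot] at hmem
        rw [show T.subtype e * t * (T.subtype e)⁻¹ * t⁻¹ = 1 from hmem]
        exact one_mem _
      have hTE1 : T ≤ Subgroup.normalizer (E1 : Set G) := Subgroup.normalizer_commutator_ge_right E' T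
      have hlt2 := Cfsg.Agent.Coprime.commutator_lt_of_isNilpotent (hlt.le.trans hE'T) hE1 hTE1
      have hbot : ⁅E1, T⁆ = ⊥ := by
        obtain ⟨a, ha, hEa⟩ := (Nat.dvd_prime_pow hp.out).mp (hE'c ▸ Subgroup.card_dvd_of_le hlt.le)
        obtain ⟨b, hb, hEb⟩ := (Nat.dvd_prime_pow hp.out).mp (hEa ▸ Subgroup.card_dvd_of_le hlt2.le)
        have h1 : Nat.card E1 < Nat.card E' :=
          lt_of_not_ge fun h => hlt.ne (Subgroup.eq_of_le_of_card_ge hlt.le h)
        have h2 : Nat.card ↥⁅E1, T⁆ < Nat.card E1 :=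
          lt_of_not_ge fun h => hlt2.ne (Subgroup.eq_of_le_of_card_ge hlt2.le h)
        rw [hE'c, hEa] at h1
        rw [hEa, hEb] at h2
        rw [Nat.pow_lt_pow_iff_right hp.out.one_lt] at h1 h2
        refine Subgroup.card_eq_one.mp ?_
        rw [hEb, show b = 0 by omega, pow_zero]
      rw [Subgroup.commutator_eq_bot_iff_le_centralizer] at hbot
      obtain ⟨e', he', hee'⟩ := hlt.le hmem
      refine ⟨hE'T (hlt.le hmem), ?_, fun y hy => (Subgroup.mem_centralizer_iff.mp (hbot hmem) y hy).symm⟩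
      show (T.subtype e * t * (T.subtype e)⁻¹ * t⁻¹) ^ p = 1
      rw [← hee', ← map_pow, hE.2 e' he', map_one]
    have h1 := Subgroup.card_le_of_le (hEY.trans h)
    rw [hE'c] at h1
    nlinarith [hp.out.two_le, hZle]
  -- a second generator
  obtain ⟨v, hvY, hv⟩ : ∃ v ∈ Y, ∀ y ∈ Y, ∃ k : ℤ,
      Commute (y * (v ^ k)⁻¹) u := by
    by_cases h : ∀ y ∈ Y, Commute y u
    · exact ⟨u, huY, fun y hy => ⟨0, by simpa using h y hy⟩⟩
    push Not at h
    obtain ⟨v, hvY, hvu⟩ := h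
    refine ⟨v, hvY, fun y hy => ?_⟩
    set d := v * u * v⁻¹ * u⁻¹ with hd
    have hdZ : d ∈ Z := hvY.2.2 u huY.1
    have hd1 : d ≠ 1 := fun h => hvu (by
      rw [hd, mul_inv_eq_one, mul_inv_eq_iff_eq_mul] at h; exact h)
    have hgen : Subgroup.zpowers d = Z := by
      refine Subgroup.eq_of_le_of_card_ge (Subgroup.zpowers_le.mpr hdZ) ?_
      rw [Nat.card_zpowers, orderOf_eq_prime hdZ.2.1 hd1]
      exact hZle
    obtain ⟨k, hk⟩ := Subgroup.mem_zpowers_iff.mp (hgen ▸ hy.2.2 u huY.1 : y * u * y⁻¹ * u⁻¹ ∈ Subgroup.zpowers d)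
    refine ⟨k, ?_⟩
    have hdc : ∀ a ∈ T, Commute d a := hcent d hdZ
    have h1 : v * u * v⁻¹ = d * u := by rw [hd]; group
    have h2 : u * v * u⁻¹ = d⁻¹ * v := by rw [hd]; group
    have h3 : u * v ^ k * u⁻¹ = (d ^ k)⁻¹ * v ^ k := by
      rw [← conj_zpow, h2, ((hdc v hvY.1).inv_left).mul_zpow, inv_zpow]
    have h4 : u * y * u⁻¹ = (d ^ k)⁻¹ * y := by rw [hk]; group
    show y * (v ^ k)⁻¹ * u = u * (y * (v ^ k)⁻¹)
    have h5 : u * (y * (v ^ k)⁻¹) * u⁻¹ = y * (v ^ k)⁻¹ := by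
      calc u * (y * (v ^ k)⁻¹) * u⁻¹ = u * y * u⁻¹ * (u * v ^ k * u⁻¹)⁻¹ := by group
        _ = (d ^ k)⁻¹ * y * ((d ^ k)⁻¹ * v ^ k)⁻¹ := by rw [h4, h3]
        _ = (d ^ k)⁻¹ * (y * (v ^ k)⁻¹) * d ^ k := by group
        _ = _ := by
          rw [mul_assoc, (((hdc _ (mul_mem hy.1 (inv_mem (zpow_mem hvY.1 k)))).zpow_left k)).symm.eq,
            inv_mul_cancel_left]
    rw [mul_inv_eq_iff_eq_mul] at h5
    exact h5.symm
  set A0 := Z ⊔ Subgroup.zpowers u
  set C := T ⊓ Subgroup.centralizer (Y : Set G)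
  have hCn : C.Normal := by
    have : Y.Normal := ⟨fun x hx g => hYn g x hx⟩
    infer_instance
  have hkerle : ∀ t ∈ T, Commute t u → Commute t v → t ∈ C := by
    intro t ht htu htv
    refine Subgroup.mem_inf.mpr ⟨ht, ?_⟩
    intro y hy
    obtain ⟨k, hk⟩ := hv y hy
    have hyA : y * (v ^ k)⁻¹ ∈ A0 := by
      set w := y * (v ^ k)⁻¹
      have hwY : w ∈ Y := mul_mem hy (inv_mem (zpow_mem hvY k))
      by_contra hw
      obtain ⟨h1, h2⟩ := hsq u huY.1 huY.2.1 huZ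
      have hA : ∀ a ∈ A0, a ^ p = 1 := fun a ha =>
        ((sup_le (fun b hb => (⟨hb.1, hb.2.1, fun s hs => by
          rw [hb.2.2 s hs, mul_inv_cancel_right, mul_inv_cancel]; exact one_mem _⟩ : b ∈ Y))
          (Subgroup.zpowers_le.mpr huY) : A0 ≤ Y) ha).2.1
      have hAc : IsMulCommutative A0 := by
        show IsMulCommutative (Z ⊔ Subgroup.zpowers u : Subgroup G)
        rw [show Z ⊔ Subgroup.zpowers u = Subgroup.closure ((Z : Set G) ∪ {u}) by
          rw [Subgroup.closure_union, Subgroup.closure_eq, Subgroup.zpowers_eq_closure]]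
        refine Subgroup.isMulCommutative_closure ?_
        rintro a (ha | ha) b (hb | hb)
        · exact ha.2.2 b hb.1
        · rw [Set.mem_singleton_iff.mp hb]; exact ha.2.2 u huY.1
        · rw [Set.mem_singleton_iff.mp ha]; exact (hb.2.2 u huY.1).symm
        · rw [Set.mem_singleton_iff.mp ha, Set.mem_singleton_iff.mp hb]
      have hcw : ∀ a ∈ A0, a * w = w * a := fun a ha => by
        have : A0 ≤ Subgroup.centralizer {w} := sup_le
          (fun b hb => Subgroup.mem_centralizer_singleton_iff.mpr (hb.2.2 w hwY.1))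
          (Subgroup.zpowers_le.mpr (Subgroup.mem_centralizer_singleton_iff.mpr hk.eq.symm))
        exact Subgroup.mem_centralizer_singleton_iff.mp (this ha)
      have h3 := hext A0 hA hAc w hwY.2.1 hcw
      have hlt : A0 < A0 ⊔ Subgroup.zpowers w :=
        le_sup_left.lt_of_ne fun h => hw (h ▸ Subgroup.mem_sup_right (Subgroup.mem_zpowers w))
      have h4 : Nat.card A0 < Nat.card (A0 ⊔ Subgroup.zpowers w : Subgroup G) :=
        lt_of_not_ge fun h => hlt.ne (Subgroup.eq_of_le_of_card_ge hlt.le h)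
      have hZ1 : p ≤ Nat.card Z := by
        have hne : T ≠ ⊥ := fun h' => not_lt_bot (h' ▸ hKT)
        have : Nontrivial T := (Subgroup.nontrivial_iff_ne_bot T).mpr hne
        obtain ⟨k', hk'⟩ := IsPGroup.iff_card.mp (hT.to_subgroup (Subgroup.center T))
        have hk0 : k' ≠ 0 := fun h0 => by
          have := hT.bot_lt_center
          exact this.ne' (Subgroup.card_eq_one.mp (by rw [hk', h0, pow_zero]))
        obtain ⟨⟨z, hz⟩, hzo⟩ := exists_prime_orderOf_dvd_card' p (hk' ▸ dvd_pow_self p hk0)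
        rw [Subgroup.orderOf_mk, ← Subgroup.orderOf_coe] at hzo
        have hzZ : (z : G) ∈ Z := ⟨z.2, hzo ▸ pow_orderOf_eq_one _, fun y hy =>
          (congrArg Subtype.val (Subgroup.mem_center_iff.mp hz ⟨y, hy⟩)).symm⟩
        rw [← hzo, ← Nat.card_zpowers]
        exact Subgroup.card_le_of_le (Subgroup.zpowers_le.mpr hzZ)
      nlinarith [sq p]
    have hA0t : A0 ≤ Subgroup.centralizer {t} := sup_le
      (fun b hb => Subgroup.mem_centralizer_singleton_iff.mpr (hb.2.2 t ht))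
      (Subgroup.zpowers_le.mpr (Subgroup.mem_centralizer_singleton_iff.mpr htu.eq.symm))
    have h1 : Commute (y * (v ^ k)⁻¹) t := Subgroup.mem_centralizer_singleton_iff.mp (hA0t hyA)
    have h2 := h1.mul_left ((htv.zpow_right k).symm)
    rw [inv_mul_cancel_right] at h2
    exact h2.eq
  have hCT : C ≠ T := fun h => by
    apply huZ
    refine ⟨huY.1, huY.2.1, fun y hy => ?_⟩
    have hy' : y ∈ C := h.symm ▸ hy
    exact Subgroup.mem_centralizer_iff.mp (Subgroup.mem_inf.mp hy').2 u huY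
  have hCK := htop C hCn inf_le_left hCT
  refine (Nat.le_of_dvd (Nat.pos_of_ne_zero Subgroup.index_ne_zero_of_finite)
    (Subgroup.relIndex_dvd_of_le_left T hCK)).trans ?_
  -- `|T : C| ≤ |Z|²`
  let φ : T →* Z × Z := MonoidHom.mk' (fun t => (⟨_, huY.2.2 t t.2⟩, ⟨_, hvY.2.2 t t.2⟩)) (fun s t => by
    have key : ∀ w ∈ Y, w * ((s : G) * t) * w⁻¹ * ((s : G) * t)⁻¹ =
        (w * s * w⁻¹ * (s : G)⁻¹) * (w * t * w⁻¹ * (t : G)⁻¹) := by
      intro w hw
      calc w * ((s : G) * t) * w⁻¹ * ((s : G) * t)⁻¹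
          = (w * s * w⁻¹ * (s : G)⁻¹) * ((s : G) * (w * t * w⁻¹ * (t : G)⁻¹) * (s : G)⁻¹) := by group
        _ = _ := by rw [← (hcent _ (hw.2.2 t t.2) s s.2).eq, mul_inv_cancel_right]
    exact Prod.ext (Subtype.ext (key u huY)) (Subtype.ext (key v hvY)))
  have hker : φ.ker ≤ C.subgroupOf T := by
    intro t ht
    rw [MonoidHom.mem_ker, Prod.ext_iff] at ht
    have h1 : u * t * u⁻¹ * (t : G)⁻¹ = 1 := congrArg Subtype.val ht.1
    have h2 : v * t * v⁻¹ * (t : G)⁻¹ = 1 := congrArg Subtype.val ht.2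
    rw [mul_inv_eq_one, mul_inv_eq_iff_eq_mul] at h1 h2
    exact Subgroup.mem_subgroupOf.mpr (hkerle t t.2 h1.symm h2.symm)
  refine (Nat.le_of_dvd (Nat.pos_of_ne_zero Subgroup.index_ne_zero_of_finite)
    (Subgroup.index_dvd_of_le hker)).trans ?_
  rw [Subgroup.index_ker]
  refine (Subgroup.card_le_card_group _).trans ?_
  rw [Nat.card_prod, sq]
  exact Nat.mul_le_mul hZle hZle

/-- The `p`-rank bound passes to subgroups. -/
theorem rank_subgroup {G : Type*} [Group G] [Finite G] {p k : ℕ} (hr : Cfsg.PRankLE p k G)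
    (N : Subgroup G) : Cfsg.PRankLE p k N := by
  intro A hA hAp
  rw [← Subgroup.card_subtype]
  refine hr _ inferInstance ?_
  rintro _ ⟨a, ha, rfl⟩
  rw [← map_pow, hAp a ha, map_one]

/-- Let p be an odd prime and G a finite p-solvable group with no elementary abelian subgroup of order p³. Then every chief factor H/K of G (H, K normal in G with no normal subgroup of G strictly between them) whose order is a power of p has order p or p². -/
theorem result {G : Type*} [Group G] [Finite G] {p : ℕ} [Fact p.Prime] (hp : p ≠ 2)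
    (hG : Cfsg.IsPSolvable p G) (hr : Cfsg.PRankLE p 2 G)
    (H K : Subgroup G) [H.Normal] [K.Normal] (hKH : K < H) (hpow : ∃ n : ℕ, K.relIndex H = p ^ n)
    (hchief : ∀ L : Subgroup G, L.Normal → K ≤ L → L ≤ H → L = K ∨ L = H) :
    K.relIndex H = p ∨ K.relIndex H = p ^ 2 := by
  classical
  obtain ⟨n, hn⟩ := hpow
  suffices hle : K.relIndex H ≤ p ^ 2 by
    have hn2 : n ≤ 2 := by
      rw [hn] at hle
      exact (Nat.pow_le_pow_iff_right (Fact.out : p.Prime).one_lt).mp hle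
    rw [hn]
    interval_cases n
    · rw [pow_zero, Subgroup.relIndex_eq_one] at hn
      exact absurd hn hKH.not_ge
    · exact Or.inl (pow_one p)
    · exact Or.inr rfl
  obtain ⟨S⟩ := (inferInstance : Nonempty (Sylow p ↥H))
  set T := (S : Subgroup ↥H).map H.subtype with hT
  set N := Subgroup.normalizer (T : Set G) with hN
  have hTH : T ≤ H := Subgroup.map_subtype_le _
  -- `T K = H`
  have hTK : T ⊔ K = H := by
    refine le_antisymm (sup_le hTH hKH.le) (Subgroup.relIndex_eq_one.mp ?_)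
    have h1 : (T ⊔ K).relIndex H ∣ p ^ n := hn ▸ Subgroup.relIndex_dvd_of_le_left H le_sup_right
    have h2 : ¬ p ∣ T.relIndex H := by
      rw [Subgroup.relIndex, show T.subgroupOf H = (S : Subgroup ↥H) from
        Subgroup.comap_map_eq_self_of_injective H.subtype_injective _]
      exact S.not_dvd_index
    exact Nat.eq_one_of_dvd_coprimes (((Fact.out : p.Prime).coprime_iff_not_dvd.mpr h2).pow_left n) h1
      (Subgroup.relIndex_dvd_of_le_left H le_sup_left)
  have hNK : N ⊔ K = ⊤ := by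
    rw [eq_top_iff, ← Sylow.normalizer_sup_eq_top (N := H) S]
    refine sup_le le_sup_left ?_
    rw [← hTK]
    exact sup_le (Subgroup.le_normalizer.trans le_sup_left) le_sup_right
  set TT := T.subgroupOf N with hTT
  set KK := (T ⊓ K).subgroupOf N with hKK
  have hTN : T ≤ N := Subgroup.le_normalizer
  have hTTn : TT.Normal := Subgroup.normal_in_normalizer
  have hKKn : KK.Normal := by
    have : KK = TT ⊓ K.subgroupOf N := by ext; simp [KK, TT, Subgroup.mem_subgroupOf]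
    rw [this]; infer_instance
  have hidx : K.relIndex H = KK.relIndex TT := by
    rw [hKK, hTT, Subgroup.relIndex_subgroupOf hTN, Subgroup.inf_relIndex_left, ← hTK,
      Subgroup.relIndex_sup_right]
  have hchiefN : ∀ L : Subgroup N, L.Normal → KK ≤ L → L ≤ TT → L = KK ∨ L = TT := by
    intro L hL hKL hLT
    set L' := L.map N.subtype
    have hL'T : L' ≤ T := fun x hx => by obtain ⟨y, hy, rfl⟩ := hx; exact hLT hy
    have hLn : (L' ⊔ K).Normal := by
      rw [← Subgroup.normalizer_eq_top_iff, eq_top_iff, ← hNK]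
      refine sup_le (fun g hg => Subgroup.mem_normalizer_fintype fun x hx => ?_)
        (le_sup_right.trans Subgroup.le_normalizer)
      refine (sup_le ?_ ?_ : L' ⊔ K ≤ (L' ⊔ K).comap (MulAut.conj g).toMonoidHom) hx
      · rintro _ ⟨y, hy, rfl⟩
        exact Subgroup.mem_sup_left ⟨⟨g, hg⟩ * y * ⟨g, hg⟩⁻¹, hL.conj_mem y hy _, rfl⟩
      · exact fun y hy => Subgroup.mem_sup_right (‹K.Normal›.conj_mem y hy g)
    rcases hchief _ hLn le_sup_right (sup_le (hL'T.trans hTH) hKH.le) with h | h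
    · left
      refine le_antisymm (fun x hx => ?_) hKL
      exact Subgroup.mem_subgroupOf.mpr (Subgroup.mem_inf.mpr
        ⟨hLT hx, h.le (Subgroup.mem_sup_left ⟨x, hx, rfl⟩)⟩)
    · right
      refine le_antisymm hLT fun x hx => ?_
      have h1 : (x : G) ∈ L' ⊔ K := by rw [h]; exact hTH hx
      rw [Subgroup.mem_sup_of_normal_right] at h1
      obtain ⟨l, hl, k, hk, e⟩ := h1
      obtain ⟨l', hl', rfl⟩ := hl
      have hkT : k ∈ T := by
        rw [show k = (N.subtype l')⁻¹ * x by rw [← e]; group]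
        exact mul_mem (inv_mem (hL'T ⟨l', hl', rfl⟩)) hx
      have hkL : (⟨k, hTN hkT⟩ : N) ∈ L := hKL (Subgroup.mem_subgroupOf.mpr ⟨hkT, hk⟩)
      have : x = l' * ⟨k, hTN hkT⟩ := Subtype.ext e.symm
      rw [this]
      exact mul_mem hl' hkL
  -- pass to a minimal supplement
  obtain ⟨T0, ⟨hT0n, hT0le, hT0K⟩, hmin⟩ := Set.Finite.exists_minimal
    (s := {L : Subgroup N | L.Normal ∧ L ≤ TT ∧ L ⊔ KK = TT}) (Set.toFinite _)
    ⟨TT, hTTn, le_rfl, sup_eq_left.mpr (Subgroup.subgroupOf_mono N inf_le_left)⟩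
  set K0 := T0 ⊓ KK
  have hnot : ¬ T0 ≤ KK := fun h => by
    rw [sup_eq_right.mpr h] at hT0K
    have : K.relIndex H = 1 := by rw [hidx, hT0K, Subgroup.relIndex_self]
    rw [Subgroup.relIndex_eq_one] at this
    exact hKH.not_ge this
  have hTp : IsPGroup p T0 := by
    have : IsPGroup p TT := (S.2.map H.subtype).comap_subtype
    exact this.to_le hT0le
  have hbound := top_le hp (rank_subgroup hr N) T0 K0 hT0n inferInstance hTp
    (inf_le_left.lt_of_ne fun h => hnot (inf_eq_left.mp h)) (fun L hL hLT hne => ?_)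
  · rw [hidx, ← hT0K, Subgroup.relIndex_sup_right, ← Subgroup.inf_relIndex_left]
    exact hbound
  · refine le_inf hLT ?_
    rcases hchiefN (L ⊔ KK) inferInstance le_sup_right
      (sup_le (hLT.trans hT0le) (Subgroup.subgroupOf_mono N inf_le_left)) with h | h
    · exact h ▸ le_sup_left
    · exact absurd (le_antisymm hLT (hmin ⟨hL, hLT.trans hT0le, h⟩ hLT)) hne

end Cfsg.Agent.S1895
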