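import Cfsg.Statements.S1896
import Cfsg.Agent.Lib.PGroups.UniqueSubgroup
import Cfsg.Agent.Solvable.Basics
import Mathlib

set_option autoImplicit false
open Cfsg

namespace Cfsg.Agent.S1896

open scoped commutatorElement

/-- The subgroup generated by the squares. -/
def Sq (X : Type*) [Group X] : Subgroup X := Subgroup.closure (Set.range fun u : X => u ^ 2)

theorem sq_mem {X : Type*} [Group X] (u : X) : u ^ 2 ∈ Sq X := Subgroup.subset_closure ⟨u, rfl⟩

theorem comm_mem {X : Type*} [Group X] (u v : X) : u * v * u⁻¹ * v⁻¹ ∈ Sq X := by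
  rw [show u * v * u⁻¹ * v⁻¹ = u ^ 2 * (u⁻¹ * v) ^ 2 * v⁻¹ ^ 2 by simp only [sq]; group]
  exact mul_mem (mul_mem (sq_mem u) (sq_mem _)) (sq_mem _)

theorem sq_normal (X : Type*) [Group X] : (Sq X).Normal :=
  ⟨fun u hu g => by
    have h := (Sq X).mul_mem (comm_mem g u) hu
    rwa [inv_mul_cancel_right] at h⟩

theorem map_sq {X : Type*} [Group X] (α : X ≃* X) {u : X} (hu : u ∈ Sq X) : α u ∈ Sq X := by
  refine ((Subgroup.closure_le ((Sq X).comap α.toMonoidHom)).mpr ?_) hu
  rintro _ ⟨v, rfl⟩
  show α (v ^ 2) ∈ Sq X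
  rw [map_pow]
  exact sq_mem _

theorem top_of_sup_sq {X : Type*} [Group X] [Finite X] (hX : IsPGroup 2 X) {H : Subgroup X}
    (h : H ⊔ Sq X = ⊤) : H = ⊤ := by
  have : Fact (Nat.Prime 2) := ⟨Nat.prime_two⟩
  refine frattini_nongenerating ?_
  rw [eq_top_iff, ← h]
  refine sup_le_sup_left ((Subgroup.closure_le _).mpr ?_) _
  rintro _ ⟨u, rfl⟩
  exact Cfsg.Agent.Solvable.Basics.pow_mem_frattini hX u

/-- Elementary abelian subgroups of a metacyclic group have order at most 4. -/
theorem card_le_four {X : Type*} [Group X] [Finite X] (C : Subgroup X) [C.Normal] (hC : IsCyclic C)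
    (d : X) (hd : C ⊔ Subgroup.zpowers d = ⊤) (E : Subgroup X) (h2 : ∀ u ∈ E, u ^ 2 = 1) :
    Nat.card E ≤ 4 := by
  have hq : IsCyclic (X ⧸ C) := by
    refine isCyclic_iff_exists_zpowers_eq_top.mpr ⟨QuotientGroup.mk d, ?_⟩
    have h := congrArg (Subgroup.map (QuotientGroup.mk' C)) hd
    rw [Subgroup.map_sup, QuotientGroup.map_mk'_self, bot_sup_eq, MonoidHom.map_zpowers,
      Subgroup.map_top_of_surjective _ (QuotientGroup.mk'_surjective C)] at h
    exact h
  have hsmall : ∀ {Y : Type _} [Group Y] [Finite Y], (∀ y : Y, y ^ 2 = 1) → IsCyclic Y → Nat.card Y ≤ 2 := by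
    intro Y _ _ hY hcy
    obtain ⟨g, hg⟩ := hcy.exists_generator
    rw [← orderOf_eq_card_of_forall_mem_zpowers hg]
    exact orderOf_le_of_pow_eq_one two_pos (hY g)
  let f : E →* X ⧸ C := (QuotientGroup.mk' C).comp E.subtype
  rw [Subgroup.card_eq_card_quotient_mul_card_subgroup f.ker,
    Nat.card_congr (QuotientGroup.quotientKerEquivRange f).toEquiv]
  have h1 : Nat.card f.range ≤ 2 := hsmall (fun y => by
    obtain ⟨u, hu⟩ := y.2
    refine Subtype.ext ?_
    rw [Subgroup.coe_pow, ← hu, ← map_pow, show u ^ 2 = 1 from Subtype.ext (h2 u u.2), map_one]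
    rfl) inferInstance
  have h3 : Nat.card f.ker ≤ 2 := hsmall (fun y => Subtype.ext (Subtype.ext (h2 _ y.1.2)))
    (by
      let g : f.ker →* C :=
        { toFun := fun u => ⟨((u : E) : X), (QuotientGroup.eq_one_iff _).mp (MonoidHom.mem_ker.mp u.2)⟩
          map_one' := rfl
          map_mul' := fun _ _ => rfl }
      exact isCyclic_of_injective g fun u v h => by
        apply Subtype.ext; apply Subtype.ext
        exact congrArg (fun w : C => (w : X)) h)
  exact le_trans (Nat.mul_le_mul h1 h3) le_rfl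

/-- An automorphism of odd prime order of a two-generator 2-group permutes the three nontrivial
cosets of the squares cyclically. -/
theorem transitive {X : Type*} [Group X] [Finite X] (hX : IsPGroup 2 X) (α : X ≃* X) {q : ℕ}
    (hq : q.Prime) (hq2 : q ≠ 2) (hαq : (α : MulAut X) ^ q = 1) (hα1 : (α : MulAut X) ≠ 1)
    (a b : X) (hab : Subgroup.closure {a, b} = ⊤) (x : X) (hx : x ∉ Sq X) :
    Subgroup.closure {x, α x} = ⊤ ∧ (x * α x)⁻¹ * α (α x) ∈ Sq X ∧
      ∀ u, u ∈ Sq X ∨ x⁻¹ * u ∈ Sq X ∨ (α x)⁻¹ * u ∈ Sq X ∨ (α (α x))⁻¹ * u ∈ Sq X := by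
  classical
  have : Fact (Nat.Prime 2) := ⟨Nat.prime_two⟩
  have := Fact.mk hq
  have := sq_normal X
  set S := Sq X with hS
  let V := X ⧸ S
  have hV2 : ∀ v : V, v * v = 1 := fun v => by
    induction v using QuotientGroup.induction_on with
    | H u => rw [← QuotientGroup.mk_mul, QuotientGroup.eq_one_iff, ← sq]; exact sq_mem u
  have hinv : ∀ v : V, v⁻¹ = v := fun v => inv_eq_of_mul_eq_one_right (hV2 v)
  have hcomm : ∀ v w : V, v * w = w * v := fun v w => by
    calc v * w = (v * w)⁻¹ := (hinv _).symm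
      _ = w * v := by rw [mul_inv_rev, hinv, hinv]
  have hpow : ∀ (v : V) (i : ℤ), v ^ i = 1 ∨ v ^ i = v := fun v i => by
    rcases Int.even_or_odd i with ⟨k, hk⟩ | ⟨k, hk⟩
    · left; rw [hk, ← two_mul, zpow_mul, zpow_two, hV2, one_zpow]
    · right; rw [hk, zpow_add, zpow_mul, zpow_two, hV2, one_zpow, one_mul, zpow_one]
  have hcard : Nat.card V ≤ 4 := by
    let K : Subgroup V :=
      { carrier := {v | ∃ i j : ℤ, (a : V) ^ i * (b : V) ^ j = v}
        one_mem' := ⟨0, 0, by simp⟩
        mul_mem' := by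
          rintro _ _ ⟨i, j, rfl⟩ ⟨i', j', rfl⟩
          exact ⟨i + i', j + j', by
            rw [zpow_add, zpow_add, mul_assoc, mul_assoc, ← mul_assoc ((b : V) ^ j),
              hcomm ((b : V) ^ j) ((a : V) ^ i'), mul_assoc]⟩
        inv_mem' := fun {v} hv => (hinv v).symm ▸ hv }
    have hK : ∀ v : V, v ∈ K := fun v => by
      induction v using QuotientGroup.induction_on with
      | H u =>
        have hle : Subgroup.closure {a, b} ≤ K.comap (QuotientGroup.mk' S) := by
          rw [Subgroup.closure_le]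
          rintro _ (rfl | rfl)
          · exact ⟨1, 0, by simp⟩
          · exact ⟨0, 1, by simp⟩
        rw [hab] at hle
        exact hle (Subgroup.mem_top u)
    let g : Bool × Bool → V := fun i => (if i.1 then (a : V) else 1) * (if i.2 then (b : V) else 1)
    have hg : Function.Surjective g := fun v => by
      obtain ⟨i, j, hij⟩ := hK v
      rcases hpow (a : V) i with hi | hi <;> rcases hpow (b : V) j with hj | hj <;> rw [hi, hj] at hij
      exacts [⟨(false, false), hij⟩, ⟨(false, true), hij⟩, ⟨(true, false), hij⟩, ⟨(true, true), hij⟩]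
    simpa using Nat.card_le_card_of_surjective g hg
  let β : V →* V := QuotientGroup.map S S α.toMonoidHom fun u hu => map_sq α hu
  have hβ : ∀ u : X, β u = ((α u : X) : V) := fun u => rfl
  have hiter : ∀ (n : ℕ) (u : X), (β^[n]) (u : V) = ((((α : MulAut X) ^ n) u : X) : V) := by
    intro n
    induction n with
    | zero => intro u; rfl
    | succ n ih => intro u; rw [Function.iterate_succ_apply', ih, hβ, pow_succ']; rfl
  have hβq : ∀ v, (β^[q]) v = v := fun v => by
    induction v using QuotientGroup.induction_on with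
    | H u => rw [hiter, hαq]; rfl
  have htwo : ∀ v, β (β v) = v → β v = v := fun v h => by
    obtain ⟨k, hk⟩ := hq.odd_of_ne_two hq2
    have h1 : ∀ m, (β^[2 * m]) v = v := by
      intro m
      induction m with
      | zero => rfl
      | succ m ih => rw [Nat.mul_succ, Function.iterate_add_apply]; show β^[2 * m] (β (β v)) = v; rw [h, ih]
    have h2 := hβq v
    rw [hk, add_comm, Function.iterate_add_apply, h1] at h2
    exact h2
  -- some coset moves
  have hmove : ∃ v : V, β v ≠ v := by
    by_contra h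
    push Not at h
    apply hα1
    refine MulEquiv.ext fun u => ?_
    suffices MonoidHom.eqLocus α.toMonoidHom (MonoidHom.id X) = ⊤ from
      (this ▸ Subgroup.mem_top u : u ∈ MonoidHom.eqLocus α.toMonoidHom (MonoidHom.id X))
    refine top_of_sup_sq hX (eq_top_iff.mpr fun w _ => ?_)
    -- a fixed point in the coset of `w`
    let A := {u : X // (u : V) = (w : V)}
    let e : A ≃ A :=
      { toFun := fun u => ⟨α u.1, by rw [← hβ, h]; exact u.2⟩
        invFun := fun u => ⟨α.symm u.1, by
          have := h ((α.symm u.1 : X) : V)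
          rw [hβ, MulEquiv.apply_symm_apply] at this
          rw [← this]; exact u.2⟩
        left_inv := fun u => Subtype.ext (α.symm_apply_apply _)
        right_inv := fun u => Subtype.ext (α.apply_symm_apply _) }
    have hcardA : Nat.card A = Nat.card S := by
      refine Nat.card_congr
        { toFun := fun u => ⟨w⁻¹ * u.1, QuotientGroup.eq.mp u.2.symm⟩
          invFun := fun s => ⟨w * s, by simp [QuotientGroup.eq]⟩
          left_inv := fun u => Subtype.ext (by simp)
          right_inv := fun s => Subtype.ext (by simp) }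
    have hep : e ^ q ^ 1 = 1 := by
      rw [pow_one]
      have hv : ∀ (n : ℕ) (u : A), ((e ^ n) u).1 = ((α : MulAut X) ^ n) u.1 := by
        intro n
        induction n with
        | zero => intro u; rfl
        | succ n ih => intro u; rw [pow_succ', pow_succ']; show α ((e ^ n) u).1 = _; rw [ih]; rfl
      exact Equiv.ext fun u => Subtype.ext (by rw [hv, hαq]; rfl)
    have : Fintype A := Fintype.ofFinite A
    have hnd : ¬ q ∣ Fintype.card A := by
      rw [← Nat.card_eq_fintype_card, hcardA]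
      obtain ⟨k, hk⟩ := IsPGroup.iff_card.mp (hX.to_subgroup S)
      rw [hk]
      exact fun hd => hq2 ((Nat.prime_dvd_prime_iff_eq hq Nat.prime_two).mp (hq.dvd_of_dvd_pow hd))
    obtain ⟨u, hu⟩ := Equiv.Perm.exists_fixed_point_of_prime hnd hep
    have h3 : w = u.1 * (u.1⁻¹ * w) := by group
    rw [h3]
    exact Subgroup.mul_mem_sup (show α u.1 = u.1 from congrArg Subtype.val hu) (QuotientGroup.eq.mp u.2)
  obtain ⟨v₀, hv₀⟩ := hmove
  -- no nontrivial fixed coset
  have hfpf : ∀ v : V, β v = v → v = 1 := by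
    intro v hv
    by_contra hv1
    have hnv : β v₀ ≠ v₀ := hv₀
    have h5 : ({1, v, v₀, β v₀, β (β v₀)} : Finset V).card = 5 := by
      have hne1 : v₀ ≠ 1 := fun h => hnv (by rw [h, map_one])
      have hnev : v₀ ≠ v := fun h => hnv (by rw [h, hv])
      have hb1 : β v₀ ≠ 1 := fun h => by
        have := hβq v₀
        obtain ⟨k, hk⟩ := hq.odd_of_ne_two hq2
        rw [hk, Function.iterate_add_apply, Function.iterate_one, h, Function.iterate_fixed (map_one β)] at this
        exact hne1 this.symm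
      have hbv : β v₀ ≠ v := fun h => hnv (by
        have h1 : β (β v₀) = β v₀ := by rw [h, hv]
        have h2 : β^[q] v₀ = β v₀ := by
          obtain ⟨k, hk⟩ := hq.odd_of_ne_two hq2
          rw [hk, Function.iterate_add_apply, Function.iterate_one, Function.iterate_fixed h1]
        exact h2.symm.trans (hβq v₀))
      have hbb : β (β v₀) ≠ v₀ := fun h => hnv (htwo v₀ h)
      have hbb2 : β (β v₀) ≠ β v₀ := fun h => hnv (by
        obtain ⟨k, hk⟩ := hq.odd_of_ne_two hq2
        have h2 : β^[q] v₀ = β v₀ := by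
          rw [hk, Function.iterate_add_apply, Function.iterate_one, Function.iterate_fixed h]
        exact h2.symm.trans (hβq v₀))
      have hb21 : β (β v₀) ≠ 1 := fun h => by
        have := hβq v₀
        obtain ⟨k, hk⟩ : ∃ k, q = k + 2 := ⟨q - 2, by have := hq.two_le; omega⟩
        rw [hk, Function.iterate_add_apply] at this
        change β^[k] (β (β v₀)) = v₀ at this
        rw [h, Function.iterate_fixed (map_one β)] at this
        exact hne1 this.symm
      have hb2v : β (β v₀) ≠ v := fun h => hbb (by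
        have := hβq v₀
        obtain ⟨k, hk⟩ : ∃ k, q = k + 2 := ⟨q - 2, by have := hq.two_le; omega⟩
        rw [hk, Function.iterate_add_apply] at this
        change β^[k] (β (β v₀)) = v₀ at this
        rw [h, Function.iterate_fixed hv] at this
        rw [h, this])
      simp [Ne.symm hv1, Ne.symm hne1, Ne.symm hnev, Ne.symm hb1, Ne.symm hbv, Ne.symm hb21,
        Ne.symm hb2v, Ne.symm hnv, Ne.symm hbb, Ne.symm hbb2]
    have : Fintype V := Fintype.ofFinite V
    have := Finset.card_le_univ ({1, v, v₀, β v₀, β (β v₀)} : Finset V)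
    rw [h5, ← Nat.card_eq_fintype_card] at this
    omega
  have hxv : (x : V) ≠ 1 := fun h => hx ((QuotientGroup.eq_one_iff x).mp h)
  set v := (x : V) with hv
  have hinjβ : Function.Injective β := by
    rw [← MonoidHom.ker_eq_bot_iff, Subgroup.eq_bot_iff_forall]
    intro w hw
    rw [MonoidHom.mem_ker] at hw
    obtain ⟨k, hk⟩ := hq.odd_of_ne_two hq2
    have := hβq w
    rw [hk, Function.iterate_add_apply, Function.iterate_one, hw, Function.iterate_fixed (map_one β)] at this
    exact this.symm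
  have n1 : β v ≠ v := fun h => hxv (hfpf v h)
  have n2 : β (β v) ≠ v := fun h => n1 (htwo v h)
  have n3 : β (β v) ≠ β v := fun h => n1 (hinjβ h)
  have b1 : β v ≠ 1 := fun h => hxv (hinjβ (h.trans (map_one β).symm))
  have b2 : β (β v) ≠ 1 := fun h => b1 (hinjβ (h.trans (map_one β).symm))
  have : Fintype V := Fintype.ofFinite V
  have hall : ∀ w : V, w = 1 ∨ w = v ∨ w = β v ∨ w = β (β v) := by
    have h4 : ({1, v, β v, β (β v)} : Finset V).card = 4 := by
      simp [Ne.symm hxv, Ne.symm b1, Ne.symm b2, Ne.symm n1, Ne.symm n2, Ne.symm n3]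
    have hu := Finset.eq_univ_of_card _ (le_antisymm (Finset.card_le_univ _)
      (by rw [h4, ← Nat.card_eq_fintype_card]; exact hcard))
    intro w
    have := hu ▸ Finset.mem_univ w
    simpa using this
  have hprod : β (β v) = v * β v := by
    rcases hall (v * β v) with h | h | h | h
    · exact absurd ((eq_inv_of_mul_eq_one_right h).trans (hinv v)) n1
    · exact absurd (mul_eq_left.mp h) b1
    · exact absurd (mul_eq_right.mp h) hxv
    · exact h.symm
  refine ⟨top_of_sup_sq hX (eq_top_iff.mpr fun u _ => ?_), ?_, fun u => ?_⟩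
  · have hmem : ∀ y ∈ Subgroup.closure {x, α x}, (u : V) = (y : V) →
        u ∈ Subgroup.closure {x, α x} ⊔ S := fun y hy h => by
      rw [show u = y * (y⁻¹ * u) by group]
      exact Subgroup.mul_mem_sup hy (QuotientGroup.eq.mp h.symm)
    have hxm : x ∈ Subgroup.closure {x, α x} := Subgroup.subset_closure (Set.mem_insert _ _)
    have hym : α x ∈ Subgroup.closure {x, α x} :=
      Subgroup.subset_closure (Set.mem_insert_of_mem _ rfl)
    rcases hall (u : V) with h | h | h | h
    · exact hmem 1 (one_mem _) h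
    · exact hmem x hxm h
    · exact hmem (α x) hym h
    · exact hmem (x * α x) (mul_mem hxm hym) (h.trans hprod)
  · exact QuotientGroup.eq.mp hprod.symm
  · rcases hall (u : V) with h | h | h | h
    · exact Or.inl ((QuotientGroup.eq_one_iff u).mp h)
    · exact Or.inr (Or.inl (QuotientGroup.eq.mp h.symm))
    · exact Or.inr (Or.inr (Or.inl (QuotientGroup.eq.mp h.symm)))
    · exact Or.inr (Or.inr (Or.inr (QuotientGroup.eq.mp h.symm)))

/-- The class-two case: the generators square into the derived subgroup. -/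
theorem class_two {Y : Type*} [Group Y] [Finite Y] (hY : IsPGroup 2 Y) (z : Y) (hz2 : z ^ 2 = 1)
    (hzc : ∀ u : Y, Commute z u) (hcomm : ∀ u v : Y, u * v * u⁻¹ * v⁻¹ = 1 ∨ u * v * u⁻¹ * v⁻¹ = z)
    (hrank : ∀ E : Subgroup Y, (∀ u ∈ E, u ^ 2 = 1) → Nat.card E ≤ 4) (hz1 : z ≠ 1)
    (α : Y ≃* Y) (hαz : α z = z) (x : Y) (hgen : Subgroup.closure {x, α x} = ⊤)
    (htri : (x * α x)⁻¹ * α (α x) ∈ Sq Y) : x ^ 2 = 1 ∨ x ^ 2 = z := by
  classical
  have : Fact (Nat.Prime 2) := ⟨Nat.prime_two⟩
  set Z := Subgroup.zpowers z with hZdef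
  have hZ : ∀ u, u ∈ Z → u = 1 ∨ u = z := fun u hu => by
    obtain ⟨k, rfl⟩ := Subgroup.mem_zpowers_iff.mp hu
    have h2 : z ^ (2 : ℤ) = 1 := by exact_mod_cast hz2
    rcases Int.even_or_odd k with ⟨i, hi⟩ | ⟨i, hi⟩
    · left; rw [hi, ← two_mul, zpow_mul, h2, one_zpow]
    · right; rw [hi, zpow_add, zpow_mul, h2, one_zpow, one_mul, zpow_one]
  have hZn : Z.Normal := ⟨fun u hu g => by
    rcases hZ u hu with h | h <;> rw [h]
    · simp
    · rw [← (hzc g).eq, mul_inv_cancel_right]; exact Subgroup.mem_zpowers z⟩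
  let Q := Y ⧸ Z
  let : CommGroup Q :=
    { (inferInstance : Group Q) with
      mul_comm := fun a c => by
        induction a using QuotientGroup.induction_on with
        | H u =>
          induction c using QuotientGroup.induction_on with
          | H v =>
            rw [← QuotientGroup.mk_mul, ← QuotientGroup.mk_mul, QuotientGroup.eq]
            rcases hcomm v⁻¹ u⁻¹ with h | h <;>
              rw [show (u * v)⁻¹ * (v * u) = v⁻¹ * u⁻¹ * v⁻¹⁻¹ * u⁻¹⁻¹ by group, h]
            · exact one_mem _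
            · exact Subgroup.mem_zpowers z }
  have hsqc : ∀ u v : Y, Commute (u ^ 2) v := by
    intro u v
    rcases hcomm u v with h | h
    · rw [mul_inv_eq_one, mul_inv_eq_iff_eq_mul] at h
      exact (show Commute u v from h).pow_left 2
    · have h1 : u * v * u⁻¹ = z * v := mul_inv_eq_iff_eq_mul.mp h
      show u ^ 2 * v = v * u ^ 2
      calc u ^ 2 * v = u * (u * v * u⁻¹) * u⁻¹ * u ^ 2 := by simp only [sq]; group
        _ = u * (z * v) * u⁻¹ * u ^ 2 := by rw [h1]
        _ = z * (u * v * u⁻¹) * u ^ 2 := by rw [← mul_assoc u z v, ← (hzc u).eq]; group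
        _ = z * z * v * u ^ 2 := by rw [h1]; simp only [sq]; group
        _ = _ := by rw [← sq, hz2, one_mul]
  obtain ⟨N, hN⟩ := IsPGroup.iff_orderOf.mp hY x
  have hex : ∃ n, x ^ 2 ^ n ∈ Z := ⟨N, by rw [← hN, pow_orderOf_eq_one]; exact one_mem _⟩
  set n := Nat.find hex with hn
  have hxn : x ^ 2 ^ n ∈ Z := Nat.find_spec hex
  rcases le_or_gt n 1 with h | h
  · have : x ^ 2 ∈ Z := by
      rcases Nat.le_one_iff_eq_zero_or_eq_one.mp h with h0 | h0 <;> rw [h0] at hxn
      · rw [pow_zero, pow_one] at hxn; exact pow_mem hxn 2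
      · rwa [pow_one] at hxn
    exact hZ _ this
  exfalso
  obtain ⟨m, hm⟩ : ∃ m, n = m + 2 := ⟨n - 2, by omega⟩
  rw [hm] at hxn
  have hαZ : ∀ u ∈ Z, α u ∈ Z := fun u hu => by
    rcases hZ u hu with h1 | h1 <;> rw [h1]
    · rw [map_one]; exact one_mem _
    · rw [hαz]; exact Subgroup.mem_zpowers z
  -- the power map on the abelian quotient
  have hexpQ : ∀ u : Y, u ^ 2 ^ (m + 2) ∈ Z := by
    let g : Y →* Q := (powMonoidHom (2 ^ (m + 2))).comp (QuotientGroup.mk' Z)
    have hle : Subgroup.closure {x, α x} ≤ g.ker := by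
      rw [Subgroup.closure_le]
      rintro _ (rfl | rfl)
      · show (QuotientGroup.mk' Z _) ^ 2 ^ (m + 2) = 1
        rw [← map_pow]; exact (QuotientGroup.eq_one_iff _).mpr hxn
      · show (QuotientGroup.mk' Z _) ^ 2 ^ (m + 2) = 1
        rw [← map_pow, ← map_pow]; exact (QuotientGroup.eq_one_iff _).mpr (hαZ _ hxn)
    rw [hgen] at hle
    intro u
    rw [← QuotientGroup.eq_one_iff]
    exact MonoidHom.mem_ker.mp (hle (Subgroup.mem_top u))
  let g : Y →* Q := (powMonoidHom (2 ^ (m + 1))).comp (QuotientGroup.mk' Z)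
  have hSq : Sq Y ≤ g.ker := by
    refine (Subgroup.closure_le _).mpr ?_
    rintro _ ⟨u, rfl⟩
    show (QuotientGroup.mk' Z (u ^ 2)) ^ 2 ^ (m + 1) = 1
    rw [← map_pow, ← pow_mul, ← pow_succ']
    exact (QuotientGroup.eq_one_iff _).mpr (hexpQ u)
  set w := x ^ 2 ^ (m + 1) with hw
  have hwZ : w ∉ Z := fun h1 => Nat.find_min hex (m := m + 1) (by omega) h1
  have hwc : ∀ v, Commute w v := fun v => by
    rw [hw, pow_succ, pow_mul]
    exact hsqc _ v
  have hrel : (w * α w)⁻¹ * α (α w) ∈ Z := by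
    rw [← QuotientGroup.eq]
    have h1 := MonoidHom.mem_ker.mp (hSq htri)
    rw [map_mul, map_inv, inv_mul_eq_one, map_mul] at h1
    rw [hw, map_pow, map_pow]
    exact h1
  have hwsq : w ^ 2 ∈ Z := by
    rw [hw, ← pow_mul, ← pow_succ]
    exact hxn
  have hαw : α w ^ 2 = w ^ 2 := by
    rw [← map_pow]
    rcases hZ _ hwsq with h1 | h1 <;> rw [h1]
    · rw [map_one]
    · rw [hαz]
  have hααw : α (α w) ^ 2 = w ^ 2 := by
    rw [← map_pow, hαw, map_pow, hαw]
  have hw2 : w ^ 2 = 1 := by
    have hzi : ∀ e ∈ Z, ∀ v, Commute e v := fun e he v => by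
      rcases hZ e he with rfl | rfl
      · exact Commute.one_left v
      · exact hzc v
    have h1 : α (α w) = (w * α w) * ((w * α w)⁻¹ * α (α w)) := by group
    generalize (w * α w)⁻¹ * α (α w) = e at hrel h1
    have he2 : e ^ 2 = 1 := by
      rcases hZ e hrel with rfl | rfl
      · exact one_pow 2
      · exact hz2
    rw [h1, ((hzi e hrel _).symm).mul_pow, (hwc (α w)).mul_pow, he2, mul_one, hαw] at hααw
    exact mul_eq_left.mp hααw
  -- an elementary abelian subgroup of order 8
  let E : Subgroup Y :=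
    { carrier := {u | (∀ v, Commute u v) ∧ u ^ 2 = 1}
      one_mem' := ⟨Commute.one_left, one_pow 2⟩
      mul_mem' := fun {u v} hu hv => ⟨fun t => (hu.1 t).mul_left (hv.1 t),
        by rw [(hu.1 v).mul_pow, hu.2, hv.2, one_mul]⟩
      inv_mem' := fun {u} hu => ⟨fun t => (hu.1 t).inv_left, by rw [inv_pow, hu.2, inv_one]⟩ }
  have hzE : z ∈ E := ⟨hzc, hz2⟩
  have hwE : w ∈ E := ⟨hwc, hw2⟩
  have hαwE : α w ∈ E := ⟨fun v => by simpa using (hwc (α.symm v)).map α.toMonoidHom,
    by rw [hαw, hw2]⟩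
  have hE := hrank E (fun u hu => hu.2)
  -- the eight products are distinct
  have hinjα : ∀ u, α u ∈ Z → u ∈ Z := fun u hu => by
    rcases hZ _ hu with h1 | h1
    · rw [α.map_eq_one_iff.mp h1]; exact one_mem _
    · rw [α.injective (h1.trans hαz.symm)]; exact Subgroup.mem_zpowers z
  have hαwZ : α w ∉ Z := fun h1 => hwZ (hinjα w h1)
  have hwαw : w * α w ∉ Z := fun h1 => hαwZ (hinjα _ (by
    rw [show α (α w) = (w * α w) * ((w * α w)⁻¹ * α (α w)) by group]
    exact mul_mem h1 hrel))
  let Φ : Bool × Bool × Bool → E := fun i =>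
    (if i.1 then ⟨z, hzE⟩ else 1) * ((if i.2.1 then ⟨w, hwE⟩ else 1) * (if i.2.2 then ⟨α w, hαwE⟩ else 1))
  have hΦ : Function.Injective Φ := by
    have hcoe : ∀ i, ((Φ i : E) : Y) = (if i.1 then z else 1) * ((if i.2.1 then w else 1) * (if i.2.2 then α w else 1)) := by
      intro i; simp only [Φ, Subgroup.coe_mul]; split_ifs <;> rfl
    have key : ∀ (j k j' k' : Bool), (if j then w else 1) * (if k then α w else 1) *
        ((if j' then w else 1) * (if k' then α w else 1))⁻¹ ∈ Z → j = j' ∧ k = k' := by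
      have hi : w⁻¹ = w := inv_eq_of_mul_eq_one_right (by rw [← sq, hw2])
      have hi' : (α w)⁻¹ = α w := inv_eq_of_mul_eq_one_right (by rw [← sq, hαw, hw2])
      have hw2' : w * w = 1 := by rw [← sq, hw2]
      have hαw2' : α w * α w = 1 := by rw [← sq, hαw, hw2]
      have hc' : α w * w = w * α w := ((hwc (α w)).symm).eq
      intro j k j' k'
      cases j <;> cases k <;> cases j' <;> cases k' <;>
        simp [mul_inv_rev, hi, hi', ← mul_assoc, hw2', hαw2', hwZ, hαwZ, hwαw, hc'] <;>
        (try simp [mul_assoc, hw2', hαw2', hwZ, hαwZ, hwαw, hc']) <;>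
        (try (rw [← mul_assoc, hw2', one_mul]; exact hαwZ))
    intro i i' h
    have h1 := congrArg (fun u : E => (u : Y)) h
    simp only [hcoe] at h1
    obtain ⟨a, j, k⟩ := i
    obtain ⟨a', j', k'⟩ := i'
    simp only at h1
    have h2 : (if j then w else 1) * (if k then α w else 1) *
        ((if j' then w else 1) * (if k' then α w else 1))⁻¹ = (if a then z else 1)⁻¹ * (if a' then z else 1) := by
      rw [mul_inv_eq_iff_eq_mul, eq_comm, mul_assoc, inv_mul_eq_iff_eq_mul]
      exact h1.symm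
    obtain ⟨rfl, rfl⟩ := key j k j' k' (by
      rw [h2]
      refine mul_mem (inv_mem ?_) ?_ <;> split_ifs <;> first | exact Subgroup.mem_zpowers z | exact one_mem _)
    have h3 := mul_right_cancel h1
    cases a <;> cases a' <;> simp [hz1, Ne.symm hz1] at h3 ⊢
  have h8 := Nat.card_le_card_of_injective Φ hΦ
  simp at h8
  omega

/-- A finite metacyclic 2-group whose automorphism group is not a 2-group is isomorphic to the quaternion group of order 8 or to a homocyclic abelian group Z_{2^n} × Z_{2^n}. -/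
theorem result {X : Type*} [Group X] [Finite X] (hX : IsPGroup 2 X)
    (hm : Cfsg.IsMetacyclic X) (hA : ¬ IsPGroup 2 (MulAut X)) :
    Nonempty (X ≃* QuaternionGroup 2) ∨
      ∃ n : ℕ, Nonempty (X ≃* Multiplicative (ZMod (2 ^ n)) × Multiplicative (ZMod (2 ^ n))) := by
  classical
  have : Fact (Nat.Prime 2) := ⟨Nat.prime_two⟩
  obtain ⟨C, hCn, hC, hQ⟩ := hm
  obtain ⟨g, hg⟩ := (Subgroup.isCyclic_iff_exists_zpowers_eq_top C).mp hC
  obtain ⟨dd, hdd⟩ := hQ.exists_generator
  obtain ⟨d, rfl⟩ := QuotientGroup.mk'_surjective C dd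
  have hgen0 : C ⊔ Subgroup.zpowers d = ⊤ := eq_top_iff.mpr fun u _ => by
    obtain ⟨k, hk⟩ := Subgroup.mem_zpowers_iff.mp (hdd (QuotientGroup.mk' C u))
    rw [show u = (u * (d ^ k)⁻¹) * d ^ k by group]
    refine Subgroup.mul_mem_sup ((QuotientGroup.eq_one_iff _).mp ?_) (zpow_mem (Subgroup.mem_zpowers d) k)
    show QuotientGroup.mk' C (u * (d ^ k)⁻¹) = 1
    rw [map_mul, map_inv, map_zpow, hk, mul_inv_cancel]
  have hab : Subgroup.closure {g, d} = ⊤ := by
    rw [eq_top_iff, ← hgen0, ← hg, sup_le_iff, Subgroup.zpowers_le, Subgroup.zpowers_le]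
    exact ⟨Subgroup.subset_closure (Set.mem_insert _ _), Subgroup.subset_closure (Set.mem_insert_of_mem _ rfl)⟩
  obtain ⟨q, hq, hq2, α, hαq, hα1⟩ : ∃ q : ℕ, q.Prime ∧ q ≠ 2 ∧ ∃ α : MulAut X, α ^ q = 1 ∧ α ≠ 1 := by
    rw [IsPGroup.iff_orderOf] at hA
    push Not at hA
    obtain ⟨β, hβ⟩ := hA
    obtain ⟨e, m, hm, he⟩ := Nat.exists_eq_pow_mul_and_not_dvd (orderOf_pos β).ne' 2 (by norm_num)
    have hm1 : m ≠ 1 := fun h => hβ e (by rw [he, h, mul_one])
    obtain ⟨q, hq, hqm⟩ := Nat.exists_prime_and_dvd hm1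
    have hqo : q ∣ orderOf β := he ▸ hqm.mul_left _
    have := Fact.mk hq
    obtain ⟨α, hα⟩ := exists_prime_orderOf_dvd_card' q (hqo.trans (orderOf_dvd_natCard β))
    exact ⟨q, hq, fun h => hm (h ▸ hqm), α, hα ▸ pow_orderOf_eq_one α,
      fun h => hq.ne_one (by rw [← hα, h, orderOf_one])⟩
  have := sq_normal X
  by_cases hab' : ∀ u v : X, u * v = v * u
  · -- the abelian case
    right
    let : CommGroup X := { ‹Group X› with mul_comm := hab' }
    obtain ⟨x, hx⟩ : ∃ x, x ∉ Sq X := by
      by_contra h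
      push Not at h
      have hbot : (⊥ : Subgroup X) = ⊤ := top_of_sup_sq hX (eq_top_iff.mpr fun u _ => by
        rw [bot_sup_eq]; exact h u)
      apply hα1
      refine MulEquiv.ext fun u => ?_
      have hu1 : u = 1 := Subgroup.mem_bot.mp (hbot ▸ Subgroup.mem_top u)
      rw [hu1, map_one, map_one]
    obtain ⟨hgen, htri, -⟩ := transitive hX α hq hq2 hαq hα1 g d hab x hx
    obtain ⟨n, hn⟩ := IsPGroup.iff_orderOf.mp hX x
    set y := α x
    have hy : orderOf y = 2 ^ n := by
      rw [← hn]; exact MulEquiv.orderOf_eq α x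
    have hexp : ∀ u : X, u ^ 2 ^ n = 1 := by
      have hle : Subgroup.closure {x, y} ≤ (powMonoidHom (α := X) (2 ^ n)).ker := by
        rw [Subgroup.closure_le]
        rintro a (h | h) <;> rw [h]
        · show x ^ 2 ^ n = 1; rw [← hn]; exact pow_orderOf_eq_one x
        · show y ^ 2 ^ n = 1; rw [← hy]; exact pow_orderOf_eq_one y
      rw [hgen] at hle
      exact fun u => hle (Subgroup.mem_top u)
    have hn0 : n ≠ 0 := fun h => hx (by
      rw [h, pow_zero, orderOf_eq_one_iff] at hn
      rw [hn]; exact one_mem _)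
    obtain ⟨m, rfl⟩ : ∃ m, n = m + 1 := ⟨n - 1, by omega⟩
    have hwne : x ^ 2 ^ m ≠ y ^ 2 ^ m := by
      intro h
      have hker : Sq X ≤ (powMonoidHom (α := X) (2 ^ m)).ker := by
        refine (Subgroup.closure_le _).mpr ?_
        rintro _ ⟨u, rfl⟩
        show (u ^ 2) ^ 2 ^ m = 1
        rw [← pow_mul, ← pow_succ']
        exact hexp u
      have h1 : ((x * y)⁻¹ * α y) ^ 2 ^ m = 1 := hker htri
      have h2 : (α y) ^ 2 ^ m = x ^ 2 ^ m := by
        rw [← map_pow, ← h, map_pow]; exact h.symm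
      rw [mul_pow, inv_pow, mul_pow, h2, ← h, mul_inv_rev, mul_assoc, inv_mul_cancel, mul_one,
        inv_eq_one] at h1
      have hd := orderOf_dvd_of_pow_eq_one h1
      rw [hn, Nat.pow_dvd_pow_iff_le_right (by norm_num)] at hd
      omega
    have hdisj : Disjoint (Subgroup.zpowers x) (Subgroup.zpowers y) := by
      rw [disjoint_iff]
      rcases (Subgroup.zpowers x ⊓ Subgroup.zpowers y).bot_or_exists_ne_one with h | ⟨u, hu, hu1⟩
      · exact h
      exfalso
      obtain ⟨k, hk⟩ := IsPGroup.iff_orderOf.mp hX u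
      have hk0 : k ≠ 0 := fun h => hu1 (orderOf_eq_one_iff.mp (by rw [hk, h, pow_zero]))
      set t := u ^ 2 ^ (k - 1) with ht
      have hto : orderOf t = 2 := by
        rw [ht, orderOf_pow_of_dvd (by positivity) (by rw [hk]; exact Nat.pow_dvd_pow 2 (by omega)), hk,
          Nat.pow_div (by omega) two_pos, show k - (k - 1) = 1 by omega, pow_one]
      have key : ∀ v : X, orderOf v = 2 ^ (m + 1) → t ∈ Subgroup.zpowers v → t = v ^ 2 ^ m := by
        intro v hv htv
        obtain ⟨i, hi⟩ := (mem_powers_iff_mem_zpowers (x := v)).mpr htv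
        change v ^ i = t at hi
        have hd : 2 ^ (m + 1) ∣ i * 2 := by
          rw [← hv]; apply orderOf_dvd_of_pow_eq_one
          rw [pow_mul, hi, ← hto, pow_orderOf_eq_one]
        obtain ⟨j, rfl⟩ : 2 ^ m ∣ i := by
          rw [pow_succ] at hd; exact Nat.dvd_of_mul_dvd_mul_right two_pos hd
        rcases Nat.even_or_odd j with ⟨l, hl⟩ | ⟨l, hl⟩
        · exfalso
          have : t = 1 := by
            rw [← hi, hl, show 2 ^ m * (l + l) = 2 ^ (m + 1) * l by ring, pow_mul, ← hv,
              pow_orderOf_eq_one, one_pow]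
          rw [this, orderOf_one] at hto
          exact absurd hto (by norm_num)
        · rw [← hi, hl, show 2 ^ m * (2 * l + 1) = 2 ^ (m + 1) * l + 2 ^ m by ring, pow_add, pow_mul,
            ← hv, pow_orderOf_eq_one, one_pow, one_mul]
      obtain ⟨hux, huy⟩ := Subgroup.mem_inf.mp (pow_mem hu (2 ^ (k - 1)))
      exact hwne ((key x hn hux).symm.trans (key y hy huy))
    refine ⟨m + 1, ?_⟩
    let f : ↥(Subgroup.zpowers x) × ↥(Subgroup.zpowers y) →* X :=
      MonoidHom.coprod (Subgroup.zpowers x).subtype (Subgroup.zpowers y).subtype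
    have hf : Function.Bijective f := by
      constructor
      · rintro ⟨a1, b1⟩ ⟨a2, b2⟩ h
        have := (Subgroup.mul_injective_of_disjoint hdisj) (a₁ := (a1, b1)) (a₂ := (a2, b2)) h
        exact this
      · intro u
        have hle : Subgroup.closure {x, y} ≤ f.range := by
          rw [Subgroup.closure_le]
          rintro a (h | h) <;> rw [h]
          · exact ⟨(⟨x, Subgroup.mem_zpowers x⟩, 1), by simp [f]⟩
          · exact ⟨(1, ⟨y, Subgroup.mem_zpowers y⟩), by simp [f]⟩
        rw [hgen] at hle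
        exact hle (Subgroup.mem_top u)
    have ex : ∀ v : X, orderOf v = 2 ^ (m + 1) →
        Nonempty (↥(Subgroup.zpowers v) ≃* Multiplicative (ZMod (2 ^ (m + 1)))) := fun v hv => by
      have hc := zmodCyclicMulEquiv (G := ↥(Subgroup.zpowers v)) inferInstance
      rw [Nat.card_zpowers, hv] at hc
      exact ⟨hc.symm⟩
    obtain ⟨e1⟩ := ex x hn
    obtain ⟨e2⟩ := ex y hy
    exact ⟨(MulEquiv.ofBijective f hf).symm.trans (e1.prodCongr e2)⟩
  -- the non-abelian case
  left
  have hgS : g ∉ Sq X := by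
    intro h
    have : Subgroup.zpowers d = ⊤ := top_of_sup_sq hX (by
      rw [eq_top_iff, ← hgen0, ← hg]
      exact sup_le (le_sup_of_le_right (Subgroup.zpowers_le.mpr h)) le_sup_left)
    apply hab'
    intro u v
    obtain ⟨i, rfl⟩ := Subgroup.mem_zpowers_iff.mp (this ▸ Subgroup.mem_top u : u ∈ Subgroup.zpowers d)
    obtain ⟨j, rfl⟩ := Subgroup.mem_zpowers_iff.mp (this ▸ Subgroup.mem_top v : v ∈ Subgroup.zpowers d)
    group
  obtain ⟨hgen, htri, hcos⟩ := transitive hX α hq hq2 hαq hα1 g d hab g hgS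
  set D := commutator X with hD
  have hDC : D ≤ C := by
    rw [hD, commutator_def, Subgroup.commutator_le]
    intro u _ v _
    rw [← QuotientGroup.eq_one_iff]
    show QuotientGroup.mk' C ⁅u, v⁆ = 1
    rw [map_commutatorElement, commutatorElement_eq_one_iff_mul_comm]
    exact (IsCyclic.isMulCommutative (α := X ⧸ C)).is_comm.comm _ _
  have hDcy : IsCyclic D := isCyclic_of_injective (Subgroup.inclusion hDC) (Subgroup.inclusion_injective hDC)
  obtain ⟨c, hc⟩ := (Subgroup.isCyclic_iff_exists_zpowers_eq_top D).mp hDcy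
  have hcD : c ∈ D := hc ▸ Subgroup.mem_zpowers c
  have hcomD : ∀ u v : X, u * v * u⁻¹ * v⁻¹ ∈ D := fun u v => by
    rw [hD, commutator_def, ← commutatorElement_def]
    exact Subgroup.commutator_mem_commutator (Subgroup.mem_top u) (Subgroup.mem_top v)
  have hDSq : D ≤ Sq X := by
    rw [hD, commutator_def, Subgroup.commutator_le]
    intro u _ v _
    exact comm_mem u v
  set N := Subgroup.zpowers (c ^ 2) with hN
  have hDinv : ∀ (β : X →* X), ∀ u ∈ N, β u ∈ N := by
    intro β u hu
    obtain ⟨k, rfl⟩ := Subgroup.mem_zpowers_iff.mp hu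
    have hβc : β c ∈ Subgroup.zpowers c := by
      rw [hc]
      have : D.map β ≤ D := by
        rw [hD, commutator_def, Subgroup.map_commutator]
        exact Subgroup.commutator_mono le_top le_top
      exact this ⟨c, hcD, rfl⟩
    obtain ⟨i, hi⟩ := Subgroup.mem_zpowers_iff.mp hβc
    rw [map_zpow, map_pow, ← hi, ← zpow_natCast, ← zpow_mul, ← zpow_mul, mul_comm i, mul_assoc,
      zpow_mul, zpow_natCast]
    exact zpow_mem (Subgroup.mem_zpowers _) _
  have hNn : N.Normal := ⟨fun u hu v => hDinv (MulAut.conj v).toMonoidHom u hu⟩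
  have hc1 : c ≠ 1 := fun h => hab' fun u v => by
    have := hcomD u v
    rw [← hc, h, Subgroup.zpowers_one_eq_bot, Subgroup.mem_bot, mul_inv_eq_one,
      mul_inv_eq_iff_eq_mul] at this
    exact this
  have hcN : c ∉ N := by
    intro h
    obtain ⟨k, hk⟩ := Subgroup.mem_zpowers_iff.mp h
    have h1 : c ^ (2 * k - 1 : ℤ) = 1 := by
      rw [zpow_sub, zpow_one, zpow_mul, zpow_two, ← sq, hk, mul_inv_cancel]
    rw [← orderOf_dvd_iff_zpow_eq_one] at h1
    obtain ⟨i, hi⟩ := IsPGroup.iff_orderOf.mp hX c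
    rcases Nat.eq_zero_or_pos i with rfl | hi0
    · exact hc1 (orderOf_eq_one_iff.mp (by rw [hi, pow_zero]))
    · have h2 : ((2 : ℕ) : ℤ) ∣ 2 * k - 1 := (Int.natCast_dvd_natCast.mpr (hi ▸ dvd_pow_self 2 hi0.ne')).trans h1
      omega
  set π := QuotientGroup.mk' N with hπ
  have hπs : Function.Surjective π := QuotientGroup.mk'_surjective N
  have hπD : ∀ u ∈ D, π u = 1 ∨ π u = π c := fun u hu => by
    rw [← hc] at hu
    obtain ⟨k, rfl⟩ := Subgroup.mem_zpowers_iff.mp hu
    have h2 : π c ^ (2 : ℤ) = 1 := by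
      rw [zpow_two, ← map_mul, ← sq]; exact (QuotientGroup.eq_one_iff _).mpr (Subgroup.mem_zpowers _)
    rw [map_zpow]
    rcases Int.even_or_odd k with ⟨i, hi⟩ | ⟨i, hi⟩
    · left; rw [hi, ← two_mul, zpow_mul, h2, one_zpow]
    · right; rw [hi, zpow_add, zpow_mul, h2, one_zpow, one_mul, zpow_one]
  have hzc : ∀ w, Commute (π c) w := by
    intro w
    obtain ⟨u, rfl⟩ := hπs w
    have hmem : u * c * u⁻¹ ∈ D := (inferInstance : (commutator X).Normal).conj_mem c hcD u
    rcases hπD _ hmem with h | h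
    · exfalso; apply hcN
      rw [← QuotientGroup.eq_one_iff]
      rw [map_mul, map_mul, map_inv, mul_inv_eq_one, mul_eq_left] at h
      exact h
    · rw [map_mul, map_mul, map_inv, mul_inv_eq_iff_eq_mul] at h
      exact h.symm
  let αb : X ⧸ N ≃* X ⧸ N := QuotientGroup.congr N N α (le_antisymm
    (by rintro _ ⟨u, hu, rfl⟩; exact hDinv α.toMonoidHom u hu)
    (fun u hu => ⟨α.symm u, hDinv α.symm.toMonoidHom u hu, α.apply_symm_apply u⟩))
  have hαb : ∀ u, αb (π u) = π (α u) := fun u => rfl
  have hαz : αb (π c) = π c := by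
    rw [hαb]
    have : α c ∈ D := by
      have hle : D.map α.toMonoidHom ≤ D := by
        rw [hD, commutator_def, Subgroup.map_commutator]
        exact Subgroup.commutator_mono le_top le_top
      exact hle ⟨c, hcD, rfl⟩
    rcases hπD _ this with h | h
    · exfalso; apply hcN
      have h1 : αb (π c) = αb 1 := by rw [hαb, h, map_one]
      exact (QuotientGroup.eq_one_iff c).mp (αb.injective h1)
    · exact h
  have hsqimg : ∀ u ∈ Sq X, π u ∈ Sq (X ⧸ N) := fun u hu => by
    refine ((Subgroup.closure_le ((Sq (X ⧸ N)).comap π)).mpr ?_) hu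
    rintro _ ⟨v, rfl⟩
    show π (v ^ 2) ∈ Sq (X ⧸ N)
    rw [map_pow]; exact sq_mem _
  have h2 := class_two (hX.to_quotient N) (π c)
    (by rw [← map_pow]; exact (QuotientGroup.eq_one_iff _).mpr (Subgroup.mem_zpowers _)) hzc
    (fun u v => by
      obtain ⟨u', rfl⟩ := hπs u
      obtain ⟨v', rfl⟩ := hπs v
      rw [← map_inv, ← map_inv, ← map_mul, ← map_mul, ← map_mul]
      exact hπD _ (hcomD u' v'))
    (fun E hE => by
      have : (C.map π).Normal := hCn.map π hπs
      refine card_le_four (C.map π) (isCyclic_of_surjective (π.subgroupMap C) (π.subgroupMap_surjective C))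
        (π d) ?_ E hE
      rw [← MonoidHom.map_zpowers, ← Subgroup.map_sup, hgen0, Subgroup.map_top_of_surjective _ hπs])
    (fun h => hcN ((QuotientGroup.eq_one_iff c).mp h)) αb hαz (π g)
    (by
      have h := congrArg (Subgroup.map π) hgen
      rwa [MonoidHom.map_closure, Set.image_pair, Subgroup.map_top_of_surjective _ hπs] at h)
    (by rw [hαb, hαb, ← map_mul, ← map_inv, ← map_mul]; exact hsqimg _ htri)
  have hg2D : g ^ 2 ∈ D := by
    have key : ∀ e ∈ D, π (g ^ 2) = π e → g ^ 2 ∈ D := fun e he h => by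
      have h3 : e⁻¹ * g ^ 2 ∈ N := QuotientGroup.eq.mp h.symm
      have h4 : e⁻¹ * g ^ 2 ∈ D := (Subgroup.zpowers_le.mpr (pow_mem hcD 2) : N ≤ D) h3
      simpa using mul_mem he h4
    rw [← map_pow] at h2
    rcases h2 with h | h
    · exact key 1 (one_mem _) (by rw [h, map_one])
    · exact key c hcD h
  have hDg : D = Subgroup.zpowers (g ^ 2) := by
    refine le_antisymm ?_ (Subgroup.zpowers_le.mpr hg2D)
    intro u hu
    have huC := hDC hu
    rw [← hg] at huC
    obtain ⟨k, rfl⟩ := Subgroup.mem_zpowers_iff.mp huC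
    rcases Int.even_or_odd k with ⟨i, hi⟩ | ⟨i, hi⟩
    · rw [hi, ← two_mul, zpow_mul]; exact zpow_mem (by simp) i
    · exfalso; apply hgS
      rw [hi, zpow_add, zpow_mul, zpow_one] at hu
      have h3 : g = ((g ^ (2 : ℤ)) ^ i)⁻¹ * ((g ^ (2 : ℤ)) ^ i * g) := by group
      rw [h3]
      exact mul_mem (inv_mem (zpow_mem (by simpa using sq_mem g) i)) (hDSq hu)
  have hαD : ∀ (β : X ≃* X), ∀ u ∈ D, β u ∈ D := fun β u hu => by
    have hle : D.map β.toMonoidHom ≤ D := by
      rw [hD, commutator_def, Subgroup.map_commutator]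
      exact Subgroup.commutator_mono le_top le_top
    exact hle ⟨u, hu, rfl⟩
  have hzg : ∀ u ∈ D, ∀ v, Commute u v := by
    intro u hu
    have h1 : Commute u g := by
      rw [hDg] at hu
      obtain ⟨k, rfl⟩ := Subgroup.mem_zpowers_iff.mp hu
      exact ((Commute.refl g).pow_left 2).zpow_left k
    have h3 : Commute u (α g) := by
      have hu' := hαD α.symm u hu
      rw [hDg] at hu'
      obtain ⟨k, hk⟩ := Subgroup.mem_zpowers_iff.mp hu'
      have h' : Commute (α.symm u) g := hk ▸ ((Commute.refl g).pow_left 2).zpow_left k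
      simpa using h'.map α.toMonoidHom
    have hle : Subgroup.closure {g, α g} ≤ Subgroup.centralizer {u} := by
      rw [Subgroup.closure_le]
      rintro _ (rfl | rfl)
      · exact Subgroup.mem_centralizer_singleton_iff.mpr h1.eq.symm
      · exact Subgroup.mem_centralizer_singleton_iff.mpr h3.eq.symm
    rw [hgen] at hle
    exact fun v => (Subgroup.mem_centralizer_singleton_iff.mp (hle (Subgroup.mem_top v))).symm
  set c0 := g * α g * g⁻¹ * (α g)⁻¹ with hc0
  have hc0D : c0 ∈ D := hcomD _ _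
  have hc02 : c0 ^ 2 = 1 := by
    have h1 : c0 ^ 2 = g ^ 2 * α g * (g ^ 2)⁻¹ * (α g)⁻¹ := by
      have h3 : g * c0 * g⁻¹ = c0 := by rw [← (hzg _ hc0D g).eq, mul_inv_cancel_right]
      calc c0 ^ 2 = (g * c0 * g⁻¹) * c0 := by rw [h3, sq]
        _ = _ := by rw [hc0]; simp only [sq]; group
    rw [h1, (hzg _ (hDg ▸ Subgroup.mem_zpowers _) (α g)).eq, mul_inv_cancel_right, mul_inv_cancel]
  have hD2 : D ≤ Subgroup.zpowers c0 := by
    have hn0 : (Subgroup.zpowers c0).Normal := ⟨fun u hu v => by
      rw [← (hzg _ (Subgroup.zpowers_le.mpr hc0D hu) v).eq, mul_inv_cancel_right]; exact hu⟩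
    rw [hD, commutator_def, Subgroup.commutator_le]
    intro u _ v _
    rw [← QuotientGroup.eq_one_iff]
    show QuotientGroup.mk' _ ⁅u, v⁆ = 1
    rw [map_commutatorElement, commutatorElement_eq_one_iff_mul_comm]
    set ρ := QuotientGroup.mk' (Subgroup.zpowers c0)
    have hgg : ρ g * ρ (α g) = ρ (α g) * ρ g := by
      rw [← commutatorElement_eq_one_iff_mul_comm, ← map_commutatorElement]
      exact (QuotientGroup.eq_one_iff _).mpr (by rw [commutatorElement_def]; exact Subgroup.mem_zpowers _)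
    have hcm : IsMulCommutative (Subgroup.closure {ρ g, ρ (α g)}) := Subgroup.isMulCommutative_closure (by
      rintro a (rfl | rfl) b (rfl | rfl)
      · rfl
      · exact hgg
      · exact hgg.symm
      · rfl)
    have htop : Subgroup.closure {ρ g, ρ (α g)} = ⊤ := by
      have h := congrArg (Subgroup.map ρ) hgen
      rwa [MonoidHom.map_closure, Set.image_pair,
        Subgroup.map_top_of_surjective _ (QuotientGroup.mk'_surjective _)] at h
    exact congrArg Subtype.val (hcm.is_comm.comm ⟨ρ u, htop ▸ Subgroup.mem_top _⟩ ⟨ρ v, htop ▸ Subgroup.mem_top _⟩)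
  have hDt : ∀ u ∈ D, u = 1 ∨ u = c0 := fun u hu => by
    obtain ⟨k, rfl⟩ := Subgroup.mem_zpowers_iff.mp (hD2 hu)
    have h2 : c0 ^ (2 : ℤ) = 1 := by exact_mod_cast hc02
    rcases Int.even_or_odd k with ⟨i, hi⟩ | ⟨i, hi⟩
    · left; rw [hi, ← two_mul, zpow_mul, h2, one_zpow]
    · right; rw [hi, zpow_add, zpow_mul, h2, one_zpow, one_mul, zpow_one]
  have hg21 : g ^ 2 ≠ 1 := fun h => hc1 (by
    rw [hDg, h, Subgroup.zpowers_one_eq_bot, Subgroup.mem_bot] at hcD; exact hcD)
  have hg2 : g ^ 2 = c0 := (hDt _ hg2D).resolve_left hg21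
  have hc0ne : c0 ≠ 1 := hg2 ▸ hg21
  have hαc : α c0 = c0 := (hDt _ (hαD α _ hc0D)).resolve_left
    (fun h => hc0ne (α.map_eq_one_iff.mp h))
  -- the squares lie in `D`
  have hSqD : Sq X ≤ D := by
    refine (Subgroup.closure_le _).mpr ?_
    rintro _ ⟨u, rfl⟩
    let φ : X →* X ⧸ D := MonoidHom.mk' (fun u => (QuotientGroup.mk' D u) ^ 2) (fun u v => by
      have hc : Commute (QuotientGroup.mk' D u) (QuotientGroup.mk' D v) := by
        rw [commute_iff_eq, ← commutatorElement_eq_one_iff_mul_comm, ← map_commutatorElement]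
        exact (QuotientGroup.eq_one_iff _).mpr (hcomD u v)
      rw [map_mul, hc.mul_pow])
    have hle : Subgroup.closure {g, α g} ≤ φ.ker := by
      rw [Subgroup.closure_le]
      rintro _ (rfl | rfl)
      · exact (QuotientGroup.eq_one_iff _).mpr hg2D
      · refine (QuotientGroup.eq_one_iff _).mpr ?_
        show α g ^ 2 ∈ D
        rw [← map_pow]; exact hαD α _ hg2D
    rw [hgen] at hle
    exact (QuotientGroup.eq_one_iff _).mp (hle (Subgroup.mem_top u))
  have hinv2 : ∀ u : X, u ^ 2 = 1 → u = 1 ∨ u = c0 := by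
    intro u hu
    have key : ∀ v, v ^ 2 = c0 → v⁻¹ * u ∈ Sq X → False := fun v hv h => by
      have hkD := hSqD h
      have h1 : (v⁻¹ * u) ^ 2 = 1 := by
        rcases hDt _ hkD with h' | h' <;> rw [h']
        · exact one_pow 2
        · exact hc02
      have h3 : u ^ 2 = v ^ 2 * (v⁻¹ * u) ^ 2 := by
        conv_lhs => rw [show u = v * (v⁻¹ * u) by group]
        rw [(hzg _ hkD v).symm.mul_pow]
      rw [hu, h1, mul_one, hv] at h3
      exact hc0ne h3.symm
    rcases hcos u with h | h | h | h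
    · exact hDt u (hSqD h)
    · exact (key g hg2 h).elim
    · exact (key (α g) (by rw [← map_pow, hg2, hαc]) h).elim
    · exact (key (α (α g)) (by rw [← map_pow, ← map_pow, hg2, hαc, hαc]) h).elim
  have huniq : ∀ H K : Subgroup X, Nat.card H = 2 → Nat.card K = 2 → H = K := by
    have key : ∀ H : Subgroup X, Nat.card H = 2 → H = Subgroup.zpowers c0 := fun H hH => by
      obtain ⟨u, hu, hu1⟩ := H.bot_or_exists_ne_one.resolve_left (fun h => by
        rw [h, Subgroup.card_bot] at hH; exact absurd hH (by norm_num))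
      have hu2 : u ^ 2 = 1 := orderOf_dvd_iff_pow_eq_one.mp (hH ▸ Subgroup.orderOf_dvd_natCard H hu)
      have huc := (hinv2 u hu2).resolve_left hu1
      refine (Subgroup.eq_of_le_of_card_ge (Subgroup.zpowers_le.mpr (huc ▸ hu)) ?_).symm
      rw [hH, Nat.card_zpowers, orderOf_eq_prime hc02 hc0ne]
    exact fun H K hH hK => (key H hH).trans (key K hK).symm
  rcases Cfsg.Agent.PGroups.UniqueSubgroup.isCyclic_or_quaternion hX huniq with h | ⟨-, n, ⟨e⟩⟩
  · exact absurd (fun u v => (IsCyclic.isMulCommutative (α := X)).is_comm.comm u v) hab'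
  -- the order is 8
  have hcardX : Nat.card X = 8 := by
    have hcs : Nat.card (Sq X) = 2 := by
      have : Sq X = Subgroup.zpowers c0 :=
        le_antisymm (hSqD.trans hD2) (Subgroup.zpowers_le.mpr (hg2 ▸ sq_mem g))
      rw [this, Nat.card_zpowers, orderOf_eq_prime hc02 hc0ne]
    have hsurj : Function.Surjective fun i : Fin 4 => (![1, g, α g, α (α g)] i : X ⧸ Sq X) := fun v => by
      induction v using QuotientGroup.induction_on with
      | H u =>
        rcases hcos u with h | h | h | h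
        · exact ⟨0, ((QuotientGroup.eq_one_iff u).mpr h).symm⟩
        · exact ⟨1, QuotientGroup.eq.mpr h⟩
        · exact ⟨2, QuotientGroup.eq.mpr h⟩
        · exact ⟨3, QuotientGroup.eq.mpr h⟩
    have h4 : Nat.card (X ⧸ Sq X) ≤ 4 := by
      simpa using Nat.card_le_card_of_surjective _ hsurj
    have hle : Nat.card X ≤ 8 := by
      rw [Subgroup.card_eq_card_quotient_mul_card_subgroup (Sq X), hcs]
      omega
    have hge : 8 ≤ Nat.card X := by
      have h1 : Nat.card (QuaternionGroup (2 ^ n)) = 4 * 2 ^ n := by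
        rw [Nat.card_eq_fintype_card, QuaternionGroup.card]
      rw [Nat.card_congr e.toEquiv, h1]
      rcases Nat.eq_zero_or_pos n with rfl | hn
      · exfalso
        apply hab'
        intro u v
        apply e.injective
        rw [map_mul, map_mul]
        revert u v
        have : ∀ a b : QuaternionGroup (2 ^ 0), a * b = b * a := by
          have : IsCyclic (QuaternionGroup (2 ^ 0)) := by
            show IsCyclic (QuaternionGroup 1)
            exact QuaternionGroup.quaternionGroup_one_isCyclic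
          exact fun a b => (IsCyclic.isMulCommutative (α := QuaternionGroup (2 ^ 0))).is_comm.comm a b
        exact fun u v => this (e u) (e v)
      · have := Nat.pow_le_pow_right two_pos hn
        omega
    omega
  rw [Nat.card_congr e.toEquiv, Nat.card_eq_fintype_card, QuaternionGroup.card] at hcardX
  obtain rfl : n = 1 := by
    apply Nat.pow_right_injective (le_refl 2)
    show 2 ^ n = 2 ^ 1
    omega
  exact ⟨e.trans (MulEquiv.refl _)⟩

end Cfsg.Agent.S1896
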