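import Cfsg.Statements.S1897
import Cfsg.Agent.Techniques.SL27Unitary
import Cfsg.Agent.Recognition.Cubic

set_option autoImplicit false
open Cfsg

namespace Cfsg.Agent.S1897

/-- The projective special unitary group PSU₃(3) (realised over the field with 9 elements) has a subgroup isomorphic to PSL₂(7). -/
theorem result {F : Type*} [Field F] [Fintype F] (hF : Fintype.card F = 9)
    {K : Type*} [Field K] [Fintype K] (hK : Fintype.card K = 7) :
    ∃ H : Subgroup (Cfsg.PSU 3 F 3), Nonempty (H ≃* Matrix.ProjectiveSpecialLinearGroup (Fin 2) K) := by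
  open Matrix Cfsg.Agent.Techniques.SL27Unitary in
  classical
  haveI := Fact.mk Nat.prime_three
  haveI : Fact (Nat.Prime 7) := ⟨by norm_num⟩
  haveI : CharP F 3 := charP_of_card_eq_prime_pow (f := 2) (by rw [Fintype.card_eq_nat_card] at hF; simpa using hF)
  letI := ZMod.algebra F 3
  obtain ⟨c, hc⟩ : IsSquare (-1 : F) := FiniteField.isSquare_neg_one_iff.2 (by rw [hF]; norm_num)
  have hc' : c * c = ((2 : ℕ) : ZMod 3) • (1 : F) + (0 : ZMod 3) • c := by
    rw [← hc, zero_smul, add_zero, Nat.cast_smul_eq_nsmul, nsmul_eq_mul, mul_one]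
    have h3 : ((3 : ℕ) : F) = 0 := CharP.cast_eq_zero F 3
    push_cast at h3 ⊢
    linear_combination -h3
  let φ : Cfsg.Agent.Techniques.SL27Unitary.K →+* F := (QuadraticAlgebra.lift ⟨c, hc'⟩).toRingHom
  have hinj : Function.Injective φ := by
    rw [injective_iff_map_eq_zero]
    intro z hz
    rcases inverses z with h | ⟨y, hy⟩
    · exact h
    · have h1 := congrArg φ hy
      rw [map_mul, hz, zero_mul, map_one] at h1
      exact absurd h1 zero_ne_one
  have hinjSL : Function.Injective (Matrix.SpecialLinearGroup.map (n := Fin 3) φ) := fun x y h => by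
    apply Subtype.ext
    refine Matrix.ext fun i j => ?_
    exact hinj (congrArg (fun z : Matrix.SpecialLinearGroup (Fin 3) F => z.1 i j) h)
  have hmem : ∀ g : Matrix.SpecialLinearGroup (Fin 3) F,
      (∀ i j : Fin 3, ∑ k, g.1 k i * (g.1 k j) ^ 3 = if i = j then 1 else 0) → g ∈ Cfsg.SU 3 F 3 := by
    intro g hg u v
    show ∑ k, (g.1 *ᵥ u) k * ((g.1 *ᵥ v) k) ^ 3 = ∑ k, u k * (v k) ^ 3
    simp only [Fin.forall_fin_succ, Fin.forall_fin_zero, Fin.sum_univ_three] at hg
    simp only [Matrix.mulVec, dotProduct, Fin.sum_univ_three, add_pow_char, mul_pow]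
    simp at hg
    obtain ⟨⟨e00, e01, e02⟩, ⟨e10, e11, e12⟩, e20, e21, e22⟩ := hg
    linear_combination (u 0 * v 0 ^ 3) * e00 + (u 0 * v 1 ^ 3) * e01 + (u 0 * v 2 ^ 3) * e02 +
      (u 1 * v 0 ^ 3) * e10 + (u 1 * v 1 ^ 3) * e11 + (u 1 * v 2 ^ 3) * e12 +
      (u 2 * v 0 ^ 3) * e20 + (u 2 * v 1 ^ 3) * e21 + (u 2 * v 2 ^ 3) * e22
  have hmem' : ∀ w : SpecialLinearGroup (Fin 3) Cfsg.Agent.Techniques.SL27Unitary.K,
      (∀ i j : Fin 3, ∑ k, w.1 k i * (w.1 k j) ^ 3 = if i = j then 1 else 0) →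
      Matrix.SpecialLinearGroup.map φ w ∈ Cfsg.SU 3 F 3 := fun w hw => hmem _ fun i j => by
    have h := congrArg φ (hw i j)
    simp only [map_sum, map_mul, map_pow, apply_ite φ, map_one, map_zero] at h
    exact h
  have hZ : Subgroup.center (Cfsg.SU 3 F 3) = ⊥ := by
    refine Cfsg.Agent.Recognition.Cubic.center_eq_bot _ ?_ ?_ ?_ <;> refine hmem _ fun i j => ?_ <;>
      fin_cases i <;> fin_cases j <;> simp [Cfsg.Agent.Recognition.Cubic.diag₁, Cfsg.Agent.Recognition.Cubic.diag₂,
        Cfsg.Agent.Recognition.Cubic.cyc, Fin.sum_univ_succ, Odd.neg_one_pow (show Odd 3 by decide)]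
  let ρ : ZMod 7 ≃+* K :=
    haveI : CharP K 7 := charP_of_card_eq_prime_pow (f := 1) (by rw [hK, pow_one])
    RingEquiv.ofBijective (ZMod.castHom dvd_rfl K)
      ((Nat.bijective_iff_injective_and_card _).2 ⟨(ZMod.castHom dvd_rfl K).injective, by
        rw [Nat.card_zmod, Nat.card_eq_fintype_card, hK]⟩)
  let E : SpecialLinearGroup (Fin 2) K ≃* SpecialLinearGroup (Fin 2) (ZMod 7) :=
    { toFun := SpecialLinearGroup.map ρ.symm.toRingHom
      invFun := SpecialLinearGroup.map ρ.toRingHom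
      left_inv := fun M => Subtype.ext (Matrix.ext fun i j => ρ.apply_symm_apply _)
      right_inv := fun M => Subtype.ext (Matrix.ext fun i j => ρ.symm_apply_apply _)
      map_mul' := map_mul _ }
  let ψ₀ : SpecialLinearGroup (Fin 2) K →* Cfsg.SU 3 F 3 :=
    (((SpecialLinearGroup.map φ).comp theta).comp E.toMonoidHom).codRestrict _ fun M =>
      theta_unitary_le φ _ (hmem' _ SA_unitary) (hmem' _ TA_unitary) _
  let ψ : SpecialLinearGroup (Fin 2) K →* Cfsg.PSU 3 F 3 := (QuotientGroup.mk' _).comp ψ₀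
  have hker : ψ.ker = Subgroup.center (SpecialLinearGroup (Fin 2) K) := by
    ext M
    have h1 : ψ M = 1 ↔ theta (E M) = 1 := by
      show ((ψ₀ M : Cfsg.SU 3 F 3) : Cfsg.PSU 3 F 3) = 1 ↔ _
      rw [QuotientGroup.eq_one_iff, hZ, Subgroup.mem_bot]
      constructor
      · intro h
        refine hinjSL ?_
        rw [map_one]
        exact congrArg Subtype.val h
      · intro h
        apply Subtype.ext
        show SpecialLinearGroup.map φ (theta (E M)) = 1
        rw [h, map_one]
    rw [MonoidHom.mem_ker, h1, theta_eq_one_iff, Subgroup.mem_center_iff, Subgroup.mem_center_iff]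
    constructor
    · intro h N
      apply E.injective
      rw [map_mul, map_mul, h (E N)]
    · intro h N
      obtain ⟨N, rfl⟩ := E.surjective N
      rw [← map_mul, ← map_mul, h N]
  exact ⟨ψ.range, ⟨((QuotientGroup.quotientMulEquivOfEq hker.symm).trans
    (QuotientGroup.quotientKerEquivRange ψ)).symm⟩⟩

end Cfsg.Agent.S1897
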