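import Cfsg.Statements.S1898

set_option autoImplicit false
open Cfsg

namespace Cfsg.Agent.S1898

/-- Let X be a finite 2-group whose derived subgroup is elementary abelian and central. Then the subgroup generated by the elements of order dividing 4 has exponent dividing 4, and every automorphism of X fixing each element of order dividing 4 has 2-power order. -/
theorem result {X : Type*} [Group X] [Finite X] (hX : IsPGroup 2 X)
    (hel : Cfsg.IsElementaryAbelian 2 (commutator X)) (hcen : commutator X ≤ Subgroup.center X) :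
    (∀ x ∈ Subgroup.closure {g : X | g ^ 4 = 1}, x ^ 4 = 1) ∧
      ∀ φ : MulAut X, (∀ g : X, g ^ 4 = 1 → φ g = g) → ∃ k : ℕ, φ ^ (2 ^ k) = 1 := by
  classical
  have hpw : ∀ a b : X, (a * b) ^ 4 = a ^ 4 * b ^ 4 := by
    intro a b
    set c := b * a * b⁻¹ * a⁻¹ with hc
    have hcm : c ∈ commutator X :=
      Subgroup.commutator_mem_commutator (Subgroup.mem_top b) (Subgroup.mem_top a)
    have hz : ∀ x, x * c = c * x := Subgroup.mem_center_iff.mp (hcen hcm)
    have c2 : c ^ 2 = 1 := hel.2 c hcm
    have hba : b * a = c * (a * b) := by rw [hc]; group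
    have hsq : (a * b) ^ 2 = c * (a ^ 2 * b ^ 2) := by
      calc (a * b) ^ 2 = a * (b * a) * b := by rw [pow_two]; group
        _ = a * c * (a * b) * b := by rw [hba]; group
        _ = c * a * (a * b) * b := by rw [hz a]
        _ = c * (a ^ 2 * b ^ 2) := by simp only [pow_two, mul_assoc]
    have hcom : ∀ x y : X, Commute (x ^ 2) y := by
      intro x y
      have hd : y * x * y⁻¹ * x⁻¹ ∈ commutator X :=
        Subgroup.commutator_mem_commutator (Subgroup.mem_top y) (Subgroup.mem_top x)
      set e := y * x * y⁻¹ * x⁻¹ with he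
      have h1 : y * x * y⁻¹ = e * x := by rw [he]; group
      have ez : ∀ w, w * e = e * w := Subgroup.mem_center_iff.mp (hcen hd)
      have h3 : y * x ^ 2 * y⁻¹ = x ^ 2 := by
        rw [← conj_pow, h1, (show Commute e x from (ez x).symm).mul_pow, hel.2 e hd, one_mul]
      show x ^ 2 * y = y * x ^ 2
      calc x ^ 2 * y = (y * x ^ 2 * y⁻¹) * y := by rw [h3]
        _ = _ := by group
    calc (a * b) ^ 4 = ((a * b) ^ 2) ^ 2 := by rw [← pow_mul]
      _ = c ^ 2 * ((a ^ 2) ^ 2 * (b ^ 2) ^ 2) := by
        rw [hsq, (show Commute c (a ^ 2 * b ^ 2) from (hz _).symm).mul_pow, (hcom a (b ^ 2)).mul_pow]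
      _ = _ := by rw [c2, one_mul, ← pow_mul, ← pow_mul]
  let φ4 : X →* X := MonoidHom.mk' (fun x => x ^ 4) hpw
  constructor
  · intro x hx
    have : Subgroup.closure {g : X | g ^ 4 = 1} ≤ φ4.ker :=
      (Subgroup.closure_le _).mpr fun g hg => hg
    exact this hx
  · intro φ hφ
    have hord : 0 < orderOf φ := orderOf_pos φ
    obtain ⟨k, m, hm, hkm⟩ := Nat.exists_eq_two_pow_mul_odd hord.ne'
    refine ⟨k, ?_⟩
    set ψ := φ ^ (2 ^ k) with hψ
    have hψm : ψ ^ m = 1 := by rw [hψ, ← pow_mul, ← hkm, pow_orderOf_eq_one]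
    have hψfix : ∀ g : X, g ^ 4 = 1 → ψ g = g := by
      intro g hg
      rw [hψ]
      generalize 2 ^ k = j
      induction j with
      | zero => simp
      | succ j ih => rw [pow_succ, MulAut.mul_apply, hφ g hg, ih]
    have main : ∀ j, ∀ g : X, g ^ (2 ^ j) = 1 → ψ g = g := by
      intro j
      induction j with
      | zero => intro g hg; simp at hg; simp [hg]
      | succ j ih =>
        intro g hg
        by_cases hj : j = 0
        · subst hj
          apply hψfix
          rw [show (4:ℕ) = 2 ^ (0 + 1) * 2 from rfl, pow_mul, hg, one_pow]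
        have h4 : (g ^ 4) ^ (2 ^ j) = 1 := by
          rw [← pow_mul, show 4 * 2 ^ j = 2 ^ (j + 1) * 2 by ring, pow_mul, hg, one_pow]
        have e4 : (ψ g) ^ 4 = g ^ 4 := by rw [← map_pow, ih _ h4]
        set d := g⁻¹ * ψ g with hd
        have hψg : ψ g = g * d := by rw [hd, mul_inv_cancel_left]
        have d4 : d ^ 4 = 1 := by
          rw [hψg, hpw] at e4
          exact mul_eq_left.mp e4
        have it : ∀ i : ℕ, (ψ ^ i) g = g * d ^ i := by
          intro i
          induction i with
          | zero => simp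
          | succ i ih2 =>
            rw [pow_succ', MulAut.mul_apply, ih2, map_mul, map_pow, hψfix d d4, hψg, pow_succ', mul_assoc]
        have := it m
        rw [hψm] at this
        have dm : d ^ m = 1 := mul_eq_left.mp this.symm
        have d1 : d = 1 := by
          have hcop : Nat.Coprime 4 m := by
            rw [show (4:ℕ) = 2 ^ 2 from rfl]
            exact Nat.Coprime.pow_left 2 (Nat.coprime_two_left.mpr hm)
          have := Nat.dvd_gcd (orderOf_dvd_of_pow_eq_one d4) (orderOf_dvd_of_pow_eq_one dm)
          rw [hcop.gcd_eq_one, Nat.dvd_one] at this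
          exact orderOf_eq_one_iff.mp this
        rw [hψg, d1, mul_one]
    ext g
    obtain ⟨j, hj⟩ := hX g
    simpa using main j g hj

end Cfsg.Agent.S1898
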