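import Cfsg.Statements.S1899

set_option autoImplicit false
open Cfsg

namespace Cfsg.Agent.S1899

/-- Let a dihedral group of order 2n, n odd and n > 1, act on a finite abelian 2-group A through automorphisms d and t with d^n = 1, t² = 1 and t d t⁻¹ = d⁻¹, and suppose that d fixes only the identity. Then A is the internal direct product of C_A(t) and its image under d. -/
theorem result {A : Type*} [CommGroup A] [Finite A] (hA : IsPGroup 2 A)
    {n : ℕ} (hn : Odd n) (hn1 : 1 < n) (d t : MulAut A) (hd : d ^ n = 1) (ht : t ^ 2 = 1) (hdt : t * d * t⁻¹ = d⁻¹)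
    (hfix : ∀ a : A, d a = a → a = 1) :
    (MulEquiv.toMonoidHom t).eqLocus (MonoidHom.id A) ⊓ ((MulEquiv.toMonoidHom t).eqLocus (MonoidHom.id A)).map d.toMonoidHom = ⊥ ∧
      (MulEquiv.toMonoidHom t).eqLocus (MonoidHom.id A) ⊔ ((MulEquiv.toMonoidHom t).eqLocus (MonoidHom.id A)).map d.toMonoidHom = ⊤ := by
  classical
  set t' := MulEquiv.toMonoidHom t
  set C := t'.eqLocus (MonoidHom.id A)
  have memC : ∀ a : A, a ∈ C ↔ t a = a := fun a => Iff.rfl
  have tt : ∀ a, t (t a) = a := by
    intro a
    have h := DFunLike.congr_fun ht a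
    simpa [pow_two] using h
  have td : ∀ a, t (d a) = d⁻¹ (t a) := by
    intro a
    have h := DFunLike.congr_fun hdt (t a)
    simp only [MulAut.mul_apply] at h
    rwa [MulAut.inv_apply_self] at h
  have td' : ∀ a, t (d⁻¹ a) = d (t a) := by
    intro a
    calc t (d⁻¹ a) = d (d⁻¹ (t (d⁻¹ a))) := by rw [MulAut.apply_inv_self]
      _ = d (t (d (d⁻¹ a))) := by rw [td]
      _ = d (t a) := by rw [MulAut.apply_inv_self]
  have fix2 : ∀ a : A, d (d a) = a → a = 1 := by
    intro a ha
    obtain ⟨m, rfl⟩ := hn
    apply hfix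
    have h2 : ∀ j : ℕ, (d ^ (2 * j)) a = a := by
      intro j
      induction j with
      | zero => simp
      | succ j ih => rw [Nat.mul_succ, pow_add, MulAut.mul_apply, pow_two, MulAut.mul_apply, ha, ih]
    have h := DFunLike.congr_fun hd a
    rw [pow_succ', MulAut.mul_apply, h2 m] at h
    simpa using h
  constructor
  · rw [eq_bot_iff]
    intro a ha
    obtain ⟨ha, c, hc, rfl⟩ := Subgroup.mem_inf.mp ha
    rw [memC] at ha
    have hc' : t c = c := (memC c).mp hc
    change t (d c) = d c at ha
    rw [td, hc'] at ha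
    have h : d (d c) = c := by rw [← ha, MulAut.apply_inv_self]
    have := fix2 c h
    simp [this]
  · rw [eq_top_iff]
    intro a _
    let φ : A →* A := d.toMonoidHom / (d⁻¹ : MulAut A).toMonoidHom
    have hφ : ∀ v, φ v = d v / d⁻¹ v := fun v => rfl
    have hinj : Function.Injective φ := by
      rw [injective_iff_map_eq_one]
      intro v hv
      rw [hφ, div_eq_one] at hv
      exact fix2 v (by rw [hv, MulAut.apply_inv_self])
    obtain ⟨v, hv⟩ := Finite.surjective_of_injective hinj (a / t a)
    rw [hφ] at hv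
    have htv : t v = v := by
      apply hinj
      rw [hφ, hφ]
      have h := congrArg t hv
      rw [map_div, map_div, td, td', tt] at h
      rw [hv, ← inv_div (t a) a, ← h, inv_div]
    have hmem : a / d v ∈ C := by
      rw [memC, map_div, td, htv, div_eq_div_iff_mul_eq_mul]
      rw [div_eq_div_iff_mul_eq_mul] at hv
      rw [mul_comm (t a) (d v), hv]
    have : a = (a / d v) * d v := (div_mul_cancel a (d v)).symm
    rw [this]
    exact Subgroup.mul_mem_sup hmem (Subgroup.mem_map_of_mem _ ((memC v).mpr htv))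

end Cfsg.Agent.S1899
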