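import Cfsg.Statements.S1900
import Cfsg.Agent.Lib.Coprime.Generation
import Cfsg.Agent.Lib.Coprime.OmegaDetect
import Mathlib

set_option autoImplicit false
open Cfsg

namespace Cfsg.Agent.S1900

/-- One half of the commutation argument: modulo `N`, the commutators lie in the second part. -/
theorem half {S : Type*} [Group S] [Finite S] {q : ℕ} {P Q R N C D : Subgroup S} {x : S}
    (hQcom : ∀ u ∈ Q, ∀ v ∈ Q, u * v = v * u) (hRn : R.Normal) (hNn : N.Normal) (hRP : R ≤ P)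
    (hNR : N ≤ R) (hcent : ∀ r ∈ R, ∀ t ∈ P, r * t * r⁻¹ * t⁻¹ ∈ N)
    (hgen : R ≤ (R ⊓ C) ⊔ (R ⊓ D)) (hxQ : x ∈ Q) (hCD : C ⊓ D = ⊥)
    (hxC : ∀ r ∈ C, x * r = r * x) (hfixC : ∀ r ∈ P, r * x = x * r → r ∈ C)
    (hCP : C ≤ P) (hDP : D ≤ P) (hxD : ∀ r ∈ D, x * r * x⁻¹ ∈ D)
    (hab : ∀ a ∈ C, ∀ b ∈ D, a * b * a⁻¹ * b⁻¹ ∈ R) :
    (∀ a ∈ C, ∀ b ∈ D, a * b * a⁻¹ * b⁻¹ ∈ (R ⊓ D) ⊔ N) ∧
      ∀ z ∈ (R ⊓ C) ⊔ N, z ∈ (R ⊓ D) ⊔ N → z ∈ N := by
  have hinj : ∀ b ∈ D, ∀ b' ∈ D, b⁻¹ * (x * b * x⁻¹) = b'⁻¹ * (x * b' * x⁻¹) → b = b' := by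
    intro b hb b' hb' h
    have h1 : b' * b⁻¹ ∈ C ⊓ D := by
      refine Subgroup.mem_inf.mpr ⟨hfixC _ (mul_mem (hDP hb') (inv_mem (hDP hb))) ?_, mul_mem hb' (inv_mem hb)⟩
      calc b' * b⁻¹ * x = b' * (b⁻¹ * (x * b * x⁻¹)) * (x * b⁻¹) := by group
        _ = b' * (b'⁻¹ * (x * b' * x⁻¹)) * (x * b⁻¹) := by rw [h]
        _ = _ := by group
    rw [hCD, Subgroup.mem_bot, mul_inv_eq_one] at h1
    exact h1.symm
  have hsurj : ∀ U : Subgroup S, U ≤ D → (∀ r ∈ U, x * r * x⁻¹ ∈ U) →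
      ∀ c ∈ U, ∃ b ∈ U, b⁻¹ * (x * b * x⁻¹) = c := by
    intro U hUD hUx c hc
    have := Finite.surjective_of_injective (α := ↥U)
      (f := fun b => ⟨(b : S)⁻¹ * (x * b * x⁻¹), mul_mem (inv_mem b.2) (hUx b b.2)⟩)
      fun b b' h => Subtype.ext (hinj b (hUD b.2) b' (hUD b'.2) (congrArg Subtype.val h))
    obtain ⟨b, hb⟩ := this ⟨c, hc⟩
    exact ⟨b, b.2, congrArg Subtype.val hb⟩
  refine ⟨?_, ?_⟩
  · intro a ha b hb
    set D' := (R ⊓ D) ⊔ N with hD'
    have hD'R : D' ≤ R := sup_le inf_le_left hNR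
    have hD'n : ∀ t ∈ P, ∀ d ∈ D', t * d * t⁻¹ ∈ D' := fun t ht d hd => by
      have h1 := inv_mem (hcent d (hD'R hd) t ht)
      rw [show t * d * t⁻¹ = (d * t * d⁻¹ * t⁻¹)⁻¹ * d by group]
      exact mul_mem (Subgroup.mem_sup_right h1) hd
    -- `x` changes the commutator by an element of `D'`
    have hstep : ∀ b ∈ D, (a * b * a⁻¹ * b⁻¹)⁻¹ * (a * (x * b * x⁻¹) * a⁻¹ * (x * b * x⁻¹)⁻¹) ∈ D' := by
      intro b hb
      have hmem : a * b * a⁻¹ * b⁻¹ ∈ D' ⊔ (R ⊓ C) :=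
        (hgen.trans (sup_le le_sup_right (le_sup_of_le_left le_sup_left))) (hab a ha b hb)
      have hn : R ⊓ C ≤ Subgroup.normalizer (D' : Set S) := fun t ht =>
        Subgroup.mem_normalizer_fintype (hD'n t (hRP ht.1))
      rw [Cfsg.Agent.Coprime.mem_sup_of_le_normalizer hn] at hmem
      obtain ⟨d, hd, u, hu, e⟩ := hmem
      have hdx : x * d * x⁻¹ ∈ D' := by
        have : D' ≤ D'.comap (MulAut.conj x).toMonoidHom := sup_le
          (fun r hr => Subgroup.mem_sup_left ⟨hRn.conj_mem r hr.1 x, hxD r hr.2⟩)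
          (fun r hr => Subgroup.mem_sup_right (hNn.conj_mem r hr x))
        exact this hd
      have hax : x * a * x⁻¹ = a := by rw [hxC a ha, mul_inv_cancel_right]
      have hux : x * u * x⁻¹ = u := by rw [hxC u hu.2, mul_inv_cancel_right]
      have e1 : a * (x * b * x⁻¹) * a⁻¹ * (x * b * x⁻¹)⁻¹ = (x * d * x⁻¹) * u := by
        calc a * (x * b * x⁻¹) * a⁻¹ * (x * b * x⁻¹)⁻¹
            = (x * a * x⁻¹) * (x * b * x⁻¹) * (x * a * x⁻¹)⁻¹ * (x * b * x⁻¹)⁻¹ := by rw [hax]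
          _ = x * (a * b * a⁻¹ * b⁻¹) * x⁻¹ := by group
          _ = (x * d * x⁻¹) * (x * u * x⁻¹) := by rw [← e]; group
          _ = _ := by rw [hux]
      rw [e1, ← e, show (d * u)⁻¹ * (x * d * x⁻¹ * u) = u⁻¹ * (d⁻¹ * (x * d * x⁻¹)) * u⁻¹⁻¹ by group]
      exact hD'n _ (inv_mem (hRP hu.1)) _ (mul_mem (inv_mem hd) hdx)
    obtain ⟨c, hc, rfl⟩ := hsurj D le_rfl hxD b hb
    have hsplit := hstep c hc
    have e2 : a * (x * c * x⁻¹) * a⁻¹ * (x * c * x⁻¹)⁻¹ = (a * c * a⁻¹ * c⁻¹) *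
        (c * (a * (c⁻¹ * (x * c * x⁻¹)) * a⁻¹ * (c⁻¹ * (x * c * x⁻¹))⁻¹) * c⁻¹) := by group
    rw [e2, inv_mul_cancel_left] at hsplit
    have := hD'n c⁻¹ (inv_mem (hDP hc)) _ hsplit
    rwa [show ∀ z : S, c⁻¹ * (c * z * c⁻¹) * c⁻¹⁻¹ = z from fun z => by group] at this
  · intro z hz1 hz2
    rw [sup_comm, Subgroup.mem_sup_of_normal_left] at hz1 hz2
    obtain ⟨n₁, hn₁, u, hu, rfl⟩ := hz1
    obtain ⟨n₂, hn₂, v, hv, e⟩ := hz2
    have hvu : v * u⁻¹ ∈ N := by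
      rw [show v * u⁻¹ = n₂⁻¹ * n₁ by rw [eq_inv_mul_iff_mul_eq, ← mul_assoc, e, mul_inv_cancel_right]]
      exact mul_mem (inv_mem hn₂) hn₁
    have hux : x * u * x⁻¹ = u := by rw [hxC u hu.2, mul_inv_cancel_right]
    have hc : v⁻¹ * (x * v * x⁻¹) ∈ D ⊓ N := by
      refine Subgroup.mem_inf.mpr ⟨mul_mem (inv_mem (Subgroup.mem_inf.mp hv).2) (hxD v (Subgroup.mem_inf.mp hv).2), ?_⟩
      have h1 : x * v * x⁻¹ * u⁻¹ ∈ N := by
        have := hNn.conj_mem _ hvu x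
        rwa [show x * (v * u⁻¹) * x⁻¹ = x * v * x⁻¹ * (x * u * x⁻¹)⁻¹ by group, hux] at this
      have h2 := mul_mem (inv_mem hvu) h1
      have h3 := hNn.conj_mem _ h2 u⁻¹
      rwa [show u⁻¹ * ((v * u⁻¹)⁻¹ * (x * v * x⁻¹ * u⁻¹)) * u⁻¹⁻¹ = v⁻¹ * (x * v * x⁻¹) by group] at h3
    obtain ⟨w, hw, hwe⟩ := hsurj (D ⊓ N) inf_le_left
      (fun r hr => ⟨hxD r hr.1, hNn.conj_mem r hr.2 x⟩) _ hc
    have hvN : v ∈ N := hinj w hw.1 v hv.2 hwe ▸ hw.2
    have huN : u ∈ N := by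
      have := mul_mem (inv_mem hvu) hvN
      rwa [show (v * u⁻¹)⁻¹ * v = u by group] at this
    exact mul_mem hn₁ huN

/-- Let S = PQ be a finite group with P a normal Sylow p-subgroup and Q elementary abelian of order q², q a prime different from p. If exactly two subgroups X₁, X₂ of order q in Q have a nontrivial centralizer in P, then P is the internal direct product of C_P(X₁) and C_P(X₂): they commute elementwise, meet trivially and generate P. -/
theorem result {S : Type*} [Group S] [Finite S] {p q : ℕ} [Fact p.Prime] [Fact q.Prime] (hpq : p ≠ q)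
    (P : Sylow p S) [(P : Subgroup S).Normal] (Q : Subgroup S) (hQ : Cfsg.IsElementaryAbelian q Q) (hQc : Nat.card Q = q ^ 2)
    (hS : (P : Subgroup S) ⊔ Q = ⊤)
    (X₁ X₂ : Subgroup S) (h₁ : X₁ ≤ Q) (h₂ : X₂ ≤ Q) (h₁₂ : X₁ ≠ X₂) (hc₁ : Nat.card X₁ = q) (hc₂ : Nat.card X₂ = q)
    (hf₁ : (P : Subgroup S) ⊓ Subgroup.centralizer (X₁ : Set S) ≠ ⊥)
    (hf₂ : (P : Subgroup S) ⊓ Subgroup.centralizer (X₂ : Set S) ≠ ⊥)
    (honly : ∀ X : Subgroup S, X ≤ Q → Nat.card X = q →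
      (P : Subgroup S) ⊓ Subgroup.centralizer (X : Set S) ≠ ⊥ → X = X₁ ∨ X = X₂) :
    ⁅(P : Subgroup S) ⊓ Subgroup.centralizer (X₁ : Set S), (P : Subgroup S) ⊓ Subgroup.centralizer (X₂ : Set S)⁆ = ⊥ ∧
      ((P : Subgroup S) ⊓ Subgroup.centralizer (X₁ : Set S)) ⊓ ((P : Subgroup S) ⊓ Subgroup.centralizer (X₂ : Set S)) = ⊥ ∧
      ((P : Subgroup S) ⊓ Subgroup.centralizer (X₁ : Set S)) ⊔ ((P : Subgroup S) ⊓ Subgroup.centralizer (X₂ : Set S)) = P := by
  classical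
  have hp := (Fact.out : p.Prime)
  have hq := (Fact.out : q.Prime)
  set PP := (P : Subgroup S) with hPP
  have hQcom : ∀ u ∈ Q, ∀ v ∈ Q, u * v = v * u := fun u hu v hv =>
    congrArg Subtype.val (hQ.1.is_comm.comm ⟨u, hu⟩ ⟨v, hv⟩)
  have hQc' : IsMulCommutative ↥Q := hQ.1
  have hgenX : ∀ X : Subgroup S, Nat.card X = q → ∃ g ∈ X, g ≠ 1 ∧ Subgroup.zpowers g = X := by
    intro X hX
    have hne : X ≠ ⊥ := fun h => hq.ne_one (by rw [← hX, h, Subgroup.card_bot])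
    obtain ⟨g, hg, hg1⟩ := X.bot_or_exists_ne_one.resolve_left hne
    refine ⟨g, hg, hg1, Subgroup.eq_of_le_of_card_ge (Subgroup.zpowers_le.mpr hg) ?_⟩
    rw [hX, Nat.card_zpowers]
    have h1 := Subgroup.orderOf_dvd_natCard X hg
    rw [hX, Nat.dvd_prime hq] at h1
    rcases h1 with h1 | h1
    · exact absurd (orderOf_eq_one_iff.mp h1) hg1
    · exact h1.ge
  have hcentX : ∀ (X : Subgroup S) (g : S), Subgroup.zpowers g = X →
      Subgroup.centralizer (X : Set S) = Subgroup.centralizer {g} := fun X g h => by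
    rw [← h, Subgroup.zpowers_eq_closure, Subgroup.centralizer_closure]
  obtain ⟨g₁, hg₁, hg₁1, hz₁⟩ := hgenX X₁ hc₁
  obtain ⟨g₂, hg₂, hg₂1, hz₂⟩ := hgenX X₂ hc₂
  set C₁ := PP ⊓ Subgroup.centralizer (X₁ : Set S) with hC₁
  set C₂ := PP ⊓ Subgroup.centralizer (X₂ : Set S) with hC₂
  have hPp : IsPGroup p ↥PP := P.2
  obtain ⟨e, he⟩ := IsPGroup.iff_card.mp hPp
  have hcopQ : ∀ R : Subgroup S, R ≤ PP → (Nat.card Q).Coprime (Nat.card R) := by
    intro R hR
    have h1 : (Nat.card Q).Coprime (p ^ e) := by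
      rw [hQc]; exact Nat.Coprime.pow _ _ ((Nat.coprime_primes hq hp).mpr hpq.symm)
    exact h1.coprime_dvd_right (he ▸ Subgroup.card_dvd_of_le hR)
  have hncyc : ¬ IsCyclic ↥Q := fun hcy => by
    obtain ⟨g, hg⟩ := hcy.exists_generator
    have h1 : orderOf g = q ^ 2 := by
      rw [orderOf_eq_card_of_forall_mem_zpowers hg, hQc]
    have h2 : orderOf g ∣ q := orderOf_dvd_of_pow_eq_one (Subtype.ext (by simpa using hQ.2 (g : S) g.2))
    rw [h1] at h2
    exact absurd (Nat.le_of_dvd hq.pos h2) (by nlinarith [hq.two_le])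
  -- each invariant subgroup of `P` is generated by its two centralizers
  have hgen : ∀ R : Subgroup S, R ≤ PP → (∀ u ∈ Q, ∀ r ∈ R, u * r * u⁻¹ ∈ R) →
      R ≤ (R ⊓ C₁) ⊔ (R ⊓ C₂) := by
    intro R hR hinv
    have hn : Q ≤ Subgroup.normalizer (R : Set S) := fun u hu =>
      Subgroup.mem_normalizer_fintype (hinv u hu)
    have h := Cfsg.Agent.Coprime.fixedGen_eq hncyc hn (hcopQ R hR)
    conv_lhs => rw [← h]
    refine iSup₂_le fun a ha => ?_
    rcases (R ⊓ Subgroup.centralizer {a}).bot_or_exists_ne_one with hb | ⟨r, hr, hr1⟩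
    · rw [hb]; exact bot_le
    have hzQ : Subgroup.zpowers a ≤ Q := Subgroup.zpowers_le.mpr ha.1
    have hcz : Nat.card (Subgroup.zpowers a) = q := by
      rw [Nat.card_zpowers]
      exact orderOf_eq_prime (hQ.2 a ha.1) ha.2
    have hne : PP ⊓ Subgroup.centralizer (Subgroup.zpowers a : Set S) ≠ ⊥ := by
      intro h0
      apply hr1
      rw [← Subgroup.mem_bot, ← h0, hcentX _ a rfl]
      exact ⟨hR hr.1, hr.2⟩
    rcases honly _ hzQ hcz hne with hX | hX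
    · refine le_sup_of_le_left (le_inf inf_le_left ?_)
      rw [hC₁, ← hX, hcentX _ a rfl]
      exact inf_le_inf_right _ hR
    · refine le_sup_of_le_right (le_inf inf_le_left ?_)
      rw [hC₂, ← hX, hcentX _ a rfl]
      exact inf_le_inf_right _ hR
  -- nothing is fixed by all of `Q`
  have hsupX : X₁ ⊔ X₂ = Q := by
    refine Subgroup.eq_of_le_of_card_ge (sup_le h₁ h₂) ?_
    have h1 : q < Nat.card (X₁ ⊔ X₂ : Subgroup S) := by
      rw [← hc₁]
      refine lt_of_not_ge fun h => h₁₂ ?_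
      have := Subgroup.eq_of_le_of_card_ge (le_sup_left : X₁ ≤ X₁ ⊔ X₂) h
      exact (Subgroup.eq_of_le_of_card_ge (this ▸ le_sup_right : X₂ ≤ X₁) (by rw [hc₁, hc₂])).symm
    have h2 := Subgroup.card_dvd_of_le (sup_le h₁ h₂)
    rw [hQc] at h2 ⊢
    obtain ⟨i, hi, he⟩ := (Nat.dvd_prime_pow hq).mp h2
    rw [he] at h1 ⊢
    interval_cases i
    · simp only [pow_zero] at h1; exact absurd h1 (not_lt.mpr hq.pos)
    · simp only [pow_one] at h1; exact absurd h1 (lt_irrefl q)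
    · exact le_rfl
  have hinf : C₁ ⊓ C₂ = ⊥ := by
    rcases (C₁ ⊓ C₂).bot_or_exists_ne_one with h | ⟨r, hr, hr1⟩
    · exact h
    exfalso
    have hrQ : ∀ u ∈ Q, u * r = r * u := by
      intro u hu
      have : Q ≤ Subgroup.centralizer {r} := by
        rw [← hsupX, sup_le_iff]
        constructor
        · intro v hv
          exact Subgroup.mem_centralizer_singleton_iff.mpr ((Subgroup.mem_inf.mp hr.1).2 v hv)
        · intro v hv
          exact Subgroup.mem_centralizer_singleton_iff.mpr ((Subgroup.mem_inf.mp hr.2).2 v hv)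
      exact Subgroup.mem_centralizer_singleton_iff.mp (this hu)
    -- a third subgroup of order `q`
    have hnot : g₁ * g₂ ≠ 1 ∧ Subgroup.zpowers (g₁ * g₂) ≠ X₁ ∧ Subgroup.zpowers (g₁ * g₂) ≠ X₂ := by
      have hd : ∀ {X Y : Subgroup S} {g : S}, Nat.card X = q → Nat.card Y = q → Subgroup.zpowers g = X →
          g ∈ Y → X = Y := fun {X Y g} hX hY hz hg =>
        Subgroup.eq_of_le_of_card_ge (hz ▸ Subgroup.zpowers_le.mpr hg) (by rw [hX, hY])
      refine ⟨fun h => ?_, fun h => ?_, fun h => ?_⟩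
      · exact h₁₂ (hd hc₁ hc₂ hz₁ (by rw [eq_inv_of_mul_eq_one_left h]; exact inv_mem hg₂))
      · exact h₁₂ (hd hc₂ hc₁ hz₂ ((mul_mem_cancel_left hg₁).mp (h ▸ Subgroup.mem_zpowers _))).symm
      · exact h₁₂ (hd hc₁ hc₂ hz₁ ((mul_mem_cancel_right hg₂).mp (h ▸ Subgroup.mem_zpowers _)))
    have hmem : g₁ * g₂ ∈ Q := mul_mem (h₁ hg₁) (h₂ hg₂)
    rcases honly (Subgroup.zpowers (g₁ * g₂)) (Subgroup.zpowers_le.mpr hmem)
      (by rw [Nat.card_zpowers]; exact orderOf_eq_prime (hQ.2 _ hmem) hnot.1) (fun h0 => hr1 (by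
        rw [← Subgroup.mem_bot, ← h0]
        refine ⟨(Subgroup.mem_inf.mp hr.1).1, fun v hv => ?_⟩
        exact hrQ v (Subgroup.zpowers_le.mpr hmem hv))) with h | h
    · exact hnot.2.1 h
    · exact hnot.2.2 h
  refine ⟨?_, hinf, ?_⟩
  swap
  · refine le_antisymm (sup_le inf_le_left inf_le_left) ?_
    refine (hgen PP le_rfl fun u _ r hr => ‹(P : Subgroup S).Normal›.conj_mem r hr u).trans ?_
    exact sup_le_sup inf_le_right inf_le_right
  -- commutation, down the lower central series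
  have hser : ∀ k, (PP.lowerCentralSeries k).Normal ∧ PP.lowerCentralSeries k ≤ PP := by
    intro k
    induction k with
    | zero => exact ⟨by rw [Subgroup.lowerCentralSeries_zero]; infer_instance, le_of_eq (Subgroup.lowerCentralSeries_zero ..)⟩
    | succ k ih =>
      have := ih.1
      rw [Subgroup.lowerCentralSeries_succ]
      exact ⟨inferInstance, Subgroup.commutator_le_right _ _⟩
  obtain ⟨c, hc⟩ : ∃ c, PP.lowerCentralSeries c = ⊥ := by
    have : Group.IsNilpotent ↥PP := hPp.isNilpotent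
    obtain ⟨c, hc⟩ := Subgroup.nilpotent_iff_lowerCentralSeries.mp this
    refine ⟨c, ?_⟩
    have : ∀ k, ((⊤ : Subgroup ↥PP).lowerCentralSeries k).map PP.subtype = PP.lowerCentralSeries k := by
      intro k
      induction k with
      | zero => rw [Subgroup.lowerCentralSeries_zero, Subgroup.lowerCentralSeries_zero,
          ← MonoidHom.range_eq_map, Subgroup.range_subtype]
      | succ k ih => rw [Subgroup.lowerCentralSeries_succ, Subgroup.lowerCentralSeries_succ,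
          Subgroup.map_commutator, ih, ← MonoidHom.range_eq_map, Subgroup.range_subtype]
    rw [← this, hc, Subgroup.map_bot]
  have hall : ∀ k, ∀ a ∈ C₁, ∀ b ∈ C₂, a * b * a⁻¹ * b⁻¹ ∈ PP.lowerCentralSeries k := by
    intro k
    induction k with
    | zero =>
      intro a ha b hb
      rw [Subgroup.lowerCentralSeries_zero]
      exact mul_mem (mul_mem (mul_mem ha.1 hb.1) (inv_mem ha.1)) (inv_mem hb.1)
    | succ k ih =>
      intro a ha b hb
      have hRn := (hser k).1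
      have hNn := (hser (k + 1)).1
      set R := PP.lowerCentralSeries k
      set N := PP.lowerCentralSeries (k + 1) with hN
      have hcent : ∀ r ∈ R, ∀ t ∈ PP, r * t * r⁻¹ * t⁻¹ ∈ N := fun r hr t ht => by
        rw [hN, Subgroup.lowerCentralSeries_succ]
        have := Subgroup.commutator_mem_commutator hr ht
        rwa [commutatorElement_def] at this
      have hC₁Q : ∀ u ∈ Q, ∀ r ∈ C₁, u * r * u⁻¹ ∈ C₁ := fun u hu r hr =>
        ⟨‹(P : Subgroup S).Normal›.conj_mem r hr.1 u, fun v hv => by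
          rw [← mul_assoc, ← mul_assoc, ← hQcom u hu v (h₁ hv), mul_assoc u v r, hr.2 v hv]
          rw [show u * (r * v) * u⁻¹ = u * r * (v * u⁻¹) by group, ← hQcom u⁻¹ (inv_mem hu) v (h₁ hv)]
          group⟩
      have hC₂Q : ∀ u ∈ Q, ∀ r ∈ C₂, u * r * u⁻¹ ∈ C₂ := fun u hu r hr =>
        ⟨‹(P : Subgroup S).Normal›.conj_mem r hr.1 u, fun v hv => by
          rw [← mul_assoc, ← mul_assoc, ← hQcom u hu v (h₂ hv), mul_assoc u v r, hr.2 v hv]
          rw [show u * (r * v) * u⁻¹ = u * r * (v * u⁻¹) by group, ← hQcom u⁻¹ (inv_mem hu) v (h₂ hv)]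
          group⟩
      have half₂ := half (q := q) (P := PP) hQcom hRn hNn (hser k).2
        (by rw [hN, Subgroup.lowerCentralSeries_succ]; exact Subgroup.commutator_le_left R PP) hcent (hgen R (hser k).2 fun u _ r hr => hRn.conj_mem r hr u)
        (h₁ hg₁) hinf (fun r (hr : r ∈ C₁) => (Subgroup.mem_inf.mp hr).2 g₁ hg₁)
        (fun r hr h => ?_) inf_le_left inf_le_left (hC₂Q g₁ (h₁ hg₁)) ih
      swap
      · refine ⟨hr, ?_⟩
        rw [hcentX X₁ g₁ hz₁]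
        exact Subgroup.mem_centralizer_singleton_iff.mpr h
      have half₁ := half (q := q) (P := PP) hQcom hRn hNn (hser k).2
        (by rw [hN, Subgroup.lowerCentralSeries_succ]; exact Subgroup.commutator_le_left R PP) hcent (by
          rw [sup_comm]; exact hgen R (hser k).2 fun u _ r hr => hRn.conj_mem r hr u)
        (h₂ hg₂) (by rw [inf_comm]; exact hinf) (fun r (hr : r ∈ C₂) => (Subgroup.mem_inf.mp hr).2 g₂ hg₂)
        (fun r hr h => ?_) inf_le_left inf_le_left (hC₁Q g₂ (h₂ hg₂))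
        (fun b hb a ha => by
          have := inv_mem (ih a ha b hb)
          rwa [show (a * b * a⁻¹ * b⁻¹)⁻¹ = b * a * b⁻¹ * a⁻¹ by group] at this)
      swap
      · refine ⟨hr, ?_⟩
        rw [hcentX X₂ g₂ hz₂]
        exact Subgroup.mem_centralizer_singleton_iff.mpr h
      obtain ⟨hB, hsep⟩ := half₂
      obtain ⟨hA, -⟩ := half₁
      have hA' := inv_mem (hA b hb a ha)
      rw [show (b * a * b⁻¹ * a⁻¹)⁻¹ = a * b * a⁻¹ * b⁻¹ by group] at hA'
      exact hsep _ hA' (hB a ha b hb)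
  rw [Subgroup.commutator_eq_bot_iff_le_centralizer]
  intro a ha b hb
  have := hall c a ha b hb
  rw [hc, Subgroup.mem_bot, mul_inv_eq_one, mul_inv_eq_iff_eq_mul] at this
  exact this.symm

end Cfsg.Agent.S1900
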