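import Cfsg.Statements.S1901
import Cfsg.Agent.Lib.PLocal.PSolvable
import Cfsg.Agent.Lib.Coprime.OmegaDetect

set_option autoImplicit false
open Cfsg

namespace Cfsg.Agent.S1901

universe u

theorem aux : ∀ (n : ℕ) {G : Type u} [Group G] [Finite G] {p : ℕ} [Fact p.Prime], Nat.card G = n →
    Cfsg.IsPSolvable p G → ∀ (P : Sylow p G) (Q : Subgroup G), ¬ p ∣ Nat.card Q →
      Q ≤ Subgroup.normalizer ((P : Subgroup G) : Set G) → ∀ x ∈ Subgroup.normalizer (Q : Set G),
        (∃ k : ℕ, orderOf x = p ^ k) → ∀ a ∈ Q, x * a = a * x := by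
  intro n
  induction n using Nat.strong_induction_on with
  | _ n ih =>
    intro G _ _ p hp hn hG P Q hQ hQP x hx ⟨k, hk⟩ a ha
    subst hn
    rcases subsingleton_or_nontrivial G with hsub | hnt
    · exact Subsingleton.elim _ _
    have hd : x * a * x⁻¹ * a⁻¹ ∈ Q :=
      Q.mul_mem ((Subgroup.mem_normalizer_iff.mp hx a).mp ha) (Q.inv_mem ha)
    -- passing to a proper quotient
    have quot : ∀ U : Subgroup G, U.Normal → U ≠ ⊥ → x * a * x⁻¹ * a⁻¹ ∈ U := by
      intro U hU hU1
      set q := QuotientGroup.mk' U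
      have hlt : Nat.card (G ⧸ U) < Nat.card G := by
        have h1 := U.one_lt_card_iff_ne_bot.mpr hU1
        rw [Subgroup.card_eq_card_quotient_mul_card_subgroup U]
        exact lt_mul_of_one_lt_right Nat.card_pos h1
      have h := ih _ hlt rfl (Cfsg.Agent.PLocal.PSolvable.quotient hG U)
        (P.mapSurjective (QuotientGroup.mk'_surjective U)) (Q.map q)
        (fun h => hQ (h.trans (Subgroup.card_map_dvd Q q)))
        ((Subgroup.map_mono hQP).trans (Subgroup.le_normalizer_map q)) (q x)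
        (Subgroup.le_normalizer_map q ⟨x, hx, rfl⟩)
        (by
          obtain ⟨j, -, hj⟩ := (Nat.dvd_prime_pow hp.out).mp (hk ▸ orderOf_map_dvd q x)
          exact ⟨j, hj⟩) (q a) ⟨a, ha, rfl⟩
      rw [← QuotientGroup.eq_one_iff]
      show q (x * a * x⁻¹ * a⁻¹) = 1
      rw [map_mul, map_mul, map_mul, map_inv, map_inv, h, mul_inv_cancel_right, mul_inv_cancel]
    by_cases hU : Cfsg.pCore p G = ⊥
    swap
    · have h1 := quot _ inferInstance hU
      obtain ⟨j, hj⟩ := IsPGroup.iff_orderOf.mp Cfsg.Agent.PLocal.Cores.isPGroup_pCore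
        (⟨_, h1⟩ : Cfsg.pCore p G)
      rw [Subgroup.orderOf_mk] at hj
      have h2 : x * a * x⁻¹ * a⁻¹ = 1 := by
        refine orderOf_eq_one_iff.mp (Nat.eq_one_of_dvd_coprimes
          ((hp.out.coprime_iff_not_dvd.mpr hQ).pow_left j) (hj ▸ dvd_rfl)
          (Subgroup.orderOf_dvd_natCard Q hd))
      rw [mul_inv_eq_one, mul_inv_eq_iff_eq_mul] at h2
      exact h2
    have hM1 : Cfsg.pPrimeCore p G ≠ ⊥ :=
      (Cfsg.Agent.PLocal.PSolvable.exists_core_ne_bot hG).resolve_left (not_not_intro hU)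
    have hdM := quot _ inferInstance hM1
    set Q0 := Q ⊓ Cfsg.pPrimeCore p G with hQ0
    have hMn : (Cfsg.pPrimeCore p G).Normal := inferInstance
    have hxN : x ∈ Subgroup.normalizer (Q0 : Set G) := by
      refine Subgroup.inf_normalizer_le_normalizer_inf ⟨hx, ?_⟩
      rw [Subgroup.normalizer_eq_top]; trivial
    have hPC : (P : Subgroup G) ≤ Subgroup.centralizer (Q0 : Set G) := by
      intro y hy
      rw [Subgroup.mem_centralizer_iff]
      intro b hb
      have hbb : b * y * b⁻¹ * y⁻¹ ∈ (P : Subgroup G) ⊓ Cfsg.pPrimeCore p G := by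
        refine Subgroup.mem_inf.mpr ⟨Subgroup.mul_mem _
          ((Subgroup.mem_normalizer_iff.mp (hQP hb.1) y).mp hy) (Subgroup.inv_mem _ hy), ?_⟩
        have := mul_mem hb.2 (hMn.conj_mem _ (inv_mem hb.2) y)
        simpa [mul_assoc] using this
      rw [Cfsg.Agent.PLocal.Cores.inf_eq_bot_of_isPGroup_of_coprime P.2
        Cfsg.Agent.PLocal.Cores.coprime_card_pPrimeCore, Subgroup.mem_bot, mul_inv_eq_one,
        mul_inv_eq_iff_eq_mul] at hbb
      exact hbb
    set C := Subgroup.centralizer (Q0 : Set G)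
    set N := Subgroup.normalizer (Q0 : Set G)
    have hCN : C ≤ N := Subgroup.centralizer_le_normalizer _
    have hidx : ¬ p ∣ C.relIndex N := fun h => P.not_dvd_index
      ((h.trans (Subgroup.relIndex_dvd_index_of_le hCN)).trans (Subgroup.index_dvd_of_le hPC))
    have hxC : x ∈ C := by
      have hn' : (C.subgroupOf N).Normal := by
        rw [← Subgroup.normalizerMonoidHom_ker]; infer_instance
      have h1 := orderOf_map_dvd (QuotientGroup.mk' (C.subgroupOf N)) (⟨x, hxN⟩ : N)
      rw [Subgroup.orderOf_mk, hk] at h1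
      have h2 : orderOf (QuotientGroup.mk' (C.subgroupOf N) ⟨x, hxN⟩) ∣ C.relIndex N :=
        orderOf_dvd_natCard _
      have h3 := orderOf_eq_one_iff.mp (Nat.eq_one_of_dvd_coprimes
        ((hp.out.coprime_iff_not_dvd.mpr hidx).pow_left k) h1 h2)
      exact Subgroup.mem_subgroupOf.mp ((QuotientGroup.eq_one_iff _).mp h3)
    refine Cfsg.Agent.Coprime.OmegaDetect.eq_one_of_fix
      (Subgroup.mem_centralizer_iff.mp hxC _ (Subgroup.mem_inf.mpr ⟨hd, hdM⟩)).symm ?_
    rw [hk]
    exact ((hp.out.coprime_iff_not_dvd.mpr hQ).coprime_dvd_right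
      (Subgroup.orderOf_dvd_natCard Q hd)).pow_left k

/-- Let G be a finite p-solvable group and Q a subgroup of order prime to p such that p divides the index of C_G(Q) in N_G(Q). Then Q normalizes no Sylow p-subgroup of G. -/
theorem result {G : Type*} [Group G] [Finite G] {p : ℕ} [Fact p.Prime]
    (hG : Cfsg.IsPSolvable p G) (Q : Subgroup G) (hQ : ¬ p ∣ Nat.card Q)
    (hA : p ∣ (Subgroup.centralizer (Q : Set G)).relIndex (Subgroup.normalizer (Q : Set G)))
    (P : Sylow p G) : ¬ Q ≤ Subgroup.normalizer ((P : Subgroup G) : Set G) := by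
  intro hQP
  set C := Subgroup.centralizer (Q : Set G)
  set N := Subgroup.normalizer (Q : Set G)
  obtain ⟨R⟩ := (inferInstance : Nonempty (Sylow p N))
  have hR : (R : Subgroup N) ≤ C.subgroupOf N := fun r hr => by
    rw [Subgroup.mem_subgroupOf, Subgroup.mem_centralizer_iff]
    intro a ha
    refine (aux _ rfl hG P Q hQ hQP (r : G) r.2 ?_ a ha).symm
    obtain ⟨k, hk⟩ := IsPGroup.iff_orderOf.mp R.2 ⟨r, hr⟩
    exact ⟨k, by rw [Subgroup.orderOf_coe, ← Subgroup.orderOf_mk r hr, hk]⟩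
  exact R.not_dvd_index (hA.trans (Subgroup.index_dvd_of_le hR))

end Cfsg.Agent.S1901
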