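import Cfsg.Statements.S1902
import Cfsg.Agent.Lib.PLocal.PSolvable
import Cfsg.Agent.Lib.PLocal.Cores
import Cfsg.Agent.Lib.Coprime.Action
import Cfsg.Agent.Lib.Cores.Subnormal
import Cfsg.Agent.Lib.Coprime.FrobeniusPGroup
import Mathlib

set_option autoImplicit false
open Cfsg

namespace Cfsg.Agent.S1902

/-- The case of a trivial `p'`-core. -/
theorem core {G : Type*} [Group G] [Finite G] {p : ℕ} [Fact p.Prime] (hp : p ≠ 2)
    (hS : Cfsg.IsPSolvable p G) (hred : Cfsg.pPrimeCore p G = ⊥) (B : Subgroup G)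
    (hBc : Nat.card B ∣ p ^ 2) (b : G) (hbB : b ∈ B) (hb : b ^ p = 1)
    (hΩ : ∀ x ∈ Cfsg.pCore p G, x ^ p = 1 → b * x = x * b → x ∈ B) (Q : Subgroup G)
    (hQ : ¬ p ∣ Nat.card Q) (hinv : ∀ b ∈ B, ∀ x ∈ Q, b * x * b⁻¹ ∈ Q) : Q = ⊥ := by
  classical
  have hP := (Fact.out : p.Prime)
  set V := Cfsg.pCore p G with hV
  have hVp : IsPGroup p V := Cfsg.Agent.PLocal.Cores.isPGroup_pCore
  have hVn : V.Normal := inferInstance
  have hchar := Cfsg.Agent.PLocal.PSolvable.centralizer_pCore_le hred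
    (Cfsg.Agent.PLocal.PSolvable.subgroup hS _)
  have hQc : (Nat.card Q).Coprime p := (hP.coprime_iff_not_dvd.mpr hQ).symm
  have hQV : Q ⊓ V = ⊥ := by
    rw [inf_comm]
    exact Cfsg.Agent.PLocal.Cores.inf_eq_bot_of_isPGroup_of_coprime hVp hQc
  have hkill : Q ≤ Subgroup.centralizer (V : Set G) → Q = ⊥ := fun h =>
    le_bot_iff.mp (hQV ▸ le_inf le_rfl (h.trans hchar))
  have hQB : ∀ c ∈ Q, ∀ x ∈ V, x ∈ B → c * x = x * c := by
    intro c hc x hxV hxB
    have h1 : c * x * c⁻¹ * x⁻¹ ∈ Q ⊓ V := by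
      refine Subgroup.mem_inf.mpr ⟨?_, mul_mem (hVn.conj_mem x hxV c) (inv_mem hxV)⟩
      rw [show c * x * c⁻¹ * x⁻¹ = c * (x * c⁻¹ * x⁻¹) by group]
      exact mul_mem hc (hinv x hxB _ (inv_mem hc))
    rw [hQV, Subgroup.mem_bot, mul_inv_eq_one, mul_inv_eq_iff_eq_mul] at h1
    exact h1
  have hbz : IsPGroup p (Subgroup.zpowers b) := by
    obtain ⟨j, -, hj⟩ := (Nat.dvd_prime_pow hP).mp ((pow_one p).symm ▸ orderOf_dvd_of_pow_eq_one hb)
    exact IsPGroup.of_card (by rw [Nat.card_zpowers, hj])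
  have hnV : ∀ K : Subgroup G, K ≤ Subgroup.normalizer (V : Set G) := fun K => by
    rw [Subgroup.normalizer_eq_top]; exact le_top
  set W := V ⊓ Subgroup.centralizer (Subgroup.zpowers b : Set G) with hW
  set Q0 := Q ⊓ Subgroup.centralizer (Subgroup.zpowers b : Set G) with hQ0
  have hQ0c : (Nat.card Q0).Coprime p :=
    hQc.coprime_dvd_left (Subgroup.card_dvd_of_le inf_le_left)
  have hQ0C : Q0 ≤ Subgroup.centralizer (V : Set G) := by
    refine Cfsg.Agent.Coprime.le_centralizer_of_pxq hbz hQ0c hVp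
      (Subgroup.le_centralizer_iff.mp inf_le_right) (hnV _) (hnV _) ?_
    rw [Subgroup.le_centralizer_iff]
    intro c hc
    refine Cfsg.Agent.Coprime.OmegaDetect.mem_centralizer_of_fix (p := p)
      (hQ0c.coprime_dvd_left (Subgroup.orderOf_dvd_natCard _ hc)) (hVp.to_le inf_le_left) ?_ ?_
    · refine Subgroup.mem_normalizer_fintype fun x hx => ?_
      refine Subgroup.mem_inf.mpr ⟨hVn.conj_mem x (Subgroup.mem_inf.mp hx).1 c, ?_⟩
      exact mul_mem (mul_mem (Subgroup.mem_inf.mp hc).2 (Subgroup.mem_inf.mp hx).2)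
        (inv_mem (Subgroup.mem_inf.mp hc).2)
    · intro a ha h
      obtain ⟨haV, hac⟩ := Subgroup.mem_inf.mp ha
      exact hQB c (Subgroup.mem_inf.mp hc).1 a haV (hΩ a haV (h.resolve_right fun h2 => hp h2.1)
        (Subgroup.mem_centralizer_iff.mp hac b (Subgroup.mem_zpowers b)))
  have hQ0bot : Q0 = ⊥ :=
    le_bot_iff.mp (hQV ▸ le_inf inf_le_left (hQ0C.trans hchar))
  have hmem0 : ∀ c ∈ Q, b * c = c * b → c = 1 := by
    intro c hc h
    rw [← Subgroup.mem_bot, ← hQ0bot]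
    refine Subgroup.mem_inf.mpr ⟨hc, ?_⟩
    rw [Subgroup.zpowers_eq_closure, Subgroup.centralizer_closure,
      Subgroup.mem_centralizer_singleton_iff]
    exact h.symm
  by_cases hbV : b ∈ V
  · exact (Subgroup.eq_bot_iff_forall Q).mpr fun c hc => hmem0 c hc (hQB c hc b hbV hbB).symm
  refine hkill (Cfsg.Agent.Coprime.FrobeniusPGroup.le_centralizer_of_fixed_le hp (Z := V ⊓ B) hVp hQc hb
    (hnV _ (Subgroup.mem_zpowers b))
    (Subgroup.mem_normalizer_fintype fun c hc => hinv b hbB c hc) (hnV _) hmem0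
    (fun x hx hxp h => Subgroup.mem_inf.mpr ⟨hx, hΩ x hx hxp h⟩) ?_
    (fun x hx c hc => hQB c hc x (Subgroup.mem_inf.mp hx).1 (Subgroup.mem_inf.mp hx).2))
  obtain ⟨i, hi, he⟩ := (Nat.dvd_prime_pow hP).mp ((Subgroup.card_dvd_of_le (inf_le_right : V ⊓ B ≤ B)).trans hBc)
  rw [he]
  interval_cases i
  · simpa using hP.one_le
  · simp
  · exfalso
    have hle : Nat.card B ≤ Nat.card (V ⊓ B : Subgroup G) :=
      he ▸ Nat.le_of_dvd (pow_pos hP.pos 2) hBc
    have heq := Subgroup.eq_of_le_of_card_ge (inf_le_right : V ⊓ B ≤ B) hle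
    rw [← heq] at hbB
    exact hbV (Subgroup.mem_inf.mp hbB).1

/-- Let p be an odd prime, G a finite p-solvable group, and B an elementary abelian subgroup of order p² such that B is the subgroup generated by the elements of order p of some Sylow p-subgroup of C_G(b₀), for some nontrivial b₀ ∈ B. Then every B-invariant subgroup of G of order prime to p lies in O_{p'}(G). -/
theorem result {G : Type*} [Group G] [Finite G] {p : ℕ} [Fact p.Prime] (hp : p ≠ 2)
    (hG : Cfsg.IsPSolvable p G) (B : Subgroup G) (hB : Cfsg.IsElementaryAbelian p B) (hBc : Nat.card B = p ^ 2)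
    (b₀ : G) (hb₀ : b₀ ∈ B) (hb₁ : b₀ ≠ 1) (P : Sylow p ↥(Subgroup.centralizer ({b₀} : Set G)))
    (hBP : B = Subgroup.closure {x : G | x ∈ ((P : Subgroup ↥(Subgroup.centralizer ({b₀} : Set G))).map
      (Subgroup.centralizer ({b₀} : Set G)).subtype : Subgroup G) ∧ orderOf x = p})
    (Q : Subgroup G) (hQ : ¬ p ∣ Nat.card Q) (hinv : ∀ b ∈ B, ∀ x ∈ Q, b * x * b⁻¹ ∈ Q) :
    Q ≤ Cfsg.pPrimeCore p G := by
  classical
  have hP := (Fact.out : p.Prime)
  set M := Cfsg.pPrimeCore p G with hM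
  set q := QuotientGroup.mk' M with hq
  have hqs : Function.Surjective q := QuotientGroup.mk'_surjective M
  have hb0p : b₀ ^ p = 1 := hB.2 b₀ hb₀
  have hQbar := core hp (Cfsg.Agent.PLocal.PSolvable.quotient hG M)
    Cfsg.Agent.PLocal.Cores.pPrimeCore_quotient_pPrimeCore (B.map q)
    ((Subgroup.card_map_dvd B q).trans hBc.dvd) (q b₀) ⟨b₀, hb₀, rfl⟩
    (by rw [← map_pow, hb0p, map_one]) ?_ (Q.map q) (fun h => hQ (h.trans (Subgroup.card_map_dvd Q q))) ?_
  · intro x hx
    rw [← QuotientGroup.eq_one_iff (N := M)]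
    have : q x ∈ (⊥ : Subgroup (G ⧸ M)) := hQbar ▸ ⟨x, hx, rfl⟩
    exact this
  · -- the hypothesis on elements of order `p` passes to the quotient
    intro xb hxb hxbp hcomm
    obtain ⟨k, rfl⟩ := hqs xb
    have hcop : (Nat.card (Subgroup.zpowers b₀)).Coprime (Nat.card M) :=
      (Cfsg.Agent.PLocal.Cores.coprime_card_pPrimeCore (p := p) (G := G)).symm.coprime_dvd_left
        (by rw [Nat.card_zpowers]; exact orderOf_dvd_of_pow_eq_one hb0p)
    obtain ⟨n, hn, hkn⟩ := Cfsg.Agent.Coprime.exists_fixed_in_coset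
      (A := Subgroup.zpowers b₀) (N := M) (k := k)
      (fun a _ => by rw [Subgroup.normalizer_eq_top]; trivial) hcop
      (Or.inl (Cfsg.Agent.Coprime.isSolvable_of_isMulCommutative _))
      (fun a ha => by
        obtain ⟨j, rfl⟩ := Subgroup.mem_zpowers_iff.mp ha
        rw [← QuotientGroup.eq_one_iff (N := M)]
        show q (k⁻¹ * (b₀ ^ j * k * (b₀ ^ j)⁻¹)) = 1
        have hc : Commute (q b₀ ^ j) (q k) := (show Commute (q b₀) (q k) from hcomm).zpow_left j
        rw [map_mul, map_mul, map_mul, map_inv, map_inv, map_zpow, hc.eq, mul_inv_cancel_right,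
          inv_mul_cancel])
    have hkC : k * n ∈ Subgroup.centralizer ({b₀} : Set G) := by
      rw [Subgroup.mem_centralizer_singleton_iff]
      exact (Subgroup.mem_centralizer_iff.mp hkn b₀ (Subgroup.mem_zpowers b₀)).symm
    have hqkn : q (k * n) = q k := by
      rw [map_mul, show q n = 1 from (QuotientGroup.eq_one_iff n).mpr hn, mul_one]
    set f : ↥(Subgroup.centralizer ({b₀} : Set G)) →* G ⧸ M := q.comp (Subgroup.centralizer ({b₀} : Set G)).subtype with hf
    set N := (Cfsg.pCore p (G ⧸ M)).comap f with hN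
    have hNn : N.Normal := inferInstance
    -- the image of `N` is the image of its intersection with the Sylow subgroup
    set K := ((P : Subgroup ↥(Subgroup.centralizer ({b₀} : Set G))) ⊓ N).map f with hK
    have hKle : K ≤ N.map f := Subgroup.map_mono inf_le_right
    have hNimg : IsPGroup p ↥(N.map f) :=
      Cfsg.Agent.PLocal.Cores.isPGroup_pCore.to_le (Subgroup.map_comap_le _ _)
    have hidx : ¬ p ∣ ((P : Subgroup ↥(Subgroup.centralizer ({b₀} : Set G))) ⊓ N).relIndex N := by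
      rw [Subgroup.inf_relIndex_right]
      exact Cfsg.Agent.Cores.sylow_subgroupOf_isSubnormal P (Subgroup.Normal.isSubnormal hNn)
    have heq : K = N.map f := by
      refine hKle.antisymm (Subgroup.relIndex_eq_one.mp ?_)
      obtain ⟨i, hi⟩ := IsPGroup.iff_card.mp hNimg
      have h1 : K.relIndex (N.map f) ∣ p ^ i := hi ▸ (K.subgroupOf (N.map f)).index_dvd_card
      have h2 := Cfsg.Agent.PLocal.PSolvable.relIndex_map_dvd f
        (inf_le_right : (P : Subgroup ↥(Subgroup.centralizer ({b₀} : Set G))) ⊓ N ≤ N)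
      exact Nat.eq_one_of_dvd_coprimes (((Fact.out : p.Prime).coprime_iff_not_dvd.mpr hidx).pow_left i)
        h1 h2
    have hmem : q k ∈ N.map f := by
      refine ⟨⟨k * n, hkC⟩, ?_, hqkn⟩
      show q (k * n) ∈ Cfsg.pCore p (G ⧸ M)
      rw [hqkn]; exact hxb
    rw [← heq] at hmem
    obtain ⟨y, hy, hyk⟩ := hmem
    have hyk' : q (y : G) = q k := hyk
    refine ⟨(y : G), ?_, hyk'⟩
    by_cases hy1 : (y : G) = 1
    · rw [hy1]; exact one_mem _
    have hyp : (y : G) ^ p = 1 := by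
      have h1 : (y : G) ^ p ∈ (((P : Subgroup ↥(Subgroup.centralizer ({b₀} : Set G))).map (Subgroup.centralizer ({b₀} : Set G)).subtype) ⊓ M : Subgroup G) := by
        refine Subgroup.mem_inf.mpr ⟨⟨y ^ p, pow_mem (Subgroup.mem_inf.mp hy).1 p, by simp⟩, ?_⟩
        rw [← QuotientGroup.eq_one_iff (N := M)]
        show q ((y : G) ^ p) = 1
        rw [map_pow, hyk', hxbp]
      rw [Cfsg.Agent.PLocal.Cores.inf_eq_bot_of_isPGroup_of_coprime (P.2.map _)
        Cfsg.Agent.PLocal.Cores.coprime_card_pPrimeCore, Subgroup.mem_bot] at h1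
      exact h1
    rw [hBP]
    exact Subgroup.subset_closure ⟨⟨y, (Subgroup.mem_inf.mp hy).1, rfl⟩, orderOf_eq_prime hyp hy1⟩
  · rintro _ ⟨b, hb, rfl⟩ _ ⟨x, hx, rfl⟩
    exact ⟨b * x * b⁻¹, hinv b hb x hx, by simp⟩

end Cfsg.Agent.S1902
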