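import Cfsg.Statements.S1903
import Cfsg.Agent.Techniques.Order320.Abstract
import Cfsg.Agent.Techniques.Order320.Model

set_option autoImplicit false
open Cfsg

namespace Cfsg.Agent.S1903

/-- A finite group of order 320 whose derived subgroup has order 64 and has centre a Klein four-group is isomorphic to the centralizer of an involution in PSU₃(4). -/
theorem result {G : Type*} [Group G] [Finite G] (hG : Nat.card G = 320) (hD : Nat.card (commutator G) = 64)
    (hZ : IsKleinFour (Subgroup.center (commutator G)))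
    {F : Type*} [Field F] [Fintype F] (hF : Fintype.card F = 16) :
    ∃ t : Cfsg.PSU 3 F 4, orderOf t = 2 ∧ Nonempty (G ≃* Subgroup.centralizer ({t} : Set (Cfsg.PSU 3 F 4))) := by
  classical
  have hF' : Fintype.card F = 4 ^ 2 := by rw [hF]; norm_num
  obtain ⟨c, e, hR, hgen⟩ := Techniques.Order320.exists_rel hG hD hZ
  obtain ⟨t, c', e', ht, hR', hK, hKZ⟩ := Techniques.Order320.exists_centralizer (F := F) hF'
  set K := Subgroup.closure ({c', e'} : Set (Cfsg.SU 3 F 4))
  have hc' : c' ∈ K := Subgroup.subset_closure (Or.inl rfl)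
  have he' : e' ∈ K := Subgroup.subset_closure (Or.inr rfl)
  have hR'' : Techniques.Order320.Rel (⟨c', hc'⟩ : K) ⟨e', he'⟩ := by
    constructor
    exacts [Subtype.ext hR'.c5, Subtype.ext hR'.e4, Subtype.ext hR'.ce, Subtype.ext hR'.cA, Subtype.ext hR'.cB,
      Subtype.ext hR'.eA, Subtype.ext hR'.eB, Subtype.ext hR'.A2, Subtype.ext hR'.B2, Subtype.ext hR'.prod]
  have hgen' : Subgroup.closure ({⟨c', hc'⟩, ⟨e', he'⟩} : Set K) = ⊤ := by
    apply Subgroup.map_injective K.subtype_injective
    rw [MonoidHom.map_closure, ← MonoidHom.range_eq_map, Subgroup.range_subtype, Set.image_pair]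
    rfl
  obtain ⟨φ⟩ := Techniques.Order320.nonempty_equiv hR hR'' hgen hgen' hG hK
  have hb : Subgroup.center (Cfsg.SU 3 F 4) = ⊥ :=
    Subgroup.eq_bot_of_card_eq _ (by rw [Cfsg.Agent.Classical.Unitary.natCard_center hF' (by norm_num)]; norm_num)
  let ψ : Cfsg.SU 3 F 4 ≃* Cfsg.PSU 3 F 4 :=
    ((QuotientGroup.quotientMulEquivOfEq hb).trans QuotientGroup.quotientBot).symm
  refine ⟨ψ t, by rw [MulEquiv.orderOf_eq, ht], ⟨φ.trans ((ψ.subgroupMap K).trans (MulEquiv.subgroupCongr ?_))⟩⟩
  rw [hKZ]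
  ext x
  rw [Subgroup.mem_centralizer_singleton_iff, Subgroup.mem_map]
  constructor
  · rintro ⟨y, hy, rfl⟩
    rw [Subgroup.mem_centralizer_singleton_iff] at hy
    show ψ y * ψ t = ψ t * ψ y
    rw [← map_mul, hy, map_mul]
  · intro hx
    refine ⟨ψ.symm x, ?_, ψ.apply_symm_apply x⟩
    rw [Subgroup.mem_centralizer_singleton_iff, ← ψ.injective.eq_iff, map_mul, map_mul, MulEquiv.apply_symm_apply]
    exact hx

end Cfsg.Agent.S1903
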