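import Cfsg.Statements.S1904
import Cfsg.Agent.Lib.Components.SmallScn.Fixed

set_option autoImplicit false
open Cfsg

namespace Cfsg.Agent.S1904

/-- Let X be a finite nonabelian 2-group with no normal abelian subgroup that is self-centralizing and contains an elementary abelian subgroup of order 8. Suppose a group A of automorphisms of X of odd order satisfies [X, A] = X. Then X is the quaternion group of order 8, or X is special of order 64 with exactly three involutions, all central, or X is extraspecial of order 32 with exactly eleven involutions (the central product of a quaternion group and a dihedral group of order 8). -/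
theorem result {X : Type*} [Group X] [Finite X] (hX : IsPGroup 2 X) (hna : ¬ IsMulCommutative X)
    (hscn : ¬ ∃ A : Subgroup X, A.Normal ∧ Subgroup.centralizer (A : Set X) = A ∧
      ∃ E : Subgroup X, E ≤ A ∧ Cfsg.IsElementaryAbelian 2 E ∧ Nat.card E = 8)
    (A : Subgroup (MulAut X)) (hA : Odd (Nat.card A))
    (hXA : Subgroup.closure {g : X | ∃ φ ∈ A, ∃ x : X, g = x⁻¹ * φ x} = ⊤) :
    Nonempty (X ≃* QuaternionGroup 2) ∨
      (Cfsg.IsSpecial 2 X ∧ Nat.card X = 64 ∧ Nat.card {x : X // orderOf x = 2} = 3 ∧
        ∀ x : X, orderOf x = 2 → x ∈ Subgroup.center X) ∨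
      (Cfsg.IsExtraspecial 2 X ∧ Nat.card X = 32 ∧ Nat.card {x : X // orderOf x = 2} = 11) := by
  classical
  have hnab : ¬ ∀ a b : X, a * b = b * a := fun h => hna ⟨⟨h⟩⟩
  by_cases hall : ∀ C : Subgroup X, C.Normal → (∀ a ∈ C, ∀ b ∈ C, a * b = b * a) →
      (∀ ψ ∈ A, ∀ c ∈ C, ψ c ∈ C) → ∀ ψ ∈ A, ∀ c ∈ C, ψ c = c
  · have hne : ∃ a b : X, Cfsg.Agent.Components.SmallScn.cm a b ≠ 1 := by
      by_contra! h
      exact hnab fun a b => Cfsg.Agent.Components.SmallScn.cm_eq_one_iff.mp (h a b)
    have h : Cfsg.Agent.Components.SmallScn.FixSetup A := ⟨hX, hne, hscn, hA, hXA, hall⟩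
    rcases h.card_center with e | e
    · rcases h.of_center_two e with hq | hx
      · exact Or.inl hq
      · exact Or.inr (Or.inr hx)
    · exact Or.inr (Or.inl (h.of_center_four e))
  · push Not at hall
    obtain ⟨C, hn, hc, hi, φ, hφ, c, hcC, hmove⟩ := hall
    haveI := hn
    obtain ⟨W, hW⟩ := Cfsg.Agent.Components.SmallScn.exists_setup hX hscn A hA hXA C hc hi hφ hcC hmove
    exact Or.inr (Or.inl (Cfsg.Agent.Components.SmallScn.special_of_setup hW hnab))

end Cfsg.Agent.S1904
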