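import Cfsg.Statements.S1905
import Cfsg.Agent.Lib.Involutions.StronglyEmbedded
import Cfsg.Agent.Lib.Transfer.Fusion

set_option autoImplicit false
open Cfsg

namespace Cfsg.Agent.S1905

open Cfsg.Agent.Involutions.StronglyEmbedded Cfsg.Agent.Involutions.Basic

/-- Let M be a subgroup of even order of a finite group S such that M contains the centralizer in S of each of its involutions and the normal core of M in S has odd order. Then all involutions of S are conjugate. If moreover N_S(X) ≤ M for a Sylow 2-subgroup X of M and I is an involution in the centre of X, then all involutions of M are conjugate in M and M = M₀ C_M(I) for some subgroup M₀ of M of odd order. -/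
theorem result {S : Type*} [Group S] [Finite S] (M : Subgroup S) (hM : Even (Nat.card M))
    (hC : ∀ i ∈ M, orderOf i = 2 → Subgroup.centralizer ({i} : Set S) ≤ M) (hcore : Odd (Nat.card M.normalCore)) :
    (∀ x y : S, orderOf x = 2 → orderOf y = 2 → IsConj x y) ∧
      ∀ (X : Sylow 2 M) (I : M), I ∈ (Subgroup.center ↥(X : Subgroup ↥M)).map (X : Subgroup ↥M).subtype → orderOf I = 2 →
        Subgroup.normalizer (((X : Subgroup M).map M.subtype : Subgroup S) : Set S) ≤ M →
        (∀ x y : M, orderOf x = 2 → orderOf y = 2 → IsConj x y) ∧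
          ∃ M₀ : Subgroup M, Odd (Nat.card M₀) ∧
            ∀ m : M, ∃ a ∈ M₀, ∃ c ∈ Subgroup.centralizer ({I} : Set M), m = a * c := by
  have : Fact (Nat.Prime 2) := ⟨Nat.prime_two⟩
  have hinner : ∀ {i g : S}, i ∈ M → orderOf i = 2 → Commute g i → g ∈ M := fun {i g} hi hi2 hg =>
    hC i hi hi2 (Subgroup.mem_centralizer_singleton_iff.mpr hg)
  have hne : M ≠ ⊤ := by
    intro h
    have hcard : Nat.card M.normalCore = Nat.card M := by
      have : M.Normal := by rw [h]; infer_instance
      rw [Subgroup.normalCore_eq_self]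
    rw [hcard] at hcore
    exact Nat.not_even_iff_odd.mpr hcore hM
  obtain ⟨t, htM, ht⟩ := exists_involution_mem (H := M) hM
  obtain ⟨u, huM, hu⟩ : ∃ u ∉ M, orderOf u = 2 := by
    by_contra h
    push Not at h
    have hall : ∀ u : S, orderOf u = 2 → u ∈ M := fun u hu => by_contra fun hn => h u hn hu
    have htc : t ∈ M.normalCore := fun g => hall _ (by rw [orderOf_conj]; exact ht)
    have hd := orderOf_dvd_natCard (⟨t, htc⟩ : M.normalCore)
    rw [Subgroup.orderOf_mk, ht] at hd
    obtain ⟨k, hk⟩ := hcore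
    omega
  have hodd : ∀ {a b : S}, orderOf a = 2 → a ∈ M → orderOf b = 2 → b ∉ M → Odd (orderOf (a * b)) := by
    intro a b ha haM hb hbM
    by_contra hodd
    rw [Nat.not_odd_iff_even] at hodd
    obtain ⟨hz2, hza, hzb⟩ := middle_involution ha hb hodd
    exact hbM (hinner (hinner haM ha hza) hz2 hzb.symm)
  refine ⟨?_, ?_⟩
  · have hio : ∀ {a b : S}, orderOf a = 2 → a ∈ M → orderOf b = 2 → b ∉ M → IsConj a b := by
      intro a b ha haM hb hbM
      obtain ⟨d, -, hd⟩ := exists_conj_of_odd ha hb (hodd ha haM hb hbM)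
      exact isConj_iff.mpr ⟨d, hd⟩
    have key : ∀ x : S, orderOf x = 2 → IsConj x t := by
      intro x hx
      by_cases hxM : x ∈ M
      · exact (hio hx hxM hu huM).trans (hio ht htM hu huM).symm
      · exact (hio ht htM hx hxM).symm
    exact fun x y hx hy => (key x hx).trans (key y hy).symm
  intro X I _ hI hN
  -- every Sylow 2-subgroup of the group containing an involution of M lies in M
  have hsyl : ∀ (P : Sylow 2 S) (a : S), a ∈ P → a ∈ M → orderOf a = 2 → (P : Subgroup S) ≤ M := by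
    intro P a haP haM ha
    have hPne : Nontrivial ↥(P : Subgroup S) := by
      refine ⟨⟨⟨a, haP⟩, 1, fun h => ?_⟩⟩
      have h' : a = 1 := congrArg Subtype.val h
      rw [h', orderOf_one] at ha
      omega
    have hZ : Nontrivial (Subgroup.center ↥(P : Subgroup S)) := P.2.center_nontrivial
    obtain ⟨k, hk0, hk⟩ := (P.2.to_subgroup (Subgroup.center ↥(P : Subgroup S))).nontrivial_iff_card.mp hZ
    obtain ⟨z, hz⟩ := exists_prime_orderOf_dvd_card'
      (G := Subgroup.center ↥(P : Subgroup S)) 2 (hk ▸ dvd_pow_self 2 hk0.ne')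
    have hz2 : orderOf ((z : ↥(P : Subgroup S)) : S) = 2 := by
      rw [Subgroup.orderOf_coe, Subgroup.orderOf_coe, hz]
    have hcomm : ∀ g ∈ (P : Subgroup S), Commute g ((z : ↥(P : Subgroup S)) : S) := fun g hg =>
      congrArg Subtype.val (Subgroup.mem_center_iff.mp z.2 ⟨g, hg⟩)
    have hzM := hinner haM ha (hcomm a haP).symm
    exact fun g hg => hinner hzM hz2 (hcomm g hg)
  have hX1 : (X : Subgroup M).map M.subtype ≠ ⊥ := by
    rw [Ne, Subgroup.map_eq_bot_iff_of_injective _ M.subtype_injective]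
    intro h
    have hdvd : 2 ∣ Nat.card ↥(X : Subgroup M) := X.dvd_card_of_dvd_card (even_iff_two_dvd.mp hM)
    rw [h, Subgroup.card_bot] at hdvd
    omega
  obtain ⟨P, hXP⟩ := (X.2.map M.subtype).exists_le_sylow
  have hPX : (P : Subgroup S) ≤ M ∧ Subgroup.normalizer ((P : Subgroup S) : Set S) ≤ M := by
    obtain ⟨a, haX, ha⟩ : ∃ a ∈ (X : Subgroup M).map M.subtype, orderOf a = 2 := by
      refine exists_involution_mem ?_
      obtain ⟨k, hk0, hk⟩ := (X.2.map M.subtype).nontrivial_iff_card.mp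
        ((Subgroup.nontrivial_iff_ne_bot _).mpr hX1)
      rw [hk, Nat.even_pow]
      exact ⟨even_two, hk0.ne'⟩
    have hPM : (P : Subgroup S) ≤ M := hsyl P a (hXP haX) (Subgroup.map_subtype_le _ haX) ha
    refine ⟨hPM, ?_⟩
    have heq : (P : Subgroup S).subgroupOf M = (X : Subgroup M) :=
      X.3 (P.2.comap_subtype) (fun x hx => Subgroup.mem_subgroupOf.mpr (hXP ⟨x, hx, rfl⟩))
    rwa [← Subgroup.map_subgroupOf_eq_of_le hPM, heq]
  have hH : Cfsg.IsStronglyEmbedded M := by
    refine of_conj hne hM fun a haM ha g hga => ?_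
    obtain ⟨Q, hQ⟩ := (IsPGroup.of_card (p := 2) (n := 1)
      (by rw [Nat.card_zpowers, ha, pow_one] : Nat.card (Subgroup.zpowers a) = 2 ^ 1)).exists_le_sylow
    have haQ : a ∈ Q := hQ (Subgroup.mem_zpowers a)
    have hQM := hsyl Q a haQ haM ha
    have hQ'M : ((g • Q : Sylow 2 S) : Subgroup S) ≤ M := hsyl (g • Q) (g * a * g⁻¹)
      (by rw [Transfer.Fusion.mem_smul_sylow_iff]; simpa [mul_assoc] using haQ) hga (by rw [orderOf_conj, ha])
    obtain ⟨m, hm, hme⟩ := Transfer.Fusion.exists_conj_eq_of_le hPX.1 hQM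
    obtain ⟨m', hm', hme'⟩ := Transfer.Fusion.exists_conj_eq_of_le hPX.1 hQ'M
    have hmem : m'⁻¹ * g * m ∈ Subgroup.normalizer ((P : Subgroup S) : Set S) := by
      rw [← Transfer.Fusion.map_conj_eq_self_iff, Transfer.Fusion.map_conj_mul, hme,
        Transfer.Fusion.map_conj_mul, ← Transfer.Fusion.coe_smul_eq_map Q g, ← hme',
        Transfer.Fusion.map_conj_inv_cancel]
    have := M.mul_mem (M.mul_mem hm' (hPX.2 hmem)) (M.inv_mem hm)
    rwa [show m' * (m'⁻¹ * g * m) * m⁻¹ = g by group] at this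
  refine ⟨?_, ?_⟩
  · intro a b ha hb
    rw [← Subgroup.orderOf_coe] at ha hb
    obtain ⟨d, hd, hde⟩ := exists_conj_in_inter hH hu huM ha a.2 hb b.2
    exact isConj_iff.mpr ⟨⟨d, hd.1⟩, Subtype.ext hde⟩
  · refine ⟨(M ⊓ M.map (MulAut.conj u).toMonoidHom).subgroupOf M, ?_, ?_⟩
    · rw [Nat.card_congr (Subgroup.subgroupOfEquivOfLe inf_le_left).toEquiv]
      exact hH.2.2 u huM
    · intro m
      rw [← Subgroup.orderOf_coe] at hI
      obtain ⟨d, hd, hde⟩ := exists_conj_in_inter hH hu huM hI I.2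
        (t := (m : S) * I * (m : S)⁻¹) (by rw [orderOf_conj, hI])
        (M.mul_mem (M.mul_mem m.2 I.2) (M.inv_mem m.2))
      refine ⟨⟨d, hd.1⟩, Subgroup.mem_subgroupOf.mpr hd, (⟨d, hd.1⟩ : M)⁻¹ * m, ?_, by group⟩
      rw [Subgroup.mem_centralizer_singleton_iff]
      apply Subtype.ext
      show d⁻¹ * (m : S) * I = I * (d⁻¹ * (m : S))
      calc d⁻¹ * (m : S) * I = d⁻¹ * ((m : S) * I * (m : S)⁻¹) * m := by group
        _ = d⁻¹ * (d * I * d⁻¹) * m := by rw [hde]
        _ = _ := by group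

end Cfsg.Agent.S1905
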