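import Cfsg.Statements.S1906
import Mathlib

set_option autoImplicit false
open Cfsg

namespace Cfsg.Agent.S1906

open MulAction Subgroup Subgroup.leftTransversals

theorem span_common_eigen {F V : Type*} [Field F] [AddCommGroup V] [Module F V] (h2 : (2 : F) ≠ 0)
    {ι : Type*} (T : ι → V →ₗ[F] V) (hcomm : ∀ i j v, T i (T j v) = T j (T i v))
    (hinv : ∀ i v, T i (T i v) = v) (s : Finset ι) :
    Submodule.span F {v : V | ∀ i ∈ s, T i v = v ∨ T i v = -v} = ⊤ := by
  classical
  induction s using Finset.induction with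
  | empty => simp
  | @insert a s ha ih =>
    rw [eq_top_iff, ← ih, Submodule.span_le]
    intro v hv
    have hsgn : ∀ (c : F), c = 1 ∨ c = -1 → v + c • T a v ∈
        {v : V | ∀ i ∈ insert a s, T i v = v ∨ T i v = -v} := by
      intro c hc i hi
      rcases Finset.mem_insert.1 hi with rfl | hi
      · rw [map_add, map_smul, hinv]
        rcases hc with rfl | rfl
        · exact .inl (by module)
        · exact .inr (by module)
      · rw [map_add, map_smul, hcomm]
        rcases hv i hi with h | h <;> rw [h]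
        · exact .inl rfl
        · exact .inr (by rw [map_neg]; module)
    have hv2 : v = (2 : F)⁻¹ • ((v + (1 : F) • T a v) + (v + (-1 : F) • T a v)) := by
      rw [show (v + (1 : F) • T a v) + (v + (-1 : F) • T a v) = (2 : F) • v by module, smul_smul,
        inv_mul_cancel₀ h2, one_smul]
    rw [SetLike.mem_coe, hv2]
    exact Submodule.smul_mem _ _ (Submodule.add_mem _ (Submodule.subset_span (hsgn 1 (.inl rfl)))
      (Submodule.subset_span (hsgn (-1) (.inr rfl))))

/-- Transfer: a central involution whose normaliser-conjugates all have odd sign. -/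
theorem exists_index_two {G A : Type*} [Group G] [Finite G] [CommGroup A] [IsCyclic A] [Finite A]
    (P : Subgroup G) (hX : IsPGroup 2 P) (hidx : ¬ 2 ∣ P.index) (ζ : P →* A) (m : A) (hm : m ≠ 1) (hm2 : m * m = 1)
    (huniq : ∀ a : A, a * a = 1 → a = 1 ∨ a = m) (z : G) (hz : z ∈ P)
    (hz2 : z * z = 1) (hzc : ∀ x ∈ P, x * z = z * x)
    (hfix : ∀ c : P, c * c = 1 → (∀ y, y * c = c * y) →
      (∃ g : G, g⁻¹ * z * g = (c : G) ∧ ∀ x ∈ P, g⁻¹ * x * g ∈ P) → ζ c = m) :
    ∃ H : Subgroup G, H.index = 2 := by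
  classical
  letI : Fintype (G ⧸ P) := Fintype.ofFinite _
  let T : P.LeftTransversal := default
  let t : G ⧸ P → G := fun q => (T.2.leftQuotientEquiv q : G)
  have ht : ∀ q : G ⧸ P, (t q : G ⧸ P) = q := fun q => Subgroup.IsComplement.quotientGroupMk_leftQuotientEquiv T.2 q
  have hzinv : z⁻¹ = z := inv_eq_of_mul_eq_one_right hz2
  have hzz : ∀ q : G ⧸ P, z • (z • q) = q := fun q => by rw [smul_smul, hz2, one_smul]
  have hmem : ∀ q : G ⧸ P, (t q)⁻¹ * (z * t (z • q)) ∈ P := fun q => by
    rw [← QuotientGroup.eq, ht]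
    rw [show ((z * t (z • q) : G) : G ⧸ P) = z • ((t (z • q) : G) : G ⧸ P) from rfl, ht, hzz]
  set term : G ⧸ P → A := fun q => ζ ⟨_, hmem q⟩ with hterm
  have hv : ζ.transfer z = ∏ q : G ⧸ P, term q := by
    rw [MonoidHom.transfer_def ζ T z]
    refine Finset.prod_congr (Finset.ext fun _ => by simp) fun q _ => ?_
    refine congrArg ζ (Subtype.ext ?_)
    show (t q)⁻¹ * _ = (t q)⁻¹ * (z * t (z • q))
    rw [smul_apply_eq_smul_apply_inv_smul, hzinv]
    rfl
  -- moved points
  have hmoved : ∏ q ∈ Finset.univ.filter (fun q : G ⧸ P => z • q ≠ q), term q = 1 := by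
    refine Finset.prod_involution (fun q _ => z • q) (fun q _ => ?_) (fun q hq _ => (Finset.mem_filter.1 hq).2)
      (fun q hq => Finset.mem_filter.2 ⟨Finset.mem_univ _, by
        rw [hzz]; exact Ne.symm (Finset.mem_filter.1 hq).2⟩) (fun q _ => hzz q)
    simp only [term, ← map_mul]
    refine (congrArg ζ (Subtype.ext ?_)).trans (map_one ζ)
    simp only [Subgroup.coe_mul, Subgroup.coe_one]
    rw [show t (z • z • q) = t q by rw [hzz]]
    simp [mul_assoc, ← mul_assoc z z, hz2]
  -- fixed points
  have hsq : ∀ q : G ⧸ P, z • q = q → term q * term q = 1 := fun q hq => by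
    simp only [term, ← map_mul]
    refine (congrArg ζ (Subtype.ext ?_)).trans (map_one ζ)
    simp only [Subgroup.coe_mul, Subgroup.coe_one, hq]
    simp [mul_assoc, ← mul_assoc z z, hz2]
  set B : Finset (G ⧸ P) := Finset.univ.filter (fun q => z • q = q ∧ term q = m) with hB
  have hfixprod : ∏ q ∈ Finset.univ.filter (fun q : G ⧸ P => z • q = q), term q = m ^ B.card := by
    rw [← Finset.prod_filter_mul_prod_filter_not _ (fun q => term q = m), Finset.filter_filter,
      Finset.filter_filter, ← hB, Finset.prod_congr rfl (fun q hq => (Finset.mem_filter.1 hq).2.2),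
      Finset.prod_const]
    rw [Finset.prod_eq_one, mul_one]
    intro q hq
    obtain ⟨hq1, hq2⟩ := (Finset.mem_filter.1 hq).2
    exact (huniq _ (hsq q hq1)).resolve_right hq2
  -- `B` is invariant
  have hBinv : ∀ (x : P) (q : G ⧸ P), q ∈ B → (x : G) • q ∈ B := by
    intro x q hq
    obtain ⟨hq1, hq2⟩ := (Finset.mem_filter.1 hq).2
    have hq1' : z • ((x : G) • q) = (x : G) • q := by
      rw [smul_smul, ← hzc x x.2, ← smul_smul, hq1]
    refine Finset.mem_filter.2 ⟨Finset.mem_univ _, hq1', ?_⟩
    obtain ⟨h, hh, hte⟩ : ∃ h ∈ P, t ((x : G) • q) = (x : G) * t q * h := by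
      refine ⟨((x : G) * t q)⁻¹ * t ((x : G) • q), QuotientGroup.eq.1 ?_, by group⟩
      rw [ht, show (((x : G) * t q : G) : G ⧸ P) = (x : G) • ((t q : G) : G ⧸ P) from rfl, ht]
    have hconj : (t ((x : G) • q))⁻¹ * (z * t ((x : G) • q)) = h⁻¹ * ((t q)⁻¹ * (z * t q)) * h := by
      rw [hte]
      have := hzc x x.2
      calc ((x : G) * t q * h)⁻¹ * (z * ((x : G) * t q * h))
          = h⁻¹ * (t q)⁻¹ * ((x : G)⁻¹ * (z * (x : G))) * t q * h := by group
        _ = h⁻¹ * (t q)⁻¹ * z * t q * h := by rw [← this]; group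
        _ = _ := by group
    rw [← hq2]
    simp only [term]
    have hel : (⟨_, hmem ((x : G) • q)⟩ : P) = (⟨h, hh⟩ : P)⁻¹ * ⟨_, hmem q⟩ * ⟨h, hh⟩ := by
      apply Subtype.ext
      simp only [Subgroup.coe_mul, Subgroup.coe_inv, hq1, hq1', hconj]
    rw [hel, map_mul, map_mul, map_inv, mul_comm, mul_inv_cancel_left]
  let Bs : SubMulAction P (G ⧸ P) := ⟨(B : Set (G ⧸ P)), fun x q hq => hBinv x q hq⟩
  have hfixB : ∀ q : G ⧸ P, q ∈ MulAction.fixedPoints P (G ⧸ P) → q ∈ B := by
    intro q hq
    have hq1 : z • q = q := hq ⟨z, hz⟩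
    refine Finset.mem_filter.2 ⟨Finset.mem_univ _, hq1, ?_⟩
    simp only [term]
    refine hfix _ ?_ ?_ ⟨t q, ?_, ?_⟩
    · apply Subtype.ext
      simp only [Subgroup.coe_mul, Subgroup.coe_one, hq1]
      simp [mul_assoc, ← mul_assoc z z, hz2]
    all_goals
      have hn : ∀ x ∈ P, (t q)⁻¹ * x * t q ∈ P := fun x hx => by
        rw [mul_assoc, ← QuotientGroup.eq, ht,
          show ((x * t q : G) : G ⧸ P) = x • ((t q : G) : G ⧸ P) from rfl, ht]
        exact (hq ⟨x, hx⟩).symm
    · intro y
      apply Subtype.ext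
      simp only [Subgroup.coe_mul, hq1]
      have hsurj : ∃ x ∈ P, (t q)⁻¹ * x * t q = (y : G) := by
        have hinj : Function.Injective (fun x : P => (⟨_, hn x x.2⟩ : P)) := fun a b hab =>
          Subtype.ext (by simpa using congrArg Subtype.val hab)
        obtain ⟨x, hx⟩ := Finite.surjective_of_injective hinj y
        exact ⟨x, x.2, congrArg Subtype.val hx⟩
      obtain ⟨x, hx, hxy⟩ := hsurj
      rw [← hxy]
      calc (t q)⁻¹ * x * t q * ((t q)⁻¹ * (z * t q)) = (t q)⁻¹ * (x * z) * t q := by group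
        _ = (t q)⁻¹ * (z * t q) * ((t q)⁻¹ * x * t q) := by rw [hzc x hx]; group
    · simp only [hq1]; group
    · exact hn
  have hodd : ¬ 2 ∣ B.card := by
    have h1 : Nat.card Bs ≡ Nat.card (MulAction.fixedPoints P Bs) [MOD 2] :=
      hX.card_modEq_card_fixedPoints Bs
    have h2 : Nat.card (G ⧸ P) ≡ Nat.card (MulAction.fixedPoints P (G ⧸ P)) [MOD 2] :=
      hX.card_modEq_card_fixedPoints (G ⧸ P)
    have h3 : Nat.card (MulAction.fixedPoints P Bs) = Nat.card (MulAction.fixedPoints P (G ⧸ P)) :=
      Nat.card_congr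
        { toFun := fun q => ⟨q.1.1, fun x => congrArg Subtype.val (q.2 x)⟩
          invFun := fun q => ⟨⟨q.1, hfixB q.1 q.2⟩, fun x => Subtype.ext (q.2 x)⟩
          left_inv := fun q => rfl
          right_inv := fun q => rfl }
    have h4 : Nat.card Bs = B.card := Nat.card_eq_finsetCard B
    have h5 : ¬ 2 ∣ Nat.card (G ⧸ P) := hidx
    intro hdvd
    apply h5
    rw [← h4] at hdvd
    rw [h3] at h1
    exact ((h1.trans h2.symm).dvd_iff dvd_rfl).1 hdvd
  have hvm : ζ.transfer z = m := by
    rw [hv, ← Finset.prod_filter_mul_prod_filter_not _ (fun q : G ⧸ P => z • q = q), hfixprod,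
      hmoved, mul_one]
    obtain ⟨k, hk⟩ := Nat.odd_iff.2 (Nat.two_dvd_ne_zero.1 hodd)
    rw [hk, pow_succ, pow_mul, sq, hm2, one_pow, one_mul]
  -- a quotient of order two
  set R := (ζ.transfer).range
  obtain ⟨g, hg⟩ := IsCyclic.exists_generator (α := R)
  have hR2 : 2 ∣ Nat.card R := by
    have : orderOf (⟨m, z, hvm⟩ : R) = 2 := orderOf_eq_prime (by rw [sq]; exact Subtype.ext hm2)
      (fun h => hm (congrArg Subtype.val h))
    exact this ▸ orderOf_dvd_natCard _
  set w : G →* R := (powMonoidHom (Nat.card R / 2)).comp ζ.transfer.rangeRestrict with hw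
  refine ⟨w.ker, ?_⟩
  rw [Subgroup.index_ker, hw, MonoidHom.range_comp, MonoidHom.range_eq_top.2
    ζ.transfer.rangeRestrict_surjective, ← MonoidHom.range_eq_map]
  rw [IsCyclic.card_powMonoidHom_range]
  have h1 : 0 < Nat.card R := Nat.card_pos
  rw [Nat.gcd_eq_right (Nat.div_dvd_of_dvd hR2), Nat.div_div_self hR2 h1.ne']

theorem three_patterns : ∀ s t : Fin 3 → Bool, (xor (xor (s 0) (s 1)) (s 2)) = false →
    (xor (xor (t 0) (t 1)) (t 2)) = false → s ≠ (fun _ => false) → t ≠ (fun _ => false) → s ≠ t →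
    ∀ i j : Fin 3, i ≠ j → s i ≠ s j ∨ t i ≠ t j := by
  have key : ∀ a b c a' b' c' : Bool, (xor (xor a b) c) = false → (xor (xor a' b') c') = false →
      ¬(a = false ∧ b = false ∧ c = false) → ¬(a' = false ∧ b' = false ∧ c' = false) →
      ¬(a = a' ∧ b = b' ∧ c = c') → (a ≠ b ∨ a' ≠ b') ∧ (a ≠ c ∨ a' ≠ c') ∧ (b ≠ c ∨ b' ≠ c') := by
    decide
  intro s t h1 h2 h3 h4 h5 i j hij
  have ext3 : ∀ u v : Fin 3 → Bool, u 0 = v 0 ∧ u 1 = v 1 ∧ u 2 = v 2 → u = v := fun u v h => by
    funext k; fin_cases k <;> simp [h.1, h.2.1, h.2.2]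
  obtain ⟨k1, k2, k3⟩ := key _ _ _ _ _ _ h1 h2 (fun h => h3 (ext3 _ _ h)) (fun h => h4 (ext3 _ _ h))
    (fun h => h5 (ext3 _ _ h))
  fin_cases i <;> fin_cases j <;>
    first
      | exact absurd rfl hij
      | exact k1
      | exact k2
      | exact k3
      | exact k1.imp Ne.symm Ne.symm
      | exact k2.imp Ne.symm Ne.symm
      | exact k3.imp Ne.symm Ne.symm


/-- Let G be a finite group with no subgroup of index 2 whose Sylow 2-subgroup X embeds in GL₃(F) for a finite field F of odd order. If X contains an elementary abelian subgroup of order 8, then X is abelian. -/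
theorem result {G : Type*} [Group G] [Finite G] (hG : ∀ H : Subgroup G, H.index ≠ 2) (X : Sylow 2 G)
    {F : Type*} [Field F] [Fintype F] (hF : Odd (Fintype.card F))
    (f : ↥(X : Subgroup G) →* GL (Fin 3) F) (hf : Function.Injective f)
    (E : Subgroup G) (hE : E ≤ (X : Subgroup G)) (hEa : Cfsg.IsElementaryAbelian 2 E) (hE8 : Nat.card E = 8) :
    IsMulCommutative (X : Subgroup G) := by
  classical
  by_contra hna
  have h2F : (2 : F) ≠ 0 := fun h => by
    have : ringChar F = 2 := by
      have h2 : ringChar F ∣ 2 := ringChar.dvd (by exact_mod_cast h)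
      exact ((Nat.dvd_prime Nat.prime_two).1 h2).resolve_left (CharP.char_ne_one F (ringChar F))
    have h3 := FiniteField.even_card_of_char_two this
    rw [Nat.odd_iff] at hF
    omega
  have hneg : (-1 : F) ≠ 1 := fun h => h2F (by linear_combination -h)
  set E' := E.subgroupOf (X : Subgroup G) with hE'
  have hEsq : ∀ e : E', (e : (X : Subgroup G)) * e = 1 := fun e => by
    apply Subtype.ext
    have := hEa.2 ((e : (X : Subgroup G)) : G) e.2
    rw [sq] at this
    exact this
  have hEcomm : ∀ a b : E', (a : (X : Subgroup G)) * b = b * a := fun a b =>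
    Subtype.ext (congrArg Subtype.val (hEa.1.is_comm.comm (⟨_, a.2⟩ : E) (⟨_, b.2⟩ : E)) :)
  let L : ↥(X : Subgroup G) → (Fin 3 → F) →ₗ[F] (Fin 3 → F) := fun x =>
    Matrix.toLin' ((f x : GL (Fin 3) F) : Matrix (Fin 3) (Fin 3) F)
  have hL : ∀ x y v, L x (L y v) = L (x * y) v := fun x y v => by
    simp [L, map_mul, Matrix.toLin'_mul]
  haveI : Fintype E' := Fintype.ofFinite _
  have hspan := span_common_eigen h2F (fun e : E' => L e)
    (fun i j v => by rw [hL, hL, hEcomm i j])
    (fun i v => by rw [hL, hEsq i]; simp [L]) Finset.univ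
  obtain ⟨b, hbs, hbspan, hbli⟩ := exists_linearIndependent F
    {v : Fin 3 → F | ∀ i ∈ (Finset.univ : Finset E'), L i v = v ∨ L i v = -v}
  rw [hspan] at hbspan
  have hbtop : ⊤ ≤ Submodule.span F (Set.range ((↑) : b → Fin 3 → F)) := by
    rw [Subtype.range_coe]; exact hbspan.ge
  let B0 := Module.Basis.mk hbli hbtop
  haveI := Fintype.ofFinite b
  have hcard : Fintype.card b = 3 := by
    rw [← Module.finrank_eq_card_basis B0, Module.finrank_fin_fun]
  let B : Module.Basis (Fin 3) F (Fin 3 → F) := B0.reindex (Fintype.equivFinOfCardEq hcard)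
  have hBeig : ∀ (e : E') (i : Fin 3), L e (B i) = B i ∨ L e (B i) = -B i := fun e i => by
    have : B i ∈ b := by simp [B, B0]
    exact hbs this e (Finset.mem_univ _)
  -- matrices in the new basis
  let M : ↥(X : Subgroup G) → Matrix (Fin 3) (Fin 3) F := fun x => LinearMap.toMatrix B B (L x)
  have hMmul : ∀ x y, M (x * y) = M x * M y := fun x y => by
    simp only [M]
    rw [← LinearMap.toMatrix_comp B B B]
    exact congrArg _ (LinearMap.ext fun v => (hL x y v).symm)
  have hMone : M 1 = 1 := by simp [M, L]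
  have hMinj : Function.Injective M := fun x y h =>
    hf (Units.ext (Matrix.toLin'.injective ((LinearMap.toMatrix B B).injective h)))
  have hdiag : ∀ e : E', ∃ s : Fin 3 → Bool, M e = Matrix.diagonal fun i => if s i then -1 else 1 := by
    intro e
    refine ⟨fun i => decide (L e (B i) = -B i), ?_⟩
    ext i j
    simp only [M, LinearMap.toMatrix_apply]
    rcases hBeig e j with h | h
    · have hne : L e (B j) ≠ -B j := fun h' => by
        rw [h] at h'
        have h'' : ((2 : F)) • B j = 0 := by rw [two_smul]; exact add_eq_zero_iff_eq_neg.2 h'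
        exact (smul_eq_zero.1 h'').elim h2F (B.ne_zero j)
      rw [h]
      by_cases hij : i = j
      · subst hij; simp [hne]
      · simp [hij, Ne.symm hij]
    · rw [h, map_neg]
      by_cases hij : i = j
      · subst hij; simp [h]
      · simp [hij, Ne.symm hij]
  choose σ hσ using hdiag
  have hσinj : Function.Injective σ := fun a b h => Subtype.ext (hMinj (by rw [hσ, hσ, h]))
  have hσsurj : Function.Surjective σ := by
    have hc : Nat.card E' = 8 := by rw [Nat.card_congr (Subgroup.subgroupOfEquivOfLe hE).toEquiv, hE8]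
    exact ((Fintype.bijective_iff_injective_and_card σ).2
      ⟨hσinj, by rw [← Nat.card_eq_fintype_card, hc]; simp⟩).2
  have hinv2 : ∀ (g : Matrix (Fin 3) (Fin 3) F) (d : Fin 3 → F), g * Matrix.diagonal d = Matrix.diagonal d * g →
      ∀ i j, d i ≠ d j → g i j = 0 := fun g d h i j hd => by
    have h1 := congrFun (congrFun h i) j
    rw [Matrix.mul_diagonal, Matrix.diagonal_mul, mul_comm] at h1
    have h2 : (d i - d j) * g i j = 0 := by linear_combination -h1
    exact (mul_eq_zero.1 h2).resolve_left (sub_ne_zero.2 hd)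
  have hsep : ∀ i j : Fin 3, i ≠ j → ∃ e : E', σ e i ≠ σ e j := fun i j hij => by
    obtain ⟨e, he⟩ := hσsurj fun k => decide (k = i)
    exact ⟨e, by simp [he, Ne.symm hij]⟩
  have hsb : ∀ a b : Bool, a ≠ b → (if a then (-1 : F) else 1) ≠ (if b then -1 else 1) := by
    intro a b h; cases a <;> cases b <;> simp_all [hneg.symm]
  -- central involutions lie in `E`
  have hcE : ∀ c : (X : Subgroup G), c * c = 1 → (∀ y, y * c = c * y) → ∃ e : E', (e : (X : Subgroup G)) = c := by
    intro c hc2 hcc
    have hoff : ∀ i j, i ≠ j → M c i j = 0 := fun i j hij => by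
      obtain ⟨e, he⟩ := hsep i j hij
      refine hinv2 (M c) (fun i => if σ e i then -1 else 1) ?_ i j (hsb _ _ he)
      rw [← hσ, ← hMmul, ← hMmul, hcc]
    have hdia : M c = Matrix.diagonal fun i => M c i i := by
      ext i j
      by_cases h : i = j
      · subst h; simp
      · simp [h, hoff i j h]
    have hsq : ∀ i, M c i i = 1 ∨ M c i i = -1 := fun i => by
      have h1 := hMmul c c
      rw [hc2, hMone, hdia, Matrix.diagonal_mul_diagonal] at h1
      have h2 := congrFun (congrFun h1 i) i
      simp only [Matrix.one_apply_eq, Matrix.diagonal_apply_eq] at h2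
      exact mul_self_eq_one_iff.1 h2.symm
    obtain ⟨e, he⟩ := hσsurj fun i => decide (M c i i = -1)
    refine ⟨e, hMinj ?_⟩
    rw [hσ, he, hdia]
    congr 1
    funext i
    rcases hsq i with h | h <;> simp [h, hneg, hneg.symm]
  -- determinants
  let ζ : ↥(X : Subgroup G) →* Fˣ := Matrix.GeneralLinearGroup.det.comp f
  have hζM : ∀ x, (ζ x : F) = (M x).det := fun x => by
    simp only [M, LinearMap.det_toMatrix, L, LinearMap.det_toLin']
    rfl
  have hζsign : ∀ e : E', ζ e = -1 ∨ (ζ e = 1 ∧ (xor (xor (σ e 0) (σ e 1)) (σ e 2)) = false) := fun e => by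
    have h := hζM e
    rw [hσ, Matrix.det_diagonal, Fin.prod_univ_three] at h
    rcases Bool.eq_false_or_eq_true (σ e 0) with a | a <;>
      rcases Bool.eq_false_or_eq_true (σ e 1) with b | b <;>
        rcases Bool.eq_false_or_eq_true (σ e 2) with c | c <;>
          simp only [a, b, c, if_true, Bool.false_eq_true, if_false, mul_neg, mul_one, neg_neg] at h <;>
          first
            | exact .inl (Units.ext h)
            | exact .inr ⟨Units.ext h, by simp [a, b, c]⟩
  -- two central involutions of determinant one make `X` abelian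
  have hone : ∀ a c : (X : Subgroup G), a * a = 1 → c * c = 1 → (∀ y, y * a = a * y) →
      (∀ y, y * c = c * y) → a ≠ 1 → c ≠ 1 → ζ a = 1 → ζ c = 1 → a = c := by
    intro a c ha hc hac hcc ha1 hc1 hζa hζc
    by_contra hne
    apply hna
    obtain ⟨ea, rfl⟩ := hcE a ha hac
    obtain ⟨ec, rfl⟩ := hcE c hc hcc
    have hm1 : (-1 : Fˣ) ≠ 1 := fun h => hneg (by simpa using congrArg Units.val h)
    have hpa : (xor (xor (σ ea 0) (σ ea 1)) (σ ea 2)) = false :=
      ((hζsign ea).resolve_left (by rw [hζa]; exact hm1.symm)).2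
    have hpc : (xor (xor (σ ec 0) (σ ec 1)) (σ ec 2)) = false :=
      ((hζsign ec).resolve_left (by rw [hζc]; exact hm1.symm)).2
    have hσne : ∀ e : E', (e : (X : Subgroup G)) ≠ 1 → σ e ≠ fun _ => false := fun e he h =>
      he (hMinj (by rw [hσ, h, hMone]; simp))
    have hsp := three_patterns _ _ hpa hpc (hσne _ ha1) (hσne _ hc1)
      (fun h => hne (congrArg _ (hσinj h)))
    have hoff : ∀ x, M x = Matrix.diagonal fun i => M x i i := fun x => by
      ext i j
      by_cases h : i = j
      · subst h; simp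
      · rw [Matrix.diagonal_apply_ne _ h]
        rcases hsp i j h with h' | h'
        · exact hinv2 _ _ (by rw [← hσ, ← hMmul, ← hMmul, hac]) i j (hsb _ _ h')
        · exact hinv2 _ _ (by rw [← hσ, ← hMmul, ← hMmul, hcc]) i j (hsb _ _ h')
    exact ⟨⟨fun x y => hMinj (by
      rw [hMmul, hMmul, hoff x, hoff y, Matrix.diagonal_mul_diagonal, Matrix.diagonal_mul_diagonal]
      congr 1; funext i; ring)⟩⟩
  -- a central involution in the derived subgroup
  obtain ⟨c0, hc0d, hc02, hc0c, hc01⟩ : ∃ c : (X : Subgroup G), c ∈ commutator (X : Subgroup G) ∧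
      c * c = 1 ∧ (∀ y, y * c = c * y) ∧ c ≠ 1 := by
    have hpg : IsPGroup 2 (X : Subgroup G) := X.isPGroup'
    have hne : commutator (X : Subgroup G) ≠ ⊥ := fun h => hna ⟨⟨fun a b => by
      have := Subgroup.commutator_mem_commutator (Subgroup.mem_top a) (Subgroup.mem_top b)
      rw [← _root_.commutator_def, h, Subgroup.mem_bot, commutatorElement_eq_one_iff_mul_comm] at this
      exact this⟩⟩
    haveI : Nontrivial (commutator (X : Subgroup G)) := (Subgroup.nontrivial_iff_ne_bot _).2 hne
    obtain ⟨n, hn, hcard⟩ := IsPGroup.nontrivial_iff_card (hpg.to_subgroup (commutator (X : Subgroup G))) |>.1 inferInstance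
    have hdvd : 2 ∣ Nat.card (commutator (X : Subgroup G)) := by
      rw [hcard]; exact dvd_pow_self 2 hn.ne'
    letI : MulAction (X : Subgroup G) (commutator (X : Subgroup G)) :=
      { smul := fun g y => ⟨g * y * g⁻¹, Subgroup.Normal.conj_mem inferInstance _ y.2 g⟩
        one_smul := fun y => Subtype.ext (show (1 : (X : Subgroup G)) * y * 1⁻¹ = y by simp)
        mul_smul := fun g h y => Subtype.ext (show g * h * y * (g * h)⁻¹ = g * (h * y * h⁻¹) * g⁻¹ by group) }
    have h1 : (1 : commutator (X : Subgroup G)) ∈ fixedPoints (X : Subgroup G) (commutator (X : Subgroup G)) :=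
      fun g => Subtype.ext (show g * 1 * g⁻¹ = (1 : (X : Subgroup G)) by simp)
    obtain ⟨y, hy, hy1⟩ := hpg.exists_fixed_point_of_prime_dvd_card_of_fixed_point _ hdvd h1
    have hyc : ∀ g, g * (y : (X : Subgroup G)) = y * g := fun g => by
      have := congrArg Subtype.val (hy g)
      exact mul_inv_eq_iff_eq_mul.1 this
    obtain ⟨j, hj⟩ := (IsPGroup.iff_orderOf.1 hpg) (y : (X : Subgroup G))
    have hj0 : 1 ≤ j := Nat.pos_of_ne_zero fun h => hy1 (Subtype.ext
      (orderOf_eq_one_iff.1 (by rw [hj, h, pow_zero]) : (y : (X : Subgroup G)) = 1)).symm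
    refine ⟨(y : (X : Subgroup G)) ^ 2 ^ (j - 1), Subgroup.pow_mem _ y.2 _, ?_,
      fun g => (Commute.pow_right (show Commute g (y : (X : Subgroup G)) from hyc g) _).eq, ?_⟩
    · rw [← pow_add, ← two_mul, ← pow_succ', Nat.sub_add_cancel hj0, ← hj, pow_orderOf_eq_one]
    · intro h
      rw [← orderOf_dvd_iff_pow_eq_one, hj] at h
      have := Nat.pow_dvd_pow_iff_le_right (le_refl 2) |>.1 h
      omega
  have hζd : ∀ c ∈ commutator (X : Subgroup G), ζ c = 1 := fun c hc =>
    MonoidHom.mem_ker.1 (Abelianization.commutator_subset_ker ζ hc)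
  -- the element `-1`
  obtain ⟨ez, hez⟩ := hσsurj fun _ => true
  have hMz : M ez = -1 := by
    rw [hσ, hez]; simp [← Matrix.diagonal_one, Matrix.diagonal_neg]
  have hζz : ζ (ez : (X : Subgroup G)) = -1 := by
    refine Units.ext ?_
    rw [hζM, hMz, Matrix.det_neg, Matrix.det_one]
    norm_num
  have hzc : ∀ x : (X : Subgroup G), x * ez = ez * x := fun x => hMinj (by rw [hMmul, hMmul, hMz]; simp)
  have huniq : ∀ a : Fˣ, a * a = 1 → a = 1 ∨ a = -1 := fun a h => by
    have h' : (a : F) * a = 1 := by simpa using congrArg Units.val h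
    rcases mul_self_eq_one_iff.1 h' with h | h
    · exact .inl (Units.ext h)
    · exact .inr (Units.ext (by simpa using h))
  obtain ⟨H, hH⟩ := exists_index_two (X : Subgroup G) X.isPGroup' X.not_dvd_index ζ (-1) (fun h => hneg (by simpa using congrArg Units.val h))
    (by simp) huniq ((ez : (X : Subgroup G)) : G) (ez : (X : Subgroup G)).2
    (by simpa using congrArg Subtype.val (hEsq ez))
    (fun x hx => congrArg Subtype.val (hzc ⟨x, hx⟩)) (by
      intro c hc hcc ⟨g, hgc, hgn⟩
      rcases huniq (ζ c) (by rw [← map_mul, hc, map_one]) with h | h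
      swap
      · exact h
      exfalso
      have hc1 : c ≠ 1 := fun h1 => by
        rw [h1] at hgc
        have hz1 : (ez : (X : Subgroup G)) = 1 := Subtype.ext (by
          calc (((ez : (X : Subgroup G))) : G) = g * (g⁻¹ * (ez : (X : Subgroup G)) * g) * g⁻¹ := by group
            _ = 1 := by rw [hgc]; simp)
        rw [hz1, map_one] at hζz
        exact hneg (by simpa using (congrArg Units.val hζz).symm)
      have hcc0 := hone c c0 hc hc02 hcc hc0c hc1 hc01 h (hζd c0 hc0d)
      -- conjugation by `g` is an automorphism of `X` sending `ez` to `c0`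
      let ψ : ↥(X : Subgroup G) →* (X : Subgroup G) :=
        { toFun := fun x => ⟨g⁻¹ * x * g, hgn x x.2⟩
          map_one' := Subtype.ext (by simp)
          map_mul' := fun a b => Subtype.ext (by simp [mul_assoc]) }
      have hψ : Function.Surjective ψ := Finite.surjective_of_injective fun a b hab =>
        Subtype.ext (by simpa [ψ] using congrArg Subtype.val hab)
      have hψinj : Function.Injective ψ := fun a b hab =>
        Subtype.ext (by simpa [ψ] using congrArg Subtype.val hab)
      have hzd : (ez : (X : Subgroup G)) ∈ commutator (X : Subgroup G) := by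
        have h1 : ψ ez = c0 := hcc0 ▸ Subtype.ext hgc
        have h2 : (commutator (X : Subgroup G)).map ψ = commutator (X : Subgroup G) := by
          rw [_root_.commutator_def, Subgroup.map_commutator, Subgroup.map_top_of_surjective ψ hψ]
        rw [← h2, ← h1] at hc0d
        exact (Subgroup.mem_map_iff_mem hψinj).1 hc0d
      have := hζd _ hzd
      rw [hζz] at this
      exact hneg (by simpa using congrArg Units.val this))
  exact hG H hH

end Cfsg.Agent.S1906
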