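import Cfsg.Statements.S1910
import Cfsg.Agent.Lib.Transfer.Frobenius
import Cfsg.Agent.Lib.Transfer.Fusion

set_option autoImplicit false
open Cfsg

namespace Cfsg.Agent.S1910

open Cfsg.Agent.Transfer
open scoped commutatorElement

section
variable {G : Type*} [Group G] [Finite G]

/-- Two conjugates of a tightly embedded subgroup sharing a nontrivial 2-subgroup are equal. -/
theorem conj_eq_of_le {Q : Subgroup G} (hQ : Cfsg.IsTightlyEmbedded Q) {a b : G} {A : Subgroup G}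
    (hA : IsPGroup 2 A) (hA1 : A ≠ ⊥) (ha : A ≤ Q.map (MulAut.conj a).toMonoidHom)
    (hb : A ≤ Q.map (MulAut.conj b).toMonoidHom) :
    Q.map (MulAut.conj a).toMonoidHom = Q.map (MulAut.conj b).toMonoidHom := by
  have : Fact (Nat.Prime 2) := ⟨Nat.prime_two⟩
  by_cases h : a⁻¹ * b ∈ Subgroup.normalizer (Q : Set G)
  · rw [show b = a * (a⁻¹ * b) by group, Fusion.map_conj_mul, Fusion.map_conj_eq_self_iff.mpr h]
  · exfalso
    have hodd := hQ.2 _ h
    have hle : A.map (MulAut.conj a⁻¹).toMonoidHom ≤ Q ⊓ Q.map (MulAut.conj (a⁻¹ * b)).toMonoidHom := by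
      refine le_inf ?_ ?_
      · rw [← Fusion.map_conj_inv_cancel Q a]; exact Subgroup.map_mono ha
      · rw [Fusion.map_conj_mul]; exact Subgroup.map_mono hb
    obtain ⟨k, hk0, hk⟩ := hA.nontrivial_iff_card.mp ((Subgroup.nontrivial_iff_ne_bot A).mpr hA1)
    have hd := Subgroup.card_dvd_of_le hle
    rw [Fusion.card_map_conj, hk] at hd
    have h2 : 2 ∣ Nat.card ↥(Q ⊓ Q.map (MulAut.conj (a⁻¹ * b)).toMonoidHom) :=
      (dvd_pow_self 2 hk0.ne').trans hd
    obtain ⟨m, hm⟩ := hodd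
    omega

/-- A 2-subgroup of `K ∩ N`, `N` normalized by `K`, is conjugate into `S ∩ N`. -/
theorem exists_conj_le_inf {K S N A : Subgroup G} (hSK : S ≤ K) (hS2 : IsPGroup 2 S)
    (hS : ¬ 2 ∣ S.relIndex K) (hKN : K ≤ Subgroup.normalizer (N : Set G))
    (hA : IsPGroup 2 A) (hAK : A ≤ K) (hAN : A ≤ N) :
    ∃ h : G, A.map (MulAut.conj h).toMonoidHom ≤ S ⊓ N := by
  have : Fact (Nat.Prime 2) := ⟨Nat.prime_two⟩
  obtain ⟨P, hP⟩ := (hA.comap_subtype (K := K)).exists_le_sylow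
  obtain ⟨k, hk⟩ := MulAction.exists_smul_eq ↥K P (((hS2.comap_subtype (K := K))).toSylow hS)
  refine ⟨k, ?_⟩
  rintro _ ⟨a, ha, rfl⟩
  refine ⟨?_, ?_⟩
  · have h1 : k * ⟨a, hAK ha⟩ * k⁻¹ ∈ (k • P : Sylow 2 ↥K) := by
      rw [Fusion.mem_smul_sylow_iff]
      simp only [mul_assoc, inv_mul_cancel, mul_one, inv_mul_cancel_left]
      exact hP (Subgroup.mem_subgroupOf.mpr ha : (⟨a, hAK ha⟩ : K) ∈ A.subgroupOf K)
    rw [hk] at h1
    exact h1
  · exact (Subgroup.mem_normalizer_iff.mp (hKN k.2) a).mp (hAN ha)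

/-- A hom projecting a subgroup of a direct product into one factor. -/
theorem exists_proj {X Y U : Subgroup G} (hc : ∀ x ∈ X, ∀ y ∈ Y, x * y = y * x) (hXY : X ⊓ Y = ⊥)
    (hU : U ≤ X ⊔ Y) (hUY : U ⊓ Y = ⊥) : ∃ f : ↥U →* ↥X, Function.Injective f := by
  have hYn : Y ≤ Subgroup.normalizer (X : Set G) := by
    intro y hy
    apply Subgroup.centralizer_le_normalizer
    exact Subgroup.mem_centralizer_iff.mpr fun x hx => hc x hx y hy
  have hex : ∀ u : U, ∃ x : X, (x : G)⁻¹ * u ∈ Y := by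
    intro u
    have hu : (u : G) ∈ ((X ⊔ Y : Subgroup G) : Set G) := hU u.2
    rw [Subgroup.coe_mul_of_right_le_normalizer_left X Y hYn] at hu
    obtain ⟨x, hx, y, hy, he⟩ := Set.mem_mul.mp hu
    exact ⟨⟨x, hx⟩, by rw [← he, inv_mul_cancel_left]; exact hy⟩
  choose f hf using hex
  have huniq : ∀ (u : U) (x : X), (x : G)⁻¹ * u ∈ Y → f u = x := by
    intro u x hx
    have h1 : ((f u : G))⁻¹ * x ∈ X ⊓ Y := by
      refine ⟨X.mul_mem (X.inv_mem (f u).2) x.2, ?_⟩
      have h2 := Y.mul_mem (hf u) (Y.inv_mem hx)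
      rwa [show (f u : G)⁻¹ * u * ((x : G)⁻¹ * u)⁻¹ = (f u : G)⁻¹ * x by group] at h2
    rw [hXY, Subgroup.mem_bot, inv_mul_eq_one] at h1
    exact Subtype.ext h1
  let φ : ↥U →* ↥X := MonoidHom.mk' f fun u v => huniq _ _ <| by
    push_cast
    have e : ((f u : G) * f v)⁻¹ * ((u : G) * v) = ((f u : G)⁻¹ * u) * ((f v : G)⁻¹ * v) := by
      have hx := hc _ (X.inv_mem (f v).2) _ (hf u)
      calc ((f u : G) * f v)⁻¹ * ((u : G) * v) = ((f v : G)⁻¹ * ((f u : G)⁻¹ * u)) * v := by group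
        _ = (((f u : G)⁻¹ * u) * (f v : G)⁻¹) * v := by rw [hx]
        _ = _ := by group
    rw [e]
    exact Y.mul_mem (hf u) (hf v)
  refine ⟨φ, (injective_iff_map_eq_one φ).mpr fun u hu => ?_⟩
  have h := hf u
  have hu' : f u = 1 := hu
  rw [hu', Subgroup.coe_one, inv_one, one_mul] at h
  exact Subtype.ext (Subgroup.mem_bot.mp (hUY ▸ (⟨u.2, h⟩ : (u : G) ∈ U ⊓ Y)))

end

/-- Let Q be a tightly embedded subgroup of a finite group G, g an element outside N_G(Q), T a nontrivial Sylow 2-subgroup of Q^g ∩ N_G(Q), and S a Sylow 2-subgroup of QT containing T. Then T ∩ Q = 1, and N_S(T) is the direct product of T and N_S(T) ∩ Q, with N_S(T) ∩ Q isomorphic to T. -/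
theorem result {G : Type*} [Group G] [Finite G] (Q : Subgroup G) (hQ : Cfsg.IsTightlyEmbedded Q)
    (g : G) (hg : g ∉ Subgroup.normalizer (Q : Set G))
    (T : Subgroup G) (hT1 : T ≠ ⊥) (hT : T ≤ Q.map (MulAut.conj g).toMonoidHom ⊓ Subgroup.normalizer (Q : Set G))
    (hTsyl : IsPGroup 2 T ∧ ¬ 2 ∣ T.relIndex (Q.map (MulAut.conj g).toMonoidHom ⊓ Subgroup.normalizer (Q : Set G)))
    (S : Subgroup G) (hTS : T ≤ S) (hS : S ≤ Q ⊔ T) (hSsyl : IsPGroup 2 S ∧ ¬ 2 ∣ S.relIndex (Q ⊔ T)) :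
    T ⊓ Q = ⊥ ∧
      T ⊓ (S ⊓ Subgroup.normalizer (T : Set G) ⊓ Q) = ⊥ ∧
      ⁅T, S ⊓ Subgroup.normalizer (T : Set G) ⊓ Q⁆ = ⊥ ∧
      T ⊔ (S ⊓ Subgroup.normalizer (T : Set G) ⊓ Q) = S ⊓ Subgroup.normalizer (T : Set G) ∧
      Nonempty (↥(S ⊓ Subgroup.normalizer (T : Set G) ⊓ Q) ≃* T) := by
  have : Fact (Nat.Prime 2) := ⟨Nat.prime_two⟩
  obtain ⟨hT2, hTsyl⟩ := hTsyl
  obtain ⟨hS2, hSsyl⟩ := hSsyl
  set Qg := Q.map (MulAut.conj g).toMonoidHom with hQg
  have hTQg : T ≤ Qg := hT.trans inf_le_left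
  have hTN : T ≤ Subgroup.normalizer (Q : Set G) := hT.trans inf_le_right
  have hQTN : Q ⊔ T ≤ Subgroup.normalizer (Q : Set G) := sup_le Subgroup.le_normalizer hTN
  have hQ1 : Q.map (MulAut.conj (1 : G)).toMonoidHom = Q := Fusion.map_conj_one Q
  have hQne : Qg ≠ Q := fun h => hg (Fusion.map_conj_eq_self_iff.mp h)
  have hTQ : T ⊓ Q = ⊥ := by
    by_contra h
    exact hQne <| (conj_eq_of_le hQ (hT2.to_le inf_le_left) h (inf_le_left.trans hTQg)
      (b := 1) (inf_le_right.trans hQ1.ge)).trans hQ1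
  set R := S ⊓ Subgroup.normalizer (T : Set G) ⊓ Q with hR
  have hRQ : R ≤ Q := inf_le_right
  have hRS : R ≤ S := inf_le_left.trans inf_le_left
  have hR2 : IsPGroup 2 R := hS2.to_le hRS
  have hc : ∀ t ∈ T, ∀ r ∈ R, t * r = r * t := by
    intro t ht r hr
    rw [← commutatorElement_eq_one_iff_mul_comm, ← Subgroup.mem_bot, ← hTQ]
    refine ⟨?_, ?_⟩
    · rw [commutatorElement_def, show t * r * t⁻¹ * r⁻¹ = t * (r * t⁻¹ * r⁻¹) by group]
      exact T.mul_mem ht ((Subgroup.mem_normalizer_iff.mp hr.1.2 _).mp (T.inv_mem ht))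
    · rw [commutatorElement_def]
      exact Q.mul_mem ((Subgroup.mem_normalizer_iff.mp (hTN ht) _).mp (hRQ hr)) (Q.inv_mem (hRQ hr))
  have hTR : T ⊓ R = ⊥ := le_bot_iff.mp ((inf_le_inf_left T hRQ).trans hTQ.le)
  have hsup : T ⊔ R = S ⊓ Subgroup.normalizer (T : Set G) := by
    refine le_antisymm (sup_le (le_inf hTS Subgroup.le_normalizer) inf_le_left) ?_
    intro s hs
    have hs' : s ∈ ((Q ⊔ T : Subgroup G) : Set G) := hS hs.1
    rw [Subgroup.coe_mul_of_right_le_normalizer_left Q T hTN] at hs'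
    obtain ⟨q, hq, t, ht, he⟩ := Set.mem_mul.mp hs'
    have hqs : q = s * t⁻¹ := by rw [← he, mul_inv_cancel_right]
    have hqR : q ∈ R := by
      refine ⟨?_, hq⟩
      rw [hqs]
      exact (S ⊓ Subgroup.normalizer (T : Set G)).mul_mem hs
        ⟨S.inv_mem (hTS ht), Subgroup.inv_mem _ (Subgroup.le_normalizer ht)⟩
    rw [← he]
    exact Subgroup.mul_mem _ (Subgroup.mem_sup_right hqR) (Subgroup.mem_sup_left ht)
  refine ⟨hTQ, hTR, ?_, hsup, ?_⟩
  · rw [Subgroup.commutator_eq_bot_iff_le_centralizer]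
    exact fun t ht => Subgroup.mem_centralizer_iff.mpr fun r hr => (hc t ht r hr).symm
  -- maximality of `T` among 2-subgroups of `Qg ∩ N(Q)`
  have hmax : ∀ A : Subgroup G, IsPGroup 2 A → T ≤ A → A ≤ Qg → A ≤ Subgroup.normalizer (Q : Set G) →
      A ≤ T := by
    intro A hA hTA hAQ hAN
    obtain ⟨h, hh⟩ := exists_conj_le_inf (N := Qg ⊓ Subgroup.normalizer (Q : Set G)) hT hT2 hTsyl
      Subgroup.le_normalizer hA (le_inf hAQ hAN) (le_inf hAQ hAN)
    have hcard := Subgroup.card_le_of_le (hh.trans inf_le_left)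
    rw [Fusion.card_map_conj] at hcard
    exact (Subgroup.eq_of_le_of_card_ge hTA hcard).ge
  -- `|T| ≤ |R|`
  have hle : Nat.card T ≤ Nat.card R := by
    by_cases hST : S ≤ Subgroup.normalizer (T : Set G)
    · have hRe : R = S ⊓ Q := by rw [hR, inf_eq_left.mpr hST]
      obtain ⟨h, hh⟩ := exists_conj_le_inf (N := Q) hS hS2 hSsyl hQTN
        (hT2.map (MulAut.conj g⁻¹).toMonoidHom) (A := T.map (MulAut.conj g⁻¹).toMonoidHom)
        (((Subgroup.map_mono hTQg).trans (Fusion.map_conj_inv_cancel Q g).le).trans le_sup_left)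
        ((Subgroup.map_mono hTQg).trans (Fusion.map_conj_inv_cancel Q g).le)
      have := Subgroup.card_le_of_le (hh.trans hRe.ge)
      rwa [Fusion.card_map_conj, Fusion.card_map_conj] at this
    · have hlt : S ⊓ Subgroup.normalizer (T : Set G) < S :=
        lt_of_le_of_ne inf_le_left fun e => hST (e ▸ inf_le_right)
      obtain ⟨q, ⟨hqS, hqN⟩, hq'⟩ := SetLike.exists_of_lt (Frobenius.lt_inf_normalizer hS2 hlt)
      have hqT : q ∉ Subgroup.normalizer (T : Set G) := fun h => hq' ⟨hqS, h⟩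
      have hqQ : q ∈ Subgroup.normalizer (Q : Set G) := hQTN (hS hqS)
      set U := T.map (MulAut.conj q).toMonoidHom with hU
      have hUle : U ≤ R ⊔ T := by
        rw [sup_comm, hsup, ← Fusion.map_conj_eq_self_iff.mpr hqN]
        exact Subgroup.map_mono (hsup ▸ le_sup_left)
      have hUT : U ⊓ T = ⊥ := by
        by_contra h
        have he : Q.map (MulAut.conj (q * g)).toMonoidHom = Qg :=
          conj_eq_of_le hQ (hT2.to_le inf_le_right) h
            (inf_le_left.trans (by rw [Fusion.map_conj_mul]; exact Subgroup.map_mono hTQg))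
            (inf_le_right.trans hTQg)
        have hUQ : U ≤ Qg := by rw [← he, Fusion.map_conj_mul]; exact Subgroup.map_mono hTQg
        have hUS : U ≤ S := by
          rintro _ ⟨t, ht, rfl⟩
          exact S.mul_mem (S.mul_mem hqS (hTS ht)) (S.inv_mem hqS)
        have hUN : U ≤ Subgroup.normalizer (Q : Set G) := hUS.trans (hS.trans hQTN)
        have hUT' := hmax (T ⊔ U) (hS2.to_le (sup_le hTS hUS)) le_sup_left (sup_le hTQg hUQ)
          (sup_le hTN hUN)
        exact hqT (Fusion.map_conj_eq_self_iff.mp (Subgroup.eq_of_le_of_card_ge (le_sup_right.trans hUT')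
          (Fusion.card_map_conj T q).ge))
      obtain ⟨f, hf⟩ := exists_proj (fun r hr t ht => (hc t ht r hr).symm) (inf_comm R T ▸ hTR) hUle hUT
      rw [← Fusion.card_map_conj T q]
      exact Nat.card_le_card_of_injective f hf
  -- an injection of `R` into `T`
  suffices h : ∃ f : ↥R →* ↥T, Function.Injective f by
    obtain ⟨f, hf⟩ := h
    exact ⟨MulEquiv.ofBijective f ((Nat.bijective_iff_injective_and_card f).mpr
      ⟨hf, le_antisymm (Nat.card_le_card_of_injective f hf) hle⟩)⟩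
  have hRNg : R ≤ Subgroup.normalizer (Qg : Set G) := by
    intro r hr
    rw [← Fusion.map_conj_eq_self_iff, hQg, ← Fusion.map_conj_mul]
    refine conj_eq_of_le hQ hT2 hT1 (fun t ht => ?_) hTQg
    rw [Fusion.map_conj_mul]
    exact ⟨t, hTQg ht, by simp [(hc t ht r hr).symm, mul_assoc]⟩
  obtain ⟨P, hP⟩ := ((hS2.to_le (sup_le hTS hRS)).comap_subtype (K := Qg ⊔ R)).exists_le_sylow
  set W := (P : Subgroup ↥(Qg ⊔ R)).map (Qg ⊔ R).subtype with hW
  have hWle : W ≤ Qg ⊔ R := Subgroup.map_subtype_le _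
  have hW2 : IsPGroup 2 W := P.2.map _
  have hWsyl : ¬ 2 ∣ W.relIndex (Qg ⊔ R) := by
    rw [hW, Subgroup.relIndex, Subgroup.subgroupOf, Subgroup.comap_map_eq_self_of_injective (Qg ⊔ R).subtype_injective]
    exact P.not_dvd_index
  have hTRW : T ⊔ R ≤ W := fun x hx =>
    ⟨⟨x, sup_le (hTQg.trans le_sup_left) le_sup_right hx⟩, hP (Subgroup.mem_subgroupOf.mpr hx), rfl⟩
  have hKN : Qg ⊔ R ≤ Subgroup.normalizer (Qg : Set G) := sup_le Subgroup.le_normalizer hRNg
  by_cases hWT : W ⊓ Qg ≤ T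
  · obtain ⟨h, hh⟩ := exists_conj_le_inf (N := Qg) hWle hW2 hWsyl hKN
      (hR2.map (MulAut.conj g).toMonoidHom) (A := R.map (MulAut.conj g).toMonoidHom)
      ((Subgroup.map_mono hRQ).trans le_sup_left) (Subgroup.map_mono hRQ)
    rw [← Fusion.map_conj_mul] at hh
    refine ⟨(Subgroup.inclusion (hh.trans hWT)).comp
      (R.equivMapOfInjective _ (MulAut.conj (h * g)).injective).toMonoidHom,
      (Subgroup.inclusion_injective (hh.trans hWT)).comp (MulEquiv.injective _)⟩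
  · obtain ⟨a, haW, haT⟩ := SetLike.not_le_iff_exists.mp hWT
    have hTRQg : ∀ x ∈ T ⊔ R, x ∈ Qg → x ∈ T := by
      intro x hx hxQ
      have hx' : x ∈ ((T ⊔ R : Subgroup G) : Set G) := hx
      rw [Subgroup.coe_mul_of_right_le_normalizer_left T R (fun r hr => hr.1.2)] at hx'
      obtain ⟨t, ht, r, hr, rfl⟩ := Set.mem_mul.mp hx'
      have hrQg : r ∈ Qg := by
        have := Qg.mul_mem (Qg.inv_mem (hTQg ht)) hxQ
        rwa [inv_mul_cancel_left] at this
      have hr1 : R ⊓ Qg = ⊥ := by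
        by_contra h
        exact hQne ((conj_eq_of_le hQ (hR2.to_le inf_le_left) h inf_le_right
          (b := 1) ((inf_le_left.trans hRQ).trans hQ1.ge)).trans hQ1)
      have hr0 : r ∈ R ⊓ Qg := ⟨hr, hrQg⟩
      rw [hr1, Subgroup.mem_bot] at hr0
      rw [hr0, mul_one]
      exact ht
    have hlt : T ⊔ R < W := lt_of_le_of_ne hTRW fun e => haT (hTRQg a (e ▸ haW.1) haW.2)
    obtain ⟨w, ⟨hwW, hwN⟩, hw'⟩ := SetLike.exists_of_lt (Frobenius.lt_inf_normalizer hW2 hlt)
    have hw0 : w ∈ ((Qg ⊔ R : Subgroup G) : Set G) := hWle hwW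
    rw [Subgroup.coe_mul_of_right_le_normalizer_left Qg R hRNg] at hw0
    obtain ⟨v, hv, r, hr, rfl⟩ := Set.mem_mul.mp hw0
    have hrTR : r ∈ T ⊔ R := Subgroup.mem_sup_right hr
    have hvW : v ∈ W := by
      have := W.mul_mem hwW (W.inv_mem (hTRW hrTR))
      rwa [mul_inv_cancel_right] at this
    have hvN : v ∈ Subgroup.normalizer ((T ⊔ R : Subgroup G) : Set G) := by
      have := Subgroup.mul_mem _ hwN (Subgroup.inv_mem _ (Subgroup.le_normalizer hrTR))
      rwa [mul_inv_cancel_right] at this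
    have hvT : v ∉ T := fun h => hw' (Subgroup.mul_mem _ (Subgroup.mem_sup_left h) hrTR)
    have hvQ : v ∉ Subgroup.normalizer (Q : Set G) := by
      intro h
      refine hvT (hmax (T ⊔ Subgroup.zpowers v) (hW2.to_le ?_) le_sup_left ?_ ?_
        (Subgroup.mem_sup_right (Subgroup.mem_zpowers v)))
      · exact sup_le (le_sup_left.trans hTRW) (Subgroup.zpowers_le.mpr hvW)
      · exact sup_le hTQg (Subgroup.zpowers_le.mpr hv)
      · exact sup_le hTN (Subgroup.zpowers_le.mpr h)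
    set U := R.map (MulAut.conj v).toMonoidHom with hU
    have hUle : U ≤ T ⊔ R := by
      rw [← Fusion.map_conj_eq_self_iff.mpr hvN]
      exact Subgroup.map_mono le_sup_right
    have hUR : U ⊓ R = ⊥ := by
      by_contra h
      exact hvQ (Fusion.map_conj_eq_self_iff.mp ((conj_eq_of_le hQ (hR2.to_le inf_le_right) h
        (inf_le_left.trans (Subgroup.map_mono hRQ)) (b := 1)
        ((inf_le_right.trans hRQ).trans hQ1.ge)).trans hQ1))
    obtain ⟨f, hf⟩ := exists_proj hc hTR hUle hUR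
    exact ⟨f.comp (R.equivMapOfInjective _ (MulAut.conj v).injective).toMonoidHom,
      hf.comp (MulEquiv.injective _)⟩

end Cfsg.Agent.S1910
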