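import Cfsg.Statements.S1914
import Cfsg.Agent.Lib.SemiRankOne.Assemble

set_option autoImplicit false
open Cfsg
open scoped Pointwise

namespace Cfsg.Agent.S1914

/-- Let A be a semisimple subgroup (a central product of quasisimple groups, A = E(A)) of a finite group and t an involution normalizing A such that the Sylow 2-subgroups of C_A(t) are cyclic of order 4. Then A has 2-rank exactly 1. -/
theorem result {G : Type*} [Group G] [Finite G] (A : Subgroup G) (hA : Cfsg.layer ↥A = ⊤)
    (t : G) (ht : orderOf t = 2) (htA : t ∈ Subgroup.normalizer (A : Set G))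
    (hC : ∀ R : Sylow 2 ↥(A ⊓ Subgroup.centralizer ({t} : Set G)), IsCyclic R ∧ Nat.card R = 4) :
    Cfsg.PRankLE 2 1 A ∧ ¬ Cfsg.PRankLE 2 0 A := by
  classical
  haveI : Fact (Nat.Prime 2) := ⟨Nat.prime_two⟩
  set D := A ⊓ Subgroup.centralizer ({t} : Set G) with hD
  have ht2 : t * t = 1 := by rw [← pow_two, ← ht, pow_orderOf_eq_one]
  have ht1 : t ≠ 1 := fun h => by rw [h, orderOf_one] at ht; omega
  have small : ∀ K : Subgroup G, IsPGroup 2 K → K ≤ D → IsCyclic K ∧ Nat.card K ≤ 4 := by
    intro K hK hKD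
    obtain ⟨R, hR⟩ := (hK.of_equiv (Subgroup.subgroupOfEquivOfLe hKD).symm).exists_le_sylow
    haveI : IsCyclic R := (hC R).1
    haveI := isCyclic_of_injective (Subgroup.inclusion hR) (Subgroup.inclusion_injective hR)
    refine ⟨(Subgroup.subgroupOfEquivOfLe hKD).isCyclic.1 inferInstance, ?_⟩
    rw [← Nat.card_congr (Subgroup.subgroupOfEquivOfLe hKD).toEquiv]
    exact (Nat.card_le_card_of_injective _ (Subgroup.inclusion_injective hR)).trans (hC R).2.le
  have memD : ∀ g : G, g ∈ D ↔ g ∈ A ∧ Commute g t := fun g => by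
    rw [hD, Subgroup.mem_inf, Subgroup.mem_centralizer_singleton_iff]; rfl
  -- a generator of a Sylow subgroup of the centralizer
  obtain ⟨R₀⟩ : Nonempty (Sylow 2 ↥D) := inferInstance
  haveI := (hC R₀).1
  obtain ⟨gen, hgen⟩ := IsCyclic.exists_ofOrder_eq_natCard (α := R₀)
  rw [(hC R₀).2] at hgen
  set x : G := ((gen : ↥D) : G) with hx
  have hx4 : orderOf x = 4 := by rw [hx, Subgroup.orderOf_coe, Subgroup.orderOf_coe, hgen]
  have hxA : x ∈ A := ((memD x).1 (gen : ↥D).2).1
  have hxt : Commute x t := ((memD x).1 (gen : ↥D).2).2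
  have hxx : x * x ≠ 1 := fun h => by
    have := orderOf_dvd_of_pow_eq_one (x := x) (n := 2) (by rw [pow_two, h])
    rw [hx4] at this; omega
  have hxx2 : x * x * (x * x) = 1 := by
    rw [show x * x * (x * x) = x ^ 4 by simp [pow_succ, mul_assoc], ← hx4, pow_orderOf_eq_one]
  have hΓ0 : ¬ Cfsg.PRankLE 2 0 A := by
    intro h0
    have h := h0 (Subgroup.zpowers (⟨x * x, mul_mem hxA hxA⟩ : A)) inferInstance (by
      rintro _ ⟨k, rfl⟩
      rw [pow_two, ← zpow_add, ← two_mul, zpow_mul, zpow_two]
      rw [show (⟨x * x, mul_mem hxA hxA⟩ : A) * ⟨x * x, mul_mem hxA hxA⟩ = 1 from Subtype.ext hxx2, one_zpow])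
    rw [Nat.card_zpowers, pow_zero, ← Subgroup.orderOf_coe] at h
    have hpos : 0 < orderOf (x * x) := (isOfFinOrder_of_finite _).orderOf_pos
    exact hxx (orderOf_eq_one_iff.1 (le_antisymm h hpos))
  refine ⟨?_, hΓ0⟩
  have key : ∀ a ∈ A, ∀ b ∈ A, a * b = b * a → a * a = 1 → b * b = 1 → a ≠ 1 → b ≠ 1 → a = b := by
    intro a ha b hb hab ha2 hb2 ha1 hb1
    by_cases htmem : t ∈ A
    · -- `t` is the only involution of a cyclic Sylow subgroup of `A`
      let t' : A := ⟨t, htmem⟩
      have ht' : orderOf t' = 2 := by rw [← Subgroup.orderOf_coe]; exact ht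
      obtain ⟨P, hP⟩ := (IsPGroup.of_card (p := 2) (n := 1)
        (by rw [Nat.card_zpowers, ht', pow_one]) : IsPGroup 2 (Subgroup.zpowers t')).exists_le_sylow
      have htP : t' ∈ (P : Subgroup A) := hP (Subgroup.mem_zpowers t')
      haveI : Nontrivial ↥(P : Subgroup A) :=
        ⟨⟨⟨t', htP⟩, 1, fun e => ht1 (congrArg (fun c : ↥(P : Subgroup A) => ((c : A) : G)) e)⟩⟩
      haveI : Nontrivial (Subgroup.center ↥(P : Subgroup A)) := P.2.center_nontrivial
      obtain ⟨z, hz⟩ : ∃ z : Subgroup.center ↥(P : Subgroup A), orderOf z = 2 := by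
        refine exists_prime_orderOf_dvd_card' 2 ?_
        obtain ⟨m, hm⟩ := IsPGroup.iff_card.1 (P.2.to_subgroup (Subgroup.center ↥(P : Subgroup A)))
        have h1 := Finite.one_lt_card (α := Subgroup.center ↥(P : Subgroup A))
        rcases m with _ | m
        · rw [hm] at h1; simp at h1
        · exact ⟨2 ^ m, by rw [hm, pow_succ']⟩
      set z₀ : G := ((((z : ↥(P : Subgroup A)) : A)) : G) with hz₀
      have hzo : orderOf z₀ = 2 := by
        rw [hz₀, Subgroup.orderOf_coe, Subgroup.orderOf_coe, Subgroup.orderOf_coe, hz]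
      have hzc : ∀ p : ↥(P : Subgroup A), Commute ((p : A) : G) z₀ := fun p => by
        exact congrArg (fun c : ↥(P : Subgroup A) => ((c : A) : G)) (Subgroup.mem_center_iff.1 z.2 p)
      set PG := (P : Subgroup A).map A.subtype with hPG
      have hPGp : IsPGroup 2 PG := P.2.map _
      obtain ⟨hcyc, -⟩ := small (PG ⊓ Subgroup.centralizer ({t} : Set G)) (hPGp.to_le inf_le_left)
        (inf_le_inf_right _ (Subgroup.map_subtype_le _))
      obtain ⟨d, hd⟩ := (Subgroup.isCyclic_iff_exists_zpowers_eq_top _).1 hcyc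
      have hzt : z₀ = t := Cfsg.Agent.SemiRankOne.invol_unique (d := d)
        (hd ▸ Subgroup.mem_inf.2 ⟨Subgroup.mem_map_of_mem _ (z : ↥(P : Subgroup A)).2,
          Subgroup.mem_centralizer_singleton_iff.2 (hzc ⟨t', htP⟩).symm.eq⟩)
        (hd ▸ Subgroup.mem_inf.2 ⟨Subgroup.mem_map_of_mem _ htP, Subgroup.mem_centralizer_singleton_iff.2 rfl⟩)
        (by rw [← pow_two, ← hzo, pow_orderOf_eq_one]) ht2
        (fun e => by rw [e, orderOf_one] at hzo; omega) ht1
      haveI hPGc : IsCyclic PG := by
        refine (small PG hPGp fun g hg => ?_).1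
        obtain ⟨p, hp, rfl⟩ := hg
        exact (memD _).2 ⟨p.2, hzt ▸ hzc ⟨p, hp⟩⟩
      haveI : IsCyclic ↥(P : Subgroup A) :=
        ((P : Subgroup A).equivMapOfInjective _ A.subtype_injective).isCyclic.2 hPGc
      obtain ⟨Q, hQ⟩ := (Cfsg.Agent.Components.FourAction.pair_isPGroup (a := (⟨a, ha⟩ : A)) (b := ⟨b, hb⟩)
        (Subtype.ext hab) (Subtype.ext ha2) (Subtype.ext hb2)).exists_le_sylow
      haveI : IsCyclic ↥(Q : Subgroup A) := (P.equiv Q).isCyclic.1 inferInstance
      obtain ⟨e, he⟩ := IsCyclic.exists_generator (α := ↥(Q : Subgroup A))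
      have hmem : ∀ c ∈ (Q : Subgroup A), (c : G) ∈ Subgroup.zpowers ((e : A) : G) := fun c hc => by
        obtain ⟨k, hk⟩ := he ⟨c, hc⟩
        exact ⟨k, by simpa using congrArg (fun c : ↥(Q : Subgroup A) => ((c : A) : G)) hk⟩
      exact Cfsg.Agent.SemiRankOne.invol_unique (hmem ⟨a, ha⟩ (hQ (Subgroup.subset_closure (by simp))))
        (hmem ⟨b, hb⟩ (hQ (Subgroup.subset_closure (by simp)))) ha2 hb2 ha1 hb1
    · set H := A ⊔ Subgroup.zpowers t with hH
      set A' := A.subgroupOf H with hA'
      have hzle : Subgroup.zpowers t ≤ Subgroup.normalizer (A : Set G) := Subgroup.zpowers_le.2 htA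
      haveI hA'n : A'.Normal := Subgroup.normal_subgroupOf_of_le_normalizer
        (sup_le Subgroup.le_normalizer hzle)
      let t' : H := ⟨t, Subgroup.mem_sup_right (Subgroup.mem_zpowers t)⟩
      let x' : H := ⟨x, Subgroup.mem_sup_left hxA⟩
      have hxt' : Commute x' t' := Subtype.ext hxt.eq
      have hidx : ∀ g : H, g ∈ A' ∨ g * t' ∈ A' := by
        intro g
        have hg : (g : G) ∈ (A : Set G) * (Subgroup.zpowers t : Set G) := by
          rw [← Subgroup.coe_mul_of_right_le_normalizer_left A _ hzle]; exact g.2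
        obtain ⟨u, hu, w, ⟨k, hk⟩, huw⟩ := hg
        simp only at hk huw
        rcases Int.even_or_odd k with ⟨j, rfl⟩ | ⟨j, rfl⟩
        · left
          show (g : G) ∈ A
          rw [← huw, ← hk, ← two_mul, zpow_mul, zpow_two, ht2, one_zpow, mul_one]; exact hu
        · right
          show (g : G) * t ∈ A
          rw [← huw, ← hk, zpow_add_one, zpow_mul, zpow_two, ht2, one_zpow, one_mul, mul_assoc, ht2, mul_one]
          exact hu
      have eA : A' ≃* A := Subgroup.subgroupOfEquivOfLe le_sup_left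
      have hperf : commutator ↥A' = ⊤ := by
        apply Subgroup.map_injective eA.injective (f := eA.toMonoidHom)
        rw [commutator_def, Subgroup.map_commutator,
          Subgroup.map_top_of_surjective eA.toMonoidHom eA.surjective, ← hA]
        exact Cfsg.Agent.Components.Basic.commutator_layer_self
      have hsolv := Cfsg.Agent.SemiRankOne.solvCentral_of_mulEquiv eA
        (Cfsg.Agent.SemiRankOne.solvCentral_of_layer hA)
      have hxord : orderOf x' = 4 := by rw [← Subgroup.orderOf_coe]; exact hx4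
      have hU : IsPGroup 2 (Subgroup.zpowers x' ⊔ Subgroup.zpowers t' : Subgroup H) := by
        refine IsPGroup.to_sup_of_normal_right' (IsPGroup.of_card (n := 2) ?_) (IsPGroup.of_card (n := 1) ?_) ?_
        · rw [Nat.card_zpowers, hxord]; norm_num
        · rw [Nat.card_zpowers, ← Subgroup.orderOf_coe, pow_one]; exact ht
        · refine Subgroup.zpowers_le.2 (Subgroup.centralizer_le_normalizer _ (Subgroup.mem_centralizer_iff.2 ?_))
          rintro c ⟨k, rfl⟩
          exact (hxt'.symm.zpow_left k).eq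
      obtain ⟨T, hT⟩ := hU.exists_le_sylow
      have hxT : x' ∈ (T : Subgroup H) := hT (Subgroup.mem_sup_left (Subgroup.mem_zpowers _))
      have htT : t' ∈ (T : Subgroup H) := hT (Subgroup.mem_sup_right (Subgroup.mem_zpowers _))
      have toD : ∀ K : Subgroup H, K ≤ A' → (∀ g ∈ K, Commute g t') → K.map H.subtype ≤ D := by
        rintro K hKA hKt _ ⟨g, hg, rfl⟩
        exact (memD _).2 ⟨hKA hg, congrArg Subtype.val (hKt g hg).eq⟩
      have hctx : Cfsg.Agent.SemiRankOne.Ctx A' T t' x' :=
        { normal := hA'n, perf := hperf, solv := hsolv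
          odd := fun h => Cfsg.Agent.S0205.result h
          idx := hidx, tA := htmem, tT := htT, t2 := Subtype.ext ht2, xA := hxA, xT := hxT
          x4 := hxord, xt := hxt'
          small := fun K hK hKA hKt => by
            rw [Nat.card_congr (K.equivMapOfInjective _ H.subtype_injective).toEquiv]
            exact (small _ (hK.map _) (toD K hKA hKt)).2
          cent := fun s hs hsA hst => by
            set K := (T : Subgroup H) ⊓ A' ⊓ Subgroup.centralizer ({t'} : Set H) with hK
            have hKt : ∀ g ∈ K, Commute g t' := fun g hg => Subgroup.mem_centralizer_singleton_iff.1 hg.2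
            have h4 := (small _ ((T.2.to_le (inf_le_left.trans inf_le_left)).map H.subtype)
              (toD K (inf_le_left.trans inf_le_right) hKt)).2
            rw [← Nat.card_congr (K.equivMapOfInjective _ H.subtype_injective).toEquiv] at h4
            have hle : Subgroup.zpowers x' ≤ K := Subgroup.zpowers_le.2
              ⟨⟨hxT, hxA⟩, Subgroup.mem_centralizer_singleton_iff.2 hxt'.eq⟩
            rw [Subgroup.eq_of_le_of_card_ge hle (by rw [Nat.card_zpowers, hxord]; exact h4)]
            exact ⟨⟨hs, hsA⟩, Subgroup.mem_centralizer_singleton_iff.2 hst.eq⟩ }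
      exact congrArg Subtype.val (hctx.rank_one (a := ⟨a, Subgroup.mem_sup_left ha⟩)
        (b := ⟨b, Subgroup.mem_sup_left hb⟩) ha hb (Subtype.ext hab) (Subtype.ext ha2) (Subtype.ext hb2)
        (fun h => ha1 (congrArg Subtype.val h)) (fun h => hb1 (congrArg Subtype.val h)))
  intro E hE hE2
  have := hE
  rw [pow_one]
  by_cases h : ∃ e : E, e ≠ 1
  · obtain ⟨e, he⟩ := h
    have : Nat.card E ≤ Nat.card Bool := Nat.card_le_card_of_surjective (fun b : Bool => if b then e else 1)
      (fun y => if hy : y = 1 then ⟨false, by simp [hy]⟩ else ⟨true, by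
        have h2 : ∀ c : E, ((c : A) : G) * ((c : A) : G) = 1 := fun c => by
          have := congrArg Subtype.val (hE2 c c.2)
          simpa [pow_two] using this
        refine Eq.trans (if_pos rfl) (Subtype.ext (Subtype.ext ?_))
        exact key _ (e : A).2 _ (y : A).2 (congrArg Subtype.val (setLike_mul_comm e.2 y.2)) (h2 e) (h2 y)
          (fun h => he (Subtype.ext (Subtype.ext h))) (fun h => hy (Subtype.ext (Subtype.ext h)))⟩)
    rwa [Nat.card_eq_fintype_card (α := Bool), Fintype.card_bool] at this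
  · push Not at h
    haveI : Subsingleton E := ⟨fun a b => (h a).trans (h b).symm⟩
    rw [Nat.card_of_subsingleton (1 : E)]
    omega

end Cfsg.Agent.S1914
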