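import Cfsg.Statements.S1915
import Cfsg.Agent.Lib.Components.FourActionRankOne
import Cfsg.Agent.Lib.Components.Basic

set_option autoImplicit false
open Cfsg

namespace Cfsg.Agent.S1915

/-- Let A be a semisimple subgroup (A = E(A)) of a finite group and U a Klein four-group normalizing A. If the subgroup of A generated by the normalizers N_A(V) of the nontrivial subgroups V of U has 2-rank exactly 1, then A has 2-rank exactly 1. -/
theorem result {G : Type*} [Group G] [Finite G] (A : Subgroup G) (hA : Cfsg.layer ↥A = ⊤)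
    (U : Subgroup G) (hU : IsKleinFour U) (hUA : U ≤ Subgroup.normalizer (A : Set G))
    (hΓ : Cfsg.PRankLE 2 1 ↥(⨆ V : {V : Subgroup G // V ≤ U ∧ V ≠ ⊥}, A ⊓ Subgroup.normalizer ((V : Subgroup G) : Set G)) ∧
      ¬ Cfsg.PRankLE 2 0 ↥(⨆ V : {V : Subgroup G // V ≤ U ∧ V ≠ ⊥}, A ⊓ Subgroup.normalizer ((V : Subgroup G) : Set G))) :
    Cfsg.PRankLE 2 1 A ∧ ¬ Cfsg.PRankLE 2 0 A := by
  classical
  haveI : Fact (Nat.Prime 2) := ⟨Nat.prime_two⟩
  have := hU
  set Γ := ⨆ V : {V : Subgroup G // V ≤ U ∧ V ≠ ⊥}, A ⊓ Subgroup.normalizer ((V : Subgroup G) : Set G)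
  have hΓA : Γ ≤ A := iSup_le fun V => inf_le_left
  have hU2 : ∀ u ∈ U, u * u = 1 := fun u hu =>
    congrArg Subtype.val (IsKleinFour.mul_self (⟨u, hu⟩ : U))
  have hΓ0 : ¬ Cfsg.PRankLE 2 0 A := by
    intro h0
    refine hΓ.2 fun E hE hE2 => ?_
    have := hE
    have h := h0 (E.map (Subgroup.inclusion hΓA)) inferInstance (by
      rintro _ ⟨e, he, rfl⟩
      rw [← map_pow, hE2 e he, map_one])
    rwa [Subgroup.card_map_of_injective (Subgroup.inclusion_injective hΓA)] at h
  refine ⟨?_, hΓ0⟩
  have key : ∀ a ∈ A, ∀ b ∈ A, a * b = b * a → a * a = 1 → b * b = 1 → a ≠ 1 → b ≠ 1 → a = b := by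
    set H := A ⊔ U
    haveI : (A.subgroupOf H).Normal := Subgroup.normal_subgroupOf_of_le_normalizer
      (sup_le Subgroup.le_normalizer hUA)
    have hperfA : commutator ↥A = ⊤ := by
      rw [commutator_def, ← hA]; exact Cfsg.Agent.Components.Basic.commutator_layer_self
    have hperf : commutator ↥(A.subgroupOf H) = ⊤ := by
      have e := Subgroup.subgroupOfEquivOfLe (le_sup_left : A ≤ H)
      apply Subgroup.map_injective e.injective (f := e.toMonoidHom)
      rw [commutator_def, Subgroup.map_commutator, Subgroup.map_top_of_surjective e.toMonoidHom e.surjective,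
        ← commutator_def, hperfA]
    obtain ⟨u, v, hu, hv, hu1, hv1, huv⟩ : ∃ u v : G, u ∈ U ∧ v ∈ U ∧ u ≠ 1 ∧ v ≠ 1 ∧ u ≠ v := by
      have h4 : Nat.card U = 4 := IsKleinFour.card_four
      obtain ⟨x, hx⟩ : ∃ x : U, x ≠ 1 := by
        by_contra h
        push Not at h
        haveI : Subsingleton U := ⟨fun a b => (h a).trans (h b).symm⟩
        rw [Nat.card_of_subsingleton (1 : U)] at h4
        omega
      obtain ⟨y, hy⟩ : ∃ y : U, y ≠ 1 ∧ y ≠ x := by
        by_contra h
        push Not at h
        have : Nat.card U ≤ Nat.card Bool := Nat.card_le_card_of_surjective (fun b : Bool => if b then x else 1)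
          (fun y => if hy : y = 1 then ⟨false, by simp [hy]⟩ else ⟨true, by simp [h y hy]⟩)
        rw [h4, Nat.card_eq_fintype_card (α := Bool), Fintype.card_bool] at this
        omega
      exact ⟨x, y, x.2, y.2, fun h => hx (Subtype.ext h), fun h => hy.1 (Subtype.ext h),
        fun h => hy.2 (Subtype.ext h.symm)⟩
    have huH : ∀ w ∈ U, w ∈ H := fun w hw => Subgroup.mem_sup_right hw
    have main := Cfsg.Agent.Components.FourAction.rank_le_one (A.subgroupOf H) (U.subgroupOf H) hperf
      (fun w hw => Subtype.ext (hU2 w hw))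
      ⟨⟨u, huH u hu⟩, hu, ⟨v, huH v hv⟩, hv, fun h => hu1 (congrArg Subtype.val h),
        fun h => hv1 (congrArg Subtype.val h), fun h => huv (congrArg Subtype.val h)⟩
      (by rw [← Subgroup.subgroupOf_sup le_sup_left le_sup_right, Subgroup.subgroupOf_self])
      (fun w hw hw1 a ha b hb hwa hwb hab ha2 hb2 ha1 hb1 => by
        by_contra hne
        have hmem : ∀ c : H, c ∈ A.subgroupOf H → w * c = c * w → (c : G) ∈ Γ := fun c hc hwc =>
          le_iSup (fun V : {V : Subgroup G // V ≤ U ∧ V ≠ ⊥} =>
              A ⊓ Subgroup.normalizer ((V : Subgroup G) : Set G))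
            ⟨Subgroup.zpowers (w : G), Subgroup.zpowers_le.mpr hw,
              fun h => hw1 (Subtype.ext (Subgroup.zpowers_eq_bot.mp h))⟩
            (Subgroup.mem_inf.mpr ⟨hc, by
              rw [Subgroup.mem_normalizer_iff_map_conj_eq, MonoidHom.map_zpowers]
              congr 1
              show (c : G) * w * (c : G)⁻¹ = w
              have hwc' : (w : G) * c = c * w := congrArg Subtype.val hwc
              rw [← hwc', mul_inv_cancel_right]⟩)
        let a' : Γ := ⟨a, hmem a ha hwa⟩
        let b' : Γ := ⟨b, hmem b hb hwb⟩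
        have hp : ∀ x ∈ Subgroup.closure ({a', b'} : Set Γ), x ^ 2 = 1 := by
          have hab' : a' * b' = b' * a' := Subtype.ext (congrArg Subtype.val hab : (a : G) * b = b * a)
          have hc : IsMulCommutative (Subgroup.closure ({a', b'} : Set Γ)) :=
            Subgroup.isMulCommutative_closure (by rintro x (rfl | rfl) y (rfl | rfl) <;> simp [hab'])
          intro x hx
          induction hx using Subgroup.closure_induction with
          | mem x hx =>
            rcases hx with rfl | rfl
            · exact Subtype.ext (by rw [pow_two]; exact (congrArg Subtype.val ha2 : (a : G) * a = 1))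
            · exact Subtype.ext (by rw [pow_two]; exact (congrArg Subtype.val hb2 : (b : G) * b = 1))
          | one => exact one_pow 2
          | mul x y hx hy ihx ihy =>
            rw [(show Commute x y from setLike_mul_comm hx hy).mul_pow, ihx, ihy, one_mul]
          | inv x hx ih => rw [inv_pow, ih, inv_one]
        have hab' : a' * b' = b' * a' := Subtype.ext (congrArg Subtype.val hab : (a : G) * b = b * a)
        have hle := hΓ.1 _ (Subgroup.isMulCommutative_closure
          (by rintro x (rfl | rfl) y (rfl | rfl) <;> simp [hab'])) hp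
        have hsub : ({1, a', b'} : Set Γ) ⊆ Subgroup.closure ({a', b'} : Set Γ) :=
          Set.insert_subset (one_mem _) Subgroup.subset_closure
        have h3 : ({1, a', b'} : Set Γ).ncard = 3 := Set.ncard_eq_three.mpr ⟨1, a', b',
          fun h => ha1 (Subtype.ext (congrArg Subtype.val h).symm),
          fun h => hb1 (Subtype.ext (congrArg Subtype.val h).symm),
          fun h => hne (Subtype.ext (congrArg (fun t : Γ => (t : G)) h)), rfl⟩
        have := Set.ncard_le_ncard hsub
        rw [h3, ← Nat.card_coe_set_eq] at this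
        simp only [SetLike.coe_sort_coe] at this
        omega)
    intro a ha b hb hab ha2 hb2 ha1 hb1
    exact congrArg Subtype.val (main ⟨a, Subgroup.mem_sup_left ha⟩ ha ⟨b, Subgroup.mem_sup_left hb⟩ hb
      (Subtype.ext hab) (Subtype.ext ha2) (Subtype.ext hb2) (fun h => ha1 (congrArg Subtype.val h))
      (fun h => hb1 (congrArg Subtype.val h)))
  intro E hE hE2
  have := hE
  rw [pow_one]
  by_cases h : ∃ e : E, e ≠ 1
  · obtain ⟨e, he⟩ := h
    have : Nat.card E ≤ Nat.card Bool := Nat.card_le_card_of_surjective (fun b : Bool => if b then e else 1)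
      (fun y => if hy : y = 1 then ⟨false, by simp [hy]⟩ else ⟨true, by
        have h2 : ∀ c : E, ((c : A) : G) * ((c : A) : G) = 1 := fun c => by
          have := congrArg Subtype.val (hE2 c c.2)
          simpa [pow_two] using this
        refine Eq.trans (if_pos rfl) (Subtype.ext (Subtype.ext ?_))
        exact key _ (e : A).2 _ (y : A).2 (congrArg Subtype.val (setLike_mul_comm e.2 y.2)) (h2 e) (h2 y)
          (fun h => he (Subtype.ext (Subtype.ext h))) (fun h => hy (Subtype.ext (Subtype.ext h)))⟩)
    rwa [Nat.card_eq_fintype_card (α := Bool), Fintype.card_bool] at this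
  · push Not at h
    haveI : Subsingleton E := ⟨fun a b => (h a).trans (h b).symm⟩
    rw [Nat.card_of_subsingleton (1 : E)]
    omega

end Cfsg.Agent.S1915
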