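import Cfsg.Statements.S1921
import Cfsg.Agent.Lib.Components.Basic

set_option autoImplicit false
open Cfsg

namespace Cfsg.Agent.S1921

open Cfsg.Agent.Components.Basic
open scoped commutatorElement

/-- Let a be an involution of a finite group H and L a component of H with a L a⁻¹ ≠ L; put M = ⟨L, aLa⁻¹⟩ and let J be the subgroup generated by the elements x · a x a⁻¹ with x ∈ L (the diagonal). Then every element of M outside J·Z(M) generates M together with J. -/
theorem result {H : Type*} [Group H] [Finite H] (a : H) (ha : orderOf a = 2) (L : Subgroup H) (hL : Cfsg.IsComponent L)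
    (hLa : L.map (MulAut.conj a).toMonoidHom ≠ L) (x : H) (hxM : x ∈ L ⊔ L.map (MulAut.conj a).toMonoidHom)
    (hxJ : x ∉ Subgroup.closure {y : H | ∃ l ∈ L, y = l * (a * l * a⁻¹)} ⊔
      ((L ⊔ L.map (MulAut.conj a).toMonoidHom) ⊓ Subgroup.centralizer ((L ⊔ L.map (MulAut.conj a).toMonoidHom : Subgroup H) : Set H))) :
    Subgroup.closure {y : H | ∃ l ∈ L, y = l * (a * l * a⁻¹)} ⊔ Subgroup.zpowers x = L ⊔ L.map (MulAut.conj a).toMonoidHom := by
  classical
  set L' := L.map (MulAut.conj a).toMonoidHom with hL'def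
  set J := Subgroup.closure {y : H | ∃ l ∈ L, y = l * (a * l * a⁻¹)} with hJdef
  set K := J ⊔ Subgroup.zpowers x with hKdef
  have hcomm : ⁅L, L'⁆ = ⊥ :=
    component_commutator_eq_bot_of_ne hL (component_conj hL a) (Ne.symm hLa)
  have hc : ∀ l ∈ L, ∀ m ∈ L', l * m = m * l := by
    intro l hl m hm
    exact commutatorElement_eq_one_iff_mul_comm.mp
      (Subgroup.mem_bot.mp (hcomm ▸ Subgroup.commutator_mem_commutator hl hm))
  have hmem' : ∀ l ∈ L, a * l * a⁻¹ ∈ L' := fun l hl => ⟨l, hl, rfl⟩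
  have hdiag : ∀ l ∈ L, l * (a * l * a⁻¹) ∈ J := fun l hl => Subgroup.subset_closure ⟨l, hl, rfl⟩
  have hJM : J ≤ L ⊔ L' := by
    rw [hJdef, Subgroup.closure_le]
    rintro y ⟨l, hl, rfl⟩
    exact Subgroup.mul_mem_sup hl (hmem' l hl)
  have hKM : K ≤ L ⊔ L' := sup_le hJM (by rwa [Subgroup.zpowers_le])
  have hnorm : L ≤ Subgroup.normalizer (L' : Set H) := by
    intro l hl
    apply Subgroup.centralizer_le_normalizer
    rw [Subgroup.mem_centralizer_iff]
    intro m hm
    exact (hc l hl m hm).symm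
  obtain ⟨l₁, hl₁, m, hm, hxe⟩ : ∃ l₁ ∈ L, ∃ m ∈ L', l₁ * m = x := by
    have : x ∈ ((L ⊔ L' : Subgroup H) : Set H) := hxM
    rw [Subgroup.coe_mul_of_left_le_normalizer_right L L' hnorm] at this
    exact Set.mem_mul.mp this
  obtain ⟨l₂, hl₂, rfl⟩ := hm
  change l₁ * (a * l₂ * a⁻¹) = x at hxe
  set y := l₁ * l₂⁻¹ with hy
  have hxy : x = y * (l₂ * (a * l₂ * a⁻¹)) := by
    rw [hy, ← hxe]; group
  have hyL : y ∈ L := L.mul_mem hl₁ (L.inv_mem hl₂)
  have hyK : y ∈ K := by
    have : y = x * (l₂ * (a * l₂ * a⁻¹))⁻¹ := by rw [hxy]; group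
    rw [this]
    exact K.mul_mem (Subgroup.mem_sup_right (Subgroup.mem_zpowers x))
      (K.inv_mem (Subgroup.mem_sup_left (hdiag l₂ hl₂)))
  have hLK : L ≤ K := by
    have hN : (K.subgroupOf L).Normal := by
      refine ⟨fun u hu g => ?_⟩
      rw [Subgroup.mem_subgroupOf] at hu ⊢
      have hgu := hc (u : H) u.2 (a * (g : H) * a⁻¹) (hmem' _ g.2)
      have hj : ((g * u * g⁻¹ : L) : H)
          = ((g : H) * (a * g * a⁻¹)) * (u : H) * ((g : H) * (a * g * a⁻¹))⁻¹ := by
        push_cast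
        calc (g : H) * u * (g : H)⁻¹
            = (g : H) * ((u : H) * (a * g * a⁻¹)) * ((g : H) * (a * g * a⁻¹))⁻¹ := by group
          _ = (g : H) * ((a * g * a⁻¹) * (u : H)) * ((g : H) * (a * g * a⁻¹))⁻¹ := by rw [hgu]
          _ = _ := by group
      rw [hj]
      exact K.mul_mem (K.mul_mem (Subgroup.mem_sup_left (hdiag _ g.2)) hu)
        (K.inv_mem (Subgroup.mem_sup_left (hdiag _ g.2)))
    rcases quasisimple_eq_top_or_le_center_of_normal hL.2 (K.subgroupOf L) with h | h
    · exact Subgroup.subgroupOf_eq_top.mp h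
    · refine absurd ?_ hxJ
      have hz : (⟨y, hyL⟩ : L) ∈ Subgroup.center L := h (by rwa [Subgroup.mem_subgroupOf])
      rw [hxy]
      refine Subgroup.mul_mem _ (Subgroup.mem_sup_right ⟨Subgroup.mem_sup_left hyL, ?_⟩)
        (Subgroup.mem_sup_left (hdiag l₂ hl₂))
      have hle : L ⊔ L' ≤ Subgroup.centralizer ({y} : Set H) := by
        refine sup_le ?_ ?_
        · intro l hl
          rw [Subgroup.mem_centralizer_singleton_iff]
          exact congrArg Subtype.val (Subgroup.mem_center_iff.mp hz ⟨l, hl⟩)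
        · intro l hl
          rw [Subgroup.mem_centralizer_singleton_iff]
          exact (hc y hyL l hl).symm
      refine Subgroup.mem_centralizer_iff.mpr fun w hw => ?_
      exact Subgroup.mem_centralizer_singleton_iff.mp (hle hw)
  refine le_antisymm hKM (sup_le hLK ?_)
  rintro _ ⟨l, hl, rfl⟩
  change a * l * a⁻¹ ∈ K
  have : a * l * a⁻¹ = l⁻¹ * (l * (a * l * a⁻¹)) := by group
  rw [this]
  exact K.mul_mem (K.inv_mem (hLK hl)) (Subgroup.mem_sup_left (hdiag l hl))

end Cfsg.Agent.S1921
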