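import Cfsg.Statements.S1922
import Cfsg.Agent.Lib.Involutions.Basic
import Cfsg.Agent.Lib.Transfer.Fusion

set_option autoImplicit false
open Cfsg

namespace Cfsg.Agent.S1922

open Cfsg.Agent.Involutions.Basic

section
variable {G : Type*} [Group G]

theorem smul_mk_eq_iff {H : Subgroup G} (a k : G) :
    a • (k : G ⧸ H) = k ↔ k⁻¹ * a * k ∈ H := by
  show ((a * k : G) : G ⧸ H) = k ↔ _
  rw [QuotientGroup.eq, ← H.inv_mem_iff]
  simp [mul_assoc]

theorem mk_mem_map_conj {H : Subgroup G} (a k : G) :
    a • (k : G ⧸ H) = k ↔ a ∈ H.map (MulAut.conj k).toMonoidHom := by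
  rw [smul_mk_eq_iff, Transfer.Fusion.mem_map_conj]

variable {z : G} {H : Subgroup G}
variable (h0 : ∀ g : G, z ∈ H.map (MulAut.conj g).toMonoidHom ↔ g ∈ H)
include h0

theorem z_fix (x : G ⧸ H) : z • x = x ↔ x = ((1 : G) : G ⧸ H) := by
  obtain ⟨k, rfl⟩ := QuotientGroup.mk_surjective x
  rw [mk_mem_map_conj, h0, QuotientGroup.eq, mul_one, H.inv_mem_iff]

theorem conj_fix (g : G) (x : G ⧸ H) : (g * z * g⁻¹) • x = x ↔ x = (g : G ⧸ H) := by
  rw [mul_smul, mul_smul, ← eq_inv_smul_iff, z_fix h0, inv_smul_eq_iff]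
  constructor <;> intro h
  · rw [h]; show ((g * 1 : G) : G ⧸ H) = _; rw [mul_one]
  · rw [h]; show _ = ((g * 1 : G) : G ⧸ H); rw [mul_one]

theorem centralizer_le : Subgroup.centralizer ({z} : Set G) ≤ H := fun c hc => by
  rw [← h0, ← mk_mem_map_conj]
  have e : c * z * c⁻¹ = z := by
    rw [Subgroup.mem_centralizer_singleton_iff.mp hc, mul_inv_cancel_right]
  exact (congrArg (fun w : G => w • (c : G ⧸ H)) e.symm).trans ((conj_fix h0 c _).mpr rfl)

variable [Finite G] (hz : orderOf z = 2)
include hz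

theorem odd_index : Odd H.index := by
  classical
  have : Fintype (G ⧸ H) := Fintype.ofFinite _
  have hinv : Function.Involutive (fun x : G ⧸ H => z • x) := fun x => by
    show z • z • x = x
    rw [smul_smul, inv_sq_one hz, one_smul]
  let σ : Equiv.Perm (G ⧸ H) := hinv.toPerm
  have hσ : σ ^ 2 ^ 1 = 1 := by
    ext x
    rw [pow_one, pow_two]
    exact hinv x
  have hsupp := Equiv.Perm.card_compl_support_modEq (p := 2) (n := 1) hσ
  have hc : σ.supportᶜ = {((1 : G) : G ⧸ H)} := by
    ext x
    rw [Finset.mem_compl, Equiv.Perm.mem_support, not_not, Finset.mem_singleton]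
    exact z_fix h0 x
  rw [hc, Finset.card_singleton] at hsupp
  rw [Nat.odd_iff, Subgroup.index, Nat.card_eq_fintype_card]
  exact hsupp.symm

variable (hpair : ∀ t : G, IsConj z t → t ≠ z → t * z = z * t →
    ∀ g : G, z * t ∈ H.map (MulAut.conj g).toMonoidHom ↔ g ∈ H)
include hpair

omit [Finite G] hz in
theorem pair_fix {a b : G} (ha : IsConj z a) (hb : IsConj z b) (hne : b ≠ a) (hab : b * a = a * b)
    {x : G ⧸ H} (hx : (a * b) • x = x) : a • x = x := by
  obtain ⟨g, rfl⟩ := isConj_iff.mp ha
  obtain ⟨d, rfl⟩ := isConj_iff.mp hb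
  rw [conj_fix h0]
  obtain ⟨k, rfl⟩ := QuotientGroup.mk_surjective x
  have h := (hpair (g⁻¹ * (d * z * d⁻¹) * g) (isConj_iff.mpr ⟨g⁻¹ * d, by group⟩) (fun e => hne (by
      calc d * z * d⁻¹ = g * (g⁻¹ * (d * z * d⁻¹) * g) * g⁻¹ := by group
        _ = g * z * g⁻¹ := by rw [e])) (by
      calc g⁻¹ * (d * z * d⁻¹) * g * z = g⁻¹ * ((d * z * d⁻¹) * (g * z * g⁻¹)) * g := by group
        _ = g⁻¹ * ((g * z * g⁻¹) * (d * z * d⁻¹)) * g := by rw [hab]
        _ = _ := by group) (g⁻¹ * k)).mp (by
      rw [mk_mem_map_conj] at hx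
      rw [Transfer.Fusion.mem_map_conj] at hx ⊢
      convert hx using 1; group)
  rw [QuotientGroup.eq]
  have := H.inv_mem h
  simpa [mul_assoc] using this

theorem odd_orderOf_mul {a u : G} (ha : IsConj z a) (hu : IsConj z u) {α β : G ⧸ H}
    (hα : a • α = α) (hβ : u • β = β) (hne : α ≠ β) : Odd (orderOf (a * u)) := by
  have ha2 : orderOf a = 2 := by obtain ⟨g, rfl⟩ := isConj_iff.mp ha; rw [orderOf_conj, hz]
  have hu2 : orderOf u = 2 := by obtain ⟨g, rfl⟩ := isConj_iff.mp hu; rw [orderOf_conj, hz]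
  by_contra hodd
  rw [Nat.not_odd_iff_even] at hodd
  obtain ⟨m, hm⟩ := hodd
  have hm0 : m ≠ 0 := by
    have := orderOf_pos (a * u)
    omega
  set w := (a * u) ^ m with hw
  have hww : w * w = 1 := by rw [hw, ← pow_add, ← hm, pow_orderOf_eq_one]
  have hw1 : w ≠ 1 := fun h => by
    have := Nat.le_of_dvd (Nat.pos_of_ne_zero hm0) (orderOf_dvd_of_pow_eq_one h)
    omega
  have hwinv : w⁻¹ = w := inv_eq_of_mul_eq_one_left hww
  have haw : a * w * a⁻¹ = w := by
    have := conj_zpow_left ha2 hu2 (m : ℤ)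
    rwa [zpow_natCast, zpow_neg, zpow_natCast, ← hw, hwinv] at this
  have huw : u * w * u⁻¹ = w := by
    have := conj_zpow_right ha2 hu2 (m : ℤ)
    rwa [zpow_natCast, zpow_neg, zpow_natCast, ← hw, hwinv] at this
  have hwa : w * a = a * w := (mul_inv_eq_iff_eq_mul.mp haw).symm
  have haw' : IsConj z (a * w) := by
    rcases Nat.even_or_odd m with ⟨i, hi⟩ | ⟨i, hi⟩
    · refine ha.trans (isConj_iff.mpr ⟨((a * u) ^ i)⁻¹, ?_⟩)
      rw [inv_inv, hw, hi, pow_add]
      have := zpow_mul_left ha2 hu2 (-(i : ℤ))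
      rw [neg_neg, zpow_neg, zpow_natCast] at this
      rw [this, mul_assoc]
    · refine hu.trans (isConj_iff.mpr ⟨((a * u) ^ i)⁻¹, ?_⟩)
      rw [inv_inv, hw, hi, show 2 * i + 1 = i + (1 + i) by ring, pow_add, pow_add, pow_one]
      have := zpow_mul_left ha2 hu2 (-(i : ℤ))
      rw [neg_neg, zpow_neg, zpow_natCast] at this
      have hau : a * (a * u) = u := by rw [← mul_assoc, inv_sq_one ha2, one_mul]
      rw [← mul_assoc a, ← mul_assoc (a * (a * u) ^ i), ← this]
      simp only [mul_assoc]
      rw [← mul_assoc a a, inv_sq_one ha2, one_mul]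
  have hne' : a * w ≠ a := fun h => hw1 (mul_eq_left.mp h)
  have hcomm : a * w * a = a * (a * w) := by rw [mul_assoc, hwa]
  have huw' : w * u = u * w := (mul_inv_eq_iff_eq_mul.mp huw).symm
  have hwβ : w • β = β := by
    have hfix : u • (w • β) = w • β := by rw [smul_smul, ← huw', ← smul_smul, hβ]
    obtain ⟨g, rfl⟩ := isConj_iff.mp hu
    rw [conj_fix h0] at hfix hβ
    rw [hfix, hβ]
  have : a • β = β := pair_fix h0 hpair ha haw' hne' hcomm
    (by rw [← mul_assoc, inv_sq_one ha2, one_mul]; exact hwβ)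
  obtain ⟨g, rfl⟩ := isConj_iff.mp ha
  rw [conj_fix h0] at this hα
  exact hne (hα.trans this.symm)

theorem odd_card_conj (hH : H ≠ ⊤) :
    Odd (Nat.card {a : G // IsConj z a}) := by
  classical
  have : Fintype G := Fintype.ofFinite _
  have : Fintype (G ⧸ H) := Fintype.ofFinite _
  set o : G ⧸ H := ((1 : G) : G ⧸ H) with ho
  have hconj2 : ∀ {a : G}, IsConj z a → orderOf a = 2 := by
    intro a ha; obtain ⟨g, rfl⟩ := isConj_iff.mp ha; rw [orderOf_conj, hz]
  let N : G ⧸ H → Finset G := fun β => Finset.univ.filter fun m => IsConj z m ∧ m • o = β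
  have huniq : ∀ {a : G}, IsConj z a → ∀ {x y : G ⧸ H}, a • x = x → a • y = y → x = y := by
    intro a ha x y hx hy
    obtain ⟨g, rfl⟩ := isConj_iff.mp ha
    rw [conj_fix h0] at hx hy
    rw [hx, hy]
  -- the fibres over points other than `o`
  have hsurj : ∀ β, β ≠ o → (N o).card ≤ (N β).card := by
    intro β hβ
    obtain ⟨k, hk⟩ := QuotientGroup.mk_surjective β
    have hu : IsConj z (k * z * k⁻¹) := isConj_iff.mpr ⟨k, rfl⟩
    have hub : (k * z * k⁻¹) • β = β := (conj_fix h0 k β).mpr hk.symm
    set u := k * z * k⁻¹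
    have hsub : N o ⊆ (N β).image (fun m => m * u * m) := by
      intro a ha
      obtain ⟨haz, hao⟩ : IsConj z a ∧ a • o = o := by simpa [N] using ha
      have hodd := odd_orderOf_mul h0 hz hpair haz hu hao hub (Ne.symm hβ)
      obtain ⟨j, hj⟩ := hodd
      have ha2 := hconj2 haz
      have hu2 := hconj2 hu
      set m := (a * u) ^ j * a with hm
      have hpow : (a * u) ^ (2 * j + 1) = 1 := by rw [← hj, pow_orderOf_eq_one]
      set r := a * u with hr
      have hja : ∀ i : ℕ, a * r ^ i = (r ^ i)⁻¹ * a := by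
        intro i
        have := conj_zpow_left ha2 hu2 (i : ℤ)
        rw [zpow_neg, zpow_natCast, ← hr] at this
        rw [← this, inv_mul_cancel_right]
      have hmm : m * m = 1 := by
        rw [hm, show r ^ j * a * (r ^ j * a) = r ^ j * (a * r ^ j) * a by group, hja, mul_inv_cancel_left,
          inv_sq_one ha2]
      have h1 : m * a * m = u := by
        rw [hm, show r ^ j * a * a * (r ^ j * a) = r ^ j * (a * a) * r ^ j * a by group, inv_sq_one ha2,
          mul_one, ← pow_add]
        have h2 : r ^ (j + j) * r = 1 := by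
          rw [← pow_succ, show j + j + 1 = 2 * j + 1 by ring, hpow]
        have h2' : r ^ (j + j) * a * u = 1 := by rw [mul_assoc, ← hr]; exact h2
        rw [← inv_eq hu2]
        exact eq_inv_of_mul_eq_one_left h2'
      have hmum : m * u * m = a := by
        rw [← h1, show m * (m * a * m) * m = (m * m) * a * (m * m) by group, hmm, one_mul, mul_one]
      have hmo : m • o = β := by
        refine huniq hu ?_ hub
        have h3 : m * a = u * m := by
          rw [← hmum, show m * (m * u * m) = (m * m) * (u * m) by group, hmm, one_mul]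
        rw [smul_smul, ← h3, ← smul_smul, hao]
      have hmz : IsConj z m := by
        refine haz.trans (isConj_iff.mpr ⟨r ^ (j * (j + 1)), ?_⟩)
        have h4 : r ^ (j * (j + 1)) * a = a * (r ^ (j * (j + 1)))⁻¹ := by
          have h := zpow_mul_left ha2 hu2 ((j * (j + 1) : ℕ) : ℤ)
          rwa [zpow_neg, zpow_natCast, ← hr] at h
        have h5 : a * (r ^ (j * (j + 1)))⁻¹ = r ^ (j * (j + 1)) * a := h4.symm
        rw [mul_assoc, h5, ← mul_assoc, ← pow_add, hm,
          show j * (j + 1) + j * (j + 1) = (2 * j + 1) * j + j by ring, pow_add, pow_mul, hpow,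
          one_pow, one_mul]
      exact Finset.mem_image.mpr ⟨m, Finset.mem_filter.mpr ⟨Finset.mem_univ _, hmz, hmo⟩, hmum⟩
    exact (Finset.card_le_card hsub).trans Finset.card_image_le
  have hparity : ∀ β, β ≠ o → (N β).Nonempty → Odd (N β).card := by
    intro β hβ ⟨m, hm⟩
    obtain ⟨hmz, hmo⟩ : IsConj z m ∧ m • o = β := by simpa [N] using hm
    have hm2 := hconj2 hmz
    have hmβ : m • β = o := by rw [← hmo, smul_smul, inv_sq_one hm2, one_smul]
    have hswap : ∀ {a : G}, IsConj z a → a • o = β → a • β = o := fun {a} ha hao => by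
      rw [← hao, smul_smul, inv_sq_one (hconj2 ha), one_smul]
    have hmem : ∀ a ∈ N β, m * a * m⁻¹ ∈ N β := by
      intro a ha
      obtain ⟨haz, hao⟩ : IsConj z a ∧ a • o = β := by simpa [N] using ha
      refine Finset.mem_filter.mpr ⟨Finset.mem_univ _, haz.trans (isConj_iff.mpr ⟨m, rfl⟩), ?_⟩
      rw [mul_smul, mul_smul, inv_eq hm2, hmo, hswap haz hao, hmo]
    let f : {a // a ∈ N β} → {a // a ∈ N β} := fun a => ⟨m * a.1 * m⁻¹, hmem _ a.2⟩
    have hinv : Function.Involutive f := fun a => Subtype.ext (by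
      show m * (m * a.1 * m⁻¹) * m⁻¹ = a.1
      calc m * (m * a.1 * m⁻¹) * m⁻¹ = (m * m) * a.1 * (m * m)⁻¹ := by group
        _ = a.1 := by rw [inv_sq_one hm2]; group)
    let σ : Equiv.Perm {a // a ∈ N β} := hinv.toPerm
    have hσ : σ ^ 2 ^ 1 = 1 := by
      ext x
      rw [pow_one, pow_two]
      exact congrArg Subtype.val (hinv x)
    have hsupp := Equiv.Perm.card_compl_support_modEq (p := 2) (n := 1) hσ
    have hc : σ.supportᶜ = {⟨m, hm⟩} := by
      ext ⟨a, ha⟩
      obtain ⟨haz, hao⟩ : IsConj z a ∧ a • o = β := by simpa [N] using ha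
      rw [Finset.mem_compl, Equiv.Perm.mem_support, not_not, Finset.mem_singleton]
      constructor
      · intro h
        have h' : m * a * m⁻¹ = a := congrArg Subtype.val h
        refine Subtype.ext (by_contra fun hne => hβ ?_)
        have hma : m • o = o := pair_fix h0 hpair hmz haz hne (mul_inv_eq_iff_eq_mul.mp h').symm
          (by rw [mul_smul, hao, hmβ])
        exact hmo.symm.trans hma
      · rintro h
        obtain rfl : a = m := congrArg Subtype.val h
        exact Subtype.ext (by show a * a * a⁻¹ = a; group)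
    rw [hc, Finset.card_singleton, Fintype.card_coe] at hsupp
    exact Nat.odd_iff.mpr hsupp.symm
  -- total count
  set d := (N o).card with hd
  set n := Fintype.card (G ⧸ H) with hn
  set D := Finset.univ.filter (fun a : G => IsConj z a) with hD
  have hsum : D.card = ∑ β : G ⧸ H, (N β).card := by
    rw [Finset.card_eq_sum_card_fiberwise (f := fun m => m • o) (t := Finset.univ) (fun _ _ => Finset.mem_univ _)]
    refine Finset.sum_congr rfl fun β _ => ?_
    rw [hD, Finset.filter_filter]
  have hfix : D.card = n * d := by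
    have hfib : ∀ β : G ⧸ H, (D.filter fun a => a • β = β).card = d := by
      intro β
      obtain ⟨k, rfl⟩ := QuotientGroup.mk_surjective β
      refine Finset.card_bij (fun a _ => k⁻¹ * a * k) ?_ ?_ ?_
      · intro a ha
        obtain ⟨haz, hak⟩ : IsConj z a ∧ a • (k : G ⧸ H) = k := by simpa [hD] using ha
        refine Finset.mem_filter.mpr ⟨Finset.mem_univ _, haz.trans (isConj_iff.mpr ⟨k⁻¹, by group⟩), ?_⟩
        rw [smul_mk_eq_iff] at hak
        rw [ho, smul_mk_eq_iff]; simpa using hak
      · intro a _ b _ h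
        exact mul_left_cancel (mul_right_cancel h)
      · intro a ha
        obtain ⟨haz, hao⟩ : IsConj z a ∧ a • o = o := by simpa [N] using ha
        refine ⟨k * a * k⁻¹, ?_, by group⟩
        rw [ho, smul_mk_eq_iff] at hao
        refine Finset.mem_filter.mpr ⟨Finset.mem_filter.mpr ⟨Finset.mem_univ _,
          haz.trans (isConj_iff.mpr ⟨k, rfl⟩)⟩, ?_⟩
        rw [smul_mk_eq_iff]
        simpa [mul_assoc] using hao
    have : ∀ a ∈ D, (Finset.univ.filter fun β : G ⧸ H => a • β = β).card = 1 := by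
      intro a ha
      obtain ⟨g, rfl⟩ := isConj_iff.mp (Finset.mem_filter.mp ha).2
      rw [Finset.card_eq_one]
      exact ⟨(g : G ⧸ H), by ext β; simp [conj_fix h0]⟩
    have hdouble := Finset.sum_card_bipartiteAbove_eq_sum_card_bipartiteBelow
      (fun a (β : G ⧸ H) => a • β = β) (s := D) (t := Finset.univ)
    simp only [Finset.bipartiteAbove, Finset.bipartiteBelow] at hdouble
    rw [Finset.sum_congr rfl this, Finset.sum_congr rfl (fun β _ => hfib β), Finset.sum_const,
      Finset.sum_const, smul_eq_mul, smul_eq_mul, mul_one, Finset.card_univ] at hdouble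
    exact hdouble
  have hd1 : 1 ≤ d := Finset.card_pos.mpr ⟨z, Finset.mem_filter.mpr
    ⟨Finset.mem_univ _, IsConj.refl z, (z_fix h0 o).mpr rfl⟩⟩
  have hno : Odd n := by
    have := odd_index h0 hz
    rwa [Subgroup.index, Nat.card_eq_fintype_card] at this
  have hall : ∀ β, (N β).card = d := by
    intro β
    have hle : ∀ γ ∈ (Finset.univ : Finset (G ⧸ H)), d ≤ (N γ).card := by
      intro γ _
      by_cases hγ : γ = o
      · rw [hγ]
      · exact hsurj γ hγ
    have heq : ∑ γ : G ⧸ H, d = ∑ γ : G ⧸ H, (N γ).card := by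
      rw [← hsum, hfix, Finset.sum_const, smul_eq_mul, Finset.card_univ]
    exact ((Finset.sum_eq_sum_iff_of_le hle).mp heq β (Finset.mem_univ _)).symm
  obtain ⟨g, hg⟩ : ∃ g, g ∉ H := by
    by_contra h; push Not at h
    exact hH (eq_top_iff.mpr fun x _ => h x)
  have hgo : (g : G ⧸ H) ≠ o := fun h => hg (by
    rw [ho, QuotientGroup.eq, mul_one, H.inv_mem_iff] at h; exact h)
  have hdodd : Odd d := hall (g : G ⧸ H) ▸ hparity _ hgo
    (Finset.card_pos.mp (hd1.trans_eq (hall _).symm))
  rw [Nat.card_eq_fintype_card, Fintype.card_subtype, ← hD, hfix]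
  exact hno.mul hdodd

end

/-- Let z be an involution of a finite group G and H a proper subgroup such that z lies in gHg⁻¹ exactly when g ∈ H. Then the following are equivalent: (1) for every conjugate t ≠ z of z commuting with z, the product zt lies in gHg⁻¹ exactly when g ∈ H; (2) z lies in the centre of some Sylow 2-subgroup of G, and for every conjugate t ≠ z of z commuting with z, the centralizer of zt is contained in H. -/
theorem result {G : Type*} [Group G] [Finite G] (z : G) (hz : orderOf z = 2) (H : Subgroup G) (hH : H ≠ ⊤)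
    (h0 : ∀ g : G, z ∈ H.map (MulAut.conj g).toMonoidHom ↔ g ∈ H) :
    (∀ t : G, IsConj z t → t ≠ z → t * z = z * t → ∀ g : G, z * t ∈ H.map (MulAut.conj g).toMonoidHom ↔ g ∈ H) ↔
      ((∃ P : Sylow 2 G, z ∈ (Subgroup.center ↥(P : Subgroup G)).map (P : Subgroup G).subtype) ∧
        ∀ t : G, IsConj z t → t ≠ z → t * z = z * t → Subgroup.centralizer ({z * t} : Set G) ≤ H) := by
  have : Fact (Nat.Prime 2) := ⟨Nat.prime_two⟩
  have hCz := centralizer_le h0
  constructor
  · intro hpair
    refine ⟨?_, fun t ht hne hc c hcc => ?_⟩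
    · obtain ⟨T⟩ : Nonempty (Sylow 2 ↥(Subgroup.centralizer ({z} : Set G))) := inferInstance
      set C := Subgroup.centralizer ({z} : Set G) with hC
      set T' := (T : Subgroup ↥C).map C.subtype with hT'
      have hidx : Odd C.index := by
        have h := odd_card_conj h0 hz hpair hH
        have : Nat.card {a : G // IsConj z a} = C.index := by
          have hcard : Nat.card {a : G // IsConj z a} = (MulAction.stabilizer (ConjAct G) z).index := by
            rw [MulAction.index_stabilizer, ← Nat.card_coe_set_eq]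
            refine Nat.card_congr (Equiv.setCongr ?_)
            ext a
            rw [ConjAct.mem_orbit_conjAct]
            exact ⟨IsConj.symm, IsConj.symm⟩
          rw [hcard, hC, Subgroup.centralizer_eq_comap_stabilizer]
          exact (Subgroup.index_comap_of_surjective _
            (f := (ConjAct.toConjAct : G ≃* ConjAct G).toMonoidHom) ConjAct.toConjAct.surjective).symm
        rwa [this] at h
      have hT'i : ¬ 2 ∣ T'.index := by
        rw [hT', Subgroup.index_map_subtype, Nat.prime_two.dvd_mul, not_or]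
        exact ⟨T.not_dvd_index, Nat.odd_iff.mp hidx |> fun h => by omega⟩
      have hzT : z ∈ T' := by
        have hzC : z ∈ C := Subgroup.mem_centralizer_singleton_iff.mpr rfl
        have hcen : (⟨z, hzC⟩ : C) ∈ Subgroup.center C := Subgroup.mem_center_iff.mpr fun c =>
          Subtype.ext (Subgroup.mem_centralizer_singleton_iff.mp c.2)
        have hp : IsPGroup 2 (Subgroup.zpowers (⟨z, hzC⟩ : C)) :=
          IsPGroup.of_card (n := 1) (by rw [Nat.card_zpowers, Subgroup.orderOf_mk, hz, pow_one])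
        have hn : (Subgroup.zpowers (⟨z, hzC⟩ : C)).Normal :=
          ⟨fun x hx g => by
          have hxc := (Subgroup.zpowers_le.mpr hcen) hx
          rwa [Subgroup.mem_center_iff.mp hxc g, mul_inv_cancel_right]⟩
        exact ⟨⟨z, hzC⟩, hp.le_sylow_of_normal T (Subgroup.mem_zpowers _), rfl⟩
      refine ⟨(T.2.map C.subtype).toSylow hT'i, ⟨⟨z, hzT⟩, ?_, rfl⟩⟩
      refine Subgroup.mem_center_iff.mpr ?_
      rintro ⟨_, c, -, rfl⟩
      exact Subtype.ext (Subgroup.mem_centralizer_singleton_iff.mp c.2)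
    · rw [← hpair t ht hne hc]
      rw [Transfer.Fusion.mem_map_conj]
      have h := (hpair t ht hne hc 1).mpr H.one_mem
      rw [Transfer.Fusion.mem_map_conj, inv_one, one_mul, mul_one] at h
      rwa [mul_assoc, ← Subgroup.mem_centralizer_singleton_iff.mp hcc, inv_mul_cancel_left]
  · rintro ⟨⟨P, ⟨⟨z', hz'P⟩, hz'c, hzz⟩⟩, hC⟩ t ht hne hc g
    obtain rfl : z' = z := hzz
    have hzH : z' ∈ H := hCz (Subgroup.mem_centralizer_singleton_iff.mpr rfl)
    have hPH : (P : Subgroup G) ≤ H := fun c hcP => hCz (Subgroup.mem_centralizer_singleton_iff.mpr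
      (congrArg Subtype.val (Subgroup.mem_center_iff.mp hz'c ⟨c, hcP⟩)))
    have hztH : z' * t ∈ H := H.mul_mem hzH (hCz (Subgroup.mem_centralizer_singleton_iff.mpr hc))
    constructor
    · intro hg
      set K := H.map (MulAut.conj g).toMonoidHom with hK
      set P' := ((g • P : Sylow 2 G)) with hP'
      have hP'K : (P' : Subgroup G) ≤ K := by
        rw [Transfer.Fusion.coe_smul_eq_map]; exact Subgroup.map_mono hPH
      obtain ⟨k, hk, R, hR, hzt⟩ : ∃ k ∈ K, ∃ R : Sylow 2 G, (R : Subgroup G) =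
          (P' : Subgroup G).map (MulAut.conj k).toMonoidHom ∧ z' * t ∈ R := by
        have hzt2 : (z' * t) * (z' * t) = 1 := by
          obtain ⟨d, rfl⟩ := isConj_iff.mp ht
          have hd2 : orderOf (d * z' * d⁻¹) = 2 := by rw [orderOf_conj, hz]
          rw [mul_assoc z', ← mul_assoc (d * z' * d⁻¹) z', hc, mul_assoc, inv_sq_one hd2, mul_one,
            inv_sq_one hz]
        have hp : IsPGroup 2 (Subgroup.zpowers (z' * t)) := by
          obtain ⟨i, -, hi⟩ := (Nat.dvd_prime_pow Nat.prime_two).mp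
            (orderOf_dvd_of_pow_eq_one (x := z' * t) (n := 2 ^ 1) (by rw [pow_one, pow_two, hzt2]))
          exact IsPGroup.of_card (by rw [Nat.card_zpowers, hi])
        obtain ⟨S, hS⟩ := (hp.comap_subtype (K := K)).exists_le_sylow
        obtain ⟨k, hk⟩ := MulAction.exists_smul_eq K (P'.subtype hP'K) S
        refine ⟨k, k.2, (k : G) • P', Transfer.Fusion.coe_smul_eq_map _ _, ?_⟩
        have hmem := hS (Subgroup.mem_subgroupOf.mpr (Subgroup.mem_zpowers _) :
          (⟨z' * t, hg⟩ : K) ∈ (Subgroup.zpowers (z' * t)).subgroupOf K)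
        rw [← hk, Sylow.smul_subtype] at hmem
        exact hmem
      set v := k * (g * z' * g⁻¹) * k⁻¹ with hv
      have hvH : v ∈ H := by
        refine hC t ht hne hc (Subgroup.mem_centralizer_singleton_iff.mpr ?_)
        replace hzt : z' * t ∈ (R : Subgroup G) := hzt
        rw [hR, Transfer.Fusion.mem_map_conj] at hzt
        rw [Transfer.Fusion.coe_smul_eq_map, Transfer.Fusion.mem_map_conj] at hzt
        have hcen := congrArg Subtype.val (Subgroup.mem_center_iff.mp hz'c ⟨_, hzt⟩)
        simp only [Subgroup.coe_mul] at hcen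
        set e := z' * t
        calc v * e = k * g * (z' * (g⁻¹ * (k⁻¹ * e * k) * g)) * g⁻¹ * k⁻¹ := by rw [hv]; group
          _ = k * g * ((g⁻¹ * (k⁻¹ * e * k) * g) * z') * g⁻¹ * k⁻¹ := by rw [hcen]
          _ = e * v := by rw [hv]; group
      have h1 : k * g ∈ H := by
        have := (h0 (k * g)⁻¹).mp (by
          rw [Transfer.Fusion.mem_map_conj, inv_inv]
          rw [hv] at hvH
          simpa [mul_assoc] using hvH)
        simpa using H.inv_mem this
      obtain ⟨h, hh, rfl⟩ := hk
      change g * h * g⁻¹ * g ∈ H at h1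
      rw [inv_mul_cancel_right] at h1
      have := H.mul_mem h1 (H.inv_mem hh)
      rwa [mul_inv_cancel_right] at this
    · intro hg
      rwa [Transfer.Fusion.map_conj_le_of_mem hg]

end Cfsg.Agent.S1922
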