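import Cfsg.Statements.S1924
import Cfsg.Agent.Lib.Involutions.ThompsonTransfer
import Cfsg.Agent.Lib.Transfer.NormalPComplement

set_option autoImplicit false
open Cfsg

namespace Cfsg.Agent.S1924

open Cfsg.Agent.Involutions Cfsg.Agent.Transfer.NormalPComplement

/-- The sign of a semiregular 2-element on `2 ^ m * odd` cosets. -/
theorem exists_index_two_of_semiregular {G : Type*} [Group G] [Finite G] (T : Subgroup G) (y : G) {m k : ℕ}
    (hy : orderOf y = 2 ^ (m + 1)) (hT : T.index = 2 ^ (m + 1) * k) (hk : Odd k)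
    (hno : ∀ g : G, g * y ^ 2 ^ m * g⁻¹ ∉ T) : ∃ K : Subgroup G, K.index = 2 ∧ y ∉ K := by
  classical
  have : Fintype (G ⧸ T) := Fintype.ofFinite _
  let φ : G →* ℤˣ := Equiv.Perm.sign.comp (MulAction.toPermHom G (G ⧸ T))
  set σ := MulAction.toPermHom G (G ⧸ T) y with hσ
  have hσ2 : σ ^ 2 ^ (m + 1) = 1 := by rw [hσ, ← map_pow, ← hy, pow_orderOf_eq_one, map_one]
  have hmove : ∀ c, (σ ^ 2 ^ m) c ≠ c := by
    intro c e
    obtain ⟨g, rfl⟩ := QuotientGroup.mk_surjective c
    rw [hσ, ← map_pow] at e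
    have e' : ((y ^ 2 ^ m * g : G) : G ⧸ T) = (g : G ⧸ T) := e
    rw [QuotientGroup.eq] at e'
    apply hno g⁻¹
    have := inv_mem e'
    rwa [show ((y ^ 2 ^ m * g)⁻¹ * g)⁻¹ = g⁻¹ * y ^ 2 ^ m * g⁻¹⁻¹ by group] at this
  have hsupp : σ.support = Finset.univ := by
    rw [Finset.eq_univ_iff_forall]
    intro c
    rw [Equiv.Perm.mem_support]
    intro e
    exact hmove c (Equiv.Perm.pow_apply_eq_self_of_apply_eq_self e _)
  have hct : σ.cycleType = Multiset.replicate σ.cycleType.card (2 ^ (m + 1)) := by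
    refine Multiset.eq_replicate_card.mpr fun n hn => ?_
    have h1 : n ∣ 2 ^ (m + 1) :=
      (Equiv.Perm.dvd_of_mem_cycleType hn).trans (orderOf_dvd_of_pow_eq_one hσ2)
    obtain ⟨i, hi, rfl⟩ := (Nat.dvd_prime_pow Nat.prime_two).mp h1
    rcases eq_or_lt_of_le hi with h | h
    · rw [h]
    · exfalso
      obtain ⟨c, τ, hst, hdisj, hcyc, hcard⟩ := Equiv.Perm.mem_cycleType_iff.mp hn
      obtain ⟨x, hx⟩ : c.support.Nonempty := hcyc.nonempty_support
      have hτx : τ x = x := (hdisj x).resolve_left (Equiv.Perm.mem_support.mp hx)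
      have hτx' : (τ ^ 2 ^ m) x = x := Equiv.Perm.pow_apply_eq_self_of_apply_eq_self hτx _
      have hc1 : c ^ 2 ^ m = 1 := orderOf_dvd_iff_pow_eq_one.mp <| by
        rw [hcyc.orderOf, hcard]; exact pow_dvd_pow 2 (Nat.lt_succ_iff.mp h)
      apply hmove x
      rw [hst, hdisj.commute.mul_pow, hc1, one_mul, hτx']
  have hsum := Equiv.Perm.sum_cycleType σ
  rw [hsupp, Finset.card_univ, hct, Multiset.sum_replicate, smul_eq_mul,
    ← Nat.card_eq_fintype_card] at hsum
  change σ.cycleType.card * 2 ^ (m + 1) = T.index at hsum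
  have hcardk : σ.cycleType.card = k := by
    rw [hT, mul_comm] at hsum
    exact Nat.eq_of_mul_eq_mul_left (by positivity) hsum
  have hneg : φ y = -1 := by
    show Equiv.Perm.sign σ = -1
    rw [Equiv.Perm.sign_of_cycleType, hct, Multiset.sum_replicate, Multiset.card_replicate,
      smul_eq_mul, hcardk]
    apply Odd.neg_one_pow
    exact Even.add_odd (Even.mul_left (Nat.even_pow.mpr ⟨even_two, by omega⟩) _) hk
  refine ⟨φ.ker, ?_, ?_⟩
  · rw [Subgroup.index_ker]
    have : φ.range = ⊤ := by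
      rw [eq_top_iff]
      intro u _
      rcases Int.units_eq_one_or u with rfl | rfl
      · exact one_mem _
      · exact ⟨y, hneg⟩
    rw [this, Nat.card_congr Subgroup.topEquiv.toEquiv, Nat.card_eq_fintype_card]
    rfl
  · rw [MonoidHom.mem_ker, hneg]; decide


theorem card_mul_relIndex' {G : Type*} [Group G] {H K : Subgroup G} (h : H ≤ K) :
    Nat.card H * H.relIndex K = Nat.card K := by
  rw [← Subgroup.relIndex_bot_left H, Subgroup.relIndex_mul_relIndex ⊥ H K bot_le h,
    Subgroup.relIndex_bot_left]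

theorem relIndex_dvd_index' {G : Type*} [Group G] [Finite G] (S R : Subgroup G) [R.Normal] :
    S.relIndex R ∣ S.index := by
  have h1 := Subgroup.relIndex_mul_index (H := R ⊓ S) (K := R) inf_le_left
  have h2 := Subgroup.relIndex_mul_index (H := R ⊓ S) (K := S) inf_le_right
  rw [Subgroup.inf_relIndex_left] at h1
  rw [Subgroup.inf_relIndex_right, ← h1] at h2
  obtain ⟨a, ha⟩ := Subgroup.relIndex_dvd_index_of_normal R S
  rw [ha, mul_left_comm] at h2
  have h0 : R.relIndex S ≠ 0 := fun h => by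
    have := h ▸ Subgroup.relIndex_dvd_card R S
    exact Nat.card_pos.ne' (zero_dvd_iff.mp this)
  exact ⟨a, (Nat.eq_of_mul_eq_mul_left (Nat.pos_of_ne_zero h0) h2)⟩

/-- `O^2(G)` has no subgroup of index two. -/
theorem pResidual_index_ne_two {G : Type*} [Group G] [Finite G]
    (K : Subgroup ↥(Cfsg.pResidual 2 G)) : K.index ≠ 2 := by
  intro hK
  have hle : Cfsg.pResidual 2 G ≤ K.map (Cfsg.pResidual 2 G).subtype := by
    conv_lhs => rw [Cfsg.pResidual]
    rw [Subgroup.closure_le]
    intro g hg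
    have hgR : g ∈ Cfsg.pResidual 2 G := mem_pResidual_of_coprime hg
    refine ⟨⟨g, hgR⟩, mem_of_pow_mem (n := 2) ?_ (Subgroup.sq_mem_of_index_two hK _), rfl⟩
    rwa [← Subgroup.orderOf_coe]
  have htop : K = ⊤ := by
    rw [eq_top_iff]
    intro x _
    obtain ⟨w, hw, hwe⟩ := hle x.2
    rwa [← Subtype.ext hwe]
  rw [htop, Subgroup.index_top] at hK
  omega

/-- In a dihedral group every element outside a cyclic subgroup of index two is an involution. -/
theorem dihedral_outside {n : ℕ} (hn : 2 ≤ n) (C : Subgroup (DihedralGroup n)) (hC : IsCyclic ↥C)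
    (hi : C.index = 2) (x : DihedralGroup n) (hx : x ∉ C) : orderOf x = 2 := by
  have : NeZero n := ⟨by omega⟩
  cases x with
  | sr i => exact DihedralGroup.orderOf_sr i
  | r i =>
    obtain ⟨g, hg⟩ := hC.exists_ofOrder_eq_natCard
    have hcard : Nat.card C = n := by
      have := C.card_mul_index
      rw [hi, DihedralGroup.nat_card] at this
      omega
    have hord : orderOf (g : DihedralGroup n) = n := by rw [Subgroup.orderOf_coe, hg, hcard]
    rcases hgv : (g : DihedralGroup n) with j | j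
    · exfalso
      apply hx
      rw [hgv, DihedralGroup.orderOf_r] at hord
      have hle : Subgroup.zpowers (DihedralGroup.r j) ≤ C := by
        rw [Subgroup.zpowers_le, ← hgv]; exact g.2
      have hunit : IsUnit j := by
        have hd : Nat.Coprime j.val n := by
          have h1 := Nat.div_mul_cancel (Nat.gcd_dvd_left n j.val)
          rw [hord] at h1
          rw [Nat.coprime_comm]
          exact Nat.eq_of_mul_eq_mul_left (show 0 < n by omega) (by rw [h1, mul_one])
        rwa [← ZMod.isUnit_iff_coprime, ZMod.natCast_zmod_val] at hd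
      obtain ⟨u, hu⟩ := hunit
      apply hle
      refine Subgroup.mem_zpowers_iff.mpr ⟨(((↑u⁻¹ : ZMod n) * i).val : ℕ), ?_⟩
      rw [zpow_natCast, DihedralGroup.r_pow, ZMod.natCast_zmod_val, ← mul_assoc, ← hu,
        Units.mul_inv, one_mul]
    · rw [hgv, DihedralGroup.orderOf_sr] at hord
      subst hord
      have h1 : i ≠ 0 := by rintro rfl; exact hx (by rw [← DihedralGroup.one_def]; exact C.one_mem)
      rw [DihedralGroup.orderOf_r]
      have : i.val = 1 := by
        have h2 := ZMod.val_lt i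
        have h3 : i.val ≠ 0 := fun h => h1 ((ZMod.val_eq_zero i).mp h)
        omega
      rw [this]; decide

/-- A consequence of Thompson's transfer lemma. Let G be a finite group, L a subgroup with O²(L) = L, T a Sylow 2-subgroup of L and S a Sylow 2-subgroup of G containing T. Suppose D ≤ S is a dihedral subgroup of order at least 4 (the four-group counts) with D ∩ T = 1 and S = TD as a set of products (so |S| = |T|·|D|), and C ≤ D is cyclic of index 2 in D. If no involution of D outside C is G-conjugate to an involution of the subgroup generated by T and C, and the involution of C is not G-conjugate to any involution of T, then G has a normal subgroup K, containing every Sylow 2-subgroup of L as a Sylow 2-subgroup, with G = KD. -/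
theorem result {G : Type*} [Group G] [Finite G] (L T S D C : Subgroup G) (hL : Cfsg.pResidual 2 ↥L = ⊤)
    (hTL : T ≤ L) (hT2 : IsPGroup 2 T) (hTsyl : ¬ 2 ∣ T.relIndex L)
    (hS2 : IsPGroup 2 S) (hSsyl : ¬ 2 ∣ S.index) (hTS : T ≤ S)
    (hDS : D ≤ S) (hDih : ∃ n : ℕ, 2 ≤ n ∧ Nonempty (↥D ≃* DihedralGroup n)) (hDT : D ⊓ T = ⊥) (hTD : T ⊔ D = S) (hTDc : Nat.card T * Nat.card D = Nat.card S)
    (hCD : C ≤ D) (hC : IsCyclic ↥C) (hCi : C.relIndex D = 2)
    (h1 : ∀ x ∈ D, x ∉ C → orderOf x = 2 → ∀ g : G, g * x * g⁻¹ ∈ T ⊔ C → False)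
    (h2 : ∀ c ∈ C, orderOf c = 2 → ∀ g : G, g * c * g⁻¹ ∈ T → False) :
    ∃ K : Subgroup G, K.Normal ∧ K ⊔ D = ⊤ ∧
      ∀ T' : Subgroup G, T' ≤ L → IsPGroup 2 T' → ¬ 2 ∣ T'.relIndex L → T' ≤ K ∧ ¬ 2 ∣ T'.relIndex K := by
  have : Fact (Nat.Prime 2) := ⟨Nat.prime_two⟩
  obtain ⟨n, hn, ⟨e⟩⟩ := hDih
  have hCcard : Nat.card C * 2 = Nat.card D := by
    rw [← hCi]; exact card_mul_relIndex' hCD
  have hout : ∀ x ∈ D, x ∉ C → orderOf x = 2 := by
    intro x hx hxC
    have hC' : IsCyclic ↥((C.subgroupOf D).map e.toMonoidHom) := by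
      have h0 : IsCyclic ↥(C.subgroupOf D) :=
        (MulEquiv.isCyclic (Subgroup.subgroupOfEquivOfLe hCD)).mpr hC
      exact (MulEquiv.isCyclic (e.subgroupMap _)).mp h0
    have hi' : ((C.subgroupOf D).map e.toMonoidHom).index = 2 := by
      exact (Subgroup.index_map_equiv _ e).trans hCi
    have h := dihedral_outside hn _ hC' hi' (e ⟨x, hx⟩) (by
      rintro ⟨w, hw, hwe⟩
      obtain rfl := e.injective hwe
      exact hxC hw)
    rwa [MulEquiv.orderOf_eq, ← Subgroup.orderOf_coe] at h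
  obtain ⟨x₀, hx₀, hx₀C⟩ : ∃ x ∈ D, x ∉ C := by
    by_contra h
    push Not at h
    have hDC : D = C := le_antisymm h hCD
    rw [hDC, Subgroup.relIndex_self] at hCi
    omega
  set M := T ⊔ C with hMdef
  have hMS : M ≤ S := sup_le hTS (hCD.trans hDS)
  -- products
  have hinj : ∀ {A : Subgroup G}, A ≤ D →
      Function.Injective (fun w : ↥T × ↥A => (w.1 : G) * (w.2 : G)) := by
    intro A hA w w' hw
    have h1 : (w'.1 : G)⁻¹ * w.1 = w'.2 * (w.2 : G)⁻¹ := by
      have hw' : (w.1 : G) * w.2 = w'.1 * w'.2 := hw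
      calc (w'.1 : G)⁻¹ * w.1 = (w'.1 : G)⁻¹ * ((w.1 : G) * w.2) * (w.2 : G)⁻¹ := by group
        _ = _ := by rw [hw']; group
    have h2 : (w'.1 : G)⁻¹ * w.1 ∈ D ⊓ T :=
      ⟨h1 ▸ hA (A.mul_mem w'.2.2 (A.inv_mem w.2.2)), T.mul_mem (T.inv_mem w'.1.2) w.1.2⟩
    rw [hDT, Subgroup.mem_bot] at h2
    have h3 := h2
    rw [h1] at h3
    exact Prod.ext (Subtype.ext (inv_mul_eq_one.mp h2).symm) (Subtype.ext (mul_inv_eq_one.mp h3).symm)
  have hprod : ∀ s ∈ S, ∃ t ∈ T, ∃ d ∈ D, t * d = s := by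
    intro s hs
    let f : ↥T × ↥D → ↥S := fun w => ⟨(w.1 : G) * w.2, S.mul_mem (hTS w.1.2) (hDS w.2.2)⟩
    have hf : Function.Injective f := fun w w' h => hinj le_rfl (congrArg Subtype.val h)
    obtain ⟨w, hw⟩ := (Nat.bijective_iff_injective_and_card f).mpr
      ⟨hf, by rw [Nat.card_prod, hTDc]⟩ |>.2 ⟨s, hs⟩
    exact ⟨w.1, w.1.2, w.2, w.2.2, congrArg Subtype.val hw⟩
  have hMrel : M.relIndex S = 2 := by
    have hge : Nat.card T * Nat.card C ≤ Nat.card M := by
      rw [← Nat.card_prod]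
      refine Nat.card_le_card_of_injective
        (fun w : ↥T × ↥C => (⟨(w.1 : G) * w.2, Subgroup.mul_mem_sup w.1.2 w.2.2⟩ : M)) ?_
      exact fun w w' h => hinj hCD (congrArg Subtype.val h)
    have hmul := card_mul_relIndex' hMS
    have hne1 : M.relIndex S ≠ 1 := by
      intro h
      exact h1 x₀ hx₀ hx₀C (hout x₀ hx₀ hx₀C) 1
        (by rw [one_mul, inv_one, mul_one]; exact Subgroup.relIndex_eq_one.mp h (hDS hx₀))
    have hle : M.relIndex S ≤ 2 := by
      have h0 : Nat.card S = Nat.card T * Nat.card C * 2 := by rw [← hTDc, ← hCcard, mul_assoc]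
      rw [h0] at hmul
      have hM0 : 0 < Nat.card M := Nat.card_pos
      exact Nat.le_of_mul_le_mul_left (hmul.le.trans (Nat.mul_le_mul_right 2 hge)) hM0
    have : M.relIndex S ≠ 0 := fun h => by
      rw [h, mul_zero] at hmul
      exact Nat.card_pos.ne' hmul.symm
    omega
  set R := Cfsg.pResidual 2 G with hRdef
  have hTR : T ≤ R := by
    refine hTL.trans ?_
    have := map_subtype_pResidual_le (p := 2) L
    rwa [hL, ← MonoidHom.range_eq_map, Subgroup.range_subtype] at this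
  have hSodd : Odd S.index := Nat.odd_iff.mpr (Nat.two_dvd_ne_zero.mp hSsyl)
  have hindex : ∀ K : Subgroup G, K.index = 2 → R ≤ K := by
    intro K hK
    have : K.Normal := Subgroup.normal_of_index_eq_two hK
    exact pResidual_le_of_index_eq (k := 1) (by rw [hK, pow_one])
  have hstep : R ⊓ D ≤ C := by
    intro d hd
    by_contra hdC
    obtain ⟨K, hK, hdK⟩ := ThompsonTransfer.exists_index_two_of_no_conj M
      (ThompsonTransfer.index_mod_four hMS hMrel hSodd) d (hout d hd.2 hdC)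
      (fun g hg => h1 d hd.2 hdC (hout d hd.2 hdC) g hg)
    exact hdK (hindex K hK hd.1)
  have hC' : R ⊓ C = ⊥ := by
    by_contra hne
    have hcyc : IsCyclic ↥(R ⊓ C) :=
      isCyclic_of_injective (Subgroup.inclusion (inf_le_right : R ⊓ C ≤ C))
        (Subgroup.inclusion_injective _)
    obtain ⟨y, hy⟩ := hcyc.exists_ofOrder_eq_natCard
    obtain ⟨j, hj⟩ : ∃ j, Nat.card ↥(R ⊓ C) = 2 ^ j :=
      IsPGroup.iff_card.mp (hS2.to_le (inf_le_right.trans (hCD.trans hDS)))
    obtain _ | m := j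
    · exact hne (Subgroup.eq_bot_of_card_eq _ (by rw [hj, pow_zero]))
    have hord : orderOf (y : G) = 2 ^ (m + 1) := by rw [Subgroup.orderOf_coe, hy, hj]
    have hcardRS : Nat.card ↥(R ⊓ S) = Nat.card T * 2 ^ (m + 1) := by
      rw [← hj, ← Nat.card_prod]
      refine (Nat.card_congr (Equiv.ofBijective (fun w : ↥T × ↥(R ⊓ C) =>
        (⟨(w.1 : G) * w.2, R.mul_mem (hTR w.1.2) w.2.2.1,
          S.mul_mem (hTS w.1.2) (hDS (hCD w.2.2.2))⟩ : ↥(R ⊓ S))) ⟨?_, ?_⟩)).symm
      · exact fun w w' h => hinj (inf_le_right.trans hCD) (congrArg Subtype.val h)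
      · rintro ⟨s, hsR, hsS⟩
        obtain ⟨t, ht, d, hd, rfl⟩ := hprod s hsS
        have hdR : d ∈ R := by
          have := R.mul_mem (R.inv_mem (hTR ht)) hsR
          rwa [inv_mul_cancel_left] at this
        exact ⟨⟨⟨t, ht⟩, ⟨d, hdR, hstep ⟨hdR, hd⟩⟩⟩, rfl⟩
    have hrel1 : T.relIndex (R ⊓ S) = 2 ^ (m + 1) := by
      have := card_mul_relIndex' (le_inf hTR hTS)
      rw [hcardRS] at this
      exact Nat.eq_of_mul_eq_mul_left Nat.card_pos this
    have hrel2 : Odd ((R ⊓ S).relIndex R) := by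
      rw [inf_comm, Subgroup.inf_relIndex_right]
      exact Nat.odd_iff.mpr (Nat.two_dvd_ne_zero.mp fun h =>
        hSsyl (h.trans (relIndex_dvd_index' S R)))
    have hTidx : (T.subgroupOf R).index = 2 ^ (m + 1) * (R ⊓ S).relIndex R := by
      rw [← hrel1, Subgroup.relIndex_mul_relIndex _ _ _ (le_inf hTR hTS) inf_le_left]
      rfl
    obtain ⟨K, hK, -⟩ := exists_index_two_of_semiregular (T.subgroupOf R) ⟨(y : G), y.2.1⟩
      (m := m) (by rw [← hord, ← Subgroup.orderOf_coe]) hTidx hrel2 (by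
      intro g hg
      rw [Subgroup.mem_subgroupOf] at hg
      refine h2 ((y : G) ^ 2 ^ m) (C.pow_mem y.2.2 _) ?_ (g : G) hg
      rw [orderOf_pow' _ (by positivity), hord, Nat.gcd_eq_right (pow_dvd_pow 2 m.le_succ),
        pow_succ, Nat.mul_div_cancel_left _ (by positivity)])
    exact pResidual_index_ne_two K hK
  have hRS : R ⊓ S = T := by
    refine le_antisymm ?_ (le_inf hTR hTS)
    rintro s ⟨hsR, hsS⟩
    obtain ⟨t, ht, d, hd, rfl⟩ := hprod s hsS
    have hdR : d ∈ R := by
      have := R.mul_mem (R.inv_mem (hTR ht)) hsR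
      rwa [inv_mul_cancel_left] at this
    have : d = 1 := Subgroup.mem_bot.mp (hC' ▸ (⟨hdR, hstep ⟨hdR, hd⟩⟩ : d ∈ R ⊓ C))
    rwa [this, mul_one]
  refine ⟨R, inferInstance, ?_, ?_⟩
  · have h := pResidual_sup_sylow (hS2.toSylow hSsyl)
    rw [← top_le_iff, ← h]
    refine sup_le le_sup_left ?_
    change S ≤ _
    rw [← hTD]
    exact sup_le (hTR.trans le_sup_left) le_sup_right
  · intro T' hT'L hT'2 hT'syl
    have hLR : L ≤ R := by
      have := map_subtype_pResidual_le (p := 2) L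
      rwa [hL, ← MonoidHom.range_eq_map, Subgroup.range_subtype] at this
    refine ⟨hT'L.trans hLR, ?_⟩
    rw [← Subgroup.relIndex_mul_relIndex T' L R hT'L hLR, Nat.prime_two.dvd_mul]
    rintro (h | h)
    · exact hT'syl h
    · have hTR' : 2 ∣ T.relIndex R := by
        rw [← Subgroup.relIndex_mul_relIndex T L R hTL hLR]; exact dvd_mul_of_dvd_right h _
      rw [← hRS, inf_comm, Subgroup.inf_relIndex_right] at hTR'
      exact hSsyl (hTR'.trans (relIndex_dvd_index' S R))

end Cfsg.Agent.S1924
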