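import Cfsg.Statements.S1935
import Cfsg.Agent.Lib.PLocal.Replacement
import Cfsg.Agent.Lib.PLocal.QuadLimit

set_option autoImplicit false
open Cfsg

namespace Cfsg.Agent.S1935

open Subgroup
open scoped IsMulCommutative commutatorElement
open Cfsg.Agent.PLocal

variable {Ω : Type*} [Group Ω] (V G : Subgroup Ω) [IsMulCommutative V]

/-- Conjugation on `V`. -/
def conjV (h : G ≤ normalizer (V : Set Ω)) (g : G) : V →* V :=
  ((MulAut.conj (g : Ω)).toMonoidHom.comp V.subtype).codRestrict V fun v =>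
    (mem_normalizer_iff.mp (h g.2) v).mp v.2

/-- The representation of `G` on `V`. -/
def rho (h : G ≤ normalizer (V : Set Ω)) : G →* AddMonoid.End (Additive V) where
  toFun g := MonoidHom.toAdditive (conjV V G h g)
  map_one' := AddMonoidHom.ext fun v => Additive.toMul.injective (Subtype.ext (by
    show (1 : Ω) * ((Additive.toMul v : V) : Ω) * 1⁻¹ = _
    simp; rfl))
  map_mul' a b := AddMonoidHom.ext fun v => Additive.toMul.injective (Subtype.ext (by
    show ((a * b : G) : Ω) * ((Additive.toMul v : V) : Ω) * ((a * b : G) : Ω)⁻¹ =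
      (a : Ω) * ((b : Ω) * ((Additive.toMul v : V) : Ω) * (b : Ω)⁻¹) * (a : Ω)⁻¹
    simp [mul_assoc]))

theorem lg_coe (h : G ≤ normalizer (V : Set Ω)) (g : G) (v : V) :
    ((Additive.toMul (QuadLimit.lg (rho V G h) g (Additive.ofMul v)) : V) : Ω) = ⁅(g : Ω), (v : Ω)⁆ := by
  show ((conjV V G h g v / v : V) : Ω) = _
  rw [Subgroup.coe_div, commutatorElement_def, div_eq_mul_inv]
  rfl

theorem lg_eq_zero_iff (h : G ≤ normalizer (V : Set Ω)) (g : G) (v : V) :
    QuadLimit.lg (rho V G h) g (Additive.ofMul v) = 0 ↔ (g : Ω) * v = v * g := by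
  rw [← commutatorElement_eq_one_iff_mul_comm, ← lg_coe V G h g v]
  exact ⟨fun e => by rw [e]; rfl, fun e => Additive.toMul.injective (Subtype.ext e)⟩


/-- Let p ≥ 5 be a prime and, inside an ambient finite group, let G be a p-subgroup acting faithfully by conjugation on an elementary abelian p-subgroup V that it normalizes (only the identity of G centralizes V). Suppose V is an F-module for G: some nontrivial elementary abelian subgroup E of G satisfies #E · #C_V(E) ≥ #V. Then G contains such an offender A that moreover acts quadratically on V ([V, A, A] = 1) and is normal in its normal closure in G. -/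
theorem result {Ω : Type*} [Group Ω] [Finite Ω] (p : ℕ) [Fact p.Prime] (hp : 5 ≤ p) (V G : Subgroup Ω) (hV : Cfsg.IsElementaryAbelian p V) (hG : IsPGroup p ↥G) (hGV : G ≤ Subgroup.normalizer (V : Set Ω)) (hfaith : G ⊓ Subgroup.centralizer (V : Set Ω) = ⊥) (hF : ∃ E : Subgroup Ω, E ≤ G ∧ E ≠ ⊥ ∧ Cfsg.IsElementaryAbelian p E ∧ Nat.card ↥V ≤ Nat.card ↥E * Nat.card ↥(V ⊓ Subgroup.centralizer (E : Set Ω))) : ∃ A : Subgroup Ω, A ≤ G ∧ A ≠ ⊥ ∧ Cfsg.IsElementaryAbelian p A ∧ Nat.card ↥V ≤ Nat.card ↥A * Nat.card ↥(V ⊓ Subgroup.centralizer (A : Set Ω)) ∧ ⁅⁅V, A⁆, A⁆ = ⊥ ∧ ∀ g ∈ Subgroup.closure {x : Ω | ∃ h ∈ G, ∃ a ∈ A, x = h * a * h⁻¹}, ∀ a ∈ A, g * a * g⁻¹ ∈ A := by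
  classical
  have hp2 : p ≠ 2 := by omega
  obtain ⟨hc, hpowV⟩ := ThompsonSubgroup.isElementaryAbelian_iff.mp hV
  haveI := hV.1
  set 𝒮 : Set (Subgroup Ω) := {B | B ≤ G ∧ B ≠ ⊥ ∧ Cfsg.IsElementaryAbelian p B}
  obtain ⟨E₀, h0G, h01, h0e, h0w⟩ := hF
  obtain ⟨E, ⟨hEG, hE1, hEe⟩, hEmax⟩ := Set.exists_max_image 𝒮 (Replacement.weight V)
    (Set.toFinite _) ⟨E₀, h0G, h01, h0e⟩
  have hEw : Nat.card V ≤ Replacement.weight V E := h0w.trans (hEmax E₀ ⟨h0G, h01, h0e⟩)
  obtain ⟨hEc, hEp⟩ := ThompsonSubgroup.isElementaryAbelian_iff.mp hEe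
  have hsub : ∀ B ≤ E, Cfsg.IsElementaryAbelian p B := fun B hB =>
    ThompsonSubgroup.isElementaryAbelian_iff.mpr
      ⟨fun a ha b hb => hEc a (hB ha) b (hB hb), fun a ha => hEp a (hB ha)⟩
  have hbest : Cfsg.IsBestOffenderOn p V E := by
    refine ⟨fun B hB => ?_, ?_, fun a ha => ?_⟩
    · rcases eq_or_ne B ⊥ with rfl | hB1
      · rw [Subgroup.card_bot, one_mul]
        exact le_trans (Subgroup.card_le_of_le inf_le_left) hEw
      · exact hEmax B ⟨hB.trans hEG, hB1, hsub B hB⟩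
    · rw [commutator_le]
      intro a ha b hb
      rw [commutatorElement_eq_one_iff_mul_comm.mpr (hEc a ha b hb)]
      exact one_mem _
    · rw [hEp a ha]; exact one_mem _
  obtain ⟨-, hw, -, hne⟩ := Replacement.bestOffender_inf_centralizer hV (hEG.trans hGV) hbest
    (le_refl V)
  set E' := E ⊓ centralizer ((⁅V, E⁆ : Subgroup Ω) : Set Ω) with hE'
  have hVE : ⁅V, E⁆ ≠ ⊥ := fun e => hE1 (by
    rw [← le_bot_iff, ← hfaith]
    refine le_inf hEG fun a ha => mem_centralizer_iff.mpr fun v hv => ?_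
    exact commutatorElement_eq_one_iff_mul_comm.mp
      (mem_bot.mp (e ▸ commutator_mem_commutator hv ha)))
  have hq : ⁅⁅V, E'⁆, E'⁆ = ⊥ :=
    commutator_eq_bot_iff_le_centralizer.mpr
      ((commutator_mono le_rfl inf_le_left).trans (Subgroup.le_centralizer_iff.mp inf_le_right))
  set ρ := rho V G hGV with hρd
  have hρ : Function.Injective ρ := by
    refine (injective_iff_map_eq_one ρ).mpr fun g hg => Subtype.ext (mem_bot.mp (hfaith ▸ ?_))
    refine mem_inf.mpr ⟨g.2, mem_centralizer_iff.mpr fun v hv => ?_⟩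
    refine ((lg_eq_zero_iff V G hGV g ⟨v, hv⟩).mp ?_).symm
    rw [QuadLimit.lg, ← hρd, hg, sub_self]; rfl
  have hM : ∀ x : AddMonoid.End (Additive V), p • x = 0 := fun x => AddMonoidHom.ext fun v => by
    show p • x v = 0
    exact Additive.toMul.injective (Subtype.ext (hpowV _ (Additive.toMul (x v)).2))
  have hquad : ∀ B : Subgroup G, QuadLimit.Quad ρ B ↔
      ⁅⁅V, B.map G.subtype⁆, B.map G.subtype⁆ = ⊥ := by
    intro B
    constructor
    · intro h
      rw [commutator_eq_bot_iff_le_centralizer, commutator_le]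
      rintro v hv _ ⟨b, hb, rfl⟩
      rw [mem_centralizer_iff]
      rintro _ ⟨a, ha, rfl⟩
      have e : (a : Ω) * ⁅(b : Ω), v⁆ = ⁅(b : Ω), v⁆ * a := by
        have := DFunLike.congr_fun (h a ha b hb) (Additive.ofMul (⟨v, hv⟩ : V))
        have e1 := (lg_eq_zero_iff V G hGV a
          (Additive.toMul (QuadLimit.lg ρ b (Additive.ofMul (⟨v, hv⟩ : V))))).mp this
        rwa [hρd, lg_coe] at e1
      rw [← commutatorElement_inv]
      exact Commute.inv_right e
    · intro h a ha b hb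
      rw [commutator_eq_bot_iff_le_centralizer] at h
      refine AddMonoidHom.ext fun v => ?_
      refine (lg_eq_zero_iff V G hGV a (Additive.toMul (QuadLimit.lg ρ b v))).mpr ?_
      rw [hρd, show v = Additive.ofMul (Additive.toMul v) from rfl, lg_coe, ← commutatorElement_inv]
      exact Commute.inv_right (mem_centralizer_iff.mp
        (h (commutator_mem_commutator (Additive.toMul v).2 ⟨b, hb, rfl⟩)) _ ⟨a, ha, rfl⟩)
  have hfix : ∀ B : Subgroup G, Nat.card (QuadLimit.fix ρ B) =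
      Nat.card ↥(V ⊓ centralizer (B.map G.subtype : Set Ω)) := by
    intro B
    refine Nat.card_eq_of_bijective (fun x => ⟨((Additive.toMul x.1 : V) : Ω),
      (Additive.toMul x.1).2, mem_centralizer_iff.mpr ?_⟩) ⟨?_, ?_⟩
    · rintro _ ⟨b, hb, rfl⟩
      exact (lg_eq_zero_iff V G hGV b (Additive.toMul x.1)).mp (x.2 b hb)
    · intro x y e
      have e' := congrArg Subtype.val e
      exact Subtype.ext (Additive.toMul.injective (Subtype.ext e'))
    · rintro ⟨v, hv, hvc⟩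
      exact ⟨⟨Additive.ofMul ⟨v, hv⟩, fun b hb => (lg_eq_zero_iff V G hGV b ⟨v, hv⟩).mpr
        (mem_centralizer_iff.mp hvc _ ⟨b, hb, rfl⟩)⟩, rfl⟩
  have hcard : ∀ B : Subgroup G, Nat.card B = Nat.card ↥(B.map G.subtype) := fun B =>
    (Subgroup.card_map_of_injective G.subtype_injective).symm
  have hE'G : (E'.subgroupOf G).map G.subtype = E' :=
    map_subgroupOf_eq_of_le (inf_le_left.trans hEG)
  haveI : Finite (Additive V) := inferInstanceAs (Finite V)
  obtain ⟨B, hB1, hBq, hBw, hBn⟩ := QuadLimit.exists_two_subnormal (ρ := ρ) hG hp2 hρ hM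
    (m := Nat.card V) ⟨E'.subgroupOf G, fun e => hne hVE (by
      rw [← hE'G, e, Subgroup.map_bot, commutator_bot_right]), by rw [hquad, hE'G]; exact hq, by
      rw [hfix, hcard, hE'G]
      exact hEw.trans hw.ge⟩
  refine ⟨B.map G.subtype, map_subtype_le B, ?_, ?_, ?_, (hquad B).mp hBq, ?_⟩
  · rwa [Ne, Subgroup.map_eq_bot_iff_of_injective _ G.subtype_injective]
  · refine ThompsonSubgroup.isElementaryAbelian_iff.mpr ⟨?_, ?_⟩
    · rintro _ ⟨a, ha, rfl⟩ _ ⟨b, hb, rfl⟩
      exact congrArg Subtype.val (QuadLimit.comm_of_quad hρ hBq a ha b hb)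
    · rintro _ ⟨a, ha, rfl⟩
      exact congrArg Subtype.val (QuadLimit.pow_eq_one_of_quad hρ hM hBq a ha)
  · rw [← hfix, ← hcard]
    exact hBw
  · have hcl : Subgroup.closure {x : Ω | ∃ h ∈ G, ∃ a ∈ B.map G.subtype, x = h * a * h⁻¹} ≤
        normalizer ((B.map G.subtype : Subgroup Ω) : Set Ω) := by
      rw [closure_le]
      rintro _ ⟨g, hg, _, ⟨a, ha, rfl⟩, rfl⟩
      exact le_normalizer_map G.subtype
        ⟨(⟨g, hg⟩ : G) * a * (⟨g, hg⟩ : G)⁻¹, hBn ⟨g, hg⟩ a ha, rfl⟩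
    intro g hg a ha
    exact (mem_normalizer_iff.mp (hcl hg) a).mp ha

end Cfsg.Agent.S1935
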