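import Cfsg.Statements.S1939
import Cfsg.Agent.Techniques.Basic

set_option autoImplicit false
open Cfsg

namespace Cfsg.Agent.S1939

/-- Let S be a Sylow p-subgroup of the finite group G and a an element of S that is the only G-conjugate of a lying in S. Then every power of a has the same property: for every n, the only G-conjugate of a^n lying in S is a^n. -/
theorem result {G : Type*} [Group G] [Finite G] {p : ℕ} [Fact p.Prime] (S : Sylow p G) (a : G)
    (haS : a ∈ (S : Subgroup G)) (hwc : ∀ g : G, g * a * g⁻¹ ∈ (S : Subgroup G) → g * a * g⁻¹ = a) (n : ℕ) :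
    ∀ g : G, g * a ^ n * g⁻¹ ∈ (S : Subgroup G) → g * a ^ n * g⁻¹ = a ^ n := by
  intro g hy
  set y := g * a ^ n * g⁻¹ with hyd
  have hcen : ∀ s ∈ (S : Subgroup G), s * a * s⁻¹ = a := fun s hs =>
    hwc s ((S : Subgroup G).mul_mem ((S : Subgroup G).mul_mem hs haS) ((S : Subgroup G).inv_mem hs))
  set C := Subgroup.centralizer ({y} : Set G) with hC
  have hay : a ∈ C := by
    rw [hC, Subgroup.mem_centralizer_singleton_iff]
    have h := hcen y hy
    calc a * y = (y * a * y⁻¹) * y := by rw [h]
      _ = y * a := by group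
  have hgay : g * a * g⁻¹ ∈ C := by
    rw [hC, Subgroup.mem_centralizer_singleton_iff, hyd]
    simp only [conj_mul, ← pow_succ', ← pow_succ]
  have hap : IsPGroup p (Subgroup.zpowers a) :=
    IsPGroup.to_le S.2 (Subgroup.zpowers_le.mpr haS)
  have hbp : IsPGroup p ((Subgroup.zpowers a).map (MulAut.conj g).toMonoidHom) := hap.map _
  have hbC : (Subgroup.zpowers a).map (MulAut.conj g).toMonoidHom ≤ C := by
    rw [MonoidHom.map_zpowers, Subgroup.zpowers_le]; exact hgay
  obtain ⟨R, -, hR, haR, h, hhC, hbR⟩ :=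
    Techniques.exists_isPGroup_sup_conj hap hbp (Subgroup.zpowers_le.mpr hay) hbC
  obtain ⟨m, hm⟩ := Techniques.exists_conj_le_sylow hR S
  have e1 : m * a * m⁻¹ = a := hwc m (hm a (haR (Subgroup.mem_zpowers a)))
  have e2 : (m * h * g) * a * (m * h * g)⁻¹ = a := by
    apply hwc
    have := hm _ (hbR _ (Techniques.conj_mem_map_conj (g := g) (Subgroup.mem_zpowers a)))
    simpa [mul_assoc] using this
  have e3 : h * g * a * (h * g)⁻¹ = a := by
    have e4 : m * (h * g * a * (h * g)⁻¹) * m⁻¹ = m * a * m⁻¹ := by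
      rw [e1]; refine Eq.trans ?_ e2; group
    exact mul_left_cancel (mul_right_cancel e4)
  have e4 : h * g * a ^ n * (h * g)⁻¹ = a ^ n := by rw [← conj_pow, e3]
  rw [hC, Subgroup.mem_centralizer_singleton_iff] at hhC
  calc y = h * y * h⁻¹ := by rw [hhC, mul_inv_cancel_right]
    _ = h * g * a ^ n * (h * g)⁻¹ := by rw [hyd]; group
    _ = a ^ n := e4

end Cfsg.Agent.S1939
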