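import Cfsg.Statements.S1940
import Mathlib

set_option autoImplicit false
open Cfsg

namespace Cfsg.Agent.S1940

/-- Let the finite group L act by automorphisms on the finite abelian group M, and let N be an L-invariant subgroup of M such that M/N is a p-group on which L acts trivially (every l • m lies in the coset mN). If every element of M is a product of an element of N and an element fixed by a Sylow p-subgroup T of L, then every element of M is a product of an element of N and an element fixed by all of L. -/
theorem result {L : Type*} [Group L] [Finite L] {M : Type*} [CommGroup M] [Finite M] [MulDistribMulAction L M]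
    {p : ℕ} [Fact p.Prime] (N : Subgroup M) (hN : ∀ (l : L) (m : M), m ∈ N → l • m ∈ N)
    (hquot : IsPGroup p (M ⧸ N)) (htriv : ∀ (l : L) (m : M), (l • m) * m⁻¹ ∈ N) (T : Sylow p L)
    (hT : ∀ m : M, ∃ n ∈ N, ∃ c : M, (∀ t ∈ (T : Subgroup L), t • c = c) ∧ m = n * c) :
    ∀ m : M, ∃ n ∈ N, ∃ c : M, (∀ l : L, l • c = c) ∧ m = n * c := by
  classical
  intro m0
  haveI : Fintype (L ⧸ (T : Subgroup L)) := Fintype.ofFinite _
  set d := Nat.card (L ⧸ (T : Subgroup L)) with hd
  have hcop : ¬ p ∣ d := by
    have := T.not_dvd_index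
    rwa [Subgroup.index_eq_card] at this
  obtain ⟨xq, hxq⟩ := (hquot.powEquiv' hcop).surjective (QuotientGroup.mk' N m0)
  obtain ⟨x, rfl⟩ := QuotientGroup.mk'_surjective N xq
  obtain ⟨n1, hn1, c, hc, hxc⟩ := hT x
  have hcx : QuotientGroup.mk' N c = QuotientGroup.mk' N x := by
    rw [hxc, map_mul, show QuotientGroup.mk' N n1 = 1 from (QuotientGroup.eq_one_iff n1).mpr hn1, one_mul]
  let f : L ⧸ (T : Subgroup L) → M := fun q => Quotient.liftOn' q (fun l => l • c) (by
    intro a b hab
    rw [QuotientGroup.leftRel_apply] at hab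
    calc a • c = a • ((a⁻¹ * b) • c) := by rw [hc _ hab]
      _ = b • c := by rw [smul_smul, mul_inv_cancel_left])
  have hfix : ∀ l : L, l • (∏ q, f q) = ∏ q, f q := by
    intro l
    rw [Finset.smul_prod']
    refine Fintype.prod_equiv (MulAction.toPerm l) _ _ fun q => ?_
    induction q using QuotientGroup.induction_on with
    | H a => show l • a • c = (l * a) • c; rw [mul_smul]
  have hmod : QuotientGroup.mk' N (∏ q, f q) = QuotientGroup.mk' N m0 := by
    rw [map_prod, Finset.prod_congr rfl (g := fun _ => QuotientGroup.mk' N x)]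
    · rw [Finset.prod_const, Finset.card_univ, ← Nat.card_eq_fintype_card, ← hd]
      exact hxq
    · intro q _
      induction q using QuotientGroup.induction_on with
      | H a =>
        rw [← hcx]
        show QuotientGroup.mk' N (a • c) = QuotientGroup.mk' N c
        rw [← mul_inv_eq_one, ← map_inv, ← map_mul]
        exact (QuotientGroup.eq_one_iff _).mpr (htriv a c)
  refine ⟨m0 * (∏ q, f q)⁻¹, ?_, ∏ q, f q, hfix, by rw [inv_mul_cancel_right]⟩
  refine (QuotientGroup.eq_one_iff (N := N) _).mp ?_
  show QuotientGroup.mk' N _ = 1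
  rw [map_mul, map_inv, hmod, mul_inv_cancel]

end Cfsg.Agent.S1940
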