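import Cfsg.Statements.S1941
import Cfsg.Agent.Lib.Components.Fitting
import Cfsg.Agent.Lib.Cores.Fitting
import Mathlib

set_option autoImplicit false
open Cfsg

namespace Cfsg.Agent.S1941

/-- Let G be a finite group with no nontrivial normal subgroup of order prime to p, T a Sylow p-subgroup of G and E(G) the layer of G (the subgroup generated by its components). An automorphism of G of p-power order that fixes T and E(G) elementwise is inner. -/
theorem result {G : Type*} [Group G] [Finite G] {p : ℕ} [Fact p.Prime] (hcore : Cfsg.pPrimeCore p G = ⊥)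
    (T : Sylow p G) (α : MulAut G) (hα : ∃ j : ℕ, orderOf α = p ^ j) (hfixT : ∀ x ∈ (T : Subgroup G), α x = x)
    (hfixE : ∀ x ∈ Cfsg.layer G, α x = x) : ∃ g : G, ∀ x : G, α x = g * x * g⁻¹ := by
  have hp := (Fact.out : p.Prime)
  set F := Cfsg.generalizedFittingSubgroup G with hF
  have hFn : F.Normal := by rw [hF]; infer_instance
  have hfit : Cfsg.fittingSubgroup G ≤ Cfsg.pCore p G := by
    rw [Cfsg.Agent.Cores.fittingSubgroup_eq_iSup]
    refine iSup_le fun ⟨q, hq'⟩ => ?_
    have hq : q.Prime := Nat.prime_of_mem_primeFactors hq'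
    rcases eq_or_ne q p with rfl | hne
    · exact le_rfl
    · have : Fact q.Prime := ⟨hq⟩
      have : Cfsg.pCore q G ≤ Cfsg.pPrimeCore p G := by
        refine Cfsg.Agent.Cores.le_pPrimeCore ?_
        obtain ⟨k, hk⟩ := IsPGroup.iff_card.mp (Cfsg.Agent.Cores.pCore_isPGroup (G := G) q)
        rw [hk]
        exact ((Nat.coprime_primes hq hp).mpr hne).pow_left k
      rw [hcore] at this
      exact this.trans bot_le
  have hfixF : ∀ x ∈ F, α x = x := by
    intro x hx
    exact (sup_le hfixE (fun y hy => hfixT y (Cfsg.Agent.Cores.pCore_le_sylow T (hfit hy))) :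
      F ≤ MonoidHom.eqLocus α.toMonoidHom (MonoidHom.id G)) hx
  set Z := F ⊓ Subgroup.centralizer (F : Set G) with hZ
  have hZn : Z.Normal := inferInstance
  have hcom : IsMulCommutative ↥Z := ⟨⟨fun a b =>
    Subtype.ext (Subgroup.mem_centralizer_iff.mp (Subgroup.mem_inf.mp b.2).2 a
      (Subgroup.mem_inf.mp a.2).1)⟩⟩
  have hZp : IsPGroup p ↥Z := (Cfsg.Agent.Cores.pCore_isPGroup (G := G) p).to_le
    ((Cfsg.Agent.Components.Fitting.le_fitting (Cfsg.Agent.Components.Fitting.isNilpotent_of_isMulCommutative ↥Z)).trans hfit)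
  let e : G → ↥Z := fun g => ⟨g * α g⁻¹, by
    have hc : g * α g⁻¹ ∈ Subgroup.centralizer (F : Set G) := by
      rw [Subgroup.mem_centralizer_iff]
      intro x hx
      have h2 := hfixF _ (hFn.conj_mem x hx g⁻¹)
      simp only [map_mul, inv_inv, map_inv, hfixF x hx] at h2
      calc x * (g * α g⁻¹) = g * (g⁻¹ * x * g) * α g⁻¹ := by group
        _ = g * ((α g)⁻¹ * x * α g) * α g⁻¹ := by rw [h2]
        _ = g * α g⁻¹ * x := by rw [map_inv]; group
    exact ⟨Cfsg.Agent.Components.Fitting.centralizer_genFitting_le hc, hc⟩⟩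
  let σ : G → ↥Z →* ↥Z := fun h =>
    { toFun := fun z => ⟨h⁻¹ * z * h, by simpa using hZn.conj_mem z z.2 h⁻¹⟩
      map_one' := by ext; simp
      map_mul' := fun a b => by ext; simp [mul_assoc] }
  have hee : ∀ h g : G, e (h⁻¹ * g) = σ h (e g) * ⟨h⁻¹ * α h, by simpa [e] using (e h⁻¹).2⟩ := by
    intro h g
    ext
    simp [e, σ, mul_assoc]
  let : CommGroup ↥Z := { (inferInstance : Group ↥Z) with mul_comm := hcom.is_comm.comm }
  have := Fintype.ofFinite (G ⧸ (T : Subgroup G))
  let f : G ⧸ (T : Subgroup G) → ↥Z := Quotient.lift e fun a b hab => by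
    have hab : a⁻¹ * b ∈ (T : Subgroup G) := QuotientGroup.leftRel_apply.mp hab
    ext
    show a * α a⁻¹ = b * α b⁻¹
    have h1 := hfixT _ hab
    rw [map_mul] at h1
    calc a * α a⁻¹ = a * (α a⁻¹ * α b) * α b⁻¹ := by rw [map_inv α b]; group
      _ = b * α b⁻¹ := by rw [h1]; group
  set π := ∏ q, f q with hπ
  have key : ∀ h : G, π = σ h π * (⟨h⁻¹ * α h, by simpa [e] using (e h⁻¹).2⟩ : ↥Z) ^
      Fintype.card (G ⧸ (T : Subgroup G)) := by
    intro h
    rw [hπ, map_prod]
    rw [← Finset.card_univ, ← Finset.prod_const, ← Finset.prod_mul_distrib]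
    refine (Fintype.prod_equiv (MulAction.toPerm h⁻¹) _ _ ?_).symm
    intro q
    induction q using Quotient.inductionOn' with
    | h g => exact (hee h g).symm
  set m := Fintype.card (G ⧸ (T : Subgroup G)) with hm
  obtain ⟨k, hk⟩ := IsPGroup.iff_card.mp hZp
  have hcop : (Nat.card ↥Z).Coprime m := by
    rw [hk, hm, ← Nat.card_eq_fintype_card]
    exact (hp.coprime_iff_not_dvd.mpr T.not_dvd_index).pow_left k
  set z := (powCoprime hcop).symm π with hz
  have hzπ : z ^ m = π := (powCoprime hcop).apply_symm_apply π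
  refine ⟨(z : G)⁻¹, fun h => ?_⟩
  set c : ↥Z := ⟨h⁻¹ * α h, by simpa [e] using (e h⁻¹).2⟩ with hc
  have h1 := key h
  rw [← hzπ, map_pow, ← mul_pow] at h1
  have h2 : z = σ h z * c := (powCoprime hcop).injective h1
  have h3 : c = z * (σ h z)⁻¹ := by
    rw [mul_comm (σ h z) c] at h2
    exact (eq_mul_inv_iff_mul_eq).mpr h2.symm
  have h5 : z * (σ h z)⁻¹ = (σ h z)⁻¹ * z := mul_comm _ _
  rw [h5] at h3
  have h4 := congrArg Subtype.val h3
  simp [hc, σ] at h4
  calc α h = h * (h⁻¹ * α h) := by group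
    _ = _ := by rw [h4]; group

end Cfsg.Agent.S1941
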