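import Cfsg.Statements.S1944
import Mathlib
import Cfsg.Agent.Techniques.PPrimeP

set_option autoImplicit false
open Cfsg

namespace Cfsg.Agent.S1944

/-- Let S be a Sylow p-subgroup of the finite group G and suppose that the centre Z(S) lies in O_{p',p}(G). The elements of S each of which is its only G-conjugate in S form a subgroup W of Z(S); W is then a direct factor of Z(S): there is a subgroup K of Z(S) with W ∩ K = 1 and WK = Z(S). -/
theorem result {G : Type*} [Group G] [Finite G] {p : ℕ} [Fact p.Prime] (S : Sylow p G)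
    (hZ : ((S : Subgroup G) ⊓ Subgroup.centralizer ((S : Subgroup G) : Set G)) ≤ Cfsg.pPrimePCore p G) :
    ∃ W K : Subgroup G, (∀ x : G, x ∈ W ↔ (x ∈ (S : Subgroup G) ∧ ∀ g : G, g * x * g⁻¹ ∈ (S : Subgroup G) → g * x * g⁻¹ = x)) ∧
      K ≤ ((S : Subgroup G) ⊓ Subgroup.centralizer ((S : Subgroup G) : Set G)) ∧ W ⊓ K = ⊥ ∧ W ⊔ K = ((S : Subgroup G) ⊓ Subgroup.centralizer ((S : Subgroup G) : Set G)) := by
  classical
  set Sg := (S : Subgroup G) with hSg
  set H := Techniques.PPrimeP.core S with hH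
  set N := Subgroup.normalizer (H : Set G) with hN
  set Z := Sg ⊓ Subgroup.centralizer (Sg : Set G) with hZdef
  set A := H ⊓ Subgroup.centralizer (H : Set G) with hA
  have hSN : Sg ≤ N := Techniques.PPrimeP.sylow_le_normalizer S
  have hZH : Z ≤ H := le_inf inf_le_left hZ
  have hZA : Z ≤ A := le_inf hZH (inf_le_right.trans (Subgroup.centralizer_le inf_le_left))
  set W := Z ⊓ Subgroup.centralizer (N : Set G) with hW
  have hWiff : ∀ x : G, x ∈ W ↔ (x ∈ Sg ∧ ∀ g : G, g * x * g⁻¹ ∈ Sg → g * x * g⁻¹ = x) := by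
    intro x
    constructor
    · rintro ⟨hxZ, hxN⟩
      refine ⟨hxZ.1, fun g hg => ?_⟩
      obtain ⟨n, hn, e⟩ := Techniques.PPrimeP.exists_mem_normalizer_conj S hxZ.1 hg (isConj_iff.mpr ⟨g, rfl⟩)
      rw [← e, Subgroup.mem_centralizer_iff.mp hxN n hn, mul_inv_cancel_right]
    · rintro ⟨hxS, hx⟩
      have hxC : x ∈ Z := ⟨hxS, Subgroup.mem_centralizer_iff.mpr fun s hs => by
        have h := hx s (mul_mem (mul_mem hs hxS) (inv_mem hs))
        calc s * x = s * x * s⁻¹ * s := by group
          _ = x * s := by rw [h]⟩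
      refine ⟨hxC, Subgroup.mem_centralizer_iff.mpr fun n hn => ?_⟩
      have h := hx n ((Subgroup.mem_normalizer_iff.mp hn x).mp (hZH hxC)).1
      calc n * x = n * x * n⁻¹ * n := by group
        _ = x * n := by rw [h]
  have hAcomm : IsMulCommutative A :=
    ⟨⟨fun a b => Subtype.ext (Subgroup.mem_centralizer_iff.mp b.2.2 a a.2.1)⟩⟩
  letI : CommGroup A := open scoped IsMulCommutative in inferInstance
  have hconjA : ∀ n : N, ∀ z : Z, (n : G) * z * (n : G)⁻¹ ∈ A := by
    intro n z
    refine ⟨(Subgroup.mem_normalizer_iff.mp n.2 z).mp (hZH z.2), Subgroup.mem_centralizer_iff.mpr fun h hh => ?_⟩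
    have hh' : (n : G)⁻¹ * h * n ∈ H := by
      have := (Subgroup.mem_normalizer_iff.mp (inv_mem n.2) h).mp hh
      simpa using this
    have := Subgroup.mem_centralizer_iff.mp (hZA z.2).2 _ hh'
    calc h * ((n : G) * z * (n : G)⁻¹) = (n : G) * ((n : G)⁻¹ * h * n * z) * (n : G)⁻¹ := by group
      _ = _ := by rw [this]; group
  set S' := Sg.subgroupOf N with hS'
  haveI : Fintype (↥N ⧸ S') := Fintype.ofFinite _
  let f : ↥N ⧸ S' → Z → A := fun q z => Quotient.liftOn' q (fun n => (⟨_, hconjA n z⟩ : A)) (by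
    intro a b hab
    rw [QuotientGroup.leftRel_apply] at hab
    apply Subtype.ext
    show (a : G) * z * (a : G)⁻¹ = (b : G) * z * (b : G)⁻¹
    have h : ((a⁻¹ * b : N) : G) ∈ Sg := hab
    have h2 := Subgroup.mem_centralizer_iff.mp z.2.2 _ h
    simp only [Subgroup.coe_mul, Subgroup.coe_inv] at h2
    have e : (b : G) * z * (b : G)⁻¹ = (a : G) * ((a : G)⁻¹ * b * z) * ((b : G)⁻¹ * a) * (a : G)⁻¹ := by group
    rw [e, h2]; group)
  let τ : Z →* A := MonoidHom.mk' (fun z => ∏ q, f q z) (by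
    intro z w
    rw [← Finset.prod_mul_distrib]
    refine Finset.prod_congr rfl fun q _ => ?_
    induction q using QuotientGroup.induction_on with
    | H n =>
      apply Subtype.ext
      show (n : G) * ((z : G) * w) * (n : G)⁻¹ = (n : G) * z * (n : G)⁻¹ * ((n : G) * w * (n : G)⁻¹)
      group)
  have hτW : ∀ z, (τ z : G) ∈ W := by
    intro z
    have hcen : ∀ n : N, (n : G) * (τ z : G) * (n : G)⁻¹ = τ z := by
      intro n
      have hconj : ∀ a : A, (n : G) * a * (n : G)⁻¹ ∈ A := by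
        intro a
        refine ⟨(Subgroup.mem_normalizer_iff.mp n.2 a).mp a.2.1, Subgroup.mem_centralizer_iff.mpr fun h hh => ?_⟩
        have hh' : (n : G)⁻¹ * h * n ∈ H := by
          have := (Subgroup.mem_normalizer_iff.mp (inv_mem n.2) h).mp hh
          simpa using this
        have := Subgroup.mem_centralizer_iff.mp a.2.2 _ hh'
        calc h * ((n : G) * a * (n : G)⁻¹) = (n : G) * ((n : G)⁻¹ * h * n * a) * (n : G)⁻¹ := by group
          _ = _ := by rw [this]; group
      let cn : A →* A := MonoidHom.mk' (fun a => ⟨_, hconj a⟩) (fun a b => Subtype.ext (by simp [mul_assoc]))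
      have : cn (τ z) = τ z := by
        show cn (∏ q, f q z) = ∏ q, f q z
        rw [map_prod]
        refine Fintype.prod_equiv (MulAction.toPerm n) _ _ fun q => ?_
        induction q using QuotientGroup.induction_on with
        | H m =>
          apply Subtype.ext
          show (n : G) * ((m : G) * z * (m : G)⁻¹) * (n : G)⁻¹ = ((n * m : N) : G) * z * ((n * m : N) : G)⁻¹
          simp [mul_assoc]
      exact congrArg Subtype.val this
    have hcomm : ∀ n ∈ N, n * (τ z : G) = τ z * n := fun n hn => by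
      calc n * (τ z : G) = n * τ z * n⁻¹ * n := by group
        _ = τ z * n := by rw [show n * (τ z : G) * n⁻¹ = τ z from hcen ⟨n, hn⟩]
    exact ⟨⟨(τ z).2.1.1, Subgroup.mem_centralizer_iff.mpr fun s hs => hcomm s (hSN hs)⟩,
      Subgroup.mem_centralizer_iff.mpr hcomm⟩
  set m := Nat.card (↥N ⧸ S') with hm
  have hτfix : ∀ z : Z, (z : G) ∈ W → (τ z : G) = (z : G) ^ m := by
    intro z hz
    have : τ z = ∏ _q : ↥N ⧸ S', (⟨z, hZA z.2⟩ : A) := by
      show (∏ q, f q z) = _
      refine Finset.prod_congr rfl fun q _ => ?_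
      induction q using QuotientGroup.induction_on with
      | H n =>
        apply Subtype.ext
        show (n : G) * z * (n : G)⁻¹ = z
        rw [Subgroup.mem_centralizer_iff.mp hz.2 _ n.2, mul_inv_cancel_right]
    rw [this, Finset.prod_const, Finset.card_univ, SubmonoidClass.coe_pow, hm, Nat.card_eq_fintype_card]
  have hcop : ¬ p ∣ m := by
    intro h
    exact S.not_dvd_index (h.trans (Subgroup.relIndex_dvd_index_of_le hSN))
  have hWp : IsPGroup p W := IsPGroup.to_le S.2 (inf_le_left.trans inf_le_left)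
  refine ⟨W, τ.ker.map Z.subtype, hWiff, Subgroup.map_subtype_le _, ?_, ?_⟩
  · rw [eq_bot_iff]
    rintro x ⟨hxW, z, hz, rfl⟩
    have h1 := hτfix z hxW
    rw [MonoidHom.mem_ker.mp hz, Subgroup.coe_one] at h1
    have h2 : (hWp.powEquiv' hcop) ⟨z, hxW⟩ = (hWp.powEquiv' hcop) 1 := by
      apply Subtype.ext
      simpa [IsPGroup.powEquiv_apply] using h1.symm
    have h3 := congrArg Subtype.val ((hWp.powEquiv' hcop).injective h2)
    simpa using h3
  · refine le_antisymm (sup_le inf_le_left (Subgroup.map_subtype_le _)) ?_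
    intro x hx
    obtain ⟨w, hw⟩ := (hWp.powEquiv' hcop).surjective ⟨_, hτW ⟨x, hx⟩⟩
    have hw' : (w : G) ^ m = τ ⟨x, hx⟩ := congrArg Subtype.val hw
    set v : Z := ⟨w, w.2.1⟩ with hv
    have hker : v⁻¹ * ⟨x, hx⟩ ∈ τ.ker := by
      rw [MonoidHom.mem_ker, map_mul, map_inv, inv_mul_eq_one]
      apply Subtype.ext
      rw [hτfix v w.2, hv]; exact hw'
    have hx' : x = (w : G) * ((v⁻¹ * ⟨x, hx⟩ : Z) : G) := by simp [hv]
    rw [hx']
    exact Subgroup.mul_mem_sup w.2 (Subgroup.mem_map_of_mem _ hker)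

end Cfsg.Agent.S1944
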