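import Cfsg.Statements.S1945
import Cfsg.Agent.S1944
import Cfsg.Agent.S2799
import Cfsg.Agent.Lib.CharP.LocalJ
import Cfsg.Agent.Solvable.Fitting
import Cfsg.Agent.Lib.PLocal.Cores
set_option linter.all false
-- import your own Cfsg.Agent.* helpers here

set_option autoImplicit false
open Cfsg

namespace Cfsg.Agent.S1945

/-- Let S be a Sylow p-subgroup of the finite group G, and assume that p is odd or that G is solvable. The elements of S each of which is its only G-conjugate in S form a subgroup W of Z(S); W is then a direct factor of Z(S): there is a subgroup K of Z(S) with W ∩ K = 1 and WK = Z(S). (For p = 2 and G not solvable this can fail.) -/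
theorem result {G : Type*} [Group G] [Finite G] {p : ℕ} [Fact p.Prime] (S : Sylow p G) (h : p ≠ 2 ∨ Group.IsSolvable G) :
    ∃ W K : Subgroup G, (∀ x : G, x ∈ W ↔ (x ∈ (S : Subgroup G) ∧ ∀ g : G, g * x * g⁻¹ ∈ (S : Subgroup G) → g * x * g⁻¹ = x)) ∧
      K ≤ ((S : Subgroup G) ⊓ Subgroup.centralizer ((S : Subgroup G) : Set G)) ∧ W ⊓ K = ⊥ ∧ W ⊔ K = ((S : Subgroup G) ⊓ Subgroup.centralizer ((S : Subgroup G) : Set G)) := by
  classical
  by_cases hp : p = 2
  · have := h.resolve_left (not_not_intro hp)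
    refine S1944.result S fun z hz => ?_
    rw [PLocal.Cores.mem_pPrimePCore_iff]
    refine Solvable.Fitting.centralizer_pCore_le p PLocal.Cores.pPrimeCore_quotient_pPrimeCore ?_
    intro q hq
    obtain ⟨s, hs, rfl⟩ := PLocal.Cores.pCore_le_sylow
      (S.mapSurjective (QuotientGroup.mk'_surjective (pPrimeCore p G))) hq
    exact congrArg (QuotientGroup.mk' (pPrimeCore p G)) (hz.2 s hs)
  · have hiso := CharP.LocalJ.isoInv_J.{_} (p := p)
    set J := thompsonSubgroupAOf (S : Subgroup G) with hJ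
    set M := Subgroup.normalizer (J : Set G) with hM
    have hJS : J ≤ (S : Subgroup G) := CharP.LocalControl.Wof_le (W := CharP.LocalJ.J.{_}) _
    have hSM : (S : Subgroup G) ≤ M := Subgroup.le_normalizer.trans
      (CharP.LocalControl.normalizer_le_Wof (W := CharP.LocalJ.J.{_}) hiso S.isPGroup')
    have hJM : J ≤ M := hJS.trans hSM
    have : (J.subgroupOf M).Normal := ⟨fun a ha m => (Subgroup.mem_normalizer_iff.1 m.2 a).1 ha⟩
    have hJp : IsPGroup p (J.subgroupOf M) := (S.isPGroup'.to_le hJS).comap_subtype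
    have hZJ : ∀ z ∈ (S : Subgroup G) ⊓ Subgroup.centralizer ((S : Subgroup G) : Set G), z ∈ J :=
      fun z hz => ⟨⟨z, hz.1⟩, CharP.LocalJ.center_le_J (Subgroup.mem_center_iff.2 fun y =>
        Subtype.ext (hz.2 y y.2)), rfl⟩
    obtain ⟨W, K, hW, hK, hi, hs⟩ := S1944.result (S.subtype hSM) (by
      intro z hz
      exact PLocal.Cores.pCore_le_pPrimePCore (PLocal.Cores.le_pCore hJp
        (hZJ z.1 ⟨hz.1, fun y hy => congrArg Subtype.val (hz.2 ⟨y, hSM hy⟩ hy)⟩)))
    have hZ : (((S.subtype hSM : Subgroup M) ⊓ Subgroup.centralizer ((S.subtype hSM : Subgroup M) : Set M))).map M.subtype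
        = (S : Subgroup G) ⊓ Subgroup.centralizer ((S : Subgroup G) : Set G) := by
      ext z
      constructor
      · rintro ⟨y, ⟨hy, hy'⟩, rfl⟩
        exact ⟨hy, fun a ha => congrArg Subtype.val (hy' ⟨a, hSM ha⟩ ha)⟩
      · rintro ⟨hz, hz'⟩
        exact ⟨⟨z, hSM hz⟩, ⟨hz, fun a ha => Subtype.ext (hz' a.1 ha)⟩, rfl⟩
    refine ⟨W.map M.subtype, K.map M.subtype, fun x => ⟨?_, fun ⟨hx, hx'⟩ => ?_⟩,
      hZ ▸ Subgroup.map_mono hK, ?_, ?_⟩
    · rintro ⟨y, hy, rfl⟩
      obtain ⟨hyS, hyw⟩ := (hW y).1 hy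
      refine ⟨hyS, S2799.result S y.1 hyS ⟨y, Subgroup.mem_center_iff.2 fun m => ?_, rfl⟩ (Or.inl hp)⟩
      have hyZ : (y : G) ∈ (S : Subgroup G) ⊓ Subgroup.centralizer ((S : Subgroup G) : Set G) :=
        ⟨hyS, fun a ha => by
          have := congrArg Subtype.val (hyw ⟨a, hSM ha⟩ (mul_mem (mul_mem ha hyS) (inv_mem ha)))
          exact mul_inv_eq_iff_eq_mul.1 this⟩
      have h1 := hyw m (hJS ((Subgroup.mem_normalizer_iff.1 m.2 y.1).1 (hZJ _ hyZ)))
      exact mul_inv_eq_iff_eq_mul.1 h1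
    · exact ⟨⟨x, hSM hx⟩, (hW _).2 ⟨hx, fun g hg => Subtype.ext (hx' g.1 hg)⟩, rfl⟩
    · rw [← Subgroup.map_inf _ _ _ M.subtype_injective, hi, Subgroup.map_bot]
    · rw [← Subgroup.map_sup, hs, hZ]

end Cfsg.Agent.S1945
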