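import Cfsg.Statements.S1947
import Cfsg.Agent.Lib.Coprime.OmegaDetect
import Cfsg.Agent.Lib.Transfer.Frobenius

set_option autoImplicit false
open Cfsg

namespace Cfsg.Agent.S1947

/-- Let G be a finite group and p a prime. If every element of G of order dividing p (dividing 4 when p = 2) lies in some fixed term Z_n(G) of the upper central series, then G has a normal p-complement. -/
theorem result {G : Type*} [Group G] [Finite G] {p : ℕ} [Fact p.Prime] (n : ℕ)
    (h : ∀ a : G, (a ^ p = 1 ∨ (p = 2 ∧ a ^ 4 = 1)) → a ∈ Subgroup.upperCentralSeries G n) : Cfsg.HasNormalPComplement p G := by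
  refine Cfsg.Agent.Transfer.Frobenius.hasNormalPComplement_of_condition fun Q hQ g hg ho => ?_
  let L : ℕ → Subgroup G := fun i => if i = 0 then ⊤ else Subgroup.upperCentralSeries G (n + 1 - i)
  refine Cfsg.Agent.Coprime.OmegaDetect.mem_centralizer_of_descent ho L (n + 1) (by simp [L]) hQ hg
    (by simp [L]) fun i a _ haL hao => ?_
  simp only [L, Nat.succ_ne_zero, if_false]
  have hn : (Subgroup.upperCentralSeries G n).Normal := inferInstance
  rcases i with _ | i
  · rw [show n + 1 - (0 + 1) = n by omega]
    exact mul_mem (hn.conj_mem a (h a hao) g) (inv_mem (h a hao))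
  · simp only [L, Nat.succ_ne_zero, if_false] at haL
    by_cases hi : n ≤ i
    · rw [show n + 1 - (i + 1) = 0 by omega, Subgroup.upperCentralSeries_zero, Subgroup.mem_bot] at haL
      rw [haL]
      simp
    · rw [show n + 1 - (i + 1) = (n + 1 - (i + 1 + 1)) + 1 by omega,
        Subgroup.mem_upperCentralSeries_succ_iff] at haL
      have h1 := inv_mem (haL g)
      rw [commutatorElement_def] at h1
      rw [show (a * g * a⁻¹ * g⁻¹)⁻¹ = g * a * g⁻¹ * a⁻¹ by group] at h1
      exact h1

end Cfsg.Agent.S1947
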