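import Cfsg.Statements.S1948
import Cfsg.Agent.InvChar.PConstrained
import Cfsg.Agent.Lib.PLocal.PSolvable
import Cfsg.Agent.Techniques.PPrimeP
import Cfsg.Agent.Lib.Transfer.Fusion

set_option autoImplicit false
open Cfsg

namespace Cfsg.Agent.S1948

/-- Let S be a Sylow p-subgroup of the finite group G. Then G = N_G(S)·O_{p'}(G) if and only if G is p-constrained and N_G(S) controls fusion in S, in the sense that whenever a subgroup Q of S has a conjugate g Q g⁻¹ inside S, the element g is a product n c with n normalizing S and c centralizing Q. -/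
theorem result {G : Type*} [Group G] [Finite G] {p : ℕ} [Fact p.Prime] (S : Sylow p G) :
    Subgroup.normalizer ((S : Subgroup G) : Set G) ⊔ Cfsg.pPrimeCore p G = ⊤ ↔
      (Cfsg.IsPConstrained p G ∧
        ∀ Q : Subgroup G, Q ≤ (S : Subgroup G) → ∀ g : G, Q.map (MulAut.conj g).toMonoidHom ≤ (S : Subgroup G) →
          ∃ n ∈ Subgroup.normalizer ((S : Subgroup G) : Set G), ∃ c ∈ Subgroup.centralizer (Q : Set G), g = n * c) := by
  open Cfsg.Agent Cfsg.Agent.PLocal in
  set O := Cfsg.pPrimeCore p G with hO
  set N := Subgroup.normalizer ((S : Subgroup G) : Set G) with hN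
  have hOn : O.Normal := inferInstance
  constructor
  · intro h
    refine ⟨?_, ?_⟩
    · rw [InvChar.PConstrained.iff_char]
      set q := QuotientGroup.mk' O with hq
      have hqs : Function.Surjective q := QuotientGroup.mk'_surjective O
      set T : Sylow p (G ⧸ O) := S.mapSurjective hqs with hT
      have hTn : ((T : Subgroup (G ⧸ O))).Normal := by
        rw [← Subgroup.normalizer_eq_top_iff, eq_top_iff]
        refine le_trans ?_ (Subgroup.le_normalizer_map q)
        rw [← Subgroup.map_top_of_surjective q hqs, ← h, Subgroup.map_sup, QuotientGroup.map_mk'_self,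
          sup_bot_eq]
      refine PSolvable.centralizer_pCore_le Cores.pPrimeCore_quotient_pPrimeCore
        (PSolvable.subgroup ⟨2, ![⊥, (T : Subgroup (G ⧸ O)), ⊤], rfl, rfl, ?_, ?_, ?_⟩ _)
      · refine Fin.monotone_iff_le_succ.mpr fun i => ?_
        fin_cases i
        · exact bot_le
        · exact le_top
      · intro i
        fin_cases i
        · exact inferInstanceAs (⊥ : Subgroup (G ⧸ O)).Normal
        · exact hTn
        · exact inferInstanceAs (⊤ : Subgroup (G ⧸ O)).Normal
      · intro i
        fin_cases i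
        · left
          obtain ⟨m, hm⟩ := IsPGroup.iff_card.mp T.2
          exact ⟨m, (Subgroup.relIndex_bot_left _).trans hm⟩
        · right
          refine Nat.Coprime.symm ((Fact.out : p.Prime).coprime_iff_not_dvd.mpr ?_)
          have := T.not_dvd_index
          show ¬ p ∣ (T : Subgroup (G ⧸ O)).relIndex ⊤
          rwa [Subgroup.relIndex_top_right]
    · intro Q hQ g hg
      have hgt : g ∈ N ⊔ O := h ▸ Subgroup.mem_top g
      obtain ⟨n, hn, o, ho, rfl⟩ := Subgroup.mem_sup_of_normal_right.mp hgt
      refine ⟨n, hn, o, ?_, rfl⟩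
      rw [Subgroup.mem_centralizer_iff]
      intro x hx
      have hy : n * o * x * (n * o)⁻¹ ∈ (S : Subgroup G) := hg ⟨x, hx, rfl⟩
      have hy' : o * x * o⁻¹ ∈ (S : Subgroup G) := by
        have := (Subgroup.mem_normalizer_iff.mp (inv_mem hn) _).mp hy
        simpa [mul_assoc] using this
      have hd : o * x * o⁻¹ * x⁻¹ ∈ (S : Subgroup G) ⊓ O := by
        refine Subgroup.mem_inf.mpr ⟨mul_mem hy' (inv_mem (hQ hx)), ?_⟩
        have := mul_mem ho (hOn.conj_mem _ (inv_mem ho) x)
        simpa [mul_assoc] using this
      rw [Cores.inf_eq_bot_of_isPGroup_of_coprime S.2 Cores.coprime_card_pPrimeCore,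
        Subgroup.mem_bot, mul_inv_eq_one, mul_inv_eq_iff_eq_mul] at hd
      exact hd.symm
  · rintro ⟨hcon, hfus⟩
    set H := Techniques.PPrimeP.core (p := p) S with hH
    have hHM : H ⊔ O = Cfsg.pPrimePCore p G := by
      rw [sup_comm]; exact Techniques.PPrimeP.sup_core S
    have hC : Subgroup.centralizer (H : Set G) ≤ Cfsg.pPrimePCore p G := by
      obtain ⟨P, hP⟩ := Techniques.exists_sylow_of_not_dvd_relIndex
        (Techniques.isPGroup_inf S (Cfsg.pPrimePCore p G))
        (Techniques.not_dvd_relIndex_of_normal S _) inf_le_right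
      have := hcon P
      rwa [hP] at this
    have hHN : H ≤ N := inf_le_left.trans Subgroup.le_normalizer
    rw [eq_top_iff, ← Techniques.PPrimeP.sup_normalizer S]
    refine sup_le le_sup_right fun g hg => ?_
    have hle : H.map (MulAut.conj g).toMonoidHom ≤ (S : Subgroup G) := by
      rw [Transfer.Fusion.map_conj_eq_self_iff.mpr hg]
      exact inf_le_left
    obtain ⟨n, hn, c, hc, rfl⟩ := hfus H inf_le_left g hle
    refine mul_mem (Subgroup.mem_sup_left hn) ?_
    have hc' := hC hc
    rw [← hHM] at hc'
    exact sup_le_sup_right hHN O hc' 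

end Cfsg.Agent.S1948
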