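import Cfsg.Statements.S1949
import Cfsg.Agent.Lib.Coprime.OmegaDetect
import Cfsg.Agent.Lib.PGroups.AbelianNormal
import Cfsg.Agent.Lib.Transfer.NormalPComplement
import Mathlib

set_option autoImplicit false
open Cfsg
open scoped commutatorElement

namespace Cfsg.Agent.S1949

/-- An automorphism fixing `x⁻¹ β x` fixes `x` when its order is prime to the order of `x⁻¹ β x`. -/
theorem fix_of_fix_diff {P : Type*} [Group P] [Finite P] {p : ℕ} [Fact p.Prime] (hP : IsPGroup p P)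
    (β : MulAut P) (hβ : (orderOf β).Coprime p) (x : P) (h : β (x⁻¹ * β x) = x⁻¹ * β x) : β x = x := by
  set d := x⁻¹ * β x with hd
  have hk : ∀ k : ℕ, (β ^ k) x = x * d ^ k := by
    intro k
    induction k with
    | zero => simp
    | succ k ih =>
      rw [pow_succ', MulAut.mul_apply, ih, map_mul, map_pow, h, pow_succ', ← mul_assoc]
      congr 1
      rw [hd, mul_inv_cancel_left]
  have h1 := hk (orderOf β)
  rw [pow_orderOf_eq_one, MulAut.one_apply, eq_comm, mul_eq_left] at h1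
  obtain ⟨j, hj⟩ := IsPGroup.iff_orderOf.mp hP d
  have h2 : d = 1 := orderOf_eq_one_iff.mp (Nat.eq_one_of_dvd_coprimes (hβ.pow_right j)
    (orderOf_dvd_of_pow_eq_one h1) (hj ▸ dvd_rfl))
  rw [hd, inv_mul_eq_one] at h2
  exact h2.symm

/-- Detection on elements of small order, for automorphisms. -/
theorem fix_of_fix_small {P : Type*} [Group P] [Finite P] {p : ℕ} [Fact p.Prime] (hP : IsPGroup p P)
    (β : MulAut P) (hβ : (orderOf β).Coprime p) (C : Subgroup P) (hC : ∀ c ∈ C, β c ∈ C)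
    (h : ∀ c ∈ C, (c ^ p = 1 ∨ (p = 2 ∧ c ^ 4 = 1)) → β c = c) : ∀ c ∈ C, β c = c := by
  let Γ := P ⋊[MonoidHom.id (MulAut P)] MulAut P
  have : Finite Γ := Finite.of_equiv _ SemidirectProduct.equivProd.symm
  set Q : Subgroup Γ := C.map SemidirectProduct.inl with hQ
  set g : Γ := SemidirectProduct.inr β with hg
  have hgo : (orderOf g).Coprime p := by
    rw [hg, orderOf_injective _ SemidirectProduct.inr_injective]; exact hβ
  have hconj : ∀ c : P, g * SemidirectProduct.inl c * g⁻¹ = SemidirectProduct.inl (β c) := fun c => by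
    rw [hg, ← map_inv, ← SemidirectProduct.inl_aut]; rfl
  have hgN : g ∈ Subgroup.normalizer (Q : Set Γ) := Subgroup.mem_normalizer_fintype (by
    rintro _ ⟨c, hc, rfl⟩
    exact ⟨β c, hC c hc, (hconj c).symm⟩)
  have hfix := Cfsg.Agent.Coprime.OmegaDetect.mem_centralizer_of_fix hgo ((hP.to_subgroup C).map _) hgN (by
    rintro _ ⟨c, hc, rfl⟩ hord
    have hc' : β c = c := by
      refine h c hc ?_
      rcases hord with h1 | ⟨h2, h1⟩
      · exact Or.inl (SemidirectProduct.inl_injective (by rw [map_pow, map_one]; exact h1))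
      · exact Or.inr ⟨h2, SemidirectProduct.inl_injective (by rw [map_pow, map_one]; exact h1)⟩
    rw [← mul_inv_eq_iff_eq_mul, hconj, hc'])
  intro c hc
  have h1 := Subgroup.mem_centralizer_iff.mp hfix _ (Subgroup.mem_map_of_mem _ hc)
  apply SemidirectProduct.inl_injective (φ := MonoidHom.id (MulAut P))
  rw [← hconj, ← h1, mul_inv_cancel_right]

set_option maxHeartbeats 1000000 in
/-- Let P be a finite p-group and G a group of automorphisms of P containing the inner automorphisms. Then there is a G-invariant subgroup D of P, contained in the subgroup generated by the elements x⁻¹α(x) with x in P and α in O^p(G), of exponent dividing p when p is odd and dividing 4 when p = 2, with [D, P] ≤ Z(D), such that every automorphism in G of order prime to p that fixes D elementwise is the identity; moreover every maximal abelian subgroup A of D is normal in P and every automorphism in G fixing A elementwise has p-power order. -/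
theorem result {P : Type*} [Group P] [Finite P] {p : ℕ} [Fact p.Prime] (hP : IsPGroup p P)
    (G : Subgroup (MulAut P)) (hG : Cfsg.Inn P ≤ G) :
    ∃ D : Subgroup P,
      (∀ α ∈ G, D.map α.toMonoidHom = D) ∧
      D ≤ Subgroup.closure {y : P | ∃ α ∈ Cfsg.pResidual p ↥G, ∃ x : P, y = x⁻¹ * (α : MulAut P) x} ∧
      (∀ d ∈ D, d ^ p = 1 ∨ (p = 2 ∧ d ^ 4 = 1)) ∧
      ⁅D, (⊤ : Subgroup P)⁆ ≤ D ⊓ Subgroup.centralizer (D : Set P) ∧
      (∀ α ∈ G, (orderOf α).Coprime p → (∀ d ∈ D, α d = d) → α = 1) ∧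
      ∀ A : Subgroup P, A ≤ D → IsMulCommutative ↥A →
        (∀ B : Subgroup P, A ≤ B → B ≤ D → IsMulCommutative ↥B → B = A) →
        A.Normal ∧ ∀ α ∈ G, (∀ a ∈ A, α a = a) → ∃ k : ℕ, orderOf α = p ^ k := by
  classical
  have hp := (Fact.out : p.Prime)
  set W : Subgroup P := Subgroup.closure {y : P | ∃ α ∈ Cfsg.pResidual p ↥G, ∃ x : P, y = x⁻¹ * (α : MulAut P) x} with hW
  have hconj : ∀ x : P, MulAut.conj x ∈ G := fun x => hG ⟨x, rfl⟩
  have hnorm : ∀ U : Subgroup P, (∀ γ ∈ G, ∀ u ∈ U, γ u ∈ U) → U.Normal := fun U hU =>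
    ⟨fun u hu x => hU _ (hconj x) u hu⟩
  have hWinv : ∀ γ ∈ G, ∀ w ∈ W, γ w ∈ W := by
    intro γ hγ w hw
    refine ((Subgroup.closure_le (W.comap (γ : MulAut P).toMonoidHom)).mpr ?_) hw
    rintro _ ⟨α, hα, x, rfl⟩
    have hn : (Cfsg.pResidual p ↥G).Normal := inferInstance
    refine Subgroup.subset_closure ⟨⟨γ, hγ⟩ * α * ⟨γ, hγ⟩⁻¹, hn.conj_mem α hα _, γ x, ?_⟩
    show γ (x⁻¹ * (α : MulAut P) x) = _
    simp [MulAut.mul_apply]
  -- a maximal invariant abelian subgroup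
  obtain ⟨A, ⟨hAW, hAinv, hAc⟩, hAmax⟩ := Set.Finite.exists_maximal
    (s := {A : Subgroup P | A ≤ W ∧ (∀ γ ∈ G, ∀ a ∈ A, γ a ∈ A) ∧ IsMulCommutative A})
    (Set.toFinite _) ⟨⊥, bot_le, fun γ _ a ha => by rw [Subgroup.mem_bot] at ha ⊢; rw [ha, map_one],
      inferInstance⟩
  have hAn := hnorm A hAinv
  have hAcomm : ∀ a ∈ A, ∀ b ∈ A, a * b = b * a := fun a ha b hb =>
    congrArg Subtype.val (hAc.is_comm.comm ⟨a, ha⟩ ⟨b, hb⟩)
  let C : Subgroup P :=
    { carrier := {x | x ∈ W ∧ (∀ a ∈ A, x * a = a * x) ∧ x ^ p ∈ A ∧ ∀ y, x * y * x⁻¹ * y⁻¹ ∈ A}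
      one_mem' := ⟨one_mem _, fun a _ => by simp, by rw [one_pow]; exact one_mem _, fun y => by simp⟩
      mul_mem' := fun {u v} hu hv => ⟨mul_mem hu.1 hv.1,
        fun a ha => by rw [mul_assoc, hv.2.1 a ha, ← mul_assoc, hu.2.1 a ha, mul_assoc], by
          set c := v⁻¹ * u⁻¹ * v * u with hc
          have hcA : c ∈ A := by
            have h5 := hu.2.2.2 v
            have h8 := inv_mem (hAn.conj_mem _ h5 (u * v)⁻¹)
            rwa [show ((u * v)⁻¹ * (u * v * u⁻¹ * v⁻¹) * (u * v)⁻¹⁻¹)⁻¹ = c by rw [hc]; group] at h8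
          rw [Cfsg.Agent.Coprime.OmegaDetect.mul_pow_central (x := v) (y := u) (c := c) (by rw [hc]; group)
            (hv.2.1 c hcA).symm (hu.2.1 c hcA).symm p]
          exact mul_mem (mul_mem hu.2.2.1 hv.2.2.1) (pow_mem hcA _),
        fun y => by
          rw [show u * v * y * (u * v)⁻¹ * y⁻¹ = u * (v * y * v⁻¹ * y⁻¹) * u⁻¹ * (u * y * u⁻¹ * y⁻¹) by group]
          exact mul_mem (hAn.conj_mem _ (hv.2.2.2 y) u) (hu.2.2.2 y)⟩
      inv_mem' := fun {u} hu => ⟨inv_mem hu.1, fun a ha => (Commute.inv_left (hu.2.1 a ha)).eq,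
        by rw [inv_pow]; exact inv_mem hu.2.2.1, fun y => by
          have h := hAn.conj_mem _ (inv_mem (hu.2.2.2 y)) u⁻¹
          rwa [show u⁻¹ * (u * y * u⁻¹ * y⁻¹)⁻¹ * u⁻¹⁻¹ = u⁻¹ * y * u⁻¹⁻¹ * y⁻¹ by group] at h⟩ }
  have hAC : A ≤ C := fun a ha => ⟨hAW ha, hAcomm a ha, pow_mem ha p, fun y => by
    rw [show a * y * a⁻¹ * y⁻¹ = a * (y * a⁻¹ * y⁻¹) by group]
    exact mul_mem ha (hAn.conj_mem _ (inv_mem ha) y)⟩
  have hCinv : ∀ γ ∈ G, ∀ c ∈ C, γ c ∈ C := fun γ hγ c hc => by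
    refine ⟨hWinv γ hγ c hc.1, fun a ha => ?_, by rw [← map_pow]; exact hAinv γ hγ _ hc.2.2.1, fun y => ?_⟩
    · have ha' : γ⁻¹ a ∈ A := hAinv _ (inv_mem hγ) a ha
      have h := congrArg γ (hc.2.1 _ ha')
      simpa [map_mul] using h
    · have h := hAinv γ hγ _ (hc.2.2.2 (γ⁻¹ y))
      simpa [map_mul, map_inv] using h
  -- `A` contains the centralizer of `C` in `W`
  have hCC : ∀ w ∈ W, (∀ c ∈ C, w * c = c * w) → w ∈ A := by
    let Zc : Subgroup P := W ⊓ Subgroup.centralizer (C : Set P)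
    have hZinv : ∀ γ ∈ G, ∀ w ∈ Zc, γ w ∈ Zc := fun γ hγ w hw => by
      obtain ⟨h1, h2⟩ := Subgroup.mem_inf.mp hw
      refine Subgroup.mem_inf.mpr ⟨hWinv γ hγ w h1, fun c hc => ?_⟩
      have hc' : γ⁻¹ c ∈ C := hCinv _ (inv_mem hγ) c hc
      have h := congrArg γ (Subgroup.mem_centralizer_iff.mp h2 _ hc')
      simpa [map_mul] using h
    intro w hw hwc
    by_contra hwA
    have hZn := hnorm Zc hZinv
    have hlt : A < A ⊔ Zc := le_sup_left.lt_of_ne fun e => hwA (e ▸ Subgroup.mem_sup_right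
      (Subgroup.mem_inf.mpr ⟨hw, fun c hc => (hwc c hc).symm⟩))
    obtain ⟨x, hx, hxA, hxp, hxc⟩ := Cfsg.Agent.PGroups.AbelianNormal.exists_step hP hlt
    have hsupW : A ⊔ Zc ≤ W := sup_le hAW inf_le_left
    have hcA : ∀ a ∈ A, x * a = a * x := by
      have hle : A ⊔ Zc ≤ Subgroup.centralizer (A : Set P) := sup_le
        (fun a ha b hb => hAcomm b hb a ha)
        (fun z hz b hb => Subgroup.mem_centralizer_iff.mp (Subgroup.mem_inf.mp hz).2 b (hAC hb))
      exact fun a ha => (Subgroup.mem_centralizer_iff.mp (hle hx) a ha).symm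
    have hxC : x ∈ C := ⟨hsupW hx, hcA, hxp, fun y => by
      have h := inv_mem (hxc y)
      rwa [show (y * x * y⁻¹ * x⁻¹)⁻¹ = x * y * x⁻¹ * y⁻¹ by group] at h⟩
    rw [Subgroup.mem_sup_of_normal_left] at hx
    obtain ⟨a, ha, z, hz, rfl⟩ := hx
    have hzC : z ∈ C := (mul_mem_cancel_left (hAC ha)).mp hxC
    -- `A` and the centre of `C` form an invariant abelian subgroup
    set K := C ⊓ Zc with hK
    have hKle : K ≤ A := by
      refine hAmax (y := A ⊔ K) ⟨sup_le hAW (inf_le_right.trans inf_le_left), fun γ hγ u hu => ?_, ?_⟩ le_sup_left |> le_sup_right.trans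
      · refine (sup_le (fun v hv => Subgroup.mem_sup_left (hAinv γ hγ v hv))
          (fun v hv => Subgroup.mem_sup_right (Subgroup.mem_inf.mpr ⟨hCinv γ hγ v (Subgroup.mem_inf.mp hv).1,
            hZinv γ hγ v (Subgroup.mem_inf.mp hv).2⟩)) : A ⊔ K ≤ (A ⊔ K).comap (γ : MulAut P).toMonoidHom) hu
      · rw [show A ⊔ K = Subgroup.closure ((A : Set P) ∪ K) by
          rw [Subgroup.closure_union, Subgroup.closure_eq, Subgroup.closure_eq]]
        refine Subgroup.isMulCommutative_closure ?_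
        have hKc : ∀ k ∈ K, ∀ c ∈ C, c * k = k * c := fun k hk c hc =>
          Subgroup.mem_centralizer_iff.mp (Subgroup.mem_inf.mp (Subgroup.mem_inf.mp hk).2).2 c hc
        rintro u (hu | hu) v (hv | hv)
        · exact hAcomm u hu v hv
        · exact hKc v hv u (hAC hu)
        · exact (hKc u hu v (hAC hv)).symm
        · exact hKc v hv u (Subgroup.mem_inf.mp hu).1
    exact hxA (mul_mem ha (hKle (Subgroup.mem_inf.mpr ⟨hzC, hz⟩)))
  have hCcomm : ∀ u ∈ C, ∀ v ∈ C, Commute (u * v * u⁻¹ * v⁻¹) u ∧ Commute (u * v * u⁻¹ * v⁻¹) v :=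
    fun u hu v hv => ⟨(hu.2.1 _ (hu.2.2.2 v)).symm, (hv.2.1 _ (hu.2.2.2 v)).symm⟩
  -- commutators in `C` have order dividing `p`
  have hcp : ∀ u ∈ C, ∀ v ∈ C, (u * v * u⁻¹ * v⁻¹) ^ p = 1 := by
    intro u hu v hv
    have hu' := (hCcomm u hu v hv).1
    have hv' := (hCcomm u hu v hv).2
    have h1 : (v * u * v⁻¹) ^ p = u ^ p := by
      rw [conj_pow, hv.2.1 _ hu.2.2.1, mul_inv_cancel_right]
    have e : v * u * v⁻¹ = (u * v * u⁻¹ * v⁻¹)⁻¹ * u := by group
    rw [e, hu'.inv_left.mul_pow, mul_eq_right, inv_pow, inv_eq_one] at h1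
    exact h1
  let D : Subgroup P :=
    { carrier := {c | c ∈ C ∧ (c ^ p = 1 ∨ (p = 2 ∧ c ^ 4 = 1))}
      one_mem' := ⟨one_mem _, Or.inl (one_pow p)⟩
      mul_mem' := fun {u v} hu hv => ⟨mul_mem hu.1 hv.1, by
        obtain ⟨hc1, hc2⟩ := hCcomm u hu.1 v hv.1
        have hc := hcp u hu.1 v hv.1
        have hpw := fun n => Cfsg.Agent.Coprime.OmegaDetect.mul_pow_central (x := v) (y := u)
          (c := (u * v * u⁻¹ * v⁻¹)⁻¹) (by rw [(hc1.mul_right hc2).inv_left.symm.eq]; group)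
          hc2.inv_left hc1.inv_left n
        by_cases hp2 : p = 2
        · subst hp2
          refine Or.inr ⟨rfl, ?_⟩
          have h4 : ∀ w : P, (w ^ 2 = 1 ∨ (2 = 2 ∧ w ^ 4 = 1)) → w ^ 4 = 1 := fun w hw => by
            rcases hw with h | ⟨-, h⟩
            · rw [show 4 = 2 * 2 from rfl, pow_mul, h, one_pow]
            · exact h
          rw [hpw 4, h4 u hu.2, h4 v hv.2, show Nat.choose 4 2 = 2 * 3 from rfl, pow_mul, inv_pow, hc,
            inv_one, one_pow, mul_one, mul_one]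
        · left
          obtain ⟨m, hm⟩ := hp.dvd_choose_self (k := 2) two_ne_zero (lt_of_le_of_ne hp.two_le (Ne.symm hp2))
          rw [hpw p, hu.2.resolve_right (fun h => hp2 h.1), hv.2.resolve_right (fun h => hp2 h.1),
            hm, pow_mul, inv_pow, hc, inv_one, one_pow, mul_one, mul_one]⟩
      inv_mem' := fun {u} hu => ⟨inv_mem hu.1, by
        rcases hu.2 with h | ⟨h2, h⟩
        · exact Or.inl (by rw [inv_pow, h, inv_one])
        · exact Or.inr ⟨h2, by rw [inv_pow, h, inv_one]⟩⟩ }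
  have hDinv : ∀ γ ∈ G, ∀ d ∈ D, γ d ∈ D := fun γ hγ d hd => ⟨hCinv γ hγ d hd.1, by
    rcases hd.2 with h | ⟨h2, h⟩
    · exact Or.inl (by rw [← map_pow, h, map_one])
    · exact Or.inr ⟨h2, by rw [← map_pow, h, map_one]⟩⟩
  have hDn := hnorm D hDinv
  have hdetect : ∀ α ∈ G, (orderOf α).Coprime p → (∀ d ∈ D, α d = d) → α = 1 := by
    intro α hα hαo hfix
    have hC := fix_of_fix_small hP α hαo C (fun c hc => hCinv α hα c hc) (fun c hc h => hfix c ⟨hc, h⟩)
    have hWfix : ∀ w ∈ W, α w = w := fun w hw => by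
      refine fix_of_fix_diff hP α hαo w (hC _ (hAC (hCC _ (mul_mem (inv_mem hw) (hWinv α hα w hw)) ?_)))
      intro c hc
      have hcn : w * c * w⁻¹ ∈ C := hCinv _ (hconj w) c hc
      have h := hC _ hcn
      rw [map_mul, map_mul, map_inv, hC c hc] at h
      calc w⁻¹ * α w * c = w⁻¹ * (α w * c * (α w)⁻¹) * α w := by group
        _ = w⁻¹ * (w * c * w⁻¹) * α w := by rw [h]
        _ = c * (w⁻¹ * α w) := by group
    refine MulEquiv.ext fun x => fix_of_fix_diff hP α hαo x (hWfix _ (Subgroup.subset_closure ?_))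
    refine ⟨⟨α, hα⟩, Cfsg.Agent.Transfer.NormalPComplement.mem_pResidual_of_coprime ?_, x, rfl⟩
    rwa [Subgroup.orderOf_mk]
  refine ⟨D, fun α hα => ?_, fun d hd => hd.1.1, fun d hd => hd.2, ?_, hdetect, ?_⟩
  · refine Subgroup.eq_of_le_of_card_ge ?_ (Subgroup.card_map_of_injective (MulEquiv.injective α)).ge
    rintro _ ⟨d, hd, rfl⟩
    exact hDinv α hα d hd
  · rw [Subgroup.commutator_le]
    intro d hd y _
    rw [commutatorElement_def]
    refine Subgroup.mem_inf.mpr ⟨?_, fun e he => (he.1.2.1 _ (hd.1.2.2.2 y))⟩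
    rw [show d * y * d⁻¹ * y⁻¹ = d * (y * d⁻¹ * y⁻¹) by group]
    exact mul_mem hd (hDn.conj_mem _ (inv_mem hd) y)
  intro M hMD hMc hMmax
  have hMcomm : ∀ a ∈ M, ∀ b ∈ M, a * b = b * a := fun a ha b hb =>
    congrArg Subtype.val (hMc.is_comm.comm ⟨a, ha⟩ ⟨b, hb⟩)
  have habsorb : ∀ d ∈ D, (∀ a ∈ M, d * a = a * d) → d ∈ M := by
    intro d hd hdc
    have h := hMmax (M ⊔ Subgroup.zpowers d) le_sup_left (sup_le hMD (Subgroup.zpowers_le.mpr hd)) (by
      rw [show M ⊔ Subgroup.zpowers d = Subgroup.closure ((M : Set P) ∪ {d}) by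
        rw [Subgroup.closure_union, Subgroup.closure_eq, Subgroup.zpowers_eq_closure]]
      refine Subgroup.isMulCommutative_closure ?_
      rintro a (ha | ha) b (hb | hb)
      · exact hMcomm a ha b hb
      · rw [Set.mem_singleton_iff.mp hb]; exact (hdc a ha).symm
      · rw [Set.mem_singleton_iff.mp ha]; exact hdc b hb
      · rw [Set.mem_singleton_iff.mp ha, Set.mem_singleton_iff.mp hb])
    rw [← h]
    exact Subgroup.mem_sup_right (Subgroup.mem_zpowers d)
  have hMn : M.Normal := ⟨fun a ha y => by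
    have h1 : y * a * y⁻¹ * a⁻¹ ∈ M := by
      have h2 := inv_mem ((hMD ha).1.2.2.2 y)
      rw [show (a * y * a⁻¹ * y⁻¹)⁻¹ = y * a * y⁻¹ * a⁻¹ by group] at h2
      exact habsorb _ (mul_mem (hDn.conj_mem _ (hMD ha) y) (inv_mem (hMD ha)))
        fun b hb => ((hMD hb).1.2.1 _ h2).symm
    have h3 := mul_mem h1 ha
    rwa [inv_mul_cancel_right] at h3⟩
  refine ⟨hMn, fun α hα hfix => ?_⟩
  obtain ⟨k, m, hm, he⟩ := Nat.exists_eq_pow_mul_and_not_dvd (orderOf_pos α).ne' p hp.ne_one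
  refine ⟨k, ?_⟩
  set β := α ^ p ^ k with hβ
  have hβG : β ∈ G := pow_mem hα _
  have hβo : orderOf β = m := by
    rw [hβ, orderOf_pow, he, Nat.gcd_eq_right (Dvd.intro m rfl), Nat.mul_div_cancel_left _ (pow_pos hp.pos k)]
  have hβfix : ∀ a ∈ M, β a = a := fun a ha => by
    have : ∀ n : ℕ, (α ^ n) a = a := fun n => by
      induction n with
      | zero => rfl
      | succ n ih => rw [pow_succ', MulAut.mul_apply, ih, hfix a ha]
    exact this _
  have hcop : (orderOf β).Coprime p := by rw [hβo]; exact (hp.coprime_iff_not_dvd.mpr hm).symm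
  have hone := hdetect β hβG hcop fun d hd => by
    refine fix_of_fix_diff hP β hcop d (hβfix _ (habsorb _ (mul_mem (inv_mem hd) (hDinv β hβG d hd)) ?_))
    intro a ha
    have h := hβfix _ (hMn.conj_mem a ha d)
    rw [map_mul, map_mul, map_inv, hβfix a ha] at h
    calc d⁻¹ * β d * a = d⁻¹ * (β d * a * (β d)⁻¹) * β d := by group
      _ = d⁻¹ * (d * a * d⁻¹) * β d := by rw [h]
      _ = a * (d⁻¹ * β d) := by group
  rw [hone, orderOf_one] at hβo
  rw [he, ← hβo, mul_one]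

end Cfsg.Agent.S1949
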