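import Cfsg.Statements.S1952
import Mathlib

set_option autoImplicit false
open Cfsg

namespace Cfsg.Agent.S1952

theorem exists_coords_module {p : ℕ} [Fact p.Prime] {V : Type*} [AddCommGroup V] [Module (ZMod p) V]
    (σ : Module.End (ZMod p) V) (hσ : σ ^ p = 1) (v : V)
    (hv : (∑ i ∈ Finset.range p, σ ^ i) v ≠ 0) :
    ∃ l : V →ₗ[ZMod p] ZMod p, Function.Surjective l ∧
      Function.Surjective (fun a (i : Fin p) => l ((σ ^ (i : ℕ)) a)) := by
  classical
  have hp := (Fact.out : p.Prime)
  set δ := σ - 1 with hδ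
  have hδp : δ ^ p = 0 := by
    have h : ((Polynomial.X : Polynomial (ZMod p)) - 1) ^ p = Polynomial.X ^ p - 1 := by
      rw [sub_pow_char, one_pow]
    have := congrArg (Polynomial.aeval σ) h
    simpa [hδ, hσ] using this
  have hnorm : δ ^ (p - 1) = ∑ i ∈ Finset.range p, σ ^ i := by
    have h : ((Polynomial.X : Polynomial (ZMod p)) - 1) ^ (p - 1) =
        ∑ i ∈ Finset.range p, Polynomial.X ^ i := by
      refine mul_right_cancel₀ (Polynomial.X_sub_C_ne_zero (1 : ZMod p)) ?_
      rw [map_one, geom_sum_mul, ← pow_succ, Nat.sub_add_cancel hp.one_le, sub_pow_char, one_pow]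
    have := congrArg (Polynomial.aeval σ) h
    simpa [hδ, map_sum] using this
  rw [← hnorm] at hv
  obtain ⟨l, hl⟩ : ∃ l : V →ₗ[ZMod p] ZMod p, l ((δ ^ (p - 1)) v) ≠ 0 := by
    by_contra h
    push Not at h
    exact hv ((Module.forall_dual_apply_eq_zero_iff (ZMod p) _).mp h)
  refine ⟨l, fun b => ⟨(b * (l ((δ ^ (p - 1)) v))⁻¹) • (δ ^ (p - 1)) v, by
    rw [map_smul, smul_eq_mul, mul_assoc, inv_mul_cancel₀ hl, mul_one]⟩, ?_⟩
  let Φ : V →ₗ[ZMod p] (Fin p → ZMod p) := LinearMap.pi fun i => l.comp (δ ^ (i : ℕ))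
  let Ψ : V →ₗ[ZMod p] (Fin p → ZMod p) := LinearMap.pi fun i => l.comp (σ ^ (i : ℕ))
  have hΦ : Function.Surjective Φ := by
    have hli : LinearIndependent (ZMod p) fun j : Fin p => Φ ((δ ^ (j : ℕ)) v) := by
      rw [Fintype.linearIndependent_iff]
      intro g hg j
      induction hj : (j : ℕ) using Nat.strongRecOn generalizing j with
      | ind n ih =>
        subst hj
        have hi : p - 1 - (j : ℕ) < p := by omega
        have h1 := congrFun hg ⟨p - 1 - (j : ℕ), hi⟩
        simp only [Finset.sum_apply, Pi.smul_apply, Pi.zero_apply] at h1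
        rw [Finset.sum_eq_single j] at h1
        · have e : Φ ((δ ^ (j : ℕ)) v) ⟨p - 1 - (j : ℕ), hi⟩ = l ((δ ^ (p - 1)) v) := by
            show l ((δ ^ (p - 1 - (j : ℕ))) ((δ ^ (j : ℕ)) v)) = _
            rw [← Module.End.mul_apply, ← pow_add, Nat.sub_add_cancel (by omega)]
          rw [e, smul_eq_zero] at h1
          exact h1.resolve_right hl
        · intro k _ hkj
          rcases lt_or_gt_of_ne (Fin.val_injective.ne hkj) with hlt | hgt
          · rw [ih k hlt k rfl, zero_smul]
          · have e : Φ ((δ ^ (k : ℕ)) v) ⟨p - 1 - (j : ℕ), hi⟩ = 0 := by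
              show l ((δ ^ (p - 1 - (j : ℕ))) ((δ ^ (k : ℕ)) v)) = _
              rw [← Module.End.mul_apply, ← pow_add,
                show p - 1 - (j : ℕ) + (k : ℕ) = (p - 1 - (j : ℕ) + (k : ℕ) - p) + p by omega,
                pow_add, hδp, mul_zero, LinearMap.zero_apply, map_zero]
            rw [e, smul_zero]
        · simp
    have htop := hli.span_eq_top_of_card_eq_finrank (by simp)
    rw [← LinearMap.range_eq_top, eq_top_iff, ← htop, Submodule.span_le]
    rintro _ ⟨j, rfl⟩
    exact ⟨_, rfl⟩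
  show Function.Surjective Ψ
  let T : (Fin p → ZMod p) →ₗ[ZMod p] (Fin p → ZMod p) := LinearMap.pi fun i =>
    ∑ k : Fin p, ((((Polynomial.X : Polynomial (ZMod p)) - 1) ^ (i : ℕ)).coeff (k : ℕ)) •
      LinearMap.proj k
  have hT : ∀ a, T (Ψ a) = Φ a := by
    intro a
    funext i
    set f := ((Polynomial.X : Polynomial (ZMod p)) - 1) ^ (i : ℕ) with hf
    have hdeg : f.natDegree < p := by
      rw [hf, Polynomial.natDegree_pow, ← map_one Polynomial.C, Polynomial.natDegree_X_sub_C, mul_one]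
      exact i.2
    have h2 : δ ^ (i : ℕ) = ∑ k ∈ Finset.range p, f.coeff k • σ ^ k := by
      rw [← Polynomial.aeval_eq_sum_range' hdeg]
      simp [hf, hδ]
    show T (Ψ a) i = l ((δ ^ (i : ℕ)) a)
    rw [h2, Finset.sum_range fun k => f.coeff k • σ ^ k]
    simp [T, Ψ, hf]
  have hTs : Function.Surjective T := fun b => by
    obtain ⟨a, ha⟩ := hΦ b
    exact ⟨Ψ a, (hT a).trans ha⟩
  have hTi := Finite.injective_iff_surjective.mpr hTs
  intro b
  obtain ⟨a, ha⟩ := hΦ (T b)
  exact ⟨a, hTi ((hT a).trans ha)⟩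

theorem exists_coords {p : ℕ} [Fact p.Prime] {V : Type*} [AddCommGroup V] (h : ∀ a : V, p • a = 0)
    (τ : AddMonoid.End V) (hτ : τ ^ p = 1) (v : V) (hv : (∑ i ∈ Finset.range p, τ ^ i) v ≠ 0) :
    ∃ l : V →+ ZMod p, Function.Surjective l ∧
      Function.Surjective (fun a (i : Fin p) => l ((τ ^ (i : ℕ)) a)) := by
  let inst : Module (ZMod p) V := AddCommGroup.zmodModule (n := p) h
  let σ : @LinearMap _ _ _ _ (RingHom.id (ZMod p)) V V _ _ inst inst :=
    AddMonoidHom.toZModLinearMap p τ
  have hpow : ∀ (k : ℕ) (a : V), (σ ^ k : @Module.End (ZMod p) V _ _ inst) a = (τ ^ k) a := by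
    intro k
    induction k with
    | zero => intro a; simp
    | succ k ih =>
      intro a
      rw [pow_succ', pow_succ']
      show σ _ = τ _
      rw [ih]
      rfl
  obtain ⟨l, hl, hs⟩ := @exists_coords_module p _ V _ inst σ
    (LinearMap.ext fun a => by rw [hpow, hτ]; rfl) v (by
      rw [LinearMap.sum_apply]
      simp only [hpow]
      exact fun h0 => hv ((AddMonoidHom.finsetSum_apply _ _ _).trans h0))
  refine ⟨l.toAddMonoidHom, hl, fun b => ?_⟩
  obtain ⟨a, ha⟩ := hs b
  exact ⟨a, funext fun i => by rw [← congrFun ha i]; show l _ = l _; rw [hpow]⟩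

/-- Let P be a finite p-group with a normal elementary abelian subgroup A of index p, and let x ∈ A and y ∈ P with y outside A. If the product of the p conjugates y^(-i) x y^i (i = 0, …, p−1) is not the identity, then the wreath product Z_p ≀ Z_p, realised as a Sylow p-subgroup of the symmetric group of degree p², is a homomorphic image of P. -/
theorem result {P : Type*} [Group P] [Finite P] {p : ℕ} [Fact p.Prime] (hP : IsPGroup p P) (A : Subgroup P) [A.Normal]
    (hA : Cfsg.IsElementaryAbelian p A) (hidx : A.index = p) (x y : P) (hx : x ∈ A) (hy : y ∉ A)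
    (hprod : ((List.range p).map (fun i => (y ^ i)⁻¹ * x * y ^ i)).prod ≠ 1) :
    ∃ (Q : Sylow p (Equiv.Perm (Fin (p ^ 2)))) (f : P →* ↥(Q : Subgroup (Equiv.Perm (Fin (p ^ 2))))), Function.Surjective f := by
  classical
  have hp := (Fact.out : p.Prime)
  have hcA' : ∀ a b : ↥A, a * b = b * a := hA.1.is_comm.comm
  have hcA : ∀ a b : ↥A, (a : P) * b = b * a := fun a b => congrArg Subtype.val (hcA' a b)
  let : CommGroup ↥A := { (inferInstance : Group ↥A) with mul_comm := hcA' }
  let τ : AddMonoid.End (Additive ↥A) :=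
    MonoidHom.toAdditive ((MulAut.conjNormal (H := A) y⁻¹).toMonoidHom)
  have hσ : ∀ (i : ℕ) (a : Additive ↥A),
      ((Additive.toMul ((τ ^ i) a) : ↥A) : P) = (y ^ i)⁻¹ * (Additive.toMul a : ↥A) * y ^ i := by
    intro i
    induction i with
    | zero => intro a; simp
    | succ i ih =>
      intro a
      rw [pow_succ']
      show ((MulAut.conjNormal (H := A) y⁻¹ (Additive.toMul ((τ ^ i) a)) : ↥A) : P) = _
      rw [MulAut.conjNormal_apply, ih, pow_succ y]
      group
  have hV : ∀ a : Additive ↥A, p • a = 0 := by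
    intro a
    apply Additive.toMul.injective
    exact Subtype.ext (by simpa using hA.2 (Additive.toMul a : ↥A) (Additive.toMul a : ↥A).2)
  have hτp : τ ^ p = 1 := by
    refine AddMonoidHom.ext fun a => ?_
    apply Additive.toMul.injective
    apply Subtype.ext
    show ((Additive.toMul ((τ ^ p) a) : ↥A) : P) = _
    rw [hσ]
    have hyA : y ^ p ∈ A := hidx ▸ A.pow_index_mem y
    rw [← hcA (Additive.toMul a) ⟨_, inv_mem hyA⟩, inv_mul_cancel_right]
    rfl
  obtain ⟨l, hl, hΦ⟩ := exists_coords hV τ hτp (Additive.ofMul ⟨x, hx⟩) (by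
    intro h0
    apply hprod
    have hprodn : ∀ n : ℕ, ((List.range n).map fun i => (y ^ i)⁻¹ * x * y ^ i).prod =
        ((Additive.toMul (∑ i ∈ Finset.range n, (τ ^ i) (Additive.ofMul (⟨x, hx⟩ : ↥A))) : ↥A) : P) := by
      intro n
      induction n with
      | zero => simp
      | succ n ih =>
        rw [List.range_succ, List.map_append, List.prod_append, ih, Finset.sum_range_succ, toMul_add,
          Subgroup.coe_mul, hσ]
        simp
    rw [hprodn, show ∑ i ∈ Finset.range p, (τ ^ i) (Additive.ofMul (⟨x, hx⟩ : ↥A)) = 0 from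
      (AddMonoidHom.finsetSum_apply _ _ _).symm.trans h0]
    rfl)
  set L : ↥A →* Multiplicative (ZMod p) := AddMonoidHom.toMultiplicativeRight l with hL
  set K := L.ker.map A.subtype with hK
  let g : ↥A →* Multiplicative (Fin p → ZMod p) :=
    AddMonoidHom.toMultiplicativeRight (AddMonoidHom.pi fun i : Fin p => l.comp (τ ^ (i : ℕ)))
  -- the permutation representation
  have hKi : K.index = p ^ 2 := by
    rw [hK, Subgroup.index_map_subtype, hidx, sq]
    congr 1
    rw [Subgroup.index_ker, MonoidHom.range_eq_top.mpr fun b => by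
      obtain ⟨a, ha⟩ := hl b.toAdd
      exact ⟨Additive.toMul a, congrArg Multiplicative.ofAdd ha⟩]
    rw [Nat.card_congr Subgroup.topEquiv.toEquiv, Nat.card_congr Multiplicative.toAdd, Nat.card_zmod]
  let e : P ⧸ K ≃ Fin (p ^ 2) := Finite.equivFinOfCardEq hKi
  let f : P →* Equiv.Perm (Fin (p ^ 2)) :=
    (Equiv.permCongrHom e).toMonoidHom.comp (MulAction.toPermHom P (P ⧸ K))
  have hker : f.ker ≤ g.ker.map A.subtype := by
    intro a ha
    have ha' : a ∈ K.normalCore := by
      rw [Subgroup.normalCore_eq_ker, MonoidHom.mem_ker]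
      rw [MonoidHom.mem_ker] at ha
      apply (Equiv.permCongrHom e).injective
      rw [map_one]; exact ha
    have hmem : ∀ g : P, g * a * g⁻¹ ∈ K := ha'
    obtain ⟨⟨a', ha'A⟩, haL, rfl⟩ := K.normalCore_le ha'
    refine ⟨⟨a', ha'A⟩, ?_, rfl⟩
    rw [SetLike.mem_coe, MonoidHom.mem_ker]
    apply Multiplicative.toAdd.injective
    funext i
    obtain ⟨b, hb, hbe⟩ := hmem (y ^ (i : ℕ))⁻¹
    have : b = Additive.toMul ((τ ^ (i : ℕ)) (Additive.ofMul (⟨a', ha'A⟩ : ↥A))) := by
      apply Subtype.ext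
      rw [hσ]
      simpa using hbe
    rw [this] at hb
    exact Multiplicative.ofAdd.injective hb
  obtain ⟨Q, hQ⟩ := ((hP.of_surjective f.rangeRestrict f.rangeRestrict_surjective) :
    IsPGroup p f.range).exists_le_sylow
  have hQc : Nat.card (Q : Subgroup (Equiv.Perm (Fin (p ^ 2)))) = p ^ (p + 1) := by
    rw [Q.card_eq_multiplicity, Nat.card_perm, Nat.card_fin, Nat.factorization_def _ hp, sq,
      padicValNat_factorial_mul]
    have : padicValNat p p.factorial = 1 := by
      have := padicValNat_factorial_mul (p := p) 1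
      simpa using this
    rw [this, add_comm]
  have heq : f.range = (Q : Subgroup (Equiv.Perm (Fin (p ^ 2)))) := by
    refine Subgroup.eq_of_le_of_card_ge hQ ?_
    rw [hQc, ← Subgroup.index_ker]
    refine le_trans (le_of_eq ?_) (Nat.le_of_dvd (Nat.pos_of_ne_zero Subgroup.index_ne_zero_of_finite)
      (Subgroup.index_dvd_of_le hker))
    rw [Subgroup.index_map_subtype, hidx, pow_succ]
    congr 1
    rw [Subgroup.index_ker, MonoidHom.range_eq_top.mpr fun b => by
      obtain ⟨a, ha⟩ := hΦ b.toAdd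
      exact ⟨Additive.toMul a, congrArg Multiplicative.ofAdd ha⟩,
      Nat.card_congr Subgroup.topEquiv.toEquiv, Nat.card_congr Multiplicative.toAdd]
    simp
  refine ⟨Q, f.codRestrict _ fun a => heq ▸ ⟨a, rfl⟩, fun q => ?_⟩
  obtain ⟨a, ha⟩ : (q : Equiv.Perm (Fin (p ^ 2))) ∈ f.range := by rw [heq]; exact q.2
  exact ⟨a, Subtype.ext ha⟩

end Cfsg.Agent.S1952
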