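import Cfsg.Statements.S1954
import Cfsg.Agent.Lib.Coprime.OmegaDetect
import Cfsg.Agent.Lib.Cores.Subnormal
import Cfsg.Agent.Lib.Fusion.Saturation
import Mathlib

set_option autoImplicit false
open Cfsg
open scoped Pointwise

namespace Cfsg.Agent.S1954

section aux

open scoped commutatorElement Pointwise

variable {G : Type*} [Group G]

/-- The lower central series of a subgroup, inside the ambient group. -/
def series (W : Subgroup G) : ℕ → Subgroup G
  | 0 => W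
  | i + 1 => ⁅series W i, W⁆

theorem conj_mem_series (W : Subgroup G) {h : G} (hh : h ∈ Subgroup.normalizer (W : Set G)) :
    ∀ i, ∀ w ∈ series W i, h * w * h⁻¹ ∈ series W i := by
  intro i
  induction i with
  | zero => exact fun w hw => (Subgroup.mem_normalizer_iff.mp hh w).mp hw
  | succ i ih =>
    have hle : series W (i + 1) ≤ (series W (i + 1)).comap (MulAut.conj h).toMonoidHom := by
      show ⁅series W i, W⁆ ≤ _
      rw [Subgroup.commutator_le]
      intro a ha b hb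
      show h * ⁅a, b⁆ * h⁻¹ ∈ series W (i + 1)
      have hb' := (Subgroup.mem_normalizer_iff.mp hh b).mp hb
      have := Subgroup.commutator_mem_commutator (ih a ha) hb'
      rw [commutatorElement_def] at this ⊢
      rwa [show h * (a * b * a⁻¹ * b⁻¹) * h⁻¹ =
        h * a * h⁻¹ * (h * b * h⁻¹) * (h * a * h⁻¹)⁻¹ * (h * b * h⁻¹)⁻¹ by group]
    exact fun w hw => hle hw

theorem series_succ_le (W : Subgroup G) (i : ℕ) : series W (i + 1) ≤ series W i := by
  show ⁅series W i, W⁆ ≤ _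
  rw [Subgroup.commutator_le]
  intro a ha b hb
  have h := conj_mem_series W (Subgroup.le_normalizer hb) i a⁻¹ (inv_mem ha)
  rw [commutatorElement_def, show a * b * a⁻¹ * b⁻¹ = a * (b * a⁻¹ * b⁻¹) by group]
  exact mul_mem ha h

theorem series_eq_map (W : Subgroup G) :
    ∀ i, series W i = ((⊤ : Subgroup ↥W).lowerCentralSeries i).map W.subtype := by
  intro i
  induction i with
  | zero => rw [Subgroup.lowerCentralSeries_zero, ← MonoidHom.range_eq_map, Subgroup.range_subtype]; rfl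
  | succ i ih =>
    show ⁅series W i, W⁆ = _
    rw [Subgroup.lowerCentralSeries_succ, Subgroup.map_commutator, ← ih, ← MonoidHom.range_eq_map,
      Subgroup.range_subtype]

variable [Finite G]

/-- Elements normalizing `A` and stabilizing the chain cut out by the series of `W`. -/
def stabMonoid (W A : Subgroup G) : Submonoid G :=
  { carrier := {n | (∀ a ∈ A, n * a * n⁻¹ ∈ A) ∧ (∀ a ∈ A, n * a * n⁻¹ * a⁻¹ ∈ W) ∧
      ∀ i, ∀ a ∈ A, a ∈ series W i → n * a * n⁻¹ * a⁻¹ ∈ series W (i + 1)}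
    one_mem' := ⟨fun a ha => by simpa using ha, fun a _ => by simp, fun i a _ _ => by simp⟩
    mul_mem' := fun {u v} hu hv => by
      have e : ∀ a : G, u * v * a * (u * v)⁻¹ * a⁻¹ =
          (u * (v * a * v⁻¹) * u⁻¹ * (v * a * v⁻¹)⁻¹) * (v * a * v⁻¹ * a⁻¹) := fun a => by group
      refine ⟨fun a ha => ?_, fun a ha => ?_, fun i a ha hai => ?_⟩
      · rw [show u * v * a * (u * v)⁻¹ = u * (v * a * v⁻¹) * u⁻¹ by group]
        exact hu.1 _ (hv.1 a ha)
      · rw [e]; exact mul_mem (hu.2.1 _ (hv.1 a ha)) (hv.2.1 a ha)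
      · rw [e]
        refine mul_mem (hu.2.2 i _ (hv.1 a ha) ?_) (hv.2.2 i a ha hai)
        have := mul_mem (series_succ_le W i (hv.2.2 i a ha hai)) hai
        rwa [inv_mul_cancel_right] at this }

/-- `stabMonoid` as a subgroup. -/
def stab (W A : Subgroup G) : Subgroup G :=
  { stabMonoid W A with
    inv_mem' := fun {x} hx => by
      have h : x ^ (orderOf x - 1) * x = 1 := by
        rw [← pow_succ, Nat.sub_add_cancel (orderOf_pos x), pow_orderOf_eq_one]
      rw [← eq_inv_of_mul_eq_one_left h]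
      exact (stabMonoid W A).pow_mem hx _ }

theorem mem_stab {W A : Subgroup G} {n : G} : n ∈ stab W A ↔ (∀ a ∈ A, n * a * n⁻¹ ∈ A) ∧
    (∀ a ∈ A, n * a * n⁻¹ * a⁻¹ ∈ W) ∧
      ∀ i, ∀ a ∈ A, a ∈ series W i → n * a * n⁻¹ * a⁻¹ ∈ series W (i + 1) := Iff.rfl

theorem mem_stab_of_centralizer {W A : Subgroup G} {c : G} (hc : ∀ a ∈ A, c * a * c⁻¹ = a) :
    c ∈ stab W A := by
  rw [mem_stab]
  refine ⟨fun a ha => by rwa [hc a ha], fun a ha => ?_, fun i a ha _ => ?_⟩ <;>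
    rw [hc a ha, mul_inv_cancel] <;> exact one_mem _

theorem mem_stab_of_mem {W A : Subgroup G} (hA : A ≤ Subgroup.normalizer (W : Set G)) {w : G}
    (hw : w ∈ W) (hwA : ∀ a ∈ A, w * a * w⁻¹ ∈ A) : w ∈ stab W A := by
  rw [mem_stab]
  refine ⟨hwA, fun a ha => ?_, fun i a _ hai => ?_⟩
  · rw [show w * a * w⁻¹ * a⁻¹ = w * (a * w⁻¹ * a⁻¹) by group]
    exact mul_mem hw ((Subgroup.mem_normalizer_iff.mp (hA ha) _).mp (inv_mem hw))
  · have := inv_mem (Subgroup.commutator_mem_commutator hai hw : ⁅a, w⁆ ∈ series W (i + 1))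
    rw [commutatorElement_def] at this
    rwa [show (a * w * a⁻¹ * w⁻¹)⁻¹ = w * a * w⁻¹ * a⁻¹ by group] at this

/-- A normal `p`-closed statement: `stab W A` acts on `A` as a `p`-group. -/
theorem exists_conj_into_sylow {p : ℕ} [Fact p.Prime] {W A : Subgroup G} (hW : IsPGroup p W)
    (hA : IsPGroup p A) (T : Sylow p ↥(stab W A)) {R : Subgroup G} (hR : IsPGroup p R)
    (hRK : R ≤ stab W A) :
    ∃ c : G, (∀ a ∈ A, c * a * c⁻¹ = a) ∧
      ∀ r ∈ R, c * r * c⁻¹ ∈ (T : Subgroup ↥(stab W A)).map (stab W A).subtype := by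
  have hp := (Fact.out : p.Prime)
  set C := (Subgroup.centralizer (A : Set G)).subgroupOf (stab W A) with hC
  have hCn : C.Normal := ⟨fun c hc k => by
    rw [hC, Subgroup.mem_subgroupOf, Subgroup.mem_centralizer_iff] at hc ⊢
    intro a ha
    have hk := (mem_stab.mp (inv_mem k.2)).1 a ha
    rw [inv_inv] at hk
    have h1 := hc _ hk
    simp only [Subgroup.coe_mul, Subgroup.coe_inv]
    calc a * ((k : G) * c * (k : G)⁻¹) = (k : G) * (((k : G)⁻¹ * a * k) * c) * (k : G)⁻¹ := by group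
      _ = (k : G) * (c * ((k : G)⁻¹ * a * k)) * (k : G)⁻¹ := by rw [h1]
      _ = _ := by group⟩
  -- every element of order prime to `p` in `(stab W A)` centralizes `A`
  have hcoprime : ∀ g : G, g ∈ (stab W A) → (orderOf g).Coprime p → g ∈ Subgroup.centralizer (A : Set G) := by
    intro g hg ho
    have hgA : g ∈ Subgroup.normalizer (A : Set G) :=
      by
        rw [Subgroup.mem_normalizer_iff]
        intro x
        refine ⟨(mem_stab.mp hg).1 x, fun hx => ?_⟩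
        have := (mem_stab.mp (inv_mem hg)).1 _ hx
        rwa [show g⁻¹ * (g * x * g⁻¹) * g⁻¹⁻¹ = x by group] at this
    have : Group.IsNilpotent ↥W := hW.isNilpotent
    obtain ⟨m, hm⟩ := Subgroup.nilpotent_iff_lowerCentralSeries.mp this
    let L : ℕ → Subgroup G := fun i => match i with | 0 => ⊤ | j + 1 => series W j
    refine Cfsg.Agent.Coprime.OmegaDetect.mem_centralizer_of_descent ho L (m + 1)
      (show series W m = ⊥ by rw [series_eq_map, hm, Subgroup.map_bot]) hA hgA le_top ?_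
    intro i a ha hai _
    cases i with
    | zero => exact (mem_stab.mp hg).2.1 a ha
    | succ i => exact (mem_stab.mp hg).2.2 i a ha hai
  have hsup : (T : Subgroup ↥(stab W A)) ⊔ C = ⊤ := by
    rw [← Subgroup.index_eq_one]
    have hq : IsPGroup p (↥(stab W A) ⧸ C) := by
      intro x
      induction x using QuotientGroup.induction_on with
      | H k =>
        obtain ⟨e, m, hm, he⟩ := Nat.exists_eq_pow_mul_and_not_dvd (orderOf_pos k).ne' p hp.ne_one
        refine ⟨e, ?_⟩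
        rw [← QuotientGroup.mk_pow, QuotientGroup.eq_one_iff, hC, Subgroup.mem_subgroupOf]
        refine hcoprime _ (k ^ p ^ e).2 ?_
        rw [Subgroup.orderOf_coe, orderOf_pow, he, Nat.gcd_eq_right (Dvd.intro m rfl),
          Nat.mul_div_cancel_left _ (pow_pos hp.pos e)]
        exact (hp.coprime_iff_not_dvd.mpr hm).symm
    obtain ⟨e, he⟩ := IsPGroup.iff_card.mp hq
    have h1 : ((T : Subgroup ↥(stab W A)) ⊔ C).index ∣ p ^ e := by
      rw [← he]
      exact Subgroup.index_dvd_of_le le_sup_right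
    obtain ⟨j, -, hj⟩ := (Nat.dvd_prime_pow hp).mp h1
    rcases Nat.eq_zero_or_pos j with rfl | hj0
    · rw [hj, pow_zero]
    · exact absurd ((dvd_pow_self p hj0.ne').trans (hj ▸ Subgroup.index_dvd_of_le le_sup_left))
        T.not_dvd_index
  obtain ⟨k, hk⟩ := Cfsg.Agent.Fusion.Saturation.exists_conj_le_sylow T
    (hR.comap_subtype (K := stab W A))
  obtain ⟨t, ht, c, hc, rfl⟩ := Subgroup.mem_sup_of_normal_right.mp (hsup ▸ Subgroup.mem_top k)
  refine ⟨(c : G), fun a ha => ?_, fun r hr => ?_⟩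
  · rw [hC, Subgroup.mem_subgroupOf, Subgroup.mem_centralizer_iff] at hc
    rw [← hc a ha, mul_inv_cancel_right]
  · refine ⟨t⁻¹ * (t * c * ⟨r, hRK hr⟩ * (t * c)⁻¹) * t, mul_mem (mul_mem (inv_mem ht)
      (hk ⟨r, hRK hr⟩ hr)) ht, ?_⟩
    simp
    group

end aux

/-- Let N be a normal subgroup of the finite group G, P a Sylow p-subgroup of G, and V a subgroup of P ∩ N normal in P ∩ N such that N_N(V) controls strong fusion in P ∩ N with respect to N (whenever a subgroup A of P ∩ N has n A n⁻¹ ≤ P ∩ N for some n in N, then n = h c with h in N_N(V) and c in C_N(A)). Let W be the subgroup generated by the conjugates of V under N_G(P ∩ N). Then N_G(W) controls strong fusion in P with respect to G. -/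
theorem result {G : Type*} [Group G] [Finite G] {p : ℕ} [Fact p.Prime] (N : Subgroup G) [N.Normal] (P : Sylow p G) (V : Subgroup G)
    (hV : V ≤ (P : Subgroup G) ⊓ N) (hVn : ∀ x ∈ (P : Subgroup G) ⊓ N, V.map (MulAut.conj x).toMonoidHom = V)
    (hctrl : ∀ A : Subgroup G, A ≤ (P : Subgroup G) ⊓ N → ∀ n ∈ N, A.map (MulAut.conj n).toMonoidHom ≤ (P : Subgroup G) ⊓ N →
      ∃ h ∈ N ⊓ Subgroup.normalizer (V : Set G), ∃ c ∈ N ⊓ Subgroup.centralizer (A : Set G), n = h * c)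
    (W : Subgroup G) (hW : W = Subgroup.closure (⋃ x ∈ Subgroup.normalizer (((P : Subgroup G) ⊓ N : Subgroup G) : Set G),
      ((V.map (MulAut.conj x).toMonoidHom : Subgroup G) : Set G))) :
    ∀ A : Subgroup G, A ≤ (P : Subgroup G) → ∀ g : G, A.map (MulAut.conj g).toMonoidHom ≤ (P : Subgroup G) →
        ∃ h ∈ Subgroup.normalizer (W : Set G), ∃ c ∈ Subgroup.centralizer (A : Set G), g = h * c := by
  classical
  have hp := (Fact.out : p.Prime)
  set S : Subgroup G := (P : Subgroup G) ⊓ N with hSdef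
  have hSp : IsPGroup p S := P.2.to_le inf_le_left
  have hNn : ∀ n ∈ N, ∀ g : G, g * n * g⁻¹ ∈ N := fun n hn g => ‹N.Normal›.conj_mem n hn g
  set X := Subgroup.normalizer (S : Set G) with hX
  have hconjS : ∀ x ∈ X, ∀ s ∈ S, x * s * x⁻¹ ∈ S := fun x hx s hs =>
    (Subgroup.mem_normalizer_iff.mp hx s).mp hs
  have hPX : (P : Subgroup G) ≤ X := by
    intro u hu
    rw [hX, Subgroup.mem_normalizer_iff]
    intro s
    constructor
    · exact fun hs => Subgroup.mem_inf.mpr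
        ⟨mul_mem (mul_mem hu (Subgroup.mem_inf.mp hs).1) (inv_mem hu), hNn s hs.2 u⟩
    · intro hs
      have e : s = u⁻¹ * (u * s * u⁻¹) * u⁻¹⁻¹ := by group
      rw [e]
      exact Subgroup.mem_inf.mpr ⟨mul_mem (mul_mem (inv_mem hu) (Subgroup.mem_inf.mp hs).1)
        (inv_mem (inv_mem hu)), hNn _ hs.2 _⟩
  -- `W` is inside `S`, and normalized by the normalizer of `S`
  have hVW : ∀ x ∈ X, ∀ v ∈ V, x * v * x⁻¹ ∈ W := fun x hx v hv => by
    rw [hW]
    refine Subgroup.subset_closure ?_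
    simp only [Set.mem_iUnion, SetLike.mem_coe, Subgroup.mem_map]
    exact ⟨x, hx, v, hv, rfl⟩
  have hWle : ∀ U : Subgroup G, (∀ x ∈ X, ∀ v ∈ V, x * v * x⁻¹ ∈ U) → W ≤ U := fun U hU => by
    rw [hW, Subgroup.closure_le]
    intro z hz
    simp only [Set.mem_iUnion, SetLike.mem_coe, Subgroup.mem_map] at hz
    obtain ⟨x, hx, v, hv, rfl⟩ := hz
    exact hU x hx v hv
  have hWS : W ≤ S := hWle S fun x hx v hv => hconjS x hx v (hV hv)
  have hWp : IsPGroup p W := hSp.to_le hWS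
  have hXW : X ≤ Subgroup.normalizer (W : Set G) := by
    have h1 : ∀ x ∈ X, ∀ w ∈ W, x * w * x⁻¹ ∈ W := fun x hx w hw =>
      hWle (W.comap (MulAut.conj x).toMonoidHom) (fun y hy v hv => by
        show x * (y * v * y⁻¹) * x⁻¹ ∈ W
        rw [show x * (y * v * y⁻¹) * x⁻¹ = x * y * v * (x * y)⁻¹ by group]
        exact hVW _ (mul_mem hx hy) v hv) hw
    intro x hx
    rw [Subgroup.mem_normalizer_iff]
    intro w
    refine ⟨h1 x hx w, fun hw => ?_⟩
    have := h1 _ (inv_mem hx) _ hw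
    rwa [show x⁻¹ * (x * w * x⁻¹) * x⁻¹⁻¹ = w by group] at this
  -- the fusion of `N` in `S`
  have hmulti : ∀ F : Finset ↥X, ∀ A : Subgroup G, A ≤ S → ∀ n ∈ N, (∀ a ∈ A, n * a * n⁻¹ ∈ S) →
      ∃ h ∈ N, (∀ x ∈ F, ∀ v ∈ V, h * ((x : G) * v * (x : G)⁻¹) * h⁻¹ ∈
          V.map (MulAut.conj (x : G)).toMonoidHom) ∧
        ∃ c ∈ N, (∀ a ∈ A, c * a * c⁻¹ = a) ∧ n = h * c := by
    intro F
    induction F using Finset.induction_on with
    | empty => exact fun A _ n hn _ => ⟨n, hn, by simp, 1, one_mem _, by simp, by simp⟩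
    | @insert x F _ ih =>
      intro A hA n hn hnA
      obtain ⟨h, hhN, hhF, c, hcN, hcA, rfl⟩ := ih A hA n hn hnA
      set A' : Subgroup G := A ⊔ ⨆ y ∈ F, V.map (MulAut.conj (y : G)).toMonoidHom with hA'
      have hxF : ∀ y ∈ F, ∀ v ∈ V, (y : G) * v * (y : G)⁻¹ ∈ A' := fun y hy v hv =>
        Subgroup.mem_sup_right (Subgroup.mem_iSup_of_mem y (Subgroup.mem_iSup_of_mem hy ⟨v, hv, rfl⟩))
      have hA'S : A' ≤ S := sup_le hA (iSup₂_le fun y _ => by
        rintro _ ⟨v, hv, rfl⟩; exact hconjS _ y.2 v (hV hv))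
      have hA'h : A' ≤ S.comap (MulAut.conj h).toMonoidHom := by
        refine sup_le (fun a ha => ?_) (iSup₂_le fun y hy => ?_)
        · show h * a * h⁻¹ ∈ S
          have := hnA a ha
          rwa [show h * c * a * (h * c)⁻¹ = h * (c * a * c⁻¹) * h⁻¹ by group, hcA a ha] at this
        · rintro _ ⟨v, hv, rfl⟩
          show h * ((y : G) * v * (y : G)⁻¹) * h⁻¹ ∈ S
          obtain ⟨v', hv', he⟩ := hhF y hy v hv
          rw [← he]
          exact hconjS _ y.2 v' (hV hv')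
      -- move by `x`
      have h1 : A'.map (MulAut.conj (x : G)⁻¹).toMonoidHom ≤ (P : Subgroup G) ⊓ N := by
        rintro _ ⟨a, ha, rfl⟩; exact hconjS _ (inv_mem x.2) a (hA'S ha)
      have h2 : (A'.map (MulAut.conj (x : G)⁻¹).toMonoidHom).map
          (MulAut.conj ((x : G)⁻¹ * h * x)).toMonoidHom ≤ (P : Subgroup G) ⊓ N := by
        rintro _ ⟨_, ⟨a, ha, rfl⟩, rfl⟩
        show (x : G)⁻¹ * h * x * ((x : G)⁻¹ * a * (x : G)⁻¹⁻¹) * ((x : G)⁻¹ * h * x)⁻¹ ∈ S
        rw [show (x : G)⁻¹ * h * x * ((x : G)⁻¹ * a * (x : G)⁻¹⁻¹) * ((x : G)⁻¹ * h * x)⁻¹ =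
          (x : G)⁻¹ * (h * a * h⁻¹) * (x : G)⁻¹⁻¹ by group]
        exact hconjS _ (inv_mem x.2) _ (hA'h ha)
      have hn' : (x : G)⁻¹ * h * x ∈ N := by simpa using hNn h hhN (x : G)⁻¹
      obtain ⟨h', hh', c', hc', he⟩ := hctrl _ h1 _ hn' h2
      have hc'' : ∀ a ∈ A', (x : G) * c' * (x : G)⁻¹ * a * ((x : G) * c' * (x : G)⁻¹)⁻¹ = a := by
        intro a ha
        have := Subgroup.mem_centralizer_iff.mp hc'.2 ((x : G)⁻¹ * a * x)
          ⟨a, ha, by simp⟩
        calc (x : G) * c' * (x : G)⁻¹ * a * ((x : G) * c' * (x : G)⁻¹)⁻¹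
            = (x : G) * (c' * ((x : G)⁻¹ * a * x)) * c'⁻¹ * (x : G)⁻¹ := by group
          _ = (x : G) * (((x : G)⁻¹ * a * x) * c') * c'⁻¹ * (x : G)⁻¹ := by rw [this]
          _ = a := by group
      have heq : h = (x : G) * h' * (x : G)⁻¹ * ((x : G) * c' * (x : G)⁻¹) := by
        rw [show (x : G) * h' * (x : G)⁻¹ * ((x : G) * c' * (x : G)⁻¹) =
          (x : G) * (h' * c') * (x : G)⁻¹ by group, ← he]
        group
      refine ⟨(x : G) * h' * (x : G)⁻¹, hNn _ hh'.1 _, ?_,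
        (x : G) * c' * (x : G)⁻¹ * c, mul_mem (hNn _ hc'.1 _) hcN, ?_, by rw [← mul_assoc, ← heq]⟩
      · intro y hy v hv
        rcases Finset.mem_insert.mp hy with rfl | hy
        · refine ⟨h' * v * h'⁻¹, (Subgroup.mem_normalizer_iff.mp hh'.2 v).mp hv, ?_⟩
          simp [mul_assoc]
        · have := hhF y hy v hv
          rw [heq, show (x : G) * h' * (x : G)⁻¹ * ((x : G) * c' * (x : G)⁻¹) *
              ((y : G) * v * (y : G)⁻¹) * ((x : G) * h' * (x : G)⁻¹ * ((x : G) * c' * (x : G)⁻¹))⁻¹ =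
              (x : G) * h' * (x : G)⁻¹ * (((x : G) * c' * (x : G)⁻¹) *
              ((y : G) * v * (y : G)⁻¹) * ((x : G) * c' * (x : G)⁻¹)⁻¹) *
              ((x : G) * h' * (x : G)⁻¹)⁻¹ by group, hc'' _ (hxF y hy v hv)] at this
          exact this
      · intro a ha
        rw [show (x : G) * c' * (x : G)⁻¹ * c * a * ((x : G) * c' * (x : G)⁻¹ * c)⁻¹ =
          (x : G) * c' * (x : G)⁻¹ * (c * a * c⁻¹) * ((x : G) * c' * (x : G)⁻¹)⁻¹ by group, hcA a ha]
        exact hc'' a (Subgroup.mem_sup_left ha)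
  -- Frattini
  have hfrat : ∀ g : G, ∃ n ∈ N, g * n⁻¹ ∈ X := by
    intro g
    have hT := Cfsg.Agent.Cores.sylow_subgroupOf_isSubnormal P (Subgroup.Normal.isSubnormal ‹N.Normal›)
    let T : Sylow p ↥N := (P.2.comap_subtype (K := N)).toSylow hT
    have htop := Sylow.normalizer_sup_eq_top (N := N) T
    have hmap : ((T : Subgroup ↥N).map N.subtype) = S := by
      show ((P : Subgroup G).subgroupOf N).map N.subtype = S
      rw [Subgroup.subgroupOf_map_subtype]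
    rw [hmap] at htop
    obtain ⟨u, hu, n, hn, e⟩ := Subgroup.mem_sup_of_normal_right.mp (htop ▸ Subgroup.mem_top g)
    refine ⟨n, hn, ?_⟩
    rw [← e, mul_inv_cancel_right]
    exact hu
  -- the terms of the series are strongly closed
  have hclosed : ∀ i, ∀ g : G, ∀ w ∈ series W i, g * w * g⁻¹ ∈ (P : Subgroup G) →
      g * w * g⁻¹ ∈ series W i := by
    intro i g w hw hgw
    have hwW : w ∈ W := by
      have : ∀ j, series W j ≤ W := fun j => by
        induction j with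
        | zero => exact le_rfl
        | succ j ih => exact (series_succ_le W j).trans ih
      exact this i hw
    obtain ⟨n, hn, hx⟩ := hfrat g
    set x := g * n⁻¹
    have hgS : g * w * g⁻¹ ∈ S := ⟨hgw, hNn w (hWS hwW).2 g⟩
    have hnS : n * w * n⁻¹ ∈ S := by
      have := hconjS _ (inv_mem hx) _ hgS
      rwa [show x⁻¹ * (g * w * g⁻¹) * x⁻¹⁻¹ = n * w * n⁻¹ by simp only [x]; group] at this
    have := Fintype.ofFinite ↥X
    obtain ⟨h, -, hhX, c, -, hcw, rfl⟩ := hmulti Finset.univ (Subgroup.zpowers w)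
      (by rw [Subgroup.zpowers_le]; exact hWS hwW) n hn (fun a ha => by
        obtain ⟨k, rfl⟩ := Subgroup.mem_zpowers_iff.mp ha
        rw [← conj_zpow]; exact zpow_mem hnS k)
    have hhW : h ∈ Subgroup.normalizer (W : Set G) := by
      refine Subgroup.mem_normalizer_fintype fun w' hw' => ?_
      refine hWle (W.comap (MulAut.conj h).toMonoidHom) (fun y hy v hv => ?_) hw'
      obtain ⟨v', hv', e⟩ := hhX ⟨y, hy⟩ (Finset.mem_univ _) v hv
      show h * (y * v * y⁻¹) * h⁻¹ ∈ W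
      rw [← e]
      exact hVW y hy v' hv'
    rw [show g * w * g⁻¹ = x * (h * (c * w * c⁻¹) * h⁻¹) * x⁻¹ by simp only [x]; group,
      hcw w (Subgroup.mem_zpowers w)]
    exact conj_mem_series W (hXW hx) i _ (conj_mem_series W hhW i w hw)
  -- the induction
  suffices main : ∀ A : Subgroup G, A ≤ (P : Subgroup G) → ∀ g : G,
      (∀ a ∈ A, g * a * g⁻¹ ∈ (P : Subgroup G)) →
      ∃ h ∈ Subgroup.normalizer (W : Set G), ∃ c : G, (∀ a ∈ A, c * a * c⁻¹ = a) ∧ g = h * c by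
    intro A hA g hg
    obtain ⟨h, hh, c, hc, e⟩ := main A hA g fun a ha => hg ⟨a, ha, rfl⟩
    exact ⟨h, hh, c, Subgroup.mem_centralizer_iff.mpr fun a ha => by
      conv_lhs => rw [← hc a ha]
      group, e⟩
  intro A
  induction hn : Nat.card G - Nat.card A using Nat.strongRecOn generalizing A with
  | ind n ih =>
  subst hn
  intro hA g hg
  have hih : ∀ A' : Subgroup G, Nat.card A < Nat.card A' → A' ≤ (P : Subgroup G) → ∀ g : G,
      (∀ a ∈ A', g * a * g⁻¹ ∈ (P : Subgroup G)) →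
      ∃ h ∈ Subgroup.normalizer (W : Set G), ∃ c : G, (∀ a ∈ A', c * a * c⁻¹ = a) ∧ g = h * c :=
    fun A' hlt => ih _ (by have := Subgroup.card_le_card_group A'; omega) A' rfl
  have card_lt : ∀ {A B : Subgroup G}, A < B → Nat.card A < Nat.card B := fun {A B} h =>
    lt_of_not_ge fun h' => h.ne (Subgroup.eq_of_le_of_card_ge h.le h')
  have hAW : A ≤ Subgroup.normalizer (W : Set G) := hA.trans (hPX.trans hXW)
  by_cases hWA : W ≤ A
  · refine ⟨g, Subgroup.mem_normalizer_fintype fun w hw => hclosed 0 g w hw (hg w (hWA hw)), 1,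
      by simp, (mul_one g).symm⟩
  -- strict growth
  have grow : ∀ A : Subgroup G, A ≤ (P : Subgroup G) → ¬ W ≤ A →
      A < A ⊔ (W ⊓ Subgroup.normalizer (A : Set G)) := by
    intro A hA hWA
    refine lt_of_le_of_ne le_sup_left fun e => ?_
    have hAW : A ≤ Subgroup.normalizer (W : Set G) := hA.trans (hPX.trans hXW)
    have hlt : A < A ⊔ W := lt_of_le_of_ne le_sup_left fun e' => hWA (e' ▸ le_sup_right)
    obtain ⟨z, ⟨hz, hzn⟩, hzA⟩ := Cfsg.Agent.Fusion.Saturation.exists_mem_normalizer_not_mem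
      (P.2.to_le (sup_le hA (hWS.trans inf_le_left))) hlt
    have hz' : z ∈ ((A : Set G) * (W : Set G)) := by
      rw [← Subgroup.coe_mul_of_left_le_normalizer_right A W hAW]
      exact hz
    obtain ⟨a, ha, w, hw, rfl⟩ := hz'
    have hwn : w ∈ Subgroup.normalizer (A : Set G) := by
      have := mul_mem (inv_mem (Subgroup.le_normalizer ha)) hzn
      rwa [inv_mul_cancel_left] at this
    apply hzA
    exact mul_mem ha (by rw [e]; exact Subgroup.mem_sup_right ⟨hw, hwn⟩)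
  set B := A.map (MulAut.conj g).toMonoidHom with hB
  have hBP : B ≤ (P : Subgroup G) := by rintro _ ⟨a, ha, rfl⟩; exact hg a ha
  have hBW : B ≤ Subgroup.normalizer (W : Set G) := hBP.trans (hPX.trans hXW)
  have hWB : ¬ W ≤ B := by
    intro hle
    apply hWA
    intro w hw
    obtain ⟨a, ha, e⟩ := hle hw
    have e' : g⁻¹ * w * g⁻¹⁻¹ = a := by rw [← e]; simp [mul_assoc]
    have := hclosed 0 g⁻¹ w hw (e' ▸ hA ha)
    have hinj : Nat.card (W.map (MulAut.conj g⁻¹).toMonoidHom : Subgroup G) = Nat.card W :=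
      Subgroup.card_map_of_injective (MulAut.conj g⁻¹).injective
    have hle' : W.map (MulAut.conj g⁻¹).toMonoidHom ≤ W ⊓ A := by
      rintro _ ⟨u, hu, rfl⟩
      obtain ⟨a', ha', e1⟩ := hle hu
      have e2 : g⁻¹ * u * g⁻¹⁻¹ = a' := by rw [← e1]; simp [mul_assoc]
      show g⁻¹ * u * g⁻¹⁻¹ ∈ W ⊓ A
      exact ⟨hclosed 0 g⁻¹ u hu (e2 ▸ hA ha'), e2 ▸ ha'⟩
    have := Subgroup.eq_of_le_of_card_ge (hle'.trans inf_le_left) hinj.ge
    rw [← this] at hw
    exact (hle' hw).2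
  obtain ⟨T⟩ := (inferInstance : Nonempty (Sylow p ↥(stab W B)))
  set K := stab W B
  set R₁ := (W ⊓ Subgroup.normalizer (A : Set G)).map (MulAut.conj g).toMonoidHom
  set R₂ := W ⊓ Subgroup.normalizer (B : Set G)
  have hR₂ : R₂ ≤ K := fun w hw => mem_stab_of_mem hBW hw.1
    fun b hb => (Subgroup.mem_normalizer_iff.mp hw.2 b).mp hb
  have hR₁ : R₁ ≤ K := by
    rintro _ ⟨w, hw, rfl⟩
    show g * w * g⁻¹ ∈ K
    obtain ⟨s1, s2, s3⟩ := mem_stab.mp (mem_stab_of_mem hAW hw.1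
      fun a ha => (Subgroup.mem_normalizer_iff.mp hw.2 a).mp ha)
    have e : ∀ a : G, g * w * g⁻¹ * (g * a * g⁻¹) * (g * w * g⁻¹)⁻¹ = g * (w * a * w⁻¹) * g⁻¹ :=
      fun a => by group
    have e' : ∀ a : G, g * w * g⁻¹ * (g * a * g⁻¹) * (g * w * g⁻¹)⁻¹ * (g * a * g⁻¹)⁻¹ =
        g * (w * a * w⁻¹ * a⁻¹) * g⁻¹ := fun a => by group
    have hP' : ∀ a ∈ A, g * (w * a * w⁻¹ * a⁻¹) * g⁻¹ ∈ (P : Subgroup G) := fun a ha => by
      rw [← e', e]; exact mul_mem (hg _ (s1 a ha)) (inv_mem (hg a ha))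
    rw [mem_stab]
    refine ⟨?_, ?_, ?_⟩
    · rintro _ ⟨a, ha, rfl⟩; exact ⟨_, s1 a ha, (e a).symm⟩
    · rintro _ ⟨a, ha, rfl⟩
      show g * w * g⁻¹ * (g * a * g⁻¹) * (g * w * g⁻¹)⁻¹ * (g * a * g⁻¹)⁻¹ ∈ W
      rw [e']
      exact hclosed 0 g _ (s2 a ha) (hP' a ha)
    · rintro i _ ⟨a, ha, rfl⟩ hai
      show g * w * g⁻¹ * (g * a * g⁻¹) * (g * w * g⁻¹)⁻¹ * (g * a * g⁻¹)⁻¹ ∈ series W (i + 1)
      rw [e']
      refine hclosed _ g _ (s3 i a ha ?_) (hP' a ha)
      have := hclosed i g⁻¹ _ hai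
      simp only [MulEquiv.coe_toMonoidHom, MulAut.conj_apply] at this
      rw [show g⁻¹ * (g * a * g⁻¹) * g⁻¹⁻¹ = a by group] at this
      exact this (hA ha)
  have hBp : IsPGroup p B := P.2.to_le hBP
  obtain ⟨c₁, hc₁, hc₁T⟩ := exists_conj_into_sylow hWp hBp T
    ((hWp.to_le (inf_le_left : W ⊓ Subgroup.normalizer (A : Set G) ≤ W)).map _) hR₁
  obtain ⟨c₂, hc₂, hc₂T⟩ := exists_conj_into_sylow hWp hBp T (hWp.to_le inf_le_left) hR₂
  -- a `p`-group containing `B` and `T`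
  set T' := (T : Subgroup ↥K).map K.subtype with hT'
  have hT'N : T' ≤ Subgroup.normalizer (B : Set G) := by
    rintro _ ⟨t, -, rfl⟩
    exact Subgroup.mem_normalizer_fintype fun b hb => (mem_stab.mp t.2).1 b hb
  obtain ⟨y, hy⟩ := Cfsg.Agent.Fusion.Saturation.exists_conj_le_sylow P
    (sup_comm T' B ▸ IsPGroup.to_sup_of_normal_right' (T.2.map K.subtype) hBp hT'N :
      IsPGroup p (B ⊔ T' : Subgroup G))
  have hyB : ∀ b ∈ B, y * b * y⁻¹ ∈ (P : Subgroup G) := fun b hb => hy b (Subgroup.mem_sup_left hb)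
  have hyT : ∀ t ∈ T', y * t * y⁻¹ ∈ (P : Subgroup G) := fun t ht => hy t (Subgroup.mem_sup_right ht)
  have hext : ∀ (A : Subgroup G) (g : G), A ≤ (P : Subgroup G) → (∀ a ∈ A, g * a * g⁻¹ ∈ B) →
      ∀ c : G, (∀ b ∈ B, c * b * c⁻¹ = b) →
      (∀ w ∈ W ⊓ Subgroup.normalizer (A : Set G), c * (g * w * g⁻¹) * c⁻¹ ∈ T') →
      ∀ a ∈ A ⊔ (W ⊓ Subgroup.normalizer (A : Set G)),
        (y * c * g) * a * (y * c * g)⁻¹ ∈ (P : Subgroup G) := by
    intro A g _ hgB c hc hcT a ha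
    refine (sup_le (fun a ha => ?_) (fun w hw => ?_) :
      A ⊔ (W ⊓ Subgroup.normalizer (A : Set G)) ≤
        (P : Subgroup G).comap (MulAut.conj (y * c * g)).toMonoidHom) ha
    · show y * c * g * a * (y * c * g)⁻¹ ∈ (P : Subgroup G)
      rw [show y * c * g * a * (y * c * g)⁻¹ = y * (c * (g * a * g⁻¹) * c⁻¹) * y⁻¹ by group,
        hc _ (hgB a ha)]
      exact hyB _ (hgB a ha)
    · show y * c * g * w * (y * c * g)⁻¹ ∈ (P : Subgroup G)
      rw [show y * c * g * w * (y * c * g)⁻¹ = y * (c * (g * w * g⁻¹) * c⁻¹) * y⁻¹ by group]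
      exact hyT _ (hcT w hw)
  have hAin : ∀ a ∈ A, g * a * g⁻¹ ∈ B := fun a ha => ⟨a, ha, rfl⟩
  obtain ⟨h₁, hh₁, d₁, hd₁, he₁⟩ := hih _ (card_lt (grow A hA hWA))
    (sup_le hA (inf_le_left.trans (hWS.trans inf_le_left))) (y * c₁ * g)
    (hext A g hA hAin c₁ hc₁ fun w hw => hc₁T _ ⟨w, hw, rfl⟩)
  have hcard : Nat.card B = Nat.card A := Subgroup.card_map_of_injective (MulAut.conj g).injective
  obtain ⟨h₂, hh₂, d₂, hd₂, he₂⟩ := hih _ (hcard ▸ card_lt (grow B hBP hWB))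
    (sup_le hBP (inf_le_left.trans (hWS.trans inf_le_left))) (y * c₂ * 1)
    (hext B 1 hBP (by simp) c₂ hc₂ fun w hw => by simpa using hc₂T w hw)
  rw [mul_one] at he₂
  set e := c₁⁻¹ * c₂ * d₂⁻¹ with he
  have hinv : ∀ {c b : G}, c * b * c⁻¹ = b → c⁻¹ * b * c⁻¹⁻¹ = b := fun {c b} h => by
    conv_lhs => rw [← h]
    group
  have heB : ∀ b ∈ B, e * b * e⁻¹ = b := fun b hb => by
    rw [he, show c₁⁻¹ * c₂ * d₂⁻¹ * b * (c₁⁻¹ * c₂ * d₂⁻¹)⁻¹ =
      c₁⁻¹ * (c₂ * (d₂⁻¹ * b * d₂⁻¹⁻¹) * c₂⁻¹) * c₁⁻¹⁻¹ by group,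
      hinv (hd₂ b (Subgroup.mem_sup_left hb)), hc₂ b hb, hinv (hc₁ b hb)]
  have hge : g = e * (h₂⁻¹ * h₁) * d₁ := by
    have : g = c₁⁻¹ * y⁻¹ * (y * c₁ * g) := by group
    rw [this, he₁, show y = h₂ * d₂ * c₂⁻¹ by rw [← he₂]; group, he]
    group
  refine ⟨h₂⁻¹ * h₁, mul_mem (inv_mem hh₂) hh₁, (h₂⁻¹ * h₁)⁻¹ * e * (h₂⁻¹ * h₁) * d₁, fun a ha => ?_,
    by rw [hge]; group⟩
  set h := h₂⁻¹ * h₁
  have hd := hd₁ a (Subgroup.mem_sup_left ha)
  have hga : e⁻¹ * (g * a * g⁻¹) * e⁻¹⁻¹ = h * a * h⁻¹ := by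
    rw [hge, show e⁻¹ * (e * h * d₁ * a * (e * h * d₁)⁻¹) * e⁻¹⁻¹ = h * (d₁ * a * d₁⁻¹) * h⁻¹ by
      group, hd]
  have hha : h * a * h⁻¹ = g * a * g⁻¹ := by rw [← hga, hinv (heB _ (hAin a ha))]
  calc h⁻¹ * e * h * d₁ * a * (h⁻¹ * e * h * d₁)⁻¹
      = h⁻¹ * (e * (h * (d₁ * a * d₁⁻¹) * h⁻¹) * e⁻¹) * h := by group
    _ = h⁻¹ * (g * a * g⁻¹) * h := by rw [hd, hha, heB _ (hAin a ha)]
    _ = a := by rw [← hha]; group

end Cfsg.Agent.S1954
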