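import Cfsg.Statements.S1956
import Mathlib
import Cfsg.Agent.Techniques.Sylow

set_option autoImplicit false
open Cfsg

namespace Cfsg.Agent.S1956

/-- Let P be a Sylow p-subgroup of the finite group G such that every element of P of order dividing p (dividing 4 when p = 2) is central in P. Then the fusion of these elements is controlled by N_G(P): if such an element a of P has g a g⁻¹ in P, then g = n c with n normalizing P and c commuting with a. -/
theorem result {G : Type*} [Group G] [Finite G] {p : ℕ} [Fact p.Prime] (P : Sylow p G)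
    (hcen : ∀ a ∈ (P : Subgroup G), (a ^ p = 1 ∨ (p = 2 ∧ a ^ 4 = 1)) → ∀ y ∈ (P : Subgroup G), a * y = y * a) :
    ∀ a ∈ (P : Subgroup G), (a ^ p = 1 ∨ (p = 2 ∧ a ^ 4 = 1)) → ∀ g : G, g * a * g⁻¹ ∈ (P : Subgroup G) →
      ∃ n ∈ Subgroup.normalizer ((P : Subgroup G) : Set G), ∃ c : G, c * a = a * c ∧ g = n * c := by
  intro a ha haord g hga
  have hcast : (g * a * g⁻¹) ^ p = 1 ∨ (p = 2 ∧ (g * a * g⁻¹) ^ 4 = 1) := by
    rw [conj_pow, conj_pow]
    rcases haord with h | ⟨h2, h⟩
    · exact Or.inl (by rw [h, mul_one, mul_inv_cancel])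
    · exact Or.inr ⟨h2, by rw [h, mul_one, mul_inv_cancel]⟩
  set C := Subgroup.centralizer ({a} : Set G) with hC
  have hP : (P : Subgroup G) ≤ C := fun y hy => Subgroup.mem_centralizer_singleton_iff.mpr (hcen a ha haord y hy).symm
  have hPg : (P : Subgroup G).map (MulAut.conj g⁻¹).toMonoidHom ≤ C := by
    rw [Techniques.map_conj_le_iff]
    intro y hy
    rw [hC, Subgroup.mem_centralizer_singleton_iff]
    have h := hcen _ hga hcast y hy
    calc g⁻¹ * y * g⁻¹⁻¹ * a = g⁻¹ * (y * (g * a * g⁻¹)) * g := by group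
      _ = _ := by rw [← h]; group
  have hidx : ¬ p ∣ (P : Subgroup G).relIndex C := fun h =>
    P.not_dvd_index (h.trans (Subgroup.relIndex_dvd_index_of_le hP))
  obtain ⟨c, hc, hcP⟩ := Techniques.exists_conj_le_of_not_dvd_relIndex hP P.2 hidx (P.2.map _) hPg
  have hn : c * g⁻¹ ∈ Subgroup.normalizer ((P : Subgroup G) : Set G) := by
    rw [← Subgroup.inv_mem_iff]
    have hle : (P : Subgroup G).map (MulAut.conj (c * g⁻¹)).toMonoidHom ≤ P := by
      rw [← Techniques.map_conj_conj, Techniques.map_conj_le_iff]; exact hcP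
    have heq : (P : Subgroup G).map (MulAut.conj (c * g⁻¹)).toMonoidHom = P :=
      Subgroup.eq_of_le_of_card_ge hle (Subgroup.card_map_of_injective (MulAut.conj _).injective).ge
    rw [Subgroup.mem_normalizer_iff]
    intro y
    conv_lhs => rw [← SetLike.mem_coe, ← heq, SetLike.mem_coe, Techniques.mem_map_conj]
    simp only [inv_inv]
  refine ⟨(c * g⁻¹)⁻¹, Subgroup.inv_mem _ hn, c, Subgroup.mem_centralizer_singleton_iff.mp hc, by group⟩

end Cfsg.Agent.S1956
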