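import Cfsg.Statements.S1966
import Cfsg.Agent.Techniques.Functor.ConjFamily
import Cfsg.Agent.Lib.PLocal.Cores

set_option autoImplicit false
open Cfsg

namespace Cfsg.Agent.S1966

/-- Let p be a prime, G a finite group with Sylow p-subgroup S and 𝓕 a conjugation family for S in G. Then the members of 𝓕 containing O_p(G) still form a conjugation family for S in G. -/
theorem result {G : Type*} [Group G] [Finite G] {p : ℕ} [Fact p.Prime] (S : Sylow p G) (𝓕 : Set (Subgroup G)) (h : Cfsg.IsConjugationFamily 𝓕 (S : Subgroup G)) : Cfsg.IsConjugationFamily {T : Subgroup G | T ∈ 𝓕 ∧ Cfsg.pCore p G ≤ T} (S : Subgroup G) := by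
  refine ⟨fun T hT => h.1 T hT.1, fun A g hne hA hg => ?_⟩
  have hn : (Cfsg.pCore p G).Normal := Cfsg.Agent.PLocal.Cores.pCore_normal'
  have hc : ∀ x : G, (fun a => x⁻¹ * a * x) '' (Cfsg.pCore p G : Set G) = (Cfsg.pCore p G : Set G) := by
    intro x
    ext y
    simp only [Set.mem_image, SetLike.mem_coe]
    refine ⟨?_, fun hy => ⟨x * y * x⁻¹, hn.conj_mem y hy x, by group⟩⟩
    rintro ⟨a, ha, rfl⟩
    simpa using hn.conj_mem a ha x⁻¹
  have hQS : (Cfsg.pCore p G : Set G) ⊆ (S : Subgroup G) := Cfsg.Agent.PLocal.Cores.pCore_le_sylow S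
  obtain ⟨n, T, x, h1, h2, h3, h4, h5⟩ := h.2 (A ∪ (Cfsg.pCore p G : Set G)) g hne.inl
    (Set.union_subset hA hQS) (by rw [Set.image_union, hc]; exact Set.union_subset hg hQS)
  refine ⟨n, T, x, h1, fun i => ⟨h2 i, ?_⟩, h3, fun h0 => Set.subset_union_left.trans (h4 h0),
    fun i hi => (Set.image_mono Set.subset_union_left).trans (h5 i hi)⟩
  rcases i with ⟨j, hj⟩
  cases j with
  | zero => exact Set.subset_union_right.trans (h4 hj)
  | succ k =>
    have h6 := (Set.image_mono Set.subset_union_right).trans (h5 ⟨k, by omega⟩ hj)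
    rw [hc] at h6
    exact h6

end Cfsg.Agent.S1966
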