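import Cfsg.Statements.S1967
import Cfsg.Agent.Techniques.Functor.Control

set_option autoImplicit false
open Cfsg

namespace Cfsg.Agent.S1967

/-- Let p be a prime, G a finite group with Sylow p-subgroup S and W a conjugacy functor for p on G. Then W controls strong fusion in G if and only if, whenever T ≤ S and g ∈ G satisfy gTg⁻¹ ≤ S, one can write g = n c with n ∈ N_G(W(S)) and c ∈ C_G(T). -/
theorem result {G : Type*} [Group G] [Finite G] {p : ℕ} [Fact p.Prime] (S : Sylow p G) (W : Subgroup G → Subgroup G) (hW : Cfsg.IsConjugacyFunctor p W) : Cfsg.ControlsStrongFusionIn p W ⊤ ↔ ∀ (T : Subgroup G) (g : G), T ≤ (S : Subgroup G) → T.map (MulAut.conj g).toMonoidHom ≤ (S : Subgroup G) → ∃ n ∈ Subgroup.normalizer ((W (S : Subgroup G) : Subgroup G) : Set G), ∃ c ∈ Subgroup.centralizer (T : Set G), g = n * c := by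
  constructor
  · intro h T g hT hg
    rw [Cfsg.Agent.Techniques.Functor.controls_iff_family] at h
    have h1 := Cfsg.Agent.Techniques.Functor.fusionCtl_of_familyControls
      (by rintro w rfl; exact hW) (Cfsg.Agent.Fusion.SylIn.of_sylow S) h
    have h2 := h1 (T : Set G) g (Subgroup.mem_top g) hT
      (by rw [Cfsg.Agent.Techniques.Functor.cimg_subgroup]; exact hg)
    rw [Cfsg.Agent.Techniques.Functor.steps_singleton] at h2
    obtain ⟨n, hn, he⟩ := h2.exists_mem
    refine ⟨n, (Subgroup.mem_inf.mp hn).2, n⁻¹ * g, Subgroup.mem_centralizer_iff.mpr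
      fun a ha => ?_, by group⟩
    calc a * (n⁻¹ * g) = n⁻¹ * (n * a * n⁻¹) * g := by group
      _ = n⁻¹ * (g * a * g⁻¹) * g := by rw [he a ha]
      _ = n⁻¹ * g * a := by group
  · intro h
    refine ⟨S, le_top, S.2, by rw [Subgroup.relIndex_top_right]; exact S.not_dvd_index,
      fun A g _ hA hg => ?_⟩
    obtain ⟨n, hn, c, hc, rfl⟩ := h (Subgroup.closure A) g ((Subgroup.closure_le _).mpr hA)
      (Cfsg.Agent.Techniques.Functor.map_closure_le hg)
    refine ⟨n, Subgroup.mem_inf.mpr ⟨Subgroup.mem_top n, hn⟩, fun a ha => ?_⟩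
    have h1 := Subgroup.mem_centralizer_iff.mp hc a (Subgroup.subset_closure ha)
    calc n * a * n⁻¹ = n * (a * c) * c⁻¹ * n⁻¹ := by group
      _ = n * c * a * (n * c)⁻¹ := by rw [h1]; group

end Cfsg.Agent.S1967
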