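import Cfsg.Agent.Base.RecEqns
import Cfsg.Statements.S1981
import Cfsg.Agent.Techniques.KSeq

set_option autoImplicit false
open Cfsg

namespace Cfsg.Agent.S1981

/-- Let P be a finite p-group generated by its abelian normal subgroups. Then both K-infinity subgroups of P equal P. -/
theorem result {P : Type*} [Group P] [Finite P] {p : ℕ} [Fact p.Prime] (hP : IsPGroup p P) (hgen : ⨆ A ∈ {A : Subgroup P | A.Normal ∧ IsMulCommutative ↥A}, A = ⊤) : Cfsg.kInfLower P = ⊤ ∧ Cfsg.kInfUpper P = ⊤ := by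
  have hl : ∀ n, Cfsg.kSeqEven P n = ⊤ := fun n => top_le_iff.mp (hgen.ge.trans (iSup₂_le
    fun A hA => by
      have : A.Normal := hA.1
      exact le_sSup (Cfsg.Agent.Techniques.KSeq.normalAbelian_mem hA.2 _).2.1))
  have hu : ∀ n, Cfsg.kSeqOdd P n = ⊤ := fun n => by
    cases n with
    | zero => rfl
    | succ n => exact top_le_iff.mp (hgen.ge.trans (iSup₂_le fun A hA => by
        have : A.Normal := hA.1
        exact le_sSup (Cfsg.Agent.Techniques.KSeq.normalAbelian_mem hA.2 _).2.2))
  exact ⟨by simp [Cfsg.kInfLower, hl], by simp [Cfsg.kInfUpper, hu]⟩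

end Cfsg.Agent.S1981
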