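import Cfsg.Statements.S1989
import Cfsg.Agent.Techniques.SL2.QdFusion
import Cfsg.Agent.Techniques.KInf.Fusion

set_option autoImplicit false
universe u
open Cfsg

namespace Cfsg.Agent.S1989

/-- Let p be an odd prime and G a finite group. Then Qd(p) (the natural semidirect product of an elementary abelian group of order p² by SL₂(p)) is not involved in G if and only if, in every section K/R of G and for every Sylow p-subgroup T of K/R, the lower K-infinity subgroup of T controls strong fusion in K/R. -/
theorem result {G : Type u} [Group G] [Finite G] {p : ℕ} [Fact p.Prime] (hp : p ≠ 2) : ¬ Cfsg.Involves ↥(Cfsg.qd p) G ↔ ∀ (K R : Subgroup G) [hR : (R.subgroupOf K).Normal], ∀ T : Sylow p (↥K ⧸ R.subgroupOf K), Cfsg.ControlsStrongFusion p (Cfsg.inducedFunctor (G := (↥K ⧸ R.subgroupOf K)) Cfsg.kInfLower (T : Subgroup (↥K ⧸ R.subgroupOf K))) := by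
  constructor
  · intro h K R hR T
    refine Cfsg.Agent.Techniques.KInf.controlsStrongFusion_of_fc
      (Cfsg.Agent.Techniques.KInf.fc_of_stable Cfsg.Agent.Techniques.KSeq.isCharPFunctor_kInfLower
        (fun _ _ _ _ => Or.inl) (fun K' R' _ => ?_)) T
      Cfsg.Agent.Techniques.KSeq.isCharPFunctor_kInfLower
    by_contra hns
    obtain ⟨P, -, -, hQ, -⟩ := Cfsg.Agent.Techniques.SL2.Nonstable.involves_of_not_stable hp hns
    exact h (Cfsg.Agent.Techniques.SL2.Qd.involves_quotient
      (Cfsg.Agent.Techniques.SL2.Qd.involves_quotient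
        (Cfsg.Agent.Techniques.SL2.Qd.involves_trans (MonoidHom.id _) Function.surjective_id hQ)))
  · rintro h ⟨K, R, hR, ⟨e⟩⟩
    obtain ⟨T, hT⟩ := Cfsg.Agent.Techniques.SL2.QdFusion.exists_not_controls p e
      Cfsg.Agent.Techniques.KSeq.isCharPFunctor_kInfLower
    exact hT (@h K R hR T)

end Cfsg.Agent.S1989
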