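import Cfsg.Statements.S1992
import Cfsg.Agent.Techniques.KInf.Applications
import Cfsg.Agent.S1991
import Cfsg.Agent.Lib.Characters.Burnside

set_option autoImplicit false
open Cfsg

namespace Cfsg.Agent.S1992

/-- Let G be a finite group in which, for every prime q dividing the order of G, every Sylow q-subgroup is its own normalizer. Then the order of G is a power of a single prime (G is a q-group for some prime q; for G trivial any prime works). -/
theorem result {G : Type*} [Group G] [Finite G] (h : ∀ q : ℕ, q.Prime → q ∣ Nat.card G → ∀ Q : Sylow q G, Subgroup.normalizer ((Q : Subgroup G) : Set G) = Q) : ∃ q : ℕ, q.Prime ∧ IsPGroup q G := by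
  classical
  by_contra hno
  simp only [not_exists, not_and] at hno
  have hG : 1 < Nat.card G := by
    by_contra h1
    have h2 : Nat.card G = 1 := le_antisymm (not_lt.mp h1) Nat.card_pos
    exact hno 2 Nat.prime_two (IsPGroup.of_card (n := 0) (by simpa using h2))
  have h0 : Nat.card G ≠ 0 := Nat.card_pos.ne'
  have hfinal : ∀ (N : Subgroup G) (ℓ : ℕ), N.Normal → ℓ.Prime → N.index = ℓ → False := by
    intro N ℓ hN hℓ hi
    obtain ⟨r, hr, hrd, hne⟩ : ∃ r, r.Prime ∧ r ∣ Nat.card G ∧ r ≠ ℓ := by
      by_contra hall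
      simp only [not_exists, not_and, not_not] at hall
      exact hno ℓ hℓ (IsPGroup.of_card (Nat.eq_prime_pow_of_unique_prime_dvd h0
        fun {d} hd hdd => hall d hd hdd))
    have := Fact.mk hr
    obtain ⟨R⟩ : Nonempty (Sylow r G) := Sylow.nonempty
    exact Cfsg.Agent.Techniques.KInf.false_of_index_prime hℓ hne hi R (h r hr hrd R)
  by_cases hbig : ∃ q, q.Prime ∧ q ∣ Nat.card G ∧ 5 ≤ q
  · obtain ⟨q, hq, hqd, hq5⟩ := hbig
    have := Fact.mk hq
    obtain ⟨S⟩ : Nonempty (Sylow q G) := Sylow.nonempty
    have hS : (S : Subgroup G) ≠ ⊥ := S.ne_bot_of_dvd_card hqd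
    obtain ⟨N, hN, hi⟩ := Cfsg.Agent.S1991.result hq5 S hS fun g hg hgc => by
      rw [h q hq hqd S] at hg
      obtain ⟨k, hk⟩ := IsPGroup.iff_orderOf.mp S.2 ⟨g, hg⟩
      rw [Subgroup.orderOf_mk] at hk
      have h1 : orderOf g = 1 :=
        Nat.eq_one_of_dvd_coprimes (hgc.pow_right k) dvd_rfl (hk ▸ dvd_rfl)
      rw [orderOf_eq_one_iff] at h1
      rw [h1]
      exact one_mem _
    exact hfinal N q hN hq hi
  · simp only [not_exists, not_and, not_le] at hbig
    have hsmall : ∀ q : ℕ, q.Prime → q ∣ Nat.card G → q = 2 ∨ q = 3 := fun q hq hd => by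
      have h5 := hbig q hq hd
      have h2 := hq.two_le
      rcases Nat.lt_or_ge q 4 with h4 | h4
      · omega
      · exfalso
        have : q = 4 := by omega
        subst this
        exact absurd hq (by norm_num)
    have hcard : Nat.card G =
        2 ^ (Nat.card G).factorization 2 * 3 ^ (Nat.card G).factorization 3 := by
      conv_lhs => rw [← Nat.prod_factorization_pow_eq_self h0]
      rw [Finsupp.prod_of_support_subset _ (s := {2, 3}) (fun q hq => ?_) _
        (fun i _ => pow_zero i), Finset.prod_pair (by norm_num)]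
      rw [Nat.support_factorization, Nat.mem_primeFactors] at hq
      rcases hsmall q hq.1 hq.2.1 with rfl | rfl <;> simp
    have := Cfsg.Agent.Characters.burnside_pa_qb Nat.prime_two Nat.prime_three hcard
    have hne : commutator G ≠ ⊤ := by
      have : Nontrivial G := Finite.one_lt_card_iff_nontrivial.mp hG
      exact (IsSolvable.commutator_lt_top_of_nontrivial G).ne
    obtain ⟨N, hN, hle⟩ := (eq_top_or_exists_le_coatom (commutator G)).resolve_left hne
    have hNn : N.Normal := Subgroup.Normal.of_commutator_le G hle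
    exact hfinal N N.index hNn (Cfsg.Agent.Solvable.Basics.index_prime_of_normal_coatom hN) rfl

end Cfsg.Agent.S1992
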