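import Cfsg.Statements.S1997
import Cfsg.Agent.Techniques.TripleFactor

set_option autoImplicit false
universe u
open Cfsg

namespace Cfsg.Agent.S1997

/-- Let p be a prime, G a finite group with Sylow p-subgroup S, and W₁, W₂ two isomorphism-invariant p-group functors (W assigns to every group Q a subgroup W(Q), nontrivial whenever Q is a nontrivial finite p-group, and every isomorphism from a finite p-group Q onto a group R carries W(Q) onto W(R)). Suppose that G* = C_{G*}(Ω₁Z(S*)) N_{G*}(W₁(S*)) = C_{G*}(Ω₁Z(S*)) N_{G*}(W₂(S*)) = N_{G*}(W₁(S*)) N_{G*}(W₂(S*)) whenever G* = K/R is a section of G with C_{G*}(O_p(G*)) ≤ O_p(G*) and S* is a Sylow p-subgroup of G*, where Ω₁Z denotes the subgroup generated by the elements of order dividing p in the centre. Suppose also Ω₁Z(S) ≤ W₁(S) ∩ W₂(S), and let A be the normal closure of Ω₁Z(S) in N_G(W₁(S)). Then A is an elementary abelian subgroup of S, strongly closed in S with respect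 to G, and A controls strong fusion in G. -/
theorem result {G : Type u} [Group G] [Finite G] {p : ℕ} [Fact p.Prime] (S : Sylow p G) (W₁ W₂ : ∀ (Q : Type u) [Group Q], Subgroup Q) (hW₁ : Cfsg.IsCharPFunctor.{u} p W₁) (hW₂ : Cfsg.IsCharPFunctor.{u} p W₂) (hfac : ∀ (K R : Subgroup G) [hR : (R.subgroupOf K).Normal], Subgroup.centralizer ((Cfsg.pCore p (↥K ⧸ R.subgroupOf K) : Subgroup (↥K ⧸ R.subgroupOf K)) : Set (↥K ⧸ R.subgroupOf K)) ≤ Cfsg.pCore p (↥K ⧸ R.subgroupOf K) → ∀ T : Sylow p (↥K ⧸ R.subgroupOf K), (∀ x : (↥K ⧸ R.subgroupOf K), ∃ a ∈ Subgroup.centralizer ((Cfsg.omegaOne p ((T : Subgroup (↥K ⧸ R.subgroupOf K)) ⊓ Subgroup.centralizer (((T : Subgroup (↥K ⧸ R.subgroupOf K)) : Subgroup (↥K ⧸ R.subgroupOf K)) : Set (↥K ⧸ R.subgroupOf K))) : Subgroup (↥K ⧸ R.subgroupOf K)) : Set (↥K ⧸ R.subgroupOf K)), ∃ b ∈ Subgroup.normalizer ((Cfsg.inducedFunctor (G := (↥K ⧸ R.subgroupOf K)) W₁ (T : Subgroup (↥K ⧸ R.subgroupOf K)) : Subgroup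 (↥K ⧸ R.subgroupOf K)) : Set (↥K ⧸ R.subgroupOf K)), x = a * b) ∧ (∀ x : (↥K ⧸ R.subgroupOf K), ∃ a ∈ Subgroup.centralizer ((Cfsg.omegaOne p ((T : Subgroup (↥K ⧸ R.subgroupOf K)) ⊓ Subgroup.centralizer (((T : Subgroup (↥K ⧸ R.subgroupOf K)) : Subgroup (↥K ⧸ R.subgroupOf K)) : Set (↥K ⧸ R.subgroupOf K))) : Subgroup (↥K ⧸ R.subgroupOf K)) : Set (↥K ⧸ R.subgroupOf K)), ∃ b ∈ Subgroup.normalizer ((Cfsg.inducedFunctor (G := (↥K ⧸ R.subgroupOf K)) W₂ (T : Subgroup (↥K ⧸ R.subgroupOf K)) : Subgroup (↥K ⧸ R.subgroupOf K)) : Set (↥K ⧸ R.subgroupOf K)), x = a * b) ∧ (∀ x : (↥K ⧸ R.subgroupOf K), ∃ a ∈ Subgroup.normalizer ((Cfsg.inducedFunctor (G := (↥K ⧸ R.subgroupOf K)) W₁ (T : Subgroup (↥K ⧸ R.subgroupOf K)) : Subgroup (↥K ⧸ R.subgroupOf K)) : Set (↥K ⧸ R.subgroupOf K)), ∃ b ∈ Subgroup.normalizer ((Cfsg.inducedFunctor (G := (↥K ⧸ R.subgroupOf K)) W₂ (T : Subgroup (↥K ⧸ R.subgroupOf K)) : Subgroup (↥K ⧸ R.subgroupOf K)) : Set (↥K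 ⧸ R.subgroupOf K)), x = a * b)) (hZ : Cfsg.omegaOne p ((S : Subgroup G) ⊓ Subgroup.centralizer (((S : Subgroup G) : Subgroup G) : Set G)) ≤ Cfsg.inducedFunctor (G := G) W₁ (S : Subgroup G) ⊓ Cfsg.inducedFunctor (G := G) W₂ (S : Subgroup G)) (N₁ : Subgroup G) (hN₁ : N₁ = Subgroup.normalizer ((Cfsg.inducedFunctor (G := G) W₁ (S : Subgroup G) : Subgroup G) : Set G)) (A : Subgroup G) (hA : A = (Subgroup.normalClosure (((Cfsg.omegaOne p ((S : Subgroup G) ⊓ Subgroup.centralizer (((S : Subgroup G) : Subgroup G) : Set G))).subgroupOf N₁ : Subgroup ↥N₁) : Set ↥N₁)).map N₁.subtype) : A ≤ (S : Subgroup G) ∧ Cfsg.IsElementaryAbelian p A ∧ Cfsg.IsStronglyClosed A (S : Subgroup G) ∧ Cfsg.ControlsStrongFusion p A := by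
  set 𝓦 : Set (∀ (Q : Type u) [Group Q], Subgroup Q) := {W₁, W₂} with h𝓦def
  have h𝓦 : ∀ W ∈ 𝓦, Cfsg.IsCharPFunctor.{u} p W := by
    intro W hW
    rcases hW with rfl | rfl
    · exact hW₁
    · exact hW₂
  set V₁ := Cfsg.inducedFunctor (G := G) W₁ (S : Subgroup G) with hV₁
  set V₂ := Cfsg.inducedFunctor (G := G) W₂ (S : Subgroup G) with hV₂
  set Z := Cfsg.omegaOne p ((S : Subgroup G) ⊓ Subgroup.centralizer (((S : Subgroup G) : Subgroup G) : Set G)) with hZdef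
  have hV1S : V₁ ≤ (S : Subgroup G) := Subgroup.map_subtype_le _
  have hV2S : V₂ ≤ (S : Subgroup G) := Subgroup.map_subtype_le _
  have hc1 := Techniques.Functor.isConjugacyFunctor_induced (G := G) hW₁
  have hc2 := Techniques.Functor.isConjugacyFunctor_induced (G := G) hW₂
  have hS1 : (S : Subgroup G) ≤ Subgroup.normalizer (V₁ : Set G) :=
    Subgroup.le_normalizer.trans (Techniques.Functor.normalizer_le_functor hc1 S.2)
  have hS2 : (S : Subgroup G) ≤ Subgroup.normalizer (V₂ : Set G) :=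
    Subgroup.le_normalizer.trans (Techniques.Functor.normalizer_le_functor hc2 S.2)
  set O₁ : Set G := {y | ∃ g ∈ Subgroup.normalizer (V₁ : Set G), ∃ z ∈ Z, y = g * z * g⁻¹} with hO1
  set O₂ : Set G := {y | ∃ g ∈ Subgroup.normalizer (V₂ : Set G), ∃ z ∈ Z, y = g * z * g⁻¹} with hO2
  have hfix : ∀ g a b z : G, g⁻¹ = a * b → a ∈ Subgroup.centralizer (Z : Set G) → z ∈ Z →
      g * z * g⁻¹ = b⁻¹ * z * b := by
    intro g a b z hg ha hz
    have e : g = b⁻¹ * a⁻¹ := by rw [← inv_inv g, hg, mul_inv_rev]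
    subst e
    have h : a⁻¹ * z * a = z := by rw [mul_assoc, ha z hz, inv_mul_cancel_left]
    calc b⁻¹ * a⁻¹ * z * (b⁻¹ * a⁻¹)⁻¹ = b⁻¹ * (a⁻¹ * z * a) * b := by group
      _ = b⁻¹ * z * b := by rw [h]
  have hO12 : O₁ = O₂ := by
    ext y
    constructor
    · rintro ⟨g, hg, z, hz, rfl⟩
      obtain ⟨a, ha, b, hb, hab⟩ := Techniques.TripleFactor.normalizer_le_mul S hW₂ hV1S hS1
        (hZ.trans inf_le_left) le_rfl (fun K R _ hc T => (hfac K R hc T).2.1)
        ((Subgroup.normalizer (V₁ : Set G)).inv_mem hg)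
      exact ⟨b⁻¹, (Subgroup.normalizer (V₂ : Set G)).inv_mem hb, z, hz,
        (hfix g a b z hab ha hz).trans (by rw [inv_inv])⟩
    · rintro ⟨g, hg, z, hz, rfl⟩
      obtain ⟨a, ha, b, hb, hab⟩ := Techniques.TripleFactor.normalizer_le_mul S hW₁ hV2S hS2
        (hZ.trans inf_le_right) le_rfl (fun K R _ hc T => (hfac K R hc T).1)
        ((Subgroup.normalizer (V₂ : Set G)).inv_mem hg)
      exact ⟨b⁻¹, (Subgroup.normalizer (V₁ : Set G)).inv_mem hb, z, hz,
        (hfix g a b z hab ha hz).trans (by rw [inv_inv])⟩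
  have hAO : A = Subgroup.closure O₁ := by
    subst hN₁
    rw [hA, Subgroup.normalClosure, MonoidHom.map_closure]
    congr 1
    ext y
    constructor
    · rintro ⟨c, hc, rfl⟩
      obtain ⟨s, hs, hsc⟩ := Group.mem_conjugatesOfSet_iff.mp hc
      obtain ⟨k, rfl⟩ := isConj_iff.mp hsc
      exact ⟨k, k.2, s, hs, rfl⟩
    · rintro ⟨g, hg, z, hz, rfl⟩
      have hzN : z ∈ Subgroup.normalizer (V₁ : Set G) :=
        Subgroup.le_normalizer (hZ hz).1
      refine ⟨⟨g, hg⟩ * ⟨z, hzN⟩ * ⟨g, hg⟩⁻¹, ?_, rfl⟩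
      exact Group.mem_conjugatesOfSet_iff.mpr ⟨⟨z, hzN⟩, hz, isConj_iff.mpr ⟨⟨g, hg⟩, rfl⟩⟩
  have hstab : ∀ (O : Set G) (N : Subgroup G), (∀ g ∈ N, ∀ y ∈ O, g * y * g⁻¹ ∈ O) →
      N ≤ Subgroup.normalizer (Subgroup.closure O : Set G) := by
    intro O N h
    refine Subgroup.le_normalizer_iff.2 fun g hg y hy => ?_
    have hle : (Subgroup.closure O).map (MulAut.conj g).toMonoidHom ≤ Subgroup.closure O := by
      rw [MonoidHom.map_closure, Subgroup.closure_le]
      rintro _ ⟨w, hw, rfl⟩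
      exact Subgroup.subset_closure (h g hg w hw)
    exact hle (Subgroup.mem_map_of_mem _ hy)
  have hN1A : Subgroup.normalizer (V₁ : Set G) ≤ Subgroup.normalizer (A : Set G) := by
    rw [hAO]
    refine hstab O₁ _ ?_
    rintro g hg _ ⟨k, hk, z, hz, rfl⟩
    exact ⟨g * k, mul_mem hg hk, z, hz, by group⟩
  have hN2A : Subgroup.normalizer (V₂ : Set G) ≤ Subgroup.normalizer (A : Set G) := by
    rw [hAO, hO12]
    refine hstab O₂ _ ?_
    rintro g hg _ ⟨k, hk, z, hz, rfl⟩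
    exact ⟨g * k, mul_mem hg hk, z, hz, by group⟩
  have hZC : Z ≤ Subgroup.centralizer (V₁ : Set G) := by
    refine ((Subgroup.closure_le _).2 fun x hx => hx.1).trans ?_
    exact inf_le_right.trans (Subgroup.centralizer_le hV1S)
  have hAV : A ≤ V₁ ⊓ Subgroup.centralizer (V₁ : Set G) := by
    rw [hAO, Subgroup.closure_le]
    rintro _ ⟨g, hg, z, hz, rfl⟩
    exact ⟨(Subgroup.mem_normalizer_iff.mp hg z).mp (hZ hz).1,
      (Subgroup.mem_normalizer_iff.mp
        (CharP.normalizer_le_normalizer_centralizer V₁ hg) z).mp (hZC hz)⟩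
  have hcomm : ∀ a ∈ A, ∀ b ∈ A, a * b = b * a := fun a ha b hb =>
    (hAV hb).2 a (hAV ha).1
  have hZp : ∀ z ∈ Z, z ^ p = 1 := by
    intro z hz
    induction hz using Subgroup.closure_induction with
    | mem x hx => exact hx.2
    | one => exact one_pow p
    | mul x y hx hy ihx ihy =>
      have hxC : x ∈ Subgroup.centralizer ((S : Subgroup G) : Set G) :=
        ((Subgroup.closure_le ((S : Subgroup G) ⊓ Subgroup.centralizer _)).2 (fun w hw => hw.1) hx).2
      have hyS : y ∈ (S : Subgroup G) :=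
        ((Subgroup.closure_le ((S : Subgroup G) ⊓ Subgroup.centralizer _)).2 (fun w hw => hw.1) hy).1
      rw [(show Commute x y from (hxC y hyS).symm).mul_pow, ihx, ihy, one_mul]
    | inv x hx ihx => rw [inv_pow, ihx, inv_one]
  have hAp : ∀ a ∈ A, a ^ p = 1 := by
    intro a ha
    rw [hAO] at ha
    induction ha using Subgroup.closure_induction with
    | mem x hx =>
      obtain ⟨g, hg, z, hz, rfl⟩ := hx
      rw [conj_pow, hZp z hz, mul_one, mul_inv_cancel]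
    | one => exact one_pow p
    | mul x y hx hy ihx ihy =>
      rw [(show Commute x y from hcomm x (hAO ▸ hx) y (hAO ▸ hy)).mul_pow, ihx, ihy, one_mul]
    | inv x hx ihx => rw [inv_pow, ihx, inv_one]
  have hfc : Techniques.Functor.FC p 𝓦 G := by
    refine Techniques.Functor.fc_of_constrained (G := G) h𝓦
      (Techniques.Functor.fc_constrained_sections (G := G) h𝓦 fun K R _ hc T B h _ hB hcB => ?_)
      G (Techniques.Functor.IsSec.refl G)
    obtain ⟨a, ha, b, hb, hab⟩ := (hfac K R hc T).2.2 h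
    refine Techniques.TripleFactor.reach_of_factor T
      (Subgroup.le_normalizer.trans (Techniques.Functor.normalizer_le_functor
        (Techniques.Functor.isConjugacyFunctor_induced hW₁) T.2))
      (Subgroup.le_normalizer.trans (Techniques.Functor.normalizer_le_functor
        (Techniques.Functor.isConjugacyFunctor_induced hW₂) T.2)) ?_ ?_ ha hb hab hB hcB
    · exact fun y hy => ⟨_, Set.mem_image_of_mem _ (Or.inl rfl), Subgroup.mem_inf.mpr ⟨Subgroup.mem_top y, hy⟩⟩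
    · exact fun y hy => ⟨_, Set.mem_image_of_mem _ (Or.inr rfl), Subgroup.mem_inf.mpr ⟨Subgroup.mem_top y, hy⟩⟩
  have hctl : ∀ (B : Set G) (g : G), B ⊆ (S : Subgroup G) →
      (fun a => g * a * g⁻¹) '' B ⊆ (S : Subgroup G) →
      ∃ x ∈ Subgroup.normalizer (A : Set G), ∀ a ∈ B, x * a * x⁻¹ = g * a * g⁻¹ := by
    intro B g hB hg
    have h1 : Techniques.Functor.Reach (Subgroup.normalizer (A : Set G) : Set G)
        (S : Subgroup G) B g := by
      refine (hfc S B g (Subgroup.mem_top g) hB hg).lift (fun C y hy _ hyC => ?_) hB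
      refine Techniques.Functor.Reach.single ?_ hyC
      obtain ⟨w, ⟨W, hW, rfl⟩, hy⟩ := hy
      rcases hW with rfl | rfl
      · exact hN1A hy.2
      · exact hN2A hy.2
    exact h1.exists_mem
  have hAS : A ≤ (S : Subgroup G) := (hAV.trans inf_le_left).trans hV1S
  refine ⟨hAS, ⟨⟨⟨fun a b => Subtype.ext (hcomm a a.2 b b.2)⟩⟩, hAp⟩, ⟨hAS, fun x hx g hg => ?_⟩,
    ⟨S, hAS, fun B hB => ⟨hB, fun g hg => ?_⟩⟩⟩
  · obtain ⟨y, hy, he⟩ := hctl {x} g (Set.singleton_subset_iff.mpr (hAS hx))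
      (by rw [Set.image_singleton]; exact Set.singleton_subset_iff.mpr hg)
    rw [← he x rfl]
    exact (Subgroup.mem_normalizer_iff.mp hy x).mp hx
  · obtain ⟨y, hy, he⟩ := hctl B g hB hg
    exact ⟨y, hy, fun a ha => (he a ha).symm⟩

end Cfsg.Agent.S1997
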