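import Cfsg.Agent.Base.RecEqns
import Cfsg.Statements.S1998
import Cfsg.Agent.Techniques.Functor.TransferResults

set_option autoImplicit false
universe u
open Cfsg

namespace Cfsg.Agent.S1998

/-- Let p be a prime, G a finite group with Sylow p-subgroup S, and 𝓦 a nonempty set of isomorphism-invariant p-group functors (W assigns to every group Q a subgroup W(Q), nontrivial whenever Q is a nontrivial finite p-group, and every isomorphism from a finite p-group Q onto a group R carries W(Q) onto W(R)). Suppose the induced conjugacy functors control transfer in every section of G other than G itself, but not in G. Let T be the subgroup generated by the S ∩ (N_G(W(S)))', W ∈ 𝓦, and M = N_G(T ∩ O_p(G)). Then: C_G(O_p(G)) ≤ O_p(G); M is a proper subgroup of G containing every proper subgroup of G that contains S (the unique maximal subgroup over S); [O_p(G), M] ≤ O_p(G) ∩ M' ≤ O_p(G) ∩ T; and every element u of S outside O_p(G) satisfies [X,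 u, …, u] ≰ Y with p − 1 entries u, for some chief factor X/Y of G with X ≤ O_p(G). -/
theorem result {G : Type u} [Group G] [Finite G] {p : ℕ} [Fact p.Prime] (S : Sylow p G) (𝓦 : Set (∀ (Q : Type u) [Group Q], Subgroup Q)) (h𝓦 : ∀ W ∈ 𝓦, Cfsg.IsCharPFunctor.{u} p W) (hne : 𝓦.Nonempty) (hsec : ∀ (K R : Subgroup G) [hR : (R.subgroupOf K).Normal], (K = ⊤ → R ≠ ⊥) → Cfsg.FamilyControlsTransferIn p ((fun W => Cfsg.inducedFunctor (G := (↥K ⧸ R.subgroupOf K)) W) '' 𝓦) ⊤) (hG : ¬ Cfsg.FamilyControlsTransferIn p ((fun W => Cfsg.inducedFunctor (G := G) W) '' 𝓦) ⊤) (T M : Subgroup G) (hT : T = (⨆ W ∈ 𝓦, (S : Subgroup G) ⊓ ⁅Subgroup.normalizer ((Cfsg.inducedFunctor (G := G) W (S : Subgroup G) : Subgroup G) : Set G), Subgroup.normalizer ((Cfsg.inducedFunctor (G := G) W (S : Subgroup G) : Subgroup G) : Set G)⁆)) (hM : M = Subgroup.normalizer ((T ⊓ Cfsg.pCore p G : Subgroup G) : Set G)) : Subgroup.centralizer ((Cfsg.pCore p G : Subgroup G) : Set G)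 ≤ Cfsg.pCore p G ∧ (M ≠ ⊤ ∧ ∀ H : Subgroup G, (S : Subgroup G) ≤ H → H ≠ ⊤ → H ≤ M) ∧ (⁅Cfsg.pCore p G, M⁆ ≤ Cfsg.pCore p G ⊓ ⁅M, M⁆ ∧ Cfsg.pCore p G ⊓ ⁅M, M⁆ ≤ Cfsg.pCore p G ⊓ T) ∧ ∀ u : G, u ∈ (S : Subgroup G) → u ∉ Cfsg.pCore p G → ∃ U V : Subgroup G, Cfsg.IsChiefFactor U V ∧ U ≤ Cfsg.pCore p G ∧ ¬ Cfsg.iterCommutator U (Subgroup.zpowers u) (p - 1) ≤ V := by
  have hsub : ∀ L : Subgroup G, L ≠ ⊤ → Cfsg.Agent.Techniques.Functor.TC p 𝓦 L := fun L hL => by
    have : ((⊥ : Subgroup G).subgroupOf L).Normal := by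
      rw [Subgroup.bot_subgroupOf]; infer_instance
    exact Cfsg.Agent.Techniques.Functor.tc_equiv h𝓦
      ((QuotientGroup.quotientMulEquivOfEq (Subgroup.bot_subgroupOf L)).trans QuotientGroup.quotientBot)
      ((Cfsg.Agent.Techniques.Functor.tc_iff h𝓦).mp (hsec L ⊥ fun h => absurd h hL))
  have hquot : ∀ (N : Subgroup G) [N.Normal], N ≠ ⊥ →
      Cfsg.Agent.Techniques.Functor.TC p 𝓦 (G ⧸ N) := fun N _ hN => by
    have e : (N.subgroupOf ⊤).map (Subgroup.topEquiv : (⊤ : Subgroup G) ≃* G).toMonoidHom = N :=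
      (Subgroup.subgroupOf_map_subtype N ⊤).trans (inf_top_eq N)
    exact Cfsg.Agent.Techniques.Functor.tc_equiv h𝓦
      (QuotientGroup.congr _ N Subgroup.topEquiv e)
      ((Cfsg.Agent.Techniques.Functor.tc_iff h𝓦).mp (hsec ⊤ N fun _ => hN))
  have hm : Cfsg.Agent.Techniques.Functor.Minimal p 𝓦 S := by
    refine ⟨h𝓦, hne, hsub, hquot, fun h => hG ?_⟩
    exact Cfsg.Agent.Techniques.Functor.familyControlsTransfer_of_ctl
      (Cfsg.Agent.Fusion.SylIn.of_sylow S) (by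
        simpa only [Cfsg.Agent.Techniques.Functor.TransferCtl, ← commutator_def, top_inf_eq,
          Cfsg.Agent.Techniques.Functor.kk] using h)
  have hTk : T = Cfsg.Agent.Techniques.Functor.kk 𝓦 (S : Subgroup G) := by
    rw [hT, Cfsg.Agent.Techniques.Functor.kk, Cfsg.Agent.Techniques.Functor.induced, iSup_image]
  subst hTk
  subst hM
  refine ⟨hm.constrained, ⟨hm.M_ne_top, fun H hS hH => hm.proper_le hS hH⟩,
    ⟨(hm.proper_commutator_le hm.sylow_le hm.M_ne_top).1, ?_⟩, fun u hu huQ =>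
      hm.exists_bad_factor hu huQ⟩
  rw [inf_comm (Cfsg.pCore p G) (Cfsg.Agent.Techniques.Functor.kk 𝓦 _)]
  exact (hm.proper_commutator_le hm.sylow_le hm.M_ne_top).2

end Cfsg.Agent.S1998
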