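import Cfsg.Statements.S2000
import Cfsg.Agent.Lib.CharP.S4FreeFusion

set_option autoImplicit false
universe u
open Cfsg

namespace Cfsg.Agent.S2000

/-- Let p be a prime and G a finite group. Then Qd(p) (the natural semidirect product of an elementary abelian group of order p² by SL₂(p)) is not involved in G if and only if there is a set 𝓦 of isomorphism-invariant p-group functors (each nontrivial on nontrivial finite p-groups and carried onto W(R) by every isomorphism from a finite p-group Q onto R, hence with characteristic values on finite p-groups) whose induced conjugacy functors control strong fusion in every section of G. -/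
theorem result {G : Type u} [Group G] [Finite G] {p : ℕ} [Fact p.Prime] : ¬ Cfsg.Involves ↥(Cfsg.qd p) G ↔ ∃ 𝓦 : Set (∀ (Q : Type u) [Group Q], Subgroup Q), (∀ W ∈ 𝓦, Cfsg.IsCharPFunctor.{u} p W) ∧ ∀ (K R : Subgroup G) [hR : (R.subgroupOf K).Normal], Cfsg.FamilyControlsStrongFusionIn p ((fun W => Cfsg.inducedFunctor (G := (↥K ⧸ R.subgroupOf K)) W) '' 𝓦) ⊤ := by
  constructor
  · intro hfree
    by_cases hp2 : p = 2
    · subst hp2
      refine ⟨{CharP.S4FreeFusion.zFunctor, CharP.S4FreeFusion.jeFunctor 2}, ?_, fun K R hR => ?_⟩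
      · rintro W (rfl | rfl)
        · exact CharP.S4FreeFusion.isCharPFunctor_z
        · exact CharP.S4FreeFusion.isCharPFunctor_je
      · rw [Set.image_pair]
        refine CharP.S4FreeFusion.familyControls fun h => hfree ?_
        obtain ⟨K', R', hR', ⟨e⟩⟩ := CharP.S4FreeFusion.exists_qd_two h
        exact Techniques.SL2.Qd.involves_quotient ⟨K', R', hR', ⟨e⟩⟩
    · refine ⟨{Techniques.SL2.ZJFusion.zj}, ?_, fun K R hR => ?_⟩
      · rintro W rfl
        exact Techniques.SL2.ZJFusion.isCharPFunctor_zj
      · have hfree' : ¬ Cfsg.Involves ↥(Cfsg.qd p) (↥K ⧸ R.subgroupOf K) := fun h =>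
          hfree (Techniques.SL2.Qd.involves_quotient h)
        exact (Techniques.Functor.fc_iff (by
          rintro W rfl
          exact Techniques.SL2.ZJFusion.isCharPFunctor_zj)).mpr
          (Techniques.SL2.ZJFusion.fc_of_free hp2 hfree')
  · rintro ⟨𝓦, h𝓦, hall⟩ hQ
    obtain ⟨K, R, hR, ⟨e⟩⟩ := hQ
    exact Techniques.SL2.QdFusion.not_familyControls p e h𝓦 (hall K R)

end Cfsg.Agent.S2000
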