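import Cfsg.Statements.S2001
import Cfsg.Agent.Techniques.TwoFunctor

set_option autoImplicit false
open Cfsg

namespace Cfsg.Agent.S2001

/-- Let p be a prime dividing the order of the finite group G, P a Sylow p-subgroup, W a conjugacy functor for p on G with Z(H) ≤ W(H) for every nontrivial p-subgroup H, and V a central functor: a conjugacy functor with V(H) ≤ Z(H), and V(H) ≤ V(K) whenever Z(H) ≤ Z(K), for nontrivial p-subgroups H, K. Say that W with V controls transfer in a subgroup L when some Sylow p-subgroup Q of L satisfies Q ∩ L' = (Q ∩ (N_L(W(Q)))')·(Q ∩ (C_L(V(Q)))') as a product of two subgroups. If W with V controls transfer in N_G(H) for every subgroup H with Z(P) ≤ H ≤ P, then W with V controls transfer in G. -/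
theorem result {G : Type*} [Group G] [Finite G] {p : ℕ} [Fact p.Prime] (hdiv : p ∣ Nat.card G) (P : Sylow p G) (W V : Subgroup G → Subgroup G) (hW : Cfsg.IsConjugacyFunctor p W) (hV : Cfsg.IsConjugacyFunctor p V) (hWZ : ∀ H : Subgroup G, IsPGroup p ↥H → H ⊓ Subgroup.centralizer ((H : Subgroup G) : Set G) ≤ W H) (hVZ : ∀ H : Subgroup G, IsPGroup p ↥H → V H ≤ H ⊓ Subgroup.centralizer ((H : Subgroup G) : Set G)) (hVmono : ∀ H K : Subgroup G, IsPGroup p ↥H → IsPGroup p ↥K → H ≠ ⊥ → K ≠ ⊥ → H ⊓ Subgroup.centralizer ((H : Subgroup G) : Set G) ≤ K ⊓ Subgroup.centralizer ((K : Subgroup G) : Set G) → V H ≤ V K) (hloc : ∀ H : Subgroup G, (P : Subgroup G) ⊓ Subgroup.centralizer (((P : Subgroup G) : Subgroup G) : Set G) ≤ H → H ≤ (P : Subgroup G) → ∃ Q : Subgroup G, Q ≤ Subgroup.normalizer ((H : Subgroup G) : Set G) ∧ IsPGroup p ↥Q ∧ ¬ p ∣ (Q).relIndex (Subgroup.normalizer ((H : Subgroup G) : Set G)) ∧ ∀ x : G, x ∈ Q ⊓ ⁅Subgroup.normalizer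 ((H : Subgroup G) : Set G), Subgroup.normalizer ((H : Subgroup G) : Set G)⁆ ↔ ∃ a ∈ Q ⊓ ⁅Subgroup.normalizer ((H : Subgroup G) : Set G) ⊓ Subgroup.normalizer ((W Q : Subgroup G) : Set G), Subgroup.normalizer ((H : Subgroup G) : Set G) ⊓ Subgroup.normalizer ((W Q : Subgroup G) : Set G)⁆, ∃ b ∈ Q ⊓ ⁅Subgroup.normalizer ((H : Subgroup G) : Set G) ⊓ Subgroup.centralizer ((V Q : Subgroup G) : Set G), Subgroup.normalizer ((H : Subgroup G) : Set G) ⊓ Subgroup.centralizer ((V Q : Subgroup G) : Set G)⁆, x = a * b) : ∃ Q : Subgroup G, IsPGroup p ↥Q ∧ ¬ p ∣ Q.index ∧ ∀ x : G, x ∈ Q ⊓ commutator G ↔ ∃ a ∈ Q ⊓ ⁅Subgroup.normalizer ((W Q : Subgroup G) : Set G), Subgroup.normalizer ((W Q : Subgroup G) : Set G)⁆, ∃ b ∈ Q ⊓ ⁅Subgroup.centralizer ((V Q : Subgroup G) : Set G), Subgroup.centralizer ((V Q : Subgroup G) : Set G)⁆, x = a * b := by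
  obtain hP0 : (P : Subgroup G) ≠ ⊥ := Sylow.ne_bot_of_dvd_card P hdiv
  set N := Subgroup.normalizer ((W (P : Subgroup G) : Subgroup G) : Set G) with hN
  set C := Subgroup.centralizer ((V (P : Subgroup G) : Subgroup G) : Set G) with hC
  set A := (P : Subgroup G) ⊓ ⁅N, N⁆ with hA
  set B := (P : Subgroup G) ⊓ ⁅C, C⁆ with hB
  have hPC : ∀ g ∈ (P : Subgroup G), ∀ c ∈ C, g * c * g⁻¹ ∈ C := by
    intro g hg c hc v hv
    have hgN := Techniques.TwoFunctor.normalizer_le_normalizer hV P.2 (Subgroup.le_normalizer hg)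
    have hv' : g⁻¹ * v * g ∈ V (P : Subgroup G) := by
      simpa using (Subgroup.mem_normalizer_iff.mp (inv_mem hgN) v).mp hv
    have h := hc _ hv'
    calc v * (g * c * g⁻¹) = g * ((g⁻¹ * v * g) * c) * g⁻¹ := by group
      _ = g * (c * (g⁻¹ * v * g)) * g⁻¹ := by rw [h]
      _ = g * c * g⁻¹ * v := by group
  have hPB : A ≤ Subgroup.normalizer (B : Set G) := by
    refine inf_le_left.trans (Subgroup.le_normalizer_iff.2 fun g hg b hb => ?_)
    refine ⟨mul_mem (mul_mem hg hb.1) ((P : Subgroup G).inv_mem hg), ?_⟩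
    have hgC : g ∈ Subgroup.normalizer (C : Set G) := by
      rw [Subgroup.mem_normalizer_iff]
      exact fun c => ⟨hPC g hg c, fun h => by simpa [mul_assoc] using hPC g⁻¹ (inv_mem hg) _ h⟩
    have h := Subgroup.mem_map_of_mem (MulAut.conj g).toMonoidHom hb.2
    rw [Subgroup.map_commutator, show C.map (MulAut.conj g).toMonoidHom = C from
      Subgroup.mem_normalizer_iff_map_conj_eq.1 hgC] at h
    simpa using h
  refine ⟨(P : Subgroup G), P.2, P.not_dvd_index, fun x => ⟨fun hx => ?_, ?_⟩⟩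
  · have hmem : x ∈ A ⊔ B := by
      refine Techniques.TwoFunctor.transfer_global hW hV hWZ hVmono hP0 ?_ (A ⊔ B) le_sup_left
        le_sup_right hx
      intro H h1 h2
      obtain ⟨Q, hQN, hQp, hQi, hQ⟩ := hloc H h1 h2
      refine ⟨Q, CharP.isSylIn_of_not_dvd hQp hQN hQi, fun y hy => ?_⟩
      obtain ⟨a, ha, b, hb, hab⟩ := (hQ y).1 hy
      exact ⟨a, ha.2, b, hb.2, ha.1, hb.1, hab⟩
    rw [← SetLike.mem_coe, Subgroup.coe_mul_of_left_le_normalizer_right A B hPB] at hmem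
    obtain ⟨a, ha, b, hb, hab⟩ := Set.mem_mul.1 hmem
    exact ⟨a, ha, b, hb, hab.symm⟩
  · rintro ⟨a, ha, b, hb, rfl⟩
    exact ⟨mul_mem ha.1 hb.1, mul_mem (Subgroup.commutator_mono le_top le_top ha.2)
      (Subgroup.commutator_mono le_top le_top hb.2)⟩

end Cfsg.Agent.S2001
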