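import Cfsg.Statements.S2002
import Cfsg.Agent.Techniques.TwoFunctorFusion

set_option autoImplicit false
open Cfsg

namespace Cfsg.Agent.S2002

/-- Let p be a prime dividing the order of the finite group G, P a Sylow p-subgroup, W a conjugacy functor for p on G with Z(H) ≤ W(H) for every nontrivial p-subgroup H, and V a central functor (a conjugacy functor with V(H) ≤ Z(H), and V(H) ≤ V(K) whenever Z(H) ≤ Z(K)). Say that W with V controls strong fusion in a subgroup L when some Sylow p-subgroup Q of L has the property: whenever X ⊆ Q and a ∈ L with a⁻¹Xa ⊆ Q, then a = c b with c ∈ C_L(X) and b = b₁ ⋯ bₙ a product of elements each in N_L(W(Q)) or in C_L(V(Q)) such that every partial conjugate (b₁ ⋯ bₖ)⁻¹ X (b₁ ⋯ bₖ) lies in Q. If W with V controls strong fusion in N_G(H) for every subgroup H with Z(P) ≤ H ≤ P, then W with V controls strong fusion in G. -/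
theorem result {G : Type*} [Group G] [Finite G] {p : ℕ} [Fact p.Prime] (hdiv : p ∣ Nat.card G) (P : Sylow p G) (W V : Subgroup G → Subgroup G) (hW : Cfsg.IsConjugacyFunctor p W) (hV : Cfsg.IsConjugacyFunctor p V) (hWZ : ∀ H : Subgroup G, IsPGroup p ↥H → H ⊓ Subgroup.centralizer ((H : Subgroup G) : Set G) ≤ W H) (hVZ : ∀ H : Subgroup G, IsPGroup p ↥H → V H ≤ H ⊓ Subgroup.centralizer ((H : Subgroup G) : Set G)) (hVmono : ∀ H K : Subgroup G, IsPGroup p ↥H → IsPGroup p ↥K → H ≠ ⊥ → K ≠ ⊥ → H ⊓ Subgroup.centralizer ((H : Subgroup G) : Set G) ≤ K ⊓ Subgroup.centralizer ((K : Subgroup G) : Set G) → V H ≤ V K) (hloc : ∀ H : Subgroup G, (P : Subgroup G) ⊓ Subgroup.centralizer (((P : Subgroup G) : Subgroup G) : Set G) ≤ H → H ≤ (P : Subgroup G) → ∃ Q : Subgroup G, Q ≤ Subgroup.normalizer ((H : Subgroup G) : Set G) ∧ IsPGroup p ↥Q ∧ ¬ p ∣ (Q).relIndex (Subgroup.normalizer ((H : Subgroup G) : Set G)) ∧ ∀ (X : Set G) (a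 : G), X ⊆ Q → a ∈ Subgroup.normalizer ((H : Subgroup G) : Set G) → (fun x => a⁻¹ * x * a) '' X ⊆ Q → ∃ c ∈ Subgroup.normalizer ((H : Subgroup G) : Set G) ⊓ Subgroup.centralizer X, ∃ (n : ℕ) (b : Fin n → G), (∀ i, b i ∈ Subgroup.normalizer ((H : Subgroup G) : Set G) ⊓ Subgroup.normalizer ((W Q : Subgroup G) : Set G) ∨ b i ∈ Subgroup.normalizer ((H : Subgroup G) : Set G) ⊓ Subgroup.centralizer ((V Q : Subgroup G) : Set G)) ∧ a = c * (List.ofFn b).prod ∧ ∀ k : ℕ, k ≤ n → (fun x => (((List.ofFn b).take k).prod)⁻¹ * x * ((List.ofFn b).take k).prod) '' ((fun x => c⁻¹ * x * c) '' X) ⊆ Q) : ∃ Q : Subgroup G, IsPGroup p ↥Q ∧ ¬ p ∣ Q.index ∧ ∀ (X : Set G) (a : G), X ⊆ Q → (fun x => a⁻¹ * x * a) '' X ⊆ Q → ∃ c ∈ Subgroup.centralizer X, ∃ (n : ℕ) (b : Fin n → G), (∀ i, b i ∈ ⊤ ⊓ Subgroup.normalizer ((W Q : Subgroup G) : Set G) ∨ b i ∈ ⊤ ⊓ Subgroup.centralizer ((V Q : Subgroup G) : Set G)) ∧ a = c * (List.ofFn b).prod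 ∧ ∀ k : ℕ, k ≤ n → (fun x => (((List.ofFn b).take k).prod)⁻¹ * x * ((List.ofFn b).take k).prod) '' ((fun x => c⁻¹ * x * c) '' X) ⊆ Q := by
  obtain hP0 : (P : Subgroup G) ≠ ⊥ := Sylow.ne_bot_of_dvd_card P hdiv
  refine ⟨(P : Subgroup G), P.2, P.not_dvd_index, fun X a hX hXa => ?_⟩
  obtain ⟨c, hc, g, hg, hpath⟩ :=
    Techniques.TwoFunctor.fusion_global (P := P) hW hV hWZ hVmono hP0 (fun H h1 h2 => by
      obtain ⟨Q, hQN, hQp, hQi, hQ⟩ := hloc H h1 h2
      refine ⟨Q, CharP.isSylIn_of_not_dvd hQp hQN hQi, fun Y y hY hy hYy => ?_⟩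
      obtain ⟨c, hc, n, b, hb, hab, hk⟩ := hQ Y y hY hy hYy
      refine ⟨c, hc.2, List.ofFn b, fun x hx => ?_, hab, fun k hk' => ?_⟩
      · obtain ⟨i, rfl⟩ := List.mem_ofFn.mp hx
        exact (hb i).imp (fun h => h) fun h => h.2
      · have h := hk k (by simpa using hk')
        rwa [show (fun x => c⁻¹ * x * c) '' Y = Y from
          Techniques.Alperin.Chain.cs_of_mem_centralizer hc.2] at h) X a hX hXa
  obtain ⟨l, hl, hgl, hlk⟩ := hpath.toList
  refine ⟨c, hc, l.length, l.get, fun i => ?_, ?_, fun k _ => ?_⟩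
  · exact (hl _ (List.get_mem l i)).imp (fun h => ⟨trivial, h⟩) fun h => ⟨trivial, h⟩
  · rw [List.ofFn_get, hg, hgl]
  · rw [List.ofFn_get, show (fun x => c⁻¹ * x * c) '' X = X from
      Techniques.Alperin.Chain.cs_of_mem_centralizer hc]
    exact hlk k

end Cfsg.Agent.S2002
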