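import Cfsg.Statements.S2007
import Mathlib
import Cfsg.Agent.Lib.Transfer.NormalPComplement
import Cfsg.Agent.Techniques.Sylow

set_option autoImplicit false
open Cfsg

namespace Cfsg.Agent.S2007

/-- Let p be a prime, G a finite group with Sylow p-subgroup S, and T a normal subgroup of S containing C_S(T). If N_G(T)/C_G(T) is a p-group (every element of N_G(T) of order prime to p centralizes T), then N_G(T) has a normal p-complement. -/
theorem result {G : Type*} [Group G] [Finite G] {p : ℕ} [Fact p.Prime] (S : Sylow p G) (T : Subgroup G) (hTS : T ≤ (S : Subgroup G)) (hTn : (S : Subgroup G) ≤ Subgroup.normalizer ((T : Subgroup G) : Set G)) (hC : (S : Subgroup G) ⊓ Subgroup.centralizer ((T : Subgroup G) : Set G) ≤ T) (hN : ∀ g ∈ Subgroup.normalizer ((T : Subgroup G) : Set G), (orderOf g).Coprime p → g ∈ Subgroup.centralizer ((T : Subgroup G) : Set G)) : Cfsg.HasNormalPComplement p ↥(Subgroup.normalizer ((T : Subgroup G) : Set G)) := by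
  set N := Subgroup.normalizer ((T : Subgroup G) : Set G) with hNdef
  set C := (Subgroup.centralizer ((T : Subgroup G) : Set G)).subgroupOf N with hCdef
  have hTnormal : (T.subgroupOf N).Normal :=
    Subgroup.normal_subgroupOf_of_le_normalizer le_rfl
  have hCn : C.Normal := by
    refine ⟨fun c hc g => ?_⟩
    rw [hCdef, Subgroup.mem_subgroupOf, Subgroup.mem_centralizer_iff] at hc ⊢
    intro t ht
    have ht' : (g : G)⁻¹ * t * g ∈ T := by
      have := (Subgroup.mem_normalizer_iff.mp (inv_mem g.2) t).mp ht
      simpa using this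
    have := hc _ ht'
    simp only [Subgroup.coe_mul, Subgroup.coe_inv]
    calc t * ((g : G) * c * (g : G)⁻¹) = (g : G) * ((g : G)⁻¹ * t * g * c) * (g : G)⁻¹ := by group
      _ = _ := by rw [this]; group
  obtain ⟨S', hS'⟩ : ∃ S' : Sylow p N, (S' : Subgroup N).map N.subtype = (S : Subgroup G) := by
    refine Techniques.exists_sylow_of_not_dvd_relIndex S.2 ?_ hTn
    exact fun h => S.not_dvd_index (h.trans (Subgroup.relIndex_dvd_index_of_le hTn))
  -- the Sylow subgroup of the centralizer is central
  obtain ⟨P, hP⟩ := Techniques.exists_sylow_of_not_dvd_relIndex (Techniques.isPGroup_inf S' C)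
    (Techniques.not_dvd_relIndex_of_normal S' C) inf_le_right
  have hcentral : ∀ x : C, x ∈ (P : Subgroup C) → ∀ c : C, c * x = x * c := by
    intro x hx c
    have hx' : (x : N) ∈ (S' : Subgroup N) ⊓ C := hP ▸ Subgroup.mem_map_of_mem C.subtype hx
    have hxS : ((x : N) : G) ∈ (S : Subgroup G) := hS' ▸ Subgroup.mem_map_of_mem N.subtype hx'.1
    have hxC : ((x : N) : G) ∈ Subgroup.centralizer ((T : Subgroup G) : Set G) := hx'.2
    have hxT : ((x : N) : G) ∈ T := hC ⟨hxS, hxC⟩
    have hcC : ((c : N) : G) ∈ Subgroup.centralizer ((T : Subgroup G) : Set G) := c.2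
    apply Subtype.ext
    apply Subtype.ext
    exact (Subgroup.mem_centralizer_iff.mp hcC _ hxT).symm
  have hCpc : Cfsg.HasNormalPComplement p C :=
    Transfer.NormalPComplement.hasNormalPComplement_of_normalizer_le_centralizer P
      (fun c _ => Subgroup.mem_centralizer_iff.mpr fun x hx => (hcentral x hx c).symm)
  have hquot : IsPGroup p (N ⧸ C) := by
    intro q
    obtain ⟨g, rfl⟩ := QuotientGroup.mk'_surjective C q
    obtain ⟨k, hk⟩ := Transfer.NormalPComplement.pow_pResidual_mem (p := p) g
    refine ⟨k, ?_⟩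
    rw [← map_pow]
    refine (QuotientGroup.eq_one_iff _).mpr ?_
    have hle : Cfsg.pResidual p N ≤ C := by
      refine (Subgroup.closure_le _).mpr fun x hx => ?_
      exact hN x x.2 (by rwa [Subgroup.orderOf_coe])
    exact hle hk
  obtain ⟨j, hj⟩ : ∃ j, C.index = p ^ j := by
    rw [Subgroup.index_eq_card]
    exact hquot.exists_card_eq
  obtain ⟨K, hKn, hKc, i, hKi⟩ := Transfer.NormalPComplement.hasNormalPComplement_iff_exists.mp hCpc
  have hKr : K = Cfsg.pResidual p C := by
    refine le_antisymm (Transfer.NormalPComplement.le_pResidual_of_coprime hKc) ?_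
    haveI := hKn
    exact Transfer.NormalPComplement.pResidual_le_of_index_eq hKi
  refine Transfer.NormalPComplement.hasNormalPComplement_iff_exists.mpr ⟨K.map C.subtype, ?_, ?_, i + j, ?_⟩
  · subst hKr
    haveI : (Cfsg.pResidual p C).Characteristic :=
      Subgroup.characteristic_iff_map_le.mpr fun φ => Transfer.NormalPComplement.map_pResidual_le _
    infer_instance
  · rwa [Subgroup.card_map_of_injective C.subtype_injective]
  · rw [Subgroup.index_map_subtype, hKi, hj, pow_add]

end Cfsg.Agent.S2007
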