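import Cfsg.Statements.S2008
import Mathlib

set_option autoImplicit false
open Cfsg

namespace Cfsg.Agent.S2008

/-- Let H be a finite group and z an involution such that every proper normal subgroup of H meets the centralizer of z trivially, and suppose z lies in a Klein four-subgroup E of H all three of whose involutions are conjugate to z in H. Then H has no non-trivial abelian normal subgroup. -/
theorem result {H : Type*} [Group H] [Finite H] (z : H) (hz : orderOf z = 2) (hN : ∀ N : Subgroup H, N.Normal → N ≠ ⊤ → N ⊓ Subgroup.centralizer ({z} : Set H) = ⊥) (E : Subgroup H) (hE : IsKleinFour ↥E) (hzE : z ∈ E) (hc : ∀ e ∈ E, e ≠ 1 → IsConj z e) (N : Subgroup H) [N.Normal] (hab : IsMulCommutative ↥N) : N = ⊥ := by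
  classical
  have hE4 : Nat.card E = 4 := IsKleinFour.card_four
  have hex : ∃ e ∈ E, e ≠ 1 ∧ e ≠ z := by
    by_contra hcon
    push Not at hcon
    have : Nat.card E ≤ Nat.card ({1, z} : Set H) :=
      Nat.card_le_card_of_injective (fun e => (⟨e.1, by
        by_cases h : (e : H) = 1
        · exact Or.inl h
        · exact Or.inr (hcon e e.2 h)⟩ : ({1, z} : Set H)))
        (fun a b h => by apply Subtype.ext; simpa using h)
    have h2 : Nat.card ({1, z} : Set H) ≤ 2 := by
      rw [Nat.card_coe_set_eq]
      exact (Set.ncard_insert_le _ _).trans (by rw [Set.ncard_singleton])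
    omega
  obtain ⟨e, heE, he1, hez⟩ := hex
  have hNtop : N ≠ ⊤ := by
    intro h
    subst h
    obtain ⟨g, hg⟩ := isConj_iff.mp (hc e heE he1)
    have hcomm : g * z = z * g := congrArg Subtype.val (hab.is_comm.comm ⟨g, trivial⟩ ⟨z, trivial⟩)
    rw [hcomm, mul_inv_cancel_right] at hg
    exact hez hg.symm
  have hz2 : z * z = 1 := by rw [← pow_two, ← hz, pow_orderOf_eq_one]
  have hfix : ∀ x ∈ N, ∀ f ∈ E, f ≠ 1 → f * x * f = x⁻¹ := by
    intro x hx f hf hf1
    obtain ⟨g, rfl⟩ := isConj_iff.mp (hc f hf hf1)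
    have key : ∀ y ∈ N, z * y * z = y⁻¹ := by
      intro y hy
      have hzyz : z * y * z ∈ N := by
        have := (inferInstance : N.Normal).conj_mem y hy z
        rwa [inv_eq_of_mul_eq_one_right hz2] at this
      have hcomm : y * (z * y * z) = z * y * z * y :=
        congrArg Subtype.val (hab.is_comm.comm ⟨y, hy⟩ ⟨_, hzyz⟩)
      have hw : y * (z * y * z) ∈ N ⊓ Subgroup.centralizer ({z} : Set H) := by
        refine Subgroup.mem_inf.mpr ⟨N.mul_mem hy hzyz, Subgroup.mem_centralizer_singleton_iff.mpr ?_⟩
        calc y * (z * y * z) * z = y * z * y * (z * z) := by group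
          _ = (z * z) * (y * z * y) := by rw [hz2, mul_one, one_mul]
          _ = z * (z * y * z * y) := by group
          _ = _ := by rw [← hcomm]
      rw [hN N inferInstance hNtop, Subgroup.mem_bot] at hw
      exact eq_inv_of_mul_eq_one_right hw
    have h := key (g⁻¹ * x * g) (by simpa using (inferInstance : N.Normal).conj_mem x hx g⁻¹)
    calc g * z * g⁻¹ * x * (g * z * g⁻¹) = g * (z * (g⁻¹ * x * g) * z) * g⁻¹ := by group
      _ = x⁻¹ := by rw [h]; group
  rw [eq_bot_iff]
  intro x hx
  rw [Subgroup.mem_bot]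
  have hzx : z * x * z = x⁻¹ := hfix x hx z hzE (fun h => by simp [h] at hz)
  have hex2 : e * x * e = x⁻¹ := hfix x hx e heE he1
  have hee : e * e = 1 := congrArg Subtype.val (IsKleinFour.mul_self (G := E) ⟨e, heE⟩)
  have hzee : z * e ≠ 1 := fun h => hez (by rw [← mul_one z, ← hee, ← mul_assoc, h, one_mul])
  have h3 := hfix x hx (z * e) (E.mul_mem hzE heE) hzee
  have hc' : e * z = z * e := by
    have hcomm := IsKleinFour.mul_self (G := E) ⟨z * e, E.mul_mem hzE heE⟩
    have h4 : z * e * (z * e) = 1 := congrArg Subtype.val hcomm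
    calc e * z = z * (z * e * (z * e)) * e := by
          rw [show z * (z * e * (z * e)) * e = (z * z) * (e * z) * (e * e) by group, hz2, hee, one_mul, mul_one]
      _ = z * e := by rw [h4, mul_one]
  have h5 : z * e * x * (z * e) = x := by
    calc z * e * x * (z * e) = z * e * x * (e * z) := by rw [hc']
      _ = z * (e * x * e) * z := by group
      _ = z * x⁻¹ * z := by rw [hex2]
      _ = (z * x * z)⁻¹ := by rw [mul_inv_rev, mul_inv_rev, inv_eq_of_mul_eq_one_right hz2, mul_assoc]
      _ = x := by rw [hzx, inv_inv]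
  rw [h3] at h5
  have hz' : z * x * z = x := hzx.trans h5
  have hw : x ∈ N ⊓ Subgroup.centralizer ({z} : Set H) := by
    refine Subgroup.mem_inf.mpr ⟨hx, Subgroup.mem_centralizer_singleton_iff.mpr ?_⟩
    calc x * z = z * x * z * z := by rw [hz']
      _ = z * x := by rw [mul_assoc, hz2, mul_one]
  rw [hN N inferInstance hNtop, Subgroup.mem_bot] at hw
  exact hw

end Cfsg.Agent.S2008
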