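import Cfsg.Statements.S2009
import Mathlib
import Cfsg.Agent.S2008

set_option autoImplicit false
open Cfsg

namespace Cfsg.Agent.S2009

/-- Let H be a finite group and z an involution such that every proper normal subgroup of H meets the centralizer of z trivially, and suppose z lies in a Klein four-subgroup E of H all three of whose involutions are conjugate to z in H. Then H is simple. -/
theorem result {H : Type*} [Group H] [Finite H] (z : H) (hz : orderOf z = 2) (hN : ∀ N : Subgroup H, N.Normal → N ≠ ⊤ → N ⊓ Subgroup.centralizer ({z} : Set H) = ⊥) (E : Subgroup H) (hE : IsKleinFour ↥E) (hzE : z ∈ E) (hc : ∀ e ∈ E, e ≠ 1 → IsConj z e) : IsSimpleGroup H := by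
  haveI : Nontrivial H := ⟨⟨z, 1, fun h => by simp [h] at hz⟩⟩
  refine ⟨fun N hNn => ?_⟩
  by_contra hcon
  push Not at hcon
  obtain ⟨hbot, htop⟩ := hcon
  haveI := hNn
  refine hbot (S2008.result z hz hN E hE hzE hc N ?_)
  let φ : N ≃* N := MulAut.conjNormal z
  have hfpf : MonoidHom.FixedPointFree φ := by
    intro x hx
    have h : z * (x : H) * z⁻¹ = x := by
      have := congrArg Subtype.val hx
      simpa [φ] using this
    have hw : (x : H) ∈ N ⊓ Subgroup.centralizer ({z} : Set H) :=
      Subgroup.mem_inf.mpr ⟨x.2, Subgroup.mem_centralizer_singleton_iff.mpr (mul_inv_eq_iff_eq_mul.mp h).symm⟩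
    rw [hN N hNn htop, Subgroup.mem_bot] at hw
    exact Subtype.ext hw
  have hinv : Function.Involutive φ := by
    intro x
    apply Subtype.ext
    have hz2 : z * z = 1 := by rw [← pow_two, ← hz, pow_orderOf_eq_one]
    simp only [φ, MulAut.conjNormal_apply]
    calc z * (z * (x : H) * z⁻¹) * z⁻¹ = z * z * x * (z * z)⁻¹ := by group
      _ = x := by rw [hz2]; group
  exact ⟨⟨fun a b => (hfpf.commute_all_of_involutive hinv a b).eq⟩⟩

end Cfsg.Agent.S2009
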