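import Cfsg.Statements.S2011
import Cfsg.Agent.Lib.Fusion.Group
import Cfsg.Agent.Lib.PLocal.PSolvable
import Cfsg.Agent.Lib.PLocal.Cores
import Cfsg.Agent.Lib.Transfer.Fusion

set_option autoImplicit false
open Cfsg

namespace Cfsg.Agent.S2011

/-- Let G be a finite group with Sylow p-subgroup P and Q ≤ P. Then Q is centric in the fusion system of G on P (C_P(R) ≤ R for every G-conjugate R of Q lying in P) if and only if C_G(Q) is the internal direct product of Z(Q) = Q ∩ C_G(Q) and the largest normal subgroup of C_G(Q) of order prime to p. -/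
theorem result {G : Type*} [Group G] [Finite G] (p : ℕ) [Fact p.Prime] (P : Sylow p G) (Q : Subgroup G) (hQ : Q ≤ P) : (Cfsg.groupFusionSystem (P : Subgroup G)).IsCentric Q ↔ Cfsg.IsInternalDirectProduct (Q ⊓ Subgroup.centralizer (Q : Set G)) ((Cfsg.pPrimeCore p ↥(Subgroup.centralizer (Q : Set G))).map (Subgroup.centralizer (Q : Set G)).subtype) (Subgroup.centralizer (Q : Set G)) := by
  set C := Subgroup.centralizer (Q : Set G) with hC
  set Z := Q ⊓ C with hZ
  set K := (Cfsg.pPrimeCore p ↥C).map C.subtype with hK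
  have hP2 : IsPGroup p ↥(P : Subgroup G) := P.2
  have hQp : IsPGroup p Q := hP2.to_le hQ
  have hKc : (Nat.card K).Coprime p := by
    rw [hK, Subgroup.card_map_of_injective C.subtype_injective]
    exact PLocal.Cores.coprime_card_pPrimeCore
  have himg : ∀ g : G, Fusion.Basic.img (Fusion.Basic.cj g) Q = Q.map (MulAut.conj g).toMonoidHom := by
    intro g
    show Subgroup.closure ((MulAut.conj g).toMonoidHom '' (Q : Set G)) = _
    rw [← MonoidHom.map_closure, Subgroup.closure_eq]
  have hzc : ∀ z ∈ Z, ∀ c ∈ C, z * c = c * z := fun z hz c hc =>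
    Subgroup.mem_centralizer_iff.mp hc z hz.1
  have hZp : IsPGroup p Z := hQp.to_le inf_le_left
  constructor
  · intro hcen
    have hsyl : ¬ p ∣ (Z.subgroupOf C).index := by
      obtain ⟨T⟩ : Nonempty (Sylow p ↥C) := inferInstance
      set T' := (T : Subgroup ↥C).map C.subtype with hT'
      have hQT : IsPGroup p ↥(Q ⊔ T' : Subgroup G) := hQp.to_sup_of_normal_left' (T.2.map _) <| by
        intro t ht
        exact Subgroup.centralizer_le_normalizer (Q : Set G) (Subgroup.map_subtype_le _ ht)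
      obtain ⟨P', hP'⟩ := hQT.exists_le_sylow
      obtain ⟨g, hg⟩ := MulAction.exists_smul_eq G P' P
      have hin : (Q ⊔ T').map (MulAut.conj g).toMonoidHom ≤ (P : Subgroup G) := by
        rw [← hg, Transfer.Fusion.coe_smul_eq_map]; exact Subgroup.map_mono hP'
      set R := Q.map (MulAut.conj g).toMonoidHom with hR
      have hconj : (Cfsg.groupFusionSystem (P : Subgroup G)).IsConj Q R :=
        Fusion.Group.isConj_group_iff.mpr
          ⟨hQ, (Subgroup.map_mono le_sup_left).trans hin, g, himg g⟩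
      have hTR : T'.map (MulAut.conj g).toMonoidHom ≤ R := by
        intro x hx
        refine hcen.2 R hconj ⟨hin (Subgroup.map_mono le_sup_right hx), ?_⟩
        obtain ⟨t, ht, rfl⟩ := hx
        refine Subgroup.mem_centralizer_iff.mpr ?_
        rintro _ ⟨q, hq, rfl⟩
        have := Subgroup.mem_centralizer_iff.mp (Subgroup.map_subtype_le _ ht : t ∈ C) q hq
        simp [mul_assoc]
        rw [← mul_assoc q, this, mul_assoc]
      have hTQ : T' ≤ Q := by
        intro t ht
        obtain ⟨q, hq, hqe⟩ := hTR ⟨t, ht, rfl⟩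
        exact (MulAut.conj g).injective hqe ▸ hq
      have hTZ : (T : Subgroup ↥C) ≤ Z.subgroupOf C := fun t ht =>
        Subgroup.mem_subgroupOf.mpr ⟨hTQ ⟨t, ht, rfl⟩, t.2⟩
      exact fun h => T.not_dvd_index (h.trans (Subgroup.index_dvd_of_le hTZ))
    have hZcen : Z.subgroupOf C ≤ Subgroup.center ↥C := fun z hz => Subgroup.mem_center_iff.mpr
      fun c => Subtype.ext (hzc z (Subgroup.mem_subgroupOf.mp hz) c c.2).symm
    obtain ⟨k, hk⟩ := Transfer.NormalPComplement.hasNormalPComplement_iff_pPrimeCore.mp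
      (PLocal.PSolvable.hasNormalPComplement_of_central hZcen (hZp.comap_subtype) hsyl)
    refine ⟨inf_le_right, Subgroup.map_subtype_le _,
      fun a ha b hb => hzc a ha b (Subgroup.map_subtype_le _ hb), ?_, ?_⟩
    · exact Subgroup.inf_eq_bot_of_coprime (by
        obtain ⟨i, hi⟩ := IsPGroup.iff_card.mp hZp
        rw [hi]; exact Nat.Coprime.pow_left i hKc.symm)
    · refine le_antisymm (sup_le inf_le_right (Subgroup.map_subtype_le _)) fun c hc => ?_
      have htop : Z.subgroupOf C ⊔ Cfsg.pPrimeCore p ↥C = ⊤ := by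
        rw [← Subgroup.index_eq_one]
        have h1 := Subgroup.index_dvd_of_le (le_sup_left : Z.subgroupOf C ≤ Z.subgroupOf C ⊔ Cfsg.pPrimeCore p ↥C)
        have h2 := Subgroup.index_dvd_of_le (le_sup_right : Cfsg.pPrimeCore p ↥C ≤ Z.subgroupOf C ⊔ Cfsg.pPrimeCore p ↥C)
        rw [hk] at h2
        obtain ⟨i, -, hi⟩ := (Nat.dvd_prime_pow Fact.out).mp h2
        rcases Nat.eq_zero_or_pos i with rfl | hi0
        · rw [hi, pow_zero]
        · exact absurd ((dvd_pow_self p hi0.ne').trans (hi ▸ h1)) hsyl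
      have hmem : (⟨c, hc⟩ : ↥C) ∈ Z.subgroupOf C ⊔ Cfsg.pPrimeCore p ↥C := htop ▸ Subgroup.mem_top _
      have hmap := Subgroup.mem_map_of_mem C.subtype hmem
      rw [Subgroup.map_sup, Subgroup.map_subgroupOf_eq_of_le (show Z ≤ C from inf_le_right)] at hmap
      exact hmap
  · rintro ⟨-, -, hcomm, -, hsup⟩
    refine ⟨hQ, fun R hR => ?_⟩
    obtain ⟨-, -, g, hg⟩ := Fusion.Group.isConj_group_iff.mp hR
    rw [himg] at hg
    subst hg
    rintro x ⟨hxP, hxC⟩
    obtain ⟨a, ha⟩ := hP2 ⟨x, hxP⟩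
    have ha' : x ^ p ^ a = 1 := congrArg Subtype.val ha
    set y := g⁻¹ * x * g with hy
    have hyC : y ∈ C := by
      refine Subgroup.mem_centralizer_iff.mpr fun q hq => ?_
      have := Subgroup.mem_centralizer_iff.mp hxC (g * q * g⁻¹) ⟨q, hq, rfl⟩
      rw [hy]
      calc q * (g⁻¹ * x * g) = g⁻¹ * ((g * q * g⁻¹) * x) * g := by group
        _ = g⁻¹ * (x * (g * q * g⁻¹)) * g := by rw [this]
        _ = _ := by group
    have hKC : K ≤ Subgroup.normalizer (Z : Set G) := by
      intro b hb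
      apply Subgroup.centralizer_le_normalizer
      exact Subgroup.mem_centralizer_iff.mpr fun z hz => hcomm z hz b hb
    have hy' : y ∈ ((Z ⊔ K : Subgroup G) : Set G) := by rw [SetLike.mem_coe, hsup]; exact hyC
    rw [Subgroup.coe_mul_of_right_le_normalizer_left Z K hKC] at hy'
    obtain ⟨z, hz, b, hb, hzb⟩ := Set.mem_mul.mp hy'
    have hyp : y ^ p ^ a = 1 := by
      have hxy : MulAut.conj g y = x := by simp [hy, mul_assoc]
      apply (MulAut.conj g).injective
      rw [map_pow, hxy, ha', map_one]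
    obtain ⟨b', hb'⟩ := hZp ⟨z, hz⟩
    have hzp : z ^ p ^ b' = 1 := congrArg Subtype.val hb'
    have hb1 : b = 1 := by
      have hpow : b ^ p ^ (a + b') = 1 := by
        have h0 : y ^ p ^ (a + b') = 1 := by rw [pow_add, pow_mul, hyp, one_pow]
        have hz0 : z ^ p ^ (a + b') = 1 := by rw [pow_add, mul_comm, pow_mul, hzp, one_pow]
        rwa [← hzb, Commute.mul_pow (hcomm z hz b hb), hz0, one_mul] at h0
      rw [← orderOf_eq_one_iff]
      refine Nat.eq_one_of_dvd_coprimes (hKc.pow_right (a + b')) ?_ (orderOf_dvd_of_pow_eq_one hpow)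
      rw [← Subgroup.orderOf_mk b hb]
      exact orderOf_dvd_natCard _
    refine ⟨z, hz.1, ?_⟩
    rw [hb1, mul_one] at hzb
    simp [hzb, hy, mul_assoc]

end Cfsg.Agent.S2011
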