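import Cfsg.Statements.S2014
import Cfsg.Agent.Techniques.Sylow
import Cfsg.Agent.Lib.Transfer.NormalPComplement

set_option autoImplicit false
open Cfsg

namespace Cfsg.Agent.S2014

/-- Let P be a Sylow p-subgroup of a finite group G and A, C ≤ P subgroups conjugate in G, with C extremal: N_P(C) is a Sylow p-subgroup of N_G(C). Then there is g with gAg⁻¹ = C and g N_P(A) g⁻¹ ≤ N_P(C); moreover, given any h with hAh⁻¹ = C, g can be chosen so that h g⁻¹ lies in O^p(N_G(C)), the subgroup of N_G(C) generated by its elements of order prime to p. -/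
theorem result {G : Type*} [Group G] [Finite G] (p : ℕ) [Fact p.Prime] (P : Sylow p G) (A C : Subgroup G) (hA : A ≤ P) (hC : C ≤ P) (hext : ¬ p ∣ ((P : Subgroup G) ⊓ Subgroup.normalizer ((C : Subgroup G) : Set G)).relIndex (Subgroup.normalizer ((C : Subgroup G) : Set G))) (h : G) (hh : A.map (MulAut.conj h).toMonoidHom = C) : ∃ g : G, A.map (MulAut.conj g).toMonoidHom = C ∧ ((P : Subgroup G) ⊓ Subgroup.normalizer ((A : Subgroup G) : Set G)).map (MulAut.conj g).toMonoidHom ≤ (P : Subgroup G) ⊓ Subgroup.normalizer ((C : Subgroup G) : Set G) ∧ h * g⁻¹ ∈ (Cfsg.pResidual p ↥(Subgroup.normalizer ((C : Subgroup G) : Set G))).map (Subgroup.normalizer ((C : Subgroup G) : Set G)).subtype := by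
  set N := Subgroup.normalizer ((C : Subgroup G) : Set G) with hN
  set PC := (P : Subgroup G) ⊓ N with hPC
  set D := ((P : Subgroup G) ⊓ Subgroup.normalizer ((A : Subgroup G) : Set G)).map (MulAut.conj h).toMonoidHom with hD
  have hDN : D ≤ N := by
    refine (Subgroup.map_mono inf_le_right).trans ?_
    rw [Techniques.map_conj_normalizer, hh]
  have hDp : IsPGroup p D := (Techniques.isPGroup_inf P _).map _
  obtain ⟨c, hc, hcD⟩ := Techniques.exists_conj_le_of_not_dvd_relIndex inf_le_right
    (Techniques.isPGroup_inf P N) hext hDp hDN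
  obtain ⟨S, hS⟩ := Techniques.exists_sylow_of_not_dvd_relIndex (Techniques.isPGroup_inf P N) hext inf_le_right
  have hmem : (⟨c, hc⟩ : N) ∈ (S : Subgroup N) ⊔ Cfsg.pResidual p N := by
    rw [sup_comm, Transfer.NormalPComplement.pResidual_sup_sylow]; exact Subgroup.mem_top _
  haveI : (Cfsg.pResidual p N).Normal := inferInstance
  obtain ⟨s, hs, r, hr, hsr⟩ := Subgroup.mem_sup_of_normal_right.mp hmem
  have hcsr : (s : G) * (r : G) = c := congrArg Subtype.val hsr
  have hsP : (s : G) ∈ (P : Subgroup G) ⊓ N := hS ▸ Subgroup.mem_map_of_mem N.subtype hs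
  refine ⟨(r : G) * h, ?_, ?_, ?_⟩
  · rw [← Techniques.map_conj_conj, hh]
    apply Subgroup.eq_of_le_of_card_ge ?_ (Subgroup.card_map_of_injective (MulAut.conj _).injective).ge
    rw [Techniques.map_conj_le_iff]
    exact fun x hx => (Subgroup.mem_normalizer_iff.mp r.2 x).mp hx
  · rw [← Techniques.map_conj_conj, Techniques.map_conj_le_iff]
    intro x hx
    have h1 := hcD x hx
    rw [← hcsr] at h1
    have h2 := PC.mul_mem (PC.mul_mem (PC.inv_mem hsP) h1) hsP
    simpa [mul_assoc] using h2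
  · refine ⟨r⁻¹, Subgroup.inv_mem _ hr, ?_⟩
    show ((r⁻¹ : N) : G) = h * ((r : G) * h)⁻¹
    simp [mul_inv_rev, ← mul_assoc]

end Cfsg.Agent.S2014
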