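import Cfsg.Agent.Lib.J3.Mult
import Cfsg.Prelude.Def_KGroupFacts

namespace Cfsg.Agent.S2041

open Cfsg.Agent.Lib.J3

theorem result {F : Type*} [Field F] [Fintype F] (hF : Fintype.card F = 4) (ω : F) (hω : ω ^ 2 + ω + 1 = 0) : Cfsg.HasCyclicSchurMultiplier (Cfsg.Spor.J3 F ω) 3 := by
  have h : Fld F ω := Fld.of_card hF hω
  haveI : Small.{0} (Cfsg.Spor.threeJ3 F ω) := by
    obtain ⟨k, ⟨f⟩⟩ := Finite.exists_equiv_fin (Cfsg.Spor.threeJ3 F ω)
    exact small_map f
  let e : Cfsg.Spor.threeJ3 F ω ≃* Shrink.{0} (Cfsg.Spor.threeJ3 F ω) := (Shrink.mulEquiv (α := _)).symm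
  haveI : Finite (Shrink.{0} (Cfsg.Spor.threeJ3 F ω)) := Finite.of_equiv _ e.toEquiv
  let θ : Shrink.{0} (Cfsg.Spor.threeJ3 F ω) →* Cfsg.Spor.J3 F ω :=
    (QuotientGroup.mk' (Subgroup.center (Cfsg.Spor.threeJ3 F ω))).comp e.symm.toMonoidHom
  have hker : θ.ker = (Subgroup.center (Cfsg.Spor.threeJ3 F ω)).map e.toMonoidHom := by
    ext x
    constructor
    · intro hx
      refine ⟨e.symm x, (QuotientGroup.eq_one_iff _).1 hx, e.apply_symm_apply x⟩
    · rintro ⟨y, hy, rfl⟩
      rw [MonoidHom.mem_ker]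
      show QuotientGroup.mk' _ (e.symm (e y)) = 1
      rw [e.symm_apply_apply, QuotientGroup.mk'_apply, QuotientGroup.eq_one_iff]
      exact hy
  have hθ : Cfsg.IsStemExtension θ := by
    refine ⟨(QuotientGroup.mk'_surjective _).comp e.symm.surjective, ?_, ?_⟩
    · rw [hker]
      rintro _ ⟨y, hy, rfl⟩
      rw [Subgroup.mem_center_iff]
      intro g
      obtain ⟨g, rfl⟩ := e.surjective g
      show e g * e y = e y * e g
      rw [← map_mul, Subgroup.mem_center_iff.1 hy g, map_mul]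
    · rw [hker, h.center_eq, MonoidHom.map_zpowers, Subgroup.zpowers_le]
      have := Subgroup.mem_map_of_mem e.toMonoidHom (Mult.scalGen_mem_commutator h)
      rwa [commutator_def, Subgroup.map_commutator, Subgroup.map_top_of_surjective _ e.surjective] at this
  have hcard : Nat.card θ.ker = 3 := by
    rw [hker, Subgroup.card_map_of_injective e.injective, h.card_center]
  haveI : IsCyclic θ.ker := isCyclic_of_prime_card (p := 3) hcard
  exact Cfsg.Agent.SimpleFacts.SchurFromCover.hasCyclic_of_cover θ hθ (Mult.trivial_multiplier h _ e) 3 hcard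

end Cfsg.Agent.S2041
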