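import Cfsg.Statements.S2043
import Cfsg.Agent.Lib.PcMult.Co0.Main
import Cfsg.Agent.SimpleFacts.SchurFromCover
-- import your own Cfsg.Agent.* helpers here

set_option autoImplicit false
open Cfsg

namespace Cfsg.Agent.S2043

/-- The Schur multiplier of the Conway group Co₁ (the automorphism group of the rank-24 lattice modulo its centre) is cyclic of order 2; here the Schur multiplier is described through stem extensions, as in the definitions: surjective homomorphisms onto the group from a finite group, whose kernel is central in that finite group and contained in that finite group's commutator subgroup. -/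
theorem result : Cfsg.HasCyclicSchurMultiplier Cfsg.Spor.Co1 2 := by
  haveI : Finite Cfsg.Co0 :=
    Nat.finite_of_card_ne_zero (by rw [Cfsg.Agent.LeechAut.Cross.card_Co0]; norm_num)
  let θ : ↥Cfsg.Co0 →* Cfsg.Spor.Co1 := QuotientGroup.mk' (Subgroup.center ↥Cfsg.Co0)
  have hker : θ.ker = Subgroup.center ↥Cfsg.Co0 := QuotientGroup.ker_mk' _
  have hθ : Cfsg.IsStemExtension θ :=
    ⟨QuotientGroup.mk'_surjective _, hker.le,
      by rw [Cfsg.Agent.LeechAut.Co1.commutator_eq_top]; exact le_top⟩
  have hn : Nat.card θ.ker = 2 := by rw [hker]; exact Cfsg.Agent.LeechAut.Cross.card_center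
  haveI : Fact (Nat.Prime 2) := ⟨Nat.prime_two⟩
  haveI : IsCyclic θ.ker := isCyclic_of_prime_card hn
  exact Cfsg.Agent.SimpleFacts.SchurFromCover.hasCyclic_of_cover θ hθ
    Cfsg.Agent.Lib.PcMult.Co0.trivial_multiplier 2 hn

end Cfsg.Agent.S2043
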