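import Cfsg.Statements.S2054
import Cfsg.Agent.Lib.FiMult.Fi23Upper

set_option autoImplicit false
open Cfsg

namespace Cfsg.Agent.S2054

/-- The Schur multiplier of the Fischer group Fi₂₃ (the finitely presented group of the definitions) is trivial; here the Schur multiplier is described through stem extensions, as in the definitions: surjective homomorphisms onto the group from a finite group, whose kernel is central in that finite group and contained in that finite group's commutator subgroup. -/
theorem result : Cfsg.HasCyclicSchurMultiplier Cfsg.Spor.Fi23 1 := by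
  haveI : Finite Cfsg.Spor.Fi23 :=
    Nat.finite_of_card_ne_zero (by rw [Cfsg.Agent.InvChar.Coset.Fi23G.card_GG]; norm_num)
  refine ⟨⟨Cfsg.Spor.Fi23, inferInstance, inferInstance, MonoidHom.id _, ⟨Function.surjective_id, ?_, ?_⟩, ?_⟩, ?_⟩
  · rw [MonoidHom.ker_id]; exact bot_le
  · rw [MonoidHom.ker_id]; exact bot_le
  · haveI : Unique (MonoidHom.id Cfsg.Spor.Fi23).ker :=
      { default := 1, uniq := fun a => Subtype.ext (MonoidHom.mem_ker.1 a.2) }
    exact ⟨MulEquiv.ofUnique⟩
  · intro Γ _ _ σ hσ
    refine ⟨1, fun a => ⟨1, ?_⟩⟩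
    have h : (a : Γ) ∈ (⊥ : Subgroup Γ) := Cfsg.Agent.Lib.FiMult.TwentyThree.ker_trivial σ hσ ▸ a.2
    exact Subtype.ext (by simpa using (Subgroup.mem_bot.1 h).symm)

end Cfsg.Agent.S2054
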