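import Cfsg.Statements.S2060
-- import your own Cfsg.Agent.* helpers here
import Cfsg.Agent.Recognition.MathieuEleven
import Cfsg.Agent.Recognition.MathieuElevenAut

set_option autoImplicit false
open Cfsg

namespace Cfsg.Agent.S2060

/-- The outer automorphism group of the Mathieu group M₁₁ (the stabiliser of a dodecad and one of its points in the automorphism group of the length-24 binary code) is trivial: every automorphism is inner. -/
theorem result : Nat.card (Cfsg.Out ↥Cfsg.Spor.M11) = 1 := by
  
  rw [Nat.card_eq_one_iff_unique]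
  refine ⟨⟨fun x y => ?_⟩, inferInstance⟩
  obtain ⟨a, rfl⟩ := QuotientGroup.mk_surjective x
  obtain ⟨b, rfl⟩ := QuotientGroup.mk_surjective y
  refine QuotientGroup.eq.2 ?_
  obtain ⟨k, hk⟩ := Recognition.MathieuElevenAut.inn_eq_top Recognition.MathieuEleven.isM11_M11 (a⁻¹ * b)
  exact ⟨k, MulEquiv.ext fun g => (hk g).symm⟩

end Cfsg.Agent.S2060
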