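import Cfsg.Agent.Lib.J3.OutTwo

namespace Cfsg.Agent.S2067

theorem result {F : Type*} [Field F] [Fintype F] (hF : Fintype.card F = 4) (ω : F) (hω : ω ^ 2 + ω + 1 = 0) : Nat.card (Cfsg.Out (Cfsg.Spor.J3 F ω)) = 2 :=
  Cfsg.Agent.Lib.J3.Outer.card_out (Cfsg.Agent.Lib.J3.Fld.of_card hF hω)

end Cfsg.Agent.S2067
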