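import Cfsg.Statements.S2087
import Cfsg.Agent.SimpleFacts.SchurFromCover
import Cfsg.Agent.SimpleFacts.SLTwoMultiplier
import Cfsg.Agent.Lib.Classical.SL2Rep
import Cfsg.Agent.Lib.Classical.Linear
import Cfsg.Agent.S0255

set_option autoImplicit false
open Cfsg

namespace Cfsg.Agent.S2087

/-- Exceptional Schur multiplier: over the field with 2 elements, PSL₃ has Schur multiplier cyclic of order 2 (here the Schur multiplier is described through stem extensions, as in the definitions). -/
theorem result {F : Type*} [Field F] [Fintype F] (hF : Fintype.card F = 2) : Cfsg.HasCyclicSchurMultiplier (Matrix.ProjectiveSpecialLinearGroup (Fin 3) F) 2 := by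
  classical
  have : Fact (Nat.Prime 7) := ⟨by norm_num⟩
  obtain ⟨e⟩ := Cfsg.Agent.S0255.result (F := ZMod 7) (ZMod.card 7) hF
  set θ := e.toMonoidHom.comp (QuotientGroup.mk' (Subgroup.center (Matrix.SpecialLinearGroup (Fin 2) (ZMod 7))))
    with hθdef
  have hker : θ.ker = Subgroup.center (Matrix.SpecialLinearGroup (Fin 2) (ZMod 7)) := by
    ext x
    rw [hθdef, MonoidHom.mem_ker, MonoidHom.comp_apply]
    exact (map_eq_one_iff e e.injective).trans (QuotientGroup.eq_one_iff x)
  have hstem : Cfsg.IsStemExtension θ := by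
    refine ⟨?_, hker.le, ?_⟩
    · rw [hθdef, MonoidHom.coe_comp]
      exact e.surjective.comp (QuotientGroup.mk'_surjective _)
    · rw [Classical.SL2Rep.commutator_two_eq_top (by rw [ZMod.card]; norm_num)]
      exact le_top
  have hcard : Nat.card θ.ker = 2 := by
    rw [hker, Classical.Linear.natCard_center_SL, ZMod.card, Fintype.card_fin]
    rfl
  have : Fact (Nat.Prime 2) := ⟨Nat.prime_two⟩
  have : IsCyclic θ.ker := isCyclic_of_prime_card hcard
  exact SimpleFacts.SchurFromCover.hasCyclic_of_cover θ hstem
    (SimpleFacts.SLTwoMultiplier.main (by rw [ZMod.card]; norm_num) (by rw [ZMod.card]; norm_num)) 2 hcard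

end Cfsg.Agent.S2087
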