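import Cfsg.Statements.S2088
import Cfsg.Agent.Lib.L34Mult.OddBound
-- import your own Cfsg.Agent.* helpers here

set_option autoImplicit false
open Cfsg

namespace Cfsg.Agent.S2088

/-- Exceptional Schur multiplier: over the field with 4 elements, PSL₃ has Schur multiplier isomorphic to the product of cyclic groups of orders 3, 4 and 4 (order 48, not cyclic; here the Schur multiplier is described through stem extensions, as in the definitions). -/
theorem result {F : Type*} [Field F] [Fintype F] (hF : Fintype.card F = 4) : Cfsg.HasSchurMultiplier (Matrix.ProjectiveSpecialLinearGroup (Fin 3) F) (Multiplicative (ZMod 3 × ZMod 4 × ZMod 4)) := by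
  haveI : CharP F 2 := charP_of_card_eq_prime_pow (f := 2) (by rw [hF]; norm_num)
  refine ⟨L34Mult.exists_cover hF, fun Γ _ _ σ hs => ?_⟩
  obtain ⟨y₁, hy₁, y₂, hy₂, h1, h2, hgen⟩ := L34Mult.exists_two_gen hF hs
  obtain ⟨z₀, hz₀, h0, hodd⟩ := L34Mult.exists_odd_gen hF hs
  have hexp := fun z (hz : z ∈ σ.ker) => L34Mult.pow_four_index hs hz
  obtain ⟨-, hc, -⟩ := hs
  have hpow : ∀ {z : Γ} {n : ℕ} [NeZero n], z ^ n = 1 → ∀ a b : ZMod n,
      z ^ (a + b).val = z ^ a.val * z ^ b.val := fun {z n} _ hz a b => by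
    rw [← pow_add, ZMod.val_add, ← pow_eq_pow_mod _ hz]
  have hK : ∀ {u : Γ}, u ∈ σ.ker → ∀ g : Γ, Commute g u := fun {u} hu =>
    Subgroup.mem_center_iff.1 (hc hu)
  let val : ZMod 3 × ZMod 4 × ZMod 4 → Γ := fun t =>
    z₀ ^ t.1.val * (y₁ ^ t.2.1.val * y₂ ^ t.2.2.val)
  have hval : ∀ t, val t ∈ σ.ker := fun t =>
    mul_mem (pow_mem hz₀ _) (mul_mem (pow_mem hy₁ _) (pow_mem hy₂ _))
  let π : Multiplicative (ZMod 3 × ZMod 4 × ZMod 4) →* σ.ker :=
    MonoidHom.mk' (fun t => ⟨val t.toAdd, hval _⟩) fun s t => Subtype.ext (by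
      change val (s.toAdd + t.toAdd) = val s.toAdd * val t.toAdd
      simp only [val, Prod.fst_add, Prod.snd_add, hpow h0, hpow h1, hpow h2]
      rw [(hK (pow_mem hy₂ s.toAdd.2.2.val) (y₁ ^ t.toAdd.2.1.val)).mul_mul_mul_comm,
        (hK (mul_mem (pow_mem hy₁ s.toAdd.2.1.val) (pow_mem hy₂ s.toAdd.2.2.val))
          (z₀ ^ t.toAdd.1.val)).mul_mul_mul_comm])
  refine ⟨π, fun z => ?_⟩
  set S : Subgroup Γ := π.range.map σ.ker.subtype with hS
  have hmem : ∀ t, val t ∈ S := fun t => ⟨π (Multiplicative.ofAdd t), ⟨_, rfl⟩, rfl⟩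
  have v3 : (1 : ZMod 3).val = 1 := rfl
  have v4 : (1 : ZMod 4).val = 1 := rfl
  have e0 : z₀ ∈ S := by simpa [val, v3, v4] using hmem (1, 0, 0)
  have e1 : y₁ ∈ S := by simpa [val, v3, v4] using hmem (0, 1, 0)
  have e2 : y₂ ∈ S := by simpa [val, v3, v4] using hmem (0, 0, 1)
  obtain ⟨m, hm⟩ := L34Mult.odd_index (F := F)
  set n := (Cfsg.Agent.AutPSL.Roots.unitri (n := 3) (F := F)).index
  have hsplit : (z : Γ) = ((z : Γ) ^ n) ^ n * (((z : Γ) ^ 4) ^ (m * m + m))⁻¹ := by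
    rw [eq_mul_inv_iff_mul_eq, ← pow_mul, ← pow_mul, hm,
      show (2 * m + 1) * (2 * m + 1) = 4 * (m * m + m) + 1 by ring, pow_succ']
  have hz : (z : Γ) ∈ S := by
    rw [hsplit]
    refine mul_mem (pow_mem (hgen S e1 e2 _ (pow_mem z.2 _) ?_) _) (inv_mem (pow_mem ?_ _))
    · rw [← pow_mul]; exact hexp _ z.2
    · exact (Subgroup.zpowers_le.2 e0) (hodd _ (pow_mem z.2 _)
        (by rw [← pow_mul, mul_comm]; exact hexp _ z.2))
  obtain ⟨w, ⟨t, ht⟩, hw⟩ := hz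
  exact ⟨t, Subtype.ext ((congrArg Subtype.val ht).trans hw)⟩

end Cfsg.Agent.S2088
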