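import Cfsg.Statements.S2092
import Cfsg.Agent.SimpleFacts.SpMult.Main
import Cfsg.Agent.SimpleFacts.SchurFromCover
-- import your own Cfsg.Agent.* helpers here

set_option autoImplicit false
open Cfsg

namespace Cfsg.Agent.S2092

/-- Schur multipliers of the symplectic groups: for m ≥ 2 and a field F with q elements (q ≥ 3 when m = 2), with (m, q) ≠ (3, 2), the Schur multiplier of PSp_2m(F) is cyclic of order gcd(2, q − 1); here the Schur multiplier is described through stem extensions, as in the definitions. -/
theorem result {F : Type*} [Field F] [Fintype F] {q : ℕ} (hF : Fintype.card F = q) (m : ℕ) (hm : 2 ≤ m) (h2 : m = 2 → 3 ≤ q) (hexc : ¬ (m = 3 ∧ q = 2)) : Cfsg.HasCyclicSchurMultiplier (Cfsg.PSp m F) (Nat.gcd 2 (q - 1)) := by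
  classical
  subst hF
  have htop : commutator (Matrix.symplecticGroup (Fin m) F) = ⊤ := by
    refine Cfsg.Agent.Classical.Symplectic.commutator_eq_top ?_
    rcases eq_or_lt_of_le hm with h | h
    · refine Or.inr (Or.inl ⟨h.symm, ?_⟩)
      by_contra hcon
      push Not at hcon
      have hsub : (Finset.univ : Finset F) ⊆ {0, 1} := fun x _ => by
        by_cases hx : x = 0
        · simp [hx]
        · simp [hcon x hx]
      have h3 := (Finset.card_le_card hsub).trans Finset.card_le_two
      rw [Finset.card_univ] at h3
      have := h2 h.symm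
      omega
    · exact Or.inl (by omega)
  have hC : Cfsg.HasCyclicSchurMultiplier (Matrix.symplecticGroup (Fin m) F) 1 :=
    SimpleFacts.SpMult.Main.main F m hm fun hq2 => by
      by_contra hlt
      rcases eq_or_lt_of_le hm with h | h
      · have := h2 h.symm
        omega
      · exact hexc ⟨by omega, hq2⟩
  let θ := QuotientGroup.mk' (Subgroup.center (Matrix.symplecticGroup (Fin m) F))
  have hker : θ.ker = Subgroup.center (Matrix.symplecticGroup (Fin m) F) := QuotientGroup.ker_mk' _
  have hcard : Nat.card θ.ker = Nat.gcd 2 (Fintype.card F - 1) := by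
    rw [hker]
    exact Cfsg.Agent.Classical.Symplectic.natCard_center (by omega)
  have : IsCyclic θ.ker := by
    rcases (Nat.dvd_prime Nat.prime_two).1 (Nat.gcd_dvd_left 2 (Fintype.card F - 1)) with h | h
    · rw [h] at hcard
      have := (Nat.card_eq_one_iff_unique.1 hcard).1
      exact isCyclic_of_subsingleton
    · rw [h] at hcard
      have : Fact (Nat.Prime 2) := ⟨Nat.prime_two⟩
      exact isCyclic_of_prime_card hcard
  exact SimpleFacts.SchurFromCover.hasCyclic_of_cover θ
    ⟨QuotientGroup.mk'_surjective _, hker.le, le_of_le_of_eq le_top htop.symm⟩ hC _ hcard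

end Cfsg.Agent.S2092
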