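import Cfsg.Statements.S2093
import Cfsg.Agent.Lib.Sp6Mult.Lower
-- import your own Cfsg.Agent.* helpers here

set_option autoImplicit false
open Cfsg

namespace Cfsg.Agent.S2093

/-- Exceptional Schur multiplier: over the field with 2 elements, PSp₆ has Schur multiplier cyclic of order 2 (here the Schur multiplier is described through stem extensions, as in the definitions). -/
theorem result {F : Type*} [Field F] [Fintype F] (hF : Fintype.card F = 2) : Cfsg.HasCyclicSchurMultiplier (Cfsg.PSp 3 F) 2 := by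
  refine ⟨Sp6Mult.exists_cover hF, fun Γ _ _ σ hs => ?_⟩
  obtain ⟨ε, hε, hε2, hall⟩ := Sp6Mult.exists_gen hF hs
  let e : σ.ker := ⟨ε, hε⟩
  have he : e ^ 2 = 1 := Subtype.ext (by
    rw [pow_two]
    exact hε2)
  let π : Multiplicative (ZMod 2) →* σ.ker :=
    MonoidHom.mk' (fun t => e ^ t.toAdd.val) fun s t => by
      change e ^ (s.toAdd + t.toAdd).val = e ^ s.toAdd.val * e ^ t.toAdd.val
      rw [← pow_add, ZMod.val_add, ← pow_eq_pow_mod _ he]
  refine ⟨π, fun z => ?_⟩
  obtain ⟨k, hk⟩ := Subgroup.mem_zpowers_iff.1 (hall z.1 z.2)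
  have h1 : π (Multiplicative.ofAdd 1) = e := pow_one e
  refine ⟨Multiplicative.ofAdd (1 : ZMod 2) ^ k, ?_⟩
  rw [map_zpow, h1]
  exact Subtype.ext hk

end Cfsg.Agent.S2093
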