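import Cfsg.Statements.S2099
import Cfsg.Agent.Lib.OrthMult.EvenMain
import Cfsg.Agent.Lib.OrthMult.MinusOddMain
import Cfsg.Agent.Lib.OrthMult.Minus3Two

set_option autoImplicit false
open Cfsg

namespace Cfsg.Agent.S2099

/-- Schur multipliers of the even-dimensional orthogonal groups of minus type: for l ≥ 4 and a field F with q elements, the Schur multiplier of PΩ⁻_2l(F) (for the form Σ_{i<l−1} xᵢyᵢ + z₁² + a z₁z₂ + b z₂² with the binary part anisotropic) is cyclic of order gcd(4, q^l + 1); here the Schur multiplier is described through stem extensions, as in the definitions. -/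
theorem result {F : Type*} [Field F] [Fintype F] {q : ℕ} (hF : Fintype.card F = q) (l : ℕ) (hl : 4 ≤ l) (a b : F) (hab : ∀ z₁ z₂ : F, z₁ ^ 2 + a * z₁ * z₂ + b * z₂ ^ 2 = 0 → z₁ = 0 ∧ z₂ = 0) : Cfsg.HasCyclicSchurMultiplier (Cfsg.POmega F (Cfsg.quadFormMinus (l - 1) F a b)) (Nat.gcd 4 (q ^ l + 1)) := by
  subst hF
  obtain ⟨k, rfl⟩ : ∃ k, l = k + 1 := ⟨l - 1, by omega⟩
  rw [show k + 1 - 1 = k from rfl]
  by_cases h2 : (2 : F) = 0
  · exact Cfsg.Agent.OrthMult.Even.minus_multiplier_even ⟨by omega, h2, hab⟩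
  · refine Cfsg.Agent.OrthMult.minus_multiplier_odd (by omega) h2 hab fun D _ _ π hs hc hperf => ?_
    by_cases h3 : k = 3 ∧ Fintype.card F = 3
    · obtain ⟨rfl, hq⟩ := h3
      exact Cfsg.Agent.OrthMult.Minus3.minus_three_ker_le ⟨hq, hab⟩ D π hs hc hperf
    · refine Cfsg.Agent.OrthMult.minus_card_ker_le (by omega) h2 (fun hk => ?_) hab D π hs hc hperf
      have hq : Fintype.card F ≠ 3 := fun e => h3 ⟨hk, e⟩
      have h1 := Fintype.one_lt_card (α := F)
      by_contra h5
      have : Fintype.card F = 2 ∨ Fintype.card F = 4 := by omega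
      apply h2
      have h0 := Nat.cast_card_eq_zero F
      rcases this with e | e <;> rw [e] at h0
      · exact_mod_cast h0
      · have h4 : (2 : F) * 2 = 0 := by push_cast at h0; linear_combination h0
        exact mul_self_eq_zero.1 h4

end Cfsg.Agent.S2099
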