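import Cfsg.Statements.S2100
import Cfsg.Agent.Lib.Chevalley.Cover.SmallFields
import Cfsg.Agent.Lib.Chevalley.Types.OrderG2
-- Template for statement S2100 (row 2100; see /opt/grader/pristine/manifest.json for weights).
-- Copy to Cfsg/Agent/S2100.lean and replace the sorry. The statement below is byte-identical to the frozen
-- statement Cfsg.CfsgFrozen.S2100 (Cfsg/Statements/S2100.lean; the theorem Cfsg.kfact_multiplier_g2);
-- the grader kernel-checks Cfsg.Agent.S2100.result against that frozen type. Keep the theorem IN THIS FILE
-- (a `result` declared elsewhere and merely imported here is not credited); helpers may live anywhere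
-- under Cfsg/Agent/.
-- import your own Cfsg.Agent.* helpers here

set_option autoImplicit false
open Cfsg

namespace Cfsg.Agent.S2100

/-- Schur multipliers of the Chevalley groups of type G₂: over a field with q ≥ 5 elements the Schur multiplier of G₂(q) is trivial (here the Schur multiplier is described through stem extensions, as in the definitions); the cases q = 3 and q = 4 are exceptional and q = 2 gives a non-simple group. -/
theorem result {F : Type*} [Field F] [Fintype F] (hF : 5 ≤ Fintype.card F) : Cfsg.HasCyclicSchurMultiplier ↥(Cfsg.Lie.chevG2.group F) 1 := by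
  have hB := Cfsg.Agent.Chevalley.Cover.SmallFields.big_of_card (F := F) hF
  exact Cfsg.Agent.Chevalley.Cover.SmallFields.group_one (F := F) Cfsg.Agent.Chevalley.Types.G2.certified
    ⟨⟨_, Cfsg.Agent.Chevalley.Types.CoefG2.coef_ok⟩, ⟨_, Cfsg.Agent.Chevalley.Types.StCerts.conj_G2⟩⟩
    Cfsg.Agent.Chevalley.Cover.K2.sym_G2
    (Cfsg.Agent.Chevalley.Cover.PerfectCover.perfect_all (by simp) (fun _ => Cfsg.Agent.Chevalley.Cover.Universal.big_ne hB))
    (fun {_ _} _ _ {_} hπ hc σ => Cfsg.Agent.Chevalley.Cover.Universal.exists_hom_lift_all hB (by simp) hπ hc σ)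
    (M' := Cfsg.Agent.Chevalley.Types.OrderG2.Q * Cfsg.Agent.Chevalley.Types.OrderG2.P) (by decide +kernel)

end Cfsg.Agent.S2100
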