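import Cfsg.Statements.S2103
import Cfsg.Agent.Lib.Chevalley.Cover.SmallFields
import Cfsg.Agent.Lib.Chevalley.Types.OrderF4
-- Template for statement S2103 (row 2103; see /opt/grader/pristine/manifest.json for weights).
-- Copy to Cfsg/Agent/S2103.lean and replace the sorry. The statement below is byte-identical to the frozen
-- statement Cfsg.CfsgFrozen.S2103 (Cfsg/Statements/S2103.lean; the theorem Cfsg.kfact_multiplier_f4);
-- the grader kernel-checks Cfsg.Agent.S2103.result against that frozen type. Keep the theorem IN THIS FILE
-- (a `result` declared elsewhere and merely imported here is not credited); helpers may live anywhere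
-- under Cfsg/Agent/.
-- import your own Cfsg.Agent.* helpers here

set_option autoImplicit false
open Cfsg

namespace Cfsg.Agent.S2103

/-- Schur multipliers of the Chevalley groups of type F₄: over a finite field with more than 2 elements the Schur multiplier of F₄(q) is trivial (here the Schur multiplier is described through stem extensions, as in the definitions); q = 2 is exceptional. -/
theorem result {F : Type*} [Field F] [Fintype F] (hF : 3 ≤ Fintype.card F) : Cfsg.HasCyclicSchurMultiplier ↥(Cfsg.Lie.chevF4.group F) 1 := by
  exact Cfsg.Agent.Chevalley.Cover.SmallFields.group_one (F := F) Cfsg.Agent.Chevalley.Types.F4.certified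
    ⟨⟨_, Cfsg.Agent.Chevalley.Types.CoefF4.coef_ok⟩, ⟨_, Cfsg.Agent.Chevalley.Types.StCerts.conj_F4⟩⟩
    Cfsg.Agent.Chevalley.Cover.K2.sym_F4
    (Cfsg.Agent.Chevalley.Cover.PerfectCover.perfect_all (by simp) (Cfsg.Agent.Chevalley.Cover.Multiplier.not_small (by decide)))
    (fun {_ _} _ _ {_} hπ hc σ => Cfsg.Agent.Chevalley.Cover.SmallFields.lift_F4 hF hπ hc σ)
    (M' := Cfsg.Agent.Chevalley.Types.OrderF4.Q * Cfsg.Agent.Chevalley.Types.OrderF4.P) (by decide +kernel)

end Cfsg.Agent.S2103
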