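import Cfsg.Statements.S2106
import Cfsg.Agent.Lib.Chevalley.Cover.Multiplier
import Cfsg.Agent.Lib.Chevalley.Cover.CenterE7
-- Template for statement S2106 (row 2106; see /opt/grader/pristine/manifest.json for weights).
-- Copy to Cfsg/Agent/S2106.lean and replace the sorry. The statement below is byte-identical to the frozen
-- statement Cfsg.CfsgFrozen.S2106 (Cfsg/Statements/S2106.lean; the theorem Cfsg.kfact_multiplier_e7);
-- the grader kernel-checks Cfsg.Agent.S2106.result against that frozen type. Keep the theorem IN THIS FILE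
-- (a `result` declared elsewhere and merely imported here is not credited); helpers may live anywhere
-- under Cfsg/Agent/.
-- import your own Cfsg.Agent.* helpers here

set_option autoImplicit false
open Cfsg

namespace Cfsg.Agent.S2106

/-- Schur multipliers of the (adjoint, simple) Chevalley groups of type E₇: over a field with q elements the Schur multiplier is cyclic of order gcd(2, q − 1) (here the Schur multiplier is described through stem extensions, as in the definitions). -/
theorem result {F : Type*} [Field F] [Fintype F] {q : ℕ} (hF : Fintype.card F = q) : Cfsg.HasCyclicSchurMultiplier ↥(Cfsg.Lie.chevE7.group F) (Nat.gcd 2 (q - 1)) := by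
  subst hF
  obtain ⟨e, -⟩ := Cfsg.Agent.Chevalley.Cover.K2.exists_iso_all (D := Cfsg.Lie.chevE7) (F := F) (by simp)
  haveI := Cfsg.Agent.Chevalley.Cover.CenterE7.isCyclic_center (F := F)
  have hA : Nonempty (Subgroup.center (Cfsg.Lie.chevE7.SteinbergGroup F) ≃*
      Multiplicative (ZMod (Nat.gcd 2 (Fintype.card F - 1)))) :=
    Cfsg.Agent.Chevalley.Cover.CenterE7.center_card (F := F) ▸
      ⟨(Subgroup.centerCongr e).symm.trans (zmodCyclicMulEquiv inferInstance).symm⟩
  exact Cfsg.Agent.Chevalley.Cover.Multiplier.group_multiplier Cfsg.Agent.Chevalley.Types.E7.certified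
    ⟨⟨_, Cfsg.Agent.Chevalley.Types.CoefE7.coef_ok⟩, ⟨_, Cfsg.Agent.Chevalley.Types.StCerts.conj_E7⟩⟩
    Cfsg.Agent.Chevalley.Cover.SLE7.ok Cfsg.Agent.Chevalley.Cover.K2.sym_E7
    (Cfsg.Agent.Chevalley.Cover.PerfectCover.perfect_all (by simp)
      (Cfsg.Agent.Chevalley.Cover.Multiplier.not_small (by decide)))
    hA (fun _ _ _ _ r s _ h => absurd h (by simp))

end Cfsg.Agent.S2106
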