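import Cfsg.Statements.S2107
import Cfsg.Agent.Lib.Chevalley.Cover.Multiplier
import Cfsg.Agent.Lib.Chevalley.Cover.SLE8
import Cfsg.Agent.Lib.Chevalley.Types.OrderE8
-- Template for statement S2107 (row 2107; see /opt/grader/pristine/manifest.json for weights).
-- Copy to Cfsg/Agent/S2107.lean and replace the sorry. The statement below is byte-identical to the frozen
-- statement Cfsg.CfsgFrozen.S2107 (Cfsg/Statements/S2107.lean; the theorem Cfsg.kfact_multiplier_e8);
-- the grader kernel-checks Cfsg.Agent.S2107.result against that frozen type. Keep the theorem IN THIS FILE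
-- (a `result` declared elsewhere and merely imported here is not credited); helpers may live anywhere
-- under Cfsg/Agent/.
-- import your own Cfsg.Agent.* helpers here

set_option autoImplicit false
open Cfsg

namespace Cfsg.Agent.S2107

/-- Schur multipliers of the Chevalley groups of type E₈: over every finite field the Schur multiplier of E₈(q) is trivial (here the Schur multiplier is described through stem extensions, as in the definitions). -/
theorem result {F : Type*} [Field F] [Fintype F] : Cfsg.HasCyclicSchurMultiplier ↥(Cfsg.Lie.chevE8.group F) 1 := by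
  open Cfsg.Agent.Chevalley in
  have hT : StKernel.HasCerts Data.E8.tab :=
    ⟨⟨_, Types.CoefE8.coef_ok⟩, ⟨_, Types.StCerts.conj_E8⟩⟩
  have hz := Cfsg.Agent.Chevalley.StSteinberg.center_eq_bot (F := F) Cfsg.Agent.Chevalley.Types.E8.certified hT
    (M' := Cfsg.Agent.Chevalley.Types.OrderE8.Q * Cfsg.Agent.Chevalley.Types.OrderE8.P) (by decide +kernel)
  haveI : Subsingleton (Subgroup.center (Cfsg.Lie.chevE8.SteinbergGroup F)) := hz ▸ inferInstance
  haveI : Unique (Subgroup.center (Cfsg.Lie.chevE8.SteinbergGroup F)) := uniqueOfSubsingleton 1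
  exact Cfsg.Agent.Chevalley.Cover.Multiplier.group_multiplier Cfsg.Agent.Chevalley.Types.E8.certified hT
    Cfsg.Agent.Chevalley.Cover.SLE8.ok Cfsg.Agent.Chevalley.Cover.K2.sym_E8
    (Cfsg.Agent.Chevalley.Cover.PerfectCover.perfect_all (by simp) (Cfsg.Agent.Chevalley.Cover.Multiplier.not_small (by decide)))
    ⟨MulEquiv.ofUnique⟩ (fun _ _ _ _ r s _ h => absurd h (by simp))

end Cfsg.Agent.S2107
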