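import Cfsg.Statements.S2108
import Cfsg.Agent.Lib.TwistMult.E6Split
import Cfsg.Agent.Lib.TwistMult.E6Root
import Cfsg.Agent.Lib.TwistMult.E6Cover
import Cfsg.Agent.Lib.TwistMult.PPart
import Cfsg.Agent.GStructB.StemExt

set_option autoImplicit false
open Cfsg

namespace Cfsg.Agent.S2108

/-- Schur multipliers of the twisted groups of type ²E₆: for a prime power q ≠ 2, with the group realised over the field with q² elements, the Schur multiplier of ²E₆(q) is cyclic of order gcd(3, q + 1) (here the Schur multiplier is described through stem extensions, as in the definitions); q = 2 is exceptional. -/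
theorem result {K : Type*} [Field K] [Fintype K] {q : ℕ} (hq : IsPrimePow q) (hK : Fintype.card K = q ^ 2) (h2 : q ≠ 2) : Cfsg.HasCyclicSchurMultiplier ↥(Cfsg.Lie.twistedE6 K q) (Nat.gcd 3 (q + 1)) := by
  classical
  obtain ⟨X⟩ := Cfsg.Agent.Chevalley.Twist.E6.exists_setup (K := K) hq hK
  obtain ⟨p, hp⟩ := CharP.exists K
  haveI := Fact.mk (CharP.char_is_prime K p)
  haveI : Finite (Cfsg.Lie.twistedE6 K q) := Finite.of_injective _ Subtype.val_injective
  have hq3 : 3 ≤ q := by have := hq.two_le; omega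
  have hperf := Cfsg.Agent.Chevalley.Twist.E6.perfect X hq
  have hbound : ∀ (E : Type _) [Group E] [Finite E] (π : E →* Cfsg.Lie.twistedE6 K q),
      Cfsg.IsStemExtension π → Nat.card π.ker ∣ Nat.gcd 3 (q + 1) := by
    intro E _ _ π hπ
    obtain ⟨U, hU⟩ := Cfsg.Agent.LieLocalChar.TwistExc.exists_sylow_E6 (p := p) X hq
    have hcop : ¬ p ∣ Nat.card π.ker := by
      refine TwistMult.not_dvd_ker hπ U ?_
      rw [hU]
      exact TwistMult.E6.exists_complement X hq hq3 ⟨hπ.1, hπ.2.1⟩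
    exact TwistMult.E6.card_ker_dvd X hq ⟨hπ.1, hπ.2.1, Fact.out, hcop⟩
      (TwistMult.perfect_of_stem hπ hperf)
  rcases (Nat.dvd_prime (by norm_num : Nat.Prime 3)).1 (Nat.gcd_dvd_left 3 (q + 1)) with h | h
  · rw [h] at hbound ⊢
    refine GStructB.StemExt.hasCyclicSchurMultiplier_one fun E _ _ π hπ => ?_
    exact Subgroup.card_eq_one.1 (Nat.dvd_one.1 (hbound E π hπ))
  · rw [h] at hbound ⊢
    haveI := Fact.mk (by norm_num : Nat.Prime 3)
    refine ⟨?_, fun Γ _ _ σ hσ => ?_⟩
    · obtain ⟨Γ, i1, i2, σ, hσ, hcard⟩ := TwistMult.E6.exists_cover X hq (h ▸ Nat.gcd_dvd_right 3 (q + 1))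
      haveI : IsCyclic σ.ker := isCyclic_of_prime_card hcard
      exact ⟨Γ, i1, i2, σ, hσ, ⟨(hcard ▸ (zmodCyclicMulEquiv (G := σ.ker) inferInstance)).symm⟩⟩
    · rcases (Nat.dvd_prime (by norm_num : Nat.Prime 3)).1 (hbound Γ σ hσ) with h1 | h1
      · refine ⟨1, fun x => ⟨1, ?_⟩⟩
        haveI := (Nat.card_eq_one_iff_unique.1 h1).1
        exact Subsingleton.elim _ _
      · haveI : IsCyclic σ.ker := isCyclic_of_prime_card h1
        exact ⟨(h1 ▸ (zmodCyclicMulEquiv (G := σ.ker) inferInstance)).toMonoidHom, MulEquiv.surjective _⟩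

end Cfsg.Agent.S2108
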