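import Cfsg.Statements.S2110
import Cfsg.Agent.Lib.TwistMult.D4Rad
import Cfsg.Agent.Lib.TwistMult.PPart
import Cfsg.Agent.GStructB.StemExt

set_option autoImplicit false
open Cfsg

namespace Cfsg.Agent.S2110

/-- Schur multipliers of the triality-twisted groups ³D₄: for every prime power q, with the group realised over the field with q³ elements, the Schur multiplier of ³D₄(q) is trivial (here the Schur multiplier is described through stem extensions, as in the definitions). -/
theorem result {K : Type*} [Field K] [Fintype K] {q : ℕ} (hq : IsPrimePow q) (hK : Fintype.card K = q ^ 3) : Cfsg.HasCyclicSchurMultiplier ↥(Cfsg.Lie.twistedD4 K q) 1 := by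
  classical
  obtain ⟨X⟩ := Cfsg.Agent.Chevalley.Twist.D4.exists_setup (K := K) hq hK
  obtain ⟨p, hp⟩ := CharP.exists K
  haveI := Fact.mk (CharP.char_is_prime K p)
  obtain ⟨r, f, hr, hf, hrf⟩ := id hq
  have hrp : r = p := by
    obtain ⟨m, hp', hm⟩ := FiniteField.card K p
    have h1 : r ∣ p ^ (m : ℕ) := hm ▸ hK ▸ dvd_pow (hrf ▸ dvd_pow_self r (by omega)) (by decide)
    exact (Nat.prime_dvd_prime_iff_eq hr.nat_prime hp').1 (hr.nat_prime.dvd_of_dvd_pow h1)
  subst hrp
  have hqp : q = r ^ f := hrf.symm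
  haveI : Finite (Cfsg.Lie.twistedD4 K q) := Finite.of_injective _ Subtype.val_injective
  refine GStructB.StemExt.hasCyclicSchurMultiplier_one fun E _ _ π hπ => ?_
  have hU := TwistMult.D4.exists_sylow X hq hqp
  obtain ⟨U, hU⟩ := hU
  have hcop : ¬ r ∣ Nat.card π.ker := by
    refine TwistMult.not_dvd_ker hπ U ?_
    rw [hU]
    exact TwistMult.D4.exists_complement X hq hqp ⟨hπ.1, hπ.2.1⟩
  exact TwistMult.D4.ker_eq_bot X hq ⟨hπ.1, hπ.2.1, Fact.out, hcop⟩
    (TwistMult.perfect_of_stem hπ (Cfsg.Agent.Chevalley.Twist.D4.perfect X hq))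

end Cfsg.Agent.S2110
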