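import Cfsg.Statements.S2113
import Cfsg.Agent.Lib.Ree.Multiplier
import Cfsg.Agent.S1156

set_option autoImplicit false
open Cfsg
open scoped MatrixGroups

namespace Cfsg.Agent.S2113

/-- Schur multipliers of the small Ree groups: for q = 3^(2m+1) with m ≥ 1 the Schur multiplier of ²G₂(q) is trivial (here the Schur multiplier is described through stem extensions, as in the definitions). -/
theorem result {K : Type*} [Field K] [Fintype K] {m : ℕ} (hm : 1 ≤ m) (hK : Fintype.card K = 3 ^ (2 * m + 1)) : Cfsg.HasCyclicSchurMultiplier ↥(Cfsg.Lie.twistedG2 K (3 ^ m)) 1 := by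
  haveI := Cfsg.Agent.Chevalley.Twist.G2.charThree hK
  obtain ⟨X⟩ := Cfsg.Agent.Chevalley.Twist.G2.exists_setup hK
  obtain ⟨Φ, hΦ⟩ := Cfsg.Agent.Ree.exists_embed X
  open Cfsg.Agent.Ree Cfsg.Agent.Chevalley.Twist.G2 in
  refine ⟨⟨_, inferInstance, inferInstance, MonoidHom.id _, ⟨Function.surjective_id, ?_, ?_⟩, ?_⟩, fun Γ _ _ σ hσ => ?_⟩
  · rw [MonoidHom.ker_id]; exact bot_le
  · rw [MonoidHom.ker_id]; exact bot_le
  · haveI : Unique (MonoidHom.id ↥(Cfsg.Lie.twistedG2 K (3 ^ m))).ker :=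
      ⟨⟨1⟩, fun a => Subtype.ext a.2⟩
    exact ⟨MulEquiv.ofUnique⟩
  obtain ⟨hs, hc, hd⟩ := hσ
  have hone : Nat.card σ.ker = 1 := by
    by_contra hne
    obtain ⟨p, hp, hpd⟩ := Nat.exists_prime_and_dvd hne
    haveI : Fact p.Prime := ⟨hp⟩
    by_cases hp2 : p = 2
    · subst hp2
      let P : Sylow 2 Γ := default
      refine Cfsg.Agent.Suzuki.Multiplier.no_prime_in_kernel σ hc hd P ?_ hpd
      have hb : ⁅(P : Subgroup Γ), (P : Subgroup Γ)⁆ = ⊥ := by
        refine Subgroup.commutator_eq_bot_iff_le_centralizer.2 fun a ha =>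
          Subgroup.mem_centralizer_iff.2 fun b hb' => ?_
        have hmem : ∀ z ∈ (P : Subgroup Γ), σ z ∈ ((P.mapSurjective hs : Sylow 2 _) :
            Subgroup ↥(Cfsg.Lie.twistedG2 K (3 ^ m))) := fun z hz => ⟨z, hz, rfl⟩
        obtain ⟨-, hsq⟩ := sylow_sq X hΦ (P.mapSurjective hs)
        have h1 := hsq _ (hmem b hb')
        have h2 := hsq _ (hmem a ha)
        have h3 := hsq _ (mul_mem (hmem b hb') (hmem a ha))
        have hcom : Commute (σ b) (σ a) := by
          show σ b * σ a = σ a * σ b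
          calc σ b * σ a = (σ b * σ a)⁻¹ := (inv_eq_of_mul_eq_one_right h3).symm
            _ = σ a * σ b := by rw [mul_inv_rev, inv_eq_of_mul_eq_one_right h1,
                inv_eq_of_mul_eq_one_right h2]
        exact (commute_invol X hΦ σ hs hc hm h1 h2 hcom rfl rfl).eq
      rw [hb, bot_inf_eq]
    by_cases hp3 : p = 3
    · subst hp3
      obtain ⟨P, hP⟩ : ∃ P : Sylow 3 Γ, ∀ z ∈ (P : Subgroup Γ), σ z ∈ UB X := by
        obtain ⟨Q0, hQ0⟩ := exists_sylow X
        let R : Sylow 3 Γ := default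
        obtain ⟨g, hg⟩ := MulAction.exists_smul_eq ↥(Cfsg.Lie.twistedG2 K (3 ^ m)) (R.mapSurjective hs) Q0
        obtain ⟨γ, rfl⟩ := hs g
        refine ⟨γ • R, fun z hz => ?_⟩
        rw [← hQ0, ← hg]
        rw [Sylow.coe_subgroup_smul, Subgroup.mem_pointwise_smul_iff_inv_smul_mem] at hz
        rw [Sylow.coe_subgroup_smul, Subgroup.mem_pointwise_smul_iff_inv_smul_mem]
        exact ⟨_, hz, by simp⟩
      obtain ⟨x, hx⟩ := exists_sq_ne X hm
      exact Cfsg.Agent.Suzuki.Multiplier.no_prime_in_kernel σ hc hd P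
        (commutator_inf_ker X hΦ σ hs hc hx hm hP) hpd
    have hp5 : 3 < p := by
      have := hp.two_le
      omega
    let P : Sylow p Γ := default
    refine Cfsg.Agent.Suzuki.Multiplier.no_prime_in_kernel σ hc hd P ?_ hpd
    haveI := Cfsg.Agent.S1156.result hm hK hp5 (P.mapSurjective hs)
    have hab : ∀ a ∈ (P : Subgroup Γ), ∀ b ∈ (P : Subgroup Γ), a * b = b * a := by
      intro a ha b hb
      let f : (P : Subgroup Γ) →* ((P.mapSurjective hs : Sylow p _) :
          Subgroup ↥(Cfsg.Lie.twistedG2 K (3 ^ m))) :=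
        (σ.comp (P : Subgroup Γ).subtype).codRestrict _ fun z => ⟨z.1, z.2, rfl⟩
      haveI := f.isMulCommutative_of_isCyclic_of_ker_le_center (fun z hz => by
        refine Subgroup.mem_center_iff.2 fun y => Subtype.ext ?_
        exact Subgroup.mem_center_iff.1 (hc (MonoidHom.mem_ker.2
          (congrArg Subtype.val (MonoidHom.mem_ker.1 hz)))) y.1)
      exact congrArg Subtype.val (mul_comm' (⟨a, ha⟩ : (P : Subgroup Γ)) ⟨b, hb⟩)
    rw [Subgroup.commutator_eq_bot_iff_le_centralizer.2 (fun a ha =>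
      Subgroup.mem_centralizer_iff.2 fun b hb => hab b hb a ha), bot_inf_eq]
  refine ⟨1, fun y => ⟨1, ?_⟩⟩
  haveI : Subsingleton σ.ker := (Nat.card_eq_one_iff_unique.1 hone).1
  exact Subsingleton.elim _ _

end Cfsg.Agent.S2113
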