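import Cfsg.Statements.S2114
import Cfsg.Agent.Lib.TwistMult.F4Root
import Cfsg.Agent.Lib.TwistMult.PPart
import Cfsg.Agent.GStructB.StemExt
set_option autoImplicit false
open Cfsg

namespace Cfsg.Agent.S2114

/-- Schur multipliers of the large Ree groups: for q = 2^(2m+1) with m ≥ 1 the Schur multiplier of ²F₄(q) is trivial (here the Schur multiplier is described through stem extensions, as in the definitions). -/
theorem result {K : Type*} [Field K] [Fintype K] {m : ℕ} (hm : 1 ≤ m) (hK : Fintype.card K = 2 ^ (2 * m + 1)) : Cfsg.HasCyclicSchurMultiplier ↥(Cfsg.Lie.twistedF4 K (2 ^ m)) 1 := by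
  classical
  haveI := Cfsg.Agent.Chevalley.Twist.F4.charTwo hK
  haveI : Fact (Nat.Prime 2) := ⟨Nat.prime_two⟩
  obtain ⟨X⟩ := Cfsg.Agent.Chevalley.Twist.F4.exists_setup hK
  haveI : Finite (Cfsg.Lie.twistedF4 K (2 ^ m)) := Finite.of_injective _ Subtype.val_injective
  refine GStructB.StemExt.hasCyclicSchurMultiplier_one fun E _ _ π hπ => ?_
  obtain ⟨U, hU⟩ := Cfsg.Agent.LieLocalChar.TwistExc.exists_sylow_F4 X
  have hcop : ¬ 2 ∣ Nat.card π.ker := by
    refine TwistMult.not_dvd_ker hπ U ?_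
    rw [hU, ← TwistMult.F4.series_zero X hm]
    exact TwistMult.F4.exists_complement X ⟨hπ.1, hπ.2.1⟩ hm
  exact TwistMult.F4.ker_eq_bot X ⟨hπ.1, hπ.2.1, Fact.out, hcop⟩ hm
    (TwistMult.perfect_of_stem hπ (Cfsg.Agent.Chevalley.Twist.F4.perfect X hm))

end Cfsg.Agent.S2114
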