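import Cfsg.Statements.S2125
import Cfsg.Agent.Lib.Chevalley.Aut.OutCount
-- Template for statement S2125 (row 2125; see /opt/grader/pristine/manifest.json for weights).
-- Copy to Cfsg/Agent/S2125.lean and replace the sorry. The statement below is byte-identical to the frozen
-- statement Cfsg.CfsgFrozen.S2125 (Cfsg/Statements/S2125.lean; the theorem Cfsg.kfact_outer_automorphisms_e8);
-- the grader kernel-checks Cfsg.Agent.S2125.result against that frozen type. Keep the theorem IN THIS FILE
-- (a `result` declared elsewhere and merely imported here is not credited); helpers may live anywhere
-- under Cfsg/Agent/.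
-- import your own Cfsg.Agent.* helpers here

set_option autoImplicit false
open Cfsg

namespace Cfsg.Agent.S2125

/-- Outer automorphisms of the Chevalley groups of type E₈: over a field with p^f elements, p prime, the outer automorphism group of E₈(p^f) has order f (field automorphisms only). -/
theorem result {F : Type*} [Field F] [Fintype F] (p f : ℕ) [Fact p.Prime] [CharP F p] (hF : Fintype.card F = p ^ f) : Nat.card (Cfsg.Out ↥(Cfsg.Lie.chevE8.group F)) = f := by
  exact Cfsg.Agent.Chevalley.AutThm.out_E8 p f hF

end Cfsg.Agent.S2125
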