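import Cfsg.Agent.Lib.Chevalley.Twist.AutD4
-- Template for statement S2129 (row 2129; see /opt/grader/pristine/manifest.json for weights).
-- Copy to Cfsg/Agent/S2129.lean and replace the sorry. The statement below is byte-identical to the frozen
-- statement Cfsg.CfsgFrozen.S2129 (Cfsg/Statements/S2129.lean; the theorem Cfsg.kfact_outer_automorphisms_twisted_d4);
-- the grader kernel-checks Cfsg.Agent.S2129.result against that frozen type. Keep the theorem IN THIS FILE
-- (a `result` declared elsewhere and merely imported here is not credited); helpers may live anywhere
-- under Cfsg/Agent/.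
import Cfsg.Statements.S2129
-- import your own Cfsg.Agent.* helpers here


set_option autoImplicit false
open Cfsg

namespace Cfsg.Agent.S2129

/-- Outer automorphisms of the triality-twisted groups: for q = p^f (p prime), with the group realised over the field with q³ elements, the outer automorphism group of ³D₄(q) has order 3f (the field automorphisms of the cubic extension). -/
theorem result {K : Type*} [Field K] [Fintype K] (p f : ℕ) [Fact p.Prime] [CharP K p] (hK : Fintype.card K = p ^ (3 * f)) (hf : 1 ≤ f) : Nat.card (Cfsg.Out ↥(Cfsg.Lie.twistedD4 K (p ^ f))) = 3 * f := by
  exact Cfsg.Agent.Chevalley.Twist.D4.card_out p f hK hf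

end Cfsg.Agent.S2129
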