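import Cfsg.Statements.S5394
import Cfsg.Agent.Lib.M24Module.FixCount

set_option autoImplicit false
open Cfsg

namespace Cfsg.Agent.S5394

open Cfsg.Agent.Golay.Basic Cfsg.Agent.Golay.Cert Cfsg.Agent.M24Module.ClassData Cfsg.Agent.M24Module.Classes Cfsg.Agent.M24Module.FixCount
open scoped Pointwise

theorem rep_two (i : Fin twoReps.length) :
    tabPerm twoReps[i.1] ∈ Cfsg.M24 ∧ orderOf (tabPerm twoReps[i.1]) = 2 ∧
      mask (fixSet (tabPerm twoReps[i.1])) = fixMask twoReps[i.1] := by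
  have hm := List.getElem_mem i.2
  have h := List.all_eq_true.1 rep_facts.1 _ hm
  simp only [Bool.and_eq_true] at h
  haveI : Fact (Nat.Prime 2) := ⟨Nat.prime_two⟩
  exact ⟨tabPerm_mem h.1, orderOf_rep h.1 (List.all_eq_true.1 two_rep_orders.1 _ hm),
    fixSet_tab (isTab_tabPerm h.1)⟩

theorem len_two : twoReps.length = 2 := rfl

theorem fix_none {g : Equiv.Perm Cfsg.GolayPt} : (∀ p, g p ≠ p) ↔ fixSet g = ∅ := by
  rw [Finset.eq_empty_iff_forall_notMem]
  simp only [mem_fixSet]

/-- The automorphism group of the length-24 code built from the squares modulo 23 has exactly two conjugacy classes of involutions: an involution either fixes exactly the eight points of an octad or has no fixed points, both kinds occur, and any two involutions of the same kind are conjugate in the group. -/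
theorem result : (∀ g ∈ Cfsg.M24, orderOf g = 2 → (Finset.univ.filter fun p => g p = p) ∈ Cfsg.octads ∨ ∀ p, g p ≠ p) ∧ (∃ g ∈ Cfsg.M24, orderOf g = 2 ∧ (Finset.univ.filter fun p => g p = p) ∈ Cfsg.octads) ∧ (∃ g ∈ Cfsg.M24, orderOf g = 2 ∧ ∀ p, g p ≠ p) ∧ ∀ g ∈ Cfsg.M24, ∀ h ∈ Cfsg.M24, orderOf g = 2 → orderOf h = 2 → ((∀ p, g p ≠ p) ↔ (∀ p, h p ≠ p)) → ∃ k ∈ Cfsg.M24, k * g * k⁻¹ = h := by
  have hm := rep_facts.2.2.2.1
  refine ⟨fun g hg h2 => (two_fix hg h2).imp id fun h => fix_none.2 h, ?_, ?_,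
    fun g hg h hh o1 o2 hiff => ?_⟩
  · obtain ⟨h1, h2, h3⟩ := rep_two ⟨0, by rw [len_two]; norm_num⟩
    refine ⟨_, h1, h2, (two_fix h1 h2).resolve_right fun e => ?_⟩
    rw [e, mask_empty] at h3
    simp [List.map, twoReps] at hm
    revert h3
    decide +kernel
  · obtain ⟨h1, h2, h3⟩ := rep_two ⟨1, by rw [len_two]; norm_num⟩
    refine ⟨_, h1, h2, fix_none.2 (mask_injective ?_)⟩
    rw [h3, mask_empty]
    decide +kernel
  · refine conj_of_fix two_reps_nodup.1 two_reps_nodup.2 (classify_two hg o1) (classify_two hh o2) ?_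
    rw [fix_none, fix_none] at hiff
    rcases two_fix hg o1 with a | a
    · rcases two_fix hh o2 with b | b
      · rw [a.2, b.2]
      · rw [hiff.2 b, b]
    · rw [a, hiff.1 a]

end Cfsg.Agent.S5394
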