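import Cfsg.Statements.S5425
import Cfsg.Agent.Lib.LargeExtra.AffineSL
import Cfsg.Agent.Lib.Golay.OctadStab
import Cfsg.Agent.Lib.Golay.Trans
import Cfsg.Agent.S0381
import Cfsg.Agent.GroupStructure3.FrattiniAut

set_option autoImplicit false
open Cfsg

namespace Cfsg.Agent.S5425

open Cfsg.Agent.LargeExtra Cfsg.Agent.Golay.Basic Cfsg.Agent.Golay.Design Cfsg.Agent.Golay.M24 Cfsg.Agent.Golay.Trans Cfsg.Agent.Golay.OctadStab
open scoped Pointwise

theorem disjoint_code : (codeList.any fun m => pc m == 8 && (m &&& Cfsg.Agent.Golay.M24Data.baseOctad == 0)) = true := by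
  decide +kernel

theorem exists_disjoint_octad {o : Finset GolayPt} (ho : o ∈ octads) : ∃ o' ∈ octads, Disjoint o' o := by
  obtain ⟨a, ha, hao⟩ := exists_smul_octad ho
  have h := disjoint_code
  simp only [List.any_eq_true, Bool.and_eq_true, beq_iff_eq] at h
  obtain ⟨m, hm, h8, h0⟩ := h
  have hbound : ∀ m ∈ codeList, m < 2 ^ 24 := by
    have hb : (codeList.all fun m => decide (m < 2 ^ 24)) = true := by decide +kernel
    simpa [List.all_eq_true] using hb
  have hmo : maskSet m ∈ octads := mem_octads_iff.2 ⟨by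
    rw [mask_maskSet (hbound m hm)]; exact isCode_of_mem_codeList hm, by rw [card_maskSet, h8]⟩
  refine ⟨a⁻¹ • maskSet m, smul_mem_octads (Cfsg.M24.inv_mem ha) hmo, ?_⟩
  rw [Finset.disjoint_left]
  intro x hx hxo
  have hx1 : a x ∈ maskSet m := by
    rw [← mem_smul_iff a⁻¹]; simpa using hx
  have hx2 : a x ∈ maskSet Cfsg.Agent.Golay.M24Data.baseOctad := hao ▸ (mem_smul_iff a o x).2 hxo
  have hd : Disjoint (maskSet m) (maskSet Cfsg.Agent.Golay.M24Data.baseOctad) := by
    rw [disjoint_iff_mask, mask_maskSet (hbound m hm), mask_maskSet (by decide +kernel)]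
    exact h0
  exact Finset.disjoint_left.1 hd hx1 hx2

/-- In the Mathieu group of degree 24 (the automorphism group of the length-24 binary Golay code, acting on the 24 coordinates), let z be an involution whose fixed points form an octad (the support of a code word of weight 8), and let Q be the largest normal 2-subgroup of the centralizer C of z. Then Q is extraspecial of order 2^7 with an elementary abelian subgroup of order 16 (plus type), Q is a large extraspecial 2-subgroup, and C is the split extension of Q by the special linear group of degree 3 over the field with two elements. -/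
theorem result (z : ↥Cfsg.M24) (hz : orderOf z = 2) (hfix : (Finset.univ.filter fun p : Cfsg.GolayPt => (z : Equiv.Perm Cfsg.GolayPt) p = p) ∈ Cfsg.octads) (Q : Subgroup ↥Cfsg.M24) (hQ : Q = (Cfsg.pCore 2 ↥(Subgroup.centralizer ({z} : Set ↥Cfsg.M24))).map (Subgroup.centralizer ({z} : Set ↥Cfsg.M24)).subtype) : Cfsg.IsExtraspecial 2 ↥Q ∧ Nat.card ↥Q = 2 ^ 7 ∧ (∃ E : Subgroup ↥Cfsg.M24, E ≤ Q ∧ Cfsg.IsElementaryAbelian 2 E ∧ Nat.card ↥E = 2 ^ 4) ∧ Cfsg.IsLargeExtraspecial Q ∧ ∃ K : Subgroup ↥Cfsg.M24, K ≤ Subgroup.centralizer ({z} : Set ↥Cfsg.M24) ∧ Q ⊓ K = ⊥ ∧ Q ⊔ K = Subgroup.centralizer ({z} : Set ↥Cfsg.M24) ∧ Nonempty (↥K ≃* Matrix.SpecialLinearGroup (Fin 3) (ZMod 2)) := by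
  classical
  set o := Finset.univ.filter fun p : Cfsg.GolayPt => (z : Equiv.Perm Cfsg.GolayPt) p = p with ho_def
  have hmo : ∀ x, x ∈ o ↔ (z : Equiv.Perm GolayPt) x = x := fun x => by simp [ho_def]
  obtain ⟨p, hp⟩ : ∃ p, p ∉ o := by
    by_contra hc
    push Not at hc
    have h1 := octad_card hfix
    rw [Finset.eq_univ_of_forall hc, Finset.card_univ, show Fintype.card GolayPt = 24 by decide] at h1
    omega
  let G := ↥(OK o)
  let f : G →* ↥Cfsg.M24 := Subgroup.inclusion inf_le_left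
  let U : Subgroup G := (FK o).subgroupOf (OK o)
  let M : Subgroup G := (OK o ⊓ MulAction.stabilizer (Equiv.Perm GolayPt) p).subgroupOf (OK o)
  have hzFK : (z : Equiv.Perm GolayPt) ∈ FK o := mem_FK.2 ⟨z.2, fun x hx => (hmo x).1 hx⟩
  let z₀ : G := ⟨(z : Equiv.Perm GolayPt), FK_le_OK o hzFK⟩
  have hfz : f z₀ = z := rfl
  have hz₁ : z₀ ≠ 1 := fun h => by
    rw [show z = 1 from (congrArg f h).trans (map_one f), orderOf_one] at hz
    omega
  have hz₀U : z₀ ∈ U := Subgroup.mem_subgroupOf.2 hzFK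
  haveI : U.Normal := ⟨fun u hu g => by
    rw [Subgroup.mem_subgroupOf] at hu ⊢
    have h := (mem_FK_conj g.2.1 (o := o) (u : Equiv.Perm GolayPt)).1 hu
    rwa [show (g : Equiv.Perm GolayPt) • o = o from g.2.2] at h⟩
  obtain ⟨hFKcard, hFKsq⟩ := Cfsg.Agent.S0381.result o hfix
  have hFKc : ∀ a ∈ FK o, ∀ b ∈ FK o, a * b = b * a := fun a ha b hb => by
    calc a * b = (a * b)⁻¹ := (inv_eq_of_mul_eq_one_right (hFKsq _ (mul_mem ha hb))).symm
      _ = b⁻¹ * a⁻¹ := mul_inv_rev a b
      _ = b * a := by rw [inv_eq_of_mul_eq_one_right (hFKsq a ha), inv_eq_of_mul_eq_one_right (hFKsq b hb)]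
  have hU : Cfsg.IsElementaryAbelian 2 U :=
    ⟨⟨⟨fun a b => Subtype.ext (Subtype.ext (hFKc _ (Subgroup.mem_subgroupOf.1 a.2) _ (Subgroup.mem_subgroupOf.1 b.2)))⟩⟩,
      fun a ha => Subtype.ext (by rw [pow_two]; exact hFKsq _ (Subgroup.mem_subgroupOf.1 ha))⟩
  have hUcard : Nat.card ↥U = 2 ^ (3 + 1) :=
    (Nat.card_congr (Subgroup.subgroupOfEquivOfLe (FK_le_OK o)).toEquiv).trans hFKcard
  obtain ⟨-, hMcard'⟩ := stab_point_equiv hfix hp
  have hMcard : Nat.card ↥M = 20160 :=
    (Nat.card_congr (Subgroup.subgroupOfEquivOfLe inf_le_left).toEquiv).trans hMcard'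
  have hUM : U ⊔ M = ⊤ := by
    have hinf : U ⊓ M = ⊥ := by
      rw [eq_bot_iff]
      rintro g ⟨hgU, hgM⟩
      exact Subgroup.mem_bot.2 (Subtype.ext (fix_eq_one hfix hp (Subgroup.mem_subgroupOf.1 hgU)
        (Subgroup.mem_subgroupOf.1 hgM).2))
    refine Subgroup.eq_top_of_le_card _ ?_
    let φ : ↥U × ↥M → ↥(U ⊔ M) := fun x => ⟨x.1.1 * x.2.1, Subgroup.mul_mem_sup x.1.2 x.2.2⟩
    have hφ : Function.Injective φ := fun a b h =>
      Subgroup.mul_injective_of_disjoint (disjoint_iff.2 hinf) (congrArg Subtype.val h)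
    have h1 := Nat.card_le_card_of_injective φ hφ
    rw [Nat.card_prod, hUcard, hMcard] at h1
    rw [show Nat.card G = 322560 from card_OK hfix]
    omega
  have hfaith : ∀ m ∈ M, (∀ u ∈ U, m * u * m⁻¹ = u) → m = 1 := by
    intro m hm hc
    have hmp : (m : Equiv.Perm GolayPt) p = p := (Subgroup.mem_subgroupOf.1 hm).2
    have hout : ∀ x, x ∉ o → (m : Equiv.Perm GolayPt) x = x := by
      intro x hx
      let ev : ↥(FK o) → {y // y ∈ oᶜ} := fun u => ⟨(u : Equiv.Perm GolayPt) p, by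
        rw [Finset.mem_compl]
        intro hm'
        have h1 : (u : Equiv.Perm GolayPt) ((u : Equiv.Perm GolayPt) p) = (u : Equiv.Perm GolayPt) p :=
          (mem_FK.1 u.2).2 _ hm'
        exact hp ((u : Equiv.Perm GolayPt).injective h1 ▸ hm')⟩
      have hinj : Function.Injective ev := fun a b h => by
        have h' : (a : Equiv.Perm GolayPt) p = (b : Equiv.Perm GolayPt) p := congrArg Subtype.val h
        have h1 := fix_eq_one hfix hp (mul_mem (inv_mem b.2) a.2) (by
          rw [Equiv.Perm.mul_apply, h']; exact (b : Equiv.Perm GolayPt).symm_apply_apply p)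
        exact Subtype.ext (inv_mul_eq_one.1 h1).symm
      have hbij : Function.Bijective ev := by
        rw [Nat.bijective_iff_injective_and_card]
        refine ⟨hinj, ?_⟩
        rw [hFKcard, Nat.card_eq_fintype_card, Fintype.card_coe, Finset.card_compl, octad_card hfix]
        rfl
      obtain ⟨u, hu⟩ := hbij.2 ⟨x, Finset.mem_compl.2 hx⟩
      have hu' : (u : Equiv.Perm GolayPt) p = x := congrArg Subtype.val hu
      have h2 : (m : Equiv.Perm GolayPt) * u * (m : Equiv.Perm GolayPt)⁻¹ = u :=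
        congrArg Subtype.val (hc ⟨u, FK_le_OK o u.2⟩ (Subgroup.mem_subgroupOf.2 u.2))
      rw [← hu']
      conv_rhs => rw [← h2]
      rw [Equiv.Perm.mul_apply, Equiv.Perm.mul_apply]
      congr 2
      exact ((Equiv.Perm.inv_eq_iff_eq).2 hmp.symm).symm
    obtain ⟨o', ho', hdis⟩ := exists_disjoint_octad hfix
    obtain ⟨p', hp'⟩ : ∃ p', p' ∉ o ∪ o' := by
      by_contra hc'
      push Not at hc'
      have h1 := Finset.card_union_le o o'
      rw [Finset.eq_univ_of_forall hc', Finset.card_univ, show Fintype.card GolayPt = 24 by decide,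
        octad_card hfix, octad_card ho'] at h1
      omega
    rw [Finset.mem_union, not_or] at hp'
    exact Subtype.ext (fix_eq_one ho' hp'.2
      (mem_FK.2 ⟨m.2.1, fun x hx => hout x (fun hxo => Finset.disjoint_left.1 hdis hx hxo)⟩) (hout p' hp'.1))
  have hfull : ∀ φ : ↥U ≃* ↥U, ∃ m ∈ M, ∀ u : ↥U, ((φ u : ↥U) : G) = m * u * m⁻¹ := by
    haveI := hU.1
    letI : CommGroup ↥U := { (inferInstance : Group ↥U) with mul_comm := fun a b => mul_comm' a b }
    haveI : Fact (Nat.Prime 2) := ⟨Nat.prime_two⟩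
    have hA : Nat.card (MulAut ↥U) = 20160 := by
      rw [Cfsg.Agent.GroupStructure3.FrattiniAut.card_mulAut_elementary (p := 2) (r := 4) hUcard
        (fun x => Subtype.ext (hU.2 _ x.2))]
      decide
    let conj : ↥M →* MulAut ↥U :=
      ((MulAut.conjNormal : G →* MulAut ↥U)).comp M.subtype
    have hinj : Function.Injective conj := by
      rw [injective_iff_map_eq_one]
      intro m hm
      refine Subtype.ext (hfaith m.1 m.2 fun u hu => ?_)
      have := congrArg (fun e : MulAut ↥U => ((e ⟨u, hu⟩ : ↥U) : G)) hm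
      simpa [conj] using this
    haveI : Finite (MulAut ↥U) := Nat.finite_of_card_ne_zero (by rw [hA]; norm_num)
    have hbij : Function.Bijective conj := by
      rw [Nat.bijective_iff_injective_and_card]
      exact ⟨hinj, hMcard.trans hA.symm⟩
    intro φ
    obtain ⟨m, hm⟩ := hbij.2 φ
    refine ⟨m.1, m.2, fun u => ?_⟩
    rw [← hm]
    simp [conj]
  obtain ⟨Q₀, hQ₀⟩ : ∃ Q₀ : Subgroup G, Q₀ = (Cfsg.pCore 2 ↥(Subgroup.centralizer ({z₀} : Set G))).map
      (Subgroup.centralizer ({z₀} : Set G)).subtype := ⟨_, rfl⟩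
  have hshape := Affine.shape_of_data (n := 3) (by norm_num) U M hU hUcard hUM hfaith hfull hz₀U hz₁ Q₀ hQ₀
  have hfinj : Function.Injective f := Subgroup.inclusion_injective inf_le_left
  have hrange : Subgroup.centralizer ({f z₀} : Set ↥Cfsg.M24) ≤ f.range := by
    intro g hg
    rw [hfz, Subgroup.mem_centralizer_singleton_iff] at hg
    have hg' : (g : Equiv.Perm GolayPt) * z = (z : Equiv.Perm GolayPt) * g := congrArg Subtype.val hg
    have hstab : (g : Equiv.Perm GolayPt) • o = o := by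
      refine Finset.eq_of_subset_of_card_le (fun y hy => ?_) (by rw [Finset.card_smul_finset])
      obtain ⟨x, hx, rfl⟩ := Finset.mem_smul_finset.1 hy
      rw [hmo] at hx ⊢
      show (z : Equiv.Perm GolayPt) ((g : Equiv.Perm GolayPt) x) = (g : Equiv.Perm GolayPt) x
      rw [← Equiv.Perm.mul_apply, ← hg', Equiv.Perm.mul_apply, hx]
    exact ⟨⟨(g : Equiv.Perm GolayPt), ⟨g.2, hstab⟩⟩, rfl⟩
  have hz₀2 : orderOf z₀ = 2 := by rw [← orderOf_injective f hfinj, hfz, hz]
  obtain ⟨hQmap, hctr, hext, hcard, hE, K, hKC, hQK, hQK', ⟨eK⟩⟩ :=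
    AffineSL.shape_map f hfinj hz₀2 hrange hQ₀ hshape (Q := Q) hQ
  refine ⟨hext, hcard, hE, ?_, K, hKC, hQK, hQK', ?_⟩
  · -- largeness: conjugates of `z` inside `U`
    obtain ⟨a, haU, ha1, haz⟩ : ∃ a ∈ U, a ≠ 1 ∧ a ≠ z₀ := by
      by_contra hc
      push Not at hc
      have hle : Nat.card ↥U ≤ Nat.card ↥(Subgroup.zpowers z₀) := Subgroup.card_le_of_le fun u hu => by
        by_cases h1 : u = 1
        · exact h1 ▸ one_mem _
        · exact (hc u hu h1).symm ▸ Subgroup.mem_zpowers z₀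
      rw [hUcard, Nat.card_zpowers, hz₀2] at hle
      norm_num at hle
    have hUC : ∀ u ∈ U, u ∈ Subgroup.centralizer ({z₀} : Set G) := fun u hu => by
      haveI := hU.1
      rw [Subgroup.mem_centralizer_singleton_iff]
      exact congrArg Subtype.val (mul_comm' (⟨u, hu⟩ : ↥U) ⟨z₀, hz₀U⟩)
    have hUQ : ∀ u ∈ U, f u ∈ Q := fun u hu => by
      rw [hQmap, hQ₀]
      refine ⟨u, ⟨⟨u, hUC u hu⟩, Cfsg.Agent.Cores.le_pCore
        (N := U.subgroupOf (Subgroup.centralizer ({z₀} : Set G))) (fun x => ⟨1, Subtype.ext (Subtype.ext ?_)⟩)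
        (Subgroup.mem_subgroupOf.2 hu), rfl⟩, rfl⟩
      rw [pow_one]
      exact hU.2 _ (Subgroup.mem_subgroupOf.1 x.2)
    have htr : ∀ u ∈ U, u ≠ 1 → ∃ g : G, g * z₀ * g⁻¹ = u := by
      intro u hu hu1
      haveI := hU.1
      letI : CommGroup ↥U := { (inferInstance : Group ↥U) with mul_comm := fun a b => mul_comm' a b }
      letI : Module (ZMod 2) (Additive ↥U) := AddCommGroup.zmodModule fun b =>
        congrArg Additive.ofMul (Subtype.ext (hU.2 _ b.toMul.2) : b.toMul ^ 2 = 1)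
      obtain ⟨k, hk⟩ := AffineLinear.exists_linearEquiv_apply (M := Additive ↥U)
        (v := Additive.ofMul ⟨z₀, hz₀U⟩) (w := Additive.ofMul ⟨u, hu⟩)
        (fun h => hz₁ (congrArg (fun t : Additive ↥U => ((t.toMul : ↥U) : G)) h))
        (fun h => hu1 (congrArg (fun t : Additive ↥U => ((t.toMul : ↥U) : G)) h))
      obtain ⟨m, -, hm⟩ := hfull
        { toFun := fun x => (k (Additive.ofMul x)).toMul
          invFun := fun x => (k.symm (Additive.ofMul x)).toMul
          left_inv := fun x => by simp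
          right_inv := fun x => by simp
          map_mul' := fun x y => by simp }
      refine ⟨m, ?_⟩
      rw [← hm ⟨z₀, hz₀U⟩]
      show (((k (Additive.ofMul (⟨z₀, hz₀U⟩ : ↥U))).toMul : ↥U) : G) = u
      rw [hk]; rfl
    obtain ⟨g, hg⟩ := htr a haU ha1
    obtain ⟨k, hk⟩ := htr (z₀ * a) (mul_mem hz₀U haU) (fun h => haz (by
      rw [eq_inv_of_mul_eq_one_right h]
      exact inv_eq_of_mul_eq_one_right (by rw [← pow_two]; exact hU.2 _ hz₀U)))
    have hn : ∀ g : G, g⁻¹ * z₀ * g ∈ U := fun g => by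
      have := Subgroup.Normal.conj_mem (inferInstance : U.Normal) _ hz₀U g⁻¹
      rwa [inv_inv] at this
    refine hctr.large_of_conj (f g) (f k) ?_ ?_ ?_ ?_
    · rw [← map_inv, ← map_mul, ← map_mul, hg]; exact hUQ a haU
    · rw [← map_inv, ← map_mul, ← map_mul]; exact hUQ _ (hn g)
    · rw [← map_inv, ← map_mul, ← map_mul]; exact hUQ _ (hn k)
    · simp only [← map_inv, ← map_mul, hg, hk]
  · have hbij : Function.Bijective
        (Matrix.SpecialLinearGroup.toGL : Matrix.SpecialLinearGroup (Fin 3) (ZMod 2) →* _) := by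
      refine ⟨Matrix.SpecialLinearGroup.toGL_injective, fun A => ?_⟩
      exact ⟨⟨(A : Matrix (Fin 3) (Fin 3) (ZMod 2)), AffineSL.det_eq_one _ A.isUnit⟩, Units.ext rfl⟩
    exact ⟨eK.trans (MulEquiv.ofBijective _ hbij).symm⟩

end Cfsg.Agent.S5425
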