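import Cfsg.Statements.S2133
import Cfsg.Agent.S5425
import Cfsg.Agent.S5394

set_option autoImplicit false
open Cfsg

namespace Cfsg.Agent.S2133

section Helpers

open Cfsg.Agent.LargeExtra Subgroup

set_option linter.style.haveILetI false

theorem centralizer_equiv {G H : Type*} [Group G] [Group H] (f : G →* H) (hf : Function.Injective f)
    (z : G) (hr : centralizer ({f z} : Set H) ≤ f.range) :
    Nonempty (↥(centralizer ({z} : Set G)) ≃* ↥(centralizer ({f z} : Set H))) := by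
  refine ⟨((centralizer ({z} : Set G)).equivMapOfInjective f hf).trans (MulEquiv.subgroupCongr ?_)⟩
  refine le_antisymm ?_ fun y hy => ?_
  · rintro _ ⟨x, hx, rfl⟩
    rw [mem_centralizer_singleton_iff, ← map_mul, ← map_mul]
    exact congrArg f (mem_centralizer_singleton_iff.1 hx)
  · obtain ⟨x, rfl⟩ := hr hy
    refine ⟨x, ?_, rfl⟩
    rw [SetLike.mem_coe, mem_centralizer_singleton_iff]
    rw [mem_centralizer_singleton_iff, ← map_mul, ← map_mul] at hy
    exact hf hy

theorem coord_split {n : ℕ} {G : Type*} [Group G] (D : Affine.Coord n G) (g : G) :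
    ∃ v, g = D.ι v * D.μ (D.Φ g) := by
  obtain ⟨v, hv⟩ := D.ker (g * (D.μ (D.Φ g))⁻¹) (by rw [map_mul, map_inv, D.section_μ, mul_inv_cancel])
  exact ⟨v, by rw [← hv, inv_mul_cancel_right]⟩

theorem coord_unique {n : ℕ} {G : Type*} [Group G] (D : Affine.Coord n G) {v w : Affine.V n}
    {k l : Affine.V n ≃ₗ[ZMod 2] Affine.V n} (h : D.ι v * D.μ k = D.ι w * D.μ l) : v = w ∧ k = l := by
  have hk := congrArg D.Φ h
  rw [map_mul, map_mul, D.Φ_ι, D.Φ_ι, D.section_μ, D.section_μ, one_mul, one_mul] at hk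
  subst hk
  exact ⟨D.ι_inj (mul_right_cancel h), rfl⟩

theorem coord_mul {n : ℕ} {G : Type*} [Group G] (D : Affine.Coord n G) (v w : Affine.V n)
    (k l : Affine.V n ≃ₗ[ZMod 2] Affine.V n) :
    D.ι v * D.μ k * (D.ι w * D.μ l) = D.ι (v + k w) * D.μ (k * l) := by
  rw [map_mul, D.ι_add, mul_assoc, ← mul_assoc (D.μ k), D.conj_μ]
  simp [mul_assoc]

theorem coord_iso {n : ℕ} {G G' : Type*} [Group G] [Group G'] (D : Affine.Coord n G)
    (D' : Affine.Coord n G') : ∃ θ : G ≃* G', θ (D.ι (Affine.e₁ n)) = D'.ι (Affine.e₁ n) := by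
  choose a ha using coord_split D
  choose a' ha' using coord_split D'
  have h1 : ∀ g, a' (D'.ι (a g) * D'.μ (D.Φ g)) = a g ∧ D'.Φ (D'.ι (a g) * D'.μ (D.Φ g)) = D.Φ g :=
    fun g => coord_unique D' (ha' _).symm
  have h2 : ∀ g, a (D.ι (a' g) * D.μ (D'.Φ g)) = a' g ∧ D.Φ (D.ι (a' g) * D.μ (D'.Φ g)) = D'.Φ g :=
    fun g => coord_unique D (ha _).symm
  refine ⟨{ toFun := fun g => D'.ι (a g) * D'.μ (D.Φ g)
            invFun := fun g => D.ι (a' g) * D.μ (D'.Φ g)
            left_inv := fun g => by simp only [(h1 g).1, (h1 g).2]; exact (ha g).symm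
            right_inv := fun g => by simp only [(h2 g).1, (h2 g).2]; exact (ha' g).symm
            map_mul' := fun g h => ?_ }, ?_⟩
  · have e : g * h = D.ι (a g + D.Φ g (a h)) * D.μ (D.Φ g * D.Φ h) := by
      rw [← coord_mul, ← ha, ← ha]
    obtain ⟨e1, e2⟩ := coord_unique D ((ha (g * h)).symm.trans e)
    rw [e1, e2, coord_mul]
  · show D'.ι (a _) * D'.μ (D.Φ _) = _
    have e : D.ι (Affine.e₁ n) = D.ι (Affine.e₁ n) * D.μ 1 := by rw [map_one, mul_one]
    obtain ⟨e1, e2⟩ := coord_unique D ((ha (D.ι (Affine.e₁ n))).symm.trans e)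
    rw [e1, e2, map_one, mul_one]

theorem transvection_side (s : Matrix.SpecialLinearGroup (Fin 5) (ZMod 2))
    (hs : (s : Matrix (Fin 5) (Fin 5) (ZMod 2)) = Matrix.transvection 0 1 1) :
    ∃ D : Affine.Coord 3 ↥(AffineSL.P (1 : Fin 5)),
      Nonempty (↥(centralizer ({D.ι (Affine.e₁ 3)} : Set ↥(AffineSL.P (1 : Fin 5)))) ≃*
        ↥(centralizer ({s} : Set (Matrix.SpecialLinearGroup (Fin 5) (ZMod 2))))) := by
  have h01 : (0 : Fin 5) ≠ 1 := by decide
  obtain ⟨hzP, hza⟩ := AffineSL.centralizer_le (1 : Fin 5) h01 s hs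
  let z₀ : ↥(AffineSL.P (1 : Fin 5)) := ⟨s, hzP (mem_centralizer_singleton_iff.2 rfl)⟩
  have hzU : z₀ ∈ AffineSL.U (1 : Fin 5) := fun x hx => by
    show (s : Matrix (Fin 5) (Fin 5) (ZMod 2)).mulVec x = x
    rw [hza, hx, zero_smul, add_zero]
  have hz₁ : z₀ ≠ 1 := fun h => by
    have h2 := hza (Pi.single 1 1)
    rw [show s = 1 from congrArg Subtype.val h, AffineSL.act_one, Pi.single_eq_same, one_smul] at h2
    simpa using congrFun h2 0
  obtain ⟨D, hD⟩ := Affine.exists_coord (n := 3) (AffineSL.U (1 : Fin 5)) (AffineSL.M (1 : Fin 5))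
    (AffineSL.elementary _) (AffineSL.card_U _ rfl) (AffineSL.sup_eq _) (AffineSL.faith _)
    (AffineSL.full _) hzU hz₁
  refine ⟨D, ?_⟩
  rw [hD]
  exact centralizer_equiv (AffineSL.P (1 : Fin 5)).subtype (Subgroup.subtype_injective _) z₀
    (by rw [Subgroup.range_subtype]; exact hzP)

open Cfsg Cfsg.Agent.Golay.Basic Cfsg.Agent.Golay.Design Cfsg.Agent.Golay.M24 Cfsg.Agent.Golay.Trans Cfsg.Agent.Golay.OctadStab in
open scoped Pointwise in
theorem golay_side : ∃ (z : ↥Cfsg.M24) (G : Type) (_ : Group G) (D : Affine.Coord 3 G), orderOf z = 2 ∧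
    Nonempty (↥(centralizer ({D.ι (Affine.e₁ 3)} : Set G)) ≃* ↥(centralizer ({z} : Set ↥Cfsg.M24))) := by
  classical
  obtain ⟨g, hg, hg2, hfix'⟩ := Cfsg.Agent.S5394.result.2.1
  obtain ⟨z, hz, hfix⟩ : ∃ z : ↥Cfsg.M24, orderOf z = 2 ∧
      (Finset.univ.filter fun p : Cfsg.GolayPt => (z : Equiv.Perm Cfsg.GolayPt) p = p) ∈ Cfsg.octads :=
    ⟨⟨g, hg⟩, by rw [Subgroup.orderOf_mk]; exact hg2, hfix'⟩
  set o := Finset.univ.filter fun p : Cfsg.GolayPt => (z : Equiv.Perm Cfsg.GolayPt) p = p with ho_def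
  have hmo : ∀ x, x ∈ o ↔ (z : Equiv.Perm GolayPt) x = x := fun x => by simp [ho_def]
  obtain ⟨p, hp⟩ : ∃ p, p ∉ o := by
    by_contra hc
    push Not at hc
    have h1 := octad_card hfix
    rw [Finset.eq_univ_of_forall hc, Finset.card_univ, show Fintype.card GolayPt = 24 by decide] at h1
    omega
  let G := ↥(OK o)
  let f : G →* ↥Cfsg.M24 := Subgroup.inclusion inf_le_left
  let U : Subgroup G := (FK o).subgroupOf (OK o)
  let M : Subgroup G := (OK o ⊓ MulAction.stabilizer (Equiv.Perm GolayPt) p).subgroupOf (OK o)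
  have hzFK : (z : Equiv.Perm GolayPt) ∈ FK o := mem_FK.2 ⟨z.2, fun x hx => (hmo x).1 hx⟩
  let z₀ : G := ⟨(z : Equiv.Perm GolayPt), FK_le_OK o hzFK⟩
  have hfz : f z₀ = z := rfl
  have hz₁ : z₀ ≠ 1 := fun h => by
    rw [show z = 1 from (congrArg f h).trans (map_one f), orderOf_one] at hz
    omega
  have hz₀U : z₀ ∈ U := Subgroup.mem_subgroupOf.2 hzFK
  haveI : U.Normal := ⟨fun u hu g => by
    rw [Subgroup.mem_subgroupOf] at hu ⊢
    have h := (mem_FK_conj g.2.1 (o := o) (u : Equiv.Perm GolayPt)).1 hu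
    rwa [show (g : Equiv.Perm GolayPt) • o = o from g.2.2] at h⟩
  obtain ⟨hFKcard, hFKsq⟩ := Cfsg.Agent.S0381.result o hfix
  have hFKc : ∀ a ∈ FK o, ∀ b ∈ FK o, a * b = b * a := fun a ha b hb => by
    calc a * b = (a * b)⁻¹ := (inv_eq_of_mul_eq_one_right (hFKsq _ (mul_mem ha hb))).symm
      _ = b⁻¹ * a⁻¹ := mul_inv_rev a b
      _ = b * a := by rw [inv_eq_of_mul_eq_one_right (hFKsq a ha), inv_eq_of_mul_eq_one_right (hFKsq b hb)]
  have hU : Cfsg.IsElementaryAbelian 2 U :=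
    ⟨⟨⟨fun a b => Subtype.ext (Subtype.ext (hFKc _ (Subgroup.mem_subgroupOf.1 a.2) _ (Subgroup.mem_subgroupOf.1 b.2)))⟩⟩,
      fun a ha => Subtype.ext (by rw [pow_two]; exact hFKsq _ (Subgroup.mem_subgroupOf.1 ha))⟩
  have hUcard : Nat.card ↥U = 2 ^ (3 + 1) :=
    (Nat.card_congr (Subgroup.subgroupOfEquivOfLe (FK_le_OK o)).toEquiv).trans hFKcard
  obtain ⟨-, hMcard'⟩ := stab_point_equiv hfix hp
  have hMcard : Nat.card ↥M = 20160 :=
    (Nat.card_congr (Subgroup.subgroupOfEquivOfLe inf_le_left).toEquiv).trans hMcard'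
  have hUM : U ⊔ M = ⊤ := by
    have hinf : U ⊓ M = ⊥ := by
      rw [eq_bot_iff]
      rintro g ⟨hgU, hgM⟩
      exact Subgroup.mem_bot.2 (Subtype.ext (fix_eq_one hfix hp (Subgroup.mem_subgroupOf.1 hgU)
        (Subgroup.mem_subgroupOf.1 hgM).2))
    refine Subgroup.eq_top_of_le_card _ ?_
    let φ : ↥U × ↥M → ↥(U ⊔ M) := fun x => ⟨x.1.1 * x.2.1, Subgroup.mul_mem_sup x.1.2 x.2.2⟩
    have hφ : Function.Injective φ := fun a b h =>
      Subgroup.mul_injective_of_disjoint (disjoint_iff.2 hinf) (congrArg Subtype.val h)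
    have h1 := Nat.card_le_card_of_injective φ hφ
    rw [Nat.card_prod, hUcard, hMcard] at h1
    rw [show Nat.card G = 322560 from card_OK hfix]
    omega
  have hfaith : ∀ m ∈ M, (∀ u ∈ U, m * u * m⁻¹ = u) → m = 1 := by
    intro m hm hc
    have hmp : (m : Equiv.Perm GolayPt) p = p := (Subgroup.mem_subgroupOf.1 hm).2
    have hout : ∀ x, x ∉ o → (m : Equiv.Perm GolayPt) x = x := by
      intro x hx
      let ev : ↥(FK o) → {y // y ∈ oᶜ} := fun u => ⟨(u : Equiv.Perm GolayPt) p, by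
        rw [Finset.mem_compl]
        intro hm'
        have h1 : (u : Equiv.Perm GolayPt) ((u : Equiv.Perm GolayPt) p) = (u : Equiv.Perm GolayPt) p :=
          (mem_FK.1 u.2).2 _ hm'
        exact hp ((u : Equiv.Perm GolayPt).injective h1 ▸ hm')⟩
      have hinj : Function.Injective ev := fun a b h => by
        have h' : (a : Equiv.Perm GolayPt) p = (b : Equiv.Perm GolayPt) p := congrArg Subtype.val h
        have h1 := fix_eq_one hfix hp (mul_mem (inv_mem b.2) a.2) (by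
          rw [Equiv.Perm.mul_apply, h']; exact (b : Equiv.Perm GolayPt).symm_apply_apply p)
        exact Subtype.ext (inv_mul_eq_one.1 h1).symm
      have hbij : Function.Bijective ev := by
        rw [Nat.bijective_iff_injective_and_card]
        refine ⟨hinj, ?_⟩
        rw [hFKcard, Nat.card_eq_fintype_card, Fintype.card_coe, Finset.card_compl, octad_card hfix]
        rfl
      obtain ⟨u, hu⟩ := hbij.2 ⟨x, Finset.mem_compl.2 hx⟩
      have hu' : (u : Equiv.Perm GolayPt) p = x := congrArg Subtype.val hu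
      have h2 : (m : Equiv.Perm GolayPt) * u * (m : Equiv.Perm GolayPt)⁻¹ = u :=
        congrArg Subtype.val (hc ⟨u, FK_le_OK o u.2⟩ (Subgroup.mem_subgroupOf.2 u.2))
      rw [← hu']
      conv_rhs => rw [← h2]
      rw [Equiv.Perm.mul_apply, Equiv.Perm.mul_apply]
      congr 2
      exact ((Equiv.Perm.inv_eq_iff_eq).2 hmp.symm).symm
    obtain ⟨o', ho', hdis⟩ := Cfsg.Agent.S5425.exists_disjoint_octad hfix
    obtain ⟨p', hp'⟩ : ∃ p', p' ∉ o ∪ o' := by
      by_contra hc'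
      push Not at hc'
      have h1 := Finset.card_union_le o o'
      rw [Finset.eq_univ_of_forall hc', Finset.card_univ, show Fintype.card GolayPt = 24 by decide,
        octad_card hfix, octad_card ho'] at h1
      omega
    rw [Finset.mem_union, not_or] at hp'
    exact Subtype.ext (fix_eq_one ho' hp'.2
      (mem_FK.2 ⟨m.2.1, fun x hx => hout x (fun hxo => Finset.disjoint_left.1 hdis hx hxo)⟩) (hout p' hp'.1))
  have hfull : ∀ φ : ↥U ≃* ↥U, ∃ m ∈ M, ∀ u : ↥U, ((φ u : ↥U) : G) = m * u * m⁻¹ := by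
    haveI := hU.1
    letI : CommGroup ↥U := { (inferInstance : Group ↥U) with mul_comm := fun a b => mul_comm' a b }
    haveI : Fact (Nat.Prime 2) := ⟨Nat.prime_two⟩
    have hA : Nat.card (MulAut ↥U) = 20160 := by
      rw [Cfsg.Agent.GroupStructure3.FrattiniAut.card_mulAut_elementary (p := 2) (r := 4) hUcard
        (fun x => Subtype.ext (hU.2 _ x.2))]
      decide
    let conj : ↥M →* MulAut ↥U :=
      ((MulAut.conjNormal : G →* MulAut ↥U)).comp M.subtype
    have hinj : Function.Injective conj := by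
      rw [injective_iff_map_eq_one]
      intro m hm
      refine Subtype.ext (hfaith m.1 m.2 fun u hu => ?_)
      have := congrArg (fun e : MulAut ↥U => ((e ⟨u, hu⟩ : ↥U) : G)) hm
      simpa [conj] using this
    haveI : Finite (MulAut ↥U) := Nat.finite_of_card_ne_zero (by rw [hA]; norm_num)
    have hbij : Function.Bijective conj := by
      rw [Nat.bijective_iff_injective_and_card]
      exact ⟨hinj, hMcard.trans hA.symm⟩
    intro φ
    obtain ⟨m, hm⟩ := hbij.2 φ
    refine ⟨m.1, m.2, fun u => ?_⟩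
    rw [← hm]
    simp [conj]
  have hrange : Subgroup.centralizer ({f z₀} : Set ↥Cfsg.M24) ≤ f.range := by
    intro g hg
    rw [hfz, Subgroup.mem_centralizer_singleton_iff] at hg
    have hg' : (g : Equiv.Perm GolayPt) * z = (z : Equiv.Perm GolayPt) * g := congrArg Subtype.val hg
    have hstab : (g : Equiv.Perm GolayPt) • o = o := by
      refine Finset.eq_of_subset_of_card_le (fun y hy => ?_) (by rw [Finset.card_smul_finset])
      obtain ⟨x, hx, rfl⟩ := Finset.mem_smul_finset.1 hy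
      rw [hmo] at hx ⊢
      show (z : Equiv.Perm GolayPt) ((g : Equiv.Perm GolayPt) x) = (g : Equiv.Perm GolayPt) x
      rw [← Equiv.Perm.mul_apply, ← hg', Equiv.Perm.mul_apply, hx]
    exact ⟨⟨(g : Equiv.Perm GolayPt), ⟨g.2, hstab⟩⟩, rfl⟩
  obtain ⟨D, hD⟩ := Affine.exists_coord (n := 3) U M hU hUcard hUM hfaith hfull hz₀U hz₁
  refine ⟨z, G, inferInstance, D, hz, ?_⟩
  rw [hD, ← hfz]
  exact centralizer_equiv f (Subgroup.inclusion_injective inf_le_left) z₀ hrange

end Helpers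

/-- The Mathieu group M₂₄ (the automorphism group of the length-24 binary code) has an involution whose centraliser is isomorphic to the centraliser of a transvection in SL(5, 2) (a group of shape 2^{1+6}:GL(3, 2)). -/
theorem result (s : Matrix.SpecialLinearGroup (Fin 5) (ZMod 2)) (hs : (s : Matrix (Fin 5) (Fin 5) (ZMod 2)) = Matrix.transvection 0 1 1) : ∃ z : ↥Cfsg.M24, orderOf z = 2 ∧ Nonempty (↥(Subgroup.centralizer ({z} : Set ↥Cfsg.M24)) ≃* ↥(Subgroup.centralizer ({s} : Set (Matrix.SpecialLinearGroup (Fin 5) (ZMod 2))))) := by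
  obtain ⟨D', ⟨e'⟩⟩ := transvection_side s hs
  obtain ⟨z, G, _, D, hz, ⟨e⟩⟩ := golay_side
  obtain ⟨θ, hθ⟩ := coord_iso D D'
  obtain ⟨eθ⟩ := centralizer_equiv θ.toMonoidHom θ.injective (D.ι (LargeExtra.Affine.e₁ 3))
    (fun y _ => ⟨θ.symm y, θ.apply_symm_apply y⟩)
  refine ⟨z, hz, ⟨(e.symm.trans eθ).trans ((MulEquiv.subgroupCongr ?_).trans e')⟩⟩
  show Subgroup.centralizer ({θ (D.ι (LargeExtra.Affine.e₁ 3))} : Set _) = _
  rw [hθ]

end Cfsg.Agent.S2133
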