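import Cfsg.Statements.S2136
import Cfsg.Agent.Lib.OctadInv.Co2Cent

set_option autoImplicit false
open Cfsg

namespace Cfsg.Agent.S2136

theorem pCore_map_le {A B : Type*} [Group A] [Group B] (f : A ≃* B) :
    (Cfsg.pCore 2 A).map f.toMonoidHom ≤ Cfsg.pCore 2 B :=
  Cfsg.Agent.CharP.le_pCore
    (Subgroup.Normal.map (Cfsg.Agent.Cores.pCore_normal 2) _ f.surjective)
    ((Cfsg.Agent.CharP.isPGroup_pCore 2 _).map _)

open Cfsg.Agent.OctadInv.Co2Cent in
theorem transport {G : Type*} [Group G] (E : G ≃* G2) : ∃ u : G, orderOf u = 2 ∧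
    Cfsg.IsExtraspecial 2 (Cfsg.pCore 2 ↥(Subgroup.centralizer ({u} : Set G))) ∧
    Nat.card (Cfsg.pCore 2 ↥(Subgroup.centralizer ({u} : Set G))) = 2 ^ 9 ∧
    Nonempty (↥(Subgroup.centralizer ({u} : Set G)) ⧸ Cfsg.pCore 2 ↥(Subgroup.centralizer ({u} : Set G)) ≃*
      Matrix.symplecticGroup (Fin 3) (ZMod 2)) := by
  obtain ⟨s, h1, h2, h3, ⟨e⟩⟩ := main
  refine ⟨E.symm s, by rw [← h1]; exact orderOf_injective E.symm.toMonoidHom E.symm.injective s, ?_⟩
  have hc : ∀ g : G, g ∈ Subgroup.centralizer ({E.symm s} : Set G) ↔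
      E g ∈ Subgroup.centralizer ({s} : Set G2) := fun g => by
    rw [Subgroup.mem_centralizer_singleton_iff, Subgroup.mem_centralizer_singleton_iff,
      ← E.injective.eq_iff, map_mul, map_mul, MulEquiv.apply_symm_apply]
  let F : ↥(Subgroup.centralizer ({E.symm s} : Set G)) ≃* ↥(Subgroup.centralizer ({s} : Set G2)) :=
    { toFun := fun g => ⟨E g.1, (hc _).1 g.2⟩
      invFun := fun g => ⟨E.symm g.1, (hc _).2 (by rw [MulEquiv.apply_symm_apply]; exact g.2)⟩
      left_inv := fun g => Subtype.ext (E.symm_apply_apply _)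
      right_inv := fun g => Subtype.ext (E.apply_symm_apply _)
      map_mul' := fun g h => Subtype.ext (map_mul E _ _) }
  have hp : (Cfsg.pCore 2 _).map F.toMonoidHom = Cfsg.pCore 2 ↥(Subgroup.centralizer ({s} : Set G2)) := by
    refine le_antisymm (pCore_map_le F) fun g hg => ⟨F.symm g, pCore_map_le F.symm ⟨g, hg, rfl⟩, F.apply_symm_apply g⟩
  let P := (F.subgroupMap _).trans (MulEquiv.subgroupCongr hp)
  exact ⟨Cfsg.Agent.LargeExtra.isExtraspecial_of_equiv h2 P.symm, (Nat.card_congr P.toEquiv).trans h3,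
    ⟨(QuotientGroup.congr _ _ F hp).trans e⟩⟩

/-- The Conway group Co₂ (the stabiliser of a minimal vector of the rank-24 lattice) has an involution whose centraliser C has largest normal 2-subgroup extraspecial of order 2^9 with quotient C / O₂(C) isomorphic to the symplectic group Sp(6, 2) (shape 2^{1+8}Sp(6, 2)). -/
theorem result : ∃ t : ↥Cfsg.Spor.Co2, orderOf t = 2 ∧ Cfsg.IsExtraspecial 2 (Cfsg.pCore 2 ↥(Subgroup.centralizer ({t} : Set ↥Cfsg.Spor.Co2))) ∧ Nat.card (Cfsg.pCore 2 ↥(Subgroup.centralizer ({t} : Set ↥Cfsg.Spor.Co2))) = 2 ^ 9 ∧ Nonempty (↥(Subgroup.centralizer ({t} : Set ↥Cfsg.Spor.Co2)) ⧸ Cfsg.pCore 2 ↥(Subgroup.centralizer ({t} : Set ↥Cfsg.Spor.Co2)) ≃* Matrix.symplecticGroup (Fin 3) (ZMod 2)) := by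
  obtain ⟨E⟩ := Cfsg.Agent.OctadInv.Co2Cent.nonempty_equiv
  exact transport E

end Cfsg.Agent.S2136
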