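import Cfsg.Statements.S2141
import Cfsg.Agent.Lib.Classical.PSpMinIndex.Main

set_option autoImplicit false
open Cfsg

namespace Cfsg.Agent.S2141

/-- Minimal index of a proper subgroup of the symplectic groups over fields with at least 3 elements: for m ≥ 2 and a field F with q ≥ 3 elements, (m, q) ≠ (2, 3), every proper subgroup of PSp_2m(F) has index at least (q^(2m) − 1)/(q − 1), and that index is attained. -/
theorem result {F : Type*} [Field F] [Fintype F] {q : ℕ} (hF : Fintype.card F = q) (m : ℕ) (hm : 2 ≤ m) (hq : 3 ≤ q) (hexc : ¬ (m = 2 ∧ q = 3)) : (∀ H : Subgroup (Cfsg.PSp m F), H ≠ ⊤ → (q ^ (2 * m) - 1) / (q - 1) ≤ H.index) ∧ (∃ H : Subgroup (Cfsg.PSp m F), H.index = (q ^ (2 * m) - 1) / (q - 1)) := by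
  subst hF
  obtain ⟨k, rfl⟩ : ∃ k, m = k + 1 := ⟨m - 1, by omega⟩
  have hN : (Fintype.card F ^ (2 * (k + 1)) - 1) / (Fintype.card F - 1) =
      Classical.PSpMinIndex.nPts (Fintype.card F) (2 * (k + 1)) := by
    rw [← Classical.PSpMinIndex.nPts_mul_sub_one _ _ (by omega), Nat.add_sub_cancel,
      Nat.mul_div_cancel _ (by omega)]
  rw [hN]
  have hsurj := QuotientGroup.mk'_surjective (Subgroup.center (Matrix.symplecticGroup (Fin (k + 1)) F))
  refine ⟨fun H hH => ?_, ?_⟩
  · rw [← Subgroup.index_comap_of_surjective H hsurj]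
    refine Classical.PSpMinIndex.nPts_le_index hq (by omega) (fun h => hexc ⟨by omega, h.2⟩) _ fun htop => hH ?_
    refine Subgroup.comap_injective hsurj ?_
    rw [htop, Subgroup.comap_top]
  · refine ⟨(Classical.PSpMinIndex.ptStab).map
      (QuotientGroup.mk' (Subgroup.center (Matrix.symplecticGroup (Fin (k + 1)) F))), ?_⟩
    rw [Subgroup.index_map_eq _ hsurj (by
      rw [QuotientGroup.ker_mk']; exact Classical.PSpMinIndex.center_le_ptStab),
      Classical.PSpMinIndex.index_ptStab]

end Cfsg.Agent.S2141
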