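import Cfsg.Statements.S2143
import Cfsg.Agent.Lib.Classical.OrthMinIndex.Families

set_option autoImplicit false
open Cfsg Cfsg.Agent.Classical.OrthMinIndex Cfsg.Agent.Classical.OrthForms Cfsg.Agent.Forms Cfsg.Agent.Forms.PlusStd

namespace Cfsg.Agent.S2143

/-- Minimal index of a proper subgroup of the odd-dimensional orthogonal groups: for m ≥ 3 and a field F with q elements, q odd and q ≥ 5, every proper subgroup of PΩ_(2m+1)(F) (for the form x₀² + Σ xᵢyᵢ) has index at least (q^(2m) − 1)/(q − 1), and that index is attained. -/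
theorem result {F : Type*} [Field F] [Fintype F] {q : ℕ} (hF : Fintype.card F = q) (hodd : Odd q) (h5 : 5 ≤ q) (m : ℕ) (hm : 3 ≤ m) : (∀ H : Subgroup (Cfsg.POmega F (Cfsg.quadFormOdd m F)), H ≠ ⊤ → (q ^ (2 * m) - 1) / (q - 1) ≤ H.index) ∧ (∃ H : Subgroup (Cfsg.POmega F (Cfsg.quadFormOdd m F)), H.index = (q ^ (2 * m) - 1) / (q - 1)) := by
  have h2 : (2 : F) ≠ 0 := two_ne_zero_of_odd (hF ▸ hodd)
  obtain ⟨Y, hY, -, -, eK, hz, -⟩ := odd_counts hF hm hodd
  have hn : 7 ≤ Fintype.card (Unit ⊕ (Fin m ⊕ Fin m)) := by simp; omega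
  have hL := card_Lines (Q := oddQ F m) (c := 0) (fun k _ => by rw [mul_zero])
  rw [if_pos rfl, hF] at hL
  have hsq : q ^ (2 * m) = q ^ 2 * Y ^ 2 := by rw [mul_comm 2 m, pow_mul, eK]; ring
  have hT : (q ^ (2 * m) - 1) / (q - 1) = (Lines (oddQ F m) 0).card := by
    rw [hsq, ← hz, ← hL, Nat.add_sub_cancel]
    exact Nat.mul_div_cancel _ (by omega)
  rw [hT, ← oddQ_eq]
  refine ⟨index_bound (oddQ_nondeg h2 m) hn (spec_odd hF hm hodd
    (fun _ => by rw [mul_comm]; exact hL) fun h => by omega), ?_⟩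
  exact exists_index (oddQ_nondeg h2 m) hn (oddFrame F (by omega)).p.ne_zero.1
    (oddFrame F (by omega)).p.hu

end Cfsg.Agent.S2143
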