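import Cfsg.Statements.S2144
import Cfsg.Agent.Lib.Classical.OrthMinIndex.Families

set_option autoImplicit false
open Cfsg Cfsg.Agent.Classical.OrthMinIndex Cfsg.Agent.Classical.OrthForms Cfsg.Agent.Forms Cfsg.Agent.Forms.PlusStd

namespace Cfsg.Agent.S2144

/-- Minimal index of a proper subgroup of the odd-dimensional orthogonal groups over the field with 3 elements: for m ≥ 3, every proper subgroup of PΩ_(2m+1)(3) (for the form x₀² + Σ xᵢyᵢ) has index at least 3^m(3^m − 1)/2, and that index is attained. -/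
theorem result {F : Type*} [Field F] [Fintype F] (hF : Fintype.card F = 3) (m : ℕ) (hm : 3 ≤ m) : (∀ H : Subgroup (Cfsg.POmega F (Cfsg.quadFormOdd m F)), H ≠ ⊤ → 3 ^ m * (3 ^ m - 1) / 2 ≤ H.index) ∧ (∃ H : Subgroup (Cfsg.POmega F (Cfsg.quadFormOdd m F)), H.index = 3 ^ m * (3 ^ m - 1) / 2) := by
  have hodd : Odd 3 := by decide
  have h2 : (2 : F) ≠ 0 := two_ne_zero_of_odd (hF ▸ hodd)
  obtain ⟨Y, hY, -, -, eK, -, hzc⟩ := odd_counts hF hm hodd
  have hn : 7 ≤ Fintype.card (Unit ⊕ (Fin m ⊕ Fin m)) := by simp; omega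
  have hns : ¬ IsSquare (-1 : F) := fun h => by
    have := (FiniteField.isSquare_neg_one_iff (F := F)).1 h
    omega
  have hL := card_Lines (Q := oddQ F m) (c := -1) (fun k hk => by
    have h := FiniteField.pow_card_sub_one_eq_one k hk
    rw [hF] at h
    linear_combination (-1 : F) * h)
  rw [if_neg (neg_ne_zero.2 one_ne_zero), hF] at hL
  have hc := hzc (-1)
  rw [vals_odd_zero_none hF hns, mul_zero, add_zero, ← hL] at hc
  have hT : 3 ^ m * (3 ^ m - 1) / 2 = (Lines (oddQ F m) (-1)).card := by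
    rw [eK]
    have e : 3 * Y * (3 * Y - 1) + 3 * Y = 9 * Y ^ 2 := by
      zify [show 1 ≤ 3 * Y by omega]; ring
    omega
  classical
  have hY9 : 1 ≤ (Lines (oddQ F m) (-1)).card := by nlinarith
  obtain ⟨L, hL'⟩ := Finset.card_pos.1 hY9
  obtain ⟨v, hv, -⟩ := Finset.mem_image.1 hL'
  obtain ⟨hvc, hv0⟩ := (Finset.mem_filter.1 hv).2
  rw [hT, ← oddQ_eq]
  exact ⟨index_bound (oddQ_nondeg h2 m) hn (spec_odd hF hm hodd
    (fun h => by omega) fun _ => hT.symm), exists_index (oddQ_nondeg h2 m) hn hv0 hvc⟩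

end Cfsg.Agent.S2144
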