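import Cfsg.Statements.S2145
import Cfsg.Agent.Lib.Classical.OrthMinIndex.Families

set_option autoImplicit false
open Cfsg Cfsg.Agent.Classical.OrthMinIndex Cfsg.Agent.Classical.OrthForms Cfsg.Agent.Forms Cfsg.Agent.Forms.PlusStd

namespace Cfsg.Agent.S2145

/-- Minimal index of a proper subgroup of the even-dimensional orthogonal groups of plus type: for m ≥ 4 and a field F with q ≥ 4 elements, every proper subgroup of PΩ⁺_2m(F) (for the form Σ xᵢyᵢ) has index at least (q^m − 1)(q^(m−1) + 1)/(q − 1), and that index is attained (the singular points). -/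
theorem result {F : Type*} [Field F] [Fintype F] {q : ℕ} (hF : Fintype.card F = q) (hq : 4 ≤ q) (m : ℕ) (hm : 4 ≤ m) : (∀ H : Subgroup (Cfsg.POmega F (Cfsg.quadFormPlus m F)), H ≠ ⊤ → (q ^ m - 1) * (q ^ (m - 1) + 1) / (q - 1) ≤ H.index) ∧ (∃ H : Subgroup (Cfsg.POmega F (Cfsg.quadFormPlus m F)), H.index = (q ^ m - 1) * (q ^ (m - 1) + 1) / (q - 1)) := by
  obtain ⟨Y, -, -, -, -, eK, eM, hz, -⟩ := plus_counts hF hm
  have hn : 7 ≤ Fintype.card (Fin m ⊕ Fin m) := by simp; omega
  have hL := card_Lines (Q := plusQ F m) (c := 0) (fun k _ => by rw [mul_zero])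
  rw [if_pos rfl, hF] at hL
  have hT : (q ^ m - 1) * (q ^ (m - 1) + 1) / (q - 1) = (Lines (plusQ F m) 0).card := by
    have e : (q ^ m - 1) * (q ^ (m - 1) + 1) = (Lines (plusQ F m) 0).card * (q - 1) := by
      have h1 : 1 ≤ q ^ m := Nat.one_le_pow _ _ (by omega)
      rw [← hL] at hz
      rw [eK] at h1 ⊢
      rw [eM]
      zify [h1, show 1 ≤ q by omega] at hz ⊢
      linear_combination -hz
    rw [e]
    exact Nat.mul_div_cancel _ (by omega)
  rw [hT, ← plusQ_eq]
  refine ⟨index_bound (plusQ_nondeg F m) hn (spec_plus hF hm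
    (fun _ => by rw [mul_comm]; exact hL) (fun h => by omega) (by omega)), ?_⟩
  exact exists_index (plusQ_nondeg F m) hn (plusFrame F (by omega)).p.ne_zero.1
    (plusFrame F (by omega)).p.hu

end Cfsg.Agent.S2145
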