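import Cfsg.Statements.S2146
import Cfsg.Agent.Lib.Classical.OrthMinIndex.Families

set_option autoImplicit false
open Cfsg Cfsg.Agent.Classical.OrthMinIndex Cfsg.Agent.Classical.OrthForms Cfsg.Agent.Forms Cfsg.Agent.Forms.PlusStd

namespace Cfsg.Agent.S2146

/-- Minimal index of a proper subgroup of the even-dimensional orthogonal groups of plus type over the field with 2 elements: for m ≥ 4, every proper subgroup of Ω⁺_2m(2) (for the form Σ xᵢyᵢ) has index at least 2^(m−1)(2^m − 1), and that index is attained. -/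
theorem result {F : Type*} [Field F] [Fintype F] (hF : Fintype.card F = 2) (m : ℕ) (hm : 4 ≤ m) : (∀ H : Subgroup (Cfsg.POmega F (Cfsg.quadFormPlus m F)), H ≠ ⊤ → 2 ^ (m - 1) * (2 ^ m - 1) ≤ H.index) ∧ (∃ H : Subgroup (Cfsg.POmega F (Cfsg.quadFormPlus m F)), H.index = 2 ^ (m - 1) * (2 ^ m - 1)) := by
  obtain ⟨Y, -, -, -, -, eK, eM, -, hzc⟩ := plus_counts hF hm
  have hn : 7 ≤ Fintype.card (Fin m ⊕ Fin m) := by simp; omega
  have hL := card_Lines (Q := plusQ F m) (c := 1) (fun k hk => by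
    have h := FiniteField.pow_card_sub_one_eq_one k hk
    rw [hF] at h
    rw [show k = 1 by simpa using h]; simp)
  rw [if_neg one_ne_zero, hF] at hL
  have hc := hzc 1 one_ne_zero
  rw [← hL] at hc
  have hY1 : 1 ≤ Y := by
    rcases Nat.eq_zero_or_pos Y with h | h
    · rw [h] at eM
      exact absurd eM (pow_ne_zero _ (by norm_num))
    · exact h
  have hT : 2 ^ (m - 1) * (2 ^ m - 1) = (Lines (plusQ F m) 1).card := by
    rw [eM, eK]
    have e : 2 * Y * (2 ^ 2 * Y - 1) + 2 * Y = 8 * Y ^ 2 := by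
      zify [show 1 ≤ 2 ^ 2 * Y by omega]; ring
    omega
  classical
  have hpos : 0 < (Lines (plusQ F m) 1).card := by nlinarith
  obtain ⟨L, hL'⟩ := Finset.card_pos.1 hpos
  obtain ⟨v, hv, -⟩ := Finset.mem_image.1 hL'
  obtain ⟨hvc, hv0⟩ := (Finset.mem_filter.1 hv).2
  rw [hT, ← plusQ_eq]
  exact ⟨index_bound (plusQ_nondeg F m) hn (spec_plus hF hm
    (fun h => by omega) (fun _ => hT.symm) (by omega)), exists_index (plusQ_nondeg F m) hn hv0 hvc⟩

end Cfsg.Agent.S2146
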