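import Cfsg.Statements.S2147
import Cfsg.Agent.Lib.Classical.OrthMinIndex.Families

set_option autoImplicit false
open Cfsg Cfsg.Agent.Classical.OrthMinIndex Cfsg.Agent.Classical.OrthForms Cfsg.Agent.Forms Cfsg.Agent.Forms.PlusStd

namespace Cfsg.Agent.S2147

/-- Minimal index of a proper subgroup of the even-dimensional orthogonal groups of minus type: for m ≥ 4 and a field F with q elements, every proper subgroup of PΩ⁻_2m(F) (for the form Σ_{i<m−1} xᵢyᵢ + z₁² + a z₁z₂ + b z₂² with anisotropic binary part) has index at least (q^m + 1)(q^(m−1) − 1)/(q − 1), and that index is attained. -/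
theorem result {F : Type*} [Field F] [Fintype F] {q : ℕ} (hF : Fintype.card F = q) (m : ℕ) (hm : 4 ≤ m) (a b : F) (hab : ∀ z₁ z₂ : F, z₁ ^ 2 + a * z₁ * z₂ + b * z₂ ^ 2 = 0 → z₁ = 0 ∧ z₂ = 0) : (∀ H : Subgroup (Cfsg.POmega F (Cfsg.quadFormMinus (m - 1) F a b)), H ≠ ⊤ → (q ^ m + 1) * (q ^ (m - 1) - 1) / (q - 1) ≤ H.index) ∧ (∃ H : Subgroup (Cfsg.POmega F (Cfsg.quadFormMinus (m - 1) F a b)), H.index = (q ^ m + 1) * (q ^ (m - 1) - 1) / (q - 1)) := by
  obtain ⟨k, rfl⟩ : ∃ k, m = k + 1 := ⟨m - 1, by omega⟩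
  simp only [Nat.add_sub_cancel]
  have hk : 3 ≤ k := by omega
  have hq : 1 < q := hF ▸ Fintype.one_lt_card
  obtain ⟨Y, -, -, -, eK, eM, hz, -⟩ := min_counts hF hk hab
  have hn : 7 ≤ Fintype.card ((Fin k ⊕ Fin k) ⊕ Fin 2) := by simp; omega
  have hL := card_Lines (Q := minQ F k a b) (c := 0) (fun k _ => by rw [mul_zero])
  rw [if_pos rfl, hF] at hL
  have hT : (q ^ (k + 1) + 1) * (q ^ k - 1) / (q - 1) = (Lines (minQ F k a b) 0).card := by
    have e : (q ^ (k + 1) + 1) * (q ^ k - 1) = (Lines (minQ F k a b) 0).card * (q - 1) := by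
      have h1 : 1 ≤ q ^ k := Nat.one_le_pow _ _ (by omega)
      rw [← hL] at hz
      rw [eK] at h1 ⊢
      rw [eM]
      zify [h1, show 1 ≤ q by omega] at hz ⊢
      linear_combination -hz
    rw [e]
    exact Nat.mul_div_cancel _ (by omega)
  rw [hT, ← minQ_eq]
  refine ⟨index_bound (minQ_nondeg k hab) hn (spec_min hF hk hab
    (by rw [mul_comm]; exact hL)), ?_⟩
  exact exists_index (minQ_nondeg k hab) hn (minFrame F (by omega) a b).p.ne_zero.1
    (minFrame F (by omega) a b).p.hu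

end Cfsg.Agent.S2147
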