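import Cfsg.Statements.S2153
import Cfsg.Agent.Lib.Classical.UnitaryMinIndex.Induction
import Cfsg.Agent.Lib.Classical.UnitaryMinIndex.LocalThree
import Cfsg.Agent.Lib.Classical.UnitaryMinIndex.Witness
import Cfsg.Agent.Lib.Classical.UnitaryMinIndex.FourMain
-- import your own Cfsg.Agent.* helpers here

set_option autoImplicit false
open Cfsg

namespace Cfsg.Agent.S2153

/-- Minimal index of a proper subgroup of the unitary groups PSU_n(2) with n divisible by 6, realised over the field with 4 elements: every proper subgroup has index at least 2^(n−1)(2^n − 1)/3, and that index is attained. -/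
theorem result {F : Type*} [Field F] [Fintype F] (hF : Fintype.card F = 4) (n : ℕ) (hn : 6 ∣ n) (hpos : 6 ≤ n) : (∀ H : Subgroup (Cfsg.PSU n F 2), H ≠ ⊤ → 2 ^ (n - 1) * (2 ^ n - 1) / 3 ≤ H.index) ∧ (∃ H : Subgroup (Cfsg.PSU n F 2), H.index = 2 ^ (n - 1) * (2 ^ n - 1) / 3) := by
  have hF' : Fintype.card F = 2 ^ 2 := by rw [hF]; norm_num
  have heven : Even n := even_iff_two_dvd.2 (dvd_trans (by norm_num) hn)
  have hB : Cfsg.Agent.Classical.Unitary.MinIndex.Bd 2 n = 2 ^ (n - 1) * (2 ^ n - 1) / 3 := by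
    rw [Cfsg.Agent.Classical.Unitary.MinIndex.Bd, if_pos heven, if_pos rfl]
  refine ⟨fun H hH => hB ▸ Cfsg.Agent.Classical.Unitary.MinIndex.index_bound_PSU hF'
    (Cfsg.Agent.Classical.Unitary.MinIndex.Bd_le_index_SU hF' (Cfsg.Agent.Classical.Unitary.MinIndex.localExcl_three hF') n (by omega)
      fun _ I hI => Cfsg.Agent.Classical.Unitary.MinIndex.bound_four hF' I hI) H hH, ?_⟩
  obtain ⟨H, hH⟩ := Cfsg.Agent.Classical.Unitary.MinIndex.exists_index_anisoPt hF' (n := n) (by omega)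
  refine ⟨H, ?_⟩
  rw [Cfsg.Agent.Classical.UnitaryCount.cnt_one_eq hF', if_pos heven] at hH
  rw [← hH, Nat.mul_div_cancel _ (by norm_num : 0 < 3)]

end Cfsg.Agent.S2153
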