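import Cfsg.Statements.S2160
import Cfsg.Agent.SimpleFacts.ChevalleyGen
import Cfsg.Agent.Lib.Chevalley.Types.All

set_option autoImplicit false
open Cfsg

namespace Cfsg.Agent.S2160

/-- In a Chevalley group of type G₂, B₂, D₄, F₄, E₆, E₇ or E₈ over a finite field, every field automorphism commutes with every graph automorphism. -/
theorem result {F : Type*} [Field F] [Finite F] (D : Cfsg.Lie.ChevalleyDatum) (hD : D ∈ [Cfsg.Lie.chevG2, Cfsg.Lie.chevB2, Cfsg.Lie.chevD4, Cfsg.Lie.chevF4, Cfsg.Lie.chevE6, Cfsg.Lie.chevE7, Cfsg.Lie.chevE8]) (f g : ↥(D.group F) ≃* ↥(D.group F))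
    (hf : D.IsFieldAut f) (hg : D.IsGraphAut g) (y : ↥(D.group F)) : f (g y) = g (f y) := by
  obtain ⟨T, hC⟩ := Cfsg.Agent.Chevalley.Types.All.exists_certified hD
  obtain ⟨σ, hσ⟩ := hf
  obtain ⟨π, -, hπ⟩ := hg
  refine DFunLike.congr_fun (Cfsg.Agent.SimpleFacts.ChevalleyGen.hom_ext hC
    (g.trans f).toMonoidHom (f.trans g).toMonoidHom fun z i t hi hz => ?_) y
  show f (g z) = g (f z)
  refine Subtype.ext (Units.ext ?_)
  rcases hz with hz | hz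
  · rw [hσ _ _ _ (hC.simple_lt (π ⟨i, hi⟩).2) ((hπ z ⟨i, hi⟩ t).1 hz),
      (hπ (f z) ⟨i, hi⟩ (σ t)).1 (hσ z _ t (hC.simple_lt hi) hz), map_pow]
  · rw [hσ _ _ _ (hC.neg_lt (hC.simple_lt (π ⟨i, hi⟩).2)) ((hπ z ⟨i, hi⟩ t).2 hz),
      (hπ (f z) ⟨i, hi⟩ (σ t)).2 (hσ z _ t (hC.neg_lt (hC.simple_lt hi)) hz), map_pow]

end Cfsg.Agent.S2160
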