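import Cfsg.Statements.S2163
import Cfsg.Agent.SimpleFacts.StdInvolution

set_option autoImplicit false
open Cfsg

namespace Cfsg.Agent.S2163

open Matrix Cfsg.Agent.SimpleFacts.StdInvolution

/-- Over a finite field of characteristic two and for n ≥ 3: for every ℓ with 1 ≤ ℓ and 2ℓ ≤ n, the matrix j_ℓ that is the identity plus the entries 1 in positions (n − ℓ + i, i) for i < ℓ (an identity block of size ℓ in the lower left corner) lies in SL_n(F), has order 2, and j_ℓ − 1 has rank ℓ. Together with the conjugacy criterion by rank, these matrices represent the conjugacy classes of involutions of SL_n(F). -/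
theorem result {F : Type*} [Field F] [Fintype F] [CharP F 2] {n : ℕ} (hn : 3 ≤ n) (ℓ : ℕ) (h1 : 1 ≤ ℓ) (h2 : 2 * ℓ ≤ n) :
    ∃ a : Matrix.SpecialLinearGroup (Fin n) F, (a : Matrix (Fin n) (Fin n) F) = 1 + Matrix.of (fun i j : Fin n => if j.val < ℓ ∧ i.val = j.val + (n - ℓ) then (1 : F) else 0) ∧ orderOf a = 2 ∧ ((a : Matrix (Fin n) (Fin n) F) - 1).rank = ℓ := by
  classical
  set d := n - ℓ with hd
  set N : Matrix (Fin n) (Fin n) F := shiftMat F n ℓ d * (shiftMat F n ℓ 0)ᵀ with hNdef
  have hA : (shiftMat F n ℓ d)ᵀ * shiftMat F n ℓ d = 1 := shift_self d (by omega)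
  have hB : (shiftMat F n ℓ 0)ᵀ * shiftMat F n ℓ 0 = 1 := shift_self 0 (by omega)
  have hBA : (shiftMat F n ℓ 0)ᵀ * shiftMat F n ℓ d = 0 := shift_apart 0 d (by omega) (by omega)
  have hN : N * N = 0 := by
    rw [hNdef, Matrix.mul_assoc, ← Matrix.mul_assoc (shiftMat F n ℓ 0)ᵀ, hBA, Matrix.zero_mul,
      Matrix.mul_zero]
  obtain ⟨hdet, hsq⟩ := det_one_add N hN
  have hrank : N.rank = ℓ := rank_eq _ _ _ _ hA hB
  refine ⟨⟨1 + N, hdet⟩, ?_, ?_, ?_⟩
  · show 1 + N = _
    congr 1
    ext i j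
    rw [hNdef, shiftMat_mul_transpose, Matrix.of_apply]
    have := i.isLt; have := j.isLt
    refine if_congr ?_ rfl rfl
    omega
  · refine orderOf_eq_prime ?_ ?_
    · exact (pow_two _).trans (Subtype.ext hsq)
    · intro h
      have h' : N = 0 := by simpa using congrArg Subtype.val h
      rw [h', rank_zero] at hrank
      omega
  · show (1 + N - 1).rank = ℓ
    rw [add_sub_cancel_left, hrank]

end Cfsg.Agent.S2163
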