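import Cfsg.Statements.S2165
import Cfsg.Agent.SimpleFacts.StdInvolution

set_option autoImplicit false
open Cfsg

namespace Cfsg.Agent.S2165

open Matrix Cfsg.Agent.SimpleFacts.StdInvolution

/-- In SU_n(q), q even, n ≥ 3 (matrices of determinant 1 over the field with q² elements preserving Σ u_i v_i^q): for every ℓ with 1 ≤ ℓ and 2ℓ ≤ n, the permutation matrix of the involution of {0, …, n−1} exchanging i and n − ℓ + i for each i < ℓ lies in SU_n(q), has order 2, and differs from the identity by a matrix of rank ℓ. So every rank between 1 and n/2 occurs for involutions of SU_n(q). -/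
theorem result {F : Type*} [Field F] [Fintype F] [CharP F 2] {n q : ℕ} (hF : Fintype.card F = q ^ 2) (hn : 3 ≤ n) (ℓ : ℕ) (h1 : 1 ≤ ℓ) (h2 : 2 * ℓ ≤ n) :
    ∃ a : ↥(Cfsg.SU n F q), (((a : Matrix.SpecialLinearGroup (Fin n) F) : Matrix (Fin n) (Fin n) F) = Matrix.of (fun i j : Fin n => if (j.val < ℓ ∧ i.val = j.val + (n - ℓ)) ∨ (i.val < ℓ ∧ j.val = i.val + (n - ℓ)) ∨ (i = j ∧ ℓ ≤ i.val ∧ i.val < n - ℓ) then (1 : F) else 0)) ∧ orderOf a = 2 ∧ ((((a : Matrix.SpecialLinearGroup (Fin n) F) : Matrix (Fin n) (Fin n) F)) - 1).rank = ℓ := by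
  classical
  set d := n - ℓ with hd
  set A : Matrix (Fin n) (Fin ℓ) F := shiftMat F n ℓ d with hAdef
  set B : Matrix (Fin n) (Fin ℓ) F := shiftMat F n ℓ 0 with hBdef
  have hA : Aᵀ * A = 1 := shift_self d (by omega)
  have hB : Bᵀ * B = 1 := shift_self 0 (by omega)
  have hBA : Bᵀ * A = 0 := shift_apart 0 d (by omega) (by omega)
  have hAB : Aᵀ * B = 0 := shift_apart d 0 (by omega) (by omega)
  set N : Matrix (Fin n) (Fin n) F := (A + B) * (A + B)ᵀ with hNdef
  have hCC : (A + B)ᵀ * (A + B) = 0 := by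
    rw [transpose_add, Matrix.add_mul, Matrix.mul_add, Matrix.mul_add, hA, hB, hBA, hAB, add_zero, zero_add]
    ext i j
    exact CharTwo.add_self_eq_zero _
  have hN : N * N = 0 := by
    rw [hNdef, Matrix.mul_assoc, ← Matrix.mul_assoc (A + B)ᵀ, hCC, Matrix.zero_mul, Matrix.mul_zero]
  obtain ⟨hdet, hsq⟩ := det_one_add N hN
  have hrank : N.rank = ℓ := by
    refine rank_eq _ _ B B ?_ ?_
    · rw [Matrix.mul_add, hBA, hB, zero_add]
    · rw [transpose_add, Matrix.add_mul, hAB, hB, zero_add]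
  have hform : 1 + N = Matrix.of (fun i j : Fin n => if (j.val < ℓ ∧ i.val = j.val + (n - ℓ)) ∨
      (i.val < ℓ ∧ j.val = i.val + (n - ℓ)) ∨ (i = j ∧ ℓ ≤ i.val ∧ i.val < n - ℓ) then (1 : F) else 0) := by
    ext i j
    rw [Matrix.add_apply, hNdef, transpose_add, Matrix.add_mul, Matrix.mul_add, Matrix.mul_add, Matrix.add_apply,
      Matrix.add_apply, Matrix.add_apply, hAdef, hBdef, shiftMat_mul_transpose,
      shiftMat_mul_transpose, shiftMat_mul_transpose, shiftMat_mul_transpose, Matrix.one_apply,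
      Matrix.of_apply]
    have := i.isLt; have := j.isLt
    simp only [Fin.ext_iff]
    split_ifs <;> first
      | omega
      | simp [CharTwo.add_self_eq_zero, CharTwo.two_eq_zero]
  have hmem : (⟨1 + N, hdet⟩ : Matrix.SpecialLinearGroup (Fin n) F) ∈ Cfsg.SU n F q := by
    obtain ⟨f, hf⟩ : ∃ f : ℕ, q = 2 ^ f := by
      obtain ⟨k, hk, hcard⟩ := FiniteField.card F 2
      obtain ⟨f, -, hf⟩ := (Nat.dvd_prime_pow Nat.prime_two).1
        (show q ∣ 2 ^ (k : ℕ) by rw [← hcard, hF]; exact dvd_pow_self q two_ne_zero)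
      exact ⟨f, hf⟩
    have : ExpChar F 2 := ExpChar.prime Nat.prime_two
    intro u v
    set M : Matrix (Fin n) (Fin n) F := 1 + N with hM
    have key : ∀ x y : Fin n → F, Cfsg.hermForm n F q x y = x ⬝ᵥ (iterateFrobenius F 2 f ∘ y) := by
      intro x y
      simp [Cfsg.hermForm, dotProduct, iterateFrobenius_def, hf]
    show Cfsg.hermForm n F q (M *ᵥ u) (M *ᵥ v) = Cfsg.hermForm n F q u v
    have hMσ : M.map (iterateFrobenius F 2 f) = M := by
      rw [hform]
      ext i j
      simp only [Matrix.map_apply, Matrix.of_apply]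
      split_ifs <;> simp
    have h2 : iterateFrobenius F 2 f ∘ (M *ᵥ v) = M *ᵥ (iterateFrobenius F 2 f ∘ v) := by
      funext i
      have := RingHom.map_mulVec (iterateFrobenius F 2 f) M v i
      rw [hMσ] at this
      exact this
    rw [key, key, h2, dotProduct_mulVec, ← mulVec_transpose, mulVec_mulVec]
    have hsymm : Mᵀ = M := by rw [hM, transpose_add, transpose_one, hNdef, transpose_mul, transpose_transpose]
    rw [hsymm, hM, hsq, one_mulVec]
  refine ⟨⟨_, hmem⟩, hform, ?_, ?_⟩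
  · refine orderOf_eq_prime (Subtype.ext (Subtype.ext ?_)) ?_
    · rw [SubgroupClass.coe_pow, Matrix.SpecialLinearGroup.coe_pow, sq]
      exact hsq
    · intro h
      have h' : N = 0 := by simpa using congrArg (fun x : Cfsg.SU n F q => x.1.1) h
      rw [h', rank_zero] at hrank
      omega
  · show (1 + N - 1).rank = ℓ
    rw [add_sub_cancel_left, hrank]

end Cfsg.Agent.S2165
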