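import Cfsg.Statements.S2167
import Cfsg.Agent.Lib.Forms.Bases

set_option autoImplicit false
open Cfsg

namespace Cfsg.Agent.S2167

open Matrix

/-- For an involution t of the symplectic group Sp_{2m}(F), m ≥ 2, F a finite field of characteristic two (matrices A with A J Aᵀ = J acting on column vectors, alternating form f(u, v) = u ⬝ (J v)): the set V(t) of vectors v with f(v, t v) = 0 has either q^{2m} or q^{2m−1} elements, q the order of F (it is a subspace of codimension at most 1), and if it is the whole space then t − 1 has even rank. -/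
theorem result {F : Type*} [Field F] [Fintype F] [CharP F 2] {m : ℕ} (hm : 2 ≤ m) (a : ↥(Matrix.symplecticGroup (Fin m) F)) (ha : orderOf a = 2) :
    (Nat.card {v : Fin m ⊕ Fin m → F // Cfsg.sympForm m F v (Matrix.mulVec ((a : ↥(Matrix.symplecticGroup (Fin m) F)) : Matrix (Fin m ⊕ Fin m) (Fin m ⊕ Fin m) F) v) = 0} = Fintype.card F ^ (2 * m) ∨ Nat.card {v : Fin m ⊕ Fin m → F // Cfsg.sympForm m F v (Matrix.mulVec ((a : ↥(Matrix.symplecticGroup (Fin m) F)) : Matrix (Fin m ⊕ Fin m) (Fin m ⊕ Fin m) F) v) = 0} * Fintype.card F = Fintype.card F ^ (2 * m)) ∧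
    ((∀ v : Fin m ⊕ Fin m → F, Cfsg.sympForm m F v (Matrix.mulVec ((a : ↥(Matrix.symplecticGroup (Fin m) F)) : Matrix (Fin m ⊕ Fin m) (Fin m ⊕ Fin m) F) v) = 0) → Even (((a : ↥(Matrix.symplecticGroup (Fin m) F)) : Matrix (Fin m ⊕ Fin m) (Fin m ⊕ Fin m) F) - 1).rank) := by
  classical
  set A : Matrix (Fin m ⊕ Fin m) (Fin m ⊕ Fin m) F := a.1 with hA
  have hAA : A * A = 1 := by
    have h := congrArg Subtype.val (pow_orderOf_eq_one a)
    rw [ha, sq] at h
    simpa using h
  set J := Matrix.J (Fin m) F with hJ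
  have hpres : Aᵀ * J * A = J := SymplecticGroup.mem_iff'.1 a.2
  have hJs : Jᵀ = J := by
    rw [hJ, Matrix.J_transpose]
    ext i j
    exact CharTwo.neg_eq _
  set M := J * A with hM
  have hMs : Mᵀ = M := by
    calc Mᵀ = Aᵀ * J * (A * A) := by rw [hAA, Matrix.mul_one, hM, transpose_mul, hJs]
      _ = J * A := by rw [← Matrix.mul_assoc, hpres]
  have hJz : ∀ v, v ⬝ᵥ J *ᵥ v = 0 := by
    intro v
    have hsplit : v ⬝ᵥ J *ᵥ v = ∑ i, v (.inl i) * -v (.inr i) + ∑ i, v (.inr i) * v (.inl i) := by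
      simp [hJ, Matrix.J, fromBlocks_mulVec, dotProduct, Fintype.sum_sum_type, neg_mulVec]
    rw [hsplit, ← Finset.sum_add_distrib]
    exact Finset.sum_eq_zero fun i _ => by ring
  have hQdef : ∀ v, Cfsg.sympForm m F v (A *ᵥ v) = v ⬝ᵥ M *ᵥ v := fun v => by
    rw [Cfsg.sympForm, mulVec_mulVec]
  have hsym : ∀ x y, x ⬝ᵥ M *ᵥ y = y ⬝ᵥ M *ᵥ x := by
    intro x y
    rw [dotProduct_mulVec, ← mulVec_transpose, hMs, dotProduct_comm]
  let Q : (Fin m ⊕ Fin m → F) →+ F :=
    { toFun := fun v => v ⬝ᵥ M *ᵥ v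
      map_zero' := by simp
      map_add' := fun v w => by
        simp only [mulVec_add, add_dotProduct, dotProduct_add]
        rw [hsym w v]
        linear_combination (CharTwo.add_self_eq_zero (v ⬝ᵥ M *ᵥ w)) }
  refine ⟨?_, ?_⟩
  · have hker : Nat.card {v : Fin m ⊕ Fin m → F // Cfsg.sympForm m F v (A *ᵥ v) = 0} = Nat.card Q.ker := by
      refine Nat.card_congr (Equiv.subtypeEquivRight fun v => ?_)
      rw [hQdef, AddMonoidHom.mem_ker]
      rfl
    have htot : Nat.card Q.ker * Nat.card Q.range = Fintype.card F ^ (2 * m) := by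
      have h := Q.ker.card_mul_index
      rw [AddSubgroup.index_ker, Nat.card_fun, Nat.card_eq_fintype_card (α := F),
        Nat.card_eq_fintype_card (α := Fin m ⊕ Fin m), Fintype.card_sum, Fintype.card_fin,
        ← two_mul] at h
      exact h
    rw [hker]
    by_cases hall : ∀ v, Q v = 0
    · left
      have : Q.range = ⊥ := by
        rw [eq_bot_iff]
        rintro _ ⟨v, rfl⟩
        exact hall v
      rw [this, AddSubgroup.card_bot, mul_one] at htot
      exact htot
    · right
      push Not at hall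
      obtain ⟨v, hv⟩ := hall
      have : Q.range = ⊤ := by
        rw [eq_top_iff]
        intro x _
        obtain ⟨c, hc⟩ := (Finite.injective_iff_surjective.1
          (show Function.Injective (fun c : F => c ^ 2) from CharTwo.sq_injective)) (x / Q v)
        refine ⟨c • v, ?_⟩
        show (c • v) ⬝ᵥ M *ᵥ (c • v) = x
        simp only [mulVec_smul, smul_dotProduct, dotProduct_smul, smul_eq_mul]
        simp only at hc
        rw [show c * (c * (v ⬝ᵥ M *ᵥ v)) = c ^ 2 * Q v by rw [sq, mul_assoc]; rfl, hc,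
          div_mul_cancel₀ _ hv]
      rw [this, AddSubgroup.card_top, Nat.card_eq_fintype_card (α := F)] at htot
      exact htot
  · intro hall
    set N := A - 1 with hN
    let φ : (Fin m ⊕ Fin m → F) →ₗ[F] (Fin m ⊕ Fin m → F) := N.mulVecLin
    obtain ⟨W, hW⟩ := Submodule.exists_isCompl φ.ker
    set K := J * N with hK
    have hKs : Kᵀ = K := by
      rw [hK, hN, Matrix.mul_sub, Matrix.mul_one, transpose_sub, hJs, ← hM, hMs]
    have hKalt : ∀ v, v ⬝ᵥ K *ᵥ v = 0 := by
      intro v
      rw [hK, hN, Matrix.mul_sub, Matrix.mul_one, sub_mulVec, dotProduct_sub, ← hM, ← hQdef, hall, hJz,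
        sub_zero]
    let β : LinearMap.BilinForm F W := (Matrix.toLinearMap₂' F K).compl₁₂ W.subtype W.subtype
    have hβ : ∀ u w : W, β u w = (u : Fin m ⊕ Fin m → F) ⬝ᵥ K *ᵥ (w : Fin m ⊕ Fin m → F) := fun u w => by
      simp [β, Matrix.toLinearMap₂'_apply']
    have hsymK : ∀ x y, x ⬝ᵥ K *ᵥ y = y ⬝ᵥ K *ᵥ x := by
      intro x y
      rw [dotProduct_mulVec, ← mulVec_transpose, hKs, dotProduct_comm]
    have hsep : ∀ u : W, (∀ w : W, β u w = 0) → u = 0 := by
      intro u hu
      have hall' : ∀ v, v ⬝ᵥ K *ᵥ (u : Fin m ⊕ Fin m → F) = 0 := by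
        intro v
        have hv : v ∈ φ.ker ⊔ W := by rw [hW.sup_eq_top]; trivial
        obtain ⟨k, hk, w, hw, rfl⟩ := Submodule.mem_sup.1 hv
        rw [hsymK, mulVec_add, dotProduct_add, ← hβ u ⟨w, hw⟩, hu, add_zero, hK, ← mulVec_mulVec]
        have : N *ᵥ k = 0 := hk
        rw [this, mulVec_zero, dotProduct_zero]
      have hKu : K *ᵥ (u : Fin m ⊕ Fin m → F) = 0 := dotProduct_eq_zero _ fun v => by
        rw [dotProduct_comm]; exact hall' v
      have hJinj : Function.Injective fun v => J *ᵥ v := by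
        intro x y h
        have := congrArg (fun v => J *ᵥ v) h
        simp only [mulVec_mulVec, hJ, Matrix.J_squared, neg_mulVec, one_mulVec, neg_inj] at this
        exact this
      have hker : (u : Fin m ⊕ Fin m → F) ∈ φ.ker := by
        show N *ᵥ _ = 0
        apply hJinj
        simp only [mulVec_mulVec, ← hK, hKu, mulVec_zero]
      exact Subtype.ext (Submodule.disjoint_def.1 hW.disjoint _ hker u.2)
    obtain ⟨k, hk⟩ := Forms.Bases.even_finrank_of_alt β (fun u => by rw [hβ]; exact hKalt _)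
      ⟨hsep, fun u hu => hsep u fun w => by rw [hβ, hsymK, ← hβ]; exact hu w⟩
    refine ⟨k, ?_⟩
    have h1 := LinearMap.finrank_range_add_finrank_ker φ
    have h2 := Submodule.finrank_add_eq_of_isCompl hW
    rw [Matrix.rank]
    show Module.finrank F φ.range = k + k
    omega

end Cfsg.Agent.S2167
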