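import Cfsg.Statements.S2166
import Cfsg.Agent.Lib.Forms.Invol.Groups
import Cfsg.Agent.S2167
-- import your own Cfsg.Agent.* helpers here

set_option autoImplicit false
open Cfsg

namespace Cfsg.Agent.S2166

/-- Conjugacy of involutions in the symplectic group Sp_{2m}(F), F a finite field of characteristic two, m ≥ 2 (Sp taken as the matrices A with A J Aᵀ = J, acting on column vectors, with the alternating form f(u, v) = u ⬝ (J v)). For an involution t write V(t) for the set of vectors v with f(v, t v) = 0 (a subspace). Two involutions a, b are conjugate in Sp_{2m}(F) exactly when a − 1 and b − 1 have the same rank and, in case that rank is even, V(a) and V(b) have the same number of elements. -/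
theorem result {F : Type*} [Field F] [Fintype F] [CharP F 2] {m : ℕ} (hm : 2 ≤ m) (a b : ↥(Matrix.symplecticGroup (Fin m) F)) (ha : orderOf a = 2) (hb : orderOf b = 2) :
    IsConj a b ↔ ((((a : ↥(Matrix.symplecticGroup (Fin m) F)) : Matrix (Fin m ⊕ Fin m) (Fin m ⊕ Fin m) F) - 1).rank = (((b : ↥(Matrix.symplecticGroup (Fin m) F)) : Matrix (Fin m ⊕ Fin m) (Fin m ⊕ Fin m) F) - 1).rank ∧
      (Even (((a : ↥(Matrix.symplecticGroup (Fin m) F)) : Matrix (Fin m ⊕ Fin m) (Fin m ⊕ Fin m) F) - 1).rank → Nat.card {v : Fin m ⊕ Fin m → F // Cfsg.sympForm m F v (Matrix.mulVec ((a : ↥(Matrix.symplecticGroup (Fin m) F)) : Matrix (Fin m ⊕ Fin m) (Fin m ⊕ Fin m) F) v) = 0} = Nat.card {v : Fin m ⊕ Fin m → F // Cfsg.sympForm m F v (Matrix.mulVec ((b : ↥(Matrix.symplecticGroup (Fin m) F)) : Matrix (Fin m ⊕ Fin m) (Fin m ⊕ Fin m) F) v) = 0})) := by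
  classical
  have h2 : (2 : F) = 0 := CharTwo.two_eq_zero
  have hsq : ∀ c : ↥(Matrix.symplecticGroup (Fin m) F), orderOf c = 2 →
      (c : Matrix (Fin m ⊕ Fin m) (Fin m ⊕ Fin m) F) * (c : Matrix (Fin m ⊕ Fin m) (Fin m ⊕ Fin m) F) = 1 := by
    intro c hc
    have h := pow_orderOf_eq_one c
    rw [hc, sq] at h
    exact congrArg Subtype.val h
  have hB : ∀ u v, Forms.SympStd.sympB m F u v = Cfsg.sympForm m F u v := Forms.SympStd.sympB_apply
  have hN : ∀ c : ↥(Matrix.symplecticGroup (Fin m) F), orderOf c = 2 → Forms.Invol.Nil (Forms.SympStd.sympB m F)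
      (Matrix.toLin' ((c : Matrix (Fin m ⊕ Fin m) (Fin m ⊕ Fin m) F) - 1)) := fun c hc =>
    Forms.Invol.nil_sub_one h2 (hsq c hc) fun u v => by
      rw [hB, hB]; exact Forms.SympStd.sympForm_mulVec c u v
  have halt : ∀ c : ↥(Matrix.symplecticGroup (Fin m) F),
      (∀ u, Forms.SympStd.sympB m F (Matrix.toLin' ((c : Matrix (Fin m ⊕ Fin m) (Fin m ⊕ Fin m) F) - 1) u) u = 0) ↔
        ∀ v, Cfsg.sympForm m F v (Matrix.mulVec (c : Matrix (Fin m ⊕ Fin m) (Fin m ⊕ Fin m) F) v) = 0 := fun c => by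
    refine forall_congr' fun v => ?_
    rw [Matrix.toLin'_apply, Matrix.sub_mulVec, Matrix.one_mulVec, map_sub, LinearMap.sub_apply,
      Forms.SympStd.sympB_isAlt v, sub_zero, Forms.Invol.symm_of_alt' h2 Forms.SympStd.sympB_isAlt, hB]
  have htot : Nat.card (Fin m ⊕ Fin m → F) = Fintype.card F ^ (2 * m) := by
    simp [Nat.card_eq_fintype_card, two_mul]
  have hcard : ∀ c : ↥(Matrix.symplecticGroup (Fin m) F), orderOf c = 2 →
      ((∀ v, Cfsg.sympForm m F v (Matrix.mulVec (c : Matrix (Fin m ⊕ Fin m) (Fin m ⊕ Fin m) F) v) = 0) →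
        Nat.card {v // Cfsg.sympForm m F v (Matrix.mulVec (c : Matrix (Fin m ⊕ Fin m) (Fin m ⊕ Fin m) F) v) = 0} = Fintype.card F ^ (2 * m)) ∧
      ((¬ ∀ v, Cfsg.sympForm m F v (Matrix.mulVec (c : Matrix (Fin m ⊕ Fin m) (Fin m ⊕ Fin m) F) v) = 0) →
        Nat.card {v // Cfsg.sympForm m F v (Matrix.mulVec (c : Matrix (Fin m ⊕ Fin m) (Fin m ⊕ Fin m) F) v) = 0} * Fintype.card F = Fintype.card F ^ (2 * m)) := by
    intro c hc
    refine ⟨fun h => ?_, fun h => ?_⟩
    · rw [← htot]; exact Nat.card_congr (Equiv.subtypeUnivEquiv h)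
    · refine (S2167.result hm c hc).1.resolve_left fun he => ?_
      push Not at h
      obtain ⟨v, hv⟩ := h
      rw [← htot, Nat.card_eq_fintype_card, Nat.card_eq_fintype_card] at he
      exact absurd he (Nat.ne_of_lt (Fintype.card_subtype_lt hv))
  have heven : ∀ c : ↥(Matrix.symplecticGroup (Fin m) F), orderOf c = 2 →
      (∀ v, Cfsg.sympForm m F v (Matrix.mulVec (c : Matrix (Fin m ⊕ Fin m) (Fin m ⊕ Fin m) F) v) = 0) →
        Even ((c : Matrix (Fin m ⊕ Fin m) (Fin m ⊕ Fin m) F) - 1).rank := fun c hc => (S2167.result hm c hc).2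
  have key := Forms.Invol.conj_symp_iff h2 Forms.SympStd.sympB_nondegenerate Forms.SympStd.sympB_isAlt
    (hN a ha) (hN b hb)
  rw [← Forms.Invol.rank_sub_one, ← Forms.Invol.rank_sub_one, halt, halt] at key
  constructor
  · intro h
    obtain ⟨c, hc⟩ := isConj_iff.1 h
    have hca : (c : Matrix (Fin m ⊕ Fin m) (Fin m ⊕ Fin m) F) * (a : Matrix (Fin m ⊕ Fin m) (Fin m ⊕ Fin m) F)
        = (b : Matrix (Fin m ⊕ Fin m) (Fin m ⊕ Fin m) F) * c := congrArg Subtype.val (mul_inv_eq_iff_eq_mul.1 hc)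
    let g : (Fin m ⊕ Fin m → F) ≃ₗ[F] (Fin m ⊕ Fin m → F) := LinearEquiv.ofLinearMap
      (Matrix.toLin' (c : Matrix (Fin m ⊕ Fin m) (Fin m ⊕ Fin m) F))
      (Matrix.toLin' ((c⁻¹ : ↥(Matrix.symplecticGroup (Fin m) F)) : Matrix (Fin m ⊕ Fin m) (Fin m ⊕ Fin m) F))
      (by rw [← Matrix.toLin'_mul, show (c : Matrix (Fin m ⊕ Fin m) (Fin m ⊕ Fin m) F) *
          ((c⁻¹ : ↥(Matrix.symplecticGroup (Fin m) F)) : Matrix (Fin m ⊕ Fin m) (Fin m ⊕ Fin m) F) = 1 from
          congrArg Subtype.val (mul_inv_cancel c), Matrix.toLin'_one])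
      (by rw [← Matrix.toLin'_mul, show ((c⁻¹ : ↥(Matrix.symplecticGroup (Fin m) F)) : Matrix (Fin m ⊕ Fin m) (Fin m ⊕ Fin m) F) *
          (c : Matrix (Fin m ⊕ Fin m) (Fin m ⊕ Fin m) F) = 1 from
          congrArg Subtype.val (inv_mul_cancel c), Matrix.toLin'_one])
    have hge : ∀ v, g v = Matrix.mulVec (c : Matrix (Fin m ⊕ Fin m) (Fin m ⊕ Fin m) F) v := fun v => rfl
    obtain ⟨hr, hal⟩ := key.1 ⟨g, fun u v => by
        rw [hB, hB, hge, hge]; exact Forms.SympStd.sympForm_mulVec c u v,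
      fun v => by rw [hge, hge]; exact Forms.Invol.intertwine_of_mul hca v⟩
    refine ⟨hr, fun _ => ?_⟩
    by_cases h0 : ∀ v, Cfsg.sympForm m F v (Matrix.mulVec (a : Matrix (Fin m ⊕ Fin m) (Fin m ⊕ Fin m) F) v) = 0
    · rw [(hcard a ha).1 h0, (hcard b hb).1 (hal.1 h0)]
    · exact Nat.eq_of_mul_eq_mul_right Fintype.card_pos
        (((hcard a ha).2 h0).trans ((hcard b hb).2 fun h => h0 (hal.2 h)).symm)
  · rintro ⟨hr, hV⟩
    have hq := Fintype.one_lt_card (α := F)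
    have hpos : 0 < Fintype.card F ^ (2 * m) := by positivity
    obtain ⟨g, hg, hgN⟩ := key.2 ⟨hr, ⟨fun h0 => by
      by_contra h1
      have e := hV (heven a ha h0)
      rw [(hcard a ha).1 h0] at e
      have e3 := (hcard b hb).2 h1
      rw [← e] at e3
      nlinarith, fun h0 => by
      by_contra h1
      have e := hV (hr.symm ▸ heven b hb h0)
      rw [(hcard b hb).1 h0] at e
      have e3 := (hcard a ha).2 h1
      rw [e] at e3
      nlinarith⟩⟩
    refine isConj_iff.2 ⟨Forms.SympStd.ofEquiv g fun u v => by rw [← hB, ← hB, hg],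
      mul_inv_eq_iff_eq_mul.2 (Subtype.ext ?_)⟩
    exact Forms.Invol.mul_of_intertwine g.toLinearMap hgN

end Cfsg.Agent.S2166
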