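import Cfsg.Statements.S2175
import Cfsg.Agent.Lib.Chevalley.InvolCert.E6.Final

set_option autoImplicit false
open Cfsg

namespace Cfsg.Agent.S2175

/-- Conjugacy classes of involutions in the Chevalley group of type E₆ over a finite field F of characteristic two (the matrix group generated by the root elements x_r(t)). In this problem's root numbering for type E₆ (the Chevalley data module; fundamental roots numbered so that p₁–p₃–p₄–p₅–p₆ is the long chain of the diagram and p₂ is joined to p₄; roots indexed by their coefficient vectors in increasing order) let r = 71 be the highest root (1,2,2,3,2,1), α = 68 = (1,1,2,2,1,1), β = 66 = (1,1,1,2,2,1), γ = 55 = (0,1,1,2,2,1), δ = 65 = (1,1,1,2,1,1), ε = 67 = (1,1,2,2,1,0) (α ⊥ β and γ, δ, ε pairwise orthogonal); consider x_r(1), x_α(1)x_β(1) and x_γ(1)x_δ(1)x_ε(1). Then: each invertible matrix equal to one of these three products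 lies in the group and has order 2; every element of order 2 of the group is conjugate in the group to one of them; and no two of them are conjugate in the group (so, the three matrices being distinct, the group has exactly three conjugacy classes of involutions). -/
theorem result {F : Type*} [Field F] [Fintype F] [CharP F 2] :
    (∀ y : GL Cfsg.Lie.chevE6.Idx F, ((y : GL Cfsg.Lie.chevE6.Idx F) : Matrix Cfsg.Lie.chevE6.Idx Cfsg.Lie.chevE6.Idx F) ∈ [Cfsg.Lie.chevE6.x F 71 1, Cfsg.Lie.chevE6.x F 68 1 * Cfsg.Lie.chevE6.x F 66 1, Cfsg.Lie.chevE6.x F 55 1 * Cfsg.Lie.chevE6.x F 65 1 * Cfsg.Lie.chevE6.x F 67 1] → y ∈ Cfsg.Lie.chevE6.group F ∧ orderOf y = 2) ∧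
    (∀ g ∈ Cfsg.Lie.chevE6.group F, orderOf g = 2 → ∃ y ∈ Cfsg.Lie.chevE6.group F, ((y : GL Cfsg.Lie.chevE6.Idx F) : Matrix Cfsg.Lie.chevE6.Idx Cfsg.Lie.chevE6.Idx F) ∈ [Cfsg.Lie.chevE6.x F 71 1, Cfsg.Lie.chevE6.x F 68 1 * Cfsg.Lie.chevE6.x F 66 1, Cfsg.Lie.chevE6.x F 55 1 * Cfsg.Lie.chevE6.x F 65 1 * Cfsg.Lie.chevE6.x F 67 1] ∧ ∃ h ∈ Cfsg.Lie.chevE6.group F, h * g * h⁻¹ = y) ∧
    (∀ y₁ ∈ Cfsg.Lie.chevE6.group F, ∀ y₂ ∈ Cfsg.Lie.chevE6.group F, ((y₁ : GL Cfsg.Lie.chevE6.Idx F) : Matrix Cfsg.Lie.chevE6.Idx Cfsg.Lie.chevE6.Idx F) ∈ [Cfsg.Lie.chevE6.x F 71 1, Cfsg.Lie.chevE6.x F 68 1 * Cfsg.Lie.chevE6.x F 66 1, Cfsg.Lie.chevE6.x F 55 1 * Cfsg.Lie.chevE6.x F 65 1 * Cfsg.Lie.chevE6.x F 67 1] → ((y₂ : GL Cfsg.Lie.chevE6.Idx F) : Matrix Cfsg.Lie.chevE6.Idx Cfsg.Lie.chevE6.Idx F) ∈ [Cfsg.Lie.chevE6.x F 71 1, Cfsg.Lie.chevE6.x F 68 1 * Cfsg.Lie.chevE6.x F 66 1, Cfsg.Lie.chevE6.x F 55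 1 * Cfsg.Lie.chevE6.x F 65 1 * Cfsg.Lie.chevE6.x F 67 1] →
      (∃ h ∈ Cfsg.Lie.chevE6.group F, h * y₁ * h⁻¹ = y₂) → ((y₁ : GL Cfsg.Lie.chevE6.Idx F) : Matrix Cfsg.Lie.chevE6.Idx Cfsg.Lie.chevE6.Idx F) = ((y₂ : GL Cfsg.Lie.chevE6.Idx F) : Matrix Cfsg.Lie.chevE6.Idx Cfsg.Lie.chevE6.Idx F)) := by
  have hy : ∀ y : GL Cfsg.Lie.chevE6.Idx F, ((y : GL Cfsg.Lie.chevE6.Idx F) : Matrix Cfsg.Lie.chevE6.Idx Cfsg.Lie.chevE6.Idx F) ∈ [Cfsg.Lie.chevE6.x F 71 1, Cfsg.Lie.chevE6.x F 68 1 * Cfsg.Lie.chevE6.x F 66 1, Cfsg.Lie.chevE6.x F 55 1 * Cfsg.Lie.chevE6.x F 65 1 * Cfsg.Lie.chevE6.x F 67 1] →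
      y = Cfsg.Agent.Chevalley.InvolCert.E6.y [35] ∨ y = Cfsg.Agent.Chevalley.InvolCert.E6.y [32,30] ∨ y = Cfsg.Agent.Chevalley.InvolCert.E6.y [19,29,31] := by
    intro y h
    simp only [List.mem_cons, List.not_mem_nil, or_false] at h
    rcases h with h | h | h
    · exact Or.inl <| Units.ext (h.trans Cfsg.Agent.Chevalley.InvolCert.E6.coe0.symm)
    · exact Or.inr <| Or.inl <| Units.ext (h.trans Cfsg.Agent.Chevalley.InvolCert.E6.coe1.symm)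
    · exact Or.inr <| Or.inr <| Units.ext (h.trans Cfsg.Agent.Chevalley.InvolCert.E6.coe2.symm)
  refine ⟨fun y h => ?_, fun g hg h2 => ?_, fun y₁ _ y₂ _ h₁ h₂ hc => ?_⟩
  · rcases hy y h with rfl | rfl | rfl
    · exact Cfsg.Agent.Chevalley.InvolCert.E6.mem0
    · exact Cfsg.Agent.Chevalley.InvolCert.E6.mem1
    · exact Cfsg.Agent.Chevalley.InvolCert.E6.mem2
  · obtain ⟨S, hS, x, hx, e⟩ := Cfsg.Agent.Chevalley.InvolCert.E6.classify hg h2
    rw [Cfsg.Agent.Chevalley.InvolCert.E6.classes_eq] at hS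
    simp only [List.mem_cons, List.not_mem_nil, or_false] at hS
    rcases hS with rfl | rfl | rfl
    · exact ⟨_, Cfsg.Agent.Chevalley.InvolCert.E6.mem0.1, List.mem_cons.2 (Or.inl Cfsg.Agent.Chevalley.InvolCert.E6.coe0), x, hx, e⟩
    · exact ⟨_, Cfsg.Agent.Chevalley.InvolCert.E6.mem1.1, List.mem_cons.2 (Or.inr <| List.mem_cons.2 <| Or.inl Cfsg.Agent.Chevalley.InvolCert.E6.coe1), x, hx, e⟩
    · exact ⟨_, Cfsg.Agent.Chevalley.InvolCert.E6.mem2.1, List.mem_cons.2 (Or.inr <| List.mem_cons.2 <| Or.inr <| List.mem_cons.2 <| Or.inl Cfsg.Agent.Chevalley.InvolCert.E6.coe2), x, hx, e⟩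
  · have hr : (Cfsg.Agent.Chevalley.InvolCert.disp (D := Cfsg.Lie.chevE6) y₁).rank =
        (Cfsg.Agent.Chevalley.InvolCert.disp (D := Cfsg.Lie.chevE6) y₂).rank := Cfsg.Agent.Chevalley.InvolCert.rank_of_cj Cfsg.Agent.Chevalley.InvolCert.E6.sys
      Cfsg.Agent.Chevalley.Types.E6.certified (g := y₁) (h := y₂) hc
    rcases hy y₁ h₁ with rfl | rfl | rfl <;>
      rcases hy y₂ h₂ with rfl | rfl | rfl <;>
      first
        | rfl
        | (simp only [Cfsg.Agent.Chevalley.InvolCert.E6.rank0, Cfsg.Agent.Chevalley.InvolCert.E6.rank1, Cfsg.Agent.Chevalley.InvolCert.E6.rank2] at hr; omega)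

end Cfsg.Agent.S2175
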