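import Cfsg.Statements.S2176
import Cfsg.Agent.Lib.Chevalley.InvolCert.E8.Final

set_option autoImplicit false
open Cfsg

namespace Cfsg.Agent.S2176

/-- Conjugacy classes of involutions in the Chevalley group of type E₈ over a finite field F of characteristic two (the matrix group generated by the root elements x_r(t)). In this problem's root numbering for type E₈ (the Chevalley data module; fundamental roots numbered so that p₁–p₃–p₄–p₅–p₆–p₇–p₈ is the long chain of the diagram and p₂ is joined to p₄; roots indexed by their coefficient vectors in increasing order) let r = 239 be the highest root (2,3,4,6,5,4,3,2), α = 232 = (2,2,4,5,4,3,2,1), β = 233 = (2,3,3,5,4,3,2,1), γ = 228 = (2,2,3,4,3,2,2,1), δ = 222 = (1,2,3,4,3,3,2,1), ε = 218 = (1,2,2,4,4,3,2,1), φ = 226 = (2,2,3,4,3,2,1,0), ψ = 220 = (1,2,3,4,3,2,1,1), θ = 213 = (1,2,2,3,3,3,2,1), ω = 216 = (1,2,2,4,3,2,2,1)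 (the roots within each of {α, β}, {γ, δ, ε}, {φ, ψ, θ, ω} pairwise orthogonal); consider x_r(1), x_α(1)x_β(1), x_γ(1)x_δ(1)x_ε(1) and x_φ(1)x_ψ(1)x_θ(1)x_ω(1). Then: each invertible matrix equal to one of these four products lies in the group and has order 2; every element of order 2 of the group is conjugate in the group to one of them; and no two of them are conjugate in the group (so, the four matrices being distinct, the group has exactly four conjugacy classes of involutions). -/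
theorem result {F : Type*} [Field F] [Fintype F] [CharP F 2] :
    (∀ y : GL Cfsg.Lie.chevE8.Idx F, ((y : GL Cfsg.Lie.chevE8.Idx F) : Matrix Cfsg.Lie.chevE8.Idx Cfsg.Lie.chevE8.Idx F) ∈ [Cfsg.Lie.chevE8.x F 239 1, Cfsg.Lie.chevE8.x F 232 1 * Cfsg.Lie.chevE8.x F 233 1, Cfsg.Lie.chevE8.x F 228 1 * Cfsg.Lie.chevE8.x F 222 1 * Cfsg.Lie.chevE8.x F 218 1, Cfsg.Lie.chevE8.x F 226 1 * Cfsg.Lie.chevE8.x F 220 1 * Cfsg.Lie.chevE8.x F 213 1 * Cfsg.Lie.chevE8.x F 216 1] → y ∈ Cfsg.Lie.chevE8.group F ∧ orderOf y = 2) ∧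
    (∀ g ∈ Cfsg.Lie.chevE8.group F, orderOf g = 2 → ∃ y ∈ Cfsg.Lie.chevE8.group F, ((y : GL Cfsg.Lie.chevE8.Idx F) : Matrix Cfsg.Lie.chevE8.Idx Cfsg.Lie.chevE8.Idx F) ∈ [Cfsg.Lie.chevE8.x F 239 1, Cfsg.Lie.chevE8.x F 232 1 * Cfsg.Lie.chevE8.x F 233 1, Cfsg.Lie.chevE8.x F 228 1 * Cfsg.Lie.chevE8.x F 222 1 * Cfsg.Lie.chevE8.x F 218 1, Cfsg.Lie.chevE8.x F 226 1 * Cfsg.Lie.chevE8.x F 220 1 * Cfsg.Lie.chevE8.x F 213 1 * Cfsg.Lie.chevE8.x F 216 1] ∧ ∃ h ∈ Cfsg.Lie.chevE8.group F, h * g * h⁻¹ = y) ∧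
    (∀ y₁ ∈ Cfsg.Lie.chevE8.group F, ∀ y₂ ∈ Cfsg.Lie.chevE8.group F, ((y₁ : GL Cfsg.Lie.chevE8.Idx F) : Matrix Cfsg.Lie.chevE8.Idx Cfsg.Lie.chevE8.Idx F) ∈ [Cfsg.Lie.chevE8.x F 239 1, Cfsg.Lie.chevE8.x F 232 1 * Cfsg.Lie.chevE8.x F 233 1, Cfsg.Lie.chevE8.x F 228 1 * Cfsg.Lie.chevE8.x F 222 1 * Cfsg.Lie.chevE8.x F 218 1, Cfsg.Lie.chevE8.x F 226 1 * Cfsg.Lie.chevE8.x F 220 1 * Cfsg.Lie.chevE8.x F 213 1 * Cfsg.Lie.chevE8.x F 216 1] → ((y₂ : GL Cfsg.Lie.chevE8.Idx F) : Matrix Cfsg.Lie.chevE8.Idx Cfsg.Lie.chevE8.Idx F) ∈ [Cfsg.Lie.chevE8.x F 239 1, Cfsg.Lie.chevE8.x F 232 1 * Cfsg.Lie.chevE8.x F 233 1, Cfsg.Lie.chevE8.x F 228 1 * Cfsg.Lie.chevE8.x F 222 1 * Cfsg.Lie.chevE8.x F 218 1, Cfsg.Lie.chevE8.x F 226 1 * Cfsg.Lie.chevE8.x F 220 1 * Cfsg.Lie.chevE8.x F 213 1 * Cfsg.Lie.chevE8.x F 216 1] →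
      (∃ h ∈ Cfsg.Lie.chevE8.group F, h * y₁ * h⁻¹ = y₂) → ((y₁ : GL Cfsg.Lie.chevE8.Idx F) : Matrix Cfsg.Lie.chevE8.Idx Cfsg.Lie.chevE8.Idx F) = ((y₂ : GL Cfsg.Lie.chevE8.Idx F) : Matrix Cfsg.Lie.chevE8.Idx Cfsg.Lie.chevE8.Idx F)) := by
  have hy : ∀ y : GL Cfsg.Lie.chevE8.Idx F, ((y : GL Cfsg.Lie.chevE8.Idx F) : Matrix Cfsg.Lie.chevE8.Idx Cfsg.Lie.chevE8.Idx F) ∈ [Cfsg.Lie.chevE8.x F 239 1, Cfsg.Lie.chevE8.x F 232 1 * Cfsg.Lie.chevE8.x F 233 1, Cfsg.Lie.chevE8.x F 228 1 * Cfsg.Lie.chevE8.x F 222 1 * Cfsg.Lie.chevE8.x F 218 1, Cfsg.Lie.chevE8.x F 226 1 * Cfsg.Lie.chevE8.x F 220 1 * Cfsg.Lie.chevE8.x F 213 1 * Cfsg.Lie.chevE8.x F 216 1] →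
      y = Cfsg.Agent.Chevalley.InvolCert.E8.y [119] ∨ y = Cfsg.Agent.Chevalley.InvolCert.E8.y [112,113] ∨ y = Cfsg.Agent.Chevalley.InvolCert.E8.y [108,102,98] ∨ y = Cfsg.Agent.Chevalley.InvolCert.E8.y [106,100,93,96] := by
    intro y h
    simp only [List.mem_cons, List.not_mem_nil, or_false] at h
    rcases h with h | h | h | h
    · exact Or.inl <| Units.ext (h.trans Cfsg.Agent.Chevalley.InvolCert.E8.coe0.symm)
    · exact Or.inr <| Or.inl <| Units.ext (h.trans Cfsg.Agent.Chevalley.InvolCert.E8.coe1.symm)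
    · exact Or.inr <| Or.inr <| Or.inl <| Units.ext (h.trans Cfsg.Agent.Chevalley.InvolCert.E8.coe2.symm)
    · exact Or.inr <| Or.inr <| Or.inr <| Units.ext (h.trans Cfsg.Agent.Chevalley.InvolCert.E8.coe3.symm)
  refine ⟨fun y h => ?_, fun g hg h2 => ?_, fun y₁ _ y₂ _ h₁ h₂ hc => ?_⟩
  · rcases hy y h with rfl | rfl | rfl | rfl
    · exact Cfsg.Agent.Chevalley.InvolCert.E8.mem0
    · exact Cfsg.Agent.Chevalley.InvolCert.E8.mem1
    · exact Cfsg.Agent.Chevalley.InvolCert.E8.mem2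
    · exact Cfsg.Agent.Chevalley.InvolCert.E8.mem3
  · obtain ⟨S, hS, x, hx, e⟩ := Cfsg.Agent.Chevalley.InvolCert.E8.classify hg h2
    rw [Cfsg.Agent.Chevalley.InvolCert.E8.classes_eq] at hS
    simp only [List.mem_cons, List.not_mem_nil, or_false] at hS
    rcases hS with rfl | rfl | rfl | rfl
    · exact ⟨_, Cfsg.Agent.Chevalley.InvolCert.E8.mem0.1, List.mem_cons.2 (Or.inl Cfsg.Agent.Chevalley.InvolCert.E8.coe0), x, hx, e⟩
    · exact ⟨_, Cfsg.Agent.Chevalley.InvolCert.E8.mem1.1, List.mem_cons.2 (Or.inr <| List.mem_cons.2 <| Or.inl Cfsg.Agent.Chevalley.InvolCert.E8.coe1), x, hx, e⟩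
    · exact ⟨_, Cfsg.Agent.Chevalley.InvolCert.E8.mem2.1, List.mem_cons.2 (Or.inr <| List.mem_cons.2 <| Or.inr <| List.mem_cons.2 <| Or.inl Cfsg.Agent.Chevalley.InvolCert.E8.coe2), x, hx, e⟩
    · exact ⟨_, Cfsg.Agent.Chevalley.InvolCert.E8.mem3.1, List.mem_cons.2 (Or.inr <| List.mem_cons.2 <| Or.inr <| List.mem_cons.2 <| Or.inr <| List.mem_cons.2 <| Or.inl Cfsg.Agent.Chevalley.InvolCert.E8.coe3), x, hx, e⟩
  · have hr : (Cfsg.Agent.Chevalley.InvolCert.disp (D := Cfsg.Lie.chevE8) y₁).rank =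
        (Cfsg.Agent.Chevalley.InvolCert.disp (D := Cfsg.Lie.chevE8) y₂).rank :=
      Cfsg.Agent.Chevalley.InvolCert.rank_of_cj Cfsg.Agent.Chevalley.InvolCert.E8.sys Cfsg.Agent.Chevalley.Types.E8.certified
        (g := y₁) (h := y₂) hc
    rcases hy y₁ h₁ with rfl | rfl | rfl | rfl <;>
      rcases hy y₂ h₂ with rfl | rfl | rfl | rfl <;>
      first
        | rfl
        | (simp only [Cfsg.Agent.Chevalley.InvolCert.E8.rank0, Cfsg.Agent.Chevalley.InvolCert.E8.rank1, Cfsg.Agent.Chevalley.InvolCert.E8.rank2, Cfsg.Agent.Chevalley.InvolCert.E8.rank3] at hr; omega)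

end Cfsg.Agent.S2176
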