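import Cfsg.Statements.S2177
import Cfsg.Agent.Lib.Chevalley.Exceptional.G2TwoInvol

set_option autoImplicit false
open Cfsg

namespace Cfsg.Agent.S2177

/-- Conjugacy classes of involutions in the Chevalley group of type G₂ over a finite field F of characteristic two with at least four elements (the matrix group generated by the root elements x_r(t)). In this problem's root numbering for type G₂ (the Chevalley data module; p₁ = a short, p₂ = b long; roots indexed by coefficient vectors in increasing order) let 11 be the highest root 3a + 2b (long) and 9 the short root 2a + b; consider x_{3a+2b}(1) and x_{2a+b}(1). Then: each invertible matrix equal to one of these two products lies in the group and has order 2; every element of order 2 of the group is conjugate in the group to one of them; and no two of them are conjugate in the group (so, the two matrices being distinct, the group has exactly two conjugacy classes of involutions).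 -/
theorem result {F : Type*} [Field F] [Fintype F] [CharP F 2] (hF : 4 ≤ Fintype.card F) :
    (∀ y : GL Cfsg.Lie.chevG2.Idx F, ((y : GL Cfsg.Lie.chevG2.Idx F) : Matrix Cfsg.Lie.chevG2.Idx Cfsg.Lie.chevG2.Idx F) ∈ [Cfsg.Lie.chevG2.x F 11 1, Cfsg.Lie.chevG2.x F 9 1] → y ∈ Cfsg.Lie.chevG2.group F ∧ orderOf y = 2) ∧
    (∀ g ∈ Cfsg.Lie.chevG2.group F, orderOf g = 2 → ∃ y ∈ Cfsg.Lie.chevG2.group F, ((y : GL Cfsg.Lie.chevG2.Idx F) : Matrix Cfsg.Lie.chevG2.Idx Cfsg.Lie.chevG2.Idx F) ∈ [Cfsg.Lie.chevG2.x F 11 1, Cfsg.Lie.chevG2.x F 9 1] ∧ ∃ h ∈ Cfsg.Lie.chevG2.group F, h * g * h⁻¹ = y) ∧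
    (∀ y₁ ∈ Cfsg.Lie.chevG2.group F, ∀ y₂ ∈ Cfsg.Lie.chevG2.group F, ((y₁ : GL Cfsg.Lie.chevG2.Idx F) : Matrix Cfsg.Lie.chevG2.Idx Cfsg.Lie.chevG2.Idx F) ∈ [Cfsg.Lie.chevG2.x F 11 1, Cfsg.Lie.chevG2.x F 9 1] → ((y₂ : GL Cfsg.Lie.chevG2.Idx F) : Matrix Cfsg.Lie.chevG2.Idx Cfsg.Lie.chevG2.Idx F) ∈ [Cfsg.Lie.chevG2.x F 11 1, Cfsg.Lie.chevG2.x F 9 1] →
      (∃ h ∈ Cfsg.Lie.chevG2.group F, h * y₁ * h⁻¹ = y₂) → ((y₁ : GL Cfsg.Lie.chevG2.Idx F) : Matrix Cfsg.Lie.chevG2.Idx Cfsg.Lie.chevG2.Idx F) = ((y₂ : GL Cfsg.Lie.chevG2.Idx F) : Matrix Cfsg.Lie.chevG2.Idx Cfsg.Lie.chevG2.Idx F)) := by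
  classical
  open Cfsg.Agent.Chevalley Cfsg.Agent.Chevalley.Group Cfsg.Agent.Chevalley.Borel
    Cfsg.Agent.Exceptional.G2TwoInvol in
  have hmem : ∀ y : GL Cfsg.Lie.chevG2.Idx F, (y : Matrix _ _ F) ∈ [Cfsg.Lie.chevG2.x F 11 1, Cfsg.Lie.chevG2.x F 9 1] →
      y = xg hC 11 1 ∨ y = xg hC 9 1 := by
    intro y hy
    simp only [List.mem_cons, List.not_mem_nil, or_false] at hy
    rcases hy with h | h
    · exact Or.inl (Units.ext (h.trans (coe_xg hC 11 1).symm))
    · exact Or.inr (Units.ext (h.trans (coe_xg hC 9 1).symm))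
  open Cfsg.Agent.Chevalley Cfsg.Agent.Chevalley.Group Cfsg.Agent.Chevalley.Borel
    Cfsg.Agent.Exceptional.G2TwoInvol in
  refine ⟨fun y hy => ?_, fun g hg hg2 => ?_, fun y₁ hy₁ y₂ hy₂ h₁ h₂ ⟨h, hh, e⟩ => ?_⟩
  · open Cfsg.Agent.Chevalley Cfsg.Agent.Chevalley.Group Cfsg.Agent.Chevalley.Borel
      Cfsg.Agent.Exceptional.G2TwoInvol in
    rcases hmem y hy with rfl | rfl <;>
      refine ⟨xg_mem_group hC (lt_nroots (by decide)) 1, orderOf_eq_prime (by rw [sq, sq_one])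
        fun h0 => one_ne_zero (α := F) ?_⟩ <;>
      exact xg_injective hC (lt_nroots (by decide)) (h0.trans (xg_zero hC _).symm)
  · open Cfsg.Agent.Chevalley Cfsg.Agent.Chevalley.Group Cfsg.Agent.Chevalley.Borel
      Cfsg.Agent.Exceptional.G2TwoInvol in
    rcases involution_std hg (by rw [← sq, ← hg2, pow_orderOf_eq_one])
        (fun e => by rw [e, orderOf_one] at hg2; omega) with ⟨h, hh, e⟩ | ⟨h, hh, e⟩
    · exact ⟨_, xg_mem_group hC (lt_nroots (by decide)) 1, by rw [coe_xg]; simp, h, hh, e⟩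
    · exact ⟨_, xg_mem_group hC (lt_nroots (by decide)) 1, by rw [coe_xg]; simp, h, hh, e⟩
  · open Cfsg.Agent.Chevalley Cfsg.Agent.Chevalley.Group Cfsg.Agent.Chevalley.Borel
      Cfsg.Agent.Exceptional.G2TwoInvol in
    rcases hmem y₁ h₁ with rfl | rfl <;> rcases hmem y₂ h₂ with rfl | rfl
    · rfl
    · exact absurd ⟨h⁻¹, inv_mem hh, by rw [← e]; group⟩ not_cj
    · exact absurd ⟨h, hh, e⟩ not_cj
    · rfl

end Cfsg.Agent.S2177
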