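import Cfsg.Statements.S2178
import Cfsg.Agent.SimpleFacts.ChevalleyCentralData

set_option autoImplicit false
open Cfsg

namespace Cfsg.Agent.S2178

theorem three_eq {F : Type*} [Field F] (a b c : ℕ) :
    Subgroup.closure {g : GL Cfsg.Lie.chevF4.Idx F | ∃ s ∈ [a, b, c], ∃ x : F,
      (g : Matrix Cfsg.Lie.chevF4.Idx Cfsg.Lie.chevF4.Idx F) = Cfsg.Lie.chevF4.x F s x} =
    Cfsg.Lie.chevF4.rootSubgroup F a ⊔ Cfsg.Lie.chevF4.rootSubgroup F b ⊔
      Cfsg.Lie.chevF4.rootSubgroup F c := by
  unfold Cfsg.Lie.ChevalleyDatum.rootSubgroup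
  rw [← Subgroup.closure_union, ← Subgroup.closure_union]
  congr 1
  ext g
  simp [or_and_right, exists_or, or_assoc]

/-- Centralizers of the long and the short root involutions in the Chevalley group G of type F₄ over a finite field F of characteristic two (this problem's root numbering for type F₄, from the Chevalley data module: fundamental roots p₁, p₂ short, p₃, p₄ long, with indices 33, 27, 25, 24, their negatives 14, 20, 22, 23; highest root 47, highest short root 44; U the subgroup generated by the positive root subgroups). For an element t of G with matrix x_47(1): the centralizer of t in G is the subgroup generated by U and the root subgroups X_{−p₁}, X_{−p₂}, X_{−p₃} (the unipotent radical of the maximal parabolic subgroup whose Levi factor has fundamental roots p₁, p₂, p₃, together with that Levi factor's root subgroups; the Levi factor is of type C₃). For an element u of G with matrix x_44(1): the centralizer of u in G is generated by U and X_{−p₂}, X_{−p₃}, X_{−p₄} (the same construction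 for the Levi factor with fundamental roots p₂, p₃, p₄, of type B₃). -/
theorem result {F : Type*} [Field F] [Fintype F] [CharP F 2] (t u : GL Cfsg.Lie.chevF4.Idx F) (ht : (t : Matrix Cfsg.Lie.chevF4.Idx Cfsg.Lie.chevF4.Idx F) = Cfsg.Lie.chevF4.x F 47 1) (hu : (u : Matrix Cfsg.Lie.chevF4.Idx Cfsg.Lie.chevF4.Idx F) = Cfsg.Lie.chevF4.x F 44 1) :
    Cfsg.Lie.chevF4.group F ⊓ Subgroup.centralizer {t} = Cfsg.Lie.chevF4.posUnipotent F ⊔ Cfsg.Lie.chevF4.rootSubgroup F 14 ⊔ Cfsg.Lie.chevF4.rootSubgroup F 20 ⊔ Cfsg.Lie.chevF4.rootSubgroup F 22 ∧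
    Cfsg.Lie.chevF4.group F ⊓ Subgroup.centralizer {u} = Cfsg.Lie.chevF4.posUnipotent F ⊔ Cfsg.Lie.chevF4.rootSubgroup F 20 ⊔ Cfsg.Lie.chevF4.rootSubgroup F 22 ⊔ Cfsg.Lie.chevF4.rootSubgroup F 23 := by
  have h2 : (2 : F) = 0 := CharTwo.two_eq_zero
  refine ⟨?_, ?_⟩
  · rw [Cfsg.Agent.SimpleFacts.ChevalleyCentralData.main (h := 47) (k := 3)
      (S := [0, 1, 2, 4, 5, 6, 15, 16, 17, 21, 22, 23, 24, 25, 26, 30, 31, 32, 41, 42, 43, 45, 46, 47])
      (l := [14, 20, 22]) (even := false) Cfsg.Agent.Chevalley.Types.F4.certified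
      (by decide +kernel) (by decide +kernel) (by simp) (by decide +kernel) ht, three_eq, sup_assoc, sup_assoc, sup_assoc]
  · rw [Cfsg.Agent.SimpleFacts.ChevalleyCentralData.main (h := 44) (k := 0)
      (S := [3, 7, 8, 9, 10, 11, 12, 13, 14, 18, 19, 20, 27, 28, 29, 33, 34, 35, 36, 37, 38, 39, 40, 44])
      (l := [20, 22, 23]) (even := true) Cfsg.Agent.Chevalley.Types.F4.certified
      (by decide +kernel) (by decide +kernel) (fun _ => h2) (by decide +kernel) hu, three_eq, sup_assoc, sup_assoc, sup_assoc]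

end Cfsg.Agent.S2178
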