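import Cfsg.Statements.S2182
import Cfsg.Agent.Lib.Chevalley.InvolCert.TwE6.Final

set_option autoImplicit false
open Cfsg

namespace Cfsg.Agent.S2182

/-- The twisted group ²E₆(q), q even, realised inside the Chevalley group of type E₆ over the field K with q² elements, has exactly three conjugacy classes of elements of order 2. -/
theorem result {K : Type*} [Field K] [Fintype K] [CharP K 2] (q : ℕ) (hK : Fintype.card K = q ^ 2) :
    (ConjClasses.mk '' {g : ↥(Cfsg.Lie.twistedE6 K q) | orderOf g = 2}).ncard = 3 := by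
  classical
  have hn : ∃ k, 1 ≤ k ∧ q = 2 ^ k := by
    obtain ⟨n, -, hn⟩ := FiniteField.card K 2
    obtain ⟨k, -, hk⟩ := (Nat.dvd_prime_pow Nat.prime_two).1 (hn ▸ hK ▸ dvd_pow_self q two_ne_zero)
    refine ⟨k, Nat.one_le_iff_ne_zero.2 fun h => ?_, hk⟩
    subst h
    have h1 := Fintype.one_lt_card (α := K)
    rw [hK, hk] at h1
    norm_num at h1
  obtain ⟨k, hk1, rfl⟩ := hn
  have hq : IsPrimePow (2 ^ k) := ⟨2, k, Nat.prime_two.prime, hk1, rfl⟩
  obtain ⟨X⟩ := Cfsg.Agent.Chevalley.Twist.E6.exists_setup (K := K) hq hK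
  exact Cfsg.Agent.Chevalley.InvolCert.TwE6.ncard_classes X hq (dvd_pow_self 2 (by omega))

end Cfsg.Agent.S2182
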