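import Cfsg.Statements.S2189
import Cfsg.Agent.SimpleFacts.SubfieldOvergroup.Overgroups

set_option autoImplicit false
open Cfsg Cfsg.Agent.Chevalley.Group Cfsg.Agent.Chevalley.Borel Cfsg.Agent.SimpleFacts.ChevalleySubfield
  Cfsg.Agent.SimpleFacts.SubfieldOvergroup

namespace Cfsg.Agent.S2189

/-- Finite subgroups of an adjoint Chevalley group over an algebraically closed field that contain the group over a finite subfield. Let k be an algebraically closed field of prime characteristic p, G the Chevalley group of type G₂, B₂, D₄, F₄, E₆, E₇ or E₈ over k (the matrix group generated by the root elements x_s(t), t ∈ k), and q = p^a with a ≥ 1. Let L be the subgroup generated by the root elements x_s(t) with t^q = t (the Chevalley group over the field of q elements inside G), and let M be a finite subgroup of G containing L. Then for some r ≥ 1, M contains every root element x_s(t) with t^(q^r) = t and every element of M is a matrix all of whose entries c satisfy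 c^(q^r) = c (so M lies between the Chevalley group over the field with q^r elements and the group of points of G fixed by the q^r-th power map). -/
theorem result {k : Type*} [Field k] [IsAlgClosed k] (p : ℕ) [Fact p.Prime] [CharP k p] (D : Cfsg.Lie.ChevalleyDatum) (hD : D ∈ [Cfsg.Lie.chevG2, Cfsg.Lie.chevB2, Cfsg.Lie.chevD4, Cfsg.Lie.chevF4, Cfsg.Lie.chevE6, Cfsg.Lie.chevE7, Cfsg.Lie.chevE8]) (a : ℕ) (ha : 1 ≤ a) (M : Subgroup (GL D.Idx k)) (hMfin : Finite ↥M) (hMG : M ≤ D.group k)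
    (hLM : Subgroup.closure {g : GL D.Idx k | ∃ (s : ℕ) (t : k), t ^ (p ^ a) = t ∧ (g : Matrix D.Idx D.Idx k) = D.x k s t} ≤ M) :
    ∃ r : ℕ, 1 ≤ r ∧ Subgroup.closure {g : GL D.Idx k | ∃ (s : ℕ) (t : k), t ^ ((p ^ a) ^ r) = t ∧ (g : Matrix D.Idx D.Idx k) = D.x k s t} ≤ M ∧
      ∀ g ∈ M, ∀ i j : D.Idx, ((g : Matrix D.Idx D.Idx k) i j) ^ ((p ^ a) ^ r) = (g : Matrix D.Idx D.Idx k) i j := by
  classical
  obtain ⟨T, hC, hn, hgood⟩ := exists_good (F := k) p hD
  have ha0 : a ≠ 0 := Nat.one_le_iff_ne_zero.1 ha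
  obtain ⟨σ, hσ⟩ : ∃ σ, σ = frobPow k p a := ⟨_, rfl⟩
  have hσ' : ∀ t, σ t = t ^ p ^ a := fun t => by rw [hσ, iterateFrobenius_def]
  have hfin : Set.Finite {t : k | σ t = t} := hσ ▸ fix_finite p ha0
  have hL : fixL hC σ ≤ M := fixL_le_of_forall hC σ fun r _ t ht =>
    hLM (Subgroup.subset_closure ⟨r, t, by rw [← hσ']; exact ht, coe_xg hC r t⟩)
  obtain ⟨S, hSfin, hkS, hS⟩ := (hgood σ hfin).2 M hMfin hL
  have : Finite S := hSfin.to_subtype
  obtain ⟨r, hr, hcard⟩ := natCard_pow_of_le (k := σ.eqLocusField (RingHom.id k)) (S := S)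
    (fun t ht => hkS t ht)
  have hk : Nat.card (σ.eqLocusField (RingHom.id k)) = p ^ a := by
    rw [← card_fixed_closed (F := k) p ha0]
    refine Nat.card_congr (Equiv.subtypeEquivRight fun t => ?_)
    show σ t = t ↔ t ^ p ^ a = t
    rw [hσ']
  rw [hk] at hcard
  have hq : 1 < (p ^ a) ^ r :=
    Nat.one_lt_pow hr (Nat.one_lt_pow ha0 (Fact.out : p.Prime).one_lt)
  have hSeq : (S : Set k) = {t : k | t ^ (p ^ a) ^ r = t} := by
    refine Set.eq_of_subset_of_ncard_le (fun t ht => ?_) ?_ (fixed_finite hq)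
    · have : Fintype S := Fintype.ofFinite S
      have h1 := FiniteField.pow_card (⟨t, ht⟩ : S)
      rw [← Nat.card_eq_fintype_card, hcard] at h1
      exact congrArg Subtype.val h1
    · rw [← Nat.card_coe_set_eq, ← Nat.card_coe_set_eq]
      exact (card_fixed_le hq).trans hcard.ge
  have hmem : ∀ t : k, t ∈ S ↔ t ^ (p ^ a) ^ r = t := fun t => Set.ext_iff.1 hSeq t
  obtain ⟨τ, hτ⟩ : ∃ τ, τ = frobPow k p (a * r) := ⟨_, rfl⟩
  have hτ' : ∀ t, τ t = t ^ (p ^ a) ^ r := fun t => by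
    rw [hτ, iterateFrobenius_def, pow_mul]
  have hmem' : ∀ t : k, t ∈ S ↔ τ t = t := fun t => by rw [hmem, hτ']
  have hX : Ctx hC τ M := ⟨hMG, fixL_le_of_forall hC τ fun s hs t ht =>
    (hS s hs t).2 ((hmem' t).2 ht), fun s hs t ht => (hmem' t).1 ((hS s hs t).1 ht)⟩
  refine ⟨r, Nat.one_le_iff_ne_zero.2 hr, (Subgroup.closure_le _).2 ?_, fun g hg i j => ?_⟩
  · rintro g ⟨s, t, ht, hgx⟩
    rw [show g = xg hC s t from Units.ext (hgx.trans (coe_xg hC s t).symm)]
    exact hX.fixL_le (xg_mem_fixL hC τ s ((hτ' t).trans ht))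
  · have h := (hgood τ (hτ ▸ fix_finite p (Nat.mul_ne_zero ha0 hr))).1 M hMfin hX g hg
    rw [← hτ']
    exact (mapGL_eq_self_iff τ).1 h i j

end Cfsg.Agent.S2189
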