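import Cfsg.Statements.S2190
import Cfsg.Agent.SimpleFacts.SubfieldOvergroup.Overgroups

set_option autoImplicit false
open Cfsg Cfsg.Agent.Chevalley.Group Cfsg.Agent.Chevalley.Borel Cfsg.Agent.SimpleFacts.ChevalleySubfield
  Cfsg.Agent.SimpleFacts.SubfieldOvergroup

namespace Cfsg.Agent.S2190

/-- Subfield subgroups of prime degree are maximal. Let K be a finite field with q^r elements, r a prime, q a power of the characteristic, and G the Chevalley group of type G₂, B₂, D₄, F₄, E₆, E₇ or E₈ over K (the matrix group generated by the root elements). Let M be the subgroup of G consisting of the matrices all of whose entries lie in the subfield with q elements (entries c with c^q = c). Then M is a proper subgroup of G and is maximal: every subgroup of G containing M is M or G. -/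
theorem result {K : Type*} [Field K] [Fintype K] (p : ℕ) [Fact p.Prime] [CharP K p] (D : Cfsg.Lie.ChevalleyDatum) (hD : D ∈ [Cfsg.Lie.chevG2, Cfsg.Lie.chevB2, Cfsg.Lie.chevD4, Cfsg.Lie.chevF4, Cfsg.Lie.chevE6, Cfsg.Lie.chevE7, Cfsg.Lie.chevE8]) (a r : ℕ) (ha : 1 ≤ a) (hr : r.Prime) (hK : Fintype.card K = (p ^ a) ^ r) (M : Subgroup (GL D.Idx K))
    (hM : ∀ g : GL D.Idx K, g ∈ M ↔ g ∈ D.group K ∧ ∀ i j : D.Idx, ((g : Matrix D.Idx D.Idx K) i j) ^ (p ^ a) = (g : Matrix D.Idx D.Idx K) i j) :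
    M ≠ D.group K ∧ ∀ H : Subgroup (GL D.Idx K), M ≤ H → H ≤ D.group K → H = M ∨ H = D.group K := by
  classical
  obtain ⟨T, hC, hn, hgood⟩ := exists_good (F := K) p hD
  have ha0 : a ≠ 0 := Nat.one_le_iff_ne_zero.1 ha
  obtain ⟨σ, hσ⟩ : ∃ σ, σ = frobPow K p a := ⟨_, rfl⟩
  have hσ' : ∀ t, σ t = t ^ p ^ a := fun t => by rw [hσ, iterateFrobenius_def]
  have hfin : Set.Finite {t : K | σ t = t} := Set.toFinite _
  have hMmem : ∀ g, g ∈ M ↔ g ∈ D.group K ∧ Fixed D σ g := fun g => by
    rw [hM, Fixed, mapGL_eq_self_iff]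
    simp only [hσ']
  have hLM : fixL hC σ ≤ M := fun g hg =>
    (hMmem g).2 ⟨fixL_le_group hC σ hg, fixed_of_mem_fixL hC σ hg⟩
  have hk : Nat.card (σ.eqLocusField (RingHom.id K)) = p ^ a := by
    rw [← card_fixed_finite (F := K) p ha0 hr.ne_zero (by rw [Nat.card_eq_fintype_card, hK])]
    refine Nat.card_congr (Equiv.subtypeEquivRight fun t => ?_)
    show σ t = t ↔ t ^ p ^ a = t
    rw [hσ']
  refine ⟨fun hMG => ?_, fun H hMH hHG => ?_⟩
  · obtain ⟨t, ht⟩ : ∃ t : K, σ t ≠ t := by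
      by_contra! hall
      have e : Nat.card (σ.eqLocusField (RingHom.id K)) = Nat.card K :=
        Nat.card_congr (Equiv.subtypeUnivEquiv fun t => hall t)
      rw [hk, Nat.card_eq_fintype_card, hK] at e
      exact hr.one_lt.ne' (Nat.pow_right_injective (Nat.one_lt_pow ha0 (Fact.out : p.Prime).one_lt)
        (e.symm.trans (pow_one (p ^ a)).symm))
    have h1 : xg hC 0 t ∈ M := hMG ▸ xg_mem_group hC hn t
    exact ht (param_of_fixed_xg hC σ hn ((hMmem _).1 h1).2)
  obtain ⟨S, hSfin, hkS, hS⟩ := (hgood σ hfin).2 H inferInstance (hLM.trans hMH)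
  obtain ⟨m, hm, hcard⟩ := natCard_pow_of_le (k := σ.eqLocusField (RingHom.id K)) (S := S)
    (fun t ht => hkS t ht)
  rw [hk] at hcard
  obtain ⟨n, hn', hK'⟩ := natCard_pow_of_le (k := S) (S := (⊤ : Subfield K)) le_top
  rw [Nat.card_congr Subfield.topEquiv.toEquiv, Nat.card_eq_fintype_card, hK, hcard]
    at hK'
  have hmn : r = m * n :=
    Nat.pow_right_injective (Nat.one_lt_pow ha0 (Fact.out : p.Prime).one_lt)
      (hK'.trans (pow_mul _ _ _).symm)
  rcases hr.eq_one_or_self_of_dvd m ⟨n, hmn⟩ with rfl | rfl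
  · refine Or.inl (le_antisymm (fun g hg => ?_) hMH)
    have hSk : ∀ t ∈ S, σ t = t := fun t ht => by
      rw [pow_one, ← hk, ← SetLike.coe_sort_coe, Nat.card_coe_set_eq,
        ← SetLike.coe_sort_coe, Nat.card_coe_set_eq] at hcard
      have e := Set.eq_of_subset_of_ncard_le (s := ((σ.eqLocusField (RingHom.id K)) : Set K))
        (t := (S : Set K)) (fun t ht => hkS t ht) hcard.le
      exact (Set.ext_iff.1 e t).2 ht
    have hX : Ctx hC σ H :=
      ⟨hHG, hLM.trans hMH, fun s hs t ht => hSk t ((hS s hs t).1 ht)⟩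
    exact (hMmem g).2 ⟨hHG hg, (hgood σ hfin).1 H inferInstance hX g hg⟩
  · refine Or.inr (le_antisymm hHG (group_le_of_forall hC fun s hs t => (hS s hs t).2 ?_))
    have hfull : (S : Set K) = Set.univ := Set.eq_of_subset_of_ncard_le (Set.subset_univ _) (by
      rw [Set.ncard_univ, ← Nat.card_coe_set_eq, Nat.card_eq_fintype_card (α := K), hK]
      exact hcard.ge)
    exact Set.eq_univ_iff_forall.1 hfull t

end Cfsg.Agent.S2190
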