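import Cfsg.Statements.S2191
import Cfsg.Agent.SimpleFacts.TwistedSubfield.Rigid

set_option autoImplicit false
open Cfsg

namespace Cfsg.Agent.S2191

/-- In the twisted group ²E₆(q), realised inside the Chevalley group of type E₆ over the field K with q² elements (q a power of the characteristic) as the subgroup generated by the root elements, and products of root elements, that the twisting map fixes, the subgroup of matrices all of whose entries lie in the subfield with q elements (entries c with c^q = c; it contains the subgroup of type F₄ over that subfield) is a proper maximal subgroup. -/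
theorem result {K : Type*} [Field K] [Fintype K] (p : ℕ) [Fact p.Prime] [CharP K p] (q : ℕ) (hq : ∃ a : ℕ, 1 ≤ a ∧ q = p ^ a) (hK : Fintype.card K = q ^ 2) (M : Subgroup (GL Cfsg.Lie.chevE6.Idx K))
    (hM : ∀ g : GL Cfsg.Lie.chevE6.Idx K, g ∈ M ↔ g ∈ Cfsg.Lie.twistedE6 K q ∧ ∀ i j : Cfsg.Lie.chevE6.Idx, ((g : Matrix Cfsg.Lie.chevE6.Idx Cfsg.Lie.chevE6.Idx K) i j) ^ q = (g : Matrix Cfsg.Lie.chevE6.Idx Cfsg.Lie.chevE6.Idx K) i j) :
    M ≠ Cfsg.Lie.twistedE6 K q ∧ ∀ H : Subgroup (GL Cfsg.Lie.chevE6.Idx K), M ≤ H → H ≤ Cfsg.Lie.twistedE6 K q → H = M ∨ H = Cfsg.Lie.twistedE6 K q := by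
  classical
  obtain ⟨a, ha, rfl⟩ := hq
  have hp : Fact p.Prime := inferInstance
  have hq' : IsPrimePow (p ^ a) := ⟨p, a, hp.out.prime, ha, rfl⟩
  obtain ⟨X⟩ := Cfsg.Agent.Chevalley.Twist.E6.exists_setup (K := K) hq' hK
  obtain ⟨θ, hθ⟩ := Cfsg.Agent.Chevalley.Twist.E6.exists_powq (K := K) hq' two_ne_zero hK
  have hM' : ∀ g, g ∈ M ↔ g ∈ Cfsg.Lie.twistedE6 K (p ^ a) ∧
      Cfsg.Agent.SimpleFacts.SubfieldOvergroup.Fixed Cfsg.Lie.chevE6 θ g := by
    intro g
    rw [hM, Cfsg.Agent.SimpleFacts.SubfieldOvergroup.Fixed,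
      Cfsg.Agent.SimpleFacts.ChevalleySubfield.mapGL_eq_self_iff]
    simp only [hθ]
  refine ⟨?_, fun H hMH hH => ?_⟩
  · rintro rfl
    obtain ⟨g, hg, hf⟩ :=
      Cfsg.Agent.SimpleFacts.TwistedSubfield.exists_not_fixed θ hθ hq' hK X
    exact hf ((hM' g).1 hg).2
  · by_cases hne : H = Cfsg.Lie.twistedE6 K (p ^ a)
    · exact Or.inr hne
    have hO : Cfsg.Agent.SimpleFacts.TwistedSubfield.Over θ (p ^ a) H :=
      ⟨hH, fun g hg hf => hMH ((hM' g).2 ⟨hg, hf⟩)⟩
    refine Or.inl (le_antisymm (fun g hg => (hM' g).2 ⟨hH hg, ?_⟩) hMH)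
    exact Cfsg.Agent.SimpleFacts.TwistedSubfield.fixed_of_param X θ hθ hO
      (fun t ht => Cfsg.Agent.SimpleFacts.TwistedSubfield.eq_or_param X θ hθ hO hne ht) hg

end Cfsg.Agent.S2191
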