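import Cfsg.Statements.S2205
import Mathlib
import Cfsg.Agent.Lib.Perm.SquarePlusOne.SingleClass
import Cfsg.Agent.Lib.Perm.SquarePlusOne.NormalCase
-- import your own Cfsg.Agent.* helpers here

set_option autoImplicit false
open Cfsg

namespace Cfsg.Agent.S2205

open MulAction Cfsg.Agent.Perm.SquarePlusOne
open scoped Pointwise

set_option linter.unusedSectionVars false

variable {G Ω : Type*} [Group G] [MulAction G Ω] [Finite G] [Finite Ω] [FaithfulSMul G Ω] {p : ℕ}
  [Fact p.Prime]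

theorem false_of_frame (F : Frame G Ω p) (hp3 : 3 ≤ p) : False := by
  classical
  obtain ⟨U, hR⟩ := F.exists_reg
  rcases prime_dichotomy (L := F.Γ) (α := F.Bl) F.card_Bl with h | ⟨e, he⟩
  · exact hR.false_of_normal (hR.normal_of_two h) hp3
  · by_cases hPn : ∀ k ∈ F.K, ∀ x ∈ U ⊓ F.K, k * x * k⁻¹ ∈ U ⊓ F.K
    · exact hR.false_of_normal (hR.normal_of_affine he hPn) hp3
    · obtain ⟨h1, h2, h3⟩ := hR.H_le_K he hPn
      exact hR.false_of_H_le_K hp3 h1 h2 h3

theorem card_H_le_two (F : Frame G Ω p) (hp2 : p = 2) : Nat.card F.H ≤ 2 := by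
  classical
  have hsec : ∀ {y : Ω}, y ≠ F.a → ∀ {g : G}, g • F.a = F.a → g • y = y →
      ∀ z, F.A.R F.a y z → g • z = z := by
    intro y hy g hga hgy z hz
    by_cases hzy : z = y
    · rw [hzy, hgy]
    have h1 : g • z ∈ F.A.sec F.a y := by
      have := Set.mem_image_of_mem (fun w => g • w) (show z ∈ F.A.sec F.a y from ⟨hz, hzy⟩)
      rwa [← F.A.sec_smul, hga, hgy] at this
    have hc : (F.A.sec F.a y).ncard = 1 := by rw [F.A.ncard_sec hy, hp2]
    obtain ⟨w, hw⟩ := Set.ncard_eq_one.1 hc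
    have h2 : z ∈ F.A.sec F.a y := ⟨hz, hzy⟩
    rw [hw, Set.mem_singleton_iff] at h1 h2
    rw [h1, h2]
  obtain ⟨B, hB, huniq⟩ := (Nat.card_eq_two_iff' (F.blk F.b F.hab.symm)).1 (F.card_Bl.trans hp2)
  obtain ⟨d, hd, rfl⟩ := F.exists_blk B
  have hout : ∀ w (hw : w ≠ F.a), ¬ F.A.R F.a F.b w → F.A.R F.a d w := fun w hw h =>
    F.A.symm' ((F.blk_eq_iff hw hd).1
      (huniq _ fun e => h (F.A.symm' ((F.blk_eq_iff hw _).1 e))))
  have hdb : ¬ F.A.R F.a F.b d := fun h => hB ((F.blk_eq_iff hd _).2 (F.A.symm' h))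
  have himg : ∀ h : F.H, (h : G) • d ∈ F.A.cls F.a d := fun h => by
    refine hout _ (F.smul_ne (F.H_le h.2) hd) fun e => hdb ?_
    have hi : (h : G)⁻¹ • F.b = F.b := by rw [inv_smul_eq_iff, (F.mem_H.1 h.2).2]
    have := F.smul_R (inv_mem (F.H_le h.2)) e
    rwa [hi, inv_smul_smul] at this
  refine (Nat.card_le_card_of_injective (fun h : F.H => (⟨(h : G) • d, himg h⟩ : F.A.cls F.a d))
    fun h h' he => ?_).trans (le_of_eq ((Nat.card_coe_set_eq _).trans ((F.A.card' hd).trans hp2)))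
  have he' : (h : G) • d = (h' : G) • d := congrArg Subtype.val he
  have hv : (h' : G)⁻¹ * h ∈ F.H := mul_mem (inv_mem h'.2) h.2
  refine Subtype.ext (inv_mul_eq_one.1 (?_ : (h' : G)⁻¹ * h = 1)).symm
  refine eq_of_smul_eq_smul (α := Ω) fun w => ?_
  rw [one_smul]
  by_cases hwa : w = F.a
  · rw [hwa, (F.mem_H.1 hv).1]
  by_cases hwb : F.A.R F.a F.b w
  · exact hsec F.hab.symm (F.mem_H.1 hv).1 (F.mem_H.1 hv).2 w hwb
  · exact hsec hd (F.mem_H.1 hv).1 (by rw [mul_smul, he', inv_smul_smul]) w (hout w hwa hwb)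

theorem card_of_frame (F : Frame G Ω p) (hp2 : p = 2) : Nat.card G = 20 := by
  obtain ⟨U, hR⟩ := F.exists_reg
  have h1 := card_H_le_two F hp2
  have h2 : 0 < Nat.card F.H := Nat.card_pos
  have h3 := hR.notDvd
  subst hp2
  have h4 : Nat.card F.H = 1 := by omega
  rw [F.card_G, F.card_Γ, h4]
  norm_num

theorem exists_frame [IsPretransitive G Ω] (h2 : IsMultiplyPretransitive G Ω 2)
    (hn : Nat.card Ω = p ^ 2 + 1) (a : Ω)
    (h : ¬ IsPreprimitive (stabilizer G a) (SubMulAction.ofStabilizer G a)) :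
    Nonempty (Frame G Ω p) := by
  classical
  have hp := (Fact.out : p.Prime)
  have : IsPretransitive (stabilizer G a) (SubMulAction.ofStabilizer G a) := ⟨fun x y => by
    obtain ⟨g, hg, hxy⟩ := is_two_pretransitive_iff.1 h2 (Ne.symm x.2) (Ne.symm y.2)
    exact ⟨⟨g, hg⟩, Subtype.ext hxy⟩⟩
  obtain ⟨B, hB, hBt⟩ : ∃ B : Set (SubMulAction.ofStabilizer G a),
      IsBlock (stabilizer G a) B ∧ ¬ IsTrivialBlock B := by
    by_contra hcon
    push Not at hcon
    exact h { isTrivialBlock_of_isBlock := fun {B} hB => hcon B hB }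
  have hcardX : Nat.card (SubMulAction.ofStabilizer G a) = p ^ 2 := by
    rw [SubMulAction.nat_card_ofStabilizer_eq, hn, Nat.add_sub_cancel]
  have hBne : B.Nonempty := by
    rw [Set.nonempty_iff_ne_empty]
    rintro rfl
    exact hBt (Or.inl Set.subsingleton_empty)
  have hBcard : B.ncard = p := by
    have hd := hB.ncard_dvd_card hBne
    rw [hcardX] at hd
    obtain ⟨i, hi, hci⟩ := (Nat.dvd_prime_pow hp).1 hd
    interval_cases i
    · refine absurd (Or.inl ?_) hBt
      exact Set.ncard_le_one_iff_subsingleton.1 (by rw [hci, pow_zero])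
    · rw [hci, pow_one]
    · refine absurd (Or.inr ?_) hBt
      refine Set.eq_of_subset_of_ncard_le (Set.subset_univ _) ?_ (Set.toFinite _)
      rw [Set.ncard_univ, hcardX, hci]
  let r : Ω → Ω → Prop := fun y z => ∃ (hy : y ≠ a) (hz : z ≠ a) (g : stabilizer G a),
    (⟨y, hy⟩ : SubMulAction.ofStabilizer G a) ∈ g • B ∧
      (⟨z, hz⟩ : SubMulAction.ofStabilizer G a) ∈ g • B
  obtain ⟨x0, hx0⟩ := hBne
  have hrefl : ∀ {y}, y ≠ a → r y y := by
    intro y hy
    obtain ⟨g, hg⟩ := exists_smul_eq (stabilizer G a) x0 (⟨y, hy⟩ : SubMulAction.ofStabilizer G a)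
    exact ⟨hy, hy, g, hg ▸ Set.smul_mem_smul_set hx0, hg ▸ Set.smul_mem_smul_set hx0⟩
  have hblock : ∀ {g k : stabilizer G a} {x : SubMulAction.ofStabilizer G a},
      x ∈ g • B → x ∈ k • B → k • B = g • B :=
    fun hg hk => hB.smul_eq_smul_of_nonempty ⟨_, hk, hg⟩
  let A : ApexRel G Ω p := ApexRel.mk' a r (fun ⟨hy, _⟩ => hy) hrefl
    (fun ⟨hy, hz, g, h1, h2⟩ => ⟨hz, hy, g, h2, h1⟩)
    (fun {y z w} ⟨hy, hz, g, h1, h2⟩ ⟨_, hw, k, h3, h4⟩ =>
      ⟨hy, hw, g, h1, hblock h2 h3 ▸ h4⟩)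
    (fun g hg {y z} ⟨hy, hz, k, h1, h2⟩ => by
      refine ⟨fun e => hy (MulAction.injective g (e.trans hg.symm)),
        fun e => hz (MulAction.injective g (e.trans hg.symm)), ⟨g, hg⟩ * k, ?_, ?_⟩
      · rw [mul_smul]
        exact Set.smul_mem_smul_set (a := (⟨g, hg⟩ : stabilizer G a)) h1
      · rw [mul_smul]
        exact Set.smul_mem_smul_set (a := (⟨g, hg⟩ : stabilizer G a)) h2)
    (fun {y} hy => by
      obtain ⟨_, _, g, hg, _⟩ := hrefl hy
      have hset : {z | r y z} = Subtype.val '' (g • B) := by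
        ext z
        constructor
        · rintro ⟨_, hz, k, h1, h2⟩
          exact ⟨⟨z, hz⟩, hblock hg h1 ▸ h2, rfl⟩
        · rintro ⟨⟨z, hz⟩, hzB, rfl⟩
          exact ⟨hy, hz, g, hg, hzB⟩
      rw [hset, Set.ncard_image_of_injective _ Subtype.val_injective, Set.ncard_smul_set, hBcard])
  have hb : (x0 : Ω) ≠ a := x0.2
  exact ⟨⟨a, x0, hb.symm, h2, hn, A⟩⟩

/-- A finite group acting faithfully and 2-transitively on a set with p² + 1 points, p a prime, is doubly primitive — a point stabilizer acts primitively on the remaining p² points — unless p = 2 and the group is the Frobenius group of order 20. -/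
theorem result {G Ω : Type*} [Group G] [Finite G] [Fintype Ω] [MulAction G Ω] [FaithfulSMul G Ω] (p : ℕ) (hp : p.Prime) (hΩ : Fintype.card Ω = p ^ 2 + 1) (h2 : MulAction.IsMultiplyPretransitive G Ω 2) (a : Ω) :
    MulAction.IsPreprimitive ↥(MulAction.stabilizer G a) ↥(SubMulAction.ofStabilizer G a) ∨ (p = 2 ∧ Nat.card G = 20) := by
  classical
  have := Fact.mk hp
  have hn : Nat.card Ω = p ^ 2 + 1 := by rw [Nat.card_eq_fintype_card, hΩ]
  have : IsPretransitive G Ω := isPretransitive_of_is_two_pretransitive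
  by_contra hcon
  push Not at hcon
  obtain ⟨F⟩ := exists_frame h2 hn a hcon.1
  by_cases hp2 : p = 2
  · exact hcon.2 hp2 (card_of_frame F hp2)
  · exact false_of_frame F (by have := hp.two_le; omega)

end Cfsg.Agent.S2205
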