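import Cfsg.Statements.S2212
import Cfsg.Agent.Lib.Involutions.RankOne.PGU3.Ident
import Cfsg.Agent.Lib.Involutions.RankOne.PGU3.Model
-- import your own Cfsg.Agent.* helpers here

set_option autoImplicit false
open Cfsg

namespace Cfsg.Agent.S2212

/-- Characterization of the three-dimensional projective unitary groups over finite fields of characteristic two by the centralizer of an involution. Let q = 2^n > 2 and let PGU₃(q) be the quotient of the full unitary group of a non-degenerate Hermitian form in three variables over the field with q² elements by its centre. Let G be a finite group of even order in which all involutions are conjugate, the centralizer of an involution is isomorphic to the centralizer of an involution in PGU₃(q), and a Sylow 2-subgroup is not normal. Then G ≅ PGU₃(q). -/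
theorem result {G : Type*} [Group G] [Finite G] {F : Type*} [Field F] [Fintype F] [CharP F 2] (q : ℕ) (hq : 2 < q) (hF : Fintype.card F = q ^ 2)
    (heven : Even (Nat.card G)) (hconj : ∀ s t : G, orderOf s = 2 → orderOf t = 2 → IsConj s t)
    (hC : ∀ (x : G) (y : (↥(Cfsg.GU 3 F q) ⧸ Subgroup.center ↥(Cfsg.GU 3 F q))), orderOf x = 2 → orderOf y = 2 →
      Nonempty (↥(Subgroup.centralizer ({x} : Set G)) ≃* ↥(Subgroup.centralizer ({y} : Set (↥(Cfsg.GU 3 F q) ⧸ Subgroup.center ↥(Cfsg.GU 3 F q))))))
    (hS : ∀ P : Sylow 2 G, ¬ (P : Subgroup G).Normal) :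
    Nonempty (G ≃* (↥(Cfsg.GU 3 F q) ⧸ Subgroup.center ↥(Cfsg.GU 3 F q))) := by
  obtain ⟨m, hp, hm⟩ := FiniteField.card F 2
  obtain ⟨n, -, rfl⟩ := (Nat.dvd_prime_pow hp).1 (hm ▸ hF ▸ dvd_pow_self q two_ne_zero)
  have hn : 2 ≤ n := by
    rcases n with _ | _ | n
    · simp at hq
    · simp at hq
    · omega
  refine Agent.Involutions.RankOne.PGU3.ident
    ⟨hn, heven, hconj, fun x hx => ?_, hS⟩ hF
  obtain ⟨y, hy, S, A, hd⟩ := Agent.Involutions.RankOne.PGU3.exists_centData hF hn
  obtain ⟨e⟩ := hC x y hx hy
  exact ⟨_, _, hd.map e.symm (Agent.Involutions.SylowPSUThree.isSuzukiTwoGroup_congr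
    (S.equivMapOfInjective e.symm.toMonoidHom e.symm.injective) hd.suzuki)⟩

end Cfsg.Agent.S2212
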