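import Cfsg.Statements.S3341
import Cfsg.Agent.Recognition.SelfCentNine
import Cfsg.Agent.S0497

set_option linter.style.haveILetI false
open Cfsg

namespace Cfsg.Agent.S3341

open Cfsg.Agent.Characters
open Cfsg.Agent.SmallSimple Cfsg.Agent.SmallSimple.Exceptional
open Cfsg.Agent.Recognition

variable {G : Type*} [Group G] [Finite G]

/-- The conjugates of `a` inside a strongly self-centralizing subgroup: as many as the index of the
subgroup in its normalizer. -/
theorem card_conj_in {S : Subgroup G} (hS : SelfCent S) {a : G} (ha : a ∈ S) (ha1 : a ≠ 1) :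
    Nat.card {y : G // y ∈ S ∧ IsConj a y} = S.relIndex (Subgroup.normalizer (S : Set G)) := by
  classical
  haveI := Fintype.ofFinite {y : G // y ∈ S ∧ IsConj a y}
  set N := Subgroup.normalizer (S : Set G)
  let F : N → {y : G // y ∈ S ∧ IsConj a y} := fun n =>
    ⟨(n : G) * a * (n : G)⁻¹, (Subgroup.mem_normalizer_iff.1 n.2 a).1 ha, isConj_iff.2 ⟨n, rfl⟩⟩
  have hFv : ∀ n : N, ((F n : G)) = (n : G) * a * (n : G)⁻¹ := fun n => rfl
  have hfib : ∀ y : {y : G // y ∈ S ∧ IsConj a y}, Nat.card {n // F n = y} = Nat.card S := by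
    intro y
    obtain ⟨m, hm⟩ := isConj_iff.1 y.2.2
    have hmN : m ∈ N := by
      refine Subgroup.inv_mem_iff _ |>.1 (hS.mem_normalizer_of_conj ha ha1 ?_)
      rw [inv_inv, hm]; exact y.2.1
    refine Nat.card_congr
      { toFun := fun n => ⟨m⁻¹ * (n.1 : G), ?_⟩
        invFun := fun s => ⟨⟨m * (s : G), N.mul_mem hmN (Subgroup.le_normalizer s.2)⟩, ?_⟩
        left_inv := fun n => Subtype.ext (Subtype.ext (mul_inv_cancel_left m _))
        right_inv := fun s => Subtype.ext (inv_mul_cancel_left m _) }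
    · have hn : ((n.1 : N) : G) * a * ((n.1 : N) : G)⁻¹ = (y : G) := by rw [← hFv, n.2]
      refine (hS.centralizer_eq a ha ha1).le (Subgroup.mem_centralizer_singleton_iff.2 ?_)
      calc m⁻¹ * ((n.1 : N) : G) * a = m⁻¹ * (((n.1 : N) : G) * a * ((n.1 : N) : G)⁻¹) * (n.1 : N) := by
            group
        _ = a * (m⁻¹ * ((n.1 : N) : G)) := by rw [hn, ← hm]; group
    · refine Subtype.ext ?_
      rw [hFv]
      have hs : (s : G) * a = a * (s : G) :=
        Subgroup.mem_centralizer_singleton_iff.1 ((hS.centralizer_eq a ha ha1).symm ▸ s.2)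
      calc m * (s : G) * a * (m * (s : G))⁻¹ = m * ((s : G) * a * (s : G)⁻¹) * m⁻¹ := by group
        _ = (y : G) := by rw [hs, mul_inv_cancel_right, hm]
  have h := Nat.card_congr (Equiv.sigmaFiberEquiv F).symm
  rw [Nat.card_sigma, Finset.sum_congr rfl fun y _ => hfib y, Finset.sum_const, Finset.card_univ,
    smul_eq_mul, ← Nat.card_eq_fintype_card] at h
  have hm := Subgroup.relIndex_mul_relIndex ⊥ S N bot_le Subgroup.le_normalizer
  rw [Subgroup.relIndex_bot_left, Subgroup.relIndex_bot_left, h, mul_comm (Nat.card S)] at hm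
  exact (Nat.eq_of_mul_eq_mul_right Nat.card_pos hm).symm

theorem result {G : Type*} [Group G] [Finite G] [IsSimpleGroup G]
    (P : Sylow 3 G) (S : Subgroup G) (hSP : S = P) (hcomm : IsMulCommutative S) (hexp : ∀ a ∈ S, a ^ 3 = 1)
    (hcard : Nat.card S = 9)
    (hclasses : ∃ a b : G, orderOf a = 3 ∧ orderOf b = 3 ∧ ∀ g : G, g * a * g⁻¹ ≠ b)
    (hcent : ∀ s ∈ S, s ≠ 1 → Subgroup.centralizer ({s} : Set G) = S) :
    Nonempty (G ≃* alternatingGroup (Fin 6)) := by
  classical
  haveI := Fintype.ofFinite G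
  haveI : Fact (Nat.Prime 3) := ⟨Nat.prime_three⟩
  have h3G : 3 ∣ Nat.card G := by
    have h := Subgroup.card_subgroup_dvd_card S
    rw [hcard] at h
    exact dvd_trans (by norm_num) h
  have hne : S ≠ ⊥ := fun h => by rw [h, Subgroup.card_bot] at hcard; norm_num at hcard
  have hS : SelfCent S := ⟨hne, hcent⟩
  -- conjugation into `S`
  have hinto : ∀ Q : Subgroup G, IsPGroup 3 Q → ∃ k : G, ∀ g ∈ Q, k * g * k⁻¹ ∈ S := by
    intro Q hQ
    obtain ⟨P', hP'⟩ := hQ.exists_le_sylow
    obtain ⟨k, hk⟩ := MulAction.exists_smul_eq G P' P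
    refine ⟨k, fun g hg => ?_⟩
    rw [hSP, ← hk, Sylow.coe_subgroup_smul, Subgroup.mem_smul_pointwise_iff_exists]
    exact ⟨g, hP' hg, rfl⟩
  have hinto1 : ∀ g : G, orderOf g = 3 → ∃ k : G, k * g * k⁻¹ ∈ S := fun g hg => by
    obtain ⟨k, hk⟩ := hinto (Subgroup.zpowers g)
      (IsPGroup.of_card (n := 1) (by rw [Nat.card_zpowers, hg, pow_one]))
    exact ⟨k, hk g (Subgroup.mem_zpowers g)⟩
  obtain ⟨a₀, b₀, hoa, hob, hnc⟩ := hclasses
  obtain ⟨ka, hka⟩ := hinto1 a₀ hoa
  obtain ⟨kb, hkb⟩ := hinto1 b₀ hob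
  set a := ka * a₀ * ka⁻¹
  set b := kb * b₀ * kb⁻¹
  have hab : ¬ IsConj a b := fun h => by
    have h' : IsConj a₀ b₀ := ((isConj_iff.2 ⟨ka, rfl⟩ : IsConj a₀ a).trans h).trans
      (isConj_iff.2 ⟨kb, rfl⟩ : IsConj b₀ b).symm
    obtain ⟨g, hg⟩ := isConj_iff.1 h'
    exact hnc g hg
  have hab1 : ∀ g k : G, orderOf g = 3 → k * g * k⁻¹ ≠ 1 := fun g k hg h => by
    rw [conj_eq_one_iff] at h
    rw [h, orderOf_one] at hg; norm_num at hg
  have ha1 : a ≠ 1 := hab1 a₀ ka hoa
  have hb1 : b ≠ 1 := hab1 b₀ kb hob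
  have hord : ∀ y ∈ S, y ≠ 1 → orderOf y = 3 := fun y hy hy1 => orderOf_eq_prime (hexp y hy) hy1
  have hC : ∀ g : G, orderOf g = 3 → ∀ h ∈ Subgroup.centralizer ({g} : Set G), h ^ 3 = 1 := by
    intro g hg h hh
    obtain ⟨k, hk⟩ := hinto1 g hg
    have hm : k * h * k⁻¹ ∈ S := by
      rw [← hcent _ hk (hab1 g k hg), Subgroup.mem_centralizer_singleton_iff]
      calc k * h * k⁻¹ * (k * g * k⁻¹) = k * (h * g) * k⁻¹ := by group
        _ = k * g * k⁻¹ * (k * h * k⁻¹) := by rw [Subgroup.mem_centralizer_singleton_iff.1 hh]; group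
    have := hexp _ hm
    rwa [conj_pow, conj_eq_one_iff] at this
  have hP : ∀ Q : Subgroup G, IsPGroup 3 Q → ∀ g ∈ Q, ∀ h ∈ Q, g * h = h * g := by
    intro Q hQ g hg h hh
    obtain ⟨k, hk⟩ := hinto Q hQ
    have hc : (⟨_, hk g hg⟩ : S) * ⟨_, hk h hh⟩ = ⟨_, hk h hh⟩ * ⟨_, hk g hg⟩ := mul_comm' _ _
    have hc' : k * g * k⁻¹ * (k * h * k⁻¹) = k * h * k⁻¹ * (k * g * k⁻¹) := congrArg Subtype.val hc
    have he : k * (g * h) * k⁻¹ = k * (h * g) * k⁻¹ := by
      calc k * (g * h) * k⁻¹ = k * g * k⁻¹ * (k * h * k⁻¹) := by group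
        _ = k * (h * g) * k⁻¹ := by rw [hc']; group
    exact mul_left_cancel (mul_right_cancel he)
  have hG : ¬ IsMulCommutative G := fun hc => by
    have hprime : (Nat.card G).Prime :=
      prime_card_of_simple_of_comm fun x y => (mul_comm' x y)
    have := Subgroup.card_subgroup_dvd_card S
    rw [hcard] at this
    rcases (Nat.dvd_prime hprime).1 this with h | h
    · norm_num at h
    · rw [← h] at hprime; norm_num at hprime
  -- the index `e`
  set e := S.relIndex (Subgroup.normalizer (S : Set G)) with he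
  have he1 : e ≠ 1 := fun h => by
    apply Basic.not_normalizer_le_centralizer hG h3G P
    rw [← hSP]
    exact (Subgroup.relIndex_eq_one.1 h).trans (Subgroup.le_centralizer S)
  have hclass : ∀ y ∈ S, y ≠ 1 → Nat.card {z : G // z ∈ S ∧ IsConj y z} = e :=
    fun y hy hy1 => card_conj_in hS hy hy1
  obtain ⟨m, hm, hm2⟩ : ∃ m, m * e = 8 ∧ 2 ≤ m := by
    let T := {y : G // y ∈ S ∧ y ≠ 1}
    letI st : Setoid T :=
      ⟨fun y z => IsConj y.1 z.1, ⟨fun y => IsConj.refl _, fun h => h.symm, fun h h' => h.trans h'⟩⟩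
    haveI := Fintype.ofFinite (Quotient st)
    haveI := Fintype.ofFinite T
    have hfib : ∀ q : Quotient st, Nat.card {y : T // Quotient.mk st y = q} = e := by
      intro q
      obtain ⟨y, rfl⟩ := Quotient.exists_rep q
      rw [← hclass y.1 y.2.1 y.2.2]
      exact Nat.card_congr
        { toFun := fun z => ⟨z.1.1, z.1.2.1, IsConj.symm (Quotient.exact z.2)⟩
          invFun := fun z => ⟨⟨z.1, z.2.1, fun h => y.2.2 (by have h2 := z.2.2.symm; rw [h] at h2; exact isConj_one_right.1 h2)⟩,
            Quotient.sound (IsConj.symm z.2.2)⟩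
          left_inv := fun z => rfl
          right_inv := fun z => rfl }
    refine ⟨Fintype.card (Quotient st), ?_, ?_⟩
    · have h := Nat.card_congr (Equiv.sigmaFiberEquiv (Quotient.mk st)).symm
      rw [Nat.card_sigma, Finset.sum_congr rfl fun q _ => hfib q, Finset.sum_const, Finset.card_univ,
        smul_eq_mul] at h
      rw [← h]
      haveI := Fintype.ofFinite S
      let e' : T ≃ {y : S // y ≠ 1} :=
        { toFun := fun y => ⟨⟨y.1, y.2.1⟩, fun h => y.2.2 (congrArg Subtype.val h)⟩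
          invFun := fun y => ⟨y.1.1, y.1.2, fun h => y.2 (Subtype.ext h)⟩
          left_inv := fun y => rfl
          right_inv := fun y => rfl }
      rw [Nat.card_congr e', Nat.card_eq_fintype_card, Fintype.card_subtype_compl,
        Fintype.card_subtype_eq, ← Nat.card_eq_fintype_card, hcard]
    · refine Fintype.one_lt_card_iff.2 ⟨Quotient.mk st ⟨a, hka, ha1⟩, Quotient.mk st ⟨b, hkb, hb1⟩,
        fun h => hab (Quotient.exact h)⟩
  have hed : e = 2 ∨ e = 4 := by
    have h8 : e ∣ 8 := ⟨m, by rw [← hm, mul_comm]⟩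
    have : e ≤ 4 := by nlinarith
    have := Nat.le_of_dvd (by norm_num) h8
    interval_cases e <;> first | (left; rfl) | (right; rfl) | (exact absurd rfl he1) | omega
  -- an inverting involution
  haveI : Fact (Nat.Prime 2) := ⟨Nat.prime_two⟩
  have h2N : 2 ∣ Nat.card (Subgroup.normalizer (S : Set G)) := by
    have h := Subgroup.relIndex_mul_relIndex ⊥ S (Subgroup.normalizer (S : Set G)) bot_le
      Subgroup.le_normalizer
    rw [Subgroup.relIndex_bot_left, Subgroup.relIndex_bot_left, ← he] at h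
    rw [← h]
    exact dvd_mul_of_dvd_right (by rcases hed with h | h <;> rw [h] <;> norm_num) _
  obtain ⟨⟨t, htN⟩, ht'⟩ := exists_prime_orderOf_dvd_card' 2 h2N
  have ht : orderOf t = 2 := by rwa [Subgroup.orderOf_mk] at ht'
  have htt : t * t = 1 := by rw [← sq]; exact ht ▸ pow_orderOf_eq_one t
  have hti : t⁻¹ = t := inv_eq_of_mul_eq_one_right htt
  have hreal : ∀ y ∈ S, IsConj y⁻¹ y := by
    intro y hy
    refine (isConj_iff.2 ⟨t, ?_⟩ : IsConj y y⁻¹).symm
    have hy' : t * y * t⁻¹ ∈ S := (Subgroup.mem_normalizer_iff.1 htN y).1 hy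
    have hu : y * (t * y * t⁻¹) = 1 := by
      by_contra h
      have htS : t ∈ S := by
        rw [← hcent _ (S.mul_mem hy hy') h, Subgroup.mem_centralizer_singleton_iff]
        have hc : (⟨y, hy⟩ : S) * ⟨_, hy'⟩ = ⟨_, hy'⟩ * ⟨y, hy⟩ := mul_comm' _ _
        have hc' : y * (t * y * t⁻¹) = t * y * t⁻¹ * y := congrArg Subtype.val hc
        calc t * (y * (t * y * t⁻¹)) = t * y * t * y * t := by rw [hti]; group
          _ = t * y * (t * t) * t⁻¹ * y * t := by group
          _ = (t * y * t⁻¹ * y) * t := by rw [htt]; group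
          _ = y * (t * y * t⁻¹) * t := by rw [hc']
      have hd := orderOf_dvd_natCard (⟨t, htS⟩ : S)
      rw [Subgroup.orderOf_mk, ht, hcard] at hd
      norm_num at hd
    exact eq_inv_of_mul_eq_one_right hu
  have hpow : ∀ g k : G, IsConj k g → k ^ 3 = 1 → g ^ 3 = 1 := fun g k h h3 => by
    obtain ⟨n, rfl⟩ := isConj_iff.1 h
    rw [conj_pow, h3]; group
  obtain ⟨he4, hle⟩ : e = 4 ∧ Nat.card G ≤ 1092 := by
    rcases hed with h | h
    · exfalso
      refine SelfCentNine.four_classes_false hG hS hcard h hka hkb ha1 hb1 ht hab hreal ?_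
      haveI : IsEmpty {g : G // IsConj a g ∧ IsConj b (g⁻¹ * t)} := ⟨fun ⟨g, hag, hbg⟩ => hab <| by
        have h1 := SelfCentNine.isConj_inv_of_sq_mul (hpow g a hag (hexp a hka))
          (hpow _ b hbg (hexp b hkb)) (by rw [mul_inv_cancel_left, sq, htt])
        have h2 : IsConj a⁻¹ g⁻¹ := by
          obtain ⟨n, hn⟩ := isConj_iff.1 hag
          exact isConj_iff.2 ⟨n, by rw [← hn]; group⟩
        exact (hreal a hka).symm.trans ((h2.trans h1).trans hbg.symm)⟩
      exact Nat.card_of_isEmpty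
    · refine ⟨h, SelfCentNine.card_le_of_two_classes hS hcard h hka hkb ha1 hb1 hab hreal ?_⟩
      have hcom : ∀ g, IsConj a g → IsConj a (g⁻¹ * b) → g ∈ S := by
        intro g hag hag'
        have hgo : orderOf g = 3 := by
          obtain ⟨n, rfl⟩ := isConj_iff.1 hag
          rw [← hord a hka ha1]
          simpa using orderOf_injective (MulAut.conj n).toMonoidHom (MulAut.conj n).injective a
        have hc := SelfCentNine.commute_of_pow_mul hgo (hpow _ a hag' (hexp a hka))
          (by rw [mul_inv_cancel_left]; exact hexp b hkb) hC hP fun h => hab <| by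
            rw [mul_inv_cancel_left] at h
            exact (hag.trans h).trans (hreal b hkb)
        rw [mul_inv_cancel_left] at hc
        rw [← hcent b hkb hb1, Subgroup.mem_centralizer_singleton_iff]
        calc g * b = g * (g⁻¹ * b * g) := by rw [← hc]
          _ = b * g := by group
      by_contra hcon
      push Not at hcon
      let i : {g : G // IsConj a g ∧ IsConj a (g⁻¹ * b)} → {z : G // z ∈ S ∧ IsConj a z} :=
        fun g => ⟨g.1, hcom g.1 g.2.1 g.2.2, g.2.1⟩
      have hinj : Function.Injective i := fun g g' h => Subtype.ext (congrArg Subtype.val h :)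
      have hbij := hinj.bijective_of_nat_card_le (by rw [hclass a hka ha1, h]; omega)
      -- the class of `a` in `S` is invariant under multiplication by `b`
      have hinv : ∀ z : {z : G // z ∈ S ∧ IsConj a z}, z.1 * b ∈ S ∧ IsConj a (z.1 * b) := by
        rintro ⟨z, hz, hza⟩
        refine ⟨S.mul_mem hz hkb, ?_⟩
        have hzi : IsConj a z⁻¹ := by
          obtain ⟨n, hn⟩ := isConj_iff.1 hza
          exact (hreal a hka).symm.trans (isConj_iff.2 ⟨n, by rw [← hn]; group⟩)
        obtain ⟨g, hg⟩ := hbij.2 ⟨z⁻¹, S.inv_mem hz, hzi⟩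
        have hgz : (g : G) = z⁻¹ := congrArg Subtype.val hg
        have h2 := g.2.2
        rwa [hgz, inv_inv] at h2
      haveI := Fintype.ofFinite {z : G // z ∈ S ∧ IsConj a z}
      let σ : Equiv.Perm {z : G // z ∈ S ∧ IsConj a z} :=
        Equiv.ofBijective (fun z => ⟨z.1 * b, hinv z⟩) (Finite.injective_iff_bijective.1
          fun z z' h => Subtype.ext (mul_right_cancel (congrArg Subtype.val h :)))
      have hσv : ∀ z, (σ z).1 = z.1 * b := fun z => rfl
      have hσ : σ ^ 3 = 1 := by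
        refine Equiv.ext fun z => Subtype.ext ?_
        simp only [pow_succ, pow_zero, one_mul, Equiv.Perm.mul_apply, hσv, Equiv.Perm.one_apply,
          mul_assoc]
        rw [show b * (b * b) = 1 by have h3 := hexp b hkb; rwa [pow_three] at h3, mul_one]
      have hnf : Function.fixedPoints σ = ∅ := Set.eq_empty_iff_forall_notMem.2 fun z hz => hb1 <| by
        have : z.1 * b = z.1 := (hσv z).symm.trans (congrArg Subtype.val hz)
        exact mul_eq_left.1 this
      have hc3 := Equiv.Perm.card_compl_support_modEq (p := 3) (n := 1) (σ := σ) (by rwa [pow_one])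
      have h0 : σ.supportᶜ = ∅ := by
        refine Finset.eq_empty_of_forall_notMem fun z hz => ?_
        rw [Finset.mem_compl, Equiv.Perm.mem_support, not_not] at hz
        have : z ∈ Function.fixedPoints σ := hz
        rw [hnf] at this; exact this
      rw [h0, Finset.card_empty, ← Nat.card_eq_fintype_card, hclass a hka ha1, h] at hc3
      exact absurd hc3 (by decide)
  have h9 : 9 ∣ Nat.card G := hcard ▸ Subgroup.card_subgroup_dvd_card S
  rcases Cfsg.Agent.S0496.result hG hle with h | h | h | h | h | h <;> rw [h] at h9 <;>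
    try (norm_num at h9; done)
  · exact Cfsg.Agent.S0497.result h
  · -- the order 504 contradicts Sylow's theorem
    exfalso
    have hN := Basic.card_normalizer_mul P
    have hm := Subgroup.relIndex_mul_relIndex ⊥ S (Subgroup.normalizer (S : Set G)) bot_le
      Subgroup.le_normalizer
    rw [Subgroup.relIndex_bot_left, Subgroup.relIndex_bot_left, ← he, he4, hcard] at hm
    have hs := card_sylow_modEq_one 3 G
    rw [← hSP, ← hm, h] at hN
    have hn : Nat.card (Sylow 3 G) = 14 := by omega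
    rw [hn] at hs
    exact absurd hs (by decide)

end Cfsg.Agent.S3341
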