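import Cfsg.Statements.S2220
import Cfsg.Agent.S3341
import Cfsg.Agent.S0997
import Cfsg.Agent.Lib.Characters.Burnside
import Cfsg.Agent.Lib.NineSection.Main
import Cfsg.Agent.Lib.NineSection.One.Main

set_option autoImplicit false
set_option linter.style.haveILetI false
open Cfsg

namespace Cfsg.Agent.S2220

open Subgroup

/-- A cyclic strongly self-centralizing Sylow subgroup of order nine gives three classes. -/
theorem three_classes {G : Type*} [Group G] [Finite G] (R : Sylow 3 G)
    (hR : ∀ k ∈ (R : Subgroup G), k ≠ 1 → Subgroup.centralizer ({k} : Set G) = R)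
    (hc : Nat.card (R : Subgroup G) = 9) {g : G} (hg : g ∈ (R : Subgroup G)) (hg3 : g ^ 3 ≠ 1) :
    3 ≤ Nat.card {C : ConjClasses G // ∃ g ∈ C.carrier, g ≠ 1 ∧ orderOf g ∣ 9} := by
  haveI : Fact (Nat.Prime 3) := ⟨Nat.prime_three⟩
  have hpow : ∀ y ∈ (R : Subgroup G), orderOf y ∣ 9 := fun y hy => hc ▸ (R : Subgroup G).orderOf_dvd_natCard hy
  have hgo : orderOf g = 9 := by
    obtain ⟨i, hi, he⟩ := (Nat.dvd_prime_pow (p := 3) (m := 2) Nat.prime_three).1
      (show orderOf g ∣ 3 ^ 2 from hpow g hg)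
    interval_cases i
    · have e : g = 1 := orderOf_eq_one_iff.1 (by simpa using he)
      exact absurd (by rw [e, one_pow]) hg3
    · exact absurd (orderOf_dvd_iff_pow_eq_one.1 (by rw [he]; norm_num)) hg3
    · simpa using he
  have hg1 : g ≠ 1 := fun e => hg3 (by rw [e, one_pow])
  have ho2 : orderOf (g ^ 2) = 9 := by
    rw [Nat.Coprime.orderOf_pow (by rw [hgo]; norm_num), hgo]
  have ho3 : orderOf (g ^ 3) = 3 := by
    rw [orderOf_pow_of_dvd (by norm_num) (by rw [hgo]; norm_num), hgo]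
  have hoc : ∀ a c : G, IsConj a c → orderOf a = orderOf c := fun a c h => by
    obtain ⟨t, rfl⟩ := isConj_iff.1 h
    exact (orderOf_injective (MulAut.conj t).toMonoidHom (MulAut.conj t).injective a).symm
  have h12 : ¬ IsConj g (g ^ 2) := by
    intro h
    obtain ⟨n, hn⟩ := isConj_iff.1 h
    set m := n * n with hm
    have hm4 : m * g * m⁻¹ = g ^ 4 := by
      calc m * g * m⁻¹ = n * (n * g * n⁻¹) * n⁻¹ := by rw [hm]; group
        _ = n * g ^ 2 * n⁻¹ := by rw [hn]
        _ = (n * g * n⁻¹) ^ 2 := by rw [conj_pow]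
        _ = g ^ 4 := by rw [hn, ← pow_mul]
    have hfix : m ^ 3 * g * (m ^ 3)⁻¹ = g := by
      have e1 : m * g ^ 4 * m⁻¹ = g ^ 16 := by rw [← conj_pow, hm4, ← pow_mul]
      have e2 : m * g ^ 16 * m⁻¹ = g ^ 64 := by rw [← conj_pow, hm4, ← pow_mul]
      calc m ^ 3 * g * (m ^ 3)⁻¹ = m * (m * (m * g * m⁻¹) * m⁻¹) * m⁻¹ := by
            simp [pow_succ, mul_assoc]
        _ = g ^ 64 := by rw [hm4, e1, e2]
        _ = g := by
          rw [← pow_mod_orderOf g 64, hgo, show 64 % 9 = 1 by norm_num, pow_one]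
    have hm3R : m ^ 3 ∈ (R : Subgroup G) := by
      rw [← hR g hg hg1]
      exact mem_centralizer_singleton_iff.2 (mul_inv_eq_iff_eq_mul.1 hfix)
    have h27 : m ^ (3 ^ 3) = 1 := by
      rw [show (3 : ℕ) ^ 3 = 3 * 9 by norm_num, pow_mul]
      exact orderOf_dvd_iff_pow_eq_one.1 (hpow _ hm3R)
    have hp3 : IsPGroup 3 (zpowers m) := by
      obtain ⟨k, -, hk⟩ := (Nat.dvd_prime_pow Nat.prime_three).1 (orderOf_dvd_iff_pow_eq_one.2 h27)
      exact IsPGroup.of_card (n := k) (by rw [Nat.card_zpowers, hk])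
    have hRg : (R : Subgroup G) = zpowers g := (eq_of_le_of_card_ge (zpowers_le.2 hg) (by
      rw [Nat.card_zpowers, hgo, hc])).symm
    have hmN : m ∈ normalizer ((R : Subgroup G) : Set G) := by
      have hle : (R : Subgroup G).map (MulAut.conj m).toMonoidHom ≤ (R : Subgroup G) := by
        rintro _ ⟨y, hy, rfl⟩
        rw [SetLike.mem_coe, hRg, mem_zpowers_iff] at hy
        obtain ⟨k, rfl⟩ := hy
        change m * g ^ k * m⁻¹ ∈ _
        rw [← conj_zpow, hm4]
        exact zpow_mem (pow_mem hg 4) k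
      have heq := eq_of_le_of_card_ge hle (card_map_of_injective (MulAut.conj m).injective).ge
      refine mem_normalizer_iff.2 fun y => ⟨fun hy => hle ⟨y, hy, rfl⟩, fun hy => ?_⟩
      rw [← heq] at hy
      obtain ⟨y', hy', e⟩ := hy
      exact (mul_left_cancel (mul_right_cancel (show m * y' * m⁻¹ = m * y * m⁻¹ from e))) ▸ hy'
    have hmR : m ∈ (R : Subgroup G) := by
      have h' : m ∈ zpowers m ⊓ normalizer ((R : Subgroup G) : Set G) := ⟨mem_zpowers _, hmN⟩
      rw [show zpowers m ⊓ normalizer ((R : Subgroup G) : Set G) = zpowers m ⊓ (R : Subgroup G) from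
        hp3.inf_normalizer_sylow R] at h'
      exact h'.2
    rw [← hR g hg hg1] at hmR
    have h44 : g ^ 4 = g := by
      rw [← hm4, mem_centralizer_singleton_iff.1 hmR, mul_inv_cancel_right]
    have : g ^ 3 = 1 := by
      have h4 : g ^ 3 * g = g := by rw [← pow_succ]; exact h44
      exact mul_eq_right.1 h4
    exact hg3 this
  have hne3 : g ^ 3 ≠ 1 := hg3
  have hne2 : g ^ 2 ≠ 1 := fun e => by rw [e, orderOf_one] at ho2; norm_num at ho2
  let F : Fin 3 → {C : ConjClasses G // ∃ g ∈ C.carrier, g ≠ 1 ∧ orderOf g ∣ 9} :=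
    ![⟨ConjClasses.mk g, g, ConjClasses.mem_carrier_mk, hg1, hpow g hg⟩,
      ⟨ConjClasses.mk (g ^ 2), g ^ 2, ConjClasses.mem_carrier_mk, hne2, hpow _ (pow_mem hg 2)⟩,
      ⟨ConjClasses.mk (g ^ 3), g ^ 3, ConjClasses.mem_carrier_mk, hne3, hpow _ (pow_mem hg 3)⟩]
  have h := Nat.card_le_card_of_injective F (fun i j e => by
    have e' := congrArg Subtype.val e
    fin_cases i <;> fin_cases j <;> first | rfl | (
      exfalso
      simp only [F, Fin.zero_eta, Fin.mk_one, Fin.reduceFinMk, Matrix.cons_val_zero, Matrix.cons_val_one,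
        Matrix.cons_val, Fin.isValue, ConjClasses.mk_eq_mk_iff_isConj] at e'
      first
        | exact h12 e'
        | exact h12 e'.symm
        | (have := hoc _ _ e'; omega)))
  simpa using h

/-- Let G be a non-abelian finite simple group of order 9·2ᵃ·qᵇ for a prime q other than 2 and 3, and suppose a Sylow 3-subgroup R of G is strongly self-centralizing: C_G(k) = R for every nonidentity k ∈ R. Then G is isomorphic to the alternating group of degree 6, to PSL(2,8) or to PSL(2,17). -/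
theorem result {G : Type*} [Group G] [Finite G] [IsSimpleGroup G] (hG : ¬ IsMulCommutative G)
    (q a b : ℕ) (hq : q.Prime) (hq2 : q ≠ 2) (hq3 : q ≠ 3) (hcard : Nat.card G = 9 * 2 ^ a * q ^ b)
    (R : Sylow 3 G) (hR : ∀ k ∈ (R : Subgroup G), k ≠ 1 → Subgroup.centralizer ({k} : Set G) = R) :
    Nonempty (G ≃* ↥(alternatingGroup (Fin 6))) ∨
      (∃ (F : Type) (_ : Field F) (_ : Fintype F), Fintype.card F = 8 ∧
        Nonempty (G ≃* Matrix.ProjectiveSpecialLinearGroup (Fin 2) F)) ∨
      Nonempty (G ≃* Matrix.ProjectiveSpecialLinearGroup (Fin 2) (ZMod 17)) := by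
  haveI : Fact (Nat.Prime 3) := ⟨Nat.prime_three⟩
  have hc : Nat.card (R : Subgroup G) = 9 := by
    have h3 : ¬ 3 ∣ 2 ^ a * q ^ b := fun h => by
      rcases Nat.prime_three.dvd_mul.1 h with h | h
      · exact absurd (Nat.prime_three.dvd_of_dvd_pow h) (by norm_num)
      · exact hq3 ((Nat.prime_dvd_prime_iff_eq Nat.prime_three hq).1 (Nat.prime_three.dvd_of_dvd_pow h)).symm
    rw [SmallSimple.Basic.card_sylow_eq_pow (p := 3) (a := 2) (m := 2 ^ a * q ^ b)
      (hcard.trans (by ring)) h3 R]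
    norm_num
  -- two primes are not enough
  rcases Nat.eq_zero_or_pos b with rfl | hb0
  · exfalso
    haveI : Group.IsSolvable G := Characters.burnside_pa_qb (a := 2) (b := a) Nat.prime_three Nat.prime_two
      (by rw [hcard]; ring)
    exact (Group.IsSolvable.commutator_lt_top_of_nontrivial G).ne (NineSection.commutator_eq_top hG)
  by_cases hb : b = 1 ∧ 11 ≤ q
  · obtain ⟨rfl, h11⟩ := hb
    rw [pow_one] at hcard
    refine Or.inr (Or.inr ?_)
    rcases S0997.result (NineSection.not_isCyclic_of hG) q 2 a 9 hq Nat.prime_two hq2 (by rw [hcard]; ring)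
      (by omega) with ⟨m, F, _, _, -, hm, -⟩ | ⟨m, F, _, _, -, hm, -⟩
    · refine NineSection.large hG hq h11 hcard (x := m) ?_
      rcases hm with h | h
      · exact Or.inr h.symm
      · refine Or.inl ?_
        have := Nat.one_le_two_pow (n := m)
        omega
    · exact NineSection.large hG hq h11 hcard (x := m) (Or.inr hm.symm)
  by_cases hcube : ∀ g ∈ (R : Subgroup G), g ^ 3 = 1
  · by_cases hone : ∀ x ∈ (R : Subgroup G), x ≠ 1 → ∀ y ∈ (R : Subgroup G), y ≠ 1 → IsConj x y
    · exact (NineSection.One.OneClass.false hG ⟨hc, hcube, hR, hone⟩ hq hq2 hq3 hb0 hb hcard).elim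
    · push Not at hone
      obtain ⟨x, hx, hx1, y, hy, hy1, hxy⟩ := hone
      refine Or.inl (S3341.result R (R : Subgroup G) rfl ?_ hcube hc
        ⟨x, y, orderOf_eq_prime (hcube x hx) hx1, orderOf_eq_prime (hcube y hy) hy1,
          fun g e => hxy (isConj_iff.2 ⟨g, e⟩)⟩ hR)
      refine ⟨⟨fun u v => ?_⟩⟩
      by_cases h1 : (u : G) = 1
      · exact Subtype.ext (by simp [h1])
      · have hv : (v : G) ∈ centralizer ({(u : G)} : Set G) := by rw [hR _ u.2 h1]; exact v.2
        exact Subtype.ext (mem_centralizer_singleton_iff.1 hv).symm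
  · push Not at hcube
    obtain ⟨g, hg, hg3⟩ := hcube
    exact Or.inr (NineSection.classify hG hq hq2 hq3 hcard (three_classes R hR hc hg hg3))

end Cfsg.Agent.S2220
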