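import Cfsg.Statements.S2222
import Cfsg.Agent.Lib.Involutions.AltSylowNormalizer

-- import your own Cfsg.Agent.* helpers here

set_option autoImplicit false
open Cfsg

namespace Cfsg.Agent.S2222

theorem aux {G : Type*} [Group G] [Finite G] (H : Subgroup G) (hH : Odd H.index)
    (hN : ∀ R : Sylow 2 G, (R : Subgroup G) ≤ H →
      Subgroup.normalizer ((R : Subgroup G) : Set G) ≤ H ∨ H.index.Prime ∨ H = R) :
    Cfsg.IsPronormal H := by
  have : Fact (Nat.Prime 2) := ⟨Nat.prime_two⟩
  intro g
  obtain ⟨P⟩ : Nonempty (Sylow 2 H) := inferInstance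
  have hidx : ¬ 2 ∣ ((P : Subgroup H).map H.subtype).index := by
    rw [Subgroup.index_map_subtype]
    intro h
    rcases (Nat.prime_two.dvd_mul).1 h with h | h
    · exact P.not_dvd_index h
    · exact (Nat.not_even_iff_odd.2 hH) (even_iff_two_dvd.2 h)
  obtain ⟨R, hR⟩ : ∃ R : Sylow 2 G, (R : Subgroup G) = (P : Subgroup H).map H.subtype :=
    ⟨(P.2.map H.subtype).toSylow hidx, rfl⟩
  have hRH : (R : Subgroup G) ≤ H := hR ▸ Subgroup.map_subtype_le _
  set H' := H.map (MulAut.conj g).toMonoidHom with hH'
  set K := H ⊔ H' with hK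
  have hR' : ((g • R : Sylow 2 G) : Subgroup G) ≤ K := by
    refine le_trans ?_ le_sup_right
    rintro _ ⟨r, hr, rfl⟩
    exact ⟨r, hRH hr, rfl⟩
  obtain ⟨k, hk⟩ := MulAction.exists_smul_eq K (R.subtype (hRH.trans le_sup_left))
    ((g • R).subtype hR')
  rw [Sylow.smul_subtype] at hk
  have hk' : (k : G) • R = g • R := Sylow.subtype_injective hk
  have hn : (k : G)⁻¹ * g ∈ Subgroup.normalizer ((R : Subgroup G) : Set G) := by
    apply Sylow.smul_eq_iff_mem_normalizer.1
    rw [mul_smul, ← hk', inv_smul_smul]
  rcases hN R hRH with h | h | h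
  · refine ⟨k, k.2, ?_⟩
    have hgk : g = (k : G) * ((k : G)⁻¹ * g) := by group
    change H.map _ = _
    conv_lhs => rw [hgk]
    have hmem := h hn
    generalize (k : G)⁻¹ * g = t at hmem ⊢
    have ht : H.map (MulAut.conj t).toMonoidHom = H := by
      ext y
      constructor
      · rintro ⟨z, hz, rfl⟩
        exact H.mul_mem (H.mul_mem hmem hz) (H.inv_mem hmem)
      · intro hy
        exact ⟨t⁻¹ * y * t, H.mul_mem (H.mul_mem (H.inv_mem hmem) hy) hmem, by
          simp [mul_assoc]⟩
    conv_rhs => rw [← ht]
    rw [Subgroup.map_map]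
    congr 1
    ext y
    simp [mul_assoc]
  · by_cases hle : H' ≤ H
    · refine ⟨1, one_mem _, ?_⟩
      have he : H' = H := Subgroup.eq_of_le_of_card_ge hle (by
        rw [hH', Nat.card_congr (H.equivMapOfInjective (MulAut.conj g).toMonoidHom
          (MulAut.conj g).injective).toEquiv])
      change H' = _
      rw [he]
      ext y
      simp
    · have hlt : H < K := left_lt_sup.2 hle
      have htop : K = ⊤ := by
        rcases (Nat.dvd_prime h).1 (Subgroup.index_dvd_of_le hlt.le) with h1 | h1
        · exact Subgroup.index_eq_one.1 h1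
        · exact absurd h1.symm (Subgroup.index_strictAnti hlt).ne'
      exact ⟨g, (show g ∈ K by rw [htop]; exact Subgroup.mem_top _), rfl⟩
  · refine ⟨k, k.2, ?_⟩
    change H.map _ = H.map _
    rw [h]
    exact (congrArg Sylow.toSubgroup hk').symm

/-- In the alternating group of degree n ≥ 5 every subgroup H of odd index is pronormal: for every element g, the subgroups H and gHg⁻¹ are conjugate by an element of the subgroup they generate. -/
theorem result (n : ℕ) (hn : 5 ≤ n)
    (H : Subgroup (alternatingGroup (Fin n))) (hH : Odd H.index) : Cfsg.IsPronormal H := by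
  have : Fact (Nat.Prime 2) := ⟨Nat.prime_two⟩
  refine aux H hH fun R hR => ?_
  rcases Nat.lt_or_ge 5 n with h6 | h5
  · left
    exact (Cfsg.Agent.Involutions.AltSylowNormalizer.normalizer_le R
      (Cfsg.Agent.Involutions.AltSylowNormalizer.alt_eq_one
        (by rw [Fintype.card_fin]; omega) R)).trans hR
  · obtain rfl : n = 5 := by omega
    have hcard : Nat.card ↥(alternatingGroup (Fin 5)) = 60 := by
      rw [nat_card_alternatingGroup, Nat.card_fin]; rfl
    have hdvd : H.index ∈ Nat.divisors 60 :=
      Nat.mem_divisors.2 ⟨hcard ▸ H.index_dvd_card, by norm_num⟩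
    have hd : Nat.divisors 60 = {1, 2, 3, 4, 5, 6, 10, 12, 15, 20, 30, 60} := by decide
    rw [hd] at hdvd
    simp only [Finset.mem_insert, Finset.mem_singleton] at hdvd
    rw [Nat.odd_iff] at hH
    have hc : H.index = 1 ∨ H.index = 3 ∨ H.index = 5 ∨ H.index = 15 := by omega
    rcases hc with h | h | h | h
    · left; rw [Subgroup.index_eq_one.1 h]; exact le_top
    · right; left; rw [h]; norm_num
    · right; left; rw [h]; norm_num
    · right; right
      have h4 : Nat.card H = 2 ^ 2 := by
        have := H.index_mul_card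
        rw [h, hcard] at this
        omega
      exact R.3 (IsPGroup.of_card h4) hR


end Cfsg.Agent.S2222
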