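import Cfsg.Statements.S2225
import Cfsg.Agent.Lib.Classical.OddIndex.EvenSL
import Cfsg.Agent.Lib.Classical.OddIndex.SLTwo
import Cfsg.Agent.Lib.Classical.OddIndex.OddMain
-- import your own Cfsg.Agent.* helpers here

set_option autoImplicit false
open Cfsg

namespace Cfsg.Agent.S2225

/-- Let F be a finite field and d = 2^w ≥ 2 a power of 2 such that PSL_d(F) is simple. Then every subgroup H of PSL_d(F) of odd index is pronormal: for every g, H and gHg⁻¹ are conjugate by an element of the subgroup they generate. -/
theorem result {F : Type*} [Field F] [Fintype F]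
    (w : ℕ) (hw : 1 ≤ w) (hs : IsSimpleGroup (Matrix.ProjectiveSpecialLinearGroup (Fin (2 ^ w)) F))
    (H : Subgroup (Matrix.ProjectiveSpecialLinearGroup (Fin (2 ^ w)) F)) (hH : Odd H.index) : Cfsg.IsPronormal H := by
  classical
  obtain ⟨p, hp, n, hp', hcard⟩ := (FiniteField.card' F)
  rcases Nat.even_or_odd (Fintype.card F) with he | ho
  · have h2 : CharP F 2 := by
      have hp2 : p = 2 := by
        rw [hcard, Nat.even_pow] at he
        exact hp'.eq_two_or_odd'.resolve_right (Nat.not_odd_iff_even.2 he.1)
      exact hp2 ▸ hp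
    refine Classical.OddIndex.of_surjective (QuotientGroup.mk' _) (QuotientGroup.mk'_surjective _)
      (fun K _ hK => Classical.OddIndex.EvenSL.isPronormal h2 Nat.one_le_two_pow K hK) H hH
  · rcases Nat.lt_or_ge w 2 with hw2 | hw2
    · obtain rfl : w = 1 := by omega
      refine Classical.OddIndex.of_surjective (QuotientGroup.mk' _) (QuotientGroup.mk'_surjective _)
        (fun K hK hKodd => Classical.OddIndex.SLTwo.isPronormal ho K ?_ hKodd) H hH
      refine hK ?_
      rw [QuotientGroup.ker_mk']
      exact Subgroup.mem_center_iff.2 fun a => (Classical.OddIndex.SLTwo.negOne_comm a).symm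
    · exact Classical.OddIndex.OddMain.isPronormal_PSL ho w hw2 H hH

end Cfsg.Agent.S2225
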