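import Cfsg.Statements.S2226
import Cfsg.Agent.Lib.Classical.OddIndex.EvenSU
import Cfsg.Agent.Lib.Classical.OddIndex.OddMain
-- import your own Cfsg.Agent.* helpers here

set_option autoImplicit false
open Cfsg

namespace Cfsg.Agent.S2226

/-- Let F be a finite field with q² elements and d = 2^w ≥ 4 a power of 2 such that the unitary group PSU_d(q) (realised over F) is simple. Then every subgroup H of PSU_d(q) of odd index is pronormal: for every g, H and gHg⁻¹ are conjugate by an element of the subgroup they generate. -/
theorem result {F : Type*} [Field F] [Fintype F] (q : ℕ)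
    (hF : Fintype.card F = q ^ 2) (w : ℕ) (hw : 2 ≤ w) (hs : IsSimpleGroup (Cfsg.PSU (2 ^ w) F q))
    (H : Subgroup (Cfsg.PSU (2 ^ w) F q)) (hH : Odd H.index) : Cfsg.IsPronormal H := by
  classical
  obtain ⟨p, hp, n, hp', hcard⟩ := (FiniteField.card' F)
  rcases Nat.even_or_odd q with he | ho
  · have h2 : CharP F 2 := by
      have he' : Even (Fintype.card F) := by
        rw [hF, Nat.even_pow]
        exact ⟨he, two_ne_zero⟩
      rw [hcard, Nat.even_pow] at he'
      exact (hp'.eq_two_or_odd'.resolve_right (Nat.not_odd_iff_even.2 he'.1)) ▸ hp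
    exact Classical.OddIndex.EvenSU.isPronormal hF h2 ((Nat.even_pow).2 ⟨even_two, by omega⟩)
      Nat.one_le_two_pow H hH
  · exact Classical.OddIndex.OddMain.isPronormal_PSU hF ho w hw H hH

end Cfsg.Agent.S2226
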