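import Cfsg.Statements.S2231


set_option autoImplicit false
open Cfsg

namespace Cfsg.Agent.S2231

open Matrix

theorem two_dim_commute {F : Type*} [Field F] (g h : Matrix (Fin 2) (Fin 2) F) (hg : g.det = 1)
    (hh : h.det = 1) (v : Fin 2 → F) (hv : v ≠ 0) (hgv : g *ᵥ v = v) (hhv : h *ᵥ v = v) :
    g * h = h * g := by
  have e1 := congrFun hgv 0
  have e2 := congrFun hgv 1
  have e3 := congrFun hhv 0
  have e4 := congrFun hhv 1
  simp [Matrix.mulVec, dotProduct, Fin.sum_univ_two] at e1 e2 e3 e4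
  rw [det_fin_two] at hg hh
  by_cases h1 : v 1 = 0
  · have h0 : v 0 ≠ 0 := by
      intro h0
      exact hv (by ext i; fin_cases i <;> simp [h0, h1])
    simp [h1, h0] at e1 e2 e3 e4
    rw [e1, e2] at hg
    rw [e3, e4] at hh
    simp at hg hh
    ext i j
    fin_cases i <;> fin_cases j <;> simp [Matrix.mul_apply, Fin.sum_univ_two, e1, e2, e3, e4, hg, hh, add_comm, add_left_comm] <;> ring
  · -- normalise `v 1 = 1`
    obtain ⟨t, ht⟩ : ∃ t, v 0 = t * v 1 := ⟨v 0 / v 1, by field_simp⟩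
    rw [ht] at e1 e2 e3 e4
    have a1 : g 0 1 = t - g 0 0 * t := mul_right_cancel₀ h1 (by linear_combination e1)
    have a2 : g 1 1 = 1 - g 1 0 * t := mul_right_cancel₀ h1 (by linear_combination e2)
    have a3 : h 0 1 = t - h 0 0 * t := mul_right_cancel₀ h1 (by linear_combination e3)
    have a4 : h 1 1 = 1 - h 1 0 * t := mul_right_cancel₀ h1 (by linear_combination e4)
    rw [a1, a2] at hg
    rw [a3, a4] at hh
    have b1 : g 0 0 = 1 + g 1 0 * t := by linear_combination hg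
    have b2 : h 0 0 = 1 + h 1 0 * t := by linear_combination hh
    ext i j
    fin_cases i <;> fin_cases j <;>
      simp [Matrix.mul_apply, Fin.sum_univ_two, a1, a2, a3, a4, b1, b2] <;> ring

theorem sl2_pgroup_commute {p : ℕ} [Fact p.Prime] {K : Type*} [Field K] [Fintype K] [CharP K p]
    (P : Subgroup (Matrix.SpecialLinearGroup (Fin 2) K)) (hP : IsPGroup p P)
    (g h : Matrix.SpecialLinearGroup (Fin 2) K) (hg : g ∈ P) (hh : h ∈ P) : g * h = h * g := by
  let inst : MulAction ↥P (Fin 2 → K) :=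
    { smul := fun g v => (g : Matrix.SpecialLinearGroup (Fin 2) K).1 *ᵥ v
      one_smul := fun v => one_mulVec v
      mul_smul := fun a b v => (mulVec_mulVec v a.1.1 b.1.1).symm }
  have hfix : (0 : Fin 2 → K) ∈ MulAction.fixedPoints ↥P (Fin 2 → K) := fun a => mulVec_zero _
  have hdvd : p ∣ Nat.card (Fin 2 → K) := by
    rw [Nat.card_fun, Nat.card_eq_fintype_card, Nat.card_fin]
    obtain ⟨n, _, hn⟩ := FiniteField.card K p
    rw [hn, ← pow_mul]
    exact dvd_pow_self p (by have := n.pos; omega)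
  obtain ⟨v, hv, hv0⟩ := hP.exists_fixed_point_of_prime_dvd_card_of_fixed_point _ hdvd hfix
  exact Subtype.ext (two_dim_commute g.1 h.1 g.2 h.2 v hv0.symm (hv ⟨g, hg⟩) (hv ⟨h, hh⟩))

theorem psl2_sylow_commute {p : ℕ} [Fact p.Prime] {K : Type*} [Field K] [Fintype K] [CharP K p]
    (P : Sylow p (Matrix.ProjectiveSpecialLinearGroup (Fin 2) K))
    (a b : Matrix.ProjectiveSpecialLinearGroup (Fin 2) K) (ha : a ∈ P) (hb : b ∈ P) :
    a * b = b * a := by
  classical
  obtain ⟨Q, hQ⟩ := Sylow.mapSurjective_surjective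
    (QuotientGroup.mk'_surjective (Subgroup.center (Matrix.SpecialLinearGroup (Fin 2) K))) p P
  rw [← hQ] at ha hb
  obtain ⟨x, hx, rfl⟩ := ha
  obtain ⟨y, hy, rfl⟩ := hb
  rw [← map_mul, ← map_mul, sl2_pgroup_commute Q.1 Q.2 x y hx hy]

theorem section_abelian {p : ℕ} [Fact p.Prime] {K : Type*} [Field K] [Fintype K] [CharP K p]
    (A R : Subgroup (Matrix.ProjectiveSpecialLinearGroup (Fin 2) K)) [(R.subgroupOf A).Normal]
    (P : Sylow p (A ⧸ R.subgroupOf A)) (a b : A ⧸ R.subgroupOf A) (ha : a ∈ P) (hb : b ∈ P) :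
    a * b = b * a := by
  classical
  obtain ⟨Q, hQ⟩ := Sylow.mapSurjective_surjective (QuotientGroup.mk'_surjective (R.subgroupOf A)) p P
  rw [← hQ] at ha hb
  obtain ⟨x, hx, rfl⟩ := ha
  obtain ⟨y, hy, rfl⟩ := hb
  obtain ⟨S, hS⟩ := (Q.2.map A.subtype).exists_le_sylow
  have h := psl2_sylow_commute S x.1 y.1 (hS ⟨x, hx, rfl⟩) (hS ⟨y, hy, rfl⟩)
  rw [← map_mul, ← map_mul, show x * y = y * x from Subtype.ext h]

/-- upper unitriangular elementary matrices -/
def tv (p : ℕ) (i j : Fin 3) (h : i ≠ j) : Matrix.SpecialLinearGroup (Fin 3) (ZMod p) :=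
  ⟨Matrix.transvection i j 1, Matrix.det_transvection_of_ne i j h 1⟩

theorem tv_coe (p : ℕ) (i j : Fin 3) (h : i ≠ j) :
    (tv p i j h).1 = 1 + Matrix.single i j (1 : ZMod p) := rfl

theorem qd_pgroup {p : ℕ} [Fact p.Prime] : ∃ Q : Subgroup ↥(Cfsg.qd p), IsPGroup p Q ∧
    ∃ x ∈ Q, ∃ y ∈ Q, x * y ≠ y * x := by
  classical
  let U : Subgroup (Matrix.SpecialLinearGroup (Fin 3) (ZMod p)) :=
    Subgroup.closure {M | M.1 1 0 = 0 ∧ M.1 2 0 = 0 ∧ M.1 2 1 = 0 ∧
      M.1 0 0 = 1 ∧ M.1 1 1 = 1 ∧ M.1 2 2 = 1}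
  have hU : ∀ M ∈ U, M.1 1 0 = 0 ∧ M.1 2 0 = 0 ∧ M.1 2 1 = 0 ∧
      M.1 0 0 = 1 ∧ M.1 1 1 = 1 ∧ M.1 2 2 = 1 := by
    intro M hM
    induction hM using Subgroup.closure_induction'' with
    | mem x hx => exact hx
    | inv_mem x hx =>
      obtain ⟨h1, h2, h3, h4, h5, h6⟩ := hx
      rw [Matrix.SpecialLinearGroup.coe_inv, adjugate_fin_three]
      simp [h1, h2, h3, h4, h5, h6]
    | one => simp
    | mul a b _ _ ha hb =>
      obtain ⟨h1, h2, h3, h4, h5, h6⟩ := ha
      obtain ⟨k1, k2, k3, k4, k5, k6⟩ := hb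
      simp [Matrix.SpecialLinearGroup.coe_mul, Matrix.mul_apply, Fin.sum_univ_three,
        h1, h2, h3, h4, h5, h6, k1, k2, k3, k4, k5, k6]
  have hpU : IsPGroup p U := by
    intro M
    obtain ⟨h1, h2, h3, h4, h5, h6⟩ := hU M.1 M.2
    refine ⟨2, Subtype.ext (Subtype.ext ?_)⟩
    have hN : (M.1.1 - 1) ^ 3 = 0 := by
      ext i j
      simp only [pow_succ, pow_zero, one_mul, Matrix.mul_apply, Fin.sum_univ_three]
      fin_cases i <;> fin_cases j <;> simp [h1, h2, h3, h4, h5, h6]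
    have hle : 3 ≤ p ^ 2 := by
      have := (Fact.out : p.Prime).two_le
      nlinarith
    have : ExpChar (Matrix (Fin 3) (Fin 3) (ZMod p)) p := ExpChar.prime Fact.out
    have hz : (M.1.1 - 1) ^ (p ^ 2) = 0 := pow_eq_zero_of_le hle hN
    rw [sub_pow_expChar_pow_of_commute p 2 (Commute.one_right _), one_pow, sub_eq_zero] at hz
    simpa [SubgroupClass.coe_pow, Matrix.SpecialLinearGroup.coe_pow] using hz
  have ha : tv p 0 1 (by decide) ∈ Cfsg.qd p := Subgroup.subset_closure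
    ⟨by simp [tv_coe], by simp [tv_coe], by simp [tv_coe]⟩
  have hb : tv p 1 2 (by decide) ∈ Cfsg.qd p := Subgroup.subset_closure
    ⟨by simp [tv_coe], by simp [tv_coe], by simp [tv_coe]⟩
  refine ⟨U.subgroupOf (Cfsg.qd p), hpU.comap_of_injective _ Subtype.val_injective, ⟨_, ha⟩, ?_, ⟨_, hb⟩, ?_, ?_⟩
  · exact Subgroup.subset_closure (by simp [tv_coe])
  · exact Subgroup.subset_closure (by simp [tv_coe])
  · intro h
    have h1 := congrArg (fun M : ↥(Cfsg.qd p) => M.1.1 0 2) h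
    simp [tv_coe, Matrix.SpecialLinearGroup.coe_mul, Matrix.mul_apply, Fin.sum_univ_three] at h1


/-- Let p be an odd prime and K a finite field of characteristic p. Then Qd(p) (the natural semidirect product of an elementary abelian group of order p² by SL₂(p)) is not involved in the projective special linear group PSL₂(K). -/
theorem result {p : ℕ} [Fact p.Prime] (hp : p ≠ 2) {K : Type*} [Field K] [Fintype K] [CharP K p] : ¬ Cfsg.Involves ↥(Cfsg.qd p) (Matrix.ProjectiveSpecialLinearGroup (Fin 2) K) := by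
  classical
  rintro ⟨A, R, hR, ⟨e⟩⟩
  obtain ⟨Q, hQ, x, hxQ, y, hyQ, hxy⟩ := qd_pgroup (p := p)
  refine hxy ?_
  have hab := section_abelian (p := p) (K := K) A R
  have hQ' : IsPGroup p ↥(Q.map e.symm.toMonoidHom) := hQ.map _
  obtain ⟨P, hP⟩ := hQ'.exists_le_sylow
  apply e.symm.injective
  rw [map_mul, map_mul]
  exact hab P _ _ (hP ⟨x, hxQ, rfl⟩) (hP ⟨y, hyQ, rfl⟩)

end Cfsg.Agent.S2231
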