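import Cfsg.Statements.S2244
import Cfsg.Agent.SimpleFacts.ChevalleyWeaklyClosedTypes

set_option autoImplicit false
open Cfsg

namespace Cfsg.Agent.S2244

/-- Weakly closed unipotent subgroups of Chevalley groups: let G be the Chevalley group of type G₂, B₂, D₄, F₄, E₆, E₇ or E₈ over a finite field F (the matrix group generated by the root elements), with |F| ≠ 2, and |F| ≠ 3 as well for the types G₂, B₂, D₄, F₄. Let U be the subgroup generated by the positive root subgroups. If X ≤ U is weakly closed in U with respect to G (every G-conjugate of X lying in U equals X), then X is the unipotent radical U_J of a standard parabolic subgroup for some set J of fundamental roots. -/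
theorem result {F : Type*} [Field F] [Fintype F] (D : Cfsg.Lie.ChevalleyDatum) (hD : D ∈ [Cfsg.Lie.chevG2, Cfsg.Lie.chevB2, Cfsg.Lie.chevD4, Cfsg.Lie.chevF4, Cfsg.Lie.chevE6, Cfsg.Lie.chevE7, Cfsg.Lie.chevE8])
    (h2 : Fintype.card F ≠ 2) (h3 : D ∈ [Cfsg.Lie.chevG2, Cfsg.Lie.chevB2, Cfsg.Lie.chevD4, Cfsg.Lie.chevF4] → Fintype.card F ≠ 3)
    (X : Subgroup (GL D.Idx F)) (hXU : X ≤ D.posUnipotent F)
    (hwc : ∀ g ∈ D.group F, X.map (MulAut.conj g).toMonoidHom ≤ D.posUnipotent F → X.map (MulAut.conj g).toMonoidHom = X) :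
    ∃ J : Set ℕ, (∀ j ∈ J, j < D.rank) ∧ X = D.unipotentRadical F J := by
  obtain ⟨p, hch⟩ := CharP.exists F
  haveI : Fact p.Prime := ⟨(CharP.char_is_prime_or_zero F p).resolve_right (CharP.char_ne_zero_of_finite F p)⟩
  simp only [List.mem_cons, List.not_mem_nil, or_false] at hD h3
  rcases hD with rfl | rfl | rfl | rfl | rfl | rfl | rfl
  · have h4 : 4 ≤ Fintype.card F := by
      have := Fintype.one_lt_card (α := F)
      have := h3 (Or.inl rfl)
      omega
    obtain ⟨g, hg1, hg2⟩ := Cfsg.Agent.SimpleFacts.ChevalleyWeaklyClosedTypes.exists_units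
      (F := F) (by omega)
    exact Cfsg.Agent.SimpleFacts.ChevalleyWeaklyClosed.weakly_closed_eq_radical
      Cfsg.Agent.Chevalley.Types.G2.certified p Cfsg.Agent.Chevalley.Types.CoefG2.coef_ok
      (Cfsg.Agent.SimpleFacts.ChevalleyWeaklyClosedTypes.hgen_g2 h4)
      (Cfsg.Agent.SimpleFacts.ChevalleyWeaklyClosedTypes.hsep_of Cfsg.Agent.Chevalley.Types.G2.certified
        (strict := false) (by decide +kernel) hg1 fun _ => hg2 h4) X hXU hwc
  · exact Cfsg.Agent.SimpleFacts.ChevalleyWeaklyClosedTypes.main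
      Cfsg.Agent.Chevalley.Types.B2.certified p Cfsg.Agent.Chevalley.Types.CoefB2.coef_ok
      (by decide +kernel) (strict := false) (by decide +kernel) h2 (fun _ => h3 (Or.inr (Or.inl rfl))) X hXU hwc
  · exact Cfsg.Agent.SimpleFacts.ChevalleyWeaklyClosedTypes.main
      Cfsg.Agent.Chevalley.Types.D4.certified p Cfsg.Agent.Chevalley.Types.CoefD4.coef_ok
      (by decide +kernel) (strict := false) (by decide +kernel) h2 (fun _ => h3 (Or.inr (Or.inr (Or.inl rfl)))) X hXU hwc
  · exact Cfsg.Agent.SimpleFacts.ChevalleyWeaklyClosedTypes.main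
      Cfsg.Agent.Chevalley.Types.F4.certified p Cfsg.Agent.Chevalley.Types.CoefF4.coef_ok
      (by decide +kernel) (strict := false) (by decide +kernel) h2 (fun _ => h3 (Or.inr (Or.inr (Or.inr rfl)))) X hXU hwc
  · exact Cfsg.Agent.SimpleFacts.ChevalleyWeaklyClosedTypes.main
      Cfsg.Agent.Chevalley.Types.E6.certified p Cfsg.Agent.Chevalley.Types.CoefE6.coef_ok
      (by decide +kernel) (strict := true) (by decide +kernel) h2 (fun h => absurd h (by decide)) X hXU hwc
  · exact Cfsg.Agent.SimpleFacts.ChevalleyWeaklyClosedTypes.main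
      Cfsg.Agent.Chevalley.Types.E7.certified p Cfsg.Agent.Chevalley.Types.CoefE7.coef_ok
      (by decide +kernel) (strict := true) (by decide +kernel) h2 (fun h => absurd h (by decide)) X hXU hwc
  · exact Cfsg.Agent.SimpleFacts.ChevalleyWeaklyClosedTypes.main
      Cfsg.Agent.Chevalley.Types.E8.certified p Cfsg.Agent.Chevalley.Types.CoefE8.coef_ok
      (by decide +kernel) (strict := true) (by decide +kernel) h2 (fun h => absurd h (by decide)) X hXU hwc

end Cfsg.Agent.S2244
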