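import Cfsg.Statements.S2249
import Cfsg.Agent.Lib.Classical.NormalRank.Monomial
import Cfsg.Agent.Lib.Classical.NormalRank.Weights

set_option autoImplicit false
open Cfsg

namespace Cfsg.Agent.S2249

open Cfsg.Agent.Classical.NormalRank Cfsg.Agent.Classical.WreathSq

/-- the two-adic valuation of the order of `GL_k` -/
def gExp (a c k : ℕ) : ℕ := k / 2 * c + (k / 2).factorial.factorization 2 + k % 2 * a

theorem exp_GL {F : Type*} [Field F] [Fintype F] {q : ℕ} (hF : Fintype.card F = q) (hodd : Odd q)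
    (k : ℕ) : (Nat.card (GL (Fin k) F)).factorization 2 =
      gExp ((q - 1).factorization 2) ((q - 1).factorization 2 + (q ^ 2 - 1).factorization 2) k := by
  subst hF
  have h1 : 1 < Fintype.card F := Fintype.one_lt_card
  rw [Cfsg.Agent.Classical.Linear.natCard_GL_fin]
  rcases Nat.even_or_odd' k with ⟨j, rfl | rfl⟩
  · rw [(fac_GL hodd h1 j).1, gExp, Nat.mul_div_cancel_left _ two_pos, Nat.mul_mod_right]
    simp
  · rw [(fac_GL hodd h1 j).2, gExp, show (2 * j + 1) / 2 = j by omega,
      show (2 * j + 1) % 2 = 1 by omega, one_mul]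

theorem factorial_two (n : ℕ) :
    n.factorial.factorization 2 = n / 2 + (n / 2).factorial.factorization 2 := by
  haveI : Fact (Nat.Prime 2) := ⟨Nat.prime_two⟩
  rw [Nat.factorization_def _ Nat.prime_two, Nat.factorization_def _ Nat.prime_two]
  rcases Nat.even_or_odd' n with ⟨j, rfl | rfl⟩
  · rw [padicValNat_factorial_mul, Nat.mul_div_cancel_left _ two_pos]
    omega
  · rw [padicValNat_factorial_mul_add j (show 1 < 2 by norm_num), padicValNat_factorial_mul,
      show (2 * j + 1) / 2 = j by omega]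
    omega

theorem fac_factorial_le {a b c : ℕ} (h : a + b ≤ c) :
    a.factorial.factorization 2 + b.factorial.factorization 2 ≤ c.factorial.factorization 2 := by
  have hd : a.factorial * b.factorial ∣ c.factorial :=
    (Nat.factorial_mul_factorial_dvd_factorial_add a b).trans (Nat.factorial_dvd_factorial h)
  have := (Nat.factorization_le_iff_dvd (mul_ne_zero (Nat.factorial_ne_zero a) (Nat.factorial_ne_zero b))
    (Nat.factorial_ne_zero c)).2 hd 2
  rwa [Nat.factorization_mul (Nat.factorial_ne_zero a) (Nat.factorial_ne_zero b),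
    Finsupp.add_apply] at this

theorem exp_gap {c r w : ℕ} (hc : 4 ≤ c) (hr : 2 ≤ r) :
    r.factorial.factorization 2 + r + gExp 1 c w < gExp 1 c (r + w) := by
  rw [factorial_two, gExp, gExp]
  obtain ⟨d, hd, hd'⟩ : ∃ d, (r + w) / 2 = r / 2 + w / 2 + d ∧
      r % 2 + w % 2 = (r + w) % 2 + 2 * d := ⟨(r + w) / 2 - r / 2 - w / 2, by omega, by omega⟩
  have hf := fac_factorial_le (show r / 2 + w / 2 ≤ (r + w) / 2 by omega)
  have h1 : (r + w) / 2 * c = r / 2 * c + w / 2 * c + d * c := by rw [hd]; ring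
  have h2 : r / 2 * 4 ≤ r / 2 * c := Nat.mul_le_mul_left _ hc
  have h3 : d * 4 ≤ d * c := Nat.mul_le_mul_left _ hc
  omega

theorem q_facts {q : ℕ} (hodd : Odd q) (h1 : 1 < q) :
    (q % 4 = 3 → (q - 1).factorization 2 = 1) ∧ 3 ≤ (q ^ 2 - 1).factorization 2 ∧
    (q % 4 = 1 → (q ^ 2 - 1).factorization 2 = (q - 1).factorization 2 + 1) := by
  haveI : Fact (Nat.Prime 2) := ⟨Nat.prime_two⟩
  have hsq : q ^ 2 - 1 = (q + 1) * (q - 1) := by rw [← Nat.sq_sub_sq, one_pow]
  have hmul : (q ^ 2 - 1).factorization 2 = (q + 1).factorization 2 + (q - 1).factorization 2 := by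
    rw [hsq, Nat.factorization_mul (by omega) (by omega), Finsupp.add_apply]
  have hone : ∀ m : ℕ, m % 4 = 2 → m.factorization 2 = 1 := by
    intro m hm
    have : m = 2 * (m / 2) := by omega
    rw [this, Nat.factorization_mul two_ne_zero (by omega), Finsupp.add_apply,
      Nat.prime_two.factorization_self, Nat.factorization_eq_zero_of_not_dvd (n := m / 2) (by omega)]
  have htwo : ∀ m : ℕ, m ≠ 0 → 4 ∣ m → 2 ≤ m.factorization 2 := fun m hm h =>
    (Nat.prime_two.pow_dvd_iff_le_factorization hm).1 (by simpa using h)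
  obtain ⟨k, hk⟩ := hodd
  rcases Nat.even_or_odd k with ⟨j, hj⟩ | ⟨j, hj⟩
  · have := htwo (q - 1) (by omega) (by omega)
    have := hone (q + 1) (by omega)
    refine ⟨by omega, by omega, fun _ => by omega⟩
  · have := htwo (q + 1) (by omega) (by omega)
    have := hone (q - 1) (by omega)
    refine ⟨by omega, by omega, by omega⟩

theorem elem_of {G : Type*} [Group G] {E : Subgroup G} (hc : IsMulCommutative E)
    (hsq : ∀ x : E, x ^ 2 = 1) : Cfsg.IsElementaryAbelian 2 E := by
  exact ⟨hc, fun x hx => congrArg Subtype.val (hsq ⟨x, hx⟩)⟩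

/-- The natural action of a subgroup of `GL_n`. -/
noncomputable def natRep {F : Type*} [Field F] {n : ℕ} (S : Subgroup (GL (Fin n) F)) :
    S →* ((Fin n → F) ≃ₗ[F] (Fin n → F)) :=
  (LinearMap.GeneralLinearGroup.generalLinearEquiv F (Fin n → F)).toMonoidHom.comp
    (Matrix.GeneralLinearGroup.toLin.toMonoidHom.comp S.subtype)

theorem natRep_injective {F : Type*} [Field F] {n : ℕ} (S : Subgroup (GL (Fin n) F)) :
    Function.Injective (natRep S) :=
  fun _ _ h => Subtype.ext ((MulEquiv.injective Matrix.GeneralLinearGroup.toLin)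
    ((MulEquiv.injective (LinearMap.GeneralLinearGroup.generalLinearEquiv F (Fin n → F))) h))


/-- The normal 2-rank of the general linear group over a finite field of odd order q: for n ≥ 1 and S a Sylow 2-subgroup of GL_n(F), the largest rank of an elementary abelian subgroup of S that is normal in S equals n when q ≡ 1 (mod 4) and ⌊(n + 1)/2⌋ when q ≡ 3 (mod 4). -/
theorem result {F : Type*} [Field F] [Fintype F] {q : ℕ} (hF : Fintype.card F = q) (hodd : Odd q) (n : ℕ) (hn : 1 ≤ n) (S : Sylow 2 (Matrix.GeneralLinearGroup (Fin n) F)) :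
    (q % 4 = 1 → ((∃ E : Subgroup ↥(S : Subgroup (Matrix.GeneralLinearGroup (Fin n) F)), E.Normal ∧ Cfsg.IsElementaryAbelian 2 E ∧ 2 ^ (n) ≤ Nat.card ↥E) ∧
      ∀ E : Subgroup ↥(S : Subgroup (Matrix.GeneralLinearGroup (Fin n) F)), E.Normal → Cfsg.IsElementaryAbelian 2 E → Nat.card ↥E ≤ 2 ^ (n))) ∧
    (q % 4 = 3 → ((∃ E : Subgroup ↥(S : Subgroup (Matrix.GeneralLinearGroup (Fin n) F)), E.Normal ∧ Cfsg.IsElementaryAbelian 2 E ∧ 2 ^ ((n + 1) / 2) ≤ Nat.card ↥E) ∧
      ∀ E : Subgroup ↥(S : Subgroup (Matrix.GeneralLinearGroup (Fin n) F)), E.Normal → Cfsg.IsElementaryAbelian 2 E → Nat.card ↥E ≤ 2 ^ ((n + 1) / 2))) := by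
  classical
  have h1 : 1 < q := hF ▸ Fintype.one_lt_card
  have hodd' : Odd (Fintype.card F) := hF.symm ▸ hodd
  obtain ⟨ha3, hs3, ha1⟩ := q_facts hodd h1
  have hG : IsPGroup 2 (S : Subgroup (GL (Fin n) F)) := S.2
  have h2 : (2 : F) ≠ 0 := by
    intro h0
    have hd : ringChar F ∣ 2 := ringChar.dvd (by exact_mod_cast h0)
    have he := FiniteField.even_card_iff_char_two.1
      ((Nat.prime_dvd_prime_iff_eq (CharP.char_is_prime F (ringChar F)) Nat.prime_two).1 hd)
    exact Nat.not_even_iff_odd.2 hodd' (Nat.even_iff.2 he)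
  have hupper : ∀ E : Subgroup ↥(S : Subgroup (GL (Fin n) F)), E.Normal →
      Cfsg.IsElementaryAbelian 2 E →
      ∃ k : ℕ, Nat.card E ≤ 2 ^ k ∧ k ≤ n ∧ (q % 4 = 3 → k ≤ (n + 1) / 2) := by
    intro E hEn hE
    haveI : E.Normal := hEn
    haveI : IsMulCommutative E := hE.1
    have hsq : ∀ e : E, e ^ 2 = 1 := fun e => Subtype.ext (hE.2 _ e.2)
    haveI : Fintype E := Fintype.ofFinite _
    haveI : Finite (E →* ℤˣ) := Finite.of_injective _ DFunLike.coe_injective
    haveI : Fintype (E →* ℤˣ) := Fintype.ofFinite _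
    set ρ := natRep (S : Subgroup (GL (Fin n) F))
    have hρ := natRep_injective (S : Subgroup (GL (Fin n) F))
    set I := Finset.univ.filter fun l : E →* ℤˣ => space ρ E l ≠ ⊥ with hI
    set J := Finset.univ.filter fun l : E →* ℤˣ => Module.finrank F (space ρ E l) = 1 with hJ
    have hsum := finrank_eq_sum ρ E hG h2 hsq
    rw [Module.finrank_fin_fun, ← Finset.sum_filter_of_ne (p := fun l => space ρ E l ≠ ⊥)
      (fun l _ hl h => hl (by rw [h, finrank_bot])), ← hI] at hsum
    have hdim : 2 * I.card ≤ n + J.card := by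
      have : ∀ l ∈ I, 2 ≤ Module.finrank F (space ρ E l) + if l ∈ J then 1 else 0 := by
        intro l hl
        have hpos : Module.finrank F (space ρ E l) ≠ 0 := fun h =>
          (Finset.mem_filter.1 hl).2 (Submodule.finrank_eq_zero.1 h)
        by_cases hlJ : l ∈ J
        · rw [if_pos hlJ]; omega
        · rw [if_neg hlJ]
          have : Module.finrank F (space ρ E l) ≠ 1 := fun h =>
            hlJ (Finset.mem_filter.2 ⟨Finset.mem_univ _, h⟩)
          omega
      have := Finset.sum_le_sum this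
      rw [Finset.sum_const, smul_eq_mul, Finset.sum_add_distrib, Finset.sum_boole,
        Nat.cast_id] at this
      have hle : (I.filter fun l => l ∈ J).card ≤ J.card :=
        Finset.card_le_card fun l hl => (Finset.mem_filter.1 hl).2
      omega
    refine ⟨I.card, card_le_two_pow ρ E hG h2 hsq hρ, ?_, fun hq3 => ?_⟩
    · have := Finset.card_nsmul_le_sum I (fun l => Module.finrank F (space ρ E l)) 1 fun l hl =>
        Nat.one_le_iff_ne_zero.2 fun h => (Finset.mem_filter.1 hl).2 (Submodule.finrank_eq_zero.1 h)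
      simp only [smul_eq_mul, mul_one] at this
      omega
    · suffices J.card ≤ 1 by omega
      by_contra hJ2
      obtain ⟨r, w, hr, hrw, hdvd⟩ := lines_dvd ρ E hG h2 hsq hρ
      rw [← hJ] at hr
      rw [Module.finrank_fin_fun] at hrw
      have hgap := exp_gap (c := (q - 1).factorization 2 + (q ^ 2 - 1).factorization 2)
        (r := r) (w := w) (by rw [ha3 hq3]; omega) (by omega)
      rw [hrw] at hgap
      rw [S.card_eq_multiplicity] at hdvd
      rw [hF, Nat.card_congr (autGL (Module.finrank_fin_fun F)).toEquiv] at hdvd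
      have hne : (q - 1) ^ r * Nat.card (GL (Fin w) F) ≠ 0 :=
        mul_ne_zero (pow_ne_zero _ (by omega)) Nat.card_pos.ne'
      have hle := (Nat.prime_two.pow_dvd_iff_le_factorization
        (mul_ne_zero (Nat.factorial_ne_zero r) hne)).1 hdvd
      rw [Nat.factorization_mul (Nat.factorial_ne_zero r) hne,
        Nat.factorization_mul (pow_ne_zero _ (by omega : q - 1 ≠ 0)) Nat.card_pos.ne',
        Nat.factorization_pow] at hle
      simp only [Finsupp.add_apply, Finsupp.smul_apply, smul_eq_mul, exp_GL hF hodd, ha3 hq3,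
        mul_one] at hle hgap
      omega
  refine ⟨fun hq1 => ⟨?_, fun E hEn hE => ?_⟩, fun hq3 => ⟨?_, fun E hEn hE => ?_⟩⟩
  · obtain ⟨E, hEn, hc, hsq, hcard⟩ := exists_normal_signs hodd' (n := n) (d := 1) (h := n) (e := 0)
      le_rfl (by omega) zero_le_one (by
        rw [exp_GL hF hodd, exp_GL hF hodd, exp_GL hF hodd, factorial_two, ha1 hq1]
        simp only [gExp]
        norm_num
        rcases Nat.even_or_odd' n with ⟨j, rfl | rfl⟩
        · rw [Nat.mul_div_cancel_left _ two_pos, Nat.mul_mod_right]; ring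
        · rw [show (2 * j + 1) / 2 = j by omega, show (2 * j + 1) % 2 = 1 by omega]; ring) S
    exact ⟨E, hEn, elem_of hc hsq, by simpa using hcard⟩
  · obtain ⟨k, hk, hkn, -⟩ := hupper E hEn hE
    exact hk.trans (Nat.pow_le_pow_right two_pos hkn)
  · obtain ⟨E, hEn, hc, hsq, hcard⟩ := exists_normal_signs hodd' (n := n) (d := 2) (h := n / 2)
      (e := n % 2) one_le_two (by omega) (by omega) (by
        rw [exp_GL hF hodd, exp_GL hF hodd, exp_GL hF hodd]
        simp only [gExp]
        rcases Nat.even_or_odd' n with ⟨j, rfl | rfl⟩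
        · rw [Nat.mul_div_cancel_left _ two_pos, Nat.mul_mod_right]; norm_num
        · rw [show (2 * j + 1) / 2 = j by omega, show (2 * j + 1) % 2 = 1 by omega]; norm_num) S
    exact ⟨E, hEn, elem_of hc hsq, le_trans (Nat.pow_le_pow_right two_pos (by omega)) hcard⟩
  · obtain ⟨k, hk, -, hk3⟩ := hupper E hEn hE
    exact hk.trans (Nat.pow_le_pow_right two_pos (hk3 hq3))

end Cfsg.Agent.S2249
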