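import Cfsg.Statements.S2250
import Cfsg.Agent.Lib.Classical.SylowWreathSp
import Cfsg.Agent.S2234

set_option autoImplicit false
open Cfsg

namespace Cfsg.Agent.S2250

/-- The normal 2-rank of the symplectic group over a finite field of odd order: for n ≥ 1 and S a Sylow 2-subgroup of Sp_{2n}(F), the largest rank of an elementary abelian subgroup of S that is normal in S equals n. -/
theorem result {F : Type*} [Field F] [Fintype F] (hF : Odd (Fintype.card F)) (n : ℕ) (hn : 1 ≤ n) (S : Sylow 2 ↥(Matrix.symplecticGroup (Fin n) F)) :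
    ((∃ E : Subgroup ↥(S : Subgroup ↥(Matrix.symplecticGroup (Fin n) F)), E.Normal ∧ Cfsg.IsElementaryAbelian 2 E ∧ 2 ^ (n) ≤ Nat.card ↥E) ∧
      ∀ E : Subgroup ↥(S : Subgroup ↥(Matrix.symplecticGroup (Fin n) F)), E.Normal → Cfsg.IsElementaryAbelian 2 E → Nat.card ↥E ≤ 2 ^ (n)) := by
  classical
  open Classical.WreathSq Matrix in
  exact by
    obtain ⟨-, hle⟩ := Cfsg.Agent.S2234.result hF n hn
    refine ⟨?_, fun E _ hE => ?_⟩
    · obtain ⟨R⟩ : Nonempty (Sylow 2 (SpecialLinearGroup (Fin 2) F)) := inferInstance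
      obtain ⟨T⟩ : Nonempty (Sylow 2 (Equiv.Perm (Fin n))) := inferInstance
      obtain ⟨g⟩ := equiv_sylow spMono spMono_injective (spMono_card hF R T) S
      have h2 : (1 : F) ≠ -1 := by
        intro h
        obtain ⟨p, hp⟩ := CharP.exists F
        have h' : ((2 : ℕ) : F) = 0 := by push_cast; linear_combination h
        have := (CharP.cast_eq_zero_iff F p 2).1 h'
        have hp2 := (Nat.prime_dvd_prime_iff_eq (CharP.char_is_prime F p) Nat.prime_two).1 this
        subst hp2
        have := FiniteField.even_card_of_char_two (F := F) ((ringChar.eq F 2).symm ▸ rfl)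
        rw [Nat.odd_iff.1 hF] at this
        omega
      let z : ℤˣ →* SpecialLinearGroup (Fin 2) F :=
        { toFun := fun u => ⟨((u : ℤ) : F) • (1 : Matrix (Fin 2) (Fin 2) F), by
            rcases Int.units_eq_one_or u with rfl | rfl <;> simp [Matrix.det_fin_two]⟩
          map_one' := Subtype.ext (by simp)
          map_mul' := fun u v => Subtype.ext (by
            show (((u * v : ℤˣ) : ℤ) : F) • (1 : Matrix (Fin 2) (Fin 2) F) =
              (((u : ℤ) : F) • (1 : Matrix (Fin 2) (Fin 2) F)) * (((v : ℤ) : F) • 1)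
            simp [smul_smul, mul_comm]) }
      have hzc : ∀ u x, z u * x = x * z u := fun u x => Subtype.ext (by
        show ((u : ℤ) : F) • (1 : Matrix (Fin 2) (Fin 2) F) * _ = _ * (((u : ℤ) : F) • 1)
        simp)
      haveI : (z.range).Normal := ⟨fun a ha b => by
        obtain ⟨u, rfl⟩ := ha
        rw [← hzc, mul_assoc, mul_inv_cancel, mul_one]
        exact ⟨u, rfl⟩⟩
      have hzR : z.range ≤ (R : Subgroup (SpecialLinearGroup (Fin 2) F)) := by
        have hz : IsPGroup 2 z.range := by
          rintro ⟨a, u, rfl⟩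
          refine ⟨1, Subtype.ext ?_⟩
          show z u ^ 2 ^ 1 = 1
          rw [pow_one, ← map_pow, Int.units_sq, map_one]
        exact (R.is_maximal' (R.2.to_sup_of_normal_right hz) le_sup_left) ▸ le_sup_right
      let z' : ℤˣ →* (R : Subgroup (SpecialLinearGroup (Fin 2) F)) :=
        z.codRestrict _ fun u => hzR ⟨u, rfl⟩
      have hz'c : ∀ u x, z' u * x = x * z' u := fun u x => Subtype.ext (hzc u x.1)
      have hz' : Function.Injective z' := by
        intro u v h
        have h' := congrArg (fun a : (R : Subgroup (SpecialLinearGroup (Fin 2) F)) => a.1.1 0 0) h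
        change (((u : ℤ) : F) • (1 : Matrix (Fin 2) (Fin 2) F)) 0 0 =
          (((v : ℤ) : F) • (1 : Matrix (Fin 2) (Fin 2) F)) 0 0 at h'
        rcases Int.units_eq_one_or u with rfl | rfl <;> rcases Int.units_eq_one_or v with rfl | rfl <;>
          simp [h2, h2.symm] at h' ⊢
      let W := Wr (R : Subgroup (SpecialLinearGroup (Fin 2) F)) (Fin n) (T : Subgroup (Equiv.Perm (Fin n)))
      let ψ : (Fin n → ℤˣ) →* W := SemidirectProduct.inl.comp (MonoidHom.compLeft z' (Fin n))
      have hψ : Function.Injective ψ := SemidirectProduct.inl_injective.comp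
        (hz'.comp_left)
      have hψn : ψ.range.Normal := ⟨by
        rintro _ ⟨u, rfl⟩ w
        refine ⟨fun i => u ((w.right : Equiv.Perm (Fin n))⁻¹ i), ?_⟩
        rw [eq_mul_inv_iff_mul_eq]
        show SemidirectProduct.inl (fun i => z' (u ((w.right : Equiv.Perm (Fin n))⁻¹ i))) * w =
          w * SemidirectProduct.inl (fun i => z' (u i))
        refine SemidirectProduct.ext (funext fun i => ?_) ?_
        · rw [SemidirectProduct.mul_left, SemidirectProduct.mul_left, SemidirectProduct.left_inl,
            SemidirectProduct.left_inl, SemidirectProduct.right_inl, map_one]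
          exact hz'c _ _
        · rw [SemidirectProduct.mul_right, SemidirectProduct.mul_right, SemidirectProduct.right_inl,
            SemidirectProduct.right_inl, one_mul, mul_one]⟩
      refine ⟨ψ.range.map g.toMonoidHom, Subgroup.Normal.map hψn _ g.surjective,
        ⟨⟨⟨fun a b => ?_⟩⟩, ?_⟩, ?_⟩
      · obtain ⟨_, _, ⟨u, rfl⟩, rfl⟩ := a
        obtain ⟨_, _, ⟨v, rfl⟩, rfl⟩ := b
        refine Subtype.ext ?_
        show g (ψ u) * g (ψ v) = g (ψ v) * g (ψ u)
        rw [← map_mul, ← map_mul, ← map_mul, ← map_mul, mul_comm u v]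
      · rintro _ ⟨_, ⟨u, rfl⟩, rfl⟩
        have hu : u ^ 2 = 1 := funext fun i => Int.units_sq (u i)
        rw [← map_pow, ← map_pow, hu, map_one, map_one]
      · rw [Subgroup.card_map_of_injective g.injective, ← Nat.card_congr (MonoidHom.ofInjective hψ).toEquiv,
          Nat.card_fun, Nat.card_eq_fintype_card (α := ℤˣ), Fintype.card_units_int, Nat.card_fin]
    · rw [← Subgroup.card_map_of_injective (K := E) (Subgroup.subtype_injective _)]
      refine hle _ ?_ ?_
      · refine ⟨⟨fun a b => ?_⟩⟩
        obtain ⟨_, x, hx, rfl⟩ := a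
        obtain ⟨_, y, hy, rfl⟩ := b
        refine Subtype.ext ?_
        show (S : Subgroup (symplecticGroup (Fin n) F)).subtype x * _ = _ * _
        rw [← map_mul, ← map_mul]
        exact congrArg _ (congrArg Subtype.val (hE.1.is_comm.comm (⟨x, hx⟩ : E) ⟨y, hy⟩))
      · rintro _ ⟨x, hx, rfl⟩
        rw [← map_pow, hE.2 x hx, map_one]

end Cfsg.Agent.S2250
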