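import Cfsg.Statements.S2254
import Cfsg.Agent.SimpleFacts.NilpotentPerm

set_option autoImplicit false
open Cfsg

namespace Cfsg.Agent.S2254

open SimpleFacts.NilpotentBound SimpleFacts.NilpotentPerm


theorem nonempty_c3 : Nonempty (Multiplicative (ZMod 3) ≃* alternatingGroup (Fin 3)) := by
  haveI : Fact (Nat.Prime 3) := ⟨Nat.prime_three⟩
  refine ⟨mulEquivOfPrimeCardEq (p := 3) (by simp) ?_⟩
  have h := two_mul_card_alternatingGroup (α := Fin 3)
  rw [Fintype.card_perm, Fintype.card_fin] at h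
  rw [Nat.card_eq_fintype_card]
  have : (Nat.factorial 3) = 6 := rfl
  omega

/-- The gluing map. -/
def glue {k l n : ℕ} (e : Fin k ⊕ Fin l ≃ Fin n) :
    Equiv.Perm (Fin k) × Equiv.Perm (Fin l) →* Equiv.Perm (Fin n) :=
  e.permCongrHom.toMonoidHom.comp (Equiv.Perm.sumCongrHom (Fin k) (Fin l))

theorem glue_injective {k l n : ℕ} (e : Fin k ⊕ Fin l ≃ Fin n) : Function.Injective (glue e) :=
  e.permCongrHom.injective.comp Equiv.Perm.sumCongrHom_injective

theorem exists_prod {G H K : Type*} [Group G] [Group H] [Group K] [Finite G] {c : ℕ} (P : Subgroup G)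
    (hP : Group.IsNilpotent P) (hc : Nat.card P = c) (hH : Nat.card H = 3) (hHn : Group.IsNilpotent H)
    (f : G × H →* K) (hf : Function.Injective f) :
    ∃ M : Subgroup K, Group.IsNilpotent M ∧ Nat.card M = 3 * c ∧ Nonempty (M ≃* (P × H)) := by
  let φ : P × H →* K := f.comp (P.subtype.prodMap (MonoidHom.id H))
  have hφ : Function.Injective φ := hf.comp (Function.Injective.prodMap Subtype.val_injective Function.injective_id)
  haveI := hP
  haveI := hHn
  exact ⟨φ.range, Group.nilpotent_of_mulEquiv (MonoidHom.ofInjective hφ), by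
    rw [← Nat.card_congr (MonoidHom.ofInjective hφ).toEquiv, Nat.card_prod, hc, hH, mul_comm],
    ⟨(MonoidHom.ofInjective hφ).symm⟩⟩


/-- Let n ≡ 3 (mod 4). Then every nilpotent subgroup of the symmetric group on n letters has order at most 3 times the order of a Sylow 2-subgroup of the symmetric group on n − 3 letters; the bound is attained by a nilpotent subgroup isomorphic to the direct product of such a Sylow 2-subgroup with a cyclic group of order 3; and any two nilpotent subgroups attaining the bound are conjugate. -/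
theorem result  (n : ℕ) (hn : n % 4 = 3)
    (P : Sylow 2 (Equiv.Perm (Fin (n - 3)))) :
    (∀ N : Subgroup (Equiv.Perm (Fin n)), Group.IsNilpotent N → Nat.card N ≤ 3 * Nat.card P) ∧
    (∃ M : Subgroup (Equiv.Perm (Fin n)), Group.IsNilpotent M ∧ Nat.card M = 3 * Nat.card P ∧
      Nonempty (M ≃* (↥(P : Subgroup (Equiv.Perm (Fin (n - 3)))) × Multiplicative (ZMod 3)))) ∧
    (∀ N₁ N₂ : Subgroup (Equiv.Perm (Fin n)), Group.IsNilpotent N₁ → Group.IsNilpotent N₂ →
      Nat.card N₁ = 3 * Nat.card P → Nat.card N₂ = 3 * Nat.card P →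
      ∃ g : Equiv.Perm (Fin n), N₂ = N₁.map (MulAut.conj g).toMonoidHom) := by
  haveI : Fact (Nat.Prime 2) := ⟨Nat.prime_two⟩
  have hcard : 3 * Nat.card P = 3 * 2 ^ v2 (n - 3) := by rw [card_sylow_two, Fintype.card_fin]
  refine ⟨fun N hN => ?_, ?_, fun N₁ N₂ h1 h2 hc1 hc2 => ?_⟩
  · rw [hcard, ← bS_of_three hn]
    exact (card_le_aux n (Fin n) (Fintype.card_fin n) N hN).1
  · obtain ⟨c3⟩ := nonempty_c3
    refine exists_prod (P : Subgroup (Equiv.Perm (Fin (n - 3)))) P.isPGroup'.isNilpotent rfl (by simp)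
      inferInstance ((glue (finSumFinEquiv.trans (finCongr (show n - 3 + 3 = n by omega)))).comp
        ((MonoidHom.id _).prodMap ((alternatingGroup (Fin 3)).subtype.comp c3.toMonoidHom))) ?_
    exact (glue_injective _).comp (Function.Injective.prodMap Function.injective_id
      (Subtype.val_injective.comp c3.injective))
  · rw [hcard] at hc1 hc2
    obtain ⟨x₁, -, ox1, cx1, T₁, hT1, cT1, e1⟩ := split_three N₁ h1 hc1
    obtain ⟨x₂, -, ox2, cx2, T₂, hT2, cT2, e2⟩ := split_three N₂ h2 hc2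
    obtain ⟨t1, -⟩ := isThreeCycle_of_dvd hn ox1
      ((pow_dvd_pow 2 (Nat.sub_le _ _)).trans (cT1 ▸ Subgroup.card_dvd_of_le (hT1.trans cx1)))
    obtain ⟨t2, hC2⟩ := isThreeCycle_of_dvd hn ox2
      ((pow_dvd_pow 2 (Nat.sub_le _ _)).trans (cT2 ▸ Subgroup.card_dvd_of_le (hT2.trans cx2)))
    obtain ⟨g, hg⟩ := isConj_iff.1 (Equiv.Perm.isConj_iff_cycleType_eq.2 (t1.trans t2.symm))
    exact conj_of_centralizer e1 e2 (hT1.trans cx1) (hT2.trans cx2) cT1 cT2 (by
      rw [hC2, Nat.factorization_mul (by norm_num) (Nat.factorial_ne_zero _), Finsupp.add_apply,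
        Nat.factorization_eq_zero_of_not_dvd (by norm_num : ¬ 2 ∣ 3), zero_add,
        Nat.factorization_def _ Nat.prime_two]
      rfl) hg

end Cfsg.Agent.S2254
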