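import Cfsg.Statements.S2255
import Cfsg.Agent.SimpleFacts.NilpotentPerm

set_option autoImplicit false
open Cfsg

namespace Cfsg.Agent.S2255

open SimpleFacts.NilpotentBound SimpleFacts.NilpotentPerm


theorem map_nilpotent {G H : Type*} [Group G] [Group H] (f : G →* H) (hf : Function.Injective f)
    {N : Subgroup G} (hN : Group.IsNilpotent N) : Group.IsNilpotent (N.map f) :=
  haveI := hN
  Group.nilpotent_of_mulEquiv (N.equivMapOfInjective f hf)


/-- Let n be a natural number not congruent to 3 modulo 4, with n ∉ {5, 6, 9}. Then every nilpotent subgroup of the alternating group on n letters has order at most the order of a Sylow 2-subgroup of the alternating group (so the nilpotent subgroups of largest order are exactly the Sylow 2-subgroups). -/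
theorem result  (n : ℕ) (hn : n % 4 ≠ 3)
    (h5 : n ≠ 5) (h6 : n ≠ 6) (h9 : n ≠ 9)
    (N : Subgroup (alternatingGroup (Fin n))) (hN : Group.IsNilpotent N)
    (P : Sylow 2 (alternatingGroup (Fin n))) :
    Nat.card N ≤ Nat.card P := by
  rcases Nat.lt_or_ge n 2 with h2 | h2
  · haveI : Subsingleton (Fin n) := Fin.subsingleton_iff_le_one.2 (by omega)
    exact (Finite.card_le_one_iff_subsingleton.2 inferInstance).trans Nat.card_pos
  · haveI : Nontrivial (Fin n) := Fin.nontrivial_iff_two_le.2 h2
    have h := (card_le_aux n (Fin n) (Fintype.card_fin n) (N.map (alternatingGroup (Fin n)).subtype)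
      (map_nilpotent _ Subtype.val_injective hN)).2 (by
        rintro _ ⟨g, -, rfl⟩; exact g.2)
    have hP := two_mul_card_sylow_two P
    rw [Fintype.card_fin] at hP
    rw [Subgroup.card_map_of_injective Subtype.val_injective,
      bA_eq (by omega) (by omega) (by omega) h5 h6 h9, bS_of_mod hn, ← hP] at h
    omega

end Cfsg.Agent.S2255
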