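import Cfsg.Statements.S2256
import Cfsg.Agent.SimpleFacts.NilpotentPerm

set_option autoImplicit false
open Cfsg

namespace Cfsg.Agent.S2256

open SimpleFacts.NilpotentBound SimpleFacts.NilpotentPerm


theorem map_nilpotent {G H : Type*} [Group G] [Group H] (f : G →* H) (hf : Function.Injective f)
    {N : Subgroup G} (hN : Group.IsNilpotent N) : Group.IsNilpotent (N.map f) :=
  haveI := hN
  Group.nilpotent_of_mulEquiv (N.equivMapOfInjective f hf)


theorem nonempty_c3 : Nonempty (Multiplicative (ZMod 3) ≃* alternatingGroup (Fin 3)) := by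
  haveI : Fact (Nat.Prime 3) := ⟨Nat.prime_three⟩
  refine ⟨mulEquivOfPrimeCardEq (p := 3) (by simp) ?_⟩
  have h := two_mul_card_alternatingGroup (α := Fin 3)
  rw [Fintype.card_perm, Fintype.card_fin] at h
  rw [Nat.card_eq_fintype_card]
  have : (Nat.factorial 3) = 6 := rfl
  omega

/-- The gluing map. -/
def glue {k l n : ℕ} (e : Fin k ⊕ Fin l ≃ Fin n) :
    Equiv.Perm (Fin k) × Equiv.Perm (Fin l) →* Equiv.Perm (Fin n) :=
  e.permCongrHom.toMonoidHom.comp (Equiv.Perm.sumCongrHom (Fin k) (Fin l))

theorem glue_injective {k l n : ℕ} (e : Fin k ⊕ Fin l ≃ Fin n) : Function.Injective (glue e) :=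
  e.permCongrHom.injective.comp Equiv.Perm.sumCongrHom_injective

theorem exists_prod {G H K : Type*} [Group G] [Group H] [Group K] [Finite G] {c : ℕ} (P : Subgroup G)
    (hP : Group.IsNilpotent P) (hc : Nat.card P = c) (hH : Nat.card H = 3) (hHn : Group.IsNilpotent H)
    (f : G × H →* K) (hf : Function.Injective f) :
    ∃ M : Subgroup K, Group.IsNilpotent M ∧ Nat.card M = 3 * c ∧ Nonempty (M ≃* (P × H)) := by
  let φ : P × H →* K := f.comp (P.subtype.prodMap (MonoidHom.id H))
  have hφ : Function.Injective φ := hf.comp (Function.Injective.prodMap Subtype.val_injective Function.injective_id)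
  haveI := hP
  haveI := hHn
  exact ⟨φ.range, Group.nilpotent_of_mulEquiv (MonoidHom.ofInjective hφ), by
    rw [← Nat.card_congr (MonoidHom.ofInjective hφ).toEquiv, Nat.card_prod, hc, hH, mul_comm],
    ⟨(MonoidHom.ofInjective hφ).symm⟩⟩


/-- Let n ≡ 3 (mod 4) with n ≥ 7. Then every nilpotent subgroup of the alternating group on n letters has order at most 3 times the order of a Sylow 2-subgroup of the alternating group on n − 3 letters; the bound is attained by a nilpotent subgroup isomorphic to the direct product of such a Sylow 2-subgroup with a cyclic group of order 3; and any two nilpotent subgroups of the alternating group attaining the bound are conjugate in it. -/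
theorem result  (n : ℕ) (hn : n % 4 = 3) (h7 : 7 ≤ n)
    (P : Sylow 2 (alternatingGroup (Fin (n - 3)))) :
    (∀ N : Subgroup (alternatingGroup (Fin n)), Group.IsNilpotent N → Nat.card N ≤ 3 * Nat.card P) ∧
    (∃ M : Subgroup (alternatingGroup (Fin n)), Group.IsNilpotent M ∧ Nat.card M = 3 * Nat.card P ∧
      Nonempty (M ≃* (↥(P : Subgroup (alternatingGroup (Fin (n - 3)))) × Multiplicative (ZMod 3)))) ∧
    (∀ N₁ N₂ : Subgroup (alternatingGroup (Fin n)), Group.IsNilpotent N₁ → Group.IsNilpotent N₂ →
      Nat.card N₁ = 3 * Nat.card P → Nat.card N₂ = 3 * Nat.card P →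
      ∃ g : alternatingGroup (Fin n), N₂ = N₁.map (MulAut.conj g).toMonoidHom) := by
  haveI : Fact (Nat.Prime 2) := ⟨Nat.prime_two⟩
  haveI : Nontrivial (Fin (n - 3)) := Fin.nontrivial_iff_two_le.2 (by omega)
  haveI : Nontrivial (Fin n) := Fin.nontrivial_iff_two_le.2 (by omega)
  have hP : 2 * Nat.card P = 2 ^ v2 (n - 3) := by rw [two_mul_card_sylow_two, Fintype.card_fin]
  obtain ⟨e, he⟩ : ∃ e, v2 (n - 3) = e + 1 := by
    refine ⟨v2 (n - 3) - 1, ?_⟩
    have := v2_mono (show 2 ≤ n - 3 by omega)
    rw [v2_two] at this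
    omega
  have hPe : Nat.card P = 2 ^ e := by rw [he, pow_succ] at hP; omega
  refine ⟨fun N hN => ?_, ?_, fun N₁ N₂ h1 h2 hc1 hc2 => ?_⟩
  · have h := (card_le_aux n (Fin n) (Fintype.card_fin n) (N.map (alternatingGroup (Fin n)).subtype)
      (map_nilpotent _ Subtype.val_injective hN)).2 (by rintro _ ⟨g, -, rfl⟩; exact g.2)
    rw [Subgroup.card_map_of_injective Subtype.val_injective,
      bA_eq (by omega) (by omega) (by omega) (by omega) (by omega) (by omega), bS_of_three hn, ← hP] at h
    omega
  · obtain ⟨c3⟩ := nonempty_c3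
    let ψ : alternatingGroup (Fin (n - 3)) × Multiplicative (ZMod 3) →* Equiv.Perm (Fin n) :=
      (glue (finSumFinEquiv.trans (finCongr (show n - 3 + 3 = n by omega)))).comp
        ((alternatingGroup (Fin (n - 3))).subtype.prodMap
          ((alternatingGroup (Fin 3)).subtype.comp c3.toMonoidHom))
    have hψ : ∀ u, ψ u ∈ alternatingGroup (Fin n) := fun u => by
      rw [Equiv.Perm.mem_alternatingGroup]
      show Equiv.Perm.sign ((finSumFinEquiv.trans (finCongr _)).permCongr (Equiv.Perm.sumCongr _ _)) = 1
      rw [Equiv.Perm.sign_permCongr, Equiv.Perm.sign_sumCongr]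
      show Equiv.Perm.sign (u.1 : Equiv.Perm (Fin (n - 3))) * Equiv.Perm.sign (c3 u.2 : Equiv.Perm (Fin 3)) = 1
      rw [Equiv.Perm.mem_alternatingGroup.1 u.1.2, Equiv.Perm.mem_alternatingGroup.1 (c3 u.2).2, one_mul]
    refine exists_prod (P : Subgroup (alternatingGroup (Fin (n - 3)))) P.isPGroup'.isNilpotent rfl (by simp)
      inferInstance (ψ.codRestrict _ hψ) fun u v huv => ?_
    exact ((glue_injective _).comp (Function.Injective.prodMap Subtype.val_injective
      (Subtype.val_injective.comp c3.injective))) (congrArg Subtype.val huv)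
  · rw [hPe] at hc1 hc2
    obtain ⟨x₁, -, ox1, cx1, T₁, hT1, cT1, e1⟩ := split_three N₁ h1 hc1
    obtain ⟨x₂, -, ox2, cx2, T₂, hT2, cT2, e2⟩ := split_three N₂ h2 hc2
    have key : ∀ (x : alternatingGroup (Fin n)) (T : Subgroup (alternatingGroup (Fin n))),
        orderOf x = 3 → T ≤ Subgroup.centralizer ({x} : Set (alternatingGroup (Fin n))) →
        Nat.card T = 2 ^ e → (x : Equiv.Perm (Fin n)).IsThreeCycle ∧
          (Nat.card (Subgroup.centralizer ({x} : Set (alternatingGroup (Fin n))))).factorization 2 = e := by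
      intro x T ox hT cT
      set C := Subgroup.centralizer ({(x : Equiv.Perm (Fin n))} : Set (Equiv.Perm (Fin n))) with hC
      have hmap : (Subgroup.centralizer ({x} : Set (alternatingGroup (Fin n)))).map
          (alternatingGroup (Fin n)).subtype = C ⊓ alternatingGroup (Fin n) := by
        ext g
        constructor
        · rintro ⟨y, hy, rfl⟩
          exact ⟨Subgroup.mem_centralizer_singleton_iff.2
            (congrArg Subtype.val (Subgroup.mem_centralizer_singleton_iff.1 hy)), y.2⟩
        · rintro ⟨hg, hgA⟩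
          exact ⟨⟨g, hgA⟩, Subgroup.mem_centralizer_singleton_iff.2
            (Subtype.ext (Subgroup.mem_centralizer_singleton_iff.1 hg)), rfl⟩
      have hcC := congrArg (fun H : Subgroup (Equiv.Perm (Fin n)) => Nat.card H) hmap
      simp only [Subgroup.card_map_of_injective (alternatingGroup (Fin n)).subtype_injective] at hcC
      obtain ⟨t, hC3⟩ := isThreeCycle_of_dvd hn ((Subgroup.orderOf_coe x).trans ox) (by
        rw [he, Nat.add_sub_cancel, ← cT]
        exact (Subgroup.card_dvd_of_le hT).trans (hcC ▸ Subgroup.card_dvd_of_le inf_le_left))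
      refine ⟨t, ?_⟩
      obtain ⟨a, ha, b, hb, hab⟩ : ∃ a ∈ (x : Equiv.Perm (Fin n)).supportᶜ,
          ∃ b ∈ (x : Equiv.Perm (Fin n)).supportᶜ, a ≠ b :=
        Finset.one_lt_card.1 (by rw [Finset.card_compl, t.card_support, Fintype.card_fin]; omega)
      have hswap : Equiv.swap a b ∈ C := by
        refine Subgroup.mem_centralizer_singleton_iff.2 (Equiv.Perm.Disjoint.commute ?_).eq
        rw [Equiv.Perm.disjoint_iff_disjoint_support, Equiv.Perm.support_swap hab]
        simp only [Finset.mem_compl, Equiv.Perm.mem_support, not_not] at ha hb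
        simp [Finset.disjoint_left, ha, hb]
      let s : C →* ℤˣ := Equiv.Perm.sign.comp C.subtype
      have hs : Function.Surjective s := fun u => by
        rcases Int.units_eq_one_or u with rfl | rfl
        · exact ⟨1, map_one s⟩
        · exact ⟨⟨_, hswap⟩, Equiv.Perm.sign_swap hab⟩
      have h2C := s.ker.card_mul_index
      rw [Subgroup.index_ker, MonoidHom.range_eq_top.2 hs, Subgroup.card_top,
        show Nat.card ℤˣ = 2 by rw [Nat.card_eq_fintype_card]; rfl,
        show s.ker = (C ⊓ alternatingGroup (Fin n)).subgroupOf C by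
          ext g; simp [s, MonoidHom.mem_ker, Subgroup.mem_subgroupOf],
        Nat.card_congr (Subgroup.subgroupOfEquivOfLe inf_le_left).toEquiv, ← hcC, hC3] at h2C
      have hf := congrArg (fun m => m.factorization 2) h2C
      simp only [Nat.factorization_mul Nat.card_pos.ne' two_ne_zero,
        Nat.factorization_mul (show (3 : ℕ) ≠ 0 by norm_num) (Nat.factorial_ne_zero _),
        Finsupp.add_apply, Nat.factorization_eq_zero_of_not_dvd (by norm_num : ¬ 2 ∣ 3),
        Nat.Prime.factorization_self Nat.prime_two, zero_add,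
        Nat.factorization_def _ Nat.prime_two] at hf
      unfold v2 at he
      rw [Nat.factorization_def _ Nat.prime_two]
      omega
    obtain ⟨t1, -⟩ := key x₁ T₁ ox1 (hT1.trans cx1) cT1
    obtain ⟨t2, hC2⟩ := key x₂ T₂ ox2 (hT2.trans cx2) cT2
    obtain ⟨g, hg⟩ := isConj_iff.1 (alternatingGroup.isThreeCycle_isConj
      (by rw [Nat.card_fin]; omega) t1 t2)
    exact conj_of_centralizer e1 e2 (hT1.trans cx1) (hT2.trans cx2) cT1 cT2 hC2 hg

end Cfsg.Agent.S2256
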