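import Cfsg.Statements.S2257
import Mathlib
import Cfsg.Agent.Lib.Forms.SolubilizerPSL2.Inst
-- import your own Cfsg.Agent.* helpers here

set_option autoImplicit false
open Cfsg

namespace Cfsg.Agent.S2257

/-- Let G = PSL_2(F) with F a field of order q = 2^p, p prime, and for x ∈ G call the solubilizer of x the set of y ∈ G such that x and y generate a solvable subgroup. Then the solubilizer of an involution has 3q(q − 1) elements; that of a non-identity element of order dividing q − 1 has 2q(q − 1) elements; and that of a non-identity element of order dividing q + 1 has 2(q + 1) elements. -/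
theorem result (p : ℕ) (hp : p.Prime) {F : Type*} [Field F] [Fintype F]
    (hF : Fintype.card F = 2 ^ p) (x : Matrix.ProjectiveSpecialLinearGroup (Fin 2) F) :
    (orderOf x = 2 → Nat.card {y : Matrix.ProjectiveSpecialLinearGroup (Fin 2) F // Group.IsSolvable ↥(Subgroup.closure ({x, y} : Set (Matrix.ProjectiveSpecialLinearGroup (Fin 2) F)))} = 3 * 2 ^ p * (2 ^ p - 1)) ∧
    (x ≠ 1 → orderOf x ∣ 2 ^ p - 1 → Nat.card {y : Matrix.ProjectiveSpecialLinearGroup (Fin 2) F // Group.IsSolvable ↥(Subgroup.closure ({x, y} : Set (Matrix.ProjectiveSpecialLinearGroup (Fin 2) F)))} = 2 * 2 ^ p * (2 ^ p - 1)) ∧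
    (x ≠ 1 → orderOf x ∣ 2 ^ p + 1 → Nat.card {y : Matrix.ProjectiveSpecialLinearGroup (Fin 2) F // Group.IsSolvable ↥(Subgroup.closure ({x, y} : Set (Matrix.ProjectiveSpecialLinearGroup (Fin 2) F)))} = 2 * (2 ^ p + 1)) := by
  haveI : Fact (Nat.Prime 2) := ⟨Nat.prime_two⟩
  haveI : CharP F 2 := by
    haveI := ringChar.charP F
    obtain ⟨n, hprime, hn⟩ := FiniteField.card F (ringChar F)
    have h2 : ringChar F = 2 := by
      refine (Nat.prime_dvd_prime_iff_eq hprime Nat.prime_two).1 (hprime.dvd_of_dvd_pow (m := 2) (n := p) ?_)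
      rw [← hF, hn]
      exact dvd_pow_self _ n.ne_zero
    exact h2 ▸ ringChar.charP F
  have hd : Nat.gcd 2 (Fintype.card F - 1) = 1 := by
    rw [hF]
    refine (Nat.coprime_two_left.2 ?_)
    obtain ⟨k, rfl⟩ : ∃ k, p = k + 1 := ⟨p - 1, by have := hp.one_lt; omega⟩
    rw [Nat.odd_iff, pow_succ]
    have := Nat.two_pow_pos k
    omega
  have hD := Forms.SolubilizerPSL2.data 2 hF hp.ne_zero hd
  have hodd : ∀ m, m ∣ 2 ^ p - 1 ∨ m ∣ 2 ^ p + 1 → ¬ 2 ∣ m := by
    intro m hm h2
    obtain ⟨k, hk⟩ : ∃ k, 2 ^ p = 2 * k := dvd_pow_self 2 hp.ne_zero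
    have hpos := Nat.two_pow_pos p
    rcases hm with hm | hm <;> · have := h2.trans hm; omega
  have hno : (2 : ℕ) ≠ 2 → ∀ V : Subgroup (Matrix.ProjectiveSpecialLinearGroup (Fin 2) F),
      IsKleinFour V → x ∉ Subgroup.normalizer (V : Set _) := fun h => absurd rfl h
  have hx2 : x ≠ 1 → ¬ 2 ∣ orderOf x → x * x ≠ 1 := fun h1 h2 e =>
    h2 (dvd_of_eq (orderOf_eq_prime (by rw [pow_two, e]) h1).symm)
  have hco : Nat.card {y : Matrix.ProjectiveSpecialLinearGroup (Fin 2) F // Group.IsSolvable ↥(Subgroup.closure ({x, y} : Set (Matrix.ProjectiveSpecialLinearGroup (Fin 2) F)))} = (Forms.SolubilizerPSL2.sol x).ncard :=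
    Nat.card_coe_set_eq (Forms.SolubilizerPSL2.sol x)
  rw [hco]
  refine ⟨fun h => Forms.SolubilizerPSL2.ncard_sol_even hD rfl rfl h, fun h1 h => ?_, fun h1 h => ?_⟩
  · have := Forms.SolubilizerPSL2.ncard_sol_split hD (hx2 h1 (hodd _ (Or.inl h))) h hno
    rw [one_mul] at this
    rw [this, mul_assoc]
  · have := Forms.SolubilizerPSL2.ncard_sol_nonsplit hD (hx2 h1 (hodd _ (Or.inr h))) h hno
    rwa [one_mul] at this

end Cfsg.Agent.S2257
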