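import Cfsg.Statements.S2258
import Mathlib
import Cfsg.Agent.Lib.Forms.SolubilizerPSL2.Inst
-- import your own Cfsg.Agent.* helpers here

set_option autoImplicit false
open Cfsg

namespace Cfsg.Agent.S2258

/-- Let G = PSL_2(F) with F a field of order q = 3^p, p an odd prime, and for x ∈ G call the solubilizer of x the set of y ∈ G such that x and y generate a solvable subgroup. Then the solubilizer of an involution has q(q + 1) elements; that of an element of order 3 has q(q + 5)/2 elements; that of an element of order neither 1 nor 2 dividing q − 1 has q(q − 1) elements; and that of an element of order neither 1 nor 2 dividing q + 1 has q + 1 elements. -/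
theorem result (p : ℕ) (hp : p.Prime) (hodd : Odd p) {F : Type*} [Field F] [Fintype F]
    (hF : Fintype.card F = 3 ^ p) (x : Matrix.ProjectiveSpecialLinearGroup (Fin 2) F) :
    (orderOf x = 2 → Nat.card {y : Matrix.ProjectiveSpecialLinearGroup (Fin 2) F // Group.IsSolvable ↥(Subgroup.closure ({x, y} : Set (Matrix.ProjectiveSpecialLinearGroup (Fin 2) F)))} = 3 ^ p * (3 ^ p + 1)) ∧
    (orderOf x = 3 → 2 * Nat.card {y : Matrix.ProjectiveSpecialLinearGroup (Fin 2) F // Group.IsSolvable ↥(Subgroup.closure ({x, y} : Set (Matrix.ProjectiveSpecialLinearGroup (Fin 2) F)))} = 3 ^ p * (3 ^ p + 5)) ∧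
    (x ≠ 1 → orderOf x ≠ 2 → orderOf x ∣ 3 ^ p - 1 → Nat.card {y : Matrix.ProjectiveSpecialLinearGroup (Fin 2) F // Group.IsSolvable ↥(Subgroup.closure ({x, y} : Set (Matrix.ProjectiveSpecialLinearGroup (Fin 2) F)))} = 3 ^ p * (3 ^ p - 1)) ∧
    (x ≠ 1 → orderOf x ≠ 2 → orderOf x ∣ 3 ^ p + 1 → Nat.card {y : Matrix.ProjectiveSpecialLinearGroup (Fin 2) F // Group.IsSolvable ↥(Subgroup.closure ({x, y} : Set (Matrix.ProjectiveSpecialLinearGroup (Fin 2) F)))} = 3 ^ p + 1) := by
  haveI : Fact (Nat.Prime 3) := ⟨Nat.prime_three⟩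
  haveI : CharP F 3 := by
    haveI := ringChar.charP F
    obtain ⟨n, hprime, hn⟩ := FiniteField.card F (ringChar F)
    have h2 : ringChar F = 3 := by
      refine (Nat.prime_dvd_prime_iff_eq hprime Nat.prime_three).1 (hprime.dvd_of_dvd_pow (m := 3) (n := p) ?_)
      rw [← hF, hn]
      exact dvd_pow_self _ n.ne_zero
    exact h2 ▸ ringChar.charP F
  have hq8 : 3 ^ p % 8 = 3 := by
    obtain ⟨k, rfl⟩ := hodd
    rw [pow_succ, pow_mul, Nat.mul_mod, Nat.pow_mod]
    norm_num
  have hd : Nat.gcd 2 (Fintype.card F - 1) = 2 := Nat.gcd_eq_left (by rw [hF]; omega)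
  have hD := Forms.SolubilizerPSL2.data 3 hF hp.ne_zero hd
  obtain ⟨hN, hK⟩ := Forms.SolubilizerPSL2.klein_facts (F := F) (by rw [hF]; exact hq8)
  have hco : Nat.card {y : Matrix.ProjectiveSpecialLinearGroup (Fin 2) F // Group.IsSolvable ↥(Subgroup.closure ({x, y} : Set (Matrix.ProjectiveSpecialLinearGroup (Fin 2) F)))} = (Forms.SolubilizerPSL2.sol x).ncard :=
    Nat.card_coe_set_eq (Forms.SolubilizerPSL2.sol x)
  have hx2 : x ≠ 1 → orderOf x ≠ 2 → x * x ≠ 1 := fun h1 h2 e =>
    h2 (orderOf_eq_prime (by rw [pow_two, e]) h1)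
  rw [hco]
  refine ⟨fun h => Forms.SolubilizerPSL2.ncard_sol_invol hD hq8 hN h,
    fun h => Forms.SolubilizerPSL2.ncard_sol_three hD hq8 hN hK h, fun h1 h2 h => ?_, fun h1 h2 h => ?_⟩
  · have := Forms.SolubilizerPSL2.ncard_sol_split hD (hx2 h1 h2) h
      (Forms.SolubilizerPSL2.notMem_normalizer hD hN (hx2 h1 h2)
        (Forms.SolubilizerPSL2.orderOf_ne_p hD (Or.inl h)))
    omega
  · have := Forms.SolubilizerPSL2.ncard_sol_nonsplit hD (hx2 h1 h2) h
      (Forms.SolubilizerPSL2.notMem_normalizer hD hN (hx2 h1 h2)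
        (Forms.SolubilizerPSL2.orderOf_ne_p hD (Or.inr h)))
    omega

end Cfsg.Agent.S2258
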