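import Cfsg.Statements.S2259
import Cfsg.Agent.Lib.Suzuki.Solubilizer

-- import your own Cfsg.Agent.* helpers here

set_option autoImplicit false
open Cfsg

namespace Cfsg.Agent.S2259

/-- Let G be the Suzuki group Sz(q), q = 2^(2m+1) with 2m + 1 prime and m ≥ 1, realised inside Sp_4(F) for F the field of order q, write r = 2^(m+1) (so r² = 2q), and for x ∈ G call the solubilizer of x the set of y ∈ G such that x and y generate a solvable subgroup. Then the solubilizer of an involution has q²(4q − 3) elements; that of an element of order 4 has q²(q + 3) elements; that of a non-identity element of order dividing q − 1 has 2q²(q − 1) elements; that of a non-identity element of order dividing q + r + 1 has 4(q + r + 1) elements; and that of a non-identity element of order dividing q − r + 1 has 4(q − r + 1) elements. -/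
theorem result {F : Type*} [Field F] [Fintype F] {m : ℕ} (hm : 1 ≤ m)
    (hp : (2 * m + 1).Prime) (hF : Fintype.card F = 2 ^ (2 * m + 1)) (x : ↥(Cfsg.Lie.Sz F (2 ^ (m + 1)))) :
    (orderOf x = 2 → Nat.card {y : ↥(Cfsg.Lie.Sz F (2 ^ (m + 1))) // Group.IsSolvable ↥(Subgroup.closure ({x, y} : Set (↥(Cfsg.Lie.Sz F (2 ^ (m + 1))))))} = (2 ^ (2 * m + 1)) ^ 2 * (4 * 2 ^ (2 * m + 1) - 3)) ∧
    (orderOf x = 4 → Nat.card {y : ↥(Cfsg.Lie.Sz F (2 ^ (m + 1))) // Group.IsSolvable ↥(Subgroup.closure ({x, y} : Set (↥(Cfsg.Lie.Sz F (2 ^ (m + 1))))))} = (2 ^ (2 * m + 1)) ^ 2 * (2 ^ (2 * m + 1) + 3)) ∧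
    (x ≠ 1 → orderOf x ∣ 2 ^ (2 * m + 1) - 1 →
      Nat.card {y : ↥(Cfsg.Lie.Sz F (2 ^ (m + 1))) // Group.IsSolvable ↥(Subgroup.closure ({x, y} : Set (↥(Cfsg.Lie.Sz F (2 ^ (m + 1))))))} = 2 * (2 ^ (2 * m + 1)) ^ 2 * (2 ^ (2 * m + 1) - 1)) ∧
    (x ≠ 1 → orderOf x ∣ 2 ^ (2 * m + 1) + 2 ^ (m + 1) + 1 → Nat.card {y : ↥(Cfsg.Lie.Sz F (2 ^ (m + 1))) // Group.IsSolvable ↥(Subgroup.closure ({x, y} : Set (↥(Cfsg.Lie.Sz F (2 ^ (m + 1))))))} = 4 * (2 ^ (2 * m + 1) + 2 ^ (m + 1) + 1)) ∧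
    (x ≠ 1 → orderOf x ∣ 2 ^ (2 * m + 1) - 2 ^ (m + 1) + 1 → Nat.card {y : ↥(Cfsg.Lie.Sz F (2 ^ (m + 1))) // Group.IsSolvable ↥(Subgroup.closure ({x, y} : Set (↥(Cfsg.Lie.Sz F (2 ^ (m + 1))))))} = 4 * (2 ^ (2 * m + 1) - 2 ^ (m + 1) + 1)) := by
  haveI := Cfsg.Agent.Suzuki.charTwo hF
  let ε : Cfsg.Sz F m ≃* Cfsg.Lie.Sz F (2 ^ (m + 1)) := (Cfsg.Agent.Suzuki.lieEquiv hm hF).some
  obtain ⟨x, rfl⟩ := ε.surjective x
  have hcard : Nat.card {y : ↥(Cfsg.Lie.Sz F (2 ^ (m + 1))) // Group.IsSolvable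
      ↥(Subgroup.closure ({ε x, y} : Set (↥(Cfsg.Lie.Sz F (2 ^ (m + 1))))))} =
      (Cfsg.Agent.Suzuki.sol x).ncard := by
    rw [← Nat.card_coe_set_eq]
    refine (Nat.card_congr (ε.toEquiv.subtypeEquiv fun y => ?_)).symm
    show Group.IsSolvable (Subgroup.closure ({x, y} : Set (Cfsg.Sz F m))) ↔
      Group.IsSolvable (Subgroup.closure ({ε x, ε y} : Set _))
    rw [← Set.image_pair, ← MulEquiv.coe_toMonoidHom, ← MonoidHom.map_closure]
    let e' := (Subgroup.closure ({x, y} : Set (Cfsg.Sz F m))).equivMapOfInjective ε.toMonoidHom ε.injective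
    exact ⟨fun h => Group.isSolvable_of_surjective (f := e'.toMonoidHom) e'.surjective,
      fun h => Group.isSolvable_of_surjective (f := e'.symm.toMonoidHom) e'.symm.surjective⟩
  have h := Cfsg.Agent.Suzuki.solubilizer_card hm hF x
  simp only [hcard, MulEquiv.orderOf_eq, ne_eq, map_eq_one_iff ε ε.injective]
  simp only [hF, Cfsg.Agent.Suzuki.kPlus, Cfsg.Agent.Suzuki.kMinus] at h
  exact h


end Cfsg.Agent.S2259
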