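import Cfsg.Statements.S2261


set_option autoImplicit false
open Cfsg

namespace Cfsg.Agent.S2261

open Matrix Polynomial

theorem bound {F : Type*} [Field F] [Fintype F] (d : ℕ) (hd : 1 ≤ d)
    (g : GL (Fin d) F ⧸ Subgroup.center (GL (Fin d) F)) :
    (Fintype.card F - 1) * orderOf g ≤ Fintype.card F ^ d - 1 := by
  classical
  obtain ⟨h, rfl⟩ := QuotientGroup.mk'_surjective _ g
  let φ : (Fin d → F) → Matrix (Fin d) (Fin d) F := fun c => ∑ i, c i • (h.1 ^ (i : ℕ))
  have hspan : ∀ r : F[X], r.natDegree < d → aeval h.1 r ∈ Set.range φ := by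
    intro r hr
    refine ⟨fun i => r.coeff i, ?_⟩
    rw [aeval_eq_sum_range' hr, Finset.sum_range]
  have hpow : ∀ k : ℕ, ∀ c : F, c • h.1 ^ k ∈ Set.range φ := by
    intro k c
    have hmonic := Matrix.charpoly_monic h.1
    have hdeg : h.1.charpoly.natDegree = d := by
      simp [Matrix.charpoly_natDegree_eq_dim]
    have h1 : aeval h.1 ((C c * X ^ k) %ₘ h.1.charpoly) = c • h.1 ^ k := by
      rw [aeval_modByMonic_eq_self_of_root (Matrix.aeval_self_charpoly h.1)]
      simp [Algebra.smul_def]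
    rw [← h1]
    refine hspan _ (lt_of_lt_of_le (natDegree_modByMonic_lt _ hmonic ?_) hdeg.le)
    intro h2
    rw [h2, natDegree_one] at hdeg
    omega
  set o := orderOf (QuotientGroup.mk' (Subgroup.center (GL (Fin d) F)) h) with ho
  let ψ : Fˣ × Fin o → (Finset.image φ Finset.univ).erase 0 := fun x =>
    ⟨(x.1 : F) • h.1 ^ (x.2 : ℕ), Finset.mem_erase.2 ⟨by
      refine smul_ne_zero (Units.ne_zero _) ?_
      have : Nonempty (Fin d) := ⟨⟨0, hd⟩⟩
      rw [← Units.val_pow_eq_pow_val]
      exact Units.ne_zero _, by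
      obtain ⟨c, hc⟩ := hpow x.2 x.1
      exact Finset.mem_image.2 ⟨c, Finset.mem_univ _, hc⟩⟩⟩
  have hψ : Function.Injective ψ := by
    rintro ⟨a, i⟩ ⟨b, j⟩ hab
    have h1 : (a : F) • h.1 ^ (i : ℕ) = (b : F) • h.1 ^ (j : ℕ) := congrArg Subtype.val hab
    let z : Fˣ → GL (Fin d) F := fun t => Units.map (algebraMap F (Matrix (Fin d) (Fin d) F)).toMonoidHom t
    have hz : ∀ t, z t ∈ Subgroup.center (GL (Fin d) F) := by
      intro t
      rw [Subgroup.mem_center_iff]
      intro y
      exact Units.ext (Algebra.commutes (t : F) y.1).symm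
    have h2 : z a * h ^ (i : ℕ) = z b * h ^ (j : ℕ) := by
      apply Units.ext
      simpa [z, Algebra.smul_def] using h1
    have h3 := congrArg (QuotientGroup.mk' (Subgroup.center (GL (Fin d) F))) h2
    rw [map_mul, map_mul, map_pow, map_pow,
      show QuotientGroup.mk' (Subgroup.center (GL (Fin d) F)) (z a) = 1 from (QuotientGroup.eq_one_iff _).2 (hz a),
      show QuotientGroup.mk' (Subgroup.center (GL (Fin d) F)) (z b) = 1 from (QuotientGroup.eq_one_iff _).2 (hz b),
      one_mul, one_mul] at h3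
    have hij : i = j := Fin.ext (pow_injOn_Iio_orderOf i.isLt j.isLt h3)
    subst hij
    have hu : IsUnit (h.1 ^ (i : ℕ)) := h.isUnit.pow _
    have h4 : algebraMap F (Matrix (Fin d) (Fin d) F) a = algebraMap F _ b := by
      rw [Algebra.smul_def, Algebra.smul_def] at h1
      exact hu.mul_right_cancel h1
    have : Nonempty (Fin d) := ⟨⟨0, hd⟩⟩
    rw [Units.ext ((algebraMap F (Matrix (Fin d) (Fin d) F)).injective h4)]
  have h5 := Fintype.card_le_of_injective ψ hψ
  rw [Fintype.card_prod, Fintype.card_units, Fintype.card_fin, Fintype.card_coe] at h5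
  refine h5.trans ?_
  have h0 : (0 : Matrix (Fin d) (Fin d) F) ∈ Finset.image φ Finset.univ :=
    Finset.mem_image.2 ⟨0, Finset.mem_univ _, by simp [φ]⟩
  rw [Finset.card_erase_of_mem h0]
  exact Nat.sub_le_sub_right (Finset.card_image_le.trans (by simp)) 1

theorem singer {F : Type*} [Field F] [Fintype F] (d : ℕ) (hd : 1 ≤ d) :
    ∃ g : GL (Fin d) F ⧸ Subgroup.center (GL (Fin d) F),
      Fintype.card F ^ d - 1 ≤ (Fintype.card F - 1) * orderOf g := by
  classical
  obtain ⟨p, hp⟩ := CharP.exists F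
  have := hp
  have : Fact p.Prime := ⟨CharP.char_is_prime F p⟩
  have : NeZero d := ⟨by omega⟩
  let E := FiniteField.Extension F p d
  let b : Module.Basis (Fin d) F E :=
    Module.finBasisOfFinrankEq F E (FiniteField.finrank_extension F p d)
  obtain ⟨ζ, hζ⟩ := IsCyclic.exists_ofOrder_eq_natCard (α := Eˣ)
  have hcard : Nat.card Eˣ = Fintype.card F ^ d - 1 := by
    rw [Nat.card_units, FiniteField.natCard_extension, Nat.card_eq_fintype_card]
  let L := Algebra.leftMulMatrix b
  let s : GL (Fin d) F := Units.map L.toRingHom.toMonoidHom ζ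
  refine ⟨QuotientGroup.mk' _ s, Nat.le_of_dvd ?_ ?_⟩
  · exact Nat.mul_pos (by have := Fintype.one_lt_card (α := F); omega) (orderOf_pos _)
  rw [← hcard, ← hζ]
  set k := orderOf (QuotientGroup.mk' (Subgroup.center (GL (Fin d) F)) s) with hk
  have h1 : s ^ k ∈ Subgroup.center (GL (Fin d) F) := by
    rw [← QuotientGroup.eq_one_iff]
    show QuotientGroup.mk' _ (s ^ k) = 1
    rw [map_pow, hk, pow_orderOf_eq_one]
  rw [Matrix.GeneralLinearGroup.mem_center_iff_val_mem_range_scalar] at h1
  obtain ⟨c, hc⟩ := h1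
  have h2 : algebraMap F E c = (ζ : E) ^ k := by
    apply Algebra.leftMulMatrix_injective b
    rw [AlgHom.commutes, map_pow]
    simpa [s, L, Matrix.algebraMap_eq_diagonal, Pi.algebraMap_def, Algebra.algebraMap_self] using hc
  have hc0 : c ≠ 0 := by
    rintro rfl
    rw [map_zero] at h2
    exact Units.ne_zero (ζ ^ k) (by simpa using h2.symm)
  refine orderOf_dvd_of_pow_eq_one (Units.ext ?_)
  rw [Units.val_pow_eq_pow_val, mul_comm, pow_mul, ← h2, ← map_pow,
    FiniteField.pow_card_sub_one_eq_one c hc0, map_one, Units.val_one]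


/-- Let F be a finite field with q elements and d ≥ 1. Then every element of PGL_d(F) = GL_d(F)/Z has order at most (q^d − 1)/(q − 1), and some element (the image of a Singer cycle) has exactly this order. -/
theorem result {F : Type*} [Field F] [Fintype F] (d : ℕ) (hd : 1 ≤ d) :
    (∀ g : (GL (Fin d) F ⧸ Subgroup.center (GL (Fin d) F)), (Fintype.card F - 1) * orderOf g ≤ Fintype.card F ^ d - 1) ∧
    (∃ g : (GL (Fin d) F ⧸ Subgroup.center (GL (Fin d) F)), (Fintype.card F - 1) * orderOf g = Fintype.card F ^ d - 1) := by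
  classical
  obtain ⟨g₀, hg₀⟩ := singer (F := F) d hd
  exact ⟨fun g => bound d hd g, g₀, le_antisymm (bound d hd g₀) hg₀⟩

end Cfsg.Agent.S2261
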