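import Cfsg.Statements.S2263
import Cfsg.Agent.Lib.Classical.PGUOrder.Lower
-- import your own Cfsg.Agent.* helpers here

set_option autoImplicit false
open Cfsg

namespace Cfsg.Agent.S2263

/-- Let q = p^f with p prime and f ≥ 1, F a field with q² elements, d ≥ 3 with (d, q) ≠ (3, 2), and PGU_d(q) the general unitary group of the standard Hermitian form modulo its centre. Then the largest order of an element of PGU_d(q) is: q^(d−1) − 1 if d is odd and f ≥ 2; (p^(d−2) + 1)p if d is odd and f = 1; q^(d−1) + 1 if d is even and q > 2; 4(2^(d−3) + 1) if d is even and q = 2. -/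
theorem result {F : Type*} [Field F] [Fintype F] (p f d : ℕ) (hp : p.Prime) (hf : 1 ≤ f) (q : ℕ) (hq : q = p ^ f)
    (hF : Fintype.card F = q ^ 2) (hd : 3 ≤ d) (h32 : ¬ (d = 3 ∧ q = 2)) :
    (Odd d → 2 ≤ f → (∀ g : (↥(Cfsg.GU d F q) ⧸ Subgroup.center ↥(Cfsg.GU d F q)), orderOf g ≤ q ^ (d - 1) - 1) ∧ ∃ g : (↥(Cfsg.GU d F q) ⧸ Subgroup.center ↥(Cfsg.GU d F q)), orderOf g = q ^ (d - 1) - 1) ∧
    (Odd d → f = 1 → (∀ g : (↥(Cfsg.GU d F q) ⧸ Subgroup.center ↥(Cfsg.GU d F q)), orderOf g ≤ (p ^ (d - 2) + 1) * p) ∧ ∃ g : (↥(Cfsg.GU d F q) ⧸ Subgroup.center ↥(Cfsg.GU d F q)), orderOf g = (p ^ (d - 2) + 1) * p) ∧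
    (Even d → 2 < q → (∀ g : (↥(Cfsg.GU d F q) ⧸ Subgroup.center ↥(Cfsg.GU d F q)), orderOf g ≤ q ^ (d - 1) + 1) ∧ ∃ g : (↥(Cfsg.GU d F q) ⧸ Subgroup.center ↥(Cfsg.GU d F q)), orderOf g = q ^ (d - 1) + 1) ∧
    (Even d → q = 2 → (∀ g : (↥(Cfsg.GU d F q) ⧸ Subgroup.center ↥(Cfsg.GU d F q)), orderOf g ≤ 4 * (2 ^ (d - 3) + 1)) ∧ ∃ g : (↥(Cfsg.GU d F q) ⧸ Subgroup.center ↥(Cfsg.GU d F q)), orderOf g = 4 * (2 ^ (d - 3) + 1)) := by
  haveI : Fact p.Prime := ⟨hp⟩
  have hq2 : 2 ≤ q := hq ▸ le_trans hp.two_le (Nat.le_self_pow (by omega) p)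
  have hq1 : f = 1 → q = p := fun h => by rw [hq, h, pow_one]
  have hhalf : 2 ≤ f → 2 * p ≤ q := fun h =>
    calc 2 * p ≤ p ^ 2 := by rw [sq]; exact Nat.mul_le_mul_right p hp.two_le
      _ ≤ q := hq ▸ Nat.pow_le_pow_right hp.pos h
  have hpow : q ^ (d - 2) * q = q ^ (d - 1) := by rw [← pow_succ]; congr 1; omega
  have upper := fun T => Cfsg.Agent.Classical.PGUOrder.orderOf_le (p := p) (f := f) (T := T) hf hq hF hd h32
  have lower := fun n m => Cfsg.Agent.Classical.PGUOrder.exists_orderOf_eq (f := f) hF hq (p := p) n m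
  have hd1 : d - 1 + 1 = d := by omega
  refine ⟨fun hod hf2 => ⟨?_, ?_⟩, fun hod hf1 => ⟨?_, ?_⟩, fun hed h2 => ⟨?_, ?_⟩,
    fun hed h2 => ⟨?_, ?_⟩⟩
  · refine Quotient.ind fun g => upper _ le_rfl (fun _ h => absurd h (by omega))
      (fun h => absurd hod (Nat.not_odd_iff_even.2 h)) (fun h => absurd hod (Nat.not_odd_iff_even.2 h)) g
  · have he : Even (d - 1) := by
      obtain ⟨k, hk⟩ := hod
      exact ⟨k, by omega⟩
    have h := lower (d - 1) 1 (by omega) le_rfl (by omega)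
    rw [hd1, Cfsg.Agent.Classical.PGUOrder.W_even q he, Nat.clog_one_right, pow_zero, mul_one] at h
    exact h
  · rw [← hq1 hf1]
    have h3 : (q ^ (d - 2) + 1) * q = q ^ (d - 1) + q := by rw [← hpow]; ring
    refine Quotient.ind fun g => upper _ (by omega) (fun _ _ => by rw [hq1 hf1])
      (fun h => absurd hod (Nat.not_odd_iff_even.2 h)) (fun h => absurd hod (Nat.not_odd_iff_even.2 h)) g
  · have ho : Odd (d - 2) := by
      obtain ⟨k, hk⟩ := hod
      exact ⟨k - 1, by omega⟩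
    have h := lower (d - 2) 2 (by omega) (by omega) (by omega)
    rw [show d - 2 + 2 = d by omega, Cfsg.Agent.Classical.PGUOrder.W_odd q ho,
      Nat.clog_eq_one (le_refl 2) hp.two_le, pow_one, hq1 hf1] at h
    rw [hq1 hf1]
    exact h
  · refine Quotient.ind fun g => upper _ (by omega)
      (fun h => absurd h (Nat.not_odd_iff_even.2 hed)) (fun _ => le_rfl) (fun _ h => absurd h (by omega)) g
  · have ho : Odd (d - 1) := by
      obtain ⟨k, hk⟩ := hed
      exact ⟨k - 1, by omega⟩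
    have h := lower (d - 1) 1 (by omega) le_rfl (by omega)
    rw [hd1, Cfsg.Agent.Classical.PGUOrder.W_odd q ho, Nat.clog_one_right, pow_zero, mul_one] at h
    exact h
  · subst h2
    have h3 : 4 * (2 ^ (d - 3) + 1) = 2 ^ (d - 1) + 4 := by
      rw [show d - 1 = d - 3 + 2 by omega, pow_add]; ring
    refine Quotient.ind fun g => upper _ (by omega)
      (fun h => absurd h (Nat.not_odd_iff_even.2 hed)) (fun _ => by omega) (fun _ _ => le_rfl) g
  · subst h2
    have hp2 : p = 2 := ((Nat.prime_dvd_prime_iff_eq hp Nat.prime_two).1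
      ((dvd_pow_self p (by omega : f ≠ 0)).trans (dvd_of_eq hq.symm)))
    have ho : Odd (d - 3) := by
      obtain ⟨k, hk⟩ := hed
      exact ⟨k - 2, by omega⟩
    have h := lower (d - 3) 3 (by omega) (by omega) le_rfl
    rw [show d - 3 + 3 = d by omega, Cfsg.Agent.Classical.PGUOrder.W_odd 2 ho, hp2,
      show (2 : ℕ) ^ Nat.clog 2 3 = 4 by norm_num [Nat.clog], mul_comm] at h
    exact h

end Cfsg.Agent.S2263
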