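import Cfsg.Statements.S2264
import Cfsg.Agent.S2586
import Cfsg.Agent.Lib.Classical.Symplectic
import Cfsg.Agent.Lib.Classical.SelfRecipOrder

set_option autoImplicit false
open Cfsg

namespace Cfsg.Agent.S2264

/-- Let F be a finite field with q elements and m ≥ 2. Then every element g of PSp_2m(F) satisfies (q − 1)·|g| ≤ q^(m+1), i.e. has order at most q^(m+1)/(q − 1). -/
theorem result {F : Type*} [Field F] [Fintype F] (m : ℕ) (hm : 2 ≤ m) (g : Cfsg.PSp m F) :
    (Fintype.card F - 1) * orderOf g ≤ Fintype.card F ^ (m + 1) := by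
  classical
  obtain ⟨x, rfl⟩ := QuotientGroup.mk'_surjective _ g
  set A := (x : Matrix (Fin m ⊕ Fin m) (Fin m ⊕ Fin m) F) with hA
  have hmul : ((x⁻¹ : Matrix.symplecticGroup (Fin m) F) : Matrix (Fin m ⊕ Fin m) (Fin m ⊕ Fin m) F) * A = 1 :=
    congrArg Subtype.val (inv_mul_cancel x)
  have hunit : IsUnit A :=
    ⟨⟨A, _, mul_eq_one_comm.1 hmul, hmul⟩, rfl⟩
  have hinv : A⁻¹.charpoly = A.charpoly := by
    obtain ⟨c, hc⟩ := Cfsg.Agent.S2586.result x
    rw [Matrix.inv_eq_left_inv hmul, ← Matrix.charpoly_units_conj c A, ← Matrix.coe_units_inv, hc.eq, mul_assoc,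
      Units.mul_inv, mul_one]
  obtain ⟨N, hN0, hN, hAN⟩ := Cfsg.Agent.Classical.SelfRecipOrder.exists_exponent A hunit hinv m hm
    (by simp; omega) (fun h => by simp at h; omega)
  refine le_trans (Nat.mul_le_mul_left _ (Nat.le_of_dvd hN0 (orderOf_dvd_of_pow_eq_one ?_))) hN
  rw [← map_pow]
  refine (QuotientGroup.eq_one_iff _).2 (Cfsg.Agent.Classical.Symplectic.mem_center_iff _ |>.2 ?_)
  rcases hAN with h | h
  · exact ⟨1, fun v => by rw [SubmonoidClass.coe_pow, ← hA, h, Matrix.one_mulVec, one_smul]⟩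
  · exact ⟨-1, fun v => by rw [SubmonoidClass.coe_pow, ← hA, h, Matrix.neg_mulVec, Matrix.one_mulVec, neg_one_smul]⟩

end Cfsg.Agent.S2264
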