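import Cfsg.Statements.S2265
import Cfsg.Agent.Lib.Classical.OrthForms
import Cfsg.Agent.Lib.Classical.SelfRecipOrder

set_option autoImplicit false
open Cfsg

namespace Cfsg.Agent.S2265

theorem bound {ι : Type} [Fintype ι] [DecidableEq ι] {F : Type*} [Field F] [Fintype F] (Q : QuadraticForm F (ι → F))
    (hQ : (QuadraticMap.polarBilin Q).Nondegenerate) (m : ℕ) (hm : 2 ≤ m) (hn : Fintype.card ι ≤ 2 * m + 1)
    (hodd : Fintype.card ι = 2 * m + 1 → (2 : F) ≠ 0 ∧ 3 ≤ m) (g : Cfsg.POmega F ⇑Q) :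
    (Fintype.card F - 1) * orderOf g ≤ Fintype.card F ^ (m + 1) := by
  classical
  obtain ⟨x, rfl⟩ := QuotientGroup.mk'_surjective _ g
  let u : GL ι F := ((x : Cfsg.isometryGroup F ⇑Q) : GL ι F)
  set A : Matrix ι ι F := (u : Matrix ι ι F) with hA
  have hiso : ∀ v, Q (A.mulVec v) = Q v := fun v => (x : Cfsg.isometryGroup F ⇑Q).2 v v
  set G := LinearMap.toMatrix₂' F (QuadraticMap.polarBilin Q) with hG
  have hGu : IsUnit G := by
    rw [Matrix.isUnit_iff_isUnit_det, isUnit_iff_ne_zero]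
    exact LinearMap.nondegenerate_iff_det_ne_zero (Pi.basisFun F ι) |>.1 hQ
  have hgram : A.transpose * G * A = G := by
    have h : (QuadraticMap.polarBilin Q).compl₁₂ (Matrix.toLin' A) (Matrix.toLin' A) = QuadraticMap.polarBilin Q := by
      refine LinearMap.ext₂ fun v w => ?_
      simp [QuadraticMap.polar, ← Matrix.mulVec_add, hiso]
    have h' := congrArg (LinearMap.toMatrix₂' F) h
    rwa [LinearMap.toMatrix₂'_compl₁₂, LinearMap.toMatrix'_toLin'] at h'
  have hinv : A⁻¹.charpoly = A.charpoly := by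
    have h1 : G⁻¹ * A.transpose * G * A = 1 := by
      rw [mul_assoc, mul_assoc, ← mul_assoc A.transpose, hgram, Matrix.nonsing_inv_mul _ ((Matrix.isUnit_iff_isUnit_det G).1 hGu)]
    rw [Matrix.inv_eq_left_inv h1]
    obtain ⟨w, hw⟩ := hGu
    rw [← hw, Matrix.charpoly_units_conj', Matrix.charpoly_transpose]
  obtain ⟨N, hN0, hN, hAN⟩ := Cfsg.Agent.Classical.SelfRecipOrder.exists_exponent A u.isUnit hinv m hm hn hodd
  refine le_trans (Nat.mul_le_mul_left _ (Nat.le_of_dvd hN0 (orderOf_dvd_of_pow_eq_one ?_))) hN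
  rw [← map_pow]
  refine (QuotientGroup.eq_one_iff _).2 (Subgroup.mem_center_iff.2 fun y => Subtype.ext (Subtype.ext (Units.ext ?_)))
  have hpow : ((((x ^ N : Cfsg.Omega F ⇑Q) : Cfsg.isometryGroup F ⇑Q) : GL ι F) : Matrix ι ι F) = A ^ N := by
    simp [hA, u]
  simp only [Subgroup.coe_mul, Units.val_mul, hpow]
  rcases hAN with h | h <;> simp [h]

/-- Let F be a finite field with q elements. Every element g of PΩ_(2m+1)(F) (m ≥ 3, q odd), of PΩ⁺_2m(F) (m ≥ 4), or of PΩ⁻_2m(F) (m ≥ 4, the form having an anisotropic binary part) satisfies (q − 1)·|g| ≤ q^(m+1), i.e. has order at most q^(m+1)/(q − 1). -/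
theorem result {F : Type*} [Field F] [Fintype F] (m : ℕ) :
    (3 ≤ m → Odd (Fintype.card F) → ∀ g : Cfsg.POmega F (Cfsg.quadFormOdd m F),
      (Fintype.card F - 1) * orderOf g ≤ Fintype.card F ^ (m + 1)) ∧
    (4 ≤ m → ∀ g : Cfsg.POmega F (Cfsg.quadFormPlus m F),
      (Fintype.card F - 1) * orderOf g ≤ Fintype.card F ^ (m + 1)) ∧
    (4 ≤ m → ∀ a b : F, (∀ z₁ z₂ : F, z₁ ^ 2 + a * z₁ * z₂ + b * z₂ ^ 2 = 0 → z₁ = 0 ∧ z₂ = 0) →
      ∀ g : Cfsg.POmega F (Cfsg.quadFormMinus (m - 1) F a b),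
      (Fintype.card F - 1) * orderOf g ≤ Fintype.card F ^ (m + 1)) := by
  refine ⟨fun hm hq g => ?_, fun hm g => ?_, fun hm a b hab g => ?_⟩
  · have h := bound (Cfsg.Agent.Classical.OrthForms.oddQ F m)
      (Cfsg.Agent.Classical.OrthForms.oddQ_nondeg (Cfsg.Agent.Classical.OrthForms.two_ne_zero_of_odd hq) m) m (by omega)
      (by simp; omega) (fun _ => ⟨Cfsg.Agent.Classical.OrthForms.two_ne_zero_of_odd hq, hm⟩)
    rw [Cfsg.Agent.Classical.OrthForms.oddQ_eq] at h
    exact h g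
  · have h := bound (Cfsg.Agent.Forms.PlusStd.plusQ F m) (Cfsg.Agent.Forms.PlusStd.plusQ_nondeg F m) m (by omega)
      (by simp; omega) (fun h => by simp at h; omega)
    rw [Cfsg.Agent.Classical.OrthForms.plusQ_eq] at h
    exact h g
  · have h := bound (Cfsg.Agent.Classical.OrthForms.minQ F (m - 1) a b)
      (Cfsg.Agent.Classical.OrthForms.minQ_nondeg (m - 1) hab) m (by omega)
      (by simp; omega) (fun h => by simp at h; omega)
    rw [Cfsg.Agent.Classical.OrthForms.minQ_eq] at h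
    exact h g

end Cfsg.Agent.S2265
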