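import Cfsg.Statements.S2268


set_option autoImplicit false
open Cfsg

namespace Cfsg.Agent.S2268

/-- Let G be a finite group with an abelian Sylow p-subgroup P and let Q ≤ P. Then N_G(Q) = (N_G(Q) ∩ N_G(P))·C_G(Q), so that N_G(Q)/C_G(Q) is a homomorphic image of the subgroup (N_G(Q) ∩ N_G(P))/C_G(P) of N_G(P)/C_G(P); in particular the order of N_G(Q)/C_G(Q) divides the order of N_G(P)/C_G(P). -/
theorem result {G : Type*} [Group G] [Finite G] {p : ℕ} [Fact p.Prime]
    (P : Sylow p G) (hP : IsMulCommutative (P : Subgroup G)) (Q : Subgroup G) (hQ : Q ≤ (P : Subgroup G)) :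
    Subgroup.normalizer (Q : Set G) =
      (Subgroup.normalizer (Q : Set G) ⊓ Subgroup.normalizer ((P : Subgroup G) : Set G)) ⊔ Subgroup.centralizer (Q : Set G) ∧
    ((Subgroup.centralizer (Q : Set G)).subgroupOf (Subgroup.normalizer (Q : Set G))).index ∣ ((Subgroup.centralizer ((P : Subgroup G) : Set G)).subgroupOf (Subgroup.normalizer ((P : Subgroup G) : Set G))).index := by
  set N := Subgroup.normalizer (Q : Set G) with hNdef
  set M := Subgroup.normalizer ((P : Subgroup G) : Set G) with hMdef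
  set C := Subgroup.centralizer (Q : Set G) with hCdef
  set CP := Subgroup.centralizer ((P : Subgroup G) : Set G) with hCPdef
  have hPC : (P : Subgroup G) ≤ C := by
    intro x hx y hy
    exact congrArg Subtype.val (hP.is_comm.comm (⟨y, hQ hy⟩ : (P : Subgroup G)) ⟨x, hx⟩)
  have hCN : C ≤ N := by
    intro c hc
    rw [hNdef, Subgroup.mem_normalizer_iff]
    have key : ∀ y ∈ Q, c * y * c⁻¹ = y := fun y hy => by
      rw [← hc y hy, mul_inv_cancel_right]
    intro y
    refine ⟨fun hy => (key y hy).symm ▸ hy, fun hy => ?_⟩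
    have := key _ hy
    have e : c * y * c⁻¹ = y := (MulAut.conj c).injective (by simpa [MulAut.conj_apply] using this)
    rwa [e] at hy
  have hsup : N = (N ⊓ M) ⊔ C := by
    refine le_antisymm ?_ (sup_le inf_le_left hCN)
    intro n hn
    have h2 : ↑(n • P) ≤ C := by
      rintro _ ⟨z, hz, rfl⟩ y hy
      have hy' : n⁻¹ * y * n ∈ Q := by
        have := Subgroup.mem_normalizer_iff.1 (N.inv_mem hn) y |>.1 hy
        simpa using this
      have := hPC hz (n⁻¹ * y * n) hy'
      show y * (n * z * n⁻¹) = n * z * n⁻¹ * y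
      calc y * (n * z * n⁻¹) = n * ((n⁻¹ * y * n) * z) * n⁻¹ := by group
        _ = n * (z * (n⁻¹ * y * n)) * n⁻¹ := by rw [this]
        _ = n * z * n⁻¹ * y := by group
    obtain ⟨c, hc⟩ := MulAction.exists_smul_eq C ((n • P).subtype h2) (P.subtype hPC)
    simp_rw [Sylow.smul_subtype, Subgroup.smul_def, smul_smul] at hc
    have hcn : (c : G) * n ∈ M := Sylow.smul_eq_iff_mem_normalizer.mp (Sylow.subtype_injective hc)
    have hcn' : (c : G) * n ∈ N := N.mul_mem (hCN c.2) hn
    rw [show n = (c : G)⁻¹ * ((c : G) * n) by group]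
    exact Subgroup.mul_mem _ (Subgroup.mem_sup_right (C.inv_mem c.2)) (Subgroup.mem_sup_left ⟨hcn', hcn⟩)
  refine ⟨hsup, ?_⟩
  show C.relIndex N ∣ CP.relIndex M
  have hCPC : CP ⊓ (N ⊓ M) ≤ C := fun x hx y hy => hx.1 y (hQ hy)
  have hle : CP ≤ M := by
    intro c hc
    rw [hMdef, Subgroup.mem_normalizer_iff]
    have key : ∀ y ∈ (P : Subgroup G), c * y * c⁻¹ = y := fun y hy => by
      rw [← hc y hy, mul_inv_cancel_right]
    intro y
    refine ⟨fun hy => (key y hy).symm ▸ hy, fun hy => ?_⟩
    have := key _ hy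
    have e : c * y * c⁻¹ = y := (MulAut.conj c).injective (by simpa [MulAut.conj_apply] using this)
    rwa [e] at hy
  have hnorm : M ≤ Subgroup.normalizer (CP : Set G) := by
    intro g hg
    rw [Subgroup.mem_normalizer_iff]
    intro x
    constructor
    · intro hx y hy
      have hy' : g⁻¹ * y * g ∈ (P : Subgroup G) := by
        have := Subgroup.mem_normalizer_iff.1 (M.inv_mem hg) y |>.1 hy
        simpa using this
      calc y * (g * x * g⁻¹) = g * ((g⁻¹ * y * g) * x) * g⁻¹ := by group
        _ = g * (x * (g⁻¹ * y * g)) * g⁻¹ := by rw [hx _ hy']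
        _ = g * x * g⁻¹ * y := by group
    · intro hx y hy
      have hy' : g * y * g⁻¹ ∈ (P : Subgroup G) := (Subgroup.mem_normalizer_iff.1 hg y).1 hy
      calc y * x = g⁻¹ * ((g * y * g⁻¹) * (g * x * g⁻¹)) * g := by group
        _ = g⁻¹ * ((g * x * g⁻¹) * (g * y * g⁻¹)) * g := by rw [hx _ hy']
        _ = x * y := by group
  have h1 : C.relIndex N = C.relIndex (N ⊓ M) := by
    have hnC : N ≤ Subgroup.normalizer (C : Set G) := by
      intro g hg
      rw [Subgroup.mem_normalizer_iff]
      intro x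
      constructor
      · intro hx y hy
        have hy' : g⁻¹ * y * g ∈ Q := by
          have := Subgroup.mem_normalizer_iff.1 (N.inv_mem hg) y |>.1 hy
          simpa using this
        calc y * (g * x * g⁻¹) = g * ((g⁻¹ * y * g) * x) * g⁻¹ := by group
          _ = g * (x * (g⁻¹ * y * g)) * g⁻¹ := by rw [hx _ hy']
          _ = g * x * g⁻¹ * y := by group
      · intro hx y hy
        have hy' : g * y * g⁻¹ ∈ Q := (Subgroup.mem_normalizer_iff.1 hg y).1 hy
        calc y * x = g⁻¹ * ((g * y * g⁻¹) * (g * x * g⁻¹)) * g := by group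
          _ = g⁻¹ * ((g * x * g⁻¹) * (g * y * g⁻¹)) * g := by rw [hx _ hy']
          _ = x * y := by group
    have : (C.subgroupOf N).Normal := Subgroup.normal_subgroupOf_iff_le_normalizer hCN |>.2 hnC
    rw [← Subgroup.relIndex_subgroupOf (K := N) (L := N) le_rfl,
      ← Subgroup.relIndex_subgroupOf (K := N ⊓ M) (L := N) inf_le_left]
    conv_lhs => rw [show N.subgroupOf N = (N ⊓ M).subgroupOf N ⊔ C.subgroupOf N by
      rw [← Subgroup.subgroupOf_sup inf_le_left hCN, ← hsup]]
    rw [Subgroup.relIndex_sup_right]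
  rw [h1]
  refine (Subgroup.relIndex_dvd_of_le_left (N ⊓ M) hCPC).trans ?_
  rw [Subgroup.inf_relIndex_right]
  have hn2 : (CP.subgroupOf M).Normal := Subgroup.normal_subgroupOf_iff_le_normalizer hle |>.2 hnorm
  rw [← Subgroup.relIndex_subgroupOf (K := N ⊓ M) (L := M) inf_le_right]
  exact Subgroup.relIndex_dvd_index_of_normal _ _

end Cfsg.Agent.S2268
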