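import Cfsg.Statements.S2269
import Cfsg.Agent.SimpleFacts.AltSylow

set_option autoImplicit false
open Cfsg

namespace Cfsg.Agent.S2269

open SimpleFacts


/-- Let n ≥ 5 and let P be an abelian Sylow p-subgroup of the alternating group A_n. Then N(P)/C(P) (taken in A_n) has even order, or P is cyclic, except when n = 5 and p = 2, where P is a four-group and N(P)/C(P) has order 3. -/
theorem result (n : ℕ) (hn : 5 ≤ n) {p : ℕ} [Fact p.Prime]
    (P : Sylow p (alternatingGroup (Fin n))) (hP : IsMulCommutative (P : Subgroup (alternatingGroup (Fin n)))) :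
    (¬ (n = 5 ∧ p = 2) → 2 ∣ ((Subgroup.centralizer ((P : Subgroup (alternatingGroup (Fin n))) : Set (alternatingGroup (Fin n)))).subgroupOf (Subgroup.normalizer ((P : Subgroup (alternatingGroup (Fin n))) : Set (alternatingGroup (Fin n))))).index ∨ IsCyclic (P : Subgroup (alternatingGroup (Fin n)))) ∧
    ((n = 5 ∧ p = 2) → ((Subgroup.centralizer ((P : Subgroup (alternatingGroup (Fin n))) : Set (alternatingGroup (Fin n)))).subgroupOf (Subgroup.normalizer ((P : Subgroup (alternatingGroup (Fin n))) : Set (alternatingGroup (Fin n))))).index = 3 ∧ IsKleinFour (P : Subgroup (alternatingGroup (Fin n)))) := by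
  obtain ⟨h1, h2⟩ := AltSylow.lt_of_isMulCommutative (by omega) P hP
  constructor
  · intro hne
    have hp2 : p ≠ 2 := fun e => hne ⟨by have := h1 e; omega, e⟩
    have hlt := h2 hp2
    by_cases hw : 2 ≤ n / p
    · exact Or.inl (AltSylow.exists_inverting hp2 hw hlt P)
    · refine Or.inr ?_
      have hc := AltSylow.card_sylow hp2 (by omega) hlt P
      rcases Nat.le_one_iff_eq_zero_or_eq_one.1 (Nat.lt_succ_iff.1 (not_le.1 hw)) with e | e <;> rw [e] at hc
      · rw [pow_zero] at hc
        haveI : Subsingleton (P : Subgroup (alternatingGroup (Fin n))) := (Nat.card_eq_one_iff_unique.1 hc).1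
        exact isCyclic_of_subsingleton
      · rw [pow_one] at hc
        exact isCyclic_of_prime_card hc
  · rintro ⟨rfl, rfl⟩
    exact AltSylow.five_two P

end Cfsg.Agent.S2269
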