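import Cfsg.Statements.S2270


set_option autoImplicit false
open Cfsg

namespace Cfsg.Agent.S2270

/-- Let n ≥ 3, p an odd prime, and P an abelian Sylow p-subgroup of the symmetric group S_n (with p dividing n!, so that P ≠ 1). Then N(P)/C(P) has even order. -/
theorem result (n : ℕ) (hn : 3 ≤ n) {p : ℕ} [Fact p.Prime] (hp : p ≠ 2) (hpn : p ≤ n)
    (P : Sylow p (Equiv.Perm (Fin n))) (hP : IsMulCommutative (P : Subgroup (Equiv.Perm (Fin n)))) :
    2 ∣ ((Subgroup.centralizer ((P : Subgroup (Equiv.Perm (Fin n))) : Set (Equiv.Perm (Fin n)))).subgroupOf (Subgroup.normalizer ((P : Subgroup (Equiv.Perm (Fin n))) : Set (Equiv.Perm (Fin n))))).index := by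
  classical
  obtain ⟨x, hxP, hx1⟩ : ∃ x ∈ (P : Subgroup (Equiv.Perm (Fin n))), x ≠ 1 := by
    suffices h : (P : Subgroup (Equiv.Perm (Fin n))) ≠ ⊥ by
      obtain ⟨⟨x, hx⟩, hne⟩ := Subgroup.ne_bot_iff_exists_ne_one.1 h
      exact ⟨x, hx, fun h => hne (Subtype.ext h)⟩
    refine P.ne_bot_of_dvd_card ?_
    rw [Nat.card_perm, Nat.card_eq_fintype_card, Fintype.card_fin]
    exact Nat.dvd_factorial (Fact.out : p.Prime).pos hpn
  obtain ⟨g, hg⟩ := isConj_iff.1 (Equiv.Perm.isConj_iff_cycleType_eq.2 (Equiv.Perm.cycleType_inv x).symm)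
  have := hP
  obtain ⟨k, hk, hk'⟩ := P.conj_eq_normalizer_conj_of_mem x g⁻¹ hxP (by
    rw [inv_inv, hg]; exact Subgroup.inv_mem _ hxP)
  rw [inv_inv, hg] at hk'
  set M := Subgroup.normalizer ((P : Subgroup (Equiv.Perm (Fin n))) : Set (Equiv.Perm (Fin n)))
  set H := (Subgroup.centralizer ((P : Subgroup (Equiv.Perm (Fin n))) : Set (Equiv.Perm (Fin n)))).subgroupOf M
  have hnorm : H.Normal := by
    constructor
    intro c hc g y hy
    have hy' : (g : Equiv.Perm (Fin n))⁻¹ * y * g ∈ (P : Subgroup (Equiv.Perm (Fin n))) := by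
      have := Subgroup.mem_normalizer_iff.1 (M.inv_mem g.2) y |>.1 hy
      simpa using this
    have h := hc _ hy'
    simp only [Subgroup.coe_subtype, Subgroup.coe_mul, Subgroup.coe_inv] at h ⊢
    calc y * ((g : Equiv.Perm (Fin n)) * c * (g : Equiv.Perm (Fin n))⁻¹)
        = g * (((g : Equiv.Perm (Fin n))⁻¹ * y * g) * c) * (g : Equiv.Perm (Fin n))⁻¹ := by group
      _ = g * (c * ((g : Equiv.Perm (Fin n))⁻¹ * y * g)) * (g : Equiv.Perm (Fin n))⁻¹ := by rw [h]
      _ = g * c * (g : Equiv.Perm (Fin n))⁻¹ * y := by group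
  by_contra hodd
  have hmem := H.pow_index_mem (⟨k, hk⟩ : M)
  have hcomm : x * k ^ H.index = k ^ H.index * x := hmem x hxP
  have hpow : ∀ e : ℕ, x * k ^ e = k ^ e * (if Even e then x else x⁻¹) := by
    intro e
    have hxk : x * k = k * x⁻¹ := by rw [hk']; group
    have hxk' : x⁻¹ * k = k * x := by
      have h := congrArg (fun t => x⁻¹ * t * x) hxk
      group at h ⊢
      exact h.symm
    induction e with
    | zero => simp
    | succ e ih =>
      rw [pow_succ, ← mul_assoc, ih, mul_assoc]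
      by_cases he : Even e
      · rw [if_pos he, if_neg (by simpa [Nat.even_add_one] using he), hxk, mul_assoc]
      · rw [if_neg he, if_pos (by simpa [Nat.even_add_one] using he), hxk', mul_assoc]
  rw [hpow, if_neg (fun he => hodd (even_iff_two_dvd.1 he)), mul_left_cancel_iff] at hcomm
  have hx2 : x ^ 2 = 1 := by
    rw [sq]
    nth_rw 1 [← hcomm]
    exact inv_mul_cancel x
  obtain ⟨j, hj⟩ := P.2 ⟨x, hxP⟩
  have hd := Nat.dvd_gcd (orderOf_dvd_of_pow_eq_one (congrArg Subtype.val hj : x ^ (p ^ j) = 1))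
    (orderOf_dvd_of_pow_eq_one hx2)
  rw [Nat.Coprime.gcd_eq_one (Nat.Coprime.pow_left j
    ((Nat.coprime_primes Fact.out Nat.prime_two).2 hp)), Nat.dvd_one, orderOf_eq_one_iff] at hd
  exact hx1 hd

end Cfsg.Agent.S2270
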