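import Cfsg.Statements.S2272
import Mathlib
import Cfsg.Agent.Lib.Classical.LinearExtend

set_option autoImplicit false
open Cfsg

namespace Cfsg.Agent.S2272

open Matrix

variable {F : Type*} [Field F]

section
variable {d : ℕ}

/-- A functional vanishing at two vectors and taking the value `1` at a third one outside their span. -/
theorem exists_dot (x y z : Fin d → F) (hz : z ∉ Submodule.span F ({x, y} : Set (Fin d → F))) :
    ∃ f : Fin d → F, f ⬝ᵥ x = 0 ∧ f ⬝ᵥ y = 0 ∧ f ⬝ᵥ z = 1 := by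
  obtain ⟨φ, hφz, hφ⟩ := Submodule.exists_dual_map_eq_bot_of_notMem hz inferInstance
  have hker : ∀ u ∈ Submodule.span F ({x, y} : Set (Fin d → F)), φ u = 0 := fun u hu => by
    have : φ u ∈ Submodule.map φ (Submodule.span F ({x, y} : Set (Fin d → F))) := Submodule.mem_map_of_mem hu
    rwa [hφ, Submodule.mem_bot] at this
  have hrep : ∀ u : Fin d → F, φ u = (fun i => φ (Pi.single i 1)) ⬝ᵥ u := fun u => by
    conv_lhs => rw [pi_eq_sum_univ' u]
    simp [dotProduct, mul_comm]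
  refine ⟨(φ z)⁻¹ • fun i => φ (Pi.single i 1), ?_, ?_, ?_⟩
  · rw [smul_dotProduct, ← hrep, hker x (Submodule.subset_span (by simp)), smul_zero]
  · rw [smul_dotProduct, ← hrep, hker y (Submodule.subset_span (by simp)), smul_zero]
  · rw [smul_dotProduct, ← hrep, smul_eq_mul, inv_mul_cancel₀ hφz]

/-- Transitivity of the special linear group on independent pairs. -/
theorem exists_SL_pair (hd : 3 ≤ d) (x y v w : Fin d → F) (hxy : LinearIndependent F ![x, y])
    (hvw : LinearIndependent F ![v, w]) :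
    ∃ g : Matrix.SpecialLinearGroup (Fin d) F, (g : Matrix (Fin d) (Fin d) F) *ᵥ x = v ∧
      (g : Matrix (Fin d) (Fin d) F) *ᵥ y = w := by
  obtain ⟨E, hE⟩ := Cfsg.Agent.Classical.LinearExtend.exists_extend (F := F) (V := Fin d → F) (V' := Fin d → F) rfl
    ((Module.Basis.span hxy).equiv (Module.Basis.span hvw) (Equiv.refl _))
  have hEi : ∀ i, E (![x, y] i) = ![v, w] i := fun i => by
    have h := hE (Module.Basis.span hxy i)
    rw [Module.Basis.equiv_apply] at h
    simpa using h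
  set M := LinearMap.toMatrix' (E : (Fin d → F) →ₗ[F] (Fin d → F))
  have hM : ∀ u, M *ᵥ u = E u := fun u => by simp [M, LinearMap.toMatrix'_mulVec]
  have hdet : M.det ≠ 0 := by
    intro h
    obtain ⟨u, hu, h0⟩ := exists_mulVec_eq_zero_iff.2 h
    exact hu (E.injective (by rw [← hM, h0, map_zero]))
  obtain ⟨u, hu⟩ : ∃ u, u ∉ Submodule.span F ({v, w} : Set (Fin d → F)) := by
    by_contra h
    simp only [not_exists, not_not] at h
    have htop : Submodule.span F ({v, w} : Set (Fin d → F)) = ⊤ := eq_top_iff.2 fun a _ => h a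
    have h1 := finrank_span_eq_card hvw
    rw [show Set.range ![v, w] = {v, w} by simp [Matrix.range_cons, Matrix.range_empty, Set.pair_comm]] at h1
    rw [htop, finrank_top, Module.finrank_fin_fun, Fintype.card_fin] at h1
    omega
  obtain ⟨f, hfv, hfw, hfu⟩ := exists_dot v w u hu
  set S : Matrix (Fin d) (Fin d) F := 1 + vecMulVec ((M.det⁻¹ - 1) • u) f with hS
  have hSdet : S.det = M.det⁻¹ := by
    rw [hS, vecMulVec_eq Unit, det_one_add_replicateCol_mul_replicateRow, dotProduct_smul, hfu, smul_eq_mul, mul_one,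
      add_sub_cancel]
  refine ⟨⟨S * M, by rw [det_mul, hSdet, inv_mul_cancel₀ hdet]⟩, ?_, ?_⟩
  · show (S * M) *ᵥ x = v
    rw [← mulVec_mulVec, hM, show E x = v from hEi 0, hS, add_mulVec, one_mulVec, vecMulVec_mulVec, hfv]
    simp
  · show (S * M) *ᵥ y = w
    rw [← mulVec_mulVec, hM, show E y = w from hEi 1, hS, add_mulVec, one_mulVec, vecMulVec_mulVec, hfw]
    simp

/-- A transvection as an element of the special linear group. -/
theorem exists_transvection (v f : Fin d → F) (hf : f ⬝ᵥ v = 0) :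
    ∃ T : Matrix.SpecialLinearGroup (Fin d) F, (T : Matrix (Fin d) (Fin d) F) = 1 + vecMulVec v f ∧
      ((T⁻¹ : Matrix.SpecialLinearGroup (Fin d) F) : Matrix (Fin d) (Fin d) F) = 1 - vecMulVec v f := by
  have h0 : vecMulVec v f * vecMulVec v f = 0 := by
    rw [vecMulVec_mul_vecMulVec, hf]
    simp
  have hdet : (1 + vecMulVec v f).det = 1 := by
    rw [vecMulVec_eq Unit, det_one_add_replicateCol_mul_replicateRow, hf, add_zero]
  refine ⟨⟨_, hdet⟩, rfl, ?_⟩
  set T : Matrix.SpecialLinearGroup (Fin d) F := ⟨_, hdet⟩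
  have h1 : (T : Matrix (Fin d) (Fin d) F) * (1 - vecMulVec v f) = 1 := by
    show (1 + vecMulVec v f) * (1 - vecMulVec v f) = 1
    rw [add_mul, one_mul, mul_sub, mul_one, h0]
    simp
  have h2 : ((T⁻¹ : Matrix.SpecialLinearGroup (Fin d) F) : Matrix (Fin d) (Fin d) F) * T = 1 := by
    rw [← Matrix.SpecialLinearGroup.coe_mul, inv_mul_cancel, Matrix.SpecialLinearGroup.coe_one]
  exact left_inv_eq_right_inv h2 h1

/-- The trace along a transvection. -/
theorem trace_conj_transvection (A B : Matrix (Fin d) (Fin d) F) (v f : Fin d → F)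
    (h : (f ⬝ᵥ (B *ᵥ v)) * (f ⬝ᵥ (A *ᵥ v)) = 0) :
    (A * ((1 + vecMulVec v f) * B * (1 - vecMulVec v f))).trace =
      (A * B).trace + f ⬝ᵥ (B *ᵥ (A *ᵥ v) - A *ᵥ (B *ᵥ v)) := by
  have h1 : (A * (vecMulVec v f * B)).trace = f ⬝ᵥ (B *ᵥ (A *ᵥ v)) := by
    rw [← mul_assoc, trace_mul_comm, ← mul_assoc, mul_vecMulVec, trace_vecMulVec, dotProduct_comm, mulVec_mulVec]
  have h2 : (A * (B * vecMulVec v f)).trace = f ⬝ᵥ (A *ᵥ (B *ᵥ v)) := by
    rw [mul_vecMulVec, mul_vecMulVec, trace_vecMulVec, dotProduct_comm]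
  have h3 : (A * (vecMulVec v f * B * vecMulVec v f)).trace = 0 := by
    rw [mul_assoc, mul_vecMulVec, vecMulVec_mul_vecMulVec, mul_vecMulVec, trace_vecMulVec, dotProduct_smul,
      smul_eq_mul, dotProduct_comm (A *ᵥ v)]
    exact h
  simp only [add_mul, one_mul, mul_sub, mul_add, mul_one, trace_sub, trace_add, h1, h2, h3, dotProduct_sub,
    sub_zero]
  abel

/-- A pair of conjugates whose product can be given any trace. -/
theorem exists_good (hd : 3 ≤ d) (A B : Matrix.SpecialLinearGroup (Fin d) F) (hA : A ∉ Subgroup.center (Matrix.SpecialLinearGroup (Fin d) F))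
    (hB : B ∉ Subgroup.center (Matrix.SpecialLinearGroup (Fin d) F)) (t : F) :
    ∃ g : Matrix.SpecialLinearGroup (Fin d) F,
      ((A * (g * B * g⁻¹) : Matrix.SpecialLinearGroup (Fin d) F) : Matrix (Fin d) (Fin d) F).trace = t := by
  have hex : ∀ X : Matrix.SpecialLinearGroup (Fin d) F, X ∉ Subgroup.center (Matrix.SpecialLinearGroup (Fin d) F) →
      ∃ v : Fin d → F, LinearIndependent F ![v, (X : Matrix (Fin d) (Fin d) F) *ᵥ v] := by
    intro X hX
    by_contra hno
    simp only [not_exists] at hno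
    obtain ⟨a, ha⟩ := LinearMap.exists_eq_smul_id_of_forall_notLinearIndependent
      (f := Matrix.toLin' (X : Matrix (Fin d) (Fin d) F)) fun v => by simpa using hno v
    have hm : (X : Matrix (Fin d) (Fin d) F) = scalar (Fin d) a := by
      apply Matrix.toLin'.injective
      ext u
      simp [ha, scalar_apply, Pi.single_apply]
    refine hX (Matrix.SpecialLinearGroup.mem_center_iff.2 ⟨a, ?_, hm.symm⟩)
    have h1 := X.2
    rw [hm, scalar_apply, det_diagonal, Finset.prod_const, Finset.card_univ] at h1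
    exact h1
  obtain ⟨v, hv⟩ := hex A hA
  obtain ⟨x, hx⟩ := hex B hB
  have hspan : ∀ a b c : Fin d → F, c ∈ Submodule.span F ({a, b} : Set (Fin d → F)) ↔
      ∃ r s : F, r • a + s • b = c := fun a b c => Submodule.mem_span_pair
  obtain ⟨w, hw⟩ : ∃ w, w ∉ Submodule.span F ({v, (A : Matrix (Fin d) (Fin d) F) *ᵥ v} : Set (Fin d → F)) := by
    by_contra h
    simp only [not_exists, not_not] at h
    have htop : Submodule.span F ({v, (A : Matrix (Fin d) (Fin d) F) *ᵥ v} : Set (Fin d → F)) = ⊤ :=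
      eq_top_iff.2 fun a _ => h a
    have h1 := finrank_span_eq_card hv
    rw [show Set.range ![v, (A : Matrix (Fin d) (Fin d) F) *ᵥ v] = {v, (A : Matrix (Fin d) (Fin d) F) *ᵥ v} by
      simp [Matrix.range_cons, Matrix.range_empty, Set.pair_comm]] at h1
    rw [htop, finrank_top, Module.finrank_fin_fun, Fintype.card_fin] at h1
    omega
  have hvw : LinearIndependent F ![v, w] := by
    rw [LinearIndependent.pair_iff]
    intro r s hrs
    by_cases hs : s = 0
    · subst hs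
      rw [zero_smul, add_zero] at hrs
      exact ⟨(LinearIndependent.pair_iff.1 hv r 0 (by rw [zero_smul, add_zero, hrs])).1, rfl⟩
    · refine absurd ((hspan _ _ _).2 ⟨-(s⁻¹ * r), 0, ?_⟩) hw
      calc (-(s⁻¹ * r)) • v + (0 : F) • ((A : Matrix (Fin d) (Fin d) F) *ᵥ v)
          = s⁻¹ • (-(r • v)) := by simp [mul_smul]
        _ = s⁻¹ • (s • w) := by rw [neg_eq_of_add_eq_zero_right hrs]
        _ = w := inv_smul_smul₀ hs w
  obtain ⟨g, hgx, hgy⟩ := exists_SL_pair hd x _ v w hx hvw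
  set Am : Matrix (Fin d) (Fin d) F := (A : Matrix (Fin d) (Fin d) F) with hAm
  have hB0 : ((g * B * g⁻¹ : Matrix.SpecialLinearGroup (Fin d) F) : Matrix (Fin d) (Fin d) F) *ᵥ v = w := by
    rw [← hgx, mulVec_mulVec, ← Matrix.SpecialLinearGroup.coe_mul, inv_mul_cancel_right, Matrix.SpecialLinearGroup.coe_mul,
      ← mulVec_mulVec, hgy]
  obtain ⟨g, hgv, hC⟩ : ∃ g : Matrix.SpecialLinearGroup (Fin d) F,
      ((g * B * g⁻¹ : Matrix.SpecialLinearGroup (Fin d) F) : Matrix (Fin d) (Fin d) F) *ᵥ v = w ∧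
      ∀ r : F, ((g * B * g⁻¹ : Matrix.SpecialLinearGroup (Fin d) F) : Matrix (Fin d) (Fin d) F) *ᵥ (Am *ᵥ v) -
        Am *ᵥ (((g * B * g⁻¹ : Matrix.SpecialLinearGroup (Fin d) F) : Matrix (Fin d) (Fin d) F) *ᵥ v) ≠ r • v := by
    set B0 : Matrix.SpecialLinearGroup (Fin d) F := g * B * g⁻¹ with hB0'
    by_cases hgood : ∀ r : F, (B0 : Matrix (Fin d) (Fin d) F) *ᵥ (Am *ᵥ v) -
        Am *ᵥ ((B0 : Matrix (Fin d) (Fin d) F) *ᵥ v) ≠ r • v
    · exact ⟨g, hB0, hgood⟩
    simp only [not_forall, not_not] at hgood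
    obtain ⟨α, hα⟩ := hgood
    have hAv : Am *ᵥ v ∉ Submodule.span F ({v, w} : Set (Fin d → F)) := by
      intro h
      obtain ⟨r, s, hrs⟩ := (hspan _ _ _).1 h
      by_cases hs : s = 0
      · subst hs
        rw [zero_smul, add_zero] at hrs
        exact one_ne_zero (neg_eq_zero.1 (LinearIndependent.pair_iff.1 hv r (-1) (by rw [← hrs]; simp)).2)
      · refine hw ((hspan _ _ _).2 ⟨-(s⁻¹ * r), s⁻¹, ?_⟩)
        calc (-(s⁻¹ * r)) • v + s⁻¹ • (Am *ᵥ v) = s⁻¹ • (Am *ᵥ v - r • v) := by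
              simp [smul_sub, mul_smul]; abel
          _ = s⁻¹ • (s • w) := by rw [← hrs, add_sub_cancel_left]
          _ = w := inv_smul_smul₀ hs w
    obtain ⟨f, hfv, hfw, hfA⟩ := exists_dot v w _ hAv
    obtain ⟨T, hT, hTi⟩ := exists_transvection v f hfv
    have hconj : ((T * g * B * (T * g)⁻¹ : Matrix.SpecialLinearGroup (Fin d) F) : Matrix (Fin d) (Fin d) F) =
        (T : Matrix (Fin d) (Fin d) F) * (B0 : Matrix (Fin d) (Fin d) F) *
          ((T⁻¹ : Matrix.SpecialLinearGroup (Fin d) F) : Matrix (Fin d) (Fin d) F) := by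
      rw [← Matrix.SpecialLinearGroup.coe_mul, ← Matrix.SpecialLinearGroup.coe_mul]
      congr 1
      simp only [hB0', _root_.mul_inv_rev, mul_assoc]
      first | done | rfl
    have hTv : ∀ u, (T : Matrix (Fin d) (Fin d) F) *ᵥ u = u + (f ⬝ᵥ u) • v := fun u => by
      rw [hT, add_mulVec, one_mulVec, vecMulVec_mulVec, op_smul_eq_smul]
    have hTiv : ∀ u, ((T⁻¹ : Matrix.SpecialLinearGroup (Fin d) F) : Matrix (Fin d) (Fin d) F) *ᵥ u = u - (f ⬝ᵥ u) • v :=
      fun u => by rw [hTi, sub_mulVec, one_mulVec, vecMulVec_mulVec, op_smul_eq_smul]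
    have hnv : ((T * g * B * (T * g)⁻¹ : Matrix.SpecialLinearGroup (Fin d) F) : Matrix (Fin d) (Fin d) F) *ᵥ v = w := by
      rw [hconj, ← mulVec_mulVec, ← mulVec_mulVec, hTiv, hfv, zero_smul, sub_zero, hB0, hTv, hfw, zero_smul, add_zero]
    refine ⟨T * g, hnv, fun r hr => ?_⟩
    rw [hnv, hconj, ← mulVec_mulVec, ← mulVec_mulVec, hTiv, hfA, one_smul, mulVec_sub, hB0, hTv] at hr
    set c := f ⬝ᵥ ((B0 : Matrix (Fin d) (Fin d) F) *ᵥ (Am *ᵥ v) - w) with hc
    rw [hB0] at hα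
    have hw' : w = (α + c - r) • v := by
      rw [sub_smul, add_smul, ← hα, ← hr]
      abel
    exact hw ((hspan _ _ _).2 ⟨α + c - r, 0, by rw [zero_smul, add_zero, ← hw']⟩)
  set B1 : Matrix.SpecialLinearGroup (Fin d) F := g * B * g⁻¹ with hB1
  set C := (B1 : Matrix (Fin d) (Fin d) F) *ᵥ (Am *ᵥ v) - Am *ᵥ ((B1 : Matrix (Fin d) (Fin d) F) *ᵥ v) with hCdef
  obtain ⟨f, hfv, hprod, hfC⟩ : ∃ f : Fin d → F, f ⬝ᵥ v = 0 ∧
      (f ⬝ᵥ ((B1 : Matrix (Fin d) (Fin d) F) *ᵥ v)) * (f ⬝ᵥ (Am *ᵥ v)) = 0 ∧ f ⬝ᵥ C = 1 := by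
    by_cases h1 : C ∈ Submodule.span F ({v, w} : Set (Fin d → F))
    · have h2 : C ∉ Submodule.span F ({v, Am *ᵥ v} : Set (Fin d → F)) := by
        intro h2
        obtain ⟨r, s, hrs⟩ := (hspan _ _ _).1 h1
        obtain ⟨r', s', hrs'⟩ := (hspan _ _ _).1 h2
        by_cases hs : s = 0
        · subst hs
          rw [zero_smul, add_zero] at hrs
          exact hC r hrs.symm
        · refine hw ((hspan _ _ _).2 ⟨s⁻¹ * (r' - r), s⁻¹ * s', ?_⟩)
          calc (s⁻¹ * (r' - r)) • v + (s⁻¹ * s') • (Am *ᵥ v)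
              = s⁻¹ • ((r' • v + s' • (Am *ᵥ v)) - r • v) := by
                simp [mul_smul, sub_smul, smul_sub]; abel
            _ = s⁻¹ • (s • w) := by rw [hrs', ← hrs, add_sub_cancel_left]
            _ = w := inv_smul_smul₀ hs w
      obtain ⟨f, a, b, c⟩ := exists_dot v _ C h2
      exact ⟨f, a, by rw [b, mul_zero], c⟩
    · obtain ⟨f, a, b, c⟩ := exists_dot v w C h1
      exact ⟨f, a, by rw [hgv, b, zero_mul], c⟩
  set s := t - ((A : Matrix (Fin d) (Fin d) F) * (B1 : Matrix (Fin d) (Fin d) F)).trace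
  obtain ⟨T, hT, hTi⟩ := exists_transvection v (s • f) (by rw [smul_dotProduct, hfv, smul_zero])
  refine ⟨T * g, ?_⟩
  have hconj : A * (T * g * B * (T * g)⁻¹) = A * (T * B1 * T⁻¹) := by rw [hB1]; group
  rw [hconj, Matrix.SpecialLinearGroup.coe_mul, Matrix.SpecialLinearGroup.coe_mul, Matrix.SpecialLinearGroup.coe_mul, hT, hTi,
    trace_conj_transvection _ _ v (s • f) (by rw [smul_dotProduct, smul_dotProduct, smul_eq_mul, smul_eq_mul]; rw [← hAm] ; linear_combination (s * s) * hprod)]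
  rw [smul_dotProduct, ← hAm, ← hCdef, hfC, smul_eq_mul, mul_one]
  simp [s, hAm]

end

/-- Let F be a finite field and d ≥ 3, and let a, b be non-identity elements of PSL_d(F). Then the product of the conjugacy classes of a and b is not a single conjugacy class: there are conjugates a′ of a and b′ of b such that a′b′ is not conjugate to ab. -/
theorem result {F : Type*} [Field F] [Fintype F] (d : ℕ) (hd : 3 ≤ d)
    (a b : Matrix.ProjectiveSpecialLinearGroup (Fin d) F) (ha : a ≠ 1) (hb : b ≠ 1) :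
    ∃ g h : Matrix.ProjectiveSpecialLinearGroup (Fin d) F, ¬ IsConj (a * b) (g * a * g⁻¹ * (h * b * h⁻¹)) := by
  by_contra hne
  simp only [not_exists, not_not] at hne
  obtain ⟨A, rfl⟩ := QuotientGroup.mk'_surjective _ a
  obtain ⟨B, rfl⟩ := QuotientGroup.mk'_surjective _ b
  have hA : A ∉ Subgroup.center (Matrix.SpecialLinearGroup (Fin d) F) := fun h => ha ((QuotientGroup.eq_one_iff _).2 h)
  have hB : B ∉ Subgroup.center (Matrix.SpecialLinearGroup (Fin d) F) := fun h => hb ((QuotientGroup.eq_one_iff _).2 h)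
  have key : ∀ g : Matrix.SpecialLinearGroup (Fin d) F, ∃ r : F, r ≠ 0 ∧
      ((A * (g * B * g⁻¹) : Matrix.SpecialLinearGroup (Fin d) F) : Matrix (Fin d) (Fin d) F).trace =
        r * ((A * B : Matrix.SpecialLinearGroup (Fin d) F) : Matrix (Fin d) (Fin d) F).trace := by
    intro g
    obtain ⟨c, hc⟩ := isConj_iff.1 (hne 1 (QuotientGroup.mk' _ g))
    obtain ⟨C, rfl⟩ := QuotientGroup.mk'_surjective _ c
    rw [one_mul, inv_one, mul_one, ← map_inv, ← map_inv, ← map_mul, ← map_mul, ← map_mul, ← map_mul, ← map_mul,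
      ← map_mul] at hc
    have hz := (QuotientGroup.eq.1 hc)
    obtain ⟨r, hr, hsc⟩ := Matrix.SpecialLinearGroup.mem_center_iff.1 hz
    refine ⟨r, fun h => by rw [h, Fintype.card_fin, zero_pow (by omega)] at hr; exact zero_ne_one hr, ?_⟩
    have heq : A * (g * B * g⁻¹) = C * (A * B) * C⁻¹ * ((C * (A * B) * C⁻¹)⁻¹ * (A * (g * B * g⁻¹))) := by group
    rw [heq, Matrix.SpecialLinearGroup.coe_mul, ← hsc, scalar_apply, ← smul_eq_mul_diagonal, trace_smul,
      Matrix.SpecialLinearGroup.coe_mul, trace_mul_comm, ← Matrix.SpecialLinearGroup.coe_mul, smul_eq_mul]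
    congr 2
    group
  obtain ⟨g₀, hg₀⟩ := exists_good hd A B hA hB 0
  obtain ⟨g₁, hg₁⟩ := exists_good hd A B hA hB 1
  obtain ⟨r₀, hr₀, h₀⟩ := key g₀
  obtain ⟨r₁, -, h₁⟩ := key g₁
  rw [hg₀] at h₀
  rw [hg₁, (mul_eq_zero.1 h₀.symm).resolve_left hr₀, mul_zero] at h₁
  exact one_ne_zero h₁

end Cfsg.Agent.S2272
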