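import Cfsg.Statements.S2276
import Cfsg.Agent.Lib.Perm.CycleProduct.Main
-- import your own Cfsg.Agent.* helpers here

set_option autoImplicit false
open Cfsg

namespace Cfsg.Agent.S2276

/-- Let n ≥ 5, p ≥ 3 a prime, and u, w non-identity elements of p-power order in the alternating group A_n. Then there is g ∈ A_n such that u·(g w g⁻¹) does not have p-power order and ⟨u, g w g⁻¹⟩ is not solvable. -/
theorem result (n : ℕ) (hn : 5 ≤ n) (p : ℕ) (hp : p.Prime) (hp3 : 3 ≤ p) (u w : alternatingGroup (Fin n)) (hu : u ≠ 1) (hw : w ≠ 1)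
    (hu' : ∃ k : ℕ, orderOf u = p ^ k) (hw' : ∃ k : ℕ, orderOf w = p ^ k) :
    ∃ g : alternatingGroup (Fin n), (¬ ∃ k : ℕ, orderOf (u * (g * w * g⁻¹)) = p ^ k) ∧
      ¬ Group.IsSolvable ↥(Subgroup.closure ({u, g * w * g⁻¹} : Set (alternatingGroup (Fin n)))) := by
  obtain ⟨d, hd⟩ := hu'
  obtain ⟨e, he⟩ := hw'
  have hcard : 5 ≤ Fintype.card (Fin n) := by simpa using hn
  have key : ∀ g : alternatingGroup (Fin n), Cfsg.Agent.Perm.CycleProduct.Good p u (g * w * g⁻¹) →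
      ∃ g : alternatingGroup (Fin n), (¬ ∃ k : ℕ, orderOf (u * (g * w * g⁻¹)) = p ^ k) ∧
      ¬ Group.IsSolvable ↥(Subgroup.closure ({u, g * w * g⁻¹} : Set (alternatingGroup (Fin n)))) :=
    fun g hg => ⟨g, fun ⟨k, hk⟩ => hg.1 k hk, hg.2⟩
  rcases Cfsg.Agent.Perm.CycleProduct.exists_conj_alternating hcard hp hp3
    (u := (u : Equiv.Perm (Fin n))) (w := (w : Equiv.Perm (Fin n)))
    (by simpa using hu) (by simpa using hw)
    ((Subgroup.orderOf_coe u).trans hd) ((Subgroup.orderOf_coe w).trans he) with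
    ⟨g, hg, hgood⟩ | ⟨g, hg, hgood⟩
  · refine key ⟨g, Equiv.Perm.mem_alternatingGroup.2 hg⟩ ?_
    exact Cfsg.Agent.Perm.CycleProduct.Good.of_map hp (alternatingGroup (Fin n)).subtype hgood
  · refine key (⟨g, Equiv.Perm.mem_alternatingGroup.2 hg⟩ : alternatingGroup (Fin n))⁻¹ ?_
    refine Cfsg.Agent.Perm.CycleProduct.Good.of_map hp (alternatingGroup (Fin n)).subtype ?_
    simpa using Cfsg.Agent.Perm.CycleProduct.Good.symm hp hgood

end Cfsg.Agent.S2276
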