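import Cfsg.Statements.S2277
import Cfsg.Agent.SimpleFacts.TwoCentralizers
import Cfsg.Agent.Lib.Coprime.Sylow
import Cfsg.Agent.Lib.Coprime.Commutator
import Cfsg.Agent.Lib.Components.Factorization
import Cfsg.Agent.Lib.Hall.Product

set_option autoImplicit false
open Cfsg

namespace Cfsg.Agent.S2277

open Subgroup
open scoped Pointwise

theorem sylOf_of_sylow {G : Type*} [Group G] [Finite G] {r : ℕ} [Fact r.Prime] {K : Subgroup G}
    (S : Sylow r K) : Components.Factorization.IsSylOf r ((S : Subgroup K).map K.subtype) K :=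
  ⟨map_subtype_le _, by rw [card_map_of_injective K.subtype_injective, S.card_eq_multiplicity]⟩


/-- Let p ≥ 3 be prime and G a finite group with a Sylow p-subgroup P and a normal p-complement N (N normal, of order prime to p, with NP = G). Suppose P is generated by a subset C and also by a subset D, and that ⟨x c x⁻¹, d⟩ is a p-group for all x ∈ N, c ∈ C, d ∈ D. Then P centralizes N, so that G = N × P. -/
theorem result {G : Type*} [Group G] [Finite G] (p : ℕ) [Fact p.Prime] (hp3 : 3 ≤ p) (P : Sylow p G)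
    (N : Subgroup G) [N.Normal] (hN : (Nat.card N).Coprime p) (hNP : N ⊔ (P : Subgroup G) = ⊤)
    (C D : Set G) (hC : Subgroup.closure C = (P : Subgroup G)) (hD : Subgroup.closure D = (P : Subgroup G))
    (h : ∀ x ∈ N, ∀ c ∈ C, ∀ d ∈ D, IsPGroup p ↥(Subgroup.closure ({x * c * x⁻¹, d} : Set G))) :
    ⁅(P : Subgroup G), N⁆ = ⊥ := by
  have hp : p.Prime := Fact.out
  have hp2 : p ≠ 2 := by omega
  have hPN : ((P : Subgroup G) : Subgroup G) ≤ Subgroup.normalizer (N : Set G) := by
    rw [Subgroup.normalizer_eq_top]; exact le_top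
  have hsolP : Group.IsSolvable (P : Subgroup G) := Coprime.isSolvable_of_isPGroup P.isPGroup'
  obtain ⟨e, hPcard⟩ := IsPGroup.iff_card.1 P.isPGroup'
  have hcop : (Nat.card (P : Subgroup G)).Coprime (Nat.card N) := by
    rw [hPcard]; exact hN.symm.pow_left e
  have hCP : ∀ c ∈ C, c ∈ (P : Subgroup G) := fun c hc => hC ▸ Subgroup.subset_closure hc
  have hDP : ∀ d ∈ D, d ∈ (P : Subgroup G) := fun d hd => hD ▸ Subgroup.subset_closure hd
  have hinf : ∀ g, g ∈ N → g ∈ (P : Subgroup G) → g = 1 := fun g hg hgP =>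
    Subgroup.disjoint_def.1 (Coprime.disjoint_of_coprime hcop.symm) hg hgP
  -- `N` is the product of the two centralisers
  have hfac : ∀ x ∈ N, ∀ c ∈ C, ∀ d ∈ D, ∃ u ∈ N ⊓ Subgroup.centralizer {d},
      ∃ v ∈ N ⊓ Subgroup.centralizer {c}, x = u * v := by
    intro x hx c hc d hd
    obtain ⟨Q, hQ⟩ := (h x hx c hc d hd).exists_le_sylow
    obtain ⟨g, hg⟩ := MulAction.exists_smul_eq G P Q
    obtain ⟨y, hy, r, hr, rfl⟩ := Subgroup.mem_sup_of_normal_left.1 (hNP ▸ Subgroup.mem_top g)
    have hmem : ∀ z ∈ ({x * c * x⁻¹, d} : Set G), y⁻¹ * z * y ∈ (P : Subgroup G) := by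
      intro z hz
      have hz' := hQ (Subgroup.subset_closure hz)
      rw [← hg] at hz'
      have : r⁻¹ * (y⁻¹ * z * y) * r ∈ (P : Subgroup G) := by
        have h1 := Coprime.mem_conj_smul.1 hz'
        rwa [mul_inv_rev, show r⁻¹ * y⁻¹ * z * (y * r) = r⁻¹ * (y⁻¹ * z * y) * r by group] at h1
      have h2 := mul_mem (mul_mem hr this) (inv_mem hr)
      rwa [show r * (r⁻¹ * (y⁻¹ * z * y) * r) * r⁻¹ = y⁻¹ * z * y by group] at h2
    have key : ∀ w ∈ N, ∀ z ∈ (P : Subgroup G), w⁻¹ * z * w ∈ (P : Subgroup G) →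
        w ∈ N ⊓ Subgroup.centralizer {z} := by
      intro w hw z hz h1
      refine ⟨hw, Subgroup.mem_centralizer_singleton_iff.2 ?_⟩
      have h2 : z⁻¹ * (w⁻¹ * z * w) = 1 := by
        refine hinf _ ?_ (mul_mem (inv_mem hz) h1)
        rw [show z⁻¹ * (w⁻¹ * z * w) = (z⁻¹ * w⁻¹ * z⁻¹⁻¹) * w by group]
        exact mul_mem (Subgroup.Normal.conj_mem inferInstance _ (inv_mem hw) _) hw
      calc w * z = w * (z * (z⁻¹ * (w⁻¹ * z * w))) := by rw [h2, mul_one]
        _ = z * w := by group
    refine ⟨y, key y hy d (hDP d hd) (hmem d (Or.inr rfl)), y⁻¹ * x, ?_, by group⟩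
    refine ⟨N.mul_mem (N.inv_mem hy) hx, ?_⟩
    have h1 := hmem _ (Or.inl rfl)
    have h2 : x⁻¹ * y ∈ Subgroup.centralizer ({c} : Set G) := (key (x⁻¹ * y) (mul_mem (inv_mem hx) hy) c (hCP c hc) (by
      rwa [show (x⁻¹ * y)⁻¹ * c * (x⁻¹ * y) = y⁻¹ * (x * c * x⁻¹) * y by group])).2
    have h3 := (Subgroup.centralizer ({c} : Set G)).inv_mem h2
    rwa [show (x⁻¹ * y)⁻¹ = y⁻¹ * x by group] at h3
  -- each invariant Sylow subgroup is centralised
  have hsyl : ∀ (r : ℕ), r.Prime → ∃ R : Subgroup G, Components.Factorization.IsSylOf r R N ∧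
      (P : Subgroup G) ≤ Subgroup.centralizer (R : Set G) := by
    intro r hr
    haveI : Fact r.Prime := ⟨hr⟩
    obtain ⟨S, hS⟩ := Coprime.exists_invariant_sylow r hPN hcop (Or.inl hsolP)
    set R := (S : Subgroup N).map N.subtype with hRdef
    have hR : Components.Factorization.IsSylOf r R N := sylOf_of_sylow S
    refine ⟨R, hR, ?_⟩
    have hRp : IsPGroup r R := Components.Factorization.isSylOf_isPGroup hR
    haveI hnilR : Group.IsNilpotent R := hRp.isNilpotent
    have hfix : ∀ a ∈ (P : Subgroup G), Components.Factorization.IsSylOf r (R ⊓ Subgroup.centralizer {a})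
        (N ⊓ Subgroup.centralizer {a}) := by
      intro a ha
      haveI : IsMulCommutative (Subgroup.zpowers a) := inferInstance
      exact Components.Factorization.isSylOf_fixed (le_trans (Subgroup.zpowers_le.2 ha) hPN)
        (hcop.coprime_dvd_left (Subgroup.card_dvd_of_le (Subgroup.zpowers_le.2 ha))) hR
        (le_trans (Subgroup.zpowers_le.2 ha) hS) (Subgroup.mem_zpowers a)
    have hRfac : ∀ x ∈ R, ∀ c ∈ C, ∀ d ∈ D, ∃ u ∈ R ⊓ Subgroup.centralizer {d},
        ∃ v ∈ R ⊓ Subgroup.centralizer {c}, x = u * v := by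
      intro x hx c hc d hd
      set U := R ⊓ Subgroup.centralizer ({d} : Set G) with hU
      set W := R ⊓ Subgroup.centralizer ({c} : Set G) with hW
      set U' := N ⊓ Subgroup.centralizer ({d} : Set G) with hU'
      set W' := N ⊓ Subgroup.centralizer ({c} : Set G) with hW'
      have hsub : ((U : Set G) * (W : Set G)) ⊆ (R : Set G) := by
        rintro _ ⟨u, hu, v, hv, rfl⟩; exact mul_mem hu.1 hv.1
      have hN' : ((U' : Set G) * (W' : Set G)) = (N : Set G) := by
        refine Set.Subset.antisymm ?_ fun z hz => ?_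
        · rintro _ ⟨u, hu, v, hv, rfl⟩; exact mul_mem hu.1 hv.1
        · obtain ⟨u, hu, v, hv, e⟩ := hfac z hz c hc d hd
          exact ⟨u, hu, v, hv, e.symm⟩
      have h1 := Hall.card_mul_inf U' W'
      rw [hN'] at h1
      have h2 := Hall.card_mul_inf U W
      have h3 := congrArg (fun n => r ^ n.factorization r) h1
      simp only [Nat.factorization_mul Nat.card_pos.ne' Nat.card_pos.ne', Finsupp.coe_add,
        Pi.add_apply, pow_add] at h3
      rw [← (hfix d (hDP d hd)).2, ← (hfix c (hCP c hc)).2, ← h2] at h3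
      have h4 : Nat.card ↥(U ⊓ W) ≤ r ^ (Nat.card ↥(U' ⊓ W')).factorization r :=
        Components.Factorization.card_le_of_isPGroup (hRp.to_le (inf_le_left.trans inf_le_left))
          (inf_le_inf (inf_le_inf_right _ hR.1) (inf_le_inf_right _ hR.1))
      have hR2 := hR.2
      rw [show Nat.card ↥N = Nat.card ↥(N : Set G) from rfl] at hR2
      rw [← hR2] at h3
      have h5 : Nat.card R ≤ Nat.card ↥((U : Set G) * (W : Set G)) := by
        refine Nat.le_of_mul_le_mul_right ?_ (pow_pos hr.pos ((Nat.card ↥(U' ⊓ W')).factorization r))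
        rw [h3]
        exact Nat.mul_le_mul_left _ h4
      have heq : (U : Set G) * (W : Set G) = (R : Set G) := by
        refine Set.eq_of_subset_of_ncard_le hsub ?_
        rw [← Nat.card_coe_set_eq, ← Nat.card_coe_set_eq]
        exact h5
      obtain ⟨u, hu, v, hv, e⟩ := (heq ▸ hx : x ∈ (U : Set G) * (W : Set G))
      exact ⟨u, hu, v, hv, e.symm⟩
    -- the action on the abelianisation
    let conj₀ : (P : Subgroup G) →* MulAut R :=
      (Subgroup.normalizerMonoidHom R).comp (Subgroup.inclusion hS)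
    have hconj₀ : ∀ (a : (P : Subgroup G)) (x : R), ((conj₀ a x : R) : G) = a * x * (a : G)⁻¹ :=
      fun a x => rfl
    let ρ : (P : Subgroup G) →* AddMonoid.End (Additive (Abelianization R)) :=
      { toFun := fun a => MonoidHom.toAdditive (Abelianization.map (conj₀ a).toMonoidHom)
        map_one' := by
          refine AddMonoidHom.ext fun x => ?_
          obtain ⟨y, rfl⟩ := QuotientGroup.mk_surjective (Additive.toMul x)
          simp
          rfl
        map_mul' := fun a b => by
          refine AddMonoidHom.ext fun x => ?_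
          show Additive.ofMul _ = Additive.ofMul _
          congr 1
          obtain ⟨y, hy⟩ := QuotientGroup.mk_surjective (Additive.toMul x)
          simp [← hy, map_mul]
          rfl }
    have hρ : ∀ (a : (P : Subgroup G)) (x : R), ρ a (Additive.ofMul (Abelianization.of x)) =
        Additive.ofMul (Abelianization.of (conj₀ a x)) := fun a x => rfl
    have hclos : ∀ {T : Set G}, Subgroup.closure T = (P : Subgroup G) →
        Subgroup.closure ((Subtype.val : ↥(P : Subgroup G) → G) ⁻¹' T) = ⊤ := by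
      intro T hT
      apply Subgroup.map_injective (P : Subgroup G).subtype_injective
      rw [MonoidHom.map_closure, ← MonoidHom.range_eq_map, Subgroup.range_subtype,
        Subgroup.coe_subtype, Set.image_preimage_eq_of_subset, hT]
      intro t ht
      exact ⟨⟨t, hT ▸ Subgroup.subset_closure ht⟩, rfl⟩
    have hcopR : (Nat.card (Additive (Abelianization R))).Coprime p :=
      (hN.coprime_dvd_left (Subgroup.card_dvd_of_le hR.1)).coprime_dvd_left
        (Subgroup.card_quotient_dvd_card _)
    haveI : Finite (Additive (Abelianization R)) := inferInstanceAs (Finite (R ⧸ commutator R))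
    have htriv := SimpleFacts.TwoCentralizers.trivial_of_sum (p := p) hp2 _ rfl P.isPGroup' hcopR ρ
      _ _ (hclos hC) (hclos hD) (by
        intro c hc d hd x
        obtain ⟨y, hy⟩ := QuotientGroup.mk_surjective (Additive.toMul x)
        obtain ⟨u, hu, v, hv, e⟩ := hRfac y y.2 (c : G) hc (d : G) hd
        have hfx : ∀ (a : (P : Subgroup G)) (w : G) (hw : w ∈ R ⊓ Subgroup.centralizer {(a : G)}),
            conj₀ a ⟨w, hw.1⟩ = ⟨w, hw.1⟩ := fun a w hw => Subtype.ext (by
          rw [hconj₀]
          show (a : G) * w * (a : G)⁻¹ = w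
          rw [← Subgroup.mem_centralizer_singleton_iff.1 hw.2, mul_inv_cancel_right])
        refine ⟨Additive.ofMul (Abelianization.of ⟨u, hu.1⟩),
          Additive.ofMul (Abelianization.of ⟨v, hv.1⟩), ?_, ?_, ?_⟩
        · rw [hρ, hfx d u hu]
        · rw [hρ, hfx c v hv]
        · rw [← ofMul_mul, ← map_mul]
          exact congrArg Additive.ofMul (hy.symm.trans (congrArg Abelianization.of (Subtype.ext e))))
    have hle : ⁅R, (P : Subgroup G)⁆ ≤ ⁅R, R⁆ := by
      refine Subgroup.commutator_le.2 fun x hx a ha => ?_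
      have h1 := htriv ⟨a, ha⟩ (Additive.ofMul (Abelianization.of (⟨x, hx⟩ : R)))
      rw [hρ] at h1
      have h2 : (⟨x, hx⟩ : R) * (conj₀ ⟨a, ha⟩ ⟨x, hx⟩)⁻¹ ∈ commutator R := by
        rw [← Abelianization.ker_of, MonoidHom.mem_ker, map_mul, map_inv,
          Additive.ofMul.injective h1, mul_inv_cancel]
      have h3 := Subgroup.mem_map_of_mem R.subtype h2
      rw [_root_.commutator_def, Subgroup.map_commutator, ← MonoidHom.range_eq_map, Subgroup.range_subtype] at h3
      rw [commutatorElement_def, show x * a * x⁻¹ * a⁻¹ = x * (a * x * a⁻¹)⁻¹ by group]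
      exact h3
    have hcopR' := hcop.coprime_dvd_right (Subgroup.card_dvd_of_le hR.1)
    have hsup := Coprime.commutator_sup_inf_centralizer hS hcopR' (Or.inl hsolP)
    have heq := Coprime.eq_of_le_of_sup_commutator_eq
      (inf_le_left : R ⊓ Subgroup.centralizer ((P : Subgroup G) : Set G) ≤ R)
      (le_antisymm (sup_le inf_le_left
        (Coprime.commutator_le_of_le_normalizer Subgroup.le_normalizer))
        (le_trans hsup.ge (sup_le (hle.trans le_sup_right) le_sup_left)))
    exact Subgroup.le_centralizer_iff.1 (inf_eq_left.1 heq)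
  set T := N ⊓ Subgroup.centralizer ((P : Subgroup G) : Set G) with hT
  have hTN : T = N := by
    refine Subgroup.eq_of_le_of_card_ge inf_le_left (Nat.le_of_dvd Nat.card_pos ?_)
    refine (Nat.dvd_iff_prime_pow_dvd_dvd _ _).2 fun r k hr hk => ?_
    obtain ⟨R, hR, hPR⟩ := hsyl r hr
    refine dvd_trans ?_ (Subgroup.card_dvd_of_le (show R ≤ T from
      le_inf hR.1 (Subgroup.le_centralizer_iff.1 hPR)))
    rw [hR.2]
    exact pow_dvd_pow r ((hr.pow_dvd_iff_le_factorization Nat.card_pos.ne').1 hk)
  rw [Subgroup.commutator_eq_bot_iff_le_centralizer]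
  exact Subgroup.le_centralizer_iff.1 (inf_eq_left.1 hTN)

end Cfsg.Agent.S2277
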