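import Cfsg.Statements.S2278
import Cfsg.Agent.Lib.Classical.SL3TwoGen
import Cfsg.Agent.Lib.Classical.SL3TwoGenSmall

set_option autoImplicit false
open Cfsg

namespace Cfsg.Agent.S2278

/-- Let F be a finite field. Then SL_3(F) is generated by two conjugate regular unipotent elements: there are u with u − 1 nilpotent and (u − 1)² ≠ 0, and g, such that u and g u g⁻¹ generate SL_3(F). -/
theorem result {F : Type*} [Field F] [Fintype F] :
    ∃ u g : Matrix.SpecialLinearGroup (Fin 3) F, IsNilpotent ((u : Matrix (Fin 3) (Fin 3) F) - 1) ∧ ((u : Matrix (Fin 3) (Fin 3) F) - 1) ^ (3 - 1) ≠ 0 ∧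
      Subgroup.closure ({u, g * u * g⁻¹} : Set (Matrix.SpecialLinearGroup (Fin 3) F)) = ⊤ := by
  classical
  by_cases hsmall : Fintype.card F = 2 ∨ Fintype.card F = 4
  · have h2 : (2 : F) = 0 := by
      have h := FiniteField.cast_card_eq_zero F
      rcases hsmall with e | e <;> rw [e] at h <;> push_cast at h
      · exact h
      · exact mul_self_eq_zero.1 (by linear_combination h)
    obtain ⟨w, hw, hall⟩ : ∃ w : F, (w = 0 ∨ w * w = w + 1) ∧
        ∀ t : F, t = 0 ∨ t = 1 ∨ t = w ∨ t = w + 1 := by
      rcases hsmall with e | e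
      · refine ⟨0, Or.inl rfl, fun t => ?_⟩
        have hu : ({0, 1} : Finset F) = Finset.univ :=
          Finset.eq_univ_of_card _ (by rw [Finset.card_pair zero_ne_one, e])
        have ht := Finset.mem_univ t
        rw [← hu] at ht
        simp only [Finset.mem_insert, Finset.mem_singleton] at ht
        tauto
      · obtain ⟨w, hw0, hw1⟩ : ∃ w : F, w ≠ 0 ∧ w ≠ 1 := by
          obtain ⟨w, hw⟩ : (Finset.univ \ ({0, 1} : Finset F)).Nonempty := by
            rw [← Finset.card_pos, Finset.card_sdiff_of_subset (Finset.subset_univ _), Finset.card_univ, e,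
              Finset.card_pair zero_ne_one]
            norm_num
          simp only [Finset.mem_sdiff, Finset.mem_univ, true_and, Finset.mem_insert, Finset.mem_singleton,
            not_or] at hw
          exact ⟨w, hw⟩
        have h3 : w ^ 3 = 1 := by
          have h := FiniteField.pow_card_sub_one_eq_one w hw0
          rwa [e] at h
        have hq : w * w + w + 1 = 0 :=
          (mul_eq_zero.1 (show (w - 1) * (w * w + w + 1) = 0 by linear_combination h3)).resolve_left
            (sub_ne_zero.2 hw1)
        refine ⟨w, Or.inr (by linear_combination hq - (w + 1) * h2), fun t => ?_⟩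
        have hp0 : w + 1 ≠ 0 := fun h => hw1 (by linear_combination h - h2)
        have hu : ({0, 1, w, w + 1} : Finset F) = Finset.univ := by
          refine Finset.eq_univ_of_card _ ?_
          rw [Finset.card_insert_of_notMem, Finset.card_insert_of_notMem, Finset.card_pair, e]
          · simpa using fun h : w = w + 1 => one_ne_zero (by linear_combination (-1 : F) * h)
          · simp only [Finset.mem_insert, Finset.mem_singleton, not_or]
            exact ⟨Ne.symm hw1, fun h => hw0 (by linear_combination (-1 : F) * h)⟩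
          · simp only [Finset.mem_insert, Finset.mem_singleton, not_or]
            exact ⟨zero_ne_one, Ne.symm hw0, Ne.symm hp0⟩
        have ht := Finset.mem_univ t
        rw [← hu] at ht
        simpa only [Finset.mem_insert, Finset.mem_singleton] using ht
    obtain ⟨g, hg⟩ := Cfsg.Agent.Classical.SL3TwoGenSmall.main w h2 hw hall
    refine ⟨_, g, ?_, ?_, hg⟩
    · show IsNilpotent ((1 + Cfsg.Agent.Classical.RegUnipotentSL.shiftUp F 2) - 1)
      rw [add_sub_cancel_left]; exact Cfsg.Agent.Classical.RegUnipotentSL.shiftUp_nilpotent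
    · show ((1 + Cfsg.Agent.Classical.RegUnipotentSL.shiftUp F 2) - 1) ^ (3 - 1) ≠ 0
      rw [add_sub_cancel_left]; exact Cfsg.Agent.Classical.RegUnipotentSL.shiftUp_pow_ne_zero
  · have h2 : 2 ≤ Fintype.card F := Fintype.one_lt_card
    obtain ⟨g0, hg0⟩ := IsCyclic.exists_generator (α := Fˣ)
    have hgen : ∀ x : F, x ≠ 0 → ∃ k : ℕ, (g0 : F) ^ k = x := fun x hx => by
      obtain ⟨k, hk⟩ := (mem_powers_iff_mem_zpowers (G := Fˣ)).2 (hg0 (Units.mk0 x hx))
      exact ⟨k, by simpa using congrArg Units.val hk⟩
    have hl3 : (g0 : F) ^ 3 ≠ 1 := by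
      intro h
      have hord : orderOf g0 = Fintype.card F - 1 := by
        rw [orderOf_eq_card_of_forall_mem_zpowers hg0, Nat.card_eq_fintype_card, Fintype.card_units]
      have hd : orderOf g0 ∣ 3 := orderOf_dvd_iff_pow_eq_one.2 (Units.ext (by simpa using h))
      rw [hord] at hd
      rcases (Nat.dvd_prime Nat.prime_three).1 hd with h1 | h1 <;> omega
    exact Cfsg.Agent.Classical.SL3TwoGen.main g0.ne_zero (by
      rcases Nat.lt_or_ge 4 (Fintype.card F) with h | h
      · exact Or.inr h
      · exact Or.inl (by omega)) hgen hl3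

end Cfsg.Agent.S2278
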