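import Cfsg.Statements.S2279
import Cfsg.Agent.Lib.Classical.SLTwoGen

set_option autoImplicit false
open Cfsg

namespace Cfsg.Agent.S2279

/-- Let F be a finite field with q elements and n ≥ 4. Then SL_n(F) is generated by two regular unipotent elements (elements u with u − 1 nilpotent and (u − 1)^(n−1) ≠ 0); if q is prime, the two can be taken conjugate in SL_n(F). -/
theorem result {F : Type*} [Field F] [Fintype F] (n : ℕ) (hn : 4 ≤ n) :
    (∃ u v : Matrix.SpecialLinearGroup (Fin n) F, (IsNilpotent ((u : Matrix (Fin n) (Fin n) F) - 1) ∧ ((u : Matrix (Fin n) (Fin n) F) - 1) ^ (n - 1) ≠ 0) ∧ (IsNilpotent ((v : Matrix (Fin n) (Fin n) F) - 1) ∧ ((v : Matrix (Fin n) (Fin n) F) - 1) ^ (n - 1) ≠ 0) ∧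
      Subgroup.closure ({u, v} : Set (Matrix.SpecialLinearGroup (Fin n) F)) = ⊤) ∧
    ((Fintype.card F).Prime → ∃ u g : Matrix.SpecialLinearGroup (Fin n) F, (IsNilpotent ((u : Matrix (Fin n) (Fin n) F) - 1) ∧ ((u : Matrix (Fin n) (Fin n) F) - 1) ^ (n - 1) ≠ 0) ∧
      Subgroup.closure ({u, g * u * g⁻¹} : Set (Matrix.SpecialLinearGroup (Fin n) F)) = ⊤) := by
  classical
  obtain ⟨L, rfl⟩ : ∃ L, n = L + 1 := ⟨n - 1, by omega⟩
  obtain ⟨g0, hg0⟩ := IsCyclic.exists_generator (α := Fˣ)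
  have hgen : ∀ x : F, x ≠ 0 → ∃ k : ℕ, (g0 : F) ^ k = x := fun x hx => by
    obtain ⟨k, hk⟩ := (mem_powers_iff_mem_zpowers (G := Fˣ)).2 (hg0 (Units.mk0 x hx))
    exact ⟨k, by simpa using congrArg Units.val hk⟩
  have hL : 0 < L := by omega
  set u := Cfsg.Agent.Classical.RegUnipotentSL.jor F L with hu
  set g := Cfsg.Agent.Classical.SLTwoGen.corner L hL (g0 : F) with hg
  have htop := Cfsg.Agent.Classical.SLTwoGen.generate hL (by omega) g0.ne_zero hgen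
  have hnil : IsNilpotent (u.1 - 1) ∧ (u.1 - 1) ^ (L + 1 - 1) ≠ 0 := by
    rw [hu, show (Cfsg.Agent.Classical.RegUnipotentSL.jor F L).1 - 1 =
      Cfsg.Agent.Classical.RegUnipotentSL.shiftUp F L from add_sub_cancel_left _ _, Nat.add_sub_cancel]
    exact ⟨Cfsg.Agent.Classical.RegUnipotentSL.shiftUp_nilpotent,
      Cfsg.Agent.Classical.RegUnipotentSL.shiftUp_pow_ne_zero⟩
  have hg1 : (g⁻¹).1 * g.1 = 1 := Cfsg.Agent.Classical.TransvectionSpread.val_inv_mul g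
  have hg2 : g.1 * (g⁻¹).1 = 1 := Cfsg.Agent.Classical.TransvectionSpread.val_mul_inv g
  have hpow : ∀ k : ℕ, ((g * u * g⁻¹).1 - 1) ^ k = g.1 * (u.1 - 1) ^ k * (g⁻¹).1 := by
    intro k
    induction k with
    | zero => rw [pow_zero, pow_zero, mul_one, hg2]
    | succ k ih =>
      rw [pow_succ, pow_succ, ih,
        show (g * u * g⁻¹).1 - 1 = g.1 * (u.1 - 1) * (g⁻¹).1 by
          rw [mul_sub, sub_mul, mul_one, hg2]; rfl]
      simp only [mul_assoc]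
      rw [← mul_assoc (g⁻¹).1 g.1, hg1, one_mul]
  refine ⟨⟨u, g * u * g⁻¹, hnil, ⟨?_, ?_⟩, htop⟩, fun _ => ⟨u, g, hnil, htop⟩⟩
  · obtain ⟨k, hk⟩ := hnil.1
    exact ⟨k, by rw [hpow k, hk, mul_zero, zero_mul]⟩
  · intro h
    refine hnil.2 ?_
    rw [hpow] at h
    calc (u.1 - 1) ^ (L + 1 - 1) = (g⁻¹).1 * (g.1 * (u.1 - 1) ^ (L + 1 - 1) * (g⁻¹).1) * g.1 := by
          simp only [mul_assoc]
          rw [hg1, mul_one, ← mul_assoc, hg1, one_mul]
      _ = 0 := by rw [h, mul_zero, zero_mul]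

end Cfsg.Agent.S2279
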