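import Cfsg.Statements.S2280
import Cfsg.Agent.Lib.Classical.RegUnipotentSL
-- import your own Cfsg.Agent.* helpers here

set_option autoImplicit false
open Cfsg

namespace Cfsg.Agent.S2280

open Cfsg.Agent.Classical
open Cfsg.Agent.Classical.RegUnipotentSL
open scoped Matrix

variable {F : Type*} [Field F]

theorem shift_mul_single {d : ℕ} (i : Fin d) (j : Fin (d + 1)) (a : F) :
    shiftUp F d * Matrix.single i.succ j a = Matrix.single i.castSucc j a := by
  ext x y
  rw [Matrix.mul_apply, Finset.sum_eq_single i.succ]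
  · by_cases hy : j = y <;> by_cases hx : i.castSucc = x
    · subst hy; subst hx; simp [shiftUp]
    · subst hy
      have : ¬ ((i : ℕ) = x) := fun e => hx (Fin.ext e)
      simp [shiftUp, Matrix.single, hx, this]
    · simp [Matrix.single, hy]
    · simp [Matrix.single, hy]
  · intro b _ hb; simp [Matrix.single, Ne.symm hb]
  · simp

theorem shift_mul_single_zero {d : ℕ} (j : Fin (d + 1)) (a : F) :
    shiftUp F d * Matrix.single 0 j a = 0 := by
  ext x y
  rw [Matrix.mul_apply, Finset.sum_eq_single 0]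
  · simp [shiftUp]
  · intro b _ hb; simp [Matrix.single, Ne.symm hb]
  · simp

theorem single_mul_shift {d : ℕ} (i : Fin (d + 1)) (a : F) :
    Matrix.single i (Fin.last d) a * shiftUp F d = 0 := by
  ext x y
  rw [Matrix.mul_apply, Finset.sum_eq_single (Fin.last d)]
  · have := y.isLt
    simp [shiftUp, show ¬ (y : ℕ) = d + 1 by omega]
  · intro b _ hb; simp [Matrix.single, Ne.symm hb]
  · simp

/-- Let F be a finite field and n ≥ 3. Then SL_n(F) is generated by three conjugate regular unipotent elements: there are u with u − 1 nilpotent and (u − 1)^(n−1) ≠ 0, and g, h, such that u, g u g⁻¹ and h u h⁻¹ generate SL_n(F). -/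
theorem result {F : Type*} [Field F] [Fintype F] (n : ℕ) (hn : 3 ≤ n) :
    ∃ u g h : Matrix.SpecialLinearGroup (Fin n) F, (IsNilpotent ((u : Matrix (Fin n) (Fin n) F) - 1) ∧ ((u : Matrix (Fin n) (Fin n) F) - 1) ^ (n - 1) ≠ 0) ∧
      Subgroup.closure ({u, g * u * g⁻¹, h * u * h⁻¹} : Set (Matrix.SpecialLinearGroup (Fin n) F)) = ⊤ := by
  classical
  obtain ⟨m, rfl⟩ : ∃ m, n = m + 2 + 1 := ⟨n - 3, by omega⟩
  obtain ⟨w, hw⟩ := IsCyclic.exists_generator (α := Fˣ)
  obtain ⟨h, c, hc, hlast, hk⟩ := exists_lower (F := F) (d := m + 2)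
  set W := h * jor F (m + 2) * h⁻¹ with hW
  set r := (Pi.single (Fin.last (m + 2)) (1 : F)) ᵥ* (W⁻¹).1 with hr
  -- the eigen-row does not vanish at `0`
  have hr0 : r 0 ≠ 0 := by
    have hall : ∀ i, r i ≠ 0 := by
      have hrW : ∀ v, dotProduct r (W.1.mulVec v) = dotProduct (Pi.single (Fin.last (m + 2)) (1 : F)) v :=
        fun v => by
          rw [hr, ← Matrix.dotProduct_mulVec, Matrix.mulVec_mulVec, TransvectionSpread.val_inv_mul,
            Matrix.one_mulVec]
      refine Fin.reverseInduction ?_ fun k hk' h0 => ?_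
      · have := hrW (Pi.single (Fin.last (m + 2)) 1)
        rw [hlast, dotProduct_single, single_dotProduct] at this
        simp at this
        rw [this]; exact one_ne_zero
      · have := hrW (Pi.single k.castSucc 1)
        rw [hk, dotProduct_add, dotProduct_smul, dotProduct_single, dotProduct_single, single_dotProduct] at this
        simp [h0, (Fin.castSucc_lt_last k).ne, hc k] at this
        exact hk' this
    exact hall 0
  have hd : r 0 * c 0 ≠ 0 := mul_ne_zero hr0 (hc 0)
  set a : F := (w : F) / (r 0 * c 0) with ha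
  have ha0 : a ≠ 0 := div_ne_zero w.ne_zero hd
  have h1L : ((0 : Fin (m + 2)).succ : Fin (m + 2 + 1)) ≠ Fin.last (m + 2) := fun e => by
    have := congrArg Fin.val e
    simp at this
  have h0L : (0 : Fin (m + 2 + 1)) ≠ Fin.last (m + 2) := fun e => by
    have := congrArg Fin.val e
    simp at this
  set x := Matrix.SpecialLinearGroup.transvection h1L (-a) with hx
  set T := Matrix.SpecialLinearGroup.transvection h0L a with hT
  have hkey : jor F (m + 2) * T * x = x * jor F (m + 2) := by
    apply Subtype.ext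
    show (1 + shiftUp F (m + 2)) * T.1 * x.1 = x.1 * (1 + shiftUp F (m + 2))
    rw [hx, hT, Matrix.SpecialLinearGroup.transvection_coe, Matrix.SpecialLinearGroup.transvection_coe]
    have e1 := shift_mul_single (F := F) (0 : Fin (m + 2)) (Fin.last (m + 2)) (-a)
    rw [Fin.castSucc_zero] at e1
    simp only [add_mul, mul_add, one_mul, mul_one, e1, shift_mul_single_zero, single_mul_shift,
      Matrix.single_mul_single_of_ne _ _ _ _ h1L.symm, add_zero, zero_mul]
    rw [show Matrix.single (0 : Fin (m + 2 + 1)) (Fin.last (m + 2)) (-a) =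
      -Matrix.single 0 (Fin.last (m + 2)) a by ext i j; simp [Matrix.single]; split_ifs <;> simp]
    abel
  refine ⟨jor F (m + 2), x, h, ⟨?_, ?_⟩, ?_⟩
  · show IsNilpotent (1 + shiftUp F (m + 2) - 1)
    rw [add_sub_cancel_left]; exact shiftUp_nilpotent
  · show (1 + shiftUp F (m + 2) - 1) ^ (m + 2 + 1 - 1) ≠ 0
    rw [add_sub_cancel_left, Nat.add_sub_cancel]; exact shiftUp_pow_ne_zero
  set H := Subgroup.closure ({jor F (m + 2), x * jor F (m + 2) * x⁻¹, W} :
    Set (Matrix.SpecialLinearGroup (Fin (m + 2 + 1)) F))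
  have hJ : jor F (m + 2) ∈ H := Subgroup.subset_closure (by simp)
  have hxJ : x * jor F (m + 2) * x⁻¹ ∈ H := Subgroup.subset_closure (by simp)
  have hTH : T ∈ H := by
    have : T = (jor F (m + 2))⁻¹ * (x * jor F (m + 2) * x⁻¹) := by
      rw [← hkey]; group
    rw [this]
    exact mul_mem (inv_mem hJ) hxJ
  refine RegUnipotentSL.eq_top (β := (w : F)) hJ (W := W) (Subgroup.subset_closure (by simp)) hc hlast hk
    (fun y hy => ?_) (a := a) ha0 (by rw [← hr, ha]; field_simp; exact div_self (hc 0)) ⟨T, hTH, ?_⟩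
  · obtain ⟨k, hk'⟩ := (mem_powers_iff_mem_zpowers (G := Fˣ)).2 (hw (Units.mk0 y hy))
    exact ⟨k, by
      have := congrArg Units.val hk'
      simpa using this.symm⟩
  · rw [hT, Matrix.SpecialLinearGroup.transvection_coe]
    ext i j
    by_cases hi : i = 0 <;> by_cases hj : j = Fin.last (m + 2) <;>
      simp [Matrix.vecMulVec_apply, Matrix.single, hi, hj, eq_comm]

end Cfsg.Agent.S2280
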