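import Cfsg.Statements.S2281
import Cfsg.Agent.Lib.Classical.SympThreeGenStd

set_option autoImplicit false
open Cfsg

namespace Cfsg.Agent.S2281

/-- Let F be a finite field and n ≥ 2, excluding the case n = 2 with F of two elements (where the group is not quasisimple). Then the symplectic group Sp_2n(F) is generated by three conjugate regular unipotent elements: there are u ∈ Sp_2n(F) with u − 1 nilpotent and (u − 1)^(2n−1) ≠ 0, and g, h ∈ Sp_2n(F), such that u, g u g⁻¹ and h u h⁻¹ generate Sp_2n(F). -/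
theorem result {F : Type*} [Field F] [Fintype F] (n : ℕ) (hn : 2 ≤ n) (h22 : ¬ (n = 2 ∧ Fintype.card F = 2)) :
    ∃ u g h : Matrix.symplecticGroup (Fin n) F,
      IsNilpotent ((u : Matrix (Fin n ⊕ Fin n) (Fin n ⊕ Fin n) F) - 1) ∧
      ((u : Matrix (Fin n ⊕ Fin n) (Fin n ⊕ Fin n) F) - 1) ^ (2 * n - 1) ≠ 0 ∧
      Subgroup.closure ({u, g * u * g⁻¹, h * u * h⁻¹} : Set (Matrix.symplecticGroup (Fin n) F)) = ⊤ := by
  classical
  obtain ⟨g0, hg0⟩ : ∃ g : F, g ≠ 0 ∧ ∀ x : F, x ≠ 0 → ∃ k : ℕ, g ^ k = x := by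
    obtain ⟨g, hg⟩ := IsCyclic.exists_monoid_generator (α := Fˣ)
    refine ⟨g, g.ne_zero, fun x hx => ?_⟩
    obtain ⟨k, hk⟩ := Submonoid.mem_powers_iff _ _ |>.1 (hg (Units.mk0 x hx))
    exact ⟨k, by rw [← Units.val_pow_eq_pow_val, hk, Units.val_mk0]⟩
  obtain ⟨hg, hgen⟩ := hg0
  have main : ∀ t a : F, t ≠ 0 → a ≠ 0 → a * -(t⁻¹ * t⁻¹) = g0 →
      ((2 : F) = 0 → t⁻¹ = 1 → g0 = 1) →
      (∃ x : Matrix.symplecticGroup (Fin n) F,
        Cfsg.Agent.Classical.SympThreeGen.uEl F n * x * (Cfsg.Agent.Classical.SympThreeGen.uEl F n)⁻¹ =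
          Cfsg.Agent.Forms.SympStd.tv (Cfsg.Agent.Classical.SympThreeGen.eL F n 0) a * x) →
      ∃ u g h : Matrix.symplecticGroup (Fin n) F,
        IsNilpotent ((u : Matrix (Fin n ⊕ Fin n) (Fin n ⊕ Fin n) F) - 1) ∧
        ((u : Matrix (Fin n ⊕ Fin n) (Fin n ⊕ Fin n) F) - 1) ^ (2 * n - 1) ≠ 0 ∧
        Subgroup.closure ({u, g * u * g⁻¹, h * u * h⁻¹} : Set (Matrix.symplecticGroup (Fin n) F)) = ⊤ := by
    intro t a ht ha hk hc hq
    obtain ⟨g, h, hh⟩ := Cfsg.Agent.Classical.SympThreeGen.generate hn ht ha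
      (by rw [hk]; exact hgen)
      (fun h2 h1 x => by
        by_cases hx : x = 0
        · exact Or.inl hx
        · obtain ⟨k, rfl⟩ := hgen x hx
          exact Or.inr (by rw [hc h2 h1, one_pow])) hq
    exact ⟨_, g, h, Cfsg.Agent.Classical.SympThreeGen.N_nilpotent,
      Cfsg.Agent.Classical.SympThreeGen.N_pow_ne_zero (by omega), hh⟩
  by_cases h2 : (2 : F) = 0
  · have hneg : ∀ s : F, -s = s := fun s => by linear_combination (-s) * h2
    haveI : CharP F 2 := CharTwo.of_one_ne_zero_of_two_eq_zero one_ne_zero h2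
    by_cases h3 : 3 ≤ n
    · refine main g0⁻¹ (g0⁻¹ * g0⁻¹ * g0) (inv_ne_zero hg)
        (mul_ne_zero (mul_ne_zero (inv_ne_zero hg) (inv_ne_zero hg)) hg) ?_ ?_
        (Cfsg.Agent.Classical.SympThreeGen.quot_even h3 h2)
      · rw [hneg, inv_inv]; field_simp
      · intro _ h; rwa [inv_inv] at h
    · have hn2 : n = 2 := by omega
      have hg1 : g0 ≠ 1 := by
        intro h
        refine h22 ⟨hn2, ?_⟩
        have hu : (Finset.univ : Finset F) = {0, 1} := by
          ext x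
          simp only [Finset.mem_univ, Finset.mem_insert, Finset.mem_singleton, true_iff]
          by_cases hx : x = 0
          · exact Or.inl hx
          · obtain ⟨k, rfl⟩ := hgen x hx
            exact Or.inr (by rw [h, one_pow])
        rw [← Finset.card_univ, hu, Finset.card_pair zero_ne_one]
      have hg1' : g0 + 1 ≠ 0 := fun h => hg1 (by linear_combination h - h2)
      obtain ⟨s, hs⟩ := FiniteField.isSquare_of_char_two (ringChar.eq F 2) (g0 + 1)
      have hs0 : s ≠ 0 := fun h => hg1' (by rw [hs, h, mul_zero])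
      refine main s (g0 + g0 * g0) hs0 ?_ ?_ ?_
        (Cfsg.Agent.Classical.SympThreeGen.quot_two hn2 g0 h2)
      · rw [show g0 + g0 * g0 = g0 * (g0 + 1) by ring]; exact mul_ne_zero hg hg1'
      · rw [hneg, show g0 + g0 * g0 = g0 * (g0 + 1) by ring, hs]; field_simp
      · intro _ h
        exfalso
        have h1 : s = 1 := inv_eq_one.1 h
        rw [h1, one_mul] at hs
        exact hg (by linear_combination hs)
  · exact main 1 (-g0) one_ne_zero (neg_ne_zero.2 hg) (by simp) (fun h => absurd h h2)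
      (Cfsg.Agent.Classical.SympThreeGen.quot_odd hn h2)

end Cfsg.Agent.S2281
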