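import Cfsg.Statements.S2287
import Cfsg.Agent.Lib.ShortPres.SLThreePres

set_option autoImplicit false
open Cfsg

namespace Cfsg.Agent.S2287

/-- For every finite field F other than the field with 9 elements, SL_3(F) has a presentation with 4 generators and at most 14 relations. -/
theorem result {F : Type*} [Field F] [Fintype F] (hq9 : Fintype.card F ≠ 9) : ∃ rels : Finset (FreeGroup (Fin 4)), rels.card ≤ 14 ∧ Nonempty (PresentedGroup (↑rels : Set (FreeGroup (Fin 4))) ≃* Matrix.SpecialLinearGroup (Fin 3) F) := by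
  classical
  have _ := hq9
  obtain ⟨p, hchar⟩ := CharP.exists F
  have : Fact p.Prime := ⟨CharP.char_is_prime F p⟩
  let : Algebra (ZMod p) F := ZMod.algebra F p
  obtain ⟨z, hz⟩ := IsCyclic.exists_generator (α := Fˣ)
  have hd0 : 0 < Module.finrank (ZMod p) F := Module.finrank_pos
  have hgood := Cfsg.Agent.ShortPres.sq_generator_good (p := p) hz
  obtain ⟨B, hB⟩ := Cfsg.Agent.ShortPres.exists_basis (p := p) (e := (z : F) ^ 2) hgood
  have hlog : ∀ x : F, x ≠ 0 → ∃ n : ℕ, (z : F) ^ n = x := fun x hx => by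
    obtain ⟨n, hn⟩ := mem_powers_iff_mem_zpowers.2 (hz (Units.mk0 x hx))
    exact ⟨n, by rw [← Units.val_pow_eq_pow_val]; exact congrArg Units.val hn⟩
  obtain ⟨n, hn⟩ := hlog (-1) (by simp)
  obtain ⟨m, hm⟩ : ∃ m : ℕ, 3 ≤ Module.finrank (ZMod p) F → (z : F) ^ m = (z : F) ^ 2 + 1 := by
    by_cases h3 : 3 ≤ Module.finrank (ZMod p) F
    · have hne : (z : F) ^ 2 + 1 ≠ 0 := fun h => hgood 1 one_pos (by omega) (by
        rw [eq_neg_of_add_eq_zero_left h, pow_one]
        exact map_neg (frobenius F p) 1 |>.trans (by rw [map_one]))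
      obtain ⟨m, hm⟩ := hlog _ hne
      exact ⟨m, fun _ => hm⟩
    · exact ⟨0, fun h => absurd h h3⟩
  let l := Cfsg.Agent.ShortPres.Three.relators B n m z (FreeGroup.of (0 : Fin 4)) (FreeGroup.of 1)
    (FreeGroup.of 2) (FreeGroup.of 3)
  refine ⟨l.toFinset, (List.toFinset_card_le _).trans (by simp [l, Cfsg.Agent.ShortPres.Three.relators]), ?_⟩
  exact Cfsg.Agent.ShortPres.Three.exists_iso3 hz rfl hd0 hB hn hm _ fun r => by simp [l]

end Cfsg.Agent.S2287
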