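import Cfsg.Statements.S2291
import Cfsg.Agent.Lib.ShortPres.SUGlue.Final
import Cfsg.Agent.Lib.Classical.UnitaryTwoGenPSU

set_option autoImplicit false
open Cfsg

namespace Cfsg.Agent.S2291

/-- Let F be a field with q² elements and n ≥ 3 with (n, q) ≠ (3, 2). Then the simple group PSU_n(q) (for the standard Hermitian form) has a presentation with 2 generators and at most 80 relations. -/
theorem result {F : Type*} [Field F] [Fintype F] (q n : ℕ) (hF : Fintype.card F = q ^ 2) (hn : 3 ≤ n) (h32 : ¬ (n = 3 ∧ q = 2)) :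
    ∃ rels : Finset (FreeGroup (Fin 2)), rels.card ≤ 80 ∧ Nonempty (PresentedGroup (↑rels : Set (FreeGroup (Fin 2))) ≃* Cfsg.PSU n F q) := by
  have hq : IsPrimePow q := (isPrimePow_pow_iff (two_ne_zero (α := ℕ))).1 (hF ▸ Fintype.isPrimePow_card_of_field)
  have hq2 := ShortPres.SUGlue.two_le_q hF
  obtain ⟨a, b, hab⟩ := Classical.UnitaryTwoGen.two_gen_PSU hq hF n hn fun h1 h2 => h32 ⟨h1, h2⟩
  have hP : ShortPres.Bound.Pres (Cfsg.PSU n F q) 40 := by
    by_cases h3 : n = 3
    · subst h3
      have hq3 : 3 ≤ q := by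
        by_contra h
        exact h32 ⟨rfl, by omega⟩
      exact (((ShortPres.SU3.presN hF hq3).mod_center
        (SimpleFacts.SUMult.Main.center_cyclic hF 3 (by norm_num))).mono (by norm_num)).toPres
    · obtain ⟨k, hk, -, h⟩ := ShortPres.SUGlue.pres_six (n := n) hF (by omega)
      exact ((ShortPres.SUGlue.pres_psu hF (by omega) h).mono (by omega)).toPres
  obtain ⟨rels, h1, h2⟩ := hP.exists_presented ![a, b] (by rwa [Matrix.range_cons_cons_empty])
  exact ⟨rels, h1.trans (by norm_num), h2⟩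

end Cfsg.Agent.S2291
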