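import Cfsg.Statements.S2292
import Cfsg.Agent.Lib.ShortPres.SympTop
import Cfsg.Agent.S2411
-- import your own Cfsg.Agent.* helpers here

set_option autoImplicit false
open Cfsg

namespace Cfsg.Agent.S2292

/-- Let F be a finite field with q elements and m ≥ 2 with (m, q) ≠ (2, 2). Then the simple group PSp_2m(F) has a presentation with 2 generators and at most 80 relations. -/
theorem result {F : Type*} [Field F] [Fintype F] (m : ℕ) (hm : 2 ≤ m) (h22 : ¬ (m = 2 ∧ Fintype.card F = 2)) :
    ∃ rels : Finset (FreeGroup (Fin 2)), rels.card ≤ 80 ∧ Nonempty (PresentedGroup (↑rels : Set (FreeGroup (Fin 2))) ≃* Cfsg.PSp m F) := by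
  have hF : m = 2 → 2 < Fintype.card F := fun e => by
    have h1 := Fintype.one_lt_card (α := F)
    have : Fintype.card F ≠ 2 := fun e' => h22 ⟨e, e'⟩
    omega
  have hp : Cfsg.Agent.ShortPres.Bound.Pres (Cfsg.PSp m F) 58 := by
    rcases (show m = 2 ∨ m = 3 ∨ 4 ≤ m by omega) with rfl | rfl | h4
    · exact ((Cfsg.Agent.ShortPres.Symp.pres_psp (F := F) (m := 2) (by norm_num)
        Cfsg.Agent.ShortPres.Four.pres).mono (by norm_num)).toPres
    · exact ((Cfsg.Agent.ShortPres.Symp.pres_psp (by norm_num)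
        (Cfsg.Agent.ShortPres.Symp.pres_rank_three (F := F))).mono (by norm_num)).toPres
    · exact ((Cfsg.Agent.ShortPres.Symp.pres_psp (by omega)
        (Cfsg.Agent.ShortPres.Symp.pres_rank_ge_four (F := F) h4))).toPres
  obtain ⟨a, b, hab⟩ := Cfsg.Agent.S2411.result (F := F) m hm hF
  obtain ⟨rels, hk, he⟩ := hp.exists_presented ![a, b] (by simpa [Matrix.range_cons, Matrix.range_empty, Set.pair_comm] using hab)
  exact ⟨rels, hk.trans (by norm_num), he⟩

end Cfsg.Agent.S2292
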