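import Cfsg.Statements.S2298
import Cfsg.Agent.Lib.GL2.ClassifyGL

set_option autoImplicit false
open Cfsg

namespace Cfsg.Agent.S2298

/-- Over a finite field F with q elements, every irreducible complex character of GL₂ has degree 1, q − 1, q or q + 1; and when q ≥ 3 (so that these four numbers are distinct) there are exactly q − 1 irreducible characters of degree 1, exactly q − 1 of degree q, exactly (q − 1)(q − 2)/2 of degree q + 1 and exactly q(q − 1)/2 of degree q − 1. -/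
theorem result {F : Type*} [Field F] [Fintype F] :
    (∀ χ : Matrix.GeneralLinearGroup (Fin 2) F → ℂ, Cfsg.IsIrrCharacter (Matrix.GeneralLinearGroup (Fin 2) F) χ →
      χ 1 = 1 ∨ χ 1 = (Fintype.card F : ℂ) - 1 ∨ χ 1 = (Fintype.card F : ℂ) ∨ χ 1 = (Fintype.card F : ℂ) + 1) ∧
    (3 ≤ Fintype.card F →
      Nat.card {χ : Cfsg.IrrCharacter (Matrix.GeneralLinearGroup (Fin 2) F) // (χ : Matrix.GeneralLinearGroup (Fin 2) F → ℂ) 1 = 1} = Fintype.card F - 1 ∧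
      Nat.card {χ : Cfsg.IrrCharacter (Matrix.GeneralLinearGroup (Fin 2) F) // (χ : Matrix.GeneralLinearGroup (Fin 2) F → ℂ) 1 = (Fintype.card F : ℂ)} = Fintype.card F - 1 ∧
      Nat.card {χ : Cfsg.IrrCharacter (Matrix.GeneralLinearGroup (Fin 2) F) // (χ : Matrix.GeneralLinearGroup (Fin 2) F → ℂ) 1 = (Fintype.card F : ℂ) + 1} = (Fintype.card F - 1) * (Fintype.card F - 2) / 2 ∧
      Nat.card {χ : Cfsg.IrrCharacter (Matrix.GeneralLinearGroup (Fin 2) F) // (χ : Matrix.GeneralLinearGroup (Fin 2) F → ℂ) 1 = (Fintype.card F : ℂ) - 1} = Fintype.card F * (Fintype.card F - 1) / 2) := by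
  classical
  refine ⟨fun χ hχ => ?_, fun hq => ?_⟩
  · rcases GL2.ClassifyGL.classify_degree hχ with ⟨-, h⟩ | ⟨-, h⟩ | ⟨-, h⟩ | ⟨-, h⟩ <;> simp [h]
  have hne : ∀ a b : ℕ, a ≠ b → (a : ℂ) ≠ b := fun a b h e => h (Nat.cast_injective e)
  set q := Fintype.card F with hqd
  have d1 : (1 : ℂ) ≠ q := by simpa using hne 1 q (by omega)
  have d2 : (1 : ℂ) ≠ q + 1 := by
    intro e; exact hne q 0 (by omega) (by push_cast; linear_combination -e)
  have d3 : (1 : ℂ) ≠ q - 1 := by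
    intro e; exact hne q 2 (by omega) (by push_cast; linear_combination -e)
  have d4 : (q : ℂ) ≠ q + 1 := by simp
  have d5 : (q : ℂ) ≠ q - 1 := fun e => one_ne_zero (α := ℂ) (by linear_combination e)
  have d6 : (q : ℂ) + 1 ≠ q - 1 := fun e => two_ne_zero (α := ℂ) (by linear_combination e)
  obtain ⟨f1, f2, f3, f4, f5⟩ := GL2.ClassifyGL.families (F := F)
  rw [Fintype.card_units] at f1 f2 f3 f4
  have e1 : ∀ χ : Cfsg.IrrCharacter (Matrix.GeneralLinearGroup (Fin 2) F),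
      χ.1 1 = 1 ↔ ∃ α, χ.1 = GL2.Principal.lin α := by
    intro χ
    refine ⟨fun hd => ?_, fun ⟨α, h⟩ => by rw [h, GL2.Principal.lin_one_apply]⟩
    rcases GL2.ClassifyGL.classify_degree χ.2 with ⟨h, -⟩ | ⟨-, h⟩ | ⟨-, h⟩ | ⟨-, h⟩
    exacts [h, absurd (hd.symm.trans h) d1, absurd (hd.symm.trans h) d2, absurd (hd.symm.trans h) d3]
  have e2 : ∀ χ : Cfsg.IrrCharacter (Matrix.GeneralLinearGroup (Fin 2) F),
      χ.1 1 = (q : ℂ) ↔ ∃ α, χ.1 = GL2.Principal.stTw α := by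
    intro χ
    refine ⟨fun hd => ?_, fun ⟨α, h⟩ => by rw [h, GL2.Principal.stTw_one]⟩
    rcases GL2.ClassifyGL.classify_degree χ.2 with ⟨-, h⟩ | ⟨h, -⟩ | ⟨-, h⟩ | ⟨-, h⟩
    exacts [absurd (h.symm.trans hd) d1, h, absurd (hd.symm.trans h) d4, absurd (hd.symm.trans h) d5]
  have e3 : ∀ χ : Cfsg.IrrCharacter (Matrix.GeneralLinearGroup (Fin 2) F),
      χ.1 1 = (q : ℂ) + 1 ↔ ∃ α β, α ≠ β ∧ χ.1 = GL2.Borel.pind α β := by
    intro χ
    refine ⟨fun hd => ?_, fun ⟨α, β, _, h⟩ => by rw [h, GL2.Principal.pind_one]⟩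
    rcases GL2.ClassifyGL.classify_degree χ.2 with ⟨-, h⟩ | ⟨-, h⟩ | ⟨h, -⟩ | ⟨-, h⟩
    exacts [absurd (h.symm.trans hd) d2, absurd (h.symm.trans hd) d4, h, absurd (hd.symm.trans h) d6]
  have e4 : ∀ χ : Cfsg.IrrCharacter (Matrix.GeneralLinearGroup (Fin 2) F),
      χ.1 1 = (q : ℂ) - 1 ↔ GL2.ClassifyGL.IsCusp χ.1 := by
    intro χ
    refine ⟨fun hd => ?_, fun h => by rw [(f5 χ χ.2 h).1, GL2.ClassifyGL.cast_card_units]⟩
    rcases GL2.ClassifyGL.classify_degree χ.2 with ⟨-, h⟩ | ⟨-, h⟩ | ⟨-, h⟩ | ⟨h, -⟩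
    exacts [absurd (h.symm.trans hd) d3, absurd (h.symm.trans hd) d5, absurd (h.symm.trans hd) d6, h]
  refine ⟨?_, ?_, ?_, ?_⟩
  · rw [Nat.card_congr (Equiv.subtypeEquivRight e1), f1]
  · rw [Nat.card_congr (Equiv.subtypeEquivRight e2), f2]
  · rw [Nat.card_congr (Equiv.subtypeEquivRight e3)]
    rw [← hqd] at f3
    obtain ⟨n, hn⟩ : ∃ n, q = n + 2 := ⟨q - 2, by omega⟩
    simp only [hn, Nat.add_sub_cancel, show n + 2 - 1 = n + 1 by omega] at f3 ⊢
    generalize Nat.card _ = P at f3 ⊢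
    have : (n + 1) * n = 2 * P := by
      have e : (n + 1) ^ 2 = (n + 1) * n + (n + 1) := by ring
      omega
    omega
  · rw [Nat.card_congr (Equiv.subtypeEquivRight e4)]
    rw [← hqd] at f4
    rw [mul_comm q, ← f4]
    omega

end Cfsg.Agent.S2298
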