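import Cfsg.Statements.S2299
import Cfsg.Agent.Lib.GL2.ValuesSL

set_option autoImplicit false
open Cfsg

namespace Cfsg.Agent.S2299

theorem half_cast (q : ℕ) (hodd : Odd q) :
    2 * (((q + 1) / 2 : ℕ) : ℂ) = (q : ℂ) + 1 ∧ 2 * (((q - 1) / 2 : ℕ) : ℂ) = ((q - 1 : ℕ) : ℂ) := by
  obtain ⟨n, rfl⟩ := hodd
  rw [show (2 * n + 1 + 1) / 2 = n + 1 by omega, show (2 * n + 1 - 1) / 2 = n by omega,
    show 2 * n + 1 - 1 = 2 * n by omega]
  push_cast
  constructor <;> ring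


/-- Over a finite field F with q elements, q odd, every irreducible complex character of SL₂ has degree 1, q, q + 1, q − 1, (q + 1)/2 or (q − 1)/2; and when q ≥ 5 (so that these six numbers are distinct) there are exactly one irreducible character of degree 1, one of degree q, (q − 3)/2 of degree q + 1, (q − 1)/2 of degree q − 1, two of degree (q + 1)/2 and two of degree (q − 1)/2. -/
theorem result {F : Type*} [Field F] [Fintype F] (hodd : Odd (Fintype.card F)) :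
    (∀ χ : Matrix.SpecialLinearGroup (Fin 2) F → ℂ, Cfsg.IsIrrCharacter (Matrix.SpecialLinearGroup (Fin 2) F) χ →
      χ 1 = 1 ∨ χ 1 = (Fintype.card F : ℂ) ∨ χ 1 = (Fintype.card F : ℂ) + 1 ∨ χ 1 = (Fintype.card F : ℂ) - 1 ∨
        χ 1 = (((Fintype.card F + 1) / 2 : ℕ) : ℂ) ∨ χ 1 = (((Fintype.card F - 1) / 2 : ℕ) : ℂ)) ∧
    (5 ≤ Fintype.card F →
      Nat.card {χ : Cfsg.IrrCharacter (Matrix.SpecialLinearGroup (Fin 2) F) // (χ : Matrix.SpecialLinearGroup (Fin 2) F → ℂ) 1 = 1} = 1 ∧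
      Nat.card {χ : Cfsg.IrrCharacter (Matrix.SpecialLinearGroup (Fin 2) F) // (χ : Matrix.SpecialLinearGroup (Fin 2) F → ℂ) 1 = (Fintype.card F : ℂ)} = 1 ∧
      Nat.card {χ : Cfsg.IrrCharacter (Matrix.SpecialLinearGroup (Fin 2) F) // (χ : Matrix.SpecialLinearGroup (Fin 2) F → ℂ) 1 = (Fintype.card F : ℂ) + 1} = (Fintype.card F - 3) / 2 ∧
      Nat.card {χ : Cfsg.IrrCharacter (Matrix.SpecialLinearGroup (Fin 2) F) // (χ : Matrix.SpecialLinearGroup (Fin 2) F → ℂ) 1 = (Fintype.card F : ℂ) - 1} = (Fintype.card F - 1) / 2 ∧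
      Nat.card {χ : Cfsg.IrrCharacter (Matrix.SpecialLinearGroup (Fin 2) F) // (χ : Matrix.SpecialLinearGroup (Fin 2) F → ℂ) 1 = (((Fintype.card F + 1) / 2 : ℕ) : ℂ)} = 2 ∧
      Nat.card {χ : Cfsg.IrrCharacter (Matrix.SpecialLinearGroup (Fin 2) F) // (χ : Matrix.SpecialLinearGroup (Fin 2) F → ℂ) 1 = (((Fintype.card F - 1) / 2 : ℕ) : ℂ)} = 2) := by
  classical
  obtain ⟨hp, hm⟩ := half_cast _ hodd
  rw [GL2.CountsSL.cast_sub_one] at hm
  refine ⟨fun χ hχ => ?_, fun hq => ?_⟩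
  · rcases GL2.ClassifySL.classify_degree hχ with ⟨-, h⟩ | ⟨-, h⟩ | ⟨-, h⟩ | ⟨-, h⟩ | ⟨-, h, -⟩ |
      ⟨-, -, h⟩
    · simp [h]
    · simp [h]
    · simp [h]
    · exact Or.inr (Or.inr (Or.inr (Or.inr (Or.inl (mul_left_cancel₀ two_ne_zero (h.trans hp.symm))))))
    · simp [h]
    · exact Or.inr (Or.inr (Or.inr (Or.inr (Or.inr (mul_left_cancel₀ two_ne_zero (h.trans hm.symm))))))
  obtain ⟨k, hk', f0, f1, f2, f3, f4, f5⟩ := GL2.CountsSL.families (F := F)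
  obtain rfl : k = 2 := hk' ▸ GL2.Counts.sq_eq_one_card_odd (GL2.Counts.two_ne_zero_of_odd hodd)
  rw [Fintype.card_units] at f2 f4
  have key : ∀ (i : Fin 6) (v : ℂ), 2 * v = (GL2.CountsSL.deg2 (Fintype.card F) i : ℂ) →
      ∀ χ : Cfsg.IrrCharacter (Matrix.SpecialLinearGroup (Fin 2) F),
        χ.1 1 = v ↔ GL2.CountsSL.Kind i χ.1 := fun i v hv χ =>
    ⟨fun h => GL2.CountsSL.kind_of_degree (by omega) χ.2 (h ▸ hv),
      fun h => mul_left_cancel₀ two_ne_zero (h.2.trans hv.symm)⟩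
  refine ⟨?_, ?_, ?_, ?_, ?_, ?_⟩
  · rw [Nat.card_congr (Equiv.subtypeEquivRight (key 0 1 (by simp [GL2.CountsSL.deg2]))), f0]
  · rw [Nat.card_congr (Equiv.subtypeEquivRight
      (key 1 (Fintype.card F : ℂ) (by simp [GL2.CountsSL.deg2]))), f1]
  · rw [Nat.card_congr (Equiv.subtypeEquivRight
      (key 2 ((Fintype.card F : ℂ) + 1) (by simp [GL2.CountsSL.deg2]; ring)))]
    omega
  · rw [Nat.card_congr (Equiv.subtypeEquivRight
      (key 4 ((Fintype.card F : ℂ) - 1) (by simp [GL2.CountsSL.deg2, GL2.CountsSL.cast_sub_one])))]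
    omega
  · rw [Nat.card_congr (Equiv.subtypeEquivRight
      (key 3 _ (hp.trans (by simp [GL2.CountsSL.deg2]))))]
    omega
  · rw [Nat.card_congr (Equiv.subtypeEquivRight
      (key 5 _ (hm.trans (by simp [GL2.CountsSL.deg2, GL2.CountsSL.cast_sub_one]))))]
    omega

end Cfsg.Agent.S2299
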