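import Cfsg.Statements.S2300
import Cfsg.Agent.Lib.GL2.ValuesSL

set_option autoImplicit false
open Cfsg

namespace Cfsg.Agent.S2300

/-- Over a finite field F with q elements, q even, every irreducible complex character of SL₂ has degree 1, q − 1, q or q + 1; and when q ≥ 4 (so that these four numbers are distinct) there are exactly one irreducible character of degree 1, one of degree q, (q − 2)/2 of degree q + 1 and q/2 of degree q − 1. -/
theorem result {F : Type*} [Field F] [Fintype F] [CharP F 2] :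
    (∀ χ : Matrix.SpecialLinearGroup (Fin 2) F → ℂ, Cfsg.IsIrrCharacter (Matrix.SpecialLinearGroup (Fin 2) F) χ →
      χ 1 = 1 ∨ χ 1 = (Fintype.card F : ℂ) - 1 ∨ χ 1 = (Fintype.card F : ℂ) ∨ χ 1 = (Fintype.card F : ℂ) + 1) ∧
    (4 ≤ Fintype.card F →
      Nat.card {χ : Cfsg.IrrCharacter (Matrix.SpecialLinearGroup (Fin 2) F) // (χ : Matrix.SpecialLinearGroup (Fin 2) F → ℂ) 1 = 1} = 1 ∧
      Nat.card {χ : Cfsg.IrrCharacter (Matrix.SpecialLinearGroup (Fin 2) F) // (χ : Matrix.SpecialLinearGroup (Fin 2) F → ℂ) 1 = (Fintype.card F : ℂ)} = 1 ∧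
      Nat.card {χ : Cfsg.IrrCharacter (Matrix.SpecialLinearGroup (Fin 2) F) // (χ : Matrix.SpecialLinearGroup (Fin 2) F → ℂ) 1 = (Fintype.card F : ℂ) + 1} = (Fintype.card F - 2) / 2 ∧
      Nat.card {χ : Cfsg.IrrCharacter (Matrix.SpecialLinearGroup (Fin 2) F) // (χ : Matrix.SpecialLinearGroup (Fin 2) F → ℂ) 1 = (Fintype.card F : ℂ) - 1} = Fintype.card F / 2) := by
  classical
  haveI : DecidableEq F := Classical.decEq F
  have hk : Nat.card {r : F // r ^ 2 = 1} = 1 := GL2.Counts.sq_eq_one_card_two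
  refine ⟨fun χ hχ => ?_, fun hq => ?_⟩
  · rcases GL2.ClassifySL.classify_degree hχ with ⟨-, h⟩ | ⟨-, h⟩ | ⟨-, h⟩ | ⟨h, -⟩ | ⟨-, h, -⟩ |
      ⟨-, h, -⟩
    · simp [h]
    · simp [h]
    · simp [h]
    · obtain ⟨α, -, hα, hα1, -⟩ := h
      have hc := GL2.PrincipalSL.card_sq_eq_one (F := F)
      rw [hk, Nat.card_eq_one_iff_unique] at hc
      exact absurd (congrArg Subtype.val (hc.1.elim ⟨α, hα⟩ ⟨1, one_pow 2⟩)) hα1
    · simp [h]
    · omega
  obtain ⟨k, hk', f0, f1, f2, -, f4, -⟩ := GL2.CountsSL.families (F := F)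
  obtain rfl : k = 1 := hk' ▸ hk
  rw [Fintype.card_units] at f2 f4
  have key : ∀ (i : Fin 6) (v : ℂ), 2 * v = (GL2.CountsSL.deg2 (Fintype.card F) i : ℂ) →
      ∀ χ : Cfsg.IrrCharacter (Matrix.SpecialLinearGroup (Fin 2) F),
        χ.1 1 = v ↔ GL2.CountsSL.Kind i χ.1 := fun i v hv χ =>
    ⟨fun h => GL2.CountsSL.kind_of_degree hq χ.2 (h ▸ hv),
      fun h => mul_left_cancel₀ two_ne_zero (h.2.trans hv.symm)⟩
  refine ⟨?_, ?_, ?_, ?_⟩
  · rw [Nat.card_congr (Equiv.subtypeEquivRight (key 0 1 (by simp [GL2.CountsSL.deg2]))), f0]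
  · rw [Nat.card_congr (Equiv.subtypeEquivRight
      (key 1 (Fintype.card F : ℂ) (by simp [GL2.CountsSL.deg2]))), f1]
  · rw [Nat.card_congr (Equiv.subtypeEquivRight
      (key 2 ((Fintype.card F : ℂ) + 1) (by simp [GL2.CountsSL.deg2]; ring)))]
    omega
  · rw [Nat.card_congr (Equiv.subtypeEquivRight
      (key 4 ((Fintype.card F : ℂ) - 1) (by simp [GL2.CountsSL.deg2, GL2.CountsSL.cast_sub_one])))]
    omega

end Cfsg.Agent.S2300
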