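import Cfsg.Statements.S2301
import Cfsg.Agent.Lib.GL2.Counts

set_option autoImplicit false
open Cfsg

namespace Cfsg.Agent.S2301

theorem order_p_data {F : Type*} [Field F] (p : ℕ) [Fact p.Prime] [CharP F p]
    (x : Matrix.SpecialLinearGroup (Fin 2) F) (hx : orderOf x = p) :
    ¬ GL2.Classes.IsScalar (x : Matrix (Fin 2) (Fin 2) F) ∧ (x : Matrix (Fin 2) (Fin 2) F).trace = 2 := by
  have hp' : (x : Matrix (Fin 2) (Fin 2) F) ^ p = 1 := by
    rw [← Matrix.SpecialLinearGroup.coe_pow, ← hx, pow_orderOf_eq_one, Matrix.SpecialLinearGroup.coe_one]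
  refine ⟨?_, (GL2.Counts.nilpotent_sq p _ hp').2.1⟩
  rintro ⟨c, hc⟩
  rw [hc] at hp'
  have hcp : c ^ p = 1 := by
    have := congrFun (congrFun (hp'.symm.trans (by rw [smul_pow, one_pow])) 0) 0
    simpa using this.symm
  have hc1 : c = 1 := frobenius_inj F p (by simpa [frobenius_def] using hcp)
  have : x = 1 := Subtype.ext (by rw [hc, hc1, one_smul]; rfl)
  rw [this, orderOf_one] at hx
  exact (Fact.out : p.Prime).one_lt.ne hx


/-- Over a finite field with q elements of odd characteristic p, the elements of order p of SL₂ (the non-identity unipotent elements) fall into exactly two conjugacy classes, each of size (q² − 1)/2; two upper unitriangular matrices with non-zero off-diagonal entries b and b′ are conjugate exactly when bb′ is a square. -/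
theorem result {F : Type*} [Field F] [Fintype F] (p : ℕ) [Fact p.Prime] [CharP F p] (hp : p ≠ 2) :
    Nat.card {C : ConjClasses (Matrix.SpecialLinearGroup (Fin 2) F) // ∃ g : Matrix.SpecialLinearGroup (Fin 2) F, orderOf g = p ∧ ConjClasses.mk g = C} = 2 ∧
    (∀ g : Matrix.SpecialLinearGroup (Fin 2) F, orderOf g = p → Nat.card (ConjClasses.mk g).carrier = (Fintype.card F ^ 2 - 1) / 2) ∧
    ∀ g h : Matrix.SpecialLinearGroup (Fin 2) F, (g : Matrix (Fin 2) (Fin 2) F) 0 0 = 1 → (g : Matrix (Fin 2) (Fin 2) F) 1 1 = 1 → (g : Matrix (Fin 2) (Fin 2) F) 1 0 = 0 → (g : Matrix (Fin 2) (Fin 2) F) 0 1 ≠ 0 →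
      (h : Matrix (Fin 2) (Fin 2) F) 0 0 = 1 → (h : Matrix (Fin 2) (Fin 2) F) 1 1 = 1 → (h : Matrix (Fin 2) (Fin 2) F) 1 0 = 0 → (h : Matrix (Fin 2) (Fin 2) F) 0 1 ≠ 0 →
      (IsConj g h ↔ IsSquare ((g : Matrix (Fin 2) (Fin 2) F) 0 1 * (h : Matrix (Fin 2) (Fin 2) F) 0 1)) := by
  classical
  have h2 : (2 : F) ≠ 0 := by
    intro h
    have hd : p ∣ 2 := (CharP.cast_eq_zero_iff F p 2).1 (by simpa using h)
    exact hp ((Nat.prime_dvd_prime_iff_eq Fact.out Nat.prime_two).1 hd)
  have hodd : Odd (Fintype.card F) := by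
    obtain ⟨n, hpr, hn⟩ := FiniteField.card F p
    rw [hn]
    exact (hpr.odd_of_ne_two hp).pow
  obtain ⟨e, he0, he⟩ := GL2.Counts.exists_nonsquare hodd
  have hord : ∀ u : F, u ≠ 0 → orderOf (GL2.Counts.signedUni (1 : F) (one_pow 2) u) = p := by
    intro u hu
    refine orderOf_eq_prime (Subtype.ext ?_) ?_
    · have hk : ∀ k : ℕ, (!![1, 1 * u; 0, 1] : Matrix (Fin 2) (Fin 2) F) ^ k = !![1, (k : F) * u; 0, 1] := by
        intro k
        induction k with
        | zero => simp [Matrix.one_fin_two]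
        | succ k ih =>
          rw [pow_succ, ih]
          ext i j
          fin_cases i <;> fin_cases j <;> simp [Matrix.mul_apply, Fin.sum_univ_two] <;> ring
      rw [Matrix.SpecialLinearGroup.coe_pow, GL2.Counts.coe_signedUni, hk, CharP.cast_eq_zero, zero_mul,
        Matrix.SpecialLinearGroup.coe_one, Matrix.one_fin_two]
    · intro h
      exact GL2.Counts.not_isScalar_signedUni (one_pow 2) hu ⟨1, by rw [h]; simp⟩
  refine ⟨?_, ?_, ?_⟩
  · let f : Bool → {C : ConjClasses (Matrix.SpecialLinearGroup (Fin 2) F) //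
        ∃ g : Matrix.SpecialLinearGroup (Fin 2) F, orderOf g = p ∧ ConjClasses.mk g = C} :=
      fun b => ⟨ConjClasses.mk (GL2.Counts.signedUni 1 (one_pow 2) (bif b then 1 else e)),
        _, hord _ (by cases b <;> simp [he0]), rfl⟩
    have hf : Function.Bijective f := by
      constructor
      · intro a b hab
        have hc := ConjClasses.mk_eq_mk_iff_isConj.1 (congrArg Subtype.val hab)
        rw [GL2.Counts.isConj_signedUni_iff _ (by cases a <;> simp [he0]) (by cases b <;> simp [he0])] at hc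
        revert hc
        cases a <;> cases b <;> simp [he]
      · rintro ⟨C, g, hg, rfl⟩
        obtain ⟨g1, g2⟩ := order_p_data p g hg
        obtain ⟨u, hu, hc⟩ := GL2.Counts.exists_conj_signedUni g1 (one_pow 2) (by rw [g2, mul_one])
        obtain ⟨b, hb⟩ : ∃ b : Bool, IsSquare ((bif b then 1 else e) * u) := by
          rcases GL2.Counts.isSquare_or_mul he hu with h | h
          · exact ⟨true, by simpa using h⟩
          · exact ⟨false, h⟩
        exact ⟨b, Subtype.ext (ConjClasses.mk_eq_mk_iff_isConj.2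
          (((GL2.Counts.isConj_signedUni_iff _ (by cases b <;> simp [he0]) hu).2 hb).trans hc))⟩
    rw [← Nat.card_eq_of_bijective f hf, Nat.card_eq_fintype_card, Fintype.card_bool]
  · intro g hg
    obtain ⟨g1, g2⟩ := order_p_data p g hg
    rw [GL2.Counts.carrier_eq_div, GL2.Counts.natCard_centralizer_SL_parabolic g g1 (one_pow 2)
      (by rw [g2, mul_one]), GL2.Counts.sq_eq_one_card_odd h2, GL2.Counts.natCard_SL,
      Nat.mul_div_mul_left _ _ Fintype.card_pos]
  · intro g h a00 a11 a10 a01 b00 b11 b10 b01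
    have hg' : g = GL2.Counts.signedUni 1 (one_pow 2) ((g : Matrix (Fin 2) (Fin 2) F) 0 1) := by
      refine Subtype.ext ?_
      rw [GL2.Counts.coe_signedUni]
      ext i j
      fin_cases i <;> fin_cases j <;> simp [a00, a11, a10]
    have hh' : h = GL2.Counts.signedUni 1 (one_pow 2) ((h : Matrix (Fin 2) (Fin 2) F) 0 1) := by
      refine Subtype.ext ?_
      rw [GL2.Counts.coe_signedUni]
      ext i j
      fin_cases i <;> fin_cases j <;> simp [b00, b11, b10]
    conv_lhs => rw [hg', hh']
    exact GL2.Counts.isConj_signedUni_iff _ a01 b01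

end Cfsg.Agent.S2301
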