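import Cfsg.Statements.S2302
import Cfsg.Agent.Lib.GL2.Counts

set_option autoImplicit false
open Cfsg

namespace Cfsg.Agent.S2302

theorem order_p_data {F : Type*} [Field F] (p : ℕ) [Fact p.Prime] [CharP F p]
    (x : Matrix.SpecialLinearGroup (Fin 2) F) (hx : orderOf x = p) :
    ¬ GL2.Classes.IsScalar (x : Matrix (Fin 2) (Fin 2) F) ∧ (x : Matrix (Fin 2) (Fin 2) F).trace = 2 := by
  have hp' : (x : Matrix (Fin 2) (Fin 2) F) ^ p = 1 := by
    rw [← Matrix.SpecialLinearGroup.coe_pow, ← hx, pow_orderOf_eq_one, Matrix.SpecialLinearGroup.coe_one]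
  refine ⟨?_, (GL2.Counts.nilpotent_sq p _ hp').2.1⟩
  rintro ⟨c, hc⟩
  rw [hc] at hp'
  have hcp : c ^ p = 1 := by
    have := congrFun (congrFun (hp'.symm.trans (by rw [smul_pow, one_pow])) 0) 0
    simpa using this.symm
  have hc1 : c = 1 := frobenius_inj F p (by simpa [frobenius_def] using hcp)
  have : x = 1 := Subtype.ext (by rw [hc, hc1, one_smul]; rfl)
  rw [this, orderOf_one] at hx
  exact (Fact.out : p.Prime).one_lt.ne hx


/-- Over a finite field with q elements of characteristic 2, the involutions of SL₂ (the non-identity unipotent elements) form a single conjugacy class, of size q² − 1. -/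
theorem result {F : Type*} [Field F] [Fintype F] [CharP F 2] (g h : Matrix.SpecialLinearGroup (Fin 2) F) (hg : orderOf g = 2) (hh : orderOf h = 2) :
    IsConj g h ∧ Nat.card (ConjClasses.mk g).carrier = Fintype.card F ^ 2 - 1 := by
  have : Fact (Nat.Prime 2) := ⟨Nat.prime_two⟩
  obtain ⟨g1, g2⟩ := order_p_data 2 g hg
  obtain ⟨h1, h2⟩ := order_p_data 2 h hh
  refine ⟨GL2.Classes.isConj_SL_of_surjective g1 h1 (g2.trans h2.symm)
    (fun c _ => GL2.Classes.exists_normForm_eq (Or.inl CharTwo.two_eq_zero)), ?_⟩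
  rw [GL2.Counts.carrier_eq_div, GL2.Counts.natCard_centralizer_SL_parabolic g g1 (one_pow 2)
    (by rw [g2, mul_one]), GL2.Counts.sq_eq_one_card_two, GL2.Counts.natCard_SL, mul_one,
    Nat.mul_div_cancel_left _ Fintype.card_pos]

end Cfsg.Agent.S2302
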