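import Cfsg.Statements.S2307
import Cfsg.Agent.Lib.GL2.ValuesSL

set_option autoImplicit false
open Cfsg

namespace Cfsg.Agent.S2307

theorem half_cast (q : ℕ) (hodd : Odd q) :
    2 * (((q + 1) / 2 : ℕ) : ℂ) = (q : ℂ) + 1 ∧ 2 * (((q - 1) / 2 : ℕ) : ℂ) = ((q - 1 : ℕ) : ℂ) := by
  obtain ⟨n, rfl⟩ := hodd
  rw [show (2 * n + 1 + 1) / 2 = n + 1 by omega, show (2 * n + 1 - 1) / 2 = n by omega,
    show 2 * n + 1 - 1 = 2 * n by omega]
  push_cast
  constructor <;> ring


/-- Over a finite field F with q elements, q odd, let α be the multiplicative character of F of order 2. The character of SL₂ induced from the linear character b ↦ α(b₁₁) of the upper triangular subgroup is the sum of two distinct irreducible characters, each of degree (q + 1)/2, which are conjugate under GL₂: some fixed element of GL₂ conjugates the one into the other. -/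
theorem result {F : Type*} [Field F] [Fintype F] [DecidableEq F] (hodd : Odd (Fintype.card F)) (α : MulChar F ℂ)
    (hα : α ^ 2 = 1) (hα1 : α ≠ 1) :
    ∃ χ₁ χ₂ : Matrix.SpecialLinearGroup (Fin 2) F → ℂ, Cfsg.IsIrrCharacter (Matrix.SpecialLinearGroup (Fin 2) F) χ₁ ∧ Cfsg.IsIrrCharacter (Matrix.SpecialLinearGroup (Fin 2) F) χ₂ ∧ χ₁ ≠ χ₂ ∧
      Cfsg.indFun ((Cfsg.upperTriangularGL 2 F).comap Matrix.SpecialLinearGroup.toGL) (fun b => α (((b : Matrix.SpecialLinearGroup (Fin 2) F) : Matrix (Fin 2) (Fin 2) F) 0 0)) = χ₁ + χ₂ ∧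
      χ₁ 1 = (((Fintype.card F + 1) / 2 : ℕ) : ℂ) ∧ χ₂ 1 = (((Fintype.card F + 1) / 2 : ℕ) : ℂ) ∧
      ∃ x : Matrix.GeneralLinearGroup (Fin 2) F, ∀ g h : Matrix.SpecialLinearGroup (Fin 2) F,
        Matrix.SpecialLinearGroup.toGL h = x * Matrix.SpecialLinearGroup.toGL g * x⁻¹ → χ₂ h = χ₁ g := by
  classical
  obtain ⟨χ, hχ, hne⟩ : ∃ χ, Cfsg.IsIrrCharacter (Matrix.SpecialLinearGroup (Fin 2) F) χ ∧
      Cfsg.classInner (GL2.Borel.pindS α) χ ≠ 0 := by
    by_contra hc
    push Not at hc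
    have h0 := Characters.classFun_eq_zero
      (Characters.char_isClassFunction (GL2.Borel.isCharacter_pindS α)) hc
    have := GL2.PrincipalSL.classInner_pindS_self_of_sq hα
    rw [h0] at this
    simp at this
  rcases GL2.ClassifySL.split_of_norm (GL2.Borel.isCharacter_pindS α) hχ hne le_rfl
    (by rw [GL2.PrincipalSL.classInner_pindS_self_of_sq hα]; norm_num) with ⟨-, h⟩ | ⟨-, χ', hχ', hne', he⟩
  · omega
  have hψ := GL2.Principal.isIrr_pind hα1
  have hres : GL2.PrincipalSL.res (GL2.Borel.pind α 1) = χ + χ' := by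
    rw [GL2.PrincipalSL.res_pind, inv_one, mul_one, he]
  obtain ⟨e, -, hconj⟩ := GL2.ClassifySL.split_diag hψ hχ hχ' hne'.symm hres
  obtain ⟨h1, h2⟩ := GL2.ClassifySL.split_degree hψ hχ hχ' hne'.symm hres
  rw [GL2.Principal.pind_one, ← (half_cast _ hodd).1] at h2
  have h3 := mul_left_cancel₀ two_ne_zero h2
  exact ⟨χ', χ, hχ', hχ, hne', he.trans (add_comm χ χ'), h1.symm.trans h3, h3,
    GL2.Borel.mkB e 1 0, fun g h hh => hconj g h hh⟩

end Cfsg.Agent.S2307
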