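import Cfsg.Statements.S2308
import Cfsg.Agent.Lib.GL2.Counts

set_option autoImplicit false
open Cfsg

namespace Cfsg.Agent.S2308

/-- Coset representatives for the Borel subgroup of `GL₂`. -/
def rep {F : Type*} [Field F] : Option F → Matrix.GeneralLinearGroup (Fin 2) F
  | none => 1
  | some a => Matrix.GeneralLinearGroup.mkOfDetNeZero !![a, 1; 1, 0] (by simp [Matrix.det_fin_two_of])

theorem mem_borel_iff {F : Type*} [Field F] (g : Matrix.GeneralLinearGroup (Fin 2) F) :
    g ∈ Cfsg.upperTriangularGL 2 F ↔ (g : Matrix (Fin 2) (Fin 2) F) 1 0 = 0 := by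
  show (g : Matrix (Fin 2) (Fin 2) F).BlockTriangular id ↔ _
  refine ⟨fun h => h (by decide), fun h i j hij => ?_⟩
  fin_cases i <;> fin_cases j <;> simp_all

theorem rep_inv_mul {F : Type*} [Field F] (a : F) (g : Matrix.GeneralLinearGroup (Fin 2) F) :
    ((rep (some a))⁻¹ * g : Matrix.GeneralLinearGroup (Fin 2) F).val 1 0 =
        (g : Matrix (Fin 2) (Fin 2) F) 0 0 - a * (g : Matrix (Fin 2) (Fin 2) F) 1 0 ∧
      ((rep (some a))⁻¹ * g : Matrix.GeneralLinearGroup (Fin 2) F).val 1 1 =
        (g : Matrix (Fin 2) (Fin 2) F) 0 1 - a * (g : Matrix (Fin 2) (Fin 2) F) 1 1 := by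
  have hinv : ((rep (some a))⁻¹ : Matrix.GeneralLinearGroup (Fin 2) F).val =
      (!![0, 1; 1, -a] : Matrix (Fin 2) (Fin 2) F) := by
    refine Units.inv_eq_of_mul_eq_one_right ?_
    ext i j
    fin_cases i <;> fin_cases j <;> simp [rep, Matrix.mul_apply, Fin.sum_univ_two]
  rw [Units.val_mul, hinv]
  constructor <;> simp [Matrix.mul_apply, Fin.sum_univ_two] <;> ring

theorem rep_bijective {F : Type*} [Field F] :
    Function.Bijective (fun o : Option F => (QuotientGroup.mk (rep o) :
      Matrix.GeneralLinearGroup (Fin 2) F ⧸ Cfsg.upperTriangularGL 2 F)) := by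
  constructor
  · rintro (_ | a) (_ | b) h
    · rfl
    · have h' := (mem_borel_iff _).1 (QuotientGroup.eq.1 h)
      simp [rep] at h'
    · have h' := (mem_borel_iff _).1 (QuotientGroup.eq.1 h)
      rw [(rep_inv_mul a _).1] at h'; simp [rep] at h'
    · have h' := (mem_borel_iff _).1 (QuotientGroup.eq.1 h)
      rw [(rep_inv_mul a _).1] at h'
      simp [rep, sub_eq_zero] at h'
      exact congrArg some h'.symm
  · intro C
    induction C using QuotientGroup.induction_on with
    | _ g =>
      by_cases h : (g : Matrix (Fin 2) (Fin 2) F) 1 0 = 0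
      · exact ⟨none, QuotientGroup.eq.2 ((mem_borel_iff _).2 (by simpa [rep] using h))⟩
      · refine ⟨some ((g : Matrix (Fin 2) (Fin 2) F) 0 0 / (g : Matrix (Fin 2) (Fin 2) F) 1 0),
          QuotientGroup.eq.2 ((mem_borel_iff _).2 ?_)⟩
        rw [(rep_inv_mul _ g).1, div_mul_cancel₀ _ h, sub_self]

/-- The condition that the representative indexed by `o` is fixed by `g`. -/
def Fixed {F : Type*} [Field F] (g : Matrix (Fin 2) (Fin 2) F) : Option F → Prop
  | none => g 1 0 = 0
  | some a => g 0 1 + a * (g 0 0 - g 1 1) - a ^ 2 * g 1 0 = 0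

theorem value {F : Type*} [Field F] (g : Matrix.GeneralLinearGroup (Fin 2) F) :
    Cfsg.fixedPointCharacter (Cfsg.upperTriangularGL 2 F) g =
      (Nat.card {o : Option F // Fixed (g : Matrix (Fin 2) (Fin 2) F) o} : ℂ) := by
  rw [Cfsg.fixedPointCharacter]
  congr 1
  refine (Nat.card_congr ((Equiv.ofBijective _ rep_bijective).subtypeEquiv ?_)).symm
  intro o
  simp only [Equiv.ofBijective_apply, MulAction.mem_fixedBy, MulAction.Quotient.smul_mk]
  rw [eq_comm (a := (QuotientGroup.mk (g • rep o) : Matrix.GeneralLinearGroup (Fin 2) F ⧸ _)),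
    QuotientGroup.eq, mem_borel_iff, smul_eq_mul]
  rcases o with _ | a
  · simp [Fixed, rep]
  · rw [(rep_inv_mul a _).1, Units.val_mul]
    simp [Fixed, rep, Matrix.mul_apply, Fin.sum_univ_two]
    refine ⟨fun h => ?_, fun h => ?_⟩ <;> linear_combination h


/-- Values of the permutation character of GL₂ over a finite field F with q elements on the cosets of its upper triangular subgroup (equivalently, the number of lines of F² that an element maps to themselves): q + 1 at a scalar matrix, 2 at a diagonal matrix with two different diagonal entries, 0 at an element with no eigenvector in F², and 1 at an upper triangular matrix with equal diagonal entries and non-zero upper right entry. -/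
theorem result {F : Type*} [Field F] [Fintype F] (g : Matrix.GeneralLinearGroup (Fin 2) F) :
    ((∃ a : F, (g : Matrix (Fin 2) (Fin 2) F) = a • (1 : Matrix (Fin 2) (Fin 2) F)) → Cfsg.fixedPointCharacter (Cfsg.upperTriangularGL 2 F) g = Fintype.card F + 1) ∧
    ((g : Matrix (Fin 2) (Fin 2) F) 0 1 = 0 → (g : Matrix (Fin 2) (Fin 2) F) 1 0 = 0 → (g : Matrix (Fin 2) (Fin 2) F) 0 0 ≠ (g : Matrix (Fin 2) (Fin 2) F) 1 1 →
      Cfsg.fixedPointCharacter (Cfsg.upperTriangularGL 2 F) g = 2) ∧
    ((∀ (c : F) (v : Fin 2 → F), v ≠ 0 → (g : Matrix (Fin 2) (Fin 2) F).mulVec v ≠ c • v) → Cfsg.fixedPointCharacter (Cfsg.upperTriangularGL 2 F) g = 0) ∧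
    ((g : Matrix (Fin 2) (Fin 2) F) 1 0 = 0 → (g : Matrix (Fin 2) (Fin 2) F) 0 0 = (g : Matrix (Fin 2) (Fin 2) F) 1 1 → (g : Matrix (Fin 2) (Fin 2) F) 0 1 ≠ 0 →
      Cfsg.fixedPointCharacter (Cfsg.upperTriangularGL 2 F) g = 1) := by
  classical
  rw [value]
  refine ⟨?_, ?_, ?_, ?_⟩
  · rintro ⟨a, ha⟩
    rw [Nat.card_congr (Equiv.subtypeUnivEquiv (fun o => by rcases o with _ | b <;> simp [Fixed, ha])),
      Nat.card_eq_fintype_card, Fintype.card_option]
    push_cast
    ring
  · intro h01 h10 hne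
    have : {o : Option F | Fixed (g : Matrix (Fin 2) (Fin 2) F) o} = {none, some 0} := by
      ext (_ | a) <;> simp [Fixed, h01, h10, sub_eq_zero, hne]
    show ((Nat.card ↥{o : Option F | Fixed (g : Matrix (Fin 2) (Fin 2) F) o} : ℕ) : ℂ) = 2
    rw [this, Nat.card_coe_set_eq, Set.ncard_pair (by simp)]
    norm_num
  · intro hv
    have : IsEmpty {o : Option F // Fixed (g : Matrix (Fin 2) (Fin 2) F) o} := by
      refine ⟨fun ⟨o, ho⟩ => ?_⟩
      rcases o with _ | a <;> simp only [Fixed] at ho
      · refine hv ((g : Matrix (Fin 2) (Fin 2) F) 0 0) ![1, 0] (by simp) ?_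
        funext i
        fin_cases i <;> simp [Matrix.mulVec, dotProduct, ho]
      · refine hv ((g : Matrix (Fin 2) (Fin 2) F) 1 0 * a + (g : Matrix (Fin 2) (Fin 2) F) 1 1)
          ![a, 1] (by simp) ?_
        funext i
        fin_cases i <;> simp [Matrix.mulVec, dotProduct]
        linear_combination ho
    rw [Nat.card_of_isEmpty, Nat.cast_zero]
  · intro h10 hd h01
    have : {o : Option F | Fixed (g : Matrix (Fin 2) (Fin 2) F) o} = {none} := by
      ext (_ | a) <;> simp [Fixed, h01, h10, hd]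
    show ((Nat.card ↥{o : Option F | Fixed (g : Matrix (Fin 2) (Fin 2) F) o} : ℕ) : ℂ) = 1
    rw [this, Nat.card_coe_set_eq, Set.ncard_singleton]
    norm_num

end Cfsg.Agent.S2308
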