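import Cfsg.Statements.S2309
import Cfsg.Agent.Lib.GL2.ClassifyGL

set_option autoImplicit false
open Cfsg

namespace Cfsg.Agent.S2309

/-- Over a finite field F with q elements: every irreducible complex character of GL₂ of degree q − 1 vanishes at every diagonal matrix with two distinct entries, and every irreducible complex character of degree q + 1 vanishes at every element with no eigenvector in F². -/
theorem result {F : Type*} [Field F] [Fintype F] (χ : Matrix.GeneralLinearGroup (Fin 2) F → ℂ) (hχ : Cfsg.IsIrrCharacter (Matrix.GeneralLinearGroup (Fin 2) F) χ) (g : Matrix.GeneralLinearGroup (Fin 2) F) :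
    (χ 1 = (Fintype.card F : ℂ) - 1 → (g : Matrix (Fin 2) (Fin 2) F) 0 1 = 0 → (g : Matrix (Fin 2) (Fin 2) F) 1 0 = 0 → (g : Matrix (Fin 2) (Fin 2) F) 0 0 ≠ (g : Matrix (Fin 2) (Fin 2) F) 1 1 → χ g = 0) ∧
    (χ 1 = (Fintype.card F : ℂ) + 1 → (∀ (c : F) (v : Fin 2 → F), v ≠ 0 → (g : Matrix (Fin 2) (Fin 2) F).mulVec v ≠ c • v) → χ g = 0) := by
  classical
  refine ⟨fun hd h01 h10 hne => ?_, fun hd hg => ?_⟩
  · obtain ⟨p, r, x, rfl⟩ := GL2.Borel.exists_mkB h10
    have hpr : p ≠ r := fun e => hne (by simp [e])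
    rcases GL2.ClassifyGL.classify_degree hχ with ⟨-, h⟩ | ⟨-, h⟩ | ⟨-, h⟩ | ⟨hc, -⟩
    · have h2 : Fintype.card F = 2 := Nat.cast_injective (R := ℂ) (by
        push_cast; linear_combination h - hd)
      have : Subsingleton Fˣ := Fintype.card_le_one_iff_subsingleton.1 (by
        rw [Fintype.card_units, h2])
      exact absurd (Subsingleton.elim p r) hpr
    · exact absurd (h.symm.trans hd) (fun e => one_ne_zero (α := ℂ) (by first | linear_combination e | linear_combination -e))
    · have h' := h.symm.trans hd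
      exact absurd (show (2 : ℂ) = 0 by linear_combination h') two_ne_zero
    · exact GL2.ClassifyGL.cusp_diag
        (Characters.char_isClassFunction (Characters.isCharacter_of_isIrr hχ)) hc hpr x
  · rcases GL2.ClassifyGL.classify_degree hχ with ⟨-, h⟩ | ⟨-, h⟩ | ⟨⟨α, β, -, rfl⟩, -⟩ | ⟨-, h⟩
    · exact absurd (h.symm.trans hd) (fun e => Fintype.card_ne_zero (Nat.cast_eq_zero (R := ℂ) |>.1 (show ((Fintype.card F : ℕ) : ℂ) = 0 by linear_combination -e)))
    · exact absurd (h.symm.trans hd) (fun e => one_ne_zero (α := ℂ) (by first | linear_combination e | linear_combination -e))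
    · exact GL2.Borel.pind_eq_zero α β hg
    · have h' := h.symm.trans hd
      exact absurd (show (2 : ℂ) = 0 by linear_combination -h') two_ne_zero

end Cfsg.Agent.S2309
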