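import Cfsg.Statements.S2310
import Cfsg.Agent.Lib.GL2.ClassifyGL

set_option autoImplicit false
open Cfsg

namespace Cfsg.Agent.S2310

/-- Over a finite field F with q ≥ 3 elements, let u be the upper unitriangular matrix of GL₂ with off-diagonal entry 1. An irreducible complex character χ of GL₂ takes at u the value 1 if χ has degree 1 or q + 1, the value −1 if χ has degree q − 1, and the value 0 if χ has degree q. -/
theorem result {F : Type*} [Field F] [Fintype F] (hq : 3 ≤ Fintype.card F) (χ : Matrix.GeneralLinearGroup (Fin 2) F → ℂ) (hχ : Cfsg.IsIrrCharacter (Matrix.GeneralLinearGroup (Fin 2) F) χ)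
    (u : Matrix.GeneralLinearGroup (Fin 2) F) (hu : (u : Matrix (Fin 2) (Fin 2) F) = !![1, 1; 0, 1]) :
    (χ 1 = 1 → χ u = 1) ∧ (χ 1 = (Fintype.card F : ℂ) + 1 → χ u = 1) ∧
    (χ 1 = (Fintype.card F : ℂ) - 1 → χ u = -1) ∧ (χ 1 = (Fintype.card F : ℂ) → χ u = 0) := by
  classical
  have hu' : u = GL2.Borel.mkB 1 1 1 := Units.ext (by simp [hu])
  subst hu'
  have hne : ∀ a b : ℕ, a ≠ b → (a : ℂ) ≠ b := fun a b h e => h (Nat.cast_injective e)
  rcases GL2.ClassifyGL.classify_degree hχ with ⟨⟨α, rfl⟩, h⟩ | ⟨⟨α, rfl⟩, h⟩ |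
    ⟨⟨α, β, -, rfl⟩, h⟩ | ⟨hc, h⟩
  · have hv : GL2.Principal.lin α (GL2.Borel.mkB 1 1 1) = 1 := by simp [GL2.Principal.lin_mkB]
    refine ⟨fun _ => hv, fun _ => hv, fun hd => ?_, fun hd => ?_⟩
    · exact absurd (h.symm.trans hd) (fun e => hne 2 (Fintype.card F) (by omega) (by
        push_cast; linear_combination e))
    · exact absurd (h.symm.trans hd) (fun e => hne 1 (Fintype.card F) (by omega) (by simpa using e))
  · have hv : GL2.Principal.stTw α (GL2.Borel.mkB 1 1 1) = 0 := by
      rw [GL2.Principal.stTw, Pi.mul_apply, GL2.Principal.St, Pi.sub_apply,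
        GL2.Borel.pind_mkB_unipotent _ _ _ one_ne_zero]
      simp
    refine ⟨fun hd => ?_, fun hd => ?_, fun hd => ?_, fun _ => hv⟩
    · exact absurd (h.symm.trans hd) (fun e => hne (Fintype.card F) 1 (by omega) (by simpa using e))
    · exact absurd (h.symm.trans hd) (fun e => one_ne_zero (α := ℂ) (by first | linear_combination e | linear_combination -e))
    · exact absurd (h.symm.trans hd) (fun e => one_ne_zero (α := ℂ) (by first | linear_combination e | linear_combination -e))
  · have hv : GL2.Borel.pind α β (GL2.Borel.mkB 1 1 1) = 1 := by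
      rw [GL2.Borel.pind_mkB_unipotent _ _ _ one_ne_zero]
      simp
    refine ⟨fun _ => hv, fun _ => hv, fun hd => ?_, fun hd => ?_⟩
    · have h' := h.symm.trans hd
      exact absurd (show (2 : ℂ) = 0 by linear_combination h') two_ne_zero
    · exact absurd (h.symm.trans hd) (fun e => one_ne_zero (α := ℂ) (by first | linear_combination e | linear_combination -e))
  · have hv := (GL2.ClassifyGL.families.2.2.2.2 χ hχ hc).2
    refine ⟨fun hd => ?_, fun hd => ?_, fun _ => hv, fun hd => ?_⟩
    · exact absurd (h.symm.trans hd) (fun e => hne (Fintype.card F) 2 (by omega) (by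
        push_cast; linear_combination e))
    · have h' := h.symm.trans hd
      exact absurd (show (2 : ℂ) = 0 by linear_combination -h') two_ne_zero
    · exact absurd (h.symm.trans hd) (fun e => one_ne_zero (α := ℂ) (by first | linear_combination e | linear_combination -e))

end Cfsg.Agent.S2310
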