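import Cfsg.Statements.S2315
import Cfsg.Agent.SimpleFacts.NilpotentCount


set_option autoImplicit false
set_option linter.style.haveILetI false
open Cfsg

namespace Cfsg.Agent.S2315

/-- Steinberg's count of unipotent elements for the general linear group: over a finite field with q elements of characteristic p, the number of elements of GL_n of p-power order (the unipotent matrices) is q^(n(n−1)). -/
theorem result {F : Type*} [Field F] [Fintype F] (p : ℕ) [Fact p.Prime] [CharP F p] (n : ℕ) :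
    Nat.card {g : Matrix.GeneralLinearGroup (Fin n) F // ∃ k : ℕ, orderOf g = p ^ k} = Fintype.card F ^ (n * (n - 1)) := by
  classical
  rcases Nat.eq_zero_or_pos n with rfl | hn
  · rw [Nat.zero_mul, pow_zero, Nat.card_eq_one_iff_unique]
    exact ⟨⟨fun a b => Subtype.ext (Units.ext (Subsingleton.elim _ _))⟩,
      ⟨⟨1, 0, by rw [orderOf_one, pow_zero]⟩⟩⟩
  haveI : Nonempty (Fin n) := ⟨⟨0, hn⟩⟩
  rw [← SimpleFacts.NilpotentCount.card_nilpotent (F := F) n]
  have hpow : ∀ (M : Matrix (Fin n) (Fin n) F) (j : ℕ), (M - 1) ^ p ^ j = M ^ p ^ j - 1 := fun M j => by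
    rw [sub_pow_char_pow_of_commute (p := p) j (Commute.one_right M), one_pow]
  refine Nat.card_congr (Equiv.ofBijective (fun g => (⟨((g.1 : GL (Fin n) F) : Matrix (Fin n) (Fin n) F) - 1, ?_⟩ :
    SimpleFacts.NilpotentCount.Nil F n)) ⟨?_, ?_⟩)
  · obtain ⟨k, hk⟩ := g.2
    refine ⟨p ^ k, ?_⟩
    rw [hpow, ← Units.val_pow_eq_pow_val, ← hk, pow_orderOf_eq_one, Units.val_one, sub_self]
  · intro a b h
    exact Subtype.ext (Units.ext (sub_left_inj.1 (congrArg Subtype.val h)))
  · rintro ⟨N, hN⟩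
    obtain ⟨u, hu⟩ : IsUnit (N + 1) := hN.isUnit_add_one
    obtain ⟨m, hm⟩ := hN
    have h1 : N ^ p ^ m = 0 :=
      pow_eq_zero_of_le ((Fact.out : p.Prime).one_lt |> fun h => (Nat.lt_pow_self h).le) hm
    have h2 : u ^ p ^ m = 1 := Units.ext (by
      have := hpow (N + 1) m
      rw [add_sub_cancel_right, h1] at this
      rw [Units.val_pow_eq_pow_val, hu, Units.val_one]
      exact sub_eq_zero.1 this.symm)
    obtain ⟨k, -, hk⟩ := (Nat.dvd_prime_pow Fact.out).1 (orderOf_dvd_of_pow_eq_one h2)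
    refine ⟨⟨u, k, hk⟩, Subtype.ext ?_⟩
    show (u : Matrix (Fin n) (Fin n) F) - 1 = N
    rw [hu, add_sub_cancel_right]

end Cfsg.Agent.S2315
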