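import Cfsg.Statements.S2320
import Cfsg.Agent.Lib.GL2.ClassifyGL

set_option autoImplicit false
open Cfsg

namespace Cfsg.Agent.S2320

/-- Over a finite field F with q elements, every irreducible complex character of GL₂ of degree q takes a value of absolute value 1 at every diagonal matrix with two different diagonal entries and at every element with no eigenvector in F². -/
theorem result {F : Type*} [Field F] [Fintype F] (χ : Matrix.GeneralLinearGroup (Fin 2) F → ℂ) (hχ : Cfsg.IsIrrCharacter (Matrix.GeneralLinearGroup (Fin 2) F) χ) (hdeg : χ 1 = (Fintype.card F : ℂ)) (g : Matrix.GeneralLinearGroup (Fin 2) F) :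
    ((g : Matrix (Fin 2) (Fin 2) F) 0 1 = 0 → (g : Matrix (Fin 2) (Fin 2) F) 1 0 = 0 → (g : Matrix (Fin 2) (Fin 2) F) 0 0 ≠ (g : Matrix (Fin 2) (Fin 2) F) 1 1 → ‖χ g‖ = 1) ∧
    ((∀ (c : F) (v : Fin 2 → F), v ≠ 0 → (g : Matrix (Fin 2) (Fin 2) F).mulVec v ≠ c • v) → ‖χ g‖ = 1) := by
  classical
  rcases GL2.ClassifyGL.classify_degree hχ with ⟨-, h⟩ | ⟨⟨α, rfl⟩, -⟩ | ⟨-, h⟩ | ⟨-, h⟩
  · exact absurd (Nat.cast_injective (R := ℂ) (by simpa using h.symm.trans hdeg))
      (Fintype.one_lt_card (α := F)).ne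
  · have key : ‖GL2.Principal.St g‖ = 1 → ‖GL2.Principal.stTw α g‖ = 1 := fun h => by
      rw [GL2.Principal.stTw, Pi.mul_apply, norm_mul, h, GL2.Principal.norm_lin, one_mul]
    constructor
    · intro h01 h10 hne
      refine key ?_
      obtain ⟨p, r, x, rfl⟩ := GL2.Borel.exists_mkB h10
      have hpr : p ≠ r := fun e => hne (by simp [e])
      rw [GL2.Principal.St, Pi.sub_apply, GL2.Borel.pind_mkB_ne _ _ hpr]
      simp [MulChar.one_apply_coe]
    · intro hg
      refine key ?_
      rw [GL2.Principal.St, Pi.sub_apply, GL2.Borel.pind_eq_zero _ _ hg]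
      simp
  · have := h.symm.trans hdeg
    simp at this
  · have := h.symm.trans hdeg
    simp at this

end Cfsg.Agent.S2320
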