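import Cfsg.Statements.S2321
import Cfsg.Agent.Lib.GL2.ValuesSL

set_option autoImplicit false
open Cfsg

namespace Cfsg.Agent.S2321

/-- Over a finite field F with q elements, an irreducible complex character of SL₂ of degree q (the Steinberg character) takes the value 1 at every diagonal matrix whose diagonal entry a has a² ≠ 1, the value −1 at every element with no eigenvector in F², and the value 0 at every upper triangular matrix with equal diagonal entries and non-zero upper right entry. -/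
theorem result {F : Type*} [Field F] [Fintype F] (χ : Matrix.SpecialLinearGroup (Fin 2) F → ℂ) (hχ : Cfsg.IsIrrCharacter (Matrix.SpecialLinearGroup (Fin 2) F) χ) (hdeg : χ 1 = (Fintype.card F : ℂ)) (g : Matrix.SpecialLinearGroup (Fin 2) F) :
    ((g : Matrix (Fin 2) (Fin 2) F) 0 1 = 0 → (g : Matrix (Fin 2) (Fin 2) F) 1 0 = 0 → (g : Matrix (Fin 2) (Fin 2) F) 0 0 ^ 2 ≠ 1 → χ g = 1) ∧
    ((∀ (c : F) (v : Fin 2 → F), v ≠ 0 → (g : Matrix (Fin 2) (Fin 2) F).mulVec v ≠ c • v) → χ g = -1) ∧
    ((g : Matrix (Fin 2) (Fin 2) F) 1 0 = 0 → (g : Matrix (Fin 2) (Fin 2) F) 0 0 = (g : Matrix (Fin 2) (Fin 2) F) 1 1 → (g : Matrix (Fin 2) (Fin 2) F) 0 1 ≠ 0 → χ g = 0) := by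
  classical
  have hq := Fintype.one_lt_card (α := F)
  have hne : ∀ a b : ℕ, a ≠ b → (a : ℂ) ≠ b := fun a b h e => h (Nat.cast_injective e)
  have hSt : χ = GL2.PrincipalSL.StS := by
    rcases GL2.ClassifySL.classify_degree hχ with ⟨-, h⟩ | ⟨h, -⟩ | ⟨-, h⟩ | ⟨-, h⟩ | ⟨-, h, -⟩ |
      ⟨-, -, h⟩ <;> rw [hdeg] at *
    · exact absurd h (by simpa using hne (Fintype.card F) 1 (by omega))
    · exact h
    · exact absurd h (fun e => one_ne_zero (α := ℂ) (by linear_combination -e))
    · exact absurd h (fun e => hne (Fintype.card F) 1 (by omega) (by push_cast; linear_combination e))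
    · exact absurd h (fun e => one_ne_zero (α := ℂ) (by linear_combination e))
    · exact absurd h (fun e => hne (Fintype.card F + 1) 0 (by omega) (by push_cast; linear_combination e))
  subst hSt
  refine ⟨fun h01 h10 hne' => ?_, fun hg => ?_, fun h10 heq h01 => ?_⟩
  · obtain ⟨p, x, rfl⟩ := GL2.ValuesSL.exists_mkS h10
    have hp : p ≠ p⁻¹ := fun e => hne' (by
      have h1 : p * p = 1 := by nth_rw 2 [e]; exact mul_inv_cancel p
      have := congrArg Units.val h1
      simpa [sq] using this)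
    rw [GL2.PrincipalSL.StS, Pi.sub_apply, GL2.PrincipalSL.pindS_mkS_ne _ hp,
      MulChar.one_apply_coe, MulChar.one_apply_coe]
    ring
  · rw [GL2.PrincipalSL.StS, Pi.sub_apply, GL2.PrincipalSL.pindS_eq_zero _ hg, zero_sub]
  · obtain ⟨p, x, rfl⟩ := GL2.ValuesSL.exists_mkS h10
    have hp : p = p⁻¹ := Units.ext (by simpa using heq)
    rw [GL2.PrincipalSL.StS, Pi.sub_apply, GL2.PrincipalSL.pindS_uni _ hp (by simpa using h01),
      MulChar.one_apply_coe, sub_self]

end Cfsg.Agent.S2321
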