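import Cfsg.Statements.S2322
import Cfsg.Agent.Lib.GL2.ValuesSL

set_option autoImplicit false
open Cfsg

namespace Cfsg.Agent.S2322

theorem half_cast (q : ℕ) (hodd : Odd q) :
    2 * (((q + 1) / 2 : ℕ) : ℂ) = (q : ℂ) + 1 ∧ 2 * (((q - 1) / 2 : ℕ) : ℂ) = ((q - 1 : ℕ) : ℂ) := by
  obtain ⟨n, rfl⟩ := hodd
  rw [show (2 * n + 1 + 1) / 2 = n + 1 by omega, show (2 * n + 1 - 1) / 2 = n by omega,
    show 2 * n + 1 - 1 = 2 * n by omega]
  push_cast
  constructor <;> ring

theorem three_case {F : Type*} [Field F] [Fintype F] [DecidableEq F] (h3 : Fintype.card F = 3)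
    {χ : Matrix.SpecialLinearGroup (Fin 2) F → ℂ}
    (hχ : Cfsg.IsIrrCharacter (Matrix.SpecialLinearGroup (Fin 2) F) χ) (hdeg : χ 1 = 2)
    (hc : GL2.ClassifySL.IsCuspS χ) {g : Matrix.SpecialLinearGroup (Fin 2) F}
    (hg : ∀ (c : F) (v : Fin 2 → F), v ≠ 0 → (g : Matrix (Fin 2) (Fin 2) F).mulVec v ≠ c • v) :
    χ g = 0 := by
  classical
  have h2F : (2 : F) ≠ 0 := GL2.Counts.two_ne_zero_of_odd (by rw [h3]; decide)
  have hall : ∀ a : F, a = 0 ∨ a = 1 ∨ a = -1 := by
    intro a
    rcases eq_or_ne a 0 with h | h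
    · exact Or.inl h
    · have := FiniteField.pow_card_sub_one_eq_one a h
      rw [h3] at this
      exact Or.inr (sq_eq_one_iff.1 this)
  have h30 : (3 : F) = 0 := by
    have := FiniteField.cast_card_eq_zero F
    rw [h3] at this
    exact_mod_cast this
  have htr : (g : Matrix (Fin 2) (Fin 2) F).trace = 0 := by
    rcases hall (g : Matrix (Fin 2) (Fin 2) F).trace with h | h | h
    · exact h
    all_goals
      refine absurd ?_ (GL2.ValuesSL.elliptic_trace hg h2F)
      rw [h]
      linear_combination -h30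
  have hns : ¬ GL2.Classes.IsScalar (g : Matrix (Fin 2) (Fin 2) F) := by
    rintro ⟨c, hc'⟩
    exact hg c ![1, 0] (by simp) (by rw [hc', Matrix.smul_mulVec, Matrix.one_mulVec])
  have hC : Nat.card (Subgroup.centralizer ({g} : Set (Matrix.SpecialLinearGroup (Fin 2) F))) = 4 := by
    rw [← Nat.card_congr (GL2.Classes.centralizerEquivSL g hns), Nat.card_eq_fintype_card,
      Fintype.card_subtype]
    have hne : (-1 : F) ≠ 1 := fun h => h2F (by linear_combination -h)
    have h21 : (2 : F) ≠ 1 := fun h => one_ne_zero (α := F) (by linear_combination h)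
    rw [show (Finset.univ.filter fun x : F × F =>
      GL2.Classes.normForm (g : Matrix (Fin 2) (Fin 2) F) x = 1) = {(1, 0), (-1, 0), (0, 1), (0, -1)} by
      ext ⟨a, b⟩
      simp only [Finset.mem_filter, Finset.mem_univ, true_and, GL2.Classes.normForm, htr, g.2,
        Finset.mem_insert, Finset.mem_singleton, Prod.ext_iff, mul_zero, add_zero, mul_one]
      rcases hall a with rfl | rfl | rfl <;> rcases hall b with rfl | rfl | rfl <;>
        simp [h2F, hne, hne.symm, h21, h21.symm, one_add_one_eq_two]]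
    simp [hne, hne.symm]
  haveI := Fintype.ofFinite (Cfsg.IrrCharacter (Matrix.SpecialLinearGroup (Fin 2) F))
  have horth := Characters.second_orthogonality g g
  rw [if_pos (IsConj.refl g), hC] at horth
  simp only [Complex.mul_conj, Complex.normSq_eq_norm_sq, ← Complex.ofReal_sum] at horth
  have horth' : ∑ η : Cfsg.IrrCharacter (Matrix.SpecialLinearGroup (Fin 2) F), ‖η.1 g‖ ^ 2 = 4 := by
    exact_mod_cast horth
  obtain ⟨k, hk, -, -, -, -, -, f5⟩ := GL2.CountsSL.families (F := F)
  obtain rfl : k = 2 := hk ▸ GL2.Counts.sq_eq_one_card_odd h2F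
  set A : Finset (Cfsg.IrrCharacter (Matrix.SpecialLinearGroup (Fin 2) F)) :=
    Finset.univ.filter fun η => GL2.CountsSL.Kind 5 η.1
  have hA : A.card = 2 := by
    have : A.card + 2 = 2 * 2 := by
      rw [← f5, Nat.card_eq_fintype_card, Fintype.card_subtype]
    omega
  have hdA : ∀ η ∈ A, η.1 1 = 1 := fun η hη => by
    have h := (Finset.mem_filter.1 hη).2.2
    simp [GL2.CountsSL.deg2, h3] at h
    linear_combination h
  set one : Cfsg.IrrCharacter (Matrix.SpecialLinearGroup (Fin 2) F) :=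
    ⟨fun _ => 1, Characters.isIrrCharacter_one⟩
  set st : Cfsg.IrrCharacter (Matrix.SpecialLinearGroup (Fin 2) F) :=
    ⟨GL2.PrincipalSL.StS, GL2.PrincipalSL.isIrr_StS⟩
  have hne1 : one ≠ st := fun h => GL2.ClassifySL.one_ne_StS (congrArg Subtype.val h)
  have hnA1 : one ∉ A := fun h => absurd
    (GL2.CountsSL.kind_unique GL2.CountsSL.kind_zero (Finset.mem_filter.1 h).2) (by decide)
  have hnA2 : st ∉ A := fun h => absurd
    (GL2.CountsSL.kind_unique GL2.CountsSL.kind_one (Finset.mem_filter.1 h).2) (by decide)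
  have hnot : (⟨χ, hχ⟩ : Cfsg.IrrCharacter (Matrix.SpecialLinearGroup (Fin 2) F)) ∉
      insert one (insert st A) := by
    simp only [Finset.mem_insert, not_or]
    refine ⟨fun h => ?_, fun h => ?_, fun h => ?_⟩
    · exact GL2.ClassifySL.one_not_cusp ((show χ = fun _ => 1 from congrArg Subtype.val h) ▸ hc)
    · exact GL2.ClassifySL.StS_not_cusp ((show χ = GL2.PrincipalSL.StS from congrArg Subtype.val h) ▸ hc)
    · have := hdA _ h
      rw [show (⟨χ, hχ⟩ : Cfsg.IrrCharacter (Matrix.SpecialLinearGroup (Fin 2) F)).1 1 = χ 1 from rfl,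
        hdeg] at this
      norm_num at this
  have hle := Finset.sum_le_sum_of_subset_of_nonneg
    (f := fun η : Cfsg.IrrCharacter (Matrix.SpecialLinearGroup (Fin 2) F) => ‖η.1 g‖ ^ 2)
    (Finset.subset_univ (insert ⟨χ, hχ⟩ (insert one (insert st A)))) (fun _ _ _ => sq_nonneg _)
  rw [Finset.sum_insert hnot, Finset.sum_insert (by simp [hne1, hnA1]), Finset.sum_insert hnA2,
    horth'] at hle
  have hv1 : ‖one.1 g‖ ^ 2 = 1 := by simp [one]
  have hv2 : ‖st.1 g‖ ^ 2 = 1 := by
    simp [st, GL2.PrincipalSL.StS, GL2.PrincipalSL.pindS_eq_zero _ hg]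
  have hv3 : ∑ η ∈ A, ‖η.1 g‖ ^ 2 = 2 := by
    rw [Finset.sum_congr rfl (g := fun _ => (1 : ℝ)) (fun η hη => ?_), Finset.sum_const, hA]
    · norm_num
    · have h := CharTheory.Basics.char_norm_eq_one (Characters.irr_isCharacter η) (hdA η hη) g
      rw [Complex.mul_conj, Complex.normSq_eq_norm_sq] at h
      exact_mod_cast h
  rw [hv1, hv2, hv3] at hle
  dsimp only at hle
  have h0 : ‖χ g‖ ^ 2 = 0 := le_antisymm (by linarith) (sq_nonneg _)
  exact norm_eq_zero.1 (pow_eq_zero_iff two_ne_zero |>.1 h0)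


/-- Over a finite field F with q elements, q odd: every irreducible complex character of SL₂ of degree q − 1 or (q − 1)/2 vanishes at every diagonal matrix whose diagonal entry a has a² ≠ 1, and every irreducible complex character of degree q + 1 or (q + 1)/2 vanishes at every element with no eigenvector in F². -/
theorem result {F : Type*} [Field F] [Fintype F] (hodd : Odd (Fintype.card F)) (χ : Matrix.SpecialLinearGroup (Fin 2) F → ℂ) (hχ : Cfsg.IsIrrCharacter (Matrix.SpecialLinearGroup (Fin 2) F) χ) (g : Matrix.SpecialLinearGroup (Fin 2) F) :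
    ((χ 1 = (Fintype.card F : ℂ) - 1 ∨ χ 1 = (((Fintype.card F - 1) / 2 : ℕ) : ℂ)) →
      (g : Matrix (Fin 2) (Fin 2) F) 0 1 = 0 → (g : Matrix (Fin 2) (Fin 2) F) 1 0 = 0 → (g : Matrix (Fin 2) (Fin 2) F) 0 0 ^ 2 ≠ 1 → χ g = 0) ∧
    ((χ 1 = (Fintype.card F : ℂ) + 1 ∨ χ 1 = (((Fintype.card F + 1) / 2 : ℕ) : ℂ)) →
      (∀ (c : F) (v : Fin 2 → F), v ≠ 0 → (g : Matrix (Fin 2) (Fin 2) F).mulVec v ≠ c • v) → χ g = 0) := by
  classical
  obtain ⟨hp, hm⟩ := half_cast _ hodd
  rw [GL2.CountsSL.cast_sub_one] at hm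
  have hcl := Characters.char_isClassFunction (Characters.isCharacter_of_isIrr hχ)
  have h2F := GL2.Counts.two_ne_zero_of_odd hodd
  have hodd' := Nat.odd_iff.1 hodd
  have hq := Fintype.one_lt_card (α := F)
  refine ⟨fun hd h01 h10 hne => ?_, fun hd hg => ?_⟩
  · obtain ⟨p, x, rfl⟩ := GL2.ValuesSL.exists_mkS h10
    have hp' : p ≠ p⁻¹ := fun e => hne (by
      have h1 : p * p = 1 := by nth_rw 2 [e]; exact mul_inv_cancel p
      have := congrArg Units.val h1
      simpa [sq] using this)
    have hq4 : 4 ≤ Fintype.card F := by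
      by_contra hc
      have h3 : Fintype.card F = 3 := by omega
      have hpp : (p : F) ^ (Fintype.card F - 1) = 1 :=
        FiniteField.pow_card_sub_one_eq_one (p : F) p.ne_zero
      rw [h3] at hpp
      exact hne (by simpa using hpp)
    refine GL2.ValuesSL.cusp_diag hcl ?_ hp' x
    rcases hd with hd | hd
    · exact (GL2.CountsSL.kind_of_degree hq4 hχ (i := 4)
        (by rw [hd]; simp [GL2.CountsSL.deg2, GL2.CountsSL.cast_sub_one])).1.2 rfl
    · exact (GL2.CountsSL.kind_of_degree hq4 hχ (i := 5)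
        (by rw [hd, hm]; simp [GL2.CountsSL.deg2, GL2.CountsSL.cast_sub_one])).1.2 rfl
  · have hdd : 2 * χ 1 = 2 * (Fintype.card F : ℂ) + 2 ∨ 2 * χ 1 = (Fintype.card F : ℂ) + 1 := by
      rcases hd with hd | hd
      · left; rw [hd]; ring
      · right; rw [hd, hp]
    have hhalf : GL2.ClassifySL.IsHalf χ → χ g = 0 := by
      rintro ⟨α, χ', hα, hα1, hχ', hne', he⟩
      have hres : GL2.PrincipalSL.res (GL2.Borel.pind α 1) = χ + χ' := by
        rw [GL2.PrincipalSL.res_pind, inv_one, mul_one, he]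
      have h1 := GL2.ClassifySL.split_eq (GL2.Principal.isIrr_pind hα1) hχ hχ' hne'.symm hres g
        (Or.inr (GL2.ValuesSL.elliptic_trace hg h2F))
      have h2 := congrFun he g
      rw [GL2.PrincipalSL.pindS_eq_zero _ hg, Pi.add_apply, ← h1] at h2
      exact mul_left_cancel₀ (two_ne_zero (α := ℂ)) (by linear_combination -h2)
    have hne : ∀ a b : ℕ, a ≠ b → (a : ℂ) ≠ b := fun a b h e => h (Nat.cast_injective e)
    rcases GL2.ClassifySL.classify_degree hχ with ⟨-, h⟩ | ⟨-, h⟩ | ⟨⟨α, -, rfl⟩, -⟩ | ⟨h, -⟩ |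
      ⟨hc, h, -⟩ | ⟨-, -, h⟩
    · exfalso
      rcases hdd with hdd | hdd <;> rw [h] at hdd
      · exact hne (Fintype.card F) 0 (by omega) (by push_cast; linear_combination (-1/2 : ℂ) * hdd)
      · exact hne (Fintype.card F) 1 (by omega) (by push_cast; linear_combination -hdd)
    · exfalso
      rcases hdd with hdd | hdd <;> rw [h] at hdd
      · exact two_ne_zero (α := ℂ) (by linear_combination -hdd)
      · exact hne (Fintype.card F) 1 (by omega) (by push_cast; linear_combination hdd)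
    · exact GL2.PrincipalSL.pindS_eq_zero α hg
    · exact hhalf h
    · rcases hdd with hdd | hdd <;> rw [h] at hdd
      · exact absurd (show (4 : ℂ) = 0 by linear_combination -hdd) (by norm_num)
      · have h3 : Fintype.card F = 3 := Nat.cast_injective (R := ℂ) (by push_cast; linear_combination hdd)
        exact three_case h3 hχ (h.trans (by rw [h3]; norm_num)) hc hg
    · exfalso
      rcases hdd with hdd | hdd <;> rw [h] at hdd
      · exact hne (Fintype.card F + 3) 0 (by omega) (by push_cast; linear_combination -hdd)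
      · exact two_ne_zero (α := ℂ) (by linear_combination -hdd)

end Cfsg.Agent.S2322
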