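import Cfsg.Statements.S2323
import Cfsg.Agent.Lib.GL2.ValuesSL

set_option autoImplicit false
open Cfsg

namespace Cfsg.Agent.S2323

/-- Over a finite field F with q ≥ 4 elements, let u be the upper unitriangular matrix of SL₂ with off-diagonal entry 1. An irreducible complex character of SL₂ takes at u the value 1 if its degree is q + 1 and the value −1 if its degree is q − 1. -/
theorem result {F : Type*} [Field F] [Fintype F] (hq : 4 ≤ Fintype.card F) (χ : Matrix.SpecialLinearGroup (Fin 2) F → ℂ) (hχ : Cfsg.IsIrrCharacter (Matrix.SpecialLinearGroup (Fin 2) F) χ)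
    (u : Matrix.SpecialLinearGroup (Fin 2) F) (hu : (u : Matrix (Fin 2) (Fin 2) F) = !![1, 1; 0, 1]) :
    (χ 1 = (Fintype.card F : ℂ) + 1 → χ u = 1) ∧ (χ 1 = (Fintype.card F : ℂ) - 1 → χ u = -1) := by
  classical
  have hu' : u = GL2.Borel.mkS 1 1 := Subtype.ext (by simp [hu])
  subst hu'
  obtain ⟨j, hj⟩ := GL2.CountsSL.exists_kind hχ
  refine ⟨fun hd => ?_, fun hd => ?_⟩
  · have h2 := GL2.CountsSL.kind_of_degree hq hχ (i := 2) (by rw [hd]; simp [GL2.CountsSL.deg2]; ring)
    obtain ⟨α, -, rfl⟩ := (GL2.CountsSL.kind_cases hχ).2.2.1 h2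
    rw [GL2.PrincipalSL.pindS_uni _ (by simp) one_ne_zero]
    simp
  · have h4 := GL2.CountsSL.kind_of_degree hq hχ (i := 4)
      (by rw [hd]; simp [GL2.CountsSL.deg2, GL2.CountsSL.cast_sub_one])
    rcases GL2.ClassifySL.cusp_degree hχ (h4.1.2 rfl) with ⟨-, h⟩ | ⟨-, h⟩
    · exact h
    · rw [hd, GL2.ClassifySL.cast_card_units] at h
      have : (Fintype.card F : ℂ) = ((1 : ℕ) : ℂ) := by push_cast; linear_combination h
      have := Nat.cast_injective (R := ℂ) this
      omega

end Cfsg.Agent.S2323
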