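import Cfsg.Statements.S2324
import Cfsg.Agent.Lib.GL2.ValuesSL

set_option autoImplicit false
open Cfsg

namespace Cfsg.Agent.S2324

theorem half_cast (q : ℕ) (hodd : Odd q) :
    2 * (((q + 1) / 2 : ℕ) : ℂ) = (q : ℂ) + 1 ∧ 2 * (((q - 1) / 2 : ℕ) : ℂ) = ((q - 1 : ℕ) : ℂ) := by
  obtain ⟨n, rfl⟩ := hodd
  rw [show (2 * n + 1 + 1) / 2 = n + 1 by omega, show (2 * n + 1 - 1) / 2 = n by omega,
    show 2 * n + 1 - 1 = 2 * n by omega]
  push_cast
  constructor <;> ring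


/-- Over a finite field F with q elements, q odd and q ≥ 5, let u be the upper unitriangular matrix of SL₂ with off-diagonal entry 1 and let δ = (−1)^((q−1)/2). Every irreducible complex character χ of SL₂ of degree (q + 1)/2 satisfies (2χ(u) − 1)² = δq, and every irreducible complex character χ of degree (q − 1)/2 satisfies (2χ(u) + 1)² = δq; that is, χ(u) = (1 ± √(δq))/2 in the first case and χ(u) = (−1 ± √(δq))/2 in the second. Moreover two different irreducible characters of degree (q + 1)/2 take the two different values (their values at u add up to 1), and likewise for degree (q − 1)/2 (values adding up to −1). -/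
theorem result {F : Type*} [Field F] [Fintype F] (hodd : Odd (Fintype.card F)) (hq : 5 ≤ Fintype.card F)
    (u : Matrix.SpecialLinearGroup (Fin 2) F) (hu : (u : Matrix (Fin 2) (Fin 2) F) = !![1, 1; 0, 1]) :
    (∀ χ : Matrix.SpecialLinearGroup (Fin 2) F → ℂ, Cfsg.IsIrrCharacter (Matrix.SpecialLinearGroup (Fin 2) F) χ → χ 1 = (((Fintype.card F + 1) / 2 : ℕ) : ℂ) → (2 * χ u - 1) ^ 2 = (-1 : ℂ) ^ ((Fintype.card F - 1) / 2) * (Fintype.card F : ℂ)) ∧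
    (∀ χ : Matrix.SpecialLinearGroup (Fin 2) F → ℂ, Cfsg.IsIrrCharacter (Matrix.SpecialLinearGroup (Fin 2) F) χ → χ 1 = (((Fintype.card F - 1) / 2 : ℕ) : ℂ) → (2 * χ u + 1) ^ 2 = (-1 : ℂ) ^ ((Fintype.card F - 1) / 2) * (Fintype.card F : ℂ)) ∧
    (∀ χ₁ χ₂ : Matrix.SpecialLinearGroup (Fin 2) F → ℂ, Cfsg.IsIrrCharacter (Matrix.SpecialLinearGroup (Fin 2) F) χ₁ → Cfsg.IsIrrCharacter (Matrix.SpecialLinearGroup (Fin 2) F) χ₂ → χ₁ ≠ χ₂ →
      χ₁ 1 = (((Fintype.card F + 1) / 2 : ℕ) : ℂ) → χ₂ 1 = (((Fintype.card F + 1) / 2 : ℕ) : ℂ) → χ₁ u + χ₂ u = 1) ∧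
    (∀ χ₁ χ₂ : Matrix.SpecialLinearGroup (Fin 2) F → ℂ, Cfsg.IsIrrCharacter (Matrix.SpecialLinearGroup (Fin 2) F) χ₁ → Cfsg.IsIrrCharacter (Matrix.SpecialLinearGroup (Fin 2) F) χ₂ → χ₁ ≠ χ₂ →
      χ₁ 1 = (((Fintype.card F - 1) / 2 : ℕ) : ℂ) → χ₂ 1 = (((Fintype.card F - 1) / 2 : ℕ) : ℂ) → χ₁ u + χ₂ u = -1) := by
  classical
  have hu' : u = GL2.Borel.mkS 1 1 := Subtype.ext (by simp [hu])
  subst hu'
  obtain ⟨hp, hm⟩ := half_cast _ hodd
  rw [GL2.CountsSL.cast_sub_one] at hm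
  have hplus : ∀ χ : Matrix.SpecialLinearGroup (Fin 2) F → ℂ,
      Cfsg.IsIrrCharacter (Matrix.SpecialLinearGroup (Fin 2) F) χ →
      χ 1 = (((Fintype.card F + 1) / 2 : ℕ) : ℂ) → GL2.ClassifySL.IsHalf χ := fun χ hχ hd =>
    (GL2.CountsSL.kind_cases hχ).2.2.2 (GL2.CountsSL.kind_of_degree (by omega) hχ
      (by rw [hd, hp]; simp [GL2.CountsSL.deg2]))
  have hminus : ∀ χ : Matrix.SpecialLinearGroup (Fin 2) F → ℂ,
      Cfsg.IsIrrCharacter (Matrix.SpecialLinearGroup (Fin 2) F) χ →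
      χ 1 = (((Fintype.card F - 1) / 2 : ℕ) : ℂ) → GL2.CountsSL.Kind 5 χ := fun χ hχ hd =>
    GL2.CountsSL.kind_of_degree (by omega) hχ
      (by rw [hd, hm]; simp [GL2.CountsSL.deg2, GL2.CountsSL.cast_sub_one])
  have hcusp : ∀ χ : Matrix.SpecialLinearGroup (Fin 2) F → ℂ,
      Cfsg.IsIrrCharacter (Matrix.SpecialLinearGroup (Fin 2) F) χ →
      GL2.CountsSL.Kind 5 χ → ∃ ψ χ', Cfsg.IsIrrCharacter (Matrix.GeneralLinearGroup (Fin 2) F) ψ ∧
        Cfsg.IsIrrCharacter (Matrix.SpecialLinearGroup (Fin 2) F) χ' ∧ χ' ≠ χ ∧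
        GL2.PrincipalSL.res ψ = χ + χ' ∧ ψ (GL2.Borel.mkB 1 1 1) = -1 ∧ GL2.CountsSL.Kind 5 χ' := by
    intro χ hχ h5
    obtain ⟨ψ, hψ, hψc, h | ⟨-, χ', hχ', hne, h⟩⟩ := GL2.ClassifySL.cusp_data hχ (h5.1.2 rfl)
    · exfalso
      have h2 := h5.2
      rw [← h] at h2
      simp [GL2.PrincipalSL.res, (GL2.ClassifyGL.families.2.2.2.2 ψ hψ hψc).1,
        GL2.CountsSL.deg2, GL2.ClassifySL.cast_card_units, GL2.CountsSL.cast_sub_one] at h2
      have : (Fintype.card F : ℂ) = ((1 : ℕ) : ℂ) := by push_cast; linear_combination h2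
      have := Nat.cast_injective (R := ℂ) this
      omega
    · obtain ⟨e1, -⟩ := GL2.ClassifySL.split_degree hψ hχ hχ' hne.symm h
      exact ⟨ψ, χ', hψ, hχ', hne, h, (GL2.ClassifyGL.families.2.2.2.2 ψ hψ hψc).2,
        GL2.CountsSL.kind_of_degree (by omega) hχ' (e1 ▸ h5.2)⟩
  refine ⟨fun χ hχ hd => ?_, fun χ hχ hd => ?_, fun χ₁ χ₂ h₁ h₂ hne hd₁ hd₂ => ?_,
    fun χ₁ χ₂ h₁ h₂ hne hd₁ hd₂ => ?_⟩
  · obtain ⟨α, χ', hα, hα1, hχ', hne, he⟩ := hplus χ hχ hd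
    obtain ⟨e1, e2⟩ := GL2.ValuesSL.split_values hodd (GL2.Principal.isIrr_pind hα1) hχ hχ'
      hne.symm (by rw [GL2.PrincipalSL.res_pind, inv_one, mul_one, he])
    rw [GL2.Borel.pind_mkB_unipotent _ _ _ one_ne_zero] at e1
    simp at e1
    rw [← e2, ← e1]
    ring
  · obtain ⟨ψ, χ', hψ, hχ', hne, he, hv, -⟩ := hcusp χ hχ (hminus χ hχ hd)
    obtain ⟨e1, e2⟩ := GL2.ValuesSL.split_values hodd hψ hχ hχ' hne.symm he
    rw [hv] at e1
    rw [← e2]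
    linear_combination (2 * χ (GL2.Borel.mkS 1 1) + 1 + χ (GL2.Borel.mkS 1 1) -
      χ' (GL2.Borel.mkS 1 1)) * e1
  · obtain ⟨α, -, -, he⟩ := GL2.ClassifySL.half_pair h₁ h₂ hne (hplus _ h₁ hd₁) (hplus _ h₂ hd₂)
    have := congrFun he (GL2.Borel.mkS 1 1)
    rw [GL2.PrincipalSL.pindS_uni _ (by simp) one_ne_zero, Units.val_one, map_one, Pi.add_apply] at this
    exact this.symm
  · obtain ⟨ψ, χ', hψ, hχ', hne', he, hv, h5'⟩ := hcusp χ₁ h₁ (hminus _ h₁ hd₁)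
    obtain ⟨k, hk, -, -, -, -, -, f5⟩ := GL2.CountsSL.families (F := F)
    obtain rfl : k = 2 := hk ▸ GL2.Counts.sq_eq_one_card_odd (GL2.Counts.two_ne_zero_of_odd hodd)
    have hχ'2 : χ' = χ₂ := by
      by_contra hc
      haveI := Fintype.ofFinite (Cfsg.IrrCharacter (Matrix.SpecialLinearGroup (Fin 2) F))
      rw [Nat.card_eq_fintype_card, Fintype.card_subtype] at f5
      have hsub : ({⟨χ₁, h₁⟩, ⟨χ', hχ'⟩, ⟨χ₂, h₂⟩} :
          Finset (Cfsg.IrrCharacter (Matrix.SpecialLinearGroup (Fin 2) F))) ⊆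
            Finset.univ.filter fun η => GL2.CountsSL.Kind 5 η.1 := by
        intro η hη
        simp only [Finset.mem_insert, Finset.mem_singleton] at hη
        rcases hη with rfl | rfl | rfl <;>
          simp [h5', hminus _ h₁ hd₁, hminus _ h₂ hd₂]
      have := Finset.card_le_card hsub
      rw [Finset.card_insert_of_notMem (by simp [hne'.symm, hne]), Finset.card_pair (by simp [hc])] at this
      omega
    subst hχ'2
    have := congrFun he (GL2.Borel.mkS 1 1)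
    rw [GL2.PrincipalSL.res, Function.comp_apply, GL2.Borel.toGL_mkS, inv_one, hv, Pi.add_apply] at this
    exact this.symm

end Cfsg.Agent.S2324
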