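import Cfsg.Statements.S2329
import Cfsg.Agent.Lib.GL2.Counts

set_option autoImplicit false
open Cfsg

namespace Cfsg.Agent.S2329

/-- Over a finite field of characteristic p, any two elements of order p of GL₂ are conjugate: there is a single conjugacy class of non-identity unipotent elements. -/
theorem result {F : Type*} [Field F] [Fintype F] (p : ℕ) [Fact p.Prime] [CharP F p] (g h : Matrix.GeneralLinearGroup (Fin 2) F)
    (hg : orderOf g = p) (hh : orderOf h = p) : IsConj g h := by
  have key : ∀ x : Matrix.GeneralLinearGroup (Fin 2) F, orderOf x = p →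
      ¬ GL2.Classes.IsScalar (x : Matrix (Fin 2) (Fin 2) F) ∧
        (x : Matrix (Fin 2) (Fin 2) F).trace = 2 ∧ (x : Matrix (Fin 2) (Fin 2) F).det = 1 := by
    intro x hx
    have hp' : (x : Matrix (Fin 2) (Fin 2) F) ^ p = 1 := by
      rw [← Units.val_pow_eq_pow_val, ← hx, pow_orderOf_eq_one, Units.val_one]
    obtain ⟨h1, h2, h3⟩ := GL2.Counts.nilpotent_sq p _ hp'
    refine ⟨?_, h2, h3⟩
    rintro ⟨c, hc⟩
    rw [hc] at hp'
    have hcp : c ^ p = 1 := by
      have := congrFun (congrFun (hp'.symm.trans (by rw [smul_pow, one_pow])) 0) 0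
      simpa using this.symm
    have hc1 : c = 1 := frobenius_inj F p (by simpa [frobenius_def] using hcp)
    have : x = 1 := Units.ext (by rw [hc, hc1, one_smul]; rfl)
    rw [this, orderOf_one] at hx
    exact (Fact.out : p.Prime).one_lt.ne hx
  obtain ⟨g1, g2, g3⟩ := key g hg
  obtain ⟨h1, h2, h3⟩ := key h hh
  exact GL2.Classes.isConj_GL_of_not_scalar g1 h1 (g2.trans h2.symm) (g3.trans h3.symm)

end Cfsg.Agent.S2329
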