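import Cfsg.Statements.S2332
import Cfsg.Agent.SimpleFacts.MinDeg.Main
import Cfsg.Agent.SimpleFacts.VectorPerm

set_option autoImplicit false
open Cfsg

namespace Cfsg.Agent.S2332

/-- Smallest degree of a non-linear irreducible complex representation of SL_n over a finite field with q elements, for n ≥ 3 and (n, q) not one of (3, 2), (3, 4), (4, 2), (4, 3): every irreducible complex representation of SL_n(F) of degree at least 2 has degree at least (q^n − q)/(q − 1), and there is an irreducible complex representation of exactly that degree. -/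
theorem result {F : Type*} [Field F] [Fintype F] [DecidableEq F] (n : ℕ) (hn : 3 ≤ n)
    (hex : (n, Fintype.card F) ≠ (3, 2) ∧ (n, Fintype.card F) ≠ (3, 4) ∧ (n, Fintype.card F) ≠ (4, 2) ∧ (n, Fintype.card F) ≠ (4, 3)) :
    (∀ (k : ℕ) (ρ : Representation ℂ (Matrix.SpecialLinearGroup (Fin n) F) (Fin k → ℂ)), ρ.IsIrreducible → 2 ≤ k → (Fintype.card F ^ n - Fintype.card F) / (Fintype.card F - 1) ≤ k) ∧
    (∃ ρ : Representation ℂ (Matrix.SpecialLinearGroup (Fin n) F) (Fin ((Fintype.card F ^ n - Fintype.card F) / (Fintype.card F - 1)) → ℂ), ρ.IsIrreducible) := by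
  obtain ⟨m, rfl⟩ : ∃ m, n = m + 1 := ⟨n - 1, by omega⟩
  have hq : 2 ≤ Fintype.card F := Fintype.one_lt_card
  have hT : (Fintype.card F ^ (m + 1) - Fintype.card F) / (Fintype.card F - 1) =
      SimpleFacts.MinDeg.T (Fintype.card F) m := (SimpleFacts.MinDeg.T_eq_div hq m).symm
  rw [hT]
  refine ⟨fun k ρ hρ hk => ?_, ?_⟩
  · have h := SimpleFacts.MinDeg.special_linear hn hex ρ hρ hk
    rwa [Nat.add_sub_cancel] at h
  · obtain ⟨χ, hirr, -, -, i, hi⟩ := SimpleFacts.VectorPerm.main_deg (F := F) hn
    obtain ⟨k, ρ, hρ, hχ⟩ := hirr i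
    have hk : k = SimpleFacts.MinDeg.T (Fintype.card F) m := by
      rw [← hχ, Representation.char_one, Module.finrank_fin_fun] at hi
      have hv : Nat.card {v : Fin (m + 1) → F // v ≠ 0} = Fintype.card F ^ (m + 1) - 1 := by
        rw [Nat.card_eq_fintype_card, Fintype.card_subtype_compl, Fintype.card_subtype_eq, Fintype.card_fun,
          Fintype.card_fin]
      have hu : Nat.card Fˣ = Fintype.card F - 1 := by
        rw [Nat.card_units, Nat.card_eq_fintype_card]
      rw [hv, hu] at hi
      have hne : ((Fintype.card F - 1 : ℕ) : ℂ) ≠ 0 := Nat.cast_ne_zero.2 (by omega)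
      field_simp at hi
      have e : ((Fintype.card F - 1 : ℕ) : ℂ) * (k : ℂ) + ((Fintype.card F - 1 : ℕ) : ℂ) =
          ((Fintype.card F ^ (m + 1) - 1 : ℕ) : ℂ) := by linear_combination hi
      have e' : (Fintype.card F - 1) * k + (Fintype.card F - 1) = Fintype.card F ^ (m + 1) - 1 := by exact_mod_cast e
      rw [SimpleFacts.MinDeg.T_eq_div hq m, show Fintype.card F ^ (m + 1) - Fintype.card F = (Fintype.card F - 1) * k by omega,
        Nat.mul_div_cancel_left _ (by omega)]
    exact hk ▸ ⟨ρ, hρ⟩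

end Cfsg.Agent.S2332
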