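import Cfsg.Statements.S2333
import Cfsg.Agent.Lib.Classical.SympMinDeg.Bounds
-- import your own Cfsg.Agent.* helpers here

set_option autoImplicit false
open Cfsg

namespace Cfsg.Agent.S2333

/-- For a finite field F of even order q and n ≥ 2 with (n, q) ≠ (2, 2), every irreducible complex representation of the symplectic group Sp_{2n}(F) of degree at least 2 has degree at least (q^n − 1)(q^n − q)/(2(q + 1)). -/
theorem result {F : Type*} [Field F] [Fintype F] [DecidableEq F] (n : ℕ) (hn : 2 ≤ n) (heven : Even (Fintype.card F)) (hex : (n, Fintype.card F) ≠ (2, 2)) :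
    (∀ (k : ℕ) (ρ : Representation ℂ (Matrix.symplecticGroup (Fin n) F) (Fin k → ℂ)), ρ.IsIrreducible → 2 ≤ k → (Fintype.card F ^ n - 1) * (Fintype.card F ^ n - Fintype.card F) / (2 * (Fintype.card F + 1)) ≤ k) := by
  intro k ρ hρ hk
  haveI : CharP F 2 := by
    have h2 : ringChar F = 2 := by
      by_contra h
      have := FiniteField.odd_card_of_char_ne_two h
      rw [Nat.even_iff] at heven
      omega
    exact h2 ▸ ringChar.charP F
  have h := Cfsg.Agent.Classical.SympMinDeg.bound_even ρ hn (fun h2 => ?_)
    (Cfsg.Agent.Classical.SympMinDeg.exists_ne_one ρ hρ hk)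
  · rwa [Module.finrank_fintype_fun_eq_card, Fintype.card_fin] at h
  · by_contra hc
    push Not at hc
    refine hex (Prod.ext h2 ?_)
    have : (Finset.univ : Finset F) = {0, 1} := by
      ext a
      by_cases ha : a = 0
      · simp [ha]
      · simp [hc a ha]
    rw [← Finset.card_univ, this, Finset.card_pair zero_ne_one]

end Cfsg.Agent.S2333
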