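import Cfsg.Statements.S2336
import Cfsg.Agent.SimpleFacts.VectorPerm

set_option autoImplicit false
open Cfsg

namespace Cfsg.Agent.S2336

/-- Let F be a finite field with q elements and n ≥ 3. The permutation character of SL_n(F) on the non-zero vectors of F^n (the function sending a matrix to the number of non-zero vectors it fixes) is the sum of the principal character and q − 1 pairwise distinct irreducible complex characters. -/
theorem result {F : Type*} [Field F] [Fintype F] [DecidableEq F] (n : ℕ) (hn : 3 ≤ n) :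
    ∃ χ : Fin (Fintype.card F - 1) → (Matrix.SpecialLinearGroup (Fin n) F → ℂ),
      (∀ i, Cfsg.IsIrrCharacter (Matrix.SpecialLinearGroup (Fin n) F) (χ i)) ∧ Function.Injective χ ∧
      ∀ g : Matrix.SpecialLinearGroup (Fin n) F,
        (Nat.card {v : Fin n → F // v ≠ 0 ∧ (g : Matrix (Fin n) (Fin n) F).mulVec v = v} : ℂ) = 1 + ∑ i, χ i g := by
  obtain ⟨χ, h1, h2, h3⟩ := Cfsg.Agent.SimpleFacts.VectorPerm.main (F := F) hn
  refine ⟨χ, h1, h2, fun g => ?_⟩
  rw [← h3 g, Nat.cast_inj, Cfsg.Agent.SimpleFacts.VectorPerm.fix_one_eq]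
  exact Nat.card_congr
    { toFun := fun v => ⟨⟨v.1, v.2.1⟩, Subtype.ext
        (by rw [Cfsg.Agent.SimpleFacts.VectorPerm.vecAct_apply]; exact v.2.2)⟩
      invFun := fun v => ⟨v.1.1, v.1.2, by
        rw [← Cfsg.Agent.SimpleFacts.VectorPerm.vecAct_apply, v.2]⟩
      left_inv := fun v => rfl
      right_inv := fun v => rfl }

end Cfsg.Agent.S2336
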