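import Cfsg.Statements.S2337
import Cfsg.Agent.Lib.Suzuki.MinDegree

set_option autoImplicit false
open Cfsg

namespace Cfsg.Agent.S2337

/-- For the Suzuki group Sz(q), q = 2^(2m+1) with m ≥ 1 (realised inside Sp₄ over the field with q elements), every irreducible complex representation of degree at least 2 has degree at least 2^m·(q − 1). -/
theorem result {F : Type*} [Field F] [Fintype F] (m : ℕ) (hm : 1 ≤ m) (hF : Fintype.card F = 2 ^ (2 * m + 1)) :
    (∀ (k : ℕ) (ρ : Representation ℂ (Cfsg.Lie.Sz F (2 ^ (m + 1))) (Fin k → ℂ)), ρ.IsIrreducible → 2 ≤ k → 2 ^ m * (2 ^ (2 * m + 1) - 1) ≤ k) := by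
  intro k ρ hρ hk
  haveI := Cfsg.Agent.Suzuki.charTwo hF
  obtain ⟨e⟩ := Cfsg.Agent.Suzuki.lieEquiv (m := m) hm hF
  let σ : Representation ℂ (Cfsg.Sz F m) (Fin k → ℂ) := ρ.comp e.toMonoidHom
  haveI : σ.IsIrreducible := by
    rw [Cfsg.Agent.Characters.isIrreducible_iff]
    obtain ⟨h1, h2⟩ := (Cfsg.Agent.Characters.isIrreducible_iff ρ).1 hρ
    refine ⟨h1, fun U hU => h2 U fun g v hv => ?_⟩
    have h3 := hU (e.symm g) v hv
    simpa [σ] using h3
  exact Cfsg.Agent.Suzuki.min_degree hm hF σ hk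

end Cfsg.Agent.S2337
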