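import Cfsg.Statements.S2342
import Cfsg.Agent.SimpleFacts.MinDegTriality.Main

set_option autoImplicit false
open Cfsg

namespace Cfsg.Agent.S2342

/-- For the twisted group ³D₄(q), realised over the field with q³ elements (q a prime power), every irreducible complex representation of degree at least 2 has degree at least q(q⁴ − q² + 1). -/
theorem result {K : Type*} [Field K] [Fintype K] (q : ℕ) (hq : IsPrimePow q) (hK : Fintype.card K = q ^ 3) :
    (∀ (k : ℕ) (ρ : Representation ℂ (Cfsg.Lie.twistedD4 K q) (Fin k → ℂ)), ρ.IsIrreducible → 2 ≤ k → q * (q ^ 4 - q ^ 2 + 1) ≤ k) := by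
  intro k ρ hirr hk
  obtain ⟨X⟩ := Cfsg.Agent.Chevalley.Twist.D4.exists_setup (K := K) hq hK
  obtain ⟨θ, hθ⟩ := Cfsg.Agent.Chevalley.Twist.E6.exists_powq (K := K) hq three_ne_zero hK
  have h := Cfsg.Agent.SimpleFacts.MinDegTriality.min_degree (θ := θ) ρ hq hirr
    (by rwa [Module.finrank_fin_fun]) ⟨hθ, hq.two_le, hK⟩ X
  rwa [Module.finrank_fin_fun] at h

end Cfsg.Agent.S2342
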