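import Cfsg.Statements.S2353
import Cfsg.Agent.Lib.WordMaps.Basic

set_option autoImplicit false
open Cfsg

namespace Cfsg.Agent.S2353

/-- A non-trivial law holds in PSL_2 over only finitely many finite fields. -/
theorem result (w : FreeGroup ℕ) (hw : w ≠ 1) :
    ∃ N : ℕ, ∀ (F : Type*) [Field F] [Fintype F], N ≤ Fintype.card F →
      ∃ f : ℕ → Matrix.ProjectiveSpecialLinearGroup (Fin 2) F, FreeGroup.lift f w ≠ 1 := by
  obtain ⟨D, hD⟩ := WordMaps.exists_bound_SL2 w hw
  refine ⟨D + 1, fun F _ _ hF => ?_⟩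
  obtain ⟨f, hf⟩ := hD F hF
  by_contra hcon
  push Not at hcon
  exact WordMaps.not_law_of_embedding (MulEquiv.refl _) (MonoidHom.id _) Function.injective_id w f
    (WordMaps.not_mem_center_SL2 hf) hcon

end Cfsg.Agent.S2353
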