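import Cfsg.Statements.S2354
import Cfsg.Agent.Lib.Suzuki.LieEquiv
import Cfsg.Agent.Lib.Suzuki.Laws

set_option autoImplicit false
open Cfsg

namespace Cfsg.Agent.S2354

/-- A non-trivial law holds in only finitely many Suzuki groups: for every non-trivial element w of the free group on countably many generators there is N such that for q = 2^(2m+1) with m ≥ N some substitution of elements of the Suzuki group over the field with q elements into w is not the identity. -/
theorem result (w : FreeGroup ℕ) (hw : w ≠ 1) :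
    ∃ N : ℕ, ∀ (F : Type*) [Field F] [Fintype F] (m : ℕ), 1 ≤ m → N ≤ m →
      Fintype.card F = 2 ^ (2 * m + 1) →
      ∃ f : ℕ → ↥(Cfsg.Lie.Sz F (2 ^ (m + 1))), FreeGroup.lift f w ≠ 1 := by
  set L := w.toWord with hL
  refine ⟨Cfsg.Agent.Suzuki.Laws.bound L + 3, fun F _ _ m hm hN hF => ?_⟩
  haveI := Cfsg.Agent.Suzuki.charTwo hF
  obtain ⟨e⟩ := Cfsg.Agent.Suzuki.lieEquiv (m := m) hm hF
  set B := Cfsg.Agent.Suzuki.Laws.bound L with hB
  have hbig : B * (2 * 2 ^ (m + 1) + 2) + 1 < Fintype.card F := by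
    obtain ⟨d, rfl⟩ : ∃ d, m = d + 2 := ⟨m - 2, by omega⟩
    have h1 : B + 1 ≤ 2 ^ d := le_trans (Nat.lt_two_pow_self).le (Nat.pow_le_pow_right (by norm_num) (by omega))
    have e1 : Fintype.card F = 2 ^ d * (2 ^ d * 32) := by rw [hF]; ring
    have e2 : 2 * 2 ^ (d + 2 + 1) + 2 = 2 ^ d * 16 + 2 := by ring
    rw [e1, e2]
    have : 1 ≤ 2 ^ d := Nat.one_le_two_pow
    nlinarith [Nat.mul_le_mul_right (2 ^ d * 32) h1]
  have hne : L ≠ [] := fun h => hw (FreeGroup.toWord_eq_nil_iff.1 h)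
  obtain ⟨x, hx⟩ := Cfsg.Agent.Suzuki.Laws.exists_nontrivial hF L hne FreeGroup.isReduced_toWord hbig
  refine ⟨fun i => e (Cfsg.Agent.Suzuki.Laws.gen hF x i), fun h => hx ?_⟩
  have hcomp : FreeGroup.lift (fun i => e (Cfsg.Agent.Suzuki.Laws.gen hF x i)) =
      e.toMonoidHom.comp (FreeGroup.lift (Cfsg.Agent.Suzuki.Laws.gen hF x)) :=
    FreeGroup.ext_hom _ _ fun i => by simp
  rw [hcomp] at h
  have h' : e (FreeGroup.lift (Cfsg.Agent.Suzuki.Laws.gen hF x) w) = 1 := h
  have h2 := (MulEquiv.map_eq_one_iff e).1 h'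
  rw [← FreeGroup.mk_toWord (x := w), FreeGroup.lift_mk] at h2
  exact h2

end Cfsg.Agent.S2354
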