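import Cfsg.Statements.S2355
import Cfsg.Agent.Lib.WordMaps.Classical

set_option autoImplicit false
open Cfsg

namespace Cfsg.Agent.S2355

open WordMaps WordMaps.Classical Matrix

theorem card_quot_le {G M T : Type*} [Group G] [Group M] [Finite T]
    (e : G ≃* M ⧸ Subgroup.center M) (f : M → T) (hf : Function.Injective f) :
    Nat.card G ≤ Nat.card T := by
  have : Finite M := Finite.of_injective f hf
  rw [Nat.card_congr e.toEquiv]
  exact (Nat.card_le_card_of_surjective _ (QuotientGroup.mk'_surjective _)).trans
    (Nat.card_le_card_of_injective f hf)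

/-- A non-trivial law is satisfied by only finitely many finite simple groups that are alternating or classical, up to isomorphism: for every non-trivial element w of the free group on countably many generators there is a bound N such that every alternating group of degree ≥ 5 and every simple classical group (linear, symplectic, unitary or orthogonal, in this problem's sense) in which w is a law has order at most N. -/
theorem result (w : FreeGroup ℕ) (hw : w ≠ 1) :
    ∃ N : ℕ, ∀ (G : Type*) [Group G] [Finite G],
      (Cfsg.IsAlternating G ∨ Cfsg.IsPSL G ∨ Cfsg.IsPSp G ∨ Cfsg.IsPSU G ∨ Cfsg.IsPOmegaOdd G ∨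
          Cfsg.IsPOmegaPlus G ∨ Cfsg.IsPOmegaMinus G) →
      (∀ f : ℕ → G, FreeGroup.lift f w = 1) → Nat.card G ≤ N := by
  classical
  obtain ⟨N, hN5, halt, hcl⟩ := exists_bound_classical w hw
  let L := (2 * N + 3) * (2 * N + 3)
  refine ⟨max (Nat.factorial N) ((N * N) ^ L), fun G _ _ hG hlaw => ?_⟩
  have bound : ∀ (F : Type) [Fintype F] (ι : Type) [Fintype ι] [DecidableEq ι],
      Fintype.card F ≤ N * N → Fintype.card ι ≤ 2 * N + 3 →
      Nat.card (Matrix ι ι F) ≤ (N * N) ^ L := by
    intro F _ ι _ _ h1 h2
    rw [card_matrix]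
    exact (Nat.pow_le_pow_left h1 _).trans
      (Nat.pow_le_pow_right (by nlinarith) (Nat.mul_le_mul h2 h2))
  have hsq : N ≤ N * N := by nlinarith
  rcases hG with ⟨n, -, ⟨e⟩⟩ | ⟨F, _, _, n, hn, -, ⟨e⟩⟩ | ⟨F, _, _, m, hm, -, ⟨e⟩⟩ |
    ⟨F, _, _, n, q, hF, hn, -, ⟨e⟩⟩ | ⟨F, _, _, m, hm, -, ⟨e⟩⟩ | ⟨F, _, _, m, hm, ⟨e⟩⟩ |
    ⟨F, _, _, m, a, b, hm, -, ⟨e⟩⟩
  · rcases lt_or_ge n N with h | h
    · refine le_trans ?_ (le_max_left _ _)
      rw [Nat.card_congr e.toEquiv]
      calc Nat.card (alternatingGroup (Fin n)) ≤ Nat.card (Equiv.Perm (Fin n)) :=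
            Nat.card_le_card_of_injective _ Subtype.val_injective
        _ = n.factorial := by rw [Nat.card_perm, Nat.card_eq_fintype_card, Fintype.card_fin]
        _ ≤ N.factorial := Nat.factorial_le h.le
    · obtain ⟨f, hf⟩ := halt n h
      refine absurd ?_ hf
      have h1 := hlaw fun i => e.symm (f i)
      have h2 := lift_map e.symm.toMonoidHom f w
      simp only [MulEquiv.coe_toMonoidHom] at h2
      rw [h2, map_eq_one_iff _ e.symm.injective] at h1
      rw [h1]
      exact Subgroup.one_mem _
  all_goals refine le_trans ?_ (le_max_right _ _)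
  · by_cases h : N ≤ n ∨ N ≤ Fintype.card F
    · exact ((hcl F).1 n hn h).1.not_law e hlaw |>.elim
    · push Not at h
      exact (card_quot_le e (fun g : Matrix.SpecialLinearGroup (Fin n) F => g.1)
        Subtype.val_injective).trans (bound F _ (by omega) (by simp; omega))
  · by_cases h : N ≤ m ∨ N ≤ Fintype.card F
    · exact ((hcl F).1 m hm h).2.1.not_law e hlaw |>.elim
    · push Not at h
      exact (card_quot_le e (fun g : Matrix.symplecticGroup (Fin m) F => g.1)
        Subtype.val_injective).trans (bound F _ (by omega) (by simp; omega))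
  · have hq : 1 ≤ q := by
      rcases Nat.eq_zero_or_pos q with rfl | h
      · simp at hF
      · exact h
    by_cases h : N ≤ n ∨ N ≤ q
    · exact ((hcl F).2 n q (by omega) hF hq h).not_law e hlaw |>.elim
    · push Not at h
      exact (card_quot_le e (fun g : Cfsg.SU n F q => g.1.1)
        (Subtype.val_injective.comp Subtype.val_injective)).trans
        (bound F _ (by rw [hF, sq]; exact Nat.mul_le_mul h.2.le h.2.le) (by simp; omega))
  · by_cases h : N ≤ m ∨ N ≤ Fintype.card F
    · exact ((hcl F).1 m (by omega) h).2.2.1.not_law e hlaw |>.elim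
    · push Not at h
      exact (card_quot_le e (fun g : Cfsg.Omega F (Cfsg.quadFormOdd m F) => Units.val g.1.1)
        (Units.val_injective.comp (Subtype.val_injective.comp Subtype.val_injective))).trans
        (bound F _ (by omega) (by simp; omega))
  · by_cases h : N ≤ m ∨ N ≤ Fintype.card F
    · exact ((hcl F).1 m (by omega) h).2.2.2.1.not_law e hlaw |>.elim
    · push Not at h
      exact (card_quot_le e (fun g : Cfsg.Omega F (Cfsg.quadFormPlus m F) => Units.val g.1.1)
        (Units.val_injective.comp (Subtype.val_injective.comp Subtype.val_injective))).trans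
        (bound F _ (by omega) (by simp; omega))
  · by_cases h : N ≤ m - 1 ∨ N ≤ Fintype.card F
    · exact (((hcl F).1 (m - 1) (by omega) h).2.2.2.2 a b).not_law e hlaw |>.elim
    · push Not at h
      exact (card_quot_le e (fun g : Cfsg.Omega F (Cfsg.quadFormMinus (m - 1) F a b) => Units.val g.1.1)
        (Units.val_injective.comp (Subtype.val_injective.comp Subtype.val_injective))).trans
        (bound F _ (by omega) (by simp; omega))

end Cfsg.Agent.S2355
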