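import Cfsg.Statements.S2357
import Cfsg.Agent.Lib.Ree.Orders

set_option autoImplicit false
open Cfsg
open scoped MatrixGroups

namespace Cfsg.Agent.S2357

/-- Let R be the small Ree group over the field with q = 3^(2m+1) ≥ 27 elements and write φ for Euler's totient function. Then R has exactly q²(q²−q+1) involutions, (q²−1)(q³+1) elements of order 3, and q²(q−1)(q³+1) elements of order 6 and as many of order 9; for i > 2 dividing q−1 it has φ(i)q³(q³+1)/2 elements of order i; for i > 1 dividing (q+1)/4 it has φ(i)q³(q−1)(q²−q+1)/6 elements of order i and φ(i)q³(q−1)(q²−q+1)/2 elements of order 2i; and for i > 1 dividing q − 3^(m+1) + 1 (respectively q + 3^(m+1) + 1) it has φ(i)q³(q²−1)(q + 3^(m+1) + 1)/6 (respectively φ(i)q³(q²−1)(q − 3^(m+1) + 1)/6) elements of order i. -/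
theorem result {K : Type*} [Field K] [Fintype K] {m : ℕ} (hm : 1 ≤ m)
    (hK : Fintype.card K = 3 ^ (2 * m + 1)) :
    Nat.card {g : ↥(Cfsg.Lie.twistedG2 K (3 ^ m)) // orderOf g = 2} = (3 ^ (2 * m + 1)) ^ 2 * ((3 ^ (2 * m + 1)) ^ 2 - 3 ^ (2 * m + 1) + 1) ∧
    Nat.card {g : ↥(Cfsg.Lie.twistedG2 K (3 ^ m)) // orderOf g = 3} = ((3 ^ (2 * m + 1)) ^ 2 - 1) * ((3 ^ (2 * m + 1)) ^ 3 + 1) ∧
    Nat.card {g : ↥(Cfsg.Lie.twistedG2 K (3 ^ m)) // orderOf g = 6} = (3 ^ (2 * m + 1)) ^ 2 * (3 ^ (2 * m + 1) - 1) * ((3 ^ (2 * m + 1)) ^ 3 + 1) ∧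
    Nat.card {g : ↥(Cfsg.Lie.twistedG2 K (3 ^ m)) // orderOf g = 9} = (3 ^ (2 * m + 1)) ^ 2 * (3 ^ (2 * m + 1) - 1) * ((3 ^ (2 * m + 1)) ^ 3 + 1) ∧
    (∀ i : ℕ, 2 < i → i ∣ 3 ^ (2 * m + 1) - 1 →
      2 * Nat.card {g : ↥(Cfsg.Lie.twistedG2 K (3 ^ m)) // orderOf g = i} = Nat.totient i * (3 ^ (2 * m + 1)) ^ 3 * ((3 ^ (2 * m + 1)) ^ 3 + 1)) ∧
    (∀ i : ℕ, 1 < i → i ∣ (3 ^ (2 * m + 1) + 1) / 4 →
      6 * Nat.card {g : ↥(Cfsg.Lie.twistedG2 K (3 ^ m)) // orderOf g = i} =
          Nat.totient i * (3 ^ (2 * m + 1)) ^ 3 * (3 ^ (2 * m + 1) - 1) * ((3 ^ (2 * m + 1)) ^ 2 - 3 ^ (2 * m + 1) + 1) ∧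
        2 * Nat.card {g : ↥(Cfsg.Lie.twistedG2 K (3 ^ m)) // orderOf g = 2 * i} =
          Nat.totient i * (3 ^ (2 * m + 1)) ^ 3 * (3 ^ (2 * m + 1) - 1) * ((3 ^ (2 * m + 1)) ^ 2 - 3 ^ (2 * m + 1) + 1)) ∧
    (∀ i : ℕ, 1 < i → i ∣ 3 ^ (2 * m + 1) - 3 ^ (m + 1) + 1 →
      6 * Nat.card {g : ↥(Cfsg.Lie.twistedG2 K (3 ^ m)) // orderOf g = i} =
        Nat.totient i * (3 ^ (2 * m + 1)) ^ 3 * ((3 ^ (2 * m + 1)) ^ 2 - 1) * (3 ^ (2 * m + 1) + 3 ^ (m + 1) + 1)) ∧
    (∀ i : ℕ, 1 < i → i ∣ 3 ^ (2 * m + 1) + 3 ^ (m + 1) + 1 →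
      6 * Nat.card {g : ↥(Cfsg.Lie.twistedG2 K (3 ^ m)) // orderOf g = i} =
        Nat.totient i * (3 ^ (2 * m + 1)) ^ 3 * ((3 ^ (2 * m + 1)) ^ 2 - 1) * (3 ^ (2 * m + 1) - 3 ^ (m + 1) + 1)) := by
  haveI := Cfsg.Agent.Chevalley.Twist.G2.charThree hK
  obtain ⟨X⟩ := Cfsg.Agent.Chevalley.Twist.G2.exists_setup hK
  obtain ⟨Φ, hΦ⟩ := Cfsg.Agent.Ree.exists_embed X
  obtain ⟨Ta, Tb, ha, hb, hca, hcb, hna, hnb, hset⟩ := Cfsg.Agent.Ree.exists_tori X hΦ hm
  open Cfsg.Agent.Ree Cfsg.Agent.Chevalley.Twist.G2 in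
  obtain ⟨c2, c3, c6, c9, -⟩ := counts X hΦ hm
  rw [← hK]
  obtain ⟨G, hG⟩ : ∃ n : ℕ, n = Nat.card ↥(Cfsg.Lie.twistedG2 K (3 ^ m)) := ⟨_, rfl⟩
  have h27 := twenty_seven_le X hm
  obtain ⟨c, hc⟩ := q_form X
  have hn : ∀ i, Nat.card {g : ↥(Cfsg.Lie.twistedG2 K (3 ^ m)) // orderOf g = i} =
      {g : ↥(Cfsg.Lie.twistedG2 K (3 ^ m)) | orderOf g = i}.ncard := fun i =>
    Nat.card_coe_set_eq _
  simp only [hn]
  have hsq : Fintype.card K ≤ Fintype.card K ^ 2 := Nat.le_self_pow two_ne_zero _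
  have hsq1 : 1 ≤ Fintype.card K ^ 2 := Nat.one_le_pow _ _ (by omega)
  have hab : (Fintype.card K - 3 ^ (m + 1) + 1) * (Fintype.card K + 3 ^ (m + 1) + 1) =
      Fintype.card K ^ 2 - Fintype.card K + 1 := by
    have hr2 : 3 ^ (m + 1) * 3 ^ (m + 1) = 3 * Fintype.card K := by
      rw [hK, ← pow_add, ← pow_succ']; congr 1; omega
    have hrq : 3 ^ (m + 1) ≤ Fintype.card K := by
      rw [hK]; exact Nat.pow_le_pow_right (by norm_num) (by omega)
    have hr2' : ((3 ^ (m + 1) : ℕ) : ℤ) * ((3 ^ (m + 1) : ℕ) : ℤ) = 3 * (Fintype.card K : ℤ) := by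
      exact_mod_cast hr2
    zify [hrq, hsq]
    push_cast at hr2'
    linear_combination -hr2'
  refine ⟨?_, ?_, ?_, ?_, fun i hi hd => ?_, fun i hi hd => ?_, fun i hi hd => ?_, fun i hi hd => ?_⟩
  · refine Int.ofNat_inj.1 ?_
    rw [c2]
    push_cast [Nat.cast_sub hsq]
    ring
  · refine Int.ofNat_inj.1 ?_
    rw [c3]
    push_cast [Nat.cast_sub hsq1]
    ring
  · refine Int.ofNat_inj.1 ?_
    rw [c6]
    push_cast [Nat.cast_sub (show 1 ≤ Fintype.card K by omega)]
    ring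
  · refine Int.ofNat_inj.1 ?_
    rw [c9]
    push_cast [Nat.cast_sub (show 1 ≤ Fintype.card K by omega)]
    ring
  · haveI := isCyclic_H' X
    have h := count_ord (torusHom X).range (NH X) (i := i)
      (fun g hg => by
        obtain ⟨k, y, -, e⟩ := ord_dvd_pred X hΦ hm (g := g) (by rw [hg]; exact hd) (by omega)
        exact ⟨k, y, e.symm⟩)
      (fun n hn' x hx _ => by
        obtain ⟨y, rfl⟩ := hx
        obtain ⟨y', e, -⟩ := hn' y
        exact ⟨y', e.symm⟩)
      (fun g x hx ho hgx => by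
        obtain ⟨y, rfl⟩ := hx
        obtain ⟨y', e⟩ := hgx
        have hy : y ^ 2 ≠ 1 := fun e2 => by
          have h2 := Nat.le_of_dvd two_pos (orderOf_dvd_of_pow_eq_one
            (show torusHom X y ^ 2 = 1 by rw [← map_pow, e2, map_one]))
          omega
        rw [mem_NH X hΦ hm]
        rcases tor_conj_cases X hΦ hm hy e.symm with ⟨z, hz, -⟩ | ⟨z, hz, -⟩
        · exact ⟨z, Or.inl hz⟩
        · exact ⟨z, Or.inr hz⟩)
    rw [card_NH X hΦ hm, ncard_ord_cyclic (torusHom X).range (by rw [card_H' X]; exact hd),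
      card_GG X] at h
    refine Nat.eq_of_mul_eq_mul_right (show 0 < Fintype.card K - 1 by omega) ?_
    linear_combination h
  · have hi2 : Odd i := Odd.of_dvd_nat (card_A0 X hΦ).2.1 hd
    constructor
    · have h := count_ord (A0 X hΦ) (N0 X hΦ) (i := i)
        (fun g hg => ord_dvd_quarter X hΦ hm (by rw [hg]; exact hd) (by omega))
        (fun n hn' x hx _ => A0_invariant X hΦ hn' hx)
        (fun g x hx ho hgx => conj_T0_eq X hΦ
          (cent_A0 X hΦ hm hx fun e => by rw [e, orderOf_one] at ho; omega)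
          (cent_A0 X hΦ hm hgx fun e => by
            rw [conj_eq_one_iff] at e; rw [e, orderOf_one] at ho; omega))
      rw [card_N0 X hΦ hm, ncard_ord_cyclic (A0 X hΦ) (by rw [(card_A0 X hΦ).1]; exact hd),
        card_GG X, six_factor X] at h
      refine Nat.eq_of_mul_eq_mul_right (show 0 < Fintype.card K + 1 by omega) ?_
      linear_combination h
    · have hcop : Nat.Coprime 2 i :=
        Nat.prime_two.coprime_iff_not_dvd.2 fun h => Nat.not_even_iff_odd.2 hi2 (even_iff_two_dvd.2 h)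
      haveI : Fact (Nat.Prime 2) := ⟨Nat.prime_two⟩
      have h := count_ord (T0 X Φ) (N0 X hΦ) (i := 2 * i)
        (fun g hg => by
          obtain ⟨k, hk, -⟩ := ord_dvd_succ X hΦ hm (g := g) (by
            rw [hg, show (Fintype.card K + 1) / 2 = 2 * ((Fintype.card K + 1) / 4) by omega]
            exact mul_dvd_mul_left 2 hd) (by omega)
          exact ⟨k, hk⟩)
        (fun n hn' x hx _ => (Subgroup.mem_normalizer_iff.1 hn' x).1 hx)
        (fun g x hx ho hgx => by
          have hx2 : x * x ≠ 1 := fun e => by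
            have := Nat.le_of_dvd two_pos (orderOf_dvd_of_pow_eq_one (show x ^ 2 = 1 by rw [sq, e]))
            omega
          refine conj_T0_eq X hΦ (cent_T0_reg X hΦ hm hx hx2) (cent_T0_reg X hΦ hm hgx fun e => hx2 ?_)
          calc x * x = g⁻¹ * (g * x * g⁻¹ * (g * x * g⁻¹)) * g := by group
            _ = 1 := by rw [e]; group)
      have hcount : {g : ↥(Cfsg.Lie.twistedG2 K (3 ^ m)) | g ∈ T0 X Φ ∧ orderOf g = 2 * i}.ncard =
          3 * Nat.totient i := by
        obtain ⟨E, hE⟩ : ∃ E : Set ↥(Cfsg.Lie.twistedG2 K (3 ^ m)),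
            E = {g | g ∈ T0 X Φ ∧ g * g = 1} \ {1} := ⟨_, rfl⟩
        have hEc : E.ncard = 3 := by
          rw [hE, Set.ncard_sdiff (Set.singleton_subset_iff.2 (show (1 : ↥(Cfsg.Lie.twistedG2 K (3 ^ m))) ∈ {g | g ∈ T0 X Φ ∧ g * g = 1} from ⟨one_mem _, one_mul 1⟩)),
            ncard_T0_invol X hΦ, Set.ncard_singleton]
        have hEo : ∀ e ∈ E, orderOf e = 2 := fun e he => by
          rw [hE] at he
          exact orderOf_eq_prime (by rw [sq]; exact he.1.2) he.2
        have himg : {g : ↥(Cfsg.Lie.twistedG2 K (3 ^ m)) | g ∈ T0 X Φ ∧ orderOf g = 2 * i} =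
            (fun p => p.1 * p.2) '' (E ×ˢ {g | g ∈ A0 X hΦ ∧ orderOf g = i}) := by
          ext g
          constructor
          · rintro ⟨hg, ho⟩
            have hpi : (g ^ i) * (g ^ i) = 1 := by
              rw [← pow_add, ← two_mul, ← ho, pow_orderOf_eq_one]
            have hne : g ^ i ≠ 1 := fun e => by
              have := Nat.le_of_dvd (by omega) (orderOf_dvd_of_pow_eq_one e)
              omega
            have hprod : g ^ i * g ^ (i + 1) = g := by
              rw [← pow_add, show i + (i + 1) = 2 * i + 1 by ring, pow_succ, ← ho, pow_orderOf_eq_one,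
                one_mul]
            have hyi : (g ^ (i + 1)) ^ i = 1 := by
              obtain ⟨j, hj⟩ := hi2
              rw [← pow_mul, show (i + 1) * i = 2 * i * (j + 1) by rw [hj]; ring, pow_mul, ← ho,
                pow_orderOf_eq_one, one_pow]
            have hoi : orderOf (g ^ (i + 1)) = i := by
              have h2 : orderOf (g ^ i) = 2 := orderOf_eq_prime (by rw [sq, hpi]) hne
              have h3 := ((Commute.refl g).pow_pow i (i + 1)).orderOf_mul_eq_mul_orderOf_of_coprime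
                (h2.symm ▸ hcop.coprime_dvd_right (orderOf_dvd_of_pow_eq_one hyi))
              rw [hprod, ho, h2] at h3
              omega
            refine ⟨(g ^ i, g ^ (i + 1)), ⟨?_, mem_A0_of_odd X hΦ (pow_mem hg _) (by rw [hoi]; exact hi2),
              hoi⟩, hprod⟩
            rw [hE]
            exact ⟨⟨pow_mem hg _, hpi⟩, hne⟩
          · rintro ⟨⟨e, a⟩, ⟨he, ha, hao⟩, rfl⟩
            have h2 := hEo e he
            rw [hE] at he
            refine ⟨mul_mem he.1.1 (A0_le_T0 X hΦ ha), ?_⟩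
            rw [(T0_comm X hΦ he.1.1 (A0_le_T0 X hΦ ha)).orderOf_mul_eq_mul_orderOf_of_coprime
              (by rw [h2, hao]; exact hcop), h2, hao]
        rw [himg, Set.ncard_image_of_injOn, Set.ncard_prod, hEc,
          ncard_ord_cyclic (A0 X hΦ) (by rw [(card_A0 X hΦ).1]; exact hd)]
        rintro ⟨e, a⟩ ⟨he, ha, hao⟩ ⟨e', a'⟩ ⟨he', ha', hao'⟩ heq
        simp only at heq
        have key : ∀ (e a : ↥(Cfsg.Lie.twistedG2 K (3 ^ m))), e ∈ E → a ∈ A0 X hΦ → orderOf a = i →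
            (e * a) ^ i = e := fun e a he ha hao => by
          obtain ⟨j, hj⟩ := hi2
          have he2 := hEo e he
          rw [hE] at he
          rw [(T0_comm X hΦ he.1.1 (A0_le_T0 X hΦ ha)).mul_pow, ← hao, pow_orderOf_eq_one, mul_one,
            hao, hj, pow_succ, pow_mul, ← he2, pow_orderOf_eq_one, one_pow, one_mul]
        have e1 : e = e' := by rw [← key e a he ha hao, heq, key e' a' he' ha' hao']
        subst e1
        rw [mul_left_cancel heq]
      rw [card_N0 X hΦ hm, hcount, card_GG X, six_factor X] at h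
      refine Nat.eq_of_mul_eq_mul_right (show 0 < 3 * (Fintype.card K + 1) by omega) ?_
      linear_combination h
  · rw [← hca] at hd
    haveI := six_cyclic X hΦ hm ha
    have hne : Nat.card Ta ≠ Nat.card Tb := by
      rw [hca, hcb]
      have := Nat.pow_pos (n := m + 1) (show 0 < 3 by norm_num)
      omega
    have h := count_ord Ta (Subgroup.normalizer (Ta : Set ↥(Cfsg.Lie.twistedG2 K (3 ^ m)))) (i := i)
      (fun g hg => ord_dvd_six X hΦ hm ha hb hne hset (by rw [hg]; exact hd) (by omega))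
      (fun n hn' x hx _ => (Subgroup.mem_normalizer_iff.1 hn' x).1 hx)
      (fun g x hx ho hgx => by
        have hx1 : x ≠ 1 := fun e => by rw [e, orderOf_one] at ho; omega
        refine Tools.mem_normalizer_of_maps fun z hz => ?_
        rw [← six_cent X hΦ hm ha hgx (by simpa using hx1), Tools.mem_cent_conj,
          six_cent X hΦ hm ha hx hx1]
        simpa [mul_assoc] using hz)
    rw [hna, ncard_ord_cyclic Ta hd, hca, card_GG X, six_factor X, ← hab] at h
    refine Nat.eq_of_mul_eq_mul_right (show 0 < Fintype.card K - 3 ^ (m + 1) + 1 by omega) ?_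
    zify [show 1 ≤ Fintype.card K by omega, hsq1] at h ⊢
    linear_combination h
  · rw [← hcb] at hd
    haveI := six_cyclic X hΦ hm hb
    have hne : Nat.card Tb ≠ Nat.card Ta := by
      rw [hca, hcb]
      have := Nat.pow_pos (n := m + 1) (show 0 < 3 by norm_num)
      omega
    have h := count_ord Tb (Subgroup.normalizer (Tb : Set ↥(Cfsg.Lie.twistedG2 K (3 ^ m)))) (i := i)
      (fun g hg => ord_dvd_six X hΦ hm hb ha hne (hset.trans (Set.union_comm _ _))
        (by rw [hg]; exact hd) (by omega))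
      (fun n hn' x hx _ => (Subgroup.mem_normalizer_iff.1 hn' x).1 hx)
      (fun g x hx ho hgx => by
        have hx1 : x ≠ 1 := fun e => by rw [e, orderOf_one] at ho; omega
        refine Tools.mem_normalizer_of_maps fun z hz => ?_
        rw [← six_cent X hΦ hm hb hgx (by simpa using hx1), Tools.mem_cent_conj,
          six_cent X hΦ hm hb hx hx1]
        simpa [mul_assoc] using hz)
    rw [hnb, ncard_ord_cyclic Tb hd, hcb, card_GG X, six_factor X, ← hab] at h
    refine Nat.eq_of_mul_eq_mul_right (show 0 < Fintype.card K + 3 ^ (m + 1) + 1 by omega) ?_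
    zify [show 1 ≤ Fintype.card K by omega, hsq1] at h ⊢
    linear_combination h

end Cfsg.Agent.S2357
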