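import Cfsg.Statements.S2358
import Cfsg.Agent.Lib.Ree.Orders

set_option autoImplicit false
open Cfsg
open scoped MatrixGroups

namespace Cfsg.Agent.S2358

/-- Let R be the small Ree group over the field with q = 3^(2m+1) ≥ 27 elements. If d divides one of (q−1)/2, (q+1)/4, q − 3^(m+1) + 1 or q + 3^(m+1) + 1, then any two cyclic subgroups of R of order d are conjugate in R. -/
theorem result {K : Type*} [Field K] [Fintype K] {m : ℕ} (hm : 1 ≤ m)
    (hK : Fintype.card K = 3 ^ (2 * m + 1)) (d : ℕ)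
    (hd : d ∣ (3 ^ (2 * m + 1) - 1) / 2 ∨ d ∣ (3 ^ (2 * m + 1) + 1) / 4 ∨ d ∣ 3 ^ (2 * m + 1) - 3 ^ (m + 1) + 1 ∨ d ∣ 3 ^ (2 * m + 1) + 3 ^ (m + 1) + 1)
    (A B : Subgroup ↥(Cfsg.Lie.twistedG2 K (3 ^ m))) (hA : IsCyclic A) (hB : IsCyclic B)
    (hAd : Nat.card A = d) (hBd : Nat.card B = d) :
    ∃ g : ↥(Cfsg.Lie.twistedG2 K (3 ^ m)), B = A.map (MulAut.conj g).toMonoidHom := by
  haveI := Cfsg.Agent.Chevalley.Twist.G2.charThree hK
  obtain ⟨X⟩ := Cfsg.Agent.Chevalley.Twist.G2.exists_setup hK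
  obtain ⟨Φ, hΦ⟩ := Cfsg.Agent.Ree.exists_embed X
  obtain ⟨Ta, Tb, ha, hb, hca, hcb, -, -, hset⟩ := Cfsg.Agent.Ree.exists_tori X hΦ hm
  open Cfsg.Agent.Ree Cfsg.Agent.Chevalley.Twist.G2 in
  haveI := hA
  haveI := hB
  rcases eq_or_ne d 1 with rfl | hd1
  · rw [Subgroup.card_eq_one.1 hAd, Subgroup.card_eq_one.1 hBd]
    exact ⟨1, by simp⟩
  rw [← hK] at hd
  have hpos : 1 < d := by
    have : 0 < d := hAd ▸ Nat.card_pos
    omega
  have hne : Nat.card Ta ≠ Nat.card Tb := by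
    rw [hca, hcb]
    have := Nat.pow_pos (n := m + 1) (show 0 < 3 by norm_num)
    omega
  rcases hd with hd | hd | hd | hd
  · haveI := isCyclic_AH X hΦ
    exact conj_of_cover (AH X hΦ) (hAd.trans hBd.symm) fun g hg =>
      ord_dvd_half X hΦ hm (by rw [hg, hAd]; exact hd) (by omega)
  · exact conj_of_cover (A0 X hΦ) (hAd.trans hBd.symm) fun g hg =>
      ord_dvd_quarter X hΦ hm (by rw [hg, hAd]; exact hd) (by omega)
  · haveI := six_cyclic X hΦ hm ha
    exact conj_of_cover Ta (hAd.trans hBd.symm) fun g hg =>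
      ord_dvd_six X hΦ hm ha hb hne hset (by rw [hg, hAd, hca]; exact hd) (by omega)
  · haveI := six_cyclic X hΦ hm hb
    exact conj_of_cover Tb (hAd.trans hBd.symm) fun g hg =>
      ord_dvd_six X hΦ hm hb ha hne.symm (hset.trans (Set.union_comm _ _))
        (by rw [hg, hAd, hcb]; exact hd) (by omega)

end Cfsg.Agent.S2358
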