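import Cfsg.Statements.S2359
import Cfsg.Agent.Lib.Ree.Orders

set_option autoImplicit false
open Cfsg
open scoped MatrixGroups

namespace Cfsg.Agent.S2359

/-- Let R be the small Ree group over the field with q = 3^(2m+1) ≥ 27 elements. If H is a cyclic subgroup of R of order (q−1)/2, then the centralizer of H in R is cyclic of order q−1, and every non-trivial subgroup of H has the same centralizer as H. If H is a cyclic subgroup of order (q+1)/4, then the centralizer of H is abelian of order q+1 with no element of order 4 (so it is the direct product of H and a group of order 4 whose non-identity elements all have order 2), and every non-trivial subgroup of H has the same centralizer as H. -/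
theorem result {K : Type*} [Field K] [Fintype K] {m : ℕ} (hm : 1 ≤ m)
    (hK : Fintype.card K = 3 ^ (2 * m + 1)) (H : Subgroup ↥(Cfsg.Lie.twistedG2 K (3 ^ m))) (hH : IsCyclic H) :
    (Nat.card H = (3 ^ (2 * m + 1) - 1) / 2 →
      IsCyclic ↥(Subgroup.centralizer (H : Set ↥(Cfsg.Lie.twistedG2 K (3 ^ m)))) ∧
        Nat.card ↥(Subgroup.centralizer (H : Set ↥(Cfsg.Lie.twistedG2 K (3 ^ m)))) = 3 ^ (2 * m + 1) - 1 ∧
        ∀ A : Subgroup ↥(Cfsg.Lie.twistedG2 K (3 ^ m)), A ≤ H → A ≠ ⊥ →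
          Subgroup.centralizer (A : Set ↥(Cfsg.Lie.twistedG2 K (3 ^ m))) = Subgroup.centralizer (H : Set ↥(Cfsg.Lie.twistedG2 K (3 ^ m)))) ∧
    (Nat.card H = (3 ^ (2 * m + 1) + 1) / 4 →
      IsMulCommutative ↥(Subgroup.centralizer (H : Set ↥(Cfsg.Lie.twistedG2 K (3 ^ m)))) ∧
        Nat.card ↥(Subgroup.centralizer (H : Set ↥(Cfsg.Lie.twistedG2 K (3 ^ m)))) = 3 ^ (2 * m + 1) + 1 ∧
        (∀ x ∈ Subgroup.centralizer (H : Set ↥(Cfsg.Lie.twistedG2 K (3 ^ m))), orderOf x ≠ 4) ∧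
        ∀ A : Subgroup ↥(Cfsg.Lie.twistedG2 K (3 ^ m)), A ≤ H → A ≠ ⊥ →
          Subgroup.centralizer (A : Set ↥(Cfsg.Lie.twistedG2 K (3 ^ m))) = Subgroup.centralizer (H : Set ↥(Cfsg.Lie.twistedG2 K (3 ^ m)))) := by
  haveI := Cfsg.Agent.Chevalley.Twist.G2.charThree hK
  obtain ⟨X⟩ := Cfsg.Agent.Chevalley.Twist.G2.exists_setup hK
  obtain ⟨Φ, hΦ⟩ := Cfsg.Agent.Ree.exists_embed X
  open Cfsg.Agent.Ree Cfsg.Agent.Chevalley.Twist.G2 in
  obtain ⟨⟨g, hgH⟩, hgen⟩ := IsCyclic.exists_generator (α := H)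
  rw [← hK]
  have h27 := twenty_seven_le X hm
  have ho : orderOf g = Nat.card H := by
    rw [← orderOf_eq_card_of_forall_mem_zpowers hgen]
    exact Subgroup.orderOf_coe (⟨g, hgH⟩ : H)
  have hall : ∀ {L : Subgroup ↥(Cfsg.Lie.twistedG2 K (3 ^ m))} {k : ↥(Cfsg.Lie.twistedG2 K (3 ^ m))},
      k⁻¹ * g * k ∈ L → ∀ x ∈ H, k⁻¹ * x * k ∈ L := by
    intro L k hk x hx
    obtain ⟨j, hj⟩ := Subgroup.mem_zpowers_iff.1 (hgen ⟨x, hx⟩)
    have e : x = g ^ j := (congrArg Subtype.val hj).symm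
    have h := zpow_mem hk j
    rw [e]
    have e2 : (k⁻¹ * g * k) ^ j = k⁻¹ * g ^ j * k := by
      simpa using (map_zpow (MulAut.conj k⁻¹).toMonoidHom g j).symm
    rwa [e2] at h
  have hodd : Odd (Nat.card H) → ∀ x ∈ H, ∀ k : ↥(Cfsg.Lie.twistedG2 K (3 ^ m)), x ≠ 1 →
      k⁻¹ * x * k * (k⁻¹ * x * k) ≠ 1 := by
    intro hH x hx k hx1 e
    have h2 : orderOf x ∣ 2 := by
      rw [← orderOf_conj X k x]
      exact orderOf_dvd_of_pow_eq_one (by rw [sq, e])
    have h3 := Odd.of_dvd_nat hH (Subgroup.orderOf_dvd_natCard _ hx)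
    rcases (Nat.dvd_prime Nat.prime_two).1 h2 with h | h
    · exact hx1 (orderOf_eq_one_iff.1 h)
    · rw [h] at h3
      exact absurd h3 (by decide)
  refine ⟨fun hc => ?_, fun hc => ?_⟩
  · obtain ⟨hoddc, h2c⟩ := pred_facts X hΦ
    obtain ⟨k, hk⟩ := ord_dvd_half X hΦ hm (by rw [ho, hc]) (by omega)
    have hx : ∀ x ∈ H, k⁻¹ * x * k ∈ (torusHom X).range ∧
        (x ≠ 1 → Subgroup.centralizer {k⁻¹ * x * k} = (torusHom X).range) := fun x hx => by
      refine ⟨AH_le X hΦ (hall hk x hx), fun h1 => ?_⟩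
      obtain ⟨y, hy, e⟩ := AH_reg X hΦ (hall hk x hx) fun e => h1 <| by
        calc x = k * (k⁻¹ * x * k) * k⁻¹ := by group
          _ = 1 := by rw [e]; group
      rw [← e, cent_tor X hΦ hm hy]
    have hcomm : ∀ x ∈ (torusHom X).range, ∀ y ∈ (torusHom X).range, Commute x y := by
      rintro _ ⟨a, rfl⟩ _ ⟨b, rfl⟩
      exact (Commute.all a b).map _
    have hne : H ≠ ⊥ := fun e => by rw [e, Subgroup.card_bot] at hc; omega
    have hCH := cent_conj_torus hcomm hx le_rfl hne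
    rw [hCH]
    refine ⟨?_, ?_, fun A hA hA1 => cent_conj_torus hcomm hx hA hA1⟩
    · haveI := isCyclic_H' X
      exact isCyclic_of_surjective _ ((MulAut.conj k).toMonoidHom.subgroupMap_surjective (torusHom X).range)
    · rw [Subgroup.card_map_of_injective (MulAut.conj k).injective, card_H' X]
  · obtain ⟨hc0, hoddc, -⟩ := card_A0 X hΦ
    obtain ⟨k, hk⟩ := ord_dvd_quarter X hΦ hm (g := g) (by rw [ho, hc]) (by omega)
    have hx : ∀ x ∈ H, k⁻¹ * x * k ∈ T0 X Φ ∧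
        (x ≠ 1 → Subgroup.centralizer {k⁻¹ * x * k} = T0 X Φ) := fun x hx =>
      ⟨A0_le_T0 X hΦ (hall hk x hx), fun h1 =>
        cent_T0_reg X hΦ hm (A0_le_T0 X hΦ (hall hk x hx)) (hodd (hc ▸ hoddc) x hx k h1)⟩
    have hcomm : ∀ x ∈ T0 X Φ, ∀ y ∈ T0 X Φ, Commute x y := fun x hx y hy => T0_comm X hΦ hx hy
    have hne : H ≠ ⊥ := fun e => by rw [e, Subgroup.card_bot] at hc; omega
    have hCH := cent_conj_torus hcomm hx le_rfl hne
    rw [hCH]
    refine ⟨⟨⟨?_⟩⟩, ?_, ?_, fun A hA hA1 => cent_conj_torus hcomm hx hA hA1⟩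
    · rintro ⟨_, a, ha, rfl⟩ ⟨_, b, hb, rfl⟩
      exact Subtype.ext (((hcomm a ha b hb).map (MulAut.conj k).toMonoidHom).eq)
    · rw [Subgroup.card_map_of_injective (MulAut.conj k).injective, card_T0 X hΦ]
    · rintro _ ⟨a, ha, rfl⟩ h4
      have e : orderOf ((MulAut.conj k).toMonoidHom a) = orderOf a :=
        orderOf_injective (MulAut.conj k).toMonoidHom (MulAut.conj k).injective a
      rw [e] at h4
      have h := orderOf_dvd_of_pow_eq_one (pow_card_A0 X hΦ ha)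
      rw [h4] at h
      obtain ⟨c, hc'⟩ := q_form X
      omega

end Cfsg.Agent.S2359
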