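import Cfsg.Statements.S2472
import Cfsg.Agent.Lib.Classical.SpectrumSymp
-- import your own Cfsg.Agent.* helpers here

set_option autoImplicit false
open Cfsg

namespace Cfsg.Agent.S2472

open Cfsg.Agent.Classical Polynomial
open scoped Matrix

variable {F : Type*} [Field F]

/-- `-1` is a power of `q` modulo an odd prime exactly when `q` has even order -/
theorem neg_one_iff {r q : ℕ} (hr : r.Prime) (hr2 : r ≠ 2) (hq : (q : ZMod r) ≠ 0) :
    (∃ j, (q : ZMod r) ^ j = -1) ↔ Even (orderOf (q : ZMod r)) := by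
  have := Fact.mk hr
  have h2 : (-1 : ZMod r) ≠ 1 := by
    intro e
    have h : ((2 : ℕ) : ZMod r) = 0 := by
      rw [Nat.cast_ofNat]; linear_combination -e
    rw [ZMod.natCast_eq_zero_iff] at h
    exact hr2 ((Nat.prime_dvd_prime_iff_eq hr Nat.prime_two).1 h)
  constructor
  · rintro ⟨j, hj⟩
    rw [← Nat.not_odd_iff_even]
    intro hodd
    have : ((q : ZMod r) ^ j) ^ orderOf (q : ZMod r) = 1 := by
      rw [← pow_mul, mul_comm, pow_mul, pow_orderOf_eq_one, one_pow]
    rw [hj, hodd.neg_one_pow] at this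
    exact h2 this
  · rintro ⟨c, hc⟩
    refine ⟨c, ?_⟩
    have hsq : (q : ZMod r) ^ c * (q : ZMod r) ^ c = 1 := by rw [← pow_add, ← hc, pow_orderOf_eq_one]
    refine (mul_self_eq_one_iff.1 hsq).resolve_left fun h => ?_
    have hpos : 0 < orderOf (q : ZMod r) := by
      rw [← Units.val_mk0 hq, orderOf_units]
      exact orderOf_pos _
    have := Nat.le_of_dvd (by omega) (orderOf_dvd_of_pow_eq_one h)
    omega

theorem transvection_isometry :
    (Matrix.transvection (0 : Fin 2) 1 (1 : F))ᵀ * !![0, 1; -1, 0] * Matrix.transvection (0 : Fin 2) 1 (1 : F) =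
      !![0, 1; -1, 0] := by
  ext i j
  fin_cases i <;> fin_cases j <;>
    simp [Matrix.mul_apply, Matrix.transvection, Fin.sum_univ_two, Matrix.single]

theorem transvection_pow {ι : Type*} [Fintype ι] [DecidableEq ι] {i j : ι} (h : i ≠ j) (m : ℕ) :
    Matrix.transvection i j (1 : F) ^ m = Matrix.transvection i j (m : F) := by
  induction m with
  | zero => rw [pow_zero, Nat.cast_zero, Matrix.transvection_zero]
  | succ m ih => rw [pow_succ, ih, Matrix.transvection_mul_transvection_same _ _ h, Nat.cast_succ]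

/-- Adjacency of a prime and the characteristic in the prime graph of PSp(2n,q): let F be a finite field of characteristic p with q elements, n ≥ 2 with PSp(2n,F) simple, and let r ≠ p be an odd prime dividing the order of PSp(2n,F), with k the multiplicative order of q modulo r and η(k) = k for odd k, k/2 for even k. Then PSp(2n,F) has NO element of order r·p if and only if η(k) > n − 1. -/
theorem result {F : Type*} [Field F] [Fintype F] (p : ℕ) [Fact p.Prime] [CharP F p] (n : ℕ) (hn : 2 ≤ n) (hsmall : n = 2 → 3 ≤ Fintype.card F)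
    (r : ℕ) (hr : r.Prime) (hr2 : r ≠ 2) (hrp : r ≠ p) (hrG : r ∣ Nat.card (Cfsg.PSp n F))
    (k ηk : ℕ) (hk : k = orderOf ((Fintype.card F : ℕ) : ZMod r)) (hηk : (Odd k ∧ ηk = k) ∨ (Even k ∧ 2 * ηk = k)) :
    (r * p ∉ Set.range (orderOf : Cfsg.PSp n F → ℕ)) ↔ n - 1 < ηk := by
  classical
  obtain ⟨f, hp, hpf⟩ := FiniteField.card F p
  have := Fact.mk hr
  have hrodd : Odd r := hr.odd_of_ne_two hr2
  have hrF : (r : F) ≠ 0 := fun e => hrp
    ((Nat.prime_dvd_prime_iff_eq Fact.out hr).1 ((CharP.cast_eq_zero_iff F p r).1 e)).symm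
  have hqr : ((Fintype.card F : ℕ) : ZMod r) ≠ 0 := by
    rw [Ne, ZMod.natCast_eq_zero_iff, hpf]
    exact fun h => hrp ((Nat.prime_dvd_prime_iff_eq hr hp).1 (hr.dvd_of_dvd_pow h))
  have hk1 : 1 ≤ k := by
    rw [hk, ← Units.val_mk0 hqr, orderOf_units]
    exact orderOf_pos _
  have hneg : (∃ j, ((Fintype.card F : ℕ) : ZMod r) ^ j = -1) ↔ Even k := by
    rw [hk]; exact neg_one_iff hr hr2 hqr
  have hpq : p.Coprime (Fintype.card F - 1) := hp.coprime_iff_not_dvd.2 fun h => by
    have h1 : p ∣ Fintype.card F := by rw [hpf]; exact dvd_pow_self _ f.ne_zero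
    have h2 := Nat.dvd_sub h1 h
    have hq1 : 1 ≤ Fintype.card F := Fintype.card_pos
    rw [show Fintype.card F - (Fintype.card F - 1) = 1 by omega] at h2
    exact hp.one_lt.ne' (Nat.dvd_one.1 h2)
  have hfd : ∀ x : F[X], StarFactor.Fac r x → x.natDegree = k := fun x hx => by
    rw [hk]; exact SpectrumFactors.fac_degree hr hrF hx.monic hx.irr hx.dvd hx.ne
  constructor
  · intro hno
    by_contra hcon
    apply hno
    obtain ⟨x, hxm, hxi, hxd, hxn⟩ := SpectrumTools.exists_factor (F := F) hrF
    rw [← hk] at hxn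
    have hxdvd := SpectrumTools.dvd_X_pow_sub_one dvd_rfl hr.pos hxd
    have hxf : StarFactor.Fac r x := ⟨hxm, hxi, hxdvd, SpectrumFactors.ne_X_sub_one hr hrF hxd⟩
    obtain ⟨T, hT, hxT, hTmon, hTsum⟩ : ∃ T : Multiset F[X], SympRealise.Real r T ∧ x ∈ T ∧
        (∀ y ∈ T, y.Monic) ∧ (T.map natDegree).sum = 2 * ηk := by
      rcases hηk with ⟨hodd, hη⟩ | ⟨heven, hη⟩
      · have hs := (hxf.star_fac hrF hfd).1
        refine ⟨{x, StarFactor.star r x}, SympRealise.real_pair hr.one_le hxm hxdvd, by simp,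
          fun y hy => ?_, ?_⟩
        · rw [Multiset.insert_eq_cons, Multiset.mem_cons, Multiset.mem_singleton] at hy
          rcases hy with rfl | rfl
          · exact hxm
          · exact hs.monic
        · rw [Multiset.insert_eq_cons, Multiset.map_cons, Multiset.map_singleton, Multiset.sum_cons,
            Multiset.sum_singleton, hxn, hfd _ hs, hη, two_mul]
      · obtain ⟨j, hj⟩ := hneg.2 heven
        refine ⟨{x}, SympRealise.real_single' hxm hxi hxdvd hr.one_le
          (SpectrumSymp.aeval_inv hrF dvd_rfl hr.pos hxi hxd hj) (fun e => ?_), by simp, fun y hy => ?_, ?_⟩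
        · have : Fact (Irreducible x) := ⟨hxi⟩
          have := (SpectrumSymp.primitive_root hrF hxi hxd).pow_inj
            (show r - 1 < r by have := hr.pos; omega) hr.one_lt (by rwa [pow_one])
          have := hr.two_le
          omega
        · rw [Multiset.mem_singleton.1 hy]; exact hxm
        · rw [Multiset.map_singleton, Multiset.sum_singleton, hxn, hη]
    have hreal := hT.add (SympRealise.real_ones (F := F) hr.one_le hrF (n - 1 - ηk))
    obtain ⟨N, A, G, hG, halt, hA, hAr, hAc⟩ := hreal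
    have hN : N = 2 * (n - 1) := by
      have h := congrArg natDegree hAc
      rw [Matrix.charpoly_natDegree_eq_dim, Fintype.card_fin, natDegree_multiset_prod_of_monic _
        (fun y hy => by
          rcases Multiset.mem_add.1 hy with hy | hy
          · exact hTmon y hy
          · rw [Multiset.eq_of_mem_replicate hy]; exact monic_X_sub_C 1),
        Multiset.map_add, Multiset.sum_add, hTsum, Multiset.map_replicate, Multiset.sum_replicate,
        natDegree_X_sub_C, smul_eq_mul, mul_one] at h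
      omega
    let J₂ : Matrix (Fin 2) (Fin 2) F := !![0, 1; -1, 0]
    let T₂ := Matrix.transvection (0 : Fin 2) 1 (1 : F)
    obtain ⟨φ, hφ, -⟩ := SympRealise.exists_transport (m := n) (Matrix.fromBlocks G 0 0 J₂)
      (by
        rw [Matrix.det_fromBlocks_zero₁₂, Matrix.det_fin_two]
        simpa [J₂] using hG)
      (fun v => by
        rw [SympRealise.toBilin_blocks, halt, zero_add, Matrix.toBilin'_apply]
        simp [J₂, Fin.sum_univ_two]
        ring)
      (by rw [Fintype.card_sum, Fintype.card_fin, Fintype.card_fin]; omega)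
    let s : Matrix.symplecticGroup (Fin n) F := ⟨φ (Matrix.fromBlocks A 0 0 1), hφ _ (by
      simp [Matrix.fromBlocks_transpose, Matrix.fromBlocks_multiply, hA])⟩
    let t : Matrix.symplecticGroup (Fin n) F := ⟨φ (Matrix.fromBlocks 1 0 0 T₂), hφ _ (by
      simp only [Matrix.fromBlocks_transpose, Matrix.fromBlocks_multiply]
      simp [T₂, J₂, transvection_isometry])⟩
    have hst : Commute s t := Subtype.ext ((show Commute (Matrix.fromBlocks A 0 0 (1 : Matrix (Fin 2) (Fin 2) F))
      (Matrix.fromBlocks 1 0 0 T₂) by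
        rw [commute_iff_eq, Matrix.fromBlocks_multiply, Matrix.fromBlocks_multiply]; simp).map φ).eq
    have hsc : ∀ (M : Matrix (Fin N ⊕ Fin 2) (Fin N ⊕ Fin 2) F) (b : F), φ M = b • 1 → M = b • 1 :=
      fun M b h => φ.injective (by rw [h, map_smul, map_one])
    refine ⟨((s * t : Matrix.symplecticGroup (Fin n) F) : Cfsg.PSp n F),
      SpectrumTools.orderOf_mk_mul _ hst hr hp hrp ?_ ?_ ?_ ?_⟩
    · have : ∀ j : ℕ, Matrix.fromBlocks A 0 0 (1 : Matrix (Fin 2) (Fin 2) F) ^ j =
          Matrix.fromBlocks (A ^ j) 0 0 1 := fun j => by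
        induction j with
        | zero => simp [Matrix.fromBlocks_one]
        | succ j ih => rw [pow_succ, ih, Matrix.fromBlocks_multiply]; simp [pow_succ]
      refine (SpectrumSymp.mem_center_iff _).2 ⟨1, ?_⟩
      show φ (Matrix.fromBlocks A 0 0 1) ^ r = _
      rw [← map_pow, this, hAr, Matrix.fromBlocks_one, map_one, one_smul]
    · intro h
      obtain ⟨b, hb⟩ := (SpectrumSymp.mem_center_iff _).1 h
      have hb' := hsc _ b hb
      have h22 := congrFun (congrFun hb' (Sum.inr 0)) (Sum.inr 0)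
      simp at h22
      have hA1 : A = 1 := by
        ext i j
        have := congrFun (congrFun hb' (Sum.inl i)) (Sum.inl j)
        simpa [← h22, Matrix.one_apply] using this
      have := SpectrumFactors.dvd_of_pow_eq_one hrF (e := 1) (by rw [Nat.cast_one]; exact one_ne_zero) hxi hxd
        (show x ∣ A.charpoly by
          rw [hAc]; exact Multiset.dvd_prod (Multiset.mem_add.2 (Or.inl hxT))) (by rw [pow_one, hA1])
      exact hr.one_lt.ne' (Nat.dvd_one.1 this)
    · have : ∀ j : ℕ, Matrix.fromBlocks (1 : Matrix (Fin N) (Fin N) F) 0 0 T₂ ^ j =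
          Matrix.fromBlocks 1 0 0 (T₂ ^ j) := fun j => by
        induction j with
        | zero => simp [Matrix.fromBlocks_one]
        | succ j ih => rw [pow_succ, ih, Matrix.fromBlocks_multiply]; simp [pow_succ]
      refine (SpectrumSymp.mem_center_iff _).2 ⟨1, ?_⟩
      show φ (Matrix.fromBlocks 1 0 0 T₂) ^ p = _
      rw [← map_pow, this, transvection_pow zero_ne_one, CharP.cast_eq_zero, Matrix.transvection_zero,
        Matrix.fromBlocks_one, map_one, one_smul]
    · intro h
      obtain ⟨b, hb⟩ := (SpectrumSymp.mem_center_iff _).1 h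
      have := congrFun (congrFun (hsc _ b hb) (Sum.inr 0)) (Sum.inr 1)
      simp [T₂, Matrix.transvection] at this
  · rintro hlt ⟨y, hy⟩
    obtain ⟨g, rfl⟩ := QuotientGroup.mk_surjective y
    have hu0 : orderOf ((g : Cfsg.PSp n F) ^ r) = p := by
      rw [orderOf_pow_of_dvd hr.ne_zero (by rw [hy]; exact dvd_mul_right r p), hy,
        Nat.mul_div_cancel_left _ hr.pos]
    have hs0 : orderOf ((g : Cfsg.PSp n F) ^ p) = r := by
      rw [orderOf_pow_of_dvd hp.ne_zero (by rw [hy]; exact dvd_mul_left p r), hy,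
        Nat.mul_div_cancel _ hp.pos]
    have hcp := SpectrumSymp.center_coprime (F := F) (n := n) (m := p) (by omega) (Or.inr hpq)
    obtain ⟨U, hU, hUim⟩ := SpectrumTools.exists_lift _ hu0 hcp
    obtain ⟨S, hS, hSim⟩ := SpectrumTools.exists_lift _ hs0
      (SpectrumSymp.center_coprime (F := F) (n := n) (m := r) (by omega) (Or.inl hrodd))
    have hUp : U ^ p = 1 := hU ▸ pow_orderOf_eq_one U
    have hSr : S ^ r = 1 := hS ▸ pow_orderOf_eq_one S
    have hz : S * U * S⁻¹ * U⁻¹ ∈ Subgroup.center (Matrix.symplecticGroup (Fin n) F) := by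
      rw [← QuotientGroup.eq_one_iff, QuotientGroup.mk_mul, QuotientGroup.mk_mul, QuotientGroup.mk_mul,
        QuotientGroup.mk_inv, QuotientGroup.mk_inv, hSim, hUim,
        ((Commute.refl (g : Cfsg.PSp n F)).pow_pow p r).eq, mul_inv_cancel_right, mul_inv_cancel]
    have hzc : Commute (S * U * S⁻¹ * U⁻¹) U := (Subgroup.mem_center_iff.1 hz U).symm
    have hzp : (S * U * S⁻¹ * U⁻¹) ^ p = 1 := by
      have h1 : (S * U * S⁻¹) ^ p = 1 := by rw [conj_pow, hUp, mul_one, mul_inv_cancel]
      rw [show S * U * S⁻¹ = S * U * S⁻¹ * U⁻¹ * U by group, hzc.mul_pow, hUp, mul_one] at h1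
      exact h1
    have hz1 : S * U * S⁻¹ * U⁻¹ = 1 := by
      have h2 : (⟨_, hz⟩ : Subgroup.center (Matrix.symplecticGroup (Fin n) F)) ^
          Nat.card (Subgroup.center (Matrix.symplecticGroup (Fin n) F)) = 1 := pow_card_eq_one'
      have := pow_gcd_eq_one.2 ⟨hzp, congrArg Subtype.val h2⟩
      rwa [hcp.gcd_eq_one, pow_one] at this
    have hcomm : S * U = U * S := by
      rw [mul_inv_eq_one, mul_inv_eq_iff_eq_mul] at hz1
      exact hz1
    let ψ := Matrix.reindexAlgEquiv F F (finSumFinEquiv : Fin n ⊕ Fin n ≃ Fin (n + n))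
    set A := (S : Matrix (Fin n ⊕ Fin n) (Fin n ⊕ Fin n) F) with hA
    have hAr : ψ A ^ r = 1 := by
      rw [← map_pow, show A ^ r = 1 from congrArg Subtype.val hSr, map_one]
    have hψc : (ψ A).charpoly = A.charpoly := Matrix.charpoly_reindex _ A
    obtain ⟨x, dx, hxm, hxi, hxA, hdx, hxd, hdx'⟩ := SpectrumFactors.exists_factor_of_pow_ne hrF
      (e := 1) (by rw [Nat.cast_one]; exact one_ne_zero) hAr (by
      rw [pow_one]
      intro e
      have : S = 1 := Subtype.ext (ψ.injective (by rw [e]; exact (map_one ψ).symm))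
      rw [this, orderOf_one] at hS
      exact hr.one_lt.ne hS)
    rw [hψc] at hxA
    rcases (Nat.dvd_prime hr).1 hdx with rfl | rfl
    · exact hdx' dvd_rfl
    obtain ⟨w, hwm, hwi, hwA, hwd, hwx⟩ := SpectrumSymp.exists_partner hrF hSr hxm hxi hxA dvd_rfl hxd
    have hdeg : ∀ z : F[X], Irreducible z → z ∣ cyclotomic dx F → z.natDegree = k := fun z hzi hzd => by
      rw [hk]; exact SpectrumTools.natDegree_of_dvd_cyclotomic hrF hzi hzd
    have hmem : ∀ z ∈ ({x, w} : Finset F[X]), z.Monic ∧ Irreducible z ∧ z ∣ A.charpoly := by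
      intro z hz
      rw [Finset.mem_insert, Finset.mem_singleton] at hz
      rcases hz with rfl | rfl
      · exact ⟨hxm, hxi, hxA⟩
      · exact ⟨hwm, hwi, hwA⟩
    have hsum : Fintype.card (Fin n ⊕ Fin n) ≤ ∑ z ∈ ({x, w} : Finset F[X]), z.natDegree := by
      rw [Fintype.card_sum, Fintype.card_fin]
      by_cases hxw : x = w
      · obtain ⟨c, hc⟩ := hneg.1 (hwx hxw.symm)
        rw [← hxw, Finset.insert_eq_of_mem (Finset.mem_singleton_self x), Finset.sum_singleton, hdeg x hxi hxd]
        rcases hηk with ⟨⟨c', hodd⟩, hη⟩ | ⟨-, hη⟩ <;> omega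
      · rw [Finset.sum_pair hxw, hdeg x hxi hxd, hdeg w hwi hwd]
        rcases hηk with ⟨-, hη⟩ | ⟨-, hη⟩ <;> omega
    have hsf := SpectrumFactors.squarefree_of_card_le _ hmem hsum
    rw [← hψc] at hsf
    have hU1 := SpectrumTools.matrix_eq_one_of_commute (p := p) hrF hAr hsf
      ((show Commute A (U : Matrix (Fin n ⊕ Fin n) (Fin n ⊕ Fin n) F) from congrArg Subtype.val hcomm).map ψ)
      (a := 1) (by
        rw [pow_one, ← map_pow, show (U : Matrix (Fin n ⊕ Fin n) (Fin n ⊕ Fin n) F) ^ p = 1 from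
          congrArg Subtype.val hUp, map_one])
    have : U = 1 := Subtype.ext (ψ.injective (hU1.trans (map_one ψ).symm))
    rw [this, orderOf_one] at hU
    exact hp.one_lt.ne hU

end Cfsg.Agent.S2472
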