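import Cfsg.Statements.S2469
import Cfsg.Agent.Lib.Classical.SpectrumSymp
import Cfsg.Agent.S2472
-- import your own Cfsg.Agent.* helpers here

set_option autoImplicit false
open Cfsg

namespace Cfsg.Agent.S2469

open Cfsg.Agent.Classical Polynomial
open scoped Matrix

variable {F : Type*} [Field F] [Fintype F]

theorem natDegree_star {m : ℕ} {x : F[X]} (hx : x.Monic) :
    (StarFactor.star m x).natDegree = x.natDegree ∧ (StarFactor.star m x).Monic := by
  rw [StarFactor.star, dif_pos hx.ne_zero]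
  refine ⟨?_, Matrix.charpoly_monic _⟩
  rw [Matrix.charpoly_natDegree_eq_dim, Fintype.card_fin, AdjoinRoot.powerBasis_dim]

/-- a symplectic block with eigenvalues of order `d` -/
theorem block {m d o η : ℕ} (hm : 0 < m) (hd : (d : F) ≠ 0) (hdm : d ∣ m) (hd2 : 2 < d)
    (ho : o = orderOf ((Fintype.card F : ℕ) : ZMod d))
    (hη : η = o ∨ ((∃ j, ((Fintype.card F : ℕ) : ZMod d) ^ j = -1) ∧ 2 * η = o)) :
    ∃ (T : Multiset F[X]) (x : F[X]), SympRealise.Real m T ∧ x ∈ T ∧ Irreducible x ∧ x ∣ cyclotomic d F ∧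
      (∀ y ∈ T, y.Monic) ∧ (T.map natDegree).sum = 2 * η := by
  obtain ⟨x, hxm, hxi, hxd, hxn⟩ := SpectrumTools.exists_factor (F := F) hd
  rw [← ho] at hxn
  have hxdvd := SpectrumTools.dvd_X_pow_sub_one hdm hm hxd
  rcases hη with hη | ⟨⟨j, hj⟩, hη⟩
  · refine ⟨{x, StarFactor.star m x}, x, SympRealise.real_pair hm hxm hxdvd, by simp, hxi, hxd,
      fun y hy => ?_, ?_⟩
    · rw [Multiset.insert_eq_cons, Multiset.mem_cons, Multiset.mem_singleton] at hy
      rcases hy with rfl | rfl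
      · exact hxm
      · exact (natDegree_star hxm).2
    · rw [Multiset.insert_eq_cons, Multiset.map_cons, Multiset.map_singleton, Multiset.sum_cons,
        Multiset.sum_singleton, (natDegree_star hxm).1, hxn, hη, two_mul]
  · refine ⟨{x}, x, SympRealise.real_single' hxm hxi hxdvd hm (SpectrumSymp.aeval_inv hd hdm hm hxi hxd hj)
      (fun e => ?_), by simp, hxi, hxd, fun y hy => ?_, ?_⟩
    · have : Fact (Irreducible x) := ⟨hxi⟩
      have : Fact (2 < d) := ⟨hd2⟩
      have h := (SpectrumSymp.pow_eq_inv_iff (SpectrumSymp.primitive_root hd hxi hxd) (by omega) hdm hm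
        (a := 1)).1 (by rwa [pow_one])
      rw [Nat.cast_one] at h
      exact ZMod.neg_one_ne_one h.symm
    · rw [Multiset.mem_singleton.1 hy]; exact hxm
    · rw [Multiset.map_singleton, Multiset.sum_singleton, hxn, hη]

/-- the factors of a pair of inverse eigenvalues -/
theorem exists_orbit {n m d o : ℕ} (hm : (m : F) ≠ 0) {g : Matrix.symplecticGroup (Fin n) F} (hg : g ^ m = 1)
    {x : F[X]} (hxm : x.Monic) (hxi : Irreducible x)
    (hxA : x ∣ (g : Matrix (Fin n ⊕ Fin n) (Fin n ⊕ Fin n) F).charpoly) (hdm : d ∣ m)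
    (hxd : x ∣ cyclotomic d F) (ho : o = orderOf ((Fintype.card F : ℕ) : ZMod d)) :
    ∃ T : Finset F[X], (∀ z ∈ T, z.Monic ∧ Irreducible z ∧
        z ∣ (g : Matrix (Fin n ⊕ Fin n) (Fin n ⊕ Fin n) F).charpoly) ∧ (∀ z ∈ T, z ∣ cyclotomic d F) ∧
      ((∑ z ∈ T, z.natDegree = o ∧ ∃ j, ((Fintype.card F : ℕ) : ZMod d) ^ j = -1) ∨
        ∑ z ∈ T, z.natDegree = 2 * o) := by
  classical
  have hd : (d : F) ≠ 0 := fun h => hm (by
    obtain ⟨c, hc⟩ := hdm; rw [hc, Nat.cast_mul, h, zero_mul])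
  obtain ⟨y, hym, hyi, hyA, hyd, hyx⟩ := SpectrumSymp.exists_partner hm hg hxm hxi hxA hdm hxd
  refine ⟨{x, y}, fun z hz => ?_, fun z hz => ?_, ?_⟩
  · rw [Finset.mem_insert, Finset.mem_singleton] at hz
    rcases hz with rfl | rfl
    exacts [⟨hxm, hxi, hxA⟩, ⟨hym, hyi, hyA⟩]
  · rw [Finset.mem_insert, Finset.mem_singleton] at hz
    rcases hz with rfl | rfl
    exacts [hxd, hyd]
  have hxn : x.natDegree = o := by rw [ho]; exact SpectrumTools.natDegree_of_dvd_cyclotomic hd hxi hxd
  have hyn : y.natDegree = o := by rw [ho]; exact SpectrumTools.natDegree_of_dvd_cyclotomic hd hyi hyd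
  by_cases hxy : x = y
  · refine Or.inl ⟨?_, hyx hxy.symm⟩
    rw [← hxy, Finset.insert_eq_of_mem (Finset.mem_singleton_self x), Finset.sum_singleton, hxn]
  · exact Or.inr (by rw [Finset.sum_pair hxy, hxn, hyn, two_mul])

/-- Adjacency of two odd primes in the prime graph of PSp(2n,q): let F be a finite field of characteristic p with q elements, n ≥ 2 with PSp(2n,F) simple, and let r ≠ s be odd primes different from p dividing the order of PSp(2n,F). Let k, l be the multiplicative orders of q modulo r and s, put η(m) = m for odd m and η(m) = m/2 for even m, and suppose η(k) ≤ η(l). Then PSp(2n,F) has NO element of order r·s if and only if η(k) + η(l) > n and l/k is not an odd integer. -/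
theorem result {F : Type*} [Field F] [Fintype F] (p : ℕ) [Fact p.Prime] [CharP F p] (n : ℕ) (hn : 2 ≤ n) (hsmall : n = 2 → 3 ≤ Fintype.card F)
    (r s : ℕ) (hr : r.Prime) (hs : s.Prime) (hr2 : r ≠ 2) (hs2 : s ≠ 2) (hrp : r ≠ p) (hsp : s ≠ p) (hrs : r ≠ s)
    (hrG : r ∣ Nat.card (Cfsg.PSp n F)) (hsG : s ∣ Nat.card (Cfsg.PSp n F))
    (k l ηk ηl : ℕ) (hk : k = orderOf ((Fintype.card F : ℕ) : ZMod r)) (hl : l = orderOf ((Fintype.card F : ℕ) : ZMod s))
    (hηk : (Odd k ∧ ηk = k) ∨ (Even k ∧ 2 * ηk = k)) (hηl : (Odd l ∧ ηl = l) ∨ (Even l ∧ 2 * ηl = l)) (hkl : ηk ≤ ηl) :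
    (r * s ∉ Set.range (orderOf : Cfsg.PSp n F → ℕ)) ↔ (n < ηk + ηl ∧ ¬ ∃ t : ℕ, Odd t ∧ l = k * t) := by
  classical
  obtain ⟨f, hp, hpf⟩ := FiniteField.card F p
  set q := Fintype.card F with hq
  have hrF : (r : F) ≠ 0 := fun e => hrp
    ((Nat.prime_dvd_prime_iff_eq Fact.out hr).1 ((CharP.cast_eq_zero_iff F p r).1 e)).symm
  have hsF : (s : F) ≠ 0 := fun e => hsp
    ((Nat.prime_dvd_prime_iff_eq Fact.out hs).1 ((CharP.cast_eq_zero_iff F p s).1 e)).symm
  have hrsF : ((r * s : ℕ) : F) ≠ 0 := by rw [Nat.cast_mul]; exact mul_ne_zero hrF hsF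
  have hdF : ∀ {d : ℕ}, d ∣ r * s → (d : F) ≠ 0 := fun {d} hd h => hrsF (by
    obtain ⟨c, hc⟩ := hd; rw [hc, Nat.cast_mul, h, zero_mul])
  have hcrs : r.Coprime s := (Nat.coprime_primes hr hs).2 hrs
  have hrodd : Odd r := hr.odd_of_ne_two hr2
  have hsodd : Odd s := hs.odd_of_ne_two hs2
  have hmodd : Odd (r * s) := hrodd.mul hsodd
  have hpos : 0 < r * s := Nat.mul_pos hr.pos hs.pos
  have hunit : ∀ t : ℕ, t.Prime → t ≠ p → (q : ZMod t) ≠ 0 := fun t ht htp => by
    rw [Ne, ZMod.natCast_eq_zero_iff, hpf]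
    exact fun h => htp ((Nat.prime_dvd_prime_iff_eq ht hp).1 (ht.dvd_of_dvd_pow h))
  have hnegr : (∃ j, (q : ZMod r) ^ j = -1) ↔ Even k := by
    rw [hk]; exact Cfsg.Agent.S2472.neg_one_iff hr hr2 (hunit r hr hrp)
  have hnegs : (∃ j, (q : ZMod s) ^ j = -1) ↔ Even l := by
    rw [hl]; exact Cfsg.Agent.S2472.neg_one_iff hs hs2 (hunit s hs hsp)
  have hlcm : orderOf (q : ZMod (r * s)) = Nat.lcm k l := by
    rw [SpectrumFactors.orderOf_mul_coprime _ hcrs, ← hk, ← hl]
  have hr3 : 2 < r := lt_of_le_of_ne hr.two_le (Ne.symm hr2)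
  have hs3 : 2 < s := lt_of_le_of_ne hs.two_le (Ne.symm hs2)
  have hk1 : 1 ≤ k := by
    have := Fact.mk hr
    rw [hk, ← Units.val_mk0 (hunit r hr hrp), orderOf_units]
    exact orderOf_pos _
  have hl1 : 1 ≤ l := by
    have := Fact.mk hs
    rw [hl, ← Units.val_mk0 (hunit s hs hsp), orderOf_units]
    exact orderOf_pos _
  let ψ := Matrix.reindexAlgEquiv F F (finSumFinEquiv : Fin n ⊕ Fin n ≃ Fin (n + n))
  have hψc : ∀ M, (ψ M).charpoly = M.charpoly := fun M => Matrix.charpoly_reindex _ M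
  have hψpow : ∀ (g : Matrix.symplecticGroup (Fin n) F) (e : ℕ),
      g ^ e = 1 ↔ ψ (g : Matrix (Fin n ⊕ Fin n) (Fin n ⊕ Fin n) F) ^ e = 1 := fun g e => by
    constructor
    · intro h
      rw [← map_pow, show (g : Matrix (Fin n ⊕ Fin n) (Fin n ⊕ Fin n) F) ^ e = 1 from congrArg Subtype.val h,
        map_one]
    · intro h
      rw [← map_pow] at h
      exact Subtype.ext (ψ.injective (h.trans (map_one ψ).symm))
  have hcen := SpectrumSymp.center_coprime (F := F) (n := n) (m := r * s) (by omega) (Or.inl hmodd)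
  -- `ηl ≤ n`
  have hln : ηl ≤ n := by
    have := Fact.mk hs
    obtain ⟨y, hy⟩ := exists_prime_orderOf_dvd_card' s hsG
    obtain ⟨g, hg, -⟩ := SpectrumTools.exists_lift _ hy
      (SpectrumSymp.center_coprime (F := F) (n := n) (m := s) (by omega) (Or.inl hsodd))
    obtain ⟨x, d, hxm, hxi, hxA, hd, hxd, hd1⟩ := SpectrumFactors.exists_factor_of_pow_ne hsF
      (e := 1) (by rw [Nat.cast_one]; exact one_ne_zero)
      ((hψpow g s).1 (hg ▸ pow_orderOf_eq_one g)) (fun e => by
        have h1 := (hψpow g 1).2 e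
        rw [pow_one] at h1
        rw [h1, orderOf_one] at hg
        exact hs.one_lt.ne hg)
    rw [hψc] at hxA
    rcases (Nat.dvd_prime hs).1 hd with rfl | rfl
    · exact absurd dvd_rfl hd1
    obtain ⟨T, hT, -, hTsum⟩ := exists_orbit hsF (hg ▸ pow_orderOf_eq_one g) hxm hxi hxA dvd_rfl hxd hl
    have hle := SpectrumFactors.sum_le _ hT
    rw [Fintype.card_sum, Fintype.card_fin] at hle
    rcases hTsum with ⟨h, hj⟩ | h
    · rcases hηl with ⟨ho, h'⟩ | ⟨-, h'⟩
      · exact absurd (hnegs.1 hj) (Nat.not_even_iff_odd.2 ho)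
      · omega
    · rcases hηl with ⟨-, h'⟩ | ⟨-, h'⟩ <;> omega
  constructor
  · intro hno
    by_contra hcon
    apply hno
    obtain ⟨T, hT, hTr, hTs, hTm, hTn⟩ : ∃ T : Multiset F[X], SympRealise.Real (r * s) T ∧
        (∃ x ∈ T, ∃ d, r ∣ d ∧ d ∣ r * s ∧ Irreducible x ∧ x ∣ cyclotomic d F) ∧
        (∃ x ∈ T, ∃ d, s ∣ d ∧ d ∣ r * s ∧ Irreducible x ∧ x ∣ cyclotomic d F) ∧
        (∀ y ∈ T, y.Monic) ∧ ∃ c, c ≤ n ∧ (T.map natDegree).sum = 2 * c := by
      by_cases ht : ∃ t : ℕ, Odd t ∧ l = k * t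
      · obtain ⟨t, htodd, hlt⟩ := ht
        have hL : Nat.lcm k l = l := Nat.lcm_eq_right (Dvd.intro t hlt.symm)
        obtain ⟨T, x, hT, hx, hxi, hxd, hTm, hTn⟩ := block (F := F) hpos hrsF dvd_rfl
          (lt_of_lt_of_le hr3 (Nat.le_mul_of_pos_right r hs.pos)) (o := l) (η := ηl) (hlcm.trans hL).symm (by
            rcases hηl with ⟨-, h⟩ | ⟨hev, h⟩
            · exact Or.inl h
            · refine Or.inr ⟨⟨ηl, ?_⟩, h⟩
              have hkev : Even k := by
                rw [hlt, Nat.even_mul] at hev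
                exact hev.resolve_right (Nat.not_even_iff_odd.2 htodd)
              have h2k : 2 * ηk = k := by
                rcases hηk with ⟨ho, -⟩ | ⟨-, h'⟩
                · exact absurd hkev (Nat.not_even_iff_odd.2 ho)
                · exact h'
              have hhalf : ∀ (t' : ℕ) (o : ℕ) (η : ℕ), t'.Prime → t' ≠ 2 → (q : ZMod t') ≠ 0 →
                  o = orderOf (q : ZMod t') → 2 * η = o → (q : ZMod t') ^ η = -1 := by
                intro t' o η ht' ht2 hq0 ho hη'
                have := Fact.mk ht'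
                have hsq : (q : ZMod t') ^ η * (q : ZMod t') ^ η = 1 := by
                  rw [← pow_add, ← two_mul, hη', ho, pow_orderOf_eq_one]
                refine (mul_self_eq_one_iff.1 hsq).resolve_left fun he => ?_
                have hop : 0 < orderOf (q : ZMod t') := by
                  rw [← Units.val_mk0 hq0, orderOf_units]
                  exact orderOf_pos _
                have := Nat.le_of_dvd (by omega) (orderOf_dvd_of_pow_eq_one he)
                omega
              apply (ZMod.chineseRemainder hcrs).injective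
              rw [map_pow, map_natCast, map_neg, map_one]
              refine Prod.ext ?_ ?_
              · rw [Prod.pow_fst, Prod.fst_natCast, Prod.fst_neg, Prod.fst_one,
                  show ηl = ηk * t by
                    have : l = 2 * (ηk * t) := by rw [hlt, ← h2k, mul_assoc]
                    omega,
                  pow_mul, hhalf r k ηk hr hr2 (hunit r hr hrp) hk h2k, htodd.neg_one_pow]
              · rw [Prod.pow_snd, Prod.snd_natCast, Prod.snd_neg, Prod.snd_one,
                  hhalf s l ηl hs hs2 (hunit s hs hsp) hl h])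
        exact ⟨T, hT, ⟨x, hx, r * s, dvd_mul_right r s, dvd_rfl, hxi, hxd⟩,
          ⟨x, hx, r * s, dvd_mul_left s r, dvd_rfl, hxi, hxd⟩, hTm, ηl, hln, hTn⟩
      · have hle : ηk + ηl ≤ n := by
          by_contra h
          exact hcon ⟨by omega, ht⟩
        obtain ⟨T, x, hT, hx, hxi, hxd, hTm, hTn⟩ := block (F := F) hpos hrF (dvd_mul_right r s) hr3
          (o := k) (η := ηk) hk (by
            rcases hηk with ⟨-, h⟩ | ⟨hev, h⟩
            exacts [Or.inl h, Or.inr ⟨hnegr.2 hev, h⟩])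
        obtain ⟨U, y, hU, hy, hyi, hyd, hUm, hUn⟩ := block (F := F) hpos hsF (dvd_mul_left s r) hs3
          (o := l) (η := ηl) hl (by
            rcases hηl with ⟨-, h⟩ | ⟨hev, h⟩
            exacts [Or.inl h, Or.inr ⟨hnegs.2 hev, h⟩])
        refine ⟨T + U, hT.add hU, ⟨x, Multiset.mem_add.2 (Or.inl hx), r, dvd_rfl, dvd_mul_right r s, hxi, hxd⟩,
          ⟨y, Multiset.mem_add.2 (Or.inr hy), s, dvd_rfl, dvd_mul_left s r, hyi, hyd⟩,
          fun z hz => (Multiset.mem_add.1 hz).elim (hTm z) (hUm z), ηk + ηl, hle, ?_⟩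
        rw [Multiset.map_add, Multiset.sum_add, hTn, hUn, mul_add]
    obtain ⟨c, hcn, hTn⟩ := hTn
    obtain ⟨g, hgp, hgc⟩ := SympRealise.exists_symplectic (m := n)
      (hT.add (SympRealise.real_ones hpos hrsF (n - c))) (by
        rw [natDegree_multiset_prod_of_monic _ (fun y hy => by
            rcases Multiset.mem_add.1 hy with hy | hy
            · exact hTm y hy
            · rw [Multiset.eq_of_mem_replicate hy]; exact monic_X_sub_C 1),
          Multiset.map_add, Multiset.sum_add, hTn, Multiset.map_replicate, Multiset.sum_replicate,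
          natDegree_X_sub_C, smul_eq_mul, mul_one]
        omega)
    have hdvd := orderOf_dvd_of_pow_eq_one hgp
    have key : ∀ t, (∃ x ∈ T, ∃ d, t ∣ d ∧ d ∣ r * s ∧ Irreducible x ∧ x ∣ cyclotomic d F) →
        t ∣ orderOf g := by
      rintro t ⟨x, hx, d, htd, hd, hxi, hxd⟩
      refine htd.trans (SpectrumFactors.dvd_of_pow_eq_one (hdF hd) (hdF hdvd) hxi hxd ?_
        ((hψpow g _).1 (pow_orderOf_eq_one g)))
      rw [hψc, hgc]
      exact Multiset.dvd_prod (Multiset.mem_add.2 (Or.inl hx))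
    have hord : orderOf g = r * s :=
      Nat.dvd_antisymm hdvd (hcrs.mul_dvd_of_dvd_of_dvd (key r hTr) (key s hTs))
    refine ⟨(g : Cfsg.PSp n F), ?_⟩
    rw [SpectrumTools.orderOf_mk _ (by rw [hord]; exact hcen), hord]
  · rintro ⟨hnkl, hnt⟩ ⟨y, hy⟩
    obtain ⟨g, hg, -⟩ := SpectrumTools.exists_lift _ hy hcen
    have hgp : g ^ (r * s) = 1 := hg ▸ pow_orderOf_eq_one g
    have hne : ∀ e, 0 < e → e < r * s →
        ψ (g : Matrix (Fin n ⊕ Fin n) (Fin n ⊕ Fin n) F) ^ e ≠ 1 := fun e he he' h =>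
      absurd (Nat.le_of_dvd he (hg ▸ orderOf_dvd_of_pow_eq_one ((hψpow g e).2 h))) (by omega)
    obtain ⟨x, dx, hxm, hxi, hxA, hdx, hxd, hdx'⟩ := SpectrumFactors.exists_factor_of_pow_ne hrsF hsF
      ((hψpow g _).1 hgp) (hne s hs.pos (lt_mul_of_one_lt_left hs.pos hr.one_lt))
    obtain ⟨z, dz, hzm, hzi, hzA, hdz, hzd, hdz'⟩ := SpectrumFactors.exists_factor_of_pow_ne hrsF hrF
      ((hψpow g _).1 hgp) (hne r hr.pos (lt_mul_of_one_lt_right hr.pos hs.one_lt))
    rw [hψc] at hxA hzA
    have hrdx : r ∣ dx := by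
      by_contra h
      exact hdx' (((hr.coprime_iff_not_dvd.2 h).symm).dvd_of_dvd_mul_left hdx)
    have hsdz : s ∣ dz := by
      by_contra h
      exact hdz' (((hs.coprime_iff_not_dvd.2 h).symm).dvd_of_dvd_mul_right hdz)
    have hboth : ∀ (w : F[X]), w.Monic → Irreducible w →
        w ∣ (g : Matrix (Fin n ⊕ Fin n) (Fin n ⊕ Fin n) F).charpoly → w ∣ cyclotomic (r * s) F → False := by
      intro w hwm hwi hwA hwd
      obtain ⟨T, hT, -, hTsum⟩ := exists_orbit hrsF hgp hwm hwi hwA dvd_rfl hwd hlcm.symm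
      have hle := SpectrumFactors.sum_le _ hT
      rw [Fintype.card_sum, Fintype.card_fin] at hle
      obtain ⟨c, hc⟩ := Nat.dvd_lcm_right k l
      obtain ⟨c', hc'⟩ := Nat.dvd_lcm_left k l
      have hL0 : 0 < Nat.lcm k l := Nat.lcm_pos (by omega) (by omega)
      have hc0 : 0 < c := Nat.pos_of_ne_zero fun h => by rw [h, mul_zero] at hc; omega
      rcases hTsum with ⟨h, j, hj⟩ | h
      · have hjr : (q : ZMod r) ^ j = -1 := by
          have := congrArg (ZMod.castHom (dvd_mul_right r s) (ZMod r)) hj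
          simpa using this
        have hjs : (q : ZMod s) ^ j = -1 := by
          have := congrArg (ZMod.castHom (dvd_mul_left s r) (ZMod s)) hj
          simpa using this
        have hkev := hnegr.1 ⟨j, hjr⟩
        have hlev := hnegs.1 ⟨j, hjs⟩
        have h2l : 2 * ηl = l := by
          rcases hηl with ⟨ho, -⟩ | ⟨-, h'⟩
          · exact absurd hlev (Nat.not_even_iff_odd.2 ho)
          · exact h'
        have h2k : 2 * ηk = k := by
          rcases hηk with ⟨ho, -⟩ | ⟨-, h'⟩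
          · exact absurd hkev (Nat.not_even_iff_odd.2 ho)
          · exact h'
        have hc1 : c = 1 := by
          by_contra hne1
          have := Nat.mul_le_mul_left l (show 2 ≤ c by omega)
          omega
        rw [hc1, mul_one] at hc
        rw [hc] at hc'
        refine hnt ⟨c', ?_, hc'⟩
        rw [← Nat.not_even_iff_odd]
        rintro ⟨c'', hc''⟩
        have hdvdj : l ∣ j * 2 := by
          rw [hl]
          apply orderOf_dvd_of_pow_eq_one
          rw [pow_mul, hjs, neg_one_sq]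
        have hkj : k ∣ j := by
          have h1 : k ∣ ηl := ⟨c'', by
            have : 2 * ηl = 2 * (k * c'') := by rw [h2l, hc', hc'']; ring
            omega⟩
          refine h1.trans ?_
          rw [← h2l, mul_comm j 2] at hdvdj
          exact Nat.dvd_of_mul_dvd_mul_left two_pos hdvdj
        rw [hk] at hkj
        have h1 := orderOf_dvd_iff_pow_eq_one.1 hkj
        rw [hjr] at h1
        have : Fact (2 < r) := ⟨hr3⟩
        exact ZMod.neg_one_ne_one h1
      · rcases hηl with ⟨hlodd, h'⟩ | ⟨-, h'⟩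
        · have hc1 : c = 1 := by
            by_contra hne1
            have := Nat.mul_le_mul_left l (show 2 ≤ c by omega)
            omega
          rw [hc1, mul_one] at hc
          rw [hc] at hc'
          exact hnt ⟨c', (Nat.odd_mul.1 (hc' ▸ hlodd)).2, hc'⟩
        · have := Nat.mul_le_mul_left l (show 1 ≤ c by omega)
          omega
    have hdd : ∀ {t u d : ℕ}, t.Prime → u.Prime → t ∣ d → d ∣ t * u → d ≠ t * u → d = t := by
      intro t u d ht hu htd hd hne'
      obtain ⟨c, rfl⟩ := htd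
      rcases (Nat.dvd_prime hu).1 (Nat.dvd_of_mul_dvd_mul_left ht.pos hd) with rfl | rfl
      · exact mul_one t
      · exact absurd rfl hne'
    by_cases hx : dx = r * s
    · subst hx; exact hboth x hxm hxi hxA hxd
    by_cases hz : dz = r * s
    · subst hz; exact hboth z hzm hzi hzA hzd
    have hdxr := hdd hr hs hrdx hdx hx
    have hdzs := hdd hs hr hsdz (by rw [mul_comm]; exact hdz) (by rw [mul_comm]; exact hz)
    subst hdxr; subst hdzs
    obtain ⟨T, hT, hTd, hTsum⟩ := exists_orbit hrsF hgp hxm hxi hxA (dvd_mul_right _ _) hxd hk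
    obtain ⟨U, hU, hUd, hUsum⟩ := exists_orbit hrsF hgp hzm hzi hzA (dvd_mul_left _ _) hzd hl
    have hdisj : Disjoint T U := Finset.disjoint_left.2 fun w hwT hwU => hrs
      ((Nat.prime_dvd_prime_iff_eq hr hs).1 (SpectrumTools.dvd_of_dvd_pow_sub_one hrF (hT w hwT).2.1
        (hTd w hwT) (SpectrumTools.dvd_X_pow_sub_one dvd_rfl hs.pos (hUd w hwU))))
    have hle := SpectrumFactors.sum_le (T ∪ U) fun w hw => (Finset.mem_union.1 hw).elim (hT w) (hU w)
    rw [Finset.sum_union hdisj, Fintype.card_sum, Fintype.card_fin] at hle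
    have hT' : 2 * ηk ≤ ∑ w ∈ T, w.natDegree := by
      rcases hTsum with ⟨h, hj⟩ | h
      · rcases hηk with ⟨ho, -⟩ | ⟨-, h'⟩
        · exact absurd (hnegr.1 hj) (Nat.not_even_iff_odd.2 ho)
        · omega
      · rcases hηk with ⟨-, h'⟩ | ⟨-, h'⟩ <;> omega
    have hU' : 2 * ηl ≤ ∑ w ∈ U, w.natDegree := by
      rcases hUsum with ⟨h, hj⟩ | h
      · rcases hηl with ⟨ho, -⟩ | ⟨-, h'⟩
        · exact absurd (hnegs.1 hj) (Nat.not_even_iff_odd.2 ho)
        · omega
      · rcases hηl with ⟨-, h'⟩ | ⟨-, h'⟩ <;> omega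
    omega

end Cfsg.Agent.S2469
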