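import Cfsg.Statements.S2362
import Cfsg.Agent.Lib.Classical.OddOrthSpectrumOmega
import Cfsg.Agent.Lib.Classical.OrthOrders
import Cfsg.Agent.Lib.CharP.Zsigmondy
import Cfsg.Agent.S2469
-- import your own Cfsg.Agent.* helpers here

set_option autoImplicit false
open Cfsg

namespace Cfsg.Agent.S2362

open Cfsg.Agent.Classical Polynomial
open scoped Matrix

/-- Let F be a finite field of odd order and n ≥ 3. The simple orthogonal group PΩ(2n+1, F) (type B_n) and the projective symplectic group PSp(2n, F) (type C_n), which have the same order, do not have the same set of element orders. -/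
theorem result {F : Type*} [Field F] [Fintype F] (hodd : Odd (Fintype.card F)) (n : ℕ) (hn : 3 ≤ n) :
    Set.range (orderOf : Cfsg.POmega F (Cfsg.quadFormOdd n F) → ℕ) ≠ Set.range (orderOf : Cfsg.PSp n F → ℕ) := by
  classical
  intro heq
  obtain ⟨k, rfl⟩ : ∃ k, n = k + 1 := ⟨n - 1, by omega⟩
  have hk : 2 ≤ k := by omega
  set q := Fintype.card F with hq
  have h2 : (2 : F) ≠ 0 := OrthForms.two_ne_zero_of_odd hodd
  let p := ringChar F
  obtain ⟨c, hp, hpf⟩ := FiniteField.card F p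
  have := Fact.mk hp
  have hq1 : 1 < q := Fintype.one_lt_card
  have hp2 : p ≠ 2 := fun e => h2 (by
    have := CharP.cast_eq_zero F p
    rwa [e] at this)
  obtain ⟨e, he1, hcase⟩ : ∃ e, 3 ≤ e ∧ ((e = 2 * k ∧ IsSquare ((-1 : F) ^ k)) ∨
      (e = k ∧ Odd k ∧ ¬ IsSquare ((-1 : F) ^ k))) := by
    by_cases hsq : IsSquare ((-1 : F) ^ k)
    · exact ⟨2 * k, by omega, Or.inl ⟨rfl, hsq⟩⟩
    · have hkodd : Odd k := Nat.not_even_iff_odd.1 fun hev => hsq (by rw [hev.neg_one_pow]; exact IsSquare.one)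
      obtain ⟨j, hj⟩ := hkodd
      exact ⟨k, by omega, Or.inr ⟨rfl, ⟨j, hj⟩, hsq⟩⟩
  obtain ⟨r, hr, hrd, hrmin⟩ := Cfsg.Agent.CharP.Zsigmondy.zsigmondy hq1 (show 1 < e by omega)
    (fun h => by obtain ⟨h, -⟩ := h; rw [h] at hodd; exact absurd hodd (by decide)) (fun h => by omega)
  have hrp : r ≠ p := by
    rintro rfl
    have h1 : p ∣ q ^ e := dvd_pow ((hq.trans hpf) ▸ dvd_pow_self _ c.ne_zero) (by omega)
    have hpos : 1 ≤ q ^ e := Nat.one_le_pow _ _ (by omega)
    have h3 := Nat.dvd_sub h1 hrd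
    rw [show q ^ e - (q ^ e - 1) = 1 by omega] at h3
    exact hr.ne_one (Nat.dvd_one.1 h3)
  have hr2 : r ≠ 2 := by
    rintro rfl
    refine hrmin 1 one_pos (by omega) ?_
    rw [pow_one]
    obtain ⟨j, hj⟩ := hodd
    exact ⟨j, by omega⟩
  have hrF : (r : F) ≠ 0 := fun e => hrp
    ((Nat.prime_dvd_prime_iff_eq hp hr).1 ((CharP.cast_eq_zero_iff F p r).1 e)).symm
  have := Fact.mk hr
  have hcast : ∀ i, r ∣ q ^ i - 1 ↔ (q : ZMod r) ^ i = 1 := fun i => by
    rw [← ZMod.natCast_eq_zero_iff, Nat.cast_sub (Nat.one_le_pow _ _ (by omega)), Nat.cast_one,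
      Nat.cast_pow, sub_eq_zero]
  have he : e = orderOf (q : ZMod r) := by
    symm
    rw [orderOf_eq_iff (by omega)]
    exact ⟨(hcast e).1 hrd, fun i hi hi0 h => hrmin i hi0 hi ((hcast i).2 h)⟩
  -- the element of `PSp`
  obtain ⟨T, x, hTR, hxT, hxi, hxd, hTm, hTn⟩ := S2469.block (F := F) (m := r) (d := r) (o := e) (η := k)
    hr.pos hrF dvd_rfl (lt_of_le_of_ne hr.two_le (Ne.symm hr2)) he (by
      rcases hcase with ⟨hek, -⟩ | ⟨hek, -, -⟩
      · refine Or.inr ⟨(S2472.neg_one_iff hr hr2 ?_).2 ?_, hek.symm⟩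
        · intro h0
          have h := pow_orderOf_eq_one (q : ZMod r)
          rw [← he, h0, zero_pow (by omega)] at h
          exact zero_ne_one h
        · rw [← he, hek]; exact even_two_mul k
      · exact Or.inl hek.symm)
  obtain ⟨N, A, G, hG, halt, hA, hAr, hAc⟩ := hTR
  have hN : N = 2 * k := by
    have h := congrArg natDegree hAc
    rw [Matrix.charpoly_natDegree_eq_dim, Fintype.card_fin, natDegree_multiset_prod_of_monic _ hTm,
      hTn] at h
    exact h
  let J₂ : Matrix (Fin 2) (Fin 2) F := !![0, 1; -1, 0]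
  let T₂ := Matrix.transvection (0 : Fin 2) 1 (1 : F)
  obtain ⟨φ, hφ, -⟩ := SympRealise.exists_transport (m := k + 1) (Matrix.fromBlocks G 0 0 J₂)
    (by
      rw [Matrix.det_fromBlocks_zero₁₂, Matrix.det_fin_two]
      simpa [J₂] using hG)
    (fun v => by
      rw [SympRealise.toBilin_blocks, halt, zero_add, Matrix.toBilin'_apply]
      simp [J₂, Fin.sum_univ_two]
      ring)
    (by rw [Fintype.card_sum, Fintype.card_fin, Fintype.card_fin]; omega)
  let s : Matrix.symplecticGroup (Fin (k + 1)) F := ⟨φ (Matrix.fromBlocks A 0 0 1), hφ _ (by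
    simp [Matrix.fromBlocks_transpose, Matrix.fromBlocks_multiply, hA])⟩
  let t : Matrix.symplecticGroup (Fin (k + 1)) F := ⟨φ (Matrix.fromBlocks 1 0 0 T₂), hφ _ (by
    simp only [Matrix.fromBlocks_transpose, Matrix.fromBlocks_multiply]
    simp [T₂, J₂, S2472.transvection_isometry])⟩
  let b : Matrix.symplecticGroup (Fin (k + 1)) F :=
    ⟨φ (Matrix.fromBlocks (-1 : Matrix (Fin N) (Fin N) F) 0 0 (1 : Matrix (Fin 2) (Fin 2) F)), hφ _ (by
      simp [Matrix.fromBlocks_transpose, Matrix.fromBlocks_multiply])⟩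
  have hst : Commute s t := Subtype.ext ((show Commute (Matrix.fromBlocks A 0 0 (1 : Matrix (Fin 2) (Fin 2) F))
    (Matrix.fromBlocks 1 0 0 T₂) by
      rw [commute_iff_eq, Matrix.fromBlocks_multiply, Matrix.fromBlocks_multiply]; simp).map φ).eq
  have hsb : Commute s b := Subtype.ext ((show Commute (Matrix.fromBlocks A 0 0 (1 : Matrix (Fin 2) (Fin 2) F))
    (Matrix.fromBlocks (-1) 0 0 1) by
      rw [commute_iff_eq, Matrix.fromBlocks_multiply, Matrix.fromBlocks_multiply]; simp).map φ).eq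
  have htb : Commute t b := Subtype.ext ((show Commute (Matrix.fromBlocks (1 : Matrix (Fin N) (Fin N) F) 0 0 T₂)
    (Matrix.fromBlocks (-1) 0 0 1) by
      rw [commute_iff_eq, Matrix.fromBlocks_multiply, Matrix.fromBlocks_multiply]; simp).map φ).eq
  have hsc : ∀ (X : Matrix (Fin N ⊕ Fin 2) (Fin N ⊕ Fin 2) F) (a : F), φ X = a • 1 → X = a • 1 :=
    fun X a h => φ.injective (by rw [h, map_smul, map_one])
  let ms := ((s * t : Matrix.symplecticGroup (Fin (k + 1)) F) : Cfsg.PSp (k + 1) F)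
  let mb := (b : Cfsg.PSp (k + 1) F)
  have hord1 : orderOf ms = r * p := by
    refine SpectrumTools.orderOf_mk_mul _ hst hr hp hrp ?_ ?_ ?_ ?_
    · have : ∀ j : ℕ, Matrix.fromBlocks A 0 0 (1 : Matrix (Fin 2) (Fin 2) F) ^ j =
          Matrix.fromBlocks (A ^ j) 0 0 1 := fun j => by
        induction j with
        | zero => simp [Matrix.fromBlocks_one]
        | succ j ih => rw [pow_succ, ih, Matrix.fromBlocks_multiply]; simp [pow_succ]
      refine (SpectrumSymp.mem_center_iff _).2 ⟨1, ?_⟩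
      show φ (Matrix.fromBlocks A 0 0 1) ^ r = _
      rw [← map_pow, this, hAr, Matrix.fromBlocks_one, map_one, one_smul]
    · intro h
      obtain ⟨a, ha⟩ := (SpectrumSymp.mem_center_iff _).1 h
      have hb' := hsc _ a ha
      have h22 := congrFun (congrFun hb' (Sum.inr 0)) (Sum.inr 0)
      simp at h22
      have hA1 : A = 1 := by
        ext i j
        have := congrFun (congrFun hb' (Sum.inl i)) (Sum.inl j)
        simpa [← h22, Matrix.one_apply] using this
      have := SpectrumFactors.dvd_of_pow_eq_one hrF (e := 1) (by rw [Nat.cast_one]; exact one_ne_zero) hxi hxd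
        (show x ∣ A.charpoly by rw [hAc]; exact Multiset.dvd_prod hxT) (by rw [pow_one, hA1])
      exact hr.one_lt.ne' (Nat.dvd_one.1 this)
    · have : ∀ j : ℕ, Matrix.fromBlocks (1 : Matrix (Fin N) (Fin N) F) 0 0 T₂ ^ j =
          Matrix.fromBlocks 1 0 0 (T₂ ^ j) := fun j => by
        induction j with
        | zero => simp [Matrix.fromBlocks_one]
        | succ j ih => rw [pow_succ, ih, Matrix.fromBlocks_multiply]; simp [pow_succ]
      refine (SpectrumSymp.mem_center_iff _).2 ⟨1, ?_⟩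
      show φ (Matrix.fromBlocks 1 0 0 T₂) ^ p = _
      rw [← map_pow, this, S2472.transvection_pow zero_ne_one, CharP.cast_eq_zero, Matrix.transvection_zero,
        Matrix.fromBlocks_one, map_one, one_smul]
    · intro h
      obtain ⟨a, ha⟩ := (SpectrumSymp.mem_center_iff _).1 h
      have := congrFun (congrFun (hsc _ a ha) (Sum.inr 0)) (Sum.inr 1)
      simp [T₂, Matrix.transvection] at this
  have hord2 : orderOf mb = 2 := by
    refine orderOf_eq_prime ?_ ?_
    · show ((b ^ 2 : Matrix.symplecticGroup (Fin (k + 1)) F) : Cfsg.PSp (k + 1) F) = 1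
      rw [QuotientGroup.eq_one_iff]
      refine (SpectrumSymp.mem_center_iff _).2 ⟨1, ?_⟩
      show φ (Matrix.fromBlocks (-1) 0 0 1) ^ 2 = _
      rw [← map_pow, pow_two, Matrix.fromBlocks_multiply, one_smul]
      simp [Matrix.fromBlocks_one]
    · intro h
      obtain ⟨a, ha⟩ := (SpectrumSymp.mem_center_iff _).1 ((QuotientGroup.eq_one_iff _).1 h)
      have hb' := hsc _ a ha
      have h22 := congrFun (congrFun hb' (Sum.inr 0)) (Sum.inr 0)
      have h11 := congrFun (congrFun hb' (Sum.inl ⟨0, by omega⟩)) (Sum.inl ⟨0, by omega⟩)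
      simp at h22 h11
      exact h2 (by linear_combination (-1 : F) * (h11.trans h22.symm))
  have hcomm : Commute ms mb := (Commute.mul_left hsb htb).map (QuotientGroup.mk' _)
  have hy : orderOf (ms * mb) = r * p * 2 := by
    rw [hcomm.orderOf_mul_eq_mul_orderOf_of_coprime, hord1, hord2]
    rw [hord1, hord2]
    exact Nat.Coprime.mul_left ((Nat.coprime_primes hr Nat.prime_two).2 hr2)
      ((Nat.coprime_primes hp Nat.prime_two).2 hp2)
  -- no such element in `PΩ`
  have hmem : r * p * 2 ∈ Set.range (orderOf : Cfsg.POmega F (Cfsg.quadFormOdd (k + 1) F) → ℕ) :=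
    heq ▸ ⟨_, hy⟩
  rw [← OrthForms.oddQ_eq] at hmem
  obtain ⟨w, hw⟩ := hmem
  have hQ := OrthForms.oddQ_nondeg h2 (k + 1)
  have hn' : 5 ≤ Fintype.card (Unit ⊕ (Fin (k + 1) ⊕ Fin (k + 1))) := by simp; omega
  have hZ : Nat.card (Subgroup.center (Cfsg.Omega F ⇑(OrthForms.oddQ F (k + 1)))) = 1 := by
    refine Orth.natCard_center_one hQ (OrthForms.oddFrame F (by omega)) hn' (Or.inr ?_)
    rintro ⟨g, hg, hgm⟩
    have hd := OmegaCrit.det_eq_par hQ (Or.inr (by omega)) g
    have h1 := congrArg Prod.fst ((OmegaCrit.mem_omega_iff hQ (Or.inr (by omega)) g).1 hg)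
    change Cfsg.Agent.Forms.Reflections.par g = 1 at h1
    rw [hgm, h1, Matrix.det_neg, Matrix.det_one, mul_one, Fintype.card_sum, Fintype.card_sum,
      Fintype.card_fin, Fintype.card_unit, pow_add, ← two_mul, pow_mul, neg_one_sq, one_pow, mul_one,
      pow_one] at hd
    simp at hd
    exact h2 (by linear_combination -hd)
  obtain ⟨g, hg, -⟩ := SpectrumTools.exists_lift _ hw (by rw [hZ]; exact Nat.coprime_one_right _)
  have hord : orderOf (g : Cfsg.isometryGroup F ⇑(OrthForms.oddQ F (k + 1))) = r * p * 2 :=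
    (Subgroup.orderOf_coe g).trans hg
  have hpow : ∀ j a : ℕ, j * a = r * p * 2 → a.Prime →
      (g.1 ^ j) ^ a = 1 ∧ g.1 ^ j ≠ 1 := fun j a hja ha => by
    refine ⟨by rw [← pow_mul, hja, ← hord, pow_orderOf_eq_one], fun h => ?_⟩
    have h' := orderOf_dvd_of_pow_eq_one h
    rw [hord] at h'
    rcases Nat.eq_zero_or_pos j with rfl | hj
    · rw [zero_mul] at hja
      exact (Nat.mul_ne_zero (Nat.mul_ne_zero hr.ne_zero hp.ne_zero) two_ne_zero) hja.symm
    · have hle := Nat.le_of_dvd hj h'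
      have := ha.two_le
      rw [← hja] at hle
      nlinarith
  obtain ⟨h01, h02⟩ := hpow (p * 2) r (by ring) hr
  obtain ⟨h11, h12⟩ := hpow (r * 2) p (by ring) hp
  obtain ⟨hz1, hz2⟩ := hpow (r * p) 2 rfl Nat.prime_two
  exact OddOrthSpectrum.no_triple (p := p) h2 hQ (k := k) (e := e) (by simp; omega) hr hr2 hrF hk he hcase
    (pow_mem g.2 _) h01 h02 h11 h12 hz1 hz2 ((Commute.refl g.1).pow_pow _ _)
    ((Commute.refl g.1).pow_pow _ _) ((Commute.refl g.1).pow_pow _ _)

end Cfsg.Agent.S2362
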