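import Cfsg.Statements.S2367


set_option autoImplicit false
open Cfsg

namespace Cfsg.Agent.S2367

/-- The primes dividing some sporadic order. -/
def primeList : List ℕ := [2, 3, 5, 7, 11, 13, 17, 19, 23, 29, 31, 37, 41, 43, 47, 59, 67, 71]

theorem primeList_prime : ∀ r ∈ primeList, r.Prime := by
  intro r hr
  simp only [primeList, List.mem_cons, List.not_mem_nil, or_false] at hr
  rcases hr with rfl | rfl | rfl | rfl | rfl | rfl | rfl | rfl | rfl | rfl | rfl | rfl | rfl | rfl | rfl | rfl | rfl | rfl <;> norm_num

/-- Let G be an alternating group of degree at least 5 or a simple group with the order of one of the 26 sporadic groups, and let p be an odd prime such that p³ is the exact power of p dividing the order of G. Then p³ is less than the 2-part of the order of G. -/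
theorem result {G : Type*} [Group G] [Finite G] (hG : Cfsg.IsAlternating G ∨ Cfsg.IsSporadic G)
    (p : ℕ) (hp : p.Prime) (hodd : p ≠ 2) (h3 : (Nat.card G).factorization p = 3) :
    p ^ 3 < 2 ^ (Nat.card G).factorization 2 := by
  have : Fact p.Prime := ⟨hp⟩
  rcases hG with ⟨n, hn, ⟨e⟩⟩ | hG
  · have hcard : Nat.card G * 2 = n.factorial := by
      have : Nontrivial (Fin n) := Fin.nontrivial_iff_two_le.2 (by omega)
      rw [Nat.card_congr e.toEquiv, mul_comm, two_mul_nat_card_alternatingGroup, Nat.card_perm,
        Nat.card_eq_fintype_card, Fintype.card_fin]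
    have hne : Nat.card G ≠ 0 := by
      intro h
      rw [h, zero_mul] at hcard
      exact n.factorial_ne_zero hcard.symm
    have hfac : ∀ r : ℕ, (n.factorial).factorization r = (Nat.card G).factorization r + (2 : ℕ).factorization r := by
      intro r
      rw [← hcard, Nat.factorization_mul hne two_ne_zero]
      rfl
    have hvp : padicValNat p n.factorial = 3 := by
      rw [← Nat.factorization_def _ hp, hfac, h3, Nat.Prime.factorization Nat.prime_two,
        Finsupp.single_eq_of_ne hodd, add_zero]
    have hv2 : padicValNat 2 n.factorial = (Nat.card G).factorization 2 + 1 := by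
      rw [← Nat.factorization_def _ Nat.prime_two, hfac, Nat.Prime.factorization Nat.prime_two,
        Finsupp.single_eq_same]
    have h3p : 3 * p ≤ n := by
      by_contra hlt
      have hp3 : 3 ≤ p := by have := hp.two_le; omega
      have hlog : Nat.log p n < 2 := Nat.log_lt_of_lt_pow (by omega) (by nlinarith)
      rw [padicValNat_factorial hlog, show Finset.Ico 1 2 = {1} from rfl, Finset.sum_singleton,
        pow_one] at hvp
      have : n / p < 3 := Nat.div_lt_of_lt_mul (by linarith [Nat.lt_of_not_le hlt])
      omega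
    have hlow : n / 2 + n / 4 ≤ padicValNat 2 n.factorial := by
      have step : ∀ k : ℕ, padicValNat 2 k.factorial = padicValNat 2 (k / 2).factorial + k / 2 := by
        intro k
        have hk : k = 2 * (k / 2) + k % 2 := (Nat.div_add_mod k 2).symm
        conv_lhs => rw [hk, padicValNat_factorial_mul_add _ (Nat.mod_lt k two_pos), padicValNat_factorial_mul]
      have h1 := step n
      have h2 := step (n / 2)
      rw [Nat.div_div_eq_div_mul] at h2
      norm_num at h2
      omega
    have hbig : 2 * p ≤ n / 2 + n / 4 := by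
      have := hp.two_le
      omega
    have hexp : ∀ k : ℕ, 3 ≤ k → k ^ 3 < 2 ^ (2 * k - 1) := by
      intro k hk
      induction k, hk using Nat.le_induction with
      | base => norm_num
      | succ k hk ih =>
        calc (k + 1) ^ 3 ≤ 4 * k ^ 3 := by nlinarith [Nat.mul_le_mul hk hk]
          _ < 4 * 2 ^ (2 * k - 1) := by omega
          _ = 2 ^ (2 * (k + 1) - 1) := by
            rw [show 2 * (k + 1) - 1 = (2 * k - 1) + 2 by omega, pow_add]; ring
    refine (hexp p (by have := hp.two_le; omega)).trans_le (Nat.pow_le_pow_right two_pos ?_)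
    omega
  · have key : ∀ N a : ℕ, N ≠ 0 → 2 ^ a ∣ N → N ∣ (List.prod primeList) ^ 60 →
        (primeList.all fun r => r == 2 || N % r ^ 3 != 0 || N % r ^ 4 == 0 || decide (r ^ 3 < 2 ^ a)) = true →
        Nat.card G = N → p ^ 3 < 2 ^ (Nat.card G).factorization 2 := by
      intro N a hN ha hdvd hchk hc
      rw [hc] at h3 ⊢
      have hp3 : p ^ 3 ∣ N := h3 ▸ Nat.ordProj_dvd N p
      have hmem : p ∈ primeList := by
        have h1 : p ∣ List.prod primeList := hp.dvd_of_dvd_pow (((dvd_pow_self p three_ne_zero).trans hp3).trans hdvd)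
        obtain ⟨r, hr, hpr⟩ := (Nat.prime_iff.1 hp).dvd_prod_iff.1 h1
        have hrp : r.Prime := primeList_prime r hr
        rwa [(Nat.prime_dvd_prime_iff_eq hp hrp).1 hpr]
      have h := List.all_eq_true.1 hchk p hmem
      simp only [Bool.or_eq_true, beq_iff_eq, bne_iff_ne, decide_eq_true_eq] at h
      rcases h with ((h | h) | h) | h
      · exact absurd h hodd
      · exact absurd (Nat.mod_eq_zero_of_dvd hp3) h
      · exact absurd ((hp.pow_dvd_iff_le_factorization hN).1 (Nat.dvd_of_mod_eq_zero h)) (by omega)
      · exact h.trans_le (Nat.pow_le_pow_right two_pos ((Nat.prime_two.pow_dvd_iff_le_factorization hN).1 ha))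
    rcases hG with h | h | h | h | h | h | h | h | h | h | h | h | h | h | h | h | h | h | h | h | h | h | h | h | h | h
    · exact key _ 4 (by norm_num) (Nat.dvd_of_mod_eq_zero (by decide +kernel)) (Nat.dvd_of_mod_eq_zero (by decide +kernel)) (by decide +kernel) h.2
    · exact key _ 6 (by norm_num) (Nat.dvd_of_mod_eq_zero (by decide +kernel)) (Nat.dvd_of_mod_eq_zero (by decide +kernel)) (by decide +kernel) h.2
    · exact key _ 7 (by norm_num) (Nat.dvd_of_mod_eq_zero (by decide +kernel)) (Nat.dvd_of_mod_eq_zero (by decide +kernel)) (by decide +kernel) h.2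
    · exact key _ 7 (by norm_num) (Nat.dvd_of_mod_eq_zero (by decide +kernel)) (Nat.dvd_of_mod_eq_zero (by decide +kernel)) (by decide +kernel) h.2
    · exact key _ 10 (by norm_num) (Nat.dvd_of_mod_eq_zero (by decide +kernel)) (Nat.dvd_of_mod_eq_zero (by decide +kernel)) (by decide +kernel) h.2
    · exact key _ 3 (by norm_num) (Nat.dvd_of_mod_eq_zero (by decide +kernel)) (Nat.dvd_of_mod_eq_zero (by decide +kernel)) (by decide +kernel) h.2
    · exact key _ 7 (by norm_num) (Nat.dvd_of_mod_eq_zero (by decide +kernel)) (Nat.dvd_of_mod_eq_zero (by decide +kernel)) (by decide +kernel) h.2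
    · exact key _ 7 (by norm_num) (Nat.dvd_of_mod_eq_zero (by decide +kernel)) (Nat.dvd_of_mod_eq_zero (by decide +kernel)) (by decide +kernel) h.2
    · exact key _ 21 (by norm_num) (Nat.dvd_of_mod_eq_zero (by decide +kernel)) (Nat.dvd_of_mod_eq_zero (by decide +kernel)) (by decide +kernel) h.2
    · exact key _ 21 (by norm_num) (Nat.dvd_of_mod_eq_zero (by decide +kernel)) (Nat.dvd_of_mod_eq_zero (by decide +kernel)) (by decide +kernel) h.2
    · exact key _ 18 (by norm_num) (Nat.dvd_of_mod_eq_zero (by decide +kernel)) (Nat.dvd_of_mod_eq_zero (by decide +kernel)) (by decide +kernel) h.2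
    · exact key _ 10 (by norm_num) (Nat.dvd_of_mod_eq_zero (by decide +kernel)) (Nat.dvd_of_mod_eq_zero (by decide +kernel)) (by decide +kernel) h.2
    · exact key _ 17 (by norm_num) (Nat.dvd_of_mod_eq_zero (by decide +kernel)) (Nat.dvd_of_mod_eq_zero (by decide +kernel)) (by decide +kernel) h.2
    · exact key _ 18 (by norm_num) (Nat.dvd_of_mod_eq_zero (by decide +kernel)) (Nat.dvd_of_mod_eq_zero (by decide +kernel)) (by decide +kernel) h.2
    · exact key _ 21 (by norm_num) (Nat.dvd_of_mod_eq_zero (by decide +kernel)) (Nat.dvd_of_mod_eq_zero (by decide +kernel)) (by decide +kernel) h.2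
    · exact key _ 9 (by norm_num) (Nat.dvd_of_mod_eq_zero (by decide +kernel)) (Nat.dvd_of_mod_eq_zero (by decide +kernel)) (by decide +kernel) h.2
    · exact key _ 7 (by norm_num) (Nat.dvd_of_mod_eq_zero (by decide +kernel)) (Nat.dvd_of_mod_eq_zero (by decide +kernel)) (by decide +kernel) h.2
    · exact key _ 10 (by norm_num) (Nat.dvd_of_mod_eq_zero (by decide +kernel)) (Nat.dvd_of_mod_eq_zero (by decide +kernel)) (by decide +kernel) h.2
    · exact key _ 14 (by norm_num) (Nat.dvd_of_mod_eq_zero (by decide +kernel)) (Nat.dvd_of_mod_eq_zero (by decide +kernel)) (by decide +kernel) h.2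
    · exact key _ 13 (by norm_num) (Nat.dvd_of_mod_eq_zero (by decide +kernel)) (Nat.dvd_of_mod_eq_zero (by decide +kernel)) (by decide +kernel) h.2
    · exact key _ 9 (by norm_num) (Nat.dvd_of_mod_eq_zero (by decide +kernel)) (Nat.dvd_of_mod_eq_zero (by decide +kernel)) (by decide +kernel) h.2
    · exact key _ 14 (by norm_num) (Nat.dvd_of_mod_eq_zero (by decide +kernel)) (Nat.dvd_of_mod_eq_zero (by decide +kernel)) (by decide +kernel) h.2
    · exact key _ 8 (by norm_num) (Nat.dvd_of_mod_eq_zero (by decide +kernel)) (Nat.dvd_of_mod_eq_zero (by decide +kernel)) (by decide +kernel) h.2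
    · exact key _ 15 (by norm_num) (Nat.dvd_of_mod_eq_zero (by decide +kernel)) (Nat.dvd_of_mod_eq_zero (by decide +kernel)) (by decide +kernel) h.2
    · exact key _ 41 (by norm_num) (Nat.dvd_of_mod_eq_zero (by decide +kernel)) (Nat.dvd_of_mod_eq_zero (by decide +kernel)) (by decide +kernel) h.2
    · exact key _ 46 (by norm_num) (Nat.dvd_of_mod_eq_zero (by decide +kernel)) (Nat.dvd_of_mod_eq_zero (by decide +kernel)) (by decide +kernel) h.2

end Cfsg.Agent.S2367
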