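import Cfsg.Statements.S2368
import Cfsg.Agent.SimpleFacts.Unipotent

set_option autoImplicit false
open Cfsg

namespace Cfsg.Agent.S2368

/-- Let F be a finite field of characteristic p and m ≥ 1. Every element of GL(m, F) of p-power order has order less than p·m, and GL(m, F) has an element of p-power order at least m; so the largest order of a p-element of GL(m, F) is the least power of p that is at least m. -/
theorem result {F : Type*} [Field F] [Fintype F] (p : ℕ) [Fact p.Prime] [CharP F p] (m : ℕ) (hm : 1 ≤ m) :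
    (∀ g : Matrix.GeneralLinearGroup (Fin m) F, (∃ j : ℕ, orderOf g = p ^ j) → orderOf g < p * m) ∧
      ∃ g : Matrix.GeneralLinearGroup (Fin m) F, (∃ j : ℕ, orderOf g = p ^ j) ∧ m ≤ orderOf g := by
  have hp : 1 < p := (Fact.out : p.Prime).one_lt
  constructor
  · rintro g ⟨j, hj⟩
    have hnil : IsNilpotent ((g : Matrix (Fin m) (Fin m) F) - 1) := by
      refine SimpleFacts.Unipotent.isNilpotent_of_pow_eq_one p _ (j := j) ?_
      rw [← Units.val_pow_eq_pow_val, ← hj, pow_orderOf_eq_one]
      simp
    refine (SimpleFacts.Unipotent.orderOf_le p g hnil).trans_lt ?_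
    rcases eq_or_lt_of_le hm with rfl | hm1
    · simpa using hp
    · obtain ⟨c, hc⟩ := Nat.exists_eq_succ_of_ne_zero (Nat.clog_pos hp hm1).ne'
      have h1 := Nat.pow_pred_clog_lt_self hp hm1
      rw [hc] at h1 ⊢
      rw [Nat.pred_succ] at h1
      calc p ^ (c + 1) = p * p ^ c := by rw [pow_succ']
        _ < p * m := Nat.mul_lt_mul_of_pos_left h1 (by omega)
  · obtain ⟨u, hu, hreg⟩ := SimpleFacts.Unipotent.exists_regular (F := F) m hm
    have h := SimpleFacts.Unipotent.orderOf_eq p u hu hreg
    exact ⟨u, ⟨_, h⟩, h ▸ Nat.le_pow_clog hp m⟩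

end Cfsg.Agent.S2368
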