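import Cfsg.Statements.S2369
import Cfsg.Agent.SimpleFacts.BorelTits.TwistedF4

set_option autoImplicit false
open Cfsg Cfsg.Lie

namespace Cfsg.Agent.S2369

/-- Let q = 2^(2m+1) with m ≥ 1 and let a, b be commuting elements of the large Ree group ²F₄(q) with a an involution. Then every prime divisor of the order of b divides q(q⁴ − 1). -/
theorem result {K : Type*} [Field K] [Fintype K] (m : ℕ) (hm : 1 ≤ m) (hK : Fintype.card K = 2 ^ (2 * m + 1))
    (a b : ↥(Cfsg.Lie.twistedF4 K (2 ^ m))) (ha : orderOf a = 2) (hab : Commute a b) :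
    (orderOf b).primeFactors ⊆ (2 ^ (2 * m + 1) * ((2 ^ (2 * m + 1)) ^ 4 - 1)).primeFactors := by
  classical
  have : CharP K 2 := Cfsg.Agent.Chevalley.Twist.F4.charTwo hK
  have : Fact (Nat.Prime 2) := ⟨Nat.prime_two⟩
  obtain ⟨X⟩ := Cfsg.Agent.Chevalley.Twist.F4.exists_setup (K := K) (m := m) hK
  obtain ⟨q, hq⟩ : ∃ q, q = 2 ^ (2 * m + 1) := ⟨_, rfl⟩
  rw [← hq] at hK ⊢
  intro l hl
  obtain ⟨hlp, hln, hn0⟩ := Nat.mem_primeFactors.1 hl
  have : Fact l.Prime := ⟨hlp⟩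
  have hq2 : 2 ≤ q := hq ▸ Nat.le_self_pow (by omega) 2
  have hq4 : 1 < q ^ 4 := Nat.one_lt_pow (by omega) (by omega)
  refine Nat.mem_primeFactors.2 ⟨hlp, ?_, Nat.mul_ne_zero (by omega) (by omega)⟩
  by_cases hlq : l ∣ q
  · exact dvd_mul_of_dvd_left hlq _
  refine dvd_mul_of_dvd_right ?_ _
  obtain ⟨y, hyb⟩ : ∃ y, y = b ^ (orderOf b / l) := ⟨_, rfl⟩
  have ho : orderOf y = l := by
    rw [hyb]
    exact orderOf_pow_orderOf_div hn0 hln
  have hay : Commute a y := hyb ▸ hab.pow_right _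
  have hFx : ∀ z : ↥(twistedF4 K (2 ^ m)), (z : GL chevF4.Idx K) ∈ Cfsg.Agent.Chevalley.Twist.Fx X.S :=
    fun z => X.gen.le z.2
  have hcomm : Commute (a : GL chevF4.Idx K) (y : GL chevF4.Idx K) := congrArg Subtype.val hay
  obtain ⟨Q, hQ⟩ : ∃ Q, Q = Subgroup.zpowers (a : GL chevF4.Idx K) := ⟨_, rfl⟩
  have hoa : orderOf (a : GL chevF4.Idx K) = 2 := by rw [Subgroup.orderOf_coe, ha]
  have hQG : Q ≤ chevF4.group K := by
    rw [hQ, Subgroup.zpowers_le]
    exact Cfsg.Agent.Chevalley.Twist.Fx_le_group X.S (hFx a)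
  have hQp : IsPGroup 2 Q := IsPGroup.of_card (n := 1) (by rw [hQ, Nat.card_zpowers, hoa, pow_one])
  have hQne : Q ≠ ⊥ := by
    rw [hQ, Ne, Subgroup.zpowers_eq_bot]
    intro h
    rw [h, orderOf_one] at hoa
    omega
  obtain ⟨g, hg, J, hJ, hle, -⟩ :=
    Cfsg.Agent.SimpleFacts.BorelTits.borel_tits (F := K) 2 chevF4 (by simp) Q hQG hQp hQne
  have hyN : (y : GL chevF4.Idx K) ∈ Subgroup.normalizer (Q : Set (GL chevF4.Idx K)) := by
    rw [Subgroup.mem_normalizer_iff]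
    intro z
    rw [hQ]
    simp only [Subgroup.mem_zpowers_iff]
    have hc : ∀ k : ℤ, (y : GL chevF4.Idx K) * (a : GL chevF4.Idx K) ^ k * (y : GL chevF4.Idx K)⁻¹ =
        (a : GL chevF4.Idx K) ^ k := fun k => by
      rw [(hcomm.symm.zpow_right k).eq, mul_inv_cancel_right]
    constructor
    · rintro ⟨k, rfl⟩; exact ⟨k, (hc k).symm⟩
    · rintro ⟨k, hk⟩
      refine ⟨k, ?_⟩
      rw [← hc k] at hk
      exact mul_left_cancel (mul_right_cancel hk)
  obtain ⟨x, hx, hxe⟩ :=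
    Subgroup.mem_map.1 (hle ⟨hyN, Cfsg.Agent.Chevalley.Twist.Fx_le_group X.S (hFx y)⟩)
  rw [MulEquiv.coe_toMonoidHom, MulAut.conj_apply] at hxe
  have hyP : g⁻¹ * (y : GL chevF4.Idx K) * g ∈ chevF4.parabolicSubgroup K J := by
    rw [← hxe]; simpa [mul_assoc] using hx
  rcases Cfsg.Agent.SimpleFacts.BorelTits.TwistedF4.dvd_of_mem_parabolic X (hFx y)
      (by rw [Subgroup.orderOf_coe, ho]) hg hJ hyP hK with h | h | h
  · exact absurd h hlq
  · exact h
  -- `l ∣ q ^ 3 - 1`, and `l` divides the order of the twisted group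
  have hcard : l ∣ q ^ 12 * (q - 1) * (q ^ 3 + 1) * (q ^ 4 - 1) * (q ^ 6 + 1) := by
    rw [hq, ← Cfsg.Agent.Chevalley.Twist.F4.card_group X, ← ho]
    exact orderOf_dvd_natCard y
  have hm1 : q - 1 ∣ q ^ 4 - 1 := by simpa using Nat.sub_dvd_pow_sub_pow q 1 4
  have h1 : (q : ZMod l) ^ 3 = 1 := by
    have hc := (ZMod.natCast_eq_zero_iff (q ^ 3 - 1) l).2 h
    rw [Nat.cast_sub (Nat.one_le_pow _ _ (by omega)), Nat.cast_pow, Nat.cast_one, sub_eq_zero] at hc
    exact hc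
  have htwo : (2 : ZMod l) = 0 → l ∣ q := fun h2 => by
    have h2' : l ∣ 2 := (ZMod.natCast_eq_zero_iff 2 l).1 (by exact_mod_cast h2)
    exact h2'.trans (hq ▸ dvd_pow_self 2 (by omega))
  rcases hlp.dvd_mul.1 hcard with h' | h'
  · rcases hlp.dvd_mul.1 h' with h' | h'
    · rcases hlp.dvd_mul.1 h' with h' | h'
      · rcases hlp.dvd_mul.1 h' with h' | h'
        · exact absurd (hlp.dvd_of_dvd_pow h') hlq
        · exact h'.trans hm1
      · have hc := (ZMod.natCast_eq_zero_iff (q ^ 3 + 1) l).2 h'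
        rw [Nat.cast_add, Nat.cast_pow, h1, Nat.cast_one, one_add_one_eq_two] at hc
        exact absurd (htwo hc) hlq
    · exact h'
  · have hc := (ZMod.natCast_eq_zero_iff (q ^ 6 + 1) l).2 h'
    rw [Nat.cast_add, Nat.cast_pow, show (6 : ℕ) = 3 * 2 from rfl, pow_mul, h1, one_pow, Nat.cast_one,
      one_add_one_eq_two] at hc
    exact absurd (htwo hc) hlq

end Cfsg.Agent.S2369
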