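import Cfsg.Statements.S2371
import Cfsg.Agent.Lib.Chevalley.Singer.Small
import Cfsg.Agent.Lib.Chevalley.Types.OrderG2

set_option autoImplicit false
open Cfsg
open scoped Matrix

namespace Cfsg.Agent.S2371

theorem corS : (Chevalley.Singer.corMat Cfsg.Lie.chevG2)ᵀ * Chevalley.Singer.corMat Cfsg.Lie.chevG2 =
    !![16, 24; 24, 48] := Chevalley.Singer.of_eqB (by decide +kernel)

theorem detS : ((Chevalley.Singer.corMat Cfsg.Lie.chevG2)ᵀ * Chevalley.Singer.corMat Cfsg.Lie.chevG2).det =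
    192 := by
  rw [corS]
  exact Chevalley.Singer.det_of_triOk (L := !![1, 0; -3, 2]) (U := !![16, 24; 0, 24]) (by decide +kernel)

theorem bound : ∀ s < Cfsg.Lie.chevG2.nroots, (Chevalley.Singer.lam Cfsg.Lie.chevG2 s ⬝ᵥ
    ((Chevalley.Singer.corMat Cfsg.Lie.chevG2)ᵀ * Chevalley.Singer.corMat Cfsg.Lie.chevG2) *ᵥ
      Chevalley.Singer.lam Cfsg.Lie.chevG2 s) ^ Cfsg.Lie.chevG2.rank <
    (((4 : ℕ) : ℤ)) ^ 2 * ((Chevalley.Singer.corMat Cfsg.Lie.chevG2)ᵀ * Chevalley.Singer.corMat Cfsg.Lie.chevG2).det := by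
  rw [detS, corS]
  decide +kernel

/-- The group G₂(q), q ≥ 3, contains a cyclic subgroup of order q² + q + 1 which is its own centralizer. -/
theorem result {F : Type*} [Field F] [Fintype F] (q : ℕ) (hF : Fintype.card F = q) (hq : 3 ≤ q) :
    ∃ H : Subgroup ↥(Cfsg.Lie.chevG2.group F), IsCyclic ↥H ∧ Nat.card ↥H = q ^ 2 + q + 1 ∧
      Subgroup.centralizer (H : Set ↥(Cfsg.Lie.chevG2.group F)) = H := by
  have hq2 : 2 ≤ q := hF ▸ Fintype.one_lt_card
  have hN : (Polynomial.cyclotomic 3 ℤ).eval (q : ℤ) = ((q ^ 2 + q + 1 : ℕ) : ℤ) := by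
    rw [Chevalley.Singer.eval_cyclotomic_three]
    push_cast
    ring
  have hsmall : ∀ p : ℕ, p.Prime → p < 4 → ¬ p ^ 2 ∣ q ^ 2 + q + 1 := by
    intro p hp hlt
    refine Chevalley.Singer.zmod_not_dvd ?_
    push_cast
    generalize (q : ZMod (p ^ 2)) = x
    interval_cases p <;> first | exact absurd hp (by decide) | (revert x; decide +kernel)
  obtain ⟨r, hr, hrb, hrN⟩ : ∃ r : ℕ, r.Prime ∧ 4 ≤ r ∧ r ∣ q ^ 2 + q + 1 := by
    refine Chevalley.Singer.exists_big (p0 := 3) (by norm_num) (by nlinarith [sq_nonneg q, Nat.pow_le_pow_left hq2 4, Nat.pow_le_pow_left hq2 2])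
      (hsmall _ (by norm_num) (by norm_num)) fun p hp hlt hne => ?_
    refine Chevalley.Singer.zmod_not_dvd ?_
    push_cast
    generalize (q : ZMod p) = x
    interval_cases p <;> first | exact absurd hp (by decide) | exact absurd rfl hne | (revert x; decide +kernel)
  have : Fact r.Prime := ⟨hr⟩
  have hg : ∀ (Q : ℕ), ∏ i, Nat.gcd (Q - 1) (Chevalley.Types.OrderG2.ed i) = 1 := fun Q =>
    Finset.prod_eq_one fun i _ => by fin_cases i <;> simp [Chevalley.Types.OrderG2.ed]
  refine Chevalley.Singer.exists_cyclic (F := F) (D := Cfsg.Lie.chevG2) Chevalley.Types.G2.certified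
    Chevalley.Types.WG2.chain_ok Chevalley.Types.WG2.top_ok
    (Chevalley.Singer.isUnit_det_of_diag (Chevalley.Types.OrderG2.hdiag.trans ?_)) (degs := [2, 6])
    rfl (by decide +kernel) (fun K _ _ => ?_) (e := 6) (fun K _ _ => ?_) hF ?_ (d := 3) (by decide +kernel)
    (by decide +kernel) (k := 6) (by decide) (by decide) hN (b := 4) (detS ▸ by norm_num)
    bound hsmall (r := r) hrb hrN
    (Chevalley.Singer.not_dvd_of_big (k := 20) hr hrb (by norm_num) (by decide +kernel))
    (Chevalley.Singer.not_dvd_of_big (k := 20) hr hrb (by norm_num) (by decide +kernel))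
  · ext i j; fin_cases i <;> fin_cases j <;> rfl
  · have h := Chevalley.Types.OrderG2.card_H K
    rwa [hg, one_mul] at h
  · have h := Chevalley.Types.OrderG2.card_group K
    rwa [hg, one_mul] at h
  · have h := Chevalley.Types.OrderG2.card_group F
    rwa [hg, one_mul, hF] at h

end Cfsg.Agent.S2371
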