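import Cfsg.Statements.S2372
import Cfsg.Agent.Lib.Chevalley.Singer.Small
import Cfsg.Agent.Lib.Chevalley.Types.OrderF4

set_option autoImplicit false
open Cfsg
open scoped Matrix

namespace Cfsg.Agent.S2372

theorem corS : (Chevalley.Singer.corMat Cfsg.Lie.chevF4)ᵀ * Chevalley.Singer.corMat Cfsg.Lie.chevF4 =
    !![36, 54, 72, 36; 54, 108, 144, 72; 72, 144, 216, 108; 36, 72, 108, 72] := Chevalley.Singer.of_eqB (by decide +kernel)

theorem detS : ((Chevalley.Singer.corMat Cfsg.Lie.chevF4)ᵀ * Chevalley.Singer.corMat Cfsg.Lie.chevF4).det =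
    419904 := by
  rw [corS]
  exact Chevalley.Singer.det_of_triOk (L := !![1, 0, 0, 0; -3, 2, 0, 0; 0, -4, 3, 0; 0, 0, -1, 2]) (U := !![36, 54, 72, 36; 0, 54, 72, 36; 0, 0, 72, 36; 0, 0, 0, 36]) (by decide +kernel)

theorem bound : ∀ s < Cfsg.Lie.chevF4.nroots, (Chevalley.Singer.lam Cfsg.Lie.chevF4 s ⬝ᵥ
    ((Chevalley.Singer.corMat Cfsg.Lie.chevF4)ᵀ * Chevalley.Singer.corMat Cfsg.Lie.chevF4) *ᵥ
      Chevalley.Singer.lam Cfsg.Lie.chevF4 s) ^ Cfsg.Lie.chevF4.rank <
    (((9 : ℕ) : ℤ)) ^ 2 * ((Chevalley.Singer.corMat Cfsg.Lie.chevF4)ᵀ * Chevalley.Singer.corMat Cfsg.Lie.chevF4).det := by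
  rw [detS, corS]
  decide +kernel

/-- The group F₄(q) contains a cyclic subgroup of order q⁴ + 1 which is its own centralizer. -/
theorem result {F : Type*} [Field F] [Fintype F] (q : ℕ) (hF : Fintype.card F = q) :
    ∃ H : Subgroup ↥(Cfsg.Lie.chevF4.group F), IsCyclic ↥H ∧ Nat.card ↥H = q ^ 4 + 1 ∧
      Subgroup.centralizer (H : Set ↥(Cfsg.Lie.chevF4.group F)) = H := by
  have hq2 : 2 ≤ q := hF ▸ Fintype.one_lt_card
  have hN : (Polynomial.cyclotomic 8 ℤ).eval (q : ℤ) = ((q ^ 4 + 1 : ℕ) : ℤ) := by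
    rw [Chevalley.Singer.eval_cyclotomic_eight]
    push_cast
    ring
  have hsmall : ∀ p : ℕ, p.Prime → p < 9 → ¬ p ^ 2 ∣ q ^ 4 + 1 := by
    intro p hp hlt
    refine Chevalley.Singer.zmod_not_dvd ?_
    push_cast
    generalize (q : ZMod (p ^ 2)) = x
    interval_cases p <;> first | exact absurd hp (by decide) | (revert x; decide +kernel)
  obtain ⟨r, hr, hrb, hrN⟩ : ∃ r : ℕ, r.Prime ∧ 9 ≤ r ∧ r ∣ q ^ 4 + 1 := by
    refine Chevalley.Singer.exists_big (p0 := 2) (by norm_num) (by nlinarith [sq_nonneg q, Nat.pow_le_pow_left hq2 4, Nat.pow_le_pow_left hq2 2])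
      (hsmall _ (by norm_num) (by norm_num)) fun p hp hlt hne => ?_
    refine Chevalley.Singer.zmod_not_dvd ?_
    push_cast
    generalize (q : ZMod p) = x
    interval_cases p <;> first | exact absurd hp (by decide) | exact absurd rfl hne | (revert x; decide +kernel)
  have : Fact r.Prime := ⟨hr⟩
  have hg : ∀ (Q : ℕ), ∏ i, Nat.gcd (Q - 1) (Chevalley.Types.OrderF4.ed i) = 1 := fun Q =>
    Finset.prod_eq_one fun i _ => by fin_cases i <;> simp [Chevalley.Types.OrderF4.ed]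
  refine Chevalley.Singer.exists_cyclic (F := F) (D := Cfsg.Lie.chevF4) Chevalley.Types.F4.certified
    Chevalley.Types.WF4.chain_ok Chevalley.Types.WF4.top_ok
    (Chevalley.Singer.isUnit_det_of_diag (Chevalley.Types.OrderF4.hdiag.trans ?_)) (degs := [2, 6, 8, 12])
    rfl (by decide +kernel) (fun K _ _ => ?_) (e := 24) (fun K _ _ => ?_) hF ?_ (d := 8) (by decide +kernel)
    (by decide +kernel) (k := 8) (by decide) (by decide) hN (b := 9) (detS ▸ by norm_num)
    bound hsmall (r := r) hrb hrN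
    (Chevalley.Singer.not_dvd_of_big (k := 20) hr hrb (by norm_num) (by decide +kernel))
    (Chevalley.Singer.not_dvd_of_big (k := 20) hr hrb (by norm_num) (by decide +kernel))
  · ext i j; fin_cases i <;> fin_cases j <;> rfl
  · have h := Chevalley.Types.OrderF4.card_H K
    rwa [hg, one_mul] at h
  · have h := Chevalley.Types.OrderF4.card_group K
    rwa [hg, one_mul] at h
  · have h := Chevalley.Types.OrderF4.card_group F
    rwa [hg, one_mul, hF] at h

end Cfsg.Agent.S2372
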