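import Cfsg.Statements.S2373
import Cfsg.Agent.SimpleFacts.SingerCentre.SixSeed
import Cfsg.Agent.SimpleFacts.SingerCentre.Final
import Cfsg.Agent.SimpleFacts.SingerCentre.Arith
import Cfsg.Statements.S2373

set_option autoImplicit false
open Cfsg Cfsg.Agent.SimpleFacts
open scoped Matrix

namespace Cfsg.Agent.S2373

/-- The group E₆(q) (the simple Chevalley group of type E₆) contains a cyclic subgroup of order (q⁴ − q² + 1)(q² + q + 1)/gcd(3, q − 1) which is its own centralizer. -/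
theorem result {F : Type*} [Field F] [Fintype F] (q : ℕ) (hF : Fintype.card F = q) :
    ∃ H : Subgroup ↥(Cfsg.Lie.chevE6.group F), IsCyclic ↥H ∧ Nat.card ↥H = (q ^ 4 - q ^ 2 + 1) * (q ^ 2 + q + 1) / Nat.gcd 3 (q - 1) ∧
      Subgroup.centralizer (H : Set ↥(Cfsg.Lie.chevE6.group F)) = H := by
  classical
  have hq2 : 2 ≤ q := hF ▸ Fintype.one_lt_card
  obtain ⟨K, _, _, f, σ, hQ, hσf, hfix, hσq⟩ := SingerCentre.exists_extension F hF
  obtain ⟨r, hr, hrb, -, hord⟩ := SingerCentre.exists_primitive q hq2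
  have : Fact r.Prime := ⟨hr⟩
  obtain ⟨S⟩ := SingerCentre.Six.exists_seed f σ hF hQ hσf hσq (r := r) hrb hord
  obtain ⟨N, hN⟩ : ∃ N, N = (q ^ 4 - q ^ 2 + 1) * (q ^ 2 + q + 1) := ⟨_, rfl⟩
  have hg : Nat.gcd 3 (q - 1) ∣ N := by
    rw [hN]
    refine dvd_mul_of_dvd_right ?_ _
    rcases (Nat.dvd_prime Nat.prime_three).1 (Nat.gcd_dvd_left 3 (q - 1)) with h | h <;> rw [h]
    · exact one_dvd _
    · obtain ⟨j, hj⟩ : (3 : ℕ) ∣ q - 1 := h ▸ Nat.gcd_dvd_right 3 (q - 1)
      have : q = 3 * j + 1 := by omega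
      subst this
      exact ⟨3 * j ^ 2 + 3 * j + 1, by ring⟩
  have hev : (Chevalley.Singer.wMat Cfsg.Lie.chevE6 S.L).charpoly.eval (q : ℤ) = (N : ℤ) := by
    have h := congrArg (Polynomial.eval (q : ℤ)) S.res.cp
    rw [hN, Nat.cast_mul, SingerCentre.cast_twelve]
    refine Eq.trans h ?_
    simp
  have hNK : N ∣ Nat.card Kˣ := by
    rw [Nat.card_units, Nat.card_eq_fintype_card, hQ, hN, ← Int.natCast_dvd_natCast, Nat.cast_mul,
      SingerCentre.cast_twelve, Nat.cast_sub (Nat.one_le_pow _ _ (by omega))]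
    push_cast
    exact ⟨((q : ℤ) - 1) * ((q : ℤ) ^ 3 + 1) * ((q : ℤ) ^ 2 + 1), by ring⟩
  have hmult : ∀ p : ℕ, p.Prime → p ^ 2 ∣ N →
      ∀ v w : Fin Cfsg.Lie.chevE6.rank → ZMod p,
        v ᵥ* (Chevalley.Singer.wMat Cfsg.Lie.chevE6 S.L).map Int.cast = (q : ZMod p) • v → v ≠ 0 →
        w ᵥ* (Chevalley.Singer.wMat Cfsg.Lie.chevE6 S.L).map Int.cast = (q : ZMod p) • w →
          ∃ a : ZMod p, w = a • v := by
    intro p hp hp2 v w hv hv0 hw
    have : Fact p.Prime := ⟨hp⟩
    rw [hN] at hp2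
    have hp5 : 5 ≤ p := by
      by_contra hlt
      rw [not_le] at hlt
      have h12 := SingerCentre.small_twelve hp (by omega) q
      have h3 : p ^ 2 ∣ q ^ 2 + q + 1 :=
        ((Nat.Coprime.pow_left 2 ((hp.coprime_iff_not_dvd).2 h12)).dvd_of_dvd_mul_left hp2)
      have hz : ((q : ZMod (p ^ 2)) ^ 2 + q + 1 = 0) := by
        have := (ZMod.natCast_eq_zero_iff _ _).2 h3
        push_cast at this
        exact this
      revert hz
      generalize (q : ZMod (p ^ 2)) = x
      interval_cases p <;> first | exact absurd hp (by decide) | (revert x; decide +kernel)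
    refine SingerCentre.unique_eigen _ ?_ hv hv0 hw
    have hcp : ((Chevalley.Singer.wMat Cfsg.Lie.chevE6 S.L).map (Int.cast : ℤ → ZMod p)).charpoly =
        (Polynomial.X ^ 4 - Polynomial.X ^ 2 + 1) * (Polynomial.X ^ 2 + Polynomial.X + 1) := by
      rw [show (Chevalley.Singer.wMat Cfsg.Lie.chevE6 S.L).map (Int.cast : ℤ → ZMod p) =
        (Chevalley.Singer.wMat Cfsg.Lie.chevE6 S.L).map (Int.castRingHom (ZMod p)) from rfl,
        Matrix.charpoly_map]
      refine (congrArg (Polynomial.map (Int.castRingHom (ZMod p))) S.res.cp).trans ?_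
      simp
    rw [hcp]
    simp [Polynomial.derivative_mul, Polynomial.derivative_pow]
    generalize hx : (q : ZMod p) = x
    have hroot : (x ^ 4 - x ^ 2 + 1) * (x ^ 2 + x + 1) = 0 := by
      have h0 : (((q ^ 4 - q ^ 2 + 1) * (q ^ 2 + q + 1) : ℕ) : ZMod p) = 0 :=
        (ZMod.natCast_eq_zero_iff _ _).2 ((dvd_pow_self p two_ne_zero).trans hp2)
      rw [Nat.cast_mul, SingerCentre.cast_twelve_zmod] at h0
      push_cast at h0
      rwa [hx] at h0
    have key : ∀ n : ℕ, 0 < n → n < 5 → (n : ZMod p) ≠ 0 := fun n h1 h2 e => by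
      have := Nat.le_of_dvd h1 ((ZMod.natCast_eq_zero_iff _ _).1 e); omega
    intro hd
    by_cases h1 : x ^ 4 - x ^ 2 + 1 = 0
    · by_cases h2 : x ^ 2 + x + 1 = 0
      · have h3 : ((2 : ℕ) : ZMod p) = 0 := by
          push_cast
          linear_combination (x ^ 2 + 1) * h1 - (x ^ 3 + 1) * (x - 1) * h2
        exact key 2 (by norm_num) (by norm_num) h3
      · refine SingerCentre.twelve_deriv hp5 h1 ((mul_eq_zero.1 ?_).resolve_right h2)
        linear_combination hd - (2 * x + 1) * h1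
    · have h2 := (mul_eq_zero.1 hroot).resolve_left h1
      have h4 : 2 * x + 1 = 0 := (mul_eq_zero.1 (by
        linear_combination hd - (4 * x ^ 3 - 2 * x) * h2 :
          (x ^ 4 - x ^ 2 + 1) * (2 * x + 1) = 0)).resolve_left h1
      have h5 : ((3 : ℕ) : ZMod p) = 0 := by
        push_cast
        linear_combination 4 * h2 - (2 * x + 1) * h4
      exact key 3 (by norm_num) (by norm_num) h5
  obtain ⟨H, hH1, hH2, hH3⟩ := SingerCentre.exists_sub SingerCentre.Six.pack6 f σ hσf hfix hσq S.mem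
    S.valid S.h0_mem S.twist
    (SingerCentre.gam_cyclic hev (hN ▸ Nat.mul_pos (Nat.succ_pos _) (Nat.succ_pos _)) hNK hmult)
    (g := Nat.gcd 3 (q - 1)) (n := N / Nat.gcd 3 (q - 1))
    (by rw [SingerCentre.Six.card_ker6, Nat.card_units, Nat.card_eq_fintype_card, hF, Nat.gcd_comm])
    (Nat.mul_div_cancel' hg).symm
    (fun s hs => ⟨S.c, S.c_mem, fun h => SingerCentre.Six.regular S.res
      (SingerCentre.Six.root_facts hs).1 (SingerCentre.Six.root_facts hs).2
      (((S.ev_iff _ 0).1 (h.trans (Finset.prod_eq_one fun i _ => zpow_zero _).symm)).trans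
        (by simp [SingerCentre.Six.ev]))⟩)
    (fun L' hL' h => Chevalley.Singer.eqv_nil_of_fix SingerCentre.Six.hC6 SingerCentre.Six.det6_ne
      (r := r)
      (by rw [SingerCentre.Six.card_W6]; exact SingerCentre.Six.prime_not_dvd hr hrb (by decide +kernel))
      hL' (v := S.v) (SingerCentre.Six.fix_of_chars hr hrb S hL' fun s hs => h S.c S.c_mem s hs)
      fun s hs => SingerCentre.Six.regular S.res
        (SingerCentre.Six.root_facts hs).1 (SingerCentre.Six.root_facts hs).2)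
  exact ⟨H, hH1, hN ▸ hH2, hH3⟩

end Cfsg.Agent.S2373
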