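import Cfsg.Statements.S2374
import Cfsg.Agent.SimpleFacts.SingerCentre.SevenRegular

set_option autoImplicit false
open Cfsg Cfsg.Agent.SimpleFacts
open scoped Matrix

namespace Cfsg.Agent.S2374

/-- The group E₇(q) (the simple Chevalley group of type E₇) contains a cyclic subgroup of order (q⁴ − q² + 1)(q³ + 1)/gcd(2, q − 1) which is its own centralizer. -/
theorem result {F : Type*} [Field F] [Fintype F] (q : ℕ) (hF : Fintype.card F = q) :
    ∃ H : Subgroup ↥(Cfsg.Lie.chevE7.group F), IsCyclic ↥H ∧ Nat.card ↥H = (q ^ 4 - q ^ 2 + 1) * (q ^ 3 + 1) / Nat.gcd 2 (q - 1) ∧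
      Subgroup.centralizer (H : Set ↥(Cfsg.Lie.chevE7.group F)) = H := by
  classical
  have hq2 : 2 ≤ q := hF ▸ Fintype.one_lt_card
  obtain ⟨K, _, _, f, σ, hQ, hσf, hfix, hσq⟩ := SingerCentre.exists_extension F hF
  obtain ⟨r, hr, hrb, -, hord⟩ := SingerCentre.exists_primitive q hq2
  have : Fact r.Prime := ⟨hr⟩
  obtain ⟨S⟩ := SingerCentre.Seven.exists_seed7 f σ hF hQ hσf hσq (r := r) hrb hord
  obtain ⟨W⟩ := SingerCentre.Seven.exists_twist7 S hq2 hQ hσq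
  obtain ⟨N, hN⟩ : ∃ N, N = (q ^ 4 - q ^ 2 + 1) * (q ^ 3 + 1) := ⟨_, rfl⟩
  have hev : (Chevalley.Singer.wMat Cfsg.Lie.chevE7 W.L).charpoly.eval (q : ℤ) = (N : ℤ) := by
    have h := congrArg (Polynomial.eval (q : ℤ)) (SingerCentre.Seven.charpoly_twist W)
    rw [hN, Nat.cast_mul, SingerCentre.cast_twelve]
    refine Eq.trans h ?_
    simp
  have hNK : N ∣ Nat.card Kˣ := by
    rw [Nat.card_units, Nat.card_eq_fintype_card, hQ, hN, ← Int.natCast_dvd_natCast, Nat.cast_mul,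
      SingerCentre.cast_twelve, Nat.cast_sub (Nat.one_le_pow _ _ (by omega))]
    push_cast
    exact ⟨((q : ℤ) ^ 3 - 1) * ((q : ℤ) ^ 2 + 1), by ring⟩
  have hmult : ∀ p : ℕ, p.Prime → p ^ 2 ∣ N →
      ∀ v w : Fin Cfsg.Lie.chevE7.rank → ZMod p,
        v ᵥ* (Chevalley.Singer.wMat Cfsg.Lie.chevE7 W.L).map Int.cast = (q : ZMod p) • v → v ≠ 0 →
        w ᵥ* (Chevalley.Singer.wMat Cfsg.Lie.chevE7 W.L).map Int.cast = (q : ZMod p) • w →
          ∃ a : ZMod p, w = a • v := by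
    intro p hp hp2 v w hv hv0 hw
    have : Fact p.Prime := ⟨hp⟩
    exact SingerCentre.Seven.twist_lines W ((dvd_pow_self p two_ne_zero).trans (hN ▸ hp2)) hv hv0 hw
  have hgam := SingerCentre.gam_cyclic hev (hN ▸ Nat.mul_pos (Nat.succ_pos _) (Nat.succ_pos _)) hNK hmult
  obtain ⟨c0, hc0, ho⟩ := SingerCentre.Seven.exists_gen W (hN ▸ hgam)
  have hg : Nat.gcd 2 (q - 1) ∣ N := by
    rw [hN]
    refine dvd_mul_of_dvd_right ?_ _
    rcases (Nat.dvd_prime Nat.prime_two).1 (Nat.gcd_dvd_left 2 (q - 1)) with h | h <;> rw [h]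
    · exact one_dvd _
    · obtain ⟨j, hj⟩ : (2 : ℕ) ∣ q - 1 := h ▸ Nat.gcd_dvd_right 2 (q - 1)
      have : q = 2 * j + 1 := by omega
      subst this
      exact ⟨4 * j ^ 3 + 6 * j ^ 2 + 3 * j + 1, by ring⟩
  obtain ⟨H, hH1, hH2, hH3⟩ := SingerCentre.exists_sub SingerCentre.Seven.pack7 f σ hσf hfix hσq W.mem
    W.valid W.h0_mem W.twist hgam
    (g := Nat.gcd 2 (q - 1)) (n := N / Nat.gcd 2 (q - 1))
    (by rw [SingerCentre.Seven.card_ker7, Nat.card_units, Nat.card_eq_fintype_card, hF, Nat.gcd_comm])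
    (Nat.mul_div_cancel' hg).symm
    (fun s hs => SingerCentre.Seven.regular7 W hq2 hc0 ho hs)
    (fun L' hL' h => SingerCentre.Seven.stab7 W hq2 hc0 ho hrb hL' h)
  exact ⟨H, hH1, hN ▸ hH2, hH3⟩

end Cfsg.Agent.S2374
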