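import Cfsg.Statements.S2375
import Cfsg.Agent.Lib.Chevalley.Singer.Small
import Cfsg.Agent.Lib.Chevalley.Types.OrderE8

set_option autoImplicit false
open Cfsg
open scoped Matrix

namespace Cfsg.Agent.S2375

theorem corS : (Chevalley.Singer.corMat Cfsg.Lie.chevE8)ᵀ * Chevalley.Singer.corMat Cfsg.Lie.chevE8 =
    !![240, 300, 420, 600, 480, 360, 240, 120; 300, 480, 600, 900, 720, 540, 360, 180; 420, 600, 840, 1200, 960, 720, 480, 240; 600, 900, 1200, 1800, 1440, 1080, 720, 360; 480, 720, 960, 1440, 1200, 900, 600, 300; 360, 540, 720, 1080, 900, 720, 480, 240; 240, 360, 480, 720, 600, 480, 360, 180; 120, 180, 240, 360, 300, 240, 180, 120] := Chevalley.Singer.of_eqB (by decide +kernel)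

theorem detS : ((Chevalley.Singer.corMat Cfsg.Lie.chevE8)ᵀ * Chevalley.Singer.corMat Cfsg.Lie.chevE8).det =
    167961600000000 := by
  rw [corS]
  exact Chevalley.Singer.det_of_triOk (L := !![1, 0, 0, 0, 0, 0, 0, 0; -5, 4, 0, 0, 0, 0, 0, 0; -6, -5, 7, 0, 0, 0, 0, 0; 0, -5, -5, 6, 0, 0, 0, 0; 0, 0, 0, -4, 5, 0, 0, 0; 0, 0, 0, 0, -3, 4, 0, 0; 0, 0, 0, 0, 0, -2, 3, 0; 0, 0, 0, 0, 0, 0, -1, 2]) (U := !![240, 300, 420, 600, 480, 360, 240, 120; 0, 420, 300, 600, 480, 360, 240, 120; 0, 0, 360, 300, 240, 180, 120, 60; 0, 0, 0, 300, 240, 180, 120, 60; 0, 0, 0, 0, 240, 180, 120, 60; 0, 0, 0, 0, 0, 180, 120, 60; 0, 0, 0, 0, 0, 0, 120, 60; 0, 0, 0, 0, 0, 0, 0, 60]) (by decide +kernel)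

theorem bound : ∀ s < Cfsg.Lie.chevE8.nroots, (Chevalley.Singer.lam Cfsg.Lie.chevE8 s ⬝ᵥ
    ((Chevalley.Singer.corMat Cfsg.Lie.chevE8)ᵀ * Chevalley.Singer.corMat Cfsg.Lie.chevE8) *ᵥ
      Chevalley.Singer.lam Cfsg.Lie.chevE8 s) ^ Cfsg.Lie.chevE8.rank <
    (((17 : ℕ) : ℤ)) ^ 2 * ((Chevalley.Singer.corMat Cfsg.Lie.chevE8)ᵀ * Chevalley.Singer.corMat Cfsg.Lie.chevE8).det := by
  rw [detS, corS]
  decide +kernel

/-- The group E₈(q) contains a cyclic subgroup of order q⁸ + q⁷ − q⁵ − q⁴ − q³ + q + 1 which is its own centralizer. -/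
theorem result {F : Type*} [Field F] [Fintype F] (q : ℕ) (hF : Fintype.card F = q) :
    ∃ H : Subgroup ↥(Cfsg.Lie.chevE8.group F), IsCyclic ↥H ∧ Nat.card ↥H = q ^ 8 + q ^ 7 - q ^ 5 - q ^ 4 - q ^ 3 + q + 1 ∧
      Subgroup.centralizer (H : Set ↥(Cfsg.Lie.chevE8.group F)) = H := by
  have hq2 : 2 ≤ q := hF ▸ Fintype.one_lt_card
  have h53 : q ^ 3 + q ^ 4 ≤ q ^ 8 := by
    have h1 : q ^ 3 ≤ q ^ 7 := Nat.pow_le_pow_right (by omega) (by omega)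
    have h2 : q ^ 4 ≤ q ^ 7 := Nat.pow_le_pow_right (by omega) (by omega)
    have h3 : 2 * q ^ 7 ≤ q * q ^ 7 := Nat.mul_le_mul_right _ hq2
    rw [← pow_succ', show 7 + 1 = 8 from rfl] at h3
    omega
  have h57 : q ^ 5 ≤ q ^ 7 := Nat.pow_le_pow_right (by omega) (by omega)
  have hN : (Polynomial.cyclotomic 30 ℤ).eval (q : ℤ) =
      ((q ^ 8 + q ^ 7 - q ^ 5 - q ^ 4 - q ^ 3 + q + 1 : ℕ) : ℤ) := by
    rw [Chevalley.Singer.eval_cyclotomic_thirty _ (by omega)]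
    push_cast [Nat.cast_sub (show q ^ 5 ≤ q ^ 8 + q ^ 7 by omega),
      Nat.cast_sub (show q ^ 4 ≤ q ^ 8 + q ^ 7 - q ^ 5 by omega),
      Nat.cast_sub (show q ^ 3 ≤ q ^ 8 + q ^ 7 - q ^ 5 - q ^ 4 by omega)]
    ring
  have hcast : ∀ m : ℕ, ((q ^ 8 + q ^ 7 - q ^ 5 - q ^ 4 - q ^ 3 + q + 1 : ℕ) : ZMod m) =
      (q : ZMod m) ^ 8 + (q : ZMod m) ^ 7 - (q : ZMod m) ^ 5 - (q : ZMod m) ^ 4 - (q : ZMod m) ^ 3 +
        (q : ZMod m) + 1 := fun m => by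
    push_cast [Nat.cast_sub (show q ^ 5 ≤ q ^ 8 + q ^ 7 by omega),
      Nat.cast_sub (show q ^ 4 ≤ q ^ 8 + q ^ 7 - q ^ 5 by omega),
      Nat.cast_sub (show q ^ 3 ≤ q ^ 8 + q ^ 7 - q ^ 5 - q ^ 4 by omega)]
    ring
  have hnd : ∀ p : ℕ, p.Prime → p < 17 → ¬ p ∣ q ^ 8 + q ^ 7 - q ^ 5 - q ^ 4 - q ^ 3 + q + 1 := by
    intro p hp hp17
    refine Chevalley.Singer.zmod_not_dvd ?_
    rw [hcast]
    generalize (q : ZMod p) = x
    interval_cases p <;> first | exact absurd hp (by decide) | (revert x; decide +kernel)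
  have hsmall : ∀ p : ℕ, p.Prime → p < 17 →
      ¬ p ^ 2 ∣ q ^ 8 + q ^ 7 - q ^ 5 - q ^ 4 - q ^ 3 + q + 1 := fun p hp hlt h =>
    hnd p hp hlt ((dvd_pow_self p two_ne_zero).trans h)
  obtain ⟨r, hr, hrb, hrN⟩ : ∃ r : ℕ, r.Prime ∧ 17 ≤ r ∧
      r ∣ q ^ 8 + q ^ 7 - q ^ 5 - q ^ 4 - q ^ 3 + q + 1 := by
    have h8 : 0 < q ^ 8 + q ^ 7 - q ^ 5 - q ^ 4 - q ^ 3 := by
      have : 0 < q ^ 7 := pow_pos (by omega) 7
      have : q ^ 5 < q ^ 7 := Nat.pow_lt_pow_right (by omega) (by omega)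
      omega
    obtain ⟨r, hr, hrN⟩ := Nat.exists_prime_and_dvd
      (n := q ^ 8 + q ^ 7 - q ^ 5 - q ^ 4 - q ^ 3 + q + 1) (by omega)
    exact ⟨r, hr, le_of_not_gt fun h => hnd r hr h hrN, hrN⟩
  have : Fact r.Prime := ⟨hr⟩
  have hg : ∀ (Q : ℕ), ∏ i, Nat.gcd (Q - 1) (Chevalley.Types.OrderE8.ed i) = 1 := fun Q =>
    Finset.prod_eq_one fun i _ => by fin_cases i <;> simp [Chevalley.Types.OrderE8.ed]
  refine Chevalley.Singer.exists_cyclic (F := F) (D := Cfsg.Lie.chevE8) Chevalley.Types.E8.certified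
    Chevalley.Types.WE8.chain_ok Chevalley.Types.WE8.top_ok
    (Chevalley.Singer.isUnit_det_of_diag (Chevalley.Types.OrderE8.hdiag.trans ?_)) (degs := [2, 8, 12, 14, 18, 20, 24, 30])
    rfl (by decide +kernel) (fun K _ _ => ?_) (e := 120) (fun K _ _ => ?_) hF ?_ (d := 30) (by decide +kernel)
    (by decide +kernel) (k := 30) (by decide) (by decide) hN (b := 17) (detS ▸ by norm_num)
    bound hsmall (r := r) hrb hrN
    (Chevalley.Singer.not_dvd_of_big (k := 20) hr hrb (by norm_num) (by decide +kernel))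
    (Chevalley.Singer.not_dvd_of_big (k := 20) hr hrb (by norm_num) (by decide +kernel))
  · ext i j; fin_cases i <;> fin_cases j <;> rfl
  · have h := Chevalley.Types.OrderE8.card_H K
    rwa [hg, one_mul] at h
  · have h := Chevalley.Types.OrderE8.card_group K
    rwa [hg, one_mul] at h
  · have h := Chevalley.Types.OrderE8.card_group F
    rwa [hg, one_mul, hF] at h

end Cfsg.Agent.S2375
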