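import Cfsg.Statements.S2379
import Cfsg.Agent.SimpleFacts.HomocyclicSylow
import Cfsg.Agent.Lib.Classical.Linear


set_option autoImplicit false
set_option linter.style.haveILetI false
open Cfsg

namespace Cfsg.Agent.S2379

open Cfsg.Agent.SimpleFacts.HomocyclicSylow

variable {F : Type*} [Field F] [Fintype F] {r : ℕ} [hr : Fact r.Prime]

theorem card_SL_factorization {n : ℕ} (hrn : n < r) (hrq : ¬ r ∣ Fintype.card F) :
    (Nat.card (Matrix.SpecialLinearGroup (Fin n) F)).factorization r =
      expo (Fintype.card F) r *
        ((Finset.Icc 2 n).filter (fun i => ord (Fintype.card F) r ∣ i)).card := by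
  classical
  rcases Nat.eq_zero_or_pos n with rfl | hn
  · haveI : Subsingleton (Matrix.SpecialLinearGroup (Fin 0) F) :=
      ⟨fun a b => Subtype.ext (Subsingleton.elim _ _)⟩
    rw [Nat.card_unique]
    simp
  haveI : Nonempty (Fin n) := ⟨⟨0, hn⟩⟩
  have hq := two_le_card (F := F)
  have h := card_GL_factorization (F := F) hrn hrq
  rw [Cfsg.Agent.Classical.Linear.natCard_GL_eq_mul, Nat.factorization_mul (by omega) Nat.card_pos.ne',
    Finsupp.add_apply, ← card_filter_dvd n, ← Finset.insert_Icc_add_one_left_eq_Icc hn,
    Finset.filter_insert] at h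
  have h1 := factorization_pow_sub_one (q := Fintype.card F) (r := r) hq hrq (i := 1)
    (fun h => hr.out.ne_one (Nat.dvd_one.1 h))
  rw [pow_one] at h1
  rw [h1] at h
  split_ifs at h with hd
  · rw [Finset.card_insert_of_notMem (by simp), mul_add, mul_one] at h
    show _ = _ * ((Finset.Icc (1 + 1) n).filter _).card
    omega
  · rw [zero_add] at h
    exact h

theorem exists_SL_hom {n : ℕ} (hrq : ¬ r ∣ Fintype.card F) :
    ∃ φ : (Fin ((Finset.Icc 2 n).filter (fun i => ord (Fintype.card F) r ∣ i)).card →
        Multiplicative (ZMod (r ^ expo (Fintype.card F) r))) →* Matrix.SpecialLinearGroup (Fin n) F,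
      Function.Injective φ := by
  classical
  rcases Nat.eq_zero_or_pos n with rfl | hn
  · haveI : IsEmpty (Fin ((Finset.Icc 2 0).filter (fun i => ord (Fintype.card F) r ∣ i)).card) := by
      simp; infer_instance
    exact ⟨1, fun _ _ _ => Subsingleton.elim _ _⟩
  by_cases hd : ord (Fintype.card F) r = 1
  · obtain ⟨m, rfl⟩ : ∃ m, n = m + 1 := ⟨n - 1, by omega⟩
    have hc : ((Finset.Icc 2 (m + 1)).filter (fun i => ord (Fintype.card F) r ∣ i)).card = m := by
      rw [hd, Finset.filter_true_of_mem fun i _ => one_dvd i, Nat.card_Icc]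
      omega
    rw [hc]
    obtain ⟨ι, hι⟩ := exists_cyclic_hom (G := Fˣ) (r := r) (a := expo (Fintype.card F) r) (by
      rw [← factorization_ord two_le_card hrq, hd, pow_one, Nat.card_units, Nat.card_eq_fintype_card]
      exact Nat.ordProj_dvd _ _)
    let v : (Fin m → Multiplicative (ZMod (r ^ expo (Fintype.card F) r))) → Fin (m + 1) → F :=
      fun t => Fin.cons (((∏ i, ι (t i))⁻¹ : Fˣ) : F) fun i => (ι (t i) : F)
    have hv : ∀ s t, v (s * t) = v s * v t := fun s t => by
      funext i
      induction i using Fin.cases with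
      | zero => simp [v, Finset.prod_mul_distrib, mul_comm]
      | succ i => simp [v]
    have hdet : ∀ t, (Matrix.diagonal (v t)).det = 1 := fun t => by
      rw [Matrix.det_diagonal, Fin.prod_univ_succ]
      simp [v, ← Units.coe_prod]
    have hv1 : v 1 = 1 := by
      funext i
      induction i using Fin.cases with
      | zero => simp [v]
      | succ i => simp [v]
    refine ⟨{ toFun := fun t => ⟨Matrix.diagonal (v t), hdet t⟩
              map_one' := Subtype.ext (by simp [hv1])
              map_mul' := fun s t => Subtype.ext (by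
                show Matrix.diagonal (v (s * t)) = Matrix.diagonal (v s) * Matrix.diagonal (v t)
                rw [hv, Matrix.diagonal_mul_diagonal]
                rfl) }, fun s t h => funext fun i => hι (Units.ext ?_)⟩
    have := congrFun (Matrix.diagonal_injective (congrArg Subtype.val h)) i.succ
    simpa [v] using this
  · have hc : ((Finset.Icc 2 n).filter (fun i => ord (Fintype.card F) r ∣ i)).card =
        n / ord (Fintype.card F) r := by
      rw [← card_filter_dvd n, ← Finset.insert_Icc_add_one_left_eq_Icc (show 1 ≤ n from hn),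
        Finset.filter_insert, if_neg fun h => hd (Nat.dvd_one.1 h)]
      rfl
    rw [hc]
    obtain ⟨φ, hφ⟩ := exists_GL_hom (F := F) hrq n
    have hdet : ∀ t, Matrix.GeneralLinearGroup.det (φ t) = 1 := fun t => by
      have h1 : orderOf (Matrix.GeneralLinearGroup.det (φ t)) ∣ r ^ expo (Fintype.card F) r := by
        refine ((orderOf_map_dvd (Matrix.GeneralLinearGroup.det.comp φ) t)).trans
          (orderOf_dvd_of_pow_eq_one (funext fun i => ?_))
        show (t i) ^ _ = 1
        apply orderOf_dvd_iff_pow_eq_one.1
        refine (orderOf_dvd_natCard _).trans ?_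
        rw [Nat.card_congr Multiplicative.toAdd, Nat.card_zmod]
      rw [← orderOf_eq_one_iff]
      refine Nat.eq_one_of_dvd_coprimes ?_ h1 (orderOf_dvd_natCard _)
      refine Nat.Coprime.pow_left _ ((Nat.Prime.coprime_iff_not_dvd hr.out).2 fun h => hd ?_)
      rw [Nat.card_units, Nat.card_eq_fintype_card, ← pow_one (Fintype.card F),
        dvd_pow_sub_one_iff two_le_card] at h
      exact Nat.dvd_one.1 h
    refine ⟨{ toFun := fun t => ⟨(φ t : Matrix (Fin n) (Fin n) F),
                (Matrix.GeneralLinearGroup.val_det_apply (φ t)).symm.trans (congrArg Units.val (hdet t))⟩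
              map_one' := Subtype.ext (by simp)
              map_mul' := fun s t => Subtype.ext (by simp; rfl) }, fun s t h => hφ (Units.ext ?_)⟩
    exact congrArg Subtype.val h


/-- Sylow subgroups of `SL_n(q)` for large primes. Let `F` be a field with `q` elements and `r` a prime with `r > n` and `r ∤ q` (so `r` does not divide the order `n!` of the Weyl group). Let `d` be the multiplicative order of `q` modulo `r`, `a` the number of integers `i` with `2 ≤ i ≤ n` divisible by `d` (the degrees of the Weyl group are `2, …, n`), and `m` the `r`-part of the value at `q` of the `d`-th cyclotomic polynomial. Then every Sylow `r`-subgroup of `SL_n(q)` is a direct product of `a` cyclic groups of order `m`. -/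
theorem result {F : Type*} [Field F] [Fintype F] {q : ℕ} (hq : Fintype.card F = q) (n : ℕ)
    (r : ℕ) [Fact r.Prime] (hrn : n < r) (hrq : ¬ r ∣ q) (P : Sylow r (Matrix.SpecialLinearGroup (Fin n) F)) :
    Nonempty (↥(P : Subgroup (Matrix.SpecialLinearGroup (Fin n) F)) ≃*
      (Fin ((Finset.Icc 2 n).filter (fun i => orderOf (q : ZMod r) ∣ i)).card →
        Multiplicative (ZMod (r ^ padicValNat r ((Polynomial.cyclotomic (orderOf (q : ZMod r)) ℤ).eval (q : ℤ)).natAbs)))) := by
  subst hq
  classical
  obtain ⟨φ, hφ⟩ := exists_SL_hom (F := F) (n := n) hrq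
  exact iso_of_hom φ hφ (card_SL_factorization hrn hrq) P

end Cfsg.Agent.S2379
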