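import Cfsg.Statements.S2383
import Cfsg.Agent.SimpleFacts.ChevalleyModularWeights
import Cfsg.Agent.Lib.Chevalley.Types.OrderB2
import Cfsg.Agent.Lib.Chevalley.Types.OrderD4
import Cfsg.Agent.Lib.Chevalley.Types.OrderE7
-- import your own Cfsg.Agent.* helpers here

set_option autoImplicit false
open Cfsg

namespace Cfsg.Agent.S2383

/-- Steinberg's count of semisimple classes in characteristic 2 for the types B₂, D₄, E₇, where the finite simply connected group has trivial centre and so coincides with the Chevalley group: for the Chevalley group of type B₂, D₄ or E₇ over a field with `q` elements of characteristic 2, the conjugacy classes of elements of odd order number exactly `q^l`, `l` the rank. -/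
theorem result {F : Type*} [Field F] [Fintype F] {q : ℕ} (hq : Fintype.card F = q) [CharP F 2]
    (D : Cfsg.Lie.ChevalleyDatum) (hD : D ∈ [Cfsg.Lie.chevB2, Cfsg.Lie.chevD4, Cfsg.Lie.chevE7]) :
    Nat.card {c : ConjClasses ↥(D.group F) // ∃ g : ↥(D.group F), ConjClasses.mk g = c ∧ Odd (orderOf g)} = q ^ D.rank := by
  haveI : Fact (Nat.Prime 2) := ⟨Nat.prime_two⟩
  have h2 : Nat.gcd (Fintype.card F - 1) 2 = 1 := by
    obtain ⟨f, -, hf⟩ := FiniteField.card F 2
    have hev : Even (Fintype.card F) := hf ▸ (Nat.even_pow.2 ⟨even_two, f.2.ne'⟩)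
    have hpos := Fintype.card_pos (α := F)
    obtain ⟨r, hr⟩ := hev
    exact (Nat.Prime.coprime_iff_not_dvd Nat.prime_two).2 (by omega) |>.symm
  simp only [← Nat.coprime_two_right]
  simp only [List.mem_cons, List.not_mem_nil, or_false] at hD
  rcases hD with rfl | rfl | rfl
  · exact Cfsg.Agent.SimpleFacts.ChevalleyModularWeights.card_semisimple_classes
      Cfsg.Agent.Chevalley.Types.B2.certified 2 hq
      (ed := Cfsg.Agent.Chevalley.Types.OrderB2.ed) (Cfsg.Agent.Chevalley.Types.OrderB2.card_H F)
      (fun i => by fin_cases i <;> first | exact Nat.gcd_one_right _ | exact h2)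
  · exact Cfsg.Agent.SimpleFacts.ChevalleyModularWeights.card_semisimple_classes
      Cfsg.Agent.Chevalley.Types.D4.certified 2 hq
      (ed := Cfsg.Agent.Chevalley.Types.OrderD4.ed) (Cfsg.Agent.Chevalley.Types.OrderD4.card_H F)
      (fun i => by fin_cases i <;> first | exact Nat.gcd_one_right _ | exact h2)
  · exact Cfsg.Agent.SimpleFacts.ChevalleyModularWeights.card_semisimple_classes
      Cfsg.Agent.Chevalley.Types.E7.certified 2 hq
      (ed := Cfsg.Agent.Chevalley.Types.OrderE7.ed) (Cfsg.Agent.Chevalley.Types.OrderE7.card_H F)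
      (fun i => by fin_cases i <;> first | exact Nat.gcd_one_right _ | exact h2)
end Cfsg.Agent.S2383
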