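import Cfsg.Statements.S2388
import Mathlib
import Cfsg.Agent.Lib.Classical.SemisimpleConj

set_option autoImplicit false
open Cfsg Cfsg.Agent.Classical.SemisimpleConj

namespace Cfsg.Agent.S2388

/-- In `SL_n(q)`, `q` a power of the prime `p`, two elements of order prime to `p` with the same characteristic polynomial are conjugate in `SL_n(q)` (not merely in `GL_n`). -/
theorem result {F : Type*} [Field F] [Fintype F] (p : ℕ) [Fact p.Prime] [CharP F p] (n : ℕ)
    (g h : Matrix.SpecialLinearGroup (Fin n) F) (hg : (orderOf g).Coprime p) (hh : (orderOf h).Coprime p)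
    (hc : (g : Matrix (Fin n) (Fin n) F).charpoly = (h : Matrix (Fin n) (Fin n) F).charpoly) : IsConj g h := by
  rcases Nat.eq_zero_or_pos n with rfl | hn
  · rw [Subsingleton.elim g h]
  haveI : Nonempty (Fin n) := ⟨⟨0, hn⟩⟩
  have hcast : ∀ {x : ℕ}, x.Coprime p → (x : F) ≠ 0 := fun {x} hx h0 =>
    ((Fact.out : p.Prime).coprime_iff_not_dvd.1 hx.symm) ((CharP.cast_eq_zero_iff F p _).1 h0)
  obtain ⟨k, hkdef⟩ : ∃ k, k = orderOf g * orderOf h := ⟨_, rfl⟩
  have hk : (k : F) ≠ 0 := by rw [hkdef, Nat.cast_mul]; exact mul_ne_zero (hcast hg) (hcast hh)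
  have hgk : (g : Matrix (Fin n) (Fin n) F) ^ k = 1 := by
    rw [← Matrix.SpecialLinearGroup.coe_pow, hkdef, pow_mul, pow_orderOf_eq_one, one_pow,
      Matrix.SpecialLinearGroup.coe_one]
  have hhk : (h : Matrix (Fin n) (Fin n) F) ^ k = 1 := by
    rw [← Matrix.SpecialLinearGroup.coe_pow, hkdef, mul_comm, pow_mul, pow_orderOf_eq_one, one_pow,
      Matrix.SpecialLinearGroup.coe_one]
  obtain ⟨M, hM⟩ := exists_matrix_conj _ _ hk hgk hhk hc
  obtain ⟨C, hC, hdet⟩ := Cfsg.Agent.Classical.CentralizerDet.exists_commute_det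
    (Matrix.toLinAlgEquiv' (g : Matrix (Fin n) (Fin n) F)) hk (by rw [← map_pow, hgk, map_one])
    ((M : Matrix (Fin n) (Fin n) F).det)⁻¹
  obtain ⟨D, rfl⟩ := Matrix.toLinAlgEquiv'.surjective C
  rw [← map_mul, ← map_mul] at hC
  have hD : D.det = ((M : Matrix (Fin n) (Fin n) F).det)⁻¹ := (LinearMap.det_toLin' D).symm.trans hdet
  have hMdet : (M : Matrix (Fin n) (Fin n) F).det ≠ 0 :=
    ((Matrix.isUnit_iff_isUnit_det _).1 M.isUnit).ne_zero
  let c : Matrix.SpecialLinearGroup (Fin n) F :=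
    ⟨(M : Matrix (Fin n) (Fin n) F) * D, by rw [Matrix.det_mul, hD, mul_inv_cancel₀ hMdet]⟩
  refine isConj_iff.2 ⟨c, mul_inv_eq_iff_eq_mul.2 (Subtype.ext ?_)⟩
  show (M : Matrix (Fin n) (Fin n) F) * D * (g : Matrix (Fin n) (Fin n) F) =
    (h : Matrix (Fin n) (Fin n) F) * ((M : Matrix (Fin n) (Fin n) F) * D)
  rw [mul_assoc, Matrix.toLinAlgEquiv'.injective hC, ← mul_assoc, hM, mul_assoc]

end Cfsg.Agent.S2388
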