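import Cfsg.Statements.S2384
import Cfsg.Agent.Lib.Classical.SemisimpleConj
import Cfsg.Agent.S2388

set_option autoImplicit false
open Cfsg

namespace Cfsg.Agent.S2384

open Polynomial Cfsg.Agent.Classical.SemisimpleConj

theorem card_monic {F : Type*} [Field F] [Fintype F] (m : ℕ) (a : F) :
    Nat.card {c : F[X] // c.Monic ∧ c.natDegree = m + 1 ∧ c.coeff 0 = a} = Fintype.card F ^ m := by
  classical
  let E := (monicEquivDegreeLT (R := F) (m + 1)).trans (degreeLTEquiv F (m + 1)).toEquiv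
  have hE : ∀ c, E c 0 = c.1.coeff 0 := fun c => by
    show c.1.eraseLead.coeff 0 = c.1.coeff 0
    exact eraseLead_coeff_of_ne 0 (by rw [c.2.2]; omega)
  let e₁ : {c : F[X] // c.Monic ∧ c.natDegree = m + 1 ∧ c.coeff 0 = a} ≃
      {c : {c : F[X] // c.Monic ∧ c.natDegree = m + 1} // c.1.coeff 0 = a} :=
    (Equiv.subtypeEquivRight fun c => by tauto).trans
      (Equiv.subtypeSubtypeEquivSubtypeInter _ (fun c : F[X] => c.coeff 0 = a)).symm
  let e₂ : {c : {c : F[X] // c.Monic ∧ c.natDegree = m + 1} // c.1.coeff 0 = a} ≃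
      {b : Fin (m + 1) → F // b 0 = a} := E.subtypeEquiv fun c => by rw [hE]
  let e₃ : {b : Fin (m + 1) → F // b 0 = a} ≃ (Fin m → F) :=
    { toFun := fun b => Fin.tail b.1
      invFun := fun y => ⟨Fin.cons a y, by simp⟩
      left_inv := fun b => Subtype.ext (by
        conv_rhs => rw [← Fin.cons_self_tail b.1, b.2])
      right_inv := fun y => by simp }
  rw [Nat.card_congr (e₁.trans (e₂.trans e₃)), Nat.card_fun, Nat.card_eq_fintype_card,
    Nat.card_eq_fintype_card, Fintype.card_fin]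


/-- In `SL_n(q)`, `q` a power of the prime `p`, the number of conjugacy classes of elements of order prime to `p` (the semisimple classes) is `q^(n-1)`. -/
theorem result {F : Type*} [Field F] [Fintype F] {q : ℕ} (hq : Fintype.card F = q) (p : ℕ) [Fact p.Prime] [CharP F p] (n : ℕ) (hn : 1 ≤ n) :
    Nat.card {c : ConjClasses (Matrix.SpecialLinearGroup (Fin n) F) //
      ∃ g : Matrix.SpecialLinearGroup (Fin n) F, ConjClasses.mk g = c ∧ (orderOf g).Coprime p} = q ^ (n - 1) := by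
  obtain ⟨m, rfl⟩ := Nat.exists_eq_succ_of_ne_zero (Nat.one_le_iff_ne_zero.1 hn)
  subst hq
  rw [Nat.succ_sub_one, ← card_monic m ((-1 : F) ^ (m + 1))]
  have hdetc : ∀ (M : Matrix (Fin (m + 1)) (Fin (m + 1)) F),
      M.det = (-1) ^ (m + 1) * M.charpoly.coeff 0 := fun M => by
    rw [Matrix.det_eq_sign_charpoly_coeff, Fintype.card_fin]
  have hsq : ((-1 : F) ^ (m + 1)) * (-1) ^ (m + 1) = 1 := by
    rw [← mul_pow, neg_one_mul, neg_neg, one_pow]
  have hex : ∀ c : {c : Polynomial F // c.Monic ∧ c.natDegree = m + 1 ∧ c.coeff 0 = (-1 : F) ^ (m + 1)},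
      ∃ g : Matrix.SpecialLinearGroup (Fin (m + 1)) F, (orderOf g).Coprime p ∧
        (g : Matrix (Fin (m + 1)) (Fin (m + 1)) F).charpoly = c.1 := fun ⟨c, hcm, hcd, hc0⟩ => by
    obtain ⟨A, k, hk, hA, hAc⟩ := exists_matrix (m + 1) c hcd hcm (by
      rw [hc0]; exact pow_ne_zero _ (neg_ne_zero.2 one_ne_zero))
    have hdet : A.det = 1 := by rw [hdetc, hAc, hc0, hsq]
    refine ⟨⟨A, hdet⟩, Nat.Coprime.symm ((Fact.out : p.Prime).coprime_iff_not_dvd.2 fun h => hk
      ((CharP.cast_eq_zero_iff F p k).2 (h.trans (orderOf_dvd_of_pow_eq_one (Subtype.ext ?_))))), hAc⟩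
    exact (Matrix.SpecialLinearGroup.coe_pow (⟨A, hdet⟩ : Matrix.SpecialLinearGroup (Fin (m + 1)) F) k).trans hA
  choose rep hrep hrepc using hex
  refine (Nat.card_congr (Equiv.ofBijective (fun c => (⟨ConjClasses.mk (rep c), rep c, rfl, hrep c⟩ :
    {c : ConjClasses (Matrix.SpecialLinearGroup (Fin (m + 1)) F) //
      ∃ g, ConjClasses.mk g = c ∧ (orderOf g).Coprime p})) ⟨?_, ?_⟩)).symm
  · intro c d h
    obtain ⟨u, hu⟩ := isConj_iff.1 (ConjClasses.mk_eq_mk_iff_isConj.1 (congrArg Subtype.val h))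
    refine Subtype.ext ?_
    rw [← hrepc c, ← hrepc d, ← hu, Matrix.SpecialLinearGroup.coe_mul,
      Matrix.SpecialLinearGroup.coe_mul, Matrix.charpoly_mul_comm, ← mul_assoc,
      ← Matrix.SpecialLinearGroup.coe_mul, inv_mul_cancel, Matrix.SpecialLinearGroup.coe_one, one_mul]
  · rintro ⟨_, g, rfl, hg⟩
    let c : {c : Polynomial F // c.Monic ∧ c.natDegree = m + 1 ∧ c.coeff 0 = (-1 : F) ^ (m + 1)} :=
      ⟨_, Matrix.charpoly_monic (g : Matrix (Fin (m + 1)) (Fin (m + 1)) F),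
        (Matrix.charpoly_natDegree_eq_dim _).trans (Fintype.card_fin _), by
          have h1 := hdetc (g : Matrix (Fin (m + 1)) (Fin (m + 1)) F)
          rw [g.det_coe] at h1
          calc (g : Matrix (Fin (m + 1)) (Fin (m + 1)) F).charpoly.coeff 0
              = ((-1 : F) ^ (m + 1) * (-1) ^ (m + 1)) *
                (g : Matrix (Fin (m + 1)) (Fin (m + 1)) F).charpoly.coeff 0 := by rw [hsq, one_mul]
            _ = _ := by rw [mul_assoc, ← h1, mul_one]⟩
    exact ⟨c, Subtype.ext (ConjClasses.mk_eq_mk_iff_isConj.2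
      (Cfsg.Agent.S2388.result p (m + 1) (rep c) g (hrep c) hg (hrepc c)))⟩

end Cfsg.Agent.S2384
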