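import Cfsg.Statements.S2386
import Cfsg.Agent.SimpleFacts.UnitarySemisimple
import Cfsg.Agent.Lib.Classical.UnitaryTwo


set_option autoImplicit false
set_option maxHeartbeats 1000000
set_option linter.style.haveILetI false
open Cfsg

namespace Cfsg.Agent.S2386

open Polynomial Matrix Cfsg.Agent.Forms Cfsg.Agent.Classical
open Cfsg.Agent.SimpleFacts.UnitarySemisimple

variable {F : Type*} [Field F] [Fintype F] {q : ℕ} (hF : Fintype.card F = q ^ 2)

include hF in
theorem card_twisted (s : F) (hs : s * s = 1) (hsq : s ^ q = s) :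
    ∀ m : ℕ, (Even m ∨ s = 1) →
      Nat.card {f : Fin m → F // ∀ i, f i.rev = s * f i ^ q} = q ^ m
  | 0, _ => by
    rw [pow_zero, Nat.card_eq_one_iff_unique]
    exact ⟨⟨fun a b => Subtype.ext (Subsingleton.elim _ _)⟩, ⟨⟨0, fun i => i.elim0⟩⟩⟩
  | 1, h => by
    obtain rfl : s = 1 := h.resolve_left (by decide)
    let e : {f : Fin 1 → F // ∀ i, f i.rev = 1 * f i ^ q} ≃ Unitary.fixField hF :=
      { toFun := fun f => ⟨f.1 0, by
          have h := f.2 0
          rw [one_mul, show (0 : Fin 1).rev = 0 from Subsingleton.elim _ _] at h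
          exact h.symm⟩
        invFun := fun x => ⟨fun _ => x, fun i => by
          rw [one_mul]; exact ((Unitary.mem_fixField hF).1 x.2).symm⟩
        left_inv := fun f => Subtype.ext (funext fun i => congrArg f.1 (Subsingleton.elim _ _))
        right_inv := fun x => rfl }
    rw [Nat.card_congr e, Unitary.natCard_fixField, pow_one]
  | m + 2, h => by
    have hm : Even m ∨ s = 1 := h.imp_left fun h => by
      rwa [Nat.even_add, iff_true_right (by decide : Even 2)] at h
    let e : {f : Fin (m + 2) → F // ∀ i, f i.rev = s * f i ^ q} ≃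
        F × {f : Fin m → F // ∀ i, f i.rev = s * f i ^ q} :=
      { toFun := fun f => (f.1 0, ⟨fun i => f.1 i.castSucc.succ, fun i => by
          have := f.2 i.castSucc.succ
          rwa [Fin.rev_succ, Fin.rev_castSucc, ← Fin.succ_castSucc] at this⟩)
        invFun := fun y => ⟨Fin.cons y.1 (Fin.snoc y.2.1 (s * y.1 ^ q)), fun i => by
          induction i using Fin.cases with
          | zero =>
            rw [Fin.rev_zero, ← Fin.succ_last, Fin.cons_succ, Fin.cons_zero, Fin.snoc_last]
          | succ i =>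
            induction i using Fin.lastCases with
            | last =>
              rw [Fin.succ_last, Fin.rev_last, Fin.cons_zero, ← Fin.succ_last, Fin.cons_succ,
                Fin.snoc_last, mul_pow, HermStd.pow_q_q hF, hsq, ← mul_assoc, hs, one_mul]
            | cast j =>
              rw [Fin.rev_succ, Fin.rev_castSucc, ← Fin.succ_castSucc, Fin.cons_succ, Fin.cons_succ,
                Fin.snoc_castSucc, Fin.snoc_castSucc, y.2.2 j]⟩
        left_inv := fun f => Subtype.ext (funext fun i => by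
          induction i using Fin.cases with
          | zero => simp
          | succ i =>
            induction i using Fin.lastCases with
            | last =>
              have := f.2 0
              rw [Fin.rev_zero] at this
              simp [this]
            | cast j => simp)
        right_inv := fun y => Prod.ext (by simp) (Subtype.ext (funext fun j => by simp)) }
    rw [Nat.card_congr e, Nat.card_prod, card_twisted s hs hsq m hm, Nat.card_eq_fintype_card, hF,
      ← pow_add, add_comm]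

include hF in
theorem card_good (m : ℕ) :
    Nat.card {c : F[X] // c.Monic ∧ c.natDegree = m + 1 ∧
      ∀ i ≤ m + 1, c.coeff i = (-1) ^ (m + 1) * c.coeff (m + 1 - i) ^ q} = q ^ m := by
  obtain ⟨s, hsdef⟩ : ∃ s : F, s = (-1) ^ (m + 1) := ⟨_, rfl⟩
  rw [← hsdef]
  have hs : s * s = 1 := by rw [hsdef, ← mul_pow, neg_one_mul, neg_neg, one_pow]
  have hsq : s ^ q = s := by
    rw [hsdef, ← HermStd.qHom_apply hF, map_pow, map_neg, map_one]
  have hq0 : q ≠ 0 := by have := HermStd.one_lt_q hF; omega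
  rw [← card_twisted hF s hs hsq m (by
    rcases Nat.even_or_odd m with h | h
    · exact Or.inl h
    · right; rw [hsdef, Even.neg_one_pow (Nat.even_add_one.2 (Nat.not_even_iff_odd.2 h))])]
  let E := (monicEquivDegreeLT (R := F) (m + 1)).trans (degreeLTEquiv F (m + 1)).toEquiv
  have hE : ∀ c (i : Fin (m + 1)), E c i = c.1.coeff i := fun c i => by
    show c.1.eraseLead.coeff i = c.1.coeff i
    exact eraseLead_coeff_of_ne _ (by rw [c.2.2]; omega)
  let e₁ : {c : F[X] // c.Monic ∧ c.natDegree = m + 1 ∧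
      ∀ i ≤ m + 1, c.coeff i = s * c.coeff (m + 1 - i) ^ q} ≃
      {c : {c : F[X] // c.Monic ∧ c.natDegree = m + 1} //
        ∀ i ≤ m + 1, c.1.coeff i = s * c.1.coeff (m + 1 - i) ^ q} :=
    (Equiv.subtypeEquivRight fun c => by tauto).trans
      (Equiv.subtypeSubtypeEquivSubtypeInter _
        (fun c : F[X] => ∀ i ≤ m + 1, c.coeff i = s * c.coeff (m + 1 - i) ^ q)).symm
  let e₂ : {c : {c : F[X] // c.Monic ∧ c.natDegree = m + 1} //
        ∀ i ≤ m + 1, c.1.coeff i = s * c.1.coeff (m + 1 - i) ^ q} ≃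
      {b : Fin (m + 1) → F // b 0 = s ∧ ∀ j : Fin m, Fin.tail b j.rev = s * Fin.tail b j ^ q} :=
    E.subtypeEquiv fun c => by
      have hl : c.1.coeff (m + 1) = 1 := by
        have := c.2.1.leadingCoeff
        rwa [leadingCoeff, c.2.2] at this
      simp only [hE, Fin.tail, Fin.val_zero, Fin.val_succ]
      constructor
      · intro h
        refine ⟨by rw [h 0 (Nat.zero_le _), Nat.sub_zero, hl, one_pow, mul_one], fun j => ?_⟩
        have := h ((j.rev : ℕ) + 1) (by omega)
        rwa [show m + 1 - ((j.rev : ℕ) + 1) = (j : ℕ) + 1 by simp [Fin.val_rev]; omega] at this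
      · rintro ⟨h0, h⟩ i hi
        rcases Nat.eq_zero_or_pos i with rfl | hi0
        · rw [Nat.sub_zero, hl, one_pow, mul_one, h0]
        rcases eq_or_lt_of_le hi with rfl | hi'
        · rw [Nat.sub_self, hl, h0, hsq, hs]
        have := h ⟨m - i, by omega⟩
        rwa [show (((⟨m - i, by omega⟩ : Fin m).rev : ℕ)) + 1 = i by simp [Fin.val_rev]; omega,
          show m - i + 1 = m + 1 - i by omega] at this
  let e₃ : {b : Fin (m + 1) → F // b 0 = s ∧ ∀ j : Fin m, Fin.tail b j.rev = s * Fin.tail b j ^ q} ≃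
      {f : Fin m → F // ∀ i, f i.rev = s * f i ^ q} :=
    { toFun := fun b => ⟨Fin.tail b.1, b.2.2⟩
      invFun := fun f => ⟨Fin.cons s f.1, by simpa using f.2⟩
      left_inv := fun b => Subtype.ext (by
        conv_rhs => rw [← Fin.cons_self_tail b.1, b.2.1])
      right_inv := fun f => by simp }
  exact Nat.card_congr (e₁.trans (e₂.trans e₃))


/-- In the special unitary group `SU_n(q)` (matrices of determinant one over the field with `q²` elements preserving the standard Hermitian form), `q` a power of the prime `p`, the number of conjugacy classes of elements of order prime to `p` is `q^(n-1)`. -/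
theorem result {F : Type*} [Field F] [Fintype F] {q : ℕ} (hF : Fintype.card F = q ^ 2) (p : ℕ) [Fact p.Prime] [CharP F p] (n : ℕ) (hn : 1 ≤ n) :
    Nat.card {c : ConjClasses ↥(Cfsg.SU n F q) // ∃ g : ↥(Cfsg.SU n F q), ConjClasses.mk g = c ∧ (orderOf g).Coprime p} = q ^ (n - 1) := by
  classical
  obtain ⟨m, rfl⟩ := Nat.exists_eq_succ_of_ne_zero (Nat.one_le_iff_ne_zero.1 hn)
  rw [Nat.succ_sub_one, ← card_good hF m]
  have hq0 : q ≠ 0 := by have := HermStd.one_lt_q hF; omega
  have hsq : ((-1 : F) ^ (m + 1)) ^ q = (-1) ^ (m + 1) := by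
    rw [← HermStd.qHom_apply hF, map_pow, map_neg, map_one]
  have hss : ((-1 : F) ^ (m + 1)) * (-1) ^ (m + 1) = 1 := by
    rw [← mul_pow, neg_one_mul, neg_neg, one_pow]
  have hti : ∀ c : F[X], c.natDegree = m + 1 → c.coeff 0 = (-1) ^ (m + 1) → ∀ i ≤ m + 1,
      (ti hF c).coeff i = (-1) ^ (m + 1) * c.coeff (m + 1 - i) ^ q := fun c hd h0 i hi => by
    rw [ti, coeff_C_mul, h0, hsq, coeff_reverse, natDegree_map, hd, revAt_le hi, coeff_map,
      HermStd.qHom_apply, inv_eq_of_mul_eq_one_left hss]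
  have hdetc : ∀ (M : Matrix (Fin (m + 1)) (Fin (m + 1)) F),
      M.det = (-1) ^ (m + 1) * M.charpoly.coeff 0 := fun M => by
    rw [Matrix.det_eq_sign_charpoly_coeff, Fintype.card_fin]
  have hex : ∀ c : {c : F[X] // c.Monic ∧ c.natDegree = m + 1 ∧
      ∀ i ≤ m + 1, c.coeff i = (-1) ^ (m + 1) * c.coeff (m + 1 - i) ^ q},
      ∃ g : ↥(Cfsg.SU (m + 1) F q), (orderOf g).Coprime p ∧
        ((g : Matrix.SpecialLinearGroup (Fin (m + 1)) F) :
          Matrix (Fin (m + 1)) (Fin (m + 1)) F).charpoly = c.1 := fun ⟨c, hcm, hcd, hcc⟩ => by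
    have hl : c.coeff (m + 1) = 1 := by
      have := hcm.leadingCoeff
      rwa [leadingCoeff, hcd] at this
    have h0 : c.coeff 0 = (-1) ^ (m + 1) := by
      rw [hcc 0 (Nat.zero_le _), Nat.sub_zero, hl, one_pow, mul_one]
    obtain ⟨B, k, hk, hBk, hB, hBc⟩ := exists_unitary hF c hcm hcd
      (by rw [h0]; exact pow_ne_zero _ (neg_ne_zero.2 one_ne_zero)) (by
        ext i
        by_cases hi : i ≤ m + 1
        · rw [hti c hcd h0 i hi, ← hcc i hi]
        · rw [coeff_eq_zero_of_natDegree_lt (by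
              rw [natDegree_ti hF (by rw [h0]; exact pow_ne_zero _ (neg_ne_zero.2 one_ne_zero))]
              omega),
            coeff_eq_zero_of_natDegree_lt (by omega)])
    have hdet : B.det = 1 := by rw [hdetc, hBc, h0, hss]
    let x : Matrix.SpecialLinearGroup (Fin (m + 1)) F := ⟨B, hdet⟩
    have hx : x ∈ Cfsg.SU (m + 1) F q :=
      (UnitaryConj.mem_GU_iff hF (Matrix.SpecialLinearGroup.toGL x)).2 hB
    refine ⟨⟨x, hx⟩, Nat.Coprime.symm ((Fact.out : p.Prime).coprime_iff_not_dvd.2 fun h => hk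
      ((CharP.cast_eq_zero_iff F p k).2 (h.trans (orderOf_dvd_of_pow_eq_one (Subtype.ext ?_))))), hBc⟩
    rw [Subgroup.coe_pow, Subgroup.coe_one]
    exact Subtype.ext ((Matrix.SpecialLinearGroup.coe_pow x k).trans hBk)
  choose rep hrep hrepc using hex
  refine (Nat.card_congr (Equiv.ofBijective (fun c => (⟨ConjClasses.mk (rep c), rep c, rfl, hrep c⟩ :
    {c : ConjClasses ↥(Cfsg.SU (m + 1) F q) //
      ∃ g, ConjClasses.mk g = c ∧ (orderOf g).Coprime p})) ⟨?_, ?_⟩)).symm
  · intro c d h
    obtain ⟨u, hu⟩ := isConj_iff.1 (ConjClasses.mk_eq_mk_iff_isConj.1 (congrArg Subtype.val h))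
    refine Subtype.ext ?_
    rw [← hrepc c, ← hrepc d, ← hu, Subgroup.coe_mul, Subgroup.coe_mul, Subgroup.coe_inv,
      Matrix.SpecialLinearGroup.coe_mul, Matrix.SpecialLinearGroup.coe_mul, Matrix.charpoly_mul_comm,
      ← mul_assoc, ← Matrix.SpecialLinearGroup.coe_mul, inv_mul_cancel,
      Matrix.SpecialLinearGroup.coe_one, one_mul]
  · rintro ⟨_, g, rfl, hg⟩
    obtain ⟨G, hG⟩ : ∃ G : Matrix (Fin (m + 1)) (Fin (m + 1)) F,
        G = ((g : Matrix.SpecialLinearGroup (Fin (m + 1)) F) : Matrix (Fin (m + 1)) (Fin (m + 1)) F) :=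
      ⟨_, rfl⟩
    have h1 : G.det = 1 := hG ▸ (g : Matrix.SpecialLinearGroup (Fin (m + 1)) F).det_coe
    have h2 : ti hF G.charpoly = G.charpoly := ti_charpoly hF (hG ▸
      (UnitaryConj.mem_GU_iff hF (Matrix.SpecialLinearGroup.toGL (g : Matrix.SpecialLinearGroup (Fin (m + 1)) F))).1 g.2)
    have hd : G.charpoly.natDegree = m + 1 :=
      (Matrix.charpoly_natDegree_eq_dim _).trans (Fintype.card_fin _)
    have h0 : G.charpoly.coeff 0 = (-1) ^ (m + 1) := by
      rw [hdetc] at h1
      calc G.charpoly.coeff 0 = ((-1) ^ (m + 1) * (-1) ^ (m + 1)) * G.charpoly.coeff 0 := by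
            rw [hss, one_mul]
        _ = _ := by rw [mul_assoc, h1, mul_one]
    let c : {c : F[X] // c.Monic ∧ c.natDegree = m + 1 ∧
        ∀ i ≤ m + 1, c.coeff i = (-1) ^ (m + 1) * c.coeff (m + 1 - i) ^ q} :=
      ⟨_, Matrix.charpoly_monic G, hd, fun i hi => by
        conv_lhs => rw [← h2]
        exact hti _ hd h0 i hi⟩
    exact ⟨c, Subtype.ext (ConjClasses.mk_eq_mk_iff_isConj.2
      (conj_of_charpoly hF (rep c) g (hrep c) hg ((hrepc c).trans (congrArg Matrix.charpoly hG))))⟩


end Cfsg.Agent.S2386
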