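import Cfsg.Statements.S2387
import Mathlib
import Cfsg.Agent.Lib.Classical.SemisimpleConj

set_option autoImplicit false
open scoped MatrixGroups
open Cfsg Cfsg.Agent.Classical.SemisimpleConj

namespace Cfsg.Agent.S2387

open Polynomial in
theorem card_monic {F : Type*} [Field F] [Fintype F] (m : ℕ) :
    Nat.card {c : F[X] // c.Monic ∧ c.natDegree = m + 1 ∧ c.coeff 0 ≠ 0} =
      (Fintype.card F - 1) * Fintype.card F ^ m := by
  classical
  let E := (monicEquivDegreeLT (R := F) (m + 1)).trans (degreeLTEquiv F (m + 1)).toEquiv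
  have hE : ∀ c, E c 0 = c.1.coeff 0 := fun c => by
    show c.1.eraseLead.coeff 0 = c.1.coeff 0
    exact eraseLead_coeff_of_ne 0 (by rw [c.2.2]; omega)
  let e₁ : {c : F[X] // c.Monic ∧ c.natDegree = m + 1 ∧ c.coeff 0 ≠ 0} ≃
      {c : {c : F[X] // c.Monic ∧ c.natDegree = m + 1} // c.1.coeff 0 ≠ 0} :=
    (Equiv.subtypeEquivRight fun c => by tauto).trans
      (Equiv.subtypeSubtypeEquivSubtypeInter _ (fun c : F[X] => c.coeff 0 ≠ 0)).symm
  let e₂ : {c : {c : F[X] // c.Monic ∧ c.natDegree = m + 1} // c.1.coeff 0 ≠ 0} ≃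
      {a : Fin (m + 1) → F // a 0 ≠ 0} := E.subtypeEquiv fun c => by rw [hE]
  let e₃ : {a : Fin (m + 1) → F // a 0 ≠ 0} ≃ {x : F // x ≠ 0} × (Fin m → F) :=
    { toFun := fun a => (⟨a.1 0, a.2⟩, Fin.tail a.1)
      invFun := fun y => ⟨Fin.cons y.1.1 y.2, by simpa using y.1.2⟩
      left_inv := fun a => Subtype.ext (Fin.cons_self_tail a.1)
      right_inv := fun y => by simp }
  rw [Nat.card_congr (e₁.trans (e₂.trans e₃)), Nat.card_prod, Nat.card_fun, Nat.card_eq_fintype_card,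
    Fintype.card_subtype_compl, Fintype.card_subtype_eq, Nat.card_eq_fintype_card,
    Nat.card_eq_fintype_card, Fintype.card_fin]

/-- In `GL_n(q)` with `n ≥ 1`, `q` a power of the prime `p`, the number of conjugacy classes of elements of order prime to `p` (diagonalisable over the algebraic closure; determined by the characteristic polynomial) is `(q - 1) q^(n-1)`. -/
theorem result {F : Type*} [Field F] [Fintype F] {q : ℕ} (hq : Fintype.card F = q) (p : ℕ) [Fact p.Prime] [CharP F p] (n : ℕ) (hn : 1 ≤ n) :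
    Nat.card {c : ConjClasses (GL (Fin n) F) // ∃ g : GL (Fin n) F, ConjClasses.mk g = c ∧ (orderOf g).Coprime p} = (q - 1) * q ^ (n - 1) := by
  obtain ⟨m, rfl⟩ := Nat.exists_eq_succ_of_ne_zero (Nat.one_le_iff_ne_zero.1 hn)
  subst hq
  rw [Nat.succ_sub_one, ← card_monic m]
  have hcast : ∀ {x : ℕ}, x.Coprime p → (x : F) ≠ 0 := fun {x} hx h0 =>
    ((Fact.out : p.Prime).coprime_iff_not_dvd.1 hx.symm) ((CharP.cast_eq_zero_iff F p _).1 h0)
  have hex : ∀ c : {c : Polynomial F // c.Monic ∧ c.natDegree = m + 1 ∧ c.coeff 0 ≠ 0},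
      ∃ g : GL (Fin (m + 1)) F, (orderOf g).Coprime p ∧
        (g : Matrix (Fin (m + 1)) (Fin (m + 1)) F).charpoly = c.1 := fun ⟨c, hcm, hcd, hc0⟩ => by
    obtain ⟨A, k, hk, hA, hAc⟩ := exists_matrix (m + 1) c hcd hcm hc0
    have hk0 : k ≠ 0 := fun h => hk (by rw [h, Nat.cast_zero])
    obtain ⟨g, hg⟩ : IsUnit A := IsUnit.of_pow_eq_one hA hk0
    refine ⟨g, Nat.Coprime.symm ((Fact.out : p.Prime).coprime_iff_not_dvd.2 fun h => hk
      ((CharP.cast_eq_zero_iff F p k).2 (h.trans (orderOf_dvd_of_pow_eq_one (Units.ext ?_))))), ?_⟩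
    · rw [Units.val_pow_eq_pow_val, hg, hA, Units.val_one]
    · rw [hg, hAc]
  choose rep hrep hrepc using hex
  refine (Nat.card_congr (Equiv.ofBijective (fun c => (⟨ConjClasses.mk (rep c), rep c, rfl, hrep c⟩ :
    {c : ConjClasses (GL (Fin (m + 1)) F) //
      ∃ g, ConjClasses.mk g = c ∧ (orderOf g).Coprime p})) ⟨?_, ?_⟩)).symm
  · intro c d h
    obtain ⟨u, hu⟩ := isConj_iff.1 (ConjClasses.mk_eq_mk_iff_isConj.1 (congrArg Subtype.val h))
    refine Subtype.ext ?_
    rw [← hrepc c, ← hrepc d, ← hu, Units.val_mul, Units.val_mul]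
    simp
  · rintro ⟨_, g, rfl, hg⟩
    have hdet : (g : Matrix (Fin (m + 1)) (Fin (m + 1)) F).det ≠ 0 :=
      ((Matrix.isUnit_iff_isUnit_det _).1 g.isUnit).ne_zero
    let c : {c : Polynomial F // c.Monic ∧ c.natDegree = m + 1 ∧ c.coeff 0 ≠ 0} :=
      ⟨_, Matrix.charpoly_monic (g : Matrix (Fin (m + 1)) (Fin (m + 1)) F),
        (Matrix.charpoly_natDegree_eq_dim _).trans (Fintype.card_fin _),
        fun h => hdet (by rw [Matrix.det_eq_sign_charpoly_coeff, h, mul_zero])⟩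
    refine ⟨c, Subtype.ext (ConjClasses.mk_eq_mk_iff_isConj.2 ?_)⟩
    obtain ⟨M, hM⟩ := exists_matrix_conj (rep c : Matrix (Fin (m + 1)) (Fin (m + 1)) F)
      (g : Matrix (Fin (m + 1)) (Fin (m + 1)) F) (k := orderOf (rep c) * orderOf g)
      (by rw [Nat.cast_mul]; exact mul_ne_zero (hcast (hrep c)) (hcast hg))
      (by rw [← Units.val_pow_eq_pow_val, pow_mul, pow_orderOf_eq_one, one_pow, Units.val_one])
      (by rw [← Units.val_pow_eq_pow_val, mul_comm, pow_mul, pow_orderOf_eq_one, one_pow,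
        Units.val_one]) (hrepc c)
    exact isConj_iff.2 ⟨M, mul_inv_eq_iff_eq_mul.2 (Units.ext (by simpa using hM))⟩

end Cfsg.Agent.S2387
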