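import Cfsg.Statements.S2389
import Cfsg.Agent.S2589
import Cfsg.Agent.Lib.Classical.SemisimpleConj


set_option autoImplicit false
open Cfsg

namespace Cfsg.Agent.S2389

/-- In the symplectic group `Sp_{2n}(q)`, `q` a power of the prime `p`, two elements of order prime to `p` with the same characteristic polynomial are conjugate in `Sp_{2n}(q)`. -/
theorem result {F : Type*} [Field F] [Fintype F] (p : ℕ) [Fact p.Prime] [CharP F p] (n : ℕ)
    (g h : ↥(Matrix.symplecticGroup (Fin n) F)) (hg : (orderOf g).Coprime p) (hh : (orderOf h).Coprime p)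
    (hc : (g : Matrix (Fin n ⊕ Fin n) (Fin n ⊕ Fin n) F).charpoly = (h : Matrix (Fin n ⊕ Fin n) (Fin n ⊕ Fin n) F).charpoly) :
    IsConj g h := by
  classical
  have hcast : ∀ {x : ℕ}, x.Coprime p → (x : F) ≠ 0 := fun {x} hx h0 =>
    ((Fact.out : p.Prime).coprime_iff_not_dvd.1 hx.symm) ((CharP.cast_eq_zero_iff F p _).1 h0)
  refine (Cfsg.Agent.S2589.result g h hg).2 ?_
  let e := Matrix.reindexAlgEquiv F F (finSumFinEquiv (m := n) (n := n))
  obtain ⟨M, hM⟩ := Cfsg.Agent.Classical.SemisimpleConj.exists_matrix_conj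
    (e (g : Matrix (Fin n ⊕ Fin n) (Fin n ⊕ Fin n) F))
    (e (h : Matrix (Fin n ⊕ Fin n) (Fin n ⊕ Fin n) F))
    (k := orderOf g * orderOf h)
    (by rw [Nat.cast_mul]; exact mul_ne_zero (hcast hg) (hcast hh))
    (by rw [← map_pow, ← SubmonoidClass.coe_pow, pow_mul, pow_orderOf_eq_one, one_pow,
      OneMemClass.coe_one, map_one])
    (by rw [← map_pow, ← SubmonoidClass.coe_pow, mul_comm, pow_mul, pow_orderOf_eq_one, one_pow,
      OneMemClass.coe_one, map_one])
    (by rw [Matrix.coe_reindexAlgEquiv, Matrix.charpoly_reindex, Matrix.charpoly_reindex]; exact hc)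
  refine ⟨Units.map e.symm.toMonoidHom M, ?_⟩
  show e.symm (M : Matrix _ _ F) * _ = _ * e.symm (M : Matrix _ _ F)
  apply e.injective
  rw [map_mul, map_mul, e.apply_symm_apply]
  exact hM

end Cfsg.Agent.S2389
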