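import Cfsg.Statements.S2391
import Mathlib

set_option autoImplicit false
open Cfsg Matrix

namespace Cfsg.Agent.S2391

section
variable {F : Type*} [Field F] {n : ℕ} (U : Subgroup (Matrix.SpecialLinearGroup (Fin n) F))

/-- The vectors fixed modulo `W`. -/
noncomputable def fixStep (W : Submodule F (Fin n → F)) : Submodule F (Fin n → F) :=
  ⨅ u : U, W.comap (Matrix.mulVecLin ((u : Matrix.SpecialLinearGroup (Fin n) F) : Matrix (Fin n) (Fin n) F) -
    LinearMap.id)

theorem mem_fixStep (W : Submodule F (Fin n → F)) (v : Fin n → F) :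
    v ∈ fixStep U W ↔ ∀ u ∈ U, (u : Matrix (Fin n) (Fin n) F).mulVec v - v ∈ W := by
  simp [fixStep, Submodule.mem_iInf]

/-- The fixed-point series. -/
noncomputable def fixSeries : ℕ → Submodule F (Fin n → F)
  | 0 => ⊥
  | i + 1 => fixStep U (fixSeries i)

theorem fixSeries_mono : Monotone (fixSeries U) := by
  refine monotone_nat_of_le_succ fun i => ?_
  induction i with
  | zero => exact bot_le
  | succ i ih => exact fun v hv => (mem_fixStep U _ v).2 fun u hu => ih ((mem_fixStep U _ v).1 hv u hu)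

theorem fixSeries_invariant {g : Matrix.SpecialLinearGroup (Fin n) F}
    (hg : g ∈ Subgroup.normalizer (U : Set (Matrix.SpecialLinearGroup (Fin n) F))) :
    ∀ i, ∀ v ∈ fixSeries U i, (g : Matrix (Fin n) (Fin n) F).mulVec v ∈ fixSeries U i := by
  intro i
  induction i with
  | zero => intro v hv; simp [fixSeries] at hv; simp [hv, fixSeries]
  | succ i ih =>
    intro v hv
    refine (mem_fixStep U _ _).2 fun u hu => ?_
    have hu' : g⁻¹ * u * g ∈ U := by
      have := (Subgroup.mem_normalizer_iff.1 (Subgroup.inv_mem _ hg) u).1 hu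
      rwa [inv_inv] at this
    have h := ih _ ((mem_fixStep U _ v).1 hv _ hu')
    rw [Matrix.mulVec_sub, Matrix.mulVec_mulVec, ← Matrix.SpecialLinearGroup.coe_mul, ← mul_assoc,
      ← mul_assoc, mul_inv_cancel, one_mul, Matrix.SpecialLinearGroup.coe_mul,
      ← Matrix.mulVec_mulVec] at h
    exact h

theorem lt_fixStep [Fintype F] (p : ℕ) [Fact p.Prime] [CharP F p] (hU : IsPGroup p U)
    {W : Submodule F (Fin n → F)} (hW : W ≠ ⊤)
    (hinv : ∀ u ∈ U, ∀ v ∈ W, (u : Matrix (Fin n) (Fin n) F).mulVec v ∈ W) :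
    ∃ v ∈ fixStep U W, v ∉ W := by
  let ρ : U → ((Fin n → F) ⧸ W →ₗ[F] (Fin n → F) ⧸ W) := fun u =>
    W.mapQ W (Matrix.mulVecLin ((u : Matrix.SpecialLinearGroup (Fin n) F) : Matrix (Fin n) (Fin n) F))
      fun v hv => hinv u u.2 v hv
  letI : MulAction U ((Fin n → F) ⧸ W) :=
    { smul := fun u x => ρ u x
      one_smul := fun x => by
        induction x using Submodule.Quotient.induction_on with
        | _ v =>
          show Submodule.Quotient.mk _ = _
          simp
      mul_smul := fun a b x => by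
        induction x using Submodule.Quotient.induction_on with
        | _ v =>
          show Submodule.Quotient.mk _ = Submodule.Quotient.mk _
          simp [Matrix.mulVec_mulVec] }
  haveI : Nontrivial ((Fin n → F) ⧸ W) := Submodule.Quotient.nontrivial_iff.2 hW
  haveI : Finite ((Fin n → F) ⧸ W) := Finite.of_surjective _ (Submodule.mkQ_surjective W)
  have hp : p ∣ Nat.card ((Fin n → F) ⧸ W) := by
    rw [Module.natCard_eq_pow_finrank (K := F), Nat.card_eq_fintype_card]
    obtain ⟨m, -, hm⟩ := FiniteField.card F p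
    rw [hm, ← pow_mul]
    exact dvd_pow_self p (Nat.mul_ne_zero m.ne_zero Module.finrank_pos.ne')
  obtain ⟨b, hb, hb0⟩ := hU.exists_fixed_point_of_prime_dvd_card_of_fixed_point ((Fin n → F) ⧸ W) hp
    (a := 0) (fun u => map_zero (ρ u))
  obtain ⟨v, rfl⟩ := Submodule.Quotient.mk_surjective W b
  refine ⟨v, (mem_fixStep U W v).2 fun u hu => ?_, fun hv => hb0 ((Submodule.Quotient.mk_eq_zero W).2 hv).symm⟩
  exact (Submodule.Quotient.eq W).1 (hb ⟨u, hu⟩)

end

/-- The Borel–Tits property of `SL_n(q)` in flag form: for a field `F` of characteristic `p` with finitely many elements and a non-trivial `p`-subgroup `U` of `SL_n(F)`, there is a flag `0 = V₀ < V₁ < ⋯ < V_{k+1} = F^n` with at least one proper non-zero member such that every element of the normaliser of `U` maps each `V_i` onto itself and every element of `U` acts trivially on each quotient `V_{i+1}/V_i` (so the normaliser lies in the parabolic subgroup of the flag and `U` in its unipotent radical). -/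
theorem result {F : Type*} [Field F] [Fintype F] (p : ℕ) [Fact p.Prime] [CharP F p] (n : ℕ)
    (U : Subgroup (Matrix.SpecialLinearGroup (Fin n) F)) (hU : IsPGroup p ↥U) (hne : U ≠ ⊥) :
    ∃ (k : ℕ) (V : Fin (k + 2) → Submodule F (Fin n → F)), 1 ≤ k ∧ StrictMono V ∧ V 0 = ⊥ ∧ V (Fin.last (k + 1)) = ⊤ ∧
      (∀ g ∈ Subgroup.normalizer (U : Set (Matrix.SpecialLinearGroup (Fin n) F)), ∀ i, (V i).map (Matrix.mulVecLin (g : Matrix (Fin n) (Fin n) F)) = V i) ∧
      (∀ u ∈ U, ∀ i : Fin (k + 1), ∀ v ∈ V i.succ, (u : Matrix (Fin n) (Fin n) F).mulVec v - v ∈ V (Fin.castSucc i)) := by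
  classical
  have hU' : U ≤ Subgroup.normalizer (U : Set (Matrix.SpecialLinearGroup (Fin n) F)) := Subgroup.le_normalizer
  have hstep : ∀ i, fixSeries U i ≠ ⊤ → fixSeries U i < fixSeries U (i + 1) := fun i hi => by
    obtain ⟨v, hv, hvn⟩ := lt_fixStep U p hU hi fun u hu => fixSeries_invariant U (hU' hu) i
    exact lt_of_le_not_ge (fixSeries_mono U (Nat.le_succ i)) fun h => hvn (h hv)
  have htop : ∃ i, fixSeries U i = ⊤ := by
    by_contra hno
    push Not at hno
    have hd : ∀ i, i ≤ Module.finrank F (fixSeries U i) := by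
      intro i
      induction i with
      | zero => exact Nat.zero_le _
      | succ i ih =>
        have := Submodule.finrank_lt_finrank_of_lt (hstep i (hno i))
        omega
    have := (hd (n + 1)).trans (Submodule.finrank_le _)
    rw [Module.finrank_fin_fun] at this
    omega
  obtain ⟨m, hm, hmin⟩ : ∃ m, fixSeries U m = ⊤ ∧ ∀ i < m, fixSeries U i ≠ ⊤ :=
    ⟨Nat.find htop, Nat.find_spec htop, fun i hi => Nat.find_min htop hi⟩
  have h1 : fixSeries U 1 ≠ ⊤ := fun h => hne ((Subgroup.eq_bot_iff_forall U).2 fun u hu => by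
    refine Subtype.ext (Matrix.ext_of_mulVec_single fun j => ?_)
    have := (mem_fixStep U ⊥ (Pi.single j 1)).1 (by
      show Pi.single j 1 ∈ fixSeries U 1
      rw [h]; trivial) u hu
    rw [Submodule.mem_bot, sub_eq_zero] at this
    rw [this, Matrix.SpecialLinearGroup.coe_one, Matrix.one_mulVec])
  have hm2 : 2 ≤ m := by
    by_contra hlt
    have hm1 : fixSeries U 1 = ⊤ := top_le_iff.1 (hm ▸ fixSeries_mono U (by omega))
    exact h1 hm1
  obtain ⟨k, rfl⟩ : ∃ k, m = k + 1 := ⟨m - 1, by omega⟩
  refine ⟨k, fun i => fixSeries U i, by omega, Fin.strictMono_iff_lt_succ.2 fun i => ?_, rfl, hm,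
    fun g hg i => ?_, fun u hu i v hv => ?_⟩
  · exact hstep i (hmin _ i.isLt)
  · refine le_antisymm ?_ fun v hv => ?_
    · rintro _ ⟨v, hv, rfl⟩
      exact fixSeries_invariant U hg _ v hv
    · refine ⟨_, fixSeries_invariant U (Subgroup.inv_mem _ hg) _ v hv, ?_⟩
      rw [Matrix.mulVecLin_apply, Matrix.mulVec_mulVec, ← Matrix.SpecialLinearGroup.coe_mul,
        mul_inv_cancel, Matrix.SpecialLinearGroup.coe_one, Matrix.one_mulVec]
  · exact (mem_fixStep U _ v).1 hv u hu

end Cfsg.Agent.S2391
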