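import Cfsg.Statements.S2392
import Cfsg.Agent.KnownSimple.CrossCharDegree
-- import your own Cfsg.Agent.* helpers here

set_option autoImplicit false
open scoped MatrixGroups
open Cfsg

namespace Cfsg.Agent.S2392

/-- A lower bound for representations in cross characteristic: for `n ≥ 3` and a field `F` with `q` elements, every homomorphism from `SL_n(F)` to `GL_d(K)`, `K` a field of characteristic different from that of `F`, whose kernel is central has `d ≥ q^(n-1) - 1`. -/
theorem result {F : Type*} [Field F] [Fintype F] {q : ℕ} (hq : Fintype.card F = q) (n : ℕ) (hn : 3 ≤ n)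
    {K : Type*} [Field K] (hK : ringChar K ≠ ringChar F) {d : ℕ}
    (ρ : Matrix.SpecialLinearGroup (Fin n) F →* GL (Fin d) K) (hker : ρ.ker ≤ Subgroup.center (Matrix.SpecialLinearGroup (Fin n) F)) :
    q ^ (n - 1) - 1 ≤ d := by
  subst hq
  obtain ⟨m, rfl⟩ : ∃ m, n = 1 + m := ⟨n - 1, by omega⟩
  let e : Unit ⊕ Fin m ≃ Fin (1 + m) := (Equiv.sumCongr ((Equiv.ofUnique Unit (Fin 1))) (Equiv.refl _)).trans finSumFinEquiv
  let φ : Matrix.SpecialLinearGroup (Unit ⊕ Fin m) F ≃* Matrix.SpecialLinearGroup (Fin (1 + m)) F :=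
    { toFun := fun A => ⟨Matrix.reindexAlgEquiv F F e A.1, by simp [A.2]⟩
      invFun := fun A => ⟨Matrix.reindexAlgEquiv F F e.symm A.1, by simp [A.2]⟩
      left_inv := fun A => Subtype.ext (by ext i j; simp)
      right_inv := fun A => Subtype.ext (by ext i j; simp)
      map_mul' := fun A B => Subtype.ext (map_mul (Matrix.reindexAlgEquiv F F e) A.1 B.1) }
  have h := KnownSimple.CrossCharDegree.special_linear_bound (m := m) (by omega) hK
    (ρ.comp φ.toMonoidHom) fun A hA => by
      rw [Subgroup.mem_center_iff]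
      intro B
      apply φ.injective
      rw [map_mul, map_mul]
      exact Subgroup.mem_center_iff.1 (hker hA) (φ B)
  rwa [Nat.add_sub_cancel_left]

end Cfsg.Agent.S2392
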