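import Cfsg.Statements.S2394
import Mathlib

set_option autoImplicit false
open scoped MatrixGroups
open Cfsg Matrix

namespace Cfsg.Agent.S2394

universe v

theorem two_mul_card_le {K : Type v} [Field K] [IsAlgClosed K] {ι : Type} {k : ℕ} (hk : (k : K) ≠ 0) :
    ∀ (s : Finset ι) {V : Type v} [AddCommGroup V] [Module K V] [FiniteDimensional K V]
      (J Y : ι → Module.End K V),
      (∀ i ∈ s, J i ^ k = 1 ∧ J i * J i ≠ 1 ∧ J i * Y i * J i = Y i ∧ Function.Injective (Y i)) →
      (∀ i ∈ s, ∀ j ∈ s, i ≠ j →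
        Commute (J i) (J j) ∧ Commute (J i) (Y j) ∧ Commute (Y i) (Y j)) →
      2 * s.card ≤ Module.finrank K V := by
  classical
  intro s
  induction s using Finset.strongInduction with
  | _ s ih =>
  intro V _ _ _ J Y h hc
  rcases s.eq_empty_or_nonempty with rfl | ⟨i0, hi0⟩
  · simp
  obtain ⟨hpow, hne, hinv, hYinj⟩ := h i0 hi0
  have hss : (J i0).IsSemisimple := Module.End.isSemisimple_of_squarefree_aeval_eq_zero
    (Polynomial.separable_X_pow_sub_C (1 : K) hk one_ne_zero).squarefree (by simp [hpow])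
  have htop : ⨆ μ : K, (J i0).eigenspace μ = ⊤ := by
    have := Module.End.iSup_maxGenEigenspace_eq_top (J i0)
    simpa only [hss.isFinitelySemisimple.maxGenEigenspace_eq_eigenspace] using this
  have key : ∀ N : Module.End K V,
      (∀ μ : K, ∀ v ∈ (J i0).eigenspace μ, N v = 0) → N = 0 := fun N hN => by
    refine LinearMap.ker_eq_top.1 (top_le_iff.1 (htop ▸ iSup_le fun μ v hv => ?_))
    exact hN μ v hv
  obtain ⟨lam, hlam, w, hw, hw0⟩ : ∃ μ : K, μ * μ ≠ 1 ∧ ∃ w ∈ (J i0).eigenspace μ, w ≠ 0 := by
    by_contra hall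
    push Not at hall
    refine hne (sub_eq_zero.1 (key _ fun μ v hv => ?_))
    by_cases hμ : μ * μ = 1
    · have e := Module.End.mem_eigenspace_iff.1 hv
      simp [Module.End.mul_apply, e, smul_smul, hμ]
    · simp [hall μ hμ v hv]
  have hlam0 : lam ≠ 0 := fun e => by
    subst e
    have e := Module.End.mem_eigenspace_iff.1 hw
    rw [zero_smul] at e
    have hk0 : k ≠ 0 := fun e' => hk (by rw [e', Nat.cast_zero])
    obtain ⟨m, rfl⟩ := Nat.exists_eq_succ_of_ne_zero hk0
    have h' := congrArg (fun f : Module.End K V => f w) hpow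
    simp [pow_succ, Module.End.mul_apply, e] at h'
    exact hw0 h'.symm
  have hll : lam ≠ lam⁻¹ := fun e => hlam (by nth_rw 2 [e]; exact mul_inv_cancel₀ hlam0)
  set E := (J i0).eigenspace lam with hE
  set E' := (J i0).eigenspace lam⁻¹ with hE'
  set P : Module.End K V := (J i0 - lam • 1) * (J i0 - lam⁻¹ • 1) with hP
  set R := LinearMap.range P with hR
  have hYE : ∀ v ∈ E, Y i0 v ∈ E' := by
    intro v hv
    have e := Module.End.mem_eigenspace_iff.1 hv
    refine Module.End.mem_eigenspace_iff.2 ?_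
    have h1 : J i0 (Y i0 (J i0 v)) = Y i0 v := by
      conv_rhs => rw [← hinv]
      rfl
    rw [e, map_smul, map_smul] at h1
    nth_rw 2 [← h1]
    rw [smul_smul, inv_mul_cancel₀ hlam0, one_smul]
  have hYE' : ∀ v ∈ E', Y i0 v ∈ E := by
    intro v hv
    have e := Module.End.mem_eigenspace_iff.1 hv
    refine Module.End.mem_eigenspace_iff.2 ?_
    have h1 : J i0 (Y i0 (J i0 v)) = Y i0 v := by
      conv_rhs => rw [← hinv]
      rfl
    rw [e, map_smul, map_smul] at h1
    nth_rw 2 [← h1]
    rw [smul_smul, mul_inv_cancel₀ hlam0, one_smul]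
  have hEle : E ⊔ E' ≤ LinearMap.ker P := by
    have hsw : (J i0 - lam • 1) * (J i0 - lam⁻¹ • 1) = (J i0 - lam⁻¹ • 1) * (J i0 - lam • 1) :=
      (((Commute.refl (J i0)).sub_left ((Commute.one_left (J i0)).smul_left lam)).sub_right
        ((Commute.one_right _).smul_right lam⁻¹)).eq
    refine sup_le (fun v hv => ?_) (fun v hv => ?_) <;> rw [LinearMap.mem_ker, hP]
    · rw [hsw, Module.End.mul_apply]
      simp [Module.End.mem_eigenspace_iff.1 hv]
    · rw [Module.End.mul_apply]
      simp [Module.End.mem_eigenspace_iff.1 hv]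
  have hdisj : Disjoint E E' := (Module.End.eigenspaces_iSupIndep (J i0)).pairwiseDisjoint hll
  have hEE : Module.finrank K E ≤ Module.finrank K E' := by
    refine LinearMap.finrank_le_finrank_of_injective (f := (Y i0).restrict hYE) fun a b hab => ?_
    exact Subtype.ext (hYinj (congrArg Subtype.val hab))
  have hdim : Module.finrank K E + Module.finrank K E' + Module.finrank K R ≤ Module.finrank K V := by
    have h1 := Submodule.finrank_sup_add_finrank_inf_eq E E'
    rw [hdisj.eq_bot, finrank_bot, add_zero] at h1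
    have h2 := Submodule.finrank_mono hEle
    have h3 := LinearMap.finrank_range_add_finrank_ker P
    rw [hR]
    omega
  have hEpos : 1 ≤ Module.finrank K E := by
    rw [Nat.one_le_iff_ne_zero, Ne, Submodule.finrank_eq_zero]
    intro e
    exact hw0 ((Submodule.mem_bot K).1 (e ▸ hw))
  have hinvar : ∀ N : Module.End K V, Commute (J i0) N →
      (∀ μ : K, ∀ v ∈ (J i0).eigenspace μ, N v ∈ (J i0).eigenspace μ) ∧ ∀ v ∈ R, N v ∈ R := by
    intro N hN
    refine ⟨fun μ v hv => Module.End.mem_eigenspace_iff.2 ?_, ?_⟩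
    · rw [← Module.End.mul_apply, hN.eq, Module.End.mul_apply, Module.End.mem_eigenspace_iff.1 hv, map_smul]
    · rintro _ ⟨v, rfl⟩
      have hPN : Commute P N :=
        (hN.sub_left ((Commute.one_left N).smul_left lam)).mul_left
          (hN.sub_left ((Commute.one_left N).smul_left lam⁻¹))
      exact ⟨N v, by rw [← Module.End.mul_apply, hPN.eq]; rfl⟩
  have hJc : ∀ j ∈ s.erase i0, Commute (J i0) (J j) ∧ Commute (J i0) (Y j) := fun j hj =>
    ⟨(hc i0 hi0 j (Finset.mem_of_mem_erase hj) (Finset.ne_of_mem_erase hj).symm).1,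
      (hc i0 hi0 j (Finset.mem_of_mem_erase hj) (Finset.ne_of_mem_erase hj).symm).2.1⟩
  have main : ∀ (W : Submodule K V) (t : Finset ι), t ⊆ s.erase i0 →
      (∀ j ∈ s.erase i0, (∀ v ∈ W, J j v ∈ W) ∧ (∀ v ∈ W, Y j v ∈ W)) →
      (∀ j ∈ t, ∃ v ∈ W, (J j * J j - 1) v ≠ 0) → 2 * t.card ≤ Module.finrank K W := by
    intro W t ht hW hnt
    let J' : ι → Module.End K W := fun j =>
      if hj : j ∈ s.erase i0 then (J j).restrict (hW j hj).1 else 1
    let Y' : ι → Module.End K W := fun j =>
      if hj : j ∈ s.erase i0 then (Y j).restrict (hW j hj).2 else 1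
    have hJ' : ∀ j ∈ s.erase i0, ∀ v : W, (J' j v : V) = J j v := fun j hj v => by
      simp only [J', dif_pos hj]; rfl
    have hY' : ∀ j ∈ s.erase i0, ∀ v : W, (Y' j v : V) = Y j v := fun j hj v => by
      simp only [Y', dif_pos hj]; rfl
    refine ih t ((Finset.ssubset_iff_of_subset (ht.trans (Finset.erase_subset i0 s))).2
      ⟨i0, hi0, fun hi => (Finset.notMem_erase i0 s) (ht hi)⟩) J' Y' (fun j hj => ?_)
      fun i hi j hj hij => ?_
    · obtain ⟨hp, -, hv, hinj⟩ := h j (Finset.mem_of_mem_erase (ht hj))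
      refine ⟨?_, fun e => ?_, LinearMap.ext fun v => Subtype.ext ?_, fun a b hab => ?_⟩
      · have hpw : ∀ (m : ℕ) (v : W), ((J' j ^ m) v : V) = (J j ^ m) (v : V) := by
          intro m
          induction m with
          | zero => intro v; rfl
          | succ m hm => intro v; rw [pow_succ, pow_succ, Module.End.mul_apply, Module.End.mul_apply, hm, hJ' j (ht hj)]
        exact LinearMap.ext fun v => Subtype.ext (by rw [hpw, hp]; rfl)
      · obtain ⟨v, hvW, hv0⟩ := hnt j hj
        refine hv0 ?_
        have e' := congrArg (fun f : Module.End K W => ((f ⟨v, hvW⟩ : W) : V)) e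
        simp only [Module.End.mul_apply, hJ' j (ht hj), Module.End.one_apply] at e'
        simp [Module.End.mul_apply, e']
      · simp only [Module.End.mul_apply, hJ' j (ht hj), hY' j (ht hj)]
        exact DFunLike.congr_fun hv (v : V)
      · have e' := congrArg Subtype.val hab
        rw [hY' j (ht hj), hY' j (ht hj)] at e'
        exact Subtype.ext (hinj e')
    · obtain ⟨c1, c2, c3⟩ := hc i (Finset.mem_of_mem_erase (ht hi)) j (Finset.mem_of_mem_erase (ht hj)) hij
      refine ⟨?_, ?_, ?_⟩ <;> refine LinearMap.ext fun v => Subtype.ext ?_ <;>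
        simp only [Module.End.mul_apply, hJ' i (ht hi), hJ' j (ht hj), hY' i (ht hi), hY' j (ht hj)]
      · exact DFunLike.congr_fun c1.eq (v : V)
      · exact DFunLike.congr_fun c2.eq (v : V)
      · exact DFunLike.congr_fun c3.eq (v : V)
  set B := (s.erase i0).filter fun j => ∃ v ∈ E, (J j * J j - 1) v ≠ 0 with hB
  set A := (s.erase i0) \ B with hA
  have hR' : 2 * A.card ≤ Module.finrank K R := by
    refine main R A Finset.sdiff_subset
      (fun j hj => ⟨(hinvar _ (hJc j hj).1).2, (hinvar _ (hJc j hj).2).2⟩) fun j hj => ?_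
    obtain ⟨hjs, hjB⟩ := Finset.mem_sdiff.1 hj
    have hE0 : ∀ v ∈ E, (J j * J j - 1) v = 0 := fun v hv => by_contra fun hne' =>
      hjB (Finset.mem_filter.2 ⟨hjs, v, hv, hne'⟩)
    by_contra hR0
    push Not at hR0
    refine (h j (Finset.mem_of_mem_erase hjs)).2.1 (sub_eq_zero.1 (key _ fun μ v hv => ?_))
    by_cases h1 : μ = lam
    · subst h1; exact hE0 v hv
    by_cases h2 : μ = lam⁻¹
    · subst h2
      obtain ⟨c1, -, -⟩ := hc j (Finset.mem_of_mem_erase hjs) i0 hi0 (Finset.ne_of_mem_erase hjs)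
      have c2 := (hc j (Finset.mem_of_mem_erase hjs) i0 hi0 (Finset.ne_of_mem_erase hjs)).2.1
      refine hYinj ?_
      rw [map_zero, ← Module.End.mul_apply, ← ((c2.mul_left c2).sub_left (Commute.one_left _)).eq,
        Module.End.mul_apply]
      exact hE0 _ (hYE' v hv)
    · have hμ : (μ - lam) * (μ - lam⁻¹) ≠ 0 := mul_ne_zero (sub_ne_zero.2 h1) (sub_ne_zero.2 h2)
      have hPv : P v = ((μ - lam) * (μ - lam⁻¹)) • v := by
        have e := Module.End.mem_eigenspace_iff.1 hv
        rw [hP, Module.End.mul_apply]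
        simp [e, smul_smul, sub_smul, smul_sub, mul_sub, sub_mul, mul_comm]
        module
      exact hR0 v ⟨((μ - lam) * (μ - lam⁻¹))⁻¹ • v, by
        rw [map_smul, hPv, smul_smul, inv_mul_cancel₀ hμ, one_smul]⟩
  have hE1 : 2 * B.card ≤ Module.finrank K E :=
    main E B (Finset.filter_subset _ _)
      (fun j hj => ⟨(hinvar _ (hJc j hj).1).1 lam, (hinvar _ (hJc j hj).2).1 lam⟩)
      fun j hj => (Finset.mem_filter.1 hj).2
  have hs1 : A.card + B.card = s.card - 1 := by
    rw [hA, Finset.card_sdiff_add_card_eq_card (Finset.filter_subset _ _),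
      Finset.card_erase_of_mem hi0]
  have := Finset.card_pos.2 ⟨i0, hi0⟩
  omega

theorem exists_pair {F : Type*} [Field F] [Fintype F] :
    ∃ (k : ℕ) (J Y : Matrix.SpecialLinearGroup (Fin 2) F),
      (k : F) ≠ 0 ∧ J ^ k = 1 ∧ J * J ≠ 1 ∧ J * Y * J = Y := by
  by_cases h2 : (2 : F) = 0
  · have h1 : (1 : F) + 1 = 0 := by linear_combination h2
    have hm : (-1 : F) = 1 := by linear_combination -h1
    let J : Matrix.SpecialLinearGroup (Fin 2) F :=
      ⟨!![0, 1; 1, 1], by rw [det_fin_two_of]; linear_combination -h1⟩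
    let Y : Matrix.SpecialLinearGroup (Fin 2) F :=
      ⟨!![0, 1; 1, 0], by rw [det_fin_two_of]; linear_combination -h1⟩
    have hJJ : ((J * J : Matrix.SpecialLinearGroup (Fin 2) F) : Matrix (Fin 2) (Fin 2) F) = !![1, 1; 1, 0] := by
      rw [Matrix.SpecialLinearGroup.coe_mul]
      ext i j; fin_cases i <;> fin_cases j <;> simp [J, Matrix.mul_apply, Fin.sum_univ_two, h1]
    refine ⟨3, J, Y, ?_, ?_, fun e => ?_, ?_⟩
    · intro h3
      exact one_ne_zero (α := F) (by push_cast at h3; linear_combination h3 - h2)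
    · refine Subtype.ext ?_
      rw [pow_succ, sq, Matrix.SpecialLinearGroup.coe_mul, hJJ, Matrix.SpecialLinearGroup.coe_one]
      ext i j; fin_cases i <;> fin_cases j <;> simp [J, Matrix.mul_apply, Fin.sum_univ_two, h1]
    · have := congrFun (congrFun (congrArg (fun M : Matrix.SpecialLinearGroup (Fin 2) F =>
        (M : Matrix (Fin 2) (Fin 2) F)) e) 0) 1
      rw [hJJ] at this
      simp at this
    · refine Subtype.ext ?_
      rw [Matrix.SpecialLinearGroup.coe_mul, Matrix.SpecialLinearGroup.coe_mul]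
      ext i j; fin_cases i <;> fin_cases j <;> simp [J, Y, Matrix.mul_apply, Fin.sum_univ_two, h1]
  · have hchar : ringChar F ≠ 2 := fun hc => h2 (by
      rw [show (2 : F) = ((2 : ℕ) : F) by norm_num, ← hc, ringChar.Nat.cast_ringChar])
    obtain ⟨a, b, hab⟩ := FiniteField.exists_root_sum_quadratic
      (f := (Polynomial.X ^ 2 : Polynomial F)) (g := Polynomial.X ^ 2 - Polynomial.C (-1 : F))
      (Polynomial.degree_X_pow 2) (Polynomial.degree_X_pow_sub_C (by norm_num) _)
      (FiniteField.odd_card_of_char_ne_two hchar)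
    simp only [Polynomial.eval_sub, Polynomial.eval_pow, Polynomial.eval_X, Polynomial.eval_C] at hab
    let J : Matrix.SpecialLinearGroup (Fin 2) F := ⟨!![0, -1; 1, 0], by simp [det_fin_two_of]⟩
    let Y : Matrix.SpecialLinearGroup (Fin 2) F :=
      ⟨!![a, b; b, -a], by rw [det_fin_two_of]; linear_combination -hab⟩
    have hJJ : ((J * J : Matrix.SpecialLinearGroup (Fin 2) F) : Matrix (Fin 2) (Fin 2) F) = -1 := by
      rw [Matrix.SpecialLinearGroup.coe_mul]
      ext i j; fin_cases i <;> fin_cases j <;> simp [J, Matrix.mul_apply, Fin.sum_univ_two]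
    refine ⟨4, J, Y, ?_, ?_, fun e => ?_, ?_⟩
    · intro h4
      have : (2 : F) * 2 = 0 := by push_cast at h4; linear_combination h4
      rcases mul_eq_zero.1 this with e | e <;> exact h2 e
    · refine Subtype.ext ?_
      rw [show J ^ 4 = J * J * (J * J) by simp [pow_succ, mul_assoc], Matrix.SpecialLinearGroup.coe_mul, hJJ,
        Matrix.SpecialLinearGroup.coe_one]
      simp
    · have := congrFun (congrFun (congrArg (fun M : Matrix.SpecialLinearGroup (Fin 2) F =>
        (M : Matrix (Fin 2) (Fin 2) F)) e) 0) 0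
      rw [hJJ] at this
      simp at this
      exact h2 (by linear_combination -this)
    · refine Subtype.ext ?_
      rw [Matrix.SpecialLinearGroup.coe_mul, Matrix.SpecialLinearGroup.coe_mul]
      ext i j; fin_cases i <;> fin_cases j <;> simp [J, Y, Matrix.mul_apply, Fin.sum_univ_two]

/-- The block embedding of `SL₂ⁿ` as a matrix. -/
def blockMat {F : Type*} [Field F] {n : ℕ} (G : Fin n → Matrix.SpecialLinearGroup (Fin 2) F) :
    Matrix (Fin n ⊕ Fin n) (Fin n ⊕ Fin n) F :=
  Matrix.fromBlocks (diagonal fun i => (G i).1 0 0) (diagonal fun i => (G i).1 0 1)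
    (diagonal fun i => (G i).1 1 0) (diagonal fun i => (G i).1 1 1)

theorem blockMat_mem {F : Type*} [Field F] {n : ℕ} (G : Fin n → Matrix.SpecialLinearGroup (Fin 2) F) :
    blockMat G ∈ Matrix.symplecticGroup (Fin n) F := by
  rw [SymplecticGroup.mem_iff, blockMat, Matrix.J, fromBlocks_transpose, fromBlocks_multiply,
    fromBlocks_multiply]
  simp only [diagonal_transpose, Matrix.mul_zero, zero_add, add_zero, Matrix.mul_neg, Matrix.mul_one,
    Matrix.neg_mul, diagonal_mul_diagonal, ← diagonal_neg, diagonal_add]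
  have hd : ∀ i, (G i).1 0 0 * (G i).1 1 1 - (G i).1 0 1 * (G i).1 1 0 = 1 := fun i => by
    have := (G i).2
    rwa [det_fin_two] at this
  congr 1 <;> ext i j <;> rcases eq_or_ne i j with rfl | hij
  all_goals simp_all
  all_goals first | ring1 | linear_combination hd i | linear_combination -(hd i)

/-- The block embedding of `SL₂ⁿ`. -/
def blockHom (F : Type*) [Field F] (n : ℕ) :
    (Fin n → Matrix.SpecialLinearGroup (Fin 2) F) →* ↥(Matrix.symplecticGroup (Fin n) F) where
  toFun G := ⟨blockMat G, blockMat_mem G⟩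
  map_one' := Subtype.ext (by simp [blockMat, fromBlocks_one])
  map_mul' G H := Subtype.ext (by
    show blockMat (G * H) = blockMat G * blockMat H
    simp only [blockMat, fromBlocks_multiply, diagonal_mul_diagonal, diagonal_add]
    congr 1 <;> refine congrArg _ (funext fun i => ?_) <;>
      simp [Matrix.mul_apply, Fin.sum_univ_two])

theorem blockHom_injective (F : Type*) [Field F] (n : ℕ) : Function.Injective (blockHom F n) := by
  intro G H h
  obtain ⟨h1, h2, h3, h4⟩ := fromBlocks_inj.1 (congrArg Subtype.val h)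
  funext i
  refine Subtype.ext ?_
  ext a b
  fin_cases a <;> fin_cases b
  · exact congrFun (diagonal_injective h1) i
  · exact congrFun (diagonal_injective h2) i
  · exact congrFun (diagonal_injective h3) i
  · exact congrFun (diagonal_injective h4) i

/-- The smallest degree of a faithful representation of the symplectic group `Sp_{2n}(q)` over its own field `F_q` is `2n`: every injective homomorphism from `Sp_{2n}(F)` to `GL_d(F)`, `F` the field with `q` elements, has `d ≥ 2n`. -/
theorem result {F : Type*} [Field F] [Fintype F] (n : ℕ) {d : ℕ}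
    (ρ : ↥(Matrix.symplecticGroup (Fin n) F) →* GL (Fin d) F) (hρ : Function.Injective ρ) : 2 * n ≤ d := by
  classical
  obtain ⟨k, J₀, Y₀, hk, hJk, hJ2, hJY⟩ := exists_pair (F := F)
  let K := AlgebraicClosure F
  have hkK : (k : K) ≠ 0 := fun e => hk ((algebraMap F K).injective (by rw [map_natCast, e, map_zero]))
  let ψ : GL (Fin d) F →* Module.End K (Fin d → K) :=
    (Matrix.toLinAlgEquiv' (R := K) (n := Fin d)).toMonoidHom.comp
      ((algebraMap F K).mapMatrix.toMonoidHom.comp (Units.coeHom _))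
  have hψ : Function.Injective ψ := fun a b h => Units.ext (Matrix.map_injective
    (algebraMap F K).injective ((Matrix.toLinAlgEquiv' (R := K) (n := Fin d)).injective h))
  let Φ : (Fin n → Matrix.SpecialLinearGroup (Fin 2) F) →* Module.End K (Fin d → K) :=
    ψ.comp (ρ.comp (blockHom F n))
  have hΦ : Function.Injective Φ := hψ.comp (hρ.comp (blockHom_injective F n))
  have hunit : ∀ G, Function.Injective (Φ G) := fun G a b h => by
    have e : Φ G⁻¹ * Φ G = 1 := by rw [← map_mul, inv_mul_cancel, map_one]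
    have := congrArg (Φ G⁻¹) h
    rw [← Module.End.mul_apply, ← Module.End.mul_apply, e] at this
    exact this
  have := two_mul_card_le (K := K) hkK (Finset.univ : Finset (Fin n))
    (fun i => Φ (Pi.mulSingle i J₀)) (fun i => Φ (Pi.mulSingle i Y₀))
    (fun i _ => ⟨by rw [← map_pow, ← Pi.mulSingle_pow, hJk, Pi.mulSingle_one, map_one],
      fun e => hJ2 (by
        rw [← map_mul, ← map_one Φ, ← Pi.mulSingle_mul] at e
        have := congrFun (hΦ e) i
        simpa using this),
      by rw [← map_mul, ← map_mul, ← Pi.mulSingle_mul, ← Pi.mulSingle_mul, hJY], hunit _⟩)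
    (fun i _ j _ hij => ⟨(Pi.mulSingle_commute hij _ _).map Φ, (Pi.mulSingle_commute hij _ _).map Φ,
      (Pi.mulSingle_commute hij _ _).map Φ⟩)
  rwa [Finset.card_univ, Fintype.card_fin, Module.finrank_fin_fun] at this

end Cfsg.Agent.S2394
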