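import Cfsg.Statements.S2396
import Cfsg.Agent.Lib.Chevalley.Cover.Sys
import Cfsg.Agent.Lib.Chevalley.Types.StCerts
-- Template for statement S2396 (row 2396; see /opt/grader/pristine/manifest.json for weights).
-- Copy to Cfsg/Agent/S2396.lean and replace the sorry. The statement below is byte-identical to the frozen
-- statement Cfsg.CfsgFrozen.S2396 (Cfsg/Statements/S2396.lean; the theorem Cfsg.lie4_steinberg_cover_central_extension);
-- the grader kernel-checks Cfsg.Agent.S2396.result against that frozen type. Keep the theorem IN THIS FILE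
-- (a `result` declared elsewhere and merely imported here is not credited); helpers may live anywhere
-- under Cfsg/Agent/.
-- import your own Cfsg.Agent.* helpers here

set_option autoImplicit false
open scoped MatrixGroups
open Cfsg

namespace Cfsg.Agent.S2396

/-- For each of the types G₂, B₂, D₄, F₄, E₆, E₇, E₈ and any field `K` (for types B₂ and G₂ the field must have more than two elements — the cases where the Chevalley group is not simple are set aside), the group presented by the generators x̄_r(t) subject only to (R1) and (R2) maps onto the Chevalley group by x̄_r(t) ↦ x_r(t), and this homomorphism is a central extension: it is surjective with kernel contained in the centre. -/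
theorem result {K : Type*} [Field K] (D : Cfsg.Lie.ChevalleyDatum) (hD : D ∈ [Cfsg.Lie.chevG2, Cfsg.Lie.chevB2, Cfsg.Lie.chevD4, Cfsg.Lie.chevF4, Cfsg.Lie.chevE6, Cfsg.Lie.chevE7, Cfsg.Lie.chevE8]) (hK : D ∈ [Cfsg.Lie.chevB2, Cfsg.Lie.chevG2] → ∃ x : K, x ≠ 0 ∧ x ≠ 1) :
    ∃ θ : D.SteinbergCover K →* ↥(D.group K), Function.Surjective θ ∧ θ.ker ≤ Subgroup.center (D.SteinbergCover K) ∧
      ∀ (r : ℕ) (t : K), r < D.nroots → ((θ (D.scGen K r t) : GL D.Idx K) : Matrix D.Idx D.Idx K) = D.x K r t := by
  open Cfsg.Agent.Chevalley in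
  obtain ⟨T, hC, hT⟩ := Types.StCerts.exists_hasCerts hD
  have hrange := StKernel.th_range (Cover.Sys.scSys (F := K) hC)
  refine ⟨(Cfsg.Agent.Chevalley.Cover.Sys.th hC).codRestrict _ fun x => hrange ▸ ⟨x, rfl⟩, ?_, ?_, ?_⟩
  · rintro ⟨y, hy⟩
    rw [← hrange] at hy
    obtain ⟨x, hx⟩ := hy
    exact ⟨x, Subtype.ext hx⟩
  · rw [MonoidHom.ker_codRestrict]
    exact Cfsg.Agent.Chevalley.StKernel.ker_le_center (Cfsg.Agent.Chevalley.Cover.Sys.scSys hC) hT
  · intro r t hr
    exact congrArg Units.val (Cfsg.Agent.Chevalley.Cover.Sys.th_gen hC r hr t)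

end Cfsg.Agent.S2396
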