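import Cfsg.Statements.S2398
import Cfsg.Agent.Lib.Chevalley.Cover.Universal
-- Template for statement S2398 (row 2398; see /opt/grader/pristine/manifest.json for weights).
-- Copy to Cfsg/Agent/S2398.lean and replace the sorry. The statement below is byte-identical to the frozen
-- statement Cfsg.CfsgFrozen.S2398 (Cfsg/Statements/S2398.lean; the theorem Cfsg.lie4_steinberg_cover_lift_unique);
-- the grader kernel-checks Cfsg.Agent.S2398.result against that frozen type. Keep the theorem IN THIS FILE
-- (a `result` declared elsewhere and merely imported here is not credited); helpers may live anywhere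
-- under Cfsg/Agent/.
-- import your own Cfsg.Agent.* helpers here

set_option autoImplicit false
open Cfsg

namespace Cfsg.Agent.S2398

/-- Universality of the group Δ presented by Steinberg's generators with relators (R1), (R2), over a field with more than four elements (types G₂, B₂, D₄, F₄, E₆, E₇, E₈): for every central extension `π₁ : E → G₁` (surjective, central kernel) and every homomorphism `σ : Δ → G₁` there is exactly one homomorphism `τ : Δ → E` with `π₁ ∘ τ = σ`. In particular every central extension of Δ splits; together with the fact that Δ maps onto the Chevalley group with central kernel, this makes Δ the universal central extension of the Chevalley group. -/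
theorem result {K : Type*} [Field K] (hK5 : ∃ s : Finset K, 4 < s.card) (D : Cfsg.Lie.ChevalleyDatum) (hD : D ∈ [Cfsg.Lie.chevG2, Cfsg.Lie.chevB2, Cfsg.Lie.chevD4, Cfsg.Lie.chevF4, Cfsg.Lie.chevE6, Cfsg.Lie.chevE7, Cfsg.Lie.chevE8])
    {G₁ E : Type*} [Group G₁] [Group E] (π₁ : E →* G₁) (hπ : Function.Surjective π₁) (hc : π₁.ker ≤ Subgroup.center E)
    (σ : D.SteinbergCover K →* G₁) : ∃! τ : D.SteinbergCover K →* E, π₁.comp τ = σ := by
  obtain ⟨τ, hτ⟩ := Cfsg.Agent.Chevalley.Cover.Universal.exists_hom_lift_all hK5 hD hπ hc σ
  exact ⟨τ, hτ, fun τ' hτ' => Cfsg.Agent.Chevalley.Cover.Lift.hom_ext_of_perfect hc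
    (Cfsg.Agent.Chevalley.Cover.PerfectCover.perfect_all hD
      fun _ => Cfsg.Agent.Chevalley.Cover.Universal.big_ne hK5) (hτ'.trans hτ.symm)⟩

end Cfsg.Agent.S2398
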