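import Cfsg.Statements.S2400
import Cfsg.Agent.Lib.Chevalley.Cover.Exceptional
-- Template for statement S2400 (row 2400; see /opt/grader/pristine/manifest.json for weights).
-- Copy to Cfsg/Agent/S2400.lean and replace the sorry. The statement below is byte-identical to the frozen
-- statement Cfsg.CfsgFrozen.S2400 (Cfsg/Statements/S2400.lean; the theorem Cfsg.lie4_steinberg_group_schur_multiplier_trivial);
-- the grader kernel-checks Cfsg.Agent.S2400.result against that frozen type. Keep the theorem IN THIS FILE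
-- (a `result` declared elsewhere and merely imported here is not credited); helpers may live anywhere
-- under Cfsg/Agent/.
-- import your own Cfsg.Agent.* helpers here

set_option autoImplicit false
open Cfsg

namespace Cfsg.Agent.S2400

/-- Over a finite field `K`, the group presented by Steinberg's relators (R1)–(R3) (the universal Chevalley group) of type E₆ or E₇, or of type B₂ or D₄ with `K` of more than two elements, has trivial Schur multiplier: every finite stem extension of it is an isomorphism (Schur multiplier described through stem extensions as in the definitions). Types G₂, F₄ and E₈ are not covered here. -/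
theorem result {K : Type*} [Field K] [Fintype K] (e : Cfsg.Lie.ChevalleyDatum × ℕ)
    (he : e ∈ [(Cfsg.Lie.chevE6, 0), (Cfsg.Lie.chevE7, 0), (Cfsg.Lie.chevB2, 2), (Cfsg.Lie.chevD4, 2)]) (hK : Fintype.card K ≠ e.2) :
    Cfsg.HasCyclicSchurMultiplier (e.1.SteinbergGroup K) 1 := by
  have h3 : Fintype.card K ≠ 2 → 3 ≤ Fintype.card K := fun h => by
    have := Fintype.one_lt_card (α := K)
    omega
  simp only [List.mem_cons, List.not_mem_nil, or_false] at he
  rcases he with rfl | rfl | rfl | rfl
  · exact Cfsg.Agent.Chevalley.Cover.SmallFields.steinbergGroup_one Cfsg.Agent.Chevalley.Types.E6.certified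
      ⟨⟨_, Cfsg.Agent.Chevalley.Types.CoefE6.coef_ok⟩, ⟨_, Cfsg.Agent.Chevalley.Types.StCerts.conj_E6⟩⟩
      Cfsg.Agent.Chevalley.Cover.K2.sym_E6 (Cfsg.Agent.Chevalley.Cover.PerfectCover.perfect_all (by simp) (Cfsg.Agent.Chevalley.Cover.Multiplier.not_small (by decide)))
      (fun {_ _} _ _ {_} hπ hc σ => Cfsg.Agent.Chevalley.Cover.SLClosed.exists_hom_lift Cfsg.Agent.Chevalley.Types.E6.certified Cfsg.Agent.Chevalley.Cover.SLE6.ok hπ hc σ fun r s _ h => absurd h (by simp))
  · exact Cfsg.Agent.Chevalley.Cover.SmallFields.steinbergGroup_one Cfsg.Agent.Chevalley.Types.E7.certified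
      ⟨⟨_, Cfsg.Agent.Chevalley.Types.CoefE7.coef_ok⟩, ⟨_, Cfsg.Agent.Chevalley.Types.StCerts.conj_E7⟩⟩
      Cfsg.Agent.Chevalley.Cover.K2.sym_E7 (Cfsg.Agent.Chevalley.Cover.PerfectCover.perfect_all (by simp) (Cfsg.Agent.Chevalley.Cover.Multiplier.not_small (by decide)))
      (fun {_ _} _ _ {_} hπ hc σ => Cfsg.Agent.Chevalley.Cover.SLClosed.exists_hom_lift Cfsg.Agent.Chevalley.Types.E7.certified Cfsg.Agent.Chevalley.Cover.SLE7.ok hπ hc σ fun r s _ h => absurd h (by simp))
  · exact Cfsg.Agent.Chevalley.Cover.SmallFields.steinbergGroup_one Cfsg.Agent.Chevalley.Types.B2.certified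
      ⟨⟨_, Cfsg.Agent.Chevalley.Types.CoefB2.coef_ok⟩, ⟨_, Cfsg.Agent.Chevalley.Types.StCerts.conj_B2⟩⟩
      Cfsg.Agent.Chevalley.Cover.K2.sym_B2 (Cfsg.Agent.Chevalley.Cover.PerfectCover.perfect_all (by simp) (fun _ => by
        by_contra hcon
        push_neg at hcon
        classical
        have h2 : (Finset.univ : Finset K) ⊆ {0, 1} := fun x _ => by
          by_cases hx : x = 0
          · simp [hx]
          · simp [hcon x hx]
        have := (Finset.card_le_card h2).trans Finset.card_le_two
        rw [Finset.card_univ] at this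
        have := h3 hK
        omega))
      (fun {_ _} _ _ {_} hπ hc σ => Cfsg.Agent.Chevalley.Cover.Exceptional.lift_B2 (h3 hK) hπ hc σ)
  · exact Cfsg.Agent.Chevalley.Cover.SmallFields.steinbergGroup_one Cfsg.Agent.Chevalley.Types.D4.certified
      ⟨⟨_, Cfsg.Agent.Chevalley.Types.CoefD4.coef_ok⟩, ⟨_, Cfsg.Agent.Chevalley.Types.StCerts.conj_D4⟩⟩
      Cfsg.Agent.Chevalley.Cover.K2.sym_D4 (Cfsg.Agent.Chevalley.Cover.PerfectCover.perfect_all (by simp) (Cfsg.Agent.Chevalley.Cover.Multiplier.not_small (by decide)))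
      (fun {_ _} _ _ {_} hπ hc σ => Cfsg.Agent.Chevalley.Cover.Exceptional.lift_D4 (h3 hK) hπ hc σ)

end Cfsg.Agent.S2400
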