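import Cfsg.Statements.S2401
import Cfsg.Agent.Lib.SteinbergSL.Many
import Cfsg.Agent.Lib.Classical.Linear

set_option autoImplicit false
open Cfsg

namespace Cfsg.Agent.S2401

/-- The Steinberg presentation of `SL_n` over a finite field for `n ≥ 3`: the group generated by symbols `x_ij(t)` (`i ≠ j`, `t` in the field) subject to `x_ij(t) x_ij(u) = x_ij(t + u)` and, for `i ≠ l`, `x_ij(t) x_kl(u) x_ij(t)⁻¹ x_kl(u)⁻¹ = x_il(tu)` if `j = k` and `= 1` if `j ≠ k`, is isomorphic to `SL_n` by an isomorphism sending `x_ij(t)` to the elementary matrix `1 + t E_ij`. -/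
theorem result {K : Type*} [Field K] [Finite K] (n : ℕ) (hn : 3 ≤ n) :
    ∃ e : PresentedGroup
        ({g : FreeGroup ({ij : Fin n × Fin n // ij.1 ≠ ij.2} × K) | ∃ (a : {ij : Fin n × Fin n // ij.1 ≠ ij.2}) (t u : K),
            g = FreeGroup.of (a, t) * FreeGroup.of (a, u) * (FreeGroup.of (a, t + u))⁻¹} ∪
          {g | ∃ (a b : {ij : Fin n × Fin n // ij.1 ≠ ij.2}) (t u : K), a.1.1 ≠ b.1.2 ∧ a.1.2 ≠ b.1.1 ∧
            g = FreeGroup.of (a, t) * FreeGroup.of (b, u) * (FreeGroup.of (a, t))⁻¹ * (FreeGroup.of (b, u))⁻¹} ∪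
          {g | ∃ (a b : {ij : Fin n × Fin n // ij.1 ≠ ij.2}) (h : a.1.1 ≠ b.1.2) (t u : K), a.1.2 = b.1.1 ∧
            g = FreeGroup.of (a, t) * FreeGroup.of (b, u) * (FreeGroup.of (a, t))⁻¹ * (FreeGroup.of (b, u))⁻¹ *
              (FreeGroup.of (⟨(a.1.1, b.1.2), h⟩, t * u))⁻¹}) ≃* Matrix.SpecialLinearGroup (Fin n) K,
      ∀ (a : {ij : Fin n × Fin n // ij.1 ≠ ij.2}) (t : K), ((e (PresentedGroup.of (a, t)) : Matrix (Fin n) (Fin n) K)) = Matrix.transvection a.1.1 a.1.2 t := by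
  classical
  set R : Set (FreeGroup ({ij : Fin n × Fin n // ij.1 ≠ ij.2} × K)) :=
    ({g : FreeGroup ({ij : Fin n × Fin n // ij.1 ≠ ij.2} × K) | ∃ (a : {ij : Fin n × Fin n // ij.1 ≠ ij.2}) (t u : K),
            g = FreeGroup.of (a, t) * FreeGroup.of (a, u) * (FreeGroup.of (a, t + u))⁻¹} ∪
          {g | ∃ (a b : {ij : Fin n × Fin n // ij.1 ≠ ij.2}) (t u : K), a.1.1 ≠ b.1.2 ∧ a.1.2 ≠ b.1.1 ∧
            g = FreeGroup.of (a, t) * FreeGroup.of (b, u) * (FreeGroup.of (a, t))⁻¹ * (FreeGroup.of (b, u))⁻¹} ∪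
          {g | ∃ (a b : {ij : Fin n × Fin n // ij.1 ≠ ij.2}) (h : a.1.1 ≠ b.1.2) (t u : K), a.1.2 = b.1.1 ∧
            g = FreeGroup.of (a, t) * FreeGroup.of (b, u) * (FreeGroup.of (a, t))⁻¹ * (FreeGroup.of (b, u))⁻¹ *
              (FreeGroup.of (⟨(a.1.1, b.1.2), h⟩, t * u))⁻¹}) with hR
  open Cfsg.Agent.SimpleFacts.SLnRootLifts Cfsg.Agent.SimpleFacts.SLnSystem in
  let f : {ij : Fin n × Fin n // ij.1 ≠ ij.2} × K → Matrix.SpecialLinearGroup (Fin n) K := fun p => T p.1.1.1 p.1.1.2 p.2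
  open Cfsg.Agent.SimpleFacts.SLnRootLifts Cfsg.Agent.SimpleFacts.SLnSystem in
  have hrels : ∀ g ∈ R, FreeGroup.lift f g = 1 := by
    rintro g ((⟨a, t, u, rfl⟩ | ⟨a, b, t, u, h1, h2, rfl⟩) | ⟨a, b, h, t, u, hab, rfl⟩)
    all_goals simp only [map_mul, map_inv, FreeGroup.lift_apply_of, f]
    · rw [mul_inv_eq_one, T_add a.2]
    · rw [T_comm a.2 b.2 h1 h2 t u]; group
    · rw [mul_inv_eq_one, ← commutatorElement_def, ← hab]
      exact T_bracket h a.2 (hab ▸ b.2) t u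
  let σ : PresentedGroup R →* Matrix.SpecialLinearGroup (Fin n) K := PresentedGroup.toGroup hrels
  let X : Fin n → Fin n → K → PresentedGroup R := fun i j a =>
    if h : i ≠ j then PresentedGroup.of (⟨(i, j), h⟩, a) else 1
  have hXof : ∀ {i j : Fin n} (h : i ≠ j) (a : K), X i j a = PresentedGroup.of (⟨(i, j), h⟩, a) :=
    fun h a => dif_pos h
  open Cfsg.Agent.SimpleFacts.SLnRootLifts Cfsg.Agent.SimpleFacts.SLnSystem in
  have hX : IsSystem σ X := by
    refine ⟨fun i j h a => ?_, fun i j h a b => ?_, fun i j k l hij hkl hil hjk a b => ?_,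
      fun i j k hij hjk hik a b => ?_⟩
    · rw [hXof h]; exact PresentedGroup.toGroup.of hrels
    · rw [hXof h, hXof h, hXof h]
      have e := PresentedGroup.one_of_mem (show _ ∈ R from Or.inl (Or.inl ⟨⟨(i, j), h⟩, a, b, rfl⟩))
      rw [map_mul, map_mul, map_inv, mul_inv_eq_one] at e
      exact e.symm
    · rw [hXof hij, hXof hkl]
      have e := PresentedGroup.one_of_mem
        (show _ ∈ R from Or.inl (Or.inr ⟨⟨(i, j), hij⟩, ⟨(k, l), hkl⟩, a, b, hil, hjk, rfl⟩))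
      simp only [map_mul, map_inv] at e
      rw [mul_inv_eq_one, mul_inv_eq_iff_eq_mul] at e
      exact e
    · rw [hXof hij, hXof hjk, hXof hik]
      have e := PresentedGroup.one_of_mem
        (show _ ∈ R from Or.inr ⟨⟨(i, j), hij⟩, ⟨(j, k), hjk⟩, hik, a, b, rfl, rfl⟩)
      simp only [map_mul, map_inv] at e
      rw [mul_inv_eq_one] at e
      exact e
  open Cfsg.Agent.SimpleFacts.SLnRootLifts Cfsg.Agent.SimpleFacts.SLnSystem in
  have hgen : blockLift X (Set.univ : Set (Fin n)) = ⊤ := by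
    rw [eq_top_iff, ← PresentedGroup.closure_range_of R, Subgroup.closure_le]
    rintro _ ⟨⟨⟨⟨i, j⟩, h⟩, a⟩, rfl⟩
    rw [← hXof h]
    exact X_mem_blockLift (S := Set.univ) trivial trivial h a
  have hinj : Function.Injective σ :=
    Cfsg.Agent.SteinbergSL.Many.injective hX (by rw [Fintype.card_fin]; exact hn) hgen
  have hsurj : Function.Surjective σ := by
    rw [← MonoidHom.range_eq_top]
    refine Cfsg.Agent.Classical.Linear.eq_top_of_transvection_mem _ fun i j hij c => ?_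
    exact ⟨X i j c, by rw [hX.lift i j hij, Cfsg.Agent.SimpleFacts.SLnRootLifts.T_eq hij]⟩
  refine ⟨MulEquiv.ofBijective σ ⟨hinj, hsurj⟩, fun a t => ?_⟩
  change ((σ (PresentedGroup.of (a, t)) : Matrix.SpecialLinearGroup (Fin n) K) : Matrix (Fin n) (Fin n) K) = _
  rw [show σ (PresentedGroup.of (a, t)) = f (a, t) from PresentedGroup.toGroup.of hrels]
  exact Cfsg.Agent.SimpleFacts.SLnRootLifts.T_coe a.2 t

end Cfsg.Agent.S2401
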