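import Cfsg.Statements.S2416
import Cfsg.Agent.Lib.Chevalley.Orbit
import Cfsg.Agent.Lib.Chevalley.Types.All

set_option autoImplicit false
open scoped MatrixGroups
open Cfsg

namespace Cfsg.Agent.S2416

/-- A Chevalley group of type G₂, B₂, D₄, F₄, E₆, E₇ or E₈ over a finite field lies in (indeed equals) the subgroup generated by its monomial subgroup `N` and a single fundamental root subgroup `X_p`, where `p` is a short fundamental root if there are two root lengths (any fundamental root otherwise), provided the characteristic is not 2 for types B₂, F₄ and not 3 for type G₂ (and the field has more than two elements for B₂, G₂). -/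
theorem result {K : Type*} [Field K] [Finite K] (D : Cfsg.Lie.ChevalleyDatum) (hD : D ∈ [Cfsg.Lie.chevG2, Cfsg.Lie.chevB2, Cfsg.Lie.chevD4, Cfsg.Lie.chevF4, Cfsg.Lie.chevE6, Cfsg.Lie.chevE7, Cfsg.Lie.chevE8])
    (hK : D ∈ [Cfsg.Lie.chevB2, Cfsg.Lie.chevG2] → ∃ x : K, x ≠ 0 ∧ x ≠ 1)
    (h2 : D ∈ [Cfsg.Lie.chevB2, Cfsg.Lie.chevF4] → ringChar K ≠ 2) (h3 : D = Cfsg.Lie.chevG2 → ringChar K ≠ 3)
    (i : ℕ) (hi : i < D.rank) (hshort : D.isLong (D.simple i) = false) :
    D.group K ≤ D.monomialSubgroup K ⊔ D.rootSubgroup K (D.simple i) := by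
  have hp : ∀ p : ℕ, p.Prime → ringChar K ≠ p → (p : K) ≠ 0 := fun p hp hne h0 =>
    hne (((Nat.dvd_prime hp).1 ((ringChar.spec K p).1 h0)).resolve_left CharP.ringChar_ne_one)
  have key : ∀ (T : Chevalley.Table.Tab), Chevalley.Cert.Certified D T → ∀ p : ℕ, (p : K) ≠ 0 →
      (Chevalley.Eval.allR T.l fun a => D.isLong (T.simple a) ||
        Chevalley.Eval.allR T.l fun j => Chevalley.Orbit.genOk T p a j) = true →
      D.group K ≤ D.monomialSubgroup K ⊔ D.rootSubgroup K (D.simple i) := by
    intro T hC p hp0 h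
    have h1 := Chevalley.Eval.of_allR h i (by rw [hC.l_eq]; exact hi)
    rw [hC.simple_eq hi, hshort, Bool.false_or] at h1
    refine Chevalley.Orbit.group_le hC le_sup_left fun j hj => ?_
    exact Chevalley.Orbit.has_genOk hC le_sup_left hi hp0
      (Chevalley.Eval.of_allR h1 j (by rw [hC.l_eq]; exact hj))
      fun t => Subgroup.mem_sup_right ((Chevalley.Borel.mem_rootSubgroup hC).2 ⟨t, rfl⟩)
  simp only [List.mem_cons, List.not_mem_nil, or_false] at hD
  rcases hD with rfl | rfl | rfl | rfl | rfl | rfl | rfl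
  · exact key _ Chevalley.Types.G2.certified 3 (hp 3 Nat.prime_three (h3 rfl)) (by decide +kernel)
  · exact key _ Chevalley.Types.B2.certified 2 (hp 2 Nat.prime_two (h2 (by simp))) (by decide +kernel)
  · exact key _ Chevalley.Types.D4.certified 1 (by simp) (by decide +kernel)
  · exact key _ Chevalley.Types.F4.certified 2 (hp 2 Nat.prime_two (h2 (by simp))) (by decide +kernel)
  · exact key _ Chevalley.Types.E6.certified 1 (by simp) (by decide +kernel)
  · exact key _ Chevalley.Types.E7.certified 1 (by simp) (by decide +kernel)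
  · exact key _ Chevalley.Types.E8.certified 1 (by simp) (by decide +kernel)

end Cfsg.Agent.S2416
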