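import Cfsg.Statements.S2417
import Cfsg.Agent.Lib.Chevalley.Orbit
import Cfsg.Agent.Lib.Chevalley.Types.All

set_option autoImplicit false
open scoped MatrixGroups
open Cfsg

namespace Cfsg.Agent.S2417

/-- In the characteristics with an exceptional graph symmetry — type B₂ or F₄ in characteristic 2 (field of more than two elements for B₂) and type G₂ in characteristic 3 — the Chevalley group lies in the subgroup generated by its monomial subgroup `N` and the two fundamental root subgroups `X_a`, `X_b` of a short root `a` and a long root `b` joined in the Dynkin diagram. -/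
theorem result {K : Type*} [Field K] [Finite K] (e : Cfsg.Lie.ChevalleyDatum × ℕ)
    (he : e ∈ [(Cfsg.Lie.chevB2, 2), (Cfsg.Lie.chevF4, 2), (Cfsg.Lie.chevG2, 3)]) [CharP K e.2]
    (hK : e.1 = Cfsg.Lie.chevB2 → ∃ x : K, x ≠ 0 ∧ x ≠ 1)
    (i j : ℕ) (hi : i < e.1.rank) (hj : j < e.1.rank) (hshort : e.1.isLong (e.1.simple i) = false)
    (hlong : e.1.isLong (e.1.simple j) = true) (hbond : e.1.bonds i j ≠ 0) :
    e.1.group K ≤ e.1.monomialSubgroup K ⊔ e.1.rootSubgroup K (e.1.simple i) ⊔ e.1.rootSubgroup K (e.1.simple j) := by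
  have key : ∀ (D : Cfsg.Lie.ChevalleyDatum) (T : Chevalley.Table.Tab),
      Chevalley.Cert.Certified D T →
      (Chevalley.Eval.allR T.l fun a => Chevalley.Eval.allR T.l fun b =>
        D.isLong (T.simple a) || !D.isLong (T.simple b) || Chevalley.Eval.allR T.l fun k =>
          Chevalley.Orbit.reach T T.l a k || Chevalley.Orbit.reach T T.l b k) = true →
      ∀ i < D.rank, ∀ j < D.rank, D.isLong (D.simple i) = false → D.isLong (D.simple j) = true →
      D.group K ≤ D.monomialSubgroup K ⊔ D.rootSubgroup K (D.simple i) ⊔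
        D.rootSubgroup K (D.simple j) := by
    intro D T hC h i hi j hj hs hl
    have h1 := Chevalley.Eval.of_allR (Chevalley.Eval.of_allR h i (by rw [hC.l_eq]; exact hi)) j
      (by rw [hC.l_eq]; exact hj)
    rw [hC.simple_eq hi, hC.simple_eq hj, hs, hl] at h1
    simp only [Bool.false_or, Bool.not_true] at h1
    have hN : D.monomialSubgroup K ≤ D.monomialSubgroup K ⊔ D.rootSubgroup K (D.simple i) ⊔
        D.rootSubgroup K (D.simple j) := le_sup_of_le_left le_sup_left
    refine Chevalley.Orbit.group_le hC hN fun k hk => ?_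
    have h2 := Chevalley.Eval.of_allR h1 k (by rw [hC.l_eq]; exact hk)
    rw [Bool.or_eq_true] at h2
    rcases h2 with h2 | h2
    · exact Chevalley.Orbit.has_reach hC hN _ i k hi h2 fun t => Subgroup.mem_sup_left
        (Subgroup.mem_sup_right ((Chevalley.Borel.mem_rootSubgroup hC).2 ⟨t, rfl⟩))
    · exact Chevalley.Orbit.has_reach hC hN _ j k hj h2 fun t => Subgroup.mem_sup_right
        ((Chevalley.Borel.mem_rootSubgroup hC).2 ⟨t, rfl⟩)
  simp only [List.mem_cons, List.not_mem_nil, or_false] at he
  rcases he with rfl | rfl | rfl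
  · exact key _ _ Chevalley.Types.B2.certified (by decide +kernel) i hi j hj hshort hlong
  · exact key _ _ Chevalley.Types.F4.certified (by decide +kernel) i hi j hj hshort hlong
  · exact key _ _ Chevalley.Types.G2.certified (by decide +kernel) i hi j hj hshort hlong

end Cfsg.Agent.S2417
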