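import Cfsg.Statements.S2425
import Cfsg.Agent.Lib.FlagCharacters.InvariantMoebius
import Cfsg.Agent.Lib.FlagCharacters.OnesPerm

set_option autoImplicit false
open scoped MatrixGroups
open Cfsg

namespace Cfsg.Agent.S2425

open Polynomial Finset Cfsg.Agent.S2422 Cfsg.FlagCharacters Cfsg.FlagCharacters.Ones
  Cfsg.FlagCharacters.InvMoebius

section Flags

variable {F : Type*} [Field F] {n : ℕ}

/-- The endomorphism of an invertible matrix. -/
noncomputable abbrev actEnd (x : GL (Fin n) F) : Module.End F (Fin n → F) :=
  Matrix.mulVecLin (x : Matrix (Fin n) (Fin n) F)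

/-- The set of dimensions minus one occurring in a family of invariant subspaces. -/
noncomputable def dims {a : Module.End F (Fin n → F)} (C : Finset a.invtSubmodule) : Finset (Fin n) := by
  classical
  exact univ.filter fun e => ∃ W ∈ C, Module.finrank F W.1 = e.val + 1

theorem isEnds_dims [Fintype F] {a : Module.End F (Fin n → F)} [Fintype a.invtSubmodule]
    [DecidableEq a.invtSubmodule] {C : Finset a.invtSubmodule} (hC : C ∈ chainsTo ⊤) :
    IsEnds (dims C) := by
  intro i hi
  simp only [dims, mem_filter, mem_univ, true_and]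
  have hfr : Module.finrank F (⊤ : Submodule F (Fin n → F)) = n := by
    rw [finrank_top, Module.finrank_fintype_fun_eq_card, Fintype.card_fin]
  refine ⟨⊤, (mem_chainsTo.1 hC).2.2 fun h => ?_, ?_⟩
  · have h' : (⊤ : Submodule F (Fin n → F)) = ⊥ := congrArg Subtype.val h
    rw [h', finrank_bot] at hfr
    omega
  · show Module.finrank F (⊤ : Submodule F (Fin n → F)) = _
    omega

theorem chain_eq_of_finrank {V : Type*} [AddCommGroup V] [Module F V] [FiniteDimensional F V]
    {A B : Submodule F V} (h : A ≤ B ∨ B ≤ A) (he : Module.finrank F A = Module.finrank F B) :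
    A = B :=
  h.elim (fun h => Submodule.eq_of_le_of_finrank_eq h he)
    (fun h => (Submodule.eq_of_le_of_finrank_eq h he.symm).symm)

theorem flagW_congr {μ : Fin n → ℕ} {g : GL (Fin n) F} {s t : ℕ} (h : psum μ s = psum μ t) :
    flagW μ g s = flagW μ g t := by rw [flagW, flagW, h]

theorem card_fixed [Fintype F] (x : GL (Fin n) F)
    [Fintype (actEnd x).invtSubmodule]
    [DecidableEq (actEnd x).invtSubmodule]
    (E : Finset (Fin n)) (hE : IsEnds E) :
    Nat.card (MulAction.fixedBy (GL (Fin n) F ⧸ parabolicGL n F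
        fun i => 1 + i.val - (blockPerm E hE i).val) x) =
      ((chainsTo (⊤ : (actEnd x).invtSubmodule)).filter
        fun C => dims C = E).card := by
  classical
  set μ : Fin n → ℕ := fun i => 1 + i.val - (blockPerm E hE i).val with hμdef
  have hps : ∀ t, psum μ t = start E t := psum_blockPerm E hE
  have hμ : ∑ k, μ k = n := by
    have : psum μ n = ∑ k, μ k := Finset.sum_congr (Finset.filter_true_of_mem fun k _ => k.2)
      fun _ _ => rfl
    rw [← this, hps]
    refine le_antisymm (start_le _ _) ?_
    rcases Nat.eq_zero_or_pos n with h | h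
    · omega
    · have := le_start (hE ⟨n - 1, by omega⟩ (by simp only; omega)) (t := n) (by simp only; omega)
      simp only at this
      omega
  rw [← Fintype.card_coe, ← Nat.card_eq_fintype_card]
  -- the flag of a fixed coset
  have hinv : ∀ q : MulAction.fixedBy (GL (Fin n) F ⧸ parabolicGL n F μ) x, ∀ t,
      flagW μ q.1.out t ∈ (actEnd x).invtSubmodule := by
    intro q t v hv
    have hq : ((q.1.out : GL (Fin n) F) : GL (Fin n) F ⧸ parabolicGL n F μ) ∈
        MulAction.fixedBy (GL (Fin n) F ⧸ parabolicGL n F μ) x := by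
      rw [QuotientGroup.out_eq']; exact q.2
    exact mem_fixedBy_iff.1 hq t v hv
  let W : MulAction.fixedBy (GL (Fin n) F ⧸ parabolicGL n F μ) x → Fin n → (actEnd x).invtSubmodule :=
    fun q e => ⟨flagW μ q.1.out (e.val + 1), hinv q _⟩
  have hWrank : ∀ q, ∀ e ∈ E, Module.finrank F (W q e).1 = e.val + 1 := fun q e he => by
    show Module.finrank F (flagW μ q.1.out (e.val + 1)) = _
    rw [finrank_flagW hμ, hps, start_succ_of_mem he]
  refine Nat.card_eq_of_bijective (fun q => ⟨E.image (W q), mem_filter.2 ⟨mem_chainsTo.2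
    ⟨?_, ?_, ?_⟩, ?_⟩⟩) ⟨?_, ?_⟩
  · intro A hA B hB _
    simp only [coe_image, Set.mem_image, mem_coe] at hA hB
    obtain ⟨e, -, rfl⟩ := hA
    obtain ⟨e', -, rfl⟩ := hB
    rcases le_total e.val e'.val with h | h
    · exact Or.inl (flagW_mono _ (Nat.add_le_add_right h 1))
    · exact Or.inr (flagW_mono _ (Nat.add_le_add_right h 1))
  · intro A hA
    obtain ⟨e, he, rfl⟩ := Finset.mem_image.1 hA
    refine ⟨fun h => ?_, le_top⟩
    have := hWrank q e he
    rw [h] at this
    have h0 : Module.finrank F ((⊥ : (actEnd x).invtSubmodule) : Submodule F (Fin n → F)) = 0 := finrank_bot F _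
    omega
  · intro htop
    have hn : 0 < n := by
      by_contra h
      refine htop (Subtype.ext ?_)
      obtain rfl : n = 0 := by omega
      exact Subsingleton.elim _ _
    refine Finset.mem_image.2 ⟨⟨n - 1, by omega⟩, hE _ (by simp only; omega), Subtype.ext ?_⟩
    show flagW μ q.1.out (n - 1 + 1) = ⊤
    rw [Nat.sub_add_cancel hn, flagW_top hμ]
  · ext e
    simp only [dims, mem_filter, mem_univ, true_and, mem_image]
    constructor
    · rintro ⟨A, ⟨e', he', rfl⟩, h⟩
      rw [hWrank q e' he'] at h
      rwa [show e = e' from Fin.ext (by omega)]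
    · exact fun he => ⟨_, ⟨e, he, rfl⟩, hWrank q e he⟩
  · intro q q' h
    have h' : E.image (W q) = E.image (W q') := congrArg Subtype.val h
    apply Subtype.ext
    rw [← QuotientGroup.out_eq' q.1, ← QuotientGroup.out_eq' q'.1]
    refine mk_eq_mk_iff.2 fun t => ?_
    rcases start_cases E t with h0 | ⟨e, he, -, h0⟩
    · rw [flagW_congr (s := t) (t := 0) (by rw [hps, psum_zero, h0]), flagW_zero,
        flagW_congr (s := t) (t := 0) (by rw [hps, psum_zero, h0]), flagW_zero]
    · have e1 : psum μ t = psum μ (e.val + 1) := by rw [hps, hps, h0, start_succ_of_mem he]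
      rw [flagW_congr e1, flagW_congr e1]
      obtain ⟨e', he', hee⟩ := Finset.mem_image.1 (h' ▸ Finset.mem_image_of_mem (W q) he)
      have : e' = e := by
        have := congrArg (fun A : (actEnd x).invtSubmodule => Module.finrank F A.1) hee
        simp only [hWrank q' e' he', hWrank q e he] at this
        exact Fin.ext (by omega)
      rw [this] at hee
      exact (congrArg Subtype.val hee).symm
  · rintro ⟨C, hC⟩
    obtain ⟨hCt, hdim⟩ := mem_filter.1 hC
    obtain ⟨hchain, hne, -⟩ := mem_chainsTo.1 hCt
    have hmem : ∀ e : Fin n, (∃ A ∈ C, Module.finrank F A.1 = e.val + 1) → e ∈ E := fun e h =>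
      hdim.subst (motive := fun S => e ∈ S) (by simpa [dims] using h)
    let U : ℕ → Submodule F (Fin n → F) := fun t =>
      (C.filter fun A => Module.finrank F A.1 ≤ t).sup fun A => A.1
    have hUmono : Monotone U := fun s t hst => Finset.sup_mono fun A hA => by
      rw [mem_filter] at hA ⊢; exact ⟨hA.1, hA.2.trans hst⟩
    have hpos : ∀ A ∈ C, 0 < Module.finrank F A.1 := by
      intro A hA
      refine Nat.pos_of_ne_zero fun h => (hne A hA).1 (Subtype.ext ?_)
      exact Submodule.finrank_eq_zero.1 h
    have hmemU : ∀ e ∈ E, ∃ A ∈ C, Module.finrank F A.1 = e.val + 1 := by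
      intro e he
      have he' : e ∈ dims C := hdim.symm.subst (motive := fun S => e ∈ S) he
      simpa [dims] using he'
    have hU : ∀ t, (start E t = 0 → U t = ⊥) ∧
        ∀ A ∈ C, Module.finrank F A.1 = start E t → U t = A.1 := by
      intro t
      have hbound : ∀ B ∈ C, Module.finrank F B.1 ≤ t → Module.finrank F B.1 ≤ start E t := by
        intro B hB hBt
        have h0 := hpos B hB
        have hBn : Module.finrank F B.1 ≤ n :=
          (Submodule.finrank_le _).trans (by rw [Module.finrank_fintype_fun_eq_card, Fintype.card_fin])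
        have he : (⟨Module.finrank F B.1 - 1, by omega⟩ : Fin n) ∈ E := by
          exact hmem _ ⟨B, hB, by simp only; omega⟩
        have := le_start he (t := t) (by simp only; omega)
        simp only at this
        omega
      constructor
      · intro h0
        refine Finset.sup_eq_bot_iff _ _ |>.2 fun B hB => ?_
        obtain ⟨hB, hBt⟩ := mem_filter.1 hB
        have := hbound B hB hBt
        have := hpos B hB
        omega
      · intro A hA hAt
        refine le_antisymm (Finset.sup_le fun B hB => ?_) (Finset.le_sup (f := fun B => B.1)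
          (mem_filter.2 ⟨hA, hAt.trans_le (start_le E t)⟩))
        obtain ⟨hB, hBt⟩ := mem_filter.1 hB
        rcases hchain.total hB hA with h | h
        · exact h
        · have hAB : A.1 ≤ B.1 := h
          rw [Submodule.eq_of_le_of_finrank_le hAB (hAt ▸ hbound B hB hBt)]
    have hUrank : ∀ t, Module.finrank F (U t) = psum μ t := by
      intro t
      rw [hps]
      rcases start_cases E t with h0 | ⟨e, he, -, h0⟩
      · rw [(hU t).1 h0, finrank_bot, h0]
      · obtain ⟨A, hA, hAe⟩ := hmemU e he
        rw [(hU t).2 A hA (hAe.trans h0.symm), hAe, h0]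
    have hU0 : U 0 = ⊥ := (hU 0).1 (Nat.le_zero.1 (start_le E 0))
    have hUn : U n = ⊤ := by
      refine Submodule.eq_top_of_finrank_eq ?_
      rw [hUrank, psum_top hμ, Module.finrank_fintype_fun_eq_card, Fintype.card_fin]
    obtain ⟨g, c, -, hg, -⟩ := exists_adapted_pair U U hUmono hUmono hU0 hU0 hUn hUn
    have hcc : ∀ t, (univ.filter fun i => (c i).val < t).card = psum μ t := by
      intro t
      rw [← hUrank, hg t, ← (Submodule.equivMapOfInjective _ (gl_mulVec_injective g) _).finrank_eq,
        finrank_Ecoord]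
    obtain ⟨σ, hσ⟩ := exists_perm_label hμ c (fibre_eq_of_card_lt hcc)
    have hflag : ∀ t, flagW μ (g * permGL F σ) t = U t := by
      intro t
      rw [flagW_mul_perm hμ, hg t]
      simp only [hσ]
    have hUinv : ∀ t, U t ∈ (actEnd x).invtSubmodule := by
      intro t
      rcases start_cases E t with h0 | ⟨e, he, -, h0⟩
      · rw [(hU t).1 h0]; exact Module.End.invtSubmodule.bot_mem (actEnd x)
      · obtain ⟨A, hA, hAe⟩ := hmemU e he
        rw [(hU t).2 A hA (hAe.trans h0.symm)]
        exact A.2
    have hfix : ((g * permGL F σ : GL (Fin n) F) : GL (Fin n) F ⧸ parabolicGL n F μ) ∈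
        MulAction.fixedBy (GL (Fin n) F ⧸ parabolicGL n F μ) x := by
      refine mem_fixedBy_iff.2 fun t v hv => ?_
      rw [hflag] at hv ⊢
      exact hUinv t hv
    refine ⟨⟨_, hfix⟩, Subtype.ext ?_⟩
    set q : MulAction.fixedBy (GL (Fin n) F ⧸ parabolicGL n F μ) x := ⟨_, hfix⟩
    have hq : ∀ t, flagW μ q.1.out t = U t := fun t =>
      (mk_eq_mk_iff.1 (QuotientGroup.out_eq' q.1) t).trans (hflag t)
    show E.image (W q) = C
    ext A
    rw [Finset.mem_image]
    constructor
    · rintro ⟨e, he, rfl⟩
      obtain ⟨B, hB, hBe⟩ := hmemU e he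
      have : W q e = B := Subtype.ext ((hq _).trans ((hU _).2 B hB
        (hBe.trans (start_succ_of_mem he).symm)))
      rw [this]; exact hB
    · intro hA
      have h0 := hpos A hA
      have hAn : Module.finrank F A.1 ≤ n :=
        (Submodule.finrank_le _).trans (by rw [Module.finrank_fintype_fun_eq_card, Fintype.card_fin])
      refine ⟨⟨Module.finrank F A.1 - 1, by omega⟩, ?_, Subtype.ext ?_⟩
      · exact hmem _ ⟨A, hA, by simp only; omega⟩
      · refine (hq _).trans ((hU _).2 A hA ?_)
        rw [start_succ_of_mem (e := (⟨Module.finrank F A.1 - 1, by omega⟩ : Fin n))]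
        · simp only; omega
        · exact hmem _ ⟨A, hA, by simp only; omega⟩

theorem card_eq_card_dims [Fintype F] {a : Module.End F (Fin n → F)} [Fintype a.invtSubmodule]
    [DecidableEq a.invtSubmodule] {C : Finset a.invtSubmodule} (hC : C ∈ chainsTo ⊤) :
    (dims C).card = C.card := by
  classical
  obtain ⟨hchain, hne, -⟩ := mem_chainsTo.1 hC
  have hb : ∀ A ∈ C, 0 < Module.finrank F A.1 ∧ Module.finrank F A.1 ≤ n := fun A hA =>
    ⟨Nat.pos_of_ne_zero fun h => (hne A hA).1 (Subtype.ext (Submodule.finrank_eq_zero.1 h)),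
      (Submodule.finrank_le _).trans (by rw [Module.finrank_fintype_fun_eq_card, Fintype.card_fin])⟩
  symm
  refine Finset.card_bij (fun A hA => ⟨Module.finrank F A.1 - 1, by have := hb A hA; omega⟩) ?_ ?_ ?_
  · intro A hA
    simp only [dims, mem_filter, mem_univ, true_and]
    exact ⟨A, hA, by have := hb A hA; omega⟩
  · intro A hA B hB h
    have h' := congrArg Fin.val h
    simp only at h'
    have := hb A hA
    have := hb B hB
    exact Subtype.ext (chain_eq_of_finrank (hchain.total hA hB) (by omega))
  · intro e he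
    simp only [dims, mem_filter, mem_univ, true_and] at he
    obtain ⟨A, hA, h⟩ := he
    exact ⟨A, hA, Fin.ext (by simp only; omega)⟩

theorem unipotent_eq_chainSum [Fintype F] (x : GL (Fin n) F)
    [Fintype (actEnd x).invtSubmodule]
    [DecidableEq (actEnd x).invtSubmodule] :
    Cfsg.unipotentCharacterGL n F (fun _ => 1) x = (-1 : ℂ) ^ n *
      ((chainSum (⊤ : (actEnd x).invtSubmodule) : ℤ) : ℂ) := by
  classical
  rw [Cfsg.unipotentCharacterGL, ← Finset.sum_filter, chainSum, Int.cast_sum, Finset.mul_sum,
    ← Finset.sum_fiberwise_of_maps_to (t := univ.filter (IsEnds (n := n))) (g := dims)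
      (fun C hC => mem_filter.2 ⟨mem_univ _, isEnds_dims hC⟩)]
  refine Finset.sum_bij' (fun κ _ => ends κ) (fun E hE => blockPerm E (mem_filter.1 hE).2) ?_ ?_ ?_
    ?_ ?_
  · exact fun κ _ => mem_filter.2 ⟨mem_univ _, isEnds_ends κ⟩
  · exact fun E hE => mem_filter.2 ⟨mem_univ _, blockPerm_adm E _⟩
  · exact fun κ hκ => eq_blockPerm (mem_filter.1 hκ).2
  · exact fun E hE => ends_blockPerm E _
  · intro κ hκ
    have hκ' := (mem_filter.1 hκ).2
    have hE := isEnds_ends κ
    have hle : (ends κ).card ≤ n := by simpa using (ends κ).card_le_univ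
    conv_lhs => rw [← eq_blockPerm hκ']
    rw [Cfsg.fixedPointCharacter, card_fixed x (ends κ) hE,
      sign_blockPerm (n - (ends κ).card) (ends κ) hE (by omega)]
    rw [Finset.sum_congr rfl (g := fun _ => (-1 : ℂ) ^ (n - (ends κ).card))]
    · rw [Finset.sum_const, nsmul_eq_mul, Units.val_pow_eq_pow_val, Units.val_neg, Units.val_one]
      push_cast
      ring
    · intro C hC
      obtain ⟨hC1, hC2⟩ := mem_filter.1 hC
      have hcd := card_eq_card_dims hC1
      rw [hC2] at hcd
      push_cast
      rw [← hcd, ← pow_add]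
      obtain ⟨k, hk⟩ : ∃ k, n = (ends κ).card + k := ⟨n - (ends κ).card, by omega⟩
      rw [show n + (ends κ).card = (n - (ends κ).card) + 2 * (ends κ).card by omega, pow_add, pow_mul]
      simp

end Flags

theorem neg_one_pow_dim_add (d m : ℕ) (hd : 1 ≤ d) :
    (-1 : ℂ) ^ (d * m) * (-1 : ℂ) ^ m = (-1) ^ ((d - 1) * m) := by
  obtain ⟨e, rfl⟩ : ∃ e, d = e + 1 := ⟨d - 1, by omega⟩
  rw [← pow_add, show (e + 1) * m + m = e * m + 2 * m by ring, pow_add, pow_mul (-1 : ℂ) 2]
  simp


/-- Values of the Steinberg character of `GL_n(q)` (the partition-indexed character for `ν = (1,…,1)`, of degree `q^(n(n−1)/2)`) at elements of order prime to the characteristic: if the characteristic polynomial of such an element is `∏ f^(m_f)` over distinct monic irreducible `f`, the value is `∏_f (−1)^((deg f − 1) m_f) q^(deg f · m_f (m_f − 1)/2)`. (At elements of order divisible by the characteristic the value is 0; that is not part of this statement.) -/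
theorem result {F : Type*} [Field F] [Fintype F] [DecidableEq F] {q : ℕ} (hq : Fintype.card F = q) (p : ℕ) [Fact p.Prime] [CharP F p]
    {n : ℕ} (x : GL (Fin n) F) (hx : (orderOf x).Coprime p) :
    Cfsg.unipotentCharacterGL n F (fun _ => 1) x =
      ∏ f ∈ (UniqueFactorizationMonoid.normalizedFactors (x : Matrix (Fin n) (Fin n) F).charpoly).toFinset,
        (-1 : ℂ) ^ ((f.natDegree - 1) * (UniqueFactorizationMonoid.normalizedFactors (x : Matrix (Fin n) (Fin n) F).charpoly).count f) *
          (q : ℂ) ^ (f.natDegree * (UniqueFactorizationMonoid.normalizedFactors (x : Matrix (Fin n) (Fin n) F).charpoly).count f *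
            ((UniqueFactorizationMonoid.normalizedFactors (x : Matrix (Fin n) (Fin n) F).charpoly).count f - 1) / 2) := by
  classical
  set a := actEnd x with ha
  haveI : Fintype a.invtSubmodule := Fintype.ofFinite _
  have hN : (orderOf x : F) ≠ 0 := by
    rw [Ne, CharP.cast_eq_zero_iff F p]
    exact (Fact.out : p.Prime).coprime_iff_not_dvd.1 hx.symm
  have hss : a.IsSemisimple := by
    refine Module.End.isSemisimple_of_squarefree_aeval_eq_zero
      (Polynomial.X_pow_sub_one_separable_iff.2 hN).squarefree ?_
    rw [map_sub, map_pow, Polynomial.aeval_X, map_one, sub_eq_zero, ha, actEnd, ← Matrix.toLin'_apply',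
      ← Matrix.toLin'_pow, ← Units.val_pow_eq_pow_val, pow_orderOf_eq_one, Units.val_one,
      Matrix.toLin'_one]
    rfl
  have hcp : (res (⊤ : a.invtSubmodule)).charpoly = (x : Matrix (Fin n) (Fin n) F).charpoly := by
    rw [← Matrix.charpoly_mulVecLin, show Matrix.mulVecLin (x : Matrix (Fin n) (Fin n) F) = a from rfl,
      ← (Submodule.topEquiv (R := F) (M := Fin n → F)).charpoly_conj (res (⊤ : a.invtSubmodule))]
    rfl
  rw [unipotent_eq_chainSum, chainSum_eq hss, hcp]
  set s := UniqueFactorizationMonoid.normalizedFactors (x : Matrix (Fin n) (Fin n) F).charpoly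
    with hs
  have hdeg : n = ∑ f ∈ s.toFinset, f.natDegree * s.count f := by
    have hprod : s.prod = (x : Matrix (Fin n) (Fin n) F).charpoly := by
      rw [hs, UniqueFactorizationMonoid.prod_normalizedFactors_eq (Matrix.charpoly_monic _).ne_zero,
        (Matrix.charpoly_monic _).normalize_eq_self]
    have := Matrix.charpoly_natDegree_eq_dim (x : Matrix (Fin n) (Fin n) F)
    rw [← hprod, Polynomial.natDegree_multiset_prod _
      (UniqueFactorizationMonoid.zero_notMem_normalizedFactors _), Fintype.card_fin] at this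
    conv_lhs => rw [← this]
    rw [Finset.sum_multiset_map_count]
    exact Finset.sum_congr rfl fun f _ => by rw [smul_eq_mul, mul_comm]
  conv_lhs => arg 1; rw [hdeg]
  rw [← Finset.prod_pow_eq_pow_sum, value, Int.cast_prod, ← Finset.prod_mul_distrib]
  refine Finset.prod_congr rfl fun f hf => ?_
  have hd : 1 ≤ f.natDegree :=
    (UniqueFactorizationMonoid.irreducible_of_normalized_factor f (Multiset.mem_toFinset.1 hf)).natDegree_pos
  have hc : f.natDegree * s.count f * (s.count f - 1) / 2 = f.natDegree * (s.count f).choose 2 := by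
    rw [Nat.choose_two_right, mul_assoc, Nat.mul_div_assoc]
    exact (Nat.even_mul_pred_self _).two_dvd
  rw [hc, ← neg_one_pow_dim_add _ _ hd, Nat.card_eq_fintype_card, hq]
  push_cast
  ring

end Cfsg.Agent.S2425
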