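import Cfsg.Statements.S2426
import Cfsg.Agent.Lib.SteinbergSL.Two
import Cfsg.Agent.Lib.Classical.Linear

set_option autoImplicit false
open Cfsg

namespace Cfsg.Agent.S2426

/-- The rank-one Steinberg presentation of `SL₂` over a finite field `K`: generators `x(t)`, `y(t)` (`t ∈ K`; the two opposite root subgroups) subject to additivity `x(t)x(u) = x(t+u)`, `y(t)y(u) = y(t+u)` and, with `w(t) = x(t) y(−t⁻¹) x(t)` and `w'(t) = y(t) x(−t⁻¹) y(t)` for `t ≠ 0`, the relations `w(t) x(u) w(t)⁻¹ = y(−t⁻² u)` and `w'(t) y(u) w'(t)⁻¹ = x(−t⁻² u)`, present `SL₂(K)`, with `x(t) ↦ (1 t; 0 1)` and `y(t) ↦ (1 0; t 1)`. -/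
theorem result {K : Type*} [Field K] [Finite K] :
    ∃ e : PresentedGroup
        ({g : FreeGroup (Bool × K) | ∃ (b : Bool) (t u : K), g = FreeGroup.of (b, t) * FreeGroup.of (b, u) * (FreeGroup.of (b, t + u))⁻¹} ∪
          {g | ∃ (b : Bool) (t u : K), t ≠ 0 ∧
            g = (FreeGroup.of (b, t) * FreeGroup.of (!b, -t⁻¹) * FreeGroup.of (b, t)) * FreeGroup.of (b, u) *
                  (FreeGroup.of (b, t) * FreeGroup.of (!b, -t⁻¹) * FreeGroup.of (b, t))⁻¹ * (FreeGroup.of (!b, -(t⁻¹ ^ 2 * u)))⁻¹})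
        ≃* Matrix.SpecialLinearGroup (Fin 2) K,
      (∀ t : K, ((e (PresentedGroup.of (true, t)) : Matrix (Fin 2) (Fin 2) K)) = !![1, t; 0, 1]) ∧
      (∀ t : K, ((e (PresentedGroup.of (false, t)) : Matrix (Fin 2) (Fin 2) K)) = !![1, 0; t, 1]) := by
  let f : Bool × K → Matrix.SpecialLinearGroup (Fin 2) K := fun p =>
    cond p.1 (Matrix.SpecialLinearGroup.transvection (show (0 : Fin 2) ≠ 1 by decide) p.2)
      (Matrix.SpecialLinearGroup.transvection (show (1 : Fin 2) ≠ 0 by decide) p.2)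
  have hf1 : ∀ t, (f (true, t) : Matrix (Fin 2) (Fin 2) K) = !![1, t; 0, 1] := fun t => by
    change Matrix.transvection (0 : Fin 2) 1 t = _
    ext i j; fin_cases i <;> fin_cases j <;> simp [Matrix.transvection]
  have hf0 : ∀ t, (f (false, t) : Matrix (Fin 2) (Fin 2) K) = !![1, 0; t, 1] := fun t => by
    change Matrix.transvection (1 : Fin 2) 0 t = _
    ext i j; fin_cases i <;> fin_cases j <;> simp [Matrix.transvection]
  set R : Set (FreeGroup (Bool × K)) :=
    {g : FreeGroup (Bool × K) | ∃ (b : Bool) (t u : K), g = FreeGroup.of (b, t) * FreeGroup.of (b, u) * (FreeGroup.of (b, t + u))⁻¹} ∪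
      {g | ∃ (b : Bool) (t u : K), t ≠ 0 ∧
        g = (FreeGroup.of (b, t) * FreeGroup.of (!b, -t⁻¹) * FreeGroup.of (b, t)) * FreeGroup.of (b, u) *
              (FreeGroup.of (b, t) * FreeGroup.of (!b, -t⁻¹) * FreeGroup.of (b, t))⁻¹ * (FreeGroup.of (!b, -(t⁻¹ ^ 2 * u)))⁻¹} with hR
  have hrels : ∀ g ∈ R, FreeGroup.lift f g = 1 := by
    rintro g (⟨b, t, u, rfl⟩ | ⟨b, t, u, ht, rfl⟩)
    all_goals
      simp only [map_mul, map_inv, FreeGroup.lift_apply_of]
      rw [mul_inv_eq_one]
    · apply Subtype.ext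
      cases b <;> simp only [Matrix.SpecialLinearGroup.coe_mul, hf0, hf1, Matrix.mul_fin_two] <;>
        ext i j <;> fin_cases i <;> fin_cases j <;> simp [add_comm]
    · rw [mul_inv_eq_iff_eq_mul]
      apply Subtype.ext
      cases b <;> simp only [Bool.not_true, Bool.not_false, Matrix.SpecialLinearGroup.coe_mul, hf0, hf1, Matrix.mul_fin_two] <;>
        ext i j <;> fin_cases i <;> fin_cases j <;> simp [ht] <;> field_simp <;> (first | ring1 | simp [ht])
  let σ : PresentedGroup R →* Matrix.SpecialLinearGroup (Fin 2) K := PresentedGroup.toGroup hrels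
  have hx : Cfsg.Agent.SteinbergSL.Two.Rels (fun b t => (PresentedGroup.of (b, t) : PresentedGroup R)) := by
    refine ⟨fun b t u => ?_, fun b t u ht => ?_⟩
    · have h := PresentedGroup.one_of_mem (show _ ∈ R from Or.inl ⟨b, t, u, rfl⟩)
      rw [map_mul, map_mul, map_inv, mul_inv_eq_one] at h
      exact h.symm
    · have h := PresentedGroup.one_of_mem (show _ ∈ R from Or.inr ⟨b, t, u, ht, rfl⟩)
      rw [map_mul, map_inv, mul_inv_eq_one] at h
      simp only [map_mul, map_inv] at h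
      exact h
  have h1 : ∀ t, (σ (PresentedGroup.of (true, t)) : Matrix (Fin 2) (Fin 2) K) = !![1, t; 0, 1] := fun t => by
    simp only [σ, PresentedGroup.toGroup.of, hf1]
  have h0 : ∀ t, (σ (PresentedGroup.of (false, t)) : Matrix (Fin 2) (Fin 2) K) = !![1, 0; t, 1] := fun t => by
    simp only [σ, PresentedGroup.toGroup.of, hf0]
  have hinj : Function.Injective σ :=
    Cfsg.Agent.SteinbergSL.Two.injective hx (PresentedGroup.closure_range_of R) σ h1 h0
  have hsurj : Function.Surjective σ := by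
    rw [← MonoidHom.range_eq_top]
    refine Cfsg.Agent.Classical.Linear.eq_top_of_transvection_mem _ fun i j hij c => ?_
    fin_cases i <;> fin_cases j <;> first | exact absurd rfl hij | skip
    · exact ⟨PresentedGroup.of (true, c), PresentedGroup.toGroup.of hrels⟩
    · exact ⟨PresentedGroup.of (false, c), PresentedGroup.toGroup.of hrels⟩
  exact ⟨MulEquiv.ofBijective σ ⟨hinj, hsurj⟩, h1, h0⟩

end Cfsg.Agent.S2426
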