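import Cfsg.Statements.S2428
import Mathlib
import Cfsg.Agent.Lib.Classical.TorusNormalizer
import Cfsg.Agent.Lib.GL2.Counts

set_option autoImplicit false
open Cfsg Matrix
open scoped MatrixGroups
open Cfsg.Agent.Classical Cfsg.Agent.Classical.TorusNormalizer

namespace Cfsg.Agent.S2428

/-- Let F be a finite field with q elements, q odd, and let d be a diagonal element of SL₂ over F whose diagonal entry a has a² ≠ 1 (such d exist exactly when q > 3). Then the centraliser of d is precisely the diagonal subgroup T; the normaliser of T has order 2(q − 1) and exactly (q + 5)/2 conjugacy classes; and every element of that normaliser outside T has square equal to −1. -/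
theorem result {F : Type*} [Field F] [Fintype F] (hodd : Odd (Fintype.card F))
    (d : Matrix.SpecialLinearGroup (Fin 2) F) (hd01 : (d : Matrix (Fin 2) (Fin 2) F) 0 1 = 0) (hd10 : (d : Matrix (Fin 2) (Fin 2) F) 1 0 = 0) (hda : (d : Matrix (Fin 2) (Fin 2) F) 0 0 ^ 2 ≠ 1) :
    (∀ g : Matrix.SpecialLinearGroup (Fin 2) F, g ∈ Subgroup.centralizer ({d} : Set (Matrix.SpecialLinearGroup (Fin 2) F)) ↔ ((g : Matrix (Fin 2) (Fin 2) F) 0 1 = 0 ∧ (g : Matrix (Fin 2) (Fin 2) F) 1 0 = 0)) ∧
    Nat.card (Subgroup.normalizer ((Subgroup.centralizer ({d} : Set (Matrix.SpecialLinearGroup (Fin 2) F))) : Set (Matrix.SpecialLinearGroup (Fin 2) F))) = 2 * (Fintype.card F - 1) ∧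
    Nat.card (ConjClasses (Subgroup.normalizer ((Subgroup.centralizer ({d} : Set (Matrix.SpecialLinearGroup (Fin 2) F))) : Set (Matrix.SpecialLinearGroup (Fin 2) F)))) = (Fintype.card F + 5) / 2 ∧
    ∀ g : Matrix.SpecialLinearGroup (Fin 2) F, g ∈ Subgroup.normalizer ((Subgroup.centralizer ({d} : Set (Matrix.SpecialLinearGroup (Fin 2) F))) : Set (Matrix.SpecialLinearGroup (Fin 2) F)) →
      g ∉ Subgroup.centralizer ({d} : Set (Matrix.SpecialLinearGroup (Fin 2) F)) → ((g * g) : Matrix (Fin 2) (Fin 2) F) = -1 := by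
  classical
  have h2 : (2 : F) ≠ 0 := SylowSL2.two_ne_zero_of_odd hodd
  have hdet := Matrix.SpecialLinearGroup.det_coe d
  rw [det_fin_two, hd01, zero_mul, sub_zero] at hdet
  let a : Fˣ := Units.mk0 ((d : Matrix (Fin 2) (Fin 2) F) 0 0) (left_ne_zero_of_mul_eq_one hdet)
  have hd : Torus.diagHom a = d := Subtype.ext (by
    ext i j
    fin_cases i <;> fin_cases j <;> simp [coe_diagHom, a, hd01, hd10]
    exact inv_eq_of_mul_eq_one_right hdet)
  have ha2 : a * a ≠ 1 := fun e => hda (by simpa [sq, a] using congrArg Units.val e)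
  have hq : 4 ≤ Fintype.card F := by
    have hne : ∀ x : Fˣ, x * x = 1 → a ≠ x := fun x hx e => ha2 (e ▸ hx)
    have hm1 : (1 : Fˣ) ≠ -1 := fun e => h2 (by
      have := congrArg Units.val e
      simp at this
      linear_combination this)
    have h3 : ({1, -1, a} : Finset Fˣ).card ≤ Fintype.card Fˣ := Finset.card_le_univ _
    rw [Finset.card_insert_of_notMem (by simp [hm1, (hne 1 (by simp)).symm]),
      Finset.card_pair (hne (-1) (by simp)).symm, Fintype.card_units] at h3
    omega
  have hD := torusData_diag (F := F) hq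
  have hmem : d ∈ (Torus.diagHom (F := F)).range := ⟨a, hd⟩
  have hd2 : d * d ≠ 1 := fun e => ha2 (Torus.diagHom_injective (by rw [map_mul, hd, e, map_one]))
  have hC := hD.centralizer_singleton hmem hd2
  have hcard : Nat.card (Torus.diagHom (F := F)).range = Fintype.card F - 1 := by
    rw [← Nat.card_congr (MonoidHom.ofInjective Torus.diagHom_injective).toEquiv,
      Linear.natCard_units_eq]
  obtain ⟨hN, hcl⟩ := (hD.dicyclic h2).card_classes _ hD.mem_normalizer
  rw [hC]
  refine ⟨fun g => ⟨?_, fun ⟨h01, h10⟩ => ?_⟩, by rw [hN, hcard], ?_, fun g hg hgT => ?_⟩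
  · rintro ⟨b, rfl⟩
    simp [coe_diagHom]
  · rw [← hC, Subgroup.mem_centralizer_singleton_iff]
    refine Subtype.ext ?_
    ext i j
    fin_cases i <;> fin_cases j <;>
      simp [Matrix.mul_apply, Fin.sum_univ_two, h01, h10, hd01, hd10, mul_comm]
  · rw [hcard] at hcl
    omega
  · exact (congrArg Subtype.val
      ((hD.dicyclic h2).sq_of_mem (((hD.mem_normalizer g).1 hg).resolve_left hgT)) : _)

end Cfsg.Agent.S2428
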