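import Cfsg.Statements.S2430
import Mathlib
import Cfsg.Agent.Lib.Classical.TorusNormalizer
import Cfsg.Agent.Lib.GL2.Counts

set_option autoImplicit false
open Cfsg Matrix
open scoped MatrixGroups
open Cfsg.Agent.Classical Cfsg.Agent.Classical.TorusNormalizer

namespace Cfsg.Agent.S2430

/-- Let F be a finite field with q elements, q odd, ℓ an odd prime, and P a Sylow ℓ-subgroup of SL₂ over F. If ℓ divides q − 1, the centraliser of P is cyclic of order q − 1 (a split torus) and the normaliser of P has order 2(q − 1); if ℓ divides q + 1, the centraliser of P is cyclic of order q + 1 (a non-split torus) and the normaliser of P has order 2(q + 1). -/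
theorem result {F : Type*} [Field F] [Fintype F] (hodd : Odd (Fintype.card F)) (ℓ : ℕ) [Fact ℓ.Prime] (hℓ : ℓ ≠ 2)
    (P : Sylow ℓ (Matrix.SpecialLinearGroup (Fin 2) F)) :
    (ℓ ∣ Fintype.card F - 1 →
      Nat.card (Subgroup.centralizer ((P : Subgroup (Matrix.SpecialLinearGroup (Fin 2) F)) : Set (Matrix.SpecialLinearGroup (Fin 2) F))) = Fintype.card F - 1 ∧
      IsCyclic (Subgroup.centralizer ((P : Subgroup (Matrix.SpecialLinearGroup (Fin 2) F)) : Set (Matrix.SpecialLinearGroup (Fin 2) F))) ∧
      Nat.card (Subgroup.normalizer ((P : Subgroup (Matrix.SpecialLinearGroup (Fin 2) F)) : Set (Matrix.SpecialLinearGroup (Fin 2) F))) = 2 * (Fintype.card F - 1)) ∧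
    (ℓ ∣ Fintype.card F + 1 →
      Nat.card (Subgroup.centralizer ((P : Subgroup (Matrix.SpecialLinearGroup (Fin 2) F)) : Set (Matrix.SpecialLinearGroup (Fin 2) F))) = Fintype.card F + 1 ∧
      IsCyclic (Subgroup.centralizer ((P : Subgroup (Matrix.SpecialLinearGroup (Fin 2) F)) : Set (Matrix.SpecialLinearGroup (Fin 2) F))) ∧
      Nat.card (Subgroup.normalizer ((P : Subgroup (Matrix.SpecialLinearGroup (Fin 2) F)) : Set (Matrix.SpecialLinearGroup (Fin 2) F))) = 2 * (Fintype.card F + 1)) := by
  have hp := (Fact.out : ℓ.Prime)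
  have hl3 : 3 ≤ ℓ := by have := hp.two_le; omega
  have hq1 := Fintype.one_lt_card (α := F)
  refine ⟨fun hdvd => ?_, fun hdvd => ?_⟩
  · have hq : 4 ≤ Fintype.card F := by
      have := Nat.le_of_dvd (by omega) hdvd
      omega
    have hnq : ¬ ℓ ∣ Fintype.card F := fun h => hp.not_dvd_one (by
      have := Nat.dvd_sub h hdvd
      rwa [show Fintype.card F - (Fintype.card F - 1) = 1 by omega] at this)
    have hnq1 : ¬ ℓ ∣ Fintype.card F + 1 := fun h => by
      have := Nat.dvd_sub h hdvd
      rw [show Fintype.card F + 1 - (Fintype.card F - 1) = 2 by omega] at this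
      have := Nat.le_of_dvd (by omega) this
      omega
    have h2 : (2 : F) ≠ 0 := SylowSL2.two_ne_zero_of_odd hodd
    have hcard : Nat.card (Torus.diagHom (F := F)).range = Fintype.card F - 1 := by
      rw [← Nat.card_congr (MonoidHom.ofInjective Torus.diagHom_injective).toEquiv,
        Linear.natCard_units_eq]
    haveI : IsCyclic (Torus.diagHom (F := F)).range :=
      isCyclic_of_surjective (Torus.diagHom (F := F)).rangeRestrict
        (MonoidHom.rangeRestrict_surjective _)
    have := sylow_of_torus h2 (torusData_diag hq) ℓ hℓ (hcard ▸ hdvd) (by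
      rw [hcard, SylowSL2.factorization_natCard_SL_two hp hnq,
        Nat.factorization_eq_zero_of_not_dvd hnq1, add_zero]) P
    rwa [hcard] at this
  · have hnq : ¬ ℓ ∣ Fintype.card F := fun h => hp.not_dvd_one (by
      simpa using Nat.dvd_sub hdvd h)
    have hnq1 : ¬ ℓ ∣ Fintype.card F - 1 := fun h => by
      have := Nat.dvd_sub hdvd h
      rw [show Fintype.card F + 1 - (Fintype.card F - 1) = 2 by omega] at this
      have := Nat.le_of_dvd (by omega) this
      omega
    classical
    have h2 : (2 : F) ≠ 0 := SylowSL2.two_ne_zero_of_odd hodd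
    obtain ⟨A, hA⟩ := Torus.exists_irreducible F
    haveI : Fact (∀ r : F, r ^ 2 ≠ A + 1 * r) := ⟨hA⟩
    obtain ⟨c, hc⟩ := Torus.norm_surjective (A := A) (B := 1) (-1 : F) (by norm_num)
    have hD := torusData_normOne hodd hc
    have hcard : Nat.card (Torus.torusHom (F := F) (A := A) (B := 1)).range = Fintype.card F + 1 := by
      rw [← Nat.card_congr (MonoidHom.ofInjective Torus.torusHom_injective).toEquiv,
        Torus.natCard_normOne]
    haveI hcyc : IsCyclic (Torus.torusHom (F := F) (A := A) (B := 1)).range :=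
      isCyclic_of_surjective (Torus.torusHom (F := F) (A := A) (B := 1)).rangeRestrict
        (MonoidHom.rangeRestrict_surjective _)
    have := sylow_of_torus h2 hD ℓ hℓ (hcard ▸ hdvd) (by
      rw [hcard, SylowSL2.factorization_natCard_SL_two hp hnq,
        Nat.factorization_eq_zero_of_not_dvd hnq1, zero_add]) P
    rwa [hcard] at this

end Cfsg.Agent.S2430
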