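import Cfsg.Statements.S2435
import Mathlib
import Cfsg.Agent.Lib.GL2.CuspidalTorusValues

set_option autoImplicit false
open Cfsg Matrix
open scoped MatrixGroups ComplexConjugate
open Cfsg.Agent.GL2 Borel CountsSL CuspidalTorusValues

namespace Cfsg.Agent.S2435

/-- Let F be a finite field with q elements, q odd and q ≥ 5, and χ an irreducible complex character of SL₂ over F. If χ has degree (q + 1)/2, then at a diagonal element with entry a, a² ≠ 1, χ takes the value 1 when a is a square in F and −1 otherwise. If χ has degree (q − 1)/2, then at an element g with no eigenvector in F² (so g has order dividing q + 1), χ takes the value −1 when g raised to the power (q + 1)/2 is the identity and the value 1 otherwise. -/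
theorem result {F : Type*} [Field F] [Fintype F] (hodd : Odd (Fintype.card F)) (hq : 5 ≤ Fintype.card F)
    (χ : Matrix.SpecialLinearGroup (Fin 2) F → ℂ) (hχ : Cfsg.IsIrrCharacter (Matrix.SpecialLinearGroup (Fin 2) F) χ) (g : Matrix.SpecialLinearGroup (Fin 2) F) :
    (χ 1 = (((Fintype.card F + 1) / 2 : ℕ) : ℂ) → (g : Matrix (Fin 2) (Fin 2) F) 0 1 = 0 → (g : Matrix (Fin 2) (Fin 2) F) 1 0 = 0 → (g : Matrix (Fin 2) (Fin 2) F) 0 0 ^ 2 ≠ 1 →
      (IsSquare ((g : Matrix (Fin 2) (Fin 2) F) 0 0) → χ g = 1) ∧ (¬ IsSquare ((g : Matrix (Fin 2) (Fin 2) F) 0 0) → χ g = -1)) ∧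
    (χ 1 = (((Fintype.card F - 1) / 2 : ℕ) : ℂ) → (∀ (c : F) (v : Fin 2 → F), v ≠ 0 → (g : Matrix (Fin 2) (Fin 2) F).mulVec v ≠ c • v) →
      (((g ^ ((Fintype.card F + 1) / 2)) : Matrix (Fin 2) (Fin 2) F) = 1 → χ g = -1) ∧ (((g ^ ((Fintype.card F + 1) / 2)) : Matrix (Fin 2) (Fin 2) F) ≠ 1 → χ g = 1)) := by
  classical
  have h4 : 4 ≤ Fintype.card F := by omega
  have hodd' := Nat.odd_iff.1 hodd
  have hh1 : (((Fintype.card F + 1) / 2 : ℕ) : ℂ) * 2 = (Fintype.card F : ℂ) + 1 := by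
    rw [← Nat.cast_ofNat (R := ℂ), ← Nat.cast_mul, Nat.div_mul_cancel (by omega)]
    simp
  have hh2 : (((Fintype.card F - 1) / 2 : ℕ) : ℂ) * 2 = (Fintype.card F : ℂ) - 1 := by
    rw [← Nat.cast_ofNat (R := ℂ), ← Nat.cast_mul, Nat.div_mul_cancel (by omega), cast_sub_one]
  refine ⟨fun h h01 h10 hsq => ?_, fun h hg => ?_⟩
  · have hd : 2 * χ 1 = (deg2 (Fintype.card F) 3 : ℂ) := by rw [h, mul_comm, hh1]; simp [deg2]
    have hk := kind_of_degree h4 hχ hd
    have hex : ∀ {j : Fin 6}, Kind j χ → (3 : Fin 6) = j := fun hj => kind_unique hk hj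
    obtain ⟨p, x, rfl⟩ := ValuesSL.exists_mkS h10
    obtain rfl : x = 0 := by simpa using h01
    have hp : p ≠ p⁻¹ := fun e => hsq (by
      have : p * p = 1 := by nth_rw 2 [e]; exact mul_inv_cancel p
      simpa [sq] using congrArg Units.val this)
    rcases ClassifySL.classify_degree hχ with ⟨e, -⟩ | ⟨e, -⟩ | ⟨⟨α, hα, e⟩, -⟩ | ⟨hh, -⟩ |
      ⟨hc, -⟩ | ⟨hc, -⟩
    · exact absurd (hex (e ▸ kind_zero)) (by decide)
    · exact absurd (hex (e ▸ kind_one)) (by decide)
    · exact absurd (hex (e ▸ kind_two hα)) (by decide)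
    · simpa using half_diag hodd hχ hh hp
    · exact absurd (hk.1.1 hc) (by decide)
    · exact absurd (hk.1.1 hc) (by decide)
  · have hdeg : 2 * χ 1 = (Fintype.card F : ℂ) - 1 := by rw [h, mul_comm, hh2]
    have hd : 2 * χ 1 = (deg2 (Fintype.card F) 5 : ℂ) := by rw [hdeg]; simp [deg2, cast_sub_one]
    obtain ⟨ha, hb⟩ := cusp_half_values hodd hχ ((kind_of_degree h4 hχ hd).1.2 rfl) hdeg g hg
    exact ⟨fun e => ha (Subtype.ext (by
        rw [Matrix.SpecialLinearGroup.coe_pow, Matrix.SpecialLinearGroup.coe_one]; exact e)),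
      fun e => hb fun e' => e (by
        rw [← Matrix.SpecialLinearGroup.coe_pow, e', Matrix.SpecialLinearGroup.coe_one])⟩

end Cfsg.Agent.S2435
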