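import Cfsg.Statements.S2437
import Mathlib
import Cfsg.Agent.Lib.GL2.ValuesSL

set_option autoImplicit false
open Cfsg Matrix
open scoped MatrixGroups ComplexConjugate
open Cfsg.Agent.GL2 Borel Principal PrincipalSL ClassifySL CountsSL
open Cfsg.Agent.Characters

namespace Cfsg.Agent.S2437

/-- Over a finite field F with q elements, q odd, the upper triangular subgroup of SL₂ (a Borel subgroup, of order q(q − 1)) has exactly q + 3 conjugacy classes. -/
theorem result {F : Type*} [Field F] [Fintype F] (hodd : Odd (Fintype.card F)) :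
    Nat.card (ConjClasses ((Cfsg.upperTriangularGL 2 F).comap Matrix.SpecialLinearGroup.toGL)) = Fintype.card F + 3 := by
  classical
  have h2 : (2 : F) ≠ 0 := Counts.two_ne_zero_of_odd hodd
  let s : Fˣ → F := fun a => (a : F) - ((a⁻¹ : Fˣ) : F)
  let φ : Fˣ × F ≃ BS F := Equiv.ofBijective _ mkS_bijective
  have hcomm : ∀ u v : Fˣ × F, Commute (φ u) (φ v) ↔ u.2 * s v.1 = v.2 * s u.1 := by
    intro u v
    have hc : Commute (φ u) (φ v) ↔
        (mkS u.1 u.2 : Matrix (Fin 2) (Fin 2) F) * (mkS v.1 v.2 : Matrix (Fin 2) (Fin 2) F) =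
          (mkS v.1 v.2 : Matrix (Fin 2) (Fin 2) F) * (mkS u.1 u.2 : Matrix (Fin 2) (Fin 2) F) :=
      ⟨fun h => congrArg (fun z : BS F => ((z : SL(2, F)) : Matrix (Fin 2) (Fin 2) F)) h.eq,
        fun h => Subtype.ext (Subtype.ext h)⟩
    rw [hc]
    constructor
    · intro h
      have := congrFun (congrFun h 0) 1
      simp [Matrix.mul_apply, Fin.sum_univ_two] at this
      simp only [s, Units.val_inv_eq_inv_val]
      linear_combination -this
    · intro h
      simp only [s, Units.val_inv_eq_inv_val] at h
      ext i j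
      fin_cases i <;> fin_cases j <;> simp [Matrix.mul_apply, Fin.sum_univ_two]
      · ring
      · linear_combination -h
      · ring
  let Z : Fˣ × Fˣ → Prop := fun ac => s ac.1 = 0 ∧ s ac.2 = 0
  have hfib : ∀ ac : Fˣ × Fˣ, Nat.card {bd : F × F // bd.1 * s ac.2 = bd.2 * s ac.1} =
      Fintype.card F + if Z ac then Fintype.card F ^ 2 - Fintype.card F else 0 := by
    rintro ⟨a, c⟩
    split_ifs with hz
    · rw [Nat.card_congr ((Equiv.subtypeEquivRight fun bd : F × F => by
        simp [hz.1, hz.2]).trans (Equiv.Set.univ (F × F))), Nat.card_prod, Nat.card_eq_fintype_card,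
        ← sq, Nat.add_sub_cancel' (Nat.le_self_pow two_ne_zero _)]
    · rw [add_zero, ← Nat.card_eq_fintype_card]
      refine Nat.card_congr ?_
      by_cases ha : s a = 0
      · have hc : s c ≠ 0 := fun h => hz ⟨ha, h⟩
        exact
          { toFun := fun bd => bd.1.2
            invFun := fun d => ⟨(0, d), by simp [ha]⟩
            left_inv := fun ⟨⟨b, d⟩, h⟩ => Subtype.ext (by
              have h' : b * s c = d * s a := h
              rw [ha, mul_zero] at h'
              simp [(mul_eq_zero.1 h').resolve_right hc])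
            right_inv := fun d => rfl }
      · exact
          { toFun := fun bd => bd.1.1
            invFun := fun b => ⟨(b, b * s c / s a), by simp [div_mul_cancel₀ _ ha]⟩
            left_inv := fun ⟨⟨b, d⟩, h⟩ => Subtype.ext (by
              have h' : b * s c = d * s a := h
              simp [h', ha])
            right_inv := fun b => rfl }
  let e : {uv : BS F × BS F // Commute uv.1 uv.2} ≃
      Σ ac : Fˣ × Fˣ, {bd : F × F // bd.1 * s ac.2 = bd.2 * s ac.1} :=
    ((φ.prodCongr φ).subtypeEquiv (p := fun uv => uv.1.2 * s uv.2.1 = uv.2.2 * s uv.1.1)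
      fun uv => (hcomm uv.1 uv.2).symm).symm.trans
      { toFun := fun w => ⟨(w.1.1.1, w.1.2.1), ⟨(w.1.1.2, w.1.2.2), w.2⟩⟩
        invFun := fun w => ⟨((w.1.1, w.2.1.1), (w.1.2, w.2.1.2)), w.2.2⟩
        left_inv := fun _ => rfl
        right_inv := fun _ => rfl }
  have hs0 : Finset.univ.filter (fun a : Fˣ => s a = 0) = {1, -1} := by
    ext a
    simp only [s, Finset.mem_filter, Finset.mem_univ, true_and, Finset.mem_insert,
      Finset.mem_singleton, sub_eq_zero, Units.val_inj, eq_inv_iff_mul_eq_one]
    constructor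
    · intro h
      have h' : (a : F) * a = 1 := by rw [← Units.val_mul, h, Units.val_one]
      rcases mul_self_eq_one_iff.1 h' with e | e
      · exact Or.inl (Units.ext e)
      · exact Or.inr (Units.ext (by simpa using e))
    · rintro (rfl | rfl) <;> simp
  have hne : (1 : Fˣ) ≠ -1 := fun h => h2 (by
    have := congrArg Units.val h
    simp at this
    linear_combination this)
  have hZ : (Finset.univ.filter Z).card = 4 := by
    rw [show Finset.univ.filter Z = ({1, -1} : Finset Fˣ) ×ˢ {1, -1} by
      rw [← hs0]; ext; simp [Z], Finset.card_product, Finset.card_pair hne]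
  have hmain := card_comm_eq_card_conjClasses_mul_card (BS F)
  rw [Nat.card_congr e, Nat.card_sigma, Finset.sum_congr rfl fun ac _ => hfib ac,
    Finset.sum_add_distrib, Finset.sum_const, Finset.card_univ, ← Finset.sum_filter, Finset.sum_const,
    hZ, natCard_BS, Fintype.card_prod, Fintype.card_units] at hmain
  have hq := Fintype.one_lt_card (α := F)
  obtain ⟨r, hr⟩ : ∃ r, Fintype.card F = r + 1 := ⟨Fintype.card F - 1, by omega⟩
  rw [hr] at hmain hq ⊢
  have hr2 : (r + 1) ^ 2 - (r + 1) = r * (r + 1) := by
    rw [show (r + 1) ^ 2 = r * (r + 1) + (r + 1) by ring, Nat.add_sub_cancel]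
  simp only [Nat.add_sub_cancel, smul_eq_mul, hr2] at hmain
  refine Nat.eq_of_mul_eq_mul_right (show 0 < r * (r + 1) from Nat.mul_pos (by omega) (by omega)) ?_
  rw [← hmain]
  ring

end Cfsg.Agent.S2437
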