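import Cfsg.Statements.S2436
import Mathlib
import Cfsg.Agent.Lib.GL2.CountsSL
import Cfsg.Agent.Lib.Classical.SylowTwoNormalizer
import Cfsg.Agent.Lib.Classical.SylowSL2
import Cfsg.Agent.Lib.CharTheory.Ito
import Cfsg.Agent.Lib.Characters.CentralIndex
import Cfsg.Agent.S2431
import Cfsg.Agent.S2437

set_option autoImplicit false
open Cfsg Matrix
open scoped MatrixGroups

namespace Cfsg.Agent.S2436

open Cfsg.Agent.Classical Cfsg.Agent.Classical.TorusNormalizer

universe u

/-- Number of irreducible characters of degree prime to `ℓ`. -/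
noncomputable def cnt (ℓ : ℕ) (H : Type u) [Group H] : ℕ :=
  Nat.card {χ : Cfsg.IrrCharacter H // ¬ ℓ ∣ Cfsg.charDegree (χ : H → ℂ)}

theorem charDegree_eq {H : Type u} [Group H] {χ : H → ℂ} {d : ℕ} (h : χ 1 = d) :
    Cfsg.charDegree χ = d := by simp [Cfsg.charDegree, h]

theorem cnt_congr (ℓ : ℕ) {H K : Type u} [Group H] [Group K] (e : H ≃* K) : cnt ℓ H = cnt ℓ K := by
  refine Nat.card_congr
    { toFun := fun χ => ⟨⟨(χ.1 : H → ℂ) ∘ e.symm, (Characters.isIrrCharacter_comp_mulEquiv e.symm).2 χ.1.2⟩,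
        by simpa [Cfsg.charDegree] using χ.2⟩
      invFun := fun χ => ⟨⟨(χ.1 : K → ℂ) ∘ e, (Characters.isIrrCharacter_comp_mulEquiv e).2 χ.1.2⟩,
        by simpa [Cfsg.charDegree] using χ.2⟩
      left_inv := fun χ => by ext x; simp
      right_inv := fun χ => by ext x; simp }

theorem cnt_all (ℓ : ℕ) {H : Type u} [Group H] [Finite H]
    (h : ∀ χ : H → ℂ, Cfsg.IsIrrCharacter H χ → ∃ d : ℕ, χ 1 = d ∧ ¬ ℓ ∣ d) :
    cnt ℓ H = Nat.card (ConjClasses H) := by
  rw [cnt, Nat.card_congr (Equiv.subtypeUnivEquiv fun χ : Cfsg.IrrCharacter H => ?_),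
    Characters.card_irrCharacter]
  obtain ⟨d, hd, hdvd⟩ := h _ χ.2
  rwa [charDegree_eq hd]

theorem cnt_two_group {H : Type u} [Group H] [Finite H] {k : ℕ} (hH : Nat.card H = 2 ^ k) :
    cnt 2 H = (commutator H).index := by
  rw [← Characters.card_degree_one]
  refine Nat.card_congr (Equiv.subtypeEquivRight fun χ => ?_)
  obtain ⟨d, hd, -, hdvd⟩ := Characters.irr_degree_dvd_card χ.2
  rw [hH] at hdvd
  obtain ⟨j, -, rfl⟩ := (Nat.dvd_prime_pow Nat.prime_two).1 hdvd
  rw [charDegree_eq hd, hd, ← Nat.cast_one, Nat.cast_inj, Nat.pow_eq_one]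
  constructor
  · intro h
    by_contra hne
    push Not at hne
    exact h (dvd_pow_self 2 hne.2)
  · rintro (h | rfl)
    · omega
    · simp

theorem quaternion_index (j : ℕ) (hj : 1 ≤ j) :
    (commutator (QuaternionGroup (2 ^ j))).index = 4 := by
  set n := 2 ^ j with hn
  have hn2 : 2 ≤ n := le_self_pow₀ (by norm_num) (by omega)
  haveI : NeZero n := ⟨by omega⟩
  set K := Subgroup.zpowers (QuaternionGroup.a (2 : ZMod (2 * n))) with hK
  have h2n : (n : ZMod (2 * n)) + n = 0 := by
    rw [← Nat.cast_add, ← two_mul, ZMod.natCast_self]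
  have hmem : ∀ m k : ZMod (2 * n), k = 2 * m → QuaternionGroup.a k ∈ K := by
    rintro m k rfl
    have e : QuaternionGroup.a (2 : ZMod (2 * n)) = QuaternionGroup.a 1 ^ 2 := by
      rw [QuaternionGroup.a_one_pow]; norm_num
    refine ⟨(m.val : ℤ), ?_⟩
    show QuaternionGroup.a (2 : ZMod (2 * n)) ^ (m.val : ℤ) = _
    rw [zpow_natCast, e, ← pow_mul, QuaternionGroup.a_one_pow]
    simp
  have hia : ∀ i : ZMod (2 * n), (QuaternionGroup.a i)⁻¹ = QuaternionGroup.a (-i) := fun i =>
    inv_eq_of_mul_eq_one_right (by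
      rw [QuaternionGroup.a_mul_a, add_neg_cancel, QuaternionGroup.one_def])
  have hixa : ∀ i : ZMod (2 * n), (QuaternionGroup.xa i)⁻¹ = QuaternionGroup.xa ((n : ZMod (2 * n)) + i) :=
    fun i => inv_eq_of_mul_eq_one_right (by
      rw [QuaternionGroup.xa_mul_xa, QuaternionGroup.one_def]
      congr 1
      linear_combination h2n)
  have hKeq : commutator (QuaternionGroup n) = K := by
    refine le_antisymm ?_ ?_
    · rw [commutator_def, Subgroup.commutator_le]
      rintro g₁ - g₂ -
      rw [commutatorElement_def]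
      rcases g₁ with i | i <;> rcases g₂ with k | k <;>
        simp only [hia, hixa, QuaternionGroup.a_mul_a,
          QuaternionGroup.a_mul_xa, QuaternionGroup.xa_mul_a, QuaternionGroup.xa_mul_xa]
      · exact hmem 0 _ (by ring)
      · exact hmem i _ (by linear_combination h2n)
      · exact hmem (-k) _ (by linear_combination h2n)
      · exact hmem (k - i) _ (by linear_combination h2n)
    · rw [hK, Subgroup.zpowers_le, show QuaternionGroup.a (2 : ZMod (2 * n)) =
        (QuaternionGroup.a 1 : QuaternionGroup n) * QuaternionGroup.xa 0 *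
          (QuaternionGroup.a 1)⁻¹ * (QuaternionGroup.xa 0)⁻¹ by
          simp only [hia, hixa,
            QuaternionGroup.a_mul_xa, QuaternionGroup.xa_mul_a, QuaternionGroup.xa_mul_xa]
          congr 1
          linear_combination -h2n]
      exact Subgroup.commutator_mem_commutator (g₁ := QuaternionGroup.a 1) (g₂ := QuaternionGroup.xa 0) trivial trivial
  have hord : Nat.card K = n := by
    rw [hK, Nat.card_zpowers, QuaternionGroup.orderOf_a]
    have hv : (2 : ZMod (2 * n)).val = 2 := by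
      rw [show (2 : ZMod (2 * n)) = ((2 : ℕ) : ZMod (2 * n)) by norm_num, ZMod.val_natCast,
        Nat.mod_eq_of_lt (by omega)]
    rw [hv, Nat.gcd_eq_right (Dvd.intro n rfl), Nat.mul_div_cancel_left _ two_pos]
  have := K.card_mul_index
  rw [hord, Nat.card_eq_fintype_card, QuaternionGroup.card, mul_comm 4 n] at this
  rw [hKeq]
  exact Nat.eq_of_mul_eq_mul_left (by omega) this

theorem det_one {H : Type u} [Group H] [Finite H] {χ : H → ℂ} (hχ : Cfsg.IsIrrCharacter H χ)
    {d : ℕ} (hd : χ 1 = d) (hodd : Odd d) (z : H) (hz : z ∈ commutator H)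
    (hzc : ∀ g : H, g * z = z * g) (hz2 : z * z = 1) : χ z = χ 1 := by
  obtain ⟨n, ρ, hρ, rfl⟩ := hχ
  rw [ρ.char_one, Module.finrank_fin_fun, Nat.cast_inj] at hd
  subst hd
  haveI := hρ
  obtain ⟨c, hc⟩ := Characters.schur_scalar ρ (ρ z) fun g v => by
    rw [← Module.End.mul_apply, ← Module.End.mul_apply, ← map_mul, ← map_mul, hzc g]
  let D : H →* ℂˣ := MonoidHom.toHomUnits ((LinearMap.det : ((Fin n → ℂ) →ₗ[ℂ] (Fin n → ℂ)) →* ℂ).comp ρ)
  have hD : D z = 1 := Abelianization.commutator_subset_ker D hz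
  have hcn : c ^ n = 1 := by
    have e : LinearMap.det (ρ z) = 1 := congrArg Units.val hD
    rw [hc, LinearMap.det_smul, LinearMap.det_id, mul_one, Module.finrank_fin_fun] at e
    exact e
  have hc2 : c ^ 2 = 1 := by
    have hn0 : n ≠ 0 := by rintro rfl; simp at hodd
    haveI : NeZero n := ⟨hn0⟩
    have e : ρ z * ρ z = 1 := by rw [← map_mul, hz2, map_one]
    rw [hc] at e
    have := congrArg (fun f : (Fin n → ℂ) →ₗ[ℂ] (Fin n → ℂ) => f (fun _ => 1) 0) e
    simpa [Module.End.mul_apply, sq] using this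
  have hc1 : c = 1 := by
    obtain ⟨m, rfl⟩ := hodd
    rwa [pow_succ, pow_mul, hc2, one_pow, one_mul] at hcn
  rw [ρ.char_one]
  simp [Representation.character, hc, hc1]

theorem cnt_quotient {H : Type u} [Group H] [Finite H] (z : H) (hz : z ∈ commutator H)
    (hzc : ∀ g : H, g * z = z * g) (hz2 : z * z = 1) [(Subgroup.zpowers z).Normal] :
    cnt 2 H = cnt 2 (H ⧸ Subgroup.zpowers z) := by
  symm
  refine Nat.card_eq_of_bijective
    (fun χ => ⟨⟨(χ.1 : H ⧸ Subgroup.zpowers z → ℂ) ∘ QuotientGroup.mk' _,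
      Characters.isIrrCharacter_comp_surjective _ (QuotientGroup.mk'_surjective _) χ.1.2⟩,
      by simpa [Cfsg.charDegree] using χ.2⟩) ⟨fun χ η h => ?_, fun χ => ?_⟩
  · ext x
    obtain ⟨y, rfl⟩ := QuotientGroup.mk_surjective x
    exact congrFun (congrArg (fun w => (w.1 : H → ℂ)) h) y
  · obtain ⟨d, hd⟩ := Characters.char_one_nat (Characters.irr_isCharacter χ.1)
    have hodd : Odd d := by
      have := χ.2
      rw [charDegree_eq hd] at this
      exact Nat.odd_iff.2 (by omega)
    have hker : ∀ x ∈ Subgroup.zpowers z, (χ.1 : H → ℂ) x = (χ.1 : H → ℂ) 1 := by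
      rintro _ ⟨i, rfl⟩
      show (χ.1 : H → ℂ) (z ^ i) = _
      rcases Int.even_or_odd' i with ⟨k, rfl | rfl⟩
      · rw [_root_.zpow_mul, zpow_two, hz2, _root_.one_zpow]
      · rw [_root_.zpow_add, _root_.zpow_mul, zpow_two, hz2, _root_.one_zpow, one_mul, zpow_one,
          det_one χ.1.2 hd hodd z hz hzc hz2]
    obtain ⟨ψ, -, hψ, hirr⟩ :=
      Characters.exists_deflate_quotient _ (Characters.irr_isCharacter χ.1) hker
    refine ⟨⟨⟨ψ, hirr χ.1.2⟩, ?_⟩, ?_⟩
    · rw [charDegree_eq (d := d) (by rw [← hd, ← hψ 1]; rfl)]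
      have := χ.2
      rwa [charDegree_eq hd] at this
    · ext x; exact hψ x

theorem four_classes {Q : Type u} [Group Q] [Finite Q] (hcard : Nat.card Q = 12)
    (V : Subgroup Q) [V.Normal] (hV : Nat.card V = 4) (hna : ∃ a b : Q, a * b ≠ b * a) :
    cnt 2 Q = 4 := by
  classical
  haveI : Fact (Nat.Prime 2) := ⟨Nat.prime_two⟩
  have hab : ∀ a ∈ V, ∀ b ∈ V, a * b = b * a := fun a ha b hb =>
    congrArg Subtype.val ((IsPGroup.commGroupOfCardEqPrimeSq (p := 2) (G := V) hV).mul_comm
      ⟨a, ha⟩ ⟨b, hb⟩)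
  have hidx : V.index = 3 := by
    have := V.card_mul_index
    rw [hV, hcard] at this; omega
  have hdeg : ∀ χ : Q → ℂ, Cfsg.IsIrrCharacter Q χ → ∃ d : ℕ, χ 1 = d ∧ (d = 1 ∨ d = 3) :=
    fun χ hχ => by
      obtain ⟨d, hd, hdvd⟩ := CharTheory.Ito.degree_dvd_index_abelian V hab hχ
      rw [hidx] at hdvd
      exact ⟨d, hd, (Nat.dvd_prime Nat.prime_three).1 hdvd⟩
  rw [cnt_all 2 fun χ hχ => by
    obtain ⟨d, hd, h⟩ := hdeg χ hχ
    exact ⟨d, hd, by omega⟩, ← Characters.card_irrCharacter]
  haveI := Fintype.ofFinite (Cfsg.IrrCharacter Q)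
  have hs := Characters.sum_degree_sq (G := Q)
  have hL := Characters.card_degree_one (G := Q)
  rw [Nat.card_eq_fintype_card, Fintype.card_subtype] at hL
  rw [hcard, ← Finset.sum_filter_add_sum_filter_not _ (fun χ : Cfsg.IrrCharacter Q => (χ : Q → ℂ) 1 = 1),
    Finset.sum_congr rfl (g := fun _ => (1 : ℂ)) (fun χ hχ => by
      rw [(Finset.mem_filter.1 hχ).2, one_pow]),
    Finset.sum_congr rfl (g := fun _ => (9 : ℂ))
      (s₁ := Finset.univ.filter fun χ : Cfsg.IrrCharacter Q => ¬ (χ : Q → ℂ) 1 = 1) (fun χ hχ => by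
      obtain ⟨d, hd, h⟩ := hdeg χ χ.2
      rcases h with rfl | rfl
      · exact absurd (hd.trans Nat.cast_one) (Finset.mem_filter.1 hχ).2
      · rw [hd]; norm_num), Finset.sum_const, Finset.sum_const, nsmul_eq_mul, nsmul_eq_mul,
    mul_one] at hs
  have hLdvd : (commutator Q).index ∣ 12 := hcard ▸ (commutator Q).index_dvd_card
  have hne : (commutator Q).index ≠ 12 := fun e => by
    obtain ⟨a, b, hab'⟩ := hna
    refine hab' ?_
    have hbot : commutator Q = ⊥ := by
      have := (commutator Q).card_mul_index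
      rw [e, hcard] at this
      exact Subgroup.card_eq_one.1 (by omega)
    have := Subgroup.commutator_mem_commutator (G := Q) (H₁ := ⊤) (H₂ := ⊤) (g₁ := a) (g₂ := b)
      trivial trivial
    rw [← commutator_def, hbot, Subgroup.mem_bot, commutatorElement_eq_one_iff_mul_comm] at this
    exact this
  rw [Nat.card_eq_fintype_card, ← Finset.card_univ,
    ← Finset.card_filter_add_card_filter_not (s := Finset.univ)
      (fun χ : Cfsg.IrrCharacter Q => (χ : Q → ℂ) 1 = 1)]
  generalize (Finset.univ.filter fun χ : Cfsg.IrrCharacter Q => ¬ (χ : Q → ℂ) 1 = 1).card = M at hs ⊢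
  rw [hL] at hs ⊢
  have hs' : (commutator Q).index + M * 9 = 12 := by exact_mod_cast hs
  have hd : (commutator Q).index ∈ ({1, 2, 3, 4, 6, 12} : Finset ℕ) := by
    rw [show ({1, 2, 3, 4, 6, 12} : Finset ℕ) = Nat.divisors 12 by decide]
    exact Nat.mem_divisors.2 ⟨hLdvd, by norm_num⟩
  simp only [Finset.mem_insert, Finset.mem_singleton] at hd
  omega

variable {F : Type u} [Field F] [Fintype F]

theorem cnt_torus (h2 : (2 : F) ≠ 0) {T : Subgroup SL(2, F)} {y : SL(2, F)} (h : TorusData T y)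
    (ℓ : ℕ) [Fact ℓ.Prime] (hℓ : ℓ ≠ 2) (hdvd : ℓ ∣ Nat.card T)
    (hv : (Nat.card T).factorization ℓ = (Nat.card SL(2, F)).factorization ℓ)
    (P : Sylow ℓ SL(2, F)) :
    2 * cnt ℓ (Subgroup.normalizer ((P : Subgroup SL(2, F)) : Set SL(2, F))) = Nat.card T + 6 := by
  classical
  have hp : ℓ.Prime := Fact.out
  obtain ⟨D⟩ : Nonempty (Sylow ℓ T) := inferInstance
  have hHcard : Nat.card ((D : Subgroup T).map T.subtype) =
      ℓ ^ (Nat.card SL(2, F)).factorization ℓ := by
    rw [Subgroup.card_map_of_injective T.subtype_injective, Sylow.card_eq_multiplicity, hv]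
  obtain ⟨c, hc⟩ := MulAction.exists_smul_eq SL(2, F) (Sylow.ofCard _ hHcard) P
  have hP : (P : Subgroup SL(2, F)) =
      ((D : Subgroup T).map T.subtype).map (MulAut.conj c).toMonoidHom := by
    rw [← hc]
    rfl
  have hHT : (D : Subgroup T).map T.subtype ≤ T := Subgroup.map_subtype_le _
  obtain ⟨g, hg, hg2⟩ : ∃ g ∈ (D : Subgroup T).map T.subtype, g * g ≠ 1 := by
    have hpos : 0 < (Nat.card SL(2, F)).factorization ℓ := by
      rw [← hv]
      exact Nat.Prime.factorization_pos_of_dvd hp Nat.card_pos.ne' hdvd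
    have hne : (D : Subgroup T).map T.subtype ≠ ⊥ := fun e => by
      rw [e, Subgroup.card_bot] at hHcard
      exact (Nat.one_lt_pow hpos.ne' hp.one_lt).ne hHcard
    obtain ⟨g, hg, hg1⟩ := (Subgroup.bot_or_exists_ne_one _).resolve_left hne
    refine ⟨g, hg, fun e => hg1 ?_⟩
    rw [← orderOf_eq_one_iff]
    exact Nat.eq_one_of_dvd_coprimes
      ((((Nat.coprime_primes hp Nat.prime_two).2 hℓ)).pow_left _)
      (hHcard ▸ Subgroup.orderOf_dvd_natCard _ hg) (orderOf_dvd_of_pow_eq_one (by rw [sq, e]))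
  set N := Subgroup.normalizer (((D : Subgroup T).map T.subtype : Subgroup SL(2, F)) : Set SL(2, F))
    with hN
  have hmem : ∀ n, n ∈ N ↔ n ∈ T ∨ y⁻¹ * n ∈ T := fun n => by
    rw [hN, h.mem_normalizer_of_le hHT hg hg2]
  obtain ⟨hNc, hcl⟩ := (h.dicyclic h2).card_classes N hmem
  have hTN : T ≤ N := fun t ht => (hmem t).2 (Or.inl ht)
  have hTidx : (T.subgroupOf N).index = 2 := by
    have := (T.subgroupOf N).card_mul_index
    rw [Nat.card_congr (Subgroup.subgroupOfEquivOfLe hTN).toEquiv, hNc, mul_comm 2] at this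
    exact Nat.eq_of_mul_eq_mul_left Nat.card_pos this
  haveI : (T.subgroupOf N).Normal := Subgroup.normal_of_index_eq_two hTidx
  rw [hP, ← Subgroup.map_equiv_normalizer_eq,
    ← cnt_congr ℓ (N.equivMapOfInjective (MulAut.conj c).toMonoidHom (MulAut.conj c).injective),
    cnt_all ℓ fun χ hχ => by
      obtain ⟨d, hd, hdd⟩ := CharTheory.Ito.degree_dvd_index_abelian (T.subgroupOf N)
        (fun a ha b hb => Subtype.ext (h.comm _ ha _ hb)) hχ
      rw [hTidx] at hdd
      refine ⟨d, hd, fun e => hℓ ?_⟩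
      exact (Nat.prime_dvd_prime_iff_eq hp Nat.prime_two).1 (e.trans hdd),
    hcl]

/-- The upper unitriangular subgroup. -/
def uni : Multiplicative F →* SL(2, F) where
  toFun x := ⟨!![1, x.toAdd; 0, 1], by simp [det_fin_two_of]⟩
  map_one' := Subtype.ext (by ext i j; fin_cases i <;> fin_cases j <;> simp)
  map_mul' a b := Subtype.ext (by
    show _ = !![(1 : F), a.toAdd; 0, 1] * !![1, b.toAdd; 0, 1]
    simp [add_comm])

theorem coe_uni (x : Multiplicative F) :
    ((uni x : SL(2, F)) : Matrix (Fin 2) (Fin 2) F) = !![1, x.toAdd; 0, 1] := rfl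

theorem cnt_borel (hodd : Odd (Fintype.card F)) (ℓ : ℕ) [Fact ℓ.Prime] [CharP F ℓ]
    (P : Sylow ℓ SL(2, F)) :
    cnt ℓ (Subgroup.normalizer ((P : Subgroup SL(2, F)) : Set SL(2, F))) = Fintype.card F + 3 := by
  classical
  have hp : ℓ.Prime := Fact.out
  have hinj : Function.Injective (uni : Multiplicative F →* SL(2, F)) := fun a b h => by
    have := congrArg (fun g : SL(2, F) => g.1 0 1) h
    simpa [coe_uni] using this
  obtain ⟨m, -, hm⟩ := FiniteField.card F ℓ
  have hq1 := Fintype.one_lt_card (α := F)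
  have hU : Nat.card (uni : Multiplicative F →* SL(2, F)).range =
      ℓ ^ (Nat.card SL(2, F)).factorization ℓ := by
    rw [← Nat.card_congr (MonoidHom.ofInjective hinj).toEquiv, Nat.card_eq_fintype_card,
      Fintype.card_multiplicative, hm]
    congr 1
    have hl1 : ¬ ℓ ∣ (Fintype.card F - 1) * (Fintype.card F + 1) := fun h => by
      have hq : ℓ ∣ Fintype.card F := hm ▸ dvd_pow_self ℓ m.pos.ne'
      rcases hp.dvd_mul.1 h with h | h
      · have := Nat.dvd_sub hq h
        rw [show Fintype.card F - (Fintype.card F - 1) = 1 by omega] at this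
        exact hp.not_dvd_one this
      · have := Nat.dvd_sub h hq
        rw [show Fintype.card F + 1 - Fintype.card F = 1 by omega] at this
        exact hp.not_dvd_one this
    rw [GL2.natCard_SL_two, Nat.factorization_mul Fintype.card_ne_zero (fun e => hl1 (by rw [e]; exact dvd_zero _)),
      Finsupp.add_apply, Nat.factorization_eq_zero_of_not_dvd hl1, add_zero, hm,
      hp.factorization_pow, Finsupp.single_eq_same]
  obtain ⟨c, hc⟩ := MulAction.exists_smul_eq SL(2, F) (Sylow.ofCard _ hU) P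
  have hP : (P : Subgroup SL(2, F)) =
      (uni : Multiplicative F →* SL(2, F)).range.map (MulAut.conj c).toMonoidHom := by
    rw [← hc]
    rfl
  set U := (uni : Multiplicative F →* SL(2, F)).range with hUdef
  have hmemU : ∀ g : SL(2, F), g ∈ U ↔ g.1 1 0 = 0 ∧ g.1 0 0 = 1 := by
    intro g
    refine ⟨?_, fun ⟨h10, h00⟩ => ⟨Multiplicative.ofAdd (g.1 0 1), ?_⟩⟩
    · rintro ⟨x, rfl⟩; simp [coe_uni]
    · have hd := Matrix.SpecialLinearGroup.det_coe g
      rw [det_fin_two, h10, h00, mul_zero, sub_zero, one_mul] at hd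
      refine Subtype.ext ?_
      ext i j
      fin_cases i <;> fin_cases j <;> simp [coe_uni, h10, h00, hd]
  have hUB : U ≤ GL2.Borel.BS F := fun g hg => (GL2.Borel.mem_BS_iff g).2 ((hmemU g).1 hg).1
  have hdiag : ∀ g : SL(2, F), g.1 1 0 = 0 → g.1 0 0 * g.1 1 1 = 1 := fun g h => by
    have hd := Matrix.SpecialLinearGroup.det_coe g
    rwa [det_fin_two, h, mul_zero, sub_zero] at hd
  have hinv00 : ∀ g : SL(2, F), (g⁻¹).1 0 0 = g.1 1 1 := fun g => by
    rw [Matrix.SpecialLinearGroup.coe_inv, adjugate_fin_two]; simp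
  have hinv10 : ∀ g : SL(2, F), (g⁻¹).1 1 0 = -g.1 1 0 := fun g => by
    rw [Matrix.SpecialLinearGroup.coe_inv, adjugate_fin_two]; simp
  have hnorm : Subgroup.normalizer (U : Set SL(2, F)) = GL2.Borel.BS F := by
    ext g
    rw [GL2.Borel.mem_BS_iff]
    refine ⟨fun hg => ?_, fun hg => ?_⟩
    · have := ((hmemU _).1 ((Subgroup.mem_normalizer_iff.1 hg _).1
        (MonoidHom.mem_range.2 ⟨Multiplicative.ofAdd 1, rfl⟩))).1
      simp [coe_uni, Matrix.mul_apply, Fin.sum_univ_two, Matrix.SpecialLinearGroup.coe_inv,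
        adjugate_fin_two] at this
      refine (pow_eq_zero_iff two_ne_zero).1 ?_
      linear_combination -this
    · refine (Subgroup.mem_normalizer_iff.2 fun u => ⟨fun hu => ?_, fun hu => ?_⟩)
      · obtain ⟨h10, h00⟩ := (hmemU u).1 hu
        refine (hmemU _).2 ⟨?_, ?_⟩ <;>
          simp only [Matrix.SpecialLinearGroup.coe_mul, Matrix.mul_apply, Fin.sum_univ_two, hinv00,
            hinv10, hg, h10, h00]
        · ring
        · linear_combination hdiag g hg
      · obtain ⟨h10, h00⟩ := (hmemU _).1 hu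
        simp only [Matrix.SpecialLinearGroup.coe_mul, Matrix.mul_apply, Fin.sum_univ_two, hinv00,
          hinv10, hg] at h10 h00
        have hu10 : u.1 1 0 = 0 := by
          have : g.1 1 1 * g.1 1 1 * u.1 1 0 = 0 := by linear_combination h10
          refine (mul_eq_zero.1 this).resolve_left (mul_self_ne_zero.2 ?_)
          exact right_ne_zero_of_mul_eq_one (hdiag g hg)
        refine (hmemU _).2 ⟨hu10, ?_⟩
        linear_combination h00 - (g.1 0 1 * g.1 1 1) * hu10 - u.1 0 0 * hdiag g hg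
  have hidx : (U.subgroupOf (GL2.Borel.BS F)).index = Fintype.card F - 1 := by
    have := (U.subgroupOf (GL2.Borel.BS F)).card_mul_index
    rw [Nat.card_congr (Subgroup.subgroupOfEquivOfLe hUB).toEquiv, GL2.Borel.natCard_BS,
      show Nat.card U = Fintype.card F by
        rw [hUdef, ← Nat.card_congr (MonoidHom.ofInjective hinj).toEquiv, Nat.card_eq_fintype_card,
          Fintype.card_multiplicative], mul_comm] at this
    exact Nat.eq_of_mul_eq_mul_right Fintype.card_pos this
  haveI : (U.subgroupOf (GL2.Borel.BS F)).Normal := Subgroup.normal_subgroupOf_of_le_normalizer (hnorm ▸ le_rfl)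
  rw [hP, ← Subgroup.map_equiv_normalizer_eq,
    ← cnt_congr ℓ ((Subgroup.normalizer (U : Set SL(2, F))).equivMapOfInjective
      (MulAut.conj c).toMonoidHom (MulAut.conj c).injective),
    cnt_congr ℓ (MulEquiv.subgroupCongr hnorm),
    cnt_all ℓ fun χ hχ => by
      obtain ⟨d, hd, hdd⟩ := CharTheory.Ito.degree_dvd_index_abelian (U.subgroupOf (GL2.Borel.BS F))
        (fun a ha b hb => by
          obtain ⟨x, hx⟩ := ha
          obtain ⟨z, hz⟩ := hb
          refine Subtype.ext ?_
          show (a : SL(2, F)) * b = b * a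
          rw [← show uni x = (a : SL(2, F)) from hx, ← show uni z = (b : SL(2, F)) from hz,
            ← map_mul, ← map_mul, mul_comm]) hχ
      rw [hidx] at hdd
      refine ⟨d, hd, fun e => ?_⟩
      have h1 := e.trans hdd
      have hq : ℓ ∣ Fintype.card F := hm ▸ dvd_pow_self ℓ m.pos.ne'
      have := Nat.dvd_sub hq h1
      rw [show Fintype.card F - (Fintype.card F - 1) = 1 by omega] at this
      exact hp.not_dvd_one this]
  exact S2437.result hodd

theorem cnt_two (hodd : Odd (Fintype.card F)) (S : Sylow 2 SL(2, F)) :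
    cnt 2 (Subgroup.normalizer ((S : Subgroup SL(2, F)) : Set SL(2, F))) = 4 := by
  classical
  haveI : Fact (Nat.Prime 2) := ⟨Nat.prime_two⟩
  obtain ⟨hcent, hN1, hN3⟩ := S2431.result hodd S
  obtain ⟨⟨e⟩, hv3⟩ := SylowSL2.sylow_two hodd S
  set v := (Nat.card SL(2, F)).factorization 2 with hv
  have hScard : Nat.card S = 2 ^ v := Sylow.card_eq_multiplicity S
  rcases (show (Fintype.card F % 8 = 1 ∨ Fintype.card F % 8 = 7) ∨
    (Fintype.card F % 8 = 3 ∨ Fintype.card F % 8 = 5) by rw [Nat.odd_iff] at hodd; omega) with h8 | h8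
  · rw [hN1 h8, cnt_two_group (k := v) hScard]
    have h1 := quaternion_index (v - 2) (by omega)
    rw [← Characters.card_linear_hom] at h1 ⊢
    rw [← h1]
    exact Nat.card_congr (e.monoidHomCongrLeftEquiv)
  · have h2 : (2 : F) ≠ 0 := SylowSL2.two_ne_zero_of_odd hodd
    have hNcard := hN3 h8
    set N := Subgroup.normalizer ((S : Subgroup SL(2, F)) : Set SL(2, F)) with hNdef
    have hq : ¬ 2 ∣ Fintype.card F := by rw [Nat.odd_iff] at hodd; omega
    have hv' : v = 3 := by
      rw [hv, SylowSL2.factorization_natCard_SL_two (F := F) Nat.prime_two hq]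
      have f4 : ∀ m, m ≠ 0 → m % 8 = 4 → m.factorization 2 = 2 := fun m hm h => by
        have a := (Nat.Prime.pow_dvd_iff_le_factorization Nat.prime_two hm (k := 2)).1 (by omega)
        by_contra hne
        have := (Nat.Prime.pow_dvd_iff_le_factorization Nat.prime_two hm (k := 3)).2 (by omega)
        omega
      have f2 : ∀ m, m ≠ 0 → m % 4 = 2 → m.factorization 2 = 1 := fun m hm h => by
        have a := (Nat.Prime.pow_dvd_iff_le_factorization Nat.prime_two hm (k := 1)).1 (by omega)
        by_contra hne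
        have := (Nat.Prime.pow_dvd_iff_le_factorization Nat.prime_two hm (k := 2)).2 (by omega)
        omega
      have := Fintype.one_lt_card (α := F)
      rcases h8 with h8 | h8
      · rw [f2 (Fintype.card F - 1) (by omega) (by omega), f4 (Fintype.card F + 1) (by omega) (by omega)]
      · rw [f4 (Fintype.card F - 1) (by omega) (by omega), f2 (Fintype.card F + 1) (by omega) (by omega)]
    -- the central involution
    have hindex := quaternion_index (v - 2) (by omega)
    obtain ⟨w, hw, hw1⟩ : ∃ w ∈ commutator (QuaternionGroup (2 ^ (v - 2))), w ≠ 1 := by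
      refine (Subgroup.bot_or_exists_ne_one _).resolve_left fun hb => ?_
      rw [hb, Subgroup.index_bot, Nat.card_eq_fintype_card, QuaternionGroup.card] at hindex
      have : 2 ≤ 2 ^ (v - 2) := le_self_pow₀ (by norm_num) (by omega)
      omega
    have hwc : Nat.card (commutator (QuaternionGroup (2 ^ (v - 2)))) = 2 := by
      have := (commutator (QuaternionGroup (2 ^ (v - 2)))).card_mul_index
      rw [hindex, Nat.card_eq_fintype_card (α := QuaternionGroup _), QuaternionGroup.card, hv'] at this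
      rw [show (2 : ℕ) ^ (3 - 2) = 2 from rfl] at this
      rw [hv', show (2 : ℕ) ^ (3 - 2) = 2 from rfl]
      omega
    have hw2 : w * w = 1 := by
      have := pow_card_eq_one' (G := commutator (QuaternionGroup (2 ^ (v - 2)))) (x := ⟨w, hw⟩)
      rw [hwc, sq] at this
      exact congrArg Subtype.val this
    let ι : (S : Subgroup SL(2, F)) →* N := Subgroup.inclusion Subgroup.le_normalizer
    set z : N := ι (e.symm w) with hz
    have hιinj : Function.Injective ι := Subgroup.inclusion_injective _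
    have hz1 : z ≠ 1 := fun h => hw1 (e.symm.injective (hιinj (by rw [← hz, h, map_one, map_one])))
    have hz2 : z * z = 1 := by rw [hz, ← map_mul, ← map_mul, hw2, map_one, map_one]
    have hzm : ((z : SL(2, F)) : Matrix (Fin 2) (Fin 2) F) = -1 :=
      SylowSL2.eq_neg_one_of_sq h2 _ (fun h => hz1 (Subtype.ext h)) (congrArg Subtype.val hz2)
    have hzc : ∀ g : N, g * z = z * g := fun g => by
      refine Subtype.ext (Subtype.ext ?_)
      simp only [Subgroup.coe_mul, Matrix.SpecialLinearGroup.coe_mul, hzm]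
      simp
    have hzcomm : z ∈ commutator N := by
      have hle : (commutator (QuaternionGroup (2 ^ (v - 2)))).map (ι.comp e.symm.toMonoidHom) ≤
          commutator N := by
        rw [commutator_def, Subgroup.map_commutator, commutator_def]
        exact Subgroup.commutator_mono le_top le_top
      exact hle ⟨w, hw, rfl⟩
    haveI : (Subgroup.zpowers z).Normal := ⟨fun a ha g => by
      obtain ⟨i, rfl⟩ := ha
      have hcz : Commute g z := hzc g
      show g * z ^ i * g⁻¹ ∈ _
      rw [(hcz.zpow_right i).eq, mul_inv_cancel_right]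
      exact ⟨i, rfl⟩⟩
    rw [cnt_quotient z hzcomm hzc hz2]
    have hzord : orderOf z = 2 := orderOf_eq_prime (by rw [sq, hz2]) hz1
    have hNc : Nat.card N = 24 := by rw [hNcard, hScard, hv']; norm_num
    have hQc : Nat.card (N ⧸ Subgroup.zpowers z) = 12 := by
      have := Subgroup.card_eq_card_quotient_mul_card_subgroup (Subgroup.zpowers z)
      rw [Nat.card_zpowers, hzord, hNc] at this
      omega
    set π := QuotientGroup.mk' (Subgroup.zpowers z) with hπ
    set S' := (S : Subgroup SL(2, F)).subgroupOf N with hS'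
    have hzS : Subgroup.zpowers z ≤ S' := Subgroup.zpowers_le.2 (e.symm w).2
    set V := S'.map π with hVdef
    haveI : S'.Normal := Subgroup.normal_subgroupOf_of_le_normalizer le_rfl
    haveI : V.Normal := Subgroup.Normal.map inferInstance π (QuotientGroup.mk'_surjective _)
    have hVc : Nat.card V = 4 := by
      have h1 := V.card_mul_index
      have h2' := S'.card_mul_index
      have h3 : V.index = S'.index := Subgroup.index_map_eq _ (QuotientGroup.mk'_surjective _)
        (by rw [hπ, QuotientGroup.ker_mk']; exact hzS)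
      rw [Nat.card_congr (Subgroup.subgroupOfEquivOfLe (Subgroup.le_normalizer)).toEquiv, hScard,
        hNc, hv'] at h2'
      rw [hQc, h3] at h1
      norm_num at h2'
      have : S'.index = 3 := by omega
      rw [this] at h1
      omega
    refine four_classes hQc V hVc ?_
    by_contra hab
    push Not at hab
    haveI : Fact (Nat.Prime 3) := ⟨Nat.prime_three⟩
    obtain ⟨t, ht⟩ := exists_prime_orderOf_dvd_card' (G := N) 3 (by rw [hNc]; norm_num)
    have hcom : ∀ x : N, t * x = x * t := by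
      intro x
      have hd : t * x * t⁻¹ * x⁻¹ ∈ Subgroup.zpowers z := by
        rw [← QuotientGroup.eq_one_iff]
        simp only [QuotientGroup.mk_mul, QuotientGroup.mk_inv]
        rw [mul_inv_eq_one, mul_inv_eq_iff_eq_mul]; exact hab _ _
      have hpow : t * x * t⁻¹ * x⁻¹ = 1 ∨ t * x * t⁻¹ * x⁻¹ = z := by
        obtain ⟨i, hi⟩ := hd
        rw [← hi]
        show z ^ i = 1 ∨ z ^ i = z
        rcases Int.even_or_odd' i with ⟨k, rfl | rfl⟩
        · left; rw [_root_.zpow_mul, zpow_two, hz2, _root_.one_zpow]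
        · right; rw [_root_.zpow_add, _root_.zpow_mul, zpow_two, hz2, _root_.one_zpow, one_mul, zpow_one]
      rcases hpow with h | h
      · rw [← mul_inv_eq_one, _root_.mul_inv_rev, ← mul_assoc]; exact h
      · exfalso
        have e1 : t * x * t⁻¹ = z * x := by rw [← h]; group
        have hcz : Commute t z := hzc t
        have e2 : t * (t * x * t⁻¹) * t⁻¹ = x := by
          rw [e1, ← mul_assoc, hcz.eq, mul_assoc z t x, mul_assoc z, e1, ← mul_assoc, hz2, one_mul]
        have e3 : t * (t * (t * x * t⁻¹) * t⁻¹) * t⁻¹ = x := by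
          have ht3 : t * t * t = 1 := by rw [← pow_three', ← ht, pow_orderOf_eq_one]
          have : t * (t * (t * x * t⁻¹) * t⁻¹) * t⁻¹ = (t * t * t) * x * (t * t * t)⁻¹ := by group
          rw [this, ht3]; group
        rw [e2, e1] at e3
        exact hz1 (mul_eq_right.1 e3)
    have htc : (t : SL(2, F)) ∈ Subgroup.center SL(2, F) := by
      rw [← hcent, Subgroup.mem_centralizer_iff]
      intro g hg
      exact (congrArg Subtype.val (hcom ⟨g, Subgroup.le_normalizer hg⟩)).symm
    have ht2 : (t : SL(2, F)) ^ 2 = 1 := by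
      obtain ⟨r, hr, hr'⟩ := Matrix.SpecialLinearGroup.mem_center_iff.1 htc
      refine Subtype.ext ?_
      rw [Matrix.SpecialLinearGroup.coe_pow, ← hr', ← map_pow,
        show r ^ 2 = 1 by simpa using hr, map_one, Matrix.SpecialLinearGroup.coe_one]
    have := orderOf_dvd_of_pow_eq_one (x := t) (n := 2) (Subtype.ext (by simpa using ht2))
    rw [ht] at this
    norm_num at this

open GL2.CountsSL in
theorem cnt_sl [DecidableEq F] (ℓ : ℕ) :
    cnt ℓ SL(2, F) = ∑ i : Fin 6, if ℓ ∣ deg2 (Fintype.card F) i / 2 then 0 else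
      Nat.card {χ : Cfsg.IrrCharacter SL(2, F) // Kind i (χ : SL(2, F) → ℂ)} := by
  classical
  haveI := Fintype.ofFinite (Cfsg.IrrCharacter SL(2, F))
  let t : Cfsg.IrrCharacter SL(2, F) → Fin 6 := fun χ => (exists_kind χ.2).choose
  have ht : ∀ χ i, t χ = i ↔ Kind i (χ : SL(2, F) → ℂ) := fun χ i =>
    ⟨fun h => h ▸ (exists_kind χ.2).choose_spec,
      fun h => kind_unique (exists_kind χ.2).choose_spec h⟩
  have hdeg : ∀ χ : Cfsg.IrrCharacter SL(2, F), Cfsg.charDegree (χ : SL(2, F) → ℂ) = deg2 (Fintype.card F) (t χ) / 2 := fun χ => by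
    obtain ⟨d, hd⟩ := Characters.char_one_nat (Characters.irr_isCharacter χ)
    have h := ((ht χ (t χ)).1 rfl).2
    rw [hd] at h
    have h' : 2 * d = deg2 (Fintype.card F) (t χ) := by exact_mod_cast h
    rw [charDegree_eq hd, ← h', Nat.mul_div_cancel_left _ two_pos]
  rw [cnt, Nat.card_eq_fintype_card, Fintype.card_subtype, Finset.card_eq_sum_card_fiberwise
    (f := t) (t := Finset.univ) (fun x _ => Finset.mem_univ _)]
  refine Finset.sum_congr rfl fun i _ => ?_
  rw [Finset.filter_filter]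
  split_ifs with h
  · rw [Finset.card_eq_zero, Finset.filter_eq_empty_iff]
    rintro χ - ⟨h1, rfl⟩
    exact h1 (by rwa [hdeg])
  · rw [Nat.card_eq_fintype_card, Fintype.card_subtype]
    refine congrArg Finset.card (Finset.filter_congr fun χ _ => ⟨fun h' => (ht χ i).1 h'.2, fun h' => ?_⟩)
    refine ⟨?_, (ht χ i).2 h'⟩
    rw [hdeg, (ht χ i).2 h']
    exact h

/-- Let F be a finite field with q elements, q odd, ℓ any prime and S a Sylow ℓ-subgroup of SL₂ over F with normaliser N. Then SL₂ and N have the same number of irreducible complex characters of degree not divisible by ℓ (the McKay equality holds for SL₂ over F at every prime). -/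
theorem result {F : Type*} [Field F] [Fintype F] (hodd : Odd (Fintype.card F)) (ℓ : ℕ) [Fact ℓ.Prime] (S : Sylow ℓ (Matrix.SpecialLinearGroup (Fin 2) F)) :
    Nat.card {χ : Cfsg.IrrCharacter (Matrix.SpecialLinearGroup (Fin 2) F) // ¬ ℓ ∣ Cfsg.charDegree (χ : Matrix.SpecialLinearGroup (Fin 2) F → ℂ)} =
      Nat.card {ψ : Cfsg.IrrCharacter (Subgroup.normalizer ((S : Subgroup (Matrix.SpecialLinearGroup (Fin 2) F)) : Set (Matrix.SpecialLinearGroup (Fin 2) F))) //
        ¬ ℓ ∣ Cfsg.charDegree (ψ : Subgroup.normalizer ((S : Subgroup (Matrix.SpecialLinearGroup (Fin 2) F)) : Set (Matrix.SpecialLinearGroup (Fin 2) F)) → ℂ)} := by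
  classical
  have hp : ℓ.Prime := Fact.out
  have hq1 := Fintype.one_lt_card (α := F)
  have h2 : (2 : F) ≠ 0 := SylowSL2.two_ne_zero_of_odd hodd
  show cnt ℓ SL(2, F) = cnt ℓ (Subgroup.normalizer ((S : Subgroup SL(2, F)) : Set SL(2, F)))
  obtain ⟨k, hk, c0, c1, c2, c3, c4, c5⟩ := GL2.CountsSL.families (F := F)
  obtain rfl : k = 2 := hk.symm.trans (GL2.Counts.sq_eq_one_card_odd h2)
  rw [Fintype.card_units] at c2 c4
  obtain ⟨r, hr⟩ : ∃ r, Fintype.card F = 2 * r + 1 := hodd.exists_bit1
  by_cases hℓ2 : ℓ = 2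
  · subst hℓ2
    rw [cnt_two hodd S, cnt_sl, Fin.sum_univ_six, c0, c1]
    simp only [GL2.CountsSL.deg2, Matrix.cons_val, hr]
    rcases Nat.even_or_odd r with ⟨a, rfl⟩ | ⟨a, rfl⟩ <;> split_ifs <;> omega
  by_cases hlq : ℓ ∣ Fintype.card F
  · obtain ⟨p, hpF⟩ := CharP.exists F
    obtain ⟨n, hpp, hn⟩ := FiniteField.card F p
    obtain rfl : ℓ = p := (Nat.prime_dvd_prime_iff_eq hp hpp).1 (hp.dvd_of_dvd_pow (hn ▸ hlq))
    have hn1 : ¬ ℓ ∣ 2 * r := fun h => by
      have := Nat.dvd_sub (hr ▸ hlq) h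
      rw [Nat.add_sub_cancel_left] at this
      exact hp.not_dvd_one this
    have hn2 : ¬ ℓ ∣ 2 * r + 1 + 1 := fun h => by
      have := Nat.dvd_sub h (hr ▸ hlq)
      rw [Nat.add_sub_cancel_left] at this
      exact hp.not_dvd_one this
    rw [cnt_borel hodd ℓ S, cnt_sl, Fin.sum_univ_six, c0, c1]
    simp only [GL2.CountsSL.deg2, Matrix.cons_val, hr]
    simp only [show (2 * (2 * r + 1) + 2) / 2 = 2 * r + 1 + 1 by omega,
      show (2 * (2 * r + 1)) / 2 = 2 * r + 1 by omega,
      show (2 * r + 1 + 1) / 2 = r + 1 by omega,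
      show 2 * (2 * r + 1 - 1) / 2 = 2 * r by omega,
      show (2 * r + 1 - 1) / 2 = r by omega, show 2 / 2 = 1 from rfl]
    have hn1' : ¬ ℓ ∣ r := fun h => hn1 (h.mul_left 2)
    have hn2' : ¬ ℓ ∣ r + 1 := fun h => hn2 ((show 2 * r + 1 + 1 = 2 * (r + 1) by ring) ▸ h.mul_left 2)
    rw [if_neg hp.not_dvd_one, if_pos (hr ▸ hlq), if_neg hn2, if_neg hn1, if_neg hn1', if_neg hn2']
    omega
  have hl3 : 3 ≤ ℓ := by have := hp.two_le; omega
  have hex : ∀ m, ℓ ∣ 2 * m → ℓ ∣ m := fun m h =>
    (hp.dvd_mul.1 h).resolve_left fun h => hℓ2 ((Nat.prime_dvd_prime_iff_eq hp Nat.prime_two).1 h)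
  by_cases h1 : ℓ ∣ Fintype.card F - 1
  · have hq : 4 ≤ Fintype.card F := by
      have := Nat.le_of_dvd (by omega) h1
      omega
    have hnq1 : ¬ ℓ ∣ Fintype.card F + 1 := fun h => by
      have := Nat.dvd_sub h h1
      rw [show Fintype.card F + 1 - (Fintype.card F - 1) = 2 by omega] at this
      have := Nat.le_of_dvd (by omega) this
      omega
    have hcard : Nat.card (Torus.diagHom (F := F)).range = Fintype.card F - 1 := by
      rw [← Nat.card_congr (MonoidHom.ofInjective Torus.diagHom_injective).toEquiv,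
        Linear.natCard_units_eq]
    have hR := cnt_torus h2 (torusData_diag hq) ℓ hℓ2 (hcard ▸ h1) (by
      rw [hcard, SylowSL2.factorization_natCard_SL_two hp hlq,
        Nat.factorization_eq_zero_of_not_dvd hnq1, add_zero]) S
    rw [hcard, hr] at hR
    rw [hr, Nat.add_sub_cancel] at h1
    rw [hr] at hlq hnq1
    rw [cnt_sl, Fin.sum_univ_six, c0, c1]
    simp only [GL2.CountsSL.deg2, Matrix.cons_val, hr]
    simp only [show (2 * (2 * r + 1) + 2) / 2 = 2 * r + 1 + 1 by omega,
      show (2 * (2 * r + 1)) / 2 = 2 * r + 1 by omega,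
      show (2 * r + 1 + 1) / 2 = r + 1 by omega,
      show 2 * (2 * r + 1 - 1) / 2 = 2 * r by omega,
      show (2 * r + 1 - 1) / 2 = r by omega, show 2 / 2 = 1 from rfl]
    rw [if_neg hp.not_dvd_one, if_neg hlq, if_neg hnq1, if_pos h1, if_pos (hex r h1),
      if_neg (fun h => hnq1 ((show 2 * r + 1 + 1 = 2 * (r + 1) by ring) ▸ h.mul_left 2))]
    omega
  by_cases h3 : ℓ ∣ Fintype.card F + 1
  · obtain ⟨A, hA⟩ := Torus.exists_irreducible F
    haveI : Fact (∀ r : F, r ^ 2 ≠ A + 1 * r) := ⟨hA⟩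
    obtain ⟨c, hc⟩ := Torus.norm_surjective (A := A) (B := 1) (-1 : F) (by norm_num)
    have hcard : Nat.card (Torus.torusHom (F := F) (A := A) (B := 1)).range = Fintype.card F + 1 := by
      rw [← Nat.card_congr (MonoidHom.ofInjective Torus.torusHom_injective).toEquiv,
        Torus.natCard_normOne]
    have hR := cnt_torus h2 (torusData_normOne hodd hc) ℓ hℓ2 (hcard ▸ h3) (by
      rw [hcard, SylowSL2.factorization_natCard_SL_two hp hlq,
        Nat.factorization_eq_zero_of_not_dvd h1, zero_add]) S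
    rw [hcard, hr] at hR
    rw [hr, Nat.add_sub_cancel] at h1
    rw [hr] at hlq h3
    rw [cnt_sl, Fin.sum_univ_six, c0, c1]
    simp only [GL2.CountsSL.deg2, Matrix.cons_val, hr]
    simp only [show (2 * (2 * r + 1) + 2) / 2 = 2 * r + 1 + 1 by omega,
      show (2 * (2 * r + 1)) / 2 = 2 * r + 1 by omega,
      show (2 * r + 1 + 1) / 2 = r + 1 by omega,
      show 2 * (2 * r + 1 - 1) / 2 = 2 * r by omega,
      show (2 * r + 1 - 1) / 2 = r by omega, show 2 / 2 = 1 from rfl]
    have hn1' : ¬ ℓ ∣ r := fun h => h1 (h.mul_left 2)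
    have hn2' : ℓ ∣ r + 1 := hex (r + 1) ((show 2 * (r + 1) = 2 * r + 1 + 1 by ring) ▸ h3)
    rw [if_neg hp.not_dvd_one, if_neg hlq, if_pos h3, if_neg h1, if_neg hn1', if_pos hn2']
    omega
  -- `ℓ` does not divide the order
  have hndvd : ¬ ℓ ∣ Nat.card SL(2, F) := fun h => by
    rw [GL2.natCard_SL_two] at h
    rcases hp.dvd_mul.1 h with h | h
    · exact hlq h
    · rcases hp.dvd_mul.1 h with h | h
      · exact h1 h
      · exact h3 h
  have hbot : (S : Subgroup SL(2, F)) = ⊥ := Subgroup.card_eq_one.1 (by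
    rw [Sylow.card_eq_multiplicity, Nat.factorization_eq_zero_of_not_dvd hndvd, pow_zero])
  have htop : Subgroup.normalizer ((S : Subgroup SL(2, F)) : Set SL(2, F)) = ⊤ := by
    rw [hbot]; exact Subgroup.normalizer_eq_top (⊥ : Subgroup SL(2, F))
  rw [cnt_congr ℓ (MulEquiv.subgroupCongr htop), cnt_congr ℓ Subgroup.topEquiv]

end Cfsg.Agent.S2436
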