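import Cfsg.Statements.S2438
import Mathlib
import Cfsg.Agent.Lib.GL2.ValuesSL

set_option autoImplicit false
open Cfsg Matrix
open scoped MatrixGroups ComplexConjugate
open Cfsg.Agent.GL2 Borel Principal PrincipalSL ClassifySL CountsSL
open Cfsg.Agent.Characters

namespace Cfsg.Agent.S2438

section
variable {F : Type*} [Field F] [Fintype F] [DecidableEq F]

theorem exists_nat_sum {χ : SL(2, F) → ℂ} (hχ : Cfsg.IsCharacter SL(2, F) χ) :
    ∃ N : ℕ, conj (∑ x : F, χ (mkS 1 x)) = (Fintype.card F : ℂ) * N ∧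
      ∀ (α : MulChar F ℂ) (m : ℕ), Cfsg.classInner (pindS α) χ = m → m ≤ N := by
  classical
  haveI := Fintype.ofFinite (MulChar F ℂ)
  choose c hc using fun β : MulChar F ℂ => classInner_char_nat (isCharacter_pindS β) hχ
  refine ⟨∑ β, c β, ?_, fun α m hm => ?_⟩
  · have hcl := char_isClassFunction hχ
    have h : (Fintype.card Fˣ : ℂ) * conj (∑ x : F, χ (mkS 1 x)) =
        (Nat.card (BS F) : ℂ) * ∑ β : MulChar F ℂ, Cfsg.classInner (pindS β) χ := by
      rw [Finset.mul_sum]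
      simp_rw [classInner_pindS_left _ hcl,
        mul_inv_cancel_left₀ (Nat.cast_ne_zero.2 (Nat.card_pos (α := BS F)).ne' : (Nat.card (BS F) : ℂ) ≠ 0)]
      rw [Finset.sum_comm]
      simp_rw [← Finset.sum_mul, sum_chars, ite_mul, zero_mul]
      simp only [Finset.sum_ite_eq', Finset.mem_univ, if_true]
    rw [natCard_BS_cast, Finset.sum_congr rfl fun β _ => hc β] at h
    refine mul_left_cancel₀ (card_units_ne_zero (F := F)) ?_
    rw [h, Nat.cast_sum]
    ring
  · have : m = c α := Nat.cast_injective (R := ℂ) (hm.symm.trans (hc α))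
    rw [this]
    exact Finset.single_le_sum (fun β _ => Nat.zero_le (c β)) (Finset.mem_univ α)

theorem half_sum {χ : SL(2, F) → ℂ} (hχ : Cfsg.IsIrrCharacter SL(2, F) χ) (h : IsHalf χ) :
    ∑ x : F, χ (mkS 1 x) = (Fintype.card F : ℂ) := by
  obtain ⟨α, χ', hα, hα1, hχ', hne, he⟩ := h
  obtain ⟨N, hN, hNle⟩ := exists_nat_sum (isCharacter_of_isIrr hχ)
  obtain ⟨N', hN', hN'le⟩ := exists_nat_sum (isCharacter_of_isIrr hχ')
  have h1 : 1 ≤ N := hNle α 1 (by
    rw [he, classInner_add_left, classInner_isIrr_self hχ, classInner_isIrr_ne hχ' hχ hne, add_zero,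
      Nat.cast_one])
  have h1' : 1 ≤ N' := hN'le α 1 (by
    rw [he, classInner_add_left, classInner_isIrr_self hχ', classInner_isIrr_ne hχ hχ' hne.symm,
      zero_add, Nat.cast_one])
  have hsum : conj (∑ x : F, χ (mkS 1 x)) + conj (∑ x : F, χ' (mkS 1 x)) =
      (Fintype.card F : ℂ) * (2 : ℕ) := by
    have := sum_pindS α (1 : Fˣ)
    simp only [he, Pi.add_apply, Finset.sum_add_distrib, inv_one, Units.val_one, map_one] at this
    rw [← map_add, this, map_mul, map_add, map_one, Complex.conj_natCast]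
    norm_num
  rw [hN, hN', ← mul_add] at hsum
  have h2 : N + N' = 2 := by
    have := mul_left_cancel₀ card_ne_zero hsum
    exact_mod_cast this
  have hN1 : N = 1 := by omega
  rw [hN1, Nat.cast_one, mul_one] at hN
  have := congrArg conj hN
  rwa [Complex.conj_conj, Complex.conj_natCast] at this

theorem sum_unipotent (χ : SL(2, F) → ℂ) :
    (∑ g : SL(2, F), if (g : Matrix (Fin 2) (Fin 2) F) 1 0 = 0 ∧
      (g : Matrix (Fin 2) (Fin 2) F) 0 0 = 1 ∧ (g : Matrix (Fin 2) (Fin 2) F) 1 1 = 1 then χ g else 0) =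
      ∑ x : F, χ (mkS 1 x) := by
  rw [← Finset.sum_filter]
  refine (Finset.sum_bij (fun x _ => mkS 1 x) (fun x _ => by simp) (fun x _ y _ h => ?_)
    (fun g hg => ?_) (fun x _ => rfl)).symm
  · simpa using congrArg (fun g : SL(2, F) => (g : Matrix (Fin 2) (Fin 2) F) 0 1) h
  · obtain ⟨h10, h00, h11⟩ := (Finset.mem_filter.1 hg).2
    obtain ⟨p, x, rfl⟩ := ValuesSL.exists_mkS h10
    obtain rfl : p = 1 := Units.ext (by simpa using h00)
    exact ⟨x, Finset.mem_univ _, rfl⟩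

end

/-- Let F be a finite field with q elements, q odd, q ≥ 5, U the upper unitriangular subgroup of SL₂ over F, and χ an irreducible complex character. The sum of the values of χ over U equals 2q, q, 0, q, 0 according as the degree of χ is q + 1, q, q − 1, (q + 1)/2, (q − 1)/2; so among these five degrees the sum vanishes exactly for the degrees q − 1 and (q − 1)/2, i.e. the irreducible characters of those two degrees are the ones whose restriction to U does not contain the trivial character (the cuspidal characters), while those of degree q + 1, q and (q + 1)/2 are not cuspidal. -/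
theorem result {F : Type*} [Field F] [Fintype F] [DecidableEq F] (hodd : Odd (Fintype.card F)) (hq : 5 ≤ Fintype.card F)
    (χ : Matrix.SpecialLinearGroup (Fin 2) F → ℂ) (hχ : Cfsg.IsIrrCharacter (Matrix.SpecialLinearGroup (Fin 2) F) χ) :
    (χ 1 = (Fintype.card F : ℂ) + 1 →
      (∑ g : Matrix.SpecialLinearGroup (Fin 2) F, if (g : Matrix (Fin 2) (Fin 2) F) 1 0 = 0 ∧ (g : Matrix (Fin 2) (Fin 2) F) 0 0 = 1 ∧ (g : Matrix (Fin 2) (Fin 2) F) 1 1 = 1 then χ g else 0) = 2 * (Fintype.card F : ℂ)) ∧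
    (χ 1 = (Fintype.card F : ℂ) →
      (∑ g : Matrix.SpecialLinearGroup (Fin 2) F, if (g : Matrix (Fin 2) (Fin 2) F) 1 0 = 0 ∧ (g : Matrix (Fin 2) (Fin 2) F) 0 0 = 1 ∧ (g : Matrix (Fin 2) (Fin 2) F) 1 1 = 1 then χ g else 0) = (Fintype.card F : ℂ)) ∧
    (χ 1 = (Fintype.card F : ℂ) - 1 →
      (∑ g : Matrix.SpecialLinearGroup (Fin 2) F, if (g : Matrix (Fin 2) (Fin 2) F) 1 0 = 0 ∧ (g : Matrix (Fin 2) (Fin 2) F) 0 0 = 1 ∧ (g : Matrix (Fin 2) (Fin 2) F) 1 1 = 1 then χ g else 0) = 0) ∧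
    (χ 1 = (((Fintype.card F + 1) / 2 : ℕ) : ℂ) →
      (∑ g : Matrix.SpecialLinearGroup (Fin 2) F, if (g : Matrix (Fin 2) (Fin 2) F) 1 0 = 0 ∧ (g : Matrix (Fin 2) (Fin 2) F) 0 0 = 1 ∧ (g : Matrix (Fin 2) (Fin 2) F) 1 1 = 1 then χ g else 0) = (Fintype.card F : ℂ)) ∧
    (χ 1 = (((Fintype.card F - 1) / 2 : ℕ) : ℂ) →
      (∑ g : Matrix.SpecialLinearGroup (Fin 2) F, if (g : Matrix (Fin 2) (Fin 2) F) 1 0 = 0 ∧ (g : Matrix (Fin 2) (Fin 2) F) 0 0 = 1 ∧ (g : Matrix (Fin 2) (Fin 2) F) 1 1 = 1 then χ g else 0) = 0) := by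
  classical
  have h4 : 4 ≤ Fintype.card F := by omega
  have hodd' := Nat.odd_iff.1 hodd
  have hcl := char_isClassFunction (isCharacter_of_isIrr hχ)
  have key := classify_degree hχ
  have hex : ∀ {i j : Fin 6}, 2 * χ 1 = (deg2 (Fintype.card F) i : ℂ) → Kind j χ → i = j :=
    fun hi hj => kind_unique (kind_of_degree h4 hχ hi) hj
  have hhalf1 : (((Fintype.card F + 1) / 2 : ℕ) : ℂ) * 2 = (Fintype.card F : ℂ) + 1 := by
    rw [← Nat.cast_ofNat (R := ℂ), ← Nat.cast_mul, Nat.div_mul_cancel (by omega)]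
    simp
  have hhalf2 : (((Fintype.card F - 1) / 2 : ℕ) : ℂ) * 2 = (Fintype.card F : ℂ) - 1 := by
    rw [← Nat.cast_ofNat (R := ℂ), ← Nat.cast_mul, Nat.div_mul_cancel (by omega), cast_sub_one]
  simp only [sum_unipotent]
  refine ⟨fun h => ?_, fun h => ?_, fun h => ?_, fun h => ?_, fun h => ?_⟩
  · have hd : 2 * χ 1 = (deg2 (Fintype.card F) 2 : ℂ) := by
      rw [h]; simp [deg2]; ring
    rcases key with ⟨e, -⟩ | ⟨e, -⟩ | ⟨⟨α, hα, rfl⟩, -⟩ | ⟨hh, -⟩ | ⟨hc, -⟩ | ⟨hc, -⟩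
    · exact absurd (hex hd (e ▸ kind_zero)) (by decide)
    · exact absurd (hex hd (e ▸ kind_one)) (by decide)
    · rw [sum_pindS, inv_one, Units.val_one, map_one]; ring
    · exact absurd (hex hd (kind_three hχ hh)) (by decide)
    · exact absurd ((kind_of_degree h4 hχ hd).1.1 hc) (by decide)
    · exact absurd ((kind_of_degree h4 hχ hd).1.1 hc) (by decide)
  · have hd : 2 * χ 1 = (deg2 (Fintype.card F) 1 : ℂ) := by
      rw [h]; simp [deg2]
    rcases key with ⟨e, -⟩ | ⟨e, -⟩ | ⟨⟨α, hα, rfl⟩, -⟩ | ⟨hh, -⟩ | ⟨hc, -⟩ | ⟨hc, -⟩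
    · exact absurd (hex hd (e ▸ kind_zero)) (by decide)
    · rw [e, StS]
      simp only [Pi.sub_apply, Finset.sum_sub_distrib, sum_pindS, inv_one, Units.val_one, map_one,
        Finset.sum_const, Finset.card_univ, nsmul_eq_mul]
      ring
    · exact absurd (hex hd (kind_two hα)) (by decide)
    · exact absurd (hex hd (kind_three hχ hh)) (by decide)
    · exact absurd ((kind_of_degree h4 hχ hd).1.1 hc) (by decide)
    · exact absurd ((kind_of_degree h4 hχ hd).1.1 hc) (by decide)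
  · exact ValuesSL.cusp_sum_eq_zero hcl ((kind_of_degree h4 hχ (i := 4) (by
      rw [h]; simp [deg2, cast_sub_one])).1.2 rfl) 1
  · have hd : 2 * χ 1 = (deg2 (Fintype.card F) 3 : ℂ) := by
      rw [h, mul_comm, hhalf1]; simp [deg2]
    rcases key with ⟨e, -⟩ | ⟨e, -⟩ | ⟨⟨α, hα, rfl⟩, -⟩ | ⟨hh, -⟩ | ⟨hc, -⟩ | ⟨hc, -⟩
    · exact absurd (hex hd (e ▸ kind_zero)) (by decide)
    · exact absurd (hex hd (e ▸ kind_one)) (by decide)
    · exact absurd (hex hd (kind_two hα)) (by decide)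
    · exact half_sum hχ hh
    · exact absurd ((kind_of_degree h4 hχ hd).1.1 hc) (by decide)
    · exact absurd ((kind_of_degree h4 hχ hd).1.1 hc) (by decide)
  · exact ValuesSL.cusp_sum_eq_zero hcl ((kind_of_degree h4 hχ (i := 5) (by
      rw [h, mul_comm, hhalf2]; simp [deg2, cast_sub_one])).1.2 rfl) 1

end Cfsg.Agent.S2438
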