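import Cfsg.Statements.S2439
import Cfsg.Agent.SimpleFacts.SLBlocks.Count

set_option autoImplicit false
open Cfsg

namespace Cfsg.Agent.S2439

/-- Let F be a finite field with q elements of odd characteristic p, and M a maximal ideal of the algebraic integers containing p. Then SL₂ over F has exactly three p-blocks relative to M: the irreducible character of degree q (the Steinberg character) alone; the other irreducible characters taking the same value at −1 as at 1 (the principal block); and the irreducible characters χ with χ(−1) = −χ(1). Every Sylow p-subgroup is a defect group of each of the last two blocks. -/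
theorem result {F : Type*} [Field F] [Fintype F] (p : ℕ) [Fact p.Prime] [CharP F p] (hp : p ≠ 2)
    (M : Ideal Cfsg.AlgInt) (hM : Cfsg.IsPModular p M) :
    (∀ B : Set (Cfsg.IrrCharacter (Matrix.SpecialLinearGroup (Fin 2) F)), Cfsg.IsPBlock M B ↔
      (B = {χ : Cfsg.IrrCharacter (Matrix.SpecialLinearGroup (Fin 2) F) | (χ : Matrix.SpecialLinearGroup (Fin 2) F → ℂ) 1 = (Fintype.card F : ℂ)} ∨
       B = {χ : Cfsg.IrrCharacter (Matrix.SpecialLinearGroup (Fin 2) F) | (χ : Matrix.SpecialLinearGroup (Fin 2) F → ℂ) (-1) = (χ : Matrix.SpecialLinearGroup (Fin 2) F → ℂ) 1 ∧ (χ : Matrix.SpecialLinearGroup (Fin 2) F → ℂ) 1 ≠ (Fintype.card F : ℂ)} ∨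
       B = {χ : Cfsg.IrrCharacter (Matrix.SpecialLinearGroup (Fin 2) F) | (χ : Matrix.SpecialLinearGroup (Fin 2) F → ℂ) (-1) = -(χ : Matrix.SpecialLinearGroup (Fin 2) F → ℂ) 1})) ∧
    Nat.card {B : Set (Cfsg.IrrCharacter (Matrix.SpecialLinearGroup (Fin 2) F)) // Cfsg.IsPBlock M B} = 3 ∧
    ∀ P : Sylow p (Matrix.SpecialLinearGroup (Fin 2) F),
      Cfsg.IsDefectGroup p M {χ : Cfsg.IrrCharacter (Matrix.SpecialLinearGroup (Fin 2) F) | (χ : Matrix.SpecialLinearGroup (Fin 2) F → ℂ) (-1) = (χ : Matrix.SpecialLinearGroup (Fin 2) F → ℂ) 1 ∧ (χ : Matrix.SpecialLinearGroup (Fin 2) F → ℂ) 1 ≠ (Fintype.card F : ℂ)} (P : Subgroup (Matrix.SpecialLinearGroup (Fin 2) F)) ∧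
      Cfsg.IsDefectGroup p M {χ : Cfsg.IrrCharacter (Matrix.SpecialLinearGroup (Fin 2) F) | (χ : Matrix.SpecialLinearGroup (Fin 2) F → ℂ) (-1) = -(χ : Matrix.SpecialLinearGroup (Fin 2) F → ℂ) 1} (P : Subgroup (Matrix.SpecialLinearGroup (Fin 2) F)) := by
  classical
  have h2n : 2 ≤ 2 := le_rfl
  open Cfsg.Agent.SimpleFacts.SLBlocks Cfsg.Agent.Blocks in
  obtain ⟨P₀, hP₀⟩ := exists_sylow (F := F) (n := 2) p (by omega)
  open Cfsg.Agent.SimpleFacts.SLBlocks Cfsg.Agent.Blocks in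
  obtain ⟨St, hdeg, huniq, hzSt, h0, heq, hall⟩ := exists_defect_zero (F := F) (n := 2) (by omega) hM
  set z : Matrix.SpecialLinearGroup (Fin 2) F := -1 with hz
  have hcard : Nat.card (Cfsg.Agent.AutPSL.Roots.unitriSL (n := 2) (F := F)) = Fintype.card F := by
    rw [Cfsg.Agent.SimpleFacts.SLBlocks.card_U (by omega), Fin.sum_univ_two]
    simp
  have hzc : ∀ g, z * g = g * z := fun g => Subtype.ext (by simp [hz])
  have hzz : z * z = 1 := Subtype.ext (by simp [hz])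
  have hz1 : z ≠ 1 := by
    intro e
    have h1 := congrArg (fun g : Matrix.SpecialLinearGroup (Fin 2) F => (g : Matrix (Fin 2) (Fin 2) F) 0 0) e
    simp [hz] at h1
    exact (Ring.neg_one_ne_one_of_char_ne_two (R := F) (ringChar.eq F p ▸ hp)) h1
  have hStz : (St : Matrix.SpecialLinearGroup (Fin 2) F → ℂ) z = (St : Matrix.SpecialLinearGroup (Fin 2) F → ℂ) 1 := hzSt z (fun i j hij => by
    simp only [Equiv.Perm.one_apply] at hij
    simp [hz, hij]) hzc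
  have hStdeg : (St : Matrix.SpecialLinearGroup (Fin 2) F → ℂ) 1 = (Fintype.card F : ℂ) := by
    rw [← Cfsg.Agent.Blocks.charDegree_cast St, hdeg, hcard]
  have hdegiff : ∀ χ : Cfsg.IrrCharacter (Matrix.SpecialLinearGroup (Fin 2) F),
      (χ : Matrix.SpecialLinearGroup (Fin 2) F → ℂ) 1 = (Fintype.card F : ℂ) ↔ χ = St := by
    refine fun χ => ⟨fun h => huniq χ ?_, fun h => h ▸ hStdeg⟩
    rw [← Cfsg.Agent.Blocks.charDegree_cast χ, Nat.cast_inj] at h
    rw [h, hcard]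
  have hne0 : ∀ χ : Cfsg.IrrCharacter (Matrix.SpecialLinearGroup (Fin 2) F), (χ : Matrix.SpecialLinearGroup (Fin 2) F → ℂ) 1 ≠ 0 := fun χ => by
    obtain ⟨m, hm, e⟩ := Cfsg.Agent.Characters.irr_one_pos χ.2
    rw [e]
    exact Nat.cast_ne_zero.2 hm.ne'
  have hsign : ∀ χ ψ : Cfsg.IrrCharacter (Matrix.SpecialLinearGroup (Fin 2) F),
      Cfsg.SameBlock M (χ : Matrix.SpecialLinearGroup (Fin 2) F → ℂ) (ψ : Matrix.SpecialLinearGroup (Fin 2) F → ℂ) → (χ : Matrix.SpecialLinearGroup (Fin 2) F → ℂ) z = (χ : Matrix.SpecialLinearGroup (Fin 2) F → ℂ) 1 →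
      (ψ : Matrix.SpecialLinearGroup (Fin 2) F → ℂ) z = -(ψ : Matrix.SpecialLinearGroup (Fin 2) F → ℂ) 1 → False := by
    intro χ ψ h hχ hψ
    have h1 := h z
    have hi : (Subgroup.centralizer ({z} : Set (Matrix.SpecialLinearGroup (Fin 2) F))).index = 1 := by
      rw [Subgroup.index_eq_one, eq_top_iff]
      intro g _
      exact Subgroup.mem_centralizer_iff.2 fun y hy => by rw [Set.mem_singleton_iff.1 hy]; exact hzc g
    rw [Cfsg.centralChar, Cfsg.centralChar, hi, hχ, hψ, Nat.cast_one, one_mul, one_mul,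
      div_self (hne0 χ), neg_div, div_self (hne0 ψ), show (1 : ℂ) - -1 = ((2 : ℕ) : ℂ) by norm_num,
      Cfsg.Agent.Blocks.ideal_natCast_iff hM] at h1
    exact hp ((Nat.prime_dvd_prime_iff_eq Fact.out Nat.prime_two).1 h1)
  set Bs : Set (Cfsg.IrrCharacter (Matrix.SpecialLinearGroup (Fin 2) F)) :=
    {χ | (χ : Matrix.SpecialLinearGroup (Fin 2) F → ℂ) 1 = (Fintype.card F : ℂ)} with hBs
  set Bp : Set (Cfsg.IrrCharacter (Matrix.SpecialLinearGroup (Fin 2) F)) :=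
    {χ | (χ : Matrix.SpecialLinearGroup (Fin 2) F → ℂ) z = (χ : Matrix.SpecialLinearGroup (Fin 2) F → ℂ) 1 ∧ (χ : Matrix.SpecialLinearGroup (Fin 2) F → ℂ) 1 ≠ (Fintype.card F : ℂ)} with hBp
  set Bm : Set (Cfsg.IrrCharacter (Matrix.SpecialLinearGroup (Fin 2) F)) :=
    {χ | (χ : Matrix.SpecialLinearGroup (Fin 2) F → ℂ) z = -(χ : Matrix.SpecialLinearGroup (Fin 2) F → ℂ) 1} with hBm
  have hBsSt : Bs = {St} := Set.ext fun χ => hdegiff χ
  have hdisj : ∀ χ, χ ∈ Bp → χ ∈ Bm → False := fun χ h1 h2 =>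
    hne0 χ (by linear_combination (h2.symm.trans h1.1 : -(χ : Matrix.SpecialLinearGroup (Fin 2) F → ℂ) 1 = (χ : Matrix.SpecialLinearGroup (Fin 2) F → ℂ) 1) * (-1 / 2 : ℂ))
  have hBmSt : St ∉ Bm := fun h =>
    hne0 St (by linear_combination ((show (St : Matrix.SpecialLinearGroup (Fin 2) F → ℂ) z = -(St : Matrix.SpecialLinearGroup (Fin 2) F → ℂ) 1 from h).symm.trans hStz) * (-1 / 2 : ℂ))
  have hcover : ∀ χ, χ ∈ Bp ∨ χ ∈ Bm ∨ χ = St := by
    intro χ
    rcases Cfsg.Agent.SimpleFacts.SLBlocks.value_central_involution χ.2 hzc hzz with h | h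
    · by_cases hd : (χ : Matrix.SpecialLinearGroup (Fin 2) F → ℂ) 1 = (Fintype.card F : ℂ)
      · exact Or.inr (Or.inr ((hdegiff χ).1 hd))
      · exact Or.inl ⟨h, hd⟩
    · exact Or.inr (Or.inl h)
  have hBlock : ∀ χ : Cfsg.IrrCharacter (Matrix.SpecialLinearGroup (Fin 2) F),
      Cfsg.IsPBlock M (Cfsg.blockOf M (χ : Matrix.SpecialLinearGroup (Fin 2) F → ℂ)) := Cfsg.Agent.Blocks.isPBlock_blockOf M
  have hnotSt : ∀ χ, χ ≠ St → ∀ ψ ∈ Cfsg.blockOf M (χ : Matrix.SpecialLinearGroup (Fin 2) F → ℂ), ψ ≠ St := by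
    intro χ hχ ψ hψ e
    have h1 := Cfsg.Agent.Blocks.block_eq_blockOf hM (hBlock χ) (e ▸ hψ)
    rw [heq] at h1
    exact hχ (h1 ▸ Cfsg.Agent.Blocks.mem_blockOf_self hM χ : χ ∈ ({St} : Set _))
  -- the two blocks of full defect
  have htriv : (Cfsg.Agent.Characters.trivIrr (Matrix.SpecialLinearGroup (Fin 2) F)) ∈ Bp := by
    refine ⟨?_, ?_⟩
    · simp [Cfsg.Agent.Characters.trivIrr]
    · intro h
      have := Fintype.one_lt_card (α := F)
      simp [Cfsg.Agent.Characters.trivIrr] at h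
      rw [eq_comm, Nat.cast_eq_one] at h
      omega
  obtain ⟨χm, hχm, hχmne⟩ := Cfsg.Agent.Characters.exists_irr_ne hz1
  have hm : (⟨χm, hχm⟩ : Cfsg.IrrCharacter (Matrix.SpecialLinearGroup (Fin 2) F)) ∈ Bm :=
    (Cfsg.Agent.SimpleFacts.SLBlocks.value_central_involution hχm hzc hzz).resolve_left hχmne
  have hfull : ∀ B, Cfsg.IsPBlock M B → B ≠ {St} →
      Cfsg.IsDefectGroup p M B (P₀ : Subgroup (Matrix.SpecialLinearGroup (Fin 2) F)) := fun B hB hne =>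
    ((Cfsg.Agent.SimpleFacts.SLBlocks.blockDefect_cases hM P₀ hP₀ hB).resolve_left
      fun h => hne (hall B hB h)).2
  have htwo := Cfsg.Agent.SimpleFacts.SLBlocks.card_full (F := F) h2n hM P₀ hP₀
  have hgcd : Nat.gcd 2 (Fintype.card F - 1) = 2 := by
    have hodd : Odd (Fintype.card F) := by
      obtain ⟨a, hpp, hF⟩ := FiniteField.card F p
      rw [hF]
      exact (hpp.odd_of_ne_two hp).pow
    obtain ⟨k, hk⟩ := hodd
    exact Nat.gcd_eq_left ⟨k, by omega⟩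
  rw [hgcd] at htwo
  set B₁ := Cfsg.blockOf M ((Cfsg.Agent.Characters.trivIrr (Matrix.SpecialLinearGroup (Fin 2) F) :
    Cfsg.IrrCharacter (Matrix.SpecialLinearGroup (Fin 2) F)) : Matrix.SpecialLinearGroup (Fin 2) F → ℂ) with hB₁
  set B₂ := Cfsg.blockOf M χm with hB₂
  have hneSt1 : Cfsg.Agent.Characters.trivIrr (Matrix.SpecialLinearGroup (Fin 2) F) ≠ St :=
    fun e => htriv.2 ((hdegiff _).2 e)
  have hneSt2 : (⟨χm, hχm⟩ : Cfsg.IrrCharacter (Matrix.SpecialLinearGroup (Fin 2) F)) ≠ St :=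
    fun e => hBmSt (e ▸ hm)
  have hmem1 := Cfsg.Agent.Blocks.mem_blockOf_self hM (Cfsg.Agent.Characters.trivIrr (Matrix.SpecialLinearGroup (Fin 2) F))
  have hmem2 := Cfsg.Agent.Blocks.mem_blockOf_self hM (⟨χm, hχm⟩ : Cfsg.IrrCharacter (Matrix.SpecialLinearGroup (Fin 2) F))
  have h12 : B₁ ≠ B₂ := fun e => hsign _ _ (show (⟨χm, hχm⟩ : Cfsg.IrrCharacter _) ∈ B₁ from e ▸ hmem2) htriv.1 hm
  have hne1 : B₁ ≠ {St} := fun e => hneSt1 (e ▸ hmem1 : _ ∈ ({St} : Set _))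
  have hne2 : B₂ ≠ {St} := fun e => hneSt2 (e ▸ hmem2 : _ ∈ ({St} : Set _))
  rw [Nat.card_eq_two_iff' (⟨B₁, hBlock _, hfull _ (hBlock _) hne1⟩ :
    {B // Cfsg.IsPBlock M B ∧ Cfsg.IsDefectGroup p M B (P₀ : Subgroup _)})] at htwo
  obtain ⟨B', -, hB'⟩ := htwo
  have hor : ∀ χ, χ ≠ St → χ ∈ B₁ ∨ χ ∈ B₂ := by
    intro χ hχ
    have hne : Cfsg.blockOf M (χ : Matrix.SpecialLinearGroup (Fin 2) F → ℂ) ≠ {St} := fun e =>
      hχ (e ▸ Cfsg.Agent.Blocks.mem_blockOf_self hM χ : χ ∈ ({St} : Set _))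
    by_cases h : Cfsg.blockOf M (χ : Matrix.SpecialLinearGroup (Fin 2) F → ℂ) = B₁
    · exact Or.inl (h ▸ Cfsg.Agent.Blocks.mem_blockOf_self hM χ)
    · have e1 := hB' ⟨_, hBlock χ, hfull _ (hBlock χ) hne⟩ fun e => h (congrArg Subtype.val e)
      have e2 := hB' ⟨B₂, hBlock ⟨χm, hχm⟩, hfull _ (hBlock ⟨χm, hχm⟩) hne2⟩ fun e => h12 (congrArg Subtype.val e).symm
      have e3 : Cfsg.blockOf M (χ : Matrix.SpecialLinearGroup (Fin 2) F → ℂ) = B₂ :=
        congrArg Subtype.val (e1.trans e2.symm)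
      exact Or.inr (e3 ▸ Cfsg.Agent.Blocks.mem_blockOf_self hM χ)
  have hBp1 : Bp = B₁ := by
    ext χ
    refine ⟨fun h => (hor χ fun e => h.2 ((hdegiff χ).2 e)).resolve_right fun h2 => ?_, fun h => ?_⟩
    · exact hsign χ ⟨χm, hχm⟩
        (Cfsg.Agent.Blocks.sameBlock_of_mem hM (hBlock ⟨χm, hχm⟩) h2 hmem2) h.1 hm
    · rcases hcover χ with h' | h' | h'
      · exact h'
      · exact (hsign _ _ h htriv.1 h').elim
      · exact absurd h' (hnotSt _ hneSt1 χ h)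
  have hBm2 : Bm = B₂ := by
    ext χ
    refine ⟨fun h => (hor χ fun e => hBmSt (e ▸ h)).resolve_left fun h1 => ?_, fun h => ?_⟩
    · exact hsign _ _ h1 htriv.1 h
    · rcases hcover χ with h' | h' | h'
      · exact (hsign χ ⟨χm, hχm⟩
          (Cfsg.Agent.Blocks.sameBlock_of_mem hM (hBlock ⟨χm, hχm⟩) h hmem2) h'.1 hm).elim
      · exact h'
      · exact absurd h' (hnotSt ⟨χm, hχm⟩ hneSt2 χ h)
  have hiff : ∀ B, Cfsg.IsPBlock M B ↔ B = Bs ∨ B = Bp ∨ B = Bm := by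
    intro B
    refine ⟨fun hB => ?_, ?_⟩
    · obtain ⟨χ, hχ⟩ := Cfsg.Agent.Blocks.block_nonempty hM hB
      by_cases hSt : χ = St
      · refine Or.inl ?_
        rw [hBsSt, ← heq, Cfsg.Agent.Blocks.block_eq_blockOf hM hB hχ, hSt]
      · rcases hor χ hSt with h | h
        · exact Or.inr (Or.inl (hBp1.symm ▸ Cfsg.Agent.Blocks.block_eq_of_mem hM hB (hBlock _) hχ h))
        · exact Or.inr (Or.inr (hBm2.symm ▸ Cfsg.Agent.Blocks.block_eq_of_mem hM hB (hBlock ⟨χm, hχm⟩) hχ h))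
    · rintro (rfl | rfl | rfl)
      · rw [hBsSt, ← heq]; exact hBlock St
      · rw [hBp1]; exact hBlock _
      · rw [hBm2]; exact hBlock ⟨χm, hχm⟩
  refine ⟨hiff, ?_, fun P => ?_⟩
  · rw [Cfsg.Agent.SimpleFacts.SLBlocks.card_blocks (F := F) h2n hM, hgcd]
  · have hd : ∀ B, Cfsg.IsPBlock M B → B ≠ {St} → Cfsg.IsDefectGroup p M B (P : Subgroup _) := by
      intro B hB hne
      obtain ⟨g, hg⟩ := MulAction.exists_smul_eq (Matrix.SpecialLinearGroup (Fin 2) F) P₀ P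
      have := Cfsg.Agent.Blocks.defectGroup_conj hM (hfull B hB hne) g
      rw [← hg, Sylow.coe_subgroup_smul]
      exact this
    exact ⟨hd _ ((hiff _).2 (Or.inr (Or.inl rfl))) (hBp1 ▸ hne1),
      hd _ ((hiff _).2 (Or.inr (Or.inr rfl))) (hBm2 ▸ hne2)⟩

end Cfsg.Agent.S2439
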