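import Cfsg.Statements.S2442
import Cfsg.Agent.Lib.Green.Main

set_option autoImplicit false
open scoped MatrixGroups
open Cfsg

namespace Cfsg.Agent.S2442

open Classical in
/-- Let F be a finite field with q elements and n ≥ 2. Call a complex character χ of GL_n over F cuspidal when, for every 0 < m < n, the sum of χ over the subgroup of matrices that agree with the identity outside the upper right m × (n − m) block vanishes (the restriction of χ to the unipotent radical of each maximal standard parabolic subgroup contains no principal constituent). Then GL_n has at least φ(qⁿ − 1)/n distinct cuspidal irreducible characters of degree (q − 1)(q² − 1)⋯(q^(n−1) − 1), φ being Euler's function (in particular at least one). -/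
theorem result {F : Type*} [Field F] [Fintype F] [DecidableEq F] (n : ℕ) (hn : 2 ≤ n) :
    Nat.totient (Fintype.card F ^ n - 1) / n ≤
      Nat.card {χ : Cfsg.IrrCharacter (GL (Fin n) F) //
        (χ : GL (Fin n) F → ℂ) 1 = ∏ i ∈ Finset.Ico 1 n, ((Fintype.card F : ℂ) ^ i - 1) ∧
        ∀ m : ℕ, 0 < m → m < n →
          (∑ g : GL (Fin n) F,
            if (∀ i j : Fin n, ¬ (i.val < m ∧ m ≤ j.val) → (g : Matrix (Fin n) (Fin n) F) i j = (1 : Matrix (Fin n) (Fin n) F) i j)
            then (χ : GL (Fin n) F → ℂ) g else 0) = 0} := by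
  obtain ⟨Φ, h1, h2, h3⟩ := Cfsg.Agent.Green.exists_cusp (F := F) hn
  rw [← Nat.card_eq_fintype_card]
  haveI : NeZero (Nat.card F ^ n - 1) := ⟨by
    have : 1 < Nat.card F ^ n := Nat.one_lt_pow (by omega) Finite.one_lt_card
    omega⟩
  let P := fun χ : Cfsg.IrrCharacter (GL (Fin n) F) =>
    (χ : GL (Fin n) F → ℂ) 1 = ∏ i ∈ Finset.Ico 1 n, ((Nat.card F : ℂ) ^ i - 1) ∧
      ∀ m : ℕ, 0 < m → m < n →
        (∑ g : GL (Fin n) F,
          if (∀ i j : Fin n, ¬ (i.val < m ∧ m ≤ j.val) → (g : Matrix (Fin n) (Fin n) F) i j = (1 : Matrix (Fin n) (Fin n) F) i j)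
          then (χ : GL (Fin n) F → ℂ) g else 0) = 0
  haveI := Fintype.ofFinite (Cfsg.IrrCharacter (GL (Fin n) F))
  change _ ≤ Nat.card {χ // P χ}
  let Ψ : (ZMod (Nat.card F ^ n - 1))ˣ → {χ // P χ} := fun b => ⟨Φ b, h1 b, h2 b⟩
  refine Nat.div_le_of_le_mul ?_
  rw [← ZMod.card_units_eq_totient, ← Finset.card_univ, Nat.card_eq_fintype_card (α := {χ // P χ})]
  refine (Finset.card_le_mul_card_image (f := Ψ) Finset.univ n fun c hc => ?_).trans
    (Nat.mul_le_mul_left n (Finset.card_le_univ _))
  obtain ⟨b₀, -, hb₀⟩ := Finset.mem_image.1 hc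
  refine le_trans (Finset.card_le_card_of_injOn (t := (Finset.range n).image fun k =>
    ((b₀ : ZMod (Nat.card F ^ n - 1)) * (Nat.card F : ZMod (Nat.card F ^ n - 1)) ^ k))
    (fun b => (b : ZMod (Nat.card F ^ n - 1))) (fun b hb => ?_)
    (fun a _ b _ h => Units.ext h)) (Finset.card_image_le.trans (Finset.card_range n).le)
  obtain ⟨k, hk, hb'⟩ := h3 b₀ b
    (congrArg Subtype.val (hb₀.trans (Finset.mem_filter.1 hb).2.symm))
  exact Finset.mem_image.2 ⟨k, Finset.mem_range.2 hk, hb'.symm⟩

end Cfsg.Agent.S2442
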