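import Cfsg.Statements.S2444
import Cfsg.Agent.Lib.Classical.Thompson.SmallField
import Cfsg.Agent.Lib.Classical.Thompson.LargeField
import Cfsg.Agent.Lib.Classical.Thompson.Scalar

set_option autoImplicit false
open Cfsg

namespace Cfsg.Agent.S2444

open Cfsg.Agent.Classical.Thompson

theorem isComm_map {F K : Type*} [Field F] [Field K] (f : F →+* K) {n : ℕ}
    {A : Matrix (Fin n) (Fin n) F} (h : IsComm A) : IsComm (f.mapMatrix A) := by
  obtain ⟨a, b, ha, hb, hab⟩ := h
  refine ⟨f.mapMatrix a, f.mapMatrix b, by rw [← f.map_det, ha, map_one], by rw [← f.map_det, hb, map_one], ?_⟩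
  rw [← map_mul, ← map_mul, hab, map_mul]

theorem isComm_two_three {F : Type*} [Field F] [Fintype F] (hF : Fintype.card F < 4) {n : ℕ}
    (hn : 3 ≤ n) (A : Matrix (Fin n) (Fin n) F) (hA : A.det = 1) : IsComm A := by
  have h1 := Fintype.one_lt_card (α := F)
  have key : ∀ (p : ℕ) [Fact p.Prime], Fintype.card F = p → Seeds (ZMod p) → IsComm A := by
    intro p _ hp hs
    let e : ZMod p ≃+* F := ZMod.ringEquivOfPrime F (Fact.out : p.Prime) hp
    have h := isComm_map e.toRingHom (isComm_small hs hn (e.symm.toRingHom.mapMatrix A)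
      (by rw [← RingHom.map_det, hA, map_one]))
    convert h using 1
    ext i j
    simp
  rcases (show Fintype.card F = 2 ∨ Fintype.card F = 3 by omega) with h | h
  · exact key 2 h seeds_two
  · exact key 3 h seeds_three

/-- In the special linear group SL(n,F) over a finite field F, with n ≥ 2 and (n, |F|) not (2,2) or (2,3), every element is a commutator a·b·a⁻¹·b⁻¹ of two elements of SL(n,F). -/
theorem result {F : Type*} [Field F] [Fintype F] (n : ℕ) (hn : 2 ≤ n) (hex : n = 2 → 4 ≤ Fintype.card F) :
    ∀ g : Matrix.SpecialLinearGroup (Fin n) F, ∃ a b : Matrix.SpecialLinearGroup (Fin n) F, g = a * b * a⁻¹ * b⁻¹ := by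
  intro g
  classical
  have hA := g.2
  suffices h : IsComm (g : Matrix (Fin n) (Fin n) F) by
    obtain ⟨a, b, ha, hb, hab⟩ := h
    let a' : Matrix.SpecialLinearGroup (Fin n) F := ⟨a, ha⟩
    let b' : Matrix.SpecialLinearGroup (Fin n) F := ⟨b, hb⟩
    have h' : g * (b' * a') = a' * b' := Subtype.ext hab
    exact ⟨a', b', by rw [eq_mul_inv_iff_mul_eq, eq_mul_inv_iff_mul_eq, mul_assoc, h']⟩
  by_cases hns : ∃ k : F, (g : Matrix (Fin n) (Fin n) F) = k • 1
  · obtain ⟨k, hk⟩ := hns
    rw [hk]
    refine isComm_scalar (by omega) ?_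
    rwa [hk, Matrix.det_smul, Matrix.det_one, mul_one, Fintype.card_fin] at hA
  push Not at hns
  by_cases h4 : 4 ≤ Fintype.card F
  · obtain ⟨γ, hγ⟩ : ∃ γ : F, γ ∉ ({0, 1, -1} : Finset F) := by
      by_contra hall
      push Not at hall
      have h3 : Fintype.card F ≤ ({0, 1, -1} : Finset F).card := by
        rw [← Finset.card_univ]
        exact Finset.card_le_card fun x _ => hall x
      have := h3.trans Finset.card_le_three
      omega
    simp only [Finset.mem_insert, Finset.mem_singleton, not_or] at hγ
    refine isComm_large (by simpa [Cardinal.mk_fintype] using h4) hγ.1 (fun h => ?_) hn _ hA hns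
    rcases mul_self_eq_one_iff.1 h with h' | h'
    · exact hγ.2.1 h'
    · exact hγ.2.2 h'
  · exact isComm_two_three (by omega) (by rcases Nat.eq_or_lt_of_le hn with h | h
                                          · exact absurd (hex h.symm) h4
                                          · omega) _ hA

end Cfsg.Agent.S2444
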