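import Cfsg.Statements.S2450
import Mathlib
import Cfsg.Agent.Lib.GL2.PSLProducts

set_option autoImplicit false
open Cfsg Matrix
open scoped MatrixGroups
open Cfsg.Agent.GL2 Cfsg.Agent.GL2.PSLProducts

namespace Cfsg.Agent.S2450

/-- The Arad–Herzog conjecture for PSL(2,q): let F be a finite field with q ≥ 4 elements. For any two non-identity elements a, b of PSL(2,F), the set of products of a conjugate of a with a conjugate of b is not a single conjugacy class. -/
theorem result {F : Type*} [Field F] [Fintype F] (h4 : 4 ≤ Fintype.card F)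
    (a b : Matrix.ProjectiveSpecialLinearGroup (Fin 2) F) (ha : a ≠ 1) (hb : b ≠ 1) (c : Matrix.ProjectiveSpecialLinearGroup (Fin 2) F) :
    {g : Matrix.ProjectiveSpecialLinearGroup (Fin 2) F | ∃ u v : Matrix.ProjectiveSpecialLinearGroup (Fin 2) F, g = (u * a * u⁻¹) * (v * b * v⁻¹)} ≠ {g | IsConj c g} := by
  classical
  intro hset
  obtain ⟨A, rfl⟩ := QuotientGroup.mk_surjective a
  obtain ⟨B, rfl⟩ := QuotientGroup.mk_surjective b
  obtain ⟨C, rfl⟩ := QuotientGroup.mk_surjective c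
  obtain ⟨u, hu⟩ := exists_conj_lower h4 fun h => ha ((toPSL_eq_one_iff A).2 h)
  obtain ⟨v, hv⟩ := exists_conj_lower h4 fun h => hb ((toPSL_eq_one_iff B).2 h)
  obtain ⟨w, hw⟩ := exists_trace_sq_ne h4 (u * A * u⁻¹) (v * B * v⁻¹) hu hv
    ((C : Matrix (Fin 2) (Fin 2) F).trace ^ 2)
  refine hw (trace_sq_of_isConj ?_).symm
  have hmem : toPSL (u * A * u⁻¹ * (w * (v * B * v⁻¹) * w⁻¹)) ∈
      {g : Matrix.ProjectiveSpecialLinearGroup (Fin 2) F | ∃ x y : Matrix.ProjectiveSpecialLinearGroup (Fin 2) F,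
        g = (x * toPSL A * x⁻¹) * (y * toPSL B * y⁻¹)} := by
    refine ⟨toPSL u, toPSL (w * v), ?_⟩
    rw [show w * (v * B * v⁻¹) * w⁻¹ = w * v * B * (w * v)⁻¹ by group]
    rfl
  rw [hset] at hmem
  exact hmem

end Cfsg.Agent.S2450
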