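import Cfsg.Statements.S2455
import Mathlib
import Cfsg.Agent.Lib.GL2.PSLProducts

set_option autoImplicit false
open Cfsg Matrix
open scoped MatrixGroups
open Cfsg.Agent.GL2 Cfsg.Agent.GL2.PSLProducts

namespace Cfsg.Agent.S2455

/-- A strong covering result in the direction of Thompson's conjecture (non-identity elements) for PSL(2,q), q odd: let F be a finite field of odd characteristic p with at least 5 elements and let x ∈ PSL(2,F) have order greater than 2 and not divisible by p (so x is not unipotent). Then every non-identity element of PSL(2,F) is a product of two conjugates of x. -/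
theorem result {F : Type*} [Field F] [Fintype F] (p : ℕ) [Fact p.Prime] [CharP F p] (hp : p ≠ 2) (h5 : 5 ≤ Fintype.card F)
    (x : Matrix.ProjectiveSpecialLinearGroup (Fin 2) F) (hx2 : 2 < orderOf x) (hxp : ¬ p ∣ orderOf x) : ∀ g : Matrix.ProjectiveSpecialLinearGroup (Fin 2) F, g ≠ 1 → ∃ u v : Matrix.ProjectiveSpecialLinearGroup (Fin 2) F, g = (u * x * u⁻¹) * (v * x * v⁻¹) := by
  classical
  have h2 : (2 : F) ≠ 0 := fun h => hp (((Nat.prime_dvd_prime_iff_eq Fact.out Nat.prime_two).1
    ((CharP.cast_eq_zero_iff F p 2).1 (by exact_mod_cast h))))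
  obtain ⟨X, rfl⟩ := QuotientGroup.mk_surjective x
  have hx2' : 2 < orderOf (toPSL X) := hx2
  set s := (X : Matrix (Fin 2) (Fin 2) F).trace with hs
  have hs0 : s ≠ 0 := fun h => by
    have := Nat.le_of_dvd two_pos (orderOf_dvd_of_pow_eq_one (sq_eq_one_of_trace_zero h))
    omega
  have hs4 : s ^ 2 ≠ 4 := fun h => by
    rcases (Nat.dvd_prime (Fact.out : p.Prime)).1
      (orderOf_dvd_of_pow_eq_one (pow_char_of_trace p h2 h)) with e | e
    · omega
    · exact hxp (dvd_of_eq e.symm)
  intro g hg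
  obtain ⟨G, rfl⟩ := QuotientGroup.mk_surjective g
  have hG : ¬ Classes.IsScalar (G : Matrix (Fin 2) (Fin 2) F) := fun h => hg ((toPSL_eq_one_iff G).2 h)
  suffices ∃ G' : SL(2, F), toPSL G' = toPSL G ∧
      ¬ Classes.IsScalar (G' : Matrix (Fin 2) (Fin 2) F) ∧
      ∃ a b : F, a ^ 2 - (G' : Matrix (Fin 2) (Fin 2) F).trace * a * b + b ^ 2 - a * s + b * s + 1 = 0 by
    obtain ⟨G', hG', hns, hsol⟩ := this
    obtain ⟨u, v, huv⟩ := exists_products X G' hs4 hns hsol
    exact ⟨toPSL u, toPSL v, hG'.symm.trans (congrArg toPSL huv)⟩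
  set t := (G : Matrix (Fin 2) (Fin 2) F).trace with ht
  by_cases h4 : t ^ 2 = 4
  · have hcases : (t - 2) * (t + 2) = 0 := by linear_combination h4
    rcases mul_eq_zero.1 hcases with e | e
    · refine ⟨negSL G, toPSL_negSL G, fun ⟨c, hc⟩ => hG ⟨-c, by rw [neg_smul, ← hc, coe_negSL, neg_neg]⟩, ?_⟩
      rw [coe_negSL, trace_neg, ← ht, sub_eq_zero.1 e]
      exact sol_neg_two h2 hs0
    · refine ⟨G, rfl, hG, ?_⟩
      rw [← ht, eq_neg_of_add_eq_zero_left e]
      exact sol_neg_two h2 hs0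
  · exact ⟨G, rfl, hG, sol_of_ne h4⟩

end Cfsg.Agent.S2455
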