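import Cfsg.Statements.S2456
import Mathlib
import Cfsg.Agent.Lib.GL2.PSLProducts

set_option autoImplicit false
open Cfsg Matrix
open scoped MatrixGroups
open Cfsg.Agent.GL2 Cfsg.Agent.GL2.PSLProducts

namespace Cfsg.Agent.S2456

/-- A strong covering result in the direction of Thompson's conjecture (non-identity elements) for PSL(2,q), q even: let F be a finite field of characteristic 2 with q ≥ 4 elements and let x ∈ PSL(2,F) have order greater than 2 and not dividing q + 1. Then every non-identity element of PSL(2,F) is a product of two conjugates of x. -/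
theorem result {F : Type*} [Field F] [Fintype F] [CharP F 2] (h4 : 4 ≤ Fintype.card F)
    (x : Matrix.ProjectiveSpecialLinearGroup (Fin 2) F) (hx2 : 2 < orderOf x) (hxq : ¬ orderOf x ∣ Fintype.card F + 1) : ∀ g : Matrix.ProjectiveSpecialLinearGroup (Fin 2) F, g ≠ 1 → ∃ u v : Matrix.ProjectiveSpecialLinearGroup (Fin 2) F, g = (u * x * u⁻¹) * (v * x * v⁻¹) := by
  classical
  obtain ⟨X, rfl⟩ := QuotientGroup.mk_surjective x
  have hx2' : 2 < orderOf (toPSL X) := hx2
  set s := (X : Matrix (Fin 2) (Fin 2) F).trace with hs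
  have hs0 : s ≠ 0 := fun h => by
    have := Nat.le_of_dvd two_pos (orderOf_dvd_of_pow_eq_one (sq_eq_one_of_trace_zero h))
    omega
  have h2 : (2 : F) = 0 := CharTwo.two_eq_zero
  have hs4 : s ^ 2 ≠ 4 := by
    rw [show (4 : F) = 2 * 2 by norm_num, h2, mul_zero]
    exact pow_ne_zero 2 hs0
  obtain ⟨r, hr⟩ : ∃ r : F, r ^ 2 - s * r + 1 = 0 := by
    by_contra hno
    push Not at hno
    exact hxq (orderOf_dvd_of_pow_eq_one (by
      rw [← QuotientGroup.mk_pow, pow_card_succ_of_no_root X hno, QuotientGroup.mk_one]))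
  intro g hg
  obtain ⟨G, rfl⟩ := QuotientGroup.mk_surjective g
  obtain ⟨u, v, huv⟩ := exists_products X G hs4 (fun h => hg ((toPSL_eq_one_iff G).2 h)) (sol_of_root hr _)
  exact ⟨toPSL u, toPSL v, congrArg toPSL huv⟩

end Cfsg.Agent.S2456
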