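import Cfsg.Statements.S2462
import Cfsg.Agent.Lib.Involutions.ClassSquare.D4Cases
import Cfsg.Agent.Lib.Involutions.ClassSquare.D4Two

set_option autoImplicit false
open Cfsg

namespace Cfsg.Agent.S2462

/-- A form of Thompson's conjecture for the triality groups ³D₄(q) (covering the non-identity elements) with a semisimple class: for q a power of the prime p and K the field with q³ elements there is an element x of ³D₄(q) (realised over K) of order prime to p such that every non-identity element of ³D₄(q) is a product of two conjugates of x. -/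
theorem result {K : Type*} [Field K] [Fintype K] (p : ℕ) [Fact p.Prime] [CharP K p] (q : ℕ) (hq : IsPrimePow q) (hK : Fintype.card K = q ^ 3) :
    ∃ x : Cfsg.Lie.twistedD4 K q, ¬ p ∣ orderOf x ∧ ∀ g : Cfsg.Lie.twistedD4 K q, g ≠ 1 → ∃ u v : Cfsg.Lie.twistedD4 K q, g = (u * x * u⁻¹) * (v * x * v⁻¹) := by
  obtain ⟨E, rfl⟩ := Cfsg.Agent.Involutions.ClassSquare.D4.exists_env hq hK
  by_cases h2 : E.q = 2
  · have hp : p = 2 :=
      CharP.eq K (by assumption) (Cfsg.Agent.Involutions.ClassSquare.D4.Two.char_two h2)
    have : CharP K 2 := Cfsg.Agent.Involutions.ClassSquare.D4.Two.char_two h2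
    obtain ⟨x, hx, hcov⟩ := Cfsg.Agent.Involutions.ClassSquare.D4.Two.exists_semisimple_two h2
    exact ⟨x, hp ▸ hx, fun g _ => hcov g⟩
  · have h3 : 3 ≤ E.q := by have := hq.two_le; omega
    obtain ⟨x, hx, hcov⟩ :=
      Cfsg.Agent.Involutions.ClassSquare.D4.exists_semisimple_class (E := E) p h3
    exact ⟨x, hx, fun g _ => hcov g⟩

end Cfsg.Agent.S2462
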