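import Cfsg.Agent.Recognition.AltSpectrum
import Cfsg.Statements.S2466
-- import your own Cfsg.Agent.* helpers here

set_option autoImplicit false
open Cfsg

namespace Cfsg.Agent.S2466

open Recognition.AltSpectrum

/-- Adjacency of odd primes in the prime graph of the alternating groups: let r ≠ s be odd primes at most n. The alternating group of degree n has an element of order r·s if and only if r + s ≤ n. -/
theorem result (n r s : ℕ) (hr : r.Prime) (hs : s.Prime) (hr2 : r ≠ 2) (hs2 : s ≠ 2) (hrs : r ≠ s) (hrn : r ≤ n) (hsn : s ≤ n) :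
    (r * s ∈ Set.range (orderOf : alternatingGroup (Fin n) → ℕ)) ↔ r + s ≤ n := by
  rw [range_orderOf_alt, Finset.coe_image, Set.mem_image]
  constructor
  · rintro ⟨m, hm, hlcm⟩
    obtain ⟨hm, -⟩ := Finset.mem_filter.1 (Finset.mem_coe.1 hm)
    rw [permTypes, List.mem_toFinset] at hm
    obtain ⟨h2, hsum⟩ := mem_typesAux n n m hm
    have hparts : ∀ a ∈ m, a = r ∨ a = s ∨ a = r * s := fun a ha => by
      have hd : a ∣ r * s := hlcm ▸ Multiset.dvd_lcm ha
      obtain ⟨y, z, hy, hz, rfl⟩ := exists_dvd_and_dvd_of_dvd_mul hd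
      have := h2 _ ha
      rcases (Nat.dvd_prime hr).1 hy with rfl | rfl <;> rcases (Nat.dvd_prime hs).1 hz with rfl | rfl <;>
        first | omega | simp
    by_cases hrs' : r * s ∈ m
    · have := (Multiset.le_sum_of_mem hrs').trans hsum
      have : r + s ≤ r * s := Nat.add_le_mul hr.two_le hs.two_le
      omega
    · have hmem : ∀ q q' : ℕ, q.Prime → q'.Prime → q ≠ q' → q ∣ r * s →
          (∀ a ∈ m, a = q ∨ a = q') → q ∈ m := fun q q' hq hq' hne hqd hall => by
        by_contra hnot
        have h := hlcm ▸ Multiset.lcm_dvd.2 (fun a ha =>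
          ((hall a ha).resolve_left (fun e => hnot (e ▸ ha))).dvd)
        exact hne ((Nat.prime_dvd_prime_iff_eq hq hq').1 (hqd.trans h))
      have hall : ∀ a ∈ m, a = r ∨ a = s := fun a ha => by
        rcases hparts a ha with h | h | h
        · exact Or.inl h
        · exact Or.inr h
        · exact absurd (h ▸ ha) hrs'
      have hsm := hmem s r hs hr (Ne.symm hrs) (dvd_mul_left s r) (fun a ha => (hall a ha).symm)
      obtain ⟨m', rfl⟩ := Multiset.exists_cons_of_mem (hmem r s hr hs hrs (dvd_mul_right r s) hall)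
      rcases Multiset.mem_cons.1 hsm with h | h
      · exact absurd h.symm hrs
      · rw [Multiset.sum_cons] at hsum
        have := Multiset.le_sum_of_mem h
        omega
  · intro h
    refine ⟨{r, s}, Finset.mem_coe.2 (Finset.mem_filter.2 ⟨?_, ?_⟩), ?_⟩
    · rw [permTypes, List.mem_toFinset]
      refine typesAux_mem n n _ (fun a ha => ?_) (by simpa using h)
      rcases Multiset.mem_cons.1 ha with rfl | ha
      · exact ⟨hr.two_le, hrn⟩
      · exact (Multiset.mem_singleton.1 ha) ▸ ⟨hs.two_le, hsn⟩
    · obtain ⟨a, ha⟩ := hr.odd_of_ne_two hr2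
      obtain ⟨b, hb⟩ := hs.odd_of_ne_two hs2
      simp
      omega
    · simp only [Multiset.insert_eq_cons, Multiset.lcm_cons, Multiset.lcm_singleton, normalize_eq]
      exact ((Nat.coprime_primes hr hs).2 hrs).lcm_eq_mul

end Cfsg.Agent.S2466
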