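import Cfsg.Agent.Recognition.AltSpectrum
import Cfsg.Statements.S2467
-- import your own Cfsg.Agent.* helpers here

set_option autoImplicit false
open Cfsg

namespace Cfsg.Agent.S2467

open Recognition.AltSpectrum

/-- Adjacency of 2 and an odd prime in the prime graph of the alternating groups: let r be an odd prime at most n, with n ≥ 4. The alternating group of degree n has an element of order 2r if and only if r + 4 ≤ n. -/
theorem result (n r : ℕ) (hn : 4 ≤ n) (hr : r.Prime) (hr2 : r ≠ 2) (hrn : r ≤ n) :
    (2 * r ∈ Set.range (orderOf : alternatingGroup (Fin n) → ℕ)) ↔ r + 4 ≤ n := by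
  rw [range_orderOf_alt, Finset.coe_image, Set.mem_image]
  constructor
  · rintro ⟨m, hm, hlcm⟩
    obtain ⟨hm, hev⟩ := Finset.mem_filter.1 (Finset.mem_coe.1 hm)
    rw [permTypes, List.mem_toFinset] at hm
    obtain ⟨h2, hsum⟩ := mem_typesAux n n m hm
    have hparts : ∀ a ∈ m, a = r ∨ a = 2 ∨ a = 2 * r := fun a ha => by
      have hd : a ∣ 2 * r := hlcm ▸ Multiset.dvd_lcm ha
      obtain ⟨y, z, hy, hz, rfl⟩ := exists_dvd_and_dvd_of_dvd_mul hd
      have := h2 _ ha
      rcases (Nat.dvd_prime Nat.prime_two).1 hy with rfl | rfl <;> rcases (Nat.dvd_prime hr).1 hz with rfl | rfl <;>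
        first | omega | simp
    obtain ⟨c, hc⟩ := hr.odd_of_ne_two hr2
    -- some part is even
    obtain ⟨e, he, hee⟩ : ∃ e ∈ m, e = 2 ∨ e = 2 * r := by
      by_contra hcon
      push Not at hcon
      have := hlcm ▸ Multiset.lcm_dvd.2 (fun a ha => ((hparts a ha).resolve_right
        (fun h => h.elim (hcon a ha).1 (hcon a ha).2)).dvd)
      have := Nat.le_of_dvd hr.pos this
      omega
    obtain ⟨m', rfl⟩ := Multiset.exists_cons_of_mem he
    rw [Multiset.sum_cons, Multiset.card_cons] at hev
    rw [Multiset.sum_cons] at hsum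
    -- a second even part
    obtain ⟨e', he', hee'⟩ : ∃ e' ∈ m', e' = 2 ∨ e' = 2 * r := by
      by_contra hcon
      push Not at hcon
      have hr' : ∀ a ∈ m', a = r := fun a ha => (hparts a (Multiset.mem_cons_of_mem ha)).resolve_right
        (fun h => h.elim (hcon a ha).1 (hcon a ha).2)
      rw [Multiset.eq_replicate_card.2 hr', Multiset.sum_replicate, smul_eq_mul, Multiset.card_replicate] at hev
      have : (Multiset.card m' * r + Multiset.card m') % 2 = 0 := by
        rw [hc, show Multiset.card m' * (2 * c + 1) + Multiset.card m' = 2 * (Multiset.card m' * c + Multiset.card m') by ring]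
        omega
      rcases hee with rfl | rfl <;> omega
    obtain ⟨m'', rfl⟩ := Multiset.exists_cons_of_mem he'
    rw [Multiset.sum_cons] at hsum
    have := hr.two_le
    rcases hee with rfl | rfl <;> rcases hee' with rfl | rfl <;> try omega
    by_contra hlt
    have hm'' : ∀ a ∈ m'', a = 2 := fun a ha => by
      have := Multiset.le_sum_of_mem ha
      rcases hparts a (Multiset.mem_cons_of_mem (Multiset.mem_cons_of_mem ha)) with h | h | h <;> omega
    have := hlcm ▸ Multiset.lcm_dvd.2 (show ∀ a ∈ (2 ::ₘ 2 ::ₘ m''), a ∣ 2 from fun a ha => by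
      rcases Multiset.mem_cons.1 ha with rfl | ha
      · exact dvd_rfl
      rcases Multiset.mem_cons.1 ha with rfl | ha
      · exact dvd_rfl
      · exact (hm'' a ha).dvd)
    have := Nat.le_of_dvd two_pos this
    have := hr.two_le
    omega
  · intro h
    refine ⟨{2, 2, r}, Finset.mem_coe.2 (Finset.mem_filter.2 ⟨?_, ?_⟩), ?_⟩
    · rw [permTypes, List.mem_toFinset]
      refine typesAux_mem n n _ (fun a ha => ?_) (by simp; omega)
      simp at ha
      rcases ha with rfl | rfl
      · omega
      · exact ⟨hr.two_le, hrn⟩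
    · obtain ⟨a, ha⟩ := hr.odd_of_ne_two hr2
      simp
      omega
    · simp only [Multiset.insert_eq_cons, Multiset.lcm_cons, Multiset.lcm_singleton, normalize_eq]
      show Nat.lcm 2 (Nat.lcm 2 r) = 2 * r
      rw [← Nat.lcm_assoc, Nat.lcm_self]
      exact ((Nat.coprime_primes Nat.prime_two hr).2 (Ne.symm hr2)).lcm_eq_mul

end Cfsg.Agent.S2467
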