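import Cfsg.Statements.S2468
import Cfsg.Agent.Lib.Classical.SpectrumFactors
import Cfsg.Agent.Lib.Classical.Linear
-- import your own Cfsg.Agent.* helpers here

set_option autoImplicit false
open Cfsg

namespace Cfsg.Agent.S2468

open Cfsg.Agent.Classical Polynomial

variable {F : Type*} [Field F] [Fintype F]

theorem cast_ne_zero {p r : ℕ} [Fact p.Prime] [CharP F p] (hr : r.Prime) (h : r ≠ p) : (r : F) ≠ 0 :=
  fun e => h ((Nat.prime_dvd_prime_iff_eq Fact.out hr).1 ((CharP.cast_eq_zero_iff F p r).1 e)).symm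

theorem center_coprime {n m : ℕ} (hn : 1 ≤ n) (hm : m.Coprime (Fintype.card F - 1)) :
    m.Coprime (Nat.card (Subgroup.center (Matrix.SpecialLinearGroup (Fin n) F))) := by
  haveI : Nonempty (Fin n) := ⟨⟨0, by omega⟩⟩
  rw [Cfsg.Agent.Classical.Linear.natCard_center_SL (F := F) (Fin n)]
  exact hm.coprime_dvd_right (Nat.gcd_dvd_right _ _)

/-- an element of `SL` from a matrix of order prime to `q - 1` -/
theorem exists_SL {n m : ℕ} (hm : m.Coprime (Fintype.card F - 1)) (hm0 : 0 < m)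
    {A : Matrix (Fin n) (Fin n) F} (hA : A ^ m = 1) :
    ∃ g : Matrix.SpecialLinearGroup (Fin n) F, (g : Matrix (Fin n) (Fin n) F) = A := by
  have h1 : A.det ^ m = 1 := by rw [← Matrix.det_pow, hA, Matrix.det_one]
  have h0 : A.det ≠ 0 := fun e => by rw [e, zero_pow hm0.ne'] at h1; exact zero_ne_one h1
  have h2 := FiniteField.pow_card_sub_one_eq_one A.det h0
  refine ⟨⟨A, ?_⟩, rfl⟩
  have := pow_gcd_eq_one.2 ⟨h1, h2⟩
  rwa [hm.gcd_eq_one, pow_one] at this

/-- Adjacency of two odd primes in the prime graph of PSL(n,q): let F be a finite field of characteristic p with q elements, n ≥ 2 with PSL(n,F) simple, and let r ≠ s be odd primes different from p dividing the order of PSL(n,F). Let k and l be the multiplicative orders of q modulo r and modulo s, and suppose 2 ≤ k ≤ l. Then PSL(n,F) has NO element of order r·s if and only if k + l > n and k does not divide l. -/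
theorem result {F : Type*} [Field F] [Fintype F] (p : ℕ) [Fact p.Prime] [CharP F p] (n : ℕ) (hn : 2 ≤ n) (hsmall : n = 2 → 4 ≤ Fintype.card F)
    (r s : ℕ) (hr : r.Prime) (hs : s.Prime) (hr2 : r ≠ 2) (hs2 : s ≠ 2) (hrp : r ≠ p) (hsp : s ≠ p) (hrs : r ≠ s)
    (hrG : r ∣ Nat.card (Matrix.ProjectiveSpecialLinearGroup (Fin n) F)) (hsG : s ∣ Nat.card (Matrix.ProjectiveSpecialLinearGroup (Fin n) F))
    (k l : ℕ) (hk : k = orderOf ((Fintype.card F : ℕ) : ZMod r)) (hl : l = orderOf ((Fintype.card F : ℕ) : ZMod s))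
    (h2k : 2 ≤ k) (hkl : k ≤ l) :
    (r * s ∉ Set.range (orderOf : Matrix.ProjectiveSpecialLinearGroup (Fin n) F → ℕ)) ↔ (n < k + l ∧ ¬ k ∣ l) := by
  classical
  obtain ⟨f, hp, hpf⟩ := FiniteField.card F p
  have hcop : ∀ t : ℕ, t.Prime → t ≠ p → Nat.Coprime (Fintype.card F) t := fun t ht htp => by
    rw [hpf]; exact Nat.Coprime.pow_left _ ((Nat.coprime_primes hp ht).2 htp.symm)
  have hq1 : 1 ≤ Fintype.card F := Fintype.card_pos
  have hrF : (r : F) ≠ 0 := cast_ne_zero hr hrp
  have hsF : (s : F) ≠ 0 := cast_ne_zero hs hsp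
  have hrsF : ((r * s : ℕ) : F) ≠ 0 := by rw [Nat.cast_mul]; exact mul_ne_zero hrF hsF
  have hcrs : r.Coprime s := (Nat.coprime_primes hr hs).2 hrs
  have hrq : ¬ r ∣ Fintype.card F - 1 := fun h => by
    have := (SpectrumFactors.not_dvd_sub_one_iff hr hq1).2 h
    omega
  have hsq : ¬ s ∣ Fintype.card F - 1 := fun h => by
    have := (SpectrumFactors.not_dvd_sub_one_iff hs hq1).2 h
    omega
  have hrm : r.Coprime (Fintype.card F - 1) := hr.coprime_iff_not_dvd.2 hrq
  have hsm : s.Coprime (Fintype.card F - 1) := hs.coprime_iff_not_dvd.2 hsq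
  have hmm : (r * s).Coprime (Fintype.card F - 1) := Nat.Coprime.mul_left hrm hsm
  have hlcm : orderOf ((Fintype.card F : ℕ) : ZMod (r * s)) = Nat.lcm k l := by
    rw [SpectrumFactors.orderOf_mul_coprime _ hcrs, ← hk, ← hl]
  -- degrees
  have hdeg : ∀ {d : ℕ}, d ∣ r * s → ∀ {x : F[X]}, Irreducible x → x ∣ cyclotomic d F →
      x.natDegree = orderOf ((Fintype.card F : ℕ) : ZMod d) := fun {d} hd {x} hx hxd =>
    SpectrumTools.natDegree_of_dvd_cyclotomic (fun h => hrsF (by
      obtain ⟨c, hc⟩ := hd; rw [hc, Nat.cast_mul, h, zero_mul])) hx hxd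
  -- `s` divides the order, so `l ≤ n`
  have hln : l ≤ n := by
    haveI : Fact s.Prime := ⟨hs⟩
    obtain ⟨y, hy⟩ := exists_prime_orderOf_dvd_card' s hsG
    obtain ⟨g, hg, -⟩ := SpectrumTools.exists_lift _ hy (center_coprime (by omega) hsm)
    obtain ⟨x, d, hxm, hxi, hxA, hd, hxd, hd1⟩ := SpectrumFactors.exists_factor_of_pow_ne hsF
      (e := 1) (by rw [Nat.cast_one]; exact one_ne_zero) (A := (g : Matrix (Fin n) (Fin n) F))
      (by rw [← Matrix.SpecialLinearGroup.coe_pow, ← hg, pow_orderOf_eq_one]; rfl)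
      (by
        rw [pow_one]
        intro e
        have : g = 1 := Subtype.ext e
        rw [this, orderOf_one] at hg
        exact hs.one_lt.ne hg)
    rcases (Nat.dvd_prime hs).1 hd with rfl | rfl
    · exact absurd dvd_rfl hd1
    · have := SpectrumFactors.sum_le (A := (g : Matrix (Fin n) (Fin n) F)) {x} (fun z hz => by
        rw [Finset.mem_singleton] at hz; rw [hz]; exact ⟨hxm, hxi, hxA⟩)
      rw [Finset.sum_singleton, hdeg (dvd_mul_left _ _) hxi hxd, ← hl, Fintype.card_fin] at this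
      exact this
  constructor
  · intro hno
    by_contra hcon
    apply hno
    -- factors realising the order
    obtain ⟨T, hT, hTr, hTs, hsum⟩ : ∃ T : Multiset F[X],
        (∀ x ∈ T, x.Monic ∧ Irreducible x ∧ x ∣ X ^ (r * s) - C 1) ∧
        (∃ x ∈ T, ∃ d, r ∣ d ∧ d ∣ r * s ∧ x ∣ cyclotomic d F) ∧
        (∃ x ∈ T, ∃ d, s ∣ d ∧ d ∣ r * s ∧ x ∣ cyclotomic d F) ∧
        (T.map natDegree).sum ≤ n := by
      have hpos : 0 < r * s := Nat.mul_pos hr.pos hs.pos
      by_cases hdvd : k ∣ l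
      · obtain ⟨x, hxm, hxi, hxd, hxn⟩ := SpectrumTools.exists_factor (F := F) hrsF
        refine ⟨{x}, fun z hz => ?_, ⟨x, Multiset.mem_singleton_self x, r * s, dvd_mul_right r s, dvd_rfl, hxd⟩,
          ⟨x, Multiset.mem_singleton_self x, r * s, dvd_mul_left s r, dvd_rfl, hxd⟩, ?_⟩
        · rw [Multiset.mem_singleton] at hz
          rw [hz]; exact ⟨hxm, hxi, SpectrumTools.dvd_X_pow_sub_one dvd_rfl hpos hxd⟩
        · rw [Multiset.map_singleton, Multiset.sum_singleton, hxn, hlcm,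
            Nat.lcm_eq_right hdvd]
          exact hln
      · obtain ⟨x, hxm, hxi, hxd, hxn⟩ := SpectrumTools.exists_factor (F := F) hrF
        obtain ⟨y, hym, hyi, hyd, hyn⟩ := SpectrumTools.exists_factor (F := F) hsF
        refine ⟨{x, y}, fun z hz => ?_, ⟨x, by simp, r, dvd_rfl, dvd_mul_right r s, hxd⟩,
          ⟨y, by simp, s, dvd_rfl, dvd_mul_left s r, hyd⟩, ?_⟩
        · rw [Multiset.insert_eq_cons, Multiset.mem_cons, Multiset.mem_singleton] at hz
          rcases hz with rfl | rfl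
          · exact ⟨hxm, hxi, SpectrumTools.dvd_X_pow_sub_one (dvd_mul_right r s) hpos hxd⟩
          · exact ⟨hym, hyi, SpectrumTools.dvd_X_pow_sub_one (dvd_mul_left s r) hpos hyd⟩
        · rw [Multiset.insert_eq_cons, Multiset.map_cons, Multiset.map_singleton, Multiset.sum_cons,
            Multiset.sum_singleton, hxn, hyn, ← hk, ← hl]
          by_contra hlt
          exact hcon ⟨by omega, hdvd⟩
    obtain ⟨A, hA, hAc⟩ := PowScalarClasses.exists_matrix (r * s) (1 : F)
      (T + Multiset.replicate (n - (T.map natDegree).sum) (X - C 1)) (fun z hz => by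
        rcases Multiset.mem_add.1 hz with hz | hz
        · exact hT z hz
        · rw [Multiset.eq_of_mem_replicate hz]
          exact ⟨monic_X_sub_C 1, irreducible_X_sub_C 1, by
            rw [map_one]; exact sub_one_dvd_pow_sub_one _ _⟩) n (by
        rw [Multiset.map_add, Multiset.sum_add, Multiset.map_replicate, Multiset.sum_replicate,
          natDegree_X_sub_C, smul_eq_mul, mul_one]
        omega)
    rw [one_smul] at hA
    have hnot : ∀ e : ℕ, (e : F) ≠ 0 → A ^ e = 1 → r ∣ e ∧ s ∣ e := by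
      intro e he hAe
      have key : ∀ t, (∃ x ∈ T, ∃ d, t ∣ d ∧ d ∣ r * s ∧ x ∣ cyclotomic d F) → t ∣ e := by
        rintro t ⟨x, hx, d, htd, hd, hxd⟩
        refine htd.trans (SpectrumFactors.dvd_of_pow_eq_one (fun h => hrsF (by
          obtain ⟨c, hc⟩ := hd; rw [hc, Nat.cast_mul, h, zero_mul])) he (hT x hx).2.1 hxd ?_ hAe)
        rw [hAc]
        exact Multiset.dvd_prod (Multiset.mem_add.2 (Or.inl hx))
      exact ⟨key r hTr, key s hTs⟩
    obtain ⟨g, hg⟩ := exists_SL hmm (Nat.mul_pos hr.pos hs.pos) hA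
    have hgpow : ∀ e, g ^ e = 1 ↔ A ^ e = 1 := fun e => by
      rw [← hg, ← Matrix.SpecialLinearGroup.coe_pow]
      exact ⟨fun h => by rw [h]; rfl, fun h => Subtype.ext h⟩
    have hord : orderOf g = r * s := by
      have hdvd := orderOf_dvd_of_pow_eq_one ((hgpow _).2 hA)
      refine Nat.dvd_antisymm hdvd ?_
      have h := hnot (orderOf g) (fun h => hrsF (by
        obtain ⟨c, hc⟩ := hdvd; rw [hc, Nat.cast_mul, h, zero_mul])) ((hgpow _).1 (pow_orderOf_eq_one g))
      exact hcrs.mul_dvd_of_dvd_of_dvd h.1 h.2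
    refine ⟨((g : Matrix.SpecialLinearGroup (Fin n) F) : Matrix.ProjectiveSpecialLinearGroup (Fin n) F), ?_⟩
    rw [SpectrumTools.orderOf_mk _ (by rw [hord]; exact center_coprime (by omega) hmm), hord]
  · rintro ⟨hnkl, hndvd⟩ ⟨y, hy⟩
    obtain ⟨g, hg, -⟩ := SpectrumTools.exists_lift _ hy (center_coprime (by omega) hmm)
    set A := (g : Matrix (Fin n) (Fin n) F) with hAdef
    have hgpow : ∀ e, g ^ e = 1 ↔ A ^ e = 1 := fun e => by
      rw [hAdef, ← Matrix.SpecialLinearGroup.coe_pow]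
      exact ⟨fun h => by rw [h]; rfl, fun h => Subtype.ext h⟩
    have hA : A ^ (r * s) = 1 := (hgpow _).1 (hg ▸ pow_orderOf_eq_one g)
    have hne : ∀ e, 0 < e → e < r * s → A ^ e ≠ 1 := fun e he he' h =>
      absurd (Nat.le_of_dvd he (hg ▸ orderOf_dvd_of_pow_eq_one ((hgpow e).2 h))) (by omega)
    obtain ⟨x, dx, hxm, hxi, hxA, hdx, hxd, hdx'⟩ := SpectrumFactors.exists_factor_of_pow_ne hrsF hsF hA
      (hne s hs.pos (lt_mul_of_one_lt_left hs.pos hr.one_lt))
    obtain ⟨y, dy, hym, hyi, hyA, hdy, hyd, hdy'⟩ := SpectrumFactors.exists_factor_of_pow_ne hrsF hrF hA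
      (hne r hr.pos (lt_mul_of_one_lt_right hr.pos hs.one_lt))
    have hrdx : r ∣ dx := by
      by_contra h
      exact hdx' (((hr.coprime_iff_not_dvd.2 h).symm).dvd_of_dvd_mul_left hdx)
    have hsdy : s ∣ dy := by
      by_contra h
      exact hdy' (((hs.coprime_iff_not_dvd.2 h).symm).dvd_of_dvd_mul_right hdy)
    have hkx : k ∣ x.natDegree := by
      rw [hdeg hdx hxi hxd, hk]; exact SpectrumFactors.orderOf_dvd_orderOf _ hrdx
    have hly : l ∣ y.natDegree := by
      rw [hdeg hdy hyi hyd, hl]; exact SpectrumFactors.orderOf_dvd_orderOf _ hsdy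
    by_cases hxy : x = y
    · subst hxy
      have hle := SpectrumFactors.sum_le (A := A) {x} fun z hz => by
        rw [Finset.mem_singleton] at hz; rw [hz]; exact ⟨hxm, hxi, hxA⟩
      rw [Finset.sum_singleton, Fintype.card_fin] at hle
      obtain ⟨c, hc⟩ := hly
      have hc1 : c ≠ 1 := fun h => hndvd (by rw [hc, h, mul_one] at hkx; exact hkx)
      have hc0 : c ≠ 0 := fun h => hxi.natDegree_pos.ne' (by rw [hc, h, mul_zero])
      have := Nat.mul_le_mul_left l (show 2 ≤ c by omega)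
      omega
    · have hle := SpectrumFactors.sum_le (A := A) {x, y} fun z hz => by
        rw [Finset.mem_insert, Finset.mem_singleton] at hz
        rcases hz with rfl | rfl
        · exact ⟨hxm, hxi, hxA⟩
        · exact ⟨hym, hyi, hyA⟩
      rw [Finset.sum_pair hxy, Fintype.card_fin] at hle
      have := Nat.le_of_dvd hxi.natDegree_pos hkx
      have := Nat.le_of_dvd hyi.natDegree_pos hly
      omega

end Cfsg.Agent.S2468
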