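import Cfsg.Statements.S2470
import Cfsg.Agent.Lib.Classical.SpectrumFactors
import Cfsg.Agent.Lib.Classical.Linear
-- import your own Cfsg.Agent.* helpers here

set_option autoImplicit false
open Cfsg

namespace Cfsg.Agent.S2470

open Cfsg.Agent.Classical Polynomial
open Cfsg.Agent.Classical.PowScalarClasses (Admissible)

variable {F : Type*} [Field F] [Fintype F]

omit [Fintype F] in
theorem mem_center_iff_scalar {n : ℕ} (g : Matrix.SpecialLinearGroup (Fin n) F) :
    g ∈ Subgroup.center (Matrix.SpecialLinearGroup (Fin n) F) ↔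
      ∃ c : F, (g : Matrix (Fin n) (Fin n) F) = c • 1 := by
  rw [Matrix.SpecialLinearGroup.mem_center_iff]
  constructor
  · rintro ⟨c, -, hc⟩
    exact ⟨c, by rw [← hc, Matrix.scalar_apply, Matrix.smul_one_eq_diagonal]⟩
  · rintro ⟨c, hc⟩
    refine ⟨c, ?_, by rw [hc, Matrix.scalar_apply, Matrix.smul_one_eq_diagonal]⟩
    have := g.det_coe
    rwa [hc, Matrix.det_smul, Matrix.det_one, mul_one] at this

omit [Fintype F] in
/-- commuting non-scalar matrices with scalar powers give an element of order `r * p` -/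
theorem exists_order {n r p : ℕ} (hr : r.Prime) (hp : p.Prime) (hrp : r ≠ p) {ι : Type*} [Fintype ι]
    [DecidableEq ι] (e : ι ≃ Fin n) {S T : Matrix ι ι F} (hS : S.det = 1) (hT : T.det = 1)
    (hc : Commute S T) {c : F} (hSr : S ^ r = c • 1) (hS' : ∀ b : F, S ≠ b • 1) (hTp : T ^ p = 1)
    (hT' : ∀ b : F, T ≠ b • 1) :
    r * p ∈ Set.range (orderOf : Matrix.ProjectiveSpecialLinearGroup (Fin n) F → ℕ) := by
  let φ := Matrix.reindexAlgEquiv F F e
  have hdet : ∀ M : Matrix ι ι F, (φ M).det = M.det := fun M => Matrix.det_reindex_self e M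
  have hsc : ∀ (M : Matrix ι ι F) (b : F), φ M = b • 1 → M = b • 1 := fun M b h =>
    φ.injective (by rw [h, map_smul, map_one])
  let s : Matrix.SpecialLinearGroup (Fin n) F := ⟨φ S, (hdet S).trans hS⟩
  let t : Matrix.SpecialLinearGroup (Fin n) F := ⟨φ T, (hdet T).trans hT⟩
  have hst : Commute s t := Subtype.ext (hc.map φ).eq
  refine ⟨((s * t : Matrix.SpecialLinearGroup (Fin n) F) : Matrix.ProjectiveSpecialLinearGroup (Fin n) F),
    SpectrumTools.orderOf_mk_mul _ hst hr hp hrp ?_ ?_ ?_ ?_⟩
  · refine (mem_center_iff_scalar _).2 ⟨c, ?_⟩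
    rw [Matrix.SpecialLinearGroup.coe_pow]
    show φ S ^ r = c • 1
    rw [← map_pow, hSr, map_smul, map_one]
  · intro h
    obtain ⟨b, hb⟩ := (mem_center_iff_scalar _).1 h
    exact hS' b (hsc S b hb)
  · refine (mem_center_iff_scalar _).2 ⟨1, ?_⟩
    rw [Matrix.SpecialLinearGroup.coe_pow, one_smul]
    show φ T ^ p = 1
    rw [← map_pow, hTp, map_one]
  · intro h
    obtain ⟨b, hb⟩ := (mem_center_iff_scalar _).1 h
    exact hT' b (hsc T b hb)

omit [Fintype F] in
theorem transvection_pow {ι : Type*} [Fintype ι] [DecidableEq ι] {i j : ι} (h : i ≠ j) (m : ℕ) :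
    Matrix.transvection i j (1 : F) ^ m = Matrix.transvection i j (m : F) := by
  induction m with
  | zero => rw [pow_zero, Nat.cast_zero, Matrix.transvection_zero]
  | succ m ih => rw [pow_succ, ih, Matrix.transvection_mul_transvection_same _ _ h, Nat.cast_succ]

/-- a semisimple matrix with one eigenvalue is scalar -/
theorem eq_scalar {n r : ℕ} (hr : (r : F) ≠ 0) {c : F} (hc : c ≠ 0) {A : Matrix (Fin n) (Fin n) F}
    (hA : A ^ r = c • 1) {s : Multiset F[X]} (hs : Admissible r n c s) (hAs : A.charpoly = s.prod)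
    {b : F} (hall : ∀ z ∈ s, z = X - C b) (hn : 0 < n) : A = b • 1 := by
  have hrep : s = Multiset.replicate n (X - C b) := by
    refine Multiset.eq_replicate.2 ⟨?_, hall⟩
    have := hs.2
    rw [Multiset.map_congr rfl (g := fun _ => 1) (fun z hz => by rw [hall z hz, natDegree_X_sub_C]), Multiset.map_const',
      Multiset.sum_replicate, smul_eq_mul, mul_one] at this
    exact this
  have hbc : b ^ r = c := by
    have := (hs.1 (X - C b) (by rw [hrep]; exact Multiset.mem_replicate.2 ⟨hn.ne', rfl⟩)).2.2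
    rw [dvd_iff_isRoot, IsRoot, eval_sub, eval_pow, eval_X, eval_C, sub_eq_zero] at this
    exact this
  obtain ⟨M, hM⟩ := SemisimpleConj.exists_matrix_conj A (b • 1) (PowScalarClasses.cast_exponent hr)
    (PowScalarClasses.pow_exponent hc hA)
    (PowScalarClasses.pow_exponent hc (show (b • (1 : Matrix (Fin n) (Fin n) F)) ^ r = c • 1 by
      rw [_root_.smul_pow, one_pow, hbc]))
    (by
      rw [hAs, hrep, Multiset.prod_replicate, Matrix.smul_one_eq_diagonal, Matrix.charpoly_diagonal,
        Finset.prod_const, Finset.card_univ, Fintype.card_fin])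
  rw [smul_mul_assoc, one_mul] at hM
  exact M.isUnit.mul_left_cancel (hM.trans (by rw [mul_smul_comm, mul_one]))

/-- Adjacency of an odd prime and the characteristic in the prime graph of PSL(n,q): let F be a finite field of characteristic p with q elements, n ≥ 2 with PSL(n,F) simple, and let r ≠ p be an odd prime dividing the order of PSL(n,F), with k the multiplicative order of q modulo r. Then PSL(n,F) has NO element of order r·p if and only if either k > n − 2, or n = 3, r = 3 and 3 divides q − 1 exactly once. -/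
theorem result {F : Type*} [Field F] [Fintype F] (p : ℕ) [Fact p.Prime] [CharP F p] (n : ℕ) (hn : 2 ≤ n) (hsmall : n = 2 → 4 ≤ Fintype.card F)
    (r : ℕ) (hr : r.Prime) (hr2 : r ≠ 2) (hrp : r ≠ p) (hrG : r ∣ Nat.card (Matrix.ProjectiveSpecialLinearGroup (Fin n) F))
    (k : ℕ) (hk : k = orderOf ((Fintype.card F : ℕ) : ZMod r)) :
    (r * p ∉ Set.range (orderOf : Matrix.ProjectiveSpecialLinearGroup (Fin n) F → ℕ)) ↔
      (n - 2 < k ∨ (n = 3 ∧ r = 3 ∧ 3 ∣ Fintype.card F - 1 ∧ ¬ 9 ∣ Fintype.card F - 1)) := by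
  classical
  obtain ⟨f, hp, hpf⟩ := FiniteField.card F p
  have hrF : (r : F) ≠ 0 := fun e => hrp
    ((Nat.prime_dvd_prime_iff_eq Fact.out hr).1 ((CharP.cast_eq_zero_iff F p r).1 e)).symm
  have hq1 : 1 ≤ Fintype.card F := Fintype.card_pos
  have hpq : p.Coprime (Fintype.card F - 1) := hp.coprime_iff_not_dvd.2 fun h => by
    have h1 : p ∣ Fintype.card F := by rw [hpf]; exact dvd_pow_self _ f.ne_zero
    have h2 := Nat.dvd_sub h1 h
    rw [show Fintype.card F - (Fintype.card F - 1) = 1 by omega] at h2
    exact hp.one_lt.ne' (Nat.dvd_one.1 h2)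
  haveI : NeZero r := ⟨hr.ne_zero⟩
  have hk1 : 1 ≤ k := by
    rw [hk]
    refine SpectrumFactors.orderOf_pos_of_coprime ?_
    rw [hpf]; exact Nat.Coprime.pow_left _ ((Nat.coprime_primes hp hr).2 hrp.symm)
  haveI : Nonempty (Fin n) := ⟨⟨0, by omega⟩⟩
  have hcentre : ∀ m : ℕ, m.Coprime (Fintype.card F - 1) →
      m.Coprime (Nat.card (Subgroup.center (Matrix.SpecialLinearGroup (Fin n) F))) := fun m hm => by
    rw [Cfsg.Agent.Classical.Linear.natCard_center_SL (F := F) (Fin n)]
    exact hm.coprime_dvd_right (Nat.gcd_dvd_right _ _)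
  have hrq : k = 1 ↔ r ∣ Fintype.card F - 1 := by
    rw [hk]; exact SpectrumFactors.not_dvd_sub_one_iff hr hq1
  constructor
  · intro hno
    by_contra hcon
    push Not at hcon
    apply hno
    obtain ⟨m, hm⟩ : ∃ m, n = k + (m + 2) := ⟨n - k - 2, by omega⟩
    by_cases hk2 : 2 ≤ k
    · have hrm : r.Coprime (Fintype.card F - 1) := hr.coprime_iff_not_dvd.2 fun h => by
        have := hrq.2 h; omega
      obtain ⟨x, hxm, hxi, hxd, hxn⟩ := SpectrumTools.exists_factor (F := F) hrF
      obtain ⟨B, hB, hBc⟩ := PowScalarClasses.exists_matrix r (1 : F) {x} (fun z hz => by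
        rw [Multiset.mem_singleton] at hz
        rw [hz]; exact ⟨hxm, hxi, SpectrumTools.dvd_X_pow_sub_one dvd_rfl hr.pos hxd⟩) k
        (by rw [Multiset.map_singleton, Multiset.sum_singleton, hxn, ← hk])
      rw [one_smul] at hB
      rw [Multiset.prod_singleton] at hBc
      have hBdet : B.det = 1 := by
        have h1 : B.det ^ r = 1 := by rw [← Matrix.det_pow, hB, Matrix.det_one]
        have h0 : B.det ≠ 0 := fun e => by rw [e, zero_pow hr.ne_zero] at h1; exact zero_ne_one h1
        have := pow_gcd_eq_one.2 ⟨h1, FiniteField.pow_card_sub_one_eq_one B.det h0⟩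
        rwa [hrm.gcd_eq_one, pow_one] at this
      have hB1 : B ≠ 1 := fun e => by
        have := SpectrumFactors.dvd_of_pow_eq_one hrF (e := 1) (by rw [Nat.cast_one]; exact one_ne_zero)
          hxi hxd (by rw [hBc]) (by rw [pow_one, e])
        exact hr.one_lt.ne' (Nat.dvd_one.1 this)
      have h01 : (0 : Fin (m + 2)) ≠ 1 := by simp
      let T₀ := Matrix.transvection (0 : Fin (m + 2)) 1 (1 : F)
      refine exists_order hr hp hrp (finSumFinEquiv.trans (finCongr hm.symm))
        (S := Matrix.fromBlocks B 0 0 1) (T := Matrix.fromBlocks 1 0 0 T₀)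
        (by rw [Matrix.det_fromBlocks_zero₂₁, hBdet, Matrix.det_one, one_mul])
        (by rw [Matrix.det_fromBlocks_zero₂₁, Matrix.det_one, Matrix.det_transvection_of_ne _ _ h01, one_mul])
        (by rw [commute_iff_eq, Matrix.fromBlocks_multiply, Matrix.fromBlocks_multiply]; simp)
        (c := 1) ?_ ?_ ?_ ?_
      · have : ∀ j : ℕ, Matrix.fromBlocks B 0 0 (1 : Matrix (Fin (m + 2)) (Fin (m + 2)) F) ^ j =
            Matrix.fromBlocks (B ^ j) 0 0 1 := fun j => by
          induction j with
          | zero => simp [Matrix.fromBlocks_one]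
          | succ j ih => rw [pow_succ, ih, Matrix.fromBlocks_multiply]; simp [pow_succ]
        rw [this, hB, Matrix.fromBlocks_one, one_smul]
      · intro b hb
        have h22 := congrFun (congrFun hb (Sum.inr 0)) (Sum.inr 0)
        simp at h22
        apply hB1
        ext i j
        have := congrFun (congrFun hb (Sum.inl i)) (Sum.inl j)
        simpa [← h22, Matrix.one_apply] using this
      · have : ∀ j : ℕ, Matrix.fromBlocks (1 : Matrix (Fin k) (Fin k) F) 0 0 T₀ ^ j =
            Matrix.fromBlocks 1 0 0 (T₀ ^ j) := fun j => by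
          induction j with
          | zero => simp [Matrix.fromBlocks_one]
          | succ j ih => rw [pow_succ, ih, Matrix.fromBlocks_multiply]; simp [pow_succ]
        rw [this, transvection_pow h01, CharP.cast_eq_zero, Matrix.transvection_zero, Matrix.fromBlocks_one]
      · intro b hb
        have := congrFun (congrFun hb (Sum.inr 0)) (Sum.inr 1)
        simp [T₀, Matrix.transvection] at this
    · have hk' : k = 1 := by omega
      subst hk'
      have hdvd := hrq.1 rfl
      obtain ⟨w, hwgen⟩ := IsCyclic.exists_ofOrder_eq_natCard (α := Fˣ)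
      rw [Nat.card_units, Nat.card_eq_fintype_card] at hwgen
      -- the exponent of the eigenvalue
      obtain ⟨o, hoq, hor, ho1, ho3⟩ : ∃ o, o ∣ Fintype.card F - 1 ∧ o ∣ 3 * r ∧ 1 < o ∧
          ((o ∣ r ∧ (¬ o ∣ 3 ∨ 1 ≤ m)) ∨ (¬ o ∣ 3 ∧ m = 0)) := by
        by_cases h3 : r = 3 ∧ m = 0
        · obtain ⟨rfl, rfl⟩ := h3
          exact ⟨9, hcon.2 (by omega) rfl hdvd, by norm_num, by norm_num, Or.inr ⟨by norm_num, rfl⟩⟩
        · refine ⟨r, hdvd, dvd_mul_left r 3, hr.one_lt, Or.inl ⟨dvd_rfl, ?_⟩⟩
          by_cases hm0 : m = 0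
          · exact Or.inl fun h => h3 ⟨(Nat.prime_dvd_prime_iff_eq hr Nat.prime_three).1 h, hm0⟩
          · exact Or.inr (by omega)
      have hcp : 0 < Fintype.card F - 1 := by have := Fintype.one_lt_card (α := F); omega
      set u : Fˣ := w ^ ((Fintype.card F - 1) / o) with hu
      have huo : orderOf u = o := by
        rw [hu, orderOf_pow_of_dvd
          (Nat.div_pos (Nat.le_of_dvd hcp hoq) (by omega)).ne'
          (by rw [hwgen]; exact Nat.div_dvd_of_dvd hoq), hwgen, Nat.div_div_self hoq hcp.ne']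
      set a : F := (u : F) with ha
      have hao : ∀ j : ℕ, a ^ j = 1 ↔ o ∣ j := fun j => by
        rw [← huo, orderOf_dvd_iff_pow_eq_one, ha, ← Units.val_pow_eq_pow_val, Units.val_eq_one]
      have ha0 : a ≠ 0 := u.ne_zero
      let d : Fin 3 ⊕ Fin m → F := Sum.elim ![a, a, (a⁻¹) ^ 2] fun _ => 1
      have h01 : (Sum.inl 0 : Fin 3 ⊕ Fin m) ≠ Sum.inl 1 := by simp
      refine exists_order hr hp hrp (finSumFinEquiv.trans (finCongr (show 3 + m = n by omega)))
        (S := Matrix.diagonal d) (T := Matrix.transvection (Sum.inl 0) (Sum.inl 1) 1)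
        ?_ (Matrix.det_transvection_of_ne _ _ h01 _) ?_ (c := a ^ r) ?_ ?_ ?_ ?_
      · rw [Matrix.det_diagonal, Fintype.prod_sum_type, Fin.prod_univ_three]
        simp [d]
        field_simp
      · rw [commute_iff_eq]
        refine Matrix.ext fun i j => ?_
        rw [Matrix.diagonal_mul, Matrix.mul_diagonal]
        by_cases hij : i = Sum.inl 0 ∧ j = Sum.inl 1
        · obtain ⟨rfl, rfl⟩ := hij; simp [d, mul_comm]
        · by_cases heq : i = j
          · rw [heq, mul_comm]
          · have : Matrix.transvection (Sum.inl 0) (Sum.inl 1) (1 : F) i j = 0 := by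
              rw [Matrix.transvection, Matrix.add_apply, Matrix.one_apply_ne heq,
                Matrix.single_apply_of_ne _ _ _ _ _ (fun h => hij ⟨h.1.symm, h.2.symm⟩), add_zero]
            rw [this, mul_zero, zero_mul]
      · rw [Matrix.diagonal_pow, Matrix.smul_one_eq_diagonal]
        refine congrArg Matrix.diagonal (funext fun i => ?_)
        rcases i with i | i
        · fin_cases i <;> simp [d]
          have h3r : a ^ (3 * r) = 1 := (hao _).2 hor
          refine inv_eq_of_mul_eq_one_left ?_
          rw [← pow_mul, ← pow_add, show r + 2 * r = 3 * r by ring]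
          exact h3r
        · rcases ho3 with ⟨h, -⟩ | ⟨-, h⟩
          · simp [d, (hao r).2 h]
          · exact absurd i.isLt (by omega)
      · intro b hb
        have e0 := congrFun (congrFun hb (Sum.inl 0)) (Sum.inl 0)
        have e2 := congrFun (congrFun hb (Sum.inl 2)) (Sum.inl 2)
        simp [d] at e0 e2
        rw [← e0] at e2
        have ha3 : o ∣ 3 := (hao 3).1 (by
          field_simp at e2
          linear_combination e2.symm)
        rcases ho3 with ⟨-, h | h⟩ | ⟨h, -⟩
        · exact h ha3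
        · have e1 := congrFun (congrFun hb (Sum.inr ⟨0, h⟩)) (Sum.inr ⟨0, h⟩)
          simp [d] at e1
          have := (hao 1).1 (by rw [pow_one, e0, ← e1])
          exact ho1.ne' (Nat.dvd_one.1 this)
        · exact h ha3
      · rw [transvection_pow h01, CharP.cast_eq_zero, Matrix.transvection_zero]
      · intro b hb
        have := congrFun (congrFun hb (Sum.inl 0)) (Sum.inl 1)
        simp [Matrix.transvection] at this
  · rintro hcase ⟨y, hy⟩
    obtain ⟨g, rfl⟩ := QuotientGroup.mk_surjective y
    have hord : ∀ j : ℕ, ((g ^ j : Matrix.SpecialLinearGroup (Fin n) F) :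
        Matrix.ProjectiveSpecialLinearGroup (Fin n) F) = (g : Matrix.ProjectiveSpecialLinearGroup (Fin n) F) ^ j :=
      fun j => QuotientGroup.mk_pow _ g j
    have hu0 : orderOf ((g : Matrix.ProjectiveSpecialLinearGroup (Fin n) F) ^ r) = p := by
      rw [orderOf_pow_of_dvd hr.ne_zero (by rw [hy]; exact dvd_mul_right r p), hy,
        Nat.mul_div_cancel_left _ hr.pos]
    obtain ⟨U, hU, hUim⟩ := SpectrumTools.exists_lift _ hu0 (hcentre p hpq)
    have hUne : (U : Matrix (Fin n) (Fin n) F) ≠ 1 := fun e => by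
      have : U = 1 := Subtype.ext e
      rw [this, orderOf_one] at hU
      exact hp.one_lt.ne hU
    have hUp : U ^ p = 1 := hU ▸ pow_orderOf_eq_one U
    have hkey : ∀ S : Matrix.SpecialLinearGroup (Fin n) F,
        (S : Matrix.ProjectiveSpecialLinearGroup (Fin n) F) = (g : Matrix.ProjectiveSpecialLinearGroup (Fin n) F) ^ p →
        ∀ c : F, c ≠ 0 → (S : Matrix (Fin n) (Fin n) F) ^ r = c • 1 →
        Squarefree (S : Matrix (Fin n) (Fin n) F).charpoly → False := by
      intro S hS c hc hSr hsf
      have hz : S * U * S⁻¹ * U⁻¹ ∈ Subgroup.center (Matrix.SpecialLinearGroup (Fin n) F) := by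
        rw [← QuotientGroup.eq_one_iff, QuotientGroup.mk_mul, QuotientGroup.mk_mul, QuotientGroup.mk_mul,
          QuotientGroup.mk_inv, QuotientGroup.mk_inv, hS, hUim,
          ((Commute.refl (g : Matrix.ProjectiveSpecialLinearGroup (Fin n) F)).pow_pow p r).eq,
          mul_inv_cancel_right, mul_inv_cancel]
      have hzc : Commute (S * U * S⁻¹ * U⁻¹) U := (Subgroup.mem_center_iff.1 hz U).symm
      have hzp : (S * U * S⁻¹ * U⁻¹) ^ p = 1 := by
        have h1 : (S * U * S⁻¹) ^ p = 1 := by rw [conj_pow, hUp, mul_one, mul_inv_cancel]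
        rw [show S * U * S⁻¹ = S * U * S⁻¹ * U⁻¹ * U by group, hzc.mul_pow, hUp, mul_one] at h1
        exact h1
      have hz1 : S * U * S⁻¹ * U⁻¹ = 1 := by
        have h2 : (⟨_, hz⟩ : Subgroup.center (Matrix.SpecialLinearGroup (Fin n) F)) ^
            Nat.card (Subgroup.center (Matrix.SpecialLinearGroup (Fin n) F)) = 1 := pow_card_eq_one'
        have := pow_gcd_eq_one.2 ⟨hzp, congrArg Subtype.val h2⟩
        rwa [(hcentre p hpq).gcd_eq_one, pow_one] at this
      have hcomm : S * U = U * S := by
        rw [mul_inv_eq_one, mul_inv_eq_iff_eq_mul] at hz1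
        exact hz1
      refine hUne (SpectrumTools.matrix_eq_one_of_commute (p := p) (PowScalarClasses.cast_exponent hrF)
        (PowScalarClasses.pow_exponent hc hSr) hsf (congrArg Subtype.val hcomm) (a := 1) ?_)
      rw [pow_one, ← Matrix.SpecialLinearGroup.coe_pow, hUp]; rfl
    have hgp : (g : Matrix.ProjectiveSpecialLinearGroup (Fin n) F) ^ p ≠ 1 := fun e => by
      have := Nat.le_of_dvd hp.pos (hy ▸ orderOf_dvd_of_pow_eq_one e)
      have := lt_mul_of_one_lt_left hp.pos hr.one_lt
      omega
    have hnd : ∀ s : Multiset F[X], (∀ z ∈ s, z.Monic ∧ Irreducible z) →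
        (∀ a t, s ≠ a ::ₘ a ::ₘ t) → Squarefree s.prod := fun s hs h =>
      SpectrumFactors.squarefree_prod hs (Multiset.nodup_iff_ne_cons_cons.2 h)
    by_cases hk2 : 2 ≤ k
    · have hnk : n - 2 < k := hcase.resolve_right fun h => by
        obtain ⟨-, h3, h4, -⟩ := h
        have := hrq.2 (by rw [h3]; exact h4)
        omega
      have hrm : r.Coprime (Fintype.card F - 1) := hr.coprime_iff_not_dvd.2 fun h => by
        have := hrq.2 h; omega
      have hs0 : orderOf ((g : Matrix.ProjectiveSpecialLinearGroup (Fin n) F) ^ p) = r := by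
        rw [orderOf_pow_of_dvd hp.ne_zero (by rw [hy]; exact dvd_mul_left p r), hy,
          Nat.mul_div_cancel _ hp.pos]
      obtain ⟨S, hS, hSim⟩ := SpectrumTools.exists_lift _ hs0 (hcentre r hrm)
      have hSr : (S : Matrix (Fin n) (Fin n) F) ^ r = 1 := by
        rw [← Matrix.SpecialLinearGroup.coe_pow, ← hS, pow_orderOf_eq_one]; rfl
      refine hkey S hSim 1 one_ne_zero (by rw [one_smul, hSr]) ?_
      obtain ⟨x, dx, hxm, hxi, hxA, hdx, hxd, hdx'⟩ := SpectrumFactors.exists_factor_of_pow_ne hrF
        (e := 1) (by rw [Nat.cast_one]; exact one_ne_zero) hSr (by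
        rw [pow_one]
        intro e
        exact hgp (by rw [← hSim, show S = 1 from Subtype.ext e]; rfl))
      rcases (Nat.dvd_prime hr).1 hdx with rfl | rfl
      · exact absurd dvd_rfl hdx'
      have hxn : x.natDegree = k := by rw [hk]; exact SpectrumTools.natDegree_of_dvd_cyclotomic hrF hxi hxd
      obtain ⟨s, hs, hSs⟩ := PowScalarClasses.admissible_factors hrF one_ne_zero
        (A := (S : Matrix (Fin n) (Fin n) F)) (by rw [one_smul, hSr])
      rw [hSs]
      refine hnd s (fun z hz => ⟨(hs.1 z hz).1, (hs.1 z hz).2.1⟩) fun a t h => ?_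
      have hxs : x ∈ s := by
        obtain ⟨z, hz, hxz⟩ := hxi.prime.exists_mem_multiset_dvd (hSs ▸ hxA)
        exact eq_of_monic_of_associated hxm (hs.1 z hz).1 (hxi.associated_of_dvd (hs.1 z hz).2.1 hxz) ▸ hz
      have hpos : 0 < a.natDegree := (hs.1 a (by rw [h]; simp)).2.1.natDegree_pos
      have hsum := hs.2
      rw [h, Multiset.map_cons, Multiset.map_cons, Multiset.sum_cons, Multiset.sum_cons] at hsum
      rw [h, Multiset.mem_cons, Multiset.mem_cons] at hxs
      rcases hxs with rfl | rfl | hxt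
      · omega
      · omega
      · have := Multiset.le_sum_of_mem (Multiset.mem_map_of_mem natDegree hxt)
        omega
    · obtain ⟨c, hc⟩ := (mem_center_iff_scalar (g ^ (p * r))).1 (by
        rw [← QuotientGroup.eq_one_iff, hord, mul_comm p r, ← hy, pow_orderOf_eq_one])
      have hSr : ((g ^ p : Matrix.SpecialLinearGroup (Fin n) F) : Matrix (Fin n) (Fin n) F) ^ r = c • 1 := by
        rw [← Matrix.SpecialLinearGroup.coe_pow, ← pow_mul, hc]
      have hcn : c ^ n = 1 := by
        have := (g ^ (p * r)).det_coe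
        rwa [hc, Matrix.det_smul, Matrix.det_one, mul_one, Fintype.card_fin] at this
      have hc0 : c ≠ 0 := fun e => by
        rw [e, zero_pow (show n ≠ 0 by omega)] at hcn; exact zero_ne_one hcn
      refine hkey (g ^ p) (hord p) c hc0 hSr ?_
      set A := ((g ^ p : Matrix.SpecialLinearGroup (Fin n) F) : Matrix (Fin n) (Fin n) F) with hAdef
      obtain ⟨s, hs, hAs⟩ := PowScalarClasses.admissible_factors hrF hc0 hSr
      have hns : ∀ b : F, A ≠ b • 1 := fun b hb => hgp (by
        rw [← hord, QuotientGroup.eq_one_iff]; exact (mem_center_iff_scalar _).2 ⟨b, hb⟩)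
      rw [hAs]
      refine hnd s (fun z hz => ⟨(hs.1 z hz).1, (hs.1 z hz).2.1⟩) fun a t h => ?_
      have ham : a ∈ s := by rw [h]; simp
      have hpos : 0 < a.natDegree := (hs.1 a ham).2.1.natDegree_pos
      have hsum := hs.2
      rw [h, Multiset.map_cons, Multiset.map_cons, Multiset.sum_cons, Multiset.sum_cons] at hsum
      have hn3 : n = 2 ∨ (n = 3 ∧ r = 3 ∧ ¬ 9 ∣ Fintype.card F - 1) := by
        rcases hcase with h1 | ⟨h1, h2, -, h4⟩
        · exact Or.inl (by omega)
        · exact Or.inr ⟨h1, h2, h4⟩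
      have hadeg : a.natDegree = 1 := by
        rcases hn3 with h1 | ⟨h1, -⟩ <;> omega
      obtain ⟨b, rfl⟩ : ∃ b, a = X - C b := by
        exact ⟨-a.coeff 0, by
          rw [map_neg, sub_neg_eq_add]
          exact (hs.1 _ ham).1.eq_X_add_C hadeg⟩
      rw [natDegree_X_sub_C] at hsum
      refine hns b (eq_scalar hrF hc0 hSr hs hAs (fun z hz => ?_) (by omega))
      rw [h, Multiset.mem_cons, Multiset.mem_cons] at hz
      rcases hz with hz | hz | hz
      · exact hz
      · exact hz
      rcases hn3 with h1 | ⟨h1, h2, h4⟩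
      · have := Multiset.le_sum_of_mem (Multiset.mem_map_of_mem natDegree hz)
        have := (hs.1 z (by rw [h]; simp [hz])).2.1.natDegree_pos
        omega
      subst h1; subst h2
      have hzs : z ∈ s := by rw [h]; simp [hz]
      obtain ⟨t', rfl⟩ := Multiset.exists_cons_of_mem hz
      rw [Multiset.map_cons, Multiset.sum_cons] at hsum
      have hzp := (hs.1 z hzs).2.1.natDegree_pos
      have ht' : t' = 0 := Multiset.eq_zero_of_forall_notMem fun w hw => by
        have := Multiset.le_sum_of_mem (Multiset.mem_map_of_mem natDegree hw)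
        have := (hs.1 w (by rw [h]; simp [hw])).2.1.natDegree_pos
        omega
      obtain ⟨e, rfl⟩ : ∃ e, z = X - C e := ⟨-z.coeff 0, by
        rw [map_neg, sub_neg_eq_add]
        exact (hs.1 _ hzs).1.eq_X_add_C (by omega)⟩
      have hroot : ∀ v : F, X - C v ∈ s → v ^ 3 = c := fun v hv => by
        have := (hs.1 _ hv).2.2
        rw [dvd_iff_isRoot, IsRoot, eval_sub, eval_pow, eval_X, eval_C, sub_eq_zero] at this
        exact this
      have hb3 := hroot b ham
      have he3 := hroot e hzs
      have hdet : b * b * e = 1 := by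
        have h1 := A.det_eq_sign_charpoly_coeff
        rw [show A.det = 1 from (g ^ p).det_coe, hAs, h, ht', coeff_zero_eq_eval_zero] at h1
        simp at h1
        linear_combination -h1
      have hc1 : c = 1 := by
        have hb0 : b ≠ 0 := fun e' => by rw [e', zero_pow three_ne_zero] at hb3; exact hc0 hb3.symm
        have h9 : b ^ 9 = 1 := by rw [show (9 : ℕ) = 3 * 3 from rfl, pow_mul, hb3, hcn]
        have hg := pow_gcd_eq_one.2 ⟨h9, FiniteField.pow_card_sub_one_eq_one b hb0⟩
        obtain ⟨i, hi, hi'⟩ := (Nat.dvd_prime_pow Nat.prime_three).1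
          (show Nat.gcd 9 (Fintype.card F - 1) ∣ 3 ^ 2 from Nat.gcd_dvd_left 9 _)
        rw [hi'] at hg
        interval_cases i
        · rw [pow_zero, pow_one] at hg; rw [← hb3, hg, one_pow]
        · rw [pow_one] at hg; rw [← hb3, hg]
        · exact absurd (show 9 ∣ Fintype.card F - 1 by
            rw [show (9 : ℕ) = 3 ^ 2 from rfl, ← hi']; exact Nat.gcd_dvd_right _ _) h4
      have : b = e := by
        rw [hc1] at hb3 he3
        have h1 : (b - e) * (b * b) = 0 := by linear_combination hb3 - hdet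
        rcases mul_eq_zero.1 h1 with h1 | h1
        · exact sub_eq_zero.1 h1
        · rw [mul_eq_zero, or_self] at h1
          rw [h1] at hb3
          simp at hb3
      rw [this]

end Cfsg.Agent.S2470
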