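import Cfsg.Statements.S2485
import Mathlib
import Cfsg.Agent.Lib.Classical.GL2

set_option autoImplicit false
open scoped Pointwise
open Cfsg

namespace Cfsg.Agent.S2485

open Matrix

section
variable {F : Type*} [Field F]

theorem exists_of_commute {a b c : F} (h2 : (2 : F) ≠ 0) (hJ : ¬ (a = 0 ∧ b = 0 ∧ c = 0))
    (h : Matrix (Fin 2) (Fin 2) F) (hc : h * !![a, b; c, -a] = !![a, b; c, -a] * h) :
    ∃ p : F × F, h = p.1 • 1 + p.2 • !![a, b; c, -a] := by
  have e00 := congrFun (congrFun hc 0) 0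
  have e01 := congrFun (congrFun hc 0) 1
  have e10 := congrFun (congrFun hc 1) 0
  simp [Matrix.mul_apply, Fin.sum_univ_two] at e00 e01 e10
  have key : ∀ β, h 0 1 = β * b → h 1 0 = β * c → h 0 0 - h 1 1 = 2 * a * β →
      ∃ p : F × F, h = p.1 • 1 + p.2 • !![a, b; c, -a] := fun β h01 h10 hd => by
    refine ⟨(h 0 0 - β * a, β), ?_⟩
    ext i j
    fin_cases i <;> fin_cases j <;> simp [h01, h10]
    linear_combination -hd
  by_cases hb : b = 0
  · by_cases hc0 : c = 0
    · have ha : a ≠ 0 := fun e => hJ ⟨e, hb, hc0⟩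
      subst hb hc0
      have h01 : h 0 1 = 0 := by
        refine (mul_eq_zero.1 (?_ : h 0 1 * (2 * a) = 0)).resolve_right (mul_ne_zero h2 ha)
        linear_combination -e01
      have h10 : h 1 0 = 0 := by
        refine (mul_eq_zero.1 (?_ : h 1 0 * (2 * a) = 0)).resolve_right (mul_ne_zero h2 ha)
        linear_combination e10
      exact key ((h 0 0 - h 1 1) / (2 * a)) (by simp [h01]) (by simp [h10])
        (mul_div_cancel₀ _ (mul_ne_zero h2 ha)).symm
    · refine key (h 1 0 / c) ?_ (div_mul_cancel₀ _ hc0).symm ?_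
      · field_simp; linear_combination e00
      · field_simp; linear_combination -e10
  · refine key (h 0 1 / b) (div_mul_cancel₀ _ hb).symm ?_ ?_
    · field_simp; linear_combination -e00
    · field_simp; linear_combination e01

theorem det_ne_zero_of_anti {a b c : F} (h2 : (2 : F) ≠ 0)
    (hns : ∀ s : F, s ^ 2 ≠ a ^ 2 + b * c) (Z : Matrix (Fin 2) (Fin 2) F) (hZ : Z ≠ 0)
    (ht : Z 1 1 = -Z 0 0) (ha : Z * !![a, b; c, -a] = -(!![a, b; c, -a] * Z)) : Z.det ≠ 0 := by
  intro hd
  rw [det_fin_two, ht] at hd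
  have e := congrFun (congrFun ha 0) 0
  rw [Matrix.neg_apply, Matrix.mul_apply, Matrix.mul_apply, Fin.sum_univ_two, Fin.sum_univ_two] at e
  simp at e
  by_cases hy : Z 0 1 = 0
  · have hx : Z 0 0 = 0 := by
      refine pow_eq_zero_iff two_ne_zero |>.1 ?_
      rw [hy] at hd; linear_combination -hd
    have hz : Z 1 0 ≠ 0 := fun hz => hZ (by
      ext i j; fin_cases i <;> fin_cases j <;> simp [hx, hy, hz, ht])
    have hb : b = 0 := by
      rw [hx, hy] at e
      exact (mul_eq_zero.1 (by linear_combination e : b * Z 1 0 = 0)).resolve_right hz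
    exact hns a (by rw [hb]; ring)
  · refine hns ((b * Z 0 0 - a * Z 0 1) / Z 0 1) ?_
    rw [div_pow, div_eq_iff (pow_ne_zero 2 hy)]
    linear_combination (-b * Z 0 1) * e + (-b * b) * hd

end

variable {q : ℕ} [Fact q.Prime]

local notation "GG" => GL (Fin 2) (ZMod q)

theorem card_center : Nat.card (Subgroup.center GG) = q - 1 := by
  have hinj : Function.Injective (GeneralLinearGroup.scalar (Fin 2) : (ZMod q)ˣ →* GG) := fun u v h =>
    Units.ext (Matrix.scalar_inj.1 (congrArg Units.val h))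
  rw [GeneralLinearGroup.center_eq_range_scalar,
    ← Nat.card_congr (MonoidHom.ofInjective hinj).toEquiv, Nat.card_units, Nat.card_zmod]

theorem card_quot : Nat.card (GG ⧸ Subgroup.center GG) = q * ((q - 1) * (q + 1)) := by
  have h := Subgroup.card_eq_card_quotient_mul_card_subgroup (Subgroup.center GG)
  rw [Cfsg.Agent.Classical.GL2.natCard_GL_two, ZMod.card, card_center] at h
  have hq := (Fact.out : q.Prime).two_le
  exact Nat.eq_of_mul_eq_mul_right (by omega : 0 < q - 1) (h.symm.trans (by ring))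

theorem exists_axis {k : ℕ} (hk : q + 1 = 2 ^ k) (hq : 7 ≤ q)
    (P : Sylow 2 (GG ⧸ Subgroup.center GG)) :
    ∃ a b c : ZMod q, (∀ s : ZMod q, s ^ 2 ≠ a ^ 2 + b * c) ∧
      ∀ h : GG, (h : GG ⧸ Subgroup.center GG) ∈ (P : Subgroup (GG ⧸ Subgroup.center GG)) ↔
        (h.1 * !![a, b; c, -a] = !![a, b; c, -a] * h.1 ∨
          h.1 * !![a, b; c, -a] = -(!![a, b; c, -a] * h.1)) := by
  classical
  have h2 : (2 : ZMod q) ≠ 0 := fun e => by
    have : ((2 : ℕ) : ZMod q) = 0 := by exact_mod_cast e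
    rw [ZMod.natCast_eq_zero_iff] at this
    have := Nat.le_of_dvd two_pos this
    omega
  have hcard : Nat.card (P : Subgroup (GG ⧸ Subgroup.center GG)) = 2 * (q + 1) := by
    rw [Sylow.card_eq_multiplicity, card_quot]
    have hk3 : 3 ≤ k := by
      by_contra hlt
      have : 2 ^ k ≤ 2 ^ 2 := Nat.pow_le_pow_right two_pos (by omega)
      omega
    obtain ⟨j, rfl⟩ : ∃ j, k = j + 2 := ⟨k - 2, by omega⟩
    have e4 : q + 1 = 4 * 2 ^ j := by rw [hk]; ring
    have hm : q - 1 = 2 * (2 * 2 ^ j - 1) := by omega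
    have hodd : (q * (2 * 2 ^ j - 1)).factorization 2 = 0 := by
      refine Nat.factorization_eq_zero_of_not_dvd fun h => ?_
      rcases (Nat.prime_two.dvd_mul).1 h with h | h <;> omega
    rw [show q * ((q - 1) * (q + 1)) = 2 ^ (j + 3) * (q * (2 * 2 ^ j - 1)) by rw [hm, e4]; ring,
      Nat.factorization_mul (by positivity) (Nat.mul_ne_zero (by omega) (by omega)),
      Finsupp.add_apply, hodd, Nat.prime_two.factorization_pow, Finsupp.single_eq_same, hk]
    ring
  haveI : Nontrivial (P : Subgroup (GG ⧸ Subgroup.center GG)) :=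
    Finite.one_lt_card_iff_nontrivial.1 (by omega)
  haveI := P.isPGroup'.center_nontrivial
  have hpc := P.isPGroup'.to_subgroup (Subgroup.center _)
  obtain ⟨z, hz⟩ := exists_prime_orderOf_dvd_card' (G := Subgroup.center (P : Subgroup (GG ⧸ Subgroup.center GG))) 2 (by
    obtain ⟨n, hn⟩ := hpc.exists_card_eq
    rw [hn]
    refine dvd_pow_self 2 fun h0 => ?_
    have := Finite.one_lt_card (α := Subgroup.center (P : Subgroup (GG ⧸ Subgroup.center GG)))
    rw [hn, h0, pow_zero] at this; omega)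
  obtain ⟨g, hg⟩ := QuotientGroup.mk_surjective ((z.1 : GG ⧸ Subgroup.center GG))
  have hne : g ∉ Subgroup.center GG := fun h => by
    have h1 : ((z.1 : GG ⧸ Subgroup.center GG)) = 1 := hg ▸ (QuotientGroup.eq_one_iff g).2 h
    have : z = 1 := Subtype.ext (Subtype.ext h1)
    rw [this, orderOf_one] at hz; omega
  have hsq : g * g ∈ Subgroup.center GG := by
    refine (QuotientGroup.eq_one_iff _).1 ?_
    rw [QuotientGroup.mk_mul, hg, ← Subgroup.coe_mul, ← Subgroup.coe_mul]
    have h1 := pow_orderOf_eq_one z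
    rw [hz, sq] at h1
    rw [h1]; rfl
  obtain ⟨d, hd⟩ := GeneralLinearGroup.mem_center_iff_val_mem_range_scalar.1 hsq
  have e00 := congrFun (congrFun hd 0) 0
  have e01 := congrFun (congrFun hd 0) 1
  have e10 := congrFun (congrFun hd 1) 0
  have e11 := congrFun (congrFun hd 1) 1
  simp [Matrix.mul_apply, Fin.sum_univ_two] at e00 e01 e10 e11
  have htr : g.1 1 1 = -g.1 0 0 := by
    by_contra hne'
    have hs : g.1 0 0 + g.1 1 1 ≠ 0 := fun e => hne' (by linear_combination e)
    have h01 : g.1 0 1 = 0 := (mul_eq_zero.1 (by linear_combination -e01 :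
      g.1 0 1 * (g.1 0 0 + g.1 1 1) = 0)).resolve_right hs
    have h10 : g.1 1 0 = 0 := (mul_eq_zero.1 (by linear_combination -e10 :
      g.1 1 0 * (g.1 0 0 + g.1 1 1) = 0)).resolve_right hs
    rw [h01, h10] at e00 e11
    refine hne (GeneralLinearGroup.mem_center_iff_val_mem_range_scalar.2 ⟨g.1 0 0, ?_⟩)
    have heq : g.1 0 0 = g.1 1 1 := (mul_eq_zero.1 (by linear_combination e11 - e00 :
      (g.1 0 0 - g.1 1 1) * (g.1 0 0 + g.1 1 1) = 0)).resolve_right hs |> sub_eq_zero.1
    ext i j; fin_cases i <;> fin_cases j <;> simp [h01, h10, ← heq]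
  set a := g.1 0 0
  set b := g.1 0 1
  set c := g.1 1 0
  set J : Matrix (Fin 2) (Fin 2) (ZMod q) := !![a, b; c, -a] with hJ
  have hgJ : g.1 = J := by
    ext i j; fin_cases i <;> fin_cases j <;> simp [J, a, b, c, htr]
  have hJ0 : ¬ (a = 0 ∧ b = 0 ∧ c = 0) := fun h => by
    have := (Matrix.isUnit_iff_isUnit_det g.1).1 g.isUnit
    rw [hgJ, hJ, h.1, h.2.1, h.2.2, det_fin_two_of] at this
    simp at this
  set Pre := (P : Subgroup (GG ⧸ Subgroup.center GG)).comap (QuotientGroup.mk' (Subgroup.center GG))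
  set Com : Set GG := {h | h.1 * J = J * h.1}
  set Ant : Set GG := {h | h.1 * J = -(J * h.1)}
  have hsub : (Pre : Set GG) ⊆ Com ∪ Ant := by
    intro h hh
    have hc : g⁻¹ * h⁻¹ * g * h ∈ Subgroup.center GG := by
      refine (QuotientGroup.eq_one_iff _).1 ?_
      have := congrArg Subtype.val (Subgroup.mem_center_iff.1 z.2 ⟨(h : GG ⧸ Subgroup.center GG), hh⟩)
      simp only [Subgroup.coe_mul, ← hg] at this
      simp only [QuotientGroup.mk_mul, QuotientGroup.mk_inv]
      rw [mul_assoc, ← this]; group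
    obtain ⟨l, hl⟩ := GeneralLinearGroup.mem_center_iff_val_mem_range_scalar.1 hc
    have h1 : J * h.1 = l • (h.1 * J) := by
      have : g * h = h * g * (g⁻¹ * h⁻¹ * g * h) := by group
      have := congrArg Units.val this
      rw [Units.val_mul, Units.val_mul, Units.val_mul, ← hl, hgJ] at this
      rw [this, Matrix.scalar_apply, ← Matrix.smul_one_eq_diagonal]
      simp
    have hdet := congrArg Matrix.det h1
    rw [Matrix.det_mul, Matrix.det_smul, Matrix.det_mul, Fintype.card_fin] at hdet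
    have hu : h.1.det * J.det ≠ 0 := mul_ne_zero
      ((Matrix.isUnit_iff_isUnit_det h.1).1 h.isUnit).ne_zero
      (hgJ ▸ ((Matrix.isUnit_iff_isUnit_det g.1).1 g.isUnit).ne_zero)
    have hl2 : (l - 1) * (l + 1) = 0 := (mul_eq_zero.1 (by linear_combination -hdet :
      (l - 1) * (l + 1) * (h.1.det * J.det) = 0)).resolve_right hu
    rcases mul_eq_zero.1 hl2 with e | e
    · rw [sub_eq_zero.1 e, one_smul] at h1; exact Or.inl h1.symm
    · rw [eq_neg_of_add_eq_zero_left e, neg_smul, one_smul] at h1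
      exact Or.inr (show h.1 * J = -(J * h.1) by rw [h1, neg_neg])
  have hant : Ant.ncard ≤ Com.ncard := by
    rcases Ant.eq_empty_or_nonempty with e | ⟨h₁, hh₁⟩
    · simp [e]
    have hh₁' : h₁.1 * J = -(J * h₁.1) := hh₁
    refine Set.ncard_le_ncard_of_injOn (fun h => h₁ * h) (fun h hh => ?_)
      (fun _ _ _ _ e => mul_left_cancel e)
    have hh' : h.1 * J = -(J * h.1) := hh
    show h₁.1 * h.1 * J = J * (h₁.1 * h.1)
    rw [mul_assoc, hh', mul_neg, ← mul_assoc, hh₁', neg_mul, neg_neg, mul_assoc]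
  have hcomle : ∀ S : Finset (ZMod q × ZMod q), (∀ p ∈ S, ¬ IsUnit (p.1 • 1 + p.2 • J)) →
      Com.ncard + S.card ≤ q * q := by
    intro S hS
    have h1 : Com.ncard ≤ (Finset.univ \ S).card := by
      rw [← Set.ncard_image_of_injective Com Units.val_injective, ← Set.ncard_coe_finset]
      refine (Set.ncard_le_ncard (t := (fun p : ZMod q × ZMod q => p.1 • 1 + p.2 • J) ''
        ↑(Finset.univ \ S)) ?_ (Set.toFinite _)).trans (Set.ncard_image_le (Set.toFinite _))
      rintro _ ⟨h, hh, rfl⟩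
      obtain ⟨p, hp⟩ := exists_of_commute h2 hJ0 h.1 hh
      exact ⟨p, by simpa using fun hpS => hS p hpS (hp ▸ h.isUnit), hp.symm⟩
    rw [Finset.card_sdiff_of_subset (Finset.subset_univ S), Finset.card_univ, Fintype.card_prod,
      ZMod.card] at h1
    have := Finset.card_le_univ S
    rw [Fintype.card_prod, ZMod.card] at this
    omega
  have hPre : (Pre : Set GG).ncard = 2 * (q + 1) * (q - 1) := by
    rw [← Nat.card_coe_set_eq]
    show Nat.card Pre = _
    have h := Subgroup.card_eq_card_quotient_mul_card_subgroup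
      ((Subgroup.center GG).subgroupOf Pre)
    have hle : Subgroup.center GG ≤ Pre := fun u hu => by
      rw [Subgroup.mem_comap, QuotientGroup.mk'_apply]
      rw [(QuotientGroup.eq_one_iff u).2 hu]; exact one_mem _
    rw [h, Nat.card_congr (Subgroup.subgroupOfEquivOfLe hle).toEquiv, card_center, ← hcard]
    congr 1
    let φ : Pre →* (P : Subgroup (GG ⧸ Subgroup.center GG)) :=
      ((QuotientGroup.mk' (Subgroup.center GG)).comp Pre.subtype).codRestrict _ fun u => u.2
    have hker : φ.ker = (Subgroup.center GG).subgroupOf Pre := by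
      ext u
      simp only [MonoidHom.mem_ker, Subgroup.mem_subgroupOf, φ]
      rw [← QuotientGroup.eq_one_iff, Subtype.ext_iff]
      rfl
    rw [← hker]
    exact Nat.card_congr (QuotientGroup.quotientKerEquivOfSurjective φ fun p => by
      obtain ⟨u, hu⟩ := QuotientGroup.mk_surjective p.1
      have hu' : u ∈ Pre := by
        rw [Subgroup.mem_comap, QuotientGroup.mk'_apply, hu]; exact p.2
      exact ⟨⟨u, hu'⟩, Subtype.ext hu⟩).toEquiv
  have hqq : (q + 1) * (q - 1) + 1 = q * q := by
    obtain ⟨r, rfl⟩ : ∃ r, q = r + 1 := ⟨q - 1, by omega⟩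
    rw [Nat.add_sub_cancel]; ring
  have hup : (Pre : Set GG).ncard ≤ Com.ncard + Com.ncard :=
    (Set.ncard_le_ncard hsub).trans ((Set.ncard_union_le _ _).trans (by omega))
  refine ⟨a, b, c, fun s hs => ?_, fun h => ?_⟩
  · have h2' := hcomle {(0, 0), (-s, 1)} fun p hp => by
      simp only [Finset.mem_insert, Finset.mem_singleton] at hp
      rw [Matrix.isUnit_iff_isUnit_det, isUnit_iff_ne_zero, not_not]
      rcases hp with rfl | rfl
      · simp
      · simp [det_fin_two, J]; linear_combination hs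
    rw [Finset.card_pair (fun e => zero_ne_one (congrArg Prod.snd e))] at h2'
    rw [hPre, mul_assoc] at hup
    omega
  · have h1' := hcomle {(0, 0)} fun p hp => by
      rw [Finset.mem_singleton] at hp
      simp [hp, Matrix.isUnit_iff_isUnit_det]
    rw [Finset.card_singleton] at h1'
    have heq : (Pre : Set GG) = Com ∪ Ant := by
      refine Set.eq_of_subset_of_ncard_le hsub ?_
      have := Set.ncard_union_le Com Ant
      rw [hPre, mul_assoc]
      omega
    exact Set.ext_iff.1 heq h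

/-- Let q = 2^k − 1 ≥ 7 be a prime and let G = PGL(2,q), the general linear group of degree 2 over the field with q elements modulo its centre. Then any two Sylow 2-subgroups of G have a non-trivial intersection: for a Sylow 2-subgroup H and every x ∈ G, H ∩ H^x ≠ 1. -/
theorem result {q k : ℕ} [Fact q.Prime] (hk : q + 1 = 2 ^ k) (hq : 7 ≤ q)
    (H : Sylow 2 (GL (Fin 2) (ZMod q) ⧸ Subgroup.center (GL (Fin 2) (ZMod q))))
    (x : GL (Fin 2) (ZMod q) ⧸ Subgroup.center (GL (Fin 2) (ZMod q))) :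
    (H : Subgroup (GL (Fin 2) (ZMod q) ⧸ Subgroup.center (GL (Fin 2) (ZMod q)))) ⊓ MulAut.conj x • (H : Subgroup _) ≠ ⊥ := by
  classical
  rw [← Sylow.coe_subgroup_smul]
  obtain ⟨a, b, c, hns, hH⟩ := exists_axis hk hq H
  obtain ⟨a', b', c', hns', hH'⟩ := exists_axis hk hq (x • H)
  have h2 : (2 : ZMod q) ≠ 0 := fun e => by
    have : ((2 : ℕ) : ZMod q) = 0 := by exact_mod_cast e
    rw [ZMod.natCast_eq_zero_iff] at this
    have := Nat.le_of_dvd two_pos this
    omega
  intro hbot
  set J : Matrix (Fin 2) (Fin 2) (ZMod q) := !![a, b; c, -a]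
  set J' : Matrix (Fin 2) (Fin 2) (ZMod q) := !![a', b'; c', -a']
  set Z := J * J' - J' * J with hZ
  have hnz : ∀ a b c : ZMod q, (∀ s, s ^ 2 ≠ a ^ 2 + b * c) → ¬ (a = 0 ∧ b = 0 ∧ c = 0) :=
    fun a b c h e => h 0 (by simp [e.1, e.2.1, e.2.2])
  by_cases hZ0 : Z = 0
  · obtain ⟨p, hp⟩ := exists_of_commute h2 (hnz a b c hns) J' (sub_eq_zero.1 hZ0).symm
    have hp1 : p.1 = 0 := by
      have e0 := congrFun (congrFun hp 0) 0
      have e1 := congrFun (congrFun hp 1) 1
      simp [J'] at e0 e1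
      exact (mul_eq_zero.1 (by linear_combination -e0 - e1 : p.1 * 2 = 0)).resolve_right h2
    rw [hp1, zero_smul, zero_add] at hp
    have hp2 : p.2 ≠ 0 := fun e => hnz a' b' c' hns' (by
      rw [e, zero_smul] at hp
      exact ⟨by simpa [J'] using congrFun (congrFun hp 0) 0,
        by simpa [J'] using congrFun (congrFun hp 0) 1, by simpa [J'] using congrFun (congrFun hp 1) 0⟩)
    have hle : (H : Subgroup (GL (Fin 2) (ZMod q) ⧸ Subgroup.center (GL (Fin 2) (ZMod q)))) ≤
        ↑(x • H) := fun u hu => by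
      induction u using QuotientGroup.induction_on with
      | _ g =>
      refine (hH' g).2 ?_
      rcases (hH g).1 hu with e | e
      · left; show _ * J' = J' * _; rw [hp, mul_smul_comm, smul_mul_assoc, e]
      · right; show _ * J' = -(J' * _); rw [hp, mul_smul_comm, smul_mul_assoc, e, smul_neg]
    rw [inf_eq_left.2 hle] at hbot
    refine H.ne_bot_of_dvd_card ?_ hbot
    rw [card_quot, hk]
    exact dvd_mul_of_dvd_right (dvd_mul_of_dvd_right (dvd_pow_self 2 (by rintro rfl; omega)) _) _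
  · have sqJ : ∀ a b c : ZMod q, !![a, b; c, -a] * !![a, b; c, -a] = (a ^ 2 + b * c) • 1 := by
      intro a b c
      ext i j; fin_cases i <;> fin_cases j <;> simp [Matrix.mul_apply, Fin.sum_univ_two] <;> ring
    have hA : Z * J = -(J * Z) := by
      rw [hZ, sub_mul, mul_sub, ← mul_assoc J J J', mul_assoc J' J J, sqJ a b c]
      simp [mul_assoc]
    have hA' : Z * J' = -(J' * Z) := by
      rw [hZ, sub_mul, mul_sub, ← mul_assoc J' J' J, mul_assoc J J' J', sqJ a' b' c']
      simp [mul_assoc]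
    have hdet : Z.det ≠ 0 := det_ne_zero_of_anti h2 hns Z hZ0
      (by simp [Z, J, J', Matrix.mul_apply, Fin.sum_univ_two]; ring) hA
    let g : GL (Fin 2) (ZMod q) := Matrix.GeneralLinearGroup.mkOfDetNeZero Z hdet
    have hmem : (g : GL (Fin 2) (ZMod q) ⧸ Subgroup.center (GL (Fin 2) (ZMod q))) ∈
        (H : Subgroup (GL (Fin 2) (ZMod q) ⧸ Subgroup.center (GL (Fin 2) (ZMod q)))) ⊓
          ↑(x • H) :=
      Subgroup.mem_inf.2 ⟨(hH g).2 (Or.inr hA), (hH' g).2 (Or.inr hA')⟩
    rw [hbot, Subgroup.mem_bot, QuotientGroup.eq_one_iff,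
      Matrix.GeneralLinearGroup.mem_center_iff_val_mem_range_scalar] at hmem
    obtain ⟨r, hr⟩ := hmem
    have hgZ : g.1 = Z := rfl
    rw [hgZ, Matrix.scalar_apply, ← Matrix.smul_one_eq_diagonal] at hr
    have hr0 : r ≠ 0 := fun e => hZ0 (by rw [← hr, e, zero_smul])
    rw [← hr, smul_mul_assoc, one_mul, mul_smul_comm, mul_one] at hA
    refine hnz a b c hns ⟨?_, ?_, ?_⟩
    · have := congrFun (congrFun hA 0) 0
      simp [J] at this
      exact (mul_eq_zero.1 (by linear_combination this : a * (2 * r) = 0)).resolve_right (mul_ne_zero h2 hr0)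
    · have := congrFun (congrFun hA 0) 1
      simp [J] at this
      exact (mul_eq_zero.1 (by linear_combination this : b * (2 * r) = 0)).resolve_right (mul_ne_zero h2 hr0)
    · have := congrFun (congrFun hA 1) 0
      simp [J] at this
      exact (mul_eq_zero.1 (by linear_combination this : c * (2 * r) = 0)).resolve_right (mul_ne_zero h2 hr0)

end Cfsg.Agent.S2485
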