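import Cfsg.Statements.S2486
import Cfsg.Agent.SimpleFacts.SLBlocks.Basic
-- import your own Cfsg.Agent.* helpers here

set_option autoImplicit false
set_option linter.all false
open scoped Pointwise
open Cfsg

namespace Cfsg.Agent.S2486

section Helpers

open Cfsg.Agent.SimpleFacts.SLBlocks Cfsg.Agent.AutPSL.Roots

variable {n : ℕ}

local notation "SL" => Matrix.SpecialLinearGroup (Fin n) (ZMod 2)
local notation "U" => (unitriSL (n := n) (F := ZMod 2))

theorem isMono_eq {m m' : SL} {π : Equiv.Perm (Fin n)} (h : IsMono m π) (h' : IsMono m' π) :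
    m = m' := by
  refine Subtype.ext (Matrix.ext fun i j => ?_)
  rw [h.apply, h'.apply]
  have key : ∀ a b : ZMod 2, a ≠ 0 → b ≠ 0 → a = b := by decide
  split_ifs
  · exact key _ _ (h.ent_ne j) (h'.ent_ne j)
  · rfl

theorem tr_ne_one {i j : Fin n} (hij : i ≠ j) :
    (Matrix.SpecialLinearGroup.transvection hij (1 : ZMod 2)) ≠ (1 : SL) := by
  intro h
  have h1 := congrArg (fun z : SL => (z : Matrix (Fin n) (Fin n) (ZMod 2)) i j) h
  rw [tr_apply, if_neg hij, if_pos ⟨rfl, rfl⟩, Matrix.SpecialLinearGroup.coe_one,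
    Matrix.one_apply_ne hij, zero_add] at h1
  exact one_ne_zero h1

theorem opposite {g : SL} (h : ∀ z ∈ U, g * z * g⁻¹ ∈ U → z = 1) :
    ∃ u ∈ U, ∃ m : SL, (∃ π : Equiv.Perm (Fin n), IsMono m π ∧ StrictAnti π) ∧
      ∃ v ∈ U, g = u * m * v := by
  obtain ⟨u, hu, π, m, hm, v, hv, rfl⟩ := exists_bruhat g
  refine ⟨u, hu, m, ⟨π, hm, ?_⟩, v, hv, rfl⟩
  intro i j hij
  rcases lt_trichotomy (π i) (π j) with h1 | h1 | h1
  · exfalso
    have e := h (v⁻¹ * Matrix.SpecialLinearGroup.transvection hij.ne (1 : ZMod 2) * v)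
      (mul_mem (mul_mem (inv_mem hv) (tr_mem_U _ _ hij)) hv) (by
        have e1 : u * m * v * (v⁻¹ * Matrix.SpecialLinearGroup.transvection hij.ne (1 : ZMod 2) * v)
            * (u * m * v)⁻¹ =
            u * (m * Matrix.SpecialLinearGroup.transvection hij.ne (1 : ZMod 2)) * m⁻¹ * u⁻¹ := by
          group
        rw [e1, hm.conj_tr, ← mul_assoc, mul_inv_cancel_right]
        exact mul_mem (mul_mem hu (tr_mem_U _ _ h1)) (inv_mem hu))
    refine tr_ne_one hij.ne ?_
    have e2 := congrArg (fun z => v * z * v⁻¹) e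
    simpa [mul_assoc] using e2
  · exact absurd (π.injective h1) hij.ne
  · exact h1

theorem selfnorm {g : SL} (h : ∀ z ∈ U, g * z * g⁻¹ ∈ U) : g ∈ U := by
  obtain ⟨u, hu, π, m, hm, v, hv, rfl⟩ := exists_bruhat g
  have h1 : StrictMono π := by
    intro i j hij
    have e := h (v⁻¹ * Matrix.SpecialLinearGroup.transvection hij.ne (1 : ZMod 2) * v)
      (mul_mem (mul_mem (inv_mem hv) (tr_mem_U _ _ hij)) hv)
    have e1 : u * m * v * (v⁻¹ * Matrix.SpecialLinearGroup.transvection hij.ne (1 : ZMod 2) * v)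
        * (u * m * v)⁻¹ =
        u * (m * Matrix.SpecialLinearGroup.transvection hij.ne (1 : ZMod 2)) * m⁻¹ * u⁻¹ := by
      group
    rw [e1, hm.conj_tr, ← mul_assoc, mul_inv_cancel_right] at e
    have e2 := mul_mem (mul_mem (inv_mem hu) e) hu
    rw [← mul_assoc, ← mul_assoc, inv_mul_cancel, one_mul, inv_mul_cancel_right] at e2
    rcases lt_trichotomy (π i) (π j) with h1 | h1 | h1
    · exact h1
    · exact absurd (π.injective h1) hij.ne
    · exfalso
      have h2 := e2.1 _ _ h1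
      rw [tr_apply, if_neg (π.injective.ne hij.ne), if_pos ⟨rfl, rfl⟩, zero_add, mul_one] at h2
      exact (div_ne_zero (hm.ent_ne i) (hm.ent_ne j)) h2
  obtain rfl := eq_one_of_monotone h1
  rw [isMono_eq hm isMono_one, mul_one]
  exact mul_mem hu hv

theorem opposite_conj {g g' : SL} (h : ∀ z ∈ U, g * z * g⁻¹ ∈ U → z = 1)
    (h' : ∀ z ∈ U, g' * z * g'⁻¹ ∈ U → z = 1) :
    ∃ c ∈ U, ∀ w ∈ U, ∃ w' ∈ U, c * (g * w * g⁻¹) * c⁻¹ = g' * w' * g'⁻¹ := by
  obtain ⟨u, hu, m, ⟨π, hm, hπ⟩, v, hv, rfl⟩ := opposite h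
  obtain ⟨u', hu', m', ⟨π', hm', hπ'⟩, v', hv', rfl⟩ := opposite h'
  have hπeq : π = π' := by
    have hc : StrictMono ⇑(π'⁻¹ * π) := by
      intro i j hij
      by_contra hne
      rcases (not_lt.1 hne).lt_or_eq with h1 | h1
      · have h2 := hπ' h1
        rw [Equiv.Perm.mul_apply, Equiv.Perm.mul_apply] at h2
        have h3 : ∀ a, π' (π'⁻¹ a) = a := fun a => π'.apply_symm_apply a
        rw [h3, h3] at h2
        exact lt_asymm h2 (hπ hij)
      · exact hij.ne' ((π'⁻¹ * π).injective h1)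
    exact (inv_mul_eq_one.1 (eq_one_of_monotone hc)).symm
  subst hπeq
  obtain rfl := isMono_eq hm hm'
  refine ⟨u' * u⁻¹, mul_mem hu' (inv_mem hu), fun w hw => ⟨v'⁻¹ * (v * w * v⁻¹) * v',
    mul_mem (mul_mem (inv_mem hv') (mul_mem (mul_mem hv hw) (inv_mem hv))) hv', ?_⟩⟩
  group

variable {N : Type*} [Group N] [Finite N] (e : N ≃* Matrix.SpecialLinearGroup (Fin n) (ZMod 2))

include e

theorem sylow_conj (hn : 1 ≤ n) (P : Sylow 2 N) :
    ∃ a : SL, ∀ z : N, z ∈ (P : Subgroup N) ↔ a⁻¹ * e z * a ∈ U := by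
  obtain ⟨P₀, hP₀⟩ := exists_sylow (F := ZMod 2) (n := n) 2 hn
  have hsurj : Function.Surjective e.toMonoidHom := e.surjective
  obtain ⟨a, ha⟩ := MulAction.exists_smul_eq SL P₀ (P.mapSurjective hsurj)
  refine ⟨a, fun z => ?_⟩
  have h1 : z ∈ (P : Subgroup N) ↔
      e z ∈ ((P.mapSurjective hsurj : Sylow 2 SL) : Subgroup SL) := by
    rw [Sylow.coe_mapSurjective]
    exact ⟨fun h => ⟨z, h, rfl⟩, fun ⟨x, hx, h⟩ => e.injective h ▸ hx⟩
  rw [h1, ← ha, Sylow.coe_subgroup_smul, Subgroup.mem_pointwise_smul_iff_inv_smul_mem, hP₀]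
  simp [MulAut.smul_def]

theorem sylow_opposite_conj (hn : 1 ≤ n) (P Q R : Sylow 2 N)
    (hQ : ∀ z, z ∈ (P : Subgroup N) → z ∈ (Q : Subgroup N) → z = 1)
    (hR : ∀ z, z ∈ (P : Subgroup N) → z ∈ (R : Subgroup N) → z = 1) :
    ∃ u ∈ (P : Subgroup N), ∀ z ∈ (Q : Subgroup N), u * z * u⁻¹ ∈ (R : Subgroup N) := by
  obtain ⟨g, hg⟩ := sylow_conj e hn P
  obtain ⟨a, ha⟩ := sylow_conj e hn Q
  obtain ⟨b, hb⟩ := sylow_conj e hn R
  have key : ∀ (S : Sylow 2 N) (s : SL), (∀ z : N, z ∈ (S : Subgroup N) ↔ s⁻¹ * e z * s ∈ U) →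
      (∀ z, z ∈ (P : Subgroup N) → z ∈ (S : Subgroup N) → z = 1) →
      ∀ w ∈ U, (g⁻¹ * s) * w * (g⁻¹ * s)⁻¹ ∈ U → w = 1 := by
    intro S s hs hS w hw hw'
    have h1 := hS (e.symm (s * w * s⁻¹)) ((hg _).2 (by simpa [mul_assoc] using hw'))
      ((hs _).2 (by simpa [mul_assoc] using hw))
    have h2 := congrArg e h1
    rw [map_one, e.apply_symm_apply] at h2
    exact conj_eq_one_iff.1 h2
  obtain ⟨c, hc, hcw⟩ := opposite_conj (key Q a ha hQ) (key R b hb hR)
  refine ⟨e.symm (g * c * g⁻¹), (hg _).2 (by simpa [mul_assoc] using hc), fun z hz => ?_⟩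
  obtain ⟨w', hw', hw⟩ := hcw _ ((ha z).1 hz)
  rw [hb]
  have h3 := congrArg (fun x => g * x * g⁻¹) hw
  simp only [map_mul, map_inv, e.apply_symm_apply]
  convert hw' using 1
  have h4 : g * c * g⁻¹ * e z * (g * c * g⁻¹)⁻¹ = b * w' * b⁻¹ := by
    simpa [mul_assoc] using h3
  rw [h4]; group

theorem sylow_selfnorm (hn : 1 ≤ n) (P : Sylow 2 N) (x : N)
    (hx : ∀ z ∈ (P : Subgroup N), x * z * x⁻¹ ∈ (P : Subgroup N)) : x ∈ (P : Subgroup N) := by
  obtain ⟨a, ha⟩ := sylow_conj e hn P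
  rw [ha]
  refine selfnorm fun w hw => ?_
  have h := (ha _).1 (hx (e.symm (a * w * a⁻¹)) ((ha _).2 (by simpa [mul_assoc] using hw)))
  simpa [mul_assoc] using h

end Helpers

/-- Let n ≥ 4 and let G be a finite group with a normal subgroup N of index 2 isomorphic to SL(n,2) and with trivial centralizer in G (so G is the extension of the simple group L_n(2) by its inverse-transpose automorphism, its full automorphism group). Then any two Sylow 2-subgroups of G have a non-trivial intersection: for a Sylow 2-subgroup H and every x ∈ G, H ∩ H^x ≠ 1. -/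
theorem result {G : Type*} [Group G] [Finite G] {n : ℕ} (hn : 4 ≤ n) (N : Subgroup G) [N.Normal]
    (e : N ≃* Matrix.SpecialLinearGroup (Fin n) (ZMod 2)) (hidx : N.index = 2)
    (hC : Subgroup.centralizer (N : Set G) = ⊥)
    (H : Sylow 2 G) (x : G) :
    (H : Subgroup G) ⊓ MulAut.conj x • (H : Subgroup G) ≠ ⊥ := by
  intro hbot
  have hn1 : 1 ≤ n := by omega
  set H' : Sylow 2 G := x • H
  have hH' : (H' : Subgroup G) = MulAut.conj x • (H : Subgroup G) := Sylow.coe_subgroup_smul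
  rw [← hH'] at hbot
  have hout : ∀ K : Sylow 2 G, ∃ y ∈ (K : Subgroup G), y ∉ N := by
    intro K
    refine SetLike.not_le_iff_exists.1 fun hle => K.not_dvd_index ?_
    have := Subgroup.index_dvd_of_le (show (K : Subgroup G) ≤ N from hle)
    rwa [hidx] at this
  have hsyl : ∀ K : Sylow 2 G, ∃ P : Sylow 2 N, (P : Subgroup N) = (K : Subgroup G).subgroupOf N := by
    intro K
    refine ⟨IsPGroup.toSylow (P := (K : Subgroup G).subgroupOf N) (K.isPGroup'.comap_subtype) ?_, rfl⟩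
    have h1 := Subgroup.relIndex_mul_index (inf_le_left : (K : Subgroup G) ⊓ N ≤ K)
    have h2 := Subgroup.relIndex_mul_index (inf_le_right : (K : Subgroup G) ⊓ N ≤ N)
    rw [Subgroup.inf_relIndex_left] at h1
    rw [Subgroup.inf_relIndex_right, hidx] at h2
    have h3 : N.relIndex (K : Subgroup G) ∣ 2 := by
      have := N.relIndex_dvd_index_of_normal (K : Subgroup G)
      rwa [hidx] at this
    have h4 : N.relIndex (K : Subgroup G) ≠ 1 := by
      rw [Ne, Subgroup.relIndex_eq_one]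
      obtain ⟨y, hy, hyN⟩ := hout K
      exact fun hle => hyN (hle hy)
    rw [((Nat.dvd_prime Nat.prime_two).1 h3).resolve_left h4] at h1
    have h5 : (K : Subgroup G).relIndex N = (K : Subgroup G).index := by omega
    show ¬ 2 ∣ (K : Subgroup G).relIndex N
    rw [h5]
    exact K.not_dvd_index
  obtain ⟨y, hy, hyN⟩ := hout H
  obtain ⟨y', hy', hy'N⟩ := hout H'
  obtain ⟨P, hP⟩ := hsyl H
  obtain ⟨P', hP'⟩ := hsyl H'
  set φ : N ≃* N := MulAut.conjNormal y
  set P'' : Sylow 2 N := P'.mapSurjective (f := φ.toMonoidHom) φ.surjective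
  have hP'' : ∀ z : N, z ∈ (P'' : Subgroup N) ↔ y⁻¹ * (z : G) * y ∈ (H' : Subgroup G) := by
    intro z
    rw [show (P'' : Subgroup N) = (P' : Subgroup N).map φ.toMonoidHom from
      Sylow.coe_mapSurjective φ.surjective P', Subgroup.mem_map_equiv, hP', Subgroup.mem_subgroupOf]
    simp [φ, MulAut.conjNormal_symm_apply]
  have hmem : ∀ (Q : Sylow 2 N) (K : Subgroup G), (Q : Subgroup N) = K.subgroupOf N →
      ∀ z : N, z ∈ (Q : Subgroup N) ↔ (z : G) ∈ K := fun Q K h z => by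
    rw [h, Subgroup.mem_subgroupOf]
  obtain ⟨u, hu, huc⟩ := sylow_opposite_conj e hn1 P P' P''
    (fun z hz hz' => by
      have h1 : (z : G) ∈ (H : Subgroup G) ⊓ (H' : Subgroup G) :=
        ⟨(hmem P _ hP z).1 hz, (hmem P' _ hP' z).1 hz'⟩
      rw [hbot, Subgroup.mem_bot] at h1
      exact Subtype.ext h1)
    (fun z hz hz' => by
      have h1 : y⁻¹ * (z : G) * y ∈ (H : Subgroup G) ⊓ (H' : Subgroup G) :=
        ⟨Subgroup.mul_mem _ (Subgroup.mul_mem _ (Subgroup.inv_mem _ hy) ((hmem P _ hP z).1 hz)) hy,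
          (hP'' z).1 hz'⟩
      rw [hbot, Subgroup.mem_bot] at h1
      refine Subtype.ext ?_
      have h2 := congrArg (fun w => y * w * y⁻¹) h1
      simpa [mul_assoc] using h2)
  rw [hmem P _ hP] at hu
  set k : G := y⁻¹ * (u : G)
  have hk : k ∈ (H : Subgroup G) := mul_mem (inv_mem hy) hu
  have hkN : k ∉ N := fun h => hyN (by
    have h1 : y⁻¹ ∈ N := (mul_mem_cancel_right u.2).1 h
    simpa using inv_mem h1)
  have hnorm : ∀ z : N, (z : G) ∈ (H' : Subgroup G) → k * (z : G) * k⁻¹ ∈ (H' : Subgroup G) := by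
    intro z hz
    have := (hP'' _).1 (huc z ((hmem P' _ hP' z).2 hz))
    simpa [k, mul_assoc] using this
  have hk' : y'⁻¹ * k ∈ N := by
    rw [Subgroup.mul_mem_iff_of_index_two hidx]
    exact ⟨fun h => absurd (by simpa using inv_mem h) hy'N, fun h => absurd h hkN⟩
  have h6 := sylow_selfnorm e hn1 P' ⟨y'⁻¹ * k, hk'⟩ (fun z hz => by
    rw [hmem P' _ hP'] at hz ⊢
    have h7 := mul_mem (mul_mem (inv_mem hy') (hnorm z hz)) hy'
    simpa [mul_assoc] using h7)
  rw [hmem P' _ hP'] at h6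
  have h9 : k ∈ (H' : Subgroup G) := by
    have := Subgroup.mul_mem _ hy' h6
    simpa using this
  have h8 : k ∈ (H : Subgroup G) ⊓ (H' : Subgroup G) := ⟨hk, h9⟩
  rw [hbot, Subgroup.mem_bot] at h8
  exact hkN (h8 ▸ one_mem N)

end Cfsg.Agent.S2486
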