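import Cfsg.Statements.S2487
import Cfsg.Agent.Lib.Forms.PlusStd
import Cfsg.Agent.Lib.Classical.OrthEichler

set_option autoImplicit false
open scoped Pointwise
open Cfsg

namespace Cfsg.Agent.S2487

open Cfsg.Agent.Forms Cfsg.Agent.Forms.PlusStd Cfsg.Agent.Forms.Reflections Cfsg.Agent.Forms.QuadStd
  Cfsg.Agent.Classical.Orth

variable {F : Type*} [Field F] {m : ℕ}

set_option quotPrecheck false in
local notation "Q" => plusQ F m
set_option quotPrecheck false in
local notation "B" => QuadraticMap.polar (DFunLike.coe (plusQ F m))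

/-- the standard totally singular vectors -/
def eL (i : Fin m) : Fin m ⊕ Fin m → F := Pi.single (.inl i) 1
def eR (i : Fin m) : Fin m ⊕ Fin m → F := Pi.single (.inr i) 1

theorem B_eL (i : Fin m) (y : Fin m ⊕ Fin m → F) : B (eL i) y = y (.inr i) := by
  simp [plusQ_polar, eL, Pi.single_apply]

/-- pointwise stabiliser of the first `m - 1` standard singular vectors -/
noncomputable def fixK (F : Type*) [Field F] (m : ℕ) : Subgroup (Cfsg.isometryGroup F ⇑(plusQ F m)) where
  carrier := {g | ∀ i : Fin m, i.1 + 1 < m → act g (eL i) = eL i}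
  one_mem' := fun i _ => act_one _
  mul_mem' := fun {a b} ha hb i hi => by rw [act_mul, hb i hi, ha i hi]
  inv_mem' := fun {a} ha i hi => by
    conv_lhs => rw [← ha i hi]
    rw [← act_mul, inv_mul_cancel, act_one]

theorem decomp (y : Fin m ⊕ Fin m → F) :
    y = ∑ i, y (.inl i) • eL i + ∑ i, y (.inr i) • eR i := by
  funext z; rcases z with j | j <;> simp [eL, eR, Pi.single_apply, Finset.sum_apply]

theorem fixed_of_low {g : Cfsg.isometryGroup F ⇑(plusQ F m)} (hg : g ∈ fixK F m)
    (z : Fin m ⊕ Fin m → F) (hr : ∀ i, z (.inr i) = 0)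
    (hl : ∀ i : Fin m, i.1 + 1 = m → z (.inl i) = 0) : act g z = z := by
  conv_rhs => rw [decomp z]
  conv_lhs => rw [decomp z]
  simp only [hr, zero_smul, Finset.sum_const_zero, add_zero, map_sum, map_smul]
  refine Finset.sum_congr rfl fun i _ => ?_
  rcases eq_or_ne (i.1 + 1) m with h | h
  · rw [hl i h, zero_smul, zero_smul]
  · rw [hg i (by omega)]

theorem perp_preserved {g : Cfsg.isometryGroup F ⇑(plusQ F m)} (hg : g ∈ fixK F m)
    (x : Fin m ⊕ Fin m → F) (i : Fin m) (hi : i.1 + 1 < m) :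
    act g x (.inr i) = x (.inr i) := by
  rw [← B_eL i (act g x), ← B_eL i x]
  conv_lhs => rw [← hg i hi]
  exact act_polar g _ _

theorem sq_mod (h01 : ∀ a : F, a = 0 ∨ a = 1) {g : Cfsg.isometryGroup F ⇑(plusQ F m)}
    (hg : g ∈ fixK F m) (l : Fin m) (hl : l.1 + 1 = m) (y : Fin m ⊕ Fin m → F)
    (hy : ∀ i : Fin m, i.1 + 1 < m → y (.inr i) = 0) :
    (∀ i, act g (act g y) (.inr i) = y (.inr i)) ∧
      act g (act g y) (.inl l) = y (.inl l) := by
  have hlast : ∀ i : Fin m, i ≠ l → i.1 + 1 < m := fun i hi => by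
    have h1 : i.1 ≠ l.1 := fun h => hi (Fin.ext h)
    have h2 := i.2
    omega
  -- action on a vector orthogonal to the fixed vectors, modulo the fixed vectors
  have coord : ∀ v : Fin m ⊕ Fin m → F, (∀ i : Fin m, i.1 + 1 < m → v (.inr i) = 0) →
      act g v (.inl l) = v (.inl l) * act g (eL l) (.inl l) + v (.inr l) * act g (eR l) (.inl l) ∧
      act g v (.inr l) = v (.inl l) * act g (eL l) (.inr l) + v (.inr l) * act g (eR l) (.inr l) := by
    intro v hv
    obtain ⟨z, hz⟩ : ∃ z, v = z + v (.inl l) • eL l + v (.inr l) • eR l :=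
      ⟨v - v (.inl l) • eL l - v (.inr l) • eR l, by abel⟩
    have hzr : ∀ i, z (.inr i) = 0 := fun i => by
      have := congrFun hz (.inr i)
      rcases eq_or_ne i l with h | h
      · subst h; simpa [eL, eR] using this
      · simpa [eL, eR, h, hv i (hlast i h)] using this.symm
    have hzl : z (.inl l) = 0 := by
      have := congrFun hz (.inl l)
      simpa [eL, eR] using this
    have hfix := fixed_of_low hg z hzr (fun i hi => by
      rw [show i = l from Fin.ext (by omega)]; exact hzl)
    have := congrArg (act g) hz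
    rw [map_add, map_add, map_smul, map_smul, hfix] at this
    rw [this]
    simp [hzl, hzr l]
  set a := act g (eL l) (.inl l)
  set b := act g (eL l) (.inr l)
  set c := act g (eR l) (.inl l)
  set d := act g (eR l) (.inr l)
  have hLl : ∀ i : Fin m, i.1 + 1 < m → eL l (.inr i) = (0 : F) := fun i _ => by simp [eL]
  have hRl : ∀ i : Fin m, i.1 + 1 < m → eR l (.inr i) = (0 : F) := fun i hi => by
    have : i ≠ l := fun h => by rw [h] at hi; omega
    simp [eR, this]
  have q0 : ∀ v : Fin m ⊕ Fin m → F, (∀ i : Fin m, i.1 + 1 < m → v (.inr i) = 0) →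
      Q (act g v) = act g v (.inl l) * act g v (.inr l) := fun v hv => by
    rw [plusQ_apply, Cfsg.quadFormPlus]
    exact Finset.sum_eq_single l (fun i _ hi => by
      rw [perp_preserved hg v i (hlast i hi), hv i (hlast i hi), mul_zero]) (by simp)
  have hab : a * b = 0 := by
    rw [← q0 _ hLl, act_map, plusQ_apply]; simp [Cfsg.quadFormPlus, eL]
  have hcd : c * d = 0 := by
    rw [← q0 _ hRl, act_map, plusQ_apply]; simp [Cfsg.quadFormPlus, eR]
  have hdet : a * d + b * c = 1 := by
    have h := act_polar g (eL l) (eR l)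
    rw [B_eL, plusQ_polar, Finset.sum_eq_single l (fun i _ hi => by
      rw [perp_preserved hg (eL l) i (hlast i hi), perp_preserved hg (eR l) i (hlast i hi),
        hLl i (hlast i hi), hRl i (hlast i hi)]; ring) (by simp)] at h
    simpa [eR, a, b, c, d] using h
  have hgy : ∀ i : Fin m, i.1 + 1 < m → act g y (.inr i) = 0 := fun i hi => by
    rw [perp_preserved hg y i hi, hy i hi]
  obtain ⟨e1, e2⟩ := coord y hy
  obtain ⟨f1, f2⟩ := coord _ hgy
  refine ⟨fun i => ?_, ?_⟩
  · rcases eq_or_ne i l with rfl | hi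
    · rw [f2, e1, e2]
      rcases h01 a with ha | ha <;> rcases h01 b with hb | hb <;> rcases h01 c with hc | hc <;>
        rcases h01 d with hd | hd <;> simp_all
    · rw [perp_preserved hg _ i (hlast i hi), perp_preserved hg y i (hlast i hi)]
  · rw [f1, e1, e2]
    rcases h01 a with ha | ha <;> rcases h01 b with hb | hb <;> rcases h01 c with hc | hc <;>
      rcases h01 d with hd | hd <;> simp_all

theorem fixK_pgroup (h01 : ∀ a : F, a = 0 ∨ a = 1) (h2 : (2 : F) = 0) (hm : 1 ≤ m) :
    IsPGroup 2 (fixK F m) := by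
  intro g
  refine ⟨3, Subtype.ext (act_ext fun x => ?_)⟩
  obtain ⟨g, hg⟩ := g
  let l : Fin m := ⟨m - 1, by omega⟩
  have hl : l.1 + 1 = m := by simp [l]; omega
  set G2 : (Fin m ⊕ Fin m → F) → (Fin m ⊕ Fin m → F) := fun v => act g (act g v) with hG2
  have two : ∀ v : Fin m ⊕ Fin m → F, v + v = 0 := fun v => by
    funext z; rw [Pi.add_apply, ← two_mul, h2, zero_mul]; rfl
  have hadd : ∀ u v, G2 (u + v) = G2 u + G2 v := fun u v => by simp [G2]
  set D := G2 x - x with hD
  have hDperp : ∀ i : Fin m, i.1 + 1 < m → D (.inr i) = 0 := fun i hi => by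
    simp only [D, G2, Pi.sub_apply, perp_preserved hg _ i hi, sub_self]
  set D' := G2 D - D with hD'
  obtain ⟨s1, s2⟩ := sq_mod h01 hg l hl D hDperp
  have hfix : act g D' = D' := fixed_of_low hg D' (fun i => by simp [D', G2, s1 i])
    (fun i hi => by
      rw [show i = l from Fin.ext (by simp [l]; omega)]
      simp [D', G2, s2])
  have h1 : G2 x = x + D := by simp [D]
  have h1' : G2 D = D + D' := by simp [D']
  have h1'' : G2 D' = D' := by simp [G2, hfix]
  have h4 : G2 (G2 x) = x + D' := by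
    rw [h1, hadd, h1, h1']
    calc x + D + (D + D') = x + (D + D) + D' := by abel
      _ = x + D' := by rw [two D, add_zero]
  have h8 : G2 (G2 (G2 (G2 x))) = x := by
    rw [h4, hadd, hadd, h4, h1'', h1'', add_assoc, two D', add_zero]
  show act ((⟨g, hg⟩ : fixK F m) ^ 2 ^ 3 : fixK F m).1 x = act 1 x
  rw [act_one, SubgroupClass.coe_pow]
  simpa [pow_succ, act_mul, G2] using h8

theorem exists_fix_ne_one [Fintype F] (hm : 1 ≤ m) (S : Submodule F (Fin m ⊕ Fin m → F))
    (hS : Module.finrank F S + 2 ≤ 2 * m) :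
    ∃ h : Cfsg.isometryGroup F ⇑(plusQ F m), h ≠ 1 ∧ ∀ x ∈ S, act h x = x := by
  have hnd := plusQ_nondeg F m
  set D := (polB Q).orthogonal S with hDdef
  have hdimD : 2 ≤ Module.finrank F D := by
    rw [hDdef, finrank_orth hnd]; simp only [Fintype.card_sum, Fintype.card_fin]; omega
  have hperp : ∀ v ∈ D, ∀ x ∈ S, B x v = 0 := fun v hv x hx => mem_orth.1 hv x hx
  by_cases hns : ∃ v ∈ D, Q v ≠ 0
  · obtain ⟨v, hv, hv0⟩ := hns
    refine ⟨reflect Q v, fun h => ?_, fun x hx => ?_⟩
    · have hv' : v ≠ 0 := fun h => hv0 (by rw [h, QuadraticMap.map_zero])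
      have : ∃ y, B v y ≠ 0 := by
        by_contra hc
        push Not at hc
        exact hv' (hnd.1 v fun y => hc y)
      obtain ⟨y, hy⟩ := this
      have h1 := congrArg (fun k => act k y) h
      simp only [act_reflect, act_one, sub_eq_self] at h1
      exact smul_ne_zero (mul_ne_zero (inv_ne_zero hv0) hy) hv' h1
    · rw [act_reflect, QuadraticMap.polar_comm, hperp v hv x hx]; simp
  · push Not at hns
    have hne : D ≠ ⊥ := fun h => by rw [h, finrank_bot] at hdimD; omega
    obtain ⟨u, hu, hu0⟩ := Submodule.exists_mem_ne_zero_of_ne_bot hne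
    have hlt : ¬ D ≤ F ∙ u := fun h => by
      have := Submodule.finrank_mono h
      rw [finrank_span_singleton hu0] at this; omega
    obtain ⟨w, hw, hwu⟩ := SetLike.not_le_iff_exists.1 hlt
    have huw : B u w = 0 := by
      rw [QuadraticMap.polar, hns _ (D.add_mem hu hw), hns u hu, hns w hw]; ring
    refine ⟨eich u w (hns u hu) huw, fun h => ?_, fun x hx => ?_⟩
    · have hy : ∃ y, B u y ≠ 0 := by
        by_contra hc
        push Not at hc
        exact hu0 (hnd.1 u fun y => hc y)
      obtain ⟨y, hy⟩ := hy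
      have h1 := congrArg (fun k => act k y) h
      simp only [act_eich, act_one, hns w hw, zero_mul, zero_smul, sub_zero] at h1
      rw [add_sub_assoc, add_eq_left, sub_eq_zero] at h1
      rw [QuadraticMap.polar_comm] at hy
      refine hwu (Submodule.mem_span_singleton.2 ⟨(B y u)⁻¹ * B y w, ?_⟩)
      rw [← smul_smul, ← h1, smul_smul, inv_mul_cancel₀ hy, one_smul]
    · exact act_eich_fix _ _ (hperp u hu x hx) (hperp w hw x hx)

open scoped Pointwise in
theorem key [Fintype F] (hF : Fintype.card F = 2) (hm : 4 ≤ m)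
    (H : Sylow 2 (Cfsg.isometryGroup F ⇑(plusQ F m))) (x : Cfsg.isometryGroup F ⇑(plusQ F m)) :
    (H : Subgroup (Cfsg.isometryGroup F ⇑(plusQ F m))) ⊓ MulAut.conj x • (H : Subgroup _) ≠ ⊥ := by
  classical
  have h2 : (2 : F) = 0 := by
    have := FiniteField.cast_card_eq_zero F
    rw [hF] at this; exact_mod_cast this
  have h01 : ∀ a : F, a = 0 ∨ a = 1 := fun a => by
    have := FiniteField.pow_card a
    rw [hF] at this
    rcases eq_or_ne a 0 with h | h
    · exact .inl h
    · exact .inr (mul_left_cancel₀ h (by rw [← sq, this, mul_one]))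
  obtain ⟨P0, hP0⟩ := (fixK_pgroup (m := m) h01 h2 (by omega)).exists_le_sylow
  obtain ⟨g, hg⟩ := MulAction.exists_smul_eq (Cfsg.isometryGroup F ⇑(plusQ F m)) P0 H
  have inH : ∀ h : Cfsg.isometryGroup F ⇑(plusQ F m), (∀ i : Fin m, i.1 + 1 < m → act h (act g (eL i)) = act g (eL i)) →
      h ∈ (H : Subgroup (Cfsg.isometryGroup F ⇑(plusQ F m))) := by
    intro h hh
    rw [← hg, Sylow.coe_subgroup_smul, Subgroup.mem_pointwise_smul_iff_inv_smul_mem]
    refine hP0 fun i hi => ?_
    simp only [MulAut.smul_def, ← map_inv, MulAut.conj_apply, inv_inv]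
    rw [act_mul, act_mul, hh i hi, ← act_mul, inv_mul_cancel, act_one]
  let v : Fin (m - 1) ⊕ Fin (m - 1) → (Fin m ⊕ Fin m → F) :=
    Sum.elim (fun i => act g (eL ⟨i.1, by omega⟩)) (fun i => act (x * g) (eL ⟨i.1, by omega⟩))
  have hm' : 4 ≤ m := hm
  have hS : Module.finrank F (Submodule.span F (Set.range v)) + 2 ≤ 2 * m := by
    have := finrank_range_le_card (R := F) v
    rw [Set.finrank] at this
    simp only [Fintype.card_sum, Fintype.card_fin] at this
    omega
  obtain ⟨h, hne, hfix⟩ := exists_fix_ne_one (by omega) _ hS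
  have hfix' : ∀ j, act h (v j) = v j := fun j => hfix _ (Submodule.subset_span ⟨j, rfl⟩)
  intro hbot
  refine hne (Subgroup.mem_bot.1 (hbot ▸ Subgroup.mem_inf.2 ⟨inH h fun i hi => ?_, ?_⟩))
  · exact hfix' (.inl ⟨i.1, by omega⟩)
  · rw [Subgroup.mem_pointwise_smul_iff_inv_smul_mem]
    refine inH _ fun i hi => ?_
    have := hfix' (.inr ⟨i.1, by omega⟩)
    simp only [v, Sum.elim_inr, act_mul] at this
    simp only [MulAut.smul_def, ← map_inv, MulAut.conj_apply, inv_inv]
    rw [act_mul, act_mul, this, ← act_mul, inv_mul_cancel, act_one]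


/-- Let m ≥ 4 and let G be the full isometry group of the hyperbolic quadratic form x₁y₁ + ⋯ + x_m y_m on the 2m-dimensional space over the field with 2 elements (the orthogonal group O⁺(2m,2), which contains Ω⁺(2m,2) with index 2). Then any two Sylow 2-subgroups of G have a non-trivial intersection: for a Sylow 2-subgroup H and every x ∈ G, H ∩ H^x ≠ 1. -/
theorem result {F : Type*} [Field F] [Fintype F] (hF : Fintype.card F = 2) {m : ℕ} (hm : 4 ≤ m)
    (H : Sylow 2 (Cfsg.isometryGroup F (Cfsg.quadFormPlus m F)))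
    (x : Cfsg.isometryGroup F (Cfsg.quadFormPlus m F)) :
    (H : Subgroup (Cfsg.isometryGroup F (Cfsg.quadFormPlus m F))) ⊓ MulAut.conj x • (H : Subgroup _) ≠ ⊥ := by
  have hQ : ⇑(Cfsg.Agent.Forms.PlusStd.plusQ F m) = Cfsg.quadFormPlus m F :=
    funext (Cfsg.Agent.Forms.PlusStd.plusQ_apply F m)
  revert H x
  rw [← hQ]
  exact fun H x => key hF hm H x

end Cfsg.Agent.S2487
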