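import Cfsg.Statements.S2493
import Cfsg.Agent.SimpleFacts.AltCoverComm.Lift

set_option autoImplicit false
open Cfsg

namespace Cfsg.Agent.S2493

/-- Let n ≥ 5 and let G be a finite perfect group whose centre has order 2 with G/Z(G) isomorphic to the alternating group of degree n (the double cover of the alternating group). Then every element of G is a commutator. -/
theorem result {G : Type*} [Group G] [Finite G] (hperf : commutator G = ⊤) {n : ℕ} (hn : 5 ≤ n)
    (hZ : Nat.card (Subgroup.center G) = 2) (e : G ⧸ Subgroup.center G ≃* alternatingGroup (Fin n))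
    (g : G) :
    ∃ a b : G, a * b * a⁻¹ * b⁻¹ = g := by
  classical
  obtain ⟨m, rfl⟩ : ∃ m, n = m + 2 := ⟨n - 2, by omega⟩
  let φ : G →* Equiv.Perm (Fin (m + 2)) :=
    (alternatingGroup (Fin (m + 2))).subtype.comp (e.toMonoidHom.comp (QuotientGroup.mk' (Subgroup.center G)))
  have hker : φ.ker = Subgroup.center G := by
    ext x
    rw [MonoidHom.mem_ker, ← QuotientGroup.eq_one_iff (N := Subgroup.center G), ← map_eq_one_iff e e.injective]
    exact ⟨fun h => Subtype.ext h, fun h => congrArg Subtype.val h⟩
  have hrange : φ.range = alternatingGroup (Fin (m + 2)) := by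
    ext x
    refine ⟨?_, fun hx => ?_⟩
    · rintro ⟨y, rfl⟩; exact (e (QuotientGroup.mk' (Subgroup.center G) y)).2
    · obtain ⟨y, hy⟩ := QuotientGroup.mk'_surjective (Subgroup.center G) (e.symm ⟨x, hx⟩)
      exact ⟨y, show ((e (QuotientGroup.mk' _ y)) : Equiv.Perm (Fin (m + 2))) = x by rw [hy, e.apply_symm_apply]⟩
  exact SimpleFacts.AltCoverComm.Lift.all_commutators (by omega) φ hrange hker.le (by rw [hker, hZ]) hperf g

end Cfsg.Agent.S2493
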