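import Cfsg.Statements.S2495
import Cfsg.Agent.Lib.CharP.Zsigmondy

set_option autoImplicit false
open Cfsg
open scoped Matrix

namespace Cfsg.Agent.S2495

open Polynomial in
/-- An element commuting with an irreducible element of prime order has its determinant as a field norm. -/
theorem commutant {F : Type*} [Field F] [Fintype F] {n r : ℕ} (hn : 0 < n) (hr : r.Prime)
    (hq : r ∣ Fintype.card F ^ n - 1)
    (hmin : ∀ k, 0 < k → k < n → ¬ r ∣ Fintype.card F ^ k - 1)
    {a x : Matrix (Fin n) (Fin n) F} (ha : a ^ r = 1) (ha1 : a ≠ 1) (hc : Commute x a) :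
    ∃ (p : F[X]) (_ : Irreducible p) (φ : AdjoinRoot p →ₐ[F] Matrix (Fin n) (Fin n) F)
      (k : AdjoinRoot p), Nat.card (AdjoinRoot p) = Fintype.card F ^ n ∧ φ k = x ∧
        Algebra.norm F k = x.det := by
  classical
  haveI := Fact.mk hr
  haveI : NeZero n := ⟨hn.ne'⟩
  obtain ⟨c, hchar⟩ := CharP.exists F
  haveI := hchar
  haveI : Fact c.Prime := ⟨CharP.char_is_prime F c⟩
  obtain ⟨f, -, hf⟩ := FiniteField.card F c
  have hcop : c.Coprime r := by
    refine (Nat.coprime_primes Fact.out hr).2 fun e => ?_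
    have h1 : r ∣ Fintype.card F ^ n := by
      rw [hf, e, ← pow_mul]
      exact dvd_pow_self r (Nat.mul_ne_zero f.pos.ne' hn.ne')
    have h2 : 1 ≤ Fintype.card F ^ n := Nat.one_le_pow _ _ Fintype.card_pos
    have h3 := Nat.dvd_sub h1 hq
    rw [show Fintype.card F ^ n - (Fintype.card F ^ n - 1) = 1 by omega] at h3
    exact hr.ne_one (Nat.dvd_one.1 h3)
  have hpow : ∀ k, ((Fintype.card F : ℕ) : ZMod r) ^ k = 1 ↔ r ∣ Fintype.card F ^ k - 1 := fun k => by
    rw [← ZMod.natCast_eq_zero_iff, Nat.cast_sub (Nat.one_le_pow _ _ Fintype.card_pos), sub_eq_zero,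
      Nat.cast_pow, Nat.cast_one]
  have hord : orderOf ((Fintype.card F : ℕ) : ZMod r) = n :=
    (orderOf_eq_iff hn).2 ⟨(hpow n).2 hq, fun k hk hk0 e => hmin k hk0 hk ((hpow k).1 e)⟩
  have hint : IsIntegral F a := IsIntegral.of_finite F a
  have haeval : aeval a (X ^ r - 1 : F[X]) = 0 := by simp [ha]
  have hdvd : minpoly F a ∣ cyclotomic r F * (X - 1) := by
    rw [cyclotomic_prime_mul_X_sub_one]; exact minpoly.dvd F a haeval
  obtain ⟨p, hp, hp1, hp2⟩ : ∃ p : F[X], Irreducible p ∧ p ∣ minpoly F a ∧ p ∣ cyclotomic r F := by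
    by_contra hno
    push Not at hno
    have hco : IsCoprime (minpoly F a) (cyclotomic r F) :=
      isCoprime_of_irreducible_dvd (fun h => minpoly.ne_zero hint h.1) (fun z hz h1 => hno z hz h1)
    have h3 : aeval a (X - 1 : F[X]) = 0 := (minpoly.dvd_iff).1 (hco.dvd_of_dvd_mul_left hdvd)
    exact ha1 (by simpa [sub_eq_zero] using h3)
  have hdeg : p.natDegree = n := by
    rw [natDegree_of_dvd_cyclotomic_of_irreducible hf hcop hp2 hp, ← orderOf_units,
      ZMod.coe_unitOfCoprime, ← hf, hord]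
  have hpa : aeval a p = 0 := by
    have hle : (minpoly F a).natDegree ≤ p.natDegree := by
      refine (natDegree_le_of_dvd (Matrix.minpoly_dvd_charpoly a) (Matrix.charpoly_monic a).ne_zero).trans ?_
      rw [Matrix.charpoly_natDegree_eq_dim, Fintype.card_fin, hdeg]
    exact minpoly.dvd_iff.1
      (associated_of_dvd_of_natDegree_le hp1 (minpoly.ne_zero hint) hle).symm.dvd
  haveI := Fact.mk hp
  have hI : ∀ y ∈ Ideal.span {p}, aeval a y = 0 := fun y hy => by
    obtain ⟨t, rfl⟩ := Ideal.mem_span_singleton'.1 hy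
    rw [map_mul, hpa, mul_zero]
  let φ : AdjoinRoot p →ₐ[F] Matrix (Fin n) (Fin n) F := Ideal.Quotient.liftₐ _ (aeval a) hI
  have hφmk : ∀ P : F[X], φ (AdjoinRoot.mk p P) = aeval a P := fun P => rfl
  obtain ⟨v0, hv0⟩ := exists_ne (0 : Fin n → F)
  let e : AdjoinRoot p →ₗ[F] (Fin n → F) :=
    { toFun := fun k => φ k *ᵥ v0
      map_add' := fun k l => by rw [map_add, Matrix.add_mulVec]
      map_smul' := fun s k => by rw [map_smul, Matrix.smul_mulVec, RingHom.id_apply] }
  have hinj : Function.Injective e := by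
    rw [← LinearMap.ker_eq_bot, LinearMap.ker_eq_bot']
    intro k hk
    by_contra hk0
    apply hv0
    have h1 : φ k⁻¹ *ᵥ (φ k *ᵥ v0) = v0 := by
      rw [Matrix.mulVec_mulVec, ← map_mul, inv_mul_cancel₀ hk0, map_one, Matrix.one_mulVec]
    rw [show φ k *ᵥ v0 = 0 from hk, Matrix.mulVec_zero] at h1
    exact h1.symm
  have hp0 := hp.ne_zero
  haveI : Module.Finite F (AdjoinRoot p) := (AdjoinRoot.powerBasis hp0).finite
  have hfin : Module.finrank F (AdjoinRoot p) = n := by
    rw [(AdjoinRoot.powerBasis hp0).finrank, AdjoinRoot.powerBasis_dim, hdeg]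
  let ee := LinearEquiv.ofInjectiveOfFinrankEq e hinj (by rw [hfin, Module.finrank_fin_fun])
  have hee : ∀ k, ee k = φ k *ᵥ v0 := fun k => rfl
  have hcomm : ∀ k, Commute x (φ k) := by
    intro k
    obtain ⟨P, rfl⟩ := AdjoinRoot.mk_surjective k
    rw [hφmk]
    induction P using Polynomial.induction_on' with
    | add P Q hP hQ => rw [map_add]; exact hP.add_right hQ
    | monomial i s =>
      rw [aeval_monomial]
      exact (Algebra.commute_algebraMap_right s x).mul_right (hc.pow_right i)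
  refine ⟨p, hp, φ, ee.symm (x *ᵥ v0), ?_, ?_, ?_⟩
  · rw [Module.natCard_eq_pow_finrank (K := F), hfin, Nat.card_eq_fintype_card]
  · apply Matrix.toLin'.injective
    refine LinearMap.ext fun w => ?_
    obtain ⟨k, rfl⟩ := ee.surjective w
    simp only [Matrix.toLin'_apply, hee]
    have h1 : φ (ee.symm (x *ᵥ v0)) *ᵥ v0 = x *ᵥ v0 := by rw [← hee, LinearEquiv.apply_symm_apply]
    rw [Matrix.mulVec_mulVec, Matrix.mulVec_mulVec, ← map_mul, mul_comm, map_mul,
      ← Matrix.mulVec_mulVec, h1, Matrix.mulVec_mulVec, (hcomm k).eq]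
  · rw [Algebra.norm_apply, ← LinearMap.det_toLin' x, ← LinearMap.det_conj _ ee]
    congr 1
    refine LinearMap.ext fun w => ?_
    obtain ⟨k, rfl⟩ := ee.surjective w
    have h1 : φ (ee.symm (x *ᵥ v0)) *ᵥ v0 = x *ᵥ v0 := by rw [← hee, LinearEquiv.apply_symm_apply]
    simp only [LinearMap.comp_apply, LinearEquiv.coe_coe, LinearEquiv.symm_apply_apply]
    simp only [Matrix.toLin'_apply, hee, Algebra.coe_lmul_eq_mul, LinearMap.mul_apply']
    rw [mul_comm, map_mul, ← Matrix.mulVec_mulVec, h1, Matrix.mulVec_mulVec, Matrix.mulVec_mulVec,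
      (hcomm k).eq]

theorem gcd_dvd_half_iff {q m : ℕ} (hq : 1 < q) (hm : 0 < m) :
    Nat.gcd (2 * m) (q - 1) ∣ m ↔ padicValNat 2 (q - 1) < padicValNat 2 (2 * m) := by
  have hq0 : q - 1 ≠ 0 := by omega
  have hv : padicValNat 2 (2 * m) = padicValNat 2 m + 1 := by
    rw [padicValNat.mul (by norm_num) hm.ne', padicValNat_self, add_comm]
  constructor
  · intro h
    by_contra hlt
    push Not at hlt
    have h1 : 2 ^ padicValNat 2 (2 * m) ∣ Nat.gcd (2 * m) (q - 1) :=
      Nat.dvd_gcd pow_padicValNat_dvd ((pow_dvd_pow 2 hlt).trans pow_padicValNat_dvd)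
    have h2 := (padicValNat_dvd_iff_le hm.ne').1 (h1.trans h)
    omega
  · intro h
    have hd0 : Nat.gcd (2 * m) (q - 1) ≠ 0 := (Nat.gcd_pos_of_pos_right _ (by omega)).ne'
    obtain ⟨i, b, hb, hib⟩ := Nat.exists_eq_pow_mul_and_not_dvd hd0 2 (by norm_num)
    have hco : Nat.Coprime 2 b := Nat.prime_two.coprime_iff_not_dvd.2 hb
    have h1 : b ∣ m :=
      hco.symm.dvd_of_dvd_mul_left ((Dvd.intro_left _ hib.symm).trans (Nat.gcd_dvd_left _ _))
    have h2 : i ≤ padicValNat 2 (q - 1) :=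
      (padicValNat_dvd_iff_le hq0).1 ((Dvd.intro _ hib.symm).trans (Nat.gcd_dvd_right _ _))
    rw [hib]
    exact (Nat.Coprime.pow_left i hco).mul_dvd_of_dvd_of_dvd ((padicValNat_dvd_iff_le hm.ne').2 (by omega)) h1

/-- The cofactor `(q^m - 1)/(q - 1)`. -/
theorem cofactor {q m : ℕ} (hq : 1 < q) :
    ∃ A, (q ^ (2 * m) - 1) / (q - 1) = A * (q ^ m + 1) ∧
      ∀ d, d ∣ q - 1 → (d ∣ A ↔ d ∣ m) := by
  refine ⟨∑ i ∈ Finset.range m, q ^ i, ?_, ?_⟩
  · refine Nat.div_eq_of_eq_mul_left (by omega) ?_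
    have h1 : (∑ i ∈ Finset.range m, q ^ i) * (q - 1) = q ^ m - 1 := by
      rw [Nat.geomSum_eq hq, Nat.div_mul_cancel (Nat.sub_one_dvd_pow_sub_one q m)]
    rw [mul_right_comm, h1, mul_comm 2 m, pow_mul, mul_comm, ← Nat.sq_sub_sq]
  · intro d hd
    have h1 : ((q : ℕ) : ZMod d) = 1 := by
      have h := (ZMod.natCast_eq_zero_iff _ d).2 hd
      rwa [Nat.cast_sub hq.le, Nat.cast_one, sub_eq_zero] at h
    rw [← ZMod.natCast_eq_zero_iff, ← ZMod.natCast_eq_zero_iff, Nat.cast_sum]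
    simp [h1]

/-- Let q be an odd prime power, n ≥ 4 even, and L = PSL(n,q). Then L has an element of order q^(n/2) + 1 if and only if the 2-part of n exceeds the 2-part of q − 1. -/
theorem result {F : Type*} [Field F] [Fintype F] {q : ℕ} (hF : Fintype.card F = q) (hodd : Odd q)
    {n : ℕ} (hn : 4 ≤ n) (heven : Even n) :
    (∃ g : Matrix.ProjectiveSpecialLinearGroup (Fin n) F, orderOf g = q ^ (n / 2) + 1) ↔
      padicValNat 2 (q - 1) < padicValNat 2 n := by
  classical
  obtain ⟨m, rfl⟩ := heven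
  rw [← two_mul] at hn ⊢
  rw [Nat.mul_div_cancel_left m (by norm_num : 0 < 2)]
  have hm : 0 < m := by omega
  have hq : 1 < q := hF ▸ Fintype.one_lt_card
  have hq2 : q ≠ 2 := fun e => by rw [e] at hodd; exact absurd hodd (by decide)
  obtain ⟨A, hA, hAd⟩ := cofactor (m := m) hq
  set d := Nat.gcd (2 * m) (q - 1) with hd
  have hd0 : 0 < d := Nat.gcd_pos_of_pos_right _ (by omega)
  have hdF : ∀ c : F, c ^ (2 * m) = 1 → c ^ d = 1 := fun c hc => by
    have hc0 : c ≠ 0 := fun e => by simp [e, zero_pow (show 2 * m ≠ 0 by omega)] at hc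
    exact pow_gcd_eq_one.2 ⟨hc, hF ▸ FiniteField.pow_card_sub_one_eq_one c hc0⟩
  rw [← gcd_dvd_half_iff hq hm, ← hd, ← hAd d (Nat.gcd_dvd_right _ _)]
  constructor
  · rintro ⟨g, hg⟩
    obtain ⟨x, rfl⟩ := QuotientGroup.mk'_surjective
      (Subgroup.center (Matrix.SpecialLinearGroup (Fin (2 * m)) F)) g
    obtain ⟨r, hr, hrn, hrk⟩ := Cfsg.Agent.CharP.Zsigmondy.zsigmondy hq (show 1 < 2 * m by omega)
      (fun h => hq2 h.1) (fun h => by omega)
    have hrm : r ∣ q ^ m + 1 := by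
      rw [mul_comm 2 m, pow_mul, show (q ^ m) ^ 2 - 1 = (q ^ m + 1) * (q ^ m - 1) by
        simpa using Nat.sq_sub_sq (q ^ m) 1] at hrn
      exact (hr.dvd_mul.1 hrn).resolve_right (hrk m hm (by omega))
    have hrx : r ∣ orderOf x := hrm.trans (hg ▸ orderOf_map_dvd _ x)
    set y := x ^ (orderOf x / r) with hy
    have hyo : orderOf y = r := orderOf_pow_orderOf_div (orderOf_pos x).ne' hrx
    have hya : (y : Matrix (Fin (2 * m)) (Fin (2 * m)) F) ^ r = 1 := by
      rw [← Matrix.SpecialLinearGroup.coe_pow, ← hyo, pow_orderOf_eq_one, Matrix.SpecialLinearGroup.coe_one]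
    have hya1 : (y : Matrix (Fin (2 * m)) (Fin (2 * m)) F) ≠ 1 := fun e => by
      rw [show y = 1 from Subtype.ext e, orderOf_one] at hyo
      exact hr.ne_one hyo.symm
    obtain ⟨p, hp, φ, k, hK, hφ, hnorm⟩ := commutant (by omega) hr (hF.symm ▸ hrn) (hF.symm ▸ hrk) hya hya1
      (x := (x : Matrix (Fin (2 * m)) (Fin (2 * m)) F))
      (by rw [hy, Matrix.SpecialLinearGroup.coe_pow]; exact Commute.self_pow _ _)
    haveI := Fact.mk hp
    haveI : Finite (AdjoinRoot p) := Nat.finite_of_card_ne_zero (by rw [hK]; positivity)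
    have hkM : k ^ (A * (q ^ m + 1)) = 1 := by
      rw [← hA]
      have h := FiniteField.algebraMap_norm_eq_pow (K := F) (x := k)
      rw [hnorm, x.prop, map_one, hK, Nat.card_eq_fintype_card, hF] at h
      exact h.symm
    have hdM : d ∣ A * (q ^ m + 1) := by
      rw [← hA]
      have : (((q ^ (2 * m) - 1) / (q - 1) : ℕ) : ZMod d) = 0 := by
        rw [← Nat.geomSum_eq hq, Nat.cast_sum]
        have h1 : ((q : ℕ) : ZMod d) = 1 := by
          have h := (ZMod.natCast_eq_zero_iff _ d).2 (Nat.gcd_dvd_right (2 * m) (q - 1))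
          rwa [Nat.cast_sub hq.le, Nat.cast_one, sub_eq_zero] at h
        have h2 := (ZMod.natCast_eq_zero_iff _ d).2 (Nat.gcd_dvd_left (2 * m) (q - 1))
        simpa [h1] using h2
      exact (ZMod.natCast_eq_zero_iff _ d).1 this
    obtain ⟨M', hM'⟩ := hdM
    obtain ⟨ζ, hζ⟩ : ∃ ζ : F, IsPrimitiveRoot ζ d := by
      obtain ⟨u, hu⟩ := IsCyclic.exists_generator (α := Fˣ)
      have ho : orderOf u = q - 1 := by
        rw [orderOf_eq_card_of_forall_mem_zpowers hu, Nat.card_units, Nat.card_eq_fintype_card, hF]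
      obtain ⟨t, ht⟩ := Nat.gcd_dvd_right (2 * m) (q - 1)
      exact ⟨((u ^ t : Fˣ) : F), IsPrimitiveRoot.coe_units_iff.2
        ((ho ▸ IsPrimitiveRoot.orderOf u).pow (by omega) (by rw [mul_comm]; exact ht))⟩
    haveI : NeZero d := ⟨hd0.ne'⟩
    obtain ⟨i, -, hi⟩ := (hζ.map_of_injective (algebraMap F (AdjoinRoot p)).injective).eq_pow_of_pow_eq_one
      (show (k ^ M') ^ d = 1 by rw [← pow_mul, mul_comm, ← hM', hkM])
    have hcen : x ^ M' ∈ Subgroup.center (Matrix.SpecialLinearGroup (Fin (2 * m)) F) := by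
      refine Matrix.SpecialLinearGroup.mem_center_iff.2 ⟨ζ ^ i, ?_, ?_⟩
      · obtain ⟨t, ht⟩ := Nat.gcd_dvd_left (2 * m) (q - 1)
        rw [Fintype.card_fin, ht, pow_mul, ← pow_mul ζ i, mul_comm i, pow_mul, hζ.pow_eq_one, one_pow, one_pow]
      · rw [Matrix.SpecialLinearGroup.coe_pow, ← hφ, ← map_pow, ← hi, ← map_pow, AlgHom.commutes]
        rfl
    have hdiv : q ^ m + 1 ∣ M' := by
      rw [← hg]
      exact orderOf_dvd_of_pow_eq_one (by rw [← map_pow]; exact (QuotientGroup.eq_one_iff _).2 hcen)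
    have h1 := mul_dvd_mul_left d hdiv
    rw [← hM'] at h1
    exact Nat.dvd_of_mul_dvd_mul_right (by positivity) h1
  · intro hdA
    obtain ⟨c, hchar⟩ := CharP.exists F
    haveI := hchar
    haveI : Fact c.Prime := ⟨CharP.char_is_prime F c⟩
    haveI : NeZero (2 * m) := ⟨by omega⟩
    let K := FiniteField.Extension F c (2 * m)
    have hK : Nat.card K = q ^ (2 * m) := by
      rw [FiniteField.natCard_extension, Nat.card_eq_fintype_card, hF]
    let b : Module.Basis (Fin (2 * m)) F K :=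
      (Module.finBasisOfFinrankEq F K (FiniteField.finrank_extension F c (2 * m)))
    obtain ⟨u, hu⟩ := IsCyclic.exists_generator (α := Kˣ)
    have ho : orderOf u = q ^ (2 * m) - 1 := by
      rw [orderOf_eq_card_of_forall_mem_zpowers hu, Nat.card_units, hK]
    have hdvd := Nat.sub_one_dvd_pow_sub_one q (2 * m)
    have hy : orderOf (u ^ (q - 1)) = A * (q ^ m + 1) := by
      rw [orderOf_pow_of_dvd (by omega) (ho ▸ hdvd), ho, hA]
    set y : K := ((u ^ (q - 1) : Kˣ) : K) with hydef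
    have hyo : orderOf y = A * (q ^ m + 1) := by rw [hydef, orderOf_units, hy]
    have hnorm : Algebra.norm F y = 1 := by
      apply (algebraMap F K).injective
      rw [map_one, FiniteField.algebraMap_norm_eq_pow, hK, Nat.card_eq_fintype_card, hF, hA, ← hyo,
        pow_orderOf_eq_one]
    let x : Matrix.SpecialLinearGroup (Fin (2 * m)) F :=
      ⟨Algebra.leftMulMatrix b y, by rw [← Algebra.norm_eq_matrix_det, hnorm]⟩
    let gx : Matrix.ProjectiveSpecialLinearGroup (Fin (2 * m)) F := QuotientGroup.mk' _ x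
    have hmem : x ^ orderOf gx ∈ Subgroup.center (Matrix.SpecialLinearGroup (Fin (2 * m)) F) := by
      refine (QuotientGroup.eq_one_iff _).1 ?_
      exact (map_pow (QuotientGroup.mk' _) x _).trans (pow_orderOf_eq_one gx)
    obtain ⟨s, hs, hsx⟩ := Matrix.SpecialLinearGroup.mem_center_iff.1 hmem
    rw [Fintype.card_fin] at hs
    have hys : y ^ orderOf gx = algebraMap F K s := by
      apply Algebra.leftMulMatrix_injective b
      rw [map_pow, AlgHom.commutes]
      rw [Matrix.SpecialLinearGroup.coe_pow] at hsx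
      exact hsx.symm
    have h1 : A * (q ^ m + 1) ∣ orderOf gx * d := by
      rw [← hyo]
      exact orderOf_dvd_of_pow_eq_one (by rw [pow_mul, hys, ← map_pow, hdF s hs, map_one])
    obtain ⟨t, rfl⟩ := hdA
    have h2 : q ^ m + 1 ∣ orderOf gx := by
      refine Nat.dvd_of_mul_dvd_mul_left hd0 (Dvd.dvd.trans ?_ (mul_comm (orderOf gx) d ▸ h1))
      exact mul_dvd_mul_right (dvd_mul_right d t) _
    exact ⟨_, orderOf_pow_orderOf_div (orderOf_pos gx).ne' h2⟩

end Cfsg.Agent.S2495
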