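import Cfsg.Statements.S2496
import Cfsg.Agent.S2495
import Cfsg.Agent.Lib.Classical.UnitaryHalfTorus
import Cfsg.Agent.Lib.Classical.UnitaryConj

set_option autoImplicit false
open Cfsg
open scoped Matrix

namespace Cfsg.Agent.S2496

open Cfsg.Agent.Forms Cfsg.Agent.Classical

/-- The target order. -/
def target (q m : ℕ) : ℕ := if Even m then q ^ m + 1 else q ^ m - 1

/-- The cofactor of the target in `(q^(2m) - 1)/(q + 1)`. -/
theorem cofactor {q m : ℕ} (hq : 1 < q) (hodd : Odd q) :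
    ∃ T, (q ^ (2 * m) - 1) / (q + 1) = T * target q m ∧
      ∀ d, d ∣ q + 1 → ((d ∣ T ↔ d ∣ m) ∧ (d ∣ 2 * m → d ∣ T * target q m)) := by
  have key : ∀ l : ℕ, ∃ T k : ℤ, T * ((q : ℤ) + 1) = (q : ℤ) ^ l - (-1) ^ l ∧
      T = (-1) ^ (l + 1) * l + k * ((q : ℤ) + 1) := by
    intro l
    induction l with
    | zero => exact ⟨0, 0, by simp, by simp⟩
    | succ l ih =>
      obtain ⟨T, k, h1, h2⟩ := ih
      refine ⟨(q : ℤ) * T + (-1) ^ l, T - k, ?_, ?_⟩
      · rw [pow_succ, pow_succ]; linear_combination (q : ℤ) * h1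
      · rw [pow_succ, pow_succ] at *
        push_cast
        linear_combination -h2
  obtain ⟨T, k, h1, h2⟩ := key m
  have hqm : (1 : ℤ) ≤ (q : ℤ) ^ m := one_le_pow₀ (by exact_mod_cast hq.le)
  have hT0 : 0 ≤ T := by
    have hs : (-1 : ℤ) ^ m ≤ 1 := by rcases neg_one_pow_eq_or ℤ m with h | h <;> rw [h] <;> norm_num
    nlinarith
  obtain ⟨T', rfl⟩ := Int.eq_ofNat_of_zero_le hT0
  have h4 : T' * (q + 1) * target q m = q ^ (2 * m) - 1 := by
    have h5 : (target q m : ℤ) = (q : ℤ) ^ m + (-1) ^ m := by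
      rw [target]
      split_ifs with he
      · rw [he.neg_one_pow]; push_cast; rfl
      · rw [(Nat.not_even_iff_odd.1 he).neg_one_pow, Nat.cast_sub (Nat.one_le_pow _ _ (by omega))]; push_cast; ring
    zify [Nat.one_le_pow (2 * m) q (by omega)]
    rw [h1, h5, mul_comm 2 m, pow_mul]
    rcases neg_one_pow_eq_or ℤ m with h | h <;> rw [h] <;> ring
  refine ⟨T', ?_, fun d hd => ?_⟩
  · rw [← h4]
    exact Nat.div_eq_of_eq_mul_left (by omega) (by ring)
  · have hiff : d ∣ T' ↔ d ∣ m := by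
      rw [← Int.natCast_dvd_natCast, ← Int.natCast_dvd_natCast (n := m), h2,
        dvd_add_left (dvd_mul_of_dvd_right (by exact_mod_cast hd) _)]
      rcases neg_one_pow_eq_or ℤ (m + 1) with h | h <;> rw [h] <;> simp
    refine ⟨hiff, fun h2m => ?_⟩
    have hev : 2 ∣ target q m := by
      have := Nat.odd_iff.1 (hodd.pow (n := m))
      rw [target]; split_ifs <;> omega
    obtain ⟨t, ht⟩ := hev
    have h3 : (d : ℤ) ∣ 2 * (T' : ℤ) := by
      rw [h2, mul_add]
      refine dvd_add ?_ (dvd_mul_of_dvd_right (dvd_mul_of_dvd_right (by exact_mod_cast hd) _) _)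
      rw [mul_left_comm]
      exact dvd_mul_of_dvd_right (by exact_mod_cast h2m) _
    rw [ht, ← mul_assoc, mul_comm T' 2]
    exact dvd_mul_of_dvd_left (by exact_mod_cast h3) _

theorem scalar_conds {F : Type*} [Field F] [Fintype F] {q n : ℕ} (hn : 0 < n)
    (x : Cfsg.SU n F q) {a : F} (hx : Unitary.mat x = a • (1 : Matrix (Fin n) (Fin n) F)) :
    a ^ n = 1 ∧ a ^ (q + 1) = 1 := by
  constructor
  · have h := (x : Matrix.SpecialLinearGroup (Fin n) F).prop
    rw [show ((x : Matrix.SpecialLinearGroup (Fin n) F) : Matrix (Fin n) (Fin n) F) = a • 1 from hx,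
      Matrix.det_smul, Matrix.det_one, mul_one, Fintype.card_fin] at h
    exact h
  · have h := Unitary.SU_H x (Pi.single ⟨0, hn⟩ 1) (Pi.single ⟨0, hn⟩ 1)
    have he : ∀ c : F, Cfsg.hermForm n F q (c • Pi.single ⟨0, hn⟩ 1) (c • Pi.single ⟨0, hn⟩ 1) =
        c ^ (q + 1) * Cfsg.hermForm n F q (Pi.single ⟨0, hn⟩ 1) (Pi.single ⟨0, hn⟩ 1) := fun c => by
      rw [Unitary.H_smul_left, Unitary.H_smul_right, ← mul_assoc, ← pow_succ']
    rw [hx, Matrix.smul_mulVec, Matrix.one_mulVec, he] at h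
    have h1 : Cfsg.hermForm n F q (Pi.single ⟨0, hn⟩ (1 : F)) (Pi.single ⟨0, hn⟩ 1) = 1 := by
      simp only [Cfsg.hermForm]
      rw [Finset.sum_eq_single ⟨0, hn⟩ (fun i _ hi => by simp [hi]) (by simp)]
      simp
    rwa [h1, mul_one] at h

theorem only_if {F : Type*} [Field F] [Fintype F] {q m : ℕ} (hF : Fintype.card F = q ^ 2) (hodd : Odd q)
    (hm : 2 ≤ m) {g : Cfsg.PSU (2 * m) F q} (hg : orderOf g = target q m) :
    Nat.gcd (2 * m) (q + 1) ∣ m := by
  have hq : 1 < q := HermStd.one_lt_q hF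
  obtain ⟨T, hT, hTd⟩ := cofactor (m := m) hq hodd
  set d := Nat.gcd (2 * m) (q + 1)
  obtain ⟨hTiff, hTN⟩ := hTd d (Nat.gcd_dvd_right _ _)
  obtain ⟨x, rfl⟩ := QuotientGroup.mk'_surjective (Subgroup.center (Cfsg.SU (2 * m) F q)) g
  have hq2 : q ≠ 2 := fun e => by rw [e] at hodd; exact absurd hodd (by decide)
  obtain ⟨r, hr, hrN, hord, hneg⟩ : ∃ r, r.Prime ∧ r ∣ target q m ∧ orderOf ((q : ZMod r) ^ 2) = m ∧
      ∀ i : ℕ, (q : ZMod r) ^ (2 * i) ≠ -(q : ZMod r) := by
    have hpow : ∀ r k, ((q : ℕ) : ZMod r) ^ k = 1 ↔ r ∣ q ^ k - 1 := fun r k => by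
      rw [← ZMod.natCast_eq_zero_iff, Nat.cast_sub (Nat.one_le_pow _ _ (by omega)), sub_eq_zero,
        Nat.cast_pow, Nat.cast_one]
    rcases Nat.even_or_odd m with he | ho
    · obtain ⟨r, hr, hrn, hrk⟩ := Cfsg.Agent.CharP.Zsigmondy.zsigmondy hq (show 1 < 2 * m by omega)
        (fun h => hq2 h.1) (fun h => by omega)
      haveI := Fact.mk hr
      have hordq : orderOf ((q : ℕ) : ZMod r) = 2 * m :=
        (orderOf_eq_iff (by omega)).2 ⟨(hpow r _).2 hrn, fun k hk hk0 e => hrk k hk0 hk ((hpow r k).1 e)⟩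
      have hq0 : ((q : ℕ) : ZMod r) ≠ 0 := fun h => by
        rw [h, orderOf_zero] at hordq; omega
      have hqm : ((q : ℕ) : ZMod r) ^ m = -1 := by
        have h1 : ((q : ℕ) : ZMod r) ^ m * ((q : ℕ) : ZMod r) ^ m = 1 := by
          rw [← pow_add, ← two_mul]; exact (hpow r _).2 hrn
        refine (mul_self_eq_one_iff.1 h1).resolve_left fun e => ?_
        exact hrk m (by omega) (by omega) ((hpow r m).1 e)
      refine ⟨r, hr, ?_, ?_, fun i hi => ?_⟩
      · rw [target, if_pos he, ← ZMod.natCast_eq_zero_iff]; push_cast; rw [hqm]; ring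
      · rw [orderOf_pow_of_dvd two_ne_zero (by rw [hordq]; exact dvd_mul_right 2 m), hordq]; omega
      · have h1 : ((q : ℕ) : ZMod r) ^ (2 * i) = ((q : ℕ) : ZMod r) ^ (m + 1) := by
          rw [hi, pow_succ, hqm]; ring
        have h2 := (IsOfFinOrder.pow_eq_pow_iff_modEq (orderOf_pos_iff.1 (by omega))).1 h1
        rw [hordq] at h2
        have h3 := Nat.ModEq.of_dvd (dvd_mul_right 2 m) h2
        obtain ⟨l, hl⟩ := he
        simp [Nat.ModEq, hl] at h3
        omega
    · have hne2 : m ≠ 2 := fun e => by rw [e] at ho; exact absurd ho (by decide)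
      obtain ⟨r, hr, hrn, hrk⟩ := Cfsg.Agent.CharP.Zsigmondy.zsigmondy hq (show 1 < m by omega)
        (fun h => hq2 h.1) (fun h => hne2 h.1)
      haveI := Fact.mk hr
      have hordq : orderOf ((q : ℕ) : ZMod r) = m :=
        (orderOf_eq_iff (by omega)).2 ⟨(hpow r _).2 hrn, fun k hk hk0 e => hrk k hk0 hk ((hpow r k).1 e)⟩
      refine ⟨r, hr, ?_, ?_, fun i hi => ?_⟩
      · rw [target, if_neg (Nat.not_even_iff_odd.2 ho)]; exact hrn
      · rw [Nat.Coprime.orderOf_pow (by rw [hordq]; exact ho.coprime_two_right), hordq]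
      · have hr2 : r ≠ 2 := fun e => by
          refine hrk 1 one_pos (by omega) ?_
          have := Nat.odd_iff.1 hodd
          rw [e, pow_one]; omega
        have h2 : (-(q : ZMod r)) ^ m = 1 := by
          rw [← hi, pow_right_comm, (hpow r m).2 hrn] <;> simp
        rw [ho.neg_pow, (hpow r m).2 hrn] at h2
        haveI : Fact (2 < r) := ⟨lt_of_le_of_ne hr.two_le (Ne.symm hr2)⟩
        exact ZMod.neg_one_ne_one h2
  haveI := Fact.mk hr
  have hrx : r ∣ orderOf x := hrN.trans (hg ▸ orderOf_map_dvd _ x)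
  set a := x ^ (orderOf x / r) with ha
  have hao : orderOf a = r := orderOf_pow_orderOf_div (orderOf_pos x).ne' hrx
  have hmatpow : ∀ (y : Cfsg.SU (2 * m) F q) (l : ℕ), Unitary.mat (y ^ l) = Unitary.mat y ^ l := fun y l => by
    induction l with
    | zero => rfl
    | succ l ih => rw [pow_succ, pow_succ, Unitary.mat_mul, ih]
  have har : Unitary.mat a ^ r = 1 := by rw [← hmatpow, ← hao, pow_orderOf_eq_one, Unitary.mat_one]
  have ha1 : Unitary.mat a ≠ 1 := fun e => by
    rw [show a = 1 from Subtype.ext (Subtype.ext e), orderOf_one] at hao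
    exact hr.ne_one hao.symm
  obtain ⟨c, hchar⟩ := CharP.exists F
  haveI := hchar
  haveI : Fact c.Prime := ⟨CharP.char_is_prime F c⟩
  obtain ⟨j, hj⟩ : d ∣ (q ^ (2 * m) - 1) / (q + 1) := hT ▸ hTN (Nat.gcd_dvd_left _ _)
  obtain ⟨s, hs⟩ := UnitaryHalfTorus.scalar_power hF rfl hm hr (c := c) hord hneg har ha1
    (x := Unitary.mat x) (by rw [ha, hmatpow]; exact Commute.self_pow _ _) (Unitary.SU_H a) (Unitary.SU_H x)
    (x : Matrix.SpecialLinearGroup (Fin (2 * m)) F).prop (j := j) (d := d) (by rw [hj, mul_comm])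
    (Nat.gcd_dvd_right _ _)
  have hcen : x ^ (j * c) ∈ Subgroup.center (Cfsg.SU (2 * m) F q) :=
    (Unitary.mem_center_iff hF (by omega) _).2 ⟨s, by rw [hmatpow, pow_mul, hs]⟩
  have hdiv : target q m ∣ j * c := by
    rw [← hg]
    exact orderOf_dvd_of_pow_eq_one (by rw [← map_pow]; exact (QuotientGroup.eq_one_iff _).2 hcen)
  have hcop : Nat.Coprime (target q m) c := by
    refine ((Nat.Prime.coprime_iff_not_dvd Fact.out).2 fun h => ?_).symm
    obtain ⟨f, -, hf⟩ := FiniteField.card F c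
    have hcq : c ∣ q ^ m := dvd_pow ((Fact.out : c.Prime).dvd_of_dvd_pow
      (show c ∣ q ^ 2 from hF ▸ hf ▸ dvd_pow_self c f.pos.ne')) (by omega)
    have h1 := Nat.one_le_pow m q (by omega)
    rw [target] at h
    refine (Fact.out : c.Prime).ne_one (Nat.dvd_one.1 ?_)
    split_ifs at h
    · exact (Nat.dvd_add_right hcq).1 h
    · have := Nat.dvd_sub hcq h
      rwa [Nat.sub_sub_self h1] at this
  have h2 := mul_dvd_mul_left d (hcop.dvd_of_dvd_mul_right hdiv)
  rw [← hj, hT] at h2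
  refine hTiff.1 (Nat.dvd_of_mul_dvd_mul_right ?_ h2)
  have h1 := Nat.one_lt_pow (show m ≠ 0 by omega) hq
  rw [target]; split_ifs <;> omega

theorem if_part {F : Type*} [Field F] [Fintype F] {q m : ℕ} (hF : Fintype.card F = q ^ 2) (hodd : Odd q)
    (hm : 2 ≤ m) (hdm : Nat.gcd (2 * m) (q + 1) ∣ m) :
    ∃ g : Cfsg.PSU (2 * m) F q, orderOf g = target q m := by
  classical
  have hq : 1 < q := HermStd.one_lt_q hF
  obtain ⟨T, hT, hTd⟩ := cofactor (m := m) hq hodd
  set d := Nat.gcd (2 * m) (q + 1) with hd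
  obtain ⟨hTiff, -⟩ := hTd d (Nat.gcd_dvd_right _ _)
  obtain ⟨c, hchar⟩ := CharP.exists F
  haveI := hchar
  haveI : Fact c.Prime := ⟨CharP.char_is_prime F c⟩
  haveI : NeZero m := ⟨by omega⟩
  let K := FiniteField.Extension F c m
  have hK : Nat.card K = q ^ (2 * m) := by
    rw [FiniteField.natCard_extension, Nat.card_eq_fintype_card, hF, pow_mul]
  let b : Module.Basis (Fin m) F K := Module.finBasisOfFinrankEq F K (FiniteField.finrank_extension F c m)
  obtain ⟨u, hu⟩ := IsCyclic.exists_generator (α := Kˣ)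
  have ho : orderOf u = q ^ (2 * m) - 1 := by
    rw [orderOf_eq_card_of_forall_mem_zpowers hu, Nat.card_units, hK]
  have hq12 : (q + 1) * (q - 1) = q ^ 2 - 1 := by simpa using (Nat.sq_sub_sq q 1).symm
  have hdvd2 : q ^ 2 - 1 ∣ q ^ (2 * m) - 1 := by rw [pow_mul]; exact Nat.sub_one_dvd_pow_sub_one _ m
  have hdvd : q + 1 ∣ q ^ (2 * m) - 1 := (Dvd.intro _ hq12).trans hdvd2
  set y : K := ((u ^ (q + 1) : Kˣ) : K) with hydef
  have hy : orderOf y = T * target q m := by
    rw [hydef, orderOf_units, orderOf_pow_of_dvd (by omega) (ho ▸ hdvd), ho, hT]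
  set ν := Algebra.norm F y with hνdef
  have hν : ν ^ q = ν := by
    have h1 : ν ^ (q - 1) = 1 := by
      apply (algebraMap F K).injective
      rw [map_pow, map_one, FiniteField.algebraMap_norm_eq_pow, hK, Nat.card_eq_fintype_card, hF, ← pow_mul,
        hydef, ← Units.val_pow_eq_pow_val, ← pow_mul, mul_left_comm, mul_comm, hq12,
        Nat.mul_div_cancel' hdvd2, ← ho, pow_orderOf_eq_one, Units.val_one]
    nth_rewrite 1 [show q = q - 1 + 1 by omega]
    rw [pow_succ, h1, one_mul]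
  have hy0 : y ≠ 0 := Units.ne_zero _
  set A := Algebra.leftMulMatrix b y with hA
  set A' := Algebra.leftMulMatrix b y⁻¹ with hA'
  have hAA : A' * A = 1 := by rw [hA, hA', ← map_mul, inv_mul_cancel₀ hy0, map_one]
  set B := UnitaryConj.adj hF A' with hB
  let e : Fin m ⊕ Fin m ≃ Fin (2 * m) := finSumFinEquiv.trans (finCongr (two_mul m).symm)
  let Φ := Matrix.reindexAlgEquiv F F e
  set M := Φ (Matrix.fromBlocks A 0 0 B) with hM
  set J := Φ (Matrix.fromBlocks 0 1 1 0) with hJ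
  have hadj : ∀ Z, UnitaryConj.adj hF (Φ Z) = Φ (Z.map (HermStd.qHom hF))ᵀ := fun Z => by
    ext i j; rfl
  have hadjb : ∀ P Q R S : Matrix (Fin m) (Fin m) F,
      ((Matrix.fromBlocks P Q R S).map (HermStd.qHom hF))ᵀ = Matrix.fromBlocks (UnitaryConj.adj hF P)
        (UnitaryConj.adj hF R) (UnitaryConj.adj hF Q) (UnitaryConj.adj hF S) := fun P Q R S => by
    rw [Matrix.fromBlocks_map, Matrix.fromBlocks_transpose]; rfl
  have hadj0 : UnitaryConj.adj hF (0 : Matrix (Fin m) (Fin m) F) = 0 := by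
    ext i j; simp [UnitaryConj.adj, show q ≠ 0 by omega]
  have hMJ : UnitaryConj.adj hF M * J * M = J := by
    rw [hM, hJ, hadj, hadjb, hadj0, hB, UnitaryConj.adj_adj, ← map_mul, ← map_mul,
      Matrix.fromBlocks_multiply, Matrix.fromBlocks_multiply]
    simp [hAA, ← UnitaryConj.adj_mul, UnitaryConj.adj_one]
  have hJh : UnitaryConj.adj hF J = J := by
    rw [hJ, hadj, hadjb, hadj0, UnitaryConj.adj_one]
  have hJu : IsUnit J := by
    have h : J * J = 1 := by
      rw [hJ, ← map_mul, Matrix.fromBlocks_multiply]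
      simp [Matrix.fromBlocks_one]
    exact ⟨⟨J, J, h, h⟩, rfl⟩
  obtain ⟨Y, -, hY⟩ := UnitaryConj.exists_root hF J hJu hJh
  set Yi := ((Y⁻¹ : (Matrix (Fin (2 * m)) (Fin (2 * m)) F)ˣ) : Matrix (Fin (2 * m)) (Fin (2 * m)) F) with hYi
  set U := (Y : Matrix (Fin (2 * m)) (Fin (2 * m)) F) * M * Yi with hU
  have hUU : UnitaryConj.adj hF U * U = 1 := by
    have h1 : (Y : Matrix (Fin (2 * m)) (Fin (2 * m)) F) * Yi = 1 := Units.mul_inv Y
    have h2 : UnitaryConj.adj hF Yi * UnitaryConj.adj hF (Y : Matrix (Fin (2 * m)) (Fin (2 * m)) F) = 1 := by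
      rw [← UnitaryConj.adj_mul, h1, UnitaryConj.adj_one]
    calc UnitaryConj.adj hF U * U
        = UnitaryConj.adj hF Yi * (UnitaryConj.adj hF M *
            (UnitaryConj.adj hF (Y : Matrix (Fin (2 * m)) (Fin (2 * m)) F) * Y) * M) * Yi := by
          rw [hU, UnitaryConj.adj_mul, UnitaryConj.adj_mul]; simp only [mul_assoc]
      _ = UnitaryConj.adj hF Yi * UnitaryConj.adj hF (Y : Matrix (Fin (2 * m)) (Fin (2 * m)) F) *
            ((Y : Matrix (Fin (2 * m)) (Fin (2 * m)) F) * Yi) := by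
          rw [hY, hMJ, ← hY]; simp only [mul_assoc]
      _ = 1 := by rw [h1, h2, mul_one]
  have hpres : ∀ v w, Cfsg.hermForm (2 * m) F q (U *ᵥ v) (U *ᵥ w) = Cfsg.hermForm (2 * m) F q v w := by
    refine (Unitary.preserves_iff hF U).2 ?_
    have h := congrArg Matrix.transpose hUU
    rwa [Matrix.transpose_one, Matrix.transpose_mul, UnitaryConj.adj, Matrix.transpose_transpose] at h
  have hνA : A.det = ν := (Algebra.norm_eq_matrix_det b y).symm
  have hν0 : ν ≠ 0 := fun h => hy0 (Algebra.norm_eq_zero_iff.1 h)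
  have hBdet : B.det = ν⁻¹ ^ q := by
    rw [hB, UnitaryConj.adj, Matrix.det_transpose, ← RingHom.mapMatrix_apply, ← RingHom.map_det, hA',
      ← Algebra.norm_eq_matrix_det, show Algebra.norm F y⁻¹ = ν⁻¹ from
        eq_inv_of_mul_eq_one_left (by rw [hνdef, ← map_mul, inv_mul_cancel₀ hy0, map_one]), HermStd.qHom_apply]
  have hdet : U.det = 1 := by
    rw [hU, hYi, Matrix.det_units_conj, hM, Matrix.det_reindexAlgEquiv, Matrix.det_fromBlocks_zero₂₁, hνA,
      hBdet, inv_pow, hν, mul_inv_cancel₀ hν0]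
  let x : Cfsg.SU (2 * m) F q := Unitary.suMk U hdet hpres
  let gx : Cfsg.PSU (2 * m) F q := QuotientGroup.mk' _ x
  have hmem : x ^ orderOf gx ∈ Subgroup.center (Cfsg.SU (2 * m) F q) := by
    refine (QuotientGroup.eq_one_iff _).1 ?_
    exact (map_pow (QuotientGroup.mk' _) x _).trans (pow_orderOf_eq_one gx)
  obtain ⟨a, ha⟩ := (Unitary.mem_center_iff hF (by omega) _).1 hmem
  obtain ⟨han, haq⟩ := scalar_conds (by omega) _ ha
  have hxpow : ∀ l : ℕ, Unitary.mat (x ^ l) = U ^ l := fun l => by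
    induction l with
    | zero => rfl
    | succ l ih => rw [pow_succ, pow_succ, Unitary.mat_mul, ih]; rfl
  rw [hxpow, hU, hYi, Units.conj_pow] at ha
  have hMa : M ^ orderOf gx = a • 1 := by
    have h := congrArg (fun Z => Yi * Z * (Y : Matrix (Fin (2 * m)) (Fin (2 * m)) F)) ha
    simpa [hYi, ← mul_assoc, mul_assoc] using h
  have hblock : Matrix.fromBlocks A 0 0 B ^ orderOf gx = a • 1 :=
    Φ.injective (by rw [map_pow, map_smul, map_one, ← hM, hMa])
  have hpowb : ∀ l : ℕ, Matrix.fromBlocks A 0 0 B ^ l = Matrix.fromBlocks (A ^ l) 0 0 (B ^ l) := fun l => by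
    induction l with
    | zero => simp [Matrix.fromBlocks_one]
    | succ l ih => rw [pow_succ, pow_succ, pow_succ, ih, Matrix.fromBlocks_multiply]; simp
  rw [hpowb, ← Matrix.fromBlocks_one, Matrix.fromBlocks_smul] at hblock
  have hA1 := (Matrix.fromBlocks_inj.1 hblock).1
  have hya : y ^ orderOf gx = algebraMap F K a := by
    apply Algebra.leftMulMatrix_injective b
    rw [map_pow, AlgHom.commutes, ← hA, hA1, Algebra.algebraMap_eq_smul_one]
  have h1 : T * target q m ∣ orderOf gx * d := by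
    rw [← hy]
    exact orderOf_dvd_of_pow_eq_one (by rw [pow_mul, hya, ← map_pow, pow_gcd_eq_one.2 ⟨han, haq⟩, map_one])
  obtain ⟨t, ht⟩ := hTiff.2 hdm
  have h2 : target q m ∣ orderOf gx := by
    refine Nat.dvd_of_mul_dvd_mul_left (Nat.gcd_pos_of_pos_right (2 * m) (show 0 < q + 1 by omega)) ?_
    refine Dvd.dvd.trans ?_ (mul_comm (orderOf gx) d ▸ h1)
    rw [ht]
    exact mul_dvd_mul_right (dvd_mul_right d t) _
  exact ⟨_, orderOf_pow_orderOf_div (orderOf_pos gx).ne' h2⟩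

/-- Let q be an odd prime power, n ≥ 4 even, and U = PSU(n,q) (realised over the field with q² elements). Then U has an element of order q^(n/2) + (−1)^(n/2) — that is, q^(n/2) + 1 when n/2 is even and q^(n/2) − 1 when n/2 is odd — if and only if the 2-part of n exceeds the 2-part of q + 1. -/
theorem result {F : Type*} [Field F] [Fintype F] {q : ℕ} (hF : Fintype.card F = q ^ 2) (hodd : Odd q)
    {n : ℕ} (hn : 4 ≤ n) (heven : Even n) :
    (∃ g : Cfsg.PSU n F q, orderOf g = if Even (n / 2) then q ^ (n / 2) + 1 else q ^ (n / 2) - 1) ↔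
      padicValNat 2 (q + 1) < padicValNat 2 n := by
  obtain ⟨m, rfl⟩ := heven
  rw [← two_mul] at hn ⊢
  rw [Nat.mul_div_cancel_left m (by norm_num : 0 < 2)]
  rw [show padicValNat 2 (q + 1) = padicValNat 2 (q + 2 - 1) from rfl,
    ← Cfsg.Agent.S2495.gcd_dvd_half_iff (by omega) (show 0 < m by omega)]
  exact ⟨fun ⟨g, hg⟩ => only_if hF hodd (by omega) hg, fun h => if_part hF hodd (by omega) h⟩

end Cfsg.Agent.S2496
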