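import Cfsg.Statements.S2500
import Cfsg.Agent.Lib.Classical.NormalCover.G2Even
import Cfsg.Agent.Lib.Classical.NormalCover.Linear
import Cfsg.Agent.Lib.Classical.NormalCover.SympEven
import Cfsg.Agent.Lib.Classical.NormalCover.UnitaryFour
import Cfsg.Agent.Lib.Classical.NormalCover.UnitaryThree
import Cfsg.Agent.Lib.Classical.NormalCover.SympSix

set_option autoImplicit false
open Cfsg

namespace Cfsg.Agent.S2500

open Cfsg.Agent.Classical.NormalCover in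
theorem exists_cubic_extension (F : Type) [Field F] [Fintype F] :
    ∃ (E : Type) (_ : Field E) (_ : Algebra F E) (_ : Finite E), Module.finrank F E = 3 := by
  obtain ⟨p, hp⟩ := CharP.exists F
  haveI := hp
  haveI : Fact p.Prime := ⟨CharP.char_is_prime F p⟩
  haveI : Finite (FiniteField.Extension F p 3) := Module.finite_of_finite F
  exact ⟨FiniteField.Extension F p 3, inferInstance, inferInstance, inferInstance,
    FiniteField.finrank_extension F p 3⟩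

theorem three_eq_zero {F : Type} [Field F] [Fintype F] {a : ℕ} (hc : Fintype.card F = 3 ^ a) : (3 : F) = 0 := by
  have h := FiniteField.cast_card_eq_zero F
  rw [hc, Nat.cast_pow] at h
  exact eq_zero_of_pow_eq_zero (by exact_mod_cast h)

/-- The infinite families of simple groups with normal covering number 2. For a finite field F: each of PSL_2(F) (|F| ≥ 4), PSL_3(F), PSL_4(F), PSU_4 over F (|F| = q²), PSU_3 over F when |F| = q² with q a power of 3, PSp_{2m}(F) for |F| even, m ≥ 2 and (m, |F|) ≠ (2, 2), PSp_6(F) for |F| a power of 3, and G_2(F) (automorphisms of the split octonions) for |F| = 2^a ≥ 4 is the union of the conjugates of two proper subgroups: there are proper subgroups H, K such that every element is conjugate into H or into K. -/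
theorem result {F : Type} [Field F] [Fintype F] :
    (4 ≤ Fintype.card F → (∃ H K : Subgroup (Matrix.ProjectiveSpecialLinearGroup (Fin 2) F), H ≠ ⊤ ∧ K ≠ ⊤ ∧ ∀ g : (Matrix.ProjectiveSpecialLinearGroup (Fin 2) F), ∃ x : (Matrix.ProjectiveSpecialLinearGroup (Fin 2) F), x * g * x⁻¹ ∈ H ∨ x * g * x⁻¹ ∈ K)) ∧
    (∃ H K : Subgroup (Matrix.ProjectiveSpecialLinearGroup (Fin 3) F), H ≠ ⊤ ∧ K ≠ ⊤ ∧ ∀ g : (Matrix.ProjectiveSpecialLinearGroup (Fin 3) F), ∃ x : (Matrix.ProjectiveSpecialLinearGroup (Fin 3) F), x * g * x⁻¹ ∈ H ∨ x * g * x⁻¹ ∈ K) ∧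
    (∃ H K : Subgroup (Matrix.ProjectiveSpecialLinearGroup (Fin 4) F), H ≠ ⊤ ∧ K ≠ ⊤ ∧ ∀ g : (Matrix.ProjectiveSpecialLinearGroup (Fin 4) F), ∃ x : (Matrix.ProjectiveSpecialLinearGroup (Fin 4) F), x * g * x⁻¹ ∈ H ∨ x * g * x⁻¹ ∈ K) ∧
    (∀ q : ℕ, Fintype.card F = q ^ 2 → (∃ H K : Subgroup (Cfsg.PSU 4 F q), H ≠ ⊤ ∧ K ≠ ⊤ ∧ ∀ g : (Cfsg.PSU 4 F q), ∃ x : (Cfsg.PSU 4 F q), x * g * x⁻¹ ∈ H ∨ x * g * x⁻¹ ∈ K)) ∧
    (∀ q a : ℕ, Fintype.card F = q ^ 2 → 1 ≤ a → q = 3 ^ a → (∃ H K : Subgroup (Cfsg.PSU 3 F q), H ≠ ⊤ ∧ K ≠ ⊤ ∧ ∀ g : (Cfsg.PSU 3 F q), ∃ x : (Cfsg.PSU 3 F q), x * g * x⁻¹ ∈ H ∨ x * g * x⁻¹ ∈ K)) ∧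
    (∀ m : ℕ, 2 ≤ m → ¬ Odd (Fintype.card F) → ¬ (m = 2 ∧ Fintype.card F = 2) → (∃ H K : Subgroup (Cfsg.PSp m F), H ≠ ⊤ ∧ K ≠ ⊤ ∧ ∀ g : (Cfsg.PSp m F), ∃ x : (Cfsg.PSp m F), x * g * x⁻¹ ∈ H ∨ x * g * x⁻¹ ∈ K)) ∧
    (∀ a : ℕ, 1 ≤ a → Fintype.card F = 3 ^ a → (∃ H K : Subgroup (Cfsg.PSp 3 F), H ≠ ⊤ ∧ K ≠ ⊤ ∧ ∀ g : (Cfsg.PSp 3 F), ∃ x : (Cfsg.PSp 3 F), x * g * x⁻¹ ∈ H ∨ x * g * x⁻¹ ∈ K)) ∧
    (∀ a : ℕ, 2 ≤ a → Fintype.card F = 2 ^ a → (∃ H K : Subgroup (Cfsg.Lie.G2 F), H ≠ ⊤ ∧ K ≠ ⊤ ∧ ∀ g : (Cfsg.Lie.G2 F), ∃ x : (Cfsg.Lie.G2 F), x * g * x⁻¹ ∈ H ∨ x * g * x⁻¹ ∈ K)) := by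
  refine ⟨fun _ => ?_, ?_, ?_, fun q hq => ?_, fun q a hq _ hqa => ?_, fun m hm hev _ => ?_, fun a _ hc => ?_,
    fun a ha hc => ?_⟩
  · exact Cfsg.Agent.Classical.NormalCover.Linear.coversTwo_linear (Or.inl rfl)
  · exact Cfsg.Agent.Classical.NormalCover.Linear.coversTwo_linear (Or.inr (Or.inl rfl))
  · exact Cfsg.Agent.Classical.NormalCover.Linear.coversTwo_linear (Or.inr (Or.inr rfl))
  · exact Cfsg.Agent.Classical.NormalCover.UFour.coversTwo_PSU4 hq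
  · obtain ⟨E, _, _, _, hE⟩ := exists_cubic_extension F
    exact Cfsg.Agent.Classical.NormalCover.UThree.coversTwo_PSU3 hq hE
      (three_eq_zero (a := a * 2) (by rw [hq, hqa, pow_mul]))
  · refine Cfsg.Agent.Classical.NormalCover.coversTwo_symp_even ?_ hm
    have h := FiniteField.even_card_iff_char_two.2 (by
      rw [Nat.not_odd_iff] at hev; exact hev)
    have h2 := ringChar.Nat.cast_ringChar (R := F)
    rw [h] at h2
    exact_mod_cast h2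
  · obtain ⟨E, _, _, _, hE⟩ := exists_cubic_extension F
    exact Cfsg.Agent.Classical.NormalCover.SympSix.coversTwo_PSp6 hE (three_eq_zero hc)
  · refine Cfsg.Agent.Classical.NormalCover.GTwo.coversTwo_G2_even ?_ ?_
    · have h := FiniteField.cast_card_eq_zero F
      rw [hc, Nat.cast_pow] at h
      exact eq_zero_of_pow_eq_zero (by exact_mod_cast h)
    · rw [hc]
      calc 2 < 2 ^ 2 := by norm_num
        _ ≤ 2 ^ a := Nat.pow_le_pow_right (by norm_num) ha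

end Cfsg.Agent.S2500
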