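import Cfsg.Statements.S2503
import Mathlib
import Cfsg.Agent.Lib.GL2.PSLClassSizes

set_option autoImplicit false
open Cfsg Matrix
open scoped MatrixGroups
open Cfsg.Agent.GL2 Classes Counts PSLProducts PSLClassSizes

namespace Cfsg.Agent.S2503

theorem center_trivial {F : Type*} [Field F] [CharP F 2] (g : SL(2, F))
    (hg : g ∈ Subgroup.center SL(2, F)) : g = 1 := by
  obtain ⟨c, hc2, hc⟩ := isScalar_SL ((mem_center_iff g).1 hg)
  refine Subtype.ext ?_
  rw [hc, CharTwo.sq_inj.1 (hc2.trans (one_pow 2).symm), one_smul]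
  rfl

/-- Let F be a finite field with q = 2^t ≥ 4 elements and L = PSL(2,F). Then L has a cyclic subgroup A of order q + 1 and an elementary abelian 2-subgroup B of order q such that L = ABA: every element of L is a product a·b·a' with a, a' ∈ A and b ∈ B. -/
theorem result {F : Type*} [Field F] [Fintype F]
    (h2 : 2 ∣ Fintype.card F) (h4 : 4 ≤ Fintype.card F) :
    ∃ A B : Subgroup (Matrix.ProjectiveSpecialLinearGroup (Fin 2) F),
      IsCyclic A ∧ Nat.card A = Fintype.card F + 1 ∧ IsMulCommutative B ∧ (∀ b ∈ B, b * b = 1) ∧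
        Nat.card B = Fintype.card F ∧
        ∀ g : Matrix.ProjectiveSpecialLinearGroup (Fin 2) F, ∃ a ∈ A, ∃ b ∈ B, ∃ c ∈ A, g = a * b * c := by
  classical
  haveI : CharP F 2 := by
    obtain ⟨p, hp⟩ := CharP.exists F
    obtain ⟨k, hpp, hk⟩ := FiniteField.card F p
    have hp2 : 2 ∣ p := Nat.prime_two.dvd_of_dvd_pow (hk ▸ h2)
    rwa [← ((Nat.prime_dvd_prime_iff_eq Nat.prime_two hpp).1 hp2)] at hp
  have htwo : (2 : F) = 0 := CharTwo.two_eq_zero
  have hneg : ∀ a : F, -a = a := CharTwo.neg_eq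
  obtain ⟨s, hs0, hs⟩ := exists_elliptic_trace (F := F) h4
  haveI : Fact (∀ r : F, r ^ 2 ≠ (-1 : F) + s * r) := ⟨fun r hr => hs r (by linear_combination hr)⟩
  set T := (Classical.Torus.torusHom (F := F) (A := (-1 : F)) (B := s)).range with hT
  have hTcard : Nat.card T = Fintype.card F + 1 := by
    rw [hT, ← Nat.card_congr (MonoidHom.ofInjective Classical.Torus.torusHom_injective).toEquiv,
      Classical.Torus.natCard_normOne]
  have hTcyc : IsCyclic T := isCyclic_of_surjective _ (MonoidHom.rangeRestrict_surjective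
    (Classical.Torus.torusHom (F := F) (A := (-1 : F)) (B := s)))
  set W : Matrix (Fin 2) (Fin 2) F := !![0, 1; 1, s] with hW
  have hTform : ∀ a ∈ T, ∃ α β : F, (a : Matrix (Fin 2) (Fin 2) F) = α • 1 + β • W ∧
      (β = 0 → a = 1) := by
    rintro _ ⟨z, rfl⟩
    set w := ((z.1 : (QuadraticAlgebra F (-1) s)ˣ) : QuadraticAlgebra F (-1) s) with hw
    refine ⟨w.re, w.im, ?_, fun h0 => ?_⟩
    · rw [Classical.Torus.coe_torusHom, Classical.Torus.mulMat_apply, ← hw]
      ext i j
      fin_cases i <;> fin_cases j <;> simp [hW, hneg, mul_comm]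
    · have hn := Classical.Torus.mem_normOne.1 z.2
      rw [QuadraticAlgebra.norm_def, ← hw, h0] at hn
      have hre : w.re = 1 := CharTwo.sq_inj.1 (by linear_combination hn)
      rw [show z = 1 from Subtype.ext (Units.ext (QuadraticAlgebra.ext
        (hre.trans QuadraticAlgebra.re_one.symm) (h0.trans QuadraticAlgebra.im_one.symm))), map_one]
  have hTW : ∀ a ∈ T, W * (a : Matrix (Fin 2) (Fin 2) F) = (a : Matrix (Fin 2) (Fin 2) F) * W := by
    intro a ha
    obtain ⟨α, β, e, -⟩ := hTform a ha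
    rw [e]
    simp [Matrix.mul_add, Matrix.add_mul]
  let f : SL(2, F) → F := fun g =>
    (W * (g : Matrix (Fin 2) (Fin 2) F) * W * ((g⁻¹ : SL(2, F)) : Matrix (Fin 2) (Fin 2) F)).trace
  have hfl : ∀ a ∈ T, ∀ g, f (a * g) = f g := by
    intro a ha g
    simp only [f, _root_.mul_inv_rev, Matrix.SpecialLinearGroup.coe_mul]
    rw [← Matrix.mul_assoc _ _ ((a⁻¹ : SL(2, F)) : Matrix (Fin 2) (Fin 2) F), Matrix.trace_mul_comm]
    congr 1
    simp only [← Matrix.mul_assoc]
    rw [← hTW _ (T.inv_mem ha)]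
    simp only [Matrix.mul_assoc]
    congr 1
    rw [← Matrix.mul_assoc, ← Matrix.SpecialLinearGroup.coe_mul, inv_mul_cancel,
      Matrix.SpecialLinearGroup.coe_one, Matrix.one_mul]
  have hfr : ∀ a ∈ T, ∀ g, f (g * a) = f g := by
    intro a ha g
    simp only [f, _root_.mul_inv_rev, Matrix.SpecialLinearGroup.coe_mul]
    congr 1
    simp only [Matrix.mul_assoc]
    rw [← Matrix.mul_assoc (a : Matrix (Fin 2) (Fin 2) F) W, ← hTW a ha, Matrix.mul_assoc W,
      ← Matrix.mul_assoc (a : Matrix (Fin 2) (Fin 2) F), ← Matrix.SpecialLinearGroup.coe_mul,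
      mul_inv_cancel, Matrix.SpecialLinearGroup.coe_one, Matrix.one_mul]
  have hfu : ∀ x : F, f (Classical.GL2.uniSL x) = (x + s) ^ 2 := by
    intro x
    simp only [f, Classical.GL2.uniSL_inv, Classical.GL2.coe_uniSL]
    simp [hW, trace_fin_two, Matrix.mul_apply, Fin.sum_univ_two, hneg, CharTwo.add_sq]
    linear_combination (1 + x * s) * htwo
  have hinter : ∀ x : F, x ≠ 0 → x ≠ s → ∀ a ∈ T,
      Classical.GL2.uniSL x * a * (Classical.GL2.uniSL x)⁻¹ ∈ T → a = 1 := by
    intro x hx0 hxs a ha hmem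
    obtain ⟨α, β, e, hβ⟩ := hTform a ha
    refine hβ (by_contra fun hb => ?_)
    have hc := hTW _ hmem
    simp only [Matrix.SpecialLinearGroup.coe_mul, Classical.GL2.uniSL_inv, Classical.GL2.coe_uniSL, e] at hc
    have h00 := congrFun (congrFun hc 0) 0
    simp [hW, Matrix.mul_apply, Matrix.vecMul, dotProduct, Matrix.add_apply, Fin.sum_univ_two, hneg] at h00
    have h' : β * (x * (x + s)) = 0 := by first | linear_combination h00 + (x * α + β * x * s + β * x ^ 2) * htwo | linear_combination h00 - (2 * β + 3 * β * x * s + 3 * β * x ^ 2 + x * α) * htwo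
    rcases mul_eq_zero.1 h' with e' | e'
    · exact hb e'
    · rcases mul_eq_zero.1 e' with e'' | e''
      · exact hx0 e''
      · exact hxs (by rw [eq_neg_of_add_eq_zero_left e'', hneg])
  let φ : (Fin 2 × T) ⊕ ({x : F // x ≠ 0 ∧ x ≠ s} × T × T) → SL(2, F) := fun u => match u with
    | Sum.inl (i, a) => Classical.GL2.uniSL (if i = 0 then 0 else s) * (a : SL(2, F))
    | Sum.inr (x, a, c) => (a : SL(2, F)) * Classical.GL2.uniSL x.1 * (c : SL(2, F))
  have hφ : Function.Injective φ := by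
    rintro (⟨i, a⟩ | ⟨x, a, c⟩) (⟨j, b⟩ | ⟨y, b, d⟩) h <;> have hf := congrArg f h <;>
      simp only [φ, hfr _ (SetLike.coe_mem _), hfl _ (SetLike.coe_mem _), hfu] at hf h <;>
      replace hf := add_right_cancel (CharTwo.sq_inj.1 hf)
    · have hij : i = j := by
        fin_cases i <;> fin_cases j <;> simp [hs0, Ne.symm hs0] at hf ⊢
      subst hij
      rw [Subtype.ext (mul_left_cancel h)]
    · exfalso
      split_ifs at hf
      · exact y.2.1 hf.symm
      · exact y.2.2 hf.symm
    · exfalso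
      split_ifs at hf
      · exact x.2.1 hf
      · exact x.2.2 hf
    · obtain rfl : x = y := Subtype.ext hf
      have hm : Classical.GL2.uniSL x.1 * ((c : SL(2, F)) * (d : SL(2, F))⁻¹) *
          (Classical.GL2.uniSL x.1)⁻¹ = (a : SL(2, F))⁻¹ * (b : SL(2, F)) := by
        have e1 : Classical.GL2.uniSL x.1 * (c : SL(2, F)) =
            (a : SL(2, F))⁻¹ * ((b : SL(2, F)) * Classical.GL2.uniSL x.1 * (d : SL(2, F))) := by
          rw [← h]; group
        rw [← mul_assoc, e1]; group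
      have hcd : c = d := Subtype.ext (mul_inv_eq_one.1 (hinter x.1 x.2.1 x.2.2 _
        (T.mul_mem c.2 (T.inv_mem d.2)) (hm ▸ T.mul_mem (T.inv_mem a.2) b.2)))
      subst hcd
      rw [Subtype.ext (mul_right_cancel (mul_right_cancel h))]
  have hsurj : Function.Surjective φ := by
    haveI := Fintype.ofFinite T
    refine (hφ.bijective_of_nat_card_le (le_of_eq ?_)).2
    rw [Classical.GL2.natCard_SL_two, Nat.card_sum, Nat.card_prod, Nat.card_prod, Nat.card_prod,
      hTcard, Nat.card_eq_fintype_card, Fintype.card_fin, Nat.card_eq_fintype_card,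
      Fintype.card_subtype,
      show (Finset.univ.filter fun x : F => x ≠ 0 ∧ x ≠ s) = Finset.univ \ {0, s} by ext; simp,
      Finset.card_sdiff, Finset.inter_univ, Finset.card_pair (Ne.symm hs0), Finset.card_univ]
    obtain ⟨r, hr⟩ : ∃ r, Fintype.card F = r + 2 := ⟨Fintype.card F - 2, by omega⟩
    rw [hr, Nat.add_sub_cancel, show r + 2 - 1 = r + 1 by omega]
    ring
  let U : Subgroup SL(2, F) := (Classical.GL2.uniHom F).range
  have hmk : Function.Injective (QuotientGroup.mk' (Subgroup.center SL(2, F))) := by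
    rw [← MonoidHom.ker_eq_bot_iff, QuotientGroup.ker_mk', Subgroup.eq_bot_iff_forall]
    exact center_trivial
  refine ⟨T.map (QuotientGroup.mk' _), U.map (QuotientGroup.mk' _),
    isCyclic_of_surjective _ (T.equivMapOfInjective _ hmk).surjective,
    (Subgroup.card_map_of_injective hmk).trans hTcard, ⟨⟨?_⟩⟩, ?_, ?_, ?_⟩
  · rintro ⟨_, _, ⟨x, rfl⟩, rfl⟩ ⟨_, _, ⟨y, rfl⟩, rfl⟩
    refine Subtype.ext ?_
    simp only [Subgroup.coe_mul]
    rw [← map_mul, ← map_mul, ← map_mul, ← map_mul, mul_comm x y]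
  · rintro _ ⟨_, ⟨x, rfl⟩, rfl⟩
    rw [← map_mul, ← map_mul, show x * x = 1 from Multiplicative.toAdd.injective
      (by rw [toAdd_mul, toAdd_one]; exact CharTwo.add_self_eq_zero _), map_one, map_one]
  · rw [Subgroup.card_map_of_injective hmk, ← Nat.card_congr
      (MonoidHom.ofInjective (Classical.GL2.uniHom_injective (F := F))).toEquiv]
    exact (Nat.card_congr Multiplicative.toAdd).trans Nat.card_eq_fintype_card
  · intro g
    obtain ⟨g, rfl⟩ := QuotientGroup.mk'_surjective _ g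
    obtain ⟨u, rfl⟩ := hsurj g
    have hU : ∀ x : F, QuotientGroup.mk' (Subgroup.center SL(2, F)) (Classical.GL2.uniSL x) ∈
        U.map (QuotientGroup.mk' _) := fun x => ⟨_, ⟨Multiplicative.ofAdd x, rfl⟩, rfl⟩
    rcases u with ⟨i, a⟩ | ⟨x, a, c⟩
    · exact ⟨1, Subgroup.one_mem _, _, hU (if i = 0 then 0 else s), _, ⟨a, a.2, rfl⟩, by simp [φ]⟩
    · exact ⟨_, ⟨a, a.2, rfl⟩, _, hU x.1, _, ⟨c, c.2, rfl⟩, by simp [φ]⟩

end Cfsg.Agent.S2503
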