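import Cfsg.Statements.S2504
import Mathlib
import Cfsg.Agent.Lib.Perm.AbelianEven.Bound
-- import your own Cfsg.Agent.* helpers here

set_option autoImplicit false
open Cfsg

namespace Cfsg.Agent.S2504

/-- The largest order of an abelian subgroup of the alternating group of degree n is 3^k when n = 3k, 4·3^(k−1) when n = 3k + 1, and 16·3^(k−2) when n = 3k + 2, for every k ≥ 2 (so for all degrees n ≥ 6). -/
theorem result (k : ℕ) (hk : 2 ≤ k) :
    IsGreatest {c : ℕ | ∃ A : Subgroup (alternatingGroup (Fin (3 * k))), IsMulCommutative A ∧ Nat.card A = c} (3 ^ k) ∧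
    IsGreatest {c : ℕ | ∃ A : Subgroup (alternatingGroup (Fin (3 * k + 1))), IsMulCommutative A ∧ Nat.card A = c}
      (4 * 3 ^ (k - 1)) ∧
    IsGreatest {c : ℕ | ∃ A : Subgroup (alternatingGroup (Fin (3 * k + 2))), IsMulCommutative A ∧ Nat.card A = c}
      (16 * 3 ^ (k - 2)) := by
  obtain ⟨i, rfl⟩ : ∃ i, k = i + 2 := ⟨k - 2, by omega⟩
  refine ⟨?_, ?_, ?_⟩
  · rw [← Perm.AbelianEven.bd_three (i + 2) (by omega)]
    exact Perm.AbelianEven.isGreatest_alt _ (by omega)
  · rw [show 4 * 3 ^ (i + 2 - 1) = Perm.AbelianEven.bd (3 * (i + 1) + 4) by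
      rw [Perm.AbelianEven.bd_four]; rfl, show 3 * (i + 1) + 4 = 3 * (i + 2) + 1 by ring]
    exact Perm.AbelianEven.isGreatest_alt _ (by omega)
  · rw [show 16 * 3 ^ (i + 2 - 2) = Perm.AbelianEven.bd (3 * i + 8) by
      rw [Perm.AbelianEven.bd_eight, Nat.add_sub_cancel], show 3 * i + 8 = 3 * (i + 2) + 2 by ring]
    exact Perm.AbelianEven.isGreatest_alt _ (by omega)

end Cfsg.Agent.S2504
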