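import Cfsg.Statements.S2506
import Mathlib
import Cfsg.Agent.Lib.Perm.AbelianEven.Unique
-- import your own Cfsg.Agent.* helpers here

set_option autoImplicit false
open scoped Pointwise
open Cfsg

namespace Cfsg.Agent.S2506

/-- In the alternating group of any degree, any two abelian subgroups of the largest possible order (among abelian subgroups) are conjugate. -/
theorem result (n : ℕ)
    (A B : Subgroup (alternatingGroup (Fin n))) (hA : IsMulCommutative A) (hB : IsMulCommutative B)
    (hAmax : ∀ C : Subgroup (alternatingGroup (Fin n)), IsMulCommutative C → Nat.card C ≤ Nat.card A)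
    (hBmax : ∀ C : Subgroup (alternatingGroup (Fin n)), IsMulCommutative C → Nat.card C ≤ Nat.card B) :
    ∃ g : alternatingGroup (Fin n), B = MulAut.conj g • A := by
  classical
  by_cases hn : n ≤ 2
  · haveI : Subsingleton (alternatingGroup (Fin n)) := by
      rw [← Finite.card_le_one_iff_subsingleton]
      interval_cases n <;> simp [Nat.card_eq_fintype_card] <;> decide
    exact ⟨1, Subsingleton.elim _ _⟩
  obtain ⟨⟨C, hC, hCc⟩, hub⟩ := Perm.AbelianEven.isGreatest_alt n (by omega)
  have hA' : Nat.card A = Perm.AbelianEven.bd n := le_antisymm (hub ⟨A, hA, rfl⟩) (hCc ▸ hAmax C hC)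
  have hB' : Nat.card B = Perm.AbelianEven.bd n := le_antisymm (hub ⟨B, hB, rfl⟩) (hCc ▸ hBmax C hC)
  by_cases h5 : n = 5
  · subst h5
    haveI : Fact (Nat.Prime 5) := ⟨by norm_num⟩
    have hG : Nat.card (alternatingGroup (Fin 5)) = 60 := by
      rw [nat_card_alternatingGroup, Nat.card_fin]; rfl
    have hf : 5 ^ (Nat.card (alternatingGroup (Fin 5))).factorization 5 = 5 := by
      rw [hG, Nat.factorization_def 60 (show Nat.Prime 5 by norm_num),
        show (60 : ℕ) = 5 * 12 from rfl, padicValNat.mul (by norm_num) (by norm_num),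
        padicValNat_self, padicValNat.eq_zero_of_not_dvd (show ¬ 5 ∣ 12 by norm_num), add_zero,
        pow_one]
    let P := Sylow.ofCard A (by rw [hf, hA']; rfl)
    let Q := Sylow.ofCard B (by rw [hf, hB']; rfl)
    obtain ⟨g, hg⟩ := MulAction.exists_smul_eq (alternatingGroup (Fin 5)) P Q
    have e := congrArg (fun R : Sylow 5 (alternatingGroup (Fin 5)) => R.toSubgroup) hg
    exact ⟨g, e.symm⟩
  obtain ⟨a1, a2, a3⟩ := Perm.AbelianEven.alt_image A hA
  obtain ⟨b1, b2, b3⟩ := Perm.AbelianEven.alt_image B hB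
  obtain ⟨π, hs, hπ⟩ := Perm.AbelianEven.exists_conj
    (A := A.map (alternatingGroup (Fin n)).subtype) (B := B.map (alternatingGroup (Fin n)).subtype)
    ⟨a1, a2, by rw [a3, hA', Fintype.card_fin]⟩ ⟨b1, b2, by rw [b3, hB', Fintype.card_fin]⟩
    (by rw [Fintype.card_fin]; omega) (by rw [Fintype.card_fin]; exact h5)
  refine ⟨⟨π, Equiv.Perm.mem_alternatingGroup.2 hs⟩,
    Subgroup.map_injective (alternatingGroup (Fin n)).subtype_injective ?_⟩
  rw [← hπ, Subgroup.map_map, Subgroup.pointwise_smul_def]
  refine Eq.trans ?_ (Subgroup.map_map A _ _).symm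
  rfl

end Cfsg.Agent.S2506
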