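import Cfsg.Statements.S2510
import Cfsg.Agent.KnownSimple.Spectrum

set_option autoImplicit false
open Cfsg

namespace Cfsg.Agent.S2510

open Cfsg.Agent.KnownSimple.Spectrum Matrix Polynomial

/-- Every order either extends by `r`, or divides the lcm of a fixed Singer order and any common
multiple `W` of the `p`-parts of the orders. -/
theorem dichotomy {F : Type*} [Field F] [Fintype F] (p a n r : ℕ) (hp : p.Prime)
    (hF : Fintype.card F = p ^ a) (hn : 2 ≤ n) (hr : r.Prime) (hrq : r ∣ Fintype.card F - 1)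
    (hrn : ¬ r ∣ n) :
    ∃ (S : ProjectiveSpecialLinearGroup (Fin n) F), ∀ (W : ℕ),
      (∀ y : ProjectiveSpecialLinearGroup (Fin n) F, p ^ (orderOf y).factorization p ∣ W) →
      ∀ x : ProjectiveSpecialLinearGroup (Fin n) F,
        (∃ x' : ProjectiveSpecialLinearGroup (Fin n) F, orderOf x ∣ orderOf x' ∧ r ∣ orderOf x') ∨
        orderOf x ∣ Nat.lcm (orderOf S) W := by
  have : CharP F p := charP_of_card hp hF
  obtain ⟨S, hS⟩ := exists_singer (F := F) (n := n) hp (by omega)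
  refine ⟨S, fun W hW x => ?_⟩
  by_cases hrx : r ∣ orderOf x
  · exact Or.inl ⟨x, dvd_rfl, hrx⟩
  obtain ⟨g, rfl⟩ := QuotientGroup.mk_surjective x
  rcases split_or_local g (by omega) with ⟨e, he, he0, he1, hec⟩ | ⟨f, hf, j, hj⟩
  · obtain ⟨h, hh, hgh⟩ := exists_commute_orderOf hr hrq hrn g e he he0 he1 hec
    refine Or.inl ⟨QuotientGroup.mk g * h, ?_⟩
    rw [hgh.orderOf_mul_eq_mul_orderOf_of_coprime, hh]
    · exact ⟨dvd_mul_right _ _, dvd_mul_left _ _⟩
    · rw [hh]
      exact (hr.coprime_iff_not_dvd.2 hrx).symm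
  · have h1 := hS g f j hf hj
    rw [hF, ← pow_mul] at h1
    exact Or.inr (dvd_lcm_of_dvd_pow_mul hp (orderOf_pos _).ne' h1 (hW _))

/-- An element of order `r`. -/
theorem exists_r {F : Type*} [Field F] [Fintype F] (n r : ℕ) (hn : 2 ≤ n) (hr : r.Prime)
    (hrq : r ∣ Fintype.card F - 1) (hrn : ¬ r ∣ n) :
    ∃ v : ProjectiveSpecialLinearGroup (Fin n) F, orderOf v = r := by
  let e : Matrix (Fin n) (Fin n) F := Matrix.diagonal fun i => if i.val = 0 then 1 else 0
  obtain ⟨h, hh, -⟩ := exists_commute_orderOf (n := n) hr hrq hrn 1 e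
    (by simp [e, Matrix.diagonal_mul_diagonal])
    (fun h => by simpa [e] using congrFun (congrFun h ⟨0, by omega⟩) ⟨0, by omega⟩)
    (fun h => by simpa [e] using congrFun (congrFun h ⟨1, by omega⟩) ⟨1, by omega⟩) (by simp)
  exact ⟨h, hh⟩

/-- An element whose order is `r` times the largest power of `p` among element orders. -/
theorem exists_pr {F : Type*} [Field F] [Fintype F] (p a n r : ℕ) (hp : p.Prime)
    (ha : 1 ≤ a) (hF : Fintype.card F = p ^ a) (hn : 2 ≤ n) (hr : r.Prime)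
    (hrq : r ∣ Fintype.card F - 1) (hrn : ¬ r ∣ n) (hnp : ¬ ∃ j : ℕ, n - 1 = p ^ j) :
    ∃ x : ProjectiveSpecialLinearGroup (Fin n) F, r ∣ orderOf x ∧
      ∀ y : ProjectiveSpecialLinearGroup (Fin n) F, p ^ (orderOf y).factorization p ∣ orderOf x := by
  classical
  have : CharP F p := charP_of_card hp hF
  have : Fact p.Prime := ⟨hp⟩
  have : Fact r.Prime := ⟨hr⟩
  have : Nonempty (Fin n) := ⟨⟨0, by omega⟩⟩
  obtain ⟨c, he⟩ : ∃ c, Nat.clog p n = c + 1 :=
    ⟨Nat.clog p n - 1, by have := Nat.clog_pos hp.one_lt hn; omega⟩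
  have he1 : n ≤ p ^ (c + 1) := he ▸ Nat.le_pow_clog hp.one_lt n
  have he2 : p ^ c + 2 ≤ n := by
    have h1 := Nat.pow_pred_clog_lt_self hp.one_lt (x := n) (by omega)
    rw [he] at h1
    have h2 : n - 1 ≠ p ^ c := fun h => hnp ⟨_, h⟩
    simp only [Nat.pred_eq_sub_one, Nat.add_sub_cancel] at h1
    omega
  let N : Matrix (Fin n) (Fin n) F := Matrix.of fun i j =>
    if i.val + 1 = j.val ∧ j.val + 1 < n then 1 else 0
  have htri : N.BlockTriangular id := fun i j hij => by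
    have : j.val < i.val := hij
    simp [N]; omega
  have hdiag : ∀ i, N i i = 0 := fun i => by simp [N]
  have hNn : N ^ n = 0 := by
    have h := Matrix.aeval_self_charpoly N
    rw [Matrix.charpoly_of_upperTriangular N htri] at h
    simpa [hdiag] using h
  let u : SpecialLinearGroup (Fin n) F := ⟨1 + N, by
    rw [Matrix.det_of_upperTriangular]
    · simp [hdiag]
    · exact Matrix.blockTriangular_one.add htri⟩
  have hupow : ∀ k : ℕ, (u : Matrix (Fin n) (Fin n) F) ^ p ^ k = 1 + N ^ p ^ k := fun k => by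
    change (1 + N) ^ p ^ k = _
    rw [add_pow_char_pow_of_commute (p := p) (h := Commute.one_left N), one_pow]
  have hshift : ∀ k : ℕ, k + 2 ≤ n → ∀ hk : k < n,
      (N ^ k) ⟨0, by omega⟩ ⟨k, hk⟩ = 1 := by
    intro k
    induction k with
    | zero => intro _ _; simp
    | succ k ih =>
      intro hk2 hk
      rw [pow_succ, Matrix.mul_apply, Finset.sum_eq_single (⟨k, by omega⟩ : Fin n)]
      · rw [ih (by omega)]
        simp [N]; omega
      · intro b _ hb
        have : b.val ≠ k := fun h => hb (Fin.ext h)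
        simp [N, this]
      · simp
  set U := (QuotientGroup.mk u : ProjectiveSpecialLinearGroup (Fin n) F) with hU
  have hUord : orderOf U = p ^ (c + 1) := by
    refine orderOf_eq_prime_pow ?_ ?_
    · rw [hU, mk_pow_eq_one_iff]
      rintro ⟨c₀, hc₀⟩
      have hpc : p ^ c ≠ 0 := (pow_pos hp.pos c).ne'
      have h2 := congrFun (congrFun hc₀ ⟨0, by omega⟩) ⟨p ^ c, by omega⟩
      rw [hupow, Matrix.add_apply, hshift _ he2] at h2
      simp [Fin.ext_iff, hpc.symm] at h2
    · rw [hU, mk_pow_eq_one_iff]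
      exact ⟨1, by rw [hupow, pow_eq_zero_of_le he1 hNn, add_zero, map_one]⟩
  obtain ⟨lam, hlam⟩ : ∃ x : Fˣ, orderOf x = r := by
    refine exists_prime_orderOf_dvd_card' r ?_
    rw [Nat.card_eq_fintype_card, Fintype.card_units]
    exact hrq
  let d : Fin n → Fˣ := fun i => if i.val + 1 < n then lam else (lam ^ (n - 1))⁻¹
  let h : SpecialLinearGroup (Fin n) F := ⟨Matrix.diagonal fun i => (d i : F), by
    obtain ⟨m, rfl⟩ : ∃ m, n = m + 1 := ⟨n - 1, by omega⟩
    rw [Matrix.det_diagonal, Fin.prod_univ_castSucc]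
    simp [d]⟩
  have hd : ∀ i, d i ^ r = 1 := fun i => by
    rw [← hlam]
    simp only [d]
    split
    · exact pow_orderOf_eq_one lam
    · rw [inv_pow, pow_right_comm, pow_orderOf_eq_one, one_pow, inv_one]
  set H := (QuotientGroup.mk h : ProjectiveSpecialLinearGroup (Fin n) F) with hH
  have hHord : orderOf H = r := by
    refine orderOf_eq_prime ?_ ?_
    · rw [hH, mk_pow_eq_one_iff]
      refine ⟨1, ?_⟩
      change (Matrix.diagonal fun i => (d i : F)) ^ r = _
      rw [Matrix.diagonal_pow, map_one, ← Matrix.diagonal_one]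
      congr 1
      funext i
      simpa using congrArg (fun u : Fˣ => (u : F)) (hd i)
    · rw [hH]
      intro hne
      rw [mk_eq_one_iff] at hne
      obtain ⟨c₁, hc⟩ := hne
      have h1 : (d ⟨0, by omega⟩ : F) = c₁ := by
        simpa [h] using congrFun (congrFun hc ⟨0, by omega⟩) ⟨0, by omega⟩
      have h2 : (d ⟨n - 1, by omega⟩ : F) = c₁ := by
        simpa [h] using congrFun (congrFun hc ⟨n - 1, by omega⟩) ⟨n - 1, by omega⟩
      have h3 : lam = (lam ^ (n - 1))⁻¹ := by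
        have h4 := Units.ext (h1.trans h2.symm)
        simp only [d] at h4
        rwa [if_pos (by omega), if_neg (by omega)] at h4
      apply hrn
      rw [← hlam, orderOf_dvd_iff_pow_eq_one]
      calc lam ^ n = lam * lam ^ (n - 1) := by rw [← pow_succ']; congr 1; omega
        _ = 1 := by nth_rewrite 1 [h3]; exact inv_mul_cancel _
  have hcomm : Commute U H := by
    refine Commute.map ?_ (QuotientGroup.mk' (Subgroup.center (SpecialLinearGroup (Fin n) F)))
    apply Subtype.ext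
    change (1 + N) * Matrix.diagonal _ = Matrix.diagonal _ * (1 + N)
    refine ((Commute.one_left _).add_left ?_).eq
    ext i j
    rw [Matrix.mul_diagonal, Matrix.diagonal_mul]
    simp only [N, Matrix.of_apply]
    split_ifs with hij
    · have : i.val + 1 < n := by omega
      simp [d, this, hij.2]
    · simp
  have hord : orderOf (U * H) = p ^ (c + 1) * r := by
    rw [hcomm.orderOf_mul_eq_mul_orderOf_of_coprime, hUord, hHord]
    rw [hUord, hHord]
    refine Nat.Coprime.pow_left _ ((Nat.coprime_primes hp hr).2 ?_)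
    rintro rfl
    have h2 : p ∣ p ^ a := dvd_pow_self p (by omega)
    have h3 : p ^ a ≥ 1 := Nat.one_le_pow _ _ hp.pos
    have h4 := Nat.dvd_sub h2 (hF ▸ hrq : p ∣ p ^ a - 1)
    rw [Nat.sub_sub_self h3] at h4
    exact hp.not_dvd_one h4
  refine ⟨U * H, hord ▸ dvd_mul_left _ _, fun y => ?_⟩
  rw [hord]
  exact (exists_unipotent_pow hp hF ha (c + 1) he1 (by omega) y).trans (dvd_mul_right _ _)

/-- Let F be a finite field with q = p^a elements, n ≥ 2 (with q ≥ 4 when n = 2), L = PSL(n, F), and let r be a prime dividing q − 1 and not dividing n. Then for every m the direct product L × L × L × (ℤ/r)^m has the same set of element orders as L × L × L; and if n − 1 ≠ p^j for every j ≥ 0 (so never when n = 2, since 1 = p^0), then already L × L × (ℤ/r)^m has the same set of element orders as L × L. -/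
theorem result {F : Type*} [Field F] [Fintype F] (p a n r m : ℕ) (hp : p.Prime) (ha : 1 ≤ a) (hF : Fintype.card F = p ^ a)
    (hn : 2 ≤ n) (hn2 : n = 2 → 4 ≤ Fintype.card F) (hr : r.Prime) (hrq : r ∣ Fintype.card F - 1) (hrn : ¬ r ∣ n) :
    Set.range (orderOf : Matrix.ProjectiveSpecialLinearGroup (Fin n) F × Matrix.ProjectiveSpecialLinearGroup (Fin n) F × Matrix.ProjectiveSpecialLinearGroup (Fin n) F × Multiplicative (Fin m → ZMod r) → ℕ) =
      Set.range (orderOf : Matrix.ProjectiveSpecialLinearGroup (Fin n) F × Matrix.ProjectiveSpecialLinearGroup (Fin n) F × Matrix.ProjectiveSpecialLinearGroup (Fin n) F → ℕ) ∧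
    ((¬ ∃ j : ℕ, n - 1 = p ^ j) →
      Set.range (orderOf : Matrix.ProjectiveSpecialLinearGroup (Fin n) F × Matrix.ProjectiveSpecialLinearGroup (Fin n) F × Multiplicative (Fin m → ZMod r) → ℕ) =
        Set.range (orderOf : Matrix.ProjectiveSpecialLinearGroup (Fin n) F × Matrix.ProjectiveSpecialLinearGroup (Fin n) F → ℕ)) := by
  classical
  obtain ⟨S, hS⟩ := dichotomy (F := F) p a n r hp hF hn hr hrq hrn
  have hz : ∀ z : Multiplicative (Fin m → ZMod r), orderOf z ∣ r := fun z => by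
    rw [orderOf_dvd_iff_pow_eq_one]
    apply Multiplicative.toAdd.injective
    funext i
    simp
  have l1 : ∀ {a b : ℕ}, a ∣ Nat.lcm a b := fun {a b} => Nat.dvd_lcm_left a b
  have l2 : ∀ {a b : ℕ}, b ∣ Nat.lcm a b := fun {a b} => Nat.dvd_lcm_right a b
  refine ⟨Set.Subset.antisymm ?_ ?_, fun hnp => Set.Subset.antisymm ?_ ?_⟩
  · rintro _ ⟨⟨x₁, x₂, x₃, z⟩, rfl⟩
    suffices h : ∃ y₁ y₂ y₃ : ProjectiveSpecialLinearGroup (Fin n) F,
        orderOf x₁ ∣ orderOf (y₁, y₂, y₃) ∧ orderOf x₂ ∣ orderOf (y₁, y₂, y₃) ∧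
        orderOf x₃ ∣ orderOf (y₁, y₂, y₃) ∧ r ∣ orderOf (y₁, y₂, y₃) by
      obtain ⟨y₁, y₂, y₃, h1, h2, h3, h4⟩ := h
      refine exists_orderOf_of_dvd (y₁, y₂, y₃) ?_
      rw [Prod.orderOf, Prod.orderOf, Prod.orderOf]
      exact Nat.lcm_dvd h1 (Nat.lcm_dvd h2 (Nat.lcm_dvd h3 ((hz z).trans h4)))
    simp only [Prod.orderOf]
    obtain ⟨w, hw⟩ := exists_max_pPart (ProjectiveSpecialLinearGroup (Fin n) F) p
    obtain ⟨v, hv⟩ := exists_r (F := F) n r hn hr hrq hrn
    rcases hS _ hw x₁ with ⟨x', ha', hb'⟩ | h₁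
    · exact ⟨x', x₂, x₃, ha'.trans l1, l1.trans l2, l2.trans l2, hb'.trans l1⟩
    rcases hS _ hw x₂ with ⟨x', ha', hb'⟩ | h₂
    · exact ⟨x₁, x', x₃, l1, ha'.trans (l1.trans l2), l2.trans l2, hb'.trans (l1.trans l2)⟩
    rcases hS _ hw x₃ with ⟨x', ha', hb'⟩ | h₃
    · exact ⟨x₁, x₂, x', l1, l1.trans l2, ha'.trans (l2.trans l2), hb'.trans (l2.trans l2)⟩
    have h4 : Nat.lcm (orderOf S) (orderOf w) ∣ Nat.lcm (orderOf S) (Nat.lcm (orderOf w) (orderOf v)) :=
      Nat.lcm_dvd l1 (l1.trans l2)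
    exact ⟨S, w, v, h₁.trans h4, h₂.trans h4, h₃.trans h4, hv.symm.dvd.trans (l2.trans l2)⟩
  · rintro _ ⟨⟨x₁, x₂, x₃⟩, rfl⟩
    exact ⟨(x₁, x₂, x₃, 1), by simp [Prod.orderOf]⟩
  · rintro _ ⟨⟨x₁, x₂, z⟩, rfl⟩
    suffices h : ∃ y₁ y₂ : ProjectiveSpecialLinearGroup (Fin n) F,
        orderOf x₁ ∣ orderOf (y₁, y₂) ∧ orderOf x₂ ∣ orderOf (y₁, y₂) ∧ r ∣ orderOf (y₁, y₂) by
      obtain ⟨y₁, y₂, h1, h2, h3⟩ := h
      refine exists_orderOf_of_dvd (y₁, y₂) ?_
      rw [Prod.orderOf, Prod.orderOf]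
      exact Nat.lcm_dvd h1 (Nat.lcm_dvd h2 ((hz z).trans h3))
    simp only [Prod.orderOf]
    obtain ⟨w, hwr, hw⟩ := exists_pr (F := F) p a n r hp ha hF hn hr hrq hrn hnp
    rcases hS _ hw x₁ with ⟨x', ha', hb'⟩ | h₁
    · exact ⟨x', x₂, ha'.trans l1, l2, hb'.trans l1⟩
    rcases hS _ hw x₂ with ⟨x', ha', hb'⟩ | h₂
    · exact ⟨x₁, x', l1, ha'.trans l2, hb'.trans l2⟩
    exact ⟨S, w, h₁, h₂, hwr.trans l2⟩
  · rintro _ ⟨⟨x₁, x₂⟩, rfl⟩
    exact ⟨(x₁, x₂, 1), by simp [Prod.orderOf]⟩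

end Cfsg.Agent.S2510
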