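import Cfsg.Statements.S2511
import Cfsg.Agent.KnownSimple.SpectrumUnitCube

set_option autoImplicit false
open Cfsg

namespace Cfsg.Agent.S2511

/-- Let F be a finite field with q² elements, q = p^a, n ≥ 3 with (n, q) ≠ (3, 2), L = PSU(n, q) realised over F, and let r be a prime dividing q + 1 and not dividing n. Then for every m the direct product L × L × L × (ℤ/r)^m has the same set of element orders as L × L × L; and if n − 1 is not a power of p, then already L × L × (ℤ/r)^m has the same set of element orders as L × L. -/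
theorem result {F : Type*} [Field F] [Fintype F] (p a n q r m : ℕ) (hp : p.Prime) (ha : 1 ≤ a) (hq : q = p ^ a) (hF : Fintype.card F = q ^ 2)
    (hn : 3 ≤ n) (hn3 : ¬ (n = 3 ∧ q = 2)) (hr : r.Prime) (hrq : r ∣ q + 1) (hrn : ¬ r ∣ n) :
    Set.range (orderOf : Cfsg.PSU n F q × Cfsg.PSU n F q × Cfsg.PSU n F q × Multiplicative (Fin m → ZMod r) → ℕ) = Set.range (orderOf : Cfsg.PSU n F q × Cfsg.PSU n F q × Cfsg.PSU n F q → ℕ) ∧
    ((¬ ∃ j : ℕ, n - 1 = p ^ j) →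
      Set.range (orderOf : Cfsg.PSU n F q × Cfsg.PSU n F q × Multiplicative (Fin m → ZMod r) → ℕ) = Set.range (orderOf : Cfsg.PSU n F q × Cfsg.PSU n F q → ℕ)) := by
  classical
  have : Fact p.Prime := ⟨hp⟩
  have : CharP F p := charP_of_card_eq_prime_pow (f := a * 2) (by rw [hF, hq, ← pow_mul])
  obtain ⟨S, hS⟩ := KnownSimple.SpectrumUnitCube.dichotomy (n := n) hF hq ha (by omega) hr hrq hrn
  have hz : ∀ z : Multiplicative (Fin m → ZMod r), orderOf z ∣ r := fun z => by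
    rw [orderOf_dvd_iff_pow_eq_one]
    apply Multiplicative.toAdd.injective
    funext i
    simp
  have l1 : ∀ {a b : ℕ}, a ∣ Nat.lcm a b := fun {a b} => Nat.dvd_lcm_left a b
  have l2 : ∀ {a b : ℕ}, b ∣ Nat.lcm a b := fun {a b} => Nat.dvd_lcm_right a b
  refine ⟨Set.Subset.antisymm ?_ ?_, fun hnp => Set.Subset.antisymm ?_ ?_⟩
  · rintro _ ⟨⟨x₁, x₂, x₃, z⟩, rfl⟩
    suffices h : ∃ y₁ y₂ y₃ : Cfsg.PSU n F q,
        orderOf x₁ ∣ orderOf (y₁, y₂, y₃) ∧ orderOf x₂ ∣ orderOf (y₁, y₂, y₃) ∧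
        orderOf x₃ ∣ orderOf (y₁, y₂, y₃) ∧ r ∣ orderOf (y₁, y₂, y₃) by
      obtain ⟨y₁, y₂, y₃, h1, h2, h3, h4⟩ := h
      refine KnownSimple.Spectrum.exists_orderOf_of_dvd (y₁, y₂, y₃) ?_
      rw [Prod.orderOf, Prod.orderOf, Prod.orderOf]
      exact Nat.lcm_dvd h1 (Nat.lcm_dvd h2 (Nat.lcm_dvd h3 ((hz z).trans h4)))
    simp only [Prod.orderOf]
    obtain ⟨w, hw⟩ := KnownSimple.Spectrum.exists_max_pPart (Cfsg.PSU n F q) p
    rcases hS _ hw x₁ with ⟨x', ha', hb'⟩ | h₁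
    · exact ⟨x', x₂, x₃, ha'.trans l1, l1.trans l2, l2.trans l2, hb'.trans l1⟩
    rcases hS _ hw x₂ with ⟨x', ha', hb'⟩ | h₂
    · exact ⟨x₁, x', x₃, l1, ha'.trans (l1.trans l2), l2.trans l2, hb'.trans (l1.trans l2)⟩
    rcases hS _ hw x₃ with ⟨x', ha', hb'⟩ | h₃
    · exact ⟨x₁, x₂, x', l1, l1.trans l2, ha'.trans (l2.trans l2), hb'.trans (l2.trans l2)⟩
    obtain ⟨v, i, hv, -, -⟩ := KnownSimple.SpectrumUnitCube.exists_mixed hF hq (n := n) (by omega)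
      hr hrq hrn (le_refl 1) (by omega) (Nat.zero_le _) (Nat.coprime_one_left _) (T := 1)
      (by rw [Classical.UnitaryConj.adj_one, mul_one]) (fun e _ => one_dvd _)
    have h4 : Nat.lcm (orderOf S) (orderOf w) ∣ Nat.lcm (orderOf S) (Nat.lcm (orderOf w) (orderOf v)) :=
      Nat.lcm_dvd l1 (l1.trans l2)
    exact ⟨S, w, v, h₁.trans h4, h₂.trans h4, h₃.trans h4, hv.trans (l2.trans l2)⟩
  · rintro _ ⟨⟨x₁, x₂, x₃⟩, rfl⟩
    exact ⟨(x₁, x₂, x₃, 1), by simp [Prod.orderOf]⟩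
  · rintro _ ⟨⟨x₁, x₂, z⟩, rfl⟩
    suffices h : ∃ y₁ y₂ : Cfsg.PSU n F q,
        orderOf x₁ ∣ orderOf (y₁, y₂) ∧ orderOf x₂ ∣ orderOf (y₁, y₂) ∧ r ∣ orderOf (y₁, y₂) by
      obtain ⟨y₁, y₂, h1, h2, h3⟩ := h
      refine KnownSimple.Spectrum.exists_orderOf_of_dvd (y₁, y₂) ?_
      rw [Prod.orderOf, Prod.orderOf]
      exact Nat.lcm_dvd h1 (Nat.lcm_dvd h2 ((hz z).trans h3))
    simp only [Prod.orderOf]
    obtain ⟨w, hwr, hw⟩ := KnownSimple.SpectrumUnitCube.exists_pr hF hq ha hn hr hrq hrn hnp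
    rcases hS _ hw x₁ with ⟨x', ha', hb'⟩ | h₁
    · exact ⟨x', x₂, ha'.trans l1, l2, hb'.trans l1⟩
    rcases hS _ hw x₂ with ⟨x', ha', hb'⟩ | h₂
    · exact ⟨x₁, x', l1, ha'.trans l2, hb'.trans l2⟩
    exact ⟨S, w, h₁, h₂, hwr.trans l2⟩
  · rintro _ ⟨⟨x₁, x₂⟩, rfl⟩
    exact ⟨(x₁, x₂, 1), by simp [Prod.orderOf]⟩

end Cfsg.Agent.S2511
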