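import Cfsg.Statements.S2512
import Cfsg.Agent.KnownSimple.SpectrumSympCube

set_option autoImplicit false
open Cfsg

namespace Cfsg.Agent.S2512

/-- Let F be a finite field of odd order q = p^a, n ≥ 2 (with q ≥ 3 automatic), and L = PSp(2n, F). Then for every m the direct product L × L × L × (ℤ/2)^m has the same set of element orders as L × L × L; and if 2n − 1 is not a power of p, then already L × L × (ℤ/2)^m has the same set of element orders as L × L. -/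
theorem result {F : Type*} [Field F] [Fintype F] (p a n m : ℕ) (hp : p.Prime) (ha : 1 ≤ a) (hF : Fintype.card F = p ^ a) (hodd : Odd (Fintype.card F))
    (hn : 2 ≤ n) :
    Set.range (orderOf : Cfsg.PSp n F × Cfsg.PSp n F × Cfsg.PSp n F × Multiplicative (Fin m → ZMod 2) → ℕ) = Set.range (orderOf : Cfsg.PSp n F × Cfsg.PSp n F × Cfsg.PSp n F → ℕ) ∧
    ((¬ ∃ j : ℕ, 2 * n - 1 = p ^ j) →
      Set.range (orderOf : Cfsg.PSp n F × Cfsg.PSp n F × Multiplicative (Fin m → ZMod 2) → ℕ) = Set.range (orderOf : Cfsg.PSp n F × Cfsg.PSp n F → ℕ)) := by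
  classical
  have : Fact p.Prime := ⟨hp⟩
  have : CharP F p := charP_of_card_eq_prime_pow hF
  have hp2 : p ≠ 2 := by
    rintro rfl
    exact (Nat.not_even_iff_odd.2 hodd) (hF ▸ (even_two.pow_of_ne_zero (by omega)))
  obtain ⟨S, hS⟩ := KnownSimple.SpectrumSympCube.dichotomy (F := F) hp2 hn hodd
  have hz : ∀ z : Multiplicative (Fin m → ZMod 2), orderOf z ∣ 2 := fun z => by
    rw [orderOf_dvd_iff_pow_eq_one]
    apply Multiplicative.toAdd.injective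
    funext i
    simp [CharTwo.two_eq_zero]
  have l1 : ∀ {a b : ℕ}, a ∣ Nat.lcm a b := fun {a b} => Nat.dvd_lcm_left a b
  have l2 : ∀ {a b : ℕ}, b ∣ Nat.lcm a b := fun {a b} => Nat.dvd_lcm_right a b
  refine ⟨Set.Subset.antisymm ?_ ?_, fun hnp => Set.Subset.antisymm ?_ ?_⟩
  · rintro _ ⟨⟨x₁, x₂, x₃, z⟩, rfl⟩
    suffices h : ∃ y₁ y₂ y₃ : Cfsg.PSp n F,
        orderOf x₁ ∣ orderOf (y₁, y₂, y₃) ∧ orderOf x₂ ∣ orderOf (y₁, y₂, y₃) ∧
        orderOf x₃ ∣ orderOf (y₁, y₂, y₃) ∧ 2 ∣ orderOf (y₁, y₂, y₃) by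
      obtain ⟨y₁, y₂, y₃, h1, h2, h3, h4⟩ := h
      refine KnownSimple.Spectrum.exists_orderOf_of_dvd (y₁, y₂, y₃) ?_
      rw [Prod.orderOf, Prod.orderOf, Prod.orderOf]
      exact Nat.lcm_dvd h1 (Nat.lcm_dvd h2 (Nat.lcm_dvd h3 ((hz z).trans h4)))
    simp only [Prod.orderOf]
    obtain ⟨w, hw⟩ := KnownSimple.Spectrum.exists_max_pPart (Cfsg.PSp n F) p
    rcases hS _ hw x₁ with ⟨x', ha', hb'⟩ | h₁
    · exact ⟨x', x₂, x₃, ha'.trans l1, l1.trans l2, l2.trans l2, hb'.trans l1⟩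
    rcases hS _ hw x₂ with ⟨x', ha', hb'⟩ | h₂
    · exact ⟨x₁, x', x₃, l1, ha'.trans (l1.trans l2), l2.trans l2, hb'.trans (l1.trans l2)⟩
    rcases hS _ hw x₃ with ⟨x', ha', hb'⟩ | h₃
    · exact ⟨x₁, x₂, x', l1, l1.trans l2, ha'.trans (l2.trans l2), hb'.trans (l2.trans l2)⟩
    obtain ⟨v, i, hv, -, -⟩ := KnownSimple.SpectrumSympCube.exists_mixed (n := n) (F := F) (p := p)
      hp2 hodd (le_refl 1) (by omega) (Nat.zero_le _) odd_one (by simp) ⟨1, one_dvd _⟩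
    have h4 : Nat.lcm (orderOf S) (orderOf w) ∣ Nat.lcm (orderOf S) (Nat.lcm (orderOf w) (orderOf v)) :=
      Nat.lcm_dvd l1 (l1.trans l2)
    exact ⟨S, w, v, h₁.trans h4, h₂.trans h4, h₃.trans h4, hv.trans (l2.trans l2)⟩
  · rintro _ ⟨⟨x₁, x₂, x₃⟩, rfl⟩
    exact ⟨(x₁, x₂, x₃, 1), by simp [Prod.orderOf]⟩
  · rintro _ ⟨⟨x₁, x₂, z⟩, rfl⟩
    suffices h : ∃ y₁ y₂ : Cfsg.PSp n F,
        orderOf x₁ ∣ orderOf (y₁, y₂) ∧ orderOf x₂ ∣ orderOf (y₁, y₂) ∧ 2 ∣ orderOf (y₁, y₂) by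
      obtain ⟨y₁, y₂, h1, h2, h3⟩ := h
      refine KnownSimple.Spectrum.exists_orderOf_of_dvd (y₁, y₂) ?_
      rw [Prod.orderOf, Prod.orderOf]
      exact Nat.lcm_dvd h1 (Nat.lcm_dvd h2 ((hz z).trans h3))
    simp only [Prod.orderOf]
    obtain ⟨w, hwr, hw⟩ := KnownSimple.SpectrumSympCube.exists_two_pPart (F := F) hp2 hn hodd hnp
    rcases hS _ hw x₁ with ⟨x', ha', hb'⟩ | h₁
    · exact ⟨x', x₂, ha'.trans l1, l2, hb'.trans l1⟩
    rcases hS _ hw x₂ with ⟨x', ha', hb'⟩ | h₂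
    · exact ⟨x₁, x', l1, ha'.trans l2, hb'.trans l2⟩
    exact ⟨S, w, h₁, h₂, hwr.trans l2⟩
  · rintro _ ⟨⟨x₁, x₂⟩, rfl⟩
    exact ⟨(x₁, x₂, 1), by simp [Prod.orderOf]⟩

end Cfsg.Agent.S2512
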