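import Cfsg.Statements.S2513
import Cfsg.Agent.KnownSimple.Spectrum

set_option autoImplicit false
open Cfsg

namespace Cfsg.Agent.S2513

open Cfsg.Agent.KnownSimple.Spectrum Matrix Polynomial

/-- An element of order `q ^ d - 1` in `PSL_n(2)`. -/
theorem exists_cyclic {F : Type*} [Field F] [Fintype F] (hF : Fintype.card F = 2) (n d : ℕ)
    (hd : 1 ≤ d) (hdn : d ≤ n) :
    ∃ x : ProjectiveSpecialLinearGroup (Fin n) F, orderOf x = 2 ^ d - 1 := by
  classical
  have : Fact (Nat.Prime 2) := ⟨Nat.prime_two⟩
  have : CharP F 2 := charP_of_card (a := 1) Nat.prime_two (by rw [hF, pow_one])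
  have : NeZero d := ⟨by omega⟩
  have hone : ∀ x : F, x ≠ 0 → x = 1 := fun x hx => by
    have h := FiniteField.pow_card_sub_one_eq_one x hx
    rwa [hF, pow_one] at h
  let L := FiniteField.Extension F 2 d
  have : Fintype L := Fintype.ofFinite L
  let b : Module.Basis (Fin d) F L :=
    Module.finBasisOfFinrankEq F L (FiniteField.finrank_extension F 2 d)
  obtain ⟨u, hu⟩ := IsCyclic.exists_generator (α := Lˣ)
  have huord : orderOf u = 2 ^ d - 1 := by
    rw [orderOf_eq_card_of_forall_mem_zpowers hu, Nat.card_eq_fintype_card, Fintype.card_units,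
      ← Nat.card_eq_fintype_card, FiniteField.natCard_extension, Nat.card_eq_fintype_card, hF]
  let e : Fin d ⊕ Fin (n - d) ≃ Fin n := finSumFinEquiv.trans (finCongr (by omega))
  let ψ : L → Matrix (Fin n) (Fin n) F := fun x =>
    Matrix.reindex e e (Matrix.fromBlocks (Algebra.leftMulMatrix b x) 0 0 1)
  have hψ1 : ψ 1 = 1 := by
    simp [ψ, Matrix.submatrix_one_equiv]
  have hψmul : ∀ x y, ψ (x * y) = ψ x * ψ y := fun x y => by
    simp [ψ, Matrix.fromBlocks_multiply, Matrix.submatrix_mul_equiv]
  have hψinj : Function.Injective ψ := fun x y h => by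
    have h1 := (Matrix.reindex e e).injective h
    exact Algebra.leftMulMatrix_injective b (Matrix.fromBlocks_inj.1 h1).1
  let ψ' : Lˣ →* SpecialLinearGroup (Fin n) F :=
    { toFun := fun x => ⟨ψ (x : L), hone _ fun h => by
        have h1 : ψ (x : L) * ψ ((x⁻¹ : Lˣ) : L) = 1 := by rw [← hψmul, x.mul_inv, hψ1]
        have h2 := congrArg Matrix.det h1
        rw [det_mul, h, zero_mul, det_one] at h2
        exact zero_ne_one h2⟩
      map_one' := Subtype.ext hψ1
      map_mul' := fun x y => Subtype.ext (hψmul _ _) }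
  refine ⟨QuotientGroup.mk' _ (ψ' u), ?_⟩
  rw [← huord]
  refine orderOf_injective ((QuotientGroup.mk' _).comp ψ') ?_ u
  rw [injective_iff_map_eq_one]
  intro x hx
  obtain ⟨c, hc⟩ := (mk_eq_one_iff (ψ' x)).1 hx
  have hc1 : c = 1 := hone c fun h => by
    have h2 := congrArg Matrix.det hc
    have : Nonempty (Fin n) := ⟨⟨0, by omega⟩⟩
    rw [(ψ' x).prop, h, map_zero, det_zero] at h2
    exact one_ne_zero h2
  rw [hc1, map_one] at hc
  exact Units.ext (hψinj (hc.trans hψ1.symm))

/-- Let F be the field with two elements, n ≥ 2, L = PSL(n, F) and k₀ = ⌊(n + 3)/2⌋. Then for every k ≥ k₀ the direct product of k copies of L has the same set of element orders as the direct product of k₀ copies of L. -/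
theorem result {F : Type*} [Field F] [Fintype F] (hF : Fintype.card F = 2) (n k : ℕ) (hn : 2 ≤ n) (hk : (n + 3) / 2 ≤ k) :
    Set.range (orderOf : (Fin k → Matrix.ProjectiveSpecialLinearGroup (Fin n) F) → ℕ) = Set.range (orderOf : (Fin ((n + 3) / 2) → Matrix.ProjectiveSpecialLinearGroup (Fin n) F) → ℕ) := by
  classical
  have : CharP F 2 := charP_of_card (a := 1) Nat.prime_two (by rw [hF, pow_one])
  have : Nonempty (Fin n) := ⟨⟨0, by omega⟩⟩
  set K := (n + 3) / 2 with hK
  let G := ProjectiveSpecialLinearGroup (Fin n) F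
  obtain ⟨w, hw⟩ := exists_max_pPart G 2
  -- the slot `i + 1` carries a Singer cycle of dimension `n - i`
  have hy : ∀ i : Fin K, ∃ x : G, i.val ≠ 0 → orderOf x = 2 ^ (n + 1 - i.val) - 1 := fun i => by
    by_cases h : i.val = 0
    · exact ⟨1, fun h' => absurd h h'⟩
    · obtain ⟨x, hx⟩ := exists_cyclic hF n (n + 1 - i.val) (by have := i.isLt; omega) (by omega)
      exact ⟨x, fun _ => hx⟩
  choose z hz using hy
  let y : Fin K → G := fun i => if i.val = 0 then w else z i
  have hE : ∀ i, orderOf (y i) ∣ orderOf y := fun i => orderOf_map_dvd (Pi.evalMonoidHom _ i) y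
  have hd : ∀ d, 1 ≤ d → d ≤ n → 2 ^ d - 1 ∣ orderOf y := by
    intro d hd1 hdn
    have hstep : ∀ m, n / 2 < m → m ≤ n → 2 ^ m - 1 ∣ orderOf y := fun m h1 h2 => by
      have h := hE ⟨n + 1 - m, by omega⟩
      simp only [y] at h
      rw [if_neg (by omega), hz _ (by change n + 1 - m ≠ 0; omega)] at h
      convert h using 3
      simp only [Fin.val_mk]
      omega
    refine (Nat.pow_sub_one_dvd_pow_sub_one 2 (dvd_mul_right d (n / d))).trans (hstep _ ?_ ?_)
    · have h1 := Nat.div_add_mod n d
      have h2 := Nat.mod_lt n hd1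
      have h3 : d ≤ d * (n / d) := Nat.le_mul_of_pos_right _ (Nat.div_pos hdn hd1)
      omega
    · exact Nat.mul_div_le n d
  have hall : ∀ x : G, orderOf x ∣ orderOf y := by
    intro x
    obtain ⟨g, rfl⟩ := QuotientGroup.mk_surjective x
    set A := (g : Matrix (Fin n) (Fin n) F)
    have hcp : A.charpoly ∣ (X ^ orderOf y - 1) ^ n := by
      have hne : A.charpoly ≠ 0 := A.charpoly_monic.ne_zero
      refine (Associated.dvd_iff_dvd_left
        (UniqueFactorizationMonoid.prod_normalizedFactors hne)).1 ?_
      have hf : ∀ f ∈ UniqueFactorizationMonoid.normalizedFactors A.charpoly,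
          f ∣ X ^ orderOf y - 1 := by
        intro f hf
        have hirr := UniqueFactorizationMonoid.irreducible_of_normalized_factor f hf
        have hdvd := UniqueFactorizationMonoid.dvd_of_mem_normalizedFactors hf
        have hdeg : f.natDegree ≤ n :=
          (Polynomial.natDegree_le_of_dvd hdvd hne).trans_eq
            (by rw [Matrix.charpoly_natDegree_eq_dim, Fintype.card_fin])
        have h1 : f ∣ X ^ 2 ^ f.natDegree - X := by
          have := hirr.natDegree_dvd_iff_dvd_X_pow_card_pow_sub_X.1 (dvd_refl f.natDegree)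
          rwa [Nat.card_eq_fintype_card, hF] at this
        have hX : ¬ f ∣ X := fun h => by
          have h2 : (X : F[X]) ∣ A.charpoly := (hirr.associated_of_dvd Polynomial.irreducible_X h).symm.dvd.trans hdvd
          rw [Polynomial.X_dvd_iff] at h2
          have h3 := Matrix.det_eq_sign_charpoly_coeff A
          rw [g.prop, h2, mul_zero] at h3
          exact one_ne_zero h3
        have h3 : f ∣ X ^ (2 ^ f.natDegree - 1) - 1 := by
          have h4 : (X : F[X]) ^ 2 ^ f.natDegree - X = X * (X ^ (2 ^ f.natDegree - 1) - 1) := by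
            rw [mul_sub, mul_one, ← pow_succ', Nat.sub_add_cancel Nat.one_le_two_pow]
          rw [h4] at h1
          exact (hirr.prime.dvd_or_dvd h1).resolve_left hX
        obtain ⟨t, ht⟩ := hd _ hirr.natDegree_pos hdeg
        refine h3.trans ?_
        rw [ht, pow_mul]
        exact sub_one_dvd_pow_sub_one _ t
      have hprod := Multiset.prod_dvd_prod_of_dvd (fun f : F[X] => f) (fun _ => X ^ orderOf y - 1) hf
      rw [Multiset.map_id', Multiset.map_const', Multiset.prod_replicate] at hprod
      refine dvd_trans hprod ?_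
      · refine pow_dvd_pow _ ?_
        have h5 := Polynomial.natDegree_eq_of_degree_eq
          (Polynomial.degree_eq_degree_of_associated (UniqueFactorizationMonoid.prod_normalizedFactors hne))
        rw [Polynomial.natDegree_multiset_prod, Matrix.charpoly_natDegree_eq_dim, Fintype.card_fin] at h5
        · refine le_of_le_of_eq ?_ h5
          have h6 := Multiset.card_nsmul_le_sum (s := (UniqueFactorizationMonoid.normalizedFactors A.charpoly).map natDegree) (a := 1) ?_
          · simpa using h6
          · intro k hk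
            obtain ⟨f, hf', rfl⟩ := Multiset.mem_map.1 hk
            exact (UniqueFactorizationMonoid.irreducible_of_normalized_factor f hf').natDegree_pos
        · exact fun h => UniqueFactorizationMonoid.zero_notMem_normalizedFactors _ h
    have hA : (A ^ orderOf y - 1) ^ n = 0 := by
      obtain ⟨r, hr⟩ := hcp
      have := congrArg (aeval A) hr
      rwa [map_pow, map_sub, map_pow, map_one, aeval_X, map_mul, Matrix.aeval_self_charpoly,
        zero_mul] at this
    have hpow : (QuotientGroup.mk g : G) ^ (orderOf y * 2 ^ n) = 1 := by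
      rw [mk_pow_eq_one_iff]
      refine ⟨1, ?_⟩
      rw [map_one, pow_mul]
      have h := sub_pow_char_pow_of_commute (p := 2) (n := n) (h := Commute.one_right (A ^ orderOf y))
      rw [one_pow, pow_eq_zero_of_le (Nat.lt_two_pow_self).le hA] at h
      exact sub_eq_zero.1 h.symm
    rw [← orderOf_dvd_iff_pow_eq_one, mul_comm] at hpow
    have h0 : orderOf w ∣ orderOf y := by
      have := hE ⟨0, by omega⟩
      simpa [y] using this
    exact (dvd_lcm_of_dvd_pow_mul Nat.prime_two (orderOf_pos _).ne' hpow
      ((hw _).trans h0)).trans (Nat.lcm_dvd dvd_rfl dvd_rfl)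
  refine Set.Subset.antisymm ?_ ?_
  · rintro _ ⟨x, rfl⟩
    exact exists_orderOf_of_dvd y (by
      rw [Pi.orderOf x]
      exact Finset.lcm_dvd fun i _ => hall (x i))
  · rintro _ ⟨x, rfl⟩
    let x' : Fin k → G := fun i => if h : i.val < K then x ⟨i.val, h⟩ else 1
    refine exists_orderOf_of_dvd x' ?_
    rw [Pi.orderOf x]
    refine Finset.lcm_dvd fun i _ => ?_
    have := orderOf_map_dvd (Pi.evalMonoidHom _ (⟨i.val, i.isLt.trans_le hk⟩ : Fin k)) x'
    simpa [x'] using this

end Cfsg.Agent.S2513
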