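import Cfsg.Statements.S2514
import Cfsg.Agent.KnownSimple.Spectrum

set_option autoImplicit false
open Cfsg

namespace Cfsg.Agent.S2514

open Cfsg.Agent.KnownSimple.Spectrum

/-- Every element order divides a maximal one. -/
theorem exists_maximal {X : Type*} [Group X] [Finite X] (x : X) :
    ∃ n ∈ {n : ℕ | n ∈ Set.range (orderOf : X → ℕ) ∧ ∀ m ∈ Set.range (orderOf : X → ℕ), n ∣ m → m = n},
      orderOf x ∣ n := by
  classical
  have : Fintype X := Fintype.ofFinite X
  obtain ⟨y, hy, hmax⟩ := (Finset.univ.filter fun y : X => orderOf x ∣ orderOf y).exists_max_image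
    orderOf ⟨x, by simp⟩
  have hy' : orderOf x ∣ orderOf y := (Finset.mem_filter.1 hy).2
  refine ⟨orderOf y, ⟨⟨y, rfl⟩, ?_⟩, hy'⟩
  rintro _ ⟨z, rfl⟩ hyz
  exact le_antisymm (hmax z (by simpa using hy'.trans hyz)) (Nat.le_of_dvd (orderOf_pos z) hyz)

/-- For a finite group X write μ(X) for the set of element orders of X that are maximal under divisibility. Let G and H be finite groups and k ≥ 1 such that μ(H) ⊆ μ(G) and μ(G) has fewer than k elements outside μ(H). Then the direct product of k copies of G has the same set of element orders as the direct product of k − 1 copies of G with H. -/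
theorem result {G H : Type*} [Group G] [Finite G] [Group H] [Finite H] (k : ℕ) (hk : 1 ≤ k)
    (hsub : {n : ℕ | n ∈ Set.range (orderOf : H → ℕ) ∧ ∀ m ∈ Set.range (orderOf : H → ℕ), n ∣ m → m = n} ⊆ {n : ℕ | n ∈ Set.range (orderOf : G → ℕ) ∧ ∀ m ∈ Set.range (orderOf : G → ℕ), n ∣ m → m = n})
    (hfew : ({n : ℕ | n ∈ Set.range (orderOf : G → ℕ) ∧ ∀ m ∈ Set.range (orderOf : G → ℕ), n ∣ m → m = n} \ {n : ℕ | n ∈ Set.range (orderOf : H → ℕ) ∧ ∀ m ∈ Set.range (orderOf : H → ℕ), n ∣ m → m = n}).ncard < k) :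
    Set.range (orderOf : (Fin k → G) → ℕ) = Set.range (orderOf : (Fin (k - 1) → G) × H → ℕ) := by
  classical
  set μG := {n : ℕ | n ∈ Set.range (orderOf : G → ℕ) ∧ ∀ m ∈ Set.range (orderOf : G → ℕ), n ∣ m → m = n}
  set μH := {n : ℕ | n ∈ Set.range (orderOf : H → ℕ) ∧ ∀ m ∈ Set.range (orderOf : H → ℕ), n ∣ m → m = n}
  have hfin : μG.Finite := (Set.finite_range _).subset fun n hn => hn.1
  obtain ⟨j, rfl⟩ : ∃ j, k = j + 1 := ⟨k - 1, by omega⟩
  have hev : ∀ {ι : Type} (z : ι → G) (i : ι), orderOf (z i) ∣ orderOf z :=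
    fun z i => orderOf_map_dvd (Pi.evalMonoidHom _ i) z
  refine Set.Subset.antisymm ?_ ?_
  · rintro _ ⟨x, rfl⟩
    choose M hM hxM using fun i => exists_maximal (x i)
    -- it suffices to realise all the values `M i`
    suffices h : ∃ z : (Fin j → G) × H, ∀ i, M i ∣ orderOf z by
      obtain ⟨z, hz⟩ := h
      refine exists_orderOf_of_dvd (G := (Fin j → G) × H) z ?_
      rw [Pi.orderOf x]
      exact Finset.lcm_dvd fun i _ => (hxM i).trans (hz i)
    by_cases hH : ∃ i, M i ∈ μH
    · obtain ⟨i₀, hi₀⟩ := hH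
      obtain ⟨h, hh⟩ := hi₀.1
      choose g hg using fun i => (hM i).1
      refine ⟨(fun i => g (i₀.succAbove i), h), fun i => ?_⟩
      rw [Prod.orderOf]
      rcases Fin.eq_self_or_eq_succAbove i₀ i with rfl | ⟨i', rfl⟩
      · exact hh ▸ Nat.dvd_lcm_right _ _
      · refine dvd_trans ?_ (Nat.dvd_lcm_left _ _)
        rw [← hg]
        exact hev (fun i => g (i₀.succAbove i)) i'
    · simp only [not_exists] at hH
      have hcard : (Finset.univ.image M).card ≤ j := by
        have h1 : ↑(Finset.univ.image M) ⊆ μG \ μH := fun n hn => by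
          obtain ⟨i, -, rfl⟩ := Finset.mem_image.1 (Finset.mem_coe.1 hn)
          exact ⟨hM i, hH i⟩
        have := Set.ncard_le_ncard h1 hfin.sdiff
        rw [Set.ncard_coe_finset] at this
        omega
      obtain ⟨f⟩ := Function.Embedding.nonempty_of_card_le
        (α := (Finset.univ.image M : Finset ℕ)) (β := Fin j) (by simpa using hcard)
      choose g hg using fun m : (Finset.univ.image M : Finset ℕ) =>
        (show (m : ℕ) ∈ Set.range (orderOf : G → ℕ) by
          obtain ⟨i, -, hi⟩ := Finset.mem_image.1 m.2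
          exact hi ▸ (hM i).1)
      refine ⟨(Function.extend f g 1, 1), fun i => ?_⟩
      rw [Prod.orderOf]
      refine dvd_trans ?_ (Nat.dvd_lcm_left _ _)
      let m : (Finset.univ.image M : Finset ℕ) := ⟨M i, Finset.mem_image_of_mem _ (Finset.mem_univ _)⟩
      have h1 := hev (Function.extend f g 1) (f m)
      rw [f.injective.extend_apply, hg] at h1
      exact h1
  · rintro _ ⟨⟨x, h⟩, rfl⟩
    obtain ⟨n, hn, hdvd⟩ := exists_maximal h
    obtain ⟨g, hg⟩ := (hsub hn).1
    refine exists_orderOf_of_dvd (Fin.snoc x g : Fin (j + 1) → G) ?_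
    rw [Prod.orderOf]
    refine Nat.lcm_dvd ?_ (hdvd.trans ?_)
    · rw [Pi.orderOf x]
      refine Finset.lcm_dvd fun i _ => ?_
      have h1 := hev (Fin.snoc x g : Fin (j + 1) → G) (Fin.castSucc i)
      rwa [Fin.snoc_castSucc] at h1
    · have h1 := hev (Fin.snoc x g : Fin (j + 1) → G) (Fin.last j)
      rw [Fin.snoc_last, hg] at h1
      exact h1

end Cfsg.Agent.S2514
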