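import Cfsg.Statements.S2515
import Cfsg.Agent.ReeSpec.Aff

set_option autoImplicit false
open Cfsg

namespace Cfsg.Agent.S2515

/-- Let q = 3^α with α ≥ 3 odd. There is a finite group H having a non-trivial normal 3-subgroup and whose element orders maximal under divisibility are exactly 6, 9, q − 1 and (q + 1)/2. -/
theorem result (α : ℕ) (hα : 3 ≤ α) (hodd : Odd α) :
    ∃ (H : Type) (_ : Group H) (_ : Fintype H), (∃ P : Subgroup H, P.Normal ∧ P ≠ ⊥ ∧ IsPGroup 3 ↥P) ∧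
      {n : ℕ | n ∈ Set.range (orderOf : H → ℕ) ∧ ∀ m ∈ Set.range (orderOf : H → ℕ), n ∣ m → m = n} = ({6, 9, 3 ^ α - 1, (3 ^ α + 1) / 2} : Set ℕ) := by
  classical
  have : Fact (Nat.Prime 3) := ⟨Nat.prime_three⟩
  let F := GaloisField 3 α
  haveI := Fintype.ofFinite F
  have hF : Fintype.card F = 3 ^ α := by rw [← Nat.card_eq_fintype_card, GaloisField.card 3 α (by omega)]
  obtain ⟨h8, h3, h27⟩ := ReeSpec2515.arith α hα hodd rfl
  refine ⟨ReeSpec2515.aff F, inferInstance, Fintype.ofFinite _, ?_, ?_⟩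
  · let P : Subgroup (ReeSpec2515.aff F) :=
      { carrier := {σ | ∃ b, ∀ v, (σ : Equiv.Perm (Matrix (Fin 2) (Fin 2) F)) v = v + b}
        one_mem' := ⟨0, fun v => by simp⟩
        mul_mem' := by
          rintro σ τ ⟨b, hb⟩ ⟨c, hc⟩
          exact ⟨c + b, fun v => by rw [Subgroup.coe_mul, Equiv.Perm.mul_apply, hc, hb, add_assoc]⟩
        inv_mem' := by
          rintro σ ⟨b, hb⟩
          refine ⟨-b, fun v => ?_⟩
          rw [Subgroup.coe_inv, Equiv.Perm.inv_def, Equiv.symm_apply_eq, hb, neg_add_cancel_right] }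
    refine ⟨P, ⟨fun x hx g => ?_⟩, fun hbot => ?_, fun g => ⟨1, ?_⟩⟩
    · obtain ⟨b, hb⟩ := hx
      obtain ⟨e, X, c, he, hg⟩ := g.2
      refine ⟨ReeSpec2515.op e (X : Matrix (Fin 2) (Fin 2) F) b, fun v => ?_⟩
      have h := Equiv.apply_symm_apply (g : Equiv.Perm (Matrix (Fin 2) (Fin 2) F)) v
      rw [hg] at h
      rw [Subgroup.coe_mul, Subgroup.coe_mul, Subgroup.coe_inv, Equiv.Perm.mul_apply,
        Equiv.Perm.mul_apply, hb, hg, map_add, Equiv.Perm.inv_def]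
      conv_rhs => rw [← h]
      abel
    · obtain ⟨σ, hσ, hσv⟩ := ReeSpec2515.exists_mem (1 : F) (one_mul 1) 1 1
      have hm : (⟨σ, hσ⟩ : ReeSpec2515.aff F) ∈ P := ⟨1, fun v => by
        simp [hσv, ReeSpec2515.op_one]⟩
      rw [hbot, Subgroup.mem_bot] at hm
      have h := congrArg (fun g : ReeSpec2515.aff F => (g : Equiv.Perm (Matrix (Fin 2) (Fin 2) F)) 0) hm
      simp [hσv] at h
    · obtain ⟨b, hb⟩ := g.2
      refine Subtype.ext (Subtype.ext (Equiv.ext fun v => ?_))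
      have h3' : (3 : F) = 0 := CharP.cast_eq_zero F 3
      simp only [pow_one, pow_succ, pow_zero, one_mul, SubmonoidClass.coe_pow, Subgroup.coe_mul,
        Equiv.Perm.mul_apply, hb, OneMemClass.coe_one, Equiv.Perm.one_apply]
      ext i j
      simp only [Matrix.add_apply]
      linear_combination (b i j) * h3'
  · have hmem : ∀ σ ∈ ReeSpec2515.aff F, orderOf σ ∈ Set.range (orderOf : ReeSpec2515.aff F → ℕ) :=
      fun σ hσ => ⟨⟨σ, hσ⟩, Subgroup.orderOf_mk σ hσ⟩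
    have hall : ∀ m ∈ Set.range (orderOf : ReeSpec2515.aff F → ℕ),
        m ∣ 6 ∨ m ∣ 9 ∨ m ∣ 3 ^ α - 1 ∨ m ∣ (3 ^ α + 1) / 2 := by
      rintro m ⟨σ, rfl⟩
      rw [← Subgroup.orderOf_coe]
      exact ReeSpec2515.orderOf_dvd hF h8 h3 σ.2
    obtain ⟨s₁, h₁, e₁⟩ := ReeSpec2515.exists_order_six (F := F)
    obtain ⟨s₂, h₂, e₂⟩ := ReeSpec2515.exists_order_nine (F := F)
    obtain ⟨s₃, h₃, e₃⟩ := ReeSpec2515.exists_order_pred hF h8
    obtain ⟨s₄, h₄, e₄⟩ := ReeSpec2515.exists_order_half hF h8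
    have r₁ : (6 : ℕ) ∈ _ := e₁ ▸ hmem s₁ h₁
    have r₂ : (9 : ℕ) ∈ _ := e₂ ▸ hmem s₂ h₂
    have r₃ : (3 ^ α - 1 : ℕ) ∈ _ := e₃ ▸ hmem s₃ h₃
    have r₄ : ((3 ^ α + 1) / 2 : ℕ) ∈ _ := e₄ ▸ hmem s₄ h₄
    generalize 3 ^ α = q at *
    have anti : ∀ x ∈ ({6, 9, q - 1, (q + 1) / 2} : Set ℕ), ∀ y ∈ ({6, 9, q - 1, (q + 1) / 2} : Set ℕ),
        x ∣ y → x = y := by
      rintro x (rfl | rfl | rfl | rfl) y (rfl | rfl | rfl | rfl) hd <;> try omega
      · exact absurd (Nat.le_of_dvd (by norm_num) hd) (by omega)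
      · exact absurd (Nat.le_of_dvd (by norm_num) hd) (by omega)
      · exact absurd (Nat.le_of_dvd (by omega) hd) (by omega)
      · exact absurd (Nat.le_of_dvd (by norm_num) hd) (by omega)
      · exact absurd (Nat.le_of_dvd (by norm_num) hd) (by omega)
      · exfalso
        have h := Nat.dvd_sub (dvd_mul_left ((q + 1) / 2) 2) hd
        rw [show 2 * ((q + 1) / 2) - (q - 1) = 2 by omega] at h
        have := Nat.le_of_dvd (by norm_num) h
        omega
    ext n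
    constructor
    · rintro ⟨hn, hmax⟩
      rcases hall n hn with h | h | h | h
      · exact Or.inl (hmax 6 r₁ h).symm
      · exact Or.inr (Or.inl (hmax 9 r₂ h).symm)
      · exact Or.inr (Or.inr (Or.inl (hmax _ r₃ h).symm))
      · exact Or.inr (Or.inr (Or.inr (hmax _ r₄ h).symm))
    · intro hn
      refine ⟨?_, fun m hm hd => ?_⟩
      · rcases hn with rfl | rfl | rfl | rfl <;> assumption
      · obtain ⟨y, hy, hmy⟩ : ∃ y ∈ ({6, 9, q - 1, (q + 1) / 2} : Set ℕ), m ∣ y := by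
          rcases hall m hm with h | h | h | h
          · exact ⟨_, Or.inl rfl, h⟩
          · exact ⟨_, Or.inr (Or.inl rfl), h⟩
          · exact ⟨_, Or.inr (Or.inr (Or.inl rfl)), h⟩
          · exact ⟨_, Or.inr (Or.inr (Or.inr rfl)), h⟩
        obtain rfl := anti n hn y hy (hd.trans hmy)
        exact Nat.dvd_antisymm hmy hd

end Cfsg.Agent.S2515
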