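import Cfsg.Statements.S2516
-- import your own Cfsg.Agent.* helpers here

set_option autoImplicit false
open Cfsg

namespace Cfsg.Agent.S2516


/-- Let F be a field of characteristic p > 0, V a non-zero finite-dimensional F-vector space, G a finite group and ρ a representation of G on V; form the semidirect product V ⋊ G. For g ∈ G of order k, the coset Vg contains an element of order pk if and only if the minimal polynomial of ρ(g) does not divide 1 + X + ⋯ + X^(k−1). -/
theorem result {F : Type*} [Field F] (p : ℕ) [Fact p.Prime] [CharP F p] {V : Type*} [AddCommGroup V] [Module F V] [FiniteDimensional F V] [Nontrivial V]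
    {G : Type*} [Group G] [Finite G] (ρ : Representation F G V) (g : G) :
    (∃ x : Multiplicative V ⋊[(MulAutMultiplicative V).symm.toMonoidHom.comp
        ((DistribMulAction.toAddAut ((V →ₗ[F] V)ˣ) V).comp ρ.asGroupHom)] G,
        x.right = g ∧ orderOf x = p * orderOf g) ↔
      ¬ (minpoly F (ρ g) ∣ ∑ i ∈ Finset.range (orderOf g), (Polynomial.X : Polynomial F) ^ i) := by
  classical
  set k := orderOf g with hk
  let q : Polynomial F := ∑ i ∈ Finset.range k, Polynomial.X ^ i
  have hN : ∀ v : V, Polynomial.aeval (ρ g) q v = ∑ i ∈ Finset.range k, (ρ (g ^ i)) v := fun v => by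
    simp [q, map_pow]
  rw [show (¬ minpoly F (ρ g) ∣ q) ↔ ∃ v : V, (∑ i ∈ Finset.range k, (ρ (g ^ i)) v) ≠ 0 by
    rw [minpoly.dvd_iff, LinearMap.ext_iff, not_forall]
    exact exists_congr fun v => by rw [hN, LinearMap.zero_apply]]
  set φ := (MulAutMultiplicative V).symm.toMonoidHom.comp ((DistribMulAction.toAddAut ((V →ₗ[F] V)ˣ) V).comp ρ.asGroupHom)
  have hφ : ∀ (a : G) (v : V), φ a (Multiplicative.ofAdd v) = Multiplicative.ofAdd (ρ a v) := fun a v => rfl
  have hpow : ∀ (v : V) (m : ℕ), (⟨Multiplicative.ofAdd v, g⟩ : Multiplicative V ⋊[φ] G) ^ m =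
      ⟨Multiplicative.ofAdd (∑ i ∈ Finset.range m, (ρ (g ^ i)) v), g ^ m⟩ := fun v m => by
    induction m with
    | zero => rw [pow_zero, Finset.sum_range_zero, pow_zero]; rfl
    | succ m ih =>
      rw [pow_succ, ih]
      ext
      · rw [SemidirectProduct.mul_left, hφ, Finset.sum_range_succ]; rfl
      · rw [SemidirectProduct.mul_right, pow_succ]
  have hord : ∀ v : V, orderOf (⟨Multiplicative.ofAdd v, g⟩ : Multiplicative V ⋊[φ] G) =
      k * (if (∑ i ∈ Finset.range k, (ρ (g ^ i)) v) = 0 then 1 else p) := fun v => by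
    set x : Multiplicative V ⋊[φ] G := ⟨Multiplicative.ofAdd v, g⟩
    have hkd : k ∣ orderOf x := orderOf_map_dvd SemidirectProduct.rightHom x
    have hx : x ^ k = SemidirectProduct.inl (Multiplicative.ofAdd (∑ i ∈ Finset.range k, (ρ (g ^ i)) v)) := by
      rw [hpow, hk, pow_orderOf_eq_one]; rfl
    have hfin : IsOfFinOrder x := isOfFinOrder_iff_pow_eq_one.mpr ⟨k * p, Nat.mul_pos (orderOf_pos g) (Fact.out : p.Prime).pos, by
      rw [pow_mul, hx, ← map_pow, ← ofAdd_nsmul, ← Nat.cast_smul_eq_nsmul F, CharP.cast_eq_zero, zero_smul, ofAdd_zero, map_one]⟩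
    have h2 : orderOf (x ^ k) = if (∑ i ∈ Finset.range k, (ρ (g ^ i)) v) = 0 then 1 else p := by
      split_ifs with h
      · rw [hx, h, ofAdd_zero, map_one, orderOf_one]
      · rw [hx, orderOf_injective _ SemidirectProduct.inl_injective]
        refine orderOf_eq_prime ?_ (by rwa [ne_eq, ofAdd_eq_one])
        rw [← ofAdd_nsmul, ← Nat.cast_smul_eq_nsmul F, CharP.cast_eq_zero, zero_smul, ofAdd_zero]
    rw [← h2, orderOf_pow_of_dvd (orderOf_pos g).ne' hkd, Nat.mul_div_cancel' hkd]
  constructor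
  · rintro ⟨⟨l, r⟩, hr, ho⟩
    obtain rfl : r = g := hr
    refine ⟨Multiplicative.toAdd l, fun h0 => ?_⟩
    rw [← ofAdd_toAdd l, hord, if_pos h0, mul_one] at ho
    have := (orderOf_pos r)
    have := lt_mul_of_one_lt_left this (Fact.out : p.Prime).one_lt
    rw [← hk] at *
    omega
  · rintro ⟨v, hv⟩
    exact ⟨⟨Multiplicative.ofAdd v, g⟩, rfl, by rw [hord, if_neg hv, mul_comm]⟩

end Cfsg.Agent.S2516
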