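import Cfsg.Statements.S2518
import Cfsg.Agent.Recognition.G2Three.Graph
import Cfsg.Agent.Recognition.PSL2Spectrum
import Cfsg.Agent.Lib.Chevalley.FieldAut
-- import your own Cfsg.Agent.* helpers here

set_option autoImplicit false
open Cfsg

namespace Cfsg.Agent.S2518

open Cfsg.Agent.Recognition Cfsg.Lie in
theorem transfer {F : Type*} [Field F] [Fintype F] (hF : Fintype.card F = 3) :
    Nonempty (↥(chevG2.group F) ≃* G2Three.G) := by
  have f : F ≃+* G2Three.K3 := FiniteField.ringEquivOfCardEq (by rw [hF, ZMod.card])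
  exact ⟨{
    toFun := fun g => ⟨Cfsg.Agent.Chevalley.FieldAut.mapGL chevG2 f.toRingHom g,
      Cfsg.Agent.Chevalley.FieldAut.map_mem_group f.toRingHom g.2⟩
    invFun := fun g => ⟨Cfsg.Agent.Chevalley.FieldAut.mapGL chevG2 f.symm.toRingHom g,
      Cfsg.Agent.Chevalley.FieldAut.map_mem_group f.symm.toRingHom g.2⟩
    left_inv := fun g => Subtype.ext (Units.ext (Matrix.ext fun a b => f.symm_apply_apply _))
    right_inv := fun g => Subtype.ext (Units.ext (Matrix.ext fun a b => f.apply_symm_apply _))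
    map_mul' := fun g h => Subtype.ext
      (map_mul (Cfsg.Agent.Chevalley.FieldAut.mapGL chevG2 f.toRingHom) (g : GL chevG2.Idx F) h) }⟩

open Cfsg.Agent.Recognition in
theorem psl13_range {E : Type*} [Field E] [Fintype E] (hE : Fintype.card E = 13) :
    Set.range (orderOf : Matrix.ProjectiveSpecialLinearGroup (Fin 2) E → ℕ) = {d | d ∣ 13 ∨ d ∣ 6 ∨ d ∣ 7} := by
  haveI : Fact (Nat.Prime 13) := ⟨by norm_num⟩
  haveI : CharP E 13 := charP_of_card_eq_prime hE
  rw [PSL2Spectrum.range_orderOf_psl (F := E) (p := 13) (n := 1) (by rw [hE, pow_one]) one_pos (by norm_num)]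
  norm_num [PSL2Spectrum.half]

/-- Let F₃ be the field with 3 elements and F₁₃ the field with 13 elements. The Chevalley group G₂(F₃) and PSL(2, F₁₃) have the same prime graph: the same prime divisors of their orders, and for distinct primes r, s an element of order rs in one iff in the other. -/
theorem result {F : Type*} [Field F] [Fintype F] (hF : Fintype.card F = 3) {E : Type*} [Field E] [Fintype E] (hE : Fintype.card E = 13) :
    ((∀ r : ℕ, r.Prime → (r ∣ Nat.card ↥(Cfsg.Lie.chevG2.group F) ↔ r ∣ Nat.card (Matrix.ProjectiveSpecialLinearGroup (Fin 2) E))) ∧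
      (∀ r s : ℕ, r.Prime → s.Prime → r ≠ s → ((∃ x : ↥(Cfsg.Lie.chevG2.group F), orderOf x = r * s) ↔ (∃ y : (Matrix.ProjectiveSpecialLinearGroup (Fin 2) E), orderOf y = r * s)))) := by
  obtain ⟨e⟩ := transfer hF
  have hspec := psl13_range hE
  have hP : ∀ d, (∃ y : Matrix.ProjectiveSpecialLinearGroup (Fin 2) E, orderOf y = d) ↔
      (d ∣ 13 ∨ d ∣ 6 ∨ d ∣ 7) := fun d => by
    have := Set.ext_iff.1 hspec d
    simpa using this
  have h6 : (6 : ℕ).divisors = {1, 2, 3, 6} := by decide
  refine ⟨fun r hr => ?_, fun r s hr hs hrs => ?_⟩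
  · haveI : Fact r.Prime := ⟨hr⟩
    rw [Nat.card_congr e.toEquiv, Cfsg.Agent.Recognition.G2Three.prime_dvd_iff hr]
    constructor
    · intro h
      obtain ⟨y, hy⟩ := (hP r).2 (by rcases h with rfl | rfl | rfl | rfl <;> norm_num)
      exact hy ▸ orderOf_dvd_natCard y
    · intro h
      obtain ⟨y, hy⟩ := exists_prime_orderOf_dvd_card' r h
      rcases (hP r).1 ⟨y, hy⟩ with h' | h' | h'
      · exact Or.inr (Or.inr (Or.inr ((Nat.prime_dvd_prime_iff_eq hr (by norm_num)).1 h')))
      · have := Nat.mem_divisors.2 ⟨h', by norm_num⟩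
        rw [h6] at this
        simp only [Finset.mem_insert, Finset.mem_singleton] at this
        rcases this with rfl | rfl | rfl | rfl <;> (try norm_num at hr) <;> norm_num
      · exact Or.inr (Or.inr (Or.inl ((Nat.prime_dvd_prime_iff_eq hr (by norm_num)).1 h')))
  · have h1 : (∃ x : ↥(Cfsg.Lie.chevG2.group F), orderOf x = r * s) ↔
        ∃ x : Cfsg.Agent.Recognition.G2Three.G, orderOf x = r * s := by
      constructor
      · rintro ⟨x, hx⟩
        exact ⟨e x, by rw [MulEquiv.orderOf_eq]; exact hx⟩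
      · rintro ⟨x, hx⟩
        exact ⟨e.symm x, by rw [MulEquiv.orderOf_eq]; exact hx⟩
    rw [h1, Cfsg.Agent.Recognition.G2Three.exists_prime_mul_iff hr hs hrs, hP]
    refine ⟨fun h => Or.inr (Or.inl (h ▸ dvd_rfl)), fun h => ?_⟩
    have hne : ∀ p : ℕ, p.Prime → ¬ r * s ∣ p := fun p hp hd => by
      rcases (Nat.dvd_prime hp).1 hd with h1 | h1
      · exact hr.ne_one (Nat.eq_one_of_mul_eq_one_right h1)
      · exact Nat.not_prime_mul hr.ne_one hs.ne_one (h1 ▸ hp)
    rcases h with h | h | h
    · exact absurd h (hne 13 (by norm_num))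
    · have hm := Nat.mem_divisors.2 ⟨h, by norm_num⟩
      rw [h6] at hm
      simp only [Finset.mem_insert, Finset.mem_singleton] at hm
      rcases hm with h1 | h1 | h1 | h1
      · exact absurd (Nat.eq_one_of_mul_eq_one_right h1) hr.ne_one
      · exact absurd (h1 ▸ Nat.prime_two) (Nat.not_prime_mul hr.ne_one hs.ne_one)
      · exact absurd (h1 ▸ Nat.prime_three) (Nat.not_prime_mul hr.ne_one hs.ne_one)
      · exact h1
    · exact absurd h (hne 7 (by norm_num))

end Cfsg.Agent.S2518
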