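import Cfsg.Statements.S2523
import Cfsg.Agent.Lib.ClassSquareGauss.Linear
import Cfsg.Agent.Lib.ClassSquareGauss.Symp
import Cfsg.Agent.Lib.ClassSquareGauss.Plus
import Cfsg.Agent.Lib.ClassSquareGauss.Odd
import Cfsg.Agent.Lib.Involutions.ClassSquare.G2Cases
import Cfsg.Agent.Lib.ClassSquareGauss.Chev.TypeF4
import Cfsg.Agent.Lib.ClassSquareGauss.Chev.TypeE6
import Cfsg.Agent.Lib.ClassSquareGauss.Chev.TypeE7
import Cfsg.Agent.Lib.ClassSquareGauss.Chev.TypeE8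

set_option autoImplicit false
open Cfsg

namespace Cfsg.Agent.S2523

private theorem transport {G M : Type*} [Group G] [Group M] (e : G ≃* M)
    (h : ∃ c : M, ∀ g : M, ∃ x y : M, g = (x * c * x⁻¹) * (y * c * y⁻¹)) :
    ∃ c : G, ∀ g : G, ∃ x y : G, g = (x * c * x⁻¹) * (y * c * y⁻¹) := by
  obtain ⟨c, h⟩ := h
  refine ⟨e.symm c, fun g => ?_⟩
  obtain ⟨x, y, hg⟩ := h (e g)
  refine ⟨e.symm x, e.symm y, e.injective ?_⟩
  simp [hg]

/-- Let F be a finite field with at least 9 elements and let G be one of PSL(n, F) (n ≥ 2), PSp(2m, F) (m ≥ 2), PΩ(2m+1, F) (m ≥ 3, here q odd), PΩ⁺(2m, F) (m ≥ 4), or the Chevalley group of type G₂, F₄, E₆, E₇ or E₈ over F. Then G is the square of one of its conjugacy classes (Thompson's conjecture on products of conjugacy classes, not his conjecture on class sizes): there is a conjugacy class C of G with C·C = G, i.e. every element of G is a product of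 two elements of C. -/
theorem result {F : Type*} [Field F] [Fintype F] (hF : 9 ≤ Fintype.card F) {G : Type*} [Group G] [Finite G]
    (hG : (∃ n : ℕ, 2 ≤ n ∧ Nonempty (G ≃* Matrix.ProjectiveSpecialLinearGroup (Fin n) F)) ∨
      (∃ m : ℕ, 2 ≤ m ∧ Nonempty (G ≃* Cfsg.PSp m F)) ∨
      (∃ m : ℕ, 3 ≤ m ∧ Odd (Fintype.card F) ∧ Nonempty (G ≃* Cfsg.POmega F (Cfsg.quadFormOdd m F))) ∨
      (∃ m : ℕ, 4 ≤ m ∧ Nonempty (G ≃* Cfsg.POmega F (Cfsg.quadFormPlus m F))) ∨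
      Nonempty (G ≃* ↥(Cfsg.Lie.chevG2.group F)) ∨ Nonempty (G ≃* ↥(Cfsg.Lie.chevF4.group F)) ∨
      Nonempty (G ≃* ↥(Cfsg.Lie.chevE6.group F)) ∨ Nonempty (G ≃* ↥(Cfsg.Lie.chevE7.group F)) ∨ Nonempty (G ≃* ↥(Cfsg.Lie.chevE8.group F))) :
    ∃ c : G, ∀ g : G, ∃ x y : G, g = (x * c * x⁻¹) * (y * c * y⁻¹) := by
  rcases hG with ⟨n, hn, ⟨e⟩⟩ | ⟨m, hm, ⟨e⟩⟩ | ⟨m, hm, hodd, ⟨e⟩⟩ | ⟨m, hm, ⟨e⟩⟩ | ⟨⟨e⟩⟩ | ⟨⟨e⟩⟩ |
    ⟨⟨e⟩⟩ | ⟨⟨e⟩⟩ | ⟨⟨e⟩⟩
  · exact Cfsg.Agent.ClassSquareGauss.Linear.exists_class hF n hn e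
  · exact Cfsg.Agent.ClassSquareGauss.Symp.exists_class hF m hm e
  · exact Cfsg.Agent.ClassSquareGauss.Odd.exists_class hF m hm hodd e
  · exact Cfsg.Agent.ClassSquareGauss.Plus.exists_class hF m hm e
  · obtain ⟨p, hp⟩ := CharP.exists F
    haveI := hp
    haveI : Fact p.Prime := ⟨CharP.char_is_prime F p⟩
    obtain ⟨x, -, h⟩ :=
      Cfsg.Agent.Involutions.ClassSquare.G2.exists_semisimple_class (F := F) p (by omega)
    exact transport e ⟨x, h⟩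
  · exact transport e (Cfsg.Agent.ClassSquareGauss.Chev.F4.exists_class hF)
  · exact transport e (Cfsg.Agent.ClassSquareGauss.Chev.E6.exists_class hF)
  · exact transport e (Cfsg.Agent.ClassSquareGauss.Chev.E7.exists_class hF)
  · exact transport e (Cfsg.Agent.ClassSquareGauss.Chev.E8.exists_class hF)

end Cfsg.Agent.S2523
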