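import Cfsg.Statements.S2525
import Cfsg.Agent.Lib.Chevalley.F4Graph.Semisimple
import Cfsg.Agent.Lib.Chevalley.F4Graph.Levi

set_option autoImplicit false
open Cfsg

namespace Cfsg.Agent.S2525

open Cfsg.Lie Cfsg.Agent.Chevalley

variable {F : Type*} [Field F] [Fintype F]

/-- An element of order a product of two primes is the same as two commuting elements. -/
theorem exists_mul_iff {G : Type*} [Group G] {r s : ℕ} (hr : r.Prime) (hs : s.Prime) (hrs : r ≠ s) :
    (∃ z : G, orderOf z = r * s) ↔ ∃ x y : G, orderOf x = r ∧ orderOf y = s ∧ Commute x y := by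
  constructor
  · rintro ⟨z, hz⟩
    refine ⟨z ^ s, z ^ r, ?_, ?_, (Commute.refl z).pow_pow s r⟩
    · rw [orderOf_pow_of_dvd hs.ne_zero (hz ▸ dvd_mul_left s r), hz, Nat.mul_div_cancel _ hs.pos]
    · rw [orderOf_pow_of_dvd hr.ne_zero (hz ▸ dvd_mul_right r s), hz, Nat.mul_div_cancel_left _ hr.pos]
  · rintro ⟨x, y, hx, hy, h⟩
    exact ⟨x * y, by rw [h.orderOf_mul_eq_mul_orderOf_of_coprime
      (by rw [hx, hy]; exact (Nat.coprime_primes hr hs).2 hrs), hx, hy]⟩

/-- The primitive orders of the odd primes dividing the order of the group. -/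
theorem orders {q r : ℕ} {n : ℕ} (hq : Fintype.card F = q) (hq2 : q = 2 ^ n) (hr : r.Prime) (hr2 : r ≠ 2)
    (h : r ∣ Nat.card (chevF4.group F)) :
    orderOf (q : ZMod r) = 1 ∨ orderOf (q : ZMod r) = 2 ∨ orderOf (q : ZMod r) = 3 ∨
      orderOf (q : ZMod r) = 4 ∨ orderOf (q : ZMod r) = 6 ∨ orderOf (q : ZMod r) = 8 ∨
        orderOf (q : ZMod r) = 12 := by
  have hc := Types.OrderF4.card_group F
  rw [show (∏ i, Nat.gcd (Fintype.card F - 1) (Types.OrderF4.ed i)) = 1 by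
    simp [Types.OrderF4.ed, Fin.prod_univ_four], one_mul, hq] at hc
  rw [hc] at h
  simp only [List.map_cons, List.map_nil, List.prod_cons, List.prod_nil, mul_one] at h
  have hq1 : 1 ≤ q := hq2 ▸ Nat.one_le_two_pow
  have key : ∀ d, r ∣ q ^ d - 1 → orderOf (q : ZMod r) ∣ d := fun d hd => by
    refine orderOf_dvd_of_pow_eq_one ?_
    rw [← sub_eq_zero, ← Nat.cast_pow, ← Nat.cast_one (R := ZMod r),
      ← Nat.cast_sub (Nat.one_le_pow _ _ hq1), ZMod.natCast_eq_zero_iff]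
    exact hd
  have hd : ∃ d, (d = 2 ∨ d = 6 ∨ d = 8 ∨ d = 12) ∧ orderOf (q : ZMod r) ∣ d := by
    rcases hr.dvd_mul.1 h with h | h
    · exact absurd ((Nat.prime_dvd_prime_iff_eq hr Nat.prime_two).1
        (hr.dvd_of_dvd_pow (hq2 ▸ hr.dvd_of_dvd_pow h))) hr2
    rcases hr.dvd_mul.1 h with h | h
    · exact ⟨2, by simp, key 2 h⟩
    rcases hr.dvd_mul.1 h with h | h
    · exact ⟨6, by simp, key 6 h⟩
    rcases hr.dvd_mul.1 h with h | h
    · exact ⟨8, by simp, key 8 h⟩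
    · exact ⟨12, by simp, key 12 h⟩
  obtain ⟨d, hd, hdd⟩ := hd
  generalize orderOf (q : ZMod r) = e at hdd ⊢
  have hle := Nat.le_of_dvd (by omega) hdd
  rcases hd with rfl | rfl | rfl | rfl <;> interval_cases e <;> simp_all +decide

/-- A prime with a small primitive order divides the order of the Levi part. -/
theorem dvd_levi {q r : ℕ} (hq1 : 1 ≤ q) (h : orderOf (q : ZMod r) = 1 ∨ orderOf (q : ZMod r) = 2 ∨
    orderOf (q : ZMod r) = 3 ∨ orderOf (q : ZMod r) = 4 ∨ orderOf (q : ZMod r) = 6) :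
    r ∣ (q ^ 2 - 1) * (q ^ 4 - 1) * (q ^ 6 - 1) := by
  have key : ∀ d, orderOf (q : ZMod r) ∣ d → r ∣ q ^ d - 1 := fun d hd => by
    rw [← ZMod.natCast_eq_zero_iff, Nat.cast_sub (Nat.one_le_pow _ _ hq1), Nat.cast_pow, Nat.cast_one,
      orderOf_dvd_iff_pow_eq_one.1 hd, sub_self]
  rcases h with h | h | h | h | h
  · exact dvd_mul_of_dvd_left (dvd_mul_of_dvd_left (key 2 (by rw [h]; norm_num)) _) _
  · exact dvd_mul_of_dvd_left (dvd_mul_of_dvd_left (key 2 (by rw [h])) _) _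
  · exact dvd_mul_of_dvd_right (key 6 (by rw [h]; norm_num)) _
  · exact dvd_mul_of_dvd_left (dvd_mul_of_dvd_right (key 4 (by rw [h])) _) _
  · exact dvd_mul_of_dvd_right (key 6 (by rw [h])) _

theorem dvd_small {q r : ℕ} (hq1 : 1 ≤ q)
    (h : orderOf (q : ZMod r) = 1 ∨ orderOf (q : ZMod r) = 2) : r ∣ q * (q ^ 2 - 1) := by
  refine dvd_mul_of_dvd_right ?_ q
  rw [← ZMod.natCast_eq_zero_iff, Nat.cast_sub (Nat.one_le_pow _ _ hq1), Nat.cast_pow, Nat.cast_one,
    orderOf_dvd_iff_pow_eq_one.1 (show orderOf (q : ZMod r) ∣ 2 by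
      rcases h with h | h <;> rw [h]; norm_num), sub_self]


/-- Let F be a finite field with q = 2^n elements and G = F₄(F). For an odd prime r let e(r, q) be the multiplicative order of q modulo r. Two distinct primes r, s dividing the order of G are non-adjacent in the prime graph of G (no element of order rs) if and only if, up to swapping r and s, either r = 2 and e(s, q) ∈ {8, 12}, or r, s are both odd with k = e(r, q) < l = e(s, q) and one of: l ∈ {8, 12}; l = 6 and k ∈ {3, 4}; l = 4 and k = 3. -/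
theorem result {F : Type*} [Field F] [Fintype F] (n : ℕ) (hn : 1 ≤ n) (hF : Fintype.card F = 2 ^ n)
    (r s : ℕ) (hr : r.Prime) (hs : s.Prime) (hrs : r ≠ s) (hrG : r ∣ Nat.card ↥(Cfsg.Lie.chevF4.group F)) (hsG : s ∣ Nat.card ↥(Cfsg.Lie.chevF4.group F)) :
    (¬ ∃ x : ↥(Cfsg.Lie.chevF4.group F), orderOf x = r * s) ↔
      ((r = 2 ∧ orderOf ((Fintype.card F : ℕ) : ZMod s) ∈ ({8, 12} : Finset ℕ)) ∨ (s = 2 ∧ orderOf ((Fintype.card F : ℕ) : ZMod r) ∈ ({8, 12} : Finset ℕ)) ∨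
       (r ≠ 2 ∧ s ≠ 2 ∧
         ((orderOf ((Fintype.card F : ℕ) : ZMod r) < orderOf ((Fintype.card F : ℕ) : ZMod s) ∧ (orderOf ((Fintype.card F : ℕ) : ZMod s) ∈ ({8, 12} : Finset ℕ) ∨ (orderOf ((Fintype.card F : ℕ) : ZMod s) = 6 ∧ orderOf ((Fintype.card F : ℕ) : ZMod r) ∈ ({3, 4} : Finset ℕ)) ∨ (orderOf ((Fintype.card F : ℕ) : ZMod s) = 4 ∧ orderOf ((Fintype.card F : ℕ) : ZMod r) = 3))) ∨
          (orderOf ((Fintype.card F : ℕ) : ZMod s) < orderOf ((Fintype.card F : ℕ) : ZMod r) ∧ (orderOf ((Fintype.card F : ℕ) : ZMod r) ∈ ({8, 12} : Finset ℕ) ∨ (orderOf ((Fintype.card F : ℕ) : ZMod r) = 6 ∧ orderOf ((Fintype.card F : ℕ) : ZMod s) ∈ ({3, 4} : Finset ℕ)) ∨ (orderOf ((Fintype.card F : ℕ) : ZMod r) = 4 ∧ orderOf ((Fintype.card F : ℕ) : ZMod s) = 3)))))) := by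
  classical
  haveI : CharP F 2 := by
    obtain ⟨p, hp⟩ := CharP.exists F
    obtain ⟨m, hm, hm'⟩ := FiniteField.card F p
    have : p ∣ 2 ^ n := hF ▸ hm' ▸ dvd_pow_self p m.ne_zero
    rwa [(Nat.prime_dvd_prime_iff_eq hm Nat.prime_two).1 (hm.dvd_of_dvd_pow this)] at hp
  haveI : Fact r.Prime := ⟨hr⟩
  haveI : Fact s.Prime := ⟨hs⟩
  obtain ⟨q, hq⟩ : ∃ q, Fintype.card F = q := ⟨_, rfl⟩
  rw [hq] at hF ⊢
  have hq1 : 1 ≤ q := hq ▸ Fintype.card_pos
  have hq2 : 2 ∣ q := hF ▸ dvd_pow_self 2 (by omega)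
  obtain ⟨K, _, _, f, σ, hE⟩ := F4Graph.Frame.exists_ext (F := F) hq
  rw [exists_mul_iff hr hs hrs]
  simp only [Finset.mem_insert, Finset.mem_singleton]
  -- commuting elements in the adjacent cases
  have small : ∀ {a b : ℕ}, a.Prime → b.Prime → b ≠ 2 →
      (a = 2 ∨ orderOf (q : ZMod a) = 1 ∨ orderOf (q : ZMod a) = 2) →
      (orderOf (q : ZMod b) = 1 ∨ orderOf (q : ZMod b) = 2 ∨ orderOf (q : ZMod b) = 3 ∨
        orderOf (q : ZMod b) = 4 ∨ orderOf (q : ZMod b) = 6) →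
      ∃ x y : chevF4.group F, orderOf x = a ∧ orderOf y = b ∧ Commute x y := by
    intro a b ha hb hb2 hea heb
    haveI : Fact a.Prime := ⟨ha⟩
    haveI : Fact b.Prime := ⟨hb⟩
    refine F4Graph.Levi.adjacent hq ?_ hb2 (dvd_levi hq1 heb)
    rcases hea with rfl | hea
    · exact dvd_mul_of_dvd_left hq2 _
    · exact dvd_small hq1 hea
  have flip : ∀ {a b : ℕ}, (∃ x y : chevF4.group F, orderOf x = a ∧ orderOf y = b ∧ Commute x y) →
      ∃ x y : chevF4.group F, orderOf x = b ∧ orderOf y = a ∧ Commute x y :=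
    fun ⟨x, y, hx, hy, h⟩ => ⟨y, x, hy, hx, h.symm⟩
  constructor
  · intro hno
    by_contra hcon
    apply hno
    rcases eq_or_ne r 2 with hr2 | hr2
    · have hs2 : s ≠ 2 := fun h => hrs (hr2.trans h.symm)
      refine small hr hs hs2 (Or.inl hr2) ?_
      rcases orders hq hF hs hs2 hsG with h | h | h | h | h | h | h <;> simp [h, hr2] at hcon ⊢
    rcases eq_or_ne s 2 with hs2 | hs2
    · refine flip (small hs hr hr2 (Or.inl hs2) ?_)
      rcases orders hq hF hr hr2 hrG with h | h | h | h | h | h | h <;> simp [h, hs2] at hcon ⊢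
    rcases orders hq hF hr hr2 hrG with ha | ha | ha | ha | ha | ha | ha <;>
      rcases orders hq hF hs hs2 hsG with hb | hb | hb | hb | hb | hb | hb <;>
      first
        | exact small hr hs hs2 (by omega) (by omega)
        | exact flip (small hs hr hr2 (by omega) (by omega))
        | exact F4Graph.Semisimple.mid_adjacent hE hq (by omega) ha hb hrG
        | exact F4Graph.Semisimple.big_adjacent hE (by omega) ha hb hsG
        | exact absurd (Or.inr (Or.inr ⟨hr2, hs2, by omega⟩)) hcon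
  · rintro h ⟨x, y, hx, hy, hxy⟩
    rcases h with ⟨h2, h⟩ | ⟨h2, h⟩ | ⟨hr2, hs2, ⟨hlt, h⟩ | ⟨hlt, h⟩⟩
    · exact (F4Graph.Semisimple.big_commute hE hq2 h rfl hx hy hxy).1 h2
    · exact (F4Graph.Semisimple.big_commute hE hq2 h rfl hy hx hxy.symm).1 h2
    · rcases h with h | ⟨hl, hk⟩ | ⟨hl, hk⟩
      · exact hlt.ne (F4Graph.Semisimple.big_commute hE hq2 h rfl hx hy hxy).2
      · exact F4Graph.Semisimple.mid_not_commute hE (by omega) (by omega) hlt.ne rfl rfl hx hy hxy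
      · exact F4Graph.Semisimple.mid_not_commute hE (by omega) (by omega) hlt.ne rfl rfl hx hy hxy
    · rcases h with h | ⟨hl, hk⟩ | ⟨hl, hk⟩
      · exact hlt.ne (F4Graph.Semisimple.big_commute hE hq2 h rfl hy hx hxy.symm).2
      · exact F4Graph.Semisimple.mid_not_commute hE (by omega) (by omega) hlt.ne rfl rfl hy hx hxy.symm
      · exact F4Graph.Semisimple.mid_not_commute hE (by omega) (by omega) hlt.ne rfl rfl hy hx hxy.symm

end Cfsg.Agent.S2525
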