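import Cfsg.Statements.S2531
import Mathlib

set_option autoImplicit false
open Cfsg

namespace Cfsg.Agent.S2531

open Projectivization

variable {F : Type*} [Field F] {V : Type*} [AddCommGroup V] [Module F V]

/-- the points of a subspace -/
def pts (W : Submodule F V) : Set (Projectivization F V) := {x | x.rep ∈ W}

theorem mk_mem_pts (W : Submodule F V) (v : V) (hv : v ≠ 0) :
    Projectivization.mk F v hv ∈ pts W ↔ v ∈ W := by
  obtain ⟨c, hc⟩ := Projectivization.exists_smul_eq_mk_rep F v hv
  show (Projectivization.mk F v hv).rep ∈ W ↔ v ∈ W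
  rw [← hc, Units.smul_def]
  exact W.smul_mem_iff c.ne_zero

theorem pts_eq_range (W : Submodule F V) :
    pts W = Set.range (Projectivization.map W.subtype W.injective_subtype) := by
  ext x
  constructor
  · intro hx
    refine ⟨Projectivization.mk F ⟨x.rep, hx⟩ (by simpa [Subtype.ext_iff] using x.rep_nonzero), ?_⟩
    rw [Projectivization.map_mk]
    exact x.mk_rep
  · rintro ⟨y, rfl⟩
    induction y using Projectivization.ind with
    | _ v hv =>
      rw [Projectivization.map_mk, mk_mem_pts]
      exact v.2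

theorem card_pts_mod [Finite F] [Finite V] (p : ℕ) [Fact p.Prime] (hF : (Nat.card F : ZMod p) = 0)
    (W : Submodule F V) (hW : W ≠ ⊥) : (Nat.card (pts W) : ZMod p) = 1 := by
  rw [pts_eq_range, Nat.card_range_of_injective (Projectivization.map_injective _ _)]
  have h := Projectivization.card' (k := F) (V := W)
  have hc := congrArg (Nat.cast : ℕ → ZMod p) h
  rw [Nat.cast_add, Nat.cast_mul, Nat.cast_sub Nat.card_pos, hF, Nat.cast_one,
    Module.natCard_eq_pow_finrank (K := F) (V := W), Nat.cast_pow, hF,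
    zero_pow (fun h0 => hW (Submodule.finrank_eq_zero.1 h0))] at hc
  linear_combination hc

theorem sharp_false [Finite F] [Finite V] {n : ℕ} (hn : 3 ≤ n) (hV : Module.finrank F V = n)
    (S : Set (Equiv.Perm (Projectivization F V)))
    (hS : ∀ s ∈ S, ∃ (σ : F ≃+* F) (f : V →ₛₗ[(σ : F →+* F)] V) (hf : Function.Injective f),
      ∀ x, s x = Projectivization.map f hf x)
    (a : Projectivization F V) (H M L : Submodule F V)
    (hH : Module.finrank F H = n - 1) (hM : Module.finrank F M = 2) (hL : Module.finrank F L = 2)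
    (haH : a ∉ pts H) (haM : a ∉ pts M) (haL : a ∈ pts L) :
    ¬ (∀ a b c d : Projectivization F V, a ≠ b → c ≠ d → ∃! s, s ∈ S ∧ s a = c ∧ s b = d) := by
  classical
  intro h2
  obtain ⟨p, hpF⟩ := CharP.exists F
  have : Fact p.Prime := ⟨CharP.char_is_prime F p⟩
  have hF : (Nat.card F : ZMod p) = 0 := by
    have := Fintype.ofFinite F
    obtain ⟨k, -, hk⟩ := FiniteField.card F p
    rw [Nat.card_eq_fintype_card, hk, Nat.cast_pow, ZMod.natCast_self, zero_pow k.ne_zero]
  have hq : 2 ≤ Nat.card F := Finite.one_lt_card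
  have : Fintype (Projectivization F V) := Fintype.ofFinite _
  set Sa := {s : Equiv.Perm (Projectivization F V) | s ∈ S ∧ s a = a} with hSa
  -- for a set `C` avoiding `a`: the double count
  have count : ∀ C : Set (Projectivization F V), a ∉ C →
      (∀ W : Submodule F V, Module.finrank F W = n - 1 → a ∉ pts W →
        (Nat.card ↥(pts W ∩ C) : ZMod p) = 1) →
      (Nat.card Sa : ZMod p) = Nat.card (pts H) * Nat.card C := by
    intro C haC hC
    let e : (Σ s : Sa, {x : pts H // s.1 x.1 ∈ C}) ≃ pts H × C :=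
      Equiv.ofBijective (fun t => (t.2.1, ⟨t.1.1 t.2.1.1, t.2.2⟩)) ⟨by
        rintro ⟨s, x, hx⟩ ⟨s', x', hx'⟩ he
        simp only [Prod.mk.injEq, Subtype.mk.injEq] at he
        obtain ⟨rfl, he⟩ := he
        have hne : a ≠ x.1 := fun h => haH (h ▸ x.2)
        have hne' : a ≠ s.1 x.1 := fun h => haC (h ▸ hx)
        obtain ⟨u, -, hu⟩ := h2 a x.1 a (s.1 x.1) hne hne'
        have : s = s' := Subtype.ext ((hu s.1 ⟨s.2.1, s.2.2, rfl⟩).trans
          (hu s'.1 ⟨s'.2.1, s'.2.2, he.symm⟩).symm)
        subst this; rfl, by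
        rintro ⟨x, c⟩
        have hne : a ≠ x.1 := fun h => haH (h ▸ x.2)
        have hne' : a ≠ c.1 := fun h => haC (h ▸ c.2)
        obtain ⟨s, ⟨hs, hsa, hsx⟩, -⟩ := h2 a x.1 a c.1 hne hne'
        exact ⟨⟨⟨s, hs, hsa⟩, ⟨x, by rw [hsx]; exact c.2⟩⟩, Prod.ext rfl (Subtype.ext hsx)⟩⟩
    have hcard := congrArg (Nat.cast : ℕ → ZMod p) (Nat.card_congr e)
    rw [Nat.card_sigma, Nat.cast_sum, Nat.card_prod, Nat.cast_mul] at hcard
    rw [← hcard, Finset.sum_eq_card_nsmul (b := 1) ?_]
    · simp [Nat.card_eq_fintype_card]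
    rintro ⟨s, hs, hsa⟩ -
    obtain ⟨σ, f, hf, hsf⟩ := hS s hs
    have : RingHomSurjective (σ : F →+* F) := ⟨σ.surjective⟩
    set W := H.map f with hWdef
    have hsW : ∀ x, s x ∈ pts W ↔ x ∈ pts H := by
      intro x
      induction x using Projectivization.ind with
      | _ v hv =>
        rw [hsf, Projectivization.map_mk, mk_mem_pts, mk_mem_pts, hWdef, Submodule.mem_map]
        exact ⟨fun ⟨w, hw, hwv⟩ => hf hwv ▸ hw, fun h => ⟨v, h, rfl⟩⟩
    have hWdim : Module.finrank F W = n - 1 := by
      rw [← hH]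
      refine Nat.pow_right_injective hq ?_
      simp only [← Module.natCard_eq_pow_finrank (K := F)]
      refine Nat.card_congr (Equiv.symm ?_)
      exact (Equiv.Set.image f (H : Set V) hf).trans (Equiv.setCongr rfl)
    have haW : a ∉ pts W := fun h => haH ((hsW a).1 (by rw [hsa]; exact h))
    rw [← hC W hWdim haW]
    refine congrArg _ (Nat.card_congr
      { toFun := fun x => ⟨s x.1.1, (hsW _).2 x.1.2, x.2⟩
        invFun := fun y => ⟨⟨s.symm y.1, (hsW _).1 (by rw [Equiv.apply_symm_apply]; exact y.2.1)⟩,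
          by simpa using y.2.2⟩
        left_inv := fun x => by ext; simp
        right_inv := fun y => by ext; simp })
  have meet : ∀ W X : Submodule F V, Module.finrank F W = n - 1 → Module.finrank F X = 2 →
      W ⊓ X ≠ ⊥ := by
    intro W X hW hX hbot
    have h1 := Submodule.finrank_sup_add_finrank_inf_eq W X
    have h3 := Submodule.finrank_le (W ⊔ X)
    rw [hbot, finrank_bot, hW, hX] at h1
    omega
  have nbot : ∀ X : Submodule F V, Module.finrank F X ≠ 0 → X ≠ ⊥ := fun X hX h => hX (by rw [h, finrank_bot])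
  have hHne : H ≠ ⊥ := nbot H (by omega)
  have inter : ∀ W X : Submodule F V, pts W ∩ pts X = pts (W ⊓ X) := fun W X => Set.ext fun _ => Iff.rfl
  have h1 := count (pts M) haM (fun W hW _ => by
    rw [inter]; exact card_pts_mod p hF _ (meet W M hW hM))
  have h0 := count (pts L \ {a}) (fun h => h.2 rfl) (fun W hW haW => by
    have : pts W ∩ (pts L \ {a}) = pts (W ⊓ L) := by
      rw [← inter]
      ext x
      exact ⟨fun h => ⟨h.1, h.2.1⟩, fun h => ⟨h.1, h.2, fun hx => haW (hx ▸ h.1)⟩⟩
    rw [this]; exact card_pts_mod p hF _ (meet W L hW hL))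
  rw [card_pts_mod p hF H hHne, card_pts_mod p hF M (nbot M (by omega)), mul_one] at h1
  have hL' : Nat.card ↥(pts L \ {a}) + 1 = Nat.card (pts L) := by
    simp only [Nat.card_coe_set_eq]
    exact Set.ncard_sdiff_singleton_add_one haL
  have hL'' := congrArg (Nat.cast : ℕ → ZMod p) hL'
  rw [Nat.cast_add, Nat.cast_one, card_pts_mod p hF L (nbot L (by omega)), add_eq_right] at hL''
  rw [hL'', mul_zero, h1] at h0
  exact one_ne_zero h0


/-- Let `F` be a finite field and `n ≥ 3`. No set of permutations of the points of the projective space of `Fⁿ`, each induced by an invertible semilinear transformation of `Fⁿ` (so a subset of the full projective semilinear group), is sharply 2-transitive on the points: it is impossible that for all pairs of distinct points `(a, b)` and `(c, d)` exactly one member of the set sends `a` to `c` and `b` to `d`. -/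
theorem result {F : Type*} [Field F] [Finite F]
    (n : ℕ) (hn : 3 ≤ n) (S : Set (Equiv.Perm (Projectivization F (Fin n → F))))
    (hS : ∀ s ∈ S, ∃ (σ : F ≃+* F) (f : (Fin n → F) →ₛₗ[(σ : F →+* F)] (Fin n → F)) (hf : Function.Injective f),
      ∀ x, s x = Projectivization.map f hf x) :
    ¬ (∀ a b c d : Projectivization F (Fin n → F), a ≠ b → c ≠ d →
        ∃! s, s ∈ S ∧ s a = c ∧ s b = d) := by
  classical
  have hli : LinearIndependent F (fun i => Pi.single i (1 : F) : Fin n → (Fin n → F)) :=
    Pi.linearIndependent_single_one _ F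
  let i0 : Fin n := ⟨0, by omega⟩
  let i1 : Fin n := ⟨1, by omega⟩
  let i2 : Fin n := ⟨2, by omega⟩
  let u : Fin n → (Fin n → F) := fun i => Pi.single i (1 : F)
  have span2 : ∀ i j : Fin n, i ≠ j → Module.finrank F (Submodule.span F {u i, u j}) = 2 := by
    intro i j hij
    have h := finrank_span_eq_card (hli.comp ![i, j] (by
      intro x y h; fin_cases x <;> fin_cases y <;> simp_all [eq_comm]))
    have himg : Set.range ((fun i => Pi.single i (1 : F) : Fin n → (Fin n → F)) ∘ ![i, j]) = {u i, u j} := by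
      ext v; simp [u, Fin.exists_fin_two, eq_comm]
    rwa [himg, Fintype.card_fin] at h
  have hne : u i0 ≠ 0 := by simp [u]
  refine sharp_false hn (Module.finrank_fin_fun F) S hS (Projectivization.mk F (u i0) hne)
    (LinearMap.ker (LinearMap.proj i0 : (Fin n → F) →ₗ[F] F)) (Submodule.span F {u i1, u i2})
    (Submodule.span F {u i0, u i1}) ?_ (span2 _ _ (by simp [i1, i2])) (span2 _ _ (by simp [i0, i1]))
    ?_ ?_ ?_
  · have h := LinearMap.finrank_range_add_finrank_ker (LinearMap.proj i0 : (Fin n → F) →ₗ[F] F)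
    rw [LinearMap.range_eq_top.2 (LinearMap.proj_surjective i0), finrank_top, Module.finrank_self,
      Module.finrank_fin_fun] at h
    omega
  · rw [mk_mem_pts]; simp [u]
  · rw [mk_mem_pts, Submodule.mem_span_pair]
    rintro ⟨a, b, h⟩
    have := congrFun h i0
    simp [u, i0, i1, i2] at this
  · rw [mk_mem_pts]
    exact Submodule.subset_span (by simp)

end Cfsg.Agent.S2531
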