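import Cfsg.Statements.S2532
-- import your own Cfsg.Agent.* helpers here

set_option autoImplicit false
open Cfsg

namespace Cfsg.Agent.S2532

open scoped Classical in
/-- Many points give `r` orbits with one stabiliser. -/
theorem exists_points {G : Type*} [Group G] [Fintype G] {X : Type*} [Fintype X] [MulAction G X] (r : ℕ)
    (hbig : Fintype.card G * (r * 2 ^ Fintype.card G) < Fintype.card X) :
    ∃ (S : Subgroup G) (e : Fin r → X), (∀ i, MulAction.stabilizer G (e i) = S) ∧
      ∀ i j, ∀ g : G, g • e i = e j → i = j := by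
  set Ω := Quotient (MulAction.orbitRel G X)
  have hsurj : Function.Surjective fun p : G × Ω => p.1 • p.2.out := fun x => by
    obtain ⟨g, hg⟩ : (Quotient.mk (MulAction.orbitRel G X) x).out ∈ MulAction.orbit G x :=
      Quotient.mk_out (s := MulAction.orbitRel G X) x
    exact ⟨(g⁻¹, Quotient.mk _ x), by simp only [← hg, inv_smul_smul]⟩
  have h1 := Fintype.card_le_of_surjective _ hsurj
  rw [Fintype.card_prod] at h1
  have hsub : Fintype.card (Subgroup G) ≤ 2 ^ Fintype.card G := by
    rw [← Fintype.card_set]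
    exact Fintype.card_le_of_injective _ SetLike.coe_injective
  have h2 : r * 2 ^ Fintype.card G < Fintype.card Ω := by
    by_contra h
    push Not at h
    exact (hbig.trans_le h1).not_ge (Nat.mul_le_mul_left _ h)
  obtain ⟨S, hS⟩ := Fintype.exists_lt_card_fiber_of_mul_lt_card
    (fun o : Ω => MulAction.stabilizer G o.out) (n := r)
    (lt_of_le_of_lt (by rw [mul_comm]; exact Nat.mul_le_mul_left r hsub) h2)
  obtain ⟨emb⟩ : Nonempty (Fin r ↪ {o : Ω // MulAction.stabilizer G o.out = S}) :=
    Function.Embedding.nonempty_of_card_le (by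
      rw [Fintype.card_fin, Fintype.card_subtype]; exact hS.le)
  refine ⟨S, fun i => (emb i).1.out, fun i => (emb i).2, fun i j g h => emb.injective (Subtype.ext ?_)⟩
  rw [← Quotient.out_eq (emb i).1, ← Quotient.out_eq (emb j).1]
  exact (Quotient.sound (⟨g, h⟩ : (emb j).1.out ∈ MulAction.orbit G (emb i).1.out)).symm

open scoped Classical in
/-- The orbits with one stabiliser can be permuted. -/
theorem exists_copy {G : Type*} [Group G] {m r : ℕ} [MulAction G (Fin m)] {S : Subgroup G}
    {e : Fin r → Fin m} (hS : ∀ i, MulAction.stabilizer G (e i) = S)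
    (hdist : ∀ i j, ∀ g : G, g • e i = e j → i = j) :
    ∃ φ : Equiv.Perm (Fin r) →* Equiv.Perm (Fin m), Function.Injective φ ∧
      ∀ (π : Equiv.Perm (Fin r)) (g : G) (x : Fin m), φ π (g • x) = g • φ π x := by
  let E : Fin r × (G ⧸ S) → Fin m := fun p =>
    MulAction.ofQuotientStabilizer G (e p.1) (Subgroup.quotientEquivOfEq (hS p.1).symm p.2)
  have hE : ∀ i (g : G), E (i, (g : G ⧸ S)) = g • e i := fun i g => rfl
  have hinj : Function.Injective E := by
    rintro ⟨i, a⟩ ⟨j, b⟩ h
    induction a using QuotientGroup.induction_on with | H a => ?_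
    induction b using QuotientGroup.induction_on with | H b => ?_
    rw [hE, hE] at h
    have hij := hdist i j (b⁻¹ * a) (by rw [mul_smul, h, inv_smul_smul])
    subst hij
    refine Prod.ext rfl (QuotientGroup.eq.2 ?_)
    rw [← hS i, MulAction.mem_stabilizer_iff, mul_smul, ← h, inv_smul_smul]
  let prod : Equiv.Perm (Fin r) →* Equiv.Perm (Fin r × (G ⧸ S)) :=
    { toFun := fun π => Equiv.prodCongr π (Equiv.refl _)
      map_one' := Equiv.ext fun _ => rfl
      map_mul' := fun _ _ => Equiv.ext fun _ => rfl }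
  let φ := (Equiv.Perm.viaEmbeddingHom ⟨E, hinj⟩).comp prod
  have h1 : ∀ π i a, φ π (E (i, a)) = E (π i, a) := fun π i a =>
    Equiv.Perm.viaEmbedding_apply (prod π) ⟨E, hinj⟩ (i, a)
  refine ⟨φ, (Equiv.Perm.viaEmbeddingHom_injective _).comp fun π π' h => Equiv.ext fun i =>
    congrArg Prod.fst (DFunLike.congr_fun h (i, ((1 : G) : G ⧸ S))), fun π g x => ?_⟩
  by_cases hx : x ∈ Set.range E
  · obtain ⟨⟨i, a⟩, rfl⟩ := hx
    induction a using QuotientGroup.induction_on with | H a => ?_
    rw [h1, hE, hE, ← mul_smul, ← mul_smul, ← hE, h1, hE]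
  · have hgx : g • x ∉ Set.range E := by
      rintro ⟨⟨i, a⟩, h⟩
      induction a using QuotientGroup.induction_on with | H a => ?_
      exact hx ⟨(i, ((g⁻¹ * a : G) : G ⧸ S)), by rw [hE, mul_smul, ← hE, h, inv_smul_smul]⟩
    show (Equiv.Perm.viaEmbedding (prod π) ⟨E, hinj⟩) _ = g • (Equiv.Perm.viaEmbedding (prod π) ⟨E, hinj⟩) x
    rw [Equiv.Perm.viaEmbedding_apply_of_notMem _ _ _ hgx,
      Equiv.Perm.viaEmbedding_apply_of_notMem _ _ _ hx]

/-- There is a function `f` of two natural-number arguments such that, whenever `m ≥ f(n, r)`, every subgroup of order `n` of the alternating group of degree `m` centralizes some subgroup of that alternating group isomorphic to the alternating group of degree `r`. -/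
theorem result :
    ∃ f : ℕ → ℕ → ℕ, ∀ (m r : ℕ) (H : Subgroup ↥(alternatingGroup (Fin m))), f (Nat.card H) r ≤ m →
      ∃ K : Subgroup ↥(alternatingGroup (Fin m)), Nonempty (↥K ≃* ↥(alternatingGroup (Fin r))) ∧
        K ≤ Subgroup.centralizer (H : Set ↥(alternatingGroup (Fin m))) := by
  classical
  refine ⟨fun h r => h * (r * 2 ^ h) + 1, fun m r H hm => ?_⟩
  have hG : Fintype.card H = Nat.card H := (Nat.card_eq_fintype_card).symm
  obtain ⟨S, e, hS, hdist⟩ := exists_points (G := H) (X := Fin m) r (by
    rw [hG, Fintype.card_fin]; simp only [] at hm; omega)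
  obtain ⟨φ, hinj, hcomm⟩ := exists_copy hS hdist
  let f : alternatingGroup (Fin r) →* Equiv.Perm (Fin m) := φ.comp (alternatingGroup (Fin r)).subtype
  have hf : ∀ π, f π ∈ alternatingGroup (Fin m) := by
    intro π
    have hle : (alternatingGroup (Fin r)) ≤ (alternatingGroup (Fin m)).comap φ := by
      rw [← Equiv.Perm.closure_three_cycles_eq_alternating, Subgroup.closure_le]
      intro c hc
      show φ c ∈ alternatingGroup (Fin m)
      rw [Equiv.Perm.mem_alternatingGroup]
      have h3 : Equiv.Perm.sign (φ c) ^ 3 = 1 := by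
        rw [← map_pow, ← map_pow, ← (show c.IsThreeCycle from hc).orderOf, pow_orderOf_eq_one,
          map_one, map_one]
      rcases Int.units_eq_one_or (Equiv.Perm.sign (φ c)) with h | h
      · exact h
      · rw [h] at h3; exact absurd h3 (by decide)
    exact hle π.2
  let f' := f.codRestrict _ hf
  have hf' : Function.Injective f' := fun a b h => Subtype.ext (hinj (congrArg Subtype.val h))
  refine ⟨f'.range, ⟨(MonoidHom.ofInjective hf').symm⟩, ?_⟩
  rintro _ ⟨π, rfl⟩
  rw [Subgroup.mem_centralizer_iff]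
  intro h hh
  refine Subtype.ext (Equiv.ext fun x => ?_)
  exact (hcomm π.1 ⟨h, hh⟩ x).symm

end Cfsg.Agent.S2532
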