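import Cfsg.Statements.S2534
import Cfsg.Agent.GenA.AltHall.Extra

set_option autoImplicit false
open Cfsg

namespace Cfsg.Agent.S2534

/-- For `n ≥ 5` and a set of primes `π`, the alternating group of degree `n` satisfies the full Sylow analogue for `π` (its maximal `π`-subgroups are pairwise conjugate; for a finite group this says Hall `π`-subgroups exist, are all conjugate, and contain every `π`-subgroup up to conjugacy) if and only if either at most one prime of `π` divides its order or every prime dividing its order lies in `π`. -/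
theorem result (n : ℕ) (hn : 5 ≤ n) (π : Set ℕ) :
    Cfsg.IsDPiGroup π ↥(alternatingGroup (Fin n)) ↔
      ((∀ r s : ℕ, r.Prime → s.Prime → r ∈ π → s ∈ π → r ∣ Nat.card ↥(alternatingGroup (Fin n)) → s ∣ Nat.card ↥(alternatingGroup (Fin n)) → r = s) ∨
        ∀ r : ℕ, r.Prime → r ∣ Nat.card ↥(alternatingGroup (Fin n)) → r ∈ π) := by
  constructor
  · intro hD
    by_contra hcon
    rw [not_or] at hcon
    have hd : ∀ r : ℕ, r.Prime → (r ∣ Nat.card ↥(alternatingGroup (Fin n)) ↔ r ≤ n) := fun r hr =>
      ⟨fun h => Fintype.card_fin n ▸ GenA.AltHall.prime_le_of_dvd hr h,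
        fun h => GenA.AltHall.prime_dvd_card_alt (by simp; omega) hr (by simpa using h)⟩
    have hnot : ¬ GenA.AltHall.One π n ∧ ¬ GenA.AltHall.All π n :=
      ⟨fun h => hcon.1 fun r s hr hs hrp hsp hrd hsd =>
        h r s hr hs hrp hsp ((hd r hr).1 hrd) ((hd s hs).1 hsd),
       fun h => hcon.2 fun r hr hrd => h r hr ((hd r hr).1 hrd)⟩
    have hE := (GenA.AltHall.main (π := π) (T := alternatingGroup (Fin n)) (Or.inr rfl)).1.1
      (GenA.AltHall.c_pi_of_d hD).1
    rw [Fintype.card_fin] at hE
    rcases (hE.resolve_left hnot.1).resolve_left hnot.2 with ⟨hp, hc⟩ | ⟨h7 | h8, hc⟩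
    · exact GenA.AltHall.prime_witness (by rwa [Fintype.card_fin]) (by simpa using hn)
        (by simpa using hc) (by rwa [Fintype.card_fin]) hD
    · subst h7
      exact GenA.AltHall.seven_witness hc hnot hD
    · subst h8
      exact GenA.AltHall.eight_witness hc hnot hD
  · rintro (h | h)
    · exact GenA.AltHall.d_pi_of_one h
    · exact GenA.AltHall.d_pi_of_all h

end Cfsg.Agent.S2534
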