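import Cfsg.Statements.S2537
import Cfsg.Agent.Lib.Forms.DicksonList
import Cfsg.Agent.Lib.Forms.DicksonCor
import Cfsg.Agent.Lib.Hall.Solvable
import Cfsg.Agent.S0802
import Cfsg.Agent.S0803
import Cfsg.Agent.S0811
import Cfsg.Agent.S0812

set_option autoImplicit false
open Cfsg

namespace Cfsg.Agent.S2537

open scoped MatrixGroups

theorem dihedral_solvable (n : ℕ) : Group.IsSolvable (DihedralGroup n) := by
  let sgn : DihedralGroup n →* Multiplicative (ZMod 2) :=
    { toFun := fun x => match x with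
        | .r _ => Multiplicative.ofAdd 0
        | .sr _ => Multiplicative.ofAdd 1
      map_one' := rfl
      map_mul' := fun x y => by
        cases x <;> cases y <;> simp <;> decide }
  haveI : Group.IsSolvable sgn.ker := Group.isSolvable_of_comm fun a b => by
    obtain ⟨a, ha⟩ := a
    obtain ⟨b, hb⟩ := b
    cases a with
    | sr i => exact absurd (MonoidHom.mem_ker.mp ha) (by simp [sgn])
    | r i =>
      cases b with
      | sr j => exact absurd (MonoidHom.mem_ker.mp hb) (by simp [sgn])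
      | r j => exact Subtype.ext (by simp [add_comm])
  exact Group.isSolvable_of_ker_le_range sgn.ker.subtype sgn (by simp)

/-- Let `F` be a finite field with `q` elements of characteristic `p ≥ 5`, and `ε = 1` if `q ≡ 1 (mod 4)`, `ε = -1` otherwise. Then `PSL(2, F)` has a Hall `{2, 3}`-subgroup if and only if `3` divides `q − ε`, or the `{2,3}`-part of `q² − 1` is 24, or the `{2,3}`-part of `q² − 1` is 48 (the `{2,3}`-part of `m` being the largest divisor of `m` with no prime factor other than 2 and 3). -/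
theorem result {F : Type*} [Field F] [Fintype F] {p : ℕ} [Fact p.Prime] [CharP F p]
    (hp : 5 ≤ p) (q : ℕ) (hq : Fintype.card F = q) :
    (∃ H : Subgroup (Matrix.ProjectiveSpecialLinearGroup (Fin 2) F), Cfsg.IsPiHall ({2, 3} : Set ℕ) H) ↔
      (3 ∣ q - 1 ∧ q % 4 = 1) ∨ (3 ∣ q + 1 ∧ q % 4 = 3) ∨
        2 ^ (q ^ 2 - 1).factorization 2 * 3 ^ (q ^ 2 - 1).factorization 3 = 24 ∨
        2 ^ (q ^ 2 - 1).factorization 2 * 3 ^ (q ^ 2 - 1).factorization 3 = 48 := by
  classical
  subst hq
  set q := Fintype.card F with hqdef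
  have hpp : p.Prime := Fact.out
  obtain ⟨e, -, he⟩ := FiniteField.card F p
  replace he : q = p ^ (e : ℕ) := he
  have hcop : ∀ r : ℕ, r.Prime → r ∣ q → r = p := fun r hr h =>
    (Nat.prime_dvd_prime_iff_eq hr hpp).1 (hr.dvd_of_dvd_pow (n := (e : ℕ)) (h.trans (dvd_of_eq he)))
  have hq2 : ¬ 2 ∣ q := fun h => by have := hcop 2 Nat.prime_two h; omega
  have hq3 : ¬ 3 ∣ q := fun h => by have := hcop 3 Nat.prime_three h; omega
  have hq5 : 5 ≤ q := hp.trans (by rw [he]; exact Nat.le_self_pow e.ne_zero p)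
  have hpq : ∀ K : Type, ∀ [Field K] [Fintype K] (m : ℕ), Fintype.card K ^ m = q → p ∣ Fintype.card K := by
    intro K _ _ m hm
    have hpd : p ∣ Fintype.card K ^ m := by rw [hm, he]; exact dvd_pow_self p e.ne_zero
    exact hpp.dvd_of_dvd_pow hpd
  have hsq : q ^ 2 - 1 = (q - 1) * (q + 1) := by
    rw [show (1 : ℕ) = 1 ^ 2 by norm_num, Nat.sq_sub_sq, mul_comm]; norm_num
  set A := q ^ 2 - 1 with hA
  have hA0 : A ≠ 0 := by rw [hsq]; exact Nat.mul_ne_zero (by omega) (by omega)
  set T := 2 ^ A.factorization 2 * 3 ^ A.factorization 3 with hT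
  have hTA : T ∣ A := Nat.Coprime.mul_dvd_of_dvd_of_dvd (Nat.Coprime.pow _ _ (by norm_num))
    (Nat.ordProj_dvd _ _) (Nat.ordProj_dvd _ _)
  have hmax : ∀ r, r = 2 ∨ r = 3 → ¬ r * T ∣ A := by
    intro r hr h
    have hrp : r.Prime := by rcases hr with rfl | rfl <;> norm_num
    refine Nat.pow_succ_factorization_not_dvd hA0 hrp (dvd_trans ?_ h)
    rw [pow_succ', hT]
    refine Nat.mul_dvd_mul_left r ?_
    rcases hr with rfl | rfl
    · exact dvd_mul_right _ _
    · exact dvd_mul_left _ _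
  have hT23 : ∀ r : ℕ, r.Prime → r ∣ T → r = 2 ∨ r = 3 := fun r hr h => by
    rcases hr.dvd_mul.mp h with h | h
    · exact Or.inl ((Nat.prime_dvd_prime_iff_eq hr Nat.prime_two).1 (hr.dvd_of_dvd_pow h))
    · exact Or.inr ((Nat.prime_dvd_prime_iff_eq hr Nat.prime_three).1 (hr.dvd_of_dvd_pow h))
  have hcopT : ∀ m, (∀ r : ℕ, r = 2 ∨ r = 3 → ¬ r ∣ m) → T.Coprime m := fun m hm =>
    Nat.coprime_of_dvd fun r hr h1 h2 => hm r (hT23 r hr h1) h2
  have hTq : T.Coprime q := hcopT q (by rintro r (rfl | rfl) <;> assumption)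
  have h8 : 8 ∣ A := by
    rw [hsq]
    have h : q % 4 = 1 ∨ q % 4 = 3 := by omega
    rcases h with h | h
    · exact (show 8 = 4 * 2 from rfl) ▸ Nat.mul_dvd_mul (by omega) (by omega)
    · exact (show 8 = 2 * 4 from rfl) ▸ Nat.mul_dvd_mul (by omega) (by omega)
  have h3 : 3 ∣ A := by
    rw [hsq]
    have h : q % 3 = 1 ∨ q % 3 = 2 := by omega
    rcases h with h | h
    · exact dvd_mul_of_dvd_left (by omega) _
    · exact dvd_mul_of_dvd_right (by omega) _
  have hT8 : 8 ∣ T := dvd_mul_of_dvd_left (by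
    rw [show (8 : ℕ) = 2 ^ 3 from rfl]
    exact pow_dvd_pow 2 ((Nat.prime_two.pow_dvd_iff_le_factorization hA0).1 h8)) _
  have hT3 : 3 ∣ T := dvd_mul_of_dvd_right (dvd_pow_self 3
    (Nat.pos_iff_ne_zero.1 (Nat.prime_three.factorization_pos_of_dvd hA0 h3))) _
  have hM : 2 * Nat.card (Matrix.ProjectiveSpecialLinearGroup (Fin 2) F) = q * A := by
    have h := Forms.DicksonCor.gcd_mul_natCard (F := F)
    rw [show Nat.gcd 2 (Fintype.card F - 1) = 2 from
      Nat.gcd_eq_left (Nat.dvd_of_mod_eq_zero (by omega))] at h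
    rw [h, hsq]
  have crit : ∀ H : Subgroup (Matrix.ProjectiveSpecialLinearGroup (Fin 2) F),
      Cfsg.IsPiHall ({2, 3} : Set ℕ) H ↔ 2 * Nat.card H = T := by
    intro H
    have hmul : q * A = 2 * Nat.card H * H.index := by rw [← hM, mul_assoc, H.card_mul_index]
    constructor
    · rintro ⟨h1, h2⟩
      have h23 : ∀ r : ℕ, r.Prime → r ∣ 2 * Nat.card H → r = 2 ∨ r = 3 := fun r hr h => by
        rcases hr.dvd_mul.mp h with h | h
        · exact Or.inl ((Nat.prime_dvd_prime_iff_eq hr Nat.prime_two).1 h)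
        · simpa using h1 r hr h
      refine Nat.dvd_antisymm ?_ ?_
      · have hc : (2 * Nat.card H).Coprime q := Nat.coprime_of_dvd fun r hr ha hb => by
          rcases h23 r hr ha with rfl | rfl
          · exact hq2 hb
          · exact hq3 hb
        have hd : 2 * Nat.card H ∣ A := hc.dvd_of_dvd_mul_left (hmul ▸ dvd_mul_right _ _)
        obtain ⟨c, hc'⟩ := hd
        have hTd : T ∣ 2 * Nat.card H :=
          (hcopT _ (fun r hr => h2 r (by rcases hr with rfl | rfl <;> norm_num) (by simpa using hr))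
            ).dvd_of_dvd_mul_right (hmul ▸ dvd_mul_of_dvd_right hTA q)
        obtain ⟨d, hd⟩ := hTd
        have hd1 : d = 1 := by
          by_contra hne
          obtain ⟨r, hr, hrd⟩ := Nat.exists_prime_and_dvd hne
          have hr23 := h23 r hr (hd ▸ dvd_mul_of_dvd_right hrd T)
          refine hmax r hr23 (dvd_trans ?_ (Dvd.intro c hc'.symm))
          rw [hd, mul_comm r]
          exact Nat.mul_dvd_mul_left T hrd
        rw [hd, hd1, mul_one]
      · exact (hcopT _ (fun r hr => h2 r (by rcases hr with rfl | rfl <;> norm_num) (by simpa using hr))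
          ).dvd_of_dvd_mul_right (hmul ▸ dvd_mul_of_dvd_right hTA q)
    · intro h
      refine ⟨fun r hr hrd => ?_, fun r hr hrm hrd => ?_⟩
      · simpa using hT23 r hr (h ▸ dvd_mul_of_dvd_right hrd 2)
      · have hr23 : r = 2 ∨ r = 3 := by simpa using hrm
        refine hmax r hr23 (((Nat.Coprime.mul_left ?_ hTq)).dvd_of_dvd_mul_left ?_)
        · refine (hr.coprime_iff_not_dvd).2 ?_
          rcases hr23 with rfl | rfl <;> assumption
        · rw [hmul, h, mul_comm r]
          exact Nat.mul_dvd_mul_left T hrd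
  have hminus : T ∣ 2 * (q - 1) → 3 ∣ q - 1 ∧ q % 4 = 1 := fun h => by
    have h1 := hT3.trans h
    have h2 := hT8.trans h
    omega
  have hplus : T ∣ 2 * (q + 1) → 3 ∣ q + 1 ∧ q % 4 = 3 := fun h => by
    have h1 := hT3.trans h
    have h2 := hT8.trans h
    omega
  constructor
  · rintro ⟨H, hH⟩
    rw [crit] at hH
    rcases Forms.DicksonList.classify p H with ⟨g, -, hg, hc⟩ | ⟨x, hx, hfix⟩ | ⟨⟨ψ⟩⟩ | ⟨⟨ψ⟩⟩ |
      ⟨⟨ψ⟩⟩ | ⟨K, _, _, m, hm, hK⟩
    · have hdiv : T ∣ 4 * orderOf g := by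
        rw [← hH]
        rcases hc with ⟨-, hc⟩ | ⟨⟨ψ⟩⟩
        · rw [hc]; exact ⟨2, by ring⟩
        · rw [Nat.card_congr ψ.toEquiv, DihedralGroup.nat_card]; exact ⟨1, by ring⟩
      have hgcd : Nat.gcd 2 (Fintype.card F - 1) = 2 :=
        Nat.gcd_eq_left (Nat.dvd_of_mod_eq_zero (by omega))
      rcases Forms.DicksonList.order_dvd p g hg with h | h <;> rw [hgcd] at h
      · right; left
        refine hplus (hdiv.trans ((Nat.mul_dvd_mul_left 4 h).trans (dvd_of_eq ?_)))
        omega
      · left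
        refine hminus (hdiv.trans ((Nat.mul_dvd_mul_left 4 h).trans (dvd_of_eq ?_)))
        omega
    · left
      have hle : H ≤ MulAction.stabilizer _ x := hfix
      have hidx := Forms.DicksonCor.index_stabilizer_of_pSub p hx
      have h1 : 2 * Nat.card H ∣ 2 * Nat.card (MulAction.stabilizer
          (Matrix.ProjectiveSpecialLinearGroup (Fin 2) F) x) :=
        Nat.mul_dvd_mul_left 2 (Subgroup.card_dvd_of_le hle)
      have h2 : 2 * Nat.card (MulAction.stabilizer
          (Matrix.ProjectiveSpecialLinearGroup (Fin 2) F) x) = q * (q - 1) := by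
        have h := Subgroup.card_mul_index (MulAction.stabilizer
          (Matrix.ProjectiveSpecialLinearGroup (Fin 2) F) x)
        rw [hidx] at h
        refine Nat.eq_of_mul_eq_mul_right (show 0 < q + 1 by omega) ?_
        rw [mul_assoc, h, hM, hsq]
        ring
      rw [hH, h2] at h1
      exact hminus (dvd_mul_of_dvd_right (hTq.dvd_of_dvd_mul_left h1) 2)
    · right; right; left
      rw [← hH, Nat.card_congr ψ.toEquiv, nat_card_alternatingGroup, Nat.card_eq_fintype_card,
        Fintype.card_fin]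
      rfl
    · right; right; right
      rw [← hH, Nat.card_congr ψ.toEquiv, Nat.card_eq_fintype_card, Fintype.card_perm,
        Fintype.card_fin]
      rfl
    · exfalso
      rw [Nat.card_congr ψ.toEquiv, nat_card_alternatingGroup, Nat.card_eq_fintype_card,
        Fintype.card_fin, show Nat.factorial 5 / 2 = 60 from rfl] at hH
      have := hT23 5 (by norm_num) (by rw [← hH]; norm_num)
      omega
    · exfalso
      have hpK := hpq K m hm
      have hk := Classical.SmallIso.natCard_pslTwo K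
      rw [Classical.GL2.natCard_SL_two] at hk
      have hpH : p ∣ Nat.card H := by
        rcases hK with ⟨⟨ψ⟩⟩ | ⟨⟨ψ⟩⟩ <;> rw [Nat.card_congr ψ.toEquiv]
        · refine (Nat.Coprime.dvd_of_dvd_mul_left ?_ (hk ▸ dvd_mul_of_dvd_left hpK _))
          refine hpp.coprime_iff_not_dvd.2 fun h => ?_
          have := Nat.le_of_dvd (by norm_num) (h.trans (Nat.gcd_dvd_left 2 _))
          omega
        · rw [Classical.Linear.natCard_PGL, Classical.GL2.natCard_SL_two]
          exact dvd_mul_of_dvd_left hpK _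
      have := hT23 p hpp (hH ▸ dvd_mul_of_dvd_right hpH 2)
      omega
  · intro hcond
    have hA4 : T = 24 → ∃ H : Subgroup (Matrix.ProjectiveSpecialLinearGroup (Fin 2) F),
        Cfsg.IsPiHall ({2, 3} : Set ℕ) H := fun h => by
      obtain ⟨H, ⟨ψ⟩⟩ := (S0802.result p e he).2 (fun hh => by omega)
      refine ⟨H, (crit H).2 ?_⟩
      rw [h, Nat.card_congr ψ.toEquiv, nat_card_alternatingGroup, Nat.card_eq_fintype_card,
        Fintype.card_fin]
      rfl
    have hS4 : T = 48 → ∃ H : Subgroup (Matrix.ProjectiveSpecialLinearGroup (Fin 2) F),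
        Cfsg.IsPiHall ({2, 3} : Set ℕ) H := fun h => by
      have h16 : 16 ∣ A := dvd_trans (by rw [h]; norm_num) hTA
      obtain ⟨H, ⟨ψ⟩⟩ := (S0803.result (q := q) rfl).2 (by
        have : 1 ≤ q ^ 2 := Nat.one_le_pow _ _ (by omega)
        omega)
      refine ⟨H, (crit H).2 ?_⟩
      rw [h, Nat.card_congr ψ.toEquiv, Nat.card_eq_fintype_card, Fintype.card_perm, Fintype.card_fin]
      rfl
    have small : ∀ n a b : ℕ, q = n → n ^ 2 - 1 = 2 ^ a * 3 ^ b * ((n ^ 2 - 1) / (2 ^ a * 3 ^ b)) →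
        ¬ 2 ∣ (n ^ 2 - 1) / (2 ^ a * 3 ^ b) → ¬ 3 ∣ (n ^ 2 - 1) / (2 ^ a * 3 ^ b) →
        T = 2 ^ a * 3 ^ b := fun n a b hn h1 h2 h3 => by
      subst hn
      rw [← hA] at h1 h2 h3
      refine Nat.dvd_antisymm ?_ ?_
      · refine (hcopT (A / (2 ^ a * 3 ^ b)) ?_).dvd_of_dvd_mul_right (h1 ▸ hTA)
        rintro r (rfl | rfl) <;> assumption
      · have hdA : 2 ^ a * 3 ^ b ∣ A := Dvd.intro _ h1.symm
        rw [hT]
        refine Nat.mul_dvd_mul (pow_dvd_pow 2 ?_) (pow_dvd_pow 3 ?_)
        · exact (Nat.prime_two.pow_dvd_iff_le_factorization hA0).1 ((dvd_mul_right _ _).trans hdA)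
        · exact (Nat.prime_three.pow_dvd_iff_le_factorization hA0).1 ((dvd_mul_left _ _).trans hdA)
    have dih : ∀ n : ℕ, 2 * n = q - 1 ∨ 2 * n = q + 1 → T ∣ 4 * n →
        (∃ D : Subgroup (Matrix.ProjectiveSpecialLinearGroup (Fin 2) F), Nonempty (D ≃* DihedralGroup n)) →
        ∃ H : Subgroup (Matrix.ProjectiveSpecialLinearGroup (Fin 2) F),
          Cfsg.IsPiHall ({2, 3} : Set ℕ) H := by
      rintro n hn hTn ⟨D, ⟨ψ⟩⟩
      haveI : Group.IsSolvable D := by
        haveI := dihedral_solvable n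
        exact Group.isSolvable_of_isSolvable_injective (f := ψ.toMonoidHom) ψ.injective
      obtain ⟨K, hK1, hK2⟩ := Hall.exists_hall ({2, 3} : Set ℕ) D
      refine ⟨K.map D.subtype, (crit _).2 ?_⟩
      rw [Subgroup.card_subtype]
      have hcard : Nat.card K * K.index = 2 * n := by
        rw [K.card_mul_index, Nat.card_congr ψ.toEquiv, DihedralGroup.nat_card]
      refine Nat.dvd_antisymm ?_ ?_
      · by_contra hne
        have hKA : 2 * Nat.card K ∣ A := by
          refine dvd_trans (Nat.mul_dvd_mul_left 2 (Dvd.intro _ hcard)) ?_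
          rw [hsq]
          rcases hn with hn | hn <;> rw [hn]
          · rw [mul_comm 2]; exact Nat.mul_dvd_mul_left _ (by omega)
          · exact Nat.mul_dvd_mul_right (by omega) _
        have h23 : ∀ r : ℕ, r.Prime → r ∣ 2 * Nat.card K → r = 2 ∨ r = 3 := fun r hr h => by
          rcases hr.dvd_mul.mp h with h | h
          · exact Or.inl ((Nat.prime_dvd_prime_iff_eq hr Nat.prime_two).1 h)
          · simpa using hK1 r hr h
        obtain ⟨c, hc⟩ := hTA
        have hcc : (2 * Nat.card K).Coprime c := Nat.coprime_of_dvd fun r hr ha hb => by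
          refine hmax r (h23 r hr ha) ?_
          rw [hc, mul_comm r]
          exact Nat.mul_dvd_mul_left T hb
        exact hne (hcc.dvd_of_dvd_mul_right (hc ▸ hKA))
      · refine (hcopT K.index (fun r hr => hK2 r (by rcases hr with rfl | rfl <;> norm_num)
          (by simpa using hr))).dvd_of_dvd_mul_right ?_
        rw [mul_assoc, hcard]
        exact hTn.trans (dvd_of_eq (by ring))
    have hgcd : Nat.gcd 2 (q - 1) = 2 := Nat.gcd_eq_left (Nat.dvd_of_mod_eq_zero (by omega))
    rcases hcond with ⟨h31, h41⟩ | ⟨h31, h41⟩ | h | h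
    · obtain ⟨D, -, hD⟩ := S0812.result (q := q) rfl (by
        simp only [Finset.mem_insert, Finset.mem_singleton]; omega)
      rw [hgcd] at hD
      refine dih _ (Or.inl (by omega)) ?_ ⟨D, hD⟩
      obtain ⟨k, hk⟩ : ∃ k, q + 1 = 2 * k := ⟨(q + 1) / 2, by omega⟩
      have h : T ∣ 4 * ((q - 1) / 2) * k := by
        refine hTA.trans (dvd_of_eq ?_)
        rw [hsq, hk, show q - 1 = 2 * ((q - 1) / 2) by omega]
        rw [Nat.mul_div_cancel_left _ (by norm_num : 0 < 2)]
        ring
      exact (hcopT k (by rintro r (rfl | rfl) <;> omega)).dvd_of_dvd_mul_right h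
    · by_cases h7 : q = 7
      · exact hS4 (small 7 4 1 h7 (by norm_num) (by norm_num) (by norm_num))
      obtain ⟨D, -, hD⟩ := S0811.result (q := q) rfl (by
        simp only [Finset.mem_insert, Finset.mem_singleton]; omega)
      rw [hgcd] at hD
      refine dih _ (Or.inr (by omega)) ?_ ⟨D, hD⟩
      obtain ⟨k, hk⟩ : ∃ k, q - 1 = 2 * k := ⟨(q - 1) / 2, by omega⟩
      have h : T ∣ 4 * ((q + 1) / 2) * k := by
        refine hTA.trans (dvd_of_eq ?_)
        rw [hsq, hk, show q + 1 = 2 * ((q + 1) / 2) by omega]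
        rw [Nat.mul_div_cancel_left _ (by norm_num : 0 < 2)]
        ring
      exact (hcopT k (by rintro r (rfl | rfl) <;> omega)).dvd_of_dvd_mul_right h
    · exact hA4 h
    · exact hS4 h

end Cfsg.Agent.S2537
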