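import Cfsg.Statements.S2540
import Cfsg.Agent.Lib.Classical.Linear
import Cfsg.Agent.Lib.Classical.SL2Rep

set_option autoImplicit false
open Cfsg
open scoped commutatorElement

namespace Cfsg.Agent.S2540

theorem commutator_mul_central {H : Type*} [Group H] {z w : H} (hz : z ∈ Subgroup.center H)
    (hw : w ∈ Subgroup.center H) (a b : H) : ⁅a * z, b * w⁆ = ⁅a, b⁆ := by
  simp only [commutatorElement_def, _root_.mul_inv_rev]
  calc a * z * (b * w) * (z⁻¹ * a⁻¹) * (w⁻¹ * b⁻¹)
      = a * (z * (b * w)) * (z⁻¹ * a⁻¹) * (w⁻¹ * b⁻¹) := by group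
    _ = a * ((b * w) * z) * (z⁻¹ * a⁻¹) * (w⁻¹ * b⁻¹) := by
        rw [Subgroup.mem_center_iff.1 hz (b * w)]
    _ = a * b * (w * a⁻¹) * (w⁻¹ * b⁻¹) := by group
    _ = a * b * (a⁻¹ * w) * (w⁻¹ * b⁻¹) := by rw [Subgroup.mem_center_iff.1 hw a⁻¹]
    _ = a * b * a⁻¹ * b⁻¹ := by group

/-- Let F be a finite field and n ≥ 1, excluding the case n = 2 with #F ≤ 3. A subgroup of GL_n(F) that is normalized by every element of SL_n(F) either consists of scalar matrices or contains SL_n(F). -/
theorem result {F : Type*} [Field F] [Fintype F] (n : ℕ) (hn : 1 ≤ n) (hex : ¬ (n = 2 ∧ Fintype.card F ≤ 3)) (G : Subgroup (Matrix.GeneralLinearGroup (Fin n) F)) (hG : ∀ s : Matrix.SpecialLinearGroup (Fin n) F, ∀ g ∈ G, (Matrix.SpecialLinearGroup.toGL s) * g * (Matrix.SpecialLinearGroup.toGL s)⁻¹ ∈ G) : (∀ g ∈ G, ∃ c : F, (g : Matrix (Fin n) (Fin n) F) = c • (1 : Matrix (Fin n) (Fin n) F)) ∨ (Matrix.SpecialLinearGroup.toGL : Matrix.SpecialLinearGroup (Fin n) F →* _).range ≤ G := by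
  classical
  rcases Nat.lt_or_ge n 2 with h1 | h2
  · refine Or.inl fun g _ => ⟨(g : Matrix (Fin n) (Fin n) F) ⟨0, hn⟩ ⟨0, hn⟩, ?_⟩
    ext i j
    obtain rfl : i = ⟨0, hn⟩ := Fin.ext (by omega)
    obtain rfl : j = ⟨0, hn⟩ := Fin.ext (by omega)
    simp
  let S := Matrix.SpecialLinearGroup (Fin n) F
  have hperf : commutator S = ⊤ := by
    rcases eq_or_ne n 2 with rfl | hne
    · exact Classical.SL2Rep.commutator_two_eq_top (by by_contra hc; exact hex ⟨rfl, by omega⟩)
    · exact Classical.Linear.commutator_SL_eq_top (by rw [Fintype.card_fin]; omega)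
  have : IsSimpleGroup (Matrix.ProjectiveSpecialLinearGroup (Fin n) F) :=
    Classical.Linear.isSimpleGroup_PSL_fin h2 fun hn2 => by
      by_contra hc; exact hex ⟨hn2, by omega⟩
  let ι : S →* GL (Fin n) F := Matrix.SpecialLinearGroup.toGL
  have hι : Function.Injective ι := Matrix.SpecialLinearGroup.toGL_injective
  let N : Subgroup S := G.comap ι
  have hN : N.Normal := ⟨fun x hx s => by
    show ι (s * x * s⁻¹) ∈ G
    rw [map_mul, map_mul, map_inv]
    exact hG s _ hx⟩
  rcases ((Subgroup.Normal.map hN (QuotientGroup.mk' (Subgroup.center S))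
      (QuotientGroup.mk'_surjective _))).eq_bot_or_eq_top with hb | ht
  · left
    intro g hg
    have hk : N ≤ Subgroup.center S := by
      rw [Subgroup.map_eq_bot_iff, QuotientGroup.ker_mk'] at hb
      exact hb
    have hc : ∀ s : S, ∃ z : Subgroup.center S, ι z = ι s * g * (ι s)⁻¹ * g⁻¹ := by
      intro s
      have hmem : ι s * g * (ι s)⁻¹ * g⁻¹ ∈ G := G.mul_mem (hG s g hg) (G.inv_mem hg)
      have hdet : ι s * g * (ι s)⁻¹ * g⁻¹ ∈ ι.range := by
        rw [Classical.Linear.range_toGL_eq_ker_det, MonoidHom.mem_ker]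
        simp only [map_mul, map_inv, mul_inv_cancel_comm, mul_inv_cancel]
      obtain ⟨z, hz⟩ := hdet
      exact ⟨⟨z, hk (show ι z ∈ G by rw [hz]; exact hmem)⟩, hz⟩
    choose f hf using hc
    have hmul : ∀ s t, f (s * t) = f s * f t := fun s t => by
      refine Subtype.ext (hι ?_)
      have hct : ι s * ι (f t) = ι (f t) * ι s := by
        rw [← map_mul, ← map_mul, Subgroup.mem_center_iff.1 (f t).2 s]
      rw [hf, Subgroup.coe_mul, Subgroup.mem_center_iff.1 (f t).2 (f s : S), map_mul ι s t, map_mul,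
        eq_mul_inv_of_mul_eq hct.symm, hf t, hf s]
      group
    have hker : commutator S ≤ (MonoidHom.mk' f hmul).ker := by
      rw [commutator_def, Subgroup.commutator_le]
      intro x _ y _
      rw [MonoidHom.mem_ker, map_commutatorElement, commutatorElement_eq_one_iff_mul_comm]
      exact Subtype.ext (Subgroup.mem_center_iff.1 (MonoidHom.mk' f hmul y).2 _)
    have hcomm : ∀ s : S, ι s * g = g * ι s := fun s => by
      have h1 : f s = 1 := hker (hperf ▸ Subgroup.mem_top s)
      have := hf s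
      rw [h1] at this
      simp only [Subgroup.coe_one, map_one] at this
      rw [← mul_inv_eq_one, _root_.mul_inv_rev]
      rw [this]; group
    obtain ⟨c, hc⟩ := Matrix.mem_range_scalar_of_commute_transvectionStruct
      (M := (g : Matrix (Fin n) (Fin n) F)) fun t =>
        congrArg Units.val (hcomm (⟨t.toMatrix, t.det⟩ : S))
    exact ⟨c, by rw [← hc]; ext i j; simp [Matrix.scalar_apply, Matrix.diagonal, Matrix.one_apply]⟩
  · right
    rintro _ ⟨s, rfl⟩
    have hcle : commutator S ≤ N := by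
      rw [commutator_def, Subgroup.commutator_le]
      intro x _ y _
      have hdec : ∀ x : S, ∃ a ∈ N, ∃ z ∈ Subgroup.center S, x = a * z := fun x => by
        obtain ⟨a, ha, hax⟩ := ht.symm ▸ Subgroup.mem_top (QuotientGroup.mk' (Subgroup.center S) x)
        exact ⟨a, ha, a⁻¹ * x, QuotientGroup.eq.1 hax, (mul_inv_cancel_left _ _).symm⟩
      obtain ⟨a, ha, z, hz, rfl⟩ := hdec x
      obtain ⟨b, hb, w, hw, rfl⟩ := hdec y
      have e : ⁅a * z, b * w⁆ = ⁅a, b⁆ := commutator_mul_central hz hw a b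
      rw [e, commutatorElement_def]
      exact N.mul_mem (N.mul_mem (N.mul_mem ha hb) (N.inv_mem ha)) (N.inv_mem hb)
    exact hcle (hperf ▸ Subgroup.mem_top s)

end Cfsg.Agent.S2540
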