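import Cfsg.Statements.S2541
import Mathlib

set_option autoImplicit false
open Cfsg

namespace Cfsg.Agent.S2541

/-- Let F be a field with 9 elements. The symmetric group S_6 is not isomorphic to PGL_2(F) (although both have index-2 subgroups isomorphic to A_6). -/
theorem result {F : Type*} [Field F] [Fintype F] (hF : Fintype.card F = 9) : ¬ Nonempty (Equiv.Perm (Fin 6) ≃* Matrix.ProjGenLinGroup (Fin 2) F) := by
  classical
  rintro ⟨e⟩
  obtain ⟨g, hg⟩ := IsCyclic.exists_generator (α := Fˣ)
  have hord : orderOf g = 8 := by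
    rw [orderOf_eq_card_of_forall_mem_zpowers hg, Nat.card_units, Nat.card_eq_fintype_card, hF]
  let D : Fˣ →* GL (Fin 2) F :=
    { toFun := fun a => Matrix.GeneralLinearGroup.mkOfDetNeZero (Matrix.diagonal ![(a : F), 1])
        (by simp [Matrix.det_diagonal, Fin.prod_univ_two])
      map_one' := Units.ext (by
        show Matrix.diagonal ![((1 : Fˣ) : F), 1] = 1
        rw [← Matrix.diagonal_one]; congr 1; funext i; fin_cases i <;> simp)
      map_mul' := fun a b => Units.ext (by
        show Matrix.diagonal ![((a * b : Fˣ) : F), 1] = Matrix.diagonal _ * Matrix.diagonal _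
        rw [Matrix.diagonal_mul_diagonal]; congr 1; funext i; fin_cases i <;> simp) }
  let ψ : Fˣ →* Matrix.ProjGenLinGroup (Fin 2) F := (QuotientGroup.mk' _).comp D
  have hψ : Function.Injective ψ := by
    refine (injective_iff_map_eq_one ψ).2 fun a ha => ?_
    have hmem : D a ∈ Subgroup.center (GL (Fin 2) F) := (QuotientGroup.eq_one_iff _).1 ha
    let T : GL (Fin 2) F :=
      Matrix.GeneralLinearGroup.mkOfDetNeZero !![1, 1; 0, 1] (by simp [Matrix.det_fin_two])
    have h := congrFun (congrFun (congrArg (fun x : GL (Fin 2) F => (x : Matrix (Fin 2) (Fin 2) F))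
      (Subgroup.mem_center_iff.1 hmem T)) 0) 1
    simp [T, D, Matrix.mul_apply, Fin.sum_univ_two] at h
    exact Units.ext (by simpa using h.symm)
  have h8 : orderOf (e.symm (ψ g)) = 8 := by
    rw [MulEquiv.orderOf_eq, orderOf_injective ψ hψ, hord]
  generalize e.symm (ψ g) = σ at h8
  have hdvd : σ.cycleType.lcm ∣ 60 := Multiset.lcm_dvd.2 fun a ha => by
    have h6 : a ≤ 6 := (Equiv.Perm.le_card_support_of_mem_cycleType ha).trans
      (by simpa using Finset.card_le_univ σ.support)
    have h2 := Equiv.Perm.two_le_of_mem_cycleType ha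
    interval_cases a <;> norm_num
  rw [Equiv.Perm.lcm_cycleType, h8] at hdvd
  norm_num at hdvd

end Cfsg.Agent.S2541
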