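import Cfsg.Statements.S2543
import Cfsg.Agent.Lib.Classical.AltFiveEleven
import Cfsg.Agent.Lib.Forms.PslMap

set_option autoImplicit false
open Cfsg

namespace Cfsg.Agent.S2543

open scoped Pointwise

/-- Let F be a field with 11 elements. PSL_2(F) has exactly 22 subgroups isomorphic to the alternating group A_5, and they form two conjugacy classes: there are two such subgroups that are not conjugate, and every such subgroup is conjugate to one of these two. -/
theorem result {F : Type*} [Field F] [Fintype F] (hF : Fintype.card F = 11) : Nat.card {H : Subgroup (Matrix.ProjectiveSpecialLinearGroup (Fin 2) F) // Nonempty (H ≃* alternatingGroup (Fin 5))} = 22 ∧ ∃ H K : Subgroup (Matrix.ProjectiveSpecialLinearGroup (Fin 2) F), Nonempty (H ≃* alternatingGroup (Fin 5)) ∧ Nonempty (K ≃* alternatingGroup (Fin 5)) ∧ (∀ g : Matrix.ProjectiveSpecialLinearGroup (Fin 2) F, MulAut.conj g • H ≠ K) ∧ ∀ L : Subgroup (Matrix.ProjectiveSpecialLinearGroup (Fin 2) F),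 Nonempty (L ≃* alternatingGroup (Fin 5)) → ∃ g : Matrix.ProjectiveSpecialLinearGroup (Fin 2) F, MulAut.conj g • L = H ∨ MulAut.conj g • L = K := by
  have : Fact (Nat.Prime 11) := ⟨by norm_num⟩
  let r : ZMod 11 ≃+* F := FiniteField.ringEquivOfCardEq (by simp [hF])
  let φ : Matrix.ProjectiveSpecialLinearGroup (Fin 2) (ZMod 11) ≃*
      Matrix.ProjectiveSpecialLinearGroup (Fin 2) F :=
    MulEquiv.ofBijective (Forms.PslMap.pslMap r.toRingHom)
      ((Nat.bijective_iff_injective_and_card _).2 ⟨Forms.PslMap.pslMap_injective _, by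
        have h1 := Classical.SmallIso.natCard_pslTwo F
        rw [Classical.GL2.natCard_SL_two, hF] at h1
        norm_num at h1
        rw [Classical.AltFiveEleven.natCard_PG11]
        omega⟩)
  obtain ⟨hc, H, K, ⟨eH⟩, ⟨eK⟩, hne, hall⟩ := Classical.AltFiveEleven.main
  let m := φ.mapSubgroup
  have hiso : ∀ L : Subgroup (Matrix.ProjectiveSpecialLinearGroup (Fin 2) (ZMod 11)),
      Nonempty (m L ≃* alternatingGroup (Fin 5)) ↔ Nonempty (L ≃* alternatingGroup (Fin 5)) := fun L =>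
    ⟨fun ⟨e⟩ => ⟨(φ.subgroupMap L).trans e⟩, fun ⟨e⟩ => ⟨(φ.subgroupMap L).symm.trans e⟩⟩
  have hconj : ∀ g L, m (MulAut.conj g • L) = MulAut.conj (φ g) • m L := fun g L => by
    ext y
    constructor
    · rintro ⟨x, ⟨z, hz, rfl⟩, rfl⟩
      exact ⟨φ z, ⟨z, hz, rfl⟩, by simp⟩
    · rintro ⟨x, ⟨z, hz, rfl⟩, rfl⟩
      exact ⟨g * z * g⁻¹, ⟨z, hz, rfl⟩, by simp⟩
  refine ⟨?_, m H, m K, (hiso H).2 ⟨eH⟩, (hiso K).2 ⟨eK⟩, fun g h => ?_, fun L hL => ?_⟩
  · rw [← hc]
    exact (Nat.card_congr (m.toEquiv.subtypeEquiv fun L => (hiso L).symm)).symm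
  · obtain ⟨g, rfl⟩ := φ.surjective g
    rw [← hconj] at h
    exact hne g (m.injective h)
  · obtain ⟨L, rfl⟩ := m.surjective L
    obtain ⟨g, hg | hg⟩ := hall L ((hiso L).1 hL)
    · exact ⟨φ g, Or.inl (by rw [← hconj, hg])⟩
    · exact ⟨φ g, Or.inr (by rw [← hconj, hg])⟩

end Cfsg.Agent.S2543
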