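import Cfsg.Statements.S2545
import Cfsg.Agent.Lib.Steinberg.Dim
import Cfsg.Agent.Lib.Forms.SympStd

set_option autoImplicit false
open Cfsg

namespace Cfsg.Agent.S2545

open Matrix Module Cfsg.Agent.Forms Cfsg.Agent.Steinberg

variable {F : Type*} [Field F] [Finite F] {m : ℕ}

/-- The symplectic polar space. -/
noncomputable def sympPolar (m : ℕ) (F : Type*) [Field F] [Finite F] :
    Polar F (Fin m ⊕ Fin m → F) m where
  sig := RingHom.id F
  sig_surj := Function.surjective_id
  B := SympStd.sympB m F
  sw t := -t
  sw_zero := neg_zero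
  swap u v := by rw [SympStd.sympB_apply, SympStd.sympB_apply, SympStd.sympForm_swap]
  nondeg := SympStd.sympB_nondegenerate.1
  Q _ := 0
  tau _ := 0
  tau_zero := rfl
  Q_zero := rfl
  Q_add _ _ := by simp
  sing_smul _ _ _ := rfl
  sing_iso v _ := SympStd.sympB_isAlt v
  partner _ _ _ _ := ⟨0, rfl⟩
  exists_top := by
    have hli : LinearIndependent F fun i : Fin m => (Pi.single (Sum.inl i) 1 : Fin m ⊕ Fin m → F) :=
      (Pi.linearIndependent_single_one (Fin m ⊕ Fin m) F).comp _ Sum.inl_injective
    refine ⟨_, (finrank_span_eq_card hli).trans (Fintype.card_fin m), fun _ _ => rfl,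
      fun x hx y hy => ?_⟩
    rw [Submodule.mem_span_range_iff_exists_fun] at hx hy
    obtain ⟨a, rfl⟩ := hx
    obtain ⟨b, rfl⟩ := hy
    simp [map_sum, SympStd.sympB_apply, SympStd.sympForm_inl_inl]
  le_index W _ hW := by
    have := Dim.two_mul_finrank_le (SympStd.sympB m F) SympStd.sympB_nondegenerate.1 W hW
    rw [SympStd.finrank_vec] at this
    omega

/-- The symplectic group acting on it. -/
noncomputable def sympAct (p m : ℕ) (F : Type*) [Field F] [Finite F] :
    Polar.Act p (sympPolar m F) (Matrix.symplecticGroup (Fin m) F) where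
  act :=
    (Matrix.toLinAlgEquiv' : Matrix (Fin m ⊕ Fin m) (Fin m ⊕ Fin m) F ≃ₐ[F] _).toMonoidHom.comp
      (Matrix.symplecticGroup (Fin m) F).subtype
  iso A := ⟨fun u v => by
      show SympStd.sympB m F (Matrix.toLin' A.1 u) (Matrix.toLin' A.1 v) = SympStd.sympB m F u v
      rw [SympStd.sympB_apply, SympStd.sympB_apply, Matrix.toLin'_apply, Matrix.toLin'_apply,
        SympStd.sympForm_mulVec], fun _ => rfl⟩
  faithful A B h := Subtype.ext (Matrix.toLinAlgEquiv'.injective h)
  big C φ hφ _ := by
    have hbij : Function.Bijective φ :=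
      ⟨hφ.injective, LinearMap.injective_iff_surjective.1 hφ.injective⟩
    have hg : ∀ u v, Cfsg.sympForm m F (LinearEquiv.ofBijective φ hbij u)
        (LinearEquiv.ofBijective φ hbij v) = Cfsg.sympForm m F u v := fun u v => by
      rw [← SympStd.sympB_apply, ← SympStd.sympB_apply]; exact hφ.1 u v
    refine ⟨SympStd.ofEquiv (LinearEquiv.ofBijective φ hbij) hg, LinearMap.ext fun v => ?_⟩
    show Matrix.toLin' (SympStd.ofEquiv (LinearEquiv.ofBijective φ hbij) hg).1 v = φ v
    rw [Matrix.toLin'_apply, SympStd.ofEquiv_mulVec]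
    rfl
  core_free Φ g _ h := by
    have hspan : Submodule.span F (Set.range (Sum.elim Φ.e Φ.f)) = ⊤ := by
      refine LinearIndependent.span_eq_top_of_card_eq_finrank' ?_ ?_
      · rw [Fintype.linearIndependent_iff]
        intro c hc
        rw [Fintype.sum_sum_type] at hc
        simp only [Sum.elim_inl, Sum.elim_inr] at hc
        intro i
        have h1 := fun q => Φ.B_comb (fun j => c (.inl j)) (fun j => c (.inr j)) q
        simp only [hc, map_zero] at h1
        rcases i with i | i
        · exact (h1 i).2.symm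
        · exact (mul_eq_zero.1 (h1 i).1.symm).resolve_right (Φ.sw_one_ne i)
      · simp [two_mul]
    refine Subtype.ext (Matrix.toLinAlgEquiv'.injective ?_)
    rw [OneMemClass.coe_one, map_one]
    refine LinearMap.ext_on_range hspan fun i => ?_
    rcases i with i | i
    · exact (h i).1
    · exact (h i).2
  last Φ := by
    refine Or.inl fun r _ => ⟨Φ.e r, fun h0 => ?_, rfl, fun q => Φ.ee q r, fun q hq => ?_⟩
    · have := Φ.fe r r
      rw [h0, map_zero, if_pos rfl] at this
      exact zero_ne_one this
    · rw [Φ.fe, if_neg hq]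

/-- Let F be a finite field of characteristic p and consider the projective symplectic group PSp_{2m}(F) with m ≥ 1. This group has an irreducible complex character χ whose degree equals the order of a Sylow p-subgroup (namely q^(m²) when #F = q) and whose restriction to any Sylow p-subgroup P is the regular character of P: χ vanishes on the non-identity elements of P. (This is the Steinberg character.) -/
theorem result {F : Type*} [Field F] [Fintype F] (p : ℕ) [Fact p.Prime] [CharP F p] (m : ℕ) (hm : 1 ≤ m) : ∃ χ : Cfsg.PSp m F → ℂ, Cfsg.IsIrrCharacter (Cfsg.PSp m F) χ ∧ ∀ P : Sylow p (Cfsg.PSp m F), χ 1 = Nat.card P ∧ ∀ x : Cfsg.PSp m F, x ∈ P → x ≠ 1 → χ x = 0 := by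
  classical
  haveI : FiniteDimensional F (Fin m ⊕ Fin m → F) := inferInstance
  exact (sympAct p m F).exists_character

end Cfsg.Agent.S2545
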