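import Cfsg.Statements.S2546
import Cfsg.Agent.Lib.Steinberg.Dim
import Cfsg.Agent.Lib.Classical.UnitaryBasic

set_option autoImplicit false
open Cfsg

namespace Cfsg.Agent.S2546

open Matrix Module Cfsg.Agent.Forms Cfsg.Agent.Steinberg Cfsg.Agent.Classical

section

variable {F : Type*} [Field F] [Fintype F] {q : ℕ} (hF : Fintype.card F = q ^ 2)
include hF

theorem exists_trace_ne : ∃ θ : F, θ + θ ^ q ≠ 0 := by
  by_contra h
  push Not at h
  refine HermStd.qHom_ne_id hF (RingHom.ext fun x => ?_)
  have h1 : (1 : F) + 1 = 0 := by simpa using h 1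
  rw [HermStd.qHom_apply, RingHom.id_apply]
  linear_combination h x - x * h1

theorem exists_fixed_ne : ∃ t : F, t ≠ 0 ∧ t + t ^ q = 0 := by
  obtain ⟨x, hx⟩ : ∃ x : F, x ^ q ≠ x := by
    by_contra h
    push Not at h
    exact HermStd.qHom_ne_id hF (RingHom.ext h)
  refine ⟨x - x ^ q, sub_ne_zero.2 hx.symm, ?_⟩
  rw [← HermStd.qHom_apply hF (x - x ^ q), map_sub, HermStd.qHom_apply, HermStd.qHom_apply,
    HermStd.pow_q_q hF]
  ring

/-- The hermitian polar space. -/
noncomputable def hermPolar (n : ℕ) : Polar F (Fin n → F) (n / 2) where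
  sig := HermStd.qHom hF
  sig_surj := Function.RightInverse.surjective (HermStd.qHom_qHom hF)
  B := HermStd.hermB hF n
  sw t := t ^ q
  sw_zero := zero_pow (Unitary.q_ne_zero hF)
  swap u v := (HermStd.hermForm_conj hF v u).symm
  nondeg := (HermStd.hermB_nondegenerate hF).1
  Q v := HermStd.hermB hF n v v
  tau t := t + t ^ q
  tau_zero := by rw [zero_pow (Unitary.q_ne_zero hF), add_zero]
  Q_zero := by simp
  Q_add u v := by
    have h : HermStd.hermB hF n v u = HermStd.hermB hF n u v ^ q :=
      (HermStd.hermForm_conj hF v u).symm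
    simp only [map_add, LinearMap.add_apply, h]
    ring
  sing_smul a v h := by simp [h]
  sing_iso _ h := h
  partner x y hx hxy := by
    set B := HermStd.hermB hF n
    obtain ⟨θ, hθ⟩ := exists_trace_ne hF
    have hyx : B y x ≠ 0 := fun h => hxy (by
      rw [show B x y = B y x ^ q from (HermStd.hermForm_conj hF x y).symm, h,
        zero_pow (Unitary.q_ne_zero hF)])
    refine ⟨-(B y y * θ / (θ + θ ^ q)) / B y x, ?_⟩
    set s := -(B y y * θ / (θ + θ ^ q)) with hs
    have hyy : (B y y) ^ q = B y y := HermStd.hermForm_conj hF y y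
    have htr : s + s ^ q = -B y y := by
      have e : HermStd.qHom hF s = -(B y y * θ ^ q / (θ + θ ^ q)) := by
        rw [hs, map_neg, map_div₀, map_mul, map_add]
        simp only [HermStd.qHom_apply, hyy, HermStd.pow_q_q hF]
        rw [add_comm (θ ^ q) θ]
      rw [HermStd.qHom_apply] at e
      rw [e, hs]
      field_simp
      ring
    have h2 : B y ((s / B y x) • x) = s := by
      rw [map_smul, smul_eq_mul, div_mul_cancel₀ _ hyx]
    have h3 : B ((s / B y x) • x) y = s ^ q := by
      rw [show B ((s / B y x) • x) y = B y ((s / B y x) • x) ^ q from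
        (HermStd.hermForm_conj hF _ y).symm, h2]
    show B (y + (s / B y x) • x) (y + (s / B y x) • x) = 0
    simp only [map_add, LinearMap.add_apply, h2, h3]
    simp [hx]
    linear_combination htr
  exists_top := by
    obtain ⟨c, hc⟩ := UnitaryCount.exists_norm_eq hF (μ := (-1 : F)) (by simp)
      (by rw [← HermStd.qHom_apply hF, map_neg, map_one])
    let i0 : Fin (n / 2) → Fin n := fun i => ⟨2 * i, by omega⟩
    let i1 : Fin (n / 2) → Fin n := fun i => ⟨2 * i + 1, by omega⟩
    have h01 : ∀ i j, i0 i ≠ i1 j := fun i j e => by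
      simp only [i0, i1, Fin.mk.injEq] at e; omega
    have h00 : ∀ i j, i0 i = i0 j ↔ i = j := fun i j => by simp [i0, Fin.ext_iff]
    have h11 : ∀ i j, i1 i = i1 j ↔ i = j := fun i j => by simp [i1, Fin.ext_iff]
    let v : Fin (n / 2) → Fin n → F := fun i => Pi.single (i0 i) 1 + c • Pi.single (i1 i) 1
    have hvv : ∀ i j, HermStd.hermB hF n (v i) (v j) = 0 := by
      intro i j
      simp only [v, map_add, map_smul, LinearMap.add_apply, LinearMap.map_smulₛₗ,
        LinearMap.smul_apply, HermStd.hermB_apply,
        HermStd.hermForm_single_single _ _ (Unitary.q_ne_zero hF), h00, h11, h01,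
        (h01 _ _).symm, smul_eq_mul, HermStd.qHom_apply]
      rcases eq_or_ne i j with rfl | h
      · rw [pow_succ'] at hc
        simp
        linear_combination hc
      · simp [h, Ne.symm h]
    have hli : LinearIndependent F v := by
      rw [Fintype.linearIndependent_iff]
      intro a ha i
      have := congrFun ha (i0 i)
      simpa [v, Finset.sum_apply, Pi.single_apply, h00, h01, eq_comm] using this
    have hts : ∀ x ∈ Submodule.span F (Set.range v), ∀ y ∈ Submodule.span F (Set.range v),
        HermStd.hermB hF n x y = 0 := by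
      intro x hx y hy
      rw [Submodule.mem_span_range_iff_exists_fun] at hx hy
      obtain ⟨a, rfl⟩ := hx
      obtain ⟨b, rfl⟩ := hy
      simp [map_sum, hvv]
    exact ⟨_, (finrank_span_eq_card hli).trans (Fintype.card_fin _), fun x hx => hts x hx x hx, hts⟩
  le_index W _ hW := by
    have := Dim.two_mul_finrank_le (HermStd.hermB hF n) (HermStd.hermB_nondegenerate hF).1 W hW
    rw [Module.finrank_pi, Fintype.card_fin] at this
    omega

/-- The special unitary group acting on it. -/
noncomputable def hermAct (p n : ℕ) [Fact p.Prime] [CharP F p] :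
    Polar.Act p (hermPolar hF n) (Cfsg.SU n F q) where
  act := ((Matrix.toLinAlgEquiv' : Matrix (Fin n) (Fin n) F ≃ₐ[F] _).toMonoidHom.comp
      (Cfsg.slToMat n F)).comp (Cfsg.SU n F q).subtype
  iso g := by
    have h : ∀ u v : Fin n → F, HermStd.hermB hF n (Matrix.toLin' (Cfsg.slToMat n F g.1) u)
        (Matrix.toLin' (Cfsg.slToMat n F g.1) v) = HermStd.hermB hF n u v := fun u v => by
      rw [Matrix.toLin'_apply, Matrix.toLin'_apply]
      exact g.2 v u
    exact ⟨h, fun v => h v v⟩
  faithful A B h :=
    Subtype.ext (Subtype.ext (Matrix.toLinAlgEquiv'.injective h))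
  big C φ hφ hU := by
    have hM : ∀ u v, Cfsg.hermForm n F q (LinearMap.toMatrix' φ *ᵥ u) (LinearMap.toMatrix' φ *ᵥ v) =
        Cfsg.hermForm n F q u v := fun u v => by
      rw [← Matrix.toLin'_apply, ← Matrix.toLin'_apply, Matrix.toLin'_toMatrix']
      exact hφ.1 v u
    have hd : (LinearMap.toMatrix' φ).det = 1 := by
      rw [LinearMap.det_toMatrix']
      have h1 : LinearMap.det φ ^ p ^ (2 * (n / 2) + 1) = 1 := by
        rw [← map_pow, Polar.Unip.pow_eq_one hφ hU p, map_one]
      have h2 := sub_pow_char_pow (n := 2 * (n / 2) + 1) (p := p) (LinearMap.det φ) 1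
      rw [one_pow, h1, sub_self] at h2
      exact sub_eq_zero.1 (eq_zero_of_pow_eq_zero h2)
    refine ⟨Unitary.suMk _ hd hM, LinearMap.ext fun v => ?_⟩
    show Matrix.toLin' (LinearMap.toMatrix' φ) v = φ v
    rw [Matrix.toLin'_toMatrix']
  core_free Φ g hg h := by
    obtain ⟨k, hk⟩ := hg
    set f := ((Matrix.toLinAlgEquiv' : Matrix (Fin n) (Fin n) F ≃ₐ[F] _).toMonoidHom.comp
      (Cfsg.slToMat n F)).comp (Cfsg.SU n F q).subtype with hf
    have hiso : (hermPolar hF n).IsIso (f g) := by
      have h : ∀ u v : Fin n → F, HermStd.hermB hF n (f g u) (f g v) = HermStd.hermB hF n u v :=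
        fun u v => g.2 v u
      exact ⟨h, fun v => h v v⟩
    have h1 : f g = 1 := by
      refine Φ.eq_one_of_small p ?_ hiso (n := k) ?_ h
      · rw [Module.finrank_pi, Fintype.card_fin]; omega
      · rw [← map_pow, hk, map_one]
    exact Subtype.ext (Subtype.ext (Matrix.toLinAlgEquiv'.injective
      (h1.trans (map_one Matrix.toLinAlgEquiv').symm)))
  last Φ := by
    by_cases hn : n % 2 = 1
    · exact Or.inl fun r _ => Φ.exists_move (by rw [Module.finrank_pi, Fintype.card_fin]; omega) r
    refine Or.inl fun r _ => ?_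
    obtain ⟨t, ht0, ht⟩ := exists_fixed_ne hF
    refine ⟨t • Φ.e r, fun h0 => ?_, ?_, fun i => ?_, fun i hi => ?_⟩
    · have := Φ.fe r r
      rw [show Φ.e r = 0 from (smul_eq_zero.1 h0).resolve_left ht0, map_zero, if_pos rfl] at this
      exact zero_ne_one this
    · rw [(hermPolar hF n).Q_add, Φ.sing_f, (hermPolar hF n).sing_smul _ _ (Φ.sing_e r), map_smul,
        Φ.fe, if_pos rfl, smul_eq_mul, mul_one, zero_add, zero_add]
      exact ht
    · rw [map_smul, Φ.ee, smul_zero]
    · rw [map_smul, Φ.fe, if_neg hi, smul_zero]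

end

/-- Let F be a finite field of characteristic p and consider the projective special unitary group PSU_n(q), n ≥ 2, realised over the field F with q² elements. This group has an irreducible complex character χ whose degree equals the order of a Sylow p-subgroup (namely q^(n(n−1)/2)) and whose restriction to any Sylow p-subgroup P is the regular character of P: χ vanishes on the non-identity elements of P. (This is the Steinberg character.) -/
theorem result {F : Type*} [Field F] [Fintype F] (p : ℕ) [Fact p.Prime] [CharP F p] (n q : ℕ) (hn : 2 ≤ n) (hF : Fintype.card F = q ^ 2) : ∃ χ : Cfsg.PSU n F q → ℂ, Cfsg.IsIrrCharacter (Cfsg.PSU n F q) χ ∧ ∀ P : Sylow p (Cfsg.PSU n F q), χ 1 = Nat.card P ∧ ∀ x : Cfsg.PSU n F q, x ∈ P → x ≠ 1 → χ x = 0 := by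
  classical
  exact (hermAct hF p n).exists_character

end Cfsg.Agent.S2546
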