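import Cfsg.Statements.S2547
import Cfsg.Agent.Lib.Steinberg.Quad
import Cfsg.Agent.Lib.Classical.OrthForms

set_option autoImplicit false
open Cfsg

namespace Cfsg.Agent.S2547

/-- Let F be a finite field of characteristic p and consider the group PΩ_{2m+1}(F) of the quadratic form x₀² + Σ x_i y_i, where m ≥ 1 and #F is odd. This group has an irreducible complex character χ whose degree equals the order of a Sylow p-subgroup (namely q^(m²) when #F = q) and whose restriction to any Sylow p-subgroup P is the regular character of P: χ vanishes on the non-identity elements of P. (This is the Steinberg character.) -/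
theorem result {F : Type*} [Field F] [Fintype F] (p : ℕ) [Fact p.Prime] [CharP F p] (hodd : Odd (Fintype.card F)) (m : ℕ) (hm : 1 ≤ m) : ∃ χ : Cfsg.POmega F (Cfsg.quadFormOdd m F) → ℂ, Cfsg.IsIrrCharacter (Cfsg.POmega F (Cfsg.quadFormOdd m F)) χ ∧ ∀ P : Sylow p (Cfsg.POmega F (Cfsg.quadFormOdd m F)), χ 1 = Nat.card P ∧ ∀ x : Cfsg.POmega F (Cfsg.quadFormOdd m F), x ∈ P → x ≠ 1 → χ x = 0 := by
  classical
  open Cfsg.Agent.Classical Cfsg.Agent.Steinberg in
  have h2 : (2 : F) ≠ 0 := OrthForms.two_ne_zero_of_odd hodd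
  open Cfsg.Agent.Classical Cfsg.Agent.Steinberg in
  have key : ∀ (Q : QuadraticForm F (Unit ⊕ (Fin m ⊕ Fin m) → F)), Q = OrthForms.oddQ F m →
      ∃ χ : Cfsg.POmega F ⇑Q → ℂ, Cfsg.IsIrrCharacter (Cfsg.POmega F ⇑Q) χ ∧
        ∀ P : Sylow p (Cfsg.POmega F ⇑Q), χ 1 = Nat.card P ∧
          ∀ x : Cfsg.POmega F ⇑Q, x ∈ P → x ≠ 1 → χ x = 0 := by
    intro Q hQdef
    have hQ : (QuadraticMap.polarBilin Q).Nondegenerate := hQdef ▸ OrthForms.oddQ_nondeg h2 m
    have hcard : Fintype.card (Unit ⊕ (Fin m ⊕ Fin m)) = 2 * m + 1 := by simp; omega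
    have htop : ∃ X : Submodule F (Unit ⊕ (Fin m ⊕ Fin m) → F),
        Module.finrank F X = m ∧ ∀ x ∈ X, Q x = 0 :=
      Quad.exists_coord_top (fun i => Sum.inr (Sum.inl i))
        (Sum.inr_injective.comp Sum.inl_injective) fun v hv => by
          rw [hQdef, OrthForms.oddQ_eq]
          simp [Cfsg.quadFormOdd, hv (Sum.inl ()) (by simp),
            fun i => hv (Sum.inr (Sum.inr i)) (by simp)]
    have hle : ∀ W : Submodule F (Unit ⊕ (Fin m ⊕ Fin m) → F),
        (∀ x ∈ W, Q x = 0) → Module.finrank F W ≤ m := fun W hW => by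
      have := Quad.two_mul_le hQ hW; omega
    exact (Quad.omegaAct hQ (Or.inr (by omega)) p (htop := htop) (hle := hle)
      (fun Φ g _ hg hfix => Quad.eq_one_small hQ p (by omega) Φ hg hfix)
      (fun Φ => Or.inl fun r _ => Φ.exists_move (by rw [Module.finrank_pi]; omega) r)).exists_character
  have := key _ rfl
  rwa [Cfsg.Agent.Classical.OrthForms.oddQ_eq] at this

end Cfsg.Agent.S2547
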