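import Cfsg.Statements.S2548
import Cfsg.Agent.Lib.Steinberg.Quad
import Cfsg.Agent.Lib.Steinberg.PlusFourTwo
import Cfsg.Agent.Lib.Classical.OrthForms

set_option autoImplicit false
open Cfsg

namespace Cfsg.Agent.S2548

open Module Submodule Cfsg.Agent.Forms Cfsg.Agent.Forms.Reflections Cfsg.Agent.Classical
  Cfsg.Agent.Steinberg

/-- No element of `Ω` exchanges the two families of maximal totally singular subspaces. -/
theorem no_flip {F : Type*} [Field F] [Fintype F] {ι : Type} [Fintype ι] [DecidableEq ι]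
    {Q : QuadraticForm F (ι → F)} {m : ℕ} {hQ : (QuadraticMap.polarBilin Q).Nondegenerate}
    {htop : ∃ X : Submodule F (ι → F), finrank F X = m ∧ ∀ x ∈ X, Q x = 0}
    {hle : ∀ W : Submodule F (ι → F), (∀ x ∈ W, Q x = 0) → finrank F W ≤ m}
    (hcard : Fintype.card ι = 2 * m) (h : Fintype.card F ≠ 2 ∨ Fintype.card ι ≠ 4) (hm : 1 ≤ m)
    (Φ : Polar.Frame (Quad.quadPolar hQ htop hle)) (g : Cfsg.isometryGroup F ⇑Q)
    (hg : g ∈ Cfsg.Omega F ⇑Q) :
    (Φ.chC.sub m).map (act g) ≠ (Φ.ch (Polar.Frame.wflip m)).sub m := by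
  intro he
  let r : Fin m := ⟨m - 1, by omega⟩
  have hr : (r : ℕ) + 1 = m := by show m - 1 + 1 = m; omega
  have hsub : Φ.chC.sub (m - 1) ≤ (Φ.ch (Polar.Frame.wflip m)).sub m := by
    refine span_le.2 ?_
    rintro _ ⟨q, hq, rfl⟩
    have hq' : (q : ℕ) + 1 ≠ m := by
      have : (q : ℕ) < m - 1 := hq
      omega
    have := Φ.vec_mem (Polar.Frame.wflip m) q q.2
    simpa [Polar.Frame.vec, Polar.Frame.w1, Polar.Frame.wflip, hq'] using this
  have hnot : ¬ Φ.chC.sub m ≤ (Φ.ch (Polar.Frame.wflip m)).sub m := by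
    intro hle'
    have h1 := Φ.vec_mem (Polar.Frame.wflip m) r r.2
    simp only [Polar.Frame.vec, Polar.Frame.wflip, hr, decide_true, cond_true,
      Equiv.Perm.one_apply] at h1
    have h2 := (Φ.ch (Polar.Frame.wflip m)).ts.2 _ (hle' (Φ.e_mem r r.2)) _ h1
    rw [Φ.ef, if_pos rfl] at h2
    exact one_ne_zero h2
  have hd : finrank F ↥(Φ.chC.sub m ⊓ (Φ.ch (Polar.Frame.wflip m)).sub m) = m - 1 := by
    have h1 := finrank_mono (le_inf (Φ.chC.mono (Nat.sub_le m 1)) hsub)
    rw [Φ.chC.dim _ (Nat.sub_le m 1)] at h1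
    have h2 : Φ.chC.sub m ⊓ (Φ.ch (Polar.Frame.wflip m)).sub m < Φ.chC.sub m :=
      lt_of_le_of_ne inf_le_left fun e => hnot (inf_eq_left.1 e)
    have h3 := finrank_lt_finrank_of_lt h2
    rw [Φ.chC.dim m le_rfl] at h3
    omega
  have hpar := OmegaScale.par_eq_neg_one_pow hQ h hcard Φ.chC.ts.1 (Φ.chC.dim m le_rfl) g
  rw [he, hd, show m - (m - 1) = 1 by omega, pow_one] at hpar
  have h1 : par g = 1 := congrArg Prod.fst ((OmegaCrit.mem_omega_iff hQ h g).1 hg)
  rw [h1] at hpar
  exact absurd hpar (by decide)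

/-- Let F be a finite field of characteristic p and consider the group PΩ⁺_{2m}(F) of the hyperbolic quadratic form Σ x_i y_i with m ≥ 1, where Ω denotes the commutator subgroup of the full isometry group. This group has an irreducible complex character χ whose degree equals the order of a Sylow p-subgroup (equal to q^(m(m−1)) when #F = q, except in the degenerate case m = 2, q = 2, where this commutator subgroup has order 18 and its Sylow 2-subgroups have order 2) and whose restriction to any Sylow p-subgroup P is the regular character of P: χ vanishes on the non-identity elements of P. (This is the Steinberg character.) -/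
theorem result {F : Type*} [Field F] [Fintype F] (p : ℕ) [Fact p.Prime] [CharP F p] (m : ℕ) (hm : 1 ≤ m) : ∃ χ : Cfsg.POmega F (Cfsg.quadFormPlus m F) → ℂ, Cfsg.IsIrrCharacter (Cfsg.POmega F (Cfsg.quadFormPlus m F)) χ ∧ ∀ P : Sylow p (Cfsg.POmega F (Cfsg.quadFormPlus m F)), χ 1 = Nat.card P ∧ ∀ x : Cfsg.POmega F (Cfsg.quadFormPlus m F), x ∈ P → x ≠ 1 → χ x = 0 := by
  classical
  by_cases hexc : Fintype.card F = 2 ∧ m = 2
  · obtain ⟨hF, rfl⟩ := hexc
    obtain rfl : p = 2 := by
      obtain ⟨k, hp, hk⟩ := FiniteField.card F p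
      rw [hF] at hk
      exact ((Nat.prime_dvd_prime_iff_eq hp Nat.prime_two).1 (hk ▸ dvd_pow_self p k.ne_zero))
    exact Cfsg.Agent.Steinberg.PlusFourTwo.result hF
  have key : ∀ (Q : QuadraticForm F (Fin m ⊕ Fin m → F)), Q = PlusStd.plusQ F m →
      ∃ χ : Cfsg.POmega F ⇑Q → ℂ, Cfsg.IsIrrCharacter (Cfsg.POmega F ⇑Q) χ ∧
        ∀ P : Sylow p (Cfsg.POmega F ⇑Q), χ 1 = Nat.card P ∧
          ∀ x : Cfsg.POmega F ⇑Q, x ∈ P → x ≠ 1 → χ x = 0 := by
    intro Q hQdef
    have hQ : (QuadraticMap.polarBilin Q).Nondegenerate := hQdef ▸ PlusStd.plusQ_nondeg F m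
    have hcard : Fintype.card (Fin m ⊕ Fin m) = 2 * m := by simp; omega
    have htop : ∃ X : Submodule F (Fin m ⊕ Fin m → F), finrank F X = m ∧ ∀ x ∈ X, Q x = 0 :=
      Quad.exists_coord_top (fun i => Sum.inl i) Sum.inl_injective fun v hv => by
        rw [hQdef, PlusStd.plusQ_apply]
        simp [Cfsg.quadFormPlus, fun i => hv (Sum.inr i) (by simp)]
    have hle : ∀ W : Submodule F (Fin m ⊕ Fin m → F),
        (∀ x ∈ W, Q x = 0) → finrank F W ≤ m := fun W hW => by
      have := Quad.two_mul_le hQ hW; omega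
    have h : Fintype.card F ≠ 2 ∨ Fintype.card (Fin m ⊕ Fin m) ≠ 4 := by
      by_cases hF : Fintype.card F = 2
      · exact Or.inr (by rw [hcard]; exact fun he => hexc ⟨hF, by omega⟩)
      · exact Or.inl hF
    exact (Quad.omegaAct hQ h p (htop := htop) (hle := hle)
      (fun Φ g _ hg hfix => Quad.eq_one_small hQ p (by omega) Φ hg hfix)
      (fun Φ => Or.inr fun g hg => no_flip hcard h hm Φ g hg)).exists_character
  have := key _ rfl
  rwa [OrthForms.plusQ_eq] at this

end Cfsg.Agent.S2548
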