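import Cfsg.Statements.S2551
import Cfsg.Agent.S0256
import Cfsg.Agent.Lib.Classical.AltSevenGLFour

set_option autoImplicit false
open Cfsg

namespace Cfsg.Agent.S2551

/-- Let F be the field with 2 elements. GL_4(F) (≅ A_8) has a subgroup isomorphic to the alternating group A_7, and every such subgroup acts 2-transitively on the 15 non-zero vectors of F⁴: any ordered pair of distinct non-zero vectors is carried to any other by some element of the subgroup. -/
theorem result {F : Type*} [Field F] [Fintype F] (hF : Fintype.card F = 2) : (∃ H : Subgroup (Matrix.GeneralLinearGroup (Fin 4) F), Nonempty (H ≃* alternatingGroup (Fin 7))) ∧ ∀ H : Subgroup (Matrix.GeneralLinearGroup (Fin 4) F), Nonempty (H ≃* alternatingGroup (Fin 7)) → ∀ v w v' w' : Fin 4 → F, v ≠ 0 → w ≠ 0 → v ≠ w → v' ≠ 0 → w' ≠ 0 → v' ≠ w' → ∃ g ∈ H, (g : Matrix (Fin 4) (Fin 4) F).mulVec v = v' ∧ (g : Matrix (Fin 4) (Fin 4) F).mulVec w = w' := by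
  classical
  constructor
  · obtain ⟨φ⟩ := Cfsg.Agent.S0256.result hF
    have hz : Subgroup.center (Matrix.SpecialLinearGroup (Fin 4) F) = ⊥ := by
      rw [← Subgroup.card_eq_one, Cfsg.Agent.Classical.Linear.natCard_center_SL, hF]; rfl
    let ψ : Matrix.ProjectiveSpecialLinearGroup (Fin 4) F ≃* Matrix.SpecialLinearGroup (Fin 4) F :=
      (QuotientGroup.quotientMulEquivOfEq hz).trans QuotientGroup.quotientBot
    let f7 : Fin 7 ≃ {x : Fin 8 // x ≠ Fin.last 7} := finSuccAboveEquiv (Fin.last 7)
    let d : alternatingGroup (Fin 7) →* alternatingGroup (Fin 8) :=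
      MonoidHom.codRestrict ((Equiv.Perm.extendDomainHom f7).comp (alternatingGroup (Fin 7)).subtype) _
        (fun a => Equiv.Perm.mem_alternatingGroup.2
          ((Equiv.Perm.sign_extendDomain _ f7).trans (Equiv.Perm.mem_alternatingGroup.1 a.2)))
    have hd : Function.Injective d := fun a b h =>
      Subtype.ext (Equiv.Perm.extendDomainHom_injective f7 (congrArg Subtype.val h))
    let j : alternatingGroup (Fin 7) →* Matrix.GeneralLinearGroup (Fin 4) F :=
      (Matrix.SpecialLinearGroup.toGL.comp ψ.toMonoidHom).comp (φ.symm.toMonoidHom.comp d)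
    have hj : Function.Injective j :=
      (Matrix.SpecialLinearGroup.toGL_injective.comp ψ.injective).comp (φ.symm.injective.comp hd)
    exact ⟨j.range, ⟨(MonoidHom.ofInjective hj).symm⟩⟩
  · rintro H ⟨e⟩ v w v' w' hv hw hvw hv' hw' hvw'
    let r : F ≃+* ZMod 2 := FiniteField.ringEquivOfCardEq (by simp [hF])
    let M := Matrix.GeneralLinearGroup.map (n := Fin 4) r.toRingHom
    have hMi : Function.Injective M := fun a b h => Units.ext (Matrix.map_injective r.injective
      (congrArg (fun x : Matrix.GeneralLinearGroup (Fin 4) (ZMod 2) =>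
        (x : Matrix (Fin 4) (Fin 4) (ZMod 2))) h))
    let eK : H.map M ≃* alternatingGroup (Fin 7) := (H.equivMapOfInjective M hMi).symm.trans e
    have ne : ∀ a b : Fin 4 → F, a ≠ b → (fun i => r (a i)) ≠ fun i => r (b i) :=
      fun a b hab h => hab (funext fun i => r.injective (congrFun h i))
    have ne0 : ∀ a : Fin 4 → F, a ≠ 0 → (fun i => r (a i)) ≠ 0 := fun a ha h =>
      ha (funext fun i => r.injective (by simpa using congrFun h i))
    obtain ⟨k, hk, h1, h2⟩ := Cfsg.Agent.Classical.AltSevenGLFour.two_transitive (H.map M) eK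
      (ne0 v hv) (ne0 w hw) (ne v w hvw) (ne0 v' hv') (ne0 w' hw') (ne v' w' hvw')
    obtain ⟨g, hg, rfl⟩ := Subgroup.mem_map.1 hk
    have hmv : ∀ a : Fin 4 → F, (M g : Matrix (Fin 4) (Fin 4) (ZMod 2)).mulVec (fun i => r (a i)) =
        fun i => r ((g : Matrix (Fin 4) (Fin 4) F).mulVec a i) := fun a =>
      funext fun i => (RingHom.map_mulVec r.toRingHom (g : Matrix (Fin 4) (Fin 4) F) a i).symm
    rw [hmv] at h1 h2
    exact ⟨g, hg, funext fun i => r.injective (congrFun h1 i),
      funext fun i => r.injective (congrFun h2 i)⟩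

end Cfsg.Agent.S2551
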