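import Cfsg.Statements.S2552
import Mathlib

set_option autoImplicit false
open Cfsg

namespace Cfsg.Agent.S2552

/-- Let F be a finite field and n ≥ 1. For every k, the special linear group SL_n(F) acts transitively on the set of k-dimensional subspaces of F^n: any two subspaces of the same dimension are carried onto each other by some matrix of determinant 1. -/
theorem result {F : Type*} [Field F] [Fintype F] (n : ℕ) (hn : 1 ≤ n) (U₁ U₂ : Submodule F (Fin n → F)) (h : Module.finrank F U₁ = Module.finrank F U₂) : ∃ g : Matrix.SpecialLinearGroup (Fin n) F, U₁.map ((Matrix.SpecialLinearGroup.toLin' g : (Fin n → F) ≃ₗ[F] (Fin n → F)) : (Fin n → F) →ₗ[F] (Fin n → F)) = U₂ := by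
  classical
  obtain ⟨V₁, hV₁⟩ := Submodule.exists_isCompl U₁
  obtain ⟨V₂, hV₂⟩ := Submodule.exists_isCompl U₂
  obtain ⟨eU⟩ : Nonempty (↥U₁ ≃ₗ[F] ↥U₂) := FiniteDimensional.nonempty_linearEquiv_of_finrank_eq h
  obtain ⟨eV⟩ : Nonempty (↥V₁ ≃ₗ[F] ↥V₂) := FiniteDimensional.nonempty_linearEquiv_of_finrank_eq (by
    have h1 := Submodule.finrank_add_eq_of_isCompl hV₁
    have h2 := Submodule.finrank_add_eq_of_isCompl hV₂
    omega)
  let g₀ := (Submodule.prodEquivOfIsCompl U₁ V₁ hV₁).symm.trans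
    ((eU.prodCongr eV).trans (Submodule.prodEquivOfIsCompl U₂ V₂ hV₂))
  have hg₀ : ∀ u : U₁, g₀ u = eU u := fun u => by
    simp only [g₀, LinearEquiv.trans_apply, Submodule.prodEquivOfIsCompl_symm_apply_left]
    simp
  let M := LinearMap.toMatrix' (g₀ : (Fin n → F) →ₗ[F] (Fin n → F))
  have hdet : M.det ≠ 0 := by
    rw [LinearMap.det_toMatrix']
    exact g₀.isUnit_det'.ne_zero
  obtain ⟨v, hv, hvU⟩ : ∃ v : Fin n → F, v ≠ 0 ∧ (U₂ = ⊥ ∨ v ∈ U₂) := by
    by_cases hb : U₂ = ⊥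
    · exact ⟨Pi.single ⟨0, hn⟩ 1, Pi.single_ne_zero_iff.2 one_ne_zero, Or.inl hb⟩
    · obtain ⟨v, hv, hv0⟩ := Submodule.exists_mem_ne_zero_of_ne_bot hb
      exact ⟨v, hv0, Or.inr hv⟩
  obtain ⟨j, hj⟩ := Function.ne_iff.1 hv
  let φ : Fin n → F := Pi.single j (v j)⁻¹
  have hφ : φ ⬝ᵥ v = 1 := by
    simp only [φ, single_dotProduct]; exact inv_mul_cancel₀ hj
  let H : Matrix (Fin n) (Fin n) F :=
    1 + Matrix.replicateCol Unit v * Matrix.replicateRow Unit ((M.det⁻¹ - 1) • φ)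
  have hH : H.det = M.det⁻¹ := by
    rw [Matrix.det_one_add_replicateCol_mul_replicateRow, smul_dotProduct, hφ, smul_eq_mul, mul_one]
    ring
  have hHU : ∀ x ∈ U₂, H.mulVec x ∈ U₂ := fun x hx => by
    rw [Matrix.add_mulVec, Matrix.one_mulVec, ← Matrix.vecMulVec_eq, Matrix.vecMulVec_mulVec,
      op_smul_eq_smul]
    refine add_mem hx ?_
    rcases hvU with hb | hvU
    · rw [hb] at hx
      simp [(Submodule.mem_bot F).1 hx]
    · exact U₂.smul_mem _ hvU
  refine ⟨⟨H * M, by rw [Matrix.det_mul, hH, inv_mul_cancel₀ hdet]⟩, ?_⟩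
  refine Submodule.eq_of_le_of_finrank_eq ?_
    (((LinearEquiv.submoduleMap _ U₁).finrank_eq).symm.trans h)
  rintro _ ⟨x, hx, rfl⟩
  show (H * M).mulVec x ∈ U₂
  rw [← Matrix.mulVec_mulVec, LinearMap.toMatrix'_mulVec]
  refine hHU _ ?_
  show g₀ x ∈ U₂
  rw [hg₀ ⟨x, hx⟩]
  exact (eU ⟨x, hx⟩).2

end Cfsg.Agent.S2552
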