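import Cfsg.Statements.S2553
import Cfsg.Agent.Lib.SmallSimple.AltEightSubgroups
import Cfsg.Agent.Lib.Classical.Linear
import Cfsg.Agent.S0255
import Cfsg.Agent.S0256
import Cfsg.Agent.S0495

set_option autoImplicit false
set_option linter.style.haveILetI false
open Cfsg

namespace Cfsg.Agent.S2553

open Matrix in
/-- Over the field with two elements the general and projective special linear groups agree. -/
theorem glEquivPSL {n : Type*} [Fintype n] [DecidableEq n] [Nonempty n] {K : Type*} [Field K] [Fintype K]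
    (hK : Fintype.card K = 2) : Nonempty (GL n K ≃* ProjectiveSpecialLinearGroup n K) := by
  haveI : Subsingleton Kˣ := Finite.card_le_one_iff_subsingleton.1 (by
    rw [Classical.Linear.natCard_units_eq, hK])
  have hs : Function.Surjective (SpecialLinearGroup.toGL : SpecialLinearGroup n K →* GL n K) := by
    rw [← MonoidHom.range_eq_top, Classical.Linear.range_toGL_eq_ker_det, eq_top_iff]
    intro g _
    exact Subsingleton.elim _ _
  have hz : Subgroup.center (SpecialLinearGroup n K) = ⊥ :=
    Subgroup.eq_bot_of_card_eq _ (by rw [Classical.Linear.natCard_center_SL n, hK]; simp)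
  exact ⟨(MulEquiv.ofBijective _ ⟨SpecialLinearGroup.toGL_injective, hs⟩).symm.trans
    (QuotientGroup.quotientBot.symm.trans (QuotientGroup.quotientMulEquivOfEq hz.symm))⟩

/-- Let H be a nontrivial subgroup of GL(4,2) (a group isomorphic to the alternating group of degree 8) whose largest normal 2-subgroup and largest normal subgroup of odd order are both trivial. Then H is isomorphic to an alternating group of degree n for some 5 ≤ n ≤ 8, to the symmetric group of degree 5 or 6, or to GL(3,2). -/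
theorem result (H : Subgroup (GL (Fin 4) (ZMod 2))) (hH : H ≠ ⊥) (hO : Cfsg.pPrimeCore 2 ↥H = ⊥) (hO2 : Cfsg.pCore 2 ↥H = ⊥) :
    (∃ n : ℕ, 5 ≤ n ∧ n ≤ 8 ∧ Nonempty (↥H ≃* alternatingGroup (Fin n))) ∨
    Nonempty (↥H ≃* Equiv.Perm (Fin 5)) ∨ Nonempty (↥H ≃* Equiv.Perm (Fin 6)) ∨ Nonempty (↥H ≃* GL (Fin 3) (ZMod 2)) := by
  obtain ⟨e4⟩ := glEquivPSL (n := Fin 4) (K := ZMod 2) (ZMod.card 2)
  obtain ⟨e8⟩ := S0256.result (F := ZMod 2) (ZMod.card 2)
  haveI : Nontrivial H := (Subgroup.nontrivial_iff_ne_bot _).2 hH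
  have hf : Function.Injective ((e4.trans e8).toMonoidHom.comp H.subtype) :=
    (e4.trans e8).injective.comp H.subtype_injective
  rcases SmallSimple.AltEightSubgroups.main hf hO hO2 with h | h | h | ⟨hs, hc⟩
  · exact Or.inl h
  · exact Or.inr (Or.inl h)
  · exact Or.inr (Or.inr (Or.inl h))
  · haveI := hs
    haveI : Fact (Nat.Prime 7) := ⟨by norm_num⟩
    obtain ⟨e1⟩ := S0495.result hc (F := ZMod 7) (ZMod.card 7)
    obtain ⟨e2⟩ := S0255.result (F := ZMod 7) (K := ZMod 2) (ZMod.card 7) (ZMod.card 2)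
    obtain ⟨e3⟩ := glEquivPSL (n := Fin 3) (K := ZMod 2) (ZMod.card 2)
    exact Or.inr (Or.inr (Or.inr ⟨(e1.trans e2).trans e3.symm⟩))

end Cfsg.Agent.S2553
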