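import Cfsg.Statements.S2556
import Cfsg.Agent.Lib.Suzuki.LieEquiv
import Cfsg.Agent.Lib.Involutions.Suzuki.FieldMaps
import Cfsg.Agent.Lib.PLocal.Cores

set_option autoImplicit false
open Cfsg

namespace Cfsg.Agent.S2556

open scoped Classical

section Field

variable {F : Type*} [Field F] [Fintype F] [CharP F 2]

open Cfsg.Agent.Involutions.Suzuki

theorem coeff_zero (d : (F ≃+* F) → (F ≃+* F) → F)
    (h : ∀ x y : F, ∑ s, ∑ t, d s t * (s x * t y) = 0) (s t : F ≃+* F) : d s t = 0 := by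
  have h1 : ∀ x, (fun t => ∑ s, d s t * s x) = (0 : (F ≃+* F) → F) := fun x => by
    refine FieldMaps.combine_injective (AddMonoidHom.ext fun y => ?_)
    rw [map_zero, AddMonoidHom.zero_apply, FieldMaps.combine_apply, ← h x y, Finset.sum_comm]
    refine Finset.sum_congr rfl fun t _ => ?_
    rw [Finset.sum_mul]
    exact Finset.sum_congr rfl fun s _ => mul_assoc _ _ _
  have h2 : (fun s => d s t) = (0 : (F ≃+* F) → F) := by
    refine FieldMaps.combine_injective (AddMonoidHom.ext fun x => ?_)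
    rw [map_zero, AddMonoidHom.zero_apply, FieldMaps.combine_apply]
    exact congrFun (h1 x) t
  exact congrFun h2 s

variable {n : ℕ} (hF : Fintype.card F = 2 ^ n)
include hF

omit [CharP F 2] in
theorem frob_pow_card [CharP F 2] (x : F) : x ^ 2 ^ n = x := by rw [← hF, FiniteField.pow_card]

theorem card_aut : Nat.card (F ≃+* F) = n := by
  letI : Algebra (ZMod 2) F := ZMod.algebra F 2
  haveI : Fact (Nat.Prime 2) := ⟨Nat.prime_two⟩
  have hfin : Module.finrank (ZMod 2) F = n := by
    have h := Module.card_eq_pow_finrank (K := ZMod 2) (V := F)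
    rw [hF, ZMod.card] at h
    exact (Nat.pow_right_injective le_rfl h).symm
  rw [← hfin, ← IsGalois.card_aut_eq_finrank (ZMod 2) F]
  refine (Nat.card_eq_of_bijective (fun σ : F ≃ₐ[ZMod 2] F => σ.toRingEquiv) ⟨?_, ?_⟩).symm
  · intro σ τ h
    exact AlgEquiv.ext fun x => RingEquiv.congr_fun h x
  · intro σ
    exact ⟨AlgEquiv.ofRingEquiv (f := σ) (RingHom.congr_fun (RingHom.ext_zmod
      (σ.toRingHom.comp (algebraMap (ZMod 2) F)) (algebraMap (ZMod 2) F))), rfl⟩

theorem card_end : Nat.card (F →+ F) = 2 ^ (n ^ 2) := by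
  rw [← Nat.card_eq_of_bijective _ ⟨FieldMaps.combine_injective, FieldMaps.combine_surjective⟩,
    Nat.card_fun, card_aut hF, Nat.card_eq_fintype_card, hF, ← pow_mul, pow_two]

omit hF in
theorem aut_comm (σ τ : F ≃+* F) (x : F) : σ (τ x) = τ (σ x) := by
  letI : Algebra (ZMod 2) F := ZMod.algebra F 2
  haveI : Fact (Nat.Prime 2) := ⟨Nat.prime_two⟩
  have toAlg : ∀ f : F ≃+* F, ∀ c, f (algebraMap (ZMod 2) F c) = algebraMap (ZMod 2) F c :=
    fun f => RingHom.congr_fun (RingHom.ext_zmod (f.toRingHom.comp (algebraMap (ZMod 2) F))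
      (algebraMap (ZMod 2) F))
  obtain ⟨g, hg⟩ := IsCyclic.exists_generator (α := F ≃ₐ[ZMod 2] F)
  obtain ⟨i, hi⟩ := Subgroup.mem_zpowers_iff.1 (hg (AlgEquiv.ofRingEquiv (f := σ) (toAlg σ)))
  obtain ⟨j, hj⟩ := Subgroup.mem_zpowers_iff.1 (hg (AlgEquiv.ofRingEquiv (f := τ) (toAlg τ)))
  have h : (g ^ i * g ^ j) x = (g ^ j * g ^ i) x := by rw [← zpow_add, ← zpow_add, add_comm]
  rw [hi, hj] at h
  exact h

/-- An additive map carrying `θ(x) x` to the same form up to an additive map is a monomial. -/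
theorem monomial (θ : F ≃+* F) (hθ : θ ≠ 1) (hn : Odd n)
    (hq : ∀ z : F, ∃ x, θ x * x = z)
    (A B : F →+ F) (hA : Function.Injective A) (hB : ∀ x, B (θ x * x) = θ (A x) * A x) :
    ∃ (a : Fˣ) (σ : F ≃+* F), (∀ x, A x = a * σ x) ∧ ∀ z, B z = θ a * a * σ z := by
  obtain ⟨a, rfl⟩ := FieldMaps.combine_surjective A
  obtain ⟨b, rfl⟩ := FieldMaps.combine_surjective B
  have hordθ : θ * θ ≠ 1 ∧ θ * θ * (θ * θ) ≠ 1 := by
    have hdvd : orderOf θ ∣ n := card_aut hF ▸ orderOf_dvd_natCard θ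
    have key : ∀ k, θ ^ (2 ^ k) = 1 → False := fun k hk => hθ (by
      obtain ⟨j, -, hj⟩ := (Nat.dvd_prime_pow Nat.prime_two).1 (orderOf_dvd_of_pow_eq_one hk)
      have hodd : Odd (orderOf θ) := hn.of_dvd_nat hdvd
      rcases j with _ | j
      · exact orderOf_eq_one_iff.1 (hj.trans (pow_zero 2))
      · exact absurd hodd (Nat.not_odd_iff_even.2 ⟨2 ^ j, by rw [hj, pow_succ, mul_two]⟩))
    exact ⟨fun h => key 1 (by rw [pow_one, pow_two, h]),
      fun h => key 2 (by rw [show 2 ^ 2 = 2 + 2 from rfl, pow_add, pow_two, h])⟩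
  let c : (F ≃+* F) → (F ≃+* F) → F := fun s t => θ (a (θ⁻¹ * s)) * a t
  let d : (F ≃+* F) → (F ≃+* F) → F := fun s t => c s t - if s = θ * t then b t else 0
  have hA2 : ∀ x, θ (FieldMaps.combine a x) = ∑ s, θ (a (θ⁻¹ * s)) * s x := fun x => by
    rw [FieldMaps.combine_apply, map_sum]
    refine Fintype.sum_equiv (Equiv.mulLeft θ) _ _ fun σ => ?_
    simp only [Equiv.coe_mulLeft, inv_mul_cancel_left, map_mul]
    rfl
  have hT : ∀ x, ∑ s, ∑ t, d s t * (s x * t x) = 0 := by
    intro x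
    simp only [d, sub_mul, Finset.sum_sub_distrib]
    have e1 : ∑ s, ∑ t, c s t * (s x * t x) = θ (FieldMaps.combine a x) * FieldMaps.combine a x := by
      rw [hA2, FieldMaps.combine_apply, Finset.sum_mul_sum]
      exact Finset.sum_congr rfl fun s _ => Finset.sum_congr rfl fun t _ => by simp only [c]; ring
    have e2 : ∑ s, ∑ t, (if s = θ * t then b t else 0) * (s x * t x)
        = FieldMaps.combine b (θ x * x) := by
      rw [Finset.sum_comm, FieldMaps.combine_apply]
      refine Finset.sum_congr rfl fun t _ => ?_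
      rw [Finset.sum_eq_single (θ * t)]
      · rw [if_pos rfl, map_mul]
        congr 1
        show θ (t x) * t x = t (θ x) * t x
        rw [aut_comm]
      · intro s _ hs
        rw [if_neg hs, zero_mul]
      · simp
    rw [e1, e2, hB, sub_self]
  have hsym : ∀ s t, d s t + d t s = 0 := by
    refine coeff_zero _ fun x y => ?_
    have h := hT (x + y)
    simp only [map_add, add_mul, mul_add, Finset.sum_add_distrib] at h
    rw [hT x, hT y, Finset.sum_comm (f := fun s t => d s t * (s y * t x))] at h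
    simp only [add_mul, Finset.sum_add_distrib]
    rw [show ∑ s, ∑ t, d t s * (s x * t y) = ∑ s, ∑ t, d t s * (t y * s x) from
      Finset.sum_congr rfl fun s _ => Finset.sum_congr rfl fun t _ => by ring]
    linear_combination h
  have hdiag : ∀ s, d s s = 0 := by
    let Φ : F ≃+* F := frobeniusEquiv F 2
    have hz : ∀ x, ∑ s, d s s * (Φ * s) x = 0 := fun x => by
      have h := hT x
      rw [← Finset.sum_product' (f := fun s t => d s t * (s x * t x)),
        ← Finset.sum_filter_add_sum_filter_not (Finset.univ ×ˢ Finset.univ)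
          (fun p : (F ≃+* F) × (F ≃+* F) => p.1 = p.2)] at h
      have h0 : ∑ p ∈ (Finset.univ ×ˢ Finset.univ).filter
          (fun p : (F ≃+* F) × (F ≃+* F) => ¬ p.1 = p.2), d p.1 p.2 * (p.1 x * p.2 x) = 0 := by
        refine Finset.sum_involution (fun p _ => (p.2, p.1)) ?_ ?_ ?_ ?_
        · intro p _
          linear_combination (p.1 x * p.2 x) * hsym p.1 p.2
        · intro p hp _ he
          exact (Finset.mem_filter.1 hp).2 (congrArg Prod.fst he).symm
        · intro p hp
          simpa [eq_comm] using (Finset.mem_filter.1 hp).2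
        · intro p _
          rfl
      rw [h0, add_zero] at h
      rw [← h]
      refine Finset.sum_nbij' (fun s => (s, s)) Prod.fst (by simp) (by simp) (by simp) ?_ ?_
      · intro p hp
        exact Prod.ext rfl (Finset.mem_filter.1 hp).2
      · intro s _
        show d s s * (Φ (s x)) = _
        rw [frobeniusEquiv_apply, frobenius_def, pow_two]
    intro s
    have h := FieldMaps.combine_injective (F := F) (a₁ := fun r => d (Φ⁻¹ * r) (Φ⁻¹ * r)) (a₂ := 0)
      (AddMonoidHom.ext fun x => by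
        rw [map_zero, AddMonoidHom.zero_apply, FieldMaps.combine_apply, ← hz x]
        exact (Fintype.sum_equiv (Equiv.mulLeft Φ) _ _ fun r => by
          simp only [Equiv.coe_mulLeft, inv_mul_cancel_left]).symm)
    have h' := congrFun h (Φ * s)
    simpa using h'
  have hnext : ∀ i, a i ≠ 0 → a (θ * i) = 0 := fun i hi => by
    have h := hdiag (θ * i)
    have hne : ¬ θ * i = θ * (θ * i) := fun e => hθ (by
      rw [← mul_assoc] at e
      exact (mul_eq_left.1 (mul_right_cancel e).symm))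
    simp only [d, c, if_neg hne, sub_zero, inv_mul_cancel_left] at h
    rcases mul_eq_zero.1 h with h' | h'
    · exact absurd ((map_eq_zero θ).1 h') hi
    · exact h'
  have hband : ∀ i k, a i ≠ 0 → a k ≠ 0 → k = i ∨ k = θ * (θ * i) := by
    intro i k hi hk
    by_contra! hne
    have h := hsym (θ * i) k
    simp only [d, c, inv_mul_cancel_left, hnext i hi, mul_zero,
      if_neg (fun e : θ * i = θ * k => hne.1 (mul_left_cancel e).symm),
      if_neg hne.2, sub_zero, add_zero] at h
    exact mul_ne_zero ((map_ne_zero θ).2 hi) hk h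
  obtain ⟨i, hi⟩ : ∃ i, a i ≠ 0 := by
    by_contra! h
    have h1 : (1 : F) = 0 := hA (by simp [FieldMaps.combine_apply, h])
    exact one_ne_zero h1
  have huniq : ∀ k, k ≠ i → a k = 0 := by
    intro k hki
    by_contra hk
    have h1 := (hband i k hi hk).resolve_left hki
    have h2 := (hband k i hk hi).resolve_left (Ne.symm hki)
    rw [h1] at h2
    exact hordθ.2 (by
      have h3 : θ * θ * (θ * θ) * i = 1 * i := by rw [one_mul]; simp only [mul_assoc]; exact h2.symm
      exact mul_right_cancel h3)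
  have hform : ∀ x, FieldMaps.combine a x = a i * i x := fun x => by
    rw [FieldMaps.combine_apply, Finset.sum_eq_single i (fun k _ hk => by rw [huniq k hk, zero_mul])
      (by simp)]
  refine ⟨Units.mk0 _ hi, i, hform, fun z => ?_⟩
  obtain ⟨x, rfl⟩ := hq z
  rw [hB, hform, map_mul, map_mul, Units.val_mk0, aut_comm i θ]
  ring

end Field

section Model

variable {F : Type*} [Field F] [Fintype F] [CharP F 2] {S : Type*} [Group S] [Finite S]

/-- Automorphisms of a group given in Suzuki coordinates. -/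
theorem aut_structure {n : ℕ} (hF : Fintype.card F = 2 ^ n) (hn : Odd n) (θ : F ≃+* F)
    (hθ : θ ≠ 1) (hq : Function.Bijective fun x : F => θ x * x)
    (u : F × F → S) (hu : Function.Bijective u)
    (hmul : ∀ a b c d, u (a, b) * u (c, d) = u (a + c, b + d + θ a * c)) :
    Cfsg.IsElementaryAbelian 2 (Cfsg.pCore 2 (MulAut S)) ∧
      Nat.card ↥(Cfsg.pCore 2 (MulAut S)) = 2 ^ (n ^ 2) ∧
      Nat.card (MulAut S) = 2 ^ (n ^ 2) * (n * (2 ^ n - 1)) := by
  haveI : Fact (Nat.Prime 2) := ⟨Nat.prime_two⟩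
  let e : F × F ≃ S := Equiv.ofBijective u hu
  have he : ∀ p, e p = u p := fun _ => rfl
  have hone : u (0, 0) = 1 := by
    have h := hmul 0 0 0 0
    simp only [add_zero, mul_zero] at h
    exact mul_eq_left.1 h
  have hq0 : ∀ x : F, θ x * x = 0 → x = 0 := fun x h => hq.1 (by simpa using h)
  have hsq : ∀ p, u p * u p = 1 ↔ p.1 = 0 := by
    rintro ⟨a, b⟩
    rw [hmul, ← hone, hu.1.eq_iff, Prod.mk.injEq, CharTwo.add_self_eq_zero,
      CharTwo.add_self_eq_zero, zero_add]
    exact ⟨fun h => hq0 a h.2, fun h => ⟨rfl, by rw [show a = 0 from h, mul_zero]⟩⟩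
  let A : MulAut S → F → F := fun α x => (e.symm (α (u (x, 0)))).1
  let C : MulAut S → F → F := fun α x => (e.symm (α (u (x, 0)))).2
  let B : MulAut S → F → F := fun α y => (e.symm (α (u (0, y)))).2
  have hBval : ∀ α y, α (u (0, y)) = u (0, B α y) := fun α y => by
    have h1 : α (u (0, y)) * α (u (0, y)) = 1 := by rw [← map_mul, (hsq _).2 rfl, map_one]
    have h2 : α (u (0, y)) = u (e.symm (α (u (0, y)))) := (e.apply_symm_apply _).symm
    rw [h2] at h1
    conv_lhs => rw [h2, show e.symm (α (u (0, y))) = (0, B α y) from Prod.ext ((hsq _).1 h1) rfl]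
  have hAC : ∀ α x, α (u (x, 0)) = u (A α x, C α x) := fun α x => (e.apply_symm_apply _).symm
  have hval : ∀ α x y, α (u (x, y)) = u (A α x, C α x + B α y) := fun α x y => by
    have h : u (x, y) = u (x, 0) * u (0, y) := by simp [hmul]
    rw [h, map_mul, hAC, hBval, hmul, mul_zero, add_zero, add_zero]
  have hB0 : ∀ α, B α 0 = 0 := fun α => by
    have h := hBval α 0
    rw [hone, map_one, ← hone] at h
    exact (congrArg Prod.snd (hu.1 h)).symm
  have hkey : ∀ α x y c d, A α (x + c) = A α x + A α c ∧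
      C α (x + c) + B α (y + d + θ x * c) = C α x + B α y + (C α c + B α d) + θ (A α x) * A α c := by
    intro α x y c d
    have h := congrArg α (hmul x y c d)
    rw [map_mul, hval, hval, hval, hmul] at h
    have h' := Prod.mk.injEq .. ▸ hu.1 h
    exact ⟨h'.1.symm, h'.2.symm⟩
  have hA0 : ∀ α, A α 0 = 0 := fun α => by simpa using (hkey α 0 0 0 0).1
  have hC0 : ∀ α, C α 0 = 0 := fun α => by
    have h := hAC α 0
    rw [hone, map_one, ← hone] at h
    exact (congrArg Prod.snd (hu.1 h)).symm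
  have hBadd : ∀ α y d, B α (y + d) = B α y + B α d := fun α y d => by
    simpa [hA0, hC0] using (hkey α 0 y 0 d).2
  have hAinj : ∀ α, Function.Injective (A α) := fun α => by
    intro x y h
    have h2 : A α (x + y) = 0 := by rw [(hkey α x 0 y 0).1, h, CharTwo.add_self_eq_zero]
    have h3 := hAC α (x + y)
    rw [h2] at h3
    have h4 : α (u (x + y, 0) * u (x + y, 0)) = 1 := by rw [map_mul, h3, (hsq _).2 rfl]
    exact CharTwo.add_eq_zero.1 ((hsq (x + y, 0)).1 (α.injective (by rw [h4, map_one])))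
  have hsquare : ∀ α x, B α (θ x * x) = θ (A α x) * A α x := fun α x => by
    simpa [CharTwo.add_self_eq_zero, hA0, hC0, hB0] using (hkey α x 0 x 0).2
  have hmono : ∀ α : MulAut S, ∃ (a : Fˣ) (σ : F ≃+* F), (∀ x, A α x = a * σ x) ∧
      ∀ z, B α z = θ a * a * σ z := fun α =>
    monomial hF θ hθ hn hq.2 (AddMonoidHom.mk' (A α) fun x y => (hkey α x 0 y 0).1)
      (AddMonoidHom.mk' (B α) (hBadd α)) (hAinj α) (hsquare α)
  have hCadd : ∀ α x c, C α (x + c) = C α x + C α c := fun α x c => by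
    obtain ⟨a, σ, ha, hb⟩ := hmono α
    have h := (hkey α x 0 c 0).2
    simp only [add_zero, zero_add, hB0, hb, ha, map_mul, aut_comm σ θ] at h
    linear_combination h
  -- the automorphism with given parameters
  let f : Fˣ × (F ≃+* F) × (F →+ F) → S → S := fun p s =>
    u ((p.1 : F) * p.2.1 (e.symm s).1,
      p.2.2 (e.symm s).1 + θ p.1 * p.1 * p.2.1 (e.symm s).2)
  have hfu : ∀ p x y, f p (u (x, y)) = u ((p.1 : F) * p.2.1 x, p.2.2 x + θ p.1 * p.1 * p.2.1 y) := by
    intro p x y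
    simp only [f, show e.symm (u (x, y)) = (x, y) from e.symm_apply_apply _]
  have hfmul : ∀ p s t, f p (s * t) = f p s * f p t := by
    intro p s t
    obtain ⟨⟨x, y⟩, rfl⟩ := hu.2 s
    obtain ⟨⟨c, d⟩, rfl⟩ := hu.2 t
    rw [hmul, hfu, hfu, hfu, hmul]
    congr 1
    refine Prod.ext ?_ ?_
    · simp only [map_add]; ring
    · simp only [map_add, map_mul, aut_comm p.2.1 θ]; ring
  have hfinj : ∀ p, Function.Injective (f p) := by
    intro p s t h
    obtain ⟨⟨x, y⟩, rfl⟩ := hu.2 s
    obtain ⟨⟨c, d⟩, rfl⟩ := hu.2 t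
    rw [hfu, hfu, hu.1.eq_iff, Prod.mk.injEq] at h
    obtain rfl := p.2.1.injective (mul_left_cancel₀ p.1.ne_zero h.1)
    have h2 := add_left_cancel h.2
    obtain rfl := p.2.1.injective
      (mul_left_cancel₀ (mul_ne_zero ((map_ne_zero θ).2 p.1.ne_zero) p.1.ne_zero) h2)
    rfl
  let mk : Fˣ × (F ≃+* F) × (F →+ F) → MulAut S := fun p =>
    MulEquiv.ofBijective (MonoidHom.mk' (f p) (hfmul p))
      ⟨hfinj p, Finite.surjective_of_injective (hfinj p)⟩
  have hmk : ∀ p x y, mk p (u (x, y)) =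
      u ((p.1 : F) * p.2.1 x, p.2.2 x + θ p.1 * p.1 * p.2.1 y) := hfu
  have hbij : Function.Bijective mk := by
    constructor
    · rintro ⟨a, σ, c⟩ ⟨a', σ', c'⟩ h
      have hh : ∀ x, ((a : F) * σ x, c x + θ a * a * σ 0) =
          ((a' : F) * σ' x, c' x + θ a' * a' * σ' 0) := fun x => hu.1 (by
        have := congrArg (fun m : MulAut S => m (u (x, 0))) h
        simpa [hmk] using this)
      have ha : a = a' := Units.ext (by simpa using congrArg Prod.fst (hh 1))
      subst ha
      have hσ : σ = σ' := RingEquiv.ext fun x => by simpa using congrArg Prod.fst (hh x)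
      subst hσ
      have hc : c = c' := AddMonoidHom.ext fun x => by simpa using congrArg Prod.snd (hh x)
      rw [hc]
    · intro α
      obtain ⟨a, σ, ha, hb⟩ := hmono α
      refine ⟨(a, σ, AddMonoidHom.mk' (C α) (hCadd α)), MulEquiv.ext fun s => ?_⟩
      obtain ⟨⟨x, y⟩, rfl⟩ := hu.2 s
      rw [hmk, hval, ha, hb]
      rfl
  have hcard : Nat.card (MulAut S) = 2 ^ (n ^ 2) * (n * (2 ^ n - 1)) := by
    rw [← Nat.card_eq_of_bijective mk hbij, Nat.card_prod, Nat.card_prod, card_aut hF, card_end hF,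
      Nat.card_units, Nat.card_eq_fintype_card, hF]
    ring
  -- the kernel of the action on the first coordinate
  let N : Subgroup (MulAut S) :=
    { carrier := {α | ∀ x, A α x = x}
      one_mem' := fun x => by
        show (e.symm (u (x, 0))).1 = x
        rw [← he, e.symm_apply_apply]
      mul_mem' := fun {α β} hα hβ x => by
        show (e.symm (α (β (u (x, 0))))).1 = x
        rw [hval, hval, ← he, e.symm_apply_apply, hα, hβ]
      inv_mem' := fun {α} hα x => by
        show (e.symm (α.symm (u (x, 0)))).1 = x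
        obtain ⟨⟨a, b⟩, hab⟩ := hu.2 (α.symm (u (x, 0)))
        rw [← hab, ← he, e.symm_apply_apply]
        have h := congrArg α hab
        rw [hval, α.apply_symm_apply, hα] at h
        exact congrArg Prod.fst (hu.1 h) }
  have hNB : ∀ α ∈ N, ∀ y, B α y = y := fun α hα y => by
    obtain ⟨x, rfl⟩ := hq.2 y
    rw [hsquare, hα]
  have hNcard : Nat.card N = 2 ^ (n ^ 2) := by
    have hmem : ∀ c, mk (1, 1, c) ∈ N := fun c x => by
      show (e.symm (mk (1, 1, c) (u (x, 0)))).1 = x
      rw [hmk, ← he, e.symm_apply_apply]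
      simp
    rw [← card_end hF]
    refine (Nat.card_eq_of_bijective (fun c => (⟨mk (1, 1, c), hmem c⟩ : N)) ⟨?_, ?_⟩).symm
    · intro c c' h
      simpa using hbij.1 (congrArg Subtype.val h)
    · rintro ⟨α, hα⟩
      refine ⟨AddMonoidHom.mk' (C α) (hCadd α), Subtype.ext (MulEquiv.ext fun s => ?_)⟩
      obtain ⟨⟨x, y⟩, rfl⟩ := hu.2 s
      show mk _ (u (x, y)) = α (u (x, y))
      rw [hmk, hval, hα, hNB α hα]
      simp
  have hNn : N.Normal := ⟨fun α hα β x => by
    show (e.symm (β (α (β⁻¹ (u (x, 0)))))).1 = x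
    obtain ⟨⟨a, b⟩, hab⟩ := hu.2 (β⁻¹ (u (x, 0)))
    rw [← hab, hval, hval, ← he, e.symm_apply_apply, hα]
    have h := congrArg β hab
    rw [← MulAut.mul_apply, mul_inv_cancel, MulAut.one_apply, hval] at h
    exact congrArg Prod.fst (hu.1 h)⟩
  have hNmul : ∀ α ∈ N, ∀ β ∈ N, ∀ x y,
      (α * β) (u (x, y)) = u (x, C α x + C β x + y) := fun α hα β hβ x y => by
    rw [MulAut.mul_apply, hval, hβ, hNB β hβ, hval, hα, hNB α hα, add_assoc]
  have hNc : IsMulCommutative N := ⟨⟨fun α β => Subtype.ext (MulEquiv.ext fun s => by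
    obtain ⟨⟨x, y⟩, rfl⟩ := hu.2 s
    show ((α : MulAut S) * β) (u (x, y)) = ((β : MulAut S) * α) (u (x, y))
    rw [hNmul _ α.2 _ β.2, hNmul _ β.2 _ α.2, add_comm (C α x)])⟩⟩
  have hNe : ∀ α ∈ N, α ^ 2 = 1 := fun α hα => MulEquiv.ext fun s => by
    obtain ⟨⟨x, y⟩, rfl⟩ := hu.2 s
    rw [pow_two, hNmul _ hα _ hα, CharTwo.add_self_eq_zero, zero_add, MulAut.one_apply]
  have hNp : IsPGroup 2 N := IsPGroup.of_card hNcard
  have heq : Cfsg.pCore 2 (MulAut S) = N := by
    have hle : N ≤ Cfsg.pCore 2 (MulAut S) := Cfsg.Agent.PLocal.Cores.le_pCore hNp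
    obtain ⟨k, hk⟩ := IsPGroup.iff_card.1
      (Cfsg.Agent.PLocal.Cores.isPGroup_pCore (p := 2) (G := MulAut S))
    refine (Subgroup.eq_of_le_of_card_ge hle ?_).symm
    have hdvd := Subgroup.card_subgroup_dvd_card (Cfsg.pCore 2 (MulAut S))
    rw [hcard, hk] at hdvd
    have hodd : Odd (n * (2 ^ n - 1)) := hn.mul (Nat.Even.sub_odd (Nat.one_le_two_pow)
      (Nat.even_pow.2 ⟨even_two, hn.pos.ne'⟩) odd_one)
    rw [hk, hNcard]
    exact Nat.le_of_dvd (by positivity)
      (((Nat.coprime_two_left.2 hodd).pow_left k).dvd_of_dvd_mul_right hdvd)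
  rw [heq]
  exact ⟨⟨hNc, hNe⟩, hNcard, hcard⟩

end Model


/-- Let S be a Sylow 2-subgroup of the Suzuki group Sz(q), q = 2ⁿ with n = 2m + 1 ≥ 3 (realised as 4 × 4 matrices over the field with q elements). Then the largest normal 2-subgroup of the automorphism group of S is elementary abelian of order 2^(n²), and the automorphism group of S has order 2^(n²) · n · (q − 1). -/
theorem result {S : Type*} [Group S] [Finite S] (m : ℕ) (hm : 1 ≤ m)
    {F : Type*} [Field F] [Fintype F] (hF : Fintype.card F = 2 ^ (2 * m + 1))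
    (P : Sylow 2 ↥(Cfsg.Lie.Sz F (2 ^ (m + 1)))) (hS : Nonempty (S ≃* ↥(P : Subgroup ↥(Cfsg.Lie.Sz F (2 ^ (m + 1)))))) :
    Cfsg.IsElementaryAbelian 2 (Cfsg.pCore 2 (MulAut S)) ∧ Nat.card ↥(Cfsg.pCore 2 (MulAut S)) = 2 ^ ((2 * m + 1) ^ 2) ∧
      Nat.card (MulAut S) = 2 ^ ((2 * m + 1) ^ 2) * ((2 * m + 1) * (2 ^ (2 * m + 1) - 1)) := by
  haveI := Cfsg.Agent.Suzuki.charTwo hF
  obtain ⟨e⟩ := Cfsg.Agent.Suzuki.lieEquiv (m := m) hm hF
  haveI : Fact (Nat.Prime 2) := ⟨Nat.prime_two⟩
  obtain ⟨eS⟩ := hS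
  let P' : Sylow 2 (Cfsg.Sz F m) := (P.comapOfInjective e.toMonoidHom e.injective
    (fun x _ => e.surjective x))
  have eP : ↥(P' : Subgroup (Cfsg.Sz F m)) ≃* ↥(P : Subgroup (Cfsg.Lie.Sz F (2 ^ (m + 1)))) :=
    MulEquiv.ofBijective (e.toMonoidHom.subgroupComap (P : Subgroup (Cfsg.Lie.Sz F (2 ^ (m + 1)))))
      ⟨fun x y h => Subtype.ext (e.injective (congrArg Subtype.val h)), fun y => by
        obtain ⟨x, hx⟩ := e.surjective y.1
        exact ⟨⟨x, show e x ∈ _ from hx ▸ y.2⟩, Subtype.ext hx⟩⟩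
  obtain ⟨eU⟩ := Cfsg.Agent.Suzuki.sylow_equiv hm hF P'
  let E : Cfsg.Agent.Suzuki.U (m := m) hF ≃* S := eU.trans (eP.trans eS.symm)
  let θ : F ≃+* F := RingEquiv.ofBijective (Cfsg.Agent.Suzuki.theta F m)
    (Cfsg.Agent.Suzuki.theta_bijective hF)
  have hθe : ∀ x, θ x = Cfsg.Agent.Suzuki.theta F m x := fun _ => rfl
  have hθ : θ ≠ 1 := fun h => by
    have h3 : (2 : ℕ) < Fintype.card F := by
      rw [hF]
      calc 2 < 2 ^ 2 := by norm_num
        _ ≤ 2 ^ (2 * m + 1) := Nat.pow_le_pow_right (by norm_num) (by omega)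
    obtain ⟨x, -, hx⟩ := Finset.exists_mem_notMem_of_card_lt_card
      (s := ({0, 1} : Finset F)) (t := Finset.univ) (lt_of_le_of_lt Finset.card_le_two h3)
    have hfix : Cfsg.Agent.Suzuki.theta F m x = x := by
      rw [← hθe, h]
      rfl
    exact hx (by simpa using Cfsg.Agent.Suzuki.eq_zero_or_one_of_theta hF hfix)
  have hq : Function.Bijective fun x : F => θ x * x := by
    have hinj : Function.Injective fun x : F => θ x * x := by
      intro x y h
      simp only at h
      rcases eq_or_ne y 0 with rfl | hy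
      · simpa using h
      · have h1 : θ (x / y) * (x / y) = 1 := by
          have hy' : θ y ≠ 0 := (map_ne_zero θ).2 hy
          rw [map_div₀]
          field_simp
          linear_combination h
        exact (div_eq_one_iff_eq hy).1 (Cfsg.Agent.Suzuki.eq_one_of_theta_mul hF h1)
    exact ⟨hinj, Finite.surjective_of_injective hinj⟩
  refine aut_structure (n := 2 * m + 1) hF (odd_two_mul_add_one m) θ hθ hq
    (fun p => E (Cfsg.Agent.Suzuki.ut hF p.1 p.2)) ⟨?_, ?_⟩ ?_
  · intro p q h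
    have h' := Cfsg.Agent.Suzuki.ut_injective hF (E.injective h)
    exact Prod.ext h'.1 h'.2
  · intro s
    obtain ⟨a, b, hab⟩ := Cfsg.Agent.Suzuki.ut_surjective hF (E.symm s)
    exact ⟨(a, b), by rw [← E.apply_symm_apply s, hab]⟩
  · intro a b c d
    show E _ * E _ = E _
    rw [← map_mul, Cfsg.Agent.Suzuki.ut_mul, hθe, Cfsg.Agent.Suzuki.theta_def]

end Cfsg.Agent.S2556
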