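import Cfsg.Statements.S2557
import Cfsg.Agent.GenA.SpEvenClassCount.Count
import Cfsg.Agent.S2385
-- import your own Cfsg.Agent.* helpers here

set_option autoImplicit false
open Cfsg

namespace Cfsg.Agent.S2557

/-- The number of conjugacy classes of Sp(2n,q), q even: for F a finite field of even order q and n ≥ 1, the number k of conjugacy classes of Sp(2n,F) satisfies q^n ≤ k ≤ 15.2·q^n. -/
theorem result {F : Type*} [Field F] [Fintype F] (heven : Even (Fintype.card F)) (n : ℕ) (hn : 1 ≤ n) :
    Fintype.card F ^ n ≤ Nat.card (ConjClasses (Matrix.symplecticGroup (Fin n) F)) ∧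
      5 * Nat.card (ConjClasses (Matrix.symplecticGroup (Fin n) F)) ≤ 76 * Fintype.card F ^ n := by
  obtain ⟨p, hp⟩ := CharP.exists F
  haveI : Fact p.Prime := ⟨CharP.char_is_prime F p⟩
  obtain rfl : p = 2 := by
    rw [← ringChar.eq F p]
    exact (FiniteField.even_card_iff_char_two (F := F)).2 (Nat.even_iff.1 heven)
  refine ⟨?_, ?_⟩
  · rw [← Cfsg.Agent.S2385.result (F := F) rfl 2 n]
    exact Nat.card_le_card_of_injective _ Subtype.val_injective
  · obtain ⟨e, rfl⟩ : ∃ e, n = e + 1 := ⟨n - 1, by omega⟩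
    exact SpEvenCount2557.card_classes_bound e

end Cfsg.Agent.S2557
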