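import Cfsg.Statements.S2558
import Cfsg.Agent.OrthClassCount.Quad
import Cfsg.Agent.Lib.Classical.OrthForms

set_option autoImplicit false
open Cfsg

namespace Cfsg.Agent.S2558

/-- The number of conjugacy classes of the full orthogonal groups O⁺(2n,q) and O⁻(2n,q), q odd, 2n ≥ 4: for F a finite field of odd order q and n ≥ 2, the number k of conjugacy classes of the isometry group of the hyperbolic quadratic form Σ xᵢyᵢ on F^{2n}, and likewise of the elliptic form Σ xᵢyᵢ + (z₁² + a z₁z₂ + b z₂²) with anisotropic binary part, satisfies q^n/2 ≤ k ≤ 9.5·q^n. -/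
theorem result {F : Type*} [Field F] [Fintype F] (hodd : Odd (Fintype.card F)) (n : ℕ) (hn : 2 ≤ n) (a b : F) (hab : ∀ z₁ z₂ : F, z₁ ^ 2 + a * z₁ * z₂ + b * z₂ ^ 2 = 0 → z₁ = 0 ∧ z₂ = 0) :
    (Fintype.card F ^ n ≤ 2 * Nat.card (ConjClasses ↥(Cfsg.isometryGroup F (Cfsg.quadFormPlus n F))) ∧
      2 * Nat.card (ConjClasses ↥(Cfsg.isometryGroup F (Cfsg.quadFormPlus n F))) ≤ 19 * Fintype.card F ^ n) ∧
    (Fintype.card F ^ n ≤ 2 * Nat.card (ConjClasses ↥(Cfsg.isometryGroup F (Cfsg.quadFormMinus (n - 1) F a b))) ∧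
      2 * Nat.card (ConjClasses ↥(Cfsg.isometryGroup F (Cfsg.quadFormMinus (n - 1) F a b))) ≤ 19 * Fintype.card F ^ n) := by
  have h2 : (2 : F) ≠ 0 := Cfsg.Agent.Classical.OrthForms.two_ne_zero_of_odd hodd
  obtain ⟨m, rfl⟩ : ∃ m, n = m + 1 := ⟨n - 1, by omega⟩
  have key : ∀ {ι : Type} [Fintype ι] [DecidableEq ι] (Q : QuadraticForm F (ι → F)),
      (QuadraticMap.polarBilin Q).Nondegenerate → Fintype.card ι = m + 1 + (m + 1) →
      Fintype.card F ^ (m + 1) ≤ 2 * Nat.card (ConjClasses ↥(Cfsg.isometryGroup F ⇑Q)) ∧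
        2 * Nat.card (ConjClasses ↥(Cfsg.isometryGroup F ⇑Q)) ≤ 19 * Fintype.card F ^ (m + 1) := by
    intro ι _ _ Q hQ hc
    obtain ⟨S⟩ := OrthClassCount2558.exists_setup h2 Q hQ (Fintype.equivFinOfCardEq hc)
    exact ⟨OrthClassCount2558.le_card_classes h2 hn S, OrthClassCount2558.card_classes_bound hodd m S⟩
  rw [Nat.add_sub_cancel, ← Cfsg.Agent.Classical.OrthForms.plusQ_eq, ← Cfsg.Agent.Classical.OrthForms.minQ_eq]
  exact ⟨key _ (Cfsg.Agent.Forms.PlusStd.plusQ_nondeg F (m + 1)) (by simp),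
    key _ (Cfsg.Agent.Classical.OrthForms.minQ_nondeg m hab) (by simp; omega)⟩

end Cfsg.Agent.S2558
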