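import Cfsg.Statements.S2560
import Cfsg.Agent.OddClassCount.Pairs
import Cfsg.Agent.OddClassCount.Witness
import Cfsg.Agent.OddClassCount.Lower
import Cfsg.Agent.OddClassCount.Count
import Cfsg.Agent.Lib.Classical.OrthForms

set_option autoImplicit false
open Cfsg

namespace Cfsg.Agent.S2560

/-- The number of conjugacy classes of Ω(2n+1,q), q odd, n ≥ 2: for F a finite field of odd order q, the number k of conjugacy classes of the commutator subgroup of the isometry group of the quadratic form x₀² + Σ xᵢyᵢ on F^{2n+1} satisfies q^n/2 ≤ k ≤ 7.3·q^n. -/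
theorem result {F : Type*} [Field F] [Fintype F] (hodd : Odd (Fintype.card F)) (n : ℕ) (hn : 2 ≤ n) :
    Fintype.card F ^ n ≤ 2 * Nat.card (ConjClasses ↥(Cfsg.Omega F (Cfsg.quadFormOdd n F))) ∧
      10 * Nat.card (ConjClasses ↥(Cfsg.Omega F (Cfsg.quadFormOdd n F))) ≤ 73 * Fintype.card F ^ n := by
  classical
  have h2 : (2 : F) ≠ 0 := Cfsg.Agent.Classical.OrthForms.two_ne_zero_of_odd hodd
  rw [← Cfsg.Agent.Classical.OrthForms.oddQ_eq]
  set Q := Cfsg.Agent.Classical.OrthForms.oddQ F n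
  have hQ : (QuadraticMap.polarBilin Q).Nondegenerate := Cfsg.Agent.Classical.OrthForms.oddQ_nondeg h2 n
  have hcard : Fintype.card (Unit ⊕ (Fin n ⊕ Fin n)) = 2 * n + 1 := by simp; omega
  have hcard2 : 2 ≤ Fintype.card (Unit ⊕ (Fin n ⊕ Fin n)) := by omega
  obtain ⟨S, hact, hJ⟩ := OrthClassCount2558.exists_setup' h2 Q hQ (Fintype.equivFinOfCardEq hcard)
  let ε := Fintype.equivFinOfCardEq hcard
  letI : Fintype ↥(Cfsg.isometryGroup F ⇑Q) := Fintype.ofFinite _
  let θ := Cfsg.Agent.Forms.Spinor.pairHom hQ h2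
  let e : ↥(Cfsg.isometryGroup F ⇑Q) := ⟨-1, fun u _ => by
    show Q ((-1 : Matrix (Unit ⊕ (Fin n ⊕ Fin n)) (Unit ⊕ (Fin n ⊕ Fin n)) F).mulVec u) = Q u
    rw [Matrix.neg_mulVec, Matrix.one_mulVec, QuadraticMap.map_neg]⟩
  have he : ∀ g, Commute e g := fun g => Subtype.ext (by show (-1 : GL (Unit ⊕ (Fin n ⊕ Fin n)) F) * _ = _ * -1; simp)
  have he1 : (θ e).1 = -1 := by
    show Cfsg.Agent.Forms.Reflections.par e = -1
    have hfix : Cfsg.Agent.Forms.Reflections.fixSp e = ⊥ := by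
      refine (Submodule.eq_bot_iff _).2 fun x hx => ?_
      rw [Cfsg.Agent.Forms.Reflections.mem_fixSp, Cfsg.Agent.Forms.Reflections.act_apply] at hx
      change (-1 : Matrix (Unit ⊕ (Fin n ⊕ Fin n)) (Unit ⊕ (Fin n ⊕ Fin n)) F).mulVec x = x at hx
      rw [Matrix.neg_mulVec, Matrix.one_mulVec, neg_eq_iff_add_eq_zero, ← two_smul F x] at hx
      exact (smul_eq_zero.1 hx).resolve_left h2
    rw [Cfsg.Agent.Forms.Reflections.par, hfix, finrank_bot, hcard]
    exact Odd.neg_one_pow ⟨n, by ring⟩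
  obtain ⟨k₀, hk₀⟩ := Cfsg.Agent.Forms.Spinor.pairHom_surjective hQ h2 hcard2 (1, -1)
  have hker : θ.ker = Cfsg.Omega F ⇑Q := Cfsg.Agent.Forms.Spinor.ker_pairHom hQ h2 hcard2
  rw [← hker]
  refine ⟨?_, ?_⟩
  · have h1 := OddClassCount2560.le_card_classes h2 n S
    have h3 := OddClassCount2560.le_four_mul θ e k₀ he he1 hk₀
    omega
  · let surv : ConjClasses ↥(Cfsg.isometryGroup F ⇑Q) → Prop :=
      fun c => ∀ a z, ConjClasses.mk a = c → Commute a z → θ z ≠ (1, -1)
    have hwit : ∀ a, ¬ surv (ConjClasses.mk a) → ∃ z, Commute a z ∧ θ z = (1, -1) := by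
      intro a h
      simp only [surv, not_forall, not_not] at h
      obtain ⟨a', z, ha', hz, hzθ⟩ := h
      obtain ⟨g, hg⟩ := isConj_iff.1 (ConjClasses.mk_eq_mk_iff_isConj.1 ha')
      exact ⟨g * z * g⁻¹, hg ▸ (SemiconjBy.conj_iff).2 hz, by rw [map_mul, map_mul, map_inv, mul_inv_cancel_comm, hzθ]⟩
    have h1 := OddClassCount2560.four_mul_le θ e k₀ he he1 hk₀ surv
      (fun a _ hs => by
        by_contra h
        obtain ⟨z, hz, hzθ⟩ := hwit _ h
        refine hs a z rfl ?_ hzθ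
        have := (he z).inv_left.mul_left hz
        rwa [inv_mul_cancel_left] at this)
      (fun a _ h => hwit a h)
    have h3 := OddClassCount2560.card_bounds hodd h2 n S surv fun y hy hs => by
      obtain ⟨z, hz, hzθ⟩ := OddClassCount2560.exists_witness hodd h2 hQ hcard ε S hact hJ y hy
      exact hs y z rfl hz hzθ
    omega

end Cfsg.Agent.S2560
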