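import Cfsg.Statements.S2562
import Cfsg.Agent.Lib.Classical.QuadClass

set_option autoImplicit false
open Cfsg

namespace Cfsg.Agent.S2562

/-- Witt indices over the field of two elements, m ≥ 1: for the plus-type form Σ xᵢyᵢ in dimension 2m some m-dimensional subspace is totally singular and no totally singular subspace has larger dimension; for the minus-type form Σ xᵢyᵢ + (z₁² + z₁z₂ + z₂²) in dimension 2m the maximal dimension of a totally singular subspace is m − 1. -/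
theorem result (m : ℕ) (hm : 1 ≤ m) :
    (∃ U : Submodule (ZMod 2) (Fin m ⊕ Fin m → ZMod 2), (∀ u ∈ U, Cfsg.quadFormPlus m (ZMod 2) u = 0) ∧ Module.finrank (ZMod 2) ↥U = m) ∧
    (∀ U : Submodule (ZMod 2) (Fin m ⊕ Fin m → ZMod 2), (∀ u ∈ U, Cfsg.quadFormPlus m (ZMod 2) u = 0) → Module.finrank (ZMod 2) ↥U ≤ m) ∧
    (∃ U : Submodule (ZMod 2) ((Fin (m - 1) ⊕ Fin (m - 1)) ⊕ Fin 2 → ZMod 2), (∀ u ∈ U, Cfsg.quadFormMinus (m - 1) (ZMod 2) 1 1 u = 0) ∧ Module.finrank (ZMod 2) ↥U = m - 1) ∧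
    (∀ U : Submodule (ZMod 2) ((Fin (m - 1) ⊕ Fin (m - 1)) ⊕ Fin 2 → ZMod 2), (∀ u ∈ U, Cfsg.quadFormMinus (m - 1) (ZMod 2) 1 1 u = 0) → Module.finrank (ZMod 2) ↥U ≤ m - 1) := by
  have hab : ∀ z₁ z₂ : ZMod 2, z₁ ^ 2 + 1 * z₁ * z₂ + 1 * z₂ ^ 2 = 0 → z₁ = 0 ∧ z₂ = 0 := by
    decide
  let g : (Fin m → ZMod 2) →ₗ[ZMod 2] (Fin m ⊕ Fin m → ZMod 2) :=
    { toFun := fun x => Sum.elim x 0
      map_add' := fun x y => by ext (i | i) <;> simp
      map_smul' := fun t x => by ext (i | i) <;> simp }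
  let g' : (Fin (m - 1) → ZMod 2) →ₗ[ZMod 2] ((Fin (m - 1) ⊕ Fin (m - 1)) ⊕ Fin 2 → ZMod 2) :=
    { toFun := fun x => Sum.elim (Sum.elim x 0) 0
      map_add' := fun x y => by ext ((i | i) | i) <;> simp
      map_smul' := fun t x => by ext ((i | i) | i) <;> simp }
  refine ⟨⟨LinearMap.range g, ?_, ?_⟩, fun U hU => ?_, ⟨LinearMap.range g', ?_, ?_⟩, fun U hU => ?_⟩
  · rintro _ ⟨x, rfl⟩
    simp [g, Cfsg.quadFormPlus]
  · rw [LinearMap.finrank_range_of_inj fun x y h => funext fun i => congrFun h (Sum.inl i)]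
    simp
  · have h := Classical.QuadClass.two_mul_finrank_le (Forms.PlusStd.plusQ (ZMod 2) m)
      (Forms.PlusStd.plusQ_nondeg (ZMod 2) m) U (fun u hu => by
        rw [Forms.PlusStd.plusQ_apply]; exact hU u hu)
    simp at h
    omega
  · rintro _ ⟨x, rfl⟩
    simp [g', Cfsg.quadFormMinus, Cfsg.quadFormPlus]
  · rw [LinearMap.finrank_range_of_inj
      fun x y h => funext fun i => congrFun h (Sum.inl (Sum.inl i))]
    simp
  · exact Classical.QuadClass.finrank_le_of_minus hab U fun u hu => by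
      rw [Classical.OrthForms.minQ_eq]; exact hU u hu

end Cfsg.Agent.S2562
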