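import Cfsg.Statements.S2563
import Cfsg.Agent.Lib.Classical.EvenPerm

set_option autoImplicit false
open Cfsg

namespace Cfsg.Agent.S2563

open Cfsg.Agent.Forms.PlusStd Cfsg.Agent.Classical.OrthCount Cfsg.Agent.Classical.OrthForms
open Cfsg.Agent.Classical

/-- For k ≥ 1 the symmetric group of degree 4k + 4 embeds in a full orthogonal group in dimension 4k + 2 over the field of two elements: in the isometry group of the plus-type form Σ xᵢyᵢ when k is odd, and in that of the minus-type form Σ xᵢyᵢ + (z₁² + z₁z₂ + z₂²) when k is even (through its action on even partitions of a (4k+4)-set, with the form 'half the size of a part, modulo 2'). -/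
theorem result (k : ℕ) (hk : 1 ≤ k) :
    (Odd k → ∃ φ : Equiv.Perm (Fin (4 * k + 4)) →* ↥(Cfsg.isometryGroup (ZMod 2) (Cfsg.quadFormPlus (2 * k + 1) (ZMod 2))), Function.Injective φ) ∧
    (Even k → ∃ φ : Equiv.Perm (Fin (4 * k + 4)) →* ↥(Cfsg.isometryGroup (ZMod 2) (Cfsg.quadFormMinus (2 * k) (ZMod 2) 1 1)), Function.Injective φ) := by
  have hj : 4 * k + 2 + 1 + 1 = 4 * (k + 1) := by ring
  have hz := EvenPerm.zeros_form hj
  constructor
  · intro ho
    rw [← show ⇑(plusQ (ZMod 2) (2 * k + 1)) = Cfsg.quadFormPlus (2 * k + 1) (ZMod 2) from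
      funext fun v => plusQ_apply _ _ v]
    refine EvenPerm.exists_embedding ⟨k + 1, hj⟩ (by omega) _ (d := 2 * k + 1) (by ring)
      (by simp [two_mul]) (plusQ_nondeg _ _) ?_ (by ring)
    have h2 := QuadTwo.zeros_plus (m := 2 * k + 1) (by omega)
    rw [h2]
    rw [(ho.add_one).neg_pow, show 2 * (2 * k + 1) - 1 = 4 * k + 1 by omega,
      show 2 * k + 1 - 1 = 2 * k by omega] at *
    zify
    have e : (4 : ℤ) ^ (k + 1) = 4 * 2 ^ (2 * k) := by rw [pow_succ, pow_mul]; norm_num; ring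
    have e' : (2 : ℤ) ^ (4 * k + 2) = 2 * 2 ^ (4 * k + 1) := by ring
    linarith
  · intro he
    rw [← minQ_eq]
    refine EvenPerm.exists_embedding ⟨k + 1, hj⟩ (by omega) _ (d := 2 * k + 1) (by ring)
      (by simp; omega) (minQ_nondeg (2 * k) QuadTwo.aniso) ?_ (by ring)
    have h2 : zeros ⇑(minQ (ZMod 2) (2 * k) 1 1) + 2 ^ (2 * k) = 2 ^ (2 * (2 * k + 1) - 1) :=
      QuadTwo.zeros_min (m := 2 * k + 1) (by omega)
    rw [(he.add_one).neg_pow, show 2 * (2 * k + 1) - 1 = 4 * k + 1 by omega] at *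
    zify at h2 ⊢
    have e : (4 : ℤ) ^ (k + 1) = 4 * 2 ^ (2 * k) := by rw [pow_succ, pow_mul]; norm_num; ring
    have e' : (2 : ℤ) ^ (4 * k + 2) = 2 * 2 ^ (4 * k + 1) := by ring
    linarith

end Cfsg.Agent.S2563
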