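import Cfsg.Statements.S2566
import Cfsg.Agent.S0250
import Cfsg.Agent.Lib.Classical.OrthForms

set_option autoImplicit false
open Cfsg
open Matrix

namespace Cfsg.Agent.S2566

/-- Two by two matrices over two elements. -/
abbrev M2 : Type := Matrix (Fin 2) (Fin 2) (ZMod 2)

/-- Four by four matrices over two elements. -/
abbrev M4 : Type := Matrix (Fin 2 ⊕ Fin 2) (Fin 2 ⊕ Fin 2) (ZMod 2)

/-- A vector as a two by two matrix whose determinant is the form. -/
def toM (v : Fin 2 ⊕ Fin 2 → ZMod 2) : M2 :=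
  !![v (.inl 0), v (.inl 1); v (.inr 1), v (.inr 0)]

/-- A two by two matrix as a vector. -/
def ofM (X : M2) : Fin 2 ⊕ Fin 2 → ZMod 2 := Sum.elim ![X 0 0, X 0 1] ![X 1 1, X 1 0]

/-- Left multiplication. -/
def lm (M : M2) : M4 := Matrix.of fun i j => ofM (M * toM (Pi.single j 1)) i

/-- Right multiplication by the transpose. -/
def rm (M : M2) : M4 := Matrix.of fun i j => ofM (toM (Pi.single j 1) * Mᵀ) i

/-- Transposition. -/
def tp : M4 := Matrix.of fun i j => ofM (toM (Pi.single j 1))ᵀ i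

theorem lm_one : lm 1 = 1 := by decide +kernel

theorem rm_one : rm 1 = 1 := by decide +kernel

theorem lm_mul : ∀ M N : M2, lm (M * N) = lm M * lm N := by decide +kernel

theorem rm_mul : ∀ M N : M2, rm (M * N) = rm M * rm N := by decide +kernel

theorem lm_rm : ∀ M N : M2, lm M * rm N = rm N * lm M := by decide +kernel

theorem lr_injective : ∀ M N : M2, M.det = 1 → N.det = 1 → lm M * rm N = 1 → M = 1 ∧ N = 1 := by
  decide +kernel

theorem lm_form : ∀ M : M2, M.det = 1 → ∀ v, Cfsg.quadFormPlus 2 (ZMod 2) (lm M *ᵥ v)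
    = Cfsg.quadFormPlus 2 (ZMod 2) v := by
  decide +kernel

theorem rm_form : ∀ M : M2, M.det = 1 → ∀ v, Cfsg.quadFormPlus 2 (ZMod 2) (rm M *ᵥ v)
    = Cfsg.quadFormPlus 2 (ZMod 2) v := by
  decide +kernel

theorem tp_form : ∀ v, Cfsg.quadFormPlus 2 (ZMod 2) (tp *ᵥ v)
    = Cfsg.quadFormPlus 2 (ZMod 2) v := by
  decide +kernel

theorem tp_mul_tp : tp * tp = 1 := by decide +kernel

theorem tp_conj : ∀ M : M2, tp * lm M * tp = rm M := by decide +kernel

local notation "O4" => Cfsg.isometryGroup (ZMod 2) (Cfsg.quadFormPlus 2 (ZMod 2))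

/-- The transposition as an isometry. -/
def tpO : O4 := ⟨⟨tp, tp, tp_mul_tp, tp_mul_tp⟩, fun u _ => tp_form u⟩

/-- Left multiplication as a homomorphism. -/
def lHom : Matrix.SpecialLinearGroup (Fin 2) (ZMod 2) →* O4 where
  toFun g := ⟨⟨lm g.1, lm (g⁻¹).1,
    by rw [← lm_mul, ← Matrix.SpecialLinearGroup.coe_mul, mul_inv_cancel,
      Matrix.SpecialLinearGroup.coe_one, lm_one],
    by rw [← lm_mul, ← Matrix.SpecialLinearGroup.coe_mul, inv_mul_cancel,
      Matrix.SpecialLinearGroup.coe_one, lm_one]⟩, fun u _ => lm_form _ g.2 u⟩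
  map_one' := Subtype.ext (Units.ext lm_one)
  map_mul' a b := Subtype.ext (Units.ext (lm_mul a.1 b.1))

/-- Right multiplication as a homomorphism. -/
def rHom : Matrix.SpecialLinearGroup (Fin 2) (ZMod 2) →* O4 where
  toFun g := ⟨⟨rm g.1, rm (g⁻¹).1,
    by rw [← rm_mul, ← Matrix.SpecialLinearGroup.coe_mul, mul_inv_cancel,
      Matrix.SpecialLinearGroup.coe_one, rm_one],
    by rw [← rm_mul, ← Matrix.SpecialLinearGroup.coe_mul, inv_mul_cancel,
      Matrix.SpecialLinearGroup.coe_one, rm_one]⟩, fun u _ => rm_form _ g.2 u⟩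
  map_one' := Subtype.ext (Units.ext rm_one)
  map_mul' a b := Subtype.ext (Units.ext (rm_mul a.1 b.1))

theorem hom_comm (a b : Matrix.SpecialLinearGroup (Fin 2) (ZMod 2)) :
    Commute (lHom a) (rHom b) := Subtype.ext (Units.ext (lm_rm a.1 b.1))

theorem hom_injective : Function.Injective (MonoidHom.noncommCoprod lHom rHom hom_comm) := by
  rw [injective_iff_map_eq_one]
  rintro ⟨a, b⟩ h
  have h' : lm a.1 * rm b.1 = 1 := congrArg (fun x : ↥O4 => ((x : GL (Fin 2 ⊕ Fin 2) (ZMod 2)) : M4)) h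
  obtain ⟨h1, h2⟩ := lr_injective _ _ a.2 b.2 h'
  exact Prod.ext (Subtype.ext h1) (Subtype.ext h2)

theorem conj_range : lHom.range.map (MulAut.conj tpO).toMonoidHom = rHom.range := by
  have h : (MulAut.conj tpO).toMonoidHom.comp lHom = rHom :=
    MonoidHom.ext fun g => Subtype.ext (Units.ext (tp_conj g.1))
  rw [MonoidHom.map_range, h]


/-- The full orthogonal group of the plus-type form x₁y₁ + x₂y₂ in dimension 4 over the field of two elements has order 72 and is isomorphic to the wreath product of the symmetric group of degree 3 by a group of order 2: it has a normal subgroup isomorphic to the direct product of two symmetric groups of degree 3, of index 2, whose two direct factors are interchanged by conjugation by some element. -/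
theorem result :
    Nat.card ↥(Cfsg.isometryGroup (ZMod 2) (Cfsg.quadFormPlus 2 (ZMod 2))) = 72 ∧
    ∃ (A B : Subgroup ↥(Cfsg.isometryGroup (ZMod 2) (Cfsg.quadFormPlus 2 (ZMod 2)))),
      Nonempty (↥A ≃* Equiv.Perm (Fin 3)) ∧ Nonempty (↥B ≃* Equiv.Perm (Fin 3)) ∧ A ⊓ B = ⊥ ∧ (∀ a ∈ A, ∀ b ∈ B, a * b = b * a) ∧
      (A ⊔ B).index = 2 ∧ ∃ g : ↥(Cfsg.isometryGroup (ZMod 2) (Cfsg.quadFormPlus 2 (ZMod 2))), A.map (MulAut.conj g).toMonoidHom = B := by
  obtain ⟨e⟩ := Cfsg.Agent.S0250.result (F := ZMod 2) (by simp)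
  have hcard : Nat.card ↥O4 = 72 := by
    have h := Classical.OrthForms.natCard_O_plus (F := ZMod 2) (q := 2) (by simp) 1
    have hQ : Cfsg.quadFormPlus 2 (ZMod 2) = ⇑(Forms.PlusStd.plusQ (ZMod 2) 2) :=
      funext fun v => (Forms.PlusStd.plusQ_apply _ _ v).symm
    rw [hQ]
    norm_num at h ⊢
    exact h
  have hi : ∀ f : Matrix.SpecialLinearGroup (Fin 2) (ZMod 2) →* ↥O4, Function.Injective f →
      Nonempty (↥f.range ≃* Equiv.Perm (Fin 3)) := fun f hf =>
    ⟨(MonoidHom.ofInjective hf).symm.trans e⟩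
  have hinjL : Function.Injective lHom := fun a b h => by
    have := @hom_injective (a, 1) (b, 1) (by simp [h])
    exact congrArg Prod.fst this
  have hinjR : Function.Injective rHom := fun a b h => by
    have := @hom_injective (1, a) (1, b) (by simp [h])
    exact congrArg Prod.snd this
  refine ⟨hcard, lHom.range, rHom.range, hi _ hinjL, hi _ hinjR, ?_, ?_, ?_, tpO, conj_range⟩
  · rw [Subgroup.eq_bot_iff_forall]
    rintro x ⟨⟨a, rfl⟩, b, hb⟩
    have := @hom_injective (a, 1) (1, b) (by simp [hb])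
    rw [show a = 1 from congrArg Prod.fst this, map_one]
  · rintro _ ⟨a, rfl⟩ _ ⟨b, rfl⟩
    exact hom_comm a b
  · rw [← MonoidHom.noncommCoprod_range _ _ hom_comm]
    have h1 := Subgroup.index_mul_card (MonoidHom.noncommCoprod lHom rHom hom_comm).range
    rw [hcard, Nat.card_congr (MonoidHom.ofInjective hom_injective).toEquiv.symm, Nat.card_prod,
      Nat.card_congr e.toEquiv, Nat.card_perm, Nat.card_fin] at h1
    simp only [Nat.factorial] at h1
    omega

end Cfsg.Agent.S2566
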