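import Cfsg.Statements.S2567
import Cfsg.Agent.Lib.Classical.Linear

set_option autoImplicit false
open Cfsg

namespace Cfsg.Agent.S2567

/-- Lifting elements of prime order from PGL to GL: let F be a finite field with q elements, r a prime not dividing q − 1, and x an element of order r in GL_n(F) modulo its centre (the scalar matrices). Then x has exactly one preimage in GL_n(F) of order r. -/
theorem result {F : Type*} [Field F] [Fintype F] {q n r : ℕ} (hF : Fintype.card F = q) (hr : r.Prime) (hdiv : ¬ r ∣ q - 1) (x : GL (Fin n) F ⧸ Subgroup.center (GL (Fin n) F)) (hx : orderOf x = r) : ∃! g : GL (Fin n) F, (QuotientGroup.mk g : GL (Fin n) F ⧸ Subgroup.center (GL (Fin n) F)) = x ∧ orderOf g = r := by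
  classical
  have : Fact r.Prime := ⟨hr⟩
  obtain ⟨g, rfl⟩ := QuotientGroup.mk_surjective x
  rcases Nat.eq_zero_or_pos n with rfl | hn
  · have : Subsingleton (GL (Fin 0) F) := ⟨fun a b => Units.ext (Subsingleton.elim _ _)⟩
    rw [Subsingleton.elim g 1, QuotientGroup.mk_one, orderOf_one] at hx
    exact absurd hx hr.one_lt.ne
  have : Nonempty (Fin n) := ⟨⟨0, hn⟩⟩
  set Z := Subgroup.center (GL (Fin n) F)
  have hZ : (Nat.card Z).Coprime r := by
    have hc : Nat.card Z = q - 1 := by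
      rw [Classical.Linear.natCard_center_GL, hF]
    rw [hc, Nat.coprime_comm, hr.coprime_iff_not_dvd]
    exact hdiv
  have hgr : g ^ r ∈ Z := by
    rw [← QuotientGroup.eq_one_iff, QuotientGroup.mk_pow, ← hx, pow_orderOf_eq_one]
  obtain ⟨d, hd⟩ := (powCoprime hZ).surjective ⟨g ^ r, hgr⟩
  have hd' : (d : GL (Fin n) F) ^ r = g ^ r := congrArg Subtype.val hd
  have hcomm : Commute g (d : GL (Fin n) F) := (Subgroup.mem_center_iff.1 d.2 g)
  have hmk : (QuotientGroup.mk (g * (d : GL (Fin n) F)⁻¹) : GL (Fin n) F ⧸ Z) = QuotientGroup.mk g := by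
    rw [QuotientGroup.mk_mul_of_mem _ (Z.inv_mem d.2)]
  refine ⟨g * (d : GL (Fin n) F)⁻¹, ⟨hmk, orderOf_eq_prime ?_ fun h1 => ?_⟩, ?_⟩
  · rw [hcomm.inv_right.mul_pow, inv_pow, hd', mul_inv_cancel]
  · rw [h1, QuotientGroup.mk_one] at hmk
    rw [← hmk, orderOf_one] at hx
    exact hr.one_lt.ne hx
  · rintro h ⟨hh, hord⟩
    obtain ⟨z, hz, rfl⟩ : ∃ z ∈ Z, h = g * (d : GL (Fin n) F)⁻¹ * z :=
      ⟨(g * (d : GL (Fin n) F)⁻¹)⁻¹ * h, QuotientGroup.eq.1 (hmk.trans hh.symm),
        (mul_inv_cancel_left _ _).symm⟩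
    have hz1 : (⟨z, hz⟩ : Z) ^ r = 1 := by
      refine Subtype.ext ?_
      have h1 := pow_orderOf_eq_one (g * (d : GL (Fin n) F)⁻¹ * z)
      rw [hord, (show Commute (g * (d : GL (Fin n) F)⁻¹) z from
        Subgroup.mem_center_iff.1 hz _).mul_pow, hcomm.inv_right.mul_pow, inv_pow, hd',
        mul_inv_cancel, one_mul] at h1
      exact h1
    have := (powCoprime hZ).injective (a₁ := ⟨z, hz⟩) (a₂ := 1) (hz1.trans (one_pow r).symm)
    rw [show z = 1 from congrArg Subtype.val this, mul_one]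

end Cfsg.Agent.S2567
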