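import Cfsg.Statements.S2569
import Cfsg.Agent.Lib.Classical.CentralizerDet

set_option autoImplicit false
open Cfsg

namespace Cfsg.Agent.S2569

/-- In GL_n over a finite field of characteristic p, the conjugacy class of a semisimple element (an element of order prime to p) under the special linear group is its whole GL-conjugacy class: for every such x and every invertible g there is h of determinant one with h x h⁻¹ = g x g⁻¹. -/
theorem result {F : Type*} [Field F] [Fintype F] {p : ℕ} [Fact p.Prime] [CharP F p] {n : ℕ} (x g : GL (Fin n) F) (hx : (orderOf x).Coprime p) : ∃ h : GL (Fin n) F, (h : Matrix (Fin n) (Fin n) F).det = 1 ∧ h * x * h⁻¹ = g * x * g⁻¹ := by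
  rcases Nat.eq_zero_or_pos n with rfl | hn
  · exact ⟨g, Matrix.det_isEmpty, rfl⟩
  have : Nonempty (Fin n) := ⟨⟨0, hn⟩⟩
  have hk : ((orderOf x : ℕ) : F) ≠ 0 := by
    rw [Ne, CharP.cast_eq_zero_iff F p]
    intro hd
    exact (Fact.out : p.Prime).one_lt.ne' (Nat.eq_one_of_dvd_coprimes hx hd dvd_rfl)
  obtain ⟨C, hC, hCdet⟩ := Classical.CentralizerDet.exists_commute_det
    (Matrix.toLinAlgEquiv' (x : Matrix (Fin n) (Fin n) F)) hk
    (by rw [← map_pow, ← Units.val_pow_eq_pow_val, pow_orderOf_eq_one, Units.val_one, map_one])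
    ((g : Matrix (Fin n) (Fin n) F).det⁻¹)
  have hg0 : (g : Matrix (Fin n) (Fin n) F).det ≠ 0 := (g.isUnit.map Matrix.detMonoidHom).ne_zero
  let M := LinearMap.toMatrix' C
  have hM : M.det = (g : Matrix (Fin n) (Fin n) F).det⁻¹ := by
    rw [LinearMap.det_toMatrix', hCdet]
  let c : GL (Fin n) F := Matrix.GeneralLinearGroup.mkOfDetNeZero M (by rw [hM]; exact inv_ne_zero hg0)
  have hc : c * x = x * c := Units.ext (by
    show M * (x : Matrix (Fin n) (Fin n) F) = (x : Matrix (Fin n) (Fin n) F) * M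
    refine Matrix.toLinAlgEquiv'.injective ?_
    rw [map_mul, map_mul, show Matrix.toLinAlgEquiv' M = C from Matrix.toLin'_toMatrix' C]
    exact hC)
  refine ⟨g * c, ?_, ?_⟩
  · show ((g : Matrix (Fin n) (Fin n) F) * M).det = 1
    rw [Matrix.det_mul, hM, mul_inv_cancel₀ hg0]
  · rw [_root_.mul_inv_rev, mul_assoc g c x, hc]
    group

end Cfsg.Agent.S2569
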