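import Cfsg.Statements.S2570
import Cfsg.Agent.Lib.Classical.JordanClasses
-- import your own Cfsg.Agent.* helpers here

set_option autoImplicit false
open Cfsg

namespace Cfsg.Agent.S2570

open Cfsg.Agent

/-- Number of conjugacy classes of elements of order p in GL_n over a finite field of characteristic p: they correspond to the Jordan types, that is, to the partitions of n with all parts at most p other than the partition into ones, so there are (number of partitions of n with parts ≤ p) − 1 of them. -/
theorem result {F : Type*} [Field F] [Fintype F] {p : ℕ} [Fact p.Prime] [CharP F p] (n : ℕ) : Nat.card {C : ConjClasses (GL (Fin n) F) // ∃ g : GL (Fin n) F, ConjClasses.mk g = C ∧ orderOf g = p} = (Finset.univ.filter (fun μ : Nat.Partition n => ∀ a ∈ μ.parts, a ≤ p)).card - 1 := by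
  classical
  rw [Nat.card_congr (Equiv.subtypeEquivRight fun C => exists_congr fun g => and_comm)]
  rw [Cfsg.Agent.Classical.JordanChains.natCard_classes (fun g : GL (Fin n) F => orderOf g = p)
    (fun μ => (∀ a ∈ μ.parts, a ≤ p) ∧ ¬ ∀ a ∈ μ.parts, a ≤ 1)
    (fun g hg => ⟨p, ((Cfsg.Agent.Classical.JordanChains.orderOf_eq_char_iff p g).1 hg).1⟩) fun g hg => ?_]
  · exact Cfsg.Agent.Classical.JordanChains.natCard_partitions_order p (Nat.Prime.one_le Fact.out)
  · rw [Cfsg.Agent.Classical.JordanChains.orderOf_eq_char_iff p g,
      ← Cfsg.Agent.Classical.JordanChains.partition_pow_eq_zero hg p,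
      ← Cfsg.Agent.Classical.JordanChains.partition_pow_eq_zero hg 1, pow_one, ne_eq,
      Cfsg.Agent.Classical.JordanChains.nil_eq_zero]

end Cfsg.Agent.S2570
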