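import Cfsg.Statements.S2575
import Mathlib

set_option autoImplicit false
open Cfsg

namespace Cfsg.Agent.S2575

/-- Which diagonal involutions of PGL_n(q) lie in PSL_n(q), q odd: for the diagonal matrix t with i entries −1 and n − i entries 1, some non-zero scalar multiple of t has determinant one if and only if i is even or the 2-part of q − 1 exceeds the 2-part of n (that is, −1 is an n-th power in the field exactly in the latter case). -/
theorem result {F : Type*} [Field F] [Fintype F] {q : ℕ} (hF : Fintype.card F = q) (hq : Odd q) {n : ℕ} (hn : 1 ≤ n) (i : ℕ) (hi : i ≤ n) : (∃ c : F, c ≠ 0 ∧ (c • Matrix.diagonal (fun j : Fin n => if (j : ℕ) < i then (-1 : F) else 1)).det = 1) ↔ (Even i ∨ padicValNat 2 n < padicValNat 2 (q - 1)) := by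
  classical
  have : Fact (Nat.Prime 2) := ⟨Nat.prime_two⟩
  subst hF
  have hdet : ∀ c : F, (c • Matrix.diagonal (fun j : Fin n => if (j : ℕ) < i then (-1 : F) else 1)).det
      = c ^ n * (-1) ^ i := fun c => by
    rw [Matrix.det_smul, Fintype.card_fin, Matrix.det_diagonal, Finset.prod_ite]
    simp only [Finset.prod_const_one, mul_one, Finset.prod_const]
    congr 2
    rw [Fin.card_filter_val_lt, Nat.min_eq_right hi]
  simp only [hdet]
  rcases Nat.even_or_odd i with he | ho
  · exact iff_of_true ⟨1, one_ne_zero, by rw [he.neg_one_pow]; simp⟩ (Or.inl he)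
  · have h2 : (2 : F) ≠ 0 := Ring.two_ne_zero fun hc => by
      have := FiniteField.even_card_of_char_two hc
      rw [Nat.odd_iff] at hq; omega
    have hne : (-1 : Fˣ) ≠ 1 := fun hc => h2 (by
      have := congrArg Units.val hc
      simp only [Units.val_neg, Units.val_one] at this
      linear_combination -this)
    have hN : Fintype.card F - 1 ≠ 0 := by have := Fintype.one_lt_card (α := F); omega
    rw [ho.neg_one_pow, or_iff_right (Nat.not_even_iff_odd.2 ho)]
    have hn0 : n ≠ 0 := by omega
    constructor
    · rintro ⟨c, hc, h⟩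
      let u := Units.mk0 c hc
      have hu : u ^ n = -1 := Units.ext (by simp [u]; linear_combination -h)
      have h1 : ¬ orderOf u ∣ n := fun hd => hne (hu.symm.trans (orderOf_dvd_iff_pow_eq_one.1 hd))
      have h2' : orderOf u ∣ 2 * n := orderOf_dvd_iff_pow_eq_one.2 (by
        rw [mul_comm, pow_mul, hu]; simp)
      have h3 : orderOf u ∣ Fintype.card F - 1 := by
        rw [← Fintype.card_units]; exact orderOf_dvd_card
      obtain ⟨t, ht⟩ := h2'
      have hto : Odd t := by
        by_contra hte
        obtain ⟨s, rfl⟩ := Nat.not_odd_iff_even.1 hte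
        exact h1 ⟨s, by linarith⟩
      have ho0 : orderOf u ≠ 0 := fun e0 => by rw [e0, zero_mul] at ht; omega
      have ht0 : t ≠ 0 := by rintro rfl; omega
      have hv : padicValNat 2 (orderOf u) = padicValNat 2 n + 1 := by
        have e1 := congrArg (padicValNat 2) ht
        rw [padicValNat.mul (by norm_num) hn0, padicValNat.mul ho0 ht0, padicValNat.self (by norm_num),
          padicValNat.eq_zero_of_not_dvd (fun hd => Nat.not_even_iff_odd.2 hto (even_iff_two_dvd.2 hd)),
          add_zero] at e1
        omega
      have hpow : 2 ^ (padicValNat 2 n + 1) ∣ Fintype.card F - 1 :=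
        dvd_trans (hv ▸ pow_padicValNat_dvd) h3
      exact Nat.lt_of_succ_le ((padicValNat_dvd_iff_le hN).1 hpow)
    · intro hlt
      have hd : 2 ^ (padicValNat 2 n + 1) ∣ Fintype.card F - 1 := (padicValNat_dvd_iff_le hN).2 hlt
      obtain ⟨g, hg⟩ := IsCyclic.exists_generator (α := Fˣ)
      have hgo : orderOf g = Fintype.card F - 1 := by
        rw [orderOf_eq_card_of_forall_mem_zpowers hg, Nat.card_units, Nat.card_eq_fintype_card]
      obtain ⟨t, ht⟩ := hd
      have hc : orderOf (g ^ t) = 2 ^ (padicValNat 2 n + 1) := by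
        have ht0 : t ≠ 0 := fun e => hN (by rw [ht, e, mul_zero])
        rw [orderOf_pow_of_dvd ht0 (by rw [hgo, ht]; exact dvd_mul_left _ _), hgo, ht,
          Nat.mul_div_cancel _ (Nat.pos_of_ne_zero ht0)]
      generalize g ^ t = c at hc
      have hsq : (c ^ 2 ^ padicValNat 2 n) = -1 := by
        have e2 : (c ^ 2 ^ padicValNat 2 n) ^ 2 = 1 := by
          rw [← pow_mul, ← pow_succ, ← hc, pow_orderOf_eq_one]
        have e1 : (c ^ 2 ^ padicValNat 2 n) ≠ 1 := fun e => by
          have := orderOf_dvd_iff_pow_eq_one.2 e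
          rw [hc] at this
          exact absurd (Nat.le_of_dvd (by positivity) this) (by rw [pow_succ]; have := Nat.two_pow_pos (padicValNat 2 n); omega)
        have : ((c ^ 2 ^ padicValNat 2 n : Fˣ) : F) * ((c ^ 2 ^ padicValNat 2 n : Fˣ) : F) = 1 := by
          rw [← sq, ← Units.val_pow_eq_pow_val, e2, Units.val_one]
        rcases mul_self_eq_one_iff.1 this with e | e
        · exact absurd (Units.ext e) e1
        · exact Units.ext (by simpa using e)
      obtain ⟨s, hs⟩ := (pow_padicValNat_dvd : 2 ^ padicValNat 2 n ∣ n)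
      have hso : Odd s := by
        by_contra hse
        obtain ⟨r, rfl⟩ := Nat.not_odd_iff_even.1 hse
        exact pow_succ_padicValNat_not_dvd (p := 2) hn0 ⟨r, by rw [pow_succ]; linarith⟩
      refine ⟨(c : F), Units.ne_zero c, ?_⟩
      rw [hs, pow_mul, ← Units.val_pow_eq_pow_val, hsq, Units.val_neg, Units.val_one, hso.neg_one_pow]
      ring

end Cfsg.Agent.S2575
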