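import Cfsg.Statements.S2576
import Mathlib

set_option autoImplicit false
open Cfsg

namespace Cfsg.Agent.S2576

/-- Which involutions of PGL_2m(q) coming from a scalar of the quadratic extension field lie in PSL_2m(q), q odd: let μ generate the Sylow 2-subgroup of the multiplicative group of the field with q elements (μ has order the 2-part of q − 1) and let t be the block-diagonal matrix with m diagonal blocks [[0, 1], [μ, 0]] (so t² is the scalar μ and t is an involution modulo scalars). Then some non-zero scalar multiple of t has determinant one if and only if q ≡ 3 (mod 4) or the 2-part of q − 1 is less than the 2-part of 2m. -/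
theorem result {F : Type*} [Field F] [Fintype F] {q : ℕ} (hF : Fintype.card F = q) (hq : Odd q) {m : ℕ} (hm : 1 ≤ m) (μ : F) (hμ : orderOf μ = 2 ^ padicValNat 2 (q - 1)) : (∃ c : F, c ≠ 0 ∧ (c • Matrix.blockDiagonal (fun _ : Fin m => !![(0 : F), 1; μ, 0])).det = 1) ↔ (q % 4 = 3 ∨ padicValNat 2 (q - 1) < padicValNat 2 (2 * m)) := by
  classical
  have : Fact (Nat.Prime 2) := ⟨Nat.prime_two⟩
  subst hF
  have hdet : ∀ c : F, (c • Matrix.blockDiagonal (fun _ : Fin m => !![(0 : F), 1; μ, 0])).det
      = (c ^ 2 * -μ) ^ m := fun c => by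
    rw [Matrix.det_smul, Matrix.det_blockDiagonal, Finset.prod_const, Finset.card_univ,
      Fintype.card_prod, Fintype.card_fin, Fintype.card_fin, Matrix.det_fin_two, pow_mul, mul_pow]
    simp
  simp only [hdet]
  have hN : Fintype.card F - 1 ≠ 0 := by have := Fintype.one_lt_card (α := F); omega
  have hq2 : Fintype.card F % 2 = 1 := Nat.odd_iff.1 hq
  have hμ0 : μ ≠ 0 := fun h => by
    rw [h, orderOf_eq_zero_iff.2] at hμ
    · exact absurd hμ.symm (pow_ne_zero _ two_ne_zero)
    · simp [isOfFinOrder_iff_pow_eq_one]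
      exact fun n hn => by simp [Nat.pos_iff_ne_zero.1 hn]
  have hm0 : padicValNat 2 (2 * m) = padicValNat 2 m + 1 := by
    rw [padicValNat.mul (by norm_num) (by omega), padicValNat.self (by norm_num), add_comm]
  obtain ⟨k, hk⟩ : 2 ∣ Fintype.card F - 1 := by omega
  have ha1 : 1 ≤ padicValNat 2 (Fintype.card F - 1) := one_le_padicValNat_of_dvd hN ⟨k, hk⟩
  by_cases h3 : Fintype.card F % 4 = 3
  · refine iff_of_true ⟨1, one_ne_zero, ?_⟩ (Or.inl h3)
    have hv : padicValNat 2 (Fintype.card F - 1) = 1 := by
      refine le_antisymm ?_ ha1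
      by_contra hlt
      have := (padicValNat_dvd_iff_le (p := 2) hN).2 (show 2 ≤ padicValNat 2 (Fintype.card F - 1) by omega)
      omega
    rw [hv] at hμ
    have hsq : μ * μ = 1 := by rw [← sq, ← (show orderOf μ = 2 from hμ), pow_orderOf_eq_one]
    rcases mul_self_eq_one_iff.1 hsq with e | e
    · rw [e, orderOf_one] at hμ; norm_num at hμ
    · simp [e]
  · rw [or_iff_right h3, hm0, Nat.lt_succ_iff, ← padicValNat_dvd_iff_le (p := 2) (by omega)]
    have hm1 : (-1 : F) ^ k = 1 := (show Even k from ⟨k / 2, by omega⟩).neg_one_pow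
    have hμk : μ ^ k ≠ 1 := fun h => by
      have := orderOf_dvd_iff_pow_eq_one.2 h
      rw [hμ] at this
      obtain ⟨t, ht⟩ := this
      refine pow_succ_padicValNat_not_dvd (p := 2) hN ⟨t, ?_⟩
      exact hk.trans (by rw [ht, pow_succ]; ring)
    constructor
    · rintro ⟨c, hc, hy⟩
      let y := Units.mk0 (c ^ 2 * -μ) (mul_ne_zero (pow_ne_zero _ hc) (neg_ne_zero.2 hμ0))
      have hyk : ¬ orderOf y ∣ k := fun hd => hμk (by
        have := congrArg Units.val (orderOf_dvd_iff_pow_eq_one.1 hd)
        simp [y, mul_pow, neg_pow μ, hm1, ← pow_mul, ← hk,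
          FiniteField.pow_card_sub_one_eq_one c hc] at this
        exact this)
      have hyN : orderOf y ∣ 2 * k := by
        rw [← hk, ← Fintype.card_units]; exact orderOf_dvd_card
      obtain ⟨t, ht⟩ := hyN
      have hto : Odd t := by
        by_contra hte
        obtain ⟨s, rfl⟩ := Nat.not_odd_iff_even.1 hte
        exact hyk ⟨s, by linarith⟩
      have hdiv : 2 ^ padicValNat 2 (Fintype.card F - 1) ∣ orderOf y * t := by
        rw [← ht, ← hk]; exact pow_padicValNat_dvd
      have := (Nat.Coprime.dvd_of_dvd_mul_right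
        ((Nat.coprime_two_left.2 hto).pow_left _) hdiv)
      exact this.trans (orderOf_dvd_iff_pow_eq_one.2 (Units.ext (by simpa [y] using hy)))
    · intro hd
      refine ⟨1, one_ne_zero, ?_⟩
      have hev : Even m := even_iff_two_dvd.2 ((dvd_pow_self 2 (by omega)).trans hd)
      rw [one_pow, one_mul, hev.neg_pow, ← orderOf_dvd_iff_pow_eq_one, hμ]
      exact hd

end Cfsg.Agent.S2576
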