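import Cfsg.Statements.S2578
import Cfsg.Agent.Lib.Classical.RegularUnipotentConj

set_option autoImplicit false
set_option maxHeartbeats 800000
open Cfsg
open Cfsg.Agent.Classical

namespace Cfsg.Agent.S2578

/-- Regular unipotent classes of SL_n(q): for n ≥ 2 over the field with q elements, the matrices u of determinant one with (u − 1)^n = 0 and rank(u − 1) = n − 1 form a single GL_n(q)-class which splits into exactly gcd(n, q − 1) conjugacy classes of SL_n(q). -/
theorem result {F : Type*} [Field F] [Fintype F] {q : ℕ} (hF : Fintype.card F = q) {n : ℕ} (hn : 2 ≤ n) : Nat.card {C : ConjClasses (Matrix.SpecialLinearGroup (Fin n) F) // ∃ u : Matrix.SpecialLinearGroup (Fin n) F, ConjClasses.mk u = C ∧ ((u : Matrix (Fin n) (Fin n) F) - 1) ^ n = 0 ∧ ((u : Matrix (Fin n) (Fin n) F) - 1).rank = n - 1} = Nat.gcd n (q - 1) := by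
  classical
  have hnpos : 1 ≤ n := by omega
  set N₀ := RegularUnipotentConj.shift F n with hN₀
  have hnil₀ : N₀ ^ n = 0 := RegularUnipotentConj.shift_pow_self
  have hreg₀ : N₀.rank = n - 1 := RegularUnipotentConj.rank_shift
  let i0 : Fin n := ⟨0, by omega⟩
  let d : Fˣ → GL (Fin n) F := fun a => Matrix.GeneralLinearGroup.mkOfDetNeZero
    (Matrix.diagonal fun i => if i = i0 then (a : F) else 1) (by
      rw [Matrix.det_diagonal, Finset.prod_ite_eq']
      simp)
  have hd : ∀ a : Fˣ, Matrix.GeneralLinearGroup.det (d a) = a := fun a => by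
    apply Units.ext
    rw [Matrix.GeneralLinearGroup.val_det_apply]
    simp [d, Matrix.det_diagonal, Finset.prod_ite_eq']
  obtain ⟨u₀, hu₀⟩ : ∃ u₀ : Matrix.SpecialLinearGroup (Fin n) F,
      (u₀ : Matrix (Fin n) (Fin n) F) = 1 + N₀ := by
    refine ⟨⟨1 + N₀, ?_⟩, rfl⟩
    have := RegularUnipotentConj.det_smul_one_add (1 : F) N₀ ⟨n, hnil₀⟩
    rwa [one_smul, one_pow] at this
  have hmem : Matrix.GeneralLinearGroup.det (Matrix.SpecialLinearGroup.toGL u₀) = 1 :=
    Units.ext u₀.2
  let r : GL (Fin n) F → Matrix.SpecialLinearGroup (Fin n) F := fun g =>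
    ⟨(g * Matrix.SpecialLinearGroup.toGL u₀ * g⁻¹ : GL (Fin n) F), by
      rw [← Matrix.GeneralLinearGroup.val_det_apply, map_mul, map_mul, hmem, mul_one, map_inv,
        mul_inv_cancel, Units.val_one]⟩
  have hr : ∀ g, Matrix.SpecialLinearGroup.toGL (r g)
      = g * Matrix.SpecialLinearGroup.toGL u₀ * g⁻¹ := fun g => Units.ext rfl
  have hcent : ∀ c : GL (Fin n) F,
      c * Matrix.SpecialLinearGroup.toGL u₀ = Matrix.SpecialLinearGroup.toGL u₀ * c →
      ∃ b : Fˣ, Matrix.GeneralLinearGroup.det c = b ^ n := by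
    intro c hc
    have hc' : Commute N₀ (c : Matrix (Fin n) (Fin n) F) := by
      have h := congrArg Units.val hc
      change (c : Matrix (Fin n) (Fin n) F) * (u₀ : Matrix (Fin n) (Fin n) F)
        = (u₀ : Matrix (Fin n) (Fin n) F) * (c : Matrix (Fin n) (Fin n) F) at h
      rw [hu₀, mul_add, add_mul, mul_one, one_mul, add_right_inj] at h
      exact h.symm
    obtain ⟨b, hb⟩ := RegularUnipotentConj.det_of_commute N₀ _ hnpos hnil₀ hreg₀ hc'
    have hb0 : b ≠ 0 := fun h0 => c.det_ne_zero (by rw [hb, h0, zero_pow (by omega)])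
    exact ⟨Units.mk0 b hb0, Units.ext (by rw [Matrix.GeneralLinearGroup.val_det_apply]; simpa)⟩
  have hiff : ∀ g g' : GL (Fin n) F, IsConj (r g) (r g') ↔
      ∃ b : Fˣ, Matrix.GeneralLinearGroup.det g' = b ^ n * Matrix.GeneralLinearGroup.det g := by
    intro g g'
    rw [isConj_iff]
    constructor
    · rintro ⟨s, hs⟩
      have h := congrArg Matrix.SpecialLinearGroup.toGL hs
      rw [map_mul, map_mul, map_inv, hr, hr] at h
      obtain ⟨b, hb⟩ := hcent (g'⁻¹ * (Matrix.SpecialLinearGroup.toGL s * g)) (by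
        have h' := congrArg (fun z => g'⁻¹ * z * (Matrix.SpecialLinearGroup.toGL s * g)) h
        simpa [mul_assoc] using h')
      rw [map_mul, map_inv, map_mul,
        show Matrix.GeneralLinearGroup.det (Matrix.SpecialLinearGroup.toGL s) = 1 from
          Units.ext s.2, one_mul, inv_mul_eq_iff_eq_mul] at hb
      refine ⟨b⁻¹, ?_⟩
      rw [hb, inv_pow, mul_comm _ (b ^ n), inv_mul_cancel_left]
    · rintro ⟨b, hb⟩
      let z : GL (Fin n) F := Units.map (algebraMap F (Matrix (Fin n) (Fin n) F)).toMonoidHom b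
      have hz : Matrix.GeneralLinearGroup.det z = b ^ n := by
        apply Units.ext
        rw [Matrix.GeneralLinearGroup.val_det_apply]
        simp [z, Matrix.algebraMap_eq_diagonal]
      have hzc : ∀ y : GL (Fin n) F, z * y = y * z := fun y =>
        Units.ext (Algebra.commutes (b : F) (y : Matrix (Fin n) (Fin n) F))
      obtain ⟨w, hw⟩ : ∃ w : Matrix.SpecialLinearGroup (Fin n) F,
          Matrix.SpecialLinearGroup.toGL w = g' * z⁻¹ * g⁻¹ := by
        refine ⟨⟨((g' * z⁻¹ * g⁻¹ : GL (Fin n) F) : Matrix (Fin n) (Fin n) F), ?_⟩, Units.ext rfl⟩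
        rw [← Matrix.GeneralLinearGroup.val_det_apply, map_mul, map_mul, map_inv, map_inv, hz, hb]
        simp [mul_comm (b ^ n), mul_assoc]
      refine ⟨w, Matrix.SpecialLinearGroup.toGL_injective ?_⟩
      rw [map_mul, map_mul, map_inv, hr, hr, hw]
      have e : z⁻¹ * Matrix.SpecialLinearGroup.toGL u₀ * z = Matrix.SpecialLinearGroup.toGL u₀ := by
        rw [mul_assoc, ← hzc, inv_mul_cancel_left]
      conv_rhs => rw [← e]
      simp only [mul_assoc, _root_.mul_inv_rev, inv_inv, inv_mul_cancel_left]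
  let f : Fˣ → {C : ConjClasses (Matrix.SpecialLinearGroup (Fin n) F) //
      ∃ u : Matrix.SpecialLinearGroup (Fin n) F, ConjClasses.mk u = C ∧
      ((u : Matrix (Fin n) (Fin n) F) - 1) ^ n = 0 ∧
      ((u : Matrix (Fin n) (Fin n) F) - 1).rank = n - 1} := fun a =>
    ⟨ConjClasses.mk (r (d a)), r (d a), rfl, by
      have e : ((r (d a) : Matrix.SpecialLinearGroup (Fin n) F) : Matrix (Fin n) (Fin n) F) - 1
          = (d a : Matrix (Fin n) (Fin n) F) * N₀ * ((d a)⁻¹ : GL (Fin n) F) := by
        show (d a : Matrix (Fin n) (Fin n) F) * (u₀ : Matrix (Fin n) (Fin n) F) *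
          ((d a)⁻¹ : GL (Fin n) F) - 1 = _
        rw [hu₀, mul_add, add_mul, mul_one, Units.mul_inv, add_sub_cancel_left]
      rw [e]
      refine ⟨?_, ?_⟩
      · rw [Units.conj_pow, hnil₀]
        simp
      · rw [Matrix.rank_mul_eq_left_of_det_ne_zero _ _ (Matrix.GeneralLinearGroup.det_ne_zero _),
          Matrix.rank_mul_eq_right_of_det_ne_zero _ _ (Matrix.GeneralLinearGroup.det_ne_zero _), hreg₀]⟩
  have hsurj : Function.Surjective f := by
    rintro ⟨C, u, rfl, hnil, hreg⟩
    obtain ⟨g, hg⟩ := RegularUnipotentConj.exists_conj N₀ _ hnil₀ hreg₀ hnil hreg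
    refine ⟨Matrix.GeneralLinearGroup.det g, Subtype.ext (ConjClasses.mk_eq_mk_iff_isConj.2 ?_)⟩
    have hu : u = r g := by
      apply Matrix.SpecialLinearGroup.toGL_injective
      rw [hr, eq_mul_inv_iff_mul_eq]
      apply Units.ext
      show (u : Matrix (Fin n) (Fin n) F) * (g : Matrix (Fin n) (Fin n) F)
        = (g : Matrix (Fin n) (Fin n) F) * (u₀ : Matrix (Fin n) (Fin n) F)
      rw [hu₀, mul_add, mul_one, hg, sub_mul, one_mul, add_sub_cancel]
    rw [hu, hiff]
    exact ⟨1, by rw [hd, one_pow, one_mul]⟩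
  have hker : ∀ a b : Fˣ, f a = f b ↔
      QuotientGroup.mk (s := (powMonoidHom n : Fˣ →* Fˣ).range) a = QuotientGroup.mk b := by
    intro a b
    rw [QuotientGroup.eq]
    refine ⟨fun h => ?_, fun h => ?_⟩
    · obtain ⟨c, hc⟩ := (hiff _ _).1 (ConjClasses.mk_eq_mk_iff_isConj.1 (congrArg Subtype.val h))
      rw [hd, hd] at hc
      exact ⟨c, by rw [powMonoidHom_apply, hc, mul_comm (c ^ n), inv_mul_cancel_left]⟩
    · obtain ⟨c, hc⟩ := h
      refine Subtype.ext (ConjClasses.mk_eq_mk_iff_isConj.2 ((hiff _ _).2 ⟨c, ?_⟩))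
      rw [powMonoidHom_apply] at hc
      rw [hd, hd, hc, mul_comm (a⁻¹ * b), mul_inv_cancel_left]
  let e : Fˣ ⧸ (powMonoidHom n : Fˣ →* Fˣ).range → _ :=
    Quotient.lift f (fun a b hab => (hker a b).2 (Quotient.sound hab))
  have he : Function.Bijective e := by
    refine ⟨?_, fun C => ?_⟩
    · intro x y hxy
      induction x using QuotientGroup.induction_on with
      | H x =>
        induction y using QuotientGroup.induction_on with
        | H y => exact (hker x y).1 hxy
    · obtain ⟨a, ha⟩ := hsurj C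
      exact ⟨QuotientGroup.mk a, ha⟩
  rw [← Nat.card_eq_of_bijective e he, ← Subgroup.index, IsCyclic.index_powMonoidHom_range,
    Nat.card_units, Nat.card_eq_fintype_card, hF, Nat.gcd_comm]

end Cfsg.Agent.S2578
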