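import Cfsg.Statements.S2579
import Cfsg.Agent.S0839
import Cfsg.Agent.Lib.Classical.LinearExtend

set_option autoImplicit false
open Cfsg

namespace Cfsg.Agent.S2579

/-- In SL_n(F) with n ≥ 3, over a finite field F, any two transvections (matrices t with t − 1 of rank one and square zero) are conjugate by an element of SL_n(F). -/
theorem result {F : Type*} [Field F] [Finite F] {n : ℕ} (hn : 3 ≤ n) (s t : Matrix.SpecialLinearGroup (Fin n) F) (hs : Cfsg.IsTransvection (s : Matrix (Fin n) (Fin n) F)) (ht : Cfsg.IsTransvection (t : Matrix (Fin n) (Fin n) F)) : IsConj s t := by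
  classical
  obtain ⟨a, b, hab, hN, hb⟩ := S0839.exists_vecMulVec _ hs.1 hs.2
  obtain ⟨a', b', hab', hN', hb'⟩ := S0839.exists_vecMulVec _ ht.1 ht.2
  have ha : a ≠ 0 := fun e => by
    have := hs.1
    rw [hN, e, Matrix.zero_vecMulVec, Matrix.rank_zero] at this
    exact zero_ne_one this
  have ha' : a' ≠ 0 := fun e => by
    have := ht.1
    rw [hN', e, Matrix.zero_vecMulVec, Matrix.rank_zero] at this
    exact zero_ne_one this
  let φ : Module.Dual F (Fin n → F) := dotProductEquiv F (Fin n) b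
  let φ' : Module.Dual F (Fin n → F) := dotProductEquiv F (Fin n) b'
  have hφ : φ ≠ 0 := (LinearEquiv.map_ne_zero_iff _).2 hb
  have hφ' : φ' ≠ 0 := (LinearEquiv.map_ne_zero_iff _).2 hb'
  have hK := Module.Dual.finrank_ker_add_one_of_ne_zero hφ
  have hK' := Module.Dual.finrank_ker_add_one_of_ne_zero hφ'
  obtain ⟨e, he⟩ := Classical.LinearExtend.exists_map_vec (F := F)
    (V := LinearMap.ker φ) (V' := LinearMap.ker φ') (by omega)
    (a := ⟨a, hab⟩) (a' := ⟨a', hab'⟩)
    (fun h => ha (congrArg Subtype.val h)) (fun h => ha' (congrArg Subtype.val h))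
  obtain ⟨w, hw⟩ : ∃ w, φ w = 1 := by
    obtain ⟨v, hv⟩ := LinearMap.surjective hφ 1
    exact ⟨v, hv⟩
  obtain ⟨w', hw'⟩ : ∃ w, φ' w = 1 := by
    obtain ⟨v, hv⟩ := LinearMap.surjective hφ' 1
    exact ⟨v, hv⟩
  let π : (Fin n → F) →ₗ[F] LinearMap.ker φ :=
    (LinearMap.id - φ.smulRight w).codRestrict _ (fun v => by simp [hw])
  let G₀ : (Fin n → F) →ₗ[F] (Fin n → F) :=
    (LinearMap.ker φ').subtype ∘ₗ e.toLinearMap ∘ₗ π + φ.smulRight w'
  have hG₀φ : ∀ v, φ' (G₀ v) = φ v := fun v => by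
    have h : φ' (e (π v) : Fin n → F) = 0 := (e (π v)).2
    simp [G₀, h, hw']
  have hG₀a : G₀ a = a' := by
    have hp : π a = ⟨a, hab⟩ := Subtype.ext (by
      show a - φ a • w = a
      rw [show φ a = 0 from hab]; simp)
    simp [G₀, hp, he, show φ a = 0 from hab]
  have hG₀i : Function.Injective G₀ := by
    refine (injective_iff_map_eq_zero G₀).2 fun v hv => ?_
    have hv' : φ v = 0 := by rw [← hG₀φ v, hv, map_zero]
    have hp : (π v : Fin n → F) = v := by
      show v - φ v • w = v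
      rw [hv']; simp
    have h3 : e (π v) = 0 := Subtype.ext (by simpa [G₀, hv'] using hv)
    rw [LinearEquiv.map_eq_zero_iff] at h3
    rw [← hp, h3]; rfl
  let G := LinearMap.toMatrix' G₀
  have hdet : G.det ≠ 0 := by
    rw [LinearMap.det_toMatrix']
    exact (LinearEquiv.ofBijective G₀ ⟨hG₀i, LinearMap.injective_iff_surjective.1 hG₀i⟩).isUnit_det'.ne_zero
  obtain ⟨z, hz, hza⟩ : ∃ z ∈ LinearMap.ker φ', z ∉ Submodule.span F {a'} := by
    by_contra hall
    push Not at hall
    have h := Submodule.finrank_mono (show LinearMap.ker φ' ≤ Submodule.span F {a'} from hall)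
    rw [finrank_span_singleton ha'] at h
    rw [Module.finrank_pi, Fintype.card_fin] at hK'
    omega
  obtain ⟨ψ, hψ, hψz⟩ := LinearMap.exists_extend_of_notMem
    (p := Submodule.span F {a'}) (0 : _ →ₗ[F] F) hza (1 : F)
  have hψa : ψ a' = 0 := LinearMap.congr_fun hψ ⟨a', Submodule.mem_span_singleton_self a'⟩
  let c := (dotProductEquiv F (Fin n)).symm ψ
  have hc : ∀ v, c ⬝ᵥ v = ψ v := fun v => by
    show dotProductEquiv F (Fin n) c v = _
    rw [LinearEquiv.apply_symm_apply]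
  let H : Matrix (Fin n) (Fin n) F :=
    1 + Matrix.replicateCol Unit z * Matrix.replicateRow Unit ((G.det⁻¹ - 1) • c)
  have hH : H.det = G.det⁻¹ := by
    rw [Matrix.det_one_add_replicateCol_mul_replicateRow, smul_dotProduct, hc, hψz, smul_eq_mul,
      mul_one]
    ring
  have hHv : ∀ v, H.mulVec v = v + ((G.det⁻¹ - 1) * ψ v) • z := fun v => by
    rw [Matrix.add_mulVec, Matrix.one_mulVec, ← Matrix.vecMulVec_eq, Matrix.vecMulVec_mulVec,
      op_smul_eq_smul, smul_dotProduct, hc, smul_eq_mul]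
  clear_value H
  let K : Matrix.SpecialLinearGroup (Fin n) F :=
    ⟨H * G, by rw [Matrix.det_mul, hH, inv_mul_cancel₀ hdet]⟩
  refine isConj_iff.2 ⟨K, ?_⟩
  rw [mul_inv_eq_iff_eq_mul]
  refine Subtype.ext ?_
  show H * G * (s : Matrix (Fin n) (Fin n) F) = (t : Matrix (Fin n) (Fin n) F) * (H * G)
  rw [show (s : Matrix (Fin n) (Fin n) F) = 1 + Matrix.vecMulVec a b by rw [← hN]; abel,
    show (t : Matrix (Fin n) (Fin n) F) = 1 + Matrix.vecMulVec a' b' by rw [← hN']; abel,
    Matrix.mul_add, Matrix.add_mul, Matrix.mul_one, Matrix.one_mul, Matrix.mul_vecMulVec,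
    Matrix.vecMulVec_mul, ← Matrix.mulVec_mulVec, LinearMap.toMatrix'_mulVec, hG₀a, hHv, hψa,
    mul_zero, zero_smul, add_zero]
  congr 2
  refine ((dotProductEquiv F (Fin n)).injective (LinearMap.ext fun v => ?_)).symm
  show Matrix.vecMul b' (H * G) ⬝ᵥ v = φ v
  rw [← Matrix.dotProduct_mulVec, ← Matrix.mulVec_mulVec, LinearMap.toMatrix'_mulVec, hHv]
  show φ' (G₀ v + ((G.det⁻¹ - 1) * ψ (G₀ v)) • z) = φ v
  rw [map_add, map_smul, show φ' z = 0 from hz, smul_zero, add_zero, hG₀φ]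

end Cfsg.Agent.S2579
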