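import Cfsg.Statements.S2582
import Cfsg.Agent.Lib.Classical.JordanFormsType
import Cfsg.Agent.Lib.Forms.SympStd
-- import your own Cfsg.Agent.* helpers here

set_option autoImplicit false
open Cfsg

namespace Cfsg.Agent.S2582

open Cfsg.Agent.Classical Matrix

/-- Which unipotent Jordan types occur in the finite symplectic group: over a finite field, a unipotent matrix with Jordan block sizes d_1, …, d_t (sum 2m, all at least 1) is similar to an element of Sp_2m(F) if and only if every odd block size occurs an even number of times. -/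
theorem result {F : Type*} [Field F] [Fintype F] {m t : ℕ} (d : Fin t → ℕ) (hd : ∀ k, 1 ≤ d k) (hsum : ∑ k, d k = 2 * m) : (∃ e : ((k : Fin t) × Fin (d k)) ≃ (Fin m ⊕ Fin m), ∃ A : Matrix.symplecticGroup (Fin m) F, IsConj (Matrix.reindex e e (Cfsg.jordanTypeMatrix d F)) (A : Matrix (Fin m ⊕ Fin m) (Fin m ⊕ Fin m) F)) ↔ ∀ j : ℕ, Odd j → Even (Finset.univ.filter (fun k : Fin t => d k = j)).card := by
  classical
  constructor
  · rintro ⟨e, A, hA⟩ j hj
    refine JordanFormsType.even_count_alt hd e (Matrix.isUnit_det_J (Fin m) F).ne_zero ?_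
      (SymplecticGroup.mem_iff'.1 A.2) hA hj
    exact Cfsg.Agent.Forms.SympStd.sympB_isAlt (F := F) (m := m)
  · intro h
    obtain ⟨K, hKdet, hKinv⟩ := JordanFormsExist.exists_form d (-1 : F) (by norm_num) Even
      (fun i hi => JordanFormsExist.exists_altBlock i hi)
      (fun k hk => h _ (Nat.not_even_iff_odd.1 hk))
    let e : ((k : Fin t) × Fin (d k)) ≃ (Fin m ⊕ Fin m) := Fintype.equivOfCardEq (by
      rw [Fintype.card_sigma, Fintype.card_sum, Fintype.card_fin]
      simp only [Fintype.card_fin]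
      omega)
    set J0 := Matrix.reindex e e (Cfsg.jordanTypeMatrix d F) with hJ0
    set G := (K + (-1 : F) • Kᵀ).submatrix e.symm e.symm with hG
    have hGdet : G.det ≠ 0 := by rw [hG, Matrix.det_submatrix_equiv_self]; exact hKdet
    have hGinv : J0ᵀ * G * J0 = G := by
      rw [hJ0, hG, Matrix.reindex_apply, Matrix.transpose_submatrix, Matrix.submatrix_mul_equiv,
        Matrix.submatrix_mul_equiv, hKinv]
    have halt : (Matrix.toBilin' G).IsAlt := fun x => by
      rw [hG, JordanFormsType.toBilin_reindex, map_add, map_smul, LinearMap.add_apply,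
        LinearMap.add_apply, LinearMap.smul_apply, LinearMap.smul_apply, Matrix.toBilin'_apply',
        Matrix.toBilin'_apply', smul_eq_mul, Matrix.mulVec_transpose, dotProduct_comm _ (_ ᵥ* K),
        ← dotProduct_mulVec]
      ring
    obtain ⟨b, hb1, hb2, hb3⟩ := Cfsg.Agent.Forms.Bases.exists_sympBasis (Matrix.toBilin' G) halt
      (LinearMap.BilinForm.nondegenerate_toBilin'_iff_det_ne_zero.2 hGdet) (m := m)
      (by rw [Module.finrank_pi, Fintype.card_sum, Fintype.card_fin]; omega)
    let P : Matrix (Fin m ⊕ Fin m) (Fin m ⊕ Fin m) F := Matrix.of fun x a => b a.swap x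
    have hP : ∀ a, P *ᵥ Pi.single a 1 = b a.swap := fun a => by
      rw [Matrix.mulVec_single_one]; rfl
    have hPG : Pᵀ * G * P = Matrix.J (Fin m) F := by
      ext a c
      rw [← Matrix.toBilin'_single (Pᵀ * G * P) a c, JordanFormsType.toBilin_congr, hP, hP]
      rcases a with i | i <;> rcases c with j | j <;>
        simp only [Sum.swap_inl, Sum.swap_inr, hb1, hb2, hb3, Matrix.J, Matrix.fromBlocks_apply₁₁,
          Matrix.fromBlocks_apply₁₂, Matrix.fromBlocks_apply₂₁, Matrix.fromBlocks_apply₂₂,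
          Matrix.zero_apply, Matrix.neg_apply, Matrix.one_apply]
      rw [← LinearMap.BilinForm.IsAlt.neg_eq halt, hb1]
      simp only [eq_comm]
    have hPdet : IsUnit P.det := isUnit_iff_ne_zero.2 fun h0 =>
      (Matrix.isUnit_det_J (Fin m) F).ne_zero (by rw [← hPG, Matrix.det_mul, h0, mul_zero])
    have hPA : P * (P⁻¹ * J0 * P) = J0 * P := by
      rw [← mul_assoc, ← mul_assoc, Matrix.mul_nonsing_inv _ hPdet, one_mul]
    refine ⟨e, ⟨P⁻¹ * J0 * P, SymplecticGroup.mem_iff'.2 ?_⟩, ?_⟩
    · conv_lhs => rw [← hPG]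
      calc (P⁻¹ * J0 * P)ᵀ * (Pᵀ * G * P) * (P⁻¹ * J0 * P)
          = (P * (P⁻¹ * J0 * P))ᵀ * G * (P * (P⁻¹ * J0 * P)) := by
            simp only [Matrix.transpose_mul, mul_assoc]
        _ = Pᵀ * (J0ᵀ * G * J0) * P := by rw [hPA]; simp only [Matrix.transpose_mul, mul_assoc]
        _ = _ := by rw [hGinv, hPG]
    · refine ⟨⟨P⁻¹, P, Matrix.nonsing_inv_mul _ hPdet, Matrix.mul_nonsing_inv _ hPdet⟩, ?_⟩
      show P⁻¹ * J0 = P⁻¹ * J0 * P * P⁻¹
      rw [mul_assoc (P⁻¹ * J0), Matrix.mul_nonsing_inv _ hPdet, mul_one]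

end Cfsg.Agent.S2582
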