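import Cfsg.Statements.S2583
import Cfsg.Agent.Lib.Classical.JordanFormsType
-- import your own Cfsg.Agent.* helpers here

set_option autoImplicit false
open Cfsg

namespace Cfsg.Agent.S2583

open Cfsg.Agent.Classical Matrix

/-- Which unipotent Jordan types occur in a finite orthogonal group in odd characteristic: over a finite field of odd order, a unipotent matrix with Jordan block sizes d_1, …, d_t (sum n, all at least 1) is similar to an isometry of some quadratic form on F^n with non-degenerate polar form if and only if every even block size occurs an even number of times. -/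
theorem result {F : Type*} [Field F] [Fintype F] (h2 : (2 : F) ≠ 0) {n t : ℕ} (d : Fin t → ℕ) (hd : ∀ k, 1 ≤ d k) (hsum : ∑ k, d k = n) : (∃ Q : QuadraticForm F (Fin n → F), (QuadraticMap.polarBilin Q).Nondegenerate ∧ ∃ e : ((k : Fin t) × Fin (d k)) ≃ Fin n, ∃ A : ↥(Cfsg.isometryGroup F ⇑Q), IsConj (Matrix.reindex e e (Cfsg.jordanTypeMatrix d F)) ((A : Matrix.GeneralLinearGroup (Fin n) F) : Matrix (Fin n) (Fin n) F)) ↔ ∀ j : ℕ, Even j → 0 < j → Even (Finset.univ.filter (fun k : Fin t => d k = j)).card := by
  classical
  constructor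
  · rintro ⟨Q, hQ, e, A, hA⟩ j hj hj0
    refine JordanFormsType.even_count_symm hd e
      (G := LinearMap.BilinForm.toMatrix' (QuadraticMap.polarBilin Q))
      (LinearMap.BilinForm.nondegenerate_toBilin'_iff_det_ne_zero.1
        (by rw [Matrix.toBilin'_toMatrix']; exact hQ))
      (fun x y => ?_) h2 (JordanFormsType.polar_matrix_inv Q _ fun x => A.2 x 0) hA hj hj0
    rw [Matrix.toBilin'_toMatrix']
    exact QuadraticMap.polar_comm _ x y
  · intro h
    obtain ⟨K, hKdet, hKinv⟩ := JordanFormsExist.exists_form d (1 : F) one_ne_zero Odd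
      (fun i hi => JordanFormsExist.exists_symmBlock h2 i hi)
      (fun k hk => h _ (Nat.not_odd_iff_even.1 hk) (hd k))
    rw [one_smul] at hKdet hKinv
    set Q := LinearMap.BilinMap.toQuadraticMap (Matrix.toBilin' (K + Kᵀ)) with hQ
    have hpol : QuadraticMap.polarBilin Q = (2 : F) • Matrix.toBilin' (K + Kᵀ) := by
      rw [hQ, LinearMap.BilinMap.polarBilin_toQuadraticMap, two_smul]
      congr 1
      refine LinearMap.ext₂ fun x y => ?_
      rw [LinearMap.flip_apply, Matrix.toBilin'_apply', Matrix.toBilin'_apply', dotProduct_mulVec,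
        ← Matrix.mulVec_transpose, dotProduct_comm, Matrix.transpose_add, Matrix.transpose_transpose,
        add_comm]
    refine JordanFormsType.exists_isometry d hsum Q ?_ fun x => ?_
    · rw [hpol, ← map_smul]
      refine LinearMap.BilinForm.nondegenerate_toBilin'_iff_det_ne_zero.2 ?_
      rw [Matrix.det_smul]
      exact mul_ne_zero (pow_ne_zero _ h2) hKdet
    · rw [hQ, LinearMap.BilinMap.toQuadraticMap_apply, LinearMap.BilinMap.toQuadraticMap_apply,
        ← JordanFormsType.toBilin_congr, hKinv]

end Cfsg.Agent.S2583
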