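import Cfsg.Statements.S2584
import Cfsg.Agent.Lib.Classical.JordanFormsType
-- import your own Cfsg.Agent.* helpers here

set_option autoImplicit false
open Cfsg

namespace Cfsg.Agent.S2584

open Cfsg.Agent.Classical Matrix

/-- Which unipotent Jordan types occur in a finite orthogonal group in characteristic two: over a finite field of characteristic 2 and in even dimension 2m, a unipotent matrix with Jordan block sizes d_1, …, d_t (sum 2m, all at least 1) is similar to an isometry of some quadratic form on F^(2m) with non-degenerate polar form if and only if every odd block size occurs an even number of times (the same condition as for the symplectic group, which contains these orthogonal groups). -/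
theorem result {F : Type*} [Field F] [Fintype F] [CharP F 2] {m t : ℕ} (d : Fin t → ℕ) (hd : ∀ k, 1 ≤ d k) (hsum : ∑ k, d k = 2 * m) : (∃ Q : QuadraticForm F (Fin (2 * m) → F), (QuadraticMap.polarBilin Q).Nondegenerate ∧ ∃ e : ((k : Fin t) × Fin (d k)) ≃ Fin (2 * m), ∃ A : ↥(Cfsg.isometryGroup F ⇑Q), IsConj (Matrix.reindex e e (Cfsg.jordanTypeMatrix d F)) ((A : Matrix.GeneralLinearGroup (Fin (2 * m)) F) : Matrix (Fin (2 * m)) (Fin (2 * m)) F)) ↔ ∀ j : ℕ, Odd j → Even (Finset.univ.filter (fun k : Fin t => d k = j)).card := by
  classical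
  constructor
  · rintro ⟨Q, hQ, e, A, hA⟩ j hj
    refine JordanFormsType.even_count_alt hd e
      (G := LinearMap.BilinForm.toMatrix' (QuadraticMap.polarBilin Q))
      (LinearMap.BilinForm.nondegenerate_toBilin'_iff_det_ne_zero.1
        (by rw [Matrix.toBilin'_toMatrix']; exact hQ))
      (fun x => ?_) (JordanFormsType.polar_matrix_inv Q _ fun x => A.2 x 0) hA hj
    rw [Matrix.toBilin'_toMatrix', QuadraticMap.polarBilin_apply_apply, QuadraticMap.polar_self,
      two_nsmul, CharTwo.add_self_eq_zero]
  · intro h
    have hneg : (-1 : F) = 1 := CharTwo.neg_eq 1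
    obtain ⟨K, hKdet, hKinv⟩ := JordanFormsExist.exists_form d (1 : F) one_ne_zero Even
      (fun i hi => hneg ▸ JordanFormsExist.exists_altBlock i hi)
      (fun k hk => h _ (Nat.not_even_iff_odd.1 hk))
    rw [one_smul] at hKdet hKinv
    obtain ⟨Q, hpol, hinv⟩ := JordanFormsExist.exists_quad K (Cfsg.jordanTypeMatrix d F) hKinv
    exact JordanFormsType.exists_isometry d hsum Q
      (by rw [hpol]; exact LinearMap.BilinForm.nondegenerate_toBilin'_iff_det_ne_zero.2 hKdet) hinv

end Cfsg.Agent.S2584
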