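import Cfsg.Statements.S2585
import Cfsg.Agent.Lib.Forms.SympStd
import Cfsg.Agent.Lib.Forms.PlusStd

set_option autoImplicit false
open Cfsg

namespace Cfsg.Agent.S2585

/-- Over a finite field of characteristic two every element of the symplectic group is orthogonal for a suitable quadratic form: for each A in Sp_2m(F) there is a quadratic form Q on F^(2m) whose polar form is the alternating form defining Sp_2m(F) (so Q is non-degenerate) and which A preserves. Equivalently, for m ≥ 1, Sp_2m(F) is the union of the conjugates of its two orthogonal subgroups O⁺_2m(F) and O⁻_2m(F). -/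
theorem result {F : Type*} [Field F] [Fintype F] [CharP F 2] {m : ℕ} (A : Matrix.symplecticGroup (Fin m) F) : ∃ Q : QuadraticForm F (Fin m ⊕ Fin m → F), (∀ u v : Fin m ⊕ Fin m → F, QuadraticMap.polar ⇑Q u v = Cfsg.sympForm m F u v) ∧ ∀ v : Fin m ⊕ Fin m → F, Q ((A : Matrix (Fin m ⊕ Fin m) (Fin m ⊕ Fin m) F).mulVec v) = Q v := by
  classical
  have h2 : (2 : F) = 0 := CharTwo.two_eq_zero
  let Q₀ := Forms.PlusStd.plusQ F m
  have hpol : ∀ u v : Fin m ⊕ Fin m → F, QuadraticMap.polar ⇑Q₀ u v = Cfsg.sympForm m F u v := fun u v => by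
    rw [Forms.PlusStd.plusQ_polar, Forms.SympStd.sympForm_eq]
    exact Finset.sum_congr rfl fun i _ => by linear_combination (u (.inl i) * v (.inr i)) * h2
  set M := (A : Matrix (Fin m ⊕ Fin m) (Fin m ⊕ Fin m) F) with hM
  have hpres : ∀ x y, Cfsg.sympForm m F (M.mulVec x) (M.mulVec y) = Cfsg.sympForm m F x y := fun x y => by
    have hu := SymplecticGroup.mem_iff'.1 A.2
    rw [Cfsg.sympForm, Cfsg.sympForm, dotProduct_comm, Matrix.mulVec_mulVec, Matrix.dotProduct_mulVec,
      ← Matrix.mulVec_transpose, Matrix.mulVec_mulVec, ← Matrix.mul_assoc, hu, dotProduct_comm]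
  have hsq : ∀ a : F, ∃ s, s * s = a := fun a => by
    obtain ⟨s, hs⟩ := (FiniteField.isSquare_of_char_two (ringChar.eq F 2) a : IsSquare a)
    exact ⟨s, hs.symm⟩
  choose r hr using hsq
  have huniq : ∀ {s t : F}, s * s = t * t → s = t := fun {s t} h => by
    rcases mul_self_eq_mul_self_iff.1 h with e | e
    · exact e
    · rw [e, CharTwo.neg_eq]
  have hadd : ∀ x y, Q₀ (M.mulVec (x + y)) - Q₀ (x + y) =
      (Q₀ (M.mulVec x) - Q₀ x) + (Q₀ (M.mulVec y) - Q₀ y) := fun x y => by
    rw [Matrix.mulVec_add, QuadraticMap.map_add Q₀ (M.mulVec x), QuadraticMap.map_add Q₀ x,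
      hpol, hpol, hpres]
    ring
  let d : (Fin m ⊕ Fin m → F) →ₗ[F] F :=
    { toFun := fun v => r (Q₀ (M.mulVec v) - Q₀ v)
      map_add' := fun x y => huniq (by
        have e : ∀ a b : F, (a + b) * (a + b) = a * a + b * b := fun a b => by
          linear_combination (a * b) * h2
        rw [e, hr, hr, hr, hadd])
      map_smul' := fun c x => huniq (by
        rw [hr, RingHom.id_apply, smul_eq_mul, mul_mul_mul_comm, hr, Matrix.mulVec_smul,
          QuadraticMap.map_smul, QuadraticMap.map_smul, smul_eq_mul, smul_eq_mul]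
        ring) }
  let T : (Fin m ⊕ Fin m → F) →ₗ[F] (Fin m ⊕ Fin m → F) := M.mulVecLin - LinearMap.id
  obtain ⟨l, hl⟩ : d ∈ LinearMap.range T.dualMap := by
    rw [LinearMap.range_dualMap_eq_dualAnnihilator_ker, Submodule.mem_dualAnnihilator]
    intro v hv
    have hfix : M.mulVec v = v := by
      simpa [T, sub_eq_zero] using hv
    show r (Q₀ (M.mulVec v) - Q₀ v) = 0
    refine huniq ?_
    rw [hr, hfix, sub_self, mul_zero]
  refine ⟨Q₀ + QuadraticMap.linMulLin l l, fun u v => ?_, fun v => ?_⟩
  · rw [← hpol]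
    simp only [QuadraticMap.polar, add_apply, QuadraticMap.linMulLin_apply, map_add]
    linear_combination (l u * l v) * h2
  · have h := LinearMap.congr_fun hl v
    simp only [LinearMap.dualMap_apply, T, LinearMap.sub_apply, Matrix.mulVecLin_apply,
      LinearMap.id_coe, id_eq, map_sub] at h
    have hd : d v * d v = Q₀ (M.mulVec v) - Q₀ v := hr _
    rw [← h] at hd
    simp only [add_apply, QuadraticMap.linMulLin_apply]
    linear_combination (-1 : F) * hd + (l (M.mulVec v) * l (M.mulVec v) - l (M.mulVec v) * l v) * h2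

end Cfsg.Agent.S2585
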