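import Cfsg.Statements.S2591
import Cfsg.Agent.Lib.Classical.SympRegularStd

set_option autoImplicit false
open Cfsg

namespace Cfsg.Agent.S2591

open Cfsg.Agent.Classical
open Cfsg.Agent.Classical.FormConj (adj)

/-- Over a finite field of odd order and for m ≥ 1, the regular unipotent elements of Sp_2m(F) (u − 1 nilpotent of rank 2m − 1, a single Jordan block) form exactly two conjugacy classes of Sp_2m(F) (one class under the similarity group, which splits in two). -/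
theorem result {F : Type*} [Field F] [Fintype F] {q : ℕ} (hF : Fintype.card F = q) (hq : Odd q) {m : ℕ} (hm : 1 ≤ m) : Nat.card {C : ConjClasses ↥(Matrix.symplecticGroup (Fin m) F) // ∃ u : Matrix.symplecticGroup (Fin m) F, ConjClasses.mk u = C ∧ ((u : Matrix (Fin m ⊕ Fin m) (Fin m ⊕ Fin m) F) - 1) ^ (2 * m) = 0 ∧ ((u : Matrix (Fin m ⊕ Fin m) (Fin m ⊕ Fin m) F) - 1).rank = 2 * m - 1} = 2 := by
  classical
  subst hF
  have hr : ringChar F ≠ 2 := fun hr =>
    Nat.not_even_iff_odd.2 hq (Nat.even_iff.2 (FiniteField.even_card_of_char_two hr))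
  have h2 : (2 : F) ≠ 0 := Ring.two_ne_zero hr
  obtain ⟨u0, hu0, hn0, hr0⟩ := SympRegularStd.exists_regular (F := F) hm
  obtain ⟨ε, hε⟩ := FiniteField.exists_nonsquare hr
  obtain ⟨X, hX⟩ := SympRegularStd.exists_similitude (m := m) ε fun e => hε (e ▸ IsSquare.zero)
  obtain ⟨hcn, hcr⟩ := SympRegularStd.cond_iff u0
  obtain ⟨hall, hne⟩ := SympRegular.dichotomy (Γ := SympRegularStd.gram F m) (by omega) h2
    SympRegularStd.gram_alt _ ((SympRegularStd.mem_iff _).1 hu0) (hcn.1 hn0) (hcr ▸ hr0) ε hε X hX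
  set v := SympRegularStd.re F m u0 with hv
  set w := (↑X : Matrix (Fin (2 * m)) (Fin (2 * m)) F) * v * (↑X⁻¹ : Matrix (Fin (2 * m)) (Fin (2 * m)) F)
    with hw
  have hadjs : ∀ (c : F) (M : Matrix (Fin (2 * m)) (Fin (2 * m)) F),
      adj (SympRegularStd.gram F m) (c • M) = c • adj (SympRegularStd.gram F m) M :=
    SympRegular.adj_smul _
  have hε0 : ε ≠ 0 := fun e => hε (e ▸ IsSquare.zero)
  have hw1 : adj (SympRegularStd.gram F m) w * w = 1 := by
    have hv1 := (SympRegularStd.mem_iff _).1 hu0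
    have hXi : adj (SympRegularStd.gram F m) (↑X⁻¹ : Matrix (Fin (2 * m)) (Fin (2 * m)) F) *
        adj (SympRegularStd.gram F m) (↑X : Matrix (Fin (2 * m)) (Fin (2 * m)) F) = 1 := by
      rw [← FormConj.adj_mul, Units.mul_inv, FormConj.adj_one]
    have hXa : adj (SympRegularStd.gram F m) (↑X : Matrix (Fin (2 * m)) (Fin (2 * m)) F) =
        ε • (↑X⁻¹ : Matrix (Fin (2 * m)) (Fin (2 * m)) F) := by
      rw [← Units.mul_inv_cancel_right (adj _ _) X, hX, smul_mul_assoc, one_mul]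
    rw [hw, FormConj.adj_mul, FormConj.adj_mul]
    rw [hXa] at hXi ⊢
    rw [mul_smul_comm] at hXi
    rw [mul_smul_comm, mul_smul_comm, smul_mul_assoc]
    simp only [mul_assoc, Units.inv_mul_cancel_left]
    rw [← mul_assoc (adj (SympRegularStd.gram F m) v), hv1, one_mul, ← mul_smul_comm]
    rw [mul_smul_comm]
    exact hXi
  obtain ⟨⟨u1, hu1⟩, hu1e⟩ := (SympRegularStd.toIso (F := F) (m := m)).surjective ⟨w, hw1⟩
  have hu1v : SympRegularStd.re F m u1 = w := congrArg Subtype.val hu1e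
  have hw2 : (w - 1) ^ (2 * m) = 0 ∧ (w - 1).rank = 2 * m - 1 := by
    have e : w - 1 = (↑X : Matrix (Fin (2 * m)) (Fin (2 * m)) F) * (v - 1) *
        (↑X⁻¹ : Matrix (Fin (2 * m)) (Fin (2 * m)) F) := by
      rw [mul_sub, sub_mul, mul_one, Units.mul_inv]
    rw [e, Units.conj_pow, hcn.1 hn0, mul_zero, zero_mul,
      Matrix.rank_mul_eq_left_of_isUnit_det _ _ ((Matrix.isUnit_iff_isUnit_det _).1 X⁻¹.isUnit),
      Matrix.rank_mul_eq_right_of_isUnit_det _ _ ((Matrix.isUnit_iff_isUnit_det _).1 X.isUnit)]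
    exact ⟨rfl, hcr ▸ hr0⟩
  obtain ⟨hcn1, hcr1⟩ := SympRegularStd.cond_iff u1
  rw [hu1v] at hcn1 hcr1
  let a : Matrix.symplecticGroup (Fin m) F := ⟨u0, hu0⟩
  let b : Matrix.symplecticGroup (Fin m) F := ⟨u1, hu1⟩
  have conj_of : ∀ (x y : Matrix.symplecticGroup (Fin m) F) (g : (Matrix (Fin (2 * m)) (Fin (2 * m)) F)ˣ),
      adj (SympRegularStd.gram F m) (↑g : Matrix (Fin (2 * m)) (Fin (2 * m)) F) *
        (↑g : Matrix (Fin (2 * m)) (Fin (2 * m)) F) = 1 →
      (↑g : Matrix (Fin (2 * m)) (Fin (2 * m)) F) * SympRegularStd.re F m x =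
        SympRegularStd.re F m y * (↑g : Matrix (Fin (2 * m)) (Fin (2 * m)) F) → IsConj x y := by
    intro x y g hg hgx
    obtain ⟨c, hc⟩ := (SympRegularStd.toIso (F := F) (m := m)).surjective ⟨↑g, hg⟩
    have hc' : SympRegularStd.re F m (c : Matrix (Fin m ⊕ Fin m) (Fin m ⊕ Fin m) F) = ↑g :=
      congrArg Subtype.val hc
    refine isConj_iff.2 ⟨c, mul_inv_eq_iff_eq_mul.2 (Subtype.ext ((SympRegularStd.re F m).injective ?_))⟩
    show SympRegularStd.re F m ((c : Matrix (Fin m ⊕ Fin m) (Fin m ⊕ Fin m) F) * x) =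
      SympRegularStd.re F m ((y : Matrix (Fin m ⊕ Fin m) (Fin m ⊕ Fin m) F) * c)
    rw [map_mul, map_mul, hc']
    exact hgx
  refine Nat.card_eq_two_iff.2 ⟨⟨ConjClasses.mk a, a, rfl, hn0, hr0⟩,
    ⟨ConjClasses.mk b, b, rfl, hcn1.2 hw2.1, hcr1.trans hw2.2⟩, fun h => ?_, ?_⟩
  · obtain ⟨g, hg⟩ := isConj_iff.1 (ConjClasses.mk_eq_mk_iff_isConj.1 (congrArg Subtype.val h))
    have hg' := congrArg (fun z : Matrix.symplecticGroup (Fin m) F =>
      SympRegularStd.re F m (z : Matrix (Fin m ⊕ Fin m) (Fin m ⊕ Fin m) F)) (mul_inv_eq_iff_eq_mul.1 hg)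
    simp only [Submonoid.coe_mul, map_mul] at hg'
    have hgu := (SympRegularStd.mem_iff _).1 g.2
    have hgU : IsUnit (SympRegularStd.re F m (g : Matrix (Fin m ⊕ Fin m) (Fin m ⊕ Fin m) F)) :=
      IsUnit.of_mul_eq_one _ (mul_eq_one_comm.1 hgu)
    exact hne hgU.unit hgu (by rw [hgU.unit_spec]; exact hg'.trans (by rw [hu1v]))
  · refine Set.eq_univ_of_forall ?_
    rintro ⟨C, u, rfl, hn, hru⟩
    obtain ⟨hcn', hcr'⟩ := SympRegularStd.cond_iff (u : Matrix (Fin m ⊕ Fin m) (Fin m ⊕ Fin m) F)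
    obtain ⟨g, hg, h | h⟩ := hall _ ((SympRegularStd.mem_iff _).1 u.2) (hcn'.1 hn) (hcr' ▸ hru)
    · exact Or.inl (Subtype.ext (ConjClasses.mk_eq_mk_iff_isConj.2 (conj_of a u g hg h).symm))
    · exact Or.inr (Subtype.ext (ConjClasses.mk_eq_mk_iff_isConj.2
        (conj_of b u g hg (by rw [hu1v]; exact h)).symm))

end Cfsg.Agent.S2591
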