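import Cfsg.Statements.S2592
import Cfsg.Agent.Lib.Classical.SympRegularStd

set_option autoImplicit false
open Cfsg

namespace Cfsg.Agent.S2592

open Cfsg.Agent.Classical

/-- Over a finite field with q elements, q odd, the centraliser in Sp_2m(F) (m ≥ 1) of a regular unipotent element (u − 1 nilpotent of rank 2m − 1) has order 2 q^m. -/
theorem result {F : Type*} [Field F] [Fintype F] {q : ℕ} (hF : Fintype.card F = q) (hq : Odd q) {m : ℕ} (hm : 1 ≤ m) (u : Matrix.symplecticGroup (Fin m) F) (hnil : ((u : Matrix (Fin m ⊕ Fin m) (Fin m ⊕ Fin m) F) - 1) ^ (2 * m) = 0) (hreg : ((u : Matrix (Fin m ⊕ Fin m) (Fin m ⊕ Fin m) F) - 1).rank = 2 * m - 1) : Nat.card ↥(Subgroup.centralizer ({u} : Set ↥(Matrix.symplecticGroup (Fin m) F))) = 2 * q ^ m := by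
  classical
  subst hF
  have h2 : (2 : F) ≠ 0 := Ring.two_ne_zero fun hr =>
    Nat.not_even_iff_odd.2 hq (Nat.even_iff.2 (FiniteField.even_card_of_char_two hr))
  obtain ⟨hn', hr'⟩ := SympRegularStd.cond_iff (u : Matrix (Fin m ⊕ Fin m) (Fin m ⊕ Fin m) F)
  rw [← SympRegular.natCard_commuting (Γ := SympRegularStd.gram F m) rfl (by omega) h2
    SympRegularStd.gram_alt _ ((SympRegularStd.mem_iff _).1 u.2) (hn'.1 hnil) (hr' ▸ hreg)]
  refine Nat.card_congr ((SympRegularStd.toIso.subtypeEquiv fun g => ?_).trans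
    (Equiv.subtypeSubtypeEquivSubtypeInter _ _))
  show g ∈ Subgroup.centralizer ({u} : Set ↥(Matrix.symplecticGroup (Fin m) F)) ↔
    SympRegularStd.re F m u * SympRegularStd.re F m g = SympRegularStd.re F m g * SympRegularStd.re F m u
  rw [Subgroup.mem_centralizer_singleton_iff, Subtype.ext_iff, ← map_mul, ← map_mul,
    (SympRegularStd.re F m).injective.eq_iff]
  exact eq_comm

end Cfsg.Agent.S2592
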