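import Cfsg.Statements.S2593
import Cfsg.Agent.Lib.Classical.SympInvolution
-- import your own Cfsg.Agent.* helpers here

set_option autoImplicit false
open Cfsg

namespace Cfsg.Agent.S2593

open Cfsg.Agent.Classical

/-- the index set: rank and type -/
def idx (m : ℕ) : Finset (ℕ × Bool) :=
  (Finset.Icc 1 m ×ˢ (Finset.univ : Finset Bool)).filter fun p => p.2 = true → Even p.1

theorem card_idx (m : ℕ) : (idx m).card = m + m / 2 := by
  have h : idx m = (Finset.Icc 1 m).image (fun s => (s, false)) ∪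
      (Finset.Icc 1 (m / 2)).image (fun s => (2 * s, true)) := by
    ext ⟨s, b⟩
    cases b
    · simp [idx]
    · simp only [idx, Finset.mem_filter, Finset.mem_product, Finset.mem_Icc, Finset.mem_univ,
        and_true, forall_const, Finset.mem_union, Finset.mem_image, Prod.mk.injEq,
        Bool.false_eq_true, and_false, exists_false, false_or]
      constructor
      · rintro ⟨⟨h1, h2⟩, r, rfl⟩
        exact ⟨r, ⟨by omega, by omega⟩, by omega⟩
      · rintro ⟨r, ⟨h1, h2⟩, rfl⟩
        exact ⟨⟨by omega, by omega⟩, r, by omega⟩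
  rw [h, Finset.card_union_of_disjoint, Finset.card_image_of_injective, Finset.card_image_of_injective]
  · simp
  · intro a b e
    simp only [Prod.mk.injEq, and_true] at e
    omega
  · intro a b e; simpa using e
  · rw [Finset.disjoint_left]
    simp only [Finset.mem_image]
    rintro _ ⟨a, -, rfl⟩ ⟨b, -, e⟩
    simp at e

theorem exists_coeff {F : Type*} [Field F] [CharP F 2] {s : ℕ} {b : Bool}
    (hb : b = true → Even s) (hs : 1 ≤ s) :
    ∃ C : Matrix (Fin s) (Fin s) F, C.transpose = C ∧ IsUnit C.det ∧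
      ((∀ i, C i i = 0) ↔ b = true) := by
  cases b
  · refine ⟨1, Matrix.transpose_one, by simp, ?_⟩
    simp only [Matrix.one_apply_eq, one_ne_zero, forall_const, Bool.false_eq_true, iff_false]
    exact fun h => h ⟨0, hs⟩
  · obtain ⟨k, rfl⟩ := hb rfl
    let e : Fin k ⊕ Fin k ≃ Fin (k + k) := finSumFinEquiv
    refine ⟨Matrix.reindex e e (Matrix.J (Fin k) F), ?_, ?_, ?_⟩
    · ext i j
      simp [SymmTwo.J_symm_apply k (e.symm j) (e.symm i)]
    · rw [Matrix.det_reindex_self]
      exact Matrix.isUnit_det_J (Fin k) F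
    · simp [SymmTwo.J_diag]

/-- Number of conjugacy classes of involutions in the symplectic group Sp_2m(F) over a finite field of characteristic two (m ≥ 1): for each s with 1 ≤ s ≤ m there is one class with rank(t − 1) = s if s is odd and two if s is even (according as v ↦ f(v, tv), f the symplectic form, vanishes identically or not), so m + ⌊m/2⌋ classes in all. -/
theorem result {F : Type*} [Field F] [Fintype F] [CharP F 2] {m : ℕ} (hm : 1 ≤ m) : Nat.card {C : ConjClasses ↥(Matrix.symplecticGroup (Fin m) F) // ∃ g : Matrix.symplecticGroup (Fin m) F, ConjClasses.mk g = C ∧ orderOf g = 2} = m + m / 2 := by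
  classical
  suffices hbij : ∃ Φ : (↥(idx m)) → {C : ConjClasses ↥(Matrix.symplecticGroup (Fin m) F) //
      ∃ g : Matrix.symplecticGroup (Fin m) F, ConjClasses.mk g = C ∧ orderOf g = 2},
      Function.Bijective Φ by
    obtain ⟨Φ, hΦ⟩ := hbij
    rw [← Nat.card_eq_of_bijective Φ hΦ, Nat.card_eq_finsetCard, card_idx]
  have hmem : ∀ p : ↥(idx m), 1 ≤ p.1.1 ∧ p.1.1 ≤ m ∧ (p.1.2 = true → Even p.1.1) := by
    rintro ⟨⟨s, b⟩, hp⟩
    simpa [idx, and_assoc] using hp
  have hex : ∀ p : ↥(idx m), ∃ t : Matrix.symplecticGroup (Fin m) F, orderOf t = 2 ∧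
      ∃ w C, SympInvolution.Datum (s := p.1.1) t w C ∧ ((∀ i, C i i = 0) ↔ p.1.2 = true) := by
    intro p
    obtain ⟨h1, h2, h3⟩ := hmem p
    obtain ⟨C, hC, hd, hb⟩ := exists_coeff (F := F) h3 h1
    obtain ⟨t, ht, h⟩ := SympInvolution.exists_element _ C
      (Forms.SympStab.stdTuple_li (F := F) h2) (Forms.SympStab.stdTuple_iso h2) hC hd
    refine ⟨t, orderOf_eq_prime ht ?_, _, C, h, hb⟩
    rintro rfl
    have := h.rank_eq
    simp at this
    omega
  choose t ht w C hD hb using hex
  refine ⟨fun p => ⟨ConjClasses.mk (t p), t p, rfl, ht p⟩, ?_, ?_⟩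
  · intro p p' e
    have e' : IsConj (t p) (t p') := ConjClasses.mk_eq_mk_iff_isConj.1 (congrArg Subtype.val e)
    obtain ⟨g, hg⟩ := isConj_iff.1 e'
    have h1 := (hD p).conj g
    rw [hg] at h1
    have hs : p.1.1 = p'.1.1 := by rw [← h1.rank_eq, ← (hD p').rank_eq]
    refine Subtype.ext (Prod.ext hs (Bool.eq_iff_iff.2 ?_))
    rw [← hb p, ← hb p', ← h1.alt_iff, ← (hD p').alt_iff]
  · rintro ⟨_, g, rfl, hg⟩
    have hg2 : g ^ 2 = 1 := hg ▸ pow_orderOf_eq_one g
    obtain ⟨w', C', h'⟩ := SympInvolution.exists_datum g hg2 rfl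
    generalize ((g : Matrix (Fin m ⊕ Fin m) (Fin m ⊕ Fin m) F) - 1).rank = s at w' C' h'
    have hs1 : 1 ≤ s := by
      by_contra hc
      have hg1 : g = 1 := by
        refine Forms.SympStd.sp_ext fun v => ?_
        rw [h'.act]
        obtain rfl : s = 0 := by omega
        simp [Fintype.linearCombination_apply]
      rw [hg1, orderOf_one] at hg
      omega
    have hsm : s ≤ m := SympInvolution.le_of_li_iso h'.li h'.iso
    have heven : decide (∀ i, C' i i = 0) = true → Even s := by
      intro hd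
      obtain ⟨k, hk, -⟩ := SymmTwo.cong_alt C' h'.symm h'.det (of_decide_eq_true hd)
      exact ⟨k, by omega⟩
    let p : ↥(idx m) := ⟨(s, decide (∀ i, C' i i = 0)), Finset.mem_filter.2
      ⟨Finset.mem_product.2 ⟨Finset.mem_Icc.2 ⟨hs1, hsm⟩, Finset.mem_univ _⟩, heven⟩⟩
    have hps : p.1.1 = s := rfl
    refine ⟨p, Subtype.ext (ConjClasses.mk_eq_mk_iff_isConj.2 ?_)⟩
    refine (hD p).isConj h' ?_
    have hiff : (∀ i, C p i i = 0) ↔ ∀ i, C' i i = 0 := by rw [hb p]; simp [p]
    by_cases hz : ∀ i, C' i i = 0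
    · obtain ⟨k, hk, hc⟩ := SymmTwo.cong_alt (C p) (hD p).symm (hD p).det (hiff.2 hz)
      obtain ⟨k', hk', hc'⟩ := SymmTwo.cong_alt C' h'.symm h'.det hz
      obtain rfl : k = k' := by omega
      exact hc.trans hc'.symm
    · have hz1 : ∃ i, C p i i ≠ 0 := by
        have := mt hiff.1 hz
        push Not at this
        exact this
      have hz2 : ∃ i, C' i i ≠ 0 := by push Not at hz; exact hz
      obtain ⟨k, hk, hc⟩ | ⟨k, hk, hc⟩ := SymmTwo.cong_nonalt (C p) (hD p).symm (hD p).det hz1 <;>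
        obtain ⟨k', hk', hc'⟩ | ⟨k', hk', hc'⟩ := SymmTwo.cong_nonalt C' h'.symm h'.det hz2
      all_goals first
        | omega
        | (obtain rfl : k = k' := by omega
           exact hc.trans hc'.symm)

end Cfsg.Agent.S2593
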