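import Cfsg.Statements.S2594
import Cfsg.Agent.Lib.Classical.Symplectic
import Cfsg.Agent.Lib.Classical.RankOne

set_option autoImplicit false
set_option maxHeartbeats 800000
open Cfsg
open Matrix
open Cfsg.Agent.Forms.SympStd

namespace Cfsg.Agent.S2594

variable {F : Type*} [Field F] {m : ℕ}

local notation "Sp" => Matrix.symplecticGroup (Fin m) F
local notation "Vec" => (Fin m ⊕ Fin m → F)
local notation "Mat" => Matrix (Fin m ⊕ Fin m) (Fin m ⊕ Fin m) F
local notation "B" => Cfsg.sympForm m F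

theorem exists_ne {v : Vec} (hv : v ≠ 0) : ∃ x, B x v ≠ 0 := by
  obtain ⟨w, hw⟩ := Classical.Symplectic.exists_partner hv
  exact ⟨w, by rw [sympForm_swap v w, hw]; simp⟩

/-- A symplectic element with `t - 1` of rank one is a transvection. -/
theorem eq_tv (t : Sp) (ht : ((t : Mat) - 1).rank = 1) :
    ∃ (a : Vec) (c : F), a ≠ 0 ∧ c ≠ 0 ∧ t = tv a c := by
  obtain ⟨a, φ, ha, hφ, y, hy⟩ := Classical.RankOne.exists_axis ht
  have key : ∀ x z, φ z * B x a + φ x * B a z = 0 := by
    intro x z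
    have h1 := sympForm_mulVec t x z
    rw [hφ, hφ] at h1
    simp only [← sympB_apply, map_add, map_smul, LinearMap.add_apply, LinearMap.smul_apply,
      smul_eq_mul] at h1
    simp only [sympB_apply, sympForm_self, mul_zero, add_zero] at h1
    linear_combination h1
  have hay : B a y ≠ 0 := by
    intro h0
    obtain ⟨x, hx⟩ := exists_ne ha
    have := key x y
    rw [h0, mul_zero, add_zero] at this
    exact mul_ne_zero hy hx this
  refine ⟨a, -φ y / B a y, ha, div_ne_zero (neg_ne_zero.2 hy) hay, sp_ext fun x => ?_⟩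
  rw [tv_mulVec, hφ]
  congr 2
  field_simp
  linear_combination key x y

theorem tv_one_injective [CharP F 2] {u v : Vec} (hu : u ≠ 0) (hv : v ≠ 0)
    (h : tv u (1 : F) = tv v 1) : u = v := by
  have h1 : ∀ x, B x u • u = B x v • v := fun x => by
    have := congrArg (fun A : Sp => (A : Mat) *ᵥ x) h
    simpa [tv_mulVec] using this
  obtain ⟨x, hx⟩ := exists_ne hu
  obtain ⟨k, hk⟩ : ∃ k : F, u = k • v := by
    refine ⟨(B x u)⁻¹ * B x v, ?_⟩
    rw [mul_smul, ← h1 x, smul_smul, inv_mul_cancel₀ hx, one_smul]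
  obtain ⟨z, hz⟩ := exists_ne hv
  have h2 := h1 z
  rw [hk, ← sympB_apply, map_smul, sympB_apply, smul_eq_mul, smul_smul] at h2
  have h3 := smul_left_injective F hv h2
  have h4 : (k - 1) ^ 2 = 0 := by
    have h5 : k * k = 1 := mul_right_cancel₀ hz (by linear_combination h3)
    linear_combination h5 - (k - 1) * (CharTwo.two_eq_zero : (2 : F) = 0)
  rw [hk, sub_eq_zero.1 (pow_eq_zero_iff (n := 2) (by norm_num) |>.1 h4), one_smul]


/-- Over a finite field with q elements, q even, an element t of Sp_2m(F) with rank(t − 1) = 1 (a symplectic transvection) has centraliser in Sp_2m(F) of order q^(2m−1) · |Sp_(2m−2)(q)| = q^(2m−1) · q^((m−1)²) · Π_(i=1)^(m−1) (q^(2i) − 1). -/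
theorem result {F : Type*} [Field F] [Fintype F] [CharP F 2] {q : ℕ} (hF : Fintype.card F = q) {m : ℕ} (hm : 1 ≤ m) (t : Matrix.symplecticGroup (Fin m) F) (ht : ((t : Matrix (Fin m ⊕ Fin m) (Fin m ⊕ Fin m) F) - 1).rank = 1) : Nat.card ↥(Subgroup.centralizer ({t} : Set ↥(Matrix.symplecticGroup (Fin m) F))) = q ^ (2 * m - 1) * (q ^ ((m - 1) ^ 2) * ∏ i : Fin (m - 1), (q ^ (2 * ((i : ℕ) + 1)) - 1)) := by
  classical
  obtain ⟨a, c, ha, hc, rfl⟩ := eq_tv t ht
  obtain ⟨s, hs⟩ := FiniteField.isSquare_of_char_two (ringChar.eq F 2) c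
  have hs0 : s ≠ 0 := fun h => hc (by rw [hs, h, mul_zero])
  rw [show tv a c = tv (s • a) (1 : F) by rw [Classical.Symplectic.tv_smul, hs, mul_one]]
  have hv : s • a ≠ 0 := smul_ne_zero hs0 ha
  set v := s • a
  have hC : Subgroup.centralizer ({tv v 1} : Set ↥(Matrix.symplecticGroup (Fin m) F))
      = MulAction.stabilizer ↥(Matrix.symplecticGroup (Fin m) F) v := by
    ext A
    rw [Subgroup.mem_centralizer_singleton_iff, MulAction.mem_stabilizer_iff,
      Classical.Symplectic.smul_eq, ← mul_inv_eq_iff_eq_mul, Classical.Symplectic.tv_conj]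
    refine ⟨fun h => tv_one_injective ?_ hv h, fun h => by rw [h]⟩
    rw [← Classical.Symplectic.smul_eq]
    exact (smul_ne_zero_iff_ne A).2 hv
  have horb : Nat.card ↥(MulAction.orbit ↥(Matrix.symplecticGroup (Fin m) F) v)
      = q ^ (2 * m) - 1 := by
    have he : MulAction.orbit ↥(Matrix.symplecticGroup (Fin m) F) v = {x | x ≠ 0} := by
      ext x
      refine ⟨fun ⟨A, hA⟩ => ?_, fun hx => ?_⟩
      · rw [← hA]
        exact (smul_ne_zero_iff_ne A).2 hv
      · obtain ⟨A, hA⟩ := Classical.Symplectic.exists_move hv hx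
        exact ⟨A, hA⟩
    rw [he, Nat.card_coe_set_eq, ← Set.compl_singleton_eq, Set.ncard_compl, Set.ncard_singleton,
      Nat.card_eq_fintype_card, Fintype.card_fun, hF, Fintype.card_sum, Fintype.card_fin, two_mul]
  have hmul := Nat.card_congr
    (MulAction.orbitProdStabilizerEquivGroup ↥(Matrix.symplecticGroup (Fin m) F) v)
  rw [Nat.card_prod, horb, Classical.Symplectic.natCard_sp, hF, ← hC] at hmul
  have hq : 1 < q := hF ▸ Fintype.one_lt_card
  have hpos : 0 < q ^ (2 * m) - 1 := by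
    have := Nat.one_lt_pow (show 2 * m ≠ 0 by omega) hq
    omega
  refine Nat.eq_of_mul_eq_mul_left hpos ?_
  rw [hmul]
  obtain ⟨k, rfl⟩ : ∃ k, m = k + 1 := ⟨m - 1, by omega⟩
  simp only [Nat.add_sub_cancel]
  rw [Finset.prod_range_succ, ← Fin.prod_univ_eq_prod_range, ← mul_assoc (q ^ _) (q ^ _), ← pow_add,
    show 2 * (k + 1) - 1 + k ^ 2 = (k + 1) ^ 2 by
      rw [show 2 * (k + 1) - 1 = 2 * k + 1 by omega]; ring]
  generalize q ^ (k + 1) ^ 2 = A
  generalize q ^ (2 * (k + 1)) - 1 = Z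
  rw [mul_left_comm Z A]
  congr 1
  rw [mul_comm]
  congr 1

end Cfsg.Agent.S2594
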