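import Cfsg.Statements.S2599
import Mathlib

set_option autoImplicit false
open Cfsg

namespace Cfsg.Agent.S2599

/-- An irreducible invariant subspace of a semisimple isometry is non-degenerate or totally singular: let Q be a quadratic form on F^n (F finite of characteristic p) with non-degenerate polar form f, x an isometry of Q of order prime to p, and U a non-zero x-invariant subspace containing no x-invariant subspace other than 0 and U. Then U meets its f-orthogonal trivially, or Q vanishes on U, or p = 2, U is a line spanned by a non-singular vector and x fixes U pointwise. -/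
theorem result {F : Type*} [Field F] [Fintype F] {p : ℕ} [Fact p.Prime] [CharP F p] {n : ℕ} (Q : QuadraticForm F (Fin n → F)) (hQ : (QuadraticMap.polarBilin Q).Nondegenerate) (x : ↥(Cfsg.isometryGroup F ⇑Q)) (hx : (orderOf x).Coprime p) (U : Submodule F (Fin n → F)) (hU0 : U ≠ ⊥) (hUx : ∀ u ∈ U, ((x : Matrix.GeneralLinearGroup (Fin n) F) : Matrix (Fin n) (Fin n) F).mulVec u ∈ U) (hirr : ∀ W : Submodule F (Fin n → F), W ≤ U → (∀ w ∈ W, ((x : Matrix.GeneralLinearGroup (Fin n) F) : Matrix (Fin n) (Fin n) F).mulVec w ∈ W) → W = ⊥ ∨ W = U) : U ⊓ LinearMap.BilinForm.orthogonal (QuadraticMap.polarBilin Q) U = ⊥ ∨ (∀ u ∈ U, Q u = 0) ∨ (p = 2 ∧ Module.finrank F U = 1 ∧ (∃ u ∈ U, Q u ≠ 0) ∧ ∀ u ∈ U, ((x : Matrix.GeneralLinearGroup (Fin n) F) : Matrix (Fin n) (Fin n) F).mulVec u = u) := by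
  classical
  let g := ((x : Matrix.GeneralLinearGroup (Fin n) F) : Matrix (Fin n) (Fin n) F)
  let B : LinearMap.BilinForm F (Fin n → F) := QuadraticMap.polarBilin Q
  have hiso : ∀ v, Q (g.mulVec v) = Q v := fun v => x.2 v v
  have hpol : ∀ u v, QuadraticMap.polar ⇑Q (g.mulVec u) (g.mulVec v) = QuadraticMap.polar ⇑Q u v :=
    fun u v => by
      simp only [QuadraticMap.polar]
      rw [← Matrix.mulVec_add, hiso, hiso, hiso]
  have hinj : Function.Injective g.mulVec :=
    Matrix.mulVec_injective_of_isUnit (x : Matrix.GeneralLinearGroup (Fin n) F).isUnit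
  have hR : ∀ w ∈ U ⊓ B.orthogonal U, g.mulVec w ∈ U ⊓ B.orthogonal U := by
    rintro w ⟨hwU, hwO⟩
    refine ⟨hUx w hwU, fun u hu => ?_⟩
    obtain ⟨⟨u', hu'⟩, hue⟩ := (LinearMap.injective_iff_surjective (f := g.mulVecLin.restrict
      (p := U) (q := U) hUx)).1 (fun a b h => Subtype.ext (hinj (congrArg Subtype.val h))) ⟨u, hu⟩
    have e : g.mulVec u' = u := congrArg Subtype.val hue
    show QuadraticMap.polar ⇑Q u (g.mulVec w) = 0
    rw [← e, hpol]
    exact hwO u' hu'
  rcases hirr _ inf_le_left hR with h | h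
  · exact Or.inl h
  right
  have hz : ∀ u ∈ U, ∀ v ∈ U, QuadraticMap.polar ⇑Q u v = 0 := fun u hu v hv =>
    (Submodule.mem_inf.1 (h.symm ▸ hv : v ∈ U ⊓ B.orthogonal U)).2 u hu
  by_cases h2 : (2 : F) = 0
  · have hp : p = 2 := CharP.eq F inferInstance
      (CharTwo.of_one_ne_zero_of_two_eq_zero one_ne_zero h2)
    have hC : CharP F 2 := hp ▸ inferInstance
    have hadd : ∀ u ∈ U, ∀ v ∈ U, Q (u + v) = Q u + Q v := fun u hu v hv => by
      rw [QuadraticMap.map_add Q, hz u hu v hv, add_zero]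
    let U₀ : Submodule F (Fin n → F) :=
      { carrier := {u | u ∈ U ∧ Q u = 0}
        add_mem' := fun {a b} ha hb => ⟨add_mem ha.1 hb.1, by rw [hadd a ha.1 b hb.1, ha.2, hb.2, add_zero]⟩
        zero_mem' := ⟨zero_mem _, QuadraticMap.map_zero Q⟩
        smul_mem' := fun c a ha => ⟨U.smul_mem c ha.1, by rw [QuadraticMap.map_smul, ha.2, smul_zero]⟩ }
    rcases hirr U₀ (fun u hu => hu.1) (fun w hw => ⟨hUx w hw.1, (hiso w).trans hw.2⟩) with h0 | h0
    · have hi : ∀ u ∈ U, ∀ v ∈ U, Q u = Q v → u = v := fun u hu v hv he => by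
        have hm : u + v ∈ U₀ := ⟨add_mem hu hv, by
          rw [hadd u hu v hv, he]; exact CharTwo.add_self_eq_zero _⟩
        rw [h0, Submodule.mem_bot] at hm
        funext i
        exact CharTwo.add_eq_zero.1 (congrFun hm i)
      obtain ⟨u, huU, hu0⟩ := Submodule.exists_mem_ne_zero_of_ne_bot hU0
      have hQu : Q u ≠ 0 := fun e => hu0 (hi u huU 0 U.zero_mem (by rw [e, QuadraticMap.map_zero]))
      refine Or.inr ⟨hp, ?_, ⟨u, huU, hQu⟩, fun v hv => hi _ (hUx v hv) v hv (hiso v)⟩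
      refine finrank_eq_one_iff'.2 ⟨(⟨u, huU⟩ : U), fun e => hu0 (congrArg Subtype.val e), ?_⟩
      intro v
      obtain ⟨s, hs⟩ := (FiniteField.isSquare_of_char_two (ringChar.eq F 2) (Q v / Q u) :
        IsSquare (Q v / Q u))
      refine ⟨s, Subtype.ext (hi _ (U.smul_mem s huU) v v.2 ?_)⟩
      rw [QuadraticMap.map_smul, smul_eq_mul, ← hs, div_mul_cancel₀ _ hQu]
    · exact Or.inl fun u hu => (h0.symm ▸ hu : u ∈ U₀).2
  · refine Or.inl fun u hu => ?_
    have := hz u hu u hu
    rw [QuadraticMap.polar_self, nsmul_eq_mul] at this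
    exact (mul_eq_zero.1 (by exact_mod_cast this)).resolve_left h2

end Cfsg.Agent.S2599
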