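import Cfsg.Statements.S2600
import Cfsg.Agent.Lib.AutPSp.Count

set_option autoImplicit false
open Cfsg

namespace Cfsg.Agent.S2600

open Matrix Cfsg.Agent.Forms.SympStd Cfsg.Agent.Classical.Symplectic Cfsg.Agent.AutPSp.Basic
  Cfsg.Agent.AutPSp.Main Cfsg.Agent.AutPSp

universe u

variable {F : Type u} [Field F] [Finite F] [CharP F 2]

local notation "I" => (Fin 2 ⊕ Fin 2)
local notation "Vec" => (Fin 2 ⊕ Fin 2 → F)
local notation "sf" => Cfsg.sympForm 2 F

theorem exists_phi_sq : ∃ (g : GSp 2 F) (σ : F ≃+* F), (∀ c, σ c = c ^ 2) ∧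
    (Exceptional.phi * Exceptional.phi : MulAut (PSp 2 F)) = gAut g * fAut σ := by
  obtain ⟨g, σ, h | h⟩ := Exceptional.exists_decomp (Exceptional.phi * Exceptional.phi : MulAut (PSp 2 F))
  swap
  · exact absurd (mul_left_cancel h) (Exceptional.phi_ne g σ)
  refine ⟨g, σ, ?_, h⟩
  set e : Vec := Pi.single (Sum.inr 0) 1
  set A : Matrix I I F := ((g : GL I F) : Matrix I I F)
  have key : ∀ (c : F) (w : Vec), (σ c * sf w e) • (A *ᵥ e) = (c ^ 2 * sf (A *ᵥ w) e) • e := by
    intro c w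
    have h1 := Exceptional.phi_phi_tv c
    rw [h] at h1
    have hmap : ((tv e c : Matrix.symplecticGroup (Fin 2) F) : Matrix I I F).map σ *ᵥ w = w + (σ c * sf w e) • e := by
      have he : (fun i => σ (e i)) = e := funext fun i => by by_cases hi : i = Sum.inr 0 <;> simp [e, hi]
      obtain ⟨w', rfl⟩ : ∃ w' : Vec, (fun i => σ (w' i)) = w := ⟨fun i => σ.symm (w i), by simp⟩
      rw [map_mulVec_field, tv_mulVec]
      funext i
      simp only [Pi.add_apply, Pi.smul_apply, smul_eq_mul, map_add, map_mul]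
      rw [← sympForm_map, he, congrFun he i]
    set B := gAut g * fAut σ
    obtain ⟨t, ht, htm⟩ : ∃ t : Matrix.symplecticGroup (Fin 2) F,
        (B (QuotientGroup.mk (tv e c)) = QuotientGroup.mk t) ∧ ∀ v, (t : Matrix I I F) *ᵥ (A *ᵥ v) =
          A *ᵥ (((tv e c : Matrix.symplecticGroup (Fin 2) F) : Matrix I I F).map σ *ᵥ v) :=
      ⟨_, rfl, fun v => by
        change (A * _ * (((g : GL I F)⁻¹ : GL I F) : Matrix I I F)) *ᵥ (A *ᵥ v) = _
        rw [Matrix.mulVec_mulVec, mul_assoc, Units.inv_mul, mul_one, ← Matrix.mulVec_mulVec]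
        rfl⟩
    obtain ⟨b, hb⟩ := (mk_eq_mk_iff (tv e (c ^ 2)) t).1 (ht.symm.trans h1).symm
    have h2 := sympForm_mulVec t (Pi.single (Sum.inr 0) 1) (Pi.single (Sum.inl 0) 1)
    rw [hb, hb, f_smul_left, f_smul_right, sympForm_mulVec, sympForm_inr_inl, if_pos rfl, mul_one] at h2
    have hb1 : b = 1 := by
      refine CharTwo.add_eq_zero.1 (mul_self_eq_zero.1 ?_)
      linear_combination h2 + CharTwo.add_self_eq_zero (1 : F) + CharTwo.add_self_eq_zero b
    have h3 := htm w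
    rw [hb, hb1, one_smul, hmap, tv_mulVec, Matrix.mulVec_add, Matrix.mulVec_smul] at h3
    exact (add_left_cancel h3).symm
  set w : Vec := Pi.single (Sum.inl 0) 1
  have hwe : sf w e ≠ 0 := by simp [w, e, sympForm_inl_inr]
  have hAe : A *ᵥ e ≠ 0 := gl_mulVec_ne_zero _ (Points.single_ne_zero _)
  have h1 := key 1 w
  rw [map_one, one_mul, one_pow, one_mul] at h1
  have hs0 : sf (A *ᵥ w) e ≠ 0 := fun h0 => smul_ne_zero hwe hAe (by rw [h1, h0, zero_smul])
  intro c
  have h2 := key c w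
  rw [← smul_smul, h1, smul_smul] at h2
  exact mul_right_cancel₀ hs0 (smul_left_injective F (Points.single_ne_zero _) h2)

theorem zpowers_frobenius (f : ℕ) (hf : 1 ≤ f) [Fintype F] (hF : Fintype.card F = 2 ^ f) (σ : F ≃+* F)
    (hσ : ∀ c, σ c = c ^ 2) : Subgroup.zpowers σ = ⊤ := by
  have : Fact (Nat.Prime 2) := ⟨Nat.prime_two⟩
  have : Finite (F ≃+* F) := Finite.of_injective (fun e : F ≃+* F => (e : F → F)) DFunLike.coe_injective
  obtain ⟨ea⟩ := Cfsg.Agent.AutPSL.Out.exists_ringAut_equiv (p := 2) (f := f) hF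
  have hA : Nat.card (F ≃+* F) = f := by
    rw [Nat.card_congr ea.toEquiv, Nat.card_congr Multiplicative.toAdd, Nat.card_zmod]
  have hpow : ∀ (k : ℕ) (x : F), (σ ^ k) x = x ^ 2 ^ k := by
    intro k
    induction k with
    | zero => simp
    | succ k ih =>
      intro x
      rw [pow_succ', show (σ * σ ^ k) x = σ ((σ ^ k) x) from rfl, ih, hσ, ← pow_mul, ← pow_succ]
  refine Subgroup.eq_top_of_le_card _ ?_
  rw [hA, Nat.card_zpowers]
  set k := orderOf σ with hk
  have hk0 : 0 < k := orderOf_pos σ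
  by_contra hlt
  push Not at hlt
  obtain ⟨u, hu⟩ := IsCyclic.exists_generator (α := Fˣ)
  have hu1 : orderOf u = 2 ^ f - 1 := by
    rw [orderOf_eq_card_of_forall_mem_zpowers hu, Nat.card_units, Nat.card_eq_fintype_card, hF]
  have h2k : 2 ≤ 2 ^ k := Nat.le_self_pow hk0.ne' 2
  have h3 : u ^ (2 ^ k - 1) = 1 := by
    refine mul_left_cancel (a := u) ?_
    rw [← pow_succ', show 2 ^ k - 1 + 1 = 2 ^ k by omega, mul_one]
    exact Units.ext (by rw [Units.val_pow_eq_pow_val, ← hpow, hk, pow_orderOf_eq_one]; rfl)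
  have h4 := Nat.le_of_dvd (by omega) (hu1 ▸ orderOf_dvd_of_pow_eq_one h3)
  have h5 : 2 ^ k < 2 ^ f := Nat.pow_lt_pow_right (by omega) hlt
  omega

/-- Outer automorphism group of PSp_4(q) for q = 2^f even: it is cyclic of order 2f, generated by the class of the exceptional (graph-field) automorphism whose square is the Frobenius field automorphism. -/
theorem result {F : Type*} [Field F] [Fintype F] {f : ℕ} (hf : 1 ≤ f) (hF : Fintype.card F = 2 ^ f) : IsCyclic (Cfsg.Out (Cfsg.PSp 2 F)) ∧ Nat.card (Cfsg.Out (Cfsg.PSp 2 F)) = 2 * f := by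
  have : Fact (Nat.Prime 2) := ⟨Nat.prime_two⟩
  have : CharP F 2 := charP_of_card_eq_prime_pow hF
  open Cfsg.Agent.AutPSp Cfsg.Agent.AutPSp.Basic in
  have hinn : (gAut (m := 2) (F := F)).range = Inn (PSp 2 F) := Main.range_eq_inn
  obtain ⟨g, σ, hσ, hphi⟩ := exists_phi_sq (F := F)
  constructor
  · refine ⟨⟨QuotientGroup.mk Exceptional.phi, fun x => ?_⟩⟩
    induction x using QuotientGroup.induction_on with | H β => ?_
    set Φ : Out (PSp 2 F) := QuotientGroup.mk Exceptional.phi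
    have hg : ∀ a : Cfsg.GSp 2 F, (QuotientGroup.mk (Cfsg.Agent.AutPSp.Basic.gAut a) : Out (PSp 2 F)) = 1 :=
      fun a => (QuotientGroup.eq_one_iff _).2 (hinn ▸ ⟨a, rfl⟩)
    have hσΦ : (QuotientGroup.mk (Cfsg.Agent.AutPSp.Basic.fAut σ) : Out (PSp 2 F)) = Φ * Φ := by
      rw [show Φ * Φ = QuotientGroup.mk (Exceptional.phi * Exceptional.phi) from rfl, hphi,
        QuotientGroup.mk_mul, hg, one_mul]
    have hgal : ∀ τ : F ≃+* F, (QuotientGroup.mk (Cfsg.Agent.AutPSp.Basic.fAut τ) : Out (PSp 2 F)) ∈ Subgroup.zpowers Φ := by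
      intro τ
      have hτ : τ ∈ Subgroup.zpowers σ := zpowers_frobenius f hf hF σ hσ ▸ Subgroup.mem_top τ
      obtain ⟨i, rfl⟩ := hτ
      change (QuotientGroup.mk (Cfsg.Agent.AutPSp.Basic.fAut (σ ^ i)) : Out (PSp 2 F)) ∈ _
      rw [map_zpow, QuotientGroup.mk_zpow, hσΦ]
      exact zpow_mem (mul_mem (Subgroup.mem_zpowers _) (Subgroup.mem_zpowers _)) i
    obtain ⟨a, τ, rfl | rfl⟩ := Exceptional.exists_decomp β
    · rw [QuotientGroup.mk_mul, hg, one_mul]
      exact hgal τ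
    · rw [QuotientGroup.mk_mul, QuotientGroup.mk_mul, hg, one_mul]
      exact mul_mem (Subgroup.mem_zpowers _) (hgal τ)
  · have h1 : Nat.card (MulAut (PSp 2 F)) = _ :=
      Count.card_mulAut 2 f (by rw [Nat.card_eq_fintype_card, hF]) le_rfl
    have h2 : Nat.gcd 2 (2 ^ f - 1) = 1 := by
      refine (Nat.prime_two.coprime_iff_not_dvd.2 ?_)
      have := Nat.one_le_two_pow (n := f)
      have h3 : 2 ∣ 2 ^ f := dvd_pow_self 2 (by omega)
      omega
    rw [if_pos ⟨rfl, rfl⟩, h2, mul_one, Subgroup.card_eq_card_quotient_mul_card_subgroup (Inn (PSp 2 F))] at h1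
    have h4 : Nat.card (Inn (PSp 2 F)) = Nat.card (PSp 2 F) :=
      (Nat.card_congr (MonoidHom.ofInjective (Count.conj_injective (F := F) (m := 2) (by omega))).toEquiv).symm
    rw [h4] at h1
    exact Nat.eq_of_mul_eq_mul_right Nat.card_pos h1

end Cfsg.Agent.S2600
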