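import Cfsg.Statements.S2601
import Cfsg.Agent.Lib.AutPSL.Diag

set_option autoImplicit false
open Cfsg

namespace Cfsg.Agent.S2601

open Cfsg.Agent.AutPSL.Basic Cfsg.Agent.AutPSL.Out Cfsg.Agent.AutPSL.Diag

/-- Structure of the outer automorphism group of PSL_n(q), n ≥ 3, q = p^f: it has a normal cyclic subgroup of order gcd(n, q − 1) (the diagonal automorphisms) whose quotient is the direct product of a cyclic group of order f (field automorphisms) and a group of order 2 (the inverse-transpose graph automorphism). -/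
theorem result {F : Type*} [Field F] [Fintype F] {p f n : ℕ} [Fact p.Prime] (hf : 1 ≤ f) (hF : Fintype.card F = p ^ f) (hn : 3 ≤ n) : ∃ φ : Cfsg.Out (Matrix.ProjectiveSpecialLinearGroup (Fin n) F) →* Multiplicative (ZMod f × ZMod 2), Function.Surjective φ ∧ IsCyclic φ.ker ∧ Nat.card φ.ker = Nat.gcd n (p ^ f - 1) := by
  obtain ⟨ψ, hψ, hk⟩ := exists_proj (F := F) (n := n) hn
  obtain ⟨ea⟩ := exists_ringAut_equiv (p := p) (f := f) hF
  have hle : Cfsg.Inn (Matrix.ProjectiveSpecialLinearGroup (Fin n) F) ≤ ψ.ker := hk ▸ inn_le_range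
  refine ⟨((ea.prodCongr (MulEquiv.refl (Multiplicative (ZMod 2)))).trans (MulEquiv.prodMultiplicative (ZMod f) (ZMod 2)).symm).toMonoidHom.comp (QuotientGroup.lift _ ψ hle), ?_, ?_⟩
  · exact ((ea.prodCongr (MulEquiv.refl (Multiplicative (ZMod 2)))).trans (MulEquiv.prodMultiplicative (ZMod f) (ZMod 2)).symm).surjective.comp (QuotientGroup.lift_surjective_of_surjective _ _ hψ hle)
  · rw [← MonoidHom.comap_ker, (MonoidHom.ker_eq_bot_iff _).2 (MulEquiv.injective _),
      MonoidHom.comap_bot, QuotientGroup.ker_lift, hk, ← hF]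
    exact card_diag (by omega) _ rfl

end Cfsg.Agent.S2601
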