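import Cfsg.Statements.S2612
import Cfsg.Agent.Lib.Classical.OmegaPlus

set_option autoImplicit false
open Cfsg

namespace Cfsg.Agent.S2612

/-- For the hyperbolic quadratic form Σ x_i y_i on F^(2m) (F finite, m ≥ 1, excluding m = 2 over the field of two elements), Ω⁺_2m(F) (the commutator subgroup of the orthogonal group) contains an element interchanging the two complementary maximal totally singular subspaces {y = 0} and {x = 0} if and only if m is even (dimension divisible by 4). -/
theorem result {F : Type*} [Field F] [Fintype F] {m : ℕ} (hm : 1 ≤ m) (h : Fintype.card F ≠ 2 ∨ m ≠ 2) : (∃ g : ↥(Cfsg.isometryGroup F (Cfsg.quadFormPlus m F)), g ∈ Cfsg.Omega F (Cfsg.quadFormPlus m F) ∧ (∀ v : Fin m ⊕ Fin m → F, (∀ i, v (Sum.inr i) = 0) → ∀ i, (((g : Matrix.GeneralLinearGroup (Fin m ⊕ Fin m) F) : Matrix (Fin m ⊕ Fin m) (Fin m ⊕ Fin m) F).mulVec v) (Sum.inl i) = 0) ∧ (∀ v : Fin m ⊕ Fin m → F, (∀ i, v (Sum.inl i) = 0) → ∀ i, (((g : Matrix.GeneralLinearGroup (Fin m ⊕ Fin m) F) : Matrix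 (Fin m ⊕ Fin m) (Fin m ⊕ Fin m) F).mulVec v) (Sum.inr i) = 0)) ↔ Even m := by
  have h' : Fintype.card F ≠ 2 ∨ Fintype.card (Fin m ⊕ Fin m) ≠ 4 :=
    h.imp_right fun hm2 => by simp; omega
  rw [← Classical.OrthForms.plusQ_eq]
  open Forms.Reflections Classical.OmegaPlus Classical.OmegaCrit in
  obtain ⟨σ, hσ, hσt⟩ := exists_swap h'
  have hpar : ∀ k : ℕ, ((-1 : ℤˣ)) ^ k = 1 ↔ Even k := fun k => by
    rcases Nat.even_or_odd k with he | ho
    · exact iff_of_true he.neg_one_pow he
    · rw [ho.neg_one_pow]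
      exact iff_of_false (by decide) (Nat.not_even_iff_odd.2 ho)
  constructor
  · rintro ⟨g, hg, h1, h2⟩
    open Forms.Reflections Classical.OmegaPlus Classical.OmegaCrit in
    obtain ⟨A, hA⟩ := exists_levi (σ * g)
      (fun v hv i => by
        rw [act_mul, hσ, Function.comp_apply, Sum.swap_inr, act_apply]
        exact h1 v hv i)
      (fun v hv i => by
        rw [act_mul, hσ, Function.comp_apply, Sum.swap_inl, act_apply]
        exact h2 v hv i)
    open Forms.Reflections Classical.OmegaPlus Classical.OmegaCrit in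
    have h3 := congrArg Prod.fst (congrArg (theta (Forms.PlusStd.plusQ_nondeg F m) h') hA)
    rw [map_mul, hσt, (Classical.OmegaCrit.mem_omega_iff (Forms.PlusStd.plusQ_nondeg F m) h' g).1 hg, mul_one,
      Classical.OmegaPlus.theta_levi h' A] at h3
    exact (hpar m).1 h3
  · intro he
    refine ⟨σ, (Classical.OmegaCrit.mem_omega_iff (Forms.PlusStd.plusQ_nondeg F m) h' σ).2 ?_, fun v hv i => ?_, fun v hv i => ?_⟩
    · rw [hσt, he.neg_one_pow, he.neg_one_pow, Classical.OmegaCrit.chi_one]
      rfl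
    · rw [← Forms.Reflections.act_apply, hσ]
      exact hv i
    · rw [← Forms.Reflections.act_apply, hσ]
      exact hv i

end Cfsg.Agent.S2612
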