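import Cfsg.Statements.S2613
import Cfsg.Agent.Lib.Classical.OmegaPairs
import Cfsg.Agent.Lib.Classical.OrthForms

set_option autoImplicit false
open Cfsg

namespace Cfsg.Agent.S2613

/-- For the hyperbolic form Σ x_j y_j on F^(2m), F finite with q elements, q odd, and 1 ≤ i ≤ m: the involution negating the first i hyperbolic pairs (x_j, y_j ↦ −x_j, −y_j for j < i) and fixing the rest lies in Ω⁺_2m(q) (commutator subgroup of the orthogonal group) if and only if q^i ≡ 1 (mod 4); its (−1)-eigenspace is a hyperbolic 2i-space. -/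
theorem result {F : Type*} [Field F] [Fintype F] {q : ℕ} (hF : Fintype.card F = q) (hq : Odd q) {m : ℕ} (i : ℕ) (hi : 1 ≤ i) (him : i ≤ m) : (∃ g : ↥(Cfsg.isometryGroup F (Cfsg.quadFormPlus m F)), g ∈ Cfsg.Omega F (Cfsg.quadFormPlus m F) ∧ ((g : Matrix.GeneralLinearGroup (Fin m ⊕ Fin m) F) : Matrix (Fin m ⊕ Fin m) (Fin m ⊕ Fin m) F) = Matrix.diagonal (fun k : Fin m ⊕ Fin m => if (Sum.elim (fun j : Fin m => (j : ℕ)) (fun j : Fin m => (j : ℕ)) k) < i then (-1 : F) else 1)) ↔ q ^ i % 4 = 1 := by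
  rw [← Classical.OrthForms.plusQ_eq]
  refine Classical.OmegaPairs.omega_diagonal_iff (Q := Forms.PlusStd.plusQ F m)
    (Forms.PlusStd.plusQ_nondeg F m)
    (fun j : Fin i => Sum.inl (Fin.castLE him j)) (fun j : Fin i => Sum.inr (Fin.castLE him j))
    (fun a b h => by simpa [Fin.ext_iff] using h) (fun a b h => by simpa [Fin.ext_iff] using h)
    (fun a b => by simp) (fun j => ?_) (fun j => ?_) (fun j v => ?_) (fun j v => ?_) hF hq _
    (fun z => ?_)
  · simp [Forms.PlusStd.plusQ_apply, Cfsg.quadFormPlus, Pi.single_apply]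
  · simp [Forms.PlusStd.plusQ_apply, Cfsg.quadFormPlus, Pi.single_apply]
  · simp [Forms.PlusStd.plusQ_polar, Pi.single_apply]
  · simp [Forms.PlusStd.plusQ_polar, Pi.single_apply]
  · refine if_congr ?_ rfl rfl
    simp only [Finset.mem_union, Finset.mem_image, Finset.mem_univ, true_and]
    rcases z with k | k
    · simp only [Sum.elim_inl, Sum.inl.injEq, reduceCtorEq, exists_false, or_false]
      exact ⟨fun h => ⟨⟨k, h⟩, Fin.ext rfl⟩, fun ⟨j, hj⟩ => by rw [← hj]; exact j.2⟩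
    · simp only [Sum.elim_inr, Sum.inr.injEq, reduceCtorEq, exists_false, false_or]
      exact ⟨fun h => ⟨⟨k, h⟩, Fin.ext rfl⟩, fun ⟨j, hj⟩ => by rw [← hj]; exact j.2⟩

end Cfsg.Agent.S2613
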