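import Cfsg.Statements.S2615
import Cfsg.Agent.Lib.Classical.OmegaPairs
import Cfsg.Agent.Lib.Classical.OrthForms

set_option autoImplicit false
open Cfsg

namespace Cfsg.Agent.S2615

/-- For an elliptic form Σ_(j<m−1) x_j y_j + (z₁² + a z₁z₂ + b z₂²) (anisotropic binary part) on F^(2m), F finite with q elements, q odd, and 1 ≤ i ≤ m − 1: the involution negating the first i hyperbolic pairs and fixing the rest lies in Ω⁻_2m(q) (commutator subgroup of the orthogonal group) if and only if q^i ≡ 1 (mod 4). -/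
theorem result {F : Type*} [Field F] [Fintype F] {q : ℕ} (hF : Fintype.card F = q) (hq : Odd q) {m : ℕ} (a b : F) (hab : ∀ z₁ z₂ : F, z₁ ^ 2 + a * z₁ * z₂ + b * z₂ ^ 2 = 0 → z₁ = 0 ∧ z₂ = 0) (i : ℕ) (hi : 1 ≤ i) (him : i + 1 ≤ m) : (∃ g : ↥(Cfsg.isometryGroup F (Cfsg.quadFormMinus (m - 1) F a b)), g ∈ Cfsg.Omega F (Cfsg.quadFormMinus (m - 1) F a b) ∧ ((g : Matrix.GeneralLinearGroup ((Fin (m - 1) ⊕ Fin (m - 1)) ⊕ Fin 2) F) : Matrix ((Fin (m - 1) ⊕ Fin (m - 1)) ⊕ Fin 2) ((Fin (m - 1) ⊕ Fin (m - 1)) ⊕ Fin 2) F) = Matrix.diagonal (fun k : (Fin (m - 1) ⊕ Fin (m - 1)) ⊕ Fin 2 => if (Sum.elim (Sum.elim (fun j : Fin (m - 1) => (j : ℕ)) (fun j : Fin (m - 1) => (j : ℕ))) (fun _ : Fin 2 => i) k) < i then (-1 : F) else 1)) ↔ q ^ i % 4 = 1 := by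
  rw [← Classical.OrthForms.minQ_eq]
  refine Classical.OmegaPairs.omega_diagonal_iff (Q := Classical.OrthForms.minQ F (m - 1) a b)
    (Classical.OrthForms.minQ_nondeg (m - 1) hab)
    (fun j : Fin i => Sum.inl (Sum.inl (Fin.castLE (by omega) j))) (fun j : Fin i => Sum.inl (Sum.inr (Fin.castLE (by omega) j)))
    (fun a b h => by simpa [Fin.ext_iff] using h) (fun a b h => by simpa [Fin.ext_iff] using h)
    (fun a b => by simp) (fun j => ?_) (fun j => ?_) (fun j v => ?_) (fun j v => ?_) hF hq _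
    (fun z => ?_)
  · simp [Classical.OrthForms.minQ_apply, Forms.PlusStd.plusQ_apply, Cfsg.quadFormPlus, Pi.single_apply]
  · simp [Classical.OrthForms.minQ_apply, Forms.PlusStd.plusQ_apply, Cfsg.quadFormPlus, Pi.single_apply]
  · simp [Classical.OrthForms.minQ_polar, Forms.PlusStd.plusQ_polar, Pi.single_apply]
  · simp [Classical.OrthForms.minQ_polar, Forms.PlusStd.plusQ_polar, Pi.single_apply]
  · refine if_congr ?_ rfl rfl
    simp only [Finset.mem_union, Finset.mem_image, Finset.mem_univ, true_and]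
    rcases z with (k | k) | k
    · simp only [Sum.elim_inl, Sum.inl.injEq, reduceCtorEq, exists_false, or_false]
      exact ⟨fun h => ⟨⟨k, h⟩, Fin.ext rfl⟩, fun ⟨j, hj⟩ => by rw [← hj]; exact j.2⟩
    · simp only [Sum.elim_inl, Sum.elim_inr, Sum.inl.injEq, Sum.inr.injEq, reduceCtorEq,
        exists_false, false_or]
      exact ⟨fun h => ⟨⟨k, h⟩, Fin.ext rfl⟩, fun ⟨j, hj⟩ => by rw [← hj]; exact j.2⟩
    · simp

end Cfsg.Agent.S2615
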