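import Cfsg.Statements.S2616
import Cfsg.Agent.Lib.Classical.QuadClass

set_option autoImplicit false
open Cfsg

namespace Cfsg.Agent.S2616

open Module Cfsg.Agent.Classical Cfsg.Agent.Classical.OrthForms Cfsg.Agent.Classical.OrthCount Cfsg.Agent.Forms Cfsg.Agent.Forms.PlusStd

theorem pol_transport {F V : Type*} [Field F] [AddCommGroup V] [Module F V] {ι : Type}
    (Q : QuadraticForm F V) (P : QuadraticForm F (ι → F)) (e : V ≃ₗ[F] (ι → F))
    (he : ∀ x, P (e x) = Q x) (x y : ι → F) :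
    QuadraticMap.polar ⇑Q (e.symm x) (e.symm y) = QuadraticMap.polar ⇑P x y := by
  simp only [QuadraticMap.polar, ← he, map_add, LinearEquiv.apply_symm_apply]


/-- Standard bases of a non-degenerate quadratic space of even dimension 2m over a finite field: either there is a hyperbolic basis e_i, f_i (Q(e_i) = Q(f_i) = 0, B(e_i, f_j) = δ_ij, the e's pairwise orthogonal and the f's pairwise orthogonal, B the polar form), or there is an elliptic basis: hyperbolic pairs e_i, f_i for i < m − 1 together with x, y orthogonal to them with Q(x) = 1, B(x, y) = 1, Q(y) = ζ where t² + t + ζ has no root in the field. -/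
theorem result {F V : Type*} [Field F] [Finite F] [AddCommGroup V] [Module F V] [FiniteDimensional F V] {m : ℕ} (hm : 1 ≤ m) (hV : Module.finrank F V = 2 * m) (Q : QuadraticForm F V) (hQ : (QuadraticMap.polarBilin Q).Nondegenerate) : (∃ b : Module.Basis (Fin m ⊕ Fin m) F V, (∀ i, Q (b (Sum.inl i)) = 0 ∧ Q (b (Sum.inr i)) = 0) ∧ (∀ i j, QuadraticMap.polar ⇑Q (b (Sum.inl i)) (b (Sum.inr j)) = if i = j then 1 else 0) ∧ (∀ i j, QuadraticMap.polar ⇑Q (b (Sum.inl i)) (b (Sum.inl j)) = 0 ∧ QuadraticMap.polar ⇑Q (b (Sum.inr i)) (b (Sum.inr j)) = 0)) ∨ (∃ (b : Module.Basis ((Fin (m - 1) ⊕ Fin (m - 1)) ⊕ Fin 2) F V) (ζ : F), (∀ t : F, t ^ 2 + t + ζ ≠ 0) ∧ (∀ i, Q (b (Sum.inl (Sum.inl i))) = 0 ∧ Q (b (Sum.inl (Sum.inr i))) = 0) ∧ (∀ i j, QuadraticMap.polar ⇑Q (b (Sum.inl (Sum.inl i))) (b (Sum.inl (Sum.inr j))) = if i = j then 1 else 0) ∧ (∀ i j, QuadraticMap.polar ⇑Q (b (Sum.inl (Sum.inl i))) (b (Sum.inl (Sum.inl j))) = 0 ∧ QuadraticMap.polar ⇑Q (b (Sum.inl (Sum.inr i))) (b (Sum.inl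 (Sum.inr j))) = 0) ∧ (∀ i (k : Fin 2), QuadraticMap.polar ⇑Q (b (Sum.inl (Sum.inl i))) (b (Sum.inr k)) = 0 ∧ QuadraticMap.polar ⇑Q (b (Sum.inl (Sum.inr i))) (b (Sum.inr k)) = 0) ∧ Q (b (Sum.inr 0)) = 1 ∧ QuadraticMap.polar ⇑Q (b (Sum.inr 0)) (b (Sum.inr 1)) = 1 ∧ Q (b (Sum.inr 1)) = ζ) := by
  rcases QuadClass.classify_even m hV Q hQ with ⟨e, he⟩ | ⟨-, ζ, e, hζ, he⟩
  · refine Or.inl ⟨(Pi.basisFun F _).map e.symm, fun i => ?_, fun i j => ?_, fun i j => ?_⟩ <;>
      simp only [Module.Basis.map_apply, Pi.basisFun_apply]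
    · exact ⟨by rw [← he, e.apply_symm_apply]; exact (plusQ_pair i).hu,
        by rw [← he, e.apply_symm_apply]; exact (plusQ_pair i).hv⟩
    · rw [pol_transport Q _ e he]
      split_ifs with h
      · subst h; exact (plusQ_pair i).huv
      · exact plusQ_orth (fun k => by
          by_cases hk : k = i
          · subst hk; exact Or.inr (by simpa using Ne.symm h)
          · exact Or.inl (by simpa using Ne.symm hk)) (fun k => by simp)
    · rw [pol_transport Q _ e he, pol_transport Q _ e he]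
      exact ⟨plusQ_orth (fun k => by simp) (fun k => by simp),
        plusQ_orth (fun k => by simp) (fun k => by simp)⟩
  · refine Or.inr ⟨(Pi.basisFun F _).map e.symm, ζ, hζ, fun i => ?_, fun i j => ?_, fun i j => ?_,
      fun i k => ?_, ?_, ?_, ?_⟩ <;>
      simp only [Module.Basis.map_apply, Pi.basisFun_apply, pol_transport Q _ e he, ← he,
        e.apply_symm_apply]
    · constructor <;> simp [minQ_apply, Function.comp_def, plusQ_apply, Cfsg.quadFormPlus, Pi.single_apply]
    · simp [minQ_polar, Function.comp_def, plusQ_polar, Pi.single_apply, eq_comm]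
    · constructor <;> simp [minQ_polar, Function.comp_def, plusQ_polar, Pi.single_apply]
    · constructor <;> simp [minQ_polar, Function.comp_def, plusQ_polar, Pi.single_apply]
    · simp [minQ_apply, Function.comp_def, plusQ_apply, Cfsg.quadFormPlus, Pi.single_apply]
    · simp [minQ_polar, Function.comp_def, plusQ_polar, Pi.single_apply]
      exact Or.inr (QuadraticMap.map_zero _)
    · simp [minQ_apply, Function.comp_def, plusQ_apply, Cfsg.quadFormPlus, Pi.single_apply]

end Cfsg.Agent.S2616
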