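import Cfsg.Statements.S2618
import Cfsg.Agent.Lib.Classical.QuadClass

set_option autoImplicit false
open Cfsg

namespace Cfsg.Agent.S2618

open Module Cfsg.Agent.Classical Cfsg.Agent.Classical.OrthForms Cfsg.Agent.Classical.OrthCount Cfsg.Agent.Forms Cfsg.Agent.Forms.PlusStd


/-- Standard (parabolic) basis of a non-degenerate quadratic space of odd dimension 2m + 1 over a finite field (the non-degeneracy of the polar form forces the characteristic to be odd): there is a basis e_i, f_i (i < m), x with Q(e_i) = Q(f_i) = 0, B(e_i, f_j) = δ_ij (B the polar form), the e's pairwise orthogonal and the f's pairwise orthogonal, x orthogonal to all of them and Q(x) ≠ 0. -/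
theorem result {F V : Type*} [Field F] [Finite F] [AddCommGroup V] [Module F V] [FiniteDimensional F V] {m : ℕ} (hV : Module.finrank F V = 2 * m + 1) (Q : QuadraticForm F V) (hQ : (QuadraticMap.polarBilin Q).Nondegenerate) : ∃ b : Module.Basis (Unit ⊕ (Fin m ⊕ Fin m)) F V, Q (b (Sum.inl ())) ≠ 0 ∧ (∀ i, QuadraticMap.polar ⇑Q (b (Sum.inl ())) (b (Sum.inr (Sum.inl i))) = 0 ∧ QuadraticMap.polar ⇑Q (b (Sum.inl ())) (b (Sum.inr (Sum.inr i))) = 0) ∧ (∀ i, Q (b (Sum.inr (Sum.inl i))) = 0 ∧ Q (b (Sum.inr (Sum.inr i))) = 0) ∧ (∀ i j, QuadraticMap.polar ⇑Q (b (Sum.inr (Sum.inl i))) (b (Sum.inr (Sum.inr j))) = if i = j then 1 else 0) ∧ (∀ i j, QuadraticMap.polar ⇑Q (b (Sum.inr (Sum.inl i))) (b (Sum.inr (Sum.inl j))) = 0 ∧ QuadraticMap.polar ⇑Q (b (Sum.inr (Sum.inr i))) (b (Sum.inr (Sum.inr j))) = 0) := by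
  obtain ⟨c, hc, e, he⟩ := QuadClass.classify_odd m hV Q hQ
  have hval : ∀ x, Q (e.symm x) = c * x (Sum.inl ()) ^ 2 + plusQ F m (x ∘ Sum.inr) := fun x => by
    rw [← he, e.apply_symm_apply]
  have hpol : ∀ x y, QuadraticMap.polar ⇑Q (e.symm x) (e.symm y) =
      2 * c * x (Sum.inl ()) * y (Sum.inl ()) +
        QuadraticMap.polar (plusQ F m) (x ∘ Sum.inr) (y ∘ Sum.inr) := fun x y => by
    simp only [QuadraticMap.polar, ← map_add, hval, Pi.add_apply]
    rw [show (x + y) ∘ Sum.inr = x ∘ Sum.inr + y ∘ Sum.inr from rfl]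
    ring
  refine ⟨(Pi.basisFun F _).map e.symm, ?_, fun i => ?_, fun i => ?_, fun i j => ?_, fun i j => ?_⟩ <;>
    simp only [Module.Basis.map_apply, Pi.basisFun_apply, hpol, hval]
  · simp [Function.comp_def, plusQ_apply, Cfsg.quadFormPlus, Pi.single_apply, hc]
  · constructor <;> simp [Function.comp_def, plusQ_polar, Pi.single_apply]
  · constructor <;> simp [Function.comp_def, plusQ_apply, Cfsg.quadFormPlus, Pi.single_apply]
  · simp [Function.comp_def, plusQ_polar, Pi.single_apply, eq_comm]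
  · constructor <;> simp [Function.comp_def, plusQ_polar, Pi.single_apply]

end Cfsg.Agent.S2618
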