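import Cfsg.Statements.S2619
import Mathlib

set_option autoImplicit false
open Cfsg

namespace Cfsg.Agent.S2619

theorem map_sum_of_polar {F V ι : Type*} [Field F] [AddCommGroup V] [Module F V] [Fintype ι]
    (D : QuadraticForm F V) (hD : ∀ x y, QuadraticMap.polar ⇑D x y = 0) (w : ι → V)
    (r : ι → F) : D (∑ i, r i • w i) = ∑ i, r i * r i * D (w i) := by
  classical
  induction (Finset.univ : Finset ι) using Finset.induction with
  | empty => simp
  | insert a s ha ih =>
    rw [Finset.sum_insert ha, Finset.sum_insert ha, QuadraticMap.map_add D, hD, ih,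
      QuadraticMap.map_smul, smul_eq_mul, add_zero]


/-- Over a finite field of characteristic two, given an alternating bilinear form B on a finite-dimensional space, a basis (v_i) and scalars (λ_i), there is exactly one quadratic form whose polar form is B and whose value at each v_i is λ_i. -/
theorem result {F V ι : Type*} [Field F] [Finite F] [CharP F 2] [AddCommGroup V] [Module F V] [Fintype ι] (b : Module.Basis ι F V) (B : LinearMap.BilinForm F V) (hB : B.IsAlt) (c : ι → F) : ∃! Q : QuadraticForm F V, QuadraticMap.polarBilin Q = B ∧ ∀ i, Q (b i) = c i := by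
  classical
  let f : ι ≃ Fin (Fintype.card ι) := Fintype.equivFin ι
  let C : LinearMap.BilinForm F V := b.constr F fun i => b.constr F fun j =>
    if f i < f j then B (b i) (b j) else if i = j then c i else 0
  have hC : ∀ i j, C (b i) (b j) = if f i < f j then B (b i) (b j) else if i = j then c i else 0 :=
    fun i j => by simp only [C, Module.Basis.constr_basis]
  have hBs : ∀ x y, B y x = B x y := fun x y => by
    have h := LinearMap.IsAlt.neg hB x y
    rw [CharTwo.neg_eq] at h
    exact h.symm
  have hsum : ∀ i j, C (b i) (b j) + C (b j) (b i) = B (b i) (b j) := by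
    intro i j
    rw [hC, hC]
    rcases lt_trichotomy (f i) (f j) with h | h | h
    · have hne : j ≠ i := fun e => by rw [e] at h; exact lt_irrefl _ h
      rw [if_pos h, if_neg (not_lt.2 h.le), if_neg hne, add_zero]
    · obtain rfl := f.injective h
      simp [hB (b i), CharTwo.add_self_eq_zero]
    · have hne : i ≠ j := fun e => by rw [e] at h; exact lt_irrefl _ h
      rw [if_neg (not_lt.2 h.le), if_neg hne, if_pos h, zero_add, hBs]
  refine ⟨C.toQuadraticMap, ⟨b.ext fun i => b.ext fun j => ?_, fun i => ?_⟩, fun Q ⟨hQB, hQc⟩ => ?_⟩
  · rw [QuadraticMap.polarBilin_apply_apply, LinearMap.BilinMap.polar_toQuadraticMap, hsum]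
  · rw [LinearMap.BilinMap.toQuadraticMap_apply, hC]; simp
  · refine QuadraticMap.ext fun x => ?_
    have hD : ∀ x y, QuadraticMap.polar ⇑(Q - C.toQuadraticMap) x y = 0 := by
      intro x y
      have h1 : QuadraticMap.polar ⇑Q x y = B x y := by rw [← hQB]; rfl
      have h2 : C x y + C y x = B x y := LinearMap.congr_fun₂
        (b.ext fun i => b.ext fun j => by simp [hsum] : C + C.flip = B) x y
      have h3 : QuadraticMap.polar ⇑C.toQuadraticMap x y = B x y := by
        rw [LinearMap.BilinMap.polar_toQuadraticMap, h2]
      simp only [QuadraticMap.polar, sub_apply] at h1 h3 ⊢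
      linear_combination h1 - h3
    have key : (Q - C.toQuadraticMap) x = 0 := by
      rw [← b.sum_repr x, map_sum_of_polar _ hD]
      refine Finset.sum_eq_zero fun i _ => ?_
      rw [sub_apply, hQc, LinearMap.BilinMap.toQuadraticMap_apply, hC]
      simp
    exact sub_eq_zero.1 key

end Cfsg.Agent.S2619
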