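import Cfsg.Statements.S2620
import Cfsg.Agent.Lib.Classical.QuadClass
import Cfsg.Agent.Lib.Forms.Disc

set_option autoImplicit false
open Cfsg

namespace Cfsg.Agent.S2620

open Module Cfsg.Agent.Classical Cfsg.Agent.Classical.OrthForms Cfsg.Agent.Classical.OrthCount Cfsg.Agent.Forms Cfsg.Agent.Forms.PlusStd


theorem isSquare_sign {F : Type*} [Field F] [Fintype F] {q : ℕ} (hF : Fintype.card F = q)
    (h2 : (2 : F) ≠ 0) (hq : Odd q) (m : ℕ) {d : F} (hd : d ≠ 0) :
    IsSquare (d * d * (-1) ^ m) ↔ Even (m * (q - 1) / 2) := by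
  have hd2 : IsSquare (d * d * (-1 : F) ^ m) ↔ IsSquare ((-1 : F) ^ m) :=
    ⟨fun ⟨x, hx⟩ => ⟨x / d, by field_simp; linear_combination hx⟩,
      fun ⟨x, hx⟩ => ⟨d * x, by rw [hx]; ring⟩⟩
  rw [hd2]
  rcases Nat.even_or_odd m with hm | hm
  · rw [hm.neg_one_pow]
    refine iff_of_true ⟨1, (mul_one 1).symm⟩ ?_
    obtain ⟨r, rfl⟩ := hm
    obtain ⟨s, rfl⟩ := hq
    rw [Nat.add_sub_cancel, show (r + r) * (2 * s) = 2 * (2 * (r * s)) by ring,
      Nat.mul_div_cancel_left _ two_pos]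
    exact even_two_mul _
  · rw [hm.neg_one_pow, FiniteField.isSquare_neg_one_iff, hF]
    obtain ⟨r, rfl⟩ := hm
    obtain ⟨s, rfl⟩ := hq
    rw [Nat.add_sub_cancel, show (2 * r + 1) * (2 * s) = 2 * ((2 * r + 1) * s) by ring,
      Nat.mul_div_cancel_left _ two_pos, Nat.even_mul]
    simp only [Nat.not_even_two_mul_add_one, false_or]
    rw [Nat.even_iff]; omega

/-- Discriminant of the hyperbolic quadratic form Σ_(i<m) x_i y_i over a field with q elements, q odd, m ≥ 1: the determinant of the Gram matrix of its polar form in any basis is a square if and only if m(q − 1)/2 is even (equivalently q^m ≡ 1 (mod 4)). -/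
theorem result {F : Type*} [Field F] [Fintype F] {q : ℕ} (hF : Fintype.card F = q) (hq : Odd q) {m : ℕ} (hm : 1 ≤ m) {ι : Type*} [Fintype ι] [DecidableEq ι] (b : Module.Basis ι F (Fin m ⊕ Fin m → F)) : IsSquare (Matrix.of (fun i j : ι => QuadraticMap.polar (Cfsg.quadFormPlus m F) (b i) (b j))).det ↔ Even (m * (q - 1) / 2) := by
  have h2 : (2 : F) ≠ 0 := two_ne_zero_of_odd (hF ▸ hq)
  let B : LinearMap.BilinForm F (Fin m ⊕ Fin m → F) := QuadraticMap.polarBilin (plusQ F m)
  have hg : (Matrix.of fun i j : ι => QuadraticMap.polar (Cfsg.quadFormPlus m F) (b i) (b j)) =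
      Disc.gram B b := by
    rw [← plusQ_eq]; ext i j; simp [Disc.gram, B]
  rw [hg]
  obtain ⟨d, hd0, hd⟩ := Disc.det_gram_change B (Pi.basisFun F (Fin m ⊕ Fin m)) b
  have e : Disc.gram B (Pi.basisFun F (Fin m ⊕ Fin m)) =
      Matrix.fromBlocks 0 1 1 0 := by
    ext (i | i) (j | j) <;> simp [Disc.gram, B, plusQ_polar, Pi.single_apply, Matrix.one_apply, eq_comm]
  rw [hd, e, Disc.det_swap_blocks]
  exact isSquare_sign hF h2 hq m hd0

end Cfsg.Agent.S2620
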