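import Cfsg.Statements.S2621
import Cfsg.Agent.Lib.Classical.QuadClass
import Cfsg.Agent.Lib.Forms.Disc
import Cfsg.Agent.S2620

set_option autoImplicit false
open Cfsg

namespace Cfsg.Agent.S2621

open Module Cfsg.Agent.Classical Cfsg.Agent.Classical.OrthForms Cfsg.Agent.Classical.OrthCount Cfsg.Agent.Forms Cfsg.Agent.Forms.PlusStd


/-- Discriminant of an elliptic quadratic form Σ_(i<m−1) x_i y_i + z₁² + a z₁z₂ + c z₂² (binary part anisotropic) in dimension 2m over a field with q elements, q odd, m ≥ 1: the determinant of the Gram matrix of its polar form in any basis is a square if and only if m(q − 1)/2 is odd (equivalently q^m ≡ 3 (mod 4)). -/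
theorem result {F : Type*} [Field F] [Fintype F] {q : ℕ} (hF : Fintype.card F = q) (hq : Odd q) {m : ℕ} (hm : 1 ≤ m) (a c : F) (hac : ∀ z₁ z₂ : F, z₁ ^ 2 + a * z₁ * z₂ + c * z₂ ^ 2 = 0 → z₁ = 0 ∧ z₂ = 0) {ι : Type*} [Fintype ι] [DecidableEq ι] (b : Module.Basis ι F ((Fin (m - 1) ⊕ Fin (m - 1)) ⊕ Fin 2 → F)) : IsSquare (Matrix.of (fun i j : ι => QuadraticMap.polar (Cfsg.quadFormMinus (m - 1) F a c) (b i) (b j))).det ↔ ¬ Even (m * (q - 1) / 2) := by
  have h2 : (2 : F) ≠ 0 := two_ne_zero_of_odd (hF ▸ hq)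
  obtain ⟨k, rfl⟩ : ∃ k, m = k + 1 := ⟨m - 1, by omega⟩
  let B : LinearMap.BilinForm F ((Fin k ⊕ Fin k) ⊕ Fin 2 → F) := QuadraticMap.polarBilin (minQ F k a c)
  have hg : (Matrix.of fun i j : ι => QuadraticMap.polar (Cfsg.quadFormMinus (k + 1 - 1) F a c) (b i) (b j)) =
      Disc.gram B b := by
    rw [← minQ_eq]; ext i j; simp [Disc.gram, B]
  rw [hg]
  obtain ⟨d, hd0, hd⟩ := Disc.det_gram_change B (Pi.basisFun F ((Fin k ⊕ Fin k) ⊕ Fin 2)) b
  have e : Disc.gram B (Pi.basisFun F ((Fin k ⊕ Fin k) ⊕ Fin 2)) =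
      Matrix.fromBlocks (Matrix.fromBlocks 0 1 1 0) 0 0 !![2, a; a, 2 * c] := by
    ext ((i | i) | i) ((j | j) | j) <;>
      simp [Disc.gram, B, minQ_polar, Function.comp_def, plusQ_polar, Pi.single_apply,
        Matrix.one_apply, eq_comm]
    all_goals fin_cases i <;> fin_cases j <;> simp
  have hdet : (Disc.gram B b).det = d * d * ((-1) ^ (k + 1) * (a ^ 2 - 4 * c)) := by
    rw [hd, e, Matrix.det_fromBlocks_zero₂₁, Disc.det_swap_blocks, Matrix.det_fin_two_of]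
    ring
  have hns : ¬ IsSquare (a ^ 2 - 4 * c) := by
    rintro ⟨r, hr⟩
    refine one_ne_zero (hac ((r - a) / 2) 1 ?_).2
    field_simp
    linear_combination -hr
  have h0 : a ^ 2 - 4 * c ≠ 0 := fun h => hns ⟨0, by rw [h]; ring⟩
  have hne : (-1 : F) ^ (k + 1) ≠ 0 := pow_ne_zero _ (neg_ne_zero.2 one_ne_zero)
  rw [hdet, ← S2620.isSquare_sign hF h2 hq (k + 1) hd0]
  refine ⟨fun ⟨x, hx⟩ ⟨y, hy⟩ => hns ⟨x / y, ?_⟩, fun h => ?_⟩
  · have hy0 : y ≠ 0 := fun h => mul_ne_zero (mul_ne_zero hd0 hd0) hne (by rw [hy, h]; ring)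
    field_simp
    linear_combination hx - (a ^ 2 - 4 * c) * hy
  · obtain ⟨x, hx⟩ := Bases.isSquare_mul_of_not (fun hs => h (IsSquare.mul ⟨d, rfl⟩ hs)) hns
    exact ⟨d * x, by linear_combination (d * d) * hx⟩

end Cfsg.Agent.S2621
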