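import Cfsg.Statements.S2622
import Cfsg.Agent.Lib.Forms.Bases

set_option autoImplicit false
open Cfsg

namespace Cfsg.Agent.S2622

open Module Cfsg.Agent.Forms.Bases in
theorem orthonormal_family {F V : Type*} [Field F] [Finite F] [CharP F 2] [AddCommGroup V]
    [Module F V] [FiniteDimensional F V] (B : LinearMap.BilinForm F V) (hS : B.IsSymm) :
    ∀ (n : ℕ) (W : Submodule F V), NondegOn B W → finrank F W = n →
      (n = 0 ∨ ∃ v ∈ W, B v v ≠ 0) →
      ∃ v : Fin n → V, ∀ i, v i ∈ W ∧ ∀ j, B (v i) (v j) = if i = j then 1 else 0 := by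
  intro n
  induction n with
  | zero => intro W _ _ _; exact ⟨Fin.elim0, fun i => Fin.elim0 i⟩
  | succ n ih =>
    intro W hW hn hna
    have h2 : (2 : F) = 0 := CharTwo.two_eq_zero
    have hrefl : ∀ u v, B u v = 0 → B v u = 0 := fun u v h => by rw [hS.eq, h]
    have key : ∃ u ∈ W, B u u = 1 ∧ (n = 0 ∨ ∃ z ∈ W ⊓ LinearMap.ker (B u), B z z ≠ 0) := by
      obtain ⟨v, hv, hvv⟩ := hna.resolve_left (by omega)
      obtain ⟨s, hs⟩ := FiniteField.isSquare_of_char_two (ringChar.eq F 2) (B v v)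
      have hs0 : s ≠ 0 := by rintro rfl; exact hvv (by simpa using hs)
      have huu : B (s⁻¹ • v) (s⁻¹ • v) = 1 := by simp [hs]; field_simp
      have huW : s⁻¹ • v ∈ W := W.smul_mem _ hv
      by_cases h : n = 0 ∨ ∃ z ∈ W ⊓ LinearMap.ker (B (s⁻¹ • v)), B z z ≠ 0
      · exact ⟨_, huW, huu, h⟩
      push Not at h
      obtain ⟨hn0, halt⟩ := h
      obtain ⟨hW', -, hfin⟩ := split_anisotropic B hrefl hW huW (by rw [huu]; exact one_ne_zero)
      obtain ⟨e, he, he0⟩ := Submodule.exists_mem_ne_zero_of_ne_bot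
        (p := W ⊓ LinearMap.ker (B (s⁻¹ • v))) (fun hb => by
          rw [hb, finrank_bot] at hfin; omega)
      obtain ⟨f, hf, hef⟩ : ∃ f ∈ W ⊓ LinearMap.ker (B (s⁻¹ • v)), B e f ≠ 0 := by
        by_contra hc
        push Not at hc
        exact he0 (hW' e he hc)
      generalize s⁻¹ • v = u at huu huW he hf halt
      have hue : B u e = 0 := (Submodule.mem_inf.1 he).2
      have huf : B u f = 0 := (Submodule.mem_inf.1 hf).2
      have heu : B e u = 0 := hrefl _ _ hue
      have hfu : B f u = 0 := hrefl _ _ huf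
      have hee := halt e he
      have hff := halt f hf
      refine ⟨u + e, add_mem huW (Submodule.mem_inf.1 he).1, by simp [huu, hue, heu, hee],
        Or.inr ⟨u + (B e f)⁻¹ • f, Submodule.mem_inf.2 ⟨add_mem huW (W.smul_mem _
          (Submodule.mem_inf.1 hf).1), ?_⟩, ?_⟩⟩
      · rw [LinearMap.mem_ker]
        simp [huu, huf, heu, hef]
        linear_combination h2
      · simp [huu, huf, hfu, hff]
    obtain ⟨u, hu, huu, hrest⟩ := key
    obtain ⟨hW', -, hfin⟩ := split_anisotropic B hrefl hW hu (by rw [huu]; exact one_ne_zero)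
    obtain ⟨v, hv⟩ := ih _ hW' (by omega) hrest
    have horth : ∀ i, B u (v i) = 0 := fun i => (Submodule.mem_inf.1 (hv i).1).2
    refine ⟨Fin.cons u v, Fin.forall_fin_succ.2 ⟨⟨hu, Fin.forall_fin_succ.2
      ⟨by simp [huu], fun j => ?_⟩⟩, fun i => ⟨(Submodule.mem_inf.1 (hv i).1).1,
        Fin.forall_fin_succ.2 ⟨?_, fun j => ?_⟩⟩⟩⟩
    · simp [horth, (Fin.succ_ne_zero j).symm]
    · simp [hrefl _ _ (horth i), Fin.succ_ne_zero]
    · simp [(hv i).2 j, Fin.succ_inj]

/-- Over a finite field of characteristic two, a non-degenerate symmetric bilinear form that is not alternating (some vector v has B(v, v) ≠ 0) admits an orthonormal basis. -/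
theorem result {F V : Type*} [Field F] [Finite F] [CharP F 2] [AddCommGroup V] [Module F V] [FiniteDimensional F V] {n : ℕ} (hV : Module.finrank F V = n) (B : LinearMap.BilinForm F V) (hS : B.IsSymm) (hB : B.Nondegenerate) (hna : ∃ v : V, B v v ≠ 0) : ∃ b : Module.Basis (Fin n) F V, ∀ i j, B (b i) (b j) = if i = j then 1 else 0 := by
  obtain ⟨v, hv⟩ := hna
  obtain ⟨w, hw⟩ := orthonormal_family B hS n ⊤ (Forms.Bases.nondegOn_top hB.1) (by simpa using hV)
    (Or.inr ⟨v, Submodule.mem_top, hv⟩)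
  have hli : LinearIndependent F w := by
    rw [Fintype.linearIndependent_iff]
    intro g hg i
    have := congrArg (B (w i)) hg
    simpa [fun j => (hw i).2 j] using this
  refine ⟨Module.Basis.mk hli ?_, fun i j => by rw [Module.Basis.mk_apply, Module.Basis.mk_apply]; exact (hw i).2 j⟩
  exact (hli.span_eq_top_of_card_eq_finrank' (by simp [hV])).ge

end Cfsg.Agent.S2622
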