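import Cfsg.Statements.S2623
import Cfsg.Agent.Lib.Classical.QuadClass
import Cfsg.Agent.Lib.Forms.Disc

set_option autoImplicit false
open Cfsg

namespace Cfsg.Agent.S2623

open Module Cfsg.Agent.Classical Cfsg.Agent.Classical.OrthForms Cfsg.Agent.Classical.OrthCount Cfsg.Agent.Forms Cfsg.Agent.Forms.PlusStd


/-- Over a finite field of odd order, two quadratic forms on F^n with non-degenerate polar forms are isometric (related by an invertible linear change of variables) if and only if their discriminants (determinants of the Gram matrices of their polar forms) lie in the same square class. -/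
theorem result {F : Type*} [Field F] [Fintype F] (h2 : (2 : F) ≠ 0) {n : ℕ} (Q₁ Q₂ : QuadraticForm F (Fin n → F)) (h₁ : (QuadraticMap.polarBilin Q₁).Nondegenerate) (h₂ : (QuadraticMap.polarBilin Q₂).Nondegenerate) : (∃ g : (Fin n → F) ≃ₗ[F] (Fin n → F), ∀ v, Q₂ (g v) = Q₁ v) ↔ IsSquare ((Matrix.of (fun i j : Fin n => QuadraticMap.polar ⇑Q₁ (Pi.single i 1) (Pi.single j 1))).det * (Matrix.of (fun i j : Fin n => QuadraticMap.polar ⇑Q₂ (Pi.single i 1) (Pi.single j 1))).det) := by
  let B₁ : LinearMap.BilinForm F (Fin n → F) := QuadraticMap.polarBilin Q₁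
  let B₂ : LinearMap.BilinForm F (Fin n → F) := QuadraticMap.polarBilin Q₂
  have hg : ∀ Q : QuadraticForm F (Fin n → F),
      (Matrix.of fun i j : Fin n => QuadraticMap.polar ⇑Q (Pi.single i 1) (Pi.single j 1)) =
        Disc.gram (QuadraticMap.polarBilin Q) (Pi.basisFun F (Fin n)) := fun Q => by
    ext i j; simp [Disc.gram]
  rw [hg, hg]
  constructor
  · rintro ⟨g, hgQ⟩
    obtain ⟨d, hd0, hd⟩ := Disc.det_gram_change B₂ (Pi.basisFun F (Fin n)) ((Pi.basisFun F (Fin n)).map g)
    have e : Disc.gram B₂ ((Pi.basisFun F (Fin n)).map g) = Disc.gram B₁ (Pi.basisFun F (Fin n)) := by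
      ext i j
      simp [Disc.gram, B₁, B₂, QuadraticMap.polar, ← map_add, hgQ]
    rw [e] at hd
    refine ⟨d * (Disc.gram B₂ (Pi.basisFun F (Fin n))).det, ?_⟩
    rw [hd]
    ring
  · intro h
    have hS : ∀ Q : QuadraticForm F (Fin n → F), LinearMap.BilinForm.IsSymm (QuadraticMap.polarBilin Q) :=
      fun Q => ⟨fun x y => QuadClass.pol_comm Q x y⟩
    obtain ⟨e, he⟩ := Disc.exists_isometry h2 B₁ (hS Q₁) h₁ B₂ (hS Q₂) h₂ rfl _ _ h
    refine ⟨e, fun v => mul_left_cancel₀ h2 ?_⟩
    rw [← QuadClass.pol_self, ← QuadClass.pol_self]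
    exact he v v

end Cfsg.Agent.S2623
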