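import Cfsg.Statements.S2624
import Cfsg.Agent.Lib.Classical.QuadClass

set_option autoImplicit false
open Cfsg

namespace Cfsg.Agent.S2624

open Module Cfsg.Agent.Classical Cfsg.Agent.Classical.OrthForms Cfsg.Agent.Classical.OrthCount Cfsg.Agent.Forms Cfsg.Agent.Forms.PlusStd


/-- For a quadratic form Q on F^n with non-degenerate polar form, F finite and n ≥ 2 even, every non-zero scalar c is the multiplier of some similarity: there is an invertible linear map g with Q(g v) = c·Q(v) for all v. -/
theorem result {F : Type*} [Field F] [Fintype F] {n : ℕ} (hn : 2 ≤ n) (he : Even n) (Q : QuadraticForm F (Fin n → F)) (hQ : (QuadraticMap.polarBilin Q).Nondegenerate) (c : F) (hc : c ≠ 0) : ∃ g : (Fin n → F) ≃ₗ[F] (Fin n → F), ∀ v, Q (g v) = c * Q v := by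
  obtain ⟨m, rfl⟩ : ∃ m, n = 2 * m := ⟨n / 2, by rw [Nat.even_iff] at he; omega⟩
  have hcQ : (QuadraticMap.polarBilin (c • Q)).Nondegenerate := by
    have h : ∀ x y, QuadraticMap.polarBilin (c • Q) x y = c * QuadraticMap.polarBilin Q x y := fun x y => by
      simp [QuadraticMap.polarBilin_apply_apply, QuadraticMap.polar, smul_eq_mul]; ring
    exact ⟨fun x hx => hQ.1 x fun y => (mul_eq_zero.1 ((h x y).symm.trans (hx y))).resolve_left hc,
      fun y hy => hQ.2 y fun x => (mul_eq_zero.1 ((h x y).symm.trans (hy x))).resolve_left hc⟩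
  obtain ⟨e, he'⟩ := QuadClass.exists_isometry_of_zeros (c • Q) Q (Fintype.card_fin _)
    (Fintype.card_fin _) hcQ hQ (Nat.card_congr (Equiv.subtypeEquivRight fun v => by
      simp [hc]))
  exact ⟨e, fun v => by rw [he']; simp⟩

end Cfsg.Agent.S2624
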