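import Cfsg.Statements.S2625
import Cfsg.Agent.Lib.Classical.QuadClass
import Cfsg.Agent.Lib.Forms.Disc

set_option autoImplicit false
open Cfsg

namespace Cfsg.Agent.S2625

open Module Cfsg.Agent.Classical Cfsg.Agent.Classical.OrthForms Cfsg.Agent.Classical.OrthCount Cfsg.Agent.Forms Cfsg.Agent.Forms.PlusStd


/-- For a quadratic form Q on F^n with non-degenerate polar form, F finite and n odd (so |F| is odd), the multiplier of any similarity is a square: if g is an invertible linear map with Q(g v) = c·Q(v) for all v then c is a square. -/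
theorem result {F : Type*} [Field F] [Fintype F] {n : ℕ} (hn : Odd n) (Q : QuadraticForm F (Fin n → F)) (hQ : (QuadraticMap.polarBilin Q).Nondegenerate) (g : (Fin n → F) ≃ₗ[F] (Fin n → F)) (c : F) (hg : ∀ v, Q (g v) = c * Q v) : IsSquare c := by
  by_cases h2 : (2 : F) = 0
  · exact FiniteField.isSquare_of_char_two (by
      have : CharP F 2 := CharTwo.of_one_ne_zero_of_two_eq_zero one_ne_zero h2
      exact ringChar.eq F 2) c
  let B : LinearMap.BilinForm F (Fin n → F) := QuadraticMap.polarBilin Q
  obtain ⟨d, hd0, hd⟩ := Disc.det_gram_change B (Pi.basisFun F (Fin n)) ((Pi.basisFun F (Fin n)).map g)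
  have e : Disc.gram B ((Pi.basisFun F (Fin n)).map g) = c • Disc.gram B (Pi.basisFun F (Fin n)) := by
    ext i j
    simp [Disc.gram, B, QuadraticMap.polar, ← map_add, hg, mul_sub]
  rw [e, Matrix.det_smul, Fintype.card_fin] at hd
  have hcn : c ^ n = d * d := mul_right_cancel₀ (Disc.det_gram_ne_zero hQ _) hd
  obtain ⟨k, hk⟩ := hn
  have hc : c ≠ 0 := fun h => by
    rw [h, zero_pow (by omega)] at hcn
    exact hd0 (mul_self_eq_zero.1 hcn.symm)
  refine ⟨d / c ^ k, ?_⟩
  field_simp
  rw [hk] at hcn
  linear_combination hcn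

end Cfsg.Agent.S2625
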