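import Cfsg.Statements.S2626
import Mathlib

set_option autoImplicit false
open Cfsg

namespace Cfsg.Agent.S2626

/-- Block diagonal matrices as a monoid homomorphism. -/
def blockHom (F : Type*) [Field F] (k l : ℕ) :
    Matrix (Fin k) (Fin k) F × Matrix (Fin l) (Fin l) F →* Matrix (Fin k ⊕ Fin l) (Fin k ⊕ Fin l) F where
  toFun a := Matrix.fromBlocks a.1 0 0 a.2
  map_one' := Matrix.fromBlocks_one
  map_mul' a b := by simp [Matrix.fromBlocks_multiply]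

theorem block_mulVec {F : Type*} [Field F] {k l : ℕ} (a : Matrix (Fin k) (Fin k) F)
    (b : Matrix (Fin l) (Fin l) F) (v : Fin k ⊕ Fin l → F) :
    (Matrix.fromBlocks a 0 0 b).mulVec v =
      Sum.elim (a.mulVec (v ∘ Sum.inl)) (b.mulVec (v ∘ Sum.inr)) := by
  rw [Matrix.fromBlocks_mulVec]
  simp

/-- Ω of an orthogonal direct sum contains the product of the Ω's: for quadratic forms Q₁ on F^k and Q₂ on F^l with non-degenerate polar forms (F finite) and Q = Q₁ ⊕ Q₂ on F^(k+l), if g₁ lies in Ω(Q₁) and g₂ in Ω(Q₂) (commutator subgroups of the orthogonal groups) then the block-diagonal isometry diag(g₁, g₂) lies in Ω(Q). -/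
theorem result {F : Type*} [Field F] [Fintype F] {k l : ℕ} (Q₁ : QuadraticForm F (Fin k → F)) (Q₂ : QuadraticForm F (Fin l → F)) (h₁ : (QuadraticMap.polarBilin Q₁).Nondegenerate) (h₂ : (QuadraticMap.polarBilin Q₂).Nondegenerate) (g₁ : ↥(Cfsg.isometryGroup F ⇑Q₁)) (g₂ : ↥(Cfsg.isometryGroup F ⇑Q₂)) (hg₁ : g₁ ∈ Cfsg.Omega F ⇑Q₁) (hg₂ : g₂ ∈ Cfsg.Omega F ⇑Q₂) : ∃ g : ↥(Cfsg.isometryGroup F (fun v : Fin k ⊕ Fin l → F => Q₁ (v ∘ Sum.inl) + Q₂ (v ∘ Sum.inr))), g ∈ Cfsg.Omega F (fun v : Fin k ⊕ Fin l → F => Q₁ (v ∘ Sum.inl) + Q₂ (v ∘ Sum.inr)) ∧ ((g : Matrix.GeneralLinearGroup (Fin k ⊕ Fin l) F) : Matrix (Fin k ⊕ Fin l) (Fin k ⊕ Fin l) F) = Matrix.fromBlocks ((g₁ : Matrix.GeneralLinearGroup (Fin k) F) : Matrix (Fin k) (Fin k) F) 0 0 ((g₂ : Matrix.GeneralLinearGroup (Fin l) F) : Matrix (Fin l) (Fin l) F) := by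
  let P := fun v : Fin k ⊕ Fin l → F => Q₁ (v ∘ Sum.inl) + Q₂ (v ∘ Sum.inr)
  let e : Matrix.GeneralLinearGroup (Fin k) F × Matrix.GeneralLinearGroup (Fin l) F →*
      Matrix.GeneralLinearGroup (Fin k ⊕ Fin l) F :=
    (Units.map (blockHom F k l)).comp MulEquiv.prodUnits.symm.toMonoidHom
  have he : ∀ a : ↥(Cfsg.isometryGroup F ⇑Q₁) × ↥(Cfsg.isometryGroup F ⇑Q₂),
      e (a.1.1, a.2.1) ∈ Cfsg.isometryGroup F P := by
    intro a
    refine fun v _ => ?_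
    show P ((Matrix.fromBlocks (a.1.1 : Matrix _ _ F) 0 0 (a.2.1 : Matrix _ _ F)).mulVec v) = P v
    rw [block_mulVec]
    simp only [P, Sum.elim_comp_inl, Sum.elim_comp_inr]
    exact congrArg₂ (· + ·) (a.1.2 (v ∘ Sum.inl) (v ∘ Sum.inl)) (a.2.2 (v ∘ Sum.inr) (v ∘ Sum.inr))
  let ψ : ↥(Cfsg.isometryGroup F ⇑Q₁) × ↥(Cfsg.isometryGroup F ⇑Q₂) →*
      ↥(Cfsg.isometryGroup F P) :=
    MonoidHom.codRestrict (e.comp ((Cfsg.isometryGroup F ⇑Q₁).subtype.prodMap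
      (Cfsg.isometryGroup F ⇑Q₂).subtype)) _ he
  refine ⟨ψ (g₁, g₂), ?_, rfl⟩
  have hmem : (g₁, g₂) ∈ commutator (↥(Cfsg.isometryGroup F ⇑Q₁) × ↥(Cfsg.isometryGroup F ⇑Q₂)) := by
    rw [commutator_def, ← Subgroup.top_prod_top, Subgroup.commutator_prod_prod]
    exact ⟨hg₁, hg₂⟩
  have := Subgroup.mem_map_of_mem ψ hmem
  rw [commutator_def, Subgroup.map_commutator] at this
  exact Subgroup.commutator_mono le_top le_top this

end Cfsg.Agent.S2626
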