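import Cfsg.Statements.S2629
import Cfsg.Agent.Lib.Classical.OmegaPlus

set_option autoImplicit false
open Cfsg

namespace Cfsg.Agent.S2629

/-- For the hyperbolic form Σ x_i y_i on F^(2m) over a finite field of odd order (m ≥ 1), an isometry g preserves the class of the maximal totally singular subspace U₀ = {y = 0} (that is, m − dim(U₀ ∩ gU₀) is even) if and only if det g = 1: the stabiliser of each of the two classes of maximal totally singular subspaces is SO. -/
theorem result {F : Type*} [Field F] [Fintype F] (h2 : (2 : F) ≠ 0) {m : ℕ} (hm : 1 ≤ m) (g : ↥(Cfsg.isometryGroup F (Cfsg.quadFormPlus m F))) : Even (m - Module.finrank F ↥(LinearMap.ker (LinearMap.funLeft F F (Sum.inr : Fin m → Fin m ⊕ Fin m)) ⊓ (LinearMap.ker (LinearMap.funLeft F F (Sum.inr : Fin m → Fin m ⊕ Fin m))).map (Matrix.mulVecLin ((g : Matrix.GeneralLinearGroup (Fin m ⊕ Fin m) F) : Matrix (Fin m ⊕ Fin m) (Fin m ⊕ Fin m) F)))) ↔ ((g : Matrix.GeneralLinearGroup (Fin m ⊕ Fin m) F) : Matrix (Fin m ⊕ Fin m) (Fin m ⊕ Fin m) F).det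 = 1 := by
  have h' : Fintype.card F ≠ 2 ∨ Fintype.card (Fin m ⊕ Fin m) ≠ 4 := Or.inl fun hh => h2 (by
    have : (Fintype.card F : F) = 0 := FiniteField.cast_card_eq_zero F
    rw [hh] at this
    exact_mod_cast this)
  revert g
  rw [← Classical.OrthForms.plusQ_eq]
  intro g
  have hpar := Classical.OmegaScale.par_eq_neg_one_pow (Forms.PlusStd.plusQ_nondeg F m) h'
    (m := m) (by simp [two_mul]) Classical.OmegaPlus.U0_singular Classical.OmegaPlus.finrank_U0 g
  have hkey : ∀ k : ℕ, Even k ↔ (-1 : ℤˣ) ^ k = 1 := fun k => by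
    rcases Nat.even_or_odd k with he | ho
    · exact iff_of_true he he.neg_one_pow
    · rw [ho.neg_one_pow]
      exact iff_of_false (Nat.not_even_iff_odd.2 ho) (by decide)
  show Even (m - Module.finrank F ↥(Classical.OmegaPlus.U0 ⊓
    (Classical.OmegaPlus.U0).map (Forms.Reflections.act g))) ↔ _
  rw [hkey, ← hpar]
  rw [Classical.OmegaCrit.det_eq_par (Forms.PlusStd.plusQ_nondeg F m) h' g]
  rcases Int.units_eq_one_or (Forms.Reflections.par g) with e | e <;> rw [e]
  · simp
  · simp only [Units.val_neg, Units.val_one, Int.cast_neg, Int.cast_one]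
    exact iff_of_false (by decide) fun hc => h2 (by linear_combination -hc)

end Cfsg.Agent.S2629
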