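import Cfsg.Statements.S2630
import Cfsg.Agent.Lib.Classical.OmegaPlus

set_option autoImplicit false
open Cfsg

namespace Cfsg.Agent.S2630

/-- For the hyperbolic form Σ x_i y_i on F^(2m) over a finite field of characteristic two (m ≥ 1, excluding m = 2 over the field of two elements), an isometry g preserves the class of the maximal totally singular subspace U₀ = {y = 0} (m − dim(U₀ ∩ gU₀) even) if and only if g lies in Ω (the commutator subgroup of the orthogonal group): the stabiliser of each class is Ω. -/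
theorem result {F : Type*} [Field F] [Fintype F] [CharP F 2] {m : ℕ} (hm : 1 ≤ m) (h : Fintype.card F ≠ 2 ∨ m ≠ 2) (g : ↥(Cfsg.isometryGroup F (Cfsg.quadFormPlus m F))) : Even (m - Module.finrank F ↥(LinearMap.ker (LinearMap.funLeft F F (Sum.inr : Fin m → Fin m ⊕ Fin m)) ⊓ (LinearMap.ker (LinearMap.funLeft F F (Sum.inr : Fin m → Fin m ⊕ Fin m))).map (Matrix.mulVecLin ((g : Matrix.GeneralLinearGroup (Fin m ⊕ Fin m) F) : Matrix (Fin m ⊕ Fin m) (Fin m ⊕ Fin m) F)))) ↔ g ∈ Cfsg.Omega F (Cfsg.quadFormPlus m F) := by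
  have h' : Fintype.card F ≠ 2 ∨ Fintype.card (Fin m ⊕ Fin m) ≠ 4 :=
    h.imp_right fun hm2 => by simp; omega
  revert g
  rw [← Classical.OrthForms.plusQ_eq]
  intro g
  have hpar := Classical.OmegaScale.par_eq_neg_one_pow (Forms.PlusStd.plusQ_nondeg F m) h'
    (m := m) (by simp [two_mul]) Classical.OmegaPlus.U0_singular Classical.OmegaPlus.finrank_U0 g
  have hkey : ∀ k : ℕ, Even k ↔ (-1 : ℤˣ) ^ k = 1 := fun k => by
    rcases Nat.even_or_odd k with he | ho
    · exact iff_of_true he he.neg_one_pow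
    · rw [ho.neg_one_pow]
      exact iff_of_false (Nat.not_even_iff_odd.2 ho) (by decide)
  show Even (m - Module.finrank F ↥(Classical.OmegaPlus.U0 ⊓
    (Classical.OmegaPlus.U0).map (Forms.Reflections.act g))) ↔ _
  rw [hkey, ← hpar]
  rw [← Classical.OmegaCrit.mem_omega_iff_par (Forms.PlusStd.plusQ_nondeg F m) h'
    CharTwo.two_eq_zero g]

end Cfsg.Agent.S2630
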