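import Cfsg.Statements.S2631
import Cfsg.Agent.Lib.Classical.OmegaPlus

set_option autoImplicit false
open Cfsg

namespace Cfsg.Agent.S2631

/-- For the hyperbolic form Σ x_i y_i on F^(2m) over a finite field (m ≥ 1, excluding m = 2 over the field of two elements), Ω (the commutator subgroup of the orthogonal group) acts transitively on each of the two classes of maximal totally singular subspaces: if U and W are m-dimensional totally singular subspaces with m − dim(U ∩ W) even, some element of Ω carries U to W. -/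
theorem result {F : Type*} [Field F] [Fintype F] {m : ℕ} (hm : 1 ≤ m) (h : Fintype.card F ≠ 2 ∨ m ≠ 2) (U W : Submodule F (Fin m ⊕ Fin m → F)) (hU : Module.finrank F U = m) (hW : Module.finrank F W = m) (hU0 : ∀ u ∈ U, Cfsg.quadFormPlus m F u = 0) (hW0 : ∀ w ∈ W, Cfsg.quadFormPlus m F w = 0) (he : Even (m - Module.finrank F ↥(U ⊓ W))) : ∃ g : ↥(Cfsg.isometryGroup F (Cfsg.quadFormPlus m F)), g ∈ Cfsg.Omega F (Cfsg.quadFormPlus m F) ∧ U.map (Matrix.mulVecLin ((g : Matrix.GeneralLinearGroup (Fin m ⊕ Fin m) F) : Matrix (Fin m ⊕ Fin m) (Fin m ⊕ Fin m) F)) = W := by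
  have h' : Fintype.card F ≠ 2 ∨ Fintype.card (Fin m ⊕ Fin m) ≠ 4 :=
    h.imp_right fun hm2 => by simp; omega
  rw [← Classical.OrthForms.plusQ_eq]
  simp only [← Classical.OrthForms.plusQ_eq] at hU0 hW0
  open Classical.OmegaCrit Classical.OmegaScale Forms.QuadStd Forms.Reflections in
  have hQ := Forms.PlusStd.plusQ_nondeg F m
  obtain ⟨e⟩ : Nonempty (↥U ≃ₗ[F] ↥W) := FiniteDimensional.nonempty_linearEquiv_of_finrank_eq
    (hU.trans hW.symm)
  obtain ⟨f, hf, hfx⟩ := Forms.Witt.witt_quad (Forms.PlusStd.plusQ F m) hQ U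
    (W.subtype ∘ₗ e.toLinearMap) (W.injective_subtype.comp e.injective)
    (fun x => (hW0 _ (e x).2).trans (hU0 _ x.2).symm)
  set g := Forms.QuadStd.isoOfEquiv _ f hf with hg
  have hUg : U.map (Forms.Reflections.act g) = W := by
    ext y
    constructor
    · rintro ⟨x, hx, rfl⟩
      rw [Forms.Reflections.act_apply, Forms.QuadStd.isoOfEquiv_mulVec, hfx ⟨x, hx⟩]
      exact (e ⟨x, hx⟩).2
    · intro hy
      refine ⟨(e.symm ⟨y, hy⟩ : U), (e.symm ⟨y, hy⟩).2, ?_⟩
      rw [Forms.Reflections.act_apply, Forms.QuadStd.isoOfEquiv_mulVec, hfx]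
      simp
  have hpar := Classical.OmegaScale.par_eq_neg_one_pow hQ h' (m := m) (by simp [two_mul]) hU0 hU g
  rw [hUg, he.neg_one_pow] at hpar
  suffices H : ∃ k, W.map (Forms.Reflections.act k) = W ∧
      Classical.OmegaCrit.theta hQ h' (k * g) = 1 by
    obtain ⟨k, hk, hkt⟩ := H
    exact ⟨k * g, (Classical.OmegaCrit.mem_omega_iff hQ h' _).2 hkt,
      (Classical.OmegaScale.map_map_act k g U).trans (by rw [hUg, hk])⟩
  have hfst : (Classical.OmegaCrit.theta hQ h' g).1 = 1 := hpar
  rcases Int.units_eq_one_or (Classical.OmegaCrit.theta hQ h' g).2 with hs | hs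
  · exact ⟨1, by rw [show Forms.Reflections.act (1 : ↥(Cfsg.isometryGroup F ⇑(Forms.PlusStd.plusQ F m))) =
      LinearMap.id from LinearMap.ext Forms.Reflections.act_one, Submodule.map_id],
      by rw [one_mul]; exact Prod.ext hfst hs⟩
  · have h2 : (2 : F) ≠ 0 := fun h2 => by
      change Classical.OmegaCrit.sgn g = -1 at hs
      rw [Classical.OmegaCrit.sgn, if_pos h2] at hs
      exact absurd hs (by decide)
    obtain ⟨c, hc, hchi⟩ := Classical.OmegaCrit.exists_nonsquare h2
    obtain ⟨k, hk, hkt⟩ := Classical.OmegaScale.exists_scale hQ h' hW0 (fun hb => by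
      rw [hb, finrank_bot] at hW; omega) hc
    exact ⟨k, hk, by rw [map_mul, hkt, hchi]; exact Prod.ext (by simp [hfst]) (by simp [hs])⟩

end Cfsg.Agent.S2631
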