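import Cfsg.Statements.S2635
import Cfsg.Agent.Lib.Classical.OmegaCrit

set_option autoImplicit false
open Cfsg

namespace Cfsg.Agent.S2635

/-- Over a finite field of characteristic two, for a quadratic form Q on F^n with non-degenerate polar form, n ≥ 2, other than dimension 4 over the field of two elements, Ω (the commutator subgroup of the orthogonal group) is exactly the subgroup generated by the products of two reflections (orthogonal transvections) x ↦ x − Q(v)⁻¹ f(x, v) v, Q(v) ≠ 0: the products of an even number of reflections. -/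
theorem result {F : Type*} [Field F] [Fintype F] [CharP F 2] {n : ℕ} (hn : 2 ≤ n) (h : Fintype.card F ≠ 2 ∨ n ≠ 4) (Q : QuadraticForm F (Fin n → F)) (hQ : (QuadraticMap.polarBilin Q).Nondegenerate) : Cfsg.Omega F ⇑Q = Subgroup.closure {g : ↥(Cfsg.isometryGroup F ⇑Q) | ∃ u v : Fin n → F, Q u ≠ 0 ∧ Q v ≠ 0 ∧ ((g : Matrix.GeneralLinearGroup (Fin n) F) : Matrix (Fin n) (Fin n) F) = Cfsg.reflectionMatrix ⇑Q u * Cfsg.reflectionMatrix ⇑Q v} := by
  open Forms.QuadStd Forms.Reflections Classical.OmegaCrit in
  have key : ∀ g : ↥(Cfsg.isometryGroup F ⇑Q), g ∈ Cfsg.Omega F ⇑Q ↔ par g = 1 :=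
    fun g => mem_omega_iff_par hQ (by simpa using h) CharTwo.two_eq_zero g
  open Forms.QuadStd Forms.Reflections Classical.OmegaCrit in
  refine le_antisymm (fun g hg => ?_) ((Subgroup.closure_le _).2 ?_)
  · open Forms.QuadStd Forms.Reflections Classical.OmegaCrit in
    have h' : Fintype.card F ≠ 2 ∨ Fintype.card (Fin n) ≠ 4 := by simpa using h
    open Forms.QuadStd Forms.Reflections Classical.OmegaCrit in
    obtain ⟨vs, hvs, rfl⟩ := exists_list hQ h' g
    open Forms.QuadStd Forms.Reflections Classical.OmegaCrit in
    have he : Even vs.length := by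
      have := (theta_fst hQ h' _).trans ((key _).1 hg)
      rw [theta_list hQ h' vs hvs] at this
      by_contra hne
      rw [(Nat.not_even_iff_odd.1 hne).neg_one_pow] at this
      exact absurd (show (-1 : ℤˣ) = 1 from this) (by decide)
    clear hg
    induction vs using List.twoStepInduction with
    | nil => simp
    | singleton v => exact absurd he (by simp)
    | cons_cons u v vs ih _ =>
      simp only [List.mem_cons, forall_eq_or_imp] at hvs
      rw [List.map_cons, List.map_cons, List.prod_cons, List.prod_cons, ← mul_assoc]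
      exact mul_mem (Subgroup.subset_closure ⟨u, v, hvs.1, hvs.2.1, rfl⟩)
        (ih hvs.2.2 (by simpa [Nat.even_add_one] using he))
  · open Forms.QuadStd Forms.Reflections Classical.OmegaCrit in
    rintro g ⟨u, v, hu, hv, hg⟩
    open Forms.QuadStd Forms.Reflections Classical.OmegaCrit in
    rw [show g = reflect Q u * reflect Q v from Subtype.ext (Units.ext hg), SetLike.mem_coe, key,
      par_mul_all hQ (by simpa using h), par_reflect hQ hu, par_reflect hQ hv]
    rfl

end Cfsg.Agent.S2635
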