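import Cfsg.Statements.S2636
-- import your own Cfsg.Agent.* helpers here

set_option autoImplicit false
set_option maxHeartbeats 800000
open Cfsg

namespace Cfsg.Agent.S2636

/-- The matrices mapped to a scalar multiple by `σ` are the scalar multiples of the fixed ones. -/
lemma card_mul {F : Type*} [Field F] [Fintype F] (σ : F ≃+* F) (K : Subfield F)
    (hK : ∀ x, x ∈ K ↔ σ x = x) {n : ℕ} (hn : 1 ≤ n) :
    Nat.card {g : GL (Fin n) F // ∃ c : F, c ≠ 0 ∧
      (g : Matrix (Fin n) (Fin n) F).map σ = c • (g : Matrix (Fin n) (Fin n) F)} * Nat.card Kˣ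
      = Nat.card Fˣ * Nat.card (GL (Fin n) K) := by
  classical
  set S := {g : GL (Fin n) F // ∃ c : F, c ≠ 0 ∧
      (g : Matrix (Fin n) (Fin n) F).map σ = c • (g : Matrix (Fin n) (Fin n) F)}
  have hent : ∀ g : S, ∃ ij : Fin n × Fin n,
      (g.1 : Matrix (Fin n) (Fin n) F) ij.1 ij.2 ≠ 0 := by
    intro g
    by_contra hne
    push_neg at hne
    have : Nonempty (Fin n) := ⟨⟨0, hn⟩⟩
    exact g.1.ne_zero (Matrix.ext fun i j => hne (i, j))
  choose e he using hent
  let a : S → F := fun g => (g.1 : Matrix (Fin n) (Fin n) F) (e g).1 (e g).2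
  have hfix : ∀ (g : S) (i j : Fin n),
      (a g)⁻¹ * (g.1 : Matrix (Fin n) (Fin n) F) i j ∈ K := by
    intro g i j
    obtain ⟨c, hc, hcg⟩ := g.2
    have h1 : ∀ i j, σ ((g.1 : Matrix (Fin n) (Fin n) F) i j)
        = c * (g.1 : Matrix (Fin n) (Fin n) F) i j := by
      intro i j
      have := congrFun (congrFun hcg i) j
      simpa using this
    simp only [hK, a, map_mul, map_inv₀, h1]
    rw [mul_inv, mul_mul_mul_comm, inv_mul_cancel₀ hc, one_mul]
  let h : S → Matrix (Fin n) (Fin n) K := fun g i j =>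
    ⟨(a g)⁻¹ * (g.1 : Matrix (Fin n) (Fin n) F) i j, hfix g i j⟩
  have hmap : ∀ g : S, (h g).map K.subtype = (a g)⁻¹ • (g.1 : Matrix (Fin n) (Fin n) F) :=
    fun g => Matrix.ext fun i j => rfl
  have hunit : ∀ g : S, IsUnit (h g) := by
    intro g
    rw [Matrix.isUnit_iff_isUnit_det, isUnit_iff_ne_zero]
    intro h0
    have h2 : K.subtype (h g).det = ((a g)⁻¹ • (g.1 : Matrix (Fin n) (Fin n) F)).det := by
      rw [RingHom.map_det, RingHom.mapMatrix_apply, hmap]
    rw [h0, map_zero, Matrix.det_smul] at h2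
    rcases mul_eq_zero.1 h2.symm with h3 | h3
    · exact inv_ne_zero (he g) (eq_zero_of_pow_eq_zero h3)
    · exact g.1.det_ne_zero h3
  let Ψ : S × Kˣ → Fˣ × GL (Fin n) K := fun p =>
    (Units.mk0 (a p.1) (he p.1) * Units.map K.subtype.toMonoidHom p.2,
      p.2⁻¹ • (hunit p.1).unit)
  have hu2 : ∀ (g : S) (i j : Fin n), (((hunit g).unit : Matrix (Fin n) (Fin n) K) i j : F)
      = (a g)⁻¹ * (g.1 : Matrix (Fin n) (Fin n) F) i j := fun g i j => by
    rw [IsUnit.unit_spec]
  have hprod : ∀ p : S × Kˣ,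
      ((Ψ p).1 : F) • ((Ψ p).2 : Matrix (Fin n) (Fin n) K).map K.subtype
        = (p.1.1 : Matrix (Fin n) (Fin n) F) := by
    intro p
    ext i j
    have ht : ((p.2 : K) : F) ≠ 0 := by simp
    have := he p.1
    simp only [Ψ, Units.val_mul, Units.coe_map, RingHom.toMonoidHom_eq_coe, MonoidHom.coe_coe,
      Subfield.coe_subtype, Units.val_mk0, Units.val_smul, IsUnit.unit_spec, Matrix.smul_apply,
      Matrix.map_apply, Units.smul_def, smul_eq_mul, Subfield.coe_mul, Units.val_inv_eq_inv_val,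
      Subfield.coe_inv]
    field_simp
    exact mul_inv_cancel_left₀ (he p.1) _
  have hinj : Function.Injective Ψ := by
    intro p p' hpp
    have hg : p.1 = p'.1 := Subtype.ext (Units.ext (by rw [← hprod p, ← hprod p', hpp]))
    have hf := congrArg Prod.fst hpp
    simp only [Ψ, hg] at hf
    have ht : p.2 = p'.2 :=
      Units.map_injective (f := K.subtype.toMonoidHom) Subtype.val_injective (mul_left_cancel hf)
    exact Prod.ext hg ht
  have hsurj : Function.Surjective Ψ := by
    rintro ⟨b, k⟩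
    have hku : IsUnit ((b : F) • (k : Matrix (Fin n) (Fin n) K).map K.subtype) := by
      rw [Matrix.isUnit_iff_isUnit_det, Matrix.det_smul, ← RingHom.mapMatrix_apply,
        ← RingHom.map_det, isUnit_iff_ne_zero]
      exact mul_ne_zero (pow_ne_zero _ b.ne_zero)
        (by simpa using k.det_ne_zero)
    have hkc : ∃ c : F, c ≠ 0 ∧ (hku.unit : Matrix (Fin n) (Fin n) F).map σ
        = c • (hku.unit : Matrix (Fin n) (Fin n) F) := by
      refine ⟨σ b / b, div_ne_zero (by simp) b.ne_zero, Matrix.ext fun i j => ?_⟩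
      have hfx : σ ((k : Matrix (Fin n) (Fin n) K) i j : F)
          = ((k : Matrix (Fin n) (Fin n) K) i j : F) := (hK _).1 (SetLike.coe_mem _)
      simp only [IsUnit.unit_spec, Matrix.map_apply, Matrix.smul_apply, smul_eq_mul, map_mul,
        Subfield.coe_subtype, hfx]
      have := b.ne_zero
      field_simp
    set g : S := ⟨hku.unit, hkc⟩ with hg
    have hag : a g = (b : F) * ((k : Matrix (Fin n) (Fin n) K) (e g).1 (e g).2 : F) := by
      simp [a, hg]
    have hk0 : (k : Matrix (Fin n) (Fin n) K) (e g).1 (e g).2 ≠ 0 := by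
      intro h0
      exact he g (show a g = 0 by rw [hag, h0]; simp)
    refine ⟨(g, (Units.mk0 _ hk0)⁻¹), ?_⟩
    have h1 : (Ψ (g, (Units.mk0 _ hk0)⁻¹)).1 = b := by
      apply Units.ext
      have hk0' : ((k : Matrix (Fin n) (Fin n) K) (e g).1 (e g).2 : F) ≠ 0 := by simpa using hk0
      simp [Ψ, hag]
      field_simp
    refine Prod.ext h1 (Units.ext (Matrix.map_injective K.subtype.injective ?_))
    have h2 := hprod (g, (Units.mk0 _ hk0)⁻¹)
    rw [h1] at h2
    simp only [hg, IsUnit.unit_spec] at h2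
    exact smul_right_injective _ b.ne_zero h2
  have := Nat.card_congr (Equiv.ofBijective Ψ ⟨hinj, hsurj⟩)
  rwa [Nat.card_prod, Nat.card_prod] at this

/-- Centraliser of a field automorphism in PGL_n: let F be the field with q = q₀^r elements, σ a field automorphism of F of prime order r (so its fixed field has q₀ elements) and n ≥ 1. The invertible matrices g whose entrywise image under σ is a scalar multiple of g — those whose coset modulo scalars is fixed by σ — number (q − 1)/(q₀ − 1) · |GL_n(q₀)|; equivalently the centraliser in PGL_n(q) of the induced automorphism has the order of PGL_n(q₀). -/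
theorem result {F : Type*} [Field F] [Fintype F] {q₀ r n : ℕ} (hr : r.Prime) (hn : 1 ≤ n) (hF : Fintype.card F = q₀ ^ r) (σ : F ≃+* F) (hσ : orderOf σ = r) : Nat.card {g : GL (Fin n) F // ∃ c : F, c ≠ 0 ∧ (g : Matrix (Fin n) (Fin n) F).map σ = c • (g : Matrix (Fin n) (Fin n) F)} = (q₀ ^ r - 1) / (q₀ - 1) * ∏ i : Fin n, (q₀ ^ n - q₀ ^ (i : ℕ)) := by
  classical
  let K : Subfield F := FixedPoints.subfield (Subgroup.zpowers σ) F
  have hK : ∀ x, x ∈ K ↔ σ x = x := by
    intro x
    refine ⟨fun h => h ⟨σ, Subgroup.mem_zpowers σ⟩, fun h => ?_⟩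
    rintro ⟨g, hg⟩
    have : g ∈ MulAction.stabilizer (F ≃+* F) x :=
      (Subgroup.zpowers_le (H := MulAction.stabilizer (F ≃+* F) x)).2 h hg
    exact this
  have : Finite (F ≃+* F) := Finite.of_injective (fun e => (e : F → F)) DFunLike.coe_injective
  have : Fintype (Subgroup.zpowers σ) := Fintype.ofFinite _
  have hfr : Module.finrank K F = r := by
    rw [FixedPoints.finrank_eq_card, ← Nat.card_eq_fintype_card, Nat.card_zpowers, hσ]
  have hKcard : Nat.card K = q₀ := by
    have h := Module.natCard_eq_pow_finrank (K := K) (V := F)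
    rw [hfr, Nat.card_eq_fintype_card, hF] at h
    exact (Nat.pow_left_injective hr.ne_zero h).symm
  have h2 : 2 ≤ q₀ := by
    rw [← hKcard]
    exact Finite.one_lt_card
  have hm := card_mul σ K hK hn
  have hFc : Nat.card F = q₀ ^ r := by rw [Nat.card_eq_fintype_card, hF]
  rw [Nat.card_units, Nat.card_units, hKcard, Matrix.card_GL_field, hFc,
    ← Nat.card_eq_fintype_card (α := K), hKcard] at hm
  obtain ⟨d, hd⟩ : q₀ - 1 ∣ q₀ ^ r - 1 := by simpa using Nat.sub_dvd_pow_sub_pow q₀ 1 r
  rw [hd, Nat.mul_div_cancel_left _ (by omega)]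
  refine Nat.eq_of_mul_eq_mul_right (show 0 < q₀ - 1 by omega) ?_
  rw [hd] at hm
  rw [hm]
  ring

end Cfsg.Agent.S2636
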