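import Cfsg.Statements.S2638
-- import your own Cfsg.Agent.* helpers here

set_option autoImplicit false
set_option maxHeartbeats 800000
open Cfsg
open Polynomial

namespace Cfsg.Agent.S2638

/-- An irreducible factor `g` of the cyclotomic sum with `g(M)` singular. -/
lemma exists_factor {F : Type*} [Field F] {n r : ℕ} (M : Matrix (Fin n) (Fin n) F) (hM : M ≠ 1)
    (hr : M ^ r = 1) (hr0 : r ≠ 0) :
    ∃ g : F[X], Irreducible g ∧ g ∣ ∑ i ∈ Finset.range r, (X : F[X]) ^ i ∧
      ¬ IsUnit (aeval M g) := by
  set P : F[X] := ∑ i ∈ Finset.range r, (X : F[X]) ^ i with hP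
  have hPu : ¬ IsUnit (aeval M P) := by
    intro hu
    apply hM
    have h : aeval M P * (M - 1) = 0 := by
      rw [hP, map_sum]
      simp only [map_pow, aeval_X]
      rw [geom_sum_mul, hr, sub_self]
    exact sub_eq_zero.1 (hu.mul_right_eq_zero.1 h)
  have hP0 : P ≠ 0 := by
    intro h0
    have h : P.coeff 0 = 0 := by rw [h0, coeff_zero]
    rw [hP, finset_sum_coeff, Finset.sum_eq_single 0] at h
    · simp at h
    · intro i _ hi
      simp [coeff_X_pow, Ne.symm hi]
    · intro h'
      exact absurd (Finset.mem_range.2 (Nat.pos_of_ne_zero hr0)) h'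
  by_contra hne
  push_neg at hne
  apply hPu
  obtain ⟨m, hm, u, hu⟩ := WfDvdMonoid.exists_factors P hP0
  rw [← hu, map_mul]
  refine IsUnit.mul ?_ (u.isUnit.map (aeval M))
  have key : ∀ s : Multiset F[X], (∀ g ∈ s, IsUnit (aeval M g)) → IsUnit (aeval M s.prod) := by
    intro s
    induction s using Multiset.induction with
    | empty => simp
    | cons a s ih =>
      intro h
      rw [Multiset.prod_cons, map_mul]
      exact (h a (Multiset.mem_cons_self a s)).mul
        (ih fun g hg => h g (Multiset.mem_cons_of_mem hg))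
  exact key _ fun g hg => hne g (hm g hg)
    (dvd_trans (Multiset.dvd_prod hg) ⟨(u : F[X]), hu.symm⟩)

/-- The centraliser of a matrix that generates a field of full degree. -/
lemma centralizer_core.{u} {F : Type u} [Field F] [Fintype F] {p q : ℕ} [Fact p.Prime] [CharP F p]
    (hF : Fintype.card F = q) {n r : ℕ} (hn : 1 ≤ n) (hr : r.Prime) (hrp : r ≠ p)
    (hi : orderOf (q : ZMod r) = n) (x : GL (Fin n) F) (hx : orderOf x = r) :
    ∃ (K : Type u) (_ : Field K) (_ : Finite K), Nat.card K = q ^ n ∧
      Nonempty (Kˣ ≃* ↥(Subgroup.centralizer ({x} : Set (GL (Fin n) F)))) := by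
  have : Fact r.Prime := ⟨hr⟩
  set M : Matrix (Fin n) (Fin n) F := (x : Matrix (Fin n) (Fin n) F) with hM
  have hMr : M ^ r = 1 := by
    rw [hM, ← Units.val_pow_eq_pow_val, ← hx, pow_orderOf_eq_one, Units.val_one]
  have hM1 : M ≠ 1 := by
    intro h
    have : x = 1 := Units.ext h
    rw [this, orderOf_one] at hx
    exact hr.ne_one hx.symm
  obtain ⟨g, hg, hgP, hgu⟩ := exists_factor M hM1 hMr hr.pos.ne'
  have : Fact (Irreducible g) := ⟨hg⟩
  have : Module.Finite F (AdjoinRoot g) := (AdjoinRoot.powerBasis hg.ne_zero).finite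
  have hfinK : Finite (AdjoinRoot g) := Module.finite_of_finite F
  set d : ℕ := Module.finrank F (AdjoinRoot g) with hd
  have hd0 : 0 < d := Module.finrank_pos
  have hcard : Nat.card (AdjoinRoot g) = q ^ d := by
    rw [Module.natCard_eq_pow_finrank (K := F), Nat.card_eq_fintype_card, hF]
  -- `n ∣ d`
  have hnd : n ∣ d := by
    have hα : (∑ i ∈ Finset.range r, (AdjoinRoot.root g) ^ i) = 0 := by
      have h : AdjoinRoot.mk g (∑ i ∈ Finset.range r, (X : F[X]) ^ i) = 0 :=
        AdjoinRoot.mk_eq_zero.2 hgP
      simpa [map_sum, map_pow] using h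
    have hr0 : ((r : ℕ) : AdjoinRoot g) ≠ 0 := by
      have : CharP (AdjoinRoot g) p :=
        charP_of_injective_algebraMap (algebraMap F (AdjoinRoot g)).injective p
      intro h0
      exact hrp ((Nat.prime_dvd_prime_iff_eq Fact.out hr).1
        ((CharP.cast_eq_zero_iff (AdjoinRoot g) p r).1 h0)).symm
    have hαr : (AdjoinRoot.root g) ^ r = 1 := by
      have := geom_sum_mul (AdjoinRoot.root g) r
      rw [hα, zero_mul] at this
      exact sub_eq_zero.1 this.symm
    have hα1 : AdjoinRoot.root g ≠ 1 := by
      intro h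
      rw [h] at hα
      simp only [one_pow, Finset.sum_const, Finset.card_range, nsmul_one] at hα
      exact hr0 hα
    have hα0 : AdjoinRoot.root g ≠ 0 := by
      intro h
      rw [h, zero_pow hr.pos.ne'] at hαr
      exact zero_ne_one hαr
    have hord : orderOf (Units.mk0 _ hα0) = r :=
      orderOf_eq_prime (Units.ext (by simpa using hαr))
        (fun h => hα1 (by simpa using congrArg Units.val h))
    have hdvd : r ∣ q ^ d - 1 := by
      rw [← hcard, ← Nat.card_units]
      rw [← hord]
      exact orderOf_dvd_natCard _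
    rw [← hi, orderOf_dvd_iff_pow_eq_one]
    have h1 : 1 ≤ q ^ d := Nat.one_le_pow _ _ (hF ▸ Fintype.card_pos)
    have := (CharP.cast_eq_zero_iff (ZMod r) r (q ^ d - 1)).2 hdvd
    rw [Nat.cast_sub h1, Nat.cast_pow, Nat.cast_one, sub_eq_zero] at this
    exact this
  -- a vector killed by `g(M)`
  have hdet : (aeval M g).det = 0 := by
    by_contra h
    exact hgu ((Matrix.isUnit_iff_isUnit_det _).2 (Ne.isUnit h))
  obtain ⟨v, hv0, hv⟩ := Matrix.exists_mulVec_eq_zero_iff.2 hdet
  let T : F[X] →ₗ[F] (Fin n → F) :=
    { toFun := fun f => (aeval M f).mulVec v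
      map_add' := fun a b => by rw [map_add, Matrix.add_mulVec]
      map_smul' := fun c a => by simp [Matrix.smul_mulVec] }
  have hTker : ∀ f : F[X], T f = 0 ↔ g ∣ f := by
    intro f
    refine ⟨fun h => ?_, fun ⟨c, hc⟩ => ?_⟩
    · by_contra hnd'
      obtain ⟨a, b, hab⟩ := (hg.coprime_iff_not_dvd.2 hnd')
      apply hv0
      have h' : T (a * g + b * f) = v := by rw [hab]; simp [T]
      rw [map_add] at h'
      simp only [T, LinearMap.coe_mk, AddHom.coe_mk, map_mul, ← Matrix.mulVec_mulVec] at h' h
      rw [hv, h, Matrix.mulVec_zero, Matrix.mulVec_zero, add_zero] at h'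
      exact h'.symm
    · subst hc
      simp only [T, LinearMap.coe_mk, AddHom.coe_mk, mul_comm g, map_mul,
        ← Matrix.mulVec_mulVec, hv, Matrix.mulVec_zero]
  let Tq : AdjoinRoot g →ₗ[F] (Fin n → F) :=
    { toFun := Quotient.lift (fun f => T f) (by
        intro a b hab
        have : g ∣ a - b := by
          have hmem : a - b ∈ (Ideal.span {g} : Ideal F[X]) :=
            (Submodule.quotientRel_def _).1 hab
          exact Ideal.mem_span_singleton.1 hmem
        have := (hTker _).2 this
        rw [map_sub, sub_eq_zero] at this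
        exact this)
      map_add' := fun a b => by
        induction a using AdjoinRoot.induction_on with
        | ih a =>
          induction b using AdjoinRoot.induction_on with
          | ih b =>
            rw [← map_add]
            exact T.map_add a b
      map_smul' := fun c a => by
        induction a using AdjoinRoot.induction_on with
        | ih a =>
          rw [AdjoinRoot.smul_mk]
          exact T.map_smul c a }
  have hTq : ∀ f, Tq (AdjoinRoot.mk g f) = T f := fun f => rfl
  have hTinj : Function.Injective Tq := by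
    rw [injective_iff_map_eq_zero]
    intro a
    induction a using AdjoinRoot.induction_on with
    | ih a =>
      intro ha
      rw [hTq, hTker] at ha
      exact AdjoinRoot.mk_eq_zero.2 ha
  have hdn : d = n := by
    have h1 : d ≤ n := by
      have := LinearMap.finrank_le_finrank_of_injective hTinj
      simpa using this
    exact le_antisymm h1 (Nat.le_of_dvd hd0 hnd)
  have hTsurj : Function.Surjective Tq :=
    (LinearMap.injective_iff_surjective_of_finrank_eq_finrank (by simp [← hd, hdn])).1 hTinj
  have hTs : ∀ w : Fin n → F, ∃ f : F[X], (aeval M f).mulVec v = w := by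
    intro w
    obtain ⟨a, rfl⟩ := hTsurj w
    obtain ⟨f, rfl⟩ := AdjoinRoot.mk_surjective a
    exact ⟨f, (hTq f).symm⟩
  have hgM : aeval M g = 0 := by
    apply Matrix.ext_of_mulVec_single
    intro i
    obtain ⟨f, hf⟩ := hTs (Pi.single i 1)
    rw [← hf, Matrix.mulVec_mulVec, ← map_mul, mul_comm, map_mul, ← Matrix.mulVec_mulVec, hv,
      Matrix.mulVec_zero, Matrix.zero_mulVec]
  let φ : AdjoinRoot g →+* Matrix (Fin n) (Fin n) F :=
    Ideal.Quotient.lift _ (aeval M : F[X] →ₐ[F] _).toRingHom (by
      intro a ha
      obtain ⟨c, rfl⟩ := Ideal.mem_span_singleton.1 ha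
      show aeval M (g * c) = 0
      rw [map_mul, hgM, zero_mul])
  have hφ : ∀ f, φ (AdjoinRoot.mk g f) = aeval M f := fun f => rfl
  have hne : Nonempty (Fin n) := ⟨⟨0, hn⟩⟩
  have hφinj : Function.Injective φ := RingHom.injective φ
  have hroot : φ (AdjoinRoot.root g) = M := by
    rw [← AdjoinRoot.mk_X, hφ, aeval_X]
  let ψ : (AdjoinRoot g)ˣ →* GL (Fin n) F := Units.map φ.toMonoidHom
  have hψinj : Function.Injective ψ := fun a b h =>
    Units.ext (hφinj (congrArg Units.val h))
  have hrange : ψ.range = Subgroup.centralizer ({x} : Set (GL (Fin n) F)) := by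
    ext y
    rw [Subgroup.mem_centralizer_singleton_iff]
    constructor
    · rintro ⟨a, rfl⟩
      apply Units.ext
      show φ (a : AdjoinRoot g) * M = M * φ (a : AdjoinRoot g)
      rw [← hroot, ← map_mul, ← map_mul, mul_comm]
    · intro hy
      have hyM : Commute (y : Matrix (Fin n) (Fin n) F) M := congrArg Units.val hy
      obtain ⟨f, hf⟩ := hTs ((y : Matrix (Fin n) (Fin n) F).mulVec v)
      have hyf : (y : Matrix (Fin n) (Fin n) F) = φ (AdjoinRoot.mk g f) := by
        rw [hφ]
        apply Matrix.ext_of_mulVec_single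
        intro i
        obtain ⟨f', hf'⟩ := hTs (Pi.single i 1)
        have hc : Commute (y : Matrix (Fin n) (Fin n) F) (aeval M f') := by
          clear hf'
          induction f' using Polynomial.induction_on with
          | C c => rw [aeval_C]; exact Algebra.commute_algebraMap_right c _
          | add a b ha hb => rw [map_add]; exact ha.add_right hb
          | monomial k c _ =>
            rw [map_mul, aeval_C, map_pow, aeval_X]
            exact (Algebra.commute_algebraMap_right c _).mul_right (hyM.pow_right _)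
        rw [← hf', Matrix.mulVec_mulVec, hc.eq, ← Matrix.mulVec_mulVec, ← hf,
          Matrix.mulVec_mulVec, Matrix.mulVec_mulVec, ← map_mul, ← map_mul, mul_comm]
      have hne0 : AdjoinRoot.mk g f ≠ 0 := by
        intro h
        rw [h, map_zero] at hyf
        exact not_isUnit_zero (hyf ▸ y.isUnit)
      exact ⟨Units.mk0 _ hne0, Units.ext hyf.symm⟩
  exact ⟨AdjoinRoot g, inferInstance, hfinK, by rw [hcard, hdn],
    ⟨(MonoidHom.ofInjective hψinj).trans (MulEquiv.subgroupCongr hrange)⟩⟩

/-- If an element x of GL_n(q), n ≥ 1, has prime order r and the multiplicative order of q modulo r is n (r is a primitive prime divisor of q^n − 1, so x acts irreducibly), then the centraliser of x in GL_n(q) is cyclic of order q^n − 1 (the multiplicative group of the field with q^n elements, a Singer cycle). -/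
theorem result {F : Type*} [Field F] [Fintype F] {p q : ℕ} [Fact p.Prime] [CharP F p] (hF : Fintype.card F = q) {n r : ℕ} (hn : 1 ≤ n) (hr : r.Prime) (hrp : r ≠ p) (hi : orderOf (q : ZMod r) = n) (x : GL (Fin n) F) (hx : orderOf x = r) : IsCyclic ↥(Subgroup.centralizer ({x} : Set (GL (Fin n) F))) ∧ Nat.card ↥(Subgroup.centralizer ({x} : Set (GL (Fin n) F))) = q ^ n - 1 := by
  obtain ⟨K, _, _, hK, ⟨e⟩⟩ := centralizer_core hF hn hr hrp hi x hx
  refine ⟨isCyclic_of_surjective _ e.surjective, ?_⟩
  rw [← Nat.card_congr e.toEquiv, Nat.card_units, hK]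

end Cfsg.Agent.S2638
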