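import Cfsg.Statements.S2640
import Cfsg.Agent.Lib.Classical.RestrictScalars

set_option autoImplicit false
open Cfsg

namespace Cfsg.Agent.S2640

/-- For m even, the unitary group GU_m(q) (over the field with q² elements) embeds in the orthogonal group O⁺_2m(q) of the hyperbolic form Σ x_i y_i over the field with q elements (there is an injective homomorphism). -/
theorem result {K F : Type*} [Field K] [Fintype K] [Field F] [Fintype F] {q : ℕ} (hK : Fintype.card K = q ^ 2) (hF : Fintype.card F = q) (m : ℕ) (hm : Even m) : ∃ φ : ↥(Cfsg.GU m K q) →* ↥(Cfsg.isometryGroup F (Cfsg.quadFormPlus m F)), Function.Injective φ := by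
  obtain ⟨i, hfix, himg⟩ := Classical.RestrictScalars.exists_ringHom hK hF
  letI : Algebra F K := i.toAlgebra
  obtain ⟨Q, hQn, hQg, hQs⟩ := Classical.RestrictScalars.exists_normForm hK hfix himg m hF
  have hd := Classical.RestrictScalars.dvd_zeros hK Q hQs
  rcases Classical.QuadClass.classify_even m
      (Classical.RestrictScalars.finrank_pi_ext hK hF m) Q hQn with ⟨e, he⟩ | ⟨hm1, ζ, e, hζ, he⟩
  · rw [← Classical.OrthForms.plusQ_eq]
    exact Classical.RestrictScalars.exists_hom_orth Q _ e he
      (Classical.RestrictScalars.matRep ((Units.coeHom _).comp (Cfsg.GU m K q).subtype))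
      hQg (Classical.RestrictScalars.eq_one_of_matRep _ (Units.val_injective.comp Subtype.val_injective))
  · exfalso
    have hz : Nat.card {v : Fin m → K // Q v = 0} =
        Classical.OrthCount.zeros ⇑(Classical.OrthForms.minQ F (m - 1) 1 ζ) :=
      Nat.card_congr (e.toEquiv.subtypeEquiv fun x => by
        show Q x = 0 ↔ Classical.OrthForms.minQ F (m - 1) 1 ζ (e x) = 0
        rw [he])
    have h := Classical.OrthForms.cast_zeros_min (F := F) hF (m - 1) (Classical.QuadClass.aniso_one hζ)
    rw [← hz] at h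
    obtain ⟨k, rfl⟩ := hm
    obtain ⟨k, rfl⟩ : ∃ j, k = j + 1 := ⟨k - 1, by omega⟩
    rw [show k + 1 + (k + 1) - 1 = 2 * k + 1 by omega] at h
    exact Classical.RestrictScalars.not_minus_even (q := q) (k := k) (hF ▸ Fintype.one_lt_card) h
      (Nat.one_le_iff_ne_zero.2 (Nat.card_ne_zero.2 ⟨⟨⟨0, QuadraticMap.map_zero Q⟩⟩, inferInstance⟩)) hd

end Cfsg.Agent.S2640
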