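import Cfsg.Statements.S2641
import Cfsg.Agent.Lib.Classical.RestrictScalars

set_option autoImplicit false
open Cfsg

namespace Cfsg.Agent.S2641

/-- For m odd, the unitary group GU_m(q) (over the field with q² elements) embeds in the orthogonal group O⁻_2m(q) of an elliptic form (Σ_(i<m−1) x_i y_i plus an anisotropic binary form) over the field with q elements (there is an injective homomorphism). -/
theorem result {K F : Type*} [Field K] [Fintype K] [Field F] [Fintype F] {q : ℕ} (hK : Fintype.card K = q ^ 2) (hF : Fintype.card F = q) (m : ℕ) (hm : Odd m) (a b : F) (hab : ∀ z₁ z₂ : F, z₁ ^ 2 + a * z₁ * z₂ + b * z₂ ^ 2 = 0 → z₁ = 0 ∧ z₂ = 0) : ∃ φ : ↥(Cfsg.GU m K q) →* ↥(Cfsg.isometryGroup F (Cfsg.quadFormMinus (m - 1) F a b)), Function.Injective φ := by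
  obtain ⟨i, hfix, himg⟩ := Classical.RestrictScalars.exists_ringHom hK hF
  letI : Algebra F K := i.toAlgebra
  obtain ⟨Q, hQn, hQg, hQs⟩ := Classical.RestrictScalars.exists_normForm hK hfix himg m hF
  have hd := Classical.RestrictScalars.dvd_zeros hK Q hQs
  rcases Classical.QuadClass.classify_even m
      (Classical.RestrictScalars.finrank_pi_ext hK hF m) Q hQn with ⟨e, he⟩ | ⟨hm1, ζ, e, hζ, he⟩
  · exfalso
    have hz : Nat.card {v : Fin m → K // Q v = 0} =
        Classical.OrthCount.zeros ⇑(Forms.PlusStd.plusQ F m) :=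
      Nat.card_congr (e.toEquiv.subtypeEquiv fun x => by
        show Q x = 0 ↔ Forms.PlusStd.plusQ F m (e x) = 0
        rw [he])
    have h := Classical.OrthForms.cast_zeros_plus (F := F) hF m
    rw [← hz] at h
    obtain ⟨k, rfl⟩ := hm
    exact Classical.RestrictScalars.not_plus_odd (q := q) (k := k) (hF ▸ Fintype.one_lt_card) h
      (Nat.one_le_iff_ne_zero.2 (Nat.card_ne_zero.2 ⟨⟨⟨0, QuadraticMap.map_zero Q⟩⟩, inferInstance⟩)) hd
  · have hz : Classical.OrthCount.zeros ⇑(Classical.OrthForms.minQ F (m - 1) 1 ζ) =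
        Classical.OrthCount.zeros ⇑(Classical.OrthForms.minQ F (m - 1) a b) := by
      have h1 := Classical.OrthForms.cast_zeros_min (F := F) hF (m - 1) (Classical.QuadClass.aniso_one hζ)
      have h2 := Classical.OrthForms.cast_zeros_min (F := F) hF (m - 1) hab
      have hq : (q : ℤ) ≠ 0 := by
        have := hF ▸ Fintype.one_lt_card (α := F); omega
      exact_mod_cast mul_left_cancel₀ hq (h1.trans h2.symm)
    obtain ⟨f, hf⟩ := Classical.QuadClass.exists_isometry_of_zeros (m := m)
      (Classical.OrthForms.minQ F (m - 1) 1 ζ) (Classical.OrthForms.minQ F (m - 1) a b)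
      (by simp; omega) (by simp; omega)
      (Classical.OrthForms.minQ_nondeg _ (Classical.QuadClass.aniso_one hζ))
      (Classical.OrthForms.minQ_nondeg _ hab) hz
    rw [← Classical.OrthForms.minQ_eq]
    exact Classical.RestrictScalars.exists_hom_orth Q _ (e.trans f)
      (fun x => by rw [LinearEquiv.trans_apply, hf, he])
      (Classical.RestrictScalars.matRep ((Units.coeHom _).comp (Cfsg.GU m K q).subtype))
      hQg (Classical.RestrictScalars.eq_one_of_matRep _ (Units.val_injective.comp Subtype.val_injective))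

end Cfsg.Agent.S2641
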