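import Cfsg.Statements.S2642
import Cfsg.Agent.Lib.Classical.JordanUnitary
-- import your own Cfsg.Agent.* helpers here

set_option autoImplicit false
open Cfsg

namespace Cfsg.Agent.S2642

open Cfsg.Agent.Classical

/-- Number of conjugacy classes of elements of order p in the general unitary group GU_n(q), q a power of p: every unipotent Jordan type occurs and the classes correspond to the partitions of n with all parts at most p other than the all-ones partition, exactly as in GL_n; so there are (number of partitions of n with parts ≤ p) − 1 classes. -/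
theorem result {K : Type*} [Field K] [Fintype K] {p q n : ℕ} [Fact p.Prime] [CharP K p] (hK : Fintype.card K = q ^ 2) : Nat.card {C : ConjClasses ↥(Cfsg.GU n K q) // ∃ g : ↥(Cfsg.GU n K q), ConjClasses.mk g = C ∧ orderOf g = p} = (Finset.univ.filter (fun μ : Nat.Partition n => ∀ a ∈ μ.parts, a ≤ p)).card - 1 := by
  classical
  rw [← JordanChains.natCard_partitions_order p (Fact.out : p.Prime).one_le]
  choose g hg hpart using fun μ : Nat.Partition n => JordanUnitary.exists_unip hK μ
  have hord : ∀ x : ↥(Cfsg.GU n K q), orderOf x = p →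
      ∃ hx : JordanChains.Unip (x : GL (Fin n) K), (∀ a ∈ (JordanChains.partition _ hx).parts, a ≤ p) ∧
        ¬ ∀ a ∈ (JordanChains.partition _ hx).parts, a ≤ 1 := fun x hx => by
    rw [← Subgroup.orderOf_coe] at hx
    have hu : JordanChains.Unip (x : GL (Fin n) K) :=
      (JordanChains.unip_iff p _).2 ⟨1, by rw [pow_one]; exact hx⟩
    obtain ⟨h1, h2⟩ := (JordanChains.orderOf_eq_char_iff p _).1 hx
    refine ⟨hu, (JordanChains.partition_pow_eq_zero hu p).1 h1, fun h => h2 ?_⟩
    rw [← JordanChains.nil_eq_zero, ← pow_one (JordanChains.nil _),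
      JordanChains.partition_pow_eq_zero hu]
    exact h
  refine (Nat.card_eq_of_bijective (fun μ : {μ : Nat.Partition n // (∀ a ∈ μ.parts, a ≤ p) ∧
      ¬ ∀ a ∈ μ.parts, a ≤ 1} => (⟨ConjClasses.mk (g μ.1), g μ.1, rfl, ?_⟩ :
      {C : ConjClasses ↥(Cfsg.GU n K q) // ∃ g : ↥(Cfsg.GU n K q),
        ConjClasses.mk g = C ∧ orderOf g = p})) ⟨?_, ?_⟩).symm
  · rw [← Subgroup.orderOf_coe, JordanChains.orderOf_eq_char_iff,
      JordanChains.partition_pow_eq_zero (hg μ.1), hpart]
    refine ⟨μ.2.1, fun h => μ.2.2 ?_⟩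
    have := (JordanChains.partition_pow_eq_zero (hg μ.1) 1).1 (by
      rw [pow_one, JordanChains.nil_eq_zero]; exact h)
    rwa [hpart] at this
  · intro μ μ' e
    have h := (Cfsg.GU n K q).subtype.map_isConj
      (ConjClasses.mk_eq_mk_iff_isConj.1 (congrArg Subtype.val e))
    have h' := (JordanChains.isConj_iff_partition (hg μ.1) (hg μ'.1)).1 h
    rw [hpart, hpart] at h'
    exact Subtype.ext h'
  · rintro ⟨_, x, rfl, hx⟩
    obtain ⟨hu, h1, h2⟩ := hord x hx
    refine ⟨⟨_, h1, h2⟩, Subtype.ext (ConjClasses.mk_eq_mk_iff_isConj.2 ?_)⟩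
    exact (Cfsg.Agent.S2587.result hK _ _).2
      ((JordanChains.isConj_iff_partition (hg _) hu).2 (hpart _))

end Cfsg.Agent.S2642
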