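import Cfsg.Statements.S2644
import Cfsg.Agent.Lib.Classical.UnitarySimple
import Cfsg.Agent.Lib.Classical.RankOne

set_option autoImplicit false
set_option maxHeartbeats 800000
set_option linter.unusedSectionVars false
open Cfsg
open Matrix
open Cfsg.Agent.Classical.Unitary
open Cfsg.Agent.Forms

namespace Cfsg.Agent.S2644

variable {F : Type*} [Field F] [Fintype F] {q n : ℕ} (hF : Fintype.card F = q ^ 2)

local notation "H" => Cfsg.hermForm n F q
local notation "Vec" => (Fin n → F)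

include hF

/-- An element of `SU` which is a transvection is a unitary transvection. -/
theorem eq_tvu (g : Cfsg.SU n F q) (h : Cfsg.IsTransvection (mat g)) :
    ∃ (v : Vec) (hv : H v v = 0) (c : F) (hc : c + c ^ q = 0),
      v ≠ 0 ∧ c ≠ 0 ∧ g = tvu hF hv hc := by
  obtain ⟨a, φ, ha, hφ, y, hy⟩ := Classical.RankOne.exists_axis h.1
  have hq := q_ne_zero hF
  have hsub : ∀ x, (mat g - 1) *ᵥ x = φ x • a := fun x => by
    rw [sub_mulVec, one_mulVec, hφ, add_sub_cancel_left]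
  have hφa : φ a = 0 := by
    have h2 : (mat g - 1) *ᵥ ((mat g - 1) *ᵥ y) = 0 := by
      rw [mulVec_mulVec, h.2, zero_mulVec]
    rw [hsub y, mulVec_smul, hsub, smul_smul, smul_eq_zero, mul_eq_zero] at h2
    tauto
  have key : ∀ x z, φ x * H a z + φ z ^ q * H x a + φ x * φ z ^ q * H a a = 0 := by
    intro x z
    have h1 := SU_H g x z
    rw [hφ, hφ] at h1
    simp only [H_add_left, H_add_right hF, H_smul_left, H_smul_right] at h1
    linear_combination h1
  have haa : H a a = 0 := by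
    have h1 := key a y
    rw [hφa, zero_mul, zero_mul, zero_mul, zero_add, add_zero, mul_eq_zero] at h1
    exact h1.resolve_left (pow_ne_zero _ hy)
  simp only [haa, mul_zero, add_zero] at key
  obtain ⟨w, hw⟩ := exists_H_eq_one hF ha
  have hφx : ∀ x, φ x = -φ w ^ q * H x a := fun x => by
    have h1 := key x w
    rw [hw] at h1
    linear_combination h1
  have hc0 : -φ w ^ q ≠ 0 := fun h0 => hy (by rw [hφx, h0, zero_mul])
  have hwa : H w a = 1 := by rw [← H_conj hF, hw, one_pow]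
  have hw' : φ w = -φ w ^ q := by
    have h1 := hφx w
    rwa [hwa, mul_one] at h1
  have hc : -φ w ^ q + (-φ w ^ q) ^ q = 0 := by
    rw [← hw']
    linear_combination hw'
  refine ⟨a, haa, -φ w ^ q, hc, ha, hc0, SU_ext fun x => ?_⟩
  rw [tvu_mulVec, hφ, ← hφx]

/-- Rescaling to a fixed trace zero scalar. -/
theorem exists_normalize {c₀ : F} (h0 : c₀ ≠ 0) (hc₀ : c₀ + c₀ ^ q = 0) {v : Vec}
    (hv : H v v = 0) {c : F} (hc : c + c ^ q = 0) (hcne : c ≠ 0) (hv0 : v ≠ 0) :
    ∃ (v' : Vec) (hv' : H v' v' = 0), v' ≠ 0 ∧ tvu hF hv hc = tvu hF hv' hc₀ := by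
  obtain ⟨a, ha⟩ := Classical.UnitaryCount.exists_norm_eq hF (μ := c / c₀) (div_ne_zero hcne h0) (by
    rw [div_pow, eq_neg_of_add_eq_zero_right hc, eq_neg_of_add_eq_zero_right hc₀, neg_div_neg_eq])
  have ha0 : a ≠ 0 := fun h => by
    rw [h, zero_pow (Nat.succ_ne_zero _)] at ha
    exact div_ne_zero hcne h0 ha.symm
  refine ⟨a • v, by rw [H_smul_left, H_smul_right, hv, mul_zero, mul_zero],
    smul_ne_zero ha0 hv0, SU_ext fun x => ?_⟩
  rw [tvu_mulVec, tvu_mulVec, H_smul_right, smul_smul]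
  congr 2
  rw [eq_div_iff h0] at ha
  linear_combination (-(H x v)) * ha

/-- A unitary pseudo-reflection. -/
theorem exists_pseudo {u w : Vec} (hw : H w w = 1) (hwu : H w u = 0) {δ : F}
    (hδ : δ ^ (q + 1) = 1) :
    ∃ g : Cfsg.GU n F q, (gmat g).det = δ ∧ gmat g *ᵥ u = u := by
  set M : Matrix (Fin n) (Fin n) F := 1 + Matrix.vecMulVec ((δ - 1) • w) (fun i => w i ^ q)
  have hM : ∀ x, M *ᵥ x = x + ((δ - 1) * H x w) • w := fun x => by
    rw [add_mulVec, one_mulVec, vecMulVec_mulVec, op_smul_eq_smul, dotProduct_comm, ← H_eq_dot,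
      smul_smul, mul_comm]
  have hδq : (δ - 1) ^ q = δ ^ q - 1 := by
    rw [← HermStd.qHom_apply hF, map_sub, map_one, HermStd.qHom_apply]
  have hpres : ∀ x y, H (M *ᵥ x) (M *ᵥ y) = H x y := by
    intro x y
    rw [hM, hM]
    simp only [H_add_left, H_add_right hF, H_smul_left, H_smul_right, hw, mul_pow, hδq]
    rw [H_conj hF y w]
    have h1 : δ ^ q * δ = 1 := by rw [← pow_succ, hδ]
    linear_combination (H x w * H w y) * h1
  refine ⟨guMk hF M hpres, ?_, ?_⟩
  · show M.det = δ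
    simp only [M]
    rw [Matrix.vecMulVec_eq Unit, Matrix.det_one_add_replicateCol_mul_replicateRow, dotProduct_comm,
      smul_dotProduct, ← H_eq_dot, hw, smul_eq_mul, mul_one, add_sub_cancel]
  · show M *ᵥ u = u
    rw [hM, (H_eq_zero_comm hF).1 hwu, mul_zero, zero_smul, add_zero]

/-- `SU` is transitive on the non-zero isotropic vectors. -/
theorem exists_su_vec (hn : 3 ≤ n) {u u' : Vec} (hu : u ≠ 0) (hu' : u' ≠ 0) (huu : H u u = 0)
    (huu' : H u' u' = 0) : ∃ k : Cfsg.SU n F q, mat k *ᵥ u = u' := by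
  obtain ⟨g, hg⟩ := exists_gu_map hF hu hu' (huu.trans huu'.symm)
  have hd : (gmat g).det ^ (q + 1) = 1 := HermStd.det_norm hF _ g.2
  obtain ⟨s, hs, hus⟩ := exists_partner hF hu' huu'
  obtain ⟨⟨w, hw1, -, hww⟩, -⟩ := exists_perp_pair hF hn huu' hs hus
  obtain ⟨r, hr, hru⟩ := exists_pseudo hF (δ := (gmat g).det⁻¹) hww hw1
    (by rw [inv_pow, hd, inv_one])
  have hd0 : (gmat g).det ≠ 0 := fun h => by simp [h] at hd
  refine ⟨suOfGU (r * g) ?_, ?_⟩
  · rw [gmat_mul, Matrix.det_mul, hr, inv_mul_cancel₀ hd0]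
  · show gmat (r * g) *ᵥ u = u'
    rw [gmul_mulVec, hg, hru]

omit hF

/-- In the special unitary group SU_n(q) with n ≥ 3 (isometries of Σ u_i v_i^q of determinant one over the field with q² elements), any two transvections (elements t with t − 1 of rank one and square zero) are conjugate. -/
theorem result {K : Type*} [Field K] [Fintype K] {q n : ℕ} (hK : Fintype.card K = q ^ 2) (hn : 3 ≤ n) (s t : ↥(Cfsg.SU n K q)) (hs : Cfsg.IsTransvection (((s : GL (Fin n) K) : Matrix (Fin n) (Fin n) K))) (ht : Cfsg.IsTransvection (((t : GL (Fin n) K) : Matrix (Fin n) (Fin n) K))) : IsConj s t := by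
  obtain ⟨c₀, h0, hc₀⟩ := exists_traceZero hK
  obtain ⟨v, hv, c, hc, hv0, hcne, rfl⟩ := eq_tvu hK s hs
  obtain ⟨w, hw, d, hd, hw0, hdne, rfl⟩ := eq_tvu hK t ht
  obtain ⟨v', hv', hv0', e1⟩ := exists_normalize hK h0 hc₀ hv hc hcne hv0
  obtain ⟨w', hw', hw0', e2⟩ := exists_normalize hK h0 hc₀ hw hd hdne hw0
  obtain ⟨k, hk⟩ := exists_su_vec hK hn hv0' hw0' hv' hw'
  rw [e1, e2, isConj_iff]
  exact ⟨k, tvu_conj hK k hk hv' hw' hc₀⟩

end Cfsg.Agent.S2644
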