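import Cfsg.Statements.S2645
import Cfsg.Agent.Lib.Classical.SympRealise
import Cfsg.Agent.S2568
import Cfsg.Agent.S2586
import Cfsg.Agent.S2589
-- import your own Cfsg.Agent.* helpers here

set_option autoImplicit false
open Cfsg

namespace Cfsg.Agent.S2645

open Cfsg.Agent.Classical Polynomial
open Cfsg.Agent.Classical.PowScalarClasses (Admissible)

variable {F : Type*} [Field F] [Fintype F]

/-- classes with `g ^ r = 1` are the invariant multisets -/
theorem natCard_pow_classes {p : ℕ} [Fact p.Prime] [CharP F p] (m r : ℕ) [hr : Fact r.Prime]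
    (hr2 : r ≠ 2) (hri : (r : F) ≠ 0) {i : ℕ} (hdeg : ∀ x : F[X], StarFactor.Fac r x → x.natDegree = i) :
    Nat.card {C : ConjClasses ↥(Matrix.symplecticGroup (Fin m) F) //
        ∃ g : Matrix.symplecticGroup (Fin m) F, g ^ r = 1 ∧ ConjClasses.mk g = C} =
      Nat.card {s : Multiset F[X] // Admissible r (2 * m) 1 s ∧ s.map (StarFactor.star r) = s} := by
  classical
  let e : Fin m ⊕ Fin m ≃ Fin (2 * m) := finSumFinEquiv.trans (finCongr (two_mul m).symm)
  let φ := Matrix.reindexAlgEquiv F F e
  have hφpow : ∀ g : Matrix.symplecticGroup (Fin m) F, g ^ r = 1 →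
      (φ (g : Matrix (Fin m ⊕ Fin m) (Fin m ⊕ Fin m) F)) ^ r = 1 := fun g hg => by
    have h : (g : Matrix (Fin m ⊕ Fin m) (Fin m ⊕ Fin m) F) ^ r = 1 := congrArg Subtype.val hg
    rw [← map_pow, h, map_one]
  have hφc : ∀ M : Matrix (Fin m ⊕ Fin m) (Fin m ⊕ Fin m) F, (φ M).charpoly = M.charpoly := fun M =>
    Matrix.charpoly_reindex e M
  have hconjc : ∀ {M N : Matrix (Fin m ⊕ Fin m) (Fin m ⊕ Fin m) F}, IsConj M N →
      M.charpoly = N.charpoly := by
    rintro M N ⟨c, hc⟩
    rw [← Matrix.charpoly_units_conj c M, ← Matrix.coe_units_inv, hc.eq, mul_assoc, Units.mul_inv,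
      mul_one]
  have hex : ∀ s : {s : Multiset F[X] // Admissible r (2 * m) 1 s ∧ s.map (StarFactor.star r) = s},
      ∃ g : Matrix.symplecticGroup (Fin m) F, g ^ r = 1 ∧
        (g : Matrix (Fin m ⊕ Fin m) (Fin m ⊕ Fin m) F).charpoly = s.1.prod := by
    rintro ⟨s, hs, hinv⟩
    refine SympRealise.exists_symplectic
      (SympRealise.real_of_invariant hri hr2 hdeg s hs.1 hinv (by rw [hs.2]; exact ⟨m, two_mul m⟩)) ?_
    rw [natDegree_multiset_prod _ (fun h => (hs.1 0 h).1.ne_zero rfl)]
    exact hs.2
  choose g hg hgc using hex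
  refine (Nat.card_eq_of_bijective (fun s => (⟨ConjClasses.mk (g s), g s, hg s, rfl⟩ :
    {C : ConjClasses ↥(Matrix.symplecticGroup (Fin m) F) //
      ∃ g : Matrix.symplecticGroup (Fin m) F, g ^ r = 1 ∧ ConjClasses.mk g = C})) ⟨?_, ?_⟩).symm
  · intro s s' h
    have h1 := hconjc ((Matrix.symplecticGroup (Fin m) F).subtype.map_isConj
      (ConjClasses.mk_eq_mk_iff_isConj.1 (congrArg Subtype.val h)))
    refine Subtype.ext (PowScalarClasses.eq_of_prod_eq s.2.1 s'.2.1 ?_)
    rw [← hgc s, ← hgc s']
    exact h1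
  · rintro ⟨_, x, hx, rfl⟩
    obtain ⟨s, hs, hsc⟩ := PowScalarClasses.admissible_factors hri one_ne_zero
      (show (φ (x : Matrix (Fin m ⊕ Fin m) (Fin m ⊕ Fin m) F)) ^ r = (1 : F) • 1 by
        rw [one_smul]; exact hφpow x hx)
    have hinv : s.map (StarFactor.star r) = s := by
      have h1 := StarFactor.charpoly_inv_of hri (hφpow x hx) hs hsc
      have hxi : x⁻¹ = x ^ (r - 1) := inv_eq_of_mul_eq_one_left (by
        rw [← pow_succ, Nat.sub_add_cancel hr.out.one_le, hx])
      have h2 := hconjc (Cfsg.Agent.S2586.result x)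
      rw [hxi] at h2
      rw [← map_pow, hφc] at h1
      rw [hφc] at hsc
      refine PowScalarClasses.eq_of_prod_eq (k := r) (n := 2 * m) (c := 1) ⟨?_, ?_⟩ hs
        (h1.symm.trans (h2.symm.trans hsc))
      · intro y hy
        obtain ⟨z, hz, rfl⟩ := Multiset.mem_map.1 hy
        by_cases hz1 : z = X - C 1
        · subst hz1
          rw [StarFactor.star_X_sub_one hri]
          exact hs.1 _ hz
        · have hf := ((⟨(hs.1 z hz).1, (hs.1 z hz).2.1, (hs.1 z hz).2.2, hz1⟩ :
            StarFactor.Fac r z).star_fac hri hdeg).1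
          exact ⟨hf.monic, hf.irr, hf.dvd⟩
      · rw [Multiset.map_map]
        conv_rhs => rw [← hs.2]
        congr 1
        refine Multiset.map_congr rfl fun z hz => ?_
        show (StarFactor.star r z).natDegree = z.natDegree
        by_cases hz1 : z = X - C 1
        · subst hz1; rw [StarFactor.star_X_sub_one hri]
        · have hzf : StarFactor.Fac r z := ⟨(hs.1 z hz).1, (hs.1 z hz).2.1, (hs.1 z hz).2.2, hz1⟩
          rw [hdeg z hzf, hdeg _ (hzf.star_fac hri hdeg).1]
    refine ⟨⟨s, hs, hinv⟩, Subtype.ext (ConjClasses.mk_eq_mk_iff_isConj.2 ?_)⟩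
    have hcop : (orderOf (g ⟨s, hs, hinv⟩)).Coprime p := by
      refine Nat.Coprime.coprime_dvd_left (orderOf_dvd_of_pow_eq_one (hg _))
        ((Nat.coprime_primes hr.out Fact.out).2 fun e' => hri ?_)
      rw [e']
      exact CharP.cast_eq_zero F p
    refine (Cfsg.Agent.S2589.result _ _ hcop).2 ?_
    obtain ⟨M, hM⟩ := SemisimpleConj.exists_matrix_conj _ _ hri
      (hφpow _ (hg ⟨s, hs, hinv⟩)) (hφpow x hx) (by rw [hφc, hgc, hsc])
    have h3 : IsConj (φ (g ⟨s, hs, hinv⟩ : Matrix (Fin m ⊕ Fin m) (Fin m ⊕ Fin m) F))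
        (φ (x : Matrix (Fin m ⊕ Fin m) (Fin m ⊕ Fin m) F)) := ⟨M, hM⟩
    simpa using φ.symm.toAlgHom.toMonoidHom.map_isConj h3

/-- invariant multisets under a fixed-point-free involution of the weighted points -/
theorem natCard_invariant {β : Type*} [DecidableEq β] (w : β → ℕ) (z : β) (hz : w z = 1)
    (P : Finset β) (hzP : z ∉ P) (i m : ℕ) (hi : 0 < i) (hP : ∀ p ∈ P, w p = i) (τ : β → β)
    (hτz : τ z = z) (hτP : ∀ p ∈ P, τ p ∈ P ∧ τ (τ p) = p ∧ τ p ≠ p) :
    Nat.card {s : Multiset β // ((∀ p ∈ s, p = z ∨ p ∈ P) ∧ (s.map w).sum = 2 * m) ∧ s.map τ = s} =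
      Nat.choose (m / i + P.card / 2) (P.card / 2) := by
  classical
  let ord : β → ℕ := fun p => if h : p ∈ P then (P.equivFin ⟨p, h⟩ : ℕ) else 0
  have hordinj : ∀ p ∈ P, ∀ p' ∈ P, ord p = ord p' → p = p' := by
    intro p hp p' hp' e
    simp only [ord, dif_pos hp, dif_pos hp'] at e
    exact congrArg Subtype.val (P.equivFin.injective (Fin.ext e))
  let H := P.filter fun p => ord p < ord (τ p)
  let H' := P.filter fun p => ord (τ p) < ord p
  have hcards : H.card = H'.card := Finset.card_nbij' τ τ
    (fun p hp => by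
      simp only [H, H', Finset.coe_filter, Set.mem_setOf_eq] at hp ⊢
      exact ⟨(hτP p hp.1).1, by rw [(hτP p hp.1).2.1]; exact hp.2⟩)
    (fun p hp => by
      simp only [H, H', Finset.coe_filter, Set.mem_setOf_eq] at hp ⊢
      exact ⟨(hτP p hp.1).1, by rw [(hτP p hp.1).2.1]; exact hp.2⟩)
    (fun p hp => (hτP p (Finset.mem_filter.1 hp).1).2.1)
    (fun p hp => (hτP p (Finset.mem_filter.1 hp).1).2.1)
  have hPcard : P.card = 2 * H.card := by
    have hsplit := Finset.card_filter_add_card_filter_not (s := P) (fun p => ord p < ord (τ p))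
    have : P.filter (fun p => ¬ ord p < ord (τ p)) = H' := by
      refine Finset.filter_congr fun p hp => ⟨fun h => lt_of_le_of_ne (not_lt.1 h) fun e => ?_,
        fun h => not_lt.2 h.le⟩
      exact (hτP p hp).2.2 (hordinj _ (hτP p hp).1 _ hp e)
    rw [this, ← hcards] at hsplit
    simp only [H] at hsplit ⊢
    omega
  have hwτ : ∀ p, p = z ∨ p ∈ P → w (τ p) = w p := by
    rintro p (rfl | hp)
    · rw [hτz]
    · rw [hP p hp, hP _ (hτP p hp).1]
  have hzH : z ∉ H := fun h => hzP (Finset.mem_filter.1 h).1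
  have hsum : ∀ u : Multiset β, (∀ p ∈ u, p = z ∨ p ∈ H) →
      ((u + u.map τ).map w).sum = 2 * (u.map w).sum := fun u hu => by
    rw [Multiset.map_add, Multiset.sum_add, Multiset.map_map, two_mul]
    congr 2
    exact Multiset.map_congr rfl fun p hp =>
      hwτ p ((hu p hp).imp id fun h => (Finset.mem_filter.1 h).1)
  have hmapmap : ∀ u : Multiset β, (∀ p ∈ u, p = z ∨ p ∈ P) → (u.map τ).map τ = u := fun u hu => by
    rw [Multiset.map_map]
    conv_rhs => rw [← Multiset.map_id u]
    refine Multiset.map_congr rfl fun p hp => ?_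
    rcases hu p hp with rfl | h
    · simp [hτz]
    · exact (hτP p h).2.1
  have hcount : ∀ u : Multiset β, (∀ p ∈ u, p = z ∨ p ∈ H) → ∀ x, (x = z ∨ x ∈ H) →
      (u + u.map τ).count x = u.count x + if x = z then u.count z else 0 := by
    intro u hu x hx
    rw [Multiset.count_add]
    congr 1
    rcases hx with rfl | hx
    · rw [if_pos rfl, Multiset.count_map, ← Multiset.countP_eq_card_filter, Multiset.count]
      refine Multiset.countP_congr rfl fun p hp => propext ⟨fun e => ?_, fun e => by rw [← e, hτz]⟩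
      rcases hu p hp with h | h
      · exact h.symm
      · exact absurd (by rw [e]; exact (hτP p (Finset.mem_filter.1 h).1).1) hzP
    · rw [if_neg (fun e => hzH (by rw [← e]; exact hx))]
      refine Multiset.count_eq_zero.2 fun h => ?_
      obtain ⟨p, hp, hpx⟩ := Multiset.mem_map.1 h
      rcases hu p hp with rfl | hp'
      · exact hzH (by rwa [← hpx, hτz] at hx)
      · have h1 := (Finset.mem_filter.1 hp').2
        have h2 := (Finset.mem_filter.1 hx).2
        rw [← hpx, (hτP p (Finset.mem_filter.1 hp').1).2.1] at h2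
        omega
  rw [hPcard, Nat.mul_div_cancel_left _ two_pos,
    ← Cfsg.Agent.S2568.natCard_weighted w z hz H hzH i m hi fun p hp => hP p (Finset.mem_filter.1 hp).1]
  refine (Nat.card_eq_of_bijective (fun u => (⟨u.1 + u.1.map τ, ⟨?_, ?_⟩, ?_⟩ :
    {s : Multiset β // ((∀ p ∈ s, p = z ∨ p ∈ P) ∧ (s.map w).sum = 2 * m) ∧ s.map τ = s})) ⟨?_, ?_⟩).symm
  · intro p hp
    rcases Multiset.mem_add.1 hp with hp | hp
    · exact (u.2.1 p hp).imp id fun h => (Finset.mem_filter.1 h).1
    · obtain ⟨y, hy, rfl⟩ := Multiset.mem_map.1 hp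
      rcases u.2.1 y hy with rfl | h
      · exact Or.inl hτz
      · exact Or.inr (hτP y (Finset.mem_filter.1 h).1).1
  · rw [hsum u.1 u.2.1, u.2.2]
  · rw [Multiset.map_add, hmapmap u.1 (fun p hp => (u.2.1 p hp).imp id fun h => (Finset.mem_filter.1 h).1),
      add_comm]
  · intro u v e
    have e' := congrArg Subtype.val e
    refine Subtype.ext (Multiset.ext.2 fun x => ?_)
    by_cases hx : x = z ∨ x ∈ H
    · have h := congrArg (Multiset.count x) e'
      rw [hcount u.1 u.2.1 x hx, hcount v.1 v.2.1 x hx] at h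
      by_cases hxz : x = z
      · subst hxz
        rw [if_pos rfl, if_pos rfl] at h
        omega
      · rw [if_neg hxz, if_neg hxz] at h
        omega
    · rw [Multiset.count_eq_zero.2 fun h => hx (u.2.1 x h),
        Multiset.count_eq_zero.2 fun h => hx (v.2.1 x h)]
  · rintro ⟨s, ⟨hs, hsw⟩, hτs⟩
    have hcz : Even (s.count z) := by
      have key : ∀ s : Multiset β, (∀ p ∈ s, p = z ∨ p ∈ P) → (s.map w).sum =
          s.count z + i * ∑ p ∈ P, s.count p := by
        intro s
        induction s using Multiset.induction with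
        | empty => simp
        | cons a s ih =>
          intro hs
          rw [Multiset.map_cons, Multiset.sum_cons, ih fun p hp => hs p (Multiset.mem_cons_of_mem hp),
            Multiset.count_cons]
          simp only [Multiset.count_cons, Finset.sum_add_distrib, Finset.sum_ite_eq', mul_add]
          rcases hs a (Multiset.mem_cons_self _ _) with rfl | h
          · rw [hz, if_pos rfl, if_neg hzP, mul_zero]; omega
          · rw [hP a h, if_neg (fun e => hzP (by rw [e]; exact h)), if_pos h, mul_one]; omega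
      have h := key s hs
      rw [hsw, ← Finset.sum_filter_add_sum_filter_not P (fun p => ord p < ord (τ p))] at h
      have hsym : ∀ p ∈ P, s.count (τ p) = s.count p := fun p hp => by
        conv_lhs => rw [← hτs]
        rw [Multiset.count_map, ← Multiset.countP_eq_card_filter]
        refine Multiset.countP_congr rfl fun y hy => propext ⟨fun e => ?_, fun e => by rw [← e]⟩
        rcases hs y hy with rfl | hy'
        · exact absurd (show y ∈ P by rw [← hτz, ← e]; exact (hτP p hp).1) hzP
        · rw [← (hτP y hy').2.1, ← e, (hτP p hp).2.1]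
      have he : ∑ p ∈ P.filter (fun p => ¬ ord p < ord (τ p)), s.count p = ∑ p ∈ H, s.count p := by
        refine Finset.sum_nbij' τ τ ?_ ?_ ?_ ?_ ?_
        · intro p hp
          simp only [H, Finset.coe_filter, Finset.mem_filter, Set.mem_setOf_eq] at hp ⊢
          refine ⟨(hτP p hp.1).1, ?_⟩
          rw [(hτP p hp.1).2.1]
          exact lt_of_le_of_ne (not_lt.1 hp.2) fun e => (hτP p hp.1).2.2 (hordinj _ (hτP p hp.1).1 _ hp.1 e)
        · intro p hp
          simp only [H, Finset.coe_filter, Finset.mem_filter, Set.mem_setOf_eq] at hp ⊢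
          refine ⟨(hτP p hp.1).1, ?_⟩
          rw [(hτP p hp.1).2.1]
          exact not_lt.2 hp.2.le
        · exact fun p hp => (hτP p (Finset.mem_filter.1 hp).1).2.1
        · exact fun p hp => (hτP p (Finset.mem_filter.1 hp).1).2.1
        · exact fun p hp => (hsym p (Finset.mem_filter.1 hp).1).symm
      rw [he] at h
      rw [Nat.even_iff]
      have : i * (∑ p ∈ H, s.count p + ∑ p ∈ H, s.count p) = 2 * (i * ∑ p ∈ H, s.count p) := by ring
      rw [this] at h
      omega
    obtain ⟨c, hc⟩ := hcz
    set u := Multiset.replicate c z + s.filter (· ∈ H) with hu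
    have humem : ∀ p ∈ u, p = z ∨ p ∈ H := fun p hp => (Multiset.mem_add.1 hp).imp
      Multiset.eq_of_mem_replicate fun h => (Multiset.mem_filter.1 h).2
    have huP : ∀ p ∈ u, p = z ∨ p ∈ P := fun p hp => (humem p hp).imp id fun h => (Finset.mem_filter.1 h).1
    have huz : u.count z = c := by
      rw [hu, Multiset.count_add, Multiset.count_replicate_self, Multiset.count_filter_of_neg hzH, add_zero]
    have huH : ∀ x ∈ H, u.count x = s.count x := fun x hx => by
      rw [hu, Multiset.count_add, Multiset.count_replicate, if_neg (fun e => hzH (by rw [e]; exact hx)),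
        zero_add, Multiset.count_filter_of_pos hx]
    have hmem : u + u.map τ = s := by
      refine Multiset.ext.2 fun x => ?_
      by_cases hxz : x = z
      · subst hxz
        rw [hcount u humem _ (Or.inl rfl), if_pos rfl, huz, hc]
      by_cases hxP : x ∈ P
      · by_cases hxH : x ∈ H
        · rw [hcount u humem x (Or.inr hxH), if_neg hxz, huH x hxH, add_zero]
        · have hτxH : τ x ∈ H := by
            refine Finset.mem_filter.2 ⟨(hτP x hxP).1, ?_⟩
            rw [(hτP x hxP).2.1]
            exact lt_of_le_of_ne (not_lt.1 fun h => hxH (Finset.mem_filter.2 ⟨hxP, h⟩))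
              fun e => (hτP x hxP).2.2 (hordinj _ (hτP x hxP).1 _ hxP e)
          have hswap : ∀ v : Multiset β, (∀ p ∈ v, p = z ∨ p ∈ P) →
              (v.map τ).count x = v.count (τ x) := fun v hv => by
            rw [Multiset.count_map, ← Multiset.countP_eq_card_filter]
            refine Multiset.countP_congr rfl fun y hy => propext ⟨fun e => ?_, fun e => by rw [← e, (hτP x hxP).2.1]⟩
            rcases hv y hy with rfl | h
            · exact absurd (e.trans hτz) hxz
            · rw [e, (hτP y h).2.1]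
          rw [Multiset.count_add, hswap u huP, huH _ hτxH, ← hswap s hs, hτs]
          rw [Multiset.count_eq_zero.2 fun h => ?_, zero_add]
          rcases humem x h with h' | h'
          · exact hxz h'
          · exact hxH h'
      · have hout : x ∉ u + u.map τ := fun h => by
          rcases Multiset.mem_add.1 h with h | h
          · exact (huP x h).elim hxz hxP
          · obtain ⟨y, hy, rfl⟩ := Multiset.mem_map.1 h
            rcases huP y hy with rfl | h'
            · exact hxz hτz
            · exact hxP (hτP y h').1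
        rw [Multiset.count_eq_zero.2 hout,
          Multiset.count_eq_zero.2 fun h => (hs x h).elim hxz hxP]
    refine ⟨⟨u, humem, ?_⟩, Subtype.ext hmem⟩
    have h2 := hsum u humem
    rw [hmem, hsw] at h2
    omega

/-- Number of conjugacy classes of elements of odd prime order r, r different from the characteristic, in the symplectic group Sp_2m(q): let i be the multiplicative order of q modulo r and t = (r − 1)/i. If i is odd the eigenvalue orbits pair off (Λ ≠ Λ⁻¹) and the classes correspond to the non-zero (t/2)-tuples (a_j) with 2i Σ a_j ≤ 2m, giving C(⌊m/i⌋ + t/2, t/2) − 1 classes; if i is even (Λ = Λ⁻¹) they correspond to the non-zero t-tuples with i Σ a_j ≤ 2m, giving C(⌊2m/i⌋ + t, t) − 1 classes. -/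
theorem result {F : Type*} [Field F] [Fintype F] {p q : ℕ} [Fact p.Prime] [CharP F p] (hF : Fintype.card F = q) (m r i t : ℕ) (hr : r.Prime) (hr2 : r ≠ 2) (hrp : r ≠ p) (hi : i = orderOf (q : ZMod r)) (ht : t * i = r - 1) : Nat.card {C : ConjClasses ↥(Matrix.symplecticGroup (Fin m) F) // ∃ g : Matrix.symplecticGroup (Fin m) F, ConjClasses.mk g = C ∧ orderOf g = r} = if Odd i then Nat.choose (m / i + t / 2) (t / 2) - 1 else Nat.choose (2 * m / i + t) t - 1 := by
  classical
  haveI : Fact r.Prime := ⟨hr⟩
  obtain ⟨f, hp, hpf⟩ := FiniteField.card F p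
  have hcop : Nat.Coprime (p ^ (f : ℕ)) r :=
    Nat.Coprime.pow_left _ ((Nat.coprime_primes hp hr).2 fun e => hrp e.symm)
  have hcop1 : Nat.Coprime p r := (Nat.coprime_primes hp hr).2 fun e => hrp e.symm
  have hri : (r : F) ≠ 0 := fun h => hrp
    ((Nat.prime_dvd_prime_iff_eq Fact.out hr).1 ((CharP.cast_eq_zero_iff F p r).1 h)).symm
  have hord : orderOf (ZMod.unitOfCoprime _ hcop) = i := by
    rw [← orderOf_units, ZMod.coe_unitOfCoprime, hi, ← hF, hpf]
  have hipos : 0 < i := by rw [← hord]; exact orderOf_pos _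
  set P := (UniqueFactorizationMonoid.normalizedFactors (Polynomial.cyclotomic r F)).toFinset with hP
  have hKcard : Fintype.card F = p ^ (f : ℕ) := hpf
  have hPcard : P.card = t := by
    have h := Polynomial.normalizedFactors_cyclotomic_card (K := F) (p := p) (f := f) hKcard
      (n := r) hcop1
    rw [hord, Nat.totient_prime hr, ← ht, Nat.mul_div_cancel _ hipos] at h
    exact h
  have hPdeg : ∀ x ∈ P, x.natDegree = i := fun x hx => by
    rw [← hord]
    exact Polynomial.natDegree_of_mem_normalizedFactors_cyclotomic (K := F) (p := p) (f := f) hKcard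
      hcop1 (Multiset.mem_toFinset.1 hx)
  have hprod : Polynomial.cyclotomic r F * (X - C 1) = X ^ r - C 1 := by
    rw [map_one, Polynomial.cyclotomic_prime_mul_X_sub_one]
  have hzP : (X - C 1 : F[X]) ∉ P := fun h => by
    have hd := UniqueFactorizationMonoid.dvd_of_mem_normalizedFactors (Multiset.mem_toFinset.1 h)
    rw [dvd_iff_isRoot, IsRoot, Polynomial.eval_one_cyclotomic_prime] at hd
    exact hri hd
  have hfac : ∀ x, x ∈ P ↔ StarFactor.Fac r x := by
    intro x
    constructor
    · intro hx
      have hx' := hx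
      rw [hP, Multiset.mem_toFinset] at hx'
      have hirr := UniqueFactorizationMonoid.irreducible_of_normalized_factor x hx'
      refine ⟨?_, hirr, ?_, fun e => hzP (e ▸ hx)⟩
      · rw [← UniqueFactorizationMonoid.normalize_normalized_factor x hx']
        exact Polynomial.monic_normalize hirr.ne_zero
      · rw [← hprod]
        exact (UniqueFactorizationMonoid.dvd_of_mem_normalizedFactors hx').mul_right _
    · rintro ⟨hm, hirr, hd, hne⟩
      rw [← hprod] at hd
      rcases hirr.prime.dvd_or_dvd hd with hd | hd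
      · obtain ⟨y, hy, hxy⟩ := UniqueFactorizationMonoid.exists_mem_normalizedFactors_of_dvd
          (cyclotomic_ne_zero r F) hirr hd
        rw [hP, Multiset.mem_toFinset]
        have : y = x := by
          rw [← UniqueFactorizationMonoid.normalize_normalized_factor y hy, ← hm.normalize_eq_self]
          exact normalize_eq_normalize_iff_associated.2 hxy.symm
        exact this ▸ hy
      · exact absurd (eq_of_monic_of_associated hm (monic_X_sub_C 1)
          (hirr.associated_of_dvd (irreducible_X_sub_C 1) hd)) hne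
  have hdeg : ∀ x : F[X], StarFactor.Fac r x → x.natDegree = i := fun x hx => hPdeg x ((hfac x).2 hx)
  have hadm : ∀ s : Multiset F[X], Admissible r (2 * m) 1 s ↔
      (∀ x ∈ s, x = X - C 1 ∨ x ∈ P) ∧ (s.map Polynomial.natDegree).sum = 2 * m := by
    intro s
    refine and_congr (forall₂_congr fun x _ => ⟨fun h => ?_, fun h => ?_⟩) Iff.rfl
    · by_cases hx : x = X - C 1
      · exact Or.inl hx
      · exact Or.inr ((hfac x).2 ⟨h.1, h.2.1, h.2.2, hx⟩)
    · rcases h with h | h
      · subst h
        exact ⟨monic_X_sub_C 1, irreducible_X_sub_C 1, by rw [← hprod]; exact dvd_mul_left _ _⟩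
      · exact ⟨((hfac x).1 h).monic, ((hfac x).1 h).irr, ((hfac x).1 h).dvd⟩
  have hS : Nat.card {s : Multiset F[X] // Admissible r (2 * m) 1 s ∧ s.map (StarFactor.star r) = s} =
      if Odd i then Nat.choose (m / i + t / 2) (t / 2) else Nat.choose (2 * m / i + t) t := by
    rw [Nat.card_congr (Equiv.subtypeEquivRight fun s => and_congr_left fun _ => hadm s)]
    split_ifs with hodd
    · rw [natCard_invariant Polynomial.natDegree (X - C 1) (natDegree_X_sub_C 1) P hzP i m hipos hPdeg
        (StarFactor.star r) (StarFactor.star_X_sub_one hri) fun x hx => ?_, hPcard]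
      have h := ((hfac x).1 hx).star_fac hri hdeg
      exact ⟨(hfac _).2 h.1, h.2, fun e => (Nat.not_even_iff_odd.2 hodd)
        ((((hfac x).1 hx).star_eq_iff hri hr2 hdeg).1 e)⟩
    · rw [← hPcard, ← Cfsg.Agent.S2568.natCard_weighted Polynomial.natDegree (X - C 1)
        (natDegree_X_sub_C 1) P hzP i (2 * m) hipos hPdeg]
      refine Nat.card_congr (Equiv.subtypeEquivRight fun s => ⟨fun h => h.1, fun h => ⟨h, ?_⟩⟩)
      conv_rhs => rw [← Multiset.map_id s]
      refine Multiset.map_congr rfl fun x hx => ?_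
      rcases h.1 x hx with h' | h'
      · rw [h', StarFactor.star_X_sub_one hri]; rfl
      · exact (((hfac x).1 h').star_eq_iff hri hr2 hdeg).2 (Nat.not_odd_iff_even.1 hodd)
  rw [← natCard_pow_classes (p := p) m r hr2 hri hdeg] at hS
  have hins : {C : ConjClasses ↥(Matrix.symplecticGroup (Fin m) F) |
      ∃ g : Matrix.symplecticGroup (Fin m) F, g ^ r = 1 ∧ ConjClasses.mk g = C} =
      insert 1 {C | ∃ g : Matrix.symplecticGroup (Fin m) F, ConjClasses.mk g = C ∧ orderOf g = r} := by
    ext C
    simp only [Set.mem_setOf_eq, Set.mem_insert_iff]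
    constructor
    · rintro ⟨g, hg, rfl⟩
      by_cases h1 : g = 1
      · exact Or.inl (by rw [h1]; rfl)
      · exact Or.inr ⟨g, rfl, orderOf_eq_prime hg h1⟩
    · rintro (rfl | ⟨g, rfl, hg⟩)
      · exact ⟨1, one_pow r, rfl⟩
      · exact ⟨g, hg ▸ pow_orderOf_eq_one g, rfl⟩
  have hnot : (1 : ConjClasses ↥(Matrix.symplecticGroup (Fin m) F)) ∉
      {C | ∃ g : Matrix.symplecticGroup (Fin m) F, ConjClasses.mk g = C ∧ orderOf g = r} := by
    rintro ⟨g, hg, ho⟩
    rw [ConjClasses.one_eq_mk_one, ConjClasses.mk_eq_mk_iff_isConj, isConj_one_left] at hg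
    rw [hg, orderOf_one] at ho
    exact hr.one_lt.ne ho
  have hc := congrArg Set.ncard hins
  rw [Set.ncard_insert_of_notMem hnot (Set.toFinite _), ← Nat.card_coe_set_eq,
    ← Nat.card_coe_set_eq] at hc
  simp only [Set.coe_setOf] at hc
  rw [hS] at hc
  split_ifs at hc ⊢ <;> omega

end Cfsg.Agent.S2645
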