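import Cfsg.Statements.S4417
import Mathlib

set_option autoImplicit false
open Cfsg

namespace Cfsg.Agent.S4417


open Module

theorem derivedSeries_succ_le_map {G : Type*} [Group G] (M : Subgroup G) (hM : commutator G ≤ M) :
    ∀ j : ℕ, derivedSeries G (j + 1) ≤ (derivedSeries M j).map M.subtype := by
  intro j
  induction j with
  | zero => rw [derivedSeries_one, derivedSeries_zero, ← MonoidHom.range_eq_map, Subgroup.range_subtype]; exact hM
  | succ j ih =>
    rw [derivedSeries_succ G (j + 1), derivedSeries_succ M j, Subgroup.map_commutator]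
    exact Subgroup.commutator_mono ih ih

theorem derivedSeries_one_le_of_comm {G H : Type*} [Group G] [Monoid H] (ρ : G →* H)
    (hc : ∀ a b : G, ρ a * ρ b = ρ b * ρ a) {x : G} (hx : x ∈ derivedSeries G 1) : ρ x = 1 := by
  rw [derivedSeries_one] at hx
  let ρu : G →* Hˣ := ρ.toHomUnits
  have hker : commutator G ≤ ρu.ker := by
    rw [_root_.commutator_def, Subgroup.commutator_le]
    intro a _ b _
    rw [MonoidHom.mem_ker, map_commutatorElement, commutatorElement_eq_one_iff_mul_comm]
    exact Units.ext (hc a b)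
  exact congrArg Units.val (MonoidHom.mem_ker.1 (hker hx))

/-- An operator of finite order prime to the characteristic acting trivially on an invariant subspace and
on its quotient is trivial. -/
theorem eq_one_of_sq {L V : Type*} [Field L] [AddCommGroup V] [Module L V] (T : Module.End L V) {m : ℕ}
    (hm : (m : L) ≠ 0) (hT : T ^ m = 1) (h : (T - 1) * (T - 1) = 0) : T = 1 := by
  have key : ∀ j : ℕ, T ^ j = 1 + (j : L) • (T - 1) := by
    intro j
    induction j with
    | zero => simp
    | succ j ih =>
      have hT' : (T - 1) * T = T - 1 := by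
        calc (T - 1) * T = (T - 1) * (T - 1) + (T - 1) := by rw [mul_sub, mul_one, sub_add_cancel]
          _ = T - 1 := by rw [h, zero_add]
      rw [pow_succ, ih, add_mul, one_mul, smul_mul_assoc, hT', Nat.cast_succ, add_smul, one_smul]
      abel
  have h1 := key m
  rw [hT] at h1
  exact sub_eq_zero.1 ((smul_eq_zero.1 (left_eq_add.1 h1)).resolve_left hm)

universe u

/-- Derived length of a `p`-group with a representation of degree `< 2 ^ k` in coprime characteristic. -/
theorem derived_trivial {L : Type*} [Field L] [IsAlgClosed L] {p : ℕ} [Fact p.Prime] (hp : (p : L) ≠ 0)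
    (k : ℕ) : ∀ (d : ℕ) {G : Type u} [Group G] [Finite G] {V : Type u} [AddCommGroup V] [Module L V]
    [FiniteDimensional L V], IsPGroup p G → ∀ ρ : G →* Module.End L V, finrank L V = d → d < 2 ^ k →
      ∀ g ∈ derivedSeries G k, ρ g = 1 := by
  induction k with
  | zero =>
    intro d G _ _ V _ _ _ hG ρ hd hlt g _
    have : Subsingleton V := finrank_zero_iff.1 (by rw [hd]; simpa using hlt)
    exact Subsingleton.elim _ _
  | succ k ihk =>
    intro d
    induction d using Nat.strong_induction_on with
    | _ d ihd =>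
    intro G _ _ V _ _ _ hG ρ hd hlt g hg
    rcases subsingleton_or_nontrivial V with hV | hV
    · exact Subsingleton.elim _ _
    classical
    by_cases hred : ∃ U : Submodule L V, U ≠ ⊥ ∧ U ≠ ⊤ ∧ ∀ a, ∀ v ∈ U, ρ a v ∈ U
    · obtain ⟨U, hU0, hU1, hU⟩ := hred
      let ρU : G →* Module.End L U :=
        { toFun := fun a => (ρ a).restrict (hU a)
          map_one' := LinearMap.ext fun v => Subtype.ext (by simp)
          map_mul' := fun a b => LinearMap.ext fun v => Subtype.ext (by simp) }
      let ρQ : G →* Module.End L (V ⧸ U) :=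
        { toFun := fun a => U.mapQ U (ρ a) (hU a)
          map_one' := Submodule.linearMap_qext _ (LinearMap.ext fun v => by simp)
          map_mul' := fun a b => Submodule.linearMap_qext _ (LinearMap.ext fun v => by simp) }
      have hUd : finrank L U < d := hd ▸ Submodule.finrank_lt hU1
      have hQd : finrank L (V ⧸ U) < d := by
        have h1 := Submodule.finrank_quotient_add_finrank U
        have h2 : 0 < finrank L U := Nat.pos_of_ne_zero fun h => hU0 (Submodule.finrank_eq_zero.1 h)
        omega
      have h1 := ihd _ hUd hG ρU rfl (hUd.trans hlt) g hg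
      have h2 := ihd _ hQd hG ρQ rfl (hQd.trans hlt) g hg
      refine eq_one_of_sq (ρ g) (m := Nat.card G) ?_ (by rw [← map_pow, pow_card_eq_one', map_one]) ?_
      · obtain ⟨j, hj⟩ := hG.exists_card_eq
        rw [hj, Nat.cast_pow]
        exact pow_ne_zero _ hp
      · refine LinearMap.ext fun v => ?_
        have hv : ρ g v - v ∈ U := by
          rw [← Submodule.Quotient.eq U]
          exact LinearMap.congr_fun h2 (Submodule.Quotient.mk v)
        have h3 := congrArg Subtype.val (LinearMap.congr_fun h1 ⟨_, hv⟩)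
        change ρ g (ρ g v - v) = ρ g v - v at h3
        rw [Module.End.mul_apply, LinearMap.sub_apply, Module.End.one_apply, LinearMap.sub_apply,
          Module.End.one_apply, h3, sub_self, LinearMap.zero_apply]
    push Not at hred
    by_cases hab : ∀ a b : G, ρ a * ρ b = ρ b * ρ a
    · exact derivedSeries_one_le_of_comm ρ hab (derivedSeries_antitone G (Nat.succ_le_succ (Nat.zero_le k)) hg)
    -- the image is nonabelian: take a non-central element of the second centre
    let ρu : G →* (Module.End L V)ˣ := ρ.toHomUnits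
    let H := ρu.range
    have hHp : IsPGroup p H := hG.of_surjective ρu.rangeRestrict ρu.rangeRestrict_surjective
    have hcH : Subgroup.center H ≠ ⊤ := fun h => hab fun a b => by
      have hb : (⟨ρu b, b, rfl⟩ : H) ∈ Subgroup.center H := h ▸ Subgroup.mem_top _
      exact congrArg (fun x : H => ((x : (Module.End L V)ˣ) : Module.End L V))
        (Subgroup.mem_center_iff.1 hb ⟨ρu a, a, rfl⟩)
    haveI : Finite H := Finite.of_surjective ρu.rangeRestrict ρu.rangeRestrict_surjective
    haveI : Nontrivial (H ⧸ Subgroup.center H) := QuotientGroup.nontrivial_iff.2 hcH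
    haveI := (hHp.to_quotient (Subgroup.center H)).center_nontrivial
    obtain ⟨yb, hyb⟩ := exists_ne (1 : Subgroup.center (H ⧸ Subgroup.center H))
    obtain ⟨yH, hyH⟩ := QuotientGroup.mk_surjective (yb : H ⧸ Subgroup.center H)
    obtain ⟨⟨_, y, rfl⟩, rfl⟩ : ∃ z : H, z = yH := ⟨yH, rfl⟩
    have hync : (⟨ρu y, y, rfl⟩ : H) ∉ Subgroup.center H := fun h =>
      hyb (Subtype.ext (hyH.symm.trans ((QuotientGroup.eq_one_iff _).2 h)))
    have hyc : ∀ a : G, ∀ b : G, ρ b * ρ (a * y * a⁻¹ * y⁻¹) = ρ (a * y * a⁻¹ * y⁻¹) * ρ b := by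
      intro a b
      have h1 : ρu.rangeRestrict (a * y * a⁻¹ * y⁻¹) ∈ Subgroup.center H := by
        rw [← QuotientGroup.eq_one_iff]
        simp only [map_mul, map_inv, QuotientGroup.mk_mul, QuotientGroup.mk_inv]
        have h2 := Subgroup.mem_center_iff.1 yb.2 ((ρu.rangeRestrict a : H) : H ⧸ Subgroup.center H)
        rw [← hyH] at h2
        rw [show ρu.rangeRestrict y = (⟨ρu y, y, rfl⟩ : H) from rfl, h2, mul_inv_cancel_right, mul_inv_cancel]
      exact congrArg (fun x : H => ((x : (Module.End L V)ˣ) : Module.End L V))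
        (Subgroup.mem_center_iff.1 h1 (ρu.rangeRestrict b))
    -- Schur: these commutators are scalars
    have hsc : ∀ a : G, ∃ c : L, ρ (a * y * a⁻¹ * y⁻¹) = c • (1 : Module.End L V) := by
      intro a
      obtain ⟨c, hc⟩ := Module.End.exists_eigenvalue (ρ (a * y * a⁻¹ * y⁻¹))
      refine ⟨c, LinearMap.ext fun v => ?_⟩
      let U := (ρ (a * y * a⁻¹ * y⁻¹)).eigenspace c
      have hU : ∀ b, ∀ v ∈ U, ρ b v ∈ U := fun b v hv => by
        rw [Module.End.mem_eigenspace_iff] at hv ⊢
        rw [← Module.End.mul_apply, ← hyc, Module.End.mul_apply, hv, map_smul]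
      have htop : U = ⊤ := by
        by_contra h
        obtain ⟨b, v, hv, hnot⟩ := hred U hc h
        exact hnot (hU b v hv)
      exact Module.End.mem_eigenspace_iff.1 (htop ▸ Submodule.mem_top : v ∈ U)
    choose lam hlam using hsc
    have hinv : ∀ a v, ρ a (ρ a⁻¹ v) = v := fun a v => by
      rw [← Module.End.mul_apply, ← map_mul, mul_inv_cancel, map_one, Module.End.one_apply]
    have hconj : ∀ a v, ρ a (ρ y v) = lam a • ρ y (ρ a v) := fun a v => by
      have e : a * y = (a * y * a⁻¹ * y⁻¹) * y * a := by group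
      rw [← Module.End.mul_apply, ← map_mul, e, map_mul, map_mul, hlam, smul_mul_assoc, one_mul]
      rfl
    obtain ⟨v₀, hv₀⟩ := exists_ne (0 : V)
    have huniq : ∀ {c c' : L}, ∀ {v : V}, v ≠ 0 → c • v = c' • v → c = c' := fun hv h =>
      smul_left_injective L hv h
    have hlam_mul : ∀ a b, lam (a * b) = lam a * lam b := by
      intro a b
      refine huniq (v := ρ y (ρ (a * b) v₀)) (fun h => hv₀ ?_) ?_
      · have h1 := congrArg (ρ (a * b)⁻¹) (congrArg (ρ y⁻¹) h)
        rw [map_zero, map_zero, ← Module.End.mul_apply (ρ y⁻¹), ← map_mul, inv_mul_cancel, map_one,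
          Module.End.one_apply, ← Module.End.mul_apply, ← map_mul, inv_mul_cancel, map_one,
          Module.End.one_apply] at h1
        exact h1
      · rw [← hconj, map_mul, Module.End.mul_apply, hconj, map_smul, hconj, smul_smul, mul_comm]
        rfl
    have hlam_one : lam 1 = 1 := by
      refine huniq (v := ρ y v₀) (fun h => hv₀ ?_) ?_
      · have h1 := congrArg (ρ y⁻¹) h
        rw [map_zero, ← Module.End.mul_apply, ← map_mul, inv_mul_cancel, map_one, Module.End.one_apply] at h1
        exact h1
      · have := hconj 1 v₀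
        simp only [map_one, Module.End.one_apply] at this
        rw [one_smul]
        exact this.symm
    let lamH : G →* L := { toFun := lam, map_one' := hlam_one, map_mul' := hlam_mul }
    let M : Subgroup G := lamH.toHomUnits.ker
    have hM : ∀ a, a ∈ M ↔ lam a = 1 := fun a => by
      rw [MonoidHom.mem_ker, Units.ext_iff]
      rfl
    have hcomm : commutator G ≤ M := by
      rw [_root_.commutator_def, Subgroup.commutator_le]
      intro a _ b _
      rw [MonoidHom.mem_ker, map_commutatorElement, commutatorElement_eq_one_iff_mul_comm, mul_comm]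
    obtain ⟨a₀, ha₀⟩ : ∃ a, lam a ≠ 1 := by
      by_contra! h
      refine hync (Subgroup.mem_center_iff.2 ?_)
      rintro ⟨_, b, rfl⟩
      refine Subtype.ext (Units.ext (LinearMap.ext fun v => ?_))
      show ρ b (ρ y v) = ρ y (ρ b v)
      rw [hconj, h, one_smul]
    -- the eigenspaces of `y`
    have hWinv : ∀ a ∈ M, ∀ μ : L, ∀ v ∈ (ρ y).eigenspace μ, ρ a v ∈ (ρ y).eigenspace μ := by
      intro a ha μ v hv
      rw [Module.End.mem_eigenspace_iff] at hv ⊢
      have h1 := hconj a v
      rw [hv, map_smul, (hM a).1 ha, one_smul] at h1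
      exact h1.symm
    obtain ⟨g', hg', rfl⟩ := derivedSeries_succ_le_map M hcomm k hg
    obtain ⟨μ, hμ⟩ := Module.End.exists_eigenvalue (ρ y)
    -- the union of eigenspaces spans
    have hsum : (⨆ ν : L, (ρ y).eigenspace ν) = ⊤ := by
      by_contra htop
      obtain ⟨b, v, hv, hnot⟩ := hred _ (fun h => hμ (le_bot_iff.1 (h ▸ le_iSup (fun ν : L => (ρ y).eigenspace ν) μ))) htop
      apply hnot
      have hle : (⨆ ν : L, (ρ y).eigenspace ν) ≤ (⨆ ν : L, (ρ y).eigenspace ν).comap (ρ b) := by
        refine iSup_le fun ν w hw => ?_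
        refine Submodule.mem_iSup_of_mem ((lam b)⁻¹ * ν) ?_
        rw [Module.End.mem_eigenspace_iff] at hw ⊢
        have h1 := hconj b w
        rw [hw, map_smul] at h1
        have hl : lam b ≠ 0 := fun e => by
          have h2 := hlam_mul b b⁻¹
          rw [mul_inv_cancel, hlam_one, e, zero_mul] at h2
          exact one_ne_zero h2
        rw [mul_smul, h1, inv_smul_smul₀ hl]
      exact hle hv
    have key : ∀ ν : L, ∀ v ∈ (ρ y).eigenspace ν, ρ (g' : G) v = v := by
      intro ν
      let W := (ρ y).eigenspace ν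
      by_cases hW : W = ⊥
      · intro v hv
        have hv' : v ∈ W := hv
        rw [hW, Submodule.mem_bot] at hv'
        rw [hv', map_zero]
      let ρW : M →* Module.End L W :=
        { toFun := fun a => (ρ (a : G)).restrict (hWinv a a.2 ν)
          map_one' := LinearMap.ext fun v => Subtype.ext (by simp)
          map_mul' := fun a b => LinearMap.ext fun v => Subtype.ext (by simp) }
      -- a disjoint translate of the same dimension
      have hl0 : lam a₀ ≠ 0 := fun e => by
        have h2 := hlam_mul a₀ a₀⁻¹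
        rw [mul_inv_cancel, hlam_one, e, zero_mul] at h2
        exact one_ne_zero h2
      have hν : ν ≠ 0 := fun e => hW (by
        refine (Submodule.eq_bot_iff _).2 fun v hv => ?_
        rw [Module.End.mem_eigenspace_iff, e, zero_smul] at hv
        have h1 := congrArg (ρ y⁻¹) hv
        rwa [map_zero, ← Module.End.mul_apply, ← map_mul, inv_mul_cancel, map_one, Module.End.one_apply] at h1)
      let W' := W.map (ρ a₀)
      have hW' : W' ≤ (ρ y).eigenspace ((lam a₀)⁻¹ * ν) := by
        rintro _ ⟨w, hw, rfl⟩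
        rw [Module.End.mem_eigenspace_iff]
        have h1 := hconj a₀ w
        rw [Module.End.mem_eigenspace_iff.1 hw, map_smul] at h1
        rw [mul_smul, h1, inv_smul_smul₀ hl0]
      have hdis : Disjoint W W' := by
        refine (((ρ y).eigenspaces_iSupIndep.pairwiseDisjoint fun e : ν = (lam a₀)⁻¹ * ν => ha₀ ?_)).mono_right hW'
        exact inv_eq_one.1 (mul_right_cancel₀ hν (e.symm.trans (one_mul ν).symm))
      have hinj : Function.Injective (ρ a₀) := Function.LeftInverse.injective (g := ρ a₀⁻¹) fun v => by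
        rw [← Module.End.mul_apply, ← map_mul, inv_mul_cancel, map_one, Module.End.one_apply]
      have hdim : finrank L W' = finrank L W := (Submodule.equivMapOfInjective (ρ a₀) hinj W).finrank_eq.symm
      have hlt' : finrank L W < 2 ^ k := by
        have h1 := Submodule.finrank_sup_add_finrank_inf_eq W W'
        rw [hdis.eq_bot, finrank_bot, hdim] at h1
        have h2 := Submodule.finrank_le (W ⊔ W')
        rw [pow_succ] at hlt
        omega
      intro v hv
      have := ihk _ (hG.to_subgroup M) ρW rfl hlt' g' hg'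
      exact congrArg Subtype.val (LinearMap.congr_fun this ⟨v, hv⟩)
    refine LinearMap.ext fun v => ?_
    have hv : v ∈ ⨆ ν : L, (ρ y).eigenspace ν := hsum ▸ Submodule.mem_top
    exact Submodule.iSup_induction (motive := fun w => ρ (g' : G) w = w) _ hv key (map_zero _)
      fun a b ha hb => by rw [map_add, ha, hb]

theorem finrank_sum_le {L V : Type*} [Field L] [AddCommGroup V] [Module L V] [FiniteDimensional L V]
    {ι : Type*} [DecidableEq ι] (U : ι → Submodule L V) (hU : iSupIndep U) (s : Finset ι) :
    ∑ i ∈ s, finrank L (U i) ≤ finrank L V := by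
  suffices h : ∑ i ∈ s, finrank L (U i) = finrank L (s.sup U : Submodule L V) from
    h ▸ Submodule.finrank_le _
  induction s using Finset.induction_on with
  | empty => rw [Finset.sum_empty, Finset.sup_empty, finrank_bot]
  | insert a s ha ih =>
    have hdis : Disjoint (U a) (s.sup U) := by
      rw [Finset.sup_eq_iSup]
      exact hU.disjoint_biSup (y := (s : Set ι)) ha
    rw [Finset.sum_insert ha, Finset.sup_insert, ih,
      ← Submodule.finrank_sup_add_finrank_inf_eq, hdis.eq_bot, finrank_bot, add_zero]

set_option maxHeartbeats 1000000 in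
/-- Let F be a field with q elements, p a prime not dividing q, and e the multiplicative order of q modulo p; assume e ≤ n. Then every p-subgroup of GL_n(F) has derived length at most ⌊log₂(n/e)⌋ + 1: that term of its derived series is trivial (n/e is the integer quotient). -/
theorem result {F : Type*} [Field F] [Fintype F] (q : ℕ) (hF : Fintype.card F = q) (p : ℕ) [Fact p.Prime] (hpq : ¬ p ∣ q) (n e : ℕ) (he : e = orderOf (q : ZMod p)) (hen : e ≤ n) (P : Subgroup (GL (Fin n) F)) (hP : IsPGroup p P) : derivedSeries ↥P (Nat.log 2 (n / e) + 1) = ⊥ := by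
  classical
  haveI := hP
  set k := Nat.log 2 (n / e) + 1 with hk
  have hp : p.Prime := Fact.out
  obtain ⟨ℓ, hℓ⟩ := CharP.exists F
  obtain ⟨f, hℓp, hcard⟩ := FiniteField.card F ℓ
  haveI : Fact ℓ.Prime := ⟨hℓp⟩
  let L := AlgebraicClosure F
  haveI : CharP L ℓ := charP_of_injective_algebraMap (algebraMap F L).injective ℓ
  have hpℓ : ¬ ℓ ∣ p := fun h => hpq (by
    rw [← hF, hcard, ← (Nat.prime_dvd_prime_iff_eq hℓp hp).1 h]
    exact dvd_pow_self ℓ f.pos.ne')
  have hpL : (p : L) ≠ 0 := fun h => hpℓ ((CharP.cast_eq_zero_iff L ℓ p).1 h)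
  have hq0 : (q : ZMod p) ≠ 0 := fun h => hpq ((CharP.cast_eq_zero_iff (ZMod p) p q).1 h)
  have he0 : 0 < e := by
    rw [he]
    exact orderOf_pos_iff.2 ((isUnit_iff_ne_zero.2 hq0).isOfFinOrder)
  let ρ : P →* Module.End L (Fin n → L) :=
    (Matrix.toLinAlgEquiv' (R := L) (n := Fin n)).toMonoidHom.comp
      ((algebraMap F L).mapMatrix.toMonoidHom.comp ((Units.coeHom _).comp P.subtype))
  have hρinj : Function.Injective ρ := (Matrix.toLinAlgEquiv' (R := L) (n := Fin n)).injective.comp
    ((Matrix.map_injective (algebraMap F L).injective).comp (Units.val_injective.comp P.subtype_injective))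
  rw [eq_bot_iff]
  intro g hg
  rw [Subgroup.mem_bot]
  apply hρinj
  rw [map_one]
  -- the averaging operator over the derived subgroup
  set D := derivedSeries P k with hD
  haveI : Fintype D := Fintype.ofFinite D
  haveI : D.Normal := derivedSeries_normal P k
  let T : Module.End L (Fin n → L) := ∑ x : D, ρ x
  have hDc : ∀ (a : P) (x : D), a * (x : P) * a⁻¹ ∈ D := fun a x => (derivedSeries_normal P k).conj_mem _ x.2 a
  have hTa : ∀ a : P, ρ a * T = T * ρ a := by
    intro a
    simp only [T, Finset.mul_sum, Finset.sum_mul]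
    refine Fintype.sum_equiv
      ((MulAut.conjNormal (H := D) a).toEquiv) _ _ fun x => ?_
    rw [← map_mul, ← map_mul]
    congr 1
    show a * (x : P) = ((MulAut.conjNormal (H := D) a x : D) : P) * a
    rw [MulAut.conjNormal_apply, inv_mul_cancel_right]
  have hDT : ∀ x : D, ρ (x : P) * T = T := by
    intro x
    simp only [T, Finset.mul_sum]
    refine Fintype.sum_equiv (Equiv.mulLeft x) _ _ fun w => ?_
    rw [← map_mul]
    rfl
  have hcardD : (Fintype.card D : L) ≠ 0 := by
    obtain ⟨j, hj⟩ := (hP.to_subgroup D).exists_card_eq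
    rw [← Nat.card_eq_fintype_card, hj, Nat.cast_pow]
    exact pow_ne_zero _ hpL
  by_cases hker : LinearMap.ker T = ⊥
  · have hsurj : Function.Surjective T := LinearMap.injective_iff_surjective.1 (LinearMap.ker_eq_bot.1 hker)
    refine LinearMap.ext fun v => ?_
    obtain ⟨w, rfl⟩ := hsurj v
    exact LinearMap.congr_fun (hDT ⟨g, hg⟩) w
  exfalso
  obtain ⟨U, hUle, hU⟩ := exists_minimal_le_of_wellFoundedLT
    (fun U : Submodule L (Fin n → L) => U ≠ ⊥ ∧ U ≤ LinearMap.ker T ∧ ∀ a, ∀ v ∈ U, ρ a v ∈ U)
    (LinearMap.ker T) ⟨hker, le_rfl, fun a v hv => by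
      rw [LinearMap.mem_ker] at hv ⊢
      rw [← Module.End.mul_apply, ← hTa, Module.End.mul_apply, hv, map_zero]⟩
  obtain ⟨⟨hU0, hUT, hUinv⟩, hUmin⟩ := hU
  suffices hfix : ∀ x : D, ∀ u ∈ U, ρ (x : P) u = u by
    obtain ⟨u, hu, hu0⟩ := U.ne_bot_iff.1 hU0
    have h1 : T u = (Fintype.card D : L) • u := by
      simp only [T, LinearMap.sum_apply]
      rw [Finset.sum_congr rfl (fun x _ => hfix x u hu), Finset.sum_const, Finset.card_univ,
        Nat.cast_smul_eq_nsmul L]
    rw [LinearMap.mem_ker.1 (hUT hu)] at h1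
    exact hu0 ((smul_eq_zero.1 h1.symm).resolve_left hcardD)
  let ρU : P →* Module.End L U :=
    { toFun := fun a => (ρ a).restrict (hUinv a)
      map_one' := LinearMap.ext fun v => Subtype.ext (by simp)
      map_mul' := fun a b => LinearMap.ext fun v => Subtype.ext (by simp) }
  by_cases htriv : ∀ a, ρU a = 1
  · exact fun x u hu => congrArg Subtype.val (LinearMap.congr_fun (htriv x) ⟨u, hu⟩)
  push Not at htriv
  suffices hdim : Module.finrank L U < 2 ^ k by
    intro x u hu
    exact congrArg Subtype.val
      (LinearMap.congr_fun (derived_trivial hpL k _ hP ρU rfl hdim (x : P) x.2) ⟨u, hu⟩)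
  -- an element of order `p` modulo the kernel which is central there
  let ρu : P →* (Module.End L U)ˣ := ρU.toHomUnits
  let H := ρu.range
  have hHp : IsPGroup p H := hP.of_surjective ρu.rangeRestrict ρu.rangeRestrict_surjective
  haveI : Nontrivial H := by
    obtain ⟨a, ha⟩ := htriv
    exact ⟨⟨⟨ρu a, a, rfl⟩, 1, fun h => ha (congrArg (fun z : H => ((z : (Module.End L U)ˣ) : Module.End L U)) h)⟩⟩
  haveI := hHp.center_nontrivial
  have hdvd : p ∣ Nat.card (Subgroup.center H) := by
    obtain ⟨j, hj, hjc⟩ := (hHp.to_subgroup _).nontrivial_iff_card.1 (inferInstance : Nontrivial (Subgroup.center H))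
    exact hjc ▸ dvd_pow_self p hj.ne'
  haveI : Finite H := Finite.of_surjective ρu.rangeRestrict ρu.rangeRestrict_surjective
  obtain ⟨⟨⟨_, z, rfl⟩, hzc⟩, hzo⟩ := exists_prime_orderOf_dvd_card' p hdvd
  rw [← Subgroup.orderOf_coe, ← Subgroup.orderOf_coe, ← orderOf_units] at hzo
  have hzo' : orderOf (ρU z) = p := hzo
  have hzcomm : ∀ a, ρU a * ρU z = ρU z * ρU a := fun a =>
    congrArg (fun w : H => ((w : (Module.End L U)ˣ) : Module.End L U)) (Subgroup.mem_center_iff.1 hzc ⟨ρu a, a, rfl⟩)
  haveI : Nontrivial U := Submodule.nontrivial_iff_ne_bot.2 hU0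
  obtain ⟨ζ, hζ⟩ := Module.End.exists_eigenvalue (ρU z)
  have hscal : ∀ u ∈ U, ρ z u = ζ • u := by
    let E : Submodule L (Fin n → L) := ((ρU z).eigenspace ζ).map U.subtype
    have hE : U ≤ E := hUmin ⟨fun h => hζ (by
        exact Submodule.map_injective_of_injective U.injective_subtype (h.trans (Submodule.map_bot _).symm)), (Submodule.map_subtype_le _ _).trans hUT, fun a v hv => by
        obtain ⟨w, hw, rfl⟩ := hv
        refine ⟨ρU a w, ?_, rfl⟩
        rw [SetLike.mem_coe, Module.End.mem_eigenspace_iff] at hw ⊢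
        rw [← Module.End.mul_apply, ← hzcomm, Module.End.mul_apply, hw, map_smul]⟩ (Submodule.map_subtype_le _ _)
    intro u hu
    obtain ⟨w, hw, rfl⟩ := hE hu
    exact congrArg Subtype.val (Module.End.mem_eigenspace_iff.1 hw)
  have hζp : orderOf ζ = p := by
    have hpow : ∀ j : ℕ, ρU z ^ j = ζ ^ j • (1 : Module.End L U) := fun j => by
      have e : ρU z = ζ • (1 : Module.End L U) := LinearMap.ext fun w => Subtype.ext (hscal w w.2)
      rw [e, smul_pow, one_pow]
    have h1 := hpow p
    rw [← hzo', pow_orderOf_eq_one, hzo'] at h1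
    obtain ⟨w, hw⟩ := exists_ne (0 : U)
    have h1' := LinearMap.congr_fun h1 w
    rw [LinearMap.smul_apply, Module.End.one_apply] at h1'
    refine orderOf_eq_prime (smul_left_injective L hw (show ζ ^ p • w = (1 : L) • w by rw [one_smul]; exact h1'.symm)) fun hz1 => ?_
    have h2 := hpow 1
    rw [pow_one, pow_one, hz1, one_smul] at h2
    rw [h2, orderOf_one] at hzo'
    exact hp.ne_one hzo'.symm
  -- Frobenius twists
  have hq : ∀ i : ℕ, q ^ i = ℓ ^ ((f : ℕ) * i) := fun i => by rw [← hF, hcard, pow_mul]
  have hadd : ∀ (i : ℕ) (a b : L), (a + b) ^ q ^ i = a ^ q ^ i + b ^ q ^ i := fun i a b => by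
    rw [hq, add_pow_char_pow]
  let σ : ℕ → (Fin n → L) →+ (Fin n → L) := fun i =>
    { toFun := fun v j => v j ^ q ^ i
      map_zero' := funext fun j => zero_pow (by rw [hq]; exact pow_ne_zero _ hℓp.ne_zero)
      map_add' := fun v w => funext fun j => hadd i _ _ }
  have hσsmul : ∀ i (c : L) v, σ i (c • v) = c ^ q ^ i • σ i v := fun i c v => funext fun j => mul_pow c (v j) _
  have hσinj : ∀ i, Function.Injective (σ i) := fun i => (injective_iff_map_eq_zero _).2 fun v hv =>
    funext fun j => eq_zero_of_pow_eq_zero (congrFun hv j)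
  have hfix : ∀ (i : ℕ) (x : F), x ^ q ^ i = x := fun i x => by rw [← hF, FiniteField.pow_card_pow]
  have hσρ : ∀ i (a : P) v, ρ a (σ i v) = σ i (ρ a v) := by
    intro i a v
    funext j
    show (Matrix.toLinAlgEquiv' (((a : GL (Fin n) F) : Matrix (Fin n) (Fin n) F).map (algebraMap F L))) (σ i v) j
      = ((Matrix.toLinAlgEquiv' (((a : GL (Fin n) F) : Matrix (Fin n) (Fin n) F).map (algebraMap F L))) v j) ^ q ^ i
    simp only [Matrix.toLinAlgEquiv'_apply, Matrix.mulVec, dotProduct, Matrix.map_apply]
    rw [hq, sum_pow_char_pow]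
    refine Finset.sum_congr rfl fun x _ => ?_
    rw [mul_pow, ← hq, ← map_pow, hfix]
    rfl
  let W : Fin e → Submodule L (Fin n → L) := fun i => (ρ z).eigenspace (ζ ^ q ^ (i : ℕ))
  have hmu : Function.Injective fun i : Fin e => ζ ^ q ^ (i : ℕ) := by
    intro i j h
    have h1 : ((q ^ (i : ℕ) : ℕ) : ZMod p) = ((q ^ (j : ℕ) : ℕ) : ZMod p) := by
      rw [ZMod.natCast_eq_natCast_iff, ← hζp]
      exact (IsOfFinOrder.pow_eq_pow_iff_modEq (orderOf_pos_iff.1 (hζp.symm ▸ hp.pos))).1 h
    rw [Nat.cast_pow, Nat.cast_pow] at h1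
    refine Fin.ext (pow_injOn_Iio_orderOf ?_ ?_ h1)
    · exact lt_of_lt_of_eq i.2 he
    · exact lt_of_lt_of_eq j.2 he
  have hWind : iSupIndep W := (ρ z).eigenspaces_iSupIndep.comp hmu
  have hWge : ∀ i : Fin e, Module.finrank L U ≤ Module.finrank L (W i) := by
    intro i
    let B := Module.finBasis L U
    let vs : Fin (Module.finrank L U) → W i := fun j => ⟨σ i (B j : Fin n → L), by
      rw [Module.End.mem_eigenspace_iff, hσρ, hscal _ (B j).2, hσsmul]⟩
    have hli : LinearIndependent L vs := by
      refine Fintype.linearIndependent_iff.2 fun c hc => ?_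
      have hroot : ∀ j, ∃ a : L, a ^ q ^ (i : ℕ) = c j := fun j =>
        IsAlgClosed.exists_pow_nat_eq (c j) (by rw [hq]; exact pow_pos hℓp.pos _)
      choose a ha using hroot
      have h2 : σ i (∑ j, a j • (B j : Fin n → L)) = 0 := by
        rw [map_sum]
        have h3 := congrArg Subtype.val hc
        simp only [Submodule.coe_sum, Submodule.coe_smul, Submodule.coe_zero] at h3
        rw [← h3]
        exact Finset.sum_congr rfl fun j _ => by rw [hσsmul, ha]
      have h4 : ∑ j, a j • B j = 0 := Subtype.ext (by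
        simp only [Submodule.coe_sum, Submodule.coe_smul, Submodule.coe_zero]
        exact (injective_iff_map_eq_zero _).1 (hσinj i) _ h2)
      intro j
      rw [← ha j, Fintype.linearIndependent_iff.1 B.linearIndependent a h4 j,
        zero_pow (by rw [hq]; exact pow_ne_zero _ hℓp.ne_zero)]
    simpa using hli.fintype_card_le_finrank
  have hsum := finrank_sum_le W hWind Finset.univ
  rw [Module.finrank_fin_fun] at hsum
  have h5 : e * Module.finrank L U ≤ n := by
    refine le_trans ?_ hsum
    have := Finset.card_nsmul_le_sum Finset.univ (fun i => Module.finrank L (W i)) _ fun i _ => hWge i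
    simpa using this
  have h6 : Module.finrank L U ≤ n / e := (Nat.le_div_iff_mul_le he0).2 (by rw [mul_comm]; exact h5)
  exact h6.trans_lt (Nat.lt_pow_succ_log_self (by norm_num) _)

end Cfsg.Agent.S4417
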