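import Cfsg.Statements.S2648
import Cfsg.Agent.Lib.Classical.SylowWreathSp
import Cfsg.Agent.S0261
import Cfsg.Agent.S4417

set_option autoImplicit false
open Cfsg

namespace Cfsg.Agent.S2648

/-- Let q be odd, F a field with q elements and n ≥ 1. A Sylow 2-subgroup R of the symplectic group Sp_{2n}(F) has derived length exactly k + 1, where 2^k ≤ 2n < 2^{k+1}: the (k+1)-st term of its derived series is trivial and the k-th is not. -/
theorem result {F : Type*} [Field F] [Fintype F] [DecidableEq F] (q : ℕ) (hF : Fintype.card F = q) (hq : Odd q) (n : ℕ) (hn : 1 ≤ n) (R : Sylow 2 ↥(Matrix.symplecticGroup (Fin n) F)) : derivedSeries ↥(R : Subgroup ↥(Matrix.symplecticGroup (Fin n) F)) (Nat.log 2 (2 * n) + 1) = ⊥ ∧ derivedSeries ↥(R : Subgroup ↥(Matrix.symplecticGroup (Fin n) F)) (Nat.log 2 (2 * n)) ≠ ⊥ := by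
  classical
  open Classical.WreathSq Matrix in
  exact by
    subst hF
    have hq2 : (Fintype.card F : ZMod 2) = 1 := by
      obtain ⟨k, hk⟩ := hq
      rw [hk]
      push_cast
      rw [show (2 : ZMod 2) = 0 from rfl, zero_mul, zero_add]
    refine ⟨?_, ?_⟩
    · let ι : symplecticGroup (Fin n) F →* GL (Fin (2 * n)) F :=
        ((Matrix.reindexAlgEquiv F F (finSumFinEquiv.trans (finCongr (two_mul n).symm))).toRingEquiv.toMonoidHom.comp
          (symplecticGroup (Fin n) F).subtype).toHomUnits
      have hι : Function.Injective ι := fun x y h => Subtype.ext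
        ((Matrix.reindexAlgEquiv F F _).injective (congrArg Units.val h))
      have h := Cfsg.Agent.S4417.result (Fintype.card F) rfl 2
        (fun h => Nat.not_even_iff_odd.2 hq (even_iff_two_dvd.2 h)) (2 * n) 1
        (by rw [hq2, orderOf_one]) (by omega) _ (R.2.map ι)
      rw [Nat.div_one] at h
      let e := ((R : Subgroup (symplecticGroup (Fin n) F)).equivMapOfInjective ι hι)
      have h1 := map_derivedSeries_le_derivedSeries e.toMonoidHom (Nat.log 2 (2 * n) + 1)
      rwa [h, le_bot_iff, Subgroup.map_eq_bot_iff_of_injective _ e.injective] at h1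
    · obtain ⟨Q⟩ : Nonempty (Sylow 2 (SpecialLinearGroup (Fin 2) F)) := inferInstance
      have hQ : derivedSeries (Q : Subgroup (SpecialLinearGroup (Fin 2) F)) 1 ≠ ⊥ := by
        intro h
        obtain ⟨k, hk, ⟨e⟩⟩ := Cfsg.Agent.S0261.result hq Q
        have hm := map_derivedSeries_le_derivedSeries e.symm.toMonoidHom 1
        rw [h, le_bot_iff, Subgroup.map_eq_bot_iff_of_injective _ e.symm.injective] at hm
        have hc := Subgroup.commutator_eq_bot_iff_le_centralizer.1
          ((derivedSeries_succ _ 0).symm.trans hm)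
        have hc' := Subgroup.mem_centralizer_iff.1 (hc (show QuaternionGroup.a (1 : ZMod (2 * 2 ^ k)) ∈ _ from
          Subgroup.mem_top _)) (QuaternionGroup.xa 0) (Subgroup.mem_top _)
        rw [QuaternionGroup.xa_mul_a, QuaternionGroup.a_mul_xa, QuaternionGroup.xa.injEq, zero_add, zero_sub,
          eq_neg_iff_add_eq_zero, one_add_one_eq_two] at hc'
        have hc'' : ((2 : ℕ) : ZMod (2 * 2 ^ k)) = 0 := by exact_mod_cast hc'
        rw [ZMod.natCast_eq_zero_iff] at hc''
        have := Nat.le_of_dvd two_pos hc''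
        have := Nat.one_lt_two_pow_iff.2 (show k ≠ 0 by omega)
        omega
      obtain ⟨c, hc⟩ := IsPGroup.iff_card.1 Q.2
      obtain ⟨D, _, d, φ, hd, hder, hφ⟩ := exists_derived_perm hn hQ hc
      rw [show Nat.log 2 n + 1 = Nat.log 2 (2 * n) by
        rw [mul_comm, Nat.log_mul_base (by norm_num) (by omega)]] at hder
      obtain ⟨R', hR'⟩ := ((IsPGroup.of_card hd).of_surjective (spMono.comp φ).rangeRestrict
        (spMono.comp φ).rangeRestrict_surjective).exists_le_sylow
      let f : D →* (R : Subgroup (symplecticGroup (Fin n) F)) :=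
        ((R'.equiv R).toMonoidHom.comp (Subgroup.inclusion hR')).comp (spMono.comp φ).rangeRestrict
      have hf : Function.Injective f := ((R'.equiv R).injective.comp (Subgroup.inclusion_injective hR')).comp
        (MonoidHom.rangeRestrict_injective_iff.2 (spMono_injective.comp hφ))
      intro hbot
      have h1 := map_derivedSeries_le_derivedSeries f (Nat.log 2 (2 * n))
      rw [hbot, le_bot_iff, Subgroup.map_eq_bot_iff_of_injective _ hf] at h1
      exact hder h1

end Cfsg.Agent.S2648
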