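import Cfsg.Statements.S2653
import Cfsg.Agent.Lib.AltSection.Main

set_option autoImplicit false
open scoped MatrixGroups
open Cfsg

namespace Cfsg.Agent.S2653

/-- Alternating sections of finite linear groups. Let `F` be a finite field of characteristic `p` and `n` a natural number, and suppose some subgroup `H` of GL_n(F) has a normal subgroup `K` with `H ⧸ K` isomorphic to the alternating group of degree `r ≥ 9`. Then `n ≥ r - 2` when `p` divides `r`, and `n ≥ r - 1` otherwise (the smallest degree of a nontrivial projective representation of that alternating group in characteristic `p`). The same bound follows for every classical group with natural module of dimension `n` over `F`, since each is a section of a subgroup of GL_n(F). -/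
theorem result {F : Type*} [Field F] [Fintype F] (p : ℕ) [Fact p.Prime] [CharP F p]
    (n : ℕ) (r : ℕ) (H : Subgroup (GL (Fin n) F)) (K : Subgroup ↥H) [K.Normal]
    (h : Nonempty (↥H ⧸ K ≃* ↥(alternatingGroup (Fin r)))) (hr : 9 ≤ r) :
    r - 1 - (if p ∣ r then 1 else 0) ≤ n := by
  obtain ⟨e⟩ := h
  obtain ⟨m, rfl⟩ : ∃ m, r = m + 2 := ⟨r - 2, by omega⟩
  letI := ZMod.algebra F p
  haveI : Module.Finite (ZMod p) F := Module.Finite.of_finite
  let ι : F →+* AlgebraicClosure (ZMod p) :=
    (IsAlgClosed.lift (R := ZMod p) (S := F) (M := AlgebraicClosure (ZMod p))).toRingHom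
  let μ : GL (Fin n) F →* GL (Fin n) (AlgebraicClosure (ZMod p)) :=
    Matrix.GeneralLinearGroup.map ι
  have hμ : Function.Injective μ := fun a b hab => Units.ext <|
    Matrix.map_injective ι.injective (congrArg Units.val hab)
  let H' : Subgroup (GL (Fin n) (AlgebraicClosure (ZMod p))) := H.map μ
  let eH : ↥H ≃* ↥H' := H.equivMapOfInjective μ hμ
  haveI : Finite (GL (Fin n) F) := inferInstance
  haveI : Finite ↥H' := Finite.of_equiv _ eH.toEquiv
  let φ : ↥H' →* ↥(alternatingGroup (Fin (m + 2))) :=
    (e.toMonoidHom.comp (QuotientGroup.mk' K)).comp eH.symm.toMonoidHom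
  have hφ : Function.Surjective φ :=
    (e.surjective.comp (QuotientGroup.mk'_surjective K)).comp eH.symm.surjective
  let ρ : ↥H' →* Module.End (AlgebraicClosure (ZMod p)) (Fin n → AlgebraicClosure (ZMod p)) :=
    (Matrix.toLinAlgEquiv').toMonoidHom.comp ((Units.coeHom _).comp H'.subtype)
  have hρ : Function.Injective ρ := fun a b hab =>
    Subtype.ext (Units.ext (Matrix.toLinAlgEquiv'.injective hab))
  have hc := AltSection.holds (m := m) (by omega) n (AlgebraicClosure (ZMod p))
    (Fin n → AlgebraicClosure (ZMod p)) ↥H' ρ hρ φ hφ (by simp)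
  by_cases hp : p ∣ m + 2
  · rw [if_pos hp]
    have := hc.1
    omega
  · rw [if_neg hp]
    have := hc.2 fun h0 => hp ((CharP.cast_eq_zero_iff (AlgebraicClosure (ZMod p)) p _).1 h0)
    omega

end Cfsg.Agent.S2653
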