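import Cfsg.Statements.S2662
import Cfsg.Agent.Lib.Chevalley.Types.OrderE8
import Cfsg.Agent.Lib.Chevalley.FieldFix
-- Template for statement S2662 (row 2662; see /opt/grader/pristine/manifest.json for weights).
-- Copy to Cfsg/Agent/S2662.lean and replace the sorry. The statement below is byte-identical to the frozen
-- statement Cfsg.CfsgFrozen.S2662 (Cfsg/Statements/S2662.lean; the theorem Cfsg.lie17_e8_field_automorphism_of_prime_order_fixed_points);
-- the grader kernel-checks Cfsg.Agent.S2662.result against that frozen type. Keep the theorem IN THIS FILE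
-- (a `result` declared elsewhere and merely imported here is not credited); helpers may live anywhere
-- under Cfsg/Agent/.
-- import your own Cfsg.Agent.* helpers here

set_option autoImplicit false
open scoped MatrixGroups
open Cfsg

namespace Cfsg.Agent.S2662

/-- Centralizers of field automorphisms of prime order, type E₈. Let `F` be a finite field and `G` the Chevalley group of type E₈ over `F` (for this type the group generated by the root elements is the whole group of rational points, with trivial centre). Let `φ` be a field automorphism of `G` (it sends each root element `x_s(t)` to `x_s(σ t)` for a fixed automorphism `σ` of `F`) whose order is a prime `r`. Then `F` has `q₀ ^ r` elements for some prime power `q₀`, and the subgroup of elements fixed by `φ` is isomorphic to the Chevalley group of type E₈ over a field with `q₀` elements. -/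
theorem result {F : Type*} [Field F] [Fintype F]
    (φ : MulAut ↥(Cfsg.Lie.chevE8.group F)) (hφ : Cfsg.Lie.chevE8.IsFieldAut φ) (r : ℕ) (hr : r.Prime) (ho : orderOf φ = r) :
    ∃ (F₀ : Type) (_ : Field F₀) (_ : Fintype F₀), Fintype.card F = Fintype.card F₀ ^ r ∧
      Nonempty (↥((MulEquiv.toMonoidHom φ).eqLocus (MonoidHom.id ↥(Cfsg.Lie.chevE8.group F))) ≃* ↥(Cfsg.Lie.chevE8.group F₀)) := by
  refine Cfsg.Agent.Chevalley.FieldFix.eqLocus_equiv Cfsg.Agent.Chevalley.Types.E8.certified
    (Cfsg.Agent.Chevalley.FieldFix.torHom_injective Cfsg.Agent.Chevalley.Types.E8.certified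
      Cfsg.Agent.Chevalley.Types.OrderE8.hP Cfsg.Agent.Chevalley.Types.OrderE8.hQ
      Cfsg.Agent.Chevalley.Types.OrderE8.hQ' Cfsg.Agent.Chevalley.Types.OrderE8.hdiag ?_)
    (by decide) φ hφ r hr ho
  show ∀ i : Fin 8, Cfsg.Agent.Chevalley.Types.OrderE8.ed i = 1
  decide

end Cfsg.Agent.S2662
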