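import Cfsg.Statements.S2665
import Cfsg.Agent.Lib.Classical.LangGL

set_option autoImplicit false
open scoped MatrixGroups
open Cfsg

namespace Cfsg.Agent.S2665

open Matrix

/-- The Lang–Steinberg Theorem for the general linear group. Let `K` be an algebraically closed field of prime characteristic `p`, let `q = p^f` with `f ≥ 1`, and let `σ` be the endomorphism of GL_n(K) raising every matrix entry to the `q`-th power. Then every element `g` of GL_n(K) can be written `g = x · σ(x)⁻¹` for some `x` in GL_n(K): the map `x ↦ x σ(x)⁻¹` is surjective. -/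
theorem result {K : Type*} [Field K] [IsAlgClosed K] (p : ℕ) [Fact p.Prime] [CharP K p]
    (f : ℕ) (hf : 1 ≤ f) (n : ℕ) (g : GL (Fin n) K) :
    ∃ x : GL (Fin n) K, g = x * (Matrix.GeneralLinearGroup.map (iterateFrobenius K p f) x)⁻¹ := by
  have hq : 2 ≤ p ^ f :=
    le_trans (Fact.out : p.Prime).two_le (Nat.le_self_pow (by omega) p)
  let F : (Fin n → K) →+ (Fin n → K) :=
    AddMonoidHom.mk' (fun v i => iterateFrobenius K p f (v i)) fun v w => by
      funext i; exact map_add _ _ _
  let T : (Fin n → K) →+ (Fin n → K) :=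
    ((↑g : Matrix (Fin n) (Fin n) K).mulVecLin.toAddMonoidHom).comp F
  have hTdef : ∀ v, T v = (↑g : Matrix (Fin n) (Fin n) K) *ᵥ
      (fun i => iterateFrobenius K p f (v i)) := fun v => rfl
  have hT : ∀ (c : K) (v : Fin n → K), T (c • v) = c ^ p ^ f • T v := fun c v => by
    rw [hTdef, hTdef, ← Matrix.mulVec_smul]
    congr 1
    funext i
    simp [iterateFrobenius_def, mul_pow]
  have hinj : Function.Injective T := fun v w h => by
    rw [hTdef, hTdef] at h
    have h' := Matrix.mulVec_injective_of_isUnit g.isUnit h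
    funext i
    exact (iterateFrobenius K p f).injective (congrFun h' i)
  obtain ⟨b, hb⟩ := Cfsg.Agent.Classical.LangGL.exists_fixed_basis T hT hq hinj (n := n) (by simp)
  let M : Matrix (Fin n) (Fin n) K := (Pi.basisFun K (Fin n)).toMatrix b
  have hM : IsUnit M.det := by
    rw [← Matrix.isUnit_iff_isUnit_det]
    exact @isUnit_of_invertible _ _ M ((Pi.basisFun K (Fin n)).invertibleToMatrix b)
  let x : GL (Fin n) K := Matrix.GeneralLinearGroup.mk'' M hM
  refine ⟨x, eq_mul_inv_of_mul_eq (Units.ext ?_)⟩
  show (↑g : Matrix (Fin n) (Fin n) K) * M.map (iterateFrobenius K p f) = M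
  ext i j
  have h := congrFun (hb j) i
  rw [hTdef] at h
  simpa [Matrix.mul_apply, Matrix.mulVec, dotProduct, M, Module.Basis.toMatrix_apply] using h

end Cfsg.Agent.S2665
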