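import Cfsg.Statements.S2666
import Cfsg.Agent.Lib.Shintani.Basic

set_option autoImplicit false
open Cfsg

namespace Cfsg.Agent.S2666

open Cfsg.Agent.Shintani

/-- Shintani descent, in an abstract form. Let `σ` be an automorphism of a group `X` such that the maps `a ↦ a·σ(a)⁻¹` and `a ↦ a·σᵉ(a)⁻¹` are surjective on `X` (the Lang–Steinberg property, which holds when `X` is a connected algebraic group and `σ` a Steinberg endomorphism), where `e ≥ 1`. Write `G` for the subgroup of fixed points of `σᵉ` and `H` for the subgroup of fixed points of `σ`. The `G`-conjugacy classes in the coset `G σ` of the semidirect product of `G` by `σ` correspond to the orbits of `G` on itself under twisted conjugation `g ↦ k g σ(k)⁻¹`, and the `e`-th power of `g σ` has `G`-part the norm `g σ(g) ⋯ σ^(e-1)(g)`. For `g` in `G` and any `a` with `g = a σ(a)⁻¹`, put `x = σᵉ(a)⁻¹ a`. Then: (1) `x` lies in `H`, and `a⁻¹ · (g σ(g) ⋯ σ^(e-1)(g)) · a = x`; (2) for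 `g, g'` in `G` with such elements `a, b` and `x, x'`, the elements `g, g'` are twisted-conjugate under `G` if and only if `x, x'` are conjugate in `H`; (3) every element of `H` arises as such an `x`. So `g ↦ x` induces a well-defined bijection from the twisted `G`-classes of `G` onto the conjugacy classes of `H` (the Shintani map). -/
theorem result {X : Type*} [Group X] (σ : MulAut X) (e : ℕ) (he : 1 ≤ e)
    (hL : ∀ g : X, ∃ a : X, g = a * (σ a)⁻¹) (hLe : ∀ g : X, ∃ a : X, g = a * ((σ ^ e) a)⁻¹) :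
    (∀ g ∈ (MulEquiv.toMonoidHom (σ ^ e)).eqLocus (MonoidHom.id X), ∀ a : X, g = a * (σ a)⁻¹ →
        ((σ ^ e) a)⁻¹ * a ∈ (MulEquiv.toMonoidHom σ).eqLocus (MonoidHom.id X) ∧
          a⁻¹ * ((List.range e).map (fun i => (σ ^ i) g)).prod * a = ((σ ^ e) a)⁻¹ * a) ∧
    (∀ g ∈ (MulEquiv.toMonoidHom (σ ^ e)).eqLocus (MonoidHom.id X), ∀ g' ∈ (MulEquiv.toMonoidHom (σ ^ e)).eqLocus (MonoidHom.id X), ∀ a b : X,
        g = a * (σ a)⁻¹ → g' = b * (σ b)⁻¹ →
          ((∃ k ∈ (MulEquiv.toMonoidHom (σ ^ e)).eqLocus (MonoidHom.id X), g' = k * g * (σ k)⁻¹) ↔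
            (∃ h ∈ (MulEquiv.toMonoidHom σ).eqLocus (MonoidHom.id X), ((σ ^ e) b)⁻¹ * b = h * (((σ ^ e) a)⁻¹ * a) * h⁻¹))) ∧
    (∀ x ∈ (MulEquiv.toMonoidHom σ).eqLocus (MonoidHom.id X), ∃ g ∈ (MulEquiv.toMonoidHom (σ ^ e)).eqLocus (MonoidHom.id X), ∃ a : X,
        g = a * (σ a)⁻¹ ∧ ((σ ^ e) a)⁻¹ * a = x) := by
  refine ⟨?_, ?_, ?_⟩
  · intro g hg a ha
    subst ha
    refine ⟨(fixed_iff σ e a).1 hg, ?_⟩
    rw [prod_eq]
    group
  · intro g hg g' hg' a b ha hb
    subst ha hb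
    have ha' : σ (((σ ^ e) a)⁻¹ * a) = ((σ ^ e) a)⁻¹ * a := (fixed_iff σ e a).1 hg
    constructor
    · rintro ⟨k, hk, e1⟩
      rw [mem_eqLocus_iff] at hk
      refine ⟨b⁻¹ * (k * a), ?_, ?_⟩
      · rw [mem_eqLocus_iff, map_mul, map_inv, map_mul]
        have e2 : b * (σ b)⁻¹ = k * a * (σ k * σ a)⁻¹ := by rw [e1]; group
        calc (σ b)⁻¹ * (σ k * σ a) = b⁻¹ * (b * (σ b)⁻¹) * (σ k * σ a) := by group
          _ = b⁻¹ * (k * a) := by rw [e2]; group
      · have h3 : (σ ^ e) (b⁻¹ * (k * a)) = b⁻¹ * (k * a) := by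
          have h4 : σ (b⁻¹ * (k * a)) = b⁻¹ * (k * a) := by
            have e2 : b * (σ b)⁻¹ = k * a * (σ k * σ a)⁻¹ := by rw [e1]; group
            rw [map_mul, map_inv, map_mul]
            calc (σ b)⁻¹ * (σ k * σ a) = b⁻¹ * (b * (σ b)⁻¹) * (σ k * σ a) := by group
              _ = b⁻¹ * (k * a) := by rw [e2]; group
          clear * - h4
          induction e with
          | zero => rfl
          | succ i ih => rw [pow_succ_apply', h4, ih]
        rw [map_mul, map_inv, map_mul, hk] at h3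
        calc ((σ ^ e) b)⁻¹ * b = (((σ ^ e) b)⁻¹ * (k * (σ ^ e) a)) * (((σ ^ e) a)⁻¹ * k⁻¹ * b) := by
              group
          _ = b⁻¹ * (k * a) * (((σ ^ e) a)⁻¹ * k⁻¹ * b) := by rw [h3]
          _ = _ := by group
    · rintro ⟨h, hh, e1⟩
      rw [mem_eqLocus_iff] at hh
      refine ⟨b * h * a⁻¹, ?_, ?_⟩
      · have hhe : (σ ^ e) h = h := by
          clear * - hh
          induction e with
          | zero => rfl
          | succ i ih => rw [pow_succ_apply', hh, ih]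
        rw [mem_eqLocus_iff, map_mul, map_mul, map_inv, hhe]
        calc (σ ^ e) b * h * ((σ ^ e) a)⁻¹
            = (σ ^ e) b * (h * (((σ ^ e) a)⁻¹ * a) * h⁻¹) * h * a⁻¹ := by group
          _ = _ := by rw [← e1]; group
      · rw [map_mul, map_mul, map_inv, hh]
        group
  · intro x hx
    rw [mem_eqLocus_iff] at hx
    obtain ⟨c, hc⟩ := hLe x⁻¹
    have hN : ((σ ^ e) c⁻¹)⁻¹ * c⁻¹ = x := by
      rw [← inv_inv x, hc, map_inv]; group
    refine ⟨c⁻¹ * (σ c⁻¹)⁻¹, ?_, c⁻¹, rfl, hN⟩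
    exact (fixed_iff σ e c⁻¹).2 (by rw [hN, hx])

end Cfsg.Agent.S2666
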