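import Cfsg.Statements.S2668
import Cfsg.Agent.Lib.Shintani.Basic

set_option autoImplicit false
open Cfsg

namespace Cfsg.Agent.S2668

open Cfsg.Agent.Shintani

/-- Shintani descent and powers (abstract form). Let `σ` be an automorphism of a group `X`, `e ≥ 1` and `d ≥ 1`, let `g` be fixed by `σᵉ` and let `a` satisfy `g = a σ(a)⁻¹`, so that the Shintani map of `(X, σ, e)` sends the class of `g σ` to the class of `x = σᵉ(a)⁻¹ a`. Put `h = g σ(g) ⋯ σ^(d-1)(g)`, the part in `X` of the `d`-th power `(g σ)^d = h σ^d`. Then `h = a σ^d(a)⁻¹` (so `a` also serves for `h` with respect to `σ^d`), `h` is fixed by `(σ^d)ᵉ`, and `(σ^d)ᵉ(a)⁻¹ a = x^d`: the Shintani map of `(X, σ^d, e)` sends the class of `(g σ)^d` to the class of `x^d`. (When `d` divides `e`, the Shintani map of `(X, σ^d, e/d)` sends it to the class of `x` itself, since `(σ^d)^(e/d) = σᵉ`.) -/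
theorem result {X : Type*} [Group X] (σ : MulAut X) (e d : ℕ) (he : 1 ≤ e) (hd : 1 ≤ d)
    (g : X) (hg : g ∈ (MulEquiv.toMonoidHom (σ ^ e)).eqLocus (MonoidHom.id X)) (a : X) (ha : g = a * (σ a)⁻¹) :
    ((List.range d).map (fun i => (σ ^ i) g)).prod = a * ((σ ^ d) a)⁻¹ ∧
      ((List.range d).map (fun i => (σ ^ i) g)).prod ∈ (MulEquiv.toMonoidHom ((σ ^ d) ^ e)).eqLocus (MonoidHom.id X) ∧
      (((σ ^ d) ^ e) a)⁻¹ * a = (((σ ^ e) a)⁻¹ * a) ^ d := by
  subst ha
  have hfix : σ (((σ ^ e) a)⁻¹ * a) = ((σ ^ e) a)⁻¹ * a := (fixed_iff σ e a).1 hg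
  refine ⟨prod_eq σ a d, ?_, ?_⟩
  · rw [mem_eqLocus_iff, ← pow_mul, mul_comm d e, pow_mul]
    generalize hm : ((List.range d).map (fun i => (σ ^ i) (a * (σ a)⁻¹))) = l
    have hl : ∀ x ∈ l, (σ ^ e) x = x := by
      subst hm
      intro x hx
      obtain ⟨i, -, rfl⟩ := List.mem_map.1 hx
      rw [pow_apply_comm, show (σ ^ e) (a * (σ a)⁻¹) = a * (σ a)⁻¹ from hg]
    have hp : (σ ^ e) l.prod = l.prod := by
      rw [map_list_prod, List.map_congr_left (g := id) hl, List.map_id]
    generalize hD : d = D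
    clear * - hp
    induction D with
    | zero => rfl
    | succ i ih => rw [pow_succ_apply', hp, ih]
  · clear hg hd he
    rw [← pow_mul, mul_comm d e]
    induction d with
    | zero => simp
    | succ i ih =>
      rw [pow_succ', ← ih, mul_add, mul_one, pow_add]
      change ((σ ^ (e * i)) ((σ ^ e) a))⁻¹ * a = ((σ ^ e) a)⁻¹ * a * (((σ ^ (e * i)) a)⁻¹ * a)
      have : (σ ^ (e * i)) (((σ ^ e) a)⁻¹ * a) = ((σ ^ e) a)⁻¹ * a := by
        generalize e * i = j
        induction j with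
        | zero => rfl
        | succ j ihj => rw [pow_succ_apply', hfix, ihj]
      conv_rhs => arg 1; rw [← this, map_mul, map_inv]
      group

end Cfsg.Agent.S2668
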