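import Cfsg.Statements.S2669
import Cfsg.Agent.Lib.Shintani.Basic

set_option autoImplicit false
open Cfsg

namespace Cfsg.Agent.S2669

open Cfsg.Agent.Shintani

theorem card_fibre {α β : Type*} {X : Type*} [Group X] (f : α → X) (g : β → X) (Y : Subgroup X)
    (H : Subgroup X) (hg : Function.Injective g) (hmul : ∀ b, ∀ y ∈ Y ⊓ H, ∃ b', g b' = g b * y)
    (hsub : ∀ b b', (g b)⁻¹ * g b' ∈ H) :
    Nat.card {t : α × β // f t.1 * g t.2 ∈ Y} =
      Nat.card {a : α // ∃ b, f a * g b ∈ Y} * Nat.card ↥(Y ⊓ H) := by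
  rw [← Nat.card_prod]
  refine Nat.card_congr (Equiv.ofBijective (fun t => (⟨t.1.1, t.1.2, t.2⟩,
    ⟨(g (Classical.choose (⟨t.1.2, t.2⟩ : ∃ b, f t.1.1 * g b ∈ Y)))⁻¹ * g t.1.2, ?_, hsub _ _⟩))
    ⟨?_, ?_⟩)
  · have h1 := Classical.choose_spec (⟨t.1.2, t.2⟩ : ∃ b, f t.1.1 * g b ∈ Y)
    simpa [mul_assoc] using Y.mul_mem (Y.inv_mem h1) t.2
  · rintro ⟨⟨a, b⟩, h⟩ ⟨⟨a', b'⟩, h'⟩ e
    simp only [Prod.mk.injEq, Subtype.mk.injEq] at e
    obtain ⟨rfl, e⟩ := e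
    obtain rfl := hg (mul_left_cancel (congrArg Subtype.val e))
    rfl
  · rintro ⟨⟨a, ha⟩, ⟨y, hy⟩⟩
    obtain ⟨b', hb'⟩ := hmul (Classical.choose ha) y hy
    refine ⟨⟨(a, b'), ?_⟩, ?_⟩
    · dsimp only
      rw [hb', ← mul_assoc]
      exact Y.mul_mem (Classical.choose_spec ha) hy.1
    · refine Prod.ext rfl (Subtype.ext ?_)
      simp only [hb']
      group

/-- Shintani descent preserves numbers of fixed points on coset spaces (abstract form). Let `σ` be an automorphism of a group `X` and `e ≥ 1`; write `G` for the fixed points of `σᵉ` and `H` for the fixed points of `σ`, and assume `G` is finite. Let `Y` be a `σ`-stable subgroup of `X` on which the maps `a ↦ a σ(a)⁻¹` and `a ↦ a σᵉ(a)⁻¹` are surjective (as for a closed connected `σ`-stable subgroup of an algebraic group). Let `g ∈ G`, let `a ∈ X` satisfy `g = a σ(a)⁻¹` and put `x = σᵉ(a)⁻¹ a` (the Shintani image, an element of `H`). The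 element `g σ` of the semidirect product acts on the cosets of `Y ∩ G` in `G` by `k (Y ∩ G) ↦ g σ(k) (Y ∩ G)`, fixing that coset exactly when `k⁻¹ g σ(k) ∈ Y`; and `x` fixes the coset `h (Y ∩ H)` of `H` exactly when `h⁻¹ x h ∈ Y`. Then the two numbers of fixed cosets agree; in cross-multiplied form, `#{k ∈ G : k⁻¹ g σ(k) ∈ Y} · |Y ∩ H| = #{h ∈ H : h⁻¹ x h ∈ Y} · |Y ∩ G|`. -/
theorem result {X : Type*} [Group X] (σ : MulAut X) (e : ℕ) (he : 1 ≤ e)
    [Finite ↥((MulEquiv.toMonoidHom (σ ^ e)).eqLocus (MonoidHom.id X))]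
    (Y : Subgroup X) (hY : ∀ y : X, y ∈ Y ↔ σ y ∈ Y)
    (hYL : ∀ y ∈ Y, ∃ a ∈ Y, y = a * (σ a)⁻¹) (hYLe : ∀ y ∈ Y, ∃ a ∈ Y, y = a * ((σ ^ e) a)⁻¹)
    (g : X) (hg : g ∈ (MulEquiv.toMonoidHom (σ ^ e)).eqLocus (MonoidHom.id X)) (a : X) (ha : g = a * (σ a)⁻¹) :
    Nat.card {k : ↥((MulEquiv.toMonoidHom (σ ^ e)).eqLocus (MonoidHom.id X)) // (k : X)⁻¹ * g * σ k ∈ Y} *
        Nat.card ↥(Y ⊓ (MulEquiv.toMonoidHom σ).eqLocus (MonoidHom.id X)) =
      Nat.card {h : ↥((MulEquiv.toMonoidHom σ).eqLocus (MonoidHom.id X)) // (h : X)⁻¹ * (((σ ^ e) a)⁻¹ * a) * h ∈ Y} *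
        Nat.card ↥(Y ⊓ (MulEquiv.toMonoidHom (σ ^ e)).eqLocus (MonoidHom.id X)) := by
  subst ha
  set E := (MulEquiv.toMonoidHom (σ ^ e)).eqLocus (MonoidHom.id X)
  set S := (MulEquiv.toMonoidHom σ).eqLocus (MonoidHom.id X)
  have hfixpow : ∀ h : X, σ h = h → (σ ^ e) h = h := fun h hh => by
    generalize e = j
    clear * - hh
    induction j with
    | zero => rfl
    | succ i ih => rw [pow_succ_apply', hh, ih]
  have hA : ∀ k : E, ((k : X)⁻¹ * (a * (σ a)⁻¹) * σ k ∈ Y) ↔ ∃ h : S, (k : X)⁻¹ * a * h ∈ Y := by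
    intro k
    constructor
    · intro hy
      obtain ⟨b, hbY, hb⟩ := hYL _ hy
      refine ⟨⟨a⁻¹ * k * b, ?_⟩, by simpa [mul_assoc] using hbY⟩
      rw [mem_eqLocus_iff, map_mul, map_mul, map_inv]
      calc (σ a)⁻¹ * σ k * σ b = a⁻¹ * (k : X) * ((k : X)⁻¹ * (a * (σ a)⁻¹) * σ k) * σ b := by group
        _ = _ := by rw [hb]; group
    · rintro ⟨⟨h, hh⟩, hb⟩
      rw [mem_eqLocus_iff] at hh
      have h2 := (hY _).1 hb
      rw [map_mul, map_mul, map_inv, hh] at h2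
      convert Y.mul_mem hb (Y.inv_mem h2) using 1
      group
  have hB : ∀ h : S, ((h : X)⁻¹ * (((σ ^ e) a)⁻¹ * a) * h ∈ Y) ↔ ∃ k : E, (h : X)⁻¹ * a⁻¹ * k ∈ Y := by
    rintro ⟨h, hh⟩
    rw [mem_eqLocus_iff] at hh
    constructor
    · intro hy
      obtain ⟨c, hcY, hc⟩ := hYLe _ (Y.inv_mem hy)
      refine ⟨⟨a * h * c, ?_⟩, by simpa [mul_assoc] using hcY⟩
      rw [mem_eqLocus_iff, map_mul, map_mul, hfixpow h hh]
      calc (σ ^ e) a * h * (σ ^ e) c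
          = a * h * (((h⁻¹ * (((σ ^ e) a)⁻¹ * a) * h))⁻¹ * (σ ^ e) c) := by group
        _ = a * h * c := by rw [hc]; group
    · rintro ⟨⟨k, hk⟩, hy⟩
      rw [mem_eqLocus_iff] at hk
      have hpow : ∀ i : ℕ, ∀ y : X, y ∈ Y → (σ ^ i) y ∈ Y := fun i => by
        induction i with
        | zero => intro y hy; exact hy
        | succ i ih => intro y hy; rw [pow_succ_apply]; exact (hY _).1 (ih y hy)
      have h2 := hpow e _ hy
      rw [map_mul, map_mul, map_inv, map_inv, hfixpow h hh, hk] at h2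
      convert Y.mul_mem h2 (Y.inv_mem hy) using 1
      group
  have c1 := card_fibre (fun k : E => (k : X)⁻¹ * a) (fun h : S => (h : X)) Y S Subtype.val_injective
    (fun b y hy => ⟨b * ⟨y, hy.2⟩, rfl⟩) (fun b b' => S.mul_mem (S.inv_mem b.2) b'.2)
  have c2 := card_fibre (fun h : S => (h : X)⁻¹ * a⁻¹) (fun k : E => (k : X)) Y E Subtype.val_injective
    (fun b y hy => ⟨b * ⟨y, hy.2⟩, rfl⟩) (fun b b' => E.mul_mem (E.inv_mem b.2) b'.2)
  rw [Nat.card_congr (Equiv.subtypeEquivRight hA), Nat.card_congr (Equiv.subtypeEquivRight hB),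
    ← c1, ← c2]
  refine Nat.card_congr (Equiv.subtypeEquiv (Equiv.prodComm _ _) fun t => ?_)
  rw [← Y.inv_mem_iff]
  simp [mul_assoc]

end Cfsg.Agent.S2669
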