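import Cfsg.Statements.S2671
import Cfsg.Agent.Lib.Classical.StarFactor
import Cfsg.Agent.Lib.Classical.InvariantCount
import Cfsg.Agent.Lib.Classical.UnitaryConj
import Cfsg.Agent.S2587
import Cfsg.Agent.S2588
-- import your own Cfsg.Agent.* helpers here

set_option autoImplicit false
open Cfsg

namespace Cfsg.Agent.S2671

open Polynomial
open Cfsg.Agent.Classical
open Cfsg.Agent.Classical.PowScalarClasses (Admissible)
open Cfsg.Agent.Forms

variable {K : Type*} [Field K] [Fintype K] {q r : ℕ} (hK : Fintype.card K = q ^ 2)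

/-- the twisted inversion of factors -/
noncomputable def tau (r : ℕ) (p : K[X]) : K[X] := (StarFactor.star r p).map (HermStd.qHom hK)

theorem qHom_qHom (x : K) : HermStd.qHom hK (HermStd.qHom hK x) = x := by
  show (x ^ q) ^ q = x
  exact HermStd.pow_q_q hK x

theorem map_map_qHom (p : K[X]) : (p.map (HermStd.qHom hK)).map (HermStd.qHom hK) = p := by
  rw [Polynomial.map_map]
  ext k
  rw [coeff_map, RingHom.comp_apply, qHom_qHom hK]

include hK in
theorem qHom_bijective : Function.Bijective (HermStd.qHom hK) :=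
  Finite.injective_iff_bijective.1 (HermStd.qHom hK).injective

theorem fac_map {p : K[X]} (hp : StarFactor.Fac r p) : StarFactor.Fac r (p.map (HermStd.qHom hK)) := by
  refine ⟨hp.monic.map _, ?_, ?_, ?_⟩
  · let e := Polynomial.mapEquiv (RingEquiv.ofBijective _ (qHom_bijective hK))
    have he : e p = p.map (HermStd.qHom hK) := rfl
    rw [← he]
    exact (MulEquiv.irreducible_iff e.toMulEquiv).2 hp.irr
  · have h := Polynomial.map_dvd (HermStd.qHom hK) hp.dvd
    simpa using h
  · intro e
    apply hp.ne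
    have h := congrArg (Polynomial.map (HermStd.qHom hK)) e
    rw [map_map_qHom] at h
    simpa using h

theorem tau_one (hrK : (r : K) ≠ 0) : tau hK r (X - C (1 : K)) = X - C 1 := by
  rw [tau, StarFactor.star_X_sub_one hrK]
  simp

theorem star_map [Fact r.Prime] (hrK : (r : K) ≠ 0) {p : K[X]} (hp : StarFactor.Fac r p) :
    StarFactor.star r (p.map (HermStd.qHom hK)) = (StarFactor.star r p).map (HermStd.qHom hK) := by
  set φ := HermStd.qHom hK
  obtain ⟨A, hA, hAc, hAi⟩ := StarFactor.exists_matrix_inv (F := K) (r := r) (Fact.out (p := r.Prime)).ne_zero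
    {p} (fun x hx => by rw [Multiset.mem_singleton.1 hx]; exact ⟨hp.monic, hp.irr, hp.dvd⟩)
    p.natDegree (by simp)
  rw [Multiset.prod_singleton] at hAc
  rw [Multiset.map_singleton, Multiset.prod_singleton] at hAi
  have hA' : (A.map φ) ^ r = 1 := by rw [← Matrix.map_pow, hA, Matrix.map_one φ (map_zero φ) (map_one φ)]
  have h := StarFactor.charpoly_inv_of hrK hA' (s := {p.map φ})
    ⟨fun x hx => by
      rw [Multiset.mem_singleton.1 hx]
      exact ⟨(fac_map hK hp).monic, (fac_map hK hp).irr, (fac_map hK hp).dvd⟩, by simp⟩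
    (by rw [Multiset.prod_singleton, Matrix.charpoly_map, hAc])
  rw [Multiset.map_singleton, Multiset.prod_singleton, ← Matrix.map_pow, Matrix.charpoly_map, hAi] at h
  exact h.symm

theorem tau_fac [Fact r.Prime] (hrK : (r : K) ≠ 0) {b : ℕ}
    (hdeg : ∀ x : K[X], StarFactor.Fac r x → x.natDegree = b) {p : K[X]} (hp : StarFactor.Fac r p) :
    StarFactor.Fac r (tau hK r p) ∧ tau hK r (tau hK r p) = p := by
  obtain ⟨h1, h2⟩ := hp.star_fac hrK hdeg
  refine ⟨fac_map hK h1, ?_⟩
  rw [tau, tau, star_map hK hrK h1, h2, map_map_qHom]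

/-- the twisted inversion fixes a factor exactly when `-q` is a power of `q ^ 2` modulo `r` -/
theorem tau_eq_iff [hr : Fact r.Prime] (hrK : (r : K) ≠ 0) {b : ℕ} (hb : orderOf ((q : ZMod r) ^ 2) = b)
    (hdeg : ∀ x : K[X], StarFactor.Fac r x → x.natDegree = b) {p : K[X]} (hp : StarFactor.Fac r p) :
    tau hK r p = p ↔ ∃ j : ℕ, -(q : ZMod r) = ((q : ZMod r) ^ 2) ^ j := by
  classical
  have : Fact (Irreducible p) := ⟨hp.irr⟩
  have : NeZero r := ⟨hr.out.ne_zero⟩
  set L := AdjoinRoot p
  set z := AdjoinRoot.root p with hz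
  obtain ⟨ℓ, hℓ⟩ := CharP.exists K
  obtain ⟨f, hℓp, hℓf⟩ := FiniteField.card K ℓ
  have : Fact ℓ.Prime := ⟨hℓp⟩
  have : CharP L ℓ := charP_of_injective_ringHom (algebraMap K L).injective ℓ
  obtain ⟨e, -, he⟩ := (Nat.dvd_prime_pow hℓp).1 (show q ∣ ℓ ^ (f : ℕ) by
    rw [← hℓf, hK]; exact dvd_pow_self q two_ne_zero)
  let ψ : L →+* L := iterateFrobenius L ℓ e
  have hψ : ∀ x, ψ x = x ^ q := fun x => by rw [he]; rfl
  have hroot : ∀ (P : K[X]) (x : L), aeval x P = 0 → aeval (x ^ q) (P.map (HermStd.qHom hK)) = 0 := by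
    intro P x hx
    have h1 := congrArg ψ hx
    rw [map_zero, aeval_def, Polynomial.hom_eval₂] at h1
    have hc : (algebraMap K L).comp (HermStd.qHom hK) = ψ.comp (algebraMap K L) :=
      RingHom.ext fun a => by
        show algebraMap K L (a ^ q) = ψ (algebraMap K L a)
        rw [hψ, map_pow]
    rw [aeval_def, eval₂_map, hc, ← hψ]
    exact h1
  have hqq : ∀ j : ℕ, aeval (z ^ (q ^ 2) ^ j) p = 0 := by
    intro j
    induction j with
    | zero => rw [pow_zero, pow_one, hz, AdjoinRoot.aeval_eq, AdjoinRoot.mk_self]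
    | succ j ih =>
      have h1 := hroot _ _ (hroot _ _ ih)
      rwa [map_map_qHom, ← pow_mul, ← pow_mul, ← pow_two, ← pow_succ] at h1
  have hzord : orderOf z = r := hp.primitive.eq_orderOf.symm
  have hzpow : ∀ a a' : ℕ, z ^ a = z ^ a' ↔ (a : ZMod r) = (a' : ZMod r) := by
    intro a a'
    rw [ZMod.natCast_eq_natCast_iff, (isOfFinOrder_iff_pow_eq_one.2
      ⟨r, hr.out.pos, StarFactor.root_pow r hp.dvd⟩ : IsOfFinOrder z).pow_eq_pow_iff_modEq, hzord]
  -- the roots are the Frobenius conjugates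
  have hroots : ∀ a : ℕ, aeval (z ^ a) p = 0 → ∃ j : ℕ, (a : ZMod r) = ((q : ZMod r) ^ 2) ^ j := by
    intro a ha
    by_contra hno
    push Not at hno
    let T := insert (z ^ a) ((Finset.range b).image fun j => z ^ (q ^ 2) ^ j)
    have hT : T.card = b + 1 := by
      rw [Finset.card_insert_of_notMem, Finset.card_image_of_injOn, Finset.card_range]
      · intro j hj j' hj' e
        have e' := (hzpow _ _).1 e
        push_cast at e'
        rw [← hb] at hj hj'
        exact pow_injOn_Iio_orderOf (Finset.mem_range.1 hj) (Finset.mem_range.1 hj') e'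
      · rw [Finset.mem_image]
        rintro ⟨j, -, e⟩
        apply hno j
        have e' := (hzpow _ _).1 e.symm
        push_cast at e'
        exact e'
    have hle : T.card ≤ (p.map (algebraMap K L)).natDegree := by
      refine (Finset.card_le_card (t := (p.map (algebraMap K L)).roots.toFinset) ?_).trans
        ((Multiset.toFinset_card_le _).trans (Polynomial.card_roots' _))
      intro x hx
      rw [Multiset.mem_toFinset, mem_roots (map_ne_zero hp.monic.ne_zero), IsRoot.def, eval_map_algebraMap]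
      simp only [T, Finset.mem_insert, Finset.mem_image] at hx
      rcases hx with rfl | ⟨j, -, rfl⟩
      · exact ha
      · exact hqq j
    rw [hT, natDegree_map, hdeg p hp] at hle
    omega
  have htz : aeval (z ^ ((r - 1) * q)) (tau hK r p) = 0 := by
    rw [pow_mul]
    exact hroot _ _ (StarFactor.aeval_star hp.monic.ne_zero)
  have hcast : (((r - 1) * q : ℕ) : ZMod r) = -(q : ZMod r) := by
    rw [Nat.cast_mul, Nat.cast_sub hr.out.one_le]; simp
  constructor
  · intro h
    rw [h] at htz
    obtain ⟨j, hj⟩ := hroots _ htz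
    exact ⟨j, hcast ▸ hj⟩
  · rintro ⟨j, hj⟩
    have h1 := hqq j
    rw [(hzpow ((q ^ 2) ^ j) ((r - 1) * q)).2 (by rw [hcast, hj]; push_cast; rfl)] at h1
    have h2 := (tau_fac hK hrK hdeg hp).1
    rw [minpoly.eq_of_irreducible_of_monic h2.irr htz h2.monic,
      ← minpoly.eq_of_irreducible_of_monic hp.irr h1 hp.monic]

/-- Number of conjugacy classes of elements of odd prime order r in the general unitary group GU_n(q), for r not dividing q(q + 1): let i be the multiplicative order of q modulo r, b = i if i is odd and b = i/2 if i is even, and s = (r − 1)/b. If i ≢ 2 (mod 4) the eigenvalue orbits pair off into dual pairs of totally isotropic blocks and there are C(⌊n/(2b)⌋ + s/2, s/2) − 1 classes; if i ≡ 2 (mod 4) each orbit gives a non-degenerate block of dimension i/2 and there are C(⌊2n/i⌋ + s, s) − 1 classes. -/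
theorem result {K : Type*} [Field K] [Fintype K] {p q n r i b s : ℕ} [Fact p.Prime] [CharP K p] (hK : Fintype.card K = q ^ 2) (hr : r.Prime) (hr2 : r ≠ 2) (hrp : r ≠ p) (hi : i = orderOf (q : ZMod r)) (hi2 : i ≠ 2) (hb : b = if Odd i then i else i / 2) (hs : s * b = r - 1) : Nat.card {C : ConjClasses ↥(Cfsg.GU n K q) // ∃ g : ↥(Cfsg.GU n K q), ConjClasses.mk g = C ∧ orderOf g = r} = if i % 4 = 2 then Nat.choose (2 * n / i + s) s - 1 else Nat.choose (n / (2 * b) + s / 2) (s / 2) - 1 := by
  classical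
  have : Fact r.Prime := ⟨hr⟩
  have : NeZero r := ⟨hr.ne_zero⟩
  obtain ⟨f, hp, hpf⟩ := FiniteField.card K p
  obtain ⟨e, -, he⟩ := (Nat.dvd_prime_pow hp).1 (show q ∣ p ^ (f : ℕ) by
    rw [← hpf, hK]; exact dvd_pow_self q two_ne_zero)
  have hcop1 : Nat.Coprime p r := (Nat.coprime_primes hp hr).2 fun e => hrp e.symm
  have hcopq : Nat.Coprime q r := he ▸ Nat.Coprime.pow_left _ hcop1
  have hcop : Nat.Coprime (p ^ (f : ℕ)) r := Nat.Coprime.pow_left _ hcop1
  have hrK : (r : K) ≠ 0 := fun h => hrp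
    ((Nat.prime_dvd_prime_iff_eq Fact.out hr).1 ((CharP.cast_eq_zero_iff K p r).1 h)).symm
  have hipos : 0 < i := by
    rw [hi, ← ZMod.coe_unitOfCoprime q hcopq, orderOf_units]; exact orderOf_pos _
  have hb2 : orderOf ((q : ZMod r) ^ 2) = b := by
    rw [orderOf_pow' _ two_ne_zero, ← hi, hb]
    split_ifs with hodd
    · rw [(Nat.coprime_two_right.2 hodd).gcd_eq_one, Nat.div_one]
    · rw [Nat.gcd_eq_right (even_iff_two_dvd.1 (Nat.not_odd_iff_even.1 hodd))]
  have hbpos : 0 < b := by
    rw [hb]; split_ifs with hodd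
    · exact hipos
    · have := Nat.not_odd_iff_even.1 hodd
      obtain ⟨k, hk⟩ := this
      omega
  have hord : orderOf (ZMod.unitOfCoprime _ hcop) = b := by
    rw [← orderOf_units, ZMod.coe_unitOfCoprime, ← hpf, hK, Nat.cast_pow, hb2]
  set P := (UniqueFactorizationMonoid.normalizedFactors (Polynomial.cyclotomic r K)).toFinset with hP
  have hKcard : Fintype.card K = p ^ (f : ℕ) := hpf
  have hPcard : P.card = s := by
    have h := Polynomial.normalizedFactors_cyclotomic_card (K := K) (p := p) (f := f) hKcard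
      (n := r) hcop1
    rw [hord, Nat.totient_prime hr, ← hs, Nat.mul_div_cancel _ hbpos] at h
    exact h
  have hPdeg : ∀ x ∈ P, x.natDegree = b := fun x hx => by
    rw [← hord]
    exact Polynomial.natDegree_of_mem_normalizedFactors_cyclotomic (K := K) (p := p) (f := f) hKcard
      hcop1 (Multiset.mem_toFinset.1 hx)
  have hprod : Polynomial.cyclotomic r K * (X - C 1) = X ^ r - C 1 := by
    rw [map_one, Polynomial.cyclotomic_prime_mul_X_sub_one]
  have hzP : (X - C 1 : K[X]) ∉ P := fun h => by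
    have hd := UniqueFactorizationMonoid.dvd_of_mem_normalizedFactors (Multiset.mem_toFinset.1 h)
    rw [dvd_iff_isRoot, IsRoot, Polynomial.eval_one_cyclotomic_prime] at hd
    exact hrK hd
  have hfac : ∀ x, x ∈ P ↔ StarFactor.Fac r x := by
    intro x
    constructor
    · intro hx
      have hx' := hx
      rw [hP, Multiset.mem_toFinset] at hx'
      have hirr := UniqueFactorizationMonoid.irreducible_of_normalized_factor x hx'
      refine ⟨?_, hirr, ?_, fun e => hzP (e ▸ hx)⟩
      · rw [← UniqueFactorizationMonoid.normalize_normalized_factor x hx']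
        exact Polynomial.monic_normalize hirr.ne_zero
      · rw [← hprod]
        exact (UniqueFactorizationMonoid.dvd_of_mem_normalizedFactors hx').mul_right _
    · rintro ⟨hm, hirr, hd, hne⟩
      rw [← hprod] at hd
      rcases hirr.prime.dvd_or_dvd hd with hd | hd
      · obtain ⟨y, hy, hxy⟩ := UniqueFactorizationMonoid.exists_mem_normalizedFactors_of_dvd
          (cyclotomic_ne_zero r K) hirr hd
        rw [hP, Multiset.mem_toFinset]
        have : y = x := by
          rw [← UniqueFactorizationMonoid.normalize_normalized_factor y hy, ← hm.normalize_eq_self]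
          exact normalize_eq_normalize_iff_associated.2 hxy.symm
        exact this ▸ hy
      · exact absurd (eq_of_monic_of_associated hm (monic_X_sub_C 1)
          (hirr.associated_of_dvd (irreducible_X_sub_C 1) hd)) hne
  have hdeg : ∀ x : K[X], StarFactor.Fac r x → x.natDegree = b := fun x hx => hPdeg x ((hfac x).2 hx)
  have hadm : ∀ t : Multiset K[X], Admissible r n 1 t ↔
      (∀ x ∈ t, x = X - C 1 ∨ x ∈ P) ∧ (t.map Polynomial.natDegree).sum = n := by
    intro t
    refine and_congr (forall₂_congr fun x _ => ⟨fun h => ?_, fun h => ?_⟩) Iff.rfl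
    · by_cases hx : x = X - C 1
      · exact Or.inl hx
      · exact Or.inr ((hfac x).2 ⟨h.1, h.2.1, h.2.2, hx⟩)
    · rcases h with h | h
      · subst h
        exact ⟨monic_X_sub_C 1, irreducible_X_sub_C 1, by rw [← hprod]; exact dvd_mul_left _ _⟩
      · exact ⟨((hfac x).1 h).monic, ((hfac x).1 h).irr, ((hfac x).1 h).dvd⟩
  have hadmτ : ∀ t : Multiset K[X], Admissible r n 1 t → Admissible r n 1 (t.map (tau hK r)) := by
    intro t ht
    rw [hadm] at ht ⊢
    refine ⟨fun x hx => ?_, ?_⟩
    · obtain ⟨y, hy, rfl⟩ := Multiset.mem_map.1 hx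
      rcases ht.1 y hy with rfl | hy'
      · exact Or.inl (tau_one hK hrK)
      · exact Or.inr ((hfac _).2 (tau_fac hK hrK hdeg ((hfac y).1 hy')).1)
    · rw [Multiset.map_map]
      conv_rhs => rw [← ht.2]
      congr 1
      refine Multiset.map_congr rfl fun y hy => ?_
      simp only [Function.comp_apply]
      rcases ht.1 y hy with rfl | hy'
      · rw [tau_one hK hrK]
      · rw [hdeg _ (tau_fac hK hrK hdeg ((hfac y).1 hy')).1, hPdeg y hy']
  -- the inverse adjoint
  have hadj : ∀ (A : GL (Fin n) K), (A : Matrix (Fin n) (Fin n) K) ^ r = 1 → ∀ t, Admissible r n 1 t →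
      (A : Matrix (Fin n) (Fin n) K).charpoly = t.prod →
      ((((A : Matrix (Fin n) (Fin n) K).map (fun x : K => x ^ q)).transpose)⁻¹).charpoly =
        (t.map (tau hK r)).prod ∧
      ((((A : Matrix (Fin n) (Fin n) K).map (fun x : K => x ^ q)).transpose)⁻¹) ^ r = 1 := by
    intro A hA t ht hAt
    set φ := HermStd.qHom hK
    set M := (((A : Matrix (Fin n) (Fin n) K).map φ).transpose) with hM
    have hMr : M ^ r = 1 := by
      rw [hM, ← Matrix.transpose_pow, ← Matrix.map_pow, hA, Matrix.map_one φ (map_zero φ) (map_one φ),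
        Matrix.transpose_one]
    have hinv : M⁻¹ = M ^ (r - 1) := Matrix.inv_eq_right_inv (by
      rw [← pow_succ', Nat.sub_add_cancel hr.one_le, hMr])
    refine ⟨?_, ?_⟩
    · show (M⁻¹).charpoly = _
      rw [hinv, hM, ← Matrix.transpose_pow, ← Matrix.map_pow, Matrix.charpoly_transpose,
        Matrix.charpoly_map, StarFactor.charpoly_inv_of hrK hA ht hAt, Polynomial.map_multiset_prod,
        Multiset.map_map]
      rfl
    · show (M⁻¹) ^ r = 1
      rw [hinv, ← pow_mul, mul_comm, pow_mul, hMr, one_pow]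
  have hex : ∀ t : {t : Multiset K[X] // Admissible r n 1 t ∧ t.map (tau hK r) = t},
      ∃ g : ↥(Cfsg.GU n K q), ((g : GL (Fin n) K) : Matrix (Fin n) (Fin n) K) ^ r = 1 ∧
        ((g : GL (Fin n) K) : Matrix (Fin n) (Fin n) K).charpoly = t.1.prod := by
    rintro ⟨t, ht, hinv⟩
    obtain ⟨A, hA, hAc⟩ := PowScalarClasses.exists_matrix r (1 : K) t ht.1 n ht.2
    rw [one_smul] at hA
    obtain ⟨u, hu⟩ : IsUnit A := IsUnit.of_mul_eq_one (A ^ (r - 1))
      (by rw [← pow_succ', Nat.sub_add_cancel hr.one_le, hA])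
    subst hu
    obtain ⟨h1, h2⟩ := hadj u hA t ht hAc
    rw [hinv] at h1
    obtain ⟨M, hM⟩ := SemisimpleConj.exists_matrix_conj _ _ hrK hA h2 (hAc.trans h1.symm)
    obtain ⟨g, hg⟩ := (Cfsg.Agent.S2588.result hK u).2 ⟨M, hM⟩
    obtain ⟨x, hx⟩ := isConj_iff.1 hg
    refine ⟨g, ?_, ?_⟩
    · rw [← hx, ← Units.val_pow_eq_pow_val, conj_pow,
        show u ^ r = 1 from Units.ext (by simpa using hA)]
      simp
    · rw [← hx, Units.val_mul, Units.val_mul, Matrix.coe_units_inv, Matrix.charpoly_units_conj, hAc]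
  choose g hg hgc using hex
  have hS : Nat.card {t : Multiset K[X] // Admissible r n 1 t ∧ t.map (tau hK r) = t} =
      if i % 4 = 2 then Nat.choose (2 * n / i + s) s else Nat.choose (n / (2 * b) + s / 2) (s / 2) := by
    have hq0 : (q : ZMod r) ≠ 0 := fun h => by
      rw [ZMod.natCast_eq_zero_iff] at h
      exact hr.one_lt.ne' (Nat.dvd_one.1 (hcopq ▸ Nat.dvd_gcd h dvd_rfl))
    have hiff : (∃ j : ℕ, -(q : ZMod r) = ((q : ZMod r) ^ 2) ^ j) ↔ i % 4 = 2 := by
      have hne2 : (-1 : ZMod r) ≠ 1 := by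
        intro h
        have : Fact (2 < r) := ⟨lt_of_le_of_ne hr.two_le (Ne.symm hr2)⟩
        exact ZMod.neg_one_ne_one h
      constructor
      · rintro ⟨j, hj⟩
        -- `-1` is an odd power of `q`
        have h1 : (q : ZMod r) ^ (2 * j + i - 1) = -1 ∧ Odd (2 * j + i - 1) ∨ Odd i := by
          by_cases hodd : Odd i
          · exact Or.inr hodd
          · obtain ⟨k, hk⟩ := Nat.not_odd_iff_even.1 hodd
            refine Or.inl ⟨mul_right_cancel₀ hq0 ?_, ⟨j + k - 1, by omega⟩⟩
            rw [← pow_succ, show 2 * j + i - 1 + 1 = 2 * j + i by omega, pow_add, pow_mul, ← hj, hi,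
              pow_orderOf_eq_one, mul_one, neg_one_mul]
        rcases h1 with ⟨h1, hoddm⟩ | hodd
        · set m := 2 * j + i - 1
          have h2 : i ∣ 2 * m := by
            rw [hi]; apply orderOf_dvd_of_pow_eq_one
            rw [mul_comm, pow_mul, h1, neg_one_sq]
          have h3 : ¬ i ∣ m := fun h => hne2 (by
            rw [← h1]; rw [hi] at h; exact orderOf_dvd_iff_pow_eq_one.1 h)
          have hev : Even i := by
            by_contra hc
            exact h3 ((Nat.coprime_two_right.2 (Nat.not_even_iff_odd.1 hc)).dvd_of_dvd_mul_left h2)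
          obtain ⟨k, hk⟩ := hev
          have hkm : k ∣ m := by
            obtain ⟨c, hc⟩ := h2
            exact ⟨c, by rw [hk] at hc; nlinarith⟩
          obtain ⟨l, hl⟩ := hoddm.of_dvd_nat hkm
          omega
        · -- with `i` odd every power of `q` is a power of `q ^ 2`, and `-1` is none
          exfalso
          apply hne2
          have h2 : (-1 : ZMod r) * q = (q : ZMod r) ^ (2 * j) := by rw [neg_one_mul, hj, pow_mul]
          have h3 : ((-1 : ZMod r)) ^ i = 1 := by
            have h4 := congrArg (· ^ i) h2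
            simp only [mul_pow] at h4
            rw [hi, pow_orderOf_eq_one, mul_one, ← pow_mul, mul_comm, pow_mul, pow_orderOf_eq_one,
              one_pow] at h4
            rw [hi]; exact h4
          rwa [hodd.neg_one_pow] at h3
      · intro h4
        obtain ⟨k, hk⟩ : ∃ k, i = 2 * (2 * k + 1) := ⟨i / 4, by omega⟩
        refine ⟨k + 1, ?_⟩
        have hh : (q : ZMod r) ^ (2 * k + 1) = -1 := by
          refine (mul_self_eq_one_iff.1 ?_).resolve_left fun h => ?_
          · rw [← pow_add, show 2 * k + 1 + (2 * k + 1) = i by omega, hi, pow_orderOf_eq_one]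
          · have := Nat.le_of_dvd (by omega) (hi ▸ orderOf_dvd_of_pow_eq_one h)
            omega
        rw [← pow_mul, show 2 * (k + 1) = 2 * k + 1 + 1 by omega, pow_succ, hh, neg_one_mul]
    rw [Nat.card_congr (Equiv.subtypeEquivRight fun t => and_congr_left fun _ => hadm t)]
    split_ifs with h4
    · have hbi : 2 * n / i = n / b := by
        rw [hb, if_neg (Nat.not_odd_iff_even.2 ⟨i / 2, by omega⟩)]
        conv_lhs => rw [show i = 2 * (i / 2) by omega]
        rw [Nat.mul_div_mul_left _ _ two_pos]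
      rw [hbi, ← hPcard, ← Cfsg.Agent.S2568.natCard_weighted Polynomial.natDegree (X - C 1)
        (natDegree_X_sub_C 1) P hzP b n hbpos hPdeg]
      refine Nat.card_congr (Equiv.subtypeEquivRight fun t => ⟨fun h => h.1, fun h => ⟨h, ?_⟩⟩)
      conv_rhs => rw [← Multiset.map_id t]
      refine Multiset.map_congr rfl fun x hx => ?_
      rcases h.1 x hx with h' | h'
      · rw [h', tau_one hK hrK]; rfl
      · exact (tau_eq_iff hK hrK hb2 hdeg ((hfac x).1 h')).2 (hiff.2 h4)
    · rw [InvariantCount.natCard_pairs Polynomial.natDegree (X - C 1) (natDegree_X_sub_C 1) P hzP b n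
        hbpos hPdeg (tau hK r) (tau_one hK hrK) fun x hx => ?_, hPcard]
      have h := tau_fac hK hrK hdeg ((hfac x).1 hx)
      exact ⟨(hfac _).2 h.1, h.2, fun e => h4 (hiff.1 ((tau_eq_iff hK hrK hb2 hdeg ((hfac x).1 hx)).1 e))⟩
  have hbij : Nat.card {C : ConjClasses ↥(Cfsg.GU n K q) //
      ∃ x : ↥(Cfsg.GU n K q), x ^ r = 1 ∧ ConjClasses.mk x = C} =
      Nat.card {t : Multiset K[X] // Admissible r n 1 t ∧ t.map (tau hK r) = t} := by
    refine (Nat.card_eq_of_bijective (fun t => ⟨ConjClasses.mk (g t), g t,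
      Subtype.ext (Units.ext (by simpa using hg t)), rfl⟩) ⟨?_, ?_⟩).symm
    · intro t t' e
      have h1 : IsConj (g t : GL (Fin n) K) (g t' : GL (Fin n) K) :=
        (Cfsg.GU n K q).subtype.map_isConj (ConjClasses.mk_eq_mk_iff_isConj.1 (congrArg Subtype.val e))
      obtain ⟨x, hx⟩ := isConj_iff.1 h1
      refine Subtype.ext (PowScalarClasses.eq_of_prod_eq t.2.1 t'.2.1 ?_)
      rw [← hgc, ← hgc, ← hx, Units.val_mul, Units.val_mul, Matrix.coe_units_inv,
        Matrix.charpoly_units_conj]
    · rintro ⟨_, x, hx, rfl⟩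
      have hxr : ((x : GL (Fin n) K) : Matrix (Fin n) (Fin n) K) ^ r = 1 := by
        have := congrArg (fun y : ↥(Cfsg.GU n K q) => ((y : GL (Fin n) K) : Matrix (Fin n) (Fin n) K)) hx
        simpa using this
      obtain ⟨t, ht, htc⟩ := PowScalarClasses.admissible_factors hrK one_ne_zero
        (show ((x : GL (Fin n) K) : Matrix (Fin n) (Fin n) K) ^ r = (1 : K) • 1 by rw [one_smul]; exact hxr)
      obtain ⟨M, hM⟩ := (Cfsg.Agent.S2588.result hK (x : GL (Fin n) K)).1 ⟨x, IsConj.refl _⟩
      have hinv : t.map (tau hK r) = t := by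
        refine PowScalarClasses.eq_of_prod_eq (hadmτ t ht) ht ?_
        rw [← (hadj _ hxr t ht htc).1, ← htc]
        set N := ((((x : GL (Fin n) K) : Matrix (Fin n) (Fin n) K).map (fun y : K => y ^ q)).transpose)⁻¹
        have hN : N = (M : Matrix (Fin n) (Fin n) K) * ((x : GL (Fin n) K) : Matrix (Fin n) (Fin n) K) *
            ((M⁻¹ : GL (Fin n) K) : Matrix (Fin n) (Fin n) K) := by
          rw [hM.eq, mul_assoc, Units.mul_inv, mul_one]
        rw [hN, Matrix.coe_units_inv, Matrix.charpoly_units_conj]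
      refine ⟨⟨t, ht, hinv⟩, Subtype.ext (ConjClasses.mk_eq_mk_iff_isConj.2 ((Cfsg.Agent.S2587.result hK _ _).2
        (PowScalarClasses.isConj_of_charpoly hrK one_ne_zero (by rw [one_smul]; exact hg _)
          (by rw [one_smul]; exact hxr) ((hgc _).trans htc.symm))))⟩
  rw [hS] at hbij
  have hins : {C : ConjClasses ↥(Cfsg.GU n K q) | ∃ x : ↥(Cfsg.GU n K q), x ^ r = 1 ∧ ConjClasses.mk x = C} =
      insert 1 {C | ∃ x : ↥(Cfsg.GU n K q), ConjClasses.mk x = C ∧ orderOf x = r} := by
    ext C
    simp only [Set.mem_setOf_eq, Set.mem_insert_iff]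
    constructor
    · rintro ⟨x, hx, rfl⟩
      by_cases h1 : x = 1
      · exact Or.inl (by rw [h1]; rfl)
      · exact Or.inr ⟨x, rfl, orderOf_eq_prime hx h1⟩
    · rintro (rfl | ⟨x, rfl, hx⟩)
      · exact ⟨1, one_pow r, rfl⟩
      · exact ⟨x, hx ▸ pow_orderOf_eq_one x, rfl⟩
  have hnot : (1 : ConjClasses ↥(Cfsg.GU n K q)) ∉
      {C | ∃ x : ↥(Cfsg.GU n K q), ConjClasses.mk x = C ∧ orderOf x = r} := by
    rintro ⟨x, hx, ho⟩
    rw [ConjClasses.one_eq_mk_one, ConjClasses.mk_eq_mk_iff_isConj, isConj_one_left] at hx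
    rw [hx, orderOf_one] at ho
    exact hr.one_lt.ne ho
  have hc := congrArg Set.ncard hins
  rw [Set.ncard_insert_of_notMem hnot (Set.toFinite _), ← Nat.card_coe_set_eq,
    ← Nat.card_coe_set_eq] at hc
  simp only [Set.coe_setOf] at hc
  rw [hbij] at hc
  split_ifs at hc ⊢ <;> omega

end Cfsg.Agent.S2671
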