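import Cfsg.Statements.S2672
import Cfsg.Agent.Lib.Classical.PGLPrimeClasses
import Cfsg.Agent.Lib.Classical.UnitaryBasic
import Cfsg.Agent.S0783
import Cfsg.Agent.S2587
-- import your own Cfsg.Agent.* helpers here

set_option autoImplicit false
open Cfsg

namespace Cfsg.Agent.S2672

open Polynomial
open Cfsg.Agent.Classical
open Cfsg.Agent.Forms

variable {K : Type*} [Field K] [Fintype K] {q n r : ℕ}

/-- a root of unity of order dividing `r` and `q - 1` is one -/
theorem eq_one_of_pows (hr : r.Prime) (hrq : ¬ r ∣ q - 1) {w : K} (h1 : w ^ r = 1) (h2 : w ^ (q - 1) = 1) :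
    w = 1 := by
  have := pow_gcd_eq_one.mpr ⟨h1, h2⟩
  rwa [(hr.coprime_iff_not_dvd.2 hrq).gcd_eq_one, pow_one] at this

/-- norm one scalars are closed under extraction of `r`-th roots -/
theorem root_normOne (hK : Fintype.card K = q ^ 2) (hr : r.Prime) (hrq : ¬ r ∣ q - 1) {a : K}
    (ha : (a ^ r) ^ (q + 1) = 1) : a ^ (q + 1) = 1 := by
  have ha0 : a ≠ 0 := by
    rintro rfl
    rw [zero_pow hr.ne_zero, zero_pow (by omega)] at ha
    exact zero_ne_one ha
  refine eq_one_of_pows hr hrq (by rw [← pow_mul, mul_comm, pow_mul]; exact ha) ?_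
  rw [← pow_mul, show (q + 1) * (q - 1) = q ^ 2 - 1 by rw [← Nat.sq_sub_sq, one_pow], ← hK]
  exact FiniteField.pow_card_sub_one_eq_one a ha0

open Fin.NatCast in
/-- an element whose `r`-th power is a scalar that is no `r`-th power -/
theorem exists_monomial (hK : Fintype.card K = q ^ 2) (hr : r.Prime) (hrn : r ∣ n) {c : K}
    (hc : c ^ (q + 1) = 1) :
    ∃ h : ↥(Cfsg.GU n K q), ((h : GL (Fin n) K) : Matrix (Fin n) (Fin n) K) ^ r = c • 1 := by
  classical
  have : NeZero r := ⟨hr.ne_zero⟩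
  obtain ⟨m, rfl⟩ := hrn
  let e : Fin (r * m) ≃ Fin r × Fin m := finProdFinEquiv.symm
  let σ : Equiv.Perm (Fin (r * m)) :=
    e.trans (((Equiv.addRight (1 : Fin r)).prodCongr (Equiv.refl _)).trans e.symm)
  let d : Fin (r * m) → K := fun a => if (e a).1 = 0 then c else 1
  have hd : ∀ a, d a ^ (q + 1) = 1 := fun a => by
    simp only [d]; split_ifs <;> simp [hc]
  obtain ⟨g₁, hg₁⟩ := Cfsg.Agent.S0783.exists_perm (n := r * m) hK σ
  let g₂ := Unitary.diagGU hK d hd
  refine ⟨g₂ * g₁, ?_⟩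
  have hval : ∀ v : Fin (r * m) → K, (((g₂ * g₁ : ↥(Cfsg.GU (r * m) K q)) : GL (Fin (r * m)) K) :
      Matrix (Fin (r * m)) (Fin (r * m)) K).mulVec v = fun a => d a * v (σ a) := fun v => by
    rw [Subgroup.coe_mul, Units.val_mul, ← Matrix.mulVec_mulVec, hg₁]
    funext a
    exact Matrix.mulVec_diagonal _ _ a
  have hpow : ∀ (k : ℕ) (v : Fin (r * m) → K) (a : Fin (r * m)),
      ((((g₂ * g₁ : ↥(Cfsg.GU (r * m) K q)) : GL (Fin (r * m)) K) :
      Matrix (Fin (r * m)) (Fin (r * m)) K) ^ k).mulVec v a =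
        (∏ l ∈ Finset.range k, d ((σ ^ l) a)) * v ((σ ^ k) a) := by
    intro k
    induction k with
    | zero => intro v a; simp
    | succ k ih =>
      intro v a
      rw [pow_succ, ← Matrix.mulVec_mulVec, hval, ih, Finset.prod_range_succ, pow_succ']
      simp only [Equiv.Perm.mul_apply]
      ring
  have hσ : ∀ (l : ℕ) (a : Fin (r * m)), e ((σ ^ l) a) = ((e a).1 + (l : Fin r), (e a).2) := by
    intro l
    induction l with
    | zero => intro a; simp
    | succ l ih =>
      intro a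
      rw [pow_succ', Equiv.Perm.mul_apply]
      simp only [σ, Equiv.trans_apply, Equiv.apply_symm_apply, Equiv.prodCongr_apply,
        Prod.map_apply, Equiv.coe_addRight, Equiv.refl_apply, ih]
      push_cast
      rw [add_assoc]
  refine Matrix.ext_of_mulVec_single fun j => funext fun a => ?_
  rw [hpow, show (σ ^ r) a = a from e.injective (by rw [hσ]; simp), Matrix.smul_mulVec, Matrix.one_mulVec,
    Pi.smul_apply, smul_eq_mul]
  congr 1
  rw [← Fin.prod_univ_eq_prod_range (fun l => d ((σ ^ l) a)) r,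
    Finset.prod_eq_single (-(e a).1)]
  · simp only [d, hσ, Fin.cast_val_eq_self, add_neg_cancel, if_true]
  · intro l _ hl
    simp only [d, hσ, Fin.cast_val_eq_self]
    rw [if_neg]
    intro h
    exact hl (eq_neg_of_add_eq_zero_right h)
  · exact fun h => absurd (Finset.mem_univ _) h

/-- Number of conjugacy classes of elements of odd prime order r in PGU_n(q) = GU_n(q)/scalars (n ≥ 3) when r divides q + 1: as in the linear case with q − 1 replaced by q + 1, the classes correspond to the rotation orbits on r-tuples of eigenvalue multiplicities summing to n with every entry < n, plus r − 1 further classes when r divides n; in all (C(n+r−1, r−1) − r − [r ∣ n])/r + r·[r ∣ n]. -/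
theorem result {K : Type*} [Field K] [Fintype K] {q n r : ℕ} (hK : Fintype.card K = q ^ 2) (hn : 3 ≤ n) (hr : r.Prime) (hr2 : r ≠ 2) (hrq : r ∣ q + 1) : Nat.card {C : ConjClasses (↥(Cfsg.GU n K q) ⧸ Subgroup.center ↥(Cfsg.GU n K q)) // ∃ g : ↥(Cfsg.GU n K q) ⧸ Subgroup.center ↥(Cfsg.GU n K q), ConjClasses.mk g = C ∧ orderOf g = r} = (Nat.choose (n + r - 1) (r - 1) - r - (if r ∣ n then 1 else 0)) / r + r * (if r ∣ n then 1 else 0) := by
  classical
  have : Fact r.Prime := ⟨hr⟩
  have hq1 := HermStd.one_lt_q hK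
  have hrq1 : ¬ r ∣ q - 1 := fun h => hr2 ((Nat.prime_dvd_prime_iff_eq hr Nat.prime_two).1 (by
    have h2 := Nat.dvd_sub hrq h
    rwa [show q + 1 - (q - 1) = 2 by omega] at h2))
  have hrK : r ∣ Fintype.card K - 1 := by
    rw [hK, show q ^ 2 - 1 = (q + 1) * (q - 1) by rw [← Nat.sq_sub_sq, one_pow]]
    exact hrq.mul_right _
  rw [← PGLPrimeClasses.natCard_classes (F := K) (n := n) (r := r) (by omega) hr hrK]
  set Z := Subgroup.center ↥(Cfsg.GU n K q) with hZ
  let ι : ↥(Cfsg.GU n K q) ⧸ Z →* GL (Fin n) K ⧸ Subgroup.center (GL (Fin n) K) :=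
    QuotientGroup.map Z (Subgroup.center (GL (Fin n) K)) (Cfsg.GU n K q).subtype (by
      intro x hx
      obtain ⟨z, -, hxz⟩ := Cfsg.Agent.S0783.center_scalar hK (by omega) hx
      show (x : GL (Fin n) K) ∈ Subgroup.center (GL (Fin n) K)
      rw [Matrix.GeneralLinearGroup.center_eq_range_scalar]
      exact ⟨z, Units.ext (by rw [PGLPrimeClasses.val_scalar, hxz])⟩)
  have hscal : ∀ (g : ↥(Cfsg.GU n K q)) (z : Kˣ), (z : K) ^ (q + 1) = 1 →
      ∃ g' : ↥(Cfsg.GU n K q), (g' : GL (Fin n) K) =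
        (g : GL (Fin n) K) * Matrix.GeneralLinearGroup.scalar (Fin n) z ∧
        (QuotientGroup.mk g' : ↥(Cfsg.GU n K q) ⧸ Z) = QuotientGroup.mk g := by
    intro g z hz
    obtain ⟨s, hs, hsZ⟩ := Cfsg.Agent.S0783.exists_scalar (n := n) hK z hz
    refine ⟨g * s, ?_, ?_⟩
    · rw [Subgroup.coe_mul]; congr 1
      exact Units.ext (hs.trans (PGLPrimeClasses.val_scalar z).symm)
    · rw [QuotientGroup.mk_mul, (QuotientGroup.eq_one_iff s).2 hsZ, mul_one]
  have hnormOne : ∀ (x : ↥(Cfsg.GU n K q)) (z : Kˣ),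
      (x : GL (Fin n) K) = Matrix.GeneralLinearGroup.scalar (Fin n) z → (z : K) ^ (q + 1) = 1 := by
    intro x z hx
    have hxc : x ∈ Z := Subgroup.mem_center_iff.2 fun g => Subtype.ext (by
      rw [Subgroup.coe_mul, Subgroup.coe_mul, hx]
      exact (PGLPrimeClasses.scalar_comm z _).eq.symm)
    obtain ⟨w, hw, hxw⟩ := Cfsg.Agent.S0783.center_scalar hK (by omega) hxc
    rw [hx, PGLPrimeClasses.val_scalar] at hxw
    have := congrFun (congrFun hxw ⟨0, by omega⟩) ⟨0, by omega⟩
    simp only [Matrix.smul_apply, Matrix.one_apply_eq, smul_eq_mul, mul_one] at this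
    rw [this]; exact hw
  have hιinj : Function.Injective ι := by
    rw [injective_iff_map_eq_one]
    intro x hx
    induction x using QuotientGroup.induction_on with | _ x =>
    have hx' : (x : GL (Fin n) K) ∈ Subgroup.center (GL (Fin n) K) := (QuotientGroup.eq_one_iff _).1 hx
    rw [Matrix.GeneralLinearGroup.center_eq_range_scalar] at hx'
    obtain ⟨z, hz⟩ := hx'
    refine (QuotientGroup.eq_one_iff x).2 (Subgroup.mem_center_iff.2 fun g => Subtype.ext ?_)
    rw [Subgroup.coe_mul, Subgroup.coe_mul, ← hz]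
    exact (PGLPrimeClasses.scalar_comm z _).eq.symm
  -- powers of lifts
  have hpow : ∀ g : ↥(Cfsg.GU n K q), orderOf (QuotientGroup.mk g : ↥(Cfsg.GU n K q) ⧸ Z) = r →
      ∃ c : Kˣ, (c : K) ^ (q + 1) = 1 ∧
        ((g : GL (Fin n) K) : Matrix (Fin n) (Fin n) K) ^ r = (c : K) • 1 := by
    intro g hg
    have h1 : g ^ r ∈ Z := by
      rw [← QuotientGroup.eq_one_iff, QuotientGroup.mk_pow, ← hg, pow_orderOf_eq_one]
    obtain ⟨z, hz, hzg⟩ := Cfsg.Agent.S0783.center_scalar hK (by omega) h1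
    exact ⟨z, hz, by rw [← hzg, SubmonoidClass.coe_pow, Units.val_pow_eq_pow_val]⟩
  have : Nonempty (Fin n) := ⟨⟨0, by omega⟩⟩
  refine Nat.card_eq_of_bijective (fun C => ⟨ConjClasses.map ι C.1, ?_⟩) ⟨?_, ?_⟩
  · obtain ⟨g, hgC, hg⟩ := C.2
    exact ⟨ι g, by rw [← hgC]; rfl, by rw [orderOf_injective ι hιinj, hg]⟩
  · rintro ⟨_, x, rfl, hx⟩ ⟨_, x', rfl, hx'⟩ e
    refine Subtype.ext (ConjClasses.mk_eq_mk_iff_isConj.2 ?_)
    have e' : IsConj (ι x) (ι x') := ConjClasses.mk_eq_mk_iff_isConj.1 (congrArg Subtype.val e)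
    induction x using QuotientGroup.induction_on with | _ g =>
    induction x' using QuotientGroup.induction_on with | _ g' =>
    obtain ⟨z, hz⟩ := (PGLPrimeClasses.mk_isConj_iff (g : GL (Fin n) K) (g' : GL (Fin n) K)).1 e'
    obtain ⟨c, hc, hgc⟩ := hpow g hx
    obtain ⟨c', hc', hgc'⟩ := hpow g' hx'
    have hcc : (z : K) ^ r * (c : K) = (c' : K) := PGLPrimeClasses.eq_of_isConj hz
      (by rw [PGLPrimeClasses.pow_mul_scalar, hgc, smul_smul]) hgc'
    have hz1 : (z : K) ^ (q + 1) = 1 := root_normOne hK hr hrq1 (by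
      have := congrArg (· ^ (q + 1)) hcc
      simpa [mul_pow, hc, hc'] using this)
    obtain ⟨g₂, hg₂, hg₂'⟩ := hscal g z hz1
    rw [← hg₂'] 
    exact (QuotientGroup.mk' Z).map_isConj ((Cfsg.Agent.S2587.result hK g₂ g').2 (hg₂ ▸ hz))
  · rintro ⟨_, x, rfl, hx⟩
    induction x using QuotientGroup.induction_on with | _ g =>
    have h1 : g ^ r ∈ Subgroup.center (GL (Fin n) K) := by
      rw [← QuotientGroup.eq_one_iff, QuotientGroup.mk_pow, ← hx, pow_orderOf_eq_one]
    rw [Matrix.GeneralLinearGroup.center_eq_range_scalar] at h1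
    obtain ⟨c, hc⟩ := h1
    have hgc : (g : Matrix (Fin n) (Fin n) K) ^ r = (c : K) • 1 := by
      rw [← PGLPrimeClasses.val_scalar, hc, Units.val_pow_eq_pow_val]
    -- move the scalar into the norm one group
    obtain ⟨a, b, hab⟩ : ∃ a b : ℤ, (r : ℤ) * a + ((q - 1 : ℕ) : ℤ) * b = 1 := by
      refine ⟨r.gcdA (q - 1), r.gcdB (q - 1), ?_⟩
      rw [← Nat.gcd_eq_gcd_ab, (hr.coprime_iff_not_dvd.2 hrq1).gcd_eq_one, Nat.cast_one]
    set z : Kˣ := c ^ (-a) with hz
    set c₁ : Kˣ := c ^ (((q - 1 : ℕ) : ℤ) * b) with hc₁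
    have hzc : z ^ r * c = c₁ := by
      rw [hz, hc₁, ← zpow_natCast, ← zpow_mul]
      nth_rw 2 [← zpow_one c]
      rw [← zpow_add]
      congr 1
      linear_combination -hab
    have hc1 : (c₁ : K) ^ (q + 1) = 1 := by
      have h2 : c₁ ^ (q + 1) = 1 := by
        rw [hc₁, ← zpow_natCast, ← zpow_mul,
          show ((q - 1 : ℕ) : ℤ) * b * ((q + 1 : ℕ) : ℤ) = (((q + 1) * (q - 1) : ℕ) : ℤ) * b by
            push_cast; ring, zpow_mul, zpow_natCast, show (q + 1) * (q - 1) = q ^ 2 - 1 by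
            rw [← Nat.sq_sub_sq, one_pow], ← hK, ← Fintype.card_units K, pow_card_eq_one, one_zpow]
      rw [← Units.val_pow_eq_pow_val, h2, Units.val_one]
    set g' := g * Matrix.GeneralLinearGroup.scalar (Fin n) z with hg'
    have hg'c : (g' : Matrix (Fin n) (Fin n) K) ^ r = (c₁ : K) • 1 := by
      rw [hg', PGLPrimeClasses.pow_mul_scalar, hgc, smul_smul, ← hzc, Units.val_mul,
        Units.val_pow_eq_pow_val]
    have hri : (r : K) ≠ 0 := by
      intro h
      obtain ⟨d, hd⟩ := hrK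
      have h1 : ((Fintype.card K - 1 : ℕ) : K) = 0 := by rw [hd, Nat.cast_mul, h, zero_mul]
      rw [Nat.cast_sub Fintype.card_pos, FiniteField.cast_card_eq_zero] at h1
      simp at h1
    obtain ⟨m, hm, hmg⟩ := PowScalarClasses.admissible_factors hri (Units.ne_zero c₁) hg'c
    suffices hex : ∃ h : ↥(Cfsg.GU n K q),
        ((h : GL (Fin n) K) : Matrix (Fin n) (Fin n) K) ^ r = (c₁ : K) • 1 ∧
        ((h : GL (Fin n) K) : Matrix (Fin n) (Fin n) K).charpoly = m.prod by
      obtain ⟨h, hh, hhc⟩ := hex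
      have hconj : IsConj (g * Matrix.GeneralLinearGroup.scalar (Fin n) z) (h : GL (Fin n) K) :=
        PowScalarClasses.isConj_of_charpoly hri (Units.ne_zero c₁) hg'c hh (hmg.trans hhc.symm)
      have hcl : ConjClasses.mk (QuotientGroup.mk g : GL (Fin n) K ⧸ Subgroup.center (GL (Fin n) K)) =
          ConjClasses.mk (ι (QuotientGroup.mk h)) :=
        ConjClasses.mk_eq_mk_iff_isConj.2 ((PGLPrimeClasses.mk_isConj_iff g (h : GL (Fin n) K)).2 ⟨z, hconj⟩)
      refine ⟨⟨ConjClasses.mk (QuotientGroup.mk h), QuotientGroup.mk h, rfl, ?_⟩,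
        Subtype.ext hcl.symm⟩
      obtain ⟨u, hu⟩ := isConj_iff.1 (ConjClasses.mk_eq_mk_iff_isConj.1 hcl)
      rw [← orderOf_injective ι hιinj, ← hu]
      exact ((MulAut.conj u).orderOf_eq _).trans hx
    by_cases hroot : ∃ l : K, l ^ r = (c₁ : K)
    · obtain ⟨l, hl⟩ := hroot
      have hl0 : l ≠ 0 := fun e => c₁.ne_zero (by rw [← hl, e, zero_pow hr.ne_zero])
      obtain ⟨ζ, hζ⟩ : ∃ ζ : K, IsPrimitiveRoot ζ r := by
        obtain ⟨ζ, hζ⟩ := exists_prime_orderOf_dvd_card (G := Kˣ) r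
          (by rw [Fintype.card_units]; exact hrK)
        exact ⟨ζ, by rw [← hζ, ← orderOf_units]; exact IsPrimitiveRoot.orderOf _⟩
      have hlin : ∀ p ∈ m, ∃ x : K, x ^ r = (c₁ : K) ∧ p = X - C x := by
        intro p hp
        obtain ⟨hpm, hpi, hpd⟩ := hm.1 p hp
        have hprod : ∀ x : K, x ^ r = (c₁ : K) ↔ x ∈ (Finset.range r).image fun i => ζ ^ i * l := by
          intro x
          rw [Finset.mem_image]
          constructor
          · intro hx'
            have hdiv : (x / l) ^ r = 1 := by rw [div_pow, hx', hl, div_self (Units.ne_zero _)]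
            obtain ⟨i, hi, hi'⟩ := hζ.eq_pow_of_pow_eq_one hdiv
            exact ⟨i, Finset.mem_range.2 hi, by rw [hi', div_mul_cancel₀ _ hl0]⟩
          · rintro ⟨i, -, rfl⟩
            rw [mul_pow, ← pow_mul, mul_comm i r, pow_mul, hζ.pow_eq_one, one_pow, one_mul, hl]
        have hs : (X ^ r - C (c₁ : K)).Splits := X_pow_sub_C_splits_of_isPrimitiveRoot hζ hl
        have := hpi.natDegree_pos
        obtain ⟨x, hx'⟩ := (hs.of_dvd (X_pow_sub_C_ne_zero hr.pos _) hpd).exists_eval_eq_zero (by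
          rw [degree_eq_natDegree hpi.ne_zero]; exact_mod_cast (by omega : p.natDegree ≠ 0))
        refine ⟨x, ?_, eq_of_monic_of_associated hpm (monic_X_sub_C x)
          ((irreducible_X_sub_C x).associated_of_dvd hpi (dvd_iff_isRoot.2 hx')).symm⟩
        have h2 := eval_eq_zero_of_dvd_of_eval_eq_zero hpd hx'
        simpa [sub_eq_zero] using h2
      choose f hf hf' using hlin
      have hcard : Multiset.card m = n := by
        have h2 := hm.2
        rw [Multiset.map_congr rfl fun p hp =>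
          show p.natDegree = 1 by rw [hf' p hp, natDegree_X_sub_C]] at h2
        simpa using h2
      let L := m.toList
      have hL : L.length = n := (Multiset.length_toList m).trans hcard
      have hLm : ∀ i : Fin n, L[(i : ℕ)] ∈ m := fun i => Multiset.mem_toList.1 (List.getElem_mem _)
      let d : Fin n → K := fun i => f _ (hLm i)
      have hd : ∀ i, d i ^ (q + 1) = 1 := fun i => root_normOne hK hr hrq1 (by rw [hf _ (hLm i)]; exact hc1)
      refine ⟨Unitary.diagGU hK d hd, ?_, ?_⟩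
      · show Matrix.diagonal d ^ r = _
        rw [Matrix.diagonal_pow, Matrix.smul_one_eq_diagonal]
        congr 1
        funext i
        exact hf _ (hLm i)
      · show (Matrix.diagonal d).charpoly = _
        rw [Matrix.charpoly_diagonal, ← Multiset.coe_toList m]
        show ∏ i, _ = (List.prod L)
        have : ∀ i, X - C (d i) = L[(i : ℕ)] := fun i => (hf' _ (hLm i)).symm
        simp only [this]
        rw [← List.prod_ofFn]
        congr 1
        exact List.ext_getElem (by simp [hL]) (by simp)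
    · push Not at hroot
      have hirr : Irreducible (X ^ r - C (c₁ : K)) := X_pow_sub_C_irreducible_of_prime hr hroot
      have huniq : ∀ t : Multiset K[X], PowScalarClasses.Admissible r n (c₁ : K) t →
          t = Multiset.replicate (n / r) (X ^ r - C (c₁ : K)) ∧ r ∣ n := by
        intro t ht
        have h1 : t = Multiset.replicate (Multiset.card t) (X ^ r - C (c₁ : K)) :=
          Multiset.eq_replicate_card.2 fun p hp => eq_of_monic_of_associated (ht.1 p hp).1
            (monic_X_pow_sub_C _ hr.ne_zero) ((ht.1 p hp).2.1.associated_of_dvd hirr (ht.1 p hp).2.2)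
        have h2 := ht.2
        rw [h1, Multiset.map_replicate, natDegree_X_pow_sub_C, Multiset.sum_replicate, smul_eq_mul] at h2
        exact ⟨by rw [h1, ← h2, Nat.mul_div_cancel _ hr.pos], ⟨Multiset.card t, by rw [← h2, mul_comm]⟩⟩
      obtain ⟨hmeq, hrn⟩ := huniq m hm
      obtain ⟨h, hh⟩ := exists_monomial hK hr hrn hc1
      obtain ⟨t, ht, htc⟩ := PowScalarClasses.admissible_factors hri (Units.ne_zero c₁) hh
      exact ⟨h, hh, by rw [htc, (huniq t ht).1, hmeq]⟩

end Cfsg.Agent.S2672
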