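import Cfsg.Statements.S2674
import Cfsg.Agent.Lib.Classical.OrthPrimeClasses
-- import your own Cfsg.Agent.* helpers here

set_option autoImplicit false
open Cfsg

namespace Cfsg.Agent.S2674

open Cfsg.Agent.Classical Cfsg.Agent.Classical.OrthTypes Cfsg.Agent.Classical.OrthPrimeClasses
open Cfsg.Agent.Forms

/-- Number of conjugacy classes of elements of odd prime order r ≠ p in the orthogonal group O⁺_2m(q) of Σ x_j y_j (m ≥ 1): with i the multiplicative order of q mod r and t = (r − 1)/i — if i is odd, C(⌊m/i⌋ + t/2, t/2) − 1; if i is even, C(⌊2m/i⌋ + t, t) − 1 minus, when i divides 2m with odd quotient, the C(2m/i + t − 1, t − 1) tuples using the whole space (an odd number of elliptic i-blocks fills an elliptic, not a hyperbolic, space). -/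
theorem result {F : Type*} [Field F] [Fintype F] {p q : ℕ} [Fact p.Prime] [CharP F p] (hF : Fintype.card F = q) (m r i t : ℕ) (hm : 1 ≤ m) (hr : r.Prime) (hr2 : r ≠ 2) (hrp : r ≠ p) (hi : i = orderOf (q : ZMod r)) (ht : t * i = r - 1) : Nat.card {C : ConjClasses ↥(Cfsg.isometryGroup F (Cfsg.quadFormPlus m F)) // ∃ g : ↥(Cfsg.isometryGroup F (Cfsg.quadFormPlus m F)), ConjClasses.mk g = C ∧ orderOf g = r} = if Odd i then Nat.choose (m / i + t / 2) (t / 2) - 1 else Nat.choose (2 * m / i + t) t - 1 - (if i ∣ 2 * m ∧ Odd (2 * m / i) then Nat.choose (2 * m / i + t - 1) (t - 1) else 0) := by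
  classical
  obtain ⟨hS, P, hP, hfac⟩ := setting_of (p := p) hF hr hr2 hrp hi ht
  have hipos := ne_of_pos hS
  have ht0 : 0 < t := Nat.pos_of_ne_zero fun h => by
    have := hr.two_le
    rw [h, Nat.zero_mul] at ht
    omega
  have hc : Fintype.card (Fin m ⊕ Fin m) = 2 * m := by simp; omega
  have hty : (IsPlus (PlusStd.plusQ F m) m ↔ Odd i ∨ Even (2 * m / i)) ↔
      (Odd i ∨ Even (2 * m / i)) := by simp [isPlus_plusQ]
  rw [← OrthForms.plusQ_eq, natCard_classes_even hS hc (PlusStd.plusQ_nondeg F m) hm,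
    natCard_good hS P hfac, hP]
  simp only [hty]
  by_cases hodd : Odd i
  · simp only [hodd, true_or, if_true]
    rw [← Nat.div_div_eq_div_mul, Nat.mul_div_cancel_left m two_pos]
  · simp only [hodd, false_or, if_false]
    by_cases he : Even (2 * m / i)
    · rw [if_pos he, if_neg (fun h => Nat.not_odd_iff_even.2 he h.2), Nat.sub_zero]
    · rw [if_neg he, choose_pred (by omega) hipos ht0]
      simp only [Nat.not_even_iff_odd.1 he, and_true]
      omega

end Cfsg.Agent.S2674
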