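import Cfsg.Statements.S2675
import Cfsg.Agent.Lib.Classical.OrthPrimeClasses
-- import your own Cfsg.Agent.* helpers here

set_option autoImplicit false
open Cfsg

namespace Cfsg.Agent.S2675

open Cfsg.Agent.Classical Cfsg.Agent.Classical.OrthTypes Cfsg.Agent.Classical.OrthPrimeClasses
open Cfsg.Agent.Forms

/-- Number of conjugacy classes of elements of odd prime order r ≠ p in the orthogonal group O⁻_2m(q) of an elliptic form Σ_(j<m−1) x_j y_j + z₁² + a z₁z₂ + c z₂² (binary part anisotropic, m ≥ 1): with i the multiplicative order of q mod r and t = (r − 1)/i — if i is odd, C(⌊m/i⌋ + t/2, t/2) − 1 minus, when i divides m, the C(m/i + t/2 − 1, t/2 − 1) tuples filling the whole space (dual pairs of totally singular blocks fill a hyperbolic space); if i is even, C(⌊2m/i⌋ + t, t) − 1 minus, when i divides 2m with even quotient, the C(2m/i + t − 1, t − 1) tuples filling the whole space with an even number of elliptic blocks. -/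
theorem result {F : Type*} [Field F] [Fintype F] {p q : ℕ} [Fact p.Prime] [CharP F p] (hF : Fintype.card F = q) (m r i t : ℕ) (hm : 1 ≤ m) (a c : F) (hac : ∀ z₁ z₂ : F, z₁ ^ 2 + a * z₁ * z₂ + c * z₂ ^ 2 = 0 → z₁ = 0 ∧ z₂ = 0) (hr : r.Prime) (hr2 : r ≠ 2) (hrp : r ≠ p) (hi : i = orderOf (q : ZMod r)) (ht : t * i = r - 1) : Nat.card {C : ConjClasses ↥(Cfsg.isometryGroup F (Cfsg.quadFormMinus (m - 1) F a c)) // ∃ g : ↥(Cfsg.isometryGroup F (Cfsg.quadFormMinus (m - 1) F a c)), ConjClasses.mk g = C ∧ orderOf g = r} = if Odd i then Nat.choose (m / i + t / 2) (t / 2) - 1 - (if i ∣ m then Nat.choose (m / i + t / 2 - 1) (t / 2 - 1) else 0) else Nat.choose (2 * m / i + t) t - 1 - (if i ∣ 2 * m ∧ Even (2 * m / i) then Nat.choose (2 * m / i + t - 1) (t - 1) else 0) := by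
  classical
  obtain ⟨hS, P, hP, hfac⟩ := setting_of (p := p) hF hr hr2 hrp hi ht
  have hipos := ne_of_pos hS
  obtain ⟨k, rfl⟩ : ∃ k, m = k + 1 := ⟨m - 1, by omega⟩
  show Nat.card {C : ConjClasses ↥(Cfsg.isometryGroup F (Cfsg.quadFormMinus k F a c)) //
      ∃ g : ↥(Cfsg.isometryGroup F (Cfsg.quadFormMinus k F a c)), ConjClasses.mk g = C ∧ orderOf g = r} = _
  have hc' : Fintype.card ((Fin k ⊕ Fin k) ⊕ Fin 2) = 2 * (k + 1) := by simp; omega
  have hty : (IsPlus (OrthForms.minQ F k a c) (k + 1) ↔ Odd i ∨ Even (2 * (k + 1) / i)) ↔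
      ¬ (Odd i ∨ Even (2 * (k + 1) / i)) := by simp [not_isPlus_minQ hac]
  rw [← OrthForms.minQ_eq, natCard_classes_even hS hc' (OrthForms.minQ_nondeg k hac) hm,
    natCard_good hS P hfac, hP]
  simp only [hty]
  by_cases hodd : Odd i
  · simp only [hodd, true_or, not_true, if_false, if_true]
    have ht2 : 0 < t / 2 := by
      have hev : Even (t * i) := by rw [ht]; exact hr.even_sub_one hr2
      have hte : Even t := (Nat.even_mul.1 hev).resolve_right (Nat.not_even_iff_odd.2 hodd)
      obtain ⟨j, rfl⟩ := hte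
      have := hr.two_le
      rcases Nat.eq_zero_or_pos j with rfl | hj
      · simp at ht; omega
      · omega
    rw [choose_pred (by omega) (by omega) ht2, Nat.mul_div_mul_left _ _ two_pos]
    simp only [Nat.mul_dvd_mul_iff_left two_pos]
    omega
  · simp only [hodd, false_or, if_false]
    have ht0 : 0 < t := Nat.pos_of_ne_zero fun h => by
      have := hr.two_le
      rw [h, Nat.zero_mul] at ht
      omega
    by_cases he : Even (2 * (k + 1) / i)
    · rw [if_neg (not_not.2 he), choose_pred (by omega) hipos ht0]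
      simp only [he, and_true]
      omega
    · rw [if_pos he, if_neg (fun h => he h.2), Nat.sub_zero]

end Cfsg.Agent.S2675
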