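import Cfsg.Statements.S2676
import Cfsg.Agent.Lib.Classical.JordanSpClasses
-- import your own Cfsg.Agent.* helpers here

set_option autoImplicit false
open Classical
open Cfsg

namespace Cfsg.Agent.S2676

/-- Number of conjugacy classes of elements of order p in Sp_2m(q), q a power of the odd prime p: the classes correspond to the signed partitions of 2m — partitions with all parts at most p in which every odd part has even multiplicity, each even part size that occurs carrying a sign — other than the all-ones partition; so the count is the sum over such partitions of 2^(number of distinct even parts), minus one. -/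
theorem result {F : Type*} [Field F] [Fintype F] {p : ℕ} [Fact p.Prime] [CharP F p] (hp : p ≠ 2) (m : ℕ) : Nat.card {C : ConjClasses ↥(Matrix.symplecticGroup (Fin m) F) // ∃ g : Matrix.symplecticGroup (Fin m) F, ConjClasses.mk g = C ∧ orderOf g = p} = (∑ μ ∈ Finset.univ.filter (fun μ : Nat.Partition (2 * m) => (∀ a ∈ μ.parts, a ≤ p) ∧ ∀ j : ℕ, Odd j → Even (μ.parts.count j)), 2 ^ ((μ.parts.toFinset.filter (fun j : ℕ => Even j)).card)) - 1 := by
  have hins : {C : ConjClasses ↥(Matrix.symplecticGroup (Fin m) F) |
      ∃ g : Matrix.symplecticGroup (Fin m) F, g ^ p = 1 ∧ ConjClasses.mk g = C} =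
      insert 1 {C | ∃ g : Matrix.symplecticGroup (Fin m) F, ConjClasses.mk g = C ∧ orderOf g = p} := by
    ext C
    simp only [Set.mem_setOf_eq, Set.mem_insert_iff]
    constructor
    · rintro ⟨g, hg, rfl⟩
      by_cases h1 : g = 1
      · exact Or.inl (by rw [h1]; rfl)
      · exact Or.inr ⟨g, rfl, orderOf_eq_prime hg h1⟩
    · rintro (rfl | ⟨g, rfl, hg⟩)
      · exact ⟨1, one_pow p, rfl⟩
      · exact ⟨g, hg ▸ pow_orderOf_eq_one g, rfl⟩
  have hnot : (1 : ConjClasses ↥(Matrix.symplecticGroup (Fin m) F)) ∉
      {C | ∃ g : Matrix.symplecticGroup (Fin m) F, ConjClasses.mk g = C ∧ orderOf g = p} := by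
    rintro ⟨g, hg, ho⟩
    rw [ConjClasses.one_eq_mk_one, ConjClasses.mk_eq_mk_iff_isConj, isConj_one_left] at hg
    rw [hg, orderOf_one] at ho
    exact (Fact.out : p.Prime).one_lt.ne ho
  have key := Cfsg.Agent.Classical.JordanSpClasses.natCard_pow_classes (F := F) (m := m) hp
  show Set.ncard {C : ConjClasses ↥(Matrix.symplecticGroup (Fin m) F) |
      ∃ g : Matrix.symplecticGroup (Fin m) F, ConjClasses.mk g = C ∧ orderOf g = p} = _
  have key' : Set.ncard {C : ConjClasses ↥(Matrix.symplecticGroup (Fin m) F) |
      ∃ g : Matrix.symplecticGroup (Fin m) F, g ^ p = 1 ∧ ConjClasses.mk g = C} = _ := key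
  rw [hins, Set.ncard_insert_of_notMem hnot (Set.toFinite _),
    Cfsg.Agent.Classical.JordanSpClasses.Good] at key'
  have e := eq_tsub_of_add_eq key'
  convert e using 2

end Cfsg.Agent.S2676
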