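import Cfsg.Statements.S2677
import Cfsg.Agent.Lib.Classical.UnitaryFrames

set_option autoImplicit false
set_option maxHeartbeats 800000
set_option linter.unusedSectionVars false
open Cfsg
open Cfsg.Agent.Forms
open Cfsg.Agent.Classical.Unitary

namespace Cfsg.Agent.S2677

variable {K : Type*} [Field K] [Fintype K] {q₀ q n : ℕ}

/-- The scaled fixed-field points of `GU`. -/
theorem card_mul (hK : Fintype.card K = q ^ 2) (σ : K ≃+* K) (K₀ : Subfield K) [Fintype K₀]
    (hK₀ : Fintype.card K₀ = q₀ ^ 2) (hfix : ∀ x, x ∈ K₀ ↔ σ x = x)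
    (hq : ∀ x : K, x ∈ K₀ → x ^ q = x ^ q₀) (hn : 1 ≤ n) :
    Nat.card {g : ↥(Cfsg.GU n K q) // ∃ c : K, c ≠ 0 ∧
      ((g : GL (Fin n) K) : Matrix (Fin n) (Fin n) K).map σ
        = c • ((g : GL (Fin n) K) : Matrix (Fin n) (Fin n) K)} * (q₀ + 1)
      = (q + 1) * Nat.card ↥(Cfsg.GU n K₀ q₀) := by
  classical
  have : Nonempty (Fin n) := ⟨⟨0, hn⟩⟩
  have hpres : ∀ (a : K) (h : Matrix (Fin n) (Fin n) K₀),
      (∀ u v, Cfsg.hermForm n K q ((a • h.map K₀.subtype).mulVec u)
        ((a • h.map K₀.subtype).mulVec v) = Cfsg.hermForm n K q u v) ↔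
      a ^ (q + 1) • (h.transpose * h.map (HermStd.qHom hK₀)).map K₀.subtype = 1 := by
    intro a h
    rw [preserves_iff hK]
    have e : (a • h.map K₀.subtype).map (HermStd.qHom hK)
        = a ^ q • (h.map (HermStd.qHom hK₀)).map K₀.subtype := by
      ext i j
      simp [mul_pow, hq _ (h i j).2]
    rw [e, Matrix.transpose_smul, Matrix.smul_mul, Matrix.mul_smul, smul_smul, ← pow_succ',
      Matrix.map_mul, Matrix.transpose_map]
  let S := {g : ↥(Cfsg.GU n K q) // ∃ c : K, c ≠ 0 ∧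
      ((g : GL (Fin n) K) : Matrix (Fin n) (Fin n) K).map σ
        = c • ((g : GL (Fin n) K) : Matrix (Fin n) (Fin n) K)}
  let N := (powMonoidHom (q + 1) : Kˣ →* Kˣ).ker
  let N₀ := (powMonoidHom (q₀ + 1) : K₀ˣ →* K₀ˣ).ker
  have hdec : ∀ g : S, ∃ (a : N) (h : ↥(Cfsg.GU n K₀ q₀)),
      gmat g.1 = ((a : Kˣ) : K) • (gmat h).map K₀.subtype := by
    rintro ⟨g, c, hc, hcg⟩
    obtain ⟨⟨i, j⟩, ha⟩ : ∃ ij : Fin n × Fin n, gmat g ij.1 ij.2 ≠ 0 := by
      by_contra hne
      push Not at hne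
      exact g.1.ne_zero (Matrix.ext fun i j => hne (i, j))
    dsimp only at ha
    set a := gmat g i j with hadef
    have h1 : ∀ k l, σ (gmat g k l) = c * gmat g k l := fun k l => by
      simpa using congrFun (congrFun hcg k) l
    let h : Matrix (Fin n) (Fin n) K₀ := fun k l => ⟨a⁻¹ * gmat g k l, by
      rw [hfix, hadef, map_mul, map_inv₀, h1, h1, mul_inv, mul_mul_mul_comm, inv_mul_cancel₀ hc,
        one_mul]⟩
    have hh : gmat g = a • h.map K₀.subtype := by
      ext k l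
      show gmat g k l = a * (a⁻¹ * gmat g k l)
      rw [mul_inv_cancel_left₀ ha]
    have hgh := (hpres a h).1 (hh ▸ g.2)
    set P := h.transpose * h.map (HermStd.qHom hK₀) with hP
    have hmu : a ^ (q + 1) * (P i i : K) = 1 := by
      have := congrFun (congrFun hgh i) i
      simpa using this
    have hPii : (P i i : K) = (a ^ (q + 1))⁻¹ := eq_inv_of_mul_eq_one_right hmu
    set μ : K₀ := (P i i)⁻¹ with hμdef
    have hμa : (μ : K) = a ^ (q + 1) := by rw [hμdef, Subfield.coe_inv, hPii, inv_inv]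
    have hμq : μ ^ q₀ = μ := by
      apply Subtype.ext
      rw [SubmonoidClass.coe_pow, ← hq _ μ.2, hμa, ← pow_mul, mul_comm, pow_mul, pow_succ,
        pow_qq hK, mul_comm, ← pow_succ]
    have hμ0 : μ ≠ 0 := by
      intro h0
      rw [h0, ZeroMemClass.coe_zero] at hμa
      exact pow_ne_zero _ ha hμa.symm
    obtain ⟨b, hb⟩ := Classical.UnitaryCount.exists_norm_eq hK₀ hμ0 hμq
    have hb0 : b ≠ 0 := fun h0 => hμ0 (by rw [← hb, h0, zero_pow (Nat.succ_ne_zero _)])
    have hbK : (b : K) ^ (q + 1) = (μ : K) := by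
      rw [pow_succ, hq _ b.2, ← pow_succ, ← SubmonoidClass.coe_pow, hb]
    have hPmu : (μ : K₀) • P = 1 := by
      apply Matrix.map_injective K₀.subtype.injective
      rw [← hμa] at hgh
      simpa [Matrix.map_smul'] using hgh
    have hpres₀ : ∀ u v, Cfsg.hermForm n K₀ q₀ ((b • h).mulVec u) ((b • h).mulVec v)
        = Cfsg.hermForm n K₀ q₀ u v := by
      rw [preserves_iff hK₀]
      rw [show (b • h).map (HermStd.qHom hK₀) = b ^ q₀ • h.map (HermStd.qHom hK₀) from
        Matrix.ext fun k l => by simp [mul_pow],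
        Matrix.transpose_smul, Matrix.smul_mul, Matrix.mul_smul, smul_smul, ← pow_succ', hb]
      exact hPmu
    have hab : (a / (b : K)) ^ (q + 1) = 1 := by
      rw [div_pow, hbK, hμa, div_self (pow_ne_zero _ ha)]
    have hab0 : a / (b : K) ≠ 0 := div_ne_zero ha (by simpa using hb0)
    refine ⟨⟨Units.mk0 _ hab0, MonoidHom.mem_ker.2 (Units.ext (by simpa using hab))⟩,
      guMk hK₀ (b • h) hpres₀, ?_⟩
    show gmat g = (a / (b : K)) • (b • h).map K₀.subtype
    rw [hh]
    ext k l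
    have : (b : K) ≠ 0 := by simpa using hb0
    simp
    field_simp
  choose A H hAH using hdec
  have hN₀ : ∀ t : N₀, ((t : K₀ˣ) : K₀) ^ (q₀ + 1) = 1 := fun t => by
    have := congrArg Units.val (MonoidHom.mem_ker.1 t.2)
    simpa using this
  let ι : N₀ →* N := ((Units.map K₀.subtype.toMonoidHom).comp N₀.subtype).codRestrict N fun t => by
    refine MonoidHom.mem_ker.2 (Units.ext ?_)
    show (((t : K₀ˣ) : K₀) : K) ^ (q + 1) = 1
    rw [pow_succ, hq _ ((t : K₀ˣ) : K₀).2, ← pow_succ, ← SubmonoidClass.coe_pow, hN₀,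
      OneMemClass.coe_one]
  let sc : N₀ → ↥(Cfsg.GU n K₀ q₀) := fun t =>
    diagGU hK₀ (fun _ => ((t : K₀ˣ) : K₀)) (fun _ => hN₀ t)
  let Ψ : S × N₀ → N × ↥(Cfsg.GU n K₀ q₀) := fun p => (A p.1 * ι p.2, sc p.2⁻¹ * H p.1)
  have hprod : ∀ p : S × N₀,
      (((Ψ p).1 : Kˣ) : K) • (gmat (Ψ p).2).map K₀.subtype = gmat p.1.1 := by
    intro p
    rw [hAH p.1]
    ext i j
    have ht : (((p.2 : K₀ˣ) : K₀) : K) ≠ 0 := by simp
    simp [Ψ, ι, sc, gmat_mul, gmat_diagGU, Matrix.diagonal_mul]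
    field_simp
  have hinj : Function.Injective Ψ := by
    intro p p' hpp
    have hg : p.1 = p'.1 :=
      Subtype.ext (GU_ext fun x => by rw [← hprod p, ← hprod p', hpp])
    have hf := congrArg Prod.fst hpp
    simp only [Ψ, hg] at hf
    have h2 := congrArg (fun z : N => ((z : Kˣ) : K)) (mul_left_cancel hf)
    exact Prod.ext hg (Subtype.ext (Units.ext (Subtype.ext h2)))
  have hsurj : Function.Surjective Ψ := by
    rintro ⟨a, h⟩
    have haq : ((a : Kˣ) : K) ^ (q + 1) = 1 := by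
      simpa using congrArg Units.val (MonoidHom.mem_ker.1 a.2)
    let g : ↥(Cfsg.GU n K q) := guMk hK (((a : Kˣ) : K) • (gmat h).map K₀.subtype) (by
      rw [hpres, haq, one_smul, (preserves_iff hK₀ (gmat h)).1 h.2]
      exact Matrix.map_one _ (map_zero _) (map_one _))
    have hgc : ∃ c : K, c ≠ 0 ∧ (gmat g).map σ = c • gmat g := by
      refine ⟨σ ((a : Kˣ) : K) / ((a : Kˣ) : K), div_ne_zero (by simp) (Units.ne_zero _),
        Matrix.ext fun i j => ?_⟩
      have hfx := (hfix _).1 ((gmat h : Matrix (Fin n) (Fin n) K₀) i j).2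
      show σ (((a : Kˣ) : K) * ((gmat h : Matrix (Fin n) (Fin n) K₀) i j : K)) = _ * (((a : Kˣ) : K) * ((gmat h : Matrix (Fin n) (Fin n) K₀) i j : K))
      rw [map_mul, hfx]
      field_simp
    set s : S := ⟨g, hgc⟩
    have hs : ((A s : Kˣ) : K) • (gmat (H s)).map K₀.subtype
        = ((a : Kˣ) : K) • (gmat h).map K₀.subtype := (hAH s).symm
    obtain ⟨⟨i, j⟩, hij⟩ : ∃ ij : Fin n × Fin n, gmat h ij.1 ij.2 ≠ 0 := by
      by_contra hne
      push Not at hne
      exact h.1.ne_zero (Matrix.ext fun i j => hne (i, j))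
    dsimp only at hij
    set t₀ : K₀ := gmat (H s) i j / gmat h i j with ht₀def
    have hsij : ((A s : Kˣ) : K) * ((gmat (H s) : Matrix (Fin n) (Fin n) K₀) i j : K) = ((a : Kˣ) : K) * ((gmat h : Matrix (Fin n) (Fin n) K₀) i j : K) :=
      congrFun (congrFun hs i) j
    have hijK : ((gmat h : Matrix (Fin n) (Fin n) K₀) i j : K) ≠ 0 := by simpa using hij
    have hta : ((a : Kˣ) : K) = ((A s : Kˣ) : K) * (t₀ : K) := by
      rw [ht₀def, Subfield.coe_div, ← mul_div_assoc, hsij, mul_div_assoc, div_self hijK, mul_one]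
    have ht : t₀ ^ (q₀ + 1) = 1 := by
      apply Subtype.ext
      rw [SubmonoidClass.coe_pow, pow_succ, ← hq _ t₀.2, ← pow_succ, OneMemClass.coe_one]
      have e := congrArg (· ^ (q + 1)) hta
      simp only [mul_pow, haq] at e
      have hA : ((A s : Kˣ) : K) ^ (q + 1) = 1 := by
        simpa using congrArg Units.val (MonoidHom.mem_ker.1 (A s).2)
      rw [hA, one_mul] at e
      exact e.symm
    have ht0 : t₀ ≠ 0 := fun h0 => by simp [h0] at ht
    refine ⟨(s, ⟨Units.mk0 _ ht0, MonoidHom.mem_ker.2 (Units.ext (by simpa using ht))⟩), ?_⟩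
    have hfst : A s * ι ⟨Units.mk0 _ ht0, MonoidHom.mem_ker.2 (Units.ext (by simpa using ht))⟩ = a :=
      Subtype.ext (Units.ext hta.symm)
    refine Prod.ext hfst (GU_ext fun x => ?_)
    have h2 := hprod (s, ⟨Units.mk0 _ ht0, MonoidHom.mem_ker.2 (Units.ext (by simpa using ht))⟩)
    have h3 := congrArg (fun M : Matrix (Fin n) (Fin n) K₀ => M.mulVec x)
      (Matrix.map_injective K₀.subtype.injective (smul_right_injective (Matrix (Fin n) (Fin n) K)
        (Units.ne_zero (a : Kˣ)) (show _ = gmat g from by rw [← hfst]; exact h2)))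
    exact h3
  have := Nat.card_congr (Equiv.ofBijective Ψ ⟨hinj, hsurj⟩)
  rwa [Nat.card_prod, Nat.card_prod, natCard_normOne hK₀, natCard_normOne hK] at this


/-- Centraliser of a field automorphism of odd prime order in PGU_n(q): let q = q₀^r with r an odd prime, K the field with q² elements and σ a field automorphism of K of order r (fixed field of order q₀²). The elements g of GU_n(q) whose entrywise image under σ is a scalar multiple of g — those whose coset modulo the q + 1 unitary scalars is fixed by σ — number (q + 1)/(q₀ + 1) · |GU_n(q₀)|; equivalently the centraliser in PGU_n(q) of the induced automorphism has the order of PGU_n(q₀). -/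
theorem result {K : Type*} [Field K] [Fintype K] {q₀ q r n : ℕ} (hr : r.Prime) (hr2 : r ≠ 2) (hn : 1 ≤ n) (hq : q = q₀ ^ r) (hK : Fintype.card K = q ^ 2) (σ : K ≃+* K) (hσ : orderOf σ = r) : (Nat.card {g : ↥(Cfsg.GU n K q) // ∃ c : K, c ≠ 0 ∧ ((g : GL (Fin n) K) : Matrix (Fin n) (Fin n) K).map σ = c • ((g : GL (Fin n) K) : Matrix (Fin n) (Fin n) K)} : ℤ) = ((q + 1) / (q₀ + 1) : ℕ) * ((q₀ : ℤ) ^ (n * (n - 1) / 2) * ∏ i : Fin n, ((q₀ : ℤ) ^ ((i : ℕ) + 1) - (-1) ^ ((i : ℕ) + 1))) := by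
  classical
  let K₀ : Subfield K := FixedPoints.subfield (Subgroup.zpowers σ) K
  have hfix : ∀ x, x ∈ K₀ ↔ σ x = x := by
    intro x
    refine ⟨fun h => h ⟨σ, Subgroup.mem_zpowers σ⟩, fun h => ?_⟩
    rintro ⟨g, hg⟩
    exact (Subgroup.zpowers_le (H := MulAction.stabilizer (K ≃+* K) x)).2 h hg
  have : Finite (K ≃+* K) := Finite.of_injective (fun e => (e : K → K)) DFunLike.coe_injective
  have : Fintype (Subgroup.zpowers σ) := Fintype.ofFinite _
  have : Fintype K₀ := Fintype.ofFinite _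
  have hfr : Module.finrank K₀ K = r := by
    rw [FixedPoints.finrank_eq_card, ← Nat.card_eq_fintype_card, Nat.card_zpowers, hσ]
  have hcard : Fintype.card K₀ = q₀ ^ 2 := by
    have h := Module.card_eq_pow_finrank (K := K₀) (V := K)
    rw [hfr, hK, hq, ← pow_mul, mul_comm, pow_mul] at h
    exact (Nat.pow_left_injective hr.ne_zero h).symm
  have hq₀ : ∀ x : K, x ∈ K₀ → x ^ q = x ^ q₀ := by
    intro x hx
    obtain ⟨k, hk⟩ := hr.odd_of_ne_two hr2
    have h : (⟨x, hx⟩ : K₀) ^ q = (⟨x, hx⟩ : K₀) ^ q₀ := by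
      rw [hq, hk, pow_succ, pow_mul (⟨x, hx⟩ : K₀), pow_mul q₀, ← hcard, FiniteField.pow_card_pow]
    simpa using congrArg Subtype.val h
  have hm := card_mul hK σ K₀ hcard hfix hq₀ hn
  obtain ⟨d, hd⟩ : q₀ + 1 ∣ q + 1 := by
    rw [hq]
    simpa using (hr.odd_of_ne_two hr2).nat_add_dvd_pow_add_pow q₀ 1
  rw [hd, Nat.mul_div_cancel_left _ (Nat.succ_pos _)]
  rw [hd, mul_assoc, mul_comm _ (q₀ + 1)] at hm
  rw [Nat.eq_of_mul_eq_mul_left (Nat.succ_pos _) hm, natCard_GU hcard, Finset.prod_range]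
  push_cast
  refine congrArg _ (congrArg _ (Finset.prod_congr rfl fun i _ => ?_))
  have h0 : 1 ≤ q₀ := by have := HermStd.one_lt_q hcard; omega
  have h1 : 1 ≤ q₀ ^ ((i : ℕ) + 1) := Nat.one_le_pow _ _ h0
  split_ifs with he
  · rw [Odd.neg_one_pow (Even.add_one he)]
    push_cast
    ring
  · rw [Even.neg_one_pow (Nat.not_even_iff_odd.1 he).add_one, Nat.cast_sub h1]
    push_cast
    ring

end Cfsg.Agent.S2677
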