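import Cfsg.Statements.S2679
import Cfsg.Agent.Lib.Classical.RestrictScalars

set_option autoImplicit false
open Cfsg

namespace Cfsg.Agent.S2679

open Classical.OrthForms Forms.PlusStd in
theorem minQ_map {F K : Type*} [Field F] [Field K] (i : F →+* K) (k : ℕ) (a b : F)
    (x : (Fin k ⊕ Fin k) ⊕ Fin 2 → F) :
    minQ K k (i a) (i b) (i ∘ x) = i (minQ F k a b x) := by
  simp only [minQ_apply, plusQ_apply, Cfsg.quadFormPlus, map_add, map_sum, map_mul, map_pow,
    Function.comp_apply]

theorem embed {F K : Type*} [Field F] [Fintype F] [Field K] [Fintype K] {q : ℕ}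
    (hF : Fintype.card F = q) (hK : Fintype.card K = q ^ 2) (k : ℕ) (a c : F)
    (hac : ∀ z₁ z₂ : F, z₁ ^ 2 + a * z₁ * z₂ + c * z₂ ^ 2 = 0 → z₁ = 0 ∧ z₂ = 0) :
    ∃ φ : ↥(Cfsg.isometryGroup F (Cfsg.quadFormMinus k F a c)) →*
      ↥(Cfsg.isometryGroup K (Cfsg.quadFormPlus (k + 1) K)), Function.Injective φ := by
  classical
  obtain ⟨i, ω, hfix, himg, hne, hsum, hprod⟩ := Classical.QuadExt.exists_data hF hK hac
  let QF := Classical.OrthForms.minQ F k a c
  let QK := Classical.OrthForms.minQ K k (i a) (i c)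
  have hdisc : 4 * i c - i a ^ 2 ≠ 0 := by
    have h := (map_ne_zero i).2 (Classical.OrthForms.disc_ne_zero hac)
    rw [map_sub, map_mul, map_pow] at h
    rwa [map_ofNat] at h
  have hQK : (QuadraticMap.polarBilin QK).Nondegenerate := by
    have hl : ∀ x, (∀ y, QuadraticMap.polar QK x y = 0) → x = 0 := by
      intro x hx
      have hz : ∀ y, QuadraticMap.polar (Forms.PlusStd.plusQ K k) y 0 = 0 := fun y => by
        simp [QuadraticMap.polar]
      have h1 : x ∘ Sum.inl = 0 := (Forms.PlusStd.plusQ_nondeg K k).1 _ fun z => by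
        have := hx (Sum.elim z (0 : Fin 2 → K))
        simpa [QK, Classical.OrthForms.minQ_polar, Sum.elim_comp_inl] using this
      have e0 := hx (Sum.elim 0 ![1, 0])
      have e1 := hx (Sum.elim 0 ![0, 1])
      simp [QK, Classical.OrthForms.minQ_polar, Sum.elim_comp_inl, hz] at e0 e1
      have x1 : x (.inr 1) = 0 := (mul_eq_zero.1
        (show (4 * i c - i a ^ 2) * x (.inr 1) = 0 by linear_combination 2 * e1 - i a * e0)).resolve_left hdisc
      have x0 : x (.inr 0) = 0 := (mul_eq_zero.1
        (show (4 * i c - i a ^ 2) * x (.inr 0) = 0 by linear_combination 2 * i c * e0 - i a * e1)).resolve_left hdisc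
      funext j
      rcases j with j | j
      · exact congrFun h1 j
      · fin_cases j <;> assumption
    exact ⟨hl, fun x hx => hl x fun y => (QuadraticMap.polar_comm _ x y).trans (hx y)⟩
  rcases Classical.QuadClass.classify_even (k + 1) (V := (Fin k ⊕ Fin k) ⊕ Fin 2 → K)
      (by simp; omega) QK hQK with ⟨e, he⟩ | ⟨-, ζ, e, hζ, he⟩
  · let ρ : ↥(Cfsg.isometryGroup F (Cfsg.quadFormMinus k F a c)) →*
        Module.End K ((Fin k ⊕ Fin k) ⊕ Fin 2 → K) :=
      (Classical.RestrictScalars.matRep (F := K) ((i.mapMatrix.toMonoidHom).comp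
        ((Units.coeHom _).comp (Cfsg.isometryGroup F (Cfsg.quadFormMinus k F a c)).subtype)))
    rw [← Classical.OrthForms.plusQ_eq]
    refine Classical.RestrictScalars.exists_hom_orth QK _ e he ρ (fun g v => ?_)
      (Classical.RestrictScalars.eq_one_of_matRep _
        ((Matrix.map_injective i.injective).comp (Units.val_injective.comp Subtype.val_injective)))
    have hb := (Classical.QuadExt.toK_bijective hF i ω hfix hne hK).surjective
    choose z hz using hb
    let u : (Fin k ⊕ Fin k) ⊕ Fin 2 → F := fun j => (z (v j)).1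
    let w : (Fin k ⊕ Fin k) ⊕ Fin 2 → F := fun j => (z (v j)).2
    have hv : v = i ∘ u + ω • (i ∘ w) := funext fun j => (hz (v j)).symm
    set A := ((g : Matrix.GeneralLinearGroup ((Fin k ⊕ Fin k) ⊕ Fin 2) F) :
      Matrix ((Fin k ⊕ Fin k) ⊕ Fin 2) ((Fin k ⊕ Fin k) ⊕ Fin 2) F)
    have hA : ∀ x, QF (A.mulVec x) = QF x := fun x => by
      simp only [QF, Classical.OrthForms.minQ_eq]
      exact g.2 x x
    have hmap : ∀ x, (A.map i).mulVec (i ∘ x) = i ∘ A.mulVec x := fun x =>
      (funext fun j => RingHom.map_mulVec i A x j).symm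
    have hpol : ∀ x y, QuadraticMap.polar QK (i ∘ x) (i ∘ y) = i (QuadraticMap.polar QF x y) := fun x y => by
      simp only [QuadraticMap.polar, QK, QF]
      rw [show i ∘ x + i ∘ y = i ∘ (x + y) from funext fun j => (map_add i _ _).symm,
        minQ_map, minQ_map, minQ_map, map_sub, map_sub]
    have hpolA : ∀ x y, QuadraticMap.polar QF (A.mulVec x) (A.mulVec y) = QuadraticMap.polar QF x y :=
      fun x y => by simp only [QuadraticMap.polar, ← Matrix.mulVec_add, hA]
    show QK ((A.map i).mulVec v) = QK v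
    rw [hv, Matrix.mulVec_add, Matrix.mulVec_smul, hmap, hmap, QuadraticMap.map_add QK,
      QuadraticMap.map_add QK (i ∘ u), QuadraticMap.map_smul, QuadraticMap.map_smul,
      QuadraticMap.polar_smul_right, QuadraticMap.polar_smul_right, hpol, hpol, hpolA]
    simp only [QK, minQ_map]
    rw [show Classical.OrthForms.minQ F k a c (A.mulVec u) = Classical.OrthForms.minQ F k a c u from hA u,
      show Classical.OrthForms.minQ F k a c (A.mulVec w) = Classical.OrthForms.minQ F k a c w from hA w]
  · exfalso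
    let g : (Fin k ⊕ Unit → K) →ₗ[K] ((Fin k ⊕ Fin k) ⊕ Fin 2 → K) :=
      { toFun := fun x => Sum.elim (Sum.elim (x ∘ Sum.inl) 0) (x (.inr ()) • ![-ω, 1])
        map_add' := fun x y => by
          ext ((j | j) | j) <;> simp [add_mul] <;> fin_cases j <;> simp <;> ring
        map_smul' := fun t x => by
          ext ((j | j) | j) <;> simp [mul_assoc] <;> fin_cases j <;> simp <;> ring }
    have hg : Function.Injective g := fun x y h => funext fun j => by
      rcases j with j | ⟨⟩
      · exact congrFun h (.inl (.inl j))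
      · simpa [g] using congrFun h (.inr 1)
    have h0 : ∀ u ∈ (LinearMap.range g).map e.toLinearMap,
        Classical.OrthForms.minQ K (k + 1 - 1) 1 ζ u = 0 := by
      rintro _ ⟨_, ⟨x, rfl⟩, rfl⟩
      refine (he (g x)).trans ?_
      simp [QK, g, Classical.OrthForms.minQ_apply, Forms.PlusStd.plusQ_apply, Cfsg.quadFormPlus]
      linear_combination (x (.inr ())) ^ 2 * (ω * hsum - hprod)
    have h := Classical.QuadClass.finrank_le_of_minus (Classical.QuadClass.aniso_one hζ) _ h0
    rw [LinearEquiv.finrank_map_eq, LinearMap.finrank_range_of_inj hg] at h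
    simp at h

/-- An elliptic orthogonal group embeds in the hyperbolic orthogonal group of the same dimension over the quadratic extension: for a field F with q elements and a field K with q² elements there is an injective homomorphism from O⁻_2m(F) (isometries of Σ_(j<m−1) x_j y_j + z₁² + a z₁z₂ + c z₂², binary part anisotropic) to O⁺_2m(K) (isometries of Σ_(j<m) x_j y_j over K). -/
theorem result {F K : Type*} [Field F] [Fintype F] [Field K] [Fintype K] {q : ℕ} (hF : Fintype.card F = q) (hK : Fintype.card K = q ^ 2) {m : ℕ} (hm : 1 ≤ m) (a c : F) (hac : ∀ z₁ z₂ : F, z₁ ^ 2 + a * z₁ * z₂ + c * z₂ ^ 2 = 0 → z₁ = 0 ∧ z₂ = 0) : ∃ φ : ↥(Cfsg.isometryGroup F (Cfsg.quadFormMinus (m - 1) F a c)) →* ↥(Cfsg.isometryGroup K (Cfsg.quadFormPlus m K)), Function.Injective φ := by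
  obtain ⟨k, rfl⟩ : ∃ k, m = k + 1 := ⟨m - 1, by omega⟩
  exact embed hF hK k a c hac

end Cfsg.Agent.S2679
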