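import Cfsg.Statements.S2680
import Cfsg.Agent.Lib.Classical.SympInvolution
-- import your own Cfsg.Agent.* helpers here

set_option autoImplicit false
open Cfsg

namespace Cfsg.Agent.S2680

open Cfsg.Agent.Classical

/-- Centraliser order of an involution t of Sp_2m(q), q even, with s = rank(t − 1) odd (type b_s): |C(t)| = q^(2ms − (3s² − s)/2) · |Sp_(s−1)(q)| · |Sp_(2m−2s)(q)|, where |Sp_2k(q)| = q^(k²) Π_(i=1)^k (q^(2i) − 1). -/
theorem result {F : Type*} [Field F] [Fintype F] [CharP F 2] {q : ℕ} (hF : Fintype.card F = q) {m s : ℕ} (t : Matrix.symplecticGroup (Fin m) F) (ht : t ^ 2 = 1) (hs : ((t : Matrix (Fin m ⊕ Fin m) (Fin m ⊕ Fin m) F) - 1).rank = s) (hodd : Odd s) : Nat.card ↥(Subgroup.centralizer ({t} : Set ↥(Matrix.symplecticGroup (Fin m) F))) = q ^ (2 * m * s - (3 * s ^ 2 - s) / 2) * ((q : ℕ) ^ (((s - 1) / 2) ^ 2) * ∏ i : Fin ((s - 1) / 2), (q ^ (2 * ((i : ℕ) + 1)) - 1)) * ((q : ℕ) ^ ((m - s) ^ 2) * ∏ i : Fin (m - s),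 (q ^ (2 * ((i : ℕ) + 1)) - 1)) := by
  classical
  subst hF
  obtain ⟨w, C, h⟩ := SympInvolution.exists_datum t ht hs
  have hsm : s ≤ m := SympInvolution.le_of_li_iso h.li h.iso
  have key := SympInvolution.natCard_centralizer h
  have hna : ∃ i, C i i ≠ 0 := by
    by_contra hne
    push Not at hne
    obtain ⟨k, hk, -⟩ := SymmTwo.cong_alt C h.symm h.det hne
    obtain ⟨r, hr⟩ := hodd
    omega
  obtain ⟨k, hk, hc⟩ | ⟨k, hk, hc⟩ := SymmTwo.cong_nonalt C h.symm h.det hna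
  swap
  · obtain ⟨r, hr⟩ := hodd
    omega
  rw [hc.natCard_iso, SymmTwo.natCard_iso_oddStd, Classical.Symplectic.natCard_sp] at key
  rw [show (s - 1) / 2 = k by omega]
  simp only [Fin.prod_univ_eq_prod_range (fun i => Fintype.card F ^ (2 * (i + 1)) - 1)]
  obtain ⟨r, rfl⟩ : ∃ r, m = s + r := ⟨m - s, by omega⟩
  simp only [Nat.add_sub_cancel_left] at key ⊢
  have hq : 0 < Fintype.card F := Fintype.card_pos
  refine Nat.eq_of_mul_eq_mul_right (pow_pos hq (∑ j ∈ Finset.range s, j)) ?_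
  rw [key]
  have hT : 2 * (∑ j ∈ Finset.range s, j) + s = s ^ 2 := by
    have := Finset.sum_range_id_mul_two s
    rcases s with - | s
    · simp
    · simp only [Nat.add_sub_cancel] at this
      ring_nf at this ⊢
      omega
  generalize hT' : ∑ j ∈ Finset.range s, j = T at hT ⊢
  rw [show (3 * s ^ 2 - s) / 2 = T + s ^ 2 by omega]
  have he : (s + r) ^ 2 = 2 * (s + r) * s - (T + s ^ 2) + r ^ 2 + T := by
    have e1 : (s + r) ^ 2 = s ^ 2 + 2 * (s * r) + r ^ 2 := by ring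
    have e2 : 2 * (s + r) * s = 2 * s ^ 2 + 2 * (s * r) := by ring
    omega
  rw [he]
  simp only [pow_add]
  ring

end Cfsg.Agent.S2680
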