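import Cfsg.Statements.S2684
import Cfsg.Agent.Lib.Classical.OrthInvolutionCount
import Cfsg.Agent.Lib.Classical.Symplectic
-- import your own Cfsg.Agent.* helpers here

set_option autoImplicit false
open Cfsg

namespace Cfsg.Agent.S2684

open Cfsg.Agent.Classical

theorem two_mul_sum (k : ℕ) : 2 * (∑ i ∈ Finset.range k, i) + k = k ^ 2 := by
  induction k with
  | zero => simp
  | succ k ih => rw [Finset.sum_range_succ, add_sq, one_pow, mul_one]; omega

/-- For the hyperbolic form Q = Σ x_j y_j on F^(2m) over a finite field with q elements, q even (excluding m = 2 over the field of two elements), and an involution x ≠ 1 of the orthogonal group with s = rank(x − 1) even and Q vanishing on the image of x − 1 (equivalently f(v, xv) = 0 for all v, where f(u, w) = Q(u + w) − Q(u) − Q(w) is the bilinear form of Q; type a_s, which lies in Ω): its centraliser in Ω (the commutator subgroup of the orthogonal group) has order q^(2ms − (3s² + s)/2) · |Sp_s(q)| · |Ω⁺_(2m−2s)(q)|, where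 |Ω⁺_2k(q)| = q^(k(k−1)) (q^k − 1) Π_(i=1)^(k−1) (q^(2i) − 1) for k ≥ 1 and the last factor is 1 when s = m. -/
theorem result {F : Type*} [Field F] [Fintype F] [CharP F 2] {q : ℕ} (hF : Fintype.card F = q) {m s : ℕ} (h : Fintype.card F ≠ 2 ∨ m ≠ 2) (x : ↥(Cfsg.isometryGroup F (Cfsg.quadFormPlus m F))) (hx : x ^ 2 = 1) (hx1 : x ≠ 1) (hs : (((x : Matrix.GeneralLinearGroup (Fin m ⊕ Fin m) F) : Matrix (Fin m ⊕ Fin m) (Fin m ⊕ Fin m) F) - 1).rank = s) (heven : Even s) (halt : ∀ v : Fin m ⊕ Fin m → F, Cfsg.quadFormPlus m F ((((x : Matrix.GeneralLinearGroup (Fin m ⊕ Fin m) F) : Matrix (Fin m ⊕ Fin m) (Fin m ⊕ Fin m) F) - 1).mulVec v) = 0) : Nat.card {g : ↥(Cfsg.Omega F (Cfsg.quadFormPlus m F)) // (g : ↥(Cfsg.isometryGroup F (Cfsg.quadFormPlus m F))) * x = x * (g : ↥(Cfsg.isometryGroup F (Cfsg.quadFormPlus m F)))} = q ^ (2 * m * s - (3 * s ^ 2 + s) / 2) * ((q : ℕ) ^ ((s / 2) ^ 2) * ∏ i : Fin (s / 2), (q ^ (2 * ((i : ℕ) + 1)) - 1)) * (if s = m then 1 else q ^ ((m - s) * (m - s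 - 1)) * (q ^ (m - s) - 1) * ∏ i : Fin (m - s - 1), (q ^ (2 * ((i : ℕ) + 1)) - 1)) := by
  classical
  subst hF
  revert x
  rw [← OrthForms.plusQ_eq]
  intro x hx hx1 hs halt
  have hQ := Forms.PlusStd.plusQ_nondeg F m
  have href : Forms.Reflections.refGroup (Forms.PlusStd.plusQ F m) = ⊤ :=
    Forms.Reflections.refGroup_eq_top hQ (h.imp id fun hm2 => by simp; omega)
  rw [OrthInvolution.natCard_omega_sub hQ href]
  rw [OrthInvolution.rank_sub_one] at hs
  obtain ⟨w, C, hD⟩ := OrthInvolution.exists_datum hQ x hx hs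
  have hbound := OrthInvolution.le_of_li_iso hQ hD.li hD.iso
  simp only [Fintype.card_sum, Fintype.card_fin] at hbound
  have hsm : s ≤ m := by omega
  obtain ⟨r, rfl⟩ : ∃ r, m = s + r := ⟨m - s, by omega⟩
  have hz : ∀ i, C i i = 0 := by
    refine (hD.alt_iff hQ).1 ?_
    rintro _ ⟨v, rfl⟩
    have := halt v
    simpa [Forms.Reflections.act_apply, Matrix.sub_mulVec] using this
  obtain ⟨a, ha, hc⟩ := SymmTwo.cong_alt C hD.symm hD.det hz
  obtain ⟨e1, e2, e3⟩ := OrthInvolution.plusTuple_spec (F := F) (Nat.le_add_right s r)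
  have hw0 : ∀ i, Forms.PlusStd.plusQ F (s + r) (w i) = 0 := fun i => by
    refine (hD.alt_iff hQ).2 hz _ ?_
    rw [hD.imSp_eq_range hQ]
    exact ⟨Pi.single i 1, by simp [Fintype.linearCombination_apply_single]⟩
  obtain ⟨g, hg⟩ := OrthInvolution.exists_move hQ hD.li e1 hD.iso e2 fun i => by rw [hw0, e3]
  have key := OrthInvolution.natCard_centralizer hQ hD
  rw [OrthInvolution.natCard_fix_move g hg, OrthInvolution.natCard_fix_plusTuple s r,
    hc.natCard_iso, SymmTwo.natCard_iso_J, Cfsg.Agent.Classical.Symplectic.natCard_sp] at key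
  rw [show s / 2 = a by omega, show s + r - s = r by omega]
  simp only [Fin.prod_univ_eq_prod_range (fun i => Fintype.card F ^ (2 * (i + 1)) - 1)]
  have hT : 2 * (∑ i ∈ Finset.range s, i) + s = s ^ 2 := two_mul_sum s
  have e5 : s ≤ s ^ 2 := Nat.le_self_pow (by norm_num) s
  have e : 2 * (s + r) * s - (3 * s ^ 2 + s) / 2 = (∑ i ∈ Finset.range s, i) + 2 * s * r := by
    have e1 : 2 * (s + r) * s = 2 * s ^ 2 + 2 * s * r := by ring
    omega
  rcases r with - | j
  · rw [if_pos (by omega), ← Nat.card_congr (Equiv.subtypeEquivRight fun g => and_iff_right_iff_imp.2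
      fun hgx => OrthInvolution.hsplit_plus href x w C hD hz g hgx).symm, key, e]
    simp only [OrthInvolution.fval, OrthInvolution.fexp, Nat.add_zero, Nat.mul_zero, Nat.zero_mul,
      mul_one, add_zero]
    ring
  · rw [if_neg (by omega)]
    obtain ⟨v, hv, hperp⟩ := OrthInvolution.exists_perp hQ hD (m := s + (j + 1)) (by simp; omega)
      fun hh => by omega
    obtain ⟨d, hd, hdp⟩ := OrthInvolution.exists_odd_commute hQ hD hv hperp
    rw [OrthInvolution.natCard_par_one hQ href x d hd hdp] at key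
    refine Nat.eq_of_mul_eq_mul_left two_pos ?_
    rw [key, e]
    simp only [OrthInvolution.fval, OrthInvolution.fexp, Nat.add_sub_cancel]
    rw [pow_add]
    ring

end Cfsg.Agent.S2684
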