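import Cfsg.Statements.S2685
import Cfsg.Agent.Lib.Classical.OrthInvolutionCount
import Cfsg.Agent.Lib.Classical.Symplectic
-- import your own Cfsg.Agent.* helpers here

set_option autoImplicit false
open Cfsg

namespace Cfsg.Agent.S2685

open Cfsg.Agent.Classical

theorem two_mul_sum (k : ℕ) : 2 * (∑ i ∈ Finset.range k, i) + k = k ^ 2 := by
  induction k with
  | zero => simp
  | succ k ih => rw [Finset.sum_range_succ, add_sq, one_pow, mul_one]; omega

/-- For the hyperbolic form Q = Σ x_j y_j on F^(2m) over a finite field with q elements, q even (excluding m = 2 over the field of two elements), and an involution x of the orthogonal group with s = rank(x − 1) even and Q not vanishing on the image of x − 1 (f(v, xv) ≠ 0 for some v, where f(u, w) = Q(u + w) − Q(u) − Q(w) is the bilinear form of Q; type c_s, which lies in Ω): its centraliser in Ω (the commutator subgroup of the orthogonal group) has order q^(2m(s−1) − (3s² − 5s)/2 − 1) ·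 |Sp_(s−2)(q)| · |Sp_(2m−2s)(q)|. -/
theorem result {F : Type*} [Field F] [Fintype F] [CharP F 2] {q : ℕ} (hF : Fintype.card F = q) {m s : ℕ} (h : Fintype.card F ≠ 2 ∨ m ≠ 2) (x : ↥(Cfsg.isometryGroup F (Cfsg.quadFormPlus m F))) (hx : x ^ 2 = 1) (hs : (((x : Matrix.GeneralLinearGroup (Fin m ⊕ Fin m) F) : Matrix (Fin m ⊕ Fin m) (Fin m ⊕ Fin m) F) - 1).rank = s) (heven : Even s) (hna : ∃ v : Fin m ⊕ Fin m → F, Cfsg.quadFormPlus m F ((((x : Matrix.GeneralLinearGroup (Fin m ⊕ Fin m) F) : Matrix (Fin m ⊕ Fin m) (Fin m ⊕ Fin m) F) - 1).mulVec v) ≠ 0) : Nat.card {g : ↥(Cfsg.Omega F (Cfsg.quadFormPlus m F)) // (g : ↥(Cfsg.isometryGroup F (Cfsg.quadFormPlus m F))) * x = x * (g : ↥(Cfsg.isometryGroup F (Cfsg.quadFormPlus m F)))} = q ^ (2 * m * (s - 1) - (3 * s ^ 2 - 5 * s) / 2 - 1) * ((q : ℕ) ^ (((s - 2) / 2) ^ 2) * ∏ i : Fin ((s - 2) / 2), (q ^ (2 * ((i : ℕ) + 1)) - 1)) * ((q : ℕ) ^ ((m - s) ^ 2) * ∏ i : Fin (m - s), (q ^ (2 * ((i : ℕ) + 1)) -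 1)) := by
  classical
  subst hF
  revert x
  rw [← OrthForms.plusQ_eq]
  intro x hx hs hna
  have hQ := Forms.PlusStd.plusQ_nondeg F m
  have href : Forms.Reflections.refGroup (Forms.PlusStd.plusQ F m) = ⊤ :=
    Forms.Reflections.refGroup_eq_top hQ (h.imp id fun hm2 => by simp; omega)
  rw [OrthInvolution.natCard_omega_sub hQ href]
  rw [OrthInvolution.rank_sub_one] at hs
  obtain ⟨w, C, hD⟩ := OrthInvolution.exists_datum hQ x hx hs
  have hbound := OrthInvolution.le_of_li_iso hQ hD.li hD.iso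
  simp only [Fintype.card_sum, Fintype.card_fin] at hbound
  have hna' : ¬ ∀ i, C i i = 0 := fun hz => by
    obtain ⟨v, hv⟩ := hna
    refine hv ((hD.alt_iff hQ).2 hz _ ⟨v, ?_⟩)
    simp [Forms.Reflections.act_apply, Matrix.sub_mulVec]
  have hs1 : 1 ≤ s := by
    by_contra hne
    obtain rfl : s = 0 := by omega
    exact hna' fun i => i.elim0
  obtain ⟨k, rfl⟩ : ∃ k, s = k + 1 := ⟨s - 1, by omega⟩
  obtain ⟨j, rfl⟩ : ∃ j, m = k + (j + 1) := ⟨m - (k + 1), by omega⟩
  obtain ⟨Y, -, -, -, hY⟩ := (OrthInvolution.cong_of_type hD.symm hD.det Matrix.transpose_one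
    (by simp) (iff_of_false hna' fun hh => one_ne_zero ((Matrix.one_apply_eq 0).symm.trans (hh 0)))).symm
  have hD' := hD.change hY
  have hfix := OrthInvolution.natCard_fix_one k j _ hD'.li hD'.iso fun i => by
    rw [hD'.value hQ]; simp
  obtain ⟨v, hv, hperp⟩ := OrthInvolution.exists_perp hQ hD' (m := k + (j + 1)) (by simp; omega)
    fun hh => one_ne_zero ((Matrix.one_apply_eq 0).symm.trans (hh.2 0))
  obtain ⟨d, hd, hdp⟩ := OrthInvolution.exists_odd_commute hQ hD' hv hperp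
  have key := (OrthInvolution.natCard_par_one hQ href x d hd hdp).symm.trans
    (OrthInvolution.natCard_centralizer hQ hD')
  rw [hfix] at key
  refine Nat.eq_of_mul_eq_mul_left two_pos ?_
  rw [key]
  have hc1 : ∃ i, (1 : Matrix (Fin (k + 1)) (Fin (k + 1)) F) i i ≠ 0 := ⟨0, by simp⟩
  obtain ⟨a, ha, hc⟩ | ⟨a, ha, hc⟩ := SymmTwo.cong_nonalt
    (1 : Matrix (Fin (k + 1)) (Fin (k + 1)) F) Matrix.transpose_one (by simp) hc1
  · obtain ⟨b, hb⟩ := heven; omega
  rw [hc.natCard_iso, SymmTwo.natCard_iso_evenStd, Cfsg.Agent.Classical.Symplectic.natCard_sp,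
    show (k + 1 - 2) / 2 = a by omega, show k + (j + 1) - (k + 1) = j by omega]
  simp only [Fin.prod_univ_eq_prod_range (fun i => Fintype.card F ^ (2 * (i + 1)) - 1)]
  have hT : 2 * (∑ i ∈ Finset.range k, i) + k = k ^ 2 := two_mul_sum k
  generalize ∑ i ∈ Finset.range k, i = T at hT ⊢
  have e : 2 * (k + (j + 1)) * (k + 1 - 1) - (3 * (k + 1) ^ 2 - 5 * (k + 1)) / 2 - 1 + j ^ 2 =
      2 * a + 1 + (T + 2 * k * j + k + j * j) := by
    have e1 : 2 * (k + (j + 1)) * (k + 1 - 1) = 2 * k ^ 2 + 2 * (k * j) + 2 * k := by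
      rw [Nat.add_sub_cancel]; ring
    have e2 : (k + 1) ^ 2 = k ^ 2 + 2 * k + 1 := by ring
    have e3 : 2 * k * j = 2 * (k * j) := by ring
    have e4 : j ^ 2 = j * j := sq j
    have e5 : k ≤ k ^ 2 := Nat.le_self_pow (by norm_num) k
    omega
  have e' := (congrArg (fun n => Fintype.card F ^ n) e).symm
  rw [pow_add _ _ (j ^ 2), pow_add _ (2 * a + 1)] at e'
  linear_combination (2 * (Fintype.card F ^ a ^ 2 *
    ∏ i ∈ Finset.range a, (Fintype.card F ^ (2 * (i + 1)) - 1)) *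
    ∏ i ∈ Finset.range j, (Fintype.card F ^ (2 * (i + 1)) - 1)) * e'

end Cfsg.Agent.S2685
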