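import Cfsg.Statements.S2700
import Cfsg.Agent.Lib.AutPSL.GraphCent
import Cfsg.Agent.Lib.Forms.SimTypes

set_option autoImplicit false
open Cfsg

namespace Cfsg.Agent.S2700

/-- Let T = PSL_n(F) over a finite field of odd order with n = 2m ≥ 4 even, and G = Inndiag(T) the image of PGL_n(F). The involutory graph automorphisms of T fall into exactly three G-classes, with representatives γ₁, γ₂, γ₃ whose centralizers in G are isomorphic respectively to the projective conformal symplectic group PGSp_n(F), the projective conformal orthogonal group of the plus-type form Σ xᵢ yᵢ, and that of a minus-type form Σ xᵢ yᵢ + z₁² + a z₁ z₂ + b z₂² (anisotropic binary part) in dimension n. -/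
theorem result {F : Type*} [Field F] [Fintype F] (hodd : Odd (Fintype.card F)) {n m : ℕ} (hm : 2 ≤ m) (hnm : n = 2 * m) :
    ∃ (γ₁ γ₂ γ₃ : MulAut (Matrix.ProjectiveSpecialLinearGroup (Fin n) F)) (a b : F), (∀ z₁ z₂ : F, z₁ ^ 2 + a * z₁ * z₂ + b * z₂ ^ 2 = 0 → z₁ = 0 ∧ z₂ = 0) ∧ Cfsg.IsGraphAutClassPSL γ₁ ∧ orderOf γ₁ = 2 ∧ Cfsg.IsGraphAutClassPSL γ₂ ∧ orderOf γ₂ = 2 ∧ Cfsg.IsGraphAutClassPSL γ₃ ∧ orderOf γ₃ = 2 ∧ ¬ Cfsg.IsConjUnder (Cfsg.inndiagPSL n F) γ₁ γ₂ ∧ ¬ Cfsg.IsConjUnder (Cfsg.inndiagPSL n F) γ₁ γ₃ ∧ ¬ Cfsg.IsConjUnder (Cfsg.inndiagPSL n F) γ₂ γ₃ ∧ (∀ γ : MulAut (Matrix.ProjectiveSpecialLinearGroup (Fin n) F), Cfsg.IsGraphAutClassPSL γ → orderOf γ = 2 → Cfsg.IsConjUnder (Cfsg.inndiagPSL n F) γ₁ γ ∨ Cfsg.IsConjUnder (Cfsg.inndiagPSL n F) γ₂ γ ∨ Cfsg.IsConjUnder (Cfsg.inndiagPSL n F) γ₃ γ) ∧ Nonempty (↥(Cfsg.inndiagPSL n F ⊓ Subgroup.centralizer {γ₁}) ≃* Cfsg.PGSp m F) ∧ Nonempty (↥(Cfsg.inndiagPSL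 n F ⊓ Subgroup.centralizer {γ₂}) ≃* Cfsg.PGO F (Cfsg.quadFormPlus m F)) ∧ Nonempty (↥(Cfsg.inndiagPSL n F ⊓ Subgroup.centralizer {γ₃}) ≃* Cfsg.PGO F (Cfsg.quadFormMinus (m - 1) F a b)) := by
  classical
  have h2 := Classical.OrthForms.two_ne_zero_of_odd (F := F) hodd
  obtain ⟨P₁, P₂, P₃, ζ, hζ, h1, hs2, hs3, ⟨e₂, he₂⟩, e₃, he₃⟩ :=
    Forms.SimTypes.exists_reps (n := n) h2 (by omega : 1 ≤ m) hnm
  have halt := Forms.SimForms.alt_of_skew h2 h1
  obtain ⟨g1, o1⟩ := AutPSL.GraphCent.graph_of_form (by omega) P₁ h1 (by simp)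
  obtain ⟨g2, o2⟩ := AutPSL.GraphCent.graph_of_form (by omega) P₂ (c := 1) (by rw [hs2, one_smul]) one_ne_zero
  obtain ⟨g3, o3⟩ := AutPSL.GraphCent.graph_of_form (by omega) P₃ (c := 1) (by rw [hs3, one_smul]) one_ne_zero
  refine ⟨_, _, _, 1, ζ, hζ, g1, o1, g2, o2, g3, o3, ?_, ?_, ?_, fun γ hγ hγ2 => ?_, ?_, ?_, ?_⟩
  · rw [AutPSL.GraphCent.isConjUnder_iff (by omega)]
    rintro ⟨E, l, hl, hE⟩
    exact Forms.SimDet.not_congr_alt h2 (by omega) h1 hs2 hE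
  · rw [AutPSL.GraphCent.isConjUnder_iff (by omega)]
    rintro ⟨E, l, hl, hE⟩
    exact Forms.SimDet.not_congr_alt h2 (by omega) h1 hs3 hE
  · rw [AutPSL.GraphCent.isConjUnder_iff (by omega)]
    rintro ⟨E, l, hl, hE⟩
    exact Forms.SimDet.not_congr_plus_min (by omega) hl e₂ he₂ hζ e₃ he₃ hE
  · obtain ⟨P, c, hc, hP, rfl⟩ := AutPSL.GraphCent.exists_form (by omega) hγ hγ2
    simp only [AutPSL.GraphCent.isConjUnder_iff (by omega : 2 ≤ n)]
    rcases hc with rfl | rfl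
    · rw [one_smul] at hP
      right
      rcases Forms.SimForms.even_std h2 P hP hnm with ⟨e, he⟩ | ⟨-, ζ', e, hζ', he⟩
      · obtain ⟨E, hE⟩ := Forms.SimForms.exists_congr_of_quad h2 hs2 hP (e₂.trans e.symm) (l := 1) fun v => by
          rw [← he₂, ← one_mul (Forms.SimForms.Qm _ _), ← he, LinearEquiv.trans_apply, e.apply_symm_apply]
        exact Or.inl ⟨E, 1, one_ne_zero, hE⟩
      · obtain ⟨k, hk⟩ := Classical.QuadClass.minQ_isometric (m - 1)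
          (ζ := ζ) (ζ' := ζ') (fun t ht => one_ne_zero (hζ t 1 (by linear_combination ht)).2)
          (fun t ht => one_ne_zero (hζ' t 1 (by linear_combination ht)).2)
        obtain ⟨E, hE⟩ := Forms.SimForms.exists_congr_of_quad h2 hP hs3 (e.trans (k.trans e₃.symm)) (l := 1) fun v => by
          rw [← he, ← one_mul (Forms.SimForms.Qm _ _), ← he₃, LinearEquiv.trans_apply, LinearEquiv.trans_apply,
            e₃.apply_symm_apply, ← Classical.OrthForms.minQ_eq, ← Classical.OrthForms.minQ_eq, hk]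
        obtain ⟨F', l', hl', hF'⟩ := (AutPSL.GraphCent.isConjUnder_iff (by omega) P₃ P).1
          (((AutPSL.GraphCent.isConjUnder_iff (by omega) P P₃).2 ⟨E, 1, one_ne_zero, hE⟩).elim
            fun h hh => ⟨h⁻¹, inv_mem hh.1, by rw [hh.2]; group⟩)
        exact Or.inr ⟨F', l', hl', hF'⟩
    · left
      obtain ⟨e, he⟩ := Forms.SimForms.alt_std P (Forms.SimForms.alt_of_skew h2 hP) hnm
      obtain ⟨e₁, he₁⟩ := Forms.SimForms.alt_std P₁ halt hnm
      obtain ⟨E, hE⟩ := Forms.SimForms.exists_congr_of_form (P := (P₁ : Matrix (Fin n) (Fin n) F))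
        (P' := (P : Matrix (Fin n) (Fin n) F)) (e₁.trans e.symm) (l := 1) fun u v => by
          rw [one_mul, ← he, ← he₁, LinearEquiv.trans_apply, LinearEquiv.trans_apply, e.apply_symm_apply,
            e.apply_symm_apply]
      exact ⟨E, 1, one_ne_zero, hE⟩
  · obtain ⟨j⟩ := AutPSL.GraphCent.exists_equiv (n := n) (by omega) P₁
    exact (Forms.SimTypes.pgsp_iso P₁ halt hnm).map j.trans
  · obtain ⟨j⟩ := AutPSL.GraphCent.exists_equiv (n := n) (by omega) P₂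
    exact (Forms.SimTypes.pgo_iso h2 P₂ hs2 _ e₂ he₂).map j.trans
  · obtain ⟨j⟩ := AutPSL.GraphCent.exists_equiv (n := n) (by omega) P₃
    exact (Forms.SimTypes.pgo_iso h2 P₃ hs3 _ e₃ he₃).map j.trans

end Cfsg.Agent.S2700
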