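import Cfsg.Statements.S2701
import Cfsg.Agent.Lib.AutPSL.GraphCent
import Cfsg.Agent.Lib.Forms.SimTwo

set_option autoImplicit false
open Cfsg

namespace Cfsg.Agent.S2701

/-- Let T = PSL_n(F) over a finite field of characteristic 2 with n = 2m ≥ 4 even, and G = Inndiag(T) the image of PGL_n(F). The involutory graph automorphisms of T fall into exactly two G-classes, with representatives γ₁ and γ₃ whose centralizers in G are isomorphic respectively to the symplectic group Sp_n(F) and to the centralizer in Sp_n(F) of a symplectic transvection. -/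
theorem result {F : Type*} [Field F] [Fintype F] [CharP F 2] {n m : ℕ} (hm : 2 ≤ m) (hnm : n = 2 * m) :
    ∃ (γ₁ γ₃ : MulAut (Matrix.ProjectiveSpecialLinearGroup (Fin n) F)) (t : ↥(Matrix.symplecticGroup (Fin m) F)), Cfsg.IsTransvection (t : Matrix (Fin m ⊕ Fin m) (Fin m ⊕ Fin m) F) ∧ Cfsg.IsGraphAutClassPSL γ₁ ∧ orderOf γ₁ = 2 ∧ Cfsg.IsGraphAutClassPSL γ₃ ∧ orderOf γ₃ = 2 ∧ ¬ Cfsg.IsConjUnder (Cfsg.inndiagPSL n F) γ₁ γ₃ ∧ (∀ γ : MulAut (Matrix.ProjectiveSpecialLinearGroup (Fin n) F), Cfsg.IsGraphAutClassPSL γ → orderOf γ = 2 → Cfsg.IsConjUnder (Cfsg.inndiagPSL n F) γ₁ γ ∨ Cfsg.IsConjUnder (Cfsg.inndiagPSL n F) γ₃ γ) ∧ Nonempty (↥(Cfsg.inndiagPSL n F ⊓ Subgroup.centralizer {γ₁}) ≃* ↥(Matrix.symplecticGroup (Fin m) F)) ∧ Nonempty (↥(Cfsg.inndiagPSL n F ⊓ Subgroup.centralizer {γ₃}) ≃* ↥(Subgroup.centralizer ({t} : Set ↥(Matrix.symplecticGroup (Fin m) F)))) := by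
  classical
  have hn : 3 ≤ n := by omega
  let w₀ : Fin m ⊕ Fin m → F := Pi.single (Sum.inl ⟨0, by omega⟩) 1
  have hw₀ : w₀ ≠ 0 := by simp [w₀]
  obtain ⟨P₁, P₃, hs1, ha1, hs3, e₃, he₃⟩ := Forms.SimTwo.exists_reps (K := F) (n := n) (by omega : 1 ≤ m) hnm (w₀ := w₀)
  obtain ⟨x, hx⟩ := Forms.SimTwo.not_alt_N hw₀
  have hx' : Forms.SimForms.Bf (P₃ : Matrix (Fin n) (Fin n) F) (e₃.symm x) (e₃.symm x) ≠ 0 := by
    rw [← he₃, e₃.apply_symm_apply]; exact hx
  obtain ⟨isp⟩ := Forms.SimTwo.sp_equiv_gsp (K := F) (m := m) (by omega)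
  obtain ⟨icent⟩ := Forms.SimTwo.cent_equiv hw₀
  obtain ⟨g1, o1⟩ := AutPSL.GraphCent.graph_of_form hn P₁ (c := 1) (by rw [hs1, one_smul]) one_ne_zero
  obtain ⟨g3, o3⟩ := AutPSL.GraphCent.graph_of_form hn P₃ (c := 1) (by rw [hs3, one_smul]) one_ne_zero
  refine ⟨_, _, Forms.SympStd.tv w₀ 1, Forms.SimTwo.tv_isTransvection hw₀, g1, o1, g3, o3, ?_, fun γ hγ hγ2 => ?_, ?_, ?_⟩
  · rw [AutPSL.GraphCent.isConjUnder_iff (by omega : 2 ≤ n)]
    rintro ⟨E, l, hl, hE⟩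
    exact Forms.SimTwo.not_congr P₁ P₃ E hl ha1 hx' hE
  · obtain ⟨P, c, hc, hP, rfl⟩ := AutPSL.GraphCent.exists_form hn hγ hγ2
    simp only [AutPSL.GraphCent.isConjUnder_iff (by omega : 2 ≤ n)]
    have hc1 : c = 1 := by
      rcases hc with rfl | rfl
      · rfl
      · exact CharTwo.neg_eq 1
    rw [hc1, one_smul] at hP
    rcases Forms.SimTwo.classify P hP hnm hw₀ with h | ⟨e, he⟩
    · left
      obtain ⟨e, he⟩ := Forms.SimForms.alt_std P h hnm
      obtain ⟨e₁, he₁⟩ := Forms.SimForms.alt_std P₁ ha1 hnm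
      obtain ⟨E, hE⟩ := Forms.SimForms.exists_congr_of_form (P := (P₁ : Matrix (Fin n) (Fin n) F))
        (P' := (P : Matrix (Fin n) (Fin n) F)) (e₁.trans e.symm) (l := 1) fun u v => by
          rw [one_mul, ← he, ← he₁, LinearEquiv.trans_apply, LinearEquiv.trans_apply, e.apply_symm_apply,
            e.apply_symm_apply]
      exact ⟨E, 1, one_ne_zero, hE⟩
    · right
      obtain ⟨E, hE⟩ := Forms.SimForms.exists_congr_of_form (P := (P₃ : Matrix (Fin n) (Fin n) F))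
        (P' := (P : Matrix (Fin n) (Fin n) F)) (e₃.trans e.symm) (l := 1) fun u v => by
          rw [one_mul, ← he, ← he₃, LinearEquiv.trans_apply, LinearEquiv.trans_apply, e.apply_symm_apply,
            e.apply_symm_apply]
      exact ⟨E, 1, one_ne_zero, hE⟩
  · obtain ⟨j⟩ := AutPSL.GraphCent.exists_equiv (n := n) (by omega) P₁
    exact (Forms.SimTypes.pgsp_iso P₁ ha1 hnm).map fun i => (j.trans i).trans isp.symm
  · obtain ⟨j⟩ := AutPSL.GraphCent.exists_equiv (n := n) (by omega) P₃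
    exact (Forms.SimForms.projQuot_congr e₃ _ _
      (Forms.SimForms.sim_map e₃ _ _ one_ne_zero fun u v => by rw [one_mul]; exact he₃ u v)).map
        fun i => (j.trans i).trans icent.symm

end Cfsg.Agent.S2701
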