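import Cfsg.Statements.S2702
import Cfsg.Agent.Lib.AutPSL.GraphCent
import Cfsg.Agent.Lib.Forms.SimTypes

set_option autoImplicit false
open Cfsg

namespace Cfsg.Agent.S2702

/-- Let T = PSL_n(F) over the field with q = p^f elements, n ≥ 3, G = Inndiag(T) the image of PGL_n(F), and γ an involutory graph automorphism of T. The G-class of γ is the union of exactly c T-classes, where: if n is even and q is odd, c = gcd(n/2, q − 1) when C_G(γ) is isomorphic to the projective conformal symplectic group PGSp_n(F) (symplectic type) and c = gcd(n, q − 1)/2 otherwise; and c = gcd(n, q − 1) when n is odd or q is even. -/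
theorem result {F : Type*} [Field F] [Fintype F] {p f : ℕ} [Fact p.Prime] (hF : Fintype.card F = p ^ f) (hf : 1 ≤ f) {n : ℕ} (hn : 3 ≤ n) (γ : MulAut (Matrix.ProjectiveSpecialLinearGroup (Fin n) F)) (hγ : Cfsg.IsGraphAutClassPSL γ) (hγ2 : orderOf γ = 2) :
    ((Even n ∧ Odd p ∧ Nonempty (↥(Cfsg.inndiagPSL n F ⊓ Subgroup.centralizer {γ}) ≃* Cfsg.PGSp (n / 2) F)) → Cfsg.splitClassCount (Cfsg.inndiagPSL n F) (Cfsg.Inn (Matrix.ProjectiveSpecialLinearGroup (Fin n) F)) γ = Nat.gcd (n / 2) (p ^ f - 1)) ∧ ((Even n ∧ Odd p ∧ ¬ Nonempty (↥(Cfsg.inndiagPSL n F ⊓ Subgroup.centralizer {γ}) ≃* Cfsg.PGSp (n / 2) F)) → Cfsg.splitClassCount (Cfsg.inndiagPSL n F) (Cfsg.Inn (Matrix.ProjectiveSpecialLinearGroup (Fin n) F)) γ = Nat.gcd n (p ^ f - 1) / 2) ∧ (¬ (Even n ∧ Odd p) → Cfsg.splitClassCount (Cfsg.inndiagPSL n F) (Cfsg.Inn (Matrix.ProjectiveSpecialLinearGroup (Fin n) F)) γ = Nat.gcd n (p ^ f - 1)) := by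
  classical
  have : CharP F p := charP_of_card_eq_prime_pow hF
  obtain ⟨P, c, hc, hP, rfl⟩ := AutPSL.GraphCent.exists_form hn hγ hγ2
  rw [AutPSL.GraphCent.splitClassCount_eq_index (by omega) P, ← hF]
  obtain ⟨j⟩ := AutPSL.GraphCent.exists_equiv (n := n) (by omega) P
  have hroot : ¬ (Even n ∧ Odd p) → Odd n ∨ (2 : F) = 0 := by
    intro h
    rcases Nat.even_or_odd n with he | ho
    · have hp : p = 2 := (Fact.out : p.Prime).even_iff.1 (Nat.not_odd_iff_even.1 fun hp => h ⟨he, hp⟩)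
      subst hp
      exact Or.inr (CharTwo.two_eq_zero)
    · exact Or.inl ho
  have hmain : Even n → Odd p → ∀ m, n = 2 * m → 1 ≤ m ∧ (2 : F) ≠ 0 ∧ Odd (Fintype.card F) := by
    intro _ hp m hm
    have ho : Odd (Fintype.card F) := hF ▸ hp.pow
    exact ⟨by omega, Classical.OrthForms.two_ne_zero_of_odd ho, ho⟩
  refine ⟨?_, ?_, fun h => Forms.SimDet.index_root (hroot h) P⟩
  · rintro ⟨he, hp, hsp⟩
    obtain ⟨m, hm⟩ := even_iff_two_dvd.1 he
    obtain ⟨hm1, h2, ho⟩ := hmain he hp m hm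
    rw [show n / 2 = m by omega] at hsp ⊢
    rcases hc with rfl | rfl
    · rw [one_smul] at hP
      exact absurd (hsp.map fun k => j.symm.trans k) (Forms.SimProj.not_pgsp ho hm1 hm P hP)
    · exact Forms.SimDet.index_alt hm1 P (Forms.SimForms.alt_of_skew h2 hP) hm
  · rintro ⟨he, hp, hsp⟩
    obtain ⟨m, hm⟩ := even_iff_two_dvd.1 he
    obtain ⟨hm1, h2, ho⟩ := hmain he hp m hm
    rw [show n / 2 = m by omega] at hsp
    rcases hc with rfl | rfl
    · rw [one_smul] at hP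
      exact Forms.SimDet.index_sym h2 hm1 P hP hm
    · exact absurd ((Forms.SimTypes.pgsp_iso P (Forms.SimForms.alt_of_skew h2 hP) hm).map j.trans) hsp

end Cfsg.Agent.S2702
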