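import Cfsg.Statements.S2703
import Cfsg.Agent.Lib.AutPSL.GraphCent
import Cfsg.Agent.Lib.Forms.SimTypes
import Cfsg.Agent.Lib.Forms.Disc

set_option autoImplicit false
open Cfsg

namespace Cfsg.Agent.S2703

/-- Let T = PSL_n(F) over the field with q elements, q odd, n = 2m ≥ 4 even, and ι the inverse-transpose automorphism. Its centralizer in G = Inndiag(T) (the image of PGL_n(F)) is isomorphic to the projective conformal orthogonal group of the plus-type form Σ xᵢ yᵢ in dimension n when n(q − 1)/4 is even, and to that of a minus-type form (Σ xᵢ yᵢ + z₁² + a z₁ z₂ + b z₂² with anisotropic binary part) when n(q − 1)/4 is odd. -/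
theorem result {F : Type*} [Field F] [Fintype F] (hodd : Odd (Fintype.card F)) {n m : ℕ} (hm : 2 ≤ m) (hnm : n = 2 * m) (ι : MulAut (Matrix.ProjectiveSpecialLinearGroup (Fin n) F)) (hι : Cfsg.IsInverseTransposeAutPSL ι) :
    (Even (n * (Fintype.card F - 1) / 4) → Nonempty (↥(Cfsg.inndiagPSL n F ⊓ Subgroup.centralizer {ι}) ≃* Cfsg.PGO F (Cfsg.quadFormPlus m F))) ∧ (¬ Even (n * (Fintype.card F - 1) / 4) → ∃ a b : F, (∀ z₁ z₂ : F, z₁ ^ 2 + a * z₁ * z₂ + b * z₂ ^ 2 = 0 → z₁ = 0 ∧ z₂ = 0) ∧ Nonempty (↥(Cfsg.inndiagPSL n F ⊓ Subgroup.centralizer {ι}) ≃* Cfsg.PGO F (Cfsg.quadFormMinus (m - 1) F a b))) := by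
  classical
  have h2 := Classical.OrthForms.two_ne_zero_of_odd (F := F) hodd
  rw [(AutPSL.Basic.isInverseTransposeAutPSL_iff ι).1 hι,
    show (AutPSL.Basic.iota : MulAut (Matrix.ProjectiveSpecialLinearGroup (Fin n) F)) =
      AutPSL.Basic.gAut ((1 : GL (Fin n) F))⁻¹ * AutPSL.Basic.iota by simp]
  obtain ⟨j⟩ := AutPSL.GraphCent.exists_equiv (n := n) (by omega) (1 : GL (Fin n) F)
  have hsq : IsSquare ((-1 : F) ^ m) ↔ Even (n * (Fintype.card F - 1) / 4) := by
    obtain ⟨k, hk⟩ := hodd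
    have e : n * (Fintype.card F - 1) / 4 = m * k := by
      rw [hnm, hk, show 2 * m * (2 * k + 1 - 1) = m * k * 4 by rw [Nat.add_sub_cancel]; ring,
        Nat.mul_div_cancel _ (by norm_num)]
    rw [e, Nat.even_mul]
    rcases Nat.even_or_odd m with hm' | hm'
    · simp [hm', hm'.neg_one_pow]
    · rw [hm'.neg_one_pow, FiniteField.isSquare_neg_one_iff, Nat.even_iff, Nat.even_iff]
      rw [Nat.odd_iff] at hm'
      omega
  have hdet : (Forms.Disc.gram (Matrix.toBilin' ((1 : GL (Fin n) F) : Matrix (Fin n) (Fin n) F))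
      (Pi.basisFun F (Fin n))).det = 1 := by
    have : Forms.Disc.gram (Matrix.toBilin' ((1 : GL (Fin n) F) : Matrix (Fin n) (Fin n) F))
        (Pi.basisFun F (Fin n)) = 1 := by
      ext i k
      simp [Forms.Disc.gram, Matrix.toBilin'_single]
    rw [this, Matrix.det_one]
  have hlag := Forms.Disc.exists_lagrangian_iff h2 (Matrix.toBilin' ((1 : GL (Fin n) F) : Matrix (Fin n) (Fin n) F))
    (⟨fun u v => by
      rw [Forms.SimForms.toBilin'_eq, Forms.SimForms.toBilin'_eq,
        Forms.SimForms.Bf_comm (c := 1) (by simp) u v, one_mul]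
      ⟩) (Forms.SimForms.nondeg _) (m := m) (by simp [hnm]) (Pi.basisFun F (Fin n))
  rw [hdet, mul_one] at hlag
  have hpol : ∀ u v : Fin n → F, QuadraticMap.polar (Forms.SimForms.Qm ((1 : GL (Fin n) F) : Matrix (Fin n) (Fin n) F)) u v =
      2 * Forms.SimForms.Bf ((1 : GL (Fin n) F) : Matrix (Fin n) (Fin n) F) u v :=
    Forms.SimForms.polar_Qm (by simp)
  rcases Forms.SimForms.even_std h2 (1 : GL (Fin n) F) (by simp) hnm with ⟨e, he⟩ | ⟨-, ζ, e, hζ, he⟩
  · have hyes : IsSquare ((-1 : F) ^ m) := by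
      refine hlag.1 ⟨(LinearMap.range ({
          toFun := fun x => Sum.elim x 0
          map_add' := fun x y => by ext (i | i) <;> simp
          map_smul' := fun t x => by ext (i | i) <;> simp } : (Fin m → F) →ₗ[F] (Fin m ⊕ Fin m → F))).map
            e.symm.toLinearMap, ?_, ?_⟩
      · rw [LinearEquiv.finrank_map_eq, LinearMap.finrank_range_of_inj (fun x y h => funext fun i => congrFun h (Sum.inl i))]
        simp
      · rintro _ ⟨_, ⟨x, rfl⟩, rfl⟩ _ ⟨_, ⟨y, rfl⟩, rfl⟩
        have h0 : ∀ w : Fin m → F, Forms.SimForms.Qm ((1 : GL (Fin n) F) : Matrix (Fin n) (Fin n) F)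
            (e.symm (Sum.elim w 0)) = 0 := fun w => by
          rw [← one_mul (Forms.SimForms.Qm _ _), ← he, e.apply_symm_apply]
          simp [Cfsg.quadFormPlus]
        rw [Forms.SimForms.toBilin'_eq]
        refine (mul_eq_zero.1 ?_).resolve_left h2
        rw [← hpol, QuadraticMap.polar]
        change _ - Forms.SimForms.Qm _ (e.symm (Sum.elim x 0)) - Forms.SimForms.Qm _ (e.symm (Sum.elim y 0)) = 0
        rw [h0, h0, sub_zero, sub_zero]
        change Forms.SimForms.Qm _ (e.symm (Sum.elim x 0) + e.symm (Sum.elim y 0)) = 0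
        rw [← map_add, show Sum.elim x (0 : Fin m → F) + Sum.elim y 0 = Sum.elim (x + y) 0 by ext (i | i) <;> simp, h0]
    refine ⟨fun _ => ?_, fun h => absurd (hsq.1 hyes) h⟩
    exact (Forms.SimTypes.pgo_iso h2 _ (by simp) _ e he).map j.trans
  · refine ⟨fun h => ?_, fun _ => ⟨1, ζ, hζ, (Forms.SimTypes.pgo_iso h2 _ (by simp) _ e he).map j.trans⟩⟩
    exfalso
    obtain ⟨X, hX, hX0⟩ := hlag.2 (hsq.2 h)
    have h3 := Classical.QuadClass.finrank_le_of_minus hζ (X.map e.toLinearMap) (by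
      rintro _ ⟨x, hx, rfl⟩
      rw [Classical.OrthForms.minQ_eq]
      change Cfsg.quadFormMinus (m - 1) F 1 ζ (e x) = 0
      rw [he, one_mul, Forms.SimForms.Qm_apply, ← Forms.SimForms.toBilin'_eq]
      exact hX0 x hx x hx)
    rw [LinearEquiv.finrank_map_eq, hX] at h3
    omega

end Cfsg.Agent.S2703
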