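import Cfsg.Statements.S2707
import Cfsg.Agent.Lib.AutPSU.GraphCentExists

set_option autoImplicit false
open Cfsg

namespace Cfsg.Agent.S2707

/-- Let T = PSU_n(q) with n = 2m ≥ 4 even and q odd, realised over the field F with q² elements, and G = Inndiag(T) the image of PGU_n(q). The involutory graph automorphisms of T fall into exactly three G-classes, with representatives whose centralizers in G are isomorphic respectively to the projective conformal symplectic group PGSp_n(F₀), the projective conformal orthogonal group of the plus-type form Σ xᵢ yᵢ, and that of a minus-type form Σ xᵢ yᵢ + z₁² + a z₁ z₂ + b z₂² (anisotropic binary part) in dimension n, all over a field F₀ with q elements. -/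
theorem result {F : Type*} [Field F] [Fintype F] {q : ℕ} (hodd : Odd q) (hF : Fintype.card F = q ^ 2) {n m : ℕ} (hm : 2 ≤ m) (hnm : n = 2 * m) (F₀ : Type*) [Field F₀] [Fintype F₀] (hF₀ : Fintype.card F₀ = q) :
    ∃ (γ₁ γ₂ γ₃ : MulAut (Cfsg.PSU n F q)) (a b : F₀), (∀ z₁ z₂ : F₀, z₁ ^ 2 + a * z₁ * z₂ + b * z₂ ^ 2 = 0 → z₁ = 0 ∧ z₂ = 0) ∧ Cfsg.IsGraphAutClassPSU γ₁ ∧ orderOf γ₁ = 2 ∧ Cfsg.IsGraphAutClassPSU γ₂ ∧ orderOf γ₂ = 2 ∧ Cfsg.IsGraphAutClassPSU γ₃ ∧ orderOf γ₃ = 2 ∧ ¬ Cfsg.IsConjUnder (Cfsg.inndiagPSU n F q) γ₁ γ₂ ∧ ¬ Cfsg.IsConjUnder (Cfsg.inndiagPSU n F q) γ₁ γ₃ ∧ ¬ Cfsg.IsConjUnder (Cfsg.inndiagPSU n F q) γ₂ γ₃ ∧ (∀ γ : MulAut (Cfsg.PSU n F q), Cfsg.IsGraphAutClassPSU γ → orderOf γ = 2 → Cfsg.IsConjUnder (Cfsg.inndiagPSU n F q) γ₁ γ ∨ Cfsg.IsConjUnder (Cfsg.inndiagPSU n F q) γ₂ γ ∨ Cfsg.IsConjUnder (Cfsg.inndiagPSU n F q) γ₃ γ) ∧ Nonempty (↥(Cfsg.inndiagPSU n F q ⊓ Subgroup.centralizer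 {γ₁}) ≃* Cfsg.PGSp m F₀) ∧ Nonempty (↥(Cfsg.inndiagPSU n F q ⊓ Subgroup.centralizer {γ₂}) ≃* Cfsg.PGO F₀ (Cfsg.quadFormPlus m F₀)) ∧ Nonempty (↥(Cfsg.inndiagPSU n F q ⊓ Subgroup.centralizer {γ₃}) ≃* Cfsg.PGO F₀ (Cfsg.quadFormMinus (m - 1) F₀ a b)) := by
  classical
  have hn : 3 ≤ n := by omega
  have h2 := Classical.OrthForms.two_ne_zero_of_odd (F := F₀) (hF₀ ▸ hodd)
  obtain ⟨S⟩ := AutPSU.GraphCent.nonempty_setup (F₀ := F₀) hF hF₀
  obtain ⟨P₁, P₂, P₃, ζ, hζ, h1, hs2, hs3, ⟨e₂, he₂⟩, e₃, he₃⟩ :=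
    Forms.SimTypes.exists_reps (n := n) h2 (by omega : 1 ≤ m) hnm
  have halt := Forms.SimForms.alt_of_skew h2 h1
  obtain ⟨D₁, rfl, g1, o1⟩ := AutPSU.GraphCent.frame_of_form hn S P₁ (c := -1) (Or.inr rfl) h1
  obtain ⟨D₂, rfl, g2, o2⟩ := AutPSU.GraphCent.frame_of_form hn S P₂ (c := 1) (Or.inl rfl) (by rw [hs2, one_smul])
  obtain ⟨D₃, rfl, g3, o3⟩ := AutPSU.GraphCent.frame_of_form hn S P₃ (c := 1) (Or.inl rfl) (by rw [hs3, one_smul])
  refine ⟨_, _, _, 1, ζ, hζ, g1, o1, g2, o2, g3, o3, ?_, ?_, ?_, fun γ hγ hγ2 => ?_, ?_, ?_, ?_⟩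
  · rw [AutPSU.GraphCent.isConjUnder_iff hn]
    rintro ⟨E, l, hl, hE⟩
    exact Forms.SimDet.not_congr_alt h2 (by omega) h1 hs2 hE
  · rw [AutPSU.GraphCent.isConjUnder_iff hn]
    rintro ⟨E, l, hl, hE⟩
    exact Forms.SimDet.not_congr_alt h2 (by omega) h1 hs3 hE
  · rw [AutPSU.GraphCent.isConjUnder_iff hn]
    rintro ⟨E, l, hl, hE⟩
    exact Forms.SimDet.not_congr_plus_min (by omega) hl e₂ he₂ hζ e₃ he₃ hE
  · obtain ⟨D, c, hc, hP, rfl⟩ := AutPSU.GraphCent.exists_frame hn hγ hγ2 S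
    simp only [AutPSU.GraphCent.isConjUnder_iff hn]
    rcases hc with rfl | rfl
    · rw [one_smul] at hP
      right
      rcases Forms.SimForms.even_std h2 D.P hP hnm with ⟨e, he⟩ | ⟨-, ζ', e, hζ', he⟩
      · obtain ⟨E, hE⟩ := Forms.SimForms.exists_congr_of_quad h2 hs2 hP (e₂.trans e.symm) (l := 1) fun v => by
          rw [← he₂, ← one_mul (Forms.SimForms.Qm _ _), ← he, LinearEquiv.trans_apply, e.apply_symm_apply]
        exact Or.inl ⟨E, 1, one_ne_zero, hE⟩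
      · obtain ⟨k, hk⟩ := Classical.QuadClass.minQ_isometric (m - 1)
          (ζ := ζ') (ζ' := ζ) (fun t ht => one_ne_zero (hζ' t 1 (by linear_combination ht)).2)
          (fun t ht => one_ne_zero (hζ t 1 (by linear_combination ht)).2)
        obtain ⟨E, hE⟩ := Forms.SimForms.exists_congr_of_quad h2 hs3 hP (e₃.trans (k.trans e.symm)) (l := 1) fun v => by
          rw [← he₃, ← one_mul (Forms.SimForms.Qm _ _), ← he, LinearEquiv.trans_apply, LinearEquiv.trans_apply,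
            e.apply_symm_apply, ← Classical.OrthForms.minQ_eq, ← Classical.OrthForms.minQ_eq, hk]
        exact Or.inr ⟨E, 1, one_ne_zero, hE⟩
    · left
      obtain ⟨e, he⟩ := Forms.SimForms.alt_std D.P (Forms.SimForms.alt_of_skew h2 hP) hnm
      obtain ⟨e₁, he₁⟩ := Forms.SimForms.alt_std D₁.P halt hnm
      obtain ⟨E, hE⟩ := Forms.SimForms.exists_congr_of_form (P := (D₁.P : Matrix (Fin n) (Fin n) F₀))
        (P' := (D.P : Matrix (Fin n) (Fin n) F₀)) (e₁.trans e.symm) (l := 1) fun u v => by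
          rw [one_mul, ← he, ← he₁, LinearEquiv.trans_apply, LinearEquiv.trans_apply, e.apply_symm_apply,
            e.apply_symm_apply]
      exact ⟨E, 1, one_ne_zero, hE⟩
  · obtain ⟨j⟩ := AutPSU.GraphCent.exists_equiv hn D₁
    exact (Forms.SimTypes.pgsp_iso D₁.P halt hnm).map j.trans
  · obtain ⟨j⟩ := AutPSU.GraphCent.exists_equiv hn D₂
    exact (Forms.SimTypes.pgo_iso h2 D₂.P hs2 _ e₂ he₂).map j.trans
  · obtain ⟨j⟩ := AutPSU.GraphCent.exists_equiv hn D₃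
    exact (Forms.SimTypes.pgo_iso h2 D₃.P hs3 _ e₃ he₃).map j.trans

end Cfsg.Agent.S2707
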