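import Cfsg.Statements.S2709
import Cfsg.Agent.Lib.AutPSU.GraphCentExists

set_option autoImplicit false
open Cfsg

namespace Cfsg.Agent.S2709

/-- Let T = PSU_n(q) be simple (n ≥ 3, (n,q) ≠ (3,2), q = p^f), realised over the field F with q² elements, G = Inndiag(T) the image of PGU_n(q), and γ an involutory graph automorphism of T. The G-class of γ is the union of exactly c T-classes, where: if n is even and q is odd, c = gcd(n/2, q + 1) when C_G(γ) is isomorphic to PGSp_n(F₀) for a field F₀ with q elements (symplectic type) and c = gcd(n, q + 1)/2 otherwise; and c = gcd(n, q + 1) when n is odd or q is even. -/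
theorem result {F : Type*} [Field F] [Fintype F] {p f q : ℕ} [Fact p.Prime] (hq : q = p ^ f) (hf : 1 ≤ f) (hF : Fintype.card F = q ^ 2) {n : ℕ} (hn : 3 ≤ n) (hs : ¬ (n = 3 ∧ q = 2)) (F₀ : Type*) [Field F₀] [Fintype F₀] (hF₀ : Fintype.card F₀ = q) (γ : MulAut (Cfsg.PSU n F q)) (hγ : Cfsg.IsGraphAutClassPSU γ) (hγ2 : orderOf γ = 2) :
    ((Even n ∧ Odd q ∧ Nonempty (↥(Cfsg.inndiagPSU n F q ⊓ Subgroup.centralizer {γ}) ≃* Cfsg.PGSp (n / 2) F₀)) → Cfsg.splitClassCount (Cfsg.inndiagPSU n F q) (Cfsg.Inn (Cfsg.PSU n F q)) γ = Nat.gcd (n / 2) (q + 1)) ∧ ((Even n ∧ Odd q ∧ ¬ Nonempty (↥(Cfsg.inndiagPSU n F q ⊓ Subgroup.centralizer {γ}) ≃* Cfsg.PGSp (n / 2) F₀)) → Cfsg.splitClassCount (Cfsg.inndiagPSU n F q) (Cfsg.Inn (Cfsg.PSU n F q)) γ = Nat.gcd n (q + 1) / 2) ∧ (¬ (Even n ∧ Odd q) → Cfsg.splitClassCount (Cfsg.inndiagPSU n F q) (Cfsg.Inn (Cfsg.PSU n F q)) γ = Nat.gcd n (q + 1)) := by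
  classical
  obtain ⟨S⟩ := AutPSU.GraphCent.nonempty_setup (F₀ := F₀) hF hF₀
  obtain ⟨D, c, hc, hP, rfl⟩ := AutPSU.GraphCent.exists_frame hn hγ hγ2 S
  obtain ⟨j⟩ := AutPSU.GraphCent.exists_equiv hn D
  have hroot : ¬ (Even n ∧ Odd q) → Odd n ∨ (2 : F₀) = 0 := by
    intro h
    rcases Nat.even_or_odd n with he | ho
    · have hq2 : Fintype.card F₀ % 2 = 0 := by
        rw [hF₀, ← Nat.even_iff]
        exact Nat.not_odd_iff_even.1 fun hp => h ⟨he, hp⟩
      have hc2 := FiniteField.even_card_iff_char_two.2 hq2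
      have : CharP F₀ 2 := hc2 ▸ ringChar.charP F₀
      exact Or.inr CharTwo.two_eq_zero
    · exact Or.inl ho
  refine ⟨?_, ?_, fun h => AutPSU.GraphCent.index_root hn D (hroot h)⟩
  · rintro ⟨he, hp, hsp⟩
    obtain ⟨m, hm⟩ := even_iff_two_dvd.1 he
    have ho : Odd (Fintype.card F₀) := hF₀ ▸ hp
    have h2 := Classical.OrthForms.two_ne_zero_of_odd (F := F₀) ho
    rw [show n / 2 = m by omega] at hsp ⊢
    rcases hc with rfl | rfl
    · rw [one_smul] at hP
      exact absurd (hsp.map fun k => j.symm.trans k) (Forms.SimProj.not_pgsp ho (by omega) hm D.P hP)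
    · exact AutPSU.GraphCent.index_alt hn hm D (Forms.SimForms.alt_of_skew h2 hP)
  · rintro ⟨he, hp, hsp⟩
    obtain ⟨m, hm⟩ := even_iff_two_dvd.1 he
    have ho : Odd (Fintype.card F₀) := hF₀ ▸ hp
    have h2 := Classical.OrthForms.two_ne_zero_of_odd (F := F₀) ho
    rw [show n / 2 = m by omega] at hsp
    rcases hc with rfl | rfl
    · rw [one_smul] at hP
      exact AutPSU.GraphCent.index_sym hn hm h2 D hP
    · exact absurd ((Forms.SimTypes.pgsp_iso D.P (Forms.SimForms.alt_of_skew h2 hP) hm).map j.trans) hsp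

end Cfsg.Agent.S2709
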