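import Cfsg.Statements.S2710
import Cfsg.Agent.Lib.AutPSU.GraphCentExists
import Cfsg.Agent.Lib.Forms.SimOne

set_option autoImplicit false
open Cfsg

namespace Cfsg.Agent.S2710

/-- Let T = PSU_n(q) with n ≥ 4 divisible by 4 (n = 2m) and q odd, realised over the field F with q² elements, G = Inndiag(T) the image of PGU_n(q), and φ the standard field automorphism of T attached to the q-th power map of F (it induces inverse-transpose on the unitary matrices and is a graph automorphism). Its centralizer in G is isomorphic to the projective conformal orthogonal group of the plus-type form Σ xᵢ yᵢ in dimension n over a field F₀ with q elements. (Dimensions n ≡ 2 (mod 4) are not covered.) -/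
theorem result {F : Type*} [Field F] [Fintype F] {q : ℕ} (hodd : Odd q) (hF : Fintype.card F = q ^ 2) {n m : ℕ} (hm : 2 ≤ m) (hnm : n = 2 * m) (h4 : 4 ∣ n) (F₀ : Type*) [Field F₀] [Fintype F₀] (hF₀ : Fintype.card F₀ = q) (σ : F ≃+* F) (hσ : ∀ a : F, σ a = a ^ q) (φ : MulAut (Cfsg.PSU n F q)) (hφ : Cfsg.IsFieldAutPSUOf σ φ) :
    Nonempty (↥(Cfsg.inndiagPSU n F q ⊓ Subgroup.centralizer {φ}) ≃* Cfsg.PGO F₀ (Cfsg.quadFormPlus m F₀)) := by
  classical
  have hn : 3 ≤ n := by omega
  have h2 := Classical.OrthForms.two_ne_zero_of_odd (F := F₀) (hF₀ ▸ hodd)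
  obtain ⟨S⟩ := AutPSU.GraphCent.nonempty_setup (F₀ := F₀) hF hF₀
  obtain rfl := AutPSU.GraphCent.sigma_unique S hσ
  let D : AutPSU.GraphCent.Frame S n :=
    { A := 1, B := 1, lam := 1, w := 1, P := 1, lam_ne := one_ne_zero, w_ne := one_ne_zero
      hB := by simp [Classical.Unitary.gmat_one, Matrix.map_one _ (map_zero S.σ) (map_one S.σ)]
      hG := by simp [Matrix.map_one _ (map_zero S.σ) (map_one S.σ), Matrix.map_one _ (map_zero S.ι) (map_one S.ι)] }
  have hD : φ = D.γ := by
    rw [(AutPSU.Basic.isFieldAutPSUOf_iff _ φ).1 hφ]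
    simp [AutPSU.GraphCent.Frame.γ, D]
  subst hD
  obtain ⟨j⟩ := AutPSU.GraphCent.exists_equiv hn D
  obtain ⟨k, hk⟩ := h4
  have hev : Even m := ⟨k, by omega⟩
  exact (Forms.SimOne.plus_of_square h2 (by omega) hnm ⟨1, by rw [hev.neg_one_pow, mul_one]⟩).map j.trans

end Cfsg.Agent.S2710
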