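import Cfsg.Statements.S2716
import Cfsg.Agent.Lib.AutPOmega.FieldCentStd
-- import your own Cfsg.Agent.* helpers here

set_option autoImplicit false
open Cfsg

namespace Cfsg.Agent.S2716

/-- Let T = PΩ⁻_{2m+2}(F) (m ≥ 3, |F| = p^f; the form Σ xᵢ yᵢ + z₁² + a z₁ z₂ + b z₂² with anisotropic binary part), G = Inndiag(T), and x a field automorphism of T of prime order r. Then r is odd and divides f; C_G(x) is isomorphic to Inndiag(PΩ⁻_{2m+2}(F₀)) for a field F₀ with p^(f/r) elements and some anisotropic binary part over F₀; and the G-class of x is a single T-class. -/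
theorem result {F : Type*} [Field F] [Fintype F] {p f : ℕ} [Fact p.Prime] (hF : Fintype.card F = p ^ f) (hf : 1 ≤ f) {m : ℕ} (hm : 3 ≤ m) (a b : F) (hab : (∀ z₁ z₂ : F, z₁ ^ 2 + a * z₁ * z₂ + b * z₂ ^ 2 = 0 → z₁ = 0 ∧ z₂ = 0)) (x : MulAut (Cfsg.POmega F (Cfsg.quadFormMinus m F a b))) (hx : Cfsg.IsFieldAutClassPOmegaMinus m x) {r : ℕ} (hr : r.Prime) (hxr : orderOf x = r) (F₀ : Type*) [Field F₀] [Fintype F₀] (hF₀ : Fintype.card F₀ = p ^ (f / r)) :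
    Odd r ∧ r ∣ f ∧ (∃ a₀ b₀ : F₀, (∀ z₁ z₂ : F₀, z₁ ^ 2 + a₀ * z₁ * z₂ + b₀ * z₂ ^ 2 = 0 → z₁ = 0 ∧ z₂ = 0) ∧ Nonempty (↥(Cfsg.inndiagPOmegaMinus m F a b ⊓ Subgroup.centralizer {x}) ≃* ↥(Cfsg.inndiagPOmegaMinus m F₀ a₀ b₀))) ∧ Cfsg.splitClassCount (Cfsg.inndiagPOmegaMinus m F a b) (Cfsg.Inn (Cfsg.POmega F (Cfsg.quadFormMinus m F a b))) x = 1 := by
  obtain ⟨a', b', ψ, σ, hab', -, ha, hb, hφ⟩ := hx
  have key : ∀ (Q Q' : ((Fin m ⊕ Fin m) ⊕ Fin 2 → F) → F)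
      (Q₁ : F₀ → F₀ → ((Fin m ⊕ Fin m) ⊕ Fin 2 → F₀) → F₀)
      (_ : Q = ⇑(Cfsg.Agent.Classical.OrthForms.minQ F m a b))
      (_ : Q' = ⇑(Cfsg.Agent.Classical.OrthForms.minQ F m a' b'))
      (_ : Q₁ = fun a₀ b₀ => ⇑(Cfsg.Agent.Classical.OrthForms.minQ F₀ m a₀ b₀))
      (x : MulAut (Cfsg.POmega F Q)) (ψ : Cfsg.POmega F Q ≃* Cfsg.POmega F Q'),
      Cfsg.IsFieldAutPOmegaOf Q' σ ((ψ.symm.trans x).trans ψ) → orderOf x = r →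
      Odd r ∧ r ∣ f ∧ (∃ a₀ b₀ : F₀, (∀ z₁ z₂ : F₀, z₁ ^ 2 + a₀ * z₁ * z₂ + b₀ * z₂ ^ 2 = 0 →
          z₁ = 0 ∧ z₂ = 0) ∧ Nonempty (↥(Cfsg.Agent.AutPOmega.Plus.inndiagOf Q
            (Cfsg.PreservesSingularClassesMinus m a b) ⊓ Subgroup.centralizer {x}) ≃*
          ↥(Cfsg.Agent.AutPOmega.Plus.inndiagOf (Q₁ a₀ b₀)
            (Cfsg.PreservesSingularClassesMinus m a₀ b₀)))) ∧
        Cfsg.splitClassCount (Cfsg.Agent.AutPOmega.Plus.inndiagOf Q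
          (Cfsg.PreservesSingularClassesMinus m a b)) (Cfsg.Inn (Cfsg.POmega F Q)) x = 1 := by
    intro Q Q' Q₁ hQ hQ' hQ₁ x ψ hφ hxr
    subst hQ hQ' hQ₁
    exact Cfsg.Agent.AutPOmega.FieldCentStd.minus_field hm hab hab' x ψ σ ha hb hφ hF hr hxr hF₀
  exact key _ _ (fun a₀ b₀ => Cfsg.quadFormMinus m F₀ a₀ b₀)
    (Cfsg.Agent.Classical.OrthForms.minQ_eq m a b).symm
    (Cfsg.Agent.Classical.OrthForms.minQ_eq m a' b').symm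
    (funext fun a₀ => funext fun b₀ => (Cfsg.Agent.Classical.OrthForms.minQ_eq m a₀ b₀).symm)
    x ψ hφ hxr

end Cfsg.Agent.S2716
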