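import Cfsg.Statements.S2721
import Cfsg.Agent.Lib.AutPOmega.SemisimpleFusion.Main

set_option autoImplicit false
open Cfsg

namespace Cfsg.Agent.S2721

/-- Let T = PΩ⁻_{2m+2}(F) (m ≥ 3, F finite of odd characteristic p), G = Inndiag(T), and let x be an automorphism of T induced by a similarity of the form (an element of the image G̃ of the conformal orthogonal group) of odd prime order r ≠ p. Then the T-class, the PSO-class and the G-class of x coincide (conjugacy under inner automorphisms, under the image of the special orthogonal group, and under G), and the PO-class of x coincides with its G̃-class. (In characteristic 2 the first equality fails: there the special orthogonal group is the full orthogonal group and some such classes split.) -/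
theorem result {F : Type*} [Field F] [Fintype F] {p : ℕ} [Fact p.Prime] [CharP F p] (hp : p ≠ 2) {m : ℕ} (hm : 3 ≤ m) (a b : F) (hab : (∀ z₁ z₂ : F, z₁ ^ 2 + a * z₁ * z₂ + b * z₂ ^ 2 = 0 → z₁ = 0 ∧ z₂ = 0)) (x : MulAut (Cfsg.POmega F (Cfsg.quadFormMinus m F a b))) (hx : x ∈ Cfsg.pgoAut F (Cfsg.quadFormMinus m F a b)) {r : ℕ} (hr : r.Prime) (hro : Odd r) (hrp : r ≠ p) (hxr : orderOf x = r) :
    (∀ y : MulAut (Cfsg.POmega F (Cfsg.quadFormMinus m F a b)), (Cfsg.IsConjUnder (Cfsg.Inn (Cfsg.POmega F (Cfsg.quadFormMinus m F a b))) x y ↔ Cfsg.IsConjUnder (Cfsg.inndiagPOmegaMinus m F a b) x y) ∧ (Cfsg.IsConjUnder (Cfsg.psoAut F (Cfsg.quadFormMinus m F a b)) x y ↔ Cfsg.IsConjUnder (Cfsg.inndiagPOmegaMinus m F a b) x y)) ∧ (∀ y : MulAut (Cfsg.POmega F (Cfsg.quadFormMinus m F a b)), Cfsg.IsConjUnder (Cfsg.poAut F (Cfsg.quadFormMinus m F a b)) x y ↔ Cfsg.IsConjUnder (Cfsg.pgoAut F (Cfsg.quadFormMinus m F a b)) x y) := by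
  haveI : Fact r.Prime := ⟨hr⟩
  have h2 : (2 : F) ≠ 0 := fun h => hp ((Nat.prime_dvd_prime_iff_eq (Fact.out : p.Prime) Nat.prime_two).1
    ((CharP.cast_eq_zero_iff F p 2).1 (by exact_mod_cast h)))
  have hr2 : r ≠ 2 := fun e => by rw [e] at hro; exact absurd hro (by decide)
  obtain ⟨i, hS⟩ := Cfsg.Agent.AutPOmega.SSFusion.exists_setting (F := F) hr hr2 hrp
  obtain ⟨E⟩ := Cfsg.Agent.AutPOmega.minusEven hab hm
  have key : ∀ (Q : ((Fin m ⊕ Fin m) ⊕ Fin 2 → F) → F)
      (_ : Q = ⇑(Cfsg.Agent.Classical.OrthForms.minQ F m a b)) (x : MulAut (Cfsg.POmega F Q)),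
      x ∈ Cfsg.pgoAut F Q → orderOf x = r →
      (∀ y, (Cfsg.IsConjUnder (Cfsg.Inn (Cfsg.POmega F Q)) x y ↔
          Cfsg.IsConjUnder (Cfsg.Agent.AutPOmega.Plus.inndiagOf Q (Cfsg.PreservesSingularClassesMinus m a b)) x y) ∧
        (Cfsg.IsConjUnder (Cfsg.psoAut F Q) x y ↔
          Cfsg.IsConjUnder (Cfsg.Agent.AutPOmega.Plus.inndiagOf Q (Cfsg.PreservesSingularClassesMinus m a b)) x y)) ∧
      (∀ y, Cfsg.IsConjUnder (Cfsg.poAut F Q) x y ↔ Cfsg.IsConjUnder (Cfsg.pgoAut F Q) x y) := by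
    intro Q hQ x hx hxr
    subst hQ
    rw [Cfsg.Agent.AutPOmega.inndiag_minus hab hm E]
    exact Cfsg.Agent.AutPOmega.SSFusion.fusion E h2 hS x hx hxr
  exact key _ (Cfsg.Agent.Classical.OrthForms.minQ_eq m a b).symm x hx hxr

end Cfsg.Agent.S2721
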