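import Cfsg.Statements.S2734
import Cfsg.Agent.Lib.Chevalley.Fold.G2
import Cfsg.Agent.Lib.Chevalley.Fold.GraphPerm
-- import your own Cfsg.Agent.* helpers here

set_option autoImplicit false
open Cfsg

namespace Cfsg.Agent.S2734

open Cfsg.Lie Cfsg.Agent.Chevalley

theorem long_ok : ∀ i < chevD4.rank, chevD4.isLong (chevD4.simple i) = false := by decide +kernel

theorem perm_ok : ∀ π : Equiv.Perm (Fin chevD4.rank),
    (∀ i j : Fin chevD4.rank, i ≠ j → chevD4.bonds (π i : ℕ) (π j : ℕ) = chevD4.bonds (i : ℕ) (j : ℕ)) →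
    (∀ i : Fin chevD4.rank, π (π i) = i) ∨ (∀ i : Fin chevD4.rank, Twist.nodePi Twist.D4.L (i : ℕ) = (π i : ℕ)) ∨
      ∀ i : Fin chevD4.rank, Twist.nodePi Twist.D4.L (π i : ℕ) = (i : ℕ) := by decide +kernel

/-- In the Chevalley group of type D₄ over a finite field F (the matrix group generated by the root elements), a graph automorphism attached to a symmetry π of the Dynkin diagram (sending each fundamental root element x_p(t) to x_{π(p)}(t) and each x_{−p}(t) to x_{−π(p)}(t)) that has order 3 — a standard triality graph automorphism, π being a 3-cycle of the three outer nodes — has fixed-point subgroup isomorphic to the Chevalley group of type G₂ over F. -/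
theorem result {F : Type*} [Field F] [Fintype F] (τ : MulAut ↥(Cfsg.Lie.chevD4.group F)) (hτ : Cfsg.Lie.chevD4.IsGraphAut τ) (hτ3 : orderOf τ = 3) :
    Nonempty (↥(MonoidHom.eqLocus τ.toMonoidHom (MonoidHom.id ↥(Cfsg.Lie.chevD4.group F))) ≃* ↥(Cfsg.Lie.chevG2.group F)) := by
  obtain ⟨π, hsym, hfol⟩ := Fold.exists_follows Twist.D4.hC hτ long_ok
  have hK : ∀ g, g ∈ MonoidHom.eqLocus τ.toMonoidHom (MonoidHom.id _) ↔ τ g = g := fun g => Iff.rfl
  obtain ⟨S, hπ, hhom, ⟨e⟩⟩ := Fold.G2.exists_fold (F := F)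
  rcases perm_ok π hsym with h | h | h
  · exfalso
    have h2 : τ * τ = 1 := Fold.eq_one_of_follows Twist.D4.hC fun i t => by
      rw [MulAut.mul_apply, MulAut.mul_apply, (hfol i t).1, (hfol i t).2, (hfol (π i) t).1,
        (hfol (π i) t).2, h]
      exact ⟨rfl, rfl⟩
    have h3 : orderOf τ ∣ 2 := orderOf_dvd_of_pow_eq_one (by rw [pow_two, h2])
    rw [hτ3] at h3
    norm_num at h3
  · exact (Fold.equiv_of_follows hhom hfol (fun i => by rw [hπ]; exact h i) _ hK).map (·.trans e)
  · refine (Fold.equiv_of_follows (φ := τ.symm) hhom (Fold.follows_symm _ hfol)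
      (fun i => ?_) _ fun g => (hK g).trans ?_).map (·.trans e)
    · rw [hπ]; have := h (π.symm i); rwa [π.apply_symm_apply] at this
    · rw [MulEquiv.symm_apply_eq, eq_comm]

end Cfsg.Agent.S2734
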