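import Cfsg.Statements.S2737
import Cfsg.Agent.Lib.AutPOmega.FieldStd
-- import your own Cfsg.Agent.* helpers here

set_option autoImplicit false
open Cfsg

namespace Cfsg.Agent.S2737

/-- Let T = PΩ⁻_{2m+2}(F) (m ≥ 3; form with anisotropic binary part) and x a field automorphism of T of prime order r. Then an element y of the coset Inndiag(T)·x has order r if and only if y is conjugate to x by an element of Inndiag(T). (T has no graph-field automorphisms.) -/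
theorem result {F : Type*} [Field F] [Fintype F] {m : ℕ} (hm : 3 ≤ m) (a b : F) (hab : (∀ z₁ z₂ : F, z₁ ^ 2 + a * z₁ * z₂ + b * z₂ ^ 2 = 0 → z₁ = 0 ∧ z₂ = 0)) (x δ : MulAut (Cfsg.POmega F (Cfsg.quadFormMinus m F a b))) (hx : Cfsg.IsFieldAutClassPOmegaMinus m x) {r : ℕ} (hr : r.Prime) (hxr : orderOf x = r) (hδ : δ ∈ Cfsg.inndiagPOmegaMinus m F a b) :
    orderOf (δ * x) = r ↔ Cfsg.IsConjUnder (Cfsg.inndiagPOmegaMinus m F a b) x (δ * x) := by
  obtain ⟨a', b', ψ, σ, hab', -, ha, hb, hφ⟩ := hx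
  have key : ∀ (Q Q' : ((Fin m ⊕ Fin m) ⊕ Fin 2 → F) → F)
      (_ : Q = ⇑(Cfsg.Agent.Classical.OrthForms.minQ F m a b))
      (_ : Q' = ⇑(Cfsg.Agent.Classical.OrthForms.minQ F m a' b'))
      (x δ : MulAut (Cfsg.POmega F Q)) (ψ : Cfsg.POmega F Q ≃* Cfsg.POmega F Q'),
      Cfsg.IsFieldAutPOmegaOf Q' σ ((ψ.symm.trans x).trans ψ) → orderOf x = r →
      δ ∈ Cfsg.Agent.AutPOmega.Plus.inndiagOf Q (Cfsg.PreservesSingularClassesMinus m a b) →
      (orderOf (δ * x) = r ↔ Cfsg.IsConjUnder (Cfsg.Agent.AutPOmega.Plus.inndiagOf Q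
        (Cfsg.PreservesSingularClassesMinus m a b)) x (δ * x)) := by
    intro Q Q' hQ hQ' x δ ψ hφ hxr hδ
    subst hQ hQ'
    exact Cfsg.Agent.AutPOmega.FieldStd.coset_minus hm hab hab' x δ ψ σ ha hb hφ hr hxr hδ
  exact key _ _ (Cfsg.Agent.Classical.OrthForms.minQ_eq m a b).symm
    (Cfsg.Agent.Classical.OrthForms.minQ_eq m a' b').symm x δ ψ hφ hxr hδ

end Cfsg.Agent.S2737
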