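import Cfsg.Agent.Lib.Classical.Linear
import Cfsg.Statements.S2738
-- import your own Cfsg.Agent.* helpers here

set_option autoImplicit false
open Cfsg

namespace Cfsg.Agent.S2738

/-- The special linear group SL(3, 4) has centre of order 3 and does not split over it: no subgroup is a complement to the centre (so SL(3, 4) is a non-split central extension of PSL(3, 4) by a group of order 3). -/
theorem result (F : Type*) [Field F] [Fintype F] (hF : Fintype.card F = 4) : Nat.card ↥(Subgroup.center (Matrix.SpecialLinearGroup (Fin 3) F)) = 3 ∧ ¬ ∃ K : Subgroup (Matrix.SpecialLinearGroup (Fin 3) F), Subgroup.IsComplement' (Subgroup.center (Matrix.SpecialLinearGroup (Fin 3) F)) K := by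
  classical
  have hc : Nat.card ↥(Subgroup.center (Matrix.SpecialLinearGroup (Fin 3) F)) = 3 := by
    rw [Nat.card_congr Matrix.SpecialLinearGroup.center_equiv_rootsOfUnity.toEquiv]
    simp only [Fintype.card_fin, show max 3 1 = 3 from rfl]
    have hu : Nat.card Fˣ = 3 := by rw [Nat.card_units, Nat.card_eq_fintype_card, hF]
    have ht : rootsOfUnity 3 F = ⊤ := eq_top_iff.mpr fun u _ => by
      rw [mem_rootsOfUnity, ← hu]
      exact pow_card_eq_one'
    rw [ht, Subgroup.card_top, hu]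
  refine ⟨hc, ?_⟩
  rintro ⟨K, hK⟩
  have htop : K = ⊤ := by
    refine top_le_iff.mp ?_
    rw [← Cfsg.Agent.Classical.Linear.commutator_SL_eq_top (n := Fin 3) (F := F) (by simp), commutator_def, Subgroup.commutator_le]
    intro a _ b _
    have hdec : ∀ x : Matrix.SpecialLinearGroup (Fin 3) F, ∃ z ∈ Subgroup.center _, ∃ k ∈ K, x = z * k := fun x =>
      let ⟨⟨z, k⟩, h⟩ := hK.2 x
      ⟨z, z.2, k, k.2, h.symm⟩
    obtain ⟨z, hz, k, hk, rfl⟩ := hdec a
    obtain ⟨z', hz', k', hk', rfl⟩ := hdec b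
    rw [commutatorElement_def, show z * k * (z' * k') * (z * k)⁻¹ * (z' * k')⁻¹ = z * k * z' * k' * k⁻¹ * z⁻¹ * k'⁻¹ * z'⁻¹ by group]
    have c1 := Subgroup.mem_center_iff.mp hz
    have c2 := Subgroup.mem_center_iff.mp hz'
    rw [show z * k * z' * k' * k⁻¹ * z⁻¹ * k'⁻¹ * z'⁻¹ = k * k' * k⁻¹ * k'⁻¹ by
      calc _ = z * (k * z') * k' * k⁻¹ * z⁻¹ * k'⁻¹ * z'⁻¹ := by group
        _ = z * (z' * k) * k' * k⁻¹ * z⁻¹ * k'⁻¹ * z'⁻¹ := by rw [c2 k]
        _ = z * z' * (k * k' * k⁻¹) * z⁻¹ * k'⁻¹ * z'⁻¹ := by group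
        _ = (k * k' * k⁻¹) * (z * z') * z⁻¹ * k'⁻¹ * z'⁻¹ := by
          rw [Subgroup.mem_center_iff.mp (mul_mem hz hz') (k * k' * k⁻¹)]
        _ = (k * k' * k⁻¹) * (z * z' * z⁻¹) * k'⁻¹ * z'⁻¹ := by group
        _ = (k * k' * k⁻¹) * (z' * k'⁻¹) * z'⁻¹ := by
          rw [show z * z' * z⁻¹ = z' by rw [← c1 z']; group]; group
        _ = (k * k' * k⁻¹) * (k'⁻¹ * z') * z'⁻¹ := by rw [← c2 k'⁻¹]
        _ = _ := by group]
    exact mul_mem (mul_mem (mul_mem hk hk') (inv_mem hk)) (inv_mem hk')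
  subst htop
  have h := hK.card_mul
  rw [hc, Subgroup.card_top] at h
  have := Nat.card_pos (α := Matrix.SpecialLinearGroup (Fin 3) F)
  omega

end Cfsg.Agent.S2738
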