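import Cfsg.Statements.S2752
import Cfsg.Agent.Lib.CharP.S3FreeSplit

set_option autoImplicit false
universe u
open Cfsg

namespace Cfsg.Agent.S2752

/-- Let M be an elementary abelian 2-subgroup of a finite group L and G a subgroup of L acting faithfully on M by conjugation (G normalizes M and meets C(M) trivially). Assume O₂(G) = 1, the symmetric group of degree 3 is not involved in G, and every non-abelian composition factor of G is a Suzuki group Sz(2^(2n+1)) or a group PSL₂(3^(2n+1)). Then every elementary abelian 2-subgroup A of G satisfies |M / C_M(A)| ≥ |A|² and |[M, A]| ≥ |A|². -/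
theorem result {L : Type u} [Group L] [Finite L] (M G : Subgroup L) (hM : Cfsg.IsElementaryAbelian 2 M) (hGM : G ≤ Subgroup.normalizer (M : Set L)) (hf : G ⊓ Subgroup.centralizer (M : Set L) = ⊥) (ha : Cfsg.pCore 2 ↥G = ⊥) (hb : ¬ Cfsg.Involves (Equiv.Perm (Fin 3)) ↥G) (hc : Cfsg.IsCompositionKGroupWith Cfsg.IsSuzukiOrPSL2OddPowerThree ↥G) (A : Subgroup L) (hA : A ≤ G) (hAe : Cfsg.IsElementaryAbelian 2 A) : Nat.card A ^ 2 * Nat.card ↥(M ⊓ Subgroup.centralizer (A : Set L)) ≤ Nat.card M ∧ Nat.card A ^ 2 ≤ Nat.card ↥⁅M, A⁆ := by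
  classical
  have hn : ∀ g : ↥G, ∀ m : ↥M, (g : L) * m * (g : L)⁻¹ ∈ M := fun g m =>
    (Subgroup.mem_normalizer_iff.1 (hGM g.2) m).1 m.2
  letI : CommGroup ↥M :=
    { (inferInstance : Group ↥M) with mul_comm := fun a b => hM.1.is_comm.comm a b }
  letI : MulDistribMulAction ↥G ↥M :=
    { smul := fun g m => ⟨(g : L) * m * (g : L)⁻¹, hn g m⟩
      one_smul := fun m => Subtype.ext (by simp [HSMul.hSMul, SMul.smul])
      mul_smul := fun g h m => Subtype.ext (by simp [HSMul.hSMul, SMul.smul, mul_assoc])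
      smul_mul := fun g m n => Subtype.ext (by simp [HSMul.hSMul, SMul.smul, mul_assoc])
      smul_one := fun g => Subtype.ext (by simp [HSMul.hSMul, SMul.smul]) }
  have hsmul : ∀ (g : ↥G) (m : ↥M), ((g • m : ↥M) : L) = g * m * (g : L)⁻¹ := fun g m => rfl
  have hexp : ∀ m : ↥M, m * m = 1 := fun m => Subtype.ext (by
    rw [Subgroup.coe_mul, ← pow_two]; exact hM.2 m m.2)
  have hfaith : ∀ g : ↥G, (∀ m : ↥M, g • m = m) → g = 1 := by
    intro g hg
    refine Subtype.ext (Subgroup.mem_bot.1 (hf ▸ ⟨g.2, fun m hm => ?_⟩))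
    have h := congrArg Subtype.val (hg ⟨m, hm⟩)
    rw [hsmul] at h
    exact (mul_inv_eq_iff_eq_mul.1 h).symm
  have hA' : Cfsg.Agent.CharP.S3FreeOffender.IsElem (A.subgroupOf G) :=
    ⟨fun a ha b hb => Subtype.ext (show (a : L) * b = b * a from congrArg Subtype.val
        (hAe.1.is_comm.comm ⟨(a : L), ha⟩ ⟨(b : L), hb⟩)),
      fun a ha => Subtype.ext (by rw [Subgroup.coe_mul, ← pow_two]; exact hAe.2 a ha)⟩
  obtain ⟨h1, h2⟩ := Cfsg.Agent.CharP.InvertedBound.bounds hexp hfaith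
    (Cfsg.Agent.CharP.S3FreeSplit.hasSplit hb ha fun H hH N _ hs hn => Or.inl (hc H hH N hs hn)) hA'
  have hcard : Nat.card ↥(A.subgroupOf G) = Nat.card A :=
    Nat.card_congr (Subgroup.subgroupOfEquivOfLe hA).toEquiv
  rw [hcard] at h1 h2
  constructor
  · refine le_trans (Nat.mul_le_mul_left _ ?_) h1
    refine Nat.card_le_card_of_injective (fun m => ⟨⟨m.1, m.2.1⟩, fun a ha => Subtype.ext ?_⟩)
      fun m n h => Subtype.ext (congrArg (fun z => (z.1 : L)) h)
    rw [hsmul]
    exact mul_inv_eq_iff_eq_mul.2 (Subgroup.mem_centralizer_iff.1 m.2.2 a ha)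
  · refine h2.trans ?_
    have hle : (Cfsg.Agent.CharP.InvertedBound.comm ↥M (A.subgroupOf G)).map M.subtype ≤ ⁅M, A⁆ := by
      rw [Subgroup.map_le_iff_le_comap]
      refine Cfsg.Agent.CharP.InvertedBound.comm_le_iff.2 fun a ha m => ?_
      rw [Subgroup.mem_comap, map_div]
      show (a : L) * m * (a : L)⁻¹ / (m : L) ∈ ⁅M, A⁆
      rw [div_eq_mul_inv, Subgroup.commutator_comm]
      exact Subgroup.commutator_mem_commutator ha m.2
    rw [← Subgroup.card_map_of_injective M.subtype_injective]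
    exact Subgroup.card_le_of_le hle

end Cfsg.Agent.S2752
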