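import Cfsg.Statements.S2758
import Cfsg.Agent.Lib.Fusion.LocalModels

set_option autoImplicit false
set_option linter.style.haveILetI false
open Cfsg

namespace Cfsg.Agent.S2758

variable {G : Type*} [Group G] [Finite G] {p : ℕ} [hp : Fact p.Prime]

theorem pow_val_add {Q : Type*} [Group Q] {c : Q} (hc : c ^ p = 1) (i j : ZMod p) :
    c ^ (i + j).val = c ^ i.val * c ^ j.val := by
  rw [← pow_add, ZMod.val_add, ← pow_eq_pow_mod _ hc]

/-- The map from the dihedral group given by an involution inverting an element of order `p`. -/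
def dihom {Q : Type*} [Group Q] (b c : Q) (hc : c ^ p = 1) (hb : b * b = 1) (hbc : b * c * b⁻¹ = c⁻¹) :
    DihedralGroup p →* Q :=
  MonoidHom.mk' (fun d => match d with
    | .r i => c ^ i.val
    | .sr i => b * c ^ i.val) (by
      have hbi : b⁻¹ = b := inv_eq_of_mul_eq_one_right hb
      have hsub : ∀ i j : ZMod p, c ^ (j - i).val = (c ^ i.val)⁻¹ * c ^ j.val := by
        intro i j
        rw [eq_inv_mul_iff_mul_eq, ← pow_val_add hc, add_sub_cancel]
      have hmove : ∀ n : ℕ, c ^ n * b = b * (c ^ n)⁻¹ := by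
        intro n
        have h1 : b * c ^ n * b⁻¹ = (c ^ n)⁻¹ := by rw [← conj_pow, hbc, inv_pow]
        rw [← h1, hbi, ← mul_assoc, ← mul_assoc, hb, one_mul]
      rintro (i | i) (j | j)
      · rw [DihedralGroup.r_mul_r]; exact pow_val_add hc i j
      · rw [DihedralGroup.r_mul_sr]
        show b * c ^ (j - i).val = c ^ i.val * (b * c ^ j.val)
        rw [← mul_assoc, hmove, hsub, mul_assoc]
      · rw [DihedralGroup.sr_mul_r]
        show b * c ^ (i + j).val = b * c ^ i.val * c ^ j.val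
        rw [pow_val_add hc, mul_assoc]
      · rw [DihedralGroup.sr_mul_sr]
        show c ^ (j - i).val = b * c ^ i.val * (b * c ^ j.val)
        rw [← mul_assoc, mul_assoc b (c ^ i.val) b, hmove, ← mul_assoc, hb, one_mul, hsub])

theorem involves_of_inverts (hp2 : p ≠ 2) {x y : G} (hy : ∃ k : ℕ, orderOf y = p ^ k)
    (hy1 : y ≠ 1) (hinv : x * y * x⁻¹ = y⁻¹) : Involves (DihedralGroup p) G := by
  obtain ⟨k, hk⟩ := hy
  obtain ⟨k, rfl⟩ : ∃ l, k = l + 1 := ⟨k - 1, by
    rcases Nat.eq_zero_or_pos k with rfl | h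
    · rw [pow_zero, orderOf_eq_one_iff] at hk; exact absurd hk hy1
    · omega⟩
  set c := y ^ p ^ k
  have hc : c ^ p = 1 := by rw [← pow_mul, ← pow_succ, ← hk]; exact pow_orderOf_eq_one y
  have hc1 : c ≠ 1 := fun e => by
    have h1 := orderOf_dvd_of_pow_eq_one e
    rw [hk, Nat.pow_dvd_pow_iff_le_right hp.out.one_lt] at h1
    omega
  have hxc : x * c * x⁻¹ = c⁻¹ := by rw [← conj_pow, hinv, inv_pow]
  have hne : ∀ j : ℤ, c ^ j * c ^ j = 1 → c ^ j = 1 := by
    intro j h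
    have h2 : (c ^ j) ^ 2 = 1 := by rw [pow_two]; exact h
    have hp' : (c ^ j) ^ p = 1 := by
      rw [← zpow_natCast (c ^ j) p, ← zpow_mul, mul_comm, zpow_mul, zpow_natCast, hc, one_zpow]
    have h3 := Nat.dvd_gcd (orderOf_dvd_of_pow_eq_one h2) (orderOf_dvd_of_pow_eq_one hp')
    rw [(Nat.coprime_primes Nat.prime_two hp.out).mpr hp2.symm |>.gcd_eq_one, Nat.dvd_one, orderOf_eq_one_iff] at h3
    exact h3
  have hxx : Commute (x ^ 2) c := by
    show x ^ 2 * c = c * x ^ 2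
    have h1 : x ^ 2 * c * (x ^ 2)⁻¹ = c := by
      calc x ^ 2 * c * (x ^ 2)⁻¹ = x * (x * c * x⁻¹) * x⁻¹ := by rw [pow_two]; group
        _ = (x * c * x⁻¹)⁻¹ := by rw [hxc]; nth_rewrite 2 [← hxc]; simp [mul_assoc]
        _ = c := by rw [hxc, inv_inv]
    exact mul_inv_eq_iff_eq_mul.mp h1
  have hnc : ∀ j : ℤ, ¬ Commute (c * (x ^ 2) ^ j) x := by
    intro j h
    have h1 : Commute c x := by
      have h2 := h.mul_left (((Commute.refl x).pow_left 2).zpow_left j).inv_left
      rwa [mul_inv_cancel_right] at h2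
    rw [h1.symm.eq, mul_inv_cancel_right] at hxc
    have h3 := hne 1 (by rw [zpow_one]; nth_rewrite 1 [hxc]; rw [inv_mul_cancel])
    rw [zpow_one] at h3
    exact hc1 h3
  set H := Subgroup.zpowers c ⊔ Subgroup.zpowers x
  set T := Subgroup.zpowers (x ^ 2)
  have hHn : H ≤ Subgroup.normalizer (T : Set G) := by
    refine sup_le (Subgroup.zpowers_le.mpr ?_) (Subgroup.zpowers_le.mpr ?_) <;>
      refine Subgroup.centralizer_le_normalizer _ ?_
    · rintro _ ⟨j, rfl⟩; exact hxx.zpow_left j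
    · rintro _ ⟨j, rfl⟩; exact ((Commute.refl x).pow_left 2).zpow_left j
  have hTH : T ≤ H := Subgroup.zpowers_le.mpr (Subgroup.mem_sup_right (Subgroup.npow_mem_zpowers x 2))
  haveI : (T.subgroupOf H).Normal := (Subgroup.normal_subgroupOf_iff_le_normalizer hTH).mpr hHn
  set π := QuotientGroup.mk' (T.subgroupOf H)
  have hxH : x ∈ H := Subgroup.mem_sup_right (Subgroup.mem_zpowers x)
  have hcH : c ∈ H := Subgroup.mem_sup_left (Subgroup.mem_zpowers c)
  set b' := π ⟨x, hxH⟩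
  set c' := π ⟨c, hcH⟩
  have hπ : ∀ w : H, π w = 1 → ∃ j : ℤ, (x ^ 2) ^ j = (w : G) := fun w hw =>
    Subgroup.mem_zpowers_iff.mp (Subgroup.mem_subgroupOf.mp ((QuotientGroup.eq_one_iff w).mp hw))
  let ψ := dihom (p := p) b' c'
    (by rw [← map_pow, show (⟨c, hcH⟩ : H) ^ p = 1 from Subtype.ext hc, map_one])
    (by rw [← map_mul]; exact (QuotientGroup.eq_one_iff _).mpr (Subgroup.mem_subgroupOf.mpr ⟨1, by simp [pow_two]⟩))
    (by rw [← map_mul, ← map_inv, ← map_mul, ← map_inv]; exact congrArg π (Subtype.ext hxc))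
  have hinj : Function.Injective ψ := by
    rw [injective_iff_map_eq_one]
    rintro (i | i) hd
    · have h1 : c' ^ i.val = 1 := hd
      rw [← map_pow] at h1
      obtain ⟨j, hj⟩ := hπ _ h1
      simp only [Subgroup.coe_pow] at hj
      have h2 : Commute (c ^ (i.val : ℤ)) x := by
        rw [zpow_natCast, ← hj]; exact ((Commute.refl x).pow_left 2).zpow_left j
      have h3 : x * c ^ (i.val : ℤ) * x⁻¹ = (c ^ (i.val : ℤ))⁻¹ := by
        rw [← conj_zpow, hxc, inv_zpow]
      rw [h2.symm.eq, mul_inv_cancel_right] at h3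
      have h4 := hne _ (by nth_rewrite 1 [h3]; rw [inv_mul_cancel])
      rw [zpow_natCast] at h4
      have h5 : p ∣ i.val := by
        have := orderOf_dvd_of_pow_eq_one h4
        rwa [orderOf_eq_prime hc hc1] at this
      have h6 : i.val = 0 := Nat.eq_zero_of_dvd_of_lt h5 (ZMod.val_lt i)
      rw [(ZMod.val_eq_zero i).mp h6]; rfl
    · exfalso
      have h1 : b' * c' ^ i.val = 1 := hd
      rw [← map_pow, ← map_mul] at h1
      obtain ⟨j, hj⟩ := hπ _ h1
      simp only [Subgroup.coe_mul, Subgroup.coe_pow] at hj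
      have h2 : Commute (x * c ^ i.val) x := hj ▸ ((Commute.refl x).pow_left 2).zpow_left j
      have h3 : Commute (c ^ i.val) x := by
        have := (Commute.refl x).inv_left.mul_left h2
        rwa [inv_mul_cancel_left] at this
      have h4 : x * c ^ (i.val : ℤ) * x⁻¹ = (c ^ (i.val : ℤ))⁻¹ := by
        rw [← conj_zpow, hxc, inv_zpow]
      rw [zpow_natCast, h3.symm.eq, mul_inv_cancel_right] at h4
      have h5 := hne i.val (by rw [zpow_natCast]; nth_rewrite 1 [h4]; rw [inv_mul_cancel])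
      rw [zpow_natCast] at h5
      rw [h5, mul_one] at hj
      -- then `x` is an even power of itself, hence commutes with `c`
      have h6 : Commute x c := hj ▸ hxx.zpow_left j
      rw [h6.eq, mul_inv_cancel_right] at hxc
      exact hc1 (by simpa using hne 1 (by rw [zpow_one]; nth_rewrite 1 [hxc]; rw [inv_mul_cancel]))
  have hsurj : Function.Surjective ψ := by
    have hr : H ≤ (ψ.range.comap π).map H.subtype := by
      refine sup_le (Subgroup.zpowers_le.mpr ⟨⟨c, hcH⟩, ⟨.r 1, ?_⟩, rfl⟩)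
        (Subgroup.zpowers_le.mpr ⟨⟨x, hxH⟩, ⟨.sr 0, ?_⟩, rfl⟩)
      · show c' ^ (1 : ZMod p).val = c'
        haveI : Fact (1 < p) := ⟨hp.out.one_lt⟩
        rw [ZMod.val_one, pow_one]
      · show b' * c' ^ (0 : ZMod p).val = b'
        rw [ZMod.val_zero, pow_zero, mul_one]
    intro q
    obtain ⟨w, rfl⟩ := QuotientGroup.mk'_surjective _ q
    obtain ⟨w', hw', e⟩ := hr w.2
    exact (Subtype.ext e : w' = w) ▸ hw'
  exact Fusion.LocalModels.involves_of_surj
    ((MulEquiv.ofBijective ψ ⟨hinj, hsurj⟩).symm.toMonoidHom.comp π)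
    ((MulEquiv.ofBijective ψ ⟨hinj, hsurj⟩).symm.surjective.comp (QuotientGroup.mk'_surjective _))

theorem exists_inverting {x : G} {P : Subgroup G} (hx : ∃ k : ℕ, orderOf x = 2 ^ k) (hP : IsPGroup p P)
    (hn : x ∈ Subgroup.normalizer (P : Set G)) (hc : x ∉ Subgroup.centralizer (P : Set G)) :
    ∃ x y : G, (∃ k : ℕ, orderOf x = 2 ^ k) ∧ (∃ k : ℕ, orderOf y = p ^ k) ∧ y ≠ 1 ∧ x * y * x⁻¹ = y⁻¹ := by
  classical
  obtain ⟨k, hk⟩ := hx
  have hex : ∃ j, x ^ 2 ^ j ∈ Subgroup.centralizer (P : Set G) :=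
    ⟨k, by rw [← hk, pow_orderOf_eq_one]; exact one_mem _⟩
  have hj := Nat.find_spec hex
  obtain ⟨j, hjj⟩ : ∃ j, Nat.find hex = j + 1 := ⟨Nat.find hex - 1, by
    rcases Nat.eq_zero_or_pos (Nat.find hex) with e | e
    · rw [e, pow_zero, pow_one] at hj; exact absurd hj hc
    · omega⟩
  set z := x ^ 2 ^ j
  have hz : z ∉ Subgroup.centralizer (P : Set G) := Nat.find_min hex (by omega)
  have hz2 : z * z ∈ Subgroup.centralizer (P : Set G) := by
    have h1 := hj
    rwa [hjj, pow_succ 2 j, pow_mul, pow_two] at h1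
  have hzN : z ∈ Subgroup.normalizer (P : Set G) := Subgroup.pow_mem _ hn _
  obtain ⟨u, hu, hune⟩ : ∃ u ∈ P, u * z ≠ z * u := by
    by_contra hh
    push Not at hh
    exact hz fun u hu => hh u hu
  set y := u⁻¹ * (z * u * z⁻¹) with hy
  have hyP : y ∈ P := P.mul_mem (P.inv_mem hu) ((Subgroup.mem_normalizer_iff.mp hzN u).mp hu)
  refine ⟨z, y, ?_, ?_, ?_, ?_⟩
  · obtain ⟨i, -, hi⟩ := (Nat.dvd_prime_pow Nat.prime_two).mp
      (hk ▸ orderOf_pow_dvd (x := x) (2 ^ j) : orderOf z ∣ 2 ^ k)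
    exact ⟨i, hi⟩
  · obtain ⟨i, hi⟩ := IsPGroup.iff_orderOf.mp hP ⟨y, hyP⟩
    exact ⟨i, by rw [← hi, ← Subgroup.orderOf_coe]⟩
  · intro e
    rw [hy, inv_mul_eq_one] at e
    exact hune (eq_mul_inv_iff_mul_eq.mp e)
  · have h1 : z * z * u = u * (z * z) := (hz2 u hu).symm
    calc z * y * z⁻¹ = z * u⁻¹ * z⁻¹ * (z * z * u) * (z * z)⁻¹ := by rw [hy]; group
      _ = z * u⁻¹ * z⁻¹ * u := by rw [h1]; group
      _ = y⁻¹ := by rw [hy]; group

theorem exists_normalizing (hp2 : p ≠ 2) (h : Involves (DihedralGroup p) G) :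
    ∃ (x : G) (P : Subgroup G), (∃ k : ℕ, orderOf x = 2 ^ k) ∧ IsPGroup p ↥P ∧
      x ∈ Subgroup.normalizer (P : Set G) ∧ x ∉ Subgroup.centralizer (P : Set G) := by
  haveI : Fact p.Prime := hp
  obtain ⟨K, f, hf⟩ := Fusion.LocalModels.exists_surj h
  let R : Subgroup (DihedralGroup p) :=
    { carrier := Set.range DihedralGroup.r
      one_mem' := ⟨0, rfl⟩
      mul_mem' := by rintro _ _ ⟨i, rfl⟩ ⟨j, rfl⟩; exact ⟨i + j, (DihedralGroup.r_mul_r i j).symm⟩
      inv_mem' := by rintro _ ⟨i, rfl⟩; exact ⟨-i, rfl⟩ }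
  haveI : R.Normal := ⟨by
    rintro _ ⟨i, rfl⟩ (j | j)
    · refine ⟨i, ?_⟩
      rw [show (DihedralGroup.r j)⁻¹ = DihedralGroup.r (-j) from rfl, DihedralGroup.r_mul_r, DihedralGroup.r_mul_r]
      congr 1; abel
    · refine ⟨-i, ?_⟩
      rw [show (DihedralGroup.sr j)⁻¹ = DihedralGroup.sr j from rfl, DihedralGroup.sr_mul_r, DihedralGroup.sr_mul_sr]
      congr 1; abel⟩
  have hRc : Nat.card R = p := by
    have h1 : Nat.card (Set.range (DihedralGroup.r : ZMod p → DihedralGroup p)) = p := by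
      rw [← Nat.card_congr (Equiv.ofInjective DihedralGroup.r fun i j e => DihedralGroup.r.inj e)]
      exact Nat.card_zmod p
    exact h1
  set M := R.comap f
  obtain ⟨P⟩ := (inferInstance : Nonempty (Sylow p M))
  have htop := Sylow.normalizer_sup_eq_top P
  obtain ⟨x₀, hx₀⟩ := hf (DihedralGroup.sr 0)
  have hx₀' : x₀ ∈ ((Subgroup.normalizer (((P : Subgroup M).map M.subtype : Subgroup K) : Set K) ⊔ M : Subgroup K) : Set K) :=
    htop ▸ Subgroup.mem_top x₀
  rw [Subgroup.mul_normal] at hx₀'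
  obtain ⟨n, hn, m, hm, hnm⟩ := hx₀'
  obtain ⟨i, hi⟩ : ∃ i, f n = DihedralGroup.sr i := by
    obtain ⟨l, hl⟩ := hm
    rcases hfn : f n with i | i
    · exfalso
      have := congrArg f hnm
      rw [map_mul, hfn, ← hl, DihedralGroup.r_mul_r, hx₀] at this
      simp at this
    · exact ⟨i, rfl⟩
  set o := orderOf n
  set w := n ^ ordCompl[2] o with hw
  have ho : o ≠ 0 := (orderOf_pos n).ne'
  have hodd : Odd (ordCompl[2] o) := Nat.odd_iff.mpr (by
    have := Nat.not_dvd_ordCompl Nat.prime_two ho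
    omega)
  have hfw : f w = DihedralGroup.sr i := by
    obtain ⟨l, hl⟩ := hodd
    rw [hw, map_pow, hi, hl, pow_succ, pow_mul, pow_two, DihedralGroup.sr_mul_sr, sub_self]
    rw [show DihedralGroup.r (0 : ZMod p) = 1 from rfl, one_pow, one_mul]
  -- the Sylow subgroup covers the rotations
  have hfM : Function.Surjective (f.subgroupComap R) := MonoidHom.subgroupComap_surjective_of_surjective f R hf
  have hP'top : (P.mapSurjective hfM : Subgroup R) = ⊤ :=
    ((P.mapSurjective hfM).3 ((IsPGroup.of_card (n := 1) (by rw [hRc, pow_one]) : IsPGroup p R).to_subgroup ⊤) le_top).symm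
  obtain ⟨u, hu, hue⟩ : (⟨DihedralGroup.r 1, 1, rfl⟩ : R) ∈ (P : Subgroup M).map (f.subgroupComap R) := by
    rw [← Sylow.coe_mapSurjective hfM P, hP'top]; exact Subgroup.mem_top _
  refine ⟨(w : G), ((P : Subgroup M).map M.subtype).map K.subtype, ?_, ?_, ?_, ?_⟩
  · rw [Subgroup.orderOf_coe]
    have h1 : w ^ 2 ^ o.factorization 2 = 1 := by
      rw [hw, ← pow_mul, mul_comm, Nat.ordProj_mul_ordCompl_eq_self]; exact pow_orderOf_eq_one n
    obtain ⟨l, -, hl⟩ := (Nat.dvd_prime_pow Nat.prime_two).mp (orderOf_dvd_of_pow_eq_one h1)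
    exact ⟨l, hl⟩
  · exact (P.2.map _).map _
  · exact Subgroup.le_normalizer_map K.subtype ⟨w, Subgroup.pow_mem _ hn _, rfl⟩
  · intro hcen
    have h1 : (u : K) * w = w * (u : K) := Subtype.ext (hcen _ ⟨_, ⟨u, hu, rfl⟩, rfl⟩)
    have h2 := congrArg f h1
    have h3 : f (u : K) = DihedralGroup.r 1 := congrArg Subtype.val hue
    rw [map_mul, map_mul, h3, hfw, DihedralGroup.r_mul_sr, DihedralGroup.sr_mul_r] at h2
    have h4 := DihedralGroup.sr.inj h2
    have h5 : ((2 : ℕ) : ZMod p) = 0 := by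
      push_cast
      linear_combination -h4
    rw [ZMod.natCast_eq_zero_iff] at h5
    exact hp2 ((Nat.prime_dvd_prime_iff_eq hp.out Nat.prime_two).mp h5)

omit hp in
/-- For an odd prime p and a finite group G the following are equivalent: the dihedral group of order 2p is involved in G; some element of 2-power order normalizes but does not centralize some p-subgroup of G; some element of 2-power order inverts some nonidentity element of p-power order. -/
theorem result {G : Type*} [Group G] [Finite G] {p : ℕ} [Fact p.Prime] (hp : p ≠ 2) : (Cfsg.Involves (DihedralGroup p) G ↔ ∃ (x : G) (P : Subgroup G), (∃ k : ℕ, orderOf x = 2 ^ k) ∧ IsPGroup p ↥P ∧ x ∈ Subgroup.normalizer (P : Set G) ∧ x ∉ Subgroup.centralizer (P : Set G)) ∧ (Cfsg.Involves (DihedralGroup p) G ↔ ∃ x y : G, (∃ k : ℕ, orderOf x = 2 ^ k) ∧ (∃ k : ℕ, orderOf y = p ^ k) ∧ y ≠ 1 ∧ x * y * x⁻¹ = y⁻¹) := by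
  refine ⟨⟨exists_normalizing hp, ?_⟩, ⟨fun h => ?_, fun ⟨x, y, _, hy, hy1, hi⟩ => involves_of_inverts hp hy hy1 hi⟩⟩
  · rintro ⟨x, P, hx, hP, hn, hc⟩
    obtain ⟨x, y, -, hy, hy1, hi⟩ := exists_inverting hx hP hn hc
    exact involves_of_inverts hp hy hy1 hi
  · obtain ⟨x, P, hx, hP, hn, hc⟩ := exists_normalizing hp h
    exact exists_inverting hx hP hn hc

end Cfsg.Agent.S2758
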