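import Cfsg.Statements.S2760
import Cfsg.Agent.Lib.CharP.Action
import Cfsg.Agent.Lib.CharP.Coprime
import Cfsg.Agent.Lib.Cores.Residual

set_option autoImplicit false
open Cfsg

namespace Cfsg.Agent.S2760

/-- Let G be a finite group with C_G(O₂(G)) ≤ O₂(G) and H a subgroup of G such that H is normal in G, or the subgroup O²(H) generated by the elements of H of odd order is normal in G. Then C_H(O₂(H)) ≤ O₂(H). -/
theorem result {G : Type*} [Group G] [Finite G] (hchar : Subgroup.centralizer (Cfsg.pCore 2 G : Set G) ≤ Cfsg.pCore 2 G) (H : Subgroup G) (hH : H.Normal ∨ ((Cfsg.pResidual 2 ↥H).map H.subtype).Normal) : Subgroup.centralizer (Cfsg.pCore 2 ↥H : Set ↥H) ≤ Cfsg.pCore 2 ↥H := by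
  have : Fact (Nat.Prime 2) := ⟨Nat.prime_two⟩
  rw [← CharP.isCharP_iff]
  rcases hH with hH | hH
  · exact CharP.isCharP_of_le_normalizer hchar (by rw [Subgroup.normalizer_eq_top]; exact le_top)
  set R := (Cfsg.pResidual 2 ↥H).map H.subtype
  have hR : CharP.IsCharP 2 R :=
    CharP.isCharP_of_le_normalizer hchar (by rw [Subgroup.normalizer_eq_top]; exact le_top)
  have hRH : R ≤ H := Subgroup.map_subtype_le _
  have hmono : Cfsg.pCoreOf 2 R ≤ Cfsg.pCoreOf 2 H :=
    CharP.pCoreOf_mono_of_normal hRH (by rw [Subgroup.normalizer_eq_top]; exact le_top)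
  refine CharP.le_pCoreOf inf_le_left ?_ (CharP.isPGroup_of_forall_coprime fun y hy hcop => ?_)
  · exact (le_inf Subgroup.le_normalizer ((CharP.le_normalizer_pCoreOf 2 H).trans
      (CharP.normalizer_le_normalizer_centralizer _))).trans Subgroup.inf_normalizer_le_normalizer_inf
  · have hyR : y ∈ R := ⟨⟨y, hy.1⟩, Cores.mem_pResidual_of_coprime (by rwa [Subgroup.orderOf_mk]), rfl⟩
    exact CharP.eq_one_of_mem_pgroup (CharP.isPGroup_pCoreOf 2 R)
      (hR ⟨hyR, Subgroup.centralizer_le (SetLike.coe_subset_coe.2 hmono) hy.2⟩) hcop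

end Cfsg.Agent.S2760
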