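import Cfsg.Statements.S2762
import Cfsg.Agent.Lib.CharP.QdBasic
import Cfsg.Agent.Lib.CharP.Basic

set_option autoImplicit false
open Cfsg

namespace Cfsg.Agent.S2762

/-- Structure of Qd over a finite field F of characteristic p (the affine subgroup of SL₃(F)): its largest normal p-subgroup is the group of translations (matrices with upper-left block the identity), the block-diagonal matrices form a complement isomorphic to SL₂(F), and the translation subgroup is a natural SL₂(F)-module for that complement. -/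
theorem result {F : Type*} [Field F] [Fintype F] {p : ℕ} [Fact p.Prime] [CharP F p] : (∀ M : ↥(Cfsg.qdOver F), M ∈ Cfsg.pCore p ↥(Cfsg.qdOver F) ↔ ((M : Matrix.SpecialLinearGroup (Fin 3) F) : Matrix (Fin 3) (Fin 3) F) 0 0 = 1 ∧ ((M : Matrix.SpecialLinearGroup (Fin 3) F) : Matrix (Fin 3) (Fin 3) F) 0 1 = 0 ∧ ((M : Matrix.SpecialLinearGroup (Fin 3) F) : Matrix (Fin 3) (Fin 3) F) 1 0 = 0 ∧ ((M : Matrix.SpecialLinearGroup (Fin 3) F) : Matrix (Fin 3) (Fin 3) F) 1 1 = 1) ∧ ∃ K : Subgroup ↥(Cfsg.qdOver F), (∀ M : ↥(Cfsg.qdOver F), M ∈ K ↔ ((M : Matrix.SpecialLinearGroup (Fin 3) F) : Matrix (Fin 3) (Fin 3) F) 0 2 = 0 ∧ ((M : Matrix.SpecialLinearGroup (Fin 3) F) : Matrix (Fin 3) (Fin 3) F) 1 2 = 0) ∧ K ⊓ Cfsg.pCore p ↥(Cfsg.qdOver F) = ⊥ ∧ K ⊔ Cfsg.pCore p ↥(Cfsg.qdOver F) = ⊤ ∧ Nonempty (↥K ≃* Matrix.SpecialLinearGroup (Fin 2) F) ∧ Cfsg.IsNaturalSL2Module F (Cfsg.pCore p ↥(Cfsg.qdOver F)) K := by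
  classical
  have hc : ∀ (A : Matrix.SpecialLinearGroup (Fin 2) F) (x : Fin 2 → F),
      ((CharP.QdBasic.el A x : Matrix.SpecialLinearGroup (Fin 3) F) : Matrix (Fin 3) (Fin 3) F) =
        !![A.1 0 0, A.1 0 1, x 0; A.1 1 0, A.1 1 1, x 1; 0, 0, 1] := fun _ _ => rfl
  rw [CharP.QdBasic.pCore_eq]
  refine ⟨fun M => ?_, (CharP.QdBasic.lin (F := F)).range, fun M => ?_, ?_, ?_, ?_, ?_⟩
  · obtain ⟨A, x, rfl⟩ := CharP.QdBasic.exists_el M
    rw [hc]
    constructor
    · rintro ⟨y, hy⟩
      obtain ⟨rfl, -⟩ := CharP.QdBasic.el_inj.1 (hy : CharP.QdBasic.el 1 y.toAdd = _)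
      simp
    · rintro ⟨h1, h2, h3, h4⟩
      refine ⟨Multiplicative.ofAdd x, ?_⟩
      have hA : A = 1 := by
        apply Subtype.ext
        ext i j
        fin_cases i <;> fin_cases j
        · simpa using h1
        · simpa using h2
        · simpa using h3
        · simpa using h4
      rw [hA]
      rfl
  · obtain ⟨A, x, rfl⟩ := CharP.QdBasic.exists_el M
    rw [hc]
    constructor
    · rintro ⟨B, hB⟩
      obtain ⟨-, rfl⟩ := CharP.QdBasic.el_inj.1 (hB : CharP.QdBasic.el B 0 = _)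
      simp
    · rintro ⟨h1, h2⟩
      refine ⟨A, ?_⟩
      have hx : x = 0 := by
        ext i
        fin_cases i
        · simpa using h1
        · simpa using h2
      rw [hx]
      rfl
  · rw [eq_bot_iff]
    rintro M ⟨⟨A, rfl⟩, x, hx⟩
    obtain ⟨rfl, -⟩ := CharP.QdBasic.el_inj.1
      (hx : CharP.QdBasic.el 1 x.toAdd = CharP.QdBasic.el A 0)
    rw [map_one]
    exact one_mem _
  · rw [eq_top_iff]
    intro M _
    obtain ⟨A, x, rfl⟩ := CharP.QdBasic.exists_el M
    have e : CharP.QdBasic.el A x = CharP.QdBasic.trans (Multiplicative.ofAdd x) * CharP.QdBasic.lin A := by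
      show _ = CharP.QdBasic.el 1 x * CharP.QdBasic.el A 0
      rw [CharP.QdBasic.el_mul, Matrix.mulVec_zero, one_mul, add_zero]
    rw [e]
    exact Subgroup.mul_mem _ (Subgroup.mem_sup_right ⟨_, rfl⟩) (Subgroup.mem_sup_left ⟨_, rfl⟩)
  · exact ⟨(MonoidHom.ofInjective CharP.QdBasic.lin_injective).symm⟩
  · refine ⟨?_, (MonoidHom.ofInjective CharP.QdBasic.lin_injective).symm.toMonoidHom,
      (MulEquiv.toAdditive (MonoidHom.ofInjective CharP.QdBasic.trans_injective).symm).trans
        (AddEquiv.additiveMultiplicative _), ?_, ?_, ?_⟩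
    · intro k _
      rw [← CharP.QdBasic.pCore_eq p]
      exact Subgroup.normalizer_eq_top (Cfsg.pCore p ↥(Cfsg.qdOver F)) ▸ Subgroup.mem_top k
    · exact MulEquiv.surjective _
    · ext ⟨_, A, rfl⟩
      rw [MonoidHom.mem_ker, Subgroup.mem_subgroupOf, Subgroup.mem_centralizer_iff]
      have e : (MonoidHom.ofInjective CharP.QdBasic.lin_injective).symm.toMonoidHom
          (⟨CharP.QdBasic.lin A, A, rfl⟩ : (CharP.QdBasic.lin (F := F)).range) = A :=
        (MonoidHom.ofInjective CharP.QdBasic.lin_injective).symm_apply_apply A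
      rw [e]
      refine ⟨fun h v _ => by simp [h], fun h => ?_⟩
      have hA : ∀ y : Fin 2 → F, A.1.mulVec y = y := fun y => by
        have h1 := h (CharP.QdBasic.el 1 y) ⟨Multiplicative.ofAdd y, rfl⟩
        have h2 := CharP.QdBasic.conj_trans A 0 y
        change CharP.QdBasic.el 1 y * CharP.QdBasic.el A 0 =
          CharP.QdBasic.el A 0 * CharP.QdBasic.el 1 y at h1
        rw [← h1, mul_inv_cancel_right] at h2
        exact (CharP.QdBasic.el_inj.1 h2).2.symm
      exact Subtype.ext (Matrix.ext_iff_mulVec.2 fun y => by simp [hA])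
    · rintro ⟨_, A, rfl⟩ ⟨_, x, rfl⟩
      refine ⟨⟨CharP.QdBasic.trans (Multiplicative.ofAdd (A.1.mulVec x.toAdd)), _, rfl⟩,
        (CharP.QdBasic.conj_trans A 0 x.toAdd).symm, ?_⟩
      have e1 : ∀ y, (MonoidHom.ofInjective CharP.QdBasic.trans_injective).symm
          (⟨CharP.QdBasic.trans y, y, rfl⟩ : (CharP.QdBasic.trans (F := F)).range) = y := fun y =>
        (MonoidHom.ofInjective CharP.QdBasic.trans_injective).symm_apply_apply y
      have e2 : (MonoidHom.ofInjective CharP.QdBasic.lin_injective).symm.toMonoidHom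
          (⟨CharP.QdBasic.lin A, A, rfl⟩ : (CharP.QdBasic.lin (F := F)).range) = A :=
        (MonoidHom.ofInjective CharP.QdBasic.lin_injective).symm_apply_apply A
      rw [e2]
      show Multiplicative.toAdd ((MonoidHom.ofInjective CharP.QdBasic.trans_injective).symm _) =
        A.1.mulVec (Multiplicative.toAdd ((MonoidHom.ofInjective CharP.QdBasic.trans_injective).symm _))
      exact (congrArg Multiplicative.toAdd (e1 _)).trans
        (congrArg A.1.mulVec (congrArg Multiplicative.toAdd (e1 x)).symm)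

end Cfsg.Agent.S2762
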