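import Cfsg.Statements.S2763
import Cfsg.Agent.Techniques.SL2.QdFusion

set_option autoImplicit false
open Cfsg

namespace Cfsg.Agent.S2763

/-- In the group Qd(p) (p prime; the natural semidirect product of an elementary abelian group of order p² by SL₂(p)), the normalizer of every nontrivial characteristic subgroup of a Sylow p-subgroup S equals the normalizer of S, which is a proper subgroup; in particular no such characteristic subgroup is normal. -/
theorem result {p : ℕ} [Fact p.Prime] (S : Sylow p ↥(Cfsg.qd p)) (T : Subgroup ↥(S : Subgroup ↥(Cfsg.qd p))) (hT : T ≠ ⊥) (hTc : T.Characteristic) : Subgroup.normalizer ((T.map (S : Subgroup ↥(Cfsg.qd p)).subtype : Subgroup ↥(Cfsg.qd p)) : Set ↥(Cfsg.qd p)) = Subgroup.normalizer ((S : Subgroup ↥(Cfsg.qd p)) : Set ↥(Cfsg.qd p)) ∧ Subgroup.normalizer ((S : Subgroup ↥(Cfsg.qd p)) : Set ↥(Cfsg.qd p)) ≠ ⊤ := by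
  open Cfsg.Agent.Techniques.SL2.QdFusion in
  classical
  let S₀ : Sylow p ↥(Cfsg.qd p) :=
    ⟨Cfsg.Agent.Techniques.SL2.QdFusion.S p, isPGroup_S p, fun hQ hle => S_maximal p hQ hle⟩
  obtain ⟨g, hg⟩ := MulAction.exists_smul_eq ↥(Cfsg.qd p) S S₀
  set c : ↥(Cfsg.qd p) ≃* ↥(Cfsg.qd p) := MulAut.conj g with hc
  have hS : (S : Subgroup ↥(Cfsg.qd p)).map c.toMonoidHom = Cfsg.Agent.Techniques.SL2.QdFusion.S p := by
    have := congrArg (fun P : Sylow p ↥(Cfsg.qd p) => (P : Subgroup ↥(Cfsg.qd p))) hg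
    exact this
  have hB : Cfsg.Agent.Techniques.SL2.QdFusion.B p ≤
      Subgroup.normalizer ((Cfsg.Agent.Techniques.SL2.QdFusion.S p : Subgroup _) : Set _) := by
    intro b hb
    refine Subgroup.mem_normalizer_fintype fun s hs => ?_
    have hbs : b * s * b⁻¹ ∈ Cfsg.Agent.Techniques.SL2.QdFusion.B p :=
      mul_mem (mul_mem hb ((mem_B p).2 ((mem_S p).1 hs).1)) (inv_mem hb)
    refine (mem_S p).2 ⟨(mem_B p).1 hbs, ?_⟩
    have hb' : en p b⁻¹ 1 0 = 0 := (mem_B p).1 (inv_mem hb)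
    have h1 : en p (b * b⁻¹) 0 0 = 1 := by rw [mul_inv_cancel, en_one]; simp
    rw [(en_mul_bot p _ _).2, hb', mul_zero, add_zero] at h1
    rw [(en_mul_bot p _ _).2, hb', mul_zero, add_zero, (en_mul_bot p _ _).2, ((mem_S p).1 hs).1,
      ((mem_S p).1 hs).2, mul_zero, add_zero, mul_one, h1]
  set X := (T.map (S : Subgroup ↥(Cfsg.qd p)).subtype).map c.toMonoidHom with hX
  have hXS : X ≤ Cfsg.Agent.Techniques.SL2.QdFusion.S p :=
    hS ▸ Subgroup.map_mono (Subgroup.map_subtype_le T)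
  have hNX : Subgroup.normalizer (X : Set ↥(Cfsg.qd p)) ≤ Cfsg.Agent.Techniques.SL2.QdFusion.B p := by
    refine normalizer_le_B p hXS ?_ fun φ => ?_
    · rw [hX, Ne, Subgroup.map_eq_bot_iff_of_injective _ c.injective,
        Subgroup.map_eq_bot_iff_of_injective _ (Subgroup.subtype_injective _)]
      exact hT
    · let eS : ↥(S : Subgroup ↥(Cfsg.qd p)) ≃* ↥(Cfsg.Agent.Techniques.SL2.QdFusion.S p) :=
        (c.subgroupMap (S : Subgroup ↥(Cfsg.qd p))).trans (MulEquiv.subgroupCongr hS)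
      have hTX : T.map eS.toMonoidHom = X.subgroupOf (Cfsg.Agent.Techniques.SL2.QdFusion.S p) := by
        ext y
        rw [Subgroup.mem_subgroupOf]
        constructor
        · rintro ⟨w, hw, rfl⟩
          exact ⟨w, ⟨w, hw, rfl⟩, rfl⟩
        · rintro ⟨_, ⟨w, hw, rfl⟩, hwy⟩
          exact ⟨w, hw, Subtype.ext hwy⟩
      rw [← hTX, Subgroup.map_map]
      conv_rhs => rw [← (Subgroup.characteristic_iff_map_eq.1 hTc) ((eS.trans φ).trans eS.symm),
        Subgroup.map_map]
      congr 1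
      ext y
      simp
  constructor
  · refine le_antisymm ?_ ?_
    · rw [← Subgroup.map_le_map_iff_of_injective (f := c.toMonoidHom) c.injective,
        Subgroup.map_equiv_normalizer_eq, Subgroup.map_equiv_normalizer_eq, ← hX, hS]
      exact hNX.trans hB
    · intro n hn
      refine Subgroup.mem_normalizer_fintype fun x hx => ?_
      obtain ⟨t, ht, rfl⟩ := hx
      let α : MulAut ↥(S : Subgroup ↥(Cfsg.qd p)) :=
        Subgroup.normalizerMonoidHom (S : Subgroup ↥(Cfsg.qd p)) ⟨n, hn⟩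
      refine ⟨α t, ?_, rfl⟩
      rw [← (Subgroup.characteristic_iff_map_eq.1 hTc) α]
      exact ⟨t, ht, rfl⟩
  · intro htop
    have h1 : Subgroup.normalizer
        (((Cfsg.Agent.Techniques.SL2.QdFusion.S p) : Subgroup _) : Set ↥(Cfsg.qd p)) = ⊤ := by
      rw [← hS, ← Subgroup.map_equiv_normalizer_eq, htop,
        Subgroup.map_top_of_surjective _ c.surjective]
    have hne : Cfsg.Agent.Techniques.SL2.QdFusion.S p ≠ ⊥ := fun hb =>
      Cfsg.Agent.Techniques.SL2.QdProps.V_ne_bot p (le_bot_iff.1 (hb ▸ V_le_S p))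
    have h2 := normal_eq_V p (Subgroup.normalizer_eq_top_iff.1 h1) le_rfl hne
    obtain ⟨y, hy⟩ : el p 1 0 0 ∈ Cfsg.Agent.Techniques.SL2.QdProps.V p := h2 ▸ el_mem p 1 0 0
    have h3 : en p (Cfsg.Agent.Techniques.SL2.QdProps.trans p y) 0 1 = en p (el p 1 0 0) 0 1 := by
      rw [hy]
    rw [show Cfsg.Agent.Techniques.SL2.QdProps.trans p y =
      Cfsg.Agent.Techniques.SL2.QdProps.trans p (Multiplicative.ofAdd y.toAdd) *
        Cfsg.Agent.Techniques.SL2.QdProps.lin p 1 by rw [map_one, mul_one]; rfl,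
      en_trans, en_el] at h3
    simp at h3

end Cfsg.Agent.S2763
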