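import Cfsg.Statements.S2768
import Cfsg.Agent.Lib.CharP.PushingUpZJ

set_option autoImplicit false
open Cfsg

namespace Cfsg.Agent.S2768

/-- Let G be a finite group and p a prime with C_G(O_p(G)) ≤ O_p(G), such that a Sylow p-subgroup S lies in exactly one maximal subgroup of G and G/K ≅ PSL₂(p^n) for some normal K and n ≥ 1. Put J̃(S) = C_S(Z(J(S))), where J(S) is generated by the abelian subgroups of S of largest order. If Z(S) is not normal in G, then J̃(S) is a Sylow p-subgroup of its normal closure ⟨J̃(S)^G⟩. -/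
theorem result {G : Type*} [Group G] [Finite G] {p : ℕ} [Fact p.Prime] (S : Sylow p G) (hE₁ : Subgroup.centralizer (Cfsg.pCore p G : Set G) ≤ Cfsg.pCore p G) (hE₂ : ∃! M : Subgroup G, IsCoatom M ∧ (S : Subgroup G) ≤ M) (K : Subgroup G) [K.Normal] (F : Type) [Field F] [Fintype F] (n : ℕ) (hn : 1 ≤ n) (hF : Fintype.card F = p ^ n) (hE₃ : Nonempty (G ⧸ K ≃* Matrix.ProjectiveSpecialLinearGroup (Fin 2) F)) (hZ : ¬ ((S : Subgroup G) ⊓ Subgroup.centralizer ((S : Subgroup G) : Set G)).Normal) : ∃ P : Sylow p ↥(Subgroup.normalClosure (((S : Subgroup G) ⊓ Subgroup.centralizer (Cfsg.centerThompsonAOf (S : Subgroup G) : Set G)) : Set G)), (P : Subgroup ↥(Subgroup.normalClosure (((S : Subgroup G) ⊓ Subgroup.centralizer (Cfsg.centerThompsonAOf (S : Subgroup G) : Set G)) : Set G))) = (((S : Subgroup G) ⊓ Subgroup.centralizer (Cfsg.centerThompsonAOf (S : Subgroup G) : Set G))).subgroupOf (Subgroup.normalClosure (((S : Subgroup G) ⊓ Subgroup.centralizer (Cfsg.centerThompsonAOf (S : Subgroup G) : Set G)) : Set G))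 := by
  open Cfsg.Agent.CharP in
  have hE := PushingUpZJ.isPushingUp hE₁ hE₂ K F hn hF hE₃
  have hCS : Subgroup.centralizer (PushingUpCL.omegaCore p G : Set G) ⊔ (S : Subgroup G) ≠ ⊤ := fun h =>
    hZ (PushingUpZJ.normal_of_central (PushingUpCL.central_of_sup hE h))
  set J := (S : Subgroup G) ⊓ Subgroup.centralizer (Cfsg.centerThompsonAOf (S : Subgroup G) : Set G) with hJ
  set L := Subgroup.normalClosure (J : Set G) with hL
  have key : (S : Subgroup G) ⊓ L = J := by
    refine le_antisymm ?_ (le_inf inf_le_left Subgroup.subset_normalClosure)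
    by_cases hall : ∀ A ∈ Cfsg.Agent.PLocal.MaxAbelian.family 0 (S : Subgroup G), A ≤ Cfsg.pCore p G
    · haveI : J.Normal := PushingUpZJ.jt_normal hE hCS hall
      rw [hL, Subgroup.normalClosure_eq_self]
      exact inf_le_right
    push Not at hall
    obtain ⟨A, hA, hAP⟩ := hall
    obtain ⟨a, haA, haP⟩ := Set.not_subset.mp hAP
    set X := Subgroup.normalClosure (A : Set G) with hX
    have hXS : X ⊔ (S : Subgroup G) = ⊤ := by
      by_contra h
      exact haP (PushingUpCL.inf_le_pCore hE X h ⟨Subgroup.subset_normalClosure haA, hA.1 haA⟩)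
    haveI hn : (X ⊔ J).Normal := by
      refine Subgroup.normalizer_eq_top_iff.mp (eq_top_iff.mpr (hXS ▸ sup_le ?_ ?_))
      · exact le_sup_left.trans Subgroup.le_normalizer
      · intro s hs
        refine Subgroup.mem_normalizer_fintype fun x hx => ?_
        have hle : (X ⊔ J).map (MulAut.conj s).toMonoidHom ≤ X ⊔ J := by
          rw [Subgroup.map_sup]
          refine sup_le_sup ?_ ?_
          · rintro _ ⟨y, hy, rfl⟩; exact Subgroup.Normal.conj_mem inferInstance y hy s
          · rintro _ ⟨y, hy, rfl⟩; exact PushingUpZJ.conj_mem_jt (Subgroup.le_normalizer hs) hy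
        exact hle ⟨x, hx, rfl⟩
    have hLX : L ≤ X ⊔ J := Subgroup.normalClosure_le_normal fun x hx => Subgroup.mem_sup_right hx
    rintro x ⟨hxS, hxL⟩
    refine ⟨hxS, fun w hw => ?_⟩
    obtain ⟨v, c, hwe, hv, hc⟩ := PushingUpZJ.decomposition hE hCS hA hAP hw
    have hcJ : J ≤ Subgroup.centralizer ({c} : Set G) := fun j hj => by
      refine Subgroup.mem_centralizer_singleton_iff.mpr ?_
      have hjv : Commute j v := Subgroup.mem_centralizer_iff.1 hv j hj.1
      have hjw : Commute j w := (Subgroup.mem_centralizer_iff.1 hj.2 w hw).symm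
      rw [show c = v⁻¹ * w by rw [hwe, inv_mul_cancel_left]]
      exact (hjv.inv_right.mul_right hjw).eq
    have hxc : x * c = c * x := Subgroup.mem_centralizer_singleton_iff.mp
      ((sup_le (fun y hy => Subgroup.mem_centralizer_singleton_iff.mpr
        (Subgroup.mem_centralizer_iff.1 hc y hy)) hcJ : X ⊔ J ≤ _) (hLX hxL))
    have hxv : x * v = v * x := Subgroup.mem_centralizer_iff.1 hv x hxS
    rw [hwe]
    exact ((show Commute x v from hxv).mul_right (show Commute x c from hxc)).eq.symm
  have hp : IsPGroup p ↥(J.subgroupOf L) :=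
    (S.isPGroup'.to_le (inf_le_left : J ≤ S)).comap_of_injective L.subtype L.subtype_injective
  have hidx : ¬ p ∣ (J.subgroupOf L).index := by
    rw [← key]
    exact Cfsg.Agent.PLocal.Omega.not_dvd_relIndex_inf S L
  exact ⟨hp.toSylow hidx, IsPGroup.toSylow_coe hp hidx⟩

end Cfsg.Agent.S2768
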