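import Cfsg.Statements.S2772
import Cfsg.Agent.Lib.CharP.GoldschmidtS3
-- import your own Cfsg.Agent.* helpers here

set_option autoImplicit false
open Cfsg

namespace Cfsg.Agent.S2772

/-- Sims' Theorem in local form: let H be a finite non-abelian simple group and G a maximal subgroup of H with C_G(O₂(G)) ≤ O₂(G), such that N_H(S) is not contained in G for a Sylow 2-subgroup S of G and G/O₂(G) is dihedral of order 2q for a prime q. Then G is isomorphic to the symmetric group of degree 4 or to its direct product with a group of order 2. -/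
theorem result {H : Type*} [Group H] [Finite H] [IsSimpleGroup H] (hna : ¬ IsMulCommutative H) (G : Subgroup H) (hG : IsCoatom G) (hchar : Subgroup.centralizer (Cfsg.pCore 2 ↥G : Set ↥G) ≤ Cfsg.pCore 2 ↥G) (S : Sylow 2 ↥G) (hN : ¬ Subgroup.normalizer (((S : Subgroup ↥G).map G.subtype : Subgroup H) : Set H) ≤ G) (q : ℕ) (hq : q.Prime) (hD : Nonempty (↥G ⧸ Cfsg.pCore 2 ↥G ≃* DihedralGroup q)) : Nonempty (↥G ≃* Equiv.Perm (Fin 4)) ∨ Nonempty (↥G ≃* Equiv.Perm (Fin 4) × Multiplicative (ZMod 2)) := by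
  have : Fact (Nat.Prime 2) := ⟨Nat.prime_two⟩
  obtain ⟨x, hxN, hxG⟩ := SetLike.not_le_iff_exists.1 hN
  set T := (S : Subgroup ↥G).map G.subtype with hTdef
  have hT : Cfsg.Agent.CharP.IsSylIn 2 T G := ⟨S, rfl⟩
  have hidx : (Cfsg.pCoreOf 2 G).relIndex G = 2 * q := by
    rw [Subgroup.relIndex, Cfsg.pCoreOf, Subgroup.subgroupOf,
      Subgroup.comap_map_eq_self_of_injective G.subtype_injective, Subgroup.index_eq_card,
      Nat.card_congr hD.some.toEquiv, DihedralGroup.nat_card]
  have hq2 : q ≠ 2 := by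
    rintro rfl
    have hp : IsPGroup 2 ↥G := by
      obtain ⟨n, hn⟩ := IsPGroup.iff_card.1 (Cfsg.Agent.CharP.isPGroup_pCore 2 ↥G)
      refine IsPGroup.of_card (n := n + 2) ?_
      rw [← Subgroup.card_mul_index (Cfsg.pCore 2 ↥G), hn, Subgroup.index_eq_card,
        Nat.card_congr hD.some.toEquiv, DihedralGroup.nat_card, pow_add]
      rfl
    have htop : Cfsg.pCore 2 ↥G = ⊤ := top_le_iff.1 (Cfsg.Agent.CharP.le_pCore inferInstance
      (hp.to_subgroup ⊤))
    have h1 := Nat.card_congr hD.some.toEquiv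
    rw [← Subgroup.index_eq_card, htop, Subgroup.index_top, DihedralGroup.nat_card] at h1
    omega
  obtain ⟨hi, hk⟩ := Cfsg.Agent.CharP.S3Amalgam.index_data hq hq2 hT hidx
  set c := (MulAut.conj x).toMonoidHom with hc
  have hcinj : Function.Injective c := (MulAut.conj x).injective
  have hTc : T.map c = T := Cfsg.Agent.CharP.conj_map_of_mem hxN
  have hTne : T ≠ ⊥ := by
    intro h
    rw [h, Subgroup.relIndex_bot_right] at hk
    omega
  have hGbot : G ≠ ⊥ := fun h => hTne (le_bot_iff.1 (h ▸ hT.le))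
  have hGn : Subgroup.normalizer (G : Set H) = G := by
    rcases hG.le_iff.1 (Subgroup.le_normalizer (H := G)) with h | h
    · exfalso
      rcases (Subgroup.normalizer_eq_top_iff.1 h).eq_bot_or_eq_top with h1 | h1
      · exact hGbot h1
      · exact hG.1 h1
    · exact h
  have hne : G.map c ≠ G := fun h => hxG (hGn.le (Cfsg.Agent.CharP.mem_normalizer_of_conj_map h))
  have hcard : Nat.card ↥(G.map c) = Nat.card ↥G := Subgroup.card_map_of_injective hcinj
  have hnle : ¬ G.map c ≤ G := fun h => hne (Subgroup.eq_of_le_of_card_ge h hcard.ge)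
  have hgen : G ⊔ G.map c = ⊤ := hG.2 _ (left_lt_sup.2 hnle)
  have hinf : G ⊓ G.map c = T := by
    have hle : T ≤ G ⊓ G.map c := le_inf hT.le (hTc ▸ Subgroup.map_mono hT.le)
    have hmul := Subgroup.relIndex_mul_relIndex T (G ⊓ G.map c) G hle inf_le_left
    rw [hi] at hmul
    rcases (Nat.dvd_prime hq).1 (Dvd.intro _ hmul) with h | h
    · exact le_antisymm (Subgroup.relIndex_eq_one.1 h) hle
    · rw [h, Nat.mul_eq_left hq.ne_zero, Subgroup.relIndex_eq_one] at hmul
      exact absurd (Subgroup.eq_of_le_of_card_ge (hmul.trans inf_le_right) hcard.le).symm hne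
  have hch : G ⊓ Subgroup.centralizer (Cfsg.pCoreOf 2 G : Set H) ≤ Cfsg.pCoreOf 2 G :=
    (Cfsg.Agent.CharP.charP_iff 2 G).1 hchar
  have hω : Cfsg.Agent.CharP.omegaCentre 2 T ≠ ⊥ := by
    have hTp := hT.isPGroup
    have : Nontrivial ↥T := (Subgroup.nontrivial_iff_ne_bot T).2 hTne
    have := hTp.center_nontrivial
    obtain ⟨n, hn0, hn⟩ := (IsPGroup.nontrivial_iff_card (hTp.to_subgroup (Subgroup.center ↥T))).1 this
    obtain ⟨z, hz⟩ := exists_prime_orderOf_dvd_card' (G := ↥(Subgroup.center ↥T)) 2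
      (hn ▸ dvd_pow_self 2 hn0.ne')
    intro h
    have hz1 : ((z : ↥T) : H) ∈ Cfsg.Agent.CharP.omegaCentre 2 T := by
      refine Subgroup.subset_closure ⟨⟨(z : ↥T).2, fun y hy => congrArg Subtype.val
        (Subgroup.mem_center_iff.1 z.2 ⟨y, hy⟩)⟩, ?_⟩
      have := pow_orderOf_eq_one z
      rw [hz] at this
      exact congrArg (fun w : ↥(Subgroup.center ↥T) => ((w : ↥T) : H)) this
    rw [h, Subgroup.mem_bot] at hz1
    have h1 : z = 1 := Subtype.ext (Subtype.ext hz1)
    rw [h1, orderOf_one] at hz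
    omega
  have hz : ¬ G ≤ Subgroup.centralizer (Cfsg.Agent.CharP.omegaCentre 2 T : Set H) := by
    intro h
    have hxn : x ∈ Subgroup.normalizer (Cfsg.Agent.CharP.omegaCentre 2 T : Set H) :=
      Cfsg.Agent.CharP.mem_normalizer_of_conj_map
        (by rw [Cfsg.Agent.CharP.omegaCentre_map hcinj, hTc])
    have hlt : G < Subgroup.normalizer (Cfsg.Agent.CharP.omegaCentre 2 T : Set H) :=
      lt_of_le_of_ne (h.trans (Subgroup.centralizer_le_normalizer _)) (fun he => hxG (he.symm ▸ hxn))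
    rcases (Subgroup.normalizer_eq_top_iff.1 (hG.2 _ hlt)).eq_bot_or_eq_top with h1 | h1
    · exact hω h1
    · exact hG.1 (top_le_iff.1 (h1 ▸ (Cfsg.Agent.CharP.omegaCentre_le 2 T).trans hT.le))
  have hS := Cfsg.Agent.CharP.S3Amalgam.setting_of (M₁ := G) (M₂ := G.map c) hq hq2 hgen
    (fun N h1 h2 => (h2.eq_bot_or_eq_top).resolve_right fun h => hG.1 (top_le_iff.1 (h ▸ h1.trans inf_le_left)))
    (hinf ▸ hT) (hinf ▸ hTc ▸ hT.map hcinj) hidx
    (by rw [Cfsg.Agent.CharP.pCoreOf_map hcinj, Subgroup.relIndex_map_map_of_injective _ _ hcinj]; exact hidx)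
    hch (Cfsg.Agent.CharP.charP_map hcinj hch) (hinf ▸ hz)
    (by
      rw [hinf]
      intro h
      apply hz
      rw [← hTc, ← Cfsg.Agent.CharP.omegaCentre_map hcinj] at h
      exact Cfsg.Agent.CharP.S3Amalgam.le_centralizer_map_conj h)
  rcases Cfsg.Agent.CharP.S3Amalgam.main hS with ⟨he, -⟩ | ⟨he, -⟩
  · exact Or.inl he
  · exact Or.inr he

end Cfsg.Agent.S2772
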