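import Cfsg.Statements.S2774
import Cfsg.Agent.Base.RecEqns
import Cfsg.Agent.GenA.TF.Quad
import Cfsg.Agent.Techniques.Functor.TransferResults

set_option autoImplicit false
open Cfsg

namespace Cfsg.Agent.S2774

universe u

open Subgroup Cfsg.Agent.Techniques.Functor Cfsg.Agent.PLocal.Cores

variable {p : ℕ} [Fact p.Prime]

/-- The functor with a prescribed characteristic value at `S`. -/
noncomputable def prescribed {A : Type u} [Group A] (K : Subgroup A) :
    ∀ (Q : Type u) [Group Q], Subgroup Q := fun Q _ => by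
  classical
  exact if h : Nonempty (A ≃* Q) then K.map (Classical.choice h).toMonoidHom else ⊤

theorem prescribed_self {A : Type u} [Group A] {K : Subgroup A} (hK : K.Characteristic) :
    prescribed K A = K := by
  rw [prescribed, dif_pos ⟨MulEquiv.refl A⟩]
  exact characteristic_iff_map_eq.1 hK _

theorem prescribed_functor {A : Type u} [Group A] {K : Subgroup A} (hK : K.Characteristic)
    (hne : K ≠ ⊥) : IsCharPFunctor.{u} p (prescribed K) := by
  refine ⟨fun Q _ _ _ _ => ?_, fun Q R _ _ _ _ φ => ?_⟩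
  · by_cases h : Nonempty (A ≃* Q)
    · rw [prescribed, dif_pos h, Ne, map_eq_bot_iff_of_injective _ (Classical.choice h).injective]
      exact hne
    · rw [prescribed, dif_neg h]
      exact top_ne_bot
  · by_cases h : Nonempty (A ≃* Q)
    · have h' : Nonempty (A ≃* R) := ⟨(Classical.choice h).trans φ⟩
      rw [prescribed, dif_pos h, prescribed, dif_pos h', map_map]
      set e := Classical.choice h
      set e' := Classical.choice h'
      conv_rhs => rw [← characteristic_iff_map_eq.1 hK ((e.trans φ).trans e'.symm)]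
      rw [map_map]
      congr 1
      ext x
      simp
    · have h' : ¬ Nonempty (A ≃* R) := fun ⟨e⟩ => h ⟨e.trans φ.symm⟩
      rw [prescribed, dif_neg h, prescribed, dif_neg h', map_top_of_surjective _ φ.surjective]

theorem functor_char {W : ∀ (Q : Type u) [Group Q], Subgroup Q} (hW : IsCharPFunctor.{u} p W)
    {G : Type u} [Group G] [Finite G] {S : Subgroup G} (hS : IsPGroup p S) : (W ↥S).Characteristic :=
  characteristic_iff_map_eq.2 fun φ => hW.2 _ _ hS φ

theorem tc_all {G : Type u} [Group G] [Finite G] (hp : p ≠ 2) :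
    TC p {W | IsCharPFunctor.{u} p W} G := by
  have h𝓦 : ∀ W ∈ {W : ∀ (Q : Type u) [Group Q], Subgroup Q | IsCharPFunctor.{u} p W},
      IsCharPFunctor.{u} p W := fun W hW => hW
  refine tc_of_quotients (G := G) h𝓦 (fun K' R' _ hsub hquot hc S => ?_) G
    (IsSec.refl G)
  by_contra hfail
  have hm : Minimal p {W : ∀ (Q : Type u) [Group Q], Subgroup Q | IsCharPFunctor.{u} p W} S :=
    ⟨h𝓦, ⟨_, prescribed_functor (A := ULift.{u} (Multiplicative (ZMod 2))) (K := ⊤)
      inferInstance top_ne_bot⟩, hsub, hquot, fun h => hfail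
      ((inf_le_inf_right _ (pCore_le_sylow S)).trans h)⟩
  have hchar : ∀ K : Subgroup ↥(S : Subgroup (↥K' ⧸ R'.subgroupOf K')), K ≠ ⊥ → K.Characteristic →
      ¬ (K.map (S : Subgroup (↥K' ⧸ R'.subgroupOf K')).subtype).Normal := fun K hK hKc hn => by
    have hW := prescribed_functor (p := p) hKc hK
    refine hm.core_not_le (pCore_inf_commutator_le_of_normal
      (𝓦 := {W : ∀ (Q : Type u) [Group Q], Subgroup Q | IsCharPFunctor.{u} p W}) hW S ?_)
    show ((prescribed K ↥(S : Subgroup (↥K' ⧸ R'.subgroupOf K'))).map (S : Subgroup (↥K' ⧸ R'.subgroupOf K')).subtype).Normal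
    rw [prescribed_self hKc]
    exact hn
  obtain ⟨u, huS, huQ, hu⟩ := Cfsg.Agent.GenA.TF.exists_quadratic hp hc S _ hm.M_ne_top
    (fun X hX hX' => hm.proper_le hX hX') hchar
  obtain ⟨U, V, hch, hU, hbad⟩ := hm.exists_bad_factor huS huQ
  refine hbad ?_
  have hkey : ∀ j : ℕ, Cfsg.iterCommutator U (zpowers u) (j + 2) ≤ V := by
    intro j
    induction j with
    | zero => exact hu U V hch hU
    | succ j ih =>
      have := hch.2.2.1
      exact (commutator_mono ih le_rfl).trans (commutator_le_left V _)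
  obtain ⟨j, hj⟩ : ∃ j, p - 1 = j + 2 := ⟨p - 3, by
    have := (Fact.out : p.Prime).two_le
    omega⟩
  rw [hj]
  exact hkey j

theorem focal_eq {G : Type u} [Group G] [Finite G] (hp : p ≠ 2) (S : Sylow p G)
    (hS : (S : Subgroup G) ≠ ⊥) :
    (S : Subgroup G) ⊓ commutator G =
      ⨆ K : {K : Subgroup ↥(S : Subgroup G) // K ≠ ⊥ ∧ K.Characteristic}, (S : Subgroup G) ⊓
        ⁅normalizer ((((K : Subgroup ↥(S : Subgroup G))).map (S : Subgroup G).subtype : Subgroup G) : Set G),
          normalizer ((((K : Subgroup ↥(S : Subgroup G))).map (S : Subgroup G).subtype : Subgroup G) : Set G)⁆ := by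
  refine le_antisymm ((tc_all hp S).trans (iSup₂_le ?_))
    (iSup_le fun K => inf_le_inf_left _ (commutator_mono le_top le_top))
  rintro _ ⟨W, hW, rfl⟩
  have : Nontrivial ↥(S : Subgroup G) := (Subgroup.nontrivial_iff_ne_bot _).mpr hS
  exact le_iSup_of_le ⟨W ↥(S : Subgroup G), hW.1 _ S.2 this, functor_char hW S.2⟩ le_rfl

/-- Let p be an odd prime and S a nontrivial Sylow p-subgroup of a finite group G. Then S ∩ G' is generated by the subgroups S ∩ (N_G(K))' as K ranges over the nontrivial characteristic subgroups of S (derived subgroups of the normalizers). -/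
theorem result {G : Type*} [Group G] [Finite G] {p : ℕ} [Fact p.Prime] (hp : p ≠ 2) (S : Sylow p G) (hS : (S : Subgroup G) ≠ ⊥) : (S : Subgroup G) ⊓ commutator G = ⨆ K : {K : Subgroup ↥(S : Subgroup G) // K ≠ ⊥ ∧ K.Characteristic}, (S : Subgroup G) ⊓ ⁅Subgroup.normalizer ((((K : Subgroup ↥(S : Subgroup G))).map (S : Subgroup G).subtype : Subgroup G) : Set G), Subgroup.normalizer ((((K : Subgroup ↥(S : Subgroup G))).map (S : Subgroup G).subtype : Subgroup G) : Set G)⁆ :=
  focal_eq hp S hS

end Cfsg.Agent.S2774
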