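import Cfsg.Statements.S2779
import Cfsg.Agent.Lib.Components.NaturalSL2

set_option linter.all false

set_option autoImplicit false
open Cfsg

namespace Cfsg.Agent.S2779

open Components.NaturalSL2 Matrix
open scoped commutatorElement

/-- Let L act on the elementary abelian p-group V (inside a finite group, by conjugation, faithfully) as SL₂(F) on its natural module, F a field with p^n elements, and let S be a Sylow p-subgroup of L. Then [V, S, S] = 1; |V| = p^(2n) and |C_V(S)| = p^n; and for every nonidentity s ∈ S and every v ∈ V outside C_V(S): C_V(s) = C_V(S) = [V, S] = [V, s] = the subgroup generated by the commutators [v, t], t ∈ S. -/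
theorem result {G : Type*} [Group G] [Finite G] {p : ℕ} [Fact p.Prime] {F : Type*} [Field F] [Fintype F] (n : ℕ) (hF : Fintype.card F = p ^ n) (V L : Subgroup G) (hnat : Cfsg.IsNaturalSL2Module F V L) (hf : L ⊓ Subgroup.centralizer (V : Set G) = ⊥) (S : Sylow p ↥L) (T : Subgroup G) (hT : T = ((S : Subgroup ↥L).map L.subtype)) : ⁅⁅V, T⁆, T⁆ = ⊥ ∧ Nat.card V = p ^ (2 * n) ∧ Nat.card ↥(V ⊓ Subgroup.centralizer ((T : Subgroup G) : Set G)) = p ^ n ∧ ∀ s ∈ T, s ≠ 1 → (V ⊓ Subgroup.centralizer ({s} : Set G)) = (V ⊓ Subgroup.centralizer ((T : Subgroup G) : Set G)) ∧ ⁅V, T⁆ = (V ⊓ Subgroup.centralizer ((T : Subgroup G) : Set G)) ∧ ⁅V, Subgroup.zpowers s⁆ = (V ⊓ Subgroup.centralizer ((T : Subgroup G) : Set G)) ∧ ∀ v ∈ V, v ∉ Subgroup.centralizer (T : Set G) → Subgroup.closure {x : G | ∃ t ∈ T, x = v * t * v⁻¹ * t⁻¹} = (V ⊓ Subgroup.centralizer ((T : Subgroup G) : Set G)) := by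
  classical
  obtain ⟨d⟩ := exists_data hF hnat hf S
  rw [← hT] at d
  set W := V ⊓ Subgroup.centralizer ((T : Subgroup G) : Set G) with hW
  have hmemW : ∀ v : V, (v : G) ∈ W ↔ d.ψ v 1 = 0 := fun v => by
    rw [hW, Subgroup.mem_inf, d.mem_cent_T]; exact and_iff_right v.2
  -- commutators with a vector off the fixed line fill the line
  have hfill : ∀ v : V, d.ψ v 1 ≠ 0 → ∀ w ∈ W, ∃ t ∈ T, w = v * t * (v : G)⁻¹ * t⁻¹ := by
    intro v hv w hw
    obtain ⟨l, hlT, hl⟩ := d.exists_mem_T (-(d.ψ ⟨w, hw.1⟩ 0) / d.ψ v 1)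
    obtain ⟨hc, hψ⟩ := d.commutator_coord hl v
    refine ⟨l, hlT, congrArg Subtype.val (d.ψbij.1 (a₁ := ⟨w, hw.1⟩) (a₂ := ⟨_, hc⟩) ?_)⟩
    rw [hψ]
    ext i; fin_cases i
    · simp [hv]
    · simpa using (hmemW ⟨w, hw.1⟩).mp hw
  have hcomm : ∀ v ∈ V, ∀ t ∈ T, ⁅v, t⁆ ∈ W := by
    intro v hv t ht
    obtain ⟨htL, a, ha⟩ := (d.memT t).mp ht
    obtain ⟨hc, hψ⟩ := d.commutator_coord ha.symm ⟨v, hv⟩
    exact (hmemW ⟨_, hc⟩).mpr (by rw [hψ]; simp)
  have hVT : ⁅V, T⁆ ≤ W := Subgroup.commutator_le.mpr hcomm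
  have hcardV : Nat.card V = p ^ (2 * n) := by
    rw [Nat.card_eq_of_bijective d.ψ d.ψbij, Nat.card_eq_fintype_card, Fintype.card_fun, hF, Fintype.card_fin,
      ← pow_mul, mul_comm]
  have hcardW : Nat.card W = p ^ n := by
    rw [← hF, ← Nat.card_eq_fintype_card]
    refine Nat.card_eq_of_bijective (fun w : W => d.ψ ⟨w, w.2.1⟩ 0) ⟨fun u v h => ?_, fun a => ?_⟩
    · refine Subtype.ext (congrArg (fun z : V => (z : G)) (d.ψbij.1 (a₁ := ⟨u, u.2.1⟩) (a₂ := ⟨v, v.2.1⟩) ?_))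
      ext i; fin_cases i
      · exact h
      · exact ((hmemW ⟨u, u.2.1⟩).mp u.2).trans ((hmemW ⟨v, v.2.1⟩).mp v.2).symm
    · obtain ⟨v, hv⟩ := d.ψbij.2 ![a, 0]
      refine ⟨⟨v, (hmemW v).mpr (by rw [hv]; simp)⟩, ?_⟩
      show d.ψ v 0 = a
      rw [hv]; simp
  refine ⟨?_, hcardV, hcardW, fun s hs hs1 => ?_⟩
  · rw [Subgroup.commutator_eq_bot_iff_le_centralizer]
    exact hVT.trans inf_le_right
  obtain ⟨hsL, a, ha⟩ := (d.memT s).mp hs
  have ha0 : a ≠ 0 := by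
    rintro rfl
    rw [uni_zero] at ha
    exact hs1 (congrArg Subtype.val (d.ρbij.1 (ha.symm.trans d.ρ.map_one.symm) : (⟨s, hsL⟩ : L) = 1))
  have hWs : W ≤ ⁅V, Subgroup.zpowers s⁆ := by
    intro w hw
    obtain ⟨v, hv⟩ := d.ψbij.2 ![0, -(d.ψ ⟨w, hw.1⟩ 0) / a]
    obtain ⟨hc, hψ⟩ := d.commutator_coord ha.symm v
    have hwv : (⟨w, hw.1⟩ : V) = ⟨_, hc⟩ := d.ψbij.1 (by
      rw [hψ, hv]
      ext i; fin_cases i
      · simp [mul_div_cancel₀ _ ha0]
      · simpa using (hmemW ⟨w, hw.1⟩).mp hw)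
    rw [show w = _ from congrArg Subtype.val hwv]
    exact Subgroup.commutator_mem_commutator v.2 (Subgroup.mem_zpowers s)
  refine ⟨?_, ?_, ?_, fun v hv hvT => ?_⟩
  · refine le_antisymm (fun v hv => ?_) (inf_le_inf_left V ?_)
    · exact (hmemW ⟨v, hv.1⟩).mpr ((d.mem_cent_singleton ha.symm ha0 ⟨v, hv.1⟩).mp hv.2)
    · exact Subgroup.centralizer_le (Set.singleton_subset_iff.mpr hs)
  · exact le_antisymm hVT (hWs.trans (Subgroup.commutator_mono le_rfl (Subgroup.zpowers_le.mpr hs)))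
  · exact le_antisymm ((Subgroup.commutator_mono le_rfl (Subgroup.zpowers_le.mpr hs)).trans hVT) hWs
  · refine le_antisymm ((Subgroup.closure_le W).mpr ?_) (fun w hw => ?_)
    · rintro x ⟨t, ht, rfl⟩; exact hcomm v hv t ht
    · exact Subgroup.subset_closure (hfill ⟨v, hv⟩ (fun h => hvT ((d.mem_cent_T _).mpr h)) w hw)

end Cfsg.Agent.S2779
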