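import Cfsg.Statements.S2780
import Cfsg.Agent.Lib.Components.NaturalSL2

set_option linter.all false

set_option autoImplicit false
open Cfsg

namespace Cfsg.Agent.S2780

open Components.NaturalSL2 Matrix

/-- Let L act on the elementary abelian p-group V (inside a finite group, faithfully) as SL₂(F) on its natural module, F a field with p^n elements, S a Sylow p-subgroup of L. Then: for every g ∈ L not normalizing S, V is the internal direct product of C_V(S) and C_V(gSg⁻¹); every nonidentity element of L of order prime to p acts on V without nonidentity fixed points; and C_V(S) and V/C_V(S) are irreducible for N_L(S): the only N_L(S)-invariant subgroups of C_V(S) are 1 and C_V(S), and the only N_L(S)-invariant subgroups between C_V(S) and V are those two. -/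
theorem result {G : Type*} [Group G] [Finite G] {p : ℕ} [Fact p.Prime] {F : Type*} [Field F] [Fintype F] (n : ℕ) (hF : Fintype.card F = p ^ n) (V L : Subgroup G) (hnat : Cfsg.IsNaturalSL2Module F V L) (hf : L ⊓ Subgroup.centralizer (V : Set G) = ⊥) (S : Sylow p ↥L) (T : Subgroup G) (hT : T = ((S : Subgroup ↥L).map L.subtype)) : (∀ g ∈ L, g ∉ Subgroup.normalizer (T : Set G) → Cfsg.IsInternalDirectProduct (V ⊓ Subgroup.centralizer ((T : Subgroup G) : Set G)) (V ⊓ Subgroup.centralizer ((T.map (MulAut.conj g).toMonoidHom : Subgroup G) : Set G)) V) ∧ (∀ x ∈ L, x ≠ 1 → (orderOf x).Coprime p → (V ⊓ Subgroup.centralizer ({x} : Set G)) = ⊥) ∧ (∀ U : Subgroup G, U ≤ (V ⊓ Subgroup.centralizer ((T : Subgroup G) : Set G)) → L ⊓ Subgroup.normalizer (T : Set G) ≤ Subgroup.normalizer (U : Set G) → U = ⊥ ∨ U = (V ⊓ Subgroup.centralizer ((T : Subgroup G) : Set G))) ∧ (∀ U : Subgroup G, (V ⊓ Subgroup.centralizer ((T : Subgroup G) : Set G)) ≤ U → U ≤ V → L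 ⊓ Subgroup.normalizer (T : Set G) ≤ Subgroup.normalizer (U : Set G) → U = (V ⊓ Subgroup.centralizer ((T : Subgroup G) : Set G)) ∨ U = V) := by
  classical
  obtain ⟨d⟩ := exists_data hF hnat hf S
  rw [← hT] at d
  set W := V ⊓ Subgroup.centralizer ((T : Subgroup G) : Set G) with hW
  have hmemW : ∀ v : V, (v : G) ∈ W ↔ d.ψ v 1 = 0 := fun v => by
    rw [hW, Subgroup.mem_inf, d.mem_cent_T]; exact and_iff_right v.2
  -- diagonal elements normalize `T`
  have hdia : ∀ (a : F) (ha : a ≠ 0), ∃ l : L, d.ρ l = dia a ha ∧ (l : G) ∈ L ⊓ Subgroup.normalizer (T : Set G) := by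
    intro a ha
    obtain ⟨l, hl⟩ := d.ρbij.2 (dia a ha)
    refine ⟨l, hl, l.2, Subgroup.mem_normalizer_iff.mpr fun x => ?_⟩
    have key : ∀ b, dia a ha * uni b = uni (a * a * b) * dia a ha := fun b => Subtype.ext (by
      show (dia a ha).1 * (uni b).1 = (uni (a * a * b)).1 * (dia a ha).1
      ext i j; fin_cases i <;> fin_cases j <;> simp [uni, dia, Matrix.mul_apply, Fin.sum_univ_two]
      field_simp)
    rw [d.memT, d.memT]
    constructor
    · rintro ⟨hx, b, hb⟩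
      refine ⟨mul_mem (mul_mem l.2 hx) (inv_mem l.2), a * a * b, ?_⟩
      rw [show (⟨(l : G) * x * (l : G)⁻¹, _⟩ : L) = l * ⟨x, hx⟩ * l⁻¹ from rfl, map_mul, map_mul, map_inv, hl, ← hb,
        key, mul_inv_cancel_right]
    · rintro ⟨hx, b, hb⟩
      have hx' : x ∈ L := by simpa [mul_assoc] using mul_mem (mul_mem (inv_mem l.2) hx) l.2
      refine ⟨hx', b / (a * a), ?_⟩
      rw [show (⟨(l : G) * x * (l : G)⁻¹, hx⟩ : L) = l * ⟨x, hx'⟩ * l⁻¹ from rfl, map_mul, map_mul, map_inv, hl,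
        eq_mul_inv_iff_mul_eq] at hb
      have h := key (b / (a * a))
      rw [show a * a * (b / (a * a)) = b by field_simp, hb] at h
      exact mul_left_cancel h
  refine ⟨?_, ?_, ?_, ?_⟩
  · intro g hg hgT
    set W' := V ⊓ Subgroup.centralizer ((T.map (MulAut.conj g).toMonoidHom : Subgroup G) : Set G) with hW'
    set A := d.ρ ⟨g, hg⟩ with hA
    have h10 : A.1 1 0 ≠ 0 := by
      intro h0
      apply hgT
      have hdet := A.2
      rw [Matrix.det_fin_two, h0, mul_zero, sub_zero] at hdet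
      have key : ∀ b, A * uni b = uni (A.1 0 0 * A.1 0 0 * b) * A := fun b => Subtype.ext (by
        show A.1 * (uni b).1 = (uni (A.1 0 0 * A.1 0 0 * b)).1 * A.1
        ext i j; fin_cases i <;> fin_cases j <;> simp [uni, Matrix.mul_apply, Fin.sum_univ_two, h0]
        linear_combination (-(A.1 0 0) * b) * hdet)
      rw [Subgroup.mem_normalizer_iff]
      intro x
      rw [d.memT, d.memT]
      constructor
      · rintro ⟨hx, b, hb⟩
        refine ⟨mul_mem (mul_mem hg hx) (inv_mem hg), A.1 0 0 * A.1 0 0 * b, ?_⟩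
        rw [show (⟨g * x * g⁻¹, _⟩ : L) = ⟨g, hg⟩ * ⟨x, hx⟩ * ⟨g, hg⟩⁻¹ from rfl, map_mul, map_mul, map_inv, ← hA, ← hb,
          key, mul_inv_cancel_right]
      · rintro ⟨hx, b, hb⟩
        have hx' : x ∈ L := by simpa [mul_assoc] using mul_mem (mul_mem (inv_mem hg) hx) hg
        refine ⟨hx', b / (A.1 0 0 * A.1 0 0), ?_⟩
        rw [show (⟨g * x * g⁻¹, hx⟩ : L) = ⟨g, hg⟩ * ⟨x, hx'⟩ * ⟨g, hg⟩⁻¹ from rfl, map_mul, map_mul, map_inv, ← hA,
          eq_mul_inv_iff_mul_eq] at hb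
        have h00 : A.1 0 0 ≠ 0 := fun e => by simp [e] at hdet
        have h := key (b / (A.1 0 0 * A.1 0 0))
        rw [show A.1 0 0 * A.1 0 0 * (b / (A.1 0 0 * A.1 0 0)) = b by field_simp, hb] at h
        exact mul_left_cancel h
    -- the translated line
    have hmemW' : ∀ v : V, (v : G) ∈ W' ↔ ∃ c : F, d.ψ v = A.1 *ᵥ ![c, 0] := by
      intro v
      rw [hW', Subgroup.mem_inf]
      refine (and_iff_right v.2).trans ?_
      have hiff : (v : G) ∈ Subgroup.centralizer ((T.map (MulAut.conj g).toMonoidHom : Subgroup G) : Set G) ↔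
          ((((⟨g, hg⟩ : L)⁻¹ : L) : G) * v * (((⟨g, hg⟩ : L)⁻¹ : L) : G)⁻¹) ∈ Subgroup.centralizer (T : Set G) := by
        simp only [Subgroup.mem_centralizer_iff, SetLike.mem_coe, Subgroup.mem_map]
        constructor
        · intro h t ht
          have h' := h _ ⟨t, ht, rfl⟩
          simp only [MulEquiv.toMonoidHom_eq_coe, MonoidHom.coe_coe, MulAut.conj_apply] at h'
          simp only [InvMemClass.coe_inv, inv_inv]
          calc t * (g⁻¹ * v * g) = g⁻¹ * (g * t * g⁻¹ * v) * g := by group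
            _ = g⁻¹ * (v * (g * t * g⁻¹)) * g := by rw [h']
            _ = g⁻¹ * v * g * t := by group
        · rintro h _ ⟨t, ht, rfl⟩
          have h' := h t ht
          simp only [InvMemClass.coe_inv, inv_inv] at h'
          simp only [MulEquiv.toMonoidHom_eq_coe, MonoidHom.coe_coe, MulAut.conj_apply]
          calc g * t * g⁻¹ * v = g * (t * (g⁻¹ * v * g)) * g⁻¹ := by group
            _ = g * (g⁻¹ * v * g * t) * g⁻¹ := by rw [h']
            _ = v * (g * t * g⁻¹) := by group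
      rw [hiff, d.mem_cent_T ⟨_, d.conj_mem _ v⟩, d.act', map_inv, ← hA]
      constructor
      · intro h
        refine ⟨((A⁻¹).1 *ᵥ d.ψ v) 0, ?_⟩
        have hv : ![((A⁻¹).1 *ᵥ d.ψ v) 0, 0] = (A⁻¹).1 *ᵥ d.ψ v := by
          revert h
          generalize (A⁻¹).1 *ᵥ d.ψ v = y
          intro h
          ext i; fin_cases i <;> simp [h]
        rw [hv, mulVec_mulVec]
        show _ = (A * A⁻¹).1 *ᵥ _
        rw [mul_inv_cancel]
        exact (one_mulVec _).symm
      · rintro ⟨c, hc⟩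
        rw [hc, mulVec_mulVec]
        show ((A⁻¹ * A).1 *ᵥ _) 1 = 0
        rw [inv_mul_cancel]
        simp
    refine ⟨inf_le_left, inf_le_left, fun a ha b hb => d.comm ha.1 hb.1, ?_, ?_⟩
    · rw [Subgroup.eq_bot_iff_forall]
      rintro x ⟨hx, hx'⟩
      obtain ⟨c, hc⟩ := (hmemW' ⟨x, hx.1⟩).mp hx'
      have h1 := (hmemW ⟨x, hx.1⟩).mp hx
      rw [hc] at h1
      have hc0 : c = 0 := by simpa [Matrix.mulVec, dotProduct, Fin.sum_univ_two, h10] using h1
      subst hc0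
      rw [show ![(0 : F), 0] = 0 by simp, mulVec_zero, ← d.map_one'] at hc
      exact congrArg Subtype.val (d.ψbij.1 hc)
    · refine le_antisymm (sup_le inf_le_left inf_le_left) fun x hx => ?_
      set c := d.ψ ⟨x, hx⟩ 1 / A.1 1 0 with hc
      obtain ⟨v, hv⟩ := d.ψbij.2 (A.1 *ᵥ ![c, 0])
      have hu : ((⟨x, hx⟩ * v⁻¹ : V) : G) ∈ W := (hmemW _).mpr (by
        rw [d.map_mul, d.map_inv', hv]
        simp [Matrix.mulVec, dotProduct, Fin.sum_univ_two, hc, mul_div_cancel₀ _ h10])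
      have := Subgroup.mul_mem _ (Subgroup.mem_sup_left (T := W') hu)
        (Subgroup.mem_sup_right ((hmemW' v).mpr ⟨c, hv⟩))
      simpa using this
  · intro x hx hx1 hcop
    rw [Subgroup.eq_bot_iff_forall]
    intro v hv
    by_contra hv1
    apply hx1
    have hfix := (d.commute_iff ⟨x, hx⟩ ⟨v, hv.1⟩).mp (Subgroup.mem_centralizer_singleton_iff.mp hv.2).symm
    have hw0 : d.ψ ⟨v, hv.1⟩ ≠ 0 := fun h => hv1 (congrArg Subtype.val (d.ψbij.1 (h.trans d.map_one'.symm)))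
    obtain ⟨g, hg⟩ := exists_column hw0
    set A := d.ρ ⟨x, hx⟩ with hA
    have hu : g⁻¹ * A * g ∈ unip F := ⟨_, eq_uni_of_fix (by
      show ((g⁻¹).1 * A.1 * g.1) *ᵥ ![1, 0] = ![1, 0]
      rw [← mulVec_mulVec, ← mulVec_mulVec, hg, hfix, ← hg, mulVec_mulVec]
      show (g⁻¹ * g).1 *ᵥ _ = _
      rw [inv_mul_cancel]
      exact one_mulVec _)⟩
    obtain ⟨k, hk⟩ := IsPGroup.iff_orderOf.mp (unip_isPGroup hF) ⟨_, hu⟩
    rw [Subgroup.orderOf_mk] at hk
    have e : orderOf (g⁻¹ * A * g) = orderOf x := by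
      rw [show g⁻¹ * A * g = MulAut.conj g⁻¹ A by simp, MulEquiv.orderOf_eq,
        hA, orderOf_injective d.ρ d.ρbij.1, Subgroup.orderOf_mk]
    rw [e] at hk
    rcases Nat.eq_zero_or_pos k with rfl | hk0
    · simpa using hk
    · rw [hk] at hcop
      exact absurd ((Nat.coprime_pow_left_iff hk0 p p).mp hcop) (by
        rw [Nat.coprime_self]; exact (Fact.out : p.Prime).one_lt.ne')
  · intro U hU hN
    refine or_iff_not_imp_left.mpr fun hU0 => le_antisymm hU fun w hw => ?_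
    obtain ⟨u, hu, hu1⟩ := U.bot_or_exists_ne_one.resolve_left hU0
    have huW := hU hu
    have hu0 : d.ψ ⟨u, huW.1⟩ 0 ≠ 0 := fun h => hu1 (congrArg Subtype.val (d.ψbij.1 (a₁ := ⟨u, huW.1⟩) (a₂ := 1) (by
      rw [d.map_one']; ext i; fin_cases i
      · simpa using h
      · simpa using (hmemW ⟨u, huW.1⟩).mp huW)))
    by_cases hw0 : d.ψ ⟨w, hw.1⟩ 0 = 0
    · rw [show w = 1 from congrArg Subtype.val (d.ψbij.1 (a₁ := ⟨w, hw.1⟩) (a₂ := 1) (by
        rw [d.map_one']; ext i; fin_cases i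
        · simpa using hw0
        · simpa using (hmemW ⟨w, hw.1⟩).mp hw))]
      exact one_mem U
    obtain ⟨l, hl, hlN⟩ := hdia (d.ψ ⟨w, hw.1⟩ 0 / d.ψ ⟨u, huW.1⟩ 0) (div_ne_zero hw0 hu0)
    have hmem := (Subgroup.mem_normalizer_iff.mp (hN hlN) u).mp hu
    have he : (⟨_, d.conj_mem l ⟨u, huW.1⟩⟩ : V) = ⟨w, hw.1⟩ := d.ψbij.1 (by
      rw [d.act', hl, dia_mulVec]
      ext i; fin_cases i
      · simp [hu0]
      · simp [(hmemW ⟨u, huW.1⟩).mp huW, (hmemW ⟨w, hw.1⟩).mp hw])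
    have he' : (l : G) * u * (l : G)⁻¹ = w := congrArg Subtype.val he
    rwa [he'] at hmem
  · intro U hWU hUV hN
    refine or_iff_not_imp_left.mpr fun hne => le_antisymm hUV fun x hx => ?_
    obtain ⟨u, hu, huW⟩ : ∃ u ∈ U, u ∉ W := by
      by_contra! h
      exact hne (le_antisymm h hWU)
    have hu1 : d.ψ ⟨u, hUV hu⟩ 1 ≠ 0 := fun h => huW ((hmemW ⟨u, hUV hu⟩).mpr h)
    by_cases hx0 : d.ψ ⟨x, hx⟩ 1 = 0
    · exact hWU ((hmemW ⟨x, hx⟩).mpr hx0)
    obtain ⟨l, hl, hlN⟩ := hdia (d.ψ ⟨u, hUV hu⟩ 1 / d.ψ ⟨x, hx⟩ 1) (div_ne_zero hu1 hx0)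
    have hmem := (Subgroup.mem_normalizer_iff.mp (hN hlN) u).mp hu
    have hw : ((⟨x, hx⟩ * (⟨_, d.conj_mem l ⟨u, hUV hu⟩⟩ : V)⁻¹ : V) : G) ∈ W := (hmemW _).mpr (by
      rw [d.map_mul, d.map_inv', d.act', hl, dia_mulVec]
      simp [hu1])
    have := mul_mem (hWU hw) hmem
    simpa [mul_assoc] using this

end Cfsg.Agent.S2780
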