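import Cfsg.Statements.S2781
-- import your own Cfsg.Agent.* helpers here

set_option autoImplicit false
open Cfsg
open scoped commutatorElement

namespace Cfsg.Agent.S2781

/-- Let H act faithfully by conjugation on the elementary abelian p-subgroup V of a finite group, let O^p(H) be the subgroup of H generated by its elements of order prime to p, and T a Sylow p-subgroup of O^p(H). If V is generated by the H-conjugates of C_V(T) (V is the smallest H-invariant subgroup containing C_V(T)), then V = [V, O^p(H)]·C_V(O^p(H)). -/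
theorem result {G : Type*} [Group G] [Finite G] {p : ℕ} [Fact p.Prime] (V H : Subgroup G) (hV : Cfsg.IsElementaryAbelian p V) (hHV : H ≤ Subgroup.normalizer (V : Set G)) (hf : H ⊓ Subgroup.centralizer (V : Set G) = ⊥) (R : Subgroup G) (hR : R = (Cfsg.pResidual p ↥H).map H.subtype) (S : Sylow p ↥R) (T : Subgroup G) (hT : T = ((S : Subgroup ↥R).map R.subtype)) (hgen : ∀ W : Subgroup G, H ≤ Subgroup.normalizer (W : Set G) → (V ⊓ Subgroup.centralizer ((T : Subgroup G) : Set G)) ≤ W → V ≤ W) : ⁅V, R⁆ ⊔ (V ⊓ Subgroup.centralizer ((R : Subgroup G) : Set G)) = V := by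
  classical
  have hRH : R ≤ H := hR ▸ Subgroup.map_subtype_le _
  have hHR : H ≤ Subgroup.normalizer (R : Set G) := by
    haveI : (Cfsg.pResidual p ↥H).Normal := by
      refine ⟨fun x hx g => ?_⟩
      have h : Cfsg.pResidual p ↥H ≤ (Cfsg.pResidual p ↥H).comap (MulAut.conj g).toMonoidHom := by
        rw [Cfsg.pResidual, Subgroup.closure_le]
        intro y hy
        refine Subgroup.subset_closure ?_
        show Nat.Coprime (orderOf ((MulAut.conj g).toMonoidHom y)) p
        rw [orderOf_injective (MulAut.conj g).toMonoidHom (MulAut.conj g).injective]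
        exact hy
      exact h hx
    rw [hR, Subgroup.le_normalizer_iff]
    rintro g hg _ ⟨y, hy, rfl⟩
    exact ⟨_, Subgroup.Normal.conj_mem inferInstance y hy ⟨g, hg⟩, rfl⟩
  have hRV : R ≤ Subgroup.normalizer (V : Set G) := hRH.trans hHV
  have hcle : ⁅V, R⁆ ≤ V := Subgroup.commutator_le.mpr fun a ha b hb => by
    rw [commutatorElement_def, mul_assoc a b, mul_assoc a]
    exact mul_mem ha ((Subgroup.le_normalizer_iff.mp hRV) b hb _ (inv_mem ha))
  refine le_antisymm (sup_le hcle inf_le_left) (hgen _ ?_ ?_)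
  · rw [Subgroup.le_normalizer_iff]
    intro g hg x hx
    have h1 : ∀ y ∈ (⁅V, R⁆ : Subgroup G), g * y * g⁻¹ ∈ ⁅V, R⁆ := by
      intro y hy
      have h : ⁅V, R⁆ ≤ (⁅V, R⁆).comap (MulAut.conj g).toMonoidHom := Subgroup.commutator_le.mpr (fun a ha b hb => by
        show (MulAut.conj g).toMonoidHom ⁅a, b⁆ ∈ ⁅V, R⁆
        rw [map_commutatorElement]
        exact Subgroup.commutator_mem_commutator ((Subgroup.le_normalizer_iff.mp hHV) g hg a ha)
          ((Subgroup.le_normalizer_iff.mp hHR) g hg b hb))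
      exact h hy
    have h2 : ∀ y ∈ V ⊓ Subgroup.centralizer (R : Set G), g * y * g⁻¹ ∈ V ⊓ Subgroup.centralizer (R : Set G) := by
      intro y hy
      refine ⟨(Subgroup.le_normalizer_iff.mp hHV) g hg y hy.1, Subgroup.mem_centralizer_iff.mpr fun b hb => ?_⟩
      have hb' := (Subgroup.le_normalizer_iff.mp hHR) g⁻¹ (inv_mem hg) b hb
      have h := Subgroup.mem_centralizer_iff.mp hy.2 _ hb'
      calc b * (g * y * g⁻¹) = g * ((g⁻¹ * b * g⁻¹⁻¹) * y) * g⁻¹ := by group
        _ = g * (y * (g⁻¹ * b * g⁻¹⁻¹)) * g⁻¹ := by rw [h]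
        _ = g * y * g⁻¹ * b := by group
    have h : ⁅V, R⁆ ⊔ (V ⊓ Subgroup.centralizer (R : Set G)) ≤
        (⁅V, R⁆ ⊔ (V ⊓ Subgroup.centralizer (R : Set G))).comap (MulAut.conj g).toMonoidHom :=
      sup_le (fun y hy => Subgroup.mem_sup_left (h1 y hy)) (fun y hy => Subgroup.mem_sup_right (h2 y hy))
    exact h hx
  intro v hv
  obtain ⟨hvV, hvT⟩ := hv
  haveI : IsMulCommutative ↥V := hV.1
  letI : CommGroup ↥V := { (inferInstance : Group ↥V) with mul_comm := fun a b => IsMulCommutative.is_comm.comm a b }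
  haveI : Fintype (↥R ⧸ (S : Subgroup ↥R)) := Fintype.ofFinite _
  let act : ↥R → ↥V := fun r => ⟨(r : G) * v * (r : G)⁻¹, (Subgroup.le_normalizer_iff.mp hRV) r r.2 v hvV⟩
  have hwd : ∀ a b : ↥R, QuotientGroup.leftRel (S : Subgroup ↥R) a b → act a = act b := by
    intro a b hab
    rw [QuotientGroup.leftRel_apply] at hab
    have h := Subgroup.mem_centralizer_iff.mp hvT _ (hT ▸ Subgroup.mem_map_of_mem R.subtype hab :
      R.subtype (a⁻¹ * b) ∈ (T : Set G))
    refine Subtype.ext ?_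
    show (a : G) * v * (a : G)⁻¹ = (b : G) * v * (b : G)⁻¹
    change ((a : G)⁻¹ * (b : G)) * v = v * ((a : G)⁻¹ * (b : G)) at h
    calc (a : G) * v * (a : G)⁻¹ = (a : G) * (v * ((a : G)⁻¹ * (b : G))) * (b : G)⁻¹ := by group
      _ = (a : G) * (((a : G)⁻¹ * (b : G)) * v) * (b : G)⁻¹ := by rw [h]
      _ = _ := by group
  let f : ↥R ⧸ (S : Subgroup ↥R) → ↥V := Quotient.lift act hwd
  set w : ↥V := ∏ c, f c with hw
  have hwC : (w : G) ∈ Subgroup.centralizer (R : Set G) := by
    refine Subgroup.mem_centralizer_iff.mpr fun r hr => ?_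
    let χ : ↥V →* ↥V :=
      { toFun := fun y => ⟨r * y * r⁻¹, (Subgroup.le_normalizer_iff.mp hRV) r hr y y.2⟩
        map_one' := Subtype.ext (by simp)
        map_mul' := fun a b => Subtype.ext (by simp [mul_assoc]) }
    have h : χ w = w := by
      rw [hw, map_prod]
      refine Fintype.prod_equiv (MulAction.toPerm (⟨r, hr⟩ : ↥R)) _ _ fun c => ?_
      induction c using QuotientGroup.induction_on with
      | H a =>
        refine Subtype.ext ?_
        show r * ((a : G) * v * (a : G)⁻¹) * r⁻¹ = ((r * (a : G))) * v * (r * (a : G))⁻¹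
        group
    have h' : r * (w : G) * r⁻¹ = (w : G) := congrArg Subtype.val h
    exact mul_inv_eq_iff_eq_mul.mp h'
  let N : Subgroup ↥V := (⁅V, R⁆).subgroupOf V
  haveI : N.Normal := inferInstance
  let π := QuotientGroup.mk' N
  have hf : ∀ c, π (f c) = π ⟨v, hvV⟩ := by
    intro c
    induction c using QuotientGroup.induction_on with
    | H a =>
      refine (QuotientGroup.eq_iff_div_mem).mpr ?_
      show (a : G) * v * (a : G)⁻¹ / v ∈ ⁅V, R⁆
      rw [div_eq_mul_inv, show (a : G) * v * (a : G)⁻¹ * v⁻¹ = ⁅(a : G), v⁆ from rfl, Subgroup.commutator_comm]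
      exact Subgroup.commutator_mem_commutator a.2 hvV
  have hπw : π w = π ⟨v, hvV⟩ ^ (S : Subgroup ↥R).index := by
    rw [hw, map_prod, Finset.prod_congr rfl (fun c _ => hf c), Finset.prod_const, Finset.card_univ,
      Subgroup.index_eq_card, Nat.card_eq_fintype_card]
  have hcop : ((S : Subgroup ↥R).index).Coprime p :=
    ((Fact.out : p.Prime).coprime_iff_not_dvd.mpr (Sylow.not_dvd_index S)).symm
  obtain ⟨m, hm⟩ := exists_pow_eq_self_of_coprime (x := π ⟨v, hvV⟩) (n := (S : Subgroup ↥R).index)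
    (hcop.coprime_dvd_right (orderOf_dvd_of_pow_eq_one (by
      rw [← map_pow, show (⟨v, hvV⟩ : ↥V) ^ p = 1 from Subtype.ext (hV.2 v hvV), map_one])))
  have h : (⟨v, hvV⟩ : ↥V)⁻¹ * w ^ m ∈ N := QuotientGroup.eq.mp (show π ⟨v, hvV⟩ = π (w ^ m) by
    rw [map_pow, hπw, hm])
  have h' : v⁻¹ * (w : G) ^ m ∈ ⁅V, R⁆ := h
  have hv' : v = (w : G) ^ m * (v⁻¹ * (w : G) ^ m)⁻¹ := by group
  show v ∈ _
  rw [hv']
  exact mul_mem (Subgroup.mem_sup_right (pow_mem (show (w : G) ∈ V ⊓ Subgroup.centralizer (R : Set G) from ⟨w.2, hwC⟩) m)) (Subgroup.mem_sup_left (inv_mem h'))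

end Cfsg.Agent.S2781
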