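import Cfsg.Statements.S2787
import Cfsg.Agent.Lib.CharP.QuadraticCommute
import Cfsg.Agent.Techniques.SL2.Basic
import Cfsg.Agent.Lib.Ree.Involutions

set_option autoImplicit false
open Cfsg

namespace Cfsg.Agent.S2787

open Subgroup
open scoped MatrixGroups commutatorElement

/-- In `PSL(2, F)`, odd characteristic, no involution commutes with an element of order `p`. -/
theorem psl_no_commute {F : Type*} [Field F] [Fintype F] {p : ℕ} [Fact p.Prime] [CharP F p] (hp2 : p ≠ 2)
    (t a : Matrix.ProjectiveSpecialLinearGroup (Fin 2) F) (ht1 : t ≠ 1) (ht2 : t * t = 1) (ha1 : a ≠ 1)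
    (hap : a ^ p = 1) (hc : t * a = a * t) : False := by
  obtain ⟨t₀, rfl⟩ := QuotientGroup.mk_surjective t
  obtain ⟨a₀, rfl⟩ := QuotientGroup.mk_surjective a
  have hz : ∀ z ∈ center SL(2, F), z * z = 1 ∧ Techniques.SL2.Basic.Cen (MonoidHom.id SL(2, F)) z := by
    intro z hz
    obtain ⟨c, hc, hcz⟩ := Matrix.SpecialLinearGroup.mem_center_iff.mp hz
    rw [Fintype.card_fin] at hc
    refine ⟨Subtype.ext ?_, c, ?_⟩
    · rw [Matrix.SpecialLinearGroup.coe_mul, ← hcz, ← map_mul, ← pow_two, hc, map_one,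
        Matrix.SpecialLinearGroup.coe_one]
    · show (z : Matrix (Fin 2) (Fin 2) F) = _
      rw [← hcz, Matrix.smul_one_eq_diagonal, Matrix.scalar_apply]
  set u := a₀ ^ (p + 1) with hu
  have hap' : a₀ ^ p ∈ center SL(2, F) := by
    rw [← QuotientGroup.eq_one_iff, QuotientGroup.mk_pow]; exact hap
  have hup : u ^ p = 1 := by
    obtain ⟨k, hk⟩ : ∃ k, p + 1 = 2 * k := by
      obtain ⟨k, hk⟩ := (Fact.out : p.Prime).odd_of_ne_two hp2
      exact ⟨k + 1, by omega⟩
    rw [hu, ← pow_mul, mul_comm, pow_mul, hk, pow_mul, pow_two, (hz _ hap').1, one_pow]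
  have huq : (QuotientGroup.mk u : Matrix.ProjectiveSpecialLinearGroup (Fin 2) F) = QuotientGroup.mk a₀ := by
    rw [hu, QuotientGroup.mk_pow, pow_succ, hap, one_mul]
  have hcom : t₀ * u = u * t₀ := by
    have hm : ⁅t₀, u⁆ ∈ center SL(2, F) := by
      rw [← QuotientGroup.eq_one_iff, ← QuotientGroup.mk'_apply, map_commutatorElement,
        commutatorElement_eq_one_iff_mul_comm, QuotientGroup.mk'_apply, QuotientGroup.mk'_apply, huq]
      exact hc
    set c := ⁅t₀, u⁆ with hcdef
    have he : t₀ * u * t₀⁻¹ = c * u := by rw [hcdef, commutatorElement_def]; group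
    have h1 := congrArg (· ^ p) he
    simp only [conj_pow, hup, mul_one, mul_inv_cancel] at h1
    rw [Commute.mul_pow (mem_center_iff.mp hm u).symm, hup, mul_one] at h1
    obtain ⟨k, hk⟩ := (Fact.out : p.Prime).odd_of_ne_two hp2
    rw [hk, pow_succ, pow_mul, pow_two, (hz c hm).1, one_pow, one_mul] at h1
    exact commutatorElement_eq_one_iff_mul_comm.mp h1.symm
  have hunc : ¬ Techniques.SL2.Basic.Cen (MonoidHom.id SL(2, F)) u := fun h => ha1 (by
    rw [← huq, QuotientGroup.eq_one_iff, mem_center_iff]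
    exact fun g => (h.commute Function.injective_id g).eq)
  have hct := Techniques.SL2.Basic.cen_pow_of_commute (ι := MonoidHom.id SL(2, F)) p Function.injective_id hp2
    hunc (k := 1) (by rw [pow_one]; exact hup) hcom
  refine ht1 ?_
  have htp : (QuotientGroup.mk t₀ : Matrix.ProjectiveSpecialLinearGroup (Fin 2) F) ^ p = 1 := by
    rw [← QuotientGroup.mk_pow, QuotientGroup.eq_one_iff, mem_center_iff]
    exact fun g => (hct.commute Function.injective_id g).eq
  obtain ⟨k, hk⟩ := (Fact.out : p.Prime).odd_of_ne_two hp2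
  rw [hk, pow_succ, pow_mul, pow_two, ht2, one_pow, one_mul] at htp
  exact htp

/-- A central involution of a group with an abelian Sylow `2`-subgroup is not generated by elements of odd order. -/
theorem no_central_involution {K : Type*} [Group K] [Finite K] {t a b : K} (ht1 : t ≠ 1) (ht2 : t * t = 1)
    (hgen : closure ({a, b} : Set K) = ⊤) (hta : t * a = a * t) (htb : t * b = b * t)
    (hab : ∀ P : Sylow 2 K, ∀ x ∈ (P : Subgroup K), ∀ y ∈ (P : Subgroup K), x * y = y * x)
    {n : ℕ} (hn : Odd n) (ha : a ^ n = 1) (hb : b ^ n = 1) : False := by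
  have hcen : ∀ g : K, g * t = t * g := by
    intro g
    have h : closure ({a, b} : Set K) ≤ centralizer ({t} : Set K) := (closure_le _).mpr (by
      rintro z (rfl | rfl)
      exacts [mem_centralizer_singleton_iff.mpr hta.symm, mem_centralizer_singleton_iff.mpr htb.symm])
    exact mem_centralizer_singleton_iff.mp (h (hgen ▸ mem_top g))
  haveI : Fact (Nat.Prime 2) := ⟨Nat.prime_two⟩
  obtain ⟨P, hP⟩ := (IsPGroup.of_card (p := 2) (n := 1) (show Nat.card (zpowers t) = 2 ^ 1 by
    rw [Nat.card_zpowers, pow_one, orderOf_eq_prime (by rw [pow_two, ht2]) ht1])).exists_le_sylow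
  letI : CommGroup (P : Subgroup K) :=
    { (inferInstance : Group (P : Subgroup K)) with
      mul_comm := fun x y => Subtype.ext (hab P x x.2 y y.2) }
  let τ : K →* (P : Subgroup K) := MonoidHom.transfer (MonoidHom.id (P : Subgroup K))
  have hτ1 : ∀ z : K, z ^ n = 1 → τ z = 1 := by
    intro z hz
    obtain ⟨k, hk⟩ := P.2 (τ z)
    have h1 : (τ z) ^ n = 1 := by rw [← map_pow, hz, map_one]
    have := Nat.dvd_gcd (orderOf_dvd_of_pow_eq_one hk) (orderOf_dvd_of_pow_eq_one h1)
    rw [Nat.Coprime.gcd_eq_one (Nat.Coprime.pow_left k (Nat.coprime_two_left.mpr hn))] at this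
    exact orderOf_eq_one_iff.mp (Nat.dvd_one.mp this)
  have hτt : τ t = 1 := by
    have h : closure ({a, b} : Set K) ≤ τ.ker := (closure_le _).mpr (by
      rintro z (rfl | rfl)
      exacts [MonoidHom.mem_ker.mpr (hτ1 _ ha), MonoidHom.mem_ker.mpr (hτ1 _ hb)])
    exact MonoidHom.mem_ker.mp (h (hgen ▸ mem_top t))
  have key : ∀ (k : ℕ) (g₀ : K), g₀⁻¹ * t ^ k * g₀ ∈ (P : Subgroup K) → g₀⁻¹ * t ^ k * g₀ = t ^ k := by
    intro k g₀ _
    have hc' : Commute g₀ t := hcen g₀
    rw [mul_assoc, ← (hc'.pow_right k).eq, inv_mul_cancel_left]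
  have h2 := MonoidHom.transfer_eq_pow (MonoidHom.id (P : Subgroup K)) t key
  rw [show MonoidHom.transfer (MonoidHom.id (P : Subgroup K)) t = τ t from rfl, hτt] at h2
  obtain ⟨m, hm⟩ := Nat.odd_iff.mpr (Nat.two_dvd_ne_zero.mp (fun h => P.not_dvd_index h))
  have h3 := congrArg Subtype.val h2
  simp only [OneMemClass.coe_one, MonoidHom.id_apply, hm, pow_succ, pow_mul] at h3
  simp [ht2, pow_two] at h3
  exact ht1 h3.symm

/-- Nontrivial irreducible modules in characteristic p for L₂(pⁿ) (pⁿ odd) and, for p = 3, for the Ree groups ²G₂(q) admit no quadratic action: [V,A,A] = 1 ⇒ [V,A] = 1. -/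
theorem result {G : Type*} [Group G] [Finite G] {p : ℕ} [Fact p.Prime] (V H : Subgroup G) (hV : Cfsg.IsElementaryAbelian p V) (hHV : H ≤ Subgroup.normalizer (V : Set G)) (hirr : ∀ U : Subgroup G, U ≤ V → H ≤ Subgroup.normalizer (U : Set G) → U = ⊥ ∨ U = V) (hnt : ¬ H ≤ Subgroup.centralizer (V : Set G)) [hn : ((Subgroup.centralizer (V : Set G)).subgroupOf H).Normal] (hq : (∃ (F : Type) (_ : Field F) (_ : Fintype F) (n : ℕ), Fintype.card F = p ^ n ∧ Odd (Fintype.card F) ∧ Nonempty (↥H ⧸ (Subgroup.centralizer (V : Set G)).subgroupOf H ≃* Matrix.ProjectiveSpecialLinearGroup (Fin 2) F)) ∨ (p = 3 ∧ Cfsg.Lie.IsoRee (↥H ⧸ (Subgroup.centralizer (V : Set G)).subgroupOf H))) (A : Subgroup G) (hA : A ≤ H) (hquad : ⁅⁅V, A⁆, A⁆ = ⊥) : ⁅V, A⁆ = ⊥ := by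
  by_contra hVA
  have hp : p.Prime := Fact.out
  obtain ⟨a, haA, haC⟩ : ∃ a ∈ A, a ∉ centralizer (V : Set G) := by
    by_contra h
    push Not at h
    exact hVA (by rw [commutator_comm, commutator_eq_bot_iff_le_centralizer]; exact h)
  have haq : PLocal.Quadratic.Quad V a := le_bot_iff.mp ((commutator_mono
    (commutator_mono le_rfl (zpowers_le.mpr haA)) (zpowers_le.mpr haA)).trans hquad.le)
  have hp2 : p ≠ 2 := by
    rcases hq with ⟨F, _, _, n, hc, hodd, -⟩ | ⟨rfl, -⟩
    · rintro rfl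
      rw [hc] at hodd
      rcases Nat.eq_zero_or_pos n with rfl | hn0
      · rw [pow_zero] at hc; exact absurd hc (Fintype.one_lt_card (α := F)).ne'
      · exact (Nat.not_even_iff_odd.mpr hodd) (Nat.even_pow.mpr ⟨even_two, hn0.ne'⟩)
    · norm_num
  have hVp : IsPGroup p V := fun v => ⟨1, Subtype.ext (by simpa using hV.2 v v.2)⟩
  have hV1 : V ≠ ⊥ := fun h => hnt fun x _ => by
    subst h; intro y hy; rw [mem_bot.mp hy]; simp
  set C := (centralizer (V : Set G)).subgroupOf H with hC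
  set q := QuotientGroup.mk' C with hqdef
  have hna : q ⟨a, hA haA⟩ ∉ pCore p (H ⧸ C) := by
    rw [CharP.QuadraticCommute.pCore_eq_bot_of_irreducible hVp hV1 hHV hirr, mem_bot, hqdef,
      QuotientGroup.mk'_apply, QuotientGroup.eq_one_iff]
    exact fun h => haC h
  obtain ⟨g, hg, hbad⟩ := PLocal.Quadratic.exists_bad_pair hV hHV (hA haA) haq hna
  set b := g * a * g⁻¹ with hb
  have hbH : b ∈ H := mul_mem (mul_mem hg (hA haA)) (inv_mem hg)
  obtain ⟨t, ht, htC, htt, hta, htb⟩ := CharP.QuadraticCommute.exists_commuting_involution hp2 hV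
    (hHV (hA haA)) (hHV hbH) haq (PLocal.Quadratic.quad_conj g (hHV hg) haq) hbad
  have hcl : closure ({a, b} : Set G) ≤ H := (closure_le _).mpr (by
    rintro z (rfl | rfl); exacts [hA haA, hbH])
  have hone : ∀ z : H, q z = 1 ↔ (z : G) ∈ centralizer (V : Set G) := fun z => by
    rw [hqdef, QuotientGroup.mk'_apply, QuotientGroup.eq_one_iff]; exact mem_subgroupOf
  set A' := q ⟨a, hA haA⟩ with hA'
  set B' := q ⟨b, hbH⟩ with hB'
  set T' := q ⟨t, hcl ht⟩ with hT'
  have hA1 : A' ≠ 1 := fun h => haC ((hone _).mp h)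
  have hpow : ∀ (z : G) (hz : z ∈ H), PLocal.Quadratic.Quad V z → q ⟨z, hz⟩ ^ p = 1 := fun z hz hzq => by
    rw [← map_pow]; exact (hone _).mpr (PLocal.Quadratic.pow_mem_centralizer hV (hHV hz) hzq)
  have hT1 : T' ≠ 1 := fun h => htC ((hone _).mp h)
  have hT2 : T' * T' = 1 := by rw [hT', ← map_mul]; exact (hone _).mpr htt
  have hTA : T' * A' = A' * T' := by
    rw [← commutatorElement_eq_one_iff_mul_comm, hT', hA', ← map_commutatorElement]; exact (hone _).mpr hta
  have hTB : T' * B' = B' * T' := by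
    rw [← commutatorElement_eq_one_iff_mul_comm, hT', hB', ← map_commutatorElement]; exact (hone _).mpr htb
  rcases hq with ⟨F, _, _, n, hc, hodd, ⟨e⟩⟩ | ⟨rfl, K, _, _, m, hm, hK, ⟨e⟩⟩
  · haveI : CharP F p := by
      obtain ⟨r, hr⟩ := CharP.exists F
      haveI := hr
      obtain ⟨k, hrp, hk⟩ := FiniteField.card F r
      replace hk : p ^ n = r ^ (k : ℕ) := hc ▸ hk
      rcases Nat.eq_zero_or_pos n with rfl | hn0
      · rw [pow_zero] at hc; exact absurd hc (Fintype.one_lt_card (α := F)).ne'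
      · have hrp' : r = p := ((Nat.prime_dvd_prime_iff_eq hrp hp).mp (hrp.dvd_of_dvd_pow (hk ▸ dvd_pow_self r k.ne_zero)))
        exact hrp' ▸ hr
    exact psl_no_commute hp2 (e T') (e A') (by simpa using hT1) (by rw [← map_mul, hT2, map_one])
      (by simpa using hA1) (by rw [← map_pow, hpow a (hA haA) haq, map_one])
      (by rw [← map_mul (f := e), ← map_mul (f := e), hTA])
  · haveI : CharP K 3 := by
      obtain ⟨r, hr⟩ := CharP.exists K
      haveI := hr
      obtain ⟨k, hrp, hk⟩ := FiniteField.card K r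
      rw [hK] at hk
      have hrp' : r = 3 := (Nat.prime_dvd_prime_iff_eq hrp Nat.prime_three).mp
        (hrp.dvd_of_dvd_pow (hk ▸ dvd_pow_self r k.ne_zero))
      exact hrp' ▸ hr
    set S := closure ({A', B'} : Set (H ⧸ C)) with hS
    have hTS : T' ∈ S := by
      have h1 : (⟨t, hcl ht⟩ : H) ∈ closure ({⟨a, hA haA⟩, ⟨b, hbH⟩} : Set H) := by
        have hm' : (closure ({⟨a, hA haA⟩, ⟨b, hbH⟩} : Set H)).map H.subtype = closure ({a, b} : Set G) := by
          rw [MonoidHom.map_closure, Set.image_pair]; rfl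
        have ht' := ht
        rw [← hm'] at ht'
        obtain ⟨t', ht', he⟩ := ht'
        rwa [← Subtype.ext (a1 := t') (a2 := (⟨t, hcl ht⟩ : H)) he]
      have := mem_map_of_mem q h1
      rwa [MonoidHom.map_closure, Set.image_pair] at this
    have hAS : A' ∈ S := subset_closure (Or.inl rfl)
    have hBS : B' ∈ S := subset_closure (Or.inr rfl)
    refine no_central_involution (K := S) (t := ⟨T', hTS⟩) (a := ⟨A', hAS⟩) (b := ⟨B', hBS⟩)
      (fun h => hT1 (congrArg Subtype.val h)) (Subtype.ext hT2) ?_ (Subtype.ext hTA) (Subtype.ext hTB) ?_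
      (n := 3) (by decide) (Subtype.ext (hpow a (hA haA) haq))
      (Subtype.ext (hpow b hbH (PLocal.Quadratic.quad_conj g (hHV hg) haq)))
    · apply Subgroup.map_injective S.subtype_injective
      rw [MonoidHom.map_closure, ← MonoidHom.range_eq_map, range_subtype, Set.image_pair]
      rfl
    · intro P x hx y hy
      obtain ⟨Q, hQ⟩ := ((P.2.map S.subtype).map e.toMonoidHom).exists_le_sylow
      obtain ⟨X⟩ := Chevalley.Twist.G2.exists_setup hK
      obtain ⟨Φ, hΦ⟩ := Ree.exists_embed X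
      obtain ⟨hC8, hsq⟩ := Ree.sylow_sq X hΦ Q
      refine Subtype.ext (e.injective ?_)
      have hx' := hQ ⟨_, ⟨x, hx, rfl⟩, rfl⟩
      have hy' := hQ ⟨_, ⟨y, hy, rfl⟩, rfl⟩
      have hsx : e (x : H ⧸ C) * e x = 1 := hsq _ hx'
      have hsy : e (y : H ⧸ C) * e y = 1 := hsq _ hy'
      have hsxy : e (x : H ⧸ C) * e y * (e x * e y) = 1 := hsq _ ((Q : Subgroup ↥(Lie.twistedG2 K (3 ^ m))).mul_mem hx' hy')
      simp only [Subgroup.coe_mul, map_mul]
      calc e (x : H ⧸ C) * e y = (e (x : H ⧸ C) * e y)⁻¹ := eq_inv_of_mul_eq_one_left hsxy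
        _ = e y * e x := by rw [mul_inv_rev, inv_eq_of_mul_eq_one_right hsx, inv_eq_of_mul_eq_one_right hsy]

end Cfsg.Agent.S2787
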