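import Cfsg.Statements.S2788
import Cfsg.Agent.Lib.CharP.SL2IndexBound
import Cfsg.Agent.Lib.PLocal.Cores
-- import your own Cfsg.Agent.* helpers here

set_option autoImplicit false
open Cfsg

namespace Cfsg.Agent.S2788

open Subgroup

/-- Let H act faithfully by conjugation on the elementary abelian p-subgroup V of a finite group with H ≅ SL₂(F), F a field with p^n elements, S a Sylow p-subgroup of H, and A ≤ S a subgroup of order at least 3 acting quadratically on V ([V, A, A] = 1). Then |V/C_V(a)| ≥ p^n for every nonidentity a ∈ A. -/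
theorem result {G : Type*} [Group G] [Finite G] {p : ℕ} [Fact p.Prime] (V H : Subgroup G) (hV : Cfsg.IsElementaryAbelian p V) (hHV : H ≤ Subgroup.normalizer (V : Set G)) (hf : H ⊓ Subgroup.centralizer (V : Set G) = ⊥) {F : Type*} [Field F] [Fintype F] (n : ℕ) (hF : Fintype.card F = p ^ n) (hiso : Nonempty (↥H ≃* Matrix.SpecialLinearGroup (Fin 2) F)) (S : Sylow p ↥H) (T : Subgroup G) (hT : T = ((S : Subgroup ↥H).map H.subtype)) (A : Subgroup G) (hA : A ≤ T) (hA3 : 3 ≤ Nat.card A) (hquad : ⁅⁅V, A⁆, A⁆ = ⊥) : ∀ a ∈ A, a ≠ 1 → p ^ n ≤ ((V ⊓ Subgroup.centralizer ({a} : Set G))).relIndex V := by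
  intro a haA ha1
  obtain ⟨e⟩ := hiso
  have hTH : T ≤ H := hT ▸ Subgroup.map_subtype_le _
  obtain ⟨j, hj⟩ := (hT ▸ S.isPGroup'.map _ : IsPGroup p T) ⟨a, hA haA⟩
  have hj' : a ^ p ^ j = 1 := congrArg Subtype.val hj
  have hVp : IsPGroup p V := fun v => ⟨1, Subtype.ext (by simpa using hV.2 v v.2)⟩
  rcases Nat.lt_or_ge n 2 with hn | hn
  · obtain ⟨v, hv⟩ := IsPGroup.iff_card.mp hVp
    have hd : (V ⊓ Subgroup.centralizer ({a} : Set G)).relIndex V ∣ p ^ v := by
      rw [← hv, ← Subgroup.relIndex_bot_left]; exact Subgroup.relIndex_dvd_of_le_left V bot_le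
    obtain ⟨i, -, hi⟩ := (Nat.dvd_prime_pow (Fact.out : p.Prime)).mp hd
    rw [hi]
    refine Nat.pow_le_pow_right (Fact.out : p.Prime).pos ?_
    by_contra hlt
    have hi0 : i = 0 := by omega
    rw [hi0, pow_zero, Subgroup.relIndex_eq_one] at hi
    have : a ∈ H ⊓ Subgroup.centralizer (V : Set G) :=
      ⟨hTH (hA haA), fun w hw => Subgroup.mem_centralizer_singleton_iff.mp (hi hw).2⟩
    rw [hf, Subgroup.mem_bot] at this
    exact ha1 this
  · set φ := (QuotientGroup.mk' (Subgroup.center (Matrix.SpecialLinearGroup (Fin 2) F))).comp e.toMonoidHom with hφ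
    refine (CharP.SL2IndexBound.index_bound hV hHV hf hn hF φ
      ((QuotientGroup.mk'_surjective _).comp e.surjective) ⟨a, hTH (hA haA)⟩ (j := j) (Subtype.ext hj') ?_).1
    intro h
    set u := e ⟨a, hTH (hA haA)⟩ with hu
    have hup : u ^ p ^ j = 1 := by
      rw [hu, ← map_pow, show (⟨a, hTH (hA haA)⟩ : H) ^ p ^ j = 1 from Subtype.ext hj', map_one]
    have hz : u ∈ Subgroup.center (Matrix.SpecialLinearGroup (Fin 2) F) := (QuotientGroup.eq_one_iff _).mp h
    obtain ⟨c, hc, hcz⟩ := Matrix.SpecialLinearGroup.mem_center_iff.mp hz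
    rw [Fintype.card_fin] at hc
    haveI : CharP F p := by
      obtain ⟨r, hr⟩ := CharP.exists F
      haveI := hr
      obtain ⟨k, hrp, hk⟩ := FiniteField.card F r
      rw [hF] at hk
      exact ((Nat.prime_dvd_prime_iff_eq hrp Fact.out).mp (hrp.dvd_of_dvd_pow (hk ▸ dvd_pow_self r k.ne_zero))) ▸ hr
    have h3 := congrArg (fun M : Matrix.SpecialLinearGroup (Fin 2) F => (M : Matrix (Fin 2) (Fin 2) F) 0 0) hup
    simp only [Matrix.SpecialLinearGroup.coe_pow, ← hcz, ← map_pow, Matrix.SpecialLinearGroup.coe_one] at h3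
    have hc1 : c ^ p ^ j = 1 := by simpa using h3
    have hcone : c = 1 := by
      have hsub : (c - 1) ^ p ^ j = 0 := by rw [sub_pow_char_pow, hc1, one_pow, sub_self]
      exact sub_eq_zero.mp (eq_zero_of_pow_eq_zero hsub)
    have hu1 : u = 1 := Subtype.ext (by rw [← hcz, hcone, map_one]; rfl)
    exact ha1 (congrArg Subtype.val (e.map_eq_one_iff.mp hu1))

end Cfsg.Agent.S2788
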