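import Cfsg.Statements.S2791
import Cfsg.Agent.Lib.Fusion.Alperin
import Cfsg.Agent.Lib.Fusion.Group
import Cfsg.Agent.Lib.CharP.Sylow

set_option autoImplicit false
open Cfsg

namespace Cfsg.Agent.S2791

open Cfsg.FusionSystem Cfsg.Agent.Fusion.Basic

variable {G : Type*} [Group G] [Finite G] {p : ℕ} [Fact p.Prime]

/-- Elements of `A` normalizing a centric radical subgroup lie in it. -/
theorem mem_of_normalizes (S : Sylow p G) {A P : Subgroup G} (hA : IsMulCommutative ↥A)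
    (hsc : Cfsg.IsStronglyClosed A (S : Subgroup G))
    (hc : (groupFusionSystem (S : Subgroup G)).IsCentric P)
    (hr : (groupFusionSystem (S : Subgroup G)).IsRadical p P)
    {a : G} (ha : a ∈ A) (haP : a ∈ Subgroup.normalizer (P : Set G)) : a ∈ P := by
  set F := groupFusionSystem (S : Subgroup G)
  set D := (⊤ : Subgroup G) ⊓ Subgroup.normalizer (P : Set G)
  have hconj : ∀ n : D, ∀ x ∈ A ⊓ P, (n : G) * x * (n : G)⁻¹ ∈ A ⊓ P := fun n x hx =>
    have h := (Subgroup.mem_normalizer_iff.1 n.2.2 x).1 hx.2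
    ⟨hsc.2 x hx.1 n (hc.1 h), h⟩
  have haut : F.autGroup P = autInducedBy ⊤ P := Fusion.Group.autGroup_group hc.1
  let φ : D →* F.autGroup P := (conjAut ⊤ P).codRestrict _ fun n => by
    rw [haut, ← conjAut_range]; exact ⟨n, rfl⟩
  have hφ : Function.Surjective φ := by
    rintro ⟨α, hα⟩
    rw [haut, ← conjAut_range] at hα
    obtain ⟨n, rfl⟩ := hα
    exact ⟨n, rfl⟩
  let K : Subgroup D :=
    { carrier := {n | (∀ y ∈ A ⊓ P, (n : G) * y * (n : G)⁻¹ = y) ∧
        ∀ x ∈ P, (n : G) * x * (n : G)⁻¹ * x⁻¹ ∈ A ⊓ P}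
      one_mem' := ⟨fun y _ => by simp, fun x _ => by simp⟩
      mul_mem' := by
        rintro m n ⟨h1, h2⟩ ⟨h3, h4⟩
        refine ⟨fun y hy => ?_, fun x hx => ?_⟩
        · calc ((m * n : D) : G) * y * ((m * n : D) : G)⁻¹
              = (m : G) * ((n : G) * y * (n : G)⁻¹) * (m : G)⁻¹ := by
                simp [mul_assoc]
            _ = y := by rw [h3 y hy, h1 y hy]
        · have h5 := h2 x hx
          have h6 := h4 x hx
          have e : ((m * n : D) : G) * x * ((m * n : D) : G)⁻¹ * x⁻¹ =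
              ((m : G) * ((n : G) * x * (n : G)⁻¹ * x⁻¹) * (m : G)⁻¹) *
                ((m : G) * x * (m : G)⁻¹ * x⁻¹) := by
            simp [mul_assoc]
          rw [e, h1 _ h6]
          exact mul_mem h6 h5
      inv_mem' := by
        rintro m ⟨h1, h2⟩
        refine ⟨fun y hy => ?_, fun x hx => ?_⟩
        · nth_rw 1 [← h1 y hy]
          simp [mul_assoc]
        · have h5 := (A ⊓ P).inv_mem (h2 x hx)
          have h6 := h1 _ h5
          have e : ((m⁻¹ : D) : G) * x * ((m⁻¹ : D) : G)⁻¹ * x⁻¹ =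
              (m : G)⁻¹ * ((m : G) * x * (m : G)⁻¹ * x⁻¹)⁻¹ * (m : G) := by
            simp [mul_assoc]
          rw [e]
          nth_rw 1 [← h6]
          simpa [mul_assoc] using h5 }
  have hK : K.Normal := by
    refine ⟨fun n hn d => ⟨fun y hy => ?_, fun x hx => ?_⟩⟩
    · have h := hn.1 _ (hconj d⁻¹ y hy)
      calc ((d * n * d⁻¹ : D) : G) * y * ((d * n * d⁻¹ : D) : G)⁻¹
          = (d : G) * ((n : G) * (((d⁻¹ : D) : G) * y * ((d⁻¹ : D) : G)⁻¹) * (n : G)⁻¹) *
              (d : G)⁻¹ := by simp [mul_assoc]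
        _ = y := by rw [h]; simp [mul_assoc]
    · have hx' : ((d⁻¹ : D) : G) * x * ((d⁻¹ : D) : G)⁻¹ ∈ P :=
        (Subgroup.mem_normalizer_iff.1 (d⁻¹ : D).2.2 x).1 hx
      have h := hconj d _ (hn.2 _ hx')
      simpa [mul_assoc] using h
  obtain ⟨e, he⟩ := IsPGroup.iff_card.1 (S.2.to_le hc.1)
  have hpow : ∀ n ∈ K, ∀ x ∈ P, ∀ k : ℕ, ((n : D) : G) ^ k * x * ((n : G) ^ k)⁻¹ =
      ((n : G) * x * (n : G)⁻¹ * x⁻¹) ^ k * x := by
    intro n hn x hx k
    induction k with
    | zero => simp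
    | succ k ih =>
      have hd := (A ⊓ P).pow_mem (hn.2 x hx) k
      have h1 := hn.1 _ hd
      calc (n : G) ^ (k + 1) * x * ((n : G) ^ (k + 1))⁻¹
          = (n : G) * ((n : G) ^ k * x * ((n : G) ^ k)⁻¹) * (n : G)⁻¹ := by
            rw [pow_succ']; simp [mul_assoc]
        _ = (n : G) * (((n : G) * x * (n : G)⁻¹ * x⁻¹) ^ k * x) * (n : G)⁻¹ := by rw [ih]
        _ = ((n : G) * ((n : G) * x * (n : G)⁻¹ * x⁻¹) ^ k * (n : G)⁻¹) *
            ((n : G) * x * (n : G)⁻¹ * x⁻¹) * x := by simp [mul_assoc]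
        _ = ((n : G) * x * (n : G)⁻¹ * x⁻¹) ^ (k + 1) * x := by rw [h1, pow_succ]
  have hT : IsPGroup p (K.map φ) := by
    rintro ⟨_, n, hn, rfl⟩
    refine ⟨e, Subtype.ext ?_⟩
    change φ n ^ p ^ e = 1
    rw [← map_pow]
    refine Subtype.ext ?_
    change conjAut ⊤ P (n ^ p ^ e) = 1
    rw [← MonoidHom.mem_ker, conjAut_ker, Subgroup.mem_subgroupOf]
    refine ⟨Subgroup.mem_top _, Subgroup.mem_centralizer_iff.2 fun x hx => ?_⟩
    have h1 : ((n : G) * x * (n : G)⁻¹ * x⁻¹) ^ p ^ e = 1 := by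
      rw [← he]
      exact orderOf_dvd_iff_pow_eq_one.1 (Subgroup.orderOf_dvd_natCard P (hn.2 x hx).2)
    have h2 := hpow n hn x hx (p ^ e)
    rw [h1, one_mul, mul_inv_eq_iff_eq_mul] at h2
    rw [SubmonoidClass.coe_pow]
    exact h2.symm
  have haK : (⟨a, ⟨Subgroup.mem_top a, haP⟩⟩ : D) ∈ K := by
    refine ⟨fun y hy => ?_, fun x hx => ⟨?_, ?_⟩⟩
    · show a * y * a⁻¹ = y
      rw [show a * y = y * a from congrArg Subtype.val (hA.is_comm.comm ⟨a, ha⟩ ⟨y, hy.1⟩),
        mul_inv_cancel_right]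
    · show a * x * a⁻¹ * x⁻¹ ∈ A
      have : x * a⁻¹ * x⁻¹ ∈ A := hsc.2 a⁻¹ (A.inv_mem ha) x
        ((S : Subgroup G).mul_mem ((S : Subgroup G).mul_mem (hc.1 hx)
          ((S : Subgroup G).inv_mem (hsc.1 ha))) ((S : Subgroup G).inv_mem (hc.1 hx)))
      simpa [mul_assoc] using A.mul_mem ha this
    · show a * x * a⁻¹ * x⁻¹ ∈ P
      exact P.mul_mem ((Subgroup.mem_normalizer_iff.1 haP x).1 hx) (P.inv_mem hx)
  have hinn : conjAut ⊤ P ⟨a, ⟨Subgroup.mem_top a, haP⟩⟩ ∈ Inn P := by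
    rw [← hr.2]
    exact ⟨φ ⟨a, _⟩, CharP.le_pCore (hK.map φ hφ) hT (Subgroup.mem_map_of_mem φ haK), rfl⟩
  obtain ⟨u, hu, hue⟩ := mem_inn_iff.1 hinn
  have hC : u⁻¹ * a ∈ centralizerIn (S : Subgroup G) P := by
    refine ⟨mul_mem (Subgroup.inv_mem _ (hc.1 hu)) (hsc.1 ha), Subgroup.mem_centralizer_iff.2 fun x hx => ?_⟩
    have h1 := hue x hx
    rw [conjAut_apply ⟨a, ⟨Subgroup.mem_top a, haP⟩⟩ hx] at h1
    have h2 : a * x * a⁻¹ = u * x * u⁻¹ := h1
    calc x * (u⁻¹ * a) = u⁻¹ * (u * x * u⁻¹) * a := by group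
      _ = u⁻¹ * (a * x * a⁻¹) * a := by rw [h2]
      _ = u⁻¹ * a * x := by group
  simpa using P.mul_mem hu (hc.2 P (isConj_refl hc.1) hC)


/-- Let S be a Sylow p-subgroup of the finite group G and A an abelian subgroup of S that is strongly closed in S with respect to G. Then A controls strong fusion in G: for some Sylow p-subgroup T containing A, whenever a subset of T is conjugated into T by an element of G, the same elementwise conjugation is induced by an element of N_G(A). -/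
theorem result {G : Type*} [Group G] [Finite G] {p : ℕ} [Fact p.Prime] (S : Sylow p G) (A : Subgroup G) (hA : IsMulCommutative ↥A) (hsc : Cfsg.IsStronglyClosed A (S : Subgroup G)) : Cfsg.ControlsStrongFusion p A := by
  have hconjA : ∀ n : G, (∀ x ∈ A, n * x * n⁻¹ ∈ (S : Subgroup G)) →
      n ∈ Subgroup.normalizer (A : Set G) := fun n hn => by
    have hle : A.map (MulAut.conj n).toMonoidHom ≤ A := by
      rintro _ ⟨x, hx, rfl⟩
      exact hsc.2 x hx n (hn x hx)
    exact Subgroup.mem_normalizer_iff_map_conj_eq.2 (Subgroup.eq_of_le_of_card_ge hle (le_of_eq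
      (Nat.card_congr (A.equivMapOfInjective _ (MulAut.conj n).injective).toEquiv)))
  have hSN : (S : Subgroup G) ≤ Subgroup.normalizer (A : Set G) := fun s hs =>
    hconjA s fun x hx => mul_mem (mul_mem hs (hsc.1 hx)) (inv_mem hs)
  set N := Subgroup.normalizer (A : Set G)
  have hFE : Cfsg.groupFusionSystem (S : Subgroup G) ≤
      Cfsg.fusionSystemOfSubgroup N (S : Subgroup G) hSN := by
    refine Fusion.Alperin.alperin S.2 (Fusion.Group.group_saturated S) fun P hP => ?_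
    have hPS : P ≤ (S : Subgroup G) := by
      rcases hP with rfl | hP
      · exact le_rfl
      · exact (Fusion.Alperin.essential_centric hP).1
    have hAP : A ≤ P := by
      rcases hP with rfl | hP
      · exact hsc.1
      by_contra hAP
      have hlt : P < A ⊔ P := lt_of_le_of_ne le_sup_right fun h => hAP (h ▸ le_sup_left)
      obtain ⟨g, hg, hgP⟩ := SetLike.exists_of_lt
        (Fusion.Saturation.lt_normalizerIn (S.2.to_le (sup_le hsc.1 hPS)) hlt)
      obtain ⟨hg1, hgN⟩ := hg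
      replace hg1 : g ∈ ((A ⊔ P : Subgroup G) : Set G) := hg1
      rw [Subgroup.coe_mul_of_right_le_normalizer_left _ _ (hPS.trans hSN)] at hg1
      obtain ⟨a, ha, q, hq, rfl⟩ := hg1
      have haN : a ∈ Subgroup.normalizer (P : Set G) := by
        simpa using mul_mem hgN (Subgroup.inv_mem _ (Subgroup.le_normalizer hq))
      exact hgP (mul_mem (mem_of_normalizes S hA hsc (Fusion.Alperin.essential_centric hP)
        (Fusion.Alperin.essential_radical hP S.2) ha haN) hq)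
    rw [Fusion.Group.autGroup_group hPS, Fusion.Group.autGroup_sub hSN hPS]
    intro α hα
    obtain ⟨n, hn, he⟩ := Fusion.Basic.mem_autInducedBy_iff'.1 hα
    refine Fusion.Basic.mem_autInducedBy_iff'.2 ⟨n, ⟨hconjA n fun x hx => ?_, hn.2⟩, he⟩
    exact hPS ((Subgroup.mem_normalizer_iff.1 hn.2 x).1 (hAP hx))
  refine ⟨S, hsc.1, fun A' hA' => ⟨hA', fun g hg => ?_⟩⟩
  have hP : Subgroup.closure A' ≤ (S : Subgroup G) := (Subgroup.closure_le _).2 hA'
  have hmap : ∀ x : Subgroup.closure A', Cfsg.conjHom (Subgroup.closure A') g x ∈ (S : Subgroup G) := by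
    intro x
    have h : Subgroup.closure A' ≤ (S : Subgroup G).comap (MulAut.conj g).toMonoidHom :=
      (Subgroup.closure_le _).2 fun a ha => hg ⟨a, ha, rfl⟩
    exact h x.2
  obtain ⟨-, -, n, hn, hne⟩ := hFE _ (show Cfsg.conjHom (Subgroup.closure A') g ∈
    (Cfsg.groupFusionSystem (S : Subgroup G)).Hom _ from ⟨hP, hmap, g, fun _ => rfl⟩)
  exact ⟨n, hn, fun a ha => hne ⟨a, Subgroup.subset_closure ha⟩⟩

end Cfsg.Agent.S2791
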