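import Cfsg.Statements.S2793
import Cfsg.Agent.Lib.PLocal.ZJFailure.Main

set_option autoImplicit false
open Cfsg

namespace Cfsg.Agent.S2793

/-- Let p be an odd prime, S a Sylow p-subgroup of the finite group G, J(S) the subgroup generated by the abelian subgroups of S of largest order, and suppose Z(J(S)) does not control strong fusion in G. Put H = N_G(Z(J(S))). Then the group F(p) of upper triangular 3 × 3 matrices (a b c; 0 a⁻¹ d; 0 0 1) over the field with p elements is involved in H, and Z(J(S)) contains a subgroup C of order p with |N_H(C) : C_H(C)| = p − 1. -/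
theorem result {G : Type*} [Group G] [Finite G] {p : ℕ} [Fact p.Prime] (hp : p ≠ 2) (S : Sylow p G) (h : ¬ Cfsg.ControlsStrongFusion p (Cfsg.centerThompsonAOf (S : Subgroup G))) (H : Subgroup G) (hH : H = Subgroup.normalizer ((Cfsg.centerThompsonAOf (S : Subgroup G)) : Set G)) : Cfsg.Involves ↥(Cfsg.fOver (ZMod p)) ↥H ∧ ∃ C : Subgroup G, C ≤ (Cfsg.centerThompsonAOf (S : Subgroup G)) ∧ Nat.card C = p ∧ (H ⊓ Subgroup.centralizer (C : Set G)).relIndex (H ⊓ Subgroup.normalizer (C : Set G)) = p - 1 := by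
  classical
  subst hH
  have hZ : Cfsg.centerThompsonAOf (S : Subgroup G) = PLocal.MaxAbelian.core 0 (S : Subgroup G) :=
    PLocal.MaxAbelian.centerThompsonA_eq _
  have hZS : Cfsg.centerThompsonAOf (S : Subgroup G) ≤ (S : Subgroup G) :=
    hZ ▸ PLocal.MaxAbelian.core_le 0 _
  have hNS : Subgroup.normalizer ((S : Subgroup G) : Set G) ≤
      Subgroup.normalizer ((Cfsg.centerThompsonAOf (S : Subgroup G)) : Set G) := by
    rw [hZ]; exact PLocal.MaxAbelian.normalizer_le_normalizer_core 0 _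
  have hSH := Subgroup.le_normalizer.trans hNS
  have hfail : ¬ ∀ A : Set G, A ⊆ (S : Subgroup G) →
      ∀ g : G, (fun a => g * a * g⁻¹) '' A ⊆ (S : Subgroup G) →
      ∃ x ∈ Subgroup.normalizer ((Cfsg.centerThompsonAOf (S : Subgroup G)) : Set G),
        ∀ a ∈ A, g * a * g⁻¹ = x * a * x⁻¹ :=
    fun hall => h ⟨S, hZS, fun A hA => ⟨hA, hall A hA⟩⟩
  obtain ⟨Q, F⟩ := PLocal.ZJFailure.exists_failure (Fusion.SylIn.of_sylow S) hSH hNS hfail
  obtain ⟨L⟩ := PLocal.ZJFailure.exists_localData hp S hZ F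
  obtain ⟨E, θ, j, hE, hj, hact, hθ, x, hx, c, hc0, hc, heig⟩ :=
    PLocal.ZJFailure.pairConcl_of_hyp hp L.hyp
  refine ⟨PLocal.ZJFailure.involves_part hp hSH F.le L θ j hE hj hact hθ,
    PLocal.ZJFailure.cyclic_part hSH F.le hZS le_rfl (fun a ha b hb => ?_) L hx hc heig⟩
  rw [hZ] at ha hb
  exact PLocal.MaxAbelian.core_comm 0 _ a ha b hb

end Cfsg.Agent.S2793
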