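import Cfsg.Statements.S2803
import Cfsg.Agent.Lib.CharP.Parabolic

set_option autoImplicit false
open Cfsg

namespace Cfsg.Agent.S2803

/-- Let L be a finite group and p a prime with C_L(O_p(L)) ≤ O_p(L), T a Sylow p-subgroup, and Y the largest p-reduced normal subgroup of L. Put T_L = C_T(Y) and L_T = N_L(T_L). Then L = L_T · C_L(Y) (elementwise), T_L = O_p(L_T), and Y = Ω₁(Z(T_L)). -/
theorem result {L : Type*} [Group L] [Finite L] {p : ℕ} [Fact p.Prime] (hchar : Subgroup.centralizer (Cfsg.pCore p L : Set L) ≤ Cfsg.pCore p L) (T : Sylow p L) (Y : Subgroup L) (hY : (Cfsg.IsPReducedNormal p Y ∧ ∀ V : Subgroup L, Cfsg.IsPReducedNormal p V → V ≤ Y)) (TL : Subgroup L) (hTL : TL = (T : Subgroup L) ⊓ Subgroup.centralizer (Y : Set L)) : (∀ g : L, ∃ a ∈ Subgroup.normalizer (TL : Set L), ∃ c ∈ Subgroup.centralizer (Y : Set L), g = a * c) ∧ (Cfsg.pCore p ↥(Subgroup.normalizer (TL : Set L))).map (Subgroup.normalizer (TL : Set L)).subtype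 = TL ∧ Y = Cfsg.omegaOne p (TL ⊓ Subgroup.centralizer (TL : Set L)) := by
  subst hTL
  have hc : CharP.IsCharP p (⊤ : Subgroup L) :=
    CharP.isCharP_of_isSubnormal hchar Subgroup.IsSubnormal.top
  have hT : CharP.IsSylIn p (T : Subgroup L) ⊤ := CharP.isSylIn_top_iff.2 ⟨T, rfl⟩
  have e : Cfsg.largestPReducedOf p (⊤ : Subgroup L) = Y :=
    CharP.largestPReducedOf_top.trans
      (le_antisymm (hY.2 _ (CharP.isPReducedNormal_largest p L)) (CharP.le_largestPReduced hY.1))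
  obtain ⟨h1, h2⟩ := CharP.largestPReducedOf_eq_omegaCentre hc hT
  rw [e] at h1 h2
  rw [top_inf_eq] at h2
  refine ⟨fun g => ?_, h2, h1⟩
  obtain ⟨a, ha, c, hcc, he⟩ := CharP.exists_mem_normalizer_mul_mem_centralizer hT
    (Y := Y) (e ▸ CharP.le_normalizer_largestPReducedOf p ⊤) (Subgroup.mem_top g)
  exact ⟨a, ha.2, c, hcc.2, he⟩

end Cfsg.Agent.S2803
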