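import Cfsg.Statements.S2804
import Cfsg.Agent.Lib.CharP.Reduced
import Cfsg.Agent.Lib.CharP.SubnormalResidual

set_option autoImplicit false
open Cfsg

namespace Cfsg.Agent.S2804

theorem red_inf {G : Type*} [Group G] [Finite G] {p : ℕ} [Fact p.Prime] {V : Subgroup G}
    (hV : Cfsg.IsPReducedNormal p V) {K : Subgroup G} (hK : K.IsSubnormal) :
    CharP.IsRed p K (V ⊓ K) ∧
      K ⊓ Subgroup.centralizer ((V ⊓ K : Subgroup G) : Set G) ≤ Subgroup.centralizer (V : Set G) := by
  obtain ⟨hVn, hVe, hVr⟩ := CharP.isPReducedNormal_iff.1 hV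
  induction hK with
  | top =>
    rw [inf_top_eq, top_inf_eq]
    exact ⟨fun N hN => hVr N (Subgroup.normalizer_eq_top_iff.1 (top_le_iff.1 hN.2.1)) hN.2.2, le_rfl⟩
  | step L K hLK _ hn ih =>
    obtain ⟨ih1, ih2⟩ := ih
    have hKV : K ≤ Subgroup.normalizer ((V ⊓ K : Subgroup G) : Set G) :=
      (le_inf (fun x _ => Subgroup.normalizer_eq_top_iff.2 hVn ▸ Subgroup.mem_top x)
        Subgroup.le_normalizer).trans Subgroup.inf_normalizer_le_normalizer_inf
    obtain ⟨h1, h2⟩ := CharP.isRed_inf_of_normal hLK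
      ((Subgroup.normal_subgroupOf_iff_le_normalizer hLK).1 hn) inf_le_right hKV
      (CharP.isElementaryAbelian_of_le hVe inf_le_left) ih1
    rw [inf_assoc, inf_eq_right.2 hLK] at h1 h2
    exact ⟨h1, fun x hx => ih2 (Subgroup.mem_inf.2 ⟨hLK (Subgroup.mem_inf.1 hx).1, h2 hx⟩)⟩


/-- Let L be a finite group and p a prime with C_L(O_p(L)) ≤ O_p(L), V a p-reduced normal subgroup of L and K a subnormal subgroup of L. Then [V, O^p(K)] is contained in K and is a p-reduced normal subgroup of K, where O^p(K) is the subgroup of K generated by its elements of order prime to p. -/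
theorem result {L : Type*} [Group L] [Finite L] {p : ℕ} [Fact p.Prime] (hchar : Subgroup.centralizer (Cfsg.pCore p L : Set L) ≤ Cfsg.pCore p L) (V : Subgroup L) (hV : Cfsg.IsPReducedNormal p V) (K : Subgroup L) (hK : K.IsSubnormal) : ⁅V, (Cfsg.pResidual p ↥K).map K.subtype⁆ ≤ K ∧ Cfsg.IsPReducedNormal p ((⁅V, (Cfsg.pResidual p ↥K).map K.subtype⁆).subgroupOf K) := by
  obtain ⟨hVn, hVe, -⟩ := CharP.isPReducedNormal_iff.1 hV
  haveI := hVn
  set O := (Cfsg.pResidual p ↥K).map K.subtype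
  set W := ⁅V, O⁆
  have hVp : IsPGroup p ↥V := CharP.isPGroup_of_isElementaryAbelian hVe
  have hOsn : O.IsSubnormal := CharP.isSubnormal_resOf hK
  have hVO : V ≤ Subgroup.normalizer (O : Set L) :=
    CharP.le_normalizer_of_resOf_eq hVp hOsn (CharP.resOf_resOf p K)
  have hOK : O ≤ K := Subgroup.map_subtype_le _
  have hVn' : ∀ g : L, g ∈ Subgroup.normalizer (V : Set L) := fun g =>
    Subgroup.normalizer_eq_top_iff.2 hVn ▸ Subgroup.mem_top g
  have hWO : W ≤ O := by
    show ⁅V, O⁆ ≤ O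
    rw [Subgroup.commutator_comm]
    exact Coprime.commutator_le_of_le_normalizer hVO
  have hWK : W ≤ K := hWO.trans hOK
  have hWV : W ≤ V := Coprime.commutator_le_of_le_normalizer fun g _ => hVn' g
  have hKO : K ≤ Subgroup.normalizer (O : Set L) :=
    Subgroup.le_normalizer.trans (CharP.le_normalizer_resOf p K)
  have hKW : K ≤ Subgroup.normalizer (W : Set L) := by
    intro g hg
    rw [Subgroup.mem_normalizer_iff_map_conj_eq]
    show (⁅V, O⁆ : Subgroup L).map (MulAut.conj g).toMonoidHom = ⁅V, O⁆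
    rw [Subgroup.map_commutator]
    exact congrArg₂ (fun a b : Subgroup L => ⁅a, b⁆)
      (Subgroup.mem_normalizer_iff_map_conj_eq.1 (hVn' g))
      (Subgroup.mem_normalizer_iff_map_conj_eq.1 (hKO hg))
  obtain ⟨hr, hC⟩ := red_inf hV hK
  have hkey : ∀ N : Subgroup L, N ≤ K → K ≤ Subgroup.normalizer (N : Set L) →
      (∀ x ∈ N, ∃ k : ℕ, x ^ p ^ k ∈ Subgroup.centralizer (W : Set L)) →
      N ≤ Subgroup.centralizer (W : Set L) := by
    intro N hNK hN hx
    have h : N ≤ Subgroup.centralizer ((V ⊓ K : Subgroup L) : Set L) := by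
      refine hr N ⟨hNK, hN, fun x hxN => ?_⟩
      obtain ⟨k, hk⟩ := hx x hxN
      obtain ⟨j, hj⟩ := Transfer.NormalPComplement.exists_pow_coprime (p := p)
        (orderOf_pos (x ^ p ^ k)).ne'
      refine ⟨k + j, Subgroup.centralizer_le (SetLike.coe_subset_coe.2 (inf_le_left : V ⊓ K ≤ V)) ?_⟩
      rw [pow_add, pow_mul]
      set y := (x ^ p ^ k) ^ p ^ j
      have hyK : y ∈ K := pow_mem (pow_mem (hNK hxN) _) _
      have hyW : y ∈ Subgroup.centralizer (W : Set L) := pow_mem hk _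
      have hyO : y ∈ O := CharP.mem_resOf_of_coprime hyK hj
      refine Coprime.le_centralizer_of_series (N := W) (fun g _ => hVn' g)
        (CharP.coprime_zpowers_of_isPGroup hVp hj) (Or.inl inferInstance)
        (Subgroup.zpowers_le.2 hyW) ?_ (Subgroup.mem_zpowers y)
      exact Subgroup.commutator_mono le_rfl (Subgroup.zpowers_le.2 hyO)
    intro y hy
    exact Subgroup.centralizer_le (SetLike.coe_subset_coe.2 hWV)
      (hC (Subgroup.mem_inf.2 ⟨hNK hy, h hy⟩))
  refine ⟨hWK, CharP.isPReducedNormal_iff.2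
    ⟨(Subgroup.normal_subgroupOf_iff_le_normalizer hWK).2 hKW,
      ⟨⟨⟨fun a b => Subtype.ext (Subtype.ext (CharP.mul_comm_of_mem hVe.1 (hWV a.2) (hWV b.2)))⟩⟩,
        fun a ha => Subtype.ext (hVe.2 _ (hWV ha))⟩, fun N hN hx => ?_⟩⟩
  intro y hy
  refine (CharP.mem_centralizer_subgroupOf hWK).2
    (hkey (N.map K.subtype) (Subgroup.map_subtype_le _) ?_ ?_ (Subgroup.mem_map_of_mem _ hy))
  · refine (Subgroup.normal_subgroupOf_iff_le_normalizer (Subgroup.map_subtype_le _)).1 ?_
    rw [Subgroup.subgroupOf, Subgroup.comap_map_eq_self_of_injective (Subgroup.subtype_injective K)]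
    exact hN
  · rintro _ ⟨z, hz, rfl⟩
    obtain ⟨k, hk⟩ := hx z hz
    exact ⟨k, (CharP.mem_centralizer_subgroupOf hWK).1 hk⟩

end Cfsg.Agent.S2804
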