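import Cfsg.Statements.S3028
import Cfsg.Agent.Lib.CharP.SubnormalResidual
import Mathlib.GroupTheory.Transfer
import Mathlib.GroupTheory.SpecificGroups.Cyclic

set_option autoImplicit false
open Cfsg

namespace Cfsg.Agent.S3028

open CharP in
theorem map_inf_sylow {G G' : Type*} [Group G] [Finite G] [Group G'] {p : ℕ} [Fact p.Prime]
    (S : Sylow p G) {C : Subgroup G} (hC : C.IsSubnormal) (f : G →* G') :
    (C ⊓ (S : Subgroup G)).map f = C.map f ⊓ (S : Subgroup G).map f := by
  set U := (C ⊓ (S : Subgroup G)).map f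
  set V := C.map f ⊓ (S : Subgroup G).map f
  have hUV : U ≤ V := le_inf (Subgroup.map_mono inf_le_left) (Subgroup.map_mono inf_le_right)
  refine le_antisymm hUV (Subgroup.relIndex_eq_one.1 ?_)
  haveI : Finite ↥(C.map f) := by
    have := Finite.of_surjective _ (f.subgroupMap_surjective C)
    exact this
  haveI : Finite ↥V :=
    Finite.of_injective _ (Subgroup.inclusion_injective (inf_le_left : V ≤ C.map f))
  obtain ⟨n, hn⟩ := ((S.isPGroup'.map f).to_le (inf_le_right : V ≤ _)).index (U.subgroupOf V)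
  have hd : U.relIndex V ∣ U.relIndex (C.map f) :=
    Dvd.intro _ (Subgroup.relIndex_mul_relIndex U V (C.map f) hUV inf_le_left)
  have hle : ((S : Subgroup G).subgroupOf C).map (f.subgroupMap C) ≤ U.subgroupOf (C.map f) := by
    rintro _ ⟨x, hx, rfl⟩
    exact Subgroup.mem_map_of_mem f (Subgroup.mem_inf.2 ⟨x.2, hx⟩)
  have hd2 : U.relIndex (C.map f) ∣ ((S : Subgroup G).subgroupOf C).index :=
    (Subgroup.index_dvd_of_le hle).trans
      (Subgroup.index_map_dvd _ (f.subgroupMap_surjective C))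
  have hnd := Cores.sylow_subgroupOf_isSubnormal S hC
  rw [show U.relIndex V = p ^ n from hn] at hd ⊢
  rcases Nat.eq_zero_or_pos n with h | h
  · rw [h, pow_zero]
  · exact absurd ((dvd_pow_self p h.ne').trans (hd.trans hd2)) hnd

open CharP in
theorem sylow_le_aux {p : ℕ} [Fact p.Prime] :
    ∀ (n : ℕ) {G : Type*} [Group G] [Finite G], Nat.card G = n → ∀ (S : Sylow p G)
      (A B : Subgroup G), A.IsSubnormal → B.IsSubnormal → A ⊔ B = ⊤ →
      (S : Subgroup G) ≤ (A ⊓ (S : Subgroup G)) ⊔ (B ⊓ (S : Subgroup G)) := by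
  intro n
  induction n using Nat.strongRecOn with | ind n ih => ?_
  intro G _ _ hn S A B hA hB htop
  set T := (A ⊓ (S : Subgroup G)) ⊔ (B ⊓ (S : Subgroup G))
  have hTS : T ≤ (S : Subgroup G) := sup_le inf_le_right inf_le_right
  by_cases hR : Cfsg.pResidual p G = ⊤
  · rcases subsingleton_or_nontrivial G with h | h
    · exact fun x _ => (Subsingleton.elim (α := G) 1 x) ▸ one_mem _
    obtain ⟨M, hMn, hM, hmin⟩ := exists_minimal_normal_top (G := G)
    have hlt : Nat.card (G ⧸ M) < n := by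
      rw [← hn, Subgroup.card_eq_card_quotient_mul_card_subgroup M]
      exact lt_mul_of_one_lt_right Nat.card_pos ((Subgroup.one_lt_card_iff_ne_bot _).mpr hM)
    have hπ : Function.Surjective (QuotientGroup.mk' M) := QuotientGroup.mk'_surjective M
    have hSTM : (S : Subgroup G) ≤ T ⊔ M := by
      have h := ih _ hlt rfl (S.mapSurjective hπ) _ _ (hA.quotient (K := M)) (hB.quotient (K := M))
        (by rw [← Subgroup.map_sup, htop, Subgroup.map_top_of_surjective _ hπ])
      rw [Sylow.coe_mapSurjective, ← map_inf_sylow S hA, ← map_inf_sylow S hB, ← Subgroup.map_sup,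
        Subgroup.map_le_iff_le_comap, Subgroup.comap_map_eq, QuotientGroup.ker_mk'] at h
      exact h
    have hSM : ∀ x ∈ (S : Subgroup G), ∃ t ∈ T, ∃ m ∈ M ⊓ (S : Subgroup G), t * m = x := by
      intro x hx
      obtain ⟨t, ht, m, hm, rfl⟩ := exists_mul_of_mem_sup (hSTM hx)
      refine ⟨t, ht, m, Subgroup.mem_inf.2 ⟨hm, ?_⟩, rfl⟩
      simpa using mul_mem (inv_mem (hTS ht)) hx
    suffices key : M ⊓ (S : Subgroup G) ≤ T by
      intro x hx
      obtain ⟨t, ht, m, hm, rfl⟩ := hSM x hx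
      exact mul_mem ht (key hm)
    rcases minimal_normal_inf_sup hA hB htop hM hmin with hW | ⟨hq, hcent⟩
    · -- a product of two normal subgroups of `M`
      set X := (M ⊓ A).subgroupOf M
      set Y := (M ⊓ B).subgroupOf M
      haveI hXn : X.Normal := by
        rw [Subgroup.normal_subgroupOf_iff_le_normalizer inf_le_left]
        intro m hm
        rw [Subgroup.mem_normalizer_iff]
        intro x
        have h1 := Subnormal.Join.le_normalizer_of_isSubnormal hA hM hmin hm
        rw [Subgroup.mem_inf, Subgroup.mem_inf, (Subgroup.mem_normalizer_iff.1 h1 x),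
          ‹M.Normal›.mem_comm_iff]
        rw [inv_mul_cancel_left]
      have hYs : Y.IsSubnormal := by
        show ((M ⊓ B).subgroupOf M).IsSubnormal
        rw [inf_comm, Subgroup.inf_subgroupOf_right]
        exact hB.subgroupOf
      have htopM : X ⊔ Y = ⊤ := by
        rw [← Subgroup.subgroupOf_sup inf_le_left inf_le_left, hW, Subgroup.subgroupOf_self]
      obtain ⟨P, hP⟩ : ∃ P : Sylow p ↥M, (P : Subgroup ↥M) = (S : Subgroup G).subgroupOf M :=
        ⟨(S.isPGroup'.comap_subtype).toSylow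
          (Cores.sylow_subgroupOf_isSubnormal S hMn.isSubnormal), rfl⟩
      have hYtop : Y.map (QuotientGroup.mk' X) = ⊤ := by
        rw [← Subgroup.map_top_of_surjective _ (QuotientGroup.mk'_surjective X), ← htopM,
          Subgroup.map_sup, QuotientGroup.map_mk'_self, bot_sup_eq]
      have hPY := map_inf_sylow P hYs (QuotientGroup.mk' X)
      rw [hYtop, top_inf_eq] at hPY
      rintro x ⟨hxM, hxS⟩
      have hxP : (⟨x, hxM⟩ : ↥M) ∈ (P : Subgroup ↥M) := by rw [hP]; exact hxS
      obtain ⟨y, hy, hyx⟩ := le_of_eq hPY.symm (Subgroup.mem_map_of_mem _ hxP)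
      obtain ⟨hyY, hyP⟩ := Subgroup.mem_inf.1 hy
      rw [hP] at hyP
      have h1 : y⁻¹ * (⟨x, hxM⟩ : ↥M) ∈ X := QuotientGroup.eq.1 hyx
      have h2 : (y : G)⁻¹ * x ∈ A ⊓ (S : Subgroup G) :=
        Subgroup.mem_inf.2 ⟨(Subgroup.mem_inf.1 h1).2, mul_mem (inv_mem hyP) hxS⟩
      have := mul_mem ((le_sup_right : _ ≤ T) (Subgroup.mem_inf.2 ⟨(Subgroup.mem_inf.1 hyY).2, hyP⟩))
        ((le_sup_left : _ ≤ T) h2)
      simpa using this
    · -- `M` is central of prime order
      by_contra hnot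
      haveI := Fact.mk hq
      obtain ⟨z, hz, hzT⟩ := SetLike.not_le_iff_exists.1 hnot
      have hz1 : z ≠ 1 := fun h => hzT (h ▸ one_mem T)
      have hzS := hz.2
      have hzo : orderOf z = Nat.card M :=
        ((Nat.dvd_prime hq).1 (M.orderOf_dvd_natCard hz.1)).resolve_left
          (fun h => hz1 (orderOf_eq_one_iff.1 h))
      have hMz : M = Subgroup.zpowers z :=
        (Subgroup.eq_of_le_of_card_ge (Subgroup.zpowers_le.2 hz.1)
          (by rw [Nat.card_zpowers, hzo])).symm
      obtain ⟨k, hk⟩ := S.isPGroup' ⟨z, hzS⟩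
      have hqp : Nat.card M = p := by
        have h1 : orderOf z ∣ p ^ k := orderOf_dvd_of_pow_eq_one (congrArg Subtype.val hk)
        rw [hzo] at h1
        exact (Nat.prime_dvd_prime_iff_eq hq Fact.out).1 (hq.dvd_of_dvd_pow h1)
      set Ts := T.subgroupOf (S : Subgroup G)
      have hgen : ∀ x : ↥(S : Subgroup G), ∃ t : ↥(S : Subgroup G), t ∈ Ts ∧ ∃ i : ℤ,
          x = t * ⟨z, hzS⟩ ^ i := by
        intro x
        obtain ⟨t, ht, m, hm, e⟩ := hSM x x.2
        obtain ⟨i, rfl⟩ := Subgroup.mem_zpowers_iff.1 (hMz ▸ hm.1 : m ∈ Subgroup.zpowers z)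
        exact ⟨⟨t, hTS ht⟩, ht, i, Subtype.ext e.symm⟩
      haveI hTn : Ts.Normal := by
        refine ⟨fun a ha x => ?_⟩
        obtain ⟨t, ht, i, rfl⟩ := hgen x
        have hc : ∀ b : ↥(S : Subgroup G), Commute b (⟨z, hzS⟩ ^ i) := fun b =>
          (show Commute b ⟨z, hzS⟩ from Subtype.ext (hcent b z hz.1)).zpow_right i
        rw [mul_inv_rev, mul_assoc t, ← (hc a).eq, mul_assoc, mul_assoc, mul_inv_cancel_left,
          ← mul_assoc]
        exact mul_mem (mul_mem ht ha) (inv_mem ht)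
      haveI : IsCyclic (↥(S : Subgroup G) ⧸ Ts) := by
        refine ⟨((⟨z, hzS⟩ : ↥(S : Subgroup G)) : _ ⧸ Ts), fun x => ?_⟩
        obtain ⟨x, rfl⟩ := QuotientGroup.mk_surjective x
        obtain ⟨t, ht, i, rfl⟩ := hgen x
        refine ⟨i, ?_⟩
        simp [(QuotientGroup.eq_one_iff t).2 ht]
      letI : CommGroup (↥(S : Subgroup G) ⧸ Ts) := IsCyclic.commGroup
      set φ := QuotientGroup.mk' Ts
      have hkey : ∀ (k : ℕ) (g₀ : G), g₀⁻¹ * z ^ k * g₀ ∈ (S : Subgroup G) →
          g₀⁻¹ * z ^ k * g₀ = z ^ k := by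
        intro k g₀ _
        rw [mul_assoc, ← (show Commute g₀ (z ^ k) from (show Commute g₀ z from
          hcent g₀ z hz.1).pow_right k).eq, inv_mul_cancel_left]
      have hV1 : MonoidHom.transfer φ z = 1 := by
        have h := Cores.map_pResidual_le (MonoidHom.transfer φ) p
        rw [hR, (Cores.pResidual_eq_bot_iff p).2 (S.isPGroup'.to_quotient Ts)] at h
        exact (Subgroup.mem_bot).1 (h ⟨z, Subgroup.mem_top z, rfl⟩)
      rw [MonoidHom.transfer_eq_pow φ z hkey] at hV1
      have h1 : z ^ (S : Subgroup G).index ∈ T :=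
        ((QuotientGroup.eq_one_iff (N := Ts) ⟨z ^ (S : Subgroup G).index,
          MonoidHom.transfer_eq_pow_aux z hkey⟩).1 hV1 :)
      have h2 : z ^ p ∈ T := by
        rw [← hqp, ← hzo, pow_orderOf_eq_one]
        exact one_mem T
      have h3 := pow_gcd_mem z h1 h2
      rw [show Nat.gcd (S : Subgroup G).index p = 1 from
        ((Fact.out : p.Prime).coprime_iff_not_dvd.2 S.not_dvd_index).symm, pow_one] at h3
      exact hzT h3
  · set R := Cfsg.pResidual p G with hRdef
    have hlt : Nat.card R < n := hn ▸ lt_of_le_of_ne (Subgroup.card_le_card_group R)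
      fun h => hR (Subgroup.eq_top_of_card_eq R h)
    have hRA : resOf p A ≤ R := resOf_le_pResidual p A
    have hRB : resOf p B ≤ R := resOf_le_pResidual p B
    obtain ⟨P, hP⟩ : ∃ P : Sylow p ↥R, (P : Subgroup ↥R) = (S : Subgroup G).subgroupOf R :=
      ⟨(S.isPGroup'.comap_subtype).toSylow (Cores.sylow_subgroupOf_isSubnormal S
        (inferInstance : (Cfsg.pResidual p G).Normal).isSubnormal), rfl⟩
    have hjoin : resOf p A ⊔ resOf p B = R := by
      rw [← resOf_sup hA hB, htop, resOf_top]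
    have h := ih _ hlt rfl P ((resOf p A).subgroupOf R) ((resOf p B).subgroupOf R)
      (isSubnormal_resOf hA).subgroupOf (isSubnormal_resOf hB).subgroupOf
      (by rw [← Subgroup.subgroupOf_sup hRA hRB, hjoin, Subgroup.subgroupOf_self])
    rw [hP] at h
    have hRS : R ⊓ (S : Subgroup G) ≤ T := by
      have h' := Subgroup.map_mono (f := R.subtype) h
      rw [Subgroup.subgroupOf_map_subtype, Subgroup.map_sup, Subgroup.map_inf _ _ _ R.subtype_injective,
        Subgroup.map_inf _ _ _ R.subtype_injective, Subgroup.map_subgroupOf_eq_of_le hRA,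
        Subgroup.map_subgroupOf_eq_of_le hRB, inf_comm] at h'
      refine h'.trans (sup_le_sup ?_ ?_)
      · exact inf_le_inf (resOf_le p A) (Subgroup.map_le_iff_le_comap.2 fun x hx => hx)
      · exact inf_le_inf (resOf_le p B) (Subgroup.map_le_iff_le_comap.2 fun x hx => hx)
    have hcov : ∀ C : Subgroup G, C.IsSubnormal → C ≤ R ⊔ (C ⊓ (S : Subgroup G)) := by
      intro C hC
      set Q : Sylow p ↥C :=
        (S.isPGroup'.comap_subtype).toSylow (Cores.sylow_subgroupOf_isSubnormal S hC)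
      intro x hx
      have h1 : (⟨x, hx⟩ : ↥C) ∈ (Q : Subgroup ↥C) ⊔ Cfsg.pResidual p ↥C :=
        Cores.pResidual_le_sylow_sup Q ▸ Subgroup.mem_top _
      have h2 := Subgroup.mem_map_of_mem C.subtype h1
      rw [Subgroup.map_sup, show ((Q : Subgroup ↥C).map C.subtype) = C ⊓ (S : Subgroup G) by
        rw [← inf_comm]; exact Subgroup.subgroupOf_map_subtype _ _] at h2
      exact sup_le le_sup_right ((resOf_le_pResidual p C).trans le_sup_left) h2
    have hall : (⊤ : Subgroup G) ≤ R ⊔ T := htop ▸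
      sup_le ((hcov A hA).trans (sup_le_sup_left le_sup_left R))
        ((hcov B hB).trans (sup_le_sup_left le_sup_right R))
    intro x hx
    have h1 : x ∈ T ⊔ R := sup_comm R T ▸ hall (Subgroup.mem_top x)
    obtain ⟨t, ht, r, hr, rfl⟩ := exists_mul_of_mem_sup h1
    refine mul_mem ht (hRS (Subgroup.mem_inf.2 ⟨hr, ?_⟩))
    simpa using mul_mem (inv_mem (hTS ht)) hx


/-- Let G be a finite group, p a prime, S a Sylow p-subgroup of G and A₁, A₂ subnormal subgroups of G. Then the join of S ∩ A₁ and S ∩ A₂ is a Sylow p-subgroup of the join of A₁ and A₂; equivalently ⟨A₁, A₂⟩ ∩ S = ⟨A₁ ∩ S, A₂ ∩ S⟩. -/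
theorem result {G : Type*} [Group G] [Finite G] {p : ℕ} [Fact p.Prime] (S : Sylow p G) (A₁ A₂ : Subgroup G)
    (h₁ : A₁.IsSubnormal) (h₂ : A₂.IsSubnormal) :
    (A₁ ⊔ A₂) ⊓ (S : Subgroup G) = (A₁ ⊓ (S : Subgroup G)) ⊔ (A₂ ⊓ (S : Subgroup G)) := by
  refine le_antisymm ?_ (sup_le (inf_le_inf_right _ le_sup_left) (inf_le_inf_right _ le_sup_right))
  set J := A₁ ⊔ A₂
  set P : Sylow p ↥J := (S.isPGroup'.comap_subtype).toSylow
    (Cores.sylow_subgroupOf_isSubnormal S (Subnormal.Join.isSubnormal_sup h₁ h₂))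
  have h := sylow_le_aux _ rfl P (A₁.subgroupOf J) (A₂.subgroupOf J) h₁.subgroupOf h₂.subgroupOf
    (by rw [← Subgroup.subgroupOf_sup le_sup_left le_sup_right, Subgroup.subgroupOf_self])
  have h' := Subgroup.map_mono (f := J.subtype) h
  rw [show (P : Subgroup ↥J).map J.subtype = J ⊓ (S : Subgroup G) by
      rw [← inf_comm]; exact Subgroup.subgroupOf_map_subtype _ _,
    Subgroup.map_sup, Subgroup.map_inf _ _ _ J.subtype_injective,
    Subgroup.map_inf _ _ _ J.subtype_injective, Subgroup.map_subgroupOf_eq_of_le le_sup_left,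
    Subgroup.map_subgroupOf_eq_of_le le_sup_right] at h'
  refine h'.trans (sup_le_sup ?_ ?_) <;>
  · refine inf_le_inf le_rfl ?_
    rintro _ ⟨x, hx, rfl⟩
    exact hx

end Cfsg.Agent.S3028
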