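import Cfsg.Statements.S2806
import Cfsg.Agent.Lib.CharP.OmegaCentre
import Cfsg.Agent.S3028
import Cfsg.Agent.Lib.Subnormal.Join

set_option autoImplicit false
open Cfsg

namespace Cfsg.Agent.S2806

theorem isCharP_inf {H : Type*} [Group H] [Finite H] {p : ℕ} [Fact p.Prime]
    {X : Subgroup H} (hX : CharP.IsCharP p X) {L : Subgroup H} (hL : L.IsSubnormal) :
    CharP.IsCharP p (L ⊓ X) := by
  induction hL with
  | top => rwa [top_inf_eq]
  | step L K hLK _ hn ih =>
    exact CharP.isCharP_of_normal ih (inf_le_inf_right X hLK)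
      ((le_inf (inf_le_left.trans ((Subgroup.normal_subgroupOf_iff_le_normalizer hLK).1 hn))
        (inf_le_right.trans Subgroup.le_normalizer)).trans Subgroup.inf_normalizer_le_normalizer_inf)

theorem isSylIn_inf {H : Type*} [Group H] [Finite H] {p : ℕ} [Fact p.Prime]
    (T : Sylow p H) {L : Subgroup H} (hL : L.IsSubnormal) :
    CharP.IsSylIn p ((T : Subgroup H) ⊓ L) L := by
  refine CharP.isSylIn_of_not_dvd (T.isPGroup'.to_le inf_le_left) inf_le_right ?_
  rw [Subgroup.inf_relIndex_right]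
  exact Cores.sylow_subgroupOf_isSubnormal T hL

theorem centralizer_eq {H : Type*} [Group H] [Finite H] {p : ℕ} [Fact p.Prime]
    (hH : Cfsg.IsOfLocalCharacteristic p H) (T : Sylow p H) {L : Subgroup H} (hL : L.IsSubnormal)
    (hne : (T : Subgroup H) ⊓ L ≠ ⊥) :
    L ⊓ Subgroup.centralizer (CharP.omegaCentre p (T : Subgroup H) : Set H) =
      L ⊓ Subgroup.centralizer (CharP.omegaCentre p ((T : Subgroup H) ⊓ L) : Set H) := by
  induction hL with
  | top => rw [inf_top_eq]
  | step L K hLK hK hn ih =>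
    have hKne : (T : Subgroup H) ⊓ K ≠ ⊥ := fun h =>
      hne (le_bot_iff.1 (h ▸ inf_le_inf_left _ hLK))
    specialize ih hKne
    set SK := (T : Subgroup H) ⊓ K
    set S := (T : Subgroup H) ⊓ L
    have hKL : K ≤ Subgroup.normalizer (L : Set H) :=
      (Subgroup.normal_subgroupOf_iff_le_normalizer hLK).1 hn
    have hSS : S ≤ SK := inf_le_inf_left _ hLK
    have hSn : SK ≤ Subgroup.normalizer (S : Set H) :=
      (le_inf (inf_le_left.trans Subgroup.le_normalizer) (inf_le_right.trans hKL)).trans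
        Subgroup.inf_normalizer_le_normalizer_inf
    have hSKp : IsPGroup p ↥SK := T.isPGroup'.to_le inf_le_left
    obtain ⟨z, hzS, hzo, hzc⟩ := CharP.exists_order_prime_central hSKp hSS hSn hne
    have hzp : z ^ p = 1 := by rw [← hzo, pow_orderOf_eq_one]
    have hzZK : z ∈ CharP.omegaCentre p SK :=
      Subgroup.subset_closure ⟨Subgroup.mem_inf.2 ⟨hSS hzS, hzc⟩, hzp⟩
    have hzZL : z ∈ CharP.omegaCentre p S := Subgroup.subset_closure ⟨Subgroup.mem_inf.2
      ⟨hzS, Subgroup.centralizer_le (SetLike.coe_subset_coe.2 hSS) hzc⟩, hzp⟩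
    set X := Subgroup.centralizer ({z} : Set H)
    have hz1 : Subgroup.zpowers z ≠ ⊥ := fun h => (Fact.out : p.Prime).ne_one (by
      rw [← hzo, ← Nat.card_zpowers, h, Subgroup.card_bot])
    have hzpg : IsPGroup p ↥(Subgroup.zpowers z) :=
      IsPGroup.of_card (n := 1) (by rw [Nat.card_zpowers, hzo, pow_one])
    have hX : CharP.IsCharP p X := CharP.centralizer_singleton_isCharP_of_normalizer
      ((CharP.isCharP_iff _).2 (hH.2 _ hzpg hz1))
    have hSKX : SK ≤ X := fun s hs =>
      Subgroup.mem_centralizer_singleton_iff.2 (hzc s hs)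
    have hCK : Subgroup.centralizer (CharP.omegaCentre p SK : Set H) ≤ X :=
      Subgroup.centralizer_le (Set.singleton_subset_iff.2 hzZK)
    have hCL : Subgroup.centralizer (CharP.omegaCentre p S : Set H) ≤ X :=
      Subgroup.centralizer_le (Set.singleton_subset_iff.2 hzZL)
    have hKX : CharP.IsCharP p (K ⊓ X) := isCharP_inf hX hK
    have h := CharP.inf_centralizer_omegaCentre_eq hKX (inf_le_inf_right X hLK)
      ((le_inf (inf_le_left.trans hKL) (inf_le_right.trans Subgroup.le_normalizer)).trans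
        Subgroup.inf_normalizer_le_normalizer_inf)
      ((isSylIn_inf T hK).mono (le_inf inf_le_right hSKX) inf_le_left)
    have e : SK ⊓ (L ⊓ X) = S := by
      show ((T : Subgroup H) ⊓ K) ⊓ (L ⊓ X) = (T : Subgroup H) ⊓ L
      rw [← inf_assoc, inf_assoc (T : Subgroup H) K L, inf_eq_right.2 hLK]
      exact inf_eq_left.2 (hSS.trans hSKX)
    rw [e, inf_assoc, inf_eq_right.2 hCK, inf_assoc, inf_eq_right.2 hCL] at h
    rw [← h]
    calc L ⊓ Subgroup.centralizer (CharP.omegaCentre p (T : Subgroup H) : Set H)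
        = L ⊓ (K ⊓ Subgroup.centralizer (CharP.omegaCentre p (T : Subgroup H) : Set H)) := by
          rw [← inf_assoc, inf_eq_left.2 hLK]
      _ = L ⊓ (K ⊓ Subgroup.centralizer (CharP.omegaCentre p SK : Set H)) := by rw [ih]
      _ = _ := by rw [← inf_assoc, inf_eq_left.2 hLK]

theorem pointStabilizer_eq {H : Type*} [Group H] [Finite H] {p : ℕ} [Fact p.Prime]
    (hH : Cfsg.IsOfLocalCharacteristic p H) (T : Sylow p H) {L : Subgroup H} (hL : L.IsSubnormal) :
    Cfsg.pointStabilizer p L ((T : Subgroup H) ⊓ L) = Cfsg.pElementClosure p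
      (L ⊓ Subgroup.centralizer (CharP.omegaCentre p (T : Subgroup H) : Set H)) := by
  show Cfsg.pElementClosure p
    (L ⊓ Subgroup.centralizer (CharP.omegaCentre p ((T : Subgroup H) ⊓ L) : Set H)) = _
  by_cases hne : (T : Subgroup H) ⊓ L = ⊥
  · have h1 := (isSylIn_inf T hL).not_dvd
    rw [hne, Subgroup.relIndex_bot_left] at h1
    have key : ∀ A : Subgroup H, A ≤ L → Cfsg.pElementClosure p A = ⊥ := by
      intro A hA
      refine le_bot_iff.1 ((Subgroup.closure_le _).2 ?_)
      rintro x ⟨hx, k, hk⟩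
      have hd : p ^ k ∣ Nat.card L := hk ▸ L.orderOf_dvd_natCard (hA hx)
      rcases Nat.eq_zero_or_pos k with rfl | hk0
      · rw [pow_zero, orderOf_eq_one_iff] at hk
        exact Subgroup.mem_bot.2 hk
      · exact absurd ((dvd_pow_self p hk0.ne').trans hd) h1
    rw [key _ inf_le_left, key _ inf_le_left]
  · rw [centralizer_eq hH T hL hne]

theorem mem_of_isSubnormal {H : Type*} [Group H] [Finite H] {p : ℕ} [Fact p.Prime]
    {J : Subgroup H} (hJ : J.IsSubnormal) (hidx : ¬ p ∣ J.index) {x : H}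
    (hx : ∃ k : ℕ, orderOf x = p ^ k) : x ∈ J := by
  obtain ⟨k, hk⟩ := hx
  obtain ⟨S, hS⟩ := (IsPGroup.of_card (p := p) (n := k)
    (by rw [Nat.card_zpowers, hk]) : IsPGroup p ↥(Subgroup.zpowers x)).exists_le_sylow
  have h := Cores.sylow_subgroupOf_isSubnormal S hJ
  obtain ⟨a, ha⟩ := IsPGroup.iff_card.1 S.isPGroup'
  have h1 := Subgroup.card_mul_index ((S : Subgroup H).subgroupOf J)
  have h2 := Subgroup.card_mul_index J
  have h3 : p ^ a ∣ Nat.card J * J.index := h2 ▸ ha ▸ Subgroup.card_subgroup_dvd_card _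
  have hc : ∀ m : ℕ, ¬ p ∣ m → Nat.Coprime (p ^ a) m := fun m hm =>
    Nat.Coprime.pow_left a ((Fact.out : p.Prime).coprime_iff_not_dvd.2 hm)
  have h4 : p ^ a ∣ Nat.card ↥((S : Subgroup H).subgroupOf J) := by
    have := (hc _ hidx).dvd_of_dvd_mul_right h3
    rw [← h1] at this
    exact (hc _ h).dvd_of_dvd_mul_right this
  rw [← Subgroup.inf_subgroupOf_right, Nat.card_congr
    (Subgroup.subgroupOfEquivOfLe (inf_le_right : (S : Subgroup H) ⊓ J ≤ J)).toEquiv] at h4
  have h5 : (S : Subgroup H) ⊓ J = (S : Subgroup H) := Subgroup.eq_of_le_of_card_ge inf_le_left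
    (ha ▸ Nat.le_of_dvd Nat.card_pos h4)
  exact (inf_eq_left.1 h5) (hS (Subgroup.mem_zpowers x))


/-- Let H be a finite group of local characteristic p, T a Sylow p-subgroup, and L₁, L₂ subnormal subgroups of H generating the subgroup L. Then the point stabilizer of L with respect to T ∩ L is generated by the point stabilizers of L₁ and L₂ with respect to T ∩ L₁ and T ∩ L₂ (point stabilizer of X w.r.t. R: the subgroup generated by the p-elements of X centralizing Ω₁(Z(R))). -/
theorem result {H : Type*} [Group H] [Finite H] {p : ℕ} [Fact p.Prime] (hH : Cfsg.IsOfLocalCharacteristic p H) (T : Sylow p H) (L₁ L₂ : Subgroup H) (h₁ : L₁.IsSubnormal) (h₂ : L₂.IsSubnormal) : Cfsg.pointStabilizer p (L₁ ⊔ L₂) ((T : Subgroup H) ⊓ (L₁ ⊔ L₂)) = Cfsg.pointStabilizer p L₁ ((T : Subgroup H) ⊓ L₁) ⊔ Cfsg.pointStabilizer p L₂ ((T : Subgroup H) ⊓ L₂) := by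
  have h12 := Subnormal.Join.isSubnormal_sup h₁ h₂
  rw [pointStabilizer_eq hH T h12, pointStabilizer_eq hH T h₁, pointStabilizer_eq hH T h₂]
  set C := Subgroup.centralizer (CharP.omegaCentre p (T : Subgroup H) : Set H)
  set P₁ := Cfsg.pElementClosure p (L₁ ⊓ C)
  set P₂ := Cfsg.pElementClosure p (L₂ ⊓ C)
  set X := (L₁ ⊔ L₂) ⊓ C
  have hTC : (T : Subgroup H) ≤ C :=
    Subgroup.le_centralizer_iff.1 (CharP.omegaCentre_le_centralizer p _)
  have hle : ∀ A : Subgroup H, A ≤ X →
      Cfsg.pElementClosure p A ≤ Cfsg.pElementClosure p X := fun A hA =>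
    Subgroup.closure_mono fun x hx => ⟨hA hx.1, hx.2⟩
  refine le_antisymm ?_ (sup_le (hle _ (inf_le_inf_right C le_sup_left))
    (hle _ (inf_le_inf_right C le_sup_right)))
  have hP1 : P₁ ≤ X := (CharP.pElementClosure_le p _).trans (inf_le_inf_right C le_sup_left)
  have hP2 : P₂ ≤ X := (CharP.pElementClosure_le p _).trans (inf_le_inf_right C le_sup_right)
  have hsn : ∀ L : Subgroup H, L.IsSubnormal → L ⊓ C ≤ X →
      ((Cfsg.pElementClosure p (L ⊓ C)).subgroupOf X).IsSubnormal := by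
    intro L hL hLX
    have h1 : ((L ⊓ C).subgroupOf X).IsSubnormal := by
      have e : (L ⊓ C).subgroupOf X = L.subgroupOf X := by
        rw [← Subgroup.inf_subgroupOf_right (L ⊓ C) X, ← Subgroup.inf_subgroupOf_right L X]
        congr 1
        exact le_antisymm (inf_le_inf_right X inf_le_left)
          (le_inf (le_inf inf_le_left (inf_le_right.trans inf_le_right)) inf_le_right)
      rw [e]
      exact hL.subgroupOf
    have hle' := CharP.pElementClosure_le p (L ⊓ C)
    refine Subgroup.IsSubnormal.step _ _ (Subgroup.comap_mono hle') h1 ?_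
    refine (Subgroup.normal_subgroupOf_iff_le_normalizer (Subgroup.comap_mono hle')).2 ?_
    intro g hg
    show g ∈ Subgroup.normalizer
      (((Cfsg.pElementClosure p (L ⊓ C)).subgroupOf X : Subgroup ↥X) : Set ↥X)
    rw [← Subgroup.subgroupOf_normalizer_eq (hle'.trans hLX)]
    exact CharP.le_normalizer_pElementClosure p _ hg
  have hJsn : ((P₁ ⊔ P₂).subgroupOf X).IsSubnormal := by
    rw [Subgroup.subgroupOf_sup hP1 hP2]
    exact Subnormal.Join.isSubnormal_sup (hsn L₁ h₁ (inf_le_inf_right C le_sup_left))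
      (hsn L₂ h₂ (inf_le_inf_right C le_sup_right))
  have hTX : (T : Subgroup H) ⊓ (L₁ ⊔ L₂) ≤ P₁ ⊔ P₂ := by
    rw [inf_comm, S3028.result T L₁ L₂ h₁ h₂]
    refine sup_le_sup ?_ ?_ <;>
    · exact CharP.le_pElementClosure (T.isPGroup'.to_le inf_le_right)
        (le_inf inf_le_left (inf_le_right.trans hTC))
  have hidx : ¬ p ∣ ((P₁ ⊔ P₂).subgroupOf X).index := by
    intro hd
    have h := ((isSylIn_inf T h12).mono (le_inf inf_le_right (inf_le_left.trans hTC))
      inf_le_left : CharP.IsSylIn p ((T : Subgroup H) ⊓ (L₁ ⊔ L₂)) X).not_dvd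
    exact h (hd.trans (Subgroup.relIndex_dvd_of_le_left X hTX))
  refine (Subgroup.closure_le _).2 ?_
  rintro x ⟨hx, k, hk⟩
  exact (mem_of_isSubnormal hJsn hidx (x := ⟨x, hx⟩) ⟨k, by rw [Subgroup.orderOf_mk, hk]⟩ :)

end Cfsg.Agent.S2806
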