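import Cfsg.Statements.S2807
import Cfsg.Agent.Lib.Fusion.Yoshida
import Cfsg.Agent.Lib.Fusion.Group
import Cfsg.Agent.Lib.Transfer.Fusion

set_option autoImplicit false
open Cfsg
open scoped commutatorElement

namespace Cfsg.Agent.S2807

theorem wreath_equiv (G : Type) [Group G] : Nonempty (G ≀ᵣ G ≃* IteratedWreathProduct G 2) := by
  let r : IteratedWreathProduct G 1 ≃* G :=
    MulEquiv.ofBijective (RegularWreathProduct.rightHom (D := PUnit) (Q := G))
      ⟨fun a b h => RegularWreathProduct.ext (funext fun _ => rfl) h, fun g => ⟨⟨1, g⟩, rfl⟩⟩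
  exact ⟨(RegularWreathProduct.congr r (MulEquiv.refl G)).symm⟩

open Cfsg.FusionSystem Cfsg.Agent.Fusion.Basic in
theorem focal_eq {G : Type*} [Group G] [Finite G] {p : ℕ} [Fact p.Prime] (S : Sylow p G) :
    (groupFusionSystem (S : Subgroup G)).focalSubgroup = (S : Subgroup G) ⊓ commutator G := by
  apply le_antisymm
  · refine (Subgroup.closure_le _).2 ?_
    rintro _ ⟨P, φ, x, ⟨hP, hS, g, he⟩, rfl⟩
    refine ⟨Subgroup.mul_mem _ (Subgroup.inv_mem _ (hP x.2)) (hS x), ?_⟩
    show (x : G)⁻¹ * φ x ∈ commutator G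
    rw [he, show (x : G)⁻¹ * (g * x * g⁻¹) = ⁅(x : G)⁻¹, g⁆ by rw [commutatorElement_def]; group]
    exact Subgroup.commutator_mem_commutator (Subgroup.mem_top _) (Subgroup.mem_top g)
  · rw [inf_comm]
    refine Cfsg.Agent.Transfer.Fusion.focal_le_of_fusion S fun x hx g hg => ⟨g, rfl, ?_⟩
    have hz : Subgroup.zpowers x⁻¹ ≤ (S : Subgroup G) := Subgroup.zpowers_le.2 (inv_mem hx)
    have hmap : IsMap (groupFusionSystem (S : Subgroup G)) (Subgroup.zpowers x⁻¹) (cj g) := by
      refine Cfsg.Agent.Fusion.Group.isMap_group_iff.2 ⟨hz, fun y hy => ?_, g, fun _ _ => rfl⟩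
      obtain ⟨k, rfl⟩ := Subgroup.mem_zpowers_iff.1 hy
      rw [cj_apply, ← conj_zpow]
      refine Subgroup.zpow_mem _ ?_ k
      rw [← conj_inv]
      exact Subgroup.inv_mem _ hg
    refine Subgroup.subset_closure ⟨_, hmap.hom, ⟨x⁻¹, Subgroup.mem_zpowers _⟩, hmap.hom_mem_self, ?_⟩
    show ⁅x, g⁆ = x⁻¹⁻¹ * cj g x⁻¹
    rw [cj_apply, commutatorElement_def]
    group


/-- Let S be a Sylow p-subgroup of the finite group G. If S ∩ G' ≠ S ∩ (N_G(S))' (derived subgroups), then the wreath product Z_p ≀ Z_p — realised as a Sylow p-subgroup of the symmetric group of degree p² — is a homomorphic image of S. -/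
theorem result {G : Type*} [Group G] [Finite G] {p : ℕ} [Fact p.Prime] (S : Sylow p G) (h : (S : Subgroup G) ⊓ commutator G ≠ (S : Subgroup G) ⊓ ⁅Subgroup.normalizer ((S : Subgroup G) : Set G), Subgroup.normalizer ((S : Subgroup G) : Set G)⁆) : ∃ (P : Sylow p (Equiv.Perm (Fin (p ^ 2)))) (f : ↥(S : Subgroup G) →* ↥(P : Subgroup (Equiv.Perm (Fin (p ^ 2))))), Function.Surjective f := by
  set K := (S : Subgroup G) ⊓ ⁅Subgroup.normalizer ((S : Subgroup G) : Set G),
    Subgroup.normalizer ((S : Subgroup G) : Set G)⁆ with hK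
  have hfoc := focal_eq S
  have h3 : ∀ f : G → G, Cfsg.Agent.Fusion.Basic.IsMap (Cfsg.groupFusionSystem (S : Subgroup G)) (S : Subgroup G) f →
      ∀ x ∈ (S : Subgroup G), x⁻¹ * f x ∈ K := by
    intro f hf x hx
    obtain ⟨-, hfS, g, hg⟩ := Cfsg.Agent.Fusion.Group.isMap_group_iff.1 hf
    have hgN : g ∈ Subgroup.normalizer ((S : Subgroup G) : Set G) := by
      rw [Subgroup.mem_normalizer_iff_map_conj_eq]
      refine Subgroup.eq_of_le_of_card_ge ?_
        (Subgroup.card_map_of_injective (MulAut.conj g).injective).ge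
      rintro _ ⟨y, hy, rfl⟩
      have := hfS y hy
      rwa [hg y hy] at this
    refine ⟨Subgroup.mul_mem _ (Subgroup.inv_mem _ hx) (hfS x hx), ?_⟩
    show x⁻¹ * f x ∈ _
    rw [hg x hx, Cfsg.Agent.Fusion.Basic.cj_apply,
      show x⁻¹ * (g * x * g⁻¹) = ⁅x⁻¹, g⁆ by rw [commutatorElement_def]; group]
    exact Subgroup.commutator_mem_commutator (inv_mem (Subgroup.le_normalizer hx)) hgN
  obtain ⟨f, hf⟩ := Cfsg.Agent.Fusion.Yoshida.yoshida (K := K) S.2
    (Cfsg.Agent.Fusion.Group.group_saturated S)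
    (le_inf (Subgroup.commutator_le_self _)
      (Subgroup.commutator_mono Subgroup.le_normalizer Subgroup.le_normalizer))
    (by rw [hfoc]; exact inf_le_inf_left _ (Subgroup.commutator_mono le_top le_top))
    h3 (by rw [hfoc]; exact Ne.symm h)
  obtain ⟨W⟩ : Nonempty (Sylow p (Equiv.Perm (Fin (p ^ 2)))) := Sylow.nonempty
  let C := Cfsg.Agent.Fusion.WreathQuot.C p
  have hC : Nat.card C = p := by
    rw [Nat.card_congr (Multiplicative.toAdd (α := ZMod p)), Nat.card_zmod]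
  let e : ↥(W : Subgroup (Equiv.Perm (Fin (p ^ 2)))) ≃* IteratedWreathProduct C 2 :=
    Sylow.mulEquivIteratedWreathProduct p 2 (Fin (p ^ 2)) (Nat.card_fin _) C hC W
  obtain ⟨e'⟩ := wreath_equiv C
  exact ⟨W, (e'.trans e.symm).toMonoidHom.comp f, (e'.trans e.symm).surjective.comp hf⟩

end Cfsg.Agent.S2807
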