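import Cfsg.Agent.Base.RecEqns
import Cfsg.Statements.S2810
import Cfsg.Agent.Lib.CharP.Coprime

set_option autoImplicit false
open Cfsg

namespace Cfsg.Agent.S2810

/-- Let H be a finite group of characteristic p and L a subgroup of H centralizing every factor of some H-invariant chain 1 = A₀ ≤ A₁ ≤ … ≤ Aₙ = O_p(H) of normal subgroups (that is, [A_{i+1}, L] ≤ Aᵢ for each i). Then L ≤ O_p(H). -/
theorem result {H : Type*} [Group H] [Finite H] {p : ℕ} [Fact p.Prime] (hchar : Subgroup.centralizer (Cfsg.pCore p H : Set H) ≤ Cfsg.pCore p H) (L : Subgroup H) (n : ℕ) (A : Fin (n + 1) → Subgroup H) (h0 : A 0 = ⊥) (hn : A (Fin.last n) = Cfsg.pCore p H) (hmono : Monotone A) (hnorm : ∀ i, (A i).Normal) (hcent : ∀ i : Fin n, ⁅A i.succ, L⁆ ≤ A i.castSucc) : L ≤ Cfsg.pCore p H := by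
  classical
  set P := Cfsg.pCore p H with hP
  let K : Subgroup H := ⨅ i : Fin n, (Subgroup.centralizer
      (((A i.succ).map (@QuotientGroup.mk' H _ (A i.castSucc) (hnorm _)) : Subgroup _) : Set _)).comap
      (@QuotientGroup.mk' H _ (A i.castSucc) (hnorm _))
  have hKn : K.Normal := Subgroup.normal_iInf_normal fun i => by
    have := hnorm i.castSucc
    have := (hnorm i.succ).map (QuotientGroup.mk' (A i.castSucc)) (QuotientGroup.mk'_surjective _)
    infer_instance
  have hmem : ∀ (i : Fin n) (a x : H), a ∈ A i.succ → x ∈ K → a * x * a⁻¹ * x⁻¹ ∈ A i.castSucc := by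
    intro i a x ha hx
    have := hnorm i.castSucc
    have h1 := Subgroup.mem_centralizer_iff.1 (Subgroup.mem_comap.1 (Subgroup.mem_iInf.1 hx i))
      _ (Subgroup.mem_map_of_mem _ ha)
    rw [← map_mul, ← map_mul] at h1
    rw [← QuotientGroup.eq_one_iff]
    calc ((a * x * a⁻¹ * x⁻¹ : H) : H ⧸ A i.castSucc)
        = QuotientGroup.mk' (A i.castSucc) (a * x) * (QuotientGroup.mk' (A i.castSucc) (x * a))⁻¹ := by
          rw [← map_inv, ← map_mul, QuotientGroup.mk'_apply]
          congr 1
          group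
      _ = 1 := by rw [h1, mul_inv_cancel]
  have hLK : L ≤ K := by
    refine le_iInf fun i x hx => ?_
    have := hnorm i.castSucc
    refine Subgroup.mem_comap.2 (Subgroup.mem_centralizer_iff.2 ?_)
    rintro _ ⟨a, ha, rfl⟩
    rw [← map_mul, ← map_mul, ← mul_inv_eq_one, ← map_inv, ← map_mul, QuotientGroup.mk'_apply,
      QuotientGroup.eq_one_iff]
    have := hcent i (Subgroup.commutator_mem_commutator ha hx)
    rw [commutatorElement_def] at this
    simpa [mul_assoc] using this
  have hstep : ∀ i : Fin n, ⁅A i.succ, K⁆ ≤ A i.castSucc := fun i =>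
    Subgroup.commutator_le.2 fun a ha x hx => hmem i a x ha hx
  have key : ∀ j : ℕ, ∀ hj : j ≤ n, Cfsg.iterCommutator P K j ≤ A ⟨n - j, by omega⟩ := by
    intro j
    induction j with
    | zero => intro _; exact le_of_eq hn.symm
    | succ j ih =>
      intro hj
      refine le_trans (Subgroup.commutator_mono (ih (by omega)) le_rfl) ?_
      have := hstep ⟨n - (j + 1), by omega⟩
      have e1 : (⟨n - (j + 1), by omega⟩ : Fin n).succ = ⟨n - j, by omega⟩ :=
        Fin.ext (show n - (j + 1) + 1 = n - j by omega)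
      rwa [e1] at this
  have hbot : Cfsg.iterCommutator P K n = ⊥ := by
    refine eq_bot_iff.2 ((key n le_rfl).trans (le_of_eq ?_))
    rw [← h0]
    congr 1
    exact Fin.ext (Nat.sub_self n)
  have hKp : IsPGroup p ↥K :=
    Cfsg.Agent.CharP.isPGroup_of_iterCommutator (Cfsg.Agent.CharP.isPGroup_pCore p H) hchar
      (le_top.trans (Subgroup.normalizer_eq_top_iff.2 (inferInstance : (Cfsg.pCore p H).Normal)).ge) hbot
  exact hLK.trans (Cfsg.Agent.CharP.le_pCore hKn hKp)

end Cfsg.Agent.S2810
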