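import Cfsg.Statements.S2812
import Cfsg.Agent.Lib.CharP.FittingAction

set_option autoImplicit false
open Cfsg

namespace Cfsg.Agent.S2812

/-- Let H be a subgroup of the finite group G with O_p(H) = 1, Y a p-subgroup of G normalizing H, and L a subgroup of the generalized Fitting subgroup F*(H) that is subnormal in H and normalized by Y. Then L = [L, Y]·C_L(Y) and [L, Y] = [L, Y, Y]. -/
theorem result {G : Type*} [Group G] [Finite G] {p : ℕ} [Fact p.Prime] (H : Subgroup G) (hO : Cfsg.pCore p ↥H = ⊥) (Y : Subgroup G) (hY : IsPGroup p ↥Y) (hYH : Y ≤ Subgroup.normalizer (H : Set G)) (L : Subgroup G) (hLF : L ≤ (Cfsg.generalizedFittingSubgroup ↥H).map H.subtype) (hLsn : (L.subgroupOf H).IsSubnormal) (hYL : Y ≤ Subgroup.normalizer (L : Set G)) : ⁅L, Y⁆ ⊔ (L ⊓ Subgroup.centralizer (Y : Set G)) = L ∧ ⁅L, Y⁆ = ⁅⁅L, Y⁆, Y⁆ := by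
  have hLH : L ≤ H := hLF.trans (Subgroup.map_subtype_le _)
  have hS : L.subgroupOf H ≤ Cfsg.generalizedFittingSubgroup ↥H :=
    (Subgroup.comap_mono hLF).trans (Subgroup.comap_map_eq_self_of_injective H.subtype_injective _).le
  have h1 := CharP.genFitting_eq_top_of_le hS hLsn
  have h2 := CharP.coprime_card_fitting_of_isSubnormal hO hLsn
  let e := Subgroup.subgroupOfEquivOfLe hLH
  refine CharP.commutator_sup_centralizer_of_genFitting hYL hY ?_ ?_
  · rw [← Components.Fitting.genFitting_map_equiv e, h1, Subgroup.map_top_of_surjective]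
    exact e.surjective
  · rw [← Components.Fitting.fitting_map_equiv e]
    exact h2.coprime_dvd_left (Subgroup.card_map_dvd _ _)

end Cfsg.Agent.S2812
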