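import Cfsg.Statements.S2813
import Cfsg.Agent.Lib.CharP.Sylow
import Cfsg.Agent.Lib.Coprime.Commutator

set_option autoImplicit false
open Cfsg

namespace Cfsg.Agent.S2813

open scoped commutatorElement

/-- Let K be a subgroup of the finite group H with O_p(K) = 1 and Y a p-subgroup of N_H(K) with [K, Y, Y] = 1. Then [K, Y] = 1. -/
theorem result {H : Type*} [Group H] [Finite H] {p : ℕ} [Fact p.Prime] (K : Subgroup H) (hO : Cfsg.pCore p ↥K = ⊥) (Y : Subgroup H) (hY : IsPGroup p ↥Y) (hYK : Y ≤ Subgroup.normalizer (K : Set H)) (hq : ⁅⁅K, Y⁆, Y⁆ = ⊥) : ⁅K, Y⁆ = ⊥ := by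
  classical
  set L := ⁅K, Y⁆ with hL
  have hLK : L ≤ K := Cfsg.Agent.Coprime.commutator_le_of_le_normalizer hYK
  have hLn : K ≤ Subgroup.normalizer (L : Set H) := Subgroup.normalizer_commutator_ge_left _ _
  have hc : L ≤ Subgroup.centralizer (Y : Set H) := Subgroup.commutator_eq_bot_iff_le_centralizer.1 hq
  have hLY : ⁅L, Y⁆ = ⊥ := hq
  have h3 : ⁅L, L⁆ = ⊥ := by
    refine Subgroup.commutator_commutator_eq_bot_of_rotate ?_ ?_
    · rw [Subgroup.commutator_comm Y L, hLY, Subgroup.commutator_bot_left]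
    · rw [eq_bot_iff, ← hLY]
      exact Subgroup.commutator_mono (Subgroup.le_normalizer_iff_commutator_le_left.1 hLn) le_rfl
  have hcomm : ∀ a ∈ L, ∀ b ∈ L, a * b = b * a := fun a ha b hb =>
    (Subgroup.commutator_eq_bot_iff_le_centralizer.1 h3 hb) a ha
  let S : Subgroup H :=
    { carrier := {x | x ∈ L ∧ ∃ k : ℕ, x ^ p ^ k = 1}
      one_mem' := ⟨one_mem _, 0, one_pow _⟩
      mul_mem' := by
        rintro a b ⟨ha, i, hi⟩ ⟨hb, j, hj⟩
        refine ⟨mul_mem ha hb, i + j, ?_⟩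
        rw [(show Commute a b from hcomm a ha b hb).mul_pow, pow_add, pow_mul, hi, one_pow, one_mul,
          mul_comm (p ^ i), pow_mul, hj, one_pow]
      inv_mem' := by
        rintro a ⟨ha, i, hi⟩
        exact ⟨inv_mem ha, i, by rw [inv_pow, hi, inv_one]⟩ }
  have hLS : L ≤ S := by
    refine Subgroup.commutator_le.2 fun k hk y hy => ?_
    obtain ⟨n, hn⟩ := hY ⟨y, hy⟩
    have hn' : y ^ p ^ n = 1 := congrArg Subtype.val hn
    refine ⟨Subgroup.commutator_mem_commutator hk hy, n, ?_⟩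
    have hcy : Commute ⁅k, y⁆ y := (hc (Subgroup.commutator_mem_commutator hk hy) y hy).symm
    have h1 : (⁅k, y⁆ * y) ^ p ^ n = 1 := by
      have e : ⁅k, y⁆ * y = MulAut.conj k y := by
        rw [MulAut.conj_apply, commutatorElement_def]; group
      rw [e, ← map_pow, hn', map_one]
    rwa [hcy.mul_pow, hn', mul_one] at h1
  have hLp : IsPGroup p ↥L := fun x => by
    obtain ⟨-, k, hk⟩ := hLS x.2
    exact ⟨k, Subtype.ext hk⟩
  have hmem := Cfsg.Agent.CharP.le_pCore
    ((Subgroup.normal_subgroupOf_iff_le_normalizer hLK).2 hLn) hLp.comap_subtype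
  rw [hO, le_bot_iff, Subgroup.subgroupOf_eq_bot] at hmem
  exact eq_bot_iff.2 fun x hx => hmem.le_bot ⟨hx, hLK hx⟩

end Cfsg.Agent.S2813
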