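import Cfsg.Statements.S2814
import Cfsg.Agent.Lib.CharP.Sylow
import Cfsg.Prelude.Def_LocalStructure
import Cfsg.Agent.Lib.Cores.Residual
import Mathlib.GroupTheory.IsSubnormal
import Cfsg.Agent.Lib.CharP.SubnormalResidual
import Cfsg.Agent.Lib.CharP.Parabolic

set_option autoImplicit false
open Cfsg

namespace Cfsg.Agent.S2814

open scoped commutatorElement in
theorem isSubnormal_of_isNilpotent {G : Type*} [Group G] [Finite G] [Group.IsNilpotent G]
    (J : Subgroup G) : J.IsSubnormal := by
  induction J using WellFoundedGT.induction with | ind J ih => ?_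
  by_cases h : J = ⊤
  · exact h ▸ Subgroup.IsSubnormal.top
  · have hlt := Group.normalizerCondition_of_isNilpotent J (lt_top_iff_ne_top.2 h)
    exact Subgroup.IsSubnormal.step _ _ Subgroup.le_normalizer (ih _ hlt)
      ((Subgroup.normal_subgroupOf_iff_le_normalizer Subgroup.le_normalizer).2 le_rfl)


/-- Let A be a subgroup of the finite group H and K the subnormal closure of A (intersection of the subnormal subgroups containing A). Then K is the normal closure of A inside K and N_H(A) ≤ N_H(K); K = A·O^p(K), O^p(K) being generated by the elements of K of order prime to p; and if A is a p-group, O^p(K) = [O^p(K), A]. -/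
theorem result {H : Type*} [Group H] [Finite H] {p : ℕ} [Fact p.Prime] (A : Subgroup H) (K : Subgroup H) (hK : K = Cfsg.subnormalClosure A) : (Subgroup.normalClosure ((A.subgroupOf K : Subgroup ↥K) : Set ↥K)).map K.subtype = K ∧ Subgroup.normalizer (A : Set H) ≤ Subgroup.normalizer (K : Set H) ∧ A ⊔ (Cfsg.pResidual p ↥K).map K.subtype = K ∧ (IsPGroup p ↥A → ⁅(Cfsg.pResidual p ↥K).map K.subtype, A⁆ = (Cfsg.pResidual p ↥K).map K.subtype) := by
  subst hK
  set K := Cfsg.subnormalClosure A
  have hmem : ∀ S : Set (Subgroup H), S.Finite → (∀ B ∈ S, A ≤ B ∧ B.IsSubnormal) →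
      A ≤ sInf S ∧ (sInf S).IsSubnormal := by
    intro S hS
    induction S, hS using Set.Finite.induction_on with
    | empty => intro _; rw [sInf_empty]; exact ⟨le_top, Subgroup.IsSubnormal.top⟩
    | @insert B S _ _ ih =>
      intro h
      rw [sInf_insert]
      have h1 := h B (Set.mem_insert B S)
      have h2 := ih fun C hC => h C (Set.mem_insert_of_mem B hC)
      exact ⟨le_inf h1.1 h2.1, h1.2.inf h2.2⟩
  obtain ⟨hAK, hKsn⟩ : A ≤ K ∧ K.IsSubnormal := hmem _ (Set.toFinite _) (fun B hB => hB)
  have hmin : ∀ B : Subgroup H, A ≤ B → B.IsSubnormal → K ≤ B := fun B h1 h2 => sInf_le ⟨h1, h2⟩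
  -- anything subnormal in `K` that contains `A` is `K`
  have hinK : ∀ B : Subgroup ↥K, A.subgroupOf K ≤ B → B.IsSubnormal → B = ⊤ := by
    intro B hAB hB
    have h1 : A ≤ B.map K.subtype := by
      rw [← Subgroup.map_subgroupOf_eq_of_le hAK]; exact Subgroup.map_mono hAB
    have h2 := hmin _ h1 (hB.trans' hKsn)
    rw [eq_top_iff]
    intro x _
    exact (Subgroup.mem_map_iff_mem K.subtype_injective).1 (h2 x.2)
  set O := Cfsg.pResidual p ↥K
  have hAO : A.subgroupOf K ⊔ O = ⊤ := by
    refine hinK _ le_sup_left ?_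
    haveI : Group.IsNilpotent (↥K ⧸ O) :=
      (Cores.isPGroup_quotient_pResidual (G := ↥K) p).isNilpotent
    have h := (isSubnormal_of_isNilpotent ((A.subgroupOf K).map (QuotientGroup.mk' O))).comap
      (QuotientGroup.mk' O)
    rwa [Subgroup.comap_map_eq, QuotientGroup.ker_mk'] at h
  refine ⟨?_, ?_, ?_, fun hAp => ?_⟩
  · rw [hinK _ Subgroup.subset_normalClosure Subgroup.normalClosure_normal.isSubnormal,
      ← MonoidHom.range_eq_map, Subgroup.range_subtype]
  · intro g hg
    refine CharP.mem_normalizer_of_conj_map ?_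
    refine (Subgroup.eq_of_le_of_card_ge ?_
      (Subgroup.card_map_of_injective (MulAut.conj g).injective).le).symm
    exact hmin _ ((CharP.conj_map_of_mem hg).ge.trans (Subgroup.map_mono hAK))
      (hKsn.map (MulAut.conj g).surjective)
  · rw [← Subgroup.map_subgroupOf_eq_of_le hAK, ← Subgroup.map_sup, hAO, ← MonoidHom.range_eq_map,
      Subgroup.range_subtype]
  · set R := O.map K.subtype
    set M := ⁅R, A⁆
    have hAR : A ≤ Subgroup.normalizer (R : Set H) :=
      hAK.trans (Subgroup.le_normalizer.trans (CharP.le_normalizer_resOf p K))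
    have hMR : M ≤ R := Coprime.commutator_le_of_le_normalizer hAR
    refine le_antisymm hMR ?_
    have hRK : R ≤ K := Subgroup.map_subtype_le _
    have hRM : R ≤ Subgroup.normalizer (M : Set H) := Subgroup.normalizer_commutator_ge_left R A
    have hAM : A ≤ Subgroup.normalizer (M : Set H) := Subgroup.normalizer_commutator_ge_right R A
    have hKeq : A ⊔ R = K := by
      rw [← Subgroup.map_subgroupOf_eq_of_le hAK, ← Subgroup.map_sup, hAO, ← MonoidHom.range_eq_map,
        Subgroup.range_subtype]
    have hKM : K ≤ Subgroup.normalizer (M : Set H) := hKeq ▸ sup_le hAM hRM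
    set J := A ⊔ M
    have hJK : J ≤ K := sup_le hAK (hMR.trans hRK)
    have hRJ : R ≤ Subgroup.normalizer (J : Set H) := by
      have key : ∀ r ∈ R, J.map (MulAut.conj r).toMonoidHom ≤ J := by
        intro r hr
        rw [Subgroup.map_sup]
        refine sup_le ?_ ((CharP.conj_map_of_mem (hRM hr)).le.trans le_sup_right)
        rintro _ ⟨a, ha, rfl⟩
        have h : r * a * r⁻¹ * a⁻¹ ∈ M := Subgroup.commutator_mem_commutator hr ha
        have := mul_mem ((le_sup_right : M ≤ J) h) ((le_sup_left : A ≤ J) ha)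
        simpa [mul_assoc] using this
      intro r hr
      exact CharP.mem_normalizer_of_conj_map (Subgroup.eq_of_le_of_card_ge (key r hr)
        (Subgroup.card_map_of_injective (MulAut.conj r).injective).ge)
    have hKJ : K ≤ Subgroup.normalizer (J : Set H) :=
      hKeq ▸ sup_le ((le_sup_left : A ≤ J).trans Subgroup.le_normalizer) hRJ
    have hJtop : J.subgroupOf K = ⊤ := hinK _ (Subgroup.comap_mono le_sup_left)
      ((Subgroup.normal_subgroupOf_iff_le_normalizer hJK).2 hKJ).isSubnormal
    have hMK : M ≤ K := hMR.trans hRK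
    refine CharP.resOf_le_of_isPGroup_quotient hMK hKM fun x hx => ?_
    have hxJ : x ∈ J := Subgroup.subgroupOf_eq_top.1 hJtop hx
    rw [← SetLike.mem_coe, Subgroup.coe_mul_of_left_le_normalizer_right _ _ hAM] at hxJ
    obtain ⟨a, ha, m, hm, rfl⟩ := hxJ
    obtain ⟨k, hk⟩ := hAp ⟨a, ha⟩
    have hk' : a ^ p ^ k = 1 := congrArg Subtype.val hk
    refine ⟨k, ?_⟩
    show (a * m) ^ p ^ k ∈ M
    have h : (a ^ p ^ k)⁻¹ * (a * m) ^ p ^ k ∈ M := CharP.inv_pow_mul_mul_pow_mem (hAM ha) hm (p ^ k)
    rwa [hk', inv_one, one_mul] at h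

end Cfsg.Agent.S2814
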