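import Cfsg.Statements.S2815
import Cfsg.Agent.Lib.CharP.FittingAction

set_option autoImplicit false
open Cfsg

namespace Cfsg.Agent.S2815

/-- Let H be a finite group and p a prime dividing its order with O_p(H) = 1, and suppose K = O^p(H) (generated by the elements of order prime to p) is quasisimple. Then K = F*(H); for every nontrivial p-subgroup Y of H, K = [K, Y] and K lies in the subgroup generated by the K-conjugates of Y; every normal subgroup of H not containing K has order prime to p; and H is p-irreducible. -/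
theorem result {H : Type*} [Group H] [Finite H] {p : ℕ} [Fact p.Prime] (hp : p ∣ Nat.card H) (hO : Cfsg.pCore p H = ⊥) (hq : Cfsg.IsQuasisimple ↥(Cfsg.pResidual p H)) : Cfsg.pResidual p H = Cfsg.generalizedFittingSubgroup H ∧ (∀ Y : Subgroup H, IsPGroup p ↥Y → Y ≠ ⊥ → ⁅Cfsg.pResidual p H, Y⁆ = Cfsg.pResidual p H ∧ Cfsg.pResidual p H ≤ ⨆ k : ↥(Cfsg.pResidual p H), Y.map (MulAut.conj (k : H)).toMonoidHom) ∧ (∀ C : Subgroup H, C.Normal → ¬ Cfsg.pResidual p H ≤ C → (Nat.card ↥C).Coprime p) ∧ Cfsg.IsPIrreducible p H := by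
  have hp' : p.Prime := Fact.out
  set K := Cfsg.pResidual p H
  set F := Cfsg.generalizedFittingSubgroup H
  haveI hKn : K.Normal := inferInstance
  have hKc : Cfsg.IsComponent K := ⟨hKn.isSubnormal, hq⟩
  have hKF : K = F := by
    refine le_antisymm (Components.Fitting.component_le_genFitting hKc)
      (sup_le (Components.Basic.layer_le fun L hL => ?_) ?_)
    · rcases Components.Basic.component_le_or_commutator_eq_bot hL hKn.isSubnormal with h | h
      · exact h
      · set π := QuotientGroup.mk' K
        haveI : Group.IsNilpotent ↥(L.map π) :=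
          ((Cores.isPGroup_quotient_pResidual (G := H) p).to_subgroup _).isNilpotent
        have h2 : ⁅L.map π, L.map π⁆ = L.map π := by
          rw [← Subgroup.map_commutator, Components.Basic.component_commutator_self hL]
        have h3 : (⊥ : Subgroup (H ⧸ K)) = L.map π :=
          Coprime.eq_of_le_of_sup_commutator_eq bot_le (by rw [h2, bot_sup_eq])
        rwa [eq_comm, Subgroup.map_eq_bot_iff, QuotientGroup.ker_mk'] at h3
    · exact CharP.le_pResidual_of_coprime _ (CharP.coprime_card_fitting hO)
  have hY : ∀ Y : Subgroup H, IsPGroup p ↥Y → Y ≠ ⊥ → ⁅K, Y⁆ = K := by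
    intro Y hY hne
    have hsn : (⁅K, Y⁆).IsSubnormal :=
      Subgroup.IsSubnormal.trans (Subgroup.commutator_le_left _ _)
        (Subgroup.normal_subgroupOf_of_le_normalizer
          (Subgroup.normalizer_commutator_ge_left K Y)).isSubnormal hKn.isSubnormal
    rcases Components.Basic.component_le_or_commutator_eq_bot hKc hsn with h | h
    · exact le_antisymm (Subgroup.commutator_le_left _ _) h
    · refine absurd (CharP.eq_bot_of_le_centralizer_genFitting hO hY ?_) hne
      change Y ≤ Subgroup.centralizer (F : Set H)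
      rw [← hKF]
      refine Coprime.commutator_eq_bot_iff_le_centralizer'.1
        (Components.Basic.commutator_eq_bot_of_perfect
          (Components.Basic.component_commutator_self hKc) ?_)
      rwa [Subgroup.commutator_comm]
  have hC : ∀ C : Subgroup H, C.Normal → ¬ K ≤ C → (Nat.card ↥C).Coprime p := by
    intro C hC hKC
    obtain ⟨P⟩ : Nonempty (Sylow p ↥C) := inferInstance
    by_contra hcop
    have hdvd : p ∣ Nat.card ↥C := by
      by_contra h
      exact hcop (hp'.coprime_iff_not_dvd.2 h).symm
    have hne : (P : Subgroup C).map C.subtype ≠ ⊥ := by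
      rw [Ne, Subgroup.map_eq_bot_iff, Subgroup.ker_subtype, le_bot_iff]
      exact P.ne_bot_of_dvd_card hdvd
    refine hKC ((hY _ (P.2.map _) hne).ge.trans ?_)
    exact (Subgroup.commutator_mono le_rfl (Subgroup.map_subtype_le _)).trans
      (Subgroup.commutator_le_right _ _)
  refine ⟨hKF, fun Y hY1 hne => ⟨hY Y hY1 hne, ?_⟩, hC, fun hcl => ?_, fun N hN hNc => ?_⟩
  · refine (hY Y hY1 hne).ge.trans (Subgroup.commutator_le.2 fun k hk y hy => ?_)
    refine mul_mem (Subgroup.mem_iSup_of_mem (⟨k, hk⟩ : ↥K) ⟨y, hy, by simp⟩) ?_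
    exact Subgroup.mem_iSup_of_mem (⟨1, one_mem _⟩ : ↥K) ⟨y⁻¹, inv_mem hy, by simp⟩
  · obtain ⟨P⟩ : Nonempty (Sylow p H) := inferInstance
    have := hcl P
    have h := Cores.le_pCore (N := (P : Subgroup H)) P.2
    rw [hO, le_bot_iff] at h
    exact P.ne_bot_of_dvd_card hp h
  · by_contra hKN
    refine hNc fun P => ?_
    have h1 : (P : Subgroup N) = ⊥ := by
      obtain ⟨n, hn⟩ := IsPGroup.iff_card.1 P.2
      have h := (hC N hN hKN).coprime_dvd_left (Subgroup.card_subgroup_dvd_card (P : Subgroup N))
      rw [hn] at h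
      rw [← Subgroup.card_eq_one, hn]
      exact Nat.eq_one_of_dvd_coprimes (Nat.Coprime.pow_right n h) dvd_rfl dvd_rfl
    rw [h1]
    infer_instance

end Cfsg.Agent.S2815
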