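import Cfsg.Statements.S2816
import Cfsg.Agent.Lib.CharP.FittingAction

set_option autoImplicit false
open Cfsg

namespace Cfsg.Agent.S2816

/-- Let H be a finite group and p a prime with O_p(H) = 1, and Y a p-subgroup of H. Then for every subnormal subgroup K of H containing Y, [F*(H), Y] = [F*(K), Y] = [F*(K), Y, Y]; and if Y₀ ≤ Y with [F*(H), Y, Y₀] = 1 then Y₀ = 1 (in particular [F*(H), Y] = 1 forces Y = 1). -/
theorem result {H : Type*} [Group H] [Finite H] {p : ℕ} [Fact p.Prime] (hO : Cfsg.pCore p H = ⊥) (Y : Subgroup H) (hY : IsPGroup p ↥Y) : (∀ K : Subgroup H, K.IsSubnormal → Y ≤ K → ⁅Cfsg.generalizedFittingSubgroup H, Y⁆ = ⁅(Cfsg.generalizedFittingSubgroup ↥K).map K.subtype, Y⁆ ∧ ⁅(Cfsg.generalizedFittingSubgroup ↥K).map K.subtype, Y⁆ = ⁅⁅(Cfsg.generalizedFittingSubgroup ↥K).map K.subtype, Y⁆, Y⁆) ∧ (∀ Y₀ : Subgroup H, Y₀ ≤ Y → ⁅⁅Cfsg.generalizedFittingSubgroup H, Y⁆, Y₀⁆ = ⊥ → Y₀ = ⊥) := by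
  have hF := CharP.commutator_genFitting_eq hO hY
  set F := Cfsg.generalizedFittingSubgroup H
  refine ⟨fun K hK hYK => ?_, fun Y₀ hY₀ h => ?_⟩
  · have hX : ⁅F, Y⁆ ≤ (Cfsg.generalizedFittingSubgroup ↥K).map K.subtype := by
      rw [← CharP.genFitting_inf_eq_map_of_isSubnormal hK]
      exact le_inf (Subgroup.commutator_le_left _ _)
        (CharP.le_of_isSubnormal_of_commutator_eq hK hYK hF.2.symm)
    have hKF : (Cfsg.generalizedFittingSubgroup ↥K).map K.subtype ≤ F :=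
      (Components.Fitting.map_genFitting_subtype_le hK).trans inf_le_left
    have e : ⁅F, Y⁆ = ⁅(Cfsg.generalizedFittingSubgroup ↥K).map K.subtype, Y⁆ :=
      le_antisymm (hF.2.le.trans (Subgroup.commutator_mono hX le_rfl))
        (Subgroup.commutator_mono hKF le_rfl)
    refine ⟨e, ?_⟩
    rw [← e]
    exact hF.2
  · refine CharP.eq_bot_of_le_centralizer_genFitting hO (hY.to_le hY₀) ?_
    rw [Subgroup.le_centralizer_iff]
    calc F = _ := hF.1.symm
      _ ≤ Subgroup.centralizer (Y₀ : Set H) :=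
        sup_le (Subgroup.commutator_eq_bot_iff_le_centralizer.1 h)
          (inf_le_right.trans (Subgroup.centralizer_le hY₀))

end Cfsg.Agent.S2816
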