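import Cfsg.Statements.S2817
import Cfsg.Agent.Lib.CharP.FittingAction
import Cfsg.Agent.Lib.CharP.PReduced

set_option autoImplicit false
open Cfsg

namespace Cfsg.Agent.S2817

open scoped commutatorElement in
/-- A fixed point of `Q` in `L = [L, Q]` lies in `L'` when `[L : L']` is prime to `p`. -/
theorem mem_commutator_of_fixed {H : Type*} [Group H] [Finite H] {p : ℕ} [Fact p.Prime]
    {L Q : Subgroup H} (hQL : Q ≤ Subgroup.normalizer (L : Set H)) (hQ : IsPGroup p ↥Q)
    (hLQ : ⁅L, Q⁆ = L) {z : H} (hzL : z ∈ L) (hzQ : z ∈ Subgroup.centralizer (Q : Set H))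
    (hidx : (commutator L).index.Coprime p) : (⟨z, hzL⟩ : L) ∈ commutator L := by
  classical
  have : Fintype Q := Fintype.ofFinite _
  let ψ : L →* Abelianization L := Abelianization.of
  let c : Q → L →* L := fun q =>
    { toFun := fun x => ⟨(q : H) * x * (q : H)⁻¹,
        (Subgroup.mem_normalizer_iff.1 (hQL q.2) x).1 x.2⟩
      map_one' := Subtype.ext (by simp)
      map_mul' := fun x y => Subtype.ext (by simp [mul_assoc]) }
  let σ : L →* Abelianization L :=
    { toFun := fun x => ∏ q : Q, ψ (c q x)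
      map_one' := Finset.prod_eq_one fun q _ => by simp
      map_mul' := fun x y => by
        rw [← Finset.prod_mul_distrib]
        exact Finset.prod_congr rfl fun q _ => by simp }
  have hinv : ∀ (r : Q) (x : L), σ (c r x) = σ x := fun r x =>
    Fintype.prod_equiv (Equiv.mulRight r) _ _ fun q => by
      change ψ (c q (c r x)) = ψ (c (q * r) x)
      congr 1
      exact Subtype.ext (by simp [c, mul_assoc])
  have hker : L ≤ σ.ker.map L.subtype := by
    refine hLQ.ge.trans (Subgroup.commutator_le.2 fun x hx r hr => ?_)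
    refine ⟨⟨x, hx⟩ * c ⟨r, hr⟩ ⟨x⁻¹, inv_mem hx⟩, ?_, ?_⟩
    · rw [SetLike.mem_coe, MonoidHom.mem_ker, map_mul, hinv, ← map_mul]
      exact (congrArg σ (Subtype.ext (mul_inv_cancel x) :
        (⟨x, hx⟩ : L) * ⟨x⁻¹, inv_mem hx⟩ = 1)).trans (map_one σ)
    · simp [c, commutatorElement_def, mul_assoc]
  obtain ⟨w, hw, hwz⟩ := hker hzL
  have hw' : w = ⟨z, hzL⟩ := Subtype.ext hwz
  rw [SetLike.mem_coe, MonoidHom.mem_ker, hw'] at hw
  have h1 : σ ⟨z, hzL⟩ = ψ ⟨z, hzL⟩ ^ Nat.card Q := by
    rw [Nat.card_eq_fintype_card, ← Finset.card_univ, ← Finset.prod_const]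
    refine Finset.prod_congr rfl fun q _ => ?_
    congr 1
    refine Subtype.ext ?_
    change (q : H) * z * (q : H)⁻¹ = z
    rw [Subgroup.mem_centralizer_iff.1 hzQ q q.2, mul_inv_cancel_right]
  rw [h1, ← map_pow] at hw
  have h2 : (⟨z, hzL⟩ : L) ^ Nat.card Q ∈ commutator L :=
    (QuotientGroup.eq_one_iff _).1 hw
  have h3 := Subgroup.pow_index_mem (commutator L) (⟨z, hzL⟩ : L)
  have h4 := CharP.pow_gcd_mem _ h2 h3
  obtain ⟨n, hn⟩ := IsPGroup.iff_card.1 hQ
  rwa [hn, Nat.Coprime.pow_left n hidx.symm, pow_one] at h4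

/-- `[L : L']` divides `|F(L)|` when `F*(L) = L`. -/
theorem index_commutator_dvd {L : Type*} [Group L]
    (h : Cfsg.generalizedFittingSubgroup L = ⊤) :
    (commutator L).index ∣ Nat.card (Cfsg.fittingSubgroup L) := by
  have hE : Cfsg.layer L ≤ commutator L :=
    (Components.Basic.commutator_layer_self (G := L)).ge.trans
      (Subgroup.commutator_mono le_top le_top)
  have hsup : Cfsg.fittingSubgroup L ⊔ commutator L = ⊤ :=
    top_le_iff.1 (h ▸ sup_le (hE.trans le_sup_right) le_sup_left)
  rw [← Subgroup.relIndex_top_right, ← hsup, Subgroup.relIndex_sup_right]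
  exact Subgroup.relIndex_dvd_card _ _

/-- Let H be a finite group and p a prime with O_p(H) = 1, Q a p-subgroup of H, L = [F*(H), Q], and F the largest normal subgroup of F*(H) centralized by Q (a normal subgroup of F*(H) centralized by Q and containing every such). Then F = C_{F*(H)}(LQ); L = [L, Q]; L ∩ F ≤ Φ(L); every p-subgroup B of N_H(Q) with [L, B] ≤ F satisfies [L, B] = 1; and C_H(FL) has order prime to p. -/
theorem result {H : Type*} [Group H] [Finite H] {p : ℕ} [Fact p.Prime] (hO : Cfsg.pCore p H = ⊥) (Q : Subgroup H) (hQ : IsPGroup p ↥Q) (L : Subgroup H) (hL : L = ⁅Cfsg.generalizedFittingSubgroup H, Q⁆) (F : Subgroup H) (hF : F ≤ Cfsg.generalizedFittingSubgroup H ∧ Cfsg.generalizedFittingSubgroup H ≤ Subgroup.normalizer (F : Set H) ∧ Q ≤ Subgroup.centralizer (F : Set H) ∧ ∀ N : Subgroup H, N ≤ Cfsg.generalizedFittingSubgroup H → Cfsg.generalizedFittingSubgroup H ≤ Subgroup.normalizer (N : Set H) → Q ≤ Subgroup.centralizer (N : Set H) → N ≤ F) : F = Cfsg.generalizedFittingSubgroup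 H ⊓ Subgroup.centralizer ((L ⊔ Q : Subgroup H) : Set H) ∧ ⁅L, Q⁆ = L ∧ L ⊓ F ≤ (frattini ↥L).map L.subtype ∧ (∀ B : Subgroup H, IsPGroup p ↥B → B ≤ Subgroup.normalizer (Q : Set H) → ⁅L, B⁆ ≤ F → ⁅L, B⁆ = ⊥) ∧ (Nat.card ↥(Subgroup.centralizer ((F ⊔ L : Subgroup H) : Set H))).Coprime p := by
  obtain ⟨hFF, hFn, hFQ, hmax⟩ := hF
  set Fs := Cfsg.generalizedFittingSubgroup H
  haveI hFsn : Fs.Normal := inferInstance
  have hFs := CharP.commutator_genFitting_eq hO hQ
  have hLFs : L ≤ Fs := hL ▸ Subgroup.commutator_le_left _ _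
  have hFsL : Fs ≤ Subgroup.normalizer (L : Set H) := hL ▸ Subgroup.normalizer_commutator_ge_left _ _
  have hQL : Q ≤ Subgroup.normalizer (L : Set H) :=
    hL ▸ Subgroup.normalizer_commutator_ge_right _ _
  have hLQ : ⁅L, Q⁆ = L := by rw [hL]; exact hFs.2.symm
  have hsn : ∀ A : Subgroup H, A ≤ Fs → Fs ≤ Subgroup.normalizer (A : Set H) → A.IsSubnormal :=
    fun A hA hAn => Subgroup.IsSubnormal.trans hA
      (Subgroup.normal_subgroupOf_of_le_normalizer hAn).isSubnormal hFsn.isSubnormal
  have hsplit : ∀ C : Subgroup H, L ≤ C → Fs ⊓ Subgroup.centralizer (Q : Set H) ≤ C → Fs ≤ C :=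
    fun C h1 h2 => hFs.1.ge.trans (sup_le (hL ▸ h1) h2)
  -- `F = C_{F*}(LQ)`
  have hCLQ : Fs ≤ Subgroup.normalizer
      ((Fs ⊓ Subgroup.centralizer ((L ⊔ Q : Subgroup H) : Set H) : Subgroup H) : Set H) := by
    refine hsplit _ ?_ ?_
    · intro l hl
      rw [Subgroup.mem_normalizer_iff_map_conj_eq]
      refine le_antisymm ?_ ?_
      · rintro _ ⟨x, hx, rfl⟩
        change l * x * l⁻¹ ∈ _
        rw [Subgroup.mem_centralizer_iff.1 hx.2 l (Subgroup.mem_sup_left (T := Q) hl),
          mul_inv_cancel_right]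
        exact hx
      · intro x hx
        refine ⟨x, hx, ?_⟩
        change l * x * l⁻¹ = x
        rw [Subgroup.mem_centralizer_iff.1 hx.2 l (Subgroup.mem_sup_left (T := Q) hl),
          mul_inv_cancel_right]
    · refine le_trans (le_inf (inf_le_left.trans Subgroup.le_normalizer_of_normal) ?_)
        Subgroup.inf_normalizer_le_normalizer_inf
      refine le_trans ?_ (CharP.normalizer_le_normalizer_centralizer _)
      intro c hc
      rw [Subgroup.mem_normalizer_iff_map_conj_eq, Subgroup.map_sup,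
        Subgroup.mem_normalizer_iff_map_conj_eq.1 (hFsL hc.1),
        Subgroup.mem_normalizer_iff_map_conj_eq.1
          (Subgroup.centralizer_le_normalizer _ hc.2)]
  have hLF : ⁅L, F⁆ = ⊥ := by
    have h1 : ⁅⁅Q, F⁆, Fs⁆ = ⊥ := by
      rw [Coprime.commutator_eq_bot_iff_le_centralizer'.2 (Subgroup.le_centralizer_iff.1 hFQ)]
      exact Subgroup.commutator_bot_left _
    have h2 : ⁅⁅F, Fs⁆, Q⁆ = ⊥ := by
      refine le_bot_iff.1 ((Subgroup.commutator_mono
        (Coprime.commutator_le_of_le_normalizer hFn) le_rfl).trans ?_)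
      rw [Coprime.commutator_eq_bot_iff_le_centralizer'.2 hFQ]
    rw [hL]
    exact Subgroup.commutator_commutator_eq_bot_of_rotate h1 h2
  have hFeq : F = Fs ⊓ Subgroup.centralizer ((L ⊔ Q : Subgroup H) : Set H) := by
    refine le_antisymm (le_inf hFF (Subgroup.le_centralizer_iff.1 (sup_le ?_ hFQ)))
      (hmax _ inf_le_left hCLQ ?_)
    · exact Subgroup.commutator_eq_bot_iff_le_centralizer.1 hLF
    · exact le_sup_right.trans (Subgroup.le_centralizer_iff.1 inf_le_right)
  have hLsn := hsn L hLFs hFsL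
  -- `L ⊓ F ≤ Φ(L)`
  have hPhi : L ⊓ F ≤ (frattini ↥L).map L.subtype := by
    rintro z ⟨hzL, hzF⟩
    refine ⟨⟨z, hzL⟩, ?_, rfl⟩
    have hzQ : z ∈ Subgroup.centralizer (Q : Set H) := Subgroup.le_centralizer_iff.1 hFQ hzF
    have hzD : (⟨z, hzL⟩ : L) ∈ commutator L :=
      mem_commutator_of_fixed hQL hQ hLQ hzL hzQ (by
        refine (CharP.coprime_card_fitting_of_isSubnormal hO hLsn).coprime_dvd_left
          (index_commutator_dvd (CharP.genFitting_eq_top_of_le hLFs hLsn)))
    have hzZ : (⟨z, hzL⟩ : L) ∈ Subgroup.center L := Subgroup.mem_center_iff.2 fun a =>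
      Subtype.ext (Subgroup.mem_centralizer_iff.1
        ((Coprime.commutator_eq_bot_iff_le_centralizer'.1 hLF) hzF) a a.2)
    change (⟨z, hzL⟩ : L) ∈ Order.radical (Subgroup L)
    rw [Order.radical, Subgroup.mem_iInf]
    intro M
    rw [Subgroup.mem_iInf]
    intro hM
    by_contra hzM
    have htop : M ⊔ Subgroup.center L = ⊤ :=
      hM.2 _ (left_lt_sup.2 fun h => hzM (h hzZ))
    refine hzM ((?_ : commutator L ≤ M) hzD)
    rw [commutator_def, Subgroup.commutator_le]
    intro a _ b _
    obtain ⟨m, hm, c, hc, rfl⟩ := Subgroup.mem_sup_of_normal_right.1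
      (show a ∈ M ⊔ Subgroup.center L from htop ▸ trivial)
    obtain ⟨n, hn, d, hd, rfl⟩ := Subgroup.mem_sup_of_normal_right.1
      (show b ∈ M ⊔ Subgroup.center L from htop ▸ trivial)
    rw [Components.Basic.commutatorElement_mul_center_left _ _ hc,
      Components.Basic.commutatorElement_mul_center_right _ _ hd]
    exact M.mul_mem (M.mul_mem (M.mul_mem hm hn) (M.inv_mem hm)) (M.inv_mem hn)
  refine ⟨hFeq, hLQ, hPhi, fun B hB hBQ hBF => ?_, ?_⟩
  · have hBL : B ≤ Subgroup.normalizer (L : Set H) := by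
      intro b hb
      rw [hL, Subgroup.mem_normalizer_iff_map_conj_eq, Subgroup.map_commutator,
        Subgroup.Normal.map_conj_eq Fs b, Subgroup.mem_normalizer_iff_map_conj_eq.1 (hBQ hb)]
    have h := CharP.commutator_sup_centralizer_of_le_genFitting hO hLFs hLsn hB hBL
    have hle : ⁅L, B⁆ ≤ (frattini ↥L).map L.subtype :=
      (le_inf (Coprime.commutator_le_of_le_normalizer hBL) hBF).trans hPhi
    have htop : (L ⊓ Subgroup.centralizer (B : Set H)).subgroupOf L = ⊤ := by
      refine frattini_nongenerating (top_le_iff.1 ?_)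
      rw [← Subgroup.map_subtype_le_map_subtype, ← MonoidHom.range_eq_map,
        Subgroup.range_subtype, Subgroup.map_sup, Subgroup.map_subgroupOf_eq_of_le inf_le_left]
      calc L = _ := h.1.symm
        _ ≤ _ := sup_le (hle.trans le_sup_right) le_sup_left
    rw [Subgroup.subgroupOf_eq_top] at htop
    exact Subgroup.commutator_eq_bot_iff_le_centralizer.2 (htop.trans inf_le_right)
  · set N := F ⊔ L
    have hNFs : N ≤ Fs := sup_le hFF hLFs
    set X := Fs ⊓ Subgroup.centralizer (L : Set H) with hX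
    have hXn : Fs ≤ Subgroup.normalizer (X : Set H) :=
      (le_inf Subgroup.le_normalizer (hFsL.trans (CharP.normalizer_le_normalizer_centralizer _))).trans
        Subgroup.inf_normalizer_le_normalizer_inf
    have hQX : Q ≤ Subgroup.normalizer (X : Set H) :=
      (le_inf Subgroup.le_normalizer_of_normal
        (hQL.trans (CharP.normalizer_le_normalizer_centralizer _))).trans
        Subgroup.inf_normalizer_le_normalizer_inf
    have hXN : X ≤ N := by
      have hXF : X ≤ Fs := inf_le_left
      have hdec := (CharP.commutator_sup_centralizer_of_le_genFitting (S := X) hO hXF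
        (hsn X hXF hXn) hQ hQX).1
      refine hdec.ge.trans (sup_le ?_ ?_)
      · have hXQ : ⁅X, Q⁆ ≤ L := hL.symm ▸ Subgroup.commutator_mono hXF le_rfl
        exact hXQ.trans le_sup_right
      · have h1 : L ≤ Subgroup.centralizer
            ((X ⊓ Subgroup.centralizer (Q : Set H) : Subgroup H) : Set H) :=
          Subgroup.le_centralizer_iff.1
            ((inf_le_left : X ⊓ _ ≤ X).trans (inf_le_right : X ≤ Subgroup.centralizer (L : Set H)))
        have h2 : Q ≤ Subgroup.centralizer
            ((X ⊓ Subgroup.centralizer (Q : Set H) : Subgroup H) : Set H) :=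
          Subgroup.le_centralizer_iff.1
            (inf_le_right : X ⊓ Subgroup.centralizer (Q : Set H) ≤ _)
        have h3 : X ⊓ Subgroup.centralizer (Q : Set H) ≤ F := by
          rw [hFeq]
          exact le_inf ((inf_le_left : X ⊓ _ ≤ X).trans (inf_le_left : X ≤ Fs))
            (Subgroup.le_centralizer_iff.1 (sup_le h1 h2))
        exact h3.trans le_sup_left
    have hFsN : Fs ≤ Subgroup.normalizer (N : Set H) := fun g hg => by
      rw [Subgroup.mem_normalizer_iff_map_conj_eq, Subgroup.map_sup,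
        Subgroup.mem_normalizer_iff_map_conj_eq.1 (hFn hg),
        Subgroup.mem_normalizer_iff_map_conj_eq.1 (hFsL hg)]
    set C := Subgroup.centralizer (N : Set H)
    have hp' : p.Prime := Fact.out
    by_contra hcop
    have hdvd : p ∣ Nat.card ↥C := by
      by_contra h
      exact hcop (hp'.coprime_iff_not_dvd.2 h).symm
    obtain ⟨P⟩ : Nonempty (Sylow p ↥C) := inferInstance
    have hne : (P : Subgroup C).map C.subtype ≠ ⊥ := by
      rw [Ne, Subgroup.map_eq_bot_iff, Subgroup.ker_subtype, le_bot_iff]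
      exact P.ne_bot_of_dvd_card hdvd
    set B := (P : Subgroup C).map C.subtype
    have hBp : IsPGroup p ↥B := P.2.map _
    refine hne (CharP.eq_bot_of_le_centralizer_genFitting hO hBp ?_)
    refine Coprime.commutator_eq_bot_iff_le_centralizer'.1 ?_
    rw [(CharP.commutator_genFitting_eq hO hBp).2]
    refine Coprime.commutator_eq_bot_iff_le_centralizer'.2 ?_
    refine (Subgroup.map_subtype_le _).trans (Subgroup.centralizer_le ?_)
    have h1 : ⁅Fs, B⁆ ≤ Fs ⊓ C :=
      le_inf (Subgroup.commutator_le_left _ _)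
        ((Subgroup.commutator_mono le_rfl (Subgroup.map_subtype_le _)).trans (by
          rw [Subgroup.commutator_comm]
          exact Coprime.commutator_le_of_le_normalizer
            (hFsN.trans (CharP.normalizer_le_normalizer_centralizer _))))
    exact h1.trans ((inf_le_inf_left Fs (Subgroup.centralizer_le
      (SetLike.coe_subset_coe.2 (le_sup_right : L ≤ N)))).trans hXN)

end Cfsg.Agent.S2817
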