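import Cfsg.Statements.S2818
import Cfsg.Agent.Lib.CharP.Basic

set_option autoImplicit false
open Cfsg

namespace Cfsg.Agent.S2818

/-- Let P be a finite p-subgroup of a group G and H a subgroup of N_G(P) with [P, H] ≤ Ω₁(Z(P)) (the elements of order dividing p in the centre of P). Then H centralizes the Frattini subgroup of P. -/
theorem result {G : Type*} [Group G] [Finite G] {p : ℕ} [Fact p.Prime] (P : Subgroup G) (hP : IsPGroup p ↥P) (H : Subgroup G) (hH : H ≤ Subgroup.normalizer (P : Set G)) (h : ⁅P, H⁆ ≤ Cfsg.omegaOne p (P ⊓ Subgroup.centralizer (P : Set G))) : ⁅(frattini ↥P).map P.subtype, H⁆ = ⊥ := by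
  classical
  rw [Subgroup.commutator_eq_bot_iff_le_centralizer, Subgroup.map_le_iff_le_comap]
  intro x hx
  rw [Subgroup.mem_comap, Subgroup.mem_centralizer_iff]
  intro h0 hh
  let Z : Subgroup G := Cfsg.omegaOne p (P ⊓ Subgroup.centralizer (P : Set G))
  have hZc : Z ≤ P ⊓ Subgroup.centralizer (P : Set G) := (Subgroup.closure_le _).2 fun _ hy => hy.1
  have hzc : ∀ a : ↥P, (a : G) * h0 * (a : G)⁻¹ * h0⁻¹ ∈ Z := fun a => by
    have := h (Subgroup.commutator_mem_commutator a.2 hh)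
    rwa [commutatorElement_def] at this
  let f : ↥P →* G := MonoidHom.mk' (fun a => (a : G) * h0 * (a : G)⁻¹ * h0⁻¹) (by
    intro a b
    have hb : (b : G) * h0 * (b : G)⁻¹ * h0⁻¹ ∈ Subgroup.centralizer (P : Set G) := (hZc (hzc b)).2
    have hcomm := Subgroup.mem_centralizer_iff.1 hb _ a.2
    calc ((a * b : ↥P) : G) * h0 * ((a * b : ↥P) : G)⁻¹ * h0⁻¹
        = (a : G) * ((b : G) * h0 * (b : G)⁻¹ * h0⁻¹) * h0 * (a : G)⁻¹ * h0⁻¹ := by
          rw [Subgroup.coe_mul]; group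
      _ = ((b : G) * h0 * (b : G)⁻¹ * h0⁻¹) * ((a : G) * h0 * (a : G)⁻¹ * h0⁻¹) := by
          rw [hcomm]; group
      _ = ((a : G) * h0 * (a : G)⁻¹ * h0⁻¹) * ((b : G) * h0 * (b : G)⁻¹ * h0⁻¹) :=
          (Subgroup.mem_centralizer_iff.1 hb _ (hZc (hzc a)).1).symm)
  have hc : ∀ a b : ↥P, Commute (f a) (f b) := fun a b =>
    Subgroup.mem_centralizer_iff.1 (hZc (hzc b)).2 _ (hZc (hzc a)).1
  have hel : ∀ z ∈ Z, z ^ p = 1 := by
    intro z hz
    induction hz using Subgroup.closure_induction with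
    | mem y hy => exact hy.2
    | one => exact one_pow p
    | mul y w hy hw e1 e2 =>
      have hyw : Commute y w := Subgroup.mem_centralizer_iff.1 (hZc hw).2 _ (hZc hy).1
      rw [hyw.mul_pow, e1, e2, mul_one]
    | inv y _ e1 => rw [inv_pow, e1, inv_one]
  have hx' := Cfsg.Agent.CharP.frattini_le_ker (p := p) f hc (fun a => hel _ (hzc a)) hx
  rw [MonoidHom.mem_ker] at hx'
  have h2 : (x : G) * h0 * (x : G)⁻¹ * h0⁻¹ = 1 := hx'
  exact (mul_inv_eq_iff_eq_mul.1 (mul_inv_eq_one.1 h2)).symm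

end Cfsg.Agent.S2818
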