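import Cfsg.Statements.S2819
import Cfsg.Agent.Lib.CharP.Basic
import Cfsg.Agent.Lib.CharP.Coprime
import Cfsg.Agent.Lib.Coprime.Commutator
import Cfsg.Agent.Lib.CharP.SubnormalResidual

set_option autoImplicit false
open Cfsg

namespace Cfsg.Agent.S2819

open scoped commutatorElement

/-- Let P be a finite p-subgroup of a group G, H a subgroup of N_G(P), and Y a subgroup of H centralizing the derived subgroup P' such that [P, Y] is elementary abelian. Then O^p(⟨Y^H⟩), the subgroup of the normal closure of Y in H generated by its elements of order prime to p, centralizes the Frattini subgroup of P. -/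
theorem result {G : Type*} [Group G] [Finite G] {p : ℕ} [Fact p.Prime] (P : Subgroup G) (hP : IsPGroup p ↥P) (H : Subgroup G) (hH : H ≤ Subgroup.normalizer (P : Set G)) (Y : Subgroup G) (hYH : Y ≤ H) (hYc : Y ≤ Subgroup.centralizer ((⁅P, P⁆ : Subgroup G) : Set G)) (hel : Cfsg.IsElementaryAbelian p ⁅P, Y⁆) (NY : Subgroup G) (hNY : NY = (Subgroup.normalClosure ((Y.subgroupOf H : Subgroup ↥H) : Set ↥H)).map H.subtype) : (Cfsg.pResidual p ↥NY).map NY.subtype ≤ Subgroup.centralizer (((frattini ↥P).map P.subtype : Subgroup G) : Set G) := by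
  subst hNY
  set D := ⁅P, P⁆
  set N := (Subgroup.normalClosure ((Y.subgroupOf H : Subgroup ↥H) : Set ↥H)).map H.subtype
  have hDc : (commutator ↥P).map P.subtype = D := Subgroup.map_subtype_commutator P
  have hDP : D ≤ P := hDc ▸ Subgroup.map_subtype_le _
  have hHD : H ≤ Subgroup.normalizer (D : Set G) := by
    intro h hh
    rw [Subgroup.mem_normalizer_iff_map_conj_eq]
    show (⁅P, P⁆ : Subgroup G).map (MulAut.conj h).toMonoidHom = ⁅P, P⁆
    rw [Subgroup.map_commutator]
    exact congrArg₂ (fun a b : Subgroup G => ⁅a, b⁆)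
      (Subgroup.mem_normalizer_iff_map_conj_eq.1 (hH hh)) (Subgroup.mem_normalizer_iff_map_conj_eq.1 (hH hh))
  have hPD : P ≤ Subgroup.normalizer (D : Set G) := Subgroup.normalizer_commutator_ge_left P P
  -- the good elements
  let E : Subgroup ↥H :=
    { carrier := {n | (n : G) ∈ Subgroup.centralizer (D : Set G) ∧
        ∀ x ∈ P, (n : G) * x ^ p * (n : G)⁻¹ * (x ^ p)⁻¹ ∈ D}
      one_mem' := ⟨one_mem _, fun x _ => by simp⟩
      mul_mem' := by
        rintro a b ⟨ha, ha'⟩ ⟨hb, hb'⟩
        refine ⟨mul_mem ha hb, fun x hx => ?_⟩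
        have e : ((a * b : ↥H) : G) * x ^ p * ((a * b : ↥H) : G)⁻¹ * (x ^ p)⁻¹
            = ((a : G) * ((b : G) * x ^ p * (b : G)⁻¹ * (x ^ p)⁻¹) * (a : G)⁻¹) *
              ((a : G) * x ^ p * (a : G)⁻¹ * (x ^ p)⁻¹) := by simp [mul_assoc]
        rw [e, ← ha _ (hb' x hx), mul_inv_cancel_right]
        exact mul_mem (hb' x hx) (ha' x hx)
      inv_mem' := by
        rintro a ⟨ha, ha'⟩
        refine ⟨inv_mem ha, fun x hx => ?_⟩
        have h1 := inv_mem (ha' x hx)
        have h2 : (a : G)⁻¹ * ((a : G) * x ^ p * (a : G)⁻¹ * (x ^ p)⁻¹)⁻¹ * (a : G) ∈ D := by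
          rw [mul_assoc, ha _ h1, inv_mul_cancel_left]
          exact h1
        simpa [mul_assoc] using h2 }
  haveI : E.Normal := by
    refine ⟨fun n hn h => ⟨?_, fun x hx => ?_⟩⟩
    · intro d hd
      have hd' : (h : G)⁻¹ * d * (h : G) ∈ D := by
        simpa using (Subgroup.mem_normalizer_iff.1 (hHD (inv_mem h.2)) d).1 hd
      have h3 := congrArg (fun z => (h : G) * z * (h : G)⁻¹) (hn.1 _ hd')
      simpa [mul_assoc] using h3
    · have hx' : (h : G)⁻¹ * x * (h : G) ∈ P := by
        simpa using (Subgroup.mem_normalizer_iff.1 (hH (inv_mem h.2)) x).1 hx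
      have h1 := (Subgroup.mem_normalizer_iff.1 (hHD h.2) _).1 (hn.2 _ hx')
      have e2 : ((h : G)⁻¹ * x * (h : G)) ^ p = (h : G)⁻¹ * x ^ p * (h : G) := by
        have := conj_pow (i := p) (a := (h : G)⁻¹) (b := x)
        simpa using this
      rw [e2] at h1
      simpa [mul_assoc] using h1
  have hNE : N ≤ E.map H.subtype := by
    refine Subgroup.map_mono (Subgroup.normalClosure_le_normal fun y hy => ⟨hYc hy, fun x hx => ?_⟩)
    have hc : x⁻¹ * ((y : G) * x * (y : G)⁻¹) ∈ ⁅P, Y⁆ := by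
      have h : ⁅x⁻¹, (y : G)⁆ ∈ ⁅P, Y⁆ := Subgroup.commutator_mem_commutator (inv_mem hx) hy
      simpa [commutatorElement_def, mul_assoc] using h
    set c := x⁻¹ * ((y : G) * x * (y : G)⁻¹)
    have hcP : c ∈ P := mul_mem (inv_mem hx) ((Subgroup.mem_normalizer_iff.1 (hH y.2) x).1 hx)
    have hcp : c ^ p = 1 := hel.2 c hc
    set xP : ↥P := ⟨x, hx⟩
    set cP : ↥P := ⟨c, hcP⟩
    have hq : Abelianization.of ((xP * cP) ^ p * (xP ^ p)⁻¹) = 1 := by
      rw [map_mul, map_inv, map_pow, map_pow, map_mul, mul_pow, ← map_pow Abelianization.of cP,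
        show cP ^ p = 1 from Subtype.ext hcp, map_one, mul_one, mul_inv_cancel]
    have hk : (xP * cP) ^ p * (xP ^ p)⁻¹ ∈ commutator ↥P := (QuotientGroup.eq_one_iff _).1 hq
    have h4 := Subgroup.mem_map_of_mem P.subtype hk
    rw [hDc] at h4
    have e3 : (y : G) * x ^ p * (y : G)⁻¹ = (x * c) ^ p := by
      rw [← conj_pow]
      congr 1
      simp only [c, mul_inv_cancel_left]
    rw [e3]
    exact h4
  have hNH : N ≤ H := Subgroup.map_subtype_le _
  set Φ := (frattini ↥P).map P.subtype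
  have hΦ : ∀ f ∈ Φ, ∀ n ∈ N, n * f * n⁻¹ * f⁻¹ ∈ D := by
    let F : Subgroup ↥P :=
      { carrier := {f | ∀ n ∈ N, n * (f : G) * n⁻¹ * (f : G)⁻¹ ∈ D}
        one_mem' := fun n _ => by simp
        mul_mem' := by
          intro a b ha hb n hn
          have e : n * ((a * b : ↥P) : G) * n⁻¹ * ((a * b : ↥P) : G)⁻¹
              = (n * (a : G) * n⁻¹ * (a : G)⁻¹) *
                ((a : G) * (n * (b : G) * n⁻¹ * (b : G)⁻¹) * (a : G)⁻¹) := by simp [mul_assoc]
          rw [e]
          exact mul_mem (ha n hn) ((Subgroup.mem_normalizer_iff.1 (hPD a.2) _).1 (hb n hn))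
        inv_mem' := by
          intro a ha n hn
          have h1 := (Subgroup.mem_normalizer_iff.1 (hPD (inv_mem a.2)) _).1 (inv_mem (ha n hn))
          simpa [mul_assoc] using h1 }
    have hcF : commutator ↥P ≤ F := by
      intro f hf n hn
      have hfD : (f : G) ∈ D := hDc ▸ Subgroup.mem_map_of_mem P.subtype hf
      exact mul_mem ((Subgroup.mem_normalizer_iff.1 (hHD (hNH hn)) _).1 hfD) (inv_mem hfD)
    haveI : F.Normal := ⟨fun f hf g => by
      have h : ⁅g, f⁆ * f ∈ F := mul_mem
        (hcF (Subgroup.commutator_mem_commutator (Subgroup.mem_top g) (Subgroup.mem_top f))) hf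
      simpa [commutatorElement_def, mul_assoc] using h⟩
    have hle : frattini ↥P ≤ F := by
      have h := CharP.frattini_le_ker (p := p) (QuotientGroup.mk' F)
        (fun a b => by
          show QuotientGroup.mk' F a * QuotientGroup.mk' F b = QuotientGroup.mk' F b * QuotientGroup.mk' F a
          rw [← map_mul, ← map_mul, QuotientGroup.mk'_eq_mk']
          refine ⟨(a * b)⁻¹ * (b * a), hcF ?_, by group⟩
          have : ⁅b⁻¹, a⁻¹⁆ ∈ commutator ↥P :=
            Subgroup.commutator_mem_commutator (Subgroup.mem_top _) (Subgroup.mem_top _)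
          simpa [commutatorElement_def, mul_assoc] using this)
        (fun a => by
          rw [← map_pow, QuotientGroup.mk'_apply, QuotientGroup.eq_one_iff]
          intro n hn
          obtain ⟨e, he, rfl⟩ := hNE hn
          exact he.2 a a.2)
      rwa [QuotientGroup.ker_mk'] at h
    rintro _ ⟨f, hf, rfl⟩ n hn
    exact hle hf n hn
  -- the stability argument
  have hΦP : Φ ≤ P := Subgroup.map_subtype_le _
  have hHΦ : H ≤ Subgroup.normalizer (Φ : Set G) :=
    hH.trans (CharP.le_normalizer_resOf.normalizer_le_normalizer_map_subtype P (frattini ↥P))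
  rintro _ ⟨g, hg, rfl⟩
  refine (Subgroup.closure_le (K := (Subgroup.centralizer (Φ : Set G)).comap N.subtype)).2
    (fun x hx => ?_) hg
  show (x : G) ∈ Subgroup.centralizer (Φ : Set G)
  have hxo : (orderOf (x : G)).Coprime p := by rwa [Subgroup.orderOf_coe]
  refine Coprime.le_centralizer_of_series (N := D ⊓ Φ)
    (Subgroup.zpowers_le.2 (hHΦ (hNH x.2)))
    (CharP.coprime_zpowers_of_isPGroup (hP.to_le hΦP) hxo) (Or.inl inferInstance) ?_ ?_
    (Subgroup.mem_zpowers (x : G))
  · obtain ⟨e, he, hex⟩ := hNE x.2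
    rw [Subgroup.zpowers_le, ← hex]
    exact Subgroup.centralizer_le (SetLike.coe_subset_coe.2 inf_le_left) he.1
  · rw [Subgroup.commutator_le]
    intro f hf y hy
    have hyN : y ∈ N := (Subgroup.zpowers_le.2 x.2) hy
    rw [commutatorElement_def]
    refine Subgroup.mem_inf.2 ⟨?_, ?_⟩
    · simpa [mul_assoc] using inv_mem (hΦ f hf y hyN)
    · have h1 := mul_mem hf ((Subgroup.mem_normalizer_iff.1 (hHΦ (hNH hyN)) f⁻¹).1 (inv_mem hf))
      simpa [mul_assoc] using h1

end Cfsg.Agent.S2819
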