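import Cfsg.Statements.S2820
import Cfsg.Agent.Lib.CharP.Coprime
import Cfsg.Agent.Lib.PLocal.Cores

set_option autoImplicit false
open Cfsg

namespace Cfsg.Agent.S2820

/-- Let A and B be subnormal subgroups of the finite group H with A a p-group and B = O^p(B) (B generated by its elements of order prime to p). Then A normalizes B and B = O^p(AB), the subgroup of ⟨A, B⟩ generated by its elements of order prime to p. -/
theorem result {H : Type*} [Group H] [Finite H] {p : ℕ} [Fact p.Prime] (A B : Subgroup H) (hA : A.IsSubnormal) (hB : B.IsSubnormal) (hAp : IsPGroup p ↥A) (hBres : (Cfsg.pResidual p ↥B).map B.subtype = B) : A ≤ Subgroup.normalizer (B : Set H) ∧ (Cfsg.pResidual p ↥(A ⊔ B)).map (A ⊔ B).subtype = B := by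
  have hAO : A ≤ Cfsg.pCore p H := Cfsg.Agent.CharP.le_pCore_of_isSubnormal hA hAp
  have hcard : ∃ k : ℕ, ∀ M : Subgroup H, B ≤ M → M ≤ B ⊔ Cfsg.pCore p H → ∃ j : ℕ, B.relIndex M = p ^ j := by
    obtain ⟨k, hk⟩ := IsPGroup.iff_card.1 (Cfsg.Agent.CharP.isPGroup_pCore p H)
    refine ⟨k, fun M hBM hM => ?_⟩
    have h1 : B.relIndex M ∣ B.relIndex (B ⊔ Cfsg.pCore p H) :=
      Dvd.intro _ (Subgroup.relIndex_mul_relIndex B M _ hBM hM)
    have h2 : B.relIndex (B ⊔ Cfsg.pCore p H) ∣ p ^ k := by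
      have e := Subgroup.relIndex_mul_relIndex ⊥ B (B ⊔ Cfsg.pCore p H) bot_le le_sup_left
      rw [Subgroup.relIndex_bot_left, Subgroup.relIndex_bot_left] at e
      have hd := Cfsg.Agent.PLocal.Cores.card_sup_dvd_of_normal B (Cfsg.pCore p H)
      rw [← e, hk] at hd
      exact (Nat.mul_dvd_mul_iff_left Nat.card_pos).1 hd
    obtain ⟨j, -, hj⟩ := (Nat.dvd_prime_pow Fact.out).1 (h1.trans h2)
    exact ⟨j, hj⟩
  obtain ⟨-, hidx⟩ := hcard
  have hmem : ∀ M : Subgroup H, B ≤ M → M ≤ B ⊔ Cfsg.pCore p H →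
      (Cfsg.pResidual p ↥M).map M.subtype = B := by
    intro M hBM hM
    refine le_antisymm ?_ ?_
    · rw [Cfsg.pResidual, MonoidHom.map_closure, Subgroup.closure_le]
      rintro _ ⟨x, hx, rfl⟩
      obtain ⟨j, hj⟩ := hidx M hBM hM
      exact Subgroup.mem_subgroupOf.1
        (Cfsg.Agent.CharP.mem_of_isSubnormal_index (hB.subgroupOf (K := M)) hj x hx)
    · conv_lhs => rw [← hBres]
      rw [Cfsg.pResidual, Cfsg.pResidual, MonoidHom.map_closure, MonoidHom.map_closure]
      refine Subgroup.closure_mono ?_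
      rintro _ ⟨x, hx, rfl⟩
      refine ⟨Subgroup.inclusion hBM x, ?_, rfl⟩
      show Nat.Coprime (orderOf (Subgroup.inclusion hBM x)) p
      rw [orderOf_injective _ (Subgroup.inclusion_injective hBM) x]
      exact hx
  refine ⟨?_, hmem _ le_sup_right (sup_le (le_sup_of_le_right hAO) le_sup_left)⟩
  refine (le_sup_of_le_right (a := B) hAO).trans ?_
  have h := hmem _ le_sup_left le_rfl
  rw [← Subgroup.normal_subgroupOf_iff_le_normalizer le_sup_left]
  conv => arg 1; arg 1; rw [← h]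
  rw [Subgroup.subgroupOf, Subgroup.comap_map_eq_self_of_injective (Subgroup.subtype_injective _)]
  exact Cfsg.Agent.Transfer.NormalPComplement.pResidual_normal

end Cfsg.Agent.S2820
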