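import Cfsg.Statements.S2821
import Cfsg.Agent.Lib.CharP.PReduced

set_option autoImplicit false
open Cfsg

namespace Cfsg.Agent.S2821

open Cfsg.Agent.CharP

/-- Let H be a finite group, p a prime, T a Sylow p-subgroup and L a subgroup of characteristic p containing T; let Y_L be the largest p-reduced normal subgroup of L (the join of the normal elementary abelian p-subgroups V of L with O_p(L/C_L(V)) = 1). Then T₀ := C_T(Y_L) is a Sylow p-subgroup of C_H(Y_L); moreover O_p(L) ≤ T₀ ≤ C_L(Y_L) and Ω₁(Z(T)) ≤ Z_L ≤ Y_L ≤ Ω₁(Z(O_p(L))), where Z_L is generated by the Ω₁(Z(S)) over the Sylow p-subgroups S of L. -/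
theorem result {H : Type*} [Group H] [Finite H] {p : ℕ} [Fact p.Prime] (T : Sylow p H) (L : Subgroup H) (hTL : (T : Subgroup H) ≤ L) (hL : Subgroup.centralizer (Cfsg.pCore p ↥L : Set ↥L) ≤ Cfsg.pCore p ↥L) (T₀ : Subgroup H) (hT₀ : T₀ = (T : Subgroup H) ⊓ Subgroup.centralizer (((Cfsg.largestPReducedOf p L) : Subgroup H) : Set H)) : (∃ P : Sylow p ↥(Subgroup.centralizer (((Cfsg.largestPReducedOf p L) : Subgroup H) : Set H)), (P : Subgroup ↥(Subgroup.centralizer (((Cfsg.largestPReducedOf p L) : Subgroup H) : Set H))) = T₀.subgroupOf (Subgroup.centralizer (((Cfsg.largestPReducedOf p L) : Subgroup H) : Set H))) ∧ (Cfsg.pCoreOf p L) ≤ T₀ ∧ T₀ ≤ L ⊓ Subgroup.centralizer (((Cfsg.largestPReducedOf p L) : Subgroup H) : Set H) ∧ (Cfsg.omegaOne p ((T : Subgroup H) ⊓ Subgroup.centralizer (((T : Subgroup H) : Subgroup H) : Set H))) ≤ Cfsg.sylowCenterClosure p L ∧ Cfsg.sylowCenterClosure p L ≤ (Cfsg.largestPReducedOf p L) ∧ (Cfsg.largestPReducedOf p L) ≤ (Cfsg.omegaOne p ((Cfsg.pCoreOf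 p L) ⊓ Subgroup.centralizer (((Cfsg.pCoreOf p L) : Subgroup H) : Set H))) := by
  subst hT₀
  have hS : IsSylIn p (T : Subgroup H) L :=
    (isSylIn_top_iff.2 ⟨T, rfl⟩).mono hTL le_top
  set Y := Cfsg.largestPReducedOf p L with hY
  set C := Subgroup.centralizer (Y : Set H) with hC
  have hOT : Cfsg.pCoreOf p L ≤ (T : Subgroup H) ⊓ C :=
    le_inf (pCoreOf_le_of_isSylIn hS) (pCoreOf_le_centralizer_largestPReducedOf p L)
  refine ⟨?_, hOT, le_inf (inf_le_left.trans hTL) inf_le_right,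
    omegaCentre_le_sylowCenterClosure hS, sylowCenterClosure_le_largestPReducedOf hL, ?_⟩
  · set N := Subgroup.normalizer (Y : Set H) with hN
    have hTN : (T : Subgroup H) ≤ N := hTL.trans (le_normalizer_largestPReducedOf p L)
    have hCN : C ≤ N := Subgroup.centralizer_le_normalizer _
    have h1 := Cfsg.Agent.Cores.sylow_subgroupOf_isSubnormal (T.subtype hTN)
      (A := C.subgroupOf N) ((Subgroup.normal_subgroupOf_iff_le_normalizer hCN).2 (normalizer_le_normalizer_centralizer Y)).isSubnormal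
    rw [Sylow.coe_subtype, ← Subgroup.relIndex, Subgroup.relIndex_subgroupOf hCN] at h1
    have h2 : IsSylIn p ((T : Subgroup H) ⊓ C) C :=
      isSylIn_of_not_dvd (T.isPGroup'.to_le inf_le_left) inf_le_right
        (by rwa [Subgroup.inf_relIndex_right])
    obtain ⟨P, hP⟩ := h2
    refine ⟨P, ?_⟩
    rw [← hP, Subgroup.subgroupOf, Subgroup.comap_map_eq_self_of_injective (Subgroup.subtype_injective C)]
  · intro y hy
    refine Subgroup.subset_closure ⟨⟨largestPReducedOf_le_pCoreOf p L hy, ?_⟩,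
      (isElementaryAbelian_largestPReducedOf p L).2 y hy⟩
    exact Subgroup.le_centralizer_iff.1 (pCoreOf_le_centralizer_largestPReducedOf p L) hy

end Cfsg.Agent.S2821
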