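import Cfsg.Statements.S2822
import Cfsg.Agent.Lib.CharP.PReduced
import Cfsg.Agent.Lib.Coprime.Basic

set_option autoImplicit false
open Cfsg

namespace Cfsg.Agent.S2822

open Cfsg.Agent.CharP

/-- Let H be a finite group, p a prime, T a Sylow p-subgroup, and L, M subgroups of characteristic p containing T, with largest p-reduced normal subgroups Y_L, Y_M. If L·C_H(Y_M) = M·C_H(Y_M), then Y_M ≤ Y_L. -/
theorem result {H : Type*} [Group H] [Finite H] {p : ℕ} [Fact p.Prime] (T : Sylow p H) (L M : Subgroup H) (hTL : (T : Subgroup H) ≤ L) (hTM : (T : Subgroup H) ≤ M) (hL : Subgroup.centralizer (Cfsg.pCore p ↥L : Set ↥L) ≤ Cfsg.pCore p ↥L) (hM : Subgroup.centralizer (Cfsg.pCore p ↥M : Set ↥M) ≤ Cfsg.pCore p ↥M) : L ⊔ Subgroup.centralizer (((Cfsg.largestPReducedOf p M) : Subgroup H) : Set H) = M ⊔ Subgroup.centralizer (((Cfsg.largestPReducedOf p M) : Subgroup H) : Set H) → (Cfsg.largestPReducedOf p M) ≤ (Cfsg.largestPReducedOf p L) := by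
  intro hfac
  set Y := Cfsg.largestPReducedOf p M with hY
  set C := Subgroup.centralizer (Y : Set H) with hC
  have hSM : IsSylIn p (T : Subgroup H) M :=
    (isSylIn_top_iff.2 ⟨T, rfl⟩).mono hTM le_top
  have hYL : Y ≤ L := (largestPReducedOf_le_pCoreOf p M).trans ((pCoreOf_le_of_isSylIn hSM).trans hTL)
  have hCn : ∀ g ∈ Subgroup.normalizer (Y : Set H), ∀ c ∈ C, g * c * g⁻¹ ∈ C := by
    intro g hg c hc y hy
    have h1 := Subgroup.le_normalizer_iff.1 (le_refl (Subgroup.normalizer (Y : Set H))) g⁻¹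
      (inv_mem hg) y hy
    rw [inv_inv] at h1
    calc y * (g * c * g⁻¹) = g * ((g⁻¹ * y * g) * c) * g⁻¹ := by group
      _ = g * (c * (g⁻¹ * y * g)) * g⁻¹ := by rw [hc _ h1]
      _ = g * c * g⁻¹ * y := by group
  have hLY : L ≤ Subgroup.normalizer (Y : Set H) :=
    le_sup_left.trans (hfac.le.trans (sup_le (le_normalizer_largestPReducedOf p M)
      (Subgroup.centralizer_le_normalizer _)))
  refine le_largestPReducedOf hYL hLY (isElementaryAbelian_largestPReducedOf p M) ?_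
  intro N hNL hLN hx
  have hCnY : C.Normal → True := fun _ => trivial
  have hLnC : L ≤ Subgroup.normalizer (C : Set H) :=
    Subgroup.le_normalizer_iff.2 fun g hg c hc => hCn g (hLY hg) c hc
  have hNC : N ≤ Subgroup.normalizer (C : Set H) := hNL.trans hLnC
  have hn' : L ⊔ C ≤ Subgroup.normalizer ((N ⊔ C : Subgroup H) : Set H) := by
    refine sup_le (fun g hg => ?_) (le_sup_right.trans Subgroup.le_normalizer)
    rw [Subgroup.mem_normalizer_iff_map_conj_eq, Subgroup.map_sup,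
      Subgroup.mem_normalizer_iff_map_conj_eq.1 (hLN hg),
      Subgroup.mem_normalizer_iff_map_conj_eq.1 (hLnC hg)]
  have hred : (N ⊔ C) ⊓ M ≤ C := by
    refine largestPReducedOf_reduced inf_le_right ?_ ?_
    · refine le_trans (le_inf ?_ Subgroup.le_normalizer) Subgroup.inf_normalizer_le_normalizer_inf
      exact le_trans le_sup_left (hfac.ge.trans hn')
    · intro z hz
      obtain ⟨n, hn, c, hc, rfl⟩ :=
        (Cfsg.Agent.Coprime.mem_sup_of_le_normalizer hNC).1 (sup_comm N C ▸ hz.1)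
      obtain ⟨k, hk⟩ := hx c hc
      refine ⟨k, ?_⟩
      let π := QuotientGroup.mk' (C.subgroupOf (Subgroup.normalizer (C : Set H)))
      have hnN : n * c ∈ Subgroup.normalizer (C : Set H) :=
        mul_mem (Subgroup.le_normalizer hn) (hNC hc)
      have h1 : π ⟨n * c, hnN⟩ = π ⟨c, hNC hc⟩ := by
        rw [show (⟨n * c, hnN⟩ : ↥(Subgroup.normalizer (C : Set H))) =
          ⟨n, Subgroup.le_normalizer hn⟩ * ⟨c, hNC hc⟩ from rfl, map_mul,
          show π ⟨n, Subgroup.le_normalizer hn⟩ = 1 from (QuotientGroup.eq_one_iff _).2 hn, one_mul]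
      have h2 : π (⟨n * c, hnN⟩ ^ p ^ k) = 1 := by
        rw [map_pow, h1, ← map_pow]
        exact (QuotientGroup.eq_one_iff _).2 hk
      exact Subgroup.mem_subgroupOf.1 ((QuotientGroup.eq_one_iff
        ((⟨n * c, hnN⟩ : ↥(Subgroup.normalizer (C : Set H))) ^ p ^ k)).1 h2)
  intro n hn
  obtain ⟨c, hc, m, hm, hmn⟩ := (Cfsg.Agent.Coprime.mem_sup_of_le_normalizer
    (N := C) (H := M) (Subgroup.le_normalizer_iff.2 fun g hg c hc =>
      hCn g (le_normalizer_largestPReducedOf p M hg) c hc)).1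
    (sup_comm C M ▸ hfac.le ((le_sup_left : L ≤ L ⊔ C) (hNL hn)))
  have hm' : m = c⁻¹ * n := by rw [← hmn]; group
  rw [← hmn]
  refine mul_mem hc (hred ⟨?_, hm⟩)
  rw [hm']
  exact mul_mem ((le_sup_right : C ≤ N ⊔ C) (inv_mem hc)) ((le_sup_left : N ≤ N ⊔ C) hn)

end Cfsg.Agent.S2822
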