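import Cfsg.Statements.S2823
import Cfsg.Agent.Lib.CharP.Average
import Cfsg.Agent.Lib.Cores.Residual
import Cfsg.Agent.Lib.Coprime.Basic
import Cfsg.Agent.Lib.Coprime.Commutator

set_option autoImplicit false
open Cfsg

namespace Cfsg.Agent.S2823

open Cfsg.Agent.CharP
open scoped commutatorElement

/-- Let H be a finite group, p a prime, T a Sylow p-subgroup and L a subgroup of characteristic p containing T; let Z_L be the subgroup generated by the Ω₁(Z(S)) over the Sylow p-subgroups S of L and O^p(L) the subgroup generated by the elements of L of order prime to p. Then Z_L = Ω₁(Z(L))·[Z_L, O^p(L)] and [Z_L, L] = [Z_L, O^p(L)]. -/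
theorem result {H : Type*} [Group H] [Finite H] {p : ℕ} [Fact p.Prime] (T : Sylow p H) (L : Subgroup H) (hTL : (T : Subgroup H) ≤ L) (hL : Subgroup.centralizer (Cfsg.pCore p ↥L : Set ↥L) ≤ Cfsg.pCore p ↥L) : Cfsg.sylowCenterClosure p L = (Cfsg.omegaOne p (L ⊓ Subgroup.centralizer ((L : Subgroup H) : Set H))) ⊔ ⁅Cfsg.sylowCenterClosure p L, (Cfsg.pResidual p ↥L).map L.subtype⁆ ∧ ⁅Cfsg.sylowCenterClosure p L, L⁆ = ⁅Cfsg.sylowCenterClosure p L, (Cfsg.pResidual p ↥L).map L.subtype⁆ := by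
  classical
  have hS : IsSylIn p (T : Subgroup H) L := (isSylIn_top_iff.2 ⟨T, rfl⟩).mono hTL le_top
  set Z := Cfsg.sylowCenterClosure p L with hZdef
  set R := (Cfsg.pResidual p ↥L).map L.subtype with hRdef
  set X := omegaCentre p (T : Subgroup H) with hXdef
  set D := ⁅Z, R⁆ with hDdef
  have hZY : Z ≤ Cfsg.largestPReducedOf p L := sylowCenterClosure_le_largestPReducedOf hL
  have hZe : Cfsg.IsElementaryAbelian p Z :=
    isElementaryAbelian_of_le (isElementaryAbelian_largestPReducedOf p L) hZY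
  have hZL : Z ≤ L := sylowCenterClosure_le_self p L
  have hLZ : L ≤ Subgroup.normalizer (Z : Set H) := le_normalizer_sylowCenterClosure L
  have hRL : R ≤ L := Subgroup.map_subtype_le _
  have hLR : L ≤ Subgroup.normalizer (R : Set H) := by
    refine (Subgroup.normal_subgroupOf_iff_le_normalizer hRL).1 ?_
    rw [hRdef, Subgroup.subgroupOf, Subgroup.comap_map_eq_self_of_injective (Subgroup.subtype_injective L)]
    infer_instance
  have hLD : L ≤ Subgroup.normalizer (D : Set H) := by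
    intro l hl
    rw [Subgroup.mem_normalizer_iff_map_conj_eq, hDdef, Subgroup.map_commutator,
      Subgroup.mem_normalizer_iff_map_conj_eq.1 (hLZ hl),
      Subgroup.mem_normalizer_iff_map_conj_eq.1 (hLR hl)]
  have hDZ : D ≤ Z := Cfsg.Agent.Coprime.commutator_le_of_le_normalizer (hRL.trans hLZ)
  have hfac : ∀ l ∈ L, ∃ r ∈ R, ∃ t ∈ (T : Subgroup H), l = r * t := by
    intro l hl
    obtain ⟨S, hS'⟩ := hS
    have h1 : (⟨l, hl⟩ : ↥L) ∈ Cfsg.pResidual p ↥L ⊔ (S : Subgroup ↥L) := by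
      rw [sup_comm, Cfsg.Agent.Cores.pResidual_le_sylow_sup S]
      exact Subgroup.mem_top _
    obtain ⟨r, hr, t, ht, hrt⟩ := Subgroup.mem_sup_of_normal_left.1 h1
    exact ⟨r, Subgroup.mem_map_of_mem _ hr, t, hS' ▸ Subgroup.mem_map_of_mem _ ht,
      (congrArg Subtype.val hrt).symm⟩
  have hXZ : X ≤ Z := omegaCentre_le_sylowCenterClosure hS
  have hW : Z ≤ X ⊔ D := by
    rw [hZdef, sylowCenterClosure_eq]
    refine iSup_le fun S => ?_
    obtain ⟨l, hl, hlS⟩ := hS.exists_conj S.2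
    rw [← hlS, ← omegaCentre_map (MulAut.conj l).injective]
    rintro _ ⟨x, hx, rfl⟩
    obtain ⟨r, hr, t, ht, rfl⟩ := hfac l hl
    show r * t * x * (r * t)⁻¹ ∈ _
    have e : r * t * x * (r * t)⁻¹ = ⁅x, r⁆⁻¹ * x * (x⁻¹ * (t * x * t⁻¹)) ^ (0:ℕ) := by
      have hc : t * x = x * t := omegaCentre_le_centralizer p _ hx t ht
      rw [pow_zero, mul_one, commutatorElement_def]
      calc r * t * x * (r * t)⁻¹ = r * (t * x) * t⁻¹ * r⁻¹ := by group
        _ = r * (x * t) * t⁻¹ * r⁻¹ := by rw [hc]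
        _ = _ := by group
    rw [e, pow_zero, mul_one]
    exact mul_mem ((le_sup_right : D ≤ X ⊔ D) (inv_mem (Subgroup.commutator_mem_commutator (hXZ hx) hr)))
      ((le_sup_left : X ≤ X ⊔ D) hx)
  have hZLR : ⁅Z, L⁆ = D := by
    refine le_antisymm (Subgroup.commutator_le.2 fun a ha l hl => ?_) (Subgroup.commutator_mono le_rfl hRL)
    obtain ⟨r, hr, t, ht, rfl⟩ := hfac l hl
    have hat : ⁅a, t⁆ ∈ D := by
      obtain ⟨d, hd, x, hx, rfl⟩ := (Cfsg.Agent.Coprime.mem_sup_of_le_normalizer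
        (N := D) (H := X) ((hXZ.trans hZL).trans hLD)).1 (sup_comm X D ▸ hW ha)
      have hc : x * t * x⁻¹ = t := by
        rw [← (omegaCentre_le_centralizer p _ hx t ht), mul_inv_cancel_right]
      have e : ⁅d * x, t⁆ = d * (t * d⁻¹ * t⁻¹) := by
        rw [commutatorElement_def]
        calc d * x * t * (d * x)⁻¹ * t⁻¹ = d * (x * t * x⁻¹) * d⁻¹ * t⁻¹ := by group
          _ = d * t * d⁻¹ * t⁻¹ := by rw [hc]
          _ = _ := by group
      rw [e]
      exact mul_mem hd (Subgroup.le_normalizer_iff.1 hLD t (hTL ht) _ (inv_mem hd))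
    have e : ⁅a, r * t⁆ = ⁅a, r⁆ * (r * ⁅a, t⁆ * r⁻¹) := by
      simp only [commutatorElement_def]; group
    rw [e]
    exact mul_mem (Subgroup.commutator_mem_commutator ha hr)
      (Subgroup.le_normalizer_iff.1 hLD r (hRL hr) _ hat)
  refine ⟨le_antisymm ?_ (sup_le ?_ hDZ), hZLR⟩
  · have hZn : (Z.subgroupOf L).Normal := (Subgroup.normal_subgroupOf_iff_le_normalizer hZL).2 hLZ
    have hZe' : Cfsg.IsElementaryAbelian p (Z.subgroupOf L) :=
      ⟨⟨⟨fun a b => Subtype.ext (Subtype.ext (mul_comm_of_mem hZe.1 a.2 b.2))⟩⟩,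
        fun a ha => Subtype.ext (hZe.2 a ha)⟩
    have hcase : ∀ S : Sylow p ↥L, omegaCentre p (S : Subgroup ↥L) ≤
        (Z.subgroupOf L ⊓ Subgroup.center ↥L) ⊔ ⁅Z.subgroupOf L, (⊤ : Subgroup ↥L)⁆ := by
      intro S x hx
      refine mem_center_sup_commutator S hZe' ?_ fun t ht => omegaCentre_le_centralizer p _ hx t ht
      refine omegaCentre_le_sylowCenterClosure ⟨S, rfl⟩ ?_
      rw [← omegaCentre_map (Subgroup.subtype_injective L)]
      exact Subgroup.mem_map_of_mem _ hx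
    rw [hZdef, sylowCenterClosure_eq]
    refine iSup_le ?_
    rintro ⟨_, S, rfl⟩
    rw [← omegaCentre_map (Subgroup.subtype_injective L)]
    refine (Subgroup.map_mono (hcase S)).trans ?_
    rw [Subgroup.map_sup]
    refine sup_le_sup ?_ ?_
    · rintro _ ⟨c, ⟨hcZ, hcc⟩, rfl⟩
      refine Subgroup.subset_closure ⟨⟨c.2, fun l hl => ?_⟩, hZe.2 c hcZ⟩
      exact congrArg Subtype.val (Subgroup.mem_center_iff.1 hcc ⟨l, hl⟩)
    · rw [Subgroup.map_commutator, ← MonoidHom.range_eq_map, Subgroup.range_subtype,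
        Subgroup.map_subgroupOf_eq_of_le hZL]
      exact hZLR.le
  · refine (Subgroup.closure_le _).2 fun c hc => hXZ (Subgroup.subset_closure ⟨⟨?_, ?_⟩, hc.2⟩)
    · let C0 : Subgroup H := Subgroup.zpowers c
      have hC0L : C0 ≤ L := Subgroup.zpowers_le.2 hc.1.1
      have hC0n : L ≤ Subgroup.normalizer (C0 : Set H) := by
        refine Subgroup.le_normalizer_iff.2 fun l hl x hx => ?_
        obtain ⟨k, rfl⟩ := hx
        show l * c ^ k * l⁻¹ ∈ C0
        rw [show l * c ^ k = c ^ k * l from (Commute.zpow_right (hc.1.2 l hl) k), mul_inv_cancel_right]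
        exact zpow_mem (Subgroup.mem_zpowers c) k
      have hC0p : IsPGroup p ↥C0 := by
        rintro ⟨_, k, rfl⟩
        refine ⟨1, Subtype.ext ?_⟩
        show (c ^ k) ^ p ^ 1 = 1
        rw [pow_one, ← zpow_natCast (c ^ k), ← zpow_mul, mul_comm, zpow_mul, zpow_natCast, hc.2, one_zpow]
      exact pCoreOf_le_of_isSylIn hS (le_pCoreOf hC0L hC0n hC0p (Subgroup.mem_zpowers c))
    · intro t ht
      exact hc.1.2 t (hTL ht)

end Cfsg.Agent.S2823
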