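import Cfsg.Statements.S2825
import Cfsg.Agent.Lib.CharP.Reduced
import Cfsg.Agent.Lib.Cores.Residual

set_option autoImplicit false
open Cfsg

namespace Cfsg.Agent.S2825

/-- Let L be a subnormal subgroup of the finite group H, p a prime, Y_H and Y_L the largest p-reduced normal subgroups. Then Y_H ∩ L = Y_H ∩ Y_L and this subgroup is a p-reduced normal subgroup of L; C_L(Y_L) = C_L(Y_H) = C_L(Y_H ∩ L); and if O^p(H) ≤ L, then [Y_L, L] = 1 if and only if [Y_H, H] = 1. -/
theorem result {H : Type*} [Group H] [Finite H] {p : ℕ} [Fact p.Prime] (L : Subgroup H) (hL : L.IsSubnormal) : Cfsg.largestPReduced p H ⊓ L = Cfsg.largestPReduced p H ⊓ (Cfsg.largestPReducedOf p L) ∧ Cfsg.IsPReducedNormal p ((Cfsg.largestPReduced p H ⊓ L).subgroupOf L) ∧ L ⊓ Subgroup.centralizer ((Cfsg.largestPReducedOf p L : Subgroup H) : Set H) = L ⊓ Subgroup.centralizer (Cfsg.largestPReduced p H : Set H) ∧ L ⊓ Subgroup.centralizer (Cfsg.largestPReduced p H : Set H) = L ⊓ Subgroup.centralizer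 ((Cfsg.largestPReduced p H ⊓ L : Subgroup H) : Set H) ∧ (Cfsg.pResidual p H ≤ L → (⁅(Cfsg.largestPReducedOf p L), L⁆ = ⊥ ↔ ⁅Cfsg.largestPReduced p H, (⊤ : Subgroup H)⁆ = ⊥)) := by
  set Y := Cfsg.largestPReduced p H
  set YL := Cfsg.largestPReducedOf p L
  obtain ⟨hr, h2, h3⟩ := CharP.isRed_inf_of_isSubnormal (p := p) hL
  obtain ⟨hYn, hYe, hYr⟩ := CharP.isPReducedNormal_iff.1 (CharP.isPReducedNormal_largest p H)
  have hLn : L ≤ Subgroup.normalizer ((Y ⊓ L : Subgroup H) : Set H) :=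
    (le_inf (fun x _ => Subgroup.normalizer_eq_top_iff.2 hYn ▸ Subgroup.mem_top x)
      Subgroup.le_normalizer).trans Subgroup.inf_normalizer_le_normalizer_inf
  have hle : Y ⊓ L ≤ YL :=
    CharP.le_largestPReducedOf_of_isRed inf_le_right hLn
      (CharP.isElementaryAbelian_of_le hYe inf_le_left) hr
  have hCL : L ⊓ Subgroup.centralizer (YL : Set H) ≤ Subgroup.centralizer (Y : Set H) :=
    fun x hx => h2 (Subgroup.mem_inf.2 ⟨(Subgroup.mem_inf.1 hx).1,
      Subgroup.centralizer_le (SetLike.coe_subset_coe.2 hle) (Subgroup.mem_inf.1 hx).2⟩)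
  refine ⟨le_antisymm (le_inf inf_le_left hle)
      (le_inf inf_le_left (inf_le_right.trans (CharP.largestPReducedOf_le p L))), ?_, ?_, ?_, ?_⟩
  · refine CharP.isPReducedNormal_iff.2 ⟨(Subgroup.normal_subgroupOf_iff_le_normalizer inf_le_right).2 hLn,
      ⟨⟨⟨fun a b => Subtype.ext (Subtype.ext (CharP.mul_comm_of_mem hYe.1 (Subgroup.mem_inf.1 a.2).1
        (Subgroup.mem_inf.1 b.2).1))⟩⟩, fun a ha => Subtype.ext (hYe.2 _ (Subgroup.mem_inf.1 ha).1)⟩,
      fun N hN hx => ?_⟩
    intro y hy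
    refine (CharP.mem_centralizer_subgroupOf (inf_le_right : Y ⊓ L ≤ L)).2
      (hr (N.map L.subtype) ⟨Subgroup.map_subtype_le _, ?_, ?_⟩ (Subgroup.mem_map_of_mem _ hy))
    · refine (Subgroup.normal_subgroupOf_iff_le_normalizer (Subgroup.map_subtype_le _)).1 ?_
      rw [Subgroup.subgroupOf, Subgroup.comap_map_eq_self_of_injective (Subgroup.subtype_injective L)]
      exact hN
    · rintro _ ⟨z, hz, rfl⟩
      obtain ⟨k, hk⟩ := hx z hz
      exact ⟨k, (CharP.mem_centralizer_subgroupOf (inf_le_right : Y ⊓ L ≤ L)).1 hk⟩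
  · exact le_antisymm (le_inf inf_le_left hCL) (le_inf inf_le_left h3)
  · exact le_antisymm (inf_le_inf_left _ (Subgroup.centralizer_le (SetLike.coe_subset_coe.2 inf_le_left)))
      (le_inf inf_le_left h2)
  · intro hO
    rw [Subgroup.commutator_eq_bot_iff_le_centralizer, Subgroup.commutator_eq_bot_iff_le_centralizer]
    constructor
    · intro h'
      have h := Subgroup.le_centralizer_iff.1 h'
      rw [Subgroup.le_centralizer_iff]
      have hOY : Cfsg.pResidual p H ≤ Subgroup.centralizer (Y : Set H) :=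
        hO.trans fun x hx => hCL (Subgroup.mem_inf.2 ⟨hx, h hx⟩)
      refine hYr ⊤ inferInstance fun x _ => ?_
      obtain ⟨k, hk⟩ := Cores.isPGroup_quotient_pResidual p (x : H ⧸ Cfsg.pResidual p H)
      rw [← QuotientGroup.mk_pow, QuotientGroup.eq_one_iff] at hk
      exact ⟨k, hOY hk⟩
    · intro h'
      have h := Subgroup.le_centralizer_iff.1 h'
      rw [Subgroup.le_centralizer_iff]
      intro x hx
      exact h3 (Subgroup.mem_inf.2 ⟨hx, h (Subgroup.mem_top x)⟩)

end Cfsg.Agent.S2825
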