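import Cfsg.Statements.S2826
import Cfsg.Agent.Lib.CharP.OmegaCentre
import Cfsg.Agent.Lib.Cores.Residual

set_option autoImplicit false
open Cfsg

namespace Cfsg.Agent.S2826

open scoped commutatorElement

/-- Let H be a finite group of characteristic p, T a Sylow p-subgroup, and V a normal elementary abelian p-subgroup of H containing Ω₁(Z(T)). Then C_H(Ω₁(Z(T))) = C_H([V, O^p(H)] ∩ Ω₁(Z(T))), O^p(H) being generated by the elements of order prime to p. -/
theorem result {H : Type*} [Group H] [Finite H] {p : ℕ} [Fact p.Prime] (hH : Subgroup.centralizer (Cfsg.pCore p H : Set H) ≤ Cfsg.pCore p H) (T : Sylow p H) (V : Subgroup H) [V.Normal] (hV : Cfsg.IsElementaryAbelian p V) (hZV : (Cfsg.omegaOne p ((T : Subgroup H) ⊓ Subgroup.centralizer (((T : Subgroup H) : Subgroup H) : Set H))) ≤ V) : Subgroup.centralizer ((Cfsg.omegaOne p ((T : Subgroup H) ⊓ Subgroup.centralizer (((T : Subgroup H) : Subgroup H) : Set H))) : Set H) = Subgroup.centralizer (((⁅V, Cfsg.pResidual p H⁆ ⊓ (Cfsg.omegaOne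 p ((T : Subgroup H) ⊓ Subgroup.centralizer (((T : Subgroup H) : Subgroup H) : Set H)))) : Subgroup H) : Set H) := by
  set O := Cfsg.pResidual p H
  set Z := Cfsg.omegaOne p ((T : Subgroup H) ⊓ Subgroup.centralizer ((T : Subgroup H) : Set H))
  set W := ⁅V, O⁆
  refine le_antisymm (Subgroup.centralizer_le (SetLike.coe_subset_coe.2 inf_le_right)) ?_
  set R := Subgroup.centralizer ((W ⊓ Z : Subgroup H) : Set H)
  have hZT : Z ≤ (T : Subgroup H) ⊓ Subgroup.centralizer ((T : Subgroup H) : Set H) :=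
    CharP.omegaOne_le p _
  have hTR : (T : Subgroup H) ≤ R :=
    Subgroup.le_centralizer_iff.1 ((inf_le_right.trans hZT).trans inf_le_right)
  set C := R ⊓ O
  set S := (T : Subgroup H) ⊓ O
  have hSC : S ≤ C := le_inf (inf_le_left.trans hTR) inf_le_right
  have hTS : CharP.IsSylIn p S O :=
    (CharP.isSylIn_top_iff.2 ⟨T, rfl⟩ : CharP.IsSylIn p (T : Subgroup H) ⊤).inf_normal le_top
      (fun x _ => Subgroup.normalizer_eq_top_iff.2 (inferInstance : O.Normal) ▸ Subgroup.mem_top x)
  have hndvd := (hTS.mono hSC inf_le_right).not_dvd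
  have hVn : ∀ g : H, g ∈ Subgroup.normalizer (V : Set H) := fun g =>
    Subgroup.normalizer_eq_top_iff.2 (inferInstance : V.Normal) ▸ Subgroup.mem_top g
  haveI : IsMulCommutative ↥V := hV.1
  obtain ⟨A, hA1, hA2, hA3⟩ := CharP.exists_average (K := C) (S := S) (W := V) fun g _ => hVn g
  have hTC : (T : Subgroup H) ≤ Subgroup.normalizer (C : Set H) :=
    (le_inf (hTR.trans Subgroup.le_normalizer)
      (fun x _ => Subgroup.normalizer_eq_top_iff.2 (inferInstance : O.Normal) ▸ Subgroup.mem_top x)).trans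
      Subgroup.inf_normalizer_le_normalizer_inf
  have hTS' : (T : Subgroup H) ≤ Subgroup.normalizer (S : Set H) :=
    (le_inf Subgroup.le_normalizer
      (fun x _ => Subgroup.normalizer_eq_top_iff.2 (inferInstance : O.Normal) ▸ Subgroup.mem_top x)).trans
      Subgroup.inf_normalizer_le_normalizer_inf
  have hCZ : C ≤ Subgroup.centralizer (Z : Set H) := by
    intro c hc z hz
    have hzV : z ∈ V := hZV hz
    have hzT : ∀ t ∈ (T : Subgroup H), t * z = z * t := (hZT hz).2
    set u : ↥(V ⊓ Subgroup.centralizer (S : Set H)) :=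
      ⟨z, Subgroup.mem_inf.2 ⟨hzV, fun s hs => hzT s (inf_le_left (b := O) hs)⟩⟩
    set n := S.relIndex C
    have hw : (z ^ n)⁻¹ * (A u : H) ∈ W := hA2 u W fun k hk => by
      have h : ⁅z⁻¹, k⁆ ∈ W :=
        Subgroup.commutator_mem_commutator (inv_mem hzV) (Subgroup.mem_inf.1 hk).2
      simpa [commutatorElement_def, mul_assoc] using h
    have hwV : (z ^ n)⁻¹ * (A u : H) ∈ V := mul_mem (inv_mem (pow_mem hzV n)) (A u).2
    have hwT : ∀ t ∈ (T : Subgroup H),
        t * ((z ^ n)⁻¹ * (A u : H)) = ((z ^ n)⁻¹ * (A u : H)) * t := by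
      intro t ht
      have hA : (A u : H) = t * (A u : H) * t⁻¹ := hA3 t (hTC ht) (hTS' ht) u u (by
        show z = t * z * t⁻¹
        rw [hzT t ht, mul_inv_cancel_right])
      have h8 : Commute t (A u : H) := by
        have := congrArg (· * t) hA
        simpa [mul_assoc, Commute, SemiconjBy] using this.symm
      exact (((show Commute t z from hzT t ht).pow_right n).inv_right.mul_right h8).eq
    have hwZ : (z ^ n)⁻¹ * (A u : H) ∈ W ⊓ Z := by
      refine Subgroup.mem_inf.2 ⟨hw, Subgroup.subset_closure ⟨Subgroup.mem_inf.2 ⟨?_, hwT⟩, hV.2 _ hwV⟩⟩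
      exact (CharP.isPGroup_of_isElementaryAbelian hV).le_sylow_of_normal T hwV
    have h4 : Commute c ((z ^ n)⁻¹ * (A u : H)) := ((Subgroup.mem_inf.1 hc).1 _ hwZ).symm
    have h5 : Commute c (z ^ n) := by
      have h6 : Commute c ((A u : H) * ((z ^ n)⁻¹ * (A u : H))⁻¹) :=
        (show Commute c (A u : H) from hA1 u c hc).mul_right h4.inv_right
      simpa using h6
    have h7 : z ∈ Subgroup.centralizer ({c} : Set H) := CharP.pow_mem_iff_of_coprime
      (CharP.exponent_coprime_relIndex hndvd (hV.2 z hzV))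
      (Subgroup.mem_centralizer_singleton_iff.2 h5.symm.eq)
    exact Subgroup.mem_centralizer_singleton_iff.1 h7
  intro r hr
  have hsup : r ∈ (T : Subgroup H) ⊔ O := Cores.pResidual_le_sylow_sup T ▸ Subgroup.mem_top r
  obtain ⟨t, ht, k, hk, rfl⟩ := Subgroup.mem_sup_of_normal_right.1 hsup
  have hkR : k ∈ R := by simpa using mul_mem (inv_mem (hTR ht)) hr
  exact mul_mem (Subgroup.le_centralizer_iff.1 (hZT.trans inf_le_right) ht)
    (hCZ (Subgroup.mem_inf.2 ⟨hkR, hk⟩))

end Cfsg.Agent.S2826
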