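import Cfsg.Statements.S2827
import Cfsg.Agent.Lib.CharP.PClosed
import Cfsg.Agent.Lib.CharP.Coprime
import Cfsg.Agent.Lib.Coprime.Basic
import Cfsg.Agent.Lib.Coprime.Commutator

set_option autoImplicit false
open Cfsg

namespace Cfsg.Agent.S2827

open Cfsg.Agent.CharP
open scoped commutatorElement

/-- Let H be a finite p-irreducible group (not p-closed, and O^p(H) lies in every normal subgroup that is not p-closed) and T a Sylow p-subgroup. Then H is generated by the conjugates of T and H = H'·T; O^p(H) ≤ H'; and for every normal subgroup Y of T not contained in O_p(H), O^p(H) = [O^p(H), Y] and O^p(H) is contained in the normal closure of Y in H. -/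
theorem result {H : Type*} [Group H] [Finite H] {p : ℕ} [Fact p.Prime] (hH : Cfsg.IsPIrreducible p H) (T : Sylow p H) : Subgroup.normalClosure ((T : Subgroup H) : Set H) = ⊤ ∧ commutator H ⊔ (T : Subgroup H) = ⊤ ∧ Cfsg.pResidual p H ≤ commutator H ∧ ∀ Y : Subgroup H, Y ≤ (T : Subgroup H) → (T : Subgroup H) ≤ Subgroup.normalizer (Y : Set H) → ¬ Y ≤ Cfsg.pCore p H → ⁅Cfsg.pResidual p H, Y⁆ = Cfsg.pResidual p H ∧ Cfsg.pResidual p H ≤ Subgroup.normalClosure (Y : Set H) := by
  obtain ⟨hnc, hirr⟩ := hH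
  set R := Cfsg.pResidual p H with hR
  have hncl : ∀ N : Subgroup H, N.Normal → ∀ Y : Subgroup H, Y ≤ N → IsPGroup p ↥Y →
      ¬ Y ≤ Cfsg.pCore p H → ¬ Cfsg.IsPClosed p ↥N := by
    intro N hN Y hYN hY hYO hc
    refine hYO ((isPClosed_subgroup_iff.1 hc Y hYN hY).trans ?_)
    rw [← pCoreOf_top]
    exact pCoreOf_mono_of_normal le_top (Subgroup.normalizer_eq_top_iff.2 hN).ge
  have hTO : ¬ (T : Subgroup H) ≤ Cfsg.pCore p H := by
    intro h
    refine hnc (isPClosed_iff.2 fun P hP => ?_)
    obtain ⟨S, hS⟩ := hP.exists_le_sylow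
    obtain ⟨g, hg⟩ := MulAction.exists_smul_eq H T S
    refine hS.trans ?_
    rw [← hg, Sylow.coe_subgroup_smul]
    intro x hx
    obtain ⟨y, hy, rfl⟩ := hx
    exact (inferInstance : (Cfsg.pCore p H).Normal).conj_mem y (h hy) g
  have h1 : Subgroup.normalClosure ((T : Subgroup H) : Set H) = ⊤ :=
    normal_sup_eq_top_of_sylow_le T
      (hirr _ inferInstance (hncl _ inferInstance _ Subgroup.subset_normalClosure T.isPGroup' hTO))
      Subgroup.subset_normalClosure
  have h2 : commutator H ⊔ (T : Subgroup H) = ⊤ := by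
    have : (commutator H ⊔ (T : Subgroup H)).Normal := Subgroup.Normal.of_commutator_le H le_sup_left
    exact eq_top_iff.2 (h1.ge.trans (Subgroup.normalClosure_le_normal
      (le_sup_right : (T : Subgroup H) ≤ commutator H ⊔ (T : Subgroup H))))
  refine ⟨h1, h2, ?_, ?_⟩
  · refine Cfsg.Agent.Cores.pResidual_le_of_isPGroup_quotient ?_
    refine (T.isPGroup').of_surjective
      ((QuotientGroup.mk' (commutator H)).comp (T : Subgroup H).subtype) ?_
    intro q
    obtain ⟨g, rfl⟩ := QuotientGroup.mk'_surjective (commutator H) q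
    obtain ⟨a, ha, t, ht, rfl⟩ := Subgroup.mem_sup_of_normal_left.1
      (h2 ▸ Subgroup.mem_top g : g ∈ commutator H ⊔ (T : Subgroup H))
    refine ⟨⟨t, ht⟩, ?_⟩
    show (QuotientGroup.mk' (commutator H)) t = _
    rw [map_mul, (QuotientGroup.eq_one_iff a).2 ha |> fun h => (show QuotientGroup.mk' (commutator H) a = 1 from h), one_mul]
  · intro Y hYT hTY hYO
    have hY : IsPGroup p ↥Y := T.isPGroup'.to_le hYT
    have hRN : R ≤ Subgroup.normalClosure (Y : Set H) :=
      hirr _ inferInstance (hncl _ inferInstance Y Subgroup.subset_normalClosure hY hYO)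
    refine ⟨?_, hRN⟩
    have hRn : Subgroup.normalizer ((R : Subgroup H) : Set H) = ⊤ :=
      Subgroup.normalizer_eq_top_iff.2 inferInstance
    have hYR : Y ≤ Subgroup.normalizer (R : Set H) := by rw [hRn]; exact le_top
    set M := ⁅R, Y⁆ with hM
    have hMR : M ≤ R := Cfsg.Agent.Coprime.commutator_le_of_le_normalizer hYR
    have hMT : (T : Subgroup H) ≤ Subgroup.normalizer (M : Set H) := by
      intro t ht
      rw [Subgroup.mem_normalizer_iff_map_conj_eq, hM, Subgroup.map_commutator,
        Subgroup.mem_normalizer_iff_map_conj_eq.1 (hTY ht),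
        Subgroup.mem_normalizer_iff_map_conj_eq.1 (hRn.symm ▸ Subgroup.mem_top t :
          t ∈ Subgroup.normalizer (R : Set H))]
    have hMn : M.Normal := by
      rw [← Subgroup.normalizer_eq_top_iff, eq_top_iff]
      exact (Cfsg.Agent.Cores.pResidual_le_sylow_sup T).ge.trans
        (sup_le hMT (Subgroup.normalizer_commutator_ge_left _ _))
    have hYM : (Y ⊔ M).Normal := by
      rw [← Subgroup.normalizer_eq_top_iff, eq_top_iff]
      refine (Cfsg.Agent.Cores.pResidual_le_sylow_sup T).ge.trans (sup_le ?_ ?_)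
      · intro t ht
        rw [Subgroup.mem_normalizer_iff_map_conj_eq, Subgroup.map_sup,
          Subgroup.mem_normalizer_iff_map_conj_eq.1 (hTY ht),
          Subgroup.mem_normalizer_iff_map_conj_eq.1 (hMT ht)]
      · refine Subgroup.le_normalizer_iff.2 fun r hr z hz => ?_
        obtain ⟨m, hm, y, hy, rfl⟩ := Subgroup.mem_sup_of_normal_left.1
          (sup_comm Y M ▸ hz : z ∈ M ⊔ Y)
        have e : r * (m * y) * r⁻¹ = (r * m * r⁻¹) * ⁅r, y⁆ * y := by
          rw [commutatorElement_def]; group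
        rw [e]
        exact mul_mem (mul_mem ((le_sup_right : M ≤ Y ⊔ M) (hMn.conj_mem m hm r))
          ((le_sup_right : M ≤ Y ⊔ M) (Subgroup.commutator_mem_commutator hr hy)))
          ((le_sup_left : Y ≤ Y ⊔ M) hy)
    refine le_antisymm hMR ?_
    have hR2 : R ≤ Y ⊔ M :=
      hRN.trans (Subgroup.normalClosure_le_normal (le_sup_left : Y ≤ Y ⊔ M))
    rw [hR, Cfsg.Agent.Cores.pResidual_le_iff]
    obtain ⟨a, ha⟩ := IsPGroup.iff_card.1 (Cfsg.Agent.Cores.isPGroup_quotient_pResidual (G := H) p)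
    obtain ⟨b, hb⟩ := IsPGroup.iff_card.1 hY
    have hd : M.relIndex R ∣ p ^ b :=
      (Dvd.intro _ (Subgroup.relIndex_mul_relIndex M R (Y ⊔ M) hMR hR2)).trans (by
        rw [sup_comm, Subgroup.relIndex_sup_left, ← hb]
        exact Subgroup.relIndex_dvd_card M Y)
    obtain ⟨c, -, hc⟩ := (Nat.dvd_prime_pow Fact.out).1 hd
    refine IsPGroup.of_card (n := c + a) ?_
    rw [← Subgroup.index_eq_card, ← Subgroup.relIndex_mul_index hMR, hc, Subgroup.index_eq_card,
      hR, ha, pow_add]

end Cfsg.Agent.S2827
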