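import Cfsg.Statements.S2828
import Cfsg.Agent.Lib.CharP.PClosed

set_option autoImplicit false
open Cfsg

namespace Cfsg.Agent.S2828

open Cfsg.Agent.CharP

/-- Let H be a finite group, p a prime and D a normal p-subgroup of H. Then H is p-irreducible if and only if H/D is p-irreducible, and H is strongly p-irreducible if and only if H/D is strongly p-irreducible. -/
theorem result {H : Type*} [Group H] [Finite H] {p : ℕ} [Fact p.Prime] (D : Subgroup H) [D.Normal] (hD : IsPGroup p ↥D) : (Cfsg.IsPIrreducible p H ↔ Cfsg.IsPIrreducible p (H ⧸ D)) ∧ (Cfsg.IsStronglyPIrreducible p H ↔ Cfsg.IsStronglyPIrreducible p (H ⧸ D)) := by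
  set π := QuotientGroup.mk' D with hπ
  have hs : Function.Surjective π := QuotientGroup.mk'_surjective D
  have hker : IsPGroup p ↥π.ker := by rw [hπ, QuotientGroup.ker_mk']; exact hD
  have hkerD : π.ker = D := QuotientGroup.ker_mk' D
  have hcl : Cfsg.IsPClosed p (H ⧸ D) ↔ Cfsg.IsPClosed p H := isPClosed_iff_of_ker hs hker
  have hR := Cfsg.Agent.Cores.map_pResidual_of_surjective (G := H) hs p
  have hup : ∀ N : Subgroup (H ⧸ D), (N.comap π).map π = N := fun N =>
    Subgroup.map_comap_eq_self_of_surjective hs N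
  have hdown : ∀ N : Subgroup H, N.Normal →
      Cfsg.pResidual p (H ⧸ D) ≤ N.map π → Cfsg.pResidual p H ≤ N := by
    intro N hN h
    refine pResidual_le_of_le_sup hD ?_
    rw [← hR] at h
    have := Subgroup.map_le_iff_le_comap.1 h
    rwa [Subgroup.comap_map_eq, hkerD] at this
  have hcore : ∀ N : Subgroup H, (⁅N.map π, (⊤ : Subgroup (H ⧸ D))⁆ ≤ Cfsg.pCore p (H ⧸ D)) ↔
      ⁅N, (⊤ : Subgroup H)⁆ ≤ Cfsg.pCore p H := by
    intro N
    rw [← Subgroup.map_top_of_surjective π hs, ← Subgroup.map_commutator,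
      Subgroup.map_le_iff_le_comap, pCore_comap_eq hs hker]
  constructor
  · constructor
    · rintro ⟨h1, h2⟩
      refine ⟨fun h => h1 (hcl.1 h), fun N hN hNc => ?_⟩
      rw [← hR, Subgroup.map_le_iff_le_comap]
      refine h2 _ inferInstance fun hc => hNc ?_
      rw [← hup N]
      exact (isPClosed_map_iff hker).2 hc
    · rintro ⟨h1, h2⟩
      refine ⟨fun h => h1 (hcl.2 h), fun N hN hNc => hdown N hN ?_⟩
      exact h2 _ (hN.map π hs) fun hc => hNc ((isPClosed_map_iff hker).1 hc)
  · constructor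
    · rintro ⟨h1, h2⟩
      refine ⟨fun h => h1 (hcl.1 h), fun N hN hNc => ?_⟩
      rw [← hR, Subgroup.map_le_iff_le_comap]
      refine h2 _ inferInstance fun hc => hNc ?_
      rw [← hup N]
      exact (hcore _).2 hc
    · rintro ⟨h1, h2⟩
      refine ⟨fun h => h1 (hcl.2 h), fun N hN hNc => hdown N hN ?_⟩
      exact h2 _ (hN.map π hs) fun hc => hNc ((hcore N).1 hc)

end Cfsg.Agent.S2828
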