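import Cfsg.Statements.S2829
import Cfsg.Agent.Lib.CharP.PClosed

set_option autoImplicit false
open Cfsg

namespace Cfsg.Agent.S2829

open Cfsg.Agent.CharP
open scoped commutatorElement

/-- Every strongly p-irreducible finite group is p-irreducible. -/
theorem result {H : Type*} [Group H] [Finite H] {p : ℕ} [Fact p.Prime] (hH : Cfsg.IsStronglyPIrreducible p H) : Cfsg.IsPIrreducible p H := by
  obtain ⟨hnc, hstr⟩ := hH
  refine ⟨hnc, fun N hN hNc => hstr N hN fun hle => hNc ?_⟩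
  set π := QuotientGroup.mk' (Cfsg.pCore p H) with hπ
  have hcen : ∀ n ∈ N, ∀ g : H, π n * π g = π g * π n := by
    intro n hn g
    rw [← map_mul, ← map_mul, hπ, QuotientGroup.mk'_apply, QuotientGroup.mk'_apply,
      QuotientGroup.eq]
    have h1 := hle (Subgroup.commutator_mem_commutator (inv_mem hn) (Subgroup.mem_top g⁻¹))
    rw [commutatorElement_def] at h1
    have h2 := (inferInstance : (Cfsg.pCore p H).Normal).conj_mem _ (inv_mem h1) 1
    have e : (n * g)⁻¹ * (g * n) = (g⁻¹ * n⁻¹ * g * n) := by group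
    rw [e]
    have e2 : g⁻¹ * n⁻¹ * g * n = (n⁻¹ * g⁻¹ * n⁻¹⁻¹ * g⁻¹⁻¹)⁻¹ := by group
    rw [e2]
    exact inv_mem h1
  have hab : Cfsg.IsPClosed p ↥(N.map π) := by
    refine isPClosed_of_mulCommutative ?_
    rintro ⟨_, a, ha, rfl⟩ ⟨_, b, hb, rfl⟩
    exact Subtype.ext (hcen a ha b)
  refine (isPClosed_map_iff ?_).1 hab
  rw [hπ, QuotientGroup.ker_mk']
  exact isPGroup_pCore p H

end Cfsg.Agent.S2829
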