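import Cfsg.Statements.S2830
import Cfsg.Agent.Lib.CharP.PClosed
import Cfsg.Agent.Lib.CharP.Coprime

set_option autoImplicit false
open Cfsg

namespace Cfsg.Agent.S2830

open Cfsg.Agent.CharP

/-- Let H act by conjugation on the elementary abelian p-subgroup V of a finite group G (H ≤ N(V)), with H p-irreducible and O^p(H) not centralizing V. Then C_H(V) is p-closed and C_T(V) ≤ O_p(H) for every p-subgroup T of H. If in addition O_p(H) centralizes V, then C_T(V) = T ∩ O_p(H) for every p-subgroup T of H, and V is p-reduced for H: O_p(H/C_H(V)) = 1. -/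
theorem result {G : Type*} [Group G] [Finite G] {p : ℕ} [Fact p.Prime] (V H : Subgroup G) (hV : Cfsg.IsElementaryAbelian p V) (hHV : H ≤ Subgroup.normalizer (V : Set G)) (hH : Cfsg.IsPIrreducible p ↥H) (hnc : ¬ (Cfsg.pResidual p ↥H).map H.subtype ≤ Subgroup.centralizer (V : Set G)) [hn : ((Subgroup.centralizer (V : Set G)).subgroupOf H).Normal] : Cfsg.IsPClosed p ↥(H ⊓ Subgroup.centralizer (V : Set G)) ∧ (∀ T : Subgroup G, T ≤ H → IsPGroup p ↥T → T ⊓ Subgroup.centralizer (V : Set G) ≤ Cfsg.pCoreOf p H) ∧ (Cfsg.pCoreOf p H ≤ Subgroup.centralizer (V : Set G) → (∀ T : Subgroup G, T ≤ H → IsPGroup p ↥T → T ⊓ Subgroup.centralizer (V : Set G) = T ⊓ Cfsg.pCoreOf p H) ∧ Cfsg.pCore p (↥H ⧸ (Subgroup.centralizer (V : Set G)).subgroupOf H) = ⊥) := by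
  obtain ⟨hHc, hirr⟩ := hH
  set C := (Subgroup.centralizer (V : Set G)).subgroupOf H with hC
  have hRC : ¬ Cfsg.pResidual p ↥H ≤ C := fun h =>
    hnc (by rintro _ ⟨x, hx, rfl⟩; exact h hx)
  have hcl : Cfsg.IsPClosed p ↥C := by
    by_contra h
    exact hRC (hirr C hn h)
  have heq : C.map H.subtype = H ⊓ Subgroup.centralizer (V : Set G) := by
    rw [hC, Subgroup.subgroupOf_map_subtype, inf_comm]
  have hcl' : Cfsg.IsPClosed p ↥(H ⊓ Subgroup.centralizer (V : Set G)) := by
    rw [← heq]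
    exact isPClosed_of_surjective (H.subtype.subgroupMap_surjective C) hcl
  have hsub : ∀ T : Subgroup G, T ≤ H → IsPGroup p ↥T →
      T ⊓ Subgroup.centralizer (V : Set G) ≤ Cfsg.pCoreOf p H := by
    intro T hTH hT
    have h1 : C ⊓ T.subgroupOf H ≤ Cfsg.pCore p ↥H :=
      (isPClosed_subgroup_iff.1 hcl (C ⊓ T.subgroupOf H) inf_le_left
        ((hT.comap_subtype).to_inf_right)).trans
        ((pCoreOf_mono_of_normal le_top (Subgroup.normalizer_eq_top_iff.2 hn).ge).trans_eq
          (pCoreOf_top p))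
    intro x hx
    exact ⟨⟨x, hTH hx.1⟩, h1 (Subgroup.mem_inf.2 ⟨hx.2, hx.1⟩), rfl⟩
  refine ⟨hcl', hsub, fun hOC => ⟨fun T hTH hT => le_antisymm (le_inf inf_le_left (hsub T hTH hT))
    (le_inf inf_le_left (inf_le_right.trans hOC)), ?_⟩⟩
  set π := QuotientGroup.mk' C with hπ
  set N := (Cfsg.pCore p (↥H ⧸ C)).comap π with hN
  have hCN : C ≤ N := fun x hx => by
    rw [hN, Subgroup.mem_comap, hπ, QuotientGroup.mk'_apply, (QuotientGroup.eq_one_iff x).2 hx]
    exact one_mem _
  obtain ⟨a, ha⟩ := IsPGroup.iff_card.1 (isPGroup_pCore p (↥H ⧸ C))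
  have hidx : C.relIndex N = p ^ a := by
    have h := Subgroup.relIndex_ker N π
    rw [hN, Subgroup.map_comap_eq_self_of_surjective (QuotientGroup.mk'_surjective C), ha, hπ,
      QuotientGroup.ker_mk'] at h
    rw [hN]
    exact h
  have hNcl : Cfsg.IsPClosed p ↥N := by
    by_contra h
    refine hRC ?_
    have hRN := hirr N inferInstance h
    rw [Cfsg.Agent.Cores.pResidual_le_iff] at hRN ⊢
    obtain ⟨b, hb⟩ := IsPGroup.iff_card.1 hRN
    refine IsPGroup.of_card (n := a + b) ?_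
    rw [← Subgroup.index_eq_card, ← Subgroup.relIndex_mul_index hCN, hidx, Subgroup.index_eq_card,
      hb, pow_add]
  have hOC' : Cfsg.pCore p ↥H ≤ C := fun x hx => hOC (Subgroup.mem_map_of_mem _ hx)
  have hNC : N ≤ C := by
    obtain ⟨U, hU⟩ := exists_isSylIn p N
    have hUC : U ≤ C := ((isPClosed_subgroup_iff.1 hNcl U hU.le hU.isPGroup).trans
      ((pCoreOf_mono_of_normal le_top (Subgroup.normalizer_eq_top_iff.2 inferInstance).ge).trans_eq
        (pCoreOf_top p))).trans hOC'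
    have h1 : ¬ p ∣ C.relIndex N := fun h =>
      hU.not_dvd (h.trans (Subgroup.relIndex_dvd_of_le_left _ hUC))
    rw [hidx] at h1
    have ha0 : a = 0 := by
      by_contra ha0
      exact h1 (dvd_pow_self p ha0)
    exact Subgroup.relIndex_eq_one.1 (by rw [hidx, ha0, pow_zero])
  refine eq_bot_iff.2 fun q hq => ?_
  obtain ⟨x, rfl⟩ := QuotientGroup.mk'_surjective C q
  exact (QuotientGroup.eq_one_iff x).2 (hNC hq)

end Cfsg.Agent.S2830
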