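import Cfsg.Statements.S2831
import Cfsg.Agent.Lib.CharP.PClosed

set_option autoImplicit false
open Cfsg

namespace Cfsg.Agent.S2831

open Cfsg.Agent.CharP
open scoped Pointwise

/-- Let H be a finite group with Sylow p-subgroup T such that H is T-minimal (H is generated by the conjugates of T and T lies in exactly one maximal subgroup of H). Then H is p-irreducible: H is not p-closed and O^p(H) lies in every normal subgroup of H that is not p-closed. -/
theorem result {H : Type*} [Group H] [Finite H] {p : ℕ} [Fact p.Prime] (T : Sylow p H) (hmin : Cfsg.IsMinimalOver (T : Subgroup H)) : Cfsg.IsPIrreducible p H := by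
  obtain ⟨htop, M, ⟨hM, hTM⟩, huniq⟩ := hmin
  have hle : ∀ X : Subgroup H, (T : Subgroup H) ≤ X → X ≠ ⊤ → X ≤ M := by
    intro X hX hne
    obtain ⟨M', hM', hXM'⟩ := (IsCoatomic.eq_top_or_exists_le_coatom X).resolve_left hne
    exact (huniq M' ⟨hM', hX.trans hXM'⟩) ▸ hXM'
  refine ⟨fun hc => hM.1 (eq_top_iff.2 ?_), fun N hN hNc => ?_⟩
  · have := hc T
    exact htop.ge.trans ((Subgroup.normalClosure_le_normal le_rfl).trans hTM)
  · have hTN : IsSylIn p ((T : Subgroup H) ⊓ N) N := by
      obtain ⟨U, hU, hUge⟩ := exists_isSylIn_ge (p := p) (T.isPGroup'.to_inf_left (K := N)) inf_le_right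
      obtain ⟨S, hS⟩ := hU.isPGroup.exists_le_sylow
      obtain ⟨g, hg⟩ := MulAction.exists_smul_eq H S T
      have h1 : U.map (MulAut.conj g).toMonoidHom ≤ (T : Subgroup H) ⊓ N := by
        rintro _ ⟨u, hu, rfl⟩
        refine ⟨?_, hN.conj_mem u (hU.le hu) g⟩
        rw [← hg, Sylow.coe_subgroup_smul]
        exact Subgroup.smul_mem_pointwise_smul u (MulAut.conj g) _ (hS hu)
      have h2 : U = (T : Subgroup H) ⊓ N := by
        refine (Subgroup.eq_of_le_of_card_ge hUge ?_).symm
        rw [← Subgroup.card_map_of_injective (K := U) (f := (MulAut.conj g).toMonoidHom)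
          (MulAut.conj g).injective]
        exact Subgroup.card_le_of_le h1
      exact h2 ▸ hU
    set T₁ := (T : Subgroup H) ⊓ N with hT₁
    have hTnorm : (T : Subgroup H) ≤ Subgroup.normalizer (T₁ : Set H) := by
      refine le_trans (le_inf Subgroup.le_normalizer ?_) Subgroup.inf_normalizer_le_normalizer_inf
      exact (Subgroup.normalizer_eq_top_iff.2 hN) ▸ le_top
    have hne : Subgroup.normalizer (T₁ : Set H) ≠ ⊤ := by
      intro h
      refine hNc (isPClosed_subgroup_iff.2 fun P hPN hP => ?_)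
      have hn₁ : T₁.Normal := Subgroup.normalizer_eq_top_iff.1 h
      obtain ⟨U, hU, hPU⟩ := exists_isSylIn_ge hP hPN
      obtain ⟨g, -, hg⟩ := hTN.exists_conj hU
      refine hPU.trans ?_
      rw [← hg, conj_map_of_mem (h ▸ Subgroup.mem_top g)]
      exact le_pCoreOf hTN.le (h ▸ le_top) hTN.isPGroup
    have hFr : Subgroup.normalizer (T₁ : Set H) ⊔ N = ⊤ := by
      refine eq_top_iff.2 fun x _ => ?_
      have h1 := hTN.conj x
      rw [conj_map_of_mem (H := N) (g := x)
        ((Subgroup.normalizer_eq_top_iff.2 hN).ge (Subgroup.mem_top x))] at h1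
      obtain ⟨a, ha, hag⟩ := h1.exists_conj hTN
      rw [conj_map_map] at hag
      have : x = a⁻¹ * (a * x) := by group
      rw [this]
      exact mul_mem ((le_sup_right : N ≤ _) (inv_mem ha))
        ((le_sup_left : Subgroup.normalizer (T₁ : Set H) ≤ _) (mem_normalizer_of_conj_map hag))
    have hNT : (T : Subgroup H) ⊔ N = ⊤ := by
      by_contra hne'
      exact hM.1 (eq_top_iff.2 (hFr.ge.trans (sup_le (hle _ hTnorm hne)
        (le_sup_right.trans (hle _ le_sup_left hne')))))
    refine Cfsg.Agent.Cores.pResidual_le_of_isPGroup_quotient ?_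
    refine (T.isPGroup').of_surjective ((QuotientGroup.mk' N).comp (T : Subgroup H).subtype) ?_
    intro q
    obtain ⟨g, rfl⟩ := QuotientGroup.mk'_surjective N q
    obtain ⟨t, ht, a, ha, rfl⟩ := Subgroup.mem_sup_of_normal_right.1 (hNT ▸ Subgroup.mem_top g :
      g ∈ (T : Subgroup H) ⊔ N)
    refine ⟨⟨t, ht⟩, ?_⟩
    show QuotientGroup.mk' N t = _
    rw [map_mul, show QuotientGroup.mk' N a = 1 from (QuotientGroup.eq_one_iff a).2 ha, mul_one]

end Cfsg.Agent.S2831
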