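import Cfsg.Statements.S2832
import Cfsg.Agent.Lib.CharP.PClosed

set_option autoImplicit false
open Cfsg

namespace Cfsg.Agent.S2832

open Cfsg.Agent.CharP

/-- Let H be a finite group with Sylow p-subgroup T such that H is T-minimal (generated by the conjugates of T, with T in exactly one maximal subgroup), and let N be a normal subgroup of H. Then either H/N is a p-group or H/N is minimal over the image of T in the same sense. -/
theorem result {H : Type*} [Group H] [Finite H] {p : ℕ} [Fact p.Prime] (T : Sylow p H) (hmin : Cfsg.IsMinimalOver (T : Subgroup H)) (N : Subgroup H) [N.Normal] : IsPGroup p (H ⧸ N) ∨ Cfsg.IsMinimalOver ((T : Subgroup H).map (QuotientGroup.mk' N)) := by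
  obtain ⟨htop, M, ⟨hM, hTM⟩, huniq⟩ := hmin
  set π := QuotientGroup.mk' N with hπ
  have hs : Function.Surjective π := QuotientGroup.mk'_surjective N
  by_cases hTN : (T : Subgroup H).map π = ⊤
  · left
    refine (T.isPGroup').of_surjective (π.comp (T : Subgroup H).subtype) ?_
    intro q
    obtain ⟨t, ht, rfl⟩ := (hTN ▸ Subgroup.mem_top q : q ∈ (T : Subgroup H).map π)
    exact ⟨⟨t, ht⟩, rfl⟩
  · right
    refine ⟨eq_top_iff.2 ?_, ?_⟩
    · rw [← Subgroup.map_top_of_surjective π hs, ← htop, Subgroup.map_normalClosure _ π hs]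
      exact le_of_eq (by rw [Subgroup.coe_map])
    · have hco : ∀ X : Subgroup (H ⧸ N), IsCoatom X → IsCoatom (X.comap π) := fun X hX =>
        Subgroup.isCoatom_comap_of_surjective hs hX
      obtain ⟨X, hX, hTX⟩ := (IsCoatomic.eq_top_or_exists_le_coatom _).resolve_left hTN
      refine ⟨X, ⟨hX, hTX⟩, fun Y hY => ?_⟩
      refine Subgroup.comap_injective hs ?_
      rw [huniq _ ⟨hco X hX, Subgroup.map_le_iff_le_comap.1 hTX⟩,
        huniq _ ⟨hco Y hY.1, Subgroup.map_le_iff_le_comap.1 hY.2⟩]

end Cfsg.Agent.S2832
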