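import Cfsg.Statements.S2833
import Mathlib.Tactic.Group


set_option autoImplicit false
open Cfsg

open scoped commutatorElement Pointwise

namespace Cfsg.Agent.S2833

/-- Let V be a subgroup of a finite group G normalized by the subgroup L, let X ≤ L and g ∈ L with [V, X, X] = 1 and L generated by X and gXg⁻¹. Put W = [V, L]. Then W = [V, X]·[V, gXg⁻¹], C_W(X) = [V, X], and C_W(L) = [V, X] ∩ [V, gXg⁻¹]. -/
theorem result {G : Type*} [Group G] [Finite G] (V L : Subgroup G) (hLV : L ≤ Subgroup.normalizer (V : Set G)) (X : Subgroup G) (hX : X ≤ L) (g : G) (hg : g ∈ L) (hq : ⁅⁅V, X⁆, X⁆ = ⊥) (hgen : X ⊔ X.map (MulAut.conj g).toMonoidHom = L) (W : Subgroup G) (hW : W = ⁅V, L⁆) : ⁅V, X⁆ ⊔ ⁅V, X.map (MulAut.conj g).toMonoidHom⁆ = W ∧ W ⊓ Subgroup.centralizer (X : Set G) = ⁅V, X⁆ ∧ W ⊓ Subgroup.centralizer (L : Set G) = ⁅V, X⁆ ⊓ ⁅V, X.map (MulAut.conj g).toMonoidHom⁆ := by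
  classical
  subst hW
  set Y := X.map (MulAut.conj g).toMonoidHom with hY
  have hXV : X ≤ Subgroup.normalizer (V : Set G) := hX.trans hLV
  have hYL : Y ≤ L := hgen ▸ le_sup_right
  have hYV : Y ≤ Subgroup.normalizer (V : Set G) := hYL.trans hLV
  set VX := ⁅V, X⁆ with hVXdef
  set VY := ⁅V, Y⁆ with hVYdef
  have cle : ∀ A : Subgroup G, A ≤ Subgroup.normalizer (V : Set G) → ⁅V, A⁆ ≤ V := fun A hA =>
    Subgroup.commutator_le.2 fun v hv a ha => by
      have := mul_mem hv (Subgroup.le_normalizer_iff.1 hA a ha v⁻¹ (inv_mem hv))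
      rwa [commutatorElement_def, mul_assoc v a, mul_assoc v]
  have cnorm : ∀ A : Subgroup G, V ≤ Subgroup.normalizer ((⁅V, A⁆ : Subgroup G) : Set G) := by
    intro A
    refine Subgroup.le_normalizer_closure_iff.2 fun v hv x hx => ?_
    obtain ⟨w, hw, a, ha, rfl⟩ := hx
    have e : v * ⁅w, a⁆ * v⁻¹ = ⁅v * w, a⁆ * ⁅v, a⁆⁻¹ := by
      simp only [commutatorElement_def]; group
    rw [e]
    exact mul_mem (Subgroup.commutator_mem_commutator (mul_mem hv hw) ha)
      (inv_mem (Subgroup.commutator_mem_commutator hv ha))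
  have hsub : VX ⊔ VY ≤ V := sup_le (cle X hXV) (cle Y hYV)
  have hnormV : V ≤ Subgroup.normalizer ((VX ⊔ VY : Subgroup G) : Set G) := by
    intro v hv
    rw [Subgroup.mem_normalizer_iff_map_conj_eq, Subgroup.map_sup,
      Subgroup.mem_normalizer_iff_map_conj_eq.1 (cnorm X hv),
      Subgroup.mem_normalizer_iff_map_conj_eq.1 (cnorm Y hv)]
  have hnormA : ∀ A : Subgroup G, ⁅V, A⁆ ≤ VX ⊔ VY →
      A ≤ Subgroup.normalizer ((VX ⊔ VY : Subgroup G) : Set G) := by
    intro A hA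
    refine Subgroup.le_normalizer_iff.2 fun a ha c hc => ?_
    have h1 : c * a * c⁻¹ * a⁻¹ ∈ VX ⊔ VY := by
      have := hA (Subgroup.commutator_mem_commutator (hsub hc) ha)
      rwa [commutatorElement_def] at this
    simpa [mul_assoc] using mul_mem (inv_mem h1) hc
  have hnormL : L ≤ Subgroup.normalizer ((VX ⊔ VY : Subgroup G) : Set G) :=
    hgen ▸ sup_le (hnormA X le_sup_left) (hnormA Y le_sup_right)
  have hVL : ⁅V, L⁆ = VX ⊔ VY := by
    refine le_antisymm ?_ (sup_le (Subgroup.commutator_mono le_rfl hX)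
      (Subgroup.commutator_mono le_rfl hYL))
    refine Subgroup.commutator_le.2 fun v hv a ha => ?_
    have hle : ∀ b ∈ Subgroup.closure ((X : Set G) ∪ (Y : Set G)), b ∈ L ∧ ∀ v ∈ V, ⁅v, b⁆ ∈ VX ⊔ VY := by
      intro b hb
      induction hb using Subgroup.closure_induction with
      | mem b hb =>
        rcases hb with hb | hb
        · exact ⟨hX hb, fun v hv => (le_sup_left : VX ≤ VX ⊔ VY) (Subgroup.commutator_mem_commutator hv hb)⟩
        · exact ⟨hYL hb, fun v hv => (le_sup_right : VY ≤ VX ⊔ VY) (Subgroup.commutator_mem_commutator hv hb)⟩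
      | one => exact ⟨one_mem _, fun v _ => by rw [commutatorElement_one_right]; exact one_mem _⟩
      | mul b c _ _ e1 e2 =>
        refine ⟨mul_mem e1.1 e2.1, fun v hv => ?_⟩
        have e : ⁅v, b * c⁆ = ⁅v, b⁆ * (b * ⁅v, c⁆ * b⁻¹) := by
          simp only [commutatorElement_def]; group
        rw [e]
        exact mul_mem (e1.2 v hv) (Subgroup.le_normalizer_iff.1 hnormL b e1.1 _ (e2.2 v hv))
      | inv b _ e1 =>
        refine ⟨inv_mem e1.1, fun v hv => ?_⟩
        have e : ⁅v, b⁻¹⁆ = b⁻¹ * ⁅v, b⁆⁻¹ * b⁻¹⁻¹ := by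
          simp only [commutatorElement_def]; group
        rw [e]
        exact Subgroup.le_normalizer_iff.1 hnormL _ (inv_mem e1.1) _ (inv_mem (e1.2 v hv))
    rw [← hgen, Subgroup.sup_eq_closure] at ha
    exact (hle a ha).2 v hv
  have hgV : V.map (MulAut.conj g).toMonoidHom = V :=
    Subgroup.mem_normalizer_iff_map_conj_eq.1 (hLV hg)
  have hVY : VX.map (MulAut.conj g).toMonoidHom = VY := by
    rw [hVXdef, Subgroup.map_commutator, hgV]
  have hcX : VX ≤ Subgroup.centralizer (X : Set G) :=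
    (Subgroup.commutator_eq_bot_iff_le_centralizer).1 hq
  have hcY : VY ≤ Subgroup.centralizer (Y : Set G) := by
    rw [← hVY]
    rintro _ ⟨c, hc, rfl⟩ _ ⟨y, hy, rfl⟩
    rw [← map_mul, ← map_mul, hcX hc y hy]
  have hcL : ∀ d, d ∈ Subgroup.centralizer (X : Set G) → d ∈ Subgroup.centralizer (Y : Set G) →
      d ∈ Subgroup.centralizer (L : Set G) := by
    intro d h1 h2
    rw [← hgen, Subgroup.sup_eq_closure, Subgroup.centralizer_closure]
    intro b hb
    rcases hb with hb | hb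
    · exact h1 b hb
    · exact h2 b hb
  have hswap : ∀ d, d ∈ Subgroup.centralizer (L : Set G) → (d ∈ VY ↔ d ∈ VX) := by
    intro d hd
    have hc : MulAut.conj g d = d := by
      rw [MulAut.conj_apply, hd g hg, mul_inv_cancel_right]
    rw [← hVY]
    constructor
    · rintro ⟨c, hc', hcd⟩
      have : c = d := (MulAut.conj g).injective (hcd.trans hc.symm)
      exact this ▸ hc'
    · exact fun h => ⟨d, h, hc⟩
  have hX2 : ⁅V, L⁆ ⊓ Subgroup.centralizer (X : Set G) = VX := by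
    rw [hVL]
    refine le_antisymm ?_ (le_inf le_sup_left hcX)
    rintro w ⟨hw, hwX⟩
    have hw' : w ∈ (VX : Set G) * (VY : Set G) := by
      rw [← Subgroup.coe_mul_of_right_le_normalizer_left VX VY ((cle Y hYV).trans (cnorm X))]
      exact hw
    obtain ⟨c, hc, d, hd, hcd⟩ := hw'
    have hdX : d ∈ Subgroup.centralizer (X : Set G) := by
      have : d = c⁻¹ * w := by rw [← hcd]; group
      rw [this]
      exact mul_mem (inv_mem (hcX hc)) hwX
    have hdVX : d ∈ VX := (hswap d (hcL d hdX (hcY hd))).1 hd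
    rw [← hcd]
    exact mul_mem hc hdVX
  refine ⟨hVL.symm, hX2, le_antisymm ?_ ?_⟩
  · rintro w ⟨hw, hwL⟩
    have h1 : w ∈ VX := hX2.le ⟨hw, Subgroup.centralizer_le (SetLike.coe_subset_coe.2 hX) hwL⟩
    exact ⟨h1, (hswap w hwL).2 h1⟩
  · rintro w ⟨hw1, hw2⟩
    exact ⟨hVL.ge ((le_sup_left : VX ≤ VX ⊔ VY) hw1), hcL w (hcX hw1) (hcY hw2)⟩

end Cfsg.Agent.S2833
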