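import Cfsg.Statements.S2835
import Cfsg.Agent.Lib.CharP.YMinimal

set_option autoImplicit false
open Cfsg

namespace Cfsg.Agent.S2835

open Subgroup
open Cfsg.Agent.CharP.YMinimal

/-- Let L be a finite group, L₀ a maximal subgroup, T a Sylow p-subgroup of L₀ and Y ≤ T, and suppose L is Y-minimal (generated by the conjugates of Y, with Y in exactly one maximal subgroup, necessarily L₀). Then N_L(T) ≤ L₀, O_p(L) ≤ L₀ and T is a Sylow p-subgroup of L; N_L(L₀) = L₀; L = ⟨Y, gYg⁻¹⟩ for each g ∈ L outside L₀; and if Y is abelian then Y ∩ gYg⁻¹ = C_Y(L) for each such g. -/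
theorem result {L : Type*} [Group L] [Finite L] {p : ℕ} [Fact p.Prime] (L₀ : Subgroup L) (hL₀ : IsCoatom L₀) (T : Sylow p ↥L₀) (Y : Subgroup L) (hYT : Y ≤ (T : Subgroup ↥L₀).map L₀.subtype) (hmin : Cfsg.IsMinimalOver Y) : Subgroup.normalizer (((T : Subgroup ↥L₀).map L₀.subtype : Subgroup L) : Set L) ≤ L₀ ∧ Cfsg.pCore p L ≤ L₀ ∧ (∃ P : Sylow p L, (P : Subgroup L) = (T : Subgroup ↥L₀).map L₀.subtype) ∧ Subgroup.normalizer (L₀ : Set L) = L₀ ∧ (∀ g : L, g ∉ L₀ → Y ⊔ Y.map (MulAut.conj g).toMonoidHom = ⊤) ∧ (IsMulCommutative ↥Y → ∀ g : L, g ∉ L₀ → Y ⊓ Y.map (MulAut.conj g).toMonoidHom = Y ⊓ Subgroup.center L) := by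
  obtain ⟨P, hP⟩ := exists_sylow hL₀ T hYT hmin
  refine ⟨normalizer_le hL₀ T hYT hmin, ?_, ⟨P, hP⟩, normalizer_eq hL₀ (hYT.trans (map_subtype_le _)) hmin,
    fun g hg => sup_conj_eq_top hL₀ (hYT.trans (map_subtype_le _)) hmin hg, fun hcomm g hg => ?_⟩
  · haveI := Subgroup.sSup_normal {N : Subgroup L | N.Normal ∧ IsPGroup p N} (fun _ h => h.1)
    haveI : (Cfsg.pCore p L).Normal := this
    exact ((Fusion.Normal.pCore_isPGroup p L).le_sylow_of_normal P).trans (hP.le.trans (map_subtype_le _))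
  refine le_antisymm (le_inf inf_le_left fun z hz => ?_) ?_
  · rw [mem_center_iff]
    have hle : Y ⊔ Y.map (MulAut.conj g).toMonoidHom ≤ centralizer ({z} : Set L) := by
      refine sup_le (fun y hy => mem_centralizer_singleton_iff.mpr
        (congrArg Subtype.val (hcomm.is_comm.comm (⟨y, hy⟩ : Y) ⟨z, hz.1⟩))) ?_
      rintro _ ⟨y, hy, rfl⟩
      obtain ⟨y', hy', e⟩ := hz.2
      rw [mem_centralizer_singleton_iff, ← e, ← map_mul, ← map_mul]
      exact congrArg _ (congrArg Subtype.val (hcomm.is_comm.comm (⟨y, hy⟩ : Y) ⟨y', hy'⟩))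
    rw [sup_conj_eq_top hL₀ (hYT.trans (map_subtype_le _)) hmin hg] at hle
    exact fun x => mem_centralizer_singleton_iff.mp (hle (mem_top x))
  · rintro z ⟨hz, hzc⟩
    refine ⟨hz, ⟨z, hz, ?_⟩⟩
    show g * z * g⁻¹ = z
    rw [mem_center_iff.mp hzc g, mul_inv_cancel_right]

end Cfsg.Agent.S2835
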