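import Cfsg.Statements.S2836
import Cfsg.Agent.Lib.CharP.YMinimal
import Cfsg.Agent.Lib.CharP.AgemoNormal
import Cfsg.Agent.Lib.Cores.Basic

set_option autoImplicit false
open Cfsg

namespace Cfsg.Agent.S2836

open Subgroup
open Cfsg.Agent.CharP.YMinimal

section

variable {L : Type*} [Group L] [Finite L] {p : ℕ} [Fact p.Prime]

theorem pClosed_of_normal {H : Type*} [Group H] [Finite H] (R : Sylow p H) [hR : (R : Subgroup H).Normal] :
    Cfsg.IsPClosed p H ∧ Cfsg.pCore p H = (R : Subgroup H) := by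
  refine ⟨fun Q => ?_, le_antisymm ?_ (le_sSup ⟨hR, R.isPGroup'⟩)⟩
  · haveI := Sylow.unique_of_normal R hR
    rwa [Subsingleton.elim Q R]
  · haveI := Subgroup.sSup_normal {N : Subgroup H | N.Normal ∧ IsPGroup p N} (fun _ h => h.1)
    haveI : (Cfsg.pCore p H).Normal := this
    exact (Fusion.Normal.pCore_isPGroup p H).le_sylow_of_normal R

theorem core_spec (L₀ : Subgroup L) (hL₀ : IsCoatom L₀) (T : Sylow p ↥L₀) (Y : Subgroup L)
    (hYT : Y ≤ (T : Subgroup ↥L₀).map L₀.subtype) (hmin : Cfsg.IsMinimalOver Y) (P : Sylow p L)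
    (hP : (P : Subgroup L) = (T : Subgroup ↥L₀).map L₀.subtype) (N : Subgroup L) [N.Normal]
    (hN : N ≤ L₀) :
    ∃ R : Sylow p ↥N, (R : Subgroup ↥N).Normal ∧
      (R : Subgroup ↥N) = (Cfsg.pCore p L).subgroupOf N := by
  haveI := Subgroup.sSup_normal {N : Subgroup L | N.Normal ∧ IsPGroup p N} (fun _ h => h.1)
  haveI : (Cfsg.pCore p L).Normal := this
  obtain ⟨R, hR⟩ := Cfsg.Agent.CharP.AgemoNormal.exists_sylow_inf_normal P N
  set K := (R : Subgroup ↥N).map N.subtype with hK
  have hKeq : K = (P : Subgroup L) ⊓ N := by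
    ext x
    constructor
    · rintro ⟨y, hy, rfl⟩
      exact ⟨(hR y).mp hy, y.2⟩
    · rintro ⟨hx, hxN⟩
      exact ⟨⟨x, hxN⟩, (hR _).mpr hx, rfl⟩
  have hY : Y ≤ normalizer (K : Set L) := fun y hy => by
    rw [hKeq, mem_normalizer_iff]
    have hyP : y ∈ (P : Subgroup L) := hP.ge (hYT hy)
    intro x
    constructor
    · rintro ⟨hx, hxN⟩
      exact ⟨(P : Subgroup L).mul_mem ((P : Subgroup L).mul_mem hyP hx) ((P : Subgroup L).inv_mem hyP), ‹N.Normal›.conj_mem x hxN y⟩
    · rintro ⟨hx, hxN⟩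
      refine ⟨?_, ?_⟩
      · show x ∈ (P : Subgroup L)
        have h4 := (P : Subgroup L).mul_mem ((P : Subgroup L).mul_mem ((P : Subgroup L).inv_mem hyP) hx) hyP
        simpa [mul_assoc] using h4
      · have := ‹N.Normal›.conj_mem _ hxN y⁻¹
        simpa [mul_assoc] using this
  have hYL : Y ≤ L₀ := hYT.trans (map_subtype_le _)
  have htop : normalizer (K : Set L) = ⊤ := by
    refine (le_or_top hL₀ hYL hmin hY).resolve_right fun h => hL₀.1 ?_
    have hF := Sylow.normalizer_sup_eq_top R
    exact top_le_iff.mp (hF ▸ sup_le h hN)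
  haveI hKn : K.Normal := normalizer_eq_top_iff.mp htop
  have hKO : K ≤ Cfsg.pCore p L := le_sSup ⟨hKn, R.isPGroup'.map N.subtype⟩
  have hRO : (R : Subgroup ↥N) = (Cfsg.pCore p L).subgroupOf N := by
    ext x
    refine ⟨fun h => hKO ⟨x, h, rfl⟩, fun h => (hR x).mpr ?_⟩
    exact (Fusion.Normal.pCore_isPGroup p L).le_sylow_of_normal P h
  exact ⟨R, hRO ▸ inferInstance, hRO⟩

end

/-- Let L be a finite group, L₀ a maximal subgroup, T a Sylow p-subgroup of L₀, Y ≤ T, and suppose L is Y-minimal. Let D be the intersection of the conjugates of L₀ (the core of L₀). Then D contains O_p(L) and D/O_p(L) is the Frattini subgroup of L/O_p(L), so D is p-closed; and every normal subgroup N of L contained in L₀ is p-closed with N/O_p(N) a nilpotent group of order prime to p. -/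
theorem result {L : Type*} [Group L] [Finite L] {p : ℕ} [Fact p.Prime] (L₀ : Subgroup L) (hL₀ : IsCoatom L₀) (T : Sylow p ↥L₀) (Y : Subgroup L) (hYT : Y ≤ (T : Subgroup ↥L₀).map L₀.subtype) (hmin : Cfsg.IsMinimalOver Y) : (Cfsg.pCore p L ≤ L₀.normalCore ∧ (L₀.normalCore).map (QuotientGroup.mk' (Cfsg.pCore p L)) = frattini (L ⧸ Cfsg.pCore p L) ∧ Cfsg.IsPClosed p ↥(L₀.normalCore)) ∧ ∀ (N : Subgroup L) [N.Normal], N ≤ L₀ → Cfsg.IsPClosed p ↥N ∧ Group.IsNilpotent (↥N ⧸ Cfsg.pCore p ↥N) ∧ (Nat.card (↥N ⧸ Cfsg.pCore p ↥N)).Coprime p := by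
  obtain ⟨P, hP⟩ := exists_sylow hL₀ T hYT hmin
  have hYL : Y ≤ L₀ := hYT.trans (map_subtype_le _)
  haveI := Subgroup.sSup_normal {N : Subgroup L | N.Normal ∧ IsPGroup p N} (fun _ h => h.1)
  haveI hOn : (Cfsg.pCore p L).Normal := this
  set O := Cfsg.pCore p L with hO
  have hOL : O ≤ L₀ := ((Fusion.Normal.pCore_isPGroup p L).le_sylow_of_normal P).trans
    (hP.le.trans (map_subtype_le _))
  set D := L₀.normalCore with hD
  have hOD : O ≤ D := normal_le_normalCore.mpr hOL
  obtain ⟨R, hRn, hRO⟩ := core_spec L₀ hL₀ T Y hYT hmin P hP D (normalCore_le L₀)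
  set π := QuotientGroup.mk' O with hπ
  have hπs : Function.Surjective π := QuotientGroup.mk'_surjective O
  -- the Frattini subgroup of the quotient
  have hle : D.map π ≤ frattini (L ⧸ O) := by
    refine le_iInf fun X => le_iInf fun hX => ?_
    by_contra hne
    rw [map_le_iff_le_comap] at hne
    set M := X.comap π with hM
    have hMc : IsCoatom M := by
      refine ⟨fun h => hX.1 ?_, fun M' hlt => ?_⟩
      · have := congrArg (Subgroup.map π) h
        rwa [map_comap_eq_self_of_surjective hπs, map_top_of_surjective π hπs] at this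
      · have hker : π.ker ≤ M' := (ker_le_comap π X).trans hlt.le
        have h2 : X < M'.map π := by
          refine lt_of_le_of_ne ?_ fun e => hlt.ne ?_
          · rw [← map_comap_eq_self_of_surjective hπs X]; exact map_mono hlt.le
          · rw [hM, e, comap_map_eq_self hker]
        have := congrArg (Subgroup.comap π) (hX.2 _ h2)
        rwa [comap_map_eq_self hker, comap_top] at this
    have hOM : O ≤ M := by
      intro x hx
      rw [hM, mem_comap, hπ, QuotientGroup.mk'_apply, (QuotientGroup.eq_one_iff x).mpr hx]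
      exact one_mem X
    have hMD : M ⊔ D = ⊤ := hMc.2 _ (lt_of_le_not_ge le_sup_left fun h => hne (le_sup_right.trans h))
    have hidx : ¬ p ∣ M.index := by
      intro hd
      apply R.not_dvd_index
      have h1 : M.index = M.relIndex D := by
        have a := Cfsg.Agent.Cores.card_sup_mul_card_inf M D
        have b := relIndex_mul_relIndex ⊥ (M ⊓ D) D bot_le inf_le_right
        rw [hMD, card_top, ← M.card_mul_index] at a
        rw [relIndex_bot_left, relIndex_bot_left, inf_relIndex_right] at b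
        refine Nat.eq_of_mul_eq_mul_left (Nat.card_pos (α := M)) ?_
        refine Nat.eq_of_mul_eq_mul_right (Nat.card_pos (α := ↥(M ⊓ D))) ?_
        rw [a, ← b]
        ring
      refine hd.trans ?_
      rw [h1, hRO]
      exact relIndex_dvd_of_le_left D hOM
    obtain ⟨Q⟩ := (inferInstance : Nonempty (Sylow p M))
    obtain ⟨Q', hQ'⟩ := (Q.isPGroup'.map M.subtype).exists_le_sylow
    have hQM : (Q' : Subgroup L) ≤ M := by
      have hi : ¬ p ∣ ((Q : Subgroup M).map M.subtype).index := by
        rw [← relIndex_mul_index (map_subtype_le _), relIndex,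
          subgroupOf, comap_map_eq_self_of_injective M.subtype_injective]
        exact fun h => ((Fact.out : p.Prime).dvd_mul.mp h).elim Q.not_dvd_index hidx
      have : (Q' : Subgroup L) = (Q : Subgroup M).map M.subtype :=
        ((Q.isPGroup'.map M.subtype).toSylow hi).3 Q'.2 hQ'
      exact this.le.trans (map_subtype_le _)
    obtain ⟨g, rfl⟩ := MulAction.exists_smul_eq L P Q'
    have hX' : IsCoatom (M.map (MulAut.conj g⁻¹).toMonoidHom) :=
      (OrderIso.isCoatom_iff (MulEquiv.mapSubgroup (MulAut.conj g⁻¹)) M).mpr hMc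
    have hYX : Y ≤ M.map (MulAut.conj g⁻¹).toMonoidHom := fun y hy => by
      refine ⟨g * y * g⁻¹, hQM ?_, by simp [mul_assoc]⟩
      rw [Sylow.coe_subgroup_smul, mem_pointwise_smul_iff_inv_smul_mem]
      have : (MulAut.conj g)⁻¹ • (g * y * g⁻¹) = y := by
        simp [mul_assoc]
      rw [this]
      exact hP ▸ hYT hy
    have he := eq_of_le hL₀ hYL hmin hX' hYX
    refine hne fun d hd => ?_
    have hd' : g⁻¹ * d * g ∈ L₀ := normalCore_le L₀
      (by simpa using (normalCore_normal L₀).conj_mem d hd g⁻¹)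
    rw [← he] at hd'
    obtain ⟨m, hm, hme⟩ := hd'
    have : m = d := by
      have h3 : g⁻¹ * m * g = g⁻¹ * d * g := by simpa using hme
      exact mul_left_cancel (mul_right_cancel h3)
    exact this ▸ hm
  have hge : frattini (L ⧸ O) ≤ D.map π := by
    set F := (frattini (L ⧸ O)).comap π with hF
    have hker : π.ker ≤ L₀ := by rw [hπ, QuotientGroup.ker_mk']; exact hOL
    have hX : IsCoatom (L₀.map π) := by
      refine ⟨fun h => hL₀.1 ?_, fun X hlt => ?_⟩
      · have := congrArg (Subgroup.comap π) h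
        rwa [comap_map_eq_self hker, comap_top] at this
      · have h2 : L₀ < X.comap π := by
          refine lt_of_le_of_ne ((map_le_iff_le_comap).mp hlt.le) fun e => hlt.ne ?_
          rw [e, map_comap_eq_self_of_surjective hπs]
        have := congrArg (Subgroup.map π) (hL₀.2 _ h2)
        rwa [map_comap_eq_self_of_surjective hπs, map_top_of_surjective π hπs] at this
    have hFL : F ≤ L₀ := by
      rw [← comap_map_eq_self hker]
      exact comap_mono (frattini_le_coatom hX)
    have hFn : F.Normal := Subgroup.Normal.comap inferInstance π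
    rw [← map_comap_eq_self_of_surjective hπs (frattini (L ⧸ O))]
    exact map_mono (normal_le_normalCore.mpr hFL)
  refine ⟨⟨hOD, le_antisymm hle hge, (pClosed_of_normal R).1⟩, fun N hNn hN => ?_⟩
  obtain ⟨S, hSn, hSO⟩ := core_spec L₀ hL₀ T Y hYT hmin P hP N hN
  obtain ⟨hcl, hcore⟩ := pClosed_of_normal S
  refine ⟨hcl, ?_, ?_⟩
  · let f : ↥N →* L ⧸ O := π.comp N.subtype
    have hker : f.ker = Cfsg.pCore p ↥N := by
      rw [hcore, hSO]
      ext x
      simp [f, hπ, MonoidHom.mem_ker, mem_subgroupOf, QuotientGroup.eq_one_iff, hO]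
    have hrange : f.range ≤ frattini (L ⧸ O) := by
      rintro _ ⟨x, rfl⟩
      exact hle ⟨x, normal_le_normalCore.mpr hN x.2, rfl⟩
    haveI : Group.IsNilpotent (frattini (L ⧸ O)) := frattini_nilpotent
    haveI : Group.IsNilpotent f.range :=
      Group.nilpotent_of_mulEquiv (subgroupOfEquivOfLe hrange)
    exact Group.nilpotent_of_mulEquiv
      ((QuotientGroup.quotientMulEquivOfEq hker.symm).trans (QuotientGroup.quotientKerEquivRange f)).symm
  · rw [show Nat.card (↥N ⧸ Cfsg.pCore p ↥N) = (Cfsg.pCore p ↥N).index from rfl, hcore]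
    exact Nat.Coprime.symm ((Fact.out : p.Prime).coprime_iff_not_dvd.mpr S.not_dvd_index)

end Cfsg.Agent.S2836
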