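import Cfsg.Statements.S2837
import Cfsg.Agent.Lib.CharP.Basic
import Cfsg.Agent.Lib.CharP.Sylow
import Cfsg.Agent.Lib.PLocal.ThompsonSubgroup
import Cfsg.Agent.Lib.Coprime.PGroup

set_option autoImplicit false
open Cfsg

namespace Cfsg.Agent.S2837

open Subgroup
open scoped commutatorElement Pointwise

/-- Let L be a finite group of characteristic p, L₀ a maximal subgroup, Y an elementary abelian p-subgroup of L₀ with L Y-minimal and O_p(L) ≤ N_L(Y). Put A = the normal closure of O_p(L) ∩ Y in L. Then for every g ∈ L outside L₀: Φ(A) = A' = [A ∩ Y, A] = [A ∩ Y, A ∩ gYg⁻¹] ≤ C_Y(L), and Y ∩ gYg⁻¹ = (A ∩ Y) ∩ (A ∩ gYg⁻¹) = C_Y(L) = C_A(L). -/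
theorem result {L : Type*} [Group L] [Finite L] {p : ℕ} [Fact p.Prime] (hchar : Subgroup.centralizer (Cfsg.pCore p L : Set L) ≤ Cfsg.pCore p L) (L₀ : Subgroup L) (hL₀ : IsCoatom L₀) (Y : Subgroup L) (hYL₀ : Y ≤ L₀) (hYel : Cfsg.IsElementaryAbelian p Y) (hmin : Cfsg.IsMinimalOver Y) (hOY : Cfsg.pCore p L ≤ Subgroup.normalizer (Y : Set L)) (A : Subgroup L) (hA : A = Subgroup.normalClosure (((Cfsg.pCore p L ⊓ Y : Subgroup L)) : Set L)) (g : L) (hg : g ∉ L₀) : (frattini ↥A).map A.subtype = ⁅A, A⁆ ∧ ⁅A, A⁆ = ⁅A ⊓ Y, A⁆ ∧ ⁅A ⊓ Y, A⁆ = ⁅A ⊓ Y, A ⊓ Y.map (MulAut.conj g).toMonoidHom⁆ ∧ ⁅A ⊓ Y, A⁆ ≤ Y ⊓ Subgroup.center L ∧ Y ⊓ Y.map (MulAut.conj g).toMonoidHom = Y ⊓ Subgroup.center L ∧ (A ⊓ Y) ⊓ (A ⊓ Y.map (MulAut.conj g).toMonoidHom) = Y ⊓ Subgroup.center L ∧ A ⊓ Subgroup.center L = Y ⊓ Subgroup.center L := by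
  obtain ⟨hgen, M', hM', huniq⟩ := hmin
  have hML : L₀ = M' := huniq L₀ ⟨hL₀, hYL₀⟩
  obtain ⟨hYc, hYp⟩ := Cfsg.Agent.PLocal.ThompsonSubgroup.isElementaryAbelian_iff.mp hYel
  haveI hQn : (Cfsg.pCore p L).Normal := Subgroup.sSup_normal _ (fun _ h => h.1)
  set Q := Cfsg.pCore p L
  set Y' := Y.map (MulAut.conj g).toMonoidHom with hY'
  -- `L₀` is not normal, and `L = ⟨Y, Y^g⟩`
  have hnn : ¬ L₀.Normal := fun hn => hL₀.1 (top_le_iff.mp (hgen ▸ normalClosure_le_normal (SetLike.coe_subset_coe.mpr hYL₀)))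
  have hN : normalizer (L₀ : Set L) = L₀ :=
    (hL₀.le_iff.mp Subgroup.le_normalizer).resolve_left fun h => hnn (normalizer_eq_top_iff.mp h)
  have hgen2 : Y ⊔ Y' = ⊤ := by
    by_contra hne
    obtain ⟨X, hX, hle⟩ := (eq_top_or_exists_le_coatom (Y ⊔ Y')).resolve_left hne
    have hXL : X = L₀ := (huniq X ⟨hX, le_sup_left.trans hle⟩).trans hML.symm
    subst hXL
    have hX' : IsCoatom (X.map (MulAut.conj g⁻¹).toMonoidHom) :=
      (OrderIso.isCoatom_iff (MulEquiv.mapSubgroup (MulAut.conj g⁻¹)) X).mpr hX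
    have hYX' : Y ≤ X.map (MulAut.conj g⁻¹).toMonoidHom := by
      intro y hy
      exact ⟨g * y * g⁻¹, hle (mem_sup_right ⟨y, hy, rfl⟩), by simp [mul_assoc]⟩
    have e := (huniq _ ⟨hX', hYX'⟩).trans hML.symm
    have h1 : g⁻¹ ∈ normalizer (X : Set L) := mem_normalizer_iff_map_conj_eq.mpr e
    rw [hN] at h1
    exact hg (inv_mem_iff.mp h1)
  have hcen : ∀ z : L, (∀ y ∈ Y, y * z = z * y) → (∀ y ∈ Y', y * z = z * y) → z ∈ Subgroup.center L := by
    intro z h1 h2
    have hle : Y ⊔ Y' ≤ centralizer ({z} : Set L) := sup_le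
      (fun y hy => mem_centralizer_singleton_iff.mpr (h1 y hy))
      (fun y hy => mem_centralizer_singleton_iff.mpr (h2 y hy))
    rw [hgen2] at hle
    exact Subgroup.mem_center_iff.mpr fun x => mem_centralizer_singleton_iff.mp (hle (mem_top x))
  have hY'c : ∀ a ∈ Y', ∀ b ∈ Y', a * b = b * a := by
    rintro _ ⟨a, ha, rfl⟩ _ ⟨b, hb, rfl⟩
    rw [← map_mul, hYc a ha b hb, map_mul]
  have hY'p : ∀ a ∈ Y', a ^ p = 1 := by
    rintro _ ⟨a, ha, rfl⟩
    rw [← map_pow, hYp a ha, map_one]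
  have hC' : Y' ⊓ Subgroup.center L ≤ Y ⊓ Subgroup.center L := by
    rintro _ ⟨⟨y, hy, rfl⟩, hz⟩
    have e : g * y * g⁻¹ = y := by
      have hc := Subgroup.mem_center_iff.mp hz g⁻¹
      have h3 : y * g⁻¹ = g * y * g⁻¹ * g⁻¹ := by simpa [mul_assoc] using hc
      exact (mul_right_cancel h3).symm
    exact ⟨by show g * y * g⁻¹ ∈ Y; rw [e]; exact hy, hz⟩
  have hC : Y ⊓ Y' = Y ⊓ Subgroup.center L := by
    refine le_antisymm (le_inf inf_le_left fun z hz => hcen z (fun y hy => hYc y hy z hz.1)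
      (fun y hy => hY'c y hy z hz.2)) (le_inf inf_le_left ?_)
    rintro z ⟨hz, hzc⟩
    exact ⟨z, hz, by
      show g * z * g⁻¹ = z
      rw [Subgroup.mem_center_iff.mp hzc g, mul_inv_cancel_right]⟩
  set B := A ⊓ Y with hB
  have hAn : A.Normal := hA ▸ normalClosure_normal
  have hAQ : A ≤ Q := hA ▸ normalClosure_le_normal (SetLike.coe_subset_coe.mpr inf_le_left)
  have hQY : Q ⊓ Y ≤ A := hA ▸ fun x hx => subset_normalClosure hx
  have hQN' : Q ≤ normalizer (Y' : Set L) := fun x hx => by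
    have hx' : g⁻¹ * x * g ∈ normalizer (Y : Set L) := hOY (by simpa using hQn.conj_mem x hx g⁻¹)
    rw [mem_normalizer_iff_map_conj_eq] at hx' ⊢
    rw [hY', Subgroup.map_map]
    conv_rhs => rw [← hx', Subgroup.map_map]
    congr 1
    ext z
    simp [mul_assoc]
  set B' := A ⊓ Y' with hB'
  -- `A = B B'`
  have hW : A = B ⊔ B' := by
    refine le_antisymm ?_ (sup_le inf_le_left inf_le_left)
    have hmv : ∀ y ∈ Y, ∀ w ∈ B', y * w * y⁻¹ * w⁻¹ ∈ B := fun y hy w hw => by
      refine mem_inf.mpr ⟨mul_mem (hAn.conj_mem w hw.1 y) (inv_mem hw.1), ?_⟩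
      rw [mul_assoc, mul_assoc, ← mul_assoc w]
      exact mul_mem hy ((mem_normalizer_iff.mp (hOY (hAQ hw.1)) y⁻¹).mp (inv_mem hy))
    have hmv' : ∀ y ∈ Y', ∀ w ∈ B, y * w * y⁻¹ * w⁻¹ ∈ B' := fun y hy w hw => by
      refine mem_inf.mpr ⟨mul_mem (hAn.conj_mem w hw.1 y) (inv_mem hw.1), ?_⟩
      rw [mul_assoc, mul_assoc, ← mul_assoc w]
      exact mul_mem hy ((mem_normalizer_iff.mp (hQN' (hAQ hw.1)) y⁻¹).mp (inv_mem hy))
    have hWn : (B ⊔ B').Normal := by
      rw [← normalizer_eq_top_iff, eq_top_iff, ← hgen2]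
      refine sup_le (fun y hy => ?_) (fun y hy => ?_)
      · rw [mem_normalizer_iff_map_conj_eq]
        refine eq_of_le_of_card_ge ?_ (card_map_of_injective (MulAut.conj y).injective).ge
        rw [Subgroup.map_sup]
        refine sup_le ?_ ?_
        · rintro _ ⟨w, hw, rfl⟩
          show y * w * y⁻¹ ∈ B ⊔ B'
          rw [hYc y hy w hw.2, mul_inv_cancel_right]
          exact mem_sup_left hw
        · rintro _ ⟨w, hw, rfl⟩
          show y * w * y⁻¹ ∈ B ⊔ B'
          rw [show y * w * y⁻¹ = (y * w * y⁻¹ * w⁻¹) * w by group]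
          exact mul_mem (mem_sup_left (hmv y hy w hw)) (mem_sup_right hw)
      · rw [mem_normalizer_iff_map_conj_eq]
        refine eq_of_le_of_card_ge ?_ (card_map_of_injective (MulAut.conj y).injective).ge
        rw [Subgroup.map_sup]
        refine sup_le ?_ ?_
        · rintro _ ⟨w, hw, rfl⟩
          show y * w * y⁻¹ ∈ B ⊔ B'
          rw [show y * w * y⁻¹ = (y * w * y⁻¹ * w⁻¹) * w by group]
          exact mul_mem (mem_sup_right (hmv' y hy w hw)) (mem_sup_left hw)
        · rintro _ ⟨w, hw, rfl⟩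
          show y * w * y⁻¹ ∈ B ⊔ B'
          rw [hY'c y hy w hw.2, mul_inv_cancel_right]
          exact mem_sup_right hw
    conv_lhs => rw [hA]
    exact normalClosure_le_normal fun x hx => mem_sup_left ⟨hQY hx, hx.2⟩
  have hBB : ⁅B, B'⁆ ≤ Y ⊓ Y' := by
    rw [commutator_le]
    intro b hb c hc
    refine mem_inf.mpr ⟨?_, ?_⟩
    · rw [commutatorElement_def, mul_assoc, mul_assoc, ← mul_assoc c]
      exact mul_mem hb.2 ((mem_normalizer_iff.mp (hOY (hAQ hc.1)) b⁻¹).mp (inv_mem hb.2))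
    · rw [commutatorElement_def]
      exact mul_mem ((mem_normalizer_iff.mp (hQN' (hAQ hb.1)) c).mp hc.2) (inv_mem hc.2)
  rw [hC] at hBB
  haveI hDn : (⁅B, B'⁆).Normal := ⟨fun x hx a => by
    rw [Subgroup.mem_center_iff.mp (hBB hx).2 a, mul_inv_cancel_right]; exact hx⟩
  -- the image of `A` modulo `[B, B']` is commutative
  let π := QuotientGroup.mk' ⁅B, B'⁆
  have hBA : ⁅A, A⁆ ≤ ⁅B, B'⁆ := by
    have hBp : B ≤ (centralizer ((A.map π : Subgroup (L ⧸ ⁅B, B'⁆)) : Set (L ⧸ ⁅B, B'⁆))).comap π ∧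
        B' ≤ (centralizer ((A.map π : Subgroup (L ⧸ ⁅B, B'⁆)) : Set (L ⧸ ⁅B, B'⁆))).comap π := by
      have h0 : ∀ b ∈ B, ∀ c ∈ B', π c * π b = π b * π c := fun b hb c hc => by
        symm
        rw [← commutatorElement_eq_one_iff_mul_comm, ← map_commutatorElement]
        exact (QuotientGroup.eq_one_iff _).mpr (commutator_mem_commutator hb hc)
      have e : A.map π = B.map π ⊔ B'.map π := by rw [← Subgroup.map_sup, ← hW]
      constructor <;> intro b hb <;>
        rw [mem_comap, e, mem_centralizer_iff] <;>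
        intro z hz
      · have hle : B.map π ⊔ B'.map π ≤ centralizer ({π b} : Set _) := by
          refine sup_le ?_ ?_ <;> rintro _ ⟨w, hw, rfl⟩ <;> rw [mem_centralizer_singleton_iff]
          · rw [← map_mul, ← map_mul, hYc w hw.2 b hb.2]
          · exact h0 b hb w hw
        exact mem_centralizer_singleton_iff.mp (hle hz)
      · have hle : B.map π ⊔ B'.map π ≤ centralizer ({π b} : Set _) := by
          refine sup_le ?_ ?_ <;> rintro _ ⟨w, hw, rfl⟩ <;> rw [mem_centralizer_singleton_iff]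
          · exact (h0 w hw b hb).symm
          · rw [← map_mul, ← map_mul, hY'c w hw.2 b hb.2]
        exact mem_centralizer_singleton_iff.mp (hle hz)
    rw [commutator_le]
    intro a ha c hc
    refine (QuotientGroup.eq_one_iff _).mp ?_
    show π ⁅a, c⁆ = 1
    rw [map_commutatorElement, commutatorElement_eq_one_iff_mul_comm]
    have hle : A ≤ (centralizer ((A.map π : Subgroup (L ⧸ ⁅B, B'⁆)) : Set (L ⧸ ⁅B, B'⁆))).comap π := by
      conv_lhs => rw [hW]
      exact sup_le hBp.1 hBp.2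
    exact (mem_centralizer_iff.mp (mem_comap.mp (hle ha)) _ ⟨c, hc, rfl⟩).symm
  have hAA : ⁅A, A⁆ = ⁅B, B'⁆ := le_antisymm hBA (commutator_mono inf_le_left inf_le_left)
  have hBA' : ⁅B, A⁆ = ⁅B, B'⁆ := le_antisymm ((commutator_mono inf_le_left le_rfl).trans hBA)
    (commutator_mono le_rfl inf_le_left)
  have hfr : (frattini ↥A).map A.subtype = ⁅A, A⁆ := by
    refine le_antisymm ?_ ?_
    · rw [hAA]
      rintro _ ⟨x, hx, rfl⟩
      have hker := Cfsg.Agent.CharP.frattini_le_ker (p := p) (π.comp A.subtype) (fun a c => by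
          show π a * π c = π c * π a
          rw [← commutatorElement_eq_one_iff_mul_comm, ← map_commutatorElement]
          exact (QuotientGroup.eq_one_iff _).mpr (hBA (commutator_mem_commutator a.2 c.2)))
        (fun a => by
          show π a ^ p = 1
          have ha : (a : L) ∈ B ⊔ B' := hW.le a.2
          have hcomm : ∀ u ∈ A, ∀ v ∈ A, Commute (π u) (π v) := fun u hu v hv => by
            show π u * π v = π v * π u
            rw [← commutatorElement_eq_one_iff_mul_comm, ← map_commutatorElement]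
            exact (QuotientGroup.eq_one_iff _).mpr (hBA (commutator_mem_commutator hu hv))
          rw [sup_eq_closure] at ha
          have hgoal : ∀ z ∈ Subgroup.closure ((B : Set L) ∪ (B' : Set L)), z ∈ A ∧ π z ^ p = 1 := by
            intro z hz
            induction hz using closure_induction with
            | mem u hu =>
              rcases hu with hu | hu
              · exact ⟨hu.1, by rw [← map_pow, hYp u hu.2, map_one]⟩
              · exact ⟨hu.1, by rw [← map_pow, hY'p u hu.2, map_one]⟩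
            | one => exact ⟨one_mem _, by simp⟩
            | mul u v _ _ hu hv =>
              exact ⟨mul_mem hu.1 hv.1, by rw [map_mul, (hcomm u hu.1 v hv.1).mul_pow, hu.2, hv.2, one_mul]⟩
            | inv u _ hu => exact ⟨inv_mem hu.1, by rw [map_inv, inv_pow, hu.2, inv_one]⟩
          exact (hgoal _ ha).2)
      exact (QuotientGroup.eq_one_iff _).mp (hker hx)
    · haveI : Group.IsNilpotent ↥A := ((Cfsg.Agent.CharP.isPGroup_pCore p L).to_le hAQ).isNilpotent
      rw [← map_subtype_commutator]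
      exact Subgroup.map_mono (Cfsg.Agent.Coprime.commutator_le_frattini A)
  have hCA : Y ⊓ Subgroup.center L ≤ A := by
    refine le_trans (le_inf ?_ inf_le_left) hQY
    haveI : (Y ⊓ Subgroup.center L).Normal := ⟨fun x hx a => by
      rw [Subgroup.mem_center_iff.mp hx.2 a, mul_inv_cancel_right]; exact hx⟩
    refine Cfsg.Agent.CharP.le_pCore ‹_› fun x => ⟨1, Subtype.ext ?_⟩
    rw [pow_one]
    exact hYp _ x.2.1
  refine ⟨hfr, hAA.trans hBA'.symm, hBA', hBA'.le.trans hBB, hC, ?_, ?_⟩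
  · refine le_antisymm ((inf_le_inf inf_le_right inf_le_right).trans hC.le) ?_
    exact le_inf (le_inf hCA inf_le_left) (le_inf hCA (hC ▸ inf_le_right))
  · refine le_antisymm ?_ (le_inf hCA inf_le_right)
    rintro z ⟨hz, hzc⟩
    haveI : B'.Normal → True := fun _ => trivial
    have hz' : z ∈ (B : Set L) * (B' : Set L) := by
      rw [← coe_mul_of_left_le_normalizer_right B B' ?_, ← hW]
      · exact hz
      · exact (le_inf (fun x _ => normalizer_eq_top_iff.mpr hAn ▸ mem_top x)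
          ((inf_le_left.trans hAQ).trans hQN')).trans inf_normalizer_le_normalizer_inf
    obtain ⟨b, hb, c, hc, rfl⟩ := hz'
    refine ⟨?_, hzc⟩
    refine mul_mem hb.2 (hC' ⟨hc.2, hcen c (fun y hy => ?_) (fun y hy => hY'c y hy c hc.2)⟩).1
    have h1 : y * (b * c) = b * c * y := Subgroup.mem_center_iff.mp hzc y
    have h2 : y * b = b * y := hYc y hy b hb.2
    refine mul_left_cancel (a := b) ?_
    rw [← mul_assoc, ← h2, mul_assoc, h1, mul_assoc]

end Cfsg.Agent.S2837
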