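import Cfsg.Statements.S2839
import Cfsg.Agent.Lib.CharP.WeaklyClosed
import Cfsg.Agent.Lib.Cores.Subnormal
import Cfsg.Agent.Lib.Cores.Residual

set_option autoImplicit false
open Cfsg

namespace Cfsg.Agent.S2839

/-- Let Q be a nontrivial p-subgroup of the finite group H that is a weakly closed subgroup, K a subgroup containing Q and N a normal subgroup of H. Then Q is a weakly closed subgroup of K; every H-conjugate of Q contained in K is a K-conjugate of Q; N_K(Q) contains a Sylow p-subgroup of K; N = N_N(Q)·O^p(N); and QN/N is a weakly closed subgroup of H/N. -/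
theorem result {H : Type*} [Group H] [Finite H] {p : ℕ} [Fact p.Prime] (Q : Subgroup H) (hQp : IsPGroup p ↥Q) (hQ1 : Q ≠ ⊥) (hwc : Cfsg.IsWeaklyClosedSubgroup p Q) (K : Subgroup H) (hQK : Q ≤ K) (N' : Subgroup H) [N'.Normal] : Cfsg.IsWeaklyClosedSubgroup p (Q.subgroupOf K) ∧ (∀ g : H, ((Q : Subgroup H).map (MulAut.conj (g : H)).toMonoidHom) ≤ K → ∃ k ∈ K, ((Q : Subgroup H).map (MulAut.conj (g : H)).toMonoidHom) = ((Q : Subgroup H).map (MulAut.conj (k : H)).toMonoidHom)) ∧ Cfsg.IsParabolic p ((Subgroup.normalizer ((Q : Subgroup H) : Set H)).subgroupOf K) ∧ (N' ⊓ Subgroup.normalizer ((Q : Subgroup H) : Set H)) ⊔ (Cfsg.pResidual p ↥N').map N'.subtype = N' ∧ Cfsg.IsWeaklyClosedSubgroup p (Q.map (QuotientGroup.mk' N')) := by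
  obtain ⟨T, hTc⟩ := hwc
  have hwc : Cfsg.IsWeaklyClosedSubgroup p Q := ⟨T, hTc⟩
  have hQT : Q ≤ (T : Subgroup H) := hTc.1
  have hTN : (T : Subgroup H) ≤ Subgroup.normalizer (Q : Set H) :=
    CharP.wc_le_normalizer hwc T.isPGroup' hQT
  have hmap : (Q.subgroupOf K).map K.subtype = Q := Subgroup.map_subgroupOf_eq_of_le hQK
  refine ⟨?_, fun g hg => CharP.wc_exists_conj hwc hQp hQK hg, ?_, ?_, ?_⟩
  · obtain ⟨T₁, hT₁⟩ := (hQp.comap_subtype : IsPGroup p ↥(Q.subgroupOf K)).exists_le_sylow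
    refine ⟨T₁, hT₁, fun k hk => Subgroup.map_injective K.subtype_injective ?_⟩
    have e : ((Q.subgroupOf K).map (MulAut.conj k).toMonoidHom).map K.subtype
        = Q.map (MulAut.conj (k : H)).toMonoidHom := by
      conv_rhs => rw [← hmap]
      rw [Subgroup.map_map, Subgroup.map_map]
      rfl
    rw [e, hmap]
    exact CharP.wc_eq_self hwc (T₁.isPGroup'.map K.subtype)
      (hmap ▸ Subgroup.map_mono hT₁) (e ▸ Subgroup.map_mono hk)
  · obtain ⟨T₁, hT₁⟩ := (hQp.comap_subtype : IsPGroup p ↥(Q.subgroupOf K)).exists_le_sylow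
    refine ⟨T₁, fun x hx => ?_⟩
    exact Subgroup.mem_subgroupOf.2 (CharP.wc_le_normalizer hwc (T₁.isPGroup'.map K.subtype)
      (hmap ▸ Subgroup.map_mono hT₁) (Subgroup.mem_map_of_mem K.subtype hx))
  · refine le_antisymm (sup_le inf_le_left (Subgroup.map_subtype_le _)) ?_
    set P : Sylow p ↥N' := (T.isPGroup'.comap_subtype).toSylow
      (Cores.sylow_subgroupOf_isSubnormal T (inferInstance : N'.Normal).isSubnormal)
    intro x hx
    have h1 : (⟨x, hx⟩ : ↥N') ∈ (P : Subgroup ↥N') ⊔ Cfsg.pResidual p ↥N' :=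
      Cores.pResidual_le_sylow_sup P ▸ Subgroup.mem_top _
    have h2 := Subgroup.mem_map_of_mem N'.subtype h1
    rw [Subgroup.map_sup] at h2
    have hPle : (P : Subgroup ↥N').map N'.subtype ≤ N' ⊓ Subgroup.normalizer (Q : Set H) := by
      rintro _ ⟨y, hy, rfl⟩
      exact Subgroup.mem_inf.2 ⟨y.2, hTN hy⟩
    exact SetLike.le_def.1 (sup_le_sup_right hPle _) h2
  · set π := QuotientGroup.mk' N'
    have hπ : Function.Surjective π := QuotientGroup.mk'_surjective N'
    refine ⟨T.mapSurjective hπ, Subgroup.map_mono hQT, fun g hg => ?_⟩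
    obtain ⟨g, rfl⟩ := hπ g
    have e : (Q.map π).map (MulAut.conj (π g)).toMonoidHom
        = (Q.map (MulAut.conj g).toMonoidHom).map π := by
      rw [Subgroup.map_map, Subgroup.map_map]
      congr 1
    rw [e] at hg ⊢
    rw [Sylow.coe_mapSurjective, Subgroup.map_le_iff_le_comap, Subgroup.comap_map_eq,
      QuotientGroup.ker_mk'] at hg
    obtain ⟨T₂, hT₂, hQ2⟩ := CharP.exists_isSylIn_ge (CharP.isPGroup_conj hQp g) hg
    have hT : CharP.IsSylIn p (T : Subgroup H) ((T : Subgroup H) ⊔ N') :=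
      CharP.IsSylIn.mono (H := ⊤) (CharP.isSylIn_top_iff.2 ⟨T, rfl⟩) le_sup_left le_top
    obtain ⟨c, hc, hce⟩ := hT.exists_conj hT₂
    have he : Q.map (MulAut.conj g).toMonoidHom = Q.map (MulAut.conj c).toMonoidHom :=
      CharP.wc_eq hwc hT₂.isPGroup hQ2 (hce ▸ Subgroup.map_mono hQT)
    rw [he]
    have e2 : (Q.map (MulAut.conj c).toMonoidHom).map π
        = (Q.map π).map (MulAut.conj (π c)).toMonoidHom := by
      rw [Subgroup.map_map, Subgroup.map_map]
      congr 1
    rw [e2]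
    refine CharP.conj_map_of_mem ?_
    have hc2 : π c ∈ ((T : Subgroup H) ⊔ N').map π := Subgroup.mem_map_of_mem π hc
    rw [Subgroup.map_sup, QuotientGroup.map_mk'_self, sup_bot_eq] at hc2
    exact Subgroup.le_normalizer_map π (Subgroup.map_mono hTN hc2)

end Cfsg.Agent.S2839
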