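import Cfsg.Statements.S2840
import Cfsg.Agent.Lib.CharP.WeaklyClosed

set_option autoImplicit false
open Cfsg

namespace Cfsg.Agent.S2840

/-- Let Q be a nontrivial p-subgroup of the finite group H that is a weakly closed subgroup and K a subgroup containing Q; let K° be the weak closure of Q in K (generated by the H-conjugates of Q inside K). Then K° is generated by the K-conjugates of Q, and K° is the subnormal closure of Q in K. -/
theorem result {H : Type*} [Group H] [Finite H] {p : ℕ} [Fact p.Prime] (Q : Subgroup H) (hQp : IsPGroup p ↥Q) (hQ1 : Q ≠ ⊥) (hwc : Cfsg.IsWeaklyClosedSubgroup p Q) (K : Subgroup H) (hQK : Q ≤ K) (Kc : Subgroup H) (hKc : Kc = Cfsg.weakClosure Q K) : Kc = ⨆ k : ↥K, ((Q : Subgroup H).map (MulAut.conj ((k : H) : H)).toMonoidHom) ∧ Kc = (Cfsg.subnormalClosure (Q.subgroupOf K)).map K.subtype := by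
  subst hKc
  refine ⟨CharP.weakClosure_eq_iSup hwc hQp hQK, ?_⟩
  set Kc := Cfsg.weakClosure Q K
  have hKcK : Kc ≤ K := CharP.weakClosure_le_self Q K
  refine le_antisymm ?_ ?_
  · rw [← Subgroup.map_subgroupOf_eq_of_le hKcK]
    refine Subgroup.map_mono (le_sInf ?_)
    rintro A ⟨hQA, hA⟩
    induction hA with
    | top => exact le_top
    | step A B hAB _ hn ih =>
      have hB := ih (hQA.trans hAB)
      have hKB : Kc ≤ B.map K.subtype := by
        rw [← Subgroup.map_subgroupOf_eq_of_le hKcK]; exact Subgroup.map_mono hB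
      have hQA' : Q ≤ A.map K.subtype := by
        rw [← Subgroup.map_subgroupOf_eq_of_le hQK]; exact Subgroup.map_mono hQA
      intro x hx
      have hle : Kc ≤ A.map K.subtype := by
        rw [CharP.weakClosure_le_iff]
        intro g hg
        obtain ⟨b, hb, hbe⟩ := CharP.wc_exists_conj hwc hQp
          (hQA'.trans (Subgroup.map_mono hAB)) ((CharP.conj_le_weakClosure hg).trans hKB)
        obtain ⟨b, hb', rfl⟩ := hb
        rw [hbe]
        rintro _ ⟨q, hq, rfl⟩
        obtain ⟨a, ha, rfl⟩ := hQA' hq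
        exact ⟨b * a * b⁻¹, hn.conj_mem ⟨a, hAB ha⟩ ha ⟨b, hb'⟩, rfl⟩
      exact (Subgroup.mem_map_iff_mem K.subtype_injective).1 (hle hx)
  · rw [← Subgroup.map_subgroupOf_eq_of_le hKcK]
    refine Subgroup.map_mono (sInf_le ⟨Subgroup.comap_mono (CharP.le_weakClosure hQK), ?_⟩)
    exact ((Subgroup.normal_subgroupOf_iff_le_normalizer hKcK).2
      (Subgroup.le_normalizer.trans
        (CharP.normalizer_le_normalizer_weakClosure Q K))).isSubnormal

end Cfsg.Agent.S2840
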