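import Cfsg.Statements.S2841
import Cfsg.Agent.Lib.CharP.WeaklyClosed

set_option autoImplicit false
open Cfsg

namespace Cfsg.Agent.S2841

open scoped commutatorElement

/-- Let Q be a nontrivial p-subgroup of the finite group H that is a weakly closed subgroup and N a normal subgroup of H. Then N = N_N(Q)·[N, Q] and [N, Q] = (Q ∩ [N, Q])·[N, Q, Q]. -/
theorem result {H : Type*} [Group H] [Finite H] {p : ℕ} [Fact p.Prime] (Q : Subgroup H) (hQp : IsPGroup p ↥Q) (hQ1 : Q ≠ ⊥) (hwc : Cfsg.IsWeaklyClosedSubgroup p Q) (N' : Subgroup H) [N'.Normal] : (∀ n : H, n ∈ N' → ∃ a ∈ N' ⊓ Subgroup.normalizer ((Q : Subgroup H) : Set H), ∃ b ∈ ⁅N', Q⁆, n = a * b) ∧ (∀ c : H, c ∈ ⁅N', Q⁆ → ∃ a ∈ Q ⊓ ⁅N', Q⁆, ∃ b ∈ ⁅⁅N', Q⁆, Q⁆, c = a * b) := by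
  have hQN : Q ≤ Subgroup.normalizer (N' : Set H) := fun x _ =>
    Subgroup.normalizer_eq_top_iff.2 (inferInstance : N'.Normal) ▸ Subgroup.mem_top x
  refine ⟨fun n hn => CharP.wc_frattini hwc hQp hQN hn, ?_⟩
  set M := ⁅N', Q⁆
  have hQM : Q ≤ Subgroup.normalizer (M : Set H) := Subgroup.normalizer_commutator_ge_right N' Q
  have hQD : Q ≤ Subgroup.normalizer ((⁅M, Q⁆ : Subgroup H) : Set H) :=
    Subgroup.normalizer_commutator_ge_right M Q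
  have key : M ≤ (Q ⊓ M) ⊔ ⁅M, Q⁆ := by
    refine Subgroup.commutator_le.2 fun n hn q hq => ?_
    obtain ⟨a, ha, b, hb, rfl⟩ := CharP.wc_frattini hwc hQp hQN hn
    obtain ⟨haN, haQ⟩ := Subgroup.mem_inf.1 ha
    have h1 : ⁅a, q⁆ ∈ Q ⊓ M := by
      refine Subgroup.mem_inf.2 ⟨?_, Subgroup.commutator_mem_commutator haN hq⟩
      rw [commutatorElement_def]
      exact mul_mem ((Subgroup.mem_normalizer_iff.1 haQ q).1 hq) (inv_mem hq)
    have haM : a ∈ Subgroup.normalizer (M : Set H) :=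
      Subgroup.normalizer_commutator_ge_left N' Q haN
    have h2 : ⁅a * b * a⁻¹, a * q * a⁻¹⁆ ∈ ⁅M, Q⁆ := Subgroup.commutator_mem_commutator
      ((Subgroup.mem_normalizer_iff.1 haM b).1 hb) ((Subgroup.mem_normalizer_iff.1 haQ q).1 hq)
    have e : ⁅a * b, q⁆ = ⁅a * b * a⁻¹, a * q * a⁻¹⁆ * ⁅a, q⁆ := by
      simp only [commutatorElement_def]; group
    rw [e]
    exact mul_mem ((le_sup_right : _ ≤ (Q ⊓ M) ⊔ ⁅M, Q⁆) h2)
      ((le_sup_left : _ ≤ (Q ⊓ M) ⊔ ⁅M, Q⁆) h1)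
  intro c hc
  have h := key hc
  rw [← SetLike.mem_coe, Subgroup.coe_mul_of_left_le_normalizer_right _ _
    (inf_le_left.trans hQD)] at h
  obtain ⟨a, ha, b, hb, rfl⟩ := h
  exact ⟨a, ha, b, hb, rfl⟩

end Cfsg.Agent.S2841
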