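import Cfsg.Statements.S2843
import Cfsg.Agent.Lib.CharP.WeaklyClosed

set_option autoImplicit false
open Cfsg

namespace Cfsg.Agent.S2843

open scoped commutatorElement

/-- Let Q be a nontrivial large p-subgroup of the finite group H, Q ≤ L ≤ H, and Y a nontrivial p-subgroup of H normalized by L. Let L° be the weak closure of Q in L (generated by the conjugates of Q inside L). Then L° equals the weak closure of Q in L·C_H(Y), and [L°, C_H(Y)] ≤ O_p(L°); in particular C_H(Y) normalizes L°. -/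
theorem result {H : Type*} [Group H] [Finite H] {p : ℕ} [Fact p.Prime] (Q : Subgroup H) (hQp : IsPGroup p ↥Q) (hQ1 : Q ≠ ⊥) (hL : Cfsg.IsLarge Q) (L : Subgroup H) (hQL : Q ≤ L) (Y : Subgroup H) (hYp : IsPGroup p ↥Y) (hY1 : Y ≠ ⊥) (hLY : L ≤ Subgroup.normalizer ((Y : Subgroup H) : Set H)) : Cfsg.weakClosure Q L = Cfsg.weakClosure Q (L ⊔ Subgroup.centralizer ((Y : Subgroup H) : Set H)) ∧ ⁅Cfsg.weakClosure Q L, Subgroup.centralizer ((Y : Subgroup H) : Set H)⁆ ≤ (Cfsg.pCoreOf p (Cfsg.weakClosure Q L)) ∧ Subgroup.centralizer ((Y : Subgroup H) : Set H) ≤ Subgroup.normalizer (((Cfsg.weakClosure Q L) : Subgroup H) : Set H) := by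
  set C := Subgroup.centralizer (Y : Set H)
  set W := Cfsg.weakClosure Q L
  have hwc := CharP.isLarge_wc hQp hQ1 hL
  have hCN : C ≤ Subgroup.normalizer (Q : Set H) :=
    CharP.isLarge_centralizer_le hQp hL hYp hY1 (hQL.trans hLY)
  have hLC : L ≤ Subgroup.normalizer (C : Set H) :=
    hLY.trans (CharP.normalizer_le_normalizer_centralizer Y)
  have hCg : ∀ g : H, Q.map (MulAut.conj g).toMonoidHom ≤ L →
      C ≤ Subgroup.normalizer ((Q.map (MulAut.conj g).toMonoidHom : Subgroup H) : Set H) := by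
    intro g hg c hc
    obtain ⟨l, hl, hle⟩ := CharP.wc_exists_conj hwc hQp hQL hg
    rw [hle]
    have h1 : l⁻¹ * c * l ∈ C := by
      simpa using (Subgroup.mem_normalizer_iff.1 (hLC (inv_mem hl)) c).1 hc
    have h2 := CharP.conj_mem_normalizer_map l (hCN h1)
    simpa [mul_assoc] using h2
  have hWeq : W = Cfsg.weakClosure Q (L ⊔ C) := by
    refine le_antisymm (CharP.weakClosure_mono le_sup_left) (CharP.weakClosure_le_iff.2 fun g hg => ?_)
    obtain ⟨k, hk, hke⟩ := CharP.wc_exists_conj hwc hQp (hQL.trans le_sup_left) hg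
    rw [← SetLike.mem_coe, Subgroup.coe_mul_of_left_le_normalizer_right _ _ hLC] at hk
    obtain ⟨l, hl, c, hc, rfl⟩ := hk
    rw [hke, ← CharP.conj_map_map l c, CharP.conj_map_of_mem (hCN hc)]
    exact CharP.conj_le_weakClosure
      ((Subgroup.map_mono hQL).trans (CharP.conj_map_of_mem (Subgroup.le_normalizer hl)).le)
  have hCW : C ≤ Subgroup.normalizer (W : Set H) := by
    have h : ∀ c ∈ C, W.map (MulAut.conj c).toMonoidHom ≤ W := by
      intro c hc
      rw [Subgroup.map_le_iff_le_comap, CharP.weakClosure_le_iff]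
      intro g hg
      rw [← Subgroup.map_le_iff_le_comap, CharP.conj_map_of_mem (hCg g hg hc)]
      exact CharP.conj_le_weakClosure hg
    intro c hc
    exact CharP.mem_normalizer_of_conj_map (Subgroup.eq_of_le_of_card_ge (h c hc)
      (Subgroup.card_map_of_injective (MulAut.conj c).injective).ge)
  refine ⟨hWeq, ?_, hCW⟩
  set D := Cfsg.pCoreOf p C ⊓ W
  have hWLn : W ≤ L := CharP.weakClosure_le_self Q L
  have hWC : W ≤ Subgroup.normalizer (C : Set H) := hWLn.trans hLC
  have hWD : W ≤ Subgroup.normalizer (D : Set H) :=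
    (le_inf (hWC.trans (CharP.normalizer_le_normalizer_pCoreOf p C))
      Subgroup.le_normalizer).trans Subgroup.inf_normalizer_le_normalizer_inf
  have hDO : D ≤ Cfsg.pCoreOf p W :=
    CharP.le_pCoreOf inf_le_right hWD ((CharP.isPGroup_pCoreOf p C).to_le inf_le_left)
  refine Subgroup.commutator_le.2 fun x hx c hc => hDO ?_
  suffices h : ∀ c ∈ C, ⁅x, c⁆ ∈ D from h c hc
  have hx' : x ∈ ⨆ g : {g : H // Q.map (MulAut.conj g).toMonoidHom ≤ L},
      Q.map (MulAut.conj (g : H)).toMonoidHom := hx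
  suffices h3 : x ∈ W ∧ ∀ c ∈ C, ⁅x, c⁆ ∈ D from h3.2
  clear hx
  refine Subgroup.iSup_induction (C := fun x => x ∈ W ∧ ∀ c ∈ C, ⁅x, c⁆ ∈ D) _ hx'
    ?_ ?_ ?_
  · rintro ⟨g, hg⟩ q hq
    refine ⟨CharP.conj_le_weakClosure hg hq, fun c hc => ?_⟩
    set Qg := Q.map (MulAut.conj g).toMonoidHom
    have h1 : ⁅q, c⁆ ∈ Qg ⊓ C := Subgroup.mem_inf.2 ⟨by
      rw [commutatorElement_def, mul_assoc, mul_assoc, ← mul_assoc c]
      exact mul_mem hq ((Subgroup.mem_normalizer_iff.1 (hCg g hg hc) _).1 (inv_mem hq)), by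
      rw [commutatorElement_def]
      exact mul_mem ((Subgroup.mem_normalizer_iff.1 (hLC (hg hq)) c).1 hc) (inv_mem hc)⟩
    refine Subgroup.mem_inf.2 ⟨?_, CharP.conj_le_weakClosure hg (Subgroup.mem_inf.1 h1).1⟩
    exact CharP.le_pCoreOf inf_le_right
      ((le_inf (hCg g hg) Subgroup.le_normalizer).trans Subgroup.inf_normalizer_le_normalizer_inf)
      ((CharP.isPGroup_conj hQp g).to_le inf_le_left) h1
  · exact ⟨one_mem W, fun c _ => by rw [commutatorElement_one_left]; exact one_mem D⟩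
  · rintro a b ⟨ha, ha'⟩ ⟨hb, hb'⟩
    refine ⟨mul_mem ha hb, fun c hc => ?_⟩
    have e : ⁅a * b, c⁆ = (a * ⁅b, c⁆ * a⁻¹) * ⁅a, c⁆ := by
      simp only [commutatorElement_def]; group
    rw [e]
    exact mul_mem ((Subgroup.mem_normalizer_iff.1 (hWD ha) _).1 (hb' c hc)) (ha' c hc)

end Cfsg.Agent.S2843
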