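import Cfsg.Statements.S2846
import Cfsg.Agent.Lib.CharP.Parabolic
import Cfsg.Agent.S2843
import Cfsg.Agent.S2845

set_option autoImplicit false
open Cfsg

namespace Cfsg.Agent.S2846

/-- Let Q be a nontrivial large p-subgroup of the finite group H, S a Sylow p-subgroup containing Q, and L a subgroup containing S with O_p(L) ≠ 1 and C_H(O_p(L)) ≤ O_p(L). Then there are a subgroup M containing S having the basic property (M ∈ 𝔐_H, writing Y_X for the largest p-reduced normal subgroup of X and 𝓛_H for the set of subgroups X with O_p(X) ≠ 1 and C_H(O_p(X)) ≤ O_p(X): M ∈ 𝓛_H, M·C_H(Y_M) is the only maximal member of 𝓛_H containing M and its largest p-reduced normal subgroup is again Y_M, C_M(Y_M) is p-closed, and the image of C_M(Y_M) in M/O_p(M) lies in the Frattini subgroup of M/O_p(M)) and a subgroup L* with S ≤ L* ≤ M, O_p(L*) ≠ 1, C_H(O_p(L*)) ≤ O_p(L*), such that L·C_H(Y_L) = L*·C_H(Y_L), the weak closures of Q in L and in L* agree and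 lie in that of M, and Y_L = Y_{L*} ≤ Y_M. If moreover Q is not normal in L, then Q is normal in neither L* nor M. -/
theorem result {H : Type*} [Group H] [Finite H] {p : ℕ} [Fact p.Prime] (Q : Subgroup H) (hQp : IsPGroup p ↥Q) (hQ1 : Q ≠ ⊥) (hLg : Cfsg.IsLarge Q) (S : Sylow p H) (hQS : Q ≤ (S : Subgroup H)) (L : Subgroup H) (hSL : (S : Subgroup H) ≤ L) (hL : L ∈ Cfsg.charPSubgroups p H) : ∃ M Ls : Subgroup H, (S : Subgroup H) ≤ M ∧ Cfsg.IsInFrakM p M ∧ (S : Subgroup H) ≤ Ls ∧ Ls ≤ M ∧ Ls ∈ Cfsg.charPSubgroups p H ∧ L ⊔ Subgroup.centralizer (((Cfsg.largestPReducedOf p L) : Subgroup H) : Set H) = Ls ⊔ Subgroup.centralizer (((Cfsg.largestPReducedOf p L) : Subgroup H) : Set H) ∧ Cfsg.weakClosure Q L = Cfsg.weakClosure Q Ls ∧ Cfsg.weakClosure Q Ls ≤ Cfsg.weakClosure Q M ∧ (Cfsg.largestPReducedOf p L) = (Cfsg.largestPReducedOf p Ls) ∧ (Cfsg.largestPReducedOf p Ls) ≤ (Cfsg.largestPReducedOf p M) ∧ (¬ L ≤ Subgroup.normalizer ((Q : Subgroup H)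 : Set H) → ¬ Ls ≤ Subgroup.normalizer ((Q : Subgroup H) : Set H) ∧ ¬ M ≤ Subgroup.normalizer ((Q : Subgroup H) : Set H)) := by
  obtain ⟨M, Ls, hSM, hM, hSLs, hLsM, hLs, hY, hYM, hsup⟩ :=
    CharP.exists_frakM (S2845.result Q hQp hQ1 hLg).2.2 S hSL hL
  set Y := Cfsg.largestPReducedOf p L
  have hY1 : Y ≠ ⊥ := CharP.largestPReducedOf_ne_bot S hSL hL
  have hYp : IsPGroup p ↥Y :=
    CharP.isPGroup_of_isElementaryAbelian (CharP.isElementaryAbelian_largestPReducedOf p L)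
  have e1 := (S2843.result Q hQp hQ1 hLg L (hQS.trans hSL) Y hYp hY1
    (CharP.le_normalizer_largestPReducedOf p L)).1
  have e2 := (S2843.result Q hQp hQ1 hLg Ls (hQS.trans hSLs) Y hYp hY1
    (hY ▸ CharP.le_normalizer_largestPReducedOf p Ls)).1
  have hwc : Cfsg.weakClosure Q L = Cfsg.weakClosure Q Ls := by rw [e1, e2, hsup]
  refine ⟨M, Ls, hSM, hM, hSLs, hLsM, hLs, hsup, hwc, CharP.weakClosure_mono hLsM, hY,
    hY.ge.trans hYM, fun hLQ => ?_⟩
  have hLsQ : ¬ Ls ≤ Subgroup.normalizer (Q : Set H) := by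
    intro h
    have hW : Cfsg.weakClosure Q Ls = Q := by
      refine le_antisymm (CharP.weakClosure_le_iff.2 fun g hg => ?_)
        (CharP.le_weakClosure (hQS.trans hSLs))
      obtain ⟨k, hk, hke⟩ := CharP.wc_exists_conj (CharP.isLarge_wc hQp hQ1 hLg) hQp
        (hQS.trans hSLs) hg
      rw [hke]
      exact (CharP.conj_map_of_mem (h hk)).le
    have := Subgroup.le_normalizer.trans (CharP.normalizer_le_normalizer_weakClosure Q L)
    rw [hwc, hW] at this
    exact hLQ this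
  exact ⟨hLsQ, fun h => hLsQ (hLsM.trans h)⟩

end Cfsg.Agent.S2846
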