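import Cfsg.Statements.S2848
import Cfsg.Agent.Lib.CharP.WeaklyClosed
import Cfsg.Agent.Lib.CharP.PClosed

set_option autoImplicit false
open Cfsg

namespace Cfsg.Agent.S2848

/-- Standing hypotheses: G a finite group, S a Sylow p-subgroup, Q a nontrivial large p-subgroup of G contained in S (C_G(Q) ≤ Q and N_G(U) ≤ N_G(Q) for all nontrivial U ≤ C_G(Q)), and M a subgroup containing S with the basic property (M ∈ 𝔐_G(S)); Y_M denotes the largest p-reduced normal subgroup of M and M† = M·C_G(Y_M). Then O_p(M) is a weakly closed subgroup of M† (for p): it is the only M†-conjugate of itself inside some Sylow p-subgroup of M† containing it. -/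
theorem result {G : Type*} [Group G] [Finite G] {p : ℕ} [Fact p.Prime] (S : Sylow p G) (Q : Subgroup G) (hQp : IsPGroup p ↥Q) (hQ1 : Q ≠ ⊥) (hQS : Q ≤ (S : Subgroup G)) (hQ : Cfsg.IsLarge Q) (M : Subgroup G) (hSM : (S : Subgroup G) ≤ M) (hM : Cfsg.IsInFrakM p M) : Cfsg.IsWeaklyClosedSubgroup p (((Cfsg.pCoreOf p M)).subgroupOf (M ⊔ Subgroup.centralizer (((Cfsg.largestPReducedOf p M) : Subgroup G) : Set G))) := by
  set Y := Cfsg.largestPReducedOf p M
  set C := Subgroup.centralizer (Y : Set G)
  set Md := M ⊔ C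
  set P := Cfsg.pCoreOf p M
  have hMC : M ≤ Subgroup.normalizer (C : Set G) :=
    (CharP.le_normalizer_largestPReducedOf p M).trans (CharP.normalizer_le_normalizer_centralizer _)
  have hMdC : Md ≤ Subgroup.normalizer (C : Set G) := sup_le hMC Subgroup.le_normalizer
  have hPC : P ≤ C := CharP.pCoreOf_le_centralizer_largestPReducedOf p M
  have hPM : P ≤ M := CharP.pCoreOf_le p M
  have hPMd : P ≤ Md := hPM.trans le_sup_left
  have hclosed : Cfsg.IsPClosed p ↥(M ⊓ C) := hM.2.2.2.2.1
  set T := S.subtype (hSM.trans le_sup_left : (S : Subgroup G) ≤ Md)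
  refine ⟨T, ?_, fun g hg => ?_⟩
  · intro x hx
    exact CharP.pCoreOf_le_of_isSylIn
      (CharP.IsSylIn.mono (H := ⊤) (CharP.isSylIn_top_iff.2 ⟨S, rfl⟩) hSM le_top) hx
  have e : ((P.subgroupOf Md).map (MulAut.conj g).toMonoidHom).map Md.subtype
      = P.map (MulAut.conj (g : G)).toMonoidHom := by
    conv_rhs => rw [← Subgroup.map_subgroupOf_eq_of_le hPMd]
    rw [Subgroup.map_map, Subgroup.map_map]
    rfl
  refine Subgroup.map_injective Md.subtype_injective ?_
  rw [e, Subgroup.map_subgroupOf_eq_of_le hPMd]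
  have hS : P.map (MulAut.conj (g : G)).toMonoidHom ≤ (S : Subgroup G) := by
    rw [← e]
    rintro _ ⟨x, hx, rfl⟩
    exact hg hx
  have hC' : P.map (MulAut.conj (g : G)).toMonoidHom ≤ C :=
    (Subgroup.map_mono hPC).trans (CharP.conj_map_of_mem (hMdC g.2)).le
  refine Subgroup.eq_of_le_of_card_ge ?_
    (Subgroup.card_map_of_injective (MulAut.conj (g : G)).injective).ge
  refine le_trans ((CharP.isPClosed_subgroup_iff.1 hclosed) _ (le_inf (hS.trans hSM) hC')
    (S.isPGroup'.to_le hS)) ?_
  exact CharP.pCoreOf_mono_of_normal inf_le_left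
    ((le_inf Subgroup.le_normalizer hMC).trans Subgroup.inf_normalizer_le_normalizer_inf)

end Cfsg.Agent.S2848
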