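import Cfsg.Statements.S2849
import Cfsg.Agent.Lib.CharP.WeaklyClosed

set_option autoImplicit false
open Cfsg

namespace Cfsg.Agent.S2849

/-- Standing hypotheses: G a finite group, S a Sylow p-subgroup, Q a nontrivial large p-subgroup of G contained in S (C_G(Q) ≤ Q and N_G(U) ≤ N_G(Q) for all nontrivial U ≤ C_G(Q)), and M a subgroup containing S with the basic property (M ∈ 𝔐_G(S)); Y_M denotes the largest p-reduced normal subgroup of M and M† = M·C_G(Y_M). Suppose Y_M is asymmetric in G. Then for every subgroup R with Y_M ≤ R ≤ M†, the normal closure of Y_M in N_G(R) is elementary abelian. -/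
theorem result {G : Type*} [Group G] [Finite G] {p : ℕ} [Fact p.Prime] (S : Sylow p G) (Q : Subgroup G) (hQp : IsPGroup p ↥Q) (hQ1 : Q ≠ ⊥) (hQS : Q ≤ (S : Subgroup G)) (hQ : Cfsg.IsLarge Q) (M : Subgroup G) (hSM : (S : Subgroup G) ≤ M) (hM : Cfsg.IsInFrakM p M) (hasym : ¬ Cfsg.IsSymmetricIn (Cfsg.largestPReducedOf p M)) (R : Subgroup G) (hYR : (Cfsg.largestPReducedOf p M) ≤ R) (hRM : R ≤ (M ⊔ Subgroup.centralizer (((Cfsg.largestPReducedOf p M) : Subgroup G) : Set G))) : Cfsg.IsElementaryAbelian p ((Subgroup.normalClosure ((((Cfsg.largestPReducedOf p M)).subgroupOf (Subgroup.normalizer ((R : Subgroup G) : Set G)) : Subgroup ↥(Subgroup.normalizer ((R : Subgroup G) : Set G))) : Set ↥(Subgroup.normalizer ((R : Subgroup G) : Set G)))).map (Subgroup.normalizer ((R : Subgroup G) : Set G)).subtype) := by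
  set Y := Cfsg.largestPReducedOf p M
  set N := Subgroup.normalizer (R : Set G)
  have hRY : R ≤ Subgroup.normalizer (Y : Set G) :=
    hRM.trans (sup_le (CharP.le_normalizer_largestPReducedOf p M)
      (Subgroup.centralizer_le_normalizer _))
  have hYN : Y ≤ N := hYR.trans Subgroup.le_normalizer
  have hYel : Cfsg.IsElementaryAbelian p Y := CharP.isElementaryAbelian_largestPReducedOf p M
  have hcomm : ∀ n ∈ N, ⁅Y, Y.map (MulAut.conj n).toMonoidHom⁆ = ⊥ := by
    intro n hn
    by_contra hne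
    have hYnR : Y.map (MulAut.conj n).toMonoidHom ≤ R :=
      (Subgroup.map_mono hYR).trans (CharP.conj_map_of_mem hn).le
    have hRn : R ≤ Subgroup.normalizer ((Y.map (MulAut.conj n).toMonoidHom : Subgroup G) : Set G) := by
      have := CharP.map_conj_le_normalizer n hRY
      rwa [CharP.conj_map_of_mem hn] at this
    refine hasym ⟨n, hne, le_inf (CharP.commutator_le_left_iff.2 (hYnR.trans hRY)) ?_⟩
    rw [Subgroup.commutator_comm]
    exact CharP.commutator_le_left_iff.2 (hYR.trans hRn)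
  rw [Subgroup.normalClosure, MonoidHom.map_closure]
  refine CharP.isElementaryAbelian_closure ?_ ?_
  · rintro _ ⟨x, hx, rfl⟩ _ ⟨y, hy, rfl⟩
    obtain ⟨x0, hx0, hxc⟩ := Group.mem_conjugatesOfSet_iff.1 hx
    obtain ⟨y0, hy0, hyc⟩ := Group.mem_conjugatesOfSet_iff.1 hy
    obtain ⟨a, rfl⟩ := isConj_iff.1 hxc
    obtain ⟨b, rfl⟩ := isConj_iff.1 hyc
    have h := hcomm ((a : G)⁻¹ * (b : G)) (mul_mem (inv_mem a.2) b.2)
    rw [Subgroup.commutator_eq_bot_iff_le_centralizer] at h
    have h1 := h hx0 _ ⟨y0, hy0, rfl⟩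
    have h2 := congrArg (fun z => (a : G) * z * (a : G)⁻¹) h1
    simpa [mul_assoc] using h2.symm
  · rintro _ ⟨x, hx, rfl⟩
    obtain ⟨x0, hx0, hxc⟩ := Group.mem_conjugatesOfSet_iff.1 hx
    obtain ⟨a, rfl⟩ := isConj_iff.1 hxc
    show (N.subtype (a * x0 * a⁻¹)) ^ p = 1
    rw [← map_pow, conj_pow, map_mul, map_mul, map_pow,
      show (N.subtype x0) ^ p = 1 from hYel.2 _ hx0, mul_one, ← map_mul, mul_inv_cancel, map_one]

end Cfsg.Agent.S2849
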