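import Cfsg.Statements.S2855
import Cfsg.Agent.Lib.PLocal.TransitiveFamily

set_option autoImplicit false
open Cfsg

namespace Cfsg.Agent.S2855

open Subgroup
open Cfsg.Agent.PLocal

/-- Let H be a finite group, p a prime, and 𝒦 a nonempty set of subgroups of H permuted transitively by conjugation, with R the subgroup generated by the members of 𝒦. Suppose O^p(H) ≤ R, each E ∈ 𝒦 has E·O_p(H) normal in R·O_p(H), and each E ∈ 𝒦 is p-minimal (generated by the conjugates of a Sylow p-subgroup T_E of E, with T_E in exactly one maximal subgroup of E). Then H is p-minimal in the same sense. If instead each E ∈ 𝒦 is strongly p-irreducible, then H is p-irreducible and, for E, K ∈ 𝒦, either O^p(E·O_p(H)) = O^p(K·O_p(H)) or [E, K] ≤ O_p(H). -/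
theorem result {H : Type*} [Group H] [Finite H] {p : ℕ} [Fact p.Prime] (𝒦 : Set (Subgroup H)) (hne : 𝒦.Nonempty) (hinv : ∀ h : H, ∀ E ∈ 𝒦, E.map (MulAut.conj h).toMonoidHom ∈ 𝒦) (htr : ∀ E ∈ 𝒦, ∀ K ∈ 𝒦, ∃ h : H, K = E.map (MulAut.conj h).toMonoidHom) (hres : Cfsg.pResidual p H ≤ sSup 𝒦) (hnorm : ∀ E ∈ 𝒦, sSup 𝒦 ⊔ Cfsg.pCore p H ≤ Subgroup.normalizer ((E ⊔ Cfsg.pCore p H : Subgroup H) : Set H)) : ((∀ E ∈ 𝒦, ∀ T : Sylow p ↥E, Cfsg.IsMinimalOver (T : Subgroup ↥E)) → ∀ T : Sylow p H, Cfsg.IsMinimalOver (T : Subgroup H)) ∧ ((∀ E ∈ 𝒦, Cfsg.IsStronglyPIrreducible p ↥E) → Cfsg.IsPIrreducible p H ∧ ∀ E ∈ 𝒦, ∀ K ∈ 𝒦, (Cfsg.pResidual p ↥(E ⊔ Cfsg.pCore p H)).map (E ⊔ Cfsg.pCore p H).subtype = (Cfsg.pResidual p ↥(K ⊔ Cfsg.pCore p H)).map (K ⊔ Cfsg.pCore p H).subtype ∨ ⁅E, K⁆ ≤ Cfsg.pCore p H) := by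
  refine ⟨fun hmin T => TransitiveFamily.isMinimalOver hne hinv htr hres hnorm hmin T, fun hirr => ?_⟩
  haveI hQn : (Cfsg.pCore p H).Normal := Subgroup.sSup_normal _ (fun _ h => h.1)
  set Q := Cfsg.pCore p H with hQ
  let π := QuotientGroup.mk' Q
  have hsurj : Function.Surjective π := QuotientGroup.mk'_surjective Q
  have hker : IsPGroup p π.ker := by
    rw [QuotientGroup.ker_mk']
    exact CharP.isPGroup_pCore p H
  have hkerQ : π.ker = Q := QuotientGroup.ker_mk' Q
  set R := sSup 𝒦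
  haveI hRn : R.Normal := TransitiveFamily.sSup_normal_of_invariant hinv
  have hmapsSup : sSup ((fun E => E.map π) '' 𝒦) = R.map π := by
    rw [sSup_image, ← (Subgroup.gc_map_comap π).l_sSup]
  have hcoreE : ∀ E ∈ 𝒦, Cfsg.pCoreOf p E ≤ Q := by
    intro E hE
    have hEQ : E ⊔ Q ≤ R ⊔ Q := sup_le_sup_right (le_sSup hE) Q
    have hsn : (E ⊔ Q).IsSubnormal := IsSubnormal.step _ (R ⊔ Q) hEQ
      (inferInstance : (R ⊔ Q).Normal).isSubnormal
      ((normal_subgroupOf_iff_le_normalizer hEQ).2 (hnorm E hE))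
    have hp' : IsPGroup p ↥(Cfsg.pCoreOf p E ⊔ Q) :=
      (CharP.isPGroup_pCoreOf p E).to_sup_of_normal_right (CharP.isPGroup_pCore p H)
    refine le_sup_left.trans ((CharP.le_pCoreOf (sup_le_sup_right (CharP.pCoreOf_le p E) Q) ?_ hp').trans
      (CharP.pCoreOf_le_pCore_of_isSubnormal hsn))
    have hn : ∀ x ∈ E, x ∈ normalizer ((Cfsg.pCoreOf p E ⊔ Q : Subgroup H) : Set H) := by
      intro x hx
      rw [mem_normalizer_iff_map_conj_eq, Subgroup.map_sup,
        mem_normalizer_iff_map_conj_eq.1 (CharP.le_normalizer_pCoreOf p E hx)]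
      exact congrArg _ (TransitiveFamily.conj_normal x Q)
    exact sup_le hn (le_sup_right.trans Subgroup.le_normalizer)
  have hcore : Cfsg.pCore p (H ⧸ Q) = ⊥ := by
    have h := CharP.pCore_comap_eq hsurj hker
    rw [← Subgroup.map_comap_eq_self_of_surjective hsurj (Cfsg.pCore p (H ⧸ Q)), h,
      Subgroup.map_eq_bot_iff, hkerQ]
  have hr : TransitiveFamily.Reduced p (H ⧸ Q) ((fun E => E.map π) '' 𝒦) := by
    refine ⟨hcore, ?_, ?_, ?_, ?_, ?_, ?_⟩
    · intro x
      rintro _ ⟨E, hE, rfl⟩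
      obtain ⟨h, rfl⟩ := hsurj x
      refine ⟨_, hinv h E hE, ?_⟩
      show (E.map _).map π = (E.map π).map _
      rw [Subgroup.map_map, Subgroup.map_map]
      congr 1
    · rintro _ ⟨E, hE, rfl⟩ _ ⟨K, hK, rfl⟩
      obtain ⟨h, rfl⟩ := htr E hE K hK
      refine ⟨π h, ?_⟩
      show (E.map _).map π = (E.map π).map _
      rw [Subgroup.map_map, Subgroup.map_map]
      congr 1
    · rw [hmapsSup, ← Cfsg.Agent.Cores.map_pResidual_of_surjective hsurj p]
      exact Subgroup.map_mono hres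
    · rintro _ ⟨E, hE, rfl⟩
      rw [hmapsSup]
      have h1 : (E ⊔ Q).map π = E.map π := by
        rw [Subgroup.map_sup, (Subgroup.map_eq_bot_iff _).mpr hkerQ.ge, sup_bot_eq]
      show R.map π ≤ normalizer ((E.map π : Subgroup (H ⧸ Q)) : Set (H ⧸ Q))
      rw [← h1]
      exact ((Subgroup.map_mono (le_sup_left.trans (hnorm E hE))).trans (le_normalizer_map π))
    · rintro _ ⟨E, hE, rfl⟩ hc
      exact (hirr E hE).1 ((CharP.isPClosed_map_iff hker).1 hc)
    · rintro _ ⟨E, hE, rfl⟩ N hN hNn hne'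
      set N₀ := E ⊓ N.comap π with hN₀
      have hmapN : N₀.map π = N := by
        refine le_antisymm ((Subgroup.map_mono inf_le_right).trans (Subgroup.map_comap_le π N)) ?_
        intro z hz
        obtain ⟨e, he, rfl⟩ := hN hz
        exact ⟨e, ⟨he, hz⟩, rfl⟩
      have hn0 : E ≤ normalizer (N₀ : Set H) := by
        refine le_trans (le_inf Subgroup.le_normalizer ?_) inf_normalizer_le_normalizer_inf
        intro x hx
        have := hNn ⟨x, hx, rfl⟩
        rw [mem_normalizer_iff] at this ⊢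
        intro y
        rw [mem_comap, mem_comap, map_mul, map_mul, map_inv]
        exact this (π y)
      haveI : (N₀.subgroupOf E).Normal := normal_subgroupOf_of_le_normalizer hn0
      have hne0 : ¬ ⁅N₀.subgroupOf E, (⊤ : Subgroup ↥E)⁆ ≤ Cfsg.pCore p ↥E := by
        intro hle
        refine hne' ?_
        have h1 := Subgroup.map_mono (f := E.subtype) hle
        rw [map_commutator, map_subgroupOf_eq_of_le inf_le_left, ← MonoidHom.range_eq_map,
          Subgroup.range_subtype] at h1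
        rw [← hmapN, ← map_commutator, Subgroup.map_eq_bot_iff, hkerQ]
        exact h1.trans (hcoreE E hE)
      have h2 := Subgroup.map_mono (f := E.subtype) ((hirr E hE).2 _ inferInstance hne0)
      rw [map_subgroupOf_eq_of_le inf_le_left] at h2
      rw [← hmapN, ← CharP.map_resOf]
      exact Subgroup.map_mono h2
  refine ⟨?_, fun E hE K hK => ?_⟩
  · have hX := hr.irreducible (hne.image _)
    refine ⟨fun hc => hX.1 ((CharP.isPClosed_iff_of_ker hsurj hker).2 hc), fun N hN hNc => ?_⟩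
    haveI := hN
    have h1 : Cfsg.pResidual p (H ⧸ Q) ≤ N.map π :=
      hX.2 _ (hN.map π hsurj) fun hc => hNc ((CharP.isPClosed_map_iff hker).1 hc)
    rw [← Cfsg.Agent.Cores.map_pResidual_of_surjective hsurj p, Subgroup.map_le_map_iff, hkerQ] at h1
    exact CharP.pResidual_le_of_le_sup (CharP.isPGroup_pCore p H) h1
  · rcases hr.dichotomy ⟨E, hE, rfl⟩ ⟨K, hK, rfl⟩ with h | h
    · left
      have h1 : ∀ A : Subgroup H, (A ⊔ Q).map π = A.map π := fun A => by
        rw [Subgroup.map_sup, (Subgroup.map_eq_bot_iff _).mpr hkerQ.ge, sup_bot_eq]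
      simp only at h
      rw [← h1 E, ← h1 K, ← CharP.map_resOf, ← CharP.map_resOf, Subgroup.map_eq_map_iff, hkerQ] at h
      have h2 : ∀ A : Subgroup H, CharP.resOf p (CharP.resOf p (A ⊔ Q) ⊔ Q) = CharP.resOf p (A ⊔ Q) := fun A =>
        le_antisymm (CharP.resOf_mono p (sup_le (CharP.resOf_le p _) le_sup_right))
          (le_of_eq_of_le (CharP.resOf_resOf p (A ⊔ Q)).symm (CharP.resOf_mono p le_sup_left))
      show CharP.resOf p (E ⊔ Q) = CharP.resOf p (K ⊔ Q)
      rw [← h2 E, h, h2 K]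
    · right
      simp only at h
      rw [← map_commutator, Subgroup.map_eq_bot_iff, hkerQ] at h
      exact h

end Cfsg.Agent.S2855
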