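import Cfsg.Statements.S2856
import Cfsg.Agent.Lib.CharP.AmalgamVIter

set_option autoImplicit false
open Cfsg

namespace Cfsg.Agent.S2856

/-- Let (M₁, M₂) be an amalgam pair in X satisfying the rank-two standing hypothesis (characteristic p, the normalizers in M₁ and in M₂ of a Sylow p-subgroup of M₁ ∩ M₂ equal and contained in M₁ ∩ M₂, and strongly p-embedded residues), λ a vertex of the coset graph, L_λ the subgroup of its stabilizer generated by the p-elements, Q_λ = O_p of the stabilizer, O^p(L_λ) the subgroup of L_λ generated by its elements of order prime to p, and V_λ^{(k)} the subgroup generated by the Z_μ over the vertices μ at distance at most k from λ (Z_μ being generated by the Ω₁(Z(S)), S a Sylow p-subgroup of the stabilizer of μ). If n ≥ 1 and V_λ^{(n)} ≤ Q_λ, then O^p(L_λ) does not centralize V_λ^{(n)}/[V_λ^{(n)}, Q_λ], that is, [V_λ^{(n)}, O^p(L_λ)] is not contained in [V_λ^{(n)}, Q_λ]. -/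
theorem result {X : Type*} [Group X] {p : ℕ} [Fact p.Prime] (M₁ M₂ : Subgroup X) (h : Cfsg.IsSpeAmalgamPair p M₁ M₂) (lam : Cfsg.CosetVertex M₁ M₂) (n : ℕ) (hn : 1 ≤ n) (V : Subgroup X) (hV : V = Cfsg.vertexVIter p M₁ M₂ n lam) (hVQ : V ≤ Cfsg.vertexQ p lam) : ¬ ⁅V, ((Cfsg.pResidual p ↥(Cfsg.pElementClosure p (MulAction.stabilizer X lam))).map (Cfsg.pElementClosure p (MulAction.stabilizer X lam)).subtype)⁆ ≤ ⁅V, Cfsg.vertexQ p lam⁆ := by
  subst hV
  intro hle
  obtain ⟨μ, hμ⟩ := Cfsg.Agent.CharP.cg_exists_neighbour lam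
  have hc := Cfsg.Agent.CharP.cg_connected h.1.1.1
  have hQd : Cfsg.vertexQ p lam ≤ MulAction.stabilizer X lam := Cfsg.Agent.CharP.pCoreOf_le p _
  have hnQ : MulAction.stabilizer X lam ≤ Subgroup.normalizer (Cfsg.vertexQ p lam : Set X) :=
    Cfsg.Agent.CharP.le_normalizer_pCoreOf p _
  have hW : MulAction.stabilizer X lam ≤
      Subgroup.normalizer ((⁅Cfsg.vertexVIter p M₁ M₂ n lam, Cfsg.vertexQ p lam⁆ : Subgroup X) : Set X) := by
    refine fun g hg => Cfsg.Agent.CharP.mem_normalizer_of_conj_map ?_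
    rw [Subgroup.map_commutator, Cfsg.Agent.CharP.AmalgamVIter.vertexVIter_smul h.1,
      MulAction.mem_stabilizer_iff.1 hg, Cfsg.Agent.CharP.conj_map_of_mem (hnQ hg)]
  have := Cfsg.Agent.CharP.finite_stab h.1.2.1 h.1.2.2.1 lam
  have : Finite ↥(Cfsg.vertexQ p lam) :=
    Finite.of_injective _ (Subgroup.inclusion_injective hQd)
  have : Group.IsNilpotent ↥(Cfsg.vertexQ p lam) :=
    (Cfsg.Agent.CharP.isPGroup_pCoreOf p (MulAction.stabilizer X lam)).isNilpotent
  refine Cfsg.Agent.CharP.AmalgamVIter.not_le_neighbour h hμ hn hVQ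
    (Cfsg.Agent.CharP.AmalgamVIter.le_of_le_sup_commutator ?_ hVQ ?_
      (Cfsg.Agent.CharP.AmalgamVIter.le_neighbour h hμ hn hW hle))
  · refine le_trans ?_ hVQ
    exact Cfsg.Agent.CharP.AmalgamVIter.vertexVIter_le_of_dist hc
      (by rw [SimpleGraph.dist_eq_one_iff_adj.2 hμ]; omega)
  · exact ((Cfsg.Agent.CharP.vertexQ_le_neighbourKernel h.1 lam).trans
      (Cfsg.Agent.CharP.neighbourKernel_le hμ)).trans
      (Cfsg.Agent.CharP.AmalgamVIter.stab_le_normalizer_vertexVIter h.1 _ μ)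

end Cfsg.Agent.S2856
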