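import Cfsg.Statements.S2859
import Cfsg.Agent.Lib.PLocal.WeakClosureSplit

set_option autoImplicit false
open Cfsg

namespace Cfsg.Agent.S2859

open Subgroup

/-- Let Q be a nontrivial p-subgroup of the finite group H that is a weakly closed subgroup, H° the weak closure of Q in H (generated by the conjugates of Q) and H_∘ = O^p(H°). Suppose H₁, H₂ are normal subgroups of H° with H° = H₁H₂ and [H₁, H₂] ≤ N_H(Q), and put Kᵢ = O^p of the weak closure of Q in HᵢQ. Then for i = 1, 2: Kᵢ = [Kᵢ, Q] = [Kᵢ, Hᵢ] ≤ Hᵢ′ and Kᵢ is normal in H°; H_∘ = K₁K₂; and [K₁, K₂] ≤ O_p(H°). -/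
theorem result {G : Type*} [Group G] [Finite G] {p : ℕ} [Fact p.Prime] (Q : Subgroup G) (hQp : IsPGroup p ↥Q) (hQ1 : Q ≠ ⊥) (hwc : Cfsg.IsWeaklyClosedSubgroup p Q) (Hc : Subgroup G) (hHc : Hc = Cfsg.weakClosure Q ⊤) (H₁ H₂ : Subgroup G) (hn₁ : H₁ ≤ Hc ∧ Hc ≤ Subgroup.normalizer ((H₁ : Subgroup G) : Set G)) (hn₂ : H₂ ≤ Hc ∧ Hc ≤ Subgroup.normalizer ((H₂ : Subgroup G) : Set G)) (hprod : H₁ ⊔ H₂ = Hc) (hcomm : ⁅H₁, H₂⁆ ≤ Subgroup.normalizer ((Q : Subgroup G) : Set G)) (K₁ K₂ : Subgroup G) (hK₁ : K₁ = ((Cfsg.pResidual p ↥(Cfsg.weakClosure Q (H₁ ⊔ Q))).map ((Cfsg.weakClosure Q (H₁ ⊔ Q))).subtype)) (hK₂ : K₂ = ((Cfsg.pResidual p ↥(Cfsg.weakClosure Q (H₂ ⊔ Q))).map ((Cfsg.weakClosure Q (H₂ ⊔ Q))).subtype)) : (⁅K₁, Q⁆ = K₁ ∧ ⁅K₁, H₁⁆ = K₁ ∧ K₁ ≤ ⁅H₁, H₁⁆ ∧ Hc ≤ Subgroup.normalizer ((K₁ : Subgroup G) : Set G)) ∧ (⁅K₂, Q⁆ = K₂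 ∧ ⁅K₂, H₂⁆ = K₂ ∧ K₂ ≤ ⁅H₂, H₂⁆ ∧ Hc ≤ Subgroup.normalizer ((K₂ : Subgroup G) : Set G)) ∧ K₁ ⊔ K₂ = ((Cfsg.pResidual p ↥Hc).map (Hc).subtype) ∧ ⁅K₁, K₂⁆ ≤ (Cfsg.pCoreOf p Hc) := by
  have h : Cfsg.Agent.PLocal.WeakClosureSplit.Split p Q Hc H₁ H₂ :=
    ⟨hQp, hwc, hHc, hn₁, hn₂, hprod, hcomm⟩
  obtain ⟨a1, a2, a3, a4, a5, a6, a7, a8⟩ := h.main
  obtain ⟨b1, b2, b3, b4, b5, b6, b7, b8⟩ := h.symm.main
  subst hK₁ hK₂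
  refine ⟨⟨a1, a2, a3, a5⟩, ⟨b1, b2, b3, b5⟩, le_antisymm (sup_le a7 b7) ?_,
    (commutator_mono le_rfl b4).trans a6⟩
  set K₁ := Cfsg.Agent.CharP.resOf p (Cfsg.weakClosure Q (H₁ ⊔ Q))
  set K₂ := Cfsg.Agent.CharP.resOf p (Cfsg.weakClosure Q (H₂ ⊔ Q))
  have hN : Hc ≤ normalizer ((K₁ ⊔ K₂ : Subgroup G) : Set G) :=
    (le_inf a5 b5).trans Cfsg.Agent.PLocal.WeakClosureSplit.inf_normalizer_le_sup
  have hn : Hc ≤ normalizer ((K₁ ⊔ K₂ ⊔ Q : Subgroup G) : Set G) := by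
    have key : ∀ x ∈ Hc, Q.map (MulAut.conj x).toMonoidHom ≤ K₁ ⊔ K₂ ⊔ Q →
        x ∈ normalizer ((K₁ ⊔ K₂ ⊔ Q : Subgroup G) : Set G) := by
      intro x hx hle
      rw [mem_normalizer_iff_map_conj_eq]
      refine eq_of_le_of_card_ge ?_ (card_map_of_injective (MulAut.conj x).injective).ge
      rw [Subgroup.map_sup, mem_normalizer_iff_map_conj_eq.1 (hN hx)]
      exact sup_le le_sup_left hle
    rw [← hprod]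
    exact sup_le (fun x hx => key x (hn₁.1 hx) ((a8 x hx).trans (sup_le (le_sup_left.trans le_sup_left) le_sup_right)))
      (fun x hx => key x (hn₂.1 hx) ((b8 x hx).trans (sup_le (le_sup_right.trans le_sup_left) le_sup_right)))
  have hle : Hc ≤ K₁ ⊔ K₂ ⊔ Q := by
    conv_lhs => rw [hHc]
    refine Cfsg.Agent.CharP.weakClosure_le_iff.2 fun g _ => ?_
    obtain ⟨k, hk, hke⟩ := Cfsg.Agent.CharP.wc_exists_conj hwc hQp h.le_closure (h.conj_le g)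
    rw [hke, ← mem_normalizer_iff_map_conj_eq.1 (hn hk)]
    exact map_mono le_sup_right
  exact (Cfsg.Agent.CharP.resOf_mono p hle).trans
    (Cfsg.Agent.PLocal.WeakClosureSplit.resOf_sup_le hQp (h.le_closure.trans hN))

end Cfsg.Agent.S2859
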