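import Cfsg.Statements.S2861
import Cfsg.Agent.Lib.CharP.FrakLQuotient
import Cfsg.Agent.Lib.CharP.PReduced
import Cfsg.Agent.Lib.Cores.Basic

set_option linter.style.haveILetI false

set_option autoImplicit false
open Cfsg

namespace Cfsg.Agent.S2861

open Subgroup

/-- Standing hypotheses: G a finite group, S a Sylow p-subgroup, Q a nontrivial large p-subgroup of G contained in S, M a subgroup containing S with the basic property (M ∈ 𝔐_G(S)); Y_M the largest p-reduced normal subgroup of M and M† = M·C_G(Y_M). Let L ∈ 𝔏_G(Y_M) (L ∈ 𝔏_G(Y_M): Y_M ≤ L; O_p(L) is the normal closure in L of Y_M ∩ O_p(L) and normalizes Y_M; L is Y_M-minimal of characteristic p with N_L(Y_M) its unique maximal subgroup over Y_M; and L/O_p(L) ≅ SL₂(q) with q = |Y_M : Y_M ∩ O_p(L)|, or p = 2 and L/O_p(L) is a Suzuki group Sz(q) or dihedral of order 2r, r an odd prime) and A = O_p(L). Then Y_M·A/A is the unique nontrivial elementary abelian normal p-subgroup of N_L(Y_M)/A.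 -/
theorem result {G : Type*} [Group G] [Finite G] {p : ℕ} [Fact p.Prime] (S : Sylow p G) (Q : Subgroup G) (hQp : IsPGroup p ↥Q) (hQ1 : Q ≠ ⊥) (hQS : Q ≤ (S : Subgroup G)) (hQ : Cfsg.IsLarge Q) (M : Subgroup G) (hSM : (S : Subgroup G) ≤ M) (hM : Cfsg.IsInFrakM p M) (L : Subgroup G) (hL : Cfsg.IsInFrakL p M L) (NL : Subgroup G) (hNL : NL = L ⊓ Subgroup.normalizer (((Cfsg.largestPReducedOf p M) : Subgroup G) : Set G)) [hn : (((Cfsg.pCoreOf p L)).subgroupOf NL).Normal] : let Ybar : Subgroup (↥NL ⧸ ((Cfsg.pCoreOf p L)).subgroupOf NL) := (((Cfsg.largestPReducedOf p M)).subgroupOf NL).map (QuotientGroup.mk' (((Cfsg.pCoreOf p L)).subgroupOf NL)); Ybar ≠ ⊥ ∧ Ybar.Normal ∧ Cfsg.IsElementaryAbelian p Ybar ∧ ∀ (V : Subgroup (↥NL ⧸ ((Cfsg.pCoreOf p L)).subgroupOf NL)), V.Normal → Cfsg.IsElementaryAbelian p V → V ≠ ⊥ → V = Ybar := by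
  obtain ⟨hYL, -, -, ⟨hncl, -⟩, -, ⟨-, hmaxY⟩, hcases⟩ := hL
  intro Ybar
  set Y := Cfsg.largestPReducedOf p M with hY
  set A := Cfsg.pCoreOf p L with hA
  have hYe : Cfsg.IsElementaryAbelian p Y := CharP.isElementaryAbelian_largestPReducedOf p M
  have hYp : IsPGroup p ↥Y := CharP.isPGroup_of_isElementaryAbelian hYe
  have hNLL : NL ≤ L := hNL.le.trans inf_le_left
  have hYNL : Y ≤ NL := hNL ▸ le_inf hYL le_normalizer
  haveI : (Cfsg.pCore p ↥L).Normal := Cfsg.Agent.Cores.pCore_normal p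
  set π := QuotientGroup.mk' (Cfsg.pCore p ↥L) with hπ
  have hπs : Function.Surjective π := QuotientGroup.mk'_surjective _
  have hker : ∀ x : ↥L, π x = 1 ↔ (x : G) ∈ A := fun x => by
    rw [hπ, QuotientGroup.mk'_apply, QuotientGroup.eq_one_iff]
    exact ⟨fun h => ⟨x, h, rfl⟩, fun ⟨z, hz, hzx⟩ => (Subtype.ext hzx : z = x) ▸ hz⟩
  let ψ : ↥NL ⧸ A.subgroupOf NL →* ↥L ⧸ Cfsg.pCore p ↥L :=
    QuotientGroup.lift _ (π.comp (Subgroup.inclusion hNLL)) fun x hx =>
      (hker (Subgroup.inclusion hNLL x)).2 hx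
  have hψ : Function.Injective ψ := by
    rw [injective_iff_map_eq_one]
    intro q hq
    obtain ⟨x, rfl⟩ := QuotientGroup.mk'_surjective _ q
    exact (QuotientGroup.eq_one_iff x).2 (mem_subgroupOf.2 ((hker (Subgroup.inclusion hNLL x)).1 hq))
  set Yb := (Y.subgroupOf L).map π with hYb
  have hψY : Ybar.map ψ = Yb := by
    rw [Subgroup.map_map]
    ext z
    constructor
    · rintro ⟨y, hy, rfl⟩
      exact ⟨Subgroup.inclusion hNLL y, hy, rfl⟩
    · rintro ⟨y, hy, rfl⟩
      exact ⟨⟨(y : G), hYNL hy⟩, hy, rfl⟩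
  have hYeL : Cfsg.IsElementaryAbelian p (Y.subgroupOf L) :=
    ⟨⟨⟨fun a b => Subtype.ext (Subtype.ext (by
      have h := congrArg Subtype.val (hYe.1.is_comm.comm ⟨_, a.2⟩ ⟨_, b.2⟩)
      simpa using h))⟩⟩,
      fun a ha => Subtype.ext (hYe.2 _ ha)⟩
  have hYbe : Cfsg.IsElementaryAbelian p Yb := CharP.FrakLQuot.isEA_map π hYeL
  have hcard : Nat.card Yb = (Y ⊓ A).relIndex Y := by
    let f : ↥Y →* ↥L ⧸ Cfsg.pCore p ↥L := π.comp (Subgroup.inclusion hYL)
    have hf : f.range = Yb := by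
      ext z
      constructor
      · rintro ⟨y, rfl⟩; exact ⟨Subgroup.inclusion hYL y, y.2, rfl⟩
      · rintro ⟨y, hy, rfl⟩; exact ⟨⟨(y : G), hy⟩, rfl⟩
    have hk : f.ker = A.subgroupOf Y := by
      ext y; rw [MonoidHom.mem_ker, mem_subgroupOf]; exact hker (Subgroup.inclusion hYL y)
    rw [← hf, ← Subgroup.index_ker, hk, inf_relIndex_left]
    rfl
  have hncl' : normalClosure (Yb : Set (↥L ⧸ Cfsg.pCore p ↥L)) = ⊤ := by
    rw [hYb, coe_map, ← map_normalClosure _ π hπs, hncl, map_top_of_surjective π hπs]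
  have himN : (NL.subgroupOf L).map π ≤ normalizer (Yb : Set (↥L ⧸ Cfsg.pCore p ↥L)) := by
    refine (map_mono (fun x hx => ?_)).trans (le_normalizer_map π)
    rw [mem_normalizer_iff]
    have h : (x : G) ∈ normalizer (Y : Set G) := (hNL.le (show (x : G) ∈ NL from hx)).2
    exact fun z => mem_normalizer_iff.1 h (z : G)
  have hmax : ∀ Z : Subgroup (↥L ⧸ Cfsg.pCore p ↥L), Yb ≤ Z → Z ≠ ⊤ → Z ≤ (NL.subgroupOf L).map π := by
    intro Z hYZ hZ
    have hlt : (Z.comap π).map L.subtype < L := lt_of_le_of_ne (map_subtype_le _) fun h => hZ (by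
      apply comap_injective hπs
      rw [comap_top]
      apply map_injective L.subtype_injective
      rw [h, ← MonoidHom.range_eq_map, range_subtype])
    have hle : Y ≤ (Z.comap π).map L.subtype := fun y hy =>
      ⟨⟨y, hYL hy⟩, hYZ (mem_map_of_mem π (show (⟨y, hYL hy⟩ : ↥L) ∈ Y.subgroupOf L from hy)), rfl⟩
    intro z hz
    obtain ⟨x, rfl⟩ := hπs z
    exact mem_map_of_mem π (mem_subgroupOf.2
      (hNL.ge (hmaxY _ hle hlt (mem_map_of_mem L.subtype (show x ∈ Z.comap π from hz)))))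
  -- in every case `Ȳ` is unique
  have hq1 : 1 < (Y ⊓ A).relIndex Y → Yb ≠ ⊥ := fun h hb => by
    rw [hb, card_bot] at hcard
    omega
  have key : CharP.FrakLQuot.UniqueEA p Yb ∧ Yb ≠ ⊥ ∧
      normalizer (Yb : Set (↥L ⧸ Cfsg.pCore p ↥L)) ≠ ⊤ := by
    have hne : Yb ≠ ⊥ → normalizer (Yb : Set (↥L ⧸ Cfsg.pCore p ↥L)) ≠ ⊤ := by
      intro hb htop
      haveI : Yb.Normal := normalizer_eq_top_iff.1 htop
      rw [normalClosure_eq_self] at hncl'
      have hp : IsPGroup p (↥L ⧸ Cfsg.pCore p ↥L) := fun z => by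
        obtain ⟨k, hk⟩ := CharP.isPGroup_of_isElementaryAbelian hYbe ⟨z, hncl' ▸ mem_top z⟩
        exact ⟨k, congrArg Subtype.val hk⟩
      have h0 := Cfsg.Agent.Cores.pCore_quotient_self (G := ↥L) p
      exact hb (le_bot_iff.1 (((CharP.le_pCore inferInstance
        (CharP.isPGroup_of_isElementaryAbelian hYbe)) : Yb ≤ Cfsg.pCore p _).trans h0.le))
    have h0 := Cfsg.Agent.Cores.pCore_quotient_self (G := ↥L) p
    have htwo : p = 2 → Nat.card Yb = 2 → CharP.FrakLQuot.UniqueEA p Yb ∧ Yb ≠ ⊥ ∧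
        normalizer (Yb : Set (↥L ⧸ Cfsg.pCore p ↥L)) ≠ ⊤ := by
      intro hp2 hc
      subst hp2
      have hb : Yb ≠ ⊥ := fun h => by rw [h, card_bot] at hc; omega
      exact ⟨CharP.FrakLQuot.uniqueEA_two hc (fun Z h1 h2 => (hmax Z h1 h2).trans himN) h0, hb, hne hb⟩
    rcases hcases with ⟨F, _, _, hF, ⟨e⟩⟩ | ⟨hp2, F, _, _, m, hFc, hF, ⟨e⟩⟩ | ⟨hp2, r, hr, hr2, ⟨e⟩⟩
    · have hc : Nat.card Yb = Fintype.card F := hcard.trans hF.symm
      have h1 : 1 < Fintype.card F := Fintype.one_lt_card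
      have hpd : p ∣ Fintype.card F := by
        obtain ⟨k, hk⟩ := IsPGroup.iff_card.1 (CharP.isPGroup_of_isElementaryAbelian hYbe)
        rw [← hc, hk]
        rw [← hc, hk] at h1
        exact dvd_pow_self p (fun h => by rw [h, pow_zero] at h1; omega)
      haveI : CharP F p := by
        obtain ⟨n, hp', hn⟩ := FiniteField.card F (ringChar F)
        have heq : p = ringChar F := (Nat.prime_dvd_prime_iff_eq Fact.out hp').1
          ((Fact.out : p.Prime).dvd_of_dvd_pow (hn ▸ hpd))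
        rw [heq]; infer_instance
      have hb : Yb ≠ ⊥ := hq1 (by rw [← hF]; exact h1)
      refine ⟨?_, hb, hne hb⟩
      have h2 := CharP.FrakLQuot.uniqueEA_SL2 (F := F) (p := p) (Y := Yb.map e.toMonoidHom)
        (CharP.isPGroup_of_isElementaryAbelian (CharP.FrakLQuot.isEA_map _ hYbe))
        ((card_map_of_injective e.injective).trans hc)
      intro V hV hVn hVe hV1
      refine map_injective e.injective (h2 (V.map e.toMonoidHom) ?_ ?_ (CharP.FrakLQuot.isEA_map _ hVe)
        ((map_eq_bot_iff_of_injective _ (f := e.toMonoidHom) e.injective).not.2 hV1))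
      · rw [← map_equiv_normalizer_eq]; exact map_mono hV
      · rw [← map_equiv_normalizer_eq, ← map_equiv_normalizer_eq]; exact map_mono hVn
    · subst hp2
      have hc : Nat.card Yb = Fintype.card F := hcard.trans hF.symm
      rcases Nat.eq_zero_or_pos m with rfl | hm
      · exact htwo rfl (by rw [hc, hFc]; norm_num)
      haveI : CharP F 2 := by
        obtain ⟨n, hp', hn⟩ := FiniteField.card F (ringChar F)
        have heq : 2 = ringChar F := (Nat.prime_dvd_prime_iff_eq Nat.prime_two hp').1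
          (Nat.prime_two.dvd_of_dvd_pow (hn ▸ hFc ▸ dvd_pow_self 2 (by omega)))
        rw [heq]; infer_instance
      obtain ⟨e0⟩ := Cfsg.Agent.Suzuki.lieEquiv hm hFc
      let e1 := e.trans e0.symm
      have hb : Yb ≠ ⊥ := hq1 (by
        rw [← hF, hFc]
        exact Nat.one_lt_two_pow (by omega))
      refine ⟨?_, hb, hne hb⟩
      have h2 := CharP.FrakLQuot.uniqueEA_Sz hm hFc (Y := Yb.map e1.toMonoidHom)
        (CharP.FrakLQuot.isEA_map _ hYbe)
        ((card_map_of_injective e1.injective).trans hc)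
      intro V hV hVn hVe hV1
      refine map_injective e1.injective (h2 (V.map e1.toMonoidHom) ?_ ?_
        (CharP.FrakLQuot.isEA_map _ hVe)
        ((map_eq_bot_iff_of_injective _ (f := e1.toMonoidHom) e1.injective).not.2 hV1))
      · rw [← map_equiv_normalizer_eq]; exact map_mono hV
      · rw [← map_equiv_normalizer_eq, ← map_equiv_normalizer_eq]; exact map_mono hVn
    · subst hp2
      refine htwo rfl ?_
      obtain ⟨k, hk⟩ := IsPGroup.iff_card.1 (CharP.isPGroup_of_isElementaryAbelian hYbe)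
      have hd : 2 ^ k ∣ 2 * r := by
        rw [← hk, ← DihedralGroup.nat_card (n := r), ← Nat.card_congr e.toEquiv]
        exact card_subgroup_dvd_card Yb
      rcases k with _ | _ | k
      · exfalso
        rw [pow_zero, card_eq_one] at hk
        rw [hk, normalClosure_eq_self] at hncl'
        have h3 := Nat.card_congr e.toEquiv
        have h4 : Nat.card (↥L ⧸ Cfsg.pCore 2 ↥L) = 1 := by
          rw [← Subgroup.card_top, ← hncl', card_bot]
        rw [h4, DihedralGroup.nat_card] at h3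
        omega
      · rw [hk]; norm_num
      · exfalso
        rw [pow_succ'] at hd
        have h2 := (Nat.dvd_of_mul_dvd_mul_left (by norm_num) hd)
        exact hr2 ((Nat.prime_dvd_prime_iff_eq Nat.prime_two hr).1
          ((dvd_pow_self 2 k.succ_ne_zero).trans h2)).symm
  obtain ⟨huniq, hbne, hN⟩ := key
  have hNeq : normalizer (Yb : Set (↥L ⧸ Cfsg.pCore p ↥L)) = (NL.subgroupOf L).map π :=
    le_antisymm (hmax _ le_normalizer hN) himN
  have hψtop : (⊤ : Subgroup (↥NL ⧸ A.subgroupOf NL)).map ψ =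
      normalizer (Yb : Set (↥L ⧸ Cfsg.pCore p ↥L)) := by
    rw [hNeq, ← MonoidHom.range_eq_map]
    ext z
    constructor
    · rintro ⟨q, rfl⟩
      obtain ⟨x, rfl⟩ := QuotientGroup.mk'_surjective _ q
      exact ⟨Subgroup.inclusion hNLL x, x.2, rfl⟩
    · rintro ⟨x, hx, rfl⟩
      exact ⟨QuotientGroup.mk (⟨(x : G), hx⟩ : ↥NL), rfl⟩
  have hYeN : Cfsg.IsElementaryAbelian p (Y.subgroupOf NL) :=
    ⟨⟨⟨fun a b => Subtype.ext (Subtype.ext (by
      have h := congrArg Subtype.val (hYe.1.is_comm.comm ⟨_, a.2⟩ ⟨_, b.2⟩)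
      simpa using h))⟩⟩,
      fun a ha => Subtype.ext (hYe.2 _ ha)⟩
  refine ⟨fun h => hbne (by rw [← hψY, h, Subgroup.map_bot]), ?_,
    CharP.FrakLQuot.isEA_map _ hYeN, fun V hVn hVe hV1 => ?_⟩
  · refine Subgroup.Normal.map ?_ _ (QuotientGroup.mk'_surjective _)
    exact (normal_subgroupOf_iff_le_normalizer hYNL).2 (hNL.le.trans inf_le_right)
  · refine map_injective hψ (hψY.symm ▸ huniq (V.map ψ) ?_ ?_ (CharP.FrakLQuot.isEA_map ψ hVe)
      ((map_eq_bot_iff_of_injective _ hψ).not.2 hV1))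
    · rw [← hψtop]; exact map_mono le_top
    · rw [← hψtop]
      refine (map_mono ?_).trans (le_normalizer_map ψ)
      haveI := hVn
      exact (normalizer_eq_top (H := V)).ge

end Cfsg.Agent.S2861
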