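import Cfsg.Statements.S2863
import Cfsg.Agent.Lib.CharP.FrakLModule
import Cfsg.Agent.Lib.CharP.AmalgamVIter
import Cfsg.Agent.Lib.CharP.PReduced
import Cfsg.Agent.Lib.Cores.Basic

set_option linter.style.haveILetI false

set_option autoImplicit false
open Cfsg

namespace Cfsg.Agent.S2863

open Subgroup
open scoped commutatorElement

local notation:70 A:70 " ⊛ " g:71 => Subgroup.map (MulEquiv.toMonoidHom (MulAut.conj g)) A

/-- Standing hypotheses: G a finite group, S a Sylow p-subgroup, Q a nontrivial large p-subgroup of G contained in S, M a subgroup containing S with the basic property (M ∈ 𝔐_G(S)); Y_M the largest p-reduced normal subgroup of M and M† = M·C_G(Y_M). Let L ∈ 𝔏_G(Y_M) (L ∈ 𝔏_G(Y_M): Y_M ≤ L; O_p(L) is the normal closure in L of Y_M ∩ O_p(L) and normalizes Y_M; L is Y_M-minimal of characteristic p with N_L(Y_M) its unique maximal subgroup over Y_M; and L/O_p(L) ≅ SL₂(q) with q = |Y_M : Y_M ∩ O_p(L)|, or p = 2 and L/O_p(L) is a Suzuki group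 Sz(q) or dihedral of order 2r, r an odd prime), A = O_p(L), and C = C_{Y_M}(L). Then every element h of L whose order is not a power of p acts without nontrivial fixed points on A/C: for a ∈ A, hah⁻¹a⁻¹ ∈ C implies a ∈ C. -/
theorem result {G : Type*} [Group G] [Finite G] {p : ℕ} [Fact p.Prime] (S : Sylow p G) (Q : Subgroup G) (hQp : IsPGroup p ↥Q) (hQ1 : Q ≠ ⊥) (hQS : Q ≤ (S : Subgroup G)) (hQ : Cfsg.IsLarge Q) (M : Subgroup G) (hSM : (S : Subgroup G) ≤ M) (hM : Cfsg.IsInFrakM p M) (L : Subgroup G) (hL : Cfsg.IsInFrakL p M L) (h : G) (hh : h ∈ L) (hnp : ¬ ∃ k : ℕ, orderOf h = p ^ k) : ∀ a ∈ (Cfsg.pCoreOf p L), h * a * h⁻¹ * a⁻¹ ∈ (Cfsg.largestPReducedOf p M) ⊓ Subgroup.centralizer ((L : Subgroup G) : Set G) → a ∈ (Cfsg.largestPReducedOf p M) ⊓ Subgroup.centralizer ((L : Subgroup G) : Set G) := by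
  obtain ⟨hYL, hAgen, hAY, ⟨hncl, -⟩, -, ⟨hNlt, hmaxY⟩, hcases⟩ := hL
  set Y := Cfsg.largestPReducedOf p M with hY
  set A := Cfsg.pCoreOf p L with hA
  set C := Y ⊓ centralizer (L : Set G) with hC
  set D := Y ⊓ A with hD
  set NL := L ⊓ normalizer (Y : Set G) with hNL
  have hYe : Cfsg.IsElementaryAbelian p Y := CharP.isElementaryAbelian_largestPReducedOf p M
  have hYp : IsPGroup p ↥Y := CharP.isPGroup_of_isElementaryAbelian hYe
  have hYcomm : Y ≤ centralizer (Y : Set G) := fun y hy => mem_centralizer_iff.2 fun z hz =>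
    congrArg Subtype.val (hYe.1.is_comm.comm ⟨z, hz⟩ ⟨y, hy⟩)
  have hAp : IsPGroup p ↥A := CharP.isPGroup_pCoreOf p L
  have hAL : A ≤ L := CharP.pCoreOf_le p L
  have hLA : L ≤ normalizer (A : Set G) := CharP.le_normalizer_pCoreOf p L
  -- generation
  have hgen : ∀ g ∈ L, g ∉ normalizer (Y : Set G) → Y ⊔ Y ⊛ g = L := by
    intro g hg hgn
    have hgL : g ∈ normalizer (L : Set G) := le_normalizer hg
    have hle : Y ⊔ Y ⊛ g ≤ L := sup_le hYL ((map_mono hYL).trans (CharP.conj_map_of_mem hgL).le)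
    by_contra hne
    have h1 : Y ⊛ g ≤ NL := le_sup_right.trans (hmaxY _ le_sup_left (lt_of_le_of_ne hle hne))
    have hgi : g⁻¹ ∈ normalizer (L : Set G) := inv_mem hgL
    have h2 : Y ≤ NL ⊛ g⁻¹ := by
      refine le_trans (le_of_eq ?_) (map_mono h1)
      rw [CharP.conj_map_map, inv_mul_cancel, CharP.conj_map_one]
    have h3 : NL ⊛ g⁻¹ < L := lt_of_le_of_ne ((map_mono hNlt.le).trans (CharP.conj_map_of_mem hgi).le)
      fun he => hNlt.ne (map_injective (MulAut.conj g⁻¹).injective (he.trans (CharP.conj_map_of_mem hgi).symm))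
    have h4 : g⁻¹ ∈ L ⊓ normalizer (NL : Set G) := ⟨L.inv_mem hg, CharP.mem_normalizer_of_conj_map
      (eq_of_le_of_card_ge (hmaxY _ h2 h3) (card_map_of_injective (MulAut.conj g⁻¹).injective).ge)⟩
    have h5 : L ⊓ normalizer (NL : Set G) < L := by
      refine lt_of_le_of_ne inf_le_left fun he => hNlt.not_ge ?_
      haveI hn : (NL.subgroupOf L).Normal :=
        (normal_subgroupOf_iff_le_normalizer inf_le_left).2 (inf_eq_left.1 he)
      have h6 : Y.subgroupOf L ≤ NL.subgroupOf L := comap_mono (le_inf hYL le_normalizer)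
      have h7 := (normalClosure_le_normal h6)
      rw [hncl] at h7
      exact subgroupOf_eq_top.1 (top_le_iff.1 h7)
    exact hgn (inv_mem_iff.1 ((hmaxY _ (le_inf hYL ((le_inf hYL le_normalizer).trans le_normalizer)) h5) h4).2)
  obtain ⟨g₀, hg₀, hg₀'⟩ := SetLike.exists_of_lt hNlt
  have hg₀n : g₀ ∉ normalizer (Y : Set G) := fun h => hg₀' ⟨hg₀, h⟩
  have hAYg : ∀ g ∈ L, A ≤ normalizer ((Y ⊛ g : Subgroup G) : Set G) := by
    intro g hg
    have h1 := CharP.map_conj_le_normalizer g hAY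
    rwa [CharP.conj_map_of_mem (hLA hg)] at h1
  have hDn : A ≤ normalizer (D : Set G) :=
    (le_inf hAY le_normalizer).trans inf_normalizer_le_normalizer_inf
  have hDg : ∀ g ∈ L, D ⊛ g = Y ⊛ g ⊓ A := fun g hg => by
    rw [hD, Subgroup.map_inf _ _ _ (MulAut.conj g).injective, CharP.conj_map_of_mem (hLA hg)]
  have hmoveg : ∀ g ∈ L, ⁅A, Y ⊛ g⁆ ≤ D ⊛ g := fun g hg => by
    rw [hDg g hg]
    refine le_inf (le_normalizer_iff_commutator_le_right.1 (hAYg g hg)) ?_
    exact CharP.commutator_le_left_iff.2 (((map_mono hYL).trans (CharP.conj_map_of_mem (le_normalizer hg)).le).trans hLA)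
  have hCA : C ≤ A := by
    refine CharP.le_pCoreOf (inf_le_left.trans hYL) ?_ (hYp.to_le inf_le_left)
    exact (le_centralizer_iff.1 inf_le_right).trans (centralizer_le_normalizer _)
  have hCD : C ≤ D := le_inf inf_le_left hCA
  have hLC : L ≤ centralizer (C : Set G) := le_centralizer_iff.1 inf_le_right
  have hmove : ⁅A, Y⁆ ≤ D := by
    have h := hmoveg 1 L.one_mem
    rwa [CharP.conj_map_one, CharP.conj_map_one] at h
  have hsup : ∀ g ∈ L, g ∉ normalizer (Y : Set G) → D ⊔ D ⊛ g = A := by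
    intro g hg hgn
    have hDgA : D ⊛ g ≤ A := (hDg g hg).le.trans inf_le_right
    have hDgn : A ≤ normalizer ((D ⊛ g : Subgroup G) : Set G) := by
      rw [hDg g hg]
      exact (le_inf (hAYg g hg) le_normalizer).trans inf_normalizer_le_normalizer_inf
    set E := D ⊔ D ⊛ g with hE
    have hEA : E ≤ A := sup_le inf_le_right hDgA
    have h1 : Y ≤ normalizer (E : Set G) := le_normalizer_iff_commutator_le_left.2
      ((commutator_mono hEA le_rfl).trans (hmove.trans le_sup_left))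
    have h2 : Y ⊛ g ≤ normalizer (E : Set G) := le_normalizer_iff_commutator_le_left.2
      ((commutator_mono hEA le_rfl).trans ((hmoveg g hg).trans le_sup_right))
    have hLE : L ≤ normalizer (E : Set G) := (hgen g hg hgn).ge.trans (sup_le h1 h2)
    refine le_antisymm hEA ?_
    rw [hAgen, map_le_iff_le_comap]
    haveI hEn : (E.subgroupOf L).Normal :=
      (normal_subgroupOf_iff_le_normalizer (hEA.trans hAL)).2 hLE
    show _ ≤ E.subgroupOf L
    exact normalClosure_le_normal fun x hx => (le_sup_left : D ≤ E) hx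
  have hinter : ∀ g ∈ L, g ∉ normalizer (Y : Set G) → D ⊓ D ⊛ g ≤ C := by
    intro g hg hgn z hz
    refine ⟨hz.1.1, ?_⟩
    have h1 : z ∈ centralizer ((Y ⊛ g : Subgroup G) : Set G) := by
      obtain ⟨d, hd, rfl⟩ := hz.2
      refine mem_centralizer_iff.2 ?_
      rintro _ ⟨y, hy, rfl⟩
      rw [← map_mul, ← map_mul, mem_centralizer_iff.1 (hYcomm (mem_inf.1 hd).1) y hy]
    have hle : Y ⊔ Y ⊛ g ≤ centralizer ({z} : Set G) := by
      refine sup_le (fun y hy => ?_) (fun y hy => ?_) <;> rw [mem_centralizer_singleton_iff]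
      · exact mem_centralizer_iff.1 (hYcomm hz.1.1) y hy
      · exact mem_centralizer_iff.1 h1 y hy
    rw [hgen g hg hgn] at hle
    exact mem_centralizer_iff.2 fun x hx => mem_centralizer_singleton_iff.1 (hle hx)
  have hCn : A ≤ normalizer (C : Set G) :=
    (hAL.trans hLC).trans (centralizer_le_normalizer _)
  have hAA : ⁅A, A⁆ ≤ C := by
    have hDD : ∀ E : Subgroup G, E ≤ Y → ⁅E, E⁆ ≤ C := fun E hE => by
      rw [show ⁅E, E⁆ = ⊥ from commutator_eq_bot_iff_le_centralizer.2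
        (hE.trans (hYcomm.trans (centralizer_le hE)))]
      exact bot_le
    set Dg := D ⊛ g₀ with hDg₀
    have hDgn : A ≤ normalizer (Dg : Set G) := by
      rw [hDg₀, hDg g₀ hg₀]
      exact (le_inf (hAYg g₀ hg₀) le_normalizer).trans inf_normalizer_le_normalizer_inf
    have hDgA : Dg ≤ A := (hDg g₀ hg₀).le.trans inf_le_right
    have hx : ⁅D, Dg⁆ ≤ C := le_trans (le_inf
      (CharP.commutator_le_left_iff.2 (hDgA.trans hDn))
      (le_normalizer_iff_commutator_le_right.1 ((inf_le_right : D ≤ A).trans hDgn))) (hinter g₀ hg₀ hg₀n)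
    have hgg : ⁅Dg, Dg⁆ ≤ C := by
      rw [hDg₀, ← Subgroup.map_commutator, show ⁅D, D⁆ = ⊥ from commutator_eq_bot_iff_le_centralizer.2
        ((inf_le_left : D ≤ Y).trans (hYcomm.trans (centralizer_le inf_le_left))), Subgroup.map_bot]
      exact bot_le
    have hD' := (inf_le_right : D ≤ A).trans hCn
    have hG' := hDgA.trans hCn
    rw [← hsup g₀ hg₀ hg₀n]
    refine CharP.AmalgamVIter.commutator_sup_le hD' hG' ?_ ?_
    · rw [Subgroup.commutator_comm]
      refine CharP.AmalgamVIter.commutator_sup_le hD' hG' (hDD D inf_le_left) ?_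
      rw [Subgroup.commutator_comm]; exact hx
    · rw [Subgroup.commutator_comm]
      exact CharP.AmalgamVIter.commutator_sup_le hD' hG' hx hgg
  -- the module
  intro a ha hca
  haveI : (C.subgroupOf A).Normal := (normal_subgroupOf_iff_le_normalizer hCA).2 hCn
  letI : CommGroup (↥A ⧸ C.subgroupOf A) :=
    { QuotientGroup.Quotient.group (C.subgroupOf A) with
      mul_comm := fun u v => by
        obtain ⟨u, rfl⟩ := QuotientGroup.mk'_surjective _ u
        obtain ⟨v, rfl⟩ := QuotientGroup.mk'_surjective _ v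
        rw [← commutatorElement_eq_one_iff_mul_comm, ← map_commutatorElement]
        exact (QuotientGroup.eq_one_iff _).2 (hAA (commutator_mem_commutator u.2 v.2)) }
  haveI : (Cfsg.pCore p ↥L).Normal := Cfsg.Agent.Cores.pCore_normal p
  set π := QuotientGroup.mk' (Cfsg.pCore p ↥L) with hπ
  have hπs : Function.Surjective π := QuotientGroup.mk'_surjective _
  have hker : ∀ x : ↥L, π x = 1 ↔ (x : G) ∈ A := fun x => by
    rw [hπ, QuotientGroup.mk'_apply, QuotientGroup.eq_one_iff]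
    exact ⟨fun h => ⟨x, h, rfl⟩, fun ⟨z, hz, hzx⟩ => (Subtype.ext hzx : z = x) ▸ hz⟩
  let q := QuotientGroup.mk' (C.subgroupOf A)
  have hq : ∀ u v : ↥A, (u : G)⁻¹ * v ∈ C → q u = q v := fun u v huv =>
    QuotientGroup.eq.2 (mem_subgroupOf.2 huv)
  let cA : ↥L → (↥A →* ↥A) := fun l =>
    { toFun := fun u => ⟨(l : G) * u * (l : G)⁻¹, (mem_normalizer_iff.1 (hLA l.2) _).1 u.2⟩
      map_one' := Subtype.ext (by simp)
      map_mul' := fun u v => Subtype.ext (by simp [mul_assoc]) }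
  let act0 : ↥L → (↥A ⧸ C.subgroupOf A →* ↥A ⧸ C.subgroupOf A) := fun l =>
    QuotientGroup.map (C.subgroupOf A) (C.subgroupOf A) (cA l) fun u hu => (by
      show (l : G) * u * (l : G)⁻¹ ∈ C
      rw [← mem_centralizer_iff.1 (hLC l.2) _ (show (u : G) ∈ C from hu), mul_inv_cancel_right]
      exact hu)
  have act0_mk : ∀ (l : ↥L) (u : ↥A), act0 l (q u) = q (cA l u) := fun l u => rfl
  have act0_eq : ∀ l l' : ↥L, π l = π l' → act0 l = act0 l' := by
    intro l l' hll
    ext u
    show q (cA l u) = q (cA l' u)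
    have hm : (l : G)⁻¹ * l' ∈ A := (hker (l⁻¹ * l')).1 (by rw [map_mul, map_inv, hll, inv_mul_cancel])
    refine hq _ _ ?_
    have e : ((cA l u : ↥A) : G)⁻¹ * (cA l' u : G) =
        (l : G) * ⁅(u : G)⁻¹, (l : G)⁻¹ * l'⁆ * (l : G)⁻¹ := by
      simp [cA, commutatorElement_def, mul_assoc]
    rw [e]
    exact (mem_normalizer_iff.1 ((hLC.trans (centralizer_le_normalizer _)) l.2) _).1
      (hAA (commutator_mem_commutator (A.inv_mem u.2) hm))
  let σ := Function.surjInv hπs
  have hσ : ∀ l, act0 (σ (π l)) = act0 l := fun l => act0_eq _ _ (Function.surjInv_eq hπs _)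
  letI : DistribMulAction (↥L ⧸ Cfsg.pCore p ↥L) (Additive (↥A ⧸ C.subgroupOf A)) :=
    { smul := fun x m => Additive.ofMul (act0 (σ x) m.toMul)
      one_smul := fun m => by
        show Additive.ofMul (act0 (σ (π 1)) m.toMul) = m
        rw [hσ]
        obtain ⟨u, hu⟩ := QuotientGroup.mk'_surjective _ m.toMul
        rw [← hu, act0_mk, show cA 1 u = u from Subtype.ext (by simp [cA]), hu, ofMul_toMul]
      mul_smul := fun x y m => by
        obtain ⟨x, rfl⟩ := hπs x
        obtain ⟨y, rfl⟩ := hπs y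
        show Additive.ofMul (act0 (σ (π x * π y)) m.toMul) =
          Additive.ofMul (act0 (σ (π x)) (act0 (σ (π y)) m.toMul))
        rw [← map_mul, hσ, hσ, hσ]
        obtain ⟨u, hu⟩ := QuotientGroup.mk'_surjective _ m.toMul
        rw [← hu, act0_mk, act0_mk, act0_mk]
        congr 2
        exact Subtype.ext (by simp [cA, mul_assoc])
      smul_zero := fun x => congrArg Additive.ofMul (map_one (act0 (σ x)))
      smul_add := fun x m n => congrArg Additive.ofMul (map_mul (act0 (σ x)) m.toMul n.toMul) }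
  have hsmul : ∀ (l : ↥L) (u : ↥A), π l • Additive.ofMul (q u) = Additive.ofMul (q (cA l u)) :=
    fun l u => by
      show Additive.ofMul (act0 (σ (π l)) (q u)) = _
      rw [hσ, act0_mk]
  set Yb := (Y.subgroupOf L).map π with hYb
  set Db : AddSubgroup (Additive (↥A ⧸ C.subgroupOf A)) :=
    Subgroup.toAddSubgroup ((D.subgroupOf A).map q) with hDb
  have hDbmem : ∀ u : ↥A, (u : G) ∈ D → Additive.ofMul (q u) ∈ Db := fun u hu => ⟨u, hu, rfl⟩
  have hYbe : Cfsg.IsElementaryAbelian p Yb := CharP.FrakLQuot.isEA_map π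
    ⟨⟨⟨fun u v => Subtype.ext (Subtype.ext (by
      have h := congrArg Subtype.val (hYe.1.is_comm.comm ⟨_, u.2⟩ ⟨_, v.2⟩)
      simpa using h))⟩⟩, fun u hu => Subtype.ext (hYe.2 _ hu)⟩
  have hcard : Nat.card Yb = (Y ⊓ A).relIndex Y := by
    let f : ↥Y →* ↥L ⧸ Cfsg.pCore p ↥L := π.comp (Subgroup.inclusion hYL)
    have hf : f.range = Yb := by
      ext z
      constructor
      · rintro ⟨y, rfl⟩; exact ⟨Subgroup.inclusion hYL y, y.2, rfl⟩
      · rintro ⟨y, hy, rfl⟩; exact ⟨⟨(y : G), hy⟩, rfl⟩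
    have hk : f.ker = A.subgroupOf Y := by
      ext y; rw [MonoidHom.mem_ker, mem_subgroupOf]; exact hker (Subgroup.inclusion hYL y)
    rw [← hf, ← Subgroup.index_ker, hk, inf_relIndex_left]
    rfl
  have hmax : ∀ Z : Subgroup (↥L ⧸ Cfsg.pCore p ↥L), Yb ≤ Z → Z ≠ ⊤ → Z ≤ (NL.subgroupOf L).map π := by
    intro Z hYZ hZ
    have hlt : (Z.comap π).map L.subtype < L := lt_of_le_of_ne (map_subtype_le _) fun h => hZ (by
      apply comap_injective hπs
      rw [comap_top]
      apply map_injective L.subtype_injective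
      rw [h, ← MonoidHom.range_eq_map, range_subtype])
    have hle : Y ≤ (Z.comap π).map L.subtype := fun y hy =>
      ⟨⟨y, hYL hy⟩, hYZ (mem_map_of_mem π (show (⟨y, hYL hy⟩ : ↥L) ∈ Y.subgroupOf L from hy)), rfl⟩
    intro z hz
    obtain ⟨x, rfl⟩ := hπs z
    exact mem_map_of_mem π (mem_subgroupOf.2
      (hmaxY _ hle hlt (mem_map_of_mem L.subtype (show x ∈ Z.comap π from hz))))
  have himN : (NL.subgroupOf L).map π ≤ normalizer (Yb : Set (↥L ⧸ Cfsg.pCore p ↥L)) := by
    refine (map_mono (fun x hx => ?_)).trans (le_normalizer_map π)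
    rw [mem_normalizer_iff]
    have h : (x : G) ∈ normalizer (Y : Set G) := (show (x : G) ∈ NL from hx).2
    exact fun z => mem_normalizer_iff.1 h (z : G)
  have hnot : ∀ l : ↥L, π l ∉ normalizer (Yb : Set (↥L ⧸ Cfsg.pCore p ↥L)) →
      (l : G) ∉ normalizer (Y : Set G) := fun l hl h =>
    hl (himN (mem_map_of_mem π (show l ∈ NL.subgroupOf L from mem_subgroupOf.2 ⟨l.2, h⟩)))
  have hproper : normalizer (Yb : Set (↥L ⧸ Cfsg.pCore p ↥L)) ≠ ⊤ := by
    intro htop
    haveI : Yb.Normal := normalizer_eq_top_iff.1 htop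
    have hle := (CharP.le_pCore inferInstance (CharP.isPGroup_of_isElementaryAbelian hYbe) :
      Yb ≤ Cfsg.pCore p _)
    rw [Cfsg.Agent.Cores.pCore_quotient_self] at hle
    have hYA : Y.subgroupOf L ≤ Cfsg.pCore p ↥L := fun x hx => by
      obtain ⟨z, hz, hzx⟩ := (hker x).1 ((eq_bot_iff_forall _).1 (le_bot_iff.1 hle) _ (mem_map_of_mem π hx))
      exact (Subtype.ext hzx : z = x) ▸ hz
    have h1 := normalClosure_le_normal hYA
    rw [hncl] at h1
    refine hg₀n (hAY ⟨⟨g₀, hg₀⟩, h1 (mem_top _), rfl⟩)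
  have c : CharP.FrakLMod.Spread Yb Db := by
    refine ⟨?_, ?_, ?_, ?_, ?_, hproper⟩
    · rintro _ ⟨y, hy, rfl⟩ d ⟨u, hu, hd⟩
      rw [show d = Additive.ofMul (q u) from (congrArg Additive.ofMul hd).symm, hsmul]
      refine congrArg (fun z => Additive.ofMul (q z)) (Subtype.ext ?_)
      show (y : G) * u * (y : G)⁻¹ = u
      rw [← mem_centralizer_iff.1 (hYcomm (show (y : G) ∈ Y from hy)) _ (show (u : G) ∈ D from hu).1,
        mul_inv_cancel_right]
    · rintro _ ⟨y, hy, rfl⟩ m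
      obtain ⟨u, hu⟩ := QuotientGroup.mk'_surjective _ m.toMul
      rw [show m = Additive.ofMul (q u) from (congrArg Additive.ofMul hu).symm, hsmul, ← ofMul_div,
        ← map_div]
      refine hDbmem _ ?_
      show (y : G) * u * (y : G)⁻¹ / u ∈ D
      rw [div_eq_mul_inv]
      exact (Subgroup.commutator_comm A Y ▸ hmove) (commutator_mem_commutator hy u.2)
    · intro x hx d hd h2
      obtain ⟨l, rfl⟩ := hπs x
      obtain ⟨u, hu, hdu⟩ := hd
      rw [show d = Additive.ofMul (q u) from (congrArg Additive.ofMul hdu).symm] at h2 ⊢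
      rw [hsmul] at h2
      obtain ⟨v, hv, hve⟩ := h2
      have h3 : (v : G)⁻¹ * (cA l u : G) ∈ C := mem_subgroupOf.1 (QuotientGroup.eq.1 hve)
      have h4 : (cA l u : G) ∈ D := by
        have := mul_mem (show (v : G) ∈ D from hv) (hCD h3)
        rwa [mul_inv_cancel_left] at this
      have h5 : (cA l u : G) ∈ C := hinter _ l.2 (hnot l hx) ⟨h4, ⟨u, hu, rfl⟩⟩
      have h6 : (u : G) ∈ C := by
        have hn := (mem_normalizer_iff.1 ((hLC.trans (centralizer_le_normalizer _)) l.2) (u : G)).2 h5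
        exact hn
      exact congrArg Additive.ofMul ((QuotientGroup.eq_one_iff u).2 h6)
    · intro x hx m
      obtain ⟨l, rfl⟩ := hπs x
      obtain ⟨u, hu⟩ := QuotientGroup.mk'_surjective _ m.toMul
      have hu' : (u : G) ∈ D ⊔ D ⊛ (l : G) := by rw [hsup _ l.2 (hnot l hx)]; exact u.2
      rw [← SetLike.mem_coe, coe_mul_of_left_le_normalizer_right _ _ (by
        rw [hDg _ l.2]
        exact (inf_le_right : D ≤ A).trans ((le_inf (hAYg _ l.2) le_normalizer).trans
          inf_normalizer_le_normalizer_inf))] at hu'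
      obtain ⟨d, hd, _, ⟨e, he, rfl⟩, hde⟩ := hu'
      refine ⟨_, hDbmem ⟨d, (mem_inf.1 hd).2⟩ hd, _, hDbmem ⟨e, (mem_inf.1 he).2⟩ he, ?_⟩
      rw [show m = Additive.ofMul (q u) from (congrArg Additive.ofMul hu).symm, hsmul, ← ofMul_mul,
        ← map_mul]
      exact congrArg (fun z => Additive.ofMul (q z)) (Subtype.ext hde.symm)
    · intro x hx
      obtain ⟨l, rfl⟩ := hπs x
      have hl := hgen _ l.2 (hnot l hx)
      have e1 : Yb ⊛ π l = ((Y.subgroupOf L) ⊛ l).map π := by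
        rw [hYb, map_map, map_map]; congr 1
      have e2 : Y.subgroupOf L ⊔ (Y.subgroupOf L) ⊛ l = ⊤ := by
        apply map_injective L.subtype_injective
        rw [Subgroup.map_sup, ← MonoidHom.range_eq_map, range_subtype, subgroupOf_map_subtype,
          inf_eq_left.2 hYL]
        have e3 : ((Y.subgroupOf L) ⊛ l).map L.subtype = Y ⊛ (l : G) := by
          ext z
          constructor
          · rintro ⟨_, ⟨w, hw, rfl⟩, rfl⟩; exact ⟨(w : G), hw, rfl⟩
          · rintro ⟨w, hw, rfl⟩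
            exact ⟨l * ⟨w, hYL hw⟩ * l⁻¹, ⟨⟨w, hYL hw⟩, hw, rfl⟩, rfl⟩
        rw [e3]; exact hl
      rw [hYb] at e1 ⊢
      rw [e1, ← Subgroup.map_sup, e2, map_top_of_surjective π hπs]
  -- the fixed point
  have haA : a ∈ A := ha
  by_contra haC
  set v := Additive.ofMul (q ⟨a, haA⟩) with hv
  have hv0 : v ≠ 0 := fun h0 => haC (mem_subgroupOf.1 ((QuotientGroup.eq_one_iff (⟨a, haA⟩ : ↥A)).1 h0))
  set hb := π ⟨h, hh⟩ with hhb
  have hfix : hb • v = v := by
    rw [hhb, hv, hsmul]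
    refine congrArg Additive.ofMul ?_
    refine hq _ _ ?_
    show (h * a * h⁻¹)⁻¹ * a ∈ C
    have h1 := (mem_normalizer_iff.1 (hCn (A.inv_mem haA)) _).1 (C.inv_mem hca)
    have h2 : (h * a * h⁻¹)⁻¹ ∈ L := inv_mem (mul_mem (mul_mem hh (hAL haA)) (inv_mem hh))
    have h3 := (mem_normalizer_iff.1 ((hLC.trans (centralizer_le_normalizer _)) h2) _).1
      (C.inv_mem hca)
    have e : (h * a * h⁻¹)⁻¹ * (h * a * h⁻¹ * a⁻¹)⁻¹ * (h * a * h⁻¹)⁻¹⁻¹ = (h * a * h⁻¹)⁻¹ * a := by
      simp [mul_assoc]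
    rwa [e] at h3
  have hpel : ∀ k : ℕ, hb ^ p ^ k ≠ 1 := fun k h0 => by
    have h1 : h ^ p ^ k ∈ A := (hker (⟨h, hh⟩ ^ p ^ k)).1 (by rw [map_pow]; exact h0)
    obtain ⟨j, hj⟩ := hAp ⟨_, h1⟩
    have h2 : h ^ p ^ (k + j) = 1 := by
      rw [pow_add, pow_mul]; exact congrArg Subtype.val hj
    obtain ⟨i, -, hi⟩ := (Nat.dvd_prime_pow Fact.out).1 (orderOf_dvd_of_pow_eq_one h2)
    exact hnp ⟨i, hi⟩
  have h0 := Cfsg.Agent.Cores.pCore_quotient_self (G := ↥L) p
  have hodd : p = 2 → (∀ x : ↥L ⧸ Cfsg.pCore p ↥L, x ≠ 1 → Odd (orderOf x) →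
      ∃ t g, g⁻¹ * t * g ∈ Yb ∧ t ≠ 1 ∧ t * x * t⁻¹ = x⁻¹) → False := by
    intro hp2 hreal
    subst hp2
    obtain ⟨k, hk⟩ := Cfsg.Agent.Transfer.NormalPComplement.exists_pow_coprime (p := 2)
      (orderOf_pos hb).ne'
    refine hv0 (c.two_element ?_ hYbe.2 h0 (fun Z h1 h2 => (hmax Z h1 h2).trans himN) hreal
      (hpel k) (Nat.coprime_two_right.1 hk) ?_)
    · rintro d ⟨u, hu, hd⟩
      rw [show d = Additive.ofMul (q u) from (congrArg Additive.ofMul hd).symm, ← ofMul_mul, ← map_mul]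
      refine congrArg Additive.ofMul ((QuotientGroup.eq_one_iff _).2 ?_)
      rw [mem_subgroupOf, Subgroup.coe_mul, ← sq, hYe.2 _ (show (u : G) ∈ D from hu).1]
      exact one_mem C
    · exact pow_mem (show hb ∈ MulAction.stabilizer _ v from hfix) _
  have htwo : p = 2 → Nat.card Yb = 2 → False := by
    intro hp2 hc
    refine hodd hp2 fun x hx1 hxo => ?_
    subst hp2
    obtain ⟨t, z, htY, ht, hzo, htz, hn, htop, -⟩ :=
      CharP.FrakLQuot.exists_inverting hc (fun Z h1 h2 => (hmax Z h1 h2).trans himN) h0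
    have ht1 : t ≠ 1 := fun e => by rw [e, orderOf_one] at ht; omega
    have htt : t * t = 1 := by rw [← sq]; exact orderOf_dvd_iff_pow_eq_one.1 (dvd_of_eq ht)
    refine ⟨t, 1, by simpa using htY, ht1, ?_⟩
    have hinvz : ∀ w ∈ zpowers z, t * w * t⁻¹ = w⁻¹ := by
      rintro _ ⟨i, rfl⟩
      show t * z ^ i * t⁻¹ = (z ^ i)⁻¹
      rw [← conj_zpow, htz, inv_zpow]
    have hx : x ∈ Yb ⊔ zpowers z := htop ▸ mem_top x
    rw [← SetLike.mem_coe, coe_mul_of_left_le_normalizer_right _ _ hn] at hx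
    obtain ⟨y, hy, w, hw, rfl⟩ := hx
    simp only at hx1 hxo ⊢
    have hy' : y = 1 ∨ y = t := by
      by_contra hne
      push Not at hne
      have hsub : ({1, t, y} : Set (↥L ⧸ Cfsg.pCore 2 ↥L)) ⊆ (Yb : Set (↥L ⧸ Cfsg.pCore 2 ↥L)) := by
        intro z hz
        rcases hz with rfl | rfl | rfl
        exacts [one_mem _, htY, hy]
      have h3 := Set.ncard_le_ncard hsub (Set.toFinite _)
      rw [Set.ncard_eq_three.2 ⟨1, t, y, Ne.symm ht1, Ne.symm hne.1, Ne.symm hne.2, rfl⟩,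
        ← Nat.card_coe_set_eq] at h3
      simp only [SetLike.coe_sort_coe] at h3
      omega
    rcases hy' with rfl | rfl
    · rw [one_mul]; exact hinvz w hw
    · exfalso
      have h1 : (y * w) * (y * w) = 1 := by
        calc (y * w) * (y * w) = (y * w * y⁻¹) * (y * y) * w := by simp [mul_assoc]
          _ = 1 := by rw [hinvz w hw, htt, mul_one, inv_mul_cancel]
      have h2 : orderOf (y * w) ∣ 2 := orderOf_dvd_of_pow_eq_one (by rw [sq, h1])
      exact hx1 (orderOf_eq_one_iff.1 (Nat.eq_one_of_dvd_coprimes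
        (Nat.coprime_two_right.2 hxo) dvd_rfl h2))
  rcases hcases with ⟨F, _, _, hF, ⟨e⟩⟩ | ⟨hp2, F, _, _, m, hFc, hF, ⟨e⟩⟩ | ⟨hp2, r, hr, hr2, ⟨e⟩⟩
  · have hc : Nat.card Yb = Fintype.card F := hcard.trans hF.symm
    haveI : CharP F p := by
      obtain ⟨k, hk⟩ := IsPGroup.iff_card.1 (CharP.isPGroup_of_isElementaryAbelian hYbe)
      have h1 : 1 < Fintype.card F := Fintype.one_lt_card
      rw [← hc, hk] at h1
      have hpd : p ∣ Fintype.card F := by
        rw [← hc, hk]; exact dvd_pow_self p (fun h => by rw [h, pow_zero] at h1; omega)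
      obtain ⟨n, hp', hn⟩ := FiniteField.card F (ringChar F)
      have heq : p = ringChar F := (Nat.prime_dvd_prime_iff_eq Fact.out hp').1
        ((Fact.out : p.Prime).dvd_of_dvd_pow (hn ▸ hpd))
      rw [heq]; infer_instance
    letI : DistribMulAction (Matrix.SpecialLinearGroup (Fin 2) F) (Additive (↥A ⧸ C.subgroupOf A)) :=
      DistribMulAction.compHom _ e.symm.toMonoidHom
    have he : ∀ (x : ↥L ⧸ Cfsg.pCore p ↥L) (w : Additive (↥A ⧸ C.subgroupOf A)), e x • w = x • w :=
      fun x w => by show e.symm (e x) • w = x • w; rw [e.symm_apply_apply]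
    have h1 := CharP.FrakLMod.SL2_pgroup (p := p) (c.map e he)
      (CharP.isPGroup_of_isElementaryAbelian (CharP.FrakLQuot.isEA_map e.toMonoidHom hYbe))
      ((card_map_of_injective e.injective).trans hc) (g := e hb) hv0 ((he hb v).trans hfix)
    rw [← map_pow, map_eq_one_iff e e.injective] at h1
    exact hpel 1 (by rwa [pow_one])
  · subst hp2
    have hc : Nat.card Yb = Fintype.card F := hcard.trans hF.symm
    rcases Nat.eq_zero_or_pos m with rfl | hm
    · exact htwo rfl (by rw [hc, hFc]; norm_num)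
    haveI : CharP F 2 := by
      obtain ⟨n, hp', hn⟩ := FiniteField.card F (ringChar F)
      have heq : 2 = ringChar F := (Nat.prime_dvd_prime_iff_eq Nat.prime_two hp').1
        (Nat.prime_two.dvd_of_dvd_pow (hn ▸ hFc ▸ dvd_pow_self 2 (by omega)))
      rw [heq]; infer_instance
    obtain ⟨e0⟩ := Cfsg.Agent.Suzuki.lieEquiv hm hFc
    let e1 := e.trans e0.symm
    refine hodd rfl fun x hx1 hxo => ?_
    obtain ⟨t, ht, htx⟩ := CharP.FrakLMod.sz_real hm hFc (x := e1 x)
      (fun h0' => hx1 (e1.injective (h0'.trans (map_one e1).symm))) (by rwa [MulEquiv.orderOf_eq])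
    obtain ⟨g, hg⟩ := CharP.FrakLMod.sz_conj_mem hm hFc (Y := Yb.map e1.toMonoidHom)
      (CharP.FrakLQuot.isEA_map _ hYbe) ((card_map_of_injective e1.injective).trans hc) ht
    refine ⟨e1.symm t, e1.symm g, ?_, ?_, e1.injective (by simpa using htx)⟩
    · obtain ⟨y, hy, hye⟩ := hg
      have : y = (e1.symm g)⁻¹ * e1.symm t * e1.symm g := e1.injective (by simpa using hye)
      exact this ▸ hy
    · intro h0'
      have : t = 1 := e1.symm.injective (h0'.trans (map_one _).symm)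
      rw [this, orderOf_one] at ht
      omega
  · subst hp2
    refine htwo rfl ?_
    obtain ⟨k, hk⟩ := IsPGroup.iff_card.1 (CharP.isPGroup_of_isElementaryAbelian hYbe)
    have hd : 2 ^ k ∣ 2 * r := by
      rw [← hk, ← DihedralGroup.nat_card (n := r), ← Nat.card_congr e.toEquiv]
      exact card_subgroup_dvd_card Yb
    rcases k with _ | _ | k
    · exfalso
      rw [pow_zero, card_eq_one] at hk
      exact hproper (by rw [hk]; exact normalizer_eq_top (H := (⊥ : Subgroup _)))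
    · rw [hk]; norm_num
    · exfalso
      rw [pow_succ'] at hd
      have h2 := (Nat.dvd_of_mul_dvd_mul_left (by norm_num) hd)
      exact hr2 ((Nat.prime_dvd_prime_iff_eq Nat.prime_two hr).1
        ((dvd_pow_self 2 k.succ_ne_zero).trans h2)).symm

end Cfsg.Agent.S2863
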