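import Cfsg.Statements.S2864
import Cfsg.Agent.Lib.CharP.WeaklyClosed
import Cfsg.Agent.Lib.CharP.Parabolic
import Cfsg.Agent.Lib.CharP.Coprime
import Cfsg.Agent.Lib.Coprime.Commutator
import Cfsg.Agent.Lib.Coprime.PGroup

set_option autoImplicit false
open Cfsg

namespace Cfsg.Agent.S2864

open Subgroup
open scoped commutatorElement

/-- Standing hypotheses: G a finite group, S a Sylow p-subgroup, Q a nontrivial large p-subgroup of G contained in S, M a subgroup containing S with the basic property (M ∈ 𝔐_G(S)); Y_M the largest p-reduced normal subgroup of M and M† = M·C_G(Y_M). Let I be a nontrivial normal p-subgroup of M and Y ≤ O_p(M†); let L be a subgroup of G containing Y and A a normal p-subgroup of L with I ≤ A ≤ M. If [Y, A] ≤ [I, A], then Y ≤ O_p(L). -/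
theorem result {G : Type*} [Group G] [Finite G] {p : ℕ} [Fact p.Prime] (S : Sylow p G) (Q : Subgroup G) (hQp : IsPGroup p ↥Q) (hQ1 : Q ≠ ⊥) (hQS : Q ≤ (S : Subgroup G)) (hQ : Cfsg.IsLarge Q) (M : Subgroup G) (hSM : (S : Subgroup G) ≤ M) (hM : Cfsg.IsInFrakM p M) (I : Subgroup G) (hI1 : I ≠ ⊥) (hIp : IsPGroup p ↥I) (hIM : I ≤ M ∧ M ≤ Subgroup.normalizer ((I : Subgroup G) : Set G)) (Y : Subgroup G) (hY : Y ≤ (Cfsg.pCoreOf p (M ⊔ Subgroup.centralizer (((Cfsg.largestPReducedOf p M) : Subgroup G) : Set G)))) (L : Subgroup G) (hYL : Y ≤ L) (A : Subgroup G) (hAp : IsPGroup p ↥A) (hAL : A ≤ L ∧ L ≤ Subgroup.normalizer ((A : Subgroup G) : Set G)) (hIA : I ≤ A) (hAM : A ≤ M) (hc : ⁅Y, A⁆ ≤ ⁅I, A⁆) : Y ≤ (Cfsg.pCoreOf p L) := by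
  classical
  set Md := M ⊔ centralizer ((Cfsg.largestPReducedOf p M : Subgroup G) : Set G)
  set O := Cfsg.pCoreOf p Md with hO
  set X := normalizer (I : Set G) with hX
  have hQX : Q ≤ X := hQS.trans (hSM.trans hIM.2)
  have hIO : I ≤ Cfsg.pCoreOf p X := CharP.le_pCoreOf le_normalizer le_rfl hIp
  have hCQ : centralizer (Cfsg.pCoreOf p X : Set G) ≤ normalizer (Q : Set G) :=
    (centralizer_le hIO).trans (CharP.isLarge_centralizer_le hQp hQ hIp hI1 hQX)
  have hXc : X ∈ Cfsg.charPSubgroups p G := by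
    refine CharP.mem_charPSubgroups_iff.2 ⟨fun e => hI1 (le_bot_iff.mp (e ▸ hIO)), ?_⟩
    refine le_trans (le_inf ?_ le_rfl)
      (CharP.centralizer_pCoreOf_of_le_normalizer hQp hQ.1 hQX hCQ).2.2
    exact (centralizer_le hIO).trans (Subgroup.centralizer_le_normalizer _)
  obtain ⟨W, hXW, hW⟩ := (Set.toFinite (Cfsg.charPSubgroups p G)).exists_le_maximal hXc
  have hWMd : W = Md := hM.2.2.1 W ⟨hW.1, fun Z hZ h => le_antisymm (hW.2 hZ h) h⟩ (hIM.2.trans hXW)
  have hCMd : centralizer (A : Set G) ≤ Md :=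
    ((centralizer_le hIA).trans (Subgroup.centralizer_le_normalizer _)).trans (hXW.trans hWMd.le)
  -- inside `L`
  set C := L ⊓ centralizer (A : Set G) with hC
  set R := Cfsg.pCoreOf p C with hR
  have hLC : L ≤ normalizer (C : Set G) :=
    (le_inf le_normalizer (hAL.2.trans (CharP.normalizer_le_normalizer_centralizer _))).trans
      inf_normalizer_le_normalizer_inf
  have hLR : L ≤ normalizer (R : Set G) := hLC.trans (CharP.normalizer_le_normalizer_pCoreOf p C)
  have hcom : ∀ y ∈ Y, ∀ c ∈ C, ⁅c, y⁆ ∈ R := by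
    intro y hy c hc
    have hD : O ⊓ C ≤ R := CharP.le_pCoreOf inf_le_right
      ((le_inf ((inf_le_right.trans hCMd).trans (CharP.le_normalizer_pCoreOf p Md)) le_normalizer).trans
        inf_normalizer_le_normalizer_inf) ((CharP.isPGroup_pCoreOf p Md).to_le inf_le_left)
    refine hD (mem_inf.mpr ⟨?_, ?_⟩)
    · rw [commutatorElement_def]
      exact mul_mem ((mem_normalizer_iff.mp (CharP.le_normalizer_pCoreOf p Md (hCMd hc.2)) y).mp (hY hy))
        (inv_mem (hY hy))
    · rw [commutatorElement_def, mul_assoc, mul_assoc, ← mul_assoc y]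
      exact mul_mem hc ((mem_normalizer_iff.mp (hLC (hYL hy)) _).mp (inv_mem hc))
  set R' := R.subgroupOf L
  haveI hR'n : R'.Normal := normal_subgroupOf_of_le_normalizer hLR
  set Y' := Y.subgroupOf L
  set C' := C.subgroupOf L
  haveI hC'n : C'.Normal := normal_subgroupOf_of_le_normalizer hLC
  set A' := A.subgroupOf L
  haveI hA'n : A'.Normal := normal_subgroupOf_of_le_normalizer hAL.2
  set K := Subgroup.normalClosure (Y' : Set L) with hK
  let π := QuotientGroup.mk' R'
  haveI : (C'.map π).Normal := hC'n.map π (QuotientGroup.mk'_surjective R')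
  have hK1 : K ≤ (centralizer ((C'.map π : Subgroup (L ⧸ R')) : Set (L ⧸ R'))).comap π := by
    refine normalClosure_le_normal fun y hy => mem_comap.mpr (mem_centralizer_iff.mpr ?_)
    rintro _ ⟨c, hc, rfl⟩
    rw [← commutatorElement_eq_one_iff_mul_comm, ← map_commutatorElement]
    exact (QuotientGroup.eq_one_iff _).mpr (mem_subgroupOf.mpr (hcom _ hy _ hc))
  let ρ := QuotientGroup.mk' ⁅A', A'⁆
  haveI : (A'.map ρ).Normal := hA'n.map ρ (QuotientGroup.mk'_surjective _)
  have hK2 : K ≤ (centralizer ((A'.map ρ : Subgroup (L ⧸ ⁅A', A'⁆)) : Set (L ⧸ ⁅A', A'⁆))).comap ρ := by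
    refine normalClosure_le_normal fun y hy => mem_comap.mpr (mem_centralizer_iff.mpr ?_)
    rintro _ ⟨a, ha, rfl⟩
    rw [← commutatorElement_eq_one_iff_mul_comm, ← map_commutatorElement, ← commutatorElement_inv, map_inv,
      inv_eq_one]
    refine (QuotientGroup.eq_one_iff _).mpr ?_
    have h1 : ⁅(y : G), (a : G)⁆ ∈ ⁅A, A⁆ :=
      commutator_mono hIA le_rfl (hc (commutator_mem_commutator hy ha))
    rw [← map_subgroupOf_eq_of_le hAL.1, ← map_commutator] at h1
    obtain ⟨z, hz, e⟩ := h1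
    have e' : z = ⁅y, a⁆ := Subtype.ext (by rw [show ((z : L) : G) = L.subtype z from rfl, e]; rfl)
    exact e' ▸ hz
  -- elements of `K` of order prime to `p` lie in `C`
  have hKC : ∀ x ∈ K, (orderOf x).Coprime p → x ∈ C' := by
    intro x hx hcop
    refine mem_subgroupOf.mpr ⟨x.2, ?_⟩
    haveI := hAp.isNilpotent
    have hxA : zpowers x ≤ normalizer (A' : Set L) := by rw [normalizer_eq_top]; exact le_top
    have hA'p : IsPGroup p A' := hAp.comap_subtype
    haveI := hA'p.isNilpotent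
    have hcent : zpowers x ≤ centralizer (A' : Set L) := by
      refine Cfsg.Agent.Coprime.le_centralizer_of_frattini hxA ?_ ?_
      · exact (CharP.coprime_zpowers_of_isPGroup (hA'p) hcop).coprime_dvd_right
          (Subgroup.card_subgroup_dvd_card _)
      · intro b hb a ha
        have hbK : b ∈ K := (zpowers_le.2 hx) hb
        have h1 : ⁅b, a⁆ ∈ ⁅A', A'⁆ := by
          refine (QuotientGroup.eq_one_iff _).mp ?_
          show ρ ⁅b, a⁆ = 1
          rw [map_commutatorElement, commutatorElement_eq_one_iff_mul_comm]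
          exact ((mem_centralizer_iff.mp (mem_comap.mp (hK2 hbK))) _ ⟨a, ha, rfl⟩).symm
        have h2 : ⁅A', A'⁆ ≤ (frattini A').map A'.subtype := by
          rw [← map_subtype_commutator]
          exact Subgroup.map_mono (Cfsg.Agent.Coprime.commutator_le_frattini A')
        exact h2 h1
    refine mem_centralizer_iff.mpr fun a ha => ?_
    exact congrArg Subtype.val
      (mem_centralizer_iff.mp (hcent (mem_zpowers x)) ⟨a, hAL.1 ha⟩ (mem_subgroupOf.mpr ha))
  -- the image of `K` is a `p`-group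
  set K₁ := K.map π with hK₁
  have hKn : K.Normal := normalClosure_normal
  haveI : K₁.Normal := hKn.map π (QuotientGroup.mk'_surjective R')
  have hq : IsPGroup p (↥K₁ ⧸ center ↥K₁) := by
    intro z
    obtain ⟨⟨w, x, hx, rfl⟩, rfl⟩ := QuotientGroup.mk_surjective z
    refine ⟨(orderOf x).factorization p, ?_⟩
    rw [← QuotientGroup.mk_pow, QuotientGroup.eq_one_iff, mem_center_iff]
    have hxc : x ^ p ^ (orderOf x).factorization p ∈ C' := by
      refine hKC _ (pow_mem hx _) ?_
      rw [orderOf_pow_of_dvd (pow_ne_zero _ (Fact.out : p.Prime).ne_zero) (Nat.ordProj_dvd _ p)]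
      exact (Nat.coprime_ordCompl (Fact.out : p.Prime) (orderOf_pos x).ne').symm
    rintro ⟨_, v, hv, rfl⟩
    refine Subtype.ext ?_
    show π v * π x ^ p ^ _ = π x ^ p ^ _ * π v
    rw [← map_pow]
    exact ((mem_centralizer_iff.mp (mem_comap.mp (hK1 hv))) _ ⟨_, hxc, rfl⟩).symm
  haveI : Group.IsNilpotent ↥K₁ := Group.of_quotient_center_nilpotent hq.isNilpotent
  obtain ⟨T⟩ := Sylow.nonempty (p := p) (G := ↥K₁)
  haveI hTn : (T : Subgroup K₁).Normal :=
    (Group.isNilpotent_of_finite_tfae.out 0 3 rfl rfl).1 ‹Group.IsNilpotent ↥K₁› p inferInstance T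
  haveI : (T : Subgroup K₁).Characteristic := T.characteristic_of_normal hTn
  haveI : ((T : Subgroup K₁).map K₁.subtype).Normal := ConjAct.normal_of_characteristic_of_normal
  have hY'p : IsPGroup p Y' := (((CharP.isPGroup_pCoreOf p Md).to_le hY)).comap_subtype
  have hKp : IsPGroup p K₁ := by
    refine IsPGroup.to_le ((T.2).map K₁.subtype) ?_
    change K.map π ≤ _
    rw [map_le_iff_le_comap]
    haveI := Subgroup.Normal.comap (show ((T : Subgroup K₁).map K₁.subtype).Normal from ‹_›) π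
    refine normalClosure_le_normal fun y hy => mem_comap.mpr ?_
    have hyK : π y ∈ K₁ := ⟨y, subset_normalClosure hy, rfl⟩
    refine ⟨⟨π y, hyK⟩, ?_, rfl⟩
    have hle : (Y'.map π).subgroupOf K₁ ≤ (T : Subgroup K₁) := by
      obtain ⟨Q', hQ'⟩ := ((hY'p.map π).comap_subtype (K := K₁)).exists_le_sylow
      haveI := Sylow.unique_of_normal T hTn
      rwa [show Q' = T from Subsingleton.elim _ _] at hQ'
    exact hle (mem_subgroupOf.mpr ⟨y, hy, rfl⟩)
  have hKp' : IsPGroup p K := by
    refine (hKp.comap_of_ker_isPGroup π ?_).to_le (le_comap_map π K)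
    rw [QuotientGroup.ker_mk']
    exact (CharP.isPGroup_pCoreOf p C).comap_subtype
  calc Y = Y'.map L.subtype := (map_subgroupOf_eq_of_le hYL).symm
    _ ≤ (Cfsg.pCore p L).map L.subtype :=
      Subgroup.map_mono ((subset_normalClosure (s := (Y' : Set L))).trans
        (SetLike.coe_subset_coe.mpr (CharP.le_pCore normalClosure_normal hKp')))

end Cfsg.Agent.S2864
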