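import Cfsg.Statements.S2872
import Cfsg.Agent.Lib.Cores.Residual

set_option autoImplicit false
open Cfsg

namespace Cfsg.Agent.S2872

theorem index_coatom {S : Type*} [Group S] [Finite S] {p : ℕ} [Fact p.Prime] (hS : IsPGroup p S)
    {M : Subgroup S} (hM : IsCoatom M) : M.index = p := by
  have := hS.isNilpotent
  have hn : M.Normal :=
    Subgroup.NormalizerCondition.normal_of_coatom M Group.normalizerCondition_of_isNilpotent hM
  obtain ⟨k, hk⟩ := IsPGroup.iff_card.1 (hS.to_quotient M)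
  rw [← Subgroup.index_eq_card] at hk
  have hk0 : k ≠ 0 := fun e => hM.1 (Subgroup.index_eq_one.1 (by rw [hk, e, pow_zero]))
  obtain ⟨a, ha⟩ := exists_prime_orderOf_dvd_card' (G := S ⧸ M) p
    (by rw [← Subgroup.index_eq_card, hk]; exact dvd_pow_self p hk0)
  have hlt : M < (Subgroup.zpowers a).comap (QuotientGroup.mk' M) := by
    refine lt_of_le_of_ne (fun s hs => ?_) fun e => ?_
    · rw [Subgroup.mem_comap, QuotientGroup.mk'_apply, (QuotientGroup.eq_one_iff s).2 hs]
      exact one_mem _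
    · obtain ⟨s, rfl⟩ := QuotientGroup.mk_surjective a
      have hs : s ∈ M := by
        rw [e]; exact Subgroup.mem_comap.2 (Subgroup.mem_zpowers _)
      rw [(QuotientGroup.eq_one_iff s).2 hs, orderOf_one] at ha
      exact (Fact.out : p.Prime).ne_one ha.symm
  have h1 : Subgroup.zpowers a = ⊤ :=
    Subgroup.comap_injective (QuotientGroup.mk'_surjective M)
      ((hM.2 _ hlt).trans (Subgroup.comap_top _).symm)
  rw [Subgroup.index_eq_card, ← Subgroup.card_top (G := S ⧸ M), ← h1, Nat.card_zpowers, ha]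

/-- A central involution of `S` outside `M`, fused only trivially by `N(S)`, is not in the kernel
of the sign of the action on the cosets of `M`. -/
theorem exists_index_two {G : Type*} [Group G] [Finite G] (S : Sylow 2 G) (M : Subgroup G)
    (hMS : M ≤ (S : Subgroup G)) (hrel : M.relIndex (S : Subgroup G) = 2) (z : G) (hz : z ∈ (S : Subgroup G))
    (hzM : z ∉ M) (hz2 : z ^ 2 = 1) (hzc : ∀ s ∈ (S : Subgroup G), s * z = z * s)
    (hN : ∀ g ∈ Subgroup.normalizer ((S : Subgroup G) : Set G), g * z * g⁻¹ = z) :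
    ∃ K : Subgroup G, K.index = 2 := by
  classical
  have : Fact (Nat.Prime 2) := ⟨Nat.prime_two⟩
  have hMn : ∀ s ∈ (S : Subgroup G), ∀ m ∈ M, s * m * s⁻¹ ∈ M := by
    have h := Subgroup.normal_of_index_eq_two (H := M.subgroupOf (S : Subgroup G)) hrel
    intro s hs m hm
    exact h.conj_mem ⟨m, hMS hm⟩ hm ⟨s, hs⟩
  let Q : Set (G ⧸ (S : Subgroup G)) := {q | ∃ g : G, (g : G ⧸ (S : Subgroup G)) = q ∧ g⁻¹ * z * g ∈ M}
  have hQ : ∀ g : G, (g : G ⧸ (S : Subgroup G)) ∈ Q ↔ g⁻¹ * z * g ∈ M := by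
    refine fun g => ⟨fun ⟨g', hg', hm⟩ => ?_, fun h => ⟨g, rfl, h⟩⟩
    rw [QuotientGroup.eq] at hg'
    have := hMn _ ((S : Subgroup G).inv_mem hg') _ hm
    simpa [mul_assoc] using this
  let Q' : SubMulAction ↥(S : Subgroup G) (G ⧸ (S : Subgroup G)) :=
    { carrier := Q
      smul_mem' := by
        rintro s _ ⟨g, rfl, hm⟩
        refine ⟨s * g, rfl, ?_⟩
        rwa [show ((s : G) * g)⁻¹ * z * ((s : G) * g) = g⁻¹ * ((s : G)⁻¹ * (z * (s : G))) * g by group,
          ← hzc s s.2, inv_mul_cancel_left] }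
  have heven : 2 ∣ Nat.card Q := by
    have h := S.2.card_modEq_card_fixedPoints Q'
    have : IsEmpty (MulAction.fixedPoints ↥(S : Subgroup G) Q') := by
      refine ⟨fun ⟨⟨q, hq⟩, hfix⟩ => ?_⟩
      obtain ⟨g, rfl, hm⟩ := hq
      have hgS : ∀ s ∈ (S : Subgroup G), g⁻¹ * s * g ∈ (S : Subgroup G) := fun s hs => by
        have h1 := congrArg Subtype.val (hfix ⟨s, hs⟩)
        change (((s * g : G)) : G ⧸ (S : Subgroup G)) = _ at h1
        rw [QuotientGroup.eq] at h1
        simpa [mul_assoc] using (S : Subgroup G).inv_mem h1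
      have hgN : g⁻¹ ∈ Subgroup.normalizer ((S : Subgroup G) : Set G) := by
        refine Subgroup.mem_normalizer_iff_map_conj_eq.2 (Subgroup.eq_of_le_of_card_ge ?_ (le_of_eq ?_))
        · rintro _ ⟨s, hs, rfl⟩
          simpa using hgS s hs
        · exact Nat.card_congr ((S : Subgroup G).equivMapOfInjective _
            (MulAut.conj g⁻¹).injective).toEquiv
      have := hN _ hgN
      rw [inv_inv] at this
      rw [this] at hm
      exact hzM hm
    rw [Nat.card_of_isEmpty (α := MulAction.fixedPoints ↥(S : Subgroup G) Q')] at h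
    exact Nat.modEq_zero_iff_dvd.1 h
  have : Fintype (G ⧸ M) := Fintype.ofFinite _
  let φ : G →* ℤˣ := Equiv.Perm.sign.comp (MulAction.toPermHom G (G ⧸ M))
  set σ := MulAction.toPermHom G (G ⧸ M) z with hσ
  have hσ2 : σ ^ 2 = 1 := by rw [hσ, ← map_pow, hz2, map_one]
  have hfix : ∀ g : G, σ (g : G ⧸ M) = (g : G ⧸ M) ↔ g⁻¹ * z * g ∈ M := fun g => by
    change ((z * g : G) : G ⧸ M) = _ ↔ _
    rw [eq_comm, QuotientGroup.eq, ← mul_assoc]
  have hidx : M.index = 2 * (S : Subgroup G).index := by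
    rw [← Subgroup.relIndex_mul_index hMS, hrel]
  have hcard : Nat.card {x : G ⧸ M // σ x = x} = Nat.card Q * 2 := by
    let e := Subgroup.quotientEquivProdOfLE hMS
    have h1 : {x : G ⧸ M // σ x = x} ≃ Q × (↥(S : Subgroup G) ⧸ M.subgroupOf (S : Subgroup G)) :=
      (e.subtypeEquiv (q := fun a => a.1 ∈ Q) fun x => by
        induction x using QuotientGroup.induction_on with
        | H g => exact (hfix g).trans (hQ g).symm).trans
        Equiv.prodSubtypeFstEquivSubtypeProd
    rw [Nat.card_congr h1, Nat.card_prod]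
    congr 1
  have hsupp : σ.support.card % 4 = 2 := by
    have h1 : σ.support = Finset.univ.filter fun x => ¬ σ x = x := rfl
    have h2 := Finset.card_filter_add_card_filter_not (s := (Finset.univ : Finset (G ⧸ M)))
      (fun x => σ x = x)
    rw [Finset.card_univ, ← Nat.card_eq_fintype_card, ← h1] at h2
    rw [Nat.card_eq_fintype_card, Fintype.card_subtype] at hcard
    have hodd : ¬ 2 ∣ (S : Subgroup G).index := S.not_dvd_index
    change _ = M.index at h2
    omega
  have hneg : φ z = -1 := by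
    show Equiv.Perm.sign σ = -1
    have hct : σ.cycleType = Multiset.replicate σ.cycleType.card 2 := by
      refine Multiset.eq_replicate_card.mpr fun n hn => ?_
      have h1 := Equiv.Perm.dvd_of_mem_cycleType hn
      have h2 := Equiv.Perm.two_le_of_mem_cycleType hn
      have h3 : orderOf σ ∣ 2 := orderOf_dvd_of_pow_eq_one hσ2
      have := Nat.le_of_dvd two_pos (h1.trans h3)
      omega
    have hsum := Equiv.Perm.sum_cycleType σ
    rw [hct, Multiset.sum_replicate, smul_eq_mul] at hsum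
    rw [Equiv.Perm.sign_of_cycleType, hct, Multiset.sum_replicate, Multiset.card_replicate,
      smul_eq_mul]
    apply Odd.neg_one_pow
    rw [Nat.odd_iff]
    omega
  refine ⟨φ.ker, ?_⟩
  rw [Subgroup.index_ker]
  have : φ.range = ⊤ := by
    rw [eq_top_iff]
    intro u _
    rcases Int.units_eq_one_or u with rfl | rfl
    · exact one_mem _
    · exact ⟨z, hneg⟩
  rw [this, Nat.card_congr Subgroup.topEquiv.toEquiv, Nat.card_eq_fintype_card]
  rfl


/-- Let S be a Sylow 2-subgroup of the finite group G. Then G has a proper normal subgroup of 2-power index (O²(G) ≠ G), or Ω₁(Z(S)) is contained in the Frattini subgroup of S, or N_G(S) acts nontrivially on Ω₁(Z(S)) by conjugation. -/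
theorem result {G : Type*} [Group G] [Finite G] (S : Sylow 2 G) : Cfsg.pResidual 2 G ≠ ⊤ ∨ Cfsg.omegaOne 2 ((S : Subgroup G) ⊓ Subgroup.centralizer ((S : Subgroup G) : Set G)) ≤ (frattini ↥(S : Subgroup G)).map (S : Subgroup G).subtype ∨ ∃ g ∈ Subgroup.normalizer ((S : Subgroup G) : Set G), ∃ z ∈ Cfsg.omegaOne 2 ((S : Subgroup G) ⊓ Subgroup.centralizer ((S : Subgroup G) : Set G)), g * z * g⁻¹ ≠ z := by
  have : Fact (Nat.Prime 2) := ⟨Nat.prime_two⟩
  by_contra hcon
  push Not at hcon
  obtain ⟨hres, hfr, hN⟩ := hcon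
  obtain ⟨z, hzΩ, hzfr⟩ := SetLike.not_le_iff_exists.1 hfr
  set Z := (S : Subgroup G) ⊓ Subgroup.centralizer ((S : Subgroup G) : Set G)
  obtain ⟨hzS, hzc, hz2⟩ : z ∈ (S : Subgroup G) ∧
      z ∈ Subgroup.centralizer ((S : Subgroup G) : Set G) ∧ z ^ 2 = 1 := by
    have h : z ∈ Z ∧ z ^ 2 = 1 := by
      refine Subgroup.closure_induction (p := fun x _ => x ∈ Z ∧ x ^ 2 = 1) (fun x hx => hx)
        ⟨one_mem _, one_pow _⟩ (fun a b _ _ ha hb => ?_)
        (fun a _ ha => ⟨inv_mem ha.1, by rw [inv_pow, ha.2, inv_one]⟩) hzΩ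
      refine ⟨mul_mem ha.1 hb.1, ?_⟩
      have hc : Commute a b := Subgroup.mem_centralizer_iff.1 hb.1.2 a ha.1.1
      rw [hc.mul_pow, ha.2, hb.2, one_mul]
    exact ⟨h.1.1, h.1.2, h.2⟩
  obtain ⟨M, hM, hzM⟩ : ∃ M : Subgroup ↥(S : Subgroup G), IsCoatom M ∧ ⟨z, hzS⟩ ∉ M := by
    by_contra h
    push Not at h
    refine hzfr ⟨⟨z, hzS⟩, ?_, rfl⟩
    rw [frattini, Order.radical]
    simp only [SetLike.mem_coe, Subgroup.mem_iInf]
    exact fun M hM => h M hM
  obtain ⟨K, hK⟩ := exists_index_two S (M.map (S : Subgroup G).subtype) (Subgroup.map_subtype_le M)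
    (by rw [Subgroup.relIndex, Subgroup.subgroupOf,
          Subgroup.comap_map_eq_self_of_injective (Subgroup.subtype_injective _)]
        exact index_coatom S.2 hM) z hzS
    (by rintro ⟨m, hm, he⟩; exact hzM (by rwa [show (⟨z, hzS⟩ : ↥(S : Subgroup G)) = m from Subtype.ext he.symm]))
    hz2 (fun s hs => Subgroup.mem_centralizer_iff.1 hzc s hs) (fun g hg => hN g hg z hzΩ)
  have := Subgroup.normal_of_index_eq_two hK
  have hle := Cores.pResidual_le_of_isPGroup_quotient (p := 2) (N := K) (IsPGroup.of_card (n := 1)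
    (by rw [← Subgroup.index_eq_card, hK, pow_one]))
  rw [hres, top_le_iff] at hle
  rw [hle, Subgroup.index_top] at hK
  omega

end Cfsg.Agent.S2872
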