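import Cfsg.Statements.S2873
import Cfsg.Agent.Lib.PLocal.ZJ
import Cfsg.Agent.Lib.Fusion.Normal
import Mathlib.GroupTheory.SpecificGroups.Dihedral

set_option autoImplicit false
open Cfsg

namespace Cfsg.Agent.S2873

open Subgroup

theorem exists_sr {r : ℕ} [Fact r.Prime] (hr : r ≠ 2) {d : DihedralGroup r} (hd : orderOf d = 2) :
    ∃ i, d = DihedralGroup.sr i := by
  cases d with
  | sr i => exact ⟨i, rfl⟩
  | r i =>
    exfalso
    have h : orderOf (DihedralGroup.r i) ∣ r := orderOf_dvd_of_pow_eq_one (by rw [DihedralGroup.r_pow, ZMod.natCast_self, mul_zero]; rfl)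
    rw [hd] at h
    exact hr ((Nat.prime_dvd_prime_iff_eq Nat.prime_two (Fact.out : r.Prime)).mp h).symm

theorem sr_conj {r : ℕ} [Fact r.Prime] (hr : r ≠ 2) (i j : ZMod r) :
    ∃ d : DihedralGroup r, d * DihedralGroup.sr i * d⁻¹ = DihedralGroup.sr j := by
  have h2 : (2 : ZMod r) ≠ 0 := by
    intro h
    have : r ∣ 2 := (ZMod.natCast_eq_zero_iff 2 r).mp (by exact_mod_cast h)
    exact hr ((Nat.prime_dvd_prime_iff_eq (Fact.out : r.Prime) Nat.prime_two).mp this)
  refine ⟨DihedralGroup.r ((i - j) / 2), ?_⟩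
  simp only [DihedralGroup.r_mul_sr, DihedralGroup.inv_r, DihedralGroup.sr_mul_r, DihedralGroup.sr.injEq]
  field_simp
  ring

section

variable {G : Type*} [Group G] [Finite G] {r : ℕ} [Fact r.Prime] (hr : r ≠ 2) {Q : Subgroup G} [Q.Normal]
  (hQ : IsPGroup 2 Q) (hquot : Nonempty (G ⧸ Q ≃* DihedralGroup r)) (R : Sylow r G)
  (hC : Q ⊓ Subgroup.centralizer ((R : Subgroup G) : Set G) = ⊥)

include hr hQ

theorem inf_eq_bot : (R : Subgroup G) ⊓ Q = ⊥ := by
  refine Subgroup.inf_eq_bot_of_coprime ?_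
  obtain ⟨k, hk⟩ := IsPGroup.iff_card.mp R.isPGroup'
  obtain ⟨m, hm⟩ := IsPGroup.iff_card.mp hQ
  rw [hk, hm]
  exact Nat.Coprime.pow _ _ ((Nat.coprime_primes (Fact.out : r.Prime) Nat.prime_two).mpr hr)

include hquot hC

theorem norm_bij : Nat.card (R : Subgroup G) = r ∧ Function.Bijective
    ((QuotientGroup.mk' Q).comp (normalizer ((R : Subgroup G) : Set G)).subtype) := by
  obtain ⟨e⟩ := hquot
  set π := QuotientGroup.mk' Q with hπ
  have hcard : Nat.card (G ⧸ Q) = 2 * r := by rw [Nat.card_congr e.toEquiv, DihedralGroup.nat_card]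
  have hb := inf_eq_bot hr hQ R
  have hR1 : (R : Subgroup G) ≠ ⊥ := R.ne_bot_of_dvd_card <| by
    rw [Q.card_eq_card_quotient_mul_card_subgroup, hcard]
    exact (dvd_mul_left r 2).mul_right _
  have hinj : Function.Injective (π.comp (R : Subgroup G).subtype) := by
    rw [← MonoidHom.ker_eq_bot_iff, eq_bot_iff]
    intro x hx
    have h1 : (x : G) ∈ (R : Subgroup G) ⊓ Q := ⟨x.2, by simpa [hπ, MonoidHom.mem_ker, QuotientGroup.eq_one_iff] using hx⟩
    rw [hb] at h1
    exact Subtype.ext h1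
  have hmap : Nat.card ((R : Subgroup G).map π) = Nat.card (R : Subgroup G) := by
    rw [← range_subtype (R : Subgroup G), MonoidHom.map_range, range_subtype]
    exact (Nat.card_congr (MonoidHom.ofInjective hinj).toEquiv).symm
  have hRr : Nat.card (R : Subgroup G) = r := by
    obtain ⟨k, hk⟩ := IsPGroup.iff_card.mp R.isPGroup'
    have hd : r ^ k ∣ 2 * r := hk ▸ hmap ▸ hcard ▸ card_subgroup_dvd_card _
    rcases k with _ | _ | k
    · exact absurd (eq_bot_of_card_eq _ (by simpa using hk)) hR1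
    · simpa using hk
    · exfalso
      have h2 : r * r ∣ r * 2 := by
        rw [mul_comm r 2]
        exact (dvd_trans (Dvd.intro_left (r ^ k) (by ring)) hd)
      have := Nat.dvd_of_mul_dvd_mul_left (Fact.out : r.Prime).pos h2
      exact hr ((Nat.prime_dvd_prime_iff_eq (Fact.out : r.Prime) Nat.prime_two).mp this)
  refine ⟨hRr, ?_, ?_⟩
  · rw [← MonoidHom.ker_eq_bot_iff, eq_bot_iff]
    intro x hx
    have hxQ : (x : G) ∈ Q := by simpa [hπ, MonoidHom.mem_ker, QuotientGroup.eq_one_iff] using hx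
    have h1 : (x : G) ∈ Q ⊓ centralizer ((R : Subgroup G) : Set G) := by
      refine ⟨hxQ, mem_centralizer_iff.mpr fun y hy => ?_⟩
      have h2 : (x : G) * y * (x : G)⁻¹ * y⁻¹ ∈ (R : Subgroup G) ⊓ Q := by
        refine ⟨(R : Subgroup G).mul_mem ((mem_normalizer_iff.mp x.2 y).mp hy) ((R : Subgroup G).inv_mem hy), ?_⟩
        have := mul_mem hxQ (‹Q.Normal›.conj_mem _ (inv_mem hxQ) y)
        simpa [mul_assoc] using this
      rw [hb, mem_bot, mul_inv_eq_one, mul_inv_eq_iff_eq_mul] at h2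
      exact h2.symm
    rw [hC] at h1
    exact Subtype.ext h1
  · have hidx : ((R : Subgroup G).map π).index = 2 := by
      have := ((R : Subgroup G).map π).card_mul_index
      rw [hmap, hRr, hcard, mul_comm 2 r] at this
      exact Nat.eq_of_mul_eq_mul_left (Fact.out : r.Prime).pos this
    haveI := Subgroup.normal_of_index_eq_two hidx
    haveI : (((R : Subgroup G).map π).comap π).Normal := Subgroup.Normal.comap ‹_› π
    intro z
    obtain ⟨g, rfl⟩ := QuotientGroup.mk'_surjective Q z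
    obtain ⟨n, hn, l, hl, rfl⟩ := Cfsg.Agent.PLocal.ZJ.frattini_inf R (((R : Subgroup G).map π).comap π) g
    rw [inf_eq_left.mpr (le_comap_map π _)] at hn
    obtain ⟨ρ, hρ, hρe⟩ := hl
    refine ⟨⟨n * ρ, mul_mem hn (le_normalizer hρ)⟩, ?_⟩
    show π (n * ρ) = π (n * l)
    rw [map_mul, map_mul, hρe]

theorem involution_pair {a a' u v : G} (ha : a ∈ normalizer ((R : Subgroup G) : Set G))
    (ha' : a' ∈ normalizer ((R : Subgroup G) : Set G))
    (hxr : orderOf (QuotientGroup.mk' Q (a * a')) = r) (hu : u * u = 1) (hv : v * v = 1)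
    (hua : QuotientGroup.mk' Q u = QuotientGroup.mk' Q a) (hva : QuotientGroup.mk' Q v = QuotientGroup.mk' Q a') :
    ∃ q ∈ Q, q * a * q⁻¹ = u ∧ q * a' * q⁻¹ = v := by
  obtain ⟨hRr, hinj, hsurj⟩ := norm_bij hr hQ hquot R hC
  set π := QuotientGroup.mk' Q with hπ
  have hui : u⁻¹ = u := inv_eq_of_mul_eq_one_right hu
  have hvi : v⁻¹ = v := inv_eq_of_mul_eq_one_right hv
  have hπw : π (u * v) = π (a * a') := by rw [map_mul, map_mul, hua, hva]
  have hwQ : (u * v) ^ r ∈ Q := by
    rw [← QuotientGroup.eq_one_iff, ← QuotientGroup.mk'_apply, map_pow, hπw, ← hxr]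
    exact pow_orderOf_eq_one _
  obtain ⟨k, hk⟩ := hQ ⟨_, hwQ⟩
  have hk' : ((u * v) ^ r) ^ 2 ^ k = 1 := congrArg Subtype.val hk
  set y := (u * v) ^ (2 ^ k) with hy
  have hyr : y ^ r = 1 := by rw [hy, pow_right_comm]; exact hk'
  have hy1 : y ≠ 1 := by
    intro h
    have h1 : π (a * a') ^ 2 ^ k = 1 := by rw [← hπw, ← map_pow, ← hy, h, map_one]
    rw [← orderOf_dvd_iff_pow_eq_one, hxr] at h1
    exact hr ((Nat.prime_dvd_prime_iff_eq (Fact.out : r.Prime) Nat.prime_two).mp
      ((Fact.out : r.Prime).dvd_of_dvd_pow h1))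
  have hoy : orderOf y = r := orderOf_eq_prime hyr hy1
  obtain ⟨S, hS⟩ := (IsPGroup.of_card (n := 1) (show Nat.card (zpowers y) = r ^ 1 by
    rw [Nat.card_zpowers, hoy, pow_one])).exists_le_sylow
  obtain ⟨g, rfl⟩ := MulAction.exists_smul_eq G R S
  obtain ⟨n, hn⟩ := hsurj (π g)
  have hqQ : g * (n : G)⁻¹ ∈ Q := by
    have h3 : π (n : G) = π g := hn
    rw [← QuotientGroup.eq_one_iff, ← QuotientGroup.mk'_apply, map_mul, map_inv, h3, mul_inv_cancel]
  set q := g * (n : G)⁻¹ with hq
  have hSeq : zpowers y = ((R : Subgroup G)).map (MulAut.conj q).toMonoidHom := by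
    refine eq_of_le_of_card_ge (fun z hz => ?_) ?_
    · have h4 : (MulAut.conj g)⁻¹ • z ∈ (R : Subgroup G) := mem_pointwise_smul_iff_inv_smul_mem.mp (hS hz)
      refine ⟨(n : G) * (g⁻¹ * z * g) * (n : G)⁻¹, (mem_normalizer_iff.mp n.2 _).mp ?_, ?_⟩
      · simpa [mul_assoc] using h4
      · simp [hq, mul_assoc]
    · rw [Nat.card_zpowers, hoy, Nat.card_congr ((R : Subgroup G).equivMapOfInjective _ (MulAut.conj q).injective).symm.toEquiv, hRr]
  have hinvert : ∀ t : G, t * (u * v) * t⁻¹ = (u * v)⁻¹ → q⁻¹ * t * q ∈ normalizer ((R : Subgroup G) : Set G) := by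
    intro t ht
    have h5 : t * y * t⁻¹ = y⁻¹ := by rw [hy, ← conj_pow, ht, inv_pow]
    have h6 : (zpowers y).map (MulAut.conj t).toMonoidHom = zpowers y := by
      rw [MonoidHom.map_zpowers, show (MulAut.conj t).toMonoidHom y = y⁻¹ from by simpa using h5, zpowers_inv]
    rw [hSeq, map_map] at h6
    rw [mem_normalizer_iff_map_conj_eq]
    have h7 := congrArg (Subgroup.map (MulAut.conj q⁻¹).toMonoidHom) h6
    rw [map_map, map_map] at h7
    have e1 : (MulAut.conj q⁻¹).toMonoidHom.comp (MulAut.conj q).toMonoidHom = MonoidHom.id G := by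
      ext z; simp [mul_assoc]
    have e2 : (MulAut.conj q⁻¹).toMonoidHom.comp ((MulAut.conj t).toMonoidHom.comp (MulAut.conj q).toMonoidHom) =
        (MulAut.conj (q⁻¹ * t * q)).toMonoidHom := by
      ext z; simp [mul_assoc]
    rwa [e1, map_id, e2] at h7
  have hfin : ∀ t b : G, b ∈ normalizer ((R : Subgroup G) : Set G) → π t = π b →
      t * (u * v) * t⁻¹ = (u * v)⁻¹ → q * b * q⁻¹ = t := by
    intro t b hb hπt ht
    have h8 := hinj (a₁ := ⟨_, hinvert t ht⟩) (a₂ := ⟨b, hb⟩) <| by
      show π (q⁻¹ * t * q) = π b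
      rw [map_mul, map_mul, map_inv, (QuotientGroup.eq_one_iff q).mpr hqQ |> fun h => (show π q = 1 from h), hπt]
      simp
    have h9 : q⁻¹ * t * q = b := congrArg Subtype.val h8
    rw [← h9]
    group
  refine ⟨q, hqQ, hfin u a ha hua ?_, hfin v a' ha' hva ?_⟩
  · rw [mul_inv_rev, hui, hvi, ← mul_assoc, hu, one_mul]
  · rw [mul_inv_rev, hui, hvi, mul_assoc v, mul_assoc u, hv, mul_one]

end

/-- Let G be a finite group and r an odd prime such that G ⧸ O₂(G) is dihedral of order 2r, and let R be a Sylow r-subgroup of G with C_{O₂(G)}(R) = 1. Then N_G(R) is dihedral of order 2r; for any involution a of N_G(R), every involution of G outside O₂(G) is conjugate to a; and |C_{O₂(G)}(a)|² = |O₂(G)|. -/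
theorem result {G : Type*} [Group G] [Finite G] {r : ℕ} [Fact r.Prime] (hr : r ≠ 2) [hN : (Cfsg.pCore 2 G).Normal] (hquot : Nonempty (G ⧸ Cfsg.pCore 2 G ≃* DihedralGroup r)) (R : Sylow r G) (hC : Cfsg.pCore 2 G ⊓ Subgroup.centralizer ((R : Subgroup G) : Set G) = ⊥) : Nonempty (↥(Subgroup.normalizer ((R : Subgroup G) : Set G)) ≃* DihedralGroup r) ∧ ∀ a : G, a ∈ Subgroup.normalizer ((R : Subgroup G) : Set G) → orderOf a = 2 → (∀ b : G, orderOf b = 2 → b ∉ Cfsg.pCore 2 G → ∃ g : G, g * a * g⁻¹ = b) ∧ Nat.card ↥(Cfsg.pCore 2 G ⊓ Subgroup.centralizer ({a} : Set G)) ^ 2 = Nat.card ↥(Cfsg.pCore 2 G) := by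
  have hQ := Fusion.Normal.pCore_isPGroup 2 G
  set Q := Cfsg.pCore 2 G with hQdef
  obtain ⟨hRr, hbij⟩ := norm_bij hr hQ hquot R hC
  obtain ⟨e⟩ := hquot
  set N := normalizer ((R : Subgroup G) : Set G) with hN'
  set π := QuotientGroup.mk' Q with hπ
  let E : N ≃* DihedralGroup r := (MulEquiv.ofBijective _ hbij).trans e
  refine ⟨⟨E⟩, fun a ha hoa => ?_⟩
  have hEa : orderOf (E ⟨a, ha⟩) = 2 := by rw [MulEquiv.orderOf_eq, Subgroup.orderOf_mk]; exact hoa
  obtain ⟨i, hi⟩ := exists_sr hr hEa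
  -- for a reflection `j` of the quotient, every involution above it is conjugate to its lift
  set a' : N := E.symm (DihedralGroup.sr (i + 1)) with ha'
  have ha'2 : (a' : G) * (a' : G) = 1 := by
    have : a' * a' = 1 := by rw [ha', ← map_mul, DihedralGroup.sr_mul_self, map_one]
    exact congrArg Subtype.val this
  have ha2 : a * a = 1 := by rw [← pow_two, ← hoa, pow_orderOf_eq_one]
  have hxr : orderOf (π (a * a')) = r := by
    have h1 : π (a * a') = (MulEquiv.ofBijective _ hbij) (⟨a, ha⟩ * a') := rfl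
    rw [h1, MulEquiv.orderOf_eq, ← MulEquiv.orderOf_eq E, map_mul, hi, ha', MulEquiv.apply_symm_apply,
      DihedralGroup.sr_mul_sr]
    simp [DihedralGroup.orderOf_r_one]
  have hpair := fun u v => involution_pair (u := u) (v := v) hr hQ ⟨e⟩ R hC ha a'.2 hxr
  obtain ⟨d, hd⟩ := sr_conj hr i (i + 1)
  have hn : (E.symm d : G) * a * (E.symm d : G)⁻¹ = a' := by
    have : E.symm d * ⟨a, ha⟩ * (E.symm d)⁻¹ = a' := by
      apply E.injective
      rw [map_mul, map_mul, map_inv, MulEquiv.apply_symm_apply, hi, hd, ha', MulEquiv.apply_symm_apply]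
    exact congrArg Subtype.val this
  refine ⟨fun b hb hbQ => ?_, ?_⟩
  · have hb2 : b * b = 1 := by rw [← pow_two, ← hb, pow_orderOf_eq_one]
    obtain ⟨m, hm⟩ := hbij.2 (π b)
    have hmo : orderOf (E m) = 2 := by
      rw [MulEquiv.orderOf_eq]
      refine orderOf_eq_prime (hbij.1 ?_) fun h => hbQ ?_
      · rw [map_pow, hm, map_one, ← map_pow, pow_two, hb2, map_one]
      · rw [h, map_one] at hm
        rw [← QuotientGroup.eq_one_iff]
        exact hm.symm
    obtain ⟨j, hj⟩ := exists_sr hr hmo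
    obtain ⟨d', hd'⟩ := sr_conj hr i j
    have hm' : (E.symm d' : G) * a * (E.symm d' : G)⁻¹ = m := by
      have : E.symm d' * ⟨a, ha⟩ * (E.symm d')⁻¹ = m := by
        apply E.injective
        rw [map_mul, map_mul, map_inv, MulEquiv.apply_symm_apply, hi, hd', hj]
      exact congrArg Subtype.val this
    set n : G := (E.symm d' : G) with hn'
    obtain ⟨q, -, hqa, -⟩ := hpair (n⁻¹ * b * n) a' (by
        rw [show n⁻¹ * b * n * (n⁻¹ * b * n) = n⁻¹ * (b * b) * n from by group, hb2, mul_one, inv_mul_cancel])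
      ha'2 (by
        have hm2 : π (m : G) = π b := hm
        rw [map_mul, map_mul, ← hm2, ← hm', ← map_mul, ← map_mul]
        congr 1
        group) rfl
    refine ⟨n * q, ?_⟩
    rw [show n * q * a * (n * q)⁻¹ = n * (q * a * q⁻¹) * n⁻¹ from by group, hqa]
    group
  · let A : Subgroup Q := (centralizer ({a} : Set G)).subgroupOf Q
    let B : Subgroup Q := (centralizer ({(a' : G)} : Set G)).subgroupOf Q
    have hmem : ∀ (z : G) (p₁ p₂ : Q), p₁⁻¹ * p₂ ∈ (centralizer ({z} : Set G)).subgroupOf Q ↔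
        (p₁ : G) * z * (p₁ : G)⁻¹ = (p₂ : G) * z * (p₂ : G)⁻¹ := by
      intro z p₁ p₂
      rw [mem_subgroupOf, mem_centralizer_singleton_iff]
      push_cast
      constructor <;> intro h
      · calc (p₁ : G) * z * (p₁ : G)⁻¹ = (p₁ : G) * (z * ((p₁ : G)⁻¹ * p₂)) * (p₂ : G)⁻¹ := by group
          _ = (p₂ : G) * z * (p₂ : G)⁻¹ := by rw [← h]; group
      · calc (p₁ : G)⁻¹ * p₂ * z = (p₁ : G)⁻¹ * ((p₂ : G) * z * (p₂ : G)⁻¹) * p₂ := by group
          _ = z * ((p₁ : G)⁻¹ * p₂) := by rw [← h]; group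
    have hbij2 : Function.Bijective (fun t : Q => ((t : Q ⧸ A), (t : Q ⧸ B))) := by
      constructor
      · intro p₁ p₂ h
        simp only [Prod.mk.injEq, QuotientGroup.eq] at h
        obtain ⟨h1, h2⟩ := h
        have h3 : (((p₁⁻¹ * p₂ : Q)) : G) ∈ Q ⊓ centralizer ((R : Subgroup G) : Set G) := by
          refine ⟨(p₁⁻¹ * p₂ : Q).2, ?_⟩
          have hc : a * a' ∈ centralizer ({((p₁⁻¹ * p₂ : Q) : G)} : Set G) := by
            refine mul_mem ?_ ?_ <;> rw [mem_centralizer_singleton_iff]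
            · exact (mem_centralizer_singleton_iff.mp h1).symm
            · exact (mem_centralizer_singleton_iff.mp h2).symm
          have hxR : a * a' ∈ (R : Subgroup G) := by
            have hp : IsPGroup r (zpowers ((⟨a, ha⟩ : N) * a')) := by
              refine IsPGroup.of_card (n := 1) ?_
              rw [Nat.card_zpowers, pow_one, ← MulEquiv.orderOf_eq (MulEquiv.ofBijective _ hbij)]
              exact hxr
            have hRN : ((R : Subgroup G).subgroupOf N).Normal := normal_in_normalizer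
            obtain ⟨S, hS⟩ := hp.exists_le_sylow
            haveI := Sylow.unique_of_normal (R.subtype (le_normalizer : (R : Subgroup G) ≤ N)) hRN
            have hSR : ((R.subtype (le_normalizer : (R : Subgroup G) ≤ N)) : Subgroup N) = S :=
              congrArg _ (Subsingleton.elim _ _)
            have := hS (mem_zpowers ((⟨a, ha⟩ : N) * a'))
            rw [← hSR] at this
            exact this
          have hgen : (R : Subgroup G) = zpowers (a * (a' : G)) := by
            refine (eq_of_le_of_card_ge (zpowers_le.mpr hxR) ?_).symm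
            rw [hRr, Nat.card_zpowers]
            exact Nat.le_of_dvd (orderOf_pos _) (hxr ▸ orderOf_map_dvd π _)
          refine mem_centralizer_iff.mpr fun z hz => ?_
          rw [SetLike.mem_coe, hgen] at hz
          exact mem_centralizer_singleton_iff.mp (zpowers_le.mpr hc hz)
        rw [hC] at h3
        exact inv_mul_eq_one.mp (Subtype.ext h3)
      · rintro ⟨x, y⟩
        induction x using QuotientGroup.induction_on with
        | H q₁ => ?_
        induction y using QuotientGroup.induction_on with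
        | H q₂ => ?_
        obtain ⟨q, hq, hq1, hq2⟩ := hpair ((q₁ : G) * a * (q₁ : G)⁻¹) ((q₂ : G) * a' * (q₂ : G)⁻¹)
          (by rw [conj_mul, ha2, mul_one, mul_inv_cancel]) (by rw [conj_mul, ha'2, mul_one, mul_inv_cancel])
          (by
            have h1 : π (q₁ : G) = 1 := (QuotientGroup.eq_one_iff _).mpr q₁.2
            rw [map_mul, map_mul, map_inv, h1]; simp)
          (by
            have h1 : π (q₂ : G) = 1 := (QuotientGroup.eq_one_iff _).mpr q₂.2
            rw [map_mul, map_mul, map_inv, h1]; simp)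
        exact ⟨⟨q, hq⟩, Prod.ext (QuotientGroup.eq.mpr ((hmem _ _ _).mpr hq1))
          (QuotientGroup.eq.mpr ((hmem _ _ _).mpr hq2))⟩
    have hcard : Nat.card Q = A.index * B.index := by
      rw [Nat.card_congr (Equiv.ofBijective _ hbij2), Nat.card_prod]; rfl
    have hAB : Nat.card A = Nat.card B := by
      set n : G := (E.symm d : G) with hn'
      let c : Q ≃* Q := MulAut.conjNormal n
      refine Nat.card_congr ((c.subgroupMap A).trans (MulEquiv.subgroupCongr ?_)).toEquiv
      ext t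
      simp only [A, B, mem_map, mem_subgroupOf, mem_centralizer_singleton_iff]
      constructor
      · rintro ⟨s, hs, rfl⟩
        have : ((c s : Q) : G) = n * s * n⁻¹ := MulAut.conjNormal_apply _ _
        show ((c s : Q) : G) * a' = a' * ((c s : Q) : G)
        rw [this, ← hn, conj_mul, conj_mul, hs]
      · intro ht
        refine ⟨c.symm t, ?_, c.apply_symm_apply t⟩
        have : ((c.symm t : Q) : G) = n⁻¹ * t * n := MulAut.conjNormal_symm_apply _ _
        rw [this]
        rw [← hn] at ht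
        calc n⁻¹ * t * n * a = n⁻¹ * (t * (n * a * n⁻¹)) * n := by group
          _ = a * (n⁻¹ * t * n) := by rw [ht]; group
    have hA : Nat.card ↥(Q ⊓ centralizer ({a} : Set G)) = Nat.card A := by
      rw [inf_comm, ← subgroupOf_map_subtype]
      exact (Nat.card_congr (A.equivMapOfInjective _ Q.subtype_injective).toEquiv).symm
    have hiA := A.card_mul_index
    have hiB := B.card_mul_index
    rw [← hAB] at hiB
    have hieq : A.index = B.index := Nat.eq_of_mul_eq_mul_left (Nat.card_pos (α := A)) (hiA.trans hiB.symm)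
    rw [hA]
    rw [← hieq] at hcard
    have : Nat.card A = A.index := Nat.eq_of_mul_eq_mul_right (Nat.pos_of_ne_zero A.index_ne_zero_of_finite)
      (hiA.trans hcard)
    rw [hcard, ← this, pow_two]

end Cfsg.Agent.S2873
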