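import Cfsg.Statements.S2874
import Mathlib
-- import your own Cfsg.Agent.* helpers here

set_option autoImplicit false
set_option linter.all false
set_option maxHeartbeats 1000000
set_option synthInstance.maxSize 4000
set_option synthInstance.maxHeartbeats 200000
open Cfsg
open Matrix

namespace Cfsg.Agent.S2874

variable {k : ℕ}

theorem two_dvd (hk : k ≠ 0) : 2 ∣ 2 ^ k := dvd_pow_self 2 hk

/-- Reduction modulo two. -/
def red (hk : k ≠ 0) : ZMod (2 ^ k) →+* ZMod 2 := ZMod.castHom (two_dvd hk) (ZMod 2)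

theorem dvd_of_red (hk : k ≠ 0) {x : ZMod (2 ^ k)} (h : red hk x = 0) : ∃ y, x = 2 * y := by
  obtain ⟨n, rfl⟩ := ZMod.natCast_zmod_surjective x
  rw [map_natCast, ZMod.natCast_eq_zero_iff] at h
  obtain ⟨m, rfl⟩ := h
  exact ⟨m, by push_cast; ring⟩

theorem red_eq_zero_of_mul (hk : k ≠ 0) {j : ℕ} (hj : j < k) {x : ZMod (2 ^ k)}
    (h : (2 : ZMod (2 ^ k)) ^ j * x = 0) : red hk x = 0 := by
  obtain ⟨n, rfl⟩ := ZMod.natCast_zmod_surjective x
  have h' : ((2 ^ j * n : ℕ) : ZMod (2 ^ k)) = 0 := by push_cast; exact h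
  rw [ZMod.natCast_eq_zero_iff] at h'
  rw [map_natCast, ZMod.natCast_eq_zero_iff]
  obtain ⟨m, hm⟩ := h'
  refine ⟨2 ^ (k - j - 1) * m, Nat.eq_of_mul_eq_mul_left (show 0 < 2 ^ j by positivity) ?_⟩
  rw [hm, ← mul_assoc, ← mul_assoc, ← pow_succ, ← pow_add]
  congr 2
  omega

abbrev M (k : ℕ) := Matrix (Fin 2) (Fin 2) (ZMod (2 ^ k))

abbrev M2 := Matrix (Fin 2) (Fin 2) (ZMod 2)

/-- Reduction of matrices. -/
def redM (hk : k ≠ 0) : M k →+* M2 := (red hk).mapMatrix

theorem exists_of_redM (hk : k ≠ 0) {X : M k} (h : redM hk X = 0) : ∃ Y : M k, X = 2 * Y := by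
  have : ∀ i j, ∃ y, X i j = 2 * y := fun i j => dvd_of_red hk (congrFun (congrFun h i) j)
  choose Y hY using this
  refine ⟨Matrix.of Y, ?_⟩
  ext i j
  rw [two_mul, Matrix.add_apply, Matrix.of_apply, hY, two_mul]

theorem redM_eq_zero_of_mul (hk : k ≠ 0) {j : ℕ} (hj : j < k) {X : M k}
    (h : ((2 : ZMod (2 ^ k)) ^ j) • X = 0) : redM hk X = 0 := by
  ext a b
  exact red_eq_zero_of_mul hk hj (congrFun (congrFun h a) b)

theorem smul_congr (hk : k ≠ 0) {j : ℕ} (hj : k ≤ j + 1) {X Y : M k}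
    (h : redM hk X = redM hk Y) : ((2 : ZMod (2 ^ k)) ^ j) • X = ((2 : ZMod (2 ^ k)) ^ j) • Y := by
  obtain ⟨Z, hZ⟩ := exists_of_redM hk (X := X - Y) (by rw [map_sub, h, sub_self])
  have h0 : (2 : ZMod (2 ^ k)) ^ (j + 1) = 0 := by
    have : ((2 ^ (j + 1) : ℕ) : ZMod (2 ^ k)) = 0 :=
      (ZMod.natCast_eq_zero_iff _ _).2 (pow_dvd_pow 2 hj)
    simpa using this
  rw [← sub_eq_zero, ← smul_sub, hZ, two_mul, ← two_smul (ZMod (2 ^ k)), smul_smul, ← pow_succ, h0,
    zero_smul]

/-- The relation defining the nontrivial part. -/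
def InW (w X : M2) : Prop := X + w * X * (w * w) + w * w * X * w = 0

theorem finite_facts : ∀ w X : M2, w * w * w = 1 → w ≠ 1 → InW w X → X * X = X → X = 0 := by
  unfold InW
  decide +kernel

theorem w_count : ∀ w : M2, w * w * w = 1 → w ≠ 1 →
    (Finset.univ.filter fun X : M2 => X ≠ 0 ∧ X + w * X * (w * w) + w * w * X * w = 0).card = 3 := by
  decide +kernel

theorem a4_rel : ∀ t v : alternatingGroup (Fin 4), t * t * t = 1 → t ≠ 1 → v * v = 1 → v ≠ 1 →
    v * (t * v * (t * t)) * (t * t * v * t) = 1 := by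
  decide +kernel

theorem a4_decomp : ∀ t g : alternatingGroup (Fin 4), t * t * t = 1 → t ≠ 1 →
    ∃ v : alternatingGroup (Fin 4), v * v = 1 ∧ (g = v ∨ g = v * t ∨ g = v * (t * t)) := by
  decide +kernel

theorem a4_three : ∃ t : alternatingGroup (Fin 4), t * t * t = 1 ∧ t ≠ 1 := by decide +kernel

theorem a4_count : (Finset.univ.filter
    fun v : alternatingGroup (Fin 4) => v * v = 1 ∧ v ≠ 1).card = 3 := by decide +kernel

theorem gl2_card : Nat.card (GL (Fin 2) (ZMod 2)) = 6 := by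
  rw [Matrix.card_GL_field, Fin.prod_univ_two]
  simp

/-- Reduction of the group. -/
def redG (hk : k ≠ 0) : GL (Fin 2) (ZMod (2 ^ k)) →* GL (Fin 2) (ZMod 2) :=
  Units.map (redM hk).toMonoidHom

theorem ker_pGroup (hk : k ≠ 0) : IsPGroup 2 (redG hk).ker := by
  intro g
  refine ⟨k, Subtype.ext (Units.ext ?_)⟩
  have hg : redM hk ((g : GL (Fin 2) (ZMod (2 ^ k))) : M k) = 1 := congrArg Units.val g.2
  obtain ⟨Y, hY⟩ := exists_of_redM hk (X := ((g : GL (Fin 2) (ZMod (2 ^ k))) : M k) - 1)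
    (by rw [map_sub, hg, map_one, sub_self])
  obtain ⟨Q, hQ⟩ : (2 : Polynomial (ZMod (2 ^ k))) ^ (k + 1) ∣
      (1 + 2 * Polynomial.X) ^ 2 ^ k - 1 ^ 2 ^ k :=
    dvd_sub_pow_of_dvd_sub (p := 2) ⟨Polynomial.X, by push_cast; ring⟩ k
  have := congrArg (Polynomial.aeval Y) hQ
  simp only [map_sub, map_pow, map_add, map_one, map_mul, Polynomial.aeval_X, one_pow,
    map_ofNat] at this
  have h0 : (2 : M k) ^ (k + 1) = 0 := by
    rw [show (2 : M k) = algebraMap (ZMod (2 ^ k)) (M k) 2 from (map_ofNat _ 2).symm, ← map_pow,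
      show (2 : ZMod (2 ^ k)) ^ (k + 1) = 0 by
        have : ((2 ^ (k + 1) : ℕ) : ZMod (2 ^ k)) = 0 :=
          (ZMod.natCast_eq_zero_iff _ _).2 (pow_dvd_pow 2 (by omega))
        simpa using this, map_zero]
  rw [h0, zero_mul, sub_eq_zero, ← hY, add_sub_cancel] at this
  simpa using this

/-- An involution moved by an element of order three is congruent to one modulo `2 ^ (k - 1)`. -/
theorem involution_form (hk : k ≠ 0) (hk2 : 2 ≤ k) {v w : M k} (hv : v * v = 1)
    (hv2 : redM hk v = 1) (hw : w * w * w = 1) (hw1 : redM hk w ≠ 1)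
    (hrel : v * (w * v * (w * w)) * (w * w * v * w) = 1) :
    ∃ X : M k, v = 1 + ((2 : ZMod (2 ^ k)) ^ (k - 1)) • X ∧ InW (redM hk w) (redM hk X) := by
  have hw2 : redM hk w * redM hk w * redM hk w = 1 := by rw [← map_mul, ← map_mul, hw, map_one]
  have step : ∀ (j : ℕ) (X : M k), 1 ≤ j → j < k → v = 1 + ((2 : ZMod (2 ^ k)) ^ j) • X →
      InW (redM hk w) (redM hk X) := by
    intro j X hj hjk hX
    set c := (2 : ZMod (2 ^ k)) ^ j with hc
    have e1 : w * v * (w * w) = 1 + c • (w * X * (w * w)) := by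
      rw [hX, mul_add, mul_one, add_mul, ← mul_assoc, hw, mul_smul_comm, smul_mul_assoc]
    have e2 : w * w * v * w = 1 + c • (w * w * X * w) := by
      rw [hX, mul_add, mul_one, add_mul, hw, mul_smul_comm, smul_mul_assoc]
    rw [e1, e2, hX] at hrel
    set A := w * X * (w * w)
    set B := w * w * X * w
    have h1 : c • (X + A + B + c • (X * A + X * B + A * B) + (c * c) • (X * A * B)) = 0 := by
      have e : (1 + c • X) * (1 + c • A) * (1 + c • B) =
          1 + c • (X + A + B + c • (X * A + X * B + A * B) + (c * c) • (X * A * B)) := by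
        simp only [mul_add, add_mul, mul_one, one_mul, smul_mul_assoc, mul_smul_comm, smul_add,
          smul_smul, mul_assoc]
        abel
      rw [e] at hrel
      simpa using hrel
    have h2 := redM_eq_zero_of_mul hk hjk h1
    have hcred : ∀ Y : M k, redM hk (c • Y) = 0 := by
      intro Y
      ext a b
      show red hk (c * Y a b) = 0
      rw [map_mul, hc, map_pow, map_ofNat, show (2 : ZMod 2) = 0 from rfl, zero_pow (by omega),
        zero_mul]
    rw [map_add, map_add, map_add, map_add, hcred, mul_smul, hcred] at h2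
    simpa [InW, A, B, map_mul] using h2
  have key : ∀ j, 1 ≤ j → j ≤ k - 1 → ∃ X : M k, v = 1 + ((2 : ZMod (2 ^ k)) ^ j) • X := by
    intro j hj
    induction j, hj using Nat.le_induction with
    | base =>
      intro _
      obtain ⟨Y, hY⟩ := exists_of_redM hk (X := v - 1) (by rw [map_sub, hv2, map_one, sub_self])
      refine ⟨Y, ?_⟩
      rw [pow_one, two_smul, ← two_mul, ← hY, add_sub_cancel]
    | succ j hj ih =>
      intro hjk
      obtain ⟨X, hX⟩ := ih (by omega)
      have hW := step j X hj (by omega) hX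
      have hsq : ((2 : ZMod (2 ^ k)) ^ (j + 1)) • (X + ((2 : ZMod (2 ^ k)) ^ (j - 1)) • (X * X)) = 0 := by
        rw [hX] at hv
        have e : (1 + ((2 : ZMod (2 ^ k)) ^ j) • X) * (1 + ((2 : ZMod (2 ^ k)) ^ j) • X) = 1 +
            ((2 : ZMod (2 ^ k)) ^ (j + 1)) • (X + ((2 : ZMod (2 ^ k)) ^ (j - 1)) • (X * X)) := by
          rw [smul_add, smul_smul, ← pow_add, show j + 1 + (j - 1) = j + j by omega, pow_succ,
            pow_add]
          simp only [mul_add, add_mul, mul_one, one_mul, smul_mul_assoc, mul_smul_comm, smul_smul, smul_add,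
            mul_comm ((2 : ZMod (2 ^ k)) ^ j) 2]
          rw [← smul_smul (2 : ZMod (2 ^ k)), two_smul]
          abel
        rw [e] at hv
        simpa using hv
      have h2 := redM_eq_zero_of_mul hk (show j + 1 < k by omega) hsq
      have hX0 : redM hk X = 0 := by
        rcases eq_or_ne j 1 with rfl | hj1
        · rw [map_add, pow_zero, one_smul, map_mul] at h2
          refine finite_facts _ _ hw2 hw1 hW ?_
          have hneg : ∀ Y : M2, -Y = Y := fun Y => by
            ext a b; exact ZMod.neg_eq_self_mod_two _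
          rw [eq_neg_of_add_eq_zero_right h2, hneg]
        · have : redM hk (((2 : ZMod (2 ^ k)) ^ (j - 1)) • (X * X)) = 0 := by
            ext a b
            show red hk (_ * (X * X) a b) = 0
            rw [map_mul, map_pow, map_ofNat, show (2 : ZMod 2) = 0 from rfl,
              zero_pow (by omega), zero_mul]
          rwa [map_add, this, add_zero] at h2
      obtain ⟨Y, rfl⟩ := exists_of_redM hk hX0
      exact ⟨Y, by rw [hX, pow_succ, ← smul_smul, two_smul, two_mul]⟩
  obtain ⟨X, hX⟩ := key (k - 1) (by omega) le_rfl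
  exact ⟨X, hX, step _ X (by omega) (by omega) hX⟩


theorem a4_comm : ∀ t v : alternatingGroup (Fin 4), t * t * t = 1 → t ≠ 1 → v * v = 1 →
    ∃ u : alternatingGroup (Fin 4), u * u = 1 ∧ v = t * u * (t * t) * u := by
  decide +kernel

theorem s3_comm : ∀ a u : M2, a * a * a = 1 → u * u = 1 →
    a * u * (a * a) * u * (a * u * (a * a) * u) = 1 → a * u * (a * a) * u = 1 := by
  decide +kernel

theorem inW_count : ∀ w : M2, w * w * w = 1 → w ≠ 1 →
    (Finset.univ.filter fun X : M2 => X + w * X * (w * w) + w * w * X * w = 0).card = 4 := by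
  decide +kernel

theorem a4_inv_count : (Finset.univ.filter
    fun v : alternatingGroup (Fin 4) => v * v = 1).card = 4 := by decide +kernel

/-- The candidates for the involutions. -/
def S (hk : k ≠ 0) (t : GL (Fin 2) (ZMod (2 ^ k))) : Set (GL (Fin 2) (ZMod (2 ^ k))) :=
  {v | ∃ X : M k, (v : M k) = 1 + ((2 : ZMod (2 ^ k)) ^ (k - 1)) • X ∧
    InW (redM hk (t : M k)) (redM hk X)}

/-- An `A₄` is determined by any of its elements of order three. -/
theorem mem_iff (hk : k ≠ 0) (hk2 : 2 ≤ k) {H : Subgroup (GL (Fin 2) (ZMod (2 ^ k)))}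
    (h : Nonempty (↥H ≃* ↥(alternatingGroup (Fin 4)))) {t : GL (Fin 2) (ZMod (2 ^ k))}
    (ht : t ∈ H) (ht3 : t * t * t = 1) (ht1 : t ≠ 1) (g : GL (Fin 2) (ZMod (2 ^ k))) :
    g ∈ H ↔ ∃ v ∈ S hk t, g = v ∨ g = v * t ∨ g = v * (t * t) := by
  classical
  obtain ⟨e⟩ := h
  set t' := e ⟨t, ht⟩ with ht'
  have ht'3 : t' * t' * t' = 1 := by
    rw [← map_mul, ← map_mul, ← map_one e]; congr 1; exact Subtype.ext ht3
  have ht'1 : t' ≠ 1 := fun he => ht1
    (congrArg Subtype.val ((MulEquiv.map_eq_one_iff e).1 he))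
  have het : ((e.symm t' : H) : GL (Fin 2) (ZMod (2 ^ k))) = t := by rw [ht', e.symm_apply_apply]
  have hr1 : redM hk (t : M k) ≠ 1 := by
    intro hh
    obtain ⟨n, hn⟩ := ker_pGroup hk ⟨t, Units.ext hh⟩
    have hn' : t ^ 2 ^ n = 1 := congrArg Subtype.val hn
    have h3 : orderOf t ∣ 3 := orderOf_dvd_of_pow_eq_one (by rw [pow_succ, sq]; exact ht3)
    exact ht1 (orderOf_eq_one_iff.1 (Nat.eq_one_of_dvd_coprimes
      (Nat.Coprime.pow_right n (by norm_num : Nat.Coprime 3 2)) h3 (orderOf_dvd_of_pow_eq_one hn')))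
  have hred3 : redM hk (t : M k) * redM hk (t : M k) * redM hk (t : M k) = 1 := by
    rw [← map_mul, ← map_mul, ← Units.val_mul, ← Units.val_mul, ht3, Units.val_one, map_one]
  let W : Finset M2 := Finset.univ.filter fun X =>
    X + redM hk (t : M k) * X * (redM hk (t : M k) * redM hk (t : M k)) +
      redM hk (t : M k) * redM hk (t : M k) * X * redM hk (t : M k) = 0
  -- every involution of `H` is a candidate
  have hinv : ∀ v : alternatingGroup (Fin 4), v * v = 1 →
      ((e.symm v : H) : GL (Fin 2) (ZMod (2 ^ k))) ∈ S hk t := by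
    intro v hv
    rcases eq_or_ne v 1 with rfl | hv1
    · refine ⟨0, by rw [map_one, smul_zero, add_zero]; rfl, ?_⟩
      simp [InW]
    set a : GL (Fin 2) (ZMod (2 ^ k)) := ((e.symm v : H) : GL (Fin 2) (ZMod (2 ^ k))) with ha
    have haa : (a : M k) * (a : M k) = 1 := by
      rw [← Units.val_mul, ha, ← Subgroup.coe_mul, ← map_mul, hv, map_one]; rfl
    obtain ⟨u, hu, hvu⟩ := a4_comm t' v ht'3 ht'1 hv
    set b : GL (Fin 2) (ZMod (2 ^ k)) := ((e.symm u : H) : GL (Fin 2) (ZMod (2 ^ k))) with hb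
    have hab : a = t * b * (t * t) * b := by
      rw [ha, hvu, map_mul, map_mul, map_mul, map_mul, Subgroup.coe_mul, Subgroup.coe_mul,
        Subgroup.coe_mul, Subgroup.coe_mul, het]
    have hbb : (b : M k) * (b : M k) = 1 := by
      rw [← Units.val_mul, hb, ← Subgroup.coe_mul, ← map_mul, hu, map_one]; rfl
    have hra : redM hk (a : M k) = 1 := by
      have h1 := congrArg (redM hk) haa
      rw [hab, map_one] at h1
      simp only [Units.val_mul, map_mul] at h1
      have := s3_comm _ (redM hk (b : M k)) hred3 (by rw [← map_mul, hbb, map_one]) h1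
      rw [hab]
      simpa only [Units.val_mul, map_mul] using this
    have hrel := congrArg (fun z => (((e.symm z : H) : GL (Fin 2) (ZMod (2 ^ k))) : M k))
      (a4_rel t' v ht'3 ht'1 hv hv1)
    simp only [map_mul, map_one, Subgroup.coe_mul, OneMemClass.coe_one, het, Units.val_mul,
      Units.val_one, ← ha] at hrel
    exact involution_form hk hk2 haa hra
      (by rw [← Units.val_mul, ← Units.val_mul, ht3, Units.val_one]) hr1 hrel
  -- there are no other candidates
  have hSH : ∀ v ∈ S hk t, v ∈ H := by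
    intro v hv
    let Inv := {v : alternatingGroup (Fin 4) // v * v = 1}
    let f : Inv → ↥(S hk t) := fun v => ⟨_, hinv v.1 v.2⟩
    have hf : Function.Injective f := fun a b hab =>
      Subtype.ext (e.symm.injective (Subtype.ext (congrArg Subtype.val hab :)))
    have hIc : Nat.card Inv = 4 := by
      rw [Nat.card_eq_fintype_card, Fintype.card_subtype]; exact a4_inv_count
    have hSc : Nat.card ↥(S hk t) ≤ 4 := by
      let φ : ↥(S hk t) → ↥W := fun v =>
        ⟨redM hk v.2.choose, Finset.mem_filter.2 ⟨Finset.mem_univ _, v.2.choose_spec.2⟩⟩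
      have hφ : Function.Injective φ := fun a b hab => Subtype.ext (Units.ext (by
        rw [a.2.choose_spec.1, b.2.choose_spec.1,
          smul_congr hk (by omega) (congrArg Subtype.val hab)]))
      refine (Nat.card_le_card_of_injective φ hφ).trans ?_
      rw [Nat.card_eq_fintype_card, Fintype.card_coe]
      exact (inW_count _ hred3 hr1).le
    have : Finite ↥(S hk t) := Subtype.finite
    obtain ⟨u, hu⟩ := ((Nat.bijective_iff_injective_and_card f).2
      ⟨hf, le_antisymm (Nat.card_le_card_of_injective f hf) (hIc.symm ▸ hSc)⟩).2 ⟨v, hv⟩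
    have h2 : ((e.symm u.1 : H) : GL (Fin 2) (ZMod (2 ^ k))) = v := congrArg Subtype.val hu
    rw [← h2]
    exact (e.symm u.1).2
  constructor
  · intro hg
    obtain ⟨v, hv, hgv⟩ := a4_decomp t' (e ⟨g, hg⟩) ht'3 ht'1
    refine ⟨_, hinv v hv, ?_⟩
    have back : ∀ z, e ⟨g, hg⟩ = z → g = ((e.symm z : H) : GL (Fin 2) (ZMod (2 ^ k))) :=
      fun z hz => by rw [← hz, e.symm_apply_apply]
    rcases hgv with h1 | h1 | h1
    · exact Or.inl (back _ h1)
    · refine Or.inr (Or.inl ?_)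
      rw [back _ h1, map_mul, Subgroup.coe_mul, het]
    · refine Or.inr (Or.inr ?_)
      rw [back _ h1, map_mul, map_mul, Subgroup.coe_mul, Subgroup.coe_mul, het]
  · rintro ⟨v, hv, h | h | h⟩ <;> rw [h]
    · exact hSH v hv
    · exact H.mul_mem (hSH v hv) ht
    · exact H.mul_mem (hSH v hv) (H.mul_mem ht ht)

theorem exists_sylow (hk : k ≠ 0) {t : GL (Fin 2) (ZMod (2 ^ k))} (ht : orderOf t = 3) :
    ∃ P : Sylow 3 (GL (Fin 2) (ZMod (2 ^ k))), (P : Subgroup _) = Subgroup.zpowers t := by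
  have := Fact.mk Nat.prime_three
  have hp : IsPGroup 3 (Subgroup.zpowers t) :=
    IsPGroup.of_card (n := 1) (by rw [Nat.card_zpowers, ht, pow_one])
  refine ⟨hp.toSylow ?_, rfl⟩
  intro hd
  have h1 := (Subgroup.zpowers t).card_mul_index
  rw [Nat.card_zpowers, ht, ← (redG hk).ker.card_mul_index, Subgroup.index_ker] at h1
  obtain ⟨a, ha⟩ := IsPGroup.iff_card.1 (ker_pGroup hk)
  have h9 : 9 ∣ 2 ^ a * Nat.card (redG hk).range := by
    rw [← ha, ← h1]
    obtain ⟨c, hc⟩ := hd
    exact ⟨c, by rw [hc]; ring⟩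
  have h6 : 9 ∣ Nat.card (redG hk).range :=
    ((by norm_num : Nat.Coprime 9 2).pow_right a).dvd_of_dvd_mul_left h9
  have := h6.trans ((Subgroup.card_subgroup_dvd_card _).trans (dvd_of_eq gl2_card))
  norm_num at this

/-- For k ≥ 2, any two subgroups of GL₂(ℤ/2ᵏℤ) (the automorphism group of the homocyclic group ℤ/2ᵏ × ℤ/2ᵏ) that are isomorphic to the alternating group of degree 4 are conjugate. -/
theorem result (k : ℕ) (hk : 2 ≤ k) (H₁ H₂ : Subgroup (GL (Fin 2) (ZMod (2 ^ k)))) (h₁ : Nonempty (↥H₁ ≃* ↥(alternatingGroup (Fin 4)))) (h₂ : Nonempty (↥H₂ ≃* ↥(alternatingGroup (Fin 4)))) : ∃ g : GL (Fin 2) (ZMod (2 ^ k)), H₂ = H₁.map (MulAut.conj g).toMonoidHom := by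
  have hk0 : k ≠ 0 := by omega
  obtain ⟨t₀, ht3, ht1⟩ := a4_three
  have pick : ∀ H : Subgroup (GL (Fin 2) (ZMod (2 ^ k))),
      Nonempty (↥H ≃* ↥(alternatingGroup (Fin 4))) → ∃ t ∈ H, orderOf t = 3 := by
    rintro H ⟨e⟩
    refine ⟨(e.symm t₀ : H), (e.symm t₀).2, ?_⟩
    rw [Subgroup.orderOf_coe, MulEquiv.orderOf_eq]
    have := Fact.mk Nat.prime_three
    exact orderOf_eq_prime (by rw [pow_succ, sq]; exact ht3) ht1
  obtain ⟨t₁, hm1, ho1⟩ := pick H₁ h₁
  obtain ⟨t₂, hm2, ho2⟩ := pick H₂ h₂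
  obtain ⟨P, hP⟩ := exists_sylow hk0 ho1
  obtain ⟨Q, hQ⟩ := exists_sylow hk0 ho2
  obtain ⟨g, hg⟩ := MulAction.exists_smul_eq (GL (Fin 2) (ZMod (2 ^ k))) P Q
  refine ⟨g, ?_⟩
  set H' := H₁.map (MulAut.conj g).toMonoidHom
  have h' : Nonempty (↥H' ≃* ↥(alternatingGroup (Fin 4))) := by
    obtain ⟨e⟩ := h₁
    exact ⟨(H₁.equivMapOfInjective _ (MulAut.conj g).injective).symm.trans e⟩
  set s := g * t₁ * g⁻¹ with hs
  have hs' : s ∈ H' := ⟨t₁, hm1, rfl⟩
  have hs2 : s ∈ H₂ := by
    have : s ∈ (Q : Subgroup (GL (Fin 2) (ZMod (2 ^ k)))) := by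
      rw [← hg, Sylow.coe_subgroup_smul]
      exact Subgroup.smul_mem_pointwise_smul t₁ (MulAut.conj g) _
        (hP ▸ Subgroup.mem_zpowers t₁)
    rw [hQ] at this
    exact Subgroup.zpowers_le.2 hm2 this
  have hso : orderOf s = 3 := by
    rw [hs, ← ho1]; exact MulEquiv.orderOf_eq (MulAut.conj g) t₁
  have hs3 : s * s * s = 1 := by
    rw [← sq, ← pow_succ, show 2 + 1 = orderOf s from hso.symm, pow_orderOf_eq_one]
  have hs1 : s ≠ 1 := fun h => by rw [h, orderOf_one] at hso; omega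
  ext x
  rw [mem_iff hk0 hk h₂ hs2 hs3 hs1, mem_iff hk0 hk h' hs' hs3 hs1]

end Cfsg.Agent.S2874
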