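import Cfsg.Statements.S2879
import Cfsg.Agent.Lib.Perm.NearFieldSolvable
import Cfsg.Agent.Lib.Perm.AutQuaternion
import Cfsg.Agent.Lib.Classical.CyclicExt
import Cfsg.Agent.Lib.Fusion.Normal
import Cfsg.Agent.Lib.PLocal.PSolvable
import Cfsg.Agent.Lib.PLocal.SolvableSeparable
-- import your own Cfsg.Agent.* helpers here

set_option autoImplicit false
set_option linter.all false
set_option maxHeartbeats 1000000
open Cfsg

namespace Cfsg.Agent.S2879

/-- A cyclic subgroup of index two, with the action of the outside elements. -/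
structure Shape (T : Type*) [Group T] where
  x : T
  y : T
  M : ℕ
  r : ℤ
  four : 4 ∣ M
  ord : orderOf x = M
  notMem : y ∉ Subgroup.zpowers x
  cov : ∀ t, t ∈ Subgroup.zpowers x ∨ t * y⁻¹ ∈ Subgroup.zpowers x
  ysq : y * y = 1
  conj : y * x * y⁻¹ = x ^ r
  hr4 : (4 : ℤ) ∣ r + 1
  hr2 : (M : ℤ) ∣ 2 * (r + 1)

theorem exists_shape {T : Type*} [Group T] [Finite T] (h2 : IsPGroup 2 T)
    (hT : (∃ n : ℕ, 4 ≤ n ∧ Nonempty (T ≃* DihedralGroup n)) ∨ Cfsg.IsQuasiDihedral T) :
    Nonempty (Shape T) := by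
  have : Fact (Nat.Prime 2) := ⟨Nat.prime_two⟩
  rcases hT with ⟨n, hn, ⟨e⟩⟩ | ⟨n, hn, hcard, x, y, hx, hy, hc⟩
  · have h4 : 4 ∣ n := by
      obtain ⟨k, hk⟩ := IsPGroup.iff_card.1 h2
      rw [Nat.card_congr e.toEquiv, DihedralGroup.nat_card] at hk
      have hd : n ∣ 2 ^ k := hk ▸ dvd_mul_left n 2
      obtain ⟨j, -, rfl⟩ := (Nat.dvd_prime_pow Nat.prime_two).1 hd
      match j, hn with
      | 0, hn => simp at hn
      | 1, hn => simp at hn
      | j + 2, _ => exact ⟨2 ^ j, by ring⟩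
    refine ⟨⟨e.symm (.r 1), e.symm (.sr 0), n, -1, h4,
      by rw [MulEquiv.orderOf_eq, DihedralGroup.orderOf_r_one], ?_, ?_, ?_, ?_, by norm_num,
      by norm_num⟩⟩
    · rintro ⟨k, hk⟩
      have := congrArg e hk
      simp at this
    · intro t
      obtain ⟨s, rfl⟩ := e.symm.surjective t
      rcases s with i | i
      · exact Or.inl ⟨(i.cast : ℤ), by simp [← map_zpow]⟩
      · refine Or.inr ⟨((-i).cast : ℤ), ?_⟩
        simp [← map_zpow, ← map_inv, ← map_mul]
    · simp [← map_mul]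
    · simp [← map_inv, ← map_mul]
  · obtain ⟨m, rfl⟩ : ∃ m, n = m + 3 := ⟨n - 3, by omega⟩
    have hxy : y ∉ Subgroup.zpowers x := by
      rintro ⟨k, rfl⟩
      have h1 : x ^ 1 = x ^ (2 ^ (m + 3 - 1) - 1) := by
        rw [pow_one]
        calc x = x ^ k * x * (x ^ k)⁻¹ := by group
          _ = _ := hc
      rw [pow_eq_pow_iff_modEq, hx] at h1
      have hlt : 2 ^ (m + 3 - 1) - 1 < 2 ^ (m + 3) :=
        lt_of_le_of_lt (Nat.sub_le _ _) (Nat.pow_lt_pow_right one_lt_two (by omega))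
      have h := h1.eq_of_lt_of_lt (Nat.one_lt_two_pow (by omega)) hlt
      have h8 : 4 ≤ 2 ^ (m + 3 - 1) :=
        (Nat.pow_le_pow_right (by norm_num) (show 2 ≤ m + 3 - 1 by omega) : 2 ^ 2 ≤ _)
      omega
    refine ⟨⟨x, y, 2 ^ (m + 3), 2 ^ (m + 2) - 1, ⟨2 ^ (m + 1), by ring⟩, hx, hxy, ?_, ?_, ?_,
      ⟨2 ^ m, by ring⟩, ⟨1, by push_cast; ring⟩⟩⟩
    · intro t
      have hi : (Subgroup.zpowers x).index = 2 := by
        have := (Subgroup.zpowers x).card_mul_index
        rw [Nat.card_zpowers, hx, hcard, pow_succ 2 (m + 3)] at this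
        exact Nat.eq_of_mul_eq_mul_left (by positivity) this
      by_cases ht : t ∈ Subgroup.zpowers x
      · exact Or.inl ht
      · refine Or.inr ((Subgroup.mul_mem_iff_of_index_two hi).2 ?_)
        simp [ht, hxy]
    · have := pow_orderOf_eq_one y
      rwa [hy, sq] at this
    · rw [hc, show m + 3 - 1 = m + 2 by omega, ← zpow_natCast,
        Nat.cast_sub Nat.one_le_two_pow]
      norm_num

variable {T : Type*} [Group T] (D : Shape T)

theorem Shape.out {t : T} (ht : t ∉ Subgroup.zpowers D.x) :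
    t * D.x * t⁻¹ = D.x ^ D.r ∧ ∃ i : ℤ, t * t = D.x ^ (i * (D.r + 1)) := by
  obtain ⟨i, hi⟩ := (D.cov t).resolve_left ht
  have ht' : t = D.x ^ i * D.y := by rw [show D.x ^ i = t * D.y⁻¹ from hi]; group
  subst ht'
  constructor
  · calc D.x ^ i * D.y * D.x * (D.x ^ i * D.y)⁻¹
        = D.x ^ i * (D.y * D.x * D.y⁻¹) * (D.x ^ i)⁻¹ := by group
      _ = _ := by rw [D.conj]; group
  · refine ⟨i, ?_⟩
    calc D.x ^ i * D.y * (D.x ^ i * D.y)
        = D.x ^ i * (D.y * D.x ^ i * D.y⁻¹) * (D.y * D.y) := by group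
      _ = _ := by rw [← conj_zpow, D.conj, D.ysq, mul_one, ← zpow_mul, ← zpow_add]; ring_nf

theorem Shape.out_four {t : T} (ht : t ∉ Subgroup.zpowers D.x) : t * t * (t * t) = 1 := by
  obtain ⟨-, i, hi⟩ := D.out ht
  rw [hi, ← zpow_add, ← orderOf_dvd_iff_zpow_eq_one, D.ord]
  exact D.hr2.trans ⟨i, by ring⟩

/-- The involution of the cyclic subgroup. -/
def Shape.z : T := D.x ^ (D.M / 2)

theorem Shape.M_pos [Finite T] : 0 < D.M := D.ord ▸ orderOf_pos D.x

theorem Shape.mem_center [Finite T] (hT : IsPGroup 2 T) {c : T} :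
    c ∈ Subgroup.center T ↔ c = 1 ∨ c = D.z := by
  have hM := D.M_pos
  obtain ⟨m, hm⟩ := D.four
  obtain ⟨s, hs⟩ := D.hr4
  have h2 : D.M / 2 = 2 * m := by omega
  have hMm : (D.M : ℤ) = 4 * m := by exact_mod_cast hm
  have : Fact (Nat.Prime 2) := ⟨Nat.prime_two⟩
  constructor
  · intro hc
    have hcx : c ∈ Subgroup.zpowers D.x := by
      by_contra h
      have h0 : D.x ^ (D.r - 1) = 1 := by
        rw [zpow_sub, zpow_one, ← (D.out h).1, ← Subgroup.mem_center_iff.1 hc D.x]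
        group
      rw [← orderOf_dvd_iff_zpow_eq_one, D.ord] at h0
      obtain ⟨j, hj⟩ := h0
      rw [hMm, mul_assoc] at hj
      generalize (m : ℤ) * j = w at hj
      omega
    obtain ⟨i, rfl⟩ := hcx
    have h0 : (D.x ^ i) ^ (D.r - 1) = 1 := by
      have h1 := Subgroup.mem_center_iff.1 hc D.y
      have h3 : D.y * D.x ^ i * D.y⁻¹ = D.x ^ i := by
        rw [h1, mul_inv_cancel_right]
      rw [← conj_zpow, D.conj, ← zpow_mul, mul_comm, zpow_mul] at h3
      rw [zpow_sub, zpow_one, h3, mul_inv_cancel]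
    obtain ⟨k, hk⟩ := IsPGroup.iff_orderOf.1 hT (D.x ^ i)
    have hk1 : (D.x ^ i) ^ 2 = 1 := by
      rw [← orderOf_dvd_iff_pow_eq_one, hk]
      rw [← orderOf_dvd_iff_zpow_eq_one, hk] at h0
      match k with
      | 0 => simp
      | 1 => simp
      | k + 2 =>
        exfalso
        have : (4 : ℤ) ∣ D.r - 1 := dvd_trans ⟨(2 : ℤ) ^ k, by push_cast; ring⟩ h0
        omega
    rw [← zpow_natCast, ← zpow_mul, ← orderOf_dvd_iff_zpow_eq_one, D.ord] at hk1
    obtain ⟨j, hj⟩ := hk1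
    rw [hMm] at hj
    have hi : i = (2 * m : ℕ) * j := by push_cast at hj ⊢; linarith
    subst hi
    beta_reduce
    rw [Shape.z, h2, zpow_mul, zpow_natCast]
    have hw : (D.x ^ (2 * m)) ^ (2 : ℤ) = 1 := by
      rw [show (2 : ℤ) = ((2 : ℕ) : ℤ) from rfl, zpow_natCast, ← pow_mul,
        ← orderOf_dvd_iff_pow_eq_one, D.ord]
      exact ⟨1, by omega⟩
    rcases Int.even_or_odd j with ⟨l, rfl⟩ | ⟨l, rfl⟩
    · left; rw [← two_mul, zpow_mul, hw, one_zpow]
    · right; rw [zpow_add_one, zpow_mul, hw, one_zpow, one_mul]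
  · rintro (rfl | rfl)
    · exact Subgroup.one_mem _
    rw [Subgroup.mem_center_iff, Shape.z, h2]
    have hy : D.y * D.x ^ (2 * m) * D.y⁻¹ = D.x ^ (2 * m) := by
      rw [← conj_pow, D.conj, ← zpow_natCast, ← zpow_mul, ← zpow_natCast, zpow_eq_zpow_iff_modEq,
        D.ord, Int.modEq_iff_dvd]
      exact ⟨1 - 2 * s, by rw [hMm]; push_cast; linear_combination -(2 : ℤ) * m * hs⟩
    intro t
    rcases D.cov t with ⟨i, rfl⟩ | ⟨i, hi⟩
    · exact ((Commute.refl D.x).zpow_left i).pow_right _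
    · have ht : t = D.x ^ i * D.y := by rw [show D.x ^ i = t * D.y⁻¹ from hi]; group
      rw [ht, mul_assoc, show D.y * D.x ^ (2 * m) = D.x ^ (2 * m) * D.y from
        mul_inv_eq_iff_eq_mul.1 hy, ← mul_assoc,
        (((Commute.refl D.x).zpow_left i).pow_right (2 * m)).eq, mul_assoc]

/-- Elements of exponent four in the cyclic subgroup are powers of any one of order four. -/
theorem Shape.four_mem [Finite T] {a w : T} (ha : a ∈ Subgroup.zpowers D.x)
    (hw : w ∈ Subgroup.zpowers D.x) (ha4 : a * a * (a * a) = 1) (ha2 : a * a ≠ 1)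
    (hw4 : w * w * (w * w) = 1) : w ∈ Subgroup.zpowers a := by
  have hM := D.M_pos
  obtain ⟨m, hm⟩ := D.four
  have hMm : (D.M : ℤ) = 4 * m := by exact_mod_cast hm
  have hm0 : (m : ℤ) ≠ 0 := by omega
  obtain ⟨i, rfl⟩ := ha
  obtain ⟨k, rfl⟩ := hw
  simp only [← zpow_add] at ha4 ha2 hw4
  rw [← orderOf_dvd_iff_zpow_eq_one, D.ord, hMm] at ha4 hw4
  rw [Ne, ← orderOf_dvd_iff_zpow_eq_one, D.ord, hMm] at ha2
  obtain ⟨u, hu⟩ := ha4
  obtain ⟨v, hv⟩ := hw4
  have hu' : i = m * u := by linarith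
  have hv' : k = m * v := by linarith
  have hodd : Odd u := by
    by_contra h
    obtain ⟨l, rfl⟩ := Int.not_odd_iff_even.1 h
    exact ha2 ⟨l, by rw [hu']; ring⟩
  obtain ⟨l, hl⟩ := hodd
  refine ⟨u * v, ?_⟩
  show (D.x ^ i) ^ (u * v) = D.x ^ k
  rw [← zpow_mul, zpow_eq_zpow_iff_modEq, D.ord, Int.modEq_iff_dvd, hMm, hu', hv', hl]
  exact ⟨-(l * (l + 1) * v), by ring⟩

theorem q8_center : ∀ c : QuaternionGroup 2, (∀ d, c * d = d * c) → c = 1 ∨ c = .a 2 := by
  decide +kernel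

/-- Let G be a finite solvable group with O(G) = 1 whose Sylow 2-subgroup T is dihedral of order at least 8 or semidihedral, with G ≠ T and Z(T) normal in G. Then G has a normal subgroup isomorphic to SL₂(3). -/
theorem result {G : Type*} [Group G] [Finite G] (hsol : IsSolvable G) (hO : Cfsg.oddCore G = ⊥) (T : Sylow 2 G) (hT : (∃ n : ℕ, 4 ≤ n ∧ Nonempty (↥(T : Subgroup G) ≃* DihedralGroup n)) ∨ Cfsg.IsQuasiDihedral ↥(T : Subgroup G)) (hne : (T : Subgroup G) ≠ ⊤) (hZ : ((T : Subgroup G) ⊓ Subgroup.centralizer ((T : Subgroup G) : Set G)).Normal) : ∃ U : Subgroup G, U.Normal ∧ Nonempty (↥U ≃* Matrix.SpecialLinearGroup (Fin 2) (ZMod 3)) := by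
  classical
  have hp : Fact (Nat.Prime 2) := ⟨Nat.prime_two⟩
  obtain ⟨D⟩ := exists_shape T.2 hT
  set zG : G := (D.z : G) with hzG
  have hZmem : ∀ v : G, v ∈ (T : Subgroup G) ⊓ Subgroup.centralizer ((T : Subgroup G) : Set G) ↔
      v = 1 ∨ v = zG := by
    intro v
    constructor
    · rintro ⟨hv, hvc⟩
      have hcc : (⟨v, hv⟩ : (T : Subgroup G)) ∈ Subgroup.center (T : Subgroup G) :=
        Subgroup.mem_center_iff.2 fun w => Subtype.ext (hvc w w.2)
      rcases (D.mem_center T.2).1 hcc with h | h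
      · exact Or.inl (congrArg Subtype.val h)
      · exact Or.inr (congrArg Subtype.val h)
    · rintro (rfl | rfl)
      · exact Subgroup.one_mem _
      · exact ⟨D.z.2, fun w hw => congrArg Subtype.val
          (Subgroup.mem_center_iff.1 ((D.mem_center T.2).2 (Or.inr rfl)) ⟨w, hw⟩)⟩
  have hzc : ∀ g : G, g * zG = zG * g := fun g => by
    rcases (hZmem _).1 (hZ.conj_mem zG ((hZmem _).2 (Or.inr rfl)) g) with h | h
    · have : zG = 1 := by
        calc zG = g⁻¹ * (g * zG * g⁻¹) * g := by group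
          _ = 1 := by rw [h]; group
      simp [this]
    · exact mul_inv_eq_iff_eq_mul.1 h
  set Q := pCore 2 G with hQ
  have hQn : Q.Normal := inferInstanceAs (pCore 2 G).Normal
  have hQp : IsPGroup 2 Q := Agent.Fusion.Normal.pCore_isPGroup 2 G
  have hQT : Q ≤ (T : Subgroup G) := by
    obtain ⟨R, hR⟩ := hQp.exists_le_sylow
    obtain ⟨c, hc⟩ := MulAction.exists_smul_eq G R T
    intro v hv
    rw [← hc]
    exact ⟨c⁻¹ * v * c, hR (by simpa using hQn.conj_mem v hv c⁻¹), by simp [mul_assoc]⟩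
  have hCQ : Subgroup.centralizer (Q : Set G) ≤ Q := by
    have : Group.IsSolvable G := hsol
    exact Agent.PLocal.PSolvable.centralizer_pCore_le hO (Agent.PLocal.SolvableSeparable.isPSolvable_of_isSolvable 2 _)
  have hzQ : zG ∈ Q := hCQ fun q _ => hzc q
  -- an element of odd prime order
  obtain ⟨q, hq, hqd, g, hg⟩ : ∃ q, q.Prime ∧ q ≠ 2 ∧ ∃ g : G, orderOf g = q := by
    have h1 : (T : Subgroup G).index ≠ 1 := fun h => hne (Subgroup.index_eq_one.1 h)
    obtain ⟨q, hq, hqd⟩ := Nat.exists_prime_and_dvd h1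
    have := Fact.mk hq
    exact ⟨q, hq, fun h => T.not_dvd_index (h ▸ hqd),
      exists_prime_orderOf_dvd_card' q (hqd.trans (Subgroup.index_dvd_card _))⟩
  have hqodd : Odd q := hq.odd_of_ne_two hqd
  have hgodd : Odd (orderOf g) := hg ▸ hqodd
  have hgQ : ¬ ∀ v ∈ Q, g * v * g⁻¹ = v := by
    intro h
    have hgQ : g ∈ Q := hCQ fun v hv => (mul_inv_eq_iff_eq_mul.1 (h v hv)).symm
    obtain ⟨k, hk⟩ := IsPGroup.iff_orderOf.1 hQp ⟨g, hgQ⟩
    rw [Subgroup.orderOf_mk, hg] at hk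
    exact hqd ((Nat.prime_dvd_prime_iff_eq hq Nat.prime_two).1
      (hq.dvd_of_dvd_pow (show q ∣ 2 ^ k from dvd_of_eq hk)))
  -- the intersection with the cyclic subgroup
  set C : Subgroup G := (Subgroup.zpowers D.x).map (T : Subgroup G).subtype with hC
  have hCmem : ∀ v (hv : v ∈ (T : Subgroup G)), v ∈ C ↔
      (⟨v, hv⟩ : (T : Subgroup G)) ∈ Subgroup.zpowers D.x := fun v hv =>
    ⟨fun ⟨w, hw, he⟩ => by rwa [show (⟨v, hv⟩ : (T : Subgroup G)) = w from Subtype.ext he.symm],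
      fun h => ⟨_, h, rfl⟩⟩
  have hout : ∀ v ∈ Q, ∀ w ∈ Q, v ∉ C → w ∉ C → w * v⁻¹ ∈ C := by
    intro v hv w hw hvC hwC
    rw [hCmem _ (hQT hv)] at hvC
    rw [hCmem _ (hQT hw)] at hwC
    rw [hCmem _ ((T : Subgroup G).mul_mem (hQT hw) ((T : Subgroup G).inv_mem (hQT hv)))]
    have := Subgroup.mul_mem _ ((D.cov _).resolve_left hwC)
      (Subgroup.inv_mem _ ((D.cov _).resolve_left hvC))
    rw [mul_inv_rev, inv_inv, mul_assoc, inv_mul_cancel_left] at this
    exact this
  obtain ⟨a, haQ, haC, hbC⟩ : ∃ a ∈ Q, a ∈ C ∧ g * a * g⁻¹ ∉ C := by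
    by_contra hcon
    push Not at hcon
    have hgR : g ∈ Subgroup.normalizer ((Q ⊓ C : Subgroup G) : Set G) :=
      Agent.Fusion.Saturation.mem_normalizer_of_forall fun v hv =>
        ⟨hQn.conj_mem v hv.1 g, hcon v hv.1 hv.2⟩
    have : IsCyclic C := (Subgroup.equivMapOfInjective (Subgroup.zpowers D.x) _
      (Subgroup.subtype_injective _)).isCyclic.1 inferInstance
    have : IsCyclic ↥(Q ⊓ C) :=
      (Subgroup.subgroupOfEquivOfLe (inf_le_right : Q ⊓ C ≤ C)).isCyclic.1 inferInstance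
    have hφ := PLocal.QuaternionSection.aut_cyclic (hQp.to_le inf_le_left)
      ((Q ⊓ C).normalizerMonoidHom ⟨g, hgR⟩)
      (hgodd.of_dvd_nat ((orderOf_map_dvd _ _).trans (by rw [Subgroup.orderOf_mk])))
    have hfix : ∀ v ∈ Q, v ∈ C → g * v * g⁻¹ = v := fun v hv hvC => by
      have := congrArg (fun φ : MulAut ↥(Q ⊓ C) => ((φ ⟨v, hv, hvC⟩ : ↥(Q ⊓ C)) : G)) hφ
      exact this
    refine hgQ fun v hv => ?_
    by_cases hvC : v ∈ C
    · exact hfix v hv hvC
    have hv'C : g * v * g⁻¹ ∉ C := by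
      intro h
      have h1 := hfix _ (hQn.conj_mem v hv g) h
      have : g * v * g⁻¹ = v := by
        calc g * v * g⁻¹ = g⁻¹ * (g * (g * v * g⁻¹) * g⁻¹) * g := by group
          _ = g⁻¹ * (g * v * g⁻¹) * g := by rw [h1]
          _ = v := by group
      exact hvC (this ▸ h)
    set r := g * v * g⁻¹ * v⁻¹
    have hrC : r ∈ C := hout v hv _ (hQn.conj_mem v hv g) hvC hv'C
    have hrQ : r ∈ Q := Q.mul_mem (hQn.conj_mem v hv g) (Q.inv_mem hv)
    have hn : ∀ n : ℕ, g ^ n * v * (g ^ n)⁻¹ = r ^ n * v := by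
      intro n
      induction n with
      | zero => simp
      | succ n ih =>
        calc g ^ (n + 1) * v * (g ^ (n + 1))⁻¹ = g * (g ^ n * v * (g ^ n)⁻¹) * g⁻¹ := by
              rw [pow_succ']; group
          _ = (g * r * g⁻¹) ^ n * (g * v * g⁻¹) := by rw [ih, conj_pow]; group
          _ = r ^ n * (r * v) := by rw [hfix r hrQ hrC]; congr 1; simp only [r]; group
          _ = _ := by rw [pow_succ]; exact (mul_assoc _ _ _).symm
    have hr1 : r ^ orderOf g = 1 := by
      have := hn (orderOf g)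
      rw [pow_orderOf_eq_one, one_mul, inv_one, mul_one] at this
      exact mul_eq_right.1 this.symm
    obtain ⟨k, hk⟩ := hQp ⟨r, hrQ⟩
    exact mul_inv_eq_one.1 (PLocal.QuaternionSection.eq_one_of_pow_two_pow
      (hgodd.of_dvd_nat (orderOf_dvd_of_pow_eq_one hr1)) (congrArg Subtype.val hk))
  set b := g * a * g⁻¹ with hbdef
  have hbQ : b ∈ Q := hQn.conj_mem a haQ g
  have haT := hQT haQ
  have hbT := hQT hbQ
  rw [hCmem _ haT] at haC
  have hbC' : (⟨b, hbT⟩ : (T : Subgroup G)) ∉ Subgroup.zpowers D.x := fun h =>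
    hbC ((hCmem _ hbT).2 h)
  have ha4 : a * a * (a * a) = 1 := by
    have h := congrArg Subtype.val (D.out_four hbC')
    simp only [Subgroup.coe_mul, OneMemClass.coe_one, b] at h
    calc a * a * (a * a) = g⁻¹ * (g * a * g⁻¹ * (g * a * g⁻¹) * (g * a * g⁻¹ * (g * a * g⁻¹))) * g := by
          group
      _ = 1 := by rw [h]; group
  have haz : a * a = zG := by
    have hcc : ∀ w : (T : Subgroup G), w ∈ Subgroup.zpowers D.x → w * w = 1 → w = 1 ∨ w = D.z := by
      intro w hw hw2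
      refine (D.mem_center T.2).1 (Subgroup.mem_center_iff.2 ?_)
      obtain ⟨i, rfl⟩ := hw
      intro u
      rcases D.cov u with hu | hu
      · obtain ⟨k, rfl⟩ := hu; exact (Commute.zpow_zpow (Commute.refl D.x) k i)
      · by_cases hu' : u ∈ Subgroup.zpowers D.x
        · obtain ⟨k, rfl⟩ := hu'; exact (Commute.zpow_zpow (Commute.refl D.x) k i)
        obtain ⟨e, he⟩ := D.hr4
        have h1 : u * D.x ^ i * u⁻¹ = D.x ^ i := by
          rw [← conj_zpow, (D.out hu').1, ← zpow_mul, mul_comm, zpow_mul,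
            show D.r = 2 * (2 * e - 1) + 1 by omega, zpow_add, zpow_mul, zpow_two, hw2, one_zpow,
            one_mul, zpow_one]
        exact mul_inv_eq_iff_eq_mul.1 h1
    have hab : a * a ≠ 1 := by
      intro h
      rcases hcc _ haC (Subtype.ext h) with e | e
      · have e' : a = 1 := congrArg Subtype.val e
        exact hbC (by rw [hbdef, e', mul_one, mul_inv_cancel]; exact C.one_mem)
      · have e' : a = zG := congrArg Subtype.val e
        refine hbC ?_
        rw [hbdef, e', hzc g, mul_inv_cancel_right, hCmem _ D.z.2]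
        exact Subgroup.pow_mem _ (Subgroup.mem_zpowers _) _
    rcases hcc _ (Subgroup.mul_mem _ haC haC) (Subtype.ext ha4) with e | e
    · exact absurd (congrArg Subtype.val e) hab
    · exact congrArg Subtype.val e
  have hz1 : zG ≠ 1 := by
    intro h
    have hz' : D.z = 1 := Subtype.ext h
    rw [Shape.z, ← orderOf_dvd_iff_pow_eq_one, D.ord] at hz'
    obtain ⟨m, hm⟩ := D.four
    have := D.M_pos
    have := Nat.le_of_dvd (by omega) hz'
    omega
  have hbz : b * b = zG := by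
    calc b * b = g * (a * a) * g⁻¹ := by rw [hbdef]; group
      _ = zG := by rw [haz, hzc, mul_inv_cancel_right]
  have hba : b * a * b⁻¹ = a⁻¹ := by
    obtain ⟨e, he⟩ := D.hr4
    obtain ⟨i, hi⟩ := haC
    have h1 : (⟨b, hbT⟩ : (T : Subgroup G)) * D.x ^ i * ⟨b, hbT⟩⁻¹ = (D.x ^ i) ^ D.r := by
      rw [← conj_zpow, (D.out hbC').1, ← zpow_mul, mul_comm, zpow_mul]
    have h2 := congrArg Subtype.val h1
    simp only [Subgroup.coe_mul, Subgroup.coe_inv, Subgroup.coe_zpow] at h2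
    rw [show ((D.x : G) ^ i) = a from congrArg Subtype.val hi] at h2
    rw [h2, show D.r = 4 * e + (-1) by omega, zpow_add, zpow_mul,
      show a ^ (4 : ℤ) = 1 from by rw [show (4 : ℤ) = 2 + 2 from rfl, zpow_add, zpow_two]; exact ha4,
      one_zpow, one_mul, zpow_neg_one]
  have hord : orderOf a = 2 * 2 := by
    refine orderOf_eq_prime_pow (p := 2) (n := 1) ?_ ?_
    · rw [pow_one, sq, haz]; exact hz1
    · rw [show (2 : ℕ) ^ (1 + 1) = 2 + 2 from rfl, pow_add, sq]; exact ha4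
  have hba' : b ∉ Subgroup.zpowers a := fun h => hbC (by
    obtain ⟨k, hk⟩ := h
    rw [← hk]
    exact Subgroup.zpow_mem _ ((hCmem _ haT).2 haC) k)
  obtain ⟨f, hf⟩ := Agent.Classical.CyclicExt.exists_quaternion_hom (n := 2) (⟨a, haQ⟩ : Q) ⟨b, hbQ⟩
    (by rw [Subgroup.orderOf_mk]; exact hord) (Subtype.ext (by
      show b * b = a ^ 2
      rw [sq, haz, hbz]))
    (Subtype.ext hba) (by
      rintro ⟨k, hk⟩
      exact hba' ⟨k, by simpa using congrArg Subtype.val hk⟩)
  -- `Q` has order eight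
  have hRa : ∀ w ∈ Q, w ∈ C → w ∈ Subgroup.zpowers a := by
    intro w hw hwC
    have key : ∀ w : G, w ∈ Q → w ∈ C → w * w * (w * w) = 1 → w ∈ Subgroup.zpowers a := by
      intro w hw hwC h4
      have h := D.four_mem haC ((hCmem _ (hQT hw)).1 hwC) (Subtype.ext ha4)
        (fun e => hz1 (haz ▸ congrArg Subtype.val e)) (Subtype.ext h4)
      obtain ⟨k, hk⟩ := h
      exact ⟨k, by simpa using congrArg Subtype.val hk⟩
    by_cases h4 : w * w * (w * w) = 1
    · exact key w hw hwC h4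
    exfalso
    obtain ⟨k, hk⟩ := IsPGroup.iff_orderOf.1 hQp ⟨w, hw⟩
    rw [Subgroup.orderOf_mk] at hk
    match k, hk with
    | 0, hk => exact h4 (by simp [orderOf_eq_one_iff.1 hk])
    | 1, hk =>
      refine h4 ?_
      have : w * w = 1 := by rw [← sq, ← pow_one 2, ← hk]; exact pow_orderOf_eq_one w
      rw [this, one_mul]
    | k + 2, hk =>
      set u := w ^ 2 ^ k
      have hu4 : u * u * (u * u) = 1 := by
        rw [← pow_add, ← pow_add, ← orderOf_dvd_iff_pow_eq_one, hk]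
        exact ⟨1, by ring⟩
      obtain ⟨j, hj⟩ := key u (Q.pow_mem hw _) (C.pow_mem hwC _) hu4
      -- `u` has order four, so `a` is a power of it
      have hu2 : u * u ≠ 1 := by
        rw [← pow_add, ← two_mul, ← pow_succ']
        exact pow_ne_one_of_lt_orderOf (by positivity)
          (hk ▸ Nat.pow_lt_pow_right one_lt_two (by omega))
      have huT : u ∈ (T : Subgroup G) := hQT (Q.pow_mem hw _)
      have h := D.four_mem ((hCmem _ huT).1 (C.pow_mem hwC _)) haC (Subtype.ext hu4)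
        (fun e => hu2 (congrArg Subtype.val e)) (Subtype.ext ha4)
      obtain ⟨l, hl⟩ := h
      have hwC' : g * w * g⁻¹ ∈ C := by
        by_contra hc
        have h5 := congrArg Subtype.val (D.out_four (t := ⟨_, hQT (hQn.conj_mem w hw g)⟩)
          fun h => hc ((hCmem _ _).2 h))
        simp only [Subgroup.coe_mul, OneMemClass.coe_one] at h5
        exact h4 (by
          calc w * w * (w * w) = g⁻¹ * (g * w * g⁻¹ * (g * w * g⁻¹) *
              (g * w * g⁻¹ * (g * w * g⁻¹))) * g := by group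
            _ = 1 := by rw [h5]; group)
      refine hbC ?_
      have hla : u ^ l = a := by simpa using congrArg Subtype.val hl
      rw [hbdef, ← hla, ← conj_zpow, ← conj_pow]
      exact C.zpow_mem (C.pow_mem hwC' _) _
  have hfsurj : Function.Surjective f := by
    have hle : Nat.card Q ≤ 8 := by
      let s : Subgroup.zpowers a × Fin 2 → G := fun u => if u.2 = 0 then (u.1 : G) else (u.1 : G) * b
      have hs : ∀ v : Q, ∃ u, s u = (v : G) := by
        rintro ⟨v, hv⟩
        by_cases hvC : v ∈ C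
        · exact ⟨(⟨v, hRa v hv hvC⟩, 0), rfl⟩
        · exact ⟨(⟨v * b⁻¹, hRa _ (Q.mul_mem hv (Q.inv_mem hbQ)) (hout b hbQ v hv hbC hvC)⟩, 1),
            by simp [s]⟩
      choose u hu using hs
      refine le_trans (Nat.card_le_card_of_injective u fun x y h => Subtype.ext ?_) ?_
      · rw [← hu x, ← hu y, h]
      · rw [Nat.card_prod, Nat.card_zpowers, hord, Nat.card_fin]
    have h8 : Nat.card (QuaternionGroup 2) = 8 := by rw [Nat.card_eq_fintype_card, QuaternionGroup.card]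
    have := Finite.of_injective f hf
    exact ((Nat.bijective_iff_injective_and_card f).2
      ⟨hf, le_antisymm (Nat.card_le_card_of_injective f hf) (h8.symm ▸ hle)⟩).2
  let eQ : Q ≃* QuaternionGroup 2 := (MulEquiv.ofBijective f ⟨hf, hfsurj⟩).symm
  have hQ8 : Nat.card Q = 8 := by
    rw [Nat.card_congr eQ.toEquiv, Nat.card_eq_fintype_card, QuaternionGroup.card]
  -- the order of `G`
  set ψ := MulAut.conjNormal (H := Q)
  have hker : Nat.card ψ.ker ≤ 2 := by
    have hmem : ∀ c : ψ.ker, (c : G) = 1 ∨ (c : G) = eQ.symm (.a 2) := by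
      rintro ⟨c, hc⟩
      have hcQ : c ∈ Q := hCQ fun v hv => by
        have := congrArg (fun φ : MulAut Q => ((φ ⟨v, hv⟩ : Q) : G)) hc
        simp only [ψ, MulAut.conjNormal_apply, MulAut.one_apply] at this
        exact (mul_inv_eq_iff_eq_mul.1 this).symm
      have hcc : ∀ d, eQ ⟨c, hcQ⟩ * d = d * eQ ⟨c, hcQ⟩ := by
        intro d
        obtain ⟨v, rfl⟩ := eQ.surjective d
        rw [← map_mul, ← map_mul]
        congr 1
        have := congrArg (fun φ : MulAut Q => ((φ v : Q) : G)) hc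
        simp only [ψ, MulAut.conjNormal_apply, MulAut.one_apply] at this
        exact Subtype.ext (mul_inv_eq_iff_eq_mul.1 this)
      rcases q8_center _ hcc with h | h
      · exact Or.inl (congrArg Subtype.val ((MulEquiv.map_eq_one_iff eQ).1 h))
      · exact Or.inr (congrArg Subtype.val (eQ.eq_symm_apply.2 h))
    refine le_trans (Nat.card_le_card_of_injective
      (fun c : ψ.ker => decide ((c : G) = 1)) fun c d h => Subtype.ext ?_) (by simp)
    simp only [decide_eq_decide] at h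
    rcases hmem c with hc | hc <;> rcases hmem d with hd | hd
    · rw [hc, hd]
    · rw [hc, h.1 hc]
    · rw [hd, h.2 hd]
    · rw [hc, hd]
  have haut : Nat.card (MulAut Q) = 24 := by
    rw [Nat.card_congr (MulAut.congr eQ).toEquiv, Agent.Perm.AutQuaternion.natCard_mulAut]
  have hrange : Nat.card ψ.range ∣ 24 := haut ▸ Subgroup.card_subgroup_dvd_card _
  have hG48 : Nat.card G ≤ 48 := by
    rw [← Subgroup.card_mul_index ψ.ker, Subgroup.index_ker]
    exact le_trans (Nat.mul_le_mul hker (Nat.le_of_dvd (by norm_num) hrange)) le_rfl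
  have hψg : ψ g ≠ 1 := fun h => hgQ fun v hv => by
    have := congrArg (fun φ : MulAut Q => ((φ ⟨v, hv⟩ : Q) : G)) h
    simpa [ψ, MulAut.conjNormal_apply] using this
  have hq3 : q = 3 := by
    have h1 : orderOf (ψ g) ∣ q := hg ▸ orderOf_map_dvd ψ g
    have h2 : orderOf (ψ g) = q := ((Nat.dvd_prime hq).1 h1).resolve_left
      (by rw [orderOf_eq_one_iff]; exact hψg)
    have h3 : q ∣ 24 := by rw [← h2, ← haut]; exact orderOf_dvd_natCard _
    have h4 : q ∣ 3 := (Nat.Coprime.dvd_of_dvd_mul_left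
      ((Nat.coprime_primes hq Nat.prime_two).2 hqd |>.pow_right 3) (show q ∣ 2 ^ 3 * 3 from h3))
    exact (Nat.prime_dvd_prime_iff_eq hq Nat.prime_three).1 h4
  subst hq3
  set U := Q ⊔ Subgroup.zpowers g with hU
  have hgU : g ∈ U := Subgroup.mem_sup_right (Subgroup.mem_zpowers g)
  have hU24 : Nat.card U = 24 := by
    refine le_antisymm ?_ ?_
    · have hs : ∀ v : U, ∃ u : Q × Subgroup.zpowers g, (u.1 : G) * u.2 = v := by
        rintro ⟨v, hv⟩
        obtain ⟨x, hx, y, hy, rfl⟩ := Subgroup.mem_sup_of_normal_left.1 hv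
        exact ⟨(⟨x, hx⟩, ⟨y, hy⟩), rfl⟩
      choose u hu using hs
      refine le_trans (Nat.card_le_card_of_injective u fun x y h => Subtype.ext ?_) ?_
      · rw [← hu x, ← hu y, h]
      · rw [Nat.card_prod, hQ8, Nat.card_zpowers, hg]
    · have h8 : 8 ∣ Nat.card U := hQ8 ▸ Subgroup.card_dvd_of_le le_sup_left
      have h3 : 3 ∣ Nat.card U := hg ▸ Subgroup.orderOf_dvd_natCard U hgU
      have := Nat.le_of_dvd Nat.card_pos ((show Nat.Coprime 8 3 by norm_num).mul_dvd_of_dvd_of_dvd h8 h3)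
      omega
  have hUi : U.index ≤ 2 := by
    have := U.card_mul_index
    rw [hU24] at this
    omega
  have hUn : U.Normal := by
    have h0 : U.index ≠ 0 := Subgroup.index_ne_zero_of_finite
    rcases (show U.index = 1 ∨ U.index = 2 by omega) with h | h
    · rw [Subgroup.index_eq_one.1 h]; infer_instance
    · exact Subgroup.normal_of_index_eq_two h
  refine ⟨U, hUn, ?_⟩
  refine Agent.Perm.NearField.sl23_of_q8 (Q.subgroupOf U)
    ((Subgroup.subgroupOfEquivOfLe le_sup_left).trans eQ) hU24 ⟨g, hgU⟩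
    (by rw [Subgroup.orderOf_mk, hg]) fun h => hgQ fun v hv => ?_
  have := congrArg (fun φ : MulAut (Q.subgroupOf U) =>
    (((φ ⟨⟨v, Subgroup.mem_sup_left hv⟩, hv⟩ : Q.subgroupOf U) : U) : G)) h
  simpa [MulAut.conjNormal_apply] using this

end Cfsg.Agent.S2879
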