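import Cfsg.Statements.S2880
import Cfsg.Agent.Lib.PGroups.Extraspecial

set_option autoImplicit false
open Cfsg

namespace Cfsg.Agent.S2880

/-- Let E be an extraspecial 2-group of order 2^(2m+1) of plus type, that is, containing an elementary abelian subgroup of order 2^(m+1) (equivalently, a central product of m dihedral groups of order 8). Then E has exactly 2^(2m) − 2^m elements of order 4. -/
theorem result {E : Type*} [Group E] [Finite E] (m : ℕ) (hm : 1 ≤ m) (hE : Cfsg.IsExtraspecial 2 E) (hcard : Nat.card E = 2 ^ (2 * m + 1)) (hplus : ∃ A : Subgroup E, Cfsg.IsElementaryAbelian 2 A ∧ Nat.card A = 2 ^ (m + 1)) : Nat.card {x : E // orderOf x = 4} = 2 ^ (2 * m) - 2 ^ m := by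
  classical
  have : Fact (Nat.Prime 2) := ⟨Nat.prime_two⟩
  obtain ⟨A, ⟨hAc, hA2⟩, hAcard⟩ := hplus
  have hE' := hE
  obtain ⟨⟨hEp, hfr, hcomm⟩, hZ⟩ := hE'
  set Z := Subgroup.center E
  have hsqZ : ∀ x : E, x ^ 2 ∈ Z := fun x => hfr ▸ Solvable.Basics.pow_mem_frattini hEp x
  have hcomZ : ∀ x a : E, x⁻¹ * a * x * a⁻¹ ∈ Z := fun x a => by
    have h := Subgroup.commutator_mem_commutator (Subgroup.mem_top x⁻¹) (Subgroup.mem_top a)
    rw [← commutator_def, hcomm, commutatorElement_def, inv_inv] at h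
    exact h
  have hZ2 : ∀ u v : E, u ∈ Z → v ∈ Z → u ≠ 1 → v ≠ 1 → u = v := by
    intro u v hu hv hu1 hv1
    by_contra hne
    have h3 : ({1, u, v} : Finset E).card = 3 := by
      rw [Finset.card_insert_of_notMem (by simp [Ne.symm hu1, Ne.symm hv1]),
        Finset.card_pair hne]
    have h4 : Nat.card ({1, u, v} : Finset E) ≤ Nat.card Z :=
      Nat.card_le_card_of_injective
        (fun w : ({1, u, v} : Finset E) => (⟨w.1, by
          rcases Finset.mem_insert.1 w.2 with h | h
          · rw [h]; exact one_mem _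
          rcases Finset.mem_insert.1 h with h' | h'
          · rwa [h']
          · rw [Finset.mem_singleton.1 h']; exact hv⟩ : Z))
        (fun w w' h => Subtype.ext (congrArg (fun z : Z => (z : E)) h))
    rw [Nat.card_eq_fintype_card, Fintype.card_coe, h3, hZ] at h4
    omega
  let N : Bool → Set E := fun b => {x | x ∉ A ∧ decide (x ^ 2 = 1) = b}
  let Fb : E → Set A := fun x => {a | ¬ Commute x a}
  -- every fibre has half the size of `A`
  have hFb : ∀ x ∉ A, Nat.card (Fb x) = 2 ^ m := by
    intro x hx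
    let f : A →* Z :=
      { toFun := fun a => ⟨x⁻¹ * a * x * (a : E)⁻¹, hcomZ x a⟩
        map_one' := by ext; simp
        map_mul' := fun a b => by
          ext
          show x⁻¹ * ((a : E) * b) * x * ((a : E) * b)⁻¹ =
            x⁻¹ * a * x * (a : E)⁻¹ * (x⁻¹ * b * x * (b : E)⁻¹)
          calc x⁻¹ * ((a : E) * b) * x * ((a : E) * b)⁻¹
              = x⁻¹ * a * x * ((x⁻¹ * b * x * (b : E)⁻¹) * (a : E)⁻¹) := by group
            _ = x⁻¹ * a * x * ((a : E)⁻¹ * (x⁻¹ * b * x * (b : E)⁻¹)) := by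
              rw [Subgroup.mem_center_iff.1 (hcomZ x b) (a : E)⁻¹]
            _ = _ := by group }
    have hker : ∀ a : A, a ∈ f.ker ↔ Commute x a := by
      intro a
      rw [MonoidHom.mem_ker, Subtype.ext_iff]
      show x⁻¹ * a * x * (a : E)⁻¹ = 1 ↔ _
      rw [mul_inv_eq_one, mul_assoc, inv_mul_eq_iff_eq_mul]
      exact eq_comm
    have hne : f.range ≠ ⊥ := by
      intro h0
      have hall : ∀ a : A, Commute x a := fun a => (hker a).1 (by
        rw [MonoidHom.range_eq_bot_iff] at h0; rw [h0]; rfl)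
      let X := Subgroup.closure ((A : Set E) ∪ {x})
      have : IsMulCommutative X := Subgroup.isMulCommutative_closure (by
        rintro a (ha | rfl) b (hb | rfl)
        · exact congrArg Subtype.val (hAc.is_comm.comm ⟨a, ha⟩ ⟨b, hb⟩)
        · exact (hall ⟨a, ha⟩).eq.symm
        · exact (hall ⟨b, hb⟩).eq
        · rfl)
      have h1 := PGroups.Extraspecial.card_sq_le_of_abelian hE X
      obtain ⟨j, hj⟩ := IsPGroup.iff_card.1 (hEp.to_subgroup X)
      have hlt : A < X := lt_of_le_of_ne (fun a ha => Subgroup.subset_closure (Or.inl ha))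
        fun h => hx (h ▸ Subgroup.subset_closure (Or.inr rfl))
      have h2 : Nat.card A < Nat.card X := by
        by_contra hle
        exact hlt.ne (Subgroup.eq_of_le_of_card_ge hlt.le (not_lt.1 hle))
      rw [hj, hAcard] at h2
      have h5 : m + 1 < j := (Nat.pow_lt_pow_iff_right (by norm_num)).1 h2
      rw [hj, hcard, ← pow_mul, ← pow_succ'] at h1
      have := (Nat.pow_le_pow_iff_right (by norm_num : 1 < 2)).1 h1
      omega
    have hr : Nat.card f.range = 2 := by
      have h1 := Subgroup.card_subgroup_dvd_card f.range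
      rw [hZ] at h1
      rcases (Nat.dvd_prime Nat.prime_two).1 h1 with h | h
      · exact absurd (Subgroup.eq_bot_of_card_eq _ h) hne
      · exact h
    have hk := Subgroup.index_ker f
    have hi := f.ker.card_mul_index
    rw [hk, hr, hAcard, pow_succ] at hi
    have hk2 : Nat.card f.ker = 2 ^ m := by omega
    have hcompl : Nat.card (Fb x) + Nat.card f.ker = Nat.card A := by
      rw [← Nat.card_congr (Equiv.sumCompl (fun a : A => a ∈ f.ker)), Nat.card_sum, add_comm]
      congr 1
      exact Nat.card_congr (Equiv.subtypeEquivRight fun a => (not_congr (hker a)).symm)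
    rw [hk2, hAcard, pow_succ] at hcompl
    omega
  have key : ∀ (x : E) (a : A), ¬ Commute x a →
      ¬ Commute (x * a) a ∧ ((x * a) ^ 2 = 1 ↔ ¬ x ^ 2 = 1) := by
    intro x a hxa
    have ha2 : (a : E) * a = 1 := by rw [← pow_two]; exact hA2 a a.2
    refine ⟨fun h => hxa ?_, fun h hx2 => hxa ?_, fun hx2 => ?_⟩
    · have h1 : x * a * a = a * (x * a) := h.eq
      calc x * (a : E) = x * a * a * a := by rw [mul_assoc _ (a : E) a, ha2, mul_one]
        _ = a * (x * a) * a := by rw [h1]
        _ = a * x := by rw [mul_assoc (a : E), mul_assoc x, ha2, mul_one]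
    · have h1 : x * a = (x * a)⁻¹ := eq_inv_of_mul_eq_one_left (by rwa [← pow_two])
      have hxinv : x⁻¹ = x := inv_eq_of_mul_eq_one_right (by rwa [← pow_two])
      have hainv : (a : E)⁻¹ = a := inv_eq_of_mul_eq_one_right ha2
      show x * a = a * x
      rw [h1, mul_inv_rev, hainv, hxinv]
    · have hc : x⁻¹ * a * x * (a : E)⁻¹ ≠ 1 := by
        intro h
        rw [mul_inv_eq_one, mul_assoc, inv_mul_eq_iff_eq_mul] at h
        exact hxa h.symm
      have heq := hZ2 _ _ (hsqZ x) (hcomZ x a) hx2 hc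
      have hainv : (a : E)⁻¹ = a := inv_eq_of_mul_eq_one_right ha2
      calc (x * a) ^ 2 = x ^ 2 * (x⁻¹ * a * x * (a : E)⁻¹) := by
            rw [hainv, pow_two, pow_two]; group
        _ = x ^ 2 * x ^ 2 := by rw [← heq]
        _ = 1 := by
            rw [← pow_add]
            exact PGroups.Extraspecial.pow_prime_sq hE x
  have hpair : ∀ b, Nat.card (Σ x : N b, Fb x) ≤ Nat.card (Σ x : N (!b), Fb x) := by
    intro b
    have hmem : ∀ t : (Σ x : N b, Fb x),
        ((t.1 : E) * (t.2 : A)) ∈ N (!b) ∧ (t.2 : A) ∈ Fb ((t.1 : E) * (t.2 : A)) := by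
      rintro ⟨⟨x, hx, hb⟩, ⟨a, ha⟩⟩
      obtain ⟨h1, h2⟩ := key x a ha
      refine ⟨⟨fun h => hx ?_, ?_⟩, h1⟩
      · simpa using mul_mem h (inv_mem a.2)
      · by_cases hx2 : x ^ 2 = 1
        · rw [decide_eq_true hx2] at hb
          subst hb
          exact decide_eq_false fun h => h2.1 h hx2
        · rw [decide_eq_false hx2] at hb
          subst hb
          exact decide_eq_true (h2.2 hx2)
    refine Nat.card_le_card_of_injective
      (fun t => (⟨⟨_, (hmem t).1⟩, ⟨_, (hmem t).2⟩⟩ : Σ x : N (!b), Fb x)) ?_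
    rintro ⟨⟨x, hx⟩, ⟨a, ha⟩⟩ ⟨⟨y, hy⟩, ⟨c, hc⟩⟩ h
    have h1 : x * (a : E) = y * c :=
      congrArg (fun t : (Σ x : N (!b), Fb x) => (t.1 : E)) h
    have h2 : a = c := congrArg (fun t : (Σ x : N (!b), Fb x) => (t.2 : A)) h
    subst h2
    obtain rfl := mul_right_cancel h1
    rfl
  have hsig : ∀ b, Nat.card (Σ x : N b, Fb x) = Nat.card (N b) * 2 ^ m := by
    intro b
    haveI := Fintype.ofFinite (N b)
    rw [Nat.card_sigma, Finset.sum_congr rfl fun (x : N b) _ => hFb (x : E) x.2.1, Finset.sum_const,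
      Finset.card_univ, smul_eq_mul, Nat.card_eq_fintype_card (α := N b)]
  have heq : Nat.card (N true) = Nat.card (N false) := by
    have h1 := hpair true
    have h2 := hpair false
    rw [hsig, hsig] at h1 h2
    exact le_antisymm (Nat.le_of_mul_le_mul_right h1 (by positivity))
      (Nat.le_of_mul_le_mul_right h2 (by positivity))
  have htot : Nat.card (N true) + Nat.card (N false) + Nat.card A = Nat.card E := by
    rw [← Nat.card_congr (Equiv.sumCompl (fun x : E => x ∈ A)), Nat.card_sum,
      add_comm _ (Nat.card A)]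
    congr 1
    rw [← Nat.card_sum]
    refine Nat.card_congr
      { toFun := Sum.elim (fun t => ⟨t.1, t.2.1⟩) (fun t => ⟨t.1, t.2.1⟩)
        invFun := fun x => if h : (x : E) ^ 2 = 1 then Sum.inl ⟨x, x.2, decide_eq_true h⟩
          else Sum.inr ⟨x, x.2, decide_eq_false h⟩
        left_inv := ?_
        right_inv := fun x => by by_cases h : (x : E) ^ 2 = 1 <;> simp [h] }
    rintro (⟨x, hx, h⟩ | ⟨x, hx, h⟩)
    · simp [of_decide_eq_true h]
    · simp [of_decide_eq_false h]
  have hfour : Nat.card {x : E // orderOf x = 4} = Nat.card (N false) := by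
    refine Nat.card_congr (Equiv.subtypeEquivRight fun x => ?_)
    constructor
    · intro h
      refine ⟨fun hxA => ?_, decide_eq_false fun h2 => ?_⟩
      · have := orderOf_dvd_of_pow_eq_one (hA2 x hxA)
        rw [h] at this; omega
      · have := orderOf_dvd_of_pow_eq_one h2
        rw [h] at this; omega
    · rintro ⟨-, h2⟩
      exact orderOf_eq_prime_pow (p := 2) (n := 1) (by simpa using of_decide_eq_false h2)
        (PGroups.Extraspecial.pow_prime_sq hE x)
  rw [hfour]
  have e1 : 2 ^ (2 * m + 1) = 2 * 2 ^ (2 * m) := by rw [pow_succ']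
  have e2 : 2 ^ (m + 1) = 2 * 2 ^ m := by rw [pow_succ']
  rw [hcard, hAcard, e1, e2] at htot
  omega

end Cfsg.Agent.S2880
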