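import Cfsg.Statements.S2881
import Cfsg.Agent.S2880

set_option autoImplicit false
open Cfsg

namespace Cfsg.Agent.S2881

/-- Let E be an extraspecial 2-group of order 2^(2m+1) of plus type (containing an elementary abelian subgroup of order 2^(m+1)), and let ω be an automorphism of E of order 5 whose fixed points are exactly the centre of E. Then m is divisible by 4. -/
theorem result {E : Type*} [Group E] [Finite E] (m : ℕ) (hm : 1 ≤ m) (hE : Cfsg.IsExtraspecial 2 E) (hcard : Nat.card E = 2 ^ (2 * m + 1)) (hplus : ∃ A : Subgroup E, Cfsg.IsElementaryAbelian 2 A ∧ Nat.card A = 2 ^ (m + 1)) (ω : E ≃* E) (hω : orderOf ω = 5) (hfix : ∀ x : E, ω x = x ↔ x ∈ Subgroup.center E) : 4 ∣ m := by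
  classical
  have : Fact (Nat.Prime 5) := ⟨by norm_num⟩
  have hcount := Cfsg.Agent.S2880.result m hm hE hcard hplus
  let X := {x : E // orderOf x = 4}
  have hinj : ∀ x : E, orderOf (ω x) = orderOf x := fun x => MulEquiv.orderOf_eq ω x
  let f : X → X := fun x => ⟨ω x, (hinj x).trans x.2⟩
  have hbij : Function.Bijective f := Finite.injective_iff_bijective.1 fun a b h =>
    Subtype.ext (ω.injective (congrArg Subtype.val h))
  have : Fintype X := Fintype.ofFinite X
  let σ : Equiv.Perm X := Equiv.ofBijective f hbij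
  have hpow : ∀ (n : ℕ) (x : X), (((σ ^ n) x : X) : E) = (ω ^ n) (x : E) := by
    intro n
    induction n with
    | zero => intro x; simp
    | succ n ih =>
      intro x
      rw [pow_succ' σ, Equiv.Perm.mul_apply, pow_succ' ω, MulAut.mul_apply]
      show ω ((σ ^ n) x : X) = _
      rw [ih]
  have hσ : σ ^ 5 ^ 1 = 1 := Equiv.ext fun x => Subtype.ext (by
    rw [hpow, pow_one, ← hω, pow_orderOf_eq_one]; rfl)
  have hsupp : σ.support = Finset.univ := by
    refine Finset.eq_univ_iff_forall.2 fun x => Equiv.Perm.mem_support.2 fun h => ?_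
    have h1 : (x : E) ∈ Subgroup.center E := (hfix x).1 (congrArg Subtype.val h)
    have h2 := Subgroup.orderOf_dvd_natCard (Subgroup.center E) h1
    rw [x.2, hE.2] at h2
    omega
  have hdvd : 5 ∣ Nat.card X := by
    have h1 := Equiv.Perm.card_compl_support_modEq (p := 5) (n := 1) hσ
    rw [hsupp, Finset.compl_univ, Finset.card_empty, ← Nat.card_eq_fintype_card] at h1
    exact Nat.modEq_zero_iff_dvd.1 h1.symm
  rw [hcount] at hdvd
  have e : 2 ^ (2 * m) - 2 ^ m = 2 ^ m * (2 ^ m - 1) := by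
    rw [Nat.mul_sub_one, ← pow_add, two_mul]
  rw [e] at hdvd
  have h5 : 5 ∣ 2 ^ m - 1 := (Nat.Coprime.pow_right m (by norm_num : Nat.Coprime 5 2)).dvd_of_dvd_mul_left hdvd
  have hm4 : 2 ^ m % 5 = 2 ^ (m % 4) % 5 := by
    conv_lhs => rw [← Nat.div_add_mod m 4]
    rw [pow_add, pow_mul, Nat.mul_mod, Nat.pow_mod]
    norm_num
  have h1le : 1 ≤ 2 ^ m := Nat.one_le_two_pow
  have hr : m % 4 = 0 ∨ m % 4 = 1 ∨ m % 4 = 2 ∨ m % 4 = 3 := by omega
  rcases hr with h | h | h | h <;> rw [h] at hm4 <;> omega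

end Cfsg.Agent.S2881
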