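import Cfsg.Statements.S2882
import Cfsg.Agent.Lib.Golay.SylowTwoGroups

set_option autoImplicit false
set_option maxRecDepth 20000
open Cfsg

namespace Cfsg.Agent.S2882

open Cfsg.Agent.Golay.Basic Cfsg.Agent.Golay.M24 Cfsg.Agent.Golay.Cert
  Cfsg.Agent.Golay.TabList Cfsg.Agent.Golay.SylowTwoData Cfsg.Agent.Golay.SylowTwo Cfsg.Agent.Golay.Trans
  Cfsg.Agent.Golay.Perm
open scoped Pointwise

local notation "pG" => Equiv.Perm GolayPt

attribute [local irreducible] mulTab pack tabPerm tabOK

set_option maxHeartbeats 500000 in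
theorem selfNormalizing {G : Subgroup pG} {inG : ℕ → Bool}
    (hG : ∀ t, tabOK t = true → inG t = true → tabPerm t ∈ G) {pc L D reps top : List ℕ}
    {idx : List (List ℕ)} {lv : List (ℕ × List ℕ)}
    (hl : listOK pc L idx = true) (hin : pc.all inG = true)
    (hrows : rowsOK L D reps = true) (hprop : propOK pc D reps = true) (htop : topOK D top = true)
    (hlv : levelsOK D lv = true) (htree : treeOK lv top = true) {m : ℕ}
    (hcard : Nat.card G = 2 ^ pc.length * m) (hm : ¬ 2 ∣ m) (S : Sylow 2 G) :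
    Subgroup.normalizer ((S : Subgroup G) : Set G) = (S : Subgroup G) := by
  haveI : Fact (Nat.Prime 2) := ⟨Nat.prime_two⟩
  obtain ⟨hTabL, hmemL, -⟩ := spec hl
  have hok : ∀ g ∈ pc, tabOK g = true := by
    have h := hl
    simp only [listOK, Bool.and_eq_true, List.all_eq_true] at h
    exact h.1.1.1.1
  have hPG : tabGroup pc ≤ G :=
    tabGroup_le_of fun g hg => hG g (hok g hg) (List.all_eq_true.1 hin g hg)
  set P0 : Subgroup G := (tabGroup pc).subgroupOf G with hP0
  have hP0card : Nat.card P0 = 2 ^ pc.length := by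
    rw [Nat.card_congr (Subgroup.subgroupOfEquivOfLe hPG).toEquiv, card_tabGroup hl]
  have hfac : (Nat.card G).factorization 2 = pc.length := by
    rw [Nat.factorization_def _ Nat.prime_two, hcard, padicValNat.mul (pow_ne_zero _ two_ne_zero)
      (by rintro rfl; exact hm (dvd_zero 2)), padicValNat.prime_pow, padicValNat.eq_zero_of_not_dvd hm,
      add_zero]
  obtain ⟨S0, hS0⟩ : ∃ S' : Sylow 2 G, (S' : Subgroup G) = P0 :=
    ⟨Sylow.ofCard P0 (by rw [hP0card, hfac]), rfl⟩
  have hS0m : ∀ x : G, x ∈ (S0 : Subgroup G) ↔ (x : pG) ∈ tabGroup pc := fun x => by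
    rw [hS0, hP0, Subgroup.mem_subgroupOf]
  have hN : Subgroup.normalizer ((S0 : Subgroup G) : Set G) = S0 := by
    refine S0.is_maximal' (fun x => ?_) Subgroup.le_normalizer
    obtain ⟨a, b, hb, hab⟩ := Nat.exists_eq_two_pow_mul_odd (n := orderOf x) (orderOf_pos x).ne'
    obtain ⟨k, rfl⟩ := hb
    refine ⟨a, ?_⟩
    have hyo : (x ^ 2 ^ a) ^ (2 * k + 1) = 1 := by rw [← pow_mul, ← hab, pow_orderOf_eq_one]
    generalize x ^ 2 ^ a = y at hyo ⊢
    have hy : (y : G) ∈ Subgroup.normalizer ((S0 : Subgroup G) : Set G) := y.2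
    have hn1 : ((y : G) : pG) = 1 := by
      refine eq_one_of_normalizes hl hrows hprop htop hlv htree (fun s => ?_) (k := k) ?_
      · constructor
        · intro hs
          exact (hS0m _).1 ((Subgroup.mem_normalizer_iff.1 hy ⟨s, hPG hs⟩).1 ((hS0m ⟨s, hPG hs⟩).2 hs))
        · intro hs
          have hsG : s ∈ G := by
            have := G.mul_mem (G.mul_mem (G.inv_mem (y : G).2) (hPG hs)) (y : G).2
            simpa [mul_assoc] using this
          exact (hS0m ⟨s, hsG⟩).1 ((Subgroup.mem_normalizer_iff.1 hy ⟨s, hsG⟩).2 ((hS0m _).2 hs))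
      · exact congrArg (fun w : Subgroup.normalizer ((S0 : Subgroup G) : Set G) => ((w : G) : pG)) hyo
    exact Subtype.ext (Subtype.ext hn1)
  obtain ⟨g, rfl⟩ : ∃ g : G, g • S0 = S := MulAction.exists_smul_eq G S0 S
  have hS : ∀ x : G, x ∈ ((g • S0 : Sylow 2 G) : Subgroup G) ↔ g⁻¹ * x * g ∈ (S0 : Subgroup G) := by
    intro x
    rw [Sylow.smul_def, Sylow.pointwise_smul_def, Subgroup.mem_pointwise_smul_iff_inv_smul_mem]
    simp [mul_assoc]
  refine le_antisymm (fun x hx => (hS x).2 ?_) Subgroup.le_normalizer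
  rw [← hN, Subgroup.mem_normalizer_iff]
  intro s
  have h := Subgroup.mem_normalizer_iff.1 hx (g * s * g⁻¹)
  rw [hS, hS] at h
  simpa [mul_assoc] using h

/-- In the Mathieu group of degree 24 (realised as the automorphism group of the extended binary Golay code) every Sylow 2-subgroup is self-normalizing. -/
theorem result (S : Sylow 2 ↥Cfsg.M24) : Subgroup.normalizer ((S : Subgroup ↥Cfsg.M24) : Set ↥Cfsg.M24) = (S : Subgroup ↥Cfsg.M24) := by
  exact selfNormalizing (fun t ht _ => tabPerm_mem ht) s24_list s24_inG s24_rows s24_prop s24_top s24_levels s24_tree (m := 239085)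
    (by rw [card_M24]; decide +kernel) (by norm_num) S

end Cfsg.Agent.S2882
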