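import Cfsg.Statements.S2896
import Cfsg.Agent.Lib.CharP.CharP

set_option autoImplicit false
open Cfsg

namespace Cfsg.Agent.S2896

open Cfsg.Agent.CharP

/-- Let p be a prime dividing the order of the finite group G, S a Sylow p-subgroup of G and X a subgroup of S. (i) If some nontrivial element z of the centre of X has F*(C_G(z)) = O_p(C_G(z)), then F*(N_G(X)) = O_p(N_G(X)). (ii) G has parabolic characteristic p if and only if F*(C_G(z)) = O_p(C_G(z)) for every nontrivial z ∈ Ω₁(Z(S)). (iii) If F*(C_G(z)) = O_p(C_G(z)) for every element z of S of order p, then G has local characteristic p. -/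
theorem result {G : Type*} [Group G] [Finite G] {p : ℕ} [Fact p.Prime] (hdiv : p ∣ Nat.card G) (S : Sylow p G) (X : Subgroup G) (hX : X ≤ (S : Subgroup G)) : (∀ z : G, z ≠ 1 → z ∈ X → (∀ x ∈ X, x * z = z * x) → Cfsg.generalizedFittingSubgroup ↥(Subgroup.centralizer ({z} : Set G)) = Cfsg.pCore p ↥(Subgroup.centralizer ({z} : Set G)) → Cfsg.generalizedFittingSubgroup ↥(Subgroup.normalizer (X : Set G)) = Cfsg.pCore p ↥(Subgroup.normalizer (X : Set G))) ∧ (Cfsg.IsOfParabolicCharacteristic p G ↔ ∀ z : G, z ≠ 1 → z ∈ Cfsg.omegaOne p ((S : Subgroup G) ⊓ Subgroup.centralizer ((S : Subgroup G) : Set G)) → Cfsg.generalizedFittingSubgroup ↥(Subgroup.centralizer ({z} : Set G)) = Cfsg.pCore p ↥(Subgroup.centralizer ({z} : Set G))) ∧ ((∀ z : G, z ∈ (S : Subgroup G) → orderOf z = p → Cfsg.generalizedFittingSubgroup ↥(Subgroup.centralizer ({z} : Set G)) = Cfsg.pCore p ↥(Subgroup.centralizer ({z} : Set G))) → Cfsg.IsOfLocalCharacteristic p G) := by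
  classical
  have key : ∀ (z : G) (R : Subgroup G), z ∈ R → (∀ x ∈ R, x * z = z * x) → IsPGroup p ↥R →
      Cfsg.generalizedFittingSubgroup ↥(Subgroup.centralizer ({z} : Set G)) =
        Cfsg.pCore p ↥(Subgroup.centralizer ({z} : Set G)) →
      IsCharP p (Subgroup.normalizer (R : Set G)) := by
    intro z R hzR hc hR hz
    refine isCharP_normalizer (H := Subgroup.centralizer ({z} : Set G))
      ((isCharP_iff _).2 (genFitting_eq_pCore_iff.1 hz)) hR
      (fun x hx => Subgroup.mem_centralizer_singleton_iff.2 (hc x hx)) ?_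
    exact Subgroup.centralizer_le (Set.singleton_subset_iff.2 hzR)
  refine ⟨fun z _ hzX hc hz =>
      genFitting_eq_pCore_iff.2 ((isCharP_iff _).1 (key z X hzX hc (S.isPGroup'.to_le hX) hz)),
    ⟨fun hpar z hz1 hz => ?_, fun h R hR hR1 hpar => ?_⟩, fun h => ⟨hdiv, fun R hR hR1 => ?_⟩⟩
  · have hz' : z ∈ omegaCentre p (S : Subgroup G) := hz
    have hzS := omegaCentre_le p _ hz'
    have hzc := omegaCentre_le_centralizer p _ hz'
    have hzp : IsPGroup p ↥(Subgroup.zpowers z) := S.isPGroup'.to_le (Subgroup.zpowers_le.2 hzS)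
    have hSN : (S : Subgroup G) ≤ Subgroup.normalizer ((Subgroup.zpowers z : Subgroup G) : Set G) := by
      intro s hs
      refine Subgroup.centralizer_le_normalizer _ ?_
      rintro _ ⟨i, rfl⟩
      exact ((Commute.zpow_right (show Commute s z from hzc s hs) i).eq).symm
    refine genFitting_eq_pCore_iff.2 ((isCharP_iff _).1 (centralizer_singleton_isCharP_of_normalizer ?_))
    refine (isCharP_iff _).2 (hpar _ hzp (fun h => hz1 ?_) ⟨S, hSN⟩)
    exact Subgroup.mem_bot.1 (h ▸ Subgroup.mem_zpowers z)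
  · obtain ⟨T, hT⟩ := hpar
    obtain ⟨g, hg⟩ := MulAction.exists_smul_eq G S T
    have hRT : R ≤ (T : Subgroup G) := le_sylow_of_le_normalizer T hR hT
    obtain ⟨z, hzR, hzo, hzc⟩ := exists_order_prime_central T.isPGroup' hRT hT hR1
    set w := g⁻¹ * z * g with hw
    have hwS : w ∈ omegaCentre p (S : Subgroup G) := by
      have hzT : z ∈ ((g • S : Sylow p G) : Subgroup G) := hg ▸ hRT hzR
      rw [Sylow.coe_subgroup_smul] at hzT
      obtain ⟨s, hs, hsz⟩ := hzT
      have hsz' : g * s * g⁻¹ = z := hsz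
      refine Subgroup.subset_closure ⟨⟨?_, fun t ht => ?_⟩, ?_⟩
      · rw [hw, ← hsz', show g⁻¹ * (g * s * g⁻¹) * g = s by group]
        exact hs
      · have h1 : g * t * g⁻¹ ∈ (T : Subgroup G) := by
          rw [← hg, Sylow.coe_subgroup_smul]
          exact ⟨t, ht, rfl⟩
        calc t * w = g⁻¹ * ((g * t * g⁻¹) * z) * g := by rw [hw]; group
          _ = g⁻¹ * (z * (g * t * g⁻¹)) * g := by rw [hzc _ h1]
          _ = w * t := by rw [hw]; group
      · rw [hw, show g⁻¹ * z * g = MulAut.conj g⁻¹ z by simp, ← map_pow, ← hzo, pow_orderOf_eq_one,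
          map_one]
    have hw1 : w ≠ 1 := by
      intro h1
      have : z = 1 := by
        rw [show z = g * w * g⁻¹ by rw [hw]; group, h1, mul_one, mul_inv_cancel]
      rw [this, orderOf_one] at hzo
      exact (Fact.out : p.Prime).ne_one hzo.symm
    have h1 := (isCharP_iff _).2 (genFitting_eq_pCore_iff.1 (h w hw1 hwS))
    set R' := R.map (MulAut.conj g⁻¹).toMonoidHom with hR'
    have hCw : Subgroup.centralizer (R' : Set G) ≤ Subgroup.centralizer ({w} : Set G) := by
      refine Subgroup.centralizer_le (Set.singleton_subset_iff.2 ?_)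
      exact ⟨z, hzR, by simp [hw]⟩
    have hR'w : R' ≤ Subgroup.centralizer ({w} : Set G) := by
      rintro _ ⟨r, hr, rfl⟩
      refine Subgroup.mem_centralizer_singleton_iff.2 ?_
      show g⁻¹ * r * g⁻¹⁻¹ * w = w * (g⁻¹ * r * g⁻¹⁻¹)
      calc g⁻¹ * r * g⁻¹⁻¹ * w = g⁻¹ * (r * z) * g := by rw [hw]; group
        _ = g⁻¹ * (z * r) * g := by rw [hzc r (hRT hr)]
        _ = w * (g⁻¹ * r * g⁻¹⁻¹) := by rw [hw]; group
    exact (isCharP_iff _).1 (isCharP_normalizer_of_conj g⁻¹
      (isCharP_normalizer h1 (hR.map _) hR'w hCw))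
  · obtain ⟨T, hT⟩ := hR.exists_le_sylow
    obtain ⟨g, hg⟩ := MulAction.exists_smul_eq G T S
    set R' := R.map (MulAut.conj g).toMonoidHom with hR'
    have hR'S : R' ≤ (S : Subgroup G) := by
      rw [← hg, Sylow.coe_subgroup_smul]
      exact Subgroup.map_mono hT
    have hR'1 : R' ≠ ⊥ := fun h =>
      hR1 ((Subgroup.map_eq_bot_iff_of_injective _ (MulAut.conj g).injective).1 h)
    obtain ⟨w, hwR, hwo, hwc⟩ := exists_order_prime_central (hR.map _) le_rfl
      Subgroup.le_normalizer hR'1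
    exact (isCharP_iff _).1 (isCharP_normalizer_of_conj g
      (key w R' hwR (fun x hx => hwc x hx) (hR.map _) (h w (hR'S hwR) hwo)))

end Cfsg.Agent.S2896
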