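import Cfsg.Statements.S2898
import Cfsg.Agent.Lib.CharP.CharP
import Cfsg.Agent.Lib.Cores.Subnormal

set_option autoImplicit false
open Cfsg

namespace Cfsg.Agent.S2898

open Cfsg.Agent.CharP

/-- Let G be a finite group of even order with parabolic characteristic 2. If the centre of G ⧸ O(G) is trivial, then O(G) = 1. -/
theorem result {G : Type*} [Group G] [Finite G] (h2 : 2 ∣ Nat.card G) (hG : Cfsg.IsOfParabolicCharacteristic 2 G) [hN : (Cfsg.oddCore G).Normal] (hZ : Subgroup.center (G ⧸ Cfsg.oddCore G) = ⊥) : Cfsg.oddCore G = ⊥ := by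
  classical
  have : Fact (Nat.Prime 2) := ⟨Nat.prime_two⟩
  set O := Cfsg.oddCore G with hO
  by_contra hne
  have hOodd : Odd (Nat.card ↥O) := Cfsg.Agent.Cores.oddCore_odd
  have hno2 : ∀ o ∈ O, o⁻¹ = o → o = 1 := by
    intro o ho h
    have h1 : orderOf o ∣ 2 := orderOf_dvd_of_pow_eq_one (by rw [sq]; nth_rw 1 [← h]; exact inv_mul_cancel o)
    have h2 : orderOf o ∣ Nat.card ↥O := Subgroup.orderOf_dvd_natCard O ho
    rw [← orderOf_eq_one_iff]
    exact Nat.eq_one_of_dvd_coprimes (Nat.coprime_two_right.2 hOodd).symm h1 h2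
  obtain ⟨S⟩ : Nonempty (Sylow 2 G) := inferInstance
  have hS1 : (S : Subgroup G) ≠ ⊥ := Sylow.ne_bot_of_dvd_card S h2
  have hinv : ∀ z : G, z ∈ (S : Subgroup G) → z ∈ Subgroup.centralizer ((S : Subgroup G) : Set G) →
      orderOf z = 2 → ∀ o ∈ O, z * o * z⁻¹ = o⁻¹ := by
    intro z hzS hzc hzo
    have hSN : (S : Subgroup G) ≤ Subgroup.normalizer ((Subgroup.zpowers z : Subgroup G) : Set G) := by
      intro s hs
      refine Subgroup.centralizer_le_normalizer _ ?_
      rintro _ ⟨i, rfl⟩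
      exact ((Commute.zpow_right (show Commute s z from hzc s hs) i).eq).symm
    have hC : IsCharP 2 (Subgroup.centralizer ({z} : Set G)) := by
      refine centralizer_singleton_isCharP_of_normalizer ((isCharP_iff _).2 (hG _
        (S.isPGroup'.to_le (Subgroup.zpowers_le.2 hzS)) (fun h => ?_) ⟨S, hSN⟩))
      have hz1 : z = 1 := Subgroup.mem_bot.1 (h ▸ Subgroup.mem_zpowers z : z ∈ (⊥ : Subgroup G))
      rw [hz1, orderOf_one] at hzo
      exact absurd hzo (by decide)
    set C := Subgroup.centralizer ({z} : Set G) with hCdef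
    set D := O ⊓ C with hD
    have hDn : C ≤ Subgroup.normalizer (D : Set G) :=
      le_trans (le_inf ((Subgroup.normalizer_eq_top_iff.2 hN) ▸ le_top) Subgroup.le_normalizer)
        Subgroup.inf_normalizer_le_normalizer_inf
    have hdisj : D ⊓ Cfsg.pCoreOf 2 C = ⊥ := by
      obtain ⟨k, hk⟩ := IsPGroup.iff_card.1 (isPGroup_pCoreOf 2 C)
      refine Subgroup.inf_eq_bot_of_coprime ?_
      rw [hk]
      exact ((Nat.coprime_two_right.2 hOodd).coprime_dvd_left
        (Subgroup.card_dvd_of_le inf_le_left)).pow_right k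
    have hcom : ⁅D, Cfsg.pCoreOf 2 C⁆ = ⊥ := by
      rw [← le_bot_iff, ← hdisj]
      refine le_inf ?_ (Cfsg.Agent.Coprime.commutator_le_of_le_normalizer
        (inf_le_right.trans (le_normalizer_pCoreOf 2 C)) |> fun h => by rwa [Subgroup.commutator_comm])
      exact Cfsg.Agent.Coprime.commutator_le_of_le_normalizer ((pCoreOf_le 2 C).trans hDn)
    have hDbot : D = ⊥ := by
      rw [← le_bot_iff, ← hdisj]
      exact le_inf le_rfl (le_trans (le_inf inf_le_right
        (Subgroup.commutator_eq_bot_iff_le_centralizer.1 hcom)) hC)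
    let φ : ↥O →* ↥O := ((MulAut.conj z).toMonoidHom.comp O.subtype).codRestrict O fun x =>
      hN.conj_mem _ x.2 z
    have hφ : MonoidHom.FixedPointFree φ := by
      intro o ho
      have h1 : z * (o : G) * z⁻¹ = o := congrArg Subtype.val ho
      have h2 : (o : G) ∈ D := ⟨o.2, Subgroup.mem_centralizer_singleton_iff.2
        (mul_inv_eq_iff_eq_mul.1 h1).symm⟩
      rw [hDbot, Subgroup.mem_bot] at h2
      exact Subtype.ext h2
    have hz2 : z * z = 1 := by rw [← sq, ← hzo, pow_orderOf_eq_one]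
    have hinvol : Function.Involutive φ := by
      intro o
      refine Subtype.ext ?_
      show z * (z * (o : G) * z⁻¹) * z⁻¹ = o
      calc z * (z * (o : G) * z⁻¹) * z⁻¹ = (z * z) * o * (z * z)⁻¹ := by group
        _ = o := by rw [hz2, one_mul, inv_one, mul_one]
    intro o ho
    exact congrArg Subtype.val (congrFun (hφ.coe_eq_inv_of_involutive hinvol) ⟨o, ho⟩)
  set K := Subgroup.centralizer (O : Set G) with hK
  have hKn : K.Normal := by rw [hK]; infer_instance
  have hKO : K ≤ O := by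
    refine Cfsg.Agent.Cores.le_oddCore ?_
    by_contra hev
    rw [Nat.not_odd_iff_even, even_iff_two_dvd] at hev
    have hidx := Cfsg.Agent.Cores.sylow_subgroupOf_isSubnormal S (A := K) hKn.isSubnormal
    have hSK : (S : Subgroup G) ⊓ K ≠ ⊥ := by
      intro h
      rw [← Subgroup.relIndex, ← Subgroup.inf_relIndex_right, h, Subgroup.relIndex_bot_left] at hidx
      exact hidx hev
    obtain ⟨z, hz, hzo, hzc⟩ := exists_order_prime_central S.isPGroup' inf_le_left
      (le_trans (le_inf Subgroup.le_normalizer ((Subgroup.normalizer_eq_top_iff.2 hKn) ▸ le_top))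
        Subgroup.inf_normalizer_le_normalizer_inf) hSK
    refine hne (eq_bot_iff.2 fun o ho => Subgroup.mem_bot.2 (hno2 o ho ?_))
    rw [← hinv z hz.1 hzc hzo o ho, (hz.2 o ho).symm, mul_inv_cancel_right]
  obtain ⟨z, hzS, hzo, hzc⟩ := exists_order_prime_central S.isPGroup' le_rfl
    Subgroup.le_normalizer hS1
  have hcen : (QuotientGroup.mk' O) z ∈ Subgroup.center (G ⧸ O) := by
    refine Subgroup.mem_center_iff.2 fun q => ?_
    obtain ⟨g, rfl⟩ := QuotientGroup.mk'_surjective O q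
    rw [← map_mul, ← map_mul, ← mul_inv_eq_one, ← map_inv, ← map_mul, QuotientGroup.mk'_apply,
      QuotientGroup.eq_one_iff]
    refine hKO fun o ho => ?_
    have ho' : g⁻¹ * o * g ∈ O := by simpa using hN.conj_mem o ho g⁻¹
    have h1 : (g * z * g⁻¹) * o * (g * z * g⁻¹)⁻¹ = o⁻¹ := by
      calc (g * z * g⁻¹) * o * (g * z * g⁻¹)⁻¹ = g * (z * (g⁻¹ * o * g) * z⁻¹) * g⁻¹ := by group
        _ = g * (g⁻¹ * o * g)⁻¹ * g⁻¹ := by rw [hinv z hzS hzc hzo _ ho']
        _ = o⁻¹ := by group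
    have h2 : z⁻¹ * o * z = o⁻¹ := by
      have h3 := hinv z hzS hzc hzo o⁻¹ (inv_mem ho)
      rw [inv_inv] at h3
      nth_rw 1 [← h3]
      group
    have h4 : g * z * (z * g)⁻¹ = (g * z * g⁻¹) * z⁻¹ := by group
    rw [h4]
    calc o * ((g * z * g⁻¹) * z⁻¹)
        = (g * z * g⁻¹) * ((g * z * g⁻¹)⁻¹ * o * (g * z * g⁻¹)) * z⁻¹ := by group
      _ = (g * z * g⁻¹) * (z⁻¹ * o * z) * z⁻¹ := by
          congr 2
          rw [h2]
          calc (g * z * g⁻¹)⁻¹ * o * (g * z * g⁻¹)
              = (g * z * g⁻¹)⁻¹ * ((g * z * g⁻¹) * o⁻¹ * (g * z * g⁻¹)⁻¹) * (g * z * g⁻¹) := by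
                rw [show (g * z * g⁻¹) * o⁻¹ * (g * z * g⁻¹)⁻¹ =
                  ((g * z * g⁻¹) * o * (g * z * g⁻¹)⁻¹)⁻¹ by group, h1, inv_inv]
            _ = o⁻¹ := by group
      _ = (g * z * g⁻¹) * z⁻¹ * o := by group
  rw [hZ, Subgroup.mem_bot, QuotientGroup.mk'_apply, QuotientGroup.eq_one_iff] at hcen
  have h5 := Subgroup.orderOf_dvd_natCard O hcen
  rw [hzo] at h5
  exact (Nat.not_even_iff_odd.2 hOodd) (even_iff_two_dvd.2 h5)

end Cfsg.Agent.S2898
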