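import Cfsg.Statements.S2905
import Cfsg.Agent.Lib.Components.PMinimal
import Cfsg.Agent.SolvStruct.Conjugates

set_option autoImplicit false
set_option linter.style.haveILetI false
set_option linter.unusedVariables false
open Cfsg

namespace Cfsg.Agent.S2905

open Subgroup Cfsg.Agent.Components

variable {P : Type*} [Group P] [Finite P] {p : ℕ} [hp : Fact p.Prime]

/-- A Sylow subgroup meets a normal subgroup inside `M` in a normal `p`-subgroup. -/
lemma inf_le_pCore_of_normal (S : Sylow p P) {M : Subgroup P} (hM : IsCoatom M)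
    (hu : ∀ M' : Subgroup P, IsCoatom M' → (S : Subgroup P) ≤ M' → M' = M)
    {F : Subgroup P} [F.Normal] (hF : F ≤ M) : (S : Subgroup P) ⊓ F ≤ Cfsg.pCore p P := by
  set T := (S : Subgroup P).subgroupOf F
  have hTp : IsPGroup p T := S.isPGroup'.comap_subtype
  have hTi : ¬ p ∣ T.index := fun h =>
    S.not_dvd_index (h.trans (Cores.relIndex_dvd_index_right_normal (S : Subgroup P) F))
  have hFr := Sylow.normalizer_sup_eq_top (hTp.toSylow hTi)
  rw [show ((hTp.toSylow hTi : Sylow p F) : Subgroup F).map F.subtype = (S : Subgroup P) ⊓ F from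
    subgroupOf_map_subtype _ _] at hFr
  have hS : (S : Subgroup P) ≤ normalizer (((S : Subgroup P) ⊓ F : Subgroup P) : Set P) :=
    (le_inf le_normalizer le_normalizer_of_normal).trans inf_normalizer_le_normalizer_inf
  haveI : ((S : Subgroup P) ⊓ F).Normal := normalizer_eq_top_iff.mp (by
    by_contra hne
    exact hM.1 (top_le_iff.mp (hFr ▸ sup_le (PMinimal.le_max hu hS hne) hF)))
  exact Cores.le_pCore (S.isPGroup'.to_le inf_le_left)

omit [Finite P] in
lemma normal_or_exists_lt {X : Subgroup P} (hX : X.IsSubnormal) :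
    X.Normal ∨ ∃ L : Subgroup P, L.IsSubnormal ∧ X < L ∧ L ≤ normalizer (X : Set P) := by
  induction hX with
  | top => exact Or.inl inferInstance
  | step H K hle hK hn ih =>
    rcases eq_or_lt_of_le hle with rfl | hlt
    · exact ih
    · exact Or.inr ⟨K, hK, hlt, (normal_subgroupOf_iff_le_normalizer hle).mp hn⟩

/-- The subnormal subgroups inside the maximal subgroup `M` lie in its core. -/
lemma subnormal_le_core {M : Subgroup P} (hM : IsCoatom M)
    {N : Subgroup P} (hN : N.IsSubnormal) (hNM : N ≤ M) : N ≤ M.normalCore := by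
  set X := sSup {L : Subgroup P | L.IsSubnormal ∧ L ≤ M} with hX
  have hXM : X ≤ M := sSup_le fun L hL => hL.2
  have hXsn : X.IsSubnormal := SolvStruct.Conjugates.isSubnormal_sSup fun L hL => hL.1
  have hMX : M ≤ normalizer (X : Set P) := by
    intro m hm
    rw [mem_normalizer_iff_map_conj_eq]
    refine eq_of_le_of_card_ge ?_ (le_of_eq (card_map_of_injective (MulAut.conj m).injective).symm)
    rw [map_le_iff_le_comap]
    refine sSup_le fun L hL => map_le_iff_le_comap.mp (le_sSup ⟨hL.1.map (MulAut.conj m).surjective, ?_⟩)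
    rintro _ ⟨l, hl, rfl⟩
    exact M.mul_mem (M.mul_mem hm (hL.2 hl)) (M.inv_mem hm)
  have hXn : X.Normal := by
    rcases hM.le_iff.mp hMX with h | h
    · exact normalizer_eq_top_iff.mp h
    · exact (normal_or_exists_lt hXsn).resolve_right fun ⟨L, hL, hlt, hLn⟩ =>
        hlt.not_ge (le_sSup ⟨hL, h ▸ hLn⟩)
  exact (le_sSup (show N ∈ {L : Subgroup P | L.IsSubnormal ∧ L ≤ M} from ⟨hN, hNM⟩)).trans
    ((normal_le_normalCore (hN := hXn)).mpr hXM)


/-- Let P be a finite p-minimal group (a Sylow p-subgroup S is not normal and lies in a unique maximal subgroup M of P) and let F be the normal core of M. Then: every subnormal subgroup N of P contained in M satisfies N ∩ S ≤ O_p(P); if O^p(P) has a normal Sylow p-subgroup then the order of P has at most two prime divisors; every normal subgroup N of P either contains O^p(P) or is contained in F; and O^p(P)F ⧸ F is a minimal normal subgroup of P ⧸ F. -/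
theorem result {P : Type*} [Group P] [Finite P] {p : ℕ} [Fact p.Prime] (hP : Cfsg.IsPMinimal p P) (S : Sylow p P) (M : Subgroup P) (hM : IsCoatom M) (hSM : (S : Subgroup P) ≤ M) [hF : M.normalCore.Normal] : (∀ N : Subgroup P, N.IsSubnormal → N ≤ M → N ⊓ (S : Subgroup P) ≤ Cfsg.pCore p P) ∧ ((∀ T : Sylow p ↥(Cfsg.pResidual p P), (T : Subgroup ↥(Cfsg.pResidual p P)).Normal) → (Nat.card P).primeFactors.card ≤ 2) ∧ (∀ N : Subgroup P, N.Normal → Cfsg.pResidual p P ≤ N ∨ N ≤ M.normalCore) ∧ (∀ N : Subgroup P, N.Normal → M.normalCore ≤ N → N ≤ Cfsg.pResidual p P ⊔ M.normalCore → N = M.normalCore ∨ N = Cfsg.pResidual p P ⊔ M.normalCore) ∧ M.normalCore < Cfsg.pResidual p P ⊔ M.normalCore := by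
  obtain ⟨M', ⟨hM', hSM'⟩, huniq⟩ := (hP S).2
  obtain rfl : M = M' := huniq M ⟨hM, hSM⟩
  have hu : ∀ M' : Subgroup P, IsCoatom M' → (S : Subgroup P) ≤ M' → M' = M :=
    fun M' h1 h2 => huniq M' ⟨h1, h2⟩
  set R := Cfsg.pResidual p P with hR
  have hRS : R ⊔ (S : Subgroup P) = ⊤ := Transfer.NormalPComplement.pResidual_sup_sylow S
  have hres : ∀ N : Subgroup P, N.Normal → R ≤ N ∨ N ≤ M.normalCore := by
    intro N hN
    by_cases h : N ⊔ (S : Subgroup P) = ⊤
    · refine Or.inl (Transfer.NormalPComplement.pResidual_le (S.isPGroup'.of_surjective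
        ((QuotientGroup.mk' N).comp (S : Subgroup P).subtype) fun y => ?_))
      obtain ⟨g, rfl⟩ := QuotientGroup.mk'_surjective N y
      have hg : g ∈ (↑(N ⊔ (S : Subgroup P)) : Set P) := by rw [h]; trivial
      rw [coe_mul_of_right_le_normalizer_left _ _ le_normalizer_of_normal] at hg
      obtain ⟨n, hn, s, hs, rfl⟩ := hg
      refine ⟨⟨s, hs⟩, ?_⟩
      show QuotientGroup.mk' N s = _
      rw [map_mul, show QuotientGroup.mk' N n = 1 from (QuotientGroup.eq_one_iff n).mpr hn, one_mul]
    · exact Or.inr (normal_le_normalCore.mpr (le_sup_left.trans (PMinimal.le_max hu le_sup_right h)))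
  have hRM : ¬ R ≤ M := fun h => hM.1 (top_le_iff.mp (hRS ▸ sup_le h hSM))
  refine ⟨fun N hN hNM => ?_, fun hTn => ?_, hres, fun N hN h1 h2 => ?_, ?_⟩
  · haveI : M.normalCore.Normal := normalCore_normal M
    exact (le_inf inf_le_right (inf_le_left.trans (subnormal_le_core hM hN hNM))).trans
      (inf_le_pCore_of_normal S hM hu M.normalCore_le)
  · obtain ⟨T⟩ := (inferInstance : Nonempty (Sylow p R))
    haveI hTch : (T : Subgroup R).Characteristic := T.characteristic_of_normal (hTn T)
    set T0 := (T : Subgroup R).map R.subtype with hT0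
    haveI hT0n : T0.Normal := inferInstance
    obtain ⟨a, ha⟩ := IsPGroup.iff_card.1 (T.isPGroup'.map R.subtype)
    rw [← hT0] at ha
    -- some `S`-invariant `{p, t}`-subgroup supplements `S`
    have hex : ∃ t : ℕ, ∃ Y : Subgroup P, (∃ b c, Nat.card Y ∣ p ^ b * t ^ c) ∧ t.Prime ∧
        (S : Subgroup P) ≤ normalizer (Y : Set P) ∧ (S : Subgroup P) ⊔ Y = ⊤ := by
      by_contra hne
      push Not at hne
      refine hM.1 (eq_top_of_card_eq M (Nat.dvd_antisymm (card_subgroup_dvd_card M) ?_))
      rw [Nat.dvd_iff_prime_pow_dvd_dvd]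
      intro t k ht hk
      by_cases htp : t = p
      · subst htp
        exact (S.pow_dvd_card_of_pow_dvd_card hk).trans (card_dvd_of_le hSM)
      haveI := Fact.mk ht
      obtain ⟨Q⟩ := (inferInstance : Nonempty (Sylow t P))
      obtain ⟨c, hc⟩ := IsPGroup.iff_card.1 Q.isPGroup'
      have hQR : (Q : Subgroup P) ≤ R := Transfer.NormalPComplement.le_pResidual_of_coprime
        (hc ▸ Nat.Coprime.pow_left _ ((Nat.coprime_primes ht (Fact.out : p.Prime)).mpr htp))
      set Y := (Q : Subgroup P) ⊔ T0 with hY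
      have hNY : normalizer ((Q : Subgroup P) : Set P) ≤ normalizer (Y : Set P) :=
        (le_inf le_rfl le_normalizer_of_normal).trans
          (normalizer_inf_normalizer_le_normalizer_sup _ _)
      have hFr := Sylow.normalizer_sup_eq_top (Q.subtype hQR)
      rw [show ((Q.subtype hQR : Sylow t R) : Subgroup R).map R.subtype = Q by
        rw [Sylow.coe_subtype, map_subgroupOf_eq_of_le hQR]] at hFr
      set U := normalizer (Y : Set P)
      have hUR : U ⊔ R = ⊤ := top_le_iff.mp (hFr ▸ sup_le_sup_right hNY R)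
      have hidx : ¬ p ∣ U.index := by
        intro hd
        have h1 : U.index * Nat.card ↥(U ⊓ R) = Nat.card R := by
          have h := Cores.card_sup_mul_card_inf U R
          rw [hUR, Subgroup.card_top, ← U.card_mul_index, mul_assoc] at h
          exact Nat.eq_of_mul_eq_mul_left Nat.card_pos h
        obtain ⟨d, hd'⟩ : Nat.card T0 ∣ Nat.card ↥(U ⊓ R) :=
          card_dvd_of_le (le_inf (le_sup_right.trans le_normalizer) (map_subtype_le _))
        have h2 : U.index * d = (T : Subgroup R).index := by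
          refine Nat.eq_of_mul_eq_mul_left (Nat.card_pos (α := T0)) ?_
          rw [mul_left_comm, ← hd', h1, ← (T : Subgroup R).card_mul_index, hT0,
            card_map_of_injective R.subtype_injective]
        exact T.not_dvd_index (hd.trans (Dvd.intro _ h2))
      obtain ⟨T'⟩ := (inferInstance : Nonempty (Sylow p U))
      have hT' : ¬ p ∣ ((T' : Subgroup U).map U.subtype).index := by
        rw [← relIndex_mul_index (map_subtype_le (T' : Subgroup U)), relIndex, subgroupOf,
          comap_map_eq_self_of_injective U.subtype_injective]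
        exact fun h => ((Fact.out : p.Prime).dvd_mul.mp h).elim T'.not_dvd_index hidx
      obtain ⟨g, hg⟩ := MulAction.exists_smul_eq P ((T'.isPGroup'.map U.subtype).toSylow hT') S
      set Y' := Y.map (MulAut.conj g).toMonoidHom with hY'
      have hS : (S : Subgroup P) ≤ normalizer (Y' : Set P) := by
        rw [← hg]
        rintro _ ⟨x, hx, rfl⟩
        exact le_normalizer_map (MulAut.conj g).toMonoidHom ⟨x, map_subtype_le (T' : Subgroup U) hx, rfl⟩
      have hcY : Nat.card Y' ∣ p ^ a * t ^ c := by
        rw [hY', card_map_of_injective (MulAut.conj g).injective, mul_comm, ← ha, ← hc]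
        exact Cores.card_sup_dvd_mul _ _
      have hne' := hne t Y' ⟨a, c, hcY⟩ ht hS
      refine dvd_trans ?_ (card_dvd_of_le (le_sup_right.trans (PMinimal.le_max hu le_sup_left hne')))
      rw [hY', card_map_of_injective (MulAut.conj g).injective]
      exact (Q.pow_dvd_card_of_pow_dvd_card hk).trans (card_dvd_of_le le_sup_left)
    obtain ⟨t, Y, ⟨b, c, hcY⟩, ht, hS, htop⟩ := hex
    obtain ⟨e, he⟩ := IsPGroup.iff_card.1 S.isPGroup'
    have hdvd : Nat.card P ∣ p ^ (e + b) * t ^ c := by
      rw [← Subgroup.card_top, ← htop, sup_comm]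
      refine (Signalizer.card_sup_dvd hS).trans ?_
      rw [he, pow_add, mul_assoc, mul_comm]
      exact mul_dvd_mul_left _ hcY
    refine (Finset.card_le_card (t := {p, t}) fun r hr => ?_).trans Finset.card_le_two
    obtain ⟨hr, hrd⟩ := (Nat.mem_primeFactors.mp hr).1, (Nat.mem_primeFactors.mp hr).2.1
    rcases hr.dvd_mul.mp (hrd.trans hdvd) with h | h
    · simp [(Nat.prime_dvd_prime_iff_eq hr (Fact.out : p.Prime)).mp (hr.dvd_of_dvd_pow h)]
    · simp [(Nat.prime_dvd_prime_iff_eq hr ht).mp (hr.dvd_of_dvd_pow h)]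
  · rcases hres N hN with h | h
    · exact Or.inr (le_antisymm h2 (sup_le h h1))
    · exact Or.inl (le_antisymm h h1)
  · exact lt_of_le_of_ne le_sup_right fun h =>
      hRM ((le_sup_left.trans h.ge).trans M.normalCore_le)

end Cfsg.Agent.S2905
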