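import Cfsg.Statements.S2907


set_option autoImplicit false
open Cfsg

namespace Cfsg.Agent.S2907

/-- Let X be a finite semi-extraspecial p-group and x an element of X outside the centre. Then the index of C_X(x) in X equals the order of Z(X), and the commutators [x, y], y ∈ X, form exactly the centre Z(X). -/
theorem result {X : Type*} [Group X] [Finite X] {p : ℕ} [Fact p.Prime] (hX : Cfsg.IsSemiExtraspecial p X) (x : X) (hx : x ∉ Subgroup.center X) : (Subgroup.centralizer ({x} : Set X)).index = Nat.card ↥(Subgroup.center X) ∧ {z : X | ∃ y : X, z = x * y * x⁻¹ * y⁻¹} = (Subgroup.center X : Set X) := by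
  classical
  obtain ⟨⟨hXp, hfr, hder⟩, hY⟩ := hX
  have hcen : ∀ a b : X, a * b * a⁻¹ * b⁻¹ ∈ Subgroup.center X := fun a b => by
    rw [← hder, commutator_def, ← commutatorElement_def]
    exact Subgroup.commutator_mem_commutator (Subgroup.mem_top a) (Subgroup.mem_top b)
  let f : X →* X := MonoidHom.mk' (fun y => x * y * x⁻¹ * y⁻¹) (by
    intro a b
    have hb := Subgroup.mem_center_iff.1 (hcen x b) a
    calc x * (a * b) * x⁻¹ * (a * b)⁻¹ = (x * a * x⁻¹) * (x * b * x⁻¹ * b⁻¹) * a⁻¹ := by group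
      _ = (x * a * x⁻¹) * (a⁻¹ * (a * (x * b * x⁻¹ * b⁻¹))) * a⁻¹ := by group
      _ = (x * a * x⁻¹) * (a⁻¹ * (x * b * x⁻¹ * b⁻¹ * a)) * a⁻¹ := by rw [hb]
      _ = (x * a * x⁻¹ * a⁻¹) * (x * b * x⁻¹ * b⁻¹) := by group)
  have hker : f.ker = Subgroup.centralizer ({x} : Set X) := by
    ext y
    rw [MonoidHom.mem_ker, Subgroup.mem_centralizer_singleton_iff]
    show x * y * x⁻¹ * y⁻¹ = 1 ↔ _
    rw [mul_inv_eq_one, mul_inv_eq_iff_eq_mul]
    exact eq_comm
  have hrange : f.range = Subgroup.center X := by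
    refine le_antisymm ?_ ?_
    · rintro _ ⟨y, rfl⟩
      exact hcen x y
    · by_contra hlt
      have hlt' : f.range.subgroupOf (Subgroup.center X) ≠ ⊤ := fun h =>
        hlt (Subgroup.subgroupOf_eq_top.1 h)
      obtain ⟨M, hM, hDM⟩ := (IsCoatomic.eq_top_or_exists_le_coatom
        (f.range.subgroupOf (Subgroup.center X))).resolve_left hlt'
      set Y := M.map (Subgroup.center X).subtype with hYdef
      have hYZ : Y ≤ Subgroup.center X := Subgroup.map_subtype_le _
      have hYM : Y.subgroupOf (Subgroup.center X) = M :=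
        Subgroup.comap_map_eq_self_of_injective (Subgroup.subtype_injective _) M
      obtain ⟨hn, ⟨hQp, -, -⟩, hQc⟩ := hY Y hYZ (hYM ▸ hM)
      have himg : ∀ y, y ∈ Subgroup.center X → (QuotientGroup.mk y : X ⧸ Y) ∈ Subgroup.center (X ⧸ Y) := by
        intro y hy
        refine Subgroup.mem_center_iff.2 fun q => ?_
        obtain ⟨a, rfl⟩ := QuotientGroup.mk_surjective q
        rw [← QuotientGroup.mk_mul, ← QuotientGroup.mk_mul, Subgroup.mem_center_iff.1 hy a]
      have hxc : (QuotientGroup.mk x : X ⧸ Y) ∈ Subgroup.center (X ⧸ Y) := by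
        refine Subgroup.mem_center_iff.2 fun q => ?_
        obtain ⟨a, rfl⟩ := QuotientGroup.mk_surjective q
        rw [← QuotientGroup.mk_mul, ← QuotientGroup.mk_mul, QuotientGroup.eq]
        have h1 : x * a * x⁻¹ * a⁻¹ ∈ Y := by
          have : (⟨x * a * x⁻¹ * a⁻¹, hcen x a⟩ : ↥(Subgroup.center X)) ∈ M :=
            hDM (Subgroup.mem_subgroupOf.2 ⟨a, rfl⟩)
          exact ⟨_, this, rfl⟩
        have h2 := hn.conj_mem _ h1 (a * x)⁻¹
        have e : (a * x)⁻¹ * (x * a * x⁻¹ * a⁻¹) * (a * x)⁻¹⁻¹ = (a * x)⁻¹ * (x * a) := by group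
        rwa [e] at h2
      let π : ↥(Subgroup.center X) →* ↥(Subgroup.center (X ⧸ Y)) :=
        ((QuotientGroup.mk' Y).comp (Subgroup.center X).subtype).codRestrict _ fun y => himg y y.2
      have hsurj : Function.Surjective π := by
        have := Fact.mk (hQc.symm ▸ (Fact.out : p.Prime) : (Nat.card ↥(Subgroup.center (X ⧸ Y))).Prime)
        rw [← MonoidHom.range_eq_top]
        refine (π.range.eq_bot_or_eq_top_of_prime_card).resolve_left fun hbot => ?_
        refine hM.1 (eq_top_iff.2 fun z _ => ?_)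
        rw [← hYM, Subgroup.mem_subgroupOf]
        have hh : π z ∈ π.range := ⟨z, rfl⟩
        rw [hbot, Subgroup.mem_bot] at hh
        have := hh
        exact (QuotientGroup.eq_one_iff _).1 (congrArg Subtype.val this)
      obtain ⟨z, hz⟩ := hsurj ⟨_, hxc⟩
      have hz' : (QuotientGroup.mk (z : X) : X ⧸ Y) = QuotientGroup.mk x := congrArg Subtype.val hz
      have hxz : x = (z : X) * ((z : X)⁻¹ * x) := by group
      exact hx (hxz ▸ mul_mem z.2 (hYZ (QuotientGroup.eq.1 hz')))
  refine ⟨?_, ?_⟩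
  · rw [← hker, Subgroup.index_ker, hrange]
  · ext z
    rw [SetLike.mem_coe, ← hrange]
    exact ⟨fun ⟨y, hy⟩ => ⟨y, hy.symm⟩, fun ⟨y, hy⟩ => ⟨y, hy.symm⟩⟩

end Cfsg.Agent.S2907
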