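import Cfsg.Statements.S2909
import Cfsg.Agent.Lib.CharP.Action

set_option autoImplicit false
open Cfsg

namespace Cfsg.Agent.S2909

open scoped commutatorElement

/-- Let p be a prime, E a normal p-subgroup of the finite group G, and U a non-cyclic elementary abelian p-subgroup of G such that either C_E(U) = C_E(u) for every nontrivial u ∈ U, or [E, U] = [E, ⟨u⟩] for every nontrivial u ∈ U. If R is a subgroup of order prime to p normalized by U, then [R, U] centralizes E. -/
theorem result {G : Type*} [Group G] [Finite G] {p : ℕ} [Fact p.Prime] (E : Subgroup G) [E.Normal] (hE : IsPGroup p ↥E) (U : Subgroup G) (hU : Cfsg.IsElementaryAbelian p U) (hnc : ¬ IsCyclic ↥U) (hcond : (∀ u ∈ U, u ≠ 1 → E ⊓ Subgroup.centralizer (U : Set G) = E ⊓ Subgroup.centralizer ({u} : Set G)) ∨ (∀ u ∈ U, u ≠ 1 → ⁅E, U⁆ = ⁅E, Subgroup.zpowers u⁆)) (R : Subgroup G) (hR : ¬ p ∣ Nat.card ↥R) (hRU : U ≤ Subgroup.normalizer (R : Set G)) : ⁅R, U⁆ ≤ Subgroup.centralizer (E : Set G) := by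
  haveI : IsMulCommutative ↥U := hU.1
  have hUp : IsPGroup p ↥U := fun u => ⟨1, by
    rw [pow_one]; exact Subtype.ext (hU.2 u u.2)⟩
  have hRc := CharP.coprime_card_of_not_dvd hR
  have hcop : ∀ {R' : Subgroup G}, R' ≤ R → (Nat.card U).Coprime (Nat.card R') := by
    intro R' h
    obtain ⟨n, hn⟩ := IsPGroup.iff_card.1 hUp
    rw [hn]
    exact ((hRc.coprime_dvd_left (Subgroup.card_dvd_of_le h)).pow_right n).symm
  set R₀ := ⁅R, U⁆
  have hR₀ : R₀ ≤ R := Coprime.commutator_le_of_le_normalizer hRU
  have hUR₀ : U ≤ Subgroup.normalizer (R₀ : Set G) := Subgroup.normalizer_commutator_ge_right R U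
  rcases hcond with hc | hc
  · set F := E ⊓ Subgroup.centralizer (U : Set G)
    have hRF : R ≤ Subgroup.normalizer (F : Set G) :=
      CharP.le_of_fixedGen hnc hRU (hcop le_rfl) fun u hu hu1 => by
        have e : F = E ⊓ Subgroup.centralizer ({u} : Set G) := hc u hu hu1
        rw [e]
        refine le_trans (le_inf Subgroup.le_normalizer_of_normal ?_)
          Subgroup.inf_normalizer_le_normalizer_inf
        rw [← CharP.centralizer_zpowers' u]
        refine inf_le_right.trans ((Subgroup.centralizer_le_normalizer _).trans ?_)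
        exact CharP.normalizer_le_normalizer_centralizer _
    have hF : R₀ ≤ Subgroup.centralizer (F : Set G) := by
      refine Subgroup.commutator_eq_bot_iff_le_centralizer.1
        (Subgroup.commutator_commutator_eq_bot_of_rotate ?_ ?_)
      · rw [Subgroup.commutator_comm U F, Coprime.commutator_eq_bot_iff_le_centralizer'.2
          (Subgroup.le_centralizer_iff.1 inf_le_right), Subgroup.commutator_bot_left]
      · refine le_bot_iff.1 ((Subgroup.commutator_mono
          (Coprime.commutator_le_of_le_normalizer hRF) le_rfl).trans (le_of_eq ?_))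
        exact Coprime.commutator_eq_bot_iff_le_centralizer'.2
          (Subgroup.le_centralizer_iff.1 inf_le_right)
    refine CharP.le_centralizer_of_forall_fixed hnc hUR₀ (hcop hR₀) fun u hu hu1 => ?_
    refine Coprime.le_centralizer_of_pxq (P := Subgroup.zpowers u)
      (hUp.to_le (Subgroup.zpowers_le.2 hu))
      (hRc.coprime_dvd_left (Subgroup.card_dvd_of_le (inf_le_left.trans hR₀))) hE ?_
      Subgroup.le_normalizer_of_normal Subgroup.le_normalizer_of_normal ?_
    · rw [Subgroup.le_centralizer_iff, CharP.centralizer_zpowers']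
      exact inf_le_right
    · rw [CharP.centralizer_zpowers', ← hc u hu hu1]
      exact Subgroup.le_centralizer_iff.1 (inf_le_left.trans hF)
  · set V := ⁅E, U⁆
    have hVR : R ≤ Subgroup.normalizer (V : Set G) :=
      CharP.le_of_fixedGen hnc hRU (hcop le_rfl) fun u hu hu1 => by
        intro c hc'
        rw [Subgroup.mem_normalizer_iff_map_conj_eq,
          show V = ⁅E, Subgroup.zpowers u⁆ from hc u hu hu1, Subgroup.map_commutator,
          Subgroup.Normal.map_conj_eq E c]
        congr 1
        rw [← Subgroup.mem_normalizer_iff_map_conj_eq]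
        refine Subgroup.centralizer_le_normalizer _ ?_
        rw [CharP.centralizer_zpowers']
        exact hc'.2
    let S : Subgroup G :=
      { carrier := {r | r ∈ Subgroup.normalizer (V : Set G) ∧ ∀ e ∈ E, r * e * r⁻¹ * e⁻¹ ∈ V}
        one_mem' := ⟨one_mem _, fun e _ => by simp⟩
        mul_mem' := fun {a b} ha hb => ⟨mul_mem ha.1 hb.1, fun e he => by
          have h := mul_mem (ha.2 _ (Subgroup.Normal.conj_mem inferInstance e he b)) (hb.2 e he)
          convert h using 1
          group⟩
        inv_mem' := fun {a} ha => ⟨inv_mem ha.1, fun e he => by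
          have h := inv_mem (ha.2 _ (Subgroup.Normal.conj_mem inferInstance e he a⁻¹))
          convert h using 1
          group⟩ }
    have hmemS : ∀ u ∈ U, ∀ e ∈ E, u * e * u⁻¹ * e⁻¹ ∈ V := fun u hu e he => by
      have h := inv_mem (Subgroup.commutator_mem_commutator he hu)
      rwa [commutatorElement_inv, commutatorElement_def] at h
    have hUV : U ≤ Subgroup.normalizer (V : Set G) := Subgroup.normalizer_commutator_ge_right E U
    have hR₀S : R₀ ≤ S := by
      refine Subgroup.commutator_le.2 fun r hr u hu => ⟨?_, fun e he => ?_⟩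
      · exact Subgroup.mul_mem _ (Subgroup.mul_mem _ (Subgroup.mul_mem _ (hVR hr) (hUV hu))
          (Subgroup.inv_mem _ (hVR hr))) (Subgroup.inv_mem _ (hUV hu))
      · have hconj : ∀ g z : G, z ∈ E → g * z * g⁻¹ ∈ E := fun g z hz =>
          Subgroup.Normal.conj_mem inferInstance z hz g
        have hu' : u⁻¹ ∈ U := inv_mem hu
        have h1 : u⁻¹ * e * u⁻¹⁻¹ * e⁻¹ ∈ V := hmemS _ hu' e he
        set e1 := r⁻¹ * (u⁻¹ * e * u) * r with he1
        have he1E : e1 ∈ E := by
          have h := hconj r⁻¹ _ (hconj u⁻¹ e he)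
          simp only [inv_inv] at h
          exact h
        have h2 := (Subgroup.mem_normalizer_iff.1 (hVR hr) _).1 (hmemS u hu e1 he1E)
        have h3 := mul_mem h2 h1
        convert h3 using 1
        simp only [he1, commutatorElement_def]
        group
    refine CharP.le_centralizer_of_forall_fixed hnc hUR₀ (hcop hR₀) fun u hu hu1 => ?_
    refine Coprime.commutator_eq_bot_iff_le_centralizer'.1
      (CharP.commutator_eq_bot_of_le_commutator (A := Subgroup.zpowers u) hE
        (hUp.to_le (Subgroup.zpowers_le.2 hu))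
        (hRc.coprime_dvd_left (Subgroup.card_dvd_of_le (inf_le_left.trans hR₀)))
        Subgroup.le_normalizer_of_normal Subgroup.le_normalizer_of_normal ?_ ?_)
    · rw [Subgroup.le_centralizer_iff, CharP.centralizer_zpowers']
      exact inf_le_right
    · refine (Subgroup.commutator_le.2 fun e he b hb => ?_).trans_eq (hc u hu hu1)
      have h := inv_mem ((hR₀S hb.1).2 e he)
      convert h using 1
      simp only [commutatorElement_def]
      group

end Cfsg.Agent.S2909
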