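import Cfsg.Statements.S2910
import Cfsg.Agent.Lib.Transfer.Frobenius
import Cfsg.Agent.Lib.Coprime.OmegaDetect
import Cfsg.Agent.Lib.Components.Basic

set_option autoImplicit false
open Cfsg

namespace Cfsg.Agent.S2910

/-- Let p be an odd prime dividing the order of the finite group G and P a Sylow p-subgroup of G. If Ω₁(P) (generated by the elements of order dividing p) is contained in the centre of G, then G has a normal p-complement. In particular, if G is quasisimple then Ω₁(P) is not central in G. -/
theorem result {G : Type*} [Group G] [Finite G] {p : ℕ} [Fact p.Prime] (hp : p ≠ 2) (hdiv : p ∣ Nat.card G) (P : Sylow p G) (hZ : Cfsg.omegaOne p (P : Subgroup G) ≤ Subgroup.center G) : Cfsg.HasNormalPComplement p G ∧ ¬ Cfsg.IsQuasisimple G := by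
  have hh : Cfsg.HasNormalPComplement p G := by
    rw [Transfer.Frobenius.hasNormalPComplement_iff_condition]
    intro Q hQ g hg ho
    refine Coprime.OmegaDetect.mem_centralizer_of_fix ho hQ hg fun a ha hord => ?_
    rcases hord with hord | ⟨h2, -⟩
    · obtain ⟨R, hR⟩ := hQ.exists_le_sylow
      obtain ⟨h, rfl⟩ := MulAction.exists_smul_eq G P R
      have haR := hR ha
      rw [Sylow.coe_subgroup_smul] at haR
      obtain ⟨b, hb, hba⟩ := haR
      replace hba : h * b * h⁻¹ = a := hba
      subst hba
      rw [conj_pow, conj_eq_one_iff] at hord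
      have hbc : b ∈ Subgroup.center G := hZ (Subgroup.subset_closure ⟨hb, hord⟩)
      rw [Subgroup.mem_center_iff.1 hbc h, mul_inv_cancel_right]
      exact Subgroup.mem_center_iff.1 hbc g
    · exact absurd h2 hp
  refine ⟨hh, fun hq => ?_⟩
  obtain ⟨N, hN, hNc⟩ := (Transfer.NormalPComplement.hasNormalPComplement_iff_sylow P).1 hh
  haveI := hN
  haveI := hq.1
  obtain ⟨k, hk⟩ := P.2.exists_card_eq
  have hidx : N.index = p ^ k := hNc.symm.index_eq_card.trans hk
  have hPne : (P : Subgroup G) ≠ ⊥ := P.ne_bot_of_dvd_card hdiv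
  haveI : Group.IsNilpotent (G ⧸ N) :=
    (IsPGroup.of_card (G := G ⧸ N) (n := k) ((Subgroup.index_eq_card N).symm.trans hidx)).isNilpotent
  haveI : Group.IsPerfect (G ⧸ N) :=
    Group.IsPerfect.ofSurjective (f := QuotientGroup.mk' N) (QuotientGroup.mk'_surjective N)
  haveI : Nontrivial (G ⧸ N) := by
    rw [QuotientGroup.nontrivial_iff]
    intro h
    rw [h, Subgroup.index_top] at hidx
    refine hPne (Subgroup.card_eq_one.1 ?_)
    rw [hk, ← hidx]
  exact Group.IsPerfect.not_isSolvable (G ⧸ N) inferInstance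

end Cfsg.Agent.S2910
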