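import Cfsg.Statements.S2912
import Cfsg.Agent.Techniques.ExtraspecialModule

set_option autoImplicit false
open Cfsg

namespace Cfsg.Agent.S2912

/-- Let p and r be distinct primes, let E be an extraspecial subgroup of order p^(2w+1) of a finite group, and let A be an elementary abelian r-subgroup normalized by E on which E acts faithfully (C_E(A) = 1). If n ≥ 1 is least with p dividing rⁿ − 1 (the smallest dimension of a faithful representation of a group of order p over the field with r elements), then the order of A is at least r^(n·p^w). -/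
theorem result {G : Type*} [Group G] [Finite G] {p r : ℕ} [Fact p.Prime] [hr : Fact r.Prime] (hpr : p ≠ r) (E A : Subgroup G) (w : ℕ) (hE : Cfsg.IsExtraspecial p ↥E) (hEcard : Nat.card ↥E = p ^ (2 * w + 1)) (hA : Cfsg.IsElementaryAbelian r A) (hnorm : E ≤ Subgroup.normalizer (A : Set G)) (hfaith : E ⊓ Subgroup.centralizer (A : Set G) = ⊥) (n : ℕ) (hn : 1 ≤ n) (hdiv : p ∣ r ^ n - 1) (hmin : ∀ k : ℕ, 1 ≤ k → p ∣ r ^ k - 1 → n ≤ k) : r ^ (n * p ^ w) ≤ Nat.card ↥A := by
  classical
  haveI : IsMulCommutative A := hA.1
  letI : CommGroup A := { (inferInstance : Group A) with mul_comm := fun a b => IsMulCommutative.is_comm.comm a b }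
  let φ : ↥E →* MulAut A :=
    { toFun := fun x =>
        { toFun := fun a => ⟨x.1 * a.1 * x.1⁻¹, (Subgroup.mem_normalizer_iff.mp (hnorm x.2) a.1).mp a.2⟩
          invFun := fun a => ⟨x.1⁻¹ * a.1 * x.1, by
            have := (Subgroup.mem_normalizer_iff.mp (hnorm (E.inv_mem x.2)) a.1).mp a.2
            rwa [inv_inv] at this⟩
          left_inv := fun a => Subtype.ext (by simp [mul_assoc])
          right_inv := fun a => Subtype.ext (by simp [mul_assoc])
          map_mul' := fun a b => Subtype.ext (by simp [mul_assoc]) }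
      map_one' := by ext a; simp
      map_mul' := fun x y => by ext a; simp [mul_assoc] }
  have hfaith' : ∀ x : ↥E, φ x = 1 → x = 1 := by
    intro x hx
    have hmem : x.1 ∈ E ⊓ Subgroup.centralizer (A : Set G) := by
      refine ⟨x.2, Subgroup.mem_centralizer_iff.mpr fun a ha => ?_⟩
      have h : x.1 * a * x.1⁻¹ = a :=
        congrArg Subtype.val (DFunLike.congr_fun hx ⟨a, ha⟩)
      exact (mul_inv_eq_iff_eq_mul.mp h).symm
    rw [hfaith, Subgroup.mem_bot] at hmem
    exact Subtype.ext hmem
  have hidx : (Subgroup.center ↥E).index = p ^ w * p ^ w := by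
    have h := (Subgroup.center ↥E).card_mul_index
    rw [hE.2, hEcard, show 2 * w + 1 = w + w + 1 by omega, pow_succ' p (w + w), pow_add] at h
    exact Nat.eq_of_mul_eq_mul_left (Fact.out : p.Prime).pos h
  exact Techniques.ExtraspecialModule.card_ge_mulAut (Fact.out : r.Prime) hpr (fun a => Subtype.ext (hA.2 _ a.2)) φ hE.1.2.2.le hE.2 hfaith' _ hidx n hmin

end Cfsg.Agent.S2912
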