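import Cfsg.Statements.S2924
import Cfsg.Agent.Lib.Components.Fitting
import Cfsg.Agent.Lib.Coprime.PGroup
import Cfsg.Agent.Lib.Cores.Basic

/-
The cores of the centralisers of the involutions of `Y` generate an abelian group of odd order.
The involution `z` with `F*(C(z)) = O₂(C(z))` inverts every thetaCore, so every thetaCore is abelian; the
parts `O(C(y)) ∩ C(t)` lie in `O(C(t))`, and as `Y` has rank at least three any two eigenvectors
of `Y` in the cores lie in a common thetaCore.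
-/

set_option autoImplicit false
open Cfsg

namespace Cfsg.Agent.S2924

open Subgroup
open Cfsg.Agent.Components

section
variable {X : Type*} [Group X] [Finite X]

/-- `O(C(y))` as a subgroup of the ambient group. -/
def thetaCore (y : X) : Subgroup X :=
  (Cfsg.oddCore ↥(Subgroup.centralizer ({y} : Set X))).map (Subgroup.centralizer ({y} : Set X)).subtype

/-- `O₂(C(y))` as a subgroup of the ambient group. -/
def two (y : X) : Subgroup X :=
  (Cfsg.pCore 2 ↥(Subgroup.centralizer ({y} : Set X))).map (Subgroup.centralizer ({y} : Set X)).subtype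

/-- A subset of a finite group mapped into itself by conjugation gives a normalising element. -/
lemma mem_normalizer' {H : Subgroup X} {g : X} (h : ∀ a ∈ H, g * a * g⁻¹ ∈ H) :
    g ∈ normalizer (H : Set X) := by
  have hle : H.map (MulAut.conj g).toMonoidHom ≤ H := map_le_iff_le_comap.2 h
  have heq : H.map (MulAut.conj g).toMonoidHom = H := Subgroup.eq_of_le_of_card_ge hle
    (by rw [card_map_of_injective (MulAut.conj g).injective])
  rw [mem_normalizer_iff]
  intro a
  refine ⟨h a, fun ha => ?_⟩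
  rw [← heq] at ha
  obtain ⟨b, hb, hba⟩ := ha
  exact (MulAut.conj g).injective (a₁ := b) (a₂ := a) hba ▸ hb

lemma core_le (y : X) : (thetaCore y) ≤ centralizer ({y} : Set X) := map_subtype_le _

lemma core_coprime (y : X) : (Nat.card ↥(thetaCore y)).Coprime 2 := by
  rw [thetaCore, card_map_of_injective (subtype_injective _)]
  exact Cores.pPrimeCore_card_coprime 2

lemma core_odd {y u : X} (hu : u ∈ (thetaCore y)) : Odd (orderOf u) := by
  have h := (core_coprime y).coprime_dvd_left (Subgroup.orderOf_dvd_natCard _ hu)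
  rwa [Nat.coprime_two_right] at h

lemma core_conj {y g a : X} (hg : g ∈ centralizer ({y} : Set X)) (ha : a ∈ (thetaCore y)) :
    g * a * g⁻¹ ∈ (thetaCore y) := by
  obtain ⟨a', ha', rfl⟩ := ha
  exact ⟨⟨g, hg⟩ * a' * ⟨g, hg⟩⁻¹, (Cores.pPrimeCore_normal 2).conj_mem a' ha' _, by simp⟩

lemma two_conj {y g a : X} (hg : g ∈ centralizer ({y} : Set X)) (ha : a ∈ (two y)) :
    g * a * g⁻¹ ∈ (two y) := by
  obtain ⟨a', ha', rfl⟩ := ha
  exact ⟨⟨g, hg⟩ * a' * ⟨g, hg⟩⁻¹, (Cores.pCore_normal 2).conj_mem a' ha' _, by simp⟩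

lemma two_isPGroup (y : X) : IsPGroup 2 ↥(two y) := (Cores.pCore_isPGroup 2).map _

lemma eq_one_of_odd_two {w : X} {H : Subgroup X} (hH : IsPGroup 2 H) (hw : w ∈ H)
    (ho : Odd (orderOf w)) : w = 1 := by
  obtain ⟨k, hk⟩ := (IsPGroup.iff_orderOf.1 hH) ⟨w, hw⟩
  rw [← Subgroup.orderOf_coe] at hk
  simp only at hk
  rw [← orderOf_eq_one_iff, hk]
  rcases Nat.eq_zero_or_pos k with rfl | hk0
  · rfl
  · exact absurd (hk ▸ ho) (Nat.not_odd_iff_even.2 ((Nat.even_pow.2 ⟨even_two, hk0.ne'⟩)))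

variable {Y : Subgroup X}

lemma comm_mem (hY : Cfsg.IsElementaryAbelian 2 Y) {a b : X} (ha : a ∈ Y) (hb : b ∈ Y) :
    a * b = b * a := by
  exact congrArg Subtype.val (hY.1.is_comm.comm ⟨a, ha⟩ ⟨b, hb⟩)

lemma mem_centralizer' (hY : Cfsg.IsElementaryAbelian 2 Y) {a b : X} (ha : a ∈ Y) (hb : b ∈ Y) :
    a ∈ centralizer ({b} : Set X) :=
  mem_centralizer_singleton_iff.2 (comm_mem hY ha hb)

/-- The odd part centralises the two part of another centraliser. -/
lemma centralizes_two_core (hY : Cfsg.IsElementaryAbelian 2 Y) {y t : X} (hy : y ∈ Y) (ht : t ∈ Y) :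
    (thetaCore y) ⊓ centralizer ({t} : Set X) ≤ centralizer (((two t) : Subgroup X) : Set X) := by
  set D := (thetaCore y) ⊓ centralizer ({t} : Set X) with hD
  have hyt := mem_centralizer' hY hy ht
  have hP : IsPGroup 2 ↥(zpowers y) := by
    intro x
    refine ⟨1, ?_⟩
    obtain ⟨x, hx⟩ := x
    have hx2 : x ^ 2 = 1 := hY.2 x ((zpowers_le.2 hy) hx)
    exact Subtype.ext (by simpa using hx2)
  refine Coprime.le_centralizer_of_pxq (p := 2) (P := zpowers y) hP
    ((core_coprime y).coprime_dvd_left (card_dvd_of_le inf_le_left)) (two_isPGroup t) ?_ ?_ ?_ ?_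
  · rw [zpowers_le, mem_centralizer_iff]
    exact fun d hd => mem_centralizer_singleton_iff.1 (core_le y hd.1)
  · rw [zpowers_le]
    exact mem_normalizer' (fun a ha => two_conj hyt ha)
  · intro d hd
    exact mem_normalizer' (fun a ha => two_conj hd.2 ha)
  · rintro r ⟨hr, hry⟩
    have hry' : r ∈ centralizer ({y} : Set X) := by
      rw [mem_centralizer_singleton_iff]
      exact (mem_centralizer_iff.1 hry y (mem_zpowers y)).symm
    rw [mem_centralizer_iff]
    intro d hd
    have h1 : d * r * d⁻¹ * r⁻¹ ∈ (two t) := mul_mem (two_conj hd.2 hr) (inv_mem hr)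
    have h2 : d * r * d⁻¹ * r⁻¹ ∈ (thetaCore y) := by
      have : d * r * d⁻¹ * r⁻¹ = d * (r * d⁻¹ * r⁻¹) := by group
      rw [this]
      exact mul_mem hd.1 (core_conj hry' (inv_mem hd.1))
    have h3 := eq_one_of_odd_two (two_isPGroup t) h1 (core_odd h2)
    rw [mul_inv_eq_one, mul_inv_eq_iff_eq_mul] at h3
    exact h3

lemma mem_core_of_odd {L : Type*} [Group L] [Finite L] {x : L}
    (hx : x ∈ Cfsg.pCore 2 L ⊔ Cfsg.pPrimeCore 2 L) (ho : Odd (orderOf x)) :
    x ∈ Cfsg.pPrimeCore 2 L := by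
  have := Cores.pPrimeCore_normal (G := L) 2
  have := Cores.pCore_normal (G := L) 2
  obtain ⟨a, ha, b, hb, rfl⟩ := mem_sup_of_normal_right.1 hx
  have hd : Disjoint (Cfsg.pCore 2 L) (Cfsg.pPrimeCore 2 L) :=
    disjoint_iff.2 (Cores.pCore_inf_pPrimeCore 2)
  have hc : Commute a b :=
    commute_of_normal_of_disjoint _ _ inferInstance inferInstance hd a b ha hb
  have hn : (a * b) ^ orderOf (a * b) = 1 := pow_orderOf_eq_one _
  rw [hc.mul_pow] at hn
  have ha1 : a ^ orderOf (a * b) = 1 := by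
    refine (disjoint_def.1 hd) (pow_mem ha _) ?_
    rw [eq_inv_of_mul_eq_one_left hn]
    exact inv_mem (pow_mem hb _)
  obtain ⟨k, hk⟩ := (IsPGroup.iff_orderOf.1 (Cores.pCore_isPGroup (G := L) 2)) ⟨a, ha⟩
  rw [← Subgroup.orderOf_coe] at hk
  simp only at hk
  have hdvd : orderOf a ∣ orderOf (a * b) := orderOf_dvd_of_pow_eq_one ha1
  rw [hk] at hdvd
  have hk0 : k = 0 := by
    rcases Nat.eq_zero_or_pos k with rfl | hk0
    · rfl
    · exact absurd ((dvd_pow_self 2 hk0.ne').trans hdvd) (fun h => (Nat.not_even_iff_odd.2 ho) (even_iff_two_dvd.2 h))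
  subst hk0
  rw [pow_zero, orderOf_eq_one_iff] at hk
  rwa [hk, one_mul]

variable (hY : Cfsg.IsElementaryAbelian 2 Y)
  (hE : ∀ x ∈ Y, x ≠ 1 → Cfsg.layer ↥(Subgroup.centralizer ({x} : Set X)) = ⊥)
  {z : X} (hzY : z ∈ Y)
  (hF : Cfsg.generalizedFittingSubgroup ↥(Subgroup.centralizer ({z} : Set X)) =
    Cfsg.pCore 2 ↥(Subgroup.centralizer ({z} : Set X)))

include hY hzY hF in
lemma fpf {y d : X} (hy : y ∈ Y) (hd : d ∈ (thetaCore y)) (hdz : d ∈ centralizer ({z} : Set X)) : d = 1 := by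
  have hc := centralizes_two_core hY hy hzY ⟨hd, hdz⟩
  have hmem : (⟨d, hdz⟩ : centralizer ({z} : Set X)) ∈
      centralizer ((Cfsg.generalizedFittingSubgroup ↥(centralizer ({z} : Set X))) : Set _) := by
    rw [hF, mem_centralizer_iff]
    intro r hr
    exact Subtype.ext (mem_centralizer_iff.1 hc _ ⟨r, hr, rfl⟩)
  have := Fitting.centralizer_genFitting_le hmem
  rw [hF] at this
  exact eq_one_of_odd_two (two_isPGroup z) ⟨_, this, rfl⟩ (core_odd hd)

include hY hzY hF in
lemma inverts {y u : X} (hy : y ∈ Y) (hu : u ∈ (thetaCore y)) : z * u * z⁻¹ = u⁻¹ := by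
  have hzy := mem_centralizer' hY hzY hy
  have hz2 : z * z = 1 := by rw [← sq]; exact hY.2 z hzY
  let f : ↥(thetaCore y) → ↥(thetaCore y) := fun a => ⟨(a : X)⁻¹ * (z * a * z⁻¹),
    mul_mem (inv_mem a.2) (core_conj hzy a.2)⟩
  have hinj : Function.Injective f := by
    intro a b h
    have h' : (a : X)⁻¹ * (z * a * z⁻¹) = (b : X)⁻¹ * (z * b * z⁻¹) := congrArg Subtype.val h
    have hfix : z * ((b : X) * (a : X)⁻¹) * z⁻¹ = (b : X) * (a : X)⁻¹ := by
      have h2 : z * (a : X) * z⁻¹ = (a : X) * (b : X)⁻¹ * (z * b * z⁻¹) := by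
        rw [mul_assoc (a : X), ← h']; group
      calc z * ((b : X) * (a : X)⁻¹) * z⁻¹ = (z * b * z⁻¹) * (z * a * z⁻¹)⁻¹ := by group
        _ = _ := by rw [h2]; group
    have := fpf hY hzY hF hy (mul_mem b.2 (inv_mem a.2)) (mem_centralizer_singleton_iff.2
      (by rw [mul_inv_eq_iff_eq_mul] at hfix; exact hfix.symm))
    exact Subtype.ext (mul_inv_eq_one.1 this).symm
  obtain ⟨a, ha⟩ := (Finite.injective_iff_surjective.1 hinj) ⟨u, hu⟩
  have ha' : (a : X)⁻¹ * (z * a * z⁻¹) = u := congrArg Subtype.val ha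
  have hzi : z⁻¹ = z := inv_eq_of_mul_eq_one_right hz2
  rw [← ha', hzi]
  simp only [mul_inv_rev, inv_inv, hzi]
  calc z * ((a : X)⁻¹ * (z * a * z)) * z = z * (a : X)⁻¹ * z * a * (z * z) := by simp only [mul_assoc]
    _ = _ := by rw [hz2, mul_one]; simp only [mul_assoc]

include hY hzY hF in
lemma core_comm {y u v : X} (hy : y ∈ Y) (hu : u ∈ (thetaCore y)) (hv : v ∈ (thetaCore y)) : Commute u v := by
  have h1 := inverts hY hzY hF hy (mul_mem hu hv)
  have h2 : z * (u * v) * z⁻¹ = u⁻¹ * v⁻¹ := by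
    rw [← inverts hY hzY hF hy hu, ← inverts hY hzY hF hy hv]; group
  rw [h1, mul_inv_rev] at h2
  exact (Commute.inv_inv_iff.1 h2.symm)

include hY hE hzY hF in
lemma balance {y t u : X} (hy : y ∈ Y) (ht : t ∈ Y) (ht1 : t ≠ 1) (hu : u ∈ (thetaCore y))
    (hut : u ∈ centralizer ({t} : Set X)) : u ∈ (thetaCore t) := by
  set L := centralizer ({t} : Set X) with hL
  have hzu := inverts hY hzY hF hy hu
  have hodd : ∀ a ∈ (thetaCore t), Commute u a := by
    intro a ha
    have h1 := inverts hY hzY hF ht (core_conj hut ha)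
    have h2 : z * (u * a * u⁻¹) * z⁻¹ = u⁻¹ * a⁻¹ * u := by
      have h3 := inverts hY hzY hF ht ha
      calc z * (u * a * u⁻¹) * z⁻¹ = (z * u * z⁻¹) * (z * a * z⁻¹) * (z * u * z⁻¹)⁻¹ := by group
        _ = _ := by rw [hzu, h3, inv_inv]
    rw [h1] at h2
    have h4 : Commute (u ^ 2) a⁻¹ := by
      show u ^ 2 * a⁻¹ = a⁻¹ * u ^ 2
      calc u ^ 2 * a⁻¹ = u * ((u * a * u⁻¹)⁻¹) * u := by simp [sq, mul_assoc]
        _ = u * (u⁻¹ * a⁻¹ * u) * u := by rw [h2]
        _ = a⁻¹ * u ^ 2 := by simp [sq, mul_assoc]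
    obtain ⟨m, hm⟩ := core_odd hu
    have h5 : u = (u ^ 2) ^ (m + 1) := by
      rw [← pow_mul, show 2 * (m + 1) = orderOf u + 1 by omega, pow_succ, pow_orderOf_eq_one, one_mul]
    rw [h5]
    exact (Commute.inv_right_iff.1 h4).pow_left _
  have htwo := centralizes_two_core hY hy ht ⟨hu, hut⟩
  have hmem : (⟨u, hut⟩ : L) ∈ centralizer ((Cfsg.generalizedFittingSubgroup ↥L) : Set _) := by
    rw [← zpowers_le, ← commutator_eq_bot_iff_le_centralizer, commutator_comm,
      commutator_eq_bot_iff_le_centralizer]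
    show layer ↥L ⊔ fittingSubgroup ↥L ≤ _
    rw [hE t ht ht1, bot_sup_eq, Fitting.fitting_eq_coreJoin]
    refine iSup_le fun p => ?_
    intro r hr
    rw [mem_centralizer_iff]
    intro w hw
    have hc : (⟨u, hut⟩ : L) * r = r * ⟨u, hut⟩ := by
      apply Subtype.ext
      show u * (r : X) = (r : X) * u
      obtain ⟨p, hp⟩ := p
      haveI : Fact p.Prime := ⟨hp⟩
      by_cases hp2 : p = 2
      · subst hp2
        exact (mem_centralizer_iff.1 htwo _ ⟨r, hr, rfl⟩).symm
      · refine hodd _ ⟨r, ?_, rfl⟩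
        have := Cores.pCore_normal (G := ↥L) p
        refine Cores.le_pPrimeCore ?_ hr
        obtain ⟨k, hk⟩ := IsPGroup.iff_card.1 (Cores.pCore_isPGroup (G := ↥L) p)
        show Nat.Coprime _ 2
        rw [hk]
        exact Nat.Coprime.pow_left _ ((Nat.coprime_primes hp Nat.prime_two).2 hp2)
    obtain ⟨i, rfl⟩ := mem_zpowers_iff.1 hw
    exact ((show Commute (⟨u, hut⟩ : L) r from hc).zpow_left i).eq
  have h6 := Fitting.centralizer_genFitting_le hmem
  have hFle : Cfsg.generalizedFittingSubgroup ↥L ≤ Cfsg.pCore 2 ↥L ⊔ Cfsg.pPrimeCore 2 ↥L := by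
    show layer ↥L ⊔ fittingSubgroup ↥L ≤ _
    rw [hE t ht ht1, bot_sup_eq, Fitting.fitting_eq_coreJoin]
    refine iSup_le fun p => ?_
    obtain ⟨p, hp⟩ := p
    haveI : Fact p.Prime := ⟨hp⟩
    by_cases hp2 : p = 2
    · subst hp2; exact le_sup_left
    · have := Cores.pCore_normal (G := ↥L) p
      refine le_trans (Cores.le_pPrimeCore ?_) le_sup_right
      obtain ⟨k, hk⟩ := IsPGroup.iff_card.1 (Cores.pCore_isPGroup (G := ↥L) p)
      show Nat.Coprime _ 2
      rw [hk]
      exact Nat.Coprime.pow_left _ ((Nat.coprime_primes hp Nat.prime_two).2 hp2)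
  refine ⟨⟨u, hut⟩, mem_core_of_odd (hFle h6) ?_, rfl⟩
  rw [← Subgroup.orderOf_coe]
  exact core_odd hu

include hY hzY hF in
/-- Each thetaCore is generated by its eigenvectors for `Y`. -/
lemma mem_closure_eigen {y : X} (hy : y ∈ Y) (T : Finset X) (hT : ∀ s ∈ T, s ∈ Y) :
    ∀ a ∈ (thetaCore y), a ∈ Subgroup.closure {u | u ∈ (thetaCore y) ∧ ∀ s ∈ T, s * u * s⁻¹ = u ∨ s * u * s⁻¹ = u⁻¹} := by
  classical
  induction T using Finset.induction_on with
  | empty => exact fun a ha => subset_closure ⟨ha, by simp⟩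
  | insert s T hs ih =>
    intro a ha
    have hsY := hT s (Finset.mem_insert_self s T)
    have hT' : ∀ t ∈ T, t ∈ Y := fun t ht => hT t (Finset.mem_insert_of_mem ht)
    refine (closure_le _).2 ?_ (ih hT' a ha)
    rintro u ⟨hu, hsign⟩
    have hsy := mem_centralizer' hY hsY hy
    set c := s * u * s⁻¹ with hc
    have hcu : c ∈ (thetaCore y) := core_conj hsy hu
    have hcc : Commute u c := core_comm hY hzY hF hy hu hcu
    have hss : s * c * s⁻¹ = u := by
      have hs2 : s * s = 1 := by rw [← sq]; exact hY.2 s hsY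
      calc s * c * s⁻¹ = (s * s) * u * (s * s)⁻¹ := by rw [hc]; group
        _ = u := by rw [hs2]; group
    have hsc : ∀ t ∈ T, (t * u * t⁻¹ = u → t * c * t⁻¹ = c) ∧ (t * u * t⁻¹ = u⁻¹ → t * c * t⁻¹ = c⁻¹) := by
      intro t ht
      have hts := comm_mem hY (hT' t ht) hsY
      have he : t * c * t⁻¹ = s * (t * u * t⁻¹) * s⁻¹ := by
        rw [hc]
        calc t * (s * u * s⁻¹) * t⁻¹ = (t * s) * u * (t * s)⁻¹ := by group
          _ = _ := by rw [hts]; group
      refine ⟨fun h => by rw [he, h, hc], fun h => by rw [he, h, hc]; group⟩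
    have hplus : u * c ∈ Subgroup.closure {v | v ∈ (thetaCore y) ∧
        ∀ t ∈ insert s T, t * v * t⁻¹ = v ∨ t * v * t⁻¹ = v⁻¹} := by
      refine subset_closure ⟨mul_mem hu hcu, fun t ht => ?_⟩
      rcases Finset.mem_insert.1 ht with rfl | ht
      · left
        rw [← conj_mul, ← hc, hss, hcc.eq]
      · rcases hsign t ht with h | h
        · left; rw [← conj_mul, h, (hsc t ht).1 h]
        · right; rw [← conj_mul, h, (hsc t ht).2 h, mul_inv_rev u c]; exact hcc.inv_inv.eq
    have hminus : u * c⁻¹ ∈ Subgroup.closure {v | v ∈ (thetaCore y) ∧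
        ∀ t ∈ insert s T, t * v * t⁻¹ = v ∨ t * v * t⁻¹ = v⁻¹} := by
      refine subset_closure ⟨mul_mem hu (inv_mem hcu), fun t ht => ?_⟩
      rcases Finset.mem_insert.1 ht with rfl | ht
      · right
        rw [← conj_mul, ← conj_inv, ← hc, hss, mul_inv_rev, inv_inv]
      · rcases hsign t ht with h | h
        · left; rw [← conj_mul, ← conj_inv, h, (hsc t ht).1 h]
        · right
          rw [← conj_mul, ← conj_inv, h, (hsc t ht).2 h, inv_inv, mul_inv_rev, inv_inv]
          exact hcc.inv_left.eq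
    obtain ⟨m, hm⟩ := core_odd hu
    have h5 : u = ((u * c) * (u * c⁻¹)) ^ (m + 1) := by
      have : (u * c) * (u * c⁻¹) = u ^ 2 := by
        calc (u * c) * (u * c⁻¹) = u * (c * u) * c⁻¹ := by group
          _ = u * (u * c) * c⁻¹ := by rw [hcc.eq]
          _ = u ^ 2 := by simp [sq, mul_assoc]
      rw [this, ← pow_mul, show 2 * (m + 1) = orderOf u + 1 by omega, pow_succ, pow_orderOf_eq_one,
        one_mul]
    show u ∈ Subgroup.closure _
    rw [h5]
    exact pow_mem (mul_mem hplus hminus) _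

end

theorem result {X : Type*} [Group X] [Finite X] (Y : Subgroup X) (hY : Cfsg.IsElementaryAbelian 2 Y) (h8 : 8 ≤ Nat.card ↥Y) (hE : ∀ x ∈ Y, x ≠ 1 → Cfsg.layer ↥(Subgroup.centralizer ({x} : Set X)) = ⊥) (hz : ∃ z ∈ Y, z ≠ 1 ∧ Cfsg.generalizedFittingSubgroup ↥(Subgroup.centralizer ({z} : Set X)) = Cfsg.pCore 2 ↥(Subgroup.centralizer ({z} : Set X))) : Odd (Nat.card ↥(⨆ y : {y : X // y ∈ Y ∧ y ≠ 1}, (Cfsg.oddCore ↥(Subgroup.centralizer ({(y : X)} : Set X))).map (Subgroup.centralizer ({(y : X)} : Set X)).subtype)) ∧ Subgroup.normalizer (Y : Set X) ≤ Subgroup.normalizer ((⨆ y : {y : X // y ∈ Y ∧ y ≠ 1}, (Cfsg.oddCore ↥(Subgroup.centralizer ({(y : X)} : Set X))).map (Subgroup.centralizer ({(y : X)} : Set X)).subtype : Subgroup X) : Set X) := by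
  classical
  obtain ⟨z, hzY, -, hF⟩ := hz
  show Odd (Nat.card ↥(⨆ y : {y : X // y ∈ Y ∧ y ≠ 1}, thetaCore (y : X))) ∧ _ ≤
    normalizer ((⨆ y : {y : X // y ∈ Y ∧ y ≠ 1}, thetaCore (y : X) : Subgroup X) : Set X)
  set W := ⨆ y : {y : X // y ∈ Y ∧ y ≠ 1}, thetaCore (y : X) with hW
  constructor
  · let T : Finset X := (Set.toFinite (Y : Set X)).toFinset
    have hT : ∀ s, s ∈ T ↔ s ∈ Y := fun s => Set.Finite.mem_toFinset _
    let E : Set X := {u | ∃ y : X, y ∈ Y ∧ y ≠ 1 ∧ u ∈ thetaCore y ∧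
      ∀ s ∈ Y, s * u * s⁻¹ = u ∨ s * u * s⁻¹ = u⁻¹}
    have hWE : W ≤ Subgroup.closure E := by
      refine iSup_le fun y => fun a ha => ?_
      refine closure_mono ?_ (mem_closure_eigen hY hzY hF y.2.1 T (fun s hs => (hT s).1 hs) a ha)
      rintro u ⟨hu, hs⟩
      exact ⟨y, y.2.1, y.2.2, hu, fun s hsY => hs s ((hT s).2 hsY)⟩
    have hcomm : ∀ u ∈ E, ∀ v ∈ E, u * v = v * u := by
      rintro u ⟨y, hy, -, hu, hus⟩ v ⟨y', hy', -, hv, hvs⟩
      let f : Y → Bool × Bool := fun s =>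
        (decide ((s : X) * u * (s : X)⁻¹ = u), decide ((s : X) * v * (s : X)⁻¹ = v))
      have hnot : ¬ Function.Injective f := by
        intro h
        have := Nat.card_le_card_of_injective f h
        rw [Nat.card_eq_fintype_card (α := Bool × Bool)] at this
        simp at this
        omega
      obtain ⟨s, s', hf, hne⟩ := Function.not_injective_iff.1 hnot
      simp only [f, Prod.mk.injEq, decide_eq_decide] at hf
      set t := (s : X)⁻¹ * s' with ht
      have htY : t ∈ Y := mul_mem (inv_mem s.2) s'.2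
      have ht1 : t ≠ 1 := fun h => hne (Subtype.ext (inv_mul_eq_one.1 h))
      have key : ∀ w : X, (∀ r ∈ Y, r * w * r⁻¹ = w ∨ r * w * r⁻¹ = w⁻¹) →
          ((s : X) * w * (s : X)⁻¹ = w ↔ (s' : X) * w * (s' : X)⁻¹ = w) →
          w ∈ centralizer ({t} : Set X) := by
        intro w hw hiff
        have he : (s : X) * w * (s : X)⁻¹ = (s' : X) * w * (s' : X)⁻¹ := by
          by_cases h : (s : X) * w * (s : X)⁻¹ = w
          · rw [h, hiff.1 h]
          · rw [(hw _ s.2).resolve_left h, (hw _ s'.2).resolve_left (fun h' => h (hiff.2 h'))]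
        rw [mem_centralizer_singleton_iff, ht]
        calc w * ((s : X)⁻¹ * s') = (s : X)⁻¹ * ((s : X) * w * (s : X)⁻¹) * s' := by group
          _ = _ := by rw [he]; group
      exact (core_comm hY hzY hF htY (balance hY hE hzY hF hy htY ht1 hu (key u hus hf.1))
        (balance hY hE hzY hF hy' htY ht1 hv (key v hvs hf.2))).eq
    have hodd : ∀ x ∈ Subgroup.closure E, Odd (orderOf x) := by
      haveI := Subgroup.isMulCommutative_closure hcomm
      intro x hx
      induction hx using closure_induction with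
      | mem u hu =>
        obtain ⟨y, -, -, hu, -⟩ := hu
        exact core_odd hu
      | one => simp
      | mul a b ha hb iha ihb =>
        have hc : Commute a b := congrArg Subtype.val
          ((Subgroup.isMulCommutative_closure hcomm).is_comm.comm ⟨a, ha⟩ ⟨b, hb⟩)
        exact Odd.of_dvd_nat (iha.mul ihb) (hc.orderOf_mul_dvd_mul_orderOf)
      | inv a ha iha => rwa [orderOf_inv]
    rw [← Nat.not_even_iff_odd, even_iff_two_dvd]
    intro h2
    haveI : Fact (Nat.Prime 2) := ⟨Nat.prime_two⟩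
    obtain ⟨w, hw⟩ := exists_prime_orderOf_dvd_card' 2 h2
    have := hodd w (hWE w.2)
    rw [Subgroup.orderOf_coe, hw] at this
    exact absurd this (by decide)
  · intro g hg
    have hmap : ∀ h ∈ normalizer (Y : Set X), ∀ y : {y : X // y ∈ Y ∧ y ≠ 1}, ∀ a ∈ thetaCore (y : X),
        h * a * h⁻¹ ∈ W := by
      intro h hh y a ha
      have hy' : h * y * h⁻¹ ∈ Y ∧ h * y * h⁻¹ ≠ 1 :=
        ⟨(mem_normalizer_iff.1 hh _).1 y.2.1, fun e => y.2.2 (conj_eq_one_iff.1 e)⟩
      refine mem_iSup_of_mem ⟨_, hy'⟩ ?_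
      let M : Subgroup X := (thetaCore (y : X)).map (MulAut.conj h).toMonoidHom
      set C := centralizer ({h * (y : X) * h⁻¹} : Set X) with hC
      have hMC : M ≤ C := by
        rintro _ ⟨b, hb, rfl⟩
        rw [hC, mem_centralizer_singleton_iff]
        have hby := mem_centralizer_singleton_iff.1 (core_le (y : X) hb)
        show h * b * h⁻¹ * (h * (y : X) * h⁻¹) = h * (y : X) * h⁻¹ * (h * b * h⁻¹)
        calc _ = h * (b * y) * h⁻¹ := by group
          _ = h * (y * b) * h⁻¹ := by rw [hby]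
          _ = _ := by group
      haveI : (M.subgroupOf C).Normal := by
        constructor
        rintro ⟨m, hm⟩ hmM ⟨c, hc⟩
        obtain ⟨b, hb, hbm⟩ := hmM
        refine ⟨(h⁻¹ * c * h) * b * (h⁻¹ * c * h)⁻¹, core_conj ?_ hb, ?_⟩
        · have hc := mem_centralizer_singleton_iff.1 (hC ▸ hc)
          rw [mem_centralizer_singleton_iff]
          calc h⁻¹ * c * h * (y : X) = h⁻¹ * (c * (h * y * h⁻¹)) * h := by group
            _ = h⁻¹ * ((h * y * h⁻¹) * c) * h := by rw [hc]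
            _ = _ := by group
        · have hbm' : h * b * h⁻¹ = m := hbm
          show h * ((h⁻¹ * c * h) * b * (h⁻¹ * c * h)⁻¹) * h⁻¹ = c * m * c⁻¹
          rw [← hbm']; group
      have hle : M.subgroupOf C ≤ Cfsg.oddCore ↥C := by
        refine Cores.le_pPrimeCore ?_
        rw [Nat.card_congr (subgroupOfEquivOfLe hMC).toEquiv]
        exact (core_coprime (y : X)).coprime_dvd_left (card_map_dvd _ _)
      exact ⟨⟨h * a * h⁻¹, hMC ⟨a, ha, rfl⟩⟩, hle (show _ ∈ M from ⟨a, ha, rfl⟩), rfl⟩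
    have hfor : ∀ h ∈ normalizer (Y : Set X), ∀ x ∈ W, h * x * h⁻¹ ∈ W := by
      intro h hh x hx
      refine iSup_induction _ (C := fun x => h * x * h⁻¹ ∈ W) hx
        (fun y a ha => hmap h hh y a ha) (by simp) ?_
      intro a b ha hb
      rw [← conj_mul]
      exact mul_mem ha hb
    rw [mem_normalizer_iff]
    intro x
    refine ⟨hfor g hg x, fun hx => ?_⟩
    have := hfor g⁻¹ (inv_mem hg) _ hx
    simpa [mul_assoc] using this

end Cfsg.Agent.S2924
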