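import Cfsg.Statements.S2925
import Cfsg.Agent.Lib.Components.Layer
import Cfsg.Agent.Lib.Cores.Subnormal

set_option linter.all false

set_option autoImplicit false
open Cfsg

namespace Cfsg.Agent.S2925

open Subgroup Cfsg.Agent.Components.Basic

/-- Let K be a component of the finite group X and T a Sylow 2-subgroup of X. If some abelian normal subgroup Y of T does not normalize K, then K ⧸ Z(K) has abelian Sylow 2-subgroups. -/
theorem result {X : Type*} [Group X] [Finite X] (K : Subgroup X) (hK : Cfsg.IsComponent K) (T : Sylow 2 X) (Y : Subgroup X) (hYT : Y ≤ (T : Subgroup X)) (hYn : (Y.subgroupOf (T : Subgroup X)).Normal) (hYab : IsMulCommutative ↥Y) (hnot : ¬ Y ≤ Subgroup.normalizer (K : Set X)) (P : Sylow 2 (↥K ⧸ Subgroup.center ↥K)) : IsMulCommutative ↥(P : Subgroup (↥K ⧸ Subgroup.center ↥K)) := by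
  classical
  haveI : Fact (Nat.Prime 2) := ⟨Nat.prime_two⟩
  obtain ⟨y, hy, hyn⟩ := SetLike.not_le_iff_exists.mp hnot
  set K' := K.map (MulAut.conj y).toMonoidHom with hK'
  have hne : K ≠ K' := fun h => hyn (mem_normalizer_iff_map_conj_eq.mpr h.symm)
  have hcom : ⁅K, K'⁆ = ⊥ := component_commutator_eq_bot_of_ne hK (component_conj hK y) hne
  have hcom' : ⁅K', K⁆ = ⊥ := by rwa [commutator_comm] at hcom
  have hcen : ∀ {a b : X}, a ∈ K → b ∈ K' → a * b = b * a := fun {a b} ha hb =>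
    (mem_centralizer_iff.mp (commutator_eq_bot_iff_le_centralizer.mp hcom ha) b hb).symm
  let Q : Sylow 2 K := IsPGroup.toSylow (T.isPGroup'.comap_subtype (K := K))
    (Cores.sylow_subgroupOf_isSubnormal T hK.1)
  have hYc : ∀ u ∈ Y, ∀ v ∈ Y, u * v = v * u := fun u hu v hv =>
    congrArg Subtype.val (hYab.is_comm.comm ⟨u, hu⟩ ⟨v, hv⟩)
  have hmem : ∀ s ∈ (T : Subgroup X), s * (y * s⁻¹ * y⁻¹) ∈ Y := fun s hs => by
    rw [show s * (y * s⁻¹ * y⁻¹) = s * y * s⁻¹ * y⁻¹ by group]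
    exact mul_mem (hYn.conj_mem ⟨y, hYT hy⟩ hy ⟨s, hs⟩) (inv_mem hy)
  have key : ∀ s t : K, s ∈ (Q : Subgroup K) → t ∈ (Q : Subgroup K) →
      (t * s)⁻¹ * (s * t) ∈ Subgroup.center K := by
    intro s t hs ht
    set s' := y * (s : X)⁻¹ * y⁻¹ with hs'
    set t' := y * (t : X)⁻¹ * y⁻¹ with ht'
    have hs'K : s' ∈ K' := ⟨(s : X)⁻¹, inv_mem s.2, rfl⟩
    have ht'K : t' ∈ K' := ⟨(t : X)⁻¹, inv_mem t.2, rfl⟩
    have h := hYc _ (hmem s hs) _ (hmem t ht)
    rw [← hs', ← ht'] at h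
    have e : ((t : X) * s)⁻¹ * (s * t) = t' * s' * (s' * t')⁻¹ := by
      have h' : (s : X) * t * (s' * t') = t * s * (t' * s') := by
        calc (s : X) * t * (s' * t') = s * ((t : X) * s') * t' := by group
          _ = s * (s' * t) * t' := by rw [hcen t.2 hs'K]
          _ = s * s' * (t * t') := by group
          _ = t * t' * (s * s') := h
          _ = t * (t' * s) * s' := by group
          _ = t * (s * t') * s' := by rw [hcen s.2 ht'K]
          _ = t * s * (t' * s') := by group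
      rw [eq_mul_inv_iff_mul_eq, mul_assoc, h']
      group
    refine Subgroup.mem_center_iff.mpr fun k => Subtype.ext ?_
    show (k : X) * (((t : X) * s)⁻¹ * (s * t)) = ((t : X) * s)⁻¹ * (s * t) * k
    rw [e]
    exact hcen k.2 (K'.mul_mem (K'.mul_mem ht'K hs'K) (K'.inv_mem (K'.mul_mem hs'K ht'K)))
  set q := QuotientGroup.mk' (Subgroup.center K)
  let Qb : Sylow 2 (↥K ⧸ Subgroup.center ↥K) := Q.mapSurjective (QuotientGroup.mk'_surjective _)
  let e : P ≃* Qb := P.equiv Qb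
  refine ⟨⟨fun a b => e.injective ?_⟩⟩
  rw [map_mul, map_mul]
  apply Subtype.ext
  obtain ⟨s, hs, hsa⟩ : ((e a : Qb) : ↥K ⧸ Subgroup.center ↥K) ∈ (Q : Subgroup K).map q := (e a).2
  obtain ⟨t, ht, htb⟩ : ((e b : Qb) : ↥K ⧸ Subgroup.center ↥K) ∈ (Q : Subgroup K).map q := (e b).2
  rw [Subgroup.coe_mul, Subgroup.coe_mul, ← hsa, ← htb, ← map_mul, ← map_mul]
  exact ((QuotientGroup.eq (s := Subgroup.center K)).mpr (key s t hs ht)).symm

end Cfsg.Agent.S2925
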