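import Cfsg.Statements.S2928
import Cfsg.Agent.Lib.Perm.DoubleTranspFStar
import Cfsg.Agent.Lib.Perm.AltDerangement

set_option autoImplicit false
open Cfsg

namespace Cfsg.Agent.S2928

/-- Let n ≥ 8 and let H be a subgroup of the symmetric group of degree n whose generalized Fitting subgroup F*(H) is quasisimple. If H contains a Sylow 2-subgroup of the alternating group of degree n, then F*(H) is isomorphic to an alternating group of degree m for some m ∈ {n − 3, n − 2, n − 1, n}. -/
theorem result (n : ℕ) (hn : 8 ≤ n) (H : Subgroup (Equiv.Perm (Fin n))) (hF : Cfsg.IsQuasisimple ↥(Cfsg.generalizedFittingSubgroup ↥H)) (hS : ∃ P : Sylow 2 ↥(alternatingGroup (Fin n)), ((P : Subgroup ↥(alternatingGroup (Fin n))).map (alternatingGroup (Fin n)).subtype) ≤ H) : ∃ m : ℕ, (m = n - 3 ∨ m = n - 2 ∨ m = n - 1 ∨ m = n) ∧ Nonempty (↥(Cfsg.generalizedFittingSubgroup ↥H) ≃* ↥(alternatingGroup (Fin m))) := by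
  classical
  haveI : Fact (Nat.Prime 2) := ⟨Nat.prime_two⟩
  haveI : Nontrivial (Fin n) := Fin.nontrivial_iff_two_le.2 (by omega)
  obtain ⟨P, hP⟩ := hS
  set Pm := (P : Subgroup ↥(alternatingGroup (Fin n))).map (alternatingGroup (Fin n)).subtype with hPm
  set K := Cfsg.generalizedFittingSubgroup ↥H with hKdef
  haveI hKn : K.Normal := by
    haveI := Cfsg.Agent.Components.Fitting.genFitting_characteristic (G := ↥H)
    infer_instance
  -- a pairing whose even flips lie in `H`
  obtain ⟨ρ₀, hρ₀⟩ := (Equiv.Perm.exists_with_cycleType_iff (Fin n) (m := Multiset.replicate (n / 2) 2)).2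
    ⟨by simp only [Multiset.sum_replicate, smul_eq_mul, Fintype.card_fin]; omega,
      fun a ha => (Multiset.eq_of_mem_replicate ha).ge⟩
  have hρ₀2 : ρ₀ * ρ₀ = 1 := by
    rw [← pow_two, ← orderOf_dvd_iff_pow_eq_one, ← Equiv.Perm.lcm_cycleType, hρ₀, Multiset.lcm_dvd]
    intro a ha
    rw [Multiset.eq_of_mem_replicate ha]
  have hρ₀' : ∀ x, ρ₀ (ρ₀ x) = x := fun x => Equiv.Perm.congr_fun hρ₀2 x
  have hcard₀ : ρ₀.support.card = 2 * (n / 2) := by
    rw [← Equiv.Perm.sum_cycleType, hρ₀, Multiset.sum_replicate, smul_eq_mul, mul_comm]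
  let E₀ := (Perm.DoubleTranspFStar.E ρ₀ hρ₀').subgroupOf (alternatingGroup (Fin n))
  have hE₀ : IsPGroup 2 E₀ := fun a => ⟨1, by
    apply Subtype.ext
    apply Subtype.ext
    simpa [pow_two] using Perm.DoubleTranspFStar.E_sq ρ₀ hρ₀' a.2⟩
  obtain ⟨Q, hQ⟩ := hE₀.exists_le_sylow
  obtain ⟨g, hg⟩ := MulAction.exists_smul_eq ↥(alternatingGroup (Fin n)) Q P
  set ρ : Equiv.Perm (Fin n) := (g : Equiv.Perm (Fin n)) * ρ₀ * (g : Equiv.Perm (Fin n))⁻¹ with hρdef
  have hρ : ∀ x, ρ (ρ x) = x := fun x => by simp [hρdef, hρ₀']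
  have hE : Perm.DoubleTranspFStar.E ρ hρ ≤ H := by
    intro a ha
    obtain ⟨h1, h2, h3⟩ := (Perm.DoubleTranspFStar.mem_E ρ hρ).1 ha
    have hmem : (g : Equiv.Perm (Fin n))⁻¹ * a * g ∈ Perm.DoubleTranspFStar.E ρ₀ hρ₀' := by
      refine (Perm.DoubleTranspFStar.mem_E ρ₀ hρ₀').2 ⟨mul_mem (mul_mem (inv_mem g.2) h1) g.2, fun x => ?_, fun x => ?_⟩
      · simp only [Equiv.Perm.mul_apply]
        rcases h2 ((g : Equiv.Perm (Fin n)) x) with e | e
        · left; rw [e]; simp
        · right; rw [e]; simp [hρdef]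
      · simp only [Equiv.Perm.mul_apply]
        apply (g : Equiv.Perm (Fin n)).injective
        have := h3 ((g : Equiv.Perm (Fin n)) x)
        simp [hρdef] at this ⊢
        exact this
    have hQmem : g⁻¹ * ⟨a, h1⟩ * g ∈ Q := hQ (show g⁻¹ * ⟨a, h1⟩ * g ∈ E₀ from hmem)
    refine hP ⟨⟨a, h1⟩, ?_, rfl⟩
    rw [← hg]
    exact ⟨_, hQmem, by simp [mul_assoc]⟩
  have huniq : ∀ x y, ρ x = x → ρ y = y → x = y := by
    have hle : (Finset.univ.filter fun u => ρ u = u).card ≤ 1 := by
      have h1 : ρ.support.card = 2 * (n / 2) := by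
        rw [← Equiv.Perm.sum_cycleType, hρdef, Equiv.Perm.cycleType_conj, Equiv.Perm.sum_cycleType, hcard₀]
      have h2 : (Finset.univ.filter fun u => ρ u = u) = ρ.supportᶜ := by ext u; simp
      rw [h2, Finset.card_compl, Fintype.card_fin, h1]
      omega
    exact fun x y hx hy => Finset.card_le_one.1 hle x (by simpa using hx) y (by simpa using hy)
  obtain ⟨t, htH, ht⟩ := Perm.DoubleTranspFStar.exists_threeCycle hE huniq
    (by rwa [Fintype.card_fin]) (fun hlt => by
      rw [Fintype.card_fin] at hlt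
      have h4 : n / 2 = 4 := by omega
      rw [Equiv.Perm.mem_alternatingGroup, hρdef, map_mul, map_mul, map_inv,
        Equiv.Perm.sign_of_cycleType ρ₀, hρ₀, h4, Equiv.Perm.mem_alternatingGroup.1 g.2]
      rfl) hKn hF
  obtain ⟨Δ, h5, hinv, hsupp, hKsupp, ⟨e⟩⟩ :=
    Perm.ThreeCycleFStar.exists_orbit_support H hF ⟨⟨t, htH⟩, ht⟩
  have hdn : Δ.ncard ≤ n :=
    (Set.ncard_le_card _).trans_eq (by rw [Nat.card_eq_fintype_card, Fintype.card_fin])
  -- at most three points lie outside
  have hout : n - Δ.ncard ≤ 3 := by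
    by_contra hout
    have hiff : ∀ σ : ↥Pm, ∀ y, (σ : Equiv.Perm (Fin n)) y ∈ Δ ↔ y ∈ Δ := fun σ y =>
      ⟨fun h => by simpa using hinv ⟨_, hP (inv_mem σ.2)⟩ _ h, hinv ⟨_, hP σ.2⟩ y⟩
    haveI : Fintype Δ := Fintype.ofFinite _
    haveI : Fintype {y // y ∉ Δ} := Fintype.ofFinite _
    have hRc : Nat.card {y // y ∉ Δ} = n - Δ.ncard := by
      rw [show Nat.card {y // y ∉ Δ} = (Δᶜ).ncard from Nat.card_coe_set_eq _, Set.ncard_compl,
        Nat.card_eq_fintype_card, Fintype.card_fin]
    let f : ↥Pm →* Equiv.Perm Δ :=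
      { toFun := fun σ => (σ : Equiv.Perm (Fin n)).subtypePerm (fun y => hiff σ y)
        map_one' := by ext; rfl
        map_mul' := fun a b => by ext; rfl }
    let r : ↥f.ker →* Equiv.Perm {y // y ∉ Δ} :=
      { toFun := fun σ => ((σ : ↥Pm) : Equiv.Perm (Fin n)).subtypePerm (fun y => not_congr (hiff σ y))
        map_one' := by ext; rfl
        map_mul' := fun a b => by ext; rfl }
    have hfix : ∀ σ : ↥f.ker, ∀ y ∈ Δ, ((σ : ↥Pm) : Equiv.Perm (Fin n)) y = y := fun σ y hy =>
      congrArg Subtype.val (Equiv.Perm.congr_fun σ.2 ⟨y, hy⟩)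
    have hof : ∀ σ : ↥f.ker, Equiv.Perm.ofSubtype (r σ) = ((σ : ↥Pm) : Equiv.Perm (Fin n)) := by
      intro σ
      refine Equiv.ext fun y => ?_
      by_cases hy : y ∈ Δ
      · rw [Equiv.Perm.ofSubtype_apply_of_not_mem (p := fun u => u ∉ Δ) (a := y) (r σ) (not_not.2 hy), hfix σ y hy]
      · rw [Equiv.Perm.ofSubtype_apply_of_mem (p := fun u => u ∉ Δ) (a := y) (r σ) hy]; rfl
    have hrinj : Function.Injective r := fun a b h => Subtype.ext (Subtype.ext (by rw [← hof a, ← hof b, h]))
    have hralt : r.range ≤ alternatingGroup {y // y ∉ Δ} := by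
      rintro _ ⟨σ, rfl⟩
      rw [Equiv.Perm.mem_alternatingGroup, ← Equiv.Perm.sign_ofSubtype, hof]
      obtain ⟨u, -, hu⟩ := (σ : ↥Pm).2
      rw [← hu]
      exact Equiv.Perm.mem_alternatingGroup.1 u.2
    have hPp : IsPGroup 2 ↥Pm := P.2.map _
    obtain ⟨a, ha⟩ := IsPGroup.iff_card.1 (hPp.to_subgroup f.ker)
    obtain ⟨b, hb⟩ := IsPGroup.iff_card.1 (hPp.of_surjective f.rangeRestrict f.rangeRestrict_surjective)
    have hb' : 2 ^ b ∣ Δ.ncard.factorial := by
      rw [← hb]
      refine (Subgroup.card_subgroup_dvd_card _).trans (dvd_of_eq ?_)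
      rw [Nat.card_perm, Nat.card_coe_set_eq]
    haveI : Nontrivial {y // y ∉ Δ} := Finite.one_lt_card_iff_nontrivial.1 (by omega)
    have halt := two_mul_nat_card_alternatingGroup (α := {y // y ∉ Δ})
    rw [Nat.card_perm, hRc] at halt
    have ha' : 2 ^ (a + 2) ∣ (n - Δ.ncard).factorial := by
      rw [← halt, show 2 ^ (a + 2) = 2 * (2 ^ a * 2) by ring]
      refine Nat.mul_dvd_mul_left 2 ?_
      rw [← ha, Nat.card_congr (MonoidHom.ofInjective hrinj).toEquiv,
        ← Nat.card_congr (Subgroup.subgroupOfEquivOfLe hralt).toEquiv]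
      by_contra hnd
      have hidx : ¬ 2 ∣ (r.range.subgroupOf (alternatingGroup {y // y ∉ Δ})).index := by
        intro h
        apply hnd
        rw [← Subgroup.card_mul_index (r.range.subgroupOf (alternatingGroup {y // y ∉ Δ}))]
        exact Nat.mul_dvd_mul_left _ h
      obtain ⟨d, hd⟩ := (Equiv.Perm.exists_with_cycleType_iff {y // y ∉ Δ} (m := {2, 2})).2
        ⟨by
          rw [← Nat.card_eq_fintype_card, hRc]
          show (2 : ℕ) + (2 + 0) ≤ _
          omega, fun x hx => by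
          simp at hx
          omega⟩
      have hd2 : orderOf d = 2 := by rw [← Equiv.Perm.lcm_cycleType, hd]; rfl
      have hdA : d ∈ alternatingGroup {y // y ∉ Δ} := by
        rw [Equiv.Perm.mem_alternatingGroup, Equiv.Perm.sign_of_cycleType, hd]; rfl
      obtain ⟨u, hu⟩ := Perm.AltDerangement.exists_conj_mem (p := 2)
        (r.range.subgroupOf (alternatingGroup {y // y ∉ Δ})) hidx (x := ⟨d, hdA⟩)
        (by rw [Subgroup.orderOf_mk, hd2])
      obtain ⟨σ, hσ⟩ := Subgroup.mem_subgroupOf.1 hu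
      have hne : σ ≠ 1 := by
        intro h
        rw [h, map_one] at hσ
        have h1 : (⟨d, hdA⟩ : ↥(alternatingGroup {y // y ∉ Δ})) = 1 := by
          have h2 : u⁻¹ * ⟨d, hdA⟩ * u = 1 := Subtype.ext hσ.symm
          rw [mul_eq_one_iff_eq_inv, ← eq_inv_mul_iff_mul_eq] at h2
          simpa using h2
        rw [show d = 1 from congrArg Subtype.val h1, orderOf_one] at hd2
        omega
      -- it centralizes `K`, hence belongs to it
      let w : ↥H := ⟨((σ : ↥Pm) : Equiv.Perm (Fin n)), hP (σ : ↥Pm).2⟩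
      have hwK : w ∈ K := by
        refine S1265.result ?_
        rw [Subgroup.mem_centralizer_iff]
        intro k hk
        apply Subtype.ext
        refine Equiv.ext fun y => ?_
        show (k : Equiv.Perm (Fin n)) ((w : Equiv.Perm (Fin n)) y) = (w : Equiv.Perm (Fin n)) ((k : Equiv.Perm (Fin n)) y)
        by_cases hy : y ∈ Δ
        · rw [show (w : Equiv.Perm (Fin n)) y = y from hfix σ y hy,
            show (w : Equiv.Perm (Fin n)) _ = _ from hfix σ _ (hinv k y hy)]
        · rw [hKsupp k hk y hy,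
            hKsupp k hk _ (fun h => hy ((hiff (σ : ↥Pm) y).1 h))]
      apply hne
      apply hrinj
      rw [map_one]
      refine Equiv.ext fun y => Subtype.ext ?_
      exact hKsupp w hwK y y.2
    have hPcard : Nat.card ↥Pm = 2 ^ (a + b) := by
      rw [pow_add, ← ha, ← hb, ← Subgroup.index_ker, Subgroup.card_mul_index]
    rw [hPm, Subgroup.card_map_of_injective Subtype.val_injective, Sylow.card_eq_multiplicity] at hPcard
    have hab := Nat.pow_right_injective (le_refl 2) hPcard
    have halt' := two_mul_nat_card_alternatingGroup (α := Fin n)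
    rw [Nat.card_perm, Nat.card_eq_fintype_card (α := Fin n), Fintype.card_fin] at halt'
    have hv : n.factorial.factorization 2 = a + b + 1 := by
      rw [← halt', Nat.factorization_mul (by norm_num) Nat.card_pos.ne']
      simp only [Finsupp.add_apply, Nat.prime_two.factorization_self, hab]
      omega
    have h1 : 2 ^ (n.factorial.factorization 2 + 1) ∣ n.factorial := by
      rw [hv, show a + b + 1 + 1 = b + (a + 2) by ring, pow_add]
      exact (Nat.mul_dvd_mul hb' ha').trans (Nat.factorial_mul_factorial_dvd_factorial hdn)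
    exact Nat.pow_succ_factorization_not_dvd (Nat.factorial_ne_zero n) Nat.prime_two h1
  refine ⟨Δ.ncard, by omega, ⟨e.trans (Equiv.altCongrHom ?_)⟩⟩
  exact Fintype.equivFinOfCardEq (by rw [← Nat.card_eq_fintype_card, Nat.card_coe_set_eq])

end Cfsg.Agent.S2928
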