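import Cfsg.Statements.S2929
import Cfsg.Agent.Lib.Perm.ThreeCycleFStar

set_option autoImplicit false
open Cfsg

namespace Cfsg.Agent.S2929

/-- Let n ≥ 5 and let H be a subgroup of the symmetric group of degree n whose generalized Fitting subgroup F*(H) is quasisimple. If H contains a Sylow 3-subgroup of the symmetric group, then F*(H) is isomorphic to an alternating group of degree m for some m ∈ {n − 2, n − 1, n}. -/
theorem result (n : ℕ) (hn : 5 ≤ n) (H : Subgroup (Equiv.Perm (Fin n))) (hF : Cfsg.IsQuasisimple ↥(Cfsg.generalizedFittingSubgroup ↥H)) (hS : ∃ P : Sylow 3 (Equiv.Perm (Fin n)), (P : Subgroup (Equiv.Perm (Fin n))) ≤ H) : ∃ m : ℕ, (m = n - 2 ∨ m = n - 1 ∨ m = n) ∧ Nonempty (↥(Cfsg.generalizedFittingSubgroup ↥H) ≃* ↥(alternatingGroup (Fin m))) := by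
  classical
  haveI : Fact (Nat.Prime 3) := ⟨Nat.prime_three⟩
  obtain ⟨P, hP⟩ := hS
  -- some `3`-cycle lies in `H`
  have hex : ∃ t : H, (t : Equiv.Perm (Fin n)).IsThreeCycle := by
    obtain ⟨t, ht⟩ := (Equiv.Perm.exists_with_cycleType_iff (Fin n) (m := {3})).2
      ⟨by simpa using (show 3 ≤ n by omega), by simp⟩
    have ht3 : orderOf t = 3 := by rw [← Equiv.Perm.lcm_cycleType, ht]; simp
    obtain ⟨Q, hQ⟩ := IsPGroup.exists_le_sylow (P := Subgroup.zpowers t)
      (IsPGroup.of_card (p := 3) (n := 1) (by rw [Nat.card_zpowers, ht3, pow_one]))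
    obtain ⟨g, hg⟩ := MulAction.exists_smul_eq (Equiv.Perm (Fin n)) Q P
    have hmem : g * t * g⁻¹ ∈ P := by
      rw [← hg]
      exact ⟨t, hQ (Subgroup.mem_zpowers t), rfl⟩
    refine ⟨⟨g * t * g⁻¹, hP hmem⟩, ?_⟩
    show (g * t * g⁻¹).IsThreeCycle
    rw [Equiv.Perm.IsThreeCycle, Equiv.Perm.cycleType_conj]; exact ht
  obtain ⟨Δ, h5, hinv, hsupp, ⟨e⟩⟩ := Perm.ThreeCycleFStar.exists_orbit H hF hex
  have hdn : Δ.ncard ≤ n :=
    (Set.ncard_le_card _).trans_eq (by rw [Nat.card_eq_fintype_card, Fintype.card_fin])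
  -- at most two points lie outside
  have hout : n - Δ.ncard ≤ 2 := by
    by_contra hout
    set R : Set (Fin n) := Δᶜ with hR
    have hRc : Nat.card R = n - Δ.ncard := by
      rw [Nat.card_coe_set_eq, Set.ncard_compl, Nat.card_eq_fintype_card, Fintype.card_fin]
    haveI : Fintype R := Fintype.ofFinite _
    have hmem : ∀ σ : ↥(P : Subgroup (Equiv.Perm (Fin n))), ∀ y, y ∈ Δ →
        (σ : Equiv.Perm (Fin n)) y ∈ Δ := fun σ y hy => hinv ⟨_, hP σ.2⟩ y hy
    have hiff : ∀ σ : ↥(P : Subgroup (Equiv.Perm (Fin n))), ∀ y,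
        (σ : Equiv.Perm (Fin n)) y ∈ Δ ↔ y ∈ Δ := fun σ y =>
      ⟨fun h => by simpa using hmem σ⁻¹ _ h, hmem σ y⟩
    let f : ↥(P : Subgroup (Equiv.Perm (Fin n))) →* Equiv.Perm Δ :=
      { toFun := fun σ => (σ : Equiv.Perm (Fin n)).subtypePerm (fun y => hiff σ y)
        map_one' := by ext; rfl
        map_mul' := fun a b => by ext; rfl }
    let g : ↥f.ker →* Equiv.Perm R :=
      { toFun := fun σ => ((σ : ↥(P : Subgroup (Equiv.Perm (Fin n)))) : Equiv.Perm (Fin n)).subtypePerm
          (fun y => not_congr (hiff σ y))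
        map_one' := by ext; rfl
        map_mul' := fun a b => by ext; rfl }
    have hfix : ∀ σ : ↥f.ker, ∀ y ∈ Δ,
        ((σ : ↥(P : Subgroup (Equiv.Perm (Fin n)))) : Equiv.Perm (Fin n)) y = y := fun σ y hy =>
      congrArg Subtype.val (Equiv.Perm.congr_fun σ.2 ⟨y, hy⟩)
    have hginj : Function.Injective g := by
      rw [injective_iff_map_eq_one]
      intro σ hσ
      apply Subtype.ext
      apply Subtype.ext
      refine Equiv.ext fun y => ?_
      by_cases hy : y ∈ Δ
      · exact hfix σ y hy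
      · exact congrArg Subtype.val (Equiv.Perm.congr_fun hσ ⟨y, hy⟩)
    obtain ⟨a, ha⟩ := ((IsPGroup.iff_card).1 (P.2.to_subgroup f.ker))
    obtain ⟨b, hb⟩ := IsPGroup.iff_card.1 (P.2.of_surjective f.rangeRestrict f.rangeRestrict_surjective)
    have hPcard : Nat.card ↥(P : Subgroup (Equiv.Perm (Fin n))) = 3 ^ a * 3 ^ b := by
      rw [← ha, ← hb, ← Subgroup.index_ker, Subgroup.card_mul_index]
    rw [Sylow.card_eq_multiplicity, Nat.card_perm, Nat.card_eq_fintype_card (α := Fin n),
      Fintype.card_fin, ← pow_add] at hPcard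
    have hab := Nat.pow_right_injective (le_refl 2 |>.trans (by norm_num : 2 ≤ 3)) hPcard
    have hb' : 3 ^ b ∣ Δ.ncard.factorial := by
      rw [← hb]
      refine (Subgroup.card_subgroup_dvd_card _).trans (dvd_of_eq ?_)
      rw [Nat.card_perm, Nat.card_coe_set_eq]
    have hga : 3 ^ a = Nat.card g.range := by
      rw [← ha]; exact Nat.card_congr (MonoidHom.ofInjective hginj).toEquiv
    have ha' : 3 ^ (a + 1) ∣ (n - Δ.ncard).factorial := by
      rw [← hRc, ← Nat.card_perm]
      by_contra hnd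
      have hnd' : ¬ 3 ∣ g.range.index := by
        intro h
        apply hnd
        rw [← Subgroup.card_mul_index g.range, pow_succ, hga]
        exact Nat.mul_dvd_mul_left _ h
      obtain ⟨t, ht⟩ := (Equiv.Perm.exists_with_cycleType_iff R (m := {3})).2
        ⟨by simp only [Multiset.sum_singleton]; rw [← Nat.card_eq_fintype_card, hRc]; omega, by simp⟩
      have ht3 : orderOf t = 3 := by rw [← Equiv.Perm.lcm_cycleType, ht]; simp
      have hPt : IsPGroup 3 (Subgroup.zpowers t) :=
        IsPGroup.of_card (n := 1) (by rw [Nat.card_zpowers, ht3, pow_one])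
      obtain ⟨q, hq⟩ := hPt.nonempty_fixed_point_of_prime_not_dvd_card (Equiv.Perm R ⧸ g.range) hnd'
      obtain ⟨u, rfl⟩ := QuotientGroup.mk_surjective q
      have h := hq ⟨t, Subgroup.mem_zpowers t⟩
      change ((t * u : Equiv.Perm R) : Equiv.Perm R ⧸ g.range) = (u : Equiv.Perm R ⧸ g.range) at h
      rw [eq_comm, QuotientGroup.eq, ← mul_assoc] at h
      obtain ⟨σ, hσ⟩ := h
      -- the preimage is a 3-cycle outside `Δ`
      have hgsupp : ((σ : ↥(P : Subgroup (Equiv.Perm (Fin n)))) : Equiv.Perm (Fin n)).support =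
          (g σ).support.map (Function.Embedding.subtype _) := by
        ext y
        simp only [Finset.mem_map, Equiv.Perm.mem_support, Function.Embedding.coe_subtype]
        constructor
        · intro hy
          have hyR : y ∉ Δ := fun hyΔ => hy (hfix σ y hyΔ)
          exact ⟨⟨y, hyR⟩, fun h' => hy (congrArg Subtype.val h'), rfl⟩
        · rintro ⟨⟨z, hz⟩, hz', rfl⟩
          exact fun h' => hz' (Subtype.ext h')
      have hg3 : (g σ).support.card = 3 := by
        rw [hσ, ← Equiv.Perm.sum_cycleType,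
          show u⁻¹ * t * u = u⁻¹ * t * (u⁻¹)⁻¹ by rw [inv_inv], Equiv.Perm.cycleType_conj, ht]
        simp
      have h3 : (((⟨_, hP (σ : ↥(P : Subgroup (Equiv.Perm (Fin n)))).2⟩ : H)) :
          Equiv.Perm (Fin n)).IsThreeCycle := by
        rw [← card_support_eq_three_iff]
        show ((σ : ↥(P : Subgroup (Equiv.Perm (Fin n)))) : Equiv.Perm (Fin n)).support.card = 3
        rw [hgsupp, Finset.card_map, hg3]
      obtain ⟨y, hy⟩ : ((σ : ↥(P : Subgroup (Equiv.Perm (Fin n)))) : Equiv.Perm (Fin n)).support.Nonempty := by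
        rw [← Finset.card_pos, hgsupp, Finset.card_map, hg3]; norm_num
      have hyΔ := hsupp _ h3 (Finset.mem_coe.2 hy)
      exact Equiv.Perm.mem_support.1 hy (hfix σ y hyΔ)
    have h1 : 3 ^ (n.factorial.factorization 3 + 1) ∣ n.factorial := by
      rw [hab, show a + b + 1 = (a + 1) + b by ring, pow_add, mul_comm]
      exact (Nat.mul_dvd_mul hb' ha').trans (Nat.factorial_mul_factorial_dvd_factorial hdn)
    exact Nat.pow_succ_factorization_not_dvd (Nat.factorial_ne_zero n) Nat.prime_three h1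
  refine ⟨Δ.ncard, by omega, ⟨e.trans (Equiv.altCongrHom ?_)⟩⟩
  exact (Fintype.equivFinOfCardEq (by rw [← Nat.card_eq_fintype_card, Nat.card_coe_set_eq]))

end Cfsg.Agent.S2929
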