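import Cfsg.Agent.SimpleFacts.AltSylow
import Cfsg.Statements.S5164
-- import your own Cfsg.Agent.* helpers here

set_option autoImplicit false
open Cfsg Equiv Cfsg.Agent.SimpleFacts
open scoped Pointwise

namespace Cfsg.Agent.S5164

/-- For n ≥ 6 and a prime p, a nontrivial Sylow p-subgroup of the alternating group of degree n is abelian if and only if n < p². -/
theorem result (n p : ℕ) (hn : 6 ≤ n) [Fact p.Prime] (S : Sylow p (alternatingGroup (Fin n))) (hS : (S : Subgroup (alternatingGroup (Fin n))) ≠ ⊥) : IsMulCommutative S ↔ n < p ^ 2 := by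
  constructor
  · intro hab
    obtain ⟨ha, hb⟩ := AltSylow.lt_of_isMulCommutative (by omega) S hab
    by_cases hp2 : p = 2
    · have := ha hp2
      omega
    · exact hb hp2
  intro hlt
  have hp2 : p ≠ 2 := by
    rintro rfl
    omega
  classical
  have hp : p.Prime := Fact.out
  haveI : NeZero p := ⟨hp.ne_zero⟩
  have hn' : 2 ≤ n := le_trans (by norm_num) hn
  let e : (Fin (n / p) × ZMod p) ⊕ Fin (n % p) ≃ Fin n :=
    Fintype.equivFinOfCardEq (by simp [mul_comm]; exact Nat.div_add_mod n p)
  let gl : Perm (Fin (n / p) × ZMod p) →* Perm (Fin n) :=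
    e.permCongrHom.toMonoidHom.comp ((Perm.sumCongrHom _ _).comp ((MonoidHom.id _).prod 1))
  have hgl : Function.Injective gl := fun g g' hgg =>
    congrArg Prod.fst (Perm.sumCongrHom_injective (α := _) (β := _) (e.permCongrHom.injective hgg))
  have hsgn : ∀ g, Perm.sign (gl g) = Perm.sign g := fun g => by
    show Perm.sign (e.permCongr (Perm.sumCongr g 1)) = _
    rw [Perm.sign_permCongr, Perm.sign_sumCongr, map_one, mul_one]
  let tr : (Fin (n / p) → Multiplicative (ZMod p)) →* Perm (Fin (n / p) × ZMod p) :=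
    { toFun := fun u => Equiv.prodCongrRight fun i => Equiv.addRight (u i).toAdd
      map_one' := Equiv.ext fun x => Prod.ext rfl (add_zero _)
      map_mul' := fun u v => Equiv.ext fun x => Prod.ext rfl (by
        show x.2 + (u x.1 * v x.1).toAdd = x.2 + (v x.1).toAdd + (u x.1).toAdd
        rw [toAdd_mul]; abel) }
  have htrinj : Function.Injective tr := fun u v h => funext fun i => by
    have := congrArg (fun g : Perm (Fin (n / p) × ZMod p) => (g (i, 0)).2) h
    simpa [tr] using this
  have hpow : ∀ u : Fin (n / p) → Multiplicative (ZMod p), u ^ p = 1 := fun u => funext fun i => by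
    show (u i) ^ p = 1
    apply Multiplicative.toAdd.injective
    simp
  let φ : (Fin (n / p) → Multiplicative (ZMod p)) →* alternatingGroup (Fin n) :=
    (gl.comp tr).codRestrict _ fun u => Perm.mem_alternatingGroup.2
      (AltSylow.sign_eq_one_of_odd hp hp2 ⟨1, by rw [pow_one, ← map_pow, hpow, map_one]⟩)
  have hφ : Function.Injective φ := fun u v h => htrinj (hgl (congrArg Subtype.val h))
  let R : Sylow p (alternatingGroup (Fin n)) := Sylow.ofCard φ.range (by
    rw [← S.card_eq_multiplicity, AltSylow.card_sylow hp2 hn' hlt S,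
      ← Nat.card_congr (MonoidHom.ofInjective hφ).toEquiv]
    simp)
  obtain ⟨g, hg⟩ := MulAction.exists_smul_eq (alternatingGroup (Fin n)) R S
  refine ⟨⟨fun u v => Subtype.ext ?_⟩⟩
  obtain ⟨x, hx, ex⟩ : (u : alternatingGroup (Fin n)) ∈ MulAut.conj g • (R : Subgroup _) := by
    rw [← Sylow.coe_subgroup_smul]; exact hg.symm ▸ u.2
  obtain ⟨y, hy, ey⟩ : (v : alternatingGroup (Fin n)) ∈ MulAut.conj g • (R : Subgroup _) := by
    rw [← Sylow.coe_subgroup_smul]; exact hg.symm ▸ v.2
  change x ∈ φ.range at hx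
  change y ∈ φ.range at hy
  obtain ⟨x, rfl⟩ := hx
  obtain ⟨y, rfl⟩ := hy
  change (u : alternatingGroup (Fin n)) * v = v * u
  rw [← ex, ← ey]
  show MulAut.conj g (φ x) * MulAut.conj g (φ y) = MulAut.conj g (φ y) * MulAut.conj g (φ x)
  rw [← map_mul, ← map_mul, ← map_mul, ← map_mul, mul_comm x y]

end Cfsg.Agent.S5164
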