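import Cfsg.Statements.S4231
import Cfsg.Agent.GroupStructure3.AutAltSix
import Cfsg.Agent.S2119
import Cfsg.Agent.S5164

set_option autoImplicit false
open Cfsg Cfsg.Agent Cfsg.Agent.GroupStructure3

namespace Cfsg.Agent.S4231

theorem center_triv (n : ℕ) (hn : 5 ≤ n) :
    Function.Injective (MulAut.conj : alternatingGroup (Fin n) →* MulAut (alternatingGroup (Fin n))) := by
  haveI : IsSimpleGroup (alternatingGroup (Fin n)) :=
    alternatingGroup.isSimpleGroup (by rw [Nat.card_fin]; omega)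
  rw [← MonoidHom.ker_eq_bot_iff]
  rcases Subgroup.Normal.eq_bot_or_eq_top
    (inferInstance : (MulAut.conj : alternatingGroup (Fin n) →* _).ker.Normal) with h | h
  · exact h
  exfalso
  let z0 : Fin n := ⟨0, by omega⟩
  let z1 : Fin n := ⟨1, by omega⟩
  let z2 : Fin n := ⟨2, by omega⟩
  let z3 : Fin n := ⟨3, by omega⟩
  have h01 : z0 ≠ z1 := by simp [z0, z1, Fin.ext_iff]
  have h12 : z1 ≠ z2 := by simp [z1, z2, Fin.ext_iff]
  have h13 : z1 ≠ z3 := by simp [z1, z3, Fin.ext_iff]
  let a : alternatingGroup (Fin n) :=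
    ⟨Equiv.swap z0 z1 * Equiv.swap z1 z2, Equiv.Perm.mem_alternatingGroup.mpr (by
      rw [map_mul, Equiv.Perm.sign_swap h01, Equiv.Perm.sign_swap h12]; rfl)⟩
  let b : alternatingGroup (Fin n) :=
    ⟨Equiv.swap z0 z1 * Equiv.swap z1 z3, Equiv.Perm.mem_alternatingGroup.mpr (by
      rw [map_mul, Equiv.Perm.sign_swap h01, Equiv.Perm.sign_swap h13]; rfl)⟩
  have hc := DFunLike.congr_fun (MonoidHom.mem_ker.mp (h ▸ Subgroup.mem_top a :
    a ∈ (MulAut.conj : alternatingGroup (Fin n) →* _).ker)) b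
  rw [MulAut.conj_apply, MulAut.one_apply, mul_inv_eq_iff_eq_mul] at hc
  have h2 := congrArg (fun u : alternatingGroup (Fin n) =>
    (((u : Equiv.Perm (Fin n)) ⟨0, by omega⟩) : ℕ)) hc
  simp [a, b, z0, z1, z2, z3, Equiv.Perm.mul_apply, Equiv.swap_apply_def, Fin.ext_iff] at h2

theorem index_two_power (n : ℕ) (hn : 5 ≤ n) :
    (MulAut.conj : alternatingGroup (Fin n) →* MulAut (alternatingGroup (Fin n))).range.index ∣ 4 := by
  haveI : Nontrivial (Fin n) := Fin.nontrivial_iff_two_le.mpr (by omega)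
  haveI : Finite (MulAut (alternatingGroup (Fin n))) :=
    Finite.of_injective (fun φ : MulAut (alternatingGroup (Fin n)) => ⇑φ) DFunLike.coe_injective
  have hr : Nat.card (MulAut.conj : alternatingGroup (Fin n) →* _).range =
      Nat.card (alternatingGroup (Fin n)) :=
    (Nat.card_congr (MonoidHom.ofInjective (center_triv n hn)).toEquiv).symm
  have hA := two_mul_nat_card_alternatingGroup (α := Fin n)
  have hidx := (MulAut.conj : alternatingGroup (Fin n) →* _).range.card_mul_index
  rw [hr] at hidx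
  by_cases h6 : n = 6
  · subst h6
    have hle := AutAltSix.card_mulAut_le
    have hinj : Function.Injective
        (MulAut.conjNormal : Equiv.Perm (Fin 6) →* MulAut (alternatingGroup (Fin 6))) := by
      rw [injective_iff_map_eq_one]
      intro σ hσ
      have key : ∀ σ : Equiv.Perm (Fin 6), σ * (AutAltSix.ga : Equiv.Perm (Fin 6)) = AutAltSix.ga * σ →
          σ * (AutAltSix.gb : Equiv.Perm (Fin 6)) = AutAltSix.gb * σ → σ = 1 := by decide +kernel
      have h : ∀ x : alternatingGroup (Fin 6), σ * (x : Equiv.Perm (Fin 6)) = x * σ := fun x => by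
        have := congrArg Subtype.val (DFunLike.congr_fun hσ x)
        rw [MulAut.conjNormal_apply] at this
        exact mul_inv_eq_iff_eq_mul.mp this
      exact key σ (h _) (h _)
    have hdvd := Subgroup.card_dvd_of_injective _ hinj
    rw [Nat.card_perm, Nat.card_fin, show Nat.factorial 6 = 720 from rfl] at hdvd
    rw [Nat.card_perm, Nat.card_fin, show Nat.factorial 6 = 720 from rfl] at hA
    rw [show Nat.card (alternatingGroup (Fin 6)) = 360 by omega] at hidx
    obtain ⟨c, hc⟩ := hdvd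
    have hpos : 0 < Nat.card (MulAut (alternatingGroup (Fin 6))) := Nat.card_pos
    have hc2 : c = 1 ∨ c = 2 := by omega
    rcases hc2 with rfl | rfl
    · exact ⟨2, by omega⟩
    · exact ⟨1, by omega⟩
  · have hcard := Nat.card_eq_of_bijective _ (S2119.result n (by omega) h6)
    rw [← hcard, ← hA] at hidx
    have hpos : 0 < Nat.card (alternatingGroup (Fin n)) := Nat.card_pos
    rw [Nat.eq_of_mul_eq_mul_left hpos (hidx.trans (mul_comm _ _))]
    exact ⟨2, rfl⟩

theorem alt_comm (n : ℕ) (hn : 5 ≤ n) (p : ℕ) [Fact p.Prime] (hp2 : p ≠ 2) (hlt : n < p ^ 2)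
    (P : Subgroup (alternatingGroup (Fin n))) (hP : IsPGroup p P) : IsMulCommutative P := by
  obtain ⟨S, hS⟩ := hP.exists_le_sylow
  suffices h : IsMulCommutative (S : Subgroup (alternatingGroup (Fin n))) from
    ⟨⟨fun a b => Subtype.ext (by
      simpa using congrArg Subtype.val (h.is_comm.comm ⟨a, hS a.2⟩ ⟨b, hS b.2⟩))⟩⟩
  by_cases h5 : n = 5
  · subst h5
    haveI : Nontrivial (Fin 5) := Fin.nontrivial_iff_two_le.mpr (by omega)
    have hA := two_mul_nat_card_alternatingGroup (α := Fin 5)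
    rw [Nat.card_perm, Nat.card_fin, show Nat.factorial 5 = 120 from rfl] at hA
    obtain ⟨k, hk⟩ := S.2.exists_card_eq
    have hd := Subgroup.card_subgroup_dvd_card (S : Subgroup (alternatingGroup (Fin 5)))
    rw [hk, show Nat.card (alternatingGroup (Fin 5)) = 60 by omega] at hd
    rcases k with _ | _ | k
    · haveI := (Nat.card_eq_one_iff_unique.mp (hk.trans (pow_zero p))).1
      exact ⟨⟨fun a b => Subsingleton.elim _ _⟩⟩
    · haveI : IsCyclic (S : Subgroup (alternatingGroup (Fin 5))) :=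
        isCyclic_of_prime_card (hk.trans (pow_one p))
      infer_instance
    · exfalso
      have h60 : p ^ 2 ∣ 60 := (pow_dvd_pow p (by omega)).trans hd
      have hple : p ≤ 7 := by
        have := Nat.le_of_dvd (by norm_num) h60
        nlinarith
      have := (Fact.out : p.Prime).two_le
      interval_cases p
      all_goals norm_num at *
  by_cases hbot : (S : Subgroup (alternatingGroup (Fin n))) = ⊥
  · rw [hbot]; infer_instance
  exact (S5164.result n p (by omega) S hbot).mpr hlt

theorem sylow_comm (n : ℕ) (hn : 5 ≤ n) (G : Subgroup (MulAut (alternatingGroup (Fin n))))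
    (p : ℕ) [Fact p.Prime] (hp2 : p ≠ 2) (hlt : n < p ^ 2) (P : Sylow p G) :
    IsMulCommutative (P : Subgroup G) := by
  set ι : alternatingGroup (Fin n) →* MulAut (alternatingGroup (Fin n)) := MulAut.conj
  haveI : ι.range.Normal := ⟨fun x hx φ => by
    obtain ⟨a, rfl⟩ := hx
    refine ⟨φ a, MulEquiv.ext fun y => ?_⟩
    simp [ι, MulAut.mul_apply, MulAut.conj_apply]⟩
  have hmem : ∀ x : G, x ∈ (P : Subgroup G) → (x : MulAut (alternatingGroup (Fin n))) ∈ ι.range := by
    intro x hx
    obtain ⟨k, hk⟩ := IsPGroup.iff_orderOf.mp P.2 ⟨x, hx⟩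
    rw [Subgroup.orderOf_mk, ← Subgroup.orderOf_coe] at hk
    rw [← QuotientGroup.eq_one_iff, ← orderOf_eq_one_iff]
    have h1 : orderOf (QuotientGroup.mk (x : MulAut (alternatingGroup (Fin n))) :
        MulAut (alternatingGroup (Fin n)) ⧸ ι.range) ∣ p ^ k :=
      hk ▸ orderOf_map_dvd (QuotientGroup.mk' ι.range) _
    refine Nat.eq_one_of_dvd_coprimes (Nat.Coprime.pow k 2 ?_) h1
      (((orderOf_dvd_natCard _).trans (index_two_power n hn)).trans (show 4 ∣ 2 ^ 2 by norm_num))
    exact (Nat.coprime_primes Fact.out Nat.prime_two).mpr hp2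
  set Q : Subgroup (alternatingGroup (Fin n)) := ((P : Subgroup G).map G.subtype).comap ι
  have hQ : IsPGroup p Q := (P.2.map G.subtype).comap_of_injective ι (center_triv n hn)
  have hc := alt_comm n hn p hp2 hlt Q hQ
  refine ⟨⟨fun a b => ?_⟩⟩
  obtain ⟨a', ha⟩ := hmem a a.2
  obtain ⟨b', hb⟩ := hmem b b.2
  have ha' : a' ∈ Q := ⟨a, a.2, ha.symm⟩
  have hb' : b' ∈ Q := ⟨b, b.2, hb.symm⟩
  have h := congrArg (fun u : Q => ι (u : alternatingGroup (Fin n)))
    (hc.is_comm.comm ⟨a', ha'⟩ ⟨b', hb'⟩)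
  simp only [Subgroup.coe_mul, map_mul, ha, hb] at h
  exact Subtype.ext (Subtype.ext h)


/-- Let n ≥ 5 and let G be a group of automorphisms of the alternating group of degree n containing all inner automorphisms. If p ≠ q are primes and G has no element of order pq, then every Sylow p-subgroup of G is abelian or every Sylow q-subgroup of G is abelian. -/
theorem result (n : ℕ) (hn : 5 ≤ n) (G : Subgroup (MulAut (alternatingGroup (Fin n))))
    (hG : (MulAut.conj : alternatingGroup (Fin n) →* MulAut (alternatingGroup (Fin n))).range ≤ G)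
    (p q : ℕ) [Fact p.Prime] [Fact q.Prime] (hpq : p ≠ q) (h : ∀ g : G, orderOf g ≠ p * q) :
    (∀ P : Sylow p G, IsMulCommutative (P : Subgroup G)) ∨ (∀ Q : Sylow q G, IsMulCommutative (Q : Subgroup G)) := by
  classical
  set ι : alternatingGroup (Fin n) →* MulAut (alternatingGroup (Fin n)) := MulAut.conj
  have key : ∀ g : Equiv.Perm (Fin n), Equiv.Perm.sign g = 1 → orderOf g = p * q → False := by
    intro g hg ho
    refine h ⟨ι ⟨g, Equiv.Perm.mem_alternatingGroup.mpr hg⟩, hG ⟨_, rfl⟩⟩ ?_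
    rw [Subgroup.orderOf_mk, orderOf_injective ι (center_triv n hn), Subgroup.orderOf_mk, ho]
  by_cases hp2 : p = 2
  · subst hp2
    right
    intro Q
    refine sylow_comm n hn G q (Ne.symm hpq) ?_ Q
    by_contra hle
    have hq3 : 3 ≤ q := by have := (Fact.out : q.Prime).two_le; omega
    have h9 : q + 4 ≤ n := by nlinarith
    obtain ⟨g, hg⟩ := (Equiv.Perm.exists_with_cycleType_iff (Fin n) (m := {2, 2, q})).mpr
      ⟨by simp; omega, by simp; omega⟩
    refine key g ?_ ?_
    · rw [Equiv.Perm.sign_of_cycleType, hg]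
      obtain ⟨j, rfl⟩ := (Fact.out : q.Prime).odd_of_ne_two (Ne.symm hpq)
      simp [pow_add, pow_mul]; decide
    · rw [← Equiv.Perm.lcm_cycleType, hg]
      simp only [Multiset.insert_eq_cons, Multiset.lcm_cons, Multiset.lcm_singleton, normalize_eq]
      rw [lcm_eq_nat_lcm, lcm_eq_nat_lcm, ← Nat.lcm_assoc, Nat.lcm_self]
      exact ((Nat.coprime_primes Nat.prime_two Fact.out).mpr hpq).lcm_eq_mul
  by_cases hq2 : q = 2
  · subst hq2
    left
    intro P
    refine sylow_comm n hn G p hp2 ?_ P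
    by_contra hle
    have hp3 : 3 ≤ p := by have := (Fact.out : p.Prime).two_le; omega
    have h9 : p + 4 ≤ n := by nlinarith
    obtain ⟨g, hg⟩ := (Equiv.Perm.exists_with_cycleType_iff (Fin n) (m := {2, 2, p})).mpr
      ⟨by simp; omega, by simp; omega⟩
    refine key g ?_ ?_
    · rw [Equiv.Perm.sign_of_cycleType, hg]
      obtain ⟨j, rfl⟩ := (Fact.out : p.Prime).odd_of_ne_two hp2
      simp [pow_add, pow_mul]; decide
    · rw [← Equiv.Perm.lcm_cycleType, hg]
      simp only [Multiset.insert_eq_cons, Multiset.lcm_cons, Multiset.lcm_singleton, normalize_eq]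
      rw [lcm_eq_nat_lcm, lcm_eq_nat_lcm, ← Nat.lcm_assoc, Nat.lcm_self, mul_comm p]
      exact ((Nat.coprime_primes Nat.prime_two Fact.out).mpr (Ne.symm hp2)).lcm_eq_mul
  by_cases hp : n < p ^ 2
  · exact Or.inl fun P => sylow_comm n hn G p hp2 hp P
  refine Or.inr fun Q => sylow_comm n hn G q hq2 ?_ Q
  by_contra hq
  have hp3 : 3 ≤ p := by have := (Fact.out : p.Prime).two_le; omega
  have hq3 : 3 ≤ q := by have := (Fact.out : q.Prime).two_le; omega
  have h9 : p + q ≤ n := by nlinarith
  obtain ⟨g, hg⟩ := (Equiv.Perm.exists_with_cycleType_iff (Fin n) (m := {p, q})).mpr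
    ⟨by simp; omega, by simp; omega⟩
  refine key g ?_ ?_
  · rw [Equiv.Perm.sign_of_cycleType, hg]
    obtain ⟨i, rfl⟩ := (Fact.out : p.Prime).odd_of_ne_two hp2
    obtain ⟨j, rfl⟩ := (Fact.out : q.Prime).odd_of_ne_two hq2
    simp [pow_add, pow_mul]
  · rw [← Equiv.Perm.lcm_cycleType, hg]
    simp only [Multiset.insert_eq_cons, Multiset.lcm_cons, Multiset.lcm_singleton, normalize_eq]
    exact ((Nat.coprime_primes Fact.out Fact.out).mpr hpq).lcm_eq_mul

end Cfsg.Agent.S4231
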