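import Cfsg.Statements.S2930
import Cfsg.Agent.Lib.Perm.ThreeMinimalAlt
import Cfsg.Agent.Lib.Components.Fitting
import Cfsg.Agent.S1265
import Cfsg.Agent.S4231

set_option autoImplicit false
open Cfsg

namespace Cfsg.Agent.S2930

/-- Let X be a finite 3-minimal group (a Sylow 3-subgroup is not normal and lies in a unique maximal subgroup) whose generalized Fitting subgroup is isomorphic to an alternating group of degree n ≥ 5. Then X = F*(X), and n = 6, n = 9, or n = 3ᵃ + 1 for some a ≥ 2. -/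
theorem result {X : Type*} [Group X] [Finite X] (hX : Cfsg.IsPMinimal 3 X) (n : ℕ) (hn : 5 ≤ n) (hF : Nonempty (↥(Cfsg.generalizedFittingSubgroup X) ≃* ↥(alternatingGroup (Fin n)))) : Cfsg.generalizedFittingSubgroup X = ⊤ ∧ (n = 6 ∨ n = 9 ∨ ∃ a : ℕ, 2 ≤ a ∧ n = 3 ^ a + 1) := by
  classical
  haveI : Fact (Nat.Prime 3) := ⟨Nat.prime_three⟩
  set T := Cfsg.generalizedFittingSubgroup X with hTdef
  haveI hTn : T.Normal := by
    haveI := Cfsg.Agent.Components.Fitting.genFitting_characteristic (G := X)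
    infer_instance
  have hC : Subgroup.centralizer (T : Set X) ≤ T := S1265.result
  obtain ⟨e⟩ := hF
  let c : X →* MulAut (alternatingGroup (Fin n)) :=
    (MulAut.congr e).toMonoidHom.comp MulAut.conjNormal
  have hcT : ∀ t : T, c (t : X) = MulAut.conj (e t) := by
    intro t
    refine MulEquiv.ext fun a => ?_
    show e (MulAut.conjNormal (t : X) (e.symm a)) = e t * a * (e t)⁻¹
    rw [show MulAut.conjNormal (t : X) (e.symm a) = t * e.symm a * t⁻¹ from
      Subtype.ext (MulAut.conjNormal_apply _ _), map_mul, map_mul, map_inv, MulEquiv.apply_symm_apply]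
  have hinj : Function.Injective c := by
    rw [injective_iff_map_eq_one]
    intro x hx
    have hxC : x ∈ Subgroup.centralizer (T : Set X) := by
      rw [Subgroup.mem_centralizer_iff]
      intro t ht
      have h1 : e (MulAut.conjNormal x (e.symm (e ⟨t, ht⟩))) = e ⟨t, ht⟩ :=
        DFunLike.congr_fun hx (e ⟨t, ht⟩)
      rw [MulEquiv.symm_apply_apply] at h1
      have h2 := congrArg Subtype.val (e.injective h1)
      rw [MulAut.conjNormal_apply] at h2
      exact (mul_inv_eq_iff_eq_mul.1 h2).symm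
    have h3 : MulAut.conj (e ⟨x, hC hxC⟩) = (1 : MulAut (alternatingGroup (Fin n))) := by
      rw [← hcT ⟨x, hC hxC⟩]; exact hx
    have h4 := S4231.center_triv n hn (h3.trans (map_one _).symm)
    exact congrArg Subtype.val ((map_eq_one_iff e e.injective).1 h4)
  have hidx : T.index ∣ 4 := by
    have h1 : T.map c = (MulAut.conj : alternatingGroup (Fin n) →* _).range := by
      ext φ
      constructor
      · rintro ⟨t, ht, rfl⟩; exact ⟨e ⟨t, ht⟩, (hcT ⟨t, ht⟩).symm⟩
      · rintro ⟨a, rfl⟩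
        exact ⟨(e.symm a : X), (e.symm a).2, by rw [hcT]; simp⟩
    have h2 : (T.map c).relIndex ((⊤ : Subgroup X).map c) = T.index := by
      rw [Subgroup.relIndex_map_map_of_injective _ _ hinj, Subgroup.relIndex_top_right]
    refine dvd_trans ?_ (S4231.index_two_power n hn)
    rw [← h1, ← h2]
    exact Dvd.intro _ (Subgroup.relIndex_mul_index (Subgroup.map_mono le_top))
  have hPT : ∀ P : Sylow 3 X, (P : Subgroup X) ≤ T := by
    intro P g hg
    obtain ⟨k, hk⟩ := P.2 ⟨g, hg⟩
    have hk' : g ^ 3 ^ k = 1 := congrArg Subtype.val hk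
    have h1 : orderOf (g : X ⧸ T) ∣ 3 ^ k := orderOf_dvd_of_pow_eq_one (by
      rw [← QuotientGroup.mk_pow, hk', QuotientGroup.mk_one])
    have h2 : orderOf (g : X ⧸ T) ∣ 4 := (orderOf_dvd_natCard _).trans hidx
    have h3 := Nat.dvd_gcd h1 h2
    rw [Nat.Coprime.gcd_eq_one (Nat.Coprime.pow_left k (by norm_num))] at h3
    rw [← QuotientGroup.eq_one_iff]
    exact orderOf_eq_one_iff.1 (Nat.dvd_one.1 h3)
  have hTtop : T = ⊤ := by
    by_contra hne
    obtain ⟨P⟩ := (inferInstance : Nonempty (Sylow 3 X))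
    obtain ⟨hPn, M₀, -, huniq⟩ := hX P
    obtain ⟨M, hM, hTM⟩ := (eq_top_or_exists_le_coatom T).resolve_left hne
    have hN : Subgroup.normalizer ((P : Subgroup X) : Set X) ≠ ⊤ := fun h =>
      hPn (Subgroup.normalizer_eq_top_iff.1 h)
    obtain ⟨M', hM', hNM'⟩ := (eq_top_or_exists_le_coatom _).resolve_left hN
    have e1 := huniq M ⟨hM, (hPT P).trans hTM⟩
    have e2 := huniq M' ⟨hM', Subgroup.le_normalizer.trans hNM'⟩
    apply hM.1
    rw [eq_top_iff, ← Sylow.normalizer_sup_eq_top' P (hPT P)]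
    exact sup_le (hNM'.trans (e2.trans e1.symm).le) hTM
  refine ⟨hTtop, ?_⟩
  by_contra hexc
  let f : X ≃* alternatingGroup (Fin n) :=
    (Subgroup.topEquiv.symm.trans (MulEquiv.subgroupCongr hTtop.symm)).trans e
  let g : X →* Equiv.Perm (Fin n) := (alternatingGroup (Fin n)).subtype.comp f.toMonoidHom
  have hg : Function.Injective g := Subtype.val_injective.comp f.injective
  obtain ⟨P₀⟩ := (inferInstance : Nonempty (Sylow 3 (Equiv.Perm (Fin n))))
  obtain ⟨A, B, hPA, hPB, hA, hB, hAB⟩ := Perm.ThreeMinimalAlt.exists_pair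
    (α := Fin n) (by rw [Fintype.card_fin]; exact hn) P₀ (by rwa [Fintype.card_fin])
  have hrange : g.range = alternatingGroup (Fin n) := by
    ext σ
    constructor
    · rintro ⟨x, rfl⟩; exact (f x).2
    · intro hσ; exact ⟨f.symm ⟨σ, hσ⟩, by simp [g]⟩
  have hP₀ : (P₀ : Subgroup (Equiv.Perm (Fin n))) ≤ g.range := by
    rw [hrange]; exact hPA.trans hA.le
  obtain ⟨S, hS⟩ := (P₀.2.comap_of_injective g hg).exists_le_sylow
  have hSP : (S : Subgroup X).map g ≤ (P₀ : Subgroup (Equiv.Perm (Fin n))) := by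
    refine (P₀.3 (S.2.map g) ?_).le
    calc (P₀ : Subgroup (Equiv.Perm (Fin n))) = ((P₀ : Subgroup (Equiv.Perm (Fin n))).comap g).map g :=
          (Subgroup.map_comap_eq_self hP₀).symm
      _ ≤ _ := Subgroup.map_mono hS
  obtain ⟨-, M₀, ⟨hM₀, -⟩, huniq⟩ := hX S
  have hproper : ∀ C : Subgroup (Equiv.Perm (Fin n)), C < alternatingGroup (Fin n) → C.comap g ≠ ⊤ := by
    intro C hC h
    apply hC.not_ge
    rw [← hrange, MonoidHom.range_eq_map, ← h]
    exact Subgroup.map_comap_le g C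
  have hin : ∀ C : Subgroup (Equiv.Perm (Fin n)), (P₀ : Subgroup (Equiv.Perm (Fin n))) ≤ C →
      C < alternatingGroup (Fin n) → C.comap g ≤ M₀ := by
    intro C hPC hC
    obtain ⟨M, hM, hCM⟩ := (eq_top_or_exists_le_coatom _).resolve_left (hproper C hC)
    rw [← huniq M ⟨hM, (Subgroup.map_le_iff_le_comap.1 (hSP.trans hPC)).trans hCM⟩]
    exact hCM
  apply hM₀.1
  rw [eq_top_iff]
  intro x _
  have h1 : A ⊔ B ≤ M₀.map g := by
    refine sup_le ?_ ?_
    · rw [← Subgroup.map_comap_eq_self (hA.le.trans hrange.ge)]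
      exact Subgroup.map_mono (hin A hPA hA)
    · rw [← Subgroup.map_comap_eq_self (hB.le.trans hrange.ge)]
      exact Subgroup.map_mono (hin B hPB hB)
  obtain ⟨y, hy, hyx⟩ := h1 (hAB (f x).2)
  rwa [← hg (show g y = g x from hyx)]

end Cfsg.Agent.S2930
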