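import Cfsg.Statements.S2931
import Cfsg.Agent.GroupStructure3.SylowTables
import Cfsg.Agent.S0245
import Cfsg.Agent.S0288

set_option autoImplicit false
open Cfsg

namespace Cfsg.Agent.S2931

section Helpers

set_option linter.style.haveILetI false

open Cfsg.Agent.GroupStructure3.SylowTables Matrix

theorem sylow_equiv_of_card {G A : Type*} [Group G] [Finite G] [Group A] [Finite A]
    (P : Sylow 2 A) (Q : Sylow 2 G) {K₁ : Subgroup G} {K₂ : Subgroup A} (e : Nonempty (K₁ ≃* K₂))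
    (h₁ : Nat.card K₁ = 2 ^ (Nat.card G).factorization 2)
    (h₂ : Nat.card K₂ = 2 ^ (Nat.card A).factorization 2) :
    Nonempty (↥(P : Subgroup A) ≃* ↥(Q : Subgroup G)) := by
  obtain ⟨e⟩ := e
  exact ⟨((P.equiv (Sylow.ofCard K₂ h₂)).trans e.symm).trans ((Sylow.ofCard K₁ h₁).equiv Q)⟩

theorem natCard_factorization {a b m : ℕ} (hb : ¬ 2 ∣ m) (h : a = 2 ^ b * m) :
    a.factorization 2 = b := by
  have hm : m ≠ 0 := by rintro rfl; exact hb (dvd_zero 2)
  rw [h, Nat.factorization_mul (pow_ne_zero _ two_ne_zero) hm, Finsupp.add_apply,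
    Nat.prime_two.factorization_pow, Nat.factorization_eq_zero_of_not_dvd hb]
  simp

theorem comp_coe {α : Type*} (a b : Equiv.Perm α) : ⇑(a * b) = ⇑a ∘ ⇑b := rfl

theorem part_one (F : Type) [Field F] [Fintype F] (hF : Fintype.card F = 3)
    (P : Sylow 2 ↥(alternatingGroup (Fin 8))) (Q : Sylow 2 (Cfsg.PSp 2 F)) :
    Nonempty (↥(P : Subgroup ↥(alternatingGroup (Fin 8))) ≃* ↥(Q : Subgroup (Cfsg.PSp 2 F))) := by
  classical
  set ι := (ZMod.ringEquivOfPrime F Nat.prime_three hF).toRingHom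
  have hι : Function.Injective ι := (ZMod.ringEquivOfPrime F Nat.prime_three hF).injective
  set e : Fin 2 ⊕ Fin 2 ≃ Fin 4 := finSumFinEquiv
  set Sp := Matrix.symplecticGroup (Fin 2) F
  let tG : ↥Sp →* Matrix (Fin 4) (Fin 4) F :=
    ((Matrix.reindexAlgEquiv F F e).toRingEquiv.toRingHom : _ →* _).comp Sp.subtype
  have htG : Function.Injective tG :=
    (Matrix.reindexAlgEquiv F F e).injective.comp Subtype.val_injective
  have hmem : ∀ k, (spG k).submatrix finSumFinEquiv finSumFinEquiv ∈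
      Matrix.symplecticGroup (Fin 2) (ZMod 3) := by
    simp only [SymplecticGroup.mem_iff]; decide +kernel
  let g : Fin 3 → ↥Sp := fun k =>
    ⟨((spG k).submatrix e e).map ι, SymplecticGroup.map_mem (hmem k) ι⟩
  have hg : ∀ k, tG (g k) = (spG k).map ι := fun k => by
    ext i j
    simp [tG, g]
  let q : Fin 3 → ↥(alternatingGroup (Fin 8)) := fun k =>
    ⟨spP k, Equiv.Perm.mem_alternatingGroup.2 (sp_even k)⟩
  let φ : ↥Sp →* Cfsg.PSp 2 F := QuotientGroup.mk' _
  obtain ⟨K₁, K₂, hK, h₁, h₂⟩ := iso_of_table tG (fun a : ↥(alternatingGroup (Fin 8)) => ⇑(a : Equiv.Perm (Fin 8)))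
    (fun a b => comp_coe _ _) rfl (fun a b h => Subtype.ext (Equiv.coe_fn_injective h)) φ g q
    (N := 128) (by norm_num) (fun i => (spM i).map ι) spS spT
    (by
      show (spM 0).map ι = 1
      rw [sp_zero.1, Matrix.map_one _ (map_zero ι) (map_one ι)])
    sp_zero.2
    (fun k i => ⟨by rw [hg, ← Matrix.map_mul, sp_mul], sp_perm k i⟩)
    exists_lt_sp
    (fun h i hi => by
      have hφ : φ h = 1 ↔ h ∈ Subgroup.center ↥Sp := QuotientGroup.eq_one_iff h
      rw [hφ]
      constructor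
      · intro hc
        by_contra hs
        obtain ⟨k, hk⟩ := sp_noncentral i hs
        refine hk (Matrix.map_injective hι ?_)
        show (spG k * spM i).map ι = (spM i * spG k).map ι
        rw [Matrix.map_mul, Matrix.map_mul, ← hi, ← hg, ← map_mul, ← map_mul,
          Subgroup.mem_center_iff.1 hc (g k)]
      · intro hs
        refine Subgroup.mem_center_iff.2 fun x => htG ?_
        rw [map_mul, map_mul, hi]
        rcases sp_triv i hs with h | h <;> rw [h]
        · rw [Matrix.map_one _ (map_zero ι) (map_one ι), mul_one, one_mul]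
        · rw [Matrix.map_neg _ (map_neg ι), Matrix.map_one _ (map_zero ι) (map_one ι), mul_neg,
            neg_mul, mul_one, one_mul])
  rw [sp_count] at h₁ h₂
  refine sylow_equiv_of_card P Q hK ?_ ?_
  · rw [h₁]
    have hle : 6 ≤ (Nat.card (Cfsg.PSp 2 F)).factorization 2 :=
      (Nat.prime_two.pow_dvd_iff_le_factorization Nat.card_pos.ne').1
        (by rw [show 2 ^ 6 = 64 from rfl, ← h₁]; exact Subgroup.card_subgroup_dvd_card K₁)
    have hc : Nat.card ↥Sp = 51840 := by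
      rw [Cfsg.Agent.S0245.result hF 2]; norm_num [Finset.prod_range_succ]
    have hz : 2 ∣ Nat.card ↥(Subgroup.center ↥Sp) := by
      have hn : -(1 : Matrix (Fin 2 ⊕ Fin 2) (Fin 2 ⊕ Fin 2) F) ∈ Matrix.symplecticGroup (Fin 2) F :=
        SymplecticGroup.neg_mem (one_mem _)
      have hzc : (⟨-1, hn⟩ : ↥Sp) ∈ Subgroup.center ↥Sp :=
        Subgroup.mem_center_iff.2 fun x => Subtype.ext (by
          show (x : Matrix (Fin 2 ⊕ Fin 2) (Fin 2 ⊕ Fin 2) F) * (-1) =
            (-1) * (x : Matrix (Fin 2 ⊕ Fin 2) (Fin 2 ⊕ Fin 2) F)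
          simp)
      have ho : orderOf (⟨⟨-1, hn⟩, hzc⟩ : ↥(Subgroup.center ↥Sp)) = 2 := by
        refine orderOf_eq_prime (Subtype.ext (Subtype.ext (by simp [sq]))) fun h => ?_
        have h' := congrFun (congrFun (congrArg (fun x : ↥(Subgroup.center ↥Sp) =>
          ((x : ↥Sp) : Matrix (Fin 2 ⊕ Fin 2) (Fin 2 ⊕ Fin 2) F)) h) (.inl 0)) (.inl 0)
        have : (2 : F) = 0 := by
          simp at h'
          linear_combination -h'
        rw [← map_ofNat ι 2] at this
        exact absurd (hι (this.trans (map_zero ι).symm)) (by decide : (2 : ZMod 3) ≠ 0)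
      exact (dvd_of_eq ho.symm).trans (orderOf_dvd_natCard _)
    have hmul := Subgroup.card_eq_card_quotient_mul_card_subgroup (Subgroup.center ↥Sp)
    rw [hc] at hmul
    have h5 : (51840 : ℕ).factorization 2 = 7 := natCard_factorization (m := 405) (by norm_num) (by norm_num)
    rw [hmul, Nat.factorization_mul Nat.card_pos.ne' Nat.card_pos.ne', Finsupp.add_apply] at h5
    have := Nat.prime_two.factorization_pos_of_dvd Nat.card_pos.ne' hz
    rw [show (Nat.card (Cfsg.PSp 2 F)).factorization 2 = 6 by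
      change 6 ≤ (Nat.card (↥Sp ⧸ Subgroup.center ↥Sp)).factorization 2 at hle
      show (Nat.card (↥Sp ⧸ Subgroup.center ↥Sp)).factorization 2 = 6
      omega]
    norm_num
  · rw [h₂, natCard_factorization (b := 6) (m := 315) (by norm_num)
      (by rw [nat_card_alternatingGroup, Nat.card_fin]; norm_num [Nat.factorial])]
    norm_num

theorem part_two (K : Type) [Field K] [Fintype K] (hK : Fintype.card K = 2) (a b : K)
    (hab : ∀ z₁ z₂ : K, z₁ ^ 2 + a * z₁ * z₂ + b * z₂ ^ 2 = 0 → z₁ = 0 ∧ z₂ = 0)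
    (P : Sylow 2 (Equiv.Perm (Fin 8)))
    (Q : Sylow 2 ↥(Cfsg.isometryGroup K (Cfsg.quadFormMinus 2 K a b))) :
    Nonempty (↥(P : Subgroup (Equiv.Perm (Fin 8))) ≃*
      ↥(Q : Subgroup ↥(Cfsg.isometryGroup K (Cfsg.quadFormMinus 2 K a b)))) := by
  classical
  set r := ZMod.ringEquivOfPrime K Nat.prime_two hK
  have hr : ∀ x : K, ∃ y, r y = x := r.surjective
  obtain ⟨rfl, rfl⟩ : a = 1 ∧ b = 1 := by
    have h01 : ∀ x : K, x = 0 ∨ x = 1 := fun x => by
      obtain ⟨y, rfl⟩ := hr x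
      rcases (show ∀ y : ZMod 2, y = 0 ∨ y = 1 by decide) y with h | h <;> simp [h]
    have htwo : (1 : K) + 1 = 0 := by
      rw [← map_one r, ← map_add, show (1 : ZMod 2) + 1 = 0 from rfl, map_zero]
    rcases h01 b with hb | hb
    · exact absurd (hab 0 1 (by rw [hb]; ring)).2 one_ne_zero
    rcases h01 a with ha | ha
    · exact absurd (hab 1 1 (by rw [ha, hb]; linear_combination htwo)).1 one_ne_zero
    · exact ⟨ha, hb⟩
  set ι := r.toRingHom
  have hι : Function.Injective ι := r.injective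
  set e : (Fin 2 ⊕ Fin 2) ⊕ Fin 2 ≃ Fin 6 :=
    (Equiv.sumCongr finSumFinEquiv (Equiv.refl _)).trans finSumFinEquiv with he
  let tG : ↥(Cfsg.isometryGroup K (Cfsg.quadFormMinus 2 K (1 : K) 1)) →* Matrix (Fin 6) (Fin 6) K :=
    (((Matrix.reindexAlgEquiv K K e).toRingEquiv.toRingHom : _ →* _).comp
      (Units.coeHom (Matrix ((Fin 2 ⊕ Fin 2) ⊕ Fin 2) ((Fin 2 ⊕ Fin 2) ⊕ Fin 2) K))).comp (Cfsg.isometryGroup K (Cfsg.quadFormMinus 2 K (1 : K) 1)).subtype
  have htG : Function.Injective tG :=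
    ((Matrix.reindexAlgEquiv K K e).injective.comp Units.val_injective).comp Subtype.val_injective
  let M : Fin 3 → Matrix ((Fin 2 ⊕ Fin 2) ⊕ Fin 2) ((Fin 2 ⊕ Fin 2) ⊕ Fin 2) (ZMod 2) := fun k =>
    (omG k).submatrix ((Equiv.sumCongr finSumFinEquiv (Equiv.refl _)).trans finSumFinEquiv)
      ((Equiv.sumCongr finSumFinEquiv (Equiv.refl _)).trans finSumFinEquiv)
  have hsq : ∀ k, M k * M k = 1 := by decide +kernel
  have hQ : ∀ k, ∀ w, Cfsg.quadFormMinus 2 (ZMod 2) 1 1 (M k *ᵥ w) =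
      Cfsg.quadFormMinus 2 (ZMod 2) 1 1 w := by decide +kernel
  have hQι : ∀ w, Cfsg.quadFormMinus 2 K 1 1 (ι ∘ w) = ι (Cfsg.quadFormMinus 2 (ZMod 2) 1 1 w) :=
    fun w => by
      simp only [Cfsg.quadFormMinus, Function.comp_apply, map_add, map_sum, map_mul, map_pow, map_one]
  have hU : ∀ k, (M k).map ι * (M k).map ι = 1 := fun k => by
    rw [← Matrix.map_mul, hsq, Matrix.map_one _ (map_zero ι) (map_one ι)]
  let g : Fin 3 → ↥(Cfsg.isometryGroup K (Cfsg.quadFormMinus 2 K (1 : K) 1)) := fun k => ⟨⟨(M k).map ι, (M k).map ι, hU k, hU k⟩, fun u v => by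
    obtain ⟨w, rfl⟩ : ∃ w, ι ∘ w = u :=
      ⟨fun i => Classical.choose (hr (u i)), funext fun i => Classical.choose_spec (hr (u i))⟩
    show Cfsg.quadFormMinus 2 K 1 1 ((M k).map ι *ᵥ (ι ∘ w)) = _
    rw [show (M k).map ι *ᵥ (ι ∘ w) = ι ∘ (M k *ᵥ w) from
      funext fun i => (RingHom.map_mulVec ι (M k) w i).symm, hQι, hQ, ← hQι]⟩
  have hg : ∀ k, tG (g k) = (omG k).map ι := fun k => by
    ext i j
    simp [tG, g, M, he]
  obtain ⟨K₁, K₂, hiso, h₁, h₂⟩ := iso_of_table tG (fun a : Equiv.Perm (Fin 8) => ⇑a)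
    comp_coe rfl Equiv.coe_fn_injective (MonoidHom.id ↥(Cfsg.isometryGroup K (Cfsg.quadFormMinus 2 K (1 : K) 1))) g omP
    (N := 128) (by norm_num) (fun i => (omM i).map ι) omS omT
    (by
      show (omM 0).map ι = 1
      rw [om_zero.1, Matrix.map_one _ (map_zero ι) (map_one ι)])
    om_zero.2
    (fun k i => ⟨by rw [hg, ← Matrix.map_mul, om_mul], om_perm k i⟩)
    exists_lt_om
    (fun h i hi => by
      show h = 1 ↔ _
      rw [om_faithful, ← htG.eq_iff, hi, map_one tG, ← (Matrix.map_injective hι).eq_iff (b := 1),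
        Matrix.map_one _ (map_zero ι) (map_one ι)])
  rw [om_count] at h₁ h₂
  refine sylow_equiv_of_card P Q hiso ?_ ?_
  · have hc : Nat.card ↥(Cfsg.isometryGroup K (Cfsg.quadFormMinus 2 K (1 : K) 1)) = 2 ^ 7 * 405 := by
      refine (Cfsg.Agent.S0288.result hK 3 (by norm_num) (1 : K) 1 hab).trans ?_
      norm_num [Finset.prod_range_succ]
    rw [h₁, natCard_factorization (b := 7) (m := 405) (by norm_num) hc]
    norm_num
  · rw [h₂, natCard_factorization (b := 7) (m := 315) (by norm_num)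
      (by rw [Nat.card_perm, Nat.card_fin]; norm_num [Nat.factorial])]
    norm_num

end Helpers

/-- The Sylow 2-subgroups of the alternating group of degree 8 and of PSp₄(3) are isomorphic, and so are the Sylow 2-subgroups of the symmetric group of degree 8 and of the full isometry group of a non-degenerate quadratic form of minus type in dimension 6 over the field with 2 elements. -/
theorem result (F : Type) [Field F] [Fintype F] (hF : Fintype.card F = 3) (K : Type) [Field K] [Fintype K] (hK : Fintype.card K = 2) (a b : K) (hab : ∀ z₁ z₂ : K, z₁ ^ 2 + a * z₁ * z₂ + b * z₂ ^ 2 = 0 → z₁ = 0 ∧ z₂ = 0) (P : Sylow 2 ↥(alternatingGroup (Fin 8))) (Q : Sylow 2 (Cfsg.PSp 2 F)) (P' : Sylow 2 (Equiv.Perm (Fin 8))) (Q' : Sylow 2 ↥(Cfsg.isometryGroup K (Cfsg.quadFormMinus 2 K a b))) : Nonempty (↥(P : Subgroup ↥(alternatingGroup (Fin 8))) ≃* ↥(Q : Subgroup (Cfsg.PSp 2 F))) ∧ Nonempty (↥(P' : Subgroup (Equiv.Perm (Fin 8))) ≃* ↥(Q' : Subgroup ↥(Cfsg.isometryGroup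 K (Cfsg.quadFormMinus 2 K a b)))) := by
  exact ⟨part_one F hF P Q, part_two K hK a b hab P' Q'⟩

end Cfsg.Agent.S2931
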