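import Cfsg.Statements.S2932
import Cfsg.Agent.Lib.NatSL2Sylow.Main
import Cfsg.Agent.Lib.NatSL2Sylow.Four

set_option autoImplicit false
set_option linter.style.haveILetI false
open Cfsg

namespace Cfsg.Agent.S2932

/-- Let p be a prime. Inside a finite ambient group let V be an elementary abelian p-subgroup and G a subgroup normalizing V and acting faithfully on it (G ∩ C(V) = 1), and let L ≤ G act on V as SL₂(F) on its natural module, F a finite field of characteristic p, with L ≅ SL₂(F). If every Sylow p-subgroup of N_G(L) is a Sylow p-subgroup of G, then either L is normal in G, or F has 4 elements and G is isomorphic to the alternating group of degree 7. -/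
theorem result {X : Type*} [Group X] [Finite X] {p : ℕ} [Fact p.Prime] (F : Type) [Field F] [Fintype F] [CharP F p] (V G L : Subgroup X) (hV : Cfsg.IsElementaryAbelian p V) (hGV : G ≤ Subgroup.normalizer (V : Set X)) (hfaith : G ⊓ Subgroup.centralizer (V : Set X) = ⊥) (hLG : L ≤ G) (hnat : Cfsg.IsNaturalSL2Module F V L) (hLiso : Nonempty (↥L ≃* Matrix.SpecialLinearGroup (Fin 2) F)) (hSyl : ∀ S : Sylow p ↥(G ⊓ Subgroup.normalizer (L : Set X)), ∀ P : Sylow p ↥G, Nat.card S = Nat.card P) : (L.subgroupOf G).Normal ∨ (Fintype.card F = 4 ∧ Nonempty (↥G ≃* ↥(alternatingGroup (Fin 7)))) := by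
  classical
  letI : Algebra (ZMod p) F := ZMod.algebra F p
  obtain ⟨-, ρ, ψ, hsur, -, hact⟩ := hnat
  -- `G` as a group of linear automorphisms of `F²`
  let conjV : G →* MulAut V := (Subgroup.normalizerMonoidHom V).comp (Subgroup.inclusion hGV)
  have hconjV : ∀ (g : G) (v : V), ((conjV g v : V) : X) = g * v * (g : X)⁻¹ := fun g v => rfl
  let act : G → Agent.NatSL2Sylow.Aut2 p F := fun g =>
    LinearEquiv.ofBijective
      (({ toFun := fun x => ψ (Additive.ofMul (conjV g (Additive.toMul (ψ.symm x))))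
          map_zero' := by simp
          map_add' := fun x y => by simp } : (Fin 2 → F) →+ (Fin 2 → F)).toZModLinearMap p)
      ⟨fun x y h => ψ.symm.injective ((conjV g).injective (Additive.ofMul.injective (ψ.injective h))),
        fun y => ⟨ψ (Additive.ofMul ((conjV g).symm (Additive.toMul (ψ.symm y)))), by simp⟩⟩
  have hactv : ∀ (g : G) x, act g x = ψ (Additive.ofMul (conjV g (Additive.toMul (ψ.symm x)))) :=
    fun g x => rfl
  let f : G →* Agent.NatSL2Sylow.Aut2 p F := MonoidHom.mk' act fun g h => by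
    apply LinearEquiv.ext
    intro x
    show act (g * h) x = act g (act h x)
    rw [hactv, hactv, hactv, map_mul, MulAut.mul_apply, AddEquiv.symm_apply_apply, toMul_ofMul]
  have hfinj : Function.Injective f := by
    rw [injective_iff_map_eq_one]
    intro g hg
    refine Subtype.ext ?_
    have : (g : X) ∈ G ⊓ Subgroup.centralizer (V : Set X) := by
      refine ⟨g.2, Subgroup.mem_centralizer_iff.2 fun v hv => ?_⟩
      have h1 := LinearEquiv.congr_fun hg (ψ (Additive.ofMul ⟨v, hv⟩))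
      rw [show f g = act g from rfl, hactv, AddEquiv.symm_apply_apply, toMul_ofMul, LinearEquiv.coe_one,
        id_eq] at h1
      have h2 := congrArg Subtype.val (Additive.ofMul.injective (ψ.injective h1))
      rw [hconjV] at h2
      exact (mul_inv_eq_iff_eq_mul.1 h2).symm
    rwa [hfaith, Subgroup.mem_bot] at this
  have hfL : ∀ l : L, f ⟨l, hLG l.2⟩ = Agent.NatSL2Sylow.lin (ρ l) := by
    intro l
    apply LinearEquiv.ext
    intro x
    obtain ⟨w, hw1, hw2⟩ := hact l (Additive.toMul (ψ.symm x))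
    rw [show f ⟨l, hLG l.2⟩ = act ⟨l, hLG l.2⟩ from rfl, hactv, Agent.NatSL2Sylow.lin_apply]
    rw [show conjV ⟨l, hLG l.2⟩ (Additive.toMul (ψ.symm x)) = w from Subtype.ext hw1.symm, hw2,
      ofMul_toMul, AddEquiv.apply_symm_apply]
  set L₁ := (Agent.NatSL2Sylow.lin (p := p) (F := F)).range with hL₁
  have hmemL : ∀ g : G, f g ∈ L₁ ↔ (g : X) ∈ L := by
    intro g
    constructor
    · rintro ⟨A, hA⟩
      obtain ⟨l, rfl⟩ := hsur A
      rw [← hfinj ((hfL l).trans hA)]
      exact l.2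
    · intro hg
      exact ⟨ρ ⟨g, hg⟩, (hfL ⟨g, hg⟩).symm⟩
  set G₁ := f.range with hG₁
  have hL₁G : L₁ ≤ G₁ := by
    rintro _ ⟨A, rfl⟩
    obtain ⟨l, rfl⟩ := hsur A
    exact ⟨_, hfL l⟩
  -- the normalizer of `L`
  have hnorm : ∀ g : G, f g ∈ Subgroup.normalizer (L₁ : Set (Agent.NatSL2Sylow.Aut2 p F)) ↔
      (g : X) ∈ Subgroup.normalizer (L : Set X) := by
    intro g
    simp only [Subgroup.mem_normalizer_iff]
    constructor
    · intro h y
      by_cases hy : y ∈ G
      · have := h (f ⟨y, hy⟩)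
        rw [← map_inv, ← map_mul, ← map_mul, hmemL, hmemL] at this
        exact this
      · refine iff_of_false (fun h' => hy (hLG h')) fun h' => hy ?_
        have := mul_mem (mul_mem (inv_mem g.2) (hLG h')) g.2
        simpa [mul_assoc] using this
    · intro h y
      by_cases hy : y ∈ G₁
      · obtain ⟨z, rfl⟩ := hy
        rw [← map_inv, ← map_mul, ← map_mul, hmemL, hmemL]
        exact h z
      · refine iff_of_false (fun h' => hy (hL₁G h')) fun h' => hy ?_
        have := mul_mem (mul_mem (inv_mem (⟨g, rfl⟩ : f g ∈ G₁)) (hL₁G h')) (⟨g, rfl⟩ : f g ∈ G₁)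
        simpa [mul_assoc] using this
  set M : Subgroup (Agent.NatSL2Sylow.Aut2 p F) :=
    G₁ ⊓ Subgroup.normalizer (L₁ : Set (Agent.NatSL2Sylow.Aut2 p F)) with hM
  have hcardG : Nat.card G₁ = Nat.card G := (Nat.card_congr (MonoidHom.ofInjective hfinj).toEquiv).symm
  have hcardM : Nat.card M = Nat.card ↥(G ⊓ Subgroup.normalizer (L : Set X)) := by
    refine (Nat.card_congr (Equiv.ofBijective
      (fun x : ↥(G ⊓ Subgroup.normalizer (L : Set X)) =>
        (⟨f ⟨x, x.2.1⟩, ⟨⟨_, rfl⟩, (hnorm _).2 x.2.2⟩⟩ : M)) ⟨fun x y h => ?_, fun z => ?_⟩)).symm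
    · have := hfinj (congrArg (fun z : M => (z : Agent.NatSL2Sylow.Aut2 p F)) h)
      exact Subtype.ext (congrArg (fun z : G => (z : X)) this)
    · obtain ⟨g, hg⟩ := z.2.1
      exact ⟨⟨g, g.2, (hnorm g).1 (hg ▸ z.2.2)⟩, Subtype.ext hg⟩
  have hfac : (Nat.card M).factorization p = (Nat.card G₁).factorization p := by
    obtain ⟨S⟩ := (inferInstance : Nonempty (Sylow p ↥(G ⊓ Subgroup.normalizer (L : Set X))))
    obtain ⟨R⟩ := (inferInstance : Nonempty (Sylow p ↥G))
    have h := hSyl S R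
    rw [S.card_eq_multiplicity, R.card_eq_multiplicity] at h
    rw [hcardM, hcardG]
    exact Nat.pow_right_injective (Fact.out : p.Prime).two_le h
  -- a Sylow subgroup of the normalizer
  have hTM : Agent.NatSL2Sylow.T p F ≤ M :=
    le_inf (Agent.NatSL2Sylow.T_le.trans hL₁G) (Agent.NatSL2Sylow.T_le.trans Subgroup.le_normalizer)
  obtain ⟨S, hS⟩ := (Agent.NatSL2Sylow.T_isPGroup.of_equiv
    (Subgroup.subgroupOfEquivOfLe hTM).symm).exists_le_sylow
  set P := (S : Subgroup M).map M.subtype with hP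
  have hPM : P ≤ M := Subgroup.map_subtype_le _
  have hTP : Agent.NatSL2Sylow.T p F ≤ P := fun x hx => ⟨⟨x, hTM hx⟩, hS hx, rfl⟩
  have hPp : IsPGroup p P := S.2.map _
  have hcardP : Nat.card P = p ^ (Nat.card G₁).factorization p := by
    rw [hP, Subgroup.card_map_of_injective Subtype.val_injective, S.card_eq_multiplicity, hfac]
  have hconj : ∀ Q : Subgroup (Agent.NatSL2Sylow.Aut2 p F), Q ≤ G₁ → IsPGroup p Q →
      ∃ g ∈ G₁, ∀ x ∈ Q, g * x * g⁻¹ ∈ P := by
    intro Q hQ hQp
    let P₁ : Sylow p G₁ := Sylow.ofCard (P.subgroupOf G₁) (by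
      rw [Nat.card_congr (Subgroup.subgroupOfEquivOfLe (hPM.trans inf_le_left)).toEquiv, hcardP])
    obtain ⟨R, hR⟩ := (hQp.of_equiv (Subgroup.subgroupOfEquivOfLe hQ).symm).exists_le_sylow
    obtain ⟨g, hg⟩ := MulAction.exists_smul_eq G₁ R P₁
    refine ⟨g, g.2, fun x hx => ?_⟩
    have h1 : g * ⟨x, hQ hx⟩ * g⁻¹ ∈ ((g • R : Sylow p G₁) : Subgroup G₁) :=
      Subgroup.smul_mem_pointwise_smul (⟨x, hQ hx⟩ : G₁) (MulAut.conj g) (R : Subgroup G₁) (hR hx)
    rw [hg] at h1
    exact h1
  -- transfer the normality back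
  have back : G₁ ≤ Subgroup.normalizer (L₁ : Set (Agent.NatSL2Sylow.Aut2 p F)) →
      (L.subgroupOf G).Normal := fun h => by
    refine ⟨fun x hx g => ?_⟩
    exact (Subgroup.mem_normalizer_iff.1 ((hnorm g).1 (h ⟨g, rfl⟩)) x).1 hx
  by_cases hq : Nat.card F ≠ 4 ∨ P = Agent.NatSL2Sylow.T p F
  · exact Or.inl (back (Agent.NatSL2Sylow.main hL₁G (hPM.trans inf_le_left) (hPM.trans inf_le_right) hTP hPp
      hconj hq))
  push Not at hq
  obtain ⟨h4, hne⟩ := hq
  obtain rfl : p = 2 := by
    have h := Agent.NatSL2Sylow.card_F (p := p) (F := F)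
    rw [h4] at h
    have hd : p ∣ 2 ^ 2 := by
      rw [show (2 : ℕ) ^ 2 = p ^ Module.finrank (ZMod p) F by rw [← h]; norm_num]
      exact dvd_pow_self p Module.finrank_pos.ne'
    exact (Nat.prime_dvd_prime_iff_eq Fact.out Nat.prime_two).1 ((Fact.out : p.Prime).dvd_of_dvd_pow hd)
  rcases Agent.NatSL2Sylow.four h4 hL₁G (hPM.trans inf_le_left) (hPM.trans inf_le_right) hTP hPp hne
    (fun k hk => by
      rw [hcardP]
      exact pow_dvd_pow 2 ((Nat.prime_two.pow_dvd_iff_le_factorization Nat.card_pos.ne').1 hk)) with h | ⟨⟨e⟩⟩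
  · exact Or.inl (back h)
  · exact Or.inr ⟨by rw [← Nat.card_eq_fintype_card, h4], ⟨(MonoidHom.ofInjective hfinj).trans e⟩⟩

end Cfsg.Agent.S2932
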