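import Cfsg.Statements.S2933
import Cfsg.Agent.Lib.RankTwoInvol.FoursCenter
import Cfsg.Agent.Lib.RankTwoInvol.Main

set_option autoImplicit false
open Cfsg

namespace Cfsg.Agent.S2933

/-- Let T be a 2-subgroup of a finite group G, V ≤ Z(T) a four-group, and t, ρ ∈ N_G(V) ∩ N_G(T) elements of order 2 and 3 with t commuting with ρ and with V. If [V, ρ] = V and C_T(t) = V, then T is elementary abelian of order 16, or homocyclic of rank 2 (ℤ/2ⁿ × ℤ/2ⁿ for some n ≥ 1), or isomorphic to a Sylow 2-subgroup of PSL₃(4) or of PSU₃(4). -/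
theorem result {G : Type*} [Group G] [Finite G] (T V : Subgroup G) (hT : IsPGroup 2 ↥T) (hVT : V ≤ T ⊓ Subgroup.centralizer (T : Set G)) (hV : Nat.card ↥V = 4 ∧ ∀ v ∈ V, v ^ 2 = 1) (t ρ : G) (ht : orderOf t = 2) (hρ : orderOf ρ = 3) (htn : t ∈ Subgroup.normalizer (V : Set G) ⊓ Subgroup.normalizer (T : Set G)) (hρn : ρ ∈ Subgroup.normalizer (V : Set G) ⊓ Subgroup.normalizer (T : Set G)) (htρ : t * ρ = ρ * t) (htV : t ∈ Subgroup.centralizer (V : Set G)) (hVρ : ⁅V, Subgroup.zpowers ρ⁆ = V) (hCt : T ⊓ Subgroup.centralizer ({t} : Set G) = V) : (Nat.card ↥T = 16 ∧ ∀ x ∈ T, x ^ 2 = 1) ∨ (∃ n : ℕ, 1 ≤ n ∧ Nonempty (↥T ≃* Multiplicative (ZMod (2 ^ n)) × Multiplicative (ZMod (2 ^ n)))) ∨ (∃ (F : Type) (_ : Field F) (_ : Fintype F), Fintype.card F = 4 ∧ ∀ P : Sylow 2 (Matrix.ProjectiveSpecialLinearGroup (Fin 3) F), Nonempty (↥T ≃* ↥(P : Subgroup (Matrix.ProjectiveSpecialLinearGroup (Fin 3) F)))) ∨ (∃ (F : Type) (_ : Field F) (_ : Fintype F), Fintype.card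 F = 16 ∧ ∀ P : Sylow 2 (Cfsg.PSU 3 F 4), Nonempty (↥T ≃* ↥(P : Subgroup (Cfsg.PSU 3 F 4)))) := by
  classical
  obtain ⟨hV4, hV2⟩ := hV
  haveI : Fact (Nat.Prime 2) := ⟨Nat.prime_two⟩
  have hVT' : ∀ v ∈ V, v ∈ T := fun v hv => (hVT hv).1
  have hVc : ∀ v ∈ V, ∀ x ∈ T, x * v = v * x := fun v hv x hx =>
    Subgroup.mem_centralizer_iff.1 (hVT hv).2 x hx
  have hmk : ∀ g : G, g ∈ Subgroup.normalizer (T : Set G) →
      ∃ f : MulAut T, ∀ x : T, (f x : G) = g * x * g⁻¹ := fun g hg =>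
    ⟨{ toFun := fun x => ⟨g * x * g⁻¹, (Subgroup.mem_normalizer_iff.1 hg x).1 x.2⟩
       invFun := fun x => ⟨g⁻¹ * x * g, (Subgroup.mem_normalizer_iff.1 hg _).2 (by
         rw [show g * (g⁻¹ * (x : G) * g) * g⁻¹ = x by group]; exact x.2)⟩
       left_inv := fun x => Subtype.ext (by show g⁻¹ * (g * x * g⁻¹) * g = x; group)
       right_inv := fun x => Subtype.ext (by show g * (g⁻¹ * x * g) * g⁻¹ = x; group)
       map_mul' := fun x y => Subtype.ext (by
         show g * ((x : G) * y) * g⁻¹ = g * x * g⁻¹ * (g * y * g⁻¹); group) }, fun x => rfl⟩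
  obtain ⟨τ, hτ⟩ := hmk t htn.2
  obtain ⟨r, hr⟩ := hmk ρ hρn.2
  have htt : t * t = 1 := by rw [← pow_two, ← ht, pow_orderOf_eq_one]
  have hρ3 : ρ * ρ * ρ = 1 := by rw [mul_assoc, ← pow_three, ← hρ, pow_orderOf_eq_one]
  have hρV : ∀ v ∈ V, ρ * v * ρ⁻¹ ∈ V := fun v hv => (Subgroup.mem_normalizer_iff.1 hρn.1 v).1 hv
  have hmoved : ∀ v ∈ V, ρ * v * ρ⁻¹ = v → v = 1 := by
    intro v hv hfix
    by_contra hv1
    have hall : ∀ w ∈ V, ρ * w * ρ⁻¹ = w := by
      intro w hw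
      by_contra hne
      have hw1 : w ≠ 1 := fun h => hne (by rw [h]; group)
      have hwv : w ≠ v := fun h => hne (by rw [h]; exact hfix)
      have hvw1 : v * w ≠ 1 := fun h => hwv (by
        rw [← inv_eq_of_mul_eq_one_right h, inv_eq_iff_mul_eq_one, ← pow_two, hV2 v hv])
      haveI : Fintype V := Fintype.ofFinite _
      have hu : ({(1 : V), ⟨v, hv⟩, ⟨w, hw⟩, ⟨v * w, mul_mem hv hw⟩} : Finset V) = Finset.univ := by
        refine Finset.eq_univ_of_card _ ?_
        rw [← Nat.card_eq_fintype_card, hV4, Finset.card_insert_of_notMem,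
          Finset.card_insert_of_notMem, Finset.card_pair]
        · exact fun h => hv1 (right_eq_mul.1 (congrArg Subtype.val h))
        · simp only [Finset.mem_insert, Finset.mem_singleton, Subtype.ext_iff]
          push Not
          exact ⟨hwv.symm, fun h => hw1 (left_eq_mul.1 h)⟩
        · simp only [Finset.mem_insert, Finset.mem_singleton, Subtype.ext_iff]
          push Not
          exact ⟨Ne.symm hv1, Ne.symm hw1, Ne.symm hvw1⟩
      have hm := Finset.mem_univ (⟨_, hρV w hw⟩ : V)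
      rw [← hu] at hm
      simp only [Finset.mem_insert, Finset.mem_singleton, Subtype.ext_iff, OneMemClass.coe_one] at hm
      have hinj : ∀ a b : G, ρ * a * ρ⁻¹ = ρ * b * ρ⁻¹ → a = b := fun a b h =>
        mul_left_cancel (mul_right_cancel h)
      rcases hm with h | h | h | h
      · exact hw1 (hinj _ _ (h.trans (by group)))
      · exact hwv (hinj _ _ (h.trans hfix.symm))
      · exact hne h
      · have h2 : ρ * (ρ * w * ρ⁻¹) * ρ⁻¹ = w := by
          rw [h, show ρ * (v * w) * ρ⁻¹ = (ρ * v * ρ⁻¹) * (ρ * w * ρ⁻¹) by group, hfix, h, ← mul_assoc,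
            ← pow_two, hV2 v hv, one_mul]
        have h3 : ρ * (ρ * (ρ * w * ρ⁻¹) * ρ⁻¹) * ρ⁻¹ = w := by
          calc ρ * (ρ * (ρ * w * ρ⁻¹) * ρ⁻¹) * ρ⁻¹ = ρ * ρ * ρ * w * (ρ * ρ * ρ)⁻¹ := by group
            _ = w := by rw [hρ3]; group
        rw [h2] at h3
        exact hne h3
    have hbot : ⁅V, Subgroup.zpowers ρ⁆ = ⊥ := by
      rw [Subgroup.commutator_eq_bot_iff_le_centralizer]
      intro w hw
      rw [Subgroup.mem_centralizer_iff]
      rintro _ ⟨i, rfl⟩
      have hc : Commute ρ w := mul_inv_eq_iff_eq_mul.1 (hall w hw)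
      exact (hc.zpow_left i).eq
    rw [hbot] at hVρ
    exact hv1 (Subgroup.mem_bot.1 (hVρ.symm ▸ hv))
  let S : Cfsg.Agent.RankTwoInvol.FoursCenter.Setup T :=
    { ρ := r
      τ := τ
      V := V.subgroupOf T
      isP := hT
      h3 := MulEquiv.ext fun x => Subtype.ext (by
        show ((r ^ 3) x : G) = x
        rw [pow_three, MulAut.mul_apply, MulAut.mul_apply, hr, hr, hr]
        calc ρ * (ρ * (ρ * (x : G) * ρ⁻¹) * ρ⁻¹) * ρ⁻¹ = ρ * ρ * ρ * x * (ρ * ρ * ρ)⁻¹ := by group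
          _ = x := by rw [hρ3]; group)
      comm := fun x => Subtype.ext (by
        rw [hτ, hr, hr, hτ]
        calc t * (ρ * (x : G) * ρ⁻¹) * t⁻¹ = t * ρ * x * (t * ρ)⁻¹ := by group
          _ = ρ * t * x * (ρ * t)⁻¹ := by rw [htρ]
          _ = _ := by group)
      invol := fun x => Subtype.ext (by
        rw [hτ, hτ]
        calc t * (t * (x : G) * t⁻¹) * t⁻¹ = t * t * x * (t * t)⁻¹ := by group
          _ = x := by rw [htt]; group)
      fix := fun x => by
        rw [Subgroup.mem_subgroupOf, ← hCt, Subtype.ext_iff, hτ, mul_inv_eq_iff_eq_mul, Subgroup.mem_inf,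
          Subgroup.mem_centralizer_singleton_iff]
        constructor
        · exact fun h => ⟨x.2, h.symm⟩
        · exact fun h => h.2.symm
      central := fun v hv => Subgroup.mem_center_iff.2 fun x => Subtype.ext
        (hVc v.1 (Subgroup.mem_subgroupOf.1 hv) x.1 x.2)
      cardV := by
        rw [Nat.card_congr (Subgroup.subgroupOfEquivOfLe (fun v hv => hVT' v hv)).toEquiv, hV4]
      expV := fun v hv => Subtype.ext (by
        have := hV2 v.1 (Subgroup.mem_subgroupOf.1 hv)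
        rwa [pow_two] at this)
      invV := fun v hv => by
        rw [Subgroup.mem_subgroupOf, hr]
        exact hρV _ (Subgroup.mem_subgroupOf.1 hv)
      moved := fun v hv h => Subtype.ext (hmoved _ (Subgroup.mem_subgroupOf.1 hv) (by
        rw [← hr, h])) }
  rcases S.classify with ⟨h16, hsq⟩ | hhom | ⟨a, b, ha, hb, hab, -, D⟩ | hg
  · refine Or.inl ⟨h16, fun x hx => ?_⟩
    have := congrArg Subtype.val (hsq ⟨x, hx⟩)
    rw [pow_two]
    exact this
  · exact Or.inr (Or.inl hhom)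
  · refine Or.inr (Or.inr (Or.inl ?_))
    letI : Fintype (GaloisField 2 2) := Fintype.ofFinite _
    have hF : Fintype.card (GaloisField 2 2) = 4 := by
      rw [← Nat.card_eq_fintype_card, GaloisField.card 2 2 two_ne_zero]; norm_num
    refine ⟨GaloisField 2 2, inferInstance, inferInstance, hF, fun P => ?_⟩
    obtain ⟨Q, ⟨e⟩⟩ := D.sylow_iso hF ha hb hab
    exact ⟨e.trans (Sylow.equiv Q P)⟩
  · refine Or.inr (Or.inr (Or.inr ?_))
    letI : Fintype (GaloisField 2 4) := Fintype.ofFinite _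
    have hF : Fintype.card (GaloisField 2 4) = 16 := by
      rw [← Nat.card_eq_fintype_card, GaloisField.card 2 4 (by norm_num)]; norm_num
    refine ⟨GaloisField 2 4, inferInstance, inferInstance, hF, fun P => ?_⟩
    have hF2 : Fintype.card (GaloisField 2 4) = (2 ^ 2) ^ 2 := by rw [hF]; norm_num
    obtain ⟨B⟩ := Cfsg.Agent.Involutions.SylowPSUThree.exists_base (F := GaloisField 2 4) (n := 2) hF2
    obtain ⟨g'⟩ := Cfsg.Agent.RankTwoInvol.gens_heis rfl hF2 B
    obtain ⟨g⟩ := hg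
    obtain ⟨e⟩ := g.iso g'
    obtain ⟨e'⟩ := Cfsg.Agent.Involutions.SylowPSUThree.sylow_equiv hF2 B P
    exact ⟨e.trans e'⟩

end Cfsg.Agent.S2933
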