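import Cfsg.Statements.S2939
import Cfsg.Agent.Lib.CharP.FusionFamily

set_option autoImplicit false
open Cfsg

namespace Cfsg.Agent.S2939

/-- Let p be a prime dividing the order of the finite group G and 𝓕 a family of subgroups of G closed under conjugation, with conjugates taken as X^g = g⁻¹Xg. Then 𝓕 controls Sylow p-intersections in G (any two distinct Sylow p-subgroups S and T with S ∩ T ≠ 1 are joined by a chain S = S₀, S₁, …, Sₙ = T of Sylow p-subgroups where, for each i, some member Xᵢ of 𝓕 meets both S_{i-1} and Sᵢ in Sylow p-subgroups of Xᵢ, satisfies S ∩ T ≤ Sᵢ ∩ Xᵢ, and contains an element xᵢ with Sᵢ^{xᵢ} = S_{i-1}) if and only if 𝓕 strongly controls p-fusion in G (whenever A is a subset of a Sylow p-subgroup S, A contains an element other than 1, and A^g ⊆ S, the element g factorises as g = y₁⋯yₙy with y ∈ N_G(S) and each yᵢ in a member Yᵢ of 𝓕 that meets S in a Sylow p-subgroup of Yᵢ, with A^{y₁⋯yᵢ} ⊆ S ∩ Yᵢ for each i). -/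
theorem result {G : Type*} [Group G] [Finite G] {p : ℕ} [Fact p.Prime] (hdiv : p ∣ Nat.card G) (𝓕 : Set (Subgroup G)) (h𝓕 : Cfsg.IsNormalSet 𝓕) : Cfsg.ControlsSylowIntersections p 𝓕 ↔ Cfsg.FamilyStronglyControlsFusion p 𝓕 := by
  constructor
  · intro hctrl S A g hA hA1 hg
    obtain ⟨T, hT⟩ : ∃ T : Sylow p G,
        (T : Subgroup G) = Cfsg.subgroupConjRight g⁻¹ (S : Subgroup G) :=
      ⟨g⁻¹⁻¹ • S, CharP.subgroupConjRight_sylow S g⁻¹⟩
    have hAT : A ⊆ (T : Set G) := by
      change A ⊆ ((T : Subgroup G) : Set G)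
      rw [hT]
      exact CharP.conjRight_subset_iff.1 hg
    by_cases hST : S = T
    · subst hST
      refine ⟨0, fun i => i.elim0, fun i => i.elim0, g, ?_, fun i => i.elim0, by simp,
        fun i => i.elim0⟩
      refine inv_mem_iff.1 (CharP.mem_normalizer_of_conj_map ?_)
      have h := congrArg (Cfsg.subgroupConjRight g) hT
      rw [CharP.subgroupConjRight_mul, inv_mul_cancel, CharP.subgroupConjRight_one] at h
      exact h
    have hbot : (S : Subgroup G) ⊓ (T : Subgroup G) ≠ ⊥ := by
      obtain ⟨a, ha, ha1⟩ := hA1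
      intro h
      exact ha1 (Subgroup.mem_bot.1 (h ▸ ⟨hA ha, hAT ha⟩))
    obtain ⟨n, c, X, x, hc0, hcn, hc⟩ := hctrl S T hST hbot
    let z : ℕ → G := fun k => Nat.rec 1 (fun i zi => if h : i < n then x ⟨i, h⟩ * zi else zi) k
    have hzs : ∀ i : Fin n, z (i.val + 1) = x i * z i.val := fun i => by
      change (if h : i.val < n then x ⟨i.val, h⟩ * z i.val else z i.val) = _
      rw [dif_pos i.2]
    have hcz : ∀ i : Fin (n + 1), (c i : Subgroup G) =
        Cfsg.subgroupConjRight (z i.val)⁻¹ (S : Subgroup G) := by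
      intro i
      induction i using Fin.induction with
      | zero => rw [hc0]; change _ = Cfsg.subgroupConjRight (1 : G)⁻¹ _
                rw [inv_one, CharP.subgroupConjRight_one]
      | succ i ih =>
        rw [show (i.succ).val = i.val + 1 from rfl, hzs i, mul_inv_rev,
          ← CharP.subgroupConjRight_mul, show (z i.val) = z (i.castSucc).val from rfl, ← ih,
          ← (hc i).2.2.2.1, CharP.subgroupConjRight_mul, mul_inv_cancel,
          CharP.subgroupConjRight_one]
    let y : Fin n → G := fun i => (z i.val)⁻¹ * x i * z i.val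
    let Y : Fin n → Subgroup G := fun i => Cfsg.subgroupConjRight (z i.val) (X i)
    have hpre : ∀ k, k ≤ n → ((List.ofFn y).take k).prod = z k := by
      intro k
      induction k with
      | zero => intro _; simp [z]
      | succ k ih =>
        intro hk
        have hk' : k < n := by omega
        rw [show k + 1 = (⟨k, hk'⟩ : Fin n).val + 1 from rfl, CharP.prod_take_ofFn_succ, hzs]
        simp only [y]
        rw [ih (by omega), ← mul_assoc, mul_inv_cancel_left]
    refine ⟨n, Y, y, (z n)⁻¹ * g, ?_, fun i => ⟨?_, ?_⟩, ?_, fun i => ?_⟩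
    · have h1 := hcz (Fin.last n)
      rw [hcn, hT, Fin.val_last] at h1
      have h2 := congrArg (Cfsg.subgroupConjRight g) h1
      rw [CharP.subgroupConjRight_mul, CharP.subgroupConjRight_mul, inv_mul_cancel,
        CharP.subgroupConjRight_one] at h2
      exact inv_mem_iff.1 (CharP.mem_normalizer_of_conj_map h2.symm)
    · have h1 := CharP.sylowMembers_conj h𝓕 (z i.val) (hc i).1
      rw [hcz i.castSucc, CharP.subgroupConjRight_mul,
        show (i.castSucc).val = i.val from rfl, inv_mul_cancel,
        CharP.subgroupConjRight_one] at h1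
      exact h1
    · rw [CharP.mem_subgroupConjRight]
      simpa [y, mul_assoc] using (hc i).2.2.1
    · rw [CharP.prod_ofFn_eq_take, hpre n le_rfl, mul_inv_cancel_left]
    · rw [hpre _ (by omega), Set.subset_inter_iff, CharP.conjRight_subset_sylow,
        CharP.conjRight_subset_iff]
      constructor
      · intro a ha
        rw [← show (i.succ).val = i.val + 1 from rfl, ← hcz i.succ]
        exact ((hc i).2.2.2.2 ⟨hA ha, hAT ha⟩).1
      · intro a ha
        have haX : a ∈ X i := ((hc i).2.2.2.2 ⟨hA ha, hAT ha⟩).2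
        rw [SetLike.mem_coe, CharP.mem_subgroupConjRight, inv_inv, CharP.mem_subgroupConjRight,
          hzs i]
        have := (X i).mul_mem ((X i).mul_mem ((X i).inv_mem (hc i).2.2.1) haX) (hc i).2.2.1
        simpa [mul_assoc] using this
  · intro hfus S T hne hbot
    obtain ⟨g, hg⟩ := MulAction.exists_smul_eq G T S
    have hT : (T : Subgroup G) = Cfsg.subgroupConjRight g (S : Subgroup G) := by
      rw [← hg, ← CharP.subgroupConjRight_sylow, inv_smul_smul]
    set A := (((S : Subgroup G) ⊓ (T : Subgroup G) : Subgroup G) : Set G)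
    obtain ⟨a, ha, ha1⟩ := (Subgroup.bot_or_exists_ne_one _).resolve_left hbot
    obtain ⟨n, Y, y, y₀, hy₀, hY, hgp, hsub⟩ := hfus S A g⁻¹ (fun a ha => ha.1)
      ⟨a, ha, ha1⟩ (by
        rw [CharP.conjRight_subset_sylow, inv_inv, ← hT]
        exact fun a ha => ha.2)
    let z : ℕ → G := fun k => ((List.ofFn y).take k).prod
    let c : Fin (n + 1) → Sylow p G := fun i => (z i.val) • S
    have hcz : ∀ i, (c i : Subgroup G) =
        Cfsg.subgroupConjRight (z i.val)⁻¹ (S : Subgroup G) := fun i => by
      rw [← CharP.subgroupConjRight_sylow, inv_inv]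
    refine ⟨n, c, fun i => Cfsg.subgroupConjRight (z i.val)⁻¹ (Y i),
      fun i => z i.val * y i * (z i.val)⁻¹, ?_, ?_, fun i => ?_⟩
    · simp [c, z]
    · apply Sylow.ext
      rw [hcz, Fin.val_last]
      change Cfsg.subgroupConjRight ((List.ofFn y).take n).prod⁻¹ (S : Subgroup G) = _
      rw [← CharP.prod_ofFn_eq_take, hT]
      have e : g = y₀⁻¹ * (List.ofFn y).prod⁻¹ := by rw [← mul_inv_rev, ← hgp, inv_inv]
      rw [e, ← CharP.subgroupConjRight_mul,
        show Cfsg.subgroupConjRight y₀⁻¹ (S : Subgroup G) = (S : Subgroup G) from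
          by rw [Cfsg.subgroupConjRight, inv_inv]; exact Subgroup.mem_normalizer_iff_map_conj_eq.1 hy₀]
    · have hzs : z (i.val + 1) = z i.val * y i := CharP.prod_take_ofFn_succ y i
      have hyconj : Cfsg.subgroupConjRight (y i)⁻¹ (Y i) = Y i := by
        rw [Cfsg.subgroupConjRight, inv_inv]
        exact Subgroup.mem_normalizer_iff_map_conj_eq.1 (Subgroup.le_normalizer (hY i).2)
      refine ⟨?_, ?_, ?_, ?_, ?_⟩
      · have h1 := CharP.sylowMembers_conj h𝓕 (z i.val)⁻¹ (hY i).1
        rwa [hcz]
      · have h1 := CharP.sylowMembers_conj h𝓕 (z (i.val + 1))⁻¹ (hY i).1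
        simp only [hzs, mul_inv_rev, ← CharP.subgroupConjRight_mul, hyconj] at h1
        rw [hcz, Fin.val_succ, hzs, mul_inv_rev]
        simp only [← CharP.subgroupConjRight_mul]
        exact h1
      · rw [CharP.mem_subgroupConjRight]
        simpa [mul_assoc] using (hY i).2
      · rw [hcz, hcz, CharP.subgroupConjRight_mul, Fin.val_succ, hzs, Fin.val_castSucc]
        congr 1
        group
      · have h2 := Set.subset_inter_iff.1 (hsub i)
        rw [CharP.conjRight_subset_sylow, CharP.conjRight_subset_iff,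
          show ((List.ofFn y).take (i.val + 1)).prod = z (i.val + 1) from rfl] at h2
        intro a ha
        refine ⟨?_, ?_⟩
        · rw [hcz, Fin.val_succ]
          exact h2.1 ha
        · have := h2.2 ha
          rwa [hzs, mul_inv_rev, ← CharP.subgroupConjRight_mul, hyconj] at this

end Cfsg.Agent.S2939
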