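import Cfsg.Statements.S2940
import Cfsg.Agent.Lib.CharP.Sylow

set_option autoImplicit false
open Cfsg

namespace Cfsg.Agent.S2940

/-- Let S be a Sylow p-subgroup of the finite group G and G₁, G₂ subgroups containing S with G = G₁G₂. Then for every g ∈ G there is a Sylow p-subgroup U of G with S ∩ S^g ≤ U ≤ G₁ ∩ G₂^g (conjugates taken as X^g = g⁻¹Xg). -/
theorem result {G : Type*} [Group G] [Finite G] {p : ℕ} [Fact p.Prime] (S : Sylow p G) (G₁ G₂ : Subgroup G) (h1 : (S : Subgroup G) ≤ G₁) (h2 : (S : Subgroup G) ≤ G₂) (hfact : ∀ g : G, ∃ g₁ ∈ G₁, ∃ g₂ ∈ G₂, g = g₁ * g₂) (g : G) : ∃ U : Sylow p G, (S : Subgroup G) ⊓ Cfsg.subgroupConjRight g (S : Subgroup G) ≤ (U : Subgroup G) ∧ (U : Subgroup G) ≤ G₁ ⊓ Cfsg.subgroupConjRight g G₂ := by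
  classical
  obtain ⟨a, ha, b, hb, hab⟩ := hfact g⁻¹
  let c : G := b
  have hgc : g = b⁻¹ * a⁻¹ := by rw [← inv_inv g, hab, mul_inv_rev]
  set E := G₁ ⊓ Cfsg.subgroupConjRight g G₂ with hE
  have hS : Cfsg.Agent.CharP.IsSylIn p (S : Subgroup G) ⊤ :=
    Cfsg.Agent.CharP.isSylIn_top_iff.2 ⟨S, rfl⟩
  have hT := hS.conj a
  rw [Subgroup.map_top_of_surjective _ (MulAut.conj a).surjective] at hT
  set T := (S : Subgroup G).map (MulAut.conj a).toMonoidHom with hTdef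
  have hTE : T ≤ E := by
    rintro _ ⟨s, hs, rfl⟩
    refine Subgroup.mem_inf.2 ⟨mul_mem (mul_mem ha (h1 hs)) (inv_mem ha), Subgroup.mem_map.2 ⟨b⁻¹⁻¹⁻¹ * s * b⁻¹⁻¹, ?_, ?_⟩⟩
    · exact mul_mem (mul_mem (by simpa using inv_mem hb) (h2 hs)) (by simpa using hb)
    · show g⁻¹ * _ * g⁻¹⁻¹ = a * s * a⁻¹
      rw [inv_inv, hgc]
      group
  have hidx : ¬ p ∣ E.relIndex ⊤ := fun hd => hT.not_dvd
    (hd.trans (Subgroup.relIndex_dvd_of_le_left _ hTE))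
  obtain ⟨U, hU, hDU⟩ := Cfsg.Agent.CharP.exists_isSylIn_ge
    (P := (S : Subgroup G) ⊓ Cfsg.subgroupConjRight g (S : Subgroup G)) (H := E)
    (S.isPGroup'.to_inf_left)
    (inf_le_inf h1 (Subgroup.map_mono h2))
  obtain ⟨U', rfl⟩ := Cfsg.Agent.CharP.isSylIn_top_iff.1 (hU.of_not_dvd le_top hidx)
  exact ⟨U', hDU, hU.le⟩

end Cfsg.Agent.S2940
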