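import Cfsg.Statements.S2951
import Cfsg.Agent.Lib.JComp.AmalInst

set_option autoImplicit false
open Cfsg

namespace Cfsg.Agent.S2951

/-- Let G be a finite group of characteristic 2 type in which every 2-local subgroup is solvable and the centralizer of Ω₁(Z(S)) lies in N_G(S) for every Sylow 2-subgroup S; suppose O₂(G) = 1, fix a Sylow 2-subgroup S and a 2-local subgroup M containing N_G(J(S)) (J the Thompson subgroup generated by the elementary abelian 2-subgroups of largest order), and put Z = Ω₁(Z(S)). Let T ≤ S be maximal (for the order of a largest elementary abelian subgroup, then the order of J(T), then the order of T) among the nontrivial 2-subgroups of M lying in a 2-local subgroup not inside M, K a J(T)-component not contained in M with J(T) the Thompson subgroup of every Sylow 2-subgroup of N_G(W_K) containing J(T), and O₂(⟨K, T⟩) ≠ 1, L a maximal 2-local subgroup containing ⟨K, J(T)⟩ (there is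 only one), and Z₀ = Ω₁(Z(J(T))). Then Z₀ ∩ W_K ≠ 1, and one of: Z = Z₀ has order 2; Z = Z₀ has order 4 and T = S; Ω₁(Z(T)) = Z₀ has order 4 and C_L(Z₀) has index 2 in N_G(Z₀). -/
theorem result {G : Type*} [Group G] [Finite G] (hL : Cfsg.IsCharacteristicTwoType G) (hN : ∀ N : Subgroup G, Cfsg.IsTwoLocal N → Group.IsSolvable ↥N)
    (hZ : ∀ S : Sylow 2 G, Subgroup.centralizer (Cfsg.omegaCenterOf (S : Subgroup G) : Set G) ≤ Subgroup.normalizer ((S : Subgroup G) : Set G)) (hO : Cfsg.pCore 2 G = ⊥) (S : Sylow 2 G) (M : Subgroup G) (hM : Cfsg.IsTwoLocal M)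
    (hMJ : Subgroup.normalizer (Cfsg.thompsonSubgroupOf 2 (S : Subgroup G) : Set G) ≤ M) (T : Subgroup G) (hT : T ∈ Cfsg.maxStraddlingTwoSubgroups M)
    (hTS : T ≤ (S : Subgroup G)) (K : Subgroup G) (hK : K ∈ Cfsg.jComponentsOutside M T)
    (L : Subgroup G) (hLmax : Cfsg.IsMaximalTwoLocal L) (hKL : K ⊔ Cfsg.thompsonSubgroupOf 2 T ≤ L)
    (Z Z₀ : Subgroup G) (hZdef : Z = Cfsg.omegaCenterOf (S : Subgroup G)) (hZ₀ : Z₀ = Cfsg.omegaCenterOf (Cfsg.thompsonSubgroupOf 2 T)) :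
    Z₀ ⊓ Cfsg.wOf K ≠ ⊥ ∧
      ((Z = Z₀ ∧ Nat.card ↥Z₀ = 2) ∨ (Z = Z₀ ∧ Nat.card ↥Z₀ = 4 ∧ T = (S : Subgroup G)) ∨
        (Cfsg.omegaCenterOf T = Z₀ ∧ Nat.card ↥Z₀ = 4 ∧
          (L ⊓ Subgroup.centralizer (Z₀ : Set G)).relIndex (Subgroup.normalizer (Z₀ : Set G)) = 2)) := by
  haveI : Fact (Nat.Prime 2) := ⟨Nat.prime_two⟩
  have h : JComp.Hyp S M := ⟨⟨hL, hN, hZ⟩, hO, hM, hMJ⟩
  obtain ⟨L', hL', hKL', -, hsyl, hov, -, huniq⟩ := JComp.outside_local h hT hK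
  obtain rfl := huniq L hLmax hKL
  obtain ⟨hnorm, h4, -⟩ :=
    JComp.outside_main h JComp.amal hT hTS hK hL' hKL' hov
  subst hZdef hZ₀
  obtain ⟨hTp, hT1, -⟩ := JComp.straddle_props hT
  obtain ⟨z, hzW, hz0, hz1, -⟩ := JComp.comp_exists_z hTp hK.1.1
  refine ⟨fun hb => hz1 (Subgroup.mem_bot.1 (hb.le ⟨hz0, hzW⟩)), ?_⟩
  have hΩ := JComp.omega_eq_Z0 hTp hK.1.1 hnorm h4
  have hle : omegaCenterOf (S : Subgroup G) ≤ JComp.Z0 T := by
    rw [← hΩ]
    intro v hv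
    obtain ⟨hvS, hvc, hv2⟩ := JComp.mem_omegaCenterOf.1 hv
    have hQT : JComp.Qk L ≤ T :=
      CharP.pCoreOf_le_of_isSylIn (JComp.isSylowTwoIn_iff.1 hov.1)
    exact JComp.mem_omegaCenterOf.2
      ⟨hQT (hov.2.2 fun y hy => hvc y (hTS (hQT hy))), fun y hy => hvc y (hTS hy), hv2⟩
  have hS1 : (S : Subgroup G) ≠ ⊥ := fun hb => hT1 (le_bot_iff.1 (hTS.trans hb.le))
  have hcard := JComp.card_CK hTp hK.1.1
  have hpos : 0 < Nat.card (JComp.CK T K) := Nat.card_pos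
  by_cases h2 : Nat.card (JComp.Z0 T) = 2
  · refine Or.inl ⟨Subgroup.eq_of_le_of_card_ge hle ?_, h2⟩
    rw [h2]
    haveI : Nontrivial ↥(omegaCenterOf (S : Subgroup G)) :=
      (Subgroup.nontrivial_iff_ne_bot _).2 (JComp.omega_ne_bot S.isPGroup' hS1)
    exact Finite.one_lt_card (α := ↥(omegaCenterOf (S : Subgroup G)))
  have h4' : Nat.card (JComp.Z0 T) = 4 := by omega
  by_cases hne : T = (S : Subgroup G)
  · subst hne
    exact Or.inr (Or.inl ⟨hΩ, h4', rfl⟩)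
  · exact Or.inr (Or.inr ⟨hΩ, h4',
      JComp.index_two_of_small h hT hTS hne hK.1.1 hK.2.1 hL' hKL' hsyl hle h4'⟩)

end Cfsg.Agent.S2951
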