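import Cfsg.Statements.S2955
import Cfsg.Agent.Lib.CharP.FusionFamily

set_option autoImplicit false
open Cfsg

namespace Cfsg.Agent.S2955

/-- Let p be a prime dividing the order of the finite group G and 𝓕 a conjugation-closed family of subgroups that controls Sylow p-intersections in G. Suppose the Sylow p-subgroups of G are chain-connected: any two of them are joined by a chain of Sylow p-subgroups, consecutive ones distinct with nontrivial intersection, all containing the intersection of the two ends (equivalently, the graph on the Sylow p-subgroups whose edges are the distinct pairs meeting nontrivially is connected). Then for every Sylow p-subgroup S, G is generated by N_G(S) together with the members of 𝓕 that meet S in a Sylow p-subgroup of themselves. -/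
theorem result {G : Type*} [Group G] [Finite G] (p : ℕ) [Fact p.Prime] (hdiv : p ∣ Nat.card G)
    (𝓕 : Set (Subgroup G)) (h𝓕 : Cfsg.IsNormalSet 𝓕) (hc : Cfsg.ControlsSylowIntersections p 𝓕)
    (hconn : Cfsg.IsSylowChainConnected p G) (S : Sylow p G) :
    (⨆ X ∈ Cfsg.sylowMembers p 𝓕 (S : Subgroup G), X) ⊔ Subgroup.normalizer ((S : Subgroup G) : Set G) = ⊤ := by
  set M := (⨆ X ∈ Cfsg.sylowMembers p 𝓕 (S : Subgroup G), X) ⊔
    Subgroup.normalizer ((S : Subgroup G) : Set G)
  have step : ∀ (A B : Sylow p G), A ≠ B → (A : Subgroup G) ⊓ (B : Subgroup G) ≠ ⊥ →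
      (∃ m ∈ M, (A : Subgroup G) = Cfsg.subgroupConjRight m (S : Subgroup G)) →
      ∃ m ∈ M, (B : Subgroup G) = Cfsg.subgroupConjRight m (S : Subgroup G) := by
    intro A B hne hbot hA
    obtain ⟨n, c, X, x, hc0, hcn, hc⟩ := hc A B hne hbot
    suffices ∀ i : Fin (n + 1), ∃ m ∈ M,
        (c i : Subgroup G) = Cfsg.subgroupConjRight m (S : Subgroup G) from hcn ▸ this (Fin.last n)
    intro i
    induction i using Fin.induction with
    | zero => rw [hc0]; exact hA
    | succ i ih =>
      obtain ⟨m, hm, hcm⟩ := ih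
      obtain ⟨hX1, -, hx, hconj, -⟩ := hc i
      have hX' : Cfsg.subgroupConjRight m⁻¹ (X i) ∈ Cfsg.sylowMembers p 𝓕 (S : Subgroup G) := by
        have h := CharP.sylowMembers_conj h𝓕 m⁻¹ hX1
        rwa [hcm, CharP.subgroupConjRight_mul, mul_inv_cancel, CharP.subgroupConjRight_one] at h
      have hxM : x i ∈ M := by
        have h1 : m * x i * m⁻¹ ∈ M := by
          refine Subgroup.mem_sup_left (Subgroup.mem_iSup_of_mem _ (Subgroup.mem_iSup_of_mem hX' ?_))
          rw [CharP.mem_subgroupConjRight]
          simpa [mul_assoc] using hx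
        have h2 := M.mul_mem (M.mul_mem (M.inv_mem hm) h1) hm
        simpa [mul_assoc] using h2
      refine ⟨m * (x i)⁻¹, M.mul_mem hm (M.inv_mem hxM), ?_⟩
      rw [← CharP.subgroupConjRight_mul, ← hcm, ← hconj, CharP.subgroupConjRight_mul,
        mul_inv_cancel, CharP.subgroupConjRight_one]
  rw [eq_top_iff]
  intro g _
  obtain ⟨T, hT⟩ : ∃ T : Sylow p G, (T : Subgroup G) = Cfsg.subgroupConjRight g (S : Subgroup G) :=
    ⟨g⁻¹ • S, CharP.subgroupConjRight_sylow S g⟩
  obtain ⟨n, c, hc0, hcn, -, hc⟩ := hconn S T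
  have key : ∀ i : Fin (n + 1), ∃ m ∈ M,
      (c i : Subgroup G) = Cfsg.subgroupConjRight m (S : Subgroup G) := by
    intro i
    induction i using Fin.induction with
    | zero => exact ⟨1, M.one_mem, by rw [hc0, CharP.subgroupConjRight_one]⟩
    | succ i ih => exact step _ _ (hc i).1 (hc i).2 ih
  obtain ⟨m, hm, hTm⟩ := key (Fin.last n)
  rw [hcn, hT] at hTm
  have hN : g * m⁻¹ ∈ Subgroup.normalizer ((S : Subgroup G) : Set G) := by
    have h1 := congrArg (Cfsg.subgroupConjRight m⁻¹) hTm
    rw [CharP.subgroupConjRight_mul, CharP.subgroupConjRight_mul, mul_inv_cancel,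
      CharP.subgroupConjRight_one] at h1
    exact inv_mem_iff.1 (CharP.mem_normalizer_of_conj_map h1)
  have := M.mul_mem (Subgroup.mem_sup_right hN) hm
  simpa using this

end Cfsg.Agent.S2955
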