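import Cfsg.Statements.S2956
import Cfsg.Agent.Lib.CharP.FusionFamily

set_option autoImplicit false
open Cfsg

namespace Cfsg.Agent.S2956

open Subgroup

variable {G : Type*} [Group G] [Finite G] {p : ℕ} [Fact p.Prime]

/-- A step of a chain. -/
def Step (p : ℕ) (𝓐 : Set (Subgroup G)) (D : Subgroup G) (A B : Sylow p G) : Prop :=
  ∃ (X : Subgroup G) (x : G), X ∈ Cfsg.sylowMembers p 𝓐 (A : Subgroup G) ∧
    X ∈ Cfsg.sylowMembers p 𝓐 (B : Subgroup G) ∧ x ∈ X ∧
    Cfsg.subgroupConjRight x (B : Subgroup G) = (A : Subgroup G) ∧ D ≤ (B : Subgroup G) ⊓ X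

/-- A Sylow subgroup over a `p`-subgroup. -/
theorem overSylow {U : Subgroup G} (hU : IsPGroup p U) : ∃ A : Sylow p G, U ≤ (A : Subgroup G) :=
  hU.exists_le_sylow

/-- A Sylow subgroup of `M` is the trace of any Sylow subgroup above it. -/
theorem inf_eq {M : Subgroup G} (U : Sylow p ↥M) {A : Sylow p G}
    (h : (U : Subgroup ↥M).map M.subtype ≤ (A : Subgroup G)) :
    (A : Subgroup G) ⊓ M = (U : Subgroup ↥M).map M.subtype := by
  have h1 : (U : Subgroup ↥M) ≤ ((A : Subgroup G) ⊓ M).subgroupOf M := fun z hz =>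
    mem_subgroupOf.mpr ⟨h ⟨z, hz, rfl⟩, z.2⟩
  have h2 := U.3 ((A.2.to_le inf_le_left).comap_subtype) h1
  rw [← h2]
  exact (map_subgroupOf_eq_of_le inf_le_right).symm

/-- Monotonicity. -/
theorem step_mono {𝓐 : Set (Subgroup G)} {D D' : Subgroup G} (h : D ≤ D') {A B : Sylow p G}
    (hs : Step p 𝓐 D' A B) : Step p 𝓐 D A B := by
  obtain ⟨X, x, h1, h2, h3, h4, h5⟩ := hs
  exact ⟨X, x, h1, h2, h3, h4, h.trans h5⟩


/-- Let p be a prime dividing the order of the finite group G, and f an assignment to every p-subgroup P of a set f(P) of subgroups of P, each normalized by N_G(P), compatible with conjugation, such that for P ≠ 1 the members of f(P) are nontrivial. Let 𝓕 be the family of the normalizers N_G(F) of the members F of f(S) over the Sylow p-subgroups S of G, and 𝓕' the family of the maximal p-local subgroups M of G that are singular for f (the corresponding family of normalizers inside M does not control Sylow p-intersections in M). Then 𝓕 ∪ 𝓕' controls Sylow p-intersections in G. -/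
theorem result {G : Type*} [Group G] [Finite G] (p : ℕ) [Fact p.Prime] (hdiv : p ∣ Nat.card G)
    (f : Subgroup G → Set (Subgroup G)) (hf : Cfsg.IsNormalizerFunctor p f)
    (hf1 : ∀ P : Subgroup G, IsPGroup p ↥P → P ≠ ⊥ → ∀ F ∈ f P, F ≠ ⊥)
    (𝓕 𝓕' : Set (Subgroup G)) (h𝓕 : 𝓕 = Cfsg.functorFamily p f ⊤)
    (h𝓕' : 𝓕' = {M | Cfsg.IsMaximalPLocal p M ∧ ¬ Cfsg.IsFunctorRegular p f M}) :
    Cfsg.ControlsSylowIntersections p (𝓕 ∪ 𝓕') := by
  classical
  set 𝓐 := 𝓕 ∪ 𝓕'
  have hexM : ∀ N : Subgroup G, Cfsg.IsPLocal p N → ∃ M, N ≤ M ∧ Cfsg.IsMaximalPLocal p M := by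
    intro N hN
    obtain ⟨M, hNM, hM⟩ := (Set.toFinite {M : Subgroup G | Cfsg.IsPLocal p M}).exists_le_maximal hN
    exact ⟨M, hNM, hM.1, fun Z hZ h => le_antisymm (hM.2 hZ h) h⟩
  -- the claim for the maximal local subgroups
  have local_ : ∀ D : Subgroup G, D ≠ ⊥ →
      (∀ D' : Subgroup G, Nat.card D < Nat.card D' → ∀ A B : Sylow p G, D' ≤ (A : Subgroup G) →
        D' ≤ (B : Subgroup G) → Relation.ReflTransGen (Step p 𝓐 D') A B) → D ≤ D →
      ∀ k : ℕ, ∀ M : Subgroup G, Cfsg.IsMaximalPLocal p M → ∀ U V : Sylow p ↥M,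
        Nat.card D < Nat.card (U : Subgroup ↥M) → Nat.card G ≤ k + Nat.card (U : Subgroup ↥M) →
        D ≤ (U : Subgroup ↥M).map M.subtype → D ≤ (V : Subgroup ↥M).map M.subtype →
        ∀ A B : Sylow p G, (U : Subgroup ↥M).map M.subtype ≤ (A : Subgroup G) →
          (V : Subgroup ↥M).map M.subtype ≤ (B : Subgroup G) →
          Relation.ReflTransGen (Step p 𝓐 D) A B := by
    intro D hD hIH _ k
    induction k using Nat.strong_induction_on with
    | _ k ihk =>
    intro M hM U V hlt hk hDU hDV A B hA hB
    -- two Sylow subgroups over the same Sylow subgroup of `M`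
    have same : ∀ (W : Sylow p ↥M), D ≤ (W : Subgroup ↥M).map M.subtype → ∀ P R : Sylow p G,
        (W : Subgroup ↥M).map M.subtype ≤ (P : Subgroup G) →
        (W : Subgroup ↥M).map M.subtype ≤ (R : Subgroup G) →
        Relation.ReflTransGen (Step p 𝓐 D) P R := fun W hW P R hP hR =>
      Relation.ReflTransGen.mono (fun _ _ => step_mono hW) _ _ (hIH _ (by
        rw [card_map_of_injective (f := M.subtype) (Subgroup.subtype_injective _), Nat.card_congr (W.equiv U).toEquiv]
        exact hlt) P R hP hR)
    by_cases hreg : Cfsg.IsFunctorRegular p f M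
    · rcases eq_or_ne U V with rfl | hne
      · exact same U hDU A B hA hB
      have hnb : (U : Subgroup ↥M) ⊓ (V : Subgroup ↥M) ≠ ⊥ := fun e => hD (by
        have h1 : D ≤ ((U : Subgroup ↥M) ⊓ (V : Subgroup ↥M)).map M.subtype := by
          rw [Subgroup.map_inf _ _ _ M.subtype_injective]
          exact le_inf hDU hDV
        rwa [e, Subgroup.map_bot, le_bot_iff] at h1)
      obtain ⟨n, c, X, x, hc0, hcn, hc⟩ := hreg U V hne hnb
      choose C hC using fun i => overSylow ((c i).2.map M.subtype)
      have hDc : ∀ i, D ≤ (c i : Subgroup ↥M).map M.subtype := by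
        intro i
        induction i using Fin.cases with
        | zero => rw [hc0]; exact hDU
        | succ j =>
          refine le_trans ?_ (Subgroup.map_mono ((hc j).2.2.2.2.trans inf_le_left))
          rw [Subgroup.map_inf _ _ _ M.subtype_injective]
          exact le_inf hDU hDV
      suffices h : ∀ i, Relation.ReflTransGen (Step p 𝓐 D) (C 0) (C i) by
        refine ((same U hDU A (C 0) hA (hc0 ▸ hC 0)).trans (h (Fin.last n))).trans ?_
        exact same V hDV (C (Fin.last n)) B (hcn ▸ hC (Fin.last n)) hB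
      intro i
      induction i using Fin.induction with
      | zero => exact .refl
      | succ i ih =>
        refine ih.trans ?_
        obtain ⟨hXa, hXb, hx, hconj, -⟩ := hc i
        obtain ⟨Y, hY, hXY⟩ := hXa.1
        obtain ⟨P, F, hF, rfl⟩ := hY
        obtain ⟨hFP, hNP⟩ := (hf _ (P.2.map M.subtype)).1 F hF
        have hPX : (P : Subgroup ↥M) ≤ X i := by
          rw [← hXY]
          intro z hz
          exact mem_subgroupOf.mpr (mem_inf.mpr ⟨z.2, hNP (Subgroup.le_normalizer ⟨z, hz, rfl⟩)⟩)
        have conjP : ∀ W : Sylow p ↥M, X i ∈ Cfsg.sylowMembers p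
            ((fun X : Subgroup G => X.subgroupOf M) '' Cfsg.functorFamily p f M) (W : Subgroup ↥M) →
            (W : Subgroup ↥M).map M.subtype ≤ normalizer (F : Set G) ∧
            normalizer (((W : Subgroup ↥M).map M.subtype : Subgroup G) : Set G) ≤ normalizer (F : Set G) := by
          intro W hW
          obtain ⟨W', hW'⟩ := hW.2
          have h1 : (W : Subgroup ↥M) ≤ X i := by
            refine inf_eq_left.mp (eq_of_le_of_card_ge inf_le_left ?_)
            rw [← hW', card_map_of_injective (f := (X i).subtype) (Subgroup.subtype_injective _),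
              Nat.card_congr (W'.equiv (P.subtype hPX)).toEquiv,
              ← card_map_of_injective (f := (X i).subtype) (Subgroup.subtype_injective _),
              Sylow.coe_subtype, map_subgroupOf_eq_of_le hPX]
            exact (Nat.card_congr (P.equiv W).toEquiv).ge
          obtain ⟨⟨m, hm⟩, hmW⟩ := MulAction.exists_smul_eq ↥(X i) (P.subtype hPX) (W.subtype h1)
          have hmN : ((m : M) : G) ∈ normalizer (F : Set G) := by
            rw [← hXY] at hm
            exact (mem_inf.mp (mem_subgroupOf.mp hm)).2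
          have e : (W : Subgroup ↥M).map M.subtype =
              ((P : Subgroup ↥M).map M.subtype).map (MulAut.conj ((m : M) : G)).toMonoidHom := by
            conv_lhs => rw [← map_subgroupOf_eq_of_le h1, ← Sylow.coe_subtype (h := h1), ← hmW,
              Sylow.coe_subgroup_smul, Sylow.coe_subtype]
            ext z
            constructor
            · rintro ⟨_, ⟨_, ⟨w, hw, rfl⟩, rfl⟩, rfl⟩
              exact ⟨_, ⟨_, hw, rfl⟩, rfl⟩
            · rintro ⟨_, ⟨w, hw, rfl⟩, rfl⟩
              exact ⟨_, ⟨_, ⟨⟨w, hPX hw⟩, hw, rfl⟩, rfl⟩, rfl⟩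
          refine ⟨fun z hz => ?_, ?_⟩
          · obtain ⟨w, hw, rfl⟩ := hz
            have := h1 hw
            rw [← hXY] at this
            exact (mem_inf.mp (mem_subgroupOf.mp this)).2
          · rw [e]
            intro z hz
            have h2 : ((m : M) : G)⁻¹ * z * ((m : M) : G) ∈
                normalizer (((P : Subgroup ↥M).map M.subtype : Subgroup G) : Set G) := by
              rw [← Subgroup.map_equiv_normalizer_eq] at hz
              obtain ⟨w, hw, rfl⟩ := hz
              simpa [mul_assoc] using hw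
            have h3 := mul_mem (mul_mem hmN (hNP h2)) (inv_mem hmN)
            simpa [mul_assoc] using h3
        obtain ⟨ha1, ha2⟩ := conjP _ hXa
        obtain ⟨hb1, hb2⟩ := conjP _ hXb
        have hxN : ((x i : M) : G) ∈ normalizer (F : Set G) := by
          rw [← hXY] at hx
          exact (mem_inf.mp (mem_subgroupOf.mp hx)).2
        have hcm : ∀ W : Sylow p ↥M, Nat.card ↥((W : Subgroup ↥M).map M.subtype) = Nat.card (U : Subgroup ↥M) := fun W => by
          rw [card_map_of_injective (f := M.subtype) (Subgroup.subtype_injective _)]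
          exact Nat.card_congr (W.equiv U).toEquiv
        obtain ⟨S₀⟩ := Sylow.nonempty (p := p) (G := G)
        by_cases hfull : Nat.card (U : Subgroup ↥M) = Nat.card S₀
        · -- full Sylow subgroups
          have hCe : ∀ j, (C j : Subgroup G) = (c j : Subgroup ↥M).map M.subtype := fun j =>
            (eq_of_le_of_card_ge (hC j) (by
              rw [hcm, hfull]; exact (Nat.card_congr ((C j).equiv S₀).toEquiv).le)).symm
          obtain ⟨P', hP'⟩ : ∃ P' : Sylow p G, (P' : Subgroup G) = (P : Subgroup ↥M).map M.subtype := by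
            obtain ⟨P', hP'⟩ := overSylow (P.2.map M.subtype)
            exact ⟨P', (eq_of_le_of_card_ge hP' (by
              rw [hcm, hfull]; exact (Nat.card_congr (P'.equiv S₀).toEquiv).le)).symm⟩
          have hmem : ∀ j, (C j : Subgroup G) ≤ normalizer (F : Set G) →
              normalizer (F : Set G) ∈ Cfsg.sylowMembers p 𝓐 (C j : Subgroup G) := by
            intro j hj
            refine ⟨Or.inl ?_, ⟨(C j).subtype hj, ?_⟩⟩
            · rw [h𝓕]
              refine ⟨P'.subtype le_top, F, ?_, by rw [top_inf_eq]⟩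
              rwa [Sylow.coe_subtype, map_subgroupOf_eq_of_le le_top, hP']
            · rw [Sylow.coe_subtype, map_subgroupOf_eq_of_le hj, inf_eq_left.mpr hj]
          refine .single ⟨normalizer (F : Set G), ((x i : M) : G), hmem _ (by rw [hCe]; exact ha1),
            hmem _ (by rw [hCe]; exact hb1), hxN, ?_, le_inf (by rw [hCe]; exact hDc _)
              ((hDc _).trans hb1)⟩
          rw [hCe, hCe, ← hconj, Cfsg.subgroupConjRight, Cfsg.subgroupConjRight, Subgroup.map_map,
            Subgroup.map_map]
          rfl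
        · -- pass to a larger maximal local subgroup
          have hcne : (c i.castSucc : Subgroup ↥M).map M.subtype ≠ ⊥ := fun e => hD (le_bot_iff.mp (e ▸ hDc _))
          have hPp : IsPGroup p F := (P.2.map M.subtype).to_le hFP
          have hP1 : (P : Subgroup ↥M).map M.subtype ≠ ⊥ := fun e => by
            have := hcm P
            rw [e, Subgroup.card_bot] at this
            have hpos : 0 < Nat.card D := Nat.card_pos
            omega
          obtain ⟨M', hNM', hM'⟩ := hexM (normalizer (F : Set G))
            ⟨F, hPp, hf1 _ (P.2.map M.subtype) hP1 F hF, rfl⟩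
          have grow : ∀ W : Sylow p ↥M,
              normalizer (((W : Subgroup ↥M).map M.subtype : Subgroup G) : Set G) ≤ normalizer (F : Set G) →
              ∃ W' : Sylow p ↥M', (W : Subgroup ↥M).map M.subtype ≤ (W' : Subgroup ↥M').map M'.subtype ∧
                Nat.card (U : Subgroup ↥M) < Nat.card (W' : Subgroup ↥M') := by
            intro W hW
            set c' := (W : Subgroup ↥M).map M.subtype with hc'
            obtain ⟨R, hR⟩ := overSylow (W.2.map M.subtype)
            haveI := R.2.isNilpotent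
            have hne : c'.subgroupOf (R : Subgroup G) ≠ ⊤ := fun e => hfull (by
              have e' : c' = (R : Subgroup G) := le_antisymm hR (subgroupOf_eq_top.mp e)
              rw [← hcm W, ← hc', e']
              exact Nat.card_congr (R.equiv S₀).toEquiv)
            obtain ⟨z, hz, hzc⟩ := SetLike.exists_of_lt
              (Group.normalizerCondition_of_isNilpotent (G := R) _ (lt_top_iff_ne_top.mpr hne))
            set N := (normalizer ((c'.subgroupOf (R : Subgroup G)) : Set R)).map (R : Subgroup G).subtype with hN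
            have hNle : N ≤ M' := by
              refine le_trans ?_ (hW.trans hNM')
              refine (le_normalizer_map (R : Subgroup G).subtype).trans ?_
              rw [map_subgroupOf_eq_of_le hR]
            have hNp : IsPGroup p N := (R.2.to_subgroup _).map _
            obtain ⟨W', hW'⟩ := (hNp.comap_subtype (K := M')).exists_le_sylow
            refine ⟨W', ?_, ?_⟩
            · intro w hw
              have hwN : w ∈ N := ⟨⟨w, hR hw⟩, Subgroup.le_normalizer (mem_subgroupOf.mpr hw), rfl⟩
              exact ⟨⟨w, hNle hwN⟩, hW' hwN, rfl⟩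
            · rw [← hcm W, ← hc', Nat.card_congr (Subgroup.equivMapOfInjective (W' : Subgroup ↥M') M'.subtype (Subgroup.subtype_injective _)).toEquiv]
              have hsub : N ≤ (W' : Subgroup ↥M').map M'.subtype := fun w hw => ⟨⟨w, hNle hw⟩, hW' hw, rfl⟩
              refine lt_of_lt_of_le ?_ (card_le_of_le hsub)
              have hle : c' ≤ N := fun w hw => ⟨⟨w, hR hw⟩, Subgroup.le_normalizer (mem_subgroupOf.mpr hw), rfl⟩
              refine lt_of_le_of_ne (card_le_of_le hle) fun e => hzc ?_
              have := eq_of_le_of_card_ge hle e.ge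
              exact mem_subgroupOf.mpr (this.ge ⟨z, hz, rfl⟩)
          obtain ⟨U', hU', hU'c⟩ := grow _ ha2
          obtain ⟨V', hV', hV'c⟩ := grow _ hb2
          obtain ⟨A', hA'⟩ := overSylow (U'.2.map M'.subtype)
          obtain ⟨B', hB'⟩ := overSylow (V'.2.map M'.subtype)
          have hGU : Nat.card (U' : Subgroup ↥M') ≤ Nat.card G :=
            (card_le_card_group _).trans (card_le_card_group M')
          refine ((same _ (hDc _) _ A' (hC _) (hU'.trans hA')).trans
            (ihk (Nat.card G - Nat.card (U' : Subgroup ↥M')) (by omega) M' hM' U' V' (hlt.trans hU'c)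
              (by omega) ((hDc _).trans hU') ((hDc _).trans hV') A' B' hA' hB')).trans ?_
          exact same _ (hDc _) B' _ (hV'.trans hB') (hC _)
    · -- singular
      obtain ⟨m, hm⟩ := MulAction.exists_smul_eq ↥M V U
      obtain ⟨B', hB'⟩ : ∃ B' : Sylow p G, B' = (m : G) • B := ⟨_, rfl⟩
      have hU'B : (U : Subgroup ↥M).map M.subtype ≤ (B' : Subgroup G) := by
        rw [hB', ← hm, Sylow.coe_subgroup_smul, Sylow.coe_subgroup_smul]
        rintro _ ⟨_, ⟨w, hw, rfl⟩, rfl⟩
        exact ⟨(w : G), hB ⟨w, hw, rfl⟩, rfl⟩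
      have hMmem : M ∈ 𝓐 := Or.inr (by rw [h𝓕']; exact ⟨hM, hreg⟩)
      refine (same U hDU A B' hA hU'B).tail ⟨M, (m : G)⁻¹, ⟨hMmem, U, (inf_eq U hU'B).symm⟩,
        ⟨hMmem, V, (inf_eq V hB).symm⟩, inv_mem m.2, ?_, le_inf (hDV.trans hB) (hDV.trans (map_subtype_le _))⟩
      rw [hB', Sylow.coe_subgroup_smul, Cfsg.subgroupConjRight, inv_inv]
      rfl
  have main : ∀ k : ℕ, ∀ D : Subgroup G, D ≠ ⊥ → Nat.card G ≤ k + Nat.card D → ∀ A B : Sylow p G,
      D ≤ (A : Subgroup G) → D ≤ (B : Subgroup G) → Relation.ReflTransGen (Step p 𝓐 D) A B := by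
    intro k
    induction k using Nat.strong_induction_on with
    | _ k ih =>
    intro D hD hk A B hDA hDB
    rcases eq_or_ne A B with rfl | hne
    · exact .refl
    have hIH : ∀ D' : Subgroup G, Nat.card D < Nat.card D' → ∀ P R : Sylow p G, D' ≤ (P : Subgroup G) →
        D' ≤ (R : Subgroup G) → Relation.ReflTransGen (Step p 𝓐 D') P R := by
      intro D' hlt P R hP hR
      have hle : Nat.card D' ≤ Nat.card G := card_le_card_group D'
      refine ih (Nat.card G - Nat.card D') (by omega) D' ?_ (by omega) P R hP hR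
      intro e
      rw [e, Subgroup.card_bot] at hlt
      have : 0 < Nat.card D := Nat.card_pos
      omega
    obtain ⟨M, hNM, hM⟩ := hexM (normalizer (D : Set G)) ⟨D, A.2.to_le hDA, hD, rfl⟩
    have grow : ∀ P : Sylow p G, D ≤ (P : Subgroup G) → ∀ R : Sylow p G, (P : Subgroup G) ≠ D ∧
        ∃ (W : Sylow p ↥M) (P' : Sylow p G), Nat.card D < Nat.card (W : Subgroup ↥M) ∧
          D ≤ (W : Subgroup ↥M).map M.subtype ∧ (W : Subgroup ↥M).map M.subtype ≤ (P' : Subgroup G) ∧
          Relation.ReflTransGen (Step p 𝓐 D) P P' ∧ Relation.ReflTransGen (Step p 𝓐 D) P' P := by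
      intro P hP R
      have hPD : (P : Subgroup G) ≠ D := fun e => hne (by
        have hA' : (A : Subgroup G) = D := (eq_of_le_of_card_ge hDA (by
          rw [← e]; exact (Nat.card_congr (A.equiv P).toEquiv).le)).symm
        have hB' : (B : Subgroup G) = D := (eq_of_le_of_card_ge hDB (by
          rw [← e]; exact (Nat.card_congr (B.equiv P).toEquiv).le)).symm
        exact Sylow.ext (hA'.trans hB'.symm))
      refine ⟨hPD, ?_⟩
      haveI := P.2.isNilpotent
      have hne' : D.subgroupOf (P : Subgroup G) ≠ ⊤ := fun e =>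
        hPD (le_antisymm (subgroupOf_eq_top.mp e) hP)
      obtain ⟨z, hz, hzc⟩ := SetLike.exists_of_lt
        (Group.normalizerCondition_of_isNilpotent (G := P) _ (lt_top_iff_ne_top.mpr hne'))
      set N := (normalizer ((D.subgroupOf (P : Subgroup G)) : Set P)).map (P : Subgroup G).subtype with hN
      have hNle : N ≤ M := by
        refine le_trans ?_ hNM
        refine (le_normalizer_map (P : Subgroup G).subtype).trans ?_
        rw [map_subgroupOf_eq_of_le hP]
      have hNp : IsPGroup p N := (P.2.to_subgroup _).map _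
      obtain ⟨W, hW⟩ := (hNp.comap_subtype (K := M)).exists_le_sylow
      have hDN : D ≤ N := fun w hw => ⟨⟨w, hP hw⟩, Subgroup.le_normalizer (mem_subgroupOf.mpr hw), rfl⟩
      have hsub : N ≤ (W : Subgroup ↥M).map M.subtype := fun w hw => ⟨⟨w, hNle hw⟩, hW hw, rfl⟩
      have hlt : Nat.card D < Nat.card N := lt_of_le_of_ne (card_le_of_le hDN) fun e => hzc
        (mem_subgroupOf.mpr ((eq_of_le_of_card_ge hDN e.ge).ge ⟨z, hz, rfl⟩))
      obtain ⟨P', hP'⟩ := overSylow (W.2.map M.subtype)
      have hNP : N ≤ (P : Subgroup G) := map_subtype_le _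
      refine ⟨W, P', ?_, hDN.trans hsub, hP', ?_, ?_⟩
      · rw [Nat.card_congr (Subgroup.equivMapOfInjective (W : Subgroup ↥M) M.subtype (Subgroup.subtype_injective _)).toEquiv]
        exact hlt.trans_le (card_le_of_le hsub)
      · exact Relation.ReflTransGen.mono (fun _ _ => step_mono hDN) _ _ (hIH N hlt P P' hNP (hsub.trans hP'))
      · exact Relation.ReflTransGen.mono (fun _ _ => step_mono hDN) _ _ (hIH N hlt P' P (hsub.trans hP') hNP)
    obtain ⟨-, U, A', hU, hDU, hA', hAA', -⟩ := grow A hDA A
    obtain ⟨-, V, B', -, hDV, hB', -, hB'B⟩ := grow B hDB B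
    exact (hAA'.trans (local_ D hD hIH le_rfl (Nat.card G) M hM U V hU (by omega) hDU hDV A' B' hA' hB')).trans hB'B
  intro A B hne hnb
  have h := main (Nat.card G) ((A : Subgroup G) ⊓ (B : Subgroup G)) hnb (by omega) A B inf_le_left inf_le_right
  have conv : ∀ Cend : Sylow p G, Relation.ReflTransGen (Step p 𝓐 ((A : Subgroup G) ⊓ (B : Subgroup G))) A Cend →
      ∃ (n : ℕ) (c : Fin (n + 1) → Sylow p G), c 0 = A ∧ c (Fin.last n) = Cend ∧
        ∀ i : Fin n, Step p 𝓐 ((A : Subgroup G) ⊓ (B : Subgroup G)) (c i.castSucc) (c i.succ) := by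
    intro Cend hC
    induction hC with
    | refl => exact ⟨0, fun _ => A, rfl, rfl, fun i => i.elim0⟩
    | tail _ hst ih =>
      obtain ⟨n, c, h0, hl, hs⟩ := ih
      refine ⟨n + 1, Fin.snoc c _, ?_, Fin.snoc_last _ _, fun i => ?_⟩
      · rw [← Fin.castSucc_zero, Fin.snoc_castSucc]; exact h0
      · induction i using Fin.lastCases with
        | last =>
          rw [Fin.snoc_castSucc, Fin.succ_last, Fin.snoc_last, hl]
          exact hst
        | cast j =>
          rw [Fin.succ_castSucc, Fin.snoc_castSucc, Fin.snoc_castSucc]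
          exact hs j
  obtain ⟨n, c, h0, hl, hs⟩ := conv _ h
  choose X x h1 h2 h3 h4 h5 using hs
  exact ⟨n, c, X, x, h0, hl, fun i => ⟨h1 i, h2 i, h3 i, h4 i, h5 i⟩⟩

end Cfsg.Agent.S2956
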