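import Cfsg.Statements.S2957
import Cfsg.Agent.Lib.CharP.FusionFamily

set_option autoImplicit false
open Cfsg

namespace Cfsg.Agent.S2957

open Subgroup

variable {G : Type*} [Group G] {p : ℕ}

/-- A step of a chain inside a member of the family. -/
def Step (p : ℕ) (f : Subgroup G → Set (Subgroup G)) (D : Subgroup G) (A B : Sylow p G) : Prop :=
  ∃ (P : Sylow p G) (F : Subgroup G) (x : G), F ∈ f (P : Subgroup G) ∧
    (A : Subgroup G) ≤ normalizer (F : Set G) ∧ (B : Subgroup G) ≤ normalizer (F : Set G) ∧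
    x ∈ normalizer (F : Set G) ∧ Cfsg.subgroupConjRight x (B : Subgroup G) = (A : Subgroup G) ∧
    D ≤ (B : Subgroup G)

/-- Chains inside a regular overgroup of a Sylow subgroup. -/
theorem lift [Finite G] [Fact p.Prime] {f : Subgroup G → Set (Subgroup G)}
    (hf : Cfsg.IsNormalizerFunctor p f) (S : Sylow p G) {M : Subgroup G}
    (hSM : (S : Subgroup G) ≤ M) (hr : Cfsg.IsFunctorRegular p f M) {D : Subgroup G} (hD : D ≠ ⊥)
    (A B : Sylow p G) (hA : (A : Subgroup G) ≤ M) (hB : (B : Subgroup G) ≤ M)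
    (hDA : D ≤ (A : Subgroup G)) (hDB : D ≤ (B : Subgroup G)) :
    Relation.ReflTransGen (Step p f D) A B := by
  have hext : ∀ P : Sylow p ↥M, ∃ P' : Sylow p G, (P' : Subgroup G) = (P : Subgroup ↥M).map M.subtype := by
    intro P
    obtain ⟨m, rfl⟩ := MulAction.exists_smul_eq ↥M (S.subtype hSM) P
    refine ⟨(m : G) • S, ?_⟩
    rw [Sylow.coe_subgroup_smul, Sylow.coe_subgroup_smul, Sylow.coe_subtype]
    conv_lhs => rw [← map_subgroupOf_eq_of_le hSM]
    ext z
    constructor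
    · rintro ⟨_, ⟨w, hw, rfl⟩, rfl⟩
      exact ⟨_, ⟨w, hw, rfl⟩, rfl⟩
    · rintro ⟨_, ⟨w, hw, rfl⟩, rfl⟩
      exact ⟨_, ⟨w, hw, rfl⟩, rfl⟩
  choose ext hext using hext
  have hinj : ∀ P : Sylow p G, ∀ h : (P : Subgroup G) ≤ M, ext (P.subtype h) = P := fun P h =>
    Sylow.ext (by rw [hext, Sylow.coe_subtype, map_subgroupOf_eq_of_le h])
  rcases eq_or_ne A B with rfl | hne
  · exact .refl
  have hne' : A.subtype hA ≠ B.subtype hB := fun e => hne (by rw [← hinj A hA, e, hinj B hB])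
  have hnb : (A.subtype hA : Subgroup ↥M) ⊓ (B.subtype hB : Subgroup ↥M) ≠ ⊥ := fun e => hD (by
    have h1 : D.subgroupOf M ≤ (A.subtype hA : Subgroup ↥M) ⊓ (B.subtype hB : Subgroup ↥M) :=
      le_inf (fun z hz => hDA hz) (fun z hz => hDB hz)
    rw [e, le_bot_iff, subgroupOf_eq_bot, disjoint_iff, inf_eq_left.mpr (hDA.trans hA)] at h1
    exact h1)
  obtain ⟨n, c, X, x, hc0, hcn, hc⟩ := hr (A.subtype hA) (B.subtype hB) hne' hnb
  suffices ∀ i : Fin (n + 1), Relation.ReflTransGen (Step p f D) A (ext (c i)) by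
    have := this (Fin.last n)
    rwa [hcn, hinj] at this
  intro i
  induction i using Fin.induction with
  | zero => rw [hc0, hinj]
  | succ i ih =>
    refine ih.tail ?_
    obtain ⟨hXa, hXb, hx, hconj, hle⟩ := hc i
    obtain ⟨Y, hY, hXY⟩ := hXa.1
    obtain ⟨P, F, hF, rfl⟩ := hY
    have hPX : (P : Subgroup ↥M) ≤ X i := by
      rw [← hXY]
      intro z hz
      exact mem_subgroupOf.mpr (mem_inf.mpr ⟨z.2,
        ((hf _ (P.2.map _)).1 F hF).2 (Subgroup.le_normalizer ⟨z, hz, rfl⟩)⟩)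
    have full : ∀ C : Sylow p ↥M, X i ∈ Cfsg.sylowMembers p
        ((fun X : Subgroup G => X.subgroupOf M) '' Cfsg.functorFamily p f M) (C : Subgroup ↥M) →
        (C : Subgroup ↥M) ≤ X i := by
      intro C hC
      obtain ⟨P', hP'⟩ := hC.2
      have h1 : Nat.card ↥((C : Subgroup ↥M) ⊓ X i) = Nat.card ↥(C : Subgroup ↥M) := by
        rw [← hP', card_map_of_injective (f := (X i).subtype) (Subgroup.subtype_injective _)]
        rw [Nat.card_congr (P'.equiv (P.subtype hPX)).toEquiv,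
          ← card_map_of_injective (f := (X i).subtype) (Subgroup.subtype_injective _),
          Sylow.coe_subtype, map_subgroupOf_eq_of_le hPX]
        exact Nat.card_congr (P.equiv C).toEquiv
      exact inf_eq_left.mp (eq_of_le_of_card_ge inf_le_left h1.ge)
    refine ⟨ext P, F, (x i : G), by rw [hext]; exact hF, ?_, ?_, ?_, ?_, ?_⟩
    · rw [hext]
      rintro _ ⟨z, hz, rfl⟩
      have := full _ hXa hz
      rw [← hXY] at this
      exact (mem_inf.mp (mem_subgroupOf.mp this)).2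
    · rw [hext]
      rintro _ ⟨z, hz, rfl⟩
      have := full _ hXb hz
      rw [← hXY] at this
      exact (mem_inf.mp (mem_subgroupOf.mp this)).2
    · have := hx
      rw [← hXY] at this
      exact (mem_inf.mp (mem_subgroupOf.mp this)).2
    · rw [hext, hext, ← hconj, Cfsg.subgroupConjRight, Cfsg.subgroupConjRight, Subgroup.map_map,
        Subgroup.map_map]
      rfl
    · rw [hext]
      intro z hz
      exact ⟨⟨z, hA (hDA hz)⟩, (hle ⟨hDA hz, hDB hz⟩).1, rfl⟩

/-- Conjugation of steps. -/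
theorem step_conj [Finite G] [Fact p.Prime] {f : Subgroup G → Set (Subgroup G)}
    (hf : Cfsg.IsNormalizerFunctor p f) (u : G) {D : Subgroup G} {A B : Sylow p G}
    (h : Step p f D A B) : Step p f (D.map (MulAut.conj u).toMonoidHom) (u • A) (u • B) := by
  obtain ⟨P, F, x, hF, hA, hB, hx, hconj, hD⟩ := h
  have hcoe : ∀ C : Sylow p G, ((u • C : Sylow p G) : Subgroup G) =
      (C : Subgroup G).map (MulAut.conj u).toMonoidHom := fun C => by
    rw [Sylow.coe_subgroup_smul]
    rfl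
  refine ⟨u • P, F.map (MulAut.conj u).toMonoidHom, u * x * u⁻¹, ?_, ?_, ?_, ?_, ?_, ?_⟩
  · rw [hcoe, ((hf _ P.2).2 u)]
    exact ⟨F, hF, rfl⟩
  · rw [hcoe]; exact (Subgroup.map_mono hA).trans (le_normalizer_map _)
  · rw [hcoe]; exact (Subgroup.map_mono hB).trans (le_normalizer_map _)
  · exact le_normalizer_map _ ⟨x, hx, rfl⟩
  · rw [hcoe, hcoe, ← hconj, Cfsg.subgroupConjRight, Cfsg.subgroupConjRight, Subgroup.map_map,
      Subgroup.map_map]
    congr 1
    ext z
    simp [mul_assoc]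
  · rw [hcoe]; exact Subgroup.map_mono hD

/-- Let p be a prime dividing the order of the finite group G, f an equivariant assignment of a set of subgroups f(P) of P to every p-subgroup P, each normalized by N_G(P), and S a Sylow p-subgroup. If G = G₁G₂ for subgroups G₁, G₂ both containing S and both regular for f (in each Gᵢ, the family of normalizers in Gᵢ of the members of f(P), P a Sylow p-subgroup of Gᵢ, controls Sylow p-intersections), then G itself is regular for f. -/
theorem result {G : Type*} [Group G] [Finite G] (p : ℕ) [Fact p.Prime] (hdiv : p ∣ Nat.card G)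
    (f : Subgroup G → Set (Subgroup G)) (hf : Cfsg.IsNormalizerFunctor p f) (S : Sylow p G)
    (G₁ G₂ : Subgroup G) (h₁ : (S : Subgroup G) ≤ G₁) (h₂ : (S : Subgroup G) ≤ G₂)
    (hprod : ∀ g : G, ∃ g₁ ∈ G₁, ∃ g₂ ∈ G₂, g = g₁ * g₂)
    (hr₁ : Cfsg.IsFunctorRegular p f G₁) (hr₂ : Cfsg.IsFunctorRegular p f G₂) :
    Cfsg.IsFunctorRegular p f ⊤ := by
  -- any two Sylow subgroups are linked
  have main : ∀ A B : Sylow p G, ∀ D : Subgroup G, D ≠ ⊥ → D ≤ (A : Subgroup G) →
      D ≤ (B : Subgroup G) → Relation.ReflTransGen (Step p f D) A B := by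
    intro A B D hD hDA hDB
    obtain ⟨u, rfl⟩ := MulAction.exists_smul_eq G S A
    obtain ⟨g, hg⟩ := MulAction.exists_smul_eq G S (u⁻¹ • B)
    obtain ⟨g₁, hg₁, g₂, hg₂, rfl⟩ := hprod g
    set D₀ := D.map (MulAut.conj u⁻¹).toMonoidHom with hD₀
    have hDS : D₀ ≤ (S : Subgroup G) := by
      rintro _ ⟨z, hz, rfl⟩
      have := hDA hz
      rw [Sylow.coe_subgroup_smul] at this
      obtain ⟨w, hw, rfl⟩ := this
      simp [MulAut.smul_def, mul_assoc]
      exact hw
    have hDT : D₀ ≤ (((g₁ * g₂) • S : Sylow p G) : Subgroup G) := by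
      rw [hg, Sylow.coe_subgroup_smul]
      rintro _ ⟨z, hz, rfl⟩
      exact ⟨z, hDB hz, rfl⟩
    have hsm : ∀ (H : Subgroup G) (k : G), k ∈ H → (S : Subgroup G) ≤ H →
        ((k • S : Sylow p G) : Subgroup G) ≤ H := by
      intro H k hk hle
      rw [Sylow.coe_subgroup_smul]
      rintro _ ⟨w, hw, rfl⟩
      exact mul_mem (mul_mem hk (hle hw)) (inv_mem hk)
    set E := D₀.map (MulAut.conj g₁⁻¹).toMonoidHom with hE
    have hE12 : E ≤ G₁ ⊓ G₂ := by
      refine le_inf ?_ ?_
      · rintro _ ⟨z, hz, rfl⟩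
        exact mul_mem (mul_mem (inv_mem hg₁) (h₁ (hDS hz))) (inv_mem (inv_mem hg₁))
      · rintro _ ⟨z, hz, rfl⟩
        have hz' := hDT hz
        rw [mul_smul, Sylow.coe_subgroup_smul] at hz'
        obtain ⟨w, hw, rfl⟩ := hz'
        have := hsm G₂ g₂ hg₂ h₂ hw
        simpa [MulAut.smul_def, mul_assoc] using this
    have hEp : IsPGroup p E := ((S.2.to_le hDS)).map _
    have hS12 : (S : Subgroup G) ≤ G₁ ⊓ G₂ := le_inf h₁ h₂
    obtain ⟨W, hW⟩ := (hEp.comap_subtype (K := G₁ ⊓ G₂)).exists_le_sylow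
    obtain ⟨⟨k, hk⟩, hkW⟩ := MulAction.exists_smul_eq ↥(G₁ ⊓ G₂) (S.subtype hS12) W
    have hEk : E ≤ ((k • S : Sylow p G) : Subgroup G) := by
      intro z hz
      have := hW (show (⟨z, hE12 hz⟩ : ↥(G₁ ⊓ G₂)) ∈ _ from hz)
      rw [← hkW, Sylow.coe_subgroup_smul] at this
      obtain ⟨w, hw, e⟩ := this
      rw [Sylow.coe_subgroup_smul]
      exact ⟨(w : G), hw, congrArg Subtype.val e⟩
    -- the intermediate Sylow subgroup
    have hD0R : D₀ ≤ (((g₁ * k) • S : Sylow p G) : Subgroup G) := by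
      intro z hz
      rw [mul_smul, Sylow.coe_subgroup_smul]
      exact ⟨g₁⁻¹ * z * g₁, hEk ⟨z, hz, by simp⟩, by simp [MulAut.smul_def, mul_assoc]⟩
    have hD0' : D₀ ≠ ⊥ := fun e => hD ((Subgroup.map_eq_bot_iff_of_injective _ (MulAut.conj u⁻¹).injective).mp e)
    have c1 : Relation.ReflTransGen (Step p f D₀) S ((g₁ * k) • S) :=
      lift hf S h₁ hr₁ hD0' S _ h₁ (hsm G₁ _ (mul_mem hg₁ hk.1) h₁) hDS hD0R
    have hE' : E ≠ ⊥ := fun e => hD0' ((Subgroup.map_eq_bot_iff_of_injective _ (MulAut.conj g₁⁻¹).injective).mp e)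
    have hEg₂ : E ≤ ((g₂ • S : Sylow p G) : Subgroup G) := by
      rintro _ ⟨z, hz, rfl⟩
      have hz' := hDT hz
      rw [mul_smul, Sylow.coe_subgroup_smul] at hz'
      obtain ⟨w, hw, rfl⟩ := hz'
      simp [MulAut.smul_def, mul_assoc]
      exact hw
    have c2 : Relation.ReflTransGen (Step p f E) (k • S) (g₂ • S) :=
      lift hf S h₂ hr₂ hE' _ _ (hsm G₂ _ hk.2 h₂) (hsm G₂ _ hg₂ h₂) hEk hEg₂
    have hEg : E.map (MulAut.conj g₁).toMonoidHom = D₀ := by
      rw [hE, Subgroup.map_map]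
      ext z
      simp [mul_assoc]
    have c3 : Relation.ReflTransGen (Step p f D₀) ((g₁ * k) • S) ((g₁ * g₂) • S) := by
      have := c2.lift (fun C => g₁ • C) (p := Step p f D₀) (fun a b hab => by
        have h' := step_conj hf g₁ hab
        rwa [hEg] at h')
      simp only [Function.onFun] at this
      rwa [← mul_smul, ← mul_smul] at this
    have hback : D₀.map (MulAut.conj u).toMonoidHom = D := by
      rw [hD₀, Subgroup.map_map]
      ext z
      simp [mul_assoc]
    have := (c1.trans c3).lift (fun C => u • C) (p := Step p f D) (fun a b hab => by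
      have h' := step_conj hf u hab
      rwa [hback] at h')
    simp only [Function.onFun] at this
    rwa [hg, smul_inv_smul] at this
  intro A B hne hnb
  have hcoe : ∀ C : Sylow p ↥(⊤ : Subgroup G), ∃ C' : Sylow p G,
      (C' : Subgroup G) = (C : Subgroup ↥(⊤ : Subgroup G)).map (⊤ : Subgroup G).subtype := by
    intro C
    obtain ⟨m, rfl⟩ := MulAction.exists_smul_eq ↥(⊤ : Subgroup G) (S.subtype le_top) C
    refine ⟨(m : G) • S, ?_⟩
    rw [Sylow.coe_subgroup_smul, Sylow.coe_subgroup_smul, Sylow.coe_subtype]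
    conv_lhs => rw [← map_subgroupOf_eq_of_le (le_top : (S : Subgroup G) ≤ ⊤)]
    ext z
    constructor
    · rintro ⟨_, ⟨w, hw, rfl⟩, rfl⟩
      exact ⟨_, ⟨w, hw, rfl⟩, rfl⟩
    · rintro ⟨_, ⟨w, hw, rfl⟩, rfl⟩
      exact ⟨_, ⟨w, hw, rfl⟩, rfl⟩
  choose up hup using hcoe
  set D := ((A : Subgroup ↥(⊤ : Subgroup G)) ⊓ (B : Subgroup ↥(⊤ : Subgroup G))) with hDdef
  set D' := D.map (⊤ : Subgroup G).subtype with hD'
  have h := main (up A) (up B) D'
    (fun e => hnb ((Subgroup.map_eq_bot_iff_of_injective _ (Subgroup.subtype_injective _)).mp e))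
    (by rw [hup]; exact Subgroup.map_mono inf_le_left) (by rw [hup]; exact Subgroup.map_mono inf_le_right)
  have hdown : ∀ C, (up C).subtype le_top = C := fun C => Sylow.ext (by
    rw [Sylow.coe_subtype, hup, subgroupOf,
      comap_map_eq_self_of_injective (Subgroup.subtype_injective _)])
  -- convert to a chain
  have conv : ∀ Cend : Sylow p G, Relation.ReflTransGen (Step p f D') (up A) Cend →
      ∃ (n : ℕ) (c : Fin (n + 1) → Sylow p G), c 0 = up A ∧ c (Fin.last n) = Cend ∧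
        ∀ i : Fin n, Step p f D' (c i.castSucc) (c i.succ) := by
    intro Cend hC
    induction hC with
    | refl => exact ⟨0, fun _ => up A, rfl, rfl, fun i => i.elim0⟩
    | tail _ hst ih =>
      obtain ⟨n, c, h0, hl, hs⟩ := ih
      refine ⟨n + 1, Fin.snoc c _, ?_, Fin.snoc_last _ _, fun i => ?_⟩
      · rw [← Fin.castSucc_zero, Fin.snoc_castSucc]; exact h0
      · induction i using Fin.lastCases with
        | last =>
          rw [Fin.snoc_castSucc, Fin.succ_last, Fin.snoc_last, hl]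
          exact hst
        | cast j =>
          rw [Fin.succ_castSucc, Fin.snoc_castSucc, Fin.snoc_castSucc]
          exact hs j
  obtain ⟨n, c, h0, hl, hs⟩ := conv _ h
  choose P F x hF hA hB hx hconj hD using hs
  refine ⟨n, fun i => (c i).subtype le_top, fun i => (normalizer (F i : Set G)).subgroupOf ⊤,
    fun i => ⟨x i, mem_top _⟩, by simp only [h0, hdown], by simp only [hl, hdown], fun i => ?_⟩
  have hmem : ∀ C : Sylow p G, (C : Subgroup G) ≤ normalizer (F i : Set G) →
      (normalizer (F i : Set G)).subgroupOf ⊤ ∈ Cfsg.sylowMembers p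
        ((fun X : Subgroup G => X.subgroupOf ⊤) '' Cfsg.functorFamily p f ⊤)
        ((C.subtype le_top : Sylow p ↥(⊤ : Subgroup G)) : Subgroup ↥(⊤ : Subgroup G)) := by
    intro C hC
    refine ⟨⟨normalizer (F i : Set G), ⟨(P i).subtype le_top, F i, ?_, ?_⟩, rfl⟩, ?_⟩
    · rw [Sylow.coe_subtype, map_subgroupOf_eq_of_le le_top]
      exact hF i
    · rw [top_inf_eq]
    · have hle : ((C.subtype le_top : Sylow p ↥(⊤ : Subgroup G)) : Subgroup ↥(⊤ : Subgroup G)) ≤
          (normalizer (F i : Set G)).subgroupOf ⊤ := fun z hz => hC hz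
      refine ⟨(C.subtype le_top).subtype hle, ?_⟩
      rw [Sylow.coe_subtype, map_subgroupOf_eq_of_le hle, inf_eq_left.mpr hle]
  refine ⟨hmem _ (hA i), hmem _ (hB i), hx i, ?_, ?_⟩
  · refine Subgroup.map_injective (Subgroup.subtype_injective _) ?_
    rw [Cfsg.subgroupConjRight, Sylow.coe_subtype, Sylow.coe_subtype, map_subgroupOf_eq_of_le le_top,
      ← hconj i, Cfsg.subgroupConjRight, Subgroup.map_map]
    ext z
    constructor
    · rintro ⟨w, hw, rfl⟩
      exact ⟨(w : G), hw, rfl⟩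
    · rintro ⟨w, hw, rfl⟩
      exact ⟨⟨w, mem_top _⟩, hw, rfl⟩
  · refine le_inf (fun z hz => hD i ⟨z, hz, rfl⟩) (fun z hz => hB i (hD i ⟨z, hz, rfl⟩))

end Cfsg.Agent.S2957
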