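import Cfsg.Statements.S2958


set_option autoImplicit false
open Cfsg

namespace Cfsg.Agent.S2958

/-- Let X, A, B be subgroups of a group G such that G is generated by the conjugates of X and every conjugate of X is contained in A or in B. Then A = G or B = G. -/
theorem result {G : Type*} [Group G] (X A B : Subgroup G) (hgen : (⨆ g : G, X.map (MulAut.conj g).toMonoidHom) = ⊤) (hcover : ∀ g : G, X.map (MulAut.conj g).toMonoidHom ≤ A ∨ X.map (MulAut.conj g).toMonoidHom ≤ B) : A = ⊤ ∨ B = ⊤ := by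
  classical
  let c : G → Subgroup G := fun g => X.map (MulAut.conj g).toMonoidHom
  have hcc : ∀ a g : G, (c g).map (MulAut.conj a).toMonoidHom = c (a * g) := fun a g => by
    show (X.map _).map _ = X.map _
    rw [Subgroup.map_map]
    congr 1
    ext x
    simp [mul_assoc]
  by_contra! hne
  let W : Subgroup G := ⨆ g : {g : G // ¬ c g ≤ A}, c g
  have hWB : W ≤ B := iSup_le fun g => (hcover g).resolve_left g.2
  have step : ∀ a : G, a ∈ A → ∀ y ∈ W, a * y * a⁻¹ ∈ W := by
    intro a ha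
    suffices h : W.map (MulAut.conj a).toMonoidHom ≤ W from fun y hy => h ⟨y, hy, rfl⟩
    rw [Subgroup.map_iSup]
    refine iSup_le fun g => ?_
    rw [hcc]
    refine le_iSup (fun g : {g : G // ¬ c g ≤ A} => c g) ⟨a * g, fun h => g.2 fun y hy => ?_⟩
    have h' : a * y * a⁻¹ ∈ A := h (by rw [← hcc]; exact ⟨y, hy, rfl⟩)
    simpa [mul_assoc] using mul_mem (mul_mem (inv_mem ha) h') ha
  have hWn : (⊤ : Subgroup G) ≤ Subgroup.normalizer (W : Set G) := by
    rw [← hgen]
    refine iSup_le fun g => ?_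
    by_cases hg : c g ≤ A
    · exact Subgroup.le_normalizer_iff.2 fun a ha y hy => step a (hg ha) y hy
    · exact (le_iSup (fun g : {g : G // ¬ c g ≤ A} => c g) ⟨g, hg⟩).trans Subgroup.le_normalizer
  obtain ⟨g₀, hg₀⟩ : ∃ g, ¬ c g ≤ A := by
    by_contra! hall
    exact hne.1 (eq_top_iff.2 (hgen ▸ iSup_le hall))
  refine hne.2 (eq_top_iff.2 (le_trans ?_ hWB))
  rw [← hgen]
  refine iSup_le fun g => ?_
  show c g ≤ W
  have h1 : c g = (c g₀).map (MulAut.conj (g * g₀⁻¹)).toMonoidHom := by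
    rw [hcc, inv_mul_cancel_right]
  rw [h1]
  refine le_trans (Subgroup.map_mono (le_iSup (fun g : {g : G // ¬ c g ≤ A} => c g) ⟨g₀, hg₀⟩)) ?_
  exact (Subgroup.mem_normalizer_iff_map_conj_eq.1 (hWn (Subgroup.mem_top _))).le

end Cfsg.Agent.S2958
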