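import Cfsg.Statements.S2963
import Mathlib.GroupTheory.PGroup
import Mathlib.GroupTheory.Sylow
import Mathlib.GroupTheory.Perm.Basic

set_option autoImplicit false
set_option linter.all false
open Cfsg

namespace Cfsg.Agent.S2963

open Equiv

theorem result (n : ℕ) (hn : Odd n) (h : Cfsg.IsPMinimal 2 (Equiv.Perm (Fin n))) :
    ∃ m : ℕ, n = 2 ^ m + 1 := by
  classical
  haveI := Fact.mk Nat.prime_two
  obtain ⟨S⟩ : Nonempty (Sylow 2 (Perm (Fin n))) := Sylow.nonempty
  obtain ⟨hnn, M, ⟨hM, hSM⟩, huniq⟩ := h S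
  -- every proper subgroup containing `S` lies in `M`
  have hle : ∀ K : Subgroup (Perm (Fin n)), K ≠ ⊤ → (S : Subgroup (Perm (Fin n))) ≤ K → K ≤ M := by
    intro K hK hSK
    obtain ⟨M', hM', hKM'⟩ := (eq_top_or_exists_le_coatom K).resolve_left hK
    rw [← huniq M' ⟨hM', hSK.trans hKM'⟩]
    exact hKM'
  obtain ⟨a, ha⟩ : (MulAction.fixedPoints ↥(S : Subgroup (Perm (Fin n))) (Fin n)).Nonempty :=
    S.2.nonempty_fixed_point_of_prime_not_dvd_card (Fin n) (by
      rw [Nat.card_fin]; exact fun h2 => Nat.not_even_iff_odd.mpr hn (even_iff_two_dvd.mpr h2))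
  have haS : ∀ s ∈ (S : Subgroup (Perm (Fin n))), s a = a := fun s hs => ha ⟨s, hs⟩
  -- there is no second fixed point
  have hone : ∀ b, (∀ s ∈ (S : Subgroup (Perm (Fin n))), s b = b) → b = a := by
    intro b hb
    by_contra hba
    have hcomm : (S : Subgroup (Perm (Fin n))) ≤ Subgroup.normalizer (Subgroup.zpowers (swap a b) : Set (Perm (Fin n))) := by
      intro s hs
      have hc : Commute s (swap a b) := by
        show s * swap a b = swap a b * s
        rw [Equiv.mul_swap_eq_swap_mul, haS s hs, hb s hs]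
      rw [Subgroup.mem_normalizer_iff]
      intro k
      constructor
      · intro hk
        obtain ⟨i, rfl⟩ := Subgroup.mem_zpowers_iff.mp hk
        rw [(hc.zpow_right i).eq, mul_inv_cancel_right]
        exact zpow_mem (Subgroup.mem_zpowers _) i
      · intro hk
        obtain ⟨i, hi⟩ := Subgroup.mem_zpowers_iff.mp hk
        have : k = swap a b ^ i := by
          refine mul_left_cancel (a := s) ?_
          rw [(hc.zpow_right i).eq, hi, inv_mul_cancel_right]
        rw [this]
        exact zpow_mem (Subgroup.mem_zpowers _) i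
    have hp : IsPGroup 2 ↥((S : Subgroup (Perm (Fin n))) ⊔ Subgroup.zpowers (swap a b)) := by
      refine S.2.to_sup_of_normal_right' ?_ hcomm
      refine IsPGroup.of_card (n := 1) ?_
      rw [Nat.card_zpowers, pow_one]
      exact orderOf_eq_prime (by rw [sq, swap_mul_self]) (fun h1 => hba (by
        have := congrArg (fun g : Perm (Fin n) => g a) h1
        simpa using this))
    have hsw : swap a b ∈ (S : Subgroup (Perm (Fin n))) :=
      (S.3 hp le_sup_left) ▸ (le_sup_right (a := (S : Subgroup (Perm (Fin n)))) (Subgroup.mem_zpowers _))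
    exact hba (by simpa using haS _ hsw)
  obtain ⟨b, hb⟩ : ∃ b, b ≠ a := by
    by_contra! hall
    haveI : Subsingleton (Fin n) := ⟨fun x y => (hall x).trans (hall y).symm⟩
    exact hnn ⟨fun k hk g => by rwa [Subsingleton.elim (g * k * g⁻¹) k]⟩
  set O : Set (Fin n) := MulAction.orbit ↥(S : Subgroup (Perm (Fin n))) b with hO
  have haO : a ∉ O := by
    rintro ⟨s, hs⟩
    apply hb
    have := (haS (s⁻¹ : ↥(S : Subgroup (Perm (Fin n)))) (s⁻¹).2)
    rw [← this, ← hs]
    show b = (↑s⁻¹ : Perm (Fin n)) ((s : Perm (Fin n)) b)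
    simp
  have hall : ∀ c, c ≠ a → c ∈ O := by
    intro c hca
    by_contra hcO
    let K : Subgroup (Perm (Fin n)) :=
      { carrier := {g | ∀ x, g x ∈ O ↔ x ∈ O}
        one_mem' := fun x => Iff.rfl
        mul_mem' := fun {g g'} hg hg' x => (hg _).trans (hg' x)
        inv_mem' := fun {g} hg x => by
          have := hg (g⁻¹ x)
          rw [Equiv.Perm.inv_def, Equiv.apply_symm_apply] at this
          rw [Equiv.Perm.inv_def]
          exact this.symm }
    have hK : K ≠ ⊤ := fun htop => by
      have : swap a b ∈ K := htop ▸ Subgroup.mem_top _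
      exact haO (by simpa using (this b).mpr (MulAction.mem_orbit_self b))
    have hSK : (S : Subgroup (Perm (Fin n))) ≤ K := fun s hs x => by
      constructor
      · intro hx
        have := MulAction.smul_orbit (⟨s, hs⟩⁻¹ : ↥(S : Subgroup (Perm (Fin n)))) b
        rw [← hO] at this
        rw [← this]
        refine ⟨s x, hx, ?_⟩
        show (↑(⟨s, hs⟩⁻¹ : ↥(S : Subgroup (Perm (Fin n)))) : Perm (Fin n)) (s x) = x
        simp
      · rintro ⟨t, rfl⟩
        exact ⟨⟨s, hs⟩ * t, rfl⟩
    have hswap : swap a c ∈ M := hle K hK hSK (fun x => by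
      rcases eq_or_ne x a with rfl | hxa
      · simp [haO, hcO]
      rcases eq_or_ne x c with rfl | hxc
      · simp [haO, hcO]
      rw [swap_apply_of_ne_of_ne hxa hxc])
    have hst : MulAction.stabilizer (Perm (Fin n)) a ≤ M := by
      refine hle _ (fun htop => ?_) (fun s hs => haS s hs)
      have : swap a b ∈ MulAction.stabilizer (Perm (Fin n)) a := htop ▸ Subgroup.mem_top _
      exact hb (by simpa using MulAction.mem_stabilizer_iff.mp this)
    refine hM.1 (eq_top_iff.mpr fun g _ => ?_)
    rcases eq_or_ne (g a) a with hga | hga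
    · exact hst hga
    have h1 : swap c (g a) ∈ M := hst (show swap c (g a) a = a from swap_apply_of_ne_of_ne hca.symm hga.symm)
    have h2 : (swap c (g a) * swap a c)⁻¹ * g ∈ M := hst (show ((swap c (g a) * swap a c)⁻¹ * g) a = a by
      rw [Perm.mul_apply, Perm.inv_eq_iff_eq, Perm.mul_apply, swap_apply_left, swap_apply_left])
    have := mul_mem (mul_mem h1 hswap) h2
    rwa [mul_inv_cancel_left] at this
  obtain ⟨m, hm⟩ := S.2.card_orbit b
  refine ⟨m, ?_⟩
  have hOeq : O = {a}ᶜ := Set.ext fun x => ⟨fun hx hxa => haO (Set.mem_singleton_iff.mp hxa ▸ hx), fun hx => hall x hx⟩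
  have hcard : Nat.card O = n - 1 := by
    rw [hOeq, Nat.card_coe_set_eq, Set.ncard_compl, Set.ncard_singleton, Nat.card_fin]
  have hn0 := hn.pos
  change Nat.card O = 2 ^ m at hm
  omega

end Cfsg.Agent.S2963
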