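import Cfsg.Statements.S2968
import Cfsg.Agent.Lib.CharP.Isolated

set_option autoImplicit false
open Cfsg

namespace Cfsg.Agent.S2968

/-- Let G be a finite group, p a prime, P a Sylow p-subgroup of G and x ∈ P an element of p-power order which is isolated in G (the only conjugate of x commuting with x is x itself). Then x lies in the centre of P, and the subgroup generated by x is both strongly closed and weakly closed in P with respect to G. -/
theorem result {G : Type*} [Group G] [Finite G] {p : ℕ} [Fact p.Prime] (P : Sylow p G) (x : G) (hxP : x ∈ (P : Subgroup G)) (hx : ∃ k : ℕ, orderOf x = p ^ k) (hiso : Cfsg.IsIsolated x) : x ∈ (P : Subgroup G) ⊓ Subgroup.centralizer ((P : Subgroup G) : Set G) ∧ Cfsg.IsStronglyClosed (Subgroup.zpowers x) (P : Subgroup G) ∧ Cfsg.IsWeaklyClosed (Subgroup.zpowers x) (P : Subgroup G) := by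
  classical
  have hcen : ∀ y ∈ (P : Subgroup G), y * x = x * y := fun y hy =>
    Cfsg.Agent.CharP.isolated_commute_of_pgroup hiso P.isPGroup' hxP hy
  have hstr : ∀ y ∈ Subgroup.zpowers x, ∀ g : G, g * y * g⁻¹ ∈ (P : Subgroup G) → g * y * g⁻¹ = y := by
    rintro _ ⟨k, rfl⟩ g hg
    set z := g * x ^ k * g⁻¹ with hz
    have hxz : x ∈ Subgroup.centralizer ({z} : Set G) :=
      Subgroup.mem_centralizer_singleton_iff.2 (hcen z hg).symm
    have hyz : g * x * g⁻¹ ∈ Subgroup.centralizer ({z} : Set G) :=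
      Subgroup.mem_centralizer_singleton_iff.2 (by
        rw [hz, ← conj_zpow]; exact (Commute.self_zpow _ k).eq)
    obtain ⟨m, hm, hmx⟩ := Cfsg.Agent.CharP.isolated_exists_conj (p := p) hiso hx hxz hyz
    have hmz : m * z * m⁻¹ = z := by
      rw [Subgroup.mem_centralizer_singleton_iff.1 hm, mul_inv_cancel_right]
    calc g * x ^ k * g⁻¹ = m * z * m⁻¹ := hmz.symm
      _ = (m * (g * x * g⁻¹) * m⁻¹) ^ k := by rw [hz, ← conj_zpow, ← conj_zpow]
      _ = x ^ k := by rw [hmx]
  refine ⟨⟨hxP, Subgroup.mem_centralizer_iff.2 fun y hy => hcen y hy⟩,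
    ⟨Subgroup.zpowers_le.2 hxP, fun y hy g hg => (hstr y hy g hg).symm ▸ hy⟩,
    Subgroup.zpowers_le.2 hxP, fun g hg => ?_⟩
  ext y
  constructor
  · rintro ⟨w, hw, rfl⟩
    have : g * w * g⁻¹ ∈ (P : Subgroup G) := hg ⟨w, hw, rfl⟩
    show g * w * g⁻¹ ∈ _
    rw [hstr w hw g this]
    exact hw
  · intro hy
    exact ⟨y, hy, hstr y hy g (hg ⟨y, hy, rfl⟩)⟩

end Cfsg.Agent.S2968
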