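import Cfsg.Statements.S2969
import Cfsg.Agent.Lib.CharP.Isolated

set_option autoImplicit false
open Cfsg

namespace Cfsg.Agent.S2969

/-- Let G be a finite group, p a prime and x ∈ G an element of p-power order which is isolated in G. If R is a p-subgroup of G containing x, then N_G(R) ≤ C_G(x); in particular x lies in the centre of R. Moreover, if x lies in a normal subgroup N of a subgroup H of G, then H = N·C_H(x). -/
theorem result {G : Type*} [Group G] [Finite G] {p : ℕ} [Fact p.Prime] (x : G) (hx : ∃ k : ℕ, orderOf x = p ^ k) (hiso : Cfsg.IsIsolated x) : (∀ R : Subgroup G, IsPGroup p ↥R → x ∈ R → Subgroup.normalizer (R : Set G) ≤ Subgroup.centralizer ({x} : Set G)) ∧ (∀ H N : Subgroup G, N ≤ H → H ≤ Subgroup.normalizer (N : Set G) → x ∈ N → N ⊔ (H ⊓ Subgroup.centralizer ({x} : Set G)) = H) := by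
  refine ⟨fun R hR hxR n hn => ?_, fun H N hNH hHN hxN => ?_⟩
  · have := Cfsg.Agent.CharP.isolated_eq_of_pgroup hiso hR hxR
      ((Subgroup.mem_normalizer_iff.1 hn x).1 hxR)
    exact Subgroup.mem_centralizer_singleton_iff.2 (mul_inv_eq_iff_eq_mul.1 this)
  · refine le_antisymm (sup_le hNH inf_le_left) fun h hh => ?_
    obtain ⟨m, hm, hmx⟩ := Cfsg.Agent.CharP.isolated_exists_conj (p := p) hiso hx hxN
      (Subgroup.le_normalizer_iff.1 hHN h hh x hxN)
    have hc : m * h ∈ H ⊓ Subgroup.centralizer ({x} : Set G) := by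
      refine ⟨mul_mem (hNH hm) hh, Subgroup.mem_centralizer_singleton_iff.2 ?_⟩
      have : m * h * x * (m * h)⁻¹ = x := by
        calc m * h * x * (m * h)⁻¹ = m * (h * x * h⁻¹) * m⁻¹ := by group
          _ = x := hmx
      exact mul_inv_eq_iff_eq_mul.1 this
    have e : h = m⁻¹ * (m * h) := by group
    rw [e]
    exact mul_mem ((le_sup_left : N ≤ N ⊔ _) (inv_mem hm)) ((le_sup_right : H ⊓ _ ≤ N ⊔ _) hc)

end Cfsg.Agent.S2969
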