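import Cfsg.Statements.S2970
import Cfsg.Agent.Lib.CharP.Isolated
import Cfsg.Agent.Lib.Coprime.Commutator
import Cfsg.Agent.Lib.Transfer.SmallSylow
import Cfsg.Agent.Lib.Transfer.NormalPComplement

set_option autoImplicit false
open Cfsg

namespace Cfsg.Agent.S2970

/-- Let G be a finite group, p a prime and x ∈ G an element of p-power order which is isolated in G. Then the image of x in any quotient G ⧸ N is isolated in G ⧸ N; and if x ≠ 1 and the Sylow p-subgroups of G are cyclic, then G has a normal p-complement. -/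
theorem result {G : Type*} [Group G] [Finite G] {p : ℕ} [Fact p.Prime] (x : G) (hx : ∃ k : ℕ, orderOf x = p ^ k) (hiso : Cfsg.IsIsolated x) : (∀ (N : Subgroup G) [N.Normal], Cfsg.IsIsolated (QuotientGroup.mk x : G ⧸ N)) ∧ (x ≠ 1 → (∀ P : Sylow p G, IsCyclic ↥(P : Subgroup G)) → Cfsg.HasNormalPComplement p G) := by
  refine ⟨fun N hN q hq => ?_, fun hx1 hcyc => ?_⟩
  · obtain ⟨g, rfl⟩ := QuotientGroup.mk_surjective q
    let π := QuotientGroup.mk' N
    let A := Subgroup.closure {π x, π (g * x * g⁻¹)}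
    have hA : ∀ a ∈ A, ∀ b ∈ A, a * b = b * a := by
      have := Subgroup.isMulCommutative_closure (k := {π x, π (g * x * g⁻¹)}) (by
        rintro a (rfl | rfl) b (rfl | rfl)
        exacts [rfl, hq.eq, hq.symm.eq, rfl])
      exact fun a ha b hb => congrArg Subtype.val (this.is_comm.comm ⟨a, ha⟩ ⟨b, hb⟩)
    obtain ⟨m, hm, hme⟩ := CharP.isolated_exists_conj hiso hx (M := A.comap π)
      (Subgroup.subset_closure (Or.inl rfl)) (g := g) (Subgroup.subset_closure (Or.inr rfl))
    have e : π x = π (g * x * g⁻¹) := by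
      conv_lhs => rw [← hme]
      rw [map_mul π (m * (g * x * g⁻¹)) m⁻¹, map_mul π m, map_inv,
        hA _ hm (π (g * x * g⁻¹)) (Subgroup.subset_closure (Or.inr rfl)), mul_inv_cancel_right]
    exact e.symm
  · obtain ⟨P, hP⟩ := (CharP.isPGroup_zpowers hx).exists_le_sylow
    have hxP : x ∈ (P : Subgroup G) := hP (Subgroup.mem_zpowers x)
    have hc := hcyc P
    have : IsMulCommutative ↥(P : Subgroup G) := ⟨⟨hc.commGroup.mul_comm⟩⟩
    refine Transfer.NormalPComplement.hasNormalPComplement_of_normalizer_le_centralizer P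
      (Transfer.SmallSylow.normalizer_le_centralizer_of_forall P fun g hg hcop => ?_)
    have hcop' : (Nat.card (Subgroup.zpowers g)).Coprime (Nat.card (P : Subgroup G)) := by
      obtain ⟨k, hk⟩ := IsPGroup.iff_card.1 P.2
      rw [Nat.card_zpowers, hk]
      exact hcop.pow_right k
    have hnorm : Subgroup.zpowers g ≤ Subgroup.normalizer ((P : Subgroup G) : Set G) :=
      Subgroup.zpowers_le.2 hg
    have hgx : g * x * g⁻¹ = x :=
      CharP.isolated_eq_of_pgroup hiso P.2 hxP ((Subgroup.mem_normalizer_iff.1 hg x).1 hxP)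
    set V := (P : Subgroup G)
    have hint := Coprime.inf_centralizer_inf_commutator hnorm hcop'
    have hVle : ⁅V, Subgroup.zpowers g⁆ ≤ V := Coprime.commutator_le_of_le_normalizer hnorm
    have hbot : ⁅V, Subgroup.zpowers g⁆ = ⊥ := by
      by_contra hne
      have key : ∀ K : Subgroup G, K ≤ V → K ≠ ⊥ → ∃ w ∈ K, orderOf w = p := by
        intro K hK hKne
        obtain ⟨k, hk⟩ := IsPGroup.iff_card.1 (P.2.to_le hK)
        have hk0 : k ≠ 0 := fun h => hKne (Subgroup.eq_bot_of_card_eq K (by rw [hk, h, pow_zero]))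
        obtain ⟨w, hw⟩ := exists_prime_orderOf_dvd_card' (G := K) p (hk ▸ dvd_pow_self p hk0)
        exact ⟨w, w.2, by rwa [Subgroup.orderOf_coe]⟩
      obtain ⟨a, ha, hao⟩ := key _ (inf_le_left : V ⊓ Subgroup.centralizer (Subgroup.zpowers g : Set G) ≤ V) (fun h => hx1 (by
        rw [← Subgroup.mem_bot, ← h]
        refine ⟨hxP, Subgroup.mem_centralizer_iff.2 ?_⟩
        rintro _ ⟨i, rfl⟩
        exact (Commute.zpow_left (show Commute g x from mul_inv_eq_iff_eq_mul.1 hgx) i).eq))
      obtain ⟨b, hb, hbo⟩ := key _ hVle hne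
      have hab : Subgroup.zpowers (⟨b, hVle hb⟩ : V) ≤ Subgroup.zpowers ⟨a, ha.1⟩ := by
        let c : CommGroup ↥V := hc.commGroup
        have hpV : p ∣ Nat.card ↥V := hao ▸ (Subgroup.orderOf_mk a ha.1) ▸ orderOf_dvd_natCard _
        have hK : Nat.card (powMonoidHom p : ↥V →* ↥V).ker = p := by
          rw [IsCyclic.card_powMonoidHom_ker, Nat.gcd_eq_right hpV]
        have hle : ∀ v : ↥V, orderOf v = p → Subgroup.zpowers v ≤ (powMonoidHom p : ↥V →* ↥V).ker := fun v hv => by
          rw [Subgroup.zpowers_le, MonoidHom.mem_ker, powMonoidHom_apply, ← hv, pow_orderOf_eq_one]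
        rw [Subgroup.eq_of_le_of_card_ge (hle ⟨a, ha.1⟩ (by rwa [Subgroup.orderOf_mk])) (by
          rw [hK, Nat.card_zpowers, Subgroup.orderOf_mk, hao])]
        exact hle _ (by rwa [Subgroup.orderOf_mk])
      have hba : b ∈ V ⊓ Subgroup.centralizer (Subgroup.zpowers g : Set G) := by
        obtain ⟨i, hi⟩ := Subgroup.mem_zpowers_iff.1 (hab (Subgroup.mem_zpowers (⟨b, hVle hb⟩ : V)))
        have hi' : a ^ i = b := by simpa using congrArg Subtype.val hi
        exact hi' ▸ Subgroup.zpow_mem _ ha i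
      have : b ∈ (⊥ : Subgroup G) := hint ▸ ⟨hba, hb⟩
      rw [Subgroup.mem_bot.1 this, orderOf_one] at hbo
      exact (Fact.out : p.Prime).ne_one hbo.symm
    exact Subgroup.commutator_eq_bot_iff_le_centralizer.1
      ((Subgroup.commutator_comm _ _).trans hbot) (Subgroup.mem_zpowers g)

end Cfsg.Agent.S2970
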