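import Cfsg.Statements.S2981
import Cfsg.Agent.Lib.PLocal.Natural.Ambient
import Cfsg.Agent.Lib.PLocal.Natural.Offenders
import Cfsg.Agent.Lib.PLocal.BlockLocation
import Cfsg.Agent.Lib.PLocal.Blocks.Offending
import Cfsg.Agent.Lib.CharP.Parabolic
import Cfsg.Agent.Lib.PLocal.ThompsonSubgroup

set_option autoImplicit false
open Cfsg

namespace Cfsg.Agent.S2981

open Cfsg.Lib.Offender Cfsg.Agent.FFNatural Cfsg.Agent.PLocal.ThompsonSubgroup
open scoped commutatorElement

theorem normal_inf_of_le {G : Type*} [Group G] [Finite G] {p : ℕ} [Fact p.Prime] (T : Sylow p G) {M : Subgroup G}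
    (hM : IsCoatom M) (huniq : ∀ X : Subgroup G, (T : Subgroup G) ≤ X → X ≠ ⊤ → X ≤ M)
    {K : Subgroup G} [K.Normal] (hK : K ≤ M) : ((T : Subgroup G) ⊓ K).Normal := by
  refine Subgroup.normalizer_eq_top_iff.1 ?_
  by_contra hne
  have hTN : (T : Subgroup G) ≤ Subgroup.normalizer (((T : Subgroup G) ⊓ K : Subgroup G) : Set G) := by
    intro t ht
    refine cg_eq_iff.1 (Subgroup.eq_of_le_of_card_ge ?_ (card_cg t _).ge)
    rintro _ ⟨x, hx, rfl⟩
    exact ⟨(T : Subgroup G).mul_mem ((T : Subgroup G).mul_mem ht hx.1) ((T : Subgroup G).inv_mem ht),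
      Subgroup.Normal.conj_mem inferInstance x hx.2 t⟩
  obtain ⟨T', hT'⟩ : CharP.IsSylIn p ((T : Subgroup G) ⊓ K) K :=
    (CharP.isSylIn_top_iff.2 ⟨T, rfl⟩).inf_normal le_top (by rw [Subgroup.normalizer_eq_top])
  have h := Sylow.normalizer_sup_eq_top T'
  rw [hT'] at h
  exact hM.1 (top_le_iff.1 (h.ge.trans (sup_le (huniq _ hTN hne) hK)))

/-- The local C**(G,T)-Theorem for minimal parabolic groups. Let G be a finite p-minimal group (a Sylow p-subgroup T is not normal and lies in exactly one maximal subgroup) of characteristic p (C_G(O_p(G)) ≤ O_p(G)), and suppose G ≠ C**(G,T), the subgroup generated by C_G(Ω₁(Z(T))) and N_G(J(T)) (J(T) generated by the elementary abelian p-subgroups of T of largest order). Put V = Ω₁(Z(O_p(G))) and C = C_G(V). Then there are subgroups E₁, …, E_r of G containing C such that: J(G)TC = G and the E_i C/C form an internal direct product equal to J(G)C/C; any two of the E_i are conjugate by an element of T;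 V = C_V(⟨E_i⟩)·∏[V, E_i] with [V, E_i, E_j] = 1 for i ≠ j; for some n ≥ 1, each E_i/C is isomorphic to SL₂(pⁿ), or p = 2 and to the symmetric group of degree 2ⁿ + 1; and E_i acts on [V, E_i]/C_{[V,E_i]}(E_i) as the natural two-dimensional SL₂(pⁿ)-module, respectively as the symmetric group of degree 2ⁿ+1 on its even-weight permutation module. -/
theorem result {G : Type*} [Group G] [Finite G] {p : ℕ} [Fact p.Prime] (hmin : Cfsg.IsPMinimal p G) (hG : Subgroup.centralizer (Cfsg.pCore p G : Set G) ≤ Cfsg.pCore p G) (T : Sylow p G) (hne : Cfsg.cStarStarOf p (T : Subgroup G) ≠ ⊤) : ∃ (r : ℕ) (E : Fin r → Subgroup G), (∀ i, Subgroup.centralizer (Cfsg.omegaOneCenter p (Cfsg.pCore p G) : Set G) ≤ E i) ∧ Cfsg.thompsonSubgroup p G ⊔ (T : Subgroup G) ⊔ Subgroup.centralizer (Cfsg.omegaOneCenter p (Cfsg.pCore p G) : Set G) = ⊤ ∧ (⨆ i, E i) = Cfsg.thompsonSubgroup p G ⊔ Subgroup.centralizer (Cfsg.omegaOneCenter p (Cfsg.pCore p G) : Set G) ∧ (∀ i j, i ≠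 j → ⁅E i, E j⁆ ≤ Subgroup.centralizer (Cfsg.omegaOneCenter p (Cfsg.pCore p G) : Set G)) ∧ (∀ i, E i ⊓ (⨆ j ∈ {j | j ≠ i}, E j) ≤ Subgroup.centralizer (Cfsg.omegaOneCenter p (Cfsg.pCore p G) : Set G)) ∧ (∀ i j, ∃ t ∈ (T : Subgroup G), (E i).map (MulAut.conj t).toMonoidHom = E j) ∧ (Cfsg.omegaOneCenter p (Cfsg.pCore p G) ⊓ Subgroup.centralizer ((⨆ i, E i : Subgroup G) : Set G)) ⊔ (⨆ i, ⁅Cfsg.omegaOneCenter p (Cfsg.pCore p G), E i⁆) = Cfsg.omegaOneCenter p (Cfsg.pCore p G) ∧ (∀ i j, i ≠ j → ⁅⁅Cfsg.omegaOneCenter p (Cfsg.pCore p G), E i⁆, E j⁆ = ⊥) ∧ ∀ i, ∃ n : ℕ, 1 ≤ n ∧ ((∃ (F : Type) (_ : Field F) (_ : Fintype F), Fintype.card F = p ^ n ∧ (∃ _ : ((Subgroup.centralizer (Cfsg.omegaOneCenter p (Cfsg.pCore p G) : Set G)).subgroupOf (E i)).Normal, Nonempty (↥(E i) ⧸ (Subgroup.centralizer (Cfsg.omegaOneCenter p (Cfsg.pCore p G) : Set G)).subgroupOf (E i) ≃* Matrix.SpecialLinearGroup (Fin 2) F)) ∧ Cfsg.ActsAsSL2OnSection F ⊤ (E i) ⁅Cfsg.omegaOneCenter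 p (Cfsg.pCore p G), E i⁆ (⁅Cfsg.omegaOneCenter p (Cfsg.pCore p G), E i⁆ ⊓ Subgroup.centralizer ((E i : Subgroup G) : Set G))) ∨ (p = 2 ∧ (∃ _ : ((Subgroup.centralizer (Cfsg.omegaOneCenter p (Cfsg.pCore p G) : Set G)).subgroupOf (E i)).Normal, Nonempty (↥(E i) ⧸ (Subgroup.centralizer (Cfsg.omegaOneCenter p (Cfsg.pCore p G) : Set G)).subgroupOf (E i) ≃* Equiv.Perm (Fin (2 ^ n + 1)))) ∧ Cfsg.ActsAsOddPermModuleOnSection (2 ^ n + 1) ⊤ (E i) ⁅Cfsg.omegaOneCenter p (Cfsg.pCore p G), E i⁆ (⁅Cfsg.omegaOneCenter p (Cfsg.pCore p G), E i⁆ ⊓ Subgroup.centralizer ((E i : Subgroup G) : Set G)))) := by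
  classical
  set Q := Cfsg.pCore p G with hQdef
  set V := Cfsg.omegaOneCenter p Q with hVdef
  set C := Subgroup.centralizer (V : Set G) with hCdef
  set ZT := Cfsg.omegaOneCenter p (T : Subgroup G) with hZT
  obtain ⟨hTn, M, ⟨hM, hTM⟩, huM⟩ := hmin T
  have hQn : Q.Normal := Subgroup.sSup_normal _ (fun _ h => h.1)
  have hQp : IsPGroup p Q := Sylow.sSup_of_normal _ (fun _ h => h.2) (fun _ h => h.1)
  have hQT : Q ≤ T := hQp.le_sylow_of_normal T
  have hVQ : V ≤ Q := PLocal.BlockModule.omegaCenter_le Q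
  have hVn : V.Normal := Subgroup.normalizer_eq_top_iff.1 (top_le_iff.1
    ((Subgroup.normalizer_eq_top (H := Q)).ge.trans (PLocal.BlockModule.le_normalizer_omegaCenter (p := p) Q)))
  have hVel : Cfsg.IsElementaryAbelian p V := isElementaryAbelian_iff.2
    ⟨fun a ha b hb => PLocal.BlockLocation.omegaCenter_comm _ ha hb,
      fun a ha => PLocal.BlockLocation.pow_eq_one_of_mem_omegaCenter _ ha⟩
  have hCn : C.Normal := ⟨fun c hc g v hv => by
    have h1 := hc (g⁻¹ * v * g) (by simpa using hVn.conj_mem v hv g⁻¹)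
    calc v * (g * c * g⁻¹) = g * ((g⁻¹ * v * g) * c) * g⁻¹ := by group
      _ = g * (c * (g⁻¹ * v * g)) * g⁻¹ := by rw [h1]
      _ = _ := by group⟩
  have hle_M : ∀ X : Subgroup G, (T : Subgroup G) ≤ X → X ≠ ⊤ → X ≤ M := by
    intro X hTX hX
    obtain ⟨Y, hY, hle⟩ := (eq_top_or_exists_le_coatom X).resolve_left hX
    rwa [huM Y ⟨hY, hTX.trans hle⟩] at hle
  -- the centre of the Sylow subgroup lies in `V`
  have hZV : ZT ≤ V := by
    rw [hZT, Cfsg.omegaOneCenter, Cfsg.omegaOne, Subgroup.closure_le]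
    rintro x ⟨⟨hxT, hxc⟩, hxp⟩
    have hxQ : x ∈ Subgroup.centralizer (Q : Set G) := fun y hy => hxc y (hQT hy)
    exact Subgroup.subset_closure ⟨⟨hG hxQ, hxQ⟩, hxp⟩
  have hCZ : Subgroup.centralizer (ZT : Set G) ≠ ⊤ := fun e =>
    hne (top_le_iff.1 (e.ge.trans le_sup_left))
  have hTZ : (T : Subgroup G) ≤ Subgroup.centralizer (ZT : Set G) := by
    rw [Subgroup.le_centralizer_iff]
    exact PLocal.BlockModule.omegaCenter_le_centralizer (p := p) (T : Subgroup G)
  have hCM : C ≤ M := (Subgroup.centralizer_le hZV).trans (hle_M _ hTZ hCZ)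
  -- the linear group
  have : IsMulCommutative ↥V := hVel.1
  letI : CommGroup ↥V := { (inferInstance : Group ↥V) with mul_comm := fun a b => hVel.1.1.comm a b }
  have hexp : ∀ v : ↥V, v ^ p = 1 := fun v => Subtype.ext (by rw [Subgroup.coe_pow]; exact hVel.2 _ v.2)
  letI : Module (ZMod p) (Additive ↥V) := AddCommGroup.zmodModule (n := p) (G := Additive ↥V)
    (fun v => congrArg Additive.ofMul (hexp v.toMul))
  let θ : G ⧸ C →* MulAut ↥V := QuotientGroup.lift C (MulAut.conjNormal : G →* MulAut ↥V) fun c hc =>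
    MonoidHom.mem_ker.2 (MulEquiv.ext fun v => Subtype.ext (by
      rw [MulAut.conjNormal_apply, ← hc (v : G) v.2, mul_inv_cancel_right]; rfl))
  let f : Representation (ZMod p) (G ⧸ C) (Additive ↥V) := actRep θ
  let π : ↥(⊤ : Subgroup G) →* G ⧸ C := (QuotientGroup.mk' C).comp (⊤ : Subgroup G).subtype
  have hπ₀ : Function.Surjective (QuotientGroup.mk' C) := QuotientGroup.mk'_surjective C
  have hA : Amb V ⊤ f π (fun w : Additive ↥V => (w.toMul : G)) :=
    { norm := by rw [Subgroup.normalizer_eq_top]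
      mem := fun w => w.toMul.2
      onto := fun x hx => ⟨Additive.ofMul ⟨x, hx⟩, rfl⟩
      inj := fun u w e => Additive.toMul.injective (Subtype.ext e)
      add := fun u w => rfl
      conj := fun h w => rfl
      surj := fun x => by
        obtain ⟨g, rfl⟩ := hπ₀ x
        exact ⟨⟨g, trivial⟩, rfl⟩ }
  have hker : π.ker.map (⊤ : Subgroup G).subtype = C := by
    refine le_antisymm ?_ fun c hc => ⟨⟨c, trivial⟩, (QuotientGroup.eq_one_iff c).2 hc, rfl⟩
    rintro _ ⟨x, hx, rfl⟩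
    exact (QuotientGroup.eq_one_iff _).1 hx
  let Tb : Sylow p (G ⧸ C) := T.mapSurjective hπ₀
  have hTb : (Tb : Subgroup (G ⧸ C)) = (T : Subgroup G).map (QuotientGroup.mk' C) := rfl
  set Mb := M.map (QuotientGroup.mk' C) with hMb
  have hcM : Mb.comap (QuotientGroup.mk' C) = M := by
    rw [hMb, Subgroup.comap_map_eq, QuotientGroup.ker_mk', sup_eq_left.2 hCM]
  have hMbc : IsCoatom Mb := by
    refine ⟨fun e => hM.1 (by rw [← hcM, e, Subgroup.comap_top]), fun Y hY => ?_⟩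
    have h1 : M < Y.comap (QuotientGroup.mk' C) := by
      rw [← hcM]
      refine lt_of_le_of_ne (Subgroup.comap_mono hY.le) fun e => hY.ne ?_
      exact Subgroup.comap_injective hπ₀ e
    rw [← Subgroup.map_comap_eq_self_of_surjective hπ₀ Y, hM.2 _ h1, ← MonoidHom.range_eq_map,
      MonoidHom.range_eq_top.2 hπ₀]
  have hinj : ∀ g, f g = 1 → g = 1 := by
    intro g hg
    obtain ⟨g, rfl⟩ := hπ₀ g
    refine (QuotientGroup.eq_one_iff g).2 fun v hv => ?_
    have h2 := hA.conj ⟨g, trivial⟩ (Additive.ofMul ⟨v, hv⟩)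
    rw [show π ⟨g, trivial⟩ = QuotientGroup.mk' C g from rfl, hg] at h2
    exact eq_mul_inv_iff_mul_eq.1 h2
  have hfixcard : ∀ A : Subgroup G, Nat.card ↥(fixed f (A.map (QuotientGroup.mk' C))) =
      Nat.card ↥(V ⊓ Subgroup.centralizer (A : Set G)) := fun A => by
    have hiff : ∀ w : Additive ↥V, w ∈ fixed f (A.map (QuotientGroup.mk' C)) ↔
        (w.toMul : G) ∈ Subgroup.centralizer (A : Set G) := fun w => by
      constructor
      · intro h a ha
        have h1 := hA.conj ⟨a, trivial⟩ w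
        rw [show π ⟨a, trivial⟩ = QuotientGroup.mk' C a from rfl, h _ ⟨a, ha, rfl⟩] at h1
        exact (eq_mul_inv_iff_mul_eq.1 h1).symm
      · rintro h _ ⟨a, ha, rfl⟩
        refine hA.inj ?_
        show ((f (π ⟨a, trivial⟩) w).toMul : G) = _
        rw [hA.conj, mul_inv_eq_iff_eq_mul]
        exact h a ha
    exact Nat.card_congr
      { toFun := fun w => ⟨(w.1.toMul : G), w.1.toMul.2, (hiff w.1).1 w.2⟩
        invFun := fun v => ⟨Additive.ofMul ⟨v.1, v.2.1⟩, (hiff _).2 v.2.2⟩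
        left_inv := fun w => rfl
        right_inv := fun v => rfl }
  have hoff : ∀ A ∈ Cfsg.maxElementaryAbelianSubgroups p G, ¬ A ≤ C → IsOff f (A.map (QuotientGroup.mk' C)) := by
    intro A hAmax hAC
    obtain ⟨hab, hexpA⟩ := isElementaryAbelian_iff.1 hAmax.1
    refine ⟨fun e => hAC ?_, ?_, ?_, ?_⟩
    · rw [Subgroup.map_eq_bot_iff, QuotientGroup.ker_mk'] at e
      exact e
    · rintro _ ⟨a, ha, rfl⟩ _ ⟨b, hb, rfl⟩
      rw [← map_mul, hab a ha b hb, map_mul]
    · rintro _ ⟨a, ha, rfl⟩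
      rw [← map_pow, hexpA a ha, map_one]
    · have h1 := PLocal.Blocks.relIndex_le_of_max hAmax hVel
      have h2 := PLocal.Blocks.relIndex_mul_card_inf (Subgroup.centralizer (A : Set G)) V
      have h3 : Nat.card ↥(A.map (QuotientGroup.mk' C)) = C.relIndex A := by
        have hr : ((QuotientGroup.mk' C).comp A.subtype).range = A.map (QuotientGroup.mk' C) := by
          rw [MonoidHom.range_comp, Subgroup.range_subtype]
        rw [← hr, ← Subgroup.index_ker, ← MonoidHom.comap_ker, QuotientGroup.ker_mk']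
        rfl
      rw [hfixcard, h3, Nat.card_congr Additive.toMul, ← h2]
      exact Nat.mul_le_mul_right _ h1
  have hcore : ∀ N : Subgroup (G ⧸ C), N.Normal → IsPGroup p N → N = ⊥ := by
    intro N hN hNp
    set D := N.comap (QuotientGroup.mk' C) with hD
    have hDM : D ≤ M := by
      have h1 : D ≤ C ⊔ (T : Subgroup G) := by
        refine (Subgroup.comap_mono (hTb ▸ hNp.le_sylow_of_normal Tb : N ≤ (T : Subgroup G).map (QuotientGroup.mk' C))).trans ?_
        rw [Subgroup.comap_map_eq, QuotientGroup.ker_mk', sup_comm]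
      exact h1.trans (sup_le hCM hTM)
    have hTD := normal_inf_of_le T hM hle_M hDM
    have hle : (T : Subgroup G) ⊓ D ≤ C := by
      have h1 : (T : Subgroup G) ⊓ D ≤ Q := le_sSup ⟨hTD, T.isPGroup'.to_le inf_le_left⟩
      refine h1.trans fun x hx v hv => ?_
      exact (PLocal.BlockModule.omegaCenter_le_centralizer (p := p) Q hv x hx).symm
    obtain ⟨T', hT'⟩ : CharP.IsSylIn p ((T : Subgroup G) ⊓ D) D :=
      (CharP.isSylIn_top_iff.2 ⟨T, rfl⟩).inf_normal le_top (by rw [Subgroup.normalizer_eq_top])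
    have hnd : ¬ p ∣ ((T : Subgroup G) ⊓ D).relIndex D := by
      have h1 : ((T : Subgroup G) ⊓ D).subgroupOf D = (T' : Subgroup ↥D) := by
        rw [← hT', Subgroup.subgroupOf, Subgroup.comap_map_eq_self_of_injective D.subtype_injective]
      rw [Subgroup.relIndex, h1]
      exact T'.not_dvd_index
    have h3 : Nat.card ↥N = C.relIndex D := by
      have hr : ((QuotientGroup.mk' C).comp D.subtype).range = N := by
        rw [MonoidHom.range_comp, Subgroup.range_subtype, hD, Subgroup.map_comap_eq_self_of_surjective hπ₀]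
      rw [← hr, ← Subgroup.index_ker, ← MonoidHom.comap_ker, QuotientGroup.ker_mk']
      rfl
    obtain ⟨k, hk⟩ := IsPGroup.iff_card.1 hNp
    refine Subgroup.eq_bot_of_card_eq N ?_
    rcases k with _ | k
    · simpa using hk
    · exact absurd ((dvd_pow_self p (Nat.succ_ne_zero k)).trans (hk.symm.trans h3 ▸ Subgroup.relIndex_dvd_of_le_left D hle)) hnd
  -- a maximal elementary abelian subgroup outside `C`
  obtain ⟨A₀, hA₀, hA₀T, hA₀C⟩ : ∃ A ∈ Cfsg.maxElementaryAbelianSubgroups p G, A ≤ (T : Subgroup G) ∧ ¬ A ≤ C := by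
    obtain ⟨A, hAmax⟩ := exists_maxElementaryAbelian (p := p) (G := G)
    obtain ⟨S, hS⟩ := (IsElementaryAbelian.isPGroup hAmax.1).exists_le_sylow
    obtain ⟨g, hg⟩ := MulAction.exists_smul_eq G S T
    have hAT : A.map (MulAut.conj g).toMonoidHom ≤ (T : Subgroup G) := by
      rw [← hg, Sylow.coe_subgroup_smul]; exact Subgroup.map_mono hS
    have hmax' := mem_maxElementaryAbelian_map_equiv (MulAut.conj g) hAmax
    by_contra hall
    push Not at hall
    have hJC : Cfsg.thompsonSubgroupOf p (T : Subgroup G) ≤ (T : Subgroup G) ⊓ C := by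
      refine le_inf (thompsonSubgroupOf_le _) ?_
      rw [Cfsg.thompsonSubgroupOf, Cfsg.thompsonSubgroup, (Subgroup.gc_map_comap _).l_sSup]
      exact iSup₂_le fun B hB => hall _ (map_mem_maxElementaryAbelian hmax' hAT hB) (Subgroup.map_subtype_le B)
    have hJ := thompsonSubgroupOf_eq_of_le_of_le hJC inf_le_left
    have hn := normalizer_le_normalizer_thompsonSubgroupOf (p := p) ((T : Subgroup G) ⊓ C)
    have := normal_inf_of_le T hM hle_M hCM
    rw [hJ, Subgroup.normalizer_eq_top] at hn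
    exact hne (top_le_iff.1 (hn.trans le_sup_right))
  obtain ⟨q, F⟩ := exists_frame (f := f) (T := Tb) (M := Mb) hinj hMbc
    (hTb ▸ Subgroup.map_mono hTM)
    (fun K hK hTK => by
      have h1 : (T : Subgroup G) ≤ K.comap (QuotientGroup.mk' C) := Subgroup.map_le_iff_le_comap.1 (hTb ▸ hTK)
      have h2 : K.comap (QuotientGroup.mk' C) ≠ ⊤ := fun e =>
        hK.1 (Subgroup.comap_injective hπ₀ (e.trans (Subgroup.comap_top _).symm))
      have h3 : K ≤ Mb := by
        rw [← Subgroup.map_comap_eq_self_of_surjective hπ₀ K]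
        exact Subgroup.map_mono (hle_M _ h1 h2)
      exact ((hK.le_iff.1 h3).resolve_left hMbc.1).symm)
    hcore
    (fun hle => hCZ (top_le_iff.1 fun g _ v hv => by
      have hvT : v ∈ Subgroup.centralizer ((T : Subgroup G) : Set G) :=
        PLocal.BlockModule.omegaCenter_le_centralizer (p := p) (T : Subgroup G) hv
      have hw : Additive.ofMul (⟨v, hZV hv⟩ : ↥V) ∈ fixed f (Tb : Subgroup (G ⧸ C)) := by
        rintro _ ⟨t, ht, rfl⟩
        refine hA.inj ?_
        show ((f (π ⟨t, trivial⟩) _).toMul : G) = _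
        rw [hA.conj, mul_inv_eq_iff_eq_mul]
        exact hvT t ht
      have h1 := hle hw (π ⟨g, trivial⟩) trivial
      have h2 := hA.conj ⟨g, trivial⟩ (Additive.ofMul (⟨v, hZV hv⟩ : ↥V))
      rw [h1] at h2
      exact eq_mul_inv_iff_mul_eq.1 h2))
    ⟨_, hoff A₀ hA₀ hA₀C⟩
  have hS : IsSyl (Tb : Subgroup (G ⧸ C)) (Tb : Subgroup (G ⧸ C)) := ⟨1, cg_one _⟩
  obtain ⟨r, E, hr, D, hsup⟩ := F.decomp hS
  have D' : Decomp f (((T : Subgroup G).subgroupOf ⊤).map π) E := by
    have e : ((T : Subgroup G).subgroupOf ⊤).map π = (Tb : Subgroup (G ⧸ C)) := by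
      rw [hTb, ← Subgroup.map_map, Subgroup.map_subgroupOf_eq_of_le le_top]
    rwa [e]
  have hTtop : ((T : Subgroup G).subgroupOf ⊤).map (⊤ : Subgroup G).subtype = (T : Subgroup G) :=
    Subgroup.map_subgroupOf_eq_of_le le_top
  have : Nonempty (Fin r) := ⟨⟨0, hr⟩⟩
  -- the blocks generate the image of the Thompson subgroup
  set N := ⨆ i, E i with hNdef
  have hNn : N.Normal := D.normal
  set J := Cfsg.thompsonSubgroup p G with hJdef
  have hJn : J.Normal := ⟨fun x hx g => by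
    have := (map_thompsonSubgroup_equiv (p := p) (MulAut.conj g : G ≃* G)).le ⟨x, hx, rfl⟩
    simpa using this⟩
  have hgenN : genJoin f q (Tb : Subgroup (G ⧸ C)) ≤ N := iSup_le fun A =>
    hsup ▸ le_iSup_of_le A (F.block_spec hS A.2.1 A.2.2).1.le
  have hJN : J.map (QuotientGroup.mk' C) = N := by
    refine le_antisymm ?_ ?_
    · rw [hJdef, Cfsg.thompsonSubgroup, (Subgroup.gc_map_comap _).l_sSup]
      refine iSup₂_le fun A hAmax => ?_
      by_cases hAC : A ≤ C
      · exact ((Subgroup.map_eq_bot_iff A).2 (by rwa [QuotientGroup.ker_mk'])).le.trans bot_le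
      obtain ⟨S, K, hS', -, hle, -⟩ := F.exists_syl (hoff A hAmax hAC).isPGroup
      obtain ⟨g, rfl⟩ := hS'
      have h1 : cg g⁻¹ (A.map (QuotientGroup.mk' C)) ≤ (Tb : Subgroup (G ⧸ C)) :=
        (cg_mono hle g⁻¹).trans (cg_inv g _).le
      have h2 := ((F.offender_spec hS ((hoff A hAmax hAC).conj g⁻¹) h1).1).trans hgenN
      intro x hx
      have h3 := hNn.conj_mem _ (h2 ⟨x, hx, rfl⟩) g
      simpa [mul_assoc] using h3
    · have hA₀T' : A₀.map (QuotientGroup.mk' C) ≤ (Tb : Subgroup (G ⧸ C)) := hTb ▸ Subgroup.map_mono hA₀T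
      obtain ⟨A₁, hA₁, hA₁le⟩ := (F.offender_spec hS (hoff A₀ hA₀ hA₀C) hA₀T').2.1
      rw [hsup]
      exact F.blocks_le hS (Subgroup.Normal.map hJn _ hπ₀) hA₁ (hA₁le.trans hA₀T')
        (hA₁le.trans (Subgroup.map_mono (le_thompsonSubgroup hA₀)))
  have hlift : (⨆ i, lift π (E i)) = J ⊔ C := by
    have h1 : ∀ X : Subgroup (G ⧸ C), lift π X = X.comap (QuotientGroup.mk' C) := fun X => by
      refine le_antisymm ?_ fun x hx => ⟨⟨x, trivial⟩, hx, rfl⟩
      rintro _ ⟨x, hx, rfl⟩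
      exact hx
    rw [hA.lift_iSup, h1, ← hNdef, ← hJN, Subgroup.comap_map_eq, QuotientGroup.ker_mk']
  refine ⟨r, fun i => lift π (E i), fun i => ?_, ?_, hlift, fun i j h => (hA.block_comm D' i j h).trans hker.le,
    fun i => (hA.block_inter D' i).trans hker.le, fun i j => (by have h := hA.block_trans D' i j; rwa [hTtop] at h), hA.block_cover D',
    fun i j h => hA.block_orth D' i j h, fun i => ?_⟩
  · intro c hc
    exact ⟨⟨c, trivial⟩, show π ⟨c, trivial⟩ ∈ E i by
      rw [show π ⟨c, trivial⟩ = 1 from (QuotientGroup.eq_one_iff c).2 hc]; exact one_mem _, rfl⟩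
  · have h1 := hA.block_top D'
    rw [hlift, hTtop] at h1
    rw [sup_right_comm]
    exact h1
  obtain ⟨n, hn, ⟨K, iK, iKt, hK, ⟨ρ, hρ, hρk⟩, hact⟩ | ⟨hp, ⟨ρ, hρ, hρk⟩, hact⟩⟩ := hA.model (D.model i)
  all_goals rw [hker] at hρk
  · have hnor : (C.subgroupOf (lift π (E i))).Normal := hρk ▸ ρ.normal_ker
    exact ⟨n, hn, Or.inl ⟨K, iK, iKt, hK, ⟨hnor, ⟨(QuotientGroup.quotientMulEquivOfEq hρk.symm).trans
      (QuotientGroup.quotientKerEquivOfSurjective ρ hρ)⟩⟩, hact⟩⟩
  · have hnor : (C.subgroupOf (lift π (E i))).Normal := hρk ▸ ρ.normal_ker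
    exact ⟨n, hn, Or.inr ⟨hp, ⟨hnor, ⟨(QuotientGroup.quotientMulEquivOfEq hρk.symm).trans
      (QuotientGroup.quotientKerEquivOfSurjective ρ hρ)⟩⟩, hact⟩⟩

end Cfsg.Agent.S2981
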