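import Cfsg.Statements.S2989
import Cfsg.Agent.Lib.CharP.PushingUpMCL

set_option autoImplicit false
open Cfsg

namespace Cfsg.Agent.S2989

/-- Let G be a finite group and S a Sylow p-subgroup of G in the basic pushing-up situation (G ≠ 1, C_G(O_p(G)) ≤ O_p(G), S lies in a unique maximal subgroup of G, and some quotient of G is isomorphic to PSL₂ over a field of order a power of p), and suppose that S centralizes Z(J(S)), where J(S) is generated by the abelian subgroups of S of largest order (that is, J̃(S) = C_S(Z(J(S))) = S). Call a subgroup R of S centrally large if |R|·|Z(R)| is as large as possible among subgroups of S, and let S_Φ be the subgroup generated by the Frattini subgroups Φ(Q) of those minimal centrally large subgroups Q of S whose Ω₁(Z(Q)) has the largest order among minimal centrally large subgroups. Then Z(S) or S_Φ is normal in G; and if S_Φ = 1, the minimal centrally large subgroups of S are exactly the abelian subgroups of S of largest order, and at least one of them is elementary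 abelian. -/
theorem result {G : Type*} [Group G] [Finite G] {p : ℕ} [Fact p.Prime] (S : Subgroup G) (hE : Cfsg.IsPushingUpSituation p S) (hJ : S ≤ Subgroup.centralizer (Cfsg.centerThompsonAOf S : Set G)) : ((S ⊓ Subgroup.centralizer (S : Set G)).Normal ∨ ((Cfsg.frattiniOfMinimalCLJoin p ↥S).map S.subtype).Normal) ∧ (Cfsg.frattiniOfMinimalCLJoin p ↥S = ⊥ → (∀ Q : Subgroup ↥S, Cfsg.IsMinimalCentrallyLarge Q ↔ Q ∈ Cfsg.maxAbelianSubgroups ↥S) ∧ ∃ A ∈ Cfsg.maxAbelianSubgroups ↥S, Cfsg.IsElementaryAbelian p A) := by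
  open Cfsg.Agent.CharP in
  have hS := PushingUpMCL.isPGroup hE
  constructor
  · obtain ⟨hZP, hPS⟩ := PushingUpCL.center_le_pCore hE
    rcases PushingUpCL.dichotomy hE with hz | ⟨-, hoff⟩
    · exact Or.inl (PushingUpMCL.normal_of_central hz)
    right
    obtain ⟨hVP, hPV, hVp⟩ := PushingUpMCL.subgroupOf_le_centralizer (G := G) (p := p) (S := S)
    refine PushingUpMCL.normal_of_forall_conj (D := (Cfsg.frattiniOfMinimalCLJoin p ↥S).map S.subtype)
      (A := fun Q : {Q : Subgroup S // Cfsg.IsMinimalCentrallyLarge Q ∧ Nat.card ↥(Cfsg.omegaOneCenter p Q) =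
        Cfsg.maxOmegaCenterOfMinimalCL p ↥S} => ((frattini ↥Q.1).map Q.1.subtype).map S.subtype) ?_ ?_
    · rw [Cfsg.frattiniOfMinimalCLJoin, Subgroup.map_iSup]
    · rintro ⟨Q, hQ, hQm⟩ g
      obtain ⟨X, hXP, hX, hXm, hle⟩ := PushingUpMCL.exchange_member hS hVP hPV hVp
        (PushingUpMCL.hoff_subgroupOf hE hoff) hQ hQm
      obtain ⟨X', hX', he, hcard⟩ := PushingUpMCL.exists_conj hE hX hXP g
      refine (Subgroup.map_mono (Subgroup.map_mono hle)).trans ?_
      rw [Subgroup.map_map, PushingUpMCL.frattini_map_eq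
        (f := (MulAut.conj g).toMonoidHom.comp S.subtype)
        ((MulAut.conj g).injective.comp S.subtype_injective), ← he,
        ← PushingUpMCL.frattini_map_eq S.subtype_injective]
      exact Subgroup.map_mono (le_iSup (fun R : {Q : Subgroup S // Cfsg.IsMinimalCentrallyLarge Q ∧
        Nat.card ↥(Cfsg.omegaOneCenter p Q) = Cfsg.maxOmegaCenterOfMinimalCL p ↥S} =>
          (frattini ↥R.1).map R.1.subtype) ⟨X', hX', hcard.trans hXm⟩)
  · intro h
    obtain ⟨Q, hQ, hQm⟩ := PushingUpMCL.exists_maxOmega ↥S p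
    have hf : frattini ↥Q = ⊥ := (Subgroup.map_eq_bot_iff_of_injective _ Q.subtype_injective).1
      (le_bot_iff.1 (h ▸ le_iSup (fun R : {Q : Subgroup S // Cfsg.IsMinimalCentrallyLarge Q ∧
        Nat.card ↥(Cfsg.omegaOneCenter p Q) = Cfsg.maxOmegaCenterOfMinimalCL p ↥S} =>
          (frattini ↥R.1).map R.1.subtype) ⟨Q, hQ, hQm⟩))
    haveI := (hS.to_subgroup Q).isNilpotent
    have hab : IsMulCommutative ↥Q := by
      have hc : commutator ↥Q = ⊥ := le_bot_iff.1 (hf ▸ Coprime.commutator_le_frattini ↥Q)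
      rw [← Subgroup.commutator_self_eq_bot_iff, ← Subgroup.map_subtype_commutator, hc, Subgroup.map_bot]
    have hiff := (S3007.result ↥S hS Q Q hQ hQ).2.2.2.2 hab
    refine ⟨hiff, Q, (hiff Q).1 hQ, hab, fun a ha => ?_⟩
    have h1 := Cfsg.Agent.Solvable.Basics.pow_mem_frattini (hS.to_subgroup Q) (⟨a, ha⟩ : Q)
    rw [hf, Subgroup.mem_bot] at h1
    exact congrArg Subtype.val h1

end Cfsg.Agent.S2989
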