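import Cfsg.Statements.S2988
import Cfsg.Agent.GenA.GN.Main
import Cfsg.Agent.S2989

set_option autoImplicit false
universe u
open scoped Pointwise
open Cfsg

namespace Cfsg.Agent.S2988

/-- Let p be a prime and S a nontrivial finite p-group. Write J(S) for the subgroup generated by the abelian subgroups of S of largest order (the large abelian subgroups) and J̃(S) = C_S(Z(J(S))). Unless S satisfies all of the following conditions — S is non-abelian; J(S) = S; Z(S) and Φ(S) are elementary abelian; Φ(S) ≤ Z(S) if p = 2, Φ(S) ≤ Z₂(S) if p = 3, and Φ(S) ≤ Z(S) with S of exponent p if p > 3; some large abelian subgroup is elementary abelian; and for all large abelian subgroups A, B and all subgroups Q of S one has |A|² = |S|·|Z(S)| ≥ |Q|·|Z(Q)| and ⟨A, B⟩ = AB = C_S(A ∩ B) — there exist nontrivial characteristic subgroups S₁ ≤ Z(S) and S₂ ≤ J̃(S) of S, S₂ characteristic in J̃(S), such that whenever S is embedded as a Sylow p-subgroup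 of a finite group G in the basic pushing-up situation, the image of S₁ or of S₂ is normal in G. -/
theorem result {p : ℕ} [Fact p.Prime] (S : Type u) [Group S] [Finite S] [Nontrivial S] (hS : IsPGroup p S) (hexc : ¬ (¬ IsMulCommutative S ∧ Cfsg.thompsonSubgroupA S = ⊤ ∧ Cfsg.IsElementaryAbelian p (Subgroup.center S) ∧ Cfsg.IsElementaryAbelian p (frattini S) ∧ (p = 2 → frattini S ≤ Subgroup.center S) ∧ (p = 3 → frattini S ≤ Subgroup.upperCentralSeries S 2) ∧ (3 < p → frattini S ≤ Subgroup.center S ∧ Monoid.exponent S = p) ∧ (∃ A ∈ Cfsg.maxAbelianSubgroups S, Cfsg.IsElementaryAbelian p A) ∧ (∀ A ∈ Cfsg.maxAbelianSubgroups S, ∀ B ∈ Cfsg.maxAbelianSubgroups S, ∀ Q : Subgroup S, Nat.card ↥A ^ 2 = Nat.card S * Nat.card ↥(Subgroup.center S) ∧ Nat.card ↥Q * Nat.card ↥(Subgroup.center ↥Q) ≤ Nat.card S * Nat.card ↥(Subgroup.center S) ∧ ((A ⊔ B : Subgroup S) : Set S) = (A : Set S) * (B : Set S) ∧ A ⊔ B = Subgroup.centralizer ((A ⊓ B : Subgroup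 S) : Set S)))) : ∃ S₁ S₂ : Subgroup S, S₁ ≠ ⊥ ∧ S₂ ≠ ⊥ ∧ S₁.Characteristic ∧ S₂.Characteristic ∧ S₁ ≤ Subgroup.center S ∧ S₂ ≤ Subgroup.centralizer ((Cfsg.thompsonSubgroupA S ⊓ Subgroup.centralizer (Cfsg.thompsonSubgroupA S : Set S) : Subgroup S) : Set S) ∧ (S₂.subgroupOf (Subgroup.centralizer ((Cfsg.thompsonSubgroupA S ⊓ Subgroup.centralizer (Cfsg.thompsonSubgroupA S : Set S) : Subgroup S) : Set S))).Characteristic ∧ ∀ (G : Type u) [Group G] [Finite G] (P : Subgroup G) (e : S ≃* ↥P), Cfsg.IsPushingUpSituation p P → ((S₁).map ((P.subtype).comp (e : S ≃* ↥P).toMonoidHom)).Normal ∨ ((S₂).map ((P.subtype).comp (e : S ≃* ↥P).toMonoidHom)).Normal := by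
  rcases GenA.GN.cases_rest (p := p) hS with ⟨S₁, S₂, hp', hl⟩ | hr
  · exact ⟨S₁, S₂, hp'.ne1, hp'.ne2, hp'.char1, hp'.char2, hp'.le1, hp'.le2, hp'.char2',  hp'.good⟩
  by_cases hcomm : IsMulCommutative S
  · refine ⟨Subgroup.center S, ⊤, GenA.GN.center_ne_bot hS, top_ne_bot, inferInstance, inferInstance, le_rfl,
      hr.czTop.ge, GenA.GN.subgroupOf_char_of_top hr.czTop inferInstance, 
      fun G _ _ P e hE => absurd hE (GenA.GN.no_situation_of_comm hcomm e)⟩
  obtain ⟨hel, h2, h3, h4⟩ := GenA.GN.frattini_facts hS hr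
  have hexp : 3 < p → frattini S ≤ Subgroup.center S ∧ Monoid.exponent S = p := fun hp =>
    ⟨(h4 hp).1, Monoid.exponent_eq_prime_iff (Fact.out : p.Prime) |>.2 fun x hx =>
      orderOf_eq_prime ((h4 hp).2 x) hx⟩
  have hno : ∀ A ∈ Cfsg.maxAbelianSubgroups S, ¬ Cfsg.IsElementaryAbelian p A := fun A hA hAe =>
    hexc ⟨hcomm, hr.jtop, hr.zel, hel, h2, h3, hexp, ⟨A, hA, hAe⟩, hr.prods⟩
  have hfch : (Cfsg.frattiniOfMinimalCLJoin p S).Characteristic :=
    GenA.GN.char_of_mapE GenA.GN.map_frattiniMCL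
  refine ⟨Subgroup.center S, Cfsg.frattiniOfMinimalCLJoin p S, GenA.GN.center_ne_bot hS, ?_, inferInstance,
    hfch, le_rfl, le_top.trans hr.czTop.ge, GenA.GN.subgroupOf_char_of_top hr.czTop hfch, ?_⟩
  · intro hbot
    obtain ⟨Q, hQ, hQm⟩ := CharP.PushingUpMCL.exists_maxOmega S p
    have hle : (frattini ↥Q).map Q.subtype ≤ Cfsg.frattiniOfMinimalCLJoin p S :=
      le_iSup (fun R : {R : Subgroup S // Cfsg.IsMinimalCentrallyLarge R ∧
        Nat.card ↥(Cfsg.omegaOneCenter p R) = Cfsg.maxOmegaCenterOfMinimalCL p S} =>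
          (frattini ↥R.1).map R.1.subtype) ⟨Q, hQ, hQm⟩
    obtain ⟨g1, g2⟩ := GenA.GN.eq_one_of_frattini (hS.to_subgroup Q)
      ((Subgroup.map_eq_bot_iff_of_injective _ Q.subtype_injective).1 (le_bot_iff.1 (hle.trans hbot.le)))
    exact hno Q ((hr.mcl Q).1 hQ) ⟨⟨⟨g1⟩⟩, fun a ha => congrArg Subtype.val (g2 ⟨a, ha⟩)⟩
  · intro G _ _ P e hE
    have := (S2989.result P hE (GenA.GN.hJ_emb e hr.czTop)).1
    rw [← GenA.GN.map_center_emb e, ← GenA.GN.map_frattiniMCL e, GenA.GN.map_mapE] at this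
    exact this

end Cfsg.Agent.S2988
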