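import Cfsg.Statements.S2998
import Cfsg.Agent.Lib.CharP.Parabolic

set_option autoImplicit false
open Cfsg

namespace Cfsg.Agent.S2998

/-- Let G be a finite group, p a prime, P a Sylow p-subgroup of G and x ∈ P an element such that N_G(R) ≤ C_G(x) for every nontrivial subgroup R of P. Then P ≤ C_G(x); every G-conjugate of x lying in P equals x (so g ∈ C_G(x) whenever g x g⁻¹ ∈ P); and for every normal subgroup N of G, the image of x in G ⧸ N has the same property with respect to the image of P: the normalizer of every nontrivial subgroup of the image of P centralizes the image of x. -/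
theorem result {G : Type*} [Group G] [Finite G] {p : ℕ} [Fact p.Prime] (P : Sylow p G) (x : G) (hxP : x ∈ (P : Subgroup G)) (hlc : ∀ R : Subgroup G, R ≤ (P : Subgroup G) → R ≠ ⊥ → Subgroup.normalizer (R : Set G) ≤ Subgroup.centralizer ({x} : Set G)) : (P : Subgroup G) ≤ Subgroup.centralizer ({x} : Set G) ∧ (∀ g : G, g * x * g⁻¹ ∈ (P : Subgroup G) → g * x * g⁻¹ = x) ∧ ∀ (N : Subgroup G) [N.Normal], ∀ R : Subgroup (G ⧸ N), R ≤ (P : Subgroup G).map (QuotientGroup.mk' N) → R ≠ ⊥ → Subgroup.normalizer (R : Set (G ⧸ N)) ≤ Subgroup.centralizer ({(QuotientGroup.mk x : G ⧸ N)} : Set (G ⧸ N)) := by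
  have hPc : (P : Subgroup G) ≤ Subgroup.centralizer ({x} : Set G) := by
    by_cases hP : (P : Subgroup G) = ⊥
    · rw [hP]; exact bot_le
    · exact Subgroup.le_normalizer.trans (hlc _ le_rfl hP)
  refine ⟨hPc, fun g hy => ?_, fun N _ R hR hR1 => ?_⟩
  · by_cases hx1 : x = 1
    · simp [hx1]
    set y := g * x * g⁻¹
    set C := Subgroup.centralizer ({x} : Set G)
    have hy1 : Subgroup.zpowers y ≠ ⊥ := by
      rw [Ne, Subgroup.zpowers_eq_bot]
      intro h
      exact hx1 (conj_eq_one_iff.1 h)
    have hle : C.map (MulAut.conj g).toMonoidHom ≤ C := by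
      refine le_trans ?_ (hlc _ (Subgroup.zpowers_le.2 hy) hy1)
      rintro _ ⟨c, hc, rfl⟩
      refine Subgroup.centralizer_le_normalizer _ ?_
      rintro _ ⟨i, rfl⟩
      have hcx : Commute c x := Subgroup.mem_centralizer_singleton_iff.1 hc
      have hcy : Commute ((MulAut.conj g).toMonoidHom c) y := hcx.map (MulAut.conj g).toMonoidHom
      exact (hcy.zpow_right i).eq.symm
    have hCC : C.map (MulAut.conj g).toMonoidHom = C :=
      Subgroup.eq_of_le_of_card_ge hle
        (le_of_eq (Nat.card_congr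
          (Subgroup.equivMapOfInjective C _ (MulAut.conj g).injective).toEquiv))
    have hP : CharP.IsSylIn p (P : Subgroup G) C :=
      (CharP.isSylIn_top_iff.2 ⟨P, rfl⟩).mono hPc le_top
    have hP' := hP.conj g
    rw [hCC] at hP'
    obtain ⟨c, hc, hcP⟩ := hP'.exists_conj hP
    rw [CharP.conj_map_map] at hcP
    have hcg : c * g ∈ C := by
      have hP1 : (P : Subgroup G) ≠ ⊥ := fun h => hx1 (by rwa [h, Subgroup.mem_bot] at hxP)
      exact hlc _ le_rfl hP1 (CharP.mem_normalizer_of_conj_map hcP)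
    have hg : g ∈ C := by
      have := C.mul_mem (C.inv_mem hc) hcg
      simpa using this
    change g * x * g⁻¹ = x
    rw [Subgroup.mem_centralizer_singleton_iff.1 hg, mul_inv_cancel_right]
  · set π := QuotientGroup.mk' N
    set Rh := R.comap π
    have hRh : Rh ≤ (P : Subgroup G) ⊔ N := fun r hr => by
      have h1 : r ∈ ((P : Subgroup G).map π).comap π := hR hr
      rwa [Subgroup.comap_map_eq, QuotientGroup.ker_mk'] at h1
    set U := (P : Subgroup G) ⊓ Rh
    have hNR : N ≤ Rh := fun n hn => by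
      rw [Subgroup.mem_comap, QuotientGroup.mk'_apply, (QuotientGroup.eq_one_iff n).2 hn]
      exact one_mem R
    have hdec : ∀ r ∈ Rh, ∃ u ∈ U, ∃ n ∈ N, r = u * n := by
      intro r hr
      obtain ⟨a, ha, n, hn, rfl⟩ := Subgroup.mem_sup_of_normal_right.1 (hRh hr)
      refine ⟨a, ⟨ha, ?_⟩, n, hn, rfl⟩
      have := Rh.mul_mem hr (Rh.inv_mem (hNR hn))
      simpa using this
    have hU1 : U ≠ ⊥ := by
      intro hU
      refine hR1 ((Subgroup.eq_bot_iff_forall _).2 fun r hr => ?_)
      obtain ⟨z, rfl⟩ := QuotientGroup.mk'_surjective N r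
      obtain ⟨u, hu, n, hn, rfl⟩ := hdec z hr
      rw [hU, Subgroup.mem_bot] at hu
      rw [hu, one_mul, QuotientGroup.mk'_apply, QuotientGroup.eq_one_iff]
      exact hn
    have hUsyl : CharP.IsSylIn p U Rh := by
      refine CharP.isSylIn_of_not_dvd (P.2.to_le inf_le_left) inf_le_right ?_
      have h1 : U ⊔ N = Rh := le_antisymm (sup_le inf_le_right hNR) fun r hr => by
        obtain ⟨u, hu, n, hn, rfl⟩ := hdec r hr
        exact Subgroup.mul_mem_sup hu hn
      have hPN : ¬ p ∣ ((P : Subgroup G) ⊓ N).relIndex N :=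
        (CharP.IsSylIn.inf_normal (CharP.isSylIn_top_iff.2 ⟨P, rfl⟩) le_top
          Subgroup.le_normalizer_of_normal).not_dvd
      have hUN : U ⊓ N = (P : Subgroup G) ⊓ N :=
        le_antisymm (inf_le_inf_right _ inf_le_left)
          (le_inf (le_inf inf_le_left (inf_le_right.trans hNR)) inf_le_right)
      have h2 := Cores.card_sup_mul_card_inf U N
      have e1 : Nat.card ↥U * U.relIndex (U ⊔ N) = Nat.card ↥(U ⊔ N) := by
        rw [← Subgroup.relIndex_bot_left, ← Subgroup.relIndex_bot_left,
          Subgroup.relIndex_mul_relIndex _ _ _ bot_le le_sup_left]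
      have e2 : Nat.card ↥(U ⊓ N) * (U ⊓ N).relIndex N = Nat.card ↥N := by
        rw [← Subgroup.relIndex_bot_left, ← Subgroup.relIndex_bot_left,
          Subgroup.relIndex_mul_relIndex _ _ _ bot_le inf_le_right]
      rw [← e1, ← e2] at h2
      have h3 : U.relIndex (U ⊔ N) = (U ⊓ N).relIndex N := by
        refine Nat.eq_of_mul_eq_mul_left
          (Nat.mul_pos (Nat.card_pos (α := ↥U)) (Nat.card_pos (α := ↥(U ⊓ N)))) ?_
        calc _ = Nat.card ↥U * U.relIndex (U ⊔ N) * Nat.card ↥(U ⊓ N) := by ring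
          _ = _ := h2
          _ = _ := by ring
      rw [← h1, h3, hUN]
      exact hPN
    intro gb hgb
    obtain ⟨g, rfl⟩ := QuotientGroup.mk'_surjective N gb
    have hgR : Rh.map (MulAut.conj g).toMonoidHom = Rh := by
      refine Subgroup.mem_normalizer_iff_map_conj_eq.1 (Subgroup.mem_normalizer_iff.2 ?_)
      intro z
      change π z ∈ R ↔ π (g * z * g⁻¹) ∈ R
      rw [map_mul, map_mul, map_inv]
      exact Subgroup.mem_normalizer_iff.1 hgb (π z)
    have hU' := hUsyl.conj g
    rw [hgR] at hU'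
    obtain ⟨k, hk, hkU⟩ := hU'.exists_conj hUsyl
    obtain ⟨u, hu, n, hn, rfl⟩ := hdec k hk
    rw [CharP.conj_map_map] at hkU
    have h2 : n * g ∈ Subgroup.normalizer (U : Set G) := by
      have h3 := Subgroup.mul_mem _ (Subgroup.inv_mem _ (Subgroup.le_normalizer hu))
        (CharP.mem_normalizer_of_conj_map hkU)
      simpa [mul_assoc] using h3
    have h4 := Subgroup.mem_centralizer_singleton_iff.1 (hlc U inf_le_left hU1 h2)
    rw [Subgroup.mem_centralizer_singleton_iff]
    have h5 := congrArg π h4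
    simp only [map_mul, show π n = 1 from (QuotientGroup.eq_one_iff n).2 hn,
      one_mul] at h5
    exact h5

end Cfsg.Agent.S2998
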