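import Cfsg.Statements.S2999
import Cfsg.Agent.Lib.PLocal.Natural.Main

set_option autoImplicit false
open Cfsg

namespace Cfsg.Agent.S2999

open Cfsg.Lib.Offender Cfsg.Agent.FFNatural
open scoped commutatorElement

/-- Let p be a prime and let P and V be subgroups of a finite group with V elementary abelian, P normalizing V and acting faithfully on it (P ∩ C(V) = 1). Suppose P is p-minimal (a Sylow p-subgroup T of P is not normal and lies in a unique maximal subgroup M of P) and A ≤ T is an elementary abelian subgroup such that: |V/C_V(A)| ≤ |A| while |A₀|·|C_V(A₀)| < |A|·|C_V(A)| for every nontrivial proper subgroup A₀ of A; [C_V(T), P] ≠ 1; and P = ⟨A, xAx⁻¹⟩ for every x ∈ P outside M. Then, with q = |A|, there is a field F with q elements such that P ≅ SL₂(F), C_V(A) = [V, A]·C_V(P), and P acts on V/C_V(P) as SL₂(F) on its natural two-dimensional module. -/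
theorem result {G : Type*} [Group G] [Finite G] {p : ℕ} [Fact p.Prime] (V P : Subgroup G) (hV : Cfsg.IsElementaryAbelian p V) (hPV : P ≤ Subgroup.normalizer (V : Set G)) (hfaith : P ⊓ Subgroup.centralizer (V : Set G) = ⊥) (hmin : Cfsg.IsPMinimal p ↥P) (T : Sylow p ↥P) (M : Subgroup ↥P) (hM : IsCoatom M) (hTM : (T : Subgroup ↥P) ≤ M) (A : Subgroup G) (hAT : A ≤ ((T : Subgroup ↥P).map P.subtype)) (hAel : Cfsg.IsElementaryAbelian p A) (hi : Nat.card ↥V ≤ Nat.card ↥A * Nat.card ↥(V ⊓ Subgroup.centralizer ((A : Subgroup G) : Set G)) ∧ ∀ A₀ : Subgroup G, A₀ ≤ A → A₀ ≠ ⊥ → A₀ ≠ A → Nat.card ↥A₀ * Nat.card ↥(V ⊓ Subgroup.centralizer ((A₀ : Subgroup G) : Set G)) < Nat.card ↥A * Nat.card ↥(V ⊓ Subgroup.centralizer ((A : Subgroup G) : Set G))) (hii : ⁅(V ⊓ Subgroup.centralizer ((((T : Subgroup ↥P).map P.subtype) : Subgroup G) : Set G)), P⁆ ≠ ⊥) (hiii : ∀ x : ↥P, x ∉ M → A ⊔ A.map (MulAut.conj (x : G)).toMonoidHom = P) : ∃ (F : Type) (_ : Field F) (_ : Fintype F), Fintype.card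 F = Nat.card ↥A ∧ Nonempty (↥P ≃* Matrix.SpecialLinearGroup (Fin 2) F) ∧ (V ⊓ Subgroup.centralizer ((A : Subgroup G) : Set G)) = ⁅V, A⁆ ⊔ (V ⊓ Subgroup.centralizer ((P : Subgroup G) : Set G)) ∧ Cfsg.ActsAsSL2OnSection F ⊤ P V (V ⊓ Subgroup.centralizer ((P : Subgroup G) : Set G)) := by
  classical
  have : IsMulCommutative ↥V := hV.1
  letI : CommGroup ↥V := { (inferInstance : Group ↥V) with mul_comm := fun a b => hV.1.1.comm a b }
  have hexp : ∀ v : ↥V, v ^ p = 1 := fun v => Subtype.ext (by rw [Subgroup.coe_pow]; exact hV.2 _ v.2)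
  letI : Module (ZMod p) (Additive ↥V) := AddCommGroup.zmodModule (n := p) (G := Additive ↥V)
    (fun v => congrArg Additive.ofMul (hexp v.toMul))
  let f : Representation (ZMod p) ↥P (Additive ↥V) :=
    actRep ((Subgroup.normalizerMonoidHom V).comp (Subgroup.inclusion hPV))
  have hf : ∀ (g : ↥P) (v : Additive ↥V), ((f g v).toMul : G) = (g : G) * (v.toMul : G) * (g : G)⁻¹ := fun g v => rfl
  have hfix : ∀ (B : Subgroup ↥P) (v : Additive ↥V),
      v ∈ fixed f B ↔ (v.toMul : G) ∈ Subgroup.centralizer ((B.map P.subtype : Subgroup G) : Set G) := by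
    intro B v
    constructor
    · rintro h _ ⟨b, hb, rfl⟩
      have := congrArg (fun w : Additive ↥V => (w.toMul : G)) (h b hb)
      simp only [hf] at this
      exact mul_inv_eq_iff_eq_mul.1 this
    · intro h b hb
      apply Additive.toMul.injective
      apply Subtype.ext
      rw [hf]
      exact mul_inv_eq_iff_eq_mul.2 (h (b : G) ⟨b, hb, rfl⟩)
  have hcard : ∀ B : Subgroup ↥P, Nat.card ↥(fixed f B) =
      Nat.card ↥(V ⊓ Subgroup.centralizer ((B.map P.subtype : Subgroup G) : Set G)) := fun B =>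
    Nat.card_congr
      { toFun := fun v => ⟨(v.1.toMul : G), v.1.toMul.2, (hfix B v.1).1 v.2⟩
        invFun := fun v => ⟨Additive.ofMul ⟨v.1, v.2.1⟩, (hfix B _).2 v.2.2⟩
        left_inv := fun v => rfl
        right_inv := fun v => rfl }
  set A₁ := A.subgroupOf P with hA₁
  have hAP : A ≤ P := hAT.trans (Subgroup.map_subtype_le _)
  have hA₁m : A₁.map P.subtype = A := Subgroup.map_subgroupOf_eq_of_le hAP
  have htop : (⊤ : Subgroup ↥P).map P.subtype = P := by
    rw [← MonoidHom.range_eq_map, Subgroup.range_subtype]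
  have hcmap : ∀ B : Subgroup ↥P, Nat.card ↥(B.map P.subtype) = Nat.card ↥B := fun B =>
    Subgroup.card_map_of_injective Subtype.val_injective
  have hcA : Nat.card ↥A₁ = Nat.card ↥A := by rw [← hcmap, hA₁m]
  have hset : Setting f T M A₁ := by
    refine ⟨fun g hg => ?_, hM, hTM, fun K hK hTK => ?_, ?_, fun a ha b hb => ?_, fun a ha => ?_, ?_, ?_, ?_, fun x hx => ?_⟩
    · have : (g : G) ∈ P ⊓ Subgroup.centralizer (V : Set G) := by
        refine ⟨g.2, fun v hv => ?_⟩
        have := congrArg (fun w : Additive ↥V => (w.toMul : G))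
          (LinearMap.congr_fun hg (Additive.ofMul ⟨v, hv⟩))
        simp only [hf] at this
        exact (mul_inv_eq_iff_eq_mul.1 this).symm
      rw [hfaith, Subgroup.mem_bot] at this
      exact Subtype.ext this
    · obtain ⟨M', -, hu⟩ := (hmin T).2
      exact (hu K ⟨hK, hTK⟩).trans (hu M ⟨hM, hTM⟩).symm
    · intro a ha
      obtain ⟨t, ht, e⟩ := hAT ha
      exact (Subtype.ext e : t = a) ▸ ht
    · exact Subtype.ext (congrArg (fun z : ↥A => (z : G)) (hAel.1.1.comm ⟨(a : G), ha⟩ ⟨(b : G), hb⟩))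
    · exact Subtype.ext (by rw [Subgroup.coe_pow]; exact hAel.2 _ ha)
    · rw [hcA, hcard, hA₁m, Nat.card_congr Additive.toMul]
      exact hi.1
    · intro B hB hne hne'
      rw [hcA, hcard, hcard, hA₁m, ← hcmap B]
      refine hi.2 _ (hA₁m ▸ Subgroup.map_mono hB) (fun e => hne ?_) (fun e => hne' ?_)
      · exact Subgroup.map_injective (f := P.subtype) Subtype.val_injective (e.trans (Subgroup.map_bot _).symm)
      · exact Subgroup.map_injective (f := P.subtype) Subtype.val_injective (e.trans hA₁m.symm)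
    · intro hle
      refine hii (Subgroup.commutator_eq_bot_iff_le_centralizer.2 fun v hv => ?_)
      have := (hfix ⊤ _).1 (hle ((hfix (T : Subgroup ↥P) (Additive.ofMul ⟨v, hv.1⟩)).2 hv.2))
      rwa [htop] at this
    · apply Subgroup.map_injective (f := P.subtype) Subtype.val_injective
      rw [Subgroup.map_sup, Subgroup.map_map, htop,
        show P.subtype.comp (MulAut.conj x).toMonoidHom = (MulAut.conj (x : G)).toMonoidHom.comp P.subtype
          from rfl, ← Subgroup.map_map, hA₁m]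
      exact hiii x hx
  obtain ⟨hspan, F, iF, iFt, hF, ρ, ψ, hψs, hψk, hψ, -, -⟩ := hset.natural
  refine ⟨F, iF, iFt, hF.trans hcA, ⟨ρ⟩, le_antisymm (fun v hv => ?_) (sup_le ?_ ?_), ?_⟩
  · set K := ⁅V, A⁆ ⊔ (V ⊓ Subgroup.centralizer ((P : Subgroup G) : Set G)) with hK
    let KA : AddSubgroup (Additive ↥V) :=
      { carrier := {w | (w.toMul : G) ∈ K}
        zero_mem' := K.one_mem
        add_mem' := fun {u w} hu hw => K.mul_mem hu hw
        neg_mem' := fun {u} hu => K.inv_mem hu }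
    have hle : fixed f A₁ ≤ AddSubgroup.toZModSubmodule p KA := by
      rw [hspan]
      refine sup_le (Submodule.span_le.2 ?_) fun w hw => ?_
      · rintro _ ⟨a, ha, u, rfl⟩
        show ((f a u - u).toMul : G) ∈ K
        refine Subgroup.mem_sup_left ?_
        rw [Subgroup.commutator_comm, toMul_sub, div_eq_mul_inv, Subgroup.coe_mul, Subgroup.coe_inv, hf]
        exact Subgroup.commutator_mem_commutator (show (a : G) ∈ A from ha) u.toMul.2
      · refine Subgroup.mem_sup_right ⟨w.toMul.2, ?_⟩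
        have := (hfix ⊤ w).1 hw
        rwa [htop] at this
    exact hle (show Additive.ofMul ⟨v, hv.1⟩ ∈ fixed f A₁ from (hfix A₁ _).2 (by rw [hA₁m]; exact hv.2))
  · rw [Subgroup.commutator_le]
    intro v hv a ha
    have h1 : f ⟨a, hAP ha⟩ (Additive.ofMul ⟨v, hv⟩) - Additive.ofMul ⟨v, hv⟩ ∈ fixed f A₁ :=
      hset.sub_mem_fixed (show (⟨a, hAP ha⟩ : ↥P) ∈ A₁ from ha) _
    set w := f ⟨a, hAP ha⟩ (Additive.ofMul ⟨v, hv⟩) - Additive.ofMul ⟨v, hv⟩ with hw
    have e : ⁅v, a⁆ = ((w.toMul : ↥V) : G)⁻¹ := by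
      rw [hw, toMul_sub, div_eq_mul_inv, Subgroup.coe_mul, Subgroup.coe_inv, hf, commutatorElement_def]
      show v * a * v⁻¹ * a⁻¹ = (a * v * a⁻¹ * v⁻¹)⁻¹
      group
    rw [e]
    refine inv_mem ⟨w.toMul.2, ?_⟩
    have := (hfix A₁ w).1 h1
    rwa [hA₁m] at this
  · exact inf_le_inf_left _ (Subgroup.centralizer_le hAP)
  · refine ⟨hPV, inf_le_left, ρ.toMonoidHom, AddMonoidHom.toMultiplicativeRight ψ,
      MonoidHom.range_eq_top.2 ρ.surjective, fun c => ?_, fun u => ?_, fun e u => ?_⟩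
    · obtain ⟨w, hw⟩ := hψs c.toAdd
      exact ⟨w.toMul, congrArg Multiplicative.ofAdd hw⟩
    · have h1 := hψk (Additive.ofMul u)
      rw [hfix, htop] at h1
      exact ⟨fun h => ⟨u.2, h1.1 (congrArg Multiplicative.toAdd h)⟩,
        fun h => congrArg Multiplicative.ofAdd (h1.2 h.2)⟩
    · exact ⟨(f e (Additive.ofMul u)).toMul, rfl, hψ e (Additive.ofMul u)⟩

end Cfsg.Agent.S2999
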