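import Cfsg.Statements.S3001
import Cfsg.Agent.Lib.PLocal.Natural.Ambient
import Cfsg.Agent.Lib.PLocal.Natural.Move

set_option autoImplicit false
open Cfsg

namespace Cfsg.Agent.S3001

open Cfsg.Lib.Offender Cfsg.Agent.FFNatural
open scoped commutatorElement

/-- Let p be a prime and let P and V be subgroups of a finite group with V elementary abelian, P normalizing V and acting faithfully on it (P ∩ C(V) = 1). Suppose P is p-minimal (a Sylow p-subgroup is not normal and lies in a unique maximal subgroup), O_p(P) = 1, and P has a best offender on V (a subgroup A not centralizing V, with A/C_A(V) elementary abelian and |B|·|C_V(B)| ≤ |A|·|C_V(A)| for every B ≤ A). Then [C_V(T), P] ≠ 1 for every Sylow p-subgroup T of P. -/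
theorem result {G : Type*} [Group G] [Finite G] {p : ℕ} [Fact p.Prime] (V P : Subgroup G) (hV : Cfsg.IsElementaryAbelian p V) (hPV : P ≤ Subgroup.normalizer (V : Set G)) (hfaith : P ⊓ Subgroup.centralizer (V : Set G) = ⊥) (hmin : Cfsg.IsPMinimal p ↥P) (hOp : Cfsg.pCore p ↥P = ⊥) (hoff : ∃ A : Subgroup G, A ≤ P ∧ ¬ A ≤ Subgroup.centralizer (V : Set G) ∧ Cfsg.IsBestOffenderOn p V A) (T : Sylow p ↥P) : ⁅(V ⊓ Subgroup.centralizer ((((T : Subgroup ↥P).map P.subtype) : Subgroup G) : Set G)), P⁆ ≠ ⊥ := by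
  classical
  have : IsMulCommutative ↥V := hV.1
  letI : CommGroup ↥V := { (inferInstance : Group ↥V) with mul_comm := fun a b => hV.1.1.comm a b }
  have hexp : ∀ v : ↥V, v ^ p = 1 := fun v => Subtype.ext (by rw [Subgroup.coe_pow]; exact hV.2 _ v.2)
  letI : Module (ZMod p) (Additive ↥V) := AddCommGroup.zmodModule (n := p) (G := Additive ↥V)
    (fun v => congrArg Additive.ofMul (hexp v.toMul))
  let f : Representation (ZMod p) ↥P (Additive ↥V) :=
    actRep ((Subgroup.normalizerMonoidHom V).comp (Subgroup.inclusion hPV))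
  let π : ↥P →* ↥P := MonoidHom.id _
  have hA : Amb V P f π (fun w : Additive ↥V => (w.toMul : G)) :=
    { norm := hPV
      mem := fun w => w.toMul.2
      onto := fun x hx => ⟨Additive.ofMul ⟨x, hx⟩, rfl⟩
      inj := fun u w e => Additive.toMul.injective (Subtype.ext e)
      add := fun u w => rfl
      conj := fun h w => rfl
      surj := Function.surjective_id }
  have hlift : ∀ B : Subgroup ↥P, lift π B = B.map P.subtype := fun B => rfl
  have hker : π.ker.map P.subtype = ⊥ := by rw [MonoidHom.ker_id, Subgroup.map_bot]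
  have htop : (⊤ : Subgroup ↥P).map P.subtype = P := by rw [← MonoidHom.range_eq_map, Subgroup.range_subtype]
  have hcard : ∀ B : Subgroup ↥P, Nat.card ↥(fixed f B) =
      Nat.card ↥(V ⊓ Subgroup.centralizer ((B.map P.subtype : Subgroup G) : Set G)) := fun B => by
    rw [← hlift, hA.inf_centralizer]
    exact Nat.card_congr (Equiv.ofBijective (fun w => ⟨(w.1.toMul : G), w.1, w.2, rfl⟩)
      ⟨fun u w e => Subtype.ext (hA.inj (a₁ := u.1) (a₂ := w.1) (congrArg Subtype.val e :)), fun ⟨_, w, hw, rfl⟩ => ⟨⟨w, hw⟩, rfl⟩⟩)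
  have hinj : ∀ g, f g = 1 → g = 1 := fun g hg => by
    have h1 : (g : G) ∈ P ⊓ Subgroup.centralizer (V : Set G) := by
      refine ⟨g.2, fun v hv => ?_⟩
      have h2 := hA.conj g (Additive.ofMul ⟨v, hv⟩)
      rw [show π g = g from rfl, hg] at h2
      exact (eq_mul_inv_iff_mul_eq.1 h2)
    rw [hfaith, Subgroup.mem_bot] at h1
    exact Subtype.ext h1
  intro hcom
  obtain ⟨M, ⟨hM, hTM⟩, hu⟩ := (hmin T).2
  refine sylow_fixed_not_le (T := T) hM hTM (fun K hK hTK => hu K ⟨hK, hTK⟩)
    (fun N hN hNp => le_bot_iff.1 ((le_sSup (show N ∈ {N : Subgroup ↥P | N.Normal ∧ IsPGroup p N} from ⟨hN, hNp⟩)).trans hOp.le))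
    (Additive ↥V) f hinj
    (by
      obtain ⟨A, hAP, hAC, hbest, hcomm, hpow⟩ := hoff
      have h1 : ∀ x, x ∈ P → x ∈ Subgroup.centralizer (V : Set G) → x = 1 := fun x h h' => by
        rw [← Subgroup.mem_bot, ← hfaith]; exact ⟨h, h'⟩
      have hm : (A.subgroupOf P).map P.subtype = A := Subgroup.map_subgroupOf_eq_of_le hAP
      refine ⟨A.subgroupOf P, ⟨fun e => hAC ?_, fun a ha b hb => Subtype.ext ?_, fun a ha => Subtype.ext ?_, ?_⟩⟩
      · rw [← hm, e, Subgroup.map_bot]; exact bot_le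
      · exact commutatorElement_eq_one_iff_mul_comm.1 (h1 _ (P.mul_mem (P.mul_mem (P.mul_mem a.2 b.2) (P.inv_mem a.2)) (P.inv_mem b.2))
          (hcomm (Subgroup.commutator_mem_commutator ha hb)))
      · rw [Subgroup.coe_pow]; exact h1 _ (P.pow_mem a.2 p) (hpow _ ha)
      · have h2 := hbest ⊥ bot_le
        have h3 : Subgroup.centralizer ((⊥ : Subgroup G) : Set G) = ⊤ := by
          rw [eq_top_iff]; intro x _ y hy; simp [Subgroup.mem_bot.1 hy]
        rw [Subgroup.card_bot, one_mul, h3, inf_top_eq] at h2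
        rw [hcard, hm, Nat.card_congr Additive.toMul, Nat.card_congr (Subgroup.subgroupOfEquivOfLe hAP).toEquiv]
        exact h2)
    fun v hv => ?_
  refine (hA.fixed_iff ⊤ v).2 ?_
  rw [hlift, htop]
  exact Subgroup.commutator_eq_bot_iff_le_centralizer.1 hcom ⟨v.toMul.2, (hA.fixed_iff (T : Subgroup ↥P) v).1 hv⟩

end Cfsg.Agent.S3001
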