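import Cfsg.Statements.S3003
import Cfsg.Agent.Lib.Components.Hyperplane

set_option autoImplicit false
open Cfsg

namespace Cfsg.Agent.S3003

/-- Let G be a finite group, p a prime and Q a large p-subgroup of G: C_G(Q) ≤ Q and N_G(U) ≤ N_G(Q) for every nontrivial subgroup U of C_G(Q). Let Q ≤ G₁ ≤ G, let R be a subgroup of order prime to p normalized by G₁, and let U ≤ G₁ be a p-subgroup. If U contains a nontrivial element which is G₁-conjugate to an element of Z(Q), then C_R(U) = 1. In particular, if U is elementary abelian of order at least p² and every maximal subgroup of U contains a nontrivial element G₁-conjugate into Z(Q), then R = 1. -/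
theorem result {G : Type*} [Group G] [Finite G] {p : ℕ} [Fact p.Prime] (Q : Subgroup G) (hQp : IsPGroup p ↥Q) (hlarge : Cfsg.IsLarge Q) (G₁ : Subgroup G) (hQG : Q ≤ G₁) (R : Subgroup G) (hR : (Nat.card ↥R).Coprime p) (hGR : G₁ ≤ Subgroup.normalizer (R : Set G)) (U : Subgroup G) (hUG : U ≤ G₁) (hUp : IsPGroup p ↥U) : ((∃ x ∈ U, x ≠ 1 ∧ ∃ g ∈ G₁, g * x * g⁻¹ ∈ Q ⊓ Subgroup.centralizer (Q : Set G)) → R ⊓ Subgroup.centralizer (U : Set G) = ⊥) ∧ (Cfsg.IsElementaryAbelian p U → p ^ 2 ≤ Nat.card ↥U → (∀ U₀ : Subgroup G, U₀ ≤ U → IsCoatom (U₀.subgroupOf U) → ∃ x ∈ U₀, x ≠ 1 ∧ ∃ g ∈ G₁, g * x * g⁻¹ ∈ Q ⊓ Subgroup.centralizer (Q : Set G)) → R = ⊥) := by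
  classical
  have key : ∀ V : Subgroup G, (∃ x ∈ V, x ≠ 1 ∧ ∃ g ∈ G₁, g * x * g⁻¹ ∈ Q ⊓ Subgroup.centralizer (Q : Set G)) →
      R ⊓ Subgroup.centralizer (V : Set G) = ⊥ := by
    rintro V ⟨x, hxV, hx1, g, hg, hgQ⟩
    rw [Subgroup.eq_bot_iff_forall]
    rintro r ⟨hr, hrV⟩
    set z := g * x * g⁻¹ with hz
    set w := g * r * g⁻¹ with hw
    have hwR : w ∈ R := (Subgroup.mem_normalizer_iff.mp (hGR hg) r).mp hr
    have hwz : w * z = z * w := by
      have hxr : x * r = r * x := Subgroup.mem_centralizer_iff.mp hrV x hxV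
      calc w * z = g * (r * x) * g⁻¹ := by rw [hw, hz]; group
        _ = g * (x * r) * g⁻¹ := by rw [hxr]
        _ = z * w := by rw [hw, hz]; group
    have hzne : Subgroup.zpowers z ≠ ⊥ := by
      rw [Ne, Subgroup.zpowers_eq_bot, hz, conj_eq_one_iff]
      exact hx1
    have hzc : w ∈ Subgroup.normalizer (Subgroup.zpowers z : Set G) := by
      apply Subgroup.centralizer_le_normalizer
      rw [Subgroup.mem_centralizer_iff]
      intro y hy
      obtain ⟨m, rfl⟩ := Subgroup.mem_zpowers_iff.mp hy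
      exact ((show Commute w z from hwz).zpow_right m).eq.symm
    have hwQ : w ∈ Subgroup.normalizer (Q : Set G) :=
      hlarge.2 _ (Subgroup.zpowers_le.mpr hgQ.2) hzne hzc
    have hRQ : R ⊓ Q = ⊥ := Subgroup.inf_eq_bot_of_coprime (by
      obtain ⟨k, hk⟩ := hQp.exists_card_eq
      rw [hk]; exact hR.pow_right k)
    have hwC : w ∈ Subgroup.centralizer (Q : Set G) := by
      rw [Subgroup.mem_centralizer_iff]
      intro q hq
      have h1 : q * w * q⁻¹ * w⁻¹ ∈ R ⊓ Q := by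
        refine ⟨R.mul_mem ((Subgroup.mem_normalizer_iff.mp (hGR (hQG hq)) w).mp hwR) (R.inv_mem hwR), ?_⟩
        have h2 := (Subgroup.mem_normalizer_iff.mp hwQ q⁻¹).mp (Q.inv_mem hq)
        have e : q * w * q⁻¹ * w⁻¹ = q * (w * q⁻¹ * w⁻¹) := by group
        rw [e]
        exact Q.mul_mem hq h2
      rw [hRQ, Subgroup.mem_bot, mul_inv_eq_one, mul_inv_eq_iff_eq_mul] at h1
      exact h1
    have hw1 : w ∈ R ⊓ Q := ⟨hwR, hlarge.1 hwC⟩
    rw [hRQ, Subgroup.mem_bot, hw, conj_eq_one_iff] at hw1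
    exact hw1
  refine ⟨key U, fun hU hU2 hall => ?_⟩
  have hpR : ¬ p ∣ Nat.card R := (Fact.out : p.Prime).coprime_iff_not_dvd.mp hR.symm
  rw [Cfsg.Agent.Components.Hyperplane.eq_iSup_hyperplane hU hU2 hpR (hUG.trans hGR), iSup_eq_bot]
  intro D
  refine key D (hall D D.2.1 ⟨?_, fun K hK => ?_⟩)
  · rw [Ne, ← Subgroup.index_eq_one, ← Subgroup.relIndex, D.2.2]
    exact (Fact.out : p.Prime).ne_one
  · have h1 := Subgroup.relIndex_mul_index hK.le
    rw [← Subgroup.relIndex, D.2.2] at h1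
    rcases (Nat.dvd_prime (Fact.out : p.Prime)).mp (Dvd.intro_left _ h1) with h | h
    · exact Subgroup.index_eq_one.mp h
    · exfalso
      rw [h] at h1
      have h2 : ((D : Subgroup G).subgroupOf U).relIndex K = 1 :=
        Nat.eq_of_mul_eq_mul_right (Fact.out : p.Prime).pos (h1.trans (one_mul p).symm)
      exact hK.not_ge (Subgroup.relIndex_eq_one.mp h2)

end Cfsg.Agent.S3003
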