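import Cfsg.Statements.S3008
import Cfsg.Agent.S3007
import Cfsg.Agent.Lib.CharP.CentrallyLargeReplacement

set_option autoImplicit false
open Cfsg

namespace Cfsg.Agent.S3008

open Subgroup CharP CharP.CentrallyLargeReplacement
open scoped Pointwise

/-- Let P be a finite p-group, with J(P) generated by its abelian subgroups of largest order and J̃(P) = C_P(Z(J(P))); call R ≤ P centrally large if |R|·|Z(R)| is as large as possible, and let P_MCL be generated by the minimal centrally large subgroups. Then: for every centrally large Q, Q·J(P) ⊇ J̃(P); some minimal centrally large subgroup of P is normalized by both J(P) and P_MCL; if P = J(P) and d(P)² = |P|·|Z(P)|, where d(P) is the largest order of an abelian subgroup, then every minimal centrally large subgroup of P is abelian; and if every minimal centrally large subgroup is abelian then J̃(P) = J(P). -/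
theorem result {p : ℕ} [Fact p.Prime] (P : Type*) [Group P] [Finite P] (hP : IsPGroup p P) : (∀ Q : Subgroup P, Cfsg.IsCentrallyLarge Q → Subgroup.centralizer ((Cfsg.thompsonSubgroupA P ⊓ Subgroup.centralizer (Cfsg.thompsonSubgroupA P : Set P) : Subgroup P) : Set P) ≤ Q ⊔ Cfsg.thompsonSubgroupA P) ∧ (∃ Q : Subgroup P, Cfsg.IsMinimalCentrallyLarge Q ∧ Cfsg.thompsonSubgroupA P ≤ Subgroup.normalizer (Q : Set P) ∧ Cfsg.minimalCentrallyLargeJoin P ≤ Subgroup.normalizer (Q : Set P)) ∧ (Cfsg.thompsonSubgroupA P = ⊤ → (∀ A ∈ Cfsg.maxAbelianSubgroups P, Nat.card ↥A ^ 2 = Nat.card P * Nat.card ↥(Subgroup.center P)) → ∀ Q : Subgroup P, Cfsg.IsMinimalCentrallyLarge Q → IsMulCommutative ↥Q) ∧ ((∀ Q : Subgroup P, Cfsg.IsMinimalCentrallyLarge Q → IsMulCommutative ↥Q) → Subgroup.centralizer ((Cfsg.thompsonSubgroupA P ⊓ Subgroup.centralizer (Cfsg.thompsonSubgroupA P : Set P) : Subgroup P) : Set P) = Cfsg.thompsonSubgroupA P) := by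
  classical
  haveI : Group.IsNilpotent P := hP.isNilpotent
  have normQ : ∀ Q : Subgroup P, Cfsg.IsCentrallyLarge Q → ∀ H : Subgroup P,
      H ≤ normalizer ((centralizer (Q : Set P) : Subgroup P) : Set P) → H ≤ normalizer (Q : Set P) := by
    intro Q hQ H hH x hx
    conv => arg 1; rw [← IsCentralizerLarge.centralizer_centralizer (isCentrallyLarge_iff.1 hQ).1]
    refine mem_normalizer_fintype fun q hq => mem_centralizer_iff.mpr fun a ha => ?_
    have h1 := mem_centralizer_iff.mp hq (x⁻¹ * a * x)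
      (by simpa using (mem_normalizer_iff.mp (inv_mem (hH hx)) a).mp ha)
    calc a * (x * q * x⁻¹) = x * ((x⁻¹ * a * x) * q) * x⁻¹ := by group
      _ = x * (q * (x⁻¹ * a * x)) * x⁻¹ := by rw [h1]
      _ = _ := by group
  have maxab : ∃ A, A ∈ Cfsg.maxAbelianSubgroups P := by
    obtain ⟨A₀, hA₀, hmax⟩ := (Set.toFinite {A : Subgroup P | IsMulCommutative ↥A}).exists_maximalFor
      (fun A : Subgroup P => Nat.card ↥A) _ ⟨⊥, (inferInstance : IsMulCommutative ↥(⊥ : Subgroup P))⟩
    refine ⟨A₀, hA₀, fun B hB => ?_⟩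
    by_contra h
    exact h (hmax hB (le_of_not_ge h))
  have exmin : ∃ R : Subgroup P, Cfsg.IsMinimalCentrallyLarge R := by
    obtain ⟨Q, hQ⟩ := exists_isCentrallyLarge (S := P)
    obtain ⟨R, -, hR⟩ := exists_isMinimalCentrallyLarge hQ
    exact ⟨R, hR⟩
  refine ⟨fun Q hQ => centralizer_centerThompson_le hQ, ?_, fun hJ hcard Q hQ => ?_, fun hall => ?_⟩
  · obtain ⟨Q, hQ, hN⟩ := exists_minimal_normalized (S := P)
    obtain ⟨hQl, hCQ⟩ := isCentrallyLarge_iff.1 hQ.1
    refine ⟨Q, hQ, normQ Q hQ.1 _ (sSup_le fun A hA => hN A hA.1 ?_),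
      normQ Q hQ.1 _ (sSup_le fun R hR => ?_)⟩
    · have h := (isCentrallyLarge_sup_maxAbelian hQ.1 hA).2.2.2
      rwa [inf_eq_right.2 hCQ] at h
    · obtain ⟨hRl, hCR⟩ := isCentrallyLarge_iff.1 hR.1
      have hCRab : IsMulCommutative ↥(centralizer (R : Set P)) :=
        le_centralizer_iff_isMulCommutative.1 (hCR.trans (le_centralizer_centralizer R))
      have hZ := hN (centralizer (R : Set P)) hCRab
        (coe_sup_eq_mul_of_card (isCentralizerLarge_sup_inf hQl hRl).2.2.2.2)
      rw [← (S3007.result P hP R Q hR hQ).1, inf_eq_right.2 hCR]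
      refine sup_le (fun x hx => ?_) hZ
      have : x ∈ centralizer ((centralizer (Q : Set P) : Subgroup P) : Set P) :=
        le_centralizer_centralizer Q hx.2
      exact centralizer_le_normalizer _ this
  · obtain ⟨A, hA⟩ := maxab
    haveI : IsMulCommutative ↥A := hA.1
    obtain ⟨Q₀, hQ₀⟩ := exmin
    have htop := isCentrallyLarge_sup_thompson hQ₀.1
    rw [hJ, sup_top_eq] at htop
    have hAl : Cfsg.IsCentrallyLarge A := isCentrallyLarge_iff.2
      ⟨isCentralizerLarge_of_le (by
          rw [centralizer_eq_of_maxAbelian hA, ← pow_two, hcard A hA, ← maxCentralProduct_eq, ← htop,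
            Subgroup.card_top]
          refine le_of_eq (congrArg _ ?_)
          rw [card_center_eq, top_inf_eq]
          refine Nat.card_congr (MulEquiv.subgroupCongr ?_).toEquiv
          rw [coe_top]; exact centralizer_univ),
        (centralizer_eq_of_maxAbelian hA).le⟩
    obtain ⟨R, hRA, hR⟩ := exists_isMinimalCentrallyLarge hAl
    have hRab : IsMulCommutative ↥R :=
      le_centralizer_iff_isMulCommutative.1 (hRA.trans ((le_centralizer A).trans
        (centralizer_le (SetLike.coe_subset_coe.2 hRA))))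
    exact (((S3007.result P hP R Q hR hQ).2.2.2.2 hRab Q).1 hQ).1
  · obtain ⟨Q₀, hQ₀⟩ := exmin
    have hiff := (S3007.result P hP Q₀ Q₀ hQ₀ hQ₀).2.2.2.2 (hall Q₀ hQ₀)
    have hJl : Cfsg.IsCentrallyLarge (Cfsg.thompsonSubgroupA P) := by
      have h : Cfsg.minimalCentrallyLargeJoin P = Cfsg.thompsonSubgroupA P := by
        show sSup _ = sSup _
        congr 1
        ext X
        exact hiff X
      exact h ▸ minimalCentrallyLargeJoin_large
    obtain ⟨hJ1, hJ2⟩ := isCentrallyLarge_iff.1 hJl
    rw [inf_eq_right.2 hJ2, IsCentralizerLarge.centralizer_centralizer hJ1]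

end Cfsg.Agent.S3008
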