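import Cfsg.Statements.S3009
import Cfsg.Agent.Lib.CharP.SL2Natural

set_option autoImplicit false
open Cfsg

namespace Cfsg.Agent.S3009

open CharP.SL2Natural
open scoped MatrixGroups

/-- The module part: an irreducible nontrivial module which is quadratic or small is natural. -/
theorem natural_of_irreducible {F : Type} [Field F] [Fintype F] {p n : ℕ} [Fact p.Prime]
    (hF : Fintype.card F = p ^ n) {M : Type*} [AddCommGroup M] [Finite M] [DistribMulAction SL(2, F) M]
    (hp : ∀ m : M, p • m = 0)
    (hirr : ∀ N : AddSubgroup M, (∀ g : SL(2, F), ∀ m ∈ N, g • m ∈ N) → N = ⊥ ∨ N = ⊤)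
    (hnt : ∃ (g : SL(2, F)) (m : M), g • m ≠ m)
    (hyp : (∀ (a b : F) (m : M), uu a • (uu b • m - m) = uu b • m - m) ∨
      Nat.card M ≤ Nat.card (fixedU F M) ^ 2) :
    ∃ ψ : M ≃+ (Fin 2 → F), ∀ (g : SL(2, F)) (m : M),
      ψ (g • m) = Matrix.mulVec (g : Matrix (Fin 2) (Fin 2) F) (ψ m) := by
  classical
  obtain ⟨g₀, m₀, hgm⟩ := hnt
  -- no nonzero point is fixed by everything
  have hfix : ∀ m : M, (∀ g : SL(2, F), g • m = m) → m = 0 := by
    intro m hm
    let N : AddSubgroup M :=
      { carrier := {x | ∀ g : SL(2, F), g • x = x}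
        zero_mem' := fun g => smul_zero g
        add_mem' := fun h h' g => by rw [smul_add, h g, h' g]
        neg_mem' := fun h g => by rw [smul_neg, h g] }
    rcases hirr N (fun g x hx h => by rw [hx g, hx h]) with h | h
    · exact AddSubgroup.mem_bot.mp (h ▸ hm : m ∈ (⊥ : AddSubgroup M))
    · exact absurd ((h.symm ▸ AddSubgroup.mem_top m₀ : m₀ ∈ N) g₀) hgm
  have hdisj : ∀ c ∈ fixedU F M, ww (F := F) • c ∈ fixedU F M → c = 0 := by
    intro c hc hwc
    have hl : ∀ b : F, (ww * uu b * (ww (F := F))⁻¹) • c = c := by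
      intro b
      have h : (ww (F := F))⁻¹ • c ∈ fixedU F M := by
        rw [ww_inv_eq, ← mul_assoc, ww_sq, mul_smul]
        exact tt_smul_mem hwc _
      rw [mul_smul, mul_smul, h b, smul_inv_smul]
    have hw : ww (F := F) • c = c := by
      have h := braid (F := F) 1
      rw [tt_one, one_mul] at h
      rw [← h, mul_smul, hc, mul_smul, hl, hc]
    refine hfix c fun g => ?_
    induction g using induction_gen with
    | hu a => exact hc a
    | hw => exact hw
    | h1 => exact one_smul _ c
    | hmul g h hg hh => rw [mul_smul, hh, hg]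
  -- the unitriangular group as a `p`-group
  have hU : IsPGroup p (Multiplicative F) :=
    IsPGroup.of_card (n := n) (by rw [Nat.card_eq_fintype_card, Fintype.card_multiplicative, hF])
  have hMp : IsPGroup p (Multiplicative M) := fun x => ⟨1, by
    rw [pow_one]; exact Multiplicative.toAdd.injective (hp _)⟩
  letI : MulAction (Multiplicative F) M :=
    { smul := fun a m => uu a.toAdd • m
      one_smul := fun m => by show uu (0 : F) • m = m; rw [uu_zero, one_smul]
      mul_smul := fun a b m => by
        show uu (a.toAdd + b.toAdd) • m = uu a.toAdd • uu b.toAdd • m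
        rw [← uu_mul, mul_smul] }
  have hM0 : Nontrivial M := ⟨⟨g₀ • m₀, m₀, hgm⟩⟩
  have hMdvd : p ∣ Nat.card M := by
    obtain ⟨j, hj⟩ := (IsPGroup.iff_card (G := Multiplicative M)).mp hMp
    change Nat.card M = p ^ j at hj
    rw [hj]
    refine dvd_pow_self p fun h0 => ?_
    subst h0
    exact absurd hj (Finite.one_lt_card (α := M)).ne'
  obtain ⟨c₀, hc₀, hc₀0⟩ := hU.exists_fixed_point_of_prime_dvd_card_of_fixed_point M hMdvd
    (a := (0 : M)) (fun a => smul_zero (uu a.toAdd))
  have hc₀C : c₀ ∈ fixedU F M := fun a => hc₀ (Multiplicative.ofAdd a)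
  obtain ⟨c, hc, hcne⟩ : ∃ c ∈ core F M, c ≠ 0 := by
    rcases hyp with hq | hsmall
    · exact ⟨c₀, ⟨hc₀C, fun a b => hq b a _⟩, Ne.symm hc₀0⟩
    · have hbij : Function.Bijective fun x : fixedU F M × fixedU F M =>
          (x.1 : M) + ww (F := F) • (x.2 : M) := by
        refine Function.Injective.bijective_of_nat_card_le ?_ ?_
        · rintro ⟨x, x'⟩ ⟨y, y'⟩ h
          simp only at h
          have h' : ww (F := F) • ((x' : M) - y') = y - x := by
            rw [smul_sub, sub_eq_sub_iff_add_eq_add, add_comm, h, add_comm]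
          have h0 := hdisj _ (sub_mem x'.2 y'.2) (h' ▸ sub_mem y.2 x.2)
          rw [h0, smul_zero] at h'
          exact Prod.ext (Subtype.ext (sub_eq_zero.mp h'.symm).symm) (Subtype.ext (sub_eq_zero.mp h0))
        · rw [Nat.card_prod, ← pow_two]; exact hsmall
      set q := QuotientAddGroup.mk' (fixedU F M) with hq
      letI : MulAction (Multiplicative F) (M ⧸ fixedU F M) :=
        { smul := fun a x => QuotientAddGroup.map (fixedU F M) (fixedU F M)
            (DistribSMul.toAddMonoidHom M (uu a.toAdd))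
            (fun m hm => by simpa using (hm a.toAdd).symm ▸ hm) x
          one_smul := by
            rintro ⟨m⟩
            show q (uu (0 : F) • m) = q m
            rw [uu_zero, one_smul]
          mul_smul := by
            rintro a b ⟨m⟩
            show q (uu (a.toAdd + b.toAdd) • m) = q (uu a.toAdd • uu b.toAdd • m)
            rw [← uu_mul, mul_smul] }
      have hCne : Nontrivial (fixedU F M) := ⟨⟨⟨c₀, hc₀C⟩, 0, fun h => hc₀0 (congrArg Subtype.val h).symm⟩⟩
      have hdvd : p ∣ Nat.card (M ⧸ fixedU F M) := by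
        obtain ⟨x, hx⟩ : ∃ x : M, x ∉ fixedU F M := by
          by_contra h
          push Not at h
          exact hc₀0 (hdisj c₀ hc₀C (h _)).symm
        obtain ⟨j, hj⟩ := (IsPGroup.iff_card (G := Multiplicative M)).mp hMp
        change Nat.card M = p ^ j at hj
        have hdiv : Nat.card (M ⧸ fixedU F M) ∣ p ^ j := hj ▸ AddSubgroup.card_quotient_dvd_card _
        obtain ⟨i, -, hi⟩ := (Nat.dvd_prime_pow Fact.out).mp hdiv
        rw [hi]
        refine dvd_pow_self p fun h0 => hx ?_
        subst h0
        rw [pow_zero, Nat.card_eq_one_iff_unique] at hi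
        exact (QuotientAddGroup.eq_zero_iff x).mp (hi.1.elim _ _)
      obtain ⟨y, hy, hy0⟩ := hU.exists_fixed_point_of_prime_dvd_card_of_fixed_point _ hdvd
        (a := (0 : M ⧸ fixedU F M)) (fun a => map_zero (QuotientAddGroup.map _ _ _ _))
      obtain ⟨m, rfl⟩ := QuotientAddGroup.mk'_surjective (fixedU F M) y
      obtain ⟨⟨x, x'⟩, rfl⟩ := hbij.2 m
      refine ⟨x', ⟨x'.2, fun a => ?_⟩, fun h0 => hy0 ?_⟩
      · have h : q (uu a • ((x : M) + ww (F := F) • (x' : M))) =
            q ((x : M) + ww (F := F) • (x' : M)) := hy (Multiplicative.ofAdd a)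
        rw [smul_add, x.2 a, map_add, map_add, add_right_inj] at h
        rw [← QuotientAddGroup.eq_zero_iff]
        show q _ = 0
        rw [map_sub, h, sub_self]
      · show (0 : M ⧸ fixedU F M) = q ((x : M) + ww (F := F) • (x' : M))
        rw [h0, smul_zero, add_zero]
        exact ((QuotientAddGroup.eq_zero_iff _).mpr x.2).symm
  -- the span is everything
  have hspan : ∀ m : M, m ∈ coreSpan F M := by
    rcases hirr (coreSpan F M) (smul_mem_coreSpan hdisj) with h | h
    · refine absurd (AddSubgroup.mem_bot.mp (h ▸ ?_ : c ∈ (⊥ : AddSubgroup M))) hcne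
      exact ⟨c, hc, 0, zero_mem _, by simp⟩
    · exact fun m => h.symm ▸ AddSubgroup.mem_top m
  obtain ⟨k, ψ, hψ⟩ := exists_natural hdisj hspan
  -- irreducibility leaves a single summand
  have hk : k = 1 := by
    rcases Nat.lt_trichotomy k 1 with hk | hk | hk
    · obtain rfl : k = 0 := by omega
      exact absurd (ψ.injective (Subsingleton.elim (ψ (g₀ • m₀)) (ψ m₀))) hgm
    · exact hk
    · let i₀ : Fin k := ⟨0, by omega⟩
      let i₁ : Fin k := ⟨1, hk⟩
      let N : AddSubgroup M :=
        { carrier := {m | ψ m i₁ = 0}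
          zero_mem' := by simp
          add_mem' := fun {a b} h h' => by
            show ψ (a + b) i₁ = 0
            rw [map_add, Pi.add_apply, h, h', add_zero]
          neg_mem' := fun {a} h => by
            show ψ (-a) i₁ = 0
            rw [map_neg, Pi.neg_apply, h, neg_zero] }
      rcases hirr N (fun g m hm => by show ψ (g • m) i₁ = 0; rw [hψ, hm, Matrix.mulVec_zero]) with h | h
      · have h1 : ψ.symm (Pi.single i₀ ![1, 0]) ∈ N := by
          show ψ (ψ.symm _) i₁ = 0
          rw [AddEquiv.apply_symm_apply, Pi.single_eq_of_ne (Fin.ne_of_val_ne (Nat.one_ne_zero))]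
        rw [h, AddSubgroup.mem_bot, map_eq_zero_iff _ ψ.symm.injective] at h1
        exact absurd (congrFun (congrFun h1 i₀) 0) (by simp)
      · have h1 : ψ.symm (Pi.single i₁ ![1, 0]) ∈ N := h.symm ▸ AddSubgroup.mem_top _
        change ψ (ψ.symm _) i₁ = 0 at h1
        rw [AddEquiv.apply_symm_apply, Pi.single_eq_same] at h1
        exact absurd (congrFun h1 0) (by simp)
  subst hk
  refine ⟨{ toEquiv := ψ.toEquiv.trans (Equiv.funUnique (Fin 1) (Fin 2 → F))
            map_add' := fun x y => by simp }, fun g m => hψ g m _⟩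


/-- Let p be a prime and let G and V be subgroups of a finite group with V elementary abelian and normalized by G, and G isomorphic to SL₂(F) for a finite field F with pⁿ elements. Suppose G acts irreducibly and nontrivially on V by conjugation (no G-invariant subgroups of V other than 1 and V, and [V, G] ≠ 1), and let S be a Sylow p-subgroup of G and V₀ = C_V(S). If [V, S, S] = 1 or |V| ≤ |V₀|², then G acts on V as SL₂(F) on its natural two-dimensional module; in particular |V| = |F|². -/
theorem result {X : Type*} [Group X] [Finite X] {p : ℕ} [Fact p.Prime] (G V : Subgroup X) (hV : Cfsg.IsElementaryAbelian p V) (hGV : G ≤ Subgroup.normalizer (V : Set X)) (F : Type) [Field F] [Fintype F] (n : ℕ) (hF : Fintype.card F = p ^ n) (hG : Nonempty (↥G ≃* Matrix.SpecialLinearGroup (Fin 2) F)) (hirr : ∀ U : Subgroup X, U ≤ V → G ≤ Subgroup.normalizer (U : Set X) → U = ⊥ ∨ U = V) (hnt : ⁅V, G⁆ ≠ ⊥) (S : Sylow p ↥G) (hyp : ⁅⁅V, (S : Subgroup ↥G).map G.subtype⁆, (S : Subgroup ↥G).map G.subtype⁆ = ⊥ ∨ Nat.card ↥V ≤ Nat.card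 ↥(V ⊓ Subgroup.centralizer (((S : Subgroup ↥G).map G.subtype : Subgroup X) : Set X)) ^ 2) : Cfsg.ActsAsSL2OnSection F ⊤ G V ⊥ := by
  classical
  obtain ⟨e₀⟩ := hG
  -- move the unitriangular group into `S`
  let f : Multiplicative F →* ↥G :=
    { toFun := fun a => e₀.symm (uu a.toAdd)
      map_one' := by rw [show (1 : Multiplicative F).toAdd = (0 : F) from rfl, uu_zero, map_one]
      map_mul' := fun a b => by rw [← map_mul, uu_mul]; rfl }
  have hfp : IsPGroup p f.range :=
    (IsPGroup.of_card (G := Multiplicative F) (n := n) (by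
      rw [Nat.card_eq_fintype_card, Fintype.card_multiplicative, hF])).of_surjective
      f.rangeRestrict f.rangeRestrict_surjective
  obtain ⟨P, hP⟩ := hfp.exists_le_sylow
  obtain ⟨k, hk⟩ := MulAction.exists_smul_eq (↥G) S P
  let e : ↥G ≃* SL(2, F) := (MulAut.conj k).trans e₀
  have heS : ∀ a : F, e.symm (uu a) ∈ (S : Subgroup ↥G) := by
    intro a
    have h : e₀.symm (uu a) ∈ (P : Subgroup ↥G) := hP ⟨Multiplicative.ofAdd a, rfl⟩
    rw [← hk, Sylow.coe_subgroup_smul, Subgroup.mem_pointwise_smul_iff_inv_smul_mem] at h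
    simpa [e, MulAut.conj] using h
  letI : CommGroup ↥V := { (inferInstance : Group ↥V) with mul_comm := hV.1.is_comm.comm }
  have hmem : ∀ (g : ↥G) (v : ↥V), (g : X) * v * (g : X)⁻¹ ∈ V := fun g v =>
    (Subgroup.mem_normalizer_iff.mp (hGV g.2) _).mp v.2
  letI : DistribMulAction SL(2, F) (Additive ↥V) :=
    { smul := fun g v => Additive.ofMul ⟨_, hmem (e.symm g) v.toMul⟩
      one_smul := fun v => by
        refine Additive.toMul.injective (Subtype.ext ?_)
        show ((e.symm 1 : ↥G) : X) * _ * _ = _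
        simp
      mul_smul := fun g h v => by
        refine Additive.toMul.injective (Subtype.ext ?_)
        show ((e.symm (g * h) : ↥G) : X) * _ * _ = ((e.symm g : ↥G) : X) *
          (((e.symm h : ↥G) : X) * _ * _) * _
        simp [mul_assoc]
      smul_zero := fun g => by
        refine Additive.toMul.injective (Subtype.ext ?_)
        show ((e.symm g : ↥G) : X) * ((1 : ↥V) : X) * _ = ((1 : ↥V) : X)
        simp
      smul_add := fun g v w => by
        refine Additive.toMul.injective (Subtype.ext ?_)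
        show ((e.symm g : ↥G) : X) * (((v.toMul : ↥V) : X) * ((w.toMul : ↥V) : X)) * _ =
          ((e.symm g : ↥G) : X) * _ * _ * (((e.symm g : ↥G) : X) * _ * _)
        simp [mul_assoc] }
  have hcoe : ∀ (g : SL(2, F)) (v : Additive ↥V), (((g • v).toMul : ↥V) : X) =
      ((e.symm g : ↥G) : X) * (v.toMul : ↥V) * ((e.symm g : ↥G) : X)⁻¹ := fun g v => rfl
  refine Exists.elim (natural_of_irreducible (M := Additive ↥V) hF (p := p)
    (fun m => Additive.toMul.injective (Subtype.ext (hV.2 _ m.toMul.2))) ?_ ?_ ?_) fun ψ hψ => ?_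
  · -- irreducibility
    intro N hN
    let U : Subgroup X := (AddSubgroup.toSubgroup' N).map V.subtype
    have hUV : U ≤ V := Subgroup.map_subtype_le _
    rcases hirr U hUV (fun x hx => Subgroup.mem_normalizer_fintype (fun y hy => by
      obtain ⟨v, hv, rfl⟩ := hy
      exact ⟨⟨_, hmem ⟨x, hx⟩ v⟩, by
        have h := hN (e ⟨x, hx⟩) (Additive.ofMul v) hv
        rwa [show e ⟨x, hx⟩ • Additive.ofMul v = Additive.ofMul ⟨_, hmem ⟨x, hx⟩ v⟩ from
          Additive.toMul.injective (Subtype.ext (by rw [hcoe]; simp))] at h, rfl⟩)) with h | h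
    · left
      rw [Subgroup.map_eq_bot_iff_of_injective _ V.subtype_injective] at h
      exact (AddSubgroup.eq_bot_iff_forall _).mpr fun m hm => Additive.toMul.injective
        (Subgroup.mem_bot.mp (h ▸ hm : m.toMul ∈ (⊥ : Subgroup ↥V)))
    · right
      refine (AddSubgroup.eq_top_iff' _).mpr fun m => ?_
      obtain ⟨v, hv, hv'⟩ := (h.symm ▸ m.toMul.2 : ((m.toMul : ↥V) : X) ∈ U)
      exact (V.subtype_injective hv' ▸ hv : m.toMul ∈ AddSubgroup.toSubgroup' N)
  · -- nontriviality
    by_contra h
    push Not at h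
    refine hnt (Subgroup.commutator_eq_bot_iff_le_centralizer.mpr fun v hv => ?_)
    refine Subgroup.mem_centralizer_iff.mpr fun g hg => ?_
    have h1 := congrArg (fun m : Additive ↥V => ((m.toMul : ↥V) : X)) (h (e ⟨g, hg⟩) (Additive.ofMul ⟨v, hv⟩))
    simp only [hcoe, MulEquiv.symm_apply_apply, toMul_ofMul] at h1
    exact mul_inv_eq_iff_eq_mul.mp h1
  · -- quadratic or small
    set T := (S : Subgroup ↥G).map G.subtype
    have hT : ∀ a : F, ((e.symm (uu a) : ↥G) : X) ∈ T := fun a => Subgroup.mem_map_of_mem _ (heS a)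
    refine hyp.imp (fun hq a b m => ?_) (fun hsmall => ?_)
    · have h1 : (((uu b • m - m).toMul : ↥V) : X) ∈ ⁅V, T⁆ := by
        rw [Subgroup.commutator_comm]
        show (((uu b • m).toMul / m.toMul : ↥V) : X) ∈ _
        rw [div_eq_mul_inv, Subgroup.coe_mul, Subgroup.coe_inv, hcoe]
        exact Subgroup.commutator_mem_commutator (hT b) m.toMul.2
      refine Additive.toMul.injective (Subtype.ext ?_)
      rw [hcoe]
      refine mul_inv_eq_iff_eq_mul.mpr ?_
      exact Subgroup.mem_centralizer_iff.mp ((Subgroup.commutator_eq_bot_iff_le_centralizer.mp hq) h1) _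
        (hT a)
    · refine le_trans ((Nat.card_congr Additive.toMul).le.trans hsmall) (Nat.pow_le_pow_left ?_ 2)
      refine Nat.card_le_card_of_injective (fun v => ⟨Additive.ofMul ⟨v.1, v.2.1⟩, fun a => ?_⟩) ?_
      · refine Additive.toMul.injective (Subtype.ext ?_)
        rw [hcoe]
        refine mul_inv_eq_iff_eq_mul.mpr ?_
        exact Subgroup.mem_centralizer_iff.mp v.2.2 _ (hT a)
      · intro v w h
        exact Subtype.ext (congrArg (fun m => (((Subtype.val m : Additive ↥V).toMul : ↥V) : X)) h)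
  · refine ⟨hGV, bot_le, e.toMonoidHom, MonoidHom.mk' (fun v => Multiplicative.ofAdd (ψ (Additive.ofMul v)))
      (fun a b => by rw [ofMul_mul, map_add, ofAdd_add]), ?_, ?_, ?_, ?_⟩
    · exact MonoidHom.range_eq_top.mpr e.surjective
    · exact fun x => ⟨(ψ.symm x.toAdd).toMul, by simp⟩
    · intro u
      rw [Subgroup.mem_bot, OneMemClass.coe_eq_one, MonoidHom.mk'_apply, ofAdd_eq_one,
        AddEquiv.map_eq_zero_iff, ofMul_eq_zero]
    · intro g u
      refine ⟨⟨_, hmem g u⟩, rfl, ?_⟩
      show ψ _ = Matrix.mulVec ((e g : SL(2, F)) : Matrix (Fin 2) (Fin 2) F) (ψ (Additive.ofMul u))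
      rw [← hψ]
      refine congrArg ψ (Additive.toMul.injective (Subtype.ext ?_))
      rw [hcoe]
      simp

end Cfsg.Agent.S3009
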