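import Cfsg.Statements.S3012


set_option autoImplicit false
open Cfsg

namespace Cfsg.Agent.S3012

/-- Let G be a finite group, V a nontrivial elementary abelian 2-subgroup of G satisfying the Sidki pair condition (every odd-order element inverted by an element of V commutes with a nontrivial element of V), and K a normal subgroup of G with V ∩ K = 1. Then the image of V in G/K satisfies the Sidki pair condition in G/K. -/
theorem result {G : Type*} [Group G] [Finite G] (V K : Subgroup G) [K.Normal] (hV : Cfsg.IsElementaryAbelian 2 V) (hV1 : V ≠ ⊥) (hS : Cfsg.IsSidkiPair V) (hVK : V ⊓ K = ⊥) : Cfsg.IsSidkiPair (V.map (QuotientGroup.mk' K)) := by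
  intro hb vb hvb hodd hinv
  obtain ⟨v, hv, rfl⟩ := hvb
  obtain ⟨h, rfl⟩ := QuotientGroup.mk'_surjective K hb
  have hv2 : v * v = 1 := by rw [← pow_two]; exact hV.2 v hv
  have hvi : v⁻¹ = v := inv_eq_of_mul_eq_one_right hv2
  let z : G := h * v * h⁻¹ * v⁻¹
  have hz : v * z * v⁻¹ = z⁻¹ := by
    simp only [z, mul_inv_rev, inv_inv, hvi]
    simp only [← mul_assoc]
    rw [mul_assoc (v * h * v * h⁻¹) v v, hv2, mul_one]
  obtain ⟨a, b, hb', hab⟩ := Nat.exists_eq_two_pow_mul_odd (orderOf_pos z).ne'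
  have hord : Odd (orderOf (z ^ 2 ^ a)) := by
    rw [orderOf_pow' z (pow_ne_zero a two_ne_zero), hab, Nat.gcd_eq_right (dvd_mul_right _ _),
      Nat.mul_div_cancel_left _ (pow_pos two_pos a)]
    exact hb'
  obtain ⟨w, hw, hw1, hwc⟩ := hS (z ^ 2 ^ a) v hv hord (by rw [← conj_pow, hz, inv_pow])
  refine ⟨_, Subgroup.mem_map_of_mem _ hw, ?_, ?_⟩
  · intro hh
    rw [QuotientGroup.mk'_apply, QuotientGroup.eq_one_iff] at hh
    exact hw1 (Subgroup.mem_bot.1 (hVK ▸ Subgroup.mem_inf.2 ⟨hw, hh⟩))
  · set π := QuotientGroup.mk' K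
    have e : π z = π h ^ 2 := by
      calc π z = π h * (π v * (π h)⁻¹ * (π v)⁻¹) := by simp only [z, map_mul, map_inv, mul_assoc]
        _ = π h * π h := by rw [← conj_inv, hinv, inv_inv]
        _ = π h ^ 2 := (pow_two _).symm
    have hc : Commute (π w) (π h ^ 2 ^ (a + 1)) := by
      rw [pow_succ' 2 a, pow_mul, ← e, ← map_pow]
      exact Commute.map hwc π
    have hcop : Nat.Coprime (2 ^ (a + 1)) (orderOf (π h)) := (hodd.coprime_two_left).pow_left _
    obtain ⟨m, hm⟩ := exists_pow_eq_self_of_coprime hcop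
    have := hc.pow_right m
    rw [hm] at this
    exact this

end Cfsg.Agent.S3012
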