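import Cfsg.Statements.S3013


set_option autoImplicit false
open Cfsg

namespace Cfsg.Agent.S3013

/-- Let G be a finite group and V a nontrivial elementary abelian 2-subgroup of G satisfying the Sidki pair condition. Let v ∈ V and let x be an element of odd order inverted by v, and put C = C_G(v) ∩ C_G(x), the centralizer of the dihedral subgroup generated by v and x. Then C ∩ V is nontrivial and satisfies the Sidki pair condition inside C: every odd-order element of C inverted by an element of C ∩ V commutes with a nontrivial element of C ∩ V. -/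
theorem result {G : Type*} [Group G] [Finite G] (V : Subgroup G) (hV : Cfsg.IsElementaryAbelian 2 V) (hV1 : V ≠ ⊥) (hS : Cfsg.IsSidkiPair V) (v x : G) (hv : v ∈ V) (hx : Odd (orderOf x)) (hinv : v * x * v⁻¹ = x⁻¹) (C : Subgroup G) (hC : C = Subgroup.centralizer ({v} : Set G) ⊓ Subgroup.centralizer ({x} : Set G)) : C ⊓ V ≠ ⊥ ∧ Cfsg.IsSidkiPair ((C ⊓ V).subgroupOf C) := by
  subst hC
  have hcomm : ∀ a ∈ V, ∀ b ∈ V, a * b = b * a := fun a ha b hb =>
    congrArg Subtype.val (hV.1.is_comm.comm ⟨a, ha⟩ ⟨b, hb⟩)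
  have hmem : ∀ w, w ∈ V → w * x = x * w →
      w ∈ (Subgroup.centralizer ({v} : Set G) ⊓ Subgroup.centralizer ({x} : Set G)) ⊓ V := by
    intro w hw hwx
    exact ⟨⟨Subgroup.mem_centralizer_singleton_iff.2 (hcomm w hw v hv),
      Subgroup.mem_centralizer_singleton_iff.2 hwx⟩, hw⟩
  refine ⟨?_, ?_⟩
  · obtain ⟨w, hw, hw1, hwx⟩ := hS x v hv hx hinv
    exact fun hbot => hw1 (Subgroup.mem_bot.1 (hbot ▸ hmem w hw hwx))
  · rintro ⟨h, hh⟩ ⟨u, hu⟩ huV hodd hinv'
    have hu' : u ∈ V := huV.2
    replace hinv' : u * h * u⁻¹ = h⁻¹ := congrArg Subtype.val hinv'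
    rw [Subgroup.orderOf_mk] at hodd
    have hhv : h * v = v * h := Subgroup.mem_centralizer_singleton_iff.1 hh.1
    have hhx : Commute h x := Subgroup.mem_centralizer_singleton_iff.1 hh.2
    have hux : u * x = x * u := Subgroup.mem_centralizer_singleton_iff.1 hu.2
    have hodd' : Odd (orderOf (h * x)) :=
      (hodd.mul hx).of_dvd_nat hhx.orderOf_mul_dvd_mul_orderOf
    have hvh : v * h * v⁻¹ = h := by rw [← hhv, mul_inv_cancel_right]
    have hinv'' : (u * v) * (h * x) * (u * v)⁻¹ = (h * x)⁻¹ := by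
      calc (u * v) * (h * x) * (u * v)⁻¹ = u * ((v * h * v⁻¹) * (v * x * v⁻¹)) * u⁻¹ := by group
        _ = (u * h * u⁻¹) * (u * x * u⁻¹)⁻¹ := by rw [hvh, hinv]; group
        _ = h⁻¹ * x⁻¹ := by rw [hinv', hux, mul_inv_cancel_right]
        _ = (h * x)⁻¹ := by rw [mul_inv_rev]; exact hhx.inv_inv.eq
    obtain ⟨w, hw, hw1, hwc⟩ := hS (h * x) (u * v) (mul_mem hu' hv) hodd' hinv''
    have hwv : Commute w v := hcomm w hw v hv
    have h2 : Commute w (h * x⁻¹) := by
      have e : h * x⁻¹ = v * (h * x) * v⁻¹ := by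
        rw [show v * (h * x) * v⁻¹ = (v * h * v⁻¹) * (v * x * v⁻¹) by group, hvh, hinv]
      rw [e]
      exact (hwv.mul_right hwc).mul_right hwv.inv_right
    have h3 : Commute w (x ^ 2) := by
      have e : x ^ 2 = (h * x⁻¹)⁻¹ * (h * x) := by rw [pow_two]; group
      rw [e]
      exact h2.inv_right.mul_right hwc
    have h4 : Commute w x := by
      obtain ⟨m, hm⟩ := exists_pow_eq_self_of_coprime (hx.coprime_two_left)
      have := h3.pow_right m
      rwa [hm] at this
    have h5 : Commute w h := by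
      have e : h = h * x * x⁻¹ := by group
      rw [e]
      exact Commute.mul_right hwc h4.inv_right
    have hwC := hmem w hw h4.eq
    exact ⟨⟨w, hwC.1⟩, hwC, fun hh' => hw1 (congrArg Subtype.val hh'), Subtype.ext h5.eq⟩

end Cfsg.Agent.S3013
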