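import Cfsg.Statements.S3014
import Cfsg.Agent.Lib.CharP.StronglyEmbedded
import Mathlib.GroupTheory.Transfer
import Mathlib.GroupTheory.SpecificGroups.Cyclic

set_option autoImplicit false
open Cfsg

namespace Cfsg.Agent.S3014

theorem normal_in {G : Type*} [Group G] (H M : Subgroup G) (hHM : H ≤ M)
    (hcl : ∀ g : G, (H ⊔ H.map (MulAut.conj g).toMonoidHom) ⊓ M = H) :
    ∀ m ∈ M, ∀ h ∈ H, m * h * m⁻¹ ∈ H := by
  intro m hm h hh
  have hle : H.map (MulAut.conj m).toMonoidHom ≤ M := by
    rintro _ ⟨x, hx, rfl⟩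
    exact mul_mem (mul_mem hm (hHM hx)) (inv_mem hm)
  have h1 := hcl m
  rw [inf_eq_left.2 (sup_le hHM hle)] at h1
  exact le_of_le_of_eq le_sup_right h1 ⟨h, hh, rfl⟩

theorem mem_normalizer_sup {G : Type*} [Group G] {A B : Subgroup G} {u : G}
    (ha : u ∈ Subgroup.normalizer (A : Set G)) (hb : u ∈ Subgroup.normalizer (B : Set G)) :
    u ∈ Subgroup.normalizer ((A ⊔ B : Subgroup G) : Set G) := by
  rw [Subgroup.mem_normalizer_iff_map_conj_eq] at *
  rw [Subgroup.map_sup, ha, hb]

theorem transfer_eq {G : Type*} [Group G] [Finite G] {A : Type*} [CommGroup A] (M : Subgroup G)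
    (φ : ↥M →* A)
    (hkey : ∀ g : G, g ∉ M → ∀ (u : G) (hu : u ∈ M), g⁻¹ * u * g ∈ M → φ ⟨u, hu⟩ = 1)
    (m : ↥M) : MonoidHom.transfer φ (m : G) = φ m := by
  classical
  haveI : Fintype (Quotient (MulAction.orbitRel (Subgroup.zpowers (m : G)) (G ⧸ M))) :=
    Fintype.ofFinite _
  have hfix : ∀ j : Subgroup.zpowers (m : G),
      j • ((1 : G) : G ⧸ M) = ((1 : G) : G ⧸ M) := by
    rintro ⟨j, hj⟩
    show ((j * 1 : G) : G ⧸ M) = _
    rw [mul_one, QuotientGroup.eq, mul_one]
    exact inv_mem ((Subgroup.zpowers_le.2 m.2) hj)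
  rw [MonoidHom.transfer_eq_prod_quotient_orbitRel_zpowers_quot]
  let q0 : Quotient (MulAction.orbitRel (Subgroup.zpowers (m : G)) (G ⧸ M)) :=
    Quotient.mk'' ((1 : G) : G ⧸ M)
  have hq0 : q0.out = ((1 : G) : G ⧸ M) := by
    have h := Quotient.mk_out (s := MulAction.orbitRel (Subgroup.zpowers (m : G)) (G ⧸ M))
      ((1 : G) : G ⧸ M)
    obtain ⟨j, hj⟩ := h
    exact hj.symm.trans (hfix j)
  have hc0 : q0.out.out ∈ M := by
    rw [hq0]
    have h := QuotientGroup.out_eq' ((1 : G) : G ⧸ M)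
    rw [QuotientGroup.eq, mul_one] at h
    exact inv_mem_iff.1 h
  have hper : Function.minimalPeriod ((m : G) • ·) q0.out = 1 := by
    rw [Function.minimalPeriod_eq_one_iff_isFixedPt, hq0]
    exact hfix ⟨m, Subgroup.mem_zpowers _⟩
  rw [Fintype.prod_eq_single q0]
  · have e : (⟨q0.out.out⁻¹ * (m : G) ^ Function.minimalPeriod ((m : G) • ·) q0.out * q0.out.out,
        QuotientGroup.out_conj_pow_minimalPeriod_mem M (m : G) q0.out⟩ : ↥M)
        = (⟨q0.out.out, hc0⟩ : ↥M)⁻¹ * m * ⟨q0.out.out, hc0⟩ := by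
      apply Subtype.ext
      simp [hper]
    rw [e, map_mul, map_mul, map_inv, mul_comm (φ _)⁻¹, inv_mul_cancel_right]
  · intro q hq
    have hc : q.out.out ∉ M := by
      intro hc
      apply hq
      have e : q.out = ((1 : G) : G ⧸ M) := by
        rw [← QuotientGroup.out_eq' q.out, QuotientGroup.eq, mul_one]
        exact inv_mem hc
      rw [← Quotient.out_eq' q, e]
    refine hkey q.out.out⁻¹ (fun h => hc (inv_mem_iff.1 h)) _ _ ?_
    have e : q.out.out⁻¹⁻¹ * (q.out.out⁻¹ * (m : G) ^ Function.minimalPeriod ((m : G) • ·) q.out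
        * q.out.out) * q.out.out⁻¹ = (m : G) ^ Function.minimalPeriod ((m : G) • ·) q.out := by
      group
    rw [e]
    exact pow_mem m.2 _


/-- Let G be a finite group and H ≤ M ≤ G subgroups such that for every g ∈ G the subgroup generated by H and g H g⁻¹ meets M exactly in H. If H is a maximal subgroup of M and M is a maximal subgroup of G, then the normal closure of H in G meets M exactly in H. -/
theorem result {G : Type*} [Group G] [Finite G] (H M : Subgroup G) (hHM : H ≤ M) (hcl : ∀ g : G, (H ⊔ H.map (MulAut.conj g).toMonoidHom) ⊓ M = H) (hmaxH : IsCoatom (H.subgroupOf M)) (hmaxM : IsCoatom M) : Subgroup.normalClosure (H : Set G) ⊓ M = H := by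
  have hn := normal_in H M hHM hcl
  have hMN : M ≤ Subgroup.normalizer (H : Set G) := fun m hm => by
    rw [Subgroup.mem_normalizer_iff]
    refine fun h => ⟨hn m hm h, fun h' => ?_⟩
    have := hn m⁻¹ (inv_mem hm) _ h'
    simpa [mul_assoc] using this
  have hne : H ≠ M := by
    intro h
    exact hmaxH.1 (by rw [h, Subgroup.subgroupOf_self])
  have hbetween : ∀ K : Subgroup G, H ≤ K → K ≤ M → K ≠ H → K = M := by
    intro K h1 h2 h3
    have hlt : H.subgroupOf M < K.subgroupOf M := by
      refine lt_of_le_of_ne (Subgroup.comap_mono h1) fun h => h3 ?_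
      have := congrArg (Subgroup.map M.subtype) h
      rw [Subgroup.map_subgroupOf_eq_of_le hHM, Subgroup.map_subgroupOf_eq_of_le h2] at this
      exact this.symm
    exact le_antisymm h2 (Subgroup.subgroupOf_eq_top.1 (hmaxH.2 _ hlt))
  set N := Subgroup.normalClosure (H : Set G) with hN
  have hHN : H ≤ N := Subgroup.subset_normalClosure
  by_contra hcon
  have hMleN : M ≤ N := by
    have := hbetween (N ⊓ M) (le_inf hHN hHM) inf_le_right hcon
    exact inf_eq_right.1 this
  -- the normal closure is everything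
  have hnotnormal : ¬ H.Normal := fun h =>
    hne (le_antisymm hHM (hMleN.trans (Subgroup.normalClosure_le_normal le_rfl)))
  have hNHM : Subgroup.normalizer (H : Set G) = M :=
    ((hmaxM.le_iff.1 hMN).resolve_left fun h => hnotnormal (Subgroup.normalizer_eq_top_iff.1 h))
  have hNtop : N = ⊤ := by
    refine (hmaxM.le_iff.1 hMleN).resolve_right fun h => hnotnormal ?_
    rw [← Subgroup.normalizer_eq_top_iff, eq_top_iff]
    intro g _
    haveI : N.Normal := Subgroup.normalClosure_normal
    have hle : H.map (MulAut.conj g).toMonoidHom ≤ M := by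
      rintro _ ⟨x, hx, rfl⟩
      exact h ▸ ‹N.Normal›.conj_mem x (hHN hx) g
    have h1 := hcl g
    rw [inf_eq_left.2 (sup_le hHM hle)] at h1
    have h2 : H.map (MulAut.conj g).toMonoidHom = H :=
      Subgroup.eq_of_le_of_card_ge (le_of_le_of_eq le_sup_right h1)
        (le_of_eq (Subgroup.card_map_of_injective (MulAut.conj g).injective).symm)
    exact Subgroup.mem_normalizer_iff_map_conj_eq.2 h2
  -- distinct conjugates of `M` meet inside `H`
  have hkey : ∀ g : G, g ∉ M → ∀ u ∈ M, g⁻¹ * u * g ∈ M → u ∈ H := by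
    intro g hg u hu hu'
    by_contra huH
    have h1 : u ∈ Subgroup.normalizer ((H.map (MulAut.conj g).toMonoidHom : Subgroup G) : Set G) := by
      have := CharP.conj_mem_normalizer_map g (hMN hu')
      simpa [mul_assoc] using this
    set T := H ⊔ H.map (MulAut.conj g).toMonoidHom with hT
    have h2 : u ∈ Subgroup.normalizer (T : Set G) := mem_normalizer_sup (hMN hu) h1
    have hM' : M ≤ T ⊔ Subgroup.zpowers u := by
      have h3 := hbetween (H ⊔ Subgroup.zpowers u) le_sup_left
        (sup_le hHM (Subgroup.zpowers_le.2 hu))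
        (fun h => huH (le_of_le_of_eq le_sup_right h (Subgroup.mem_zpowers u)))
      rw [← h3]
      exact sup_le_sup_right le_sup_left _
    rcases hmaxM.le_iff.1 hM' with h | h
    · have hTn : T.Normal := by
        rw [← Subgroup.normalizer_eq_top_iff, eq_top_iff, ← h]
        exact sup_le Subgroup.le_normalizer (Subgroup.zpowers_le.2 h2)
      have hTtop : T = ⊤ := top_le_iff.1 (hNtop ▸
        (Subgroup.normalClosure_le_normal (N := T) (fun x hx => (le_sup_left : H ≤ T) hx)))
      have h4 := hcl g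
      rw [← hT, hTtop, top_inf_eq] at h4
      exact hne h4.symm
    · have hTM : T ≤ M := h ▸ le_sup_left
      have h4 := hcl g
      rw [← hT, inf_eq_left.2 hTM] at h4
      have h5 : H.map (MulAut.conj g).toMonoidHom = H :=
        Subgroup.eq_of_le_of_card_ge (le_of_le_of_eq le_sup_right h4)
          (le_of_eq (Subgroup.card_map_of_injective (MulAut.conj g).injective).symm)
      exact hg (hNHM ▸ Subgroup.mem_normalizer_iff_map_conj_eq.2 h5)
  -- the quotient `M / H` is cyclic
  haveI hHn : (H.subgroupOf M).Normal :=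
    ⟨fun x hx m => hn m m.2 x hx⟩
  obtain ⟨u, huM, huH⟩ : ∃ u ∈ M, u ∉ H :=
    SetLike.not_le_iff_exists.1 fun h => hne (le_antisymm hHM h)
  haveI : IsCyclic (↥M ⧸ H.subgroupOf M) := by
    refine ⟨(⟨u, huM⟩ : ↥M), fun x => ?_⟩
    obtain ⟨x, rfl⟩ := QuotientGroup.mk_surjective x
    have h1 : x ∈ (Subgroup.zpowers ((⟨u, huM⟩ : ↥M) : ↥M ⧸ H.subgroupOf M)).comap
        (QuotientGroup.mk' (H.subgroupOf M)) := by
      have h2 : H.subgroupOf M < (Subgroup.zpowers ((⟨u, huM⟩ : ↥M) : ↥M ⧸ H.subgroupOf M)).comap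
          (QuotientGroup.mk' (H.subgroupOf M)) := by
        refine lt_of_le_not_ge (fun y hy => ?_) fun h => huH (h (Subgroup.mem_zpowers _) :)
        rw [Subgroup.mem_comap, QuotientGroup.mk'_apply, (QuotientGroup.eq_one_iff y).2 hy]
        exact one_mem _
      rw [hmaxH.2 _ h2]
      exact Subgroup.mem_top _
    exact h1
  letI : CommGroup (↥M ⧸ H.subgroupOf M) := IsCyclic.commGroup
  have hV := transfer_eq M (QuotientGroup.mk' (H.subgroupOf M))
    (fun g hg v hv hv' => (QuotientGroup.eq_one_iff _).2 (hkey g hg v hv hv'))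
  set V := MonoidHom.transfer (QuotientGroup.mk' (H.subgroupOf M)) with hVdef
  have hHV : H ≤ V.ker := fun h hh => by
    rw [MonoidHom.mem_ker]
    rw [show h = ((⟨h, hHM hh⟩ : ↥M) : G) from rfl, hV]
    exact (QuotientGroup.eq_one_iff _).2 hh
  have htop : V.ker = ⊤ := top_le_iff.1 (hNtop ▸ Subgroup.normalClosure_le_normal hHV)
  have h1 := hV ⟨u, huM⟩
  rw [MonoidHom.mem_ker.1 (htop ▸ Subgroup.mem_top u : u ∈ V.ker)] at h1
  exact huH ((QuotientGroup.eq_one_iff (⟨u, huM⟩ : ↥M)).1 h1.symm :)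

end Cfsg.Agent.S3014
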