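import Cfsg.Statements.S3015
import Cfsg.Agent.S3014
import Cfsg.Agent.Lib.Cores.Residual
import Mathlib.GroupTheory.Transfer
import Mathlib.GroupTheory.Nilpotent

set_option autoImplicit false
open Cfsg

namespace Cfsg.Agent.S3015

theorem isCoatom_of_index_prime {K : Type*} [Group K] (B : Subgroup K) (h : B.index.Prime) :
    IsCoatom B := by
  refine ⟨fun e => h.ne_one (by rw [e, Subgroup.index_top]), fun C hC => ?_⟩
  have h1 := Subgroup.relIndex_mul_index hC.le
  rcases (Nat.dvd_prime h).1 (Dvd.intro_left _ h1) with h2 | h2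
  · exact Subgroup.index_eq_one.1 h2
  · rw [h2] at h1
    have : B.relIndex C = 1 := Nat.eq_of_mul_eq_mul_right h.pos (h1.trans (one_mul _).symm)
    exact absurd (Subgroup.relIndex_eq_one.1 this) hC.not_ge

theorem normal_of_equiv_normal {K : Type*} [Group K] [Finite K] {p : ℕ} [Fact p.Prime]
    (A B : Subgroup K) [A.Normal] (hA : A.index = p) (hB : B.index = p) (e : ↥A ≃* ↥B) :
    B.Normal := by
  set R := Cfsg.pResidual p K with hR
  set RA := (Cfsg.pResidual p ↥A).map A.subtype with hRA
  set RB := (Cfsg.pResidual p ↥B).map B.subtype with hRB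
  haveI : RA.Normal := inferInstanceAs ((Cfsg.pResidual p ↥A).map A.subtype).Normal
  have h1 : RA ≤ R := Cores.map_pResidual_le A.subtype p
  have h2 : RB ≤ R := Cores.map_pResidual_le B.subtype p
  have h3 : R ≤ RA := by
    refine Cores.pResidual_le_of_isPGroup_quotient ?_
    obtain ⟨n, hn⟩ := Cores.pResidual_index (G := ↥A) p
    refine IsPGroup.of_card (n := n + 1) ?_
    rw [← Subgroup.index_eq_card, hRA, Subgroup.index_map_subtype, hn, hA, pow_succ]
  have hc : Nat.card RA = Nat.card RB := by
    rw [Subgroup.card_map_of_injective A.subtype_injective,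
      Subgroup.card_map_of_injective B.subtype_injective, ← Cores.map_pResidual_eq e p,
      Subgroup.card_map_of_injective e.injective]
  have h4 : R ≤ B := by
    have : RB = R := Subgroup.eq_of_le_of_card_ge h2 (by
      rw [← hc]; exact Subgroup.card_le_of_le h3)
    rw [← this]
    exact Subgroup.map_subtype_le _
  have hker : (QuotientGroup.mk' R).ker ≤ B := by rwa [QuotientGroup.ker_mk']
  have hidx : (B.map (QuotientGroup.mk' R)).index = p := by
    rw [Subgroup.index_map_eq _ (QuotientGroup.mk'_surjective R) hker, hB]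
  have hco : IsCoatom (B.map (QuotientGroup.mk' R)) :=
    isCoatom_of_index_prime _ (by rw [hidx]; exact Fact.out)
  haveI : Group.IsNilpotent (K ⧸ R) :=
    (Cores.isPGroup_quotient_pResidual (G := K) p).isNilpotent
  have hn : (B.map (QuotientGroup.mk' R)).Normal :=
    Subgroup.NormalizerCondition.normal_of_coatom _ Group.normalizerCondition_of_isNilpotent hco
  have := hn.comap (QuotientGroup.mk' R)
  rwa [Subgroup.comap_map_eq_self hker] at this



/-- Let G be a finite non-abelian simple group, M a maximal subgroup of G and H a normal subgroup of M of prime index in M. Then G is generated by H together with one of its conjugates. -/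
theorem result {G : Type*} [Group G] [Finite G] [IsSimpleGroup G] (hG : ¬ IsMulCommutative G) (M H : Subgroup G) (hmaxM : IsCoatom M) (hHM : H ≤ M) (hHn : (H.subgroupOf M).Normal) (hidx : (H.relIndex M).Prime) : ∃ g : G, H ⊔ H.map (MulAut.conj g).toMonoidHom = ⊤ := by
  by_contra hcon
  push_neg at hcon
  have hnn : ∀ K : Subgroup G, K.Normal → K = ⊥ ∨ K = ⊤ := fun K hK => hK.eq_bot_or_eq_top
  have hHneM : H ≠ M := fun h => hidx.ne_one (by rw [h, Subgroup.relIndex_self])
  have hMbot : M ≠ ⊥ := fun h => hHneM ((le_bot_iff.1 (h ▸ hHM)).trans h.symm)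
  have hMnn : ¬ M.Normal := fun h => (hnn M h).elim hMbot hmaxM.1
  have hNM : Subgroup.normalizer (M : Set G) = M :=
    (hmaxM.le_iff.1 Subgroup.le_normalizer).resolve_left
      fun h => hMnn (Subgroup.normalizer_eq_top_iff.1 h)
  haveI := Fact.mk hidx
  by_cases hH : H = ⊥
  · -- `M` has prime order, hence is a self-centralizing Sylow subgroup
    subst hH
    have hcard : Nat.card M = (⊥ : Subgroup G).relIndex M := (Subgroup.relIndex_bot_left M).symm
    obtain ⟨P, hP⟩ := (IsPGroup.of_card (n := 1) (by rw [hcard, pow_one]) :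
      IsPGroup ((⊥ : Subgroup G).relIndex M) M).exists_le_sylow
    have hPM : (P : Subgroup G) = M := by
      refine (hmaxM.le_iff.1 hP).resolve_left fun h => hMnn ?_
      haveI : Group.IsNilpotent G := by
        haveI := P.2.isNilpotent
        exact Group.nilpotent_of_mulEquiv ((MulEquiv.subgroupCongr h).trans Subgroup.topEquiv)
      exact Subgroup.NormalizerCondition.normal_of_coatom _
        Group.normalizerCondition_of_isNilpotent hmaxM
    haveI : IsCyclic M := isCyclic_of_prime_card hcard
    have hcent : Subgroup.normalizer ((P : Subgroup G) : Set G) ≤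
        Subgroup.centralizer ((P : Subgroup G) : Set G) := by
      rw [hPM, hNM]
      intro x hx
      rw [Subgroup.mem_centralizer_iff]
      intro y hy
      letI : CommGroup M := IsCyclic.commGroup
      exact congrArg Subtype.val (mul_comm (⟨y, hy⟩ : M) ⟨x, hx⟩)
    have hcompl := MonoidHom.ker_transferSylow_isComplement' P hcent
    rcases hnn (MonoidHom.transferSylow P hcent).ker (MonoidHom.normal_ker _) with h | h
    · rw [h, Subgroup.isComplement'_bot_left] at hcompl
      exact hmaxM.1 (hPM ▸ hcompl)
    · rw [h, Subgroup.isComplement'_top_left] at hcompl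
      exact hMbot (hPM ▸ hcompl)
  have hHn' : ¬ H.Normal := fun h => (hnn H h).elim hH fun e => hmaxM.1 (top_le_iff.1 (e ▸ hHM))
  -- some conjugate of `H` joins `H` to `M`
  have hco : IsCoatom (H.subgroupOf M) := isCoatom_of_index_prime _ hidx
  obtain ⟨g, hg⟩ : ∃ g : G, (H ⊔ H.map (MulAut.conj g).toMonoidHom) ⊓ M ≠ H := by
    by_contra hall
    push_neg at hall
    have h := S3014.result H M hHM hall hco hmaxM
    rcases hnn _ (Subgroup.normalClosure_normal (s := (H : Set G))) with h1 | h1
    · exact hH (le_bot_iff.1 (h1 ▸ Subgroup.subset_normalClosure))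
    · rw [h1, top_inf_eq] at h
      exact hHneM h.symm
  have hMT : M ≤ H ⊔ H.map (MulAut.conj g).toMonoidHom := by
    set T := H ⊔ H.map (MulAut.conj g).toMonoidHom
    have h1 : H.subgroupOf M < (T ⊓ M).subgroupOf M := by
      refine lt_of_le_of_ne (Subgroup.comap_mono (le_inf le_sup_left hHM)) fun h => hg ?_
      have := congrArg (Subgroup.map M.subtype) h
      rw [Subgroup.map_subgroupOf_eq_of_le hHM,
        Subgroup.map_subgroupOf_eq_of_le inf_le_right] at this
      exact this.symm
    exact (Subgroup.subgroupOf_eq_top.1 (hco.2 _ h1)).trans inf_le_left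
  have hTM := (hmaxM.le_iff.1 hMT).resolve_left (hcon g)
  have hgM : g ∉ M := by
    intro hgM
    have hle : H.map (MulAut.conj g).toMonoidHom ≤ H := by
      rintro _ ⟨x, hx, rfl⟩
      exact hHn.conj_mem ⟨x, hHM hx⟩ hx ⟨g, hgM⟩
    exact hHneM (le_antisymm hHM (hTM ▸ sup_le le_rfl hle))
  set H' := H.map (MulAut.conj g).toMonoidHom with hH'
  have hH'M : H' ≤ M := hTM ▸ le_sup_right
  have hcard' : Nat.card H' = Nat.card H :=
    Subgroup.card_map_of_injective (MulAut.conj g).injective
  have hidx' : (H'.subgroupOf M).index = H.relIndex M := by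
    have h1 := Subgroup.card_mul_index (H'.subgroupOf M)
    have h2 := Subgroup.card_mul_index (H.subgroupOf M)
    rw [Nat.card_congr (Subgroup.subgroupOfEquivOfLe hH'M).toEquiv, hcard'] at h1
    rw [Nat.card_congr (Subgroup.subgroupOfEquivOfLe hHM).toEquiv] at h2
    exact Nat.eq_of_mul_eq_mul_left Nat.card_pos (h1.trans h2.symm)
  have hn' : (H'.subgroupOf M).Normal :=
    normal_of_equiv_normal (p := H.relIndex M) (H.subgroupOf M) _ rfl hidx'
      ((Subgroup.subgroupOfEquivOfLe hHM).trans
        ((H.equivMapOfInjective _ (MulAut.conj g).injective).trans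
          (Subgroup.subgroupOfEquivOfLe hH'M).symm))
  have hM1 : M ≤ Subgroup.normalizer (H' : Set G) := (Subgroup.normal_subgroupOf_iff_le_normalizer hH'M).1 hn'
  have hM2 : ∀ m ∈ M, g * m * g⁻¹ ∈ Subgroup.normalizer (H' : Set G) := fun m hm =>
    CharP.conj_mem_normalizer_map g ((Subgroup.normal_subgroupOf_iff_le_normalizer hHM).1 hHn hm)
  rcases hmaxM.le_iff.1 hM1 with h | h
  · rcases hnn H' (Subgroup.normalizer_eq_top_iff.1 h) with h1 | h1
    · exact hH (Subgroup.card_eq_one.1 (hcard' ▸ Subgroup.card_eq_one.2 h1))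
    · exact hmaxM.1 (top_le_iff.1 (h1 ▸ hH'M))
  · refine hgM (hNM ▸ ?_)
    rw [Subgroup.mem_normalizer_iff_map_conj_eq]
    refine Subgroup.eq_of_le_of_card_ge ?_
      (Subgroup.card_map_of_injective (MulAut.conj g).injective).ge
    rintro _ ⟨m, hm, rfl⟩
    exact h ▸ hM2 m hm

end Cfsg.Agent.S3015
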