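import Cfsg.Statements.S3020
import Cfsg.Agent.Lib.Transfer.Frobenius
import Cfsg.Agent.Lib.Cores.Basic

set_option autoImplicit false
open Cfsg

namespace Cfsg.Agent.S3020

open scoped commutatorElement

/-- Let G be a finite group, p a prime and H an abelian p-subgroup of G that is extremely closed (for every g, the subgroup generated by H and g H g⁻¹ meets N_G(H) exactly in H). Then for every g ∈ G, the subgroup T generated by H and g H g⁻¹ is the product of H with O_{p'}(T), and H meets O_{p'}(T) trivially; that is, O_{p'}(T) is a normal p-complement of H in T. -/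
theorem result {G : Type*} [Group G] [Finite G] {p : ℕ} [Fact p.Prime] (H : Subgroup G) (hHp : IsPGroup p H) (hHab : IsMulCommutative H) (hcl : Cfsg.IsExtremelyClosed H) (g : G) (T : Subgroup G) (hT : T = H ⊔ H.map (MulAut.conj g).toMonoidHom) : H ⊔ (Cfsg.pPrimeCore p ↥T).map T.subtype = T ∧ H ⊓ (Cfsg.pPrimeCore p ↥T).map T.subtype = ⊥ := by
  set H' := H.subgroupOf T
  have hHT : H ≤ T := hT ▸ le_sup_left
  have hnorm : Subgroup.normalizer (H' : Set ↥T) ≤ H' := by
    intro x hx
    rw [← Subgroup.subgroupOf_normalizer_eq hHT, Subgroup.mem_subgroupOf] at hx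
    rw [Subgroup.mem_subgroupOf, ← hcl g, ← hT]
    exact ⟨x.2, hx⟩
  have hH'p : IsPGroup p ↥H' := hHp.comap_subtype
  obtain ⟨P, hP⟩ := hH'p.exists_le_sylow
  have hPH : (P : Subgroup ↥T) = H' := by
    refine le_antisymm ?_ hP
    by_contra h
    exact (Cfsg.Agent.Transfer.Frobenius.lt_inf_normalizer P.2 (lt_of_le_not_ge hP h)).not_ge
      (inf_le_right.trans hnorm)
  have hcent : H' ≤ Subgroup.centralizer (H' : Set ↥T) := fun a ha b hb => by
    exact Subtype.ext (setLike_mul_comm (show (b : G) ∈ H from hb) ha)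
  obtain ⟨N, hN, hNc⟩ := (Transfer.NormalPComplement.hasNormalPComplement_iff_sylow P).1
    (Transfer.NormalPComplement.hasNormalPComplement_of_normalizer_le_centralizer P
      (by rw [← Sylow.coe_coe, hPH]; exact hnorm.trans hcent))
  have hNcop : (Nat.card ↥N).Coprime p := by
    rw [← hNc.index_eq_card]
    exact (((Fact.out : p.Prime).coprime_iff_not_dvd).mpr P.not_dvd_index).symm
  have hNO : N ≤ Cfsg.pPrimeCore p ↥T := Cores.le_pPrimeCore hNcop
  constructor
  · refine le_antisymm (sup_le hHT (Subgroup.map_subtype_le _)) ?_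
    calc T = (⊤ : Subgroup ↥T).map T.subtype := by
          rw [← MonoidHom.range_eq_map, Subgroup.range_subtype]
      _ = N.map T.subtype ⊔ (P : Subgroup ↥T).map T.subtype := by
          rw [← Subgroup.map_sup, hNc.sup_eq_top]
      _ ≤ _ := sup_le ((Subgroup.map_mono hNO).trans le_sup_right)
          (by rw [hPH]; exact (Subgroup.map_subgroupOf_eq_of_le hHT).le.trans le_sup_left)
  · rw [← Subgroup.map_subgroupOf_eq_of_le hHT, ← Subgroup.map_inf _ _ _ T.subtype_injective,
      Subgroup.map_eq_bot_iff, Subgroup.ker_subtype, le_bot_iff]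
    obtain ⟨n, hn⟩ := IsPGroup.iff_card.1 hH'p
    refine Subgroup.inf_eq_bot_of_coprime ?_
    rw [show Nat.card ↥(Subgroup.subgroupOf H T) = p ^ n from hn]
    exact (Cores.pPrimeCore_card_coprime p).symm.pow_left n

end Cfsg.Agent.S3020
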