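import Cfsg.Statements.S3025
import Cfsg.Agent.Lib.PGroups.UniqueSubgroup
import Cfsg.Agent.Lib.CharP.Basic

set_option autoImplicit false
open Cfsg

namespace Cfsg.Agent.S3025

/-- Let F be a finite group and H a nontrivial subgroup of F that is contained in every nontrivial subgroup of F which H normalizes. Then F has a nontrivial normal subgroup N contained in every nontrivial normal subgroup of F (a unique minimal normal subgroup), N is simple, and one of the following holds: C_F(N) = 1; or H = N has prime order p, C_F(N) is cyclic of order a power of p, and F/C_F(N) is cyclic of order dividing p − 1; or H = N has order 2, N is central in F, and F is a generalized quaternion group. -/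
theorem result {F : Type*} [Group F] [Finite F] (H : Subgroup F) (hH : H ≠ ⊥)
    (hmin : ∀ R : Subgroup F, R ≠ ⊥ → H ≤ Subgroup.normalizer (R : Set F) → H ≤ R) :
    ∃ N : Subgroup F, N.Normal ∧ N ≠ ⊥ ∧ (∀ M : Subgroup F, M.Normal → M ≠ ⊥ → N ≤ M) ∧ IsSimpleGroup ↥N ∧
      (Subgroup.centralizer (N : Set F) = ⊥ ∨
       (H = N ∧ (Nat.card N).Prime ∧ IsCyclic ↥(Subgroup.centralizer (N : Set F)) ∧
          (∃ k : ℕ, 1 ≤ k ∧ Nat.card ↥(Subgroup.centralizer (N : Set F)) = Nat.card N ^ k) ∧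
          (∃ g : F, Subgroup.centralizer (N : Set F) ⊔ Subgroup.zpowers g = ⊤) ∧
          (Subgroup.centralizer (N : Set F)).index ∣ Nat.card N - 1) ∨
       (H = N ∧ Nat.card N = 2 ∧ Subgroup.centralizer (N : Set F) = ⊤ ∧
          ∃ k : ℕ, 1 ≤ k ∧ Nonempty (F ≃* QuaternionGroup (2 ^ k)))) := by
  classical
  -- the unique minimal normal subgroup
  set N : Subgroup F := ⨅ M : {M : Subgroup F // M.Normal ∧ M ≠ ⊥}, (M : Subgroup F) with hNdef
  have hNn : N.Normal := Subgroup.normal_iInf_normal fun M => M.2.1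
  have hNle : ∀ M : Subgroup F, M.Normal → M ≠ ⊥ → N ≤ M := fun M hM hM1 =>
    iInf_le (fun M : {M : Subgroup F // M.Normal ∧ M ≠ ⊥} => (M : Subgroup F)) ⟨M, hM, hM1⟩
  have hHN : H ≤ N := le_iInf fun M => hmin _ M.2.2 (by
    rw [@Subgroup.normalizer_eq_top _ _ _ M.2.1]; exact le_top)
  have hN1 : N ≠ ⊥ := fun h => hH (le_bot_iff.1 (hHN.trans h.le))
  have hNs : IsSimpleGroup ↥N := by
    set K : Subgroup ↥N := ⨅ M : {M : Subgroup ↥N // M.Normal ∧ M ≠ ⊥}, (M : Subgroup ↥N) with hKdef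
    have hKn : K.Normal := Subgroup.normal_iInf_normal fun M => M.2.1
    have hKle : ∀ M : Subgroup ↥N, M.Normal → M ≠ ⊥ → K ≤ M := fun M hM hM1 =>
      iInf_le (fun M : {M : Subgroup ↥N // M.Normal ∧ M ≠ ⊥} => (M : Subgroup ↥N)) ⟨M, hM, hM1⟩
    have hHK : H.subgroupOf N ≤ K := le_iInf fun M => by
      have h1 : H ≤ (M.1).map N.subtype := by
        refine hmin _ (fun h => M.2.2 ((Subgroup.map_eq_bot_iff_of_injective _ N.subtype_injective).1 h)) ?_
        intro h hh
        exact Subgroup.le_normalizer_map N.subtype ⟨⟨h, hHN hh⟩, (@Subgroup.normalizer_eq_top _ _ _ M.2.1).symm ▸ Subgroup.mem_top _, rfl⟩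
      intro x hx
      obtain ⟨y, hy, hyx⟩ := h1 hx
      rwa [← Subtype.ext hyx]
    have hK1 : K ≠ ⊥ := fun h => hH (by
      rw [← Subgroup.map_subgroupOf_eq_of_le hHN, le_bot_iff.1 (hHK.trans h.le), Subgroup.map_bot])
    have : K.Characteristic := Subgroup.characteristic_iff_map_eq.2 fun φ => by
      refine (Subgroup.eq_of_le_of_card_ge (hKle _ (hKn.map _ φ.surjective) fun h => hK1 ?_) ?_).symm
      · exact (Subgroup.map_eq_bot_iff_of_injective _ φ.injective).1 h
      · exact le_of_eq (Nat.card_congr (K.equivMapOfInjective _ φ.injective).symm.toEquiv)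
    have hKtop : K = ⊤ := by
      have h1 := hNle (K.map N.subtype) inferInstance
        (fun h => hK1 ((Subgroup.map_eq_bot_iff_of_injective _ N.subtype_injective).1 h))
      refine eq_top_iff.2 fun x _ => ?_
      obtain ⟨y, hy, hyx⟩ := h1 x.2
      rwa [← Subtype.ext hyx]
    have : Nontrivial ↥N := (Subgroup.nontrivial_iff_ne_bot N).2 hN1
    exact ⟨fun M hM => or_iff_not_imp_left.2 fun hM1 => eq_top_iff.2 (hKtop ▸ hKle M hM hM1)⟩
  refine ⟨N, hNn, hN1, hNle, hNs, ?_⟩
  set C := Subgroup.centralizer (N : Set F)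
  by_cases hC : C = ⊥
  · exact Or.inl hC
  refine Or.inr ?_
  have hNC : N ≤ C := hNle C inferInstance hC
  let c : CommGroup ↥N := { (inferInstance : Group ↥N) with
    mul_comm := fun a b => Subtype.ext (Subgroup.mem_centralizer_iff.1 (hNC b.2) a a.2) }
  have hp : (Nat.card N).Prime := IsSimpleGroup.prime_card
  set p := Nat.card N with hpdef
  have : Fact p.Prime := ⟨hp⟩
  have hHeq : H = N := by
    rcases Nat.Prime.eq_one_or_self_of_dvd hp _ (Subgroup.card_dvd_of_le hHN) with h | h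
    · exact absurd (Subgroup.eq_bot_of_card_eq H h) hH
    · exact Subgroup.eq_of_le_of_card_ge hHN h.ge
  have hmeet : ∀ X : Subgroup F, X ≤ C → X ≠ ⊥ → N ≤ X := fun X hX hX1 => by
    rw [← hHeq]
    refine hmin X hX1 (hHeq ▸ ?_)
    exact ((Subgroup.le_centralizer_iff.1 hX)).trans (Subgroup.centralizer_le_normalizer _)
  have hord : ∀ x ∈ C, ∀ q : ℕ, q.Prime → orderOf x = q → q = p := by
    intro x hx q hq hxq
    have h1 := hmeet (Subgroup.zpowers x) (Subgroup.zpowers_le.2 hx) (fun h => by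
      rw [Subgroup.zpowers_eq_bot.1 h, orderOf_one] at hxq
      exact hq.ne_one hxq.symm)
    have h2 := Subgroup.card_dvd_of_le h1
    rw [Nat.card_zpowers, hxq, ← hpdef] at h2
    exact ((Nat.prime_dvd_prime_iff_eq hp hq).1 h2).symm
  obtain ⟨k, hk⟩ : ∃ k, Nat.card C = p ^ k :=
    ⟨_, Nat.eq_prime_pow_of_unique_prime_dvd Nat.card_pos.ne' fun {q} hq hd => by
      have : Fact q.Prime := ⟨hq⟩
      obtain ⟨x, hx⟩ := exists_prime_orderOf_dvd_card' (G := C) q hd
      exact hord x x.2 q hq (by rw [Subgroup.orderOf_coe, hx])⟩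
  have hk1 : 1 ≤ k := by
    rcases Nat.eq_zero_or_pos k with rfl | h
    · rw [pow_zero] at hk
      exact absurd (Subgroup.eq_bot_of_card_eq C hk) hC
    · exact h
  have huniq : ∀ X Y : Subgroup ↥C, Nat.card X = p → Nat.card Y = p → X = Y := by
    have key : ∀ X : Subgroup ↥C, Nat.card X = p → X.map C.subtype = N := by
      intro X hX
      refine (Subgroup.eq_of_le_of_card_ge (hmeet _ (Subgroup.map_subtype_le X) fun h => ?_) ?_).symm
      · rw [Subgroup.map_eq_bot_iff_of_injective _ C.subtype_injective] at h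
        rw [h, Subgroup.card_bot] at hX
        exact hp.one_lt.ne hX
      · exact le_of_eq ((Nat.card_congr (X.equivMapOfInjective _ C.subtype_injective).toEquiv).symm.trans hX)
    intro X Y hX hY
    exact Subgroup.map_injective C.subtype_injective ((key X hX).trans (key Y hY).symm)
  -- the quotient by `C`
  have hcyc : IsCyclic ↥N := isCyclic_of_prime_card rfl
  let φ : F →* MulAut ↥N := MulAut.conjNormal
  have hker : φ.ker = C := by
    ext g
    rw [MonoidHom.mem_ker]
    refine ⟨fun h => Subgroup.mem_centralizer_iff.2 fun n hn => ?_, fun h => ?_⟩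
    · have h1 := congrArg Subtype.val (MulEquiv.ext_iff.1 h ⟨n, hn⟩)
      rw [MulAut.conjNormal_apply] at h1
      exact (mul_inv_eq_iff_eq_mul.1 h1).symm
    · refine MulEquiv.ext fun n => Subtype.ext ?_
      rw [MulAut.conjNormal_apply, ← Subgroup.mem_centralizer_iff.1 h n n.2, mul_inv_cancel_right]
      rfl
  have hautcyc : IsCyclic (MulAut ↥N) := by
    have : IsCyclic (ZMod (Nat.card ↥N))ˣ := ZMod.isCyclic_units_prime hp
    exact isCyclic_of_surjective (IsCyclic.mulAutMulEquiv ↥N).symm.toMonoidHom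
      (IsCyclic.mulAutMulEquiv ↥N).symm.surjective
  have hidx : C.index ∣ p - 1 := by
    rw [← hker, Subgroup.index_ker]
    refine dvd_trans (Subgroup.card_subgroup_dvd_card _) (dvd_of_eq ?_)
    rw [IsCyclic.card_mulAut, Nat.totient_prime hp]
  obtain ⟨g, hg⟩ : ∃ g : F, C ⊔ Subgroup.zpowers g = ⊤ := by
    obtain ⟨⟨_, g, rfl⟩, hgen⟩ := IsCyclic.exists_generator (α := φ.range)
    refine ⟨g, eq_top_iff.2 fun y _ => ?_⟩
    obtain ⟨i, hi⟩ := Subgroup.mem_zpowers_iff.1 (hgen ⟨φ y, y, rfl⟩)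
    have hi' : φ g ^ i = φ y := congrArg Subtype.val hi
    have h1 : y * (g ^ i)⁻¹ ∈ C := by
      rw [← hker, MonoidHom.mem_ker, map_mul, map_inv, map_zpow, hi', mul_inv_cancel]
    have := mul_mem (Subgroup.mem_sup_left (T := Subgroup.zpowers g) h1)
      (Subgroup.mem_sup_right (Subgroup.zpow_mem _ (Subgroup.mem_zpowers g) i))
    simpa using this
  have hCp : IsPGroup p ↥C := IsPGroup.of_card hk
  by_cases hCc : IsCyclic ↥C
  · exact Or.inl ⟨hHeq, hp, hCc, ⟨k, hk1, hk⟩, ⟨g, hg⟩, hidx⟩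
  rcases PGroups.UniqueSubgroup.isCyclic_or_quaternion hCp huniq with h | ⟨hp2, n, ⟨e⟩⟩
  · exact absurd h hCc
  rw [hp2] at hidx
  have hCtop : C = ⊤ := Subgroup.index_eq_one.1 (Nat.dvd_one.1 hidx)
  refine Or.inr ⟨hHeq, hp2, hCtop, n, ?_, ⟨((MulEquiv.subgroupCongr hCtop).trans Subgroup.topEquiv).symm.trans e⟩⟩
  by_contra hn
  have hn0 : 2 ^ n = 1 := by rw [show n = 0 by omega, pow_zero]
  have h1 : IsCyclic (QuaternionGroup (2 ^ n)) := by
    rw [hn0]; exact QuaternionGroup.quaternionGroup_one_isCyclic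
  exact hCc (isCyclic_of_surjective e.symm.toMonoidHom e.symm.surjective)

end Cfsg.Agent.S3025
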