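import Cfsg.Statements.S3027
import Mathlib.GroupTheory.IsSubnormal
import Mathlib.GroupTheory.Commutator.Basic

set_option autoImplicit false
open Cfsg

namespace Cfsg.Agent.S3027

/-- Let G be a finite group and D a normal subgroup of G such that G/D is perfect (that is, G = G′D). Then among the subnormal subgroups B of G with BD = G there is a least one, and it is normal in G. -/
theorem result {G : Type*} [Group G] [Finite G] (D : Subgroup G) [D.Normal] (hperf : ⁅(⊤ : Subgroup G), (⊤ : Subgroup G)⁆ ⊔ D = ⊤) :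
    ∃ B : Subgroup G, B.Normal ∧ B ⊔ D = ⊤ ∧ ∀ B' : Subgroup G, B'.IsSubnormal → B' ⊔ D = ⊤ → B ≤ B' := by
  classical
  -- a supplement normalized by and normalizing another meets it in a supplement
  have hinter : ∀ X Y : Subgroup G, X ⊔ D = ⊤ → Y ⊔ D = ⊤ →
      X ≤ Subgroup.normalizer (Y : Set G) → Y ≤ Subgroup.normalizer (X : Set G) →
      (X ⊓ Y) ⊔ D = ⊤ := by
    intro X Y hX hY hXY hYX
    have hle : ⁅X, Y⁆ ≤ X ⊓ Y := by
      rw [Subgroup.commutator_le]
      intro x hx y hy
      rw [commutatorElement_def]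
      refine Subgroup.mem_inf.2 ⟨?_, mul_mem ((Subgroup.mem_normalizer_iff.1 (hXY hx) y).1 hy) (inv_mem hy)⟩
      have h1 := (Subgroup.mem_normalizer_iff.1 (hYX hy) x⁻¹).1 (inv_mem hx)
      simpa [mul_assoc] using mul_mem hx h1
    have hπ := QuotientGroup.mk'_surjective D
    have htop : ∀ Z : Subgroup G, Z ⊔ D = ⊤ → Z.map (QuotientGroup.mk' D) = ⊤ := by
      intro Z hZ
      rw [← Subgroup.map_top_of_surjective _ hπ, ← hZ, Subgroup.map_sup,
        QuotientGroup.map_mk'_self, sup_bot_eq]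
    have h1 : (⁅X, Y⁆).map (QuotientGroup.mk' D) = ⊤ := by
      rw [Subgroup.map_commutator, htop X hX, htop Y hY, ← Subgroup.map_top_of_surjective _ hπ,
        ← Subgroup.map_commutator]
      conv_rhs => rw [← hperf, Subgroup.map_sup, QuotientGroup.map_mk'_self, sup_bot_eq]
    refine top_le_iff.1 ?_
    have h2 := congrArg (Subgroup.comap (QuotientGroup.mk' D)) h1
    rw [Subgroup.comap_map_eq, QuotientGroup.ker_mk', Subgroup.comap_top] at h2
    rw [← h2]
    exact sup_le_sup_right hle D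
  obtain ⟨B, ⟨hBn, hBD⟩, hBmin⟩ := (Set.toFinite {N : Subgroup G | N.Normal ∧ N ⊔ D = ⊤}).exists_minimal
    ⟨⊤, inferInstance, top_sup_eq D⟩
  refine ⟨B, hBn, hBD, ?_⟩
  have hle_of : ∀ N : Subgroup G, N.Normal → N ⊔ D = ⊤ → B ≤ N := by
    intro N hN hND
    have h := hinter B N hBD hND (fun x _ => Subgroup.normalizer_eq_top_iff.2 hN ▸ Subgroup.mem_top x)
      (fun x _ => Subgroup.normalizer_eq_top_iff.2 hBn ▸ Subgroup.mem_top x)
    haveI := hBn
    haveI := hN
    exact (hBmin ⟨inferInstance, h⟩ inf_le_left).trans inf_le_right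
  -- a supplement inside `B` normalized by `B` is `B`
  have hnorm : ∀ Y : Subgroup G, Y ≤ B → B ≤ Subgroup.normalizer (Y : Set G) → Y ⊔ D = ⊤ → Y = B := by
    obtain ⟨Y, ⟨hYB, hYn, hYD⟩, hYmin⟩ := (Set.toFinite {Y : Subgroup G |
        Y ≤ B ∧ B ≤ Subgroup.normalizer (Y : Set G) ∧ Y ⊔ D = ⊤}).exists_minimal
      ⟨B, le_rfl, Subgroup.le_normalizer, hBD⟩
    have hleast : ∀ Z : Subgroup G, Z ≤ B → B ≤ Subgroup.normalizer (Z : Set G) → Z ⊔ D = ⊤ → Y ≤ Z := by
      intro Z hZB hZn hZD
      refine (hYmin ⟨inf_le_left.trans hYB, fun b hb => ?_,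
        hinter Y Z hYD hZD (hYB.trans hZn) (hZB.trans hYn)⟩ inf_le_left).trans inf_le_right
      rw [Subgroup.mem_normalizer_iff]
      intro x
      rw [Subgroup.mem_inf, Subgroup.mem_inf, Subgroup.mem_normalizer_iff.1 (hYn hb) x,
        Subgroup.mem_normalizer_iff.1 (hZn hb) x]
    have hYnormal : Y.Normal := by
      rw [← Subgroup.normalizer_eq_top_iff, eq_top_iff]
      intro g _
      rw [Subgroup.mem_normalizer_iff_map_conj_eq]
      refine (Subgroup.eq_of_le_of_card_ge (hleast _ ?_ ?_ ?_)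
        (Subgroup.card_map_of_injective (MulAut.conj g).injective).le).symm
      · rintro _ ⟨y, hy, rfl⟩
        exact hBn.conj_mem y (hYB hy) g
      · have h := (Subgroup.map_mono hYn).trans
          (Subgroup.le_normalizer_map (H := Y) (MulAut.conj g).toMonoidHom)
        intro b hb
        exact h ⟨g⁻¹ * b * g, by simpa using hBn.conj_mem b hb g⁻¹, by simp [mul_assoc]⟩
      · rw [← Subgroup.Normal.map_conj_eq (H := D) g]
        rw [← Subgroup.map_top_of_surjective (MulAut.conj g).toMonoidHom (MulAut.conj g).surjective,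
          ← hYD, Subgroup.map_sup]
        rfl
    intro Z hZB hZn hZD
    exact le_antisymm hZB ((hle_of Y hYnormal hYD).trans (hleast Z hZB hZn hZD))
  intro B' hB'
  induction hB' with
  | top => exact fun _ => le_top
  | step A K hAK _ hn ih =>
    intro hAD
    have hKD : K ⊔ D = ⊤ := top_le_iff.1 (hAD ▸ sup_le_sup_right hAK D)
    have hBK := ih hKD
    have hAn : B ≤ Subgroup.normalizer (A : Set G) :=
      hBK.trans ((Subgroup.normal_subgroupOf_iff_le_normalizer hAK).1 hn)
    have h1 : B ⊓ A = B := by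
      refine hnorm _ inf_le_left (fun b hb => ?_) (hinter B A hBD hAD hAn
        (fun x _ => Subgroup.normalizer_eq_top_iff.2 hBn ▸ Subgroup.mem_top x))
      rw [Subgroup.mem_normalizer_iff]
      intro x
      rw [Subgroup.mem_inf, Subgroup.mem_inf,
        Subgroup.mem_normalizer_iff.1 (Subgroup.le_normalizer hb) x,
        Subgroup.mem_normalizer_iff.1 (hAn hb) x]
    exact inf_eq_left.1 h1

end Cfsg.Agent.S3027
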