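import Cfsg.Statements.S3032
import Cfsg.Agent.Lib.CharP.SupersolvableExtension

set_option autoImplicit false
open Cfsg

namespace Cfsg.Agent.S3032

universe u

open Subgroup CharP.StronglyClosedOrder

/-- The hypothesis on `E`. -/
def Hyp {G : Type u} [Group G] (E : Subgroup G) : Prop :=
  ∀ (p : ℕ), p.Prime → ∀ P : Subgroup G, P ≤ E → IsPGroup p P → ¬ p ∣ P.relIndex E →
    ¬ IsCyclic ↥P → ∃ D : Subgroup G, D ≤ P ∧ 1 < Nat.card D ∧ Nat.card D < Nat.card P ∧
      Closed P (Nat.card D)

theorem aux : ∀ (n : ℕ) (G : Type u) [Group G] [Finite G] (E : Subgroup G) [E.Normal],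
    Nat.card E < n → Cfsg.IsSupersolvable (G ⧸ E) → Hyp E → Cfsg.IsSupersolvable G := by
  intro n
  induction n with
  | zero => intro G _ _ E _ h; omega
  | succ n ih =>
  intro G _ _ E _ hcard hGE hE
  by_cases hE1 : Nat.card E = 1
  · have : E = ⊥ := eq_bot_of_card_eq E hE1
    subst this
    exact Hall.Supersolvable.of_mulEquiv hGE QuotientGroup.quotientBot
  set p := (Nat.card E).minFac with hpdef
  have hpf : Fact p.Prime := ⟨Nat.minFac_prime hE1⟩
  have hmin : ∀ r : ℕ, r.Prime → r ∣ Nat.card E → p ≤ r := fun r hr hd =>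
    Nat.minFac_le_of_dvd hr.two_le hd
  obtain ⟨S⟩ : Nonempty (Sylow p E) := inferInstance
  set P : Subgroup G := (S : Subgroup E).map E.subtype with hPdef
  have hPE : P ≤ E := map_subtype_le _
  have hPp : IsPGroup p P := S.2.map _
  have hPsyl : CharP.IsSylIn p P E := ⟨S, rfl⟩
  have hPnd : ¬ p ∣ P.relIndex E := hPsyl.not_dvd
  let e : (S : Subgroup E) ≃* P := equivMapOfInjective _ _ E.subtype_injective
  -- normal complement in `E`
  have hnpc : Cfsg.HasNormalPComplement p E := by
    by_cases hc : IsCyclic P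
    · have : IsCyclic (S : Subgroup E) := isCyclic_of_surjective e.symm e.symm.surjective
      exact hasNormalPComplement_of_cyclic hmin S
    · obtain ⟨D, hDP, hD1, hD2, hcl⟩ := hE p hpf.out P hPE hPp hPnd hc
      obtain ⟨k, hk⟩ := IsPGroup.iff_card.1 (hPp.to_le hDP)
      refine hasNormalPComplement hk (by rintro rfl; rw [pow_zero] at hk; omega) hmin S ?_
        (by rwa [Nat.card_congr e.toEquiv])
      intro F hF hg g y hy
      have h1 := hcl (F.map E.subtype) (map_mono hF) ?_ (g : G) (show (y : G) ∈ _ from ⟨?_, ?_⟩)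
      · obtain ⟨f, hf, hfy⟩ := h1
        rwa [← E.subtype_injective hfy]
      · unfold Good at hg ⊢
        rwa [card_map_of_injective E.subtype_injective]
      · obtain ⟨f, hf, rfl⟩ := hy.1
        exact ⟨(f : G), mem_map_of_mem _ hf, rfl⟩
      · exact le_normalizer_map E.subtype ⟨y, hy.2, rfl⟩
  obtain ⟨j, hj⟩ := Transfer.NormalPComplement.hasNormalPComplement_iff_pPrimeCore.1 hnpc
  have hchar := PLocal.Cores.pPrimeCore_characteristic (p := p) (G := E)
  set K : Subgroup G := (Cfsg.pPrimeCore p E).map E.subtype with hKdef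
  have hKn : K.Normal := ConjAct.normal_of_characteristic_of_normal
  have hKE : K ≤ E := map_subtype_le _
  have hKcard : Nat.card K = Nat.card (Cfsg.pPrimeCore p E) :=
    card_map_of_injective E.subtype_injective
  have hKcop : (Nat.card K).Coprime p := hKcard ▸ PLocal.Cores.coprime_card_pPrimeCore
  have hKidx : K.relIndex E = p ^ j := by
    rw [relIndex, subgroupOf, hKdef, comap_map_eq_self_of_injective E.subtype_injective, hj]
  -- the quotient by `K`
  let f := QuotientGroup.mk' K
  have hf : Function.Surjective f := QuotientGroup.mk'_surjective K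
  have hEbn : (E.map f).Normal := Normal.map inferInstance f hf
  have hPK : E ≤ P ⊔ K := by
    have hle : P ⊔ K ≤ E := sup_le hPE hKE
    have h1 : (P ⊔ K).relIndex E ∣ P.relIndex E := relIndex_dvd_of_le_left _ le_sup_left
    have h2 : (P ⊔ K).relIndex E ∣ p ^ j := hKidx ▸ relIndex_dvd_of_le_left _ le_sup_right
    exact relIndex_eq_one.1 (Nat.eq_one_of_dvd_coprimes
      ((hpf.out.coprime_iff_not_dvd.2 hPnd).pow_left j).symm h1 h2)
  have hEb : E.map f = P.map f :=
    le_antisymm ((map_mono hPK).trans (le_of_eq (by rw [Subgroup.map_sup, QuotientGroup.map_mk'_self, sup_bot_eq])))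
      (map_mono hPE)
  have hinj : Set.InjOn f P := by
    intro a ha b hb hab
    have h1 : a⁻¹ * b ∈ K := QuotientGroup.eq.1 hab
    have h2 : a⁻¹ * b ∈ P := P.mul_mem (P.inv_mem ha) hb
    obtain ⟨i, hi⟩ := IsPGroup.iff_orderOf.1 hPp ⟨_, h2⟩
    rw [orderOf_mk] at hi
    have h3 : orderOf (a⁻¹ * b) ∣ Nat.card K := by
      rw [← orderOf_mk _ h1]; exact orderOf_dvd_natCard _
    have h4 : orderOf (a⁻¹ * b) = 1 :=
      Nat.eq_one_of_dvd_coprimes ((hKcop.symm).pow_left i) (hi ▸ dvd_rfl) h3
    exact inv_mul_eq_one.1 (orderOf_eq_one_iff.1 h4)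
  have hcardf : ∀ F : Subgroup G, F ≤ P → Nat.card (F.map f) = Nat.card F := fun F hF =>
    (Nat.card_congr (Equiv.Set.imageOfInjOn f (F : Set G) (hinj.mono hF))).symm
  have hEbp : IsPGroup p (E.map f) := hEb ▸ hPp.map f
  have hssb : Cfsg.IsSupersolvable ((G ⧸ K) ⧸ E.map f) :=
    Hall.Supersolvable.of_mulEquiv hGE (QuotientGroup.quotientQuotientEquivQuotient K E hKE).symm
  have hss : Cfsg.IsSupersolvable (G ⧸ K) := by
    by_cases hc : IsCyclic P
    · have : IsCyclic (E.map f) := by
        rw [hEb]; exact isCyclic_of_surjective (f.subgroupMap P) (f.subgroupMap_surjective P)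
      exact Hall.Supersolvable.of_normal_cyclic _ hssb
    · obtain ⟨D, hDP, hD1, hD2, hcl⟩ := hE p hpf.out P hPE hPp hPnd hc
      obtain ⟨k, hk⟩ := IsPGroup.iff_card.1 (hPp.to_le hDP)
      refine CharP.SupersolvableExtension.of_normal_subgroups _ hEbp hssb hk
        (by rintro rfl; rw [pow_zero] at hk; omega) (by rw [hEb, hcardf P le_rfl]; exact hD2) ?_
      intro Fb hFb hgood
      set F := P ⊓ Fb.comap f with hFdef
      have hFb' : F.map f = Fb := by
        refine le_antisymm (map_le_iff_le_comap.2 inf_le_right) fun z hz => ?_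
        obtain ⟨x, hx, rfl⟩ := hEb ▸ hFb hz
        exact ⟨x, ⟨hx, hz⟩, rfl⟩
      have hFgood : Good (Nat.card D) F := by
        unfold Good at hgood ⊢
        rwa [← hcardf F inf_le_left, hFb']
      rw [← normalizer_eq_top_iff, eq_top_iff]
      intro z _
      obtain ⟨z, rfl⟩ := hf z
      obtain ⟨m, hm, e', he', rfl⟩ : ∃ m ∈ normalizer (P : Set G), ∃ e' ∈ K, e' * m = z := by
        have h1 : z ∈ normalizer (P : Set G) ⊔ E := by
          rw [hPdef, Sylow.normalizer_sup_eq_top]; exact mem_top z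
        have h2 : z ∈ normalizer (P : Set G) ⊔ K :=
          sup_le le_sup_left (hPK.trans (sup_le (le_normalizer.trans le_sup_left) le_sup_right)) h1
        obtain ⟨a, ha, b, hb, hab⟩ := mem_sup_of_normal_right.1 h2
        exact ⟨a, ha, a * b * a⁻¹, hKn.conj_mem b hb a, by rw [← hab]; group⟩
      rw [map_mul, show f e' = 1 from (QuotientGroup.eq_one_iff e').2 he', one_mul, ← hFb']
      refine le_normalizer_map f ⟨m, ?_, rfl⟩
      refine mem_normalizer_iff_map_conj_eq.2 (eq_of_le_of_card_ge ?_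
        (card_map_of_injective (MulAut.conj m).injective).ge)
      rintro _ ⟨x, hx, rfl⟩
      exact mem_of_conj hPp hcl inf_le_left hFgood hx (((mem_normalizer_iff.1 hm) x).1 hx.1)
  refine ih G K ?_ hss ?_
  · have hlt : K < E := by
      refine lt_of_le_of_ne hKE fun he => ?_
      exact hpf.out.ne_one (Nat.eq_one_of_dvd_coprimes hKcop (he ▸ hpdef ▸ Nat.minFac_dvd _) dvd_rfl)
    have : Nat.card K < Nat.card E := lt_of_not_ge fun h => hlt.ne (eq_of_le_of_card_ge hlt.le h)
    omega
  · intro r hr R hRK hRr hRnd hRc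
    refine hE r hr R (hRK.trans hKE) hRr ?_ hRc
    rw [← relIndex_mul_relIndex R K E hRK hKE, hKidx]
    intro hd
    rcases hr.dvd_mul.1 hd with h | h
    · exact hRnd h
    · have hrp := (Nat.prime_dvd_prime_iff_eq hr hpf.out).1 (hr.dvd_of_dvd_pow h)
      subst hrp
      apply hRc
      have : Nat.card R = 1 := by
        obtain ⟨i, hi⟩ := IsPGroup.iff_card.1 hRr
        exact Nat.eq_one_of_dvd_coprimes (hKcop.pow_right i) (card_dvd_of_le hRK) (dvd_of_eq hi)
      have : Subsingleton R := (Nat.card_eq_one_iff_unique.1 this).1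
      infer_instance


/-- Let G be a finite group and E a normal subgroup with G/E supersolvable. Suppose that for every prime p and every non-cyclic Sylow p-subgroup P of E there is a subgroup D of P with 1 < |D| < |P| such that every subgroup F of P of order |D|, and also every subgroup F of P of order 4 when |D| = 2, satisfies g F g⁻¹ ∩ N_G(F) ≤ F for all g ∈ G. Then G is supersolvable. -/
theorem result {G : Type*} [Group G] [Finite G] (E : Subgroup G) [E.Normal] (hGE : Cfsg.IsSupersolvable (G ⧸ E))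
    (h : ∀ (p : ℕ), p.Prime → ∀ P : Subgroup G, P ≤ E → IsPGroup p P → ¬ p ∣ P.relIndex E → ¬ IsCyclic ↥P →
      ∃ D : Subgroup G, D ≤ P ∧ 1 < Nat.card D ∧ Nat.card D < Nat.card P ∧
        ∀ F : Subgroup G, F ≤ P → (Nat.card F = Nat.card D ∨ (Nat.card D = 2 ∧ Nat.card F = 4)) →
          ∀ g : G, F.map (MulAut.conj g).toMonoidHom ⊓ Subgroup.normalizer (F : Set G) ≤ F) :
    Cfsg.IsSupersolvable G := by
  exact aux (Nat.card E + 1) G E (Nat.lt_succ_self _) hGE h

end Cfsg.Agent.S3032
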