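import Cfsg.Statements.S3033
import Cfsg.Agent.Lib.CharP.ScalarAction
import Cfsg.Agent.Lib.Hall.MinimalNormal
import Cfsg.Agent.Lib.Transfer.Frobenius
import Cfsg.Agent.Lib.Transfer.NormalPComplement

set_option autoImplicit false
open Cfsg

namespace Cfsg.Agent.S3033

universe u

open Subgroup

/-- In a supersolvable group the smallest prime gives a normal complement. -/
theorem npc_smallest {p : ℕ} [hpf : Fact p.Prime] (G : Type u) [Group G] [Finite G]
    (hG : Cfsg.IsSupersolvable G) (hmin : ∀ q : ℕ, q.Prime → q ∣ Nat.card G → p ≤ q) :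
    Cfsg.HasNormalPComplement p G := by
  revert hmin
  refine Hall.Supersolvable.induction_prime (motive := fun G _ =>
    (∀ q : ℕ, q.Prime → q ∣ Nat.card G → p ≤ q) → Cfsg.HasNormalPComplement p G) ?_ ?_ G hG
  · intro G _ _ h _
    exact Transfer.NormalPComplement.hasNormalPComplement_of_coprime (by
      rw [Nat.card_of_subsingleton (1 : G)]; exact Nat.coprime_one_left p)
  · intro G _ _ _ P _ hP ih hmin
    have h := ih fun q hq hd => hmin q hq (hd.trans (card_quotient_dvd_card P))
    by_cases hPp : Nat.card P = p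
    · have : IsCyclic P := isCyclic_of_prime_card hPp
      let φ : G →* MulAut ↥P := MulAut.conjNormal
      have hφ : φ.range = ⊥ := by
        refine eq_bot_of_card_eq _ ?_
        by_contra hne
        obtain ⟨r, hr, hrd⟩ := Nat.exists_prime_and_dvd hne
        have h1 : r ∣ Nat.card G := hrd.trans (by rw [← index_ker]; exact index_dvd_card _)
        have h2 : r ∣ p - 1 := by
          have := hrd.trans (card_subgroup_dvd_card φ.range)
          rwa [IsCyclic.card_mulAut, hPp, Nat.totient_prime hpf.out] at this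
        have h3 := hmin r hr h1
        have h4 := Nat.le_of_dvd (by have := hpf.out.two_le; omega) h2
        have := hpf.out.two_le
        omega
      have hcen : ∀ z ∈ P, ∀ g : G, g * z * g⁻¹ = z := fun z hz g => by
        have h1 : φ g = 1 := Subgroup.mem_bot.1 (hφ ▸ ⟨g, rfl⟩)
        have h2 := congrArg Subtype.val (MulEquiv.ext_iff.1 h1 ⟨z, hz⟩)
        rwa [MulAut.conjNormal_apply] at h2
      obtain ⟨Nb, hNb, hNc, k, hk⟩ := Transfer.NormalPComplement.hasNormalPComplement_iff_exists.1 h
      set M := Nb.comap (QuotientGroup.mk' P)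
      have hMk : M.index = p ^ k := by
        rw [index_comap_of_surjective _ (QuotientGroup.mk'_surjective P), hk]
      refine Transfer.NormalPComplement.hasNormalPComplement_of_normal_index (N := M) ?_ hMk
      have hPM : P ≤ M := fun z hz => by
        show (QuotientGroup.mk' P) z ∈ Nb
        rw [QuotientGroup.mk'_apply, (QuotientGroup.eq_one_iff z).2 hz]
        exact one_mem _
      have hi : (P.subgroupOf M).index = Nat.card Nb := by
        have h1 : Nat.card M = Nat.card Nb * p := by rw [Cores.card_comap_mk', hPp, mul_comm]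
        have h2 := (P.subgroupOf M).card_mul_index
        rw [Nat.card_congr (subgroupOfEquivOfLe hPM).toEquiv, hPp, h1, mul_comm p] at h2
        exact Nat.eq_of_mul_eq_mul_right hpf.out.pos h2
      let R : Sylow p M := ((IsPGroup.of_card (n := 1) (by rw [hPp, pow_one]) :
        IsPGroup p P).comap_subtype (K := M)).toSylow (by
          show ¬ p ∣ (P.subgroupOf M).index
          rw [hi]
          exact hpf.out.coprime_iff_not_dvd.1 hNc.symm)
      refine Transfer.NormalPComplement.hasNormalPComplement_of_normalizer_le_centralizer R ?_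
      intro m _ r hr
      refine Subtype.ext ?_
      exact (mul_inv_eq_iff_eq_mul.1 (hcen r hr m)).symm
    · exact Transfer.NormalPComplement.hasNormalPComplement_of_quotient
        ((Nat.coprime_primes hP hpf.out).2 hPp) h

theorem aux : ∀ (n : ℕ) (G : Type u) [Group G] [Finite G], Nat.card G < n →
    (∀ (p q : ℕ), p.Prime → q.Prime → p ≠ q → ∀ (x g : G), (∃ a : ℕ, orderOf x = p ^ a) →
      (∃ b : ℕ, orderOf g = q ^ b) → ¬ q ^ 2 ∣ Nat.card ↥(zpowers x ⊔ zpowers (g * x * g⁻¹))) →
    Cfsg.IsSupersolvable G := by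
  intro n
  induction n with
  | zero => intro G _ _ h; omega
  | succ n ih =>
  intro G _ _ hcard h
  rcases subsingleton_or_nontrivial G with hs | hnt
  · exact Hall.Supersolvable.of_subsingleton
  have hsub : ∀ H : Subgroup G, H ≠ ⊤ → Cfsg.IsSupersolvable H := by
    intro H hH
    have h1 : Nat.card H < Nat.card G := lt_of_le_of_ne (card_le_card_group H)
      fun he => hH (eq_top_of_card_eq H he)
    refine ih ↥H (by omega) fun p q hp hq hpq x g hx hg hd => h p q hp hq hpq x g
      (by simpa only [orderOf_coe] using hx) (by simpa only [orderOf_coe] using hg) ?_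
    refine hd.trans (dvd_of_eq ?_)
    rw [Nat.card_congr (equivMapOfInjective _ H.subtype (subtype_injective H)).toEquiv, Subgroup.map_sup,
      MonoidHom.map_zpowers, MonoidHom.map_zpowers]
    rfl
  have hquot : ∀ (N : Subgroup G) [N.Normal], N ≠ ⊥ → Cfsg.IsSupersolvable (G ⧸ N) := by
    intro N _ hN
    have h1 : Nat.card (G ⧸ N) < Nat.card G := Hall.Supersolvable.card_quotient_lt
      ((N.one_lt_card_iff_ne_bot).2 hN)
    refine ih (G ⧸ N) (by omega) fun p q hp hq hpq x g hx hg hd => ?_
    have hlift : ∀ (r : ℕ), r.Prime → ∀ z : G ⧸ N, (∃ a, orderOf z = r ^ a) →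
        ∃ y : G, (y : G ⧸ N) = z ∧ ∃ a, orderOf y = r ^ a := by
      rintro r hr z ⟨a, ha⟩
      obtain ⟨y, rfl⟩ := QuotientGroup.mk_surjective z
      obtain ⟨e, m, hm, hem⟩ := Nat.exists_eq_pow_mul_and_not_dvd (orderOf_pos y).ne' r hr.ne_one
      obtain ⟨t, ht1, ht0⟩ := Nat.chineseRemainder
        (Nat.Coprime.pow_left (a + e) (hr.coprime_iff_not_dvd.2 hm)) 1 0
      refine ⟨y ^ t, ?_, ?_⟩
      · rw [QuotientGroup.mk_pow]
        conv_rhs => rw [← pow_one (y : G ⧸ N)]
        refine pow_eq_pow_iff_modEq.2 ?_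
        exact ht1.of_dvd (ha ▸ pow_dvd_pow r (Nat.le_add_right a e))
      · have h2 : (y ^ t) ^ r ^ e = 1 := by
          rw [← pow_mul]
          refine orderOf_dvd_iff_pow_eq_one.1 ?_
          rw [hem, mul_comm t]
          exact Nat.mul_dvd_mul_left _ (Nat.modEq_zero_iff_dvd.1 ht0)
        obtain ⟨b, -, hb⟩ := (Nat.dvd_prime_pow hr).1 (orderOf_dvd_of_pow_eq_one h2)
        exact ⟨b, hb⟩
    obtain ⟨x', rfl, hx'⟩ := hlift p hp x hx
    obtain ⟨g', rfl, hg'⟩ := hlift q hq g hg
    refine h p q hp hq hpq x' g' hx' hg' (hd.trans ?_)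
    refine dvd_trans (dvd_of_eq ?_) (card_map_dvd (f := QuotientGroup.mk' N) (zpowers x' ⊔ zpowers (g' * x' * g'⁻¹)))
    rw [Subgroup.map_sup, MonoidHom.map_zpowers, MonoidHom.map_zpowers]
    rfl
  -- solvability
  have hsolv : Group.IsSolvable G := by
    have hne1 : Nat.card G ≠ 1 := (Finite.one_lt_card).ne'
    set p := (Nat.card G).minFac
    have hpf : Fact p.Prime := ⟨Nat.minFac_prime hne1⟩
    by_cases hex : ∃ Q : Subgroup G, IsPGroup p Q ∧ Q ≠ ⊥ ∧ normalizer (Q : Set G) = ⊤
    · obtain ⟨Q, hQp, hQ, hQN⟩ := hex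
      have : Q.Normal := normalizer_eq_top_iff.1 hQN
      have := Hall.Supersolvable.isSolvable (hquot Q hQ)
      have : Group.IsSolvable Q := by
        have := hQp.isNilpotent
        infer_instance
      exact (Group.isSolvable_iff_subgroup_quotient Q).2 ⟨inferInstance, inferInstance⟩
    push Not at hex
    have hnpc : Cfsg.HasNormalPComplement p G := by
      refine Transfer.Frobenius.hasNormalPComplement_iff_normalizers.2 fun Q hQp hQ =>
        npc_smallest _ (hsub _ (hex Q hQp hQ)) fun r hr hd => ?_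
      exact Nat.minFac_le_of_dvd hr.two_le (hd.trans (card_subgroup_dvd_card _))
    obtain ⟨M, hM, hMc, k, hk⟩ := Transfer.NormalPComplement.hasNormalPComplement_iff_exists.1 hnpc
    have hMtop : M ≠ ⊤ := fun hMt => by
      subst hMt
      rw [card_top] at hMc
      exact hpf.out.ne_one (Nat.eq_one_of_dvd_coprimes hMc (Nat.minFac_dvd _) dvd_rfl)
    have := Hall.Supersolvable.isSolvable (hsub M hMtop)
    have hq : IsPGroup p (G ⧸ M) := IsPGroup.of_card (n := k) (by rw [← index_eq_card, hk])
    have := hq.isNilpotent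
    exact (Group.isSolvable_iff_subgroup_quotient M).2 ⟨inferInstance, inferInstance⟩
  obtain ⟨N, hNn, -, hN, hNmin⟩ := Hall.exists_minimal_normal (⊤ : Subgroup G) top_ne_bot
  obtain ⟨q, hq, hqN, hNp, hNc, hNe⟩ := Hall.minimal_normal_isElementaryAbelian hN hNmin
  have hqf : Fact q.Prime := ⟨hq⟩
  suffices IsCyclic N from Hall.Supersolvable.of_normal_cyclic N (hquot N hN)
  letI : CommGroup N :=
    { (inferInstance : Group N) with mul_comm := fun x y => hNc.is_comm.comm x y }
  have hqx : ∀ x : Additive N, q • x = 0 := fun x => by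
    apply Additive.toMul.injective
    rw [toMul_nsmul, toMul_zero]
    exact Subtype.ext (hNe _ (Additive.toMul x).2)
  letI : Module (ZMod q) (Additive N) := AddCommGroup.zmodModule (n := q) hqx
  let ρ : G →* Module.End (ZMod q) (Additive N) :=
    { toFun := fun g => AddMonoidHom.toZModLinearMap q
        (MonoidHom.toAdditive (MulAut.conjNormal g : MulAut N).toMonoidHom)
      map_one' := LinearMap.ext fun v => by
        show Additive.ofMul ((MulAut.conjNormal (1 : G)) (Additive.toMul v)) = v
        rw [map_one]; rfl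
      map_mul' := fun s t => LinearMap.ext fun v => by
        show Additive.ofMul ((MulAut.conjNormal (s * t)) (Additive.toMul v)) =
          Additive.ofMul ((MulAut.conjNormal s) ((MulAut.conjNormal t) (Additive.toMul v)))
        rw [map_mul]; rfl }
  have hρ : ∀ g (v : Additive N), ((Additive.toMul (ρ g v) : N) : G) = g * (Additive.toMul v : N) * g⁻¹ :=
    fun g v => MulAut.conjNormal_apply g _
  have hsmul : ∀ (c : ZMod q) (v : Additive N), ∃ i : ℕ,
      ((Additive.toMul (c • v) : N) : G) = ((Additive.toMul v : N) : G) ^ i := fun c v => by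
    refine ⟨c.val, ?_⟩
    conv_lhs => rw [← ZMod.natCast_zmod_val c, Nat.cast_smul_eq_nsmul, toMul_nsmul]
    rfl
  have : Nontrivial (Additive N) := by
    have : Nontrivial N := (nontrivial_iff_ne_bot N).2 hN
    exact inferInstanceAs (Nontrivial N)
  have hirr : ∀ U : Submodule (ZMod q) (Additive N), (∀ g, ∀ v ∈ U, ρ g v ∈ U) → U = ⊥ ∨ U = ⊤ := by
    intro U hU
    let W : Subgroup N := AddSubgroup.toSubgroup' U.toAddSubgroup
    have hWn : (W.map N.subtype).Normal := by
      refine ⟨?_⟩
      rintro _ ⟨w, hw, rfl⟩ g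
      refine ⟨Additive.toMul (ρ g (Additive.ofMul w)), hU g _ hw, ?_⟩
      exact hρ g (Additive.ofMul w)
    rcases hNmin _ hWn (map_subtype_le W) with h1 | h1
    · left
      rw [Submodule.eq_bot_iff]
      intro v hv
      have h2 : ((Additive.toMul v : N) : G) ∈ W.map N.subtype := mem_map_of_mem _ hv
      rw [h1, mem_bot, OneMemClass.coe_eq_one] at h2
      exact Additive.toMul.injective h2
    · right
      rw [Submodule.eq_top_iff']
      intro v
      have h2 : ((Additive.toMul v : N) : G) ∈ W.map N.subtype := h1.symm ▸ (Additive.toMul v).2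
      obtain ⟨w, hw, hwv⟩ := h2
      rw [← show Additive.ofMul w = v from congrArg Additive.ofMul (Subtype.ext hwv : w = Additive.toMul v)]
      exact hw
  have hquad : ∀ g : G, ∀ p : ℕ, p.Prime → p ≠ q → (∃ k, orderOf g = p ^ k) →
      ∃ c : ZMod q, ∀ v, ρ g (ρ g v - v) = c • (ρ g v - v) := by
    intro x p hp hpq hx
    -- every commutator spans an invariant line
    have hline : ∀ v, ∃ c : ZMod q, ρ x (ρ x v - v) = c • (ρ x v - v) := by
      intro v
      set g : G := ((Additive.toMul v : N) : G)
      have hgN : g ∈ N := (Additive.toMul v).2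
      have hgq : ∃ b, orderOf g = q ^ b := by
        rcases (Nat.dvd_prime hq).1 (orderOf_dvd_of_pow_eq_one (hNe g hgN)) with h1 | h1
        exacts [⟨0, by rw [h1, pow_zero]⟩, ⟨1, by rw [h1, pow_one]⟩]
      set J := zpowers x ⊔ zpowers (g * x * g⁻¹)
      set I := J ⊓ N
      have hIdvd : Nat.card I ∣ q := by
        obtain ⟨j, hj⟩ := IsPGroup.iff_card.1 (hNp.to_le (inf_le_right : I ≤ N))
        rw [hj]
        have hj1 : j ≤ 1 := by
          by_contra hj2
          refine h p q hp hq hpq x g hx hgq (dvd_trans ?_ (card_dvd_of_le (inf_le_left : I ≤ J)))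
          rw [hj]
          exact pow_dvd_pow q (by omega)
        exact (pow_dvd_pow q hj1).trans (dvd_of_eq (pow_one q))
      set d : G := x * g * x⁻¹ * g⁻¹
      have hdI : d ∈ I := by
        refine Subgroup.mem_inf.2 ⟨?_, mul_mem (hNn.conj_mem g hgN x) (N.inv_mem hgN)⟩
        have e : d = x * (g * x * g⁻¹)⁻¹ := by simp [d, mul_assoc]
        rw [e]
        exact J.mul_mem (mem_sup_left (mem_zpowers x)) (J.inv_mem (mem_sup_right (mem_zpowers _)))
      have hxd : x * d * x⁻¹ ∈ I :=
        Subgroup.mem_inf.2 ⟨J.mul_mem (J.mul_mem (mem_sup_left (mem_zpowers x)) hdI.1) (J.inv_mem (mem_sup_left (mem_zpowers x))),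
          hNn.conj_mem d hdI.2 x⟩
      have hw : ((Additive.toMul (ρ x v - v) : N) : G) = d := by
        rw [toMul_sub, div_eq_mul_inv, Subgroup.coe_mul, Subgroup.coe_inv, hρ]
      by_cases hd1 : d = 1
      · refine ⟨1, ?_⟩
        have h0 : ρ x v - v = 0 := Additive.toMul.injective (Subtype.ext (by rw [hw, hd1]; rfl))
        rw [h0, map_zero, smul_zero]
      · have hcI : Nat.card I = q := by
          rcases (Nat.dvd_prime hq).1 hIdvd with h1 | h1
          · exact absurd (mem_bot.1 ((eq_bot_of_card_eq I h1) ▸ hdI)) hd1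
          · exact h1
        have hgen : (⟨x * d * x⁻¹, hxd⟩ : I) ∈ Submonoid.powers (⟨d, hdI⟩ : I) :=
          mem_powers_of_prime_card (p := q) hcI fun he => hd1 (congrArg Subtype.val he)
        obtain ⟨i, hi⟩ := (Submonoid.mem_powers_iff _ _).1 hgen
        have hi' : d ^ i = x * d * x⁻¹ := congrArg Subtype.val hi
        refine ⟨(i : ZMod q), Additive.toMul.injective (Subtype.ext ?_)⟩
        rw [hρ, hw, Nat.cast_smul_eq_nsmul, toMul_nsmul, SubmonoidClass.coe_pow, hw, hi']
    by_cases hall : ∀ v, ρ x v - v = 0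
    · exact ⟨1, fun v => by rw [hall, map_zero, smul_zero]⟩
    push Not at hall
    obtain ⟨v₀, hv₀⟩ := hall
    obtain ⟨c₀, hc₀⟩ := hline v₀
    refine ⟨c₀, fun v => ?_⟩
    obtain ⟨c, hc⟩ := hline v
    obtain ⟨c', hc'⟩ := hline (v + v₀)
    have hsum : ρ x (v + v₀) - (v + v₀) = (ρ x v - v) + (ρ x v₀ - v₀) := by rw [map_add]; abel
    rw [hsum, map_add, hc, hc₀, smul_add] at hc'
    have h1 : (c - c') • (ρ x v - v) + (c₀ - c') • (ρ x v₀ - v₀) = 0 := by
      rw [sub_smul, sub_smul, ← sub_eq_zero.2 hc']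
      abel
    by_cases hcc : c = c'
    · rw [hcc, sub_self, zero_smul, zero_add] at h1
      rw [hc, hcc, ← sub_eq_zero.1 ((smul_eq_zero.1 h1).resolve_right hv₀)]
    · have h2 : ρ x v - v = (-(c - c')⁻¹ * (c₀ - c')) • (ρ x v₀ - v₀) := by
        have h3 := congrArg ((c - c')⁻¹ • ·) (eq_neg_of_add_eq_zero_left h1)
        simp only [smul_smul, inv_mul_cancel₀ (sub_ne_zero.2 hcc), one_smul] at h3
        rw [h3, smul_neg, smul_smul, neg_mul, neg_smul]
      rw [h2, map_smul, hc₀, smul_comm]
  have hK : ∀ g ∈ N, ∀ v, ρ g v = v := fun g hg v => by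
    refine Additive.toMul.injective (Subtype.ext ?_)
    rw [hρ]
    have h1 : g * ((Additive.toMul v : N) : G) = (Additive.toMul v : N) * g :=
      congrArg Subtype.val (hNc.is_comm.comm ⟨g, hg⟩ (Additive.toMul v))
    rw [h1, mul_inv_cancel_right]
  have hscalar := CharP.ScalarAction.scalar ρ hirr N hK (hquot N hN) (by
    rw [Nat.card_congr Additive.toMul]; exact hqN) hquad
  obtain ⟨w, hw⟩ := exists_ne (0 : Additive N)
  rcases hirr (Submodule.span (ZMod q) {w}) (fun g v hv => by
      obtain ⟨c, hc⟩ := hscalar g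
      rw [hc]
      exact Submodule.smul_mem _ c hv) with h1 | h1
  · exact absurd ((Submodule.span_singleton_eq_bot).1 h1) hw
  · refine ⟨Additive.toMul w, fun y => ?_⟩
    obtain ⟨c, hc⟩ := Submodule.mem_span_singleton.1
      (h1 ▸ Submodule.mem_top : Additive.ofMul y ∈ Submodule.span (ZMod q) {w})
    obtain ⟨i, hi⟩ := hsmul c w
    refine ⟨i, Subtype.ext ?_⟩
    rw [hc] at hi
    simpa using hi.symm


/-- Let G be a finite group such that for every pair of distinct primes p and q, every p-element x and every q-element g of G, the order of the subgroup generated by x and g x g⁻¹ is not divisible by q². Then G is supersolvable. -/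
theorem result {G : Type*} [Group G] [Finite G]
    (h : ∀ (p q : ℕ), p.Prime → q.Prime → p ≠ q → ∀ (x g : G), (∃ a : ℕ, orderOf x = p ^ a) → (∃ b : ℕ, orderOf g = q ^ b) →
      ¬ q ^ 2 ∣ Nat.card ↥(Subgroup.zpowers x ⊔ Subgroup.zpowers (g * x * g⁻¹))) :
    Cfsg.IsSupersolvable G := by
  exact aux (Nat.card G + 1) G (Nat.lt_succ_self _) h

end Cfsg.Agent.S3033
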