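import Cfsg.Statements.S3036
import Cfsg.Agent.Lib.CharP.Basic

set_option autoImplicit false
open Cfsg

namespace Cfsg.Agent.S3036

theorem centralizer_sup {G : Type*} [Group G] (H K : Subgroup G) :
    Subgroup.centralizer ((H ⊔ K : Subgroup G) : Set G) =
      Subgroup.centralizer (H : Set G) ⊓ Subgroup.centralizer (K : Set G) := by
  refine le_antisymm (le_inf (Subgroup.centralizer_le (SetLike.coe_subset_coe.2 le_sup_left))
    (Subgroup.centralizer_le (SetLike.coe_subset_coe.2 le_sup_right))) ?_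
  rw [Subgroup.le_centralizer_iff]
  exact sup_le (Subgroup.le_centralizer_iff.2 inf_le_left) (Subgroup.le_centralizer_iff.2 inf_le_right)

theorem centralizer_map {G : Type*} [Group G] (g : G) (H : Subgroup G) :
    (Subgroup.centralizer (H : Set G)).map (MulAut.conj g).toMonoidHom =
      Subgroup.centralizer ((H.map (MulAut.conj g).toMonoidHom : Subgroup G) : Set G) := by
  ext x
  rw [Subgroup.mem_map_equiv, Subgroup.mem_centralizer_iff, Subgroup.mem_centralizer_iff]
  constructor
  · rintro h _ ⟨y, hy, rfl⟩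
    refine (MulAut.conj g).symm.injective ?_
    simp only [map_mul, MulEquiv.coe_toMonoidHom, MulEquiv.symm_apply_apply]
    exact h y hy
  · intro h y hy
    refine (MulAut.conj g).injective ?_
    simp only [map_mul, MulEquiv.apply_symm_apply]
    exact h _ ⟨y, hy, rfl⟩

/-- Let G be a finite non-abelian simple group and A a proper nontrivial subgroup of G. Then |G| > |A| · |C_G(A)|. In particular |G| > |A|² for every nontrivial abelian subgroup A of G. -/
theorem result {G : Type*} [Group G] [Finite G] [IsSimpleGroup G] (hG : ¬ IsMulCommutative G) (A : Subgroup G) (hA1 : A ≠ ⊥) (hA2 : A ≠ ⊤) : Nat.card A * Nat.card ↥(Subgroup.centralizer (A : Set G)) < Nat.card G := by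
  classical
  let C0 : Subgroup G → ℕ := fun H => Nat.card H * Nat.card ↥(Subgroup.centralizer (H : Set G))
  have hm : ∀ H, C0 H = Nat.card H * Nat.card ↥(Subgroup.centralizer (H : Set G)) := fun H => rfl
  clear_value C0
  obtain ⟨T, hT⟩ := Finite.exists_max C0
  have join : ∀ H K, C0 T ≤ C0 H → C0 T ≤ C0 K →
      C0 T ≤ C0 (H ⊔ K) ∧ C0 T ≤ C0 (H ⊓ K) ∧
        Nat.card ↥(H ⊔ K) * Nat.card ↥(H ⊓ K) ≤ Nat.card H * Nat.card K := by
    intro H K hH hK
    have e1 : Subgroup.centralizer ((H ⊔ K : Subgroup G) : Set G) =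
        Subgroup.centralizer (H : Set G) ⊓ Subgroup.centralizer (K : Set G) :=
      Cfsg.Agent.S3036.centralizer_sup H K
    have e2 : Subgroup.centralizer (H : Set G) ⊔ Subgroup.centralizer (K : Set G) ≤
        Subgroup.centralizer ((H ⊓ K : Subgroup G) : Set G) :=
      sup_le (Subgroup.centralizer_le (SetLike.coe_subset_coe.2 inf_le_left))
        (Subgroup.centralizer_le (SetLike.coe_subset_coe.2 inf_le_right))
    have i1 := Cfsg.Agent.CharP.card_mul_le_card_sup_mul_card_inf H K
    have i2 : Nat.card ↥(Subgroup.centralizer (H : Set G)) *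
        Nat.card ↥(Subgroup.centralizer (K : Set G)) ≤
        Nat.card ↥(Subgroup.centralizer ((H ⊓ K : Subgroup G) : Set G)) *
          Nat.card ↥(Subgroup.centralizer ((H ⊔ K : Subgroup G) : Set G)) := by
      rw [e1]
      exact (Cfsg.Agent.CharP.card_mul_le_card_sup_mul_card_inf _ _).trans
        (Nat.mul_le_mul_right _ (Subgroup.card_le_of_le e2))
    have hA := hT (H ⊔ K)
    have hB := hT (H ⊓ K)
    have hpos : 0 < C0 T := by
      refine lt_of_lt_of_le ?_ (hT ⊥)
      rw [hm]
      exact Nat.mul_pos Nat.card_pos Nat.card_pos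
    have hprod : C0 H * C0 K ≤ C0 (H ⊔ K) * C0 (H ⊓ K) := by
      simp only [hm]
      exact le_of_eq_of_le (by ring) (le_of_le_of_eq (Nat.mul_le_mul i1 i2) (by ring))
    have hHT := le_antisymm (hT H) hH
    have hKT := le_antisymm (hT K) hK
    rw [hHT, hKT] at hprod
    have ha : C0 T ≤ C0 (H ⊔ K) :=
      Nat.le_of_mul_le_mul_right (hprod.trans (Nat.mul_le_mul_left _ hB)) hpos
    have hb : C0 T ≤ C0 (H ⊓ K) :=
      Nat.le_of_mul_le_mul_left (hprod.trans (Nat.mul_le_mul_right _ hA)) hpos
    refine ⟨ha, hb, ?_⟩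
    have hpos' : 0 < Nat.card ↥(Subgroup.centralizer (H : Set G)) *
        Nat.card ↥(Subgroup.centralizer (K : Set G)) := Nat.mul_pos Nat.card_pos Nat.card_pos
    refine Nat.le_of_mul_le_mul_right (le_trans (Nat.mul_le_mul_left _ i2) ?_) hpos'
    have := Nat.mul_le_mul (hA.trans hH) (hB.trans hK)
    simp only [hm] at this
    exact le_of_eq_of_le (by ring) (le_of_le_of_eq this (by ring))
  have conj : ∀ (g : G) H, C0 T ≤ C0 H → C0 T ≤ C0 (H.map (MulAut.conj g).toMonoidHom) := by
    intro g H hH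
    refine hH.trans (le_of_eq ?_)
    rw [hm, hm, ← Cfsg.Agent.S3036.centralizer_map g H,
      Subgroup.card_map_of_injective (MulAut.conj g).injective,
      Subgroup.card_map_of_injective (MulAut.conj g).injective]
  have hcent : Subgroup.center G = ⊥ := by
    rcases Subgroup.Normal.eq_bot_or_eq_top (inferInstance : (Subgroup.center G).Normal) with h | h
    · exact h
    · exact absurd ⟨⟨fun a b => (Subgroup.mem_center_iff.1 (h ▸ Subgroup.mem_top b) a)⟩⟩ hG
  have mbot : C0 ⊥ = Nat.card G := by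
    rw [hm, Subgroup.card_bot, one_mul, Subgroup.coe_bot,
      Subgroup.centralizer_eq_top_iff_subset.2 (by simp [Subgroup.one_mem]), Subgroup.card_top]
  have mtop : C0 ⊤ = Nat.card G := by
    rw [hm, Subgroup.coe_top, Subgroup.centralizer_univ, hcent, Subgroup.card_bot,
      Subgroup.card_top, mul_one]
  by_contra! hA
  rw [← hm] at hA
  have hTG : C0 T ≤ Nat.card G := by
    by_contra! hlt
    obtain ⟨D, hDT, hD⟩ := (Set.toFinite {H | C0 T ≤ C0 H}).exists_le_minimal
      (show T ∈ {H | C0 T ≤ C0 H} from le_refl (C0 T))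
    have hn : D.Normal := by
      refine Subgroup.normalizer_eq_top_iff.1 (eq_top_iff.2 fun g _ => ?_)
      refine Subgroup.mem_normalizer_iff_map_conj_eq.2 (Subgroup.eq_of_le_of_card_ge ?_ ?_).symm
      · exact (hD.2 (join D _ hD.1 (conj g D hD.1)).2.1 inf_le_left).trans inf_le_right
      · exact (Subgroup.card_map_of_injective (MulAut.conj g).injective).le
    rcases hn.eq_bot_or_eq_top with h | h
    · have : C0 T ≤ C0 D := hD.1
      rw [h, mbot] at this
      omega
    · have : C0 T ≤ C0 D := hD.1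
      rw [h, mtop] at this
      omega
  obtain ⟨B, hAB, hB⟩ := (Set.toFinite {H | C0 T ≤ C0 H ∧ H ≠ ⊤}).exists_le_maximal
    (show A ∈ {H | C0 T ≤ C0 H ∧ H ≠ ⊤} from ⟨hTG.trans hA, hA2⟩)
  have hBn : B.Normal := by
    refine Subgroup.normalizer_eq_top_iff.1 (eq_top_iff.2 fun g _ => ?_)
    obtain ⟨h1, -, h3⟩ := join B _ hB.1.1 (conj g B hB.1.1)
    refine Subgroup.mem_normalizer_iff_map_conj_eq.2 (Subgroup.eq_of_le_of_card_ge ?_ ?_)
    · by_cases htop : B ⊔ B.map (MulAut.conj g).toMonoidHom = ⊤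
      · obtain ⟨b, hb, c, ⟨b', hb', rfl⟩, hgb⟩ :=
          Cfsg.Agent.CharP.exists_mul_of_card_eq h3 (htop ▸ Subgroup.mem_top g⁻¹)
        have : g ∈ B := by
          have hgb' : g⁻¹ = b * (g * b' * g⁻¹) := hgb
          have e : g = b⁻¹ * b'⁻¹ := by
            calc g = b⁻¹ * (b * (g * b' * g⁻¹)) * g * b'⁻¹ := by group
              _ = b⁻¹ * b'⁻¹ := by rw [← hgb']; group
          rw [e]
          exact mul_mem (inv_mem hb) (inv_mem hb')
        exact (Subgroup.mem_normalizer_iff_map_conj_eq.1 (Subgroup.le_normalizer this)).le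
      · exact le_sup_right.trans (hB.2 ⟨h1, htop⟩ le_sup_left)
    · exact (Subgroup.card_map_of_injective (MulAut.conj g).injective).ge
  rcases hBn.eq_bot_or_eq_top with h | h
  · exact hA1 (eq_bot_iff.2 (h ▸ hAB))
  · exact hB.1.2 h

end Cfsg.Agent.S3036
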