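import Cfsg.Statements.S3037
import Cfsg.Agent.Lib.CharP.Basic

set_option autoImplicit false
open Cfsg

namespace Cfsg.Agent.S3037

/-- Let V and G be subgroups of a finite group with V an elementary abelian p-group (p prime) on which G acts faithfully and irreducibly by conjugation: G normalizes V, G ∩ C(V) = 1, and the only subgroups of V normalized by G are 1 and V. If for some nontrivial subgroup A of G and some real α > 0 one has |V| ≤ |A|^α · |C_V(A)|, then |V| ≤ |G|^α. -/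
theorem result {X : Type*} [Group X] [Finite X] {p : ℕ} [Fact p.Prime] (V G : Subgroup X) (hV : Cfsg.IsElementaryAbelian p V)
    (hGV : G ≤ Subgroup.normalizer (V : Set X)) (hfaith : G ⊓ Subgroup.centralizer (V : Set X) = ⊥)
    (hirr : ∀ W : Subgroup X, W ≤ V → G ≤ Subgroup.normalizer (W : Set X) → W = ⊥ ∨ W = V)
    (A : Subgroup X) (hA : A ≤ G) (hA1 : A ≠ ⊥) (α : ℝ) (hα : 0 < α)
    (hbig : (Nat.card V : ℝ) ≤ (Nat.card A : ℝ) ^ α * (Nat.card ↥(V ⊓ Subgroup.centralizer (A : Set X)) : ℝ)) :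
    (Nat.card V : ℝ) ≤ (Nat.card G : ℝ) ^ α := by
  classical
  let C : Subgroup X → Subgroup X := fun H => V ⊓ Subgroup.centralizer (H : Set X)
  let m : Subgroup X → ℝ := fun H => (Nat.card H : ℝ) ^ α * (Nat.card ↥(C H) : ℝ)
  obtain ⟨T, hT, hmax⟩ := Set.exists_max_image {H : Subgroup X | H ≤ G} m (Set.toFinite _) ⟨A, hA⟩
  have hpos : ∀ H, 0 < m H := fun H =>
    mul_pos (Real.rpow_pos_of_pos (by exact_mod_cast Nat.card_pos) _) (by exact_mod_cast Nat.card_pos)
  have hsup : ∀ H K, H ≤ G → K ≤ G → m T ≤ m H → m T ≤ m K → m T ≤ m (H ⊔ K) := by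
    intro H K hH hK h1 h2
    have i1 := Cfsg.Agent.CharP.card_mul_le_card_sup_mul_card_inf H K
    have i2 : Nat.card ↥(C H) * Nat.card ↥(C K) ≤
        Nat.card ↥(C (H ⊓ K)) * Nat.card ↥(C (H ⊔ K)) := by
      refine (Cfsg.Agent.CharP.card_mul_le_card_sup_mul_card_inf _ _).trans
        (Nat.mul_le_mul (Subgroup.card_le_of_le ?_) (Subgroup.card_le_of_le ?_))
      · exact sup_le (inf_le_inf le_rfl (Subgroup.centralizer_le (SetLike.coe_subset_coe.2 inf_le_left)))
          (inf_le_inf le_rfl (Subgroup.centralizer_le (SetLike.coe_subset_coe.2 inf_le_right)))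
      · rintro y ⟨⟨hy, hyH⟩, -, hyK⟩
        refine ⟨hy, ?_⟩
        rw [Subgroup.sup_eq_closure, Subgroup.centralizer_closure]
        intro b hb
        rcases hb with hb | hb
        · exact hyH b hb
        · exact hyK b hb
    have hprod : m H * m K ≤ m (H ⊔ K) * m (H ⊓ K) := by
      have j1 : ((Nat.card H : ℝ) * Nat.card K) ^ α ≤
          ((Nat.card ↥(H ⊔ K) : ℝ) * Nat.card ↥(H ⊓ K)) ^ α :=
        Real.rpow_le_rpow (by positivity) (by exact_mod_cast i1) hα.le
      rw [Real.mul_rpow (by positivity) (by positivity),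
        Real.mul_rpow (by positivity) (by positivity)] at j1
      have j2 : (Nat.card ↥(C H) : ℝ) * Nat.card ↥(C K) ≤
          (Nat.card ↥(C (H ⊓ K)) : ℝ) * Nat.card ↥(C (H ⊔ K)) := by exact_mod_cast i2
      have := mul_le_mul j1 j2 (by positivity) (by positivity)
      simp only [m]
      linarith
    have hb := hmax (H ⊓ K) (inf_le_left.trans hH)
    by_contra hlt
    push Not at hlt
    have h3 : m (H ⊔ K) * m (H ⊓ K) < m T * m T := mul_lt_mul hlt hb (hpos _) (hpos _).le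
    have h4 := mul_le_mul h1 h2 (hpos _).le (hpos _).le
    linarith
  have hcomm := hV.1
  have hVc : ∀ H, H = (⊥ : Subgroup X) → C H = V := by
    rintro H rfl
    refine inf_eq_left.2 fun v _ y hy => ?_
    rw [Subgroup.mem_bot.1 hy, one_mul, mul_one]
  obtain ⟨N, hN, hN1⟩ : ∃ N : Subgroup X, (N ≤ G ∧ m T ≤ m N) ∧ N ≠ ⊥ := by
    by_cases hAm : m T ≤ m A
    · exact ⟨A, ⟨hA, hAm⟩, hA1⟩
    · refine ⟨T, ⟨hT, le_rfl⟩, fun h => hAm ?_⟩
      show (Nat.card T : ℝ) ^ α * (Nat.card ↥(C T) : ℝ) ≤ m A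
      rw [hVc T h, h, Subgroup.card_bot, Nat.cast_one, Real.one_rpow, one_mul]
      exact hbig
  obtain ⟨M, hNM, hM⟩ := (Set.toFinite {H : Subgroup X | H ≤ G ∧ m T ≤ m H}).exists_le_maximal
    (show N ∈ {H : Subgroup X | H ≤ G ∧ m T ≤ m H} from hN)
  have hGM : G ≤ Subgroup.normalizer (M : Set X) := by
    intro g hg
    rw [Subgroup.mem_normalizer_iff_map_conj_eq]
    have hgV := Subgroup.mem_normalizer_iff_map_conj_eq.1 (hGV hg)
    have hgG := Subgroup.mem_normalizer_iff_map_conj_eq.1 (Subgroup.le_normalizer hg : g ∈ Subgroup.normalizer (G : Set X))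
    have hle : M.map (MulAut.conj g).toMonoidHom ≤ G := (Subgroup.map_mono hM.1.1).trans hgG.le
    have hcard : m M ≤ m (M.map (MulAut.conj g).toMonoidHom) := by
      refine le_of_eq ?_
      have hC : (C M).map (MulAut.conj g).toMonoidHom = C (M.map (MulAut.conj g).toMonoidHom) := by
        ext y
        constructor
        · rintro ⟨v, ⟨hv, hvc⟩, rfl⟩
          refine ⟨hgV.le ⟨v, hv, rfl⟩, ?_⟩
          rintro _ ⟨z, hz, rfl⟩
          rw [← map_mul, ← map_mul, hvc z hz]
        · rintro ⟨hy, hyc⟩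
          obtain ⟨v, hv, rfl⟩ := hgV.ge hy
          refine ⟨v, ⟨hv, fun z hz => (MulAut.conj g).injective ?_⟩, rfl⟩
          rw [map_mul, map_mul]
          exact hyc _ ⟨z, hz, rfl⟩
      show (Nat.card M : ℝ) ^ α * (Nat.card ↥(C M) : ℝ) = _ * (Nat.card ↥(C _) : ℝ)
      rw [← hC, Subgroup.card_map_of_injective (MulAut.conj g).injective,
        Subgroup.card_map_of_injective (MulAut.conj g).injective]
    have hmem := hM.2 (show M ⊔ M.map (MulAut.conj g).toMonoidHom ∈ _ from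
      ⟨sup_le hM.1.1 hle, hsup _ _ hM.1.1 hle hM.1.2 (hM.1.2.trans hcard)⟩) le_sup_left
    exact Subgroup.eq_of_le_of_card_ge (le_sup_right.trans hmem)
      (Subgroup.card_map_of_injective (MulAut.conj g).injective).ge
  have hinv : G ≤ Subgroup.normalizer ((C M : Subgroup X) : Set X) := by
    refine Subgroup.le_normalizer_iff.2 fun g hg v hv => ⟨Subgroup.le_normalizer_iff.1 hGV g hg v hv.1, ?_⟩
    intro z hz
    have hz' := Subgroup.le_normalizer_iff.1 hGM g⁻¹ (inv_mem hg) z hz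
    have := hv.2 _ hz'
    calc z * (g * v * g⁻¹) = g * (g⁻¹ * z * g⁻¹⁻¹ * v) * g⁻¹ := by group
      _ = g * (v * (g⁻¹ * z * g⁻¹⁻¹)) * g⁻¹ := by rw [this]
      _ = g * v * g⁻¹ * z := by group
  have hCbot : C M = ⊥ := by
    refine (hirr (C M) inf_le_left hinv).resolve_right fun h => hN1 (eq_bot_iff.2 ?_)
    rw [← hfaith]
    refine fun y hy => ⟨hN.1 hy, fun v hv => ?_⟩
    exact ((h.ge hv).2 y (hNM hy)).symm
  calc (Nat.card V : ℝ) ≤ m A := hbig
    _ ≤ m T := hmax A hA
    _ ≤ m M := hM.1.2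
    _ = (Nat.card M : ℝ) ^ α := by
        show (Nat.card M : ℝ) ^ α * (Nat.card ↥(C M) : ℝ) = _
        rw [hCbot, Subgroup.card_bot, Nat.cast_one, mul_one]
    _ ≤ (Nat.card G : ℝ) ^ α :=
        Real.rpow_le_rpow (Nat.cast_nonneg _)
          (Nat.cast_le.2 (Subgroup.card_le_of_le hM.1.1)) hα.le

end Cfsg.Agent.S3037
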