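import Cfsg.Statements.S3038
import Cfsg.Agent.Techniques.IsolatedRankTwo
import Cfsg.Agent.Lib.IsolatedRank.Main

set_option autoImplicit false
open Cfsg

namespace Cfsg.Agent.S3038

/-- Let G be a finite group and p an odd prime with O_{p'}(G) = 1. Suppose that G has p-rank at most 2 and that some element x of order p is isolated in G and not central. Then F*(G) is a non-abelian simple group, and for every Sylow p-subgroup P of F*(G), either no conjugate of x lies in P and P is cyclic, or some conjugate of x lies in P and either P is extraspecial of order p³ and exponent p, or p = 3 and P has order 3^{2k+1} for some k ≥ 2 and is of maximal class (nilpotency class 2k). Since O_{p'}(G) = 1, such an x is not central modulo O_{p'}(G): the hypotheses describe a counterexample to the Z*_p statement in p-rank at most 2, and the conclusion records the structure it would have. -/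
theorem result {G : Type*} [Group G] [Finite G] {p : ℕ} [Fact p.Prime] (hp : p ≠ 2) (hcore : Cfsg.pPrimeCore p G = ⊥)
    (hrank : Cfsg.PRankLE p 2 G) (x : G) (hx : orderOf x = p) (hiso : Cfsg.IsIsolated x) (hnc : x ∉ Subgroup.center G) :
    IsSimpleGroup ↥(Cfsg.generalizedFittingSubgroup G) ∧ ¬ IsMulCommutative ↥(Cfsg.generalizedFittingSubgroup G) ∧
    ∀ P : Sylow p ↥(Cfsg.generalizedFittingSubgroup G),
      ((∀ g : G, g * x * g⁻¹ ∉ ((P : Subgroup ↥(Cfsg.generalizedFittingSubgroup G)).map (Cfsg.generalizedFittingSubgroup G).subtype)) ∧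
          IsCyclic ↥(P : Subgroup ↥(Cfsg.generalizedFittingSubgroup G))) ∨
      ((∃ g : G, g * x * g⁻¹ ∈ ((P : Subgroup ↥(Cfsg.generalizedFittingSubgroup G)).map (Cfsg.generalizedFittingSubgroup G).subtype)) ∧
        ((Cfsg.IsExtraspecial p ↥(P : Subgroup ↥(Cfsg.generalizedFittingSubgroup G)) ∧
            Nat.card (P : Subgroup ↥(Cfsg.generalizedFittingSubgroup G)) = p ^ 3 ∧
            ∀ y ∈ (P : Subgroup ↥(Cfsg.generalizedFittingSubgroup G)), y ^ p = 1) ∨
         (p = 3 ∧ ∃ k : ℕ, 2 ≤ k ∧ Nat.card (P : Subgroup ↥(Cfsg.generalizedFittingSubgroup G)) = 3 ^ (2 * k + 1) ∧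
            ∃ _ : Group.IsNilpotent ↥(P : Subgroup ↥(Cfsg.generalizedFittingSubgroup G)),
              Group.nilpotencyClass ↥(P : Subgroup ↥(Cfsg.generalizedFittingSubgroup G)) = 2 * k))) := by
  obtain ⟨hsimp, hnab⟩ := Techniques.IsolatedRankTwo.main hp hcore hrank x hx hiso hnc
  refine ⟨hsimp, hnab, ?_⟩
  set K := Cfsg.generalizedFittingSubgroup G
  intro P
  by_cases hconj : ∃ g : G, g * x * g⁻¹ ∈ (P : Subgroup K).map K.subtype
  · refine Or.inr ⟨hconj, ?_⟩
    obtain ⟨g, y, hyP, hy⟩ := hconj
    have hperf : commutator K = ⊤ := by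
      refine (IsSimpleGroup.eq_bot_or_eq_top_of_normal (commutator K) inferInstance).resolve_left fun h => hnab ?_
      refine ⟨⟨fun a b => commutatorElement_eq_one_iff_mul_comm.1 (Subgroup.mem_bot.1 (h ▸ ?_))⟩⟩
      exact Subgroup.commutator_mem_commutator (Subgroup.mem_top a) (Subgroup.mem_top b)
    have hrankK : Cfsg.PRankLE p 2 K := fun A hA hAp => by
      rw [← Subgroup.card_map_of_injective K.subtype_injective]
      refine hrank _ inferInstance ?_
      rintro _ ⟨a, ha, rfl⟩
      rw [← map_pow, hAp a ha, map_one]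
    have hy' : (y : G) = g * x * g⁻¹ := hy
    have hisoy : Cfsg.IsIsolated y := fun k hk => by
      apply Subtype.ext
      have h := Techniques.IsolatedRankTwo.isolated_conj hiso g (k : G) (by
        have h' : Commute (y : G) ((k : G) * y * (k : G)⁻¹) := congrArg Subtype.val hk
        rwa [hy'] at h')
      rw [← hy'] at h
      exact h
    have hyo : orderOf y = p := by
      rw [← Subgroup.orderOf_coe, hy', ← MulAut.conj_apply g x, MulEquiv.orderOf_eq, hx]
    exact IsolatedRank.sylow_structure hp hperf hrankK hyo hisoy P hyP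
  · push Not at hconj
    refine Or.inl ⟨hconj, ?_⟩
    have h := IsolatedRank.sylow_cyclic hp hrank hx hiso (P.2.map K.subtype) hconj
    exact ((P : Subgroup K).equivMapOfInjective K.subtype K.subtype_injective).isCyclic.mpr h

end Cfsg.Agent.S3038
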