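import Cfsg.Statements.S3043
import Cfsg.Agent.Lib.Involutions.TICount.Linear
import Cfsg.Agent.Lib.Involutions.TICount.Affine

set_option autoImplicit false
open Cfsg

namespace Cfsg.Agent.S3043

/-- Let M be a nontrivial subgroup of a finite group G meeting each of its other conjugates trivially, with N_G(M) = M · C_{N_G(M)}(z) for some involution z ∈ N_G(M), and with C_G(x) of odd order for every nontrivial x ∈ M. Then one of the following holds: M is normal in G; the number of involutions of G is at most |G : M|; G is isomorphic to PGL₂(F) or to PSL₂(F) for a finite field F with |F| = |M|, M is an elementary abelian p-group for the characteristic p of F, and |F| ≡ 1 (mod 4) in the PSL₂ case; G is isomorphic to PSL₂(F) with |F| = 2^e, e > 1, and M is cyclic of order 2^e + 1; or for some d ≥ 1, G has an elementary abelian normal subgroup of order 2^{2d} complemented by N_G(M), and N_G(M) is dihedral of order 2(2^d + 1). -/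
theorem result {G : Type*} [Group G] [Finite G] (M : Subgroup G) (hM1 : M ≠ ⊥)
    (hTI : ∀ g : G, M ⊓ M.map (MulAut.conj g).toMonoidHom ≠ ⊥ → M.map (MulAut.conj g).toMonoidHom = M)
    (z : G) (hz : orderOf z = 2) (hzN : z ∈ Subgroup.normalizer (M : Set G))
    (hfac : M ⊔ (Subgroup.normalizer (M : Set G) ⊓ Subgroup.centralizer ({z} : Set G)) = Subgroup.normalizer (M : Set G))
    (hodd : ∀ x ∈ M, x ≠ 1 → Odd (Nat.card ↥(Subgroup.centralizer ({x} : Set G)))) :
    M.Normal ∨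
    Nat.card {g : G // orderOf g = 2} ≤ M.index ∨
    (∃ (F : Type) (_ : Field F) (_ : Fintype F) (p : ℕ) (_ : Fact p.Prime) (_ : CharP F p), Fintype.card F = Nat.card M ∧ Cfsg.IsElementaryAbelian p M ∧
        (Nonempty (G ≃* (GL (Fin 2) F ⧸ Subgroup.center (GL (Fin 2) F))) ∨
         (Fintype.card F % 4 = 1 ∧ Nonempty (G ≃* Matrix.ProjectiveSpecialLinearGroup (Fin 2) F)))) ∨
    (∃ (F : Type) (_ : Field F) (_ : Fintype F) (e : ℕ), 1 < e ∧ Fintype.card F = 2 ^ e ∧ IsCyclic ↥M ∧ Nat.card M = 2 ^ e + 1 ∧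
        Nonempty (G ≃* Matrix.ProjectiveSpecialLinearGroup (Fin 2) F)) ∨
    (∃ (d : ℕ) (E : Subgroup G), 1 ≤ d ∧ E.Normal ∧ Cfsg.IsElementaryAbelian 2 E ∧ Nat.card E = 2 ^ (2 * d) ∧
        E ⊓ Subgroup.normalizer (M : Set G) = ⊥ ∧ E ⊔ Subgroup.normalizer (M : Set G) = ⊤ ∧
        Nonempty (↥(Subgroup.normalizer (M : Set G)) ≃* DihedralGroup (2 ^ d + 1))) := by
  classical
  by_cases hn : M.Normal
  · exact Or.inl hn
  by_cases hle : Nat.card {g : G // orderOf g = 2} ≤ M.index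
  · exact Or.inr (Or.inl hle)
  have hS : Cfsg.Agent.Involutions.TICount.Setup M z := by
    refine ⟨hM1, fun g x hx hx1 hgx => ?_, hz, hzN, hfac, hodd, hn, not_le.1 hle⟩
    have h := hTI g fun e => hx1 (by
      have hm : g * x * g⁻¹ ∈ M ⊓ M.map (MulAut.conj g).toMonoidHom :=
        ⟨hgx, x, hx, rfl⟩
      rw [e, Subgroup.mem_bot, conj_eq_one_iff] at hm
      exact hm)
    refine Subgroup.mem_normalizer_iff.2 fun y => ⟨fun hy => ?_, fun hy => ?_⟩
    · rw [← h]; exact ⟨y, hy, rfl⟩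
    · rw [← h] at hy
      obtain ⟨w, hw, e⟩ := hy
      have e' : g * w * g⁻¹ = g * y * g⁻¹ := e
      exact mul_left_cancel (mul_right_cancel e') ▸ hw
  set c := Nat.card ↥(Cfsg.Agent.Involutions.TICount.CN M z) with hc
  set U := Nat.card {v : G // v * z = z * v ∧ v ∉ Cfsg.Agent.Involutions.TICount.NN M} with hU
  by_cases hone : U = c
  · exact Or.inr (Or.inr (Or.inl (hS.case_one hone)))
  have hc2 : c = 2 := hS.U_cases.resolve_right hone
  obtain ⟨e, he⟩ := hS.V_two_pow hc2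
  have hV := hS.V_card hc2
  rw [← hU, he] at hV
  obtain ⟨u, hu, huz⟩ := hS.exists_swap
  haveI : Nonempty {v : G // v * z = z * v ∧ v ∉ Cfsg.Agent.Involutions.TICount.NN M} :=
    ⟨⟨u, huz, hu⟩⟩
  have hUpos : 0 < U := Nat.card_pos
  have he1 : 1 ≤ e := by
    by_contra h
    rw [show e = 0 by omega, pow_zero] at hV
    omega
  obtain ⟨j, hj⟩ : 2 ∣ 2 ^ e := dvd_pow_self 2 (by omega)
  obtain ⟨k, hk⟩ : ∃ k, U = 2 * k := ⟨j - 1, by omega⟩
  have hk2 : 2 ≤ k := by omega
  obtain ⟨⟨d, hd, hkd⟩, hVc, hI, hG, hcls, hcase⟩ := hS.params hc2 hk hk2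
  rcases hcase with ⟨ha, hq⟩ | ⟨ha, hq⟩
  · exact Or.inr (Or.inr (Or.inr (Or.inr (hS.case_affine hc2 hd hkd hk hI hG hcls ha hq))))
  · exact Or.inr (Or.inr (Or.inr (Or.inl (hS.case_linear hc2 hd hkd hVc hI hG hcls ha hq))))

end Cfsg.Agent.S3043
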