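import Cfsg.Statements.S3047
import Cfsg.Agent.Lib.PLocal.RankOneCentral.Three

set_option autoImplicit false
open Cfsg

namespace Cfsg.Agent.S3047

/-- Let p ≥ 5 be a prime, G a finite group all of whose composition factors are known simple groups, S a Sylow p-subgroup and P a p-minimal subgroup of G containing S such that O^p(P/O_p(P)) is isomorphic to SL₂(pᵃ), PSL₂(pᵃ), SU₃(pᵃ) or PSU₃(pᵃ) for some a ≥ 1. Let L be the subgroup generated by N_G(S) and the p-minimal subgroups of G containing S other than P. Then either O^p(P) is normal in G, or every p-element of the centre of L lies in O_p(P). -/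
theorem result {G : Type*} [Group G] [Finite G] {p : ℕ} [Fact p.Prime] (hp : 5 ≤ p) (hK : Cfsg.IsCompositionKGroup G)
    (S : Sylow p G) (P : Subgroup G) (hSP : (S : Subgroup G) ≤ P) (hPmin : Cfsg.IsPMinimal p ↥P) [hn : (Cfsg.pCore p ↥P).Normal]
    (hrk1 : ∃ (F : Type) (_ : Field F) (_ : Fintype F) (a : ℕ), 1 ≤ a ∧
      ((Fintype.card F = p ^ a ∧ (Nonempty (↥(Cfsg.pResidual p (↥P ⧸ Cfsg.pCore p ↥P)) ≃* Matrix.SpecialLinearGroup (Fin 2) F) ∨
                                  Nonempty (↥(Cfsg.pResidual p (↥P ⧸ Cfsg.pCore p ↥P)) ≃* Matrix.ProjectiveSpecialLinearGroup (Fin 2) F))) ∨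
       (Fintype.card F = p ^ (2 * a) ∧ (Nonempty (↥(Cfsg.pResidual p (↥P ⧸ Cfsg.pCore p ↥P)) ≃* ↥(Cfsg.SU 3 F (p ^ a))) ∨
                                        Nonempty (↥(Cfsg.pResidual p (↥P ⧸ Cfsg.pCore p ↥P)) ≃* Cfsg.PSU 3 F (p ^ a))))))
    (L : Subgroup G)
    (hL : L = Subgroup.normalizer ((S : Subgroup G) : Set G) ⊔ ⨆ P' : {P' : Subgroup G // (S : Subgroup G) ≤ P' ∧ Cfsg.IsPMinimal p ↥P' ∧ P' ≠ P}, (P' : Subgroup G)) :
    ((Cfsg.pResidual p ↥P).map P.subtype).Normal ∨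
    ∀ z ∈ L ⊓ Subgroup.centralizer (L : Set G), (∃ k : ℕ, orderOf z = p ^ k) → z ∈ (Cfsg.pCore p ↥P).map P.subtype := by
  classical
  refine Or.inr fun z hz hzp => ?_
  obtain ⟨k, hk⟩ := hzp
  have hNL : Subgroup.normalizer ((S : Subgroup G) : Set G) ≤ L := hL ▸ le_sup_left
  have hzc : ∀ n ∈ Subgroup.normalizer ((S : Subgroup G) : Set G), z * n = n * z := fun n hn =>
    (Subgroup.mem_centralizer_iff.1 hz.2 n (hNL hn)).symm
  -- `z` lies in the Sylow subgroup
  have hzN : z ∈ Subgroup.normalizer ((S : Subgroup G) : Set G) :=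
    Cfsg.Agent.PLocal.RankOneCentral.mem_normalizer_of_conj_le fun s hs => by
      rw [hzc s (Subgroup.le_normalizer hs), mul_inv_cancel_right]; exact hs
  have hzS : z ∈ (S : Subgroup G) := by
    have hP : IsPGroup p (Subgroup.zpowers z) :=
      IsPGroup.of_card_dvd_pow (n := k) (by rw [Nat.card_zpowers, hk])
    have hle := S.isPGroup'.to_sup_of_normal_left' hP (by rw [Subgroup.zpowers_le]; exact hzN)
    exact S.is_maximal' hle le_sup_left ▸ Subgroup.mem_sup_right (Subgroup.mem_zpowers _)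
  -- the quotient modulo the `p`-core
  set K := Cfsg.pCore p ↥P
  set π : ↥P →* ↥P ⧸ K := QuotientGroup.mk' K
  let S' : Sylow p ↥P := S.subtype hSP
  have hKS : K ≤ (S' : Subgroup ↥P) := Cfsg.Agent.PLocal.Cores.pCore_le_sylow S'
  let T : Sylow p (↥P ⧸ K) := S'.mapSurjective (QuotientGroup.mk'_surjective K)
  have hT : (T : Subgroup (↥P ⧸ K)) = (S' : Subgroup ↥P).map π := rfl
  let z' : ↥P := ⟨z, hSP hzS⟩
  have hz'S : z' ∈ (S' : Subgroup ↥P) := hzS
  have hcomm : ∀ n ∈ Subgroup.normalizer ((T : Subgroup (↥P ⧸ K)) : Set (↥P ⧸ K)),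
      π z' * n = n * π z' := by
    intro n hn
    obtain ⟨n, rfl⟩ := QuotientGroup.mk'_surjective K n
    have hnN : n ∈ Subgroup.normalizer ((S' : Subgroup ↥P) : Set ↥P) :=
      Cfsg.Agent.PLocal.RankOneCentral.mem_normalizer_of_conj_le fun s hs => by
        have h' : π n * π s * (π n)⁻¹ ∈ (T : Subgroup (↥P ⧸ K)) :=
          (Subgroup.mem_normalizer_iff.1 hn _).1 (by rw [hT]; exact Subgroup.mem_map_of_mem π hs)
        rw [hT] at h'
        obtain ⟨t, ht, he⟩ := h'
        rw [← map_inv, ← map_mul, ← map_mul] at he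
        have := QuotientGroup.eq.1 he
        simpa using mul_mem ht (hKS this)
    have hnG : (n : G) ∈ Subgroup.normalizer ((S : Subgroup G) : Set G) :=
      Cfsg.Agent.PLocal.RankOneCentral.mem_normalizer_of_conj_le fun s hs => by
        have := (Subgroup.mem_normalizer_iff.1 hnN ⟨s, hSP hs⟩).1 hs
        simpa [S', Subgroup.mem_subgroupOf] using this
    rw [← map_mul, ← map_mul, show z' * n = n * z' from Subtype.ext (hzc _ hnG)]
  have hgood : Cfsg.Agent.PLocal.RankOneCentral.Good p ↥(Cfsg.pResidual p (↥P ⧸ K)) := by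
    obtain ⟨F, hFf, hFi, a, ha, h⟩ := hrk1
    rcases h with ⟨hc, he⟩ | ⟨hc, he⟩
    · haveI : CharP F p :=
        Cfsg.Agent.PLocal.RankOneCentral.charP_of_card (a := a) ha hc
      rcases he with ⟨⟨e⟩⟩ | ⟨⟨e⟩⟩
      · exact Cfsg.Agent.PLocal.RankOneCentral.good_of_equiv e.symm
          (Cfsg.Agent.PLocal.RankOneCentral.Two.good_SL hp)
      · exact Cfsg.Agent.PLocal.RankOneCentral.good_of_equiv e.symm
          (Cfsg.Agent.PLocal.RankOneCentral.Two.good_PSL hp)
    · haveI : CharP F p :=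
        Cfsg.Agent.PLocal.RankOneCentral.charP_of_card (a := 2 * a) (by omega) hc
      have hF : Fintype.card F = (p ^ a) ^ 2 := by rw [hc, ← pow_mul, mul_comm]
      rcases he with ⟨⟨e⟩⟩ | ⟨⟨e⟩⟩
      · exact Cfsg.Agent.PLocal.RankOneCentral.good_of_equiv e.symm
          (Cfsg.Agent.PLocal.RankOneCentral.Three.good_SU hp hF rfl)
      · exact Cfsg.Agent.PLocal.RankOneCentral.good_of_equiv e.symm
          (Cfsg.Agent.PLocal.RankOneCentral.Three.good_PSU hp hF rfl)
  have hz1 : π z' = 1 :=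
    Cfsg.Agent.PLocal.RankOneCentral.eq_one (p := p) Cfsg.Agent.PLocal.Cores.pCore_quotient_pCore
      (Cfsg.pResidual p (↥P ⧸ K)) Cfsg.Agent.Transfer.NormalPComplement.isPGroup_quotient_pResidual hgood T
      (by rw [hT]; exact Subgroup.mem_map_of_mem π hz'S)
      (fun t ht => hcomm t (Subgroup.le_normalizer ht)) hcomm
  exact ⟨z', (QuotientGroup.eq_one_iff z').1 hz1, rfl⟩

end Cfsg.Agent.S3047
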