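import Cfsg.Statements.S3053
import Cfsg.Agent.Lib.CharP.Parabolic
import Cfsg.Agent.Lib.Coprime.OmegaDetect
import Cfsg.Agent.Solvable.Basics
import Cfsg.Agent.Lib.Transfer.NormalPComplement

set_option autoImplicit false
open Cfsg

namespace Cfsg.Agent.S3053

open scoped commutatorElement

/-- Let p be an odd prime and G a finite group with a Sylow p-subgroup P that is extraspecial of order p³ and exponent p². Then the centre of P is strongly closed in P with respect to G: a G-conjugate of an element of Z(P) that lies in P already lies in Z(P). In particular a nontrivial central element of P is conjugate in G to no noncentral element of P. -/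
theorem result {G : Type*} [Group G] [Finite G]
    {p : ℕ} [Fact p.Prime] (hp : p ≠ 2) (P : Sylow p G) (hE : Cfsg.IsExtraspecial p ↥P)
    (hcard : Nat.card P = p ^ 3) (hexp : Monoid.exponent ↥P = p ^ 2) :
    Cfsg.IsStronglyClosed ((Subgroup.center ↥P).map (P : Subgroup G).subtype) (P : Subgroup G) := by
  have hp' : p.Prime := Fact.out
  set P' : Subgroup G := (P : Subgroup G)
  have hexp' : Monoid.exponent ↥P' = p ^ 2 := hexp
  have hE2 : Nat.card ↥(Subgroup.center ↥P') = p := hE.2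
  set Z := (Subgroup.center ↥P').map P'.subtype with hZdef
  have hZP : Z ≤ P' := Subgroup.map_subtype_le _
  have hZcard : Nat.card ↥Z = p := by
    rw [← hE2]
    exact (Nat.card_congr (Subgroup.equivMapOfInjective _ _ P'.subtype_injective).toEquiv).symm
  have hfr : frattini ↥P' = Subgroup.center ↥P' := hE.1.2.1
  have hcom : commutator ↥P' = Subgroup.center ↥P' := hE.1.2.2
  have hpowZ : ∀ u ∈ P', u ^ p ∈ Z := fun u hu => ⟨⟨u, hu⟩ ^ p, by
    rw [← hfr]; exact Cfsg.Agent.Solvable.Basics.pow_mem_frattini hE.1.1 _, rfl⟩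
  have hcomZ : ∀ u ∈ P', ∀ v ∈ P', u * v * u⁻¹ * v⁻¹ ∈ Z := fun u hu v hv =>
    ⟨⁅(⟨u, hu⟩ : ↥P'), (⟨v, hv⟩ : ↥P')⁆, by
      rw [← hcom]; exact Subgroup.commutator_mem_commutator (Subgroup.mem_top _) (Subgroup.mem_top _),
      rfl⟩
  have hZc : ∀ c ∈ Z, ∀ u ∈ P', Commute c u := by
    rintro _ ⟨c, hc, rfl⟩ u hu
    exact congrArg Subtype.val ((Subgroup.mem_center_iff.1 hc ⟨u, hu⟩).symm)
  have hZp : ∀ c ∈ Z, c ^ p = 1 := fun c hc => by
    have := pow_card_eq_one' (x := (⟨c, hc⟩ : ↥Z))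
    rw [hZcard] at this
    exact congrArg Subtype.val this
  -- the power map is multiplicative on `P`
  have hmul : ∀ u ∈ P', ∀ v ∈ P', (u * v) ^ p = u ^ p * v ^ p := by
    intro u hu v hv
    set c := v⁻¹ * u⁻¹ * v * u with hcdef
    have hcZ : c ∈ Z := by
      have := hcomZ v⁻¹ (inv_mem hv) u⁻¹ (inv_mem hu)
      simpa [hcdef, mul_assoc] using this
    have h : v * u = u * v * c := by rw [hcdef]; group
    rw [Coprime.OmegaDetect.mul_pow_central h (hZc c hcZ v hv) (hZc c hcZ u hu) p]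
    obtain ⟨r, hr⟩ : p ∣ p.choose 2 := hp'.dvd_choose_self (by norm_num)
      (lt_of_le_of_ne hp'.two_le (Ne.symm hp))
    rw [hr, pow_mul, hZp c hcZ, one_pow, mul_one]
  let φ : ↥P' →* ↥P' :=
    { toFun := fun u => u ^ p
      map_one' := one_pow _
      map_mul' := fun u v => Subtype.ext (hmul u u.2 v v.2) }
  set A := φ.ker.map P'.subtype
  have hAmem : ∀ u : G, u ∈ A ↔ u ∈ P' ∧ u ^ p = 1 := fun u => by
    constructor
    · rintro ⟨v, hv, rfl⟩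
      exact ⟨v.2, congrArg Subtype.val hv⟩
    · rintro ⟨hu, h⟩
      exact ⟨⟨u, hu⟩, Subtype.ext h, rfl⟩
  obtain ⟨y₀, hy₀P, hy₀⟩ : ∃ y ∈ P', y ^ p ≠ 1 := by
    by_contra! h
    have h1 : Monoid.exponent ↥P' ∣ p :=
      Monoid.exponent_dvd_of_forall_pow_eq_one fun u => Subtype.ext (h u u.2)
    rw [hexp'] at h1
    have := Nat.le_of_dvd hp'.pos h1
    have := hp'.two_le
    nlinarith
  have hrange : φ.range = Subgroup.center ↥P' := by
    refine Subgroup.eq_of_le_of_card_ge ?_ ?_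
    · rintro _ ⟨u, rfl⟩
      exact hfr ▸ Cfsg.Agent.Solvable.Basics.pow_mem_frattini hE.1.1 u
    · rw [hE2]
      refine le_of_eq_of_le (orderOf_eq_prime (x := φ ⟨y₀, hy₀P⟩) (Subtype.ext (hZp _ ?_)) ?_).symm
        (Nat.le_of_dvd Nat.card_pos (Subgroup.orderOf_dvd_natCard _ ⟨_, rfl⟩))
      · exact hpowZ y₀ hy₀P
      · exact fun h => hy₀ (congrArg Subtype.val h)
  have hkidx : φ.ker.index = p := by rw [Subgroup.index_ker, hrange, hE2]
  have hAcard : Nat.card ↥A = p ^ 2 := by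
    rw [← Nat.card_congr (Subgroup.equivMapOfInjective φ.ker _ P'.subtype_injective).toEquiv]
    have h1 := Subgroup.card_mul_index φ.ker
    rw [hkidx, show Nat.card ↥P' = p ^ 3 from hcard, pow_succ] at h1
    exact Nat.eq_of_mul_eq_mul_right hp'.pos h1
  have hAP : A ≤ P' := Subgroup.map_subtype_le _
  have hZA : Z ≤ A := fun c hc => (hAmem c).2 ⟨hZP hc, hZp c hc⟩
  have hAab : IsMulCommutative ↥A :=
    ⟨⟨fun a b => IsPGroup.commutative_of_card_eq_prime_sq (G := ↥A) (p := p) hAcard a b⟩⟩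
  have hPA : P' ≤ Subgroup.normalizer (A : Set G) :=
    Subgroup.le_normalizer_iff.2 fun u hu a ha => (hAmem _).2
      ⟨P'.mul_mem (P'.mul_mem hu (hAP ha)) (P'.inv_mem hu), by
        rw [conj_pow, ((hAmem a).1 ha).2, mul_one, mul_inv_cancel]⟩
  refine ⟨hZP, fun z0 hz0 g hgz => ?_⟩
  by_contra hxZ
  set x := g * z0 * g⁻¹ with hxdef
  have hxp : x ^ p = 1 := by rw [hxdef, conj_pow, hZp z0 hz0]; group
  have hxA : x ∈ A := (hAmem x).2 ⟨hgz, hxp⟩
  -- move `g` so that it normalizes `A`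
  set C := Subgroup.centralizer ({x} : Set G)
  have hAC : A ≤ C := fun a ha => Subgroup.mem_centralizer_singleton_iff.2 (setLike_mul_comm ha hxA)
  have hPC : P'.map (MulAut.conj g).toMonoidHom ≤ C := by
    rintro _ ⟨u, hu, rfl⟩
    rw [Subgroup.mem_centralizer_singleton_iff]
    exact ((hZc z0 hz0 u hu).map (MulAut.conj g).toMonoidHom).eq.symm
  obtain ⟨T, hT, hAT⟩ := CharP.exists_isSylIn_ge (P.2.to_le hAP) hAC
  have hgP : CharP.IsSylIn p (P'.map (MulAut.conj g).toMonoidHom) C := by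
    have := (CharP.isSylIn_top_iff.2 ⟨P, rfl⟩).conj g
    exact this.mono hPC (by rw [Subgroup.map_top_of_surjective _ (MulAut.conj g).surjective]; exact le_top)
  obtain ⟨c, hc, hcT⟩ := hgP.exists_conj hT
  rw [CharP.conj_map_map] at hcT
  set h := c * g with hh
  have hhz : h * z0 * h⁻¹ = x := by
    rw [hh, mul_inv_rev, show c * g * z0 * (g⁻¹ * c⁻¹) = c * x * c⁻¹ by rw [hxdef]; group,
      Subgroup.mem_centralizer_singleton_iff.1 hc, mul_inv_cancel_right]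
  have hAh : A = A.map (MulAut.conj h).toMonoidHom := by
    refine Subgroup.eq_of_le_of_card_ge (fun a ha => ?_)
      (le_of_eq (Nat.card_congr (Subgroup.equivMapOfInjective A _ (MulAut.conj h).injective).toEquiv).symm)
    obtain ⟨u, hu, rfl⟩ := hcT.ge (hAT ha)
    refine ⟨u, (hAmem u).2 ⟨hu, ?_⟩, rfl⟩
    have h1 := ((hAmem _).1 ha).2
    rw [← map_pow] at h1
    exact (MulAut.conj h).injective (h1.trans (map_one _).symm)
  have hhA : h ∈ Subgroup.normalizer (A : Set G) := CharP.mem_normalizer_of_conj_map hAh.symm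
  set N := Subgroup.normalizer (A : Set G) with hNdef
  have hPN : CharP.IsSylIn p P' N :=
    (CharP.isSylIn_top_iff.2 ⟨P, rfl⟩).mono hPA le_top
  obtain ⟨hz1, hx1⟩ : z0 ≠ 1 ∧ x ≠ 1 := by
    have hx1 : x ≠ 1 := fun e => hxZ (by rw [e]; exact one_mem Z)
    exact ⟨fun e => hx1 (by rw [hxdef, e]; group), hx1⟩
  have hzgen : ∀ w ∈ Z, w ≠ 1 → ∀ v ∈ Z, ∃ i : ℕ, v = w ^ i := by
    intro w hw hw1 v hv
    have hw' : (⟨w, hw⟩ : ↥Z) ≠ 1 := fun e => hw1 (congrArg Subtype.val e)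
    have := mem_powers_of_prime_card (G := ↥Z) (p := p) hZcard (g := ⟨w, hw⟩) (g' := ⟨v, hv⟩) hw'
    obtain ⟨i, hi⟩ := Submonoid.mem_powers_iff _ _ |>.1 this
    exact ⟨i, (congrArg Subtype.val hi).symm⟩
  -- an element outside `A` does not centralize `x`
  have hout : ∀ w ∈ A, w ∉ Z → ∀ u ∈ P', u ^ p ≠ 1 → u * w * u⁻¹ * w⁻¹ ≠ 1 := by
    intro w hw hwZ u hu hup he
    refine hwZ ⟨⟨w, hAP hw⟩, ?_, rfl⟩
    rw [SetLike.mem_coe, Subgroup.mem_center_iff]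
    intro v
    have hc : φ.ker ⊔ Subgroup.zpowers (⟨u, hu⟩ : ↥P') ≤
        Subgroup.centralizer ({⟨w, hAP hw⟩} : Set ↥P') := by
      refine sup_le (fun a ha => ?_) (Subgroup.zpowers_le.2 ?_)
      · exact Subgroup.mem_centralizer_singleton_iff.2
          (Subtype.ext (setLike_mul_comm (Subgroup.mem_map_of_mem _ ha) hw))
      · refine Subgroup.mem_centralizer_singleton_iff.2 (Subtype.ext ?_)
        exact mul_inv_eq_iff_eq_mul.1 (mul_inv_eq_one.1 he)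
    have htop : φ.ker ⊔ Subgroup.zpowers (⟨u, hu⟩ : ↥P') = ⊤ := by
      rw [← Subgroup.index_eq_one]
      have hd : (φ.ker ⊔ Subgroup.zpowers (⟨u, hu⟩ : ↥P')).index ∣ p :=
        hkidx ▸ Subgroup.index_dvd_of_le le_sup_left
      refine ((Nat.dvd_prime hp').1 hd).resolve_right fun e => hup ?_
      have hle := Subgroup.eq_of_le_of_card_ge (le_sup_left :
        φ.ker ≤ φ.ker ⊔ Subgroup.zpowers (⟨u, hu⟩ : ↥P')) (le_of_eq ?_)
      · exact congrArg Subtype.val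
          (hle.ge (Subgroup.mem_sup_right (Subgroup.mem_zpowers (⟨u, hu⟩ : ↥P'))))
      · refine Nat.eq_of_mul_eq_mul_right hp'.pos ?_
        conv_lhs => rw [← e, Subgroup.card_mul_index]
        conv_rhs => rw [← hkidx, Subgroup.card_mul_index]
    exact Subgroup.mem_centralizer_singleton_iff.1 (hc (htop ▸ Subgroup.mem_top v))
  -- `y` fixes `z` and moves `x` to `z x`
  set z := y₀ * x * y₀⁻¹ * x⁻¹ with hzdef
  have hzZ : z ∈ Z := hcomZ y₀ hy₀P x hgz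
  have hzne : z ≠ 1 := hout x hxA hxZ y₀ hy₀P hy₀
  have hzA : z ∈ A := hZA hzZ
  -- `y₁` fixes `x` and moves `z` to `x⁻¹ z`
  set w := h⁻¹ * z * h with hwdef
  have hconjA : ∀ a ∈ A, h⁻¹ * a * h ∈ A := fun a ha => by
    simpa using (Subgroup.mem_normalizer_iff.1 (N.inv_mem hhA) a).1 ha
  have hwZ : w ∉ Z := by
    intro hw
    obtain ⟨i, hi⟩ := hzgen z0 hz0 hz1 w hw
    have hzx : z = x ^ i := by
      rw [← hhz, conj_pow, ← hi, hwdef]; group
    refine hxZ ?_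
    have hcop : (i).Coprime p := by
      refine (hp'.coprime_iff_not_dvd.2 fun hd => hzne ?_).symm
      obtain ⟨r, rfl⟩ := hd
      rw [hzx, pow_mul, hxp, one_pow]
    obtain ⟨r, hr⟩ := exists_pow_eq_self_of_coprime (n := i) (x := x)
      (by rw [orderOf_eq_prime hxp hx1]; exact hcop)
    rw [← hr, ← hzx]
    exact pow_mem hzZ r
  obtain ⟨i, hi⟩ := hzgen _ (hcomZ y₀ hy₀P w (hAP (hconjA z hzA)))
    (hout w (hconjA z hzA) hwZ y₀ hy₀P hy₀) (h⁻¹ * x⁻¹ * h) (by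
      have : h⁻¹ * x⁻¹ * h = z0⁻¹ := by rw [← hhz]; group
      rw [this]
      exact inv_mem hz0)
  set y₂ := y₀ ^ i
  have hy₂w : y₂ * w * y₂⁻¹ = (h⁻¹ * x⁻¹ * h) * w := by
    rw [hi]
    set d := y₀ * w * y₀⁻¹ * w⁻¹ with hd
    have hdZ : d ∈ Z := hcomZ y₀ hy₀P w (hAP (hconjA z hzA))
    have hstep : y₀ * w * y₀⁻¹ = d * w := by rw [hd]; group
    have : ∀ n : ℕ, y₀ ^ n * w * (y₀ ^ n)⁻¹ = d ^ n * w := by
      intro n
      induction n with
      | zero => simp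
      | succ n ih =>
        calc y₀ ^ (n + 1) * w * (y₀ ^ (n + 1))⁻¹ = y₀ * (y₀ ^ n * w * (y₀ ^ n)⁻¹) * y₀⁻¹ := by
              rw [pow_succ' y₀, mul_inv_rev]; group
          _ = (y₀ * d ^ n) * w * y₀⁻¹ := by rw [ih]; group
          _ = (d ^ n * y₀) * w * y₀⁻¹ := by rw [((hZc d hdZ y₀ hy₀P).pow_left n).eq]
          _ = d ^ n * (y₀ * w * y₀⁻¹) := by group
          _ = d ^ (n + 1) * w := by rw [pow_succ, mul_assoc (d ^ n) d w, ← hstep]
    exact this i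
  set y₁ := h * y₂ * h⁻¹ with hy₁def
  have hy₁x : y₁ * x * y₁⁻¹ = x := by
    have hc : Commute z0 y₂ := hZc z0 hz0 y₂ (pow_mem hy₀P i)
    rw [← hhz, hy₁def]
    calc _ = h * (y₂ * z0 * y₂⁻¹) * h⁻¹ := by group
      _ = _ := by rw [← hc.eq, mul_inv_cancel_right]
  have hy₁z : y₁ * z * y₁⁻¹ = x⁻¹ * z := by
    calc _ = h * (y₂ * w * y₂⁻¹) * h⁻¹ := by rw [hy₁def, hwdef]; group
      _ = _ := by rw [hy₂w, hwdef]; group
  have hy₀z : y₀ * z * y₀⁻¹ = z := by rw [← (hZc z hzZ y₀ hy₀P).eq, mul_inv_cancel_right]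
  have hy₀x : y₀ * x * y₀⁻¹ = z * x := by rw [hzdef]; group
  set t := (y₀ * y₁ * y₀) * (y₀ * y₁ * y₀)
  have hcomm : z * x = x * z := setLike_mul_comm hzA hxA
  have hw1z : (y₀ * y₁ * y₀) * z * (y₀ * y₁ * y₀)⁻¹ = x⁻¹ := by
    calc _ = y₀ * (y₁ * (y₀ * z * y₀⁻¹) * y₁⁻¹) * y₀⁻¹ := by group
      _ = y₀ * (x⁻¹ * z) * y₀⁻¹ := by rw [hy₀z, hy₁z]
      _ = (y₀ * x * y₀⁻¹)⁻¹ * (y₀ * z * y₀⁻¹) := by group
      _ = x⁻¹ := by rw [hy₀x, hy₀z]; group
  have hw1x : (y₀ * y₁ * y₀) * x * (y₀ * y₁ * y₀)⁻¹ = z := by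
    calc _ = y₀ * ((y₁ * z * y₁⁻¹) * (y₁ * x * y₁⁻¹)) * y₀⁻¹ := by
          rw [show (y₁ * z * y₁⁻¹) * (y₁ * x * y₁⁻¹) = y₁ * (z * x) * y₁⁻¹ by group, ← hy₀x]
          group
      _ = y₀ * z * y₀⁻¹ := by
          rw [hy₁z, hy₁x, mul_assoc x⁻¹, hcomm]; group
      _ = z := hy₀z
  have htz : t * z * t⁻¹ = z⁻¹ := by
    calc _ = (y₀ * y₁ * y₀) * ((y₀ * y₁ * y₀) * z * (y₀ * y₁ * y₀)⁻¹) * (y₀ * y₁ * y₀)⁻¹ := by
          simp only [t]; group
      _ = ((y₀ * y₁ * y₀) * x * (y₀ * y₁ * y₀)⁻¹)⁻¹ := by rw [hw1z]; group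
      _ = _ := by rw [hw1x]
  have htx : t * x * t⁻¹ = x⁻¹ := by
    calc _ = (y₀ * y₁ * y₀) * ((y₀ * y₁ * y₀) * x * (y₀ * y₁ * y₀)⁻¹) * (y₀ * y₁ * y₀)⁻¹ := by
          simp only [t]; group
      _ = _ := by rw [hw1x, hw1z]
  have hy₀N : y₀ ∈ N := hPA hy₀P
  have hy₁N : y₁ ∈ N := N.mul_mem (N.mul_mem hhA (hPA (pow_mem hy₀P i))) (N.inv_mem hhA)
  have htN : t ∈ N :=
    N.mul_mem (N.mul_mem (N.mul_mem hy₀N hy₁N) hy₀N) (N.mul_mem (N.mul_mem hy₀N hy₁N) hy₀N)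
  -- `A` is generated by `z` and `x`
  have hgenA : ∀ a ∈ A, ∀ f : G, f * z * f⁻¹ = z → f * x * f⁻¹ = x → Commute a f := by
    intro a ha f hfz hfx
    have hle : Subgroup.zpowers z ⊔ Subgroup.zpowers x ≤ A :=
      sup_le (Subgroup.zpowers_le.2 hzA) (Subgroup.zpowers_le.2 hxA)
    have hlt : Subgroup.zpowers z < Subgroup.zpowers z ⊔ Subgroup.zpowers x :=
      left_lt_sup.2 fun h => hxZ (Subgroup.zpowers_le.2 hzZ (h (Subgroup.mem_zpowers x)))
    have hd : Nat.card ↥(Subgroup.zpowers z ⊔ Subgroup.zpowers x) ∣ p ^ 2 :=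
      hAcard ▸ Subgroup.card_dvd_of_le hle
    obtain ⟨k, hk, hkc⟩ := (Nat.dvd_prime_pow hp').1 hd
    have hzc : Nat.card ↥(Subgroup.zpowers z) = p := by
      rw [Nat.card_zpowers, orderOf_eq_prime (hZp z hzZ) hzne]
    have h1 : Nat.card ↥(Subgroup.zpowers z) <
        Nat.card ↥(Subgroup.zpowers z ⊔ Subgroup.zpowers x) := by
      by_contra hge
      exact hlt.ne (Subgroup.eq_of_le_of_card_ge hlt.le (not_lt.1 hge))
    have hk2 : k = 2 := by
      rcases Nat.lt_or_ge k 2 with hk1 | hk1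
      · have : p ^ k ≤ p ^ 1 := Nat.pow_le_pow_right hp'.pos (by omega)
        rw [hzc, hkc] at h1
        rw [pow_one] at this
        omega
      · omega
    have heq := Subgroup.eq_of_le_of_card_ge hle (by rw [hAcard, hkc, hk2])
    have hcen : Subgroup.zpowers z ⊔ Subgroup.zpowers x ≤ Subgroup.centralizer ({f} : Set G) :=
      sup_le (Subgroup.zpowers_le.2 (Subgroup.mem_centralizer_singleton_iff.2
          (mul_inv_eq_iff_eq_mul.1 hfz).symm))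
        (Subgroup.zpowers_le.2 (Subgroup.mem_centralizer_singleton_iff.2
          (mul_inv_eq_iff_eq_mul.1 hfx).symm))
    exact Subgroup.mem_centralizer_singleton_iff.1 (hcen (heq ▸ ha))
  set f := y₀⁻¹ * t * y₀ * t⁻¹ with hfdef
  have hfz : f * z * f⁻¹ = z := by
    have h1 : t⁻¹ * z * t = z⁻¹ := by
      rw [← inv_inj, inv_inv]
      calc (t⁻¹ * z * t)⁻¹ = t⁻¹ * (t * z * t⁻¹) * t := by rw [htz]; group
        _ = z := by group
    calc f * z * f⁻¹ = y₀⁻¹ * (t * (y₀ * (t⁻¹ * z * t) * y₀⁻¹) * t⁻¹) * y₀ := by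
          rw [hfdef]; group
      _ = y₀⁻¹ * ((t * (y₀ * z * y₀⁻¹) * t⁻¹)⁻¹) * y₀ := by rw [h1]; group
      _ = y₀⁻¹ * z * y₀ := by rw [hy₀z, htz, inv_inv]
      _ = y₀⁻¹ * (y₀ * z * y₀⁻¹) * y₀ := by rw [hy₀z]
      _ = z := by group
  have hfx : f * x * f⁻¹ = x := by
    have h1 : t⁻¹ * x * t = x⁻¹ := by
      rw [← inv_inj, inv_inv]
      calc (t⁻¹ * x * t)⁻¹ = t⁻¹ * (t * x * t⁻¹) * t := by rw [htx]; group
        _ = x := by group
    calc f * x * f⁻¹ = y₀⁻¹ * (t * (y₀ * (t⁻¹ * x * t) * y₀⁻¹) * t⁻¹) * y₀ := by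
          rw [hfdef]; group
      _ = y₀⁻¹ * ((t * (y₀ * x * y₀⁻¹) * t⁻¹)⁻¹) * y₀ := by rw [h1]; group
      _ = y₀⁻¹ * (x * z) * y₀ := by
          rw [hy₀x, show t * (z * x) * t⁻¹ = (t * z * t⁻¹) * (t * x * t⁻¹) by group, htz, htx]
          group
      _ = y₀⁻¹ * (y₀ * x * y₀⁻¹) * y₀ := by rw [hy₀x, hcomm]
      _ = x := by group
  -- split `C(A)`
  set CA := N ⊓ Subgroup.centralizer (A : Set G)
  have hfCA : f ∈ CA :=
    ⟨N.mul_mem (N.mul_mem (N.mul_mem (N.inv_mem hy₀N) htN) hy₀N) (N.inv_mem htN),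
      fun a ha => (hgenA a ha f hfz hfx).eq⟩
  have hsyl := hPN.inf_centralizer (Y := A) le_rfl
  have hPcA : P' ⊓ Subgroup.centralizer (A : Set G) = A := by
    refine le_antisymm (fun u hu => (hAmem u).2 ⟨hu.1, ?_⟩)
      (le_inf hAP (Subgroup.le_centralizer A))
    by_contra hup
    exact hout x hxA hxZ u hu.1 hup (by rw [← hu.2 x hxA]; group)
  rw [hPcA] at hsyl
  obtain ⟨S₀, hS₀⟩ := hsyl
  have hS₀c : (S₀ : Subgroup ↥CA) ≤ Subgroup.center ↥CA := fun a ha => by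
    rw [Subgroup.mem_center_iff]
    intro b
    have : (a : G) ∈ A := hS₀.le (Subgroup.mem_map_of_mem _ ha)
    exact Subtype.ext (b.2.2 _ this).symm
  have hB := Transfer.NormalPComplement.hasNormalPComplement_of_normalizer_le_centralizer S₀
    (fun a _ b hb => Subgroup.mem_center_iff.1 (hS₀c hb) a |>.symm)
  obtain ⟨K₀, hK₀n, hK₀⟩ := (Transfer.NormalPComplement.hasNormalPComplement_iff_sylow S₀).1 hB
  obtain ⟨k, hk, a, ha, hka⟩ := Subgroup.mem_sup_of_normal_left.1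
    (show (⟨f, hfCA⟩ : ↥CA) ∈ K₀ ⊔ (S₀ : Subgroup ↥CA) from hK₀.sup_eq_top ▸ Subgroup.mem_top _)
  set K := K₀.map CA.subtype
  have hKmem : ∀ {u : G}, u ∈ K ↔ u ∈ CA ∧ (orderOf u).Coprime p := fun {u} => by
    constructor
    · rintro ⟨v, hv, rfl⟩
      refine ⟨v.2, ?_⟩
      change (orderOf (v : G)).Coprime p
      rw [Subgroup.orderOf_coe]
      exact (Transfer.NormalPComplement.mem_iff_coprime_of_isComplement' hK₀).1 hv
    · rintro ⟨hu, ho⟩
      refine ⟨⟨u, hu⟩, (Transfer.NormalPComplement.mem_iff_coprime_of_isComplement' hK₀).2 ?_, rfl⟩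
      rwa [← Subgroup.orderOf_coe]
  have hyK : y₀ * (a : G) ∈ Subgroup.normalizer (K : Set G) := by
    refine (?_ : N ≤ Subgroup.normalizer (K : Set G)) (N.mul_mem hy₀N a.2.1)
    refine Subgroup.le_normalizer_iff.2 fun u hu v hv => ?_
    obtain ⟨hv1, hv2⟩ := hKmem.1 hv
    refine hKmem.2 ⟨⟨N.mul_mem (N.mul_mem hu hv1.1) (N.inv_mem hu), ?_⟩, ?_⟩
    · exact (Subgroup.mem_normalizer_iff.1
        ((CharP.normalizer_le_normalizer_centralizer A) hu) v).1 hv1.2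
    · rw [show u * v * u⁻¹ = MulAut.conj u v from rfl, MulEquiv.orderOf_eq]
      exact hv2
  have hpk := CharP.inv_pow_mul_mul_pow_mem hyK (Subgroup.mem_map_of_mem CA.subtype hk) p
  have haA : (a : G) ∈ A := hS₀.le (Subgroup.mem_map_of_mem _ ha)
  have hfka : f = (a : G) * (k : G) := by
    have := congrArg Subtype.val (hka.symm.trans (Subgroup.mem_center_iff.1 (hS₀c ha) k))
    exact this
  have hty : t * y₀ * t⁻¹ = y₀ * a * k := by rw [mul_assoc y₀ (a : G), ← hfka, hfdef]; group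
  have hya : (y₀ * (a : G)) ^ p = y₀ ^ p := by
    rw [hmul y₀ hy₀P a (hAP haA), ((hAmem _).1 haA).2, mul_one]
  have hu0 : t * y₀ ^ p * t⁻¹ = (y₀ ^ p)⁻¹ := by
    obtain ⟨m, hm⟩ := hzgen z hzZ hzne (y₀ ^ p) (hpowZ y₀ hy₀P)
    rw [hm, ← conj_pow, htz, inv_pow]
  have hmem : (y₀ ^ p)⁻¹ * (y₀ ^ p)⁻¹ ∈ K := by
    have e : ((y₀ * (a : G)) * (k : G)) ^ p = (y₀ ^ p)⁻¹ := by rw [← hty, conj_pow, hu0]
    change ((y₀ * (a : G)) ^ p)⁻¹ * ((y₀ * (a : G)) * (k : G)) ^ p ∈ K at hpk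
    rwa [e, hya] at hpk
  have hZy : (y₀ ^ p)⁻¹ * (y₀ ^ p)⁻¹ ∈ Z :=
    mul_mem (inv_mem (hpowZ y₀ hy₀P)) (inv_mem (hpowZ y₀ hy₀P))
  have h1 : (y₀ ^ p)⁻¹ * (y₀ ^ p)⁻¹ = 1 := by
    rw [← orderOf_eq_one_iff]
    exact Nat.eq_one_of_dvd_coprimes (hKmem.1 hmem).2 dvd_rfl
      (orderOf_dvd_of_pow_eq_one (hZp _ hZy))
  have h2 : (y₀ ^ p) ^ 2 = 1 := by rw [← mul_inv_rev, inv_eq_one] at h1; rw [pow_two, h1]
  have h3 := pow_gcd_eq_one.2 ⟨h2, hZp _ (hpowZ y₀ hy₀P)⟩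
  rw [(Nat.coprime_primes Nat.prime_two hp').2 (Ne.symm hp), pow_one] at h3
  exact hy₀ h3

end Cfsg.Agent.S3053
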