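import Cfsg.Statements.S3054
import Cfsg.Agent.Techniques.LinePair.Planes

set_option autoImplicit false
open Cfsg

namespace Cfsg.Agent.S3054

/-- Let p be an odd prime and G a finite group with a Sylow p-subgroup P that is extraspecial of order p³ and exponent p. Suppose P contains three distinct subgroups A of order p² (each is elementary abelian of rank 2) such that every automorphism of A of order p is induced by conjugation by an element of G; equivalently the automorphism group induced on A by its normalizer contains the special linear group of A. Then p ≤ 13. -/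
theorem result {G : Type*} [Group G] [Finite G]
    {p : ℕ} [Fact p.Prime] (hp : p ≠ 2) (P : Sylow p G) (hE : Cfsg.IsExtraspecial p ↥P)
    (hcard : Nat.card P = p ^ 3) (hexp : Monoid.exponent ↥P = p)
    (A : Fin 3 → Subgroup G) (hA : Function.Injective A) (hAP : ∀ i, A i ≤ (P : Subgroup G))
    (hAcard : ∀ i, Nat.card ↥(A i) = p ^ 2)
    (hSL : ∀ i, ∀ φ : MulAut ↥(A i), orderOf φ = p → ∃ g : G, ∀ a : ↥(A i), (φ a : G) = g * (a : G) * g⁻¹) :
    p ≤ 13 := by
  by_contra hlt
  have hp' := (Fact.out : p.Prime)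
  have h17 : 17 ≤ p := by
    have h14 : p ≠ 14 := fun h => by rw [h] at hp'; norm_num at hp'
    have h15 : p ≠ 15 := fun h => by rw [h] at hp'; norm_num at hp'
    have h16 : p ≠ 16 := fun h => by rw [h] at hp'; norm_num at hp'
    omega
  obtain ⟨D⟩ := Techniques.LinePair.Local.exists_data (P : Subgroup G) hE hcard hexp
  have h : ∀ i, ∃ a ∈ (P : Subgroup G), Techniques.LinePair.Setup.cd D a ≠ 0 ∧
      (∀ u ∈ A i, ∃ k j : ZMod p, u = Techniques.LinePair.Local.elA D.z a k j) ∧ D.z ∈ A i ∧ a ∈ A i ∧
      ∃ g : G, g * a * g⁻¹ = a ∧ g * D.z * g⁻¹ = D.z * a := by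
    intro i
    obtain ⟨hz, a, haA, hcd, hspan⟩ :=
      Techniques.LinePair.Planes.exists_line D hcard (A i) (hAP i) (hAcard i)
    obtain ⟨φ, hφ, hφa, hφz⟩ :=
      Techniques.LinePair.Planes.exists_shear_aut D (A i) (hAP i haA) hcd haA hz hspan
    obtain ⟨g, hg⟩ := hSL i φ hφ
    refine ⟨a, hAP i haA, hcd, hspan, hz, haA, g, ?_, ?_⟩
    · have := hg ⟨a, haA⟩
      rw [hφa] at this
      exact this.symm
    · have := hg ⟨D.z, hz⟩
      rw [hφz] at this
      exact this.symm
  choose a ha hcd hspan hz haA hg using h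
  obtain ⟨m, hm, hmd⟩ := Techniques.LinePair.Main.large h17
  have := (Techniques.LinePair.Main.card_le P D a ha hcd ?_ hg m (Or.inr hm) hmd).2 hm
  · simp at this
  · intro i j c hij
    apply hA
    refine Subgroup.eq_of_le_of_card_ge (fun u hu => ?_) (by rw [hAcard, hAcard])
    obtain ⟨k, l, rfl⟩ := hspan i u hu
    refine (A j).mul_mem ((A j).pow_mem (hz j) _) ((A j).pow_mem ?_ _)
    have hd : Techniques.LinePair.Setup.cd D (a i * (Techniques.LinePair.Setup.pw (a j) c)⁻¹) = 0 := by
      have hi : (Techniques.LinePair.Setup.pw (a j) c)⁻¹ = Techniques.LinePair.Setup.pw (a j) (-c) :=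
        (Techniques.LinePair.Setup.pw_neg (D.exp _ (ha j)) c).symm
      rw [hi, Techniques.LinePair.Setup.cd_mul D (ha i) (Techniques.LinePair.Setup.pw_mem (ha j) _),
        Techniques.LinePair.Setup.cd_pw D (ha j), hij, neg_smul, add_neg_cancel]
    obtain ⟨q, hq⟩ := Techniques.LinePair.Setup.cd_eq_zero D
      ((P : Subgroup G).mul_mem (ha i) ((P : Subgroup G).inv_mem (Techniques.LinePair.Setup.pw_mem (ha j) _))) hd
    rw [mul_inv_eq_iff_eq_mul] at hq
    rw [hq]
    exact (A j).mul_mem ((A j).pow_mem (hz j) _) ((A j).pow_mem (haA j) _)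

end Cfsg.Agent.S3054
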