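import Cfsg.Statements.S3055
import Cfsg.Agent.Techniques.LinePair.Planes

set_option autoImplicit false
open Cfsg

namespace Cfsg.Agent.S3055

/-- Let p be an odd prime and G a finite group with a Sylow p-subgroup P that is extraspecial of order p³ and exponent p. If all nonidentity elements of P are conjugate in G, then p ≤ 7. -/
theorem result {G : Type*} [Group G] [Finite G]
    {p : ℕ} [Fact p.Prime] (hp : p ≠ 2) (P : Sylow p G) (hE : Cfsg.IsExtraspecial p ↥P)
    (hcard : Nat.card P = p ^ 3) (hexp : Monoid.exponent ↥P = p)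
    (hconj : ∀ x y : ↥P, x ≠ 1 → y ≠ 1 → ∃ g : G, g * (x : G) * g⁻¹ = (y : G)) :
    p ≤ 7 := by
  by_contra hlt
  have hp' := (Fact.out : p.Prime)
  have h11 : 11 ≤ p := by
    have h8 : p ≠ 8 := fun h => by rw [h] at hp'; norm_num at hp'
    have h9 : p ≠ 9 := fun h => by rw [h] at hp'; norm_num at hp'
    have h10 : p ≠ 10 := fun h => by rw [h] at hp'; norm_num at hp'
    omega
  obtain ⟨m, hm, hmd⟩ : ∃ m, (m = 4 ∨ 6 ≤ m) ∧ ∀ k : ℕ, p - 1 ∣ 3 * k → m ∣ k := by
    by_cases h : 17 ≤ p
    · obtain ⟨m, hm, hmd⟩ := Techniques.LinePair.Main.large h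
      exact ⟨m, Or.inr hm, hmd⟩
    · interval_cases p <;> first
        | (norm_num at hp'; done)
        | (refine ⟨10, Or.inr (by norm_num), fun k hk => ?_⟩; omega)
        | (refine ⟨4, Or.inl rfl, fun k hk => ?_⟩; omega)
  obtain ⟨D⟩ := Techniques.LinePair.Local.exists_data (P : Subgroup G) hE hcard hexp
  let v : Option (ZMod p) → Fin 2 → ZMod p := fun o => o.elim ![0, 1] (fun i => ![1, i])
  have hcd : ∀ o, Techniques.LinePair.Setup.cd D (Techniques.LinePair.Setup.el D (v o)) ≠ 0 := by
    intro o h
    rw [Techniques.LinePair.Setup.cd_el] at h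
    cases o with
    | none => simpa [v] using congrFun h 1
    | some i => simpa [v] using congrFun h 0
  have := (Techniques.LinePair.Main.card_le P D (fun o => Techniques.LinePair.Setup.el D (v o))
    (fun o => Techniques.LinePair.Setup.el_mem D _) hcd ?_
    (fun o => Techniques.LinePair.Planes.exists_of_conjugate P D hconj (Techniques.LinePair.Setup.el_mem D _) (hcd o))
    m hm hmd).1
  · rw [Fintype.card_option, ZMod.card] at this
    omega
  · intro i j c h
    rw [Techniques.LinePair.Setup.cd_el, Techniques.LinePair.Setup.cd_el] at h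
    have e0 := congrFun h 0
    have e1 := congrFun h 1
    cases i <;> cases j <;> simp [v] at e0 e1
    · rfl
    · rw [← e0] at e1; simp at e1
    · rw [← e0, one_mul] at e1; rw [e1]

end Cfsg.Agent.S3055
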