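import Cfsg.Statements.S3056
import Cfsg.Agent.Lib.CharP.StronglyEmbedded

set_option autoImplicit false
open Cfsg

namespace Cfsg.Agent.S3056

open Cfsg.Agent.CharP
open scoped Pointwise

/-- Let G be a finite group and p a prime. Join two Sylow p-subgroups when they are distinct and meet nontrivially. This graph on the Sylow p-subgroups is disconnected (the Sylow p-subgroups are not chain-connected through nontrivial intersections) if and only if G has a strongly p-embedded subgroup in the classical sense: a proper subgroup H of order divisible by p such that H ∩ gHg⁻¹ has order prime to p for every g outside H. -/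
theorem result {G : Type*} [Group G] [Finite G]
    (p : ℕ) [Fact p.Prime] :
    ¬ Cfsg.IsSylowChainConnected p G ↔
      ∃ H : Subgroup G, H ≠ ⊤ ∧ p ∣ Nat.card H ∧
        ∀ g : G, g ∉ H → ¬ p ∣ Nat.card ↥(H ⊓ H.map (MulAut.conj g).toMonoidHom) := by
  classical
  have hp := (Fact.out : p.Prime)
  constructor
  · intro hdis
    unfold Cfsg.IsSylowChainConnected at hdis
    push Not at hdis
    obtain ⟨S, T, hST⟩ := hdis
    let adj : Sylow p G → Sylow p G → Prop := fun A B => (A : Subgroup G) ⊓ (B : Subgroup G) ≠ ⊥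
    let cls : Sylow p G → Sylow p G → Prop := Relation.ReflTransGen adj
    have hSTbot : (S : Subgroup G) ⊓ (T : Subgroup G) = ⊥ := by
      by_contra hne
      by_cases heq : S = T
      · obtain ⟨i, -⟩ := hST 0 (fun _ => S) rfl heq (fun i => inf_le_left)
        exact i.elim0
      · obtain ⟨i, hi⟩ := hST 1 ![S, T] rfl rfl (fun i => by
          fin_cases i
          · exact inf_le_left
          · exact inf_le_right)
        fin_cases i
        exact hi heq |> fun h => hne h
    have hchain : ∀ U, cls S U → ∃ (n : ℕ) (c : Fin (n + 1) → Sylow p G), c 0 = S ∧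
        c (Fin.last n) = U ∧ ∀ i : Fin n, c i.castSucc ≠ c i.succ ∧
          (c i.castSucc : Subgroup G) ⊓ (c i.succ : Subgroup G) ≠ ⊥ := by
      intro U hU
      induction hU with
      | refl => exact ⟨0, fun _ => S, rfl, rfl, fun i => i.elim0⟩
      | tail _ hab ih =>
        rename_i V W _
        obtain ⟨n, c, h0, hn, hc⟩ := ih
        by_cases hVW : V = W
        · exact ⟨n, c, h0, hVW ▸ hn, hc⟩
        · refine ⟨n + 1, Fin.snoc c W, ?_, by simp, fun i => ?_⟩
          · rw [← Fin.castSucc_zero, Fin.snoc_castSucc]; exact h0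
          · refine Fin.lastCases ?_ (fun j => ?_) i
            · simp only [Fin.succ_last, Fin.snoc_last, Fin.snoc_castSucc, hn]
              exact ⟨hVW, hab⟩
            · simp only [Fin.succ_castSucc, Fin.snoc_castSucc]
              exact hc j
    have hnT : ¬ cls S T := by
      intro h
      obtain ⟨n, c, h0, hn, hc⟩ := hchain T h
      obtain ⟨i, hi⟩ := hST n c h0 hn (fun i => by rw [hSTbot]; exact bot_le)
      exact (hc i).2 (hi (hc i).1)
    have hsymm : ∀ A B, cls A B → cls B A := fun A B h => by
      induction h with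
      | refl => exact Relation.ReflTransGen.refl
      | tail _ hab ih =>
        exact Relation.ReflTransGen.head (show adj _ _ by
          show _ ≠ ⊥
          rw [inf_comm]
          exact hab) ih
    have hsmul : ∀ (g : G) A B, cls A B → cls (g • A) (g • B) := fun g A B h => by
      induction h with
      | refl => exact Relation.ReflTransGen.refl
      | tail _ hab ih =>
        refine Relation.ReflTransGen.tail ih ?_
        show _ ≠ ⊥
        rw [Sylow.coe_subgroup_smul, Sylow.coe_subgroup_smul, ← Subgroup.smul_inf]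
        intro h0
        refine hab ?_
        rw [← inv_smul_smul (MulAut.conj g) ((_ : Subgroup G) ⊓ _), h0]
        simp
    let H : Subgroup G :=
      { carrier := {g | cls (g • S) S}
        one_mem' := by show cls ((1 : G) • S) S; rw [one_smul]
        mul_mem' := by
          intro a b ha hb
          show cls ((a * b) • S) S
          rw [mul_smul]
          exact Relation.ReflTransGen.trans (hsmul a _ _ hb) ha
        inv_mem' := by
          intro a ha
          show cls (a⁻¹ • S) S
          have := hsymm _ _ (hsmul a⁻¹ _ _ ha)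
          rwa [inv_smul_smul] at this }
    have hHtop : H ≠ ⊤ := by
      intro h
      obtain ⟨g, hg⟩ := MulAction.exists_smul_eq G S T
      have : g ∈ H := h ▸ Subgroup.mem_top g
      exact hnT (hg ▸ hsymm _ _ this)
    have hS1 : (S : Subgroup G) ≠ ⊥ := by
      intro h
      obtain ⟨g, hg⟩ := MulAction.exists_smul_eq G S T
      have hT1 : (T : Subgroup G) = ⊥ := by
        rw [← hg, Sylow.coe_subgroup_smul, h]; simp
      exact hnT ((Sylow.ext (h.trans hT1.symm) : S = T) ▸ Relation.ReflTransGen.refl)
    have hSH : (S : Subgroup G) ≤ H := fun s hs => by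
      show cls (s • S) S
      rw [Sylow.smul_eq_iff_mem_normalizer.2 (Subgroup.le_normalizer hs)]
    have hSs : IsSylIn p (S : Subgroup G) H := (isSylIn_top_iff.2 ⟨S, rfl⟩).mono hSH le_top
    refine ⟨H, hHtop, ?_, fun g hg hd => hg ?_⟩
    · obtain ⟨k, hk⟩ := IsPGroup.iff_card.1 S.isPGroup'
      refine (hk ▸ dvd_pow_self p fun h0 => hS1 ?_ : p ∣ Nat.card ↥(S : Subgroup G)).trans
        (Subgroup.card_dvd_of_le hSH)
      rw [h0, pow_zero] at hk
      exact Subgroup.card_eq_one.1 hk
    · obtain ⟨x, hx⟩ := exists_prime_orderOf_dvd_card' p hd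
      have hxo : orderOf (x : G) = p := (Subgroup.orderOf_coe x).trans hx
      have near : ∀ (P : Sylow p G) (y : G), y ∈ (P : Subgroup G) → y ∈ H → y ≠ 1 →
          (∃ k, orderOf y = p ^ k) → cls P S := by
        intro P y hyP hyH hy1 hyp
        obtain ⟨U, hU, hyU⟩ := exists_isSylIn_ge (P := Subgroup.zpowers y)
          (P.isPGroup'.to_le (Subgroup.zpowers_le.2 hyP)) (Subgroup.zpowers_le.2 hyH)
        obtain ⟨m, hm, hmU⟩ := hSs.exists_conj hU
        refine Relation.ReflTransGen.head ?_ (hm : cls (m • S) S)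
        show _ ≠ ⊥
        intro h0
        refine hy1 (Subgroup.mem_bot.1 (h0 ▸ (Subgroup.mem_inf.2 ⟨hyP, ?_⟩ :
          y ∈ (P : Subgroup G) ⊓ ((m • S : Sylow p G) : Subgroup G))))
        rw [Sylow.coe_subgroup_smul]
        exact (hmU ▸ hyU (Subgroup.mem_zpowers y) :)
      obtain ⟨P, hP⟩ := (IsPGroup.of_card (n := 1) (p := p) (G := ↥(Subgroup.zpowers (x : G)))
        (by rw [Nat.card_zpowers, hxo, pow_one])).exists_le_sylow
      have hxP : (x : G) ∈ (P : Subgroup G) := hP (Subgroup.mem_zpowers _)
      have hx1 : (x : G) ≠ 1 := fun h => by rw [h, orderOf_one] at hxo; exact hp.ne_one hxo.symm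
      obtain ⟨y, hy, hyx⟩ := Subgroup.mem_map.1 x.2.2
      have hyx' : g * y * g⁻¹ = (x : G) := hyx
      have hy1 : y ≠ 1 := fun h => hx1 (by rw [← hyx', h, mul_one, mul_inv_cancel])
      have h1 := near P x hxP x.2.1 hx1 ⟨1, by rw [hxo, pow_one]⟩
      have h2 := near (g⁻¹ • P) y (by
        rw [Sylow.coe_subgroup_smul]
        refine ⟨x, hxP, ?_⟩
        show g⁻¹ * (x : G) * g⁻¹⁻¹ = y
        rw [← hyx']; group) hy hy1 ⟨1, by
        rw [pow_one, ← hxo, ← hyx']
        exact (orderOf_injective (MulAut.conj g).toMonoidHom (MulAut.conj g).injective y).symm⟩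
      have h3 := hsmul g _ _ h2
      rw [smul_inv_smul] at h3
      exact Relation.ReflTransGen.trans (hsymm _ _ h3) h1
  · rintro ⟨H, hH, hpH, hse⟩ hcon
    have hH' : Cfsg.IsStronglyPEmbedded p H :=
      spe_of_dvd hH hpH fun g hg => by
        by_contra hgH
        exact hse g hgH hg
    obtain ⟨S₀, hS₀⟩ := exists_isSylIn p (H ⊓ ⊤)
    have hS₀1 : S₀ ≠ ⊥ := by
      rintro rfl
      have h0 := hS₀.not_dvd
      rw [inf_top_eq, Subgroup.relIndex_bot_left] at h0
      exact h0 hpH
    obtain ⟨S, rfl⟩ := isSylIn_top_iff.1 (spe_isSylIn_of_inf hH' hS₀ hS₀1)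
    have hSH : (S : Subgroup G) ≤ H := hS₀.le.trans inf_le_left
    obtain ⟨g, -, hg⟩ := SetLike.exists_of_lt (lt_top_iff_ne_top.2 hH)
    obtain ⟨n, c, hc0, hcn, -, hadj⟩ := hcon S (g • S)
    have hall : ∀ i : Fin (n + 1), (c i : Subgroup G) ≤ H := by
      intro i
      induction i using Fin.induction with
      | zero => rw [hc0]; exact hSH
      | succ j ih =>
        obtain ⟨a, ha⟩ := exists_prime_orderOf_dvd_card' (G := ↥((c j.castSucc : Subgroup G) ⊓
          (c j.succ : Subgroup G))) p (by
            obtain ⟨k, hk⟩ := IsPGroup.iff_card.1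
              ((c j.castSucc).isPGroup'.to_le (inf_le_left (b := (c j.succ : Subgroup G))))
            refine hk ▸ dvd_pow_self p fun h0 => (hadj j).2 ?_
            rw [h0, pow_zero] at hk
            exact Subgroup.card_eq_one.1 hk)
        exact spe_sylow_le hH' (c j.succ) a.2.2 (ih a.2.1) ((Subgroup.orderOf_coe a).trans ha)
    refine hg (spe_mem_of_dvd hH' ?_)
    refine dvd_trans ?_ (Subgroup.card_dvd_of_le (H := ((g • S : Sylow p G) : Subgroup G)) (le_inf (hcn ▸ hall _) ?_))
    · obtain ⟨k, hk⟩ := IsPGroup.iff_card.1 (g • S).isPGroup'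
      refine hk ▸ dvd_pow_self p fun h0 => hS₀1 ?_
      rw [h0, pow_zero] at hk
      have h5 := Subgroup.card_eq_one.1 hk
      rw [Sylow.coe_subgroup_smul] at h5
      rw [← inv_smul_smul (MulAut.conj g) (S : Subgroup G), h5]
      simp
    · rw [Sylow.coe_subgroup_smul]
      exact Subgroup.map_mono hSH

end Cfsg.Agent.S3056
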