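import Cfsg.Statements.S3057
import Cfsg.Agent.Lib.PLocal.PSolvable
import Cfsg.Agent.Lib.Coprime.Generation
import Cfsg.Agent.Lib.PGroups.UniqueSubgroup
import Cfsg.Agent.Lib.Cores.Subnormal

set_option autoImplicit false
open Cfsg

namespace Cfsg.Agent.S3057

open Subgroup Cfsg.Agent.PLocal Cfsg.Agent.PLocal.Cores
open scoped Pointwise

variable {G : Type*} [Group G] {p : ℕ}

/-- Adjacency of distinct Sylow subgroups with nontrivial intersection. -/
def Adj (S T : Sylow p G) : Prop := S ≠ T ∧ (S : Subgroup G) ⊓ (T : Subgroup G) ≠ ⊥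

theorem adj_symm {S T : Sylow p G} (h : Adj S T) : Adj T S :=
  ⟨h.1.symm, by rw [inf_comm]; exact h.2⟩

theorem adj_smul (g : G) {S T : Sylow p G} (h : Adj S T) : Adj (g • S) (g • T) := by
  refine ⟨fun e => h.1 (smul_left_cancel g e), fun e => h.2 ?_⟩
  rw [Sylow.coe_subgroup_smul, Sylow.coe_subgroup_smul, ← Subgroup.smul_inf] at e
  exact smul_left_cancel (MulAut.conj g) (by simpa using e)

theorem rtg_symm {S T : Sylow p G} (h : Relation.ReflTransGen Adj S T) :
    Relation.ReflTransGen Adj T S := by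
  induction h with
  | refl => exact Relation.ReflTransGen.refl
  | tail _ hUV ih => exact (Relation.ReflTransGen.single (adj_symm hUV)).trans ih

theorem exists_chain {S T : Sylow p G} (h : Relation.ReflTransGen Adj S T) :
    ∃ (n : ℕ) (c : Fin (n + 1) → Sylow p G), c 0 = S ∧ c (Fin.last n) = T ∧
      ∀ i : Fin n, Adj (c i.castSucc) (c i.succ) := by
  induction h with
  | refl => exact ⟨0, fun _ => S, rfl, rfl, fun i => i.elim0⟩
  | @tail U V _ hUV ih =>
    obtain ⟨n, c, h0, hl, hs⟩ := ih
    refine ⟨n + 1, Fin.snoc c V, ?_, Fin.snoc_last _ _, fun i => ?_⟩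
    · rw [show (0 : Fin (n + 1 + 1)) = Fin.castSucc 0 from rfl, Fin.snoc_castSucc, h0]
    · refine Fin.lastCases ?_ (fun j => ?_) i
      · rw [Fin.snoc_castSucc, Fin.succ_last, Fin.snoc_last, hl]
        exact hUV
      · rw [Fin.snoc_castSucc, Fin.succ_castSucc, Fin.snoc_castSucc]
        exact hs j

theorem unique_of_isCyclic_or_quaternion {Q : Type*} [Group Q] [Finite Q] [hp : Fact p.Prime]
    (h : IsCyclic Q ∨ (p = 2 ∧ ∃ n : ℕ, Nonempty (Q ≃* QuaternionGroup (2 ^ n))))
    (x y : Q) (hx : x ^ p = 1) (hx1 : x ≠ 1) (hy : y ^ p = 1) : y ∈ zpowers x := by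
  rcases h with hc | ⟨rfl, n, ⟨e⟩⟩
  · let := hc.commGroup
    have hker : zpowers x = (powMonoidHom p : Q →* Q).ker := by
      refine eq_of_le_of_card_ge (zpowers_le.mpr (by simpa [MonoidHom.mem_ker] using hx)) ?_
      rw [Nat.card_zpowers, orderOf_eq_prime hx hx1, IsCyclic.card_powMonoidHom_ker]
      exact Nat.le_of_dvd hp.out.pos (Nat.gcd_dvd_right _ _)
    rw [hker]
    simpa [MonoidHom.mem_ker] using hy
  · have : NeZero (2 ^ n) := ⟨by positivity⟩
    have inv : ∀ g : QuaternionGroup (2 ^ n), g ^ 2 = 1 →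
        g = 1 ∨ g = QuaternionGroup.a ((2 ^ n : ℕ) : ZMod (2 * 2 ^ n)) := by
      intro g hg
      rcases g with i | i
      · rw [pow_two, QuaternionGroup.a_mul_a, QuaternionGroup.one_def,
          QuaternionGroup.a.injEq] at hg
        have h2 : ((2 * i.val : ℕ) : ZMod (2 * 2 ^ n)) = 0 := by
          rw [Nat.cast_mul, ZMod.natCast_zmod_val]; linear_combination hg
        rw [ZMod.natCast_eq_zero_iff] at h2
        have hd : 2 ^ n ∣ i.val := Nat.dvd_of_mul_dvd_mul_left (by norm_num) h2
        have hlt := ZMod.val_lt i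
        obtain ⟨k, hk⟩ := hd
        have : k < 2 := by
          by_contra hk2
          nlinarith [Nat.two_pow_pos n]
        interval_cases k
        · left
          rw [← ZMod.natCast_zmod_val i, hk, mul_zero, Nat.cast_zero, QuaternionGroup.one_def]
        · right
          rw [← ZMod.natCast_zmod_val i, hk, mul_one]
      · rw [pow_two, QuaternionGroup.xa_mul_xa, QuaternionGroup.one_def,
          QuaternionGroup.a.injEq] at hg
        have h2 : ((2 ^ n : ℕ) : ZMod (2 * 2 ^ n)) = 0 := by simpa using hg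
        rw [ZMod.natCast_eq_zero_iff] at h2
        have := Nat.le_of_dvd (Nat.two_pow_pos n) h2
        have := Nat.two_pow_pos n
        omega
    rcases inv (e y) (by rw [← map_pow, hy, map_one]) with h1 | h1
    · rw [(map_eq_one_iff e e.injective).mp h1]
      exact one_mem _
    · rcases inv (e x) (by rw [← map_pow, hx, map_one]) with h2 | h2
      · exact absurd ((map_eq_one_iff e e.injective).mp h2) hx1
      · rw [e.injective (h1.trans h2.symm)]
        exact mem_zpowers x

theorem connected_of_not_unique [Finite G] [hp : Fact p.Prime] (hdiv : p ∣ Nat.card G)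
    (hsol : Cfsg.IsPSolvable p G) (P : Sylow p G)
    (hPu : ¬ ∀ H K : Subgroup ↥P, Nat.card H = p → Nat.card K = p → H = K) (g : G) :
    Relation.ReflTransGen Adj P (g • P) := by
  let H : Subgroup G :=
    { carrier := {g | Relation.ReflTransGen Adj P (g • P)}
      one_mem' := by
        show Relation.ReflTransGen Adj P ((1 : G) • P)
        rw [one_smul]
      mul_mem' := fun {a b} ha hb => by
        show Relation.ReflTransGen Adj P ((a * b) • P)
        rw [mul_smul]
        exact ha.trans (hb.lift (a • ·) fun _ _ h => adj_smul a h)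
      inv_mem' := fun {a} ha => by
        show Relation.ReflTransGen Adj P (a⁻¹ • P)
        have h : Relation.ReflTransGen Adj (a⁻¹ • P) (a⁻¹ • a • P) :=
          (ha : Relation.ReflTransGen Adj P (a • P)).lift (a⁻¹ • ·) fun _ _ h => adj_smul a⁻¹ h
        rw [inv_smul_smul] at h
        exact rtg_symm h }
  suffices hH : H = ⊤ from (hH ▸ mem_top g : g ∈ H)
  have hN : ∀ Q : Subgroup G, Q ≤ P → Q ≠ ⊥ → normalizer (Q : Set G) ≤ H := by
    intro Q hQP hQ g hg
    show Relation.ReflTransGen Adj P (g • P)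
    by_cases h : P = g • P
    · rw [← h]
    refine Relation.ReflTransGen.single ⟨h, fun hb => hQ (le_bot_iff.mp ?_)⟩
    rw [← hb]
    refine le_inf hQP ?_
    rw [Sylow.coe_subgroup_smul]
    intro x hx
    rw [Subgroup.mem_pointwise_smul_iff_inv_smul_mem]
    apply hQP
    simpa [MulAut.smul_def] using (mem_normalizer_iff''.mp hg x).mp hx
  -- a noncyclic abelian subgroup of `P`
  have hPp : IsPGroup p P := P.isPGroup'
  push Not at hPu
  obtain ⟨H₁, H₂, h₁, h₂, h12⟩ := hPu
  have : Nontrivial ↥P := by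
    refine Finite.one_lt_card_iff_nontrivial.mp (hp.out.one_lt.trans_le ?_)
    exact h₁.symm.trans_le (Subgroup.card_le_card_group H₁)
  have := hPp.center_nontrivial
  obtain ⟨z, hz⟩ : ∃ z : center ↥P, orderOf z = p := by
    refine exists_prime_orderOf_dvd_card' p ?_
    obtain ⟨k, hk⟩ := (hPp.to_subgroup (center ↥P)).exists_card_eq
    refine Dvd.dvd.trans (dvd_pow_self p fun h0 => ?_) hk.symm.dvd
    rw [h0, pow_zero] at hk
    exact absurd hk (Finite.one_lt_card (α := center ↥P)).ne'
  have hzc : Nat.card (zpowers (z : ↥P)) = p := by rw [Nat.card_zpowers, orderOf_coe, hz]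
  obtain ⟨L, hL, hLz⟩ : ∃ L : Subgroup ↥P, Nat.card L = p ∧ L ≠ zpowers (z : ↥P) := by
    by_cases h : H₁ = zpowers (z : ↥P)
    · exact ⟨H₂, h₂, fun h' => h12 (h.trans h'.symm)⟩
    · exact ⟨H₁, h₁, h⟩
  have : IsCyclic L := isCyclic_of_prime_card hL
  set A := zpowers (z : ↥P) ⊔ L with hA
  have hAc : IsMulCommutative A := by
    rw [← le_centralizer_iff_isMulCommutative]
    have hzA : zpowers (z : ↥P) ≤ center ↥P := zpowers_le.mpr z.2
    have hLL : L ≤ centralizer (L : Set ↥P) := le_centralizer_iff_isMulCommutative.mpr inferInstance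
    exact sup_le (hzA.trans (center_le_centralizer _))
      (le_centralizer_iff.mp (sup_le (hzA.trans (center_le_centralizer _)) hLL))
  have hAnc : ¬ IsCyclic A := by
    intro hc
    have hle₁ : zpowers (z : ↥P) ≤ A := le_sup_left
    have hle₂ : L ≤ A := le_sup_right
    obtain ⟨l, hl⟩ := exists_prime_orderOf_dvd_card' (G := L) p (by rw [hL])
    have key := unique_of_isCyclic_or_quaternion (p := p) (Q := A) (Or.inl hc)
      ⟨l, hle₂ l.2⟩ ⟨z, hle₁ (mem_zpowers _)⟩
      (Subtype.ext (by
        show (l : ↥P) ^ p = 1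
        exact orderOf_dvd_iff_pow_eq_one.mp ((orderOf_coe l).trans hl).dvd))
      (fun h => by
        have : l = 1 := Subtype.ext (congrArg Subtype.val h : (l : ↥P) = 1)
        rw [this, orderOf_one] at hl
        exact hp.out.ne_one hl.symm)
      (Subtype.ext (by
        show (z : ↥P) ^ p = 1
        exact orderOf_dvd_iff_pow_eq_one.mp ((orderOf_coe z).trans hz).dvd))
    obtain ⟨k, hk⟩ := key
    have hzL : (z : ↥P) ∈ L := by
      rw [← congrArg Subtype.val hk]
      exact (l ^ k).2
    exact hLz (eq_of_le_of_card_ge (zpowers_le.mpr hzL) (by rw [hL, hzc])).symm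
  let A' : Subgroup G := A.map (P : Subgroup G).subtype
  have hA' : A' ≤ P := map_subtype_le _
  let eA : A ≃* A' := A.equivMapOfInjective _ (P : Subgroup G).subtype_injective
  have : IsMulCommutative A' := by
    rw [← le_centralizer_iff_isMulCommutative]
    rintro _ ⟨a, ha, rfl⟩ _ ⟨b, hb, rfl⟩
    rw [← map_mul, ← map_mul]
    exact congrArg _ (congrArg Subtype.val (mul_comm' (⟨b, hb⟩ : A) ⟨a, ha⟩))
  have hA'nc : ¬ IsCyclic A' := fun h => hAnc (isCyclic_of_surjective eA.symm eA.symm.surjective)
  -- the `p'`-core lies in `H`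
  set K := pPrimeCore p G
  have hcop : (Nat.card A').Coprime (Nat.card K) := by
    obtain ⟨k, hk⟩ := (hPp.to_le hA').exists_card_eq
    rw [hk]
    exact (coprime_card_pPrimeCore.symm).pow_left k
  have hKH : K ≤ H := by
    rw [← Cfsg.Agent.Coprime.fixedGen_eq hA'nc (normalizer_eq_top (H := K) ▸ le_top) hcop]
    unfold Cfsg.Agent.Coprime.fixedGen
    refine iSup₂_le fun a ha => inf_le_right.trans ?_
    refine le_trans ?_ (hN (zpowers a) (zpowers_le.mpr (hA' ha.1)) (zpowers_ne_bot.mpr ha.2))
    intro c hc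
    rw [mem_centralizer_singleton_iff] at hc
    refine Subgroup.centralizer_le_normalizer _ ?_
    rw [mem_centralizer_iff]
    rintro _ ⟨k, rfl⟩
    exact (Commute.zpow_left hc.symm k).eq
  -- Frattini argument on `O_{p',p}(G)`
  set W := pPrimePCore p G with hW
  have : W.Normal := by unfold W pPrimePCore; infer_instance
  have hKW : K ≤ W := pPrimeCore_le_pPrimePCore
  have hQW : ¬ p ∣ (P : Subgroup G).relIndex W :=
    Cfsg.Agent.Cores.sylow_subgroupOf_isSubnormal P (Subgroup.Normal.isSubnormal inferInstance)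
  have hnb : (P : Subgroup G) ⊓ W ≠ ⊥ := by
    intro hb
    have hnt : ¬ p ∣ Nat.card K := not_dvd_card_pPrimeCore hp.out.ne_one
    have : Nontrivial (G ⧸ K) := by
      refine Finite.one_lt_card_iff_nontrivial.mp ?_
      have hd : p ∣ Nat.card (G ⧸ K) := by
        rcases hp.out.dvd_mul.mp (Subgroup.card_eq_card_quotient_mul_card_subgroup K ▸ hdiv) with h | h
        · exact h
        · exact absurd h hnt
      exact hp.out.one_lt.trans_le (Nat.le_of_dvd Nat.card_pos hd)
    have hc : pCore p (G ⧸ K) ≠ ⊥ := by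
      rcases PSolvable.exists_core_ne_bot (PSolvable.quotient hsol K) with h | h
      · exact h
      · exact absurd pPrimeCore_quotient_pPrimeCore h
    obtain ⟨k, hk⟩ := (isPGroup_pCore (p := p) (G := G ⧸ K)).exists_card_eq
    have hk0 : k ≠ 0 := fun h => hc (card_eq_one.mp (by rw [hk, h, pow_zero]))
    apply hQW
    rw [← inf_relIndex_right, hb, relIndex_bot_left]
    refine dvd_trans ?_ (relIndex_dvd_card K W)
    rw [← QuotientGroup.ker_mk' K, relIndex_ker, hW, map_pPrimePCore, hk]
    exact dvd_pow_self p hk0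
  let R : Sylow p W := IsPGroup.toSylow (P := (P : Subgroup G).comap W.subtype)
    (hPp.comap_of_injective _ W.subtype_injective) hQW
  have hR : ((R : Subgroup W).map W.subtype) = (P : Subgroup G) ⊓ W := by
    exact subgroupOf_map_subtype _ _
  have hfr := Sylow.normalizer_sup_eq_top R
  rw [hR] at hfr
  have hWle : W ≤ H := by
    have hPH : (P : Subgroup G) ⊓ W ≤ H :=
      le_normalizer.trans (hN _ inf_le_left hnb)
    refine le_trans ?_ (sup_le hKH hPH)
    rw [← relIndex_eq_one]
    obtain ⟨k, hk⟩ := relIndex_pPrimePCore (p := p) (G := G)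
    have h1 : (K ⊔ (P : Subgroup G) ⊓ W).relIndex W ∣ p ^ k :=
      hk ▸ relIndex_dvd_of_le_left W le_sup_left
    have h2 : (K ⊔ (P : Subgroup G) ⊓ W).relIndex W ∣ (P : Subgroup G).relIndex W :=
      inf_relIndex_right (P : Subgroup G) W ▸ relIndex_dvd_of_le_left W le_sup_right
    exact Nat.eq_one_of_dvd_coprimes
      ((hp.out.coprime_iff_not_dvd.mpr hQW).pow_left k) h1 h2
  exact top_le_iff.mp (hfr ▸ sup_le (hN _ inf_le_left hnb) hWle)

end Cfsg.Agent.S3057

namespace Cfsg.Agent.S3057

/-- Let p be a prime and G a finite p-solvable group of order divisible by p, with Sylow p-subgroup P. Then the Sylow p-subgroups of G fail to be chain-connected through nontrivial intersections (equivalently, G has a strongly p-embedded subgroup) if and only if O_p(G) = 1 and P is cyclic or, for p = 2, generalized quaternion. -/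
theorem result {G : Type*} [Group G] [Finite G]
    (p : ℕ) [Fact p.Prime] (hdiv : p ∣ Nat.card G) (hsol : Cfsg.IsPSolvable p G) (P : Sylow p G) :
    ¬ Cfsg.IsSylowChainConnected p G ↔
      Cfsg.pCore p G = ⊥ ∧ (IsCyclic ↥P ∨ (p = 2 ∧ ∃ n : ℕ, Nonempty (↥P ≃* QuaternionGroup (2 ^ n)))) := by
  have hp := (Fact.out : p.Prime)
  constructor
  · intro hnc
    have hO : pCore p G = ⊥ := by
      by_contra hb
      apply hnc
      intro S T
      by_cases h : S = T
      · exact ⟨0, fun _ => S, rfl, h, fun _ => inf_le_left, fun i => i.elim0⟩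
      · refine ⟨1, ![S, T], rfl, rfl, fun i => ?_, fun i => ?_⟩
        · fin_cases i
          · exact inf_le_left
          · exact inf_le_right
        · fin_cases i
          exact ⟨h, fun e => hb (le_bot_iff.mp (e ▸ le_inf (Cfsg.Agent.PLocal.Cores.pCore_le_sylow S)
            (Cfsg.Agent.PLocal.Cores.pCore_le_sylow T)))⟩
    refine ⟨hO, Cfsg.Agent.PGroups.UniqueSubgroup.isCyclic_or_quaternion P.isPGroup' ?_⟩
    by_contra hu
    apply hnc
    intro S T
    by_cases h : (S : Subgroup G) ⊓ (T : Subgroup G) = ⊥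
    · obtain ⟨a, rfl⟩ := MulAction.exists_smul_eq G P S
      obtain ⟨b, rfl⟩ := MulAction.exists_smul_eq G P T
      have h1 := connected_of_not_unique hdiv hsol P hu a
      have h2 := connected_of_not_unique hdiv hsol P hu b
      obtain ⟨n, c, h0, hl, hs⟩ := exists_chain
        ((rtg_symm h1).trans h2)
      exact ⟨n, c, h0, hl, fun i => h ▸ bot_le, hs⟩
    · by_cases he : S = T
      · exact ⟨0, fun _ => S, rfl, he, fun _ => inf_le_left, fun i => i.elim0⟩
      · refine ⟨1, ![S, T], rfl, rfl, fun i => ?_, fun i => ?_⟩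
        · fin_cases i
          · exact inf_le_left
          · exact inf_le_right
        · fin_cases i
          exact ⟨he, h⟩
  · rintro ⟨hO, hP⟩ hc
    obtain ⟨x, hx⟩ := exists_prime_orderOf_dvd_card' (G := ↥P) p (P.dvd_card_of_dvd_card hdiv)
    have hx1 : (x : G) ≠ 1 := by
      intro h
      rw [show x = 1 from Subtype.ext h, orderOf_one] at hx
      exact hp.ne_one hx.symm
    have hxp : (x : G) ^ p = 1 := by
      exact orderOf_dvd_iff_pow_eq_one.mp ((Subgroup.orderOf_coe x).trans hx).dvd
    have hall : ∀ T : Sylow p G, (x : G) ∈ (T : Subgroup G) := by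
      intro T
      obtain ⟨n, c, h0, hl, -, hs⟩ := hc P T
      suffices h : ∀ i, (x : G) ∈ (c i : Subgroup G) from hl ▸ h (Fin.last n)
      intro i
      induction i using Fin.induction with
      | zero => rw [h0]; exact x.2
      | succ i ih =>
        obtain ⟨y, ⟨hy₁, hy₂⟩, hy1⟩ := (Subgroup.bot_or_exists_ne_one _).resolve_left (hs i).2
        have e := (c i.castSucc).equiv P
        have hyo : orderOf (⟨y, hy₁⟩ : ↥(c i.castSucc)) ≠ 1 := fun h =>
          hy1 (congrArg Subtype.val (orderOf_eq_one_iff.mp h))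
        obtain ⟨k, hk⟩ := IsPGroup.iff_orderOf.mp (c i.castSucc).isPGroup' ⟨y, hy₁⟩
        obtain ⟨j, rfl⟩ : ∃ j, k = j + 1 :=
          Nat.exists_eq_succ_of_ne_zero fun h => hyo (by rw [hk, h, pow_zero])
        set y' : ↥(c i.castSucc) := (⟨y, hy₁⟩ : ↥(c i.castSucc)) ^ p ^ j with hy'
        have hy'p : y' ^ p = 1 := by
          rw [hy', ← pow_mul, ← pow_succ, ← hk, pow_orderOf_eq_one]
        have hy'1 : y' ≠ 1 := fun h => by
          have := Nat.le_of_dvd (pow_pos hp.pos j) (orderOf_dvd_of_pow_eq_one h)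
          rw [hk, pow_succ] at this
          nlinarith [pow_pos hp.pos j, hp.two_le]
        have key := unique_of_isCyclic_or_quaternion hP (e y') (e ⟨x, ih⟩)
          (by rw [← map_pow, hy'p, map_one])
          (fun h => hy'1 (e.injective (h.trans (map_one e).symm)))
          (by rw [← map_pow, show (⟨x, ih⟩ : ↥(c i.castSucc)) ^ p = 1 from Subtype.ext hxp,
            map_one])
        obtain ⟨m, hm⟩ := key
        have hm' : y' ^ m = ⟨x, ih⟩ := e.injective ((map_zpow e y' m).trans hm)
        have hmem : (y' : G) ∈ (c i.succ : Subgroup G) := by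
          rw [hy', SubmonoidClass.coe_pow]
          exact Subgroup.pow_mem _ hy₂ _
        have := congrArg Subtype.val hm'
        rw [SubgroupClass.coe_zpow] at this
        rw [← this]
        exact Subgroup.zpow_mem _ hmem m
    let I : Subgroup G := ⨅ T : Sylow p G, (T : Subgroup G)
    have : I.Normal := ⟨fun a ha g => by
      rw [Subgroup.mem_iInf] at ha ⊢
      intro T
      have := ha (g⁻¹ • T)
      rw [Sylow.coe_subgroup_smul, Subgroup.mem_pointwise_smul_iff_inv_smul_mem] at this
      simpa [MulAut.smul_def] using this⟩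
    have hI : I ≤ pCore p G :=
      Cfsg.Agent.PLocal.Cores.le_pCore (P.isPGroup'.to_le (iInf_le (fun T : Sylow p G => (T : Subgroup G)) P))
    exact hx1 ((Subgroup.mem_bot).mp (hO ▸ hI (Subgroup.mem_iInf.mpr hall)))

end Cfsg.Agent.S3057
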