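import Cfsg.Statements.S3058
import Cfsg.Agent.Lib.CharP.StronglyEmbedded
import Cfsg.Agent.S3056
import Cfsg.Agent.Lib.CharP.CharP
import Cfsg.Agent.Lib.Coprime.Generation
import Cfsg.Agent.Lib.Cores.Subnormal

set_option autoImplicit false
open Cfsg

namespace Cfsg.Agent.S3058

open Cfsg.Agent.CharP

/-- Let p be a prime and G a finite group whose Sylow p-subgroups are not chain-connected through nontrivial intersections (so G has a strongly p-embedded subgroup). If N and M are normal subgroups of G whose orders are both divisible by p, then the order of N ∩ M is divisible by p. Consequently, among the normal subgroups of G whose order is divisible by p there is a smallest one (the intersection of all of them). -/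
theorem result {G : Type*} [Group G] [Finite G]
    (p : ℕ) [Fact p.Prime] (hG : ¬ Cfsg.IsSylowChainConnected p G)
    (N M : Subgroup G) [N.Normal] [M.Normal] (hN : p ∣ Nat.card N) (hM : p ∣ Nat.card M) :
    p ∣ Nat.card ↥(N ⊓ M) := by
  classical
  have hp := (Fact.out : p.Prime)
  obtain ⟨H, hH, hpH, hse⟩ := (Cfsg.Agent.S3056.result (G := G) p).1 hG
  have hH' : Cfsg.IsStronglyPEmbedded p H :=
    spe_of_dvd hH hpH fun g hg => by
      by_contra hgH
      exact hse g hgH hg
  by_contra hD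
  obtain ⟨S₀, hS₀⟩ := exists_isSylIn p (H ⊓ ⊤)
  have hS₀1 : S₀ ≠ ⊥ := by
    rintro rfl
    have h0 := hS₀.not_dvd
    rw [inf_top_eq, Subgroup.relIndex_bot_left] at h0
    exact h0 hpH
  obtain ⟨S, rfl⟩ := isSylIn_top_iff.1 (spe_isSylIn_of_inf hH' hS₀ hS₀1)
  have hSH : (S : Subgroup G) ≤ H := hS₀.le.trans inf_le_left
  have hel : ∀ K : Subgroup G, K.Normal → p ∣ Nat.card ↥K →
      ∃ z ∈ (S : Subgroup G) ⊓ K, orderOf z = p ∧ z ∈ Subgroup.centralizer ((S : Subgroup G) : Set G) := by
    intro K hK hpK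
    refine exists_order_prime_central S.isPGroup' inf_le_left ?_ ?_
    · exact le_trans (le_inf Subgroup.le_normalizer ((Subgroup.normalizer_eq_top_iff.2 hK) ▸ le_top))
        Subgroup.inf_normalizer_le_normalizer_inf
    · intro h
      have h0 := Cfsg.Agent.Cores.sylow_subgroupOf_isSubnormal S hK.isSubnormal
      rw [← Subgroup.relIndex, ← Subgroup.inf_relIndex_right, h, Subgroup.relIndex_bot_left] at h0
      exact h0 hpK
  obtain ⟨y, ⟨hyS, hyN⟩, hyo, hyc⟩ := hel N inferInstance hN
  obtain ⟨x, ⟨hxS, hxM⟩, hxo, hxc⟩ := hel M inferInstance hM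
  set A := Subgroup.closure ({x, y} : Set G) with hA
  have hAS : A ≤ (S : Subgroup G) := (Subgroup.closure_le _).2 (by
    rintro a (rfl | rfl)
    · exact hxS
    · exact hyS)
  have hxy : x * y = y * x := hyc x hxS
  have hAc : IsMulCommutative ↥A := Subgroup.isMulCommutative_closure (by
    rintro a (rfl | rfl) b (rfl | rfl)
    · rfl
    · exact hxy
    · exact hxy.symm
    · rfl)
  have hAcyc : ¬ IsCyclic ↥A := by
    intro hc
    have hmx : x ∈ A := Subgroup.subset_closure (Or.inl rfl)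
    have hmy : y ∈ A := Subgroup.subset_closure (Or.inr rfl)
    letI : Fintype ↥A := Fintype.ofFinite _
    have hle := IsCyclic.card_pow_eq_one_le (α := ↥A) hp.pos
    have hsub : (Finset.univ.filter fun a : ↥A => a ∈ Subgroup.zpowers (⟨x, hmx⟩ : ↥A)) ⊆
        (Finset.univ.filter fun a : ↥A => a ^ p = 1) := by
      intro a ha
      obtain ⟨k, rfl⟩ := (Finset.mem_filter.1 ha).2
      refine Finset.mem_filter.2 ⟨Finset.mem_univ _, ?_⟩
      show ((⟨x, hmx⟩ : ↥A) ^ k) ^ p = 1
      rw [← zpow_natCast, ← zpow_mul, mul_comm, zpow_mul, zpow_natCast,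
        show ((⟨x, hmx⟩ : ↥A)) ^ p = 1 from Subtype.ext (by
          show x ^ p = 1
          rw [← hxo, pow_orderOf_eq_one]), one_zpow]
    have hcard : (Finset.univ.filter fun a : ↥A => a ∈ Subgroup.zpowers (⟨x, hmx⟩ : ↥A)).card = p := by
      rw [← Fintype.card_subtype, ← Nat.card_eq_fintype_card, Nat.card_zpowers, Subgroup.orderOf_mk, hxo]
    have heq := Finset.eq_of_subset_of_card_le hsub (by rw [hcard]; exact hle)
    have hy : (⟨y, hmy⟩ : ↥A) ∈ Finset.univ.filter fun a : ↥A => a ∈ Subgroup.zpowers (⟨x, hmx⟩ : ↥A) := by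
      rw [heq]
      exact Finset.mem_filter.2 ⟨Finset.mem_univ _, Subtype.ext (by
        show y ^ p = 1
        rw [← hyo, pow_orderOf_eq_one])⟩
    obtain ⟨k, hk⟩ := (Finset.mem_filter.1 hy).2
    have hk' : x ^ k = y := congrArg Subtype.val hk
    refine hD ?_
    rw [← hyo]
    exact Subgroup.orderOf_dvd_natCard _ (Subgroup.mem_inf.2 ⟨hyN, hk' ▸ (zpow_mem (show x ∈ M from hxM) k : x ^ k ∈ M)⟩)
  have hAp : IsPGroup p ↥A := S.isPGroup'.to_le hAS
  obtain ⟨k, hk⟩ := IsPGroup.iff_card.1 hAp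
  have hDH : N ⊓ M ≤ H := by
    have hfix := Cfsg.Agent.Coprime.fixedGen_eq (A := A) (K := N ⊓ M) hAcyc
      ((Subgroup.normalizer_eq_top_iff.2 (inferInstance : (N ⊓ M).Normal)) ▸ le_top)
      (by rw [hk]; exact ((Nat.Prime.coprime_iff_not_dvd hp).2 hD).pow_left k)
    rw [← hfix]
    refine iSup₂_le fun a ha => inf_le_right.trans ?_
    refine le_trans ?_ (spe_normalizer_le hH' (Subgroup.zpowers_le.2 (hSH (hAS ha.1)))
      (hAp.to_le (Subgroup.zpowers_le.2 ha.1))
      (fun h => ha.2 (Subgroup.mem_bot.1 (h ▸ Subgroup.mem_zpowers a))))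
    intro c hc
    refine Subgroup.centralizer_le_normalizer _ ?_
    rintro _ ⟨i, rfl⟩
    exact ((Commute.zpow_right (show Commute c a from
      Subgroup.mem_centralizer_singleton_iff.1 hc) i).eq).symm
  have hNH : N ≤ H := by
    intro n hn
    have h1 : n * x * n⁻¹ * x⁻¹ ∈ N ⊓ M := by
      refine Subgroup.mem_inf.2 ⟨?_, mul_mem ((inferInstance : M.Normal).conj_mem x hxM n) (inv_mem hxM)⟩
      rw [show n * x * n⁻¹ * x⁻¹ = n * (x * n⁻¹ * x⁻¹) by group]
      exact mul_mem hn ((inferInstance : N.Normal).conj_mem _ (inv_mem hn) x)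
    have h2 : n * x * n⁻¹ ∈ H := by
      have := mul_mem (hDH h1) (hSH hxS)
      rwa [inv_mul_cancel_right] at this
    refine spe_mem_of_dvd hH' ?_
    have h3 : n * x * n⁻¹ ∈ H ⊓ H.map (MulAut.conj n).toMonoidHom :=
      ⟨h2, ⟨x, hSH hxS, rfl⟩⟩
    have h4 : orderOf (n * x * n⁻¹) = p := by
      rw [← hxo]
      exact orderOf_injective (MulAut.conj n).toMonoidHom (MulAut.conj n).injective x
    rw [← h4]
    exact Subgroup.orderOf_dvd_natCard _ h3
  refine hH (eq_top_iff.2 fun g _ => spe_mem_of_dvd hH' (hN.trans (Subgroup.card_dvd_of_le (le_inf hNH ?_))))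
  intro m hm
  exact conj_mem_map (hNH (by simpa using (inferInstance : N.Normal).conj_mem m hm g⁻¹))

end Cfsg.Agent.S3058
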