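import Cfsg.Statements.S3059
import Cfsg.Agent.Lib.CharP.StronglyEmbedded
import Cfsg.Agent.Lib.Cores.Residual
import Cfsg.Agent.Lib.Cores.Subnormal

set_option autoImplicit false
open Cfsg

namespace Cfsg.Agent.S3059

open Cfsg.Agent.CharP

/-- Let p be a prime and H a strongly p-embedded subgroup of the finite group G in the classical sense: H is proper, p divides the order of H, and H ∩ gHg⁻¹ has order prime to p for every g outside H. Then for every normal subgroup N of G of order divisible by p, G = H · O^p(N), where O^p(N) is the subgroup generated by the elements of N of order prime to p. -/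
theorem result {G : Type*} [Group G] [Finite G]
    (p : ℕ) [Fact p.Prime] (H : Subgroup G) (hH : H ≠ ⊤) (hpH : p ∣ Nat.card H)
    (hse : ∀ g : G, g ∉ H → ¬ p ∣ Nat.card ↥(H ⊓ H.map (MulAut.conj g).toMonoidHom))
    (N : Subgroup G) [N.Normal] (hN : p ∣ Nat.card N) :
    H ⊔ Subgroup.closure {g : G | g ∈ N ∧ (orderOf g).Coprime p} = ⊤ := by
  classical
  have hH' : Cfsg.IsStronglyPEmbedded p H :=
    spe_of_dvd hH hpH fun g hg => by
      by_contra hgH
      exact hse g hgH hg
  set W := Subgroup.closure {g : G | g ∈ N ∧ (orderOf g).Coprime p} with hW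
  obtain ⟨S, hS⟩ := exists_isSylIn p (H ⊓ ⊤)
  have hS1 : S ≠ ⊥ := by
    rintro rfl
    have h0 := hS.not_dvd
    rw [inf_top_eq, Subgroup.relIndex_bot_left] at h0
    exact h0 hpH
  obtain ⟨P, rfl⟩ := isSylIn_top_iff.1 (spe_isSylIn_of_inf hH' hS hS1)
  have hQ : IsSylIn p ((P : Subgroup G) ⊓ N) N := by
    refine isSylIn_of_not_dvd (P.isPGroup'.to_le inf_le_left) inf_le_right ?_
    rw [Subgroup.inf_relIndex_right]
    exact Cfsg.Agent.Cores.sylow_subgroupOf_isSubnormal P (Subgroup.Normal.isSubnormal inferInstance)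
  have hQ1 : (P : Subgroup G) ⊓ N ≠ ⊥ := by
    intro h
    have h0 := hQ.not_dvd
    rw [h, Subgroup.relIndex_bot_left] at h0
    exact h0 hN
  have hPH : (P : Subgroup G) ≤ H := hS.le.trans inf_le_left
  have hNQ := spe_normalizer_le hH' (inf_le_left.trans hPH) hQ.isPGroup hQ1
  have hNW : N ≤ H ⊔ W := by
    obtain ⟨Q, hQeq⟩ := hQ
    have h1 : (Cfsg.pResidual p ↥N).map N.subtype ≤ W := by
      rw [Cfsg.pResidual, MonoidHom.map_closure]
      refine Subgroup.closure_mono ?_
      rintro _ ⟨g, hg, rfl⟩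
      exact ⟨g.2, (Subgroup.orderOf_coe g).symm ▸ hg⟩
    calc N = (⊤ : Subgroup ↥N).map N.subtype := by rw [← MonoidHom.range_eq_map, Subgroup.range_subtype]
      _ = ((Q : Subgroup ↥N) ⊔ Cfsg.pResidual p ↥N).map N.subtype := by
          rw [Cfsg.Agent.Cores.pResidual_le_sylow_sup Q]
      _ = ((P : Subgroup G) ⊓ N) ⊔ (Cfsg.pResidual p ↥N).map N.subtype := by
          rw [Subgroup.map_sup, hQeq]
      _ ≤ H ⊔ W := sup_le_sup (inf_le_left.trans hPH) h1
  refine eq_top_iff.2 fun g _ => ?_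
  have h2 := hQ.conj g
  rw [conj_map_of_mem (H := N) ((Subgroup.normalizer_eq_top_iff.2 inferInstance).ge (Subgroup.mem_top g))] at h2
  obtain ⟨a, ha, hag⟩ := h2.exists_conj hQ
  rw [conj_map_map] at hag
  have h3 : a * g ∈ H := hNQ (mem_normalizer_of_conj_map hag)
  simpa using mul_mem (inv_mem (hNW ha)) ((le_sup_left : H ≤ H ⊔ W) h3)

end Cfsg.Agent.S3059
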