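import Cfsg.Statements.S3062
import Cfsg.Agent.Lib.CharP.DStar

set_option autoImplicit false
open Cfsg

namespace Cfsg.Agent.S3062

/-- Let S be a finite p-group, J(S) the subgroup generated by the abelian subgroups of S of largest order and Z(J(S)) its centre. Then Z(S) ≤ D*(S) ≤ Z(J(S)), and every maximal normal abelian subgroup of S contains D*(S). -/
theorem result {S : Type*} [Group S] [Finite S] {p : ℕ} [Fact p.Prime]
    (hS : IsPGroup p S) :
    Subgroup.center S ≤ Cfsg.dStar S ∧
    Cfsg.dStar S ≤ Cfsg.thompsonSubgroupA S ⊓ Subgroup.centralizer (Cfsg.thompsonSubgroupA S : Set S) ∧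
    ∀ A : Subgroup S, A.Normal → IsMulCommutative A →
      (∀ B : Subgroup S, B.Normal → IsMulCommutative B → A ≤ B → B = A) → Cfsg.dStar S ≤ A := by
  haveI := CharP.dStar_isMulCommutative hS
  refine ⟨le_sSup ?_, le_inf ?_ ?_, fun A hA hAc hmax => ?_⟩
  · exact ⟨inferInstance, fun x _ a ha => (Subgroup.mem_center_iff.1 ha x).symm⟩
  · obtain ⟨A, hA, hmax⟩ := (Set.toFinite {A : Subgroup S | IsMulCommutative ↥A}).exists_maximalFor
      (fun A : Subgroup S => Nat.card ↥A) _ ⟨⊥, (inferInstance : IsMulCommutative ↥(⊥ : Subgroup S))⟩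
    have hA' : A ∈ Cfsg.maxAbelianSubgroups S := ⟨hA, fun B hB => by
      by_contra h
      exact h (hmax hB (le_of_not_ge h))⟩
    haveI : IsMulCommutative ↥A := hA
    have h := CharP.dStar_le_centralizer_maxAbelian hS hA'
    have hab : IsMulCommutative ↥(A ⊔ Cfsg.dStar S) := by
      rw [← Subgroup.le_centralizer_iff_isMulCommutative]
      exact sup_le (Subgroup.le_centralizer_iff.2 (sup_le (Subgroup.le_centralizer A) h))
        (Subgroup.le_centralizer_iff.2 (sup_le (Subgroup.le_centralizer_iff.1 h)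
          (Subgroup.le_centralizer _)))
    have he := Subgroup.eq_of_le_of_card_ge (le_sup_left : A ≤ A ⊔ Cfsg.dStar S) (hA'.2 _ hab)
    exact (le_sup_right.trans he.ge).trans (le_sSup hA')
  · rw [Subgroup.le_centralizer_iff]
    exact sSup_le fun A hA => Subgroup.le_centralizer_iff.1
      (CharP.dStar_le_centralizer_maxAbelian hS hA)
  · haveI := hA
    haveI := hAc
    exact CharP.dStar_le_of_maximal hS hmax

end Cfsg.Agent.S3062
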