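import Cfsg.Statements.S3063
import Cfsg.Agent.Lib.CharP.DStar

set_option autoImplicit false
open Cfsg

namespace Cfsg.Agent.S3063

open scoped commutatorElement

/-- A weak replacement Theorem for metabelian p-groups: let S be a finite p-group whose derived subgroup is abelian and A an abelian subgroup of S of largest possible order. Then the normal closure of A in S contains an abelian subgroup B of the same order as A that is normal in S. -/
theorem result {S : Type*} [Group S] [Finite S] {p : ℕ} [Fact p.Prime]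
    (hS : IsPGroup p S) (hmeta : IsMulCommutative ↥(commutator S))
    (A : Subgroup S) (hA : A ∈ Cfsg.maxAbelianSubgroups S) :
    ∃ B ∈ Cfsg.maxAbelianSubgroups S, B.Normal ∧ B ≤ Subgroup.normalClosure (A : Set S) := by
  set X := Subgroup.normalClosure (A : Set S)
  obtain ⟨B, ⟨hB, hBX⟩, hmax⟩ := (Set.toFinite
    {B : Subgroup S | B ∈ Cfsg.maxAbelianSubgroups S ∧ B ≤ X}).exists_maximalFor
    (fun B => B ⊓ commutator S) _ ⟨A, hA, Subgroup.subset_normalClosure⟩
  refine ⟨B, hB, ⟨fun b hb g => ?_⟩, hBX⟩
  by_contra hbg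
  have hne : B.map (MulAut.conj g).toMonoidHom ≠ B := fun h => hbg (by
    rw [← h]; exact ⟨b, hb, rfl⟩)
  obtain ⟨B', hB', hlt, hle⟩ := CharP.exists_better_maxAbelian hB hmeta (g := g)
    (fun a _ => Subgroup.commutator_mem_commutator (Subgroup.mem_top g) (Subgroup.mem_top a)) hne
  have hB'X : B' ≤ X := by
    refine hle.trans (sup_le hBX ?_)
    rintro _ ⟨a, ha, rfl⟩
    exact Subgroup.Normal.conj_mem Subgroup.normalClosure_normal a (hBX ha) g
  exact hlt.not_ge (hmax ⟨hB', hB'X⟩ hlt.le)

end Cfsg.Agent.S3063
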