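import Cfsg.Statements.S3064
import Cfsg.Agent.Lib.CharP.Isolated
import Cfsg.Agent.Lib.Characters.Frobenius

set_option autoImplicit false
open Cfsg

namespace Cfsg.Agent.S3064

universe u

/-- An isolated `p`-element centralizing the `p'`-subgroups it normalizes is central. -/
theorem aux {p : ℕ} [Fact p.Prime] : ∀ (n : ℕ) (G : Type u) [Group G] [Finite G], Nat.card G < n →
    ∀ x : G, (∃ k : ℕ, orderOf x = p ^ k) → Cfsg.IsIsolated x →
      (∀ H : Subgroup G, (Nat.card H).Coprime p → (∀ h ∈ H, x * h * x⁻¹ ∈ H) →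
        ∀ h ∈ H, x * h = h * x) → x ∈ Subgroup.center G := by
  intro n
  induction n with
  | zero => intro G _ _ h; omega
  | succ n ih =>
  intro G _ _ hcard x hxp hiso hb
  set C := Subgroup.centralizer ({x} : Set G)
  have hmemC : ∀ {y : G}, y ∈ C ↔ y * x = x * y := Subgroup.mem_centralizer_singleton_iff
  by_contra hxc
  have hCtop : C ≠ ⊤ := fun h => hxc (Subgroup.mem_center_iff.2 fun y =>
    hmemC.1 (h ▸ Subgroup.mem_top y))
  have hxC : x ∈ C := hmemC.2 rfl
  have hmax : ∀ H : Subgroup G, x ∈ H → H ≠ ⊤ → H ≤ C := by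
    intro H hxH hH y hy
    have hlt : Nat.card H < n := by
      have h1 : Nat.card H < Nat.card G := lt_of_le_of_ne (Subgroup.card_le_card_group H)
        fun h => hH (Subgroup.eq_top_of_card_eq H h)
      omega
    have h := ih ↥H hlt ⟨x, hxH⟩
      (by obtain ⟨k, hk⟩ := hxp; exact ⟨k, by rw [Subgroup.orderOf_mk, hk]⟩)
      (fun g hg => Subtype.ext (hiso g (congrArg Subtype.val hg)))
      (fun K hK hKx k hk => by
        refine Subtype.ext (hb (K.map H.subtype) ?_ ?_ k (Subgroup.mem_map_of_mem _ hk))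
        · rwa [Nat.card_congr (K.equivMapOfInjective _ (Subgroup.subtype_injective H)).symm.toEquiv]
        · rintro _ ⟨a, ha, rfl⟩
          exact ⟨⟨x, hxH⟩ * a * ⟨x, hxH⟩⁻¹, hKx a ha, rfl⟩)
    exact hmemC.2 (congrArg Subtype.val (Subgroup.mem_center_iff.1 h ⟨y, hy⟩))
  set Z := Subgroup.center G
  have hZC : Z ≤ C := fun z hz => hmemC.2 ((Subgroup.mem_center_iff.1 hz x).symm)
  have hmal : ∀ y ∈ C, ∀ g : G, g⁻¹ * y * g ∈ C → y ∈ Z ∨ g ∈ C := by
    intro y hy g hgy
    by_cases hyZ : y ∈ Z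
    · exact Or.inl hyZ
    refine Or.inr ?_
    have hne : Subgroup.centralizer ({y} : Set G) ≠ ⊤ := fun h => hyZ (Subgroup.mem_center_iff.2
      fun z => Subgroup.mem_centralizer_singleton_iff.1 (h ▸ Subgroup.mem_top z))
    have hle := hmax _ (Subgroup.mem_centralizer_singleton_iff.2 (hmemC.1 hy).symm) hne
    have h1 : g * x * g⁻¹ ∈ Subgroup.centralizer ({y} : Set G) := by
      rw [Subgroup.mem_centralizer_singleton_iff]
      calc g * x * g⁻¹ * y = g * (x * (g⁻¹ * y * g)) * g⁻¹ := by group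
        _ = g * (g⁻¹ * y * g * x) * g⁻¹ := by rw [← hmemC.1 hgy]
        _ = y * (g * x * g⁻¹) := by group
    have h2 : g * x * g⁻¹ = x := hiso g (hmemC.1 (hle h1)).symm
    exact hmemC.2 (mul_inv_eq_iff_eq_mul.1 h2)
  let π := QuotientGroup.mk' Z
  have hmem : ∀ y : G, π y ∈ C.map π ↔ y ∈ C := fun y => by
    rw [← Subgroup.mem_comap, Subgroup.comap_map_eq_self]
    rw [QuotientGroup.ker_mk']
    exact hZC
  have hfrob : Cfsg.IsFrobeniusComplement (C.map π) := by
    refine ⟨fun h => hxc ?_, fun h => hCtop ?_, fun q hq => ?_⟩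
    · have h1 : π x ∈ C.map π := (hmem x).2 hxC
      rw [h, Subgroup.mem_bot] at h1
      exact (QuotientGroup.eq_one_iff x).1 h1
    · exact eq_top_iff.2 fun y _ => (hmem y).1 (h ▸ Subgroup.mem_top _)
    · rw [eq_bot_iff]
      rintro w ⟨hw1, hw2⟩
      obtain ⟨g, rfl⟩ := QuotientGroup.mk'_surjective Z q
      obtain ⟨y, rfl⟩ := QuotientGroup.mk'_surjective Z w
      replace hw2 := (Characters.mem_conj_smul_iff _ _).1 hw2
      rw [← map_inv, ← map_mul, ← map_mul] at hw2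
      rcases hmal y ((hmem y).1 hw1) g ((hmem _).1 hw2) with h | h
      · exact Subgroup.mem_bot.2 ((QuotientGroup.eq_one_iff y).2 h)
      · exact absurd ((hmem g).2 h) hq
  obtain ⟨N, -, hNn, hNC⟩ := Characters.frobenius_kernel_theorem hfrob
  set K := N.comap π
  obtain ⟨S, hS⟩ := (CharP.isPGroup_zpowers hxp).exists_le_sylow
  have hSC : (S : Subgroup G) ≤ C := fun s hs => hmemC.2
    (CharP.isolated_commute_of_pgroup hiso S.2 (hS (Subgroup.mem_zpowers x)) hs)
  have hNp : ¬ p ∣ Nat.card N := by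
    intro h
    rw [← hNC.index_eq_card] at h
    refine S.not_dvd_index (dvd_trans h ?_)
    refine (dvd_trans ?_ (Subgroup.index_dvd_of_le hSC))
    exact Subgroup.index_map_dvd _ (QuotientGroup.mk'_surjective Z)
  -- the Sylow subgroup of `K` is central
  obtain ⟨R⟩ := (inferInstance : Nonempty (Sylow p K))
  have hRZ : ∀ r ∈ (R : Subgroup K), (r : G) ∈ Z := by
    intro r hr
    refine (QuotientGroup.eq_one_iff (r : G)).1 ?_
    let f : ↥K →* ↥N := (π.comp K.subtype).codRestrict N fun k => k.2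
    obtain ⟨k, hk⟩ := R.2 ⟨r, hr⟩
    have h1 : orderOf (f r) ∣ p ^ k := by
      refine orderOf_dvd_of_pow_eq_one ?_
      rw [← map_pow, show r ^ p ^ k = 1 from congrArg Subtype.val hk, map_one]
    have h2 : orderOf (f r) = 1 := Nat.eq_one_of_dvd_coprimes
      (Nat.Coprime.pow_left k ((Fact.out : p.Prime).coprime_iff_not_dvd.2 hNp)) h1 (orderOf_dvd_natCard _)
    exact congrArg Subtype.val (orderOf_eq_one_iff.1 h2)
  have hRN : Subgroup.normalizer ((R : Subgroup K) : Set K) ≤ Subgroup.centralizer ((R : Subgroup K) : Set K) :=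
    fun k _ => Subgroup.mem_centralizer_iff.2 fun r hr =>
      Subtype.ext (Subgroup.mem_center_iff.1 (hRZ r hr) k).symm
  have hcompl := MonoidHom.ker_transferSylow_isComplement' R hRN
  set K₀ := (MonoidHom.transferSylow R hRN).ker
  have hK₀ : (Nat.card K₀).Coprime p := by
    rw [← hcompl.index_eq_card]
    exact ((Fact.out : p.Prime).coprime_iff_not_dvd.2 R.not_dvd_index).symm
  have hK₀x : ∀ h ∈ K₀.map K.subtype, x * h * x⁻¹ ∈ K₀.map K.subtype := by
    rintro _ ⟨h, hh, rfl⟩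
    have hxh : x * (h : G) * x⁻¹ ∈ K := (inferInstance : K.Normal).conj_mem _ h.2 x
    refine ⟨⟨_, hxh⟩, ?_, rfl⟩
    rw [SetLike.mem_coe, MonoidHom.mem_ker]
    set w : K := ⟨_, hxh⟩
    have h1 : orderOf (MonoidHom.transferSylow R hRN w) ∣ Nat.card (R : Subgroup K) :=
      orderOf_dvd_natCard _
    have h2 : orderOf (MonoidHom.transferSylow R hRN w) ∣ orderOf h := by
      refine (orderOf_map_dvd _ w).trans (dvd_of_eq ?_)
      rw [← Subgroup.orderOf_coe, ← Subgroup.orderOf_coe h]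
      exact orderOf_injective (MulAut.conj x).toMonoidHom (MulAut.conj x).injective _
    obtain ⟨k, hk⟩ := IsPGroup.iff_card.1 R.2
    refine orderOf_eq_one_iff.1 (Nat.eq_one_of_dvd_coprimes ?_ h1 (h2.trans (Subgroup.orderOf_dvd_natCard K₀ hh)))
    rw [hk]
    exact Nat.Coprime.pow_left k hK₀.symm
  have hKC : K ≤ C := by
    intro k hk
    obtain ⟨r, hr, k₀, hk₀, he⟩ : ∃ r ∈ (R : Subgroup K), ∃ k₀ ∈ K₀, r * k₀ = ⟨k, hk⟩ := by
      obtain ⟨⟨⟨r, hr⟩, ⟨k₀, hk₀⟩⟩, he, -⟩ := Subgroup.isComplement'_comm.1 hcompl |>.existsUnique ⟨k, hk⟩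
      exact ⟨r, hr, k₀, hk₀, he⟩
    rw [show k = (r : G) * (k₀ : G) from (congrArg Subtype.val he).symm]
    refine mul_mem (hZC (hRZ r hr)) (hmemC.2 ?_)
    exact (hb (K₀.map K.subtype)
      (by rwa [Nat.card_congr (K₀.equivMapOfInjective _ (Subgroup.subtype_injective K)).symm.toEquiv])
      hK₀x _ (Subgroup.mem_map_of_mem _ hk₀)).symm
  refine hfrob.2.1 (eq_top_iff.2 fun q _ => ?_)
  obtain ⟨g, rfl⟩ := QuotientGroup.mk'_surjective Z q
  obtain ⟨⟨⟨a, ha⟩, ⟨b, hb'⟩⟩, he, -⟩ := hNC.existsUnique (π g)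
  obtain ⟨a, rfl⟩ := QuotientGroup.mk'_surjective Z a
  rw [← (he : π a * b = π g)]
  exact mul_mem ((hmem a).2 (hKC ha)) hb'


/-- Let S be a Sylow p-subgroup of the finite group G and x an element of S such that (i) x is the only G-conjugate of x lying in S, and (ii) x centralizes every subgroup of order prime to p that it normalizes. Then x lies in the centre of G. -/
theorem result {G : Type*} [Group G] [Finite G] {p : ℕ} [Fact p.Prime]
    (S : Sylow p G) (x : G) (hx : x ∈ S)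
    (hU : ∀ g : G, g⁻¹ * x * g ∈ S → g⁻¹ * x * g = x)
    (hb : ∀ H : Subgroup G, (Nat.card H).Coprime p → (∀ h ∈ H, x * h * x⁻¹ ∈ H) → ∀ h ∈ H, x * h = h * x) :
    x ∈ Subgroup.center G := by
  have hxp : ∃ k : ℕ, orderOf x = p ^ k := by
    obtain ⟨k, hk⟩ := IsPGroup.iff_orderOf.1 S.2 ⟨x, hx⟩
    exact ⟨k, by rwa [Subgroup.orderOf_mk] at hk⟩
  refine aux (p := p) (Nat.card G + 1) G (Nat.lt_succ_self _) x hxp (fun g hg => ?_) hb
  -- `x` is isolated
  set y := g * x * g⁻¹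
  have hyp : ∃ k : ℕ, orderOf y = p ^ k := by
    obtain ⟨k, hk⟩ := hxp
    exact ⟨k, hk ▸ orderOf_injective (MulAut.conj g).toMonoidHom (MulAut.conj g).injective x⟩
  have hp : IsPGroup p ↥(Subgroup.zpowers x ⊔ Subgroup.zpowers y) :=
    (CharP.isPGroup_zpowers hxp).to_sup_of_normal_right' (CharP.isPGroup_zpowers hyp) (by
      rw [Subgroup.zpowers_le, Subgroup.mem_normalizer_iff_map_conj_eq, MonoidHom.map_zpowers]
      congr 1
      show x * y * x⁻¹ = y
      rw [hg.eq, mul_inv_cancel_right])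
  obtain ⟨T, hT⟩ := hp.exists_le_sylow
  obtain ⟨a, rfl⟩ := MulAction.exists_smul_eq G S T
  have hmem : ∀ {z : G}, z ∈ ((a • S : Sylow p G) : Subgroup G) → a⁻¹ * z * a ∈ S := fun {z} hz => by
    rw [Sylow.coe_subgroup_smul, Subgroup.mem_pointwise_smul_iff_inv_smul_mem] at hz
    show a⁻¹ * z * a ∈ (S : Subgroup G)
    simpa using hz
  have h1 := hU a (hmem (hT (Subgroup.mem_sup_left (Subgroup.mem_zpowers x))))
  have h2 := hmem (hT (Subgroup.mem_sup_right (Subgroup.mem_zpowers y)))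
  have h3 := hU (g⁻¹ * a) (by simpa [y, mul_assoc] using h2)
  have h5 : a⁻¹ * y * a = a⁻¹ * x * a := by
    rw [h1]; simpa [y, mul_assoc] using h3
  exact mul_left_cancel (mul_right_cancel h5)

end Cfsg.Agent.S3064
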