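import Cfsg.Statements.S3065
import Cfsg.Agent.Lib.SylowAutSolvable.Main
import Cfsg.Agent.S0205

set_option autoImplicit false
open Cfsg

namespace Cfsg.Agent.S3065

/-- Let G be a finite non-abelian simple group with a nontrivial Sylow 2-subgroup S (that is, G has even order). If the automorphism group of S is solvable, then the outer automorphism group Out(G) = Aut(G)/Inn(G) is solvable. -/
theorem result {G : Type*} [Group G] [Finite G] [IsSimpleGroup G]
    (hG : ¬ IsMulCommutative G) (S : Sylow 2 G) (hS1 : (S : Subgroup G) ≠ ⊥) (hS : Group.IsSolvable (MulAut ↥S)) :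
    Group.IsSolvable (Cfsg.Out G) := by
  have hZ : Subgroup.center G = ⊥ := (Subgroup.Normal.eq_bot_or_eq_top inferInstance).resolve_right
    fun h => hG ⟨⟨fun a b => ((Subgroup.mem_center_iff.mp (show b ∈ Subgroup.center G by rw [h]; trivial)) a)⟩⟩
  have hO : Cfsg.oddCore G = ⊥ := by
    refine (Subgroup.Normal.eq_bot_or_eq_top (Cores.pPrimeCore_normal 2)).resolve_right fun h => hS1 ?_
    have hc := Cores.pPrimeCore_card_coprime (G := G) 2
    rw [show Cfsg.pPrimeCore 2 G = ⊤ from h, Subgroup.card_top] at hc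
    haveI : Fact (Nat.Prime 2) := ⟨Nat.prime_two⟩
    obtain ⟨k, hk⟩ := S.isPGroup'.exists_card_eq
    exact Subgroup.eq_bot_of_card_eq _ (Nat.eq_one_of_dvd_coprimes (hc.pow_right k)
      ((S : Subgroup G).card_subgroup_dvd_card) (dvd_of_eq hk))
  exact SylowAutSolvable.isSolvable_out_of_mulAut
    (fun _ _ _ h => Cfsg.Agent.S0205.result h) hZ hO S hS

end Cfsg.Agent.S3065
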