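import Cfsg.Statements.S3066
import Cfsg.Agent.Lib.SylowAutSolvable.Ranks
import Cfsg.Agent.S0205

set_option autoImplicit false
open Cfsg

namespace Cfsg.Agent.S3066

/-- Let G be a finite non-abelian simple group with a nontrivial Sylow 2-subgroup S (that is, G has even order). Then Out(G) = Aut(G)/Inn(G) is solvable provided one of the following holds: (a) S is generated by two elements; (b) S is generated by three elements and N_G(S)/C_G(S) is not a 2-group (some element of N_G(S) of odd order does not centralize S); (c) the involutions of S commute pairwise and are all conjugate in G. -/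
theorem result {G : Type*} [Group G] [Finite G] [IsSimpleGroup G]
    (hG : ¬ IsMulCommutative G) (S : Sylow 2 G) (hS1 : (S : Subgroup G) ≠ ⊥)
    (h : (∃ a b : ↥S, Subgroup.closure ({a, b} : Set ↥S) = ⊤) ∨
      ((∃ a b c : ↥S, Subgroup.closure ({a, b, c} : Set ↥S) = ⊤) ∧
        ∃ g ∈ Subgroup.normalizer ((S : Subgroup G) : Set G), Odd (orderOf g) ∧ g ∉ Subgroup.centralizer ((S : Subgroup G) : Set G)) ∨
      ((∀ s ∈ S, ∀ t ∈ S, orderOf s = 2 → orderOf t = 2 → s * t = t * s) ∧
        (∀ s ∈ S, ∀ t ∈ S, orderOf s = 2 → orderOf t = 2 → ∃ g : G, g * s * g⁻¹ = t))) :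
    Group.IsSolvable (Cfsg.Out G) := by
  have hZ : Subgroup.center G = ⊥ := (Subgroup.Normal.eq_bot_or_eq_top inferInstance).resolve_right
    fun h => hG ⟨⟨fun a b => ((Subgroup.mem_center_iff.mp (show b ∈ Subgroup.center G by rw [h]; trivial)) a)⟩⟩
  have hO : Cfsg.oddCore G = ⊥ := by
    refine (Subgroup.Normal.eq_bot_or_eq_top (Cores.pPrimeCore_normal 2)).resolve_right fun h => hS1 ?_
    have hc := Cores.pPrimeCore_card_coprime (G := G) 2
    rw [show Cfsg.pPrimeCore 2 G = ⊤ from h, Subgroup.card_top] at hc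
    have : Fact (Nat.Prime 2) := ⟨Nat.prime_two⟩
    obtain ⟨k, hk⟩ := S.isPGroup'.exists_card_eq
    exact Subgroup.eq_bot_of_card_eq _ (Nat.eq_one_of_dvd_coprimes (hc.pow_right k)
      ((S : Subgroup G).card_subgroup_dvd_card) (dvd_of_eq hk))
  have hodd := fun (H : _) (_ : Group H) (_ : Finite H) (h : Odd (Nat.card H)) =>
    Cfsg.Agent.S0205.result (G := H) h
  rcases h with h | ⟨h3, hg⟩ | ⟨hc, hj⟩
  · exact SylowAutSolvable.Ranks.out_of_two_generated hodd hZ hO S h
  · exact SylowAutSolvable.Ranks.out_of_three_generated hodd hZ hO S h3 hg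
  · exact SylowAutSolvable.Ranks.out_of_conjugate_involutions hodd hZ hO S hc hj

end Cfsg.Agent.S3066
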