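-- Statement S3067: a coprime automorphism moves part of every involution centralizer.
import Cfsg.Statements.S3067
import Cfsg.Agent.S0215

set_option autoImplicit false
open Cfsg
open scoped Pointwise

namespace Cfsg.Agent.S3067

section

variable {G : Type*} [Group G] [Finite G] {r : ℕ} [hr : Fact r.Prime]

/-- the fixed subgroup -/
def fixSub (β : MulAut G) : Subgroup G := MonoidHom.eqLocus β.toMonoidHom (MonoidHom.id G)

omit [Finite G] in
theorem mem_fixSub {β : MulAut G} {g : G} : g ∈ fixSub β ↔ β g = g := Iff.rfl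

omit [Group G] [Finite G] in
/-- a map of prime period fixes a point of a set of size prime to it -/
theorem exists_fixed {X : Type*} [Finite X] (f : X → X)
    (hf : ∀ x, f^[r] x = x) (hX : ¬ r ∣ Nat.card X) : ∃ x, f x = x := by
  have := Fintype.ofFinite X
  have hinv : ∀ x, f^[r - 1] (f x) = x ∧ f (f^[r - 1] x) = x := fun x => by
    have h1 : r - 1 + 1 = r := Nat.succ_pred_eq_of_pos hr.out.pos
    constructor
    · exact (Function.iterate_succ_apply f (r - 1) x).symm.trans (by rw [Nat.succ_eq_add_one, h1, hf])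
    · exact (Function.iterate_succ_apply' f (r - 1) x).symm.trans (by rw [Nat.succ_eq_add_one, h1, hf])
  let σ : Equiv.Perm X := ⟨f, f^[r - 1], fun x => (hinv x).1, fun x => (hinv x).2⟩
  refine Equiv.Perm.exists_fixed_point_of_prime (p := r) (n := 1)
    (by rwa [← Nat.card_eq_fintype_card]) (σ := σ) ?_
  rw [pow_one]
  exact Equiv.ext fun x => by rw [Equiv.Perm.coe_pow]; exact hf x

omit [Finite G] hr in
theorem iterate_aut {β : MulAut G} (hβ : β ^ r = 1) (g : G) : (⇑β)^[r] g = g := by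
  have : ∀ k : ℕ, (⇑β)^[k] g = (β ^ k) g := by
    intro k
    induction k with
    | zero => rfl
    | succ k ih => rw [Function.iterate_succ_apply', ih, pow_succ']; rfl
  rw [this, hβ]; rfl

variable {β : MulAut G} (hβ : β ^ r = 1) (hrG : ¬ r ∣ Nat.card G)
include hβ hrG

/-- an invariant subgroup has an invariant Sylow subgroup -/
theorem exists_invariant_sylow (p : ℕ) [Fact p.Prime] {H : Subgroup G}
    (hH : ∀ x ∈ H, β x ∈ H) :
    ∃ P : Sylow p H, ∀ x ∈ (P : Subgroup H).map H.subtype, β x ∈ (P : Subgroup H).map H.subtype := by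
  have hsymm : ∀ x ∈ H, β.symm x ∈ H := by
    intro x hx
    have hmap : H.map β.toMonoidHom = H :=
      Subgroup.eq_of_le_of_card_ge (Subgroup.map_le_iff_le_comap.2 hH)
        (le_of_eq (Subgroup.card_map_of_injective β.injective).symm)
    obtain ⟨y, hy, rfl⟩ := hmap.symm ▸ hx
    simpa using hy
  let β' : MulAut H :=
    { toFun := fun x => ⟨β x, hH x x.2⟩
      invFun := fun x => ⟨β.symm x, hsymm x x.2⟩
      left_inv := fun x => Subtype.ext (by simp)
      right_inv := fun x => Subtype.ext (by simp)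
      map_mul' := fun x y => Subtype.ext (by simp) }
  have hβ' : β' ^ r = 1 := by
    refine MulEquiv.ext fun x => Subtype.ext ?_
    have h : ∀ k : ℕ, (((β' ^ k) x : H) : G) = (β ^ k) (x : G) := by
      intro k
      induction k with
      | zero => rfl
      | succ k ih =>
        rw [pow_succ', pow_succ', MulAut.mul_apply, MulAut.mul_apply, ← ih]
        rfl
    rw [h, hβ]; rfl
  have hiter : ∀ P : Sylow p H, (fun Q : Sylow p H => β' • Q)^[r] P = P := by
    intro P
    rw [smul_iterate_apply, hβ', one_smul]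
  obtain ⟨P, hP⟩ := exists_fixed (r := r) (fun Q : Sylow p H => β' • Q) hiter (fun h => hrG (by
    obtain ⟨P⟩ : Nonempty (Sylow p H) := inferInstance
    exact (h.trans (P.card_dvd_index)).trans
      ((Subgroup.index_dvd_card _).trans (Subgroup.card_subgroup_dvd_card H))))
  refine ⟨P, ?_⟩
  rintro _ ⟨x, hx, rfl⟩
  refine ⟨β' x, ?_, rfl⟩
  have := congrArg (fun Q : Sylow p H => (Q : Subgroup H)) hP
  rw [← this]
  exact Subgroup.smul_mem_pointwise_smul x β' _ hx

/-- an invariant subgroup of prime power order lies in an invariant Sylow subgroup -/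
theorem exists_invariant_sylow_ge (p : ℕ) [Fact p.Prime] {U : Subgroup G} (hU : IsPGroup p U)
    (hUβ : ∀ x ∈ U, β x ∈ U) :
    ∃ P : Sylow p G, U ≤ P ∧ ∀ x ∈ (P : Subgroup G), β x ∈ (P : Subgroup G) := by
  obtain ⟨Q, hUQ, ⟨hQp, hQβ⟩, hmax⟩ := Set.Finite.exists_le_maximal
    (Set.toFinite {Q : Subgroup G | IsPGroup p Q ∧ ∀ x ∈ Q, β x ∈ Q}) (a := U) ⟨hU, hUβ⟩
  obtain ⟨n, hn⟩ := IsPGroup.iff_card.mp hQp
  by_cases hdvd : p ^ (n + 1) ∣ Nat.card G
  · exfalso
    set N := Subgroup.normalizer (Q : Set G)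
    have hQmap : Q.map β.toMonoidHom = Q :=
      Subgroup.eq_of_le_of_card_ge (Subgroup.map_le_iff_le_comap.2 hQβ)
        (le_of_eq (Subgroup.card_map_of_injective β.injective).symm)
    have hNβ : ∀ x ∈ N, β x ∈ N := by
      intro x hx
      rw [Subgroup.mem_normalizer_iff] at hx ⊢
      intro q
      obtain ⟨q, rfl⟩ := β.surjective q
      have key : ∀ z, β z ∈ Q ↔ z ∈ Q := fun z => by
        refine ⟨fun h => ?_, hQβ z⟩
        obtain ⟨z', hz', e⟩ := hQmap.symm ▸ h
        rwa [← β.injective e]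
      rw [key, hx q, ← key, map_mul, map_mul, map_inv]
    obtain ⟨P, hP⟩ := exists_invariant_sylow hβ hrG p hNβ
    have hQN : Q ≤ N := Subgroup.le_normalizer
    haveI : (Q.subgroupOf N).Normal :=
      (Subgroup.normal_subgroupOf_iff_le_normalizer hQN).2 le_rfl
    have hQN' : IsPGroup p (Q.subgroupOf N) := hQp.comap_of_injective N.subtype N.subtype_injective
    have hQP : Q.subgroupOf N ≤ (P : Subgroup N) := hQN'.le_sylow_of_normal P
    have hQP' : Q ≤ (P : Subgroup N).map N.subtype := fun x hx => ⟨⟨x, hQN hx⟩, hQP hx, rfl⟩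
    have hle := hmax ⟨P.2.map _, hP⟩ hQP'
    have hidx := Sylow.prime_dvd_card_quotient_normalizer hdvd hn
    have hPle : (P : Subgroup N) ≤ Q.subgroupOf N := fun x hx => hle (Subgroup.mem_map_of_mem _ hx)
    refine P.not_dvd_index (dvd_trans ?_ (Subgroup.index_dvd_of_le hPle))
    exact hidx
  · obtain ⟨P, hP⟩ := hQp.exists_le_sylow
    have heq : Q = P := Subgroup.eq_of_le_of_card_ge hP (by
      obtain ⟨k, hk⟩ := IsPGroup.iff_card.mp P.2
      rw [hk, hn]
      refine Nat.pow_le_pow_right (Fact.out : p.Prime).pos (Nat.le_of_not_lt fun h => hdvd ?_)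
      exact (pow_dvd_pow p h).trans (hk ▸ Subgroup.card_subgroup_dvd_card _))
    exact ⟨P, hUQ.trans hP, heq ▸ hQβ⟩

/-- a fixed subgroup of odd index contains all invariant 2-subgroups -/
theorem le_fix {S : Sylow 2 G} (hS : (S : Subgroup G) ≤ fixSub β) {U : Subgroup G}
    (hU : IsPGroup 2 U) (hUβ : ∀ x ∈ U, β x ∈ U) : U ≤ fixSub β := by
  obtain ⟨P, hUP, hP⟩ := exists_invariant_sylow_ge hβ hrG 2 hU hUβ
  refine hUP.trans ?_
  obtain ⟨g, hg⟩ := MulAction.exists_smul_eq G S P
  let T := {g : G // g • S = P}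
  have hmem : ∀ g : G, g • S = P → β g • S = P := by
    intro g hg
    refine Sylow.ext (Subgroup.eq_of_le_of_card_ge ?_ (le_of_eq ?_))
    · rintro _ ⟨s, hs, rfl⟩
      have h1 : g * s * g⁻¹ ∈ (P : Subgroup G) := by
        rw [← hg]
        exact ⟨s, hs, rfl⟩
      have h2 := hP _ h1
      rw [map_mul, map_mul, map_inv, mem_fixSub.1 (hS hs)] at h2
      exact h2
    · rw [P.card_eq_multiplicity, (β g • S).card_eq_multiplicity]
  let f : T → T := fun g => ⟨β g.1, hmem g.1 g.2⟩
  have hiter : ∀ t : T, f^[r] t = t := by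
    intro t
    refine Subtype.ext ?_
    have : ∀ k : ℕ, (f^[k] t).1 = (⇑β)^[k] t.1 := by
      intro k
      induction k with
      | zero => rfl
      | succ k ih => rw [Function.iterate_succ_apply', Function.iterate_succ_apply', ← ih]
    rw [this, iterate_aut hβ]
  have e : T ≃ MulAction.stabilizer G S :=
    { toFun := fun t => ⟨g⁻¹ * t.1, by rw [MulAction.mem_stabilizer_iff, mul_smul, t.2, ← hg,
        inv_smul_smul]⟩
      invFun := fun s => ⟨g * s.1, by rw [mul_smul, MulAction.mem_stabilizer_iff.1 s.2, hg]⟩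
      left_inv := fun t => Subtype.ext (by simp)
      right_inv := fun s => Subtype.ext (by simp) }
  obtain ⟨c, hc⟩ := exists_fixed f hiter (fun h => hrG (by
    rw [Nat.card_congr e] at h
    exact h.trans (Subgroup.card_subgroup_dvd_card _)))
  have hcfix : c.1 ∈ fixSub β := congrArg Subtype.val hc
  intro x hx
  rw [← c.2] at hx
  obtain ⟨s, hs, rfl⟩ := hx
  exact mul_mem (mul_mem hcfix (hS hs)) (inv_mem hcfix)

/-- an involution is conjugate into the fixed subgroup by an element centralising the part of the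
fixed subgroup it normalises -/
theorem exists_conj_fixed {S : Sylow 2 G} (hS : (S : Subgroup G) ≤ fixSub β) {y : G}
    (hy : y * y = 1) :
    ∃ w : G, w * y * w⁻¹ ∈ fixSub β ∧
      ∀ d, d ∈ fixSub β → y * d * y ∈ fixSub β → w * d = d * w := by
  set C := fixSub β
  set W : Subgroup G := Subgroup.centralizer {d : G | d ∈ C ∧ y * d * y ∈ C}
  have hyinv : y⁻¹ = y := inv_eq_of_mul_eq_one_right hy
  set H := W ⊔ Subgroup.zpowers y
  have hWβ : ∀ w ∈ W, β w ∈ W := by
    intro w hw
    refine Subgroup.mem_centralizer_iff.2 fun d hd => ?_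
    rw [← mem_fixSub.1 hd.1, ← map_mul, ← map_mul, Subgroup.mem_centralizer_iff.1 hw d hd]
  have hyW : y⁻¹ * β y ∈ W := by
    refine Subgroup.mem_centralizer_iff.2 fun d hd => ?_
    have h : β y * d * β y = y * d * y := by
      calc β y * d * β y = β y * β d * β y := by rw [mem_fixSub.1 hd.1]
        _ = β (y * d * y) := by rw [map_mul, map_mul]
        _ = y * d * y := mem_fixSub.1 hd.2
    have hby : β y * β y = 1 := by rw [← map_mul, hy, map_one]
    rw [hyinv]
    calc d * (y * β y) = y * (y * d * y) * β y := by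
          rw [show y * (y * d * y) = (y * y) * d * y by group, hy, one_mul, mul_assoc]
      _ = y * (β y * d * β y) * β y := by rw [h]
      _ = y * β y * d := by
          rw [show y * (β y * d * β y) * β y = y * β y * d * (β y * β y) by group, hby, mul_one]
  have hHβ : ∀ x ∈ H, β x ∈ H := by
    suffices H ≤ H.comap β.toMonoidHom from this
    refine sup_le (fun w hw => Subgroup.mem_sup_left (hWβ w hw)) (Subgroup.zpowers_le.2 ?_)
    show β y ∈ H
    rw [show β y = y * (y⁻¹ * β y) by group]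
    exact mul_mem (Subgroup.mem_sup_right (Subgroup.mem_zpowers y)) (Subgroup.mem_sup_left hyW)
  obtain ⟨P, hP⟩ := exists_invariant_sylow hβ hrG 2 hHβ
  have hPC : (P : Subgroup H).map H.subtype ≤ C := le_fix hβ hrG hS (P.2.map _) hP
  let y' : H := ⟨y, Subgroup.mem_sup_right (Subgroup.mem_zpowers y)⟩
  have hy2 : IsPGroup 2 (Subgroup.zpowers y') := fun ⟨z, hz⟩ => ⟨1, by
    obtain ⟨i, rfl⟩ := Subgroup.mem_zpowers_iff.1 hz
    refine Subtype.ext ?_
    have : y' ^ (2 : ℕ) = 1 := Subtype.ext (by rw [SubmonoidClass.coe_pow, sq]; exact hy)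
    simp only [pow_one, SubmonoidClass.coe_pow, Subgroup.coe_one]
    rw [← zpow_natCast, ← zpow_mul, mul_comm, zpow_mul, zpow_natCast, this, one_zpow]⟩
  obtain ⟨Q, hQ⟩ := hy2.exists_le_sylow
  obtain ⟨h, hh⟩ := MulAction.exists_smul_eq H Q P
  have hhy : (h : G) * y * (h : G)⁻¹ ∈ C := by
    refine hPC ⟨h * y' * h⁻¹, ?_, rfl⟩
    rw [← hh]
    exact ⟨y', hQ (Subgroup.mem_zpowers _), rfl⟩
  have hWn : Subgroup.zpowers y ≤ Subgroup.normalizer (W : Set G) := by
    refine Subgroup.zpowers_le.2 (Subgroup.mem_normalizer_iff.2 fun w => ?_)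
    have key : ∀ w ∈ W, y * w * y⁻¹ ∈ W := by
      intro w hw
      refine Subgroup.mem_centralizer_iff.2 fun d hd => ?_
      have hd' : y * d * y ∈ C ∧ y * (y * d * y) * y ∈ C := ⟨hd.2, by
        rw [show y * (y * d * y) * y = (y * y) * d * (y * y) by group, hy, one_mul, mul_one]
        exact hd.1⟩
      have e := Subgroup.mem_centralizer_iff.1 hw _ hd'
      rw [hyinv]
      calc d * (y * w * y) = (y * y) * d * (y * w * y) := by rw [hy, one_mul]
        _ = y * ((y * d * y) * w) * y := by group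
        _ = y * (w * (y * d * y)) * y := by rw [e]
        _ = y * w * y * d * (y * y) := by group
        _ = y * w * y * d := by rw [hy, mul_one]
    refine ⟨key w, fun hw => ?_⟩
    have := key _ hw
    rw [hyinv, show y * (y * w * y) * y = (y * y) * w * (y * y) by group, hy, one_mul, mul_one] at this
    exact this
  have hmem : (h : G) ∈ ((W : Set G) * ((Subgroup.zpowers y : Subgroup G) : Set G)) := by
    rw [← Subgroup.coe_mul_of_right_le_normalizer_left _ _ hWn]
    exact h.2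
  obtain ⟨w, hw, z, hz, e⟩ := hmem
  refine ⟨w, ?_, fun d h1 h2 => (Subgroup.mem_centralizer_iff.1 hw d ⟨h1, h2⟩).symm⟩
  have hzy : z * y = y * z := by
    obtain ⟨i, rfl⟩ := Subgroup.mem_zpowers_iff.1 hz
    exact ((Commute.refl y).zpow_left i).eq
  rw [← e] at hhy
  rwa [show w * z * y * (w * z)⁻¹ = w * (z * y * z⁻¹) * w⁻¹ by group, hzy, mul_inv_cancel_right] at hhy

end

/-- Let G be a finite non-abelian simple group, τ an involution of G, and α a nontrivial automorphism of G whose order is coprime to the order of G. Then α moves some element of the centralizer of τ: α does not fix C_G(τ) elementwise. -/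
theorem result {G : Type*} [Group G] [Finite G] [IsSimpleGroup G]
    (hG : ¬ IsMulCommutative G) (τ : G) (hτ : orderOf τ = 2) (α : MulAut G) (hα : α ≠ 1)
    (hcop : (orderOf α).Coprime (Nat.card G)) :
    ∃ c ∈ Subgroup.centralizer ({τ} : Set G), α c ≠ c := by
  classical
  by_contra hcon
  push Not at hcon
  -- a power of prime order
  have hm : orderOf α ≠ 1 := fun h => hα (orderOf_eq_one_iff.1 h)
  obtain ⟨r, hrp, hrm⟩ := Nat.exists_prime_and_dvd hm
  haveI := Fact.mk hrp
  obtain ⟨k, hk⟩ := hrm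
  have hk0 : 0 < k := Nat.pos_of_ne_zero fun h => by
    rw [h, mul_zero] at hk
    exact (orderOf_pos α).ne' hk
  set β := α ^ k with hβdef
  have hβ : β ^ r = 1 := by rw [hβdef, ← pow_mul, mul_comm, ← hk, pow_orderOf_eq_one]
  have hrG : ¬ r ∣ Nat.card G := fun h =>
    hrp.not_dvd_one (hcop ▸ Nat.dvd_gcd (hk ▸ dvd_mul_right r k) h)
  have hβ1 : β ≠ 1 := fun h => by
    have := orderOf_le_of_pow_eq_one hk0 h
    rw [hk] at this
    nlinarith [hrp.two_le]
  set C := fixSub β with hC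
  have hCtop : C ≠ ⊤ := fun h => hβ1 (MulEquiv.ext fun x =>
    mem_fixSub.1 (show x ∈ C by rw [h]; exact Subgroup.mem_top x))
  set T := Subgroup.centralizer ({τ} : Set G) with hT
  have hTC : T ≤ C := by
    intro c hc
    show β c = c
    have : ∀ n : ℕ, (α ^ n) c = c := by
      intro n
      induction n with
      | zero => rfl
      | succ n ih => rw [pow_succ', MulAut.mul_apply, ih, hcon c hc]
    exact this k
  have hττ : τ * τ = 1 := by rw [← sq, ← hτ, pow_orderOf_eq_one]
  have hτT : τ ∈ T := Subgroup.mem_centralizer_singleton_iff.2 rfl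
  have hτC : τ ∈ C := hTC hτT
  -- conjugation control
  have hctrl : ∀ g : G, g * τ * g⁻¹ ∈ C → g ∈ C := by
    intro g hg
    have hc : g⁻¹ * β g ∈ C := by
      refine hTC (Subgroup.mem_centralizer_singleton_iff.2 ?_)
      have e : β g * τ * (β g)⁻¹ = g * τ * g⁻¹ := by
        have := mem_fixSub.1 hg
        rwa [map_mul, map_mul, map_inv, mem_fixSub.1 hτC] at this
      calc g⁻¹ * β g * τ = g⁻¹ * (β g * τ * (β g)⁻¹) * β g := by group
        _ = g⁻¹ * (g * τ * g⁻¹) * β g := by rw [e]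
        _ = τ * (g⁻¹ * β g) := by group
    set c := g⁻¹ * β g with hcdef
    have hgen : ∀ n : ℕ, (⇑β)^[n] g = g * c ^ n := by
      intro n
      induction n with
      | zero => simp
      | succ n ih =>
        rw [Function.iterate_succ_apply', ih, map_mul, map_pow, mem_fixSub.1 hc, pow_succ', ← mul_assoc,
          show g * c = β g by rw [hcdef, mul_inv_cancel_left]]
    have hcr : c ^ r = 1 := by
      have := hgen r
      rw [iterate_aut hβ] at this
      exact mul_eq_left.1 this.symm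
    have hc1 : c = 1 := by
      rcases (Nat.dvd_prime hrp).1 (orderOf_dvd_of_pow_eq_one hcr) with h | h
      · exact orderOf_eq_one_iff.1 h
      · exact absurd (h ▸ orderOf_dvd_natCard c) hrG
    exact mem_fixSub.2 (inv_mul_eq_one.1 hc1).symm
  -- conjugates of τ as cosets
  let ψ : G ⧸ T → G := Quotient.lift (fun g : G => g * τ * g⁻¹) (by
    intro a b hab
    have h := Subgroup.mem_centralizer_singleton_iff.1 (QuotientGroup.leftRel_apply.1 hab)
    calc a * τ * a⁻¹ = a * (τ * (a⁻¹ * b)) * b⁻¹ := by group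
      _ = a * (a⁻¹ * b * τ) * b⁻¹ := by rw [h]
      _ = b * τ * b⁻¹ := by group)
  have hψmk : ∀ g : G, ψ (g : G ⧸ T) = g * τ * g⁻¹ := fun g => rfl
  have hψsmul : ∀ (w : G) (x : G ⧸ T), ψ (w • x) = w * ψ x * w⁻¹ := by
    intro w x
    induction x using QuotientGroup.induction_on with
    | H g =>
      rw [MulAction.Quotient.smul_mk, smul_eq_mul, hψmk, hψmk]
      group
  have hψinv : ∀ x, ψ x * ψ x = 1 := by
    intro x
    induction x using QuotientGroup.induction_on with
    | H g =>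
      rw [hψmk, show g * τ * g⁻¹ * (g * τ * g⁻¹) = g * (τ * τ) * g⁻¹ by group, hττ, mul_one,
        mul_inv_cancel]
  -- a Sylow subgroup inside C
  have hodd : ¬ 2 ∣ C.index := by
    intro h2
    have := Fintype.ofFinite (G ⧸ C)
    have e1 := Equiv.Perm.card_fixedPoints_modEq (p := 2) (n := 1)
      (f := fun x : G ⧸ C => τ • x) (by
        funext x
        show τ • τ • x = x
        rw [smul_smul, hττ, one_smul])
    have hfix : Function.fixedPoints (fun x : G ⧸ C => τ • x) = {((1 : G) : G ⧸ C)} := by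
      ext x
      induction x using QuotientGroup.induction_on with
      | H g =>
        simp only [Function.mem_fixedPoints, Function.IsFixedPt, Set.mem_singleton_iff,
          MulAction.Quotient.smul_mk, smul_eq_mul, QuotientGroup.eq, mul_one, mul_inv_rev]
        have hτi : τ⁻¹ = τ := inv_eq_of_mul_eq_one_right hττ
        rw [hτi]
        refine ⟨fun h => hctrl g⁻¹ (by rwa [inv_inv]), fun h => ?_⟩
        exact mul_mem (mul_mem h hτC) (inv_mem h |> fun h' => by rwa [inv_inv] at h')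
    rw [Nat.ModEq] at e1
    have hone : Fintype.card (Function.fixedPoints (fun x : G ⧸ C => τ • x)) = 1 := by
      rw [Fintype.card_eq_one_iff]
      exact ⟨⟨_, by rw [hfix]; rfl⟩, fun ⟨z, hz⟩ => Subtype.ext (by rw [hfix] at hz; exact hz)⟩
    rw [← Nat.card_eq_fintype_card] at e1
    rw [hone] at e1
    rw [Subgroup.index] at h2
    omega
  obtain ⟨S₀⟩ : Nonempty (Sylow 2 C) := inferInstance
  have hτ2 : IsPGroup 2 (Subgroup.zpowers (⟨τ, hτC⟩ : C)) := by
    refine IsPGroup.of_card (n := 1) ?_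
    rw [Nat.card_zpowers, pow_one, Subgroup.orderOf_mk, hτ]
  obtain ⟨S₁, hS₁⟩ := hτ2.exists_le_sylow
  let S : Sylow 2 G := Sylow.ofCard ((S₁ : Subgroup C).map C.subtype) (by
    rw [Subgroup.card_map_of_injective C.subtype_injective, S₁.card_eq_multiplicity,
      ← C.card_mul_index, Nat.factorization_mul Nat.card_pos.ne' C.index_ne_zero_of_finite,
      Finsupp.add_apply, Nat.factorization_eq_zero_of_not_dvd hodd, add_zero])
  have hSC : (S : Subgroup G) ≤ C := by
    simp only [S, Sylow.coe_ofCard]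
    exact Subgroup.map_subtype_le _
  have hτS : τ ∈ (S : Subgroup G) := by
    simp only [S, Sylow.coe_ofCard]
    exact ⟨⟨τ, hτC⟩, hS₁ (Subgroup.mem_zpowers _), rfl⟩
  have hDC : ∀ g : G, g ∈ C → ∀ x, ψ x ∈ C → g * ψ x * g⁻¹ ∈ C := fun g hg x hx =>
    mul_mem (mul_mem hg hx) (inv_mem hg)
  -- the fibres over the cosets of C
  let π : G ⧸ T → G ⧸ C := fun x => QuotientGroup.mk (ψ x)
  have hD : ∀ x, π x = ((1 : G) : G ⧸ C) ↔ ψ x ∈ C := fun x => by
    show ((ψ x : G) : G ⧸ C) = _ ↔ _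
    rw [QuotientGroup.eq, mul_one, inv_mem_iff]
  let D := {x : G ⧸ T // ψ x ∈ C}
  have hmain : ∀ q : G ⧸ C, Nat.card {x // π x = q} ≤ Nat.card D ∧
      (Nat.card {x // π x = q} = Nat.card D → ∀ x₀, π x₀ = q → ∃ w : G,
        w * ψ x₀ * w⁻¹ ∈ C ∧ (∀ d, d ∈ C → ψ x₀ * d * ψ x₀ ∈ C → w * d = d * w) ∧
          ∀ z : D, (w * ψ x₀ * w⁻¹)⁻¹ * ψ z.1 ∈ C ∧
            ψ x₀ * ((w * ψ x₀ * w⁻¹)⁻¹ * ψ z.1) * ψ x₀ ∈ C) := by
    intro q
    have hex : ∀ x₀, π x₀ = q → ∃ w : G, w * ψ x₀ * w⁻¹ ∈ C ∧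
        (∀ d, d ∈ C → ψ x₀ * d * ψ x₀ ∈ C → w * d = d * w) ∧
        ∃ F : {x // π x = q} → D, Function.Injective F ∧ ∀ x,
          (w * ψ x₀ * w⁻¹)⁻¹ * ψ (F x).1 ∈ C ∧
          ψ x₀ * ((w * ψ x₀ * w⁻¹)⁻¹ * ψ (F x).1) * ψ x₀ ∈ C := by
      intro x₀ h0
      obtain ⟨w, hw, hwd⟩ := exists_conj_fixed hβ hrG hSC (hψinv x₀)
      have hinv : ∀ z, (ψ z)⁻¹ = ψ z := fun z => inv_eq_of_mul_eq_one_right (hψinv z)
      have hd : ∀ x : {x // π x = q}, ψ x₀ * ψ x.1 ∈ C ∧ ψ x₀ * (ψ x₀ * ψ x.1) * ψ x₀ ∈ C := by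
        intro x
        have e : π x₀ = π x.1 := h0.trans x.2.symm
        have h1 : ψ x₀ * ψ x.1 ∈ C := by
          have := QuotientGroup.eq.1 e
          rwa [hinv] at this
        refine ⟨h1, ?_⟩
        have h2 := inv_mem h1
        rw [mul_inv_rev, hinv, hinv] at h2
        rwa [show ψ x₀ * (ψ x₀ * ψ x.1) * ψ x₀ = (ψ x₀ * ψ x₀) * (ψ x.1 * ψ x₀) by group, hψinv, one_mul]
      have hF : ∀ x : {x // π x = q}, (w * ψ x₀ * w⁻¹)⁻¹ * ψ (w • x.1) = ψ x₀ * ψ x.1 := by
        intro x
        rw [hψsmul]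
        calc (w * ψ x₀ * w⁻¹)⁻¹ * (w * ψ x.1 * w⁻¹) = w * ((ψ x₀)⁻¹ * ψ x.1) * w⁻¹ := by group
          _ = w * (ψ x₀ * ψ x.1) * w⁻¹ := by rw [hinv]
          _ = ψ x₀ * ψ x.1 := by rw [hwd _ (hd x).1 (hd x).2, mul_inv_cancel_right]
      have hmem : ∀ x : {x // π x = q}, ψ (w • x.1) ∈ C := by
        intro x
        have := mul_mem hw (hd x).1
        rw [← hF x, mul_inv_cancel_left] at this
        exact this
      refine ⟨w, hw, hwd, fun x => ⟨w • x.1, hmem x⟩, fun a b h => ?_, fun x => ?_⟩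
      · exact Subtype.ext (MulAction.injective w (congrArg Subtype.val h))
      · simp only [hF x]
        exact hd x
    refine ⟨?_, fun hcard x₀ h0 => ?_⟩
    · by_cases h : Nonempty {x // π x = q}
      · obtain ⟨⟨x₀, h0⟩⟩ := h
        obtain ⟨w, -, -, F, hF, -⟩ := hex x₀ h0
        exact Nat.card_le_card_of_injective F hF
      · rw [not_nonempty_iff] at h
        rw [Nat.card_of_isEmpty]
        exact Nat.zero_le _
    · obtain ⟨w, hw, hwd, F, hF, hFd⟩ := hex x₀ h0
      refine ⟨w, hw, hwd, fun z => ?_⟩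
      obtain ⟨x, hx⟩ := (Nat.bijective_iff_injective_and_card F).2 ⟨hF, hcard⟩ |>.2 z
      rw [← hx]
      exact hFd x
  have heq : ∀ q : G ⧸ C, Nat.card {x // π x = q} = Nat.card D := by
    have := Fintype.ofFinite (G ⧸ C)
    have := Fintype.ofFinite (G ⧸ T)
    have hsum : ∑ q : G ⧸ C, Nat.card {x // π x = q} = ∑ _q : G ⧸ C, Nat.card D := by
      have e1 : Nat.card (G ⧸ T) = ∑ q : G ⧸ C, Nat.card {x // π x = q} := by
        rw [← Nat.card_sigma, Nat.card_congr (Equiv.sigmaFiberEquiv π)]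
      rw [← e1, Finset.sum_const, Finset.card_univ, ← Nat.card_eq_fintype_card, smul_eq_mul,
        Nat.card_congr (Subgroup.quotientEquivProdOfLE hTC), Nat.card_prod]
      congr 1
      let g : C ⧸ T.subgroupOf C → D := Quotient.lift (fun c : C => (⟨((c : G) : G ⧸ T), by
          rw [hψmk]; exact mul_mem (mul_mem c.2 hτC) (inv_mem c.2)⟩ : D)) (fun a b hab => by
        refine Subtype.ext ?_
        have h := QuotientGroup.leftRel_apply.1 hab
        exact QuotientGroup.eq.2 h)
      refine Nat.card_congr (Equiv.ofBijective g ⟨fun a b => ?_, fun z => ?_⟩)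
      · induction a using QuotientGroup.induction_on with
        | H a =>
          induction b using QuotientGroup.induction_on with
          | H b => 
            intro h
            have h' : ((a : G) : G ⧸ T) = ((b : G) : G ⧸ T) := congrArg Subtype.val h
            exact QuotientGroup.eq.2 (show ((a⁻¹ * b : C) : G) ∈ T from QuotientGroup.eq.1 h')
      · obtain ⟨z, hz⟩ := z
        induction z using QuotientGroup.induction_on with
        | H a => exact ⟨QuotientGroup.mk ⟨a, hctrl a hz⟩, rfl⟩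
    intro q
    exact (Finset.sum_eq_sum_iff_of_le (fun q _ => (hmain q).1)).1 hsum q (Finset.mem_univ q)
  -- the subgroup of products of two conjugates in C
  set K := Subgroup.closure {k : G | ∃ a b : D, k = ψ a.1 * ψ b.1} with hKdef
  have hKC : K ≤ C := (Subgroup.closure_le _).2 (by
    rintro _ ⟨a, b, rfl⟩
    exact mul_mem a.2 b.2)
  have hgen : ∀ g : G, (∀ a b : D, g * (ψ a.1 * ψ b.1) * g⁻¹ ∈ K) → g ∈ Subgroup.normalizer (K : Set G) := by
    intro g h
    have hle : K.map (MulAut.conj g).toMonoidHom = K := by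
      refine Subgroup.eq_of_le_of_card_ge (Subgroup.map_le_iff_le_comap.2 ((Subgroup.closure_le _).2 ?_))
        (le_of_eq (Subgroup.card_map_of_injective (MulAut.conj g).injective).symm)
      rintro _ ⟨a, b, rfl⟩
      exact h a b
    rw [Subgroup.mem_normalizer_iff_map_conj_eq]
    exact hle
  have hconjD : ∀ g, g ∈ C → ∀ a : D, ∃ a' : D, g * ψ a.1 * g⁻¹ = ψ a'.1 := fun g hg a =>
    ⟨⟨g • a.1, by rw [hψsmul]; exact hDC g hg a.1 a.2⟩, (hψsmul _ _).symm⟩
  have hall : ∀ x, ψ x ∈ Subgroup.normalizer (K : Set G) := by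
    intro x₀
    obtain ⟨w, hw, hwd, hd⟩ := (hmain (π x₀)).2 (heq _) x₀ rfl
    set y'' := w * ψ x₀ * w⁻¹ with hy''
    refine hgen _ fun a b => ?_
    set d := (y''⁻¹ * ψ a.1)⁻¹ * (y''⁻¹ * ψ b.1) with hddef
    have hab : ψ a.1 * ψ b.1 = d := by
      rw [hddef, mul_inv_rev, inv_inv]
      rw [inv_eq_of_mul_eq_one_right (hψinv a.1)]
      group
    have hinv : (ψ x₀)⁻¹ = ψ x₀ := inv_eq_of_mul_eq_one_right (hψinv x₀)
    have hy''i : y''⁻¹ = y'' := by rw [hy'', mul_inv_rev, mul_inv_rev, inv_inv, hinv]; group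
    have hdC : d ∈ C := mul_mem (inv_mem (hd a).1) (hd b).1
    have hd2 : ψ x₀ * d * ψ x₀ ∈ C := by
      have := mul_mem (inv_mem (hd a).2) (hd b).2
      rw [mul_inv_rev, mul_inv_rev, hinv] at this
      rw [hddef]
      convert this using 1
      rw [show ψ x₀ * ((y''⁻¹ * ψ a.1)⁻¹ * ψ x₀) * (ψ x₀ * (y''⁻¹ * ψ b.1) * ψ x₀) =
        ψ x₀ * (y''⁻¹ * ψ a.1)⁻¹ * (ψ x₀ * ψ x₀) * (y''⁻¹ * ψ b.1) * ψ x₀ by group, hψinv]
      group
    have hd3 : ψ x₀ * (ψ x₀ * d * ψ x₀) * ψ x₀ ∈ C := by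
      rwa [show ψ x₀ * (ψ x₀ * d * ψ x₀) * ψ x₀ = (ψ x₀ * ψ x₀) * d * (ψ x₀ * ψ x₀) by group, hψinv,
        one_mul, mul_one]
    have hkey : y'' * d * y''⁻¹ = ψ x₀ * d * (ψ x₀)⁻¹ := by
      have e1 : w⁻¹ * d = d * w⁻¹ := (Commute.inv_left (hwd d hdC hd2)).eq
      calc y'' * d * y''⁻¹ = w * ψ x₀ * (w⁻¹ * d) * w * (ψ x₀)⁻¹ * w⁻¹ := by rw [hy'']; group
        _ = w * (ψ x₀ * d * (ψ x₀)⁻¹) * w⁻¹ := by rw [e1]; group
        _ = ψ x₀ * d * (ψ x₀)⁻¹ := by
          rw [hinv, hwd _ hd2 hd3, mul_inv_cancel_right]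
    rw [hab, ← hkey, ← hab]
    obtain ⟨a', ha'⟩ := hconjD y'' hw a
    obtain ⟨b', hb'⟩ := hconjD y'' hw b
    refine Subgroup.subset_closure ⟨a', b', ?_⟩
    rw [← ha', ← hb']
    group
  have hnc : Subgroup.center G ≠ ⊤ := fun h => hG ⟨⟨fun a b => by
    have ha : a ∈ Subgroup.center G := by rw [h]; exact Subgroup.mem_top a
    exact (Subgroup.mem_center_iff.1 ha b).symm⟩⟩
  have hcen : τ ∉ Subgroup.center G := fun h => by
    rcases (inferInstance : (Subgroup.center G).Normal).eq_bot_or_eq_top with h' | h'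
    · rw [h', Subgroup.mem_bot] at h
      rw [h, orderOf_one] at hτ
      exact absurd hτ (by norm_num)
    · exact hnc h'
  have hKn : K.Normal := by
    have hJ : Subgroup.normalClosure ({τ} : Set G) ≤ Subgroup.normalizer (K : Set G) := by
      refine (Subgroup.closure_le _).2 ?_
      intro z hz
      obtain ⟨t, rfl, hzc⟩ := Group.mem_conjugatesOfSet_iff.1 hz
      obtain ⟨g, rfl⟩ := isConj_iff.1 hzc
      exact hψmk g ▸ hall _
    rcases (Subgroup.normalClosure_normal (s := ({τ} : Set G))).eq_bot_or_eq_top with h | h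
    · exfalso
      have := Subgroup.subset_normalClosure (s := ({τ} : Set G)) (Set.mem_singleton τ)
      rw [h] at this
      exact hcen (by rw [Subgroup.mem_bot.1 this]; exact one_mem _)
    · rw [h] at hJ
      exact Subgroup.normalizer_eq_top_iff.1 (top_le_iff.1 hJ)
  rcases hKn.eq_bot_or_eq_top with h | h
  · -- τ is isolated
    have hiso : ∀ g : G, g * τ * g⁻¹ ∈ (S : Subgroup G) → g * τ * g⁻¹ = τ := by
      intro g hg
      have : ψ (g : G ⧸ T) * ψ ((1 : G) : G ⧸ T) ∈ K :=
        Subgroup.subset_closure ⟨(⟨(g : G ⧸ T), show g * τ * g⁻¹ ∈ C from hSC hg⟩ : D),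
          (⟨((1 : G) : G ⧸ T), show 1 * τ * 1⁻¹ ∈ C by rw [one_mul, inv_one, mul_one]; exact hτC⟩ : D),
          rfl⟩
      rw [h, Subgroup.mem_bot, hψmk, hψmk, one_mul, inv_one, mul_one] at this
      rw [eq_inv_of_mul_eq_one_left this, inv_eq_of_mul_eq_one_right hττ]
    obtain ⟨N, hN, hNo, hNc⟩ := Cfsg.Agent.S0215.result S τ hτ hτS hiso
    rcases hN.eq_bot_or_eq_top with rfl | rfl
    · refine hcen (Subgroup.mem_center_iff.2 fun g => ?_)
      have := Subgroup.mem_bot.1 (hNc g)
      rw [mul_inv_eq_one, mul_inv_eq_iff_eq_mul] at this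
      exact this.symm
    · rw [Subgroup.card_top] at hNo
      exact (Nat.not_even_iff_odd.2 hNo) (even_iff_two_dvd.2 (hτ ▸ orderOf_dvd_natCard τ))
  · exact hCtop (top_le_iff.1 (h ▸ hKC))

end Cfsg.Agent.S3067
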