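import Cfsg.Statements.S3070
import Cfsg.Agent.Lib.PLocal.ThompsonTransfer
import Cfsg.Agent.Techniques.KInf.Fusion

set_option autoImplicit false
open Cfsg

namespace Cfsg.Agent.S3070

open scoped commutatorElement in
open Subgroup Cfsg.Agent.Techniques.Functor Cfsg.Agent.PLocal in
/-- Let p ≥ 5 be a prime, S a Sylow p-subgroup of the finite group G and J(S) the subgroup generated by the abelian subgroups of S of largest order. Then G has a normal p-complement if and only if N_G(J(S))/C_G(J(S)) is a p-group (every element of N_G(J(S)) of order prime to p centralizes J(S)). -/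
theorem result {G : Type*} [Group G] [Finite G] {p : ℕ} [Fact p.Prime]
    (hp : 5 ≤ p) (S : Sylow p G) :
    Cfsg.HasNormalPComplement p G ↔
      ∀ g ∈ Subgroup.normalizer (Cfsg.thompsonSubgroupAOf (S : Subgroup G) : Set G), (orderOf g).Coprime p →
        g ∈ Subgroup.centralizer (Cfsg.thompsonSubgroupAOf (S : Subgroup G) : Set G) := by
  set J := Cfsg.thompsonSubgroupAOf (S : Subgroup G) with hJ
  have hJS : J ≤ (S : Subgroup G) := map_subtype_le _
  constructor
  · intro hG g hg hcop
    obtain ⟨M, hMn, hMc, k, hk⟩ := Transfer.NormalPComplement.hasNormalPComplement_iff_exists.mp hG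
    have hgM : g ∈ M := by
      refine (QuotientGroup.eq_one_iff g).mp (orderOf_eq_one_iff.mp ?_)
      refine Nat.eq_one_of_dvd_coprimes (hcop.pow_right k) (orderOf_map_dvd (QuotientGroup.mk' M) g) ?_
      rw [← hk, index_eq_card]
      exact orderOf_dvd_natCard _
    refine mem_centralizer_iff.mpr fun j hj => (commutatorElement_eq_one_iff_mul_comm.mp ?_).symm
    have hmem : ⁅g, j⁆ ∈ J ⊓ M := by
      rw [commutatorElement_def]
      refine ⟨J.mul_mem ((mem_normalizer_iff.mp hg j).mp hj) (J.inv_mem hj), ?_⟩
      rw [mul_assoc, mul_assoc, ← mul_assoc j]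
      exact mul_mem hgM (hMn.conj_mem _ (inv_mem hgM) j)
    rwa [PLocal.Cores.inf_eq_bot_of_isPGroup_of_coprime (S.2.to_le hJS) hMc, mem_bot] at hmem
  · intro h
    have hCJ : (S : Subgroup G) ⊓ centralizer (J : Set G) ≤ J := by
      rintro x ⟨hxS, hxC⟩
      obtain ⟨A, hA⟩ := MaxAbelian.family_nonempty 0 (S : Subgroup G)
      have hAJ : A ≤ J := by rw [hJ, ThompsonTransfer.ja_eq_sSup]; exact le_sSup hA
      have hc : ∀ a ∈ A, a * x = x * a := fun a ha => hxC a (hAJ ha)
      have hg : MaxAbelian.Good 0 (A ⊔ zpowers x) := by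
        refine MaxAbelian.good_zero_iff.mpr (le_centralizer_iff_isMulCommutative.mp (sup_le
          (le_centralizer_iff.mp (sup_le (fun a ha b hb => hA.2.1.1 b hb a ha)
            (zpowers_le.mpr fun a ha => hc a ha))) (zpowers_le.mpr ?_)))
        refine fun y hy => ?_
        have : A ⊔ zpowers x ≤ centralizer ({x} : Set G) := sup_le
          (fun a ha => mem_centralizer_singleton_iff.mpr (hc a ha))
          (zpowers_le.mpr (mem_centralizer_singleton_iff.mpr rfl))
        exact mem_centralizer_singleton_iff.mp (this hy)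
      refine hAJ ?_
      rw [eq_of_le_of_card_ge (le_sup_left : A ≤ A ⊔ zpowers x)
        (hA.2.2 _ (sup_le hA.1 (zpowers_le.mpr hxS)) hg)]
      exact mem_sup_right (mem_zpowers x)
    have hSN : (S : Subgroup G) ≤ normalizer (J : Set G) := by
      have h1 := normalizer_le_functor
        (isConjugacyFunctor_induced (ThompsonTransfer.isCharPFunctor_ja (p := p))) (G := G) S.2
      exact le_normalizer.trans h1
    have hN := Techniques.KInf.hnc_of_coprime_centralize S hJS hSN hCJ h
    exact criterion_of_sections (ThompsonTransfer.isCharPFunctor_ja (p := p))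
      (fun K R _ S' => ThompsonTransfer.not_critical hp S') G (IsSec.refl G) S hN

end Cfsg.Agent.S3070
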