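import Cfsg.Statements.S3071
import Cfsg.Agent.Lib.PLocal.CenterLocal
import Cfsg.Agent.Lib.PLocal.ZJCenterFusion

set_option autoImplicit false
open Cfsg

namespace Cfsg.Agent.S3071

open Subgroup Cfsg.Agent.Techniques.Functor Cfsg.Agent.Techniques.SL2
open scoped MatrixGroups

universe u

theorem fc_zj {p : ℕ} [Fact p.Prime] {G : Type u} [Group G] [Finite G] (hp2 : p ≠ 2)
    (h : ¬ Involves ↥(qd p) G) : FC p {ZJFusion.zj.{u}} G := by
  have h𝓦 : ∀ V ∈ ({ZJFusion.zj.{u}} : Set (∀ (Q : Type u) [Group Q], Subgroup Q)),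
      IsCharPFunctor.{u} p V := by
    rintro V rfl
    exact ZJFusion.isCharPFunctor_zj
  refine fc_of_constrained (G := G) h𝓦 (fun H _ _ hsec hc T => ?_) G (IsSec.refl G)
  have hfree : ¬ Involves ↥(qd p) H := fun hQ => by
    obtain ⟨K, R, hR, ⟨e⟩⟩ := hsec.exists_quotient
    exact h (Qd.involves_quotient (K := K) (R := R) (Qd.involves_trans (L := ⊤)
      (e.toMonoidHom.comp (⊤ : Subgroup (↥K ⧸ R.subgroupOf K)).subtype)
      (fun y => ⟨⟨e.symm y, mem_top _⟩, e.apply_symm_apply y⟩) hQ))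
  have hn : (inducedFunctor (G := H) ZJFusion.zj.{u} (T : Subgroup H)).Normal := by
    rw [ZJFusion.induced_zj]; exact ZJFusion.zj_normal_of_free hp2 hfree hc T
  intro A g _ hA hc'
  refine Reach.single ?_ hc'
  rw [induced, Set.image_singleton, steps_singleton, SetLike.mem_coe, mem_inf,
    normalizer_eq_top_iff.mpr hn]
  exact ⟨mem_top g, mem_top g⟩

/-- An isomorphic copy of a `Qd(p)`-free group is `Qd(p)`-free. -/
theorem involves_equiv {H : Type*} [Group H] {A B : Type*} [Group A] [Group B] (e : A ≃* B)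
    (h : Involves H A) : Involves H B :=
  Qd.involves_trans (L := ⊤) (e.symm.toMonoidHom.comp (⊤ : Subgroup B).subtype)
    (fun y => ⟨⟨e y, mem_top _⟩, e.symm_apply_apply y⟩) h

/-- Let p be an odd prime and S a Sylow p-subgroup of the finite group G such that, for every subgroup P with Z(S) ≤ P ≤ S, the normalizer N_G(P) has no section isomorphic to SL₂(p). Let J(S) be the subgroup generated by the abelian subgroups of S of largest order. Then two elements of S are conjugate in G if and only if they are conjugate in N_G(Z(J(S))). -/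
theorem result {G : Type u} [Group G] [Finite G] {p : ℕ} [Fact p.Prime]
    (hp : p ≠ 2) (S : Sylow p G)
    (hfree : ∀ P : Subgroup G, (S : Subgroup G) ⊓ Subgroup.centralizer ((S : Subgroup G) : Set G) ≤ P → P ≤ S →
      ¬ ∃ (H K : Subgroup G) (hK : (K.subgroupOf H).Normal), H ≤ Subgroup.normalizer (P : Set G) ∧
        Nonempty ((H ⧸ K.subgroupOf H) ≃* Matrix.SpecialLinearGroup (Fin 2) (ZMod p))) :
    ∀ x ∈ S, ∀ y ∈ S, (∃ g : G, g * x * g⁻¹ = y) ↔
      ∃ n ∈ Subgroup.normalizer (Cfsg.centerThompsonAOf (S : Subgroup G) : Set G), n * x * n⁻¹ = y := by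
  intro x hx y hy
  refine ⟨fun ⟨g, hg⟩ => ?_, fun ⟨n, _, hn⟩ => ⟨n, hn⟩⟩
  have h𝓦 : ∀ V ∈ ({ZJFusion.zj.{u}} : Set (∀ (Q : Type u) [Group Q], Subgroup Q)),
      IsCharPFunctor.{u} p V := by
    rintro V rfl
    exact ZJFusion.isCharPFunctor_zj
  have h1 := PLocal.CenterLocal.fusionCtl_top_center S (isConjugacyFunctor_of_mem h𝓦)
    (selection_sylIn S) ?_ ?_ {x} g (mem_top g) (Set.singleton_subset_iff.mpr hx)
    (by rintro _ ⟨a, rfl, rfl⟩; exact (hg ▸ hy : g * a * g⁻¹ ∈ _))
  · rw [induced, Set.image_singleton, steps_singleton] at h1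
    obtain ⟨n, hn, he⟩ := Reach.exists_mem h1
    have hn' := (mem_inf.mp hn).2
    rw [ZJFusion.induced_zj] at hn'
    exact ⟨n, hn', (he x rfl).trans hg⟩
  · rintro w hw P hPS hZP z hz
    rw [induced, Set.image_singleton, Set.mem_singleton_iff] at hw
    subst hw
    refine ⟨⟨z, hZP hz⟩, ZJFusion.center_le_core (mem_center_iff.mpr fun b => Subtype.ext ?_), rfl⟩
    exact mem_centralizer_iff.mp hz.2 _ (hPS b.2)
  · rintro V hVS hne hsyl ⟨k, hkS, hkZ⟩
    refine fusionCtl_of_sub h𝓦 hsyl (fc_zj hp (PLocal.ZJCenterFusion.qd_free_of_sl_two_free ?_))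
    intro hI
    have e : ↥(normalizer (V : Set G)) ≃* ↥(normalizer (V.map (cnj k) : Set G)) :=
      ((normalizer (V : Set G)).equivMapOfInjective (cnj k) (MulAut.conj k).injective).trans
        (MulEquiv.subgroupCongr (Cfsg.Agent.Techniques.map_conj_normalizer k V))
    set N' := normalizer (V.map (cnj k) : Set G)
    obtain ⟨H, f, hf⟩ := Qd.exists_surj (involves_equiv e hI)
    let eH := (H.equivMapOfInjective N'.subtype N'.subtype_injective).symm
    let f' : ↥(H.map N'.subtype) →* SL(2, ZMod p) := f.comp eH.toMonoidHom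
    have hk : (f'.ker.map (H.map N'.subtype).subtype).subgroupOf (H.map N'.subtype) = f'.ker :=
      comap_map_eq_self_of_injective (Subtype.coe_injective) f'.ker
    have hn : ((f'.ker.map (H.map N'.subtype).subtype).subgroupOf (H.map N'.subtype)).Normal := by
      rw [hk]; infer_instance
    exact hfree (V.map (cnj k)) hkZ hkS ⟨H.map N'.subtype,
      f'.ker.map (H.map N'.subtype).subtype, hn, map_subtype_le _,
      ⟨(QuotientGroup.quotientMulEquivOfEq hk).trans
        (QuotientGroup.quotientKerEquivOfSurjective f' (hf.comp eH.surjective))⟩⟩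

end Cfsg.Agent.S3071
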