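import Cfsg.Statements.S3075
import Mathlib

set_option autoImplicit false
open Cfsg

namespace Cfsg.Agent.S3075

/-- Let p be an odd prime and N a finite group with a normal elementary abelian subgroup A of order p² that is its own centralizer in N, such that N/A is isomorphic to SL₂(p) (over any field F with p elements). Then N splits over A: some subgroup U of N satisfies A ∩ U = 1 and AU = N. -/
theorem result {N : Type*} [Group N] [Finite N] {p : ℕ} [Fact p.Prime] (hp : p ≠ 2)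
    (A : Subgroup N) [A.Normal] (hAcomm : IsMulCommutative A) (hAcard : Nat.card A = p ^ 2) (hAexp : Monoid.exponent ↥A = p)
    (hAself : Subgroup.centralizer (A : Set N) = A)
    {F : Type*} [Field F] [Fintype F] (hF : Fintype.card F = p) (e : N ⧸ A ≃* Matrix.SpecialLinearGroup (Fin 2) F) :
    ∃ U : Subgroup N, A ⊓ U = ⊥ ∧ A ⊔ U = ⊤ := by
  classical
  have hcommA : ∀ a ∈ A, ∀ b ∈ A, a * b = b * a := fun a ha b hb =>
    congrArg Subtype.val (hAcomm.is_comm.comm ⟨a, ha⟩ ⟨b, hb⟩)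
  have hApow : ∀ a ∈ A, a ^ p = 1 := fun a ha => by
    have h := Monoid.pow_exponent_eq_one (⟨a, ha⟩ : A)
    rw [hAexp] at h
    exact congrArg Subtype.val h
  obtain ⟨i, hi⟩ := (Fact.out : p.Prime).odd_of_ne_two hp
  have hsq : ∀ a ∈ A, a ^ 2 = 1 → a = 1 := fun a ha h2 => by
    have h := hApow a ha
    rwa [hi, pow_succ, pow_mul, h2, one_pow, one_mul] at h
  have h2F : (2 : F) ≠ 0 := by
    intro h
    have hr : ringChar F = 2 :=
      haveI := CharTwo.of_one_ne_zero_of_two_eq_zero (one_ne_zero : (1 : F) ≠ 0) h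
      ringChar.eq F 2
    have := FiniteField.even_card_of_char_two hr
    rw [hF, hi] at this
    omega
  -- an involution over `-1`
  obtain ⟨z0, hz0⟩ := QuotientGroup.mk'_surjective A (e.symm (-1))
  set π := QuotientGroup.mk' A with hπ
  have hπ1 : ∀ x : N, π x = 1 ↔ x ∈ A := fun x => QuotientGroup.eq_one_iff x
  have hne1 : (-1 : Matrix.SpecialLinearGroup (Fin 2) F) ≠ 1 := by
    intro h
    have h' := congrArg (fun s : Matrix.SpecialLinearGroup (Fin 2) F => s.1 0 0) h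
    have h'' : (-1 : F) = 1 := by simpa using h'
    exact h2F (by linear_combination (norm := ring_nf) h''.symm)
  set z := z0 ^ p with hzdef
  have hπz : π z = e.symm (-1) := by
    rw [hzdef, map_pow, hz0, ← map_pow]
    congr 1
    rw [hi, pow_succ, pow_mul, neg_one_sq, one_pow, one_mul]
  have hz2 : z ^ 2 = 1 := by
    rw [hzdef, ← pow_mul, mul_comm, pow_mul]
    refine hApow _ ((hπ1 _).mp ?_)
    rw [map_pow, hz0, ← map_pow, neg_one_sq, map_one]
  have hzA : z ∉ A := fun h => hne1 (by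
    have := (hπ1 z).mpr h
    rw [hπz, MulEquiv.map_eq_one_iff] at this
    exact this)
  have hzc : ∀ n : N, z⁻¹ * (n * z * n⁻¹) ∈ A := fun n => by
    rw [← hπ1, map_mul, map_mul, map_mul, map_inv, map_inv, hπz]
    apply e.injective
    simp only [map_mul, map_inv, MulEquiv.apply_symm_apply, map_one]
    rw [show e (π n) * -1 * (e (π n))⁻¹ = -1 by simp]
    simp
  have hconj : ∀ a ∈ A, z * a * z⁻¹ ∈ A := fun a ha => Subgroup.Normal.conj_mem inferInstance a ha z
  have hzn : ∀ n : N, ∀ a ∈ A, (n * z * n⁻¹) * a * (n * z * n⁻¹)⁻¹ = z * a * z⁻¹ := by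
    intro n a ha
    have h1 := hcommA _ (hzc n) a ha
    calc (n * z * n⁻¹) * a * (n * z * n⁻¹)⁻¹
        = z * ((z⁻¹ * (n * z * n⁻¹)) * a) * (z⁻¹ * (n * z * n⁻¹))⁻¹ * z⁻¹ := by group
      _ = z * (a * (z⁻¹ * (n * z * n⁻¹))) * (z⁻¹ * (n * z * n⁻¹))⁻¹ * z⁻¹ := by rw [h1]
      _ = z * a * z⁻¹ := by group
  -- the fixed and the inverted elements
  let W : Subgroup N :=
    { carrier := {a | a ∈ A ∧ z * a * z⁻¹ = a}
      one_mem' := ⟨one_mem _, by group⟩
      mul_mem' := fun {a b} ha hb => ⟨mul_mem ha.1 hb.1, by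
        rw [show z * (a * b) * z⁻¹ = (z * a * z⁻¹) * (z * b * z⁻¹) by group, ha.2, hb.2]⟩
      inv_mem' := fun {a} ha => ⟨inv_mem ha.1, by
        rw [show z * a⁻¹ * z⁻¹ = (z * a * z⁻¹)⁻¹ by group, ha.2]⟩ }
  let W' : Subgroup N :=
    { carrier := {a | a ∈ A ∧ z * a * z⁻¹ = a⁻¹}
      one_mem' := ⟨one_mem _, by group⟩
      mul_mem' := fun {a b} ha hb => ⟨mul_mem ha.1 hb.1, by
        rw [show z * (a * b) * z⁻¹ = (z * a * z⁻¹) * (z * b * z⁻¹) by group, ha.2, hb.2,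
          mul_inv_rev, hcommA _ (inv_mem ha.1) _ (inv_mem hb.1)]⟩
      inv_mem' := fun {a} ha => ⟨inv_mem ha.1, by
        rw [show z * a⁻¹ * z⁻¹ = (z * a * z⁻¹)⁻¹ by group, ha.2]⟩ }
  have hWn : ∀ n : N, ∀ a ∈ A, z * (n * a * n⁻¹) * z⁻¹ = n * (z * a * z⁻¹) * n⁻¹ := by
    intro n a ha
    have h := hzn n⁻¹ a ha
    calc z * (n * a * n⁻¹) * z⁻¹ = n * ((n⁻¹ * z * n⁻¹⁻¹) * a * (n⁻¹ * z * n⁻¹⁻¹)⁻¹) * n⁻¹ := by group
      _ = n * (z * a * z⁻¹) * n⁻¹ := by rw [h]
  have hfix : W = ⊥ := by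
    by_contra hW
    have hWA : W ≠ A := fun h => hzA (hAself.le (Subgroup.mem_centralizer_iff.mpr fun a ha => by
      have h1 : a ∈ W := h ▸ ha
      exact (mul_inv_eq_iff_eq_mul.mp h1.2).symm))
    have hW'A : W' ≠ A := fun h => hW (eq_bot_iff.mpr fun a ha => Subgroup.mem_bot.mpr (by
      have h1 : a ∈ W' := h ▸ ha.1
      refine hsq a ha.1 ?_
      rw [pow_two]
      nth_rewrite 1 [← ha.2]
      rw [h1.2, inv_mul_cancel]))
    have hcyc : ∀ X : Subgroup N, X ≤ A → X ≠ A → ∀ m n : N, (∀ x ∈ X, m * x * m⁻¹ ∈ X) →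
        (∀ x ∈ X, n * x * n⁻¹ ∈ X) → ∀ x ∈ X,
        m * (n * x * n⁻¹) * m⁻¹ = n * (m * x * m⁻¹) * n⁻¹ := by
      intro X hXA hXne m n hm hn x hx
      have hdvd : Nat.card X ∣ p ^ 2 := hAcard ▸ Subgroup.card_dvd_of_le hXA
      obtain ⟨k, hk, hcard⟩ := (Nat.dvd_prime_pow (Fact.out : p.Prime)).mp hdvd
      have hk1 : k ≤ 1 := by
        by_contra hk1
        have hk2 : k = 2 := by omega
        exact hXne (Subgroup.eq_of_le_of_card_ge hXA (by rw [hAcard, hcard, hk2]))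
      have : IsCyclic X := isCyclic_of_card_dvd_prime (p := p) (by
        rw [hcard]; exact (pow_dvd_pow p hk1).trans (pow_one p).dvd)
      obtain ⟨w, hw⟩ := IsCyclic.exists_generator (α := X)
      obtain ⟨r, hr⟩ := Subgroup.mem_zpowers_iff.mp (hw ⟨_, hm _ w.2⟩)
      obtain ⟨s, hs⟩ := Subgroup.mem_zpowers_iff.mp (hw ⟨_, hn _ w.2⟩)
      obtain ⟨t, ht⟩ := Subgroup.mem_zpowers_iff.mp (hw ⟨x, hx⟩)
      have hr' := congrArg Subtype.val hr
      have hs' := congrArg Subtype.val hs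
      have ht' := congrArg Subtype.val ht
      simp only [SubgroupClass.coe_zpow] at hr' hs' ht'
      have e1 : ∀ j : ℤ, m * (w : N) ^ j * m⁻¹ = (w : N) ^ (r * j) := fun j => by
        rw [← conj_zpow, ← hr', ← zpow_mul]
      have e2 : ∀ j : ℤ, n * (w : N) ^ j * n⁻¹ = (w : N) ^ (s * j) := fun j => by
        rw [← conj_zpow, ← hs', ← zpow_mul]
      rw [← ht', e2, e1, e1, e2]
      congr 1
      ring
    have hc : ∀ m n : N, π m * π n = π n * π m := by
      intro m n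
      rw [← map_mul, ← map_mul, ← mul_inv_eq_one, ← map_inv, ← map_mul, hπ1, ← hAself,
        Subgroup.mem_centralizer_iff]
      have hstab : ∀ g : N, (∀ x ∈ W, g * x * g⁻¹ ∈ W) ∧ (∀ x ∈ W', g * x * g⁻¹ ∈ W') := fun g =>
        ⟨fun x hx => ⟨Subgroup.Normal.conj_mem inferInstance x hx.1 g, by rw [hWn g x hx.1, hx.2]⟩,
          fun x hx => ⟨Subgroup.Normal.conj_mem inferInstance x hx.1 g, by
            rw [hWn g x hx.1, hx.2]; group⟩⟩
      set c := m * n * (n * m)⁻¹ with hc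
      have hfixc : ∀ x : N, x ∈ W ∨ x ∈ W' → c * x * c⁻¹ = x := by
        intro x hx
        have key : ∀ (X : Subgroup N), X ≤ A → X ≠ A → (∀ g : N, ∀ y ∈ X, g * y * g⁻¹ ∈ X) →
            x ∈ X → c * x * c⁻¹ = x := fun X hXA hXne hst hxX => by
          have hy : (n * m)⁻¹ * x * (n * m) ∈ X := by simpa using hst (n * m)⁻¹ x hxX
          have h := hcyc X hXA hXne m n (hst m) (hst n) _ hy
          calc c * x * c⁻¹ = m * (n * ((n * m)⁻¹ * x * (n * m)) * n⁻¹) * m⁻¹ := by rw [hc]; group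
            _ = x := by rw [h]; group
        rcases hx with hx | hx
        · exact key W (fun y hy => hy.1) hWA (fun g => (hstab g).1) hx
        · exact key W' (fun y hy => hy.1) hW'A (fun g => (hstab g).2) hx
      intro a ha
      have hb := hconj a ha
      have hzz : z * (z * a * z⁻¹) * z⁻¹ = a := by
        rw [show z * (z * a * z⁻¹) * z⁻¹ = z ^ 2 * a * (z ^ 2)⁻¹ by rw [pow_two]; group, hz2]
        group
      have h1 : a * (z * a * z⁻¹) ∈ W := ⟨mul_mem ha hb, by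
        rw [show z * (a * (z * a * z⁻¹)) * z⁻¹ = (z * a * z⁻¹) * (z * (z * a * z⁻¹) * z⁻¹) by group,
          hzz, hcommA _ ha _ hb]⟩
      have h2 : a * (z * a * z⁻¹)⁻¹ ∈ W' := ⟨mul_mem ha (inv_mem hb), by
        rw [show z * (a * (z * a * z⁻¹)⁻¹) * z⁻¹ = (z * a * z⁻¹) * (z * (z * a * z⁻¹) * z⁻¹)⁻¹ by group,
          hzz, mul_inv_rev, inv_inv]⟩
      have h3 : a ^ 2 = (a * (z * a * z⁻¹)) * (a * (z * a * z⁻¹)⁻¹) := by
        rw [hcommA a ha _ hb, pow_two, mul_assoc, ← mul_assoc a a,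
          hcommA (a * a) (mul_mem ha ha) _ (inv_mem hb), ← mul_assoc, mul_inv_cancel, one_mul]
      have h4 : c * a ^ 2 * c⁻¹ = a ^ 2 := by
        rw [h3, show ∀ u v : N, c * (u * v) * c⁻¹ = (c * u * c⁻¹) * (c * v * c⁻¹) from
          fun u v => by group, hfixc _ (Or.inl h1), hfixc _ (Or.inr h2)]
      have h5 : c * a * c⁻¹ = a := by
        have h6 : a = (a ^ 2) ^ (i + 1) := by
          rw [← pow_mul, show 2 * (i + 1) = p + 1 by omega, pow_succ, hApow a ha, one_mul]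
        rw [h6, ← conj_pow, h4]
      exact (mul_inv_eq_iff_eq_mul.mp h5).symm
    obtain ⟨m, hm⟩ := QuotientGroup.mk'_surjective A
      (e.symm ⟨!![1, 1; 0, 1], by simp [Matrix.det_fin_two]⟩)
    obtain ⟨n, hn⟩ := QuotientGroup.mk'_surjective A
      (e.symm ⟨!![1, 0; 1, 1], by simp [Matrix.det_fin_two]⟩)
    have h := hc m n
    have h0 := congrArg e h
    rw [hm, hn] at h0
    simp only [map_mul] at h0
    erw [e.apply_symm_apply, e.apply_symm_apply] at h0
    have h' := congrArg (fun s : Matrix.SpecialLinearGroup (Fin 2) F => s.1 0 0) h0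
    have hl : (!![1, 1; 0, 1] * !![1, 0; 1, (1 : F)] : Matrix (Fin 2) (Fin 2) F) 0 0 =
        (!![1, 0; 1, 1] * !![1, 1; 0, (1 : F)] : Matrix (Fin 2) (Fin 2) F) 0 0 := h'
    simp [Matrix.mul_apply, Fin.sum_univ_two] at hl
  -- the complement
  refine ⟨Subgroup.centralizer {z}, eq_bot_iff.mpr fun a ha => ?_, top_le_iff.mp fun n _ => ?_⟩
  · obtain ⟨haA, haz⟩ := Subgroup.mem_inf.mp ha
    rw [← hfix]
    exact ⟨haA, by rw [← Subgroup.mem_centralizer_singleton_iff.mp haz, mul_inv_cancel_right]⟩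
  · set a := z⁻¹ * (n * z * n⁻¹) with ha
    have haA : a ∈ A := hzc n
    have hinvol : z⁻¹ = z := inv_eq_of_mul_eq_one_right (by rw [← pow_two, hz2])
    have hza : z * a * z⁻¹ = a⁻¹ := by
      refine eq_inv_of_mul_eq_one_left ?_
      calc z * a * z⁻¹ * a = (n * z * n⁻¹) * (z⁻¹ * z⁻¹) * (n * z * n⁻¹) := by rw [ha]; group
        _ = n * (z * z) * n⁻¹ := by rw [show z⁻¹ * z⁻¹ = (z ^ 2)⁻¹ by rw [pow_two]; group, hz2]; group
        _ = 1 := by rw [← pow_two, hz2]; group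
    set b := a ^ i with hb
    have hbA : b ∈ A := pow_mem haA i
    have hzb : z * b * z⁻¹ = b⁻¹ := by rw [hb, ← conj_pow, hza, inv_pow]
    have hbb : b⁻¹ * b⁻¹ = a := by
      rw [hb, ← inv_pow, ← pow_add, ← two_mul]
      have := hApow a⁻¹ (inv_mem haA)
      rw [hi, pow_succ] at this
      rw [eq_inv_of_mul_eq_one_left this, inv_inv]
    have hconjb : b * z * b⁻¹ = n * z * n⁻¹ := by
      calc b * z * b⁻¹ = z * (z⁻¹ * b * z) * b⁻¹ := by group
        _ = z * (z * b * z⁻¹) * b⁻¹ := by rw [hinvol]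
        _ = z * (b⁻¹ * b⁻¹) := by rw [hzb, mul_assoc]
        _ = n * z * n⁻¹ := by rw [hbb, ha, mul_inv_cancel_left]
    have hmem : b⁻¹ * n ∈ Subgroup.centralizer {z} := by
      rw [Subgroup.mem_centralizer_singleton_iff]
      calc b⁻¹ * n * z = b⁻¹ * (n * z * n⁻¹) * n := by group
        _ = b⁻¹ * (b * z * b⁻¹) * n := by rw [hconjb]
        _ = z * (b⁻¹ * n) := by group
    have := Subgroup.mul_mem (A ⊔ Subgroup.centralizer {z}) (Subgroup.mem_sup_left hbA) (Subgroup.mem_sup_right hmem)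
    rwa [mul_inv_cancel_left] at this

end Cfsg.Agent.S3075
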