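import Cfsg.Statements.S3076
import Cfsg.Agent.Lib.PLocal.PSolvable
import Cfsg.Agent.Lib.Cores.Subnormal

set_option autoImplicit false
open Cfsg

namespace Cfsg.Agent.S3076

open Subgroup Cfsg.Agent.PLocal Cfsg.Agent.PLocal.Cores

variable {M : Type*} [Group M] [Finite M] {p : ℕ} [hp : Fact p.Prime]

theorem isPGroup_map_mk {K L : Subgroup M} [K.Normal] {k : ℕ} (h : K.relIndex L ∣ p ^ k) :
    IsPGroup p (L.map (QuotientGroup.mk' K)) := by
  rw [← QuotientGroup.ker_mk' K, relIndex_ker] at h
  obtain ⟨j, -, hj⟩ := (Nat.dvd_prime_pow hp.out).mp h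
  exact IsPGroup.of_card hj

theorem core_iff {H C : Subgroup M} [H.Normal] [C.Normal] (hC : C = centralizer (H : Set M))
    (R : Sylow p M) (hHR : H ≤ R) :
    (H ≤ (pCore p (M ⧸ C)).comap (QuotientGroup.mk' C) ∧
      ¬ p ∣ H.relIndex ((pCore p (M ⧸ C)).comap (QuotientGroup.mk' C))) ↔
    ((R : Subgroup M) ⊓ C ≤ H ∧ pPrimePCore p M = H ⊔ C) := by
  set W := (pCore p (M ⧸ C)).comap (QuotientGroup.mk' C) with hW
  set K := pPrimeCore p M
  set O := pPrimePCore p M with hO
  have hHp : IsPGroup p H := R.isPGroup'.to_le hHR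
  have hHW : H ≤ W := by
    have : (H.map (QuotientGroup.mk' C)).Normal :=
      Normal.map inferInstance _ (QuotientGroup.mk'_surjective _)
    exact map_le_iff_le_comap.mp (le_pCore (hHp.map _))
  have hCW : C ≤ W := (QuotientGroup.ker_mk' C).symm.trans_le (ker_le_comap _ _)
  have : W.Normal := by rw [hW]; infer_instance
  have hWC : ∃ k, C.relIndex W = p ^ k := by
    obtain ⟨k, hk⟩ := (isPGroup_pCore (p := p) (G := M ⧸ C)).exists_card_eq
    refine ⟨k, ?_⟩
    have h := relIndex_ker (K := W) (QuotientGroup.mk' C)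
    rw [QuotientGroup.ker_mk'] at h
    rw [h, hW, map_comap_eq_self_of_surjective (QuotientGroup.mk'_surjective _), hk]
  have hKC : K ≤ C := by
    rw [hC]
    intro x hx
    rw [mem_centralizer_iff]
    intro h hh
    exact commute_of_normal_of_disjoint H K inferInstance inferInstance
      (disjoint_iff.mpr (inf_eq_bot_of_isPGroup_of_coprime hHp coprime_card_pPrimeCore)) h x hh hx
  obtain ⟨a, ha⟩ := relIndex_pPrimePCore (p := p) (G := M)
  -- if `R ⊓ C ≤ H` then the centralizer is `p`-nilpotent
  have key : (R : Subgroup M) ⊓ C ≤ H → (¬ p ∣ H.relIndex C) ∧ (∃ k, K.relIndex C = p ^ k) := by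
    intro hRC
    have hd : ¬ p ∣ H.relIndex C := fun h => by
      refine Cfsg.Agent.Cores.sylow_subgroupOf_isSubnormal R
        (A := C) (Subgroup.Normal.isSubnormal inferInstance) (h.trans ?_)
      rw [← relIndex, ← inf_relIndex_right H C, ← inf_relIndex_right (R : Subgroup M) C]
      exact relIndex_dvd_of_le_left C (le_inf hRC inf_le_right)
    refine ⟨hd, ?_⟩
    have hZ : H.subgroupOf C ≤ center C := fun x hx => mem_center_iff.mpr fun y => Subtype.ext (by
      have := y.2
      simp only [hC, mem_centralizer_iff] at this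
      exact (this x hx).symm)
    obtain ⟨P, D, hD, hcompl⟩ := PSolvable.hasNormalPComplement_of_central hZ
      (hHp.comap_of_injective _ C.subtype_injective) hd
    obtain ⟨b, hb⟩ := P.isPGroup'.exists_card_eq
    have hDi : D.index = p ^ b := hb ▸ hcompl.symm.index_eq_card
    have hDc : (Nat.card D).Coprime p := by
      refine (Nat.Coprime.symm (hp.out.coprime_iff_not_dvd.mpr fun h => ?_))
      have := P.not_dvd_index
      rw [hcompl.index_eq_card] at this
      exact this h
    have hDK : D.map C.subtype ≤ K :=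
      (Subgroup.map_mono (Cores.le_pPrimeCore hDc)).trans (map_subtype_pPrimeCore_le C)
    have : K.relIndex C ∣ p ^ b := by
      refine dvd_trans (relIndex_dvd_of_le_left C hDK) ?_
      rw [← hDi, ← relIndex_top_right D]
      have := relIndex_map_map_of_injective D ⊤ C.subtype_injective
      rw [← MonoidHom.range_eq_map, range_subtype] at this
      rw [this]
    obtain ⟨k, -, hk⟩ := (Nat.dvd_prime_pow hp.out).mp this
    exact ⟨k, hk⟩
  have hHO : H ≤ O := le_pPrimePCore (hHp.map _)
  constructor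
  · rintro ⟨-, hd⟩
    have hRW : (R : Subgroup M) ⊓ W ≤ H := by
      rw [← relIndex_eq_one]
      obtain ⟨b, hb⟩ := (R.isPGroup'.to_le (inf_le_left (b := W))).exists_card_eq
      have h1 : H.relIndex ((R : Subgroup M) ⊓ W) ∣ p ^ b := hb ▸ relIndex_dvd_card _ _
      have h2 : H.relIndex ((R : Subgroup M) ⊓ W) ∣ H.relIndex W :=
        PSolvable.relIndex_dvd_of_le_right inf_le_right
      exact Nat.eq_one_of_dvd_coprimes ((hp.out.coprime_iff_not_dvd.mpr hd).pow_left b) h1 h2
    have hRC : (R : Subgroup M) ⊓ C ≤ H := (inf_le_inf_left _ hCW).trans hRW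
    refine ⟨hRC, le_antisymm ?_ (sup_le hHO (le_pPrimePCore ?_))⟩
    · have hWHC : W ≤ H ⊔ C := by
        rw [← relIndex_eq_one]
        obtain ⟨k, hk⟩ := hWC
        exact Nat.eq_one_of_dvd_coprimes ((hp.out.coprime_iff_not_dvd.mpr hd).pow_left k)
          (hk ▸ relIndex_dvd_of_le_left W (le_sup_right (a := H)))
          (relIndex_dvd_of_le_left W (le_sup_left (b := C)))
      refine le_trans ?_ hWHC
      have : (O.map (QuotientGroup.mk' C)).Normal :=
        Normal.map (by rw [hO]; unfold pPrimePCore; infer_instance) _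
          (QuotientGroup.mk'_surjective _)
      exact map_le_iff_le_comap.mp
        (le_pCore (isPGroup_map_mk (k := a) (ha ▸ relIndex_dvd_of_le_left O hKC)))
    · obtain ⟨k, hk⟩ := (key hRC).2
      exact isPGroup_map_mk hk.dvd
  · rintro ⟨hRC, hOeq⟩
    refine ⟨hHW, ?_⟩
    obtain ⟨hd, k, hk⟩ := key hRC
    obtain ⟨j, hj⟩ := hWC
    have hWO : W ≤ O := le_pPrimePCore (isPGroup_map_mk (k := k + j) (by
      rw [← relIndex_mul_relIndex K C W hKC hCW, hk, hj, pow_add]))
    have hWeq : W = C ⊔ H := le_antisymm (by rw [sup_comm, ← hOeq]; exact hWO) (sup_le hCW hHW)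
    rw [hWeq, relIndex_sup_right]
    exact hd

end Cfsg.Agent.S3076

namespace Cfsg.Agent.S3076

/-- Let P be a Sylow p-subgroup of the finite group G and H ≤ P a subgroup with N_P(H) a Sylow p-subgroup of N_G(H). Let N be the preimage in N_G(H) of O_p(N_G(H)/C_G(H)). Then H is a Sylow p-subgroup of N if and only if C_P(H) ≤ H and O_{p',p}(N_G(H)) = H·C_G(H). -/
theorem result {G : Type*} [Group G] [Finite G] {p : ℕ} [Fact p.Prime]
    (P : Sylow p G) (H : Subgroup G) (hHP : H ≤ (P : Subgroup G))
    (hSyl : ¬ p ∣ ((P : Subgroup G) ⊓ Subgroup.normalizer (H : Set G)).relIndex (Subgroup.normalizer (H : Set G)))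
    [hC : ((Subgroup.centralizer (H : Set G)).subgroupOf (Subgroup.normalizer (H : Set G))).Normal] :
    (H ≤ ((Cfsg.pCore p (↥(Subgroup.normalizer (H : Set G)) ⧸
              (Subgroup.centralizer (H : Set G)).subgroupOf (Subgroup.normalizer (H : Set G)))).comap
            (QuotientGroup.mk' _)).map (Subgroup.normalizer (H : Set G)).subtype ∧
      ¬ p ∣ H.relIndex (((Cfsg.pCore p (↥(Subgroup.normalizer (H : Set G)) ⧸
              (Subgroup.centralizer (H : Set G)).subgroupOf (Subgroup.normalizer (H : Set G)))).comap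
            (QuotientGroup.mk' _)).map (Subgroup.normalizer (H : Set G)).subtype)) ↔
    ((P : Subgroup G) ⊓ Subgroup.centralizer (H : Set G) ≤ H ∧
      (Cfsg.pPrimePCore p ↥(Subgroup.normalizer (H : Set G))).map (Subgroup.normalizer (H : Set G)).subtype =
        H ⊔ Subgroup.centralizer (H : Set G)) := by
  classical
  have hp := (Fact.out : p.Prime)
  set N := Subgroup.normalizer (H : Set G) with hN
  set C := (Subgroup.centralizer (H : Set G)).subgroupOf N with hCdef
  have hHN : H ≤ N := Subgroup.le_normalizer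
  set H' := H.subgroupOf N with hH'
  have : H'.Normal := Subgroup.normal_subgroupOf_of_le_normalizer le_rfl
  let R : Sylow p N := IsPGroup.toSylow (P := ((P : Subgroup G) ⊓ N).comap N.subtype)
    ((P.isPGroup'.to_le inf_le_left).comap_of_injective _ N.subtype_injective) hSyl
  have hHR : H' ≤ (R : Subgroup N) := Subgroup.comap_mono (le_inf hHP hHN)
  have hC : C = Subgroup.centralizer (H' : Set N) := by
    ext x
    simp only [hCdef, hH', Subgroup.mem_subgroupOf, Subgroup.mem_centralizer_iff, SetLike.mem_coe]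
    constructor
    · exact fun h y hy => Subtype.ext (h y hy)
    · exact fun h y hy => congrArg Subtype.val (h ⟨y, hHN hy⟩ hy)
  have key := core_iff (p := p) hC R hHR
  set W := (Cfsg.pCore p (↥N ⧸ C)).comap (QuotientGroup.mk' C) with hW
  have hmapH : H'.map N.subtype = H := by
    rw [hH', Subgroup.subgroupOf_map_subtype, inf_eq_left.mpr hHN]
  have hmapC : C.map N.subtype = Subgroup.centralizer (H : Set G) := by
    rw [hCdef, Subgroup.subgroupOf_map_subtype,
      inf_eq_left.mpr (Subgroup.centralizer_le_normalizer _)]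
  have e1 : H ≤ W.map N.subtype ↔ H' ≤ W := by
    conv_lhs => rw [← hmapH]
    exact Subgroup.map_le_map_iff_of_injective N.subtype_injective
  have e2 : H.relIndex (W.map N.subtype) = H'.relIndex W := by
    conv_lhs => rw [← hmapH]
    exact Subgroup.relIndex_map_map_of_injective _ _ N.subtype_injective
  have e3 : (P : Subgroup G) ⊓ Subgroup.centralizer (H : Set G) ≤ H ↔ (R : Subgroup N) ⊓ C ≤ H' := by
    constructor
    · exact fun h x hx => h ⟨(hx.1 : (x : G) ∈ (P : Subgroup G) ⊓ N).1, hx.2⟩
    · intro h x hx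
      have hxN : x ∈ N := Subgroup.centralizer_le_normalizer _ hx.2
      exact h (show (⟨x, hxN⟩ : N) ∈ (R : Subgroup N) ⊓ C from
        ⟨(⟨hx.1, hxN⟩ : x ∈ (P : Subgroup G) ⊓ N), hx.2⟩)
  have e4 : ((Cfsg.pPrimePCore p ↥N).map N.subtype = H ⊔ Subgroup.centralizer (H : Set G)) ↔
      Cfsg.pPrimePCore p ↥N = H' ⊔ C := by
    rw [show H ⊔ Subgroup.centralizer (H : Set G) = (H' ⊔ C).map N.subtype by
      rw [Subgroup.map_sup, hmapH, hmapC]]
    exact (Subgroup.map_injective N.subtype_injective).eq_iff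
  rw [e1, e2, e3, e4]
  exact key

end Cfsg.Agent.S3076
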