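import Cfsg.Statements.S3077
import Cfsg.Agent.Lib.FFourLocal.Assemble
import Cfsg.Agent.Lib.FFourLocal.Cent.Coords
import Cfsg.Agent.Lib.FFourLocal.Glue3.Main

set_option autoImplicit false
open Cfsg

namespace Cfsg.Agent.S3077

/-- Let G be a finite group and Z a subgroup of order 3 whose centralizer X has Q = F*(X) extraspecial of order 3⁵ with Z(Q) = Z(X), and X/Q possessing a normal subgroup isomorphic to Q₈ × Q₈. If some conjugate of Z other than Z lies in Q, then G is isomorphic to the Chevalley group F₄(2) or to its automorphism group. -/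
theorem result {G : Type*} [Group G] [Finite G] (Z : Subgroup G) (hZ3 : Nat.card ↥Z = 3)
    (hQ : Cfsg.IsExtraspecial 3 ↥(Cfsg.generalizedFittingSubgroup ↥(Subgroup.centralizer (Z : Set G)))) (hQord : Nat.card ↥(Cfsg.generalizedFittingSubgroup ↥(Subgroup.centralizer (Z : Set G))) = 3 ^ 5)
    (hZQ : Subgroup.center ↥(Cfsg.generalizedFittingSubgroup ↥(Subgroup.centralizer (Z : Set G))) = (Subgroup.center ↥(Subgroup.centralizer (Z : Set G))).subgroupOf (Cfsg.generalizedFittingSubgroup ↥(Subgroup.centralizer (Z : Set G))))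
    (hN : ∃ _ : (Cfsg.generalizedFittingSubgroup ↥(Subgroup.centralizer (Z : Set G))).Normal, ∃ N : Subgroup (↥(Subgroup.centralizer (Z : Set G)) ⧸ Cfsg.generalizedFittingSubgroup ↥(Subgroup.centralizer (Z : Set G))),
      N.Normal ∧ Nonempty (↥N ≃* QuaternionGroup 2 × QuaternionGroup 2))
    (hnwc : ∃ g : G, Z.map (MulAut.conj g).toMonoidHom ≠ Z ∧
      Z.map (MulAut.conj g).toMonoidHom ≤ (Cfsg.generalizedFittingSubgroup ↥(Subgroup.centralizer (Z : Set G))).map (Subgroup.centralizer (Z : Set G)).subtype)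
    {F : Type*} [Field F] [Fintype F] (hF : Fintype.card F = 2) :
    Nonempty (G ≃* ↥(Cfsg.Lie.chevF4.group F)) ∨ Nonempty (G ≃* MulAut ↥(Cfsg.Lie.chevF4.group F)) := by
  exact FFourLocal.assemble
    (fun _ _ _ _ _ _ _ _ _ _ _ _ _ D => FFourLocal.exists_six_of_local D)
    (fun _ _ _ _ _ _ _ _ _ _ _ _ _ _ _ D hφ hψ => FFourLocal.exists_ct D hφ hψ)
    Z hZ3 hQ hQord hZQ hN hnwc hF

end Cfsg.Agent.S3077
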