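import Cfsg.Statements.S3078
import Cfsg.Agent.S0649
import Cfsg.Agent.Lib.PLocal.GlaubermanReplacement

set_option autoImplicit false
open Cfsg

namespace Cfsg.Agent.S3078

open Subgroup
open scoped commutatorElement

/-- The elements of `A` killed by `p`, for abelian `A`. -/
def tors {G : Type*} [Group G] (p : ℕ) {A : Subgroup G} (hA : ∀ a ∈ A, ∀ b ∈ A, a * b = b * a) :
    Subgroup G where
  carrier := {x | x ∈ A ∧ x ^ p = 1}
  one_mem' := ⟨one_mem _, one_pow _⟩
  mul_mem' := fun {a b} ha hb => ⟨mul_mem ha.1 hb.1, by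
    rw [Commute.mul_pow (hA a ha.1 b hb.1), ha.2, hb.2, one_mul]⟩
  inv_mem' := fun {a} ha => ⟨inv_mem ha.1, by rw [inv_pow, ha.2, inv_one]⟩

theorem omegaOne_eq {G : Type*} [Group G] (p : ℕ) {A : Subgroup G}
    (hA : ∀ a ∈ A, ∀ b ∈ A, a * b = b * a) : Cfsg.omegaOne p A = tors p hA :=
  le_antisymm ((closure_le _).mpr fun _ hx => hx) fun _ hx => subset_closure hx

/-- The elements of order `p` of `A` inject into those of the replacement, modulo the common part. -/
theorem omega_star {S : Type*} [Group S] [Finite S] {p : ℕ} [Fact p.Prime] (hp : p ≠ 2)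
    {A B : Subgroup S} [hBn : B.Normal] (hA : ∀ x ∈ A, ∀ y ∈ A, x * y = y * x) (hBA : ⁅B, B⁆ ≤ A)
    {b : S} (hb : b ∈ B) (hbN : b ∈ normalizer ((normalizer (A : Set S)) : Set S))
    (hT : IsMulCommutative (Cfsg.Agent.PLocal.GlaubermanReplacement.star A b)) :
    Nat.card (Cfsg.omegaOne p A) ≤
      Nat.card (Cfsg.omegaOne p (Cfsg.Agent.PLocal.GlaubermanReplacement.star A b)) := by
  classical
  set N := normalizer (A : Set S)
  set T := Cfsg.Agent.PLocal.GlaubermanReplacement.star A b with hTdef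
  have hTc : ∀ x ∈ T, ∀ y ∈ T, x * y = y * x := fun x hx y hy =>
    congrArg Subtype.val (hT.is_comm.comm ⟨x, hx⟩ ⟨y, hy⟩)
  rw [omegaOne_eq p hA, omegaOne_eq p hTc]
  set c := b⁻¹ with hc
  have hcB : c ∈ B := inv_mem hb
  set A2 := A.map (MulAut.conj c).toMonoidHom with hA2
  set I := A ⊓ A2 with hI
  have hIT : I ≤ T := le_sup_left
  have hA2N : A2 ≤ N := by
    rintro _ ⟨a, ha, rfl⟩
    exact (mem_normalizer_iff.mp (inv_mem hbN) a).mp (le_normalizer ha)
  have hA2c : ∀ x ∈ A2, ∀ y ∈ A2, x * y = y * x := by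
    rintro _ ⟨x, hx, rfl⟩ _ ⟨y, hy, rfl⟩; rw [← map_mul, hA x hx y hy, map_mul]
  have hNA2 : ∀ n ∈ N, ∀ x ∈ A2, n * x * n⁻¹ ∈ A2 := by
    rintro n hn _ ⟨a, ha, rfl⟩
    have hn' : c⁻¹ * n * c ∈ N := by
      simpa [hc] using (mem_normalizer_iff.mp hbN n).mp hn
    refine ⟨_, (mem_normalizer_iff.mp hn' a).mp ha, ?_⟩
    simp only [MulEquiv.coe_toMonoidHom, MulAut.conj_apply]; group
  have hmem2 : ∀ a ∈ A, c * a * c⁻¹ ∈ A2 := fun a ha => ⟨a, ha, rfl⟩
  -- commutators between the two conjugates lie in the central part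
  have hk : ∀ x ∈ A2, ∀ a ∈ A, x * a * x⁻¹ * a⁻¹ ∈ I := fun x hx a ha => by
    refine mem_inf.mpr ⟨mul_mem ((mem_normalizer_iff.mp (hA2N hx) a).mp ha) (inv_mem ha), ?_⟩
    rw [show x * a * x⁻¹ * a⁻¹ = x * (a * x⁻¹ * a⁻¹) by group]
    exact mul_mem hx (hNA2 a (le_normalizer ha) _ (inv_mem hx))
  set r : S → S := fun a => (c * a * c⁻¹) * a⁻¹ with hr
  have hrT : ∀ a ∈ A, r a ∈ T := fun a ha => by
    refine mem_sup_right ?_
    have : r a = (a * b⁻¹ * a⁻¹ * b)⁻¹ := by simp only [hr, hc]; group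
    rw [this]
    exact inv_mem (subset_closure ⟨a, ha, rfl⟩)
  have hrI : ∀ a ∈ A, r a ∈ A → a ∈ I := by
    intro a ha hra
    have h1 : c * a * c⁻¹ ∈ I := mem_inf.mpr ⟨by simpa [hr] using mul_mem hra ha, hmem2 a ha⟩
    have hB : r a ∈ B := by
      rw [hr]; simp only
      rw [show c * a * c⁻¹ * a⁻¹ = c * (a * c⁻¹ * a⁻¹) by group]
      exact mul_mem hcB (hBn.conj_mem _ (inv_mem hcB) a)
    have h2 : r a ∈ I := by
      refine mem_inf.mpr ⟨hra, c⁻¹ * r a * c, ?_, ?_⟩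
      · have : c⁻¹ * r a * c = r a * ⁅(r a)⁻¹, c⁻¹⁆ := by simp only [commutatorElement_def]; group
        rw [this]
        exact mul_mem hra (hBA (commutator_mem_commutator (inv_mem hB) (inv_mem hcB)))
      · simp only [MulEquiv.coe_toMonoidHom, MulAut.conj_apply]; group
    have h3 := mul_mem (inv_mem h2) h1
    simpa [hr, mul_assoc] using h3
  have hrpow : ∀ a ∈ A, a ^ p = 1 → r a ^ p = 1 := by
    intro a ha hap
    set k := ⁅a⁻¹, c * a * c⁻¹⁆ with hkdef
    have hkI : k ∈ I := by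
      rw [hkdef, ← commutatorElement_inv, commutatorElement_def]
      exact inv_mem (hk _ (hmem2 a ha) _ (inv_mem ha))
    have hk1 : Commute k a⁻¹ := hA _ (mem_inf.mp hkI).1 _ (inv_mem ha)
    have hk2 : Commute k (c * a * c⁻¹) := hA2c _ (mem_inf.mp hkI).2 _ (hmem2 a ha)
    have hu : (c * a * c⁻¹) ^ p = 1 := by rw [conj_pow, hap]; group
    have hkp : k ^ p = 1 := by
      have h1 : ∀ m : ℕ, a⁻¹ * (c * a * c⁻¹) ^ m * a⁻¹⁻¹ = k ^ m * (c * a * c⁻¹) ^ m := fun m => by
        rw [← conj_pow, show a⁻¹ * (c * a * c⁻¹) * a⁻¹⁻¹ = k * (c * a * c⁻¹) by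
          rw [hkdef, commutatorElement_def]; group, hk2.mul_pow]
      have h2 := h1 p
      rw [hu, mul_one, mul_one, mul_inv_cancel] at h2
      exact h2.symm
    have hmp := Cfsg.Agent.OddLocal.Coprime.mul_pow_of_central_commutator (u := c * a * c⁻¹)
      (v := a⁻¹) (c := k) (by rw [hkdef, commutatorElement_def]; group) hk2 hk1 p
    show (c * a * c⁻¹ * a⁻¹) ^ p = 1
    rw [hmp, hu, inv_pow, hap]
    obtain ⟨m, hm⟩ := (Fact.out : p.Prime).odd_of_ne_two hp
    have hch : p.choose 2 = p * m := by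
      rw [Nat.choose_two_right, hm, Nat.add_sub_cancel, ← mul_assoc, mul_comm (2 * m + 1) 2,
        mul_assoc, Nat.mul_div_cancel_left _ (by norm_num)]
    rw [hch, pow_mul, hkp]
    simp
  -- the comparison
  have : (I.subgroupOf T).Normal := ⟨fun x hx g => by
    have e : g * x * g⁻¹ = x := by
      apply Subtype.ext
      simp only [Subgroup.coe_mul, Subgroup.coe_inv]
      rw [hTc g g.2 x x.2, mul_inv_cancel_right]
    rwa [e]⟩
  set q := QuotientGroup.mk' (I.subgroupOf T) with hq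
  set Ap := tors p hA with hAp
  set Tp := tors p hTc with hTp
  let ψ : Ap →* (↥T ⧸ I.subgroupOf T) := MonoidHom.mk' (fun a => q ⟨r a, hrT a a.2.1⟩) (fun a d => by
    rw [← map_mul]
    refine (QuotientGroup.eq).mpr ?_
    rw [mem_subgroupOf]
    simp only [Subgroup.coe_mul, Subgroup.coe_inv, hr]
    have hx := hmem2 d d.2.1
    have h := hk _ hx a a.2.1
    have hcom : (a : S) * d = d * a := hA a a.2.1 d d.2.1
    have hi : c * (d : S) * c⁻¹ * (d : S)⁻¹ ∈ T := hrT d d.2.1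
    have hI2 : ∀ i ∈ I, ∀ y ∈ T, i * y = y * i := fun i hi y hy => hTc i (hIT hi) y hy
    have h' : (a : S) * (c * d * c⁻¹)⁻¹ * (a : S)⁻¹ * (c * d * c⁻¹) ∈ I := by
      have := inv_mem (hk _ (inv_mem hx) a a.2.1)
      simpa [mul_assoc] using this
    have e : (c * ((a : S) * d) * c⁻¹ * ((a : S) * d)⁻¹)⁻¹ *
        (c * a * c⁻¹ * (a : S)⁻¹ * (c * d * c⁻¹ * (d : S)⁻¹)) =
        (a : S) * (c * d * c⁻¹)⁻¹ * (a : S)⁻¹ * (c * d * c⁻¹) := by
      calc _ = ((a : S) * d) * (c * d * c⁻¹)⁻¹ * (a : S)⁻¹ * (c * d * c⁻¹) * (d : S)⁻¹ := by group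
        _ = (d : S) * ((a : S) * (c * d * c⁻¹)⁻¹ * (a : S)⁻¹ * (c * d * c⁻¹)) * (d : S)⁻¹ := by
            rw [hcom]; group
        _ = _ := by rw [hA _ d.2.1 _ (mem_inf.mp h').1, mul_inv_cancel_right]
    rw [e]
    exact h')
  have hker : (ψ.ker.map Ap.subtype) ≤ Ap ⊓ I := by
    rintro _ ⟨a, ha, rfl⟩
    refine mem_inf.mpr ⟨a.2, hrI _ a.2.1 ?_⟩
    have h1 := (QuotientGroup.eq_one_iff _).mp ha
    exact (mem_inf.mp (mem_subgroupOf.mp h1)).1
  set Tp' := Tp.subgroupOf T with hTp'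
  have hrange : ψ.range ≤ Tp'.map q := by
    rintro _ ⟨a, rfl⟩
    exact ⟨⟨r a, hrT a a.2.1⟩, ⟨hrT a a.2.1, hrpow a a.2.1 a.2.2⟩, rfl⟩
  let φ : Tp' →* Tp'.map q := q.subgroupMap Tp'
  have hTle : Tp ≤ T := fun x hx => hx.1
  have hkφ : Nat.card ↥(Ap ⊓ I) ≤ Nat.card φ.ker := by
    let f : ↥(Ap ⊓ I) → φ.ker := fun x =>
      ⟨⟨⟨x, hIT (mem_inf.mp x.2).2⟩, ⟨hIT (mem_inf.mp x.2).2, (mem_inf.mp x.2).1.2⟩⟩,
        MonoidHom.mem_ker.mpr (Subtype.ext ((QuotientGroup.eq_one_iff _).mpr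
          (mem_subgroupOf.mpr (mem_inf.mp x.2).2)))⟩
    exact Nat.card_le_card_of_injective f fun x y h => Subtype.ext (by
      exact congrArg (fun z : φ.ker => (((z : Tp') : T) : S)) h)
  calc Nat.card Ap = Nat.card ψ.ker * ψ.ker.index := (ψ.ker.card_mul_index).symm
    _ = Nat.card ψ.ker * Nat.card ψ.range := by rw [Subgroup.index_ker]
    _ ≤ Nat.card φ.ker * Nat.card (Tp'.map q) := by
        refine Nat.mul_le_mul ?_ (card_le_of_le hrange)
        refine le_trans ?_ hkφ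
        rw [← card_map_of_injective (K := ψ.ker) Ap.subtype_injective]
        exact card_le_of_le hker
    _ = Nat.card φ.ker * φ.ker.index := by
        rw [Subgroup.index_ker, MonoidHom.range_eq_top.mpr (q.subgroupMap_surjective Tp')]
        rw [Subgroup.card_top]
    _ = Nat.card Tp' := φ.ker.card_mul_index
    _ = Nat.card Tp := Nat.card_congr (subgroupOfEquivOfLe hTle).toEquiv


/-- A replacement Theorem for abelian subgroups of p-groups, p odd. Let G be a finite p-group with p odd, A an abelian subgroup of G, and B a subgroup of nilpotency class at most 2 with [B, B] ≤ A, such that A normalizes B but B does not normalize A. Then there is an abelian subgroup A* of G of the same order as A with A ∩ B strictly contained in A* ∩ B, A* contained in N_G(A) and in the normal closure of A, the exponent of A* dividing the exponent of A, and with the subgroup generated by the elements of order dividing p in A of order at most that of the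 corresponding subgroup of A* (the rank of A is at most the rank of A*). -/
theorem result {G : Type*} [Group G] [Finite G] {p : ℕ} [Fact p.Prime] (hp : p ≠ 2) (hG : IsPGroup p G) (A B : Subgroup G) (hA : IsMulCommutative A) (hB2 : ⁅⁅B, B⁆, B⁆ = ⊥) (hBA : ⁅B, B⁆ ≤ A) (hAB : A ≤ Subgroup.normalizer (B : Set G)) (hBnA : ¬ B ≤ Subgroup.normalizer (A : Set G)) : ∃ Astar : Subgroup G, IsMulCommutative Astar ∧ Nat.card Astar = Nat.card A ∧ A ⊓ B < Astar ⊓ B ∧ Astar ≤ Subgroup.normalizer (A : Set G) ∧ Astar ≤ Subgroup.normalClosure (A : Set G) ∧ Monoid.exponent Astar ∣ Monoid.exponent A ∧ Nat.card (Cfsg.omegaOne p A) ≤ Nat.card (Cfsg.omegaOne p Astar) := by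
  set L := A ⊔ B with hL
  have hAL : A ≤ L := le_sup_left
  have hBL : B ≤ L := le_sup_right
  set A₀ := A.subgroupOf L with hA₀
  set B₀ := B.subgroupOf L with hB₀
  have hinj := L.subtype_injective
  have hA' : A₀.map L.subtype = A := map_subgroupOf_eq_of_le hAL
  have hB' : B₀.map L.subtype = B := map_subgroupOf_eq_of_le hBL
  have hBn : B₀.Normal :=
    (normal_subgroupOf_iff_le_normalizer hBL).mpr (sup_le hAB le_normalizer)
  have _ := hB2
  have hcomm : IsMulCommutative A₀ := ⟨⟨fun x y => Subtype.ext (Subtype.ext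
    (congrArg (fun z : A => (z : G))
      (hA.is_comm.comm ⟨((x : L) : G), x.2⟩ ⟨((y : L) : G), y.2⟩) :))⟩⟩
  have hcommA : ∀ x ∈ A₀, ∀ y ∈ A₀, x * y = y * x := fun x hx y hy =>
    congrArg Subtype.val (hcomm.is_comm.comm ⟨x, hx⟩ ⟨y, hy⟩)
  have hBA₀ : ⁅B₀, B₀⁆ ≤ A₀ := by
    rw [← map_le_map_iff_of_injective hinj, map_commutator, hB', hA']; exact hBA
  have hS : IsPGroup p L := hG.to_subgroup L
  have hnot₀ : ¬ B₀ ≤ normalizer (A₀ : Set L) := fun h => hBnA fun x hx => by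
    have h1 := le_normalizer_map L.subtype (mem_map_of_mem L.subtype
      (h (show (⟨x, hBL hx⟩ : L) ∈ B₀ from hx)))
    rwa [hA'] at h1
  have hBc : p = 2 → IsMulCommutative B₀ := fun h => absurd h hp
  obtain ⟨b, hb, hbN, hbA⟩ := Cfsg.Agent.S0649.result hS B₀ hBc A₀ hcomm hBA₀ hnot₀
  obtain ⟨hcard, hcom, -, hlt, -, -, hN, -, -, hexp⟩ :=
    Cfsg.Agent.PLocal.GlaubermanReplacement.replacement hS hBc hcomm hBA₀ hnot₀ hb hbN hbA
  have homega := omega_star (p := p) hp hcommA hBA₀ hb hbN hcom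
  set T := Cfsg.Agent.PLocal.GlaubermanReplacement.star A₀ b with hT
  have hTcomm : IsMulCommutative (T.map L.subtype) := by
    refine ⟨⟨?_⟩⟩
    rintro ⟨_, x, hx, rfl⟩ ⟨_, y, hy, rfl⟩
    exact Subtype.ext (congrArg (fun z : T => ((z : L) : G)) (hcom.is_comm.comm ⟨x, hx⟩ ⟨y, hy⟩))
  have hom : ∀ X : Subgroup L, (Cfsg.omegaOne p X).map L.subtype = Cfsg.omegaOne p (X.map L.subtype) := by
    intro X
    rw [Cfsg.omegaOne, Cfsg.omegaOne, MonoidHom.map_closure]
    congr 1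
    ext y
    constructor
    · rintro ⟨x, ⟨hx, hxp⟩, rfl⟩
      exact ⟨mem_map_of_mem _ hx, congrArg Subtype.val hxp⟩
    · rintro ⟨⟨x, hx, rfl⟩, hyp⟩
      exact ⟨x, ⟨hx, Subtype.ext hyp⟩, rfl⟩
  refine ⟨T.map L.subtype, hTcomm, ?_, ?_, ?_, ?_, ?_, ?_⟩
  · rw [card_map_of_injective hinj, hcard, ← card_map_of_injective (K := A₀) hinj, hA']
  · rw [← hA', ← hB', ← map_inf _ _ _ hinj, ← map_inf _ _ _ hinj]
    exact map_lt_map_iff_of_injective hinj |>.mpr hlt
  · rw [← hA']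
    exact (map_mono hN).trans (le_normalizer_map _)
  · rw [map_le_iff_le_comap, hT, Cfsg.Agent.PLocal.GlaubermanReplacement.star]
    refine sup_le (inf_le_left.trans fun x hx => subset_normalClosure hx) ((closure_le _).mpr ?_)
    rintro _ ⟨a, ha, rfl⟩
    have h1 : ((a * b⁻¹ * a⁻¹ * b : L) : G) = (a : G) * ((b : G)⁻¹ * (a : G)⁻¹ * (b : G)⁻¹⁻¹) := by
      push_cast; group
    show ((a * b⁻¹ * a⁻¹ * b : L) : G) ∈ normalClosure (A : Set G)
    rw [h1]
    have ha' : (a : G) ∈ normalClosure (A : Set G) := subset_normalClosure (show (a : G) ∈ A from ha)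
    exact mul_mem ha' (normalClosure_normal.conj_mem _ (inv_mem ha') _)
  · have e1 : Monoid.exponent (T.map L.subtype) = Monoid.exponent T :=
      (Monoid.exponent_eq_of_mulEquiv (T.equivMapOfInjective _ hinj)).symm
    have e2 : Monoid.exponent A = Monoid.exponent A₀ :=
      (Monoid.exponent_eq_of_mulEquiv (subgroupOfEquivOfLe hAL)).symm
    rw [e1, e2]; exact hexp hp
  · rw [← hom, ← hA', ← hom, card_map_of_injective hinj, card_map_of_injective hinj]
    exact homega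

end Cfsg.Agent.S3078
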