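import Cfsg.Statements.S3084
import Cfsg.Agent.Techniques.PlusExtension

set_option autoImplicit false
open Cfsg

namespace Cfsg.Agent.S3084

open Matrix Cfsg.Agent.LargeExtra.ExtForm Cfsg.Agent.Techniques

open Cfsg.Agent.LargeExtra.ExtForm in
/-- Hyperbolic coordinates adapted to a totally singular half. -/
theorem exists_coords {U : Type*} [AddCommGroup U] [Module (ZMod 2) U] [Module.Finite (ZMod 2) U] (n : ℕ)
    (hn : Module.finrank (ZMod 2) U = 2 * n) (q : QuadraticForm (ZMod 2) U)
    (hnd : (QuadraticMap.polarBilin q).Nondegenerate)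
    (hplus : ∃ W : Submodule (ZMod 2) U, Module.finrank (ZMod 2) ↥W = n ∧ ∀ w ∈ W, q w = 0) :
    ∃ E : (Fin n ⊕ Fin n → ZMod 2) ≃ₗ[ZMod 2] U, ∀ v, q (E v) = β (Bplus n) v v := by
  classical
  obtain ⟨W, hW, hWq⟩ := hplus
  let ω := Module.finBasisOfFinrankEq (ZMod 2) W hW
  set B : LinearMap.BilinForm (ZMod 2) U := q.polarBilin with hBdef
  have hc : ∀ j, ∃ c : U, ∀ i, B c (ω i : U) = if i = j then 1 else 0 := by
    intro j
    obtain ⟨f, hf⟩ := LinearMap.exists_extend (ω.coord j)
    refine ⟨(B.toDual hnd).symm f, fun i => ?_⟩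
    have h1 := B.apply_toDual_symm_apply (hB := hnd) f (ω i : U)
    rw [h1]
    have h2 := LinearMap.congr_fun hf (ω i)
    simp only [LinearMap.comp_apply, Submodule.subtype_apply] at h2
    rw [h2, Module.Basis.coord_apply, Module.Basis.repr_self, Finsupp.single_apply]
  choose c hc using hc
  have hpol : ∀ a b, q (a + b) = q a + q b + B a b := fun a b => QuadraticMap.map_add q a b
  have hsymm : ∀ a b, B a b = B b a := fun a b => QuadraticMap.polar_comm q a b
  have hself : ∀ a, B a a = 0 := fun a => by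
    show QuadraticMap.polar q a a = 0
    rw [QuadraticMap.polar_self]
    exact (two_nsmul _).trans (CharTwo.add_self_eq_zero _)
  have hWW : ∀ a ∈ W, ∀ b ∈ W, B a b = 0 := by
    intro a ha b hb
    have := hpol a b
    rw [hWq _ (W.add_mem ha hb), hWq a ha, hWq b hb, zero_add, zero_add] at this
    exact this.symm
  let a : Fin n → Fin n → ZMod 2 := fun i j => if i < j then B (c i) (c j) else if i = j then q (c j) else 0
  let δ : Fin n → U := fun j => ∑ i, a i j • (ω i : U)
  have hδW : ∀ j, δ j ∈ W := fun j => W.sum_mem fun i _ => W.smul_mem _ (ω i).2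
  let d : Fin n → U := fun j => c j + δ j
  have hcδ : ∀ j k, B (c j) (δ k) = a j k := by
    intro j k
    simp only [δ, map_sum, map_smul, hc, smul_eq_mul, mul_ite, mul_one, mul_zero]
    rw [Finset.sum_ite_eq' Finset.univ j]
    simp
  have hdd : ∀ j k, j ≠ k → B (d j) (d k) = 0 := by
    intro j k hjk
    simp only [d, map_add, LinearMap.add_apply]
    rw [hWW _ (hδW j) _ (hδW k), hsymm (δ j) (c k), hcδ, hcδ]
    rcases lt_or_gt_of_ne hjk with h | h
    · simp only [a, if_pos h, if_neg h.asymm, if_neg hjk.symm]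
      simp [CharTwo.add_self_eq_zero]
    · simp only [a, if_pos h, if_neg h.asymm, if_neg hjk, hsymm (c k) (c j)]
      simp [CharTwo.add_self_eq_zero]
  have hdq : ∀ j, q (d j) = 0 := fun j => by
    simp only [d]
    rw [hpol, hWq _ (hδW j), hcδ, add_zero]
    simp [a, CharTwo.add_self_eq_zero]
  have hdω : ∀ i j, B (ω i : U) (d j) = if i = j then 1 else 0 := by
    intro i j
    simp only [d, map_add]
    rw [hWW _ (ω i).2 _ (hδW j), add_zero, hsymm, hc]
  let L : (Fin n ⊕ Fin n → ZMod 2) →ₗ[ZMod 2] U :=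
    Fintype.linearCombination (ZMod 2) (Sum.elim (fun i => (ω i : U)) d)
  have hL : ∀ v, L v = (∑ i, v (.inl i) • (ω i : U)) + ∑ j, v (.inr j) • d j := fun v => by
    simp [L, Fintype.linearCombination_apply, Fintype.sum_sum_type]
  have hsing : ∀ (x : Fin n → ZMod 2) (s : Finset (Fin n)), q (∑ j ∈ s, x j • d j) = 0 := by
    intro x s
    induction s using Finset.induction with
    | empty => simp
    | @insert k s hk ih =>
      rw [Finset.sum_insert hk, hpol, ih, QuadraticMap.map_smul, hdq, smul_zero, map_sum]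
      simp only [add_zero, zero_add]
      refine Finset.sum_eq_zero fun j hj => ?_
      rw [map_smul, map_smul, LinearMap.smul_apply, hdd k j (fun h => hk (h ▸ hj))]
      simp
  have hqL : ∀ v, q (L v) = β (Bplus n) v v := by
    intro v
    rw [hL, hpol, hWq _ (W.sum_mem fun i _ => W.smul_mem _ (ω i).2), hsing, zero_add, zero_add,
      β_plus]
    simp only [map_sum, LinearMap.sum_apply, map_smul, LinearMap.smul_apply, hdω, smul_eq_mul,
      mul_ite, mul_one, mul_zero]
    refine Finset.sum_congr rfl fun i _ => ?_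
    simp [mul_comm]
  have hinj : Function.Injective L := by
    refine (injective_iff_map_eq_zero L).mpr fun v hv => ?_
    by_contra hne
    obtain ⟨w, hw⟩ := nondeg_plus n v hne
    refine hw (CharTwo.add_eq_zero.mp ?_)
    have h1 := hqL (v + w)
    rw [β_add_left, β_add_right, β_add_right, map_add, hv, zero_add, hqL] at h1
    have h2 : β (Bplus n) v v = 0 := by rw [← hqL, hv, QuadraticMap.map_zero]
    rw [h2, zero_add] at h1
    linear_combination -h1
  refine ⟨LinearEquiv.ofBijective L ⟨hinj, ?_⟩, hqL⟩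
  refine (LinearMap.injective_iff_surjective_of_finrank_eq_finrank ?_).mp hinj
  rw [hn, Module.finrank_pi, Fintype.card_sum, Fintype.card_fin, two_mul]

/-- Let K be a group acting faithfully and linearly on a finite-dimensional vector space U of dimension 2n ≥ 2 over the field with two elements, preserving a quadratic form q whose polar bilinear form is non-degenerate and which vanishes on some n-dimensional subspace (a non-singular form of plus type). Then there is a finite group R with a normal extraspecial 2-subgroup Q of order 2^(2n+1), an isomorphism of R/Q with K, and a surjective homomorphism χ from Q onto (the additive group of) U with kernel the centre of Q, such that χ carries conjugation by any r in R to the action of the image of r in K, and an element a of Q squares to the identity exactly when q vanishes at χ(a). -/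
theorem result {K : Type*} [Group K] {U : Type*} [AddCommGroup U] [Module (ZMod 2) U] [Module.Finite (ZMod 2) U] (n : ℕ) (hn1 : 1 ≤ n) (hn : Module.finrank (ZMod 2) U = 2 * n) (ρ : Representation (ZMod 2) K U) (hρ : Function.Injective ρ) (q : QuadraticForm (ZMod 2) U) (hq : ∀ (k : K) (u : U), q (ρ k u) = q u) (hnd : (QuadraticMap.polarBilin q).Nondegenerate) (hplus : ∃ W : Submodule (ZMod 2) U, Module.finrank (ZMod 2) ↥W = n ∧ ∀ w ∈ W, q w = 0) : ∃ (R : Type) (_ : Group R) (_ : Finite R) (Q : Subgroup R) (hN : Q.Normal) (e : R ⧸ Q ≃* K) (χ : ↥Q →* Multiplicative U), Cfsg.IsExtraspecial 2 ↥Q ∧ Nat.card ↥Q = 2 ^ (2 * n + 1) ∧ Function.Surjective χ ∧ χ.ker = Subgroup.center ↥Q ∧ (∀ (r : R) (a : ↥Q), χ ⟨r * a * r⁻¹, hN.conj_mem (a : R) a.2 r⟩ = Multiplicative.ofAdd (ρ (e (r : R ⧸ Q)) (Multiplicative.toAdd (χ a)))) ∧ ∀ a : ↥Q, a * a = 1 ↔ q (Multiplicative.toAdd (χ a)) = 0 := by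
  classical
  obtain ⟨E, hE⟩ := exists_coords n hn q hnd hplus
  let ι := Fin n ⊕ Fin n
  haveI : Nonempty ι := ⟨.inl ⟨0, hn1⟩⟩
  let γ : K →* Module.End (ZMod 2) (ι → ZMod 2) :=
    { toFun := fun k => E.symm.toLinearMap ∘ₗ ρ k ∘ₗ E.toLinearMap
      map_one' := by ext v; simp
      map_mul' := fun a b => by ext v; simp }
  let g₀ : K →* GL ι (ZMod 2) :=
    ((LinearMap.toMatrixAlgEquiv' (R := ZMod 2) (n := ι)).toMonoidHom.comp γ).toHomUnits
  have hg₀ : ∀ k v, ((g₀ k : GL ι (ZMod 2)) : Matrix ι ι (ZMod 2)) *ᵥ v = E.symm (ρ k (E v)) :=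
    fun k v => LinearMap.toMatrix'_mulVec (γ k) v
  have hg₀inj : Function.Injective g₀ := fun a b h => hρ (LinearMap.ext fun u => by
    have := congrArg (fun g : GL ι (ZMod 2) => (g : Matrix ι ι (ZMod 2)) *ᵥ E.symm u) h
    simpa [hg₀] using this)
  let N := PlusExtension.normalizerGroup n
  let R : Subgroup _ := N ⊓ g₀.range.comap (MonoidHom.snd (Matrix (PlusExtension.V n) (PlusExtension.V n) ℝ)ˣ (GL ι (ZMod 2)))
  let p : ↥R →* g₀.range := ((MonoidHom.snd _ _).comp R.subtype).codRestrict _ fun r => r.2.2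
  let π : ↥R →* K := (MonoidHom.ofInjective hg₀inj).symm.toMonoidHom.comp p
  have hπ : ∀ r : ↥R, g₀ (π r) = (r : (Matrix (PlusExtension.V n) (PlusExtension.V n) ℝ)ˣ × GL ι (ZMod 2)).2 := fun r =>
    congrArg Subtype.val ((MonoidHom.ofInjective hg₀inj).apply_symm_apply (p r))
  have hsurj : Function.Surjective π := by
    intro k
    obtain ⟨M, hM⟩ := PlusExtension.exists_lift_mem (g₀ k) fun v => by
      rw [hg₀, ← hE, ← hE, E.apply_symm_apply, hq]
    refine ⟨⟨(M, g₀ k), hM, ⟨k, rfl⟩⟩, hg₀inj ?_⟩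
    exact hπ _
  let j : Ext (Bplus n) →* ↥R :=
    (MonoidHom.prod (PlusExtension.repUnits n) 1).codRestrict R fun x =>
      ⟨PlusExtension.repUnits_mem x, ⟨1, map_one _⟩⟩
  have hjinj : Function.Injective j := fun x y h => PlusExtension.rep_injective
    (congrArg Units.val (congrArg Prod.fst (congrArg Subtype.val h)))
  have hker : j.range = π.ker := by
    refine le_antisymm ?_ fun r hr => ?_
    · rintro _ ⟨x, rfl⟩
      refine MonoidHom.mem_ker.mpr (hg₀inj ?_)
      rw [hπ, map_one]
      rfl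
    · have h2 : (r : (Matrix (PlusExtension.V n) (PlusExtension.V n) ℝ)ˣ × GL ι (ZMod 2)).2 = 1 := by
        rw [← hπ, MonoidHom.mem_ker.mp hr, map_one]
      obtain ⟨x, hx⟩ := PlusExtension.exists_of_ker r.2.1 h2
      exact ⟨x, Subtype.ext hx⟩
  let Q : Subgroup ↥R := π.ker
  let i : Ext (Bplus n) ≃* ↥Q :=
    (MonoidHom.ofInjective hjinj).trans (MulEquiv.subgroupCongr hker)
  have hi : ∀ x, ((i x : ↥Q) : ↥R) = j x := fun x => rfl
  haveI : Finite ↥Q := Finite.of_equiv _ i.toEquiv
  haveI : Finite (↥R ⧸ Q) := by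
    haveI : Finite K := Finite.of_injective g₀ hg₀inj
    exact Finite.of_equiv K (QuotientGroup.quotientKerEquivOfSurjective π hsurj).toEquiv.symm
  haveI : Finite ↥R := Finite.of_subgroup_quotient Q
  let ξ : Ext (Bplus n) →* Multiplicative U :=
    { toFun := fun x => Multiplicative.ofAdd (E x.v)
      map_one' := by simp [one_v]
      map_mul' := fun x y => by simp [mul_v] }
  have hex : Cfsg.IsExtraspecial 2 (Ext (Bplus n)) := isExtraspecial (nondeg_plus n)
  refine ⟨↥R, inferInstance, inferInstance, Q, inferInstance,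
    QuotientGroup.quotientKerEquivOfSurjective π hsurj, ξ.comp i.symm.toMonoidHom,
    Cfsg.Agent.LargeExtra.isExtraspecial_of_equiv hex i, ?_, ?_, ?_, ?_, ?_⟩
  · rw [← Nat.card_congr i.toEquiv, card_ext, Fintype.card_sum, Fintype.card_fin, two_mul]
  · intro u
    refine ⟨i ⟨0, E.symm (Multiplicative.toAdd u)⟩, ?_⟩
    simp [ξ]
  · ext a
    obtain ⟨x, rfl⟩ := i.surjective a
    rw [MonoidHom.mem_ker, Subgroup.mem_center_iff]
    constructor
    · intro h b
      obtain ⟨y, rfl⟩ := i.surjective b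
      rw [← map_mul, ← map_mul, Subgroup.mem_center_iff.mp ((mem_center_iff' (nondeg_plus n)).mpr ?_) y]
      simpa [ξ] using h
    · intro h
      have : x ∈ Subgroup.center (Ext (Bplus n)) := Subgroup.mem_center_iff.mpr fun y =>
        i.injective (by rw [map_mul, map_mul]; exact h (i y))
      simp [ξ, (mem_center_iff' (nondeg_plus n)).mp this]
  · intro r a
    obtain ⟨x, rfl⟩ := i.surjective a
    obtain ⟨y, hy, hyv⟩ := r.2.1.2 x
    have hconj : (⟨r * i x * r⁻¹, (inferInstance : Q.Normal).conj_mem _ (i x).2 r⟩ : ↥Q) = i y := by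
      refine Subtype.ext ?_
      show r * (i x : ↥R) * r⁻¹ = (i y : ↥R)
      rw [hi, hi, mul_inv_eq_iff_eq_mul]
      exact Subtype.ext (Prod.ext (Units.ext hy)
        (show (r : (Matrix (PlusExtension.V n) (PlusExtension.V n) ℝ)ˣ × GL ι (ZMod 2)).2 * 1 = 1 * (r : (Matrix (PlusExtension.V n) (PlusExtension.V n) ℝ)ˣ × GL ι (ZMod 2)).2 by rw [mul_one, one_mul]))
    rw [hconj, MonoidHom.comp_apply, MonoidHom.comp_apply]
    simp only [MulEquiv.coe_toMonoidHom, MulEquiv.symm_apply_apply]
    show Multiplicative.ofAdd (E y.v) = Multiplicative.ofAdd (ρ (π r) (E x.v))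
    rw [hyv, ← hπ r, hg₀, E.apply_symm_apply]
  · intro a
    obtain ⟨x, rfl⟩ := i.surjective a
    rw [← map_mul, MulEquiv.map_eq_one_iff, MonoidHom.comp_apply]
    simp only [MulEquiv.coe_toMonoidHom, MulEquiv.symm_apply_apply]
    show x * x = 1 ↔ q (E x.v) = 0
    rw [hE]
    constructor
    · intro h
      have := congrArg Ext.a h
      rwa [mul_a, CharTwo.add_self_eq_zero, zero_add, one_a] at this
    · intro h
      exact Ext.ext (by rw [mul_a, CharTwo.add_self_eq_zero, zero_add, h, one_a])
        (by rw [mul_v, PlusExtension.vadd_self, one_v])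

end Cfsg.Agent.S3084
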