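import Cfsg.Statements.S3085
import Mathlib
import Cfsg.Agent.Lib.PGroups.Extraspecial
import Cfsg.Agent.Lib.PLocal.Cores

set_option autoImplicit false
open Cfsg

namespace Cfsg.Agent.S3085

open Subgroup

variable {Q : Type*} [Group Q] [Finite Q]

theorem sq_mem_center (hQ : Cfsg.IsExtraspecial 2 Q) (x : Q) : x ^ 2 ∈ center Q := by
  refine mem_center_iff.2 fun y => ?_
  have hc : y * x * y⁻¹ * x⁻¹ ∈ center Q :=
    hQ.1.2.2.le (Subgroup.commutator_mem_commutator (mem_top y) (mem_top x))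
  set c := y * x * y⁻¹ * x⁻¹ with hcdef
  have hc2 : c ^ 2 = 1 := by
    have h := pow_card_eq_one' (G := center Q) (x := ⟨c, hc⟩)
    rw [hQ.2] at h
    exact congrArg Subtype.val h
  have h1 : y * x * y⁻¹ = c * x := by rw [hcdef, inv_mul_cancel_right]
  have h2 : y * x ^ 2 * y⁻¹ = x ^ 2 := by
    rw [← conj_pow, h1, (show Commute c x from (mem_center_iff.1 hc x).symm).mul_pow, hc2, one_mul]
  exact mul_inv_eq_iff_eq_mul.1 h2

/-- Data: the central involution and the transvection at a square root of it. -/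
theorem exists_transvection (hQ : Cfsg.IsExtraspecial 2 Q) (v : Q) (hv : v ^ 2 ≠ 1) :
    ∃ α : MulAut Q, (∀ x, Commute x v → α x = x) ∧ (∀ x, ¬ Commute x v → α x = x * v) ∧
      α * α = MulAut.conj v := by
  classical
  have hz : ∀ c ∈ center Q, c ≠ 1 → c = v ^ 2 := by
    intro c hc hc1
    obtain ⟨a, -, huniq⟩ := (Nat.card_eq_two_iff' (1 : center Q)).1 hQ.2
    have h1 := huniq ⟨c, hc⟩ (fun h => hc1 (congrArg Subtype.val h))
    have h2 := huniq ⟨v ^ 2, sq_mem_center hQ v⟩ (fun h => hv (congrArg Subtype.val h))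
    exact congrArg Subtype.val (h1.trans h2.symm)
  have hnc : ∀ x, ¬ Commute x v → v * x = x * v * v ^ 2 := by
    intro x hx
    have hc : v⁻¹ * x⁻¹ * v⁻¹⁻¹ * x⁻¹⁻¹ ∈ center Q :=
      hQ.1.2.2.le (Subgroup.commutator_mem_commutator (mem_top v⁻¹) (mem_top x⁻¹))
    rw [inv_inv, inv_inv] at hc
    have he := hz _ hc (fun h => hx ?_)
    · rw [← he]; group
    · calc x * v = x * v * (v⁻¹ * x⁻¹ * v * x) := by rw [h, mul_one]
        _ = v * x := by group
  have hcen : ∀ a : Q, v ^ 2 * a = a * v ^ 2 := fun a => (mem_center_iff.1 (sq_mem_center hQ v) a).symm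
  have h4 : v ^ 2 * v ^ 2 = 1 := by
    have h := pow_card_eq_one' (G := center Q) (x := ⟨v ^ 2, sq_mem_center hQ v⟩)
    rw [hQ.2] at h
    have h' : (v ^ 2) ^ 2 = 1 := congrArg Subtype.val h
    rwa [pow_two (v ^ 2)] at h'
  let f : Q → Q := fun x => if Commute x v then x else x * v
  have hf : ∀ x y, f (x * y) = f x * f y := by
    intro x y
    by_cases hx : Commute x v <;> by_cases hy : Commute y v
    · simp only [f, if_pos hx, if_pos hy, if_pos (hx.mul_left hy)]
    · have hxy : ¬ Commute (x * y) v := fun h => hy (by simpa using hx.inv_left.mul_left h)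
      simp only [f, if_pos hx, if_neg hy, if_neg hxy, mul_assoc]
    · have hxy : ¬ Commute (x * y) v := fun h => hx (by simpa using h.mul_left hy.inv_left)
      simp only [f, if_neg hx, if_pos hy, if_neg hxy]
      rw [mul_assoc, hy.eq, mul_assoc]
    · have hxy : Commute (x * y) v := by
        show x * y * v = v * (x * y)
        rw [← mul_assoc, hnc x hx, mul_assoc _ _ y, hcen, ← mul_assoc (x * v), mul_assoc x v y, hnc y hy,
          ← mul_assoc x, mul_assoc _ (v ^ 2) (v ^ 2), h4, mul_one, ← mul_assoc]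
      simp only [f, if_neg hx, if_neg hy, if_pos hxy]
      calc x * y = x * y * (v ^ 2 * v ^ 2) := by rw [h4, mul_one]
        _ = x * (y * v * v ^ 2) * v := by group
        _ = x * (v * y) * v := by rw [hnc y hy]
        _ = x * v * (y * v) := by group
  let φ : Q →* Q := MonoidHom.mk' f hf
  have hinj : Function.Injective φ := by
    rw [injective_iff_map_eq_one]
    intro x hx
    change f x = 1 at hx
    by_cases h : Commute x v
    · simpa [f, h] using hx
    · simp only [f, if_neg h] at hx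
      exact absurd (eq_inv_of_mul_eq_one_left hx ▸ (Commute.refl v).inv_left) h
  refine ⟨MulEquiv.ofBijective φ (Finite.injective_iff_bijective.1 hinj), fun x hx => if_pos hx,
    fun x hx => if_neg hx, ?_⟩
  ext x
  show f (f x) = v * x * v⁻¹
  by_cases h : Commute x v
  · simp only [f, if_pos h]
    rw [← h.eq, mul_inv_cancel_right]
  · have h2 : ¬ Commute (x * v) v := fun hh => h (by simpa using hh.mul_left (Commute.refl v).inv_left)
    simp only [f, if_neg h, if_neg h2]
    rw [hnc x h, pow_two]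
    group

/-- Four commuting square roots of the central involution with central product. -/
theorem exists_four {n : ℕ} (hn : 3 ≤ n) (hQ : Cfsg.IsExtraspecial 2 Q)
    (hcard : Nat.card Q = 2 ^ (2 * n + 1))
    (hplus : ∃ E : Subgroup Q, Cfsg.IsElementaryAbelian 2 E ∧ Nat.card ↥E = 2 ^ (n + 1)) :
    ∃ u w₁ w₂ : Q, u ^ 2 ≠ 1 ∧ Commute u w₁ ∧ Commute u w₂ ∧ Commute w₁ w₂ ∧ w₁ ^ 2 = 1 ∧
      w₂ ^ 2 = 1 ∧ w₁ ∉ center Q ∧ w₂ ∉ center Q ∧ w₁ * w₂ ∉ center Q := by
  obtain ⟨E, ⟨hEc, hE2⟩, hEcard⟩ := hplus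
  have hbig : 16 ≤ Nat.card E := by
    rw [hEcard]
    calc 16 = 2 ^ 4 := rfl
      _ ≤ 2 ^ (n + 1) := Nat.pow_le_pow_right (by norm_num) (by omega)
  obtain ⟨w₁, hw₁E, hw₁⟩ := SetLike.not_le_iff_exists.1 (fun h : E ≤ center Q => by
    have := card_le_of_le h; rw [hQ.2] at this; omega)
  have h12 : w₁ ^ 2 = 1 := hE2 w₁ hw₁E
  have hzp : Nat.card (zpowers w₁) ≤ 2 := by
    rw [Nat.card_zpowers]; exact orderOf_le_of_pow_eq_one (by norm_num) h12
  have hX₁ : Nat.card ↥(center Q ⊔ zpowers w₁) ≤ 4 := by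
    refine (Nat.le_of_dvd (mul_pos Nat.card_pos Nat.card_pos)
      (Cfsg.Agent.PLocal.Cores.card_sup_dvd_of_normal' (center Q) (zpowers w₁))).trans ?_
    rw [hQ.2]; exact Nat.mul_le_mul_left 2 hzp
  obtain ⟨w₂, hw₂E, hw₂⟩ := SetLike.not_le_iff_exists.1 (fun h : E ≤ center Q ⊔ zpowers w₁ => by
    have := card_le_of_le h; omega)
  have h22 : w₂ ^ 2 = 1 := hE2 w₂ hw₂E
  have hw12 : Commute w₁ w₂ := congrArg Subtype.val (mul_comm' (⟨w₁, hw₁E⟩ : E) ⟨w₂, hw₂E⟩)
  have : (center Q ⊔ zpowers w₁).Normal := ⟨fun a ha g => by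
    have h : g * a * g⁻¹ * a⁻¹ ∈ center Q :=
      hQ.1.2.2.le (Subgroup.commutator_mem_commutator (mem_top g) (mem_top a))
    simpa using mul_mem (mem_sup_left h) ha⟩
  set X := center Q ⊔ zpowers w₁ ⊔ zpowers w₂ with hXdef
  have hX : Nat.card X ≤ 8 := by
    refine (Nat.le_of_dvd (mul_pos Nat.card_pos Nat.card_pos)
      (Cfsg.Agent.PLocal.Cores.card_sup_dvd_of_normal' (center Q ⊔ zpowers w₁) (zpowers w₂))).trans ?_
    rw [Nat.card_zpowers]
    calc _ ≤ 4 * 2 := Nat.mul_le_mul hX₁ (orderOf_le_of_pow_eq_one (by norm_num) h22)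
      _ = 8 := rfl
  have hC := Cfsg.Agent.PGroups.Extraspecial.card_mul_card_centralizer hQ X
    (le_sup_left.trans le_sup_left)
  obtain ⟨u, huC, hu⟩ : ∃ u ∈ centralizer (X : Set Q), u ^ 2 ≠ 1 := by
    by_contra hcon
    push Not at hcon
    have : IsMulCommutative ↥(centralizer (X : Set Q)) := isMulCommutative_iff.2 fun a b => by
      apply Subtype.ext
      have ha : (a : Q) * a = 1 := pow_two (a : Q) ▸ hcon a a.2
      have hb : (b : Q) * b = 1 := pow_two (b : Q) ▸ hcon b b.2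
      have hab : ((a : Q) * b) * (a * b) = 1 := pow_two ((a : Q) * b) ▸ hcon _ (mul_mem a.2 b.2)
      show (a : Q) * b = b * a
      calc (a : Q) * b = a * (((a : Q) * b) * (a * b)) * b := by rw [hab, mul_one]
        _ = (a * a) * (b * a) * (b * b) := by group
        _ = b * a := by rw [ha, hb, one_mul, mul_one]
    have hb := Cfsg.Agent.PGroups.Extraspecial.card_sq_le_of_abelian hQ (centralizer (X : Set Q))
    rw [hcard] at hC hb
    obtain ⟨k, hk⟩ := (hQ.1.1.to_subgroup (centralizer (X : Set Q))).exists_card_eq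
    rw [hk] at hC hb
    rw [← pow_mul, ← pow_succ'] at hb
    have hk2 := (Nat.pow_le_pow_iff_right (by norm_num)).1 hb
    have h1 : 2 ^ (2 * n + 1 + 1) ≤ 2 ^ (3 + k) := by
      rw [pow_succ', ← hC, pow_add]
      exact Nat.mul_le_mul_right _ hX
    have := (Nat.pow_le_pow_iff_right (by norm_num)).1 h1
    omega
  refine ⟨u, w₁, w₂, hu, (huC w₁ (mem_sup_left (mem_sup_right (mem_zpowers w₁)))).symm,
    (huC w₂ (mem_sup_right (mem_zpowers w₂))).symm, hw12, h12, h22, hw₁,
    fun h => hw₂ (mem_sup_left h), fun h => hw₂ ?_⟩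
  have := mul_mem (inv_mem (mem_sup_right (S := center Q) (mem_zpowers w₁))) (mem_sup_left (T := zpowers w₁) h)
  rwa [inv_mul_cancel_left] at this


/-- Let Q be an extraspecial 2-group of order 2^(2n+1) with n ≥ 3 that is of plus type (it contains an elementary abelian subgroup of order 2^(n+1)). Then the group of inner automorphisms of Q has no complement in the full automorphism group of Q: the extension of the inner automorphism group (elementary abelian of order 2^(2n)) by the outer automorphism group (the orthogonal group of plus type) does not split. -/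
theorem result {Q : Type*} [Group Q] [Finite Q] (n : ℕ) (hn : 3 ≤ n) (hQ : Cfsg.IsExtraspecial 2 Q) (hcard : Nat.card Q = 2 ^ (2 * n + 1)) (hplus : ∃ E : Subgroup Q, Cfsg.IsElementaryAbelian 2 E ∧ Nat.card ↥E = 2 ^ (n + 1)) (L : Subgroup (MulAut Q)) : ¬ (Cfsg.Inn Q).IsComplement' L := by
  classical
  intro hL
  obtain ⟨u, w₁, w₂, hu, hu1, hu2, h12, hw1, hw2, hn1, hn2, hn12⟩ := exists_four hn hQ hcard hplus
  have hdisj : ∀ g : Q, MulAut.conj g ∈ L → g ∈ Subgroup.center Q := by
    intro g hg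
    have h1 := Subgroup.disjoint_def.1 hL.disjoint ⟨g, rfl⟩ hg
    refine Subgroup.mem_center_iff.2 fun y => ?_
    have h2 := DFunLike.congr_fun h1 y
    rw [MulAut.conj_apply, MulAut.one_apply, mul_inv_eq_iff_eq_mul] at h2
    exact h2.symm
  have hdec : ∀ α : MulAut Q, ∃ r : Q, MulAut.conj r * α ∈ L := by
    intro α
    obtain ⟨⟨⟨_, r, rfl⟩, ⟨l, hl⟩⟩, he⟩ := hL.2 α
    refine ⟨r⁻¹, ?_⟩
    rw [← he, map_inv]
    simpa [← mul_assoc] using hl
  have hexp : ∀ c ∈ Subgroup.center Q, c ^ 2 = 1 := by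
    intro c hc
    have h := pow_card_eq_one' (G := Subgroup.center Q) (x := ⟨c, hc⟩)
    rw [hQ.2] at h
    exact congrArg Subtype.val h
  have hcj : ∀ (α : MulAut Q) (g : Q), α * MulAut.conj g = MulAut.conj (α g) * α := by
    intro α g
    ext y
    simp
  set v : Fin 3 → Q := ![u * w₁, u * w₂, u * (w₁ * w₂)] with hv
  have hcomm : ∀ i, Commute u (v i) := fun i => by
    fin_cases i
    · exact (Commute.refl u).mul_right hu1
    · exact (Commute.refl u).mul_right hu2
    · exact (Commute.refl u).mul_right (hu1.mul_right hu2)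
  have hvsq : ∀ i, v i ^ 2 = u ^ 2 := fun i => by
    fin_cases i
    · show (u * w₁) ^ 2 = _; rw [hu1.mul_pow, hw1, mul_one]
    · show (u * w₂) ^ 2 = _; rw [hu2.mul_pow, hw2, mul_one]
    · show (u * (w₁ * w₂)) ^ 2 = _
      rw [(hu1.mul_right hu2).mul_pow, h12.mul_pow, hw1, hw2, mul_one, mul_one]
  have hind : ∀ i, u⁻¹ * v i ∉ Subgroup.center Q := fun i => by
    fin_cases i
    · show u⁻¹ * (u * w₁) ∉ _; rwa [inv_mul_cancel_left]
    · show u⁻¹ * (u * w₂) ∉ _; rwa [inv_mul_cancel_left]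
    · show u⁻¹ * (u * (w₁ * w₂)) ∉ _; rwa [inv_mul_cancel_left]
  obtain ⟨α, hα0, hα1, hαα⟩ := exists_transvection hQ u hu
  obtain ⟨r, hr⟩ := hdec α
  have huc : u ∉ Subgroup.center Q := fun h => hu (hexp u h)
  -- the lift has order two
  have hru : ¬ Commute r u := fun hc => by
    have h1 : MulAut.conj r * α * (MulAut.conj r * α) = MulAut.conj (r * r * u) := by
      rw [mul_assoc, ← mul_assoc α, hcj, hα0 r hc, mul_assoc, hαα, ← map_mul, ← map_mul, ← mul_assoc]
    have h2 := hdisj _ (h1 ▸ mul_mem hr hr)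
    have h3 := mul_mem (inv_mem (sq_mem_center hQ r)) h2
    rw [pow_two, inv_mul_cancel_left] at h3
    exact huc h3
  -- commuting lifts
  have hrv : ∀ i, Commute r (v i) := fun i => by
    by_contra hc
    have hv1 : v i ^ 2 ≠ 1 := hvsq i ▸ hu
    obtain ⟨β, hβ0, hβ1, -⟩ := exists_transvection hQ (v i) hv1
    obtain ⟨s, hs⟩ := hdec β
    have hab : α * β = β * α := by
      ext y
      show α (β y) = β (α y)
      have hαv : α (v i) = v i := hα0 _ (hcomm i).symm
      have hβu : β u = u := hβ0 _ (hcomm i)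
      by_cases h1 : Commute y (v i) <;> by_cases h2 : Commute y u
      · rw [hβ0 y h1, hα0 y h2, hβ0 y h1]
      · rw [hβ0 y h1, hα1 y h2, map_mul, hβ0 y h1, hβu]
      · rw [hβ1 y h1, map_mul, hα0 y h2, hαv, hβ1 y h1]
      · rw [hβ1 y h1, map_mul, hα1 y h2, hαv, map_mul, hβ1 y h1, hβu, mul_assoc, (hcomm i).eq,
          mul_assoc]
    have e1 : MulAut.conj r * α * (MulAut.conj s * β) = MulAut.conj (r * α s) * (α * β) := by
      rw [mul_assoc, ← mul_assoc α, hcj, mul_assoc, ← mul_assoc, ← map_mul]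
    have e2 : MulAut.conj s * β * (MulAut.conj r * α) = MulAut.conj (s * β r) * (α * β) := by
      rw [mul_assoc, ← mul_assoc β, hcj, mul_assoc, ← hab, ← mul_assoc, ← map_mul]
    have h1 := mul_mem (mul_mem hr hs) (inv_mem (mul_mem hs hr))
    rw [e1, e2, mul_inv_rev, mul_assoc, mul_inv_cancel_left, ← map_inv, ← map_mul] at h1
    have h2 := hdisj _ h1
    have hcs : (r * s) * (s * r)⁻¹ ∈ Subgroup.center Q := by
      have := hQ.1.2.2.le (Subgroup.commutator_mem_commutator (Subgroup.mem_top r) (Subgroup.mem_top s))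
      rwa [mul_inv_rev, ← mul_assoc]
    rw [hβ1 r hc] at h2
    by_cases hsu : Commute s u
    · rw [hα0 s hsu] at h2
      have h3 : r * s * (s * (r * v i))⁻¹ = r * s * (v i)⁻¹ * (r * s)⁻¹ * (r * s * (s * r)⁻¹) := by group
      have h4 := mul_mem h2 (inv_mem hcs)
      rw [h3, mul_inv_cancel_right] at h4
      have h5 : (v i)⁻¹ ∈ Subgroup.center Q := by
        simpa [mul_assoc] using (Subgroup.Normal.conj_mem inferInstance _ h4 (r * s)⁻¹)
      exact hv1 (hexp _ (inv_inv (v i) ▸ inv_mem h5))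
    · rw [hα1 s hsu] at h2
      have h3 : r * (s * u) * (s * (r * v i))⁻¹ =
          r * s * (u * (v i)⁻¹) * (r * s)⁻¹ * (r * s * (s * r)⁻¹) := by group
      have h4 := mul_mem h2 (inv_mem hcs)
      rw [h3, mul_inv_cancel_right] at h4
      have h5 : u * (v i)⁻¹ ∈ Subgroup.center Q := by
        simpa [mul_assoc] using (Subgroup.Normal.conj_mem inferInstance _ h4 (r * s)⁻¹)
      have h6 := inv_mem h5
      rw [mul_inv_rev, inv_inv] at h6
      rw [← (hcomm i).inv_left.eq] at h6
      exact hind i h6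
  -- the product of the four is central
  have h0 : Commute r (u * w₁) := hrv 0
  have h1 : Commute r (u * w₂) := hrv 1
  have h2 : Commute r (u * (w₁ * w₂)) := hrv 2
  have hA : Commute r w₂ := by
    have h := h0.inv_right.mul_right h2
    have e : (u * w₁)⁻¹ * (u * (w₁ * w₂)) = w₂ := by group
    rwa [e] at h
  exact hru (by simpa using h1.mul_right hA.inv_right)

end Cfsg.Agent.S3085
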