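import Cfsg.Statements.S3086
import Cfsg.Agent.Lib.Offender.Main
import Cfsg.Agent.Lib.Components.Basic
-- import your own Cfsg.Agent.* helpers here

set_option autoImplicit false
open Cfsg

namespace Cfsg.Agent.S3086

/-- The P(G,V)-theorem. Let p be a prime, G a finite group acting faithfully and linearly on a finite vector space V over the field with p elements, and A a nontrivial elementary abelian p-subgroup of G such that |A|·|C_V(A)| ≥ |B|·|C_V(B)| for every subgroup B of A. Then A normalizes every component (subnormal quasisimple subgroup) of G. -/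
theorem result {G V : Type*} [Group G] [Finite G] [AddCommGroup V] [Finite V] (p : ℕ) [Fact p.Prime] [Module (ZMod p) V]
    (ρ : Representation (ZMod p) G V) (hρ : Function.Injective ρ)
    (A : Subgroup G) (hA : A ≠ ⊥) (hAel : Cfsg.IsElementaryAbelian p A)
    (hP : ∀ B : Subgroup G, B ≤ A →
      Nat.card ↥B * Nat.card {v : V // ∀ b ∈ B, ρ b v = v} ≤ Nat.card ↥A * Nat.card {v : V // ∀ a ∈ A, ρ a v = v}) :
    ∀ K : Subgroup G, Cfsg.IsComponent K → A ≤ Subgroup.normalizer (K : Set G) := by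
  intro K hK
  classical
  obtain ⟨hcomm, hexp⟩ := hAel
  by_contra hnle
  have hquasi : Cfsg.Lib.Offender.Quasi K := by
    refine ⟨Cfsg.Agent.Components.Basic.component_commutator_self hK, fun N hN hnorm => ?_⟩
    haveI : (N.subgroupOf K).Normal := ⟨fun n hn x => hnorm x x.2 n hn⟩
    rcases Cfsg.Agent.Components.Basic.quasisimple_eq_top_or_le_center_of_normal hK.2
      (N.subgroupOf K) with h | h
    · exact Or.inl (le_antisymm hN (Subgroup.subgroupOf_eq_top.1 h))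
    · refine Or.inr fun n hn x hx => ?_
      exact congrArg Subtype.val
        (Subgroup.mem_center_iff.1 (h (show (⟨n, hN hn⟩ : ↥K) ∈ N.subgroupOf K from hn)) ⟨x, hx⟩)
  have hPair : Cfsg.Lib.Offender.Pair p K A := by
    refine ⟨hquasi, fun a ha b hb => congrArg Subtype.val
      (hcomm.is_comm.comm (⟨a, ha⟩ : ↥A) ⟨b, hb⟩), hexp, fun g _ => ?_⟩
    by_cases hgK : K.map (MulAut.conj g).toMonoidHom = K
    · exact Or.inl fun k hk => hgK.le ⟨k, hk, rfl⟩
    · refine Or.inr fun k hk l hl => ?_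
      have h := Cfsg.Agent.Components.Basic.component_commutator_eq_bot_of_ne
        (Cfsg.Agent.Components.Basic.component_conj hK g) hK hgK
      rw [Subgroup.commutator_eq_bot_iff_le_centralizer] at h
      exact ((Subgroup.mem_centralizer_iff.1 (h ⟨k, hk, rfl⟩)) l hl).symm
  obtain ⟨a₀, ha₀, ha₀K⟩ := SetLike.not_le_iff_exists.1 hnle
  have hmove : a₀ ∉ Cfsg.Lib.Offender.stab K A := by
    intro h
    apply ha₀K
    rw [Subgroup.mem_normalizer_iff]
    intro k
    refine ⟨fun hk => h.2.1 k hk, fun hk => ?_⟩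
    have := h.2.2 _ hk
    rwa [show a₀⁻¹ * (a₀ * k * a₀⁻¹) * a₀ = k by group] at this
  -- a minimal invariant submodule on which `K` acts nontrivially
  let T : Submodule (ZMod p) V → Prop := fun W => (∀ k ∈ K, ∀ w ∈ W, ρ k w ∈ W) ∧
    (∀ a ∈ A, ∀ w ∈ W, ρ a w ∈ W) ∧ ∃ k ∈ K, ∃ w ∈ W, ρ k w ≠ w
  have hT : T ⊤ := by
    refine ⟨fun _ _ _ _ => Submodule.mem_top, fun _ _ _ _ => Submodule.mem_top, ?_⟩
    obtain ⟨k, hk, hk1⟩ := (Subgroup.ne_bot_iff_exists_ne_one.1
      (Cfsg.Agent.Components.Basic.component_ne_bot hK)) |> fun ⟨k, hk⟩ => (⟨k.1, k.2, fun e =>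
        hk (Subtype.ext e)⟩ : ∃ k, k ∈ K ∧ k ≠ 1)
    by_contra hno
    push Not at hno
    apply hk1
    apply hρ
    rw [map_one]
    exact LinearMap.ext fun v => hno k hk v Submodule.mem_top
  obtain ⟨M, hM, hMmin⟩ := WellFounded.has_min (wellFounded_lt (α := Submodule (ZMod p) V))
    {W | T W} ⟨⊤, hT⟩
  obtain ⟨hMK, hMA, k₁, hk₁, w₁, hw₁, hne₁⟩ := hM
  have hinv := Cfsg.Lib.Offender.invariant_of_sup ρ hMK hMA
  set L := K ⊔ A
  have hKL : K ≤ L := le_sup_left
  have hAL : A ≤ L := le_sup_right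
  set g := Cfsg.Lib.Offender.sub ρ L M hinv
  have hgen : K.subgroupOf L ⊔ A.subgroupOf L = ⊤ := by
    rw [← Subgroup.subgroupOf_sup hKL hAL, Subgroup.subgroupOf_self]
  have hmin : Cfsg.Lib.Offender.Minimal g (K.subgroupOf L) (A.subgroupOf L) := by
    refine ⟨⟨⟨k₁, hKL hk₁⟩, hk₁, fun e => hne₁ ?_⟩, fun W hWK hWA hW k hk w hw => ?_⟩
    · exact congrArg Subtype.val (LinearMap.congr_fun e ⟨w₁, hw₁⟩)
    · by_contra hne
      apply hMmin (W.map M.subtype) ⟨?_, ?_, (k : G), hk, w, ⟨w, hw, rfl⟩,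
        fun e => hne (Subtype.ext e)⟩
      · refine lt_of_le_of_ne (Submodule.map_subtype_le M W) fun e => hW ?_
        refine Submodule.map_injective_of_injective M.subtype_injective ?_
        rw [e, Submodule.map_subtype_top]
      · rintro l hl _ ⟨u, hu, rfl⟩
        exact ⟨g ⟨l, hKL hl⟩ u, hWK _ hl u hu, rfl⟩
      · rintro l hl _ ⟨u, hu, rfl⟩
        exact ⟨g ⟨l, hAL hl⟩ u, hWA _ hl u hu, rfl⟩
  have hO : Cfsg.Lib.Offender.Offends g (A.subgroupOf L) := by
    intro B hB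
    set B' := B.map L.subtype with hB'
    have hB'A : B' ≤ A := by
      rintro _ ⟨b, hb, rfl⟩; exact hB hb
    have hcB : Nat.card ↥B' = Nat.card ↥B :=
      (Nat.card_congr (B.equivMapOfInjective L.subtype L.subtype_injective).toEquiv).symm
    set H := Cfsg.Lib.Offender.fixed ρ A
    set F := Cfsg.Lib.Offender.fixed ρ B'
    have hHF : H ≤ F := fun v hv b hb => hv b (hB'A hb)
    have hp' : Nat.card ↥B * Nat.card ↥F ≤ Nat.card ↥A * Nat.card ↥H := hcB ▸ hP B' hB'A
    have h1 : Nat.card ↥(Cfsg.Lib.Offender.fixed g B) ≤ Nat.card ↥(M ⊓ F) := by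
      refine Nat.card_le_card_of_injective (fun v : ↥(Cfsg.Lib.Offender.fixed g B) =>
        (⟨((v : ↥M) : V), (v : ↥M).2, ?_⟩ : ↥(M ⊓ F))) ?_
      · rintro _ ⟨b, hb, rfl⟩
        exact congrArg Subtype.val (v.2 b hb)
      · intro v w e
        exact Subtype.ext (Subtype.ext (congrArg (fun z : ↥(M ⊓ F) => (z : V)) e))
    have h2 : Nat.card ↥(H ⊓ M) ≤ Nat.card ↥(Cfsg.Lib.Offender.fixed g (A.subgroupOf L)) := by
      refine Nat.card_le_card_of_injective (fun v : ↥(H ⊓ M) =>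
        (⟨⟨(v : V), v.2.2⟩, fun a ha => Subtype.ext (v.2.1 _ ha)⟩ :
          ↥(Cfsg.Lib.Offender.fixed g (A.subgroupOf L)))) ?_
      intro v w e
      exact Subtype.ext (congrArg (fun z : ↥(Cfsg.Lib.Offender.fixed g (A.subgroupOf L)) =>
        ((z : ↥M) : V)) e)
    have h3 := Cfsg.Lib.Offender.card_mul_card_le' H (M ⊓ F)
    have h4 : Nat.card ↥(H ⊓ (M ⊓ F)) ≤ Nat.card ↥(H ⊓ M) :=
      Nat.card_mono (Set.toFinite _) (SetLike.coe_subset_coe.2
        (inf_le_inf_left _ inf_le_left))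
    have h5 : Nat.card ↥(H ⊔ (M ⊓ F)) ≤ Nat.card ↥F :=
      Nat.card_mono (Set.toFinite _) (SetLike.coe_subset_coe.2 (sup_le hHF inf_le_right))
    rw [Cfsg.Lib.Offender.card_subgroupOf hAL]
    refine Nat.le_of_mul_le_mul_left ?_ (Nat.card_pos (α := ↥H))
    calc Nat.card ↥H * (Nat.card ↥B * Nat.card ↥(Cfsg.Lib.Offender.fixed g B))
        ≤ Nat.card ↥H * (Nat.card ↥B * Nat.card ↥(M ⊓ F)) :=
          Nat.mul_le_mul_left _ (Nat.mul_le_mul_left _ h1)
      _ = Nat.card ↥B * (Nat.card ↥H * Nat.card ↥(M ⊓ F)) := by ring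
      _ ≤ Nat.card ↥B * (Nat.card ↥(H ⊓ M) * Nat.card ↥F) :=
          Nat.mul_le_mul_left _ (h3.trans (Nat.mul_le_mul h4 h5))
      _ = (Nat.card ↥B * Nat.card ↥F) * Nat.card ↥(H ⊓ M) := by ring
      _ ≤ (Nat.card ↥A * Nat.card ↥H) *
          Nat.card ↥(Cfsg.Lib.Offender.fixed g (A.subgroupOf L)) := Nat.mul_le_mul hp' h2
      _ = _ := by ring
  exact hmove ((Cfsg.Lib.Offender.mem_stab_subgroupOf hKL ⟨a₀, hAL ha₀⟩).1
    (Cfsg.Lib.Offender.le_stab hgen (hPair.subgroupOf hKL) hmin hO ha₀))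

end Cfsg.Agent.S3086
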