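import Cfsg.Statements.S3087


set_option autoImplicit false
open Cfsg

namespace Cfsg.Agent.S3087

/-- Let p be a prime, G a finite group acting linearly on a finite vector space V over the field with p elements, W a G-invariant subspace, and A a subgroup of G with |A|·|C_V(A)| ≥ |B|·|C_V(B)| for every subgroup B of A. Then |A|·|C_W(A)| ≥ |B|·|C_W(B)| for every subgroup B of A that contains C_A(W); that is, the image of A in the group induced on W satisfies the same maximality condition. -/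
theorem result {G V : Type*} [Group G] [Finite G] [AddCommGroup V] [Finite V] (p : ℕ) [Fact p.Prime] [Module (ZMod p) V]
    (ρ : Representation (ZMod p) G V) (W : Submodule (ZMod p) V) (hW : ∀ g : G, ∀ w ∈ W, ρ g w ∈ W)
    (A : Subgroup G)
    (hP : ∀ B : Subgroup G, B ≤ A →
      Nat.card ↥B * Nat.card {v : V // ∀ b ∈ B, ρ b v = v} ≤ Nat.card ↥A * Nat.card {v : V // ∀ a ∈ A, ρ a v = v})
    (B : Subgroup G) (hBA : B ≤ A) (hCB : ∀ a ∈ A, (∀ w ∈ W, ρ a w = w) → a ∈ B) :
    Nat.card ↥B * Nat.card {w : W // ∀ b ∈ B, ρ b w = w} ≤ Nat.card ↥A * Nat.card {w : W // ∀ a ∈ A, ρ a w = w} := by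
  classical
  let F : Subgroup G → AddSubgroup V := fun A =>
    { carrier := {v | ∀ a ∈ A, ρ a v = v}
      zero_mem' := fun a _ => map_zero _
      add_mem' := fun hx hy a ha => by rw [map_add, hx a ha, hy a ha]
      neg_mem' := fun hx a ha => by rw [map_neg, hx a ha] }
  have e : ∀ A : Subgroup G, Nat.card {w : W // ∀ a ∈ A, ρ a w = w} =
      Nat.card ↥(F A ⊓ W.toAddSubgroup) := fun A => Nat.card_congr
    { toFun := fun w => ⟨w.1.1, w.2, w.1.2⟩
      invFun := fun v => ⟨⟨v.1, v.2.2⟩, v.2.1⟩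
      left_inv := fun _ => rfl
      right_inv := fun _ => rfl }
  have hF : F A ≤ F B := fun v hv b hb => hv b (hBA hb)
  rw [e, e]
  have key : Nat.card ↥(F A) * Nat.card ↥(F B ⊓ W.toAddSubgroup) ≤
      Nat.card ↥(F B) * Nat.card ↥(F A ⊓ W.toAddSubgroup) := by
    have h0 : (F B ⊓ W.toAddSubgroup) ⊓ F A = F A ⊓ W.toAddSubgroup := by
      ext v
      exact ⟨fun h => ⟨h.2, h.1.2⟩, fun h => ⟨⟨hF h.1, h.2⟩, h.1⟩⟩
    have h1 : Nat.card ↥(F A ⊓ W.toAddSubgroup) *
        (F B ⊓ W.toAddSubgroup).relIndex (F A) = Nat.card ↥(F A) := by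
      rw [← AddSubgroup.inf_relIndex_right, h0, ← AddSubgroup.relIndex_bot_left,
        ← AddSubgroup.relIndex_bot_left,
        AddSubgroup.relIndex_mul_relIndex ⊥ _ _ bot_le inf_le_left]
    have h2 : Nat.card ↥(F B ⊓ W.toAddSubgroup) *
        (F B ⊓ W.toAddSubgroup).relIndex (F B) = Nat.card ↥(F B) := by
      rw [← AddSubgroup.relIndex_bot_left, ← AddSubgroup.relIndex_bot_left,
        AddSubgroup.relIndex_mul_relIndex ⊥ _ _ bot_le inf_le_left]
    rw [← h1, ← h2]
    refine le_of_eq_of_le (by ring) (le_of_le_of_eq (Nat.mul_le_mul_left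
      (Nat.card ↥(F B ⊓ W.toAddSubgroup) * Nat.card ↥(F A ⊓ W.toAddSubgroup))
      (AddSubgroup.relIndex_le_of_le_right hF AddSubgroup.index_ne_zero_of_finite)) (by ring))
  refine Nat.le_of_mul_le_mul_left ?_ (Nat.card_pos (α := ↥(F B)))
  calc Nat.card ↥(F B) * (Nat.card B * Nat.card ↥(F B ⊓ W.toAddSubgroup))
      = (Nat.card B * Nat.card ↥(F B)) * Nat.card ↥(F B ⊓ W.toAddSubgroup) := by ring
    _ ≤ (Nat.card A * Nat.card ↥(F A)) * Nat.card ↥(F B ⊓ W.toAddSubgroup) :=
        Nat.mul_le_mul_right _ (hP B hBA)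
    _ = Nat.card A * (Nat.card ↥(F A) * Nat.card ↥(F B ⊓ W.toAddSubgroup)) := by ring
    _ ≤ Nat.card A * (Nat.card ↥(F B) * Nat.card ↥(F A ⊓ W.toAddSubgroup)) :=
        Nat.mul_le_mul_left _ key
    _ = _ := by ring

end Cfsg.Agent.S3087
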