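import Cfsg.Statements.S3104
import Cfsg.Agent.GroupStructure3.RankFourTop.Glue
import Cfsg.Agent.GroupStructure3.RankFourTop.Types
import Cfsg.Agent.S3103
import Cfsg.Agent.S0255
import Cfsg.Agent.S0495
-- import your own Cfsg.Agent.* helpers here

set_option autoImplicit false
open Cfsg

namespace Cfsg.Agent.S3104

open Equiv Equiv.Perm in
/-- The symmetric group of degree six inside the alternating group of degree eight. -/
theorem six_to_eight : ∃ ψ : Perm (Fin 6) →* alternatingGroup (Fin 8), Function.Injective ψ := by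
  let e2 : Perm (Fin 2) ≃* ℤˣ := MulEquiv.ofBijective Equiv.Perm.sign (by decide +kernel)
  let h : Perm (Fin 6) →* Perm (Fin 8) :=
    (Equiv.permCongrHom (finSumFinEquiv (m := 6) (n := 2))).toMonoidHom.comp
      ((Equiv.Perm.sumCongrHom (Fin 6) (Fin 2)).comp
        ((MonoidHom.id _).prod (e2.symm.toMonoidHom.comp Equiv.Perm.sign)))
  have hinj : Function.Injective h := fun a b hab =>
    congrArg Prod.fst (Equiv.Perm.sumCongrHom_injective
      ((Equiv.permCongrHom (finSumFinEquiv (m := 6) (n := 2))).injective hab))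
  have hev : ∀ σ, Equiv.Perm.sign (h σ) = 1 := fun σ => by
    show Equiv.Perm.sign ((finSumFinEquiv (m := 6) (n := 2)).permCongr (Equiv.Perm.sumCongr σ (e2.symm (Equiv.Perm.sign σ)))) = 1
    rw [Equiv.Perm.sign_permCongr, Equiv.Perm.sign_sumCongr]
    rw [show Equiv.Perm.sign (e2.symm (Equiv.Perm.sign σ)) = Equiv.Perm.sign σ from e2.apply_symm_apply _, Int.units_mul_self]
  exact ⟨h.codRestrict _ fun σ => Equiv.Perm.mem_alternatingGroup.2 (hev σ),
    fun a b hab => hinj (congrArg Subtype.val hab)⟩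


/-- Let X be a finite nonsolvable 2-constrained group with no nontrivial normal subgroup of odd order such that O₂(X) has sectional 2-rank at most 4, and write Q for X/O₂(X). Then Q is isomorphic to the projective special linear group of dimension 3 over the field with 2 elements, to an alternating group of degree n with 5 ≤ n ≤ 8, to a symmetric group of degree n with 5 ≤ n ≤ 7, or else O₃(Q) has order 3 and Q/O₃(Q) is isomorphic to the alternating or the symmetric group of degree 5 (so Q is the direct product of a group of order 3 with the alternating group of degree 5, or an extension of that direct product by a group of order 2). If moreover X itself has sectional 2-rank at most 4, then Q is not isomorphic to the symmetric group of degree 6 or 7 nor to the alternating group of degree 8. -/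
theorem result {X : Type*} [Group X] [Finite X] (hns : ¬ Group.IsSolvable X) (hc : Cfsg.IsPConstrained 2 X) (hO : Cfsg.oddCore X = ⊥)
    (h4 : Cfsg.SectionalPRankLE 2 4 ↥(Cfsg.pCore 2 X)) :
    ((∃ (F : Type) (_ : Field F) (_ : Fintype F), Fintype.card F = 2 ∧
          Nonempty (X ⧸ Cfsg.pCore 2 X ≃* Matrix.ProjectiveSpecialLinearGroup (Fin 3) F)) ∨
        (∃ n : ℕ, 5 ≤ n ∧ n ≤ 8 ∧ Nonempty (X ⧸ Cfsg.pCore 2 X ≃* ↥(alternatingGroup (Fin n)))) ∨
        (∃ n : ℕ, 5 ≤ n ∧ n ≤ 7 ∧ Nonempty (X ⧸ Cfsg.pCore 2 X ≃* Equiv.Perm (Fin n))) ∨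
        (Nat.card ↥(Cfsg.pCore 3 (X ⧸ Cfsg.pCore 2 X)) = 3 ∧
          (Nonempty ((X ⧸ Cfsg.pCore 2 X) ⧸ Cfsg.pCore 3 (X ⧸ Cfsg.pCore 2 X) ≃* ↥(alternatingGroup (Fin 5))) ∨
            Nonempty ((X ⧸ Cfsg.pCore 2 X) ⧸ Cfsg.pCore 3 (X ⧸ Cfsg.pCore 2 X) ≃* Equiv.Perm (Fin 5))))) ∧
      (Cfsg.SectionalPRankLE 2 4 X →
        ¬ (Nonempty (X ⧸ Cfsg.pCore 2 X ≃* Equiv.Perm (Fin 6)) ∨ Nonempty (X ⧸ Cfsg.pCore 2 X ≃* Equiv.Perm (Fin 7)) ∨
            Nonempty (X ⧸ Cfsg.pCore 2 X ≃* ↥(alternatingGroup (Fin 8))))) := by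
  haveI : Fact (Nat.Prime 2) := ⟨Nat.prime_two⟩
  obtain ⟨f₀, hf₀⟩ := S3103.result hc hO h4
  have hnsQ : ¬ Group.IsSolvable (X ⧸ Cfsg.pCore 2 X) := fun hs => hns (by
    haveI := hs
    haveI : Group.IsSolvable (Cfsg.pCore 2 X) := by
      haveI := (Cores.pCore_isPGroup (G := X) 2).isNilpotent
      infer_instance
    exact solvable_of_ker_le_range (Cfsg.pCore 2 X).subtype (QuotientGroup.mk' (Cfsg.pCore 2 X))
      (by rw [QuotientGroup.ker_mk', Subgroup.range_subtype]))
  have hd : Nat.card (X ⧸ Cfsg.pCore 2 X) ∣ 20160 := by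
    have := Subgroup.card_dvd_of_injective f₀ hf₀
    rw [nat_card_alternatingGroup, Nat.card_fin] at this
    simpa [Nat.factorial] using this
  have hO2 : Cfsg.pCore 2 (X ⧸ Cfsg.pCore 2 X) = ⊥ := Cores.pCore_quotient_self 2
  refine ⟨?_, ?_⟩
  · by_cases hOQ : Cfsg.pPrimeCore 2 (X ⧸ Cfsg.pCore 2 X) = ⊥
    · haveI : Nontrivial (X ⧸ Cfsg.pCore 2 X) := by
        by_contra h
        rw [not_nontrivial_iff_subsingleton] at h
        exact hnsQ inferInstance
      rcases SmallSimple.AltEightSubgroups.main hf₀ hOQ hO2 with h | h | h | ⟨hs, hc168⟩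
      · exact Or.inr (Or.inl h)
      · exact Or.inr (Or.inr (Or.inl ⟨5, le_rfl, by norm_num, h⟩))
      · exact Or.inr (Or.inr (Or.inl ⟨6, by norm_num, by norm_num, h⟩))
      · haveI := hs
        haveI : Fact (Nat.Prime 7) := ⟨by norm_num⟩
        obtain ⟨e1⟩ := S0495.result hc168 (F := ZMod 7) (ZMod.card 7)
        obtain ⟨e2⟩ := S0255.result (F := ZMod 7) (K := ZMod 2) (ZMod.card 7) (ZMod.card 2)
        exact Or.inl ⟨ZMod 2, inferInstance, inferInstance, ZMod.card 2, ⟨e1.trans e2⟩⟩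
    · exact Or.inr (Or.inr (Or.inr (GroupStructure3.RankFourTop.odd_case
        (f := (alternatingGroup (Fin 8)).subtype.comp f₀)
        (Subtype.val_injective.comp hf₀) hnsQ hd
        (fun q => Equiv.Perm.mem_alternatingGroup.1 (f₀ q).2) hOQ)))
  · intro h4X hcase
    rcases hcase with ⟨⟨e⟩⟩ | ⟨⟨e⟩⟩ | ⟨⟨e⟩⟩
    · exact GroupStructure3.RankFourTop.not_six hc hO h4X e.symm.toMonoidHom e.symm.injective
    · exact GroupStructure3.RankFourTop.not_six hc hO h4X
        (e.symm.toMonoidHom.comp (Equiv.Perm.viaEmbeddingHom Fin.castSuccEmb))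
        (e.symm.injective.comp (Equiv.Perm.viaEmbeddingHom_injective _))
    · obtain ⟨ψ, hψ⟩ := six_to_eight
      exact GroupStructure3.RankFourTop.not_six hc hO h4X (e.symm.toMonoidHom.comp ψ) (e.symm.injective.comp hψ)

end Cfsg.Agent.S3104
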