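import Cfsg.Statements.S3146
import Cfsg.Agent.Lib.InvSym.Main

set_option autoImplicit false
open Cfsg

namespace Cfsg.Agent.S3146

/-- The six points other than the last one. -/
def sixEquiv : Fin 6 ≃ {i : Fin 7 // i ≠ 6} := finSuccAboveEquiv 6

/-- Let G be a finite group of even order with an involution t whose centralizer is isomorphic to the direct product of a group of order 2 and the symmetric group of degree 6. Then G has a subgroup of index 2. -/
theorem result {G : Type*} [Group G] [Finite G] (hG : Even (Nat.card G)) (t : G) (ht : orderOf t = 2)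
    (hC : Nonempty (↥(Subgroup.centralizer ({t} : Set G)) ≃* Multiplicative (ZMod 2) × Equiv.Perm (Fin 6))) :
    ∃ H : Subgroup G, H.index = 2 := by
  refine InvSym.index_two_of_centralizer 6
    ((Equiv.Perm.ofSubtype).comp sixEquiv.permCongrHom.toMonoidHom) ?_ ?_ (by norm_num) 45
    (by decide) (by decide) t ht hC
  · exact Equiv.Perm.ofSubtype_injective.comp sixEquiv.permCongrHom.injective
  · intro σ hσ
    have h : ∀ x : Fin 7, σ x ≠ 6 ↔ x ≠ 6 := fun x => by
      refine not_congr ⟨fun h => σ.injective (h.trans hσ.symm), fun h => by rw [h, hσ]⟩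
    refine ⟨sixEquiv.permCongrHom.symm (σ.subtypePerm h), ?_⟩
    show Equiv.Perm.ofSubtype (sixEquiv.permCongrHom (sixEquiv.permCongrHom.symm _)) = σ
    rw [MulEquiv.apply_symm_apply, Equiv.Perm.ofSubtype_subtypePerm]
    intro x hx hx'
    exact hx (hx' ▸ hσ)

end Cfsg.Agent.S3146
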