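import Cfsg.Statements.S3153
import Mathlib
import Cfsg.Agent.Lib.Components.PComponents
import Cfsg.Agent.Lib.Coprime.Generation
import Cfsg.Agent.Lib.Cores.Basic

set_option linter.all false
open scoped commutatorElement

set_option autoImplicit false
open Cfsg

namespace Cfsg.Agent.S3153

open Subgroup Cfsg.Agent.Components.Basic

variable {X : Type*} [Group X] [Finite X]

theorem four_le {W : Subgroup X} [W.Normal] (hW : Odd (Nat.card W)) {a b : X} (ha : a * a = 1) (hb : b * b = 1)
    (hab : Commute a b) (ha1 : a ≠ 1) (hb1 : b ≠ 1) (hne : a ≠ b) (H : Subgroup X)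
    (h1 : W ⊓ centralizer {a} ≤ H) (h2 : W ⊓ centralizer {b} ≤ H) (h3 : W ⊓ centralizer {a * b} ≤ H) : W ≤ H := by
  have e1 : b * a = a * b := hab.eq.symm
  have e2 : a * b * (a * b) = 1 := by rw [mul_assoc, ← mul_assoc b, e1, mul_assoc a b b, hb, mul_one, ha]
  have e3 : a * (a * b) = b := by rw [← mul_assoc, ha, one_mul]
  have e4 : a * b * b = a := by rw [mul_assoc, hb, mul_one]
  have e5 : a * b * a = b := by rw [mul_assoc, e1, e3]
  have e6 : b * (a * b) = a := by rw [← mul_assoc, e1, e4]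
  let E : Subgroup X :=
    { carrier := {x | x = 1 ∨ x = a ∨ x = b ∨ x = a * b}
      one_mem' := Or.inl rfl
      mul_mem' := by
        rintro x y (rfl | rfl | rfl | rfl) (rfl | rfl | rfl | rfl) <;>
          simp [ha, hb, e1, e2, e3, e4, e5, e6]
      inv_mem' := by
        rintro x (rfl | rfl | rfl | rfl) <;>
          simp [inv_eq_of_mul_eq_one_right ha, inv_eq_of_mul_eq_one_right hb, e1] }
  haveI : IsMulCommutative E := ⟨⟨fun x y => Subtype.ext (by
    show (x : X) * y = y * x
    rcases x.2 with h | h | h | h <;> rcases y.2 with h' | h' | h' | h' <;> rw [h, h'] <;>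
      simp [e1, e2, e3, e4, e5, e6])⟩⟩
  have hexp : ∀ x : E, x ^ 2 = 1 := fun x => Subtype.ext (by
    show (x : X) ^ 2 = 1
    rcases x.2 with h | h | h | h <;> rw [h, sq] <;> simp [ha, hb, e2])
  have hncyc : ¬ IsCyclic E := by
    intro hc
    obtain ⟨c, hc⟩ := hc.exists_generator
    have : ∀ x : E, x = 1 ∨ x = c := fun x => by
      obtain ⟨i, rfl⟩ := hc x
      show c ^ i = 1 ∨ c ^ i = c
      have hc2 : c ^ (2 : ℤ) = 1 := by exact_mod_cast hexp c
      rcases Int.even_or_odd i with ⟨k, rfl⟩ | ⟨k, rfl⟩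
      · left; rw [← two_mul, zpow_mul, hc2, one_zpow]
      · right; rw [zpow_add, zpow_mul, hc2, one_zpow, one_mul, zpow_one]
    rcases this ⟨a, Or.inr (Or.inl rfl)⟩ with h | h
    · exact ha1 (congrArg Subtype.val h)
    · rcases this ⟨b, Or.inr (Or.inr (Or.inl rfl))⟩ with h' | h'
      · exact hb1 (congrArg Subtype.val h')
      · exact hne (congrArg Subtype.val (h.trans h'.symm))
  have hcop : (Nat.card E).Coprime (Nat.card W) := by
    haveI : Fact (Nat.Prime 2) := ⟨Nat.prime_two⟩
    obtain ⟨k, hk⟩ := IsPGroup.iff_card.1 (show IsPGroup 2 E from fun x => ⟨1, by rw [pow_one]; exact hexp x⟩)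
    rw [hk]; exact (Nat.coprime_two_left.2 hW).pow_left k
  rw [← Coprime.fixedGen_eq hncyc (by rw [normalizer_eq_top]; exact le_top) hcop]
  refine iSup₂_le fun e he => ?_
  rcases he.1 with h | h | h | h
  · exact absurd h he.2
  · rw [h]; exact h1
  · rw [h]; exact h2
  · rw [h]; exact h3

theorem mem_sylow_of_normalize {G : Type*} [Group G] [Finite G] (S : Sylow 2 G) {g : G}
    (hg : ∀ s ∈ (S : Subgroup G), g * s * g⁻¹ ∈ (S : Subgroup G)) (hg2 : g ^ 2 ∈ (S : Subgroup G)) :
    g ∈ (S : Subgroup G) := by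
  haveI : Fact (Nat.Prime 2) := ⟨Nat.prime_two⟩
  have hN : g ∈ normalizer ((S : Subgroup G) : Set G) := by
    rw [mem_normalizer_iff]
    intro h
    refine ⟨hg h, fun hh => ?_⟩
    have e : h = (g ^ 2)⁻¹ * (g * (g * h * g⁻¹) * g⁻¹) * g ^ 2 := by rw [sq]; group
    rw [e]
    exact mul_mem (mul_mem (inv_mem hg2) (hg _ hh)) hg2
  have hp : IsPGroup 2 (zpowers g) := by
    obtain ⟨k, hk⟩ := S.2 ⟨g ^ 2, hg2⟩
    obtain ⟨i, -, hi⟩ := (Nat.dvd_prime_pow Nat.prime_two).1 (orderOf_dvd_of_pow_eq_one (x := g)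
      (n := 2 ^ (k + 1)) (by
        rw [pow_succ', pow_mul]; exact congrArg Subtype.val hk))
    exact IsPGroup.of_card (n := i) (by rw [Nat.card_zpowers, hi])
  have h := hp.inf_normalizer_sylow S
  exact (h.le ⟨mem_zpowers g, hN⟩).2

theorem eq_top_or_central {P N : Subgroup X} (hP : Cfsg.IsQuasisimple P) (hn : ∀ x ∈ P, ∀ y ∈ N, y ∈ P → x * y * x⁻¹ ∈ N) :
    P ≤ N ∨ ∀ y ∈ N, y ∈ P → ∀ x ∈ P, x * y = y * x := by
  haveI : (N.subgroupOf P).Normal := ⟨fun y hy x => hn x x.2 y hy y.2⟩
  rcases quasisimple_eq_top_or_le_center_of_normal hP (N.subgroupOf P) with h | h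
  · exact Or.inl (subgroupOf_eq_top.1 h)
  · exact Or.inr fun y hy hyP x hx => congrArg Subtype.val
      (Subgroup.mem_center_iff.1 (h (show (⟨y, hyP⟩ : P) ∈ N.subgroupOf P from hy)) ⟨x, hx⟩)

theorem perfect_of_quasisimple {P : Subgroup X} (hP : Cfsg.IsQuasisimple P) : ⁅P, P⁆ = P := by
  have := hP.1
  have h := congrArg (Subgroup.map P.subtype) (Group.IsPerfect.commutator_eq_top (G := P))
  rwa [Subgroup.map_subtype_commutator, ← MonoidHom.range_eq_map, range_subtype] at h

theorem commute_of_double {P D : Subgroup X} (hperf : ⁅P, P⁆ = P)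
    (h : ∀ a ∈ P, ∀ b ∈ D, ∀ x ∈ P, ⁅a, b⁆ * x = x * ⁅a, b⁆) : ⁅P, D⁆ = ⊥ := by
  have h1 : ⁅P, D⁆ ≤ centralizer (P : Set X) := commutator_le.2 fun a ha b hb =>
    Subgroup.mem_centralizer_iff.2 fun x hx => (h a ha b hb x hx).symm
  have h2 : ⁅⁅P, D⁆, P⁆ = ⊥ := commutator_eq_bot_iff_le_centralizer.2 h1
  have h3 : ⁅⁅D, P⁆, P⁆ = ⊥ := by rw [commutator_comm D P, h2]
  have h4 := commutator_commutator_eq_bot_of_rotate h2 h3
  rwa [hperf] at h4

theorem quasisimple_pcomp {P L : Subgroup X} (hLc : Cfsg.IsPComponent 2 L) (hPL : P ≤ L)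
    (hperf : ⁅P, P⁆ = P) (heven : ¬ Odd (Nat.card P)) (hPW : ⁅P, Cfsg.oddCore X⁆ = ⊥) :
    Cfsg.IsQuasisimple L := by
  haveI : Fact (Nat.Prime 2) := ⟨Nat.prime_two⟩
  set O := Cfsg.pPrimeCore 2 X with hO
  rw [Components.PComponents.pcomp_isQuasisimple_iff hLc, commutator_eq_bot_iff_le_centralizer]
  refine le_trans ?_ (centralizer_le (SetLike.coe_subset_coe.2 inf_le_left))
  have hPC : P ≤ L ⊓ centralizer (O : Set X) :=
    le_inf hPL (commutator_eq_bot_iff_le_centralizer.1 hPW)
  haveI : (centralizer (O : Set X)).Normal := by infer_instance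
  rcases Components.PComponents.pcomp_eq_or_commutator_le hLc inf_le_left
    (hLc.1.inf (inferInstance : (centralizer (O : Set X)).Normal).isSubnormal) with h | h
  · exact h.ge.trans inf_le_right
  · exfalso
    have hPO : P ≤ O := by
      rw [← hperf]
      exact (commutator_mono hPC hPL).trans (h.trans inf_le_left)
    exact heven (Nat.coprime_two_right.1
      ((Cores.pPrimeCore_card_coprime (G := X) 2).coprime_dvd_left (card_dvd_of_le hPO)))

/-- Let X be a finite group and P a standard subgroup of X whose centralizer has 2-rank at most 1 and whose centre has odd order. Let S be a Sylow 2-subgroup of N_X(P) and t an involution of S centralizing P. Suppose some element g of X normalizes S, does not lie in S, has its square in S, and conjugates t into P·C_X(P). Then P commutes elementwise with the largest normal odd-order subgroup O(X) of X; consequently every t-invariant 2-component of X containing P is quasisimple. -/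
theorem result {X : Type*} [Group X] [Finite X] (P : Subgroup X) (hP : Cfsg.IsStandardSubgroup P)
    (hr : Cfsg.PRankLE 2 1 ↥(Subgroup.centralizer (P : Set X))) (hZ : Odd (Nat.card ↥(Subgroup.center ↥P)))
    (S : Sylow 2 ↥(Subgroup.normalizer (P : Set X))) (t : X) (ht : orderOf t = 2) (htS : t ∈ (S : Subgroup ↥(Subgroup.normalizer (P : Set X))).map (Subgroup.normalizer (P : Set X)).subtype)
    (htP : t ∈ Subgroup.centralizer (P : Set X))
    (g : X) (hgN : ∀ s ∈ (S : Subgroup ↥(Subgroup.normalizer (P : Set X))).map (Subgroup.normalizer (P : Set X)).subtype, g * s * g⁻¹ ∈ (S : Subgroup ↥(Subgroup.normalizer (P : Set X))).map (Subgroup.normalizer (P : Set X)).subtype)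
    (hgS : g ∉ (S : Subgroup ↥(Subgroup.normalizer (P : Set X))).map (Subgroup.normalizer (P : Set X)).subtype) (hg2 : g ^ 2 ∈ (S : Subgroup ↥(Subgroup.normalizer (P : Set X))).map (Subgroup.normalizer (P : Set X)).subtype)
    (hgt : g * t * g⁻¹ ∈ P ⊔ Subgroup.centralizer (P : Set X)) :
    ⁅P, Cfsg.oddCore X⁆ = ⊥ ∧
      ∀ L : Subgroup X, Cfsg.IsPComponent 2 L → P ≤ L → (∀ l ∈ L, t * l * t⁻¹ ∈ L) → Cfsg.IsQuasisimple ↥L := by
  haveI : Fact (Nat.Prime 2) := ⟨Nat.prime_two⟩
  obtain ⟨hqs, htight, -, hNN⟩ := hP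
  revert S
  set N := Subgroup.normalizer (P : Set X) with hN
  intro S htS hgN hgS hg2
  set S' := (S : Subgroup ↥N).map N.subtype with hS'
  set C := Subgroup.centralizer (P : Set X) with hCdef
  set W := Cfsg.oddCore X with hW
  have hWo : Odd (Nat.card W) := Nat.coprime_two_right.1 (Cores.pPrimeCore_card_coprime 2)
  have hWn : W.Normal := inferInstanceAs (Cfsg.pPrimeCore 2 X).Normal
  have hperf := perfect_of_quasisimple hqs
  have ht2 : t * t = 1 := by rw [← sq, ← ht, pow_orderOf_eq_one]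
  have ht1 : t ≠ 1 := fun h => by simp [h] at ht
  have hCt : Subgroup.centralizer ({t} : Set X) ≤ N := by
    intro h hh
    rw [hNN]
    by_contra hno
    have hodd := htight.2 h hno
    have hm : t ∈ C ⊓ C.map (MulAut.conj h).toMonoidHom := by
      refine ⟨htP, t, htP, ?_⟩
      show h * t * h⁻¹ = t
      rw [Subgroup.mem_centralizer_singleton_iff.1 hh, mul_inv_cancel_right]
    have := Odd.of_dvd_nat hodd (Subgroup.orderOf_dvd_natCard _ hm)
    rw [ht] at this
    exact absurd this (by decide)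
  have rank1 : ∀ u v : X, u ∈ C → v ∈ C → u * u = 1 → v * v = 1 → u ≠ 1 → v ≠ 1 → Commute u v → u = v := by
    intro u v hu hv hu2 hv2 hu1 hv1 huv
    by_contra hne
    have e1 : v * u = u * v := huv.eq.symm
    have e2 : u * v * (u * v) = 1 := by rw [mul_assoc, ← mul_assoc v, e1, mul_assoc u v v, hv2, mul_one, hu2]
    let A : Subgroup C := Subgroup.closure ({⟨u, hu⟩, ⟨v, hv⟩} : Set C)
    have hcomm : IsMulCommutative A := Subgroup.isMulCommutative_closure (by
      intro x hx y hy
      rcases hx with rfl | rfl <;> rcases hy with rfl | rfl <;>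
        first | rfl | exact Subtype.ext huv.eq | exact Subtype.ext huv.eq.symm)
    have hexp : ∀ a ∈ A, a ^ 2 = 1 := by
      intro a ha
      induction ha using Subgroup.closure_induction with
      | mem x hx => rcases hx with rfl | rfl
                    · exact Subtype.ext (by rw [SubmonoidClass.coe_pow, sq]; exact hu2)
                    · exact Subtype.ext (by rw [SubmonoidClass.coe_pow, sq]; exact hv2)
      | one => exact one_pow 2
      | mul x y hx hy ihx ihy =>
        have hc : (⟨x, hx⟩ : A) * ⟨y, hy⟩ = ⟨y, hy⟩ * ⟨x, hx⟩ := hcomm.is_comm.comm _ _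
        rw [(show Commute x y from congrArg Subtype.val hc).mul_pow, ihx, ihy, one_mul]
      | inv x _ ihx => rw [inv_pow, ihx, inv_one]
    have hle := hr A hcomm hexp
    have h3 : 3 ≤ Nat.card A := by
      have hinj : Function.Injective (![1, ⟨⟨u, hu⟩, Subgroup.subset_closure (Or.inl rfl)⟩,
          ⟨⟨v, hv⟩, Subgroup.subset_closure (Or.inr rfl)⟩] : Fin 3 → A) := by
        intro i j h
        fin_cases i <;> fin_cases j <;> first | rfl | (exfalso; simp [Subtype.ext_iff, hne, Ne.symm hne, hu1, hv1, Ne.symm hu1, Ne.symm hv1] at h)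
      simpa using Nat.card_le_card_of_injective _ hinj
    omega
  have hSN : S' ≤ N := Subgroup.map_subtype_le _
  have hS2 : IsPGroup 2 S' := S.2.map _
  have htc : ∀ s ∈ S', s * t = t * s := by
    set T0 := S' ⊓ C with hT0
    have hT2 : IsPGroup 2 T0 := hS2.to_le inf_le_left
    have htT : t ∈ T0 := ⟨htS, htP⟩
    haveI : Nontrivial T0 := ⟨⟨⟨t, htT⟩, 1, fun h => ht1 (congrArg Subtype.val h)⟩⟩
    haveI := hT2.center_nontrivial
    obtain ⟨z, hz⟩ := exists_ne (1 : Subgroup.center T0)
    obtain ⟨k, hk⟩ := hT2 (z : T0)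
    obtain ⟨i, -, hi⟩ := (Nat.dvd_prime_pow Nat.prime_two).1 (orderOf_dvd_of_pow_eq_one hk)
    have hi0 : i ≠ 0 := by
      rintro rfl
      rw [pow_zero, orderOf_eq_one_iff] at hi
      exact hz (Subtype.ext hi)
    set w : T0 := (z : T0) ^ (2 ^ (i - 1)) with hw
    have hw2 : w * w = 1 := by
      rw [← sq, hw, ← pow_mul, ← pow_succ, Nat.sub_add_cancel (by omega), ← hi, pow_orderOf_eq_one]
    have hw1 : w ≠ 1 := by
      intro h
      rw [hw, ← orderOf_dvd_iff_pow_eq_one, hi] at h
      have := Nat.le_of_dvd (by positivity) h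
      have := Nat.pow_lt_pow_right (show 1 < 2 by norm_num) (show i - 1 < i by omega)
      omega
    have hwc : w ∈ Subgroup.center T0 := Subgroup.pow_mem _ z.2 _
    have huniq : ∀ u ∈ T0, u * u = 1 → u ≠ 1 → u = w := fun u hu hu2 hu1 =>
      rank1 u w hu.2 w.2.2 hu2 (congrArg Subtype.val hw2) hu1 (fun h => hw1 (Subtype.ext h))
        (congrArg Subtype.val (Subgroup.mem_center_iff.1 hwc ⟨u, hu⟩))
    intro s hs
    have hconj : s * t * s⁻¹ ∈ T0 := by
      refine ⟨S'.mul_mem (S'.mul_mem hs htS) (S'.inv_mem hs), ?_⟩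
      have hsC : s ∈ Subgroup.normalizer (C : Set X) := hNN ▸ hSN hs
      exact (Subgroup.mem_normalizer_iff.1 hsC t).1 htP
    have e := huniq _ hconj (by rw [show s * t * s⁻¹ * (s * t * s⁻¹) = s * (t * t) * s⁻¹ by group, ht2, mul_one, mul_inv_cancel])
      (fun h => ht1 (conj_eq_one_iff.1 h))
    rw [← huniq t htT ht2 ht1] at e
    rwa [← mul_inv_eq_iff_eq_mul]
  set t' := g * t * g⁻¹ with ht'
  have ht'S : t' ∈ S' := hgN t htS
  have ht'2 : t' * t' = 1 := by rw [ht', show g * t * g⁻¹ * (g * t * g⁻¹) = g * (t * t) * g⁻¹ by group, ht2]; group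
  have hne : t' ≠ t := by
    intro h
    apply hgS
    have hgc : g ∈ N := hCt (Subgroup.mem_centralizer_singleton_iff.2 (mul_inv_eq_iff_eq_mul.1 h))
    refine ⟨⟨g, hgc⟩, mem_sylow_of_normalize S ?_ ?_, rfl⟩
    · intro s hs
      obtain ⟨r, hr', hre⟩ := hgN (s : X) ⟨s, hs, rfl⟩
      exact (Subtype.ext hre : r = ⟨g, hgc⟩ * s * ⟨g, hgc⟩⁻¹) ▸ hr'
    · obtain ⟨r, hr', hre⟩ := hg2
      exact (Subtype.ext hre : r = (⟨g, hgc⟩ : N) ^ 2) ▸ hr'
  rw [← SetLike.mem_coe, Subgroup.coe_mul_of_left_le_normalizer_right P C (fun p hp =>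
    Subgroup.centralizer_le_normalizer _ (Subgroup.mem_centralizer_iff.2 fun c hc =>
      (Subgroup.mem_centralizer_iff.1 hc p hp).symm))] at hgt
  obtain ⟨p, hp, c, hc, hpc⟩ := hgt
  have hpc' : Commute p c := Subgroup.mem_centralizer_iff.1 hc p hp
  obtain ⟨k, r, hrodd, hcard⟩ := Nat.exists_eq_two_pow_mul_odd (Nat.card_pos (α := X)).ne'
  obtain ⟨e, he1, he2⟩ := Nat.chineseRemainder ((Nat.coprime_two_left.2 hrodd).pow_left (k + 1)) 1 0
  have heodd : Odd e := by
    rw [Nat.odd_iff]
    have : e % 2 = 1 % 2 := Nat.ModEq.of_dvd (dvd_pow_self 2 (Nat.succ_ne_zero k)) he1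
    simpa using this
  have hre : r ∣ e := Nat.modEq_zero_iff_dvd.1 he2
  set p0 := p ^ e with hp0def
  set c0 := c ^ e with hc0def
  have hp0 : p0 ∈ P := P.pow_mem hp e
  have hc0 : c0 ∈ C := C.pow_mem hc e
  have ht'e : p0 * c0 = t' := by
    have hpc2 : p * c = t' := hpc
    rw [hp0def, hc0def, ← hpc'.mul_pow, hpc2]
    obtain ⟨m, rfl⟩ := heodd
    rw [pow_succ, pow_mul, sq, ht'2, one_pow, one_mul]
  have hpc0 : Commute p0 c0 := hpc'.pow_pow e e
  have hp02 : p0 * p0 = 1 := by
    set z := p0 * p0 with hzdef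
    have hzc : z = (c0 * c0)⁻¹ := by
      have h := ht'2
      rw [← ht'e, show p0 * c0 * (p0 * c0) = p0 * (c0 * p0) * c0 by group, ← hpc0.eq] at h
      exact eq_inv_of_mul_eq_one_left (by rw [hzdef, ← h]; group)
    have hz : (⟨z, P.mul_mem hp0 hp0⟩ : P) ∈ Subgroup.center P := Subgroup.mem_center_iff.2 fun x =>
      Subtype.ext (Subgroup.mem_centralizer_iff.1 (hzc ▸ C.inv_mem (C.mul_mem hc0 hc0) : z ∈ C) x x.2)
    have hd1 : Odd (orderOf z) := by
      rw [← show orderOf (⟨z, P.mul_mem hp0 hp0⟩ : P) = orderOf z from (Subgroup.orderOf_coe _).symm]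
      exact Odd.of_dvd_nat hZ (Subgroup.orderOf_dvd_natCard _ hz)
    have hd2 : orderOf z ∣ 2 ^ k := by
      refine orderOf_dvd_of_pow_eq_one ?_
      obtain ⟨m, rfl⟩ := hre
      rw [hzdef, hp0def, ← pow_add, ← pow_mul, show (r * m + r * m) * 2 ^ k = (2 ^ k * r) * (2 * m) by ring,
        pow_mul, ← hcard, pow_card_eq_one', one_pow]
    exact orderOf_eq_one_iff.1 (Nat.eq_one_of_dvd_coprimes ((Nat.coprime_two_left.2 hd1).pow_left k) hd2 dvd_rfl)
  have hc02 : c0 * c0 = 1 := by
    have h := ht'2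
    rw [← ht'e, show p0 * c0 * (p0 * c0) = p0 * (c0 * p0) * c0 by group, ← hpc0.eq,
      show p0 * (p0 * c0) * c0 = p0 * p0 * (c0 * c0) by group, hp02, one_mul] at h
    exact h
  have hpt : Commute p0 t := Subgroup.mem_centralizer_iff.1 htP p0 hp0
  have hct : c0 = 1 ∨ c0 = t := by
    by_cases h : c0 = 1
    · exact Or.inl h
    · refine Or.inr (rank1 c0 t hc0 htP hc02 ht2 h ht1 ?_)
      have h1 : Commute t' t := htc t' ht'S
      rw [show c0 = p0⁻¹ * t' by rw [← ht'e]; group]
      exact hpt.inv_left.mul_left h1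
  have hp1 : p0 ≠ 1 := by
    intro h
    rw [h, one_mul] at ht'e
    rcases hct with h' | h'
    · rw [h'] at ht'e
      exact ht1 (conj_eq_one_iff.1 ht'e.symm)
    · exact hne (ht'e.symm.trans h')
  have heven : ¬ Odd (Nat.card P) := by
    intro h
    have := Odd.of_dvd_nat h (Subgroup.orderOf_dvd_natCard _ hp0)
    rw [orderOf_eq_prime (by rw [sq, hp02]) hp1] at this
    exact absurd this (by decide)
  have hnc : ¬ ∀ x ∈ P, x * p0 = p0 * x := by
    intro h
    have hz : (⟨p0, hp0⟩ : P) ∈ Subgroup.center P := Subgroup.mem_center_iff.2 fun x => Subtype.ext (h x x.2)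
    have := Odd.of_dvd_nat hZ (Subgroup.orderOf_dvd_natCard _ hz)
    rw [← Subgroup.orderOf_coe, show ((⟨p0, hp0⟩ : P) : X) = p0 from rfl, orderOf_eq_prime (by rw [sq, hp02]) hp1] at this
    exact absurd this (by decide)
  have hD : ⁅P, W ⊓ Subgroup.centralizer ({t} : Set X)⁆ = ⊥ := by
    refine commute_of_double hperf fun a ha b hb x hx => ?_
    rcases eq_top_or_central hqs (N := W) (fun x _ y hy _ => hWn.conj_mem y hy x) with h | h
    · exact absurd (Odd.of_dvd_nat hWo (Subgroup.card_dvd_of_le h)) heven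
    · refine (h _ ?_ ?_ x hx).symm
      · rw [commutatorElement_def]
        exact W.mul_mem (hWn.conj_mem b hb.1 a) (W.inv_mem hb.1)
      · rw [commutatorElement_def, show a * b * a⁻¹ * b⁻¹ = a * (b * a⁻¹ * b⁻¹) by group]
        exact P.mul_mem ha ((Subgroup.mem_normalizer_iff.1 (hCt hb.2) a⁻¹).1 (P.inv_mem ha))
  have hWt : ∀ x ∈ P, W ⊓ Subgroup.centralizer ({t} : Set X) ≤ Subgroup.centralizer ({x} : Set X) := fun x hx b hb =>
    Subgroup.mem_centralizer_singleton_iff.2
      (Subgroup.mem_centralizer_iff.1 (Subgroup.commutator_eq_bot_iff_le_centralizer.1 hD hx) b hb)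
  have hPW : ⁅P, W⁆ = ⊥ := by
    rw [Subgroup.commutator_eq_bot_iff_le_centralizer]
    have hCWn : ∀ x ∈ P, ∀ y ∈ Subgroup.centralizer (W : Set X), y ∈ P → x * y * x⁻¹ ∈ Subgroup.centralizer (W : Set X) :=
      fun x _ y hy _ => (inferInstance : (Subgroup.centralizer (W : Set X)).Normal).conj_mem y hy x
    rcases eq_top_or_central hqs hCWn with h | h
    · exact h
    exfalso
    have hsub : W ⊓ Subgroup.centralizer ({t} : Set X) ≤ W ⊓ Subgroup.centralizer ({t'} : Set X) := by
      intro b hb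
      refine ⟨hb.1, Subgroup.mem_centralizer_singleton_iff.2 ?_⟩
      have h1 : Commute b p0 := Subgroup.mem_centralizer_singleton_iff.1 (hWt p0 hp0 hb)
      have h2 : Commute b c0 := by
        rcases hct with h' | h' <;> rw [h']
        · exact Commute.one_right b
        · exact Subgroup.mem_centralizer_singleton_iff.1 hb.2
      rw [← ht'e]
      exact (h1.mul_right h2).eq
    have hcardeq : Nat.card ↥(W ⊓ Subgroup.centralizer ({t'} : Set X)) =
        Nat.card ↥(W ⊓ Subgroup.centralizer ({t} : Set X)) := by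
      rw [← Subgroup.card_map_of_injective (K := W ⊓ Subgroup.centralizer ({t} : Set X))
        (f := (MulAut.conj g).toMonoidHom) (MulAut.conj g).injective]
      suffices e : W ⊓ Subgroup.centralizer ({t'} : Set X) =
          (W ⊓ Subgroup.centralizer ({t} : Set X)).map (MulAut.conj g).toMonoidHom by rw [e]
      refine le_antisymm ?_ ?_
      · rintro b ⟨hbW, hbC⟩
        refine ⟨g⁻¹ * b * g, ⟨by simpa using hWn.conj_mem b hbW g⁻¹, Subgroup.mem_centralizer_singleton_iff.2 ?_⟩, by
          show g * (g⁻¹ * b * g) * g⁻¹ = b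
          group⟩
        have := Subgroup.mem_centralizer_singleton_iff.1 hbC
        rw [ht'] at this
        calc g⁻¹ * b * g * t = g⁻¹ * (b * (g * t * g⁻¹)) * g := by group
          _ = _ := by rw [this]; group
      · rintro _ ⟨b, ⟨hbW, hbC⟩, rfl⟩
        refine ⟨hWn.conj_mem b hbW g, Subgroup.mem_centralizer_singleton_iff.2 ?_⟩
        show g * b * g⁻¹ * (g * t * g⁻¹) = g * t * g⁻¹ * (g * b * g⁻¹)
        calc g * b * g⁻¹ * (g * t * g⁻¹) = g * (b * t) * g⁻¹ := by group
          _ = _ := by rw [Subgroup.mem_centralizer_singleton_iff.1 hbC]; group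
    have hWeq : W ⊓ Subgroup.centralizer ({t'} : Set X) = W ⊓ Subgroup.centralizer ({t} : Set X) :=
      (Subgroup.eq_of_le_of_card_ge hsub hcardeq.le).symm
    have hptne : p0 ≠ t := fun e => hnc fun x hx => e ▸ Subgroup.mem_centralizer_iff.1 htP x hx
    rcases hct with hc' | hc'
    · rw [hc', mul_one] at ht'e
      rw [← ht'e] at hWeq
      have hle : W ≤ Subgroup.centralizer ({t * p0} : Set X) := by
        refine four_le hWo ht2 hp02 hpt.symm ht1 hp1 hptne.symm _ ?_ ?_ inf_le_right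
        · intro b hb
          exact Subgroup.mem_centralizer_singleton_iff.2
            ((show Commute b t from Subgroup.mem_centralizer_singleton_iff.1 hb.2).mul_right
              (Subgroup.mem_centralizer_singleton_iff.1 (hWt p0 hp0 hb))).eq
        · intro b hb
          rw [hWeq] at hb
          exact Subgroup.mem_centralizer_singleton_iff.2
            ((show Commute b t from Subgroup.mem_centralizer_singleton_iff.1 hb.2).mul_right
              (Subgroup.mem_centralizer_singleton_iff.1 (hWt p0 hp0 hb))).eq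
      have hall : ∀ x ∈ P, p0 * x * p0 * x⁻¹ ∈ Subgroup.centralizer (W : Set X) := by
        intro x hx
        have htp : t * p0 ∈ Subgroup.centralizer (W : Set X) := Subgroup.mem_centralizer_iff.2 fun b hb =>
          Subgroup.mem_centralizer_singleton_iff.1 (hle hb)
        have h1 := (inferInstance : (Subgroup.centralizer (W : Set X)).Normal).conj_mem _ htp x
        have h2 := Subgroup.mul_mem _ (Subgroup.inv_mem _ htp) h1
        have hxt : x * t = t * x := Subgroup.mem_centralizer_iff.1 htP x hx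
        have hpi : p0⁻¹ = p0 := inv_eq_of_mul_eq_one_right hp02
        rwa [mul_inv_rev, hpi, show p0 * t⁻¹ * (x * (t * p0) * x⁻¹) = p0 * t⁻¹ * (x * t) * p0 * x⁻¹ by group, hxt,
          show p0 * t⁻¹ * (t * x) * p0 * x⁻¹ = p0 * x * p0 * x⁻¹ by group] at h2
      have h0 : ⁅P, Subgroup.zpowers p0⁆ = ⊥ := by
        refine commute_of_double hperf fun a ha b hb x hx => ?_
        obtain ⟨i, rfl⟩ := hb
        show ⁅a, p0 ^ i⁆ * x = x * ⁅a, p0 ^ i⁆
        rcases Int.even_or_odd i with ⟨m, rfl⟩ | ⟨m, rfl⟩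
        · rw [← two_mul, zpow_mul, zpow_two, hp02, one_zpow, commutatorElement_one_right, one_mul, mul_one]
        · rw [zpow_add, zpow_mul, zpow_two, hp02, one_zpow, one_mul, zpow_one, commutatorElement_def,
            inv_eq_of_mul_eq_one_right hp02]
          have hm := Subgroup.inv_mem _ (hall a ha)
          rw [mul_inv_rev, mul_inv_rev, mul_inv_rev, inv_inv, inv_eq_of_mul_eq_one_right hp02] at hm
          have hmP : a * p0 * a⁻¹ * p0 ∈ P := P.mul_mem (P.mul_mem (P.mul_mem ha hp0) (P.inv_mem ha)) hp0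
          exact (h _ (by simpa [mul_assoc] using hm) hmP x hx).symm
      exact hnc fun x hx => (Subgroup.mem_centralizer_iff.1
        (Subgroup.commutator_eq_bot_iff_le_centralizer.1 h0 hx) p0 (Subgroup.mem_zpowers p0)).symm
    · rw [hc'] at ht'e
      rw [← ht'e, hpt.eq] at hWeq
      have hle : W ≤ Subgroup.centralizer ({p0} : Set X) := by
        refine four_le hWo ht2 hp02 hpt.symm ht1 hp1 hptne.symm _ ?_ inf_le_right ?_
        · exact hWt p0 hp0
        · rw [hWeq]; exact hWt p0 hp0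
      exact hnc fun x hx => h p0 (Subgroup.mem_centralizer_iff.2 fun b hb =>
        Subgroup.mem_centralizer_singleton_iff.1 (hle hb)) hp0 x hx
  exact ⟨hPW, fun L hL hPL _ => quasisimple_pcomp hL hPL hperf heven hPW⟩

end Cfsg.Agent.S3153
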