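import Cfsg.Statements.S3154
import Cfsg.Agent.Lib.Perm.L34Cover.Cover
-- import your own Cfsg.Agent.* helpers here

set_option autoImplicit false
open Cfsg

namespace Cfsg.Agent.S3154

open Cfsg.Agent.Perm.L34Cover Cfsg.Agent.AutPSL.Roots

theorem sl2_center {F : Type*} [Field F] [CharP F 2] :
    Subgroup.center (Matrix.SpecialLinearGroup (Fin 2) F) = ⊥ := by
  rw [eq_bot_iff]
  intro g hg
  obtain ⟨r, hr, he⟩ := Matrix.SpecialLinearGroup.mem_center_iff.1 hg
  rw [Fintype.card_fin, sq] at hr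
  have h1 : (r + 1) * (r + 1) = 0 := by rw [CharTwo.add_mul_self, hr, one_mul, CharTwo.add_self_eq_zero]
  have h2 : r = 1 := CharTwo.add_eq_zero.1 (mul_self_eq_zero.1 h1)
  rw [Subgroup.mem_bot]
  apply Subtype.ext
  rw [← he, h2]
  simp

theorem elementary {Y : Type*} [Group Y] (H : Subgroup Y) (h : ∀ x ∈ H, x * x = 1) :
    Cfsg.IsElementaryAbelian 2 H := by
  have h1 : ∀ x : H, x⁻¹ = x := fun x => inv_eq_of_mul_eq_one_left (Subtype.ext (h x x.2))
  refine ⟨⟨⟨fun x y => ?_⟩⟩, fun x hx => by rw [pow_two]; exact h x hx⟩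
  calc x * y = (x * y)⁻¹ := (h1 _).symm
    _ = y * x := by rw [mul_inv_rev, h1, h1]

/-- Let X be a finite quasisimple group whose centre is an elementary abelian 2-group and whose central quotient is isomorphic to the projective special linear group of dimension 3 over the field with 4 elements. Let T be a Sylow 2-subgroup of X and H ≠ K subgroups of T containing the centre Z(X) whose images in X/Z(X) are elementary abelian of order 16 (the two such subgroups of a Sylow 2-subgroup of the quotient). Then H and K are elementary abelian, H ∩ K is the centre of the subgroup they generate, and each of N_X(H), N_X(K) is a split extension of H, respectively K, by the projective special linear group of dimension 2 over the field with 4 elements (there is a complement isomorphic to that group). -/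
theorem result {X : Type*} [Group X] [Finite X] (hq : Cfsg.IsQuasisimple X) (hZ : Cfsg.IsElementaryAbelian 2 (Subgroup.center X))
    {F : Type*} [Field F] [Fintype F] (hF : Fintype.card F = 4) (hXL : Nonempty ((X ⧸ Subgroup.center X) ≃* Matrix.ProjectiveSpecialLinearGroup (Fin 3) F))
    (T : Sylow 2 X) (H K : Subgroup X) (hHK : H ≠ K) (hHT : H ≤ T) (hKT : K ≤ T) (hZH : Subgroup.center X ≤ H) (hZK : Subgroup.center X ≤ K)
    (hH : Cfsg.IsElementaryAbelian 2 (H.map (QuotientGroup.mk' (Subgroup.center X))) ∧ Nat.card ↥(H.map (QuotientGroup.mk' (Subgroup.center X))) = 16)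
    (hK : Cfsg.IsElementaryAbelian 2 (K.map (QuotientGroup.mk' (Subgroup.center X))) ∧ Nat.card ↥(K.map (QuotientGroup.mk' (Subgroup.center X))) = 16) :
    Cfsg.IsElementaryAbelian 2 H ∧ Cfsg.IsElementaryAbelian 2 K ∧
      H ⊓ K = (Subgroup.center ↥(H ⊔ K)).map (H ⊔ K).subtype ∧
      (∃ C : Subgroup X, C ≤ Subgroup.normalizer (H : Set X) ∧ C ⊓ H = ⊥ ∧ H ⊔ C = Subgroup.normalizer (H : Set X) ∧
        Nonempty (↥C ≃* Matrix.ProjectiveSpecialLinearGroup (Fin 2) F)) ∧
      (∃ C : Subgroup X, C ≤ Subgroup.normalizer (K : Set X) ∧ C ⊓ K = ⊥ ∧ K ⊔ C = Subgroup.normalizer (K : Set X) ∧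
        Nonempty (↥C ≃* Matrix.ProjectiveSpecialLinearGroup (Fin 2) F)) := by
  classical
  haveI : Fact (Nat.Prime 2) := ⟨Nat.prime_two⟩
  haveI : CharP F 2 := charP_of_card_eq_prime_pow (f := 2) (by rw [hF]; norm_num)
  obtain ⟨e⟩ := hXL
  let φ₀ : X →* Matrix.ProjectiveSpecialLinearGroup (Fin 3) F :=
    e.toMonoidHom.comp (QuotientGroup.mk' (Subgroup.center X))
  have hφ₀ : Function.Surjective φ₀ := e.surjective.comp (QuotientGroup.mk'_surjective _)
  obtain ⟨P, hP⟩ := exists_sylow_eq (n := 3) (F := F) 2 (by norm_num)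
  obtain ⟨g, hg⟩ := MulAction.exists_smul_eq (Matrix.ProjectiveSpecialLinearGroup (Fin 3) F)
    (T.mapSurjective hφ₀) P
  let φ : X →* Matrix.ProjectiveSpecialLinearGroup (Fin 3) F := (MulAut.conj g).toMonoidHom.comp φ₀
  have hφ : Function.Surjective φ := (MulAut.conj g).surjective.comp hφ₀
  have hker : ∀ x, φ x = 1 ↔ x ∈ Subgroup.center X := by
    intro x
    change MulAut.conj g (e (QuotientGroup.mk x)) = 1 ↔ _
    rw [map_eq_one_iff _ (MulAut.conj g).injective, map_eq_one_iff _ e.injective,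
      QuotientGroup.eq_one_iff]
  have hZ2 : ∀ z ∈ Subgroup.center X, z * z = 1 := fun z hz => by
    rw [← pow_two]; exact hZ.2 z hz
  have hTU : (T : Subgroup X).map φ = unitri (n := 3) (F := F) := by
    rw [← hP, ← hg]
    change (T : Subgroup X).map ((MulAut.conj g).toMonoidHom.comp φ₀) =
      ((g • T.mapSurjective hφ₀ : Sylow 2 _) : Subgroup _)
    rw [← Subgroup.map_map]
    rfl
  have hcomap : ∀ L : Subgroup X, Subgroup.center X ≤ L → (L.map φ).comap φ = L := by
    intro L hL
    refine Subgroup.comap_map_eq_self fun x hx => hL ((hker x).1 hx)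
  let ψ : (X ⧸ Subgroup.center X) ≃* Matrix.ProjectiveSpecialLinearGroup (Fin 3) F :=
    e.trans (MulAut.conj g)
  have hψ : ∀ L : Subgroup X, L.map φ = (L.map (QuotientGroup.mk' (Subgroup.center X))).map ψ.toMonoidHom := by
    intro L
    rw [Subgroup.map_map]
    rfl
  have hnice : ∀ L : Subgroup X, L ≤ T →
      Cfsg.IsElementaryAbelian 2 (L.map (QuotientGroup.mk' (Subgroup.center X))) ∧
        Nat.card ↥(L.map (QuotientGroup.mk' (Subgroup.center X))) = 16 →
      (L.map φ = rowG ∨ L.map φ = colG) := by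
    rintro L hLT ⟨⟨hc, he⟩, hcard⟩
    refine eq_row_or_col hF (hTU ▸ Subgroup.map_mono hLT) ?_ ?_ ?_
    · rw [hψ]
      rintro _ ⟨a, ha, rfl⟩ _ ⟨b, hb, rfl⟩
      rw [← map_mul, ← map_mul]
      exact congrArg ψ (congrArg Subtype.val (hc.is_comm.comm ⟨a, ha⟩ ⟨b, hb⟩))
    · rw [hψ]
      rintro _ ⟨a, ha, rfl⟩
      rw [← map_mul, ← pow_two, he a ha, map_one]
    · rw [hψ, Subgroup.card_map_of_injective ψ.injective, hcard]
  have hA : Nice (H.map φ) := by
    rcases hnice H hHT hH with h | h <;> rw [h]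
    exacts [nice_row hF, nice_col hF]
  have hB : Nice (K.map φ) := by
    rcases hnice K hKT hK with h | h <;> rw [h]
    exacts [nice_row hF, nice_col hF]
  have hne : H.map φ ≠ K.map φ := fun h => hHK (by rw [← hcomap H hZH, h, hcomap K hZK])
  have hpair : (H.map φ = rowG ∧ K.map φ = colG) ∨ (H.map φ = colG ∧ K.map φ = rowG) := by
    rcases hnice H hHT hH with h | h <;> rcases hnice K hKT hK with k | k
    · exact absurd (h.trans k.symm) hne
    · exact Or.inl ⟨h, k⟩
    · exact Or.inr ⟨h, k⟩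
    · exact absurd (h.trans k.symm) hne
  have hH2 : ∀ x ∈ H, x * x = 1 := fun x hx => squares hφ hker hZ2 hA ⟨x, hx, rfl⟩
  have hK2 : ∀ x ∈ K, x * x = 1 := fun x hx => squares hφ hker hZ2 hB ⟨x, hx, rfl⟩
  obtain ⟨f⟩ : Nonempty (Matrix.SpecialLinearGroup (Fin 2) F ≃*
      Matrix.ProjectiveSpecialLinearGroup (Fin 2) F) :=
    ⟨((QuotientGroup.quotientMulEquivOfEq sl2_center).trans QuotientGroup.quotientBot).symm⟩
  refine ⟨elementary H hH2, elementary K hK2, ?_, ?_, ?_⟩
  · refine le_antisymm ?_ ?_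
    · rintro x ⟨hxH, hxK⟩
      refine ⟨⟨x, Subgroup.mem_sup_left hxH⟩, ?_, rfl⟩
      rw [SetLike.mem_coe, Subgroup.mem_center_iff]
      have hle : H ⊔ K ≤ Subgroup.centralizer {x} := by
        refine sup_le (fun a ha => ?_) (fun a ha => ?_) <;>
          rw [Subgroup.mem_centralizer_singleton_iff]
        · have hc := (elementary H hH2).1.is_comm.comm ⟨a, ha⟩ ⟨x, hxH⟩
          exact congrArg Subtype.val hc
        · have hc := (elementary K hK2).1.is_comm.comm ⟨a, ha⟩ ⟨x, hxK⟩
          exact congrArg Subtype.val hc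
      intro y
      exact Subtype.ext (Subgroup.mem_centralizer_singleton_iff.1 (hle y.2))
    · rintro _ ⟨z, hz, rfl⟩
      have hzU : φ z.1 ∈ rowG ⊔ colG := by
        have hm : φ z.1 ∈ (H ⊔ K).map φ := Subgroup.mem_map_of_mem φ z.2
        rw [Subgroup.map_sup] at hm
        rcases hpair with ⟨h, k⟩ | ⟨h, k⟩ <;> rw [h, k] at hm
        · exact hm
        · rwa [sup_comm] at hm
      have hcm : ∀ y ∈ H ⊔ K, φ y * φ z.1 = φ z.1 * φ y := fun y hy => by
        rw [← map_mul, ← map_mul]
        exact congrArg φ (congrArg Subtype.val (Subgroup.mem_center_iff.1 hz ⟨y, hy⟩))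
      have hc' : ∀ y ∈ rowG ⊔ colG, y * φ z.1 = φ z.1 * y := by
        intro y hy
        have hy' : y ∈ (H ⊔ K).map φ := by
          rw [Subgroup.map_sup]
          rcases hpair with ⟨h, k⟩ | ⟨h, k⟩ <;> rw [h, k]
          · exact hy
          · rwa [sup_comm]
        obtain ⟨w, hw, rfl⟩ := hy'
        exact hcm w hw
      rw [← unitri_eq_sup] at hzU
      obtain ⟨s, hs, hse⟩ := hzU
      have key : ∀ t ∈ unitriSL (n := 3) (F := F), t * s = s * t := fun t ht => by
        refine mk_injOn _ _ (mul_mem ht hs) (mul_mem hs ht) 0 ?_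
        have := hc' (QuotientGroup.mk t) (unitri_eq_sup (F := F) ▸ ⟨t, ht, rfl⟩)
        rw [← hse] at this
        exact this
      have h12 : (s : Matrix (Fin 3) (Fin 3) F) 1 2 = 0 := by
        have := congrFun (congrFun (congrArg Subtype.val (key _ (rowE_mem 1 0))) 0) 2
        simp [rowE_coe, Matrix.mul_apply, Fin.sum_univ_three, hs.1, hs.2] at this
        exact this
      have h01 : (s : Matrix (Fin 3) (Fin 3) F) 0 1 = 0 := by
        have := congrFun (congrFun (congrArg Subtype.val (key _ (colE_mem 1 0))) 0) 2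
        simp [colE_coe, Matrix.mul_apply, Fin.sum_univ_three, hs.1, hs.2] at this
        exact this
      have hr : φ z.1 ∈ rowG := hse ▸ (mk_unitri_mem hs).1 h12
      have hcl : φ z.1 ∈ colG := hse ▸ (mk_unitri_mem hs).2 h01
      have hH' : φ z.1 ∈ H.map φ ∧ φ z.1 ∈ K.map φ := by
        rcases hpair with ⟨h, k⟩ | ⟨h, k⟩ <;> rw [h, k]
        exacts [⟨hr, hcl⟩, ⟨hcl, hr⟩]
      exact ⟨(hcomap H hZH).le hH'.1, (hcomap K hZK).le hH'.2⟩
  · obtain ⟨C, h1, h2, h3, ⟨h4⟩⟩ := exists_lift_complement hF hφ hker hZ2 hA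
    rw [hcomap H hZH] at h1 h2 h3
    exact ⟨C, h1, h2, h3, ⟨h4.trans f⟩⟩
  · obtain ⟨C, h1, h2, h3, ⟨h4⟩⟩ := exists_lift_complement hF hφ hker hZ2 hB
    rw [hcomap K hZK] at h1 h2 h3
    exact ⟨C, h1, h2, h3, ⟨h4.trans f⟩⟩

end Cfsg.Agent.S3154
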