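import Cfsg.Statements.S3155
import Mathlib

set_option autoImplicit false
open Cfsg

namespace Cfsg.Agent.S3155

/-- Let B be the direct product of three cyclic groups of order 4. Then the automorphism of B inverting every element is not the square of any automorphism of B. -/
theorem result {B : Type*} [CommGroup B] [Finite B] (hB : Nonempty (B ≃* Multiplicative (ZMod 4 × ZMod 4 × ZMod 4)))
    (τ : B ≃* B) : τ.trans τ ≠ MulEquiv.inv B := by
  obtain ⟨e⟩ := hB
  intro h
  let σ : Multiplicative (ZMod 4 × ZMod 4 × ZMod 4) ≃* Multiplicative (ZMod 4 × ZMod 4 × ZMod 4) :=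
    (e.symm.trans τ).trans e
  have : Fact (1 < 4) := ⟨by norm_num⟩
  have : StrongRankCondition (ZMod 4) := commRing_strongRankCondition _
  let g : (ZMod 4 × ZMod 4 × ZMod 4) →+ (ZMod 4 × ZMod 4 × ZMod 4) :=
    AddMonoidHom.mk' (fun v => Multiplicative.toAdd (σ (Multiplicative.ofAdd v)))
      (fun a b => by simp [ofAdd_add])
  let f : (ZMod 4 × ZMod 4 × ZMod 4) →ₗ[ZMod 4] (ZMod 4 × ZMod 4 × ZMod 4) := g.toZModLinearMap 4
  have hf : f.comp f = (-1 : ZMod 4) • LinearMap.id := by
    refine LinearMap.ext fun v => ?_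
    have h1 : τ (τ (e.symm (Multiplicative.ofAdd v))) = (e.symm (Multiplicative.ofAdd v))⁻¹ :=
      DFunLike.congr_fun h (e.symm (Multiplicative.ofAdd v))
    have h2 : σ (σ (Multiplicative.ofAdd v)) = (Multiplicative.ofAdd v)⁻¹ := by
      simp [σ, h1]
    show Multiplicative.toAdd (σ (σ (Multiplicative.ofAdd v))) = _
    rw [h2]
    simp
  have hd := congrArg LinearMap.det hf
  rw [LinearMap.det_comp, LinearMap.det_smul, LinearMap.det_id] at hd
  rw [Module.finrank_prod, Module.finrank_prod, Module.finrank_self] at hd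
  revert hd
  generalize LinearMap.det f = d
  revert d
  decide

end Cfsg.Agent.S3155
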