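import Cfsg.Statements.S3156
import Cfsg.Agent.InvChar.UnitaryThreeFourSylowAut
-- import your own Cfsg.Agent.* helpers here

set_option autoImplicit false
open Cfsg

namespace Cfsg.Agent.S3156

/-- If a finite group T is isomorphic to a Sylow 2-subgroup of the projective special unitary group of dimension 3 with parameter 4 (realised over the field with 16 elements), then no subgroup of the automorphism group of T is isomorphic to the symmetric group of degree 3. -/
theorem result {T : Type*} [Group T] [Finite T] (hT : (∃ (F : Type) (_ : Field F) (_ : Fintype F), Fintype.card F = 16 ∧ ∃ S : Sylow 2 (Cfsg.PSU 3 F 4), Nonempty (T ≃* ↥(S : Subgroup (Cfsg.PSU 3 F 4))))) (H : Subgroup (MulAut T)) : ¬ Nonempty (↥H ≃* Equiv.Perm (Fin 3)) := by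
  classical
  rintro ⟨e⟩
  obtain ⟨F, iF, iFin, hF, S, ⟨f⟩⟩ := hT
  haveI : Fact (Nat.Prime 2) := ⟨Nat.prime_two⟩
  have hF' : Fintype.card F = (2 ^ 2) ^ 2 := by rw [hF]; norm_num
  haveI : CharP F 2 :=
    InvChar.UnitaryThreeSylowExtension.charTwo (n := 2) (by norm_num) hF'
  obtain ⟨B⟩ := Involutions.SylowPSUThree.exists_base hF'
  obtain ⟨g⟩ := Involutions.SylowPSUThree.sylow_equiv hF' B S
  let Φ := MulAut.congr (f.trans g.symm)
  let r : Equiv.Perm (Fin 3) := Equiv.swap 0 1 * Equiv.swap 1 2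
  let s : Equiv.Perm (Fin 3) := Equiv.swap 0 1
  let ψ : Equiv.Perm (Fin 3) →* MulAut (Involutions.SylowPSUThree.heis hF' B) :=
    Φ.toMonoidHom.comp (H.subtype.comp e.symm.toMonoidHom)
  have hψ : Function.Injective ψ :=
    Φ.injective.comp (Subtype.val_injective.comp e.symm.injective)
  have h1 : r ^ 3 = 1 ∧ s * s = 1 ∧ s * r * s⁻¹ = r⁻¹ ∧ r ≠ 1 := by decide +kernel
  refine h1.2.2.2 (hψ ?_)
  rw [map_one]
  refine InvChar.UnitaryThreeFourSylowAut.eq_one hF' B (ψ r) (ψ s) ?_ ?_ ?_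
  · rw [← map_pow, h1.1, map_one]
  · rw [← map_mul, h1.2.1, map_one]
  · rw [← map_inv, ← map_mul, ← map_mul, h1.2.2.1, map_inv]

end Cfsg.Agent.S3156
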