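import Cfsg.Statements.S3157
import Cfsg.Agent.InvChar.FixedPointFreeOrderSixtyFour
-- import your own Cfsg.Agent.* helpers here

set_option autoImplicit false
open Cfsg

namespace Cfsg.Agent.S3157

/-- Let T be a non-abelian group of order 64 admitting automorphisms ρ of order 3 and x of order 2 with x ρ x⁻¹ = ρ⁻¹ (so they generate a symmetric group of degree 3), where ρ fixes only the identity. Then T is isomorphic to a Sylow 2-subgroup of the projective special linear group of dimension 3 over the field with 4 elements, and the subgroup of fixed points of x is dihedral of order 8 or quaternion of order 8. -/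
theorem result {T : Type*} [Group T] [Finite T] (hT : Nat.card T = 64) (hna : ¬ IsMulCommutative T) (ρ x : MulAut T) (hρ : orderOf ρ = 3) (hx : orderOf x = 2)
    (hxr : x * ρ * x⁻¹ = ρ⁻¹) (hfp : ∀ y : T, ρ y = y → y = 1) (C : Subgroup T) (hC : ∀ y : T, y ∈ C ↔ x y = y) :
    (∃ (F : Type) (_ : Field F) (_ : Fintype F), Fintype.card F = 4 ∧
        ∃ S : Sylow 2 (Matrix.ProjectiveSpecialLinearGroup (Fin 3) F), Nonempty (T ≃* ↥(S : Subgroup (Matrix.ProjectiveSpecialLinearGroup (Fin 3) F)))) ∧
      (Nonempty (↥C ≃* DihedralGroup 4) ∨ Nonempty (↥C ≃* QuaternionGroup 2)) := by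
  classical
  have D := InvChar.FixedPointFreeOrderSixtyFour.data ρ (hρ ▸ pow_orderOf_eq_one ρ) hfp hT hna
  have hx2 : x * x = 1 := by rw [← pow_two, ← hx, pow_orderOf_eq_one]
  obtain ⟨u, v, hu, hv, huv, hfix⟩ := D.exists_fixed_pair hx2 hxr hna
  have hu2 := D.fixed_sq hu hfix
  have hv2 := D.fixed_sq hv hfix
  obtain ⟨s, t, hs, ht, hst⟩ := D.exists_singular huv hu2 hv2
  refine ⟨?_, D.fixed_iso C (D.card_fixed_le hxr C hC) ((hC u).2 hu) ((hC v).2 hv) huv hu2 hv2⟩
  letI : Fintype (GaloisField 2 2) := Fintype.ofFinite _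
  have hF : Fintype.card (GaloisField 2 2) = 4 := by
    rw [← Nat.card_eq_fintype_card, GaloisField.card 2 2 two_ne_zero]; norm_num
  exact ⟨GaloisField 2 2, inferInstance, inferInstance, hF, D.sylow_iso hF hs ht hst⟩

end Cfsg.Agent.S3157
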