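import Cfsg.Statements.S3158
import Mathlib

set_option linter.all false

set_option autoImplicit false
open Cfsg

namespace Cfsg.Agent.S3158

theorem form_trivial {M : Type*} [CommGroup M] (hM : ∀ a : M, a * a = 1) (ρ : MulAut M) {N : ℕ} (hN : Odd N)
    (hρ : ρ ^ N = 1) (m : M) (htr : ∀ v : M, v ≠ 1 → ∃ k : ℤ, (ρ ^ k) m = v) (f : M → M → M)
    (hl : ∀ a b c, f (a * b) c = f a c * f b c) (hr : ∀ a b c, f a (b * c) = f a b * f a c)
    (hs : ∀ a b, f a b = f b a) (hd : ∀ a, f a a = 1) (hρf : ∀ a b, f (ρ a) (ρ b) = ρ (f a b)) :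
    ∀ a b, f a b = 1 := by
  have h1r : ∀ a, f a 1 = 1 := fun a => by
    have := hr a 1 1
    rw [one_mul] at this
    exact mul_eq_left.1 this.symm
  let E : Subgroup (MulAut M) :=
    { carrier := {σ | ∀ a b, f (σ a) (σ b) = σ (f a b)}
      one_mem' := fun a b => rfl
      mul_mem' := fun {σ τ} hσ hτ a b => by
        simp only [MulAut.mul_apply]; rw [hσ, hτ]
      inv_mem' := fun {σ} hσ a b => by
        apply σ.injective
        rw [← hσ]; simp [MulAut.apply_inv_self] }
  have hE : ∀ k : ℤ, ρ ^ k ∈ E := fun k => zpow_mem (show ρ ∈ E from hρf) k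
  have hcomm : ∀ (i j : ℤ) (v : M), (ρ ^ i) ((ρ ^ j) v) = (ρ ^ j) ((ρ ^ i) v) := fun i j v => by
    rw [← MulAut.mul_apply, ← MulAut.mul_apply, ← zpow_add, ← zpow_add, add_comm]
  have hsq : ∀ k : ℤ, f m ((ρ ^ (k + k)) m) = 1 := by
    intro k
    by_cases hk : (ρ ^ k) m = m
    · rw [zpow_add, MulAut.mul_apply, hk, hk, hd]
    have hne : m * (ρ ^ k) m ≠ 1 := fun e => hk (by
      rw [eq_inv_of_mul_eq_one_right e, inv_eq_of_mul_eq_one_right (hM m)])
    obtain ⟨l, hl'⟩ := htr _ hne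
    set G := f m ((ρ ^ k) m) with hG
    have hG' : f m ((ρ ^ l) m) = G := by rw [hl', hr, hd, one_mul]
    -- `ρ ^ l` is `1 + ρ ^ k`
    have hlin : ∀ v, (ρ ^ l) v = v * (ρ ^ k) v := by
      intro v
      by_cases hv : v = 1
      · subst hv; simp
      obtain ⟨i, rfl⟩ := htr v hv
      rw [hcomm, hl', map_mul, hcomm i k]
    have hinv : (ρ ^ (-k)) m * (ρ ^ (-l)) m = (ρ ^ (-(k + l))) m := by
      apply (ρ ^ (k + l)).injective
      rw [map_mul, ← MulAut.mul_apply, ← MulAut.mul_apply, ← MulAut.mul_apply, ← zpow_add, ← zpow_add, ← zpow_add,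
        show k + l + -k = l by ring, show k + l + -l = k by ring, add_neg_cancel, zpow_zero, MulAut.one_apply, hlin,
        mul_assoc, hM, mul_one]
    have hA : f m ((ρ ^ (k + l)) m) = G := by
      have e1 : f ((ρ ^ (k + l)) ((ρ ^ (-(k + l))) m)) ((ρ ^ (k + l)) m) = (ρ ^ (k + l)) (f ((ρ ^ (-(k + l))) m) m) :=
        hE (k + l) _ _
      rw [← MulAut.mul_apply, ← zpow_add, add_neg_cancel, zpow_zero, MulAut.one_apply] at e1
      have e2 : (ρ ^ (k + l)) (f ((ρ ^ (-k)) m) m) = (ρ ^ l) G := by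
        rw [hG, ← hE (k + l) _ _, ← hE l _ _, ← MulAut.mul_apply, ← MulAut.mul_apply, ← zpow_add, ← zpow_add,
          show k + l + -k = l by ring, add_comm k l]
      have e3 : (ρ ^ (k + l)) (f ((ρ ^ (-l)) m) m) = (ρ ^ k) G := by
        rw [← hG', ← hE (k + l) _ _, ← hE k _ _, ← MulAut.mul_apply, ← MulAut.mul_apply, ← zpow_add, ← zpow_add,
          show k + l + -l = k by ring]
      rw [e1, ← hinv, hl, map_mul, e2, e3, hlin, mul_assoc, hM, mul_one]
    have hB : (ρ ^ (k + l)) m = (ρ ^ k) m * (ρ ^ (k + k)) m := by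
      rw [zpow_add, MulAut.mul_apply, hl', map_mul, zpow_add, MulAut.mul_apply]
    rw [hB, hr, ← hG] at hA
    exact mul_eq_left.1 hA
  have hall : ∀ v, f m v = 1 := by
    intro v
    by_cases hv : v = 1
    · rw [hv, h1r]
    obtain ⟨k, rfl⟩ := htr v hv
    rcases Int.even_or_odd k with ⟨j, rfl⟩ | ⟨j, rfl⟩
    · exact hsq j
    · obtain ⟨e, rfl⟩ := hN
      rw [show (2 * j + 1 : ℤ) = ((j - e) + (j - e)) + ((2 * e + 1 : ℕ) : ℤ) by push_cast; ring, zpow_add,
        MulAut.mul_apply, zpow_natCast, hρ, MulAut.one_apply]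
      exact hsq (j - e)
  intro a b
  by_cases ha : a = 1
  · rw [ha, hs, h1r]
  obtain ⟨k, rfl⟩ := htr a ha
  obtain ⟨b', rfl⟩ := (ρ ^ k).surjective b
  rw [hE k, hall, map_one]

theorem main {U : Type*} [Group U] [Finite U] (n : ℕ) (hn : 1 ≤ n) (hU : Nat.card U = (2 ^ n) ^ 2) (y : MulAut U)
    (hy : orderOf y = 2 ^ n - 1) (hfp : ∀ k : ℕ, y ^ k ≠ 1 → ∀ u : U, (y ^ k) u = u → u = 1) (V : Subgroup U)
    [V.Normal] (hyV : ∀ v ∈ V, y v ∈ V) (hVe : ∀ v ∈ V, v ^ 2 = 1)
    (hQe : ∀ u : U, u ^ 2 ∈ V) (hQc : ∀ u w : U, u * w * u⁻¹ * w⁻¹ ∈ V) (φ : ↥V ≃* U ⧸ V)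
    (hφ : ∀ (v : ↥V) (u : U), (QuotientGroup.mk u : U ⧸ V) = φ v → φ ⟨y v, hyV v v.2⟩ = QuotientGroup.mk (y u)) :
    IsMulCommutative U := by
  classical
  haveI : Fact (Nat.Prime 2) := ⟨Nat.prime_two⟩
  have hVc : Nat.card V = 2 ^ n := by
    have h1 := V.card_mul_index
    rw [hU, show V.index = Nat.card V from (Nat.card_congr φ.toEquiv).symm, ← pow_two] at h1
    exact Nat.pow_left_injective (by norm_num) h1
  have hUp : IsPGroup 2 U := IsPGroup.of_card (n := n * 2) (by rw [hU, ← pow_mul])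
  set σ : MulAut ↥V :=
    MulEquiv.ofBijective ((y.toMonoidHom.comp V.subtype).codRestrict V fun v => hyV v v.2)
      (Finite.injective_iff_bijective.1 fun a b h => Subtype.ext (y.injective (congrArg Subtype.val h))) with hσ
  have hσv : ∀ v : V, ((σ v : V) : U) = y v := fun v => rfl
  have hσk : ∀ (k : ℕ) (v : V), (((σ ^ k) v : V) : U) = (y ^ k) v := by
    intro k
    induction k with
    | zero => intro v; rfl
    | succ k ih => intro v; rw [pow_succ', pow_succ', MulAut.mul_apply, MulAut.mul_apply, hσv, ih]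
  have hV2 : ∀ a : V, a * a = 1 := fun a => Subtype.ext (by rw [Subgroup.coe_mul, ← pow_two]; exact hVe a a.2)
  letI : CommGroup V :=
    { (inferInstance : Group V) with
      mul_comm := fun a b => by
        have := hV2 (a * b)
        rw [mul_eq_one_iff_eq_inv, mul_inv_rev, inv_eq_of_mul_eq_one_right (hV2 a),
          inv_eq_of_mul_eq_one_right (hV2 b)] at this
        exact this }
  -- transitivity on the nontrivial elements of `V`
  have htrans : ∀ m v : V, m ≠ 1 → v ≠ 1 → ∃ k : ℤ, (σ ^ k) m = v := by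
    intro m v hm hv
    have : Function.Surjective (fun i : Fin (2 ^ n - 1) => (⟨(σ ^ (i : ℕ)) m, fun e => hm (by simpa using e)⟩ :
        {x : V // x ≠ 1})) := by
      refine (Function.Injective.bijective_of_nat_card_le ?_ ?_).2
      · intro i j hij
        have h1 : ((y ^ (i : ℕ)) (m : U)) = (y ^ (j : ℕ)) (m : U) := by
          rw [← hσk, ← hσk]; exact congrArg (fun r : {x : V // x ≠ 1} => ((r : V) : U)) hij
        wlog hle : (i : ℕ) ≤ j generalizing i j
        · exact (this hij.symm h1.symm (le_of_not_ge hle)).symm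
        obtain ⟨d, hd⟩ := Nat.exists_eq_add_of_le hle
        rw [hd, pow_add, MulAut.mul_apply] at h1
        have h2 := (y ^ (i : ℕ)).injective h1
        have h3 : y ^ d = 1 := by
          by_contra hne
          exact hm (Subtype.ext (hfp d hne _ h2.symm))
        have hdvd := orderOf_dvd_of_pow_eq_one h3
        rw [hy] at hdvd
        have := j.2
        rcases Nat.eq_zero_or_pos d with h0 | h0
        · exact Fin.ext (by omega)
        · have := Nat.le_of_dvd h0 hdvd
          omega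
      · rw [Nat.card_fin]
        haveI : Fintype V := Fintype.ofFinite _
        rw [Nat.card_eq_fintype_card, Fintype.card_subtype_compl, Fintype.card_subtype_eq,
          ← Nat.card_eq_fintype_card, hVc]
    obtain ⟨i, hi⟩ := this ⟨v, hv⟩
    exact ⟨(i : ℕ), by rw [zpow_natCast]; exact congrArg (fun r : {x : V // x ≠ 1} => (r : V)) hi⟩
  have hyN : σ ^ (2 ^ n - 1) = 1 := MulEquiv.ext fun v => Subtype.ext (by
    rw [hσk, ← hy, pow_orderOf_eq_one]; rfl)
  -- `V` is central
  have hcen : ∀ v : V, (v : U) ∈ Subgroup.center U := by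
    have hne : Nontrivial V := Finite.one_lt_card_iff_nontrivial.1 (by
      rw [hVc]; exact Nat.one_lt_two_pow (by omega))
    let act : MulAction (ConjAct U) V :=
      { smul := fun g x => ⟨ConjAct.ofConjAct g * x * (ConjAct.ofConjAct g)⁻¹,
          (inferInstance : V.Normal).conj_mem _ x.2 _⟩
        one_smul := fun x => Subtype.ext (by
          show ConjAct.ofConjAct 1 * (x : U) * (ConjAct.ofConjAct 1)⁻¹ = x; simp)
        mul_smul := fun g h x => Subtype.ext (by
          show ConjAct.ofConjAct (g * h) * (x : U) * (ConjAct.ofConjAct (g * h))⁻¹ =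
            ConjAct.ofConjAct g * (ConjAct.ofConjAct h * (x : U) * (ConjAct.ofConjAct h)⁻¹) *
              (ConjAct.ofConjAct g)⁻¹
          simp only [map_mul, mul_inv_rev, mul_assoc]) }
    have h1 : (1 : V) ∈ MulAction.fixedPoints (ConjAct U) V := fun g => Subtype.ext (by
      show ConjAct.ofConjAct g * (1 : U) * (ConjAct.ofConjAct g)⁻¹ = 1; simp)
    obtain ⟨b, hb, hb1⟩ := (hUp.of_equiv ConjAct.toConjAct).exists_fixed_point_of_prime_dvd_card_of_fixed_point
      V (hVc ▸ dvd_pow_self 2 (by omega)) h1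
    have hbc : (b : U) ∈ Subgroup.center U := Subgroup.mem_center_iff.mpr fun g =>
      mul_inv_eq_iff_eq_mul.mp (congrArg Subtype.val (hb (ConjAct.toConjAct g)))
    intro v
    by_cases hv : v = 1
    · rw [hv]; exact Subgroup.one_mem _
    obtain ⟨k, rfl⟩ := htrans b v (Ne.symm hb1) hv
    have hy' : ∀ j : ℕ, (((σ ^ j) b : V) : U) ∈ Subgroup.center U := fun j => by
      rw [hσk, Subgroup.mem_center_iff]
      intro g
      obtain ⟨g, rfl⟩ := (y ^ j).surjective g
      rw [← map_mul, ← map_mul, Subgroup.mem_center_iff.1 hbc g]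
    obtain ⟨j, hj⟩ : σ ^ k ∈ Submonoid.powers σ := mem_powers_iff_mem_zpowers.2 ⟨k, rfl⟩
    simp only at hj
    rw [← hj]; exact hy' j
  have hcv : ∀ (v : V) (u : U), u * (v : U) = (v : U) * u := fun v u => Subgroup.mem_center_iff.1 (hcen v) u
  -- the commutator form
  set rep : V → U := fun a => (φ a).out with hrep
  have hmk : ∀ a, (QuotientGroup.mk (rep a) : U ⧸ V) = φ a := fun a => QuotientGroup.out_eq' _
  set c : U → U → V := fun u w => ⟨u * w * u⁻¹ * w⁻¹, hQc u w⟩ with hc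
  have hcl : ∀ u u' w, c (u * u') w = c u w * c u' w := by
    intro u u' w
    refine Subtype.ext ?_
    show u * u' * w * (u * u')⁻¹ * w⁻¹ = u * w * u⁻¹ * w⁻¹ * (u' * w * u'⁻¹ * w⁻¹)
    calc u * u' * w * (u * u')⁻¹ * w⁻¹ = u * ((c u' w : V) : U) * (w * u⁻¹ * w⁻¹) := by simp only [hc]; group
      _ = ((c u' w : V) : U) * ((c u w : V) : U) := by rw [hcv]; simp only [hc]; group
      _ = _ := by rw [hcv]
  have hcs : ∀ u w, c u w = c w u := by
    intro u w
    have h1 : c u w * c w u = 1 := Subtype.ext (by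
      show u * w * u⁻¹ * w⁻¹ * (w * u * w⁻¹ * u⁻¹) = 1
      group)
    rw [eq_inv_of_mul_eq_one_left h1, inv_eq_of_mul_eq_one_right (hV2 _)]
  have hcw : ∀ u u' w, (QuotientGroup.mk u : U ⧸ V) = QuotientGroup.mk u' → c u w = c u' w := by
    intro u u' w h
    rw [QuotientGroup.eq] at h
    have e : c (u⁻¹ * u') w = 1 := Subtype.ext (by
      show u⁻¹ * u' * w * (u⁻¹ * u')⁻¹ * w⁻¹ = 1
      rw [← hcv ⟨_, h⟩ w]; group)
    rw [show u' = u * (u⁻¹ * u') by group, hcl, e, mul_one]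
  have hcw2 : ∀ u w w', (QuotientGroup.mk w : U ⧸ V) = QuotientGroup.mk w' → c u w = c u w' :=
    fun u w w' h => by rw [hcs u w, hcw w w' u h, hcs]
  have hf := form_trivial hV2 σ (N := 2 ^ n - 1) (Nat.Even.sub_odd (Nat.one_le_two_pow) (even_two.pow_of_ne_zero (by omega)) odd_one)
    hyN
  obtain ⟨m, hm⟩ : ∃ m : V, m ≠ 1 := by
    have : Nontrivial V := Finite.one_lt_card_iff_nontrivial.1 (by rw [hVc]; exact Nat.one_lt_two_pow (by omega))
    exact exists_ne 1
  have key := hf m (fun v hv => htrans m v hm hv) (fun a b => c (rep a) (rep b))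
    (fun a b d => by
      show c (rep (a * b)) (rep d) = _
      rw [hcw (rep (a * b)) (rep a * rep b) _ (by rw [hmk, QuotientGroup.mk_mul, hmk, hmk, map_mul]), hcl])
    (fun a b d => by
      show c (rep a) (rep (b * d)) = _
      rw [hcs, hcw (rep (b * d)) (rep b * rep d) _ (by rw [hmk, QuotientGroup.mk_mul, hmk, hmk, map_mul]), hcl,
        hcs (rep b), hcs (rep d)])
    (fun a b => hcs _ _)
    (fun a => Subtype.ext (by show rep a * rep a * (rep a)⁻¹ * (rep a)⁻¹ = 1; group))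
    (fun a b => by
      have h1 : ∀ a, (QuotientGroup.mk (rep (σ a)) : U ⧸ V) = QuotientGroup.mk (y (rep a)) := fun a => by
        rw [hmk]; exact hφ a (rep a) (hmk a)
      show c (rep (σ a)) (rep (σ b)) = _
      rw [hcw _ _ _ (h1 a), hcw2 _ _ _ (h1 b)]
      refine Subtype.ext ?_
      show y (rep a) * y (rep b) * (y (rep a))⁻¹ * (y (rep b))⁻¹ = y (rep a * rep b * (rep a)⁻¹ * (rep b)⁻¹)
      simp [map_mul, map_inv])
  refine ⟨⟨fun u w => ?_⟩⟩
  obtain ⟨a, ha⟩ := φ.surjective (QuotientGroup.mk u)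
  obtain ⟨b, hb⟩ := φ.surjective (QuotientGroup.mk w)
  have h1 : c u w = 1 := by
    rw [hcw u (rep a) w (by rw [hmk, ha]), hcw2 (rep a) w (rep b) (by rw [hmk, hb])]
    exact key a b
  exact mul_inv_eq_iff_eq_mul.1 (mul_inv_eq_one.1 (congrArg Subtype.val h1))

/-- Let U be a group of order q² with q = 2^n ≥ 2, and y an automorphism of U of order q − 1 all of whose nontrivial powers fix only the identity. Let V be a proper normal y-invariant subgroup of U such that V and U/V are elementary abelian 2-groups and there is an isomorphism from V to U/V commuting with the actions of y. Then U is abelian. -/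
theorem result {U : Type*} [Group U] [Finite U] (n : ℕ) (hn : 1 ≤ n) (hU : Nat.card U = (2 ^ n) ^ 2)
    (y : MulAut U) (hy : orderOf y = 2 ^ n - 1) (hfp : ∀ k : ℕ, y ^ k ≠ 1 → ∀ u : U, (y ^ k) u = u → u = 1)
    (V : Subgroup U) [V.Normal] (hV : V ≠ ⊤) (hyV : ∀ v ∈ V, y v ∈ V)
    (hVe : ∀ v ∈ V, v ^ 2 = 1) (hQe : ∀ u : U, u ^ 2 ∈ V) (hQc : ∀ u w : U, u * w * u⁻¹ * w⁻¹ ∈ V)
    (φ : ↥V ≃* U ⧸ V) (hφ : ∀ (v : ↥V) (u : U), (QuotientGroup.mk u : U ⧸ V) = φ v → φ ⟨y v, hyV v v.2⟩ = QuotientGroup.mk (y u)) :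
    IsMulCommutative U := by
  exact main n hn hU y hy hfp V hyV hVe hQe hQc φ hφ

end Cfsg.Agent.S3158
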