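import Cfsg.Statements.S3161
import Cfsg.Agent.Lib.RankTwoInvol.Singer.Models

set_option autoImplicit false
open Cfsg

namespace Cfsg.Agent.S3161

/-- Let Q be a non-abelian finite 2-group admitting commuting automorphisms α of order 2 and ρ of order 2^n − 1, where n ≥ 2, such that the fixed points of α form an elementary abelian subgroup of order 2^n on whose nonidentity elements the group generated by ρ acts transitively. Then Q is isomorphic to a Sylow 2-subgroup of the projective special unitary group of dimension 3 with parameter 2^n (realised over the field with 4^n elements) or of the projective special linear group of dimension 3 over the field with 2^n elements. -/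
theorem result {Q : Type*} [Group Q] [Finite Q] (hQ : IsPGroup 2 Q) (hna : ¬ IsMulCommutative Q) (n : ℕ) (hn : 2 ≤ n)
    (α ρ : MulAut Q) (hα : orderOf α = 2) (hρ : orderOf ρ = 2 ^ n - 1) (hc : Commute α ρ)
    (C : Subgroup Q) (hC : ∀ x : Q, x ∈ C ↔ α x = x) (hCE : Cfsg.IsElementaryAbelian 2 C ∧ Nat.card ↥C = 2 ^ n)
    (htr : ∀ x y : Q, x ∈ C → y ∈ C → x ≠ 1 → y ≠ 1 → ∃ k : ℕ, (ρ ^ k) x = y) :
    (∃ (F : Type) (_ : Field F) (_ : Fintype F), Fintype.card F = 4 ^ n ∧
        ∃ S : Sylow 2 (Cfsg.PSU 3 F (2 ^ n)), Nonempty (Q ≃* ↥(S : Subgroup (Cfsg.PSU 3 F (2 ^ n))))) ∨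
      (∃ (F : Type) (_ : Field F) (_ : Fintype F), Fintype.card F = 2 ^ n ∧
        ∃ S : Sylow 2 (Matrix.ProjectiveSpecialLinearGroup (Fin 3) F), Nonempty (Q ≃* ↥(S : Subgroup (Matrix.ProjectiveSpecialLinearGroup (Fin 3) F)))) := by
  classical
  have hna' : ∃ a b : Q, a * b ≠ b * a := by
    by_contra hcon
    push Not at hcon
    exact hna ⟨⟨hcon⟩⟩
  have hαα : ∀ x : Q, α (α x) = x := fun x => by
    have h : α * α = 1 := by rw [← pow_two, ← hα, pow_orderOf_eq_one]
    rw [← MulAut.mul_apply, h]; rfl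
  obtain ⟨hCel, hCcard⟩ := hCE
  let S : Cfsg.Agent.SingerFixed.Setup Q n :=
    { α := α
      ρ := ρ
      C := C
      isP := hQ
      two_le := hn
      invol := hαα
      comm := hc
      period := by rw [← hρ]; exact pow_orderOf_eq_one ρ
      fix := fun x => (hC x).symm
      expC := fun c hc => by rw [← pow_two]; exact hCel.2 c hc
      cardC := hCcard
      trans := fun x hx y hy hx1 hy1 => htr x y hx hy hx1 hy1 }
  obtain ⟨hsq, hk, hcard⟩ := S.main (Nat.card Q) rfl hna'
  obtain ⟨F, _, _, A, a, B, hF, h2, ha, ⟨E⟩⟩ := S.exists_ext hsq hk hcard hna'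
  by_cases hiso : ∃ x y : F, (x ≠ 0 ∨ y ≠ 0) ∧ Cfsg.Agent.SingerFixed.form A a B (x, y) = 0
  · obtain ⟨E'⟩ := Cfsg.Agent.SingerFixed.ext_mul h2 ha E hiso
    obtain ⟨P, hP⟩ := Cfsg.Agent.SingerFixed.sylow_PSL hF (by omega) h2 E'
    exact Or.inr ⟨F, inferInstance, inferInstance, hF, P, hP⟩
  · push Not at hiso
    exact Or.inl (Cfsg.Agent.SingerFixed.sylow_PSU hF h2 E fun x y h => by
      by_contra hxy
      exact hiso x y (by tauto) h)

end Cfsg.Agent.S3161
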