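import Cfsg.Statements.S3162
import Cfsg.Agent.InvChar.UnitaryThreeSylowAutGroup
-- import your own Cfsg.Agent.* helpers here

set_option autoImplicit false
open Cfsg

namespace Cfsg.Agent.S3162

/-- Let S be a Sylow 2-subgroup of the special unitary group of dimension 3 with parameter q = 2^n (n ≥ 2; realised over the field with q² elements). Then the largest normal 2-subgroup of the automorphism group of S is elementary abelian of order 2^(2n²), and the automorphism group has order 2^(2n²) · 2n(q² − 1). -/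
theorem result {S : Type*} [Group S] [Finite S] (n : ℕ) (hn : 2 ≤ n) {F : Type*} [Field F] [Fintype F] (hF : Fintype.card F = 4 ^ n)
    (P : Sylow 2 ↥(Cfsg.SU 3 F (2 ^ n))) (hS : Nonempty (S ≃* ↥(P : Subgroup ↥(Cfsg.SU 3 F (2 ^ n))))) :
    Cfsg.IsElementaryAbelian 2 (Cfsg.pCore 2 (MulAut S)) ∧ Nat.card ↥(Cfsg.pCore 2 (MulAut S)) = 2 ^ (2 * n ^ 2) ∧
      Nat.card (MulAut S) = 2 ^ (2 * n ^ 2) * (2 * n * ((2 ^ n) ^ 2 - 1)) := by
  classical
  haveI : Fact (Nat.Prime 2) := ⟨Nat.prime_two⟩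
  have hF' : Fintype.card F = (2 ^ n) ^ 2 := by rw [hF, ← pow_mul, mul_comm, pow_mul]; norm_num
  haveI : CharP F 2 := InvChar.UnitaryThreeSylowExtension.charTwo (n := n) (by omega) hF'
  obtain ⟨B⟩ := Involutions.SylowPSUThree.exists_base hF'
  obtain ⟨e₁⟩ := InvChar.UnitaryThreeSylowExtension.sylow_SU_equiv hF' B P
  obtain ⟨e₂⟩ := hS
  let Φ := MulAut.congr (e₁.trans e₂.symm)
  have hk := InvChar.UnitaryThreeSylowAutGroup.pCore_eq_ker (hF := hF') (B := B)
  have hcore : Cfsg.pCore 2 (MulAut S) = (InvChar.UnitaryThreeSylowAutGroup.Ψ (hF := hF') (B := B)).ker.map Φ.toMonoidHom := by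
    rw [← hk]
    exact (Cores.map_pCore_eq Φ 2).symm
  refine ⟨⟨⟨⟨fun x y => Subtype.ext ?_⟩⟩, ?_⟩, ?_, ?_⟩
  · have hx2 := x.2
    have hy2 := y.2
    simp only [hcore] at hx2 hy2
    obtain ⟨u, hu, hux⟩ := hx2
    obtain ⟨v, hv, hvy⟩ := hy2
    show (x : MulAut S) * y = y * x
    rw [← hux, ← hvy, ← map_mul, ← map_mul,
      (InvChar.UnitaryThreeSylowAutGroup.ker_kill hu).2 v hv]
  · intro x hx
    rw [hcore] at hx
    obtain ⟨u, hu, rfl⟩ := hx
    rw [pow_two, ← map_mul, (InvChar.UnitaryThreeSylowAutGroup.ker_kill hu).1, map_one]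
  · rw [hcore, Nat.card_congr ((InvChar.UnitaryThreeSylowAutGroup.Ψ (hF := hF') (B := B)).ker.equivMapOfInjective
      Φ.toMonoidHom Φ.injective).symm.toEquiv, InvChar.UnitaryThreeSylowAutGroup.card_ker_eq]
  · rw [← Nat.card_congr Φ.toEquiv, ← Subgroup.card_mul_index (InvChar.UnitaryThreeSylowAutGroup.Ψ (hF := hF') (B := B)).ker,
      Subgroup.index_ker, InvChar.UnitaryThreeSylowAutGroup.card_ker_eq,
      InvChar.UnitaryThreeSylowAutGroup.card_range (by omega)]

end Cfsg.Agent.S3162
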