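import Cfsg.Statements.S3163
import Mathlib

set_option linter.all false

set_option autoImplicit false
open Cfsg

namespace Cfsg.Agent.S3163

theorem bound {S : Type*} [Group S] [Finite S] (A B : Subgroup S)
    (hA : ∀ x ∈ A, ∀ y ∈ A, x * y = y * x) (hB : ∀ x ∈ B, ∀ y ∈ B, x * y = y * x)
    (hAB : ∀ s : S, ∃ a ∈ A, ∃ b ∈ B, s = a * b)
    (hC : ∀ a ∈ A, a ∉ B → ∀ y, a * y = y * a → y ∈ A)
    (x : S) (hxA : x ∉ A) (hxB : x ∉ B) :
    Nat.card ↥(Subgroup.centralizer ({x} : Set S)) ≤ Nat.card B := by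
  classical
  set C := Subgroup.centralizer ({x} : Set S) with hCdef
  set Z := A ⊓ B with hZ
  have hZc : ∀ z ∈ Z, ∀ s : S, z * s = s * z := by
    intro z hz s
    obtain ⟨a, ha, b, hb, rfl⟩ := hAB s
    rw [← mul_assoc, hA z hz.1 a ha, mul_assoc, hB z hz.2 b hb, ← mul_assoc]
  have hZC : Z ≤ C := fun z hz => Subgroup.mem_centralizer_singleton_iff.2 (hZc z hz x)
  have hint : ∀ u ∈ A, u ∈ C → u ∈ Z := by
    intro u hu huC
    refine ⟨hu, by_contra fun huB => hxA (hC u hu huB x ?_)⟩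
    exact Subgroup.mem_centralizer_singleton_iff.1 huC
  choose fa hfa fb hfb hfab using hAB
  let f : C ⧸ Z.subgroupOf C → B ⧸ Z.subgroupOf B := fun q =>
    QuotientGroup.mk ⟨fb ((q.out : C) : S), hfb _⟩
  have hf : Function.Injective f := by
    intro q q' h
    rw [QuotientGroup.eq, Subgroup.mem_subgroupOf] at h
    have hmem : ((q.out : C) : S)⁻¹ * ((q'.out : C) : S) ∈ Z := by
      set y := ((q.out : C) : S) with hy
      set y' := ((q'.out : C) : S) with hy'
      set w := (fb y)⁻¹ * fb y' with hw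
      have hwZ : w ∈ Z := h
      have hyC : y' * y⁻¹ ∈ C := C.mul_mem (q'.out : C).2 (C.inv_mem (q.out : C).2)
      have hyA : y' * y⁻¹ ∈ A := by
        have e : y' * y⁻¹ = fa y' * w * (fa y)⁻¹ := by
          rw [hfab y', hfab y, hw]
          have hbb : fb y' * (fb y)⁻¹ = (fb y)⁻¹ * fb y' := hB _ (hfb _) _ (B.inv_mem (hfb _))
          calc fa y' * fb y' * (fa y * fb y)⁻¹ = fa y' * (fb y' * (fb y)⁻¹) * (fa y)⁻¹ := by group
            _ = _ := by
              rw [hbb, ← hfab y', ← hfab y]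
        rw [e]
        exact A.mul_mem (A.mul_mem (hfa _) hwZ.1) (A.inv_mem (hfa _))
      have h2 := hint _ hyA hyC
      have e2 : y⁻¹ * y' = y⁻¹ * (y' * y⁻¹) * y := by group
      rw [e2, mul_assoc, hZc _ h2 y, inv_mul_cancel_left]
      exact h2
    rw [← QuotientGroup.out_eq' q, ← QuotientGroup.out_eq' q', QuotientGroup.eq, Subgroup.mem_subgroupOf]
    exact hmem
  have h := Nat.card_le_card_of_injective f hf
  have e1 := Subgroup.card_eq_card_quotient_mul_card_subgroup (Z.subgroupOf C)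
  have e2 := Subgroup.card_eq_card_quotient_mul_card_subgroup (Z.subgroupOf B)
  rw [e1, e2, Nat.card_congr (Subgroup.subgroupOfEquivOfLe hZC).toEquiv,
    Nat.card_congr (Subgroup.subgroupOfEquivOfLe (inf_le_right : Z ≤ B)).toEquiv]
  exact Nat.mul_le_mul_right _ h

/-- Let S be a non-abelian finite 2-group which is the product S = AB of two elementary abelian subgroups A and B, and suppose that the centralizer in S of every element of A outside B is exactly A. Then the centralizer of every element of B outside A is exactly B; A and B are maximal elementary abelian subgroups of S and the only ones; the centre of S is A ∩ B; and every element of S outside A ∪ B has centralizer of order at most min(|A|, |B|). -/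
theorem result {S : Type*} [Group S] [Finite S] (hS : IsPGroup 2 S) (hna : ¬ IsMulCommutative S) (A B : Subgroup S)
    (hA : Cfsg.IsElementaryAbelian 2 A) (hB : Cfsg.IsElementaryAbelian 2 B) (hAB : ∀ s : S, ∃ a ∈ A, ∃ b ∈ B, s = a * b)
    (hC : ∀ a ∈ A, a ∉ B → Subgroup.centralizer ({a} : Set S) = A) :
    (∀ b ∈ B, b ∉ A → Subgroup.centralizer ({b} : Set S) = B) ∧
      (∀ E : Subgroup S, Cfsg.IsElementaryAbelian 2 E → (∀ E' : Subgroup S, Cfsg.IsElementaryAbelian 2 E' → E ≤ E' → E' = E) → E = A ∨ E = B) ∧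
      (∀ E' : Subgroup S, Cfsg.IsElementaryAbelian 2 E' → A ≤ E' → E' = A) ∧ (∀ E' : Subgroup S, Cfsg.IsElementaryAbelian 2 E' → B ≤ E' → E' = B) ∧
      Subgroup.center S = A ⊓ B ∧
      (∀ x : S, x ∉ A → x ∉ B → Nat.card ↥(Subgroup.centralizer ({x} : Set S)) ≤ min (Nat.card ↥A) (Nat.card ↥B)) := by
  classical
  have hAc : ∀ x ∈ A, ∀ y ∈ A, x * y = y * x := fun x hx y hy =>
    congrArg Subtype.val (hA.1.is_comm.comm (⟨x, hx⟩ : A) ⟨y, hy⟩)
  have hBc : ∀ x ∈ B, ∀ y ∈ B, x * y = y * x := fun x hx y hy =>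
    congrArg Subtype.val (hB.1.is_comm.comm (⟨x, hx⟩ : B) ⟨y, hy⟩)
  have hCA : ∀ a ∈ A, a ∉ B → ∀ y, a * y = y * a → y ∈ A := fun a ha haB y hy =>
    hC a ha haB ▸ Subgroup.mem_centralizer_singleton_iff.2 hy.symm
  have hCB : ∀ b ∈ B, b ∉ A → ∀ y, b * y = y * b → y ∈ B := by
    intro b hb hbA y hy
    obtain ⟨a, ha, b', hb', rfl⟩ := hAB y
    have hab : a * b = b * a := by
      rw [← mul_assoc, mul_assoc a, hBc b' hb' b hb, ← mul_assoc] at hy
      exact (mul_right_cancel hy).symm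
    exact B.mul_mem (by_contra fun haB => hbA (hCA a ha haB b hab)) hb'
  have hAB' : ∀ s : S, ∃ b ∈ B, ∃ a ∈ A, s = b * a := by
    intro s
    obtain ⟨a, ha, b, hb, h⟩ := hAB s⁻¹
    exact ⟨b⁻¹, inv_mem hb, a⁻¹, inv_mem ha, by rw [← mul_inv_rev, ← h, inv_inv]⟩
  obtain ⟨a₀, ha₀, ha₀B⟩ : ∃ a ∈ A, a ∉ B := by
    by_contra hc
    push Not at hc
    refine hna ⟨⟨fun x y => ?_⟩⟩
    have : ∀ s : S, s ∈ B := fun s => by
      obtain ⟨a, ha, b, hb, rfl⟩ := hAB s
      exact B.mul_mem (hc a ha) hb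
    exact hBc x (this x) y (this y)
  obtain ⟨b₀, hb₀, hb₀A⟩ : ∃ b ∈ B, b ∉ A := by
    by_contra hc
    push Not at hc
    refine hna ⟨⟨fun x y => ?_⟩⟩
    have : ∀ s : S, s ∈ A := fun s => by
      obtain ⟨a, ha, b, hb, rfl⟩ := hAB s
      exact A.mul_mem ha (hc b hb)
    exact hAc x (this x) y (this y)
  have hmaxA : ∀ E : Subgroup S, Cfsg.IsElementaryAbelian 2 E → A ≤ E → E = A := fun E hE hle =>
    le_antisymm (fun e he => hCA a₀ ha₀ ha₀B e
      (congrArg Subtype.val (hE.1.is_comm.comm (⟨a₀, hle ha₀⟩ : E) ⟨e, he⟩))) hle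
  have hmaxB : ∀ E : Subgroup S, Cfsg.IsElementaryAbelian 2 E → B ≤ E → E = B := fun E hE hle =>
    le_antisymm (fun e he => hCB b₀ hb₀ hb₀A e
      (congrArg Subtype.val (hE.1.is_comm.comm (⟨b₀, hle hb₀⟩ : E) ⟨e, he⟩))) hle
  refine ⟨?_, ?_, hmaxA, hmaxB, ?_, ?_⟩
  · intro b hb hbA
    refine le_antisymm (fun y hy => hCB b hb hbA y (Subgroup.mem_centralizer_singleton_iff.1 hy).symm) ?_
    exact fun y hy => Subgroup.mem_centralizer_singleton_iff.2 (hBc y hy b hb)
  · intro E hE hmax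
    have hinv : ∀ x ∈ E, x ∈ A ∨ x ∈ B := by
      intro x hx
      by_contra hc
      push Not at hc
      obtain ⟨a, ha, b, hb, rfl⟩ := hAB x
      have haB : a ∉ B := fun h => hc.2 (B.mul_mem h hb)
      apply hc.1
      refine A.mul_mem ha (hCA a ha haB b ?_)
      have h2 := hE.2 _ hx
      have haa := hA.2 a ha
      have hbb := hB.2 b hb
      rw [pow_two] at h2 haa hbb
      calc a * b = a * b * ((a * b) * (a * b))⁻¹ := by rw [h2, inv_one, mul_one]
        _ = b⁻¹ * a⁻¹ := by group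
        _ = b * a := by rw [inv_eq_of_mul_eq_one_right hbb, inv_eq_of_mul_eq_one_right haa]
    by_cases hEA : E ≤ A
    · exact Or.inl (hmax A hA hEA).symm
    · right
      obtain ⟨u, huE, huA⟩ := SetLike.not_le_iff_exists.1 hEA
      refine (hmax B hB fun x hx => ?_).symm
      rcases hinv x hx with h | h
      · have huB : u ∈ B := (hinv u huE).resolve_left huA
        rcases hinv _ (E.mul_mem hx huE) with h2 | h2
        · exact absurd ((A.mul_mem_cancel_left h).1 h2) huA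
        · exact (B.mul_mem_cancel_right huB).1 h2
      · exact h
  · apply le_antisymm
    · intro z hz
      have h := Subgroup.mem_center_iff.1 hz
      exact ⟨hCA a₀ ha₀ ha₀B z (h a₀), hCB b₀ hb₀ hb₀A z (h b₀)⟩
    · intro z hz
      rw [Subgroup.mem_center_iff]
      intro s
      obtain ⟨a, ha, b, hb, rfl⟩ := hAB s
      rw [mul_assoc, hBc b hb z hz.2, ← mul_assoc, hAc a ha z hz.1, mul_assoc]
  · intro x hxA hxB
    exact le_min (bound B A hBc hAc hAB' hCB x hxB hxA) (bound A B hAc hBc hAB hCA x hxA hxB)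

end Cfsg.Agent.S3163
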