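import Cfsg.Statements.S3164
import Cfsg.Agent.Lib.Components.Fitting
import Cfsg.Agent.Lib.Components.Local
import Cfsg.Agent.Lib.Coprime.Generation
import Cfsg.Agent.Lib.Coprime.PGroup
import Cfsg.Agent.Lib.Cores.Basic
import Cfsg.Agent.Lib.Cores.Subnormal
import Cfsg.Agent.Lib.Cores.Nilpotent
import Cfsg.Agent.Lib.Involutions.ThompsonTransfer

set_option autoImplicit false
set_option linter.style.longLine false

namespace Cfsg.Agent.S3164

open Subgroup
open scoped commutatorElement
open Cfsg.Agent.Components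

variable {G : Type*} [Group G] [Finite G]

lemma perfect_of_qs {A : Subgroup G} (hA : Cfsg.IsQuasisimple ↥A) : ⁅A, A⁆ = A :=
  Subgroup.isPerfect_iff.mp hA.1

lemma qs_le_or_central {A N : Subgroup G} (hA : Cfsg.IsQuasisimple ↥A)
    (hn : A ≤ normalizer (N : Set G)) : A ≤ N ∨ A ⊓ N ≤ centralizer (A : Set G) := by
  haveI : (N.subgroupOf A).Normal :=
    ⟨fun y hy x => (mem_normalizer_iff.mp (hn x.2) (y : G)).mp hy⟩
  rcases Basic.quasisimple_eq_top_or_le_center_of_normal hA (N.subgroupOf A) with h | h
  · exact Or.inl (subgroupOf_eq_top.1 h)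
  · refine Or.inr fun y hy => mem_centralizer_iff.mpr fun x hx => ?_
    exact congrArg Subtype.val
      (Subgroup.mem_center_iff.1 (h (show (⟨y, hy.1⟩ : A) ∈ N.subgroupOf A from hy.2)) ⟨x, hx⟩)

lemma not_le_centralizer_self {A : Subgroup G} (hA : Cfsg.IsQuasisimple ↥A) :
    ¬ A ≤ centralizer (A : Set G) := by
  intro h
  have h1 : ⁅A, A⁆ = ⊥ := commutator_eq_bot_iff_le_centralizer.mpr h
  rw [perfect_of_qs hA] at h1
  haveI := Basic.quasisimple_nontrivial hA
  exact (Subgroup.nontrivial_iff_ne_bot A).mp inferInstance h1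

/-- For an involution `t` centralizing the quasisimple `A`, with `C(t) ≤ N(A)`: on a normal
subgroup `N` meeting `A` centrally, `A` centralizes `C_N(t)`. -/
lemma centralizes_fixed {A N : Subgroup G} [N.Normal] (hA : Cfsg.IsQuasisimple ↥A) {t : G}
    (htA : t ∈ centralizer (A : Set G)) (hCt : centralizer ({t} : Set G) ≤ normalizer (A : Set G))
    (hz : A ⊓ N ≤ centralizer (A : Set G)) :
    N ⊓ centralizer ({t} : Set G) ≤ centralizer (A : Set G) := by
  set D := N ⊓ centralizer ({t} : Set G) with hD
  have h1 : ⁅D, A⁆ ≤ centralizer (A : Set G) := by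
    refine le_trans (le_inf ?_ ?_) hz
    · exact commutator_le.mpr fun d hd a ha => by
        rw [commutatorElement_def]
        exact A.mul_mem ((mem_normalizer_iff.mp (hCt hd.2) a).mp ha) (A.inv_mem ha)
    · exact (commutator_mono inf_le_left le_rfl).trans (commutator_le_left N A)
  apply commutator_eq_bot_iff_le_centralizer.mp
  rw [commutator_comm]
  apply Basic.commutator_eq_bot_of_perfect (perfect_of_qs hA)
  rw [commutator_comm A D]
  exact commutator_eq_bot_iff_le_centralizer.mpr h1

theorem result {G : Type*} [Group G] [Finite G] (A : Subgroup G) (hA : Cfsg.IsStandardSubgroup A)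
    (hcyc : ∀ R : Sylow 2 ↥(Subgroup.centralizer (A : Set G)), IsCyclic ↥(R : Subgroup ↥(Subgroup.centralizer (A : Set G)))) (t : G) (ht : orderOf t = 2) (htA : t ∈ Subgroup.centralizer (A : Set G))
    (R : Subgroup G) (hR2 : IsPGroup 2 ↥R) (hRX : R ≤ Subgroup.normalClosure (A : Set G)) (hRt : ∀ r ∈ R, t * r * t⁻¹ ∈ R)
    (hc1 : ⁅R, Subgroup.zpowers t⁆ ≠ ⊥) (hc2 : ⁅R, Subgroup.zpowers t⁆ ≤ A) :
    Cfsg.layer ↥(Subgroup.normalClosure (A : Set G)) = ⊤ ∧ Odd (Nat.card ↥(Subgroup.center ↥(Subgroup.normalClosure (A : Set G)))) := by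
  classical
  haveI : Fact (Nat.Prime 2) := ⟨Nat.prime_two⟩
  obtain ⟨hqs, htight, -, hNN⟩ := hA
  set C := Subgroup.centralizer (A : Set G) with hCdef
  have hperf := perfect_of_qs hqs
  have ht2 : t * t = 1 := by rw [← sq, ← ht, pow_orderOf_eq_one]
  have ht1 : t ≠ 1 := fun h => by simp [h] at ht
  have htinv : t⁻¹ = t := inv_eq_of_mul_eq_one_left ht2
  -- `C(t) ≤ N(A)`
  have hCt : Subgroup.centralizer ({t} : Set G) ≤ normalizer (A : Set G) := by
    intro h hh
    rw [hNN]
    by_contra hno
    have hodd := htight.2 h hno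
    have hm : t ∈ C ⊓ C.map (MulAut.conj h).toMonoidHom := by
      refine ⟨htA, t, htA, ?_⟩
      show h * t * h⁻¹ = t
      rw [Subgroup.mem_centralizer_singleton_iff.1 hh, mul_inv_cancel_right]
    have := Odd.of_dvd_nat hodd (Subgroup.orderOf_dvd_natCard _ hm)
    rw [ht] at this
    exact absurd this (by decide)
  -- 2-subgroups of `C` are cyclic
  have hcyc' : ∀ U : Subgroup G, IsPGroup 2 U → U ≤ C → IsCyclic U := by
    intro U hU hUC
    obtain ⟨Q, hQ⟩ := (show IsPGroup 2 (U.subgroupOf C) from
      hU.of_injective (subgroupOfEquivOfLe hUC).toMonoidHom (MulEquiv.injective _)).exists_le_sylow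
    haveI := hcyc Q
    haveI : IsCyclic ↥(U.subgroupOf C) := Subgroup.isCyclic_of_le hQ
    exact isCyclic_of_surjective (subgroupOfEquivOfLe hUC).toMonoidHom (MulEquiv.surjective _)
  -- four-groups
  have four : ∀ u v : G, u * u = 1 → v * v = 1 → Commute u v →
      IsPGroup 2 ↥(Subgroup.closure ({u, v} : Set G)) ∧ IsMulCommutative ↥(Subgroup.closure ({u, v} : Set G)) ∧
        ∀ w ∈ Subgroup.closure ({u, v} : Set G), w = 1 ∨ w = u ∨ w = v ∨ w = u * v := by
    intro u v hu hv huv
    have hui : u⁻¹ = u := inv_eq_of_mul_eq_one_left hu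
    have hvi : v⁻¹ = v := inv_eq_of_mul_eq_one_left hv
    have e : v * u = u * v := huv.eq.symm
    let W : Subgroup G :=
      { carrier := {w | w = 1 ∨ w = u ∨ w = v ∨ w = u * v}
        one_mem' := Or.inl rfl
        mul_mem' := by
          rintro x y hx hy
          have m1 : ∀ x, u * (u * x) = x := fun x => by rw [← mul_assoc, hu, one_mul]
          have m2 : ∀ x, v * (u * x) = u * (v * x) := fun x => by rw [← mul_assoc, e, mul_assoc]
          have m3 : ∀ x, v * (v * x) = x := fun x => by rw [← mul_assoc, hv, one_mul]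
          simp only [Set.mem_setOf_eq] at hx hy ⊢
          rcases hx with hx | hx | hx | hx <;> rcases hy with hy | hy | hy | hy <;> rw [hx, hy] <;>
            simp [mul_assoc, hu, hv, e, m1, m2, m3]
        inv_mem' := by
          rintro x (rfl | rfl | rfl | rfl) <;> simp [hui, hvi, e] }
    have hle : Subgroup.closure ({u, v} : Set G) ≤ W := (Subgroup.closure_le W).mpr (by
      rintro x (rfl | rfl)
      · exact Or.inr (Or.inl rfl)
      · exact Or.inr (Or.inr (Or.inl rfl)))
    have hsq : ∀ w ∈ W, w ^ 2 = 1 := by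
      rintro w (rfl | rfl | rfl | rfl)
      · simp
      · rw [sq, hu]
      · rw [sq, hv]
      · rw [sq, mul_assoc, ← mul_assoc v u v, e, mul_assoc u v v, hv, mul_one, hu]
    refine ⟨fun w => ⟨1, ?_⟩, Subgroup.isMulCommutative_closure ?_, fun w hw => hle hw⟩
    · rw [pow_one]
      exact Subtype.ext (by rw [SubmonoidClass.coe_pow]; exact hsq w (hle w.2))
    · rintro x (rfl | rfl) y (rfl | rfl)
      · rfl
      · exact huv.eq
      · exact huv.eq.symm
      · rfl
  -- commuting involutions in `C` are equal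
  have uniq : ∀ u v : G, u ∈ C → v ∈ C → u * u = 1 → v * v = 1 → u ≠ 1 → v ≠ 1 → Commute u v → u = v := by
    intro u v hu hv hu2 hv2 hu1 hv1 huv
    set W := Subgroup.closure ({u, v} : Set G) with hW
    haveI := hcyc' W (four u v hu2 hv2 huv).1 ((Subgroup.closure_le C).mpr (by
      rintro x (rfl | rfl) <;> assumption))
    have hm : ∀ x : W, (x : G) * x = 1 → x ≠ 1 → x ∈ ({y : W | y ^ 2 = 1} : Set W) \ {1} :=
      fun x hx hx1 => ⟨Subtype.ext (by rw [SubmonoidClass.coe_pow, sq]; exact hx), hx1⟩
    by_contra hne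
    let x : W := ⟨u, Subgroup.subset_closure (Or.inl rfl)⟩
    let y : W := ⟨v, Subgroup.subset_closure (Or.inr rfl)⟩
    haveI : Fintype W := Fintype.ofFinite W
    have hle := IsCyclic.card_pow_eq_one_le (α := W) (n := 2) (by norm_num)
    have hsub : ({1, x, y} : Finset W) ⊆ Finset.univ.filter (fun a : W => a ^ 2 = 1) := by
      intro a ha
      simp only [Finset.mem_insert, Finset.mem_singleton] at ha
      simp only [Finset.mem_filter, Finset.mem_univ, true_and]
      rcases ha with rfl | rfl | rfl
      · simp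
      · exact (hm x hu2 (fun h => hu1 (congrArg Subtype.val h))).1
      · exact (hm y hv2 (fun h => hv1 (congrArg Subtype.val h))).1
    have h3 : ({1, x, y} : Finset W).card = 3 := by
      rw [Finset.card_eq_three]
      exact ⟨1, x, y, fun h => hu1 (congrArg Subtype.val h.symm), fun h => hv1 (congrArg Subtype.val h.symm),
        fun h => hne (congrArg Subtype.val h), rfl⟩
    have := Finset.card_le_card hsub
    omega
  -- the involution `a = [r, t]`
  obtain ⟨r, hr, hrt⟩ : ∃ r ∈ R, r * t ≠ t * r := by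
    by_contra hcon
    push Not at hcon
    apply hc1
    rw [commutator_eq_bot_iff_le_centralizer]
    intro r hr
    rw [mem_centralizer_iff]
    rintro _ ⟨k, rfl⟩
    exact (Commute.zpow_left (hcon r hr).symm k).eq
  set a : G := r * t * r⁻¹ * t⁻¹ with hadef
  have haA : a ∈ A := hc2 (by
    have := commutator_mem_commutator hr (mem_zpowers t)
    rwa [commutatorElement_def] at this)
  have hat : Commute a t := Subgroup.mem_centralizer_iff.1 htA a haA
  have hu : a * t = r * t * r⁻¹ := by rw [hadef, inv_mul_cancel_right]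
  have hu2 : a * t * (a * t) = 1 := by
    rw [hu, show r * t * r⁻¹ * (r * t * r⁻¹) = r * (t * t) * r⁻¹ by group, ht2]; group
  have ha2 : a * a = 1 := by
    have h := hu2
    rwa [show a * t * (a * t) = a * (t * a) * t by group, ← hat.eq,
      show a * (a * t) * t = a * a * (t * t) by group, ht2, mul_one] at h
  have ha1 : a ≠ 1 := by
    intro h
    rw [hadef, mul_inv_eq_one, mul_inv_eq_iff_eq_mul] at h
    exact hrt h
  have haC : a ∉ C := by
    intro h
    have := uniq a t h htA ha2 ht2 ha1 ht1 hat
    rw [this, ht2] at hu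
    exact ht1 (conj_eq_one_iff.1 hu.symm)
  have hoa : orderOf a = 2 := orderOf_eq_prime (by rw [sq, ha2]) ha1
  -- the odd core
  set W := Cfsg.oddCore G with hWdef
  have hWo : Odd (Nat.card W) := Nat.coprime_two_right.1 (Cores.pPrimeCore_card_coprime (G := G) 2)
  haveI hWn : W.Normal := inferInstanceAs (Cfsg.pPrimeCore 2 G).Normal
  have hAW : A ≤ centralizer (W : Set G) := by
    have hz : A ⊓ W ≤ C := by
      refine (qs_le_or_central hqs (by rw [normalizer_eq_top]; exact le_top)).resolve_left fun h => ?_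
      have := Odd.of_dvd_nat hWo (Subgroup.orderOf_dvd_natCard _ (h haA))
      rw [hoa] at this
      exact absurd this (by decide)
    have hfix := centralizes_fixed hqs htA hCt hz
    -- the fixed points of `t` and `a * t` coincide
    set K1 := W ⊓ centralizer ({t} : Set G) with hK1
    set K2 := W ⊓ centralizer ({a * t} : Set G) with hK2
    have hK1a : ∀ x ∈ K1, x * a = a * x := fun x hx =>
      (Subgroup.mem_centralizer_iff.1 (hfix hx) a haA).symm
    have hle : K1 ≤ K2 := fun x hx => ⟨hx.1, Subgroup.mem_centralizer_singleton_iff.2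
      ((show Commute x a from hK1a x hx).mul_right (Subgroup.mem_centralizer_singleton_iff.1 hx.2)).eq⟩
    have hmap : K1.map (MulAut.conj r).toMonoidHom = K2 := by
      ext y
      rw [Subgroup.mem_map_equiv, hK1, hK2, hu, MulAut.conj_symm_apply]
      simp only [Subgroup.mem_inf, Subgroup.mem_centralizer_singleton_iff]
      refine and_congr ⟨fun h => ?_, fun h => ?_⟩ ⟨fun h => ?_, fun h => ?_⟩
      · simpa [mul_assoc] using hWn.conj_mem _ h r
      · simpa [mul_assoc] using hWn.conj_mem _ h r⁻¹
      · calc y * (r * t * r⁻¹) = r * (r⁻¹ * y * r * t) * r⁻¹ := by group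
          _ = r * (t * (r⁻¹ * y * r)) * r⁻¹ := by rw [h]
          _ = r * t * r⁻¹ * y := by group
      · calc r⁻¹ * y * r * t = r⁻¹ * (y * (r * t * r⁻¹)) * r := by group
          _ = r⁻¹ * (r * t * r⁻¹ * y) * r := by rw [h]
          _ = t * (r⁻¹ * y * r) := by group
    have heq : K1 = K2 := Subgroup.eq_of_le_of_card_ge hle (le_of_eq (by
      rw [← hmap]
      exact (Nat.card_congr (K1.equivMapOfInjective _ (MulAut.conj r).injective).toEquiv).symm))
    set V := Subgroup.closure ({a, t} : Set G) with hV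
    obtain ⟨hV2, hVc, hVel⟩ := four a t ha2 ht2 hat
    haveI := hVc
    have hVn : ¬ IsCyclic V := by
      intro hcV
      haveI : Fintype V := Fintype.ofFinite V
      have hle := IsCyclic.card_pow_eq_one_le (α := V) (n := 2) (by norm_num)
      let x : V := ⟨a, Subgroup.subset_closure (Or.inl rfl)⟩
      let y : V := ⟨t, Subgroup.subset_closure (Or.inr rfl)⟩
      have hsub : ({1, x, y} : Finset V) ⊆ Finset.univ.filter (fun b : V => b ^ 2 = 1) := by
        intro b hb
        simp only [Finset.mem_insert, Finset.mem_singleton] at hb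
        simp only [Finset.mem_filter, Finset.mem_univ, true_and]
        rcases hb with rfl | rfl | rfl
        · simp
        · exact Subtype.ext (by rw [SubmonoidClass.coe_pow, sq]; exact ha2)
        · exact Subtype.ext (by rw [SubmonoidClass.coe_pow, sq]; exact ht2)
      have h3 : ({1, x, y} : Finset V).card = 3 := by
        rw [Finset.card_eq_three]
        exact ⟨1, x, y, fun h => ha1 (congrArg Subtype.val h.symm), fun h => ht1 (congrArg Subtype.val h.symm),
          fun h => haC (by rw [show a = t from congrArg Subtype.val h]; exact htA), rfl⟩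
      have := Finset.card_le_card hsub
      omega
    have hcop : (Nat.card V).Coprime (Nat.card W) := by
      obtain ⟨k, hk⟩ := IsPGroup.iff_card.1 hV2
      rw [hk]; exact (Nat.coprime_two_left.2 hWo).pow_left k
    have hgen := Coprime.fixedGen_eq (A := V) (K := W) hVn (by rw [normalizer_eq_top]; exact le_top) hcop
    have hWa : W ≤ centralizer ({a} : Set G) := by
      rw [← hgen]
      refine iSup₂_le fun e he => ?_
      have hK1c : K1 ≤ centralizer ({a} : Set G) := fun x hx =>
        Subgroup.mem_centralizer_singleton_iff.2 (hK1a x hx)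
      rcases hVel e he.1 with h | h | h | h
      · exact absurd h he.2
      · rw [h]; exact inf_le_right
      · rw [h]; exact hK1c
      · rw [h]; exact (le_of_eq heq.symm).trans hK1c
    haveI : (centralizer (W : Set G)).Normal := inferInstance
    refine (qs_le_or_central hqs (by rw [normalizer_eq_top]; exact le_top)).resolve_right fun h => haC (h ⟨haA, ?_⟩)
    exact mem_centralizer_iff.mpr fun x hx => Subgroup.mem_centralizer_singleton_iff.1 (hWa hx)
  -- the 2-core
  set Q := Cfsg.pCore 2 G with hQdef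
  haveI hQn : Q.Normal := inferInstance
  have hAQ : A ≤ centralizer (Q : Set G) := by
    have hz : A ⊓ Q ≤ C := by
      refine (qs_le_or_central hqs (by rw [normalizer_eq_top]; exact le_top)).resolve_left fun h => ?_
      haveI := ((Cores.pCore_isPGroup (G := G) 2).to_le h).isNilpotent
      exact Basic.quasisimple_not_isSolvable hqs inferInstance
    have hfix := centralizes_fixed hqs htA hCt hz
    refine Local.le_of_pPrime_mem_of_perfect (p := 2) hperf fun x hx hox => ?_
    refine Coprime.le_centralizer_of_pxq (p := 2) (P := zpowers t) (Q := zpowers x) (U := Q) ?_ ?_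
      (Cores.pCore_isPGroup 2) ?_ ?_ ?_ ?_ (mem_zpowers x)
    · exact IsPGroup.of_card (n := 1) (by rw [Nat.card_zpowers, ht, pow_one])
    · rwa [Nat.card_zpowers]
    · rw [zpowers_le, mem_centralizer_iff]
      rintro _ ⟨k, rfl⟩
      exact (Commute.zpow_left (Subgroup.mem_centralizer_iff.1 htA x hx) k).eq
    · rw [normalizer_eq_top]; exact le_top
    · rw [normalizer_eq_top]; exact le_top
    · intro y hy
      have hy' : y ∈ C := hfix ⟨hy.1, Subgroup.mem_centralizer_singleton_iff.2
        (Subgroup.mem_centralizer_iff.1 hy.2 t (mem_zpowers t)).symm⟩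
      rw [mem_centralizer_iff]
      rintro _ ⟨k, rfl⟩
      exact (Commute.zpow_left (Subgroup.mem_centralizer_iff.1 hy' x hx) k).eq
  have hAF : A ≤ centralizer (Cfsg.fittingSubgroup G : Set G) := by
    have h1 : Cfsg.fittingSubgroup G ≤ Q ⊔ W := by
      rw [Fitting.fitting_eq_coreJoin]
      exact Fitting.coreJoin_le_sup 2
    refine le_trans ?_ (centralizer_le (SetLike.coe_subset_coe.2 h1))
    rw [le_centralizer_iff]
    exact sup_le (le_centralizer_iff.1 hAQ) (le_centralizer_iff.1 hAW)
  -- `A ≤ E(G)`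
  set E := Cfsg.layer G with hEdef
  have hAE : A ≤ E := by
    by_contra hnot
    have hz : A ⊓ E ≤ C :=
      (qs_le_or_central hqs (by rw [normalizer_eq_top]; exact le_top)).resolve_left hnot
    have hfix := centralizes_fixed hqs htA hCt hz
    have hEW : E ≤ W := by
      by_cases hodd : Odd (Nat.card E)
      · exact Cores.le_pPrimeCore (Nat.coprime_two_right.2 hodd)
      exfalso
      obtain ⟨P, hP⟩ := (IsPGroup.of_card (n := 1) (G := zpowers t)
        (by rw [Nat.card_zpowers, ht, pow_one])).exists_le_sylow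
      have htP : t ∈ (P : Subgroup G) := hP (mem_zpowers t)
      obtain ⟨Q', hQ'⟩ : ∃ Q' : Sylow 2 ↥E, (Q' : Subgroup ↥E) = (P : Subgroup G).subgroupOf E :=
        ⟨IsPGroup.toSylow (P.isPGroup'.comap_subtype)
          (Cores.sylow_subgroupOf_isSubnormal P (inferInstance : E.Normal).isSubnormal), rfl⟩
      set S := (P : Subgroup G) ⊓ E with hS
      have hQS : (Q' : Subgroup ↥E).map E.subtype = S := by
        rw [hQ', Subgroup.subgroupOf_map_subtype, hS]
      have hS1 : S.subgroupOf (P : Subgroup G) ≠ ⊥ := by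
        intro h
        rw [Subgroup.subgroupOf_eq_bot, disjoint_iff, inf_eq_left.mpr (inf_le_left : S ≤ P)] at h
        replace hQS := hQS.trans h
        have hb : (Q' : Subgroup ↥E) = ⊥ := by
          rwa [Subgroup.map_eq_bot_iff_of_injective _ (Subgroup.subtype_injective E)] at hQS
        have h2 : 2 ∣ Nat.card E := by
          rw [← even_iff_two_dvd]; exact Nat.not_odd_iff_even.mp hodd
        have := Q'.ne_bot_of_dvd_card h2
        exact this hb
      haveI := P.2.isNilpotent
      haveI : (S.subgroupOf (P : Subgroup G)).Normal := by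
        rw [hS, Subgroup.inf_subgroupOf_left]
        infer_instance
      have hne := Cores.inf_center_ne_bot hS1
      obtain ⟨w, hw, hw1⟩ := (Subgroup.ne_bot_iff_exists_ne_one).mp hne |> fun ⟨⟨w, hw⟩, h1⟩ =>
        (⟨w, hw, fun h => h1 (Subtype.ext h)⟩ : ∃ w, w ∈ S.subgroupOf (P : Subgroup G) ⊓ Subgroup.center _ ∧ w ≠ 1)
      obtain ⟨z, hz', hzo⟩ : ∃ z : (P : Subgroup G), z ∈ S.subgroupOf (P : Subgroup G) ⊓ Subgroup.center _ ∧
          orderOf z = 2 := by
        obtain ⟨k, hk⟩ := P.2 w
        have h2 : 2 ∣ orderOf w := by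
          obtain ⟨i, -, hi⟩ := (Nat.dvd_prime_pow Nat.prime_two).1 (orderOf_dvd_of_pow_eq_one hk)
          rw [hi]
          refine dvd_pow_self 2 ?_
          rintro rfl
          rw [pow_zero, orderOf_eq_one_iff] at hi
          exact hw1 hi
        exact ⟨w ^ (orderOf w / 2), Subgroup.pow_mem _ hw _,
          orderOf_pow_orderOf_div (orderOf_pos w).ne' h2⟩
      have hzC : ∀ y ∈ (P : Subgroup G), y * (z : G) = z * y := fun y hy =>
        congrArg Subtype.val (Subgroup.mem_center_iff.mp hz'.2 ⟨y, hy⟩)
      have hzS : (z : G) ∈ S := hz'.1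
      have hzo' : orderOf (z : G) = 2 := by rw [Subgroup.orderOf_coe, hzo]
      have hzt : (z : G) = t := by
        refine uniq z t (hfix ⟨hzS.2, Subgroup.mem_centralizer_singleton_iff.2 (hzC t htP).symm⟩) htA ?_ ht2 ?_ ht1
          (hzC t htP).symm
        · have h := pow_orderOf_eq_one (z : G)
          rwa [hzo', sq] at h
        · intro h; rw [h] at hzo'; simp at hzo'
      have hSC : S ≤ C := fun y hy => hfix ⟨hy.2, Subgroup.mem_centralizer_singleton_iff.2 (by
        rw [← hzt]; exact hzC y hy.1)⟩
      haveI := hcyc' S (P.2.to_le inf_le_left) hSC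
      haveI : IsCyclic ↥((Q' : Subgroup ↥E).map E.subtype) := by rw [hQS]; infer_instance
      haveI : IsCyclic ↥(Q' : Subgroup ↥E) := isCyclic_of_injective
        ((Q' : Subgroup ↥E).equivMapOfInjective _ (Subgroup.subtype_injective E)).toMonoidHom (MulEquiv.injective _)
      obtain ⟨H, hH⟩ := Involutions.ThompsonTransfer.exists_index_two_of_isCyclic_sylow
        (Nat.not_odd_iff_even.mp hodd) Q' inferInstance
      haveI := Subgroup.normal_of_index_eq_two hH
      have hEp : commutator E = ⊤ := by
        rw [← Subgroup.map_subtype_inj, map_subtype_commutator, Basic.commutator_layer_self,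
          ← MonoidHom.range_eq_map, range_subtype]
      have hle : commutator E ≤ H := by
        have : IsMulCommutative (↥E ⧸ H) := by
          haveI : Fact (Nat.Prime 2) := ⟨Nat.prime_two⟩
          haveI : IsCyclic (↥E ⧸ H) := isCyclic_of_prime_card (p := 2) (by rw [← Subgroup.index_eq_card, hH])
          infer_instance
        exact Subgroup.Normal.quotient_commutative_iff_commutator_le.mp this
      rw [hEp, top_le_iff] at hle
      rw [hle, Subgroup.index_top] at hH
      exact absurd hH (by decide)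
    have hAFs : A ≤ centralizer (Cfsg.generalizedFittingSubgroup G : Set G) := by
      rw [le_centralizer_iff]
      exact sup_le (hEW.trans (le_centralizer_iff.1 hAW)) (le_centralizer_iff.1 hAF)
    have hAin : A ≤ Cfsg.generalizedFittingSubgroup G := hAFs.trans Fitting.centralizer_genFitting_le
    exact not_le_centralizer_self hqs (hAFs.trans (centralizer_le (SetLike.coe_subset_coe.2 hAin)))
  -- the normal closure
  set X := Subgroup.normalClosure (A : Set G) with hXdef
  haveI hXn : X.Normal := Subgroup.normalClosure_normal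
  have hAX : A ≤ X := Subgroup.le_normalClosure
  have hXE : X ≤ E := Subgroup.normalClosure_le_normal hAE
  set E1 := sSup {L : Subgroup G | Cfsg.IsComponent L ∧ L ≤ X} with hE1
  have hXp : X ≤ ⁅X, X⁆ := Subgroup.normalClosure_le_normal
    (hperf.symm.le.trans (commutator_mono hAX hAX))
  have hX1 : X ≤ E1 := by
    set Y := Cfsg.fittingSubgroup G ⊓ X with hY
    have h1 : X ≤ E1 ⊔ Y :=
      Fitting.le_layerIn_sup_fitting (hXE.trans Fitting.layer_le_genFitting) hXn.isSubnormal
    have hE1X : E1 ≤ X := sSup_le fun L hL => hL.2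
    have hYX : Y ≤ centralizer (X : Set G) := inf_le_left.trans
      (Fitting.fitting_le_centralizer_layer.trans (centralizer_le (SetLike.coe_subset_coe.2 hXE)))
    refine hXp.trans (commutator_le.mpr fun x hx y hy => ?_)
    have hn : Y ≤ normalizer (E1 : Set G) :=
      hYX.trans ((centralizer_le (SetLike.coe_subset_coe.2 hE1X)).trans (centralizer_le_normalizer _))
    have hdec : ∀ w ∈ X, ∃ f ∈ Y, ∃ e ∈ E1, f * e = w := by
      intro w hw
      have := h1 hw
      rw [sup_comm, ← SetLike.mem_coe, coe_mul_of_left_le_normalizer_right Y E1 hn] at this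
      exact this
    obtain ⟨f, hf, e, he, rfl⟩ := hdec x hx
    obtain ⟨f', hf', e', he', rfl⟩ := hdec y hy
    have c1 : ∀ w ∈ X, w * f = f * w := fun w hw => Subgroup.mem_centralizer_iff.1 (hYX hf) w hw
    have c2 : ∀ w ∈ X, w * f' = f' * w := fun w hw => Subgroup.mem_centralizer_iff.1 (hYX hf') w hw
    have : ⁅f * e, f' * e'⁆ = ⁅e, e'⁆ := by
      simp only [commutatorElement_def, mul_inv_rev]
      have a1 : e * f' = f' * e := c2 e (hE1X he)
      have a2 : f' * f = f * f' := c1 f' hf'.2
      have a3 : e' * f⁻¹ = f⁻¹ * e' := (Commute.inv_right (c1 e' (hE1X he'))).eq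
      have a4 : e⁻¹ * f'⁻¹ = f'⁻¹ * e⁻¹ := (Commute.inv_inv (c2 e (hE1X he))).eq
      have a5 : ∀ w ∈ X, f * w * f⁻¹ = w := fun w hw => by rw [← c1 w hw, mul_inv_cancel_right]
      have a6 : ∀ w ∈ X, f' * w * f'⁻¹ = w := fun w hw => by rw [← c2 w hw, mul_inv_cancel_right]
      calc f * e * (f' * e') * (e⁻¹ * f⁻¹) * (e'⁻¹ * f'⁻¹)
          = f * (e * (f' * e') * e⁻¹) * f⁻¹ * (e'⁻¹ * f'⁻¹) := by group
        _ = e * (f' * e') * e⁻¹ * (e'⁻¹ * f'⁻¹) := by
            rw [a5 _ (X.mul_mem (X.mul_mem (hE1X he) hy) (X.inv_mem (hE1X he)))]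
        _ = (e * f') * e' * e⁻¹ * e'⁻¹ * f'⁻¹ := by group
        _ = f' * (e * e' * e⁻¹ * e'⁻¹) * f'⁻¹ := by rw [a1]; group
        _ = e * e' * e⁻¹ * e'⁻¹ := a6 _ (X.mul_mem (X.mul_mem (X.mul_mem (hE1X he) (hE1X he'))
            (X.inv_mem (hE1X he))) (X.inv_mem (hE1X he')))
    rw [this, commutatorElement_def]
    exact E1.mul_mem (E1.mul_mem (E1.mul_mem he he') (E1.inv_mem he)) (E1.inv_mem he')
  refine ⟨?_, ?_⟩
  · rw [← Subgroup.map_subtype_inj, ← MonoidHom.range_eq_map, range_subtype]
    refine le_antisymm (map_subtype_le _) (hX1.trans (sSup_le ?_))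
    rintro L ⟨hL, hLX⟩
    rw [← map_subgroupOf_eq_of_le hLX]
    exact Subgroup.map_mono (Basic.le_layer (Basic.component_subgroupOf hL hLX))
  · by_contra hodd
    haveI : Fact (Nat.Prime 2) := ⟨Nat.prime_two⟩
    obtain ⟨⟨z, hz⟩, hzo⟩ := exists_prime_orderOf_dvd_card' 2
      (even_iff_two_dvd.mp (Nat.not_odd_iff_even.mp hodd))
    rw [← Subgroup.orderOf_coe, ← Subgroup.orderOf_coe] at hzo
    change orderOf (z : G) = 2 at hzo
    have hz2 : (z : G) * z = 1 := by rw [← sq, ← hzo, pow_orderOf_eq_one]
    have hz1 : (z : G) ≠ 1 := by intro h; rw [h] at hzo; simp at hzo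
    have hzX : ∀ y ∈ X, y * (z : G) = z * y := fun y hy =>
      congrArg Subtype.val (Subgroup.mem_center_iff.mp hz ⟨y, hy⟩)
    have hzC : (z : G) ∈ C := Subgroup.mem_centralizer_iff.2 fun y hy => hzX y (hAX hy)
    set z' := t * (z : G) * t⁻¹ with hz'def
    have hz'C : z' ∈ C := C.mul_mem (C.mul_mem htA hzC) (C.inv_mem htA)
    have hzz' : Commute (z : G) z' := (hzX z' (hXn.conj_mem _ z.2 t)).symm
    have hz'2 : z' * z' = 1 := by
      rw [hz'def, show t * (z : G) * t⁻¹ * (t * z * t⁻¹) = t * (z * z) * t⁻¹ by group, hz2]; group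
    set w := (z : G) * z' with hwdef
    have hwt : Commute w t := by
      have e : t * w * t⁻¹ = w := by
        rw [hwdef, hz'def, show t * ((z : G) * (t * z * t⁻¹)) * t⁻¹ = (t * z * t⁻¹) * ((t * t) * z * (t * t)⁻¹) by group,
          ht2, one_mul, inv_one, mul_one, ← hz'def]
        exact hzz'.eq.symm
      exact (mul_inv_eq_iff_eq_mul.1 e).symm
    have hzt : (z : G) = t ∨ w = t := by
      by_cases hw1 : w = 1
      · left
        refine uniq z t hzC htA hz2 ht2 hz1 ht1 ?_
        have : z' = (z : G) := by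
          rw [eq_inv_of_mul_eq_one_right hw1, inv_eq_of_mul_eq_one_left hz2]
        exact (mul_inv_eq_iff_eq_mul.1 this).symm
      · right
        refine uniq w t (C.mul_mem hzC hz'C) htA ?_ ht2 hw1 ht1 hwt
        rw [hwdef, show (z : G) * z' * (z * z') = z * (z' * z) * z' by group, ← hzz'.eq,
          show (z : G) * (z * z') * z' = z * z * (z' * z') by group, hz2, hz'2, mul_one]
    apply hrt
    have hrz : r * (z : G) = z * r := hzX r (hRX hr)
    rcases hzt with h | h
    · rw [← h]; exact hrz
    · have hz'X : ∀ y ∈ X, y * z' = z' * y := by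
        intro y hy
        have := hzX (t⁻¹ * y * t) (by simpa using hXn.conj_mem y hy t⁻¹)
        calc y * z' = t * (t⁻¹ * y * t * z) * t⁻¹ := by rw [hz'def]; group
          _ = t * (z * (t⁻¹ * y * t)) * t⁻¹ := by rw [this]
          _ = z' * y := by rw [hz'def]; group
      rw [← h, hwdef]
      exact ((show Commute r (z : G) from hrz).mul_right (hz'X r (hRX hr))).eq

end Cfsg.Agent.S3164
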