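import Cfsg.Statements.S3166
import Mathlib

set_option autoImplicit false
open Cfsg

namespace Cfsg.Agent.S3166

/-- Let q = 2^n with n ≥ 1. If q⁴ − q³ + q² − q + 1 is a power p^m of a prime p, then m = 1: the value is never a prime power with exponent greater than 1. -/
theorem result (n p m : ℕ) (hn : 1 ≤ n) (hp : p.Prime) (h : (2 ^ n) ^ 4 - (2 ^ n) ^ 3 + (2 ^ n) ^ 2 - 2 ^ n + 1 = p ^ m) : m = 1 := by
  set q := 2 ^ n with hqdef
  have hq2 : 2 ≤ q := by
    calc 2 = 2 ^ 1 := rfl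
      _ ≤ q := Nat.pow_le_pow_right (by norm_num) hn
  have h34 : q ^ 3 ≤ q ^ 4 := Nat.pow_le_pow_right (by omega) (by norm_num)
  have h12 : q ≤ q ^ 4 - q ^ 3 + q ^ 2 := le_add_left (Nat.le_self_pow (by norm_num) q)
  have hz : ((p : ℤ) ^ m) = (q : ℤ) ^ 4 - (q : ℤ) ^ 3 + (q : ℤ) ^ 2 - q + 1 := by
    have := congrArg (fun x : ℕ => (x : ℤ)) h
    simp only [Nat.cast_add, Nat.cast_sub h12, Nat.cast_sub h34, Nat.cast_pow, Nat.cast_one] at this
    exact this.symm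
  have hqz : (2 : ℤ) ≤ q := by exact_mod_cast hq2
  generalize hQ : (q : ℤ) = Q at hz hqz
  rcases Nat.even_or_odd m with ⟨k, hk⟩ | hmo
  · exfalso
    set s : ℤ := 2 * (p : ℤ) ^ k with hs
    have hs2 : s ^ 2 = 4 * (Q ^ 4 - Q ^ 3 + Q ^ 2 - Q + 1) := by
      rw [hs, ← hz, hk, pow_add]; ring
    have hs0 : 0 ≤ s := by positivity
    have h1 : 2 * Q ^ 2 - Q < s := by
      nlinarith
    have h2 : s < 2 * Q ^ 2 - Q + 1 := by
      by_contra hcon
      have h3 : (2 * Q ^ 2 - Q + 1) ^ 2 ≤ s ^ 2 :=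
        pow_le_pow_left₀ (by nlinarith) (not_lt.1 hcon) 2
      nlinarith
    omega
  -- `m` is odd, so `q` divides `p - 1`
  have hgs : ((∑ i ∈ Finset.range m, (p : ℤ) ^ i) * ((p : ℤ) - 1)) = Q * ((Q - 1) * (Q ^ 2 + 1)) := by
    rw [geom_sum_mul, hz]; ring
  have hqeven : Q = 2 ^ n := by rw [← hQ, hqdef]; push_cast; rfl
  have hpodd : Odd p := by
    rcases hp.eq_two_or_odd' with rfl | h'
    · exfalso
      have he : Even ((2 : ℤ) ^ m) := Even.pow_of_ne_zero even_two (by rintro rfl; simp at hmo)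
      have hQe : Even Q := by rw [hqeven]; exact Even.pow_of_ne_zero even_two (by omega)
      push_cast at hz
      rw [hz] at he
      rw [Int.even_add, Int.even_sub, Int.even_add, Int.even_sub] at he
      simp [Int.even_pow, hQe] at he
    · exact h'
  have hcop : IsCoprime Q (∑ i ∈ Finset.range m, (p : ℤ) ^ i) := by
    rw [hqeven]
    refine IsCoprime.pow_left ?_
    rw [Int.isCoprime_iff_gcd_eq_one]
    have hso : Odd (∑ i ∈ Finset.range m, (p : ℤ) ^ i) := by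
      have hpo : Odd (p : ℤ) := by exact_mod_cast hpodd
      have key : ∀ j : ℕ, Odd (∑ i ∈ Finset.range j, (p : ℤ) ^ i) ↔ Odd j := by
        intro j
        induction j with
        | zero => simp
        | succ j ih =>
          rw [Finset.sum_range_succ, Int.odd_add, ih, Nat.odd_add_one, iff_comm]
          simp [Int.even_pow, (Int.not_even_iff_odd.2 hpo)]
      exact (key m).2 hmo
    obtain ⟨r, hr⟩ := hso
    rw [hr]
    simp
  have hdvd : Q ∣ (p : ℤ) - 1 := hcop.dvd_of_dvd_mul_left ⟨_, hgs⟩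
  obtain ⟨k, hk⟩ := hdvd
  have hp1 : (2 : ℤ) ≤ p := by exact_mod_cast hp.two_le
  have hk1 : 1 ≤ k := by nlinarith
  have hm3 : m < 5 := by
    by_contra hcon
    have h5 : (Q + 1) ^ 5 ≤ (p : ℤ) ^ m := by
      calc (Q + 1) ^ 5 ≤ (p : ℤ) ^ 5 := pow_le_pow_left₀ (by omega) (by nlinarith) 5
        _ ≤ (p : ℤ) ^ m := pow_le_pow_right₀ (by omega) (by omega)
    nlinarith [pow_le_pow_left₀ (by omega : (0:ℤ) ≤ 2) hqz 3, pow_pos (by omega : (0:ℤ) < Q) 4, pow_pos (by omega : (0:ℤ) < Q) 5]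
  obtain ⟨r, hr⟩ := hmo
  rcases (show m = 1 ∨ m = 3 by omega) with h1 | h1
  · exact h1
  exfalso
  subst h1
  have hkey : 3 * k + 3 * k ^ 2 * Q + k ^ 3 * Q ^ 2 = Q ^ 3 - Q ^ 2 + Q - 1 := by
    have hp' : (p : ℤ) = 1 + Q * k := by omega
    rw [hp'] at hz
    have : Q * (3 * k + 3 * k ^ 2 * Q + k ^ 3 * Q ^ 2) = Q * (Q ^ 3 - Q ^ 2 + Q - 1) := by
      linear_combination hz
    exact mul_left_cancel₀ (by omega) this
  have hd : Q ∣ 3 * k + 1 := ⟨Q ^ 2 - Q + 1 - 3 * k ^ 2 - k ^ 3 * Q, by linear_combination hkey⟩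
  have hle : Q ≤ 3 * k + 1 := Int.le_of_dvd (by omega) hd
  have hk3 : k ^ 3 < Q := by
    by_contra hcon
    nlinarith
  have hk2 : k < 2 := by nlinarith
  obtain rfl : k = 1 := by omega
  obtain rfl | rfl | rfl : Q = 2 ∨ Q = 3 ∨ Q = 4 := by omega
  all_goals norm_num at hkey

end Cfsg.Agent.S3166
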