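import Cfsg.Statements.S3171
import Cfsg.Agent.Lib.M24Sylow.Structure
import Cfsg.Agent.Lib.Golay.M24
-- import your own Cfsg.Agent.* helpers here

set_option autoImplicit false
open Cfsg

namespace Cfsg.Agent.S3171

/-- Let P be a Sylow 2-subgroup of the Mathieu group of degree 24 and S the quotient of P by its centre. Then the centre of every maximal subgroup of S has order at most 8; S has an elementary abelian subgroup of order 64; and S has only one abelian subgroup of order 64. -/
theorem result (P : Sylow 2 ↥Cfsg.M24) :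
    (∀ M : Subgroup (↥(P : Subgroup ↥Cfsg.M24) ⧸ Subgroup.center ↥(P : Subgroup ↥Cfsg.M24)), IsCoatom M →
        Nat.card ↥(Subgroup.center ↥M) ≤ 8) ∧
      (∃ A : Subgroup (↥(P : Subgroup ↥Cfsg.M24) ⧸ Subgroup.center ↥(P : Subgroup ↥Cfsg.M24)),
        Cfsg.IsElementaryAbelian 2 A ∧ Nat.card ↥A = 64) ∧
      ∀ A B : Subgroup (↥(P : Subgroup ↥Cfsg.M24) ⧸ Subgroup.center ↥(P : Subgroup ↥Cfsg.M24)),
        IsMulCommutative ↥A → Nat.card ↥A = 64 → IsMulCommutative ↥B → Nat.card ↥B = 64 → A = B := by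
  haveI : Fact (Nat.Prime 2) := ⟨Nat.prime_two⟩
  have hPG : Cfsg.Agent.Golay.Cert.tabGroup Cfsg.Agent.Golay.SylowTwoData.s24Pc ≤ Cfsg.M24 :=
    Cfsg.Agent.Golay.Cert.tabGroup_le_of fun g hg => Cfsg.Agent.Golay.Cert.tabPerm_mem (by
      have h := Cfsg.Agent.Golay.SylowTwo.s24_list
      simp only [Cfsg.Agent.Golay.TabList.listOK, Bool.and_eq_true, List.all_eq_true] at h
      exact h.1.1.1.1 g hg)
  have hcard : Nat.card ((Cfsg.Agent.Golay.Cert.tabGroup
      Cfsg.Agent.Golay.SylowTwoData.s24Pc).subgroupOf Cfsg.M24) =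
      2 ^ (Nat.card Cfsg.M24).factorization 2 := by
    rw [Nat.card_congr (Subgroup.subgroupOfEquivOfLe hPG).toEquiv, Cfsg.Agent.M24Sylow.card_P0,
      Cfsg.Agent.Golay.M24.card_M24, Nat.factorization_def _ Nat.prime_two,
      show (244823040 : ℕ) = 2 ^ 10 * 239085 by norm_num,
      padicValNat.mul (pow_ne_zero _ two_ne_zero) (by norm_num), padicValNat.prime_pow,
      padicValNat.eq_zero_of_not_dvd (by norm_num)]
    norm_num
  let e : ↥(P : Subgroup ↥Cfsg.M24) ≃* Cfsg.Agent.M24Sylow.P0 :=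
    (P.equiv (Sylow.ofCard _ hcard)).trans (Subgroup.subgroupOfEquivOfLe hPG)
  exact Cfsg.Agent.M24Sylow.structure_of_equiv
    (QuotientGroup.congr _ _ e (by
      ext x
      simp only [Subgroup.mem_map, Subgroup.mem_center_iff]
      constructor
      · rintro ⟨y, hy, rfl⟩ g
        obtain ⟨h, rfl⟩ := e.surjective g
        show e h * e y = e y * e h
        rw [← map_mul, ← map_mul, hy h]
      · intro hx
        obtain ⟨y, rfl⟩ := e.surjective x
        refine ⟨y, fun g => e.injective ?_, rfl⟩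
        rw [map_mul, map_mul]
        exact hx (e g)))
    Cfsg.Agent.M24Sylow.structureQ

end Cfsg.Agent.S3171
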