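import Cfsg.Statements.S3174
import Mathlib
import Cfsg.Agent.InvChar.RudvalisTwoGroup
set_option linter.all false

set_option autoImplicit false
open Cfsg

namespace Cfsg.Agent.S3174

/-- Let T be a finite 2-group of order at least 2^14 in which the fourth term of the upper central series has order 16. Let W be the centralizer in T of the third term Z₃(T), and suppose the Frattini subgroup of W has order at most 8 and lies in every subgroup of W of index at most 16. Then T has order exactly 2^14; the derived subgroup of W and the Frattini subgroup of W both equal Z₃(T), which is elementary abelian of order 8; the centre of W has order 8; W is normal in T with quotient dihedral of order 8; and W modulo its derived subgroup is elementary abelian of order 2^8. -/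
theorem result {T : Type*} [Group T] [Finite T]
    (hT : IsPGroup 2 T) (ha : 2 ^ 14 ≤ Nat.card T) (hb : Nat.card ↥(Subgroup.upperCentralSeries T 4) = 16)
    (W : Subgroup T) (hW : W = Subgroup.centralizer ((Subgroup.upperCentralSeries T 3 : Subgroup T) : Set T))
    (hc : Nat.card ↥(frattini ↥W) ≤ 8) (hd : ∀ U : Subgroup ↥W, U.index ≤ 16 → frattini ↥W ≤ U) :
    Nat.card T = 2 ^ 14 ∧
      (commutator ↥W).map W.subtype = Subgroup.upperCentralSeries T 3 ∧
      (frattini ↥W).map W.subtype = Subgroup.upperCentralSeries T 3 ∧
      Nat.card ↥(Subgroup.center ↥W) = 8 ∧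
      Nat.card ↥(Subgroup.upperCentralSeries T 3) = 8 ∧ (∀ z ∈ Subgroup.upperCentralSeries T 3, z ^ 2 = 1) ∧
      (∃ (_ : W.Normal), Nonempty (T ⧸ W ≃* DihedralGroup 4)) ∧
      Nat.card (↥W ⧸ commutator ↥W) = 2 ^ 8 ∧ (∀ x : ↥W ⧸ commutator ↥W, x ^ 2 = 1) := by
  have h : InvChar.RudvalisTwoGroup.Hyp W := ⟨hT, ha, hb, hW, hc, hd⟩
  have hZ3 : Nat.card ↥(Subgroup.upperCentralSeries T 3) = 8 := by rw [h.card_Z (by norm_num)]; norm_num
  refine ⟨?_, h.commutator_eq, h.phi_eq, ?_, hZ3, fun z hz => by rw [sq]; exact h.Z3_sq hz, h.dihedral, ?_, fun x => ?_⟩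
  · have := W.card_mul_index
    rw [h.card_W, h.index_eq] at this
    rw [← this]; norm_num
  · rw [← Subgroup.card_map_of_injective W.subtype_injective, h.center_eq, hZ3]
  · have h1 := (commutator ↥W).card_mul_index
    rw [h.card_W, Subgroup.index_eq_card, ← Subgroup.card_map_of_injective W.subtype_injective, h.commutator_eq, hZ3] at h1
    norm_num at h1 ⊢
    omega
  · induction x using QuotientGroup.induction_on with
    | _ w =>
      rw [sq, ← QuotientGroup.mk_mul]
      refine (QuotientGroup.eq_one_iff _).2 ?_
      have := h.sq_mem w.2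
      rw [← h.commutator_eq] at this
      exact (Subgroup.mem_map_iff_mem W.subtype_injective).1 this

end Cfsg.Agent.S3174
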