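import Cfsg.Statements.S3175
import Mathlib
import Cfsg.Agent.InvChar.RudvalisNormalizer
set_option linter.all false

set_option autoImplicit false
open Cfsg

namespace Cfsg.Agent.S3175

/-- Let G be a finite group whose Sylow 2-subgroup T has order at least 2^14 and whose upper central series has fourth term of order 16; let W be the centralizer in T of the third term, and suppose the Frattini subgroup of W has order at most 8 and lies in every subgroup of W of index at most 16. Then the normalizer of T in G has a normal 2-complement, and W is weakly closed in T with respect to G. -/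
theorem result {G : Type*} [Group G] [Finite G]
    (T : Sylow 2 G) (ha : 2 ^ 14 ≤ Nat.card ↥(T : Subgroup G))
    (hb : Nat.card ↥(Subgroup.upperCentralSeries ↥(T : Subgroup G) 4) = 16)
    (W : Subgroup ↥(T : Subgroup G))
    (hW : W = Subgroup.centralizer ((Subgroup.upperCentralSeries ↥(T : Subgroup G) 3 : Subgroup ↥(T : Subgroup G)) : Set ↥(T : Subgroup G)))
    (hc : Nat.card ↥(frattini ↥W) ≤ 8)
    (hd : ∀ U : Subgroup ↥W, U.index ≤ 16 → frattini ↥W ≤ U) :
    Cfsg.HasNormalPComplement 2 ↥(Subgroup.normalizer ((T : Subgroup G) : Set G)) ∧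
      Cfsg.IsWeaklyClosed (W.map (T : Subgroup G).subtype) (T : Subgroup G) := by
  have h : InvChar.RudvalisTwoGroup.Hyp W := ⟨T.isPGroup', ha, hb, hW, hc, hd⟩
  refine ⟨?_, ?_, ?_⟩
  · set N := Subgroup.normalizer ((T : Subgroup G) : Set G) with hN
    let T' : Sylow 2 ↥N := T.subtype Subgroup.le_normalizer
    haveI : (T' : Subgroup ↥N).Normal := Subgroup.normal_in_normalizer
    obtain ⟨K, hK⟩ := Subgroup.exists_right_complement'_of_coprime T'.card_coprime_index
    have hKodd : Odd (Nat.card ↥K) := by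
      rw [Nat.odd_iff, ← Nat.two_dvd_ne_zero, ← hK.symm.index_eq_card]
      exact T'.not_dvd_index
    have hfix : ∀ k ∈ K, ∀ t : ↥(T : Subgroup G), (k : G) * t * (k : G)⁻¹ = t := by
      intro k hk t
      have hodd : Odd (orderOf k) := Odd.of_dvd_nat hKodd (Subgroup.orderOf_dvd_natCard K hk)
      let f := Subgroup.normalizerMonoidHom (T : Subgroup G)
      have hit : ∀ n x, (fun y => f k y)^[n] x = f (k ^ n) x := by
        intro n
        induction n with
        | zero => intro x; simp
        | succ n ih => intro x; rw [Function.iterate_succ_apply', ih, pow_succ', map_mul]; rfl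
      have := h.aut_trivial (f k) hodd (fun x => by rw [hit, pow_orderOf_eq_one, map_one]; rfl) t
      exact congrArg Subtype.val this
    refine ⟨T', K, ⟨fun k hk n => ?_⟩, hK.symm⟩
    obtain ⟨⟨⟨t, ht⟩, ⟨k', hk'⟩⟩, rfl⟩ := hK.2 n
    have hmem : k' * k * k'⁻¹ ∈ K := K.mul_mem (K.mul_mem hk' hk) (K.inv_mem hk')
    suffices t * k' * k * (t * k')⁻¹ = k' * k * k'⁻¹ by
      show t * k' * k * (t * k')⁻¹ ∈ K
      rwa [this]
    have hc := hfix _ hmem ⟨(t : G), ht⟩
    apply Subtype.ext
    push_cast at hc ⊢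
    calc (t : G) * k' * k * ((t : G) * k')⁻¹ = (t : G) * ((k' : G) * k * (k' : G)⁻¹) * (t : G)⁻¹ := by group
      _ = ((k' : G) * k * (k' : G)⁻¹) * (t : G) * (t : G)⁻¹ := by rw [mul_inv_eq_iff_eq_mul.1 hc]
      _ = _ := by rw [mul_inv_cancel_right]
  · exact Subgroup.map_subtype_le W
  · intro g hg
    let ψ : ↥W →* ↥(T : Subgroup G) :=
      { toFun := fun w => ⟨g * ((w : ↥(T : Subgroup G)) : G) * g⁻¹,
          hg ⟨_, Subgroup.mem_map_of_mem _ w.2, rfl⟩⟩
        map_one' := by ext; simp
        map_mul' := fun x y => by ext; simp only [Subgroup.coe_mul]; group }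
    have hr := h.range_eq ψ (fun x y e => Subtype.ext (Subtype.ext (by
      simpa [ψ] using congrArg Subtype.val e)))
    conv_rhs => rw [← hr]
    rw [Subgroup.map_map, MonoidHom.map_range]
    ext x
    constructor
    · rintro ⟨w, hw, rfl⟩; exact ⟨⟨w, hw⟩, rfl⟩
    · rintro ⟨⟨w, hw⟩, rfl⟩; exact ⟨w, hw, rfl⟩

end Cfsg.Agent.S3175
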