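import Cfsg.Statements.S3179
import Cfsg.Agent.Lib.Forms.DicksonDihedral
import Cfsg.Agent.Lib.Suzuki.LieEquiv
import Cfsg.Agent.Lib.Involutions.SylowPSUThree
import Cfsg.Agent.Lib.Classical.Linear
-- import your own Cfsg.Agent.* helpers here

set_option autoImplicit false
open Cfsg

namespace Cfsg.Agent.S3179

/-- Two commuting elements of order three. -/
def mA : Matrix (Fin 5) (Fin 5) (ZMod 2) :=
  !![0,1,0,0,0; 1,1,0,0,0; 0,0,1,0,0; 0,0,0,1,0; 0,0,0,0,1]

def mB : Matrix (Fin 5) (Fin 5) (ZMod 2) :=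
  !![1,0,0,0,0; 0,1,0,0,0; 0,0,0,1,0; 0,0,1,1,0; 0,0,0,0,1]

theorem mA3 : mA * (mA * mA) = 1 := by decide +kernel
theorem mA3' : (mA * mA) * mA = 1 := by decide +kernel
theorem mB3 : mB * (mB * mB) = 1 := by decide +kernel
theorem mB3' : (mB * mB) * mB = 1 := by decide +kernel
theorem mAB : mA * mB = mB * mA := by decide +kernel
theorem mne : mA ≠ 1 ∧ mB ≠ 1 ∧ mB ≠ mA ∧ mB ≠ mA * mA := by decide +kernel

def gA : GL (Fin 5) (ZMod 2) := ⟨mA, mA * mA, mA3, mA3'⟩
def gB : GL (Fin 5) (ZMod 2) := ⟨mB, mB * mB, mB3, mB3'⟩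

theorem gA3 : gA ^ 3 = 1 := Units.ext (by rw [pow_three]; exact mA3)
theorem gB3 : gB ^ 3 = 1 := Units.ext (by rw [pow_three]; exact mB3)

theorem card_GL5 : Nat.card (GL (Fin 5) (ZMod 2)) = 9999360 := by
  haveI : Fact (Nat.Prime 2) := ⟨Nat.prime_two⟩
  rw [Classical.Linear.natCard_GL_fin, ZMod.card]
  norm_num [Fin.prod_univ_five]

theorem no_nine {G : Type*} [Group G] [Finite G] (hG : (Nat.card G).factorization 3 = 2) (gA gB : G) (hc : Commute gA gB) (gA3 : gA ^ 3 = 1) (gB3 : gB ^ 3 = 1) (mne : gA ≠ 1 ∧ gB ≠ 1 ∧ gB ≠ gA ∧ gB ≠ gA * gA) (x : G) : orderOf x ≠ 9 := by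
  classical
  haveI : Fact (Nat.Prime 3) := ⟨Nat.prime_three⟩
  intro hx
  let Q : Sylow 3 (G) := Sylow.ofCard (Subgroup.zpowers x)
    (by rw [Nat.card_zpowers, hx, hG]; rfl)
  have hP : IsPGroup 3 (Subgroup.closure {gA, gB} : Subgroup (G)) := by
    rw [Set.insert_eq, Subgroup.closure_union, ← Subgroup.zpowers_eq_closure, ← Subgroup.zpowers_eq_closure]
    have h1 : ∀ g : G, g ^ 3 = 1 → IsPGroup 3 (Subgroup.zpowers g) := fun g hg => by
      rintro ⟨_, k, rfl⟩
      refine ⟨1, Subtype.ext ?_⟩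
      show (g ^ k) ^ 3 ^ 1 = 1
      rw [pow_one, ← zpow_natCast, ← zpow_mul, mul_comm, zpow_mul, zpow_natCast, hg, one_zpow]
    refine (h1 _ gA3).to_sup_of_normal_right' (h1 _ gB3) ?_
    rw [Subgroup.zpowers_le, Subgroup.mem_normalizer_iff_map_conj_eq, MonoidHom.map_zpowers]
    congr 1
    show gA * gB * gA⁻¹ = gB
    rw [hc.eq, mul_inv_cancel_right]
  obtain ⟨P, hPle⟩ := hP.exists_le_sylow
  haveI : IsCyclic (Q : Subgroup (G)) :=
    (inferInstance : IsCyclic (Subgroup.zpowers x))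
  haveI : IsCyclic (P : Subgroup (G)) :=
    isCyclic_of_surjective (Sylow.equiv Q P) (Sylow.equiv Q P).surjective
  have hA : gA ∈ (P : Subgroup _) := hPle (Subgroup.subset_closure (by simp))
  have hB : gB ∈ (P : Subgroup _) := hPle (Subgroup.subset_closure (by simp))
  obtain ⟨hne1, hne2, hne3, hne4⟩ := mne
  have hoA : orderOf (⟨gA, hA⟩ : (P : Subgroup (G))) = 3 := by
    rw [← Subgroup.orderOf_coe]
    exact orderOf_eq_prime gA3 hne1
  have hoB : orderOf (⟨gB, hB⟩ : (P : Subgroup (G))) = 3 := by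
    rw [← Subgroup.orderOf_coe]
    exact orderOf_eq_prime gB3 hne2
  let a : (P : Subgroup (G)) := ⟨gA, hA⟩
  let b : (P : Subgroup (G)) := ⟨gB, hB⟩
  have ha1 : a ≠ 1 := fun h => hne1 (congrArg (fun u : (P : Subgroup (G)) => (u : G)) h)
  have hb1 : b ≠ 1 := fun h => hne2 (congrArg (fun u : (P : Subgroup (G)) => (u : G)) h)
  have hba : b ≠ a := fun h => hne3 (congrArg (fun u : (P : Subgroup (G)) => (u : G)) h)
  have hbaa : b ≠ a * a := fun h => hne4 (congrArg (fun u : (P : Subgroup (G)) => (u : G)) h)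
  have ha3 : a ^ 3 = 1 := Subtype.ext gA3
  have hb3 : b ^ 3 = 1 := Subtype.ext gB3
  haveI : Fintype (P : Subgroup (G)) := Fintype.ofFinite _
  have hle := IsCyclic.card_pow_eq_one_le (α := (P : Subgroup (G))) (n := 3) (by norm_num)
  have haa1 : a * a ≠ 1 := fun h => ha1 (by rwa [pow_three, h, mul_one] at ha3)
  have haaa : a * a ≠ a := fun h => ha1 (mul_eq_left.1 h)
  have hsub : ({1, a, a * a, b} : Finset (P : Subgroup (G))) ⊆
      Finset.univ.filter (fun u => u ^ 3 = 1) := by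
    intro u hu
    simp only [Finset.mem_insert, Finset.mem_singleton] at hu
    simp only [Finset.mem_filter, Finset.mem_univ, true_and]
    rcases hu with rfl | rfl | rfl | rfl
    · exact one_pow 3
    · exact ha3
    · rw [← pow_two, ← pow_mul, mul_comm, pow_mul, ha3, one_pow]
    · exact hb3
  have := (Finset.card_le_card hsub).trans hle
  have h4 : ({1, a, a * a, b} : Finset (P : Subgroup (G))).card = 4 := by
    rw [Finset.card_insert_of_notMem, Finset.card_insert_of_notMem, Finset.card_pair hbaa.symm]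
    · simp [haaa.symm, hba.symm]
    · simp [ha1.symm, haa1.symm, hb1.symm]
  omega

theorem not_order_nine (x : GL (Fin 5) (ZMod 2)) : orderOf x ≠ 9 := by
  refine no_nine ?_ gA gB (Units.ext mAB) gA3 gB3 ⟨fun h => mne.1 (congrArg Units.val h),
    fun h => mne.2.1 (congrArg Units.val h), fun h => mne.2.2.1 (congrArg Units.val h),
    fun h => mne.2.2.2 (congrArg Units.val h)⟩ x
  rw [card_GL5, show (9999360 : ℕ) = 1111040 * 3 ^ 2 by norm_num, Nat.factorization_mul (by norm_num) (by norm_num),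
    Finsupp.add_apply, Nat.Prime.factorization_pow Nat.prime_three, Finsupp.single_eq_same,
    Nat.factorization_eq_zero_of_not_dvd (by norm_num)]

theorem two_pow_le {i : ℕ} (h : 2 ^ i ∣ 9999360) : i ≤ 10 := by
  have h' : 2 ^ i ∣ 2 ^ 10 := Nat.Coprime.dvd_of_dvd_mul_right (n := 9765)
    (Nat.Coprime.pow_left _ (by norm_num)) (h.trans (by norm_num))
  exact (Nat.pow_dvd_pow_iff_le_right (by norm_num : 1 < 2)).1 h'

/-- Let X be a section of the general linear group GL(5, 2), that is, a quotient of a subgroup of it. If X is isomorphic to PSL(2, 2^n) for some n ≥ 2, to a Suzuki group over the field with 2^(2m+1) elements for some m ≥ 1, or to PSU(3, 2^n) for some n ≥ 2, then X is isomorphic to PSL(2, 4). -/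
theorem result {H : Subgroup (GL (Fin 5) (ZMod 2))}
    {K : Subgroup ↥H} [K.Normal]
    (hX : (∃ (n : ℕ) (F : Type) (_ : Field F) (_ : Fintype F), 2 ≤ n ∧ Fintype.card F = 2 ^ n ∧
        Nonempty (↥H ⧸ K ≃* Matrix.ProjectiveSpecialLinearGroup (Fin 2) F)) ∨
      (∃ (m : ℕ) (F : Type) (_ : Field F) (_ : Fintype F), 1 ≤ m ∧ Fintype.card F = 2 ^ (2 * m + 1) ∧
        Nonempty (↥H ⧸ K ≃* ↥(Cfsg.Lie.Sz F (2 ^ (m + 1))))) ∨
      (∃ (n : ℕ) (F : Type) (_ : Field F) (_ : Fintype F), 2 ≤ n ∧ Fintype.card F = 4 ^ n ∧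
        Nonempty (↥H ⧸ K ≃* Cfsg.PSU 3 F (2 ^ n)))) :
    ∃ (F : Type) (_ : Field F) (_ : Fintype F), Fintype.card F = 4 ∧
      Nonempty (↥H ⧸ K ≃* Matrix.ProjectiveSpecialLinearGroup (Fin 2) F) := by
  classical
  haveI : Fact (Nat.Prime 2) := ⟨Nat.prime_two⟩
  have hdvd : ∀ {X : Type} [Group X], Nonempty (↥H ⧸ K ≃* X) → Nat.card X ∣ 9999360 := by
    rintro X _ ⟨e⟩
    rw [← Nat.card_congr e.toEquiv, ← card_GL5]
    exact (K.card_quotient_dvd_card).trans H.card_subgroup_dvd_card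
  rcases hX with ⟨n, F, iF, iFin, hn, hF, hne⟩ | ⟨m, F, iF, iFin, hm, hF, hne⟩ |
    ⟨n, F, iF, iFin, hn, hF, hne⟩
  · rcases eq_or_ne n 2 with rfl | hn2
    · exact ⟨F, iF, iFin, by rw [hF]; norm_num, hne⟩
    exfalso
    have hd := hdvd hne
    have hc := Forms.DicksonCor.gcd_mul_natCard (F := F)
    rw [hF] at hc
    have hg : Nat.gcd 2 (2 ^ n - 1) = 1 := Forms.DicksonDihedral.gcd_two_eq_one (fun h => by
      obtain ⟨c, hc⟩ : 2 ∣ 2 ^ n := dvd_pow_self 2 (by omega)
      have := Nat.one_le_two_pow (n := n)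
      omega)
    rw [hg, one_mul] at hc
    rw [hc] at hd
    have hn10 : n ≤ 10 := two_pow_le ((Dvd.intro _ rfl : 2 ^ n ∣ 2 ^ n * ((2 ^ n - 1) * (2 ^ n + 1))).trans hd)
    interval_cases n <;> first | omega | (norm_num at hd) | skip
    obtain ⟨D, -, -, c, -, y, -, hco, -⟩ := Forms.DicksonDihedral.exists_plus (F := F)
    rw [hF] at hco
    norm_num at hco
    obtain ⟨e⟩ := hne
    obtain ⟨h, hh⟩ := QuotientGroup.mk_surjective (e.symm c)
    have h9 : 9 ∣ orderOf (h : GL (Fin 5) (ZMod 2)) := by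
      have := orderOf_map_dvd (QuotientGroup.mk' K) h
      rw [QuotientGroup.mk'_apply, hh, MulEquiv.orderOf_eq, hco] at this
      rwa [Subgroup.orderOf_coe]
    exact not_order_nine _ (orderOf_pow_orderOf_div (orderOf_pos _).ne' h9)
  · exfalso
    have hd := hdvd hne
    haveI : CharP F 2 := Suzuki.charTwo hF
    obtain ⟨e⟩ := Suzuki.lieEquiv hm hF
    rw [← Nat.card_congr e.toEquiv, Suzuki.card_eq hm hF, hF] at hd
    have hq : (2 ^ (2 * m + 1)) ^ 2 ∣ 9999360 :=
      ((Dvd.intro _ rfl).trans (Dvd.intro _ rfl)).trans hd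
    rw [← pow_mul] at hq
    have h1 := two_pow_le hq
    have hm2 : m ≤ 2 := by omega
    interval_cases m <;> norm_num at hd
  · exfalso
    have hd := hdvd hne
    have hF' : Fintype.card F = (2 ^ n) ^ 2 := by rw [hF, ← pow_mul, mul_comm, pow_mul]; norm_num
    haveI : CharP F 2 := charP_of_card_eq_prime_pow (f := n * 2) (by rw [hF', ← pow_mul])
    have hfac := Involutions.SylowPSUThree.factorization_PSU (F := F) hF'
    have hq : 2 ^ (3 * n) ∣ 9999360 := by
      rw [← hfac]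
      exact (Nat.ordProj_dvd _ _).trans hd
    have h1 := two_pow_le hq
    have hc := Classical.Unitary.natCard_PSU_mul hF' (n := 3) (by norm_num)
    rw [Classical.Unitary.natCard_GU hF'] at hc
    have hn3 : n ≤ 3 := by omega
    interval_cases n
    · norm_num [Finset.prod_range_succ] at hc
      have hcard : Nat.card (Cfsg.PSU 3 F (2 ^ 2)) = 62400 := by norm_num; omega
      rw [hcard] at hd
      norm_num at hd
    · norm_num [Finset.prod_range_succ] at hc
      have hcard : Nat.card (Cfsg.PSU 3 F (2 ^ 3)) = 5515776 := by norm_num; omega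
      rw [hcard] at hd
      norm_num at hd

end Cfsg.Agent.S3179
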