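import Cfsg.Statements.S3180


set_option autoImplicit false
open Cfsg

namespace Cfsg.Agent.S3180

/-- Let P be a Sylow p-subgroup of a finite group J and P₁ a subgroup of P that is weakly closed in P with respect to J. If J acts on a set and two points, each fixed by every element of P₁, lie in one J-orbit, then they lie in one orbit of the normalizer of P₁ in J. -/
theorem result {J : Type*} [Group J] [Finite J]
    {p : ℕ} [Fact p.Prime] (P : Sylow p J) (P₁ : Subgroup J) (hW : Cfsg.IsWeaklyClosed P₁ (P : Subgroup J))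
    {Ω : Type*} [MulAction J Ω] (x y : Ω) (hx : ∀ g ∈ P₁, g • x = x) (hy : ∀ g ∈ P₁, g • y = y)
    (hc : ∃ g : J, g • x = y) :
    ∃ g ∈ Subgroup.normalizer (P₁ : Set J), g • x = y := by
  classical
  obtain ⟨g, hg⟩ := hc
  obtain ⟨hP₁, hwc⟩ := hW
  let H := MulAction.stabilizer J x
  let P₂ := P₁.map (MulAut.conj g⁻¹).toMonoidHom
  have h1 : P₁ ≤ H := fun a ha => hx a ha
  have h2 : P₂ ≤ H := by
    rintro _ ⟨a, ha, rfl⟩
    show (g⁻¹ * a * g⁻¹⁻¹) • x = x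
    rw [inv_inv, mul_smul, mul_smul, hg, hy a ha, inv_smul_eq_iff, hg]
  have hp1 : IsPGroup p ↥P₁ := P.2.to_le hP₁
  have hp2 : IsPGroup p ↥P₂ := hp1.map _
  obtain ⟨Q₁, hQ₁⟩ := (hp1.comap_subtype (K := H)).exists_le_sylow
  obtain ⟨Q₂, hQ₂⟩ := (hp2.comap_subtype (K := H)).exists_le_sylow
  obtain ⟨h, hh⟩ := MulAction.exists_smul_eq ↥H Q₂ Q₁
  obtain ⟨R, hR⟩ := (Q₁.2.map H.subtype).exists_le_sylow
  obtain ⟨u, hu⟩ := MulAction.exists_smul_eq J R P
  have hin : ∀ k : J, k ∈ (R : Subgroup J) → u * k * u⁻¹ ∈ (P : Subgroup J) := by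
    intro k hk
    rw [← hu, Sylow.coe_subgroup_smul]
    exact ⟨k, hk, rfl⟩
  have e1 : P₁.map (MulAut.conj u).toMonoidHom = P₁ := by
    apply hwc
    rintro _ ⟨a, ha, rfl⟩
    exact hin a (hR ⟨⟨a, h1 ha⟩, hQ₁ ha, rfl⟩)
  have e2 : P₁.map (MulAut.conj (u * (h : J) * g⁻¹)).toMonoidHom = P₁ := by
    apply hwc
    rintro _ ⟨a, ha, rfl⟩
    have ha2 : g⁻¹ * a * g⁻¹⁻¹ ∈ P₂ := ⟨a, ha, rfl⟩
    have h3 : h * (⟨_, h2 ha2⟩ : ↥H) * h⁻¹ ∈ (Q₁ : Subgroup ↥H) := by
      rw [← hh, Sylow.coe_subgroup_smul]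
      exact ⟨_, hQ₂ ha2, rfl⟩
    have := hin _ (hR ⟨_, h3, rfl⟩)
    simpa [mul_assoc] using this
  have e3 : P₁.map (MulAut.conj ((h : J) * g⁻¹)).toMonoidHom = P₁ := by
    have key : P₁.map (MulAut.conj (u * (h : J) * g⁻¹)).toMonoidHom =
        (P₁.map (MulAut.conj ((h : J) * g⁻¹)).toMonoidHom).map (MulAut.conj u).toMonoidHom := by
      rw [Subgroup.map_map]
      congr 1
      ext z
      simp [mul_assoc]
    have h4 := e2
    rw [key] at h4
    nth_rw 2 [← e1] at h4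
    exact Subgroup.map_injective (MulAut.conj u).injective h4
  refine ⟨((h : J) * g⁻¹)⁻¹, inv_mem ?_, ?_⟩
  · rw [Subgroup.mem_normalizer_iff]
    intro a
    constructor
    · intro ha
      rw [← e3]
      exact ⟨a, ha, rfl⟩
    · intro ha
      rw [← e3] at ha
      obtain ⟨b, hb, hbe⟩ := ha
      have : b = a := (MulAut.conj ((h : J) * g⁻¹)).injective hbe
      rwa [← this]
  · rw [mul_inv_rev, inv_inv, mul_smul]
    have : (h : J)⁻¹ • x = x := (h⁻¹).2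
    rw [this, hg]

end Cfsg.Agent.S3180
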