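import Cfsg.Statements.S3184
import Mathlib
import Cfsg.Agent.InvChar.CentralIntersections
set_option linter.all false

set_option autoImplicit false
open Cfsg

namespace Cfsg.Agent.S3184

/-- Let G be a finite group in which the intersection of any two distinct Sylow 2-subgroups is contained in the centre of some Sylow 2-subgroup, and let S be a Sylow 2-subgroup. If C is a nontrivial cyclic characteristic subgroup of S, then the involution of C is central modulo the largest normal subgroup of odd order of G: each of its conjugates has the same image in G/O(G). -/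
theorem result {G : Type*} [Group G] [Finite G]
    (hCI : ∀ S T : Sylow 2 G, S ≠ T → ∃ U : Sylow 2 G,
      (S : Subgroup G) ⊓ (T : Subgroup G) ≤ (Subgroup.center ↥(U : Subgroup G)).map (U : Subgroup G).subtype)
    (S : Sylow 2 G) (C : Subgroup ↥(S : Subgroup G)) (hC : C ≠ ⊥) (hCc : IsCyclic ↥C) (hCh : C.Characteristic)
    (c : ↥(S : Subgroup G)) (hc : c ∈ C) (hc2 : orderOf c = 2) :
    ∀ g : G, (QuotientGroup.mk (s := Cfsg.oddCore G) (g * (c : G) * g⁻¹)) =
      QuotientGroup.mk (s := Cfsg.oddCore G) (c : G) := by
  classical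
  have hfix : ∀ g ∈ Subgroup.normalizer ((S : Subgroup G) : Set G), g * (c : G) * g⁻¹ = (c : G) := by
    intro g hg
    let φ : MulAut ↥(S : Subgroup G) :=
      { toFun := fun s => ⟨g * s * g⁻¹, (Subgroup.mem_normalizer_iff.1 hg s).1 s.2⟩
        invFun := fun s => ⟨g⁻¹ * s * g, by
          have := (Subgroup.mem_normalizer_iff.1 (inv_mem hg) s).1 s.2
          simpa using this⟩
        left_inv := fun s => Subtype.ext (by simp [mul_assoc])
        right_inv := fun s => Subtype.ext (by simp [mul_assoc])
        map_mul' := fun s t => Subtype.ext (by simp [mul_assoc]) }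
    have hφc : φ c ∈ C := by
      rw [← Subgroup.characteristic_iff_map_eq.1 hCh φ]
      exact Subgroup.mem_map_of_mem _ hc
    have ho : orderOf (φ c) = 2 := by rw [MulEquiv.orderOf_eq, hc2]
    have e : φ c = c := by
      haveI := hCc
      haveI := Fintype.ofFinite ↥C
      have h1 : (⟨φ c, hφc⟩ : ↥C) ∈ Finset.univ.filter (fun a : ↥C => orderOf a = 2) := Finset.mem_filter.2 ⟨Finset.mem_univ _, (Subgroup.orderOf_coe _).symm.trans ho⟩
      have h2 : (⟨c, hc⟩ : ↥C) ∈ Finset.univ.filter (fun a : ↥C => orderOf a = 2) := Finset.mem_filter.2 ⟨Finset.mem_univ _, (Subgroup.orderOf_coe _).symm.trans hc2⟩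
      have hd : 2 ∣ Fintype.card ↥C := by
        have := orderOf_dvd_card (x := (⟨c, hc⟩ : ↥C))
        rwa [← Subgroup.orderOf_coe, hc2] at this
      have hcard := IsCyclic.card_orderOf_eq_totient hd
      rw [Nat.totient_two] at hcard
      exact congrArg Subtype.val (Finset.card_le_one.1 hcard.le _ h1 _ h2)
    exact congrArg Subtype.val e
  have ho : orderOf (c : G) = 2 := by rw [Subgroup.orderOf_coe, hc2]
  have hiso := InvChar.CentralIntersections.isolated hCI c.2 ho hfix
  intro g
  rw [eq_comm, QuotientGroup.eq]
  have h := ZStar.Main.commutator_mem_oddCore hiso g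
  have e : (c : G) * (c : G) = 1 := by
    have := pow_orderOf_eq_one (c : G)
    rwa [ho, pow_two] at this
  have ec : (c : G)⁻¹ = c := inv_eq_of_mul_eq_one_right e
  rw [ec] at h ⊢
  simpa [mul_assoc] using h

end Cfsg.Agent.S3184
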