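import Cfsg.Statements.S3190
import Mathlib

set_option linter.all false

set_option autoImplicit false
open Cfsg

namespace Cfsg.Agent.S3190

theorem exists_central {A : Type*} [Group A] [Finite A] {p : ℕ} [Fact p.Prime] (hA : IsPGroup p A)
    (W : Subgroup A) [W.Normal] {w : A} (hw : w ∈ W) (hw1 : w ≠ 1) :
    ∃ u ∈ W, u ≠ 1 ∧ ∀ a : A, a * u = u * a := by
  letI : MulAction A W := MulAction.compHom W (MulAut.conjNormal : A →* MulAut W)
  have hdvd : p ∣ Nat.card W := by
    obtain ⟨n, hn⟩ := IsPGroup.iff_card.1 (hA.to_subgroup W)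
    cases n with
    | zero =>
      exfalso
      have hbot : W = ⊥ := Subgroup.eq_bot_of_card_eq W (by simpa using hn)
      exact hw1 (Subgroup.mem_bot.1 (hbot ▸ hw))
    | succ n => exact hn ▸ dvd_pow_self p n.succ_ne_zero
  obtain ⟨u, hu, hne⟩ := hA.exists_fixed_point_of_prime_dvd_card_of_fixed_point W hdvd (a := 1)
    (fun a => map_one (MulAut.conjNormal a))
  refine ⟨u, u.2, fun h => hne (Subtype.ext h).symm, fun a => ?_⟩
  have h : MulAut.conjNormal a u = u := hu a
  have h2 := congrArg Subtype.val h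
  rw [MulAut.conjNormal_apply] at h2
  exact mul_inv_eq_iff_eq_mul.1 h2

/-- Let p be an odd prime and, inside a finite group, let P be a p-subgroup normalized by a Klein four-group T. Let R be a subgroup of P, normal in P and normalized by T, such that P is the product of R with the centralizer of T in P. If T centralizes the centre of P, then T centralizes the centre of R. -/
theorem result {X : Type*} [Group X] [Finite X]
    {p : ℕ} (hp : p.Prime) (hodd : Odd p) (P T R : Subgroup X) (hP : IsPGroup p ↥P) (hT : IsKleinFour ↥T)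
    (hTP : T ≤ Subgroup.normalizer (P : Set X)) (hRP : R ≤ P) (hRn : (R.subgroupOf P).Normal)
    (hTR : T ≤ Subgroup.normalizer (R : Set X)) (hfac : R ⊔ (P ⊓ Subgroup.centralizer (T : Set X)) = P)
    (hZ : T ≤ Subgroup.centralizer (((Subgroup.center ↥P).map P.subtype : Subgroup X) : Set X)) :
    T ≤ Subgroup.centralizer (((Subgroup.center ↥R).map R.subtype : Subgroup X) : Set X) := by
  classical
  haveI : Fact p.Prime := ⟨hp⟩
  set ZP := (Subgroup.center ↥P).map P.subtype with hZP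
  set ZR := (Subgroup.center ↥R).map R.subtype with hZR
  have hZRc : ∀ a ∈ ZR, a ∈ R ∧ ∀ r ∈ R, r * a = a * r := by
    rintro _ ⟨a, ha, rfl⟩
    exact ⟨a.2, fun r hr => congrArg Subtype.val (Subgroup.mem_center_iff.1 ha ⟨r, hr⟩)⟩
  have hZRm : ∀ a, a ∈ R → (∀ r ∈ R, r * a = a * r) → a ∈ ZR := fun a ha h =>
    ⟨⟨a, ha⟩, Subgroup.mem_center_iff.2 fun r => Subtype.ext (h r r.2), rfl⟩
  -- conjugation stable
  have hstab : ∀ c : X, c ∈ Subgroup.normalizer (R : Set X) → ∀ a ∈ ZR, c * a * c⁻¹ ∈ ZR := by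
    intro c hc a ha
    refine hZRm _ ((Subgroup.mem_normalizer_iff.1 hc a).1 (hZRc a ha).1) (fun r hr => ?_)
    have hr' : c⁻¹ * r * c ∈ R := by
      refine (Subgroup.mem_normalizer_iff.1 hc _).2 ?_
      simpa [mul_assoc] using hr
    have h := (hZRc a ha).2 _ hr'
    calc r * (c * a * c⁻¹) = c * (c⁻¹ * r * c * a) * c⁻¹ := by group
      _ = c * (a * (c⁻¹ * r * c)) * c⁻¹ := by rw [h]
      _ = _ := by group
  intro t ht
  rw [Subgroup.mem_centralizer_iff]
  intro z hz
  have ht2 : t * t = 1 := congrArg Subtype.val (hT.mul_self (⟨t, ht⟩ : T))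
  have hti : t⁻¹ = t := inv_eq_of_mul_eq_one_right ht2
  have hab : ∀ a ∈ ZR, ∀ b ∈ ZR, a * b = b * a := fun a ha b hb =>
    (hZRc b hb).2 a (hZRc a ha).1
  let W : Subgroup X :=
    { carrier := {a | a ∈ ZR ∧ t * a * t⁻¹ = a⁻¹}
      one_mem' := ⟨ZR.one_mem, by simp⟩
      mul_mem' := fun {a b} ha hb => ⟨ZR.mul_mem ha.1 hb.1, by
        calc t * (a * b) * t⁻¹ = (t * a * t⁻¹) * (t * b * t⁻¹) := by group
          _ = a⁻¹ * b⁻¹ := by rw [ha.2, hb.2]
          _ = (b * a)⁻¹ := (mul_inv_rev b a).symm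
          _ = (a * b)⁻¹ := by rw [hab b hb.1 a ha.1]⟩
      inv_mem' := fun {a} ha => ⟨ZR.inv_mem ha.1, by
        rw [← conj_inv, ha.2]⟩ }
  have hWP : W ≤ P := fun a ha => hRP (hZRc a ha.1).1
  have hWn : (W.subgroupOf P).Normal := by
    rw [Subgroup.normal_subgroupOf_iff_le_normalizer hRP] at hRn
    rw [Subgroup.normal_subgroupOf_iff_le_normalizer hWP]
    refine le_trans hfac.ge (sup_le ?_ ?_)
    · intro r hr
      rw [Subgroup.mem_normalizer_iff]
      intro a
      constructor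
      · intro ha
        rw [(hZRc a ha.1).2 r hr, mul_inv_cancel_right]; exact ha
      · intro ha
        have h := (hZRc _ ha.1).2 r⁻¹ (R.inv_mem hr)
        have e : a = r⁻¹ * (r * a * r⁻¹) * r := by group
        rw [e, h, inv_mul_cancel_right]
        exact ha
    · intro c hc
      have hct : t * c = c * t := Subgroup.mem_centralizer_iff.1 hc.2 t ht
      have hkey : ∀ d : X, d ∈ Subgroup.normalizer (R : Set X) → t * d = d * t →
          ∀ a ∈ W, d * a * d⁻¹ ∈ W := by
        intro d hd hdt a ha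
        refine ⟨hstab d hd a ha.1, ?_⟩
        have hdt' : d⁻¹ * t⁻¹ = t⁻¹ * d⁻¹ := by rw [← mul_inv_rev, hdt, mul_inv_rev]
        calc t * (d * a * d⁻¹) * t⁻¹ = (t * d) * a * (d⁻¹ * t⁻¹) := by group
          _ = (d * t) * a * (t⁻¹ * d⁻¹) := by rw [hdt, hdt']
          _ = d * (t * a * t⁻¹) * d⁻¹ := by group
          _ = d * a⁻¹ * d⁻¹ := by rw [ha.2]
          _ = _ := by group
      have hcN : c ∈ Subgroup.normalizer (R : Set X) := hRn hc.1
      rw [Subgroup.mem_normalizer_iff]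
      intro a
      refine ⟨hkey c hcN hct a, fun ha => ?_⟩
      have h := hkey c⁻¹ (Subgroup.inv_mem _ hcN) (show Commute t c from hct).inv_right.eq _ ha
      simpa [mul_assoc] using h
  set w := z⁻¹ * (t * z * t⁻¹) with hw
  have hwW : w ∈ W := by
    refine ⟨ZR.mul_mem (ZR.inv_mem hz) (hstab t (hTR ht) z hz), ?_⟩
    rw [hw, hti]
    calc t * (z⁻¹ * (t * z * t)) * t = (t * z⁻¹ * t) * z * (t * t) := by group
      _ = (t * z⁻¹ * t) * z := by rw [ht2, mul_one]
      _ = (t⁻¹ * z⁻¹ * t⁻¹) * z := by rw [hti]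
      _ = _ := by group
  by_cases hw1 : w = 1
  · have : t * z * t⁻¹ = z := (inv_mul_eq_one.1 hw1).symm
    exact (mul_inv_eq_iff_eq_mul.1 this).symm
  exfalso
  haveI := hWn
  obtain ⟨u, hu, hu1, huc⟩ := exists_central hP (W.subgroupOf P) (w := ⟨w, hWP hwW⟩) hwW
    (fun h => hw1 (congrArg Subtype.val h))
  have huZ : (u : X) ∈ ZP := ⟨u, Subgroup.mem_center_iff.2 huc, rfl⟩
  have hfix : t * (u : X) * t⁻¹ = u := by
    rw [← Subgroup.mem_centralizer_iff.1 (hZ ht) _ huZ, mul_inv_cancel_right]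
  have h2 : u ^ 2 = 1 := by
    have h := (hu : (u : X) ∈ W).2
    change t * (u : X) * t⁻¹ = _ at h
    rw [hfix] at h
    apply Subtype.ext
    rw [Subgroup.coe_pow, pow_two]
    nth_rewrite 1 [h]
    exact inv_mul_cancel _
  apply hu1
  rw [← orderOf_eq_one_iff]
  obtain ⟨k, hk⟩ := IsPGroup.iff_orderOf.1 hP u
  have hd := orderOf_dvd_of_pow_eq_one h2
  rw [hk] at hd ⊢
  exact Nat.eq_one_of_dvd_coprimes
    ((Nat.coprime_two_right.2 hodd).pow_left k) dvd_rfl hd

end Cfsg.Agent.S3190
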