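import Cfsg.Statements.S3193
import Cfsg.Agent.ConjRankFour.Main
import Cfsg.Agent.ConjRankFour.Reverse

set_option autoImplicit false
open Cfsg

namespace Cfsg.Agent.S3193

/-- Simple groups of conjugate type rank four. For a finite group G consider the set of indices of the centralizers of the non-central elements of G. Then G is a non-abelian simple group for which this set has exactly four members if and only if G is isomorphic to PSL(2, q) for some odd prime power q ≥ 7. -/
theorem result (G : Type*) [Group G] [Finite G] :
    (IsSimpleGroup G ∧ ¬ IsMulCommutative G ∧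
        Set.ncard {m : ℕ | ∃ x : G, x ∉ Subgroup.center G ∧ m = (Subgroup.centralizer ({x} : Set G)).index} = 4) ↔
      ∃ (F : Type) (_ : Field F) (_ : Fintype F), Odd (Fintype.card F) ∧ 7 ≤ Fintype.card F ∧
        Nonempty (G ≃* Matrix.ProjectiveSpecialLinearGroup (Fin 2) F) := by
  refine ⟨fun ⟨hs, hc, h4⟩ => ?_, fun h => ConjRankFour.reverse G h⟩
  haveI := hs
  exact ConjRankFour.forward hc h4

end Cfsg.Agent.S3193
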