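import Cfsg.Statements.S3195
import Mathlib
import Cfsg.Agent.Lib.Involutions.BaerSuzuki

set_option linter.all false

set_option autoImplicit false
open Cfsg

namespace Cfsg.Agent.S3195

theorem eq_one_of_pow {G : Type*} [Group G] {r : G} (hr : Odd (orderOf r)) (k : ℕ) (h : r ^ 2 ^ k = 1) : r = 1 :=
  orderOf_eq_one_iff.1 (Nat.eq_one_of_dvd_coprimes (hr.coprime_two_right.pow_right k) dvd_rfl
    (orderOf_dvd_of_pow_eq_one h))

theorem commute_of_pow {G : Type*} [Group G] [Finite G] {r y : G} {n : ℕ} (hn : n.Coprime (orderOf r))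
    (h : Commute y (r ^ n)) : Commute y r := by
  obtain ⟨j, hj⟩ := exists_pow_eq_self_of_coprime (n := n) (x := r) hn
  rw [← hj]; exact h.pow_right j

theorem no_pair {G : Type*} [Group G] [Finite G] {a b : G} (ha : a * a = 1) (hb : b * b = 1)
    (hab : a * b = b * a)
    (h : ∀ g : G, ∀ u : G, (u = a ∨ u = b ∨ u = a * b) →
      Commute a (g * u * g⁻¹) ∨ Commute b (g * u * g⁻¹) ∨ Commute (a * b) (g * u * g⁻¹))
    {r s : G} {p : ℕ} (hp : p.Prime) (hp2 : p ≠ 2) (hrp : orderOf r = p) (hso : Odd (orderOf s)) (hs1 : s ≠ 1)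
    (hra : a * r * a = r⁻¹) (hrb : Commute b r) (hsb : b * s * b = s⁻¹) (hsa : Commute a s) : False := by
  have hai : a⁻¹ = a := inv_eq_of_mul_eq_one_right ha
  have hbi : b⁻¹ = b := inv_eq_of_mul_eq_one_right hb
  have hro : Odd (orderOf r) := by rw [hrp]; exact hp.odd_of_ne_two hp2
  have hr1 : r ≠ 1 := fun e => by rw [e, orderOf_one] at hrp; exact hp.one_lt.ne hrp
  have har : ∀ k : ℕ, a * r ^ k = (r ^ k)⁻¹ * a := by
    intro k
    have h1 : (a * r * a⁻¹) ^ k = (r⁻¹) ^ k := by rw [hai, hra]
    rw [conj_pow, inv_pow] at h1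
    exact mul_inv_eq_iff_eq_mul.1 h1
  have hbs : ∀ k : ℕ, b * s ^ k = (s ^ k)⁻¹ * b := by
    intro k
    have h1 : (b * s * b⁻¹) ^ k = (s⁻¹) ^ k := by rw [hbi, hsb]
    rw [conj_pow, inv_pow] at h1
    exact mul_inv_eq_iff_eq_mul.1 h1
  -- the conjugate `y = s ^ 2 * b` of `b`
  set y := s ^ 2 * b with hy
  have hys : y = s * b * s⁻¹ := by
    have h1 := hbs 1
    rw [pow_one] at h1
    rw [mul_assoc s b, show b * s⁻¹ = s * b from ?_, hy, pow_two, mul_assoc]
    calc b * s⁻¹ = (s * s⁻¹) * b * s⁻¹ := by group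
      _ = s * (b * s) * s⁻¹ := by rw [mul_assoc s, h1]
      _ = s * b := by group
  have hyb : ¬ Commute b y := by
    intro hc
    apply hs1
    refine eq_one_of_pow hso 2 ?_
    have h1 : (s ^ 2)⁻¹ * b * b = s ^ 2 * b * b := by rw [← hbs 2, mul_assoc]; exact hc.eq
    rw [mul_assoc, hb, mul_one, mul_assoc, hb, mul_one, inv_eq_iff_mul_eq_one, ← pow_add] at h1
    exact h1
  -- `y` commutes with `r ^ (2k) a` or with `r ^ (2k) a b`
  have hyk : ∀ k : ℕ, Commute y (r ^ (2 * k) * a) ∨ Commute y (r ^ (2 * k) * a * b) := by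
    intro k
    set g := r ^ k with hg
    have hga : g * a * g⁻¹ = r ^ (2 * k) * a := by
      have h1 : a * g⁻¹ = g * a := by
        calc a * g⁻¹ = (g * g⁻¹) * a * g⁻¹ := by group
          _ = g * (a * g) * g⁻¹ := by rw [mul_assoc g, har k]
          _ = g * a := by group
      rw [mul_assoc, h1, ← mul_assoc, two_mul, pow_add]
    have hgb : g * b * g⁻¹ = b := by rw [← (hrb.pow_right k).eq, mul_inv_cancel_right]
    have hconv : ∀ u, Commute u (g⁻¹ * y * g⁻¹⁻¹) → Commute y (g * u * g⁻¹) := by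
      intro u hu
      have := hu.map (MulAut.conj g).toMonoidHom
      simp [mul_assoc] at this
      rw [mul_assoc]
      exact this.symm
    have hyu : g⁻¹ * y * g⁻¹⁻¹ = g⁻¹ * s * b * (g⁻¹ * s)⁻¹ := by rw [hys]; group
    rcases h (g⁻¹ * s) b (Or.inr (Or.inl rfl)) with hc | hc | hc <;> rw [← hyu] at hc
    · left; have := hconv _ hc; rwa [hga] at this
    · have := hconv _ hc
      rw [hgb] at this
      exact absurd this.symm hyb
    · right
      have := hconv _ hc
      rwa [show g * (a * b) * g⁻¹ = (g * a * g⁻¹) * (g * b * g⁻¹) by group, hga, hgb] at this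
  have hcop : ∀ n : ℕ, n = 2 ∨ n = 4 → n.Coprime (orderOf r) := by
    rintro n (rfl | rfl)
    · exact hro.coprime_two_left
    · exact hro.coprime_two_left.pow_left 2
  -- hence `y` centralizes `r`
  have hyr : Commute y r := by
    have hdiff : ∀ (i d : ℕ) (c : G), Commute y (r ^ i * c) → Commute y (r ^ (i + d) * c) → Commute y (r ^ d) := by
      intro i d c h1 h2
      have := h2.mul_right h1.inv_right
      rwa [show r ^ (i + d) * c * (r ^ i * c)⁻¹ = r ^ d by rw [add_comm, pow_add]; group] at this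
    rcases hyk 0 with h0 | h0 <;> rcases hyk 1 with h1 | h1 <;> rcases hyk 2 with h2 | h2
    all_goals first
      | exact commute_of_pow (hcop 2 (Or.inl rfl)) (hdiff 0 2 _ h0 h1)
      | exact commute_of_pow (hcop 2 (Or.inl rfl)) (hdiff 2 2 _ h1 h2)
      | exact commute_of_pow (hcop 4 (Or.inr rfl)) (hdiff 0 4 _ h0 h2)
      | exact commute_of_pow (hcop 2 (Or.inl rfl)) (hdiff 0 2 (a * b) (by rw [← mul_assoc]; exact h0) (by rw [← mul_assoc]; exact h1))
      | exact commute_of_pow (hcop 2 (Or.inl rfl)) (hdiff 2 2 (a * b) (by rw [← mul_assoc]; exact h1) (by rw [← mul_assoc]; exact h2))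
      | exact commute_of_pow (hcop 4 (Or.inr rfl)) (hdiff 0 4 (a * b) (by rw [← mul_assoc]; exact h0) (by rw [← mul_assoc]; exact h2))
  have hsr : Commute s r := by
    have h1 : Commute (y * b) r := hyr.mul_left hrb
    rw [hy, mul_assoc, hb, mul_one] at h1
    exact (commute_of_pow hso.coprime_two_left h1.symm).symm
  -- the conjugate of `a * b` by `r * s` commutes with no element of `A`
  set R := r ^ 2 with hR
  set T := s ^ 2 with hT
  have hRT : Commute R T := (hsr.symm.pow_pow 2 2)
  have haR : a * R = R⁻¹ * a := har 2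
  have hbT : b * T = T⁻¹ * b := hbs 2
  have haT : Commute a T := hsa.pow_right 2
  have hbR : Commute b R := hrb.pow_right 2
  have hv : r * s * (a * b) * (r * s)⁻¹ = R * T * (a * b) := by
    have e1 : s * (a * b) * s⁻¹ = T * (a * b) := by
      calc s * (a * b) * s⁻¹ = (s * a) * b * s⁻¹ := by group
        _ = a * (s * b * s⁻¹) := by rw [← hsa.eq]; group
        _ = a * (T * b) := by rw [← hys, hy]
        _ = T * (a * b) := by rw [← mul_assoc, haT.eq, mul_assoc]
    have e2 : r * a * r⁻¹ = R * a := by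
      have h1 : a * r⁻¹ = r * a := by
        have h := har 1
        rw [pow_one] at h
        calc a * r⁻¹ = (r * r⁻¹) * a * r⁻¹ := by group
          _ = r * (a * r) * r⁻¹ := by rw [mul_assoc r, h]
          _ = r * a := by group
      rw [mul_assoc, h1, ← mul_assoc, hR, pow_two]
    have e3 : r * T * r⁻¹ = T := by rw [(hsr.symm.pow_right 2).eq, mul_inv_cancel_right]
    have e4 : r * b * r⁻¹ = b := by rw [← hrb.eq, mul_inv_cancel_right]
    calc r * s * (a * b) * (r * s)⁻¹ = r * (s * (a * b) * s⁻¹) * r⁻¹ := by group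
      _ = (r * T * r⁻¹) * (r * a * r⁻¹) * (r * b * r⁻¹) := by rw [e1]; group
      _ = T * (R * a) * b := by rw [e2, e3, e4]
      _ = R * T * (a * b) := by rw [← mul_assoc, ← hRT.eq, mul_assoc]
  have hcanc : ∀ {A B : G}, A * (a * b) = B * (a * b) → A = B := fun e => mul_right_cancel e
  have hca : Commute a (a * b) := (Commute.refl a).mul_right hab
  have hcb : Commute b (a * b) := (show Commute b a from hab.symm).mul_right (Commute.refl b)
  rcases h (r * s) (a * b) (Or.inr (Or.inr rfl)) with hc | hc | hc <;> rw [hv] at hc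
  · have h1 : R⁻¹ * T * a * (a * b) = R * T * a * (a * b) := by
      calc R⁻¹ * T * a * (a * b) = (a * R) * T * (a * b) := by
            rw [haR, mul_assoc R⁻¹ a T, haT.eq]; group
        _ = a * (R * T * (a * b)) := by group
        _ = R * T * (a * b) * a := hc.eq
        _ = R * T * a * (a * b) := by rw [mul_assoc, ← hca.eq, ← mul_assoc]
    have h2 := mul_right_cancel (mul_right_cancel (hcanc h1))
    rw [inv_eq_iff_mul_eq_one, hR, ← pow_add] at h2
    exact hr1 (eq_one_of_pow hro 2 h2)
  · have h1 : R * T⁻¹ * b * (a * b) = R * T * b * (a * b) := by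
      calc R * T⁻¹ * b * (a * b) = R * (b * T) * (a * b) := by rw [hbT]; group
        _ = (b * R) * T * (a * b) := by rw [hbR.eq]; group
        _ = b * (R * T * (a * b)) := by group
        _ = R * T * (a * b) * b := hc.eq
        _ = R * T * b * (a * b) := by rw [mul_assoc, ← hcb.eq, ← mul_assoc]
    have h2 := mul_left_cancel (mul_right_cancel (hcanc h1))
    rw [inv_eq_iff_mul_eq_one, hT, ← pow_add] at h2
    exact hs1 (eq_one_of_pow hso 2 h2)
  · have h1 : R⁻¹ * T⁻¹ * (a * b) * (a * b) = R * T * (a * b) * (a * b) := by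
      rw [← hc.eq]
      calc R⁻¹ * T⁻¹ * (a * b) * (a * b) = R⁻¹ * (T⁻¹ * a) * b * (a * b) := by group
        _ = R⁻¹ * (a * T⁻¹) * b * (a * b) := by rw [← haT.inv_right.eq]
        _ = (R⁻¹ * a) * (T⁻¹ * b) * (a * b) := by group
        _ = (a * R) * (b * T) * (a * b) := by rw [← haR, ← hbT]
        _ = a * (R * b) * T * (a * b) := by group
        _ = a * (b * R) * T * (a * b) := by rw [← hbR.eq]
        _ = a * b * (R * T * (a * b)) := by group
    have h2 := mul_right_cancel (hcanc h1)
    -- `(R T)^2 = 1`, hence `R^2 = T^-2` is fixed and inverted by `a`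
    have h3 : R * R = (T * T)⁻¹ := by
      rw [eq_inv_iff_mul_eq_one]
      calc R * R * (T * T) = R * (R * T) * T := by group
        _ = R * (R⁻¹ * T⁻¹) * T := by rw [h2]
        _ = 1 := by group
    have h4 : Commute a (R * R) := h3 ▸ (haT.mul_right haT).inv_right
    have h5 : a * (R * R) = R⁻¹ * R⁻¹ * a := by rw [← mul_assoc, haR, mul_assoc, haR, ← mul_assoc]
    rw [h4.eq] at h5
    have h6 := mul_right_cancel h5
    refine hr1 (eq_one_of_pow hro 3 ?_)
    calc r ^ 2 ^ 3 = (R * R) * (R * R) := by rw [hR, ← pow_add, ← pow_add]; norm_num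
      _ = (R * R) * (R⁻¹ * R⁻¹) := by nth_rewrite 2 [h6]; rfl
      _ = 1 := by group

theorem exists_r {G : Type*} [Group G] [Finite G] {a b : G} (ha : orderOf a = 2) (hab : a * b = b * a)
    (h : ∀ g : G, Commute a (g * a * g⁻¹) ∨ Commute b (g * a * g⁻¹) ∨ Commute (a * b) (g * a * g⁻¹))
    (hO : a ∉ Cfsg.pCore 2 G) :
    ∃ (r : G) (p : ℕ), p.Prime ∧ p ≠ 2 ∧ orderOf r = p ∧ a * r * a = r⁻¹ ∧ (Commute b r ∨ Commute (a * b) r) := by
  obtain ⟨t, ht1, hto, htinv⟩ := Cfsg.Agent.Involutions.BaerSuzuki.exists_inverted_odd a ha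
    (fun N hN hNp htN => hO (le_sSup (s := {N : Subgroup G | N.Normal ∧ IsPGroup 2 N}) ⟨hN, hNp⟩ htN))
  have ha2 := Cfsg.Agent.Involutions.Basic.inv_sq_one ha
  have hai := Cfsg.Agent.Involutions.Basic.inv_eq ha
  set p := (orderOf t).minFac with hp
  have hne : orderOf t ≠ 1 := fun e => ht1 (orderOf_eq_one_iff.1 e)
  have hpp := Nat.minFac_prime hne
  obtain ⟨d, hd⟩ := Nat.minFac_dvd (orderOf t)
  rw [← hp] at hd
  have hd0 : d ≠ 0 := fun e => (orderOf_pos t).ne' (by rw [hd, e, mul_zero])
  have hrp : orderOf (t ^ d) = p := by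
    rw [orderOf_pow_of_dvd hd0 ⟨p, by rw [hd, mul_comm]⟩, hd, Nat.mul_div_cancel _ (Nat.pos_of_ne_zero hd0)]
  have hp2 : p ≠ 2 := fun e => by
    rw [e] at hd
    exact (Nat.not_even_iff_odd.2 hto) ⟨d, by omega⟩
  refine ⟨t ^ d, p, hpp, hp2, hrp, ?_, ?_⟩
  · calc a * t ^ d * a = a * t ^ d * a⁻¹ := by rw [hai]
      _ = (a * t * a⁻¹) ^ d := conj_pow.symm
      _ = (t ^ d)⁻¹ := by rw [htinv, inv_pow]
  · set r := t ^ d with hr
    have hra : a * r * a⁻¹ = r⁻¹ := by rw [← conj_pow, htinv, inv_pow]
    have hro : Odd (orderOf r) := by rw [hrp]; exact hpp.odd_of_ne_two hp2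
    have hx : r * a * r⁻¹ = r ^ 2 * a := by
      have h1 : a * r⁻¹ = r * a := by
        rw [← hra, hai]
        calc a * (a * r * a) = (a * a) * r * a := by group
          _ = r * a := by rw [ha2, one_mul]
      rw [mul_assoc, h1, ← mul_assoc, pow_two]
    rcases h r with hc | hc | hc <;> rw [hx] at hc
    · exfalso
      have h1 : (a * r ^ 2 * a⁻¹) * (a * a) = r ^ 2 * (a * a) := by
        calc (a * r ^ 2 * a⁻¹) * (a * a) = a * (r ^ 2 * a) := by group
          _ = r ^ 2 * a * a := hc.eq
          _ = r ^ 2 * (a * a) := mul_assoc _ _ _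
      rw [ha2, mul_one, mul_one, ← conj_pow, hra, inv_pow, inv_eq_iff_mul_eq_one, ← pow_add] at h1
      have := eq_one_of_pow hro 2 h1
      rw [this, orderOf_one] at hrp
      exact hpp.one_lt.ne hrp
    · left
      have h1 := hc.mul_right (show Commute b a⁻¹ from (show Commute b a from hab.symm).inv_right)
      rw [mul_inv_cancel_right] at h1
      exact commute_of_pow hro.coprime_two_left h1
    · right
      have h1 := hc.mul_right
        (show Commute (a * b) a⁻¹ from ((Commute.refl a).mul_left (show Commute b a from hab.symm)).inv_right)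
      rw [mul_inv_cancel_right] at h1
      exact commute_of_pow hro.coprime_two_left h1

theorem main {G : Type*} [Group G] [Finite G] {a b : G} (ha : orderOf a = 2) (hb : orderOf b = 2)
    (hab : a * b = b * a) (hc2 : orderOf (a * b) = 2)
    (h : ∀ g : G, ∀ u : G, (u = a ∨ u = b ∨ u = a * b) →
      Commute a (g * u * g⁻¹) ∨ Commute b (g * u * g⁻¹) ∨ Commute (a * b) (g * u * g⁻¹))
    (hOa : a ∉ Cfsg.pCore 2 G) (hOb : b ∉ Cfsg.pCore 2 G) (hOc : a * b ∉ Cfsg.pCore 2 G) : False := by
  have ha2 := Cfsg.Agent.Involutions.Basic.inv_sq_one ha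
  have hb2 := Cfsg.Agent.Involutions.Basic.inv_sq_one hb
  have hbi := Cfsg.Agent.Involutions.Basic.inv_eq hb
  have hai := Cfsg.Agent.Involutions.Basic.inv_eq ha
  have hc := Cfsg.Agent.Involutions.Basic.inv_sq_one hc2
  obtain ⟨r, p, hp, hp2, hrp, hra, hr⟩ := exists_r ha hab (fun g => h g a (Or.inl rfl)) hOa
  obtain ⟨s, q, hq, hq2, hsq, hsb, hs⟩ := exists_r hb hab.symm (fun g => by
    rw [← hab]; rcases h g b (Or.inr (Or.inl rfl)) with e | e | e
    · exact Or.inr (Or.inl e)
    · exact Or.inl e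
    · exact Or.inr (Or.inr e)) hOb
  rw [← hab] at hs
  have hso : Odd (orderOf s) := by rw [hsq]; exact hq.odd_of_ne_two hq2
  have hs1 : s ≠ 1 := fun e => by rw [e, orderOf_one] at hsq; exact hq.one_lt.ne hsq
  have hac : (a * b) * a = b := by rw [hab, mul_assoc, ha2, mul_one]
  have hbc : (a * b) * b = a := by rw [mul_assoc, hb2, mul_one]
  have hcb : b * (a * b) = a := by rw [hab, ← mul_assoc, hb2, one_mul]
  have hca : a * (a * b) = b := by rw [← mul_assoc, ha2, one_mul]
  rcases hr with hr | hr <;> rcases hs with hs | hs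
  · exact no_pair ha2 hb2 hab h hp hp2 hrp hso hs1 hra hr hsb hs
  · -- replace `a` by `a * b`
    refine no_pair (a := a * b) (b := b) hc hb2 (by rw [hbc, hcb]) (fun g u hu => ?_) hp hp2 hrp hso hs1 ?_ hr hsb hs
    · rw [hbc]
      rw [hbc] at hu
      rcases h g u (by rcases hu with e | e | e <;> simp [e]) with e | e | e
      · exact Or.inr (Or.inr e)
      · exact Or.inr (Or.inl e)
      · exact Or.inl e
    · calc a * b * r * (a * b) = a * b * r * (b * a) := by rw [hab]
        _ = a * (b * r) * b * a := by group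
        _ = a * r * (b * b) * a := by rw [hr.eq]; group
        _ = r⁻¹ := by rw [hb2, mul_one, hra]
  · refine no_pair (a := a) (b := a * b) ha2 hc (by rw [hca, hac]) (fun g u hu => ?_) hp hp2 hrp hso hs1 hra hr ?_ hs
    · rw [hca]
      rw [hca] at hu
      rcases h g u (by rcases hu with e | e | e <;> simp [e]) with e | e | e
      · exact Or.inl e
      · exact Or.inr (Or.inr e)
      · exact Or.inr (Or.inl e)
    · calc a * b * s * (a * b) = a * b * (s * a) * b := by group
        _ = a * b * (a * s) * b := by rw [hs.eq]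
        _ = a * (b * a) * s * b := by group
        _ = a * (a * b) * s * b := by rw [hab]
        _ = (a * a) * (b * s * b) := by group
        _ = s⁻¹ := by rw [ha2, one_mul, hsb]
  · -- `r` is centralized by `a * b`, hence inverted by `b`
    have hrb : b * r * b = r⁻¹ := by
      calc b * r * b = a * (a * b) * r * b := by rw [hca]
        _ = a * ((a * b) * r) * b := by group
        _ = a * r * ((a * b) * b) := by rw [hr.eq]; group
        _ = r⁻¹ := by rw [hbc, hra]
    -- and `s` by `a`
    have hsa : a * s * a = s⁻¹ := by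
      calc a * s * a = b * (a * b) * s * a := by rw [hcb]
        _ = b * ((a * b) * s) * a := by group
        _ = b * s * ((a * b) * a) := by rw [hs.eq]; group
        _ = s⁻¹ := by rw [hac, hsb]
    obtain ⟨w, l, hl, hl2, hwl, hwc, hw⟩ := exists_r (b := a) hc2 (by rw [hac, hca]) (fun g => by
      rw [hac]; rcases h g (a * b) (Or.inr (Or.inr rfl)) with e | e | e
      · exact Or.inr (Or.inl e)
      · exact Or.inr (Or.inr e)
      · exact Or.inl e) hOc
    · rw [hac] at hw
      have hwo : Odd (orderOf w) := by rw [hwl]; exact hl.odd_of_ne_two hl2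
      have hw1 : w ≠ 1 := fun e => by rw [e, orderOf_one] at hwl; exact hl.one_lt.ne hwl
      rcases hw with hw | hw
      · -- pair `(a, a * b)`: `r` fixed by `a * b`, `w` by `a`
        refine no_pair (a := a) (b := a * b) ha2 hc (by rw [hca, hac]) (fun g u hu => ?_) hp hp2 hrp hwo hw1 hra hr hwc hw
        rw [hca]
        rw [hca] at hu
        rcases h g u (by rcases hu with e | e | e <;> simp [e]) with e | e | e
        · exact Or.inl e
        · exact Or.inr (Or.inr e)
        · exact Or.inr (Or.inl e)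
      · refine no_pair (a := b) (b := a * b) hb2 hc (by rw [hcb, hbc]) (fun g u hu => ?_) hp hp2 hrp hwo hw1 hrb hr hwc hw
        rw [hcb]
        rw [hcb] at hu
        rcases h g u (by rcases hu with e | e | e <;> simp [e]) with e | e | e
        · exact Or.inr (Or.inr e)
        · exact Or.inl e
        · exact Or.inr (Or.inl e)

/-- Let A be a Klein four-subgroup of a finite group G. If every G-conjugate of every involution of A commutes with some involution of A (its centralizer meets A nontrivially), then A meets the largest normal 2-subgroup O₂(G) nontrivially. -/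
theorem result {G : Type*} [Group G] [Finite G]
    (A : Subgroup G) (hA : IsKleinFour ↥A)
    (h : ∀ a ∈ A, a ≠ 1 → ∀ g : G, A ⊓ Subgroup.centralizer ({g * a * g⁻¹} : Set G) ≠ ⊥) :
    A ⊓ Cfsg.pCore 2 G ≠ ⊥ := by
  classical
  intro hbot
  have h2 : ∀ u : ↥A, u ≠ 1 → orderOf (u : G) = 2 := fun u hu => by
    rw [Subgroup.orderOf_coe]
    exact orderOf_eq_prime (by rw [pow_two]; exact IsKleinFour.mul_self u) hu
  have hnt : Nontrivial A := Finite.one_lt_card_iff_nontrivial.1 (by rw [IsKleinFour.card_four]; norm_num)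
  obtain ⟨a, ha⟩ := exists_ne (1 : A)
  obtain ⟨b, hb, hba⟩ : ∃ b : A, b ≠ 1 ∧ b ≠ a := by
    by_contra hc
    push Not at hc
    haveI : Fintype A := Fintype.ofFinite _
    have hle : (Finset.univ : Finset A) ⊆ {1, a} := fun u _ => by
      by_cases hu : u = 1
      · simp [hu]
      · simp [hc u hu]
    have := Finset.card_le_card hle
    rw [Finset.card_univ, ← Nat.card_eq_fintype_card, IsKleinFour.card_four, Finset.card_pair (Ne.symm ha)] at this
    omega
  have hout : ∀ u : A, u ≠ 1 → (u : G) ∉ Cfsg.pCore 2 G := fun u hu hmem => hu (Subtype.ext (by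
    have : (u : G) ∈ A ⊓ Cfsg.pCore 2 G := ⟨u.2, hmem⟩
    rwa [hbot, Subgroup.mem_bot] at this))
  have hab1 : a * b ≠ 1 := fun e => hba (by
    rw [eq_inv_of_mul_eq_one_right e, inv_eq_of_mul_eq_one_right (IsKleinFour.mul_self a)])
  have hcomm : (a : G) * b = b * a := by
    have : a * b = b * a := by
      have h1 := IsKleinFour.mul_self (a * b)
      rw [mul_eq_one_iff_eq_inv, mul_inv_rev, inv_eq_of_mul_eq_one_right (IsKleinFour.mul_self a),
        inv_eq_of_mul_eq_one_right (IsKleinFour.mul_self b)] at h1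
      exact h1
    exact congrArg Subtype.val this
  have hcase : ∀ g : G, ∀ u : G, (u = (a : G) ∨ u = (b : G) ∨ u = (a : G) * b) →
      Commute (a : G) (g * u * g⁻¹) ∨ Commute (b : G) (g * u * g⁻¹) ∨ Commute ((a : G) * b) (g * u * g⁻¹) := by
    intro g u hu
    have hmem : u ∈ A ∧ u ≠ 1 := by
      rcases hu with rfl | rfl | rfl
      · exact ⟨a.2, fun e => ha (Subtype.ext e)⟩
      · exact ⟨b.2, fun e => hb (Subtype.ext e)⟩
      · exact ⟨A.mul_mem a.2 b.2, fun e => hab1 (Subtype.ext e)⟩
    obtain ⟨c, hc1, hc2⟩ : ∃ c : A, c ≠ 1 ∧ (c : G) ∈ Subgroup.centralizer ({g * u * g⁻¹} : Set G) := by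
      have hne := h u hmem.1 hmem.2 g
      obtain ⟨⟨c, hc⟩, hc'⟩ := Subgroup.ne_bot_iff_exists_ne_one.1 hne
      exact ⟨⟨c, hc.1⟩, fun e => hc' (Subtype.ext (congrArg (fun r : A => (r : G)) e)), hc.2⟩
    have hc2' : Commute (c : G) (g * u * g⁻¹) := Subgroup.mem_centralizer_singleton_iff.1 hc2
    have hfour : c = a ∨ c = b ∨ c = a * b := by
      by_contra hcon
      push Not at hcon
      haveI : Fintype A := Fintype.ofFinite _
      have hcard : ({1, a, b, a * b, c} : Finset A).card ≤ Fintype.card A := Finset.card_le_univ _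
      rw [← Nat.card_eq_fintype_card, IsKleinFour.card_four] at hcard
      have n1 : a ≠ a * b := fun e => hb (mul_eq_left.1 e.symm)
      have n2 : b ≠ a * b := fun e => ha (mul_eq_right.1 e.symm)
      rw [Finset.card_insert_of_notMem (by simp [Ne.symm ha, Ne.symm hb, Ne.symm hab1, Ne.symm hc1]),
        Finset.card_insert_of_notMem (by simp [Ne.symm hba, n1, Ne.symm hcon.1]),
        Finset.card_insert_of_notMem (by simp [n2, Ne.symm hcon.2.1]),
        Finset.card_insert_of_notMem (by simp [Ne.symm hcon.2.2]), Finset.card_singleton] at hcard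
      omega
    rcases hfour with rfl | rfl | rfl
    · exact Or.inl hc2'
    · exact Or.inr (Or.inl hc2')
    · exact Or.inr (Or.inr hc2')
  exact main (h2 a ha) (h2 b hb) hcomm (h2 (a * b) hab1) hcase (hout a ha) (hout b hb) (hout (a * b) hab1)

end Cfsg.Agent.S3195
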