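import Cfsg.Statements.S3196
import Mathlib
import Cfsg.Agent.Lib.Cores.Basic

set_option linter.all false

set_option autoImplicit false
open Cfsg

namespace Cfsg.Agent.S3196

open Subgroup

variable {G : Type*} [Group G]

/-- elementwise commuting -/
def R (A B : Subgroup G) : Prop := A ≤ centralizer (B : Set G)

theorem R.symm {A B : Subgroup G} (h : R A B) : R B A := fun b hb =>
  mem_centralizer_iff.2 fun a ha => (mem_centralizer_iff.1 (h ha) b hb).symm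

theorem R.comm {A B : Subgroup G} (h : R A B) {a b : G} (ha : a ∈ A) (hb : b ∈ B) : Commute a b :=
  (mem_centralizer_iff.1 (h ha) b hb).symm

theorem R.sup {A B C : Subgroup G} (h1 : R A C) (h2 : R B C) : R (A ⊔ B) C := sup_le h1 h2

theorem R.mono {A B C : Subgroup G} (h : R B C) (hle : A ≤ B) : R A C := hle.trans h

theorem R.conj {A B : Subgroup G} (h : R A B) (g : G) :
    R (A.map (MulAut.conj g).toMonoidHom) (B.map (MulAut.conj g).toMonoidHom) := by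
  rintro _ ⟨a, ha, rfl⟩
  refine mem_centralizer_iff.2 ?_
  rintro _ ⟨b, hb, rfl⟩
  rw [← map_mul, ← map_mul, mem_centralizer_iff.1 (h ha) b hb]

theorem conj_eq_self {A X : Subgroup G} (h : R A X) {x : G} (hx : x ∈ X) :
    A.map (MulAut.conj x).toMonoidHom = A := by
  ext a
  constructor
  · rintro ⟨b, hb, rfl⟩
    show x * b * x⁻¹ ∈ A
    rw [(h.symm.comm hx hb).eq, mul_inv_cancel_right]
    exact hb
  · intro ha
    refine ⟨a, ha, ?_⟩
    show x * a * x⁻¹ = a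
    rw [(h.symm.comm hx ha).eq, mul_inv_cancel_right]

variable {p : ℕ}

theorem exists_gen (hp : p.Prime) {X : Subgroup G} (hX : Nat.card X = p) : ∃ x ∈ X, x ≠ 1 ∧ zpowers x = X := by
  haveI := Fact.mk hp
  obtain ⟨x, hx⟩ := (isCyclic_of_prime_card hX).exists_generator
  refine ⟨x, x.2, fun h => ?_, le_antisymm (by rw [zpowers_le]; exact x.2) fun y hy => ?_⟩
  · have h1 : ∀ y : X, y = 1 := fun y => by
      obtain ⟨i, rfl⟩ := hx y
      simp [show x = 1 from Subtype.ext h]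
    haveI : Subsingleton X := ⟨fun a b => (h1 a).trans (h1 b).symm⟩
    rw [Nat.card_unique] at hX
    exact hp.ne_one hX.symm
  · obtain ⟨i, hi⟩ := hx ⟨y, hy⟩
    exact ⟨i, congrArg Subtype.val hi⟩

theorem zpowers_eq (hp : p.Prime) {X : Subgroup G} (hX : Nat.card X = p) {x : G} (hx : x ∈ X) (hx1 : x ≠ 1) :
    zpowers x = X := by
  haveI : Finite X := Nat.finite_of_card_ne_zero (hX ▸ hp.ne_zero)
  refine eq_of_le_of_card_ge (by rw [zpowers_le]; exact hx) ?_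
  rcases (Nat.dvd_prime hp).1 (hX ▸ card_dvd_of_le (zpowers_le.2 hx)) with h | h
  · exfalso
    rw [Nat.card_zpowers, orderOf_eq_one_iff] at h
    exact hx1 h
  · rw [h, hX]

theorem eq_of_mem (hp : p.Prime) {X Y : Subgroup G} (hX : Nat.card X = p) (hY : Nat.card Y = p) {x : G}
    (hx : x ∈ X) (hy : x ∈ Y) (hx1 : x ≠ 1) : X = Y := by
  rw [← zpowers_eq hp hX hx hx1, zpowers_eq hp hY hy hx1]

theorem pow_eq_one (hp : p.Prime) {X : Subgroup G} (hX : Nat.card X = p) {x : G} (hx : x ∈ X) : x ^ p = 1 := by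
  have := pow_card_eq_one' (x := (⟨x, hx⟩ : X))
  rw [hX] at this
  exact congrArg Subtype.val this

theorem R.self (hp : p.Prime) {X : Subgroup G} (hX : Nat.card X = p) : R X X := fun a ha =>
  mem_centralizer_iff.2 fun b hb => by
    obtain ⟨u, -, -, hu⟩ := exists_gen hp hX
    rw [SetLike.mem_coe, ← hu] at hb
    rw [← hu] at ha
    obtain ⟨i, rfl⟩ := ha; obtain ⟨j, rfl⟩ := hb
    exact (Commute.zpow_zpow_self u j i).eq

theorem commute_of_map_eq [Finite G] (hp : p.Prime) {W : Subgroup G} (hW : Nat.card W = p) {x : G} (hx : x ^ p = 1)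
    (he : W.map (MulAut.conj x).toMonoidHom = W) {w : G} (hw : w ∈ W) : Commute x w := by
  haveI := Fact.mk hp
  by_cases hw1 : w = 1
  · rw [hw1]; exact Commute.one_right x
  have ho : orderOf w = p := orderOf_eq_prime (pow_eq_one hp hW hw) hw1
  have hm : x * w * x⁻¹ ∈ zpowers w := by
    rw [zpowers_eq hp hW hw hw1]
    exact he ▸ (⟨w, hw, rfl⟩ : x * w * x⁻¹ ∈ W.map (MulAut.conj x).toMonoidHom)
  rw [← mem_powers_iff_mem_zpowers] at hm
  obtain ⟨i, hi⟩ := hm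
  change w ^ i = x * w * x⁻¹ at hi
  have hit : ∀ k : ℕ, x ^ k * w * (x ^ k)⁻¹ = w ^ i ^ k := by
    intro k
    induction k with
    | zero => simp
    | succ k ih =>
      calc x ^ (k + 1) * w * (x ^ (k + 1))⁻¹ = x * (x ^ k * w * (x ^ k)⁻¹) * x⁻¹ := by rw [pow_succ']; group
        _ = (MulAut.conj x) (w ^ i ^ k) := by rw [ih]; rfl
        _ = (x * w * x⁻¹) ^ i ^ k := by rw [map_pow]; rfl
        _ = w ^ i ^ (k + 1) := by rw [← hi, ← pow_mul, pow_succ']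
  have h1 := hit p
  rw [hx, one_mul, inv_one, mul_one] at h1
  have h2 : i ^ p ≡ 1 [MOD p] := by
    have := pow_eq_pow_iff_modEq.1 (h1.symm.trans (pow_one w).symm)
    rwa [ho] at this
  have h3 : (i : ZMod p) = 1 := by
    have := (ZMod.natCast_eq_natCast_iff (i ^ p) 1 p).2 h2
    rwa [Nat.cast_pow, ZMod.pow_card, Nat.cast_one] at this
  have h4 : x * w * x⁻¹ = w := by
    rw [← hi]
    calc w ^ i = w ^ 1 := pow_eq_pow_iff_modEq.2 (by
          rw [ho]; exact (ZMod.natCast_eq_natCast_iff i 1 p).1 (by simpa using h3))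
      _ = w := pow_one w
  exact mul_inv_eq_iff_eq_mul.1 h4

theorem mem_sup {A B : Subgroup G} (h : R A B) {z : G} (hz : z ∈ A ⊔ B) : ∃ a ∈ A, ∃ b ∈ B, z = a * b := by
  rw [← SetLike.mem_coe, coe_mul_of_left_le_normalizer_right A B (h.trans (centralizer_le_normalizer _))] at hz
  obtain ⟨a, ha, b, hb, rfl⟩ := hz
  exact ⟨a, ha, b, hb, rfl⟩

theorem third (hp : p.Prime) {X Z : Subgroup G} (hX : Nat.card X = p) (hZ : Nat.card Z = p) (h : R X Z) (hne : X ≠ Z)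
    {x z : G} (hx : x ∈ X) (hx1 : x ≠ 1) (hz : z ∈ Z) (hz1 : z ≠ 1) :
    Nat.card (zpowers (x * z)) = p ∧ zpowers (x * z) ≤ X ⊔ Z ∧ X ≤ zpowers (x * z) ⊔ Z ∧ Z ≤ zpowers (x * z) ⊔ X := by
  haveI := Fact.mk hp
  refine ⟨?_, zpowers_le.2 (mul_mem_sup hx hz), ?_, ?_⟩
  · rw [Nat.card_zpowers]
    refine orderOf_eq_prime (by rw [(h.comm hx hz).mul_pow, pow_eq_one hp hX hx, pow_eq_one hp hZ hz, one_mul]) ?_
    intro e
    exact hne (eq_of_mem hp hX hZ hx (by rw [eq_inv_of_mul_eq_one_left e]; exact Z.inv_mem hz) hx1)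
  · rw [← zpowers_eq hp hX hx hx1, zpowers_le]
    have := mul_mem_sup (mem_zpowers (x * z)) (Z.inv_mem hz)
    rwa [mul_inv_cancel_right] at this
  · rw [← zpowers_eq hp hZ hz hz1, zpowers_le]
    have := mul_mem_sup (mem_zpowers (x * z)) (X.inv_mem hx)
    rwa [show x * z * x⁻¹ = z by rw [(h.comm hx hz).eq, mul_inv_cancel_right]] at this

theorem line_eq [Finite G] (hp : p.Prime) {A B P Q : Subgroup G} (hA : Nat.card A = p) (hB : Nat.card B = p)
    (hP : Nat.card P = p) (hQ : Nat.card Q = p) (h : R A B) (hPl : P ≤ A ⊔ B) (hQl : Q ≤ A ⊔ B) (hne : P ≠ Q) :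
    A ⊔ B ≤ P ⊔ Q := by
  haveI := Fact.mk hp
  have hG : IsPGroup p ↥(A ⊔ B) := fun z => by
    obtain ⟨a, ha, b, hb, e⟩ := mem_sup h z.2
    refine ⟨1, Subtype.ext ?_⟩
    show (z : G) ^ p ^ 1 = 1
    rw [pow_one, e, (h.comm ha hb).mul_pow, pow_eq_one hp hA ha, pow_eq_one hp hB hb, one_mul]
  have hle : Nat.card ↥(A ⊔ B) ≤ p * p := by
    have hs : Function.Surjective (fun q : A × B => (⟨q.1 * q.2, mul_mem_sup q.1.2 q.2.2⟩ : ↥(A ⊔ B))) := fun z => by
      obtain ⟨a, ha, b, hb, e⟩ := mem_sup h z.2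
      exact ⟨⟨⟨a, ha⟩, ⟨b, hb⟩⟩, Subtype.ext e.symm⟩
    have := Nat.card_le_card_of_surjective _ hs
    rwa [Nat.card_prod, hA, hB] at this
  obtain ⟨n, hn⟩ := IsPGroup.iff_card.1 hG
  have hPQ : P ⊔ Q ≤ A ⊔ B := sup_le hPl hQl
  obtain ⟨m, hm⟩ := IsPGroup.iff_card.1 (hG.to_le hPQ)
  have hm2 : 2 ≤ m := by
    by_contra hlt
    have hcard : Nat.card ↥(P ⊔ Q) ≤ p := by
      rw [hm]
      calc p ^ m ≤ p ^ 1 := Nat.pow_le_pow_right hp.pos (by omega)
        _ = p := pow_one p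
    have e1 := eq_of_le_of_card_ge (le_sup_left : P ≤ P ⊔ Q) (by rw [hP]; exact hcard)
    have e2 := eq_of_le_of_card_ge (le_sup_right : Q ≤ P ⊔ Q) (by rw [hQ]; exact hcard)
    exact hne (e1.trans e2.symm)
  refine (eq_of_le_of_card_ge hPQ (hle.trans ?_)).ge
  rw [hm, ← sq]
  exact Nat.pow_le_pow_right hp.pos hm2

section geom

variable [Finite G] (hp : p.Prime) (K : Set (Subgroup G)) (hK : ∀ X ∈ K, Nat.card ↥X = p)
  (hKc : ∀ X ∈ K, ∀ g : G, X.map (MulAut.conj g).toMonoidHom ∈ K)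
  (ha : ∀ X ∈ K, ∀ Y ∈ K, X ≠ Y → R X Y → ∀ Z : Subgroup G, Z ≤ X ⊔ Y → Nat.card ↥Z = p → Z ∈ K)
  (hb : ∀ X ∈ K, ∀ Y ∈ K, X ≠ Y → R X Y → ∀ W ∈ K, (X ⊔ Y) ⊓ centralizer (W : Set G) ≠ ⊥)

include hp hK ha hb in
theorem proj {X Y W : Subgroup G} (hX : X ∈ K) (hY : Y ∈ K) (hne : X ≠ Y) (h : R X Y) (hW : W ∈ K) :
    ∃ Z ∈ K, Z ≤ X ⊔ Y ∧ R Z W := by
  haveI := Fact.mk hp
  obtain ⟨⟨z, hz⟩, hz1'⟩ := (ne_bot_iff_exists_ne_one).1 (hb X hX Y hY hne h W hW)
  have hz1 : z ≠ 1 := fun e => hz1' (Subtype.ext e)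
  obtain ⟨a, ha', b, hb', e⟩ := mem_sup h hz.1
  have hzp : z ^ p = 1 := by
    rw [e, (h.comm ha' hb').mul_pow, pow_eq_one hp (hK X hX) ha', pow_eq_one hp (hK Y hY) hb', one_mul]
  exact ⟨zpowers z, ha X hX Y hY hne h _ (zpowers_le.2 hz.1) (by rw [Nat.card_zpowers, orderOf_eq_prime hzp hz1]),
    zpowers_le.2 hz.1, zpowers_le.2 hz.2⟩

include hp hK hKc ha hb in
theorem key {X : Subgroup G} (hX : X ∈ K)
    (hmax : ∀ Z ∈ K, (∀ C ∈ K, R C X → R C Z) → ∀ C ∈ K, R C Z → R C X)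
    {W : Subgroup G} (hW : W ∈ K) (hWX : ¬ R W X) {x : G} (hx : x ∈ X) (hx1 : x ≠ 1) :
    ¬ R W (W.map (MulAut.conj x).toMonoidHom) := by
  intro hr
  set W' := W.map (MulAut.conj x).toMonoidHom with hW'def
  have hW' : W' ∈ K := hKc W hW x
  have hne : W ≠ W' := by
    intro e
    refine hWX fun w hw => mem_centralizer_iff.2 fun y hy => ?_
    have hc := commute_of_map_eq hp (hK W hW) (pow_eq_one hp (hK X hX) hx) e.symm hw
    rw [SetLike.mem_coe, ← zpowers_eq hp (hK X hX) hx hx1] at hy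
    obtain ⟨i, rfl⟩ := hy
    exact (hc.zpow_left i).eq
  obtain ⟨O, hO, hOl, hOX⟩ := proj hp K hK ha hb hW hW' hne hr hX
  have hsub : ∀ C ∈ K, R C X → R C O := by
    intro C hC hCX
    by_cases hCW : R C W
    · have h2 : R C W' := by
        have := hCW.conj x
        rwa [conj_eq_self hCX hx] at this
      exact ((hCW.symm.sup h2.symm).mono hOl).symm
    · by_cases hCeq : X = C
      · exact hCeq ▸ hOX.symm
      obtain ⟨C1, hC1, hC1l, hC1W⟩ := proj hp K hK ha hb hX hC hCeq hCX.symm hW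
      have hC1X : R C1 X := R.mono (R.sup (R.self hp (hK X hX)) hCX) hC1l
      have h2 : R C1 W' := by
        have := hC1W.conj x
        rwa [conj_eq_self hC1X hx] at this
      have hC1O : R C1 O := ((hC1W.symm.sup h2.symm).mono hOl).symm
      have hne1 : X ≠ C1 := fun e => hWX (e ▸ hC1W.symm)
      refine R.mono (hOX.symm.sup hC1O) ?_
      exact le_trans le_sup_right
        (line_eq hp (hK X hX) (hK C hC) (hK X hX) (hK C1 hC1) hCX.symm le_sup_left hC1l hne1)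
  have hWO : R W O := by
    refine (R.mono ?_ hOl).symm
    exact R.sup (R.self hp (hK W hW)) hr.symm
  exact hWX (hmax O hO hsub W hW hWO)

include hp hK hKc ha hb in
theorem claim {X C Zc W W' : Subgroup G} (hX : X ∈ K)
    (hmax : ∀ Z ∈ K, (∀ C ∈ K, R C X → R C Z) → ∀ C ∈ K, R C Z → R C X)
    (hC : C ∈ K) (hXC : X ≠ C) (h : R X C) (hW : W ∈ K) (hWX : ¬ R W X) (hZc : Zc ∈ K) (hZl : Zc ≤ X ⊔ C)
    (hZW : R Zc W) (hW' : W' ∈ K) (hW'X : ¬ R W' X) : R W' Zc := by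
  by_contra hcon
  have hselfX := R.self hp (hK X hX)
  obtain ⟨Y, hY, hYl, hYW'⟩ := proj hp K hK ha hb hX hC hXC h hW'
  have hlineX : R (X ⊔ C) X := R.sup hselfX h.symm
  have hYX : R Y X := hlineX.mono hYl
  have hZX : R Zc X := hlineX.mono hZl
  have hYne : Y ≠ X := fun e => hW'X (e ▸ hYW').symm
  have hZne : Zc ≠ X := fun e => hWX (e ▸ hZW).symm
  have hYZ : Y ≠ Zc := fun e => hcon (e ▸ hYW').symm
  have hl := line_eq hp (hK X hX) (hK C hC) (hK X hX) (hK Zc hZc) h le_sup_left hZl hZne.symm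
  obtain ⟨y, hy, hy1, hyz⟩ := exists_gen hp (hK Y hY)
  obtain ⟨x, hx, z, hz, he⟩ := mem_sup hZX.symm (hl (hYl hy))
  have hx1 : x ≠ 1 := by
    rintro rfl
    rw [one_mul] at he
    exact hYZ (eq_of_mem hp (hK Y hY) (hK Zc hZc) hy (he ▸ hz) hy1)
  have hz1 : z ≠ 1 := by
    rintro rfl
    rw [mul_one] at he
    exact hYne (eq_of_mem hp (hK Y hY) (hK X hX) hy (he ▸ hx) hy1)
  have hWY : ¬ R W Y := by
    intro hh
    have h3 := (third hp (hK X hX) (hK Zc hZc) hZX.symm hZne.symm hx hx1 hz hz1).2.2.1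
    rw [← he, hyz] at h3
    exact hWX (((hh.symm.sup hZW).mono h3).symm)
  have hne : W' ≠ Y := fun e => hW'X (e.symm ▸ hYX)
  obtain ⟨T, hT, hTl, hTW⟩ := proj hp K hK ha hb hW' hY hne hYW'.symm hW
  have hTY : R T Y := (R.sup hYW'.symm (R.self hp (hK Y hY))).mono hTl
  have hTne : T ≠ Y := fun e => hWY (e ▸ hTW).symm
  have hTX : ¬ R T X := fun hh => hW'X ((hh.sup hYX).mono
    (le_sup_left.trans (line_eq hp (hK W' hW') (hK Y hY) (hK T hT) (hK Y hY) hYW'.symm hTl le_sup_right hTne)))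
  have hTWx : R T (W.map (MulAut.conj x).toMonoidHom) := by
    have h1 := hTW.conj y
    rw [conj_eq_self hTY hy] at h1
    have h2 : W.map (MulAut.conj y).toMonoidHom =
        (W.map (MulAut.conj z).toMonoidHom).map (MulAut.conj x).toMonoidHom := by
      rw [Subgroup.map_map]
      congr 1
      ext v
      show y * v * y⁻¹ = x * (z * v * z⁻¹) * x⁻¹
      rw [he]; group
    rwa [h2, conj_eq_self hZW.symm hz] at h1
  have hTW' : T ≠ W := fun e => hWY (e ▸ hTY)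
  obtain ⟨O, hO, hOl, hOX⟩ := proj hp K hK ha hb hT hW hTW' hTW hX
  have hOW : R O W := (R.sup hTW (R.self hp (hK W hW))).mono hOl
  have hOWx : R O (W.map (MulAut.conj x).toMonoidHom) := by
    have h1 := hOW.conj x
    rwa [conj_eq_self hOX hx] at h1
  have hTO : T ≠ O := fun e => hTX (e ▸ hOX)
  exact key hp K hK hKc ha hb hX hmax hW hWX hx hx1 ((hTWx.sup hOWx).mono
    (le_sup_right.trans (line_eq hp (hK T hT) (hK W hW) (hK T hT) (hK O hO) hTW le_sup_left hOl hTO)))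

include hp hK hKc ha hb in
theorem radical (hex : ∃ X ∈ K, ∃ Y ∈ K, X ≠ Y ∧ R X Y) : ∃ V ∈ K, ∀ W ∈ K, R V W := by
  obtain ⟨X0, hX0, Y0, hY0, hne0, hR0⟩ := hex
  obtain ⟨X, hX, hXm⟩ := Set.exists_max_image K (fun A => Set.ncard {C ∈ K | R C A}) (Set.toFinite K) ⟨X0, hX0⟩
  have hmax : ∀ Z ∈ K, (∀ C ∈ K, R C X → R C Z) → ∀ C ∈ K, R C Z → R C X := by
    intro Z hZ hsub C hC hCZ
    have heq : {C ∈ K | R C X} = {C ∈ K | R C Z} :=
      Set.eq_of_subset_of_ncard_le (fun D hD => ⟨hD.1, hsub D hD.1 hD.2⟩) (hXm Z hZ) (Set.toFinite _)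
    exact (heq.symm ▸ (⟨hC, hCZ⟩ : C ∈ {C ∈ K | R C Z}) : C ∈ {C ∈ K | R C X}).2
  by_cases hall : ∀ W ∈ K, R W X
  · exact ⟨X, hX, fun W hW => (hall W hW).symm⟩
  push Not at hall
  obtain ⟨W, hW, hWX⟩ := hall
  have h2 : 1 < Set.ncard {C ∈ K | R C X} := by
    refine lt_of_lt_of_le ?_ (hXm X0 hX0)
    rw [Set.one_lt_ncard (Set.toFinite _)]
    exact ⟨X0, ⟨hX0, R.self hp (hK X0 hX0)⟩, Y0, ⟨hY0, hR0.symm⟩, hne0⟩
  obtain ⟨C, ⟨hC, hCX⟩, hCne⟩ := Set.exists_ne_of_one_lt_ncard h2 X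
  obtain ⟨Z, hZ, hZl, hZW⟩ := proj hp K hK ha hb hX hC hCne.symm hCX.symm hW
  refine ⟨Z, hZ, fun D hD => ?_⟩
  have hZX : R Z X := (R.sup (R.self hp (hK X hX)) hCX).mono hZl
  by_cases hDX : R D X
  · by_cases hDeq : X = D
    · exact hDeq ▸ hZX
    obtain ⟨Z', hZ', hZ'l, hZ'W⟩ := proj hp K hK ha hb hX hD hDeq hDX.symm hW
    have hZ'X : R Z' X := (R.sup (R.self hp (hK X hX)) hDX).mono hZ'l
    have hXZ' : X ≠ Z' := fun e => hWX (e ▸ hZ'W).symm
    have hZneW : Z ≠ W := fun e => hWX (e ▸ hZX)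
    obtain ⟨z, hz, hz1, -⟩ := exists_gen hp (hK Z hZ)
    obtain ⟨w, hw, hw1, -⟩ := exists_gen hp (hK W hW)
    obtain ⟨hc, hle, hZle, hWle⟩ := third hp (hK Z hZ) (hK W hW) hZW hZneW hz hz1 hw hw1
    have hR2 : zpowers (z * w) ∈ K := ha Z hZ W hW hZneW hZW _ hle hc
    have hR2X : ¬ R (zpowers (z * w)) X := fun hh => hWX ((hh.sup hZX).mono hWle)
    have hR2Z' : R (zpowers (z * w)) Z' :=
      claim hp K hK hKc ha hb hX hmax hD hDeq hDX.symm hW hWX hZ' hZ'l hZ'W hR2 hR2X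
    have hZZ' : R Z Z' := (hR2Z'.sup hZ'W.symm).mono hZle
    refine (R.mono (hZX.symm.sup hZZ'.symm) ?_).symm
    exact le_sup_right.trans (line_eq hp (hK X hX) (hK D hD) (hK X hX) (hK Z' hZ') hDX.symm le_sup_left hZ'l hXZ')
  · exact (claim hp K hK hKc ha hb hX hmax hC hCne.symm hCX.symm hW hWX hZ hZl hZW hD hDX).symm

end geom

/-- Let p be a prime and K a set of subgroups of order p of a finite group G, closed under conjugation, such that at least two distinct members of K commute elementwise, and whenever two distinct members X, Y of K commute: every subgroup of order p of the group XY they generate belongs to K, and every member W of K has centralizer meeting XY nontrivially. Then some member V of K commutes elementwise with every member of K and lies in O_p(G); in particular G is not simple. -/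
theorem result {G : Type*} [Group G] [Finite G]
    {p : ℕ} (hp : p.Prime) (K : Set (Subgroup G)) (hK : ∀ X ∈ K, Nat.card ↥X = p)
    (hKc : ∀ X ∈ K, ∀ g : G, X.map (MulAut.conj g).toMonoidHom ∈ K)
    (hex : ∃ X ∈ K, ∃ Y ∈ K, X ≠ Y ∧ ∀ x ∈ X, ∀ y ∈ Y, x * y = y * x)
    (ha : ∀ X ∈ K, ∀ Y ∈ K, X ≠ Y → (∀ x ∈ X, ∀ y ∈ Y, x * y = y * x) →
      ∀ Z : Subgroup G, Z ≤ X ⊔ Y → Nat.card ↥Z = p → Z ∈ K)
    (hb : ∀ X ∈ K, ∀ Y ∈ K, X ≠ Y → (∀ x ∈ X, ∀ y ∈ Y, x * y = y * x) →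
      ∀ W ∈ K, (X ⊔ Y) ⊓ Subgroup.centralizer (W : Set G) ≠ ⊥) :
    (∃ V ∈ K, (∀ W ∈ K, ∀ v ∈ V, ∀ w ∈ W, v * w = w * v) ∧ V ≤ Cfsg.pCore p G) ∧ ¬ IsSimpleGroup G := by
  haveI := Fact.mk hp
  obtain ⟨X0, hX0, Y0, hY0, hne0, hxy0⟩ := hex
  obtain ⟨V, hV, hVW⟩ := radical hp K hK hKc (fun X hX Y hY hne h => ha X hX Y hY hne fun x hx y hy => (h.comm hx hy).eq)
    (fun X hX Y hY hne h => hb X hX Y hY hne fun x hx y hy => (h.comm hx hy).eq)
    ⟨X0, hX0, Y0, hY0, hne0, fun x hx => Subgroup.mem_centralizer_iff.2 fun y hy => (hxy0 x hx y hy).symm⟩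
  have hconj : ∀ c ∈ Group.conjugatesOfSet (V : Set G), ∃ U ∈ K, c ∈ U ∧ ∀ W ∈ K, R U W := by
    intro c hc
    obtain ⟨v, hv, hvc⟩ := Group.mem_conjugatesOfSet_iff.1 hc
    obtain ⟨g, rfl⟩ := isConj_iff.1 hvc
    refine ⟨V.map (MulAut.conj g).toMonoidHom, hKc V hV g, ⟨v, hv, rfl⟩, fun W hW => ?_⟩
    have h := (hVW _ (hKc W hW g⁻¹)).conj g
    rwa [Subgroup.map_map, show ((MulAut.conj g).toMonoidHom.comp (MulAut.conj g⁻¹).toMonoidHom) = MonoidHom.id G by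
      ext v; show g * (g⁻¹ * v * g⁻¹⁻¹) * g⁻¹ = v; group, Subgroup.map_id] at h
  have hcomm : IsMulCommutative ↥(Subgroup.normalClosure (V : Set G)) := Subgroup.isMulCommutative_closure (by
    intro a ha' b hb'
    obtain ⟨U, hU, haU, hUW⟩ := hconj a ha'
    obtain ⟨U', hU', hbU, -⟩ := hconj b hb'
    exact ((hUW U' hU').comm haU hbU).eq)
  have hexp : ∀ a ∈ Subgroup.normalClosure (V : Set G), a ^ p = 1 := by
    intro a ha'
    induction ha' using Subgroup.closure_induction with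
    | mem x hx =>
      obtain ⟨U, hU, hxU, -⟩ := hconj x hx
      exact pow_eq_one hp (hK U hU) hxU
    | one => exact one_pow p
    | mul x y hx hy ihx ihy =>
      have hc : (⟨x, hx⟩ : ↥(Subgroup.normalClosure (V : Set G))) * ⟨y, hy⟩ = ⟨y, hy⟩ * ⟨x, hx⟩ := hcomm.is_comm.comm _ _
      rw [(show Commute x y from congrArg Subtype.val hc).mul_pow, ihx, ihy, one_mul]
    | inv x _ ihx => rw [inv_pow, ihx, inv_one]
  have hN : Subgroup.normalClosure (V : Set G) ≤ Cfsg.pCore p G :=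
    Cores.le_pCore (fun a => ⟨1, Subtype.ext (by rw [pow_one]; exact hexp a a.2)⟩)
  refine ⟨⟨V, hV, fun W hW v hv w hw => ((hVW W hW).comm hv hw).eq, Subgroup.le_normalClosure.trans hN⟩, ?_⟩
  intro hs
  have htop : Subgroup.normalClosure (V : Set G) = ⊤ := by
    refine (hs.eq_bot_or_eq_top_of_normal _ Subgroup.normalClosure_normal).resolve_left fun h => ?_
    have := Subgroup.le_normalClosure (H := V)
    rw [h, le_bot_iff] at this
    have e := hK V hV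
    rw [this, Subgroup.card_bot] at e
    exact hp.ne_one e.symm
  have hn : ∀ U ∈ K, U = ⊤ := fun U hU => by
    refine (hs.eq_bot_or_eq_top_of_normal U ⟨fun u hu g => ?_⟩).resolve_left fun h => ?_
    · have h1 : (⟨g, htop ▸ Subgroup.mem_top g⟩ : ↥(Subgroup.normalClosure (V : Set G))) * ⟨u, htop ▸ Subgroup.mem_top u⟩ =
          ⟨u, htop ▸ Subgroup.mem_top u⟩ * ⟨g, htop ▸ Subgroup.mem_top g⟩ := hcomm.is_comm.comm _ _
      have h2 : g * u = u * g := congrArg Subtype.val h1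
      rwa [h2, mul_inv_cancel_right]
    · have e := hK U hU
      rw [h, Subgroup.card_bot] at e
      exact hp.ne_one e.symm
  exact hne0 ((hn X0 hX0).trans (hn Y0 hY0).symm)

end Cfsg.Agent.S3196
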