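import Cfsg.Statements.S3197
import Cfsg.Agent.Lib.StronglyClosedFour.Pair
import Cfsg.Agent.Lib.StronglyClosedFour.AltEight

set_option autoImplicit false
set_option linter.style.haveILetI false
open Cfsg

namespace Cfsg.Agent.S3197

open Cfsg.Agent.StronglyClosedFour

/-- Let G be a finite group whose Sylow 2-subgroups are isomorphic to those of the alternating group of degree 8, with exactly three conjugacy classes of involutions, and containing an elementary abelian subgroup A of order 16 whose normalizer N satisfies: A·O(N) is normal in N with quotient N/(A·O(N)) isomorphic to the alternating group of degree 5, O(N) being the largest normal subgroup of odd order of N. Then A·O(G) is a normal subgroup of G. -/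
theorem result {G : Type*} [Group G] [Finite G]
    (S : Sylow 2 G) (P : Sylow 2 ↥(alternatingGroup (Fin 8)))
    (hS : Nonempty (↥(S : Subgroup G) ≃* ↥(P : Subgroup ↥(alternatingGroup (Fin 8)))))
    (h3 : Nat.card {c : ConjClasses G // ∃ x ∈ c.carrier, orderOf x = 2} = 3)
    (A : Subgroup G) (hA : Cfsg.IsElementaryAbelian 2 A) (hA16 : Nat.card ↥A = 16)
    (N : Subgroup G) (hN : N = Subgroup.normalizer (A : Set G))
    (hNA : ∃ (_ : (A.subgroupOf N ⊔ Cfsg.oddCore ↥N).Normal),
      Nonempty (↥N ⧸ (A.subgroupOf N ⊔ Cfsg.oddCore ↥N) ≃* ↥(alternatingGroup (Fin 5)))) :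
    (A ⊔ Cfsg.oddCore G).Normal := by
  classical
  haveI : Fact (Nat.Prime 2) := ⟨Nat.prime_two⟩
  subst hN
  obtain ⟨hn, ⟨e⟩⟩ := hNA
  haveI := hn
  obtain ⟨eSP⟩ := hS
  have hP64 : Nat.card ↥(P : Subgroup ↥(alternatingGroup (Fin 8))) = 64 := by
    have h8 : Nat.card ↥(alternatingGroup (Fin 8)) = 64 * 315 := by
      have h := two_mul_card_alternatingGroup (α := Fin 8)
      rw [Fintype.card_perm, Fintype.card_fin, show Nat.factorial 8 = 40320 from rfl,
        ← Nat.card_eq_fintype_card] at h
      omega
    obtain ⟨k, hk⟩ := IsPGroup.iff_card.1 P.2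
    have hd := (P : Subgroup ↥(alternatingGroup (Fin 8))).card_mul_index
    rw [h8, hk] at hd
    have hnd := P.not_dvd_index
    have hk7 : k < 7 := by
      by_contra hlt
      obtain ⟨d, rfl⟩ := Nat.exists_eq_add_of_le (Nat.le_of_not_lt hlt)
      have : 2 ^ 7 ∣ 64 * 315 := ⟨2 ^ d * (P : Subgroup ↥(alternatingGroup (Fin 8))).index, by
        rw [← hd, pow_add]; ring⟩
      norm_num at this
    rw [hk]
    interval_cases k <;> first | rfl | omega
  have hS64 : Nat.card ↥(S : Subgroup G) = 64 := (Nat.card_congr eSP.toEquiv).trans hP64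
  let N := Subgroup.normalizer (A : Set G)
  let Q := (A.subgroupOf N ⊔ Cfsg.oddCore ↥N)
  let π : ↥N →* ↥(alternatingGroup (Fin 5)) := e.toMonoidHom.comp (QuotientGroup.mk' Q)
  have hπ : ∀ n : ↥N, π n = 1 ↔ n ∈ Q := fun n => by
    show e (QuotientGroup.mk' Q n) = 1 ↔ _
    rw [EmbeddingLike.map_eq_one_iff]
    exact QuotientGroup.eq_one_iff n
  let D : Pre A :=
    { sq := fun a ha => by rw [← pow_two]; exact hA.2 a ha
      card := hA16
      π := π
      surj := e.surjective.comp (QuotientGroup.mk'_surjective Q)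
      ker := fun n hn1 => by
        obtain ⟨a, ha, o, ho, he⟩ := Subgroup.mem_sup_of_normal_right.1 ((hπ n).1 hn1)
        exact ⟨a, ha, o, ⟨o, ho, rfl⟩, by rw [← he]; rfl⟩
      ker' := fun n hn1 => (hπ n).2 (by
        rcases hn1 with h | ⟨o, ho, he⟩
        · exact Subgroup.mem_sup_left h
        · exact Subgroup.mem_sup_right ((Subtype.ext he : o = n) ▸ ho))
      order := by
        refine ⟨(S : Subgroup G).index, ?_, by rw [← hS64, Subgroup.card_mul_index]⟩
        have := S.not_dvd_index
        rw [Nat.odd_iff]; omega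
      centre := fun T hT hT64 => by
        have hidx : ¬ 2 ∣ T.index := by
          have h1 := T.card_mul_index
          rw [hT64, ← (S : Subgroup G).card_mul_index, hS64] at h1
          rw [mul_left_cancel₀ (by norm_num : (64 : ℕ) ≠ 0) h1]
          exact S.not_dvd_index
        let T' : Sylow 2 G := hT.toSylow hidx
        have e' : ↥T ≃* ↥(P : Subgroup ↥(alternatingGroup (Fin 8))) := (T'.equiv S).trans eSP
        rw [Nat.card_congr (Subgroup.centerCongr e').toEquiv]
        exact AltEight.card_center_sylow_le P }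
  obtain ⟨M⟩ := D.exists_model
  have hM := M.classes h3
  refine General.main A M.sq (by rw [hA16]; norm_num) ?_ hM.closed (fun u hu hu1 => M.good_all hM u hu hu1)
    ⟨M.f 1, M.f_mem 1, M.f 3, M.f_mem 3, fun h => absurd (M.f_eq_one 1 h) (by decide),
      fun h => absurd (M.f_eq_one 3 h) (by decide), hM.not_conj⟩
  exact M.odd_relIndex_of_trivial
    (fun a ha => Subgroup.mem_centralizer_iff.2 fun b hb => M.toPre.comm hb ha)
    (fun n hn => M.toPre.faithful fun a ha => ((Subgroup.mem_centralizer_iff.1 hn) a ha).symm)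
    hM.closed

end Cfsg.Agent.S3197
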