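import Cfsg.Statements.S3200
import Mathlib
import Cfsg.Agent.Lib.Characters.Burnside
import Cfsg.Agent.Lib.Hall.Solvable

set_option linter.all false

set_option autoImplicit false
open Cfsg

namespace Cfsg.Agent.S3200

universe u

open scoped Pointwise

theorem subgroup_index {H : Type*} [Group H] [Finite H] (C N : Subgroup H) [N.Normal] {k : ℕ}
    (hi : C.index = 2 ^ k) : ∃ j : ℕ, (C.subgroupOf N).index = 2 ^ j := by
  have h1 : C.relIndex N ∣ C.index := Cfsg.Agent.Cores.relIndex_dvd_index_right_normal C N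
  rw [hi] at h1
  obtain ⟨j, -, hj⟩ := (Nat.dvd_prime_pow Nat.prime_two).1 h1
  exact ⟨j, hj⟩

theorem quotient_index {H : Type*} [Group H] [Finite H] (C N : Subgroup H) [N.Normal] {k : ℕ}
    (hi : C.index = 2 ^ k) : ∃ j : ℕ, (C.map (QuotientGroup.mk' N)).index = 2 ^ j := by
  have h1 := Subgroup.index_map_dvd C (QuotientGroup.mk'_surjective N)
  rw [hi] at h1
  obtain ⟨j, -, hj⟩ := (Nat.dvd_prime_pow Nat.prime_two).1 h1
  exact ⟨j, hj⟩

theorem solvable_aux : ∀ (n : ℕ) {H : Type u} [Group H] [Finite H], Nat.card H ≤ n →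
    ∀ (C : Subgroup H), IsMulCommutative C → (∃ k, C.index = 2 ^ k) → Group.IsSolvable H := by
  intro n
  induction n with
  | zero => intro H _ _ hcard; exact absurd hcard (by have := Nat.card_pos (α := H); omega)
  | succ n ih =>
    intro H _ _ hcard C hC hk
    haveI := hC
    obtain ⟨k, hk⟩ := hk
    haveI : Fact (Nat.Prime 2) := ⟨Nat.prime_two⟩
    rcases subsingleton_or_nontrivial H with hsub | hnt
    · infer_instance
    by_cases hsimp : IsSimpleGroup H
    · by_cases hC1 : C = ⊥
      · subst hC1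
        rw [Subgroup.index_bot] at hk
        haveI := (IsPGroup.of_card hk).isNilpotent
        infer_instance
      · obtain ⟨⟨c, hc⟩, hc1⟩ := (Subgroup.ne_bot_iff_exists_ne_one).1 hC1
        have hle : C ≤ Subgroup.centralizer ({c} : Set H) := fun x hx =>
          Subgroup.mem_centralizer_singleton_iff.2
            (congrArg Subtype.val (hC.is_comm.comm (⟨x, hx⟩ : C) ⟨c, hc⟩))
        have hd := Subgroup.index_dvd_of_le hle
        rw [hk] at hd
        obtain ⟨j, -, hj⟩ := (Nat.dvd_prime_pow Nat.prime_two).1 hd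
        have hp := Cfsg.Agent.Characters.simple_prime_power_class Nat.prime_two
          (g := c) (fun e => hc1 (Subtype.ext e)) hj
        haveI := Fact.mk hp
        haveI : IsCyclic H := isCyclic_of_prime_card (p := Nat.card H) rfl
        exact Group.isSolvable_of_comm mul_comm'
    · have : ∃ N : Subgroup H, N.Normal ∧ N ≠ ⊥ ∧ N ≠ ⊤ := by
        by_contra hcon
        push Not at hcon
        exact hsimp ⟨fun N hN => (em (N = ⊥)).imp id (hcon N hN)⟩
      obtain ⟨N, hN, hN1, hN2⟩ := this
      haveI : Group.IsSolvable N := by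
        refine ih ?_ (C.subgroupOf N) ?_ (subgroup_index C N hk)
        · by_contra hc
          exact hN2 (Subgroup.eq_top_of_le_card N (by omega))
        · refine ⟨⟨fun a b => Subtype.ext (Subtype.ext ?_)⟩⟩
          simp only [Subgroup.coe_mul]
          exact congrArg Subtype.val (hC.is_comm.comm (⟨((a : N) : H), a.2⟩ : C) ⟨((b : N) : H), b.2⟩)
      haveI : Group.IsSolvable (H ⧸ N) := by
        refine ih ?_ (C.map (QuotientGroup.mk' N)) inferInstance (quotient_index C N hk)
        have h2 : 2 ≤ Nat.card N := by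
          haveI : Nontrivial N := (Subgroup.nontrivial_iff_ne_bot N).2 hN1
          exact Finite.one_lt_card
        have h3 := Subgroup.card_eq_card_quotient_mul_card_subgroup N
        have h4 : 0 < Nat.card (H ⧸ N) := Nat.card_pos
        nlinarith
      exact Group.isSolvable_of_ker_le_range N.subtype (QuotientGroup.mk' N) (by simp)

theorem exists_compl {H : Type*} [Group H] [Finite H] (D : Subgroup H) (hodd : Odd (Nat.card D))
    (hi : ∃ j, D.index = 2 ^ j) : ∃ P : Sylow 2 H, Subgroup.IsComplement' (P : Subgroup H) D := by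
  haveI : Fact (Nat.Prime 2) := ⟨Nat.prime_two⟩
  obtain ⟨P⟩ : Nonempty (Sylow 2 H) := inferInstance
  obtain ⟨j, hj⟩ := hi
  have hne : Nat.card D ≠ 0 := Nat.card_pos.ne'
  refine ⟨P, Subgroup.isComplement'_of_coprime ?_ ?_⟩
  · have h2 : ¬ 2 ∣ Nat.card D := hodd.not_two_dvd_nat
    have h3 : (Nat.card H).factorization 2 = j := by
      rw [← D.card_mul_index, hj, Nat.factorization_mul hne (pow_ne_zero _ two_ne_zero),
        Finsupp.add_apply, Nat.factorization_eq_zero_of_not_dvd h2, Nat.prime_two.factorization_pow,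
        Finsupp.single_eq_same, zero_add]
    rw [Sylow.card_eq_multiplicity, h3, ← hj, mul_comm, D.card_mul_index]
  · obtain ⟨i, hi⟩ := IsPGroup.iff_card.1 P.2
    rw [hi]
    exact (Nat.coprime_two_left.2 hodd).pow_left i

/-- Let H be a finite group in which a Sylow 2-subgroup has an abelian complement (an abelian subgroup meeting it trivially whose product with it is all of H). Then H is solvable, and every subgroup and every quotient group of H again has a Sylow 2-subgroup with an abelian complement. -/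
theorem result {H : Type*} [Group H] [Finite H]
    (S : Sylow 2 H) (C : Subgroup H) (hC : IsMulCommutative ↥C) (hSC : Subgroup.IsComplement' (S : Subgroup H) C) :
    Group.IsSolvable H ∧
    (∀ L : Subgroup H, ∃ (P : Sylow 2 ↥L) (D : Subgroup ↥L), IsMulCommutative ↥D ∧ Subgroup.IsComplement' (P : Subgroup ↥L) D) ∧
    (∀ (N : Subgroup H) [N.Normal], ∃ (P : Sylow 2 (H ⧸ N)) (D : Subgroup (H ⧸ N)),
      IsMulCommutative ↥D ∧ Subgroup.IsComplement' (P : Subgroup (H ⧸ N)) D) := by
  classical
  haveI : Fact (Nat.Prime 2) := ⟨Nat.prime_two⟩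
  have hodd : Odd (Nat.card C) := by
    have hi := Sylow.not_dvd_index (p := 2) S
    have h1 : (S : Subgroup H).index = Nat.card C := hSC.symm.index_eq_card
    rw [h1] at hi
    exact Nat.odd_iff.2 (Nat.two_dvd_ne_zero.1 hi)
  obtain ⟨k, hk⟩ : ∃ k, C.index = 2 ^ k := by
    obtain ⟨k, hk⟩ := IsPGroup.iff_card.1 S.2
    exact ⟨k, by rw [hSC.index_eq_card, hk]⟩
  haveI hs : Group.IsSolvable H := solvable_aux (Nat.card H) le_rfl C hC ⟨k, hk⟩
  refine ⟨hs, fun L => ?_, fun N _ => ?_⟩
  · have hHall : Cfsg.IsPiHall {2}ᶜ C := by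
      refine ⟨fun p hp hd h2 => ?_, fun p hp hpπ hd => hpπ ?_⟩
      · rw [Set.mem_singleton_iff] at h2
        subst h2
        exact hodd.not_two_dvd_nat hd
      · rw [hk] at hd
        exact (Nat.prime_dvd_prime_iff_eq hp Nat.prime_two).1 (hp.dvd_of_dvd_pow hd)
    obtain ⟨K, hK⟩ := Cfsg.Agent.Hall.exists_hall ({2}ᶜ : Set ℕ) ↥L
    have hKpi : Cfsg.Agent.Cores.IsPi {2}ᶜ (K.map L.subtype) := Cfsg.Agent.Cores.IsPi.map hK.1 _
    obtain ⟨g, hg⟩ := Cfsg.Agent.Hall.exists_conj_le_hall hHall hKpi
    have hKc : IsMulCommutative K := by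
      have hcomm : ∀ x ∈ MulAut.conj g • C, ∀ y ∈ MulAut.conj g • C, x * y = y * x := by
        intro x hx y hy
        obtain ⟨a, ha, rfl⟩ := hx
        obtain ⟨b, hb, rfl⟩ := hy
        have := congrArg Subtype.val (hC.is_comm.comm (⟨a, ha⟩ : C) ⟨b, hb⟩)
        exact ((map_mul _ a b).symm.trans (congrArg _ this)).trans (map_mul _ b a)
      exact ⟨⟨fun a b => Subtype.ext (Subtype.ext (hcomm _ (hg ⟨_, a.2, rfl⟩) _ (hg ⟨_, b.2, rfl⟩)))⟩⟩
    have hKodd : Odd (Nat.card K) := Nat.odd_iff.2 (Nat.two_dvd_ne_zero.1 fun h2 =>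
      hK.1 2 Nat.prime_two h2 rfl)
    have hKi : ∃ j, K.index = 2 ^ j := ⟨_, Nat.eq_prime_pow_of_unique_prime_dvd
      Subgroup.FiniteIndex.index_ne_zero (fun {d} hd hdvd => by
        by_contra hne
        exact hK.2 d hd hne hdvd)⟩
    obtain ⟨P, hP⟩ := exists_compl K hKodd hKi
    exact ⟨P, K, hKc, hP⟩
  · haveI := hC
    have hDodd : Odd (Nat.card (C.map (QuotientGroup.mk' N))) := by
      refine Odd.of_dvd_nat hodd ?_
      exact Subgroup.card_map_dvd C (QuotientGroup.mk' N)
    obtain ⟨P, hP⟩ := exists_compl _ hDodd (quotient_index C N hk)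
    exact ⟨P, _, inferInstance, hP⟩

end Cfsg.Agent.S3200
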