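import Cfsg.Statements.S3201
import Mathlib
import Cfsg.Agent.InvChar.QuaternionQuot

set_option linter.all false

set_option autoImplicit false
open Cfsg

namespace Cfsg.Agent.S3201

/-- Let S be a finite 2-group whose centre Z(S) has n ≥ 2 distinct maximal subgroups C₁, …, Cₙ with trivial intersection such that each quotient S/Cᵢ is a non-abelian group with exactly one involution (a generalized quaternion group). Then S is the internal direct product of an elementary abelian subgroup and a non-abelian subgroup with exactly one involution. -/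
theorem result {S : Type*} [Group S] [Finite S]
    (hS : IsPGroup 2 S) (n : ℕ) (hn : 2 ≤ n) (C : Fin n → Subgroup ↥(Subgroup.center S))
    (hCmax : ∀ i, IsCoatom (C i)) (hCinj : Function.Injective C) (hCint : ⨅ i, C i = ⊥)
    (hCq : ∀ i, ∃ (_ : ((C i).map (Subgroup.center S).subtype).Normal),
      ¬ IsMulCommutative (S ⧸ (C i).map (Subgroup.center S).subtype) ∧
      ∃! x : S ⧸ (C i).map (Subgroup.center S).subtype, orderOf x = 2) :
    ∃ E Q : Subgroup S, Cfsg.IsInternalDirectProduct E Q ⊤ ∧ Cfsg.IsElementaryAbelian 2 E ∧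
      ¬ IsMulCommutative ↥Q ∧ ∃! x : ↥Q, orderOf x = 2 := by
  classical
  haveI : Fact (Nat.Prime 2) := ⟨Nat.prime_two⟩
  have hdata := fun i => InvChar.QuaternionQuot.quot hS (C i) (hCmax i) (hCq i).1 (hCq i).2.1 (hCq i).2.2
  choose k hk π hπs hker hlift using hdata
  haveI : ∀ i, NeZero (2 ^ k i : ℕ) := fun i => ⟨by positivity⟩
  have h2 : ∀ i, 2 ≤ 2 ^ k i := fun i => Nat.le_self_pow (by have := hk i; omega) 2
  have hker' : ∀ i, (π i).ker ≤ Subgroup.center S := fun i => (hker i).le.trans (Subgroup.map_subtype_le _)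
  have hsep : ∀ s : S, (∀ i, π i s = 1) → s = 1 := by
    intro s hs
    have i₀ : Fin n := ⟨0, by omega⟩
    have hsc : s ∈ Subgroup.center S := hker' i₀ (hs i₀)
    have hm : (⟨s, hsc⟩ : Subgroup.center S) ∈ (⊥ : Subgroup (Subgroup.center S)) := by
      rw [← hCint, Subgroup.mem_iInf]
      intro i
      obtain ⟨w, hw, hwe⟩ := (hker i).le (hs i)
      exact (Subtype.ext hwe : w = ⟨s, hsc⟩) ▸ hw
    exact congrArg Subtype.val (Subgroup.mem_bot.1 hm)
  have hcen : ∀ i, ∀ z ∈ Subgroup.center S, π i z ∈ Subgroup.center (QuaternionGroup (2 ^ k i)) := by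
    intro i z hz
    rw [Subgroup.mem_center_iff]
    intro q
    obtain ⟨t, rfl⟩ := hπs i q
    rw [← map_mul, ← map_mul, Subgroup.mem_center_iff.1 hz t]
  have hee : ∀ i, (QuaternionGroup.a ((2 ^ k i : ℕ) : ZMod (2 * 2 ^ k i)) : QuaternionGroup (2 ^ k i)) *
      QuaternionGroup.a ((2 ^ k i : ℕ) : ZMod (2 * 2 ^ k i)) = 1 := by
    intro i
    rw [QuaternionGroup.a_mul_a, ← Nat.cast_add, ← two_mul, ZMod.natCast_self, QuaternionGroup.a_zero]
  have hel : ∀ z ∈ Subgroup.center S, z * z = 1 := fun z hz => hsep _ fun i => by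
    rw [map_mul]
    rcases InvChar.QuaternionQuot.center_eq (h2 i) (hcen i z hz) with h | h <;> rw [h]
    · rw [one_mul]
    · exact hee i
  set i₀ : Fin n := ⟨0, by omega⟩ with hi₀
  obtain ⟨u, hu⟩ := hπs i₀ (QuaternionGroup.a 1)
  obtain ⟨v, hv⟩ := hπs i₀ (QuaternionGroup.xa 0)
  set N := 2 ^ k i₀ with hNdef
  have huNc : u ^ N ∈ Subgroup.center S := hlift i₀ _ (by
    rw [map_pow, hu, QuaternionGroup.a_one_pow]
    exact InvChar.QuaternionQuot.sq_one_central (h2 i₀) (hee i₀))
  have hvvc : v * v ∈ Subgroup.center S := hlift i₀ _ (by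
    rw [map_mul, hv, QuaternionGroup.xa_mul_xa, add_sub_cancel_right]
    exact InvChar.QuaternionQuot.sq_one_central (h2 i₀) (hee i₀))
  have hdc : v * u * v⁻¹ * u ∈ Subgroup.center S := hker' i₀ (by
    rw [MonoidHom.mem_ker, map_mul, map_mul, map_mul, map_inv, hu, hv, InvChar.QuaternionQuot.conj_rel, inv_mul_cancel])
  have hvn : v ∉ Subgroup.center S := fun h =>
    InvChar.QuaternionQuot.not_central_xa (h2 i₀) 0 (hv ▸ hcen i₀ v h)
  have hvun : v * u ∉ Subgroup.center S := fun h =>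
    InvChar.QuaternionQuot.not_central_xa (h2 i₀) (0 + 1) (by
      have := hcen i₀ _ h
      rwa [map_mul, hu, hv, QuaternionGroup.xa_mul_a] at this)
  have sqe : ∀ i, ∀ s : S, s ∉ Subgroup.center S → s * s ∈ Subgroup.center S →
      π i (s * s) = QuaternionGroup.a ((2 ^ k i : ℕ) : ZMod (2 * 2 ^ k i)) := by
    intro i s hs hss
    rcases InvChar.QuaternionQuot.center_eq (h2 i) (hcen i _ hss) with h | h
    · rw [map_mul] at h
      exact absurd (hlift i s (InvChar.QuaternionQuot.sq_one_central (h2 i) h)) hs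
    · exact h
  have hNhalf : N = 2 ^ (k i₀ - 1) + 2 ^ (k i₀ - 1) := by
    rw [← two_mul, ← pow_succ', hNdef, Nat.sub_add_cancel (hk i₀)]
  have hhalf : u ^ (2 ^ (k i₀ - 1)) ∉ Subgroup.center S := by
    intro h
    have h' := hcen i₀ _ h
    rw [map_pow, hu, QuaternionGroup.a_one_pow] at h'
    rcases InvChar.QuaternionQuot.center_eq (h2 i₀) h' with e | e
    · rw [← QuaternionGroup.a_zero] at e
      have e' : ((2 ^ (k i₀ - 1) : ℕ) : ZMod (2 * 2 ^ k i₀)) = 0 := by injection e
      rw [ZMod.natCast_eq_zero_iff] at e'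
      have := Nat.le_of_dvd (by positivity) e'
      have : 2 ^ (k i₀ - 1) > 0 := by positivity
      omega
    · have e' : ((2 ^ (k i₀ - 1) : ℕ) : ZMod (2 * 2 ^ k i₀)) = ((2 ^ k i₀ : ℕ) : ZMod (2 * 2 ^ k i₀)) := by injection e
      rw [ZMod.natCast_eq_natCast_iff', Nat.mod_eq_of_lt (by have : 2 ^ (k i₀ - 1) > 0 := by positivity
                                                             omega),
        Nat.mod_eq_of_lt (by have : 2 ^ k i₀ > 0 := by positivity
                             omega)] at e'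
      have : 2 ^ (k i₀ - 1) > 0 := by positivity
      omega
  have hb2 : v * v = u ^ N := by
    refine mul_inv_eq_one.1 (hsep _ fun i => ?_)
    rw [map_mul (π i) (v * v) (u ^ N)⁻¹, map_inv, sqe i v hvn hvvc, mul_inv_eq_one, hNhalf, pow_add]
    exact (sqe i _ hhalf (by rw [← pow_add, ← hNhalf]; exact huNc)).symm
  have hconj : v * u * v⁻¹ = u⁻¹ := by
    refine mul_eq_one_iff_eq_inv.1 (hsep _ fun i => ?_)
    have hexp : v * u * (v * u) = (v * u * v⁻¹ * u) * (v * v) := by
      have e : u * (v * v) = (v * v) * u := Subgroup.mem_center_iff.1 hvvc u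
      calc v * u * (v * u) = v * u * v⁻¹ * ((v * v) * u) := by group
        _ = v * u * v⁻¹ * (u * (v * v)) := by rw [e]
        _ = _ := by group
    have hvu2 : v * u * (v * u) ∈ Subgroup.center S := by rw [hexp]; exact Subgroup.mul_mem _ hdc hvvc
    have h3 := sqe i (v * u) hvun hvu2
    rw [hexp, map_mul (π i) (v * u * v⁻¹ * u) (v * v), sqe i v hvn hvvc] at h3
    exact mul_eq_right.1 h3
  set Q := Subgroup.closure ({u, v} : Set S) with hQ
  have huQ : u ∈ Q := Subgroup.subset_closure (Or.inl rfl)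
  have hvQ : v ∈ Q := Subgroup.subset_closure (Or.inr rfl)
  let T : Subgroup S :=
    { carrier := {s | ∃ i : ℤ, s = u ^ i ∨ s = u ^ i * v}
      one_mem' := ⟨0, Or.inl (zpow_zero u).symm⟩
      mul_mem' := by
        have hvi : ∀ j : ℤ, v * u ^ j = u ^ (-j) * v := fun j => by
          rw [← mul_inv_eq_iff_eq_mul, ← conj_zpow, hconj, inv_zpow']
        rintro _ _ ⟨i, rfl | rfl⟩ ⟨j, rfl | rfl⟩
        · exact ⟨i + j, Or.inl (zpow_add u i j).symm⟩
        · exact ⟨i + j, Or.inr (by rw [zpow_add, mul_assoc])⟩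
        · exact ⟨i - j, Or.inr (by rw [mul_assoc, hvi, ← mul_assoc, ← zpow_add, sub_eq_add_neg])⟩
        · refine ⟨i - j + N, Or.inl ?_⟩
          rw [zpow_add, zpow_natCast, ← hb2, sub_eq_add_neg, zpow_add,
            show u ^ i * v * (u ^ j * v) = u ^ i * (v * u ^ j) * v by group, hvi]
          group
      inv_mem' := by
        rintro _ ⟨i, rfl | rfl⟩
        · exact ⟨-i, Or.inl (zpow_neg u i).symm⟩
        · refine ⟨i - N, Or.inr ?_⟩
          refine inv_eq_of_mul_eq_one_right ?_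
          rw [show u ^ i * v * (u ^ (i - (N : ℤ)) * v) = u ^ i * (v * u ^ (i - (N : ℤ)) * v⁻¹) * (v * v) by group,
            ← conj_zpow, hconj, hb2, ← zpow_natCast u N, inv_zpow', ← zpow_add, ← zpow_add]
          rw [show i + -(i - (N : ℤ)) + (N : ℤ) = (N : ℤ) + (N : ℤ) by ring, zpow_add, zpow_natCast]
          exact hel _ huNc }
  have hQT : Q ≤ T := (Subgroup.closure_le _).2 (by
    rintro x (rfl | rfl)
    · exact ⟨1, Or.inl (zpow_one x).symm⟩
    · exact ⟨0, Or.inr (by rw [zpow_zero, one_mul])⟩)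
  have hinj : ∀ s ∈ Q, π i₀ s = 1 → s = 1 := by
    intro s hs h
    obtain ⟨i, rfl | rfl⟩ := hQT hs
    · rw [map_zpow, hu] at h
      rw [← orderOf_dvd_iff_zpow_eq_one, QuaternionGroup.orderOf_a_one] at h
      obtain ⟨c, rfl⟩ := h
      rw [Nat.cast_mul, Nat.cast_ofNat, mul_assoc, zpow_mul, zpow_mul, zpow_natCast]
      rw [zpow_two]
      rw [(Commute.refl u).mul_pow, ← hNdef, hel _ huNc, one_zpow]
    · exfalso
      have hvv : π i₀ v ∈ Subgroup.zpowers (π i₀ u) := by
        rw [map_mul, map_zpow] at h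
        rw [eq_inv_of_mul_eq_one_right h]
        exact Subgroup.inv_mem _ (Subgroup.zpow_mem _ (Subgroup.mem_zpowers _) i)
      rw [hu, hv, ← mem_powers_iff_mem_zpowers] at hvv
      obtain ⟨m, hm⟩ := hvv
      simp only [QuaternionGroup.a_one_pow] at hm
      exact absurd hm (by simp)
  set E := (C i₀).map (Subgroup.center S).subtype with hE
  have hEker : (π i₀).ker = E := hker i₀
  let r : Q →* QuaternionGroup (2 ^ k i₀) := (π i₀).comp Q.subtype
  have hr : Function.Injective r := (injective_iff_map_eq_one r).2 fun s h => Subtype.ext (hinj s s.2 h)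
  have hrs : Function.Surjective r := by
    intro q
    rcases InvChar.QuaternionQuot.eq_pow_or (x := q) with ⟨i, rfl⟩ | ⟨i, rfl⟩
    · refine ⟨⟨u ^ i, Q.pow_mem huQ i⟩, ?_⟩
      show π i₀ (u ^ i) = _
      rw [map_pow, hu]
    · refine ⟨⟨u ^ i * v, Q.mul_mem (Q.pow_mem huQ i) hvQ⟩, ?_⟩
      show π i₀ (u ^ i * v) = _
      rw [map_mul, map_pow, hu, hv]
  refine ⟨E, Q, ⟨le_top, le_top, fun a ha b hb => (Subgroup.mem_center_iff.1 (Subgroup.map_subtype_le _ ha) b).symm,
    ?_, ?_⟩, ⟨⟨⟨fun a b => Subtype.ext (Subgroup.mem_center_iff.1 (Subgroup.map_subtype_le _ b.2) a)⟩⟩,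
      fun a ha => by rw [sq]; exact hel a (Subgroup.map_subtype_le _ ha)⟩, ?_, ?_⟩
  · rw [eq_bot_iff]
    rintro s ⟨hsE, hsQ⟩
    exact Subgroup.mem_bot.2 (hinj s hsQ (hEker.ge hsE))
  · rw [eq_top_iff]
    intro s _
    obtain ⟨q, hq⟩ := hrs (π i₀ s)
    rw [sup_comm]
    rw [show s = (q : S) * ((q : S)⁻¹ * s) by group]
    refine Subgroup.mul_mem_sup q.2 (hEker.le ?_)
    have hq' : π i₀ (q : S) = π i₀ s := hq
    rw [MonoidHom.mem_ker, map_mul, map_inv, hq', inv_mul_cancel]
  · intro hcomm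
    have := hr (a₁ := (⟨u, huQ⟩ * ⟨v, hvQ⟩ : Q)) (a₂ := ⟨v, hvQ⟩ * ⟨u, huQ⟩)
    have h := congrArg r (hcomm.is_comm.comm (⟨u, huQ⟩ : Q) ⟨v, hvQ⟩)
    rw [map_mul, map_mul] at h
    change π i₀ u * π i₀ v = π i₀ v * π i₀ u at h
    rw [hu, hv, QuaternionGroup.a_mul_xa, QuaternionGroup.xa_mul_a] at h
    have h' : (0 : ZMod (2 * 2 ^ k i₀)) - 1 = 0 + 1 := by injection h
    exact InvChar.QuaternionQuot.two_ne_zero' (h2 i₀) (by linear_combination -h')
  · refine ⟨⟨u ^ N, Q.pow_mem huQ N⟩, ?_, fun x hx => ?_⟩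
    · refine orderOf_eq_prime (Subtype.ext (by
        show (u ^ N) ^ 2 = 1
        rw [sq]; exact hel _ huNc)) ?_
      intro h
      have h' := congrArg (π i₀) (congrArg Subtype.val h)
      rw [Subgroup.coe_one, map_one] at h'
      simp only [map_pow, hu, QuaternionGroup.a_one_pow, ← QuaternionGroup.a_zero] at h'
      have e' : ((2 ^ k i₀ : ℕ) : ZMod (2 * 2 ^ k i₀)) = 0 := by injection h'
      rw [ZMod.natCast_eq_zero_iff] at e'
      have := Nat.le_of_dvd (by positivity) e'
      have : 0 < 2 ^ k i₀ := by positivity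
      omega
    · have hxx : r x * r x = 1 := by
        have h := pow_orderOf_eq_one x
        rw [hx] at h
        rw [← map_mul, ← sq, h, map_one]
      refine hr ?_
      show r x = π i₀ (u ^ N)
      rw [map_pow, hu, QuaternionGroup.a_one_pow]
      rcases InvChar.QuaternionQuot.center_eq (h2 i₀) (InvChar.QuaternionQuot.sq_one_central (h2 i₀) hxx) with h | h
      · rw [← map_one r] at h
        rw [hr h, orderOf_one] at hx
        omega
      · exact h

end Cfsg.Agent.S3201
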