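import Cfsg.Statements.S3202
import Mathlib
import Cfsg.Agent.InvChar.QuaternionQuot

set_option linter.all false
open scoped commutatorElement

set_option autoImplicit false
open Cfsg

namespace Cfsg.Agent.S3202

/-- Let S be a finite 2-group of 2-rank exactly 2 and D a maximal subgroup of the centre of S such that S/D is a non-abelian group with exactly one involution (a generalized quaternion group). Then S has a nontrivial cyclic characteristic subgroup. -/
theorem result {S : Type*} [Group S]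
    [Finite S] (hS : IsPGroup 2 S) (hr2 : Cfsg.PRankLE 2 2 S) (hr1 : ¬ Cfsg.PRankLE 2 1 S)
    (D : Subgroup ↥(Subgroup.center S)) (hD : IsCoatom D)
    (hq : ∃ (_ : (D.map (Subgroup.center S).subtype).Normal),
      ¬ IsMulCommutative (S ⧸ D.map (Subgroup.center S).subtype) ∧
      ∃! x : S ⧸ D.map (Subgroup.center S).subtype, orderOf x = 2) :
    ∃ C : Subgroup S, C ≠ ⊥ ∧ IsCyclic ↥C ∧ C.Characteristic := by
  haveI : Fact (Nat.Prime 2) := ⟨Nat.prime_two⟩
  obtain ⟨hn, hab, huniq⟩ := hq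
  obtain ⟨k, hk, π, hπs, hker, hlift⟩ := InvChar.QuaternionQuot.quot hS D hD hn hab huniq
  have hker' : π.ker ≤ Subgroup.center S := hker.le.trans (Subgroup.map_subtype_le D)
  obtain ⟨u, hu⟩ := hπs (QuaternionGroup.a 1)
  obtain ⟨v, hv⟩ := hπs (QuaternionGroup.xa 0)
  set d := v * u * v⁻¹ * u with hd
  have hdk : d ∈ π.ker := by
    rw [MonoidHom.mem_ker, hd, map_mul, map_mul, map_mul, map_inv, hu, hv, InvChar.QuaternionQuot.conj_rel, inv_mul_cancel]
  have hdc := Subgroup.mem_center_iff.1 (hker' hdk)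
  set c := v * u * v⁻¹ * u⁻¹ with hc
  have hvu : v * u * v⁻¹ = d * u⁻¹ := by rw [hd, mul_inv_cancel_right]
  have hcd : c = d * u⁻¹ * u⁻¹ := by rw [hc, hvu]
  clear_value d c
  have huc : u * c = c * u := by
    rw [hcd, ← mul_assoc, ← mul_assoc, hdc u]; group
  have hvc : v * c * v⁻¹ = c⁻¹ := by
    calc v * c * v⁻¹ = (v * d * v⁻¹) * (v * u * v⁻¹)⁻¹ * (v * u * v⁻¹)⁻¹ := by rw [hcd]; group
      _ = d * (d * u⁻¹)⁻¹ * (d * u⁻¹)⁻¹ := by rw [hvu, hdc v, mul_inv_cancel_right]
      _ = (d * u) * d⁻¹ * u * d⁻¹ := by group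
      _ = (u * d) * d⁻¹ * u * d⁻¹ := by rw [hdc u]
      _ = u * u * d⁻¹ := by rw [mul_inv_cancel_right]
      _ = c⁻¹ := by rw [hcd]; simp [mul_assoc]
  set K := Subgroup.zpowers c with hK
  have hN : ∀ s : S, s * c * s⁻¹ ∈ K := by
    intro s
    have hup : ∀ i : ℕ, u ^ i * c = c * u ^ i := fun i => ((show Commute u c from huc).pow_left i).eq
    rcases InvChar.QuaternionQuot.decomp hker' hu hv s with ⟨i, z, -, hz, rfl⟩ | ⟨i, z, -, hz, rfl⟩
    · rw [show u ^ i * z * c * (u ^ i * z)⁻¹ = u ^ i * (z * c * z⁻¹) * (u ^ i)⁻¹ by group,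
        ← Subgroup.mem_center_iff.1 hz c, mul_inv_cancel_right, hup i, mul_inv_cancel_right]
      exact Subgroup.mem_zpowers c
    · rw [show u ^ i * v * z * c * (u ^ i * v * z)⁻¹ = u ^ i * (v * (z * c * z⁻¹) * v⁻¹) * (u ^ i)⁻¹ by group,
        ← Subgroup.mem_center_iff.1 hz c, mul_inv_cancel_right, hvc,
        ((show Commute (u ^ i) c from hup i).inv_right).eq, mul_inv_cancel_right]
      exact Subgroup.inv_mem _ (Subgroup.mem_zpowers c)
  have hKn : K.Normal := ⟨fun x hx g => by
    obtain ⟨i, rfl⟩ := hx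
    show g * c ^ i * g⁻¹ ∈ K
    rw [← conj_zpow]
    exact K.zpow_mem (hN g) i⟩
  have huv : Commute (QuotientGroup.mk' K u) (QuotientGroup.mk' K v) := by
    have : QuotientGroup.mk' K c = 1 := (QuotientGroup.eq_one_iff c).2 (Subgroup.mem_zpowers c)
    rw [hc, map_mul, map_mul, map_mul, map_inv, map_inv, mul_inv_eq_one, mul_inv_eq_iff_eq_mul] at this
    exact this.symm
  have hall : ∀ x : S, (∀ y ∈ Subgroup.center S, Commute (QuotientGroup.mk' K x) (QuotientGroup.mk' K y)) ∧
      ∀ w, Commute (QuotientGroup.mk' K w) (QuotientGroup.mk' K u) → Commute (QuotientGroup.mk' K w) (QuotientGroup.mk' K v) →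
        Commute (QuotientGroup.mk' K w) (QuotientGroup.mk' K x) := by
    intro x
    have hcen : ∀ g : S, ∀ y ∈ Subgroup.center S, Commute (QuotientGroup.mk' K g) (QuotientGroup.mk' K y) :=
      fun g y hy => (show Commute g y from Subgroup.mem_center_iff.1 hy g).map _
    refine ⟨hcen x, fun w h1 h2 => ?_⟩
    rcases InvChar.QuaternionQuot.decomp hker' hu hv x with ⟨i, z, -, hz, rfl⟩ | ⟨i, z, -, hz, rfl⟩
    · rw [map_mul, map_pow]; exact (h1.pow_right i).mul_right (hcen w z hz)
    · rw [map_mul, map_mul, map_pow]; exact ((h1.pow_right i).mul_right h2).mul_right (hcen w z hz)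
  have hcomm : commutator S = K := by
    refine le_antisymm ?_ (Subgroup.zpowers_le.2 ?_)
    · rw [commutator_def, Subgroup.commutator_le]
      intro x _ y _
      rw [← QuotientGroup.eq_one_iff]
      show QuotientGroup.mk' K (⁅x, y⁆) = 1
      rw [map_commutatorElement, commutatorElement_eq_one_iff_commute]
      refine (hall y).2 x ?_ ?_
      · exact ((hall x).2 u (Commute.refl _) huv).symm
      · exact ((hall x).2 v huv.symm (Commute.refl _)).symm
    · rw [commutator_def, hc, ← commutatorElement_def]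
      exact Subgroup.commutator_mem_commutator (Subgroup.mem_top v) (Subgroup.mem_top u)
  refine ⟨K, ?_, inferInstance, ?_⟩
  · intro h
    rw [hK, Subgroup.zpowers_eq_bot] at h
    have hπc : π c = (QuaternionGroup.a 1)⁻¹ * (QuaternionGroup.a 1)⁻¹ := by
      rw [hc, map_mul, map_mul, map_mul, map_inv, map_inv, hu, hv, InvChar.QuaternionQuot.conj_rel]
    rw [h, map_one, show ((QuaternionGroup.a 1)⁻¹ : QuaternionGroup (2 ^ k)) = QuaternionGroup.a (-1) from rfl,
      QuaternionGroup.a_mul_a, ← QuaternionGroup.a_zero] at hπc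
    have h' : (0 : ZMod (2 * 2 ^ k)) = -1 + -1 := by injection hπc
    haveI : NeZero (2 ^ k : ℕ) := ⟨by positivity⟩
    refine InvChar.QuaternionQuot.two_ne_zero' (N := 2 ^ k) (Nat.le_self_pow (by omega) 2) ?_
    linear_combination h'
  · rw [← hcomm]; infer_instance

end Cfsg.Agent.S3202
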