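import Cfsg.Statements.S3203
import Mathlib

set_option linter.all false

set_option autoImplicit false
open Cfsg

namespace Cfsg.Agent.S3203

def El {G : Type*} [Group G] (A : Subgroup G) : Prop :=
  (∀ a ∈ A, ∀ b ∈ A, a * b = b * a) ∧ ∀ a ∈ A, a ^ 2 = 1

theorem el_conj {G : Type*} [Group G] {A : Subgroup G} (h : El A) (g : G) :
    El (A.map (MulAut.conj g).toMonoidHom) := by
  constructor
  · rintro _ ⟨a, ha, rfl⟩ _ ⟨b, hb, rfl⟩
    rw [← map_mul, h.1 a ha b hb, map_mul]
  · rintro _ ⟨a, ha, rfl⟩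
    rw [← map_pow, h.2 a ha, map_one]

theorem card_conj {G : Type*} [Group G] (A : Subgroup G) (g : G) :
    Nat.card ↥(A.map (MulAut.conj g).toMonoidHom) = Nat.card A :=
  (Nat.card_congr (A.equivMapOfInjective _ (MulAut.conj g).injective).toEquiv).symm

theorem conj_eq_of_le {G : Type*} [Group G] [Finite G] {A : Subgroup G} {g : G}
    (h : A.map (MulAut.conj g).toMonoidHom ≤ A) : A.map (MulAut.conj g).toMonoidHom = A :=
  Subgroup.eq_of_le_of_card_ge h (card_conj A g).ge

theorem mem_normalizer_of_conj_eq {G : Type*} [Group G] {A : Subgroup G} {g : G}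
    (h : A.map (MulAut.conj g).toMonoidHom = A) : g ∈ Subgroup.normalizer (A : Set G) := by
  rw [Subgroup.mem_normalizer_iff]
  intro x
  constructor
  · intro hx; rw [← h]; exact ⟨x, hx, by simp⟩
  · intro hx
    rw [← h] at hx
    obtain ⟨y, hy, hyx⟩ := hx
    simp only [MulEquiv.coe_toMonoidHom, MulAut.conj_apply] at hyx
    rwa [mul_left_cancel (mul_right_cancel hyx)] at hy

theorem conj_conj {G : Type*} [Group G] (A : Subgroup G) (g h : G) :
    (A.map (MulAut.conj g).toMonoidHom).map (MulAut.conj h).toMonoidHom =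
      A.map (MulAut.conj (h * g)).toMonoidHom := by
  rw [Subgroup.map_map]
  congr 1
  ext x
  simp [mul_assoc]

theorem conj_le_normal {G : Type*} [Group G] {S : Subgroup G} {A : Subgroup G} (hA : A ≤ S) {g : G}
    (hg : g ∈ Subgroup.normalizer (S : Set G)) : A.map (MulAut.conj g).toMonoidHom ≤ S := by
  rintro _ ⟨a, ha, rfl⟩
  exact (Subgroup.mem_normalizer_iff.1 hg a).1 (hA ha)

theorem main {G : Type*} [Group G] [Finite G] (S : Sylow 2 G) (A B : Subgroup G) (hne : A ≠ B)
    (hAS : A ≤ S) (hBS : B ≤ S) (hA : El A) (hB : El B)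
    (hAmax : ∀ C : Subgroup G, C ≤ S → El C → A ≤ C → C = A)
    (hBmax : ∀ C : Subgroup G, C ≤ S → El C → B ≤ C → C = B)
    (hall : ∀ C : Subgroup G, C ≤ S → El C → C ≤ A ∨ C ≤ B)
    (hprod : ∀ s ∈ (S : Subgroup G), ∃ a ∈ A, ∃ b ∈ B, a * b = s) :
    Cfsg.IsWeaklyClosed A (S : Subgroup G) := by
  have hinSN : ∀ a ∈ A, a ∈ Subgroup.normalizer (A : Set G) := fun a ha => Subgroup.le_normalizer ha
  have hSS : ∀ s ∈ (S : Subgroup G), s ∈ Subgroup.normalizer ((S : Subgroup G) : Set G) :=
    fun s hs => Subgroup.le_normalizer hs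
  -- `B` normalises `A`
  have hBN : ∀ b ∈ B, A.map (MulAut.conj b).toMonoidHom = A := by
    intro b hb
    rcases hall _ (conj_le_normal hAS (hSS b (hBS hb))) (el_conj hA b) with h | h
    · exact conj_eq_of_le h
    · exfalso
      apply hne
      refine (hAmax B hBS hB ?_).symm
      intro a ha
      have : b * a * b⁻¹ ∈ B := h ⟨a, ha, by simp⟩
      simpa [mul_assoc] using B.mul_mem (B.mul_mem (B.inv_mem hb) this) hb
  have hSN : (S : Subgroup G) ≤ Subgroup.normalizer (A : Set G) := by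
    intro s hs
    obtain ⟨a, ha, b, hb, rfl⟩ := hprod s hs
    exact Subgroup.mul_mem _ (hinSN a ha) (mem_normalizer_of_conj_eq (hBN b hb))
  -- `A` is self-centralising in `S`
  have hCS : ∀ s ∈ (S : Subgroup G), (∀ a ∈ A, a * s = s * a) → s ∈ A := by
    intro s hs hc
    obtain ⟨a, ha, b, hb, rfl⟩ := hprod s hs
    have hb' : ∀ x ∈ A, x * b = b * x := by
      intro x hx
      have h := hc x hx
      rw [← mul_assoc, hA.1 x hx a ha, mul_assoc, mul_assoc] at h
      exact mul_left_cancel h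
    have hel : El (A ⊔ Subgroup.zpowers b) := by
      have hc' : ∀ u ∈ A ⊔ Subgroup.zpowers b, ∀ v ∈ A ⊔ Subgroup.zpowers b, u * v = v * u := by
        rw [← Subgroup.closure_eq A, Subgroup.zpowers_eq_closure, ← Subgroup.closure_union]
        intro u hu v hv
        refine congrArg Subtype.val ((Subgroup.isMulCommutative_closure ?_).is_comm.comm
          (⟨u, hu⟩ : Subgroup.closure ((A : Set G) ∪ {b})) ⟨v, hv⟩)
        rintro x (hx | rfl) y (hy | rfl)
        · exact hA.1 x hx y hy
        · exact hb' x hx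
        · exact (hb' y hy).symm
        · rfl
      refine ⟨hc', ?_⟩
      intro u hu
      rw [← Subgroup.closure_eq A, Subgroup.zpowers_eq_closure, ← Subgroup.closure_union] at hu
      induction hu using Subgroup.closure_induction with
      | mem x hx =>
        rcases hx with hx | rfl
        · exact hA.2 x hx
        · exact hB.2 _ hb
      | one => exact one_pow 2
      | mul x y hx hy ihx ihy =>
        rw [Subgroup.closure_union, Subgroup.closure_eq, ← Subgroup.zpowers_eq_closure] at hx hy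
        rw [(show Commute x y from hc' x hx y hy).mul_pow, ihx, ihy, one_mul]
      | inv x hx ihx => rw [inv_pow, ihx, inv_one]
    have := hAmax _ (sup_le hAS (Subgroup.zpowers_le.2 (hBS hb))) hel le_sup_left
    exact A.mul_mem ha (this ▸ Subgroup.mem_sup_right (Subgroup.mem_zpowers b))
  refine ⟨hAS, fun g hg => ?_⟩
  rcases hall _ hg (el_conj hA g) with h | h
  · exact conj_eq_of_le h
  exfalso
  -- `B` is the conjugate of `A`
  have hBA : A.map (MulAut.conj g).toMonoidHom = B := by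
    set T := B.map (MulAut.conj g⁻¹).toMonoidHom with hT
    have hTp : IsPGroup 2 T := (S.2.to_le hBS).map _
    have hAT : A ≤ T := by
      intro a ha
      exact ⟨g * a * g⁻¹, h ⟨a, ha, by simp⟩, by simp [mul_assoc]⟩
    have hTN : T ≤ Subgroup.normalizer (A : Set G) := by
      intro t ht
      apply mem_normalizer_of_conj_eq
      apply conj_eq_of_le
      rintro _ ⟨a, ha, rfl⟩
      simp only [MulEquiv.coe_toMonoidHom, MulAut.conj_apply]
      rw [(el_conj hB g⁻¹).1 t ht a (hAT ha), mul_inv_cancel_right]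
      exact ha
    -- conjugate `T` into `S` inside the normaliser of `A`
    obtain ⟨R, hR⟩ := IsPGroup.exists_le_sylow (p := 2)
      (P := T.subgroupOf (Subgroup.normalizer (A : Set G))) hTp.comap_subtype
    obtain ⟨c, hc⟩ := MulAction.exists_smul_eq (Subgroup.normalizer (A : Set G)) R (S.subtype hSN)
    have hTS : T.map (MulAut.conj (c : G)).toMonoidHom ≤ S := by
      rintro _ ⟨t, ht, rfl⟩
      have h2 : (⟨t, hTN ht⟩ : Subgroup.normalizer (A : Set G)) ∈ (R : Subgroup _) := hR ht
      have h3 : c * ⟨t, hTN ht⟩ * c⁻¹ ∈ ((S.subtype hSN : Sylow 2 _) : Subgroup _) := by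
        rw [← hc, Sylow.coe_subgroup_smul]
        exact ⟨_, h2, rfl⟩
      exact h3
    have hAc : A ≤ T.map (MulAut.conj (c : G)).toMonoidHom := by
      intro a ha
      refine ⟨(c : G)⁻¹ * a * c, hAT ?_, by simp [mul_assoc]⟩
      simpa [mul_assoc] using (Subgroup.mem_normalizer_iff.1 ((Subgroup.normalizer _).inv_mem c.2) a).1 ha
    have := hAmax _ hTS (el_conj (el_conj hB g⁻¹) c) hAc
    refine Subgroup.eq_of_le_of_card_ge h ?_
    rw [card_conj, ← this, card_conj, card_conj]
  -- both are normal in `S`; find a swapping element in the normaliser of `S`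
  have hSNB : (S : Subgroup G) ≤ Subgroup.normalizer (B : Set G) := by
    intro s hs
    apply mem_normalizer_of_conj_eq
    rcases hall _ (conj_le_normal hBS (hSS s hs)) (el_conj hB s) with h | h
    · exfalso
      apply hne
      refine hBmax A hAS hA ?_
      intro b hb
      have h2 : s * b * s⁻¹ ∈ A := h ⟨b, hb, by simp⟩
      exact (Subgroup.mem_normalizer_iff.1 (hSN hs) b).2 h2
    · exact conj_eq_of_le h
  set S' := (S : Subgroup G).map (MulAut.conj g).toMonoidHom with hS'
  have hS'N : S' ≤ Subgroup.normalizer (B : Set G) := by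
    rintro _ ⟨s, hs, rfl⟩
    apply mem_normalizer_of_conj_eq
    rw [← hBA, conj_conj]
    have h1 : A.map (MulAut.conj s).toMonoidHom = A := by
      apply conj_eq_of_le
      rintro _ ⟨a, ha, rfl⟩
      exact (Subgroup.mem_normalizer_iff.1 (hSN hs) a).1 ha
    conv_rhs => rw [← h1, conj_conj]
    congr 2
    simp [mul_assoc]
  obtain ⟨n, hn⟩ := MulAction.exists_smul_eq (Subgroup.normalizer (B : Set G))
    (Sylow.subtype (g • S) (by rw [Sylow.coe_subgroup_smul]; exact hS'N)) (S.subtype hSNB)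
  set k := (n : G) * g with hk
  have hkN : k ∈ Subgroup.normalizer ((S : Subgroup G) : Set G) := by
    apply mem_normalizer_of_conj_eq
    refine Subgroup.eq_of_le_of_card_ge ?_ (card_conj _ k).ge
    rintro _ ⟨s, hs, rfl⟩
    have hgs : g * s * g⁻¹ ∈ S' := ⟨s, hs, by simp⟩
    have h3 : n * ⟨g * s * g⁻¹, hS'N hgs⟩ * n⁻¹ ∈ ((S.subtype hSNB : Sylow 2 _) : Subgroup _) := by
      rw [← hn, Sylow.coe_subgroup_smul]
      exact ⟨_, hgs, rfl⟩
    have h4 : (n : G) * (g * s * g⁻¹) * (n : G)⁻¹ ∈ (S : Subgroup G) := h3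
    simpa [hk, mul_assoc] using h4
  have hnB : B.map (MulAut.conj (n : G)).toMonoidHom = B := by
    apply conj_eq_of_le
    rintro _ ⟨b, hb, rfl⟩
    exact (Subgroup.mem_normalizer_iff.1 n.2 b).1 hb
  have hkA : A.map (MulAut.conj k).toMonoidHom = B := by
    rw [hk, ← conj_conj, hBA, hnB]
  have hkB : B.map (MulAut.conj k).toMonoidHom = A := by
    rcases hall _ (conj_le_normal hBS hkN) (el_conj hB k) with h | h
    · refine Subgroup.eq_of_le_of_card_ge h ?_
      rw [card_conj, ← hkA, card_conj]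
    · exfalso
      apply hne
      apply Subgroup.map_injective (f := (MulAut.conj k).toMonoidHom) (MulAut.conj k).injective
      exact hkA.trans (conj_eq_of_le h).symm
  -- odd powers of `k` also swap
  have hodd : ∀ r : ℕ, A.map (MulAut.conj (k ^ (2 * r + 1))).toMonoidHom = B := by
    intro r
    induction r with
    | zero => simpa using hkA
    | succ r ih =>
      rw [show 2 * (r + 1) + 1 = 1 + (1 + (2 * r + 1)) by ring, pow_add, pow_add, pow_one,
        ← conj_conj A (k * k ^ (2 * r + 1)) k, ← conj_conj A (k ^ (2 * r + 1)) k, ih, hkB, hkA]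
  obtain ⟨v, m, hm, hd⟩ := Nat.exists_eq_pow_mul_and_not_dvd (orderOf_pos k).ne' 2 (by norm_num)
  obtain ⟨r, rfl⟩ := Nat.odd_iff.2 (Nat.two_dvd_ne_zero.1 hm)
  have hord : IsPGroup 2 (Subgroup.zpowers (k ^ (2 * r + 1))) := by
    refine IsPGroup.of_card (n := v) ?_
    rw [Nat.card_zpowers, orderOf_pow, hd, Nat.gcd_eq_right (Dvd.intro_left _ rfl),
      Nat.mul_div_cancel _ (by omega)]
  have hkS : k ^ (2 * r + 1) ∈ (S : Subgroup G) := by
    have h := IsPGroup.inf_normalizer_sylow hord S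
    exact (h ▸ Subgroup.mem_inf.2 ⟨Subgroup.mem_zpowers _, Subgroup.pow_mem _ hkN _⟩ :
      k ^ (2 * r + 1) ∈ Subgroup.zpowers (k ^ (2 * r + 1)) ⊓ (S : Subgroup G)).2
  apply hne
  rw [← hodd r]
  refine (conj_eq_of_le ?_).symm
  rintro _ ⟨a, ha, rfl⟩
  exact (Subgroup.mem_normalizer_iff.1 (hSN hkS) a).1 ha

/-- Let S be a Sylow 2-subgroup of a finite group G having exactly two subgroups A ≠ B that are maximal among its elementary abelian subgroups, with S = AB. Then A and B are each weakly closed in S with respect to G, and the normalizer of S normalizes both A and B. -/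
theorem result {G : Type*} [Group G] [Finite G] (S : Sylow 2 G)
    (A B : Subgroup ↥(S : Subgroup G)) (hAB : A ≠ B)
    (hA : Cfsg.IsElementaryAbelian 2 A ∧ ∀ C : Subgroup ↥(S : Subgroup G), Cfsg.IsElementaryAbelian 2 C → A ≤ C → C = A)
    (hB : Cfsg.IsElementaryAbelian 2 B ∧ ∀ C : Subgroup ↥(S : Subgroup G), Cfsg.IsElementaryAbelian 2 C → B ≤ C → C = B)
    (honly : ∀ C : Subgroup ↥(S : Subgroup G), Cfsg.IsElementaryAbelian 2 C →
      (∀ D : Subgroup ↥(S : Subgroup G), Cfsg.IsElementaryAbelian 2 D → C ≤ D → D = C) → C = A ∨ C = B)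
    (hprod : ∀ s : ↥(S : Subgroup G), ∃ a ∈ A, ∃ b ∈ B, a * b = s)
    (A' B' : Subgroup G) (hA' : A' = A.map (S : Subgroup G).subtype) (hB' : B' = B.map (S : Subgroup G).subtype) :
    Cfsg.IsWeaklyClosed A' (S : Subgroup G) ∧ Cfsg.IsWeaklyClosed B' (S : Subgroup G) ∧
      Subgroup.normalizer ((S : Subgroup G) : Set G) ≤ Subgroup.normalizer (A' : Set G) ⊓ Subgroup.normalizer (B' : Set G) := by
  classical
  subst hA' hB'
  have hinj := (S : Subgroup G).subtype_injective
  have hel : ∀ C : Subgroup G, El C → Cfsg.IsElementaryAbelian 2 (C.subgroupOf (S : Subgroup G)) := by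
    intro C hC
    refine ⟨⟨⟨fun x y => ?_⟩⟩, fun a ha => ?_⟩
    · exact Subtype.ext (Subtype.ext (hC.1 _ x.2 _ y.2))
    · exact Subtype.ext (hC.2 _ ha)
  have hel' : ∀ C : Subgroup (S : Subgroup G), Cfsg.IsElementaryAbelian 2 C →
      El (C.map (S : Subgroup G).subtype) := by
    intro C hC
    constructor
    · rintro _ ⟨x, hx, rfl⟩ _ ⟨y, hy, rfl⟩
      exact congrArg (fun u : C => ((u : (S : Subgroup G)) : G)) (hC.1.is_comm.comm ⟨x, hx⟩ ⟨y, hy⟩)
    · rintro _ ⟨x, hx, rfl⟩
      rw [← map_pow, hC.2 x hx, map_one]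
  have hmax : ∀ D : Subgroup (S : Subgroup G), Cfsg.IsElementaryAbelian 2 D →
      (∀ C, Cfsg.IsElementaryAbelian 2 C → D ≤ C → C = D) →
      ∀ C : Subgroup G, C ≤ (S : Subgroup G) → El C → D.map (S : Subgroup G).subtype ≤ C →
        C = D.map (S : Subgroup G).subtype := by
    intro D hD hm C hCS hC hle
    have := hm _ (hel C hC) (Subgroup.map_le_iff_le_comap.1 hle)
    rw [← this, Subgroup.subgroupOf_map_subtype, inf_eq_left.2 hCS]
  have hall : ∀ C : Subgroup G, C ≤ (S : Subgroup G) → El C →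
      C ≤ A.map (S : Subgroup G).subtype ∨ C ≤ B.map (S : Subgroup G).subtype := by
    intro C hCS hC
    obtain ⟨D, hCD, hD⟩ := (Set.toFinite {D : Subgroup (S : Subgroup G) |
      Cfsg.IsElementaryAbelian 2 D}).exists_le_maximal (hel C hC)
    have hDeq : C = (C.subgroupOf (S : Subgroup G)).map (S : Subgroup G).subtype := by
      rw [Subgroup.subgroupOf_map_subtype, inf_eq_left.2 hCS]
    rcases honly D hD.1 (fun E hE hle => le_antisymm (hD.2 hE hle) hle) with h | h
    · left; rw [hDeq]; exact Subgroup.map_mono (h ▸ hCD)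
    · right; rw [hDeq]; exact Subgroup.map_mono (h ▸ hCD)
  have hne : A.map (S : Subgroup G).subtype ≠ B.map (S : Subgroup G).subtype :=
    fun h => hAB (Subgroup.map_injective hinj h)
  have h1 := main S _ _ hne (Subgroup.map_subtype_le _) (Subgroup.map_subtype_le _) (hel' A hA.1)
    (hel' B hB.1) (hmax A hA.1 hA.2) (hmax B hB.1 hB.2) hall (by
      intro s hs
      obtain ⟨a, ha, b, hb, hab⟩ := hprod ⟨s, hs⟩
      exact ⟨_, ⟨a, ha, rfl⟩, _, ⟨b, hb, rfl⟩, congrArg Subtype.val hab⟩)
  have h2 := main S _ _ hne.symm (Subgroup.map_subtype_le _) (Subgroup.map_subtype_le _) (hel' B hB.1)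
    (hel' A hA.1) (hmax B hB.1 hB.2) (hmax A hA.1 hA.2) (fun C h h' => (hall C h h').symm) (by
      intro s hs
      obtain ⟨a, ha, b, hb, hab⟩ := hprod ⟨s, hs⟩⁻¹
      refine ⟨_, ⟨b⁻¹, inv_mem hb, rfl⟩, _, ⟨a⁻¹, inv_mem ha, rfl⟩, ?_⟩
      have h3 : b⁻¹ * a⁻¹ = (⟨s, hs⟩ : (S : Subgroup G)) := by rw [← mul_inv_rev, hab, inv_inv]
      exact congrArg Subtype.val h3)
  refine ⟨h1, h2, fun n hn => ⟨?_, ?_⟩⟩
  · exact mem_normalizer_of_conj_eq (h1.2 n (conj_le_normal (Subgroup.map_subtype_le _) hn))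
  · exact mem_normalizer_of_conj_eq (h2.2 n (conj_le_normal (Subgroup.map_subtype_le _) hn))

end Cfsg.Agent.S3203
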