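import Cfsg.Statements.S3206
import Cfsg.Agent.Lib.JankoReeType.Main
import Cfsg.Agent.Lib.Classical.Linear

set_option autoImplicit false
open Cfsg

namespace Cfsg.Agent.S3206

/-- Let G be a non-abelian finite simple group with abelian Sylow 2-subgroups, and let t be an involution of G whose centralizer is a maximal subgroup of G and is the direct product of the subgroup generated by t with a subgroup E having a normal subgroup isomorphic to PSL(2, q), q odd and greater than 3, with trivial centralizer in E. Then every finite perfect group having a central 2-subgroup with quotient isomorphic to G has that central subgroup trivial (G has no nontrivial perfect central extension by a 2-group), and every automorphism of G of 2-power order that fixes every element of some Sylow 2-subgroup of G is inner. -/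
theorem result {G : Type*} [Group G] [Finite G] [IsSimpleGroup G]
    (hG : ¬ IsMulCommutative G) (hab : ∀ S : Sylow 2 G, IsMulCommutative ↥(S : Subgroup G))
    (t : G) (ht : orderOf t = 2) (hmax : IsCoatom (Subgroup.centralizer ({t} : Set G)))
    (E : Subgroup G) (hE : Cfsg.IsInternalDirectProduct (Subgroup.zpowers t) E (Subgroup.centralizer ({t} : Set G)))
    {F : Type*} [Field F] [Fintype F] (hFo : Odd (Fintype.card F)) (hF3 : 3 < Fintype.card F)
    (N : Subgroup ↥E) [N.Normal] (hN : Nonempty (↥N ≃* Matrix.ProjectiveSpecialLinearGroup (Fin 2) F))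
    (hNc : Subgroup.centralizer (N : Set ↥E) = ⊥) :
    (∀ (L : Type) (_ : Group L) (_ : Finite L) (Z : Subgroup L) (_ : Z.Normal), commutator L = ⊤ → Z ≤ Subgroup.center L →
        IsPGroup 2 ↥Z → Nonempty (L ⧸ Z ≃* G) → Z = ⊥) ∧
    (∀ (φ : G ≃* G) (k : ℕ), φ ^ (2 ^ k) = 1 → (∃ S : Sylow 2 G, ∀ s ∈ (S : Subgroup G), φ s = s) →
        ∃ g : G, ∀ x : G, φ x = g * x * g⁻¹) := by
  classical
  have hperf : commutator G = ⊤ := by
    rcases (inferInstance : (commutator G).Normal).eq_bot_or_eq_top with hc | hc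
    · exact absurd ⟨⟨fun a b => commutatorElement_eq_one_iff_mul_comm.1 (Subgroup.mem_bot.1
        (hc ▸ Subgroup.commutator_mem_commutator (Subgroup.mem_top a) (Subgroup.mem_top b)))⟩⟩ hG
    · exact hc
  obtain ⟨S₀, i, j, y, h⟩ := JankoReeType.exists_config hab t ht E hE hFo N hN hNc
  refine ⟨fun L _ _ Z _ hL hZ hZ2 he => h.multiplier hperf Z hL hZ hZ2 he.some, ?_⟩
  have hnc : ¬ IsMulCommutative (N.map E.subtype) := fun hc => by
    rcases h.N_cent i (h.N_le h.i_N) (fun n hn => congrArg Subtype.val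
      (hc.is_comm.comm (⟨i, h.i_N⟩ : N.map E.subtype) ⟨n, hn⟩)) with hi | hi
    · exact h.i_ne hi
    · exact h.indep i (Or.inr (Or.inl rfl)) hi
  haveI : IsSimpleGroup (Matrix.ProjectiveSpecialLinearGroup (Fin 2) F) :=
    Classical.Linear.isSimpleGroup_PSL_fin le_rfl fun _ => by omega
  obtain ⟨e⟩ := hN
  have : IsSimpleGroup (N.map E.subtype) :=
    ((N.equivMapOfInjective E.subtype E.subtype_injective).symm.trans e).isSimpleGroup
  intro φ k hk ⟨S, hS⟩
  obtain ⟨g, hg⟩ := MulAction.exists_smul_eq G S S₀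
  obtain ⟨a, ha⟩ := h.inner hperf hmax hnc this
    (MulAut.conj g * (φ : MulAut G) * (MulAut.conj g)⁻¹) (k := k)
    (by rw [conj_pow, show (φ : MulAut G) ^ (2 ^ k) = 1 from hk, mul_one, mul_inv_cancel])
    (fun s hs => by
      rw [← hg, Sylow.coe_subgroup_smul, Subgroup.mem_pointwise_smul_iff_inv_smul_mem] at hs
      have hs' : g⁻¹ * s * g ∈ (S : Subgroup G) := by simpa [MulAut.smul_def] using hs
      have hfix : φ (g⁻¹ * s * g) = g⁻¹ * s * g := hS _ hs'
      show g * φ ((MulAut.conj g)⁻¹ s) * g⁻¹ = s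
      rw [MulAut.conj_inv_apply, hfix]
      group)
  refine ⟨g⁻¹ * a * g, fun x => ?_⟩
  have hx : g * φ ((MulAut.conj g)⁻¹ (g * x * g⁻¹)) * g⁻¹ = a * (g * x * g⁻¹) * a⁻¹ :=
    congrArg (fun γ : MulAut G => γ (g * x * g⁻¹)) ha
  rw [MulAut.conj_inv_apply, show g⁻¹ * (g * x * g⁻¹) * g = x by group] at hx
  calc φ x = g⁻¹ * (g * φ x * g⁻¹) * g := by group
    _ = _ := by rw [hx]; group

end Cfsg.Agent.S3206
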