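import Cfsg.Statements.S3209
import Mathlib
import Cfsg.Agent.Lib.GL2.Classes
import Cfsg.Agent.Lib.Classical.SylowSL2

set_option linter.all false

set_option autoImplicit false
open Cfsg

namespace Cfsg.Agent.S3209

open Matrix in
theorem conj_of_sq {F : Type*} [Field F] [Fintype F] (hF : Odd (Fintype.card F))
    (g h : Matrix.SpecialLinearGroup (Fin 2) F) (hg : (g * g).1 = -1) (hh : (h * h).1 = -1) : IsConj g h := by
  have h2 := Classical.SylowSL2.two_ne_zero_of_odd hF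
  have tr : ∀ k : Matrix.SpecialLinearGroup (Fin 2) F, (k * k).1 = -1 →
      k.1.trace = 0 ∧ ¬ GL2.Classes.IsScalar k.1 := by
    intro k hk
    have hd : k.1 0 0 * k.1 1 1 - k.1 0 1 * k.1 1 0 = 1 := by rw [← det_fin_two]; exact k.2
    have h00 := congrFun (congrFun hk 0) 0
    have h11 := congrFun (congrFun hk 1) 1
    simp [Matrix.mul_apply, Fin.sum_univ_two] at h00 h11
    have h0 : k.1 0 0 + k.1 1 1 = 0 :=
      (pow_eq_zero_iff two_ne_zero).1 (by linear_combination h00 + h11 + 2 * hd : (k.1 0 0 + k.1 1 1) ^ 2 = 0)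
    refine ⟨by rw [trace_fin_two]; exact h0, fun hs => ?_⟩
    obtain ⟨hb, hc, he⟩ := (GL2.Classes.isScalar_iff _).1 hs
    rw [hb, hc, ← he] at hd
    rw [← he] at h0
    have hz : k.1 0 0 = 0 := (mul_eq_zero.1 (by linear_combination h0 : (2 : F) * k.1 0 0 = 0)).resolve_left h2
    rw [hz] at hd
    simp at hd
  obtain ⟨t1, s1⟩ := tr g hg
  obtain ⟨t2, s2⟩ := tr h hh
  refine GL2.Classes.isConj_SL_of_surjective s1 s2 (t1.trans t2.symm) fun c hc => ?_
  obtain ⟨a, b, hab⟩ := FiniteField.exists_root_sum_quadratic (f := (Polynomial.X ^ 2 : Polynomial F))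
    (g := (Polynomial.X ^ 2 - Polynomial.C c)) (Polynomial.degree_X_pow 2)
    (Polynomial.degree_X_pow_sub_C (by decide) _) (Nat.odd_iff.1 hF)
  refine ⟨(a, b), ?_⟩
  simp at hab
  simp [GL2.Classes.normForm, t1]
  linear_combination hab

theorem side {G : Type*} [Group G] {F : Type*} [Field F] [Fintype F] (hF : Odd (Fintype.card F))
    {L : Subgroup G} (e : ↥L ≃* Matrix.SpecialLinearGroup (Fin 2) F) {j : G} (hjL : j ∈ L) (hj : orderOf j = 2) :
    (∀ a ∈ L, a * a = 1 → a = 1 ∨ a = j) ∧ (∃ a ∈ L, a * a = j) ∧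
      ∀ a ∈ L, ∀ b ∈ L, a * a = j → b * b = j → ∃ c ∈ L, c * a * c⁻¹ = b := by
  have h2 := Classical.SylowSL2.two_ne_zero_of_odd hF
  have hj1 : j ≠ 1 := fun h => by simp [h] at hj
  have hj2 : j * j = 1 := by rw [← sq, ← hj, pow_orderOf_eq_one]
  have hej : (e ⟨j, hjL⟩).1 = -1 := Classical.SylowSL2.eq_neg_one_of_sq h2 _
    (by rw [ne_eq, map_eq_one_iff _ e.injective]; exact fun h => hj1 (congrArg Subtype.val h))
    (by rw [← map_mul, map_eq_one_iff _ e.injective]; exact Subtype.ext hj2)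
  have sqj : ∀ a : L, (a : G) * a = j → (e a * e a).1 = -1 := fun a ha => by
    rw [← map_mul, show a * a = ⟨j, hjL⟩ from Subtype.ext ha, hej]
  refine ⟨fun a ha haa => ?_, ?_, fun a ha b hb haa hbb => ?_⟩
  · by_cases h1 : a = 1
    · exact Or.inl h1
    · refine Or.inr (congrArg Subtype.val (e.injective (Subtype.ext ((Classical.SylowSL2.eq_neg_one_of_sq h2 _
        ?_ ?_).trans hej.symm)) : (⟨a, ha⟩ : L) = ⟨j, hjL⟩))
      · rw [ne_eq, map_eq_one_iff _ e.injective]; exact fun h => h1 (congrArg Subtype.val h)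
      · rw [← map_mul, map_eq_one_iff _ e.injective]; exact Subtype.ext haa
  · set w : Matrix.SpecialLinearGroup (Fin 2) F := ⟨!![0, 1; -1, 0], by simp [Matrix.det_fin_two]⟩ with hw
    have hw2 : w * w = e ⟨j, hjL⟩ := by
      refine Subtype.ext ?_
      rw [hej, Matrix.SpecialLinearGroup.coe_mul, hw]
      ext i k; fin_cases i <;> fin_cases k <;> simp
    refine ⟨e.symm w, (e.symm w).2, ?_⟩
    have := congrArg Subtype.val (congrArg e.symm hw2)
    simpa using this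
  · obtain ⟨c, hc⟩ := isConj_iff.1 (conj_of_sq hF _ _ (sqj ⟨a, ha⟩ haa) (sqj ⟨b, hb⟩ hbb))
    refine ⟨e.symm c, (e.symm c).2, ?_⟩
    have h3 := congrArg e.symm hc
    simp at h3
    have h4 := congrArg Subtype.val h3
    simpa using h4

/-- Let L₁ ≅ SL₂(q₁) and L₂ ≅ SL₂(q₂), q₁ and q₂ odd, be elementwise-commuting subgroups of a finite group meeting in ⟨j⟩ for an involution j. Then L₁L₂ has exactly two conjugacy classes of involutions: the central involution j, and one further class (there is an involution x ≠ j in L₁L₂, and every involution of L₁L₂ other than j is conjugate to x by an element of L₁L₂). -/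
theorem result {G : Type*} [Group G] [Finite G]
    {F₁ : Type*} [Field F₁] [Fintype F₁] {F₂ : Type*} [Field F₂] [Fintype F₂]
    (hF₁ : Odd (Fintype.card F₁)) (hF₂ : Odd (Fintype.card F₂)) (L₁ L₂ : Subgroup G)
    (e₁ : ↥L₁ ≃* Matrix.SpecialLinearGroup (Fin 2) F₁) (e₂ : ↥L₂ ≃* Matrix.SpecialLinearGroup (Fin 2) F₂)
    (hc : ∀ x ∈ L₁, ∀ y ∈ L₂, x * y = y * x) (j : G) (hj : orderOf j = 2) (hm : L₁ ⊓ L₂ = Subgroup.zpowers j) :
    ∃ x ∈ L₁ ⊔ L₂, orderOf x = 2 ∧ x ≠ j ∧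
      ∀ y ∈ L₁ ⊔ L₂, orderOf y = 2 → y = j ∨ ∃ g ∈ L₁ ⊔ L₂, g * x * g⁻¹ = y := by
  have hjm : j ∈ L₁ ⊓ L₂ := hm ▸ Subgroup.mem_zpowers j
  obtain ⟨u1, ⟨a0, ha0, ha0'⟩, c1⟩ := side hF₁ e₁ hjm.1 hj
  obtain ⟨u2, ⟨b0, hb0, hb0'⟩, c2⟩ := side hF₂ e₂ hjm.2 hj
  have hj2 : j * j = 1 := by rw [← sq, ← hj, pow_orderOf_eq_one]
  have hj1 : j ≠ 1 := fun h => by simp [h] at hj
  have hsq : ∀ a ∈ L₁, ∀ b ∈ L₂, (a * b) * (a * b) = (a * a) * (b * b) := fun a ha b hb => by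
    rw [mul_assoc, ← mul_assoc b a b, ← hc a ha b hb]; simp only [mul_assoc]
  have hmem : ∀ a ∈ L₁, a ∈ L₂ → a = 1 ∨ a = j := fun a h1 h2 => by
    have : a ∈ Subgroup.zpowers j := hm ▸ (⟨h1, h2⟩ : a ∈ L₁ ⊓ L₂)
    obtain ⟨i, rfl⟩ := this
    rcases Int.even_or_odd i with ⟨m, rfl⟩ | ⟨m, rfl⟩
    · left
      show j ^ (m + m) = 1
      rw [← two_mul, zpow_mul, zpow_ofNat, sq, hj2, one_zpow]
    · right
      show j ^ (2 * m + 1) = j
      rw [zpow_add, zpow_mul, zpow_ofNat, sq, hj2, one_zpow, one_mul, zpow_one]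
  set x := a0 * b0 with hx
  have hxm : x ∈ L₁ ⊔ L₂ := Subgroup.mul_mem_sup ha0 hb0
  have hxj : x ≠ j ∧ x ≠ 1 := by
    have key : ∀ k ∈ L₁, x = k → False := fun k hk e => by
      have hb : b0 ∈ L₁ := by
        rw [show b0 = a0⁻¹ * k by rw [← e, hx]; group]
        exact L₁.mul_mem (L₁.inv_mem ha0) hk
      rcases hmem b0 hb hb0 with rfl | h
      · exact hj1 (by rw [← hb0', one_mul])
      · rw [h, hj2] at hb0'; exact hj1 hb0'.symm
    exact ⟨key j hjm.1, key 1 L₁.one_mem⟩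
  refine ⟨x, hxm, ?_, hxj.1, fun y hy hyo => ?_⟩
  · refine orderOf_eq_prime_iff.2 ⟨?_, hxj.2⟩
    rw [sq, hx, hsq a0 ha0 b0 hb0, ha0', hb0', hj2]
  · rw [← SetLike.mem_coe, Subgroup.coe_mul_of_left_le_normalizer_right L₁ L₂ (fun a ha =>
      Subgroup.centralizer_le_normalizer _ (fun b hb => (hc a ha b hb).symm))] at hy
    obtain ⟨a, ha, b, hb, rfl⟩ := hy
    have hy2 : (a * b) * (a * b) = 1 := by rw [← sq, ← hyo, pow_orderOf_eq_one]
    rw [hsq a ha b hb] at hy2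
    have haa : a * a ∈ L₂ := by
      rw [show a * a = (b * b)⁻¹ from eq_inv_of_mul_eq_one_left hy2]
      exact L₂.inv_mem (L₂.mul_mem hb hb)
    rcases hmem _ (L₁.mul_mem ha ha) haa with h | h
    · rw [h, one_mul] at hy2
      rcases u1 a ha h with h3 | h3 <;> rcases u2 b hb hy2 with h4 | h4 <;> subst h3 <;> subst h4
      all_goals first
        | (simp at hyo; done)
        | (left; simp; done)
        | (simp [hj2] at hyo)
    · have hbb : b * b = j := by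
        rw [h] at hy2
        rw [eq_inv_of_mul_eq_one_right hy2, inv_eq_of_mul_eq_one_right hj2]
      right
      obtain ⟨c, hc1, hca⟩ := c1 a0 ha0 a ha ha0' h
      obtain ⟨d, hd1, hdb⟩ := c2 b0 hb0 b hb hb0' hbb
      refine ⟨c * d, Subgroup.mul_mem_sup hc1 hd1, ?_⟩
      show c * d * (a0 * b0) * (c * d)⁻¹ = a * b
      rw [← hca, ← hdb]
      calc c * d * (a0 * b0) * (c * d)⁻¹ = c * (d * a0) * (b0 * d⁻¹) * c⁻¹ := by group
        _ = c * (a0 * d) * (b0 * d⁻¹) * c⁻¹ := by rw [hc a0 ha0 d hd1]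
        _ = c * a0 * ((d * b0 * d⁻¹) * c⁻¹) := by group
        _ = c * a0 * (c⁻¹ * (d * b0 * d⁻¹)) := by
          rw [← hc c⁻¹ (L₁.inv_mem hc1) (d * b0 * d⁻¹) (L₂.mul_mem (L₂.mul_mem hd1 hb0) (L₂.inv_mem hd1))]
        _ = _ := by group

end Cfsg.Agent.S3209
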