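import Cfsg.Statements.S3210
import Mathlib
import Cfsg.Agent.Lib.GL2.Classes
import Cfsg.Agent.Lib.Classical.SylowSL2
import Cfsg.Agent.Lib.Classical.GL2

set_option linter.all false

set_option autoImplicit false
open Cfsg

namespace Cfsg.Agent.S3210

open scoped commutatorElement

section SL
variable {F : Type*} [Field F] [Fintype F]

local notation "SLt" => Matrix.SpecialLinearGroup (Fin 2) F

theorem mem_center_of_scalar {g : SLt} (h : GL2.Classes.IsScalar g.1) : g ∈ Subgroup.center SLt :=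
  Subgroup.mem_center_iff.2 fun x => Subtype.ext (h.commute x.1)

theorem center_cases {g : SLt} (h : g ∈ Subgroup.center SLt) : g.1 = 1 ∨ g.1 = -1 := by
  obtain ⟨r, hr, hr'⟩ := Matrix.SpecialLinearGroup.mem_center_iff.1 h
  simp at hr
  rcases hr with rfl | rfl
  · left; rw [← hr']; simp
  · right; rw [← hr']; ext i k; fin_cases i <;> fin_cases k <;> simp

open Matrix in
theorem center_of_comm (hF : Odd (Fintype.card F)) {g : SLt}
    (h : ∀ x : SLt, ⁅g, x⁆ ∈ Subgroup.center SLt) : g ∈ Subgroup.center SLt := by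
  have h2 := Classical.SylowSL2.two_ne_zero_of_odd hF
  have key : ∀ u : SLt, u.1.trace = 2 → g.1 * u.1 = u.1 * g.1 := by
    intro u hu
    have e : g * u * g⁻¹ = ⁅g, u⁆ * u := by rw [commutatorElement_def]; group
    have ht : (g * u * g⁻¹).1.trace = 2 := by
      rw [Matrix.SpecialLinearGroup.coe_mul, Matrix.SpecialLinearGroup.coe_mul, Matrix.trace_mul_cycle,
        ← Matrix.SpecialLinearGroup.coe_mul g⁻¹ g]
      simpa using hu
    rcases center_cases (h u) with h1 | h1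
    · have : ⁅g, u⁆ = 1 := by apply Subtype.ext; exact h1
      have h3 : g * u = u * g := commutatorElement_eq_one_iff_mul_comm.1 this
      exact congrArg Subtype.val h3
    · rw [e, Matrix.SpecialLinearGroup.coe_mul, h1] at ht
      simp [hu] at ht
      exact absurd (mul_self_eq_zero.1 (by linear_combination -ht : (2 : F) * 2 = 0)) h2
  have k1 := key ⟨!![1, 1; 0, 1], by simp [Matrix.det_fin_two]⟩ (by simp [Matrix.trace_fin_two]; norm_num)
  have k2 := key ⟨!![1, 0; 1, 1], by simp [Matrix.det_fin_two]⟩ (by simp [Matrix.trace_fin_two]; norm_num)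
  refine mem_center_of_scalar ((GL2.Classes.isScalar_iff _).2 ?_)
  have a := congrFun (congrFun k1 0) 0
  have b := congrFun (congrFun k1 0) 1
  have c := congrFun (congrFun k2 0) 0
  simp [Matrix.mul_apply, Fin.sum_univ_two] at a b c
  exact ⟨c, a, by linear_combination b⟩

theorem comm_of_centralizing {h : SLt} (hh : h ∉ Subgroup.center SLt) {x y : SLt}
    (hx : x * h = h * x) (hy : y * h = h * y) : x * y = y * x := by
  have hs : ¬ GL2.Classes.IsScalar h.1 := fun e => hh (mem_center_of_scalar e)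
  obtain ⟨a, b, hab⟩ := (GL2.Classes.commute_iff hs x.1).1 (congrArg Subtype.val hx)
  obtain ⟨c, d, hcd⟩ := (GL2.Classes.commute_iff hs y.1).1 (congrArg Subtype.val hy)
  refine Subtype.ext ?_
  simp only [Matrix.SpecialLinearGroup.coe_mul, hab, hcd, add_mul, mul_add, Matrix.smul_mul, Matrix.mul_smul,
    Matrix.one_mul, Matrix.mul_one, smul_smul, mul_comm a c, mul_comm b c, mul_comm a d, mul_comm b d]
  abel

theorem key_split (hF : Odd (Fintype.card F)) (P Q : Subgroup SLt)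
    (hgen : ∀ x : SLt, ∃ p ∈ P, ∃ q ∈ Q, x = p * q)
    (hcomm : ∀ p ∈ P, ∀ q ∈ Q, ⁅p, q⁆ ∈ Subgroup.center SLt) :
    P ≤ Subgroup.center SLt ∨ Q ≤ Subgroup.center SLt := by
  have low : ∀ (R S : Subgroup SLt), (∀ x : SLt, ∃ r ∈ R, ∃ s ∈ S, x = r * s) →
      (∀ r ∈ R, ∀ s ∈ S, ⁅r, s⁆ ∈ Subgroup.center SLt) →
      (∀ r ∈ R, ∀ r' ∈ R, ⁅r, r'⁆ ∈ Subgroup.center SLt) → R ≤ Subgroup.center SLt := by
    intro R S hg hc ha r hr
    refine center_of_comm hF fun x => ?_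
    obtain ⟨r', hr', s, hs, rfl⟩ := hg x
    rw [show ⁅r, r' * s⁆ = ⁅r, r'⁆ * (r' * ⁅r, s⁆ * r'⁻¹) by simp only [commutatorElement_def]; group]
    exact Subgroup.mul_mem _ (ha r hr r' hr')
      ((inferInstance : (Subgroup.center SLt).Normal).conj_mem _ (hc r hr s hs) r')
  by_cases hP : ∀ p ∈ P, ∀ p' ∈ P, ⁅p, p'⁆ ∈ Subgroup.center SLt
  · exact Or.inl (low P Q hgen hcomm hP)
  right
  push Not at hP
  obtain ⟨p, hp, p', hp', hne⟩ := hP
  have hQh : ∀ q ∈ Q, q * ⁅p, p'⁆ = ⁅p, p'⁆ * q := by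
    intro q hq
    have e : ∀ a ∈ P, q * a * q⁻¹ = ⁅a, q⁆⁻¹ * a := fun a ha => by rw [commutatorElement_def]; group
    have e1 := Subgroup.mem_center_iff.1 (Subgroup.inv_mem _ (hcomm p hp q hq))
    have e2 := Subgroup.mem_center_iff.1 (Subgroup.inv_mem _ (hcomm p' hp' q hq))
    rw [← mul_inv_eq_iff_eq_mul]
    calc q * ⁅p, p'⁆ * q⁻¹ = ⁅q * p * q⁻¹, q * p' * q⁻¹⁆ := by simp only [commutatorElement_def]; group
      _ = ⁅p, p'⁆ := by
        rw [e p hp, e p' hp']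
        set z := ⁅p, q⁆⁻¹
        set w := ⁅p', q⁆⁻¹
        simp only [commutatorElement_def, mul_inv_rev]
        calc z * p * (w * p') * (p⁻¹ * z⁻¹) * (p'⁻¹ * w⁻¹)
            = z * (p * w) * p' * p⁻¹ * (z⁻¹ * p'⁻¹) * w⁻¹ := by group
          _ = z * (w * p) * p' * p⁻¹ * (z⁻¹ * p'⁻¹) * w⁻¹ := by rw [e2 p]
          _ = (z * w) * (p * p' * p⁻¹ * z⁻¹) * p'⁻¹ * w⁻¹ := by group
          _ = (z * w) * (z⁻¹ * (p * p' * p⁻¹)) * p'⁻¹ * w⁻¹ := by
            rw [show p * p' * p⁻¹ * z⁻¹ = z⁻¹ * (p * p' * p⁻¹) from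
              Subgroup.mem_center_iff.1 (Subgroup.inv_mem _ (Subgroup.inv_mem _ (hcomm p hp q hq))) _]
          _ = (z * w * z⁻¹) * (p * p' * p⁻¹ * p'⁻¹ * w⁻¹) := by group
          _ = w * (w⁻¹ * (p * p' * p⁻¹ * p'⁻¹)) := by
            rw [← e1 w, mul_inv_cancel_right,
              Subgroup.mem_center_iff.1 (Subgroup.inv_mem _ (Subgroup.inv_mem _ (hcomm p' hp' q hq))) _]
          _ = p * p' * p⁻¹ * p'⁻¹ := by group
  refine low Q P (fun x => ?_) (fun q hq p hp => ?_) fun q hq q' hq' => ?_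
  · obtain ⟨a, ha, b, hb, hab⟩ := hgen x⁻¹
    exact ⟨b⁻¹, Q.inv_mem hb, a⁻¹, P.inv_mem ha, by rw [← mul_inv_rev, ← hab, inv_inv]⟩
  · rw [← commutatorElement_inv]
    exact Subgroup.inv_mem _ (hcomm p hp q hq)
  · rw [commutatorElement_eq_one_iff_mul_comm.2 (comm_of_centralizing hne (hQh q hq) (hQh q' hq'))]
    exact Subgroup.one_mem _

end SL

theorem split {G : Type*} [Group G] {F : Type*} [Field F] [Fintype F] (hF : Odd (Fintype.card F))
    (L₁ L₂ M₁ M₂ : Subgroup G) (e : ↥L₁ ≃* Matrix.SpecialLinearGroup (Fin 2) F)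
    (hc : ∀ x ∈ L₁, ∀ y ∈ L₂, x * y = y * x) {j : G} (hj : orderOf j = 2) (hm : L₁ ⊓ L₂ = Subgroup.zpowers j)
    (hMc : ∀ x ∈ M₁, ∀ y ∈ M₂, x * y = y * x) (hsup : M₁ ⊔ M₂ = L₁ ⊔ L₂) : M₁ ≤ L₂ ∨ M₂ ≤ L₂ := by
  have h2 := Classical.SylowSL2.two_ne_zero_of_odd hF
  have hj2 : j * j = 1 := by rw [← sq, ← hj, pow_orderOf_eq_one]
  have hjm : j ∈ L₁ ⊓ L₂ := hm ▸ Subgroup.mem_zpowers j
  have hn2 : ∀ m ∈ L₁ ⊔ L₂, ∀ b ∈ L₂, m * b * m⁻¹ ∈ L₂ :=
    Subgroup.le_normalizer_iff.1 (sup_le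
      (le_trans (fun a ha => Subgroup.mem_centralizer_iff.2 fun y hy => (hc a ha y hy).symm)
        (Subgroup.centralizer_le_normalizer _))
      Subgroup.le_normalizer)
  have dec : ∀ m ∈ L₁ ⊔ L₂, ∃ a ∈ L₁, ∃ b ∈ L₂, m = a * b := by
    intro m hm'
    rw [← SetLike.mem_coe, Subgroup.coe_mul_of_left_le_normalizer_right L₁ L₂ (fun a ha =>
      Subgroup.centralizer_le_normalizer _ (fun b hb => (hc a ha b hb).symm))] at hm'
    obtain ⟨a, ha, b, hb, rfl⟩ := hm'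
    exact ⟨a, ha, b, hb, rfl⟩
  have hinf : ∀ a ∈ L₁, a ∈ L₂ → a = 1 ∨ a = j := fun a h1 h2' => by
    have : a ∈ Subgroup.zpowers j := hm ▸ (⟨h1, h2'⟩ : a ∈ L₁ ⊓ L₂)
    obtain ⟨i, rfl⟩ := this
    rcases Int.even_or_odd i with ⟨m, rfl⟩ | ⟨m, rfl⟩
    · left
      show j ^ (m + m) = 1
      rw [← two_mul, zpow_mul, zpow_ofNat, sq, hj2, one_zpow]
    · right
      show j ^ (2 * m + 1) = j
      rw [zpow_add, zpow_mul, zpow_ofNat, sq, hj2, one_zpow, one_mul, zpow_one]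
  have hej : (e ⟨j, hjm.1⟩).1 = -1 := Classical.SylowSL2.eq_neg_one_of_sq h2 _
    (by rw [ne_eq, map_eq_one_iff _ e.injective]; intro h; rw [show j = 1 from congrArg Subtype.val h] at hj; simp at hj)
    (by rw [← map_mul, map_eq_one_iff _ e.injective]; exact Subtype.ext hj2)
  have hcen : ∀ a : L₁, (a : G) ∈ L₂ ↔ e a ∈ Subgroup.center _ := fun a => by
    constructor
    · intro ha
      rcases hinf a a.2 ha with h | h
      · rw [show a = 1 from Subtype.ext h, map_one]; exact Subgroup.one_mem _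
      · rw [show a = ⟨j, hjm.1⟩ from Subtype.ext h]
        exact mem_center_of_scalar ⟨-1, by rw [hej]; simp⟩
    · intro ha
      rcases center_cases ha with h | h
      · have : a = 1 := e.injective (by rw [map_one]; exact Subtype.ext h)
        rw [this]; exact L₂.one_mem
      · have : a = ⟨j, hjm.1⟩ := e.injective (Subtype.ext (h.trans hej.symm))
        rw [this]; exact hjm.2
  let P : Subgroup G → Subgroup (Matrix.SpecialLinearGroup (Fin 2) F) :=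
    fun M => ((M ⊔ L₂).subgroupOf L₁).map e.toMonoidHom
  have hmemP : ∀ M : Subgroup G, M ≤ L₁ ⊔ L₂ → ∀ m ∈ M, ∀ a : L₁, ∀ b ∈ L₂, m = a * b → e a ∈ P M := by
    intro M hM m hmM a b hb hab
    refine ⟨a, ?_, rfl⟩
    show (a : G) ∈ M ⊔ L₂
    rw [show (a : G) = m * b⁻¹ by rw [hab]; group]
    exact Subgroup.mul_mem_sup hmM (L₂.inv_mem hb)
  have hM1 : M₁ ≤ L₁ ⊔ L₂ := hsup ▸ le_sup_left
  have hM2 : M₂ ≤ L₁ ⊔ L₂ := hsup ▸ le_sup_right
  have fin : ∀ M : Subgroup G, M ≤ L₁ ⊔ L₂ → P M ≤ Subgroup.center _ → M ≤ L₂ := by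
    intro M hM hP m hmM
    obtain ⟨a, ha, b, hb, hab⟩ := dec m (hM hmM)
    rw [hab]
    exact L₂.mul_mem ((hcen ⟨a, ha⟩).2 (hP (hmemP M hM m hmM ⟨a, ha⟩ b hb hab))) hb
  refine (key_split hF (P M₁) (P M₂) ?_ ?_).imp (fin M₁ hM1) (fin M₂ hM2)
  · intro x
    have hx : ((e.symm x : L₁) : G) ∈ M₁ ⊔ M₂ := hsup ▸ (Subgroup.mem_sup_left (e.symm x).2)
    rw [← SetLike.mem_coe, Subgroup.coe_mul_of_left_le_normalizer_right M₁ M₂ (fun a ha =>
      Subgroup.centralizer_le_normalizer _ (fun b hb => (hMc a ha b hb).symm))] at hx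
    obtain ⟨m₁, hm1, m₂, hm2, hmm⟩ := hx
    obtain ⟨a₁, ha1, b₁, hb1, h1⟩ := dec m₁ (hM1 hm1)
    obtain ⟨a₂, ha2, b₂, hb2, h2'⟩ := dec m₂ (hM2 hm2)
    set z : G := (a₁ * a₂)⁻¹ * (e.symm x : L₁) with hz
    have hz1 : z ∈ L₁ := L₁.mul_mem (L₁.inv_mem (L₁.mul_mem ha1 ha2)) (e.symm x).2
    have hz2 : z ∈ L₂ := by
      rw [hz, ← hmm, h1, h2', show (a₁ * a₂)⁻¹ * (a₁ * b₁ * (a₂ * b₂)) = a₂⁻¹ * (b₁ * a₂) * b₂ by group,
        ← hc a₂ ha2 b₁ hb1, ← mul_assoc, inv_mul_cancel, one_mul]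
      exact L₂.mul_mem hb1 hb2
    refine ⟨e ⟨a₁, ha1⟩, hmemP _ hM1 m₁ hm1 ⟨a₁, ha1⟩ b₁ hb1 h1, e (⟨a₂, ha2⟩ * ⟨z, hz1⟩),
      hmemP _ hM2 m₂ hm2 (⟨a₂, ha2⟩ * ⟨z, hz1⟩) (z⁻¹ * b₂) (L₂.mul_mem (L₂.inv_mem hz2) hb2)
        (by rw [h2']; simp only [Subgroup.coe_mul]; group), ?_⟩
    rw [← map_mul]
    refine (e.apply_symm_apply x).symm.trans (congrArg e (Subtype.ext ?_))
    simp only [Subgroup.coe_mul, hz]
    group
  · rintro _ ⟨p, hp, rfl⟩ _ ⟨q, hq, rfl⟩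
    simp only [MulEquiv.coe_toMonoidHom, ← map_commutatorElement]
    refine (hcen _).1 ?_
    have hp' : (p : G) ∈ M₁ ⊔ L₂ := hp
    have hq' : (q : G) ∈ M₂ ⊔ L₂ := hq
    have nrm : ∀ M : Subgroup G, M ≤ L₁ ⊔ L₂ → M ≤ Subgroup.normalizer (L₂ : Set G) := fun M hM x hx =>
      (Subgroup.le_normalizer_iff.2 hn2 : L₁ ⊔ L₂ ≤ _) (hM hx)
    rw [← SetLike.mem_coe, Subgroup.coe_mul_of_left_le_normalizer_right M₁ L₂ (nrm M₁ hM1)] at hp'
    rw [← SetLike.mem_coe, Subgroup.coe_mul_of_left_le_normalizer_right M₂ L₂ (nrm M₂ hM2)] at hq'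
    obtain ⟨m₁, hm1, b₁, hb1, hpe⟩ := hp'
    obtain ⟨m₂, hm2, b₂, hb2, hqe⟩ := hq'
    show ⁅(p : G), (q : G)⁆ ∈ L₂
    have hbq : b₁ * (q : G) * b₁⁻¹ = q := by rw [← hc q q.2 b₁ hb1, mul_inv_cancel_right]
    have key : ⁅(p : G), (q : G)⁆ = m₂ * (m₁ * b₂ * m₁⁻¹ * b₂⁻¹) * m₂⁻¹ := by
      rw [commutatorElement_def]
      conv_lhs => rw [← hpe]
      calc m₁ * b₁ * (q : G) * (m₁ * b₁)⁻¹ * (q : G)⁻¹
          = m₁ * (b₁ * q * b₁⁻¹) * m₁⁻¹ * (q : G)⁻¹ := by group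
        _ = m₁ * (m₂ * b₂) * m₁⁻¹ * (m₂ * b₂)⁻¹ := by rw [hbq, ← hqe]
        _ = (m₁ * m₂) * b₂ * m₁⁻¹ * b₂⁻¹ * m₂⁻¹ := by group
        _ = (m₂ * m₁) * b₂ * m₁⁻¹ * b₂⁻¹ * m₂⁻¹ := by rw [hMc m₁ hm1 m₂ hm2]
        _ = _ := by group
    rw [key]
    exact hn2 m₂ (hM2 hm2) _ (L₂.mul_mem (hn2 m₁ (hM1 hm1) b₂ hb2) (L₂.inv_mem hb2))

theorem natCard_inj {a b : ℕ} (ha : 2 ≤ a) (hb : 2 ≤ b) (h : a * ((a - 1) * (a + 1)) = b * ((b - 1) * (b + 1))) :
    a = b := by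
  rcases lt_trichotomy a b with h1 | h1 | h1
  · exact absurd h (ne_of_lt (Nat.mul_lt_mul_of_lt_of_le h1 (Nat.mul_le_mul (by omega) (by omega)) (by
      exact Nat.mul_pos (by omega) (by omega))))
  · exact h1
  · exact absurd h.symm (ne_of_lt (Nat.mul_lt_mul_of_lt_of_le h1 (Nat.mul_le_mul (by omega) (by omega)) (by
      exact Nat.mul_pos (by omega) (by omega))))

/-- Let G be a finite group with subgroups L₁ ≅ SL₂(q₁) and L₂ ≅ SL₂(q₂), q₁ and q₂ odd prime powers, which commute elementwise and meet in ⟨j⟩ for an involution j, and suppose L₁L₂ has index 2 in C_G(j). Then every element n of C_G(j) outside L₁L₂ either normalizes both L₁ and L₂, or conjugates L₁ onto L₂; in the second case q₁ = q₂ and there is an element n′ of C_G(j) outside L₁L₂ conjugating L₁ onto L₂ with n′² ∈ ⟨j⟩. -/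
theorem result {G : Type*} [Group G] [Finite G]
    {F₁ : Type*} [Field F₁] [Fintype F₁] {F₂ : Type*} [Field F₂] [Fintype F₂]
    (hF₁ : Odd (Fintype.card F₁)) (hF₂ : Odd (Fintype.card F₂)) (L₁ L₂ : Subgroup G)
    (e₁ : ↥L₁ ≃* Matrix.SpecialLinearGroup (Fin 2) F₁) (e₂ : ↥L₂ ≃* Matrix.SpecialLinearGroup (Fin 2) F₂)
    (hc : ∀ x ∈ L₁, ∀ y ∈ L₂, x * y = y * x) (j : G) (hj : orderOf j = 2) (hm : L₁ ⊓ L₂ = Subgroup.zpowers j)
    (hle : L₁ ⊔ L₂ ≤ Subgroup.centralizer ({j} : Set G)) (hi : (L₁ ⊔ L₂).relIndex (Subgroup.centralizer ({j} : Set G)) = 2) (n : G) (hn : n ∈ Subgroup.centralizer ({j} : Set G)) (hn' : n ∉ L₁ ⊔ L₂) :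
    (L₁.map (MulAut.conj n).toMonoidHom = L₁ ∧ L₂.map (MulAut.conj n).toMonoidHom = L₂) ∨
      (L₁.map (MulAut.conj n).toMonoidHom = L₂ ∧ Fintype.card F₁ = Fintype.card F₂ ∧
        ∃ n' ∈ Subgroup.centralizer ({j} : Set G), n' ∉ L₁ ⊔ L₂ ∧ L₁.map (MulAut.conj n').toMonoidHom = L₂ ∧ n' ^ 2 ∈ Subgroup.zpowers j) := by
  have hN : (L₁ ⊔ L₂).map (MulAut.conj n).toMonoidHom = L₁ ⊔ L₂ := by
    have h := Subgroup.normal_of_index_eq_two (H := (L₁ ⊔ L₂).subgroupOf (Subgroup.centralizer ({j} : Set G))) hi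
    exact Subgroup.mem_normalizer_iff_map_conj_eq.1 ((Subgroup.normal_subgroupOf_iff_le_normalizer hle).1 h hn)
  set M₁ := L₁.map (MulAut.conj n).toMonoidHom with hM1
  set M₂ := L₂.map (MulAut.conj n).toMonoidHom with hM2
  have hsup : M₁ ⊔ M₂ = L₁ ⊔ L₂ := by rw [hM1, hM2, ← Subgroup.map_sup, hN]
  have hMc : ∀ x ∈ M₁, ∀ y ∈ M₂, x * y = y * x := by
    rintro _ ⟨a, ha, rfl⟩ _ ⟨b, hb, rfl⟩
    show MulAut.conj n a * MulAut.conj n b = MulAut.conj n b * MulAut.conj n a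
    rw [← map_mul, ← map_mul, hc a ha b hb]
  have hMm : M₁ ⊓ M₂ = Subgroup.zpowers j := by
    rw [hM1, hM2, ← Subgroup.map_inf _ _ _ (MulAut.conj n).injective, hm, MonoidHom.map_zpowers]
    congr 1
    show n * j * n⁻¹ = j
    rw [Subgroup.mem_centralizer_singleton_iff.1 hn, mul_inv_cancel_right]
  have hcard1 : Nat.card M₁ = Nat.card L₁ := Subgroup.card_map_of_injective (MulAut.conj n).injective
  have hcard2 : Nat.card M₂ = Nat.card L₂ := Subgroup.card_map_of_injective (MulAut.conj n).injective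
  have hq1 := Classical.GL2.natCard_SL_two (F := F₁)
  have hq2 := Classical.GL2.natCard_SL_two (F := F₂)
  have hL1 : Nat.card L₁ = Nat.card (Matrix.SpecialLinearGroup (Fin 2) F₁) := Nat.card_congr e₁.toEquiv
  have hL2 : Nat.card L₂ = Nat.card (Matrix.SpecialLinearGroup (Fin 2) F₂) := Nat.card_congr e₂.toEquiv
  have h3 : ∀ {q : ℕ}, 2 ≤ q → 3 ≤ q * ((q - 1) * (q + 1)) := fun {q} hq => by
    have := Nat.mul_le_mul hq (Nat.mul_le_mul (show 1 ≤ q - 1 by omega) (show 3 ≤ q + 1 by omega))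
    omega
  have q1 : 2 ≤ Fintype.card F₁ := Fintype.one_lt_card
  have q2 : 2 ≤ Fintype.card F₂ := Fintype.one_lt_card
  have hbig : ∀ M : Subgroup G, 3 ≤ Nat.card M → M ≤ L₁ → M ≤ L₂ → False := fun M h hA hB => by
    have := Subgroup.card_le_of_le (le_inf hA hB)
    rw [hm, Nat.card_zpowers, hj] at this
    omega
  have eqof : ∀ {A B : Subgroup G}, A ≤ B → Nat.card B ≤ Nat.card A → A = B := fun {A B} h h' =>
    Subgroup.eq_of_le_of_card_ge h h'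
  rcases split hF₁ L₁ L₂ M₁ M₂ e₁ hc hj hm hMc hsup with hA | hA
  · rcases split hF₂ L₂ L₁ M₁ M₂ e₂ (fun x hx y hy => (hc y hy x hx).symm) hj (inf_comm L₂ L₁ ▸ hm) hMc
      (hsup.trans (sup_comm _ _)) with hB | hB
    · exact (hbig M₁ (by rw [hcard1, hL1, hq1]; exact h3 q1) hB hA).elim
    · right
      have l1 := Subgroup.card_le_of_le hA
      have l2 := Subgroup.card_le_of_le hB
      have e1' : M₁ = L₂ := eqof hA (by omega)
      have e2' : M₂ = L₁ := eqof hB (by omega)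
      refine ⟨e1', natCard_inj q1 q2 (by rw [← hq1, ← hq2, ← hL1, ← hL2]; omega), ?_⟩
      have hn2 : n * n ∈ L₁ ⊔ L₂ := by
        have h := Subgroup.mul_self_mem_of_index_two (H := (L₁ ⊔ L₂).subgroupOf (Subgroup.centralizer ({j} : Set G))) hi ⟨n, hn⟩
        exact h
      rw [← SetLike.mem_coe, Subgroup.coe_mul_of_left_le_normalizer_right L₁ L₂ (fun a ha =>
        Subgroup.centralizer_le_normalizer _ (fun b hb => (hc a ha b hb).symm))] at hn2
      obtain ⟨a, ha, b, hb, hab⟩ := hn2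
      simp only at hab
      have haC : n⁻¹ * a * n ∈ L₂ := by
        obtain ⟨x, hx, hxe⟩ : a ∈ M₂ := by rw [e2']; exact ha
        rw [← hxe]
        show n⁻¹ * (n * x * n⁻¹) * n ∈ L₂
        rw [show n⁻¹ * (n * x * n⁻¹) * n = x by group]; exact hx
      have hbC : n⁻¹ * b * n ∈ L₁ := by
        obtain ⟨x, hx, hxe⟩ : b ∈ M₁ := by rw [e1']; exact hb
        rw [← hxe]
        show n⁻¹ * (n * x * n⁻¹) * n ∈ L₁
        rw [show n⁻¹ * (n * x * n⁻¹) * n = x by group]; exact hx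
      refine ⟨n * a⁻¹, Subgroup.mul_mem _ hn (Subgroup.inv_mem _ (hle (Subgroup.mem_sup_left ha))), ?_, ?_, ?_⟩
      · intro h
        have := Subgroup.mul_mem _ h (Subgroup.mem_sup_left (T := L₂) ha)
        rw [inv_mul_cancel_right] at this
        exact hn' this
      · rw [show MulAut.conj (n * a⁻¹) = MulAut.conj n * MulAut.conj a⁻¹ from map_mul _ _ _]
        show L₁.map ((MulAut.conj n).toMonoidHom.comp (MulAut.conj a⁻¹).toMonoidHom) = L₂
        have hh : L₁.map (MulAut.conj a⁻¹).toMonoidHom = L₁ :=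
          Subgroup.mem_normalizer_iff_map_conj_eq.1 (Subgroup.le_normalizer (L₁.inv_mem ha))
        rw [← Subgroup.map_map, hh]
        exact e1'
      · have hz : b * (n⁻¹ * a * n)⁻¹ ∈ L₁ ⊓ L₂ := by
          refine ⟨?_, L₂.mul_mem hb (L₂.inv_mem haC)⟩
          have h1 : n⁻¹ * (a * b) * n = a * b := by rw [hab]; group
          have h2 : b * (n⁻¹ * a * n)⁻¹ = a⁻¹ * (n⁻¹ * b * n) := by
            have h3 : (n⁻¹ * b * n) * (n⁻¹ * a * n) = a * b := by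
              rw [← h1, hc a ha b hb]; group
            calc b * (n⁻¹ * a * n)⁻¹ = a⁻¹ * (a * b) * (n⁻¹ * a * n)⁻¹ := by group
              _ = a⁻¹ * ((n⁻¹ * b * n) * (n⁻¹ * a * n)) * (n⁻¹ * a * n)⁻¹ := by rw [h3]
              _ = _ := by group
          rw [h2]
          exact L₁.mul_mem (L₁.inv_mem ha) hbC
        rw [← hm]
        have h4 : (n * a⁻¹) ^ 2 = b * (n⁻¹ * a * n)⁻¹ := by
          calc (n * a⁻¹) ^ 2 = (n * n) * (n⁻¹ * a * n)⁻¹ * a⁻¹ := by rw [sq]; group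
            _ = a * b * (n⁻¹ * a * n)⁻¹ * a⁻¹ := by rw [hab]
            _ = a * (b * (n⁻¹ * a * n)⁻¹) * a⁻¹ := by group
            _ = (b * (n⁻¹ * a * n)⁻¹) * a * a⁻¹ := by
              rw [hc a ha _ (L₂.mul_mem hb (L₂.inv_mem haC))]
            _ = _ := by group
        rw [h4]
        exact hz
  · left
    rcases split hF₂ L₂ L₁ M₁ M₂ e₂ (fun x hx y hy => (hc y hy x hx).symm) hj (inf_comm L₂ L₁ ▸ hm) hMc
      (hsup.trans (sup_comm _ _)) with hB | hB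
    · exact ⟨eqof hB (by omega), eqof hA (by omega)⟩
    · exact (hbig M₂ (by rw [hcard2, hL2, hq2]; exact h3 q2) hB hA).elim

end Cfsg.Agent.S3210
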