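import Cfsg.Statements.S3211
import Cfsg.Agent.Lib.ZStar.InvariantSylow
import Cfsg.Agent.Lib.Forms.KleinSL2

set_option autoImplicit false
open Cfsg

namespace Cfsg.Agent.S3211

open Cfsg.Agent.Forms.KleinSL2
open scoped MatrixGroups

variable {F : Type*} [Field F] [Fintype F]

theorem two_ne_zero_of_odd (h : Odd (Fintype.card F)) : (2 : F) ≠ 0 := by
  intro h0
  have h2 : ringChar F = 2 := CharP.ringChar_of_prime_eq_zero Nat.prime_two (by exact_mod_cast h0)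
  have := FiniteField.even_card_of_char_two h2
  rw [Nat.odd_iff] at h
  omega

theorem sq_one (h2 : (2 : F) ≠ 0) {x : SL(2, F)} (h : x * x = 1) : x = 1 ∨ x = -1 := by
  have hm : (x : Matrix (Fin 2) (Fin 2) F) * x = 1 := by
    rw [← Matrix.SpecialLinearGroup.coe_mul, h, Matrix.SpecialLinearGroup.coe_one]
  have hd : (x : Matrix (Fin 2) (Fin 2) F) 0 0 * (x : Matrix (Fin 2) (Fin 2) F) 1 1 -
      (x : Matrix (Fin 2) (Fin 2) F) 0 1 * (x : Matrix (Fin 2) (Fin 2) F) 1 0 = 1 := by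
    rw [← Matrix.det_fin_two]; exact x.2
  set M : Matrix (Fin 2) (Fin 2) F := (x : Matrix (Fin 2) (Fin 2) F) with hM
  have h00 := congrFun (congrFun hm 0) 0
  have h01 := congrFun (congrFun hm 0) 1
  have h10 := congrFun (congrFun hm 1) 0
  have h11 := congrFun (congrFun hm 1) 1
  simp [Matrix.mul_apply, Fin.sum_univ_two] at h00 h01 h10 h11
  have hb : M 0 1 = 0 := by
    by_contra hb
    have ht : M 0 0 + M 1 1 = 0 := (mul_eq_zero.1 (by linear_combination h01 : M 0 1 * (M 0 0 + M 1 1) = 0)).resolve_left hb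
    exact h2 (by linear_combination M 0 0 * ht - h00 - hd)
  have hc : M 1 0 = 0 := by
    by_contra hc
    have ht : M 0 0 + M 1 1 = 0 := (mul_eq_zero.1 (by linear_combination h10 : M 1 0 * (M 0 0 + M 1 1) = 0)).resolve_left hc
    exact h2 (by linear_combination M 0 0 * ht - h00 - hd)
  rw [hb] at h00 hd
  have he : M 1 1 = M 0 0 := by linear_combination M 0 0 * hd - M 1 1 * h00
  have hsq : (M 0 0 - 1) * (M 0 0 + 1) = 0 := by linear_combination h00
  rcases mul_eq_zero.1 hsq with h' | h'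
  · left
    apply Subtype.ext
    rw [Matrix.SpecialLinearGroup.coe_one]
    ext i k
    fin_cases i <;> fin_cases k <;> simp [← hM, hb, hc, he, sub_eq_zero.1 h']
  · right
    apply Subtype.ext
    rw [Matrix.SpecialLinearGroup.coe_neg, Matrix.SpecialLinearGroup.coe_one]
    ext i k
    fin_cases i <;> fin_cases k <;> simp [← hM, hb, hc, he, eq_neg_of_add_eq_zero_left h']

/-- The properties of `SL(2, q)` that are needed. -/
structure Like {G : Type*} [Group G] (L : Subgroup G) (j : G) : Prop where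
  mem : j ∈ L
  sq : ∀ x ∈ L, x * x = 1 → x = 1 ∨ x = j
  conj : ∀ a ∈ L, ∀ b ∈ L, a * a = j → b * b = j → ∃ g ∈ L, g * a * g⁻¹ = b
  comm : ∀ a ∈ L, a * a = j → ∀ x ∈ L, ∀ y ∈ L, x * a = a * x → y * a = a * y → x * y = y * x
  anti : ∀ a ∈ L, a * a = j → ∀ x ∈ L, x * a * x⁻¹ = a⁻¹ → x * x = j
  ex : ∃ a ∈ L, a * a = j

theorem like_of_iso (hF : Odd (Fintype.card F)) {G : Type*} [Group G] {L : Subgroup G} {j : G}
    (hjL : j ∈ L) (hj : orderOf j = 2) (e : ↥L ≃* SL(2, F)) : Like L j := by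
  have h2 : (2 : F) ≠ 0 := two_ne_zero_of_odd hF
  have hj2 : j * j = 1 := by rw [← pow_two, ← hj]; exact pow_orderOf_eq_one j
  have hj1 : j ≠ 1 := fun h => by simp [h] at hj
  have ej : e ⟨j, hjL⟩ = -1 := by
    refine (sq_one h2 (by rw [← map_mul]; exact (congrArg e (Subtype.ext hj2)).trans (map_one e))).resolve_left
      fun h => hj1 ?_
    exact congrArg Subtype.val (e.injective (h.trans (map_one e).symm))
  have val : ∀ {x y : ↥L}, e x = e y → (x : G) = y := fun h => congrArg Subtype.val (e.injective h)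
  have sqj : ∀ {a : G} (ha : a ∈ L), a * a = j → e ⟨a, ha⟩ * e ⟨a, ha⟩ = -1 := fun {a} ha h => by
    rw [← map_mul, ← ej]; exact congrArg e (Subtype.ext h)
  refine ⟨hjL, fun x hx h => ?_, fun a ha b hb haa hbb => ?_, fun a ha haa x hx y hy hxa hya => ?_,
    fun a ha haa x hx hxa => ?_, ?_⟩
  · rcases sq_one h2 (x := e ⟨x, hx⟩) (by rw [← map_mul]; exact (congrArg e (Subtype.ext h)).trans (map_one e)) with h' | h'
    · exact Or.inl (val (h'.trans (map_one e).symm))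
    · exact Or.inr (val (h'.trans ej.symm))
  · obtain ⟨g, hg⟩ := exists_conj_j h2 (sqj ha haa)
    obtain ⟨g', hg'⟩ := exists_conj_j h2 (sqj hb hbb)
    refine ⟨(e.symm (g' * g⁻¹) : G), (e.symm _).2, val (x := e.symm (g' * g⁻¹) * ⟨a, ha⟩ * (e.symm (g' * g⁻¹))⁻¹)
      (y := ⟨b, hb⟩) ?_⟩
    rw [map_mul, map_mul, map_inv, e.apply_symm_apply, ← hg, ← hg']
    group
  · obtain ⟨g, hg⟩ := exists_conj_j h2 (sqj ha haa)
    have key : ∀ {z : G} (hz : z ∈ L), z * a = a * z →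
        ((g⁻¹ * e ⟨z, hz⟩ * g : SL(2, F)) : Matrix (Fin 2) (Fin 2) F) * cM 0 1 =
          cM 0 1 * ((g⁻¹ * e ⟨z, hz⟩ * g : SL(2, F)) : Matrix (Fin 2) (Fin 2) F) := fun {z} hz h => by
      have h' : e ⟨z, hz⟩ * e ⟨a, ha⟩ = e ⟨a, ha⟩ * e ⟨z, hz⟩ := by
        rw [← map_mul, ← map_mul]; exact congrArg e (Subtype.ext h)
      rw [← hg] at h'
      have h'' : g⁻¹ * e ⟨z, hz⟩ * g * jSL = jSL * (g⁻¹ * e ⟨z, hz⟩ * g) :=
        calc g⁻¹ * e ⟨z, hz⟩ * g * jSL = g⁻¹ * (e ⟨z, hz⟩ * (g * jSL * g⁻¹)) * g := by group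
          _ = g⁻¹ * (g * jSL * g⁻¹ * e ⟨z, hz⟩) * g := by rw [h']
          _ = _ := by group
      exact congrArg Subtype.val h''
    have gen : ∀ u v : SL(2, F), (u : Matrix (Fin 2) (Fin 2) F) * cM 0 1 = cM 0 1 * (u : Matrix (Fin 2) (Fin 2) F) →
        (v : Matrix (Fin 2) (Fin 2) F) * cM 0 1 = cM 0 1 * (v : Matrix (Fin 2) (Fin 2) F) → u * v = v * u := by
      intro u v hu hv
      apply Subtype.ext
      rw [Matrix.SpecialLinearGroup.coe_mul, Matrix.SpecialLinearGroup.coe_mul, eq_cM_of_comm hu,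
        eq_cM_of_comm hv, cM_mul, cM_mul]
      congr 1 <;> ring
    have hc := gen _ _ (key hx hxa) (key hy hya)
    refine val (x := ⟨x, hx⟩ * ⟨y, hy⟩) (y := ⟨y, hy⟩ * ⟨x, hx⟩) ?_
    rw [map_mul, map_mul]
    calc e ⟨x, hx⟩ * e ⟨y, hy⟩ = g * (g⁻¹ * e ⟨x, hx⟩ * g * (g⁻¹ * e ⟨y, hy⟩ * g)) * g⁻¹ := by group
      _ = g * (g⁻¹ * e ⟨y, hy⟩ * g * (g⁻¹ * e ⟨x, hx⟩ * g)) * g⁻¹ := by rw [hc]
      _ = _ := by group
  · have h' : e ⟨x, hx⟩ * e ⟨a, ha⟩ * (e ⟨x, hx⟩)⁻¹ = (e ⟨a, ha⟩)⁻¹ := by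
      rw [← map_inv, ← map_inv, ← map_mul, ← map_mul]; exact congrArg e (Subtype.ext hxa)
    have hneg : (e ⟨a, ha⟩)⁻¹ = -e ⟨a, ha⟩ := inv_eq_of_mul_eq_one_right (by rw [mul_neg, sqj ha haa, neg_neg])
    rw [hneg, mul_inv_eq_iff_eq_mul, neg_mul] at h'
    have := qpair_sq h2 ⟨⟨e ⟨a, ha⟩, sqj ha haa⟩, ⟨e ⟨x, hx⟩, h'⟩⟩
    exact val (x := ⟨x, hx⟩ * ⟨x, hx⟩) (y := ⟨j, hjL⟩) (by rw [map_mul, ej]; exact this)
  · refine ⟨(e.symm jSL : G), (e.symm _).2, val (x := e.symm jSL * e.symm jSL) (y := ⟨j, hjL⟩) ?_⟩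
    rw [map_mul, e.apply_symm_apply, jSL_sq, ej]

/-- The involution is isolated. -/
theorem isolated {G : Type*} [Group G] [Finite G] (L₁ L₂ : Subgroup G) (j n : G) (hj : orderOf j = 2)
    (hc : ∀ x ∈ L₁, ∀ y ∈ L₂, x * y = y * x) (hm : L₁ ⊓ L₂ = Subgroup.zpowers j)
    (hL₁ : Like L₁ j) (hL₂ : Like L₂ j)
    (hle : L₁ ⊔ L₂ ≤ Subgroup.centralizer ({j} : Set G))
    (hi : (L₁ ⊔ L₂).relIndex (Subgroup.centralizer ({j} : Set G)) = 2)
    (hn : n ∈ Subgroup.centralizer ({j} : Set G)) (hn2 : n ^ 2 = j)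
    (hswap : L₁.map (MulAut.conj n).toMonoidHom = L₂) : Cfsg.IsIsolatedInvolution j := by
  classical
  have hj2 : j * j = 1 := by rw [← pow_two, ← hj]; exact pow_orderOf_eq_one j
  have hj1 : j ≠ 1 := fun h => by simp [h] at hj
  have hjinv : j⁻¹ = j := inv_eq_of_mul_eq_one_right hj2
  have cj : ∀ {x : G}, x ∈ Subgroup.centralizer ({j} : Set G) → x * j = j * x :=
    fun h => Subgroup.mem_centralizer_singleton_iff.1 h
  have c1 : ∀ {x : G}, x ∈ L₁ → x * j = j * x := fun h => cj (hle (le_sup_left (α := Subgroup G) h))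
  have c2 : ∀ {x : G}, x ∈ L₂ → x * j = j * x := fun h => cj (hle (le_sup_right (α := Subgroup G) h))
  have two : ∀ {x : G}, x ∈ L₁ → x ∈ L₂ → x = 1 ∨ x = j := fun {x} h h' => by
    have : x ∈ Subgroup.zpowers j := hm ▸ Subgroup.mem_inf.2 ⟨h, h'⟩
    obtain ⟨k, hk, rfl⟩ := (isOfFinOrder_of_finite j).mem_zpowers_iff_mem_range_orderOf (x := j) |>.1 this |> Finset.mem_image.1
    rw [Finset.mem_range, hj] at hk
    rcases Nat.le_one_iff_eq_zero_or_eq_one.1 (Nat.lt_succ_iff.1 hk) with rfl | rfl <;> simp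
  -- the central product
  have hY : ∀ {y : G}, y ∈ L₁ ⊔ L₂ → ∃ x₁ ∈ L₁, ∃ x₂ ∈ L₂, y = x₁ * x₂ := by
    intro y hy
    rw [Subgroup.sup_eq_closure] at hy
    induction hy using Subgroup.closure_induction with
    | mem y hy =>
      rcases hy with h | h
      · exact ⟨y, h, 1, one_mem _, (mul_one y).symm⟩
      · exact ⟨1, one_mem _, y, h, (one_mul y).symm⟩
    | one => exact ⟨1, one_mem _, 1, one_mem _, (mul_one 1).symm⟩
    | mul y z _ _ ihy ihz =>
      obtain ⟨a, ha, b, hb, rfl⟩ := ihy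
      obtain ⟨c, hc', d, hd, rfl⟩ := ihz
      refine ⟨a * c, mul_mem ha hc', b * d, mul_mem hb hd, ?_⟩
      rw [mul_assoc, ← mul_assoc b, ← hc c hc' b hb, mul_assoc a, mul_assoc c]
    | inv y _ ih =>
      obtain ⟨a, ha, b, hb, rfl⟩ := ih
      exact ⟨a⁻¹, inv_mem ha, b⁻¹, inv_mem hb, by rw [mul_inv_rev, hc _ (inv_mem ha) _ (inv_mem hb)]⟩
  have φ12 : ∀ {x : G}, x ∈ L₁ → n * x * n⁻¹ ∈ L₂ := fun h => hswap ▸ Subgroup.mem_map_of_mem _ h
  have φ21 : ∀ {x : G}, x ∈ L₂ → n * x * n⁻¹ ∈ L₁ := fun {x} h => by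
    obtain ⟨y, hy, rfl⟩ : x ∈ L₁.map (MulAut.conj n).toMonoidHom := hswap.symm ▸ h
    have e : n * (n * y * n⁻¹) * n⁻¹ = y := by
      rw [show n * (n * y * n⁻¹) * n⁻¹ = n * n * y * (n * n)⁻¹ by group, ← pow_two, hn2, ← c1 hy, mul_inv_cancel_right]
    show n * (n * y * n⁻¹) * n⁻¹ ∈ L₁
    rw [e]; exact hy
  have hnY : n ∉ L₁ ⊔ L₂ := fun h => by
    obtain ⟨u, hu, v, hv, rfl⟩ := hY h
    obtain ⟨a, ha, haa⟩ := hL₁.ex
    have h1 := φ12 ha
    have e : u * v * a * (u * v)⁻¹ = u * a * u⁻¹ := by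
      rw [mul_assoc u v a, ← hc a ha v hv]; group
    rw [e] at h1
    rcases two (mul_mem (mul_mem hu ha) (inv_mem hu)) h1 with h' | h'
    · rw [mul_inv_eq_one, mul_eq_left] at h'
      exact hj1 (by rw [← haa, h', mul_one])
    · have : a = j := by
        rw [mul_inv_eq_iff_eq_mul, ← c1 hu] at h'
        exact mul_left_cancel h'
      exact hj1 (by rw [← haa, this, hj2])
  -- involutions commuting with `j`
  have hinvol : ∀ {s : G}, s * j = j * s → s * s = 1 → s ≠ 1 → s ≠ j →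
      ∃ a ∈ L₁, ∃ b ∈ L₂, s = a * b ∧ a * a = j ∧ b * b = j := by
    intro s hsj hss hs1 hs2
    have hsC : s ∈ Subgroup.centralizer ({j} : Set G) := Subgroup.mem_centralizer_singleton_iff.2 hsj
    by_cases hsY : s ∈ L₁ ⊔ L₂
    · obtain ⟨a, ha, b, hb, rfl⟩ := hY hsY
      have e : a * a * (b * b) = 1 := by
        rw [← hss, mul_assoc a b, ← mul_assoc b a, ← hc a ha b hb]
        group
      have hab : a * a = (b * b)⁻¹ := eq_inv_of_mul_eq_one_left e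
      rcases two (mul_mem ha ha) (hab ▸ inv_mem (mul_mem hb hb)) with h | h
      · have hbb : b * b = 1 := by rwa [h, one_mul] at e
        exfalso
        rcases hL₁.sq a ha h with rfl | rfl <;> rcases hL₂.sq b hb hbb with rfl | rfl
        · exact hs1 (one_mul _)
        · exact hs2 (one_mul _)
        · exact hs2 (mul_one _)
        · exact hs1 hj2
      · refine ⟨a, ha, b, hb, rfl, h, ?_⟩
        rw [h] at e
        rw [← hjinv]; exact eq_inv_of_mul_eq_one_right e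
    · exfalso
      set C := Subgroup.centralizer ({j} : Set G)
      have hi2 : ((L₁ ⊔ L₂).subgroupOf C).index = 2 := hi
      have := (Subgroup.mul_mem_iff_of_index_two hi2 (a := ⟨s, hsC⟩) (b := (⟨n, hn⟩ : C)⁻¹)).2
        (iff_of_false (fun h => hsY h) (fun h => hnY (inv_mem_iff.1 h)))
      obtain ⟨x, hx, y, hy, he⟩ := hY (y := s * n⁻¹) this
      have hs : s = x * y * n := by rw [← he, inv_mul_cancel_right]
      have hu : x * (n * y * n⁻¹) ∈ L₁ := mul_mem hx (φ21 hy)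
      have hv : y * (n * x * n⁻¹) ∈ L₂ := mul_mem hy (φ12 hx)
      have e : x * (n * y * n⁻¹) * (y * (n * x * n⁻¹)) * j = 1 := by
        rw [← hss, hs, ← hn2]
        have h1 : n * y * n⁻¹ * (y * (n * x * n⁻¹)) = y * (n * x * n⁻¹) * (n * y * n⁻¹) := hc _ (φ21 hy) _ hv
        rw [mul_assoc x (n * y * n⁻¹), h1]
        group
      have huv : x * (n * y * n⁻¹) * (y * (n * x * n⁻¹)) = j := by
        rw [← hjinv]; exact eq_inv_of_mul_eq_one_left e
      have hu2 : x * (n * y * n⁻¹) ∈ L₂ := by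
        rw [eq_mul_inv_of_mul_eq huv]
        exact mul_mem hL₂.mem (inv_mem hv)
      have hφ : n * (x * (n * y * n⁻¹)) * n⁻¹ = y⁻¹ * (y * (n * x * n⁻¹)) * y := by
        rw [show n * (x * (n * y * n⁻¹)) * n⁻¹ = n * x * n⁻¹ * (n * n * y * (n * n)⁻¹) by group, ← pow_two, hn2,
          ← c2 hy, mul_inv_cancel_right]
        group
      rcases two hu hu2 with h | h
      · rw [h, one_mul] at huv
        rw [h, huv, mul_one, mul_inv_cancel, mul_assoc, ← c2 hy, inv_mul_cancel_left] at hφ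
        exact hj1 hφ.symm
      · rw [h] at huv
        have hv1 : y * (n * x * n⁻¹) = 1 := by simpa using huv
        rw [h, hv1, mul_one, inv_mul_cancel, cj hn, mul_inv_cancel_right] at hφ
        exact hj1 hφ
  refine ⟨hj, fun g hg => ?_⟩
  by_contra hsne
  set s := g * j * g⁻¹ with hs
  have hsj : s * j = j * s := hg.eq.symm
  have hss : s * s = 1 := by rw [hs, conj_mul, hj2]; group
  have hs1 : s ≠ 1 := fun h => hj1 (by simpa [hs] using h)
  obtain ⟨a, ha, b, hb, hab, haa, hbb⟩ := hinvol hsj hss hs1 hsne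
  -- an element interchanging `j` and `s`
  obtain ⟨h, hh1, hh2⟩ : ∃ h : G, h * j * h⁻¹ = s ∧ h * s * h⁻¹ = j := by
    set r := g⁻¹ * j * g with hr
    have hrj : r * j = j * r := by
      have := congrArg (fun z => g⁻¹ * z * g) hsj
      simp only [hs] at this
      calc r * j = g⁻¹ * (j * (g * j * g⁻¹)) * g := by rw [hr]; group
        _ = g⁻¹ * (g * j * g⁻¹ * j) * g := this.symm
        _ = j * r := by rw [hr]; group
    have hrr : r * r = 1 := by
      rw [show r * r = g⁻¹ * (j * j) * g by rw [hr]; group, hj2]; group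
    have hr1 : r ≠ 1 := fun e => hj1 (by rw [show j = g * r * g⁻¹ by rw [hr]; group, e]; group)
    have hrne : r ≠ j := fun e => hsne (by rw [show j = g * r * g⁻¹ by rw [hr]; group, e, ← hs])
    obtain ⟨a', ha', b', hb', hab', haa', hbb'⟩ := hinvol hrj hrr hr1 hrne
    obtain ⟨k₁, hk₁, e₁⟩ := hL₁.conj a' ha' a ha haa' haa
    obtain ⟨k₂, hk₂, e₂⟩ := hL₂.conj b' hb' b hb hbb' hbb
    refine ⟨k₁ * k₂ * g⁻¹, ?_, ?_⟩
    · calc k₁ * k₂ * g⁻¹ * j * (k₁ * k₂ * g⁻¹)⁻¹ = k₁ * k₂ * r * (k₁ * k₂)⁻¹ := by rw [hr]; group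
        _ = k₁ * (k₂ * a') * b' * (k₁ * k₂)⁻¹ := by rw [hab']; group
        _ = k₁ * a' * k₁⁻¹ * (k₁ * (k₂ * b' * k₂⁻¹) * k₁⁻¹) := by rw [← hc a' ha' k₂ hk₂]; group
        _ = s := by rw [e₁, e₂, hc k₁ hk₁ b hb, mul_inv_cancel_right, hab]
    · rw [show k₁ * k₂ * g⁻¹ * s * (k₁ * k₂ * g⁻¹)⁻¹ = k₁ * k₂ * j * (k₁ * k₂)⁻¹ by rw [hs]; group,
        mul_assoc k₁ k₂ j, c2 hk₂, ← mul_assoc, c1 hk₁]
      group
  -- the exponent
  let A : Subgroup G := L₁ ⊓ Subgroup.centralizer ({a} : Set G)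
  have haA : a ∈ A := ⟨ha, Subgroup.mem_centralizer_singleton_iff.2 rfl⟩
  set N := Monoid.exponent A with hN
  have h4 : orderOf a = 4 := by
    refine orderOf_eq_prime_pow (p := 2) (n := 1) ?_ ?_
    · rw [pow_one, pow_two, haa]; exact hj1
    · rw [show (2 : ℕ) ^ (1 + 1) = 2 * 2 by rfl, pow_mul, pow_two, pow_two, haa, hj2]
  have h4N : 4 ∣ N := by rw [← h4, ← Subgroup.orderOf_mk a haA]; exact Monoid.order_dvd_exponent _
  have hN0 : 0 < N := Nat.pos_of_ne_zero Monoid.exponent_ne_zero_of_finite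
  set e := N / 2 with he
  have he2 : e * 2 = N := by omega
  have hepos : 0 < e := by omega
  have heven : 2 ∣ e := by omega
  have pw : ∀ x ∈ A, x ^ N = 1 := fun x hx => congrArg Subtype.val (Monoid.pow_exponent_eq_one (⟨x, hx⟩ : A))
  have pA : ∀ x ∈ A, x ^ e = 1 ∨ x ^ e = j := fun x hx =>
    hL₁.sq _ (pow_mem hx.1 e) (by rw [← pow_two, ← pow_mul, he2, pw x hx])
  obtain ⟨c, hcA, hcj⟩ : ∃ c ∈ A, c ^ e = j := by
    by_contra hne
    push Not at hne
    have : N ∣ e := Monoid.exponent_dvd_of_forall_pow_eq_one fun x =>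
      Subtype.ext ((pA x.1 x.2).resolve_right (hne x.1 x.2))
    have := Nat.le_of_dvd hepos this
    omega
  have pB : ∀ x ∈ L₂, x * b = b * x → x ^ e = 1 ∨ x ^ e = j := by
    intro x hx hxb
    have hbb' : n * b * n⁻¹ * (n * b * n⁻¹) = j := by
      rw [conj_mul, hbb, cj hn, mul_inv_cancel_right]
    obtain ⟨k, hk, hkb⟩ := hL₁.conj _ (φ21 hb) a ha hbb' haa
    have hy : (k * n) * x * (k * n)⁻¹ ∈ A := by
      refine Subgroup.mem_inf.2 ⟨?_, Subgroup.mem_centralizer_singleton_iff.2 ?_⟩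
      · rw [show k * n * x * (k * n)⁻¹ = k * (n * x * n⁻¹) * k⁻¹ by group]
        exact mul_mem (mul_mem hk (φ21 hx)) (inv_mem hk)
      · rw [← hkb]
        calc k * n * x * (k * n)⁻¹ * (k * (n * b * n⁻¹) * k⁻¹) = k * n * (x * b) * (k * n)⁻¹ := by group
          _ = k * n * (b * x) * (k * n)⁻¹ := by rw [hxb]
          _ = _ := by group
    have hkn : (k * n) * j * (k * n)⁻¹ = j := by
      rw [mul_assoc k n j, cj hn, ← mul_assoc, c1 hk]; group
    rcases pA _ hy with h' | h'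
    · left
      rw [conj_pow, mul_inv_eq_one] at h'
      exact mul_eq_left.1 h'
    · right
      rw [conj_pow] at h'
      exact mul_left_cancel (mul_right_cancel (h'.trans hkn.symm))
  -- the subgroup generated by the involutions commuting with `j` and `s`
  let S : Set G := {x | x * x = 1 ∧ x * j = j * x ∧ x * s = s * x}
  have hI : ∀ x ∈ Subgroup.closure S, x ∈ L₁ ⊔ L₂ ∧ x * s = s * x := by
    intro x hx
    have hsub : Subgroup.closure S ≤ (L₁ ⊔ L₂) ⊓ Subgroup.centralizer ({s} : Set G) := by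
      rw [Subgroup.closure_le]
      rintro x ⟨hxx, hxj, hxs⟩
      refine ⟨?_, Subgroup.mem_centralizer_singleton_iff.2 hxs⟩
      by_cases h1 : x = 1
      · rw [h1]; exact one_mem _
      by_cases h2 : x = j
      · rw [h2]; exact Subgroup.mem_sup_left hL₁.mem
      obtain ⟨u, hu, v, hv, rfl, -, -⟩ := hinvol hxj hxx h1 h2
      exact mul_mem (Subgroup.mem_sup_left hu) (Subgroup.mem_sup_right hv)
    exact ⟨(hsub hx).1, Subgroup.mem_centralizer_singleton_iff.1 (hsub hx).2⟩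
  have hIe : ∀ x ∈ Subgroup.closure S, x ^ e = 1 ∨ x ^ e = j := by
    intro x hx
    obtain ⟨hxY, hxs⟩ := hI x hx
    obtain ⟨x₁, h₁, x₂, h₂, rfl⟩ := hY hxY
    have hconj : x₁ * a * x₁⁻¹ * a⁻¹ = b * (x₂ * b * x₂⁻¹)⁻¹ := by
      have e1 : x₁ * x₂ * (a * b) * (x₁ * x₂)⁻¹ = a * b := by
        rw [← hab, hxs, mul_inv_cancel_right]
      have e2 : x₁ * a * x₁⁻¹ * (x₂ * b * x₂⁻¹) = a * b := by
        rw [← e1]
        have f1 := hc a ha x₂ h₂
        have f2 := hc x₁⁻¹ (inv_mem h₁) (x₂ * b * x₂⁻¹) (mul_mem (mul_mem h₂ hb) (inv_mem h₂))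
        calc x₁ * a * x₁⁻¹ * (x₂ * b * x₂⁻¹) = x₁ * a * (x₁⁻¹ * (x₂ * b * x₂⁻¹)) := by group
          _ = x₁ * (a * x₂) * b * x₂⁻¹ * x₁⁻¹ := by rw [f2]; group
          _ = _ := by rw [f1]; group
      have f3 := hc a⁻¹ (inv_mem ha) (x₂ * b * x₂⁻¹)⁻¹ (inv_mem (mul_mem (mul_mem h₂ hb) (inv_mem h₂)))
      rw [eq_mul_inv_of_mul_eq e2, mul_assoc (a * b), ← f3, mul_assoc a b, ← mul_assoc b,
        ← hc a⁻¹ (inv_mem ha) b hb]
      group
    rw [Commute.mul_pow (hc x₁ h₁ x₂ h₂)]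
    rcases two (mul_mem (mul_mem (mul_mem h₁ ha) (inv_mem h₁)) (inv_mem ha))
      (hconj ▸ mul_mem hb (inv_mem (mul_mem (mul_mem h₂ hb) (inv_mem h₂)))) with h' | h'
    · rw [h', eq_mul_inv_iff_mul_eq, one_mul, eq_comm, eq_mul_inv_iff_mul_eq, ← eq_comm] at hconj
      rw [mul_inv_eq_one, mul_inv_eq_iff_eq_mul] at h'
      rcases pA x₁ ⟨h₁, Subgroup.mem_centralizer_singleton_iff.2 h'⟩ with p1 | p1 <;>
        rcases pB x₂ h₂ hconj with p2 | p2 <;> simp [p1, p2, hj2]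
    · rw [h'] at hconj
      have ea : x₁ * a * x₁⁻¹ = a⁻¹ := by
        rw [mul_inv_eq_iff_eq_mul.1 h']
        exact eq_inv_of_mul_eq_one_left (by rw [mul_assoc, haa, hj2])
      have eb : x₂ * b * x₂⁻¹ = b⁻¹ := by
        have hz : x₂ * b * x₂⁻¹ = j⁻¹ * b := eq_inv_mul_of_mul_eq (eq_mul_inv_iff_mul_eq.1 hconj)
        rw [hz, hjinv]
        exact eq_inv_of_mul_eq_one_left (by rw [mul_assoc, hbb, hj2])
      obtain ⟨d, hd⟩ := heven
      rw [hd, pow_mul, pow_mul, pow_two, pow_two, hL₁.anti a ha haa x₁ h₁ ea, hL₂.anti b hb hbb x₂ h₂ eb,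
        ← (Commute.refl j).mul_pow, hj2, one_pow]
      exact Or.inl rfl
  have hcI : c ∈ Subgroup.closure S := by
    have hca : c * a = a * c := Subgroup.mem_centralizer_singleton_iff.1 hcA.2
    obtain ⟨w₁, hw₁, ew₁⟩ := hL₁.conj a ha a⁻¹ (inv_mem ha) haa (by rw [← mul_inv_rev, haa, hjinv])
    obtain ⟨w₂, hw₂, ew₂⟩ := hL₂.conj b hb b⁻¹ (inv_mem hb) hbb (by rw [← mul_inv_rev, hbb, hjinv])
    have hw₂2 := hL₂.anti b hb hbb w₂ hw₂ ew₂
    have key : ∀ u ∈ L₁, u * a * u⁻¹ = a⁻¹ → u * w₂ ∈ S := by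
      intro u hu hua
      refine ⟨?_, ?_, ?_⟩
      · rw [mul_assoc, ← mul_assoc w₂, ← hc u hu w₂ hw₂, mul_assoc u, ← mul_assoc u u, hw₂2,
          hL₁.anti a ha haa u hu hua, hj2]
      · rw [mul_assoc, c2 hw₂, ← mul_assoc, c1 hu, mul_assoc]
      · have hinv : a⁻¹ * b⁻¹ = a * b := by
          have : (a * b) * (a * b) = 1 := by rw [← hab]; exact hss
          rw [← mul_inv_rev, ← hc a ha b hb]
          exact inv_eq_of_mul_eq_one_right this
        have : u * w₂ * (a * b) * (u * w₂)⁻¹ = a⁻¹ * b⁻¹ := by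
          calc u * w₂ * (a * b) * (u * w₂)⁻¹ = u * (w₂ * a) * b * w₂⁻¹ * u⁻¹ := by group
            _ = u * a * u⁻¹ * (u * (w₂ * b * w₂⁻¹) * u⁻¹) := by rw [← hc a ha w₂ hw₂]; group
            _ = a⁻¹ * b⁻¹ := by rw [hua, ew₂, hc u hu b⁻¹ (inv_mem hb), mul_inv_cancel_right]
        rw [hinv] at this
        rw [hab]
        exact mul_inv_eq_iff_eq_mul.1 this
    have k1 := key w₁ hw₁ ew₁
    have k2 := key (c * w₁) (mul_mem hcA.1 hw₁) (by
      calc c * w₁ * a * (c * w₁)⁻¹ = c * (w₁ * a * w₁⁻¹) * c⁻¹ := by group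
        _ = a⁻¹ := by rw [ew₁, (Commute.inv_right (show Commute c a from hca)).eq, mul_inv_cancel_right])
    have hce : c * w₁ * w₂ * (w₁ * w₂) = c := by
      rw [show c * w₁ * w₂ * (w₁ * w₂) = c * ((w₁ * w₂) * (w₁ * w₂)) by group, k1.1, mul_one]
    rw [← hce]
    exact mul_mem (Subgroup.subset_closure k2) (Subgroup.subset_closure k1)
  have hS : ∀ x ∈ Subgroup.closure S, h * x * h⁻¹ ∈ Subgroup.closure S := by
    intro x hx
    have hle' : (Subgroup.closure S).map (MulAut.conj h).toMonoidHom ≤ Subgroup.closure S := by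
      rw [MonoidHom.map_closure, Subgroup.closure_le]
      rintro _ ⟨x, ⟨hxx, hxj, hxs⟩, rfl⟩
      refine Subgroup.subset_closure ⟨?_, ?_, ?_⟩
      · show h * x * h⁻¹ * (h * x * h⁻¹) = 1
        rw [conj_mul, hxx]; group
      · show h * x * h⁻¹ * j = j * (h * x * h⁻¹)
        rw [← hh2, conj_mul, hxs, conj_mul]
      · show h * x * h⁻¹ * s = s * (h * x * h⁻¹)
        rw [← hh1, conj_mul, hxj, conj_mul]
    exact hle' ⟨x, hx, rfl⟩
  have hfin := hIe _ (hS c hcI)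
  rw [conj_pow, hcj, hh1] at hfin
  exact hfin.elim hs1 hsne


/-- Let G be a finite group with subgroups L₁ ≅ SL₂(q₁) and L₂ ≅ SL₂(q₂), q₁ and q₂ odd prime powers, which commute elementwise and meet in ⟨j⟩ for an involution j, and suppose L₁L₂ has index 2 in C_G(j). If some n ∈ C_G(j) with n² = j interchanges L₁ and L₂ under conjugation (so that C_G(j) = L₁L₂⟨n⟩), then G = C_G(j)O(G). -/
theorem result {G : Type*} [Group G] [Finite G]
    {F₁ : Type*} [Field F₁] [Fintype F₁] {F₂ : Type*} [Field F₂] [Fintype F₂]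
    (hF₁ : Odd (Fintype.card F₁)) (hF₂ : Odd (Fintype.card F₂)) (L₁ L₂ : Subgroup G)
    (e₁ : ↥L₁ ≃* Matrix.SpecialLinearGroup (Fin 2) F₁) (e₂ : ↥L₂ ≃* Matrix.SpecialLinearGroup (Fin 2) F₂)
    (hc : ∀ x ∈ L₁, ∀ y ∈ L₂, x * y = y * x) (j : G) (hj : orderOf j = 2) (hm : L₁ ⊓ L₂ = Subgroup.zpowers j)
    (hle : L₁ ⊔ L₂ ≤ Subgroup.centralizer ({j} : Set G)) (hi : (L₁ ⊔ L₂).relIndex (Subgroup.centralizer ({j} : Set G)) = 2) (n : G) (hn : n ∈ Subgroup.centralizer ({j} : Set G))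
    (hn2 : n ^ 2 = j) (hswap : L₁.map (MulAut.conj n).toMonoidHom = L₂) :
    Subgroup.centralizer ({j} : Set G) ⊔ Cfsg.oddCore G = ⊤ := by
  have hjz : j ∈ L₁ ⊓ L₂ := hm ▸ Subgroup.mem_zpowers j
  have hiso := isolated L₁ L₂ j n hj hc hm (like_of_iso hF₁ hjz.1 hj e₁) (like_of_iso hF₂ hjz.2 hj e₂)
    hle hi hn hn2 hswap
  rw [sup_comm]
  exact Cfsg.Agent.ZStar.InvariantSylow.oddCore_sup_centralizer hiso

end Cfsg.Agent.S3211
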