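import Cfsg.Statements.S3213
import Mathlib
import Cfsg.Agent.Lib.GL2.Classes

set_option linter.all false

set_option autoImplicit false
open Cfsg

namespace Cfsg.Agent.S3213

section Source
variable {K : Type*} [Field K] [Fintype K]

theorem char_facts (hK : Fintype.card K = 5) : (5 : K) = 0 ∧ (2 : K) ≠ 0 ∧ (3 : K) ≠ 0 ∧ (4 : K) ≠ 0 := by
  have h5 : (5 : K) = 0 := by
    have := Nat.cast_card_eq_zero K
    rw [hK] at this
    simpa using this
  have h2 : (2 : K) ≠ 0 := fun h => one_ne_zero (α := K) (by linear_combination h5 - 2 * h)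
  exact ⟨h5, h2, fun h => one_ne_zero (α := K) (by linear_combination 2 * h - h5),
    fun h => one_ne_zero (α := K) (by linear_combination h5 - h)⟩

open Matrix in
theorem exists_inverting (hK : Fintype.card K = 5) (x : Matrix.SpecialLinearGroup (Fin 2) K) (hx : orderOf x = 3) :
    ∃ w : Matrix.SpecialLinearGroup (Fin 2) K, w * x = x * x * w ∧ (w * w).1 = -1 := by
  obtain ⟨h5, h2, h3, h4⟩ := char_facts hK
  have hx3 : x * x * x = 1 := by
    have := pow_orderOf_eq_one x
    rw [hx] at this
    rw [← this, pow_succ, pow_succ, pow_one]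
  have hxx : x * x ≠ 1 := fun h => by
    rw [h, one_mul] at hx3
    rw [hx3, orderOf_one] at hx
    omega
  have hxinv : x⁻¹ = x * x := inv_eq_of_mul_eq_one_left hx3
  have ch : ∀ g : Matrix.SpecialLinearGroup (Fin 2) K, g.1 * g.1 = g.1.trace • g.1 - 1 := by
    intro g
    have hd : g.1 0 0 * g.1 1 1 - g.1 0 1 * g.1 1 0 = 1 := by rw [← det_fin_two]; exact g.2
    ext i j
    fin_cases i <;> fin_cases j <;> simp [Matrix.mul_apply, Fin.sum_univ_two, trace_fin_two]
    · linear_combination -hd
    · ring
    · ring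
    · linear_combination -hd
  have hns : ¬ GL2.Classes.IsScalar x.1 := by
    rintro ⟨c, hc⟩
    have hd := x.2
    rw [hc] at hd
    simp [det_fin_two] at hd
    refine hxx (Subtype.ext ?_)
    rw [Matrix.SpecialLinearGroup.coe_mul, hc, smul_mul, Matrix.one_mul, smul_smul]
    rcases hd with rfl | rfl <;> simp
  set t := x.1.trace with ht
  have hM3 : x.1 * x.1 * x.1 = 1 := by
    rw [← Matrix.SpecialLinearGroup.coe_mul, ← Matrix.SpecialLinearGroup.coe_mul, hx3]; rfl
  have hsol := GL2.Classes.comb_injective hns (a₁ := ((-t - 1, t ^ 2 - 1) : K × K)) (a₂ := (0, 0)) (by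
    simp only
    rw [ch x, sub_mul, smul_mul, ch x, Matrix.one_mul, smul_sub, smul_smul, ← ht] at hM3
    rw [zero_smul, zero_smul, add_zero, sub_smul, sub_smul, pow_two, neg_smul, one_smul, one_smul]
    calc -(t • (1 : Matrix (Fin 2) (Fin 2) K)) - 1 + ((t * t) • x.1 - x.1)
        = ((t * t) • x.1 - t • 1 - x.1) - 1 := by abel
      _ = 0 := by rw [hM3, sub_self])
  have ht1 : t = -1 := by
    have := congrArg Prod.fst hsol
    simp at this
    linear_combination -this
  have htinv : (x⁻¹).1.trace = t := by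
    rw [ht, Matrix.SpecialLinearGroup.coe_inv, adjugate_fin_two, trace_fin_two, trace_fin_two]
    simp [add_comm]
  have hns' : ¬ GL2.Classes.IsScalar (x⁻¹).1 := by
    intro h
    refine hns ?_
    obtain ⟨a, b, c⟩ := (GL2.Classes.isScalar_iff _).1 h
    rw [Matrix.SpecialLinearGroup.coe_inv, adjugate_fin_two] at a b c
    simp at a b c
    exact (GL2.Classes.isScalar_iff _).2 ⟨a, b, c.symm⟩
  obtain ⟨w, hw⟩ := isConj_iff.1 (GL2.Classes.isConj_SL_of_surjective hns hns' htinv.symm fun c hc => by
    obtain ⟨a, b, hab⟩ := FiniteField.exists_root_sum_quadratic (f := (Polynomial.X ^ 2 : Polynomial K))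
      (g := Polynomial.C 3 * Polynomial.X ^ 2 + Polynomial.C (-(4 * c))) (Polynomial.degree_X_pow 2)
      (by compute_degree!) (by rw [hK])
    simp at hab
    refine ⟨((a + b) / 2, b), ?_⟩
    simp only [GL2.Classes.normForm, ← ht, ht1, x.2]
    field_simp
    linear_combination hab)
  have hwx : w * x = x * x * w := by rw [← hxinv, ← hw]; group
  refine ⟨w, hwx, ?_⟩
  rw [Matrix.SpecialLinearGroup.coe_mul, ch w]
  by_cases h0 : w.1.trace = 0
  · rw [h0, zero_smul, zero_sub]
  exfalso
  have hc2 : (w * w) * x = x * (w * w) := by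
    have e : w * (x * x) = x * w := by
      rw [← mul_assoc, hwx, mul_assoc, hwx, ← mul_assoc, ← mul_assoc, show x * x * x * x = x by rw [hx3, one_mul]]
    rw [mul_assoc, hwx, ← mul_assoc, e, mul_assoc]
  have h1 : (w.1.trace • w.1 - 1) * x.1 = x.1 * (w.1.trace • w.1 - 1) := by
    rw [← ch w]; exact congrArg Subtype.val hc2
  rw [sub_mul, mul_sub, smul_mul, Matrix.mul_smul, Matrix.one_mul, Matrix.mul_one, sub_left_inj] at h1
  have h2' : w * x = x * w := Subtype.ext (smul_right_injective _ h0 h1)
  rw [hwx] at h2'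
  have h3' : x * x = x := mul_right_cancel h2'
  exact hxx (by rw [show x = 1 from mul_left_cancel (h3'.trans (mul_one x).symm), one_mul])

end Source

section Target
variable {F : Type*} [Field F] [Fintype F] {V : Type*} [AddCommGroup V] [Module F V] [Module.Finite F V]

theorem no_eigen (hF : Fintype.card F = 3) {W f g : Module.End F V} (hW : W * W = -1) (h : W * f = f * g)
    (h1 : Module.finrank F (LinearMap.range f) = 1) : False := by
  obtain ⟨⟨u, hu⟩, hu0, hspan⟩ := finrank_eq_one_iff'.1 h1
  obtain ⟨v, rfl⟩ := hu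
  have hmem : W (f v) ∈ LinearMap.range f := ⟨g v, (LinearMap.congr_fun h v).symm⟩
  obtain ⟨c, hc⟩ := hspan ⟨_, hmem⟩
  have hc' : c • f v = W (f v) := congrArg Subtype.val hc
  have h2 : (c * c) • f v = (-1 : F) • f v := by
    rw [neg_one_smul, mul_smul, hc', ← map_smul, hc']
    simpa using LinearMap.congr_fun hW (f v)
  have h3 : c * c = -1 := smul_left_injective F (fun e => hu0 (Subtype.ext e)) h2
  exact (FiniteField.isSquare_neg_one_iff.1 ⟨c, h3.symm⟩) (by rw [hF])

theorem nilpotent_facts (hF : Fintype.card F = 3) (hV : Module.finrank F V = 4) {T W : Module.End F V}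
    (hT3 : T * T * T = 1) (hT : T ≠ 1) (hW : W * W = -1) (hWT : W * T = T * T * W) :
    (T - 1) * (T - 1) = 0 ∧ Module.finrank F (LinearMap.range (T - 1)) = 2 := by
  set N := T - 1 with hN
  have h3 : ∀ X : Module.End F V, (3 : ℕ) • X = 0 := fun X => by
    rw [← Nat.cast_smul_eq_nsmul F, show ((3 : ℕ) : F) = 0 by rw [← hF]; exact Nat.cast_card_eq_zero F, zero_smul]
  have hN3 : N * N * N = 0 := by
    have e : N * N * N = T * T * T - 1 + (3 : ℕ) • (T - T * T) := by rw [hN]; noncomm_ring
    rw [e, hT3, h3, sub_self, add_zero]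
  have hWN : W * N = N * ((N + 2) * W) := by
    calc W * N = (T * T - 1) * W := by rw [hN, mul_sub, sub_mul, hWT]; simp
      _ = _ := by rw [hN]; noncomm_ring
  have hWN2 : W * (N * N) = (N * N) * W := by
    calc W * (N * N) = (W * N) * N := by rw [mul_assoc]
      _ = N * (N + 2) * (W * N) := by conv_lhs => rw [hWN]
                                      noncomm_ring
      _ = N * (N + 2) * (N * (N + 2)) * W := by rw [hWN]; noncomm_ring
      _ = (N * N * N * N + (4 : ℕ) • (N * N * N) + (3 : ℕ) • (N * N) + N * N) * W := by noncomm_ring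
      _ = _ := by rw [hN3, h3, zero_mul, smul_zero, add_zero, add_zero, zero_add]
  have hr : Module.finrank F (LinearMap.range N) ≤ 3 := by
    by_contra hlt
    have htop : LinearMap.range N = ⊤ := Submodule.eq_top_of_finrank_eq
      (le_antisymm (Submodule.finrank_le _) (by omega))
    have hs : Function.Surjective N := LinearMap.range_eq_top.1 htop
    have : Nontrivial V := Module.nontrivial_of_finrank_eq_succ hV
    obtain ⟨v, hv⟩ := exists_ne (0 : V)
    obtain ⟨a, ha⟩ := hs v
    obtain ⟨b, hb⟩ := hs a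
    obtain ⟨c, hc⟩ := hs b
    apply hv
    rw [← ha, ← hb, ← hc]
    exact LinearMap.congr_fun hN3 c
  have hle : LinearMap.range (N * N) ≤ LinearMap.range N := by
    rintro _ ⟨v, rfl⟩; exact ⟨N v, rfl⟩
  have hrn := LinearMap.finrank_range_add_finrank_ker (N.domRestrict (LinearMap.range N))
  have e1 : LinearMap.range (N.domRestrict (LinearMap.range N)) = LinearMap.range (N * N) := by
    ext v
    constructor
    · rintro ⟨⟨_, a, rfl⟩, rfl⟩; exact ⟨a, rfl⟩
    · rintro ⟨a, rfl⟩; exact ⟨⟨N a, a, rfl⟩, rfl⟩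
  have e2 : (LinearMap.range (N * N)).comap (LinearMap.range N).subtype ≤ LinearMap.ker (N.domRestrict (LinearMap.range N)) := by
    rintro ⟨u, hu⟩ ⟨a, ha⟩
    have ha' : N (N a) = u := ha
    rw [LinearMap.mem_ker]
    show N u = 0
    rw [← ha']
    exact LinearMap.congr_fun hN3 a
  have e3 := Submodule.finrank_mono e2
  rw [(Submodule.comapSubtypeEquivOfLe hle).finrank_eq] at e3
  rw [e1] at hrn
  have hN2 : N * N = 0 := by
    by_contra hne
    have h0 : Module.finrank F (LinearMap.range (N * N)) ≠ 0 := fun h =>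
      hne (LinearMap.range_eq_bot.1 (Submodule.finrank_eq_zero.1 h))
    exact no_eigen hF hW hWN2 (by omega)
  refine ⟨hN2, ?_⟩
  have hle2 : LinearMap.range N ≤ LinearMap.ker N := by
    rintro _ ⟨v, rfl⟩; exact LinearMap.congr_fun hN2 v
  have := Submodule.finrank_mono hle2
  have := LinearMap.finrank_range_add_finrank_ker N
  have h0 : Module.finrank F (LinearMap.range N) ≠ 0 := fun h =>
    hT (sub_eq_zero.1 (LinearMap.range_eq_bot.1 (Submodule.finrank_eq_zero.1 h)))
  have h1 : Module.finrank F (LinearMap.range N) ≠ 1 := fun h => no_eigen hF hW hWN h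
  omega

/-- A group with an element of order 5 acts faithfully in dimension 4 only with central involutions `-1`. -/
theorem central_involution (hF : Fintype.card F = 3) (hV : Module.finrank F V = 4) {G : Type*} [Group G] [Finite G]
    (ρ : G →* Module.End F V) (hρ : Function.Injective ρ) (y z : G) (hy : orderOf y = 5) (hz2 : z * z = 1)
    (hz1 : z ≠ 1) (hzy : z * y = y * z) : ρ z = -1 := by
  haveI : Fact (Nat.Prime 5) := ⟨by norm_num⟩
  have hfix : ∀ S : Submodule F V, Module.finrank F S ≤ 3 → (∀ v ∈ S, ρ y v ∈ S) → ∀ v ∈ S, ρ y v = v := by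
    intro S hS hinv
    have hall : ∀ g ∈ Subgroup.zpowers y, ∀ v ∈ S, ρ g v ∈ S := by
      intro g hg
      rw [← mem_powers_iff_mem_zpowers] at hg
      obtain ⟨k, rfl⟩ := hg
      induction k with
      | zero => intro v hv; simpa using hv
      | succ k ih =>
        intro v hv
        simp only [pow_succ, map_mul, Module.End.mul_apply] at *
        exact ih _ (hinv v hv)
    letI act : MulAction (Subgroup.zpowers y) S :=
      { smul := fun g v => ⟨ρ g v, hall g g.2 v v.2⟩
        one_smul := fun v => Subtype.ext (show ρ (1 : Subgroup.zpowers y) v = v by simp)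
        mul_smul := fun g h v => Subtype.ext (show ρ (g * h : Subgroup.zpowers y) v = ρ g (ρ h v) by simp) }
    have hp : IsPGroup 5 (Subgroup.zpowers y) := IsPGroup.of_card (n := 1) (by rw [Nat.card_zpowers, hy, pow_one])
    have hfin : Finite V := Module.finite_of_finite F
    have hmod := hp.card_modEq_card_fixedPoints (α := S)
    set U : Submodule F S := LinearMap.ker ((ρ y - 1) ∘ₗ S.subtype) with hU
    have hmem : ∀ v : S, v ∈ MulAction.fixedPoints (Subgroup.zpowers y) S ↔ v ∈ U := by
      intro v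
      rw [hU, LinearMap.mem_ker, MulAction.mem_fixedPoints]
      simp only [LinearMap.coe_comp, Function.comp_apply, Submodule.subtype_apply, LinearMap.sub_apply,
        Module.End.one_apply, sub_eq_zero]
      constructor
      · intro h; exact congrArg Subtype.val (h ⟨y, Subgroup.mem_zpowers y⟩)
      · rintro h ⟨g, hg⟩
        rw [← mem_powers_iff_mem_zpowers] at hg
        obtain ⟨k, rfl⟩ := hg
        refine Subtype.ext ?_
        show ρ (y ^ k) v = v
        clear hg
        induction k with
        | zero => simp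
        | succ k ih => rw [pow_succ, map_mul, Module.End.mul_apply, h, ih]
    rw [Nat.card_congr (Equiv.subtypeEquivRight hmem : MulAction.fixedPoints (Subgroup.zpowers y) S ≃ U),
      Module.natCard_eq_pow_finrank (K := F) (V := S), Module.natCard_eq_pow_finrank (K := F) (V := U),
      Nat.card_eq_fintype_card, hF] at hmod
    have hjk := Submodule.finrank_le U
    have hUtop : U = ⊤ := by
      refine Submodule.eq_top_of_finrank_eq ?_
      revert hmod hjk hS
      generalize Module.finrank F U = j
      generalize Module.finrank F S = k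
      intro h1 h2 h3
      interval_cases k <;> interval_cases j <;> simp_all [Nat.ModEq]
    intro v hv
    have := hUtop ▸ (Submodule.mem_top (x := (⟨v, hv⟩ : S)))
    rw [hU, LinearMap.mem_ker] at this
    simpa [sub_eq_zero] using this
  have h3 : (3 : F) = 0 := by simpa [hF] using Nat.cast_card_eq_zero F
  have hZ2 : ∀ v, ρ z (ρ z v) = v := fun v => by
    rw [← Module.End.mul_apply, ← map_mul, hz2, map_one]; rfl
  have hcomm : ∀ v, ρ z (ρ y v) = ρ y (ρ z v) := fun v => by
    rw [← Module.End.mul_apply, ← map_mul, hzy, map_mul]; rfl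
  set Sp := LinearMap.ker (ρ z - 1)
  set Sm := LinearMap.ker (ρ z + 1)
  by_contra hne
  have hp3 : Module.finrank F Sp ≤ 3 := by
    by_contra h
    have htop : Sp = ⊤ := Submodule.eq_top_of_finrank_eq (le_antisymm (Submodule.finrank_le _) (by omega))
    refine hz1 (hρ ?_)
    rw [map_one]
    exact sub_eq_zero.1 (LinearMap.ker_eq_top.1 htop)
  have hm3 : Module.finrank F Sm ≤ 3 := by
    by_contra h
    have htop : Sm = ⊤ := Submodule.eq_top_of_finrank_eq (le_antisymm (Submodule.finrank_le _) (by omega))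
    exact hne (eq_neg_of_add_eq_zero_left (LinearMap.ker_eq_top.1 htop))
  have fp := hfix Sp hp3 (fun v hv => by
    simp only [Sp, LinearMap.mem_ker, LinearMap.sub_apply, Module.End.one_apply, sub_eq_zero] at hv ⊢
    rw [hcomm, hv])
  have fm := hfix Sm hm3 (fun v hv => by
    simp only [Sm, LinearMap.mem_ker, LinearMap.add_apply, Module.End.one_apply, add_eq_zero_iff_eq_neg] at hv ⊢
    rw [hcomm, hv, map_neg])
  have hy1 : ρ y = 1 := by
    refine LinearMap.ext fun v => ?_
    have a1 : v + ρ z v ∈ Sp := by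
      simp only [Sp, LinearMap.mem_ker, LinearMap.sub_apply, Module.End.one_apply, map_add, hZ2]; abel
    have a2 : v - ρ z v ∈ Sm := by
      simp only [Sm, LinearMap.mem_ker, LinearMap.add_apply, Module.End.one_apply, map_sub, hZ2]; abel
    have b1 := fp _ a1
    have b2 := fm _ a2
    have e : v = (2 : F) • (v + ρ z v) + (2 : F) • (v - ρ z v) := by
      rw [← smul_add, show v + ρ z v + (v - ρ z v) = (2 : F) • v by rw [two_smul]; abel, smul_smul,
        show (2 : F) * 2 = 1 by linear_combination h3, one_smul]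
    rw [Module.End.one_apply]
    conv_lhs => rw [e, map_add, map_smul, map_smul, b1, b2]
    exact e.symm
  have := hρ (hy1.trans (map_one ρ).symm)
  rw [this, orderOf_one] at hy
  omega

end Target

/-- Let F be the field with 3 elements and K the field with 5 elements. For every injective homomorphism φ from SL₂(K) into the symplectic group Sp₄(F) (4 × 4 matrices g with g J gᵀ = J for the standard alternating matrix J) and every element x of order 3 of SL₂(K), the vectors of F⁴ fixed by φ(x) form a 2-dimensional subspace that is totally isotropic for the alternating form defined by J. -/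
theorem result {F : Type*} [Field F] [Fintype F] (hF : Fintype.card F = 3)
    {K : Type*} [Field K] [Fintype K] (hK : Fintype.card K = 5)
    (φ : Matrix.SpecialLinearGroup (Fin 2) K →* ↥(Matrix.symplecticGroup (Fin 2) F)) (hφ : Function.Injective φ)
    (x : Matrix.SpecialLinearGroup (Fin 2) K) (hx : orderOf x = 3) :
    Module.finrank F ↥(LinearMap.ker (Matrix.toLin' ((φ x : Matrix (Fin 2 ⊕ Fin 2) (Fin 2 ⊕ Fin 2) F)) - LinearMap.id)) = 2 ∧
      ∀ v w : Fin 2 ⊕ Fin 2 → F, (φ x : Matrix (Fin 2 ⊕ Fin 2) (Fin 2 ⊕ Fin 2) F).mulVec v = v →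
        (φ x : Matrix (Fin 2 ⊕ Fin 2) (Fin 2 ⊕ Fin 2) F).mulVec w = w →
          dotProduct v ((Matrix.J (Fin 2) F).mulVec w) = 0 := by
  obtain ⟨h5, h2, -, -⟩ := char_facts hK
  obtain ⟨w, hwx, hww⟩ := exists_inverting hK x hx
  set z := w * w with hz
  have hz2 : z * z = 1 := Subtype.ext (by rw [Matrix.SpecialLinearGroup.coe_mul, hww]; simp)
  have hz1 : z ≠ 1 := fun h => h2 (by
    rw [h] at hww
    have := congrFun (congrFun hww 0) 0
    simp at this
    linear_combination this)
  let y : Matrix.SpecialLinearGroup (Fin 2) K := ⟨!![1, 1; 0, 1], by simp [Matrix.det_fin_two]⟩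
  have hy : orderOf y = 5 := by
    haveI : Fact (Nat.Prime 5) := ⟨by norm_num⟩
    refine orderOf_eq_prime ?_ ?_
    · refine Subtype.ext ?_
      show (!![1, 1; 0, 1] : Matrix (Fin 2) (Fin 2) K) ^ 5 = 1
      simp only [pow_succ, pow_zero, one_mul]
      ext i j
      fin_cases i <;> fin_cases j <;> simp [Matrix.mul_apply, Fin.sum_univ_two]
      linear_combination h5
    · intro h
      have := congrFun (congrFun (congrArg Subtype.val h) 0) 1
      simp [y] at this
  have hzy : z * y = y * z := Subtype.ext (by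
    show z.1 * y.1 = y.1 * z.1
    rw [hww]; simp)
  set ρ : Matrix.SpecialLinearGroup (Fin 2) K →* Module.End F (Fin 2 ⊕ Fin 2 → F) :=
    ((Matrix.toLinAlgEquiv'.toAlgHom.toMonoidHom).comp (Matrix.symplecticGroup (Fin 2) F).subtype).comp φ with hρdef
  have hρ : Function.Injective ρ := fun a b h =>
    hφ (Subtype.ext (Matrix.toLinAlgEquiv'.injective h))
  have hV : Module.finrank F (Fin 2 ⊕ Fin 2 → F) = 4 := by simp
  have hZ := central_involution hF hV ρ hρ y z hy hz2 hz1 hzy
  have hx3 : x * x * x = 1 := by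
    have := pow_orderOf_eq_one x
    rw [hx] at this
    rw [← this, pow_succ, pow_succ, pow_one]
  have hT : ρ x ≠ 1 := fun h => by
    rw [hρ (h.trans (map_one ρ).symm), orderOf_one] at hx
    omega
  obtain ⟨hN2, hr⟩ := nilpotent_facts hF hV (T := ρ x) (W := ρ w) (by rw [← map_mul, ← map_mul, hx3, map_one]) hT
    (by rw [← map_mul]; exact hZ) (by rw [← map_mul, ← map_mul, ← map_mul, hwx])
  set M : Matrix (Fin 2 ⊕ Fin 2) (Fin 2 ⊕ Fin 2) F := (φ x : Matrix (Fin 2 ⊕ Fin 2) (Fin 2 ⊕ Fin 2) F) with hM
  have hker : LinearMap.ker (Matrix.toLin' M - LinearMap.id) = LinearMap.ker (ρ x - 1) := rfl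
  have hsum := LinearMap.finrank_range_add_finrank_ker (ρ x - 1)
  refine ⟨by rw [hker]; omega, ?_⟩
  have heq : LinearMap.range (ρ x - 1) = LinearMap.ker (ρ x - 1) := by
    refine Submodule.eq_of_le_of_finrank_eq ?_ (by omega)
    rintro _ ⟨u, rfl⟩
    exact LinearMap.congr_fun hN2 u
  intro v u hv hu
  obtain ⟨a, rfl⟩ : u ∈ LinearMap.range (ρ x - 1) := by
    rw [heq, LinearMap.mem_ker]
    show M.mulVec u - u = 0
    rw [hu, sub_self]
  have hS : M.transpose * Matrix.J (Fin 2) F * M = Matrix.J (Fin 2) F := SymplecticGroup.mem_iff'.1 (φ x).2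
  show dotProduct v ((Matrix.J (Fin 2) F).mulVec (M.mulVec a - a)) = 0
  rw [Matrix.mulVec_sub, dotProduct_sub, sub_eq_zero]
  conv_lhs => rw [← hv]
  rw [← Matrix.vecMul_transpose, ← Matrix.dotProduct_mulVec, Matrix.mulVec_mulVec, Matrix.mulVec_mulVec, hS]

end Cfsg.Agent.S3213
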