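import Cfsg.Statements.S3215
import Mathlib
import Cfsg.Agent.Lib.Cores.Basic
import Cfsg.Agent.Lib.Cores.Fitting
import Cfsg.Agent.Lib.Coprime.FixedPointFree
import Cfsg.Agent.Lib.Components.Local
import Cfsg.Agent.Lib.Transfer.NormalPComplement
import Cfsg.Agent.Lib.PGroups.UniqueSubgroup

set_option linter.all false

set_option autoImplicit false
open Cfsg

namespace Cfsg.Agent.S3215

open scoped commutatorElement

open Subgroup in
theorem commutes_core {H : Type*} [Group H] [Finite H] {t x y : H}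
    (hI : Cfsg.HasNormalPComplement 2 ↥(centralizer ({t} : Set H)))
    (hx : x * t = t * x) (hxo : Odd (orderOf x)) (hy : y * t = t * y) (hyY : y ∈ Cfsg.pCore 2 H) :
    x * y = y * x := by
  haveI : Fact (Nat.Prime 2) := ⟨Nat.prime_two⟩
  set C := centralizer ({t} : Set H) with hC
  obtain ⟨N, hN, hNc, k, hk⟩ := Cfsg.Agent.Transfer.NormalPComplement.hasNormalPComplement_iff_exists.1 hI
  haveI := hN
  set x' : C := ⟨x, mem_centralizer_singleton_iff.2 hx⟩ with hx'
  set y' : C := ⟨y, mem_centralizer_singleton_iff.2 hy⟩ with hy'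
  have hxN : x' ∈ N := by
    rw [← QuotientGroup.eq_one_iff, ← orderOf_eq_one_iff]
    refine Nat.eq_one_of_dvd_coprimes (hxo.coprime_two_right.pow_right k) ?_ ?_
    · exact (orderOf_map_dvd (QuotientGroup.mk' N) x').trans (by rw [← Subgroup.orderOf_coe])
    · rw [← hk]; exact orderOf_dvd_natCard _
  set Y' := (Cfsg.pCore 2 H).subgroupOf C with hY'
  have hd : Disjoint N Y' := by
    obtain ⟨l, hl⟩ := IsPGroup.iff_card.1 ((Cores.pCore_isPGroup (G := H) 2).comap_subtype (K := C))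
    exact disjoint_of_coprime_natCard (by rw [show Nat.card Y' = 2 ^ l from hl]; exact hNc.pow_right l)
  have hyn : y' ∈ Y' := hyY
  exact congrArg Subtype.val (commute_of_normal_of_disjoint _ _ hN inferInstance hd x' y' hxN hyn)

open Subgroup in
theorem fpf {H : Type*} [Group H] [Finite H]
    (hI : ∀ t : H, orderOf t = 2 → Cfsg.HasNormalPComplement 2 ↥(centralizer ({t} : Set H)))
    (hCY : centralizer (Cfsg.pCore 2 H : Set H) ≤ Cfsg.pCore 2 H)
    {x t : H} (hxo : Odd (orderOf x)) (hx1 : x ≠ 1) (ht : orderOf t = 2) :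
    ¬ (x * t = t * x) := by
  haveI : Fact (Nat.Prime 2) := ⟨Nat.prime_two⟩
  intro hxt
  obtain ⟨P, hP⟩ := (IsPGroup.of_card (p := 2) (n := 1) (show Nat.card (zpowers t) = 2 ^ 1 by rw [Nat.card_zpowers, ht, pow_one])).exists_le_sylow
  have htP : t ∈ (P : Subgroup H) := hP (mem_zpowers t)
  have : Nontrivial (P : Subgroup H) := nontrivial_iff_exists_ne_one _ |>.2 ⟨t, htP, fun e => by
    rw [e, orderOf_one] at ht; norm_num at ht⟩
  obtain ⟨s, hs⟩ := exists_prime_orderOf_dvd_card' 2 (G := center (P : Subgroup H)) (by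
    obtain ⟨k, hk⟩ := IsPGroup.iff_card.1 (P.isPGroup'.to_subgroup (center (P : Subgroup H)))
    have hn : Nontrivial (center (P : Subgroup H)) := P.isPGroup'.center_nontrivial
    have hk0 : k ≠ 0 := fun e => by
      rw [e, pow_zero] at hk
      have := Finite.one_lt_card_iff_nontrivial.2 hn
      omega
    rw [hk]; exact dvd_pow_self 2 hk0)
  set z : H := ((s : (P : Subgroup H)) : H) with hz
  have hzc : ∀ p ∈ (P : Subgroup H), p * z = z * p := fun p hp =>
    congrArg Subtype.val (mem_center_iff.1 s.2 ⟨p, hp⟩)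
  have hzY : z ∈ Cfsg.pCore 2 H := hCY (mem_centralizer_iff.2 fun v hv =>
    hzc v (Cores.pCore_le_sylow P hv))
  have hz2 : orderOf z = 2 := by rw [hz, orderOf_coe, orderOf_coe, hs]
  have hxz := commutes_core (hI t ht) hxt hxo (hzc t htP).symm hzY
  have hxC : x ∈ centralizer (Cfsg.pCore 2 H : Set H) := mem_centralizer_iff.2 fun v hv =>
    (commutes_core (hI z hz2) hxz hxo (hzc v (Cores.pCore_le_sylow P hv)) hv).symm
  obtain ⟨k, hk⟩ := Cores.pCore_isPGroup (G := H) 2 ⟨x, hCY hxC⟩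
  exact hx1 (orderOf_eq_one_iff.1 (Nat.eq_one_of_dvd_coprimes (hxo.coprime_two_right.pow_right k) dvd_rfl
    (orderOf_dvd_of_pow_eq_one (congrArg Subtype.val hk))))

open Subgroup in
theorem main {H : Type*} [Group H] [Finite H] [Group.IsSolvable H] (hO : Cfsg.oddCore H = ⊥)
    (hI : ∀ t : H, orderOf t = 2 → Cfsg.HasNormalPComplement 2 ↥(centralizer ({t} : Set H)))
    (X : Subgroup H) (hXodd : Odd (Nat.card X)) (k : ℕ) (hXidx : X.index = 2 ^ k) :
    (∀ x ∈ X, x ≠ 1 → ∀ y ∈ Cfsg.pCore 2 H, y ≠ 1 → x * y ≠ y * x) ∧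
      (∀ (p : ℕ) [Fact p.Prime] (P : Sylow p ↥X), IsCyclic ↥(P : Subgroup ↥X)) ∧
      (X ⊔ Cfsg.pCore 2 H).Normal ∧ ∀ hN : (X ⊔ Cfsg.pCore 2 H).Normal,
        IsCyclic (H ⧸ (X ⊔ Cfsg.pCore 2 H)) ∧ IsPGroup 2 (H ⧸ (X ⊔ Cfsg.pCore 2 H)) := by
  haveI : Fact (Nat.Prime 2) := ⟨Nat.prime_two⟩
  set Y := Cfsg.pCore 2 H with hY
  have hO' : Cfsg.pPrimeCore 2 H = ⊥ := hO
  have hCY : centralizer (Y : Set H) ≤ Y := by
    have h := Cores.centralizer_fittingSubgroup_le (G := H)
    rwa [Components.PComponents.fitting_eq_pCore hO'] at h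
  have hodd : ∀ x ∈ X, Odd (orderOf x) := fun x hx => hXodd.of_dvd_nat (X.orderOf_dvd_natCard hx)
  have h1 : ∀ x ∈ X, x ≠ 1 → ∀ y ∈ Y, y ≠ 1 → x * y ≠ y * x := by
    intro x hx hx1 y hy hy1 hxy
    obtain ⟨j, hj⟩ := IsPGroup.iff_orderOf.1 (Cores.pCore_isPGroup (G := H) 2) ⟨y, hy⟩
    rw [← orderOf_coe] at hj
    simp only at hj
    rcases j with _ | j
    · exact hy1 (orderOf_eq_one_iff.1 (by simpa using hj))
    refine fpf hI hCY (hodd x hx) hx1 (t := y ^ 2 ^ j) ?_ (Commute.pow_right hxy _).eq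
    rw [orderOf_pow_of_dvd (by positivity) (hj ▸ pow_dvd_pow 2 j.le_succ), hj, pow_succ',
      Nat.mul_div_cancel _ (by positivity)]
  refine ⟨h1, ?_, ?_⟩
  · intro p hp P
    rcases subsingleton_or_nontrivial H with hH | hH
    · exact isCyclic_of_subsingleton
    set A := (P : Subgroup X).map X.subtype with hA
    have hYne : Y ≠ ⊥ := fun e => by
      have : (⊤ : Subgroup H) ≤ ⊥ := by
        rw [← e]; refine le_trans ?_ hCY
        rw [e]; intro x _; rw [mem_centralizer_iff]; intro u hu; rw [mem_bot.1 hu, one_mul, mul_one]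
      exact top_ne_bot (le_bot_iff.1 this)
    rcases Coprime.fpf_isCyclic_or_quaternion (A := A) (K := Y) (P.isPGroup'.map _)
      (by rw [normalizer_eq_top]; exact le_top)
      (fun a ha ha1 => by
        rw [eq_bot_iff]
        intro y ⟨hy, hya⟩
        rw [mem_bot]
        by_contra hy1
        obtain ⟨a', -, rfl⟩ := ha
        exact h1 a' a'.2 ha1 y hy hy1 (mem_centralizer_singleton_iff.1 hya).symm) hYne with h | ⟨rfl, n, ⟨e⟩⟩
    · exact isCyclic_of_surjective (equivMapOfInjective _ X.subtype X.subtype_injective).symm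
        (equivMapOfInjective _ X.subtype X.subtype_injective).symm.surjective
    · exfalso
      haveI : NeZero (2 ^ n) := ⟨by positivity⟩
      have hd : Nat.card A ∣ Nat.card X := by
        rw [hA, card_map_of_injective X.subtype_injective]; exact card_subgroup_dvd_card _
      rw [Nat.card_congr e.toEquiv, Nat.card_eq_fintype_card, QuaternionGroup.card] at hd
      exact (Nat.not_even_iff_odd.2 (hXodd.of_dvd_nat hd)) ⟨2 * 2 ^ n, by ring⟩
  -- the quotient by the 2-core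
  set q := QuotientGroup.mk' Y with hq
  have hqs := QuotientGroup.mk'_surjective Y
  set Xb := X.map q with hXb
  have hXY : Disjoint X Y := by
    obtain ⟨l, hl⟩ := IsPGroup.iff_card.1 (Cores.pCore_isPGroup (G := H) 2)
    exact disjoint_of_coprime_natCard (by rw [hl]; exact hXodd.coprime_two_right.pow_right l)
  have hker : q.ker = Y := QuotientGroup.ker_mk' Y
  have hXbi : ∃ l, Xb.index = 2 ^ l := by
    have h : Xb.index ∣ 2 ^ k := hXidx ▸ index_map_dvd _ hqs
    obtain ⟨l, -, hl⟩ := (Nat.dvd_prime_pow Nat.prime_two).1 h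
    exact ⟨l, hl⟩
  have hXbodd : Odd (Nat.card Xb) := hXodd.of_dvd_nat (Subgroup.card_map_dvd _ _)
  -- odd cores are cyclic subgroups of `Xb`
  have hcore : ∀ p : ℕ, p.Prime → IsCyclic (Cfsg.pCore p (H ⧸ Y)) := by
    intro p hp
    haveI : Fact p.Prime := ⟨hp⟩
    by_cases hp2 : p = 2
    · subst hp2
      have hb : Cfsg.pCore 2 (H ⧸ Y) = ⊥ := Cores.pCore_quotient_self 2
      rw [hb]
      infer_instance
    set O := Cfsg.pCore p (H ⧸ Y) with hOdef
    have hle : O ≤ Xb := by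
      rw [← relIndex_eq_one]
      obtain ⟨l, hl⟩ := hXbi
      obtain ⟨a, ha⟩ := IsPGroup.iff_card.1 (Cores.pCore_isPGroup (G := H ⧸ Y) p)
      exact Nat.eq_one_of_dvd_coprimes (Nat.coprime_pow_primes a l hp Nat.prime_two hp2)
        (ha ▸ relIndex_dvd_card _ _) (hl ▸ Cores.relIndex_dvd_index_right_normal Xb O)
    set O' := O.comap (q.comp X.subtype) with hO'def
    have hO'p : IsPGroup p O' := (Cores.pCore_isPGroup (G := H ⧸ Y) p).comap_of_injective _ (fun a b e => by
      refine Subtype.ext ?_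
      have h1 : ((a : H))⁻¹ * b ∈ Y := by rw [← QuotientGroup.eq]; exact e
      exact inv_mul_eq_one.1 (disjoint_def.1 hXY (X.mul_mem (X.inv_mem a.2) b.2) h1))
    obtain ⟨P, hP⟩ := hO'p.exists_le_sylow
    have hcyc : IsCyclic O' := by
      haveI : IsCyclic (P : Subgroup X) := by
        rcases subsingleton_or_nontrivial H with hH | hH
        · exact isCyclic_of_subsingleton
        have hYne : Y ≠ ⊥ := fun e => by
          have : (⊤ : Subgroup H) ≤ ⊥ := by
            rw [← e]; refine le_trans ?_ hCY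
            rw [e]; intro x _; rw [mem_centralizer_iff]; intro u hu; rw [mem_bot.1 hu, one_mul, mul_one]
          exact top_ne_bot (le_bot_iff.1 this)
        rcases Coprime.fpf_isCyclic_or_quaternion (A := (P : Subgroup X).map X.subtype) (K := Y) (P.isPGroup'.map _)
          (by rw [normalizer_eq_top]; exact le_top)
          (fun a ha ha1 => by
            rw [eq_bot_iff]
            intro y ⟨hy, hya⟩
            rw [mem_bot]
            by_contra hy1
            obtain ⟨a', -, rfl⟩ := ha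
            exact h1 a' a'.2 ha1 y hy hy1 (mem_centralizer_singleton_iff.1 hya).symm) hYne with h | ⟨h, -⟩
        · exact isCyclic_of_surjective (equivMapOfInjective _ X.subtype X.subtype_injective).symm
            (equivMapOfInjective _ X.subtype X.subtype_injective).symm.surjective
        · exact absurd h hp2
      exact isCyclic_of_injective (inclusion hP) (inclusion_injective hP)
    refine isCyclic_of_surjective (((q.comp X.subtype).comp O'.subtype).codRestrict O fun u => u.2) ?_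
    rintro ⟨o, ho⟩
    obtain ⟨x, hx, rfl⟩ := hle ho
    exact ⟨⟨⟨x, hx⟩, ho⟩, rfl⟩
  -- commutators lie in the Fitting subgroup
  have hcyccomm : ∀ (C : Subgroup (H ⧸ Y)) [C.Normal], IsCyclic C → ∀ g h : H ⧸ Y, ∀ x ∈ C,
      g * h * x * (g * h)⁻¹ = h * g * x * (h * g)⁻¹ := by
    intro C hC hcy g h x hx
    obtain ⟨⟨c, hc⟩, hgen⟩ := hcy.exists_generator
    have hconj : ∀ g : H ⧸ Y, ∃ i : ℤ, ∀ x ∈ C, g * x * g⁻¹ = x ^ i := by
      intro g
      obtain ⟨i, hi⟩ := hgen ⟨g * c * g⁻¹, hC.conj_mem c hc g⟩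
      refine ⟨i, fun x hx => ?_⟩
      obtain ⟨j, hj⟩ := hgen ⟨x, hx⟩
      have hj' : c ^ j = x := congrArg Subtype.val hj
      have hi' : c ^ i = g * c * g⁻¹ := congrArg Subtype.val hi
      rw [← hj', ← conj_zpow, ← hi', ← zpow_mul, ← zpow_mul, mul_comm]
    obtain ⟨i, hi⟩ := hconj g
    obtain ⟨j, hj⟩ := hconj h
    calc g * h * x * (g * h)⁻¹ = g * (h * x * h⁻¹) * g⁻¹ := by group
      _ = (x ^ i) ^ j := by rw [hj x hx, ← conj_zpow, hi x hx]
      _ = h * (g * x * g⁻¹) * h⁻¹ := by rw [hi x hx, ← conj_zpow, hj x hx, ← zpow_mul, ← zpow_mul, mul_comm]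
      _ = _ := by group
  haveI : Group.IsSolvable (H ⧸ Y) := inferInstance
  set F := Cfsg.fittingSubgroup (H ⧸ Y) with hF
  have hFX : F ≤ Xb := by
    rw [hF, Cores.fittingSubgroup_eq_iSup]
    refine iSup_le fun p => ?_
    by_cases hp2 : (p : ℕ) = 2
    · rw [hp2]; exact (Cores.pCore_quotient_self (G := H) 2).le.trans bot_le
    · haveI : Fact (p : ℕ).Prime := ⟨Nat.prime_of_mem_primeFactors p.2⟩
      rw [← relIndex_eq_one]
      obtain ⟨l, hl⟩ := hXbi
      obtain ⟨a, ha⟩ := IsPGroup.iff_card.1 (Cores.pCore_isPGroup (G := H ⧸ Y) (p : ℕ))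
      exact Nat.eq_one_of_dvd_coprimes (Nat.coprime_pow_primes a l (Nat.prime_of_mem_primeFactors p.2) Nat.prime_two hp2)
        (ha ▸ relIndex_dvd_card _ _) (hl ▸ Cores.relIndex_dvd_index_right_normal Xb _)
  have hcommF : commutator (H ⧸ Y) ≤ F := by
    refine le_trans ?_ (Cores.centralizer_fittingSubgroup_le)
    rw [← hF, le_centralizer_iff, hF, Cores.fittingSubgroup_eq_iSup]
    refine iSup_le fun p => ?_
    rw [le_centralizer_iff, _root_.commutator_def, commutator_le]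
    intro g _ h _
    rw [mem_centralizer_iff]
    intro x hx
    have e := hcyccomm _ (hcore p (Nat.prime_of_mem_primeFactors p.2)) g⁻¹ h⁻¹ x hx
    have e2 : g * h * g⁻¹ * h⁻¹ * x * (g * h * g⁻¹ * h⁻¹)⁻¹ = x := by
      calc g * h * g⁻¹ * h⁻¹ * x * (g * h * g⁻¹ * h⁻¹)⁻¹ = g * h * (g⁻¹ * h⁻¹ * x * (g⁻¹ * h⁻¹)⁻¹) * (g * h)⁻¹ := by group
        _ = x := by rw [e]; group
    exact (mul_inv_eq_iff_eq_mul.1 e2).symm
  have hXbn : Xb.Normal := Subgroup.Normal.of_commutator_le _ (hcommF.trans hFX)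
  have hsupeq : X ⊔ Y = Xb.comap q := by rw [hXb, comap_map_eq, hker]
  refine ⟨hsupeq ▸ hXbn.comap q, fun hN => ?_⟩
  have hNidx : ∃ l, (X ⊔ Y).index = 2 ^ l := by
    rw [hsupeq, index_comap_of_surjective _ hqs]; exact hXbi
  have hp2g : IsPGroup 2 (H ⧸ (X ⊔ Y)) := by
    obtain ⟨l, hl⟩ := hNidx; exact IsPGroup.of_card (n := l) hl
  refine ⟨?_, hp2g⟩
  -- a Sylow 2-subgroup of the quotient is cyclic
  obtain ⟨T⟩ := (inferInstance : Nonempty (Sylow 2 (H ⧸ Y)))
  set f := QuotientGroup.mk' Xb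
  have hTsurj : Function.Surjective (f.comp (T : Subgroup (H ⧸ Y)).subtype) := by
    intro b
    obtain ⟨l, hl⟩ := hXbi
    have hidx : ((T : Subgroup (H ⧸ Y)) ⊔ Xb).index = 1 :=
      Nat.eq_one_of_dvd_coprimes
        ((Nat.prime_two.coprime_iff_not_dvd.2 T.not_dvd_index).pow_left l)
        (hl ▸ index_dvd_of_le le_sup_right) (index_dvd_of_le le_sup_left)
    obtain ⟨g, rfl⟩ := QuotientGroup.mk'_surjective Xb b
    have hg : g ∈ (T : Subgroup (H ⧸ Y)) ⊔ Xb := by rw [index_eq_one.1 hidx]; exact mem_top g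
    rw [mem_sup_of_normal_right] at hg
    obtain ⟨t, ht, x, hx, rfl⟩ := hg
    refine ⟨⟨t, ht⟩, ?_⟩
    show f t = f (t * x)
    rw [map_mul, show f x = 1 from (QuotientGroup.eq_one_iff x).2 hx, mul_one]
  have hTab : IsMulCommutative (T : Subgroup (H ⧸ Y)) := by
    refine ⟨⟨fun a b => ?_⟩⟩
    have h1 : ((⁅a, b⁆ : (T : Subgroup (H ⧸ Y))) : H ⧸ Y) ∈ Xb :=
      hFX (hcommF (commutator_mem_commutator (mem_top (a : H ⧸ Y)) (mem_top (b : H ⧸ Y))))
    have hd : Disjoint (T : Subgroup (H ⧸ Y)) Xb := by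
      obtain ⟨l, hl⟩ := IsPGroup.iff_card.1 T.isPGroup'
      exact disjoint_of_coprime_natCard (by rw [hl]; exact (hXbodd.coprime_two_left).pow_left l)
    exact commutatorElement_eq_one_iff_mul_comm.1 (Subtype.ext (disjoint_def.1 hd (⁅a, b⁆ : (T : Subgroup (H ⧸ Y))).2 h1))
  have hinv : ∀ u : H ⧸ Y, orderOf u = 2 → ∀ x ∈ Xb, x ≠ 1 → x * u ≠ u * x := by
    intro u hu x hx hx1 hxu
    obtain ⟨x0, hx0, rfl⟩ := hx
    set p := (orderOf x0).minFac
    have hx01 : x0 ≠ 1 := fun e => hx1 (by rw [e, map_one])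
    have hpp : p.Prime := Nat.minFac_prime (fun e => hx01 (orderOf_eq_one_iff.1 e))
    obtain ⟨d, hd⟩ := Nat.minFac_dvd (orderOf x0)
    have hd0 : d ≠ 0 := fun e => (orderOf_pos x0).ne' (by rw [hd, e, mul_zero])
    set x1 := x0 ^ d with hx1def
    have hx1o : orderOf x1 = p := by
      rw [orderOf_pow_of_dvd hd0 ⟨p, by rw [hd, mul_comm]⟩, hd, Nat.mul_div_cancel _ (Nat.pos_of_ne_zero hd0)]
    have hcop : (Nat.card Y).Coprime (Nat.card (zpowers x1)) := by
      obtain ⟨l, hl⟩ := IsPGroup.iff_card.1 (Cores.pCore_isPGroup (G := H) 2)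
      rw [hl, Nat.card_zpowers, hx1o]
      refine (Nat.coprime_primes Nat.prime_two hpp).2 (fun e => ?_) |>.pow_left l
      exact (Nat.not_even_iff_odd.2 (hodd x1 (X.pow_mem hx0 d))) (by rw [hx1o, ← e]; exact even_two)
    haveI : Fact p.Prime := ⟨hpp⟩
    have hmap := Components.Local.map_centralizer_eq (p := p) (P := zpowers x1) (R := Y)
      (IsPGroup.of_card (n := 1) (by rw [Nat.card_zpowers, hx1o, pow_one]))
      (by rw [Nat.card_zpowers, hx1o] at hcop; exact hcop)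
    have hu' : u ∈ centralizer ((zpowers x1).map q : Set (H ⧸ Y)) := by
      rw [MonoidHom.map_zpowers, mem_centralizer_iff]
      rintro _ ⟨i, rfl⟩
      rw [hx1def, map_pow]
      exact ((show Commute (q x0) u from hxu).pow_left d).zpow_left i
    rw [← hmap] at hu'
    obtain ⟨a, ha, hau⟩ := hu'
    have hax : x1 * a = a * x1 := mem_centralizer_iff.1 ha x1 (mem_zpowers x1)
    have hx1ne : x1 ≠ 1 := fun e => by rw [e, orderOf_one] at hx1o; exact hpp.one_lt.ne hx1o
    have ha2 : a * a ∈ Y := by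
      rw [← QuotientGroup.eq_one_iff]
      show q (a * a) = 1
      have h2 := pow_orderOf_eq_one u
      rw [hu, pow_two] at h2
      rw [map_mul, show q a = u from hau, h2]
    have ha21 : a * a = 1 := by
      by_contra hne
      exact h1 x1 (X.pow_mem hx0 d) hx1ne _ ha2 hne ((show Commute x1 a from hax).mul_right hax).eq
    refine fpf hI hCY (hodd x1 (X.pow_mem hx0 d)) hx1ne (t := a)
      (orderOf_eq_prime (by rw [pow_two]; exact ha21) fun e => ?_) hax
    rw [← show q a = u from hau, e, map_one, orderOf_one] at hu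
    norm_num at hu
  have huniq : IsCyclic (T : Subgroup (H ⧸ Y)) := by
    refine PGroups.UniqueSubgroup.isCyclic_of_abelian T.isPGroup' (fun u v hu2 hv2 hu1 => ?_)
    by_contra hvu
    have hv1 : v ≠ 1 := fun e => hvu (e ▸ one_mem _)
    have huv : u * v ≠ 1 := fun e => hvu (by rw [eq_inv_of_mul_eq_one_right e]; exact inv_mem (mem_zpowers u))
    have hoo : ∀ w : (T : Subgroup (H ⧸ Y)), w ^ 2 = 1 → w ≠ 1 → orderOf (w : H ⧸ Y) = 2 := fun w hw hw1 => by
      rw [orderOf_coe]; exact orderOf_eq_prime hw hw1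
    haveI : Nontrivial (H ⧸ Y) := ⟨⟨(u : H ⧸ Y), 1, fun e => hu1 (Subtype.ext e)⟩⟩
    have hFne := Cores.fittingSubgroup_ne_bot (G := H ⧸ Y)
    rw [Cores.fittingSubgroup_eq_iSup, Ne, iSup_eq_bot, not_forall] at hFne
    obtain ⟨p, hp⟩ := hFne
    haveI : Fact (p : ℕ).Prime := ⟨Nat.prime_of_mem_primeFactors p.2⟩
    set O := Cfsg.pCore (p : ℕ) (H ⧸ Y) with hOdef
    haveI := hcore p (Nat.prime_of_mem_primeFactors p.2)
    have hOnt : Nontrivial O := (nontrivial_iff_ne_bot _).2 hp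
    obtain ⟨x, hx⟩ := exists_prime_orderOf_dvd_card' (p : ℕ) (G := O) (by
      obtain ⟨l, hl⟩ := IsPGroup.iff_card.1 (Cores.pCore_isPGroup (G := H ⧸ Y) (p : ℕ))
      have hl0 : l ≠ 0 := fun e => by
        have := Finite.one_lt_card_iff_nontrivial.2 hOnt
        rw [hl, e] at this; simp at this
      rw [hl]; exact dvd_pow_self _ hl0)
    have hxne : (x : H ⧸ Y) ≠ 1 := fun e => by
      rw [show x = 1 from Subtype.ext e, orderOf_one] at hx
      exact (Nat.prime_of_mem_primeFactors p.2).one_lt.ne hx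
    have hxXb : (x : H ⧸ Y) ∈ Xb := hFX (by
      rw [hF, Cores.fittingSubgroup_eq_iSup]; exact mem_iSup_of_mem p x.2)
    obtain ⟨⟨c, hc⟩, hgen⟩ := (hcore p (Nat.prime_of_mem_primeFactors p.2)).exists_generator
    have hinvert : ∀ w : H ⧸ Y, w * w = 1 → w * (x : H ⧸ Y) ≠ (x : H ⧸ Y) * w →
        w * (x : H ⧸ Y) * w⁻¹ = (x : H ⧸ Y)⁻¹ := by
      intro w hw hne
      obtain ⟨i, hi⟩ := hgen ⟨w * c * w⁻¹, (inferInstance : O.Normal).conj_mem c hc w⟩
      obtain ⟨j, hj⟩ := hgen x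
      have hi' : c ^ i = w * c * w⁻¹ := congrArg Subtype.val hi
      have hj' : c ^ j = (x : H ⧸ Y) := congrArg Subtype.val hj
      have hwx : w * (x : H ⧸ Y) * w⁻¹ = (x : H ⧸ Y) ^ i := by
        rw [← hj', ← conj_zpow, ← hi', ← zpow_mul, ← zpow_mul, mul_comm]
      have h2 : (x : H ⧸ Y) ^ (i * i) = (x : H ⧸ Y) := by
        calc (x : H ⧸ Y) ^ (i * i) = ((x : H ⧸ Y) ^ i) ^ i := zpow_mul _ _ _
          _ = w * (x : H ⧸ Y) ^ i * w⁻¹ := by rw [← conj_zpow, hwx]
          _ = (w * w) * (x : H ⧸ Y) * (w * w)⁻¹ := by rw [← hwx]; group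
          _ = _ := by rw [hw]; group
      have h3 : ((p : ℕ) : ℤ) ∣ (i - 1) * (i + 1) := by
        rw [← hx, ← orderOf_coe, orderOf_dvd_iff_zpow_eq_one, show (i - 1) * (i + 1) = i * i - 1 by ring,
          zpow_sub_one, h2, mul_inv_cancel]
      rcases (Nat.prime_iff_prime_int.1 (Nat.prime_of_mem_primeFactors p.2)).dvd_or_dvd h3 with h4 | h4
      · exfalso; apply hne
        rw [← hx, ← orderOf_coe, orderOf_dvd_iff_zpow_eq_one, zpow_sub_one, mul_inv_eq_one, ← hwx] at h4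
        exact mul_inv_eq_iff_eq_mul.1 h4
      · rw [← hx, ← orderOf_coe, orderOf_dvd_iff_zpow_eq_one, zpow_add_one, ← hwx] at h4
        exact eq_inv_of_mul_eq_one_left h4
    have hu : ((u : H ⧸ Y)) * u = 1 := by rw [← coe_mul, ← pow_two, hu2]; rfl
    have hv : ((v : H ⧸ Y)) * v = 1 := by rw [← coe_mul, ← pow_two, hv2]; rfl
    have hux := hinvert u hu (hinv u (hoo u hu2 hu1) x hxXb hxne).symm
    have hvx := hinvert v hv (hinv v (hoo v hv2 hv1) x hxXb hxne).symm
    refine hinv ((u * v : (T : Subgroup (H ⧸ Y))) : H ⧸ Y) (hoo _ ?_ huv) x hxXb hxne ?_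
    · rw [(show Commute u v from hTab.is_comm.comm u v).mul_pow, hu2, hv2, one_mul]
    · rw [Subgroup.coe_mul]
      symm
      apply mul_inv_eq_iff_eq_mul.1
      calc (u : H ⧸ Y) * v * x * ((u : H ⧸ Y) * v)⁻¹ = u * (v * x * (v : H ⧸ Y)⁻¹) * (u : H ⧸ Y)⁻¹ := by group
        _ = ((u : H ⧸ Y) * x * (u : H ⧸ Y)⁻¹)⁻¹ := by rw [hvx]; group
        _ = x := by rw [hux, inv_inv]
  haveI := huniq
  have hTsurj' : Function.Surjective
      ((QuotientGroup.lift Xb (QuotientGroup.map Y (X ⊔ Y) (MonoidHom.id H) le_sup_right) (by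
        rintro _ ⟨x, hx, rfl⟩
        exact (QuotientGroup.eq_one_iff x).2 (mem_sup_left hx))).comp
        (f.comp (T : Subgroup (H ⧸ Y)).subtype)) := by
    rw [MonoidHom.coe_comp]
    refine Function.Surjective.comp ?_ hTsurj
    intro b
    obtain ⟨b, rfl⟩ := QuotientGroup.mk'_surjective _ b
    exact ⟨f (q b), rfl⟩
  exact isCyclic_of_surjective _ hTsurj'

/-- Let H be a finite solvable group with no nontrivial normal subgroup of odd order in which the centralizer of every involution has a normal 2-complement. Let X be a Hall 2'-subgroup of H (odd order, index a power of 2) and Y = O₂(H). Then no non-identity element of X commutes with a non-identity element of Y (so for X ≠ 1 the group XY is a Frobenius group with kernel Y), every Sylow subgroup of X is cyclic, XY is normal in H, and H/XY is a cyclic 2-group. -/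
theorem result {H : Type*} [Group H] [Finite H] (hsol : Group.IsSolvable H)
    (hO : Cfsg.oddCore H = ⊥)
    (hI : ∀ t : H, orderOf t = 2 → Cfsg.HasNormalPComplement 2 ↥(Subgroup.centralizer ({t} : Set H)))
    (X : Subgroup H) (hXodd : Odd (Nat.card X)) (hXidx : ∃ k : ℕ, X.index = 2 ^ k) :
    (∀ x ∈ X, x ≠ 1 → ∀ y ∈ Cfsg.pCore 2 H, y ≠ 1 → x * y ≠ y * x) ∧
      (∀ (p : ℕ) [Fact p.Prime] (P : Sylow p ↥X), IsCyclic ↥(P : Subgroup ↥X)) ∧
      (X ⊔ Cfsg.pCore 2 H).Normal ∧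
      ∀ hN : (X ⊔ Cfsg.pCore 2 H).Normal, IsCyclic (H ⧸ (X ⊔ Cfsg.pCore 2 H)) ∧ IsPGroup 2 (H ⧸ (X ⊔ Cfsg.pCore 2 H)) := by
  haveI := hsol
  obtain ⟨k, hk⟩ := hXidx
  exact main hO hI X hXodd k hk

end Cfsg.Agent.S3215
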