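import Cfsg.Statements.S3216
import Cfsg.Agent.Lib.TimesPSLTwo.DihedralContra

set_option autoImplicit false
open Cfsg

namespace Cfsg.Agent.S3216

/-- Let G be a finite non-abelian simple group and t an involution of G; write C = C_G(t) and C̄ = C/O(C). If the subgroup of C̄ generated by its 2-elements (the smallest normal subgroup of C̄ of odd index) is isomorphic to Z₂ × PSL₂(q) for some prime power q > 3, then the Sylow 2-subgroups of G are elementary abelian of order 8. -/
theorem result {G : Type*} [Group G] [Finite G] [IsSimpleGroup G]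
    (hG : ¬ IsMulCommutative G) (t : G) (ht : orderOf t = 2) {F : Type*} [Field F] [Fintype F] (hF : 3 < Fintype.card F)
    (hL : Nonempty (↥(Subgroup.closure {x : (↥(Subgroup.centralizer ({t} : Set G)) ⧸ Cfsg.oddCore ↥(Subgroup.centralizer ({t} : Set G))) | ∃ k : ℕ, orderOf x = 2 ^ k}) ≃*
      (Multiplicative (ZMod 2) × Matrix.ProjectiveSpecialLinearGroup (Fin 2) F))) (S : Sylow 2 G) :
    Nat.card ↥(S : Subgroup G) = 8 ∧ ∀ x ∈ (S : Subgroup G), x ^ 2 = 1 := by
  classical
  have : Fact (Nat.Prime 2) := ⟨Nat.prime_two⟩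
  obtain ⟨e⟩ := hL
  obtain ⟨N, f, hl⟩ := TimesPSLTwo.exists_loc (TimesPSLTwo.psl_perfect hF) (TimesPSLTwo.psl_center hF) ht e
  have hindex : ∀ H : Subgroup G, H.index ≠ 2 := fun H hH => by
    have hn := Subgroup.normal_of_index_eq_two hH
    rcases hn.eq_bot_or_eq_top with h | h
    · subst h
      rw [Subgroup.index_bot] at hH
      have hc : IsCyclic G := isCyclic_of_prime_card hH
      exact hG ⟨⟨fun a b => (IsCyclic.commGroup (α := G)).mul_comm a b⟩⟩
    · subst h
      rw [Subgroup.index_top] at hH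
      exact absurd hH (by norm_num)
  obtain ⟨Q, hSQ⟩ := hl.exists_image (default : Sylow 2 ↥N)
  have hel : (∃ w k, TimesPSLTwo.PData (Q : Subgroup (Matrix.ProjectiveSpecialLinearGroup (Fin 2) F)) w k) ∨
      (8 ≤ Nat.card ↥(Q : Subgroup (Matrix.ProjectiveSpecialLinearGroup (Fin 2) F)) ∧
        (2 : F) ≠ 0 ∧ ∃ z, TimesPSLTwo.DihProps ↥(Q : Subgroup (Matrix.ProjectiveSpecialLinearGroup (Fin 2) F)) z) := by
    by_cases h2 : (2 : F) = 0
    · exact Or.inl (TimesPSLTwo.sylow_even h2 hF Q)
    · have hodd : Odd (Fintype.card F) := by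
        rcases Nat.even_or_odd (Fintype.card F) with he | ho
        · exfalso
          have hchar : ringChar F = 2 := FiniteField.even_card_iff_char_two.2 (Nat.even_iff.1 he)
          have := (ringChar.spec F 2).2 (by rw [hchar])
          exact h2 (by exact_mod_cast this)
        · exact ho
      rcases TimesPSLTwo.sylow_odd hodd Q with ⟨h4, hsq⟩ | ⟨h8, hz⟩
      · exact Or.inl (TimesPSLTwo.Loc.pdata_four Q h4 hsq fun _ _ he hf hne hc =>
          TimesPSLTwo.four_rotation h2 he hf hne hc)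
      · exact Or.inr ⟨h8, h2, hz⟩
  rcases hel with ⟨w, k, hd⟩ | ⟨h8, h2, z, hd⟩
  · obtain ⟨A, V, s, hb⟩ := hl.setup _ Q hSQ hd
    obtain ⟨h1, h2⟩ := hb.sylow_eight hindex S
    exact ⟨h1, fun x hx => by rw [pow_two]; exact h2 x hx⟩
  · exfalso
    obtain ⟨χ, hm⟩ := hl.exists_model (fun _ _ he hf hne hc => TimesPSLTwo.four_rotation h2 he hf hne hc)
      (Forms.KleinPSL.involutions_isConj h2) _ Q hSQ hd h8
    exact hm.contra inferInstance hG hindex

end Cfsg.Agent.S3216
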