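import Cfsg.Statements.S3219
import Cfsg.Agent.Lib.TwoPointA4.TauFinal
import Cfsg.Agent.Lib.TwoPointA4.TauOther
import Cfsg.Agent.Lib.TwoPointA4.TauQuot
import Cfsg.Agent.Lib.TwoPointA4.AffineFour
import Cfsg.Agent.Lib.TwoPointA4.SymKerV
import Cfsg.Agent.Lib.TwoPointA4.SymInd
import Cfsg.Agent.Lib.TwoPointA4.SymOdd

set_option autoImplicit false
open Cfsg Cfsg.Agent.TwoPointA4 MulAction Subgroup

namespace Cfsg.Agent.S3219

/-- Let G be a finite doubly transitive permutation group on a set Ω in which the stabilizer of two points is isomorphic to the alternating group A₄. Then Ω has 6 points and G ≅ A₆, or Ω has 15 points and G ≅ A₇, or Ω has 16 points and G is isomorphic to the group of all affine transformations of the affine plane over the field with 4 elements, or G = C_G(J)O(G) for some involution J of G, where O(G) is the largest normal subgroup of G of odd order. -/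
theorem result {G : Type*} [Group G] [Finite G] {Ω : Type*} [Fintype Ω] [MulAction G Ω] [FaithfulSMul G Ω]
    (h2 : MulAction.IsMultiplyPretransitive G Ω 2) (a b : Ω) (hab : a ≠ b)
    (e : ↥(MulAction.stabilizer G a ⊓ MulAction.stabilizer G b) ≃* ↥(alternatingGroup (Fin 4))) :
    (Fintype.card Ω = 6 ∧ Nonempty (G ≃* ↥(alternatingGroup (Fin 6)))) ∨ (Fintype.card Ω = 15 ∧ Nonempty (G ≃* ↥(alternatingGroup (Fin 7)))) ∨
      (Fintype.card Ω = 16 ∧ ∃ (F : Type) (_ : Field F) (_ : Fintype F), Fintype.card F = 4 ∧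
        Nonempty (G ≃* ((Fin 2 → F) ≃ᵃ[F] (Fin 2 → F)))) ∨
      (∃ J : G, orderOf J = 2 ∧ Subgroup.centralizer ({J} : Set G) ⊔ Cfsg.oddCore G = ⊤) := by
  let D : Data G Ω := ⟨h2, a, b, hab, e⟩
  rcases tau_or_sym D with ⟨τ, hτ⟩ | ⟨Φ, hΦ⟩
  · have hT := tau_not_isT D hτ
    rcases Nat.even_or_odd D.f with hf | hf
    · right; right; left
      obtain ⟨E, hE, hreg, hsq⟩ := other_regular D hτ hT hf
      haveI := hE
      have hn := other_deg D hτ hT
      obtain ⟨hf4, ω, hωa, hω3, hω1, hωt, hcen⟩ := stab_shape D hf hn (other_sq D hτ hT)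
      have h16 : Fintype.card Ω = 16 := by rw [hn, hf4]
      refine ⟨h16, affine_four E hreg hsq h16 ?_ hω3 (fun x hx hfix => ?_) hcen⟩
      · rw [card_G D, h16]
      by_contra hx1
      have hne : D.a ≠ x • D.a := fun h => hx1 (hreg.2 D.a x hx h.symm)
      obtain ⟨g, hga, hgb⟩ := exists_map D hne
      have hωx : ω • x • D.a = x • D.a := by
        rw [← mul_smul, (mul_inv_eq_iff_eq_mul.1 hfix), mul_smul, hωa]
      have hωb : ω • D.b = D.b := by
        apply MulAction.injective g
        show g • ω • D.b = g • D.b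
        rw [← mul_smul, hcen g hga, mul_smul, hgb, hωx]
      have hωV : ω ∈ D.V := by
        rw [← cent_inf_K D]
        exact ⟨mem_centralizer_singleton_iff.2 hωt.eq, hωa, hωb⟩
      apply hω1
      rw [pow_three', hωV.2, one_mul] at hω3
      exact hω3
    · right; right; right
      exact other_odd D hτ hT hf
  · obtain ⟨s, hs⟩ := exists_transp D hΦ
    by_cases h : D.KerV
    · rcases Nat.even_or_odd D.r with hr | hr
      · exact Or.inl (sym_six D hΦ hs h hr)
      · exact Or.inr (Or.inl (sym_fifteen D hΦ hs h hr))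
    · rcases Nat.even_or_odd D.r with hr | hr
      · exact (sym_even_false D hs hΦ h hr).elim
      · exact (sym_odd_false D hs hΦ h hr).elim

end Cfsg.Agent.S3219
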