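import Cfsg.Statements.S3222
import Mathlib
import Cfsg.Agent.InvChar.TwoTimesSymFourMain
import Cfsg.Agent.Lib.Characters.Burnside
set_option linter.all false

set_option autoImplicit false
open Cfsg

namespace Cfsg.Agent.S3222

/-- Let G be a finite group of even order such that (1) some involution t lying in the centre of a Sylow 2-subgroup of G has C_G(t) ≅ Z₂ × S₄, and (2) every Sylow 2-subgroup S of G satisfies C_G(S′) = S, where S′ is the derived subgroup of S. Then G = C_G(t) if G is solvable, and G ≅ S₆ otherwise. -/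
theorem result {G : Type*} [Group G] [Finite G] (hev : Even (Nat.card G))
    (t : G) (ht : orderOf t = 2) (T : Sylow 2 G) (htT : t ∈ (T : Subgroup G)) (htc : ∀ s ∈ (T : Subgroup G), s * t = t * s)
    (e : ↥(Subgroup.centralizer ({t} : Set G)) ≃* (Multiplicative (ZMod 2) × Equiv.Perm (Fin 4)))
    (h2 : ∀ S : Sylow 2 G, Subgroup.centralizer ((⁅(S : Subgroup G), (S : Subgroup G)⁆ : Subgroup G) : Set G) = (S : Subgroup G)) :
    (Group.IsSolvable G → Subgroup.centralizer ({t} : Set G) = ⊤) ∧
      (¬ Group.IsSolvable G → Nonempty (G ≃* Equiv.Perm (Fin 6))) := by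
  classical
  haveI : Fact (Nat.Prime 2) := ⟨Nat.prime_two⟩
  have h0 : InvChar.TwoTimesSymFour.Hyp t := ⟨e, ht, T, htc, h2⟩
  obtain ⟨h, hat⟩ := InvChar.TwoTimesSymFour.exists_normalized h0
  by_cases hne : Subgroup.centralizer ({t} : Set G) = ⊤
  · refine ⟨fun _ => hne, fun hns => absurd ?_ hns⟩
    have h4 : Group.IsSolvable (Multiplicative (ZMod 2) × Equiv.Perm (Fin 4)) := by
      haveI : Group.IsSolvable (Equiv.Perm (Fin 4)) := Cfsg.Agent.Characters.burnside_pa_qb (G := Equiv.Perm (Fin 4)) Nat.prime_two Nat.prime_three (a := 3) (b := 1) (by rw [Nat.card_perm, Nat.card_fin]; rfl)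
      infer_instance
    haveI := h4
    haveI : Group.IsSolvable ↥(Subgroup.centralizer ({t} : Set G)) := solvable_of_surjective (f := e.symm.toMonoidHom) e.symm.surjective
    exact solvable_of_surjective (f := (Subgroup.centralizer ({t} : Set G)).subtype)
      (fun g => ⟨⟨g, hne.ge (Subgroup.mem_top g)⟩, rfl⟩)
  · obtain ⟨hns, hiso⟩ := InvChar.TwoTimesSymFour.iso_S6 h hat hne
    exact ⟨fun hs => absurd hs hns, fun _ => hiso⟩

end Cfsg.Agent.S3222
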