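import Cfsg.Statements.S3225
import Mathlib

set_option linter.all false

set_option autoImplicit false
open Cfsg

namespace Cfsg.Agent.S3225

theorem harada {G : Type*} [Group G] [Finite G] (hG : ∀ H : Subgroup G, H.index ≠ 2) (S : Sylow 2 G)
    (M : Subgroup G) (hM : M.relIndex (S : Subgroup G) = 2) (n : ℕ)
    (hord : ∀ y ∈ (S : Subgroup G), y ∉ M → 2 ^ (n - 1) < orderOf y) (x : G) (hxn : orderOf x = 2 ^ n) :
    ∃ g : G, g * x * g⁻¹ ∈ M := by
  classical
  haveI : Fact (Nat.Prime 2) := ⟨Nat.prime_two⟩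
  by_contra hno
  push Not at hno
  have hM' : (M.subgroupOf (S : Subgroup G)).index = 2 := hM
  let φ : ↥(S : Subgroup G) →* ℤˣ := MonoidHom.mk' (fun s => if (s : G) ∈ M then 1 else -1) (by
    intro a b
    have h := Subgroup.mul_mem_iff_of_index_two hM' (a := a) (b := b)
    simp only [Subgroup.mem_subgroupOf, Subgroup.coe_mul] at h
    by_cases ha : (a : G) ∈ M <;> by_cases hb : (b : G) ∈ M <;> simp [ha, hb, h])
  have hφ : ∀ s : ↥(S : Subgroup G), φ s = if (s : G) ∈ M then 1 else -1 := fun s => rfl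
  haveI : Fintype (G ⧸ (S : Subgroup G)) := Fintype.ofFinite _
  haveI : Fintype (Quotient (MulAction.orbitRel (Subgroup.zpowers x) (G ⧸ (S : Subgroup G)))) := Fintype.ofFinite _
  set Ω := Quotient (MulAction.orbitRel (Subgroup.zpowers x) (G ⧸ (S : Subgroup G))) with hΩ
  have hterm : MonoidHom.transfer φ x = ∏ q : Ω,
      if Function.minimalPeriod ((x : G) • ·) q.out = 1 then (-1 : ℤˣ) else 1 := by
    rw [MonoidHom.transfer_eq_prod_quotient_orbitRel_zpowers_quot]
    refine Finset.prod_congr rfl fun q _ => ?_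
    rw [hφ]
    set f := Function.minimalPeriod ((x : G) • ·) q.out with hf
    have hmem := QuotientGroup.out_conj_pow_minimalPeriod_mem (S : Subgroup G) x q.out
    rw [← hf] at hmem
    split_ifs with h1 h2 h2
    · exfalso
      refine hno q.out.out⁻¹ ?_
      simpa [h2] using h1
    · rfl
    · rfl
    · exfalso
      have hfx : f ∣ orderOf x := by
        refine Function.IsPeriodicPt.minimalPeriod_dvd ?_
        show (fun a => x • a)^[orderOf x] q.out = q.out
        simp only [smul_iterate, pow_orderOf_eq_one, one_smul]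
      rw [hxn] at hfx
      obtain ⟨j, hj, hfj⟩ := (Nat.dvd_prime_pow Nat.prime_two).1 hfx
      have hj0 : j ≠ 0 := fun e => h2 (by rw [← hf, hfj, e, pow_zero])
      have h3 := hord _ hmem h1
      have h4 : (q.out.out⁻¹ * x ^ f * q.out.out) ^ 2 ^ (n - j) = 1 := by
        rw [show q.out.out⁻¹ * x ^ f * q.out.out = q.out.out⁻¹ * x ^ f * q.out.out⁻¹⁻¹ by group, conj_pow,
          ← pow_mul, hfj, ← pow_add, Nat.add_sub_cancel' hj, ← hxn, pow_orderOf_eq_one]
        group
      have h5 := Nat.le_of_dvd (by positivity) (orderOf_dvd_of_pow_eq_one h4)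
      have : (2 : ℕ) ^ (n - j) ≤ 2 ^ (n - 1) := Nat.pow_le_pow_right two_pos (by omega)
      omega
  have hcount : Odd (Finset.univ.filter fun q : Ω => Function.minimalPeriod ((x : G) • ·) q.out = 1).card := by
    have hP : IsPGroup 2 (Subgroup.zpowers x) := IsPGroup.of_card (n := n) (by rw [Nat.card_zpowers, hxn])
    have hmod := hP.card_modEq_card_fixedPoints (G ⧸ (S : Subgroup G))
    have hodd : Nat.card (G ⧸ (S : Subgroup G)) % 2 = 1 := Nat.two_dvd_ne_zero.1 S.not_dvd_index
    have hout : ∀ a : G ⧸ (S : Subgroup G), a ∈ MulAction.fixedPoints (Subgroup.zpowers x) (G ⧸ (S : Subgroup G)) →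
        (Quotient.mk'' a : Ω).out = a := by
      intro a ha
      obtain ⟨j, hj⟩ := Quotient.mk_out (s := MulAction.orbitRel (Subgroup.zpowers x) (G ⧸ (S : Subgroup G))) a
      exact hj.symm.trans (ha j)
    have hbij : Nat.card (MulAction.fixedPoints (Subgroup.zpowers x) (G ⧸ (S : Subgroup G))) =
        Nat.card {q : Ω // Function.minimalPeriod ((x : G) • ·) q.out = 1} := by
      refine Nat.card_eq_of_bijective (fun a => ⟨Quotient.mk'' a.1, ?_⟩) ⟨fun a b hab => Subtype.ext ?_, fun q => ?_⟩
      · rw [hout a.1 a.2, Function.minimalPeriod_eq_one_iff_isFixedPt]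
        exact a.2 ⟨x, Subgroup.mem_zpowers x⟩
      · have h := congrArg (fun r : {q : Ω // Function.minimalPeriod ((x : G) • ·) q.out = 1} => r.1.out) hab
        simpa only [hout a.1 a.2, hout b.1 b.2] using h
      · have hfix : x • q.1.out = q.1.out := Function.minimalPeriod_eq_one_iff_isFixedPt.1 q.2
        refine ⟨⟨q.1.out, fun g => ?_⟩, Subtype.ext (Quotient.out_eq' q.1)⟩
        have hle : Subgroup.zpowers x ≤ MulAction.stabilizer G q.1.out := Subgroup.zpowers_le.2 hfix
        exact hle g.2
    rw [← Fintype.card_subtype, ← Nat.card_eq_fintype_card, ← hbij, Nat.odd_iff]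
    rw [Nat.ModEq] at hmod
    omega
  rw [Finset.prod_ite, Finset.prod_const, Finset.prod_const_one, mul_one, hcount.neg_one_pow] at hterm
  refine hG (MonoidHom.transfer φ).ker ?_
  rw [Subgroup.index_ker]
  have : (MonoidHom.transfer φ).range = ⊤ := by
    rw [eq_top_iff]
    intro u _
    rcases Int.units_eq_one_or u with rfl | rfl
    · exact one_mem _
    · exact ⟨x, hterm⟩
  rw [this, Nat.card_congr Subgroup.topEquiv.toEquiv, Nat.card_eq_fintype_card]
  rfl

/-- Let G be a finite group of even order with no subgroup of index 2, S a Sylow 2-subgroup of G and M a subgroup of index 2 in S such that, for some n ≥ 1, every element of S outside M has order greater than 2^(n−1). Then every element of S of order 2ⁿ is conjugate in G to an element of M. -/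
theorem result {G : Type*} [Group G] [Finite G] (hev : Even (Nat.card G))
    (hG : ∀ H : Subgroup G, H.index ≠ 2) (S : Sylow 2 G) (M : Subgroup G) (hMS : M ≤ (S : Subgroup G)) (hM : M.relIndex (S : Subgroup G) = 2)
    (n : ℕ) (hn : 1 ≤ n) (hord : ∀ y ∈ (S : Subgroup G), y ∉ M → 2 ^ (n - 1) < orderOf y)
    (x : G) (hx : x ∈ (S : Subgroup G)) (hxn : orderOf x = 2 ^ n) :
    ∃ g : G, g * x * g⁻¹ ∈ M := by
  exact harada hG S M hM n hord x hxn

end Cfsg.Agent.S3225
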