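import Cfsg.Statements.S3233
import Cfsg.Agent.Lib.FiTwentyThreeByTwo.Build
import Cfsg.Agent.Lib.FiTwentyThreeByTwo.Normal

set_option autoImplicit false
set_option linter.style.haveILetI false
open Cfsg Cfsg.Agent.FiTwentyTwoByTwo Cfsg.Agent.FiTwentyThreeByTwo

namespace Cfsg.Agent.S3233

/-- Let G be a finite group with an involution z, H = C_G(z), such that (i) J = O₂(H) is an (internal) direct product of a four-group and an extraspecial group of order 2⁹, with C_H(J) ≤ J, and (ii) H contains an element c of order 3 such that J⟨c⟩ is normal in H with H/J⟨c⟩ ≅ Aut(PSp₄(3)) and C_H(c)/⟨c, z⟩ ≅ PSp₄(3). Then G = H·O(G), or G is isomorphic to the Fischer group Fi₂₃, or G has a normal four-group V with G/V ≅ Aut(U₆(2)). -/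
theorem result {G : Type*} [Group G] [Finite G] (z : G) (hz : orderOf z = 2)
    {F : Type*} [Field F] [Fintype F] (hF : Fintype.card F = 3) {K : Type*} [Field K] [Fintype K] (hK : Fintype.card K = 4)
    (V E : Subgroup ↥(Subgroup.centralizer ({z} : Set G))) (hVE : Cfsg.IsInternalDirectProduct V E (Cfsg.pCore 2 ↥(Subgroup.centralizer ({z} : Set G)))) (hV : Nat.card ↥V = 4) (hV2 : ∀ v ∈ V, v ^ 2 = 1)
    (hE : Cfsg.IsExtraspecial 2 ↥E) (hEc : Nat.card ↥E = 2 ^ 9)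
    (hCJ : Subgroup.centralizer ((Cfsg.pCore 2 ↥(Subgroup.centralizer ({z} : Set G))) : Set ↥(Subgroup.centralizer ({z} : Set G))) ≤ Cfsg.pCore 2 ↥(Subgroup.centralizer ({z} : Set G)))
    (zc c : ↥(Subgroup.centralizer ({z} : Set G))) (hzc : (zc : G) = z) (hc : orderOf c = 3)
    [hJc : (Cfsg.pCore 2 ↥(Subgroup.centralizer ({z} : Set G)) ⊔ Subgroup.zpowers c).Normal] (e : (↥(Subgroup.centralizer ({z} : Set G)) ⧸ (Cfsg.pCore 2 ↥(Subgroup.centralizer ({z} : Set G)) ⊔ Subgroup.zpowers c)) ≃* MulAut (Cfsg.PSp 2 F))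
    [hcz : ((Subgroup.zpowers c ⊔ Subgroup.zpowers zc).subgroupOf (Subgroup.centralizer ({c} : Set ↥(Subgroup.centralizer ({z} : Set G))))).Normal]
    (e' : (↥(Subgroup.centralizer ({c} : Set ↥(Subgroup.centralizer ({z} : Set G)))) ⧸ (Subgroup.zpowers c ⊔ Subgroup.zpowers zc).subgroupOf (Subgroup.centralizer ({c} : Set ↥(Subgroup.centralizer ({z} : Set G))))) ≃* Cfsg.PSp 2 F) :
    Subgroup.centralizer ({z} : Set G) ⊔ Cfsg.oddCore G = ⊤ ∨ Cfsg.Spor.IsoFi23 G ∨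
      (∃ (W : Subgroup G) (hW : W.Normal), Nat.card ↥W = 4 ∧ (∀ w ∈ W, w ^ 2 = 1) ∧
        Nonempty ((G ⧸ W) ≃* MulAut (Cfsg.PSU 6 K 2))) := by
  classical
  obtain ⟨hsimp, hS, hA, hinj⟩ := Cfsg.Agent.FiTwentyTwoByTwo.psp_facts hF hK
  obtain ⟨D, T⟩ := setup_of_hyp hz hVE hV hV2 hE hEc hCJ hzc hc e e' hsimp hS hA hinj
  by_cases hI : Cfsg.Spor.IsoFi23 G
  · exact Or.inr (Or.inl hI)
  have hd : ∀ y ∈ yGrp z (c : G), y ≠ 1 → TI z (z * y) := fun y hy h1 =>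
    (step_d D hF hK T hy h1).resolve_right hI
  obtain ⟨M⟩ := exists_model D hF hK T
  by_cases hy : ∀ y ∈ yGrp z (c : G), y ≠ 1 → TI z y
  · exact Or.inl (M.top_of_TI T hd hy)
  push Not at hy
  obtain ⟨y, hyY, hy1, hn⟩ := hy
  obtain ⟨hU, hnC, ⟨eU⟩⟩ := (step_y D hF hK T hd hyY hy1).resolve_left hn
  haveI := hnC
  haveI hW := M.yGrp_normal T hd hU
  exact Or.inr (Or.inr ⟨yGrp z (c : G), hW, D.card_Y,
    fun w hw => by rw [pow_two]; exact D.Y_sq hw, M.quot_iso T hK eU⟩)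

end Cfsg.Agent.S3233
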