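import Cfsg.Statements.S3240
import Cfsg.Agent.Lib.Suzuki3240.Bounds
import Cfsg.Agent.Lib.Suzuki3240.Models
import Cfsg.Agent.Lib.CIT.Theorem

set_option autoImplicit false
open Cfsg

namespace Cfsg.Agent.S3240

/-- Call a subgroup A of a finite group G strongly self-centralizing if C_G(a) = A for every non-identity a ∈ A. Let G be a finite non-abelian simple group with three pairwise non-conjugate strongly self-centralizing subgroups A₁, A₂, A₃ with [N_G(A₁) : A₁] = 2, [N_G(A₂) : A₂] = [N_G(A₃) : A₃] = 4, |A₁| = n₁ ≥ 5, |A₂| = n₂ > 5, |A₃| = n₃ > 5, such that |G| ≤ 3 n₁² n₂² n₃² and the Sylow r-subgroups of G are abelian for every odd prime r not dividing n₁n₂n₃. Then G is isomorphic to a Suzuki group. -/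
theorem result {G : Type*} [Group G] [Finite G] [IsSimpleGroup G] (hG : ¬ IsMulCommutative G)
    (A₁ A₂ A₃ : Subgroup G)
    (hsc : ∀ A ∈ ({A₁, A₂, A₃} : Set (Subgroup G)), ∀ a ∈ A, a ≠ 1 → Subgroup.centralizer ({a} : Set G) = A)
    (hnc : ∀ g : G, A₁.map (MulAut.conj g).toMonoidHom ≠ A₂ ∧ A₁.map (MulAut.conj g).toMonoidHom ≠ A₃ ∧ A₂.map (MulAut.conj g).toMonoidHom ≠ A₃)
    (h₁ : A₁.relIndex (Subgroup.normalizer (A₁ : Set G)) = 2) (h₂ : A₂.relIndex (Subgroup.normalizer (A₂ : Set G)) = 4)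
    (h₃ : A₃.relIndex (Subgroup.normalizer (A₃ : Set G)) = 4)
    (hn₁ : 5 ≤ Nat.card ↥A₁) (hn₂ : 5 < Nat.card ↥A₂) (hn₃ : 5 < Nat.card ↥A₃)
    (hord : Nat.card G ≤ 3 * Nat.card ↥A₁ ^ 2 * Nat.card ↥A₂ ^ 2 * Nat.card ↥A₃ ^ 2)
    (hab : ∀ r : ℕ, r.Prime → r ≠ 2 → ¬ r ∣ Nat.card ↥A₁ * Nat.card ↥A₂ * Nat.card ↥A₃ →
      ∀ P : Sylow r G, IsMulCommutative ↥(P : Subgroup G)) :
    Cfsg.Lie.IsoSuzuki G := by
  haveI := Fintype.ofFinite G
  have h0 := hsc A₁ (by simp)
  have h1 := hsc A₂ (by simp)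
  have h2 := hsc A₃ (by simp)
  have part : ∀ (A : Subgroup G) (e : ℕ), (∀ a ∈ A, a ≠ 1 → Subgroup.centralizer ({a} : Set G) = A) →
      A.relIndex (Subgroup.normalizer (A : Set G)) = e → 2 ∣ e → 5 ≤ Nat.card A →
      Suzuki3240.Part A e := fun A e hA he h2 h5 => ⟨⟨fun hb => by
        rw [hb, Subgroup.card_bot] at h5; omega, hA⟩, he, h2, h5⟩
  let S : Suzuki3240.Setting G :=
    { A := ![A₁, A₂, A₃]
      e := ![2, 4, 4]
      part := fun i => by
        fin_cases i
        · exact part A₁ 2 h0 h₁ dvd_rfl hn₁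
        · exact part A₂ 4 h1 h₂ (by norm_num) hn₂.le
        · exact part A₃ 4 h2 h₃ (by norm_num) hn₃.le
      e_zero := rfl
      e_one := rfl
      e_two := rfl
      six_one := hn₂
      six_two := hn₃
      not_conj := fun i j hij g => by
        have hsym : ∀ P Q : Subgroup G, (∀ h : G, P.map (MulAut.conj h).toMonoidHom ≠ Q) →
            Q.map (MulAut.conj g).toMonoidHom ≠ P := by
          intro P Q hPQ he
          refine hPQ g⁻¹ ?_
          rw [← he, Subgroup.map_map]
          ext x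
          simp [Subgroup.mem_map, MulAut.conj_apply, mul_assoc]
        fin_cases i <;> fin_cases j <;>
          first
            | exact absurd rfl hij
            | exact (hnc g).1
            | exact (hnc g).2.1
            | exact (hnc g).2.2
            | exact hsym A₁ A₂ fun h => (hnc h).1
            | exact hsym A₁ A₃ fun h => (hnc h).2.1
            | exact hsym A₂ A₃ fun h => (hnc h).2.2
      order_le := by
        show Nat.card G ≤ 3 * (Nat.card A₁ * Nat.card A₂ * Nat.card A₃) ^ 2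
        refine hord.trans (le_of_eq ?_)
        ring }
  exact Suzuki3240.isoSuzuki_of_citList S
    (CIT.citTheorem G hG (Suzuki3240.isCIT S hG))

end Cfsg.Agent.S3240
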