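import Cfsg.Statements.S3244
import Mathlib
import Cfsg.Agent.Lib.SolvableSignalizer.ScnThree
import Cfsg.Agent.InvChar.PConstrained
import Cfsg.Agent.Lib.Transfer.Frobenius
import Cfsg.Agent.S0205

set_option autoImplicit false
set_option linter.unusedSectionVars false
open Cfsg

namespace Cfsg.Agent.S3244

open Subgroup
open scoped Pointwise

variable {G : Type*} [Group G] [Finite G]

lemma orderOf_two_sq {x : G} (hx : orderOf x = 2) : x * x = 1 := by
  rw [← pow_two, ← hx, pow_orderOf_eq_one]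

lemma orderOf_two_inv {x : G} (hx : orderOf x = 2) : x⁻¹ = x :=
  inv_eq_of_mul_eq_one_right (orderOf_two_sq hx)

/-- Two involutions are conjugate or commute with a common involution. -/
lemma conj_or_common {t z : G} (ht : orderOf t = 2) (hz : orderOf z = 2) :
    (∃ c, c * z * c⁻¹ = t) ∨ ∃ v, orderOf v = 2 ∧ Commute v t ∧ Commute v z := by
  set r := t * z with hr
  have hconj : ∀ n : ℕ, t * r ^ n * t = (r ^ n)⁻¹ ∧ z * r ^ n * z = (r ^ n)⁻¹ := by
    intro n
    have h1 : t * r * t⁻¹ = r⁻¹ := by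
      rw [hr, mul_inv_rev, orderOf_two_inv ht, orderOf_two_inv hz, ← mul_assoc t t z,
        orderOf_two_sq ht, one_mul]
    have h2 : z * r * z⁻¹ = r⁻¹ := by
      rw [hr, mul_inv_rev, orderOf_two_inv ht, orderOf_two_inv hz, mul_assoc,
        mul_assoc t z z, orderOf_two_sq hz, mul_one]
    constructor
    · rw [← inv_pow, ← h1, conj_pow, orderOf_two_inv ht]
    · rw [← inv_pow, ← h2, conj_pow, orderOf_two_inv hz]
  rcases Nat.even_or_odd (orderOf r) with ⟨k, hk⟩ | ⟨m, hm⟩
  · right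
    have hkpos : 0 < k := by have := orderOf_pos r; omega
    have ho : orderOf (r ^ k) = 2 := by
      rw [orderOf_pow_of_dvd hkpos.ne' ⟨2, by omega⟩, hk, ← two_mul, Nat.mul_div_cancel _ hkpos]
    have hi := orderOf_two_inv ho
    refine ⟨r ^ k, ho, ?_, ?_⟩
    · have h := (hconj k).1
      rw [hi] at h
      calc r ^ k * t = (t * r ^ k * t) * t := by rw [h]
        _ = _ := by rw [mul_assoc, orderOf_two_sq ht, mul_one]
    · have h := (hconj k).2
      rw [hi] at h
      calc r ^ k * z = (z * r ^ k * z) * z := by rw [h]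
        _ = _ := by rw [mul_assoc, orderOf_two_sq hz, mul_one]
  · left
    have hpow : r ^ m * r ^ m = r⁻¹ := by
      refine eq_inv_of_mul_eq_one_left ?_
      rw [← pow_add, ← pow_succ, ← two_mul, ← hm, pow_orderOf_eq_one]
    have hzr : z * (r ^ m)⁻¹ = r ^ m * z := by
      rw [← (hconj m).2, ← mul_assoc, ← mul_assoc, orderOf_two_sq hz, one_mul]
    refine ⟨z * r ^ m, ?_⟩
    calc z * r ^ m * z * (z * r ^ m)⁻¹ = z * r ^ m * (z * (r ^ m)⁻¹) * z⁻¹ := by group
      _ = z * (r ^ m * r ^ m) * z * z⁻¹ := by rw [hzr]; group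
      _ = t := by rw [hpow, hr, mul_inv_rev, orderOf_two_inv ht, orderOf_two_inv hz, mul_assoc,
          orderOf_two_sq hz, mul_one, ← mul_assoc, orderOf_two_sq hz, one_mul]

/-- An involution centralising a whole Sylow `2`-subgroup. -/
def Centred (z : G) : Prop :=
  orderOf z = 2 ∧ ∃ P : Sylow 2 G, ∀ p ∈ (P : Subgroup G), Commute z p

/-- `x` centralises `O₂` of `H`. -/
def FixesCore (H : Subgroup G) (x : G) : Prop :=
  ∀ q ∈ (Cfsg.pCore 2 ↥H).map H.subtype, Commute x q

lemma pCore_map_le_sylow {H : Subgroup G} {P : Sylow 2 G} (hP : (P : Subgroup G) ≤ H) :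
    (Cfsg.pCore 2 ↥H).map H.subtype ≤ (P : Subgroup G) := by
  rintro _ ⟨q, hq, rfl⟩
  exact PLocal.Cores.pCore_le_sylow (P.subtype hP) hq

lemma exists_sylow_le {z : G} (hz : Centred z) {U : Subgroup G} (hU : IsPGroup 2 U)
    (hUz : U ≤ centralizer ({z} : Set G)) :
    ∃ P : Sylow 2 G, U ≤ (P : Subgroup G) ∧ (P : Subgroup G) ≤ centralizer ({z} : Set G) := by
  haveI : Fact (Nat.Prime 2) := ⟨Nat.prime_two⟩
  obtain ⟨-, P₀, hP₀⟩ := hz
  set C := centralizer ({z} : Set G) with hC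
  have h0 : (P₀ : Subgroup G) ≤ C := fun p hp => mem_centralizer_singleton_iff.mpr (hP₀ p hp).eq.symm
  obtain ⟨R, hR⟩ := (hU.comap_subtype (K := C)).exists_le_sylow
  obtain ⟨P, hP⟩ := (R.isPGroup'.map C.subtype).exists_le_sylow
  have hcard : Nat.card (P : Subgroup G) ≤ Nat.card ((R : Subgroup C).map C.subtype) := by
    rw [card_map_of_injective C.subtype_injective, R.card_eq_multiplicity,
      ← (P₀.subtype h0).card_eq_multiplicity, P.card_eq_multiplicity, ← P₀.card_eq_multiplicity]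
    exact le_of_eq (Nat.card_congr (subgroupOfEquivOfLe h0).toEquiv).symm
  have heq := eq_of_le_of_card_ge hP hcard
  refine ⟨P, fun u hu => ?_, heq ▸ map_subtype_le _⟩
  rw [← heq]
  exact ⟨⟨u, hUz hu⟩, hR hu, rfl⟩

section Cyclic

variable [IsSimpleGroup G]

lemma maximal_data
    (hcore : ∀ t : G, orderOf t = 2 → Cfsg.pPrimeCore 2 ↥(centralizer ({t} : Set G)) = ⊥)
    (hcon : ∀ T : Subgroup G, IsPGroup 2 ↥T → T ≠ ⊥ →
      Cfsg.IsPConstrained 2 ↥(normalizer (T : Set G)))
    (hcyc : ∀ M : Subgroup G, Cfsg.IsMaximalTwoLocal M →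
      IsCyclic ↥(center ↥(Cfsg.pCore 2 ↥M)))
    {M : Subgroup G} (hM : Cfsg.IsMaximalTwoLocal M) :
    ∃ w : G, orderOf w = 2 ∧ M = centralizer ({w} : Set G) ∧
      w ∈ (Cfsg.pCore 2 ↥M).map M.subtype ∧
      ∀ x : G, orderOf x = 2 → FixesCore M x → x = w := by
  haveI : Fact (Nat.Prime 2) := ⟨Nat.prime_two⟩
  obtain ⟨T, hT, hT1, hMT⟩ := hM.1
  set Q := Cfsg.pCore 2 ↥M with hQ
  have hTM : T ≤ M := hMT ▸ le_normalizer
  have hTn : (T.subgroupOf M).Normal :=
    (normal_subgroupOf_iff_le_normalizer hTM).mpr hMT.le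
  have hTQ : T.subgroupOf M ≤ Q :=
    haveI := hTn; PLocal.Cores.le_pCore (p := 2) hT.comap_subtype
  have hQp : IsPGroup 2 Q := PLocal.Cores.isPGroup_pCore
  haveI : Nontrivial ↥Q := by
    rw [nontrivial_iff_ne_bot]
    intro h
    refine hT1 ?_
    rw [eq_bot_iff]
    intro a ha
    have := hTQ (show (⟨a, hTM ha⟩ : M) ∈ T.subgroupOf M from ha)
    rw [h, mem_bot] at this
    exact congrArg Subtype.val this
  haveI := hQp.center_nontrivial
  obtain ⟨n, hn, hcard⟩ := (hQp.to_subgroup (center ↥Q)).nontrivial_iff_card.mp inferInstance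
  obtain ⟨c, hc⟩ := exists_prime_orderOf_dvd_card' (G := ↥(center ↥Q)) 2
    (hcard ▸ dvd_pow_self 2 hn.ne')
  set w : G := (((c : ↥Q) : ↥M) : G) with hw
  have how : orderOf w = 2 := by
    rw [hw, orderOf_coe, orderOf_coe, orderOf_coe, hc]
  have huniq : ∀ d : ↥(center ↥Q), orderOf d = 2 → d = c := by
    intro d hd
    haveI := hcyc M hM
    classical
    haveI := Fintype.ofFinite ↥(center ↥Q)
    by_contra hne
    have h3 := IsCyclic.card_pow_eq_one_le (α := ↥(center ↥Q)) (n := 2) two_pos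
    have hsub : ({1, c, d} : Finset ↥(center ↥Q)) ⊆
        Finset.univ.filter (fun a => a ^ 2 = 1) := by
      intro a ha
      simp only [Finset.mem_insert, Finset.mem_singleton] at ha
      simp only [Finset.mem_filter, Finset.mem_univ, true_and]
      rcases ha with rfl | rfl | rfl
      · exact one_pow 2
      · rw [← hc, pow_orderOf_eq_one]
      · rw [← hd, pow_orderOf_eq_one]
    have hc1 : (1 : ↥(center ↥Q)) ≠ c := fun e => by rw [← e, orderOf_one] at hc; omega
    have hd1 : (1 : ↥(center ↥Q)) ≠ d := fun e => by rw [← e, orderOf_one] at hd; omega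
    have := (Finset.card_le_card hsub).trans h3
    rw [Finset.card_eq_three.mpr ⟨1, c, d, hc1, hd1, Ne.symm hne, rfl⟩] at this
    omega
  have hMw : M ≤ centralizer ({w} : Set G) := by
    intro g hg
    set g' : ↥M := ⟨g, hg⟩
    have hmem : g' * ((c : ↥Q) : ↥M) * g'⁻¹ ∈ Q :=
      (inferInstance : Q.Normal).conj_mem _ (c : ↥Q).2 _
    have hcen : (⟨_, hmem⟩ : ↥Q) ∈ center ↥Q := by
      rw [Subgroup.mem_center_iff]
      intro q
      have hq : g'⁻¹ * (q : ↥M) * g' ∈ Q := by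
        simpa using (inferInstance : Q.Normal).conj_mem _ q.2 g'⁻¹
      have := congrArg Subtype.val (Subgroup.mem_center_iff.mp c.2 ⟨_, hq⟩)
      simp only [Subgroup.coe_mul] at this
      apply Subtype.ext
      simp only [Subgroup.coe_mul]
      calc (q : ↥M) * (g' * ((c : ↥Q) : ↥M) * g'⁻¹)
          = g' * ((g'⁻¹ * (q : ↥M) * g') * ((c : ↥Q) : ↥M)) * g'⁻¹ := by group
        _ = g' * (((c : ↥Q) : ↥M) * (g'⁻¹ * (q : ↥M) * g')) * g'⁻¹ := by rw [this]
        _ = _ := by group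
    have hord : orderOf (⟨⟨_, hmem⟩, hcen⟩ : ↥(center ↥Q)) = 2 := by
      rw [← orderOf_coe, ← orderOf_coe, ← orderOf_coe]
      simp only [Subgroup.coe_mul, Subgroup.coe_inv]
      show orderOf (g * w * g⁻¹) = 2
      rw [← how, ← MulAut.conj_apply g w]
      exact orderOf_injective (MulAut.conj g).toMonoidHom (MulAut.conj g).injective w
    have := congrArg (fun a : ↥(center ↥Q) => (((a : ↥Q) : ↥M) : G)) (huniq _ hord)
    simp only [Subgroup.coe_mul, Subgroup.coe_inv] at this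
    change g * w * g⁻¹ = w at this
    refine mem_centralizer_singleton_iff.mpr ?_
    calc g * w = g * w * g⁻¹ * g := by group
      _ = w * g := by rw [this]
  have hloc : Cfsg.IsTwoLocal (centralizer ({w} : Set G)) :=
    ⟨zpowers w, IsPGroup.of_card (n := 1) (by rw [Nat.card_zpowers, how, pow_one]),
      zpowers_ne_bot.mpr (fun e => by rw [e, orderOf_one] at how; omega),
      (SolvableSignalizer.centralizer_eq_normalizer how).symm⟩
  have hMC : M = centralizer ({w} : Set G) := (hM.2 _ hloc hMw).symm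
  refine ⟨w, how, hMC, ⟨_, (c : ↥Q).2, rfl⟩, fun x hx hfix => ?_⟩
  have hxM : x ∈ M := by
    rw [hMC]
    exact mem_centralizer_singleton_iff.mpr (hfix w ⟨_, (c : ↥Q).2, rfl⟩).eq
  have hpc : Cfsg.pPrimeCore 2 ↥M = ⊥ := by
    rw [hMC]
    exact hcore w how
  have hcM : Cfsg.IsPConstrained 2 ↥M := by
    rw [hMT]
    exact hcon T hT hT1
  have hchar : centralizer (Q : Set ↥M) ≤ Q :=
    (InvChar.PConstrained.iff_of_surjective (MonoidHom.id ↥M) (fun a => ⟨a, rfl⟩) (by simp)
      hpc).1 hcM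
  have hxQ : (⟨x, hxM⟩ : ↥M) ∈ Q :=
    hchar (mem_centralizer_iff.mpr fun q hq => Subtype.ext (hfix q ⟨q, hq, rfl⟩).eq.symm)
  have hxc : (⟨_, hxQ⟩ : ↥Q) ∈ center ↥Q := Subgroup.mem_center_iff.mpr fun q =>
    Subtype.ext (Subtype.ext (hfix _ ⟨q.1, q.2, rfl⟩).eq.symm)
  have hord : orderOf (⟨⟨_, hxQ⟩, hxc⟩ : ↥(center ↥Q)) = 2 := by
    rw [← orderOf_coe, ← orderOf_coe, ← orderOf_coe]; exact hx
  exact congrArg (fun a : ↥(center ↥Q) => (((a : ↥Q) : ↥M) : G)) (huniq _ hord)

lemma isTwoLocal_centralizer {w : G} (how : orderOf w = 2) :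
    Cfsg.IsTwoLocal (centralizer ({w} : Set G)) :=
  ⟨zpowers w, IsPGroup.of_card (n := 1) (by rw [Nat.card_zpowers, how, pow_one]),
    zpowers_ne_bot.mpr (fun e => by rw [e, orderOf_one] at how; omega),
    (SolvableSignalizer.centralizer_eq_normalizer how).symm⟩

lemma centred_step
    (hcore : ∀ t : G, orderOf t = 2 → Cfsg.pPrimeCore 2 ↥(centralizer ({t} : Set G)) = ⊥)
    (hcon : ∀ T : Subgroup G, IsPGroup 2 ↥T → T ≠ ⊥ →
      Cfsg.IsPConstrained 2 ↥(normalizer (T : Set G)))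
    (hcyc : ∀ M : Subgroup G, Cfsg.IsMaximalTwoLocal M →
      IsCyclic ↥(center ↥(Cfsg.pCore 2 ↥M))) :
    (∀ N : Subgroup G, Cfsg.IsTwoLocal N →
        ∃ u, Centred u ∧ N ≤ centralizer ({u} : Set G)) ∧
    (∀ z x : G, Centred z → orderOf x = 2 → ∀ P : Sylow 2 G,
        (P : Subgroup G) ≤ centralizer ({z} : Set G) → (∀ p ∈ (P : Subgroup G), Commute x p) →
        x = z) := by
  haveI : Fact (Nat.Prime 2) := ⟨Nat.prime_two⟩
  have habove : ∀ N : Subgroup G, Cfsg.IsTwoLocal N →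
      ∃ M : Subgroup G, Cfsg.IsMaximalTwoLocal M ∧ N ≤ M := by
    intro N hN
    obtain ⟨M, hle, hmax⟩ := Finite.exists_le_maximal (p := Cfsg.IsTwoLocal) hN
    exact ⟨M, ⟨hmax.prop, fun L hL hML => le_antisymm (hmax.le_of_ge hL hML) hML⟩, hle⟩
  constructor
  · intro N hN
    obtain ⟨M, hM, hle⟩ := habove N hN
    obtain ⟨w, how, hMC, hwQ, hu⟩ := maximal_data hcore hcon hcyc hM
    refine ⟨w, ⟨how, ?_⟩, hMC ▸ hle⟩
    obtain ⟨R⟩ : Nonempty (Sylow 2 ↥M) := inferInstance
    obtain ⟨P, hP⟩ := (R.isPGroup'.map M.subtype).exists_le_sylow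
    have hQR : (Cfsg.pCore 2 ↥M).map M.subtype ≤ (P : Subgroup G) :=
      (map_mono (PLocal.Cores.pCore_le_sylow R)).trans hP
    haveI : Nontrivial (P : Subgroup G) := by
      rw [nontrivial_iff_ne_bot]
      intro h
      have := hQR hwQ
      rw [h, mem_bot] at this
      rw [this, orderOf_one] at how
      omega
    haveI := P.isPGroup'.center_nontrivial
    obtain ⟨n, hn, hcard⟩ :=
      (P.isPGroup'.to_subgroup (center (P : Subgroup G))).nontrivial_iff_card.mp inferInstance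
    obtain ⟨c, hc⟩ := exists_prime_orderOf_dvd_card' (G := ↥(center (P : Subgroup G))) 2
      (hcard ▸ dvd_pow_self 2 hn.ne')
    have hcomm : ∀ p ∈ (P : Subgroup G), Commute ((c : (P : Subgroup G)) : G) p := fun p hp =>
      (congrArg Subtype.val (Subgroup.mem_center_iff.mp c.2 ⟨p, hp⟩)).symm
    have hcw : ((c : (P : Subgroup G)) : G) = w :=
      hu _ (by rw [orderOf_coe, orderOf_coe, hc]) fun q hq => hcomm q (hQR hq)
    exact ⟨P, fun p hp => hcw ▸ hcomm p hp⟩
  · intro z x hz hx P hP hxP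
    obtain ⟨hoz, P₀, hP₀⟩ := hz
    obtain ⟨M, hM, hle⟩ := habove _ (isTwoLocal_centralizer hoz)
    obtain ⟨w, how, hMC, hwQ, hu⟩ := maximal_data hcore hcon hcyc hM
    have h0 : (P₀ : Subgroup G) ≤ M := fun p hp =>
      hle (mem_centralizer_singleton_iff.mpr (hP₀ p hp).eq.symm)
    have hzw : z = w := hu z hoz fun q hq => hP₀ q (pCore_map_le_sylow h0 hq)
    have hxw : x = w := hu x hx fun q hq => hxP q (pCore_map_le_sylow (hP.trans hle) hq)
    rw [hxw, hzw]

lemma centred_eq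
    (hcore : ∀ t : G, orderOf t = 2 → Cfsg.pPrimeCore 2 ↥(centralizer ({t} : Set G)) = ⊥)
    (hcon : ∀ T : Subgroup G, IsPGroup 2 ↥T → T ≠ ⊥ →
      Cfsg.IsPConstrained 2 ↥(normalizer (T : Set G)))
    (hcyc : ∀ M : Subgroup G, Cfsg.IsMaximalTwoLocal M →
      IsCyclic ↥(center ↥(Cfsg.pCore 2 ↥M)))
    (U : Subgroup G) : IsPGroup 2 U → U ≠ ⊥ → ∀ z z' : G, Centred z → Centred z' →
      U ≤ centralizer ({z} : Set G) → U ≤ centralizer ({z'} : Set G) → z = z' := by
  haveI : Fact (Nat.Prime 2) := ⟨Nat.prime_two⟩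
  obtain ⟨hloc, hfull⟩ := centred_step hcore hcon hcyc
  induction U using WellFoundedGT.induction with
  | ind U ih =>
    intro hU hU1 z z' hz hz' hUz hUz'
    obtain ⟨u, hu, hNu⟩ := hloc _ ⟨U, hU, hU1, rfl⟩
    have grow : ∀ a b : G, Centred a → Centred b → U ≤ centralizer ({a} : Set G) →
        U ≤ centralizer ({b} : Set G) → a = b ∨ a = u := by
      intro a b ha hb hUa hUb
      obtain ⟨P, hUP, hPa⟩ := exists_sylow_le ha hU hUa
      rcases hUP.lt_or_eq with hlt | heq
      · right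
        have hgt := Transfer.Frobenius.lt_inf_normalizer P.isPGroup' hlt
        exact ih _ hgt (P.isPGroup'.to_le inf_le_left) (ne_bot_of_gt hgt) a u ha hu
          (inf_le_left.trans hPa) (inf_le_right.trans hNu)
      · left
        refine (hfull a b ha hb.1 P hPa fun p hp => ?_).symm
        exact (mem_centralizer_singleton_iff.mp (hUb (heq ▸ hp))).symm
    rcases grow z z' hz hz' hUz hUz' with h | h
    · exact h
    · rcases grow z' z hz' hz hUz' hUz with h' | h'
      · exact h'.symm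
      · rw [h, h']

theorem no_cyclic
    (hG : ¬ IsMulCommutative G)
    (hcore : ∀ t : G, orderOf t = 2 → Cfsg.pPrimeCore 2 ↥(centralizer ({t} : Set G)) = ⊥)
    (hcon : ∀ T : Subgroup G, IsPGroup 2 ↥T → T ≠ ⊥ →
      Cfsg.IsPConstrained 2 ↥(normalizer (T : Set G)))
    (hcyc : ∀ M : Subgroup G, Cfsg.IsMaximalTwoLocal M →
      IsCyclic ↥(center ↥(Cfsg.pCore 2 ↥M)))
    {t₁ t₂ : G} (h1 : orderOf t₁ = 2) (h2 : orderOf t₂ = 2) (h12 : Commute t₁ t₂)
    (hne : t₁ ≠ t₂) : False := by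
  haveI : Fact (Nat.Prime 2) := ⟨Nat.prime_two⟩
  obtain ⟨hloc, hfull⟩ := centred_step hcore hcon hcyc
  have hline : ∀ t : G, orderOf t = 2 → IsPGroup 2 (zpowers t) ∧ zpowers t ≠ ⊥ := fun t ht =>
    ⟨IsPGroup.of_card (n := 1) (by rw [Nat.card_zpowers, ht, pow_one]),
      zpowers_ne_bot.mpr (fun e => by rw [e, orderOf_one] at ht; omega)⟩
  have hmem : ∀ {a b : G}, Commute a b → zpowers a ≤ centralizer ({b} : Set G) := fun h =>
    zpowers_le.mpr (mem_centralizer_singleton_iff.mpr h.eq)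
  have hpair : ∀ t z z' : G, orderOf t = 2 → Centred z → Centred z' → Commute t z →
      Commute t z' → z = z' := fun t z z' ht hz hz' hc hc' =>
    centred_eq hcore hcon hcyc _ (hline t ht).1 (hline t ht).2 z z' hz hz' (hmem hc) (hmem hc')
  obtain ⟨t, ht, htn⟩ : ∃ t : G, orderOf t = 2 ∧ ¬ Centred t := by
    by_contra hall
    push Not at hall
    exact hne (hpair t₁ t₁ t₂ h1 (hall _ h1) (hall _ h2) (Commute.refl _) h12)
  have hconj : ∀ z g : G, Centred z → Centred (g * z * g⁻¹) := by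
    rintro z g ⟨hoz, P, hP⟩
    refine ⟨?_, g • P, fun p hp => ?_⟩
    · rw [← hoz, ← MulAut.conj_apply g z]
      exact orderOf_injective (MulAut.conj g).toMonoidHom (MulAut.conj g).injective z
    · rw [Sylow.coe_subgroup_smul] at hp
      obtain ⟨p', hp', rfl⟩ := hp
      exact (hP p' hp').map (MulAut.conj g).toMonoidHom
  have hall : ∀ z : G, Centred z → Commute t z := by
    intro z hz
    rcases conj_or_common ht hz.1 with ⟨c, hc⟩ | ⟨v, hv, hvt, hvz⟩
    · exact absurd (hc ▸ hconj z c hz) htn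
    · obtain ⟨u, hu, hle⟩ := hloc _ (isTwoLocal_centralizer hv)
      have hcv : ∀ {x : G}, Commute x v → Commute x u := fun h =>
        mem_centralizer_singleton_iff.mp (hle (mem_centralizer_singleton_iff.mpr h.eq))
      rw [show z = u from hpair v z u hv hz hu hvz (hcv (Commute.refl v))]
      exact hcv hvt.symm
  obtain ⟨z, hz, -⟩ := hloc _ (isTwoLocal_centralizer ht)
  have hzc : z ∈ center G := Subgroup.mem_center_iff.mpr fun g => by
    have h := hpair t (g * z * g⁻¹) z ht (hconj z g hz) hz (hall _ (hconj z g hz)) (hall z hz)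
    calc g * z = g * z * g⁻¹ * g := by group
      _ = z * g := by rw [h]
  rcases (inferInstance : (center G).Normal).eq_bot_or_eq_top with h | h
  · rw [h, mem_bot] at hzc
    have := hz.1
    rw [hzc, orderOf_one] at this
    omega
  · exact hG ⟨⟨fun a b => (Subgroup.mem_center_iff.mp (h ▸ mem_top b) a)⟩⟩

end Cyclic


/-- Say that a finite group G is of characteristic 2 type in the early sense when a Sylow 2-subgroup S of G has a self-centralizing normal subgroup of rank at least 3, S normalizes no nontrivial subgroup of odd order, and every 2-local subgroup of G is 2-constrained. If G is a non-abelian simple group of characteristic 2 type in this sense, then for some maximal 2-local subgroup M of G the centre of O₂(M) is not cyclic. -/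
theorem result {G : Type*} [Group G] [Finite G] [IsSimpleGroup G]
    (hG : ¬ IsMulCommutative G) (S : Sylow 2 G) (A : Subgroup G) (hA : Cfsg.IsSCN (S : Subgroup G) A) (hA3 : ¬ Cfsg.PRankLE 2 2 ↥A)
    (hinv : ∀ X : Subgroup G, Odd (Nat.card ↥X) → (S : Subgroup G) ≤ Subgroup.normalizer (X : Set G) → X = ⊥)
    (hcon : ∀ T : Subgroup G, IsPGroup 2 ↥T → T ≠ ⊥ → Cfsg.IsPConstrained 2 ↥(Subgroup.normalizer (T : Set G))) :
    ∃ M : Subgroup G, Cfsg.IsMaximalTwoLocal M ∧ ¬ IsCyclic ↥(Subgroup.center ↥(Cfsg.pCore 2 ↥M)) := by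
  haveI : Fact (Nat.Prime 2) := ⟨Nat.prime_two⟩
  obtain ⟨hAS, hSA, hCA⟩ := hA
  have hAn : (A.subgroupOf (S : Subgroup G)).Normal :=
    (normal_subgroupOf_iff_le_normalizer hAS).mpr hSA
  have hAc : ∀ a ∈ A, ∀ b ∈ A, a * b = b * a := fun a ha b hb =>
    mem_centralizer_iff.mp ((le_of_eq hCA.symm) hb).2 a ha
  have hAab : IsMulCommutative ↥(A.subgroupOf (S : Subgroup G)) :=
    ⟨⟨fun a b => Subtype.ext (Subtype.ext (hAc _ a.2 _ b.2))⟩⟩
  have hA3' : ¬ Cfsg.PRankLE 2 2 ↥(A.subgroupOf (S : Subgroup G)) := by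
    intro h
    refine hA3 fun D hD hDp => ?_
    set e := (subgroupOfEquivOfLe hAS).symm.toMonoidHom
    have hinj : Function.Injective e := (subgroupOfEquivOfLe hAS).symm.injective
    haveI := hD
    rw [← card_map_of_injective (K := D) hinj]
    refine h _ inferInstance ?_
    rintro _ ⟨d, hd, rfl⟩
    rw [← map_pow, hDp d hd, map_one]
  have hS1 : ¬ Cfsg.PRankLE 2 1 ↥(S : Subgroup G) := by
    intro h
    refine hA3 fun D hD hDp => ?_
    haveI := hD
    rw [← card_map_of_injective (K := D) (inclusion_injective hAS)]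
    refine (h _ inferInstance ?_).trans (by norm_num)
    rintro _ ⟨d, hd, rfl⟩
    rw [← map_pow, hDp d hd, map_one]
  obtain ⟨W, hWodd, hW⟩ := SolvableSignalizer.cores_generate
    (fun H hH => Cfsg.Agent.S0205.result hH) hcon S hAn hAab hA3' S
  obtain ⟨hWeq, hWn⟩ := hW (S : Subgroup G) le_rfl hS1
  have hW0 : W = ⊥ := hinv W hWodd (le_normalizer.trans hWn)
  have hcore : ∀ t : G, orderOf t = 2 → Cfsg.pPrimeCore 2 ↥(centralizer ({t} : Set G)) = ⊥ := by
    intro t ht
    rw [← Subgroup.map_eq_bot_iff_of_injective _ (centralizer ({t} : Set G)).subtype_injective]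
    change Cfsg.centralizerPPrimeCore 2 t = ⊥
    obtain ⟨P, hP⟩ := (IsPGroup.of_card (n := 1) (p := 2) (G := ↥(zpowers t))
      (by rw [Nat.card_zpowers, ht, pow_one])).exists_le_sylow
    obtain ⟨g, rfl⟩ := MulAction.exists_smul_eq G S P
    have htm := hP (mem_zpowers t)
    rw [Sylow.coe_subgroup_smul] at htm
    obtain ⟨b, hb, rfl⟩ := htm
    have hb1 : b ≠ 1 := fun e => by simp [e] at ht
    have hcb : Cfsg.centralizerPPrimeCore 2 b = ⊥ := by
      rw [← le_bot_iff, ← hW0, hWeq]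
      exact le_iSup (fun c : {c : G // c ∈ (S : Subgroup G) ∧ c ≠ 1} =>
        Cfsg.centralizerPPrimeCore 2 (c : G)) ⟨b, hb, hb1⟩
    show Cfsg.centralizerPPrimeCore 2 (g * b * g⁻¹) = ⊥
    rw [SolvableSignalizer.centralizerPPrimeCore_conj 2 b g, hcb, Subgroup.map_bot]
  obtain ⟨t₁, t₂, h1, h2, h12, hne⟩ : ∃ t₁ t₂ : G, orderOf t₁ = 2 ∧ orderOf t₂ = 2 ∧
      Commute t₁ t₂ ∧ t₁ ≠ t₂ := by
    simp only [Cfsg.PRankLE, not_forall, not_le] at hA3
    obtain ⟨D, -, hDp, hD⟩ := hA3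
    have ho : ∀ d ∈ D, d ≠ 1 → orderOf (d : G) = 2 := fun d hd hd1 => by
      rw [orderOf_coe]
      exact orderOf_eq_prime (hDp d hd) hd1
    obtain ⟨a, ha, ha1⟩ : ∃ a ∈ D, a ≠ 1 := by
      by_contra hall
      push Not at hall
      have : D = ⊥ := (Subgroup.eq_bot_iff_forall _).mpr hall
      rw [this, card_bot] at hD
      omega
    obtain ⟨b, hb, hb1, hba⟩ : ∃ b ∈ D, b ≠ 1 ∧ b ≠ a := by
      by_contra hall
      push Not at hall
      have hle : (D : Set ↥A) ⊆ {1, a} := fun b hb => by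
        by_cases hb1 : b = 1
        · exact Or.inl hb1
        · exact Or.inr (hall b hb hb1)
      have hcd : Nat.card ↥D ≤ 2 := by
        calc Nat.card ↥D = (D : Set ↥A).ncard := rfl
          _ ≤ ({1, a} : Set ↥A).ncard := Set.ncard_le_ncard hle (Set.toFinite _)
          _ ≤ 2 := (Set.ncard_insert_le _ _).trans (by rw [Set.ncard_singleton])
      omega
    exact ⟨a, b, ho a ha ha1, ho b hb hb1, hAc _ a.2 _ b.2, fun e => hba (Subtype.ext e.symm)⟩
  by_contra hcyc
  push Not at hcyc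
  exact no_cyclic hG hcore hcon hcyc h1 h2 h12 hne

end Cfsg.Agent.S3244
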