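import Cfsg.Statements.S3247
import Mathlib
import Cfsg.Agent.InvChar.PConstrained

set_option linter.all false

set_option autoImplicit false
open Cfsg

namespace Cfsg.Agent.S3247

theorem centralizer_case {G : Type*} [Group G] [Finite G] {p : ℕ} [hp : Fact p.Prime]
    (h : ∀ x : G, orderOf x = p → Cfsg.IsPConstrained p ↥(Subgroup.centralizer ({x} : Set G)))
    {T : Subgroup G} (hT : IsPGroup p T) (hT1 : T ≠ ⊥) :
    Cfsg.IsPConstrained p ↥(Subgroup.normalizer (T : Set G)) := by
  refine Cfsg.Agent.InvChar.PConstrained.normalizer_of_centralizer hT ?_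
  have : Nontrivial T := T.nontrivial_iff_ne_bot.2 hT1
  obtain ⟨y, hy⟩ := exists_prime_orderOf_dvd_card' p (G := Subgroup.center T) (by
    obtain ⟨k, hk⟩ := IsPGroup.iff_card.1 (hT.to_subgroup (Subgroup.center T))
    have hn : Nontrivial (Subgroup.center T) := hT.center_nontrivial
    have hk0 : k ≠ 0 := fun e => by
      rw [e, pow_zero] at hk
      have := Finite.one_lt_card_iff_nontrivial.2 hn
      omega
    rw [hk]; exact dvd_pow_self p hk0)
  have hc := h ((y : T) : G) (by rw [Subgroup.orderOf_coe, Subgroup.orderOf_coe, hy])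
  set D := Subgroup.centralizer ({((y : T) : G)} : Set G) with hD
  have hTD : T ≤ D := fun t ht => Subgroup.mem_centralizer_singleton_iff.2
    (congrArg Subtype.val (Subgroup.mem_center_iff.1 y.2 ⟨t, ht⟩))
  have hCD : Subgroup.centralizer (T : Set G) ≤ D := fun c hc => Subgroup.mem_centralizer_singleton_iff.2
    (Subgroup.mem_centralizer_iff.1 hc _ (y : T).2).symm
  have e : Subgroup.centralizer (T.subgroupOf D : Set D) = (Subgroup.centralizer (T : Set G)).subgroupOf D := by
    ext x
    simp only [Subgroup.mem_subgroupOf, Subgroup.mem_centralizer_iff, SetLike.mem_coe]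
    exact ⟨fun hx t ht => congrArg Subtype.val (hx ⟨t, hTD ht⟩ ht), fun hx t ht => Subtype.ext (hx t ht)⟩
  have hres := Cfsg.Agent.InvChar.PConstrained.centralizer_constrained hc
    (P := T.subgroupOf D) hT.comap_subtype
  rw [e] at hres
  exact Cfsg.Agent.InvChar.PConstrained.constrained_of_equiv (Subgroup.subgroupOfEquivOfLe hCD) hres

theorem maximal_case {G : Type*} [Group G] [Finite G] {p : ℕ} [hp : Fact p.Prime]
    (h : ∀ M : Subgroup G, (∃ T : Subgroup G, IsPGroup p ↥T ∧ T ≠ ⊥ ∧ M = Subgroup.normalizer (T : Set G)) → M ≠ ⊤ →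
      (∀ M' : Subgroup G, (∃ T' : Subgroup G, IsPGroup p ↥T' ∧ T' ≠ ⊥ ∧ M' = Subgroup.normalizer (T' : Set G)) →
        M' ≠ ⊤ → M ≤ M' → M = M') → Cfsg.IsPConstrained p ↥M)
    {T : Subgroup G} (hT : IsPGroup p T) (hT1 : T ≠ ⊥) (hTG : Subgroup.normalizer (T : Set G) ≠ ⊤) :
    Cfsg.IsPConstrained p ↥(Subgroup.normalizer (T : Set G)) := by
  set L : Set (Subgroup G) := {M | (∃ T' : Subgroup G, IsPGroup p ↥T' ∧ T' ≠ ⊥ ∧
    M = Subgroup.normalizer (T' : Set G)) ∧ M ≠ ⊤} with hL
  obtain ⟨M, hNM, hM⟩ := L.toFinite.exists_le_maximal (a := Subgroup.normalizer (T : Set G))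
    ⟨⟨T, hT, hT1, rfl⟩, hTG⟩
  have hc := h M hM.prop.1 hM.prop.2 fun M' h1 h2 h3 => le_antisymm h3 (hM.le_of_ge ⟨h1, h2⟩ h3)
  have hres := Cfsg.Agent.InvChar.PConstrained.normalizer_constrained hc
    (P := T.subgroupOf M) hT.comap_subtype
  have e : Subgroup.normalizer (T.subgroupOf M : Set M) = (Subgroup.normalizer (T : Set G)).subgroupOf M :=
    (Subgroup.subgroupOf_normalizer_eq (Subgroup.le_normalizer.trans hNM)).symm
  rw [e] at hres
  exact Cfsg.Agent.InvChar.PConstrained.constrained_of_equiv (Subgroup.subgroupOfEquivOfLe hNM) hres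

/-- Let G be a finite group and p a prime; here a p-local subgroup means the normalizer of a nontrivial p-subgroup, other than G itself. If every p-local subgroup of G that is maximal among p-local subgroups is p-constrained, or if the centralizer of every element of order p of G is p-constrained, then every p-local subgroup of G is p-constrained. -/
theorem result {G : Type*} [Group G] [Finite G] (p : ℕ) [hp : Fact p.Prime]
    (h : (∀ M : Subgroup G, (∃ T : Subgroup G, IsPGroup p ↥T ∧ T ≠ ⊥ ∧ M = Subgroup.normalizer (T : Set G)) → M ≠ ⊤ →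
        (∀ M' : Subgroup G, (∃ T' : Subgroup G, IsPGroup p ↥T' ∧ T' ≠ ⊥ ∧ M' = Subgroup.normalizer (T' : Set G)) → M' ≠ ⊤ → M ≤ M' → M = M') →
        Cfsg.IsPConstrained p ↥M) ∨
      (∀ x : G, orderOf x = p → Cfsg.IsPConstrained p ↥(Subgroup.centralizer ({x} : Set G))))
    (T : Subgroup G) (hT : IsPGroup p ↥T) (hT1 : T ≠ ⊥) (hTG : Subgroup.normalizer (T : Set G) ≠ ⊤) :
    Cfsg.IsPConstrained p ↥(Subgroup.normalizer (T : Set G)) := by
  rcases h with h | h
  · exact maximal_case h hT hT1 hTG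
  · exact centralizer_case h hT hT1

end Cfsg.Agent.S3247
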