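import Cfsg.Statements.S3246
import Mathlib
import Cfsg.Agent.InvChar.PConstrained
import Cfsg.Agent.Lib.Coprime.Generation
import Cfsg.Agent.Lib.PGroups.Normal
import Cfsg.Agent.S3247

set_option linter.all false

set_option autoImplicit false
open Cfsg

namespace Cfsg.Agent.S3246

open Subgroup in
theorem key {G : Type*} [Group G] [Finite G] (S : Sylow 2 G) {M S0 Y : Subgroup G}
    (hc : Cfsg.IsPConstrained 2 M) (hO : Cfsg.oddCore M = ⊥) (hS0 : S0 ≤ M) (hS0p : IsPGroup 2 S0)
    (hidx : Nat.card (S : Subgroup G) ≤ 2 * Nat.card S0) (hY : Y ≤ M) (hYo : Odd (Nat.card Y))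
    (hn : S0 ≤ normalizer (Y : Set G)) : Y = ⊥ := by
  haveI : Fact (Nat.Prime 2) := ⟨Nat.prime_two⟩
  have hcop : (Nat.card Y).Coprime 2 := hYo.coprime_two_right
  have hO' : Cfsg.pPrimeCore 2 M = ⊥ := hO
  have hchar : centralizer (Cfsg.pCore 2 M : Set M) ≤ Cfsg.pCore 2 M :=
    (InvChar.PConstrained.iff_of_surjective (MonoidHom.id M) (fun x => ⟨x, rfl⟩) (by simp) hO').1 hc
  set P := Cfsg.pCore 2 M with hP
  have hPp : IsPGroup 2 P := Cores.pCore_isPGroup 2
  set T := S0.subgroupOf M with hT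
  set Y' := Y.subgroupOf M with hY'
  have hTp : IsPGroup 2 T := hS0p.comap_subtype
  have hTc : Nat.card T = Nat.card S0 := Nat.card_congr (subgroupOfEquivOfLe hS0).toEquiv
  have hYc : Nat.card Y' = Nat.card Y := Nat.card_congr (subgroupOfEquivOfLe hY).toEquiv
  have hTY : T ≤ normalizer (Y' : Set M) := fun t ht => by
    have := subgroupOf_normalizer_eq (H := Y) (N := M) hY
    rw [← this]; exact hn ht
  have hsup : IsPGroup 2 ↥(T ⊔ P) := hTp.to_sup_of_normal_right hPp
  obtain ⟨Q, hQ⟩ := (hsup.map M.subtype).exists_le_sylow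
  have hle : Nat.card ↥(T ⊔ P) ≤ Nat.card (S : Subgroup G) := by
    rw [← card_map_of_injective M.subtype_injective, S.card_eq_multiplicity, ← Q.card_eq_multiplicity]
    exact Nat.le_of_dvd Nat.card_pos (card_dvd_of_le hQ)
  have hmul := Cores.card_sup_mul_card_inf T P
  have hP0 : Nat.card P ≤ 2 * Nat.card ↥(T ⊓ P) := by
    have h1 : Nat.card T * Nat.card P ≤ Nat.card T * (2 * Nat.card ↥(T ⊓ P)) := by
      rw [← hmul]
      calc Nat.card ↥(T ⊔ P) * Nat.card ↥(T ⊓ P) ≤ 2 * Nat.card T * Nat.card ↥(T ⊓ P) :=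
            Nat.mul_le_mul_right _ (hle.trans (hidx.trans (le_of_eq (by rw [hTc]))))
        _ = _ := by ring
    exact Nat.le_of_mul_le_mul_left h1 Nat.card_pos
  have hd : Disjoint Y' P := by
    obtain ⟨k, hk⟩ := IsPGroup.iff_card.1 hPp
    exact disjoint_of_coprime_natCard (by rw [hYc, hk]; exact hcop.pow_right k)
  have hYP0 : Y' ≤ centralizer ((T ⊓ P : Subgroup M) : Set M) := by
    intro y hy
    rw [mem_centralizer_iff]
    rintro s ⟨hs, hsP⟩
    have h1 : s * y * s⁻¹ * y⁻¹ ∈ Y' := Y'.mul_mem ((mem_normalizer_iff.1 (hTY hs) y).1 hy) (Y'.inv_mem hy)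
    have h2 : s * (y * s⁻¹ * y⁻¹) ∈ P :=
      P.mul_mem hsP ((inferInstance : P.Normal).conj_mem _ (P.inv_mem hsP) y)
    have := disjoint_def.1 hd h1 (by rwa [mul_assoc, mul_assoc, ← mul_assoc y])
    rw [mul_inv_eq_one, mul_inv_eq_iff_eq_mul] at this
    exact this
  have hser : Y' ≤ centralizer (P : Set M) := by
    refine Coprime.le_centralizer_of_series (N := T ⊓ P) ?_ ?_ ?_ hYP0 ?_
    · rw [normalizer_eq_top]; exact le_top
    · obtain ⟨k, hk⟩ := IsPGroup.iff_card.1 hPp
      rw [hYc, hk]; exact hcop.pow_right k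
    · exact Or.inr (IsNilpotent.to_isSolvable (h := hPp.isNilpotent))
    · rw [commutator_le]
      intro a ha y hy
      set N := (T ⊓ P).subgroupOf P with hN
      have hNi : N.index ≤ 2 := by
        have h1 := N.card_mul_index
        have h2 : Nat.card N = Nat.card ↥(T ⊓ P) := Nat.card_congr (subgroupOfEquivOfLe inf_le_right).toEquiv
        rw [h2] at h1
        by_contra h3
        push Not at h3
        have : 0 < Nat.card ↥(T ⊓ P) := Nat.card_pos
        nlinarith
      have hya : y * a⁻¹ * y⁻¹ ∈ P := (inferInstance : P.Normal).conj_mem _ (P.inv_mem ha) y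
      have hmem : ∀ b ∈ (T ⊓ P : Subgroup M), y * b * y⁻¹ = b := fun b hb => by
        rw [(mem_centralizer_iff.1 (hYP0 hy) b hb).symm, mul_inv_cancel_right]
      have key' : (⟨a, ha⟩ : P) * ⟨_, hya⟩ ∈ N := by
        rcases Nat.lt_or_ge N.index 2 with h | h
        · have : N.index = 1 := by have := N.index_ne_zero_of_finite; omega
          rw [index_eq_one.1 this]; exact mem_top _
        · rw [mul_mem_iff_of_index_two (le_antisymm hNi h)]
          simp only [hN, mem_subgroupOf]
          constructor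
          · intro hb
            rw [hmem _ (inv_mem hb)]; exact inv_mem hb
          · intro hb
            have h1 := hmem _ (inv_mem hb)
            rw [mul_inv_rev, mul_inv_rev, inv_inv, inv_inv] at h1
            have h2 : y * a⁻¹ * y⁻¹ = a⁻¹ := by
              have e : y⁻¹ * (y * a⁻¹ * y⁻¹) * y = a⁻¹ := by group
              have h3 := hmem _ hb
              exact mul_left_cancel (a := y) (mul_right_cancel (b := y⁻¹) h3) |>.symm ▸ rfl
            rw [h2] at hb; simpa using inv_mem hb
      rw [hN, mem_subgroupOf] at key'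
      simpa [commutatorElement_def, mul_assoc] using key'
  have h := hser.trans hchar
  have : Y' = ⊥ := disjoint_self.1 (hd.mono_right h)
  rw [← card_eq_one, ← hYc, this, card_bot]

open Subgroup in
theorem noOdd {G : Type*} [Group G] [Finite G] (S : Sylow 2 G) (A : Subgroup G) (hA : Cfsg.IsSCN (S : Subgroup G) A)
    (hA3 : ¬ Cfsg.PRankLE 2 2 ↥A)
    (h : (∀ M : Subgroup G, Cfsg.IsMaximalTwoLocal M → Cfsg.IsPConstrained 2 ↥M ∧ Cfsg.oddCore ↥M = ⊥) ∨ (∀ t : G, orderOf t = 2 → Cfsg.IsPConstrained 2 ↥(Subgroup.centralizer ({t} : Set G)) ∧ Cfsg.oddCore ↥(Subgroup.centralizer ({t} : Set G)) = ⊥))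
    (X : Subgroup G) (hX : Odd (Nat.card ↥X)) (hSX : (S : Subgroup G) ≤ normalizer (X : Set G)) : X = ⊥ := by
  haveI : Fact (Nat.Prime 2) := ⟨Nat.prime_two⟩
  obtain ⟨hAS, hSA, hAC⟩ := hA
  have hAab : ∀ a ∈ A, ∀ b ∈ A, a * b = b * a := fun a ha b hb => by
    rw [← hAC] at hb
    exact mem_centralizer_iff.1 hb.2 a ha
  -- the involutions of `A` form a normal subgroup of `S`
  let Ω : Subgroup (S : Subgroup G) :=
    { carrier := {s | (s : G) ∈ A ∧ (s : G) * s = 1}
      one_mem' := ⟨A.one_mem, by simp⟩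
      mul_mem' := by
        rintro a b ⟨ha, ha2⟩ ⟨hb, hb2⟩
        refine ⟨A.mul_mem ha hb, ?_⟩
        rw [Subgroup.coe_mul]
        calc (a : G) * b * ((a : G) * b) = (a : G) * ((b : G) * a) * b := by group
          _ = (a : G) * ((a : G) * b) * b := by rw [hAab _ hb _ ha]
          _ = ((a : G) * a) * ((b : G) * b) := by group
          _ = 1 := by rw [ha2, hb2, mul_one]
      inv_mem' := by
        rintro a ⟨ha, ha2⟩
        refine ⟨A.inv_mem ha, ?_⟩
        rw [Subgroup.coe_inv, ← mul_inv_rev, ha2, inv_one] }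
  have hΩn : Ω.Normal := ⟨fun x hx s => by
    refine ⟨(mem_normalizer_iff.1 (hSA s.2) _).1 hx.1, ?_⟩
    push_cast
    calc (s : G) * x * (s : G)⁻¹ * ((s : G) * x * (s : G)⁻¹) = (s : G) * ((x : G) * x) * (s : G)⁻¹ := by group
      _ = 1 := by rw [hx.2]; group⟩
  have hΩc : 2 ^ 2 ≤ Nat.card Ω := by
    simp only [Cfsg.PRankLE, not_forall, not_le] at hA3
    obtain ⟨B, hB, hB2, hBc⟩ := hA3
    refine hBc.le.trans ?_
    refine Nat.card_le_card_of_injective
      (fun b => (⟨⟨((b : A) : G), hAS (b : A).2⟩, (b : A).2, by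
        have := congrArg Subtype.val (hB2 _ b.2); simpa [pow_two] using this⟩ : Ω)) ?_
    intro b c hbc
    exact Subtype.ext (Subtype.ext (congrArg (fun r : Ω => ((r : (S : Subgroup G)) : G)) hbc))
  obtain ⟨E', hE'n, hE'Ω, hE'c⟩ := PGroups.Normal.exists_normal_le_card S.isPGroup' Ω 2 hΩc
  set E := E'.map (S : Subgroup G).subtype with hE
  have hEc : Nat.card E = 4 := by rw [hE, card_map_of_injective (Subgroup.subtype_injective _), hE'c]; norm_num
  have hEA : ∀ e ∈ E, e ∈ A ∧ e * e = 1 := by rintro _ ⟨x, hx, rfl⟩; exact hE'Ω hx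
  have hEab : IsMulCommutative E := ⟨⟨fun a b => Subtype.ext (hAab _ (hEA a a.2).1 _ (hEA b b.2).1)⟩⟩
  have hEnc : ¬ IsCyclic E := by
    intro hcyc
    obtain ⟨g, hg⟩ := hcyc.exists_ofOrder_eq_natCard
    have h2 : g ^ 2 = 1 := Subtype.ext (by rw [pow_two]; exact (hEA g g.2).2)
    have := orderOf_dvd_of_pow_eq_one h2
    rw [hg, hEc] at this; norm_num at this
  have hEX : E ≤ normalizer (X : Set G) := (map_subtype_le _).trans hSX
  have hcop : (Nat.card E).Coprime (Nat.card X) := by
    rw [hEc, show 4 = 2 ^ 2 by norm_num]; exact (hX.coprime_two_left).pow_left 2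
  rw [← Coprime.fixedGen_eq hEnc hEX hcop, Coprime.fixedGen, eq_bot_iff]
  refine iSup₂_le fun a ha => le_of_eq ?_
  obtain ⟨haE, ha1⟩ := ha
  have ha2 : orderOf a = 2 := orderOf_eq_prime (by rw [pow_two]; exact (hEA a haE).2) ha1
  set S0 := (S : Subgroup G) ⊓ centralizer {a} with hS0
  have hidx : Nat.card (S : Subgroup G) ≤ 2 * Nat.card S0 := by
    obtain ⟨a', ha', rfl⟩ := haE
    set C := centralizer ({a'} : Set (S : Subgroup G)) with hC
    have hC' : Nat.card C ≤ Nat.card S0 := by
      refine Nat.card_le_card_of_injective (fun c => (⟨((c : (S : Subgroup G)) : G), (c : (S : Subgroup G)).2,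
        mem_centralizer_singleton_iff.2 (congrArg Subtype.val (mem_centralizer_singleton_iff.1 c.2))⟩ : S0)) ?_
      intro b c hbc
      exact Subtype.ext (Subtype.ext (congrArg (fun r : S0 => (r : G)) hbc))
    have horb : C.index ≤ 3 := by
      have h1 : C.index ≤ Nat.card {x : E' // x ≠ 1} := by
        refine Nat.card_le_card_of_injective (fun q : (S : Subgroup G) ⧸ C =>
          Quotient.liftOn' q (fun s => (⟨⟨s * a' * s⁻¹, hE'n.conj_mem _ ha' s⟩, fun he => ha1 (by
            have h3 : s * a' * s⁻¹ = 1 := congrArg Subtype.val he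
            rw [conj_eq_one_iff] at h3; rw [h3]; rfl)⟩ : {x : E' // x ≠ 1})) (fun s t hst => ?_)) ?_
        · rw [QuotientGroup.leftRel_apply, hC, mem_centralizer_singleton_iff] at hst
          refine Subtype.ext (Subtype.ext ?_)
          calc s * a' * s⁻¹ = s * (a' * (s⁻¹ * t)) * t⁻¹ := by group
            _ = s * ((s⁻¹ * t) * a') * t⁻¹ := by rw [hst]
            _ = t * a' * t⁻¹ := by group
        · rintro ⟨s⟩ ⟨t⟩ hst
          have h3 : s * a' * s⁻¹ = t * a' * t⁻¹ := congrArg (fun r : {x : E' // x ≠ 1} => ((r : E') : (S : Subgroup G))) hst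
          refine Quotient.sound' ?_
          rw [QuotientGroup.leftRel_apply, hC, mem_centralizer_singleton_iff]
          calc s⁻¹ * t * a' = s⁻¹ * (t * a' * t⁻¹) * t := by group
            _ = s⁻¹ * (s * a' * s⁻¹) * t := by rw [h3]
            _ = a' * (s⁻¹ * t) := by group
      refine h1.trans ?_
      have : Nat.card {x : E' // x ≠ 1} < Nat.card E' := Finite.card_subtype_lt (x := 1) (by simp)
      rw [hE'c] at this; omega
    have hC2 : C.index ≤ 2 := by
      obtain ⟨k, hk⟩ := S.isPGroup'.index C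
      rcases k with _ | _ | k
      · rw [hk]; norm_num
      · rw [hk]; norm_num
      · have : 4 ≤ C.index := by
          rw [hk, pow_succ, pow_succ]; have : 0 < 2 ^ k := by positivity
          omega
        omega
    rw [← C.card_mul_index, mul_comm]
    exact Nat.mul_le_mul hC2 hC'
  have hS0p : IsPGroup 2 S0 := S.isPGroup'.to_le inf_le_left
  have hn : S0 ≤ normalizer ((X ⊓ centralizer ({a} : Set G) : Subgroup G) : Set G) := by
    intro s hs
    rw [mem_normalizer_iff]
    intro x
    have hx := mem_normalizer_iff.1 (hSX hs.1) x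
    have hs2 : Commute s a := mem_centralizer_singleton_iff.1 hs.2
    constructor
    · rintro ⟨h1, h2⟩
      refine ⟨hx.1 h1, mem_centralizer_singleton_iff.2 ?_⟩
      have h2' : Commute x a := mem_centralizer_singleton_iff.1 h2
      exact ((hs2.mul_left h2').mul_left hs2.inv_left).eq
    · rintro ⟨h1, h2⟩
      refine ⟨hx.2 h1, mem_centralizer_singleton_iff.2 ?_⟩
      have h2' : Commute (s * x * s⁻¹) a := mem_centralizer_singleton_iff.1 h2
      have := ((hs2.inv_left.mul_left h2').mul_left hs2).eq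
      simpa [mul_assoc] using this
  have hodd : Odd (Nat.card ↥(X ⊓ centralizer ({a} : Set G))) := hX.of_dvd_nat (card_dvd_of_le inf_le_left)
  rcases h with h | h
  · have hzp : IsPGroup 2 (zpowers a) := IsPGroup.of_card (n := 1) (by rw [Nat.card_zpowers, ha2, pow_one])
    have hne : zpowers a ≠ ⊥ := by rw [Ne, zpowers_eq_bot]; exact ha1
    obtain ⟨M, hNM, hM⟩ := Set.Finite.exists_le_maximal (s := {N : Subgroup G | Cfsg.IsTwoLocal N})
      (Set.toFinite _) (a := normalizer (zpowers a : Set G)) ⟨zpowers a, hzp, hne, rfl⟩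
    obtain ⟨h1, h2⟩ := h M ⟨hM.prop, fun N hN hle => le_antisymm (hM.le_of_ge hN hle) hle⟩
    have hle : centralizer ({a} : Set G) ≤ M := by
      refine le_trans ?_ hNM
      rw [← centralizer_closure, ← zpowers_eq_closure]
      exact centralizer_le_normalizer _
    exact key S h1 h2 (inf_le_right.trans hle) hS0p hidx (inf_le_right.trans hle) hodd hn
  · obtain ⟨h1, h2⟩ := h a ha2
    exact key S h1 h2 inf_le_right hS0p hidx inf_le_right hodd hn

/-- Let G be a finite group whose Sylow 2-subgroup S has a self-centralizing normal subgroup of rank at least 3. Suppose that either every maximal 2-local subgroup of G is 2-constrained with no nontrivial normal subgroup of odd order, or the centralizer of every involution of G is 2-constrained with no nontrivial normal subgroup of odd order. Then S normalizes no nontrivial subgroup of G of odd order and every 2-local subgroup of G is 2-constrained. -/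
theorem result {G : Type*} [Group G] [Finite G]
    (S : Sylow 2 G) (A : Subgroup G) (hA : Cfsg.IsSCN (S : Subgroup G) A) (hA3 : ¬ Cfsg.PRankLE 2 2 ↥A)
    (h : (∀ M : Subgroup G, Cfsg.IsMaximalTwoLocal M → Cfsg.IsPConstrained 2 ↥M ∧ Cfsg.oddCore ↥M = ⊥) ∨
      (∀ t : G, orderOf t = 2 → Cfsg.IsPConstrained 2 ↥(Subgroup.centralizer ({t} : Set G)) ∧
        Cfsg.oddCore ↥(Subgroup.centralizer ({t} : Set G)) = ⊥)) :
    (∀ X : Subgroup G, Odd (Nat.card ↥X) → (S : Subgroup G) ≤ Subgroup.normalizer (X : Set G) → X = ⊥) ∧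
      (∀ T : Subgroup G, IsPGroup 2 ↥T → T ≠ ⊥ → Cfsg.IsPConstrained 2 ↥(Subgroup.normalizer (T : Set G))) := by
  haveI : Fact (Nat.Prime 2) := ⟨Nat.prime_two⟩
  refine ⟨noOdd S A hA hA3 h, fun T hT hT1 => ?_⟩
  rcases h with h | h
  · obtain ⟨M, hNM, hM⟩ := Set.Finite.exists_le_maximal (s := {N : Subgroup G | Cfsg.IsTwoLocal N})
      (Set.toFinite _) (a := Subgroup.normalizer (T : Set G)) ⟨T, hT, hT1, rfl⟩
    have hc := (h M ⟨hM.prop, fun N hN hle => le_antisymm (hM.le_of_ge hN hle) hle⟩).1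
    have hres := InvChar.PConstrained.normalizer_constrained hc
      (P := T.subgroupOf M) hT.comap_subtype
    rw [← Subgroup.subgroupOf_normalizer_eq (Subgroup.le_normalizer.trans hNM)] at hres
    exact InvChar.PConstrained.constrained_of_equiv (Subgroup.subgroupOfEquivOfLe hNM) hres
  · exact Cfsg.Agent.S3247.centralizer_case (fun x hx => (h x hx).1) hT hT1

end Cfsg.Agent.S3246
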