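import Cfsg.Statements.S3250
import Cfsg.Agent.Lib.ChainEight.Main

set_option autoImplicit false
open Cfsg

namespace Cfsg.Agent.S3250

/-- With the length of a finite group defined as the maximum n for which there is a chain G = G₀ > G₁ > ⋯ > G_n = 1 of subgroups: a finite non-abelian simple group of length exactly 8 whose Sylow 2-subgroups have order 2⁷ is isomorphic to PSL₂(127). -/
theorem result {G : Type*} [Group G] [Finite G] [IsSimpleGroup G]
    (hG : ¬ IsMulCommutative G) (h8 : ∃ c : Fin 9 → Subgroup G, StrictAnti c) (h9 : ∀ c : Fin 10 → Subgroup G, ¬ StrictAnti c)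
    (S : Sylow 2 G) (hS : Nat.card ↥(S : Subgroup G) = 2 ^ 7) :
    ∃ (F : Type) (_ : Field F) (_ : Fintype F), Fintype.card F = 127 ∧ Nonempty (G ≃* Matrix.ProjectiveSpecialLinearGroup (Fin 2) F) := by
  haveI : Fact (Nat.Prime 2) := ⟨Nat.prime_two⟩
  haveI : Nontrivial (S : Subgroup G) := Finite.one_lt_card_iff_nontrivial.1 (by rw [hS]; norm_num)
  haveI := S.2.center_nontrivial
  obtain ⟨n, hn⟩ := IsPGroup.iff_card.1 (S.2.to_subgroup (Subgroup.center (S : Subgroup G)))
  have hn0 : n ≠ 0 := fun e => by
    have := Finite.one_lt_card (α := Subgroup.center (S : Subgroup G))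
    rw [hn, e] at this
    exact absurd this (by norm_num)
  obtain ⟨c, hc⟩ := exists_prime_orderOf_dvd_card' (G := Subgroup.center (S : Subgroup G)) 2
    (hn ▸ dvd_pow_self 2 hn0)
  have hc' : orderOf ((c : (S : Subgroup G)) : G) = 2 := by rw [Subgroup.orderOf_coe, Subgroup.orderOf_coe, hc]
  exact Cfsg.Agent.ChainEight.target (S := S) (z := ((c : (S : Subgroup G)) : G))
    { simple := inferInstance
      nonab := hG
      card := hS
      short := h9
      zS := (c : (S : Subgroup G)).2
      zc := fun s hs => congrArg Subtype.val (Subgroup.mem_center_iff.1 c.2 ⟨s, hs⟩)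
      z2 := by rw [← pow_two]; exact orderOf_dvd_iff_pow_eq_one.1 (dvd_of_eq hc')
      z1 := fun e => by rw [e, orderOf_one] at hc'; omega }

end Cfsg.Agent.S3250
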