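import Cfsg.Statements.S3252
import Cfsg.Agent.Lib.GW.ZFactReduce
-- import your own Cfsg.Agent.* helpers here

set_option autoImplicit false
open Cfsg

namespace Cfsg.Agent.S3252

/-- Let G be a finite non-solvable group that is the product G = AB of a cyclic subgroup A and a subgroup B all of whose Sylow subgroups are cyclic. Then the quotient of G by its largest solvable normal subgroup is isomorphic to PGL₂(p) for some prime p > 3. -/
theorem result {G : Type*} [Group G] [Finite G] (hG : ¬ Group.IsSolvable G)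
    (A B : Subgroup G) (hA : IsCyclic ↥A) (hB : ∀ (q : ℕ) [Fact q.Prime] (Q : Sylow q ↥B), IsCyclic ↥(Q : Subgroup ↥B))
    (hAB : ∀ g : G, ∃ a ∈ A, ∃ b ∈ B, g = a * b)
    (R : Subgroup G) [hR : R.Normal] (hRs : Group.IsSolvable ↥R) (hRmax : ∀ N : Subgroup G, N.Normal → Group.IsSolvable ↥N → N ≤ R) :
    ∃ (F : Type) (_ : Field F) (_ : Fintype F) (p : ℕ), p.Prime ∧ 3 < p ∧ Fintype.card F = p ∧
      Nonempty ((G ⧸ R) ≃* (GL (Fin 2) F ⧸ Subgroup.center (GL (Fin 2) F))) := by
  classical
  haveI : IsZGroup B := ⟨fun q hq Q => by haveI := Fact.mk hq; exact hB q Q⟩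
  haveI := hA
  haveI := hRs
  set π := QuotientGroup.mk' R with hπ
  have hsurj : Function.Surjective π := QuotientGroup.mk'_surjective R
  haveI : IsCyclic (A.map π) :=
    isCyclic_of_surjective (π.subgroupMap A) (MonoidHom.subgroupMap_surjective _ _)
  haveI : IsZGroup (B.map π) :=
    IsZGroup.of_surjective (f := π.subgroupMap B) (MonoidHom.subgroupMap_surjective _ _)
  refine Cfsg.Agent.GW.ZFact.isPGLPrime_of_radicalFree (A.map π) (B.map π) (fun x => ?_) ?_ ?_
  · obtain ⟨g, rfl⟩ := hsurj x
    obtain ⟨a, ha, b, hb, rfl⟩ := hAB g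
    exact ⟨π a, Subgroup.mem_map_of_mem π ha, π b, Subgroup.mem_map_of_mem π hb, map_mul π a b⟩
  · intro N hN hNs
    haveI := hN
    haveI := hNs
    have hR : N.comap π ≤ R := by
      refine hRmax _ (hN.comap π) (Group.isSolvable_of_ker_le_range
        (Subgroup.inclusion (H := R) (K := N.comap π) (fun r hr => ?_)) (π.subgroupComap N) ?_)
      · show π r ∈ N
        have h1 : π r = 1 := (QuotientGroup.eq_one_iff r).2 hr
        rw [h1]
        exact one_mem N
      · intro x hx
        have h1 : π (x : G) = 1 := congrArg Subtype.val (MonoidHom.mem_ker.1 hx)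
        exact ⟨⟨x, (QuotientGroup.eq_one_iff _).1 h1⟩, rfl⟩
    rw [eq_bot_iff]
    intro x hx
    obtain ⟨g, rfl⟩ := hsurj x
    exact Subgroup.mem_bot.2 ((QuotientGroup.eq_one_iff g).2 (hR hx))
  · intro h
    haveI := h
    exact hG (Group.isSolvable_of_ker_le_range R.subtype π
      (by rw [Subgroup.range_subtype, hπ, QuotientGroup.ker_mk']))

end Cfsg.Agent.S3252
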