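import Cfsg.Statements.S3254
import Cfsg.Agent.Lib.DegreeThreeP.CaseSeven
import Cfsg.Agent.Lib.DegreeThreeP.CaseMiddle
import Cfsg.Agent.S0497

set_option autoImplicit false
open Cfsg Cfsg.Agent.DegreeThreeP

namespace Cfsg.Agent.S3254

/-- Let p > 3 be a prime and G a finite non-abelian simple group acting faithfully and transitively on a set Ω of 3p points, such that the normalizer of a Sylow p-subgroup of G has order 2p. If the action is primitive then p = 5 and G ≅ A₆; if it is imprimitive then p = 2^m + 1 for some m and G ≅ PSL₂(2^m). -/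
theorem result {G : Type*} [Group G] [Finite G] [IsSimpleGroup G] (hG : ¬ IsMulCommutative G)
    (p : ℕ) (hp : p.Prime) (hp3 : 3 < p) {Ω : Type*} [Fintype Ω] [MulAction G Ω] [FaithfulSMul G Ω]
    (htr : MulAction.IsPretransitive G Ω) (hΩ : Fintype.card Ω = 3 * p)
    (P : Sylow p G) (hN : Nat.card ↥(Subgroup.normalizer ((P : Subgroup G) : Set G)) = 2 * p) :
    (MulAction.IsPreprimitive G Ω → p = 5 ∧ Nonempty (G ≃* ↥(alternatingGroup (Fin 6)))) ∧
      (¬ MulAction.IsPreprimitive G Ω → ∃ (F : Type) (_ : Field F) (_ : Fintype F) (m : ℕ), Fintype.card F = 2 ^ m ∧ p = 2 ^ m + 1 ∧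
        Nonempty (G ≃* Matrix.ProjectiveSpecialLinearGroup (Fin 2) F)) := by
  haveI := Fact.mk hp
  have H : Hyp Ω P := ⟨hp3, by rw [Nat.card_eq_fintype_card, hΩ], inferInstance, hG, inferInstance, htr, hN⟩
  refine ⟨fun hprim => ?_, H.imprimitive⟩
  haveI := Fintype.ofFinite G
  obtain ⟨S⟩ := exists_blk H
  rcases exists_shape H S with ⟨hs, hf⟩ | ⟨h5, hs, hε, hf, hπ⟩ | ⟨hs, hε, hf, ψ, hψ, hψB, hπ⟩ | ⟨hs, hε, hf, hπ⟩
  · exact (H.not_small S hprim hs hf).elim
  · exact (H.not_seven S h5 hs hε hf hπ).elim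
  · obtain ⟨h5, hc⟩ := H.middle S hprim ⟨hs, hε, hf, hψ, hψB, hπ⟩
    exact ⟨h5, Cfsg.Agent.S0497.result hc⟩
  · exact (H.not_large S hs hε hf hπ).elim

end Cfsg.Agent.S3254
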