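import Cfsg.Statements.S3260
import Cfsg.Agent.Lib.QuadraticPair.Coprime.Stable
import Cfsg.Agent.Lib.Components.Local
-- import your own Cfsg.Agent.* helpers here

set_option autoImplicit false
open Cfsg

namespace Cfsg.Agent.S3260

open Cfsg.Agent.PLocal Cfsg.Agent.QuadraticPair.Coprime Subgroup in
theorem assemble {G : Type*} [Group G] [Finite G] (p : ℕ) [hp : Fact p.Prime] (hp5 : 5 ≤ p)
    (hG : Cfsg.IsPConstrained p G) (S : Sylow p G) (A : Subgroup (MulAut G)) (hA : (Nat.card ↥A).Coprime (Nat.card G))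
    (C : Subgroup G) (hC : ∀ g : G, g ∈ C ↔ ∀ a ∈ A, a g = g)
    {F : Type*} [Field F] [Fintype F] (hF : Fintype.card F = p) (hpA : ¬ p ∣ Nat.card A)
    (hfix : ¬ Cfsg.Involves (Matrix.ProjectiveSpecialLinearGroup (Fin 2) F) ↥C) :
    Cfsg.pPrimeCore p G ⊔ normalizer (Cfsg.centerThompsonAOf (S : Subgroup G) : Set G) = ⊤ := by
  classical
  haveI : Finite (MulAut G) := Finite.of_injective (fun a : MulAut G => (a : G → G)) DFunLike.coe_injective
  let φ : A →* MulAut G := A.subtype
  let X₀ := G ⋊[φ] A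
  haveI : Finite X₀ := Finite.of_equiv _ SemidirectProduct.equivProd.symm
  let inl : G →* X₀ := SemidirectProduct.inl
  let inr : A →* X₀ := SemidirectProduct.inr
  haveI hN₀ : inl.range.Normal := by
    rw [show inl.range = (SemidirectProduct.rightHom : X₀ →* A).ker from SemidirectProduct.range_inl_eq_ker_rightHom]
    infer_instance
  have htop : inl.range ⊔ inr.range = ⊤ := top_le_iff.1 fun x _ => by
    rw [← SemidirectProduct.inl_left_mul_inr_right x]
    exact mul_mem_sup ⟨_, rfl⟩ ⟨_, rfl⟩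
  set R := Cfsg.pPrimeCore p G with hR
  -- the core is normal in the semidirect product
  haveI hR' : (R.map inl).Normal := by
    have hRc : ∀ a : MulAut G, ∀ r ∈ R, a r ∈ R := fun a r hr => by
      haveI : (R.map a.toMonoidHom).Normal := Normal.map inferInstance _ a.surjective
      exact Cores.le_pPrimeCore (N := R.map a.toMonoidHom)
        (by rw [card_map_of_injective a.injective]; exact Cores.coprime_card_pPrimeCore) ⟨r, hr, rfl⟩
    refine ⟨?_⟩
    rintro _ ⟨r, hr, rfl⟩ x
    refine ⟨x.left * φ x.right r * x.left⁻¹, (inferInstance : R.Normal).conj_mem _ (hRc _ r hr) _, ?_⟩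
    conv_rhs => rw [← SemidirectProduct.inl_left_mul_inr_right x]
    show SemidirectProduct.inl _ = _ * SemidirectProduct.inl r * _
    rw [map_mul, map_mul, map_inv, SemidirectProduct.inl_aut, map_inv]
    group
  let f := QuotientGroup.mk' (R.map inl)
  have hf := QuotientGroup.mk'_surjective (R.map inl)
  let j : G ⧸ R →* X₀ ⧸ R.map inl := QuotientGroup.map R (R.map inl) inl (le_comap_map inl R)
  have hj : Function.Injective j := by
    rw [injective_iff_map_eq_one]
    intro q hq
    obtain ⟨g, rfl⟩ := QuotientGroup.mk'_surjective R q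
    obtain ⟨r, hr, e⟩ := (QuotientGroup.eq_one_iff (N := R.map inl) (inl g)).1 hq
    exact (QuotientGroup.eq_one_iff g).2 (SemidirectProduct.inl_injective e ▸ hr)
  have hjr : j.range = inl.range.map f := by
    ext y
    constructor
    · rintro ⟨q, rfl⟩
      obtain ⟨g, rfl⟩ := QuotientGroup.mk'_surjective R q
      exact ⟨inl g, ⟨g, rfl⟩, rfl⟩
    · rintro ⟨_, ⟨g, rfl⟩, rfl⟩
      exact ⟨QuotientGroup.mk' R g, rfl⟩
  haveI : j.range.Normal := hjr ▸ Normal.map hN₀ f hf
  have hcA : Nat.card inr.range = Nat.card A :=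
    (Nat.card_congr (MonoidHom.ofInjective SemidirectProduct.inr_injective).toEquiv).symm
  have hcG : Nat.card inl.range = Nat.card G :=
    (Nat.card_congr (MonoidHom.ofInjective SemidirectProduct.inl_injective).toEquiv).symm
  have hsolv : Group.IsSolvable inr.range ∨ Group.IsSolvable (inl.range ⊓ f.ker : Subgroup X₀) := by
    rcases Nat.even_or_odd (Nat.card A) with he | ho
    · refine Or.inr (Cfsg.Agent.S0205.result ?_)
      refine Odd.of_dvd_nat ?_ (hcG ▸ card_dvd_of_le inf_le_left)
      exact Nat.Coprime.odd_of_left (hA.coprime_dvd_left he.two_dvd)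
    · exact Or.inl (Cfsg.Agent.S0205.result (hcA ▸ ho))
  have hfix' : ¬ Cfsg.Involves (Matrix.ProjectiveSpecialLinearGroup (Fin 2) F)
      ↥(j.range ⊓ centralizer ((inr.range.map f : Subgroup _) : Set (X₀ ⧸ R.map inl))) := by
    intro h
    rw [hjr, ← map_fixed f inl.range inr.range (by rwa [hcA, hcG]) hsolv] at h
    have h1 := Cfsg.Agent.Fusion.LocalModels.involves_of_surjective (f.subgroupMap _)
      (MonoidHom.subgroupMap_surjective f _) h
    have hcC : ∀ c : C, inl c ∈ inl.range ⊓ centralizer (inr.range : Set X₀) := fun c => by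
      refine mem_inf.2 ⟨⟨_, rfl⟩, mem_centralizer_iff.2 ?_⟩
      rintro _ ⟨a, rfl⟩
      have e : inl (φ a c) = inr a * inl c * (inr a)⁻¹ := by
        rw [← map_inv]; exact SemidirectProduct.inl_aut (φ := φ) a (c : G)
      rw [show φ a (c : G) = (c : G) from (hC c).1 c.2 a a.2] at e
      exact mul_inv_eq_iff_eq_mul.1 e.symm
    refine hfix (Cfsg.Agent.Fusion.LocalModels.involves_of_surjective
      ((inl.comp C.subtype).codRestrict _ hcC) ?_ h1)
    rintro ⟨_, ⟨g, rfl⟩, hg⟩
    refine ⟨⟨g, (hC g).2 fun a ha => ?_⟩, rfl⟩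
    have e : inl (φ ⟨a, ha⟩ g) = inr ⟨a, ha⟩ * inl g * (inr ⟨a, ha⟩)⁻¹ := by
      rw [← map_inv]; exact SemidirectProduct.inl_aut (φ := φ) _ g
    rw [mem_centralizer_iff.1 hg (inr ⟨a, ha⟩) ⟨_, rfl⟩, mul_inv_cancel_right] at e
    exact SemidirectProduct.inl_injective e
  have hcop : (Nat.card (inr.range.map f)).Coprime (Nat.card (G ⧸ R)) :=
    ((hA.coprime_dvd_left (hcA ▸ card_map_dvd inr.range f))).coprime_dvd_right (card_quotient_dvd_card R)
  set q := QuotientGroup.mk' R with hq
  have hqs := QuotientGroup.mk'_surjective R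
  have hn := zj_normal hp5 hF j hj (inr.range.map f) hcop
    (fun h => hpA (h.trans (hcA ▸ card_map_dvd inr.range f)))
    (by rw [hjr, ← Subgroup.map_sup, htop, map_top_of_surjective f hf]) hfix'
    (Cfsg.Agent.InvChar.PConstrained.iff_char.mp hG) (S.mapSurjective hqs)
  -- pull back
  have hinj : ∀ x ∈ (S : Subgroup G), q x = 1 → x = 1 := by
    intro x hx h1
    have : x ∈ (S : Subgroup G) ⊓ R := ⟨hx, (QuotientGroup.eq_one_iff x).mp h1⟩
    rw [Cores.inf_eq_bot_of_isPGroup_of_coprime S.2 Cores.coprime_card_pPrimeCore] at this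
    exact mem_bot.mp this
  set W := MaxAbelian.core 0 (S : Subgroup G) with hW
  have hWS : W ≤ (S : Subgroup G) := MaxAbelian.core_le 0 _
  let g₀ : (S : Subgroup G) →* G ⧸ R := q.comp (S : Subgroup G).subtype
  have hg₀ : Function.Injective g₀ := by
    rw [injective_iff_map_eq_one]
    exact fun x hx => Subtype.ext (hinj x x.2 hx)
  have hWimg : W.map q = MaxAbelian.core 0 ((S : Subgroup G).map q) := by
    have h1 := MaxAbelian.core_map 0 hg₀ (⊤ : Subgroup (S : Subgroup G))
    have h2 := MaxAbelian.core_map 0 (S : Subgroup G).subtype_injective (⊤ : Subgroup (S : Subgroup G))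
    rw [← MonoidHom.range_eq_map, MonoidHom.range_comp, range_subtype] at h1
    rw [← MonoidHom.range_eq_map, range_subtype] at h2
    rw [h1, hW, h2, Subgroup.map_map]
  rw [MaxAbelian.centerThompsonA_eq, eq_top_iff]
  intro g _
  have hmem : q g ∈ normalizer ((W.map q : Subgroup (G ⧸ R)) : Set (G ⧸ R)) := by
    have hn' : (W.map q).Normal := by rw [hWimg]; exact hn
    exact le_normalizer_of_normal (mem_top _)
  rw [← Cfsg.Agent.Components.Local.map_normalizer_eq (S.2.to_le hWS) Cores.coprime_card_pPrimeCore] at hmem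
  obtain ⟨n, hn', he⟩ := hmem
  rw [show g = (g * n⁻¹) * n by group]
  refine mul_mem (mem_sup_left ?_) (mem_sup_right hn')
  exact (QuotientGroup.eq_one_iff _).mp (show q (g * n⁻¹) = 1 by rw [map_mul, map_inv, he, mul_inv_cancel])

/-- Let p ≥ 5 be a prime, G a finite p-constrained group with Sylow p-subgroup S, and A a group of automorphisms of G of order coprime to |G| whose fixed-point subgroup has no section isomorphic to PSL₂(p). Then G = O_{p'}(G) · N_G(Z(J(S))), where J(S) is the subgroup generated by the abelian subgroups of S of largest order. -/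
theorem result {G : Type*} [Group G] [Finite G] (p : ℕ) [hp : Fact p.Prime] (hp5 : 5 ≤ p)
    (hG : Cfsg.IsPConstrained p G) (S : Sylow p G) (A : Subgroup (MulAut G)) (hA : (Nat.card ↥A).Coprime (Nat.card G))
    (C : Subgroup G) (hC : ∀ g : G, g ∈ C ↔ ∀ a ∈ A, a g = g)
    {F : Type*} [Field F] [Fintype F] (hF : Fintype.card F = p)
    (hfix : ¬ Cfsg.Involves (Matrix.ProjectiveSpecialLinearGroup (Fin 2) F) ↥C) :
    Cfsg.pPrimeCore p G ⊔ Subgroup.normalizer (Cfsg.centerThompsonAOf (S : Subgroup G) : Set G) = ⊤ := by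
  classical
  open Cfsg.Agent.PLocal Cfsg.Agent.QuadraticPair.Coprime Subgroup in
  by_cases hpG : p ∣ Nat.card G
  swap
  · have h : (⊤ : Subgroup G) ≤ Cfsg.pPrimeCore p G := Cfsg.Agent.PLocal.Cores.le_pPrimeCore (by
      rw [Subgroup.card_top]; exact ((hp.out.coprime_iff_not_dvd).2 hpG).symm)
    exact top_le_iff.1 (h.trans le_sup_left)
  have hpA : ¬ p ∣ Nat.card A := fun h => hp.out.ne_one (Nat.eq_one_of_dvd_coprimes hA h hpG)
  open Cfsg.Agent.PLocal Cfsg.Agent.QuadraticPair.Coprime Subgroup in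
  exact assemble p hp5 hG S A hA C hC hF hpA hfix


end Cfsg.Agent.S3260
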