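import Cfsg.Statements.S3265
import Mathlib
import Cfsg.Agent.Lib.Perm.OddProductInvolutions
-- import your own Cfsg.Agent.* helpers here

set_option autoImplicit false
open Cfsg

set_option linter.all false

namespace Cfsg.Agent.S3265

open Cfsg.Agent.Perm.OddProductInvolutions


/-- Let n ≥ 5 and let X be a conjugacy class of involutions of the symmetric group of degree n. The graph on X joining two distinct involutions whose product has odd order is connected and has diameter exactly 2. -/
theorem result (n : ℕ) (hn : 5 ≤ n) (t : Equiv.Perm (Fin n)) (ht : orderOf t = 2) :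
    (SimpleGraph.fromRel fun x y : {x : Equiv.Perm (Fin n) // IsConj t x} =>
        Odd (orderOf (x.1 * y.1))).Connected ∧
      (SimpleGraph.fromRel fun x y : {x : Equiv.Perm (Fin n) // IsConj t x} =>
        Odd (orderOf (x.1 * y.1))).diam = 2 := by
  classical
  set Gr := SimpleGraph.fromRel fun x y : {x : Equiv.Perm (Fin n) // IsConj t x} => Odd (orderOf (x.1 * y.1)) with hGr
  have hinvol : ∀ {x : Equiv.Perm (Fin n)}, IsConj t x → Function.Involutive x := fun {x} h q => by
    have h1 : orderOf x = 2 := by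
      obtain ⟨g, rfl⟩ := isConj_iff.mp h
      have : orderOf (MulAut.conj g t) = orderOf t := MulEquiv.orderOf_eq _ _
      rw [MulAut.conj_apply] at this
      rw [this, ht]
    have h2 := pow_orderOf_eq_one x
    rw [h1, sq] at h2
    rw [← Equiv.Perm.mul_apply, h2]; rfl
  have hcard : ∀ {x : Equiv.Perm (Fin n)}, IsConj t x → x.support.card = t.support.card := fun {x} h => by
    obtain ⟨g, rfl⟩ := isConj_iff.mp h
    exact Equiv.Perm.card_support_conj
  have htinv : Function.Involutive t := hinvol (IsConj.refl t)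
  have hconj : ∀ {z : Equiv.Perm (Fin n)}, Function.Involutive z → z.support.card = t.support.card → IsConj t z := by
    intro z hz hc
    rw [Equiv.Perm.isConj_iff_cycleType_eq]
    have key : ∀ {w : Equiv.Perm (Fin n)}, Function.Involutive w → w.support.card = t.support.card →
        w.cycleType = Multiset.replicate (t.support.card / 2) 2 := by
      intro w hw hc
      have hall : ∀ m ∈ w.cycleType, m = 2 := fun m hm => by
        have h1 := (Equiv.Perm.dvd_of_mem_cycleType hm).trans
          (orderOf_dvd_of_pow_eq_one (show w ^ 2 = 1 by rw [sq]; exact Equiv.ext hw))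
        have h2 := Equiv.Perm.two_le_of_mem_cycleType hm
        have := Nat.le_of_dvd (by norm_num) h1
        omega
      have h3 := Multiset.eq_replicate_card.mpr hall
      have h4 := Equiv.Perm.sum_cycleType w
      rw [h3, Multiset.sum_replicate, smul_eq_mul, hc] at h4
      rw [h3]
      congr 1
      omega
    rw [key htinv rfl, key hz hc]
  have hOn : ∀ {x : Equiv.Perm (Fin n)}, Function.Involutive x → On Finset.univ x := fun h =>
    ⟨h, fun p hp => absurd (Finset.mem_univ p) hp⟩
  -- any two vertices have a common neighbour or are adjacent or equal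
  have hwalk : ∀ x y : {x : Equiv.Perm (Fin n) // IsConj t x}, ∃ w : Gr.Walk x y, w.length ≤ 2 := by
    rintro ⟨x, hx⟩ ⟨y, hy⟩
    obtain ⟨z, hz, hzc, g1, g2⟩ := holds Finset.univ x y (hOn (hinvol hx)) (hOn (hinvol hy))
      ((hcard hx).trans (hcard hy).symm) (fun h => by
        have := h.1; rw [Finset.card_univ, Fintype.card_fin] at this; omega)
    let Z : {x : Equiv.Perm (Fin n) // IsConj t x} := ⟨z, hconj hz.1 (hzc.trans (hcard hx))⟩
    have o1 : Odd (orderOf (x * z)) := odd_orderOf (hinvol hx) hz.1 g1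
    have o2 : Odd (orderOf (y * z)) := odd_orderOf (hinvol hy) hz.1 g2
    by_cases e : x = y
    · subst e; exact ⟨SimpleGraph.Walk.nil, by simp⟩
    by_cases e1 : x = z
    · subst e1
      have ha : Gr.Adj ⟨x, hx⟩ ⟨y, hy⟩ := by
        rw [hGr, SimpleGraph.fromRel_adj]
        exact ⟨fun h => e (congrArg Subtype.val h), Or.inr o2⟩
      exact ⟨ha.toWalk, by simp⟩
    by_cases e2 : y = z
    · subst e2
      have ha : Gr.Adj ⟨x, hx⟩ ⟨y, hy⟩ := by
        rw [hGr, SimpleGraph.fromRel_adj]
        exact ⟨fun h => e (congrArg Subtype.val h), Or.inl o1⟩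
      exact ⟨ha.toWalk, by simp⟩
    have ha : Gr.Adj ⟨x, hx⟩ Z := by
      rw [hGr, SimpleGraph.fromRel_adj]
      exact ⟨fun h => e1 (congrArg Subtype.val h), Or.inl o1⟩
    have hb : Gr.Adj Z ⟨y, hy⟩ := by
      rw [hGr, SimpleGraph.fromRel_adj]
      exact ⟨fun h => e2 (congrArg Subtype.val h).symm, Or.inr o2⟩
    exact ⟨SimpleGraph.Walk.cons ha hb.toWalk, by simp⟩
  haveI : Nonempty {x : Equiv.Perm (Fin n) // IsConj t x} := ⟨⟨t, IsConj.refl t⟩⟩
  have hcon : Gr.Connected := SimpleGraph.Connected.mk fun x y => let ⟨w, _⟩ := hwalk x y; ⟨w⟩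
  refine ⟨hcon, ?_⟩
  -- a commuting distinct conjugate
  obtain ⟨a, ha⟩ : ∃ a, t a ≠ a := by
    by_contra! h
    rw [show t = 1 from Equiv.ext h, orderOf_one] at ht
    omega
  obtain ⟨y, hy, hyt, hcomm⟩ : ∃ y, IsConj t y ∧ y ≠ t ∧ Commute t y := by
    obtain ⟨hX, he, ta, tb, hto⟩ := peel (hOn htinv) (rfl : t a = t a) (Ne.symm ha)
    set t0 := t * Equiv.swap a (t a) with ht0
    set b := t a with hb
    have hab : a ≠ b := Ne.symm ha
    by_cases hmore : ∃ c, t0 c ≠ c
    · obtain ⟨c, hc⟩ := hmore
      obtain ⟨hX', he', tc, td, hto'⟩ := peel hX (rfl : t0 c = t0 c) (Ne.symm hc)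
      set d := t0 c with hd
      set t1 := t0 * Equiv.swap c d with ht1
      have nca : c ≠ a := fun e => hc (by rw [hd, e, ta])
      have ncb : c ≠ b := fun e => hc (by rw [hd, e, tb])
      have nda : d ≠ a := ne_of_fixed ta nca
      have ndb : d ≠ b := ne_of_fixed tb ncb
      have ncd : c ≠ d := Ne.symm hc
      have t1a : t1 a = a := by rw [ht1, mul_swap_apply nca.symm nda.symm, ta]
      have t1b : t1 b = b := by rw [ht1, mul_swap_apply ncb.symm ndb.symm, tb]
      have e1 : (t1 * Equiv.swap a c) b = b := by rw [mul_swap_apply hab.symm ncb.symm, t1b]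
      have e2 : (t1 * Equiv.swap a c) d = d := by rw [mul_swap_apply nda ncd.symm, td]
      set y := t1 * Equiv.swap a c * Equiv.swap b d with hy
      have hyinv : Function.Involutive y := ((hX'.mul_swap t1a tc).mul_swap e1 e2).1
      have hycard : y.support.card = t.support.card := by
        rw [hy, card_mul_swap e1 e2 ndb.symm, card_mul_swap t1a tc nca.symm, ← he, card_mul_swap ta tb hab,
          ← he', card_mul_swap tc td ncd]
      have ya : y a = c := by rw [hy, mul_swap_apply hab nda.symm, mul_swap_left, tc]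
      have yb : y b = d := by rw [hy, mul_swap_left, e2]
      have yc : y c = a := by rw [hy, mul_swap_apply ncb ncd, mul_swap_right, t1a]
      have yd : y d = b := by rw [hy, mul_swap_right, e1]
      have tc' : t c = d := by rw [← he, mul_swap_apply nca ncb]
      have hyo : ∀ p, p ≠ a → p ≠ b → p ≠ c → p ≠ d → y p = t p := fun p h1 h2 h3 h4 => by
        rw [hy, mul_swap_apply h2 h4, mul_swap_apply h1 h3, hto' p h3 h4, hto p h1 h2]
      refine ⟨y, hconj hyinv hycard, fun h => ncb (by rw [← ya, h]), Equiv.ext fun p => ?_⟩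
      show t (y p) = y (t p)
      by_cases h1 : p = a
      · rw [h1, ya, tc', ← hb, yb]
      by_cases h2 : p = b
      · rw [h2, yb, show t b = a from htinv a, ya, ← tc', htinv]
      by_cases h3 : p = c
      · rw [h3, yc, ← hb, tc', yd]
      by_cases h4 : p = d
      · rw [h4, yd, show t b = a from htinv a, ← tc', htinv, yc]
      rw [hyo p h1 h2 h3 h4, hyo (t p) (fun e => h2 (by rw [hb, ← e, htinv]))
        (fun e => h1 (t.injective (e.trans hb))) (fun e => h4 (by rw [← tc', ← e, htinv]))
        (fun e => h3 (t.injective (e.trans tc'.symm)))]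
    · push Not at hmore
      obtain ⟨c, d, hcd, hca, hcb, hda, hdb⟩ : ∃ c d : Fin n, c ≠ d ∧ c ≠ a ∧ c ≠ b ∧ d ≠ a ∧ d ≠ b := by
        have : 1 < (Finset.univ \ {a, b} : Finset (Fin n)).card := by
          rw [Finset.card_sdiff_of_subset (Finset.subset_univ _), Finset.card_univ, Fintype.card_fin,
            Finset.card_insert_of_notMem (by simpa using hab), Finset.card_singleton]
          omega
        obtain ⟨c, hc, d, hd, hcd⟩ := Finset.one_lt_card.mp this
        simp at hc hd
        exact ⟨c, d, hcd, hc.1, hc.2, hd.1, hd.2⟩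
      have ht1 : t = Equiv.swap a b := by rw [← he, show t0 = 1 from Equiv.ext hmore, one_mul]
      refine ⟨Equiv.swap c d, ?_, fun h => ?_, ?_⟩
      · exact hconj (fun p => Equiv.swap_apply_self _ _ _) (by rw [ht1, Equiv.Perm.card_support_swap hcd, Equiv.Perm.card_support_swap hab])
      · have := congrArg (fun f : Equiv.Perm (Fin n) => f c) h
        simp [ht1, Equiv.swap_apply_of_ne_of_ne hca hcb] at this
        exact hcd this.symm
      · rw [ht1]
        refine Equiv.Perm.Disjoint.commute fun p => ?_
        by_cases h1 : p = c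
        · exact Or.inl (by rw [h1, Equiv.swap_apply_of_ne_of_ne hca hcb])
        by_cases h2 : p = d
        · exact Or.inl (by rw [h2, Equiv.swap_apply_of_ne_of_ne hda hdb])
        exact Or.inr (Equiv.swap_apply_of_ne_of_ne h1 h2)
  let T : {x : Equiv.Perm (Fin n) // IsConj t x} := ⟨t, IsConj.refl t⟩
  let Y : {x : Equiv.Perm (Fin n) // IsConj t x} := ⟨y, hy⟩
  have hne : T ≠ Y := fun h => hyt (congrArg Subtype.val h).symm
  have hnadj : ¬ Gr.Adj T Y := by
    rw [hGr, SimpleGraph.fromRel_adj]
    rintro ⟨-, h⟩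
    have hev : ∀ {u v : Equiv.Perm (Fin n)}, Function.Involutive u → Function.Involutive v → Commute u v → u ≠ v →
        ¬ Odd (orderOf (u * v)) := by
      intro u v hu hv huv huv' hodd
      have hu2 : u * u = 1 := Equiv.ext hu
      have hv2 : v * v = 1 := Equiv.ext hv
      have h2 : (u * v) ^ 2 = 1 := by rw [huv.mul_pow, sq, sq, hu2, hv2, one_mul]
      rcases (Nat.dvd_prime Nat.prime_two).mp (orderOf_dvd_of_pow_eq_one h2) with h1 | h1
      · apply huv'
        calc u = u * (v * v) := by rw [hv2, mul_one]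
          _ = v := by rw [← mul_assoc, orderOf_eq_one_iff.mp h1, one_mul]
      · rw [h1] at hodd
        exact absurd hodd (by decide)
    rcases h with h | h
    · exact hev htinv (hinvol hy) hcomm (Ne.symm hyt) h
    · exact hev (hinvol hy) htinv hcomm.symm hyt h
  have hle : ∀ u v, Gr.edist u v ≤ 2 := fun u v => by
    obtain ⟨w, hw⟩ := hwalk u v
    exact (SimpleGraph.edist_le w).trans (by exact_mod_cast hw)
  have hne' : Gr.ediam ≠ ⊤ := by
    refine ne_top_of_le_ne_top (by decide : (2 : ℕ∞) ≠ ⊤) (SimpleGraph.ediam_le_of_edist_le hle)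
  refine le_antisymm ?_ ?_
  · have h := SimpleGraph.ediam_le_of_edist_le hle
    exact ENat.toNat_le_of_le_coe h
  · have h1 : Gr.dist T Y ≤ Gr.diam := SimpleGraph.dist_le_diam hne'
    have h2 : Gr.dist T Y ≠ 0 := fun h => hne (hcon.dist_eq_zero_iff.mp h)
    have h3 : Gr.dist T Y ≠ 1 := fun h => hnadj (SimpleGraph.dist_eq_one_iff_adj.mp h)
    omega

end Cfsg.Agent.S3265
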