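import Cfsg.Statements.S3266
import Cfsg.Agent.InvChar.OddProductGraphPSL

set_option autoImplicit false
open Cfsg

namespace Cfsg.Agent.S3266

/-- Let F be a finite field with at least 4 elements and let X be a conjugacy class of involutions of PSL(2, F). The graph on X joining two distinct involutions whose product has odd order is connected and has diameter exactly 2. -/
theorem result {F : Type*} [Field F] [Fintype F] (hF : 4 ≤ Fintype.card F)
    (t : Matrix.ProjectiveSpecialLinearGroup (Fin 2) F) (ht : orderOf t = 2) :
    (SimpleGraph.fromRel fun x y : {x : Matrix.ProjectiveSpecialLinearGroup (Fin 2) F // IsConj t x} =>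
        Odd (orderOf (x.1 * y.1))).Connected ∧
      (SimpleGraph.fromRel fun x y : {x : Matrix.ProjectiveSpecialLinearGroup (Fin 2) F // IsConj t x} =>
        Odd (orderOf (x.1 * y.1))).diam = 2 := by
  classical
  by_cases h2 : (2 : F) = 0
  · haveI : CharP F 2 := by
      obtain ⟨p, hp⟩ := CharP.exists F
      haveI := hp
      have hd : p ∣ 2 := (CharP.cast_eq_zero_iff F p 2).1 (by exact_mod_cast h2)
      have h1 : p ≠ 1 := CharP.char_ne_one F p
      obtain rfl : p = 2 := (Nat.prime_two.eq_one_or_self_of_dvd p hd).resolve_left h1
      exact hp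
    obtain ⟨hc, hf⟩ := InvChar.OddProductGraphPSL.main_two hF ht
    exact InvChar.OddProductGraph.connected_diam_two t hc hf
  · have hodd : Fintype.card F % 2 = 1 := FiniteField.odd_card_of_char_ne_two (fun h => h2 (by
      haveI := (ringChar.eq_iff).1 h
      exact CharTwo.two_eq_zero))
    have hf := InvChar.OddProductGraphPSL.far_odd h2 ht
    rcases (by omega : Fintype.card F % 4 = 1 ∨ Fintype.card F % 4 = 3) with hq | hq
    · exact InvChar.OddProductGraph.connected_diam_two t (InvChar.OddProductGraphPSL.common_one hq ht) hf
    · exact InvChar.OddProductGraph.connected_diam_two t (InvChar.OddProductGraphPSL.common_three hq hF ht) hf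

end Cfsg.Agent.S3266
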