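import Cfsg.Statements.S3276
import Mathlib
import Cfsg.Agent.Lib.Involutions.Basic

set_option linter.all false

set_option autoImplicit false
open Cfsg

namespace Cfsg.Agent.S3276

/-- Let x and y be commuting, non-conjugate involutions of a finite group G, and suppose that for every involution u commuting with x, each conjugate of y that commutes with u also commutes with y. Then the normal closure of y is a proper, normal, elementary abelian 2-subgroup of G; and if y is the only involution of that normal closure commuting with x, it has order at most 4. -/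
theorem result {G : Type*} [Group G] [Finite G] (x y : G) (hx : orderOf x = 2) (hy : orderOf y = 2)
    (hxy : Commute x y) (hnc : ¬ IsConj x y)
    (hstar : ∀ u : G, orderOf u = 2 → Commute u x → ∀ g : G, Commute (g * y * g⁻¹) u → Commute (g * y * g⁻¹) y) :
    Subgroup.normalClosure ({y} : Set G) ≠ ⊤ ∧ Cfsg.IsElementaryAbelian 2 (Subgroup.normalClosure ({y} : Set G)) ∧
      ((∀ u ∈ Subgroup.normalClosure ({y} : Set G), orderOf u = 2 → Commute u x → u = y) →
        Nat.card ↥(Subgroup.normalClosure ({y} : Set G)) ≤ 4) := by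
  classical
  have hcomm : ∀ g : G, Commute (g * y * g⁻¹) y := by
    intro g
    have hy' : orderOf (g * y * g⁻¹) = 2 := (Cfsg.Agent.Involutions.Basic.orderOf_conj g y).trans hy
    have hne : ¬ IsConj x (g * y * g⁻¹) := fun h =>
      hnc (h.trans (isConj_iff.2 ⟨g⁻¹, by group⟩))
    obtain ⟨h1, h2, h3⟩ := Cfsg.Agent.Involutions.Basic.middle_involution hx hy'
      (Cfsg.Agent.Involutions.Basic.even_orderOf_mul_of_not_isConj hx hy' hne)
    exact hstar _ h1 h2 g h3.symm
  set N := Subgroup.normalClosure ({y} : Set G) with hN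
  have hgen : ∀ u ∈ Group.conjugatesOfSet ({y} : Set G), ∃ g : G, g * y * g⁻¹ = u := by
    intro u hu
    obtain ⟨a, ha, hau⟩ := Group.mem_conjugatesOfSet_iff.1 hu
    rw [Set.mem_singleton_iff] at ha
    subst ha
    exact isConj_iff.1 hau
  have hpair : ∀ u ∈ Group.conjugatesOfSet ({y} : Set G), ∀ v ∈ Group.conjugatesOfSet ({y} : Set G),
      u * v = v * u := by
    intro u hu v hv
    obtain ⟨g, rfl⟩ := hgen u hu
    obtain ⟨h, rfl⟩ := hgen v hv
    have h1 := (hcomm (h⁻¹ * g)).eq
    calc g * y * g⁻¹ * (h * y * h⁻¹) = h * (h⁻¹ * g * y * (h⁻¹ * g)⁻¹ * y) * h⁻¹ := by group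
      _ = h * (y * (h⁻¹ * g * y * (h⁻¹ * g)⁻¹)) * h⁻¹ := by rw [h1]
      _ = _ := by group
  have hab : ∀ u ∈ N, ∀ v ∈ N, u * v = v * u := fun u hu v hv =>
    congrArg Subtype.val ((Subgroup.isMulCommutative_closure hpair).is_comm.comm
      (⟨u, hu⟩ : Subgroup.closure (Group.conjugatesOfSet ({y} : Set G))) ⟨v, hv⟩)
  have hsq : ∀ u ∈ N, u ^ 2 = 1 := by
    intro u hu
    induction hu using Subgroup.closure_induction with
    | mem v hv =>
      obtain ⟨g, rfl⟩ := hgen v hv
      rw [conj_pow, ← hy, pow_orderOf_eq_one, mul_one, mul_inv_cancel]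
    | one => exact one_pow 2
    | mul a b ha hb iha ihb => rw [(show Commute a b from hab a ha b hb).mul_pow, iha, ihb, one_mul]
    | inv a ha iha => rw [inv_pow, iha, inv_one]
  have hyN : y ∈ N := Subgroup.subset_normalClosure rfl
  refine ⟨?_, ⟨⟨⟨fun u v => Subtype.ext (hab _ u.2 _ v.2)⟩⟩, hsq⟩, ?_⟩
  · intro htop
    have hall : ∀ a b : G, a * b = b * a := fun a b =>
      hab a (htop ▸ Subgroup.mem_top a) b (htop ▸ Subgroup.mem_top b)
    have hle : N ≤ Subgroup.zpowers y := by
      rw [hN, Subgroup.normalClosure, Subgroup.closure_le]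
      intro u hu
      obtain ⟨g, rfl⟩ := hgen u hu
      rw [hall g y, mul_inv_cancel_right]
      exact Subgroup.mem_zpowers y
    obtain ⟨k, hk⟩ := hle (htop ▸ Subgroup.mem_top x : x ∈ N)
    simp only at hk
    rcases Int.even_or_odd k with ⟨r, hr⟩ | ⟨r, hr⟩
    · rw [hr, ← two_mul, zpow_mul, zpow_ofNat, ← hy, pow_orderOf_eq_one, one_zpow] at hk
      rw [← hk, orderOf_one] at hx; omega
    · rw [hr, zpow_add, zpow_mul, zpow_ofNat, ← hy, pow_orderOf_eq_one, one_zpow, one_mul, zpow_one] at hk
      exact hnc (hk ▸ IsConj.refl y)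
  · intro honly
    haveI : N.Normal := Subgroup.normalClosure_normal
    have hxN : ∀ n ∈ N, x * n * x⁻¹ ∈ N := fun n hn => Subgroup.Normal.conj_mem inferInstance n hn x
    have hx2 : x * x = 1 := Cfsg.Agent.Involutions.Basic.inv_sq_one hx
    let f : N →* N :=
      { toFun := fun n => ⟨(n : G) * (x * n * x⁻¹), N.mul_mem n.2 (hxN _ n.2)⟩
        map_one' := by ext; simp
        map_mul' := fun a b => by
          apply Subtype.ext
          simp only [Subgroup.coe_mul]
          have h1 : (b : G) * (x * a * x⁻¹) = (x * a * x⁻¹) * b := hab _ b.2 _ (hxN _ a.2)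
          calc (a : G) * b * (x * (a * b) * x⁻¹) = a * (b * (x * a * x⁻¹)) * (x * b * x⁻¹) := by group
            _ = a * ((x * a * x⁻¹) * b) * (x * b * x⁻¹) := by rw [h1]
            _ = _ := by group }
    have hfix : ∀ n ∈ N, n * x = x * n → n = 1 ∨ n = y := by
      intro n hn hc
      by_cases h1 : n = 1
      · exact Or.inl h1
      · exact Or.inr (honly n hn (orderOf_eq_prime (hsq n hn) h1) hc)
    have hrange : ∀ m ∈ f.range, (m : G) = 1 ∨ (m : G) = y := by
      rintro _ ⟨n, rfl⟩
      refine hfix _ (f n).2 ?_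
      change (n : G) * (x * n * x⁻¹) * x = x * ((n : G) * (x * n * x⁻¹))
      have h1 : (n : G) * (x * n * x⁻¹) = (x * n * x⁻¹) * n := hab _ n.2 _ (hxN _ n.2)
      have hxi : x⁻¹ = x := inv_eq_of_mul_eq_one_right hx2
      conv_lhs => rw [h1]
      rw [hxi]
      simp only [mul_assoc]
    have hker : ∀ m ∈ f.ker, (m : G) = 1 ∨ (m : G) = y := by
      intro n hn
      have h : (n : G) * (x * n * x⁻¹) = 1 := congrArg Subtype.val hn
      have hni : (n : G)⁻¹ = n := inv_eq_of_mul_eq_one_right (by have := hsq _ n.2; rwa [pow_two] at this)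
      have h2 := inv_eq_of_mul_eq_one_right h
      rw [hni] at h2
      exact hfix _ n.2 (mul_inv_eq_iff_eq_mul.1 h2.symm).symm
    have hcard : ∀ K : Subgroup N, (∀ m ∈ K, (m : G) = 1 ∨ (m : G) = y) → Nat.card K ≤ 2 := by
      intro K hK
      rw [← Set.ncard_pair (a := (1 : G)) (b := y) (fun e => by rw [← e] at hy; simp at hy),
        ← Nat.card_coe_set_eq]
      exact Nat.card_le_card_of_injective
        (fun m : K => (⟨((m : N) : G), (hK m m.2).imp id id⟩ : ({1, y} : Set G)))
        (fun a b h => Subtype.ext (Subtype.ext (congrArg (fun u : ({1, y} : Set G) => (u : G)) h)))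
    rw [Subgroup.card_eq_card_quotient_mul_card_subgroup f.ker,
      Nat.card_congr (QuotientGroup.quotientKerEquivRange f).toEquiv]
    exact le_trans (Nat.mul_le_mul (hcard _ hrange) (hcard _ hker)) (by norm_num)

end Cfsg.Agent.S3276
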