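import Cfsg.Statements.S3279
import Mathlib
import Cfsg.Agent.InvChar.ThreeInvolutions
import Cfsg.Agent.Lib.Involutions.BrauerFowler
set_option linter.all false

set_option autoImplicit false
open Cfsg

namespace Cfsg.Agent.S3279

/-- Let G be a finite simple group and x an involution of G whose centralizer contains at most three involutions. Then C_G(x) contains a Sylow 2-subgroup of G, and all involutions of G are conjugate. -/
theorem result {G : Type*} [Group G] [Finite G] [IsSimpleGroup G] (x : G) (hx : orderOf x = 2)
    (h3 : Nat.card {u : ↥(Subgroup.centralizer ({x} : Set G)) // orderOf u = 2} ≤ 3) :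
    (∃ S : Sylow 2 G, (S : Subgroup G) ≤ Subgroup.centralizer ({x} : Set G)) ∧
      ∀ u v : G, orderOf u = 2 → orderOf v = 2 → IsConj u v := by
  haveI : Fact (Nat.Prime 2) := ⟨Nat.prime_two⟩
  by_cases hcomm : ∀ a b : G, a * b = b * a
  · refine ⟨⟨default, fun s _ => Subgroup.mem_centralizer_singleton_iff.2 (hcomm s x)⟩, fun u v hu hv => ?_⟩
    have huniq : ∀ w : G, orderOf w = 2 → w = x := fun w hw => by
      haveI : (Subgroup.zpowers x).Normal := ⟨fun a ha g => by rw [hcomm g a, mul_inv_cancel_right]; exact ha⟩
      have htop : Subgroup.zpowers x = ⊤ := (IsSimpleGroup.eq_bot_or_eq_top_of_normal _ inferInstance).resolve_left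
        (by rw [Subgroup.zpowers_eq_bot]; intro e; rw [e, orderOf_one] at hx; norm_num at hx)
      have hw' : w ∈ Subgroup.zpowers x := htop ▸ Subgroup.mem_top w
      rw [← mem_powers_iff_mem_zpowers] at hw'
      obtain ⟨i, rfl⟩ := hw'
      have hi := pow_mod_orderOf x i
      rw [hx] at hi
      show x ^ i = x
      rcases Nat.mod_two_eq_zero_or_one i with h | h
      · rw [h, pow_zero] at hi
        have : orderOf (x ^ i) = 1 := by rw [← hi, orderOf_one]
        exact absurd (this.symm.trans hw) (by norm_num)
      · rw [h, pow_one] at hi; exact hi.symm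
    rw [huniq u hu, huniq v hv]
  · have hO : Cfsg.oddCore G = ⊥ := by
      rcases IsSimpleGroup.eq_bot_or_eq_top_of_normal (Cfsg.oddCore G) inferInstance with h | h
      · exact h
      · exfalso
        have h1 := InvChar.Core.odd_card_oddCore (G := G)
        rw [h, Subgroup.card_top] at h1
        exact Nat.not_even_iff_odd.2 (h1.of_dvd_nat (hx ▸ orderOf_dvd_natCard x)) even_two
    have hgt : 2 < Nat.card G := by
      by_contra hle
      apply hcomm
      intro a b
      have h2 : Nat.card G = 2 := le_antisymm (not_lt.1 hle) (hx ▸ Nat.le_of_dvd Nat.card_pos (orderOf_dvd_natCard x))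
      haveI := isCyclic_of_prime_card (p := 2) h2
      letI := IsCyclic.commGroup (α := G)
      exact mul_comm a b
    have h : InvChar.ThreeInvolutions.Hyp x := ⟨hx, h3, Involutions.BrauerFowler.no_index_two hgt, fun z hz => by
      by_contra hh
      push Not at hh
      have hzc := ZStar.Main.mem_center_of_isolated hO (z := z) ⟨hz, hh⟩
      rcases IsSimpleGroup.eq_bot_or_eq_top_of_normal (Subgroup.center G) inferInstance with e | e
      · rw [e, Subgroup.mem_bot] at hzc
        rw [hzc, orderOf_one] at hz; norm_num at hz
      · exact hcomm fun a b => (Subgroup.mem_center_iff.1 (e ▸ Subgroup.mem_top b : b ∈ Subgroup.center G) a)⟩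
    exact ⟨InvChar.ThreeInvolutions.exists_sylow h, InvChar.ThreeInvolutions.all_conj h⟩

end Cfsg.Agent.S3279
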