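import Cfsg.Statements.S3283
import Cfsg.Agent.Lib.ExtraTwoNine.Main

set_option autoImplicit false
open Cfsg

namespace Cfsg.Agent.S3283

open Cfsg.Agent.ExtraTwoNine in
/-- Let G be a finite group with an involution z whose centralizer M has Q = O₂(M) extraspecial of order 2⁹ with C_M(Q) ≤ Q, and M/Q isomorphic to S₃ × A₆ or to S₃ × S₆. Then G is not simple. -/
theorem result {G : Type*} [Group G] [Finite G] (z : G) (hz : orderOf z = 2)
    (hQ : Cfsg.IsExtraspecial 2 ↥(Cfsg.pCore 2 ↥(Subgroup.centralizer ({z} : Set G)))) (hQ9 : Nat.card ↥(Cfsg.pCore 2 ↥(Subgroup.centralizer ({z} : Set G))) = 2 ^ 9)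
    (hCQ : Subgroup.centralizer ((Cfsg.pCore 2 ↥(Subgroup.centralizer ({z} : Set G))) : Set ↥(Subgroup.centralizer ({z} : Set G))) ≤ Cfsg.pCore 2 ↥(Subgroup.centralizer ({z} : Set G)))
    (hMQ : Nonempty (↥(Subgroup.centralizer ({z} : Set G)) ⧸ Cfsg.pCore 2 ↥(Subgroup.centralizer ({z} : Set G)) ≃* (Equiv.Perm (Fin 3) × ↥(alternatingGroup (Fin 6)))) ∨
      Nonempty (↥(Subgroup.centralizer ({z} : Set G)) ⧸ Cfsg.pCore 2 ↥(Subgroup.centralizer ({z} : Set G)) ≃* (Equiv.Perm (Fin 3) × Equiv.Perm (Fin 6)))) :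
    ¬ IsSimpleGroup G := by
  intro hs
  have hsign : Equiv.Perm.sign (Equiv.swap (0 : Fin 3) 1) = -1 := Equiv.Perm.sign_swap (by decide)
  rcases hMQ with ⟨⟨e⟩⟩ | ⟨⟨e⟩⟩
  · refine (exists_hyp hz _ hQ hQ9 hCQ
      (((MonoidHom.id (Equiv.Perm (Fin 3))).prodMap (alternatingGroup (Fin 6)).subtype).comp e.toMonoidHom)
      ?_ ?_ ?_).elim false_of_hyp
    · exact (Function.Injective.prodMap Function.injective_id Subtype.val_injective).comp e.injective
    · intro a b _ hb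
      exact ⟨e.symm (a, ⟨b, Equiv.Perm.mem_alternatingGroup.2 hb⟩), by simp⟩
    · exact ⟨e.symm (Equiv.swap 0 1, 1), by simp [hsign]⟩
  · refine (exists_hyp hz _ hQ hQ9 hCQ e.toMonoidHom e.injective ?_ ?_).elim false_of_hyp
    · intro a b _ _
      exact ⟨e.symm (a, b), e.apply_symm_apply _⟩
    · exact ⟨e.symm (Equiv.swap 0 1, 1), by simp [hsign]⟩

end Cfsg.Agent.S3283
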