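import Cfsg.Statements.S3285
import Cfsg.Agent.Lib.CentralTwoAlt.Five
import Cfsg.Agent.Lib.CentralTwoAlt.FourPSL

set_option autoImplicit false
open Cfsg

namespace Cfsg.Agent.S3285

open Cfsg.Agent.CentralTwoAlt

theorem sd4_normal : ∀ k : Model 4, ((sd p4).filter fun a => k * a * k⁻¹ ∉ sd p4) = ∅ := by decide +kernel

/-- Let G be a finite non-solvable group with no normal subgroup of index 2, and J an involution lying in the centre of a Sylow 2-subgroup of G whose centralizer is the internal direct product of ⟨J⟩ with a subgroup isomorphic to the alternating group of degree m. Then either m = 4 and G is isomorphic to the automorphism group PΓL(2, 8) of PSL(2, 8), or m = 5 and G is isomorphic to the first Janko group. -/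
theorem result {G : Type*} [Group G] [Finite G] (hns : ¬ Group.IsSolvable G) (h2 : ∀ N : Subgroup G, N.Normal → N.index ≠ 2)
    (J : G) (hJ : Cfsg.IsTwoCentralInvolution J) (m : ℕ) (T : Subgroup G)
    (hT : Nonempty (↥T ≃* ↥(alternatingGroup (Fin m))))
    (hd : Cfsg.IsInternalDirectProduct (Subgroup.zpowers J) T (Subgroup.centralizer ({J} : Set G))) :
    (m = 4 ∧ ∃ (F : Type) (_ : Field F) (_ : Fintype F), Fintype.card F = 8 ∧
        Nonempty (G ≃* MulAut (Matrix.ProjectiveSpecialLinearGroup (Fin 2) F))) ∨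
      (m = 5 ∧ Cfsg.Spor.IsoJ1 G) := by
  obtain ⟨e⟩ := hT
  have h2' : ∀ K : Subgroup G, K.index ≠ 2 := fun K h => h2 K (Subgroup.normal_of_index_eq_two h) h
  obtain ⟨hm, hg⟩ := m_eq hJ h2' e hd
  rcases hm with rfl | rfl
  · obtain ⟨c, -, hSd, -, -⟩ := exists_ctx std4 (by rw [model_card.1]; norm_num) hJ e hd hg
    exact Or.inl ⟨rfl, Four.iso_aut ⟨c, fun k a ha => by
      rw [hSd] at ha ⊢
      by_contra h
      exact (Finset.eq_empty_iff_forall_notMem.1 (sd4_normal k) a) (Finset.mem_filter.2 ⟨ha, h⟩),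
      model_card.1, hns⟩⟩
  · obtain ⟨c, -⟩ := exists_ctx std5 (by rw [model_card.2]; norm_num) hJ e hd hg
    exact Or.inr ⟨rfl, c.isoJ1⟩

end Cfsg.Agent.S3285
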