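import Cfsg.Statements.S3294
import Mathlib
import Cfsg.Agent.InvChar.CyclicIndexTwo
import Cfsg.Agent.Lib.Transfer.NormalPComplement

set_option linter.all false

set_option autoImplicit false
open Cfsg

namespace Cfsg.Agent.S3294

theorem quaternion_facts (m : ℕ) [NeZero m] :
    ∀ y : QuaternionGroup m, y ∉ Subgroup.zpowers (QuaternionGroup.a 1) →
      orderOf y = 4 ∧ ∀ h ∈ Subgroup.zpowers (QuaternionGroup.a 1 : QuaternionGroup m), y * h * y⁻¹ = h⁻¹ := by
  intro y hy
  cases y with
  | a i =>
    refine absurd ⟨((i.val : ℕ) : ℤ), ?_⟩ hy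
    simp only [zpow_natCast, QuaternionGroup.a_one_pow, ZMod.natCast_zmod_val]
  | xa i =>
    refine ⟨QuaternionGroup.orderOf_xa i, fun h hh => ?_⟩
    have h1 : QuaternionGroup.xa i * QuaternionGroup.a 1 * (QuaternionGroup.xa i)⁻¹ =
        (QuaternionGroup.a 1 : QuaternionGroup m)⁻¹ := by
      rw [mul_inv_eq_iff_eq_mul, show (QuaternionGroup.a 1 : QuaternionGroup m)⁻¹ = QuaternionGroup.a (-1) from rfl,
        QuaternionGroup.xa_mul_a, QuaternionGroup.a_mul_xa]
      congr 1
      ring
    obtain ⟨k, rfl⟩ := hh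
    simp only
    rw [← conj_zpow, h1, inv_zpow]

/-- A finite solvable group whose Sylow 2-subgroups are generalized quaternion of order at least 32 has a normal 2-complement. -/
theorem result {G : Type*} [Group G] [Finite G] (hsol : Group.IsSolvable G) (T : Sylow 2 G) (n : ℕ) (hn : 3 ≤ n) (hT : Nonempty ((T : Subgroup G) ≃* QuaternionGroup (2 ^ n))) : Cfsg.HasNormalPComplement 2 G := by
  classical
  haveI : Fact (Nat.Prime 2) := ⟨Nat.prime_two⟩
  refine Cfsg.Agent.Transfer.NormalPComplement.hasNormalPComplement_iff_isPGroup_quotient.2 ?_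
  haveI hGs : Group.IsSolvable (G ⧸ Cfsg.oddCore G) := by
    haveI := hsol
    infer_instance
  show IsPGroup 2 (G ⧸ Cfsg.oddCore G)
  set K := G ⧸ Cfsg.oddCore G
  have hO : Cfsg.oddCore K = ⊥ := Cfsg.Agent.Cores.pPrimeCore_quotient_self 2
  set P : Sylow 2 K := T.mapSurjective (QuotientGroup.mk'_surjective (Cfsg.oddCore G)) with hP
  obtain ⟨e⟩ := hT
  haveI : NeZero (2 ^ n : ℕ) := ⟨(Nat.two_pow_pos n).ne'⟩
  -- the image of the Sylow subgroup is again generalized quaternion
  let g : (T : Subgroup G) →* (P : Subgroup K) := (QuotientGroup.mk' (Cfsg.oddCore G)).subgroupMap (T : Subgroup G)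
  have hginj : Function.Injective g := by
    refine (injective_iff_map_eq_one g).2 fun t ht => ?_
    have h1 : (t : G) ∈ Cfsg.oddCore G := by
      rw [← QuotientGroup.eq_one_iff]; exact congrArg Subtype.val ht
    obtain ⟨k, hk⟩ := IsPGroup.iff_orderOf.1 T.2 t
    have hd : orderOf (t : G) ∣ Nat.card ↥(Cfsg.oddCore G) := by
      have := orderOf_dvd_natCard (⟨t, h1⟩ : ↥(Cfsg.oddCore G))
      rwa [← Subgroup.orderOf_coe] at this
    rw [Subgroup.orderOf_coe, hk] at hd
    have hodd := Cfsg.Agent.Cores.oddCore_odd (G := G)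
    cases k with
    | zero => exact orderOf_eq_one_iff.1 (by simpa using hk)
    | succ k =>
      exact absurd ((dvd_pow_self 2 k.succ_ne_zero).trans hd) (by
        rw [← even_iff_two_dvd]; exact Nat.not_even_iff_odd.2 hodd)
  let e' : (P : Subgroup K) ≃* QuaternionGroup (2 ^ n) :=
    (MulEquiv.ofBijective g ⟨hginj, MonoidHom.subgroupMap_surjective _ _⟩).symm.trans e
  haveI hQn : (Cfsg.pCore 2 K).Normal := Subgroup.sSup_normal _ (fun N hN => hN.1)
  set Q := Cfsg.pCore 2 K with hQ
  have hQP : Q ≤ (P : Subgroup K) := Cfsg.Agent.Cores.pCore_le_sylow P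
  have hQp : IsPGroup 2 Q := Cfsg.Agent.Cores.pCore_isPGroup 2
  have hC : Subgroup.centralizer (Q : Set K) ≤ Q :=
    Cfsg.Agent.InvChar.Solvable.centralizer_pCore_two_le hGs hO
  let ι : Q →* QuaternionGroup (2 ^ n) := e'.toMonoidHom.comp (Subgroup.inclusion hQP)
  have hι : Function.Injective ι := e'.injective.comp (Subgroup.inclusion_injective hQP)
  set A := Subgroup.zpowers (QuaternionGroup.a 1 : QuaternionGroup (2 ^ n)) with hA
  have hidx : A.index = 2 := by
    have h := A.card_mul_index
    rw [hA, Nat.card_zpowers, QuaternionGroup.orderOf_a_one, Nat.card_eq_fintype_card,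
      QuaternionGroup.card] at h
    exact Nat.eq_of_mul_eq_mul_left (by positivity : 0 < 2 * 2 ^ n) (h.trans (by ring))
  haveI hcyc : IsCyclic (A.comap ι) :=
    isCyclic_of_injective (ι.subgroupComap A) (fun a b h => Subtype.ext (hι (congrArg Subtype.val h)))
  have hi : (A.comap ι).index ≤ 2 := by
    rw [Subgroup.index_comap]
    haveI : A.Normal := Subgroup.normal_of_index_eq_two hidx
    have hd := Subgroup.relIndex_dvd_index_of_normal A ι.range
    rw [hidx] at hd
    exact Nat.le_of_dvd (by norm_num) hd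
  rcases Cfsg.Agent.InvChar.CyclicIndexTwo.quaternion_like hQp (A.comap ι) hcyc hi (fun y hy => by
      obtain ⟨h1, h2⟩ := quaternion_facts (2 ^ n) (ι y) hy
      refine ⟨(orderOf_injective ι hι y).symm.trans h1, fun h hh => hι ?_⟩
      rw [map_mul, map_mul, map_inv, map_inv, h2 _ hh]) with hA2 | ⟨h24, hZ⟩
  · exact Cfsg.Agent.InvChar.Solvable.isPGroup_of_isPGroup_mulAut Q hC hQp hA2
  · -- small case
    have hcard : Nat.card K ≤ 2 * 24 := by
      rw [← (MulAut.conjNormal : K →* MulAut Q).ker.card_mul_index]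
      refine Nat.mul_le_mul (le_trans ?_ hZ) ?_
      · have hmem : ∀ k ∈ (MulAut.conjNormal : K →* MulAut Q).ker, ∀ q : Q, k * (q : K) = (q : K) * k := by
          intro k hk q
          have h1 := congrArg Subtype.val (DFunLike.congr_fun (MonoidHom.mem_ker.1 hk) q)
          rw [MulAut.conjNormal_apply] at h1
          exact mul_inv_eq_iff_eq_mul.1 h1
        have hkQ : ∀ k ∈ (MulAut.conjNormal : K →* MulAut Q).ker, k ∈ Q := fun k hk =>
          hC (Subgroup.mem_centralizer_iff.2 fun q hq => (hmem k hk ⟨q, hq⟩).symm)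
        exact Nat.card_le_card_of_injective
          (fun k : (MulAut.conjNormal : K →* MulAut Q).ker =>
            (⟨⟨k, hkQ k k.2⟩, Subgroup.mem_center_iff.2 fun q =>
              Subtype.ext (hmem k k.2 q).symm⟩ : Subgroup.center Q))
          (fun a b h => Subtype.ext (congrArg (fun u : Subgroup.center Q => ((u : Q) : K)) h))
      · rw [Subgroup.index_ker]
        exact le_trans (Subgroup.card_le_card_group _) h24
    have hPc : Nat.card (P : Subgroup K) = 4 * 2 ^ n := by
      rw [Nat.card_congr e'.toEquiv, Nat.card_eq_fintype_card, QuaternionGroup.card]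
    have h32 : 32 ≤ 4 * 2 ^ n := by
      have : 2 ^ 3 ≤ 2 ^ n := Nat.pow_le_pow_right (by norm_num) hn
      omega
    have hd := (P : Subgroup K).card_subgroup_dvd_card
    have heq : Nat.card K = Nat.card (P : Subgroup K) := by
      obtain ⟨c, hc⟩ := hd
      rcases Nat.lt_or_ge c 2 with h | h
      · interval_cases c
        · rw [mul_zero] at hc
          exact absurd hc Nat.card_pos.ne'
        · omega
      · have : 2 * Nat.card (P : Subgroup K) ≤ Nat.card K := by rw [hc, mul_comm 2]; exact Nat.mul_le_mul_left _ h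
        omega
    obtain ⟨k, hk⟩ := IsPGroup.iff_card.1 P.2
    exact IsPGroup.of_card (heq.trans hk)

end Cfsg.Agent.S3294
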