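import Cfsg.Statements.S3299
import Mathlib
import Cfsg.Agent.InvChar.LargeExtraspecialTransfer

set_option linter.all false

set_option autoImplicit false
open Cfsg

namespace Cfsg.Agent.S3299

theorem o_mul : (Multiplicative.ofAdd (1 : ZMod 2)) * Multiplicative.ofAdd 1 = 1 := by decide

theorem sq_zmod : ∀ a : Multiplicative (ZMod 2), a ^ 2 ^ 1 = 1 := by decide

/-- Let G be a finite group with no nontrivial 2-group quotient (O^2(G) = G), z an involution of G with H = C_G(z), and suppose E = O_2(H) is extraspecial with C_G(E) ≤ E and of order 2^(2n+1) with n ≥ 2. Then E is contained in every normal subgroup of H of index 2. -/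
theorem result {G : Type*} [Group G] [Finite G] (hres : Cfsg.pResidual 2 G = ⊤) (z : G) (hz : orderOf z = 2)
    (E : Subgroup G) (hE : E = (Cfsg.pCore 2 ↥(Subgroup.centralizer ({z} : Set G))).map (Subgroup.centralizer ({z} : Set G)).subtype)
    (hext : Cfsg.IsExtraspecial 2 ↥E) (hcent : Subgroup.centralizer (E : Set G) ≤ E) (n : ℕ) (hn : 2 ≤ n) (hcard : Nat.card ↥E = 2 ^ (2 * n + 1))
    (K : Subgroup G) (hKH : K ≤ Subgroup.centralizer ({z} : Set G))
    (hKn : ∀ h ∈ Subgroup.centralizer ({z} : Set G), K.map (MulAut.conj h).toMonoidHom = K)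
    (hKi : K.relIndex (Subgroup.centralizer ({z} : Set G)) = 2) : E ≤ K := by
  haveI : Fact (Nat.Prime 2) := ⟨Nat.prime_two⟩
  have hz1 : z ≠ 1 := fun e => by simp [e] at hz
  have hzz : z * z = 1 := by rw [← sq, ← hz, pow_orderOf_eq_one]
  have hzC : z ∈ Subgroup.centralizer ({z} : Set G) := Subgroup.mem_centralizer_singleton_iff.2 rfl
  have hEle : E ≤ Subgroup.centralizer ({z} : Set G) := hE ▸ Subgroup.map_subtype_le _
  have hEn : Subgroup.centralizer ({z} : Set G) ≤ Subgroup.normalizer (E : Set G) := by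
    intro h hh
    rw [hE, Subgroup.mem_normalizer_iff]
    intro n
    constructor
    · rintro ⟨a, ha, rfl⟩
      exact ⟨⟨h, hh⟩ * a * ⟨h, hh⟩⁻¹, (inferInstance : (Cfsg.pCore 2 _).Normal).conj_mem a ha _, rfl⟩
    · rintro ⟨a, ha, he⟩
      refine ⟨⟨h, hh⟩⁻¹ * a * ⟨h, hh⟩, by
        simpa using (inferInstance : (Cfsg.pCore 2 ↥(Subgroup.centralizer ({z} : Set G))).Normal).conj_mem a ha ⟨h, hh⟩⁻¹, ?_⟩
      show h⁻¹ * (a : G) * h = n
      rw [show (a : G) = h * n * h⁻¹ from he]; group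
  have hzE : z ∈ E := by
    rw [hE]
    haveI : (Subgroup.zpowers (⟨z, hzC⟩ : ↥(Subgroup.centralizer ({z} : Set G)))).Normal := ⟨fun a ha g => by
      obtain ⟨i, rfl⟩ := ha
      have h0 : Commute (g : ↥(Subgroup.centralizer ({z} : Set G))) ⟨z, hzC⟩ :=
        Subtype.ext (Subgroup.mem_centralizer_singleton_iff.1 g.2)
      show g * (⟨z, hzC⟩ : ↥(Subgroup.centralizer ({z} : Set G))) ^ i * g⁻¹ ∈ _
      rw [(h0.zpow_right i).eq, mul_inv_cancel_right]
      exact ⟨i, rfl⟩⟩
    exact ⟨⟨z, hzC⟩, Cores.le_pCore (p := 2) (IsPGroup.of_card (n := 1) (by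
      rw [Nat.card_zpowers, ← Subgroup.orderOf_coe, pow_one]; exact hz)) (Subgroup.mem_zpowers _), rfl⟩
  have hzc : ∀ e ∈ E, e * z = z * e := fun e he => Subgroup.mem_centralizer_singleton_iff.1 (hEle he)
  have hcenter : ∀ c ∈ E, (∀ e ∈ E, e * c = c * e) → c = 1 ∨ c = z := by
    intro c hc hcc
    have hzcen : (⟨z, hzE⟩ : ↥E) ∈ Subgroup.center ↥E := Subgroup.mem_center_iff.2 fun q => Subtype.ext (hzc q q.2)
    rcases (InvChar.Extraspecial.facts hext hzcen fun e => hz1 (congrArg Subtype.val e)).1 ⟨c, hc⟩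
      (Subgroup.mem_center_iff.2 fun q => Subtype.ext (hcc q q.2)) with e | e
    · exact Or.inl (congrArg Subtype.val e)
    · exact Or.inr (congrArg Subtype.val e)
  classical
  have h32 : 8 < Nat.card ↥E := by
    rw [hcard]
    calc 8 < 2 ^ 5 := by norm_num
      _ ≤ 2 ^ (2 * n + 1) := Nat.pow_le_pow_right (by norm_num) (by omega)
  have hgood := InvChar.LargeExtraspecialTransfer.good_of_extraspecial E hext hzE hz1 hzc h32
  let o : Multiplicative (ZMod 2) := Multiplicative.ofAdd 1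
  have hmem : ∀ a b : ↥(Subgroup.centralizer ({z} : Set G)), ((a : G) * b ∈ K ↔ ((a : G) ∈ K ↔ (b : G) ∈ K)) := fun a b =>
    Subgroup.mul_mem_iff_of_index_two (H := K.subgroupOf (Subgroup.centralizer ({z} : Set G))) hKi (a := a) (b := b)
  let χ : ↥(Subgroup.centralizer ({z} : Set G)) →* Multiplicative (ZMod 2) :=
    { toFun := fun h => if (h : G) ∈ K then 1 else o
      map_one' := by simp [K.one_mem]
      map_mul' := fun a b => by
        by_cases ha : (a : G) ∈ K <;> by_cases hb : (b : G) ∈ K <;> simp [hmem a b, ha, hb] <;> exact o_mul.symm }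
  have h1 := (InvChar.LargeExtraspecialTransfer.transfer_facts hres hEn hEle hgood hzE hz1 hcent hcenter χ (k := 1)
    sq_zmod).1
  intro e he
  by_contra hno
  have h2 := h1 ⟨e, hEle he⟩ he
  simp [χ, hno, o] at h2

end Cfsg.Agent.S3299
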