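import Cfsg.Statements.S3300
import Cfsg.Agent.InvChar.LargeExtraspecialTransfer
import Cfsg.Agent.InvChar.ExtraspecialTransferTwoApplied
import Cfsg.Agent.Lib.PGroups.Extraspecial
-- import your own Cfsg.Agent.* helpers here

set_option autoImplicit false
open Cfsg

namespace Cfsg.Agent.S3300

theorem o_mul : (Multiplicative.ofAdd (1 : ZMod 2)) * Multiplicative.ofAdd 1 = 1 := by decide

theorem sq_zmod : ∀ a : Multiplicative (ZMod 2), a * a = 1 := by decide

theorem sq_zmod' : ∀ a : Multiplicative (ZMod 2), a ^ 2 ^ 1 = 1 := by decide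

/-- Let G be a finite group with no nontrivial 2-group quotient (O^2(G) = G), z an involution of G with H = C_G(z), and suppose E = O_2(H) is extraspecial with C_G(E) ≤ E and of order 2^(2n+1) with n ≥ 3. If H has a normal subgroup of index 2, then z is conjugate in G to an element of E other than z. -/
theorem result {G : Type*} [Group G] [Finite G] (hres : Cfsg.pResidual 2 G = ⊤) (z : G) (hz : orderOf z = 2)
    (E : Subgroup G) (hE : E = (Cfsg.pCore 2 ↥(Subgroup.centralizer ({z} : Set G))).map (Subgroup.centralizer ({z} : Set G)).subtype)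
    (hext : Cfsg.IsExtraspecial 2 ↥E) (hcent : Subgroup.centralizer (E : Set G) ≤ E) (n : ℕ) (hn : 3 ≤ n) (hcard : Nat.card ↥E = 2 ^ (2 * n + 1))
    (K : Subgroup G) (hKH : K ≤ Subgroup.centralizer ({z} : Set G))
    (hKn : ∀ h ∈ Subgroup.centralizer ({z} : Set G), K.map (MulAut.conj h).toMonoidHom = K)
    (hKi : K.relIndex (Subgroup.centralizer ({z} : Set G)) = 2) :
    ∃ g : G, g * z * g⁻¹ ∈ E ∧ g * z * g⁻¹ ≠ z := by
  haveI : Fact (Nat.Prime 2) := ⟨Nat.prime_two⟩
  have hz1 : z ≠ 1 := fun e => by simp [e] at hz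
  have hzz : z * z = 1 := by rw [← sq, ← hz, pow_orderOf_eq_one]
  have hzC : z ∈ Subgroup.centralizer ({z} : Set G) := Subgroup.mem_centralizer_singleton_iff.2 rfl
  have hEle : E ≤ Subgroup.centralizer ({z} : Set G) := hE ▸ Subgroup.map_subtype_le _
  have hEn : Subgroup.centralizer ({z} : Set G) ≤ Subgroup.normalizer (E : Set G) := by
    intro h hh
    rw [hE, Subgroup.mem_normalizer_iff]
    intro n
    constructor
    · rintro ⟨a, ha, rfl⟩
      exact ⟨⟨h, hh⟩ * a * ⟨h, hh⟩⁻¹, (inferInstance : (Cfsg.pCore 2 _).Normal).conj_mem a ha _, rfl⟩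
    · rintro ⟨a, ha, he⟩
      refine ⟨⟨h, hh⟩⁻¹ * a * ⟨h, hh⟩, by
        simpa using (inferInstance : (Cfsg.pCore 2 ↥(Subgroup.centralizer ({z} : Set G))).Normal).conj_mem a ha ⟨h, hh⟩⁻¹, ?_⟩
      show h⁻¹ * (a : G) * h = n
      rw [show (a : G) = h * n * h⁻¹ from he]; group
  have hzE : z ∈ E := by
    rw [hE]
    haveI : (Subgroup.zpowers (⟨z, hzC⟩ : ↥(Subgroup.centralizer ({z} : Set G)))).Normal := ⟨fun a ha g => by
      obtain ⟨i, rfl⟩ := ha
      have h0 : Commute (g : ↥(Subgroup.centralizer ({z} : Set G))) ⟨z, hzC⟩ :=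
        Subtype.ext (Subgroup.mem_centralizer_singleton_iff.1 g.2)
      show g * (⟨z, hzC⟩ : ↥(Subgroup.centralizer ({z} : Set G))) ^ i * g⁻¹ ∈ _
      rw [(h0.zpow_right i).eq, mul_inv_cancel_right]
      exact ⟨i, rfl⟩⟩
    exact ⟨⟨z, hzC⟩, Cores.le_pCore (p := 2) (IsPGroup.of_card (n := 1) (by
      rw [Nat.card_zpowers, ← Subgroup.orderOf_coe, pow_one]; exact hz)) (Subgroup.mem_zpowers _), rfl⟩
  have hzc : ∀ e ∈ E, e * z = z * e := fun e he => Subgroup.mem_centralizer_singleton_iff.1 (hEle he)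
  have hcenter : ∀ c ∈ E, (∀ e ∈ E, e * c = c * e) → c = 1 ∨ c = z := by
    intro c hc hcc
    have hzcen : (⟨z, hzE⟩ : ↥E) ∈ Subgroup.center ↥E := Subgroup.mem_center_iff.2 fun q => Subtype.ext (hzc q q.2)
    rcases (InvChar.Extraspecial.facts hext hzcen fun e => hz1 (congrArg Subtype.val e)).1 ⟨c, hc⟩
      (Subgroup.mem_center_iff.2 fun q => Subtype.ext (hcc q q.2)) with e | e
    · exact Or.inl (congrArg Subtype.val e)
    · exact Or.inr (congrArg Subtype.val e)
  classical
  by_contra hno
  push Not at hno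
  have h128 : 128 ≤ Nat.card ↥E := by
    rw [hcard]
    calc 128 = 2 ^ 7 := by norm_num
      _ ≤ 2 ^ (2 * n + 1) := Nat.pow_le_pow_right (by norm_num) (by omega)
  have hgood := InvChar.LargeExtraspecialTransfer.good_of_extraspecial E hext hzE hz1 hzc (by omega)
  have hsub : ∀ M0 : Subgroup G, M0 ≤ E → M0.relIndex E = 2 →
      InvChar.ExtraspecialTransfer.Good M0 z := by
    intro M0 hM0 hidx
    refine ⟨fun e he => hgood.sq e (hM0 he), fun a ha b hb => hgood.comm a (hM0 ha) b (hM0 hb),
      fun M hM hMidx => ?_⟩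
    by_contra hab
    push Not at hab
    haveI : IsMulCommutative ↥(M.subgroupOf E) :=
      ⟨⟨fun a b => Subtype.ext (Subtype.ext (hab _ a.2 _ b.2))⟩⟩
    have h1 := PGroups.Extraspecial.card_sq_le_of_abelian hext (M.subgroupOf E)
    have h2 : (M.subgroupOf E).index = 4 := by
      rw [← Subgroup.relIndex, ← Subgroup.relIndex_mul_relIndex M M0 E hM hM0, hidx, hMidx]
    have h3 := Subgroup.card_mul_index (M.subgroupOf E)
    rw [h2] at h3
    nlinarith
  have hzcE : (⟨z, hzE⟩ : ↥E) ∈ Subgroup.center ↥E :=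
    Subgroup.mem_center_iff.2 fun q => Subtype.ext (hzc q q.2)
  obtain ⟨hall, hzz', hcomm, hsq⟩ :=
    InvChar.Extraspecial.facts hext hzcE fun e => hz1 (congrArg Subtype.val e)
  have hfix : ∀ g : G, g * z * g⁻¹ ≠ z → ∀ M0 : Subgroup G, M0 ≤ E → M0.relIndex E = 2 →
      ∃ e ∈ M0, e * (g * z * g⁻¹) ≠ g * z * g⁻¹ * e := by
    intro g hg M0 hM0 hidx
    by_contra hcon
    push Not at hcon
    set w := g * z * g⁻¹ with hw
    have hwE : w ∉ E := fun h => hg (hno g h)
    have hww : w * w = 1 := by
      rw [hw, show g * z * g⁻¹ * (g * z * g⁻¹) = g * (z * z) * g⁻¹ by group, hzz, mul_one,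
        mul_inv_cancel]
    have hwinv : w⁻¹ = w := inv_eq_of_mul_eq_one_right hww
    have hgM := InvChar.ExtraspecialTransfer.z_mem hgood M0 hM0 hidx
    have hwH : w ∈ Subgroup.centralizer ({z} : Set G) :=
      Subgroup.mem_centralizer_singleton_iff.2 (hcon z hgM).symm
    clear_value w
    obtain ⟨y, hy, hyM⟩ : ∃ y ∈ E, y ∉ M0 := by
      by_contra h
      push Not at h
      rw [Subgroup.relIndex_eq_one.2 (show E ≤ M0 from h)] at hidx
      omega
    have hmem : ∀ {a b : G}, a ∈ E → b ∈ E → (a * b ∈ M0 ↔ (a ∈ M0 ↔ b ∈ M0)) := fun {a b} ha hb =>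
      Subgroup.mul_mem_iff_of_index_two (H := M0.subgroupOf E) hidx (a := ⟨a, ha⟩) (b := ⟨b, hb⟩)
    have hgen : ∀ u : G, (∀ m ∈ M0, m * u = u * m) → y * u = u * y → ∀ e ∈ E, e * u = u * e := by
      intro u h1 h2 e he
      by_cases hem : e ∈ M0
      · exact h1 e hem
      · have hm : e * y⁻¹ ∈ M0 := (hmem he (E.inv_mem hy)).2 (by simp [hem, hyM])
        have h3 := (show Commute (e * y⁻¹) u from h1 _ hm).mul_left (show Commute y u from h2)
        rwa [inv_mul_cancel_right] at h3
    set y' := w * y * w⁻¹ with hy'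
    have hy'E : y' ∈ E := (Subgroup.mem_normalizer_iff.1 (hEn hwH) y).1 hy
    set d := y⁻¹ * y' with hd
    have hdE : d ∈ E := E.mul_mem (E.inv_mem hy) hy'E
    have hy'eq : y' = y * d := by rw [hd, mul_inv_cancel_left]
    have hinf : ∀ m ∈ M0, y⁻¹ * m * y ∈ M0 := fun m hm =>
      (hmem (E.mul_mem (E.inv_mem hy) (hM0 hm)) hy).2 (iff_of_false (fun h => hyM (by
        have := (hmem (E.inv_mem hy) (hM0 hm)).1 h
        simpa [hm] using this)) hyM)
    have hdc : ∀ m ∈ M0, m * d = d * m := by
      intro m hm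
      have h1 : w * (y⁻¹ * m * y) * w⁻¹ = y⁻¹ * m * y := by
        rw [← hcon _ (hinf m hm), mul_inv_cancel_right]
      have h2 : w * m * w⁻¹ = m := by rw [← hcon m hm, mul_inv_cancel_right]
      have h3 : y'⁻¹ * m * y' = y⁻¹ * m * y := by
        rw [← h1]
        conv_lhs => rw [← h2, hy']
        group
      rw [hy'eq] at h3
      have h4 : d⁻¹ * (y⁻¹ * m * y) * d = y⁻¹ * m * y :=
        (show d⁻¹ * (y⁻¹ * m * y) * d = (y * d)⁻¹ * m * (y * d) by group).trans h3
      -- conjugation by `y` preserves `M0`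
      have h5 : ∀ x, x = y⁻¹ * m * y → x * d = d * x := by
        rintro x rfl
        calc y⁻¹ * m * y * d = d * (d⁻¹ * (y⁻¹ * m * y) * d) := by group
          _ = _ := by rw [h4]
      rcases hgood.comm m (hM0 hm) y hy with h | h
      · exact h5 m (by rw [mul_assoc, h, inv_mul_cancel_left])
      · have h6 := h5 (z * m) (by
          rw [mul_assoc y⁻¹ m y, h, ← mul_assoc y⁻¹, hzc y⁻¹ (E.inv_mem hy), mul_assoc z y⁻¹, inv_mul_cancel_left])
        rw [mul_assoc, ← mul_assoc d, hzc d hdE, mul_assoc] at h6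
        exact mul_left_cancel h6
    have hdz : d ≠ 1 := by
      intro h1
      rw [h1, mul_one] at hy'eq
      refine hwE (hcent (Subgroup.mem_centralizer_iff.2 (hgen w hcon ?_)))
      exact (mul_inv_eq_iff_eq_mul.1 hy'eq).symm
    by_cases hdy : y * d = d * y
    · -- `d` is central, so `d = z`
      rcases hcenter d hdE (hgen d hdc hdy) with h | h
      · exact hdz h
      obtain ⟨u, hu, hu1, hu2⟩ : ∃ u ∈ E, (∀ m ∈ M0, m * u = u * m) ∧ y * u ≠ u * y := by
        have hZle : Subgroup.center ↥E ≤ M0.subgroupOf E := fun x hx => by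
          rcases hall x hx with e | e <;> subst e
          · exact one_mem _
          · exact hgM
        have h1 := PGroups.Extraspecial.card_mul_card_centralizer hext (M0.subgroupOf E) hZle
        have h2 := Subgroup.card_mul_index (M0.subgroupOf E)
        rw [show (M0.subgroupOf E).index = 2 from hidx] at h2
        have h4 : Nat.card (Subgroup.centralizer ((M0.subgroupOf E : Subgroup ↥E) : Set ↥E)) = 4 := by
          have hpos : 0 < Nat.card ↥(M0.subgroupOf E) := Nat.card_pos
          nlinarith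
        by_contra hall'
        push Not at hall'
        have hle : Subgroup.centralizer ((M0.subgroupOf E : Subgroup ↥E) : Set ↥E) ≤ Subgroup.center ↥E := by
          intro x hx
          have hxm : ∀ m ∈ M0, m * (x : G) = (x : G) * m := fun m hm =>
            congrArg Subtype.val (Subgroup.mem_centralizer_iff.1 hx ⟨m, hM0 hm⟩ hm)
          exact Subgroup.mem_center_iff.2 fun q => Subtype.ext (hgen x hxm (hall' x x.2 hxm) q q.2)
        have h5 := Subgroup.card_le_of_le hle
        rw [h4, hext.2] at h5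
        omega
      have hyu : y * u = z * (u * y) := (hgood.comm y hy u hu).resolve_left hu2
      -- `w * u` centralises `E`
      have hwu : ∀ e ∈ E, e * (w * u) = w * u * e := by
        refine hgen _ (fun m hm => ((show Commute m w from hcon m hm).mul_right
          (show Commute m u from hu1 m hm)).eq) ?_
        have hwy : w * y = y * z * w := by
          rw [← h, ← hy'eq, hy', inv_mul_cancel_right]
        have hzw : z * w = w * z := hcon z hgM
        calc y * (w * u) = z * (z * (y * w)) * u := by rw [← mul_assoc z z, hzz, one_mul, mul_assoc]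
          _ = z * (y * z * w) * u := by rw [← mul_assoc z y, ← hzc y hy]
          _ = z * (w * y) * u := by rw [hwy]
          _ = w * (z * (y * u)) := by rw [← mul_assoc z w, hzw]; group
          _ = w * u * y := by rw [hyu, ← mul_assoc z z, hzz, one_mul, mul_assoc]
      have h1 := hcent (Subgroup.mem_centralizer_iff.2 hwu)
      exact hwE ((E.mul_mem_cancel_right hu).1 h1)
    · have hyd : y * d = z * (d * y) := (hgood.comm y hy d hdE).resolve_left hdy
      have hdd : d * d = 1 := by
        have hdM : d ∈ M0 ∨ d ∉ M0 := em _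
        -- apply `w` twice
        have h1 : w * y' * w⁻¹ = y := by
          rw [hy', show w * (w * y * w⁻¹) * w⁻¹ = (w * w) * y * (w * w)⁻¹ by group, hww]; group
        rcases hdM with hdM | hdM
        · rw [hy'eq, show w * (y * d) * w⁻¹ = (w * y * w⁻¹) * (w * d * w⁻¹) by group,
            ← hcon d hdM, mul_inv_cancel_right, ← hy', hy'eq, mul_assoc] at h1
          exact mul_eq_left.1 h1
        · exfalso
          apply hdy
          have hm : y * d⁻¹ ∈ M0 := (hmem hy (E.inv_mem hdE)).2 (by simp [hyM, hdM])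
          have h2 := hdc _ hm
          rw [inv_mul_cancel_right] at h2
          calc y * d = d * (y * d⁻¹) * d := by rw [← h2]
            _ = d * y := by group
      have hyy : y' * y' = y * y := by
        rw [hy', show w * y * w⁻¹ * (w * y * w⁻¹) = w * (y * y) * w⁻¹ by group]
        rcases hgood.sq y hy with h | h <;> rw [h]
        · group
        · rw [← hcon z hgM, mul_inv_cancel_right]
      rw [hy'eq] at hyy
      have h2 : y * d * (y * d) = y * y * z := by
        calc y * d * (y * d) = y * (d * y) * d := by group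
          _ = y * (z * (z * (d * y))) * d := by rw [← mul_assoc z z, hzz, one_mul]
          _ = y * (z * (y * d)) * d := by rw [hyd]
          _ = y * (z * y) * (d * d) := by group
          _ = y * y * z := by rw [hdd, mul_one, ← hzc y hy, mul_assoc]
      rw [h2] at hyy
      exact hz1 (mul_eq_left.1 hyy)
  set H := Subgroup.centralizer ({z} : Set G) with hH
  let o : Multiplicative (ZMod 2) := Multiplicative.ofAdd 1
  have hmem : ∀ a b : ↥H, ((a : G) * b ∈ K ↔ ((a : G) ∈ K ↔ (b : G) ∈ K)) := fun a b =>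
    Subgroup.mul_mem_iff_of_index_two (H := K.subgroupOf H) hKi (a := a) (b := b)
  let χ : ↥H →* Multiplicative (ZMod 2) :=
    { toFun := fun h => if (h : G) ∈ K then 1 else o
      map_one' := by simp [K.one_mem]
      map_mul' := fun a b => by
        by_cases ha : (a : G) ∈ K <;> by_cases hb : (b : G) ∈ K <;> simp [hmem a b, ha, hb] <;> exact o_mul.symm }
  have h2el : ∀ x : ↥H, (∃ i, x ^ 2 ^ i = 1) → χ x = 1 :=
    InvChar.LargeExtraspecialTransfer.two_elements hres hEn hEle hgood hzE hz1 hcent hcenter χ sq_zmod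
      sq_zmod' hsub hfix
  have hker : K.subgroupOf H ≠ ⊤ := fun h => by
    rw [Subgroup.relIndex, h, Subgroup.index_top] at hKi
    omega
  obtain ⟨P⟩ : Nonempty (Sylow 2 ↥H) := inferInstance
  have hPK : (P : Subgroup ↥H) ≤ K.subgroupOf H := by
    intro x hx
    obtain ⟨i, hi⟩ := P.isPGroup' ⟨x, hx⟩
    have h1 := h2el x ⟨i, by simpa using congrArg Subtype.val hi⟩
    by_contra hxK
    simp [χ, o, show (x : G) ∉ K from hxK] at h1
  exact P.not_dvd_index ((show (2 : ℕ) ∣ (K.subgroupOf H).index from hKi ▸ dvd_refl _).trans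
    (Subgroup.index_dvd_of_le hPK))

end Cfsg.Agent.S3300
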