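import Cfsg.Statements.S3301
import Mathlib
import Cfsg.Agent.InvChar.LargeExtraspecialTransfer

set_option linter.all false
open scoped commutatorElement

set_option autoImplicit false
open Cfsg

namespace Cfsg.Agent.S3301

/-- Let G be a finite group with no nontrivial 2-group quotient (O^2(G) = G), z an involution of G with H = C_G(z), and suppose E = O_2(H) is extraspecial with C_G(E) ≤ E. Then the Sylow 2-subgroups of H/[H, H] are elementary abelian: every element of 2-power order of the abelianization of H has order at most 2. -/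
theorem result {G : Type*} [Group G] [Finite G] (hres : Cfsg.pResidual 2 G = ⊤) (z : G) (hz : orderOf z = 2)
    (E : Subgroup G) (hE : E = (Cfsg.pCore 2 ↥(Subgroup.centralizer ({z} : Set G))).map (Subgroup.centralizer ({z} : Set G)).subtype)
    (hext : Cfsg.IsExtraspecial 2 ↥E) (hcent : Subgroup.centralizer (E : Set G) ≤ E) :
    ∀ q : Abelianization ↥(Subgroup.centralizer ({z} : Set G)), (∃ k : ℕ, orderOf q = 2 ^ k) → q ^ 2 = 1 := by
  haveI : Fact (Nat.Prime 2) := ⟨Nat.prime_two⟩
  have hz1 : z ≠ 1 := fun e => by simp [e] at hz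
  have hzz : z * z = 1 := by rw [← sq, ← hz, pow_orderOf_eq_one]
  have hzC : z ∈ Subgroup.centralizer ({z} : Set G) := Subgroup.mem_centralizer_singleton_iff.2 rfl
  have hEle : E ≤ Subgroup.centralizer ({z} : Set G) := hE ▸ Subgroup.map_subtype_le _
  have hEn : Subgroup.centralizer ({z} : Set G) ≤ Subgroup.normalizer (E : Set G) := by
    intro h hh
    rw [hE, Subgroup.mem_normalizer_iff]
    intro n
    constructor
    · rintro ⟨a, ha, rfl⟩
      exact ⟨⟨h, hh⟩ * a * ⟨h, hh⟩⁻¹, (inferInstance : (Cfsg.pCore 2 _).Normal).conj_mem a ha _, rfl⟩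
    · rintro ⟨a, ha, he⟩
      refine ⟨⟨h, hh⟩⁻¹ * a * ⟨h, hh⟩, by
        simpa using (inferInstance : (Cfsg.pCore 2 ↥(Subgroup.centralizer ({z} : Set G))).Normal).conj_mem a ha ⟨h, hh⟩⁻¹, ?_⟩
      show h⁻¹ * (a : G) * h = n
      rw [show (a : G) = h * n * h⁻¹ from he]; group
  have hzE : z ∈ E := by
    rw [hE]
    haveI : (Subgroup.zpowers (⟨z, hzC⟩ : ↥(Subgroup.centralizer ({z} : Set G)))).Normal := ⟨fun a ha g => by
      obtain ⟨i, rfl⟩ := ha
      have h0 : Commute (g : ↥(Subgroup.centralizer ({z} : Set G))) ⟨z, hzC⟩ :=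
        Subtype.ext (Subgroup.mem_centralizer_singleton_iff.1 g.2)
      show g * (⟨z, hzC⟩ : ↥(Subgroup.centralizer ({z} : Set G))) ^ i * g⁻¹ ∈ _
      rw [(h0.zpow_right i).eq, mul_inv_cancel_right]
      exact ⟨i, rfl⟩⟩
    exact ⟨⟨z, hzC⟩, Cores.le_pCore (p := 2) (IsPGroup.of_card (n := 1) (by
      rw [Nat.card_zpowers, ← Subgroup.orderOf_coe, pow_one]; exact hz)) (Subgroup.mem_zpowers _), rfl⟩
  have hzc : ∀ e ∈ E, e * z = z * e := fun e he => Subgroup.mem_centralizer_singleton_iff.1 (hEle he)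
  have hcenter : ∀ c ∈ E, (∀ e ∈ E, e * c = c * e) → c = 1 ∨ c = z := by
    intro c hc hcc
    have hzcen : (⟨z, hzE⟩ : ↥E) ∈ Subgroup.center ↥E := Subgroup.mem_center_iff.2 fun q => Subtype.ext (hzc q q.2)
    rcases (InvChar.Extraspecial.facts hext hzcen fun e => hz1 (congrArg Subtype.val e)).1 ⟨c, hc⟩
      (Subgroup.mem_center_iff.2 fun q => Subtype.ext (hcc q q.2)) with e | e
    · exact Or.inl (congrArg Subtype.val e)
    · exact Or.inr (congrArg Subtype.val e)
  classical
  set H := Subgroup.centralizer ({z} : Set G) with hH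
  intro q hq
  obtain ⟨j, hj⟩ := hq
  obtain ⟨M, r, hrodd, hcard⟩ := Nat.exists_eq_two_pow_mul_odd (Nat.card_pos (α := ↥H)).ne'
  obtain ⟨e, he1, he2⟩ := Nat.chineseRemainder ((Nat.coprime_two_left.2 hrodd).pow_left M) 1 0
  obtain ⟨m, hm⟩ := Nat.modEq_zero_iff_dvd.1 he2
  obtain ⟨h0, hh0⟩ : ∃ h0, Abelianization.of h0 = q := QuotientGroup.mk_surjective q
  have hqM : q ^ 2 ^ M = 1 := by
    refine orderOf_dvd_iff_pow_eq_one.1 ?_
    rw [hj]
    have h1 : 2 ^ j ∣ 2 ^ M * r := by
      rw [← hj, ← hcard, ← hh0]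
      exact (orderOf_map_dvd Abelianization.of h0).trans (orderOf_dvd_natCard h0)
    exact ((Nat.coprime_two_left.2 hrodd).pow_left j).dvd_of_dvd_mul_right h1
  have hqe : q ^ e = q := by
    conv_rhs => rw [← pow_one q]
    exact pow_eq_pow_iff_modEq.2 (he1.of_dvd (orderOf_dvd_of_pow_eq_one hqM))
  set x := h0 ^ e with hxdef
  have hx : x ^ 2 ^ M = 1 := by
    rw [hxdef, ← pow_mul, hm, show r * m * 2 ^ M = 2 ^ M * r * m by ring, ← hcard, pow_mul, pow_card_eq_one', one_pow]
  have hxq : Abelianization.of x = q := by rw [hxdef, map_pow, hh0, hqe]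
  by_cases h8 : 8 < Nat.card ↥E
  · have hgood := InvChar.LargeExtraspecialTransfer.good_of_extraspecial E hext hzE hz1 hzc h8
    let A : Subgroup (Abelianization ↥H) := (powMonoidHom (2 ^ M)).ker
    let χ : ↥H →* ↥A := MonoidHom.codRestrict ((powMonoidHom e).comp Abelianization.of) A fun h => by
      show (Abelianization.of h ^ e) ^ 2 ^ M = 1
      rw [← map_pow, ← map_pow, hm, ← pow_mul, show r * m * 2 ^ M = 2 ^ M * r * m by ring, ← hcard, pow_mul,
        pow_card_eq_one', one_pow, map_one]
    have hf := (InvChar.LargeExtraspecialTransfer.transfer_facts hres hEn hEle hgood hzE hz1 hcent hcenter χ (k := M)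
      (fun a => Subtype.ext a.2)).2
    have hall : ∀ a : ↥A, ∃ b, a ^ 2 = b ^ 4 := by
      rintro ⟨a, ha⟩
      obtain ⟨g, rfl⟩ : ∃ g, Abelianization.of g = a := QuotientGroup.mk_surjective a
      have hae : Abelianization.of g ^ e = Abelianization.of g := by
        conv_rhs => rw [← pow_one (Abelianization.of g)]
        exact pow_eq_pow_iff_modEq.2 (he1.of_dvd (orderOf_dvd_of_pow_eq_one ha))
      have hg : (g ^ e) ^ 2 ^ M = 1 := by
        rw [← pow_mul, hm, show r * m * 2 ^ M = 2 ^ M * r * m by ring, ← hcard, pow_mul, pow_card_eq_one', one_pow]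
      obtain ⟨b, hb⟩ := hf (g ^ e) ⟨M, hg⟩
      refine ⟨b, ?_⟩
      rw [← hb]
      congr 1
      refine Subtype.ext ?_
      show Abelianization.of g = Abelianization.of (g ^ e) ^ e
      rw [map_pow, hae, hae]
    have hiter : ∀ n (a : ↥A), ∃ b, a ^ 2 = b ^ 2 ^ n := by
      intro n
      induction n with
      | zero => exact fun a => ⟨a ^ 2, (pow_one _).symm⟩
      | succ n ih =>
        intro a
        obtain ⟨b, hb⟩ := hall a
        obtain ⟨c, hc⟩ := ih b
        refine ⟨c, ?_⟩
        rw [hb, show 4 = 2 * 2 from rfl, pow_mul, hc, ← pow_mul, ← pow_succ]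
    obtain ⟨b, hb⟩ := hiter M ⟨q, hqM⟩
    have hb1 : b ^ 2 ^ M = 1 := Subtype.ext b.2
    rw [hb1] at hb
    exact congrArg Subtype.val hb
  -- the small case
  push Not at h8
  have hcen2 := hext.2
  have hE2 : IsPGroup 2 ↥E := hext.1.1
  have hzcen : (⟨z, hzE⟩ : ↥E) ∈ Subgroup.center ↥E := Subgroup.mem_center_iff.2 fun q => Subtype.ext (hzc q q.2)
  obtain ⟨-, -, hcomm0, hsq0⟩ := InvChar.Extraspecial.facts hext hzcen fun e => hz1 (congrArg Subtype.val e)
  have hcomm : ∀ a ∈ E, ∀ b ∈ E, a * b = b * a ∨ a * b = z * (b * a) := fun a ha b hb => by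
    rcases hcomm0 ⟨a, ha⟩ ⟨b, hb⟩ with h | h
    · exact Or.inl (congrArg Subtype.val h)
    · exact Or.inr (congrArg Subtype.val h)
  have hsq : ∀ a ∈ E, a * a = 1 ∨ a * a = z := fun a ha => hcenter _ (E.mul_mem ha ha) fun b hb =>
    congrArg Subtype.val (Subgroup.mem_center_iff.1 (hsq0 ⟨a, ha⟩) ⟨b, hb⟩)
  obtain ⟨a, ha, b, hb, hab⟩ : ∃ a ∈ E, ∃ b ∈ E, a * b ≠ b * a := by
    by_contra hno
    push Not at hno
    have hbot : commutator ↥E = ⊥ := by
      rw [commutator_def, Subgroup.commutator_eq_bot_iff_le_centralizer]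
      intro u _
      exact Subgroup.mem_centralizer_iff.2 fun v _ => Subtype.ext (hno v v.2 u u.2)
    have h1 := hext.1.2.2
    rw [hbot] at h1
    rw [← h1, Subgroup.card_bot] at hcen2
    omega
  have hofz : ∀ w : ↥H, (w : G) = z → Abelianization.of w = 1 := by
    intro w hw
    have e0 := (hcomm a ha b hb).resolve_left hab
    have : w = ⁅(⟨a, hEle ha⟩ : ↥H), ⟨b, hEle hb⟩⁆ := Subtype.ext (by
      rw [commutatorElement_def]
      show (w : G) = a * b * a⁻¹ * b⁻¹
      rw [hw, e0]; group)
    rw [this, map_commutatorElement, commutatorElement_eq_one_iff_mul_comm, mul_comm]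
  have hofsq : ∀ w : ↥H, (w : G) ∈ E → Abelianization.of w ^ 2 = 1 := by
    intro w hw
    rw [← map_pow]
    rcases hsq _ hw with h | h
    · rw [show w ^ 2 = 1 from Subtype.ext (by rw [SubmonoidClass.coe_pow, sq]; exact h), map_one]
    · exact hofz _ (by rw [SubmonoidClass.coe_pow, sq]; exact h)
  by_cases h2 : IsPGroup 2 ↥H
  · have : (x : G) ∈ E := by
      rw [hE, (Cores.pCore_eq_top_iff 2).2 h2]
      exact ⟨x, Subgroup.mem_top x, rfl⟩
    rw [← hxq]; exact hofsq x this
  obtain ⟨p, hp, hp2, hpH⟩ : ∃ p, p.Prime ∧ p ≠ 2 ∧ p ∣ Nat.card ↥H := by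
    by_contra hno
    push Not at hno
    refine h2 (IsPGroup.of_card (n := M) ?_)
    rw [hcard]
    by_cases hr : r = 1
    · rw [hr, mul_one]
    obtain ⟨p, hp, hpr⟩ := Nat.exists_prime_and_dvd hr
    exact absurd (hcard ▸ dvd_mul_of_dvd_right hpr _) (hno p hp (by
      rintro rfl
      exact (Nat.not_even_iff_odd.2 hrodd) (even_iff_two_dvd.2 hpr)))
  haveI := Fact.mk hp
  obtain ⟨y, hy⟩ := exists_prime_orderOf_dvd_card' (G := ↥H) p hpH
  have hy0 : ∀ w ∈ E, ∀ k : ℕ, (y : G) ^ k * w * ((y : G) ^ k)⁻¹ ∈ E := fun w hw k =>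
    (Subgroup.mem_normalizer_iff.1 (pow_mem (hEn y.2) k) w).1 hw
  have hyp : (y : G) ^ p = 1 := by rw [← hy, ← SubmonoidClass.coe_pow, pow_orderOf_eq_one]; rfl
  have hy1 : y ≠ 1 := by
    intro h; rw [h, orderOf_one] at hy; exact hp.ne_one hy.symm
  have hyE : (y : G) ∉ E := fun h => hy1 (by
    obtain ⟨k, hk⟩ := hE2 ⟨y, h⟩
    have h2 : orderOf y ∣ 2 ^ k := orderOf_dvd_of_pow_eq_one (Subtype.ext (by
      rw [SubmonoidClass.coe_pow]; exact congrArg Subtype.val hk))
    rw [hy] at h2
    exact absurd ((Nat.prime_dvd_prime_iff_eq hp Nat.prime_two).1 (hp.dvd_of_dvd_pow h2)) hp2)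
  -- groups of order at most four are commutative
  have hsmall : ∀ S : Subgroup G, S ≤ E → a ∈ S → b ∈ S → S = E := by
    intro S hS has hbs
    refine Subgroup.eq_of_le_of_card_ge hS ?_
    by_contra hlt
    push Not at hlt
    obtain ⟨i, hi⟩ := IsPGroup.iff_card.1 (hE2.to_le hS)
    have : i < 3 := by
      by_contra h3
      have := Nat.pow_le_pow_right (show 2 > 0 by norm_num) (show 3 ≤ i by omega)
      omega
    apply hab
    have hc : ∀ u v : ↥S, u * v = v * u := by
      interval_cases i
      · rw [pow_zero] at hi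
        haveI := (Nat.card_eq_one_iff_unique.1 hi).1
        exact fun u v => Subsingleton.elim _ _
      · haveI : IsCyclic ↥S := isCyclic_of_prime_card (p := 2) (by simpa using hi)
        exact fun u v => (IsCyclic.commutative (α := ↥S)).is_comm.comm u v
      · exact IsPGroup.commutative_of_card_eq_prime_sq hi
    exact congrArg Subtype.val (hc ⟨a, has⟩ ⟨b, hbs⟩)
  have hinner : ∀ w : ↥H, (∀ u ∈ E, (w : G) * u * (w : G)⁻¹ = u ∨ (w : G) * u * (w : G)⁻¹ = z * u) → (w : G) ∈ E := by
    intro w hw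
    have e0 := (hcomm a ha b hb).resolve_left hab
    obtain ⟨d, hd, hda, hdb⟩ : ∃ d ∈ E, d * a * d⁻¹ = (w : G) * a * (w : G)⁻¹ ∧ d * b * d⁻¹ = (w : G) * b * (w : G)⁻¹ := by
      have hab' : a * b * a⁻¹ = z * b := by rw [e0]; group
      have hba' : b * a * b⁻¹ = z * a := by
        have e1 := (hcomm b hb a ha).resolve_left (Ne.symm hab)
        rw [e1]; group
      rcases hw a ha with h1 | h1 <;> rcases hw b hb with h2 | h2 <;> rw [h1, h2]
      · exact ⟨1, E.one_mem, by group, by group⟩
      · exact ⟨a, ha, by group, hab'⟩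
      · exact ⟨b, hb, hba', by group⟩
      · refine ⟨a * b, E.mul_mem ha hb, ?_, ?_⟩
        · rw [show a * b * a * (a * b)⁻¹ = a * (b * a * b⁻¹) * a⁻¹ by group, hba', ← mul_assoc, hzc a ha]; group
        · rw [show a * b * b * (a * b)⁻¹ = a * b * a⁻¹ by group, hab']
    have hfix : ∀ u, d * u * d⁻¹ = (w : G) * u * (w : G)⁻¹ → u * (d⁻¹ * w) = d⁻¹ * (w : G) * u := by
      intro u h
      calc u * (d⁻¹ * w) = d⁻¹ * (d * u * d⁻¹) * w := by group
        _ = _ := by rw [h]; group
    have hS := hsmall (E ⊓ Subgroup.centralizer {d⁻¹ * (w : G)}) inf_le_left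
      ⟨ha, Subgroup.mem_centralizer_singleton_iff.2 (hfix a hda)⟩ ⟨hb, Subgroup.mem_centralizer_singleton_iff.2 (hfix b hdb)⟩
    have hdw : d⁻¹ * (w : G) ∈ E := hcent (Subgroup.mem_centralizer_iff.2 fun u hu =>
      Subgroup.mem_centralizer_singleton_iff.1 (hS.ge hu : u ∈ E ⊓ Subgroup.centralizer {d⁻¹ * (w : G)}).2)
    have := E.mul_mem hd hdw
    rwa [mul_inv_cancel_left] at this
  have hfix : ∀ u ∈ E, ((y : G) * u * (y : G)⁻¹ = u ∨ (y : G) * u * (y : G)⁻¹ = z * u) → (y : G) * u * (y : G)⁻¹ = u := by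
    intro u hu h
    refine h.resolve_right fun h' => ?_
    have hit : ∀ k : ℕ, (y : G) ^ k * u * ((y : G) ^ k)⁻¹ = z ^ k * u := by
      intro k
      induction k with
      | zero => simp
      | succ k ih =>
        have hyz : (y : G) * z ^ k = z ^ k * (y : G) :=
          (Commute.pow_right (Subgroup.mem_centralizer_singleton_iff.1 y.2) k).eq
        calc (y : G) ^ (k + 1) * u * ((y : G) ^ (k + 1))⁻¹ = (y : G) * ((y : G) ^ k * u * ((y : G) ^ k)⁻¹) * (y : G)⁻¹ := by
              rw [pow_succ']; group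
          _ = z ^ k * ((y : G) * u * (y : G)⁻¹) := by rw [ih, ← mul_assoc (y : G), hyz]; group
          _ = z ^ (k + 1) * u := by rw [h', pow_succ]; group
    have h3 := hit p
    rw [hyp, one_mul, inv_one, mul_one] at h3
    obtain ⟨i, rfl⟩ := hp.odd_of_ne_two hp2
    rw [pow_succ, pow_mul, sq, hzz, one_pow, one_mul] at h3
    exact hz1 (mul_eq_right.1 h3.symm)
  let D : Subgroup G := E ⊓ (Abelianization.of (G := ↥H)).ker.map H.subtype
  have hzD : z ∈ D := ⟨hzE, ⟨z, hzC⟩, hofz _ rfl, rfl⟩
  have hDy : ∀ u ∈ E, (y : G) * u * (y : G)⁻¹ * u⁻¹ ∈ D := by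
    intro u hu
    refine ⟨E.mul_mem (by simpa using hy0 u hu 1) (E.inv_mem hu), y * ⟨u, hEle hu⟩ * y⁻¹ * ⟨u, hEle hu⟩⁻¹, ?_, rfl⟩
    show Abelianization.of _ = 1
    rw [map_mul, map_mul, map_mul, map_inv, map_inv, mul_comm (Abelianization.of y), mul_inv_cancel_right, mul_inv_cancel]
  have hfix2 : ∀ u ∈ E, (y : G) * u * (y : G)⁻¹ = u → u = 1 ∨ u = z := by
    -- the fixed points of `y` form a proper subgroup containing `z`
    intro u hu hfu
    by_contra hne
    push Not at hne
    obtain ⟨v, hv, hvu⟩ : ∃ v ∈ E, v * u ≠ u * v := by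
      by_contra hno
      push Not at hno
      rcases hcenter u hu hno with h | h
      · exact hne.1 h
      · exact hne.2 h
    refine hyE (hinner y fun w hw => ?_)
    have hS : E ⊓ Subgroup.centralizer {(y : G)} ≤ E := inf_le_left
    -- the image of any element differs from it by an element centralizing `u` and its conjugates
    have hcu : ∀ w ∈ E, (y : G) * w * (y : G)⁻¹ * w⁻¹ * u = u * ((y : G) * w * (y : G)⁻¹ * w⁻¹) := by
      intro w hw
      have h1 : ((y : G) * w * (y : G)⁻¹ * u = u * ((y : G) * w * (y : G)⁻¹)) ↔ w * u = u * w := by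
        nth_rewrite 1 [← hfu]
        nth_rewrite 2 [← hfu]
        constructor
        · intro h
          have := congrArg (fun g => (y : G)⁻¹ * g * (y : G)) h
          simpa [mul_assoc] using this
        · intro h
          rw [show (y : G) * w * (y : G)⁻¹ * ((y : G) * u * (y : G)⁻¹) = (y : G) * (w * u) * (y : G)⁻¹ by group, h]; group
      have hwE : (y : G) * w * (y : G)⁻¹ ∈ E := by simpa using hy0 w hw 1
      rcases hcomm w hw u hu with h2 | h2
      · have h3 := h1.2 h2
        rw [mul_assoc _ w⁻¹, ← (show Commute u w from h2.symm).inv_right.eq, ← mul_assoc, h3, mul_assoc]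
      · by_cases h4 : w * u = u * w
        · have h3 := h1.2 h4
          rw [mul_assoc _ w⁻¹, ← (show Commute u w from h4.symm).inv_right.eq, ← mul_assoc, h3, mul_assoc]
        · have h3 := (hcomm _ hwE u hu).resolve_left fun h => h4 (h1.1 h)
          have h5 : w⁻¹ * u = z * (u * w⁻¹) := by
            rw [inv_mul_eq_iff_eq_mul, ← mul_assoc w z, hzc w hw, mul_assoc, ← mul_assoc w u, h2,
              ← mul_assoc z (z * (u * w)), ← mul_assoc z z, hzz, one_mul, mul_inv_cancel_right]
          rw [mul_assoc _ w⁻¹, h5, ← mul_assoc _ z, hzc _ hwE, mul_assoc z, ← mul_assoc _ u, h3, ← mul_assoc z,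
            ← mul_assoc z z, hzz, one_mul, mul_assoc]
    -- elements of `E` commuting with `u` form `{1, z, u, uz}`
    have hCu : ∀ w ∈ E, w * u = u * w → w = 1 ∨ w = z ∨ w = u ∨ w = u * z := by
      intro w hw hwu
      classical
      by_contra hno
      push Not at hno
      have hl : ([1, z, u, u * z, w, v] : List G).Nodup := by
        simp only [List.nodup_cons, List.mem_cons, List.not_mem_nil, or_false, List.nodup_nil, and_true, not_or]
        have hv1 : v ≠ 1 := fun e => hvu (by rw [e, one_mul, mul_one])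
        have hvz : v ≠ z := fun e => hvu (by rw [e]; exact (hzc u hu).symm)
        have hvu' : v ≠ u := fun e => hvu (by rw [e])
        have hvuz : v ≠ u * z := fun e => hvu (by rw [e, mul_assoc, ← hzc u hu])
        have hvw : v ≠ w := fun e => hvu (e ▸ hwu)
        have huz1 : u * z ≠ 1 := fun e => hne.2 ((eq_inv_of_mul_eq_one_left e).trans (inv_eq_of_mul_eq_one_right hzz))
        have huzz : u * z ≠ z := fun e => hne.1 (mul_eq_right.1 e)
        have huzu : u * z ≠ u := fun e => hz1 (mul_eq_left.1 e)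
        exact ⟨⟨Ne.symm hz1, Ne.symm hne.1, Ne.symm huz1, Ne.symm hno.1, Ne.symm hv1⟩,
          ⟨Ne.symm hne.2, Ne.symm huzz, Ne.symm hno.2.1, Ne.symm hvz⟩, ⟨Ne.symm huzu, Ne.symm hno.2.2.1, Ne.symm hvu'⟩,
          ⟨Ne.symm hno.2.2.2, Ne.symm hvuz⟩, Ne.symm hvw, not_false⟩
      let S : Subgroup G := E ⊓ Subgroup.centralizer {u}
      have h5 : 5 ≤ Nat.card ↥S := by
        have hin : ∀ g ∈ ([1, z, u, u * z, w] : List G).toFinset, g ∈ S := by
          intro g hg
          simp at hg
          rcases hg with rfl | rfl | rfl | rfl | rfl <;>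
            refine ⟨?_, Subgroup.mem_centralizer_singleton_iff.2 ?_⟩
          · exact E.one_mem
          · simp
          · exact hzE
          · exact (hzc u hu).symm
          · exact hu
          · rfl
          · exact E.mul_mem hu hzE
          · rw [mul_assoc, hzc u hu]
          · exact hw
          · exact hwu
        refine le_trans ?_ (Nat.card_le_card_of_injective (fun g : ↥(([1, z, u, u * z, w] : List G).toFinset) =>
          (⟨g.1, hin g.1 g.2⟩ : ↥S)) fun g g' h => Subtype.ext (congrArg Subtype.val h :))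
        rw [Nat.card_eq_finsetCard, List.toFinset_card_of_nodup]
        · simp
        · exact (List.sublist_append_left [1, z, u, u * z, w] [v]).nodup hl
      have hlt : Nat.card ↥S < Nat.card ↥E := by
        refine lt_of_le_of_ne (Subgroup.card_le_of_le inf_le_left) fun h => ?_
        have := Subgroup.eq_of_le_of_card_ge (inf_le_left : S ≤ E) h.ge
        exact hvu (Subgroup.mem_centralizer_singleton_iff.1 (this.ge hv : v ∈ S).2)
      obtain ⟨i, hi⟩ := IsPGroup.iff_card.1 (hE2.to_le (inf_le_left : S ≤ E))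
      rw [hi] at h5 hlt
      have hi3 : i < 3 := by
        by_contra h3
        have := Nat.pow_le_pow_right (show 2 > 0 by norm_num) (show 3 ≤ i by omega)
        omega
      interval_cases i <;> norm_num at h5
    rcases hCu _ (E.mul_mem (by simpa using hy0 w hw 1) (E.inv_mem hw)) (hcu w hw) with h | h | h | h
    · exact Or.inl (mul_inv_eq_one.1 h)
    · exact Or.inr (mul_inv_eq_iff_eq_mul.1 h)
    all_goals
      exfalso
      -- `y` acts unipotently, so its order would be even
      set t := (y : G) * w * (y : G)⁻¹ * w⁻¹ with ht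
      have hyt : (y : G) * t * (y : G)⁻¹ = t := by
        rw [h]
        first
          | exact hfu
          | (rw [show (y : G) * (u * z) * (y : G)⁻¹ = ((y : G) * u) * (z * (y : G)⁻¹) by group,
              show z * (y : G)⁻¹ = (y : G)⁻¹ * z from
                ((show Commute (y : G) z from Subgroup.mem_centralizer_singleton_iff.1 y.2).inv_left.eq).symm,
              ← mul_assoc, hfu])
      have hit : ∀ k : ℕ, (y : G) ^ k * w * ((y : G) ^ k)⁻¹ = t ^ k * w := by
        intro k
        induction k with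
        | zero => simp
        | succ k ih =>
          calc (y : G) ^ (k + 1) * w * ((y : G) ^ (k + 1))⁻¹ = (y : G) * ((y : G) ^ k * w * ((y : G) ^ k)⁻¹) * (y : G)⁻¹ := by
                rw [pow_succ']; group
            _ = ((y : G) * t * (y : G)⁻¹) ^ k * ((y : G) * w * (y : G)⁻¹) := by rw [ih, conj_pow]; group
            _ = t ^ (k + 1) * w := by rw [hyt, ht, pow_succ]; group
      have h3 := hit p
      rw [hyp, one_mul, inv_one, mul_one] at h3
      have htp : t ^ p = 1 := mul_eq_right.1 h3.symm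
      have htE : t ∈ E := E.mul_mem (by simpa using hy0 w hw 1) (E.inv_mem hw)
      obtain ⟨k, hk⟩ := hE2 ⟨t, htE⟩
      have ht1 : t = 1 := orderOf_eq_one_iff.1 (Nat.eq_one_of_dvd_coprimes
        (((Nat.coprime_primes hp Nat.prime_two).2 hp2).pow_right k) (orderOf_dvd_of_pow_eq_one htp)
        (orderOf_dvd_of_pow_eq_one (congrArg Subtype.val hk)))
      rw [ht1] at h
      first
        | exact hne.1 h.symm
        | exact hne.2 ((eq_inv_of_mul_eq_one_left h.symm).trans (inv_eq_of_mul_eq_one_right hzz))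
  have hDE : E ≤ D := by
    refine (Subgroup.eq_of_le_of_card_ge inf_le_left ?_).ge
    by_contra hlt
    push Not at hlt
    obtain ⟨i, hi⟩ := IsPGroup.iff_card.1 (hE2.to_le (inf_le_left : D ≤ E))
    have hi4 : Nat.card ↥D ≤ 4 := by
      have : i < 3 := by
        by_contra h3
        have := Nat.pow_le_pow_right (show 2 > 0 by norm_num) (show 3 ≤ i by omega)
        omega
      rw [hi]
      interval_cases i <;> norm_num
    have hD : ∀ u ∈ D, u = 1 ∨ u = z := by
      intro u hu
      by_contra hne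
      push Not at hne
      classical
      set u' := (y : G) * u * (y : G)⁻¹ with hu'
      have hu'D : u' ∈ D := by
        have := D.mul_mem (hDy u hu.1) hu
        rwa [inv_mul_cancel_right] at this
      have huz : u * z ∈ D := D.mul_mem hu hzD
      have hl : ({1, z, u, u * z} : Finset G).card = 4 := by
        have h1 : u * z ≠ 1 := fun e => hne.2 ((eq_inv_of_mul_eq_one_left e).trans (inv_eq_of_mul_eq_one_right hzz))
        have h2 : u * z ≠ z := fun e => hne.1 (mul_eq_right.1 e)
        have h3 : u * z ≠ u := fun e => hz1 (mul_eq_left.1 e)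
        simp [Ne.symm hz1, Ne.symm hne.1, Ne.symm h1, Ne.symm hne.2, Ne.symm h2, Ne.symm h3]
      have hmem : u' ∈ ({1, z, u, u * z} : Finset G) := by
        by_contra hn
        have hsub : ∀ g ∈ insert u' ({1, z, u, u * z} : Finset G), g ∈ D := by
          intro g hg
          simp at hg
          rcases hg with rfl | rfl | rfl | rfl | rfl
          · exact hu'D
          · exact D.one_mem
          · exact hzD
          · exact hu
          · exact huz
        have := Nat.card_le_card_of_injective (fun g : ↥(insert u' ({1, z, u, u * z} : Finset G)) =>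
          (⟨g.1, hsub g.1 g.2⟩ : ↥D)) fun g g' h => Subtype.ext (congrArg Subtype.val h :)
        rw [Nat.card_eq_finsetCard, Finset.card_insert_of_notMem hn, hl] at this
        omega
      simp at hmem
      rcases hmem with h | h | h | h
      · exact hne.1 (conj_eq_one_iff.1 h)
      · refine hne.2 ?_
        have : u = (y : G)⁻¹ * u' * (y : G) := by rw [hu']; group
        rw [this, h, mul_assoc, ← Subgroup.mem_centralizer_singleton_iff.1 y.2, inv_mul_cancel_left]
      · exact (hfix2 u hu.1 h).elim hne.1 hne.2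
      · exact (hfix2 u hu.1 (hfix u hu.1 (Or.inr (h.trans (hzc u hu.1))))).elim hne.1 hne.2
    refine hyE (hinner y fun u hu => ?_)
    rcases hD _ (hDy u hu) with h | h
    · exact Or.inl (mul_inv_eq_one.1 h)
    · exact Or.inr (mul_inv_eq_iff_eq_mul.1 h)
  have hofE : ∀ w : ↥H, (w : G) ∈ E → Abelianization.of w = 1 := by
    intro w hw
    obtain ⟨w', hw', he⟩ := (hDE hw).2
    rw [show w = w' from Subtype.ext he.symm]
    exact hw'
  -- the square of a 2-element centralizes `E` modulo its centre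
  have hx2 : ((x ^ 2 : ↥H) : G) ∈ E := by
    refine hinner _ fun u hu => ?_
    by_contra hno
    let σ : ℕ → G := fun k => (x : G) ^ k * u * ((x : G) ^ k)⁻¹
    have hσE : ∀ k, σ k ∈ E := fun k => (Subgroup.mem_normalizer_iff.1 (pow_mem (hEn x.2) k) u).1 hu
    have hxz : ∀ k, (x : G) ^ k * z = z * (x : G) ^ k := fun k =>
      (Commute.pow_left (Subgroup.mem_centralizer_singleton_iff.1 x.2) k).eq
    let R : G → G → Prop := fun g g' => g = g' ∨ g = z * g'
    have Rsymm : ∀ {g g'}, R g g' → R g' g := by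
      rintro g g' (rfl | rfl)
      · exact Or.inl rfl
      · exact Or.inr (by rw [← mul_assoc, hzz, one_mul])
    have Rtrans : ∀ {g g' g''}, R g g' → R g' g'' → R g g'' := by
      rintro g g' g'' (rfl | rfl) (rfl | rfl)
      · exact Or.inl rfl
      · exact Or.inr rfl
      · exact Or.inr rfl
      · exact Or.inl (by rw [← mul_assoc, hzz, one_mul])
    have Rshift : ∀ {k l} (d : ℕ), R (σ (d + k)) (σ (d + l)) ↔ R (σ k) (σ l) := by
      intro k l d
      have e1 : ∀ k, σ (d + k) = (x : G) ^ d * σ k * ((x : G) ^ d)⁻¹ := fun k => by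
        simp only [σ, pow_add]; group
      simp only [R, e1]
      refine or_congr ⟨fun h => mul_left_cancel (mul_right_cancel h), fun h => by rw [h]⟩ ?_
      rw [show z * ((x : G) ^ d * σ l * ((x : G) ^ d)⁻¹) = (x : G) ^ d * (z * σ l) * ((x : G) ^ d)⁻¹ by
        rw [← mul_assoc z, ← mul_assoc z, ← hxz]; group]
      exact ⟨fun h => mul_left_cancel (mul_right_cancel h), fun h => by rw [h]⟩
    have hσ0 : σ 0 = u := by simp [σ]
    have h20 : ¬ R (σ 2) (σ 0) := by
      intro h; apply hno
      rw [SubmonoidClass.coe_pow]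
      rwa [hσ0] at h
    have hu0 : u ≠ 1 ∧ u ≠ z := by
      refine ⟨fun e => h20 (Or.inl (by simp [σ, e])), fun e => h20 (Or.inl ?_)⟩
      simp only [σ, e, hxz, mul_inv_cancel_right]
    have hσc : ∀ k, σ k ≠ 1 ∧ σ k ≠ z := by
      intro k
      refine ⟨fun e => hu0.1 (conj_eq_one_iff.1 e), fun e => hu0.2 ?_⟩
      have : u = ((x : G) ^ k)⁻¹ * σ k * (x : G) ^ k := by simp only [σ]; group
      rw [this, e, mul_assoc, ← hxz, inv_mul_cancel_left]
    have h10 : ¬ R (σ 1) (σ 0) := fun h => h20 (Rtrans ((Rshift (k := 1) (l := 0) 1).2 h) h)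
    have h21 : ¬ R (σ 2) (σ 1) := fun h => h10 ((Rshift (k := 1) (l := 0) 1).1 h)
    have h30 : R (σ 3) (σ 0) := by
      classical
      by_contra h30'
      have h31 : ¬ R (σ 3) (σ 1) := fun h' => h20 ((Rshift (k := 2) (l := 0) 1).1 h')
      have h32 : ¬ R (σ 3) (σ 2) := fun h' => h10 ((Rshift (k := 1) (l := 0) 2).1 h')
      let f : Option (Fin 4) × Fin 2 → ↥E := fun i => ⟨(z ^ (i.2 : ℕ)) * (i.1.elim 1 fun k => σ (k : ℕ)),
        E.mul_mem (E.pow_mem hzE _) (by rcases i.1 with _ | k; exacts [E.one_mem, hσE _])⟩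
      have hRf : ∀ i j, f i = f j → R (i.1.elim 1 fun k => σ (k : ℕ)) (j.1.elim 1 fun k => σ (k : ℕ)) := by
        rintro ⟨i, a⟩ ⟨j, b⟩ h
        have h1 := congrArg Subtype.val h
        simp only [f] at h1
        fin_cases a <;> fin_cases b <;> simp at h1 ⊢
        · exact Or.inl h1
        · exact Or.inr h1
        · exact Rsymm (Or.inr h1.symm)
        · exact Or.inl h1
      have hinj : Function.Injective f := by
        rintro ⟨i, a⟩ ⟨j, b⟩ h
        have hR := hRf _ _ h
        obtain rfl : i = j := by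
          rcases i with _ | i <;> rcases j with _ | j
          · rfl
          · exfalso; rcases Rsymm hR with h' | h' <;> simp at h'
            · exact (hσc j).1 h'
            · exact (hσc j).2 h'
          · exfalso; rcases hR with h' | h' <;> simp at h'
            · exact (hσc i).1 h'
            · exact (hσc i).2 h'
          · congr 1
            fin_cases i <;> fin_cases j <;> simp at hR ⊢ <;>
              first
                | exact h10 hR | exact h20 hR | exact h21 hR | exact h30' hR | exact h31 hR | exact h32 hR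
                | exact h10 (Rsymm hR) | exact h20 (Rsymm hR) | exact h21 (Rsymm hR) | exact h30' (Rsymm hR)
                | exact h31 (Rsymm hR) | exact h32 (Rsymm hR)
        have h1 := mul_right_cancel (congrArg Subtype.val h)
        refine Prod.ext rfl ?_
        fin_cases a <;> fin_cases b <;> simp [hz1, Ne.symm hz1] at h1 ⊢
      have := Nat.card_le_card_of_injective f hinj
      rw [Nat.card_prod, Finite.card_option, Nat.card_fin, Nat.card_fin] at this
      omega
    have h3k : ∀ k, R (σ (3 * k)) (σ 0) := by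
      intro k
      induction k with
      | zero => exact Or.inl rfl
      | succ k ih =>
        rw [show 3 * (k + 1) = 3 * k + 3 by ring]
        exact Rtrans ((Rshift (k := 3) (l := 0) (3 * k)).2 h30) (by rwa [add_zero])
    have hM0 : σ (2 ^ M) = σ 0 := by
      simp only [σ, ← SubmonoidClass.coe_pow, hx]; simp
    rcases (show 2 ^ M % 3 = 1 ∨ 2 ^ M % 3 = 2 by
      rcases Nat.even_or_odd M with ⟨i, rfl⟩ | ⟨i, rfl⟩
      · left; rw [← two_mul, pow_mul, Nat.pow_mod]; simp
      · right; rw [pow_succ, pow_mul, Nat.mul_mod, Nat.pow_mod]; simp) with h | h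
    · have h' := h3k (2 ^ M / 3)
      have : σ (2 ^ M) = σ (1 + 3 * (2 ^ M / 3)) := congrArg σ (by omega)
      rw [hM0] at this
      exact h10 (Rsymm (Rtrans (Or.inl this) ((Rshift (k := 3 * (2 ^ M / 3)) (l := 0) 1).2 h')))
    · have h' := h3k (2 ^ M / 3)
      have : σ (2 ^ M) = σ (2 + 3 * (2 ^ M / 3)) := congrArg σ (by omega)
      rw [hM0] at this
      exact h20 (Rsymm (Rtrans (Or.inl this) ((Rshift (k := 3 * (2 ^ M / 3)) (l := 0) 2).2 h')))
  rw [← hxq, ← map_pow]
  exact hofE _ hx2

end Cfsg.Agent.S3301
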