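import Cfsg.Statements.S3304
import Mathlib
import Cfsg.Agent.InvChar.Octahedral
import Cfsg.Agent.Lib.Coprime.SchurZassenhaus

set_option linter.all false

set_option autoImplicit false
open Cfsg

namespace Cfsg.Agent.S3304

open Subgroup in
open scoped Pointwise in
theorem lift {G : Type*} [Group G] [Finite G]
    (hI : ∀ S T : Sylow 2 G, S ≠ T → Cfsg.PRankLE 2 1 ↥((S : Subgroup G) ⊓ (T : Subgroup G))) :
    ∀ S T : Sylow 2 (G ⧸ Cfsg.oddCore G), S ≠ T →
      Cfsg.PRankLE 2 1 ↥((S : Subgroup (G ⧸ Cfsg.oddCore G)) ⊓ (T : Subgroup (G ⧸ Cfsg.oddCore G))) := by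
  haveI : Fact (Nat.Prime 2) := ⟨Nat.prime_two⟩
  set O := Cfsg.oddCore G with hO
  haveI hOn : O.Normal := Cores.pPrimeCore_normal 2
  have hOodd : Odd (Nat.card O) := Cores.oddCore_odd
  set q := QuotientGroup.mk' O with hq
  have hqs := QuotientGroup.mk'_surjective O
  intro Sb Tb hne A hAab hA2
  obtain ⟨S, rfl⟩ := Sylow.mapSurjective_surjective hqs 2 Sb
  obtain ⟨T, rfl⟩ := Sylow.mapSurjective_surjective hqs 2 Tb
  set V := A.map (Subgroup.subtype _) with hV
  have hVS : V ≤ (S : Subgroup G).map q := (Subgroup.map_subtype_le A).trans inf_le_left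
  have hVT : V ≤ (T : Subgroup G).map q := (Subgroup.map_subtype_le A).trans inf_le_right
  set V0 := (S : Subgroup G) ⊓ V.comap q with hV0
  set V1 := (T : Subgroup G) ⊓ V.comap q with hV1
  have hsup : ∀ R : Sylow 2 G, V ≤ (R : Subgroup G).map q → O ⊔ ((R : Subgroup G) ⊓ V.comap q) = V.comap q := by
    intro R hR
    refine le_antisymm (sup_le ((QuotientGroup.ker_mk' O).ge.trans (q.ker_le_comap V)) inf_le_right) ?_
    intro x hx
    obtain ⟨r, hr, hrx⟩ := hR hx
    have h1 : x * r⁻¹ ∈ O := by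
      rw [← QuotientGroup.eq_one_iff]
      show q (x * r⁻¹) = 1
      rw [map_mul, map_inv, hrx, mul_inv_cancel]
    have h2 := Subgroup.mul_mem_sup h1 (show r ∈ (R : Subgroup G) ⊓ V.comap q from ⟨hr, by show q r ∈ V; rw [hrx]; exact hx⟩)
    rwa [inv_mul_cancel_right] at h2
  have hcop : ∀ R : Sylow 2 G, (Nat.card O).Coprime (Nat.card ↥((R : Subgroup G) ⊓ V.comap q)) := by
    intro R
    obtain ⟨k, hk⟩ := IsPGroup.iff_card.1 (R.isPGroup'.to_le (inf_le_left : (R : Subgroup G) ⊓ V.comap q ≤ R))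
    rw [hk]; exact hOodd.coprime_two_right.pow_right k
  obtain ⟨r, hr, hconj⟩ := Coprime.exists_conj_eq_of_sup_eq (N := O) (H := V1) (K := V0)
    (Subgroup.normalizer_eq_top (H := O) ▸ le_top) (Subgroup.normalizer_eq_top (H := O) ▸ le_top)
    ((hsup T hVT).trans (hsup S hVS).symm) (hcop T) (hcop S)
    (Or.inr (by have := (T.isPGroup'.to_le (inf_le_left : V1 ≤ T)).isNilpotent; exact IsNilpotent.to_isSolvable))
  have hne' : S ≠ r • T := by
    intro h
    apply hne
    apply Sylow.ext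
    show (S : Subgroup G).map q = (T : Subgroup G).map q
    rw [h, Sylow.coe_subgroup_smul, Coprime.map_conj_smul, show q r = 1 from (QuotientGroup.eq_one_iff r).2 hr,
      Coprime.conj_smul_one]
  have hV0T : V0 ≤ ((r • T : Sylow 2 G) : Subgroup G) := by
    rw [← hconj, Sylow.coe_subgroup_smul]
    exact Subgroup.pointwise_smul_le_pointwise_smul_iff.2 inf_le_left
  have hle : V0 ≤ (S : Subgroup G) ⊓ ((r • T : Sylow 2 G) : Subgroup G) := le_inf inf_le_left hV0T
  set A0 := V0.subgroupOf ((S : Subgroup G) ⊓ ((r • T : Sylow 2 G) : Subgroup G)) with hA0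
  have hinj : ∀ x ∈ V0, q x = 1 → x = 1 := fun x hx h => by
    have hd : Disjoint O V0 := disjoint_of_coprime_natCard (hcop S)
    exact disjoint_def.1 hd ((QuotientGroup.eq_one_iff x).1 h) hx
  have hVab : ∀ a ∈ V, ∀ b ∈ V, a * b = b * a := by
    rintro _ ⟨a, ha, rfl⟩ _ ⟨b, hb, rfl⟩
    exact congrArg Subtype.val (congrArg Subtype.val (hAab.is_comm.comm ⟨a, ha⟩ ⟨b, hb⟩))
  have h1 : IsMulCommutative A0 := ⟨⟨fun a b => by
    refine Subtype.ext (Subtype.ext ?_)
    have ha : ((a : ↥((S : Subgroup G) ⊓ ((r • T : Sylow 2 G) : Subgroup G))) : G) ∈ V0 := a.2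
    have hb : ((b : ↥((S : Subgroup G) ⊓ ((r • T : Sylow 2 G) : Subgroup G))) : G) ∈ V0 := b.2
    push_cast
    refine eq_of_div_eq_one (hinj _ ?_ ?_)
    · exact V0.div_mem (V0.mul_mem ha hb) (V0.mul_mem hb ha)
    · rw [map_div, div_eq_one, map_mul, map_mul]
      exact hVab _ ha.2 _ hb.2⟩⟩
  have h2 : ∀ a ∈ A0, a ^ 2 = 1 := by
    intro a ha
    have ha' : ((a : ↥((S : Subgroup G) ⊓ ((r • T : Sylow 2 G) : Subgroup G))) : G) ∈ V0 := ha
    refine Subtype.ext (hinj _ (V0.pow_mem ha' 2) ?_)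
    show q (((a : ↥((S : Subgroup G) ⊓ ((r • T : Sylow 2 G) : Subgroup G))) : G) ^ 2) = 1
    rw [map_pow]
    obtain ⟨v, hv, hvq⟩ := ha'.2
    rw [← hvq]
    exact congrArg Subtype.val (hA2 v hv)
  have h3 := hI S (r • T) hne' A0 h1 h2
  rw [Nat.card_congr (Subgroup.subgroupOfEquivOfLe hle).toEquiv] at h3
  refine le_trans ?_ h3
  calc Nat.card A = Nat.card V := (Subgroup.card_map_of_injective (Subgroup.subtype_injective _)).symm
    _ ≤ Nat.card (V0.map q) := by
      refine Subgroup.card_le_of_le ?_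
      intro v hv
      obtain ⟨s, hs, hsv⟩ := hVS hv
      exact ⟨s, ⟨hs, by show q s ∈ V; rw [hsv]; exact hv⟩, hsv⟩
    _ ≤ Nat.card V0 := Nat.le_of_dvd Nat.card_pos (Subgroup.card_map_dvd _ _)

/-- Let G be a finite solvable group in which the intersection of any two distinct Sylow 2-subgroups has 2-rank at most 1 (contains no Klein four-group). Write Q = G/O(G), O(G) the largest normal subgroup of odd order. Then Q has a normal Sylow 2-subgroup; or Q is isomorphic to GL(2,3); or Q has order 48, centre of order 2 with central quotient isomorphic to the symmetric group of degree 4, and generalized quaternion Sylow 2-subgroups of order 16 (the binary octahedral group). The last two are the two representation groups of the symmetric group of degree 4. -/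
theorem result {G : Type*} [Group G] [Finite G] (hs : Group.IsSolvable G)
    (hI : ∀ S T : Sylow 2 G, S ≠ T → Cfsg.PRankLE 2 1 ↥((S : Subgroup G) ⊓ (T : Subgroup G))) :
    (∃ P : Sylow 2 (G ⧸ Cfsg.oddCore G), (P : Subgroup (G ⧸ Cfsg.oddCore G)).Normal) ∨
    Nonempty ((G ⧸ Cfsg.oddCore G) ≃* GL (Fin 2) (ZMod 3)) ∨
    (Nat.card (G ⧸ Cfsg.oddCore G) = 48 ∧ Nat.card ↥(Subgroup.center (G ⧸ Cfsg.oddCore G)) = 2 ∧
      Nonempty ((G ⧸ Cfsg.oddCore G) ⧸ Subgroup.center (G ⧸ Cfsg.oddCore G) ≃* Equiv.Perm (Fin 4)) ∧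
      ∀ P : Sylow 2 (G ⧸ Cfsg.oddCore G), Nonempty (↥(P : Subgroup (G ⧸ Cfsg.oddCore G)) ≃* QuaternionGroup 4)) := by
  haveI := hs
  haveI : Fact (Nat.Prime 2) := ⟨Nat.prime_two⟩
  have hO : Cfsg.oddCore (G ⧸ Cfsg.oddCore G) = ⊥ := Cfsg.Agent.Cores.pPrimeCore_quotient_self 2
  exact Cfsg.Agent.InvChar.Octahedral.main hO (lift hI)

end Cfsg.Agent.S3304
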