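import Cfsg.Statements.S3306
import Cfsg.Agent.Lib.ZStar.CyclicIntersections.Central

set_option autoImplicit false
open Cfsg

namespace Cfsg.Agent.S3306

/-- Let G be a finite nonsolvable group in which any two distinct Sylow 2-subgroups intersect in a cyclic group, and let N be a solvable normal subgroup of G. Then the image of N in G/O(G) is a cyclic 2-group contained in the centre of G/O(G) (O(G) the largest normal subgroup of odd order). In other words the solvable radical of G is V·O(G) with V a cyclic 2-group central modulo O(G). -/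
theorem result {G : Type*} [Group G] [Finite G] (hns : ¬ Group.IsSolvable G)
    (hC : ∀ S T : Sylow 2 G, S ≠ T → IsCyclic ↥((S : Subgroup G) ⊓ (T : Subgroup G)))
    (N : Subgroup G) [N.Normal] (hN : Group.IsSolvable ↥N) :
    IsCyclic ↥(N.map (QuotientGroup.mk' (Cfsg.oddCore G))) ∧ IsPGroup 2 ↥(N.map (QuotientGroup.mk' (Cfsg.oddCore G))) ∧
      N.map (QuotientGroup.mk' (Cfsg.oddCore G)) ≤ Subgroup.center (G ⧸ Cfsg.oddCore G) := by
  have hf := QuotientGroup.mk'_surjective (Cfsg.oddCore G)
  have hnsQ := Cfsg.Agent.ZStar.CyclicIntersections.not_isSolvable_quotient hns (Cfsg.oddCore G)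
    Cfsg.Agent.ZStar.CyclicIntersections.isSolvable_oddCore
  have hCQ := Cfsg.Agent.ZStar.CyclicIntersections.CycInt.map hC hf
  have h0 := Cfsg.Agent.Cores.pPrimeCore_quotient_self (G := G) 2
  haveI := Subgroup.Normal.map ‹N.Normal› _ hf
  have hle := Cfsg.Agent.ZStar.CyclicIntersections.le_pCore_of_solvable hCQ hnsQ h0
    (N.map (QuotientGroup.mk' (Cfsg.oddCore G))) (Cfsg.Agent.Coprime.isSolvable_map _ hN)
  haveI := Cfsg.Agent.ZStar.CyclicIntersections.isCyclic_pCore hCQ hnsQ
  exact ⟨Subgroup.isCyclic_of_le hle, (Cfsg.Agent.Cores.pCore_isPGroup 2).to_le hle,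
    hle.trans (Cfsg.Agent.ZStar.CyclicIntersections.central_all _ _ le_rfl hnsQ hCQ h0)⟩

end Cfsg.Agent.S3306
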