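import Cfsg.Statements.S3313
import Mathlib
import Cfsg.Agent.InvChar.JankoTwoCount
import Cfsg.Agent.Lib.Involutions.OrderFormula
import Cfsg.Agent.Lib.CharP.CharP
import Cfsg.Agent.Lib.Cores.Fitting

set_option linter.all false

set_option autoImplicit false
open Cfsg

namespace Cfsg.Agent.S3313

theorem centralizes {G : Type*} [Group G] {u v x : G} (hu : u * u = 1) (hv : v * v = 1) (hx : x * x = 1)
    (hm : x ∈ Subgroup.zpowers (u * v)) : u * x = x * u ∧ v * x = x * v := by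
  obtain ⟨k, rfl⟩ := hm
  change (u * v) ^ k * (u * v) ^ k = 1 at hx
  show u * (u * v) ^ k = (u * v) ^ k * u ∧ v * (u * v) ^ k = (u * v) ^ k * v
  have hui := inv_eq_of_mul_eq_one_right hu
  have hvi := inv_eq_of_mul_eq_one_right hv
  have hxi : ((u * v) ^ k)⁻¹ = (u * v) ^ k := inv_eq_of_mul_eq_one_right hx
  have h1 : u * (u * v) ^ k * u⁻¹ = ((u * v) ^ k)⁻¹ := by
    rw [← conj_zpow, ← inv_zpow, mul_inv_rev, hui, hvi, ← mul_assoc u u, hu, one_mul]
  have h2 : v * (u * v) ^ k * v⁻¹ = ((u * v) ^ k)⁻¹ := by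
    rw [← conj_zpow, ← inv_zpow, mul_inv_rev, hui, hvi, mul_assoc v, mul_assoc u v v, hv, mul_one]
  rw [hxi] at h1 h2
  exact ⟨mul_inv_eq_iff_eq_mul.1 h1, mul_inv_eq_iff_eq_mul.1 h2⟩

/-- The order of a simple group with the involution pattern of the Hall–Janko group. Let G be a non-abelian finite simple group with exactly two conjugacy classes of involutions, represented by z and t, such that: F*(C_G(z)) is an extraspecial 2-group; Q = O₂(C_G(z)) has order 32 and C_G(z) is the semidirect product of Q by a subgroup isomorphic to A₅; every involution of Q is conjugate to z and every other involution of C_G(z) is conjugate to t; C_G(t) is an internal direct product V × B with V a four-group containing t and B ≅ A₅; every involution of B is conjugate to z and every other involution of C_G(t) is conjugate to t. Then |G| = 604800. -/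
theorem result {G : Type*} [Group G] [Finite G]
    [IsSimpleGroup G] (hna : ¬ IsMulCommutative G) (z t : G) (hz : orderOf z = 2) (ht : orderOf t = 2)
    (hzt : ¬ IsConj z t) (hcl : ∀ x : G, orderOf x = 2 → IsConj x z ∨ IsConj x t)
    (hex : Cfsg.IsExtraspecial 2 ↥(Cfsg.generalizedFittingSubgroup ↥(Subgroup.centralizer ({z} : Set G))))
    (hQ : Nat.card ↥(Cfsg.pCore 2 ↥(Subgroup.centralizer ({z} : Set G))) = 32)
    (K : Subgroup G) (hK : Nonempty (↥K ≃* alternatingGroup (Fin 5)))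
    (hKC : K ⊔ (Cfsg.pCore 2 ↥(Subgroup.centralizer ({z} : Set G))).map (Subgroup.centralizer ({z} : Set G)).subtype = Subgroup.centralizer ({z} : Set G))
    (hKQ : K ⊓ (Cfsg.pCore 2 ↥(Subgroup.centralizer ({z} : Set G))).map (Subgroup.centralizer ({z} : Set G)).subtype = ⊥)
    (hQz : ∀ x ∈ (Cfsg.pCore 2 ↥(Subgroup.centralizer ({z} : Set G))).map (Subgroup.centralizer ({z} : Set G)).subtype, orderOf x = 2 → IsConj x z)
    (hCz : ∀ x ∈ Subgroup.centralizer ({z} : Set G), orderOf x = 2 →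
      x ∉ (Cfsg.pCore 2 ↥(Subgroup.centralizer ({z} : Set G))).map (Subgroup.centralizer ({z} : Set G)).subtype → IsConj x t)
    (V B : Subgroup G) (hVB : Cfsg.IsInternalDirectProduct V B (Subgroup.centralizer ({t} : Set G)))
    (hV : Nat.card ↥V = 4) (hV2 : ∀ v ∈ V, v ^ 2 = 1) (htV : t ∈ V) (hB : Nonempty (↥B ≃* alternatingGroup (Fin 5)))
    (hBz : ∀ x ∈ B, orderOf x = 2 → IsConj x z)
    (hCt : ∀ x ∈ Subgroup.centralizer ({t} : Set G), orderOf x = 2 → x ∉ B → IsConj x t) :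
    Nat.card G = 604800 := by
  haveI : Fact (Nat.Prime 2) := ⟨Nat.prime_two⟩
  classical
  haveI := Fintype.ofFinite G
  have hz1 : z ≠ 1 := fun e => by simp [e] at hz
  have hzz : z * z = 1 := by rw [← sq, ← hz, pow_orderOf_eq_one]
  have ht1 : t ≠ 1 := fun e => by simp [e] at ht
  have htt : t * t = 1 := by rw [← sq, ← ht, pow_orderOf_eq_one]
  have hinv : ∀ {u : G}, u * u = 1 → u ≠ 1 → orderOf u = 2 := fun {u} h h1 => orderOf_eq_prime (by rw [sq, h]) h1
  have hord : ∀ {x u : G}, orderOf x = 2 → IsConj x u → u * u = 1 ∧ u ≠ 1 := by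
    intro x u hx h
    obtain ⟨g, rfl⟩ := isConj_iff.1 h
    have ho : orderOf (g * x * g⁻¹) = 2 := by rw [show g * x * g⁻¹ = MulAut.conj g x from rfl, MulEquiv.orderOf_eq, hx]
    exact ⟨by rw [← sq, ← ho, pow_orderOf_eq_one], fun e => by simp [e] at ho⟩
  have hzt' : ∀ {x : G}, IsConj z x → IsConj x t → False := fun h h' => hzt (h.trans h')
  -- the centralizer of z
  set C := Subgroup.centralizer ({z} : Set G) with hC
  have hzC : z ∈ C := Subgroup.mem_centralizer_singleton_iff.2 rfl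
  let z' : ↥C := ⟨z, hzC⟩
  have hzc : ∀ c : ↥C, z' * c = c * z' := fun c => Subtype.ext (Subgroup.mem_centralizer_singleton_iff.1 c.2).symm
  have hKleC : K ≤ C := le_sup_left.trans hKC.le
  have hFQ : Cfsg.generalizedFittingSubgroup ↥C = Cfsg.pCore 2 ↥C := by
    haveI : (Cfsg.layer ↥C).Normal := inferInstance
    haveI : (Cfsg.fittingSubgroup ↥C).Normal := inferInstance
    haveI : (Cfsg.generalizedFittingSubgroup ↥C).Normal := by rw [Cfsg.generalizedFittingSubgroup]; infer_instance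
    exact le_antisymm (Cores.le_pCore hex.1.1)
      ((Cores.pCore_le_fittingSubgroup Nat.prime_two).trans le_sup_right)
  have hS : InvChar.JankoTwoCount.Setting (Cfsg.pCore 2 ↥C) (K.subgroupOf C) z' := by
    refine ⟨inferInstance, hFQ ▸ hex, hQ, ?_, Subtype.ext hzz, fun e => hz1 (congrArg Subtype.val e), hzc,
      (CharP.genFitting_eq_pCore_iff (G := ↥C) (p := 2)).1 hFQ, ?_, ?_, ?_⟩
    · haveI : (Subgroup.zpowers z').Normal := ⟨fun a ha g => by
        obtain ⟨i, rfl⟩ := ha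
        have h : g * z' ^ i = z' ^ i * g := (Commute.zpow_right (hzc g).symm i).eq
        show g * z' ^ i * g⁻¹ ∈ _
        rw [h, mul_inv_cancel_right]
        exact ⟨i, rfl⟩⟩
      refine Cores.le_pCore (p := 2) ?_ (Subgroup.mem_zpowers z')
      refine IsPGroup.of_card (n := 1) ?_
      rw [Nat.card_zpowers, ← Subgroup.orderOf_coe, pow_one]
      exact hz
    · rw [eq_bot_iff]
      intro x hx
      have : (x : G) ∈ K ⊓ (Cfsg.pCore 2 ↥C).map C.subtype := ⟨hx.2, x, hx.1, rfl⟩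
      rw [hKQ, Subgroup.mem_bot] at this
      exact Subgroup.mem_bot.2 (Subtype.ext this)
    · intro c
      have htop : Cfsg.pCore 2 ↥C ⊔ K.subgroupOf C = ⊤ := by
        apply Subgroup.map_injective C.subtype_injective
        rw [Subgroup.map_sup, Subgroup.subgroupOf_map_subtype, inf_eq_left.2 hKleC, sup_comm, hKC,
          ← MonoidHom.range_eq_map, Subgroup.range_subtype]
      obtain ⟨q, hq, k, hk, e⟩ := Subgroup.mem_sup_of_normal_left.1 (htop ▸ Subgroup.mem_top c)
      exact ⟨q, hq, k, hk, e.symm⟩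
    · exact ⟨(Subgroup.subgroupOfEquivOfLe hKleC).trans hK.some⟩
  have hCcard : Nat.card ↥C = 1920 := by
    have hF : Function.Bijective (fun p : ↥(Cfsg.pCore 2 ↥C) × ↥(K.subgroupOf C) => (p.1 : ↥C) * (p.2 : ↥C)) := by
      refine ⟨fun p p' e => ?_, fun c => ?_⟩
      · obtain ⟨e1, e2⟩ := hS.eq_of_mul p.1.2 p'.1.2 p.2.2 p'.2.2 e
        exact Prod.ext (Subtype.ext e1) (Subtype.ext e2)
      · obtain ⟨q, hq, k, hk, rfl⟩ := hS.prod c
        exact ⟨(⟨q, hq⟩, ⟨k, hk⟩), rfl⟩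
    rw [← Nat.card_eq_of_bijective _ hF, Nat.card_prod, hS.card32, Nat.card_congr (Subgroup.subgroupOfEquivOfLe hKleC).toEquiv,
      Nat.card_congr hK.some.toEquiv, nat_card_alternatingGroup, Nat.card_fin]
    rfl
  have hQmem : ∀ x : ↥C, (x : G) ∈ (Cfsg.pCore 2 ↥C).map C.subtype ↔ x ∈ Cfsg.pCore 2 ↥C := fun x =>
    Subgroup.mem_map_iff_mem C.subtype_injective
  have haz : Nat.card {p : G × G // IsConj z p.1 ∧ IsConj t p.2 ∧ z ∈ Subgroup.zpowers (p.1 * p.2)} = 960 := by
    rw [← hS.count]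
    refine (Nat.card_eq_of_bijective (fun p : {p : ↥C × ↥C // InvChar.JankoTwoCount.Inv10 (Cfsg.pCore 2 ↥C) z' p.1 ∧
        (p.2 ∉ Cfsg.pCore 2 ↥C ∧ p.2 * p.2 = 1) ∧ z' ∈ Subgroup.zpowers (p.1 * p.2)} =>
      (⟨((p.1.1 : G), (p.1.2 : G)), ?_⟩ : {p : G × G // IsConj z p.1 ∧ IsConj t p.2 ∧ z ∈ Subgroup.zpowers (p.1 * p.2)}))
      ⟨?_, ?_⟩).symm
    · obtain ⟨⟨u, v⟩, ⟨huQ, hu2, hu1, -⟩, ⟨hvQ, hv2⟩, hm⟩ := p
      have hvne : (v : G) ≠ 1 := fun e => hvQ (by rw [show v = 1 from Subtype.ext e]; exact one_mem _)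
      refine ⟨(hQz u ((hQmem u).2 huQ) (hinv (congrArg Subtype.val hu2) fun e => hu1 (Subtype.ext e))).symm,
        (hCz v v.2 (hinv (congrArg Subtype.val hv2) hvne) fun h => hvQ ((hQmem v).1 h)).symm, ?_⟩
      obtain ⟨i, hi⟩ := hm
      exact ⟨i, by simpa using congrArg Subtype.val hi⟩
    · intro p p' e
      exact Subtype.ext (Prod.ext (Subtype.ext (congrArg (fun x => x.1.1) e)) (Subtype.ext (congrArg (fun x => x.1.2) e)))
    · rintro ⟨⟨u, v⟩, hu, hv, hm⟩
      obtain ⟨hu2, hu1⟩ := hord hz hu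
      obtain ⟨hv2, hv1⟩ := hord ht hv
      obtain ⟨hcu, hcv⟩ := centralizes hu2 hv2 hzz hm
      have huC : u ∈ C := Subgroup.mem_centralizer_singleton_iff.2 hcu
      have hvC : v ∈ C := Subgroup.mem_centralizer_singleton_iff.2 hcv
      refine ⟨⟨(⟨u, huC⟩, ⟨v, hvC⟩), ⟨?_, Subtype.ext hu2, fun e => hu1 (congrArg Subtype.val e), ?_⟩,
        ⟨?_, Subtype.ext hv2⟩, ?_⟩, rfl⟩
      · by_contra hh
        exact hzt' hu (hCz u huC (hinv hu2 hu1) fun h => hh ((hQmem ⟨u, huC⟩).1 h))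
      · intro e
        obtain rfl : u = z := congrArg Subtype.val e
        have h2 : (u * v) * (u * v) = 1 := by
          rw [mul_assoc u v, ← mul_assoc v, hcv, mul_assoc u v v, hv2, mul_one, hu2]
        obtain ⟨i, hi⟩ := hm
        change (u * v) ^ i = u at hi
        rcases Int.even_or_odd i with ⟨m, rfl⟩ | ⟨m, rfl⟩
        · rw [← two_mul, zpow_mul, zpow_two, h2, one_zpow] at hi; exact hu1 hi.symm
        · rw [zpow_add, zpow_mul, zpow_two, h2, one_zpow, one_mul, zpow_one] at hi; exact hv1 (mul_eq_left.1 hi)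
      · intro hh
        exact hzt' (hQz v ((hQmem ⟨v, hvC⟩).2 hh) (hinv hv2 hv1)).symm hv.symm
      · obtain ⟨i, hi⟩ := hm
        exact ⟨i, Subtype.ext (by simpa using hi)⟩
  -- the centralizer of t
  obtain ⟨hVle, hBle, hcomm, hdisj, hsup⟩ := hVB
  obtain ⟨e⟩ := hB
  have huniq : ∀ {v v' b b' : G}, v ∈ V → v' ∈ V → b ∈ B → b' ∈ B → v * b = v' * b' → v = v' ∧ b = b' := by
    intro v v' b b' hv hv' hb hb' he
    have hm : v'⁻¹ * v ∈ V ⊓ B := ⟨V.mul_mem (V.inv_mem hv') hv, by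
      rw [show v'⁻¹ * v = b' * b⁻¹ by rw [eq_mul_inv_iff_mul_eq, mul_assoc, he, inv_mul_cancel_left]]
      exact B.mul_mem hb' (B.inv_mem hb)⟩
    rw [hdisj, Subgroup.mem_bot, inv_mul_eq_one] at hm
    subst hm
    exact ⟨rfl, mul_left_cancel he⟩
  have hdec : ∀ x ∈ Subgroup.centralizer ({t} : Set G), ∃ v ∈ V, ∃ b ∈ B, x = v * b := by
    intro x hx
    rw [← hsup, ← SetLike.mem_coe, Subgroup.coe_mul_of_left_le_normalizer_right V B (fun v hv =>
      Subgroup.centralizer_le_normalizer _ (Subgroup.mem_centralizer_iff.2 fun b hb => (hcomm v hv b hb).symm))] at hx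
    obtain ⟨v, hv, b, hb, rfl⟩ := hx
    exact ⟨v, hv, b, hb, rfl⟩
  have hctcard : Nat.card ↥(Subgroup.centralizer ({t} : Set G)) = 240 := by
    have hF : Function.Bijective (fun p : ↥V × ↥B =>
        (⟨(p.1 : G) * p.2, mul_mem (hVle p.1.2) (hBle p.2.2)⟩ : ↥(Subgroup.centralizer ({t} : Set G)))) := by
      refine ⟨fun p p' he => ?_, fun c => ?_⟩
      · obtain ⟨e1, e2⟩ := huniq p.1.2 p'.1.2 p.2.2 p'.2.2 (congrArg Subtype.val he)
        exact Prod.ext (Subtype.ext e1) (Subtype.ext e2)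
      · obtain ⟨v, hv, b, hb, he⟩ := hdec c c.2
        exact ⟨(⟨v, hv⟩, ⟨b, hb⟩), Subtype.ext he.symm⟩
    rw [← Nat.card_eq_of_bijective _ hF, Nat.card_prod, hV, Nat.card_congr e.toEquiv, nat_card_alternatingGroup,
      Nat.card_fin]
    rfl
  have htB : t ∉ B := fun h => ht1 (by
    have : t ∈ V ⊓ B := ⟨htV, h⟩
    rwa [hdisj, Subgroup.mem_bot] at this)
  have hat : Nat.card {p : G × G // IsConj z p.1 ∧ IsConj t p.2 ∧ t ∈ Subgroup.zpowers (p.1 * p.2)} = 195 := by
    rw [← InvChar.AltFiveFacts.card_pairs, ← Fintype.card_subtype, ← Nat.card_eq_fintype_card]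
    refine (Nat.card_eq_of_bijective (fun p : {p : ↥(alternatingGroup (Fin 5)) × ↥(alternatingGroup (Fin 5)) //
        p.1 ^ 2 = 1 ∧ p.1 ≠ 1 ∧ p.2 ^ 2 = 1 ∧ (p.1 * p.2) ^ 15 = 1} =>
      (⟨((e.symm p.1.1 : G), t * (e.symm p.1.2 : G)), ?_⟩ : {p : G × G // IsConj z p.1 ∧ IsConj t p.2 ∧ t ∈ Subgroup.zpowers (p.1 * p.2)}))
      ⟨?_, ?_⟩).symm
    · obtain ⟨⟨a, b⟩, ha2, ha1, hb2, hab⟩ := p
      have hA2 : (e.symm a : G) * (e.symm a : G) = 1 := by
        rw [← Subgroup.coe_mul, ← map_mul, ← sq, ha2, map_one]; rfl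
      have hA1 : (e.symm a : G) ≠ 1 := fun h => ha1 (e.symm.injective ((Subtype.ext h).trans (map_one e.symm).symm))
      have hB2 : (e.symm b : G) * (e.symm b : G) = 1 := by
        rw [← Subgroup.coe_mul, ← map_mul, ← sq, hb2, map_one]; rfl
      have htb : t * (e.symm b : G) = (e.symm b : G) * t := hcomm t htV _ (e.symm b).2
      have hta : t * (e.symm a : G) = (e.symm a : G) * t := hcomm t htV _ (e.symm a).2
      have hv2 : t * (e.symm b : G) * (t * (e.symm b : G)) = 1 := by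
        rw [mul_assoc, ← mul_assoc _ t, ← htb, mul_assoc t (e.symm b : G), hB2, mul_one, htt]
      have hvB : t * (e.symm b : G) ∉ B := fun h => htB ((B.mul_mem_cancel_right (e.symm b).2).1 h)
      refine ⟨(hBz _ (e.symm a).2 (hinv hA2 hA1)).symm, (hCt _ (mul_mem (hVle htV) (hBle (e.symm b).2))
        (hinv hv2 fun h => hvB (by rw [h]; exact one_mem _)) hvB).symm, ⟨15, ?_⟩⟩
      show ((e.symm a : G) * (t * (e.symm b : G))) ^ (15 : ℤ) = t
      rw [← mul_assoc, ← hta, mul_assoc, ← Subgroup.coe_mul, ← map_mul]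
      have hc : Commute t (e.symm (a * b) : G) := hcomm t htV _ (e.symm (a * b)).2
      rw [zpow_ofNat, hc.mul_pow, ← SubmonoidClass.coe_pow, ← map_pow, hab, map_one, OneMemClass.coe_one, mul_one]
      simp [pow_succ, htt]
    · intro p p' he
      refine Subtype.ext (Prod.ext ?_ ?_)
      · exact e.symm.injective (Subtype.ext (congrArg (fun x => x.1.1) he))
      · exact e.symm.injective (Subtype.ext (mul_left_cancel (congrArg (fun x => x.1.2) he)))
    · rintro ⟨⟨u, v⟩, hu, hv, hm⟩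
      obtain ⟨hu2, hu1⟩ := hord hz hu
      obtain ⟨hv2, hv1⟩ := hord ht hv
      obtain ⟨hcu, hcv⟩ := centralizes hu2 hv2 htt hm
      have huC : u ∈ Subgroup.centralizer ({t} : Set G) := Subgroup.mem_centralizer_singleton_iff.2 hcu
      have hvC : v ∈ Subgroup.centralizer ({t} : Set G) := Subgroup.mem_centralizer_singleton_iff.2 hcv
      have huB : u ∈ B := by
        by_contra hh
        exact hzt' hu (hCt u huC (hinv hu2 hu1) hh)
      obtain ⟨v0, hv0, b, hb, rfl⟩ := hdec v hvC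
      have hv02 : v0 * v0 = 1 := by rw [← sq]; exact hV2 v0 hv0
      have hb2 : b * b = 1 := by
        rw [mul_assoc, ← mul_assoc b, ← hcomm v0 hv0 b hb, mul_assoc v0 b b, ← mul_assoc, hv02, one_mul] at hv2
        exact hv2
      obtain ⟨j, hj⟩ := hm
      change (u * (v0 * b)) ^ j = t at hj
      rw [← mul_assoc, ← hcomm v0 hv0 u huB, mul_assoc] at hj
      have hc : Commute v0 (u * b) := hcomm v0 hv0 _ (B.mul_mem huB hb)
      rw [hc.mul_zpow] at hj
      obtain ⟨e1, e2⟩ := huniq (V.zpow_mem hv0 j) htV (B.zpow_mem (B.mul_mem huB hb) j) B.one_mem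
        (by rw [hj, mul_one])
      rcases Int.even_or_odd j with ⟨m, rfl⟩ | ⟨m, rfl⟩
      · exfalso
        rw [← two_mul, zpow_mul, zpow_two, hv02, one_zpow] at e1
        exact ht1 e1.symm
      rw [zpow_add, zpow_mul, zpow_two, hv02, one_zpow, one_mul, zpow_one] at e1
      subst e1
      set w := e (⟨u, huB⟩ * ⟨b, hb⟩) with hw
      have hwj : w ^ (2 * m + 1) = 1 := by
        rw [hw, ← map_zpow, ← map_one e]
        exact congrArg e (Subtype.ext (by rw [Subgroup.coe_zpow]; exact e2))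
      have hw15 : w ^ 15 = 1 := by
        rcases InvChar.AltFiveFacts.orders w with h | h
        · rw [zpow_add, zpow_mul, zpow_ofNat, h, one_zpow, one_mul, zpow_one] at hwj
          rw [hwj, one_pow]
        · exact h
      refine ⟨⟨(e ⟨u, huB⟩, e ⟨b, hb⟩), ?_, ?_, ?_, ?_⟩, ?_⟩
      · rw [← map_pow, ← map_one e]; exact congrArg e (Subtype.ext (by rw [SubmonoidClass.coe_pow, sq]; exact hu2))
      · intro h
        exact hu1 (congrArg Subtype.val (e.injective (h.trans (map_one e).symm)))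
      · rw [← map_pow, ← map_one e]; exact congrArg e (Subtype.ext (by rw [SubmonoidClass.coe_pow, sq]; exact hb2))
      · show (e ⟨u, huB⟩ * e ⟨b, hb⟩) ^ 15 = 1
        rw [← map_mul]; exact hw15
      · simp
  rw [Involutions.OrderFormula.order_formula z t hz ht hzt (fun x hx => (hcl x hx).imp IsConj.symm IsConj.symm), haz, hat,
    hCcard, hctcard]

end Cfsg.Agent.S3313
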