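import Cfsg.Statements.S3315
import Cfsg.Agent.InvChar.UnitaryThreeSylowExtension
-- import your own Cfsg.Agent.* helpers here

set_option autoImplicit false
open Cfsg

namespace Cfsg.Agent.S3315

/-- Let S be a Sylow 2-subgroup of SU₃(2ⁿ), n ≥ 2 (realised over the field with 4ⁿ elements). If a finite 2-group R contains a subgroup S' of index 2 isomorphic to S, then the centre of S' is contained in the centre of R. -/
theorem result {R : Type*} [Group R] [Finite R]
    (hR : IsPGroup 2 R) (n : ℕ) (hn : 2 ≤ n) {F : Type*} [Field F] [Fintype F] (hF : Fintype.card F = 4 ^ n)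
    (P : Sylow 2 ↥(Cfsg.SU 3 F (2 ^ n))) (S' : Subgroup R) (hS : Nonempty (↥S' ≃* ↥(P : Subgroup ↥(Cfsg.SU 3 F (2 ^ n)))))
    (hidx : S'.index = 2) :
    (Subgroup.center ↥S').map S'.subtype ≤ Subgroup.center R := by
  classical
  haveI : Fact (Nat.Prime 2) := ⟨Nat.prime_two⟩
  have hF' : Fintype.card F = (2 ^ n) ^ 2 := by rw [hF, ← pow_mul, mul_comm, pow_mul]; norm_num
  haveI : CharP F 2 :=
    InvChar.UnitaryThreeSylowExtension.charTwo (n := n) (by omega) hF'
  obtain ⟨B⟩ := Involutions.SylowPSUThree.exists_base hF'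
  obtain ⟨e₁⟩ := InvChar.UnitaryThreeSylowExtension.sylow_SU_equiv hF' B P
  obtain ⟨e₂⟩ := hS
  let e : ↥S' ≃* Involutions.SylowPSUThree.heis hF' B := e₂.trans e₁.symm
  haveI : S'.Normal := Subgroup.normal_of_index_eq_two hidx
  rintro _ ⟨z, hz, rfl⟩
  refine Subgroup.mem_center_iff.2 fun x => ?_
  by_cases hx : x ∈ S'
  · exact congrArg Subtype.val (Subgroup.mem_center_iff.1 hz ⟨x, hx⟩)
  have hxx : x * x ∈ S' := Subgroup.mul_self_mem_of_index_two hidx x
  let τ := e.symm.trans ((MulAut.conjNormal x : MulAut S').trans e)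
  have hτ : ∀ s, τ (τ s) = e ⟨x * x, hxx⟩ * s * (e ⟨x * x, hxx⟩)⁻¹ := by
    intro s
    obtain ⟨s, rfl⟩ := e.surjective s
    simp only [τ, MulEquiv.trans_apply, MulEquiv.symm_apply_apply]
    rw [← map_inv e, ← map_mul e, ← map_mul e]
    congr 1
    refine Subtype.ext ?_
    simp [MulAut.conjNormal_apply, mul_assoc]
  have h1 := InvChar.UnitaryThreeSylowExtension.center_fixed hF' B τ _ hτ (e z) (by
    refine Subgroup.mem_center_iff.2 fun t => ?_
    obtain ⟨t, rfl⟩ := e.surjective t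
    rw [← map_mul, ← map_mul, Subgroup.mem_center_iff.1 hz t])
  simp only [τ, MulEquiv.trans_apply, MulEquiv.symm_apply_apply] at h1
  have h2 := congrArg Subtype.val (e.injective h1)
  rw [MulAut.conjNormal_apply] at h2
  exact mul_inv_eq_iff_eq_mul.1 h2

end Cfsg.Agent.S3315
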