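import Cfsg.Statements.S3324
import Cfsg.Agent.Lib.SymSquare.Normalizer
-- import your own Cfsg.Agent.* helpers here

set_option autoImplicit false
open Cfsg

namespace Cfsg.Agent.S3324

open Cfsg.Agent.SymSquare Cfsg.Agent.AutPSp.SylowCentre

/-- Let p be an odd prime and q = pⁿ with q ≡ 3 (mod 4), and let C₀ be the centralizer in PSp(4, q) of an element x of order p lying in the centre of a Sylow p-subgroup. Let G be a finite group with an element α of order p such that C_G(α) ≅ C₀, such that C_G(z) = C_G(α) for every nontrivial z in the centre of C_G(α), and in which not all elements of order p that are central in some Sylow p-subgroup are conjugate. Let P be a Sylow p-subgroup of G contained in C_G(α) (P has order q⁴) and M an elementary abelian subgroup of P of order q³. If N_G(M) does not have a normal Sylow p-subgroup, then M has a complement J in N_G(M) with J isomorphic to PGL(2, q) × C, C cyclic of order (q − 1)/2.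 -/
theorem result
    {G : Type*} [Group G] [Finite G] {F : Type*} [Field F] [Fintype F] (p n : ℕ) [Fact p.Prime] (hp : p ≠ 2)
    (hn : 1 ≤ n) (hq4 : p ^ n % 4 = 3) (hF : Fintype.card F = p ^ n)
    (x : Cfsg.PSp 2 F) (hx : orderOf x = p) (Px : Sylow p (Cfsg.PSp 2 F)) (hxP : x ∈ (Px : Subgroup (Cfsg.PSp 2 F)))
    (hxc : ∀ y ∈ (Px : Subgroup (Cfsg.PSp 2 F)), y * x = x * y)
    (α : G) (hα : orderOf α = p)
    (e : ↥(Subgroup.centralizer ({α} : Set G)) ≃* ↥(Subgroup.centralizer ({x} : Set (Cfsg.PSp 2 F))))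
    (hb : ∀ z ∈ Subgroup.centralizer ({α} : Set G), z ≠ 1 → (∀ c ∈ Subgroup.centralizer ({α} : Set G), c * z = z * c) →
      Subgroup.centralizer ({z} : Set G) = Subgroup.centralizer ({α} : Set G))
    (hc : ∃ (u v : G) (Pu Pv : Sylow p G), orderOf u = p ∧ orderOf v = p ∧
      u ∈ (Pu : Subgroup G) ∧ (∀ y ∈ (Pu : Subgroup G), y * u = u * y) ∧
      v ∈ (Pv : Subgroup G) ∧ (∀ y ∈ (Pv : Subgroup G), y * v = v * y) ∧ ∀ g : G, g * u * g⁻¹ ≠ v)
    (P : Sylow p G) (hP : (P : Subgroup G) ≤ Subgroup.centralizer ({α} : Set G))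
    (M : Subgroup G) (hMP : M ≤ P) (hMc : IsMulCommutative ↥M) (hMe : ∀ m ∈ M, m ^ p = 1) (hMcard : Nat.card ↥M = p ^ (3 * n))
    (hnc : ∃ Q R : Sylow p ↥(Subgroup.normalizer (M : Set G)), Q ≠ R) :
    ∃ J : Subgroup G, J ≤ Subgroup.normalizer (M : Set G) ∧ M ⊔ J = Subgroup.normalizer (M : Set G) ∧ M ⊓ J = ⊥ ∧
      Nonempty (↥J ≃* (Matrix.ProjGenLinGroup (Fin 2) F × Multiplicative (ZMod ((p ^ n - 1) / 2)))) := by
  classical
  haveI : CharP F p := charP_of_card_eq_prime_pow hF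
  have hq : Nat.card F = p ^ n := by rw [Nat.card_eq_fintype_card, hF]
  have h2 : (2 : F) ≠ 0 := fun h => hp ((Nat.prime_dvd_prime_iff_eq Fact.out Nat.prime_two).1
    ((CharP.cast_eq_zero_iff F p 2).1 (by exact_mod_cast h)))
  set π : Matrix.symplecticGroup (Fin 2) F →* Cfsg.PSp 2 F := QuotientGroup.mk' _ with hπ
  -- normal form of the root element
  obtain ⟨P0, hP0⟩ := Fusion.SimplePSp.exists_sylow_eq (F := F) (p := p) (m := 2) one_le_two
  obtain ⟨g, hg⟩ := MulAction.exists_smul_eq (Cfsg.PSp 2 F) Px P0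
  have hmem : ∀ y, y ∈ (Px : Subgroup (Cfsg.PSp 2 F)) ↔ g * y * g⁻¹ ∈ (P0 : Subgroup (Cfsg.PSp 2 F)) := by
    intro y
    rw [← hg, Sylow.coe_subgroup_smul, Subgroup.mem_pointwise_smul_iff_inv_smul_mem]
    simp [MulAut.smul_def, mul_assoc]
  have hx' : g * x * g⁻¹ ∈ (upperSubgroup : Subgroup (Matrix.symplecticGroup (Fin 2) F)).map π := hP0 ▸ (hmem x).1 hxP
  obtain ⟨z, hz, hzx⟩ := hx'
  have hzc : ∀ A ∈ (upperSubgroup : Subgroup (Matrix.symplecticGroup (Fin 2) F)), π z * π A = π A * π z := by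
    intro A hA
    have h1 : π A ∈ (P0 : Subgroup (Cfsg.PSp 2 F)) := hP0 ▸ Subgroup.mem_map_of_mem π hA
    have h := hxc (g⁻¹ * π A * g) ((hmem _).2 (by simpa [mul_assoc] using h1))
    rw [hzx]
    calc g * x * g⁻¹ * π A = g * (x * (g⁻¹ * π A * g)) * g⁻¹ := by group
      _ = _ := by rw [← h]; group
  obtain ⟨a0, rfl⟩ := Model.centre_upper (p := p) h2 hz hzc
  have ha0 : a0 ≠ 0 := by
    intro h
    subst h
    have hz0 : π (Model.sm (za (0 : F))) = 1 := by
      rw [show za (0 : F) = 0 from rfl, Model.sm_zero, map_one]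
    rw [hz0] at hzx
    rw [conj_eq_one_iff.1 hzx.symm, orderOf_one] at hx
    exact (Fact.out : p.Prime).ne_one hx.symm
  have hback : ∀ y : Normalizer.Cz a0, g⁻¹ * (y : Cfsg.PSp 2 F) * g ∈ Subgroup.centralizer ({x} : Set (Cfsg.PSp 2 F)) := by
    intro y
    have h := Subgroup.mem_centralizer_singleton_iff.1 y.2
    rw [← hπ, hzx] at h
    rw [Subgroup.mem_centralizer_singleton_iff]
    calc g⁻¹ * (y : Cfsg.PSp 2 F) * g * x = g⁻¹ * ((y : Cfsg.PSp 2 F) * (g * x * g⁻¹)) * g := by group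
      _ = _ := by rw [h]; group
  let j0 : Normalizer.Cz a0 →* G := MonoidHom.mk' (fun y => ((e.symm ⟨_, hback y⟩ : Subgroup.centralizer ({α} : Set G)) : G))
    fun y y' => by
      rw [← Subgroup.coe_mul, ← map_mul]
      congr 2
      exact Subtype.ext (show g⁻¹ * ((y : Cfsg.PSp 2 F) * y') * g = g⁻¹ * y * g * (g⁻¹ * y' * g) by group)
  have hj0i : Function.Injective j0 := fun y y' h => Subtype.ext (by
    have h' := congrArg Subtype.val (e.symm.injective (Subtype.ext h))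
    simpa using h')
  have hj0r : j0.range = Subgroup.centralizer ({α} : Set G) := by
    refine le_antisymm (by rintro _ ⟨y, rfl⟩; exact (e.symm _).2) fun c hc' => ?_
    have hmem' : g * (e ⟨c, hc'⟩ : Cfsg.PSp 2 F) * g⁻¹ ∈ Normalizer.Cz a0 := by
      rw [Subgroup.mem_centralizer_singleton_iff, ← hπ, hzx]
      have h := Subgroup.mem_centralizer_singleton_iff.1 (e ⟨c, hc'⟩).2
      calc g * (e ⟨c, hc'⟩ : Cfsg.PSp 2 F) * g⁻¹ * (g * x * g⁻¹) = g * ((e ⟨c, hc'⟩ : Cfsg.PSp 2 F) * x) * g⁻¹ := by group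
        _ = _ := by rw [h]; group
    refine ⟨⟨_, hmem'⟩, ?_⟩
    show ((e.symm ⟨g⁻¹ * (g * (e ⟨c, hc'⟩ : Cfsg.PSp 2 F) * g⁻¹) * g, _⟩ : Subgroup.centralizer ({α} : Set G)) : G) = c
    rw [show (⟨g⁻¹ * (g * (e ⟨c, hc'⟩ : Cfsg.PSp 2 F) * g⁻¹) * g, hback ⟨_, hmem'⟩⟩ :
      Subgroup.centralizer ({x} : Set (Cfsg.PSp 2 F))) = e ⟨c, hc'⟩ from Subtype.ext (by group), e.symm_apply_apply]
  -- move the Sylow subgroup onto `P`
  have hPC : (P0 : Subgroup (Cfsg.PSp 2 F)) ≤ Normalizer.Cz a0 := by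
    rw [hP0]
    rintro _ ⟨A, hA, rfl⟩
    exact Subgroup.mem_centralizer_singleton_iff.2 (hzc A hA).symm
  set Q0 := ((P0 : Subgroup (Cfsg.PSp 2 F)).subgroupOf (Normalizer.Cz a0)).map j0 with hQ0
  have hQp : IsPGroup p Q0 := (P0.2.comap_subtype).map j0
  have hQC : Q0 ≤ Subgroup.centralizer ({α} : Set G) := hj0r ▸ Subgroup.map_le_range _ _
  have hQcard : Nat.card Q0 = Nat.card (P0 : Subgroup (Cfsg.PSp 2 F)) := by
    rw [hQ0, Subgroup.card_map_of_injective hj0i]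
    exact Nat.card_congr (Subgroup.subgroupOfEquivOfLe hPC).toEquiv
  have hle : Nat.card (P : Subgroup G) ≤ Nat.card Q0 := by
    rw [hQcard]
    have hB : IsPGroup p (((P : Subgroup G).comap j0).map (Normalizer.Cz a0).subtype) :=
      (P.2.comap_of_injective j0 hj0i).map _
    obtain ⟨S, hS⟩ := hB.exists_le_sylow
    have h := Subgroup.card_le_of_le hS
    rw [Subgroup.card_map_of_injective (Subgroup.subtype_injective _)] at h
    have h' : Nat.card ((P : Subgroup G).comap j0) = Nat.card (P : Subgroup G) := by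
      rw [← Subgroup.card_map_of_injective hj0i, Subgroup.map_comap_eq_self (hj0r ▸ hP)]
    rw [h', S.card_eq_multiplicity, ← P0.card_eq_multiplicity] at h
    exact h
  obtain ⟨S, hS⟩ := hQp.exists_le_sylow
  have hSQ : (S : Subgroup G) = Q0 := (Subgroup.eq_of_le_of_card_ge hS (by
    rw [S.card_eq_multiplicity, ← P.card_eq_multiplicity]; exact hle)).symm
  obtain ⟨c, hc'⟩ := MulAction.exists_smul_eq (Subgroup.centralizer ({α} : Set G))
    (S.subtype (hSQ ▸ hQC)) (P.subtype hP)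
  have hmem2 : ∀ y ∈ Subgroup.centralizer ({α} : Set G), y ∈ Q0 ↔ (c : G) * y * (c : G)⁻¹ ∈ (P : Subgroup G) := by
    intro y hy
    have : (⟨y, hy⟩ : Subgroup.centralizer ({α} : Set G)) ∈ (S.subtype (hSQ ▸ hQC) : Subgroup _) ↔
        c * ⟨y, hy⟩ * c⁻¹ ∈ (P.subtype hP : Subgroup _) := by
      rw [← hc', Sylow.coe_subgroup_smul, Subgroup.mem_pointwise_smul_iff_inv_smul_mem]
      simp [MulAut.smul_def, mul_assoc]
    rw [← hSQ]
    exact this
  set j := (MulAut.conj (c : G)).toMonoidHom.comp j0 with hj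
  have hji : Function.Injective j := (MulAut.conj (c : G)).injective.comp hj0i
  have hjr : j.range = Subgroup.centralizer ({α} : Set G) := by
    refine le_antisymm ?_ fun y hy => ?_
    · rintro _ ⟨y, rfl⟩
      exact mul_mem (mul_mem c.2 (hj0r ▸ ⟨y, rfl⟩)) (inv_mem c.2)
    · obtain ⟨y', hy'⟩ : (c : G)⁻¹ * y * c ∈ j0.range := by rw [hj0r]; exact mul_mem (mul_mem (inv_mem c.2) hy) c.2
      exact ⟨y', by show (c : G) * j0 y' * (c : G)⁻¹ = y; rw [hy']; group⟩
  have hPiff : ∀ y, y ∈ (P : Subgroup G) ↔ ∃ A ∈ (upperSubgroup : Subgroup (Matrix.symplecticGroup (Fin 2) F)),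
      ∃ h : π A ∈ Normalizer.Cz a0, j ⟨π A, h⟩ = y := by
    intro y
    constructor
    · intro hy
      obtain ⟨y', rfl⟩ : y ∈ j.range := hjr ▸ hP hy
      have h : j0 y' ∈ Q0 := (hmem2 _ (hj0r ▸ ⟨y', rfl⟩)).2 hy
      obtain ⟨w, hw, hw'⟩ := h
      obtain rfl := hj0i hw'
      obtain ⟨A, hA, hA'⟩ : (w : Cfsg.PSp 2 F) ∈ (upperSubgroup : Subgroup (Matrix.symplecticGroup (Fin 2) F)).map π :=
        hP0 ▸ hw
      exact ⟨A, hA, hA' ▸ w.2, congrArg j (Subtype.ext hA')⟩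
    · rintro ⟨A, hA, h, rfl⟩
      refine (hmem2 _ (hj0r ▸ ⟨_, rfl⟩)).1 ⟨⟨π A, h⟩, ?_, rfl⟩
      show π A ∈ (P0 : Subgroup (Cfsg.PSp 2 F))
      exact hP0 ▸ Subgroup.mem_map_of_mem π hA
  -- the radical
  set A := (M.comap j).map (Normalizer.Cz a0).subtype with hA
  have hAeq : A = Model.radical F := by
    refine Model.eq_radical (p := p) h2 ?_ ?_ ?_
    · rintro _ ⟨w, hw, rfl⟩
      obtain ⟨B, hB, h, e'⟩ := (hPiff _).1 (hMP hw)
      exact ⟨B, hB, congrArg Subtype.val (hji e')⟩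
    · refine ⟨⟨?_⟩⟩
      rintro ⟨_, w, hw, rfl⟩ ⟨_, w', hw', rfl⟩
      have h := congrArg Subtype.val (hMc.is_comm.comm ⟨j w, hw⟩ ⟨j w', hw'⟩)
      rw [Subgroup.coe_mul, Subgroup.coe_mul, ← map_mul, ← map_mul] at h
      exact Subtype.ext (congrArg (fun t : Normalizer.Cz a0 => (t : Cfsg.PSp 2 F)) (hji h))
    · rw [hA, Subgroup.card_map_of_injective (Subgroup.subtype_injective _), ← Subgroup.card_map_of_injective hji,
        Subgroup.map_comap_eq_self (hjr ▸ hMP.trans hP), hMcard, hq, ← pow_mul, mul_comm]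
  have hMiff : ∀ y, y ∈ M ↔ ∃ v, j (Normalizer.mC a0 v) = y := by
    intro y
    constructor
    · intro hy
      obtain ⟨w, rfl⟩ : y ∈ j.range := hjr ▸ hP (hMP hy)
      obtain ⟨v, hv⟩ : (w : Cfsg.PSp 2 F) ∈ Model.radical F := hAeq ▸ ⟨w, hy, rfl⟩
      exact ⟨v, congrArg j (Subtype.ext hv)⟩
    · rintro ⟨v, rfl⟩
      obtain ⟨w, hw, hw'⟩ : π (Model.sm v) ∈ A := hAeq.symm ▸ ⟨v, rfl⟩
      obtain rfl : w = Normalizer.mC a0 v := Subtype.ext hw'
      exact hw
  have := Normalizer.main hp (hq ▸ hq4) ha0 j hji hjr hb hc P hPiff M hMiff hnc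
  rwa [hq] at this

end Cfsg.Agent.S3324
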