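import Cfsg.Statements.S3329
import Cfsg.Agent.Lib.EightLocal.Order
import Cfsg.Agent.Lib.EightLocal.Ident

set_option autoImplicit false
open Cfsg

namespace Cfsg.Agent.S3329

/-- A 3-local characterization of the alternating group of degree 8. Let G be a finite group whose Sylow 3-subgroup D is elementary abelian of order 9, generated by y and z, and suppose: (i) C_G(D) = D and N_G(D)/D is dihedral of order 8; (ii) D is normal in C_G(y), C_G(y) has order 18, D is normal in N_G(⟨y⟩) and N_G(⟨y⟩)/D is elementary abelian of order 4; (iii) C_G(z) is isomorphic to the direct product of a cyclic group of order 3 and the alternating group of degree 5, and N_G(⟨z⟩) is isomorphic to the subgroup of index 2 of Sym(3) × Sym(5) consisting of the pairs of permutations whose signs agree. Then G is isomorphic to the alternating group of degree 8. -/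
theorem result {G : Type*} [Group G] [Finite G]
    (P : Sylow 3 G) (D : Subgroup G) (hDP : D = P) (y z : G) (hgen : Subgroup.closure {y, z} = D)
    (hcomm : IsMulCommutative D) (hcard : Nat.card D = 9) (hexp : ∀ a ∈ D, a ^ 3 = 1)
    (hC : Subgroup.centralizer (D : Set G) = D)
    (eN : Subgroup.normalizer (D : Set G) ⧸ D.subgroupOf (Subgroup.normalizer (D : Set G)) ≃* DihedralGroup 4)
    (hyn : (D.subgroupOf (Subgroup.centralizer ({y} : Set G))).Normal)
    (hycard : Nat.card (Subgroup.centralizer ({y} : Set G)) = 18)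
    (Ny : Subgroup G) (hNy : Ny = Subgroup.normalizer (Subgroup.zpowers y : Set G))
    (hyN : D ≤ Ny) [hyNn : (D.subgroupOf Ny).Normal]
    (hyNcard : Nat.card (Ny ⧸ D.subgroupOf Ny) = 4) (hyNexp : ∀ g : Ny ⧸ D.subgroupOf Ny, g ^ 2 = 1)
    (eC : Subgroup.centralizer ({z} : Set G) ≃* Multiplicative (ZMod 3) × alternatingGroup (Fin 5))
    (eL : Subgroup.normalizer (Subgroup.zpowers z : Set G) ≃*
      (((Equiv.Perm.sign).comp (MonoidHom.fst (Equiv.Perm (Fin 3)) (Equiv.Perm (Fin 5)))) *
        ((Equiv.Perm.sign).comp (MonoidHom.snd (Equiv.Perm (Fin 3)) (Equiv.Perm (Fin 5))))).ker) :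
    Nonempty (G ≃* alternatingGroup (Fin 8)) := by
  classical
  subst hDP
  have hcomm' : ∀ a ∈ (P : Subgroup G), ∀ b ∈ (P : Subgroup G), a * b = b * a := fun a ha b hb =>
    congrArg Subtype.val (hcomm.is_comm.comm (⟨a, ha⟩ : (P : Subgroup G)) ⟨b, hb⟩)
  have hyP : y ∈ (P : Subgroup G) := hgen ▸ Subgroup.subset_closure (Set.mem_insert y {z})
  have hzP : z ∈ (P : Subgroup G) :=
    hgen ▸ Subgroup.subset_closure (Set.mem_insert_of_mem y (Set.mem_singleton z))
  have hN : Nat.card (Subgroup.normalizer ((P : Subgroup G) : Set G)) = 72 := by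
    rw [Subgroup.card_eq_card_quotient_mul_card_subgroup
      ((P : Subgroup G).subgroupOf (Subgroup.normalizer ((P : Subgroup G) : Set G))),
      Nat.card_congr eN.toEquiv, DihedralGroup.nat_card,
      Nat.card_congr (Subgroup.subgroupOfEquivOfLe Subgroup.le_normalizer).toEquiv, hcard]
  have hyn' : ∀ g ∈ Subgroup.centralizer ({y} : Set G),
      g ∈ Subgroup.normalizer ((P : Subgroup G) : Set G) := by
    intro g hg
    have hle : ∀ p ∈ (P : Subgroup G), p ∈ Subgroup.centralizer ({y} : Set G) := fun p hp =>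
      Subgroup.mem_centralizer_singleton_iff.2 (hcomm' p hp y hyP)
    rw [Subgroup.mem_normalizer_iff]
    refine fun p => ⟨fun hp => ?_, fun hp => ?_⟩
    · exact hyn.conj_mem ⟨p, hle p hp⟩ hp ⟨g, hg⟩
    · have := hyn.conj_mem ⟨g * p * g⁻¹, hle _ hp⟩ hp ⟨g⁻¹, inv_mem hg⟩
      simp only [Subgroup.mem_subgroupOf, Subgroup.coe_mul, InvMemClass.coe_inv] at this
      rwa [show g⁻¹ * (g * p * g⁻¹) * g⁻¹⁻¹ = p by group] at this
  have hzcard : Nat.card (Subgroup.centralizer ({z} : Set G)) = 180 := by
    rw [Nat.card_congr eC.toEquiv]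
    exact EightLocal.card_K
  obtain ⟨φ, t, Dt⟩ := EightLocal.exists_data hcomm' hcard hexp hzP hyP hgen hN hycard hyn' hzcard eL
  obtain ⟨hn, χ, d, hd, h1, h2, h3, h4, h5⟩ := Dt.main hN
  have hd' : (d : ℤ) = 7 ∨ (d : ℤ) = 8 := by rcases hd with rfl | rfl <;> simp
  obtain ⟨f, hf⟩ := Dt.exists_hom_alt χ hd' (Dt.restrict χ h1 h2 h3 h4 h5)
  have hA : Nat.card (alternatingGroup (Fin 8)) = 20160 := by
    have h := two_mul_nat_card_alternatingGroup (α := Fin 8)
    rw [Nat.card_eq_fintype_card (α := Equiv.Perm (Fin 8)), Fintype.card_perm, Fintype.card_fin] at h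
    rw [show Nat.factorial 8 = 40320 from rfl] at h
    omega
  have hdvd := Subgroup.card_dvd_of_injective f hf
  have hG : Nat.card G = 20160 := by
    rcases hn with h | h
    · exact h
    · rw [hA, h] at hdvd
      norm_num at hdvd
  exact ⟨(MulEquiv.ofBijective f ((Nat.bijective_iff_injective_and_card f).2 ⟨hf, hA.trans hG.symm⟩)).symm⟩

end Cfsg.Agent.S3329
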