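import Cfsg.Statements.S3330
import Cfsg.Agent.Lib.EightFour.Sym
import Cfsg.Agent.Lib.EightFour.AltMain

set_option autoImplicit false
open Cfsg

namespace Cfsg.Agent.S3330

/-- A 3-local characterization of the symmetric group of degree 8, with one exceptional configuration. Let G be a finite group whose Sylow 3-subgroup D is elementary abelian of order 9, generated by y and z, and suppose: (i) C_G(D) has order 18, N_G(D)/D is isomorphic to the direct product of a dihedral group of order 8 and a group of order 2, and N_G(D)/C_G(D) is dihedral of order 8; (ii) D is normal in C_G(y), C_G(y) has order 36 with every square lying in D, D is normal in N_G(⟨y⟩), and N_G(⟨y⟩) has order 72 with every square lying in D; (iii) C_G(z) is isomorphic to the direct product of a cyclic group of order 3 and Sym(5), and N_G(⟨z⟩) is isomorphic to Sym(3) × Sym(5). Then either G is isomorphic to the symmetric group of degree 8, or the generalized Fitting subgroup of G is a minimal normal subgroup isomorphic to Alt(5) × Alt(5)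 of index 4 with every square of G lying in it. -/
theorem result {G : Type*} [Group G] [Finite G]
    (P : Sylow 3 G) (D : Subgroup G) (hDP : D = P) (y z : G) (hgen : Subgroup.closure {y, z} = D)
    (hcomm : IsMulCommutative D) (hcard : Nat.card D = 9) (hexp : ∀ a ∈ D, a ^ 3 = 1)
    (hC : Nat.card (Subgroup.centralizer (D : Set G)) = 18)
    (eN : Subgroup.normalizer (D : Set G) ⧸ D.subgroupOf (Subgroup.normalizer (D : Set G)) ≃* DihedralGroup 4 × Multiplicative (ZMod 2))
    [hcn : ((Subgroup.centralizer (D : Set G)).subgroupOf (Subgroup.normalizer (D : Set G))).Normal]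
    (eNC : Subgroup.normalizer (D : Set G) ⧸ (Subgroup.centralizer (D : Set G)).subgroupOf (Subgroup.normalizer (D : Set G)) ≃* DihedralGroup 4)
    (hyn : (D.subgroupOf (Subgroup.centralizer ({y} : Set G))).Normal)
    (hycard : Nat.card (Subgroup.centralizer ({y} : Set G)) = 36)
    (hysq : ∀ g ∈ Subgroup.centralizer ({y} : Set G), g ^ 2 ∈ D)
    (Ny : Subgroup G) (hNy : Ny = Subgroup.normalizer (Subgroup.zpowers y : Set G))
    (hyNn : (D.subgroupOf Ny).Normal) (hyNcard : Nat.card Ny = 72) (hyNsq : ∀ g ∈ Ny, g ^ 2 ∈ D)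
    (eC : Subgroup.centralizer ({z} : Set G) ≃* Multiplicative (ZMod 3) × Equiv.Perm (Fin 5))
    (eL : Subgroup.normalizer (Subgroup.zpowers z : Set G) ≃* Equiv.Perm (Fin 3) × Equiv.Perm (Fin 5)) :
    Nonempty (G ≃* Equiv.Perm (Fin 8)) ∨
      ∃ N : Subgroup G, N.Normal ∧ Cfsg.generalizedFittingSubgroup G = N ∧
        Nonempty (N ≃* alternatingGroup (Fin 5) × alternatingGroup (Fin 5)) ∧
        (∀ K : Subgroup G, K.Normal → K ≤ N → K = ⊥ ∨ K = N) ∧
        N.index = 4 ∧ ∀ g : G, g ^ 2 ∈ N := by
  classical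
  subst hDP
  have hcomm' : ∀ a ∈ (P : Subgroup G), ∀ b ∈ (P : Subgroup G), a * b = b * a := fun a ha b hb =>
    congrArg Subtype.val (hcomm.is_comm.comm (⟨a, ha⟩ : (P : Subgroup G)) ⟨b, hb⟩)
  have hyP : y ∈ (P : Subgroup G) := hgen ▸ Subgroup.subset_closure (Set.mem_insert y {z})
  have hzP : z ∈ (P : Subgroup G) :=
    hgen ▸ Subgroup.subset_closure (Set.mem_insert_of_mem y (Set.mem_singleton z))
  have hN : Nat.card (Subgroup.normalizer ((P : Subgroup G) : Set G)) = 144 := by
    rw [Subgroup.card_eq_card_quotient_mul_card_subgroup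
      ((P : Subgroup G).subgroupOf (Subgroup.normalizer ((P : Subgroup G) : Set G))),
      Nat.card_congr eN.toEquiv, Nat.card_prod, DihedralGroup.nat_card,
      Nat.card_congr (Subgroup.subgroupOfEquivOfLe Subgroup.le_normalizer).toEquiv, hcard]
    simp
  have hyn' : ∀ g ∈ Subgroup.centralizer ({y} : Set G),
      g ∈ Subgroup.normalizer ((P : Subgroup G) : Set G) := by
    intro g hg
    have hle : ∀ p ∈ (P : Subgroup G), p ∈ Subgroup.centralizer ({y} : Set G) := fun p hp =>
      Subgroup.mem_centralizer_singleton_iff.2 (hcomm' p hp y hyP)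
    rw [Subgroup.mem_normalizer_iff]
    refine fun p => ⟨fun hp => ?_, fun hp => ?_⟩
    · exact hyn.conj_mem ⟨p, hle p hp⟩ hp ⟨g, hg⟩
    · have := hyn.conj_mem ⟨g * p * g⁻¹, hle _ hp⟩ hp ⟨g⁻¹, inv_mem hg⟩
      simp only [Subgroup.mem_subgroupOf, Subgroup.coe_mul, InvMemClass.coe_inv] at this
      rwa [show g⁻¹ * (g * p * g⁻¹) * g⁻¹⁻¹ = p by group] at this
  have hzcard : Nat.card (Subgroup.centralizer ({z} : Set G)) = 360 := by
    rw [Nat.card_congr eC.toEquiv, Nat.card_prod, Nat.card_perm, Nat.card_eq_fintype_card (α := Fin 5),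
      Fintype.card_fin]
    simp [Nat.factorial]
  obtain ⟨φ, t, Dt⟩ :=
    EightFour.exists_frame hcomm' hcard hexp hzP hyP hgen hN hycard hysq hyn' hzcard eL
  rcases Dt.ts with hS | hE
  · exact Or.inl (Dt.sym8 eNC hS)
  · have A : EightFour.AltFrame P φ t := ⟨Dt, hE, Dt.cent_i_alt eNC hE⟩
    exact Or.inr (A.conclusion hcn eNC)

end Cfsg.Agent.S3330
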