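import Cfsg.Statements.S3343
import Cfsg.Agent.Lib.NineSym.CaseOne
import Cfsg.Agent.Lib.NineSym.CaseTwo
import Cfsg.Agent.Lib.NineSym.CaseFour
import Cfsg.Agent.Lib.NineSym.CaseMonI
import Cfsg.Agent.Lib.NineSym.MonRho
import Cfsg.Agent.Lib.NineSym.Hom

set_option autoImplicit false
open Cfsg Cfsg.Agent.NineSym

namespace Cfsg.Agent.S3343

/-- Let G be a finite group with an element x of order 3 whose centralizer is isomorphic to the centralizer in the symmetric group of degree 9 of a product of three disjoint 3-cycles, and let J ≤ C_G(x) be elementary abelian of order 27 normalizing no non-trivial subgroup of G of order prime to 3. Then either J is normal in G or G is isomorphic to the symmetric group of degree 9. -/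
theorem result {G : Type*} [Group G] [Finite G]
    (x : G) (hx : orderOf x = 3)
    (eC : Subgroup.centralizer ({x} : Set G) ≃*
      Subgroup.centralizer ({Equiv.swap (0 : Fin 9) 1 * Equiv.swap 1 2 * Equiv.swap 3 4 * Equiv.swap 4 5 * Equiv.swap 6 7 * Equiv.swap 7 8} : Set (Equiv.Perm (Fin 9))))
    (J : Subgroup G) (hJC : J ≤ Subgroup.centralizer ({x} : Set G)) (hJcomm : IsMulCommutative J)
    (hJexp : ∀ j ∈ J, j ^ 3 = 1) (hJcard : Nat.card J = 27)
    (hJsig : ∀ K : Subgroup G, (Nat.card K).Coprime 3 → (∀ j ∈ J, K.map (MulAut.conj j).toMonoidHom = K) → K = ⊥) :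
    J.Normal ∨ Nonempty (G ≃* Equiv.Perm (Fin 9)) := by
  obtain ⟨θ, sp, B⟩ := exists_base x hx eC J hJC hJcomm hJcard hJsig
  obtain ⟨ci, cd, φ, D⟩ := B.exists_frame
  cases ci <;> cases cd
  · exact Or.inl (case_one D)
  · exact Or.inl (case_four D)
  · exact Or.inl (case_two D)
  · rcases D.mon_dichotomy with h | ⟨K, S6⟩
    · exact Or.inl (case_mon_one D h fun g hg => D.cent_rho_good h hg)
    · obtain ⟨f, F⟩ := D.exists_sixMap S6
      exact Or.inr (D.case_mon_two S6 F)

end Cfsg.Agent.S3343
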