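import Cfsg.Statements.S3349

set_option autoImplicit false
open Cfsg
open scoped commutatorElement

namespace Cfsg.Agent.S3349

/-- Let Q be a finite extraspecial p-group and α an automorphism of Q fixing every element of some maximal abelian subgroup of Q. Then the order of α is a power of p. -/
theorem result {Q : Type*} [Group Q] [Finite Q]
    (p : ℕ) [Fact p.Prime] (hQ : Cfsg.IsExtraspecial p Q) (α : MulAut Q)
    (A : Subgroup Q) (hA : IsMulCommutative A) (hmax : ∀ B : Subgroup Q, A ≤ B → IsMulCommutative B → B = A)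
    (hfix : ∀ a ∈ A, α a = a) :
    ∃ k : ℕ, orderOf α = p ^ k := by
  obtain ⟨⟨hp, -, hcomm⟩, -⟩ := hQ
  have hext : ∀ y : Q, (∀ a ∈ A, y * a = a * y) → y ∈ A := by
    intro y hy
    haveI : IsMulCommutative ↥(Subgroup.closure (insert y (A : Set Q))) :=
      Subgroup.isMulCommutative_closure (by
        rintro u (rfl | hu) v (rfl | hv)
        · rfl
        · exact hy v hv
        · exact (hy u hu).symm
        · exact congrArg Subtype.val (mul_comm' (⟨u, hu⟩ : A) ⟨v, hv⟩))
    have h := hmax (Subgroup.closure (insert y (A : Set Q)))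
      (fun a ha => Subgroup.subset_closure (Set.mem_insert_of_mem y ha)) inferInstance
    rw [← h]
    exact Subgroup.subset_closure (Set.mem_insert _ _)
  have hcent : ∀ z ∈ Subgroup.center Q, z ∈ A := fun z hz =>
    hext z fun a _ => (Subgroup.mem_center_iff.1 hz a).symm
  have hnorm : ∀ x : Q, ∀ a ∈ A, x * a * x⁻¹ ∈ A := by
    intro x a ha
    have hc : ⁅x, a⁆ ∈ Subgroup.center Q := by
      rw [← hcomm, commutator_def]
      exact Subgroup.commutator_mem_commutator (Subgroup.mem_top x) (Subgroup.mem_top a)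
    rw [show x * a * x⁻¹ = ⁅x, a⁆ * a by rw [commutatorElement_def]; group]
    exact A.mul_mem (hcent _ hc) ha
  have hdiff : ∀ x : Q, x⁻¹ * α x ∈ A := by
    intro x
    refine hext _ fun a ha => ?_
    have h := hfix _ (hnorm x a ha)
    rw [map_mul, map_mul, map_inv, hfix a ha] at h
    calc x⁻¹ * α x * a = x⁻¹ * (α x * a * (α x)⁻¹) * α x := by group
      _ = x⁻¹ * (x * a * x⁻¹) * α x := by rw [h]
      _ = a * (x⁻¹ * α x) := by group
  have hpow : ∀ (n : ℕ) (x : Q), (α ^ n) x = x * (x⁻¹ * α x) ^ n := by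
    intro n
    induction n with
    | zero => intro x; simp
    | succ n ih =>
      intro x
      rw [pow_succ', MulAut.mul_apply, ih, map_mul, map_pow, hfix _ (hdiff x)]
      rw [pow_succ' (x⁻¹ * α x), ← mul_assoc, mul_inv_cancel_left]
  obtain ⟨j, hj⟩ := (IsPGroup.iff_card).1 (hp.to_subgroup A)
  have h1 : α ^ p ^ j = 1 := by
    ext x
    rw [hpow, ← hj]
    have h : (⟨_, hdiff x⟩ : A) ^ Nat.card A = 1 := pow_card_eq_one'
    have h' : (x⁻¹ * α x) ^ Nat.card A = 1 := congrArg Subtype.val h
    rw [h', mul_one]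
    rfl
  obtain ⟨k, -, hk⟩ := (Nat.dvd_prime_pow Fact.out).1 (orderOf_dvd_of_pow_eq_one h1)
  exact ⟨k, hk⟩

end Cfsg.Agent.S3349
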