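import Cfsg.Statements.S3359
import Cfsg.Agent.GroupStructure3.FrobNonsolvable

set_option autoImplicit false
open Cfsg Cfsg.Agent.GroupStructure3

namespace Cfsg.Agent.S3359

/-- Structure of non-solvable Frobenius complements. Let G be a finite non-solvable group that occurs as a Frobenius complement. Then G has a normal subgroup G₀ of index 1 or 2 which is the direct product of a subgroup isomorphic to SL(2,5) and a subgroup M of order prime to 30 all of whose Sylow subgroups are cyclic. -/
theorem result {G : Type*} [Group G] [Finite G] (hns : ¬ Group.IsSolvable G)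
    (hFC : ∃ (L : Type) (_ : Group L) (_ : Finite L) (H : Subgroup L), Cfsg.IsFrobeniusComplement H ∧ Nonempty (G ≃* H)) :
    ∃ G₀ : Subgroup G, G₀.Normal ∧ (G₀.index = 1 ∨ G₀.index = 2) ∧
      ∃ S M : Subgroup G, S ⊔ M = G₀ ∧ S ⊓ M = ⊥ ∧ (∀ s ∈ S, ∀ x ∈ M, s * x = x * s) ∧
        Nonempty (S ≃* Matrix.SpecialLinearGroup (Fin 2) (ZMod 5)) ∧
        (∀ (p : ℕ) [Fact p.Prime] (P : Sylow p M), IsCyclic P) ∧ (Nat.card M).Coprime 30 := by
  obtain ⟨L, M, f, he, hf, hmap, hZ, hM, hker, hinf, hcomm, hco⟩ :=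
    FrobStruct.nonsolvable_main (FrobStruct.props_of_complement hFC) hns
  refine ⟨(alternatingGroup (Fin 5)).comap f, inferInstance, ?_, L, M, ?_, hinf, hcomm, he,
    FrobStruct.sylow_cyclic_of_isZGroup ?_, hco⟩
  · rw [Subgroup.index_comap]
    refine (Nat.dvd_prime Nat.prime_two).mp ?_
    rw [← alternatingGroup.index_eq_two (α := Fin 5)]
    exact Subgroup.relIndex_dvd_index_of_normal _ _
  · refine le_antisymm (sup_le ?_ (hM.trans (Subgroup.ker_le_comap f _))) ?_
    · rw [← Subgroup.map_le_iff_le_comap, hmap]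
    · rw [← hmap, Subgroup.comap_map_eq]
      exact sup_le le_sup_left hker
  · haveI := hZ
    exact IsZGroup.of_injective (f := Subgroup.inclusion hM) (Subgroup.inclusion_injective hM)

end Cfsg.Agent.S3359
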