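import Cfsg.Statements.S3361
import Mathlib
import Cfsg.Agent.Lib.Perm.NearFieldSolvable
import Cfsg.Agent.S0688

set_option autoImplicit false
open Cfsg

namespace Cfsg.Agent.S3361

/-- Let q be a prime and V a non-trivial finite vector space over the field with q elements, and let G be a finite solvable group acting faithfully and linearly on V and regularly on the non-zero vectors (transitively, with only the identity fixing a non-zero vector). Then either V can be identified with the additive group of a finite field F so that every element of G acts as x ↦ a·σ(x) (a ∈ F, σ a field automorphism), or V has 5^2, 7^2, 11^2 or 23^2 elements. Moreover, if q ≠ 2 then G has a normal subgroup of index 2, except that when V has 25 elements G may be isomorphic to SL(2,3) and when V has 121 elements G may be isomorphic to SL(2,3) × C₅. -/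
theorem result
    (q : ℕ) [Fact q.Prime] {V : Type*} [AddCommGroup V] [Module (ZMod q) V] [Finite V] [Nontrivial V]
    {G : Type*} [Group G] [Finite G] (hsol : Group.IsSolvable G)
    (ρ : G →* (V ≃ₗ[ZMod q] V)) (hρ : Function.Injective ρ)
    (htrans : ∀ v w : V, v ≠ 0 → w ≠ 0 → ∃ g : G, ρ g v = w)
    (hreg : ∀ v : V, v ≠ 0 → ∀ g : G, ρ g v = v → g = 1) :
    ((∃ (F : Type) (_ : Field F) (_ : Fintype F) (e : V ≃+ F),
        ∀ g : G, ∃ (a : F) (σ : F ≃+* F), ∀ v : V, e (ρ g v) = a * σ (e v)) ∨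
      Nat.card V ∈ ({25, 49, 121, 529} : Set ℕ)) ∧
    (q ≠ 2 → (∃ N : Subgroup G, N.Normal ∧ N.index = 2) ∨
      (Nat.card V = 25 ∧ Nonempty (G ≃* Matrix.SpecialLinearGroup (Fin 2) (ZMod 3))) ∨
      (Nat.card V = 121 ∧ Nonempty (G ≃* Matrix.SpecialLinearGroup (Fin 2) (ZMod 3) × Multiplicative (ZMod 5)))) := by
  set H := ρ.range
  let E : G ≃* H := MonoidHom.ofInjective hρ
  have hR : Perm.NearField.Reg H := by
    intro v w hv hw
    obtain ⟨g, hg⟩ := htrans v w hv hw
    refine ⟨E g, hg, fun h hh => ?_⟩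
    obtain ⟨k, rfl⟩ := E.surjective h
    have h1 : ρ (g⁻¹ * k) v = v := by
      have hk : ρ k v = w := hh
      rw [map_mul, LinearEquiv.mul_apply, hk, ← hg, ← LinearEquiv.mul_apply, ← map_mul,
        inv_mul_cancel, map_one]
      rfl
    rw [inv_mul_eq_one.1 (hreg v hv _ h1)]
  haveI := hsol
  have hHs : Group.IsSolvable H := Group.isSolvable_of_surjective (f := E.toMonoidHom) E.surjective
  refine ⟨?_, fun hq => ?_⟩
  · by_cases hI : ∀ A : Subgroup H, A.Normal → IsCyclic A → ∃ W : Submodule (ZMod q) V,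
        W ≠ ⊥ ∧ W ≠ ⊤ ∧ ∀ a ∈ A, ∀ v ∈ W, ((a : H) : V ≃ₗ[ZMod q] V) v ∈ W
    · exact Or.inr (S0688.result H hR hI hHs)
    · push Not at hI
      obtain ⟨A, hAn, hAcy, hA⟩ := hI
      haveI := hAcy
      have hirr : Perm.NearField.Irr A (⊤ : Submodule (ZMod q) V) :=
        ⟨Perm.NearField.inv_top, top_ne_bot, fun W _ hW => or_iff_not_imp_left.2 fun h0 => by
          by_contra htop
          obtain ⟨a, ha, v, hv, hav⟩ := hA W h0 htop
          exact hav (hW a ha v hv)⟩
      obtain ⟨F, iF, iF', e, he⟩ :=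
        (Perm.NearField.semilinear_of_irr hR hAn inferInstance hirr).1
      exact Or.inl ⟨F, iF, iF', e, fun g => he (E g)⟩
  · rcases Perm.NearField.index_two_or_exceptional hR hHs hq with ⟨N, hN⟩ | ⟨hV, ⟨i⟩⟩ | ⟨hV, ⟨i⟩⟩
    · refine Or.inl ⟨N.comap E.toMonoidHom, ?_, ?_⟩
      · haveI := Subgroup.normal_of_index_eq_two hN
        infer_instance
      · rw [Subgroup.index_comap_of_surjective _ (f := E.toMonoidHom) E.surjective, hN]
    · exact Or.inr (Or.inl ⟨hV, ⟨E.trans i⟩⟩)
    · exact Or.inr (Or.inr ⟨hV, ⟨E.trans i⟩⟩)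

end Cfsg.Agent.S3361
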