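import Cfsg.Statements.S3362
import Cfsg.Agent.Lib.Golay.TernaryAut

set_option autoImplicit false
open Cfsg

namespace Cfsg.Agent.S3362

open Cfsg.Agent.Golay.Ternary

/-- The generators as tables. -/
def gens : List (List (Fin 12)) := [[0, 1, 2, 4, 5, 3, 7, 8, 6, 10, 11, 9], [0, 1, 2, 6, 7, 8, 9, 10, 11, 3, 4, 5], [0, 1, 2, 3, 6, 9, 5, 8, 11, 4, 7, 10], [0, 1, 2, 3, 7, 11, 10, 5, 6, 8, 9, 4], [0, 1, 2, 3, 10, 8, 11, 6, 4, 7, 5, 9], [3, 1, 2, 0, 4, 5, 7, 6, 10, 11, 8, 9], [1, 0, 2, 3, 4, 5, 9, 10, 11, 6, 7, 8], [0, 2, 1, 3, 4, 5, 11, 9, 10, 7, 8, 6]]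

/-- A generator as a function. -/
def genFun (k : ℕ) (i : Fin 12) : Fin 12 := (gens.getD k []).getD i.val i

/-- The identification of the points. -/
def φ : Fin 12 ≃ ArrayPt where
  toFun i := pos (([0, 1, 2, 3, 4, 5, 10, 11, 9, 8, 6, 7] : List (Fin 12)).getD i.val 0)
  invFun p := ([0, 1, 2, 3, 4, 5, 10, 11, 9, 8, 6, 7] : List (Fin 12)).getD (idx p).val 0
  left_inv := by decide +kernel
  right_inv := by decide +kernel

/-- The monomial maps corresponding to the generators. -/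
def maps : List (ℕ × ℕ) := [(0x9ba687354210, 0), (0x6873549ba210, 0), (0x95746b8a3210, 3), (0x56a9487b3210, 5), (0xa74b85963210, 6), (0xab6789540213, 630), (0x687a9b543201, 0), (0x876ba9543120, 0)]

theorem maps_ok : maps.all (mapOK 0) = true := by decide +kernel

theorem maps_spec : ∀ k : Fin 8, ∀ i : Fin 12, φ (genFun k i) = tabFun (maps.getD k (0, 0)).1 (φ i) := by
  decide +kernel

/-- The base. -/
def base : List (Fin 12) := [2, 1, 0, 3, 4]

/-- Words carrying a base point to each point, fixing the earlier base points. -/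
def words : List (List (List ℕ)) := [[[6, 7], [7], [], [5, 6, 7], [0, 5, 6, 7], [0, 0, 5, 6, 7], [1, 5, 6, 7], [1, 0, 5, 6, 7], [1, 0, 0, 5, 6, 7], [1, 1, 5, 6, 7], [4, 0, 5, 6, 7], [4, 1, 5, 6, 7]], [[6], [], [], [5, 6], [0, 5, 6], [0, 0, 5, 6], [1, 5, 6], [1, 0, 5, 6], [1, 0, 0, 5, 6], [1, 1, 5, 6], [4, 0, 5, 6], [4, 1, 5, 6]], [[], [], [], [5], [0, 5], [0, 0, 5], [1, 5], [1, 0, 5], [1, 0, 0, 5], [1, 1, 5], [4, 0, 5], [4, 1, 5]], [[], [], [], [], [0], [0, 0], [1], [1, 0], [1, 0, 0], [1, 1], [4, 0], [4, 1]], [[], [], [], [], [], [2, 2], [2], [3], [2, 3], [3, 4], [4], [4, 2]]]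

/-- The value of a word on a point. -/
def runWord (w : List ℕ) (i : Fin 12) : Fin 12 := w.foldr genFun i

theorem words_ok : ∀ k : Fin 5, ∀ t : Fin 12, (∀ j : Fin 5, j < k → base.getD j 0 ≠ t) →
    ((∀ j : Fin 5, j < k → runWord ((words.getD k []).getD t []) (base.getD j 0) = base.getD j 0) ∧
      runWord ((words.getD k []).getD t []) (base.getD k 0) = t ∧
      ((words.getD k []).getD t []).all (fun x => decide (x < if k.val = 0 then 8 else 7)) = true) := by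
  decide +kernel

theorem fix_two : ∀ k : Fin 7, genFun k 2 = 2 := by decide +kernel

/-- An explicit construction of the Mathieu groups of degrees 11 and 12. On the points 0, …, 11 let s = (3 4 5)(6 7 8)(9 10 11), t = (3 6 9)(4 7 10)(5 8 11), u = (4 6 5 9)(7 8 11 10), v = (4 7 5 11)(6 10 9 8), w = (4 10 5 8)(6 11 9 7), x₁ = (0 3)(6 7)(8 10)(9 11), x₂ = (0 1)(6 9)(7 10)(8 11), x₃ = (1 2)(6 11)(7 9)(8 10) (each written as a product of transpositions). Then the group M₁₂ generated by all eight permutations is sharply 5-transitive on the 12 points and has order 95040, and the group M₁₁ generated by the first seven has order 7920 and is the stabilizer of the point 2 in M₁₂. -/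
theorem result
    (s t u v w x₁ x₂ x₃ : Equiv.Perm (Fin 12))
    (hs : s = Equiv.swap (3 : Fin 12) 5 * Equiv.swap (3 : Fin 12) 4 * Equiv.swap (6 : Fin 12) 8 * Equiv.swap (6 : Fin 12) 7 * Equiv.swap (9 : Fin 12) 11 * Equiv.swap (9 : Fin 12) 10) (ht : t = Equiv.swap (3 : Fin 12) 9 * Equiv.swap (3 : Fin 12) 6 * Equiv.swap (4 : Fin 12) 10 * Equiv.swap (4 : Fin 12) 7 * Equiv.swap (5 : Fin 12) 11 * Equiv.swap (5 : Fin 12) 8)
    (hu : u = Equiv.swap (4 : Fin 12) 9 * Equiv.swap (4 : Fin 12) 5 * Equiv.swap (4 : Fin 12) 6 * Equiv.swap (7 : Fin 12) 10 * Equiv.swap (7 : Fin 12) 11 * Equiv.swap (7 : Fin 12) 8) (hv : v = Equiv.swap (4 : Fin 12) 11 * Equiv.swap (4 : Fin 12) 5 * Equiv.swap (4 : Fin 12) 7 * Equiv.swap (6 : Fin 12) 8 * Equiv.swap (6 : Fin 12) 9 * Equiv.swap (6 : Fin 12) 10) (hw : w = Equiv.swap (4 : Fin 12) 8 * Equiv.swap (4 : Fin 12) 5 * Equiv.swap (4 : Fin 12) 10 * Equiv.swap (6 : Fin 12) 7 * Equiv.swap (6 : Fin 12)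 9 * Equiv.swap (6 : Fin 12) 11)
    (hx₁ : x₁ = Equiv.swap (0 : Fin 12) 3 * Equiv.swap (6 : Fin 12) 7 * Equiv.swap (8 : Fin 12) 10 * Equiv.swap (9 : Fin 12) 11) (hx₂ : x₂ = Equiv.swap (0 : Fin 12) 1 * Equiv.swap (6 : Fin 12) 9 * Equiv.swap (7 : Fin 12) 10 * Equiv.swap (8 : Fin 12) 11)
    (hx₃ : x₃ = Equiv.swap (1 : Fin 12) 2 * Equiv.swap (6 : Fin 12) 11 * Equiv.swap (7 : Fin 12) 9 * Equiv.swap (8 : Fin 12) 10)
    (M₁₂ M₁₁ : Subgroup (Equiv.Perm (Fin 12))) (hM₁₂ : M₁₂ = Subgroup.closure {s, t, u, v, w, x₁, x₂, x₃})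
    (hM₁₁ : M₁₁ = Subgroup.closure {s, t, u, v, w, x₁, x₂}) :
    MulAction.IsMultiplyPretransitive M₁₂ (Fin 12) 5 ∧ (∀ y : Fin 5 ↪ Fin 12, MulAction.stabilizer M₁₂ y = ⊥) ∧
    Nat.card M₁₂ = 95040 ∧ Nat.card M₁₁ = 7920 ∧
    M₁₁ = M₁₂ ⊓ MulAction.stabilizer (Equiv.Perm (Fin 12)) (2 : Fin 12) := by
  classical
  let P : Fin 8 → Equiv.Perm (Fin 12) := ![s, t, u, v, w, x₁, x₂, x₃]
  have hP : ∀ (k : Fin 8) (i : Fin 12), P k i = genFun k i := by
    subst hs ht hu hv hw hx₁ hx₂ hx₃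
    decide +kernel
  have hgen12 : ∀ k : Fin 8, P k ∈ M₁₂ := by
    intro k
    rw [hM₁₂]
    refine Subgroup.subset_closure ?_
    fin_cases k <;> simp [P]
  have hgen11 : ∀ k : Fin 8, k.val < 7 → P k ∈ M₁₁ := by
    intro k hk
    rw [hM₁₁]
    refine Subgroup.subset_closure ?_
    fin_cases k <;> first | (simp [P]; done) | (simp at hk)
  have hword : ∀ l : List ℕ, (∀ x ∈ l, x < 8) → ∃ g : Equiv.Perm (Fin 12), (∀ i, g i = runWord l i) ∧
      g ∈ M₁₂ ∧ ((∀ x ∈ l, x < 7) → g ∈ M₁₁) := by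
    intro l
    induction l with
    | nil => exact fun _ => ⟨1, fun i => rfl, M₁₂.one_mem, fun _ => M₁₁.one_mem⟩
    | cons x l ih =>
      intro hl
      obtain ⟨g, hg, hg12, hg11⟩ := ih fun y hy => hl y (List.mem_cons_of_mem _ hy)
      refine ⟨P ⟨x, hl x List.mem_cons_self⟩ * g, fun i => ?_, M₁₂.mul_mem (hgen12 _) hg12, fun h7 => ?_⟩
      · rw [Equiv.Perm.mul_apply, hP, hg]; rfl
      · exact M₁₁.mul_mem (hgen11 _ (h7 x List.mem_cons_self)) (hg11 fun y hy => h7 y (List.mem_cons_of_mem _ hy))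
  have hreach : ∀ y : Fin 5 ↪ Fin 12, ∀ n : ℕ, n ≤ 5 → ∃ g ∈ M₁₂, (y 0 = 2 → g ∈ M₁₁) ∧
      ∀ j : Fin 5, j.val < n → g (base.getD j 0) = y j := by
    intro y n
    induction n with
    | zero => exact fun _ => ⟨1, M₁₂.one_mem, fun _ => M₁₁.one_mem, fun j hj => absurd hj (Nat.not_lt_zero _)⟩
    | succ n ih =>
      intro hn
      obtain ⟨g, hg, hg1, hgj⟩ := ih (by omega)
      set k : Fin 5 := ⟨n, by omega⟩
      obtain ⟨hfix, hto, hlt⟩ := words_ok k (g⁻¹ (y k)) (fun j hj e => by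
        have h' := congrArg g e
        rw [hgj j hj, show g (g⁻¹ (y k)) = y k from g.apply_symm_apply _] at h'
        exact absurd (y.injective h') (ne_of_lt hj))
      simp only [List.all_eq_true, decide_eq_true_eq] at hlt
      obtain ⟨h, hh, hh12, hh11⟩ := hword _ (fun x hx => lt_of_lt_of_le (hlt x hx) (by split <;> omega))
      refine ⟨g * h, M₁₂.mul_mem hg hh12, fun h2 => ?_, fun j hj => ?_⟩
      · refine M₁₁.mul_mem (hg1 h2) ?_
        rcases Nat.eq_zero_or_pos n with h0 | h0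
        · have hk : k = 0 := Fin.ext h0
          have hg2 : g⁻¹ (y k) = 2 := by
            have hgmem := hg1 h2
            have : g ∈ MulAction.stabilizer (Equiv.Perm (Fin 12)) (2 : Fin 12) := by
              refine (Subgroup.closure_le _).2 ?_ (hM₁₁ ▸ hgmem)
              intro z hz
              obtain ⟨k', hk', rfl⟩ : ∃ k' : Fin 8, k'.val < 7 ∧ P k' = z := by
                simp only [Set.mem_insert_iff, Set.mem_singleton_iff] at hz
                rcases hz with rfl | rfl | rfl | rfl | rfl | rfl | rfl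
                exacts [⟨0, by decide, rfl⟩, ⟨1, by decide, rfl⟩, ⟨2, by decide, rfl⟩, ⟨3, by decide, rfl⟩,
                  ⟨4, by decide, rfl⟩, ⟨5, by decide, rfl⟩, ⟨6, by decide, rfl⟩]
              show P k' 2 = 2
              rw [hP]; exact fix_two ⟨k', hk'⟩
            rw [hk, h2]
            exact Equiv.Perm.inv_eq_iff_eq.2 (this : g 2 = 2).symm
          refine hh11 fun x hx => ?_
          rw [hg2, hk] at hx
          exact absurd hx (show ¬ x ∈ ([] : List ℕ) from List.not_mem_nil)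
        · refine hh11 fun x hx => ?_
          have := hlt x hx
          rwa [if_neg (show ¬ k.val = 0 by simp [k]; omega)] at this
      · rcases Nat.lt_or_ge j.val n with hj' | hj'
        · rw [Equiv.Perm.mul_apply, hh, hfix j hj', hgj j hj']
        · obtain rfl : j = k := Fin.ext (by simp [k]; omega)
          rw [Equiv.Perm.mul_apply, hh, hto]
          exact g.apply_symm_apply _
  let b : Fin 5 ↪ Fin 12 := ⟨fun j => base.getD j 0, by decide⟩
  have hto : ∀ y : Fin 5 ↪ Fin 12, ∃ g : M₁₂, g • b = y ∧ (y 0 = 2 → (g : Equiv.Perm (Fin 12)) ∈ M₁₁) := by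
    intro y
    obtain ⟨g, hg, hg1, hgj⟩ := hreach y 5 le_rfl
    exact ⟨⟨g, hg⟩, Function.Embedding.ext fun j => hgj j j.2, hg1⟩
  have hpre : MulAction.IsMultiplyPretransitive M₁₂ (Fin 12) 5 :=
    (MulAction.isMultiplyPretransitive_iff).2 fun x y => by
      obtain ⟨g, hg, -⟩ := hto x
      obtain ⟨g', hg', -⟩ := hto y
      exact ⟨g' * g⁻¹, (mul_smul g' g⁻¹ x).trans
        ((congrArg (g' • ·) (inv_smul_eq_iff.2 hg.symm)).trans hg')⟩
  haveI : @MulAction.IsPretransitive M₁₂ (Fin 5 ↪ Fin 12)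
      (inferInstance : MulAction M₁₂ (Fin 5 ↪ Fin 12)).toSMul := hpre
  have hemb : Nat.card (Fin 5 ↪ Fin 12) = 95040 := by
    rw [Nat.card_eq_fintype_card, Fintype.card_embedding_eq, Fintype.card_fin, Fintype.card_fin]
    decide +kernel
  have hle : Nat.card M₁₂ ≤ 95040 := by
    rw [← card_permGroup]
    have hmap : M₁₂.map φ.permCongrHom.toMonoidHom ≤ permGroup := by
      rw [hM₁₂, MonoidHom.map_closure, Subgroup.closure_le]
      rintro - ⟨z, hz, rfl⟩
      obtain ⟨k, rfl⟩ : ∃ k : Fin 8, P k = z := by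
        simp only [Set.mem_insert_iff, Set.mem_singleton_iff] at hz
        rcases hz with rfl | rfl | rfl | rfl | rfl | rfl | rfl | rfl
        exacts [⟨0, rfl⟩, ⟨1, rfl⟩, ⟨2, rfl⟩, ⟨3, rfl⟩, ⟨4, rfl⟩, ⟨5, rfl⟩, ⟨6, rfl⟩, ⟨7, rfl⟩]
      have hok : mapOK 0 (maps.getD k (0, 0)) = true :=
        List.all_eq_true.1 maps_ok _ (by rw [List.getD_eq_getElem _ _ (by exact k.2)]; exact List.getElem_mem _)
      obtain ⟨h1, h2, -⟩ := mkPerm_spec hok (by norm_num)
      have : φ.permCongrHom.toMonoidHom (P k) = mkPerm (maps.getD k (0, 0)).1 := by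
        refine Equiv.ext fun p => ?_
        obtain ⟨i, rfl⟩ := φ.surjective p
        rw [h1, ← maps_spec]
        show φ (P k (φ.symm (φ i))) = _
        rw [φ.symm_apply_apply, hP]
      exact this ▸ h2
    rw [Nat.card_congr (M₁₂.equivMapOfInjective φ.permCongrHom.toMonoidHom φ.permCongrHom.injective).toEquiv]
    exact Nat.card_le_card_of_injective _ (Subgroup.inclusion_injective hmap)
  have horb : ∀ y : Fin 5 ↪ Fin 12, Nat.card M₁₂ = 95040 * Nat.card (MulAction.stabilizer M₁₂ y) := by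
    intro y
    rw [← hemb, ← MulAction.index_stabilizer_of_transitive M₁₂ y, Subgroup.index_mul_card]
  have hstab : ∀ y : Fin 5 ↪ Fin 12, MulAction.stabilizer M₁₂ y = ⊥ := by
    intro y
    refine Subgroup.eq_bot_of_card_eq _ ?_
    have := horb y
    have hpos : 0 < Nat.card (MulAction.stabilizer M₁₂ y) := Nat.card_pos
    omega
  have hc12 : Nat.card M₁₂ = 95040 := by rw [horb b, hstab b, Subgroup.card_bot]
  -- the smaller group
  set S₂ := M₁₂ ⊓ MulAction.stabilizer (Equiv.Perm (Fin 12)) (2 : Fin 12) with hS₂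
  have h11le : M₁₁ ≤ S₂ := by
    rw [hM₁₁, Subgroup.closure_le]
    intro z hz
    obtain ⟨k', hk', rfl⟩ : ∃ k' : Fin 8, k'.val < 7 ∧ P k' = z := by
      simp only [Set.mem_insert_iff, Set.mem_singleton_iff] at hz
      rcases hz with rfl | rfl | rfl | rfl | rfl | rfl | rfl
      exacts [⟨0, by decide, rfl⟩, ⟨1, by decide, rfl⟩, ⟨2, by decide, rfl⟩, ⟨3, by decide, rfl⟩,
        ⟨4, by decide, rfl⟩, ⟨5, by decide, rfl⟩, ⟨6, by decide, rfl⟩]
    exact ⟨hgen12 k', show P k' 2 = 2 by rw [hP]; exact fix_two ⟨k', hk'⟩⟩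
  haveI : MulAction.IsPretransitive M₁₂ (Fin 12) := ⟨fun a c => by
    have key : ∀ a : Fin 12, ∃ g : M₁₂, g • (2 : Fin 12) = a := fun a => by
      have hdec : ∀ a : Fin 12, ∃ e : Fin 5 → Fin 12, Function.Injective e ∧ e 0 = a := fun a =>
        ⟨fun j => a + Fin.castLE (by norm_num) j,
          fun i j e => Fin.castLE_injective _ (add_left_cancel e), by simp⟩
      obtain ⟨e, he, he0⟩ := hdec a
      obtain ⟨g, hg, -⟩ := hto ⟨e, he⟩
      exact ⟨g, he0 ▸ DFunLike.congr_fun hg 0⟩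
    obtain ⟨g, hg⟩ := key a
    obtain ⟨g', hg'⟩ := key c
    exact ⟨g' * g⁻¹, by rw [← hg, mul_smul, inv_smul_smul, hg']⟩⟩
  have hS₂card : Nat.card S₂ = 7920 := by
    have h := Subgroup.index_mul_card (MulAction.stabilizer M₁₂ (2 : Fin 12))
    rw [MulAction.index_stabilizer_of_transitive, hc12, Nat.card_fin] at h
    have : Nat.card S₂ = Nat.card (MulAction.stabilizer M₁₂ (2 : Fin 12)) := by
      refine Nat.card_congr ⟨fun g => ⟨⟨g.1, g.2.1⟩, g.2.2⟩, fun g => ⟨g.1.1, g.1.2, g.2⟩, fun g => rfl, fun g => rfl⟩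
    omega
  have hwd : ∀ a : Fin 12, ∃ g : Equiv.Perm (Fin 12), g 2 = a ∧ g ∈ M₁₂ := by
    intro a
    obtain ⟨g, hg⟩ := MulAction.exists_smul_eq M₁₂ (2 : Fin 12) a
    exact ⟨g, hg, g.2⟩
  choose tr htr htr12 using hwd
  have h11 : 95040 ≤ 12 * Nat.card M₁₁ := by
    rw [← hemb]
    have hsurj : Function.Surjective (fun p : Fin 12 × M₁₁ =>
        (⟨tr p.1 * p.2, M₁₂.mul_mem (htr12 _) (h11le p.2.2).1⟩ : M₁₂) • b) := by
      intro y
      set y' : Fin 5 ↪ Fin 12 := ((⟨tr (y 0), htr12 _⟩ : M₁₂)⁻¹) • y with hy'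
      have hy0 : y' 0 = 2 := by
        show (tr (y 0))⁻¹ (y 0) = 2
        exact Equiv.Perm.inv_eq_iff_eq.2 (htr _).symm
      obtain ⟨g, hg, hg1⟩ := hto y'
      refine ⟨(y 0, ⟨g, hg1 hy0⟩), ?_⟩
      refine (mul_smul (⟨tr (y 0), htr12 _⟩ : M₁₂) g b).trans ?_
      exact (congrArg (_ • ·) hg).trans (smul_inv_smul _ y)
    have := Nat.card_le_card_of_surjective _ hsurj
    rwa [Nat.card_prod, Nat.card_fin] at this
  have h11' : M₁₁ = S₂ := Subgroup.eq_of_le_of_card_ge h11le (by omega)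
  exact ⟨hpre, hstab, hc12, h11' ▸ hS₂card, h11'⟩

end Cfsg.Agent.S3362
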