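import Cfsg.Statements.S3365
import Cfsg.Agent.Lib.SmallSimple.FixedPoints
import Cfsg.Agent.Lib.FixityFour.SmallF
import Cfsg.Agent.Lib.FixityFour.FourMain
import Cfsg.Agent.Lib.FixityFour.ThreeCase
-- import your own Cfsg.Agent.* helpers here

set_option autoImplicit false
open Cfsg

namespace Cfsg.Agent.S3365

/-- Finite simple groups acting with fixity 4. Let G be a finite non-abelian simple group acting faithfully and transitively on a finite set so that every non-identity element fixes at most 4 points and some non-identity element fixes exactly 4 (fixity 4). Let P be a Sylow 3-subgroup, S a Sylow 2-subgroup, f the largest number of fixed points of an involution of G, and a a point. Then one of the following holds: (1) f ≥ 1 and G has a strongly embedded subgroup; (2) 1 ≤ f ≤ 3 and S is dihedral or semidihedral; (3) f = 4 and G has sectional 2-rank at most 4; (4) the point stabilizer G_a has odd order divisible by 3 and either G has a strongly 3-embedded subgroup (a proper subgroup H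 of order divisible by 3 such that H ∩ gHg⁻¹ has order prime to 3 for every element g outside H), or |P| = 3 and a Sylow 2-subgroup of N_G(P) has order at most 4, or P is elementary abelian of order 9, or P is extraspecial of order 27 and exponent 3, or P is isomorphic to a Sylow 3-subgroup of Sym(9) (the wreath product C₃ ≀ C₃); (5) G_a has order prime to 6. -/
theorem result {G Ω : Type*} [Group G] [Finite G] [IsSimpleGroup G] (hna : ¬ IsMulCommutative G)
    [MulAction G Ω] [FaithfulSMul G Ω] [Finite Ω] (htrans : MulAction.IsPretransitive G Ω)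
    (hfix : ∀ g : G, g ≠ 1 → Nat.card (MulAction.fixedBy Ω g) ≤ 4)
    (hfix4 : ∃ g : G, g ≠ 1 ∧ Nat.card (MulAction.fixedBy Ω g) = 4)
    (P : Sylow 3 G) (S : Sylow 2 G) (f : ℕ)
    (hf : ∀ g : G, orderOf g = 2 → Nat.card (MulAction.fixedBy Ω g) ≤ f)
    (hf' : ∃ g : G, orderOf g = 2 ∧ Nat.card (MulAction.fixedBy Ω g) = f) (a : Ω) :
    (1 ≤ f ∧ ∃ H : Subgroup G, Cfsg.IsStronglyEmbedded H) ∨
    (1 ≤ f ∧ f ≤ 3 ∧ ((∃ n : ℕ, Nonempty ((S : Subgroup G) ≃* DihedralGroup n)) ∨ Cfsg.IsQuasiDihedral (S : Subgroup G))) ∨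
    (f = 4 ∧ Cfsg.SectionalPRankLE 2 4 G) ∨
    (Odd (Nat.card (MulAction.stabilizer G a)) ∧ 3 ∣ Nat.card (MulAction.stabilizer G a) ∧
      ((∃ H : Subgroup G, H ≠ ⊤ ∧ 3 ∣ Nat.card H ∧ ∀ g : G, g ∉ H → ¬ 3 ∣ Nat.card ↥(H ⊓ H.map (MulAut.conj g).toMonoidHom)) ∨
       (Nat.card P = 3 ∧ ∀ T : Sylow 2 (Subgroup.normalizer ((P : Subgroup G) : Set G)), Nat.card T ≤ 4) ∨
       (Nat.card P = 9 ∧ ∀ x ∈ (P : Subgroup G), x ^ 3 = 1) ∨
       (Nat.card P = 27 ∧ Cfsg.IsExtraspecial 3 (P : Subgroup G) ∧ ∀ x ∈ (P : Subgroup G), x ^ 3 = 1) ∨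
       (∃ T : Sylow 3 (Equiv.Perm (Fin 9)), Nonempty ((P : Subgroup G) ≃* (T : Subgroup (Equiv.Perm (Fin 9))))))) ∨
    (Nat.card (MulAction.stabilizer G a)).Coprime 6 := by
  haveI := htrans
  haveI : Fact (Nat.Prime 2) := ⟨Nat.prime_two⟩
  haveI : Fact (Nat.Prime 3) := ⟨Nat.prime_three⟩
  have hfix' : ∀ g : G, g ≠ 1 → (MulAction.fixedBy Ω g).ncard ≤ 4 := fun g hg => by
    rw [← Nat.card_coe_set_eq]; exact hfix g hg
  by_cases hst : Odd (Nat.card (MulAction.stabilizer G a))
  · right; right; right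
    by_cases h3 : 3 ∣ Nat.card (MulAction.stabilizer G a)
    · left
      refine ⟨hst, h3, ?_⟩
      have hodd : ∀ (g : G) (b : Ω), g • b = b → Odd (orderOf g) := by
        intro g b hb
        obtain ⟨h, rfl⟩ := MulAction.exists_smul_eq G a b
        have hm : h⁻¹ * g * h ∈ MulAction.stabilizer G a := by
          rw [MulAction.mem_stabilizer_iff, mul_smul, mul_smul, hb, inv_smul_smul]
        have hd := orderOf_dvd_natCard (⟨_, hm⟩ : MulAction.stabilizer G a)
        rw [Subgroup.orderOf_mk, show h⁻¹ * g * h = MulAut.conj h⁻¹ g by simp, MulEquiv.orderOf_eq] at hd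
        exact Odd.of_dvd_nat hst hd
      have hx : ∃ x : G, orderOf x = 3 ∧ (MulAction.fixedBy Ω x).Nonempty := by
        obtain ⟨⟨x, hx⟩, hxo⟩ := exists_prime_orderOf_dvd_card' 3 h3
        rw [Subgroup.orderOf_mk] at hxo
        exact ⟨x, hxo, a, hx⟩
      by_cases hP : Nat.card P = 3
      · exact Or.inr (Or.inl ⟨hP, fun T => FixityFour.Three.three_small hfix' hodd hx P hP T⟩)
      · rcases FixityFour.Three.three_case hna hfix' hodd hx P with h | h
        · exact Or.inl h
        · exact Or.inr (Or.inr (Or.inl h))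
    · right
      have h2 : (Nat.card (MulAction.stabilizer G a)).Coprime 2 := Nat.coprime_two_right.2 hst
      have h3' : (Nat.card (MulAction.stabilizer G a)).Coprime 3 :=
        (Nat.prime_three.coprime_iff_not_dvd.2 h3).symm
      exact h2.mul_right h3'
  · obtain ⟨⟨t, ht⟩, hto⟩ := exists_prime_orderOf_dvd_card' 2
      (even_iff_two_dvd.1 (Nat.not_odd_iff_even.1 hst))
    rw [Subgroup.orderOf_mk] at hto
    have htpos : 0 < (MulAction.fixedBy Ω t).ncard :=
      (Set.ncard_pos (Set.toFinite _)).2 ⟨a, ht⟩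
    have hf1 : 1 ≤ f := by
      have := hf t hto
      rw [Nat.card_coe_set_eq] at this
      omega
    obtain ⟨s, hs, hsf⟩ := hf'
    rw [Nat.card_coe_set_eq] at hsf
    have hmod : ∀ g : G, orderOf g = 2 → ((MulAction.fixedBy Ω g).ncard ≤ 4 ∧
        (MulAction.fixedBy Ω g).ncard % 4 = Nat.card Ω % 4) := by
      intro g hg
      have hg1 : g ≠ 1 := fun e => by rw [e, orderOf_one] at hg; omega
      have hd := SmallSimple.FixedPoints.four_dvd_moved (α := Ω) hna
        (t := g) (by have := pow_orderOf_eq_one g; rwa [hg, pow_two] at this)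
      have hle : (MulAction.fixedBy Ω g).ncard ≤ Nat.card Ω := Set.ncard_le_card _
      rw [show Nat.card {x : Ω // g • x = x} = (MulAction.fixedBy Ω g).ncard from Nat.card_coe_set_eq _] at hd
      exact ⟨hfix' g hg1, by omega⟩
    have h4 := hmod s hs
    rcases Nat.lt_or_ge f 4 with hlt | hge
    · rcases FixityFour.small_case (Ω := Ω) S hf1 (by omega) ⟨s, hs⟩ (fun g hg => by
        have := hmod g hg
        omega) with h | h
      · exact Or.inl ⟨hf1, h⟩
      · exact Or.inr (Or.inl ⟨hf1, by omega, h⟩)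
    · have hf4 : f = 4 := by omega
      have hc : FixityFour.Ctx G Ω := ⟨hna, hfix', fun g hg => by
        have := hmod g hg
        omega⟩
      rcases hc.four_case ⟨s, hs, Set.nonempty_of_ncard_ne_zero (by omega)⟩ with h | h
      · exact Or.inr (Or.inr (Or.inl ⟨hf4, h⟩))
      · exact Or.inl ⟨hf1, h⟩

end Cfsg.Agent.S3365
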