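import Cfsg.Statements.S3366
import Cfsg.Agent.Recognition.HeisSL23.Main

set_option autoImplicit false
open Cfsg

namespace Cfsg.Agent.S3366

/-- Let X be a finite group with O₃(X) extraspecial of order 27 and exponent 3, X/O₃(X) isomorphic to SL(2,3), O₂(X) = 1, and a Sylow 3-subgroup of X containing an elementary abelian subgroup of order 27. Then X is isomorphic to the centralizer in PSp(4,3) of a 3-central element of order 3 (an element of order 3 in the centre of a Sylow 3-subgroup). -/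
theorem result {X : Type*} [Group X] [Finite X]
    (hR : Cfsg.IsExtraspecial 3 (Cfsg.pCore 3 X)) (hRcard : Nat.card (Cfsg.pCore 3 X) = 27)
    (hRexp : ∀ r ∈ Cfsg.pCore 3 X, r ^ 3 = 1)
    (e : X ⧸ Cfsg.pCore 3 X ≃* Matrix.SpecialLinearGroup (Fin 2) (ZMod 3))
    (hO2 : Cfsg.pCore 2 X = ⊥)
    (hE : ∃ E : Subgroup X, IsMulCommutative E ∧ (∀ a ∈ E, a ^ 3 = 1) ∧ Nat.card E = 27)
    (F : Type*) [Field F] [Fintype F] (hF : Fintype.card F = 3) :
    ∃ (c : Cfsg.PSp 2 F) (S : Sylow 3 (Cfsg.PSp 2 F)), orderOf c = 3 ∧ c ∈ (S : Subgroup (Cfsg.PSp 2 F)) ∧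
      c ∈ Subgroup.centralizer ((S : Subgroup (Cfsg.PSp 2 F)) : Set (Cfsg.PSp 2 F)) ∧
      Nonempty (X ≃* Subgroup.centralizer ({c} : Set (Cfsg.PSp 2 F))) := by
  classical
  haveI : Fact (Nat.Prime 3) := ⟨Nat.prime_three⟩
  set R := Cfsg.pCore 3 X with hRdef
  obtain ⟨⟨-, -, hcomm⟩, hZ⟩ := hR
  have hna : ∃ x y : ↥R, x * y ≠ y * x := by
    by_contra h
    push_neg at h
    have : Subgroup.center ↥R = ⊤ := eq_top_iff.mpr fun a _ => Subgroup.mem_center_iff.mpr fun b => h b a
    rw [this, Subgroup.card_top, hRcard] at hZ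
    norm_num at hZ
  obtain ⟨x, y, hxy⟩ := hna
  have hzc : x * y * x⁻¹ * y⁻¹ ∈ Subgroup.center ↥R :=
    hcomm ▸ Subgroup.commutator_mem_commutator (Subgroup.mem_top x) (Subgroup.mem_top y)
  let H : Recognition.HeisSL23.Heis X :=
    { R := R, x := (x : X), y := (y : X), z := (x : X) * y * (x : X)⁻¹ * (y : X)⁻¹
      normal := inferInstance, card := hRcard, hexp := hRexp, hx := x.2, hy := y.2, hz := rfl
      hz1 := fun h => hxy (Subtype.ext (by
        have := mul_inv_eq_one.mp h
        exact mul_inv_eq_iff_eq_mul.mp this))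
      zcomm := fun r hr => by
        have := Subgroup.mem_center_iff.mp hzc ⟨r, hr⟩
        exact (congrArg Subtype.val this).symm }
  let Q : Recognition.HeisSL23.Quot H :=
    { π := e.toMonoidHom.comp (QuotientGroup.mk' R)
      surj := e.surjective.comp (QuotientGroup.mk'_surjective R)
      ker := fun g => by
        rw [MonoidHom.comp_apply, MulEquiv.coe_toMonoidHom, EmbeddingLike.map_eq_one_iff]
        exact QuotientGroup.eq_one_iff g
      core := fun N hn h2 => le_bot_iff.mp (hO2 ▸ CharP.le_pCore hn h2) }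
  exact Recognition.HeisSL23.main H Q hE F hF

end Cfsg.Agent.S3366
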