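import Cfsg.Statements.S3374
import Mathlib

set_option autoImplicit false
open Cfsg
open scoped MatrixGroups Matrix Pointwise

namespace Cfsg.Agent.S3374

/-- A two by two matrix of natural numbers. -/
abbrev Q := ℕ × ℕ × ℕ × ℕ

def qmul (m : ℕ) (x y : Q) : Q :=
  ((x.1 * y.1 + x.2.1 * y.2.2.1) % m, (x.1 * y.2.1 + x.2.1 * y.2.2.2) % m,
   (x.2.2.1 * y.1 + x.2.2.2 * y.2.2.1) % m, (x.2.2.1 * y.2.1 + x.2.2.2 * y.2.2.2) % m)

def qone : Q := (1, 0, 0, 1)

/-- The two generators modulo five. -/
def gen5 (b : Bool) : Q := if b then (1, 1, 0, 1) else (1, 0, 1, 1)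

/-- Their images modulo eleven. -/
def gen11 (b : Bool) : Q := if b then (0, 1, 10, 3) else (3, 5, 2, 0)

def wordAux (a c d : ℕ) : List Bool :=
  List.replicate ((a + 4) * c ^ 3 % 5) true ++ List.replicate c false ++
    List.replicate ((d + 4) * c ^ 3 % 5) true

/-- Every element of the group as a word in the generators. -/
def word (x : Q) : List Bool :=
  if x.2.2.1 = 0 then wordAux ((x.1 + x.2.1) % 5) x.2.2.2 x.2.2.2 ++ List.replicate 4 false
  else wordAux x.1 x.2.2.1 x.2.2.2

def image (x : Q) : Q := (word x).foldr (fun b y => qmul 11 (gen11 b) y) qone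

def checkAt (x : Q) : Bool :=
  !decide ((x.1 * x.2.2.2 + 4 * (x.2.1 * x.2.2.1)) % 5 = 1) ||
    (decide ((word x).foldr (fun b y => qmul 5 (gen5 b) y) qone = x) &&
     decide (image (qmul 5 x (gen5 true)) = qmul 11 (image x) (gen11 true)) &&
     decide (image (qmul 5 x (gen5 false)) = qmul 11 (image x) (gen11 false)) &&
     (decide (x = qone) ||
      !decide ((((image x).1 + 10) * ((image x).2.2.2 + 10) + 10 * ((image x).2.1 * (image x).2.2.1)) % 11 = 0)))

def allQ : List Q :=
  (List.range 5).flatMap fun a => (List.range 5).flatMap fun b => (List.range 5).flatMap fun c =>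
    (List.range 5).map fun d => (a, b, c, d)

theorem check_all : allQ.all checkAt = true := by decide +kernel

theorem image_one : image qone = qone := by decide +kernel

theorem check_at (a b c d : ℕ) (ha : a < 5) (hb : b < 5) (hc : c < 5) (hd : d < 5) :
    checkAt (a, b, c, d) = true := by
  refine List.all_eq_true.1 check_all _ ?_
  simp only [allQ, List.mem_flatMap, List.mem_map, List.mem_range]
  exact ⟨a, ha, b, hb, c, hc, d, hd, rfl⟩

def toMat (m : ℕ) (x : Q) : Matrix (Fin 2) (Fin 2) (ZMod m) :=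
  !![(x.1 : ZMod m), (x.2.1 : ZMod m); (x.2.2.1 : ZMod m), (x.2.2.2 : ZMod m)]

theorem toMat_mul (m : ℕ) (x y : Q) : toMat m (qmul m x y) = toMat m x * toMat m y := by
  simp only [toMat, qmul, ZMod.natCast_mod, Matrix.mul_fin_two, Nat.cast_add, Nat.cast_mul]

theorem toMat_one (m : ℕ) : toMat m qone = 1 := by simp [toMat, qone, Matrix.one_fin_two]

abbrev SL5 := Matrix.SpecialLinearGroup (Fin 2) (ZMod 5)

def ofSL (g : SL5) : Q := ((g 0 0).val, (g 0 1).val, (g 1 0).val, (g 1 1).val)

theorem toMat_ofSL (g : SL5) : toMat 5 (ofSL g) = g.1 := by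
  ext i j
  fin_cases i <;> fin_cases j <;> simp [toMat, ofSL]

theorem checkAt_ofSL (g : SL5) : checkAt (ofSL g) = true :=
  check_at _ _ _ _ (ZMod.val_lt _) (ZMod.val_lt _) (ZMod.val_lt _) (ZMod.val_lt _)

theorem det_ofSL (g : SL5) :
    ((ofSL g).1 * (ofSL g).2.2.2 + 4 * ((ofSL g).2.1 * (ofSL g).2.2.1)) % 5 = 1 := by
  have h := g.2
  rw [Matrix.det_fin_two] at h
  have : ((((ofSL g).1 * (ofSL g).2.2.2 + 4 * ((ofSL g).2.1 * (ofSL g).2.2.1)) : ℕ) : ZMod 5) = ((1 : ℕ) : ZMod 5) := by
    simp only [ofSL, Nat.cast_add, Nat.cast_mul, ZMod.natCast_val, ZMod.cast_id', id_eq, Nat.cast_one, Nat.cast_ofNat]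
    rw [show (4 : ZMod 5) = -1 from rfl, neg_one_mul, ← sub_eq_add_neg]
    exact h
  exact (ZMod.natCast_eq_natCast_iff' _ _ _).1 this

theorem facts (g : SL5) :
    (word (ofSL g)).foldr (fun b y => qmul 5 (gen5 b) y) qone = ofSL g ∧
    (∀ b, image (qmul 5 (ofSL g) (gen5 b)) = qmul 11 (image (ofSL g)) (gen11 b)) ∧
    (ofSL g = qone ∨
      (((image (ofSL g)).1 + 10) * ((image (ofSL g)).2.2.2 + 10) + 10 * ((image (ofSL g)).2.1 * (image (ofSL g)).2.2.1)) % 11 ≠ 0) := by
  have h := checkAt_ofSL g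
  simp only [checkAt, det_ofSL g, decide_true, Bool.not_true, Bool.false_or, Bool.and_eq_true,
    decide_eq_true_eq, Bool.or_eq_true, Bool.not_eq_true', decide_eq_false_iff_not] at h
  exact ⟨h.1.1.1, fun b => by cases b; exacts [h.1.2, h.1.1.2], h.2⟩

def genSL (b : Bool) : SL5 :=
  if b then ⟨!![1, 1; 0, 1], by simp [Matrix.det_fin_two]⟩ else ⟨!![1, 0; 1, 1], by simp [Matrix.det_fin_two]⟩

theorem ofSL_inj : Function.Injective ofSL := fun g h e =>
  Subtype.ext (by rw [← toMat_ofSL, e, toMat_ofSL])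

theorem ofSL_one : ofSL 1 = qone := by decide +kernel

theorem ofSL_mul (g : SL5) (b : Bool) : ofSL (g * genSL b) = qmul 5 (ofSL g) (gen5 b) := by
  unfold ofSL
  rw [Matrix.SpecialLinearGroup.coe_mul]
  cases b <;>
    simp [genSL, gen5, ofSL, qmul, Matrix.SpecialLinearGroup.coe_mul, Matrix.mul_apply, Fin.sum_univ_two, ZMod.val_add, Nat.mod_eq_of_lt (ZMod.val_lt _)]

theorem toMat_foldr (m : ℕ) (f : Bool → Q) (l : List Bool) :
    toMat m (l.foldr (fun b y => qmul m (f b) y) qone) = (l.map fun b => toMat m (f b)).prod := by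
  induction l with
  | nil => exact toMat_one m
  | cons a l ih => rw [List.foldr_cons, toMat_mul, ih, List.map_cons, List.prod_cons]

def F (g : SL5) : Matrix (Fin 2) (Fin 2) (ZMod 11) := toMat 11 (image (ofSL g))

theorem F_step (g : SL5) (b : Bool) : F (g * genSL b) = F g * toMat 11 (gen11 b) := by
  rw [F, ofSL_mul, (facts g).2.1 b, toMat_mul]; rfl

theorem F_mul_prod (l : List Bool) : ∀ g : SL5,
    F (g * (l.map genSL).prod) = F g * (l.map fun b => toMat 11 (gen11 b)).prod := by
  induction l with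
  | nil => intro g; simp
  | cons a l ih =>
    intro g
    rw [List.map_cons, List.prod_cons, List.map_cons, List.prod_cons, ← mul_assoc, ih, F_step, mul_assoc]

theorem word_prod (g : SL5) : ((word (ofSL g)).map genSL).prod = g := by
  apply Subtype.ext
  have h := congrArg (toMat 5) (facts g).1
  rw [toMat_foldr, toMat_ofSL] at h
  refine Eq.trans ?_ h
  induction (word (ofSL g)) with
  | nil => rfl
  | cons a l ih =>
    rw [List.map_cons, List.prod_cons, List.map_cons, List.prod_cons, Matrix.SpecialLinearGroup.coe_mul, ih]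
    cases a <;> simp [genSL, gen5, toMat]

theorem F_one : F 1 = 1 := by rw [F, ofSL_one, image_one, toMat_one]

theorem F_mul (g h : SL5) : F (g * h) = F g * F h := by
  conv_lhs => rw [← word_prod h]
  rw [F_mul_prod]
  congr 1
  exact (toMat_foldr 11 gen11 _).symm

theorem F_fpf (g : SL5) (v : Fin 2 → ZMod 11) (hv : F g *ᵥ v = v) : g = 1 ∨ v = 0 := by
  rcases (facts g).2.2 with h | h
  · exact Or.inl (ofSL_inj (h.trans ofSL_one.symm))
  right
  haveI : Fact (Nat.Prime 11) := ⟨by norm_num⟩
  refine Matrix.eq_zero_of_mulVec_eq_zero (M := F g - 1) ?_ (by rw [Matrix.sub_mulVec, hv, Matrix.one_mulVec, sub_self])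
  intro h0
  apply h
  have h' : ((((image (ofSL g)).1 + 10) * ((image (ofSL g)).2.2.2 + 10) + 10 * ((image (ofSL g)).2.1 * (image (ofSL g)).2.2.1) : ℕ) : ZMod 11) = ((0 : ℕ) : ZMod 11) := by
    rw [Nat.cast_zero, ← h0, Matrix.det_fin_two]
    simp only [F, toMat, Nat.cast_add, Nat.cast_mul, Nat.cast_ofNat, Matrix.sub_apply, Matrix.of_apply,
      Matrix.cons_val', Matrix.cons_val_zero, Matrix.cons_val_one, Matrix.cons_val_fin_one,
      Matrix.one_apply_eq, Matrix.one_apply_ne (show (0 : Fin 2) ≠ 1 by decide),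
      Matrix.one_apply_ne (show (1 : Fin 2) ≠ 0 by decide)]
    rw [show (10 : ZMod 11) = -1 from rfl]
    ring
  exact (ZMod.natCast_eq_natCast_iff' _ _ _).1 h'

noncomputable def act : SL5 →* MulAut (Multiplicative (Fin 2 → ZMod 11)) where
  toFun g :=
    { toFun := fun v => Multiplicative.ofAdd (F g *ᵥ v.toAdd)
      invFun := fun v => Multiplicative.ofAdd (F g⁻¹ *ᵥ v.toAdd)
      left_inv := fun v => by
        simp only [toAdd_ofAdd]; rw [Matrix.mulVec_mulVec, ← F_mul, inv_mul_cancel, F_one, Matrix.one_mulVec, ofAdd_toAdd]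
      right_inv := fun v => by
        simp only [toAdd_ofAdd]; rw [Matrix.mulVec_mulVec, ← F_mul, mul_inv_cancel, F_one, Matrix.one_mulVec, ofAdd_toAdd]
      map_mul' := fun v w => by
        simp only [toAdd_mul]; rw [Matrix.mulVec_add]; rfl }
  map_one' := MulEquiv.ext fun v => by
    show Multiplicative.ofAdd (F 1 *ᵥ v.toAdd) = v
    rw [F_one, Matrix.one_mulVec, ofAdd_toAdd]
  map_mul' g h := MulEquiv.ext fun v => by
    show Multiplicative.ofAdd (F (g * h) *ᵥ v.toAdd) = Multiplicative.ofAdd (F g *ᵥ (F h *ᵥ v.toAdd))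
    rw [F_mul, Matrix.mulVec_mulVec]

/-- SL(2,5) occurs as a Frobenius complement: there is a finite group L with a subgroup H isomorphic to SL(2,5) which is a non-trivial proper subgroup meeting each conjugate gHg⁻¹ with g outside H trivially. -/
theorem result :
    ∃ (L : Type) (_ : Group L) (_ : Finite L) (H : Subgroup L),
      Cfsg.IsFrobeniusComplement H ∧ Nonempty (H ≃* Matrix.SpecialLinearGroup (Fin 2) (ZMod 5)) := by
  let L := SemidirectProduct (Multiplicative (Fin 2 → ZMod 11)) SL5 act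
  haveI : Finite L := Finite.of_equiv _ SemidirectProduct.equivProd.symm
  refine ⟨L, inferInstance, inferInstance, (SemidirectProduct.inr (φ := act)).range, ⟨?_, ?_, ?_⟩,
    ⟨(MonoidHom.ofInjective SemidirectProduct.inr_injective).symm⟩⟩
  · intro h
    have : (SemidirectProduct.inr (genSL true) : L) ∈ (⊥ : Subgroup L) := h ▸ ⟨_, rfl⟩
    rw [Subgroup.mem_bot] at this
    have h2 := congrArg (fun g : SL5 => g.1 0 1) (SemidirectProduct.inr_injective (this.trans (map_one _).symm))
    simp [genSL] at h2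
    all_goals exact absurd h2 (by decide)
  · intro h
    have : (SemidirectProduct.inl (Multiplicative.ofAdd ![1, 0]) : L) ∈ (SemidirectProduct.inr (φ := act)).range :=
      h ▸ Subgroup.mem_top _
    obtain ⟨k, hk⟩ := this
    have h2 := congrArg (fun x : L => x.left.toAdd 0) hk
    simp at h2
    all_goals exact absurd h2 (by decide)
  · intro g hg
    rw [Subgroup.eq_bot_iff_forall]
    rintro z ⟨⟨h, rfl⟩, hz⟩
    have hz' : (SemidirectProduct.inr h : L) ∈ MulAut.conj g • (SemidirectProduct.inr (φ := act)).range := hz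
    rw [Subgroup.mem_pointwise_smul_iff_inv_smul_mem] at hz'
    obtain ⟨k, hk⟩ := hz'
    have hk' : g * SemidirectProduct.inr k = (SemidirectProduct.inr h : L) * g := by
      rw [MulAut.smul_def, ← map_inv, MulAut.conj_apply, inv_inv] at hk
      rw [hk]; group
    have hl : g.left * act g.right 1 = 1 * act h g.left := congrArg SemidirectProduct.left hk'
    rw [map_one, mul_one, one_mul] at hl
    have hv : F h *ᵥ g.left.toAdd = g.left.toAdd := (congrArg Multiplicative.toAdd hl).symm
    rcases F_fpf h _ hv with h1 | h1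
    · rw [h1, map_one]
    · refine absurd ⟨g.right, ?_⟩ hg
      have : g.left = 1 := congrArg Multiplicative.ofAdd h1
      exact SemidirectProduct.ext (by rw [SemidirectProduct.left_inr, this]) (SemidirectProduct.right_inr _)

end Cfsg.Agent.S3374
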