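import Cfsg.Statements.S3375

set_option autoImplicit false
open Cfsg

namespace Cfsg.Agent.S3375

theorem mul_inv_eq_of_apply_eq {H : Type*} [Group H] (γ : MulAut H) {a b : H}
    (h : a⁻¹ * γ a = b⁻¹ * γ b) : γ (a * b⁻¹) = a * b⁻¹ := by
  have h2 : γ a = a * (b⁻¹ * γ b) := by rw [← h]; group
  rw [map_mul, map_inv, h2]; group

theorem inverts_of_fpf {H : Type*} [Group H] [Finite H] (γ : MulAut H) (h2 : ∀ h, γ (γ h) = h)
    (A : Subgroup H) (hA : ∀ a ∈ A, γ a ∈ A) (hfp : ∀ a ∈ A, γ a = a → a = 1) :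
    ∀ a ∈ A, γ a = a⁻¹ := by
  let f : A → A := fun a => ⟨(a : H)⁻¹ * γ a, A.mul_mem (A.inv_mem a.2) (hA _ a.2)⟩
  have hf : Function.Injective f := fun a b hab => by
    have := hfp _ (A.mul_mem a.2 (A.inv_mem b.2))
      (mul_inv_eq_of_apply_eq γ (congrArg Subtype.val hab))
    exact Subtype.ext (mul_inv_eq_one.1 this)
  intro a ha
  obtain ⟨x, hx⟩ := Finite.injective_iff_surjective.1 hf ⟨a, ha⟩
  have hx' : (x : H)⁻¹ * γ x = a := congrArg Subtype.val hx
  rw [← hx', map_mul, map_inv, h2]; group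

theorem comm_of_inverts {H : Type*} [Group H] (γ : MulAut H) (A : Subgroup H)
    (h : ∀ a ∈ A, γ a = a⁻¹) : ∀ a ∈ A, ∀ b ∈ A, a * b = b * a := by
  intro a ha b hb
  have e := h _ (A.mul_mem ha hb)
  rw [map_mul, h a ha, h b hb] at e
  simpa using (congrArg (·⁻¹) e).symm

/-- Let γ be an automorphism of order 2 of a finite group H. (i) If γ fixes only the identity, then H is abelian and γ inverts every element. (ii) If γ has exactly two fixed points and H has a subgroup of index 2, then H has a γ-invariant abelian subgroup of index 2 on which γ acts by inversion. -/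
theorem result {H : Type*} [Group H] [Finite H] (γ : MulAut H) (hγ : orderOf γ = 2) :
    ((∀ h : H, γ h = h → h = 1) → (∀ a b : H, a * b = b * a) ∧ ∀ h : H, γ h = h⁻¹) ∧
    ((Nat.card {h : H // γ h = h} = 2 ∧ ∃ M : Subgroup H, M.index = 2) →
      ∃ A : Subgroup H, A.index = 2 ∧ IsMulCommutative A ∧ (∀ a ∈ A, γ a ∈ A) ∧ ∀ a ∈ A, γ a = a⁻¹) := by
  have h2 : ∀ h, γ (γ h) = h := fun h => by
    have := congrArg (fun g : MulAut H => g h) (hγ ▸ pow_orderOf_eq_one γ)
    simpa [pow_two] using this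
  constructor
  · intro hfp
    have hi := inverts_of_fpf γ h2 ⊤ (by simp) (fun a _ => hfp a)
    exact ⟨fun a b => comm_of_inverts γ ⊤ hi a trivial b trivial, fun h => hi h trivial⟩
  rintro ⟨hF, M, hM⟩
  classical
  -- an invariant subgroup of index two
  obtain ⟨A, hAi, hA⟩ : ∃ A : Subgroup H, A.index = 2 ∧ ∀ a ∈ A, γ a ∈ A := by
    by_cases hinv : ∀ a ∈ M, γ a ∈ M
    · exact ⟨M, hM, hinv⟩
    push Not at hinv
    obtain ⟨a₀, ha₀, ha₀'⟩ := hinv
    have hm : ∀ u v : H, u * v ∈ M ↔ (u ∈ M ↔ v ∈ M) := fun u v => Subgroup.mul_mem_iff_of_index_two hM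
    let A : Subgroup H :=
      { carrier := {h | h ∈ M ↔ γ h ∈ M}
        one_mem' := by simp
        mul_mem' := fun {u v} hu hv => by
          simp only [Set.mem_setOf_eq] at *
          rw [map_mul, hm, hm]; tauto
        inv_mem' := fun {u} hu => by simpa using hu }
    refine ⟨A, Subgroup.index_eq_two_iff.2 ⟨a₀, fun b => ?_⟩, fun a (ha : a ∈ M ↔ γ a ∈ M) => ?_⟩
    · show Xor' (b * a₀ ∈ M ↔ γ (b * a₀) ∈ M) (b ∈ M ↔ γ b ∈ M)
      rw [map_mul, hm, hm]; unfold Xor'
      tauto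
    · show γ a ∈ M ↔ γ (γ a) ∈ M
      rw [h2]; exact ha.symm
  have hinv : ∀ a ∈ A, γ a = a⁻¹ := by
    by_cases hz : ∀ a ∈ A, γ a = a → a = 1
    · exact inverts_of_fpf γ h2 A hA hz
    push Not at hz
    obtain ⟨z, hzA, hzf, hz1⟩ := hz
    have hfix : ∀ y, γ y = y → y = 1 ∨ y = z := by
      intro y hy
      obtain ⟨u, v, -, huv⟩ := Nat.card_eq_two_iff.1 hF
      have key : ∀ w : {h : H // γ h = h}, w = u ∨ w = v := fun w => by
        have : w ∈ ({u, v} : Set _) := huv ▸ Set.mem_univ w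
        simpa using this
      rcases key ⟨1, map_one γ⟩ with h1 | h1 <;> rcases key ⟨z, hzf⟩ with h3 | h3 <;>
        rcases key ⟨y, hy⟩ with h4 | h4 <;>
        first
          | exact absurd (congrArg Subtype.val (h3.trans h1.symm)) hz1
          | exact Or.inl (congrArg Subtype.val (h4.trans h1.symm))
          | exact Or.inr (congrArg Subtype.val (h4.trans h3.symm))
    have hmem : ∀ h, h⁻¹ * γ h ∈ A := fun h => by
      rw [Subgroup.mul_mem_iff_of_index_two hAi, inv_mem_iff]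
      exact ⟨hA h, fun hh => h2 h ▸ hA _ hh⟩
    let f : H → A := fun h => ⟨h⁻¹ * γ h, hmem h⟩
    have hfib : ∀ s : A, Nat.card {h // f h = s} ≤ 2 := by
      intro s
      by_cases hs : ∃ b, f b = s
      · obtain ⟨b, hb⟩ := hs
        rw [← hF]
        refine Nat.card_le_card_of_injective (fun x => ⟨x.1 * b⁻¹,
          mul_inv_eq_of_apply_eq γ (congrArg Subtype.val (x.2.trans hb.symm))⟩) ?_
        intro x y hxy
        exact Subtype.ext (mul_right_cancel (congrArg Subtype.val hxy))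
      · haveI : IsEmpty {h // f h = s} := ⟨fun x => hs ⟨x.1, x.2⟩⟩
        simp
    have hsurj : ∀ s : A, ∃ b, f b = s := by
      by_contra hns
      push Not at hns
      obtain ⟨s₀, hs₀⟩ := hns
      haveI := Fintype.ofFinite H
      have hlt : Nat.card H < ∑ _s : A, 2 := by
        rw [Nat.card_congr (Equiv.sigmaFiberEquiv f).symm, Nat.card_sigma]
        refine Finset.sum_lt_sum (fun s _ => hfib s) ⟨s₀, Finset.mem_univ _, ?_⟩
        haveI : IsEmpty {h // f h = s₀} := ⟨fun x => hs₀ x.1 x.2⟩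
        simp
      rw [Finset.sum_const, Finset.card_univ, smul_eq_mul, ← Nat.card_eq_fintype_card] at hlt
      have := A.card_mul_index
      rw [hAi] at this
      omega
    intro a ha
    obtain ⟨b, hb⟩ := hsurj ⟨a, ha⟩
    have hb' : b⁻¹ * γ b = a := congrArg Subtype.val hb
    rw [← hb', map_mul, map_inv, h2]; group
  exact ⟨A, hAi, ⟨⟨fun a b => Subtype.ext (comm_of_inverts γ A hinv a a.2 b b.2)⟩⟩, hA, hinv⟩

end Cfsg.Agent.S3375
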