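import Cfsg.Statements.S3376
import Cfsg.Agent.Lib.Cores.Nilpotent

set_option autoImplicit false
open Cfsg

namespace Cfsg.Agent.S3376

open Equiv in
theorem target_facts :
    let c : Perm (Fin 9) := swap 0 1 * swap 1 2 * swap 3 4 * swap 4 5 * swap 6 7 * swap 7 8
    c ^ 3 = 1 ∧ c.support = Finset.univ := by
  decide +kernel

theorem cycleType_of_fpf {σ : Equiv.Perm (Fin 9)} (ho : orderOf σ = 3) (hs : σ.support = Finset.univ) :
    σ.cycleType = Multiset.replicate 3 3 := by
  obtain ⟨n, hn⟩ := Equiv.Perm.cycleType_prime_order (ho ▸ Nat.prime_three)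
  have h := σ.sum_cycleType
  rw [hn, hs, Multiset.sum_replicate, Finset.card_univ, Fintype.card_fin, ho, smul_eq_mul] at h
  obtain rfl : n = 2 := by omega
  rw [hn, ho]

/-- Let G be a group of order 162 = 3⁴·2 with Sylow 3-subgroup S and Sylow 2-subgroup T, having an elementary abelian normal subgroup J of order 27, such that Z = Z(S) has order 3, Z centralizes T, and C_S(T) ≠ S. Then G is isomorphic to the centralizer in Sym(9) of a product of three disjoint 3-cycles. -/
theorem result {G : Type*} [Group G] [Finite G] (hG : Nat.card G = 162)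
    (S : Sylow 3 G) (T : Sylow 2 G) (J : Subgroup G) [hJn : J.Normal] (hJcomm : IsMulCommutative J)
    (hJexp : ∀ a ∈ J, a ^ 3 = 1) (hJcard : Nat.card J = 27)
    (Z : Subgroup G) (hZ : Z = (S : Subgroup G) ⊓ Subgroup.centralizer ((S : Subgroup G) : Set G)) (hZcard : Nat.card Z = 3)
    (hZT : Z ≤ Subgroup.centralizer ((T : Subgroup G) : Set G))
    (hST : (S : Subgroup G) ⊓ Subgroup.centralizer ((T : Subgroup G) : Set G) ≠ S) :
    Nonempty (G ≃* Subgroup.centralizer ({Equiv.swap (0 : Fin 9) 1 * Equiv.swap 1 2 * Equiv.swap 3 4 * Equiv.swap 4 5 * Equiv.swap 6 7 * Equiv.swap 7 8} : Set (Equiv.Perm (Fin 9)))) := by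
  classical
  haveI : Fact (Nat.Prime 3) := ⟨Nat.prime_three⟩
  haveI : Fact (Nat.Prime 2) := ⟨Nat.prime_two⟩
  -- the Sylow subgroups
  have hScard : Nat.card (S : Subgroup G) = 81 := by
    obtain ⟨k, hk⟩ := IsPGroup.iff_card.1 S.isPGroup'
    have h1 := S.pow_dvd_card_of_pow_dvd_card (n := 4) (by rw [hG]; norm_num)
    have h2 := Subgroup.card_subgroup_dvd_card (S : Subgroup G)
    rw [hk, hG] at h2
    rw [hk] at h1 ⊢
    have hk4 : 4 ≤ k := (Nat.pow_dvd_pow_iff_le_right (by norm_num)).1 h1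
    match k, hk4 with
    | 4, _ => rfl
    | j + 5, _ =>
      exfalso
      have : 243 ∣ 162 := (Nat.pow_dvd_pow 3 (show 5 ≤ j + 5 by omega)).trans h2
      norm_num at this
  have hTcard : Nat.card (T : Subgroup G) = 2 := by
    obtain ⟨k, hk⟩ := IsPGroup.iff_card.1 T.isPGroup'
    have h1 := T.pow_dvd_card_of_pow_dvd_card (n := 1) (by rw [hG]; norm_num)
    have h2 := Subgroup.card_subgroup_dvd_card (T : Subgroup G)
    rw [hk, hG] at h2
    rw [hk] at h1 ⊢
    have hk1 : 1 ≤ k := (Nat.pow_dvd_pow_iff_le_right (by norm_num)).1 h1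
    match k, hk1 with
    | 1, _ => rfl
    | j + 2, _ =>
      exfalso
      have : 4 ∣ 162 := (Nat.pow_dvd_pow 2 (show 2 ≤ j + 2 by omega)).trans h2
      norm_num at this
  haveI hSn : (S : Subgroup G).Normal := Subgroup.normal_of_index_eq_two (by
    have := (S : Subgroup G).card_mul_index
    rw [hScard, hG] at this
    omega)
  haveI : Finite G := inferInstance
  have hJS : J ≤ S := by
    obtain ⟨P, hP⟩ := (IsPGroup.of_card (n := 3) (by rw [hJcard]; norm_num) : IsPGroup 3 J).exists_le_sylow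
    haveI : Subsingleton (Sylow 3 G) := (Sylow.unique_of_normal S hSn).instSubsingleton
    rwa [Subsingleton.elim P S] at hP
  have hcomm : ∀ a ∈ J, ∀ b ∈ J, a * b = b * a := fun a ha b hb =>
    congrArg Subtype.val (hJcomm.is_comm.comm (⟨a, ha⟩ : J) ⟨b, hb⟩)
  haveI : Group.IsNilpotent (S : Subgroup G) := S.isPGroup'.isNilpotent
  -- normal subgroups of the Sylow three subgroup meet `Z`
  have hZall : ∀ K : Subgroup G, K.Normal → K ≤ S → K ≠ ⊥ → Z ≤ K := by
    intro K hK hKS hK0
    haveI := hK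
    have hne := Cores.inf_center_ne_bot (N := K.subgroupOf (S : Subgroup G)) (fun h => hK0 (by
      rw [Subgroup.subgroupOf_eq_bot, disjoint_iff, inf_eq_left.2 hKS] at h; exact h))
    obtain ⟨⟨w, hw⟩, hw1⟩ := Subgroup.ne_bot_iff_exists_ne_one.1 hne
    have hwZ : (w : G) ∈ Z := by
      rw [hZ]
      exact ⟨w.2, fun u hu => congrArg Subtype.val (Subgroup.mem_center_iff.1 hw.2 ⟨u, hu⟩)⟩
    have hwo : orderOf (w : G) = 3 := by
      have h := orderOf_dvd_natCard (⟨(w : G), hwZ⟩ : Z)
      rw [Subgroup.orderOf_mk, hZcard] at h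
      rcases (Nat.dvd_prime Nat.prime_three).1 h with h | h
      · exact absurd (Subtype.ext (Subtype.ext (orderOf_eq_one_iff.1 h))) hw1
      · exact h
    have heq : Subgroup.zpowers (w : G) = Z := Subgroup.eq_of_le_of_card_ge
      (Subgroup.zpowers_le.2 hwZ) (by rw [Nat.card_zpowers, hwo, hZcard])
    rw [← heq]
    exact Subgroup.zpowers_le.2 (Subgroup.mem_subgroupOf.1 hw.1)
  have hZJ : Z ≤ J := hZall J hJn hJS (fun h => by rw [h, Subgroup.card_bot] at hJcard; omega)
  obtain ⟨z, hz⟩ : ∃ z : G, z ∈ Z ∧ z ≠ 1 := by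
    haveI : Nontrivial Z := Finite.one_lt_card_iff_nontrivial.1 (by omega)
    obtain ⟨⟨w, hw⟩, hw1⟩ := exists_ne (1 : Z)
    exact ⟨w, hw, fun h => hw1 (Subtype.ext h)⟩
  obtain ⟨hzZ, hz1⟩ := hz
  have hzo : orderOf z = 3 := by
    have hd := orderOf_dvd_natCard (⟨z, hzZ⟩ : Z)
    rw [Subgroup.orderOf_mk, hZcard] at hd
    rcases (Nat.dvd_prime Nat.prime_three).1 hd with h | h
    · exact absurd (orderOf_eq_one_iff.1 h) hz1
    · exact h
  have hZgen : Subgroup.zpowers z = Z := Subgroup.eq_of_le_of_card_ge (Subgroup.zpowers_le.2 hzZ)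
    (by rw [Nat.card_zpowers, hzo, hZcard])
  -- the involution
  obtain ⟨⟨t, htT⟩, hto⟩ := exists_prime_orderOf_dvd_card' (G := (T : Subgroup G)) 2 (by rw [hTcard])
  rw [Subgroup.orderOf_mk] at hto
  have htt : t * t = 1 := by rw [← pow_two, ← hto, pow_orderOf_eq_one]
  have htinv : t⁻¹ = t := inv_eq_of_mul_eq_one_right htt
  have hTgen : Subgroup.zpowers t = (T : Subgroup G) := Subgroup.eq_of_le_of_card_ge
    (Subgroup.zpowers_le.2 htT) (by rw [Nat.card_zpowers, hto, hTcard])
  have hsup : (S : Subgroup G) ⊔ T = ⊤ := by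
    refine Subgroup.eq_top_of_card_eq _ (Nat.dvd_antisymm (Subgroup.card_subgroup_dvd_card _) ?_)
    rw [hG, show (162 : ℕ) = 81 * 2 by norm_num]
    exact Nat.Coprime.mul_dvd_of_dvd_of_dvd (by norm_num) (dvd_trans hScard.symm.dvd (Subgroup.card_dvd_of_le le_sup_left))
      (dvd_trans hTcard.symm.dvd (Subgroup.card_dvd_of_le le_sup_right))
  have hzc : ∀ g, g * z = z * g := by
    intro g
    have hle : (⊤ : Subgroup G) ≤ Subgroup.centralizer ({z} : Set G) := by
      rw [← hsup]
      refine sup_le (fun u hu => ?_) (fun u hu => ?_)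
      · rw [Subgroup.mem_centralizer_singleton_iff]
        have hmem : z ∈ (S : Subgroup G) ⊓ Subgroup.centralizer ((S : Subgroup G) : Set G) := hZ ▸ hzZ
        exact hmem.2 u hu
      · rw [Subgroup.mem_centralizer_singleton_iff]
        exact hZT hzZ u hu
    exact Subgroup.mem_centralizer_singleton_iff.1 (hle (Subgroup.mem_top g))
  -- an invariant complement of `Z` in `J`
  let P : Subgroup G → Prop := fun U => U ≤ J ∧ (∀ u ∈ U, t * u * t ∈ U) ∧ z ∉ U
  obtain ⟨U, ⟨hUJ, hUt, hzU⟩, hUmax⟩ := (Set.toFinite {U : Subgroup G | P U}).exists_maximal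
    ⟨⊥, bot_le, fun u hu => by rw [Subgroup.mem_bot.1 hu, mul_one]; exact htt,
      fun h => hz1 (Subgroup.mem_bot.1 h)⟩
  have hUn : ∀ a ∈ J, (t * a * t = a ∨ t * a * t = a⁻¹) → a ∈ U ⊔ Z := by
    intro a ha hta
    by_contra hna
    have haU : a ∉ U := fun h => hna (Subgroup.mem_sup_left h)
    have hUa : U ⊔ Subgroup.zpowers a ≤ J := sup_le hUJ (Subgroup.zpowers_le.2 ha)
    have hinv : ∀ u ∈ U ⊔ Subgroup.zpowers a, t * u * t ∈ U ⊔ Subgroup.zpowers a := by
      have hle : U ⊔ Subgroup.zpowers a ≤ (U ⊔ Subgroup.zpowers a).comap (MulAut.conj t).toMonoidHom := by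
        refine sup_le (fun u hu => ?_) (Subgroup.zpowers_le.2 ?_)
        · rw [Subgroup.mem_comap]
          refine Subgroup.mem_sup_left ?_
          simpa [htinv] using hUt u hu
        · rw [Subgroup.mem_comap]
          refine Subgroup.mem_sup_right ?_
          rcases hta with h | h
          · simp only [MulEquiv.coe_toMonoidHom, MulAut.conj_apply, htinv, h]
            exact Subgroup.mem_zpowers a
          · simp only [MulEquiv.coe_toMonoidHom, MulAut.conj_apply, htinv, h]
            exact Subgroup.inv_mem _ (Subgroup.mem_zpowers a)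
      intro u hu
      simpa [htinv] using hle hu
    have hzmem : z ∈ U ⊔ Subgroup.zpowers a := by
      by_contra hnz
      have h1 : U ⊔ Subgroup.zpowers a ≤ U := hUmax (y := U ⊔ Subgroup.zpowers a) ⟨hUa, hinv, hnz⟩ le_sup_left
      exact haU (h1 (Subgroup.mem_sup_right (Subgroup.mem_zpowers a)))
    have hzmem' : ∃ u ∈ U, ∃ k : ℕ, z = u * a ^ k := by
      let V : Subgroup G :=
        { carrier := {g | ∃ u ∈ U, ∃ k : ℕ, g = u * a ^ k}
          one_mem' := ⟨1, U.one_mem, 0, by simp⟩
          mul_mem' := fun {g h} ⟨u, hu, k, hg⟩ ⟨v, hv, l, hh⟩ => ⟨u * v, U.mul_mem hu hv, k + l, by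
            rw [hg, hh, pow_add, mul_assoc, ← mul_assoc (a ^ k) v, hcomm _ (J.pow_mem ha k) v (hUJ hv)]
            simp only [mul_assoc]⟩
          inv_mem' := fun {g} ⟨u, hu, k, hg⟩ => ⟨u⁻¹, U.inv_mem hu, 2 * k, by
            rw [hg, mul_inv_rev, hcomm _ (J.inv_mem (J.pow_mem ha k)) _ (J.inv_mem (hUJ hu))]
            congr 1
            refine inv_eq_of_mul_eq_one_right ?_
            rw [← pow_add, show k + 2 * k = 3 * k by ring, pow_mul, hJexp a ha, one_pow]⟩ }
      have hle : U ⊔ Subgroup.zpowers a ≤ V :=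
        sup_le (fun u hu => ⟨u, hu, 0, by simp⟩) (Subgroup.zpowers_le.2 ⟨1, U.one_mem, 1, by simp⟩)
      exact hle hzmem
    obtain ⟨u, hu, k, hk⟩ := hzmem'
    have hk3 : ¬ 3 ∣ k := by
      rintro ⟨j, rfl⟩
      rw [pow_mul, hJexp a ha, one_pow, mul_one] at hk
      exact hzU (hk ▸ hu)
    refine hna ?_
    have hak : a ^ k ∈ U ⊔ Z := by
      rw [show a ^ k = u⁻¹ * z by rw [hk, inv_mul_cancel_left]]
      exact Subgroup.mul_mem_sup (U.inv_mem hu) hzZ
    have hmod : ∀ m : ℕ, a ^ m = a ^ (m % 3) := fun m => by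
      conv_lhs => rw [← Nat.div_add_mod m 3, pow_add, pow_mul, hJexp a ha, one_pow, one_mul]
    rcases (show k % 3 = 1 ∨ k % 3 = 2 by omega) with h | h
    · rwa [hmod k, h, pow_one] at hak
    · have := (U ⊔ Z).pow_mem hak 2
      rwa [← pow_mul, hmod, show k * 2 % 3 = 1 by omega, pow_one] at this
  have hJle : ∀ a ∈ J, a ∈ U ⊔ Z := by
    intro a ha
    have hb : t * a * t ∈ J := by simpa [htinv] using hJn.conj_mem a ha t
    have hmul : ∀ x y, t * (x * y) * t = t * x * t * (t * y * t) := fun x y => by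
      rw [show t * x * t * (t * y * t) = t * x * (t * t) * y * t by group, htt, mul_one]
      simp only [mul_assoc]
    have hinv : ∀ x, t * x⁻¹ * t = (t * x * t)⁻¹ := fun x => by
      rw [mul_inv_rev, mul_inv_rev, htinv, mul_assoc]
    obtain ⟨b, hbdef⟩ : ∃ b, b = t * a * t := ⟨_, rfl⟩
    rw [← hbdef] at hb
    have hba : t * b * t = a := by
      rw [hbdef, show t * (t * a * t) * t = t * t * a * (t * t) by group, htt, one_mul, mul_one]
    have hab : a * b = b * a := hcomm a ha b hb
    have h1 := hUn (a * b) (J.mul_mem ha hb) (Or.inl (by rw [hmul, ← hbdef, hba, hab]))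
    have h2 := hUn (a * b⁻¹) (J.mul_mem ha (J.inv_mem hb)) (Or.inr (by
      rw [hmul, ← hbdef, hinv, hba, mul_inv_rev, inv_inv]))
    have h3 := (U ⊔ Z).pow_mem ((U ⊔ Z).mul_mem h1 h2) 2
    have e : (a * b * (a * b⁻¹)) ^ 2 = a := by
      rw [hab, show b * a * (a * b⁻¹) = b * (a * a) * b⁻¹ by group, hcomm b hb (a * a) (J.mul_mem ha ha),
        mul_inv_cancel_right, pow_two, show a * a * (a * a) = a ^ 3 * a by simp [pow_succ, mul_assoc], hJexp a ha, one_mul]
    rwa [e] at h3
  have hUcard : Nat.card U = 9 := by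
    let f : U × Z → J := fun p => ⟨p.1 * p.2, J.mul_mem (hUJ p.1.2) (hZJ p.2.2)⟩
    have hf : Function.Bijective f := by
      constructor
      · rintro ⟨⟨u, hu⟩, ⟨w, hw⟩⟩ ⟨⟨v, hv⟩, ⟨x, hx⟩⟩ h
        have h' : u * w = v * x := congrArg Subtype.val h
        have e : v⁻¹ * u = x * w⁻¹ := by
          rw [inv_mul_eq_iff_eq_mul, ← mul_assoc, ← h', mul_inv_cancel_right]
        have hmem : v⁻¹ * u ∈ U := U.mul_mem (U.inv_mem hv) hu
        obtain ⟨k, hk⟩ := (Subgroup.mem_zpowers_iff.1 (hZgen.symm ▸ Z.mul_mem hx (Z.inv_mem hw) : x * w⁻¹ ∈ Subgroup.zpowers z))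
        have h1 : v⁻¹ * u = 1 := by
          by_contra hne
          refine hzU ?_
          have hle : Subgroup.zpowers (v⁻¹ * u) = Z := by
            refine Subgroup.eq_of_le_of_card_ge (Subgroup.zpowers_le.2 (e ▸ Z.mul_mem hx (Z.inv_mem hw))) ?_
            rw [Nat.card_zpowers, hZcard]
            have hd := orderOf_dvd_natCard (⟨x * w⁻¹, Z.mul_mem hx (Z.inv_mem hw)⟩ : Z)
            rw [Subgroup.orderOf_mk, hZcard, ← e] at hd
            rcases (Nat.dvd_prime Nat.prime_three).1 hd with h | h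
            · exact absurd (orderOf_eq_one_iff.1 h) hne
            · omega
          exact (Subgroup.zpowers_le.2 hmem) (hle.symm ▸ hzZ)
        rw [inv_mul_eq_one] at h1
        subst h1
        obtain rfl := mul_left_cancel h'
        rfl
      · rintro ⟨a, ha⟩
        have hcz : ∀ w ∈ Z, ∀ g : G, g * w = w * g := by
          intro w hw g
          obtain ⟨k, rfl⟩ := Subgroup.mem_zpowers_iff.1 (hZgen.symm ▸ hw : w ∈ Subgroup.zpowers z)
          exact ((show Commute g z from hzc g).zpow_right k).eq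
        let V : Subgroup G :=
          { carrier := {g | ∃ u ∈ U, ∃ w ∈ Z, u * w = g}
            one_mem' := ⟨1, U.one_mem, 1, Z.one_mem, mul_one 1⟩
            mul_mem' := fun {g h} ⟨u, hu, w, hw, hg⟩ ⟨v, hv, x, hx, hh⟩ => ⟨u * v, U.mul_mem hu hv, w * x,
              Z.mul_mem hw hx, by
                rw [← hg, ← hh, mul_assoc, mul_assoc, ← mul_assoc v, ← mul_assoc w v, hcz w hw v]⟩
            inv_mem' := fun {g} ⟨u, hu, w, hw, hg⟩ => ⟨u⁻¹, U.inv_mem hu, w⁻¹, Z.inv_mem hw, by
              rw [← hg, mul_inv_rev, hcz w⁻¹ (Z.inv_mem hw)]⟩ }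
        obtain ⟨u, hu, w, hw, h⟩ := (sup_le (fun u hu => ⟨u, hu, 1, Z.one_mem, mul_one u⟩)
          (fun w hw => ⟨1, U.one_mem, w, hw, one_mul w⟩) : U ⊔ Z ≤ V) (hJle a ha)
        exact ⟨(⟨u, hu⟩, ⟨w, hw⟩), Subtype.ext h⟩
    have := Nat.card_eq_of_bijective f hf
    rw [Nat.card_prod, hZcard, hJcard] at this
    omega
  -- the point stabiliser
  let L : Subgroup G :=
    { carrier := {g | ∃ u ∈ U, g = u ∨ g = u * t}
      one_mem' := ⟨1, U.one_mem, Or.inl rfl⟩
      mul_mem' := fun {g h} ⟨u, hu, hg⟩ ⟨v, hv, hh⟩ => by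
        rcases hg with hg | hg <;> rcases hh with hh | hh <;> rw [hg, hh]
        · exact ⟨_, U.mul_mem hu hv, Or.inl rfl⟩
        · exact ⟨_, U.mul_mem hu hv, Or.inr (mul_assoc _ _ _).symm⟩
        · refine ⟨_, U.mul_mem hu (hUt v hv), Or.inr ?_⟩
          rw [show u * (t * v * t) * t = u * t * v * (t * t) by group, htt, mul_one]
        · refine ⟨_, U.mul_mem hu (hUt v hv), Or.inl ?_⟩
          simp only [mul_assoc]
      inv_mem' := fun {g} ⟨u, hu, hg⟩ => by
        rcases hg with hg | hg <;> rw [hg]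
        · exact ⟨_, U.inv_mem hu, Or.inl rfl⟩
        · refine ⟨_, hUt _ (U.inv_mem hu), Or.inr ?_⟩
          rw [mul_inv_rev, htinv, mul_assoc (t * u⁻¹) t t, htt, mul_one] }
  have htU : t ∉ U := fun h => by
    have := orderOf_dvd_natCard (⟨t, h⟩ : U)
    rw [Subgroup.orderOf_mk, hto, hUcard] at this
    norm_num at this
  have hLcard : Nat.card L = 18 := by
    let f : U × Bool → L := fun p => if p.2 then ⟨p.1 * t, p.1, p.1.2, Or.inr rfl⟩ else ⟨p.1, p.1, p.1.2, Or.inl rfl⟩
    have hf : Function.Bijective f := by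
      constructor
      · rintro ⟨⟨u, hu⟩, b⟩ ⟨⟨v, hv⟩, b'⟩ h
        cases b <;> cases b' <;> simp only [f, Bool.false_eq_true, if_false, if_true, Subtype.ext_iff] at h
        · simp [h]
        · exact absurd ((U.mul_mem_cancel_left hv).1 (h ▸ hu)) htU
        · exact absurd ((U.mul_mem_cancel_left hu).1 (h.symm ▸ hv)) htU
        · simp [mul_right_cancel h]
      · rintro ⟨g, u, hu, h | h⟩
        · exact ⟨(⟨u, hu⟩, false), Subtype.ext h.symm⟩
        · exact ⟨(⟨u, hu⟩, true), Subtype.ext h.symm⟩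
    rw [← Nat.card_eq_of_bijective f hf, Nat.card_prod, hUcard, Nat.card_eq_fintype_card, Fintype.card_bool]
  have hzL : z ∉ L := by
    rintro ⟨u, hu, h | h⟩
    · exact hzU (h ▸ hu)
    · have : t ∈ J := by
        rw [show t = u⁻¹ * z by rw [h, inv_mul_cancel_left]]
        exact J.mul_mem (J.inv_mem (hUJ hu)) (hZJ hzZ)
      have h3 := orderOf_dvd_natCard (⟨t, this⟩ : J)
      rw [Subgroup.orderOf_mk, hto, hJcard] at h3
      norm_num at h3
  have hcore : L.normalCore = ⊥ := by
    by_contra hK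
    set K := L.normalCore
    by_cases hKS : K ⊓ S = ⊥
    · have hK2 : Nat.card K ∣ 2 := by
        have h1 : Nat.card K ∣ 18 := hLcard ▸ Subgroup.card_dvd_of_le L.normalCore_le
        have h3 : ¬ 3 ∣ Nat.card K := by
          intro hd
          obtain ⟨⟨w, hw⟩, hwo⟩ := exists_prime_orderOf_dvd_card' (G := K) 3 hd
          rw [Subgroup.orderOf_mk] at hwo
          obtain ⟨Q, hQ⟩ := (IsPGroup.of_card (n := 1) (show Nat.card (Subgroup.zpowers w) = 3 ^ 1 by
            rw [Nat.card_zpowers, hwo, pow_one]) : IsPGroup 3 (Subgroup.zpowers w)).exists_le_sylow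
          haveI : Subsingleton (Sylow 3 G) := (Sylow.unique_of_normal S hSn).instSubsingleton
          rw [Subsingleton.elim Q S] at hQ
          have := (Subgroup.eq_bot_iff_forall _).1 hKS w ⟨hw, hQ (Subgroup.mem_zpowers w)⟩
          rw [this, orderOf_one] at hwo
          omega
        have hcop : Nat.Coprime (Nat.card K) 9 :=
          Nat.Coprime.pow_right 2 ((Nat.Prime.coprime_iff_not_dvd Nat.prime_three).2 h3).symm
        exact hcop.dvd_of_dvd_mul_right (m := 2) h1
      rcases (Nat.dvd_prime Nat.prime_two).1 hK2 with h | h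
      · exact hK (Subgroup.card_eq_one.1 h)
      · obtain ⟨Q, hQ⟩ := (IsPGroup.of_card (n := 1) (by rw [h, pow_one]) : IsPGroup 2 K).exists_le_sylow
        obtain ⟨g, hg⟩ := MulAction.exists_smul_eq G Q T
        have hKT : K = (T : Subgroup G) := by
          refine Subgroup.eq_of_le_of_card_ge (fun k hk => ?_) (by rw [h, hTcard])
          rw [← hg, Sylow.coe_subgroup_smul, Subgroup.mem_pointwise_smul_iff_inv_smul_mem]
          exact hQ ((inferInstance : K.Normal).conj_mem' k hk g |> fun h' => by simpa using h')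
        refine hST (inf_eq_left.2 fun s hs => ?_)
        intro u hu
        rw [← hTgen] at hu
        obtain ⟨i, rfl⟩ := hu
        have hst : s * t * s⁻¹ ∈ K := (inferInstance : K.Normal).conj_mem t (hKT.symm ▸ htT) s
        rw [hKT, ← hTgen] at hst
        have hst' : s * t * s⁻¹ = t := by
          obtain ⟨j, hj⟩ := hst
          rcases Int.even_or_odd j with ⟨m, rfl⟩ | ⟨m, rfl⟩
          · exfalso
            have : s * t * s⁻¹ = 1 := by
              rw [← hj]; change t ^ (m + m) = 1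
              rw [← two_mul, zpow_mul, zpow_two, htt, one_zpow]
            rw [conj_eq_one_iff] at this
            rw [this, orderOf_one] at hto
            omega
          · rw [← hj]; change t ^ (2 * m + 1) = t
            rw [zpow_add, zpow_mul, zpow_two, htt, one_zpow, one_mul, zpow_one]
        exact ((show Commute t s from (mul_inv_eq_iff_eq_mul.1 hst').symm).zpow_left i).eq
    · exact hzL (L.normalCore_le ((hZall (K ⊓ S) inferInstance inf_le_right hKS) hzZ).1)
  -- the action on nine points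
  have hindex : Nat.card (G ⧸ L) = 9 := by
    have := L.card_mul_index
    rw [hLcard, hG] at this
    change L.index = 9
    omega
  let e : G ⧸ L ≃ Fin 9 := Finite.equivFinOfCardEq hindex
  let φ : G →* Equiv.Perm (Fin 9) := e.permCongrHom.toMonoidHom.comp (MulAction.toPermHom G (G ⧸ L))
  have hφ : Function.Injective φ := by
    refine e.permCongrHom.injective.comp ((MonoidHom.ker_eq_bot_iff _).1 ?_)
    rw [← Subgroup.normalCore_eq_ker, hcore]
  have ho : orderOf (φ z) = 3 := by rw [orderOf_injective φ hφ, hzo]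
  have hsupp : (φ z).support = Finset.univ := by
    rw [Finset.eq_univ_iff_forall]
    intro i
    rw [Equiv.Perm.mem_support]
    intro h
    have h' : z • e.symm i = e.symm i := e.injective (by rw [Equiv.apply_symm_apply]; exact h)
    obtain ⟨g, hg⟩ := QuotientGroup.mk_surjective (e.symm i)
    rw [← hg, MulAction.Quotient.smul_mk, QuotientGroup.eq, smul_eq_mul, ← hzc g, mul_inv_rev, mul_assoc,
      inv_mul_cancel, mul_one] at h'
    exact hzL (by simpa using L.inv_mem h')
  set c : Equiv.Perm (Fin 9) := Equiv.swap (0 : Fin 9) 1 * Equiv.swap 1 2 * Equiv.swap 3 4 * Equiv.swap 4 5 * Equiv.swap 6 7 * Equiv.swap 7 8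
  have hco : orderOf c = 3 := orderOf_eq_prime target_facts.1 (fun h => by
    have := target_facts.2
    change c.support = _ at this
    rw [h, Equiv.Perm.support_one] at this
    exact absurd (this ▸ Finset.mem_univ (0 : Fin 9)) (Finset.notMem_empty _))
  obtain ⟨π, hπ⟩ := isConj_iff.1 (Equiv.Perm.isConj_iff_cycleType_eq.2
    ((cycleType_of_fpf ho hsupp).trans (cycleType_of_fpf hco target_facts.2).symm))
  let ψ : G →* Subgroup.centralizer ({c} : Set (Equiv.Perm (Fin 9))) :=
    ((MulAut.conj π).toMonoidHom.comp φ).codRestrict _ (fun g => by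
      rw [Subgroup.mem_centralizer_singleton_iff, ← hπ]
      change MulAut.conj π (φ g) * MulAut.conj π (φ z) = MulAut.conj π (φ z) * MulAut.conj π (φ g)
      rw [← map_mul, ← map_mul, ← map_mul, ← map_mul, hzc])
  have hψ : Function.Injective ψ := fun a b h =>
    hφ ((MulAut.conj π).injective (congrArg Subtype.val h))
  refine ⟨MulEquiv.ofBijective ψ ((Nat.bijective_iff_injective_and_card ψ).2 ⟨hψ, ?_⟩)⟩
  rw [hG, Equiv.Perm.nat_card_centralizer, cycleType_of_fpf hco target_facts.2]
  decide +kernel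

end Cfsg.Agent.S3376
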