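import Cfsg.Statements.S3381
import Mathlib

set_option autoImplicit false
open Cfsg

namespace Cfsg.Agent.S3381

/-- Two submodules meeting trivially have dimensions adding up to at most that of the space. -/
theorem finrank_add_le {K V : Type*} [Field K] [AddCommGroup V] [Module K V] [Module.Finite K V]
    (S T : Submodule K V) (h : S ⊓ T = ⊥) : Module.finrank K S + Module.finrank K T ≤ Module.finrank K V := by
  rw [← Submodule.finrank_sup_add_finrank_inf_eq, h, finrank_bot, add_zero]
  exact Submodule.finrank_le _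

/-- The points fixed by a linear automorphism. -/
def fix {K V : Type*} [Field K] [AddCommGroup V] [Module K V] (f : V ≃ₗ[K] V) : Submodule K V :=
  LinearMap.ker ((f : V →ₗ[K] V) - LinearMap.id)

theorem mem_fix {K V : Type*} [Field K] [AddCommGroup V] [Module K V] {f : V ≃ₗ[K] V} {v : V} :
    v ∈ fix f ↔ f v = v := by simp [fix, sub_eq_zero]

/-- Let G be a finite group acting faithfully and linearly on a non-trivial finite vector space V over the field with q elements (q prime) so that every non-zero vector has a stabilizer of order 2, and suppose G has a central involution. Then V has q^(2r) elements for some r and G contains exactly q^r + 1 non-central involutions. -/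
theorem result
    (q : ℕ) [Fact q.Prime] {V : Type*} [AddCommGroup V] [Module (ZMod q) V] [Finite V] [Nontrivial V]
    {G : Type*} [Group G] [Finite G] (ρ : G →* (V ≃ₗ[ZMod q] V)) (hρ : Function.Injective ρ)
    (hstab : ∀ v : V, v ≠ 0 → Nat.card {g : G // ρ g v = v} = 2)
    (z : G) (hz : orderOf z = 2) (hzc : z ∈ Subgroup.center G) :
    ∃ r : ℕ, Nat.card V = q ^ (2 * r) ∧
      Nat.card {g : G // orderOf g = 2 ∧ g ∉ Subgroup.center G} = q ^ r + 1 := by
  classical
  haveI : Module.Finite (ZMod q) V := Module.Finite.of_finite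
  have hone : ∀ v, ρ 1 v = v := fun v => by rw [map_one]; rfl
  have hmul : ∀ g h v, ρ (g * h) v = ρ g (ρ h v) := fun g h v => by rw [map_mul]; rfl
  have hsq : ∀ g, orderOf g = 2 → ∀ v, ρ g (ρ g v) = v := fun g hg v => by
    rw [← hmul, ← pow_two, ← hg, pow_orderOf_eq_one, hone]
  -- uniqueness of the stabilizing involution
  have huniq : ∀ v : V, v ≠ 0 → ∀ g h : G, ρ g v = v → ρ h v = v → g ≠ 1 → h ≠ 1 → g = h := by
    intro v hv g h hg hh hg1 hh1
    obtain ⟨a, b, -, hab⟩ := Nat.card_eq_two_iff.1 (hstab v hv)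
    have key : ∀ c : {g : G // ρ g v = v}, c = a ∨ c = b := fun c => by
      have : c ∈ ({a, b} : Set _) := hab ▸ Set.mem_univ c
      simpa using this
    rcases key ⟨1, hone v⟩ with h0 | h0 <;> rcases key ⟨g, hg⟩ with h1 | h1 <;> rcases key ⟨h, hh⟩ with h2 | h2 <;>
      first
        | exact congrArg Subtype.val (h1.trans h2.symm)
        | exact absurd (congrArg Subtype.val (h1.trans h0.symm)) hg1
        | exact absurd (congrArg Subtype.val (h2.trans h0.symm)) hh1
  have hexists : ∀ v : V, v ≠ 0 → ∃ g : G, orderOf g = 2 ∧ ρ g v = v := by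
    intro v hv
    obtain ⟨a, b, hne, -⟩ := Nat.card_eq_two_iff.1 (hstab v hv)
    obtain ⟨g, hg, hg1⟩ : ∃ g : G, ρ g v = v ∧ g ≠ 1 := by
      by_cases h : a.1 = 1
      · exact ⟨b.1, b.2, fun h' => hne (Subtype.ext (h.trans h'.symm))⟩
      · exact ⟨a.1, a.2, h⟩
    refine ⟨g, orderOf_eq_prime ?_ hg1, hg⟩
    by_contra h2
    have h3 := huniq v hv (g * g) g (by rw [hmul, hg, hg]) hg (by rwa [pow_two] at h2) hg1
    exact hg1 (mul_left_cancel (h3.trans (mul_one g).symm))
  have hne1 : ∀ g : G, orderOf g = 2 → g ≠ 1 := fun g hg h => by rw [h, orderOf_one] at hg; omega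
  -- characteristic two is impossible
  have h2 : (2 : ZMod q) ≠ 0 := by
    intro h2
    have h2' : ((2 : ℕ) : ZMod q) = 0 := by simpa using h2
    have hadd : ∀ v : V, v + v = 0 := fun v => by
      rw [← two_smul (ZMod q) v, h2, zero_smul]
    have hex : ∃ v : V, v ≠ 0 ∧ ρ z v = v := by
      obtain ⟨w, hw⟩ := exists_ne (0 : V)
      by_cases h : ρ z w = w
      · exact ⟨w, hw, h⟩
      · refine ⟨ρ z w + w, fun e => h ?_, ?_⟩
        · rw [← sub_eq_zero, sub_eq_add_neg, neg_eq_of_add_eq_zero_left (hadd w)]; exact e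
        · rw [map_add, hsq z hz, add_comm]
    obtain ⟨v, hv, hzv⟩ := hex
    have hall : ∀ w : V, ρ z w = w := by
      intro w
      by_cases hw : w = 0
      · rw [hw, map_zero]
      obtain ⟨t, ht, htw⟩ := hexists w hw
      by_cases htz : t = z
      · rw [← htz]; exact htw
      exfalso
      have hc : t * z = z * t := Subgroup.mem_center_iff.1 hzc t
      -- `t` fixes a non-zero vector of the space fixed by `z`
      have key : ∃ u : V, u ≠ 0 ∧ ρ z u = u ∧ ρ t u = u := by
        by_cases h : ρ t v = v
        · exact ⟨v, hv, hzv, h⟩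
        · refine ⟨ρ t v + v, fun e => h ?_, ?_, ?_⟩
          · rw [← sub_eq_zero, sub_eq_add_neg, neg_eq_of_add_eq_zero_left (hadd v)]; exact e
          · rw [map_add, ← hmul, ← hc, hmul, hzv]
          · rw [map_add, hsq t ht, add_comm]
      obtain ⟨u, hu, hzu, htu⟩ := key
      exact htz (huniq u hu t z htu hzu (hne1 t ht) (hne1 z hz))
    exact hne1 z hz (hρ (LinearEquiv.ext fun w => by rw [hall, hone]))
  have hhalf : ∀ v : V, v = -v → v = 0 := fun v h => by
    have : (2 : ZMod q) • v = 0 := by rw [two_smul]; exact add_eq_zero_iff_eq_neg.2 h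
    exact (smul_eq_zero.1 this).resolve_left h2
  -- central involutions invert everything
  have hneg : ∀ c, orderOf c = 2 → c ∈ Subgroup.center G → ∀ v, ρ c v = -v := by
    intro c hc hcc
    have hcomm : ∀ g w, ρ g (ρ c w) = ρ c (ρ g w) := fun g w => by
      rw [← hmul, ← hmul, Subgroup.mem_center_iff.1 hcc g]
    by_cases hex : ∃ w : V, w ≠ 0 ∧ ρ c w = w
    · exfalso
      obtain ⟨w, hw, hcw⟩ := hex
      have hall : ∀ u : V, ρ c u = u := by
        intro u
        by_contra hu
        set u' := u - ρ c u with hu'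
        have hu'0 : u' ≠ 0 := sub_ne_zero.2 (Ne.symm hu)
        have hcu' : ρ c u' = -u' := by rw [hu', map_sub, hsq c hc, neg_sub]
        have hne : w + u' ≠ 0 := fun h => hw (by
          have h3 := congrArg (ρ c) h
          rw [map_add, map_zero, hcw, hcu'] at h3
          refine hhalf w ?_
          rw [eq_neg_iff_add_eq_zero]
          calc w + w = (w + u') + (w + -u') := by abel
            _ = 0 := by rw [h, h3, add_zero])
        obtain ⟨t, ht, htv⟩ := hexists _ hne
        have h3 : ρ t (w + -u') = w + -u' := by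
          rw [← hcu', ← hcw, ← map_add, hcomm, htv]
        have htw : ρ t w = w := by
          have h4 : ρ t ((2 : ZMod q) • w) = (2 : ZMod q) • w := by
            rw [show (2 : ZMod q) • w = (w + u') + (w + -u') by rw [two_smul]; abel, map_add, htv, h3]
          rw [map_smul] at h4
          exact smul_right_injective V h2 h4
        have htz := huniq w hw t c htw hcw (hne1 t ht) (hne1 c hc)
        subst htz
        rw [map_add, hcw, hcu', add_left_cancel_iff] at htv
        exact hu'0 (hhalf u' htv.symm)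
      exact hne1 c hc (hρ (LinearEquiv.ext fun u => by rw [hall, hone]))
    · intro v
      push Not at hex
      have h : ρ c (v + ρ c v) = v + ρ c v := by rw [map_add, hsq c hc, add_comm]
      by_contra hne
      exact hex _ (fun e => hne (eq_neg_of_add_eq_zero_right e)) h
  have hzneg := hneg z hz hzc
  have hfix : ∀ t : G, orderOf t = 2 → ρ t ≠ ρ z → ∃ u, u ≠ 0 ∧ ρ t u = u := by
    intro t ht hne
    by_contra h
    push Not at h
    refine hne (LinearEquiv.ext fun v => ?_)
    rw [hzneg]
    by_contra hv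
    exact h (v + ρ t v) (fun e => hv (eq_neg_of_add_eq_zero_right e)) (by rw [map_add, hsq t ht, add_comm])
  let I : Finset G := (Set.toFinite {g : G | orderOf g = 2 ∧ g ∉ Subgroup.center G}).toFinset
  have hI : ∀ g, g ∈ I ↔ orderOf g = 2 ∧ g ∉ Subgroup.center G := fun g => by simp [I]
  set n := Module.finrank (ZMod q) V with hn
  let a : G → ℕ := fun g => Module.finrank (ZMod q) (fix (ρ g))
  have hzt : ∀ t ∈ I, z * t ∈ I ∧ z * t ≠ t ∧ a t + a (z * t) = n := by
    intro t ht
    rw [hI] at ht
    obtain ⟨ht2, htc⟩ := ht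
    have hc : Commute z t := (Subgroup.mem_center_iff.1 hzc t).symm
    have hzz : z * z = 1 := by rw [← pow_two, ← hz, pow_orderOf_eq_one]
    have htt : t * t = 1 := by rw [← pow_two, ← ht2, pow_orderOf_eq_one]
    refine ⟨(hI _).2 ⟨orderOf_eq_prime ?_ fun h => ?_, fun h => ?_⟩, fun h => hne1 z hz (mul_right_cancel (h.trans (one_mul t).symm)), ?_⟩
    · rw [hc.mul_pow, pow_two, pow_two, hzz, htt, one_mul]
    · exact htc (by rw [← inv_eq_of_mul_eq_one_right h]; exact inv_mem hzc)
    · exact htc (by
        have := (Subgroup.center G).mul_mem hzc h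
        rwa [← mul_assoc, hzz, one_mul] at this)
    · have hcompl : IsCompl (fix (ρ t)) (fix (ρ (z * t))) := by
        refine IsCompl.of_eq ?_ ?_
        · rw [Submodule.eq_bot_iff]
          rintro v ⟨h1, h3⟩
          rw [SetLike.mem_coe, mem_fix] at h1 h3
          rw [hmul, h1, hzneg] at h3
          exact hhalf v h3.symm
        · rw [eq_top_iff]
          intro v _
          have hd : (2 : ZMod q)⁻¹ • (v + ρ t v) + (2 : ZMod q)⁻¹ • (v - ρ t v) = v := by
            rw [← smul_add, show v + ρ t v + (v - ρ t v) = (2 : ZMod q) • v by rw [two_smul]; abel,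
              smul_smul, inv_mul_cancel₀ h2, one_smul]
          rw [← hd]
          refine Submodule.add_mem_sup (mem_fix.2 ?_) (mem_fix.2 ?_)
          · rw [map_smul, map_add, hsq t ht2, add_comm]
          · rw [hmul, hzneg, map_smul, map_sub, hsq t ht2, ← smul_neg, neg_sub]
      exact Submodule.finrank_add_eq_of_isCompl hcompl
  have hpair : ∀ s ∈ I, ∀ t ∈ I, s ≠ t → a s + a t ≤ n := by
    intro s hs t ht hst
    refine finrank_add_le _ _ ?_
    rw [Submodule.eq_bot_iff]
    rintro v ⟨h1, h3⟩
    rw [SetLike.mem_coe, mem_fix] at h1 h3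
    by_contra hv
    exact hst (huniq v hv s t h1 h3 (hne1 s ((hI s).1 hs).1) (hne1 t ((hI t).1 ht).1))
  have hcover : ∀ v : V, v ≠ 0 → ∃ t ∈ I, v ∈ fix (ρ t) := by
    intro v hv
    obtain ⟨t, ht, htv⟩ := hexists v hv
    refine ⟨t, (hI t).2 ⟨ht, fun htc => hv (hhalf v ?_)⟩, mem_fix.2 htv⟩
    rw [← hneg t ht htc, htv]
  -- all eigenspaces have half the dimension
  have hdim : ∀ t ∈ I, 2 * a t = n := by
    intro t ht
    obtain ⟨hzt1, hzt2, hzt3⟩ := hzt t ht
    by_cases hmore : ∃ s ∈ I, s ≠ t ∧ s ≠ z * t
    · obtain ⟨s, hs, hs1, hs2⟩ := hmore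
      obtain ⟨hzs1, -, hzs3⟩ := hzt s hs
      have e1 := hpair s hs t ht hs1
      have e2 := hpair s hs (z * t) hzt1 hs2
      have hzs2 : z * s ≠ z * t := fun h => hs1 (mul_left_cancel h)
      have hzz : z * z = 1 := by rw [← pow_two, ← hz, pow_orderOf_eq_one]
      have hzs3' : z * s ≠ t := fun h => hs2 (by rw [← h, ← mul_assoc, hzz, one_mul])
      have e3 := hpair (z * s) hzs1 t ht hzs3'
      have e4 := hpair (z * s) hzs1 (z * t) hzt1 hzs2
      omega
    · exfalso
      push Not at hmore
      obtain ⟨u, hu, htu⟩ := hfix t ((hI t).1 ht).1 fun h => ((hI t).1 ht).2 (by rw [hρ h]; exact hzc)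
      obtain ⟨w, hw, hztw⟩ := hfix (z * t) ((hI _).1 hzt1).1 fun h => ((hI _).1 hzt1).2 (by rw [hρ h]; exact hzc)
      have hne : u + w ≠ 0 := fun h => by
        have hwu : w = -u := eq_neg_of_add_eq_zero_right h
        rw [hwu, hmul, map_neg, htu, hzneg, neg_neg] at hztw
        exact hu (hhalf u hztw)
      have htw : ρ t w = -w := by
        have := congrArg (ρ z) hztw
        rw [← hmul, ← mul_assoc, ← pow_two, ← hz, pow_orderOf_eq_one, one_mul, hzneg] at this
        exact this
      have hzu : ρ (z * t) u = -u := by rw [hmul, htu, hzneg]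
      obtain ⟨s, hs, hsv⟩ := hcover _ hne
      rw [mem_fix] at hsv
      by_cases hst : s = t
      · subst hst
        rw [map_add, htu, htw, add_left_cancel_iff] at hsv
        exact hw (hhalf w hsv.symm)
      · rw [hmore s hs hst, map_add, hzu, hztw, add_left_inj] at hsv
        exact hu (hhalf u hsv.symm)
  have hIne : I.Nonempty := by
    obtain ⟨v, hv⟩ := exists_ne (0 : V)
    obtain ⟨t, ht, -⟩ := hcover v hv
    exact ⟨t, ht⟩
  obtain ⟨t₀, ht₀⟩ := hIne
  refine ⟨a t₀, ?_, ?_⟩
  · rw [hdim t₀ ht₀, Module.natCard_eq_pow_finrank (K := ZMod q), Nat.card_zmod]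
  · haveI := Fintype.ofFinite V
    set r := a t₀ with hr
    have hr0 : 0 < r := by
      have : 0 < n := Module.finrank_pos
      have := hdim t₀ ht₀
      omega
    let P : G → Finset V := fun t => Finset.univ.filter fun v => v ≠ 0 ∧ ρ t v = v
    have hunion : I.biUnion P = Finset.univ.filter fun v : V => v ≠ 0 := by
      ext v
      simp only [Finset.mem_biUnion, Finset.mem_filter, Finset.mem_univ, true_and, P]
      exact ⟨fun ⟨_, _, h, _⟩ => h, fun h => by
        obtain ⟨t, ht, htv⟩ := hcover v h
        exact ⟨t, ht, h, mem_fix.1 htv⟩⟩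
    have hP : ∀ t ∈ I, (P t).card = q ^ r - 1 := by
      intro t ht
      have e : Nat.card (fix (ρ t)) = q ^ r := by
        rw [Module.natCard_eq_pow_finrank (K := ZMod q), Nat.card_zmod]
        congr 1
        have := hdim t ht
        have := hdim t₀ ht₀
        show a t = r
        omega
      rw [Nat.card_eq_fintype_card, Fintype.card_subtype] at e
      have : P t = (Finset.univ.filter fun v => v ∈ fix (ρ t)).erase 0 := by
        ext v; simp [P, mem_fix]
      rw [this, Finset.card_erase_of_mem (by simp), e]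
    have hsum := congrArg Finset.card hunion
    rw [Finset.card_biUnion, Finset.sum_const_nat hP, Finset.filter_ne', Finset.card_erase_of_mem (Finset.mem_univ _),
      Finset.card_univ, ← Nat.card_eq_fintype_card] at hsum
    · have hV : Nat.card V = q ^ r * q ^ r := by
        rw [← pow_add, Module.natCard_eq_pow_finrank (K := ZMod q), Nat.card_zmod]
        congr 1
        have := hdim t₀ ht₀
        omega
      have hpos : 1 < q ^ r := Nat.one_lt_pow hr0.ne' (Fact.out : q.Prime).one_lt
      have hcardI : Nat.card {g : G // orderOf g = 2 ∧ g ∉ Subgroup.center G} = I.card := by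
        rw [← Nat.card_eq_finsetCard]
        exact Nat.card_congr (Equiv.subtypeEquivRight fun g => (hI g).symm)
      rw [hcardI]
      apply Nat.eq_of_mul_eq_mul_right (show 0 < q ^ r - 1 by omega)
      rw [hsum, hV, show q ^ r * q ^ r - 1 = q ^ r * q ^ r - 1 * 1 by rfl, Nat.mul_self_sub_mul_self_eq]
    · intro s hs t ht hst
      simp only [Function.onFun, Finset.disjoint_left, P, Finset.mem_filter, Finset.mem_univ, true_and]
      intro v hv hv'
      exact hst (huniq v hv.1 s t hv.2 hv'.2 (hne1 s ((hI s).1 hs).1) (hne1 t ((hI t).1 ht).1))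

end Cfsg.Agent.S3381
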