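import Cfsg.Statements.S3382
import Mathlib

set_option autoImplicit false
open Cfsg

namespace Cfsg.Agent.S3382

variable {q : ℕ} [Fact q.Prime]

/-- The diagonal maps of the group. -/
def IsDia (f : (Fin 2 → ZMod q) ≃ₗ[ZMod q] (Fin 2 → ZMod q)) (a s : ZMod q) : Prop :=
  ∀ v, f v = ![a * v 0, s * a⁻¹ * v 1]

/-- The antidiagonal maps of the group. -/
def IsAnti (f : (Fin 2 → ZMod q) ≃ₗ[ZMod q] (Fin 2 → ZMod q)) (a s : ZMod q) : Prop :=
  ∀ v, f v = ![s * a⁻¹ * v 1, a * v 0]

/-- The map with given parameters, as a linear equivalence. -/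
def diag (a b : (ZMod q)ˣ) : (Fin 2 → ZMod q) ≃ₗ[ZMod q] (Fin 2 → ZMod q) :=
  LinearEquiv.piCongrRight fun i =>
    LinearEquiv.smulOfUnit (if i = 0 then a else b)

theorem diag_apply (a b : (ZMod q)ˣ) (v : Fin 2 → ZMod q) :
    diag a b v = ![(a : ZMod q) * v 0, (b : ZMod q) * v 1] := by
  funext i
  fin_cases i <;> simp [diag, LinearEquiv.smulOfUnit, Units.smul_def]

theorem mul_apply' {f g : (Fin 2 → ZMod q) ≃ₗ[ZMod q] (Fin 2 → ZMod q)} (v : Fin 2 → ZMod q) :
    (f * g) v = f (g v) := rfl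

section
variable {f g : (Fin 2 → ZMod q) ≃ₗ[ZMod q] (Fin 2 → ZMod q)} {a b s t : ZMod q}

theorem IsDia.mul (hf : IsDia f a s) (hg : IsDia g b t) : IsDia (f * g) (a * b) (s * t) := fun v => by
  rw [mul_apply', hg, hf]
  funext i
  fin_cases i <;> simp [mul_inv] <;> ring

theorem IsDia.pow (hf : IsDia f a s) : ∀ n : ℕ, IsDia (f ^ n) (a ^ n) (s ^ n)
  | 0 => fun v => by
    rw [pow_zero, pow_zero, pow_zero]
    funext i
    fin_cases i <;> simp
  | n + 1 => by
    rw [pow_succ, pow_succ, pow_succ]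
    exact (hf.pow n).mul hf

theorem IsDia.commute (hf : IsDia f a s) (hg : IsDia g b t) : f * g = g * f := by
  refine LinearEquiv.ext fun v => ?_
  rw [(hf.mul hg) v, (hg.mul hf) v, mul_comm b a, mul_comm t s]

theorem IsDia.eq_one_iff (hf : IsDia f a s) : f = 1 ↔ a = 1 ∧ s = 1 := by
  constructor
  · intro h
    subst h
    have h0 : (![1, 1] : Fin 2 → ZMod q) 0 = a := by
      have := congrFun (hf ![1, 1]) 0
      simpa using this
    have h1 : (![1, 1] : Fin 2 → ZMod q) 1 = s * a⁻¹ := by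
      have := congrFun (hf ![1, 1]) 1
      simpa using this
    simp at h0 h1
    subst h0
    exact ⟨rfl, by simpa using h1.symm⟩
  · rintro ⟨rfl, rfl⟩
    refine LinearEquiv.ext fun v => ?_
    rw [hf v]
    funext i
    fin_cases i <;> simp

theorem IsDia.ne_anti (hf : IsDia f a s) (hg : IsAnti f b t) (ha : a ≠ 0) : False := by
  have h := congrFun ((hf ![1, 0]).symm.trans (hg ![1, 0])) 0
  simp at h
  exact ha h

theorem IsAnti.sq (hf : IsAnti f a s) (ha : a ≠ 0) (v : Fin 2 → ZMod q) :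
    (f * f) v = ![s * v 0, s * v 1] := by
  rw [mul_apply', hf, hf]
  funext i
  fin_cases i <;> simp <;> field_simp

theorem IsAnti.pow_four (hf : IsAnti f a s) (ha : a ≠ 0) (hs : s = 1 ∨ s = -1) : f ^ 4 = 1 := by
  refine LinearEquiv.ext fun v => ?_
  rw [show (4 : ℕ) = 2 + 2 from rfl, pow_add, pow_two, mul_apply', hf.sq ha, hf.sq ha]
  funext i
  rcases hs with rfl | rfl <;> fin_cases i <;> simp

theorem commute_dia_anti (hf : IsDia f a s) (hg : IsAnti g b t) (ha : a ≠ 0) (hb : b ≠ 0)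
    (hs : s = 1 ∨ s = -1) (h : f * g = g * f) : f ^ 4 = 1 := by
  rw [(hf.pow 4).eq_one_iff]
  have h' := congrFun (congrArg (fun k => k ![1, 0]) h) 1
  simp only [mul_apply', hf _, hg _] at h'
  simp at h'
  have h3 : s * a⁻¹ * a = a * a := by
    have : s * a⁻¹ = a := mul_right_cancel₀ hb (h'.trans (mul_comm b a))
    rw [this]
  rw [mul_assoc, inv_mul_cancel₀ ha, mul_one] at h3
  have hs2 : s * s = 1 := by rcases hs with rfl | rfl <;> simp
  constructor
  · calc a ^ 4 = (a * a) * (a * a) := by ring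
      _ = 1 := by rw [← h3, hs2]
  · calc s ^ 4 = (s * s) * (s * s) := by ring
      _ = 1 := by rw [hs2, one_mul]

end

/-! ### The case `q = 3` -/

/-- The model for `q = 3`. -/
def act3 : DihedralGroup 4 → (Fin 2 → ZMod 3) → (Fin 2 → ZMod 3)
  | .r i => fun v => if i = 0 then v else if i = 1 then ![-(v 1), v 0] else if i = 2 then -v
      else ![v 1, -(v 0)]
  | .sr i => fun v => if i = 0 then ![v 1, v 0] else if i = 1 then ![v 0, -(v 1)]
      else if i = 2 then ![-(v 1), -(v 0)] else ![-(v 0), v 1]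

theorem act3_mul : ∀ g h : DihedralGroup 4, ∀ x y : ZMod 3,
    act3 (g * h) ![x, y] = act3 g (act3 h ![x, y]) := by decide +kernel

theorem act3_inj : ∀ g h : DihedralGroup 4,
    act3 g ![1, 0] = act3 h ![1, 0] → act3 g ![0, 1] = act3 h ![0, 1] → g = h := by decide +kernel

theorem act3_surj : ∀ a s : ZMod 3, a ≠ 0 → (s = 1 ∨ s = -1) →
    (∃ g, ∀ x y : ZMod 3, act3 g ![x, y] = ![a * x, s * a * y]) ∧
      (∃ g, ∀ x y : ZMod 3, act3 g ![x, y] = ![s * a * y, a * x]) := by decide +kernel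

/-- Powers of an endomorphism of the dihedral group of order eight given by the images. -/
def extend8 (x y : DihedralGroup 4) : DihedralGroup 4 → DihedralGroup 4
  | .r i => x ^ i.val
  | .sr i => y * x ^ i.val

theorem aut8 : ∀ x y : DihedralGroup 4,
    (∀ g, extend8 x y g = extend8 x y (.r 0) → g = .r 0) →
    (∀ g h, extend8 x y (g * h) = extend8 x y g * extend8 x y h) →
    ∀ g, extend8 x y (extend8 x y (extend8 x y (extend8 x y g))) = g := by decide +kernel

theorem mulAut8 (α : MulAut (DihedralGroup 4)) : α ^ 4 = 1 := by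
  have hα : ∀ g, α g = extend8 (α (.r 1)) (α (.sr 0)) g := by
    intro g
    cases g with
    | r i =>
      show α (.r i) = α (.r 1) ^ i.val
      rw [← map_pow, DihedralGroup.r_one_pow, ZMod.natCast_zmod_val]
    | sr i =>
      show α (.sr i) = α (.sr 0) * α (.r 1) ^ i.val
      rw [← map_pow, ← map_mul, DihedralGroup.r_one_pow, ZMod.natCast_zmod_val,
        DihedralGroup.sr_mul_r, zero_add]
  have key := aut8 (α (.r 1)) (α (.sr 0))
    (fun g hg => α.injective (by rw [hα g, hα (.r 0)]; exact hg))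
    (fun g h => by rw [← hα, ← hα, ← hα, map_mul])
  refine MulEquiv.ext fun g => ?_
  show α (α (α (α g))) = g
  simpa only [← hα] using key g

theorem eq_one_of_ne_zero_two : ∀ a : ZMod 2, a ≠ 0 → a = 1 := by decide

theorem eq_one_of_sign_two : ∀ s : ZMod 2, (s = 1 ∨ s = -1) → s = 1 := by decide

theorem mul_self_three : ∀ a : ZMod 3, a ≠ 0 → a * a = 1 := by decide

theorem act3_param : ∀ g : DihedralGroup 4, ∃ a s : ZMod 3, a ≠ 0 ∧ (s = 1 ∨ s = -1) ∧
    ((∀ x y, act3 g ![x, y] = ![a * x, s * a * y]) ∨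
      (∀ x y, act3 g ![x, y] = ![s * a * y, a * x])) := by decide +kernel

set_option maxHeartbeats 2000000 in
/-- Let q = 2^m + 1 be a prime other than 5. Then the automorphism group of the group of linear maps of F_q² of the forms (x, y) ↦ (a x, ± a⁻¹ y) and (x, y) ↦ (± a⁻¹ y, a x) with a ≠ 0 is itself a 2-group. -/
theorem result (q m : ℕ) [Fact q.Prime] (hq : q = 2 ^ m + 1) (hq5 : q ≠ 5)
    (T : Subgroup ((Fin 2 → ZMod q) ≃ₗ[ZMod q] (Fin 2 → ZMod q)))
    (hT : ∀ f, f ∈ T ↔ ∃ a s : ZMod q, a ≠ 0 ∧ (s = 1 ∨ s = -1) ∧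
      ((∀ v, f v = ![a * v 0, s * a⁻¹ * v 1]) ∨ (∀ v, f v = ![s * a⁻¹ * v 1, a * v 0]))) :
    IsPGroup 2 (MulAut T) := by
  classical
  haveI : Finite ((Fin 2 → ZMod q) ≃ₗ[ZMod q] (Fin 2 → ZMod q)) :=
    Finite.of_injective (fun f => (f : (Fin 2 → ZMod q) → Fin 2 → ZMod q)) DFunLike.coe_injective
  have hcases : ∀ x : T, ∃ a s : ZMod q, a ≠ 0 ∧ (s = 1 ∨ s = -1) ∧
      (IsDia x.1 a s ∨ IsAnti x.1 a s) := fun x => (hT x.1).1 x.2
  have hcard : Fintype.card (ZMod q)ˣ = 2 ^ m := by
    rw [ZMod.card_units q]; exact Nat.sub_eq_of_eq_add hq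
  have hone : (1 : ZMod q) ≠ 0 := one_ne_zero
  rcases eq_or_ne m 0 with rfl | hm0
  · -- q = 2
    simp only [pow_zero] at hq
    subst hq
    have h12 := eq_one_of_ne_zero_two
    have hs1 := eq_one_of_sign_two
    have hcard2 : Nat.card T ≤ 2 := by
      by_contra hlt
      haveI := Fintype.ofFinite T
      rw [not_le, Nat.card_eq_fintype_card, Fintype.two_lt_card_iff] at hlt
      obtain ⟨x, y, z, hxy, hxz, hyz⟩ := hlt
      have key : ∀ x : T, (∀ v, x.1 v = ![v 0, v 1]) ∨ (∀ v, x.1 v = ![v 1, v 0]) := fun x => by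
        obtain ⟨a, s, ha, hs, h⟩ := hcases x
        obtain rfl := h12 a ha
        obtain rfl := hs1 s hs
        rcases h with h | h
        · exact Or.inl fun v => by simpa using h v
        · exact Or.inr fun v => by simpa using h v
      have ext : ∀ {x y : T} {F : (Fin 2 → ZMod 2) → Fin 2 → ZMod 2},
          (∀ v, x.1 v = F v) → (∀ v, y.1 v = F v) → x = y := fun hx hy =>
        Subtype.ext (LinearEquiv.ext fun v => (hx v).trans (hy v).symm)
      rcases key x with hx | hx <;> rcases key y with hy | hy <;> rcases key z with hz | hz <;>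
        first
          | exact hxy (ext hx hy)
          | exact hxz (ext hx hz)
          | exact hyz (ext hy hz)
    intro α
    refine ⟨0, ?_⟩
    rw [pow_zero, pow_one]
    refine MulEquiv.ext fun x => ?_
    by_contra hne
    haveI := Fintype.ofFinite T
    have h3 : 2 < Fintype.card T := Fintype.two_lt_card_iff.2 ⟨1, x, α x,
      fun h => hne (by subst h; simp),
      fun h => hne (by
        have : x = 1 := α.injective (by rw [map_one]; exact h.symm)
        subst this; simp),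
      fun h => hne h.symm⟩
    rw [← Nat.card_eq_fintype_card] at h3
    omega
  rcases eq_or_ne m 1 with rfl | hm1
  · -- q = 3
    simp only [pow_one] at hq
    subst hq
    have hinv : ∀ a : ZMod 3, a⁻¹ = a := fun a => by
      rcases eq_or_ne a 0 with rfl | ha
      · exact inv_zero
      · exact inv_eq_of_mul_eq_one_right (mul_self_three a ha)
    have hvec : ∀ v : Fin 2 → ZMod 3, v = ![v 0, v 1] := fun v => by
      funext i; fin_cases i <;> rfl
    have hex : ∀ x : T, ∃ g, ∀ v, x.1 v = act3 g v := fun x => by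
      obtain ⟨a, s, ha, hs, h⟩ := hcases x
      rcases h with h | h
      · obtain ⟨g, hg⟩ := (act3_surj a s ha hs).1
        exact ⟨g, fun v => by rw [h v, hinv]; conv_rhs => rw [hvec v, hg]⟩
      · obtain ⟨g, hg⟩ := (act3_surj a s ha hs).2
        exact ⟨g, fun v => by rw [h v, hinv]; conv_rhs => rw [hvec v, hg]⟩
    choose φ hφ using hex
    have hφm : ∀ x y : T, φ (x * y) = φ x * φ y := fun x y => by
      refine act3_inj _ _ ?_ ?_ <;>
        rw [← hφ, act3_mul, ← hφ y, ← hφ x] <;> rfl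
    have hinjφ : Function.Injective φ := fun x y h =>
      Subtype.ext (LinearEquiv.ext fun v => by rw [hφ x, hφ y, h])
    have hsurj : Function.Surjective φ := by
      intro g
      obtain ⟨a, s, ha, hs, h⟩ : ∃ a s : ZMod 3, a ≠ 0 ∧ (s = 1 ∨ s = -1) ∧
          ((∀ x y, act3 g ![x, y] = ![a * x, s * a * y]) ∨
            (∀ x y, act3 g ![x, y] = ![s * a * y, a * x])) := by
        exact act3_param g
      have hs2 : s * s = 1 := by rcases hs with rfl | rfl <;> simp
      set u : (ZMod 3)ˣ := Units.mk0 a ha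
      set w : (ZMod 3)ˣ := Units.mk0 (s * a) (mul_ne_zero (left_ne_zero_of_mul_eq_one hs2) ha)
      rcases h with h | h
      · refine ⟨⟨diag u w, (hT _).2 ⟨a, s, ha, hs, Or.inl fun v => by
          rw [diag_apply, hinv]; rfl⟩⟩, ?_⟩
        refine act3_inj _ _ ?_ ?_ <;> rw [← hφ, h] <;> simp [diag_apply, u, w]
      · refine ⟨⟨(LinearEquiv.funCongrLeft (ZMod 3) (ZMod 3) (Equiv.swap 0 1)).trans (diag w u),
          (hT _).2 ⟨a, s, ha, hs, Or.inr fun v => by
            rw [LinearEquiv.trans_apply, diag_apply, hinv]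
            simp [u, w, LinearEquiv.funCongrLeft]⟩⟩, ?_⟩
        refine act3_inj _ _ ?_ ?_ <;> rw [← hφ, h] <;>
          simp [diag_apply, u, w, LinearEquiv.funCongrLeft]
    let e : T ≃* DihedralGroup 4 := MulEquiv.ofBijective (MonoidHom.mk' φ hφm) ⟨hinjφ, hsurj⟩
    intro α
    refine ⟨2, ?_⟩
    apply (MulAut.congr e).injective
    rw [map_pow, map_one]
    exact mulAut8 _
  -- q ≥ 17
  have hm3 : 3 ≤ m := by
    by_contra h
    interval_cases m <;> simp_all
  obtain ⟨u, hu⟩ := IsCyclic.exists_ofOrder_eq_natCard (α := (ZMod q)ˣ)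
  rw [Nat.card_eq_fintype_card, hcard] at hu
  have hu0 : (u : ZMod q) ≠ 0 := u.ne_zero
  have huord : orderOf (u : ZMod q) = 2 ^ m := by rw [orderOf_units, hu]
  have hd' : IsDia (diag u u⁻¹) (u : ZMod q) 1 := fun v => by
    rw [diag_apply, one_mul, Units.val_inv_eq_inv_val]
  have he' : IsDia (diag (1 : (ZMod q)ˣ) (-1)) (1 : ZMod q) (-1) := fun v => by
    rw [diag_apply]; simp
  have hw' : IsAnti (LinearEquiv.funCongrLeft (ZMod q) (ZMod q) (Equiv.swap 0 1)) (1 : ZMod q) 1 :=
    fun v => by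
      funext i
      fin_cases i <;> simp [LinearEquiv.funCongrLeft]
  let d : T := ⟨_, (hT _).2 ⟨_, _, hu0, Or.inl rfl, Or.inl hd'⟩⟩
  let e : T := ⟨_, (hT _).2 ⟨_, _, hone, Or.inr rfl, Or.inl he'⟩⟩
  let w : T := ⟨_, (hT _).2 ⟨_, _, hone, Or.inl rfl, Or.inr hw'⟩⟩
  have hspow : ∀ (s : ZMod q), (s = 1 ∨ s = -1) → ∀ k, s ^ (2 ^ (k + 1)) = 1 := by
    rintro s (rfl | rfl) k
    · exact one_pow _
    · rw [pow_succ, mul_comm, pow_mul, neg_one_sq, one_pow]
  have hapow : ∀ (a : ZMod q), a ≠ 0 → a ^ (2 ^ m) = 1 := fun a ha => by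
    have h := ZMod.pow_card_sub_one_eq_one ha
    rwa [show q - 1 = 2 ^ m by omega] at h
  obtain ⟨m', hm'⟩ : ∃ m', m = m' + 1 := ⟨m - 1, by omega⟩
  have hexp : ∀ (x : T) a s, a ≠ 0 → (s = 1 ∨ s = -1) → IsDia x.1 a s → x ^ (2 ^ m) = 1 :=
    fun x a s ha hs h => Subtype.ext (by
      rw [SubmonoidClass.coe_pow, OneMemClass.coe_one, (h.pow _).eq_one_iff]
      exact ⟨hapow a ha, hm' ▸ hspow s hs m'⟩)
  have hanti4 : ∀ (x : T) a s, a ≠ 0 → (s = 1 ∨ s = -1) → IsAnti x.1 a s → x ^ 4 = 1 :=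
    fun x a s ha hs h => Subtype.ext (by
      rw [SubmonoidClass.coe_pow, OneMemClass.coe_one]; exact h.pow_four ha hs)
  have hd4 : d ^ 4 ≠ 1 := fun h => by
    have h1 := congrArg Subtype.val h
    rw [SubmonoidClass.coe_pow, OneMemClass.coe_one, (hd'.pow 4).eq_one_iff] at h1
    have h2 := orderOf_dvd_of_pow_eq_one h1.1
    rw [huord] at h2
    have h8 : 2 ^ 3 ≤ 2 ^ m := Nat.pow_le_pow_right (by norm_num) hm3
    have := Nat.le_of_dvd (by norm_num) h2
    omega
  -- images of `d` and `e` are diagonal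
  have hαd : ∀ α : MulAut T, ∃ a s, a ≠ 0 ∧ (s = 1 ∨ s = -1) ∧ IsDia (α d).1 a s := fun α => by
    obtain ⟨a, s, ha, hs, h | h⟩ := hcases (α d)
    · exact ⟨a, s, ha, hs, h⟩
    · exact absurd (α.injective (by rw [map_pow, map_one, hanti4 _ _ _ ha hs h])) hd4
  have hcomm_d : ∀ (x : T) a s, IsDia x.1 a s → x * d = d * x := fun x a s h =>
    Subtype.ext (h.commute hd')
  have hαdia : ∀ (α : MulAut T) (x : T), x * d = d * x →
      ∃ a s, a ≠ 0 ∧ (s = 1 ∨ s = -1) ∧ IsDia (α x).1 a s := fun α x hx => by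
    obtain ⟨a, s, ha, hs, h | h⟩ := hcases (α x)
    · exact ⟨a, s, ha, hs, h⟩
    · obtain ⟨b, t, hb, ht, hd2⟩ := hαd α
      have h1 : (α d).1 * (α x).1 = (α x).1 * (α d).1 := by
        rw [← Subgroup.coe_mul, ← Subgroup.coe_mul, ← map_mul, ← map_mul, hx]
      have h2 := commute_dia_anti hd2 h hb ha ht h1
      exact absurd (α.injective (a₁ := d ^ 4) (a₂ := 1) (Subtype.ext (by
        rw [map_pow, map_one, SubmonoidClass.coe_pow]; exact h2))) hd4
  -- every diagonal element is a word in `d` and `e`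
  have hword : ∀ (x : T) a s, a ≠ 0 → (s = 1 ∨ s = -1) → IsDia x.1 a s →
      ∃ i j : ℕ, x = d ^ i * e ^ j := by
    intro x a s ha hs h
    obtain ⟨i, hi⟩ := (Submonoid.mem_powers_iff _ _).1
      ((mem_powers_iff_mem_zpowers (x := u)).2 (by
        rw [Subgroup.eq_top_of_card_eq (Subgroup.zpowers u) (by
          rw [Nat.card_zpowers, hu, Nat.card_eq_fintype_card, hcard])]
        exact Subgroup.mem_top (Units.mk0 a ha)))
    refine ⟨i, if s = 1 then 0 else 1, Subtype.ext (LinearEquiv.ext fun v => ?_)⟩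
    have hprod := (hd'.pow i).mul (he'.pow (if s = 1 then 0 else 1))
    rw [Subgroup.coe_mul, SubmonoidClass.coe_pow, SubmonoidClass.coe_pow, hprod v, h v]
    have hai : (u : ZMod q) ^ i * 1 ^ (if s = 1 then 0 else 1) = a := by
      rw [one_pow, mul_one, ← Units.val_pow_eq_pow_val, hi]; rfl
    rw [hai]
    split_ifs with hs1
    · simp [hs1]
    · rw [hs.resolve_left hs1]; simp
  -- the two noncentral diagonal involutions
  let X : T → Prop := fun x => x * d = d * x ∧ x * x = 1 ∧ x * w ≠ w * x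
  let z : T := d ^ (2 ^ m')
  have hz : IsDia z.1 (-1 : ZMod q) 1 := by
    have h := hd'.pow (2 ^ m')
    rw [one_pow] at h
    rw [show z.1 = d.1 ^ 2 ^ m' from SubmonoidClass.coe_pow _ _]
    have h1 : (u : ZMod q) ^ 2 ^ m' = -1 := by
      refine (sq_eq_one_iff.1 (by rw [← pow_mul, ← pow_succ, ← hm', hapow _ hu0])).resolve_left ?_
      intro h1
      have h2 := orderOf_dvd_of_pow_eq_one h1
      rw [huord, hm'] at h2
      have := Nat.le_of_dvd (by positivity) h2
      rw [pow_succ] at this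
      have := Nat.one_le_two_pow (n := m')
      omega
    rwa [h1] at h
  have hXe : ∀ x : T, X x → x = e ∨ x = z * e := by
    rintro x ⟨hx, hx2, hxw⟩
    obtain ⟨a, s, ha, hs, h⟩ := hαdia 1 x hx
    rw [MulAut.one_apply] at h
    have h2 := ((h.mul h).eq_one_iff).1 (congrArg Subtype.val hx2)
    rcases hs with rfl | rfl
    · refine absurd (Subtype.ext (LinearEquiv.ext fun v => ?_)) hxw
      rw [Subgroup.coe_mul, Subgroup.coe_mul, mul_apply', mul_apply', hw', h, h, hw']
      funext i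
      rcases mul_self_eq_one_iff.1 h2.1 with rfl | rfl <;> fin_cases i <;> simp
    · rcases mul_self_eq_one_iff.1 h2.1 with rfl | rfl
      · exact Or.inl (Subtype.ext (LinearEquiv.ext fun v => (h v).trans (he' v).symm))
      · refine Or.inr (Subtype.ext (LinearEquiv.ext fun v => ?_))
        rw [h v, Subgroup.coe_mul, (hz.mul he') v]
        simp
  have hXmem : X e := by
    refine ⟨hcomm_d e _ _ he', Subtype.ext ((he'.mul he').eq_one_iff.2 ⟨one_mul _, by simp⟩), ?_⟩
    intro h
    have h1 := congrFun (congrArg (fun k : T => k.1 ![1, 0]) h) 1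
    simp only [Subgroup.coe_mul, mul_apply'] at h1
    rw [hw', he', he', hw'] at h1
    simp at h1
    have h2 : ((2 : ℕ) : ZMod q) = 0 := by
      rw [Nat.cast_ofNat]; linear_combination -h1
    rw [ZMod.natCast_eq_zero_iff] at h2
    have := Nat.le_of_dvd (by norm_num) h2
    have := Nat.pow_le_pow_right (n := 2) (by norm_num) hm3
    omega
  have hXz : X (z * e) := by
    obtain ⟨he1, he2, he3⟩ := hXmem
    refine ⟨hcomm_d _ _ _ (hz.mul he'), Subtype.ext (((hz.mul he').mul (hz.mul he')).eq_one_iff.2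
      ⟨by ring, by ring⟩), fun h => he3 ?_⟩
    have hzw : z * w = w * z := Subtype.ext (LinearEquiv.ext fun v => by
      rw [Subgroup.coe_mul, Subgroup.coe_mul, mul_apply', mul_apply', hw', hz, hz, hw']
      funext i
      fin_cases i <;> simp)
    calc e * w = z⁻¹ * (z * e * w) := by group
      _ = z⁻¹ * (w * z) * e := by rw [h]; group
      _ = w * e := by rw [← hzw]; group
  have hXim : ∀ (α : MulAut T) (x : T), X x → X (α x) := by
    rintro α x ⟨hx, hx2, hxw⟩
    obtain ⟨a, s, ha, hs, h⟩ := hαdia α x hx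
    refine ⟨hcomm_d _ _ _ h, by rw [← map_mul, hx2, map_one], ?_⟩
    intro hc
    apply hxw
    apply α.injective
    rw [map_mul, map_mul]
    -- the centralizer of `w` together with the diagonal elements generates
    obtain ⟨b, t, hb, ht, hw2 | hw2⟩ := hcases (α w)
    · exact Subtype.ext (h.commute hw2)
    · have hwm : ∃ i j : ℕ, α w = d ^ i * e ^ j * w := by
        have hdia : IsDia (α w * w).1 (b⁻¹ * t) t := fun v => by
          rw [Subgroup.coe_mul, mul_apply', hw', hw2]
          funext i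
          fin_cases i <;> rcases ht with rfl | rfl <;> simp <;> field_simp
        obtain ⟨i, j, hij⟩ := hword _ _ _ (mul_ne_zero (inv_ne_zero hb)
          (by rcases ht with rfl | rfl <;> simp)) ht hdia
        refine ⟨i, j, ?_⟩
        have hww : w * w = 1 := Subtype.ext (LinearEquiv.ext fun v => by
          rw [Subgroup.coe_mul, mul_apply', hw', hw']
          funext i
          fin_cases i <;> simp)
        rw [← hij, mul_assoc, hww, mul_one]
      obtain ⟨i, j, hij⟩ := hwm
      have h1 : α x * (d ^ i * e ^ j) = d ^ i * e ^ j * α x := by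
        have hde : IsDia (d ^ i * e ^ j).1 ((u : ZMod q) ^ i * 1 ^ j) (1 ^ i * (-1) ^ j) := by
          rw [Subgroup.coe_mul, SubmonoidClass.coe_pow, SubmonoidClass.coe_pow]
          exact (hd'.pow i).mul (he'.pow j)
        exact Subtype.ext (h.commute hde)
      rw [hij]
      calc α x * (d ^ i * e ^ j * w) = (d ^ i * e ^ j) * (α x * w) := by
            rw [← mul_assoc, h1, mul_assoc]
        _ = (d ^ i * e ^ j) * (w * α x) := by rw [hc]
        _ = d ^ i * e ^ j * w * α x := (mul_assoc _ _ _).symm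
  have hsq : ∀ α : MulAut T, (α ^ 2) e = e := fun α => by
    have hne : e ≠ z * e := fun h => by
      have h1 : z = 1 := by
        calc z = z * e * e⁻¹ := by group
          _ = 1 := by rw [← h, mul_inv_cancel]
      have h2 := (hz.eq_one_iff).1 (congrArg Subtype.val h1)
      have h3 : ((2 : ℕ) : ZMod q) = 0 := by
        rw [Nat.cast_ofNat]; linear_combination -h2.1
      rw [ZMod.natCast_eq_zero_iff] at h3
      have := Nat.le_of_dvd (by norm_num) h3
      have := Nat.pow_le_pow_right (n := 2) (by norm_num) hm3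
      omega
    rw [pow_two]
    show α (α e) = e
    rcases hXe _ (hXim α e hXmem) with h | h
    · rw [h, h]
    · rw [h]
      rcases hXe _ (hXim α _ hXz) with h' | h'
      · exact h'
      · exact absurd (α.injective (h.trans h'.symm)) hne
  have hec : Commute e d := hcomm_d e _ _ he'
  have hee : e ^ 2 = 1 := by rw [pow_two]; exact hXmem.2.1
  intro α
  -- fourth power: `d` goes to a power of `d`
  obtain ⟨v, hv, hvd⟩ : ∃ v : ℕ, v.Coprime 2 ∧ (α ^ 4) d = d ^ v := by
    obtain ⟨a, s, ha, hs, h⟩ := hαd (α ^ 2)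
    obtain ⟨i, j, hij⟩ := hword _ _ _ ha hs h
    have hi : Odd i := by
      rw [← Nat.not_even_iff_odd]
      rintro ⟨k, rfl⟩
      have h1 : ((α ^ 2) d) ^ (2 ^ m') = 1 := by
        rw [hij, (hec.symm.pow_pow _ _).mul_pow, ← pow_mul, ← pow_mul]
        rw [show (k + k) * 2 ^ m' = 2 ^ m * k by rw [hm', pow_succ]; ring, pow_mul,
          hexp d _ _ hu0 (Or.inl rfl) hd', one_pow, one_mul]
        obtain ⟨m'', rfl⟩ : ∃ m'', m' = m'' + 1 := ⟨m' - 1, by omega⟩
        rw [pow_succ, mul_comm, pow_mul, mul_comm, pow_mul, hee, one_pow, one_pow]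
      have h2 : d ^ 2 ^ m' = 1 := (α ^ 2).injective (by rw [map_pow, map_one, h1])
      have h3 := congrArg Subtype.val h2
      rw [SubmonoidClass.coe_pow, OneMemClass.coe_one, (hd'.pow _).eq_one_iff] at h3
      have h4 := orderOf_dvd_of_pow_eq_one h3.1
      rw [huord, hm'] at h4
      have h5 := Nat.le_of_dvd (by positivity) h4
      rw [pow_succ] at h5
      have := Nat.one_le_two_pow (n := m')
      omega
    refine ⟨i * i, Nat.coprime_two_right.2 (hi.mul hi), ?_⟩
    rw [show α ^ 4 = α ^ 2 * α ^ 2 by group, MulAut.mul_apply, hij, map_mul, map_pow, map_pow,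
      hsq, hij, (hec.symm.pow_pow i j).mul_pow, mul_assoc, ← pow_mul, ← pow_mul, ← pow_add,
      show j * i + j = j * (i + 1) by ring]
    obtain ⟨k, rfl⟩ := hi
    rw [show j * (2 * k + 1 + 1) = 2 * (j * (k + 1)) by ring, pow_mul e 2, hee, one_pow, mul_one]
  set N := Nat.totient (2 ^ m)
  have hN : N = 2 ^ m' := by
    show Nat.totient (2 ^ m) = _
    rw [hm', Nat.totient_prime_pow_succ Nat.prime_two]; simp
  have hfixd : ((α ^ 4) ^ N) d = d := by
    have hk : ∀ k : ℕ, ((α ^ 4) ^ k) d = d ^ (v ^ k) := by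
      intro k
      induction k with
      | zero => simp
      | succ k ih => rw [pow_succ, MulAut.mul_apply, hvd, map_pow, ih, ← pow_mul, ← pow_succ]
    rw [hk, ← pow_one d, ← pow_mul, one_mul]
    have h1 : v ^ N % 2 ^ m = 1 % 2 ^ m := Nat.ModEq.pow_totient (hv.pow_right m)
    rw [← pow_mod_orderOf, ← pow_mod_orderOf d 1]
    congr 1
    have hdo : orderOf d ∣ 2 ^ m := orderOf_dvd_of_pow_eq_one (hexp d _ _ hu0 (Or.inl rfl) hd')
    exact Nat.ModEq.of_dvd hdo h1
  have hfixe : ((α ^ 4) ^ N) e = e := by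
    rw [show (α ^ 4) ^ N = (α ^ (2 * N)) ^ 2 by rw [← pow_mul, ← pow_mul]; ring_nf]
    exact hsq _
  set δ := (α ^ 4) ^ N with hδ
  have hfixdia : ∀ (x : T) a s, a ≠ 0 → (s = 1 ∨ s = -1) → IsDia x.1 a s → δ x = x := by
    intro x a s ha hs h
    obtain ⟨i, j, rfl⟩ := hword x a s ha hs h
    rw [map_mul, map_pow, map_pow, hfixd, hfixe]
  obtain ⟨b, t, hb, ht, hw2⟩ : ∃ b t, b ≠ 0 ∧ (t = 1 ∨ t = -1) ∧ IsDia (δ w * w⁻¹).1 b t := by
    obtain ⟨a, s, ha, hs, h | h⟩ := hcases (δ w * w⁻¹)
    · exact ⟨a, s, ha, hs, h⟩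
    · exfalso
      obtain ⟨b, t, hb, ht, hb2 | hb2⟩ := hcases (δ w)
      · have h1 : δ (δ w) = δ w := hfixdia _ _ _ hb ht hb2
        have h2 : δ w = w := δ.injective h1
        rw [h2] at hb2
        exact hb2.ne_anti hw' hb
      · have hww : w⁻¹ = w := inv_eq_of_mul_eq_one_left (Subtype.ext (LinearEquiv.ext fun v => by
          rw [Subgroup.coe_mul, mul_apply', hw', hw']
          funext i
          fin_cases i <;> simp))
        rw [hww] at h
        have hdia : IsDia (δ w * w).1 (b⁻¹ * t) t := fun v => by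
          rw [Subgroup.coe_mul, mul_apply', hw', hb2]
          funext i
          fin_cases i <;> rcases ht with rfl | rfl <;> simp <;> field_simp
        exact hdia.ne_anti h (mul_ne_zero (inv_ne_zero hb) (by rcases ht with rfl | rfl <;> simp))
  set c := δ w * w⁻¹ with hc
  have hiterw : ∀ k : ℕ, (δ ^ k) w = c ^ k * w := by
    intro k
    induction k with
    | zero => simp
    | succ k ih =>
      rw [pow_succ', MulAut.mul_apply, ih, map_mul, map_pow, hfixdia c b t hb ht hw2, pow_succ,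
        hc]
      group
  refine ⟨2 + m' + m, ?_⟩
  rw [show 2 ^ (2 + m' + m) = 4 * N * 2 ^ m by rw [hN, pow_add, pow_add]; rfl, pow_mul, pow_mul,
    ← hδ]
  have hgen : ∀ x : T, ∃ i j k : ℕ, x = d ^ i * e ^ j * w ^ k := by
    intro x
    obtain ⟨a, s, ha, hs, h | h⟩ := hcases x
    · obtain ⟨i, j, hij⟩ := hword x a s ha hs h
      exact ⟨i, j, 0, by rw [pow_zero, mul_one]; exact hij⟩
    · have hdia : IsDia (x * w).1 (a⁻¹ * s) s := fun v => by
        rw [Subgroup.coe_mul, mul_apply', hw', h]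
        funext i
        fin_cases i <;> rcases hs with rfl | rfl <;> simp <;> field_simp
      obtain ⟨i, j, hij⟩ := hword _ _ _ (mul_ne_zero (inv_ne_zero ha)
        (by rcases hs with rfl | rfl <;> simp)) hs hdia
      have hww : w * w = 1 := Subtype.ext (LinearEquiv.ext fun v => by
          rw [Subgroup.coe_mul, mul_apply', hw', hw']
          funext i
          fin_cases i <;> simp)
      exact ⟨i, j, 1, by rw [pow_one, ← hij, mul_assoc, hww, mul_one]⟩
  have hpd : ∀ k, (δ ^ k) d = d ∧ (δ ^ k) e = e := by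
    intro k
    induction k with
    | zero => simp
    | succ k ih => simp [pow_succ', MulAut.mul_apply, ih, hfixd, hfixe]
  refine MulEquiv.ext fun x => ?_
  obtain ⟨i, j, k, rfl⟩ := hgen x
  rw [map_mul, map_mul, map_pow, map_pow, map_pow, (hpd _).1, (hpd _).2, hiterw,
    hexp c b t hb ht hw2, one_mul, MulAut.one_apply]

end Cfsg.Agent.S3382
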