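import Cfsg.Statements.S3383
import Cfsg.Agent.Solvable.Frobenius
import Cfsg.Agent.Lib.Characters.Frobenius

set_option autoImplicit false
open Cfsg
open scoped Pointwise

namespace Cfsg.Agent.S3383

/-- Let H be a Frobenius complement in a finite group L and K the Frobenius kernel (as a subgroup). Then K is characteristic in L, and every normal subgroup of L either contains K or is contained in K. -/
theorem result {L : Type*} [Group L] [Finite L]
    (H : Subgroup L) (hH : Cfsg.IsFrobeniusComplement H)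
    (K : Subgroup L) (hK : (K : Set L) = Cfsg.frobeniusKernel H) :
    K.Characteristic ∧ ∀ N : Subgroup L, N.Normal → K ≤ N ∨ N ≤ K := by
  obtain ⟨K', hK', hn, hc⟩ := Cfsg.Agent.Characters.frobenius_kernel_theorem hH
  obtain rfl : K' = K := SetLike.coe_injective (hK'.trans hK.symm)
  haveI := hn
  have hmemK : ∀ x : L, x ∈ K' ↔ x = 1 ∨ ∀ g : L, g⁻¹ * x * g ∉ H := fun x => by
    rw [← SetLike.mem_coe, hK, Cfsg.Agent.Characters.mem_frobeniusKernel_iff]
  constructor
  · rw [Subgroup.characteristic_iff_map_eq]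
    intro φ
    have hmem : ∀ (x : L), x ∈ H.map φ.toMonoidHom ↔ φ.symm x ∈ H := fun x => Subgroup.mem_map_equiv
    have hφH : Cfsg.IsFrobeniusComplement (H.map φ.toMonoidHom) := by
      refine ⟨fun h => hH.1 ?_, fun h => hH.2.1 ?_, fun g hg => ?_⟩
      · exact (Subgroup.map_eq_bot_iff_of_injective _ φ.injective).1 h
      · rw [eq_top_iff]
        intro x _
        have : φ x ∈ H.map φ.toMonoidHom := h ▸ Subgroup.mem_top _
        rwa [hmem, MulEquiv.symm_apply_apply] at this
      · rw [Subgroup.eq_bot_iff_forall]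
        rintro z ⟨hz1, hz2⟩
        have hz2' : z ∈ MulAut.conj g • H.map φ.toMonoidHom := hz2
        rw [Cfsg.Agent.Characters.mem_conj_smul_iff] at hz2'
        replace hz2 := hz2'
        clear hz2'
        replace hz1 : φ.symm z ∈ H := (hmem z).1 hz1
        rw [hmem, map_mul, map_mul, map_inv] at hz2
        by_contra hz
        exact hg ((hmem g).2 (Cfsg.Agent.Characters.mem_of_frobenius_meet hH hz1 hz2
          fun h => hz (φ.symm.injective (h.trans (map_one _).symm))))
    obtain ⟨g, hg⟩ := Cfsg.Agent.Solvable.Frobenius.exists_conj_eq hH hφH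
    ext x
    rw [Subgroup.mem_map_equiv, hmemK, hmemK, φ.symm.map_eq_one_iff]
    refine or_congr Iff.rfl ?_
    have key : ∀ y : L, φ.symm y ∈ H ↔ g * y * g⁻¹ ∈ H := fun y => by
      rw [← hmem]
      conv_rhs => rw [← hg, Cfsg.Agent.Characters.mem_conj_smul_iff]
      rw [show g⁻¹ * (g * y * g⁻¹) * g = y by group]
    constructor
    · intro h z hz
      refine h (φ.symm (z * g)) ?_
      rw [← map_inv, ← map_mul, ← map_mul, key]
      convert hz using 1
      group
    · intro h z hz
      refine h (φ z * g⁻¹) ?_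
      have hy : φ.symm ((φ z)⁻¹ * x * φ z) ∈ H := by
        rw [map_mul, map_mul, map_inv, φ.symm_apply_apply]; exact hz
      rw [key] at hy
      convert hy using 1
      group
  · intro N hN
    by_cases h : N ≤ K'
    · exact Or.inr h
    left
    obtain ⟨x, hxN, hxK⟩ := SetLike.not_le_iff_exists.1 h
    rw [hmemK] at hxK
    push Not at hxK
    obtain ⟨hx1, g, hg⟩ := hxK
    set t := g⁻¹ * x * g with ht
    have htN : t ∈ N := by simpa [ht] using hN.conj_mem x hxN g⁻¹
    have ht1 : t ≠ 1 := fun h => hx1 (by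
      have : x = g * t * g⁻¹ := by rw [ht]; group
      rw [this, h, mul_one, mul_inv_cancel])
    have hfpf := Cfsg.Agent.Solvable.Frobenius.fpf_of_kernel hH hc t hg ht1
    let f : K' → K' := fun k =>
      ⟨(k : L) * (t * (k : L)⁻¹ * t⁻¹), K'.mul_mem k.2 (hn.conj_mem _ (K'.inv_mem k.2) t)⟩
    have hf : Function.Injective f := by
      intro a b hab
      have e : (a : L) * (t * (a : L)⁻¹ * t⁻¹) = (b : L) * (t * (b : L)⁻¹ * t⁻¹) := congrArg Subtype.val hab
      have h5 : ((b : L)⁻¹ * a) * t = t * ((b : L)⁻¹ * a) := by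
        calc ((b : L)⁻¹ * a) * t = (b : L)⁻¹ * ((a : L) * (t * (a : L)⁻¹ * t⁻¹)) * t * a := by group
          _ = (b : L)⁻¹ * ((b : L) * (t * (b : L)⁻¹ * t⁻¹)) * t * a := by rw [e]
          _ = _ := by group
      have hm : (b : L)⁻¹ * a ∈ K' ⊓ Subgroup.centralizer {t} :=
        ⟨K'.mul_mem (K'.inv_mem b.2) a.2, Subgroup.mem_centralizer_singleton_iff.2 h5⟩
      rw [hfpf, Subgroup.mem_bot, inv_mul_eq_one] at hm
      exact Subtype.ext hm.symm
    intro k hk
    obtain ⟨m, hm⟩ := (Finite.injective_iff_surjective.1 hf) ⟨k, hk⟩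
    rw [show k = (m : L) * t * (m : L)⁻¹ * t⁻¹ by
      have h' : (m : L) * (t * (m : L)⁻¹ * t⁻¹) = k := congrArg Subtype.val hm
      rw [← h']; group]
    exact N.mul_mem (hN.conj_mem t htN m) (N.inv_mem htN)

end Cfsg.Agent.S3383
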