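import Cfsg.Statements.S3385
import Cfsg.Agent.Lib.Perm.CubicSuborbit.Structure

set_option autoImplicit false
open Cfsg

namespace Cfsg.Agent.S3385

/-- Sims' Theorem on primitive groups with a suborbit of length 3. Let G be a finite group acting faithfully and primitively on a set Ω, and suppose the stabilizer of a point a has an orbit of length 3 on Ω. Then the stabilizer of a has order 2^k · 3 for some k ≤ 4. -/
theorem result {G : Type*} [Group G] [Finite G] {Ω : Type*} [MulAction G Ω] [FaithfulSMul G Ω]
    (hprim : MulAction.IsPreprimitive G Ω) (a b : Ω)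
    (h3 : Nat.card (MulAction.orbit (MulAction.stabilizer G a) b) = 3) :
    ∃ k : ℕ, k ≤ 4 ∧ Nat.card ↥(MulAction.stabilizer G a) = 2 ^ k * 3 := by
  classical
  haveI := hprim
  haveI : Finite Ω := Finite.of_surjective (fun g : G => g • a) fun x => MulAction.exists_smul_eq G a x
  haveI := Fintype.ofFinite Ω
  exact Cfsg.Agent.Perm.CubicSuborbit.Data.card_stab (Ω := Ω) ⟨a, b, hprim, h3⟩

end Cfsg.Agent.S3385
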