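import Cfsg.Statements.S3389

set_option autoImplicit false
open Cfsg

namespace Cfsg.Agent.S3389

variable {G : Type*} [Group G] {Ω : Type*} [MulAction G Ω]

/-- A `p`-group stabilising a set of fewer than `p` points fixes each of them. -/
theorem fix_of_small [Fintype Ω] {p : ℕ} [Fact p.Prime] {P : Subgroup G} (hP : IsPGroup p P)
    (S : Set Ω) (hS : Nat.card S < p) (hinv : ∀ g ∈ P, ∀ s ∈ S, g • s ∈ S) (a : Ω) (ha : a ∈ S) :
    ∀ g ∈ P, g • a = a := by
  intro g hg
  obtain ⟨n, hn⟩ := hP.card_orbit a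
  have hsub : MulAction.orbit P a ⊆ S := by
    rintro _ ⟨x, rfl⟩; exact hinv x x.2 a ha
  have hle : Nat.card (MulAction.orbit P a) ≤ Nat.card S := Nat.card_mono S.toFinite hsub
  rw [hn] at hle
  have hn0 : n = 0 := by
    by_contra h
    have := Nat.le_self_pow h p
    omega
  rw [hn0, pow_zero, Nat.card_eq_one_iff_unique] at hn
  haveI := hn.1
  exact congrArg Subtype.val (Subsingleton.elim (⟨g • a, ⟨g, hg⟩, rfl⟩ : MulAction.orbit P a) ⟨a, MulAction.mem_orbit_self a⟩)

theorem smul_mem_fixedBy {x y : G} (h : Commute y x) {s : Ω} (hs : s ∈ MulAction.fixedBy Ω x) :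
    y • s ∈ MulAction.fixedBy Ω x := by
  rw [MulAction.mem_fixedBy] at *
  rw [smul_smul, ← h.eq, ← smul_smul, hs]

/-- The key fact: a Sylow subgroup containing an element of order `p` fixing `α` fixes `α`. -/
theorem sylow_fixes [Finite G] [Fintype Ω] {p k : ℕ} [Fact p.Prime] (hkp : k < p)
    (hfix : ∀ g : G, g ≠ 1 → Nat.card (MulAction.fixedBy Ω g) ≤ k)
    {x : G} (hx1 : x ≠ 1) (hxp : IsPGroup p (Subgroup.zpowers x)) :
    ∃ P : Sylow p G, x ∈ P ∧ ∀ a : Ω, x • a = a → ∀ g ∈ (P : Subgroup G), g • a = a := by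
  obtain ⟨P, hP⟩ := hxp.exists_le_sylow
  have hxP : x ∈ P := hP (Subgroup.mem_zpowers x)
  haveI : Nontrivial (P : Subgroup G) := ⟨⟨x, hxP⟩, 1, fun h => hx1 (congrArg Subtype.val h)⟩
  haveI := P.2.center_nontrivial
  obtain ⟨⟨z, hz⟩, hz1⟩ := exists_ne (1 : Subgroup.center (P : Subgroup G))
  have hzc : ∀ g ∈ (P : Subgroup G), g * (z : G) = (z : G) * g := fun g hg =>
    congrArg Subtype.val (Subgroup.mem_center_iff.1 hz ⟨g, hg⟩)
  have hzne : (z : G) ≠ 1 := fun h => hz1 (Subtype.ext (Subtype.ext h))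
  refine ⟨P, hxP, fun a ha => ?_⟩
  have hza : (z : G) • a = a := by
    refine fix_of_small (P := Subgroup.zpowers (z : G)) (P.2.to_le (Subgroup.zpowers_le.2 z.2))
      (MulAction.fixedBy Ω x) ((hfix x hx1).trans_lt hkp) ?_ a ha _ (Subgroup.mem_zpowers _)
    intro g hg s hs
    obtain ⟨i, rfl⟩ := hg
    exact smul_mem_fixedBy ((Commute.zpow_left (hzc x hxP).symm) i) hs
  refine fix_of_small P.2 (MulAction.fixedBy Ω (z : G)) ((hfix _ hzne).trans_lt hkp) ?_ a hza
  intro g hg s hs
  exact smul_mem_fixedBy (hzc g hg) hs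

/-- Let G be a finite group acting faithfully and transitively on a finite set Ω with fixity k ≥ 1: every non-identity element fixes at most k points and some non-identity element fixes exactly k points. Then |Z(G)| divides k; if k = 2 then |G| is even; and for every prime p > k dividing |G| and every point α, either p does not divide |G_α| or G_α contains a Sylow p-subgroup of G. -/
theorem result {G : Type*} [Group G] [Finite G] {Ω : Type*} [Fintype Ω] [MulAction G Ω] [FaithfulSMul G Ω]
    (htr : MulAction.IsPretransitive G Ω) (k : ℕ) (hk : 1 ≤ k)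
    (hfix : ∀ g : G, g ≠ 1 → Nat.card (MulAction.fixedBy Ω g) ≤ k) (hex : ∃ g : G, g ≠ 1 ∧ Nat.card (MulAction.fixedBy Ω g) = k) :
    Nat.card (Subgroup.center G) ∣ k ∧ (k = 2 → 2 ∣ Nat.card G) ∧
      ∀ (p : ℕ), p.Prime → k < p → p ∣ Nat.card G → ∀ α : Ω,
        ¬ p ∣ Nat.card (MulAction.stabilizer G α) ∨ ¬ p ∣ (MulAction.stabilizer G α).index := by
  haveI := htr
  obtain ⟨g, hg1, hgk⟩ := hex
  refine ⟨?_, ?_, ?_⟩
  · have hfree : ∀ z ∈ Subgroup.center G, ∀ a : Ω, z • a = a → z = 1 := by
      intro z hz a ha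
      refine eq_of_smul_eq_smul (α := Ω) fun b => ?_
      obtain ⟨h, rfl⟩ := MulAction.exists_smul_eq G a b
      rw [one_smul, smul_smul, ← Subgroup.mem_center_iff.1 hz h, ← smul_smul, ha]
    let S : SubMulAction (Subgroup.center G) Ω :=
      { carrier := MulAction.fixedBy Ω g
        smul_mem' := fun z s hs => smul_mem_fixedBy (Subgroup.mem_center_iff.1 z.2 g).symm hs }
    have hS : Nat.card S = k := hgk
    haveI : Fintype S := Fintype.ofFinite _
    letI : Fintype (MulAction.orbitRel.Quotient (Subgroup.center G) S) := Fintype.ofFinite _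
    rw [← hS, Nat.card_congr (MulAction.selfEquivSigmaOrbits' (Subgroup.center G) S), Nat.card_sigma]
    refine Finset.dvd_sum fun q _ => ?_
    induction q using Quotient.inductionOn' with
    | h s =>
      show _ ∣ Nat.card (MulAction.orbit (Subgroup.center G) s)
      rw [Nat.card_congr (MulAction.orbitEquivQuotientStabilizer (Subgroup.center G) s)]
      rw [show MulAction.stabilizer (Subgroup.center G) s = ⊥ from (Subgroup.eq_bot_iff_forall _).2
        fun z hz => Subtype.ext (hfree z z.2 s (congrArg Subtype.val (MulAction.mem_stabilizer_iff.1 hz)))]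
      exact dvd_of_eq (by rw [← Subgroup.index_eq_card, Subgroup.index_bot])
  · intro hk2
    by_contra hodd
    have hG1 : 1 < orderOf g := by
      have := orderOf_pos g
      have : orderOf g ≠ 1 := fun h => hg1 (orderOf_eq_one_iff.1 h)
      omega
    obtain ⟨q, hq, hqd⟩ := Nat.exists_prime_and_dvd hG1.ne'
    haveI := Fact.mk hq
    have hq2 : q ≠ 2 := fun h => hodd (h ▸ hqd.trans (orderOf_dvd_natCard g))
    have hkq : k < q := by have := hq.two_le; omega
    obtain ⟨x, hx, hxg⟩ : ∃ x : G, orderOf x = q ∧ ∀ a : Ω, g • a = a → x • a = a := by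
      obtain ⟨d, hd⟩ := hqd
      refine ⟨g ^ d, ?_, fun a ha => ?_⟩
      · rw [orderOf_pow' g (fun h0 => by rw [h0, mul_zero] at hd; exact (orderOf_pos g).ne' hd)]
        rw [hd, Nat.gcd_eq_right (dvd_mul_left d q), Nat.mul_div_cancel _ (Nat.pos_of_ne_zero fun h0 => by
          rw [h0, mul_zero] at hd; exact (orderOf_pos g).ne' hd)]
      · exact MulAction.mem_stabilizer_iff.1 (pow_mem (MulAction.mem_stabilizer_iff.2 ha) d)
    have hx1 : x ≠ 1 := fun h => hq.ne_one (by rw [← hx, h, orderOf_one])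
    obtain ⟨P, hxP, hP⟩ := sylow_fixes hkq hfix hx1
      (IsPGroup.of_card (n := 1) (by rw [Nat.card_zpowers, hx, pow_one]))
    -- the two fixed points
    obtain ⟨⟨a, ha⟩, ⟨b, hb⟩, hab, -⟩ := Nat.card_eq_two_iff.1 (hgk.trans hk2)
    have hab' : a ≠ b := fun h => hab (Subtype.ext h)
    have hfx : ∀ c, x • c = c → c = a ∨ c = b := by
      intro c hc
      by_contra hne
      push Not at hne
      have h3 : 3 ≤ Nat.card (MulAction.fixedBy Ω x) := by
        have hs : ({a, b, c} : Set Ω) ⊆ MulAction.fixedBy Ω x := by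
          rintro u (rfl | rfl | rfl)
          · exact hxg _ ha
          · exact hxg _ hb
          · exact hc
        refine le_trans ?_ (Nat.card_mono (MulAction.fixedBy Ω x).toFinite hs)
        rw [Nat.card_coe_set_eq, Set.ncard_eq_three.2 ⟨a, b, c, hab', hne.1.symm, hne.2.symm, rfl⟩]
      have := hfix x hx1
      omega
    obtain ⟨t, ht⟩ := MulAction.exists_smul_eq G a b
    have hPb : (P : Subgroup G) ≤ MulAction.stabilizer G b := fun u hu => hP b (hxg b hb) u hu
    have hQb : ((t • P : Sylow q G) : Subgroup G) ≤ MulAction.stabilizer G b := by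
      rw [Sylow.coe_subgroup_smul]
      intro u hu
      obtain ⟨w, hw, rfl⟩ := hu
      rw [MulAction.mem_stabilizer_iff]
      show (MulAut.conj t w) • b = b
      rw [MulAut.conj_apply, ← ht, smul_smul, show t * w * t⁻¹ * t = t * w by group, ← smul_smul,
        hP a (hxg a ha) w hw]
    obtain ⟨h, hh⟩ := MulAction.exists_smul_eq (MulAction.stabilizer G b) (P.subtype hPb) ((t • P).subtype hQb)
    rw [Sylow.smul_subtype hPb h] at hh
    have hh' : ((h : G) • P : Sylow q G) = t • P := Sylow.subtype_injective hh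
    -- `h⁻¹ * t` interchanges `a` and `b`
    set s : G := (h : G)⁻¹ * t with hs
    have hsP : s • P = P := by rw [hs, ← smul_smul, ← hh', inv_smul_smul]
    have hsa : s • a = b := by
      rw [hs, ← smul_smul, ht, inv_smul_eq_iff]
      exact (MulAction.mem_stabilizer_iff.1 h.2).symm
    have hsb : s • b = a := by
      have hsx : x • (s • b) = s • b := by
        have : x ∈ ((s • P : Sylow q G) : Subgroup G) := hsP.symm ▸ hxP
        rw [Sylow.coe_subgroup_smul] at this
        obtain ⟨w, hw, hwx⟩ := this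
        have hwx' : s * w * s⁻¹ = x := hwx
        rw [← hwx', smul_smul, show s * w * s⁻¹ * s = s * w by group, ← smul_smul,
          hP b (hxg b hb) w hw]
      rcases hfx _ hsx with h' | h'
      · exact h'
      · exact absurd (MulAction.injective s (hsa.trans h'.symm)) hab'
    have hso : Odd (orderOf s) := by
      rw [Nat.odd_iff]
      by_contra h0
      exact hodd ((Nat.dvd_of_mod_eq_zero (by omega)).trans (orderOf_dvd_natCard s))
    obtain ⟨j, hj⟩ := hso
    have hss : (s * s) ∈ MulAction.stabilizer G a := by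
      rw [MulAction.mem_stabilizer_iff, ← smul_smul, hsa, hsb]
    have h1 : s • a = a := by
      have hpow : s ^ orderOf s • a = a := by rw [pow_orderOf_eq_one, one_smul]
      rwa [hj, pow_succ', ← smul_smul, pow_mul, pow_two,
        MulAction.mem_stabilizer_iff.1 (pow_mem hss j)] at hpow
    exact hab' (h1.symm.trans hsa)
  · intro p hp hkp _ α
    by_cases hd : p ∣ Nat.card (MulAction.stabilizer G α)
    · right
      haveI := Fact.mk hp
      obtain ⟨⟨x, hxα⟩, hx⟩ := exists_prime_orderOf_dvd_card' p hd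
      rw [Subgroup.orderOf_mk] at hx
      have hx1 : x ≠ 1 := fun h => hp.ne_one (by rw [← hx, h, orderOf_one])
      obtain ⟨P, -, hP⟩ := sylow_fixes hkp hfix hx1
        (IsPGroup.of_card (n := 1) (by rw [Nat.card_zpowers, hx, pow_one]))
      exact fun h => P.not_dvd_index (h.trans (Subgroup.index_dvd_of_le fun u hu => hP α hxα u hu))
    · exact Or.inl hd

end Cfsg.Agent.S3389
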