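import Cfsg.Statements.S3390
import Cfsg.Agent.Recognition.FixityTwoSylow
-- import your own Cfsg.Agent.* helpers here

set_option autoImplicit false
open Cfsg
open scoped Pointwise

namespace Cfsg.Agent.S3390

/-- Let G be a finite group acting faithfully and transitively on a finite set Ω with fixity 2 (every non-identity element fixes at most two points, and some fixes exactly two). Let α ∈ Ω and S a Sylow 2-subgroup of G. Then one of the following holds: the stabilizer S_α of α in S is trivial; S is dihedral or semidihedral and either |S_α| = 2 or |S : S_α| = 2; |S| ≥ 4, S has exactly one orbit of size 2 on Ω, every other S-orbit is regular, and G has a normal subgroup of index 2 or of index |S| which is a Frobenius group; or S ≤ G_α. -/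
theorem result {G : Type*} [Group G] [Finite G] {Ω : Type*} [Fintype Ω] [MulAction G Ω] [FaithfulSMul G Ω] (htr : MulAction.IsPretransitive G Ω)
    (hfix : ∀ g : G, g ≠ 1 → Nat.card (MulAction.fixedBy Ω g) ≤ 2) (hex : ∃ g : G, g ≠ 1 ∧ Nat.card (MulAction.fixedBy Ω g) = 2) (α : Ω) (S : Sylow 2 G) :
    (S : Subgroup G) ⊓ MulAction.stabilizer G α = ⊥ ∨
    (((∃ n : ℕ, Nonempty (↥(S : Subgroup G) ≃* DihedralGroup n)) ∨ Cfsg.IsQuasiDihedral ↥(S : Subgroup G)) ∧
       (Nat.card ↥((S : Subgroup G) ⊓ MulAction.stabilizer G α) = 2 ∨ ((S : Subgroup G) ⊓ MulAction.stabilizer G α).relIndex (S : Subgroup G) = 2)) ∨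
    (4 ≤ Nat.card (S : Subgroup G) ∧
       (∃ ω : Ω, Nat.card (MulAction.orbit ↥(S : Subgroup G) ω) = 2 ∧
          ∀ ω' : Ω, ω' ∉ MulAction.orbit ↥(S : Subgroup G) ω → Nat.card (MulAction.orbit ↥(S : Subgroup G) ω') = Nat.card (S : Subgroup G)) ∧
       ∃ N : Subgroup G, N.Normal ∧ (N.index = 2 ∨ N.index = Nat.card (S : Subgroup G)) ∧ (∃ H : Subgroup ↥N, Cfsg.IsFrobeniusComplement H)) ∨
    (S : Subgroup G) ≤ MulAction.stabilizer G α := by
  classical
  haveI : Fact (Nat.Prime 2) := ⟨Nat.prime_two⟩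
  set T := (S : Subgroup G) ⊓ MulAction.stabilizer G α with hTdef
  by_cases hT : T = ⊥
  · exact Or.inl hT
  by_cases hTS : (S : Subgroup G) ≤ MulAction.stabilizer G α
  · exact Or.inr (Or.inr (Or.inr hTS))
  obtain ⟨β, w, hwS, hwα, hβα, hTβ, hkey, hidx⟩ :=
    Recognition.FixityTwoSylow.stabilizer_pair hfix S hT hTS
  set M := (S : Subgroup G) ⊓ Subgroup.normalizer (T : Set G) with hM
  have hTM : T ≤ M := le_inf inf_le_left Subgroup.le_normalizer
  have hTcard : 2 ≤ Nat.card T := by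
    haveI : Nontrivial T := (Subgroup.nontrivial_iff_ne_bot T).2 hT
    exact Finite.one_lt_card_iff_nontrivial.2 inferInstance
  have hMcard : Nat.card M = Nat.card T * 2 := by
    rw [← (T.subgroupOf M).card_mul_index, Nat.card_congr (Subgroup.subgroupOfEquivOfLe hTM).toEquiv]
    exact congrArg (Nat.card T * ·) hidx
  have hTfix : ∀ t ∈ T, t • α = α ∧ t • β = β := fun t ht => ⟨ht.2, (hTβ.ge ht).2⟩
  have hM2 : ∀ m ∈ M, m • α = α ∨ m • α = β := fun m hm => hkey _ fun t ht => by
    have h := ((Subgroup.mem_normalizer_iff''.1 hm.2) t).1 ht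
    have h' : (m⁻¹ * t * m) • α = α := h.2
    rwa [mul_smul, mul_smul, inv_smul_eq_iff] at h'
  by_cases hSM : (S : Subgroup G) ≤ M
  swap
  · -- the stabiliser is not normal in `S`
    haveI : Group.IsNilpotent (S : Subgroup G) := S.isPGroup'.isNilpotent
    have hlt : M.subgroupOf (S : Subgroup G) < ⊤ := lt_top_iff_ne_top.2 fun h =>
      hSM (Subgroup.subgroupOf_eq_top.1 h)
    obtain ⟨⟨z, hzS⟩, hzN, hzM⟩ := SetLike.exists_of_lt (normalizerCondition_of_isNilpotent _ hlt)
    have hz1 : z • α ≠ α := fun e => hzM (hTM (show z ∈ T from ⟨hzS, e⟩))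
    have hz2 : z • α ≠ β := fun e => by
      have h : w⁻¹ * z ∈ T := ⟨(S : Subgroup G).mul_mem ((S : Subgroup G).inv_mem hwS) hzS, show (w⁻¹ * z) • α = α by
        rw [mul_smul, e, inv_smul_eq_iff, hwα]⟩
      have hwM : w ∈ M := by
        refine ⟨hwS, Subgroup.mem_normalizer_iff.2 fun t => ⟨fun ht => ?_, fun ht => ?_⟩⟩
        · refine hTβ.le ⟨(S : Subgroup G).mul_mem ((S : Subgroup G).mul_mem hwS ht.1) ((S : Subgroup G).inv_mem hwS), show (w * t * w⁻¹) • β = β from ?_⟩
          rw [mul_smul, mul_smul, ← hwα, inv_smul_smul, (ht.2 : t • α = α)]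
        · have h' : (w * t * w⁻¹) • β = β := (hTβ.ge ht).2
          rw [mul_smul, mul_smul, ← hwα, inv_smul_smul] at h'
          refine ⟨?_, MulAction.injective w h'⟩
          have h'' := (S : Subgroup G).mul_mem ((S : Subgroup G).mul_mem ((S : Subgroup G).inv_mem hwS) ht.1) hwS
          exact (by group : w⁻¹ * (w * t * w⁻¹) * w = t) ▸ h''
      exact hzM (show z ∈ M by simpa using mul_mem hwM (hTM h))
    set T' := T.map (MulAut.conj z).toMonoidHom
    have hT'M : T' ≤ M := by
      rintro _ ⟨t, ht, rfl⟩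
      exact ((Subgroup.mem_normalizer_iff.1 hzN) ⟨t, ht.1⟩).1 (hTM ht)
    have hdis : Disjoint T T' := by
      rw [Subgroup.disjoint_def]
      intro x hx hx'
      obtain ⟨t, ht, rfl⟩ := hx'
      by_contra h1
      refine Recognition.FixityTwoSylow.not_three hfix h1 hβα.symm hz1.symm hz2.symm (hTfix _ hx).1
        (hTfix _ hx).2 ?_
      show (z * t * z⁻¹) • z • α = z • α
      rw [mul_smul, mul_smul, inv_smul_smul, (ht.2 : t • α = α)]
    have hc : Nat.card (T × T') ≤ Nat.card M := by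
      refine Nat.card_le_card_of_injective (fun p => (⟨(p.1 : G) * p.2, mul_mem (hTM p.1.2) (hT'M p.2.2)⟩ : M)) ?_
      rintro ⟨x, y⟩ ⟨x', y'⟩ e
      exact Subgroup.mul_injective_of_disjoint hdis (congrArg Subtype.val e)
    rw [Nat.card_prod, Subgroup.card_map_of_injective (MulAut.conj z).injective, hMcard] at hc
    have hT2 : Nat.card T = 2 := le_antisymm (Nat.le_of_mul_le_mul_left hc (by omega)) hTcard
    refine Or.inr (Or.inl ⟨?_, Or.inl hT2⟩)
    refine Recognition.FixityTwoSylow.of_card_two hfix S hT2 hTS fun h => absurd ?_ hSM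
    have : M = (S : Subgroup G) := Subgroup.eq_of_le_of_card_ge inf_le_left (by omega)
    exact this.ge
  -- the stabiliser has index two
  have hMS : M = (S : Subgroup G) := le_antisymm inf_le_left hSM
  have hidxS : T.relIndex (S : Subgroup G) = 2 := by rw [← hMS]; exact hidx
  by_cases hU : ∃ γ : Ω, γ ≠ α ∧ γ ≠ β ∧ (S : Subgroup G) ⊓ MulAction.stabilizer G γ ≠ ⊥
  · obtain ⟨γ, hγα, hγβ, hγ⟩ := hU
    set U := (S : Subgroup G) ⊓ MulAction.stabilizer G γ with hUdef
    have hdis : Disjoint T U := by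
      rw [Subgroup.disjoint_def]
      intro x hx hx'
      by_contra h1
      exact Recognition.FixityTwoSylow.not_three hfix h1 hβα.symm hγα.symm hγβ.symm (hTfix _ hx).1
        (hTfix _ hx).2 hx'.2
    have hUS : ¬ (S : Subgroup G) ≤ MulAction.stabilizer G γ := fun h => by
      rcases hkey γ fun t ht => h ht.1 with e | e
      · exact hγα e
      · exact hγβ e
    have hc : Nat.card (T × U) ≤ Nat.card M := by
      refine Nat.card_le_card_of_injective (fun p => (⟨(p.1 : G) * p.2, mul_mem (hTM p.1.2) (hSM p.2.2.1)⟩ : M)) ?_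
      rintro ⟨x, y⟩ ⟨x', y'⟩ e
      exact Subgroup.mul_injective_of_disjoint hdis (congrArg Subtype.val e)
    rw [Nat.card_prod, hMcard] at hc
    have hU2 : Nat.card U = 2 := by
      haveI : Nontrivial U := (Subgroup.nontrivial_iff_ne_bot U).2 hγ
      have := Finite.one_lt_card_iff_nontrivial.2 (inferInstance : Nontrivial U)
      have := Nat.le_of_mul_le_mul_left hc (by omega)
      omega
    refine Or.inr (Or.inl ⟨Recognition.FixityTwoSylow.of_card_two hfix S hU2 hUS fun h => ?_, Or.inr hidxS⟩)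
    have hT2 : Nat.card T = 2 := by
      rw [← hMS, hMcard] at h
      omega
    obtain ⟨u, hu⟩ := exists_prime_orderOf_dvd_card' (G := T) 2 (hT2 ▸ dvd_rfl)
    rw [← Subgroup.orderOf_coe] at hu
    refine ⟨u, u.2.1, hu, fun e => ?_⟩
    have h1 := Subgroup.disjoint_def.1 hdis u.2 ⟨u.2.1, e⟩
    rw [h1, orderOf_one] at hu
    norm_num at hu
  push Not at hU
  have hfree : ∀ γ : Ω, ∀ s ∈ (S : Subgroup G), s ≠ 1 → s • γ = γ → s ∈ T := by
    intro γ s hs hs1 hsγ
    by_cases h : γ = α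
    · exact ⟨hs, h ▸ hsγ⟩
    by_cases h' : γ = β
    · exact hTβ.le ⟨hs, h' ▸ hsγ⟩
    · exact absurd (Subgroup.mem_bot.1 ((hU γ h h').le ⟨hs, hsγ⟩)) hs1
  obtain ⟨N, hN2, hNout⟩ := Recognition.FixityTwoSylow.exists_index_two S T inf_le_left hidxS
    (fun g v hv hvT hmem hT' => by
      have h : (g⁻¹ * v * g) • α = α := hT'.2
      rw [mul_smul, mul_smul, inv_smul_eq_iff] at h
      exact hvT (hfree _ v hv (fun e => hvT (e ▸ T.one_mem)) h))
    (fun g v hv hvT k hk hmem => by
      have hk' : v ^ k ∈ T := by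
        obtain ⟨j, rfl⟩ := hk
        rw [← two_mul, pow_mul]
        exact Subgroup.pow_mem _ (show ((⟨v, hv⟩ : (S : Subgroup G)) ^ 2 : (S : Subgroup G)) ∈ T.subgroupOf (S : Subgroup G) from
          (Subgroup.sq_mem_of_index_two hidxS _)) _
      by_cases h1 : g⁻¹ * v ^ k * g = 1
      · rw [h1]; exact T.one_mem
      refine hfree (g⁻¹ • α) _ hmem h1 ?_
      rw [mul_smul, mul_smul, smul_inv_smul, (hk'.2 : v ^ k • α = α)])
  haveI hNn : N.Normal := Subgroup.normal_of_index_eq_two hN2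
  have hwT : w ∉ T := fun h => hβα (hwα.symm.trans h.2)
  have hTN : T ≤ N := fun t ht => by
    have h1 := hNout w hwS hwT
    have h2 := hNout (w * t) (mul_mem hwS ht.1) fun h => hwT ((T.mul_mem_cancel_right ht).1 h)
    rw [Subgroup.mul_mem_iff_of_index_two hN2] at h2
    by_contra ht'
    exact h2 (iff_of_false h1 ht')
  have horb : MulAction.orbit ↥(S : Subgroup G) α = {α, β} := by
    ext x
    constructor
    · rintro ⟨⟨s, hs⟩, rfl⟩
      exact hM2 s (hSM hs)
    · rintro (rfl | rfl)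
      · exact MulAction.mem_orbit_self _
      · exact ⟨⟨w, hwS⟩, hwα⟩
  refine Or.inr (Or.inr (Or.inl ⟨?_, ⟨α, ?_, fun γ hγ => ?_⟩, N, hNn, Or.inl hN2, ?_⟩))
  · rw [← hMS, hMcard]; omega
  · rw [horb, Nat.card_coe_set_eq, Set.ncard_pair hβα.symm]
  · rw [horb, Set.mem_insert_iff, Set.mem_singleton_iff] at hγ
    push Not at hγ
    have hbot : MulAction.stabilizer ↥(S : Subgroup G) γ = ⊥ := (Subgroup.eq_bot_iff_forall _).2 fun s hs =>
      Subtype.ext (Subgroup.mem_bot.1 ((hU γ hγ.1 hγ.2).le ⟨s.2, hs⟩))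
    rw [Nat.card_coe_set_eq, ← MulAction.index_stabilizer, hbot, Subgroup.index_bot]
  -- the stabiliser in `N`
  haveI := htr
  have htwo : ∀ P : Subgroup G, IsPGroup 2 P → P ≤ MulAction.stabilizer G α → Nat.card P ≤ Nat.card T := by
    intro P hP hPα
    obtain ⟨R, hR⟩ := hP.exists_le_sylow
    obtain ⟨g, rfl⟩ := MulAction.exists_smul_eq G S R
    by_contra hlt
    set P' := P.map (MulAut.conj g⁻¹).toMonoidHom
    have hP'S : P' ≤ (S : Subgroup G) ⊓ MulAction.stabilizer G (g⁻¹ • α) := by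
      rintro _ ⟨p, hp, rfl⟩
      refine ⟨?_, ?_⟩
      · have h := hR hp
        rw [Sylow.coe_subgroup_smul] at h
        obtain ⟨s, hs, e⟩ := h
        simpa [← e, mul_assoc] using hs
      · show (g⁻¹ * p * (g⁻¹)⁻¹) • g⁻¹ • α = g⁻¹ • α
        rw [inv_inv, mul_smul, mul_smul, smul_inv_smul, (hPα hp : p • α = α)]
    have hP'c : Nat.card T < Nat.card P' := by
      rw [Subgroup.card_map_of_injective (MulAut.conj g⁻¹).injective]; omega
    by_cases h1 : g⁻¹ • α = α
    · rw [h1, ← hTdef] at hP'S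
      exact absurd (Nat.le_of_dvd Nat.card_pos (Subgroup.card_dvd_of_le hP'S)) (by omega)
    by_cases h2 : g⁻¹ • α = β
    · rw [h2, hTβ, ← hTdef] at hP'S
      exact absurd (Nat.le_of_dvd Nat.card_pos (Subgroup.card_dvd_of_le hP'S)) (by omega)
    · rw [hU _ h1 h2, le_bot_iff] at hP'S
      rw [hP'S, Subgroup.card_bot] at hP'c
      omega
  obtain ⟨Q, hQ⟩ := ((S.isPGroup'.to_le (inf_le_left : T ≤ _)).comap_of_injective
    (MulAction.stabilizer G α).subtype (Subgroup.subtype_injective _)).exists_le_sylow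
  have hQT : (Q : Subgroup (MulAction.stabilizer G α)).map (MulAction.stabilizer G α).subtype = T := by
    refine (Subgroup.eq_of_le_of_card_ge (fun t ht => ?_) (htwo _ (Q.isPGroup'.map _) (Subgroup.map_subtype_le _))).symm
    exact ⟨⟨t, ht.2⟩, hQ ht, rfl⟩
  have hconjT : ∀ x : MulAction.stabilizer G α, (∃ k : ℕ, orderOf x = 2 ^ k) →
      ∃ y : MulAction.stabilizer G α, (y : G)⁻¹ * x * y ∈ T := by
    rintro x ⟨k, hk⟩
    obtain ⟨R, hR⟩ := (IsPGroup.of_card (n := k) (by rw [Nat.card_zpowers, hk]) :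
      IsPGroup 2 (Subgroup.zpowers x)).exists_le_sylow
    obtain ⟨y, rfl⟩ := MulAction.exists_smul_eq (MulAction.stabilizer G α) Q R
    refine ⟨y, hQT.le ?_⟩
    have h := hR (Subgroup.mem_zpowers x)
    rw [Sylow.coe_subgroup_smul] at h
    obtain ⟨s, hs, e⟩ := h
    refine ⟨s, hs, ?_⟩
    rw [← e]
    simp [mul_assoc]
  have hGN : MulAction.stabilizer G α ≤ N := by
    intro x hx
    obtain ⟨k, m, hm, hkm⟩ := Nat.exists_eq_two_pow_mul_odd (orderOf_pos (⟨x, hx⟩ : MulAction.stabilizer G α)).ne'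
    obtain ⟨y, hy⟩ := hconjT (⟨x, hx⟩ ^ m) ⟨k, by
      rw [orderOf_pow' _ (by obtain ⟨j, rfl⟩ := hm; omega), hkm, Nat.gcd_mul_left_left,
        Nat.mul_div_cancel _ (by obtain ⟨j, rfl⟩ := hm; omega)]⟩
    have h1 : x ^ m ∈ N := by
      have := hNn.conj_mem _ (hTN hy) (y : G)
      simpa [mul_assoc] using this
    obtain ⟨j, rfl⟩ := hm
    rw [pow_succ, pow_mul] at h1
    exact (N.mul_mem_cancel_left (Subgroup.pow_mem _ (Subgroup.sq_mem_of_index_two hN2 x) j)).1 h1
  have hout : ∀ m : G, m ∈ N → m • α ≠ β := fun m hm e => by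
    refine hNout w hwS hwT ?_
    have h : m⁻¹ * w ∈ N := hGN (show (m⁻¹ * w) • α = α by rw [mul_smul, hwα, inv_smul_eq_iff, e])
    simpa using N.mul_mem hm h
  refine ⟨(MulAction.stabilizer G α).subgroupOf N, ?_, ?_, ?_⟩
  · intro h
    rw [Subgroup.subgroupOf_eq_bot, disjoint_iff, inf_eq_left.2 hGN] at h
    exact hT (le_bot_iff.1 (h ▸ inf_le_right))
  · intro h
    rw [Subgroup.subgroupOf_eq_top] at h
    refine hT ((Subgroup.eq_bot_iff_forall _).2 fun t ht => ?_)
    refine eq_of_smul_eq_smul (α := Ω) fun x => ?_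
    obtain ⟨g, rfl⟩ := MulAction.exists_smul_eq G α x
    have h1 : (g⁻¹ * t * g) • α = α := h (by simpa using hNn.conj_mem t (hTN ht) g⁻¹)
    rw [one_smul]
    rwa [mul_smul, mul_smul, inv_smul_eq_iff] at h1
  · intro g hg
    refine (Subgroup.eq_bot_iff_forall _).2 fun x hx => ?_
    by_contra hx1
    obtain ⟨hxH, hxg⟩ := hx
    obtain ⟨r, hr, hrd⟩ := Nat.exists_prime_and_dvd (fun h : orderOf x = 1 => hx1 (orderOf_eq_one_iff.1 h))
    haveI := Fact.mk hr
    set y := x ^ (orderOf x / r) with hy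
    have hyo : orderOf y = r := orderOf_pow_orderOf_div (orderOf_pos x).ne' hrd
    have hyα : (y : G) • α = α := ((MulAction.stabilizer G α).subgroupOf N).pow_mem hxH _
    have hyg : (y : G) • (g : G) • α = (g : G) • α := by
      have h : y ∈ MulAut.conj g • (MulAction.stabilizer G α).subgroupOf N := Subgroup.pow_mem _ hxg _
      obtain ⟨z, hz, e⟩ := h
      rw [← e]
      show ((g : G) * z * (g : G)⁻¹) • (g : G) • α = (g : G) • α
      rw [mul_smul, mul_smul, inv_smul_smul, show (z : G) • α = α from hz]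
    have hgα : (g : G) • α ≠ α := hg
    have hy1 : (y : G) ≠ 1 := fun e => hr.ne_one (by
      rw [← hyo, show y = 1 from Subtype.ext e, orderOf_one])
    by_cases hr2 : r = 2
    · obtain ⟨k, hk⟩ := hconjT ⟨y, hyα⟩ ⟨1, by
        rw [← Subgroup.orderOf_coe]
        show orderOf (y : G) = 2 ^ 1
        rw [Subgroup.orderOf_coe, hyo, hr2, pow_one]⟩
      have hkβ : (y : G) • (k : G) • β = (k : G) • β := by
        have h := (hTfix _ hk).2
        rwa [mul_smul, mul_smul, inv_smul_eq_iff] at h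
      refine Recognition.FixityTwoSylow.not_three hfix hy1 hgα.symm (fun e => ?_) (fun e => ?_) hyα hyg hkβ
      · exact hβα (MulAction.injective (k : G) (e.symm.trans k.2.symm))
      · refine hout ((k : G)⁻¹ * g) (mul_mem (inv_mem (hGN k.2)) g.2) ?_
        rw [mul_smul, e, inv_smul_smul]
    · -- odd order: no fixed point in the other orbit
      set X := Subgroup.zpowers y
      have hXp : IsPGroup r X := IsPGroup.of_card (n := 1) (by rw [Nat.card_zpowers, hyo, pow_one])
      have hfixed : ∀ z : Ω, (y : G) • z = z → z = α ∨ z = (g : G) • α := fun z hz => by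
        by_contra h
        push Not at h
        exact Recognition.FixityTwoSylow.not_three hfix hy1 hgα.symm h.1.symm h.2.symm hyα hyg hz
      have hXfix : ∀ {z : Ω}, (y : G) • z = z → ∀ a : X, (a : N) • z = z := fun hz a => by
        obtain ⟨a, i, rfl⟩ := a
        exact (MulAction.stabilizer N _).zpow_mem (show y ∈ MulAction.stabilizer N _ from hz) i
      have h1 := hXp.card_modEq_card_fixedPoints (α := MulAction.orbit N β)
      have h2 := hXp.card_modEq_card_fixedPoints (α := MulAction.orbit N α)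
      haveI : IsEmpty (MulAction.fixedPoints X (MulAction.orbit N β)) := ⟨fun ⟨⟨z, hz⟩, hzf⟩ => by
        obtain ⟨⟨m, hm⟩, hmz⟩ := hz
        have hz' : (y : G) • z = z := congrArg Subtype.val (hzf ⟨y, Subgroup.mem_zpowers y⟩)
        have hmβ : m • β = z := hmz
        rcases hfixed z hz' with e | e
        · exact hout m⁻¹ (inv_mem hm) (by rw [inv_smul_eq_iff, hmβ, e])
        · exact hout (m⁻¹ * g) (mul_mem (inv_mem hm) g.2) (by rw [mul_smul, inv_smul_eq_iff, hmβ, e])⟩
      have hF2 : Nat.card (MulAction.fixedPoints X (MulAction.orbit N α)) = 2 := by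
        rw [Nat.card_eq_two_iff]
        refine ⟨⟨⟨α, MulAction.mem_orbit_self α⟩, fun a => Subtype.ext (hXfix hyα a)⟩,
          ⟨⟨(g : G) • α, ⟨g, rfl⟩⟩, fun a => Subtype.ext (hXfix hyg a)⟩,
          fun e => hgα (congrArg (fun t => (t.1 : Ω)) e).symm, Set.eq_univ_of_forall fun ⟨⟨z, hz⟩, hzf⟩ => ?_⟩
        rcases hfixed z (congrArg Subtype.val (hzf ⟨y, Subgroup.mem_zpowers y⟩)) with rfl | rfl
        · exact Or.inl rfl
        · exact Or.inr rfl
      have hsame : Nat.card (MulAction.orbit N α) = Nat.card (MulAction.orbit N β) := by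
        refine Nat.card_eq_of_bijective (fun z => ⟨w • (z : Ω), ?_⟩) ⟨fun z z' e => ?_, fun z => ?_⟩
        · obtain ⟨⟨m, hm⟩, hmz⟩ := z.2
          refine ⟨⟨w * m * w⁻¹, hNn.conj_mem m hm w⟩, ?_⟩
          show (w * m * w⁻¹) • β = w • (z : Ω)
          rw [← hwα, mul_smul, mul_smul, inv_smul_smul, ← hmz]
          rfl
        · exact Subtype.ext (MulAction.injective w (congrArg Subtype.val e))
        · obtain ⟨⟨m, hm⟩, hmz⟩ := z.2
          refine ⟨⟨w⁻¹ • (z : Ω), ⟨w⁻¹ * m * w, by simpa using hNn.conj_mem m hm w⁻¹⟩, ?_⟩,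
            Subtype.ext (smul_inv_smul _ _)⟩
          show (w⁻¹ * m * w) • α = w⁻¹ • (z : Ω)
          rw [mul_smul, mul_smul, hwα, ← hmz]
          rfl
      rw [Nat.card_of_isEmpty (α := MulAction.fixedPoints X (MulAction.orbit N β))] at h1
      rw [hF2, hsame] at h2
      have h3 : r ∣ 2 := (Nat.modEq_zero_iff_dvd).1 (h2.symm.trans h1)
      exact hr2 ((Nat.prime_dvd_prime_iff_eq hr Nat.prime_two).1 h3)

end Cfsg.Agent.S3390
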