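import Cfsg.Statements.S3391
import Cfsg.Agent.Lib.Suzuki.FixityTwo

-- import your own Cfsg.Agent.* helpers here

set_option autoImplicit false
open Cfsg

namespace Cfsg.Agent.S3391

/-- Let q = 2^{2m+1} ≥ 8 and let G be isomorphic to the Suzuki group Sz(q). If G acts faithfully and transitively on a finite set Ω with fixity 2 (every non-identity element fixes at most two points, and some fixes exactly two), then either |Ω| = q² + 1 and the action is 2-transitive, or |Ω| = q²(q² + 1) and the point stabilizers have order q − 1. -/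
theorem result {G : Type*} [Group G] [Finite G] (F : Type) [Field F] [Fintype F] (m : ℕ) (hm : 1 ≤ m) (hF : Fintype.card F = 2 ^ (2 * m + 1))
    (e : G ≃* ↥(Cfsg.Lie.Sz F (2 ^ (m + 1)))) {Ω : Type*} [Fintype Ω] [MulAction G Ω] [FaithfulSMul G Ω] (htr : MulAction.IsPretransitive G Ω)
    (hfix : ∀ g : G, g ≠ 1 → Nat.card (MulAction.fixedBy Ω g) ≤ 2) (hex : ∃ g : G, g ≠ 1 ∧ Nat.card (MulAction.fixedBy Ω g) = 2) :
    (Fintype.card Ω = Fintype.card F ^ 2 + 1 ∧ MulAction.IsMultiplyPretransitive G Ω 2) ∨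
    (Fintype.card Ω = Fintype.card F ^ 2 * (Fintype.card F ^ 2 + 1) ∧ ∀ α : Ω, Nat.card (MulAction.stabilizer G α) = Fintype.card F - 1) := by
  haveI := Cfsg.Agent.Suzuki.charTwo hF
  let ε : Cfsg.Sz F m ≃* G := (Cfsg.Agent.Suzuki.lieEquiv hm hF).some.trans e.symm
  letI : MulAction (Cfsg.Sz F m) Ω := MulAction.compHom Ω ε.toMonoidHom
  have hfb : ∀ g : Cfsg.Sz F m, MulAction.fixedBy Ω g = MulAction.fixedBy Ω (ε g) := fun g => rfl
  haveI : FaithfulSMul (Cfsg.Sz F m) Ω := ⟨fun {g h} he => ε.injective (FaithfulSMul.eq_of_smul_eq_smul he)⟩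
  have htr' : MulAction.IsPretransitive (Cfsg.Sz F m) Ω := ⟨fun x y => by
    obtain ⟨g, hg⟩ := htr.exists_smul_eq x y
    exact ⟨ε.symm g, show ε (ε.symm g) • x = y by rw [ε.apply_symm_apply, hg]⟩⟩
  obtain ⟨g₀, hg₀, hc₀⟩ := hex
  rcases Cfsg.Agent.Suzuki.fixity_two hm hF htr'
    (fun g hg => by rw [hfb]; exact hfix _ (fun e' => hg (ε.injective (e'.trans (map_one ε).symm))))
    ⟨ε.symm g₀, fun e' => hg₀ (ε.symm.injective (e'.trans (map_one ε.symm).symm)), by
      rw [hfb, ε.apply_symm_apply, hc₀]⟩ with ⟨h1, h2⟩ | ⟨h1, h2⟩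
  · refine Or.inl ⟨by rwa [Nat.card_eq_fintype_card] at h1, ?_⟩
    rw [MulAction.is_two_pretransitive_iff] at h2 ⊢
    intro a b c d hab hcd
    obtain ⟨g, e1, e2⟩ := h2 hab hcd
    exact ⟨ε g, e1, e2⟩
  · refine Or.inr ⟨by rwa [Nat.card_eq_fintype_card] at h1, fun α => ?_⟩
    rw [← h2 α]
    refine (Nat.card_congr (ε.toEquiv.subtypeEquiv fun g => ?_)).symm
    exact Iff.rfl


end Cfsg.Agent.S3391
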