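import Cfsg.Statements.S3399
import Cfsg.Agent.Lib.Perm.Pronormal.Main

set_option autoImplicit false
open Cfsg

namespace Cfsg.Agent.S3399

open Cfsg.Agent.Perm.Pronormal
open scoped Pointwise

/-- Let G be a transitive permutation group of finite degree n and K a nontrivial subgroup of G that is pronormal in G (K and gKg⁻¹ are conjugate inside ⟨K, gKg⁻¹⟩ for every g ∈ G). If K fixes exactly f points, then f ≤ (n − 1)/2, that is, 2f + 1 ≤ n. -/
theorem result (n : ℕ) (G : Subgroup (Equiv.Perm (Fin n)))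
    (htrans : ∀ a b : Fin n, ∃ g ∈ G, g a = b)
    (K : Subgroup (Equiv.Perm (Fin n))) (hKG : K ≤ G) (hK : K ≠ ⊥)
    (hpro : ∀ g ∈ G, ∃ w ∈ K ⊔ K.map (MulAut.conj g).toMonoidHom,
      K.map (MulAut.conj w).toMonoidHom = K.map (MulAut.conj g).toMonoidHom) :
    2 * Nat.card {a : Fin n // ∀ k ∈ K, k a = a} + 1 ≤ n := by
  classical
  set F : Finset (Fin n) := Finset.univ.filter fun a => ∀ k ∈ K, k a = a with hF
  have hmem : ∀ a, a ∈ F ↔ ∀ k ∈ K, k a = a := fun a => by simp [hF]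
  have hsmul : ∀ (g : G) a, a ∈ g • F ↔
      ∀ k ∈ K.map (MulAut.conj (g : Equiv.Perm (Fin n))).toMonoidHom, k a = a := by
    intro g a
    rw [← Finset.inv_smul_mem_iff, hmem]
    simp only [Subgroup.mem_map, forall_exists_index, and_imp, forall_apply_eq_imp_iff₂]
    refine forall₂_congr fun k _ => ?_
    show k ((g : Equiv.Perm (Fin n))⁻¹ a) = (g : Equiv.Perm (Fin n))⁻¹ a ↔
      ((g : Equiv.Perm (Fin n)) * k * (g : Equiv.Perm (Fin n))⁻¹) a = a
    rw [Equiv.Perm.mul_apply, Equiv.Perm.mul_apply]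
    exact ⟨fun h => by rw [h]; exact (g : Equiv.Perm (Fin n)).apply_symm_apply a,
      fun h => (g : Equiv.Perm (Fin n)).injective (h.trans ((g : Equiv.Perm (Fin n)).apply_symm_apply a).symm)⟩
  have htr : MulAction.IsPretransitive G (Fin n) := ⟨fun a b => by
    obtain ⟨g, hg, e⟩ := htrans a b
    exact ⟨⟨g, hg⟩, e⟩⟩
  have hKfix : K.subgroupOf G ≤ fixer G F := fun k hk =>
    mem_fixer.2 fun a ha => (hmem a).1 ha _ (Subgroup.mem_subgroupOf.1 hk)
  have hP : Pro G F := by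
    intro g
    set K' := K.map (MulAut.conj (g : Equiv.Perm (Fin n))).toMonoidHom
    have hK'G : K' ≤ G := by
      rintro _ ⟨k, hk, rfl⟩
      exact G.mul_mem (G.mul_mem g.2 (hKG hk)) (G.inv_mem g.2)
    have hK'fix : K'.subgroupOf G ≤ fixer G (g • F) := fun k hk =>
      mem_fixer.2 fun a ha => (hsmul g a).1 ha _ (Subgroup.mem_subgroupOf.1 hk)
    obtain ⟨w, hw, hwK⟩ := hpro g g.2
    have hwG : w ∈ G := sup_le hKG hK'G hw
    refine ⟨⟨w, hwG⟩, sup_le_sup hKfix hK'fix ?_, ?_⟩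
    · rw [← Subgroup.subgroupOf_sup hKG hK'G]
      exact hw
    · ext a
      rw [hsmul, hsmul]
      show (∀ k ∈ K.map (MulAut.conj w).toMonoidHom, k a = a) ↔ _
      rw [hwK]
  have hne : F ≠ Finset.univ := fun e => hK (eq_bot_iff.2 fun k hk => by
    rw [Subgroup.mem_bot]
    ext a
    rw [(hmem a).1 (e ▸ Finset.mem_univ a) k hk]
    rfl)
  have := bound n G (Fin n) F hP hne (Fintype.card_fin n)
  rwa [Nat.card_eq_fintype_card, Fintype.card_subtype]

end Cfsg.Agent.S3399
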