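import Cfsg.Statements.S3401
import Cfsg.Agent.Recognition.DegreeTwoModFour
-- import your own Cfsg.Agent.* helpers here

set_option autoImplicit false
open Cfsg

namespace Cfsg.Agent.S3401

/-- Let G be a doubly transitive permutation group on a finite set Ω with |Ω| ≡ 2 mod 4 and |Ω| > 2. Then G has a unique minimal normal subgroup M (a nontrivial normal subgroup contained in every nontrivial normal subgroup); M is simple and doubly transitive on Ω, and its centralizer in G is trivial (so G embeds in Aut(M)). -/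
theorem result {G : Type*} [Group G] [Finite G] {Ω : Type*} [Fintype Ω] [MulAction G Ω] [FaithfulSMul G Ω]
    (h2 : MulAction.IsMultiplyPretransitive G Ω 2) (hn : Fintype.card Ω % 4 = 2) (hn2 : 2 < Fintype.card Ω) :
    ∃ M : Subgroup G, M.Normal ∧ M ≠ ⊥ ∧ (∀ N : Subgroup G, N.Normal → N ≠ ⊥ → M ≤ N) ∧
      IsSimpleGroup ↥M ∧ MulAction.IsMultiplyPretransitive ↥M Ω 2 ∧ Subgroup.centralizer (M : Set G) = ⊥ := by
  have hn' : Nat.card Ω % 4 = 2 := by rw [Nat.card_eq_fintype_card]; exact hn
  have hn2' : 2 < Nat.card Ω := by rw [Nat.card_eq_fintype_card]; exact hn2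
  obtain ⟨M, hM, hM1, hmin, hC⟩ := Recognition.DegreeTwoModFour.exists_socle h2 hn' hn2'
  have hM2 := Recognition.DegreeTwoModFour.two_transitive h2 hn' M hM1
  obtain ⟨L, hL, hL1, hLmin, -⟩ := Recognition.DegreeTwoModFour.exists_socle hM2 hn' hn2'
  -- the minimal normal subgroup of `M` is normal in `G`
  set K := L.map M.subtype with hK
  have hKn : K.Normal := by
    refine ⟨?_⟩
    rintro _ ⟨x, hx, rfl⟩ g
    have hle : L ≤ L.map (MulAut.conjNormal g : MulAut M).toMonoidHom := by
      refine hLmin _ (Subgroup.Normal.map hL _ (MulAut.conjNormal g : MulAut M).surjective) fun h => hL1 ?_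
      exact (Subgroup.map_eq_bot_iff_of_injective L (MulAut.conjNormal g : MulAut M).injective).1 h
    have heq := Subgroup.eq_of_le_of_card_ge hle
      (Subgroup.card_map_of_injective (MulAut.conjNormal g : MulAut M).injective).le
    refine ⟨(MulAut.conjNormal g : MulAut M) x, ?_, by simp⟩
    exact heq ▸ Subgroup.mem_map_of_mem _ hx
  have hKtop : L = ⊤ := by
    have hle : M ≤ K := hmin K hKn fun h => hL1 ((Subgroup.map_eq_bot_iff_of_injective L M.subtype_injective).1 h)
    refine eq_top_iff.2 fun x _ => ?_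
    obtain ⟨y, hy, e⟩ := hle x.2
    rwa [← Subtype.ext e]
  haveI : Nontrivial M := (Subgroup.nontrivial_iff_ne_bot M).2 hM1
  refine ⟨M, hM, hM1, hmin, ⟨fun H hH => ?_⟩, hM2, hC⟩
  by_cases h : H = ⊥
  · exact Or.inl h
  · exact Or.inr (eq_top_iff.2 (hKtop ▸ hLmin H hH h))

end Cfsg.Agent.S3401
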