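import Cfsg.Statements.S3403
import Cfsg.Agent.Lib.ElevenPairs.Main
import Cfsg.Agent.Lib.ElevenPairs.Reduction
import Cfsg.Agent.Lib.Classical.SmallIso

set_option autoImplicit false
open Cfsg

namespace Cfsg.Agent.S3403

/-- Let G be a finite group and P a non-normal subgroup of order 11 whose conjugates generate G, such that any two distinct conjugates of P generate a subgroup isomorphic to PSL(2, 11) or to the first Janko group. Then G itself is isomorphic to PSL(2, 11) or to the first Janko group. -/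
theorem result {G : Type*} [Group G] [Finite G] {F : Type*} [Field F] [Fintype F] (hF : Fintype.card F = 11)
    (P : Subgroup G) (hP : Nat.card ↥P = 11) (hPn : ¬ P.Normal) (hgen : Subgroup.normalClosure (P : Set G) = ⊤)
    (hpair : ∀ g : G, P.map (MulAut.conj g).toMonoidHom ≠ P →
      Nonempty (↥(P ⊔ P.map (MulAut.conj g).toMonoidHom) ≃* Matrix.ProjectiveSpecialLinearGroup (Fin 2) F) ∨
        Cfsg.Spor.IsoJ1 ↥(P ⊔ P.map (MulAut.conj g).toMonoidHom)) :
    Nonempty (G ≃* Matrix.ProjectiveSpecialLinearGroup (Fin 2) F) ∨ Cfsg.Spor.IsoJ1 G := by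
  haveI : Fact (Nat.Prime 11) := ⟨by norm_num⟩
  obtain ⟨c⟩ : Nonempty (Matrix.ProjectiveSpecialLinearGroup (Fin 2) F ≃*
      Matrix.ProjectiveSpecialLinearGroup (Fin 2) (ZMod 11)) :=
    ⟨Classical.SmallIso.pslCongr (FiniteField.ringEquivOfCardEq (by rw [hF, ZMod.card]))⟩
  have h : ElevenPairs.Setting P := ⟨hP, hPn, hgen, fun Q ⟨g, hg⟩ hne => by
    subst hg
    exact (hpair g hne).imp (fun ⟨e⟩ => ⟨e.trans c⟩) id⟩
  obtain ⟨Q, hQ, hne, htop⟩ := h.exists_top fun H _ _ P' hC => hC.false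
  let e : ↥(P ⊔ Q) ≃* G := (MulEquiv.subgroupCongr htop).trans Subgroup.topEquiv
  rcases h.pair Q hQ hne with ⟨⟨a⟩⟩ | hJ
  · exact Or.inl ⟨e.symm.trans (a.trans c.symm)⟩
  · obtain ⟨a⟩ := hJ
    exact Or.inr ⟨e.symm.trans a⟩

end Cfsg.Agent.S3403
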