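import Cfsg.Statements.S3419
import Cfsg.Agent.Recognition.AltLargePrimes
import Cfsg.Agent.GStructB.ThreePrimes
import Cfsg.Agent.Recognition.AltSpectrum

set_option autoImplicit false
open Cfsg

namespace Cfsg.Agent.S3419

/-- Let n ≥ 5 and let G be a finite group with the same order and the same set of element orders as the alternating group of degree n. Then G is not solvable. -/
theorem result {G : Type*} [Group G] [Finite G] (n : ℕ) (hn : 5 ≤ n)
    (hcard : Nat.card G = Nat.card ↥(alternatingGroup (Fin n)))
    (hspec : Set.range (orderOf : G → ℕ) = Set.range (orderOf : ↥(alternatingGroup (Fin n)) → ℕ)) :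
    ¬ Group.IsSolvable G := by
  intro hs
  by_cases h6 : n = 6
  · subst h6
    obtain ⟨i, j, hij, x, hx⟩ := Cfsg.Agent.GStructB.ThreePrimes.exists_pair (G := G) ![2, 3, 5]
      (fun i => by fin_cases i <;> norm_num)
      (fun i j hij => by fin_cases i <;> fin_cases j <;> simp at hij <;> rfl)
      (fun i => by
        have hc : Nat.card G = 360 := by
          have := Cfsg.Agent.Recognition.AltLargePrimes.two_mul_card (by norm_num) hcard
          simp [Nat.factorial] at this
          omega
        rw [hc]; fin_cases i <;> decide)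
    have hm : orderOf x ∈ (↑({1, 2, 3, 4, 5} : Finset ℕ) : Set ℕ) := by
      rw [← Cfsg.Agent.Recognition.AltSpectrum.range_orderOf_alt6, ← hspec]
      exact ⟨x, rfl⟩
    rw [hx] at hm
    fin_cases i <;> fin_cases j <;> simp at hij hm
  by_cases h10 : n = 10
  · subst h10
    exact Cfsg.Agent.Recognition.AltLargePrimes.not_solvable_ten hcard hspec hs
  obtain ⟨N, H, hN, hH, hlt, hsim, hc, -⟩ := Cfsg.Agent.Recognition.AltLargePrimes.exists_section
    hn hcard hspec (Cfsg.Agent.Recognition.AltLargePrimes.exists_two hn h6 h10)
  haveI := hs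
  haveI := hsim
  exact hc ⟨⟨fun a b => IsSimpleGroup.comm_iff_isSolvable.2 inferInstance a b⟩⟩

end Cfsg.Agent.S3419
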