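import Cfsg.Statements.S3437
import Cfsg.Agent.Recognition.SmallFrobenius

set_option autoImplicit false
set_option maxRecDepth 100000
open Cfsg

namespace Cfsg.Agent.S3437

open Matrix Cfsg.Agent.Recognition

open Cfsg.Agent.Recognition.SmallFrobenius in
/-- The first generator. -/
def gA : Q := ((0, 3), (0, 0), (0, 0), (0, 11))

open Cfsg.Agent.Recognition.SmallFrobenius in
/-- Its inverse. -/
def gA' : Q := ((0, 11), (0, 0), (0, 0), (0, 3))

open Cfsg.Agent.Recognition.SmallFrobenius in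
/-- The second generator. -/
def gB : Q := ((2, 0), (0, 3), (0, 1), (10, 0))

open Cfsg.Agent.Recognition.SmallFrobenius in
/-- Its inverse. -/
def gB' : Q := ((10, 0), (0, 10), (0, 12), (2, 0))

open Cfsg.Agent.Recognition.SmallFrobenius in
/-- The elements of the complement. -/
def elems : List Q := [
  ((1, 0), (0, 0), (0, 0), (1, 0)),
  ((0, 3), (0, 0), (0, 0), (0, 11)),
  ((2, 0), (0, 3), (0, 1), (10, 0)),
  ((5, 0), (0, 0), (0, 0), (8, 0)),
  ((0, 6), (5, 0), (9, 0), (0, 6)),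
  ((0, 6), (1, 0), (6, 0), (0, 6)),
  ((10, 0), (0, 10), (0, 12), (2, 0)),
  ((0, 2), (0, 0), (0, 0), (0, 10)),
  ((10, 0), (0, 2), (0, 8), (2, 0)),
  ((10, 0), (0, 3), (0, 1), (2, 0)),
  ((0, 4), (8, 0), (4, 0), (0, 9)),
  ((10, 0), (0, 11), (0, 5), (2, 0)),
  ((0, 0), (7, 0), (11, 0), (0, 0)),
  ((0, 4), (12, 0), (7, 0), (0, 9)),
  ((12, 0), (0, 0), (0, 0), (12, 0)),
  ((0, 4), (5, 0), (9, 0), (0, 9)),
  ((11, 0), (0, 11), (0, 5), (3, 0)),
  ((0, 4), (1, 0), (6, 0), (0, 9)),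
  ((0, 0), (0, 8), (0, 4), (0, 0)),
  ((11, 0), (0, 10), (0, 12), (3, 0)),
  ((3, 0), (0, 10), (0, 12), (11, 0)),
  ((0, 0), (0, 12), (0, 7), (0, 0)),
  ((0, 7), (5, 0), (9, 0), (0, 7)),
  ((11, 0), (0, 2), (0, 8), (3, 0)),
  ((0, 7), (1, 0), (6, 0), (0, 7)),
  ((0, 10), (0, 0), (0, 0), (0, 2)),
  ((11, 0), (0, 3), (0, 1), (3, 0)),
  ((0, 0), (9, 0), (10, 0), (0, 0)),
  ((0, 7), (8, 0), (4, 0), (0, 7)),
  ((0, 9), (8, 0), (4, 0), (0, 4)),
  ((3, 0), (0, 2), (0, 8), (11, 0)),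
  ((0, 7), (12, 0), (7, 0), (0, 7)),
  ((3, 0), (0, 3), (0, 1), (11, 0)),
  ((0, 9), (12, 0), (7, 0), (0, 4)),
  ((0, 0), (0, 5), (0, 9), (0, 0)),
  ((0, 0), (4, 0), (3, 0), (0, 0)),
  ((0, 0), (0, 1), (0, 6), (0, 0)),
  ((3, 0), (0, 11), (0, 5), (11, 0)),
  ((8, 0), (0, 0), (0, 0), (5, 0)),
  ((2, 0), (0, 11), (0, 5), (10, 0)),
  ((0, 9), (5, 0), (9, 0), (0, 4)),
  ((2, 0), (0, 10), (0, 12), (10, 0)),
  ((0, 0), (6, 0), (2, 0), (0, 0)),
  ((0, 9), (1, 0), (6, 0), (0, 4)),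
  ((2, 0), (0, 2), (0, 8), (10, 0)),
  ((0, 11), (0, 0), (0, 0), (0, 3)),
  ((0, 6), (8, 0), (4, 0), (0, 6)),
  ((0, 6), (12, 0), (7, 0), (0, 6))]

open Cfsg.Agent.Recognition.SmallFrobenius in
theorem checked : check 13 2 gA gA' gB gB' elems [6, 8] = true := by decide +kernel

open Cfsg.Agent.Recognition.SmallFrobenius in
theorem witnesses :
    (let x := ([true, true, true, true, false] : List Bool).foldr (fun b y => qmul 13 2 (if b then gA else gB) y) qone
     qred 13 (qpow 13 2 x 6) = qone ∧ ∀ i ∈ List.range 6, 0 < i → qred 13 (qpow 13 2 x i) ≠ qone) ∧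
    (let x := ([true] : List Bool).foldr (fun b y => qmul 13 2 (if b then gA else gB) y) qone
     qred 13 (qpow 13 2 x 8) = qone ∧ ∀ i ∈ List.range 8, 0 < i → qred 13 (qpow 13 2 x i) ≠ qone) := by
  decide +kernel

/-- Companion matrices of three cubics. -/
def comp (a b : ZMod 3) : SpecialLinearGroup (Fin 3) (ZMod 3) :=
  ⟨!![0, 0, 1; 1, 0, -b; 0, 1, a], by simp [Matrix.det_fin_three]⟩

theorem comp_orders : (comp 2 2 ^ 6 = 1 ∧ ∀ i ∈ List.range 6, 0 < i → comp 2 2 ^ i ≠ 1) ∧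
    (comp 1 0 ^ 8 = 1 ∧ ∀ i ∈ List.range 8, 0 < i → comp 1 0 ^ i ≠ 1) ∧
    (comp 0 2 ^ 13 = 1 ∧ ∀ i ∈ List.range 13, 0 < i → comp 0 2 ^ i ≠ 1) := by decide +kernel

theorem table : ∀ a b : ZMod 3, ∃ N ∈ [13, 6, 8], (Cubic.step a b)^[N] (1, 0, 0) = (1, 0, 0) := by decide +kernel

/-- There is a finite solvable group with exactly the same set of element orders as the simple group PSL(3,3). -/
theorem result {F : Type*} [Field F] [Fintype F] (hF : Fintype.card F = 3) :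
    ∃ (H : Type) (_ : Group H) (_ : Fintype H), Group.IsSolvable H ∧
      Set.range (orderOf : H → ℕ) = Set.range (orderOf : Matrix.ProjectiveSpecialLinearGroup (Fin 3) F → ℕ) := by
  classical
  haveI := Fact.mk Nat.prime_three
  haveI : CharP F 3 := charP_of_card_eq_prime_pow (f := 1) (by rw [Fintype.card_eq_nat_card] at hF; simpa using hF)
  set φ : ZMod 3 →+* F := ZMod.castHom dvd_rfl F with hφ
  have hinj : Function.Injective φ := φ.injective
  have hsurj : Function.Surjective φ :=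
    (hinj.bijective_of_nat_card_le (by rw [Nat.card_zmod, Nat.card_eq_fintype_card, hF])).2
  have hZ : Subgroup.center (Matrix.SpecialLinearGroup (Fin 3) F) = ⊥ := by
    have h := Cubic.center_eq_bot (⊤ : Subgroup (Matrix.SpecialLinearGroup (Fin 3) F)) trivial trivial trivial
    rw [Subgroup.eq_bot_iff_forall] at h ⊢
    intro z hz
    exact congrArg Subtype.val (h ⟨z, trivial⟩ (Subgroup.mem_center_iff.2 fun g =>
      Subtype.ext (Subgroup.mem_center_iff.1 hz g.1)))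
  have hinjSL : Function.Injective (Matrix.SpecialLinearGroup.map (n := Fin 3) φ) := fun x y h => by
    apply Subtype.ext
    ext i j
    exact hinj (congrArg (fun z : Matrix.SpecialLinearGroup (Fin 3) F => z.1 i j) h)
  have hwit : ∀ (x : SpecialLinearGroup (Fin 3) (ZMod 3)) (N : ℕ), 0 < N → x ^ N = 1 →
      (∀ i ∈ List.range N, 0 < i → x ^ i ≠ 1) → ∃ g : SpecialLinearGroup (Fin 3) F, orderOf g = N :=
    fun x N hN h1 h2 => ⟨Matrix.SpecialLinearGroup.map φ x, by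
      rw [orderOf_injective _ hinjSL]
      exact Cubic.orderOf_eq_of_checks x N hN h1 fun m hm h0 => h2 m (List.mem_range.2 hm) h0⟩
  have hL : Set.range (orderOf : Matrix.ProjectiveSpecialLinearGroup (Fin 3) F → ℕ) =
      {d | ∃ N ∈ [13, 6, 8], d ∣ N ∧ N ≠ 0} := by
    refine (Cubic.range_orderOf_quotient hZ).trans (Cubic.range_orderOf_eq_divisors _ (fun g => ?_) ?_)
    · obtain ⟨a, ha⟩ := hsurj g.1.trace
      obtain ⟨b, hb⟩ := hsurj g.1.adjugate.trace
      obtain ⟨N, hN, h⟩ := table a b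
      exact ⟨N, hN, Cubic.pow_eq_one φ g a b ha hb h⟩
    · intro N hN
      simp only [List.mem_cons, List.not_mem_nil, or_false] at hN
      rcases hN with rfl | rfl | rfl
      · exact hwit _ 13 (by norm_num) comp_orders.2.2.1 comp_orders.2.2.2
      · exact hwit _ 6 (by norm_num) comp_orders.1.1 comp_orders.1.2
      · exact hwit _ 8 (by norm_num) comp_orders.2.1.1 comp_orders.2.1.2
  rw [hL]
  refine SmallFrobenius.exists_spectrum_of_check 13 2 (by norm_num) gA gA' gB gB' elems [6, 8]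
    (by decide) checked ?_
  intro N hN
  simp only [List.mem_cons, List.not_mem_nil, or_false] at hN
  rcases hN with rfl | rfl
  · exact ⟨_, witnesses.1⟩
  · exact ⟨_, witnesses.2⟩

end Cfsg.Agent.S3437
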