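import Cfsg.Statements.S3438
import Cfsg.Agent.Recognition.SmallFrobenius

set_option autoImplicit false
set_option maxRecDepth 100000
open Cfsg

namespace Cfsg.Agent.S3438

open Matrix Cfsg.Agent.Recognition

open Cfsg.Agent.Recognition.SmallFrobenius in
/-- The first generator. -/
def gA : Q := ((0, 0), (0, 1), (1, 0), (0, 0))

open Cfsg.Agent.Recognition.SmallFrobenius in
/-- Its inverse. -/
def gA' : Q := ((0, 0), (1, 0), (0, 6), (0, 0))

open Cfsg.Agent.Recognition.SmallFrobenius in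
/-- The second generator. -/
def gB : Q := ((2, 0), (0, 0), (0, 0), (4, 0))

open Cfsg.Agent.Recognition.SmallFrobenius in
/-- Its inverse. -/
def gB' : Q := ((4, 0), (0, 0), (0, 0), (2, 0))

open Cfsg.Agent.Recognition.SmallFrobenius in
/-- The elements of the complement. -/
def elems : List Q := [
  ((1, 0), (0, 0), (0, 0), (1, 0)),
  ((0, 0), (0, 1), (1, 0), (0, 0)),
  ((2, 0), (0, 0), (0, 0), (4, 0)),
  ((0, 1), (0, 0), (0, 0), (0, 1)),
  ((0, 0), (0, 4), (2, 0), (0, 0)),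
  ((0, 0), (0, 2), (4, 0), (0, 0)),
  ((4, 0), (0, 0), (0, 0), (2, 0)),
  ((0, 0), (6, 0), (0, 1), (0, 0)),
  ((0, 2), (0, 0), (0, 0), (0, 4)),
  ((0, 4), (0, 0), (0, 0), (0, 2)),
  ((6, 0), (0, 0), (0, 0), (6, 0)),
  ((0, 0), (3, 0), (0, 2), (0, 0)),
  ((0, 0), (5, 0), (0, 4), (0, 0)),
  ((0, 0), (0, 6), (6, 0), (0, 0)),
  ((5, 0), (0, 0), (0, 0), (3, 0)),
  ((3, 0), (0, 0), (0, 0), (5, 0)),
  ((0, 6), (0, 0), (0, 0), (0, 6)),
  ((0, 0), (0, 3), (5, 0), (0, 0)),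
  ((0, 0), (0, 5), (3, 0), (0, 0)),
  ((0, 0), (1, 0), (0, 6), (0, 0)),
  ((0, 5), (0, 0), (0, 0), (0, 3)),
  ((0, 3), (0, 0), (0, 0), (0, 5)),
  ((0, 0), (4, 0), (0, 5), (0, 0)),
  ((0, 0), (2, 0), (0, 3), (0, 0))]

open Cfsg.Agent.Recognition.SmallFrobenius in
theorem checked : check 7 6 gA gA' gB gB' elems [8, 12] = true := by decide +kernel

open Cfsg.Agent.Recognition.SmallFrobenius in
theorem witnesses :
    (let x := ([true] : List Bool).foldr (fun b y => qmul 7 6 (if b then gA else gB) y) qone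
     qred 7 (qpow 7 6 x 8) = qone ∧ ∀ i ∈ List.range 8, 0 < i → qred 7 (qpow 7 6 x i) ≠ qone) ∧
    (let x := ([true, true, false] : List Bool).foldr (fun b y => qmul 7 6 (if b then gA else gB) y) qone
     qred 7 (qpow 7 6 x 12) = qone ∧ ∀ i ∈ List.range 12, 0 < i → qred 7 (qpow 7 6 x i) ≠ qone) := by
  decide +kernel

/-- The field with nine elements. -/
abbrev K := Cfsg.Agent.Recognition.SmallFrobenius.Ext 3 2

/-- A unitary matrix of order 7. -/
def w7 : SpecialLinearGroup (Fin 3) K := ⟨!![⟨0, 0⟩, ⟨1, 1⟩, ⟨1, 1⟩; ⟨0, 0⟩, ⟨1, 1⟩, ⟨2, 2⟩; ⟨0, 1⟩, ⟨0, 0⟩, ⟨0, 0⟩], by decide +kernel⟩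

theorem w7_unitary : ∀ i j : Fin 3, ∑ k, w7.1 k i * (w7.1 k j) ^ 3 = if i = j then 1 else 0 := by decide +kernel

theorem w7_order : w7 ^ 7 = 1 ∧ ∀ i ∈ List.range 7, 0 < i → w7 ^ i ≠ 1 := by decide +kernel

/-- A unitary matrix of order 8. -/
def w8 : SpecialLinearGroup (Fin 3) K := ⟨!![⟨0, 0⟩, ⟨0, 0⟩, ⟨1, 0⟩; ⟨0, 0⟩, ⟨0, 1⟩, ⟨0, 0⟩; ⟨0, 1⟩, ⟨0, 0⟩, ⟨0, 0⟩], by decide +kernel⟩

theorem w8_unitary : ∀ i j : Fin 3, ∑ k, w8.1 k i * (w8.1 k j) ^ 3 = if i = j then 1 else 0 := by decide +kernel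

theorem w8_order : w8 ^ 8 = 1 ∧ ∀ i ∈ List.range 8, 0 < i → w8 ^ i ≠ 1 := by decide +kernel

/-- A unitary matrix of order 12. -/
def w12 : SpecialLinearGroup (Fin 3) K := ⟨!![⟨0, 0⟩, ⟨1, 1⟩, ⟨1, 2⟩; ⟨0, 0⟩, ⟨2, 1⟩, ⟨2, 2⟩; ⟨0, 1⟩, ⟨0, 0⟩, ⟨0, 0⟩], by decide +kernel⟩

theorem w12_unitary : ∀ i j : Fin 3, ∑ k, w12.1 k i * (w12.1 k j) ^ 3 = if i = j then 1 else 0 := by decide +kernel

theorem w12_order : w12 ^ 12 = 1 ∧ ∀ i ∈ List.range 12, 0 < i → w12 ^ i ≠ 1 := by decide +kernel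

theorem table : ∀ a : K, ∃ N ∈ [7, 8, 12], (Cubic.step a (a ^ 3))^[N] (1, 0, 0) = (1, 0, 0) := by decide +kernel

theorem inverses : ∀ z : K, z = 0 ∨ ∃ y : K, z * y = 1 := by decide +kernel

set_option maxHeartbeats 1000000 in
/-- There is a finite solvable group with exactly the same set of element orders as the simple group PSU(3,3) (realised over the field with 9 elements). -/
theorem result {F : Type*} [Field F] [Fintype F] (hF : Fintype.card F = 9) :
    ∃ (H : Type) (_ : Group H) (_ : Fintype H), Group.IsSolvable H ∧ Set.range (orderOf : H → ℕ) = Set.range (orderOf : Cfsg.PSU 3 F 3 → ℕ) := by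
  classical
  haveI := Fact.mk Nat.prime_three
  haveI : CharP F 3 := charP_of_card_eq_prime_pow (f := 2) (by rw [Fintype.card_eq_nat_card] at hF; simpa using hF)
  letI := ZMod.algebra F 3
  obtain ⟨c, hc⟩ : IsSquare (-1 : F) := FiniteField.isSquare_neg_one_iff.2 (by rw [hF]; norm_num)
  have hc' : c * c = ((2 : ℕ) : ZMod 3) • (1 : F) + (0 : ZMod 3) • c := by
    rw [← hc, zero_smul, add_zero, Nat.cast_smul_eq_nsmul, nsmul_eq_mul, mul_one]
    have h3 : ((3 : ℕ) : F) = 0 := CharP.cast_eq_zero F 3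
    push_cast at h3 ⊢
    linear_combination -h3
  let φ : K →+* F := (QuadraticAlgebra.lift ⟨c, hc'⟩).toRingHom
  have hinj : Function.Injective φ := by
    rw [injective_iff_map_eq_zero]
    intro z hz
    rcases inverses z with h | ⟨y, hy⟩
    · exact h
    · have h1 := congrArg φ hy
      rw [map_mul, hz, zero_mul, map_one] at h1
      exact absurd h1 zero_ne_one
  have hsurj : Function.Surjective φ :=
    (hinj.bijective_of_nat_card_le (by
      rw [Nat.card_congr (QuadraticAlgebra.equivProd _ _), Nat.card_prod, Nat.card_zmod, Nat.card_eq_fintype_card, hF])).2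
  have hinjSL : Function.Injective (Matrix.SpecialLinearGroup.map (n := Fin 3) φ) := fun x y h => by
    apply Subtype.ext
    refine Matrix.ext fun i j => ?_
    exact hinj (congrArg (fun z : Matrix.SpecialLinearGroup (Fin 3) F => z.1 i j) h)
  -- membership in the unitary group
  have hmem : ∀ g : Matrix.SpecialLinearGroup (Fin 3) F,
      (∀ i j : Fin 3, ∑ k, g.1 k i * (g.1 k j) ^ 3 = if i = j then 1 else 0) → g ∈ Cfsg.SU 3 F 3 := by
    intro g hg u v
    show ∑ k, (g.1 *ᵥ u) k * ((g.1 *ᵥ v) k) ^ 3 = ∑ k, u k * (v k) ^ 3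
    simp only [Fin.forall_fin_succ, Fin.forall_fin_zero, Fin.sum_univ_three] at hg
    simp only [Matrix.mulVec, dotProduct, Fin.sum_univ_three, add_pow_char, mul_pow]
    simp at hg
    obtain ⟨⟨e00, e01, e02⟩, ⟨e10, e11, e12⟩, e20, e21, e22⟩ := hg
    linear_combination (u 0 * v 0 ^ 3) * e00 + (u 0 * v 1 ^ 3) * e01 + (u 0 * v 2 ^ 3) * e02 +
      (u 1 * v 0 ^ 3) * e10 + (u 1 * v 1 ^ 3) * e11 + (u 1 * v 2 ^ 3) * e12 +
      (u 2 * v 0 ^ 3) * e20 + (u 2 * v 1 ^ 3) * e21 + (u 2 * v 2 ^ 3) * e22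
  have hmem' : ∀ w : SpecialLinearGroup (Fin 3) K,
      (∀ i j : Fin 3, ∑ k, w.1 k i * (w.1 k j) ^ 3 = if i = j then 1 else 0) →
      Matrix.SpecialLinearGroup.map φ w ∈ Cfsg.SU 3 F 3 := fun w hw => hmem _ fun i j => by
    have h := congrArg φ (hw i j)
    simp only [map_sum, map_mul, map_pow, apply_ite φ, map_one, map_zero] at h
    exact h
  have hZ : Subgroup.center (Cfsg.SU 3 F 3) = ⊥ := by
    refine Cubic.center_eq_bot _ ?_ ?_ ?_ <;> refine hmem _ fun i j => ?_ <;>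
      fin_cases i <;> fin_cases j <;> simp [Cubic.diag₁, Cubic.diag₂, Cubic.cyc, Fin.sum_univ_succ, Odd.neg_one_pow (show Odd 3 by decide)]
  have hL : Set.range (orderOf : Cfsg.PSU 3 F 3 → ℕ) = {d | ∃ N ∈ [7, 8, 12], d ∣ N ∧ N ≠ 0} := by
    refine (Cubic.range_orderOf_quotient hZ).trans (Cubic.range_orderOf_eq_divisors _ (fun g => ?_) ?_)
    · obtain ⟨g, hg⟩ := g
      obtain ⟨a, ha⟩ := hsurj g.1.trace
      obtain ⟨N, hN, h⟩ := table a
      refine ⟨N, hN, Subtype.ext (Cubic.pow_eq_one φ g a (a ^ 3) ha ?_ h)⟩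
      have hu : g.1ᵀ * g.1.map (· ^ 3) = 1 := by
        ext i j
        have h1 : ∑ k, (g.1 *ᵥ Pi.single i 1) k * ((g.1 *ᵥ Pi.single j 1) k) ^ 3 =
            ∑ k, (Pi.single i 1 : Fin 3 → F) k * ((Pi.single j 1 : Fin 3 → F) k) ^ 3 := hg (Pi.single i 1) (Pi.single j 1)
        rw [Matrix.mulVec_single_one, Matrix.mulVec_single_one] at h1
        rw [Matrix.mul_apply]
        simp only [Matrix.transpose_apply, Matrix.map_apply]
        rw [show (1 : Matrix (Fin 3) (Fin 3) F) i j = ∑ k, (Pi.single i 1 : Fin 3 → F) k * ((Pi.single j 1 : Fin 3 → F) k) ^ 3 by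
          fin_cases i <;> fin_cases j <;> simp [Fin.sum_univ_three, Matrix.one_apply]]
        exact h1
      have hinv : g.1.adjugate = (g.1.map (· ^ 3))ᵀ := by
        have h2 : (g.1.map (· ^ 3))ᵀ * g.1 = 1 := by
          have := congrArg Matrix.transpose hu
          rwa [Matrix.transpose_mul, Matrix.transpose_transpose, Matrix.transpose_one] at this
        calc g.1.adjugate = ((g.1.map (· ^ 3))ᵀ * g.1) * g.1.adjugate := by rw [h2, one_mul]
          _ = _ := by rw [mul_assoc, Matrix.mul_adjugate, g.2, one_smul, mul_one]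
      rw [map_pow, ha, hinv, Matrix.trace_transpose]
      simp only [Matrix.trace, Matrix.diag, Fin.sum_univ_three, Matrix.map_apply, add_pow_char]
    · intro N hN
      simp only [List.mem_cons, List.not_mem_nil, or_false] at hN
      have hw : ∀ (w : SpecialLinearGroup (Fin 3) K),
          (∀ i j : Fin 3, ∑ k, w.1 k i * (w.1 k j) ^ 3 = if i = j then 1 else 0) → ∀ n, 0 < n → w ^ n = 1 →
          (∀ i ∈ List.range n, 0 < i → w ^ i ≠ 1) → ∃ g : Cfsg.SU 3 F 3, orderOf g = n :=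
        fun w hw n hn h1 h2 => ⟨⟨_, hmem' w hw⟩, by
          rw [Subgroup.orderOf_mk, orderOf_injective _ hinjSL]
          exact Cubic.orderOf_eq_of_checks w n hn h1 fun m hm h0 => h2 m (List.mem_range.2 hm) h0⟩
      rcases hN with rfl | rfl | rfl
      · exact hw w7 w7_unitary 7 (by norm_num) w7_order.1 w7_order.2
      · exact hw w8 w8_unitary 8 (by norm_num) w8_order.1 w8_order.2
      · exact hw w12 w12_unitary 12 (by norm_num) w12_order.1 w12_order.2
  rw [hL]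
  refine SmallFrobenius.exists_spectrum_of_check 7 6 (by norm_num) gA gA' gB gB' elems [8, 12]
    (by decide) checked ?_
  intro N hN
  simp only [List.mem_cons, List.not_mem_nil, or_false] at hN
  rcases hN with rfl | rfl
  · exact ⟨_, witnesses.1⟩
  · exact ⟨_, witnesses.2⟩

end Cfsg.Agent.S3438
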