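import Cfsg.Statements.S3444
import Cfsg.Agent.Recognition.NormalModule

set_option autoImplicit false
open Cfsg

namespace Cfsg.Agent.S3444

/-- A finite group with a non-trivial solvable normal subgroup is not determined by its set of element orders, not even up to finitely many possibilities: for every bound N there is a finite group of order greater than N with exactly the same set of element orders. -/
theorem result {G : Type*} [Group G] [Finite G] (K : Subgroup G) [K.Normal] (hK : K ≠ ⊥)
    (hs : Group.IsSolvable K) (N : ℕ) :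
    ∃ (H : Type) (_ : Group H) (_ : Fintype H), N < Fintype.card H ∧ Set.range (orderOf : H → ℕ) = Set.range (orderOf : G → ℕ) := by
  classical
  -- the last non-trivial term of the derived series of `K`
  obtain ⟨m, hm⟩ := hs.solvable
  have hex : ∃ n, derivedSeries K n = ⊥ := ⟨m, hm⟩
  obtain ⟨j, hj⟩ : ∃ j, Nat.find hex = j + 1 := by
    refine ⟨Nat.find hex - 1, (Nat.succ_pred_eq_of_ne_zero fun h0 => hK ?_).symm⟩
    have := Nat.find_spec hex
    rw [h0, derivedSeries_zero] at this
    rw [Subgroup.eq_bot_iff_forall]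
    intro x hx
    have : (⟨x, hx⟩ : K) ∈ (⊥ : Subgroup K) := this ▸ Subgroup.mem_top _
    exact congrArg Subtype.val (Subgroup.mem_bot.1 this)
  have hne : derivedSeries K j ≠ ⊥ := Nat.find_min hex (by omega)
  have hab : ∀ x ∈ derivedSeries K j, ∀ y ∈ derivedSeries K j, x * y = y * x := by
    intro x hx y hy
    have h : derivedSeries K (j + 1) = ⊥ := hj ▸ Nat.find_spec hex
    rw [derivedSeries_succ] at h
    have hmem := Subgroup.commutator_mem_commutator hx hy
    rw [h, Subgroup.mem_bot] at hmem
    exact commutatorElement_eq_one_iff_mul_comm.1 hmem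
  set A := (derivedSeries K j).map K.subtype with hAdef
  have hA : A ≠ ⊥ := fun h => hne ((Subgroup.map_eq_bot_iff_of_injective _ K.subtype_injective).1 h)
  haveI hAn : A.Normal := by
    haveI := derivedSeries_characteristic K j
    rw [hAdef]; infer_instance
  have hAab : ∀ x ∈ A, ∀ y ∈ A, x * y = y * x := by
    rintro _ ⟨x, hx, rfl⟩ _ ⟨y, hy, rfl⟩
    rw [← map_mul, ← map_mul, hab x hx y hy]
  obtain ⟨p, hp, hpA⟩ := Nat.exists_prime_and_dvd
    (fun h : Nat.card A = 1 => hA (Subgroup.card_eq_one.1 h))
  haveI := Fact.mk hp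
  let V : Subgroup G :=
    { carrier := {a | a ∈ A ∧ a ^ p = 1}
      one_mem' := ⟨A.one_mem, one_pow p⟩
      mul_mem' := fun {a b} ha hb => ⟨A.mul_mem ha.1 hb.1, by
        rw [(show Commute a b from hAab a ha.1 b hb.1).mul_pow, ha.2, hb.2, one_mul]⟩
      inv_mem' := fun {a} ha => ⟨A.inv_mem ha.1, by rw [inv_pow, ha.2, inv_one]⟩ }
  haveI hVn : V.Normal := ⟨fun a ha g => ⟨hAn.conj_mem a ha.1 g, by rw [conj_pow, ha.2]; group⟩⟩
  letI : CommGroup V :=
    { (inferInstance : Group V) with
      mul_comm := fun a b => Subtype.ext (hAab a.1 a.2.1 b.1 b.2.1) }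
  have hVexp : ∀ x : V, x ^ p = 1 := fun x => Subtype.ext x.2.2
  obtain ⟨a, ha⟩ := exists_prime_orderOf_dvd_card' p hpA
  haveI : Nontrivial V := by
    refine ⟨⟨⟨(a : G), a.2, ?_⟩, 1, fun h => ?_⟩⟩
    · rw [← Subgroup.coe_pow, ← ha, pow_orderOf_eq_one]; rfl
    · have h' : a = 1 := Subtype.ext (congrArg (fun z : V => (z : G)) h)
      rw [h', orderOf_one] at ha
      exact hp.one_lt.ne ha
  exact Cfsg.Agent.Recognition.Extension.exists_large_spectrum N
    (Cfsg.Agent.Recognition.Extension.lt_card_copies (M := V) (MulAut.conjNormal (H := V)) N)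
    (Cfsg.Agent.Recognition.NormalModule.range_orderOf_copies (MulAut.conjNormal (H := V)) hp hVexp N
      (Cfsg.Agent.Recognition.NormalModule.range_orderOf_semidirect V p hp hVexp))

end Cfsg.Agent.S3444
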