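import Cfsg.Statements.S3448
import Cfsg.Agent.Recognition.AltSpectrum

set_option autoImplicit false
open Cfsg Cfsg.Agent.Recognition

namespace Cfsg.Agent.S3448

/-- The set of element orders of the direct product of two copies of the alternating group of degree 5 is {1, 2, 3, 5, 6, 10, 15}. (It is shared by the direct product of two Frobenius groups of orders 50 and 75, so this direct product is not determined by its element orders.) -/
theorem result : Set.range (orderOf : alternatingGroup (Fin 5) × alternatingGroup (Fin 5) → ℕ) = {1, 2, 3, 5, 6, 10, 15} := by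
  have h : Set.range (orderOf : alternatingGroup (Fin 5) × alternatingGroup (Fin 5) → ℕ) =
      Set.image2 Nat.lcm (Set.range (orderOf : alternatingGroup (Fin 5) → ℕ))
        (Set.range (orderOf : alternatingGroup (Fin 5) → ℕ)) := by
    ext d
    simp only [Set.mem_range, Set.mem_image2, Prod.exists, Prod.orderOf]
    constructor
    · rintro ⟨a, b, rfl⟩; exact ⟨_, ⟨a, rfl⟩, _, ⟨b, rfl⟩, rfl⟩
    · rintro ⟨_, ⟨a, rfl⟩, _, ⟨b, rfl⟩, rfl⟩; exact ⟨a, b, rfl⟩
  rw [h, AltSpectrum.range_orderOf_alt5, ← Finset.coe_image₂,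
    show Finset.image₂ Nat.lcm ({1, 2, 3, 5} : Finset ℕ) {1, 2, 3, 5} = {1, 2, 3, 5, 6, 10, 15} by
      decide]
  simp

end Cfsg.Agent.S3448
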