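import Cfsg.Statements.S3449
import Cfsg.Agent.Recognition.AltSpectrum

set_option autoImplicit false
open Cfsg Cfsg.Agent.Recognition

namespace Cfsg.Agent.S3449

/-- The direct product of three copies of the alternating group of degree 5 has exactly the same set of element orders as the cyclic group of order 30, namely the divisors of 30; in particular a direct power of a non-abelian simple group need not be determined by its element orders. -/
theorem result : Set.range (orderOf : alternatingGroup (Fin 5) × alternatingGroup (Fin 5) × alternatingGroup (Fin 5) → ℕ) =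
      Set.range (orderOf : Multiplicative (ZMod 30) → ℕ) := by
  have hp : ∀ (A B : Type) [Group A] [Group B],
      Set.range (orderOf : A × B → ℕ) =
        Set.image2 Nat.lcm (Set.range (orderOf : A → ℕ)) (Set.range (orderOf : B → ℕ)) := by
    intro A B _ _
    ext d
    simp only [Set.mem_range, Set.mem_image2, Prod.exists, Prod.orderOf]
    constructor
    · rintro ⟨a, b, rfl⟩; exact ⟨_, ⟨a, rfl⟩, _, ⟨b, rfl⟩, rfl⟩
    · rintro ⟨_, ⟨a, rfl⟩, _, ⟨b, rfl⟩, rfl⟩; exact ⟨a, b, rfl⟩
  have hz : Set.range (orderOf : Multiplicative (ZMod 30) → ℕ) = ↑(Nat.divisors 30) := by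
    have hord : orderOf (Multiplicative.ofAdd (1 : ZMod 30)) = 30 := by
      rw [orderOf_ofAdd_eq_addOrderOf, ZMod.addOrderOf_one]
    ext d
    simp only [Set.mem_range, Finset.mem_coe, Nat.mem_divisors]
    constructor
    · rintro ⟨g, rfl⟩
      exact ⟨(orderOf_dvd_natCard g).trans (by simp), by norm_num⟩
    · rintro ⟨hd, -⟩
      refine ⟨Multiplicative.ofAdd (1 : ZMod 30) ^ (30 / d), ?_⟩
      have h := orderOf_pow_orderOf_div (x := Multiplicative.ofAdd (1 : ZMod 30)) (n := d)
        (orderOf_pos _).ne' (hd.trans hord.symm.dvd)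
      rwa [hord] at h
  rw [hp, hp, AltSpectrum.range_orderOf_alt5, ← Finset.coe_image₂, ← Finset.coe_image₂, hz,
    Finset.coe_inj]
  decide +kernel

end Cfsg.Agent.S3449
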