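import Cfsg.Statements.S3452
import Cfsg.Agent.Recognition.Extension
import Cfsg.Agent.Recognition.PGL2Orders
import Cfsg.Agent.Recognition.PSLModule
import Cfsg.Agent.Recognition.PGLSmall
import Cfsg.Agent.Recognition.Frobenius40

set_option autoImplicit false
open Cfsg

namespace Cfsg.Agent.S3452

open Cfsg.Agent.Recognition

theorem range_two {F : Type*} [Field F] [Fintype F] (h : Fintype.card F = 2) :
    Set.range (orderOf : GL (Fin 2) F ⧸ Subgroup.center (GL (Fin 2) F) → ℕ) = {1, 2, 3} := by
  haveI := Fact.mk Nat.prime_two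
  set e : ZMod 2 ≃+* F := ZMod.ringEquivOfPrime F Nat.prime_two h with he
  have h2 : (2 : F) = 0 := by
    rw [← map_ofNat e 2, show (2 : ZMod 2) = 0 from rfl, map_zero]
  set E : GL (Fin 2) F ≃* GL (Fin 2) (ZMod 2) :=
    Units.mapEquiv e.symm.mapMatrix.toMulEquiv
  refine Set.Subset.antisymm ?_ ?_
  · rintro _ ⟨x, rfl⟩
    obtain ⟨g, rfl⟩ := QuotientGroup.mk_surjective x
    rcases PGLSmall.gl2_two_cases (E g) with h' | h'
    · have hg : g ^ 2 = 1 := E.injective (by rw [map_pow, h', map_one])
      rcases (Nat.dvd_prime Nat.prime_two).1 ((orderOf_map_dvd (QuotientGroup.mk'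
        (Subgroup.center (GL (Fin 2) F))) g).trans (orderOf_dvd_of_pow_eq_one hg)) with hh | hh
      · exact Or.inl hh
      · exact Or.inr (Or.inl hh)
    · have hg : g ^ 3 = 1 := E.injective (by rw [map_pow, h', map_one])
      rcases (Nat.dvd_prime Nat.prime_three).1 ((orderOf_map_dvd (QuotientGroup.mk'
        (Subgroup.center (GL (Fin 2) F))) g).trans (orderOf_dvd_of_pow_eq_one hg)) with hh | hh
      · exact Or.inl hh
      · exact Or.inr (Or.inr hh)
  · have key : ∀ (M : Matrix (Fin 2) (Fin 2) F) (r : ℕ), r.Prime → M.det ≠ 0 → M ^ r = 1 →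
        M 1 0 ≠ 0 → r ∈ Set.range (orderOf : GL (Fin 2) F ⧸ Subgroup.center (GL (Fin 2) F) → ℕ) := by
      intro M r hr hd hpow h10
      obtain ⟨g, rfl⟩ := (Matrix.isUnit_iff_isUnit_det M).2 (Ne.isUnit hd)
      haveI := Fact.mk hr
      refine ⟨QuotientGroup.mk g, orderOf_eq_prime ?_ ?_⟩
      · rw [← QuotientGroup.mk_pow, PGL2Orders.mk_eq_one_iff]
        exact ⟨1, by rw [Units.val_pow_eq_pow_val, hpow, one_smul]⟩
      · rw [Ne, PGL2Orders.mk_eq_one_iff]
        rintro ⟨c, hc⟩
        exact h10 (by rw [hc]; simp)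
    rintro d (rfl | rfl | rfl)
    · exact ⟨1, orderOf_one⟩
    · refine key !![0, 1; 1, 0] 2 Nat.prime_two (by simp [Matrix.det_fin_two]) ?_ (by simp)
      rw [sq]
      ext i j
      fin_cases i <;> fin_cases j <;> simp [Matrix.mul_apply, Fin.sum_univ_two]
    · refine key !![1, 1; 1, 0] 3 Nat.prime_three (by simp [Matrix.det_fin_two]) ?_ (by simp)
      rw [pow_succ, sq]
      ext i j
      fin_cases i <;> fin_cases j <;> simp [Matrix.mul_apply, Fin.sum_univ_two] <;>
        first | linear_combination h2 | ring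

/-- For F a finite field whose number of elements is a prime or equals 9, the group PGL(2,F) = GL(2,F)/Z(GL(2,F)) is not determined by its set of element orders: for every bound N there is a finite group of order greater than N with exactly the same set of element orders as PGL(2,F). -/
theorem result {F : Type*} [Field F] [Fintype F] (hF : (Fintype.card F).Prime ∨ Fintype.card F = 9) (N : ℕ) :
    ∃ (H : Type) (_ : Group H) (_ : Fintype H), N < Fintype.card H ∧
      Set.range (orderOf : H → ℕ) = Set.range (orderOf : Matrix.GeneralLinearGroup (Fin 2) F ⧸ Subgroup.center (Matrix.GeneralLinearGroup (Fin 2) F) → ℕ) := by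
  obtain ⟨p, hp⟩ := CharP.exists F
  obtain ⟨n, hpr, hcard⟩ := FiniteField.card F p
  haveI := Fact.mk hpr
  have hn : 0 < (n : ℕ) := n.2
  rcases hF with hF | hF
  · have hn1 : (n : ℕ) = 1 := (Nat.Prime.pow_eq_iff (hcard ▸ hF)).1 rfl |>.2
    rw [hn1, pow_one] at hcard
    by_cases h2 : p = 2
    · subst h2
      rw [range_two hcard]
      exact PGLSmall.exists_large_two N
    · have hq : Fintype.card F = p ^ 1 := by rw [hcard, pow_one]
      rw [PGL2Orders.range_orderOf_pgl hq one_pos h2, pow_one]
      by_cases h3 : p = 3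
      · subst h3
        obtain ⟨H, i1, i2, hN, hH⟩ := PGLSmall.exists_large_three N
        refine ⟨H, i1, i2, hN, hH.trans ?_⟩
        ext d
        simp only [Set.mem_insert_iff, Set.mem_singleton_iff, Set.mem_ofPred_eq]
        constructor
        · rintro (rfl | rfl | rfl | rfl) <;> norm_num
        · rintro (h | h | h)
          · have := Nat.le_of_dvd (by norm_num) h; interval_cases d <;> simp_all
          · have := Nat.le_of_dvd (by norm_num) h; interval_cases d <;> simp_all
          · omega
      · refine PSLModule.exists_large ?_ N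
        have := hpr.two_le
        have h4 : p ≠ 4 := fun h => by rw [h] at hpr; norm_num at hpr
        omega
  · have h9 : p ^ (n : ℕ) = 9 := hcard.symm.trans hF
    have hp3 : p = 3 := (Nat.prime_dvd_prime_iff_eq hpr Nat.prime_three).1
      (hpr.dvd_of_dvd_pow (n := 2) (show p ∣ 3 ^ 2 from (dvd_pow_self p hn.ne').trans h9.dvd))
    rw [PGL2Orders.range_orderOf_pgl hcard hn (by omega), h9, hp3]
    exact Frobenius40.exists_large N

end Cfsg.Agent.S3452
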