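import Cfsg.Statements.S3466
import Cfsg.Agent.GenA.Spec.PSpFourLower
import Cfsg.Agent.GenA.Spec.HermEven
import Cfsg.Agent.GenA.Spec.HermOdd
import Cfsg.Agent.GenA.Spec.ThreeLarge
import Cfsg.Agent.GenA.Spec.QThree

set_option autoImplicit false
open Cfsg

namespace Cfsg.Agent.S3466

/-- For q ≥ 3 not an odd power of 3 greater than 3, there are arbitrarily large groups with the spectrum of
`PSp₄(q)`. -/
theorem result {F : Type*} [Field F] [Fintype F] (h3 : 3 ≤ Fintype.card F) (hq : ∀ t : ℕ, 1 ≤ t → Fintype.card F ≠ 3 ^ (2 * t + 1)) (N : ℕ) :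
    ∃ (H : Type) (_ : Group H) (_ : Fintype H), N < Fintype.card H ∧ Set.range (orderOf : H → ℕ) = Set.range (orderOf : Cfsg.PSp 2 F → ℕ) := by
  obtain ⟨p, hp⟩ := CharP.exists F
  obtain ⟨⟨k, hk⟩, hpp, hcard⟩ := FiniteField.card F p
  have hfact : Fact p.Prime := ⟨hpp⟩
  simp only [PNat.mk_coe] at hcard
  rw [GenA.Spec.psp_four_spectrum p k hcard hk, hcard]
  let K := GaloisField p (2 * k)
  letI : Fintype K := Fintype.ofFinite K
  have hK : Fintype.card K = p ^ (2 * k) := by
    rw [← Nat.card_eq_fintype_card, GaloisField.card p _ (by omega)]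
  rcases Nat.Prime.eq_two_or_odd' hpp with rfl | hodd
  · exact GenA.Spec.exists_large_even (K := K) hK hk N
  by_cases h3p : p = 3
  · subst h3p
    rcases Nat.even_or_odd k with ⟨j, hj⟩ | ⟨j, hj⟩
    · exact GenA.Spec.exists_large_three (K := K) hK ⟨j - 1, by omega⟩ N
    · rcases Nat.eq_zero_or_pos j with rfl | hj0
      · subst hj
        rw [show 2 * 0 + 1 = 1 from rfl, pow_one]
        exact GenA.Spec.exists_large_q_three N
      · exact absurd (by rw [hcard, hj]) (hq j hj0)
  · have h5 : 5 ≤ p := by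
      obtain ⟨m, hm⟩ := hodd
      have := hpp.two_le
      omega
    exact GenA.Spec.exists_large_odd (K := K) hK hk h5 N

end Cfsg.Agent.S3466
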