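import Cfsg.Statements.S3488
import Cfsg.Agent.Recognition.NaturalExtension
import Cfsg.Agent.Recognition.AltSpectrum

set_option autoImplicit false
open Cfsg Cfsg.Agent.Recognition Cfsg.Agent.Recognition.Extension Cfsg.Agent.Recognition.SL2Orders

namespace Cfsg.Agent.S3488

/-- The affine group as a subgroup of `SL(3, F)`. -/
def affineHom {F : Type*} [Field F] :
    Multiplicative (Fin 2 → F) ⋊[natAut] Matrix.SpecialLinearGroup (Fin 2) F →*
      Matrix.SpecialLinearGroup (Fin 3) F where
  toFun x := ⟨!![x.right.1 0 0, x.right.1 0 1, x.left.toAdd 0;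
      x.right.1 1 0, x.right.1 1 1, x.left.toAdd 1; 0, 0, 1], by
    have h := x.right.2
    rw [Matrix.det_fin_two] at h
    simp [Matrix.det_fin_three]
    linear_combination h⟩
  map_one' := by
    apply Subtype.ext
    ext i j
    fin_cases i <;> fin_cases j <;> simp
  map_mul' a b := by
    have hl : ∀ i, ((natAut a.right b.left).toAdd i) =
        Matrix.mulVec a.right.1 b.left.toAdd i := fun i => rfl
    apply Subtype.ext
    show _ = (_ : Matrix (Fin 3) (Fin 3) F) * _
    ext i j
    fin_cases i <;> fin_cases j <;>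
      simp [hl, Matrix.mul_apply, Fin.sum_univ_three, Fin.sum_univ_two, Matrix.mulVec,
        dotProduct] <;> ring

theorem affineHom_injective {F : Type*} [Field F] :
    Function.Injective (affineHom (F := F)) := by
  intro a b h
  have e : ∀ i j, (affineHom a).1 i j = (affineHom b).1 i j := fun i j => by rw [h]
  have e00 : a.right.1 0 0 = b.right.1 0 0 := e 0 0
  have e01 : a.right.1 0 1 = b.right.1 0 1 := e 0 1
  have e10 : a.right.1 1 0 = b.right.1 1 0 := e 1 0
  have e11 : a.right.1 1 1 = b.right.1 1 1 := e 1 1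
  have e02 : a.left.toAdd 0 = b.left.toAdd 0 := e 0 2
  have e12 : a.left.toAdd 1 = b.left.toAdd 1 := e 1 2
  refine SemidirectProduct.ext ?_ (Subtype.ext ?_)
  · apply Multiplicative.toAdd.injective
    funext i
    fin_cases i <;> simp [e02, e12]
  · ext i j
    fin_cases i <;> fin_cases j <;> simp [e00, e01, e10, e11]


/-- Let F be the field with four elements. The affine group F² ⋊ SL(2,F), realised as the subgroup of SL(3,F) of matrices with last row (0, 0, 1), has exactly the same set of element orders as the alternating group of degree 6 (namely {1, 2, 3, 4, 5}); so the alternating group of degree 6 is not determined by its element orders. -/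
theorem result {F : Type*} [Field F] [Fintype F] (hF : Fintype.card F = 4) :
    Set.range (orderOf : Subgroup.closure {M : Matrix.SpecialLinearGroup (Fin 3) F |
        (M : Matrix (Fin 3) (Fin 3) F) 2 0 = 0 ∧ (M : Matrix (Fin 3) (Fin 3) F) 2 1 = 0 ∧ (M : Matrix (Fin 3) (Fin 3) F) 2 2 = 1} → ℕ) =
      Set.range (orderOf : alternatingGroup (Fin 6) → ℕ) := by
  classical
  haveI := Fact.mk Nat.prime_two
  haveI : CharP F 2 := charP_of_card_eq_prime_pow (f := 2) (by rw [hF]; rfl)
  have he : Subgroup.closure {M : Matrix.SpecialLinearGroup (Fin 3) F |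
      (M : Matrix (Fin 3) (Fin 3) F) 2 0 = 0 ∧ (M : Matrix (Fin 3) (Fin 3) F) 2 1 = 0 ∧
        (M : Matrix (Fin 3) (Fin 3) F) 2 2 = 1} = (affineHom (F := F)).range := by
    refine le_antisymm ((Subgroup.closure_le _).2 ?_) ?_
    · rintro M ⟨h0, h1, h2⟩
      have hd := M.2
      rw [Matrix.det_fin_three, h0, h1, h2] at hd
      refine ⟨⟨Multiplicative.ofAdd ![M.1 0 2, M.1 1 2],
        ⟨!![M.1 0 0, M.1 0 1; M.1 1 0, M.1 1 1], by rw [Matrix.det_fin_two_of]; linear_combination hd⟩⟩, ?_⟩
      apply Subtype.ext
      show !![M.1 0 0, M.1 0 1, M.1 0 2; M.1 1 0, M.1 1 1, M.1 1 2; 0, 0, 1] = M.1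
      ext i j
      fin_cases i <;> fin_cases j <;> simp [h0, h1, h2]
    · rintro _ ⟨x, rfl⟩
      exact Subgroup.subset_closure ⟨rfl, rfl, rfl⟩
  rw [he, AltSpectrum.range_orderOf_alt6, ← NaturalExtension.range_orderOf_single hF]
  exact (range_orderOf_congr (MonoidHom.ofInjective affineHom_injective)).symm

end Cfsg.Agent.S3488
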