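import Cfsg.Statements.S3489
import Cfsg.Agent.Recognition.CoverS5
import Cfsg.Agent.Recognition.TwistedModule
import Cfsg.Agent.Recognition.AltSpectrum

set_option autoImplicit false
open Cfsg Cfsg.Agent.Recognition Cfsg.Agent.Recognition.Extension Cfsg.Agent.Recognition.TwistedModule

namespace Cfsg.Agent.S3489

open CoverS5

/-- The central involution as an element of the group. -/
def zz : CoverS5.grp := ⟨zG, zG_mem⟩

theorem hz : ∀ g : CoverS5.grp, g * zz = zz * g := fun g =>
  Subtype.ext (Units.ext (by simp [zz, zG]))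

theorem zz_sq : zz * zz = 1 := Subtype.ext (Units.ext (by simp [zz, zG]))

theorem zz_ne : zz ≠ 1 := fun h => by
  have h' := congrArg (fun g : CoverS5.grp => (g : GL (Fin 4) (ZMod 7)).1 0 0) h
  exact (by decide : (-1 : ZMod 7) ≠ 1) (by simpa [zz, zG] using h')

/-- The module `F₇⁴` to the power `N`, times the twisted part of the regular `F₃`-module. -/
abbrev Mod (N : ℕ) := (Fin N → Multiplicative (Fin 4 → ZMod 7)) × Multiplicative (twisted zz 3)

/-- The action. -/
def act (N : ℕ) : CoverS5.grp →* MulAut (Mod N) where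
  toFun g := (copies (glAut.comp CoverS5.grp.subtype) N g).prodCongr (translate (r := 3) hz g)
  map_one' := by rw [map_one, map_one]; rfl
  map_mul' a b := by rw [map_mul, map_mul]; rfl

theorem fst_fix {N : ℕ} {g : CoverS5.grp} (hg : g ≠ 1) {k : Mod N} (h : act N g k = k) : k.1 = 1 := by
  funext i
  apply Multiplicative.toAdd.injective
  have h' := congrFun (congrArg Prod.fst h) i
  exact fixed_eq_zero g.2 (fun he => hg (Subtype.ext he)) _ (congrArg Multiplicative.toAdd h')

theorem fpf_even {N : ℕ} {g : CoverS5.grp} (hg : g ≠ 1) {k : ℕ} (hk : g ^ k = zz) :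
    Fpf (act N) g := fun m hm =>
  Prod.ext (fst_fix hg hm) (fpf_of_pow_eq hz (by decide) hk _ (congrArg Prod.snd hm))

theorem pow_modulus {N : ℕ} (m : Mod N) : m ^ 21 = 1 := by
  refine Prod.ext (funext fun i => ?_) ?_
  · show (m.1 i) ^ (7 * 3) = 1
    rw [pow_mul, pow_char_eq_one (p := 7), one_pow]
  · show m.2 ^ (3 * 7) = 1
    rw [pow_mul, pow_eq_one', one_pow]

theorem orderOf_odd {N : ℕ} (x : Mod N ⋊[act N] CoverS5.grp) {n : ℕ} (hg : x.right ≠ 1)
    (hn : x.right ^ n = 1) : orderOf x ∣ n * 3 := by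
  rw [orderOf_dvd_iff_pow_eq_one, pow_mul]
  set y := x ^ n with hy
  have hr : y.right = 1 := by rw [hy, pow_right, hn]
  have hl := congrArg SemidirectProduct.left (Commute.self_pow x n).eq
  rw [← hy] at hl
  simp only [SemidirectProduct.mul_left, hr, map_one, MulAut.one_apply] at hl
  have hfix : act N x.right y.left = y.left := by
    rw [mul_comm y.left] at hl
    exact mul_left_cancel hl
  have h3 : y.left ^ 3 = 1 := by
    refine Prod.ext ?_ (pow_eq_one' _)
    show y.left.1 ^ 3 = 1
    rw [fst_fix hg hfix, one_pow]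
  rw [eq_inl_of_right_eq_one y hr, ← map_pow, h3, map_one]

theorem orderOf_mem {N : ℕ} (x : Mod N ⋊[act N] CoverS5.grp) :
    orderOf x ∈ ({1, 2, 3, 4, 5, 6, 7, 8, 9, 10, 12, 15, 21} : Finset ℕ) := by
  have hdvd : ∀ n ∈ ({2, 4, 6, 8, 9, 10, 12, 15, 21} : Finset ℕ), ∀ d ∈ n.divisors,
      d ∈ ({1, 2, 3, 4, 5, 6, 7, 8, 9, 10, 12, 15, 21} : Finset ℕ) := by decide
  have fin : ∀ n ∈ ({2, 4, 6, 8, 9, 10, 12, 15, 21} : Finset ℕ), orderOf x ∣ n →
      orderOf x ∈ ({1, 2, 3, 4, 5, 6, 7, 8, 9, 10, 12, 15, 21} : Finset ℕ) := fun n hn hd =>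
    hdvd n hn _ (Nat.mem_divisors.2 ⟨hd, fun h0 => by subst h0; simp at hn⟩)
  by_cases hg : x.right = 1
  · refine fin 21 (by decide) (orderOf_dvd_iff_pow_eq_one.2 ?_)
    rw [eq_inl_of_right_eq_one x hg, ← map_pow, pow_modulus, map_one]
  rcases cases_of_mem x.right.2 with h | ⟨k, hk1, hk6, h⟩ | h | h
  · exact absurd (Subtype.ext h) hg
  · have hk : x.right ^ k = zz := Subtype.ext (Units.ext (by simpa [zz, zG] using h))
    refine fin (2 * k) (by interval_cases k <;> decide) ?_
    rw [orderOf_of_fpf x (fpf_even hg hk), orderOf_dvd_iff_pow_eq_one, mul_comm, pow_mul, hk,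
      pow_two, zz_sq]
  · exact fin 9 (by decide) (orderOf_odd x hg (Subtype.ext (pow_eq_one_of_sum h)))
  · exact fin 15 (by decide) (orderOf_odd x hg (Subtype.ext (pow_eq_one_of_sum h)))

open Classical in
/-- The element used for the orders `9`, `15` and `21`. -/
noncomputable def dlt (N : ℕ) : Mod N := (1, delta (r := 3) zz_sq zz_ne)

open Classical in
theorem exists_odd (N : ℕ) {p : ℕ} (hp : p.Prime) (hp2 : p ≠ 2) {g : CoverS5.grp}
    (hg : orderOf g = p) :
    orderOf (⟨dlt N, g⟩ : Mod N ⋊[act N] CoverS5.grp) = p * 3 := by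
  set x : Mod N ⋊[act N] CoverS5.grp := ⟨dlt N, g⟩ with hx
  have hgne : g ≠ 1 := fun h => by rw [h, orderOf_one] at hg; exact hp.one_lt.ne hg
  have hd : orderOf x ∣ p * 3 := orderOf_odd x hgne (hg ▸ pow_orderOf_eq_one g)
  have hne : x ^ p ≠ 1 := by
    -- the left component of `x ^ n`, evaluated at the identity
    have key : ∀ n, n ≤ p → ((x ^ n).left.2.toAdd : CoverS5.grp → ZMod 3) 1 =
        if n = 0 then 0 else 1 := by
      have base : ∀ n, ∀ a : CoverS5.grp, ((x ^ n).left.2.toAdd : CoverS5.grp → ZMod 3) a =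
          ∑ i ∈ Finset.range n,
            ((delta (r := 3) zz_sq zz_ne).toAdd : CoverS5.grp → ZMod 3) ((g ^ i)⁻¹ * a) := by
        intro n
        induction n with
        | zero => intro a; simp
        | succ n ih =>
          intro a
          rw [pow_succ, SemidirectProduct.mul_left, pow_right, Finset.sum_range_succ]
          show _ + ((translate (r := 3) hz (g ^ n) (delta (r := 3) zz_sq zz_ne)).toAdd :
            CoverS5.grp → ZMod 3) a = _
          rw [ih, TwistedModule.translate_apply]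
      intro n hn
      rw [base]
      rcases Nat.eq_zero_or_pos n with rfl | hpos
      · simp
      rw [if_neg hpos.ne', Finset.sum_eq_single 0]
      · rw [pow_zero, inv_one, one_mul, delta_one]
      · intro i hi hi0
        have hip : i < p := lt_of_lt_of_le (Finset.mem_range.1 hi) hn
        rw [mul_one]
        refine delta_other _ _ (fun h => ?_) (fun h => ?_)
        · rw [inv_eq_one] at h
          exact Nat.not_dvd_of_pos_of_lt (Nat.pos_of_ne_zero hi0) hip
            (hg ▸ orderOf_dvd_iff_pow_eq_one.2 h)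
        · have h' := congrArg (· ^ p) h
          have hzp : zz ^ p = zz := by
            obtain ⟨c, hc⟩ := hp.odd_of_ne_two hp2
            rw [hc, pow_succ, pow_mul, pow_two, zz_sq, one_pow, one_mul]
          simp only [inv_pow, ← pow_mul] at h'
          rw [hzp, mul_comm i, pow_mul, (hg ▸ pow_orderOf_eq_one g : g ^ p = 1), one_pow, inv_one]
            at h'
          exact zz_ne h'.symm
      · intro h; exact absurd (Finset.mem_range.2 hpos) h
    intro h
    have h1 := key p le_rfl
    rw [h, if_neg hp.ne_zero] at h1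
    exact zero_ne_one h1
  obtain ⟨c, hc⟩ : p ∣ orderOf x := hg ▸ orderOf_right_dvd x
  rw [hc] at hd ⊢
  rcases (Nat.dvd_prime Nat.prime_three).1 (Nat.dvd_of_mul_dvd_mul_left hp.pos hd) with rfl | rfl
  · exact absurd (orderOf_dvd_iff_pow_eq_one.1 (by rw [hc, mul_one])) hne
  · rfl

open Classical in
theorem exists_21 {N : ℕ} (hN : 0 < N) :
    ∃ x : Mod N ⋊[act N] CoverS5.grp, orderOf x = 21 := by
  let a : Fin N → Multiplicative (Fin 4 → ZMod 7) := fun _ => Multiplicative.ofAdd fun _ => 1
  let m : Mod N := (a, (dlt N).2)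
  refine ⟨SemidirectProduct.inl m, ?_⟩
  rw [orderOf_injective _ SemidirectProduct.inl_injective]
  have hd : orderOf m ∣ 21 := orderOf_dvd_iff_pow_eq_one.2 (pow_modulus m)
  have h3 : m ^ 3 ≠ 1 := fun h => by
    have h' := congrArg (fun t : Mod N => (t.1 ⟨0, hN⟩).toAdd 0) h
    simp [m, a, toAdd_pow] at h'
    exact (by decide : (3 : ZMod 7) ≠ 0) h'
  have h7 : m ^ 7 ≠ 1 := fun h => by
    have h' := congrArg (fun t : Mod N => (t.2.toAdd : CoverS5.grp → ZMod 3) 1) h
    simp [m, dlt, toAdd_pow, delta_one] at h'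
    exact (by decide : (7 : ZMod 3) ≠ 0) h'
  have hm : orderOf m ∈ Nat.divisors 21 := Nat.mem_divisors.2 ⟨hd, by norm_num⟩
  rw [show Nat.divisors 21 = {1, 3, 7, 21} by decide] at hm
  simp only [Finset.mem_insert, Finset.mem_singleton] at hm
  rcases hm with h | h | h | h
  · exact absurd (by rw [orderOf_eq_one_iff.1 h, one_pow]) h3
  · exact absurd (orderOf_dvd_iff_pow_eq_one.1 h.dvd) h3
  · exact absurd (orderOf_dvd_iff_pow_eq_one.1 h.dvd) h7
  · exact h

open Classical in
theorem range_orderOf {N : ℕ} (hN : 0 < N) :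
    Set.range (orderOf : Mod N ⋊[act N] CoverS5.grp → ℕ) =
      ↑({1, 2, 3, 4, 5, 6, 7, 8, 9, 10, 12, 15, 21} : Finset ℕ) := by
  refine Set.Subset.antisymm ?_ ?_
  · rintro _ ⟨x, rfl⟩; exact orderOf_mem x
  intro n hn
  simp only [Finset.coe_insert, Finset.coe_singleton, Set.mem_insert_iff, Set.mem_singleton_iff] at hn
  have small : ∀ k ∈ [3, 4, 5, 6, 8, 10, 12], k ∈ Set.range (orderOf : Mod N ⋊[act N] CoverS5.grp → ℕ) :=
    fun k hk => by
      obtain ⟨g, hg⟩ := exists_orderOf_mem k hk
      exact ⟨SemidirectProduct.inr g, (orderOf_inr g).trans hg⟩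
  rcases hn with rfl | rfl | rfl | rfl | rfl | rfl | rfl | rfl | rfl | rfl | rfl | rfl | rfl
  · exact ⟨1, orderOf_one⟩
  · refine ⟨SemidirectProduct.inr zz, (orderOf_inr zz).trans ?_⟩
    haveI := Fact.mk Nat.prime_two
    exact orderOf_eq_prime (by rw [pow_two, zz_sq]) zz_ne
  · exact small 3 (by simp)
  · exact small 4 (by simp)
  · exact small 5 (by simp)
  · exact small 6 (by simp)
  · obtain ⟨x, hx⟩ := exists_21 hN
    exact ⟨x ^ 3, by rw [orderOf_pow, hx]; rfl⟩
  · exact small 8 (by simp)
  · obtain ⟨g, hg⟩ := exists_orderOf_mem 3 (by simp)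
    exact ⟨_, exists_odd N Nat.prime_three (by norm_num) hg⟩
  · exact small 10 (by simp)
  · exact small 12 (by simp)
  · obtain ⟨g, hg⟩ := exists_orderOf_mem 5 (by simp)
    exact ⟨_, exists_odd N Nat.prime_five (by norm_num) hg⟩
  · exact exists_21 hN


/-- The alternating group of degree 10 is not determined by its set of element orders, not even up to finitely many groups: for every bound N there is a finite group of order greater than N with exactly the same set of element orders as the alternating group of degree 10. -/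
theorem result (N : ℕ) : ∃ (H : Type) (_ : Group H) (_ : Fintype H), N < Fintype.card H ∧ Set.range (orderOf : H → ℕ) = Set.range (orderOf : alternatingGroup (Fin 10) → ℕ) := by
  classical
  rw [AltSpectrum.range_orderOf_alt10]
  haveI : Finite (Mod (N + 1)) := inferInstance
  refine exists_large_spectrum N ?_ (range_orderOf N.succ_pos)
  rw [SemidirectProduct.card, Nat.card_prod, Nat.card_fun, Nat.card_fin]
  haveI : Fact (1 < 7) := ⟨by norm_num⟩
  have h7 : 2 ≤ Nat.card (Multiplicative (Fin 4 → ZMod 7)) := Finite.one_lt_card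
  calc N < 2 ^ (N + 1) := (Nat.lt_two_pow_self).trans (Nat.pow_lt_pow_succ one_lt_two)
    _ ≤ Nat.card (Multiplicative (Fin 4 → ZMod 7)) ^ (N + 1) := Nat.pow_le_pow_left h7 _
    _ ≤ _ := (Nat.le_mul_of_pos_right _ Nat.card_pos).trans (Nat.le_mul_of_pos_right _ Nat.card_pos)

end Cfsg.Agent.S3489
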