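import Cfsg.Statements.S3491
import Cfsg.Agent.Recognition.NaturalExtension
import Cfsg.Agent.Recognition.AltSpectrum

set_option autoImplicit false
open Cfsg Cfsg.Agent.Recognition Cfsg.Agent.Recognition.Extension Cfsg.Agent.Recognition.SL2Orders

namespace Cfsg.Agent.S3491

/-- The alternating group of degree 6 is not determined by its set of element orders, not even up to finitely many groups: for every bound N there is a finite group of order greater than N with exactly the same set of element orders as the alternating group of degree 6. -/
theorem result (N : ℕ) : ∃ (H : Type) (_ : Group H) (_ : Fintype H), N < Fintype.card H ∧ Set.range (orderOf : H → ℕ) = Set.range (orderOf : alternatingGroup (Fin 6) → ℕ) := by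
  classical
  let F := GaloisField 2 2
  haveI : Fintype F := Fintype.ofFinite F
  have hF : Fintype.card F = 4 := by
    rw [← Nat.card_eq_fintype_card, GaloisField.card 2 2 (by norm_num)]; rfl
  rw [AltSpectrum.range_orderOf_alt6]
  refine exists_large_spectrum N ?_ (NaturalExtension.range_orderOf_copies hF N)
  exact (Nat.lt_succ_self N).trans (lt_card_copies (natAut (F := F)) (N + 1))

end Cfsg.Agent.S3491
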