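import Cfsg.Statements.S3495
import Mathlib

set_option autoImplicit false
open Cfsg

namespace Cfsg.Agent.S3495

/-- Let a finite group G act faithfully and primitively on a finite set Ω with non-trivial point stabilizers, each acting primitively on every one of its orbits (an extremely primitive group), and suppose G has an elementary abelian normal p-subgroup N acting regularly on Ω (affine type). Then every non-trivial subgroup M of a point stabilizer G_α that is normal in G_α has the same orbits on Ω as G_α, and normalizes no subgroup of N other than 1 and N. -/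
theorem result {G : Type*} [Group G] [Finite G] {Ω : Type*} [Fintype Ω] [MulAction G Ω] [FaithfulSMul G Ω] (hprim : MulAction.IsPreprimitive G Ω) (hH : ∀ α : Ω, MulAction.stabilizer G α ≠ ⊥) (hep : ∀ (α : Ω) (ω : Ω), MulAction.IsPreprimitive (MulAction.stabilizer G α) (MulAction.orbit (MulAction.stabilizer G α) ω))
    (N : Subgroup G) [N.Normal] (hNc : IsMulCommutative N) (p : ℕ) (hp : p.Prime) (hNp : ∀ n ∈ N, n ^ p = 1)
    (hNtr : MulAction.IsPretransitive N Ω) (hNreg : ∀ ω : Ω, MulAction.stabilizer N ω = ⊥) (α : Ω) (M : Subgroup G) (hM : M ≠ ⊥) (hMle : M ≤ MulAction.stabilizer G α)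
    (hMn : MulAction.stabilizer G α ≤ Subgroup.normalizer (M : Set G)) :
    (∀ ω : Ω, MulAction.orbit M ω = MulAction.orbit (MulAction.stabilizer G α) ω) ∧
    (∀ L : Subgroup G, L ≤ N → M ≤ Subgroup.normalizer (L : Set G) → L = ⊥ ∨ L = N) := by
  haveI := hprim
  haveI := hNtr
  set H := MulAction.stabilizer G α with hHdef
  have hreg : ∀ u ∈ N, ∀ v ∈ N, u • α = v • α → u = v := by
    intro u hu v hv h
    have hs : (⟨v, hv⟩ : N)⁻¹ * ⟨u, hu⟩ ∈ MulAction.stabilizer N α := by
      rw [MulAction.mem_stabilizer_iff, mul_smul, inv_smul_eq_iff]; exact h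
    rw [hNreg, Subgroup.mem_bot, inv_mul_eq_one] at hs
    exact (congrArg Subtype.val hs).symm
  have hcommN : ∀ u ∈ N, ∀ v ∈ N, u * v = v * u := fun u hu v hv =>
    congrArg Subtype.val (hNc.is_comm.comm (⟨u, hu⟩ : N) ⟨v, hv⟩)
  have hfixH : ∀ h ∈ H, h • α = α := fun h hh => hh
  -- a subgroup of `N` invariant under the point stabilizer is trivial or `N`
  have hirr : ∀ L : Subgroup G, L ≤ N → (∀ h ∈ H, ∀ l ∈ L, h * l * h⁻¹ ∈ L) → L = ⊥ ∨ L = N := by
    intro L hL hinv
    have hLn : L.Normal := by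
      refine ⟨fun l hl g => ?_⟩
      obtain ⟨⟨n, hn⟩, hna⟩ := MulAction.exists_smul_eq N α (g • α)
      have hna' : n • α = g • α := hna
      have hh : n⁻¹ * g ∈ H := by
        rw [hHdef, MulAction.mem_stabilizer_iff, mul_smul, ← hna', inv_smul_smul]
      have h1 := hinv _ hh l hl
      rw [show g * l * g⁻¹ = n * (n⁻¹ * g * l * (n⁻¹ * g)⁻¹) * n⁻¹ by group,
        hcommN n hn _ (hL h1), mul_inv_cancel_right]
      exact h1
    by_cases hL1 : L = ⊥
    · exact Or.inl hL1
    right
    haveI := hLn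
    have hne : MulAction.fixedPoints L Ω ≠ Set.univ := by
      intro h
      refine hL1 ((Subgroup.eq_bot_iff_forall L).2 fun l hl => ?_)
      refine hreg l (hL hl) 1 N.one_mem ?_
      rw [one_smul]
      exact (h.symm ▸ Set.mem_univ α : α ∈ MulAction.fixedPoints L Ω) ⟨l, hl⟩
    haveI := MulAction.IsQuasiPreprimitive.isPretransitive_of_normal (G := G) (X := Ω) hne
    refine le_antisymm hL fun n hn => ?_
    obtain ⟨⟨l, hl⟩, hla⟩ := MulAction.exists_smul_eq L α (n • α)
    rw [← hreg l (hL hl) n hn hla]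
    exact hl
  have hconj : ∀ h ∈ H, ∀ m ∈ M, h * m * h⁻¹ ∈ M := fun h hh m hm =>
    ((Subgroup.mem_normalizer_iff).1 (hMn hh) m).1 hm
  -- a non-trivial point fixed by `M` does not exist
  have hnofix : ∀ ω : Ω, (∀ m ∈ M, m • ω = ω) → ω = α := by
    intro ω hω
    obtain ⟨⟨n, hn⟩, hna⟩ := MulAction.exists_smul_eq N α ω
    subst hna
    have hω' : ∀ m ∈ M, m • n • α = n • α := hω
    have hX := hirr (N ⊓ Subgroup.centralizer (M : Set G)) inf_le_left (fun h hh l hl => by
      refine ⟨(inferInstance : N.Normal).conj_mem l hl.1 h, Subgroup.mem_centralizer_iff.2 fun m hm => ?_⟩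
      have h1 := hconj h⁻¹ (H.inv_mem hh) m hm
      rw [inv_inv] at h1
      have h2 := Subgroup.mem_centralizer_iff.1 hl.2 _ h1
      calc m * (h * l * h⁻¹) = h * ((h⁻¹ * m * h) * l) * h⁻¹ := by group
        _ = h * (l * (h⁻¹ * m * h)) * h⁻¹ := by rw [h2]
        _ = _ := by group)
    have hnX : n ∈ N ⊓ Subgroup.centralizer (M : Set G) := by
      refine ⟨hn, Subgroup.mem_centralizer_iff.2 fun m hm => ?_⟩
      have hmn : m * n * m⁻¹ = n := by
        refine hreg _ ((inferInstance : N.Normal).conj_mem n hn m) n hn ?_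
        rw [mul_smul, mul_smul, inv_smul_eq_iff.2 (hfixH m (hMle hm)).symm, hω' m hm]
      exact mul_inv_eq_iff_eq_mul.1 hmn
    rcases hX with hX | hX
    · rw [hX, Subgroup.mem_bot] at hnX
      show n • α = α
      rw [hnX, one_smul]
    · exfalso
      refine hM ((Subgroup.eq_bot_iff_forall M).2 fun m hm => ?_)
      refine eq_of_smul_eq_smul (α := Ω) fun x => ?_
      obtain ⟨⟨u, hu⟩, hua⟩ := MulAction.exists_smul_eq N α x
      subst hua
      show m • u • α = (1 : G) • u • α
      have hu' : u ∈ Subgroup.centralizer (M : Set G) := ((le_of_eq hX.symm) hu).2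
      rw [one_smul, smul_smul, Subgroup.mem_centralizer_iff.1 hu' m hm, mul_smul, hfixH m (hMle hm)]
  have horb : ∀ ω : Ω, MulAction.orbit M ω = MulAction.orbit H ω := by
    intro ω
    by_cases hωα : ω = α
    · subst hωα
      ext x
      constructor
      · rintro ⟨m, rfl⟩; exact ⟨⟨m.1, hMle m.2⟩, rfl⟩
      · rintro ⟨h, rfl⟩; exact ⟨1, by simp only [one_smul]; exact (hfixH h.1 h.2).symm⟩
    haveI := hep α ω
    haveI : (M.subgroupOf H).Normal := (Subgroup.normal_subgroupOf_iff_le_normalizer hMle).2 hMn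
    set O := MulAction.orbit H ω with hO
    have hne : MulAction.fixedPoints (M.subgroupOf H) O ≠ Set.univ := by
      intro h
      refine hωα (hnofix ω fun m hm => ?_)
      have := (h.symm ▸ Set.mem_univ _ : (⟨ω, MulAction.mem_orbit_self ω⟩ : O) ∈ MulAction.fixedPoints (M.subgroupOf H) O)
        ⟨⟨m, hMle hm⟩, hm⟩
      exact congrArg Subtype.val this
    haveI := MulAction.IsQuasiPreprimitive.isPretransitive_of_normal (G := H) (X := O) hne
    ext x
    constructor
    · rintro ⟨m, rfl⟩; exact ⟨⟨m.1, hMle m.2⟩, rfl⟩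
    · intro hx
      obtain ⟨⟨⟨m, hmH⟩, hm⟩, hmx⟩ :=
        MulAction.exists_smul_eq (M.subgroupOf H) (⟨ω, MulAction.mem_orbit_self ω⟩ : O) ⟨x, hx⟩
      exact ⟨⟨m, hm⟩, congrArg Subtype.val hmx⟩
  refine ⟨horb, fun L hL hnorm => hirr L hL fun h hh l hl => ?_⟩
  have : h • l • α ∈ MulAction.orbit M (l • α) := by rw [horb]; exact ⟨⟨h, hh⟩, rfl⟩
  obtain ⟨⟨m, hm⟩, hma⟩ := this
  have hma' : m • l • α = h • l • α := hma
  have hml : m * l * m⁻¹ ∈ L := ((Subgroup.mem_normalizer_iff).1 (hnorm hm) l).1 hl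
  rw [hreg (h * l * h⁻¹) ((inferInstance : N.Normal).conj_mem l (hL hl) h) (m * l * m⁻¹) (hL hml) ?_]
  · exact hml
  · rw [mul_smul, mul_smul, mul_smul, mul_smul, inv_smul_eq_iff.2 (hfixH h hh).symm,
      inv_smul_eq_iff.2 (hfixH m (hMle hm)).symm, hma']

end Cfsg.Agent.S3495
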