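import Cfsg.Statements.S3496
import Cfsg.Agent.S3495
import Cfsg.Agent.Lib.Hall.MinimalNormal
import Cfsg.Agent.Recognition.SemilinearBound

set_option autoImplicit false
open Cfsg

namespace Cfsg.Agent.S3496

open MulAction

/-- The soluble extremely primitive groups. Let a finite solvable group G act faithfully and primitively on a finite set Ω with p ^ d points (p prime), with non-trivial point stabilizers each acting primitively on every one of its orbits. Then there is a prime q such that every orbit of a point stabilizer G_α other than {α} has exactly q points, q divides p ^ d − 1 but no p ^ i − 1 with 0 < i < d, and G_α has a normal subgroup T of order q with G_α generated by T and one further element and the order of G_α dividing q·d (so G_α is cyclic of order q, or an extension of T by a cyclic group of order dividing d). -/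
theorem result {G : Type*} [Group G] [Finite G] {Ω : Type*} [Fintype Ω] [MulAction G Ω] [FaithfulSMul G Ω] [Group.IsSolvable G] (p d : ℕ) (hp : p.Prime) (hcard : Fintype.card Ω = p ^ d)
    (hprim : MulAction.IsPreprimitive G Ω) (hH : ∀ α : Ω, MulAction.stabilizer G α ≠ ⊥) (hep : ∀ (α : Ω) (ω : Ω), MulAction.IsPreprimitive (MulAction.stabilizer G α) (MulAction.orbit (MulAction.stabilizer G α) ω)) (α : Ω) :
    ∃ q : ℕ, q.Prime ∧ (∀ ω : Ω, ω ≠ α → Nat.card (MulAction.orbit (MulAction.stabilizer G α) ω) = q) ∧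
      q ∣ p ^ d - 1 ∧ (∀ i : ℕ, 0 < i → i < d → ¬ q ∣ p ^ i - 1) ∧
      ∃ T : Subgroup G, T ≤ MulAction.stabilizer G α ∧ MulAction.stabilizer G α ≤ Subgroup.normalizer (T : Set G) ∧ Nat.card T = q ∧
        (∃ h : G, MulAction.stabilizer G α = T ⊔ Subgroup.zpowers h) ∧ Nat.card (MulAction.stabilizer G α) ∣ q * d := by
  classical
  haveI := Fact.mk hp
  haveI := hprim
  set H := stabilizer G α with hHdef
  obtain ⟨⟨h₁, hh₁⟩, hh₁1⟩ := Subgroup.ne_bot_iff_exists_ne_one.1 (hH α)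
  haveI : Nontrivial G := ⟨⟨h₁, 1, fun e => hh₁1 (Subtype.ext e)⟩⟩
  -- the regular normal subgroup
  obtain ⟨N, hN, -, hN0, hNmin⟩ := Hall.exists_minimal_normal (⊤ : Subgroup G) top_ne_bot
  haveI := hN
  obtain ⟨r, hr, hrd, -, hNc, hNe⟩ := Hall.minimal_normal_isElementaryAbelian hN0 hNmin
  haveI := hNc
  haveI hNtr : IsPretransitive N Ω := by
    refine IsQuasiPreprimitive.isPretransitive_of_normal fun h => hN0 ?_
    refine (Subgroup.eq_bot_iff_forall N).2 fun m hm => eq_of_smul_eq_smul (α := Ω) fun w => ?_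
    rw [one_smul]
    exact (h ▸ Set.mem_univ w : w ∈ fixedPoints N Ω) ⟨m, hm⟩
  have hNreg : ∀ w : Ω, stabilizer N w = ⊥ := fun w => (Subgroup.eq_bot_iff_forall _).2 fun n hn => by
    refine Subtype.ext (eq_of_smul_eq_smul (α := Ω) fun v => ?_)
    obtain ⟨m, rfl⟩ := exists_smul_eq N w v
    change n • m • w = (1 : G) • m • w
    rw [one_smul, smul_smul, mul_comm' n m, mul_smul, mem_stabilizer_iff.1 hn]
  have hbij : Function.Bijective (fun n : N => n • α) := by
    refine ⟨fun x y h => ?_, fun w => exists_smul_eq N α w⟩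
    have : y⁻¹ * x ∈ stabilizer N α := by
      rw [mem_stabilizer_iff, mul_smul]
      exact inv_smul_eq_iff.2 h
    rw [hNreg, Subgroup.mem_bot, inv_mul_eq_one] at this
    exact this.symm
  have hNcard : Nat.card N = p ^ d := by
    rw [Nat.card_eq_of_bijective _ hbij, Nat.card_eq_fintype_card, hcard]
  obtain rfl : r = p := by
    rw [hNcard] at hrd
    exact (Nat.prime_dvd_prime_iff_eq hr hp).1 (hr.dvd_of_dvd_pow hrd)
  have hd : 0 < d := by
    rcases Nat.eq_zero_or_pos d with h | h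
    · rw [h, pow_zero] at hNcard
      exact absurd (Subgroup.card_eq_one.1 hNcard) hN0
    · exact h
  -- the minimal normal subgroup of the stabiliser
  haveI : Nontrivial H := ⟨⟨⟨h₁, hh₁⟩, 1, hh₁1⟩⟩
  obtain ⟨M₀, hM₀, -, hM₀0, hM₀min⟩ := Hall.exists_minimal_normal (⊤ : Subgroup H) top_ne_bot
  haveI := hM₀
  obtain ⟨q, hq, hqd, -, hMc₀, hMe₀⟩ := Hall.minimal_normal_isElementaryAbelian hM₀0 hM₀min
  set M := M₀.map H.subtype with hMdef
  have hM0 : M ≠ ⊥ := fun h => hM₀0 ((Subgroup.map_eq_bot_iff_of_injective _ H.subtype_injective).1 h)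
  have hMH : M ≤ H := Subgroup.map_subtype_le _
  have hMn : ∀ h ∈ H, ∀ m ∈ M, h * m * h⁻¹ ∈ M := by
    rintro h hh _ ⟨m, hm, rfl⟩
    exact ⟨⟨h, hh⟩ * m * ⟨h, hh⟩⁻¹, hM₀.conj_mem m hm ⟨h, hh⟩, rfl⟩
  have hMnorm : H ≤ Subgroup.normalizer (M : Set G) := fun h hh => Subgroup.mem_normalizer_iff.2 fun m =>
    ⟨hMn h hh m, fun hm => by simpa [mul_assoc] using hMn h⁻¹ (H.inv_mem hh) _ hm⟩
  have hMc : ∀ x ∈ M, ∀ y ∈ M, x * y = y * x := by
    rintro _ ⟨x, hx, rfl⟩ _ ⟨y, hy, rfl⟩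
    exact congrArg (fun z : M₀ => ((z : H) : G)) (hMc₀.is_comm.comm (⟨x, hx⟩ : M₀) ⟨y, hy⟩)
  obtain ⟨horb, hirr⟩ := S3495.result hprim hH hep N inferInstance r hp hNe hNtr hNreg α M hM0 hMH hMnorm
  have hnorm : ∀ L : Subgroup G, (∀ m ∈ M, ∀ l ∈ L, m * l * m⁻¹ ∈ L) → M ≤ Subgroup.normalizer (L : Set G) :=
    fun L hL m hm => Subgroup.mem_normalizer_iff.2 fun l =>
      ⟨hL m hm l, fun h => by simpa [mul_assoc] using hL m⁻¹ (M.inv_mem hm) _ h⟩
  have hconjsmul : ∀ h ∈ H, ∀ n : G, (h * n * h⁻¹) • α = h • n • α := by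
    intro h hh n
    rw [mul_smul, mul_smul, inv_smul_eq_iff.2 (hh : h • α = α).symm]
  have hfaith : ∀ h ∈ H, (∀ n ∈ N, h * n * h⁻¹ = n) → h = 1 := by
    intro h hh hc
    refine eq_of_smul_eq_smul (α := Ω) fun w => ?_
    obtain ⟨⟨n, hn⟩, rfl⟩ := exists_smul_eq N α w
    change h • n • α = (1 : G) • n • α
    rw [one_smul, ← hconjsmul h hh n, hc n hn]
  have hcO : ∀ h ∈ H, ∀ n ∈ N, ∃ m ∈ M, h * n * h⁻¹ = m * n * m⁻¹ := by
    intro h hh n hn
    obtain ⟨⟨m, hm⟩, hmn⟩ : h • n • α ∈ orbit M (n • α) := by rw [horb]; exact ⟨⟨h, hh⟩, rfl⟩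
    refine ⟨m, hm, congrArg Subtype.val (hbij.1 (a₁ := ⟨_, hN.conj_mem n hn h⟩) (a₂ := ⟨_, hN.conj_mem n hn m⟩) ?_)⟩
    change (h * n * h⁻¹) • α = (m * n * m⁻¹) • α
    rw [hconjsmul h hh, hconjsmul m (hMH hm)]
    exact hmn.symm
  obtain ⟨hcyc, hmin, ψ, hψ⟩ := Recognition.SemilinearBound.main N r d hNcard hNe hd H M hMH hMn hMc hfaith
    (fun L hL hinv => hirr L hL (hnorm L hinv)) hcO
  have hMcard : Nat.card M = q := by
    obtain ⟨g, hg⟩ := hcyc.exists_generator
    have h1 : orderOf g = Nat.card M := orderOf_eq_card_of_forall_mem_zpowers hg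
    have h2 : g ^ q = 1 := by
      obtain ⟨m, hm, hmg⟩ := g.2
      refine Subtype.ext ?_
      rw [SubmonoidClass.coe_pow, OneMemClass.coe_one, ← hmg, ← map_pow, hMe₀ m hm, map_one]
    rcases (Nat.dvd_prime hq).1 (h1 ▸ orderOf_dvd_of_pow_eq_one h2) with h | h
    · exact absurd (Subgroup.card_eq_one.1 h) hM0
    · exact h
  haveI := Fact.mk hq
  have hMp : IsPGroup q M := IsPGroup.of_card (n := 1) (by rw [pow_one, hMcard])
  have hnofix : ∀ w : Ω, w ∈ fixedPoints M Ω → w = α := by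
    intro w hw
    obtain ⟨⟨n, hn⟩, rfl⟩ := exists_smul_eq N α w
    have hX := hirr (N ⊓ Subgroup.centralizer (M : Set G)) inf_le_left (hnorm _ fun m hm l hl => by
      rw [show m * l * m⁻¹ = l by rw [hl.2 m hm, mul_inv_cancel_right]]
      exact hl)
    have hnX : n ∈ N ⊓ Subgroup.centralizer (M : Set G) := ⟨hn, fun m hm => by
      have : (⟨m * n * m⁻¹, hN.conj_mem n hn m⟩ : N) = ⟨n, hn⟩ := hbij.1 (by
        change (m * n * m⁻¹) • α = n • α
        rw [hconjsmul m (hMH hm)]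
        exact hw ⟨m, hm⟩)
      exact mul_inv_eq_iff_eq_mul.1 (congrArg Subtype.val this)⟩
    rcases hX with hX | hX
    · rw [hX, Subgroup.mem_bot] at hnX
      change n • α = α
      rw [hnX, one_smul]
    · exfalso
      refine hM0 ((Subgroup.eq_bot_iff_forall M).2 fun m hm => hfaith m (hMH hm) fun u hu => ?_)
      have hu' : u ∈ Subgroup.centralizer (M : Set G) := (hX.symm ▸ hu : u ∈ N ⊓ _).2
      rw [hu' m hm, mul_inv_cancel_right]
  refine ⟨q, hq, fun w hw => ?_, ?_, fun i hi hid => hMcard ▸ hmin i hi hid, M, hMH, hMnorm, hMcard, ?_, ?_⟩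
  · rw [← horb w]
    obtain ⟨k, hk⟩ := hMp.card_orbit w
    have hdvd : q ^ k ∣ q := by
      rw [← hk, ← hMcard]
      rw [Nat.card_congr (orbitEquivQuotientStabilizer M w)]
      exact Subgroup.index_dvd_card _
    rcases (Nat.dvd_prime hq).1 hdvd with h | h
    · exfalso
      refine hw (hnofix w fun m => ?_)
      have hs := (Nat.card_eq_one_iff_unique.1 (hk.trans h)).1
      exact congrArg Subtype.val (hs.elim ⟨m • w, mem_orbit w m⟩ ⟨w, mem_orbit_self w⟩)
    · rw [hk, h]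
  · have h1 := hMp.card_modEq_card_fixedPoints Ω
    have h2 : Nat.card (fixedPoints M Ω) = 1 := Nat.card_eq_one_iff_unique.2
      ⟨⟨fun x y => Subtype.ext ((hnofix x x.2).trans (hnofix y y.2).symm)⟩,
        ⟨⟨α, fun m => (hMH m.2 : (m : G) • α = α)⟩⟩⟩
    rw [h2, Nat.card_eq_fintype_card, hcard] at h1
    exact (Nat.modEq_iff_dvd' (Nat.one_le_pow _ _ hp.pos)).1 h1.symm
  · obtain ⟨g, hg⟩ := (inferInstance : IsCyclic ψ.range).exists_generator
    obtain ⟨h, hh⟩ := g.2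
    refine ⟨(h : G), le_antisymm (fun x hx => ?_) (sup_le hMH ((Subgroup.zpowers_le).2 h.2))⟩
    obtain ⟨k, hk⟩ := Subgroup.mem_zpowers_iff.1 (hg ⟨ψ ⟨x, hx⟩, ⟨x, hx⟩, rfl⟩)
    have hk' : ψ h ^ k = ψ ⟨x, hx⟩ := by
      have := congrArg Subtype.val hk
      rwa [Subgroup.coe_zpow, ← hh] at this
    have hker : (⟨x, hx⟩ : H) * (h ^ k)⁻¹ ∈ ψ.ker := by
      rw [MonoidHom.mem_ker, map_mul, map_inv, map_zpow, hk', mul_inv_cancel]
    rw [hψ, Subgroup.mem_subgroupOf] at hker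
    have e : x = ((⟨x, hx⟩ : H) * (h ^ k)⁻¹ : H) * (h : G) ^ k := by simp
    rw [e]
    exact Subgroup.mul_mem_sup hker (zpow_mem (Subgroup.mem_zpowers _) k)
  · rw [← hMcard, ← Subgroup.card_mul_index ψ.ker, hψ,
      Nat.card_congr (Subgroup.subgroupOfEquivOfLe hMH).toEquiv]
    refine Nat.mul_dvd_mul_left _ ?_
    rw [← hψ, Subgroup.index_ker]
    refine (Subgroup.card_subgroup_dvd_card ψ.range).trans ?_
    rw [Nat.card_congr Multiplicative.toAdd, Nat.card_zmod]

end Cfsg.Agent.S3496
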