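import Cfsg.Statements.S3498

set_option autoImplicit false
open Cfsg

namespace Cfsg.Agent.S3498

/-- A maximal subgroup of a finite almost simple group does not have prime order. Here G is almost simple in the sense that it has a non-abelian simple normal subgroup T with trivial centralizer. -/
theorem result {G : Type*} [Group G] [Finite G] (T : Subgroup G) [T.Normal] (hT : IsSimpleGroup T) (hTc : ¬ IsMulCommutative T)
    (hC : Subgroup.centralizer (T : Set G) = ⊥) (H : Subgroup G) (hmax : IsCoatom H) : ¬ (Nat.card H).Prime := by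
  intro hp
  haveI := Fact.mk hp
  set p := Nat.card H with hpdef
  have hsimple := hT
  haveI hTn : Nontrivial T := hT.toNontrivial
  have hGn : Nontrivial G := ⟨⟨(Classical.choose (exists_ne (1 : T)) : T), 1, fun h =>
    Classical.choose_spec (exists_ne (1 : T)) (Subtype.ext h)⟩⟩
  have hZ : Subgroup.center G = ⊥ := by
    rw [eq_bot_iff, ← hC]
    exact Subgroup.center_le_centralizer _
  have hnotp : ∀ q : ℕ, q.Prime → ¬ IsPGroup q G := by
    intro q hq hG
    haveI := Fact.mk hq
    have := hG.center_nontrivial
    rw [hZ] at this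
    exact not_nontrivial_iff_subsingleton.2 inferInstance this
  have hcyc : IsCyclic H := isCyclic_of_prime_card hpdef.symm
  have hsub : ∀ K : Subgroup G, K ≤ H → K = ⊥ ∨ K = H := by
    intro K hK
    rcases (Nat.dvd_prime hp).1 (Subgroup.card_dvd_of_le hK) with h | h
    · exact Or.inl (Subgroup.card_eq_one.1 h)
    · exact Or.inr (Subgroup.eq_of_le_of_card_ge hK (le_of_eq h.symm))
  have hSyl : ∀ P : Sylow p G, H ≤ P → (P : Subgroup G) = H := by
    intro P hP
    rcases hmax.le_iff.1 hP with h | h
    · exact absurd (fun g => let ⟨k, hk⟩ := P.2 ⟨g, h ▸ Subgroup.mem_top g⟩; ⟨k, congrArg Subtype.val hk⟩) (hnotp p hp)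
    · exact h
  have hHp : IsPGroup p H := IsPGroup.of_card (n := 1) (by rw [pow_one])
  obtain ⟨P, hP⟩ := hHp.exists_le_sylow
  have hPH := hSyl P hP
  by_cases hHT : H ≤ T
  · -- the group is simple; transfer gives a normal complement
    rcases hmax.le_iff.1 hHT with htop | heq
    · haveI : IsSimpleGroup G :=
        IsSimpleGroup.isSimpleGroup_of_surjective (T.subtype) (fun g => ⟨⟨g, htop ▸ Subgroup.mem_top g⟩, rfl⟩)
      have hHn : ¬ H.Normal := fun hn => by
        rcases hn.eq_bot_or_eq_top with h | h
        · rw [h, Subgroup.card_bot] at hpdef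
          exact hp.one_lt.ne hpdef.symm
        · exact hmax.1 h
      have hN : Subgroup.normalizer (H : Set G) = H := by
        rcases hmax.le_iff.1 Subgroup.le_normalizer with h | h
        · exact absurd (Subgroup.normalizer_eq_top_iff.1 h) hHn
        · exact h
      have hP' : Subgroup.normalizer ((P : Subgroup G) : Set G) ≤
          Subgroup.centralizer ((P : Subgroup G) : Set G) := by
        rw [hPH, hN]
        haveI : IsMulCommutative H := hcyc.isMulCommutative
        exact H.le_centralizer
      have hk := MonoidHom.ker_transferSylow_isComplement' P hP'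
      rcases (MonoidHom.normal_ker (MonoidHom.transferSylow P hP')).eq_bot_or_eq_top with h | h
      · rw [h] at hk
        have := Subgroup.isComplement'_bot_left.1 hk
        exact hmax.1 (hPH ▸ this)
      · rw [h] at hk
        have := Subgroup.isComplement'_top_left.1 hk
        rw [hPH] at this
        rw [this, Subgroup.card_bot] at hpdef
        exact hp.one_lt.ne hpdef.symm
    · refine hTc ?_
      rw [heq]
      exact hcyc.isMulCommutative
  · have hint : H ⊓ T = ⊥ := (hsub _ inf_le_left).resolve_right fun h => hHT (inf_eq_left.1 h)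
    have hinv : ∀ Q : Subgroup G, Q ≤ T → H ≤ Subgroup.normalizer (Q : Set G) → Q = ⊥ ∨ Q = T := by
      intro Q hQT hHQ
      rcases hmax.le_iff.1 (le_sup_left : H ≤ H ⊔ Q) with h | h
      · refine Or.inr (le_antisymm hQT fun t ht => ?_)
        have htm : t ∈ ((H ⊔ Q : Subgroup G) : Set G) := h ▸ Subgroup.mem_top t
        rw [Subgroup.coe_mul_of_left_le_normalizer_right _ _ hHQ] at htm
        obtain ⟨x, hx, q, hq, rfl⟩ := htm
        have hxT : x ∈ T := by
          have := T.mul_mem ht (T.inv_mem (hQT hq))
          rwa [mul_inv_cancel_right] at this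
        have : x ∈ H ⊓ T := ⟨hx, hxT⟩
        rw [hint, Subgroup.mem_bot] at this
        simpa [this] using hq
      · refine Or.inl ?_
        have : Q ≤ H ⊓ T := le_inf (h ▸ le_sup_right) hQT
        rwa [hint, le_bot_iff] at this
    obtain ⟨q, hq, hqT⟩ := Nat.exists_prime_and_dvd (Finite.one_lt_card (α := T)).ne'
    haveI := Fact.mk hq
    obtain ⟨Q⟩ := (inferInstance : Nonempty (Sylow q T))
    set N := Subgroup.normalizer ((Q : Subgroup T).map T.subtype : Set G) with hNdef
    have hNT : ¬ N ≤ T := by
      intro hle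
      have := Sylow.normalizer_sup_eq_top Q
      rw [← hNdef, sup_eq_right.2 hle] at this
      exact hHT (this ▸ le_top)
    obtain ⟨y, hyN, hyT⟩ := SetLike.not_le_iff_exists.1 hNT
    have hcardq : Nat.card (G ⧸ T) = p := by
      have htop : H ⊔ T = ⊤ := (hmax.le_iff.1 le_sup_left).resolve_right fun h => hHT (by
        have hTH : T ≤ H := h ▸ le_sup_right
        rcases hsub T hTH with h' | h'
        · exact absurd ((Subgroup.nontrivial_iff_ne_bot T).1 hTn) (not_not_intro h')
        · exact h'.ge)
      rw [← Subgroup.index_eq_card, ← Subgroup.relIndex_top_right, ← htop, sup_comm,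
        Subgroup.relIndex_sup_left, ← Subgroup.inf_relIndex_right, inf_comm, hint,
        Subgroup.relIndex_bot_left]
    have hy : orderOf (QuotientGroup.mk' T y) = p := by
      refine ((Nat.dvd_prime hp).1 (hcardq ▸ orderOf_dvd_natCard _)).resolve_left ?_
      rw [orderOf_eq_one_iff, QuotientGroup.mk'_apply, QuotientGroup.eq_one_iff]
      exact hyT
    have hpy : p ∣ orderOf y := hy ▸ orderOf_map_dvd _ y
    obtain ⟨c, hc⟩ := hpy
    have hz : orderOf (y ^ c) = p := by
      rw [orderOf_pow, hc, Nat.gcd_eq_right (dvd_mul_left _ _), Nat.mul_div_cancel]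
      rcases Nat.eq_zero_or_pos c with rfl | hcp
      · simp [(orderOf_pos y).ne'] at hc
      · exact hcp
    have hcardz : Nat.card (Subgroup.zpowers (y ^ c)) = p := by rw [Nat.card_zpowers, hz]
    have hzp : IsPGroup p (Subgroup.zpowers (y ^ c)) :=
      IsPGroup.of_card (n := 1) (by rw [hcardz, pow_one])
    obtain ⟨R, hR⟩ := hzp.exists_le_sylow
    obtain ⟨g, hg⟩ := MulAction.exists_smul_eq G R P
    have hRcard : Nat.card (R : Subgroup G) = p := by
      rw [← Sylow.card_eq_multiplicity P |>.trans (Sylow.card_eq_multiplicity R).symm, hPH]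
    have hReq : Subgroup.zpowers (y ^ c) = (R : Subgroup G) :=
      Subgroup.eq_of_le_of_card_ge hR (by rw [hRcard, hcardz])
    have hRN : (R : Subgroup G) ≤ N := hReq ▸ Subgroup.zpowers_le.2 (N.pow_mem hyN c)
    set Q' := ((Q : Subgroup T).map T.subtype).map (MulAut.conj g).toMonoidHom with hQ'
    have hQ'T : Q' ≤ T := by
      rintro _ ⟨_, ⟨a, _, rfl⟩, rfl⟩
      exact Subgroup.Normal.conj_mem inferInstance _ a.2 g
    have hHQ' : H ≤ Subgroup.normalizer (Q' : Set G) := by
      rw [hQ', ← Subgroup.map_equiv_normalizer_eq ((Q : Subgroup T).map T.subtype) (MulAut.conj g),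
        ← hPH, ← hg, Sylow.coe_subgroup_smul]
      exact Subgroup.map_mono hRN
    have hQne : (Q : Subgroup T) ≠ ⊥ := Q.ne_bot_of_dvd_card hqT
    rcases hinv Q' hQ'T hHQ' with h | h
    · rw [hQ', Subgroup.map_eq_bot_iff_of_injective _ (MulEquiv.injective _),
        Subgroup.map_eq_bot_iff_of_injective _ T.subtype_injective] at h
      exact hQne h
    · have hQT : IsPGroup q T := h ▸ (Q.2.map T.subtype).map _
      have := hQT.center_nontrivial
      rcases (inferInstance : (Subgroup.center T).Normal).eq_bot_or_eq_top with hz | hz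
      · rw [hz] at this
        exact not_nontrivial_iff_subsingleton.2 inferInstance this
      · exact hTc ⟨⟨fun a b => (Subgroup.mem_center_iff.1 (hz ▸ Subgroup.mem_top b) a)⟩⟩

end Cfsg.Agent.S3498
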