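import Cfsg.Statements.S3501
import Cfsg.Agent.Recognition.DerangementClass

set_option autoImplicit false
open Cfsg

namespace Cfsg.Agent.S3501

/-- Let a finite group G act faithfully and primitively on a finite set Ω with at least two points, and suppose G is not almost simple (it has no non-abelian simple normal subgroup with trivial centralizer). Then the derangements of G form a single conjugacy class if and only if G is sharply 2-transitive (2-transitive, and no non-identity element fixes two points). -/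
theorem result {G : Type*} [Group G] [Finite G] {Ω : Type*} [Fintype Ω] [MulAction G Ω] [FaithfulSMul G Ω] (hΩ : 2 ≤ Fintype.card Ω) (hprim : MulAction.IsPreprimitive G Ω) (hnas : ¬ ∃ T : Subgroup G, T.Normal ∧ IsSimpleGroup T ∧ ¬ IsMulCommutative T ∧ Subgroup.centralizer (T : Set G) = ⊥) :
    Nat.card {c : ConjClasses G // ∃ g : G, ConjClasses.mk g = c ∧ ∀ ω : Ω, g • ω ≠ ω} = 1 ↔ (MulAction.IsMultiplyPretransitive G Ω 2 ∧ ∀ g : G, g ≠ 1 → ∀ a b : Ω, a ≠ b → g • a = a → g • b ≠ b) := by
  constructor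
  · intro h
    have hs := (Nat.card_eq_one_iff_unique.1 h).1
    have h1 : ∀ d e : G, (∀ ω : Ω, d • ω ≠ ω) → (∀ ω : Ω, e • ω ≠ ω) → IsConj d e := fun d e hd he =>
      ConjClasses.mk_eq_mk_iff_isConj.1 (congrArg Subtype.val
        (hs.elim ⟨ConjClasses.mk d, d, rfl, hd⟩ ⟨ConjClasses.mk e, e, rfl, he⟩))
    obtain ⟨N, hN, hNt, hsr⟩ := Recognition.DerangementClass.exists_regular hΩ hprim hnas h1
    exact Recognition.DerangementClass.sharp_of_regular hΩ h1 N hsr
  · rintro ⟨h2, hsh⟩
    obtain ⟨⟨d, hd⟩, h1⟩ := Recognition.DerangementClass.one_class_of_sharp hΩ h2 hsh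
    refine Nat.card_eq_one_iff_unique.2 ⟨⟨?_⟩, ⟨⟨_, d, rfl, hd⟩⟩⟩
    rintro ⟨_, u, rfl, hu⟩ ⟨_, v, rfl, hv⟩
    exact Subtype.ext (ConjClasses.mk_eq_mk_iff_isConj.2 (h1 u v hu hv))

end Cfsg.Agent.S3501
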