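import Cfsg.Statements.S3504
import Mathlib

set_option autoImplicit false
open Cfsg

namespace Cfsg.Agent.S3504

open Equiv

/-- The cycle type of a fixed-point-free permutation of prime order. -/
theorem cycleType_fpf {n : ℕ} (g : Perm (Fin n)) (hg : (orderOf g).Prime) (hfix : ∀ i, g i ≠ i) :
    ∃ t, n = (t + 1) * orderOf g ∧ g.cycleType = Multiset.replicate (t + 1) (orderOf g) := by
  obtain ⟨t, ht⟩ := Perm.cycleType_prime_order hg
  refine ⟨t, ?_, ht⟩
  have hs : g.support = Finset.univ := Finset.eq_univ_of_forall fun i => Perm.mem_support.2 (hfix i)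
  have h := g.sum_cycleType
  rw [ht, hs, Multiset.sum_replicate, Finset.card_univ, Fintype.card_fin, smul_eq_mul] at h
  exact h.symm

/-- For every prime divisor of `n` there is such a permutation. -/
theorem exists_fpf {n q : ℕ} (hq : q.Prime) (hd : q ∣ n) (hn : n ≠ 0) :
    ∃ g : Perm (Fin n), orderOf g = q ∧ ∀ i, g i ≠ i := by
  haveI := Fact.mk hq
  haveI : Fact (1 < q) := ⟨hq.one_lt⟩
  have hc : Fintype.card (Fin n) = Fintype.card (Fin (n / q) × ZMod q) := by
    rw [Fintype.card_prod, ZMod.card, Fintype.card_fin, Fintype.card_fin, Nat.div_mul_cancel hd]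
  let e := Fintype.equivOfCardEq hc
  let σ : Perm (Fin (n / q) × ZMod q) := (Equiv.refl _).prodCongr (Equiv.addRight 1)
  have hpow : ∀ (k : ℕ) x, (σ ^ k) x = (x.1, x.2 + k) := by
    intro k
    induction k with
    | zero => intro x; simp
    | succ k ih =>
      intro x
      rw [pow_succ', Perm.mul_apply, ih]
      simp [σ, add_assoc]
  have hne : ∀ i, e.symm.permCongr σ i ≠ i := fun i h => by
    rw [Equiv.permCongr_apply, Equiv.symm_symm, Equiv.symm_apply_eq] at h
    have h2 := congrArg Prod.snd h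
    simp [σ] at h2
  have hord : orderOf σ = q := by
    refine orderOf_eq_prime ?_ fun h => ?_
    · ext x <;> simp [hpow]
    · have hpos : 0 < n / q := Nat.div_pos (Nat.le_of_dvd (Nat.pos_of_ne_zero hn) hd) hq.pos
      simpa [σ] using congrArg Prod.snd (Perm.congr_fun h (⟨0, hpos⟩, 0))
  refine ⟨e.symm.permCongrHom σ, ?_, hne⟩
  rw [MulEquiv.orderOf_eq, hord]

/-- For n ≥ 5, the fixed-point-free permutations of prime order in the symmetric group of degree n form a single conjugacy class if and only if n is a prime power. -/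
theorem result (n : ℕ) (hn : 5 ≤ n) :
    Nat.card {c : ConjClasses (Equiv.Perm (Fin n)) // ∃ g : Equiv.Perm (Fin n), ConjClasses.mk g = c ∧ (orderOf g).Prime ∧ ∀ i : Fin n, g i ≠ i} = 1 ↔ IsPrimePow n := by
  classical
  have hex : ∀ q : {q // q ∈ n.primeFactors}, ∃ g : Perm (Fin n), orderOf g = q.1 ∧ ∀ i, g i ≠ i := fun q =>
    exists_fpf (Nat.prime_of_mem_primeFactors q.2) (Nat.dvd_of_mem_primeFactors q.2) (by omega)
  choose g hg1 hg2 using hex
  let f : {q // q ∈ n.primeFactors} →
      {c : ConjClasses (Perm (Fin n)) // ∃ g : Perm (Fin n), ConjClasses.mk g = c ∧ (orderOf g).Prime ∧ ∀ i : Fin n, g i ≠ i} :=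
    fun q => ⟨ConjClasses.mk (g q), g q, rfl, hg1 q ▸ Nat.prime_of_mem_primeFactors q.2, hg2 q⟩
  have hbij : Function.Bijective f := by
    constructor
    · intro a b hab
      have h : IsConj (g a) (g b) := ConjClasses.mk_eq_mk_iff_isConj.1 (congrArg Subtype.val hab)
      apply Subtype.ext
      rw [← hg1 a, ← hg1 b, ← Perm.lcm_cycleType, ← Perm.lcm_cycleType, Perm.isConj_iff_cycleType_eq.1 h]
    · rintro ⟨c, x, rfl, hx, hfix⟩
      obtain ⟨t, hn1, hct⟩ := cycleType_fpf x hx hfix
      have hmem : orderOf x ∈ n.primeFactors :=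
        Nat.mem_primeFactors.2 ⟨hx, (dvd_mul_left _ _).trans hn1.symm.dvd, by omega⟩
      refine ⟨⟨_, hmem⟩, Subtype.ext (ConjClasses.mk_eq_mk_iff_isConj.2 (Perm.isConj_iff_cycleType_eq.2 ?_))⟩
      obtain ⟨u, hn2, hcu⟩ := cycleType_fpf (g ⟨_, hmem⟩) (by rw [hg1]; exact hx) (hg2 _)
      rw [hg1] at hn2 hcu
      rw [hcu, hct, Nat.eq_of_mul_eq_mul_right hx.pos (hn2.symm.trans hn1)]
  rw [← Nat.card_congr (Equiv.ofBijective f hbij), Nat.card_eq_fintype_card, Fintype.card_coe,
    isPrimePow_iff_card_primeFactors_eq_one]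

end Cfsg.Agent.S3504
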