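import Cfsg.Statements.S3508
import Mathlib

set_option autoImplicit false
open Cfsg

namespace Cfsg.Agent.S3508

open Polynomial in
/-- In characteristic `p`, the sum of the powers of `X` below a `p`-power is a power of `X - 1`. -/
theorem geom_sum_char (p : ℕ) [Fact p.Prime] (s : ℕ) :
    (∑ i ∈ Finset.range (p ^ s), (X : (ZMod p)[X]) ^ i) = (X - 1) ^ (p ^ s - 1) := by
  have hne : (X - 1 : (ZMod p)[X]) ≠ 0 := X_sub_C_ne_zero (1 : ZMod p)
  refine mul_right_cancel₀ hne ?_
  rw [geom_sum_mul, ← pow_succ, Nat.sub_add_cancel (Nat.one_le_pow _ _ (Fact.out : p.Prime).pos),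
    sub_pow_char_pow, one_pow]

open Polynomial in
/-- A linear map killed by a `p`-power has vanishing geometric sum for any large `p`-power. -/
theorem geom_sum_eq_zero (p : ℕ) [Fact p.Prime] {V : Type*} [AddCommGroup V] [Module (ZMod p) V]
    [Module.Finite (ZMod p) V] (A : Module.End (ZMod p) V) (r s : ℕ) (hA : A ^ p ^ r = 1)
    (hs : Module.finrank (ZMod p) V < p ^ s) :
    (∑ i ∈ Finset.range (p ^ s), A ^ i) = 0 ∧ A ^ p ^ s = 1 := by
  have h1 : (A - 1) ^ p ^ r = 0 := by
    have := congrArg (aeval A) (sub_pow_char_pow (p := p) (X : (ZMod p)[X]) 1 r)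
    simpa [hA] using this
  have hn : (A - 1) ^ Module.finrank (ZMod p) V = 0 := by
    have hc := IsNilpotent.charpoly_eq_X_pow_finrank (φ := A - 1) ⟨_, h1⟩
    have := LinearMap.aeval_self_charpoly (A - 1)
    rw [hc] at this
    simpa using this
  have hP : (A - 1) ^ (p ^ s - 1) = 0 := pow_eq_zero_of_le (by omega) hn
  have e := congrArg (aeval A) (geom_sum_char p s)
  have hsum : (∑ i ∈ Finset.range (p ^ s), A ^ i) = 0 := by simpa [hP] using e
  refine ⟨hsum, ?_⟩
  have e2 := geom_sum_mul A (p ^ s)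
  rw [hsum, zero_mul] at e2
  exact sub_eq_zero.1 e2.symm

/-- Form of `geom_sum_eq_zero` for iterates of an additive map. -/
theorem sum_iterate_eq_zero (p : ℕ) [Fact p.Prime] {V : Type*} [AddCommGroup V] [Module (ZMod p) V]
    [Finite V] (m : ℕ) (hcard : Nat.card V = p ^ m) (φ : V →+ V) (r s : ℕ)
    (hφ : ∀ x, φ^[p ^ r] x = x) (hs : m < p ^ s) :
    (∀ x, ∑ i ∈ Finset.range (p ^ s), φ^[i] x = 0) ∧ ∀ x, φ^[p ^ s] x = x := by
  haveI : Module.Finite (ZMod p) V := Module.Finite.of_finite
  have hfr : Module.finrank (ZMod p) V = m := by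
    have hc := Module.natCard_eq_pow_finrank (K := ZMod p) (V := V)
    rw [Nat.card_zmod, hcard] at hc
    exact (Nat.pow_right_injective (Fact.out : p.Prime).two_le hc).symm
  let A : Module.End (ZMod p) V := φ.toZModLinearMap p
  have hA : ∀ (i : ℕ) (x : V), (A ^ i) x = φ^[i] x := fun i x => by
    rw [Module.End.coe_pow]; rfl
  have hA1 : A ^ p ^ r = 1 := LinearMap.ext fun x => by rw [hA, hφ]; rfl
  obtain ⟨h1, h2⟩ := geom_sum_eq_zero p A r s hA1 (hfr.trans_lt hs)
  refine ⟨fun x => ?_, fun x => ?_⟩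
  · rw [Finset.sum_congr rfl fun i _ => (hA i x).symm, ← LinearMap.sum_apply, h1]; rfl
  · rw [← hA, h2]; rfl

/-- Multiplicative form of `sum_iterate_eq_zero`. -/
theorem prod_iterate_eq_one (p : ℕ) [Fact p.Prime] {M : Type*} [CommGroup M] [Finite M]
    (hexp : ∀ x : M, x ^ p = 1) (m : ℕ) (hcard : Nat.card M = p ^ m) (φ : M →* M) (r s : ℕ)
    (hφ : ∀ x, φ^[p ^ r] x = x) (hs : m < p ^ s) :
    (∀ x, ∏ i ∈ Finset.range (p ^ s), φ^[i] x = 1) ∧ ∀ x, φ^[p ^ s] x = x := by
  have inst : Module (ZMod p) (Additive M) := AddCommGroup.zmodModule fun x => hexp x.toMul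
  exact @sum_iterate_eq_zero p _ (Additive M) _ inst _ m hcard (MonoidHom.toAdditive φ) r s hφ hs

/-- Let a finite group G act faithfully on a set Ω with p ^ m points (p prime) and have an elementary abelian normal p-subgroup N acting regularly on Ω (so G is a group of affine transformations of an m-dimensional space over the field with p elements). If G contains an element of order p ^ r with r ≥ 1, then p ^ (r − 1) ≤ m. In particular an element of order p ^ m forces m ≤ 2, and m ≤ 1 when p is odd. -/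
theorem result {G : Type*} [Group G] [Finite G] {Ω : Type*} [Fintype Ω] [MulAction G Ω] [FaithfulSMul G Ω] (p m : ℕ) (hp : p.Prime) (hcard : Fintype.card Ω = p ^ m)
    (N : Subgroup G) [N.Normal] (hNc : IsMulCommutative N) (hNp : ∀ n ∈ N, n ^ p = 1)
    (hNtr : MulAction.IsPretransitive N Ω) (hNreg : ∀ ω : Ω, MulAction.stabilizer N ω = ⊥)
    (g : G) (r : ℕ) (hr : 1 ≤ r) (hg : orderOf g = p ^ r) :
    p ^ (r - 1) ≤ m ∧ (r = m → m ≤ 2 ∧ (2 < p → m ≤ 1)) := by
  haveI := Fact.mk hp
  have hmain : p ^ (r - 1) ≤ m := by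
    by_contra hlt
    push Not at hlt
    obtain ⟨a⟩ : Nonempty Ω := Fintype.card_pos_iff.1 (hcard ▸ Nat.pow_pos hp.pos)
    obtain ⟨n₀, hn₀⟩ := MulAction.exists_smul_eq N a (g • a)
    set h : G := (n₀ : G)⁻¹ * g with hh
    have hha : h • a = a := by
      rw [hh, ← smul_smul, ← hn₀]; exact inv_smul_smul (n₀ : G) a
    -- the regular normal subgroup as a vector space
    letI : CommGroup N := { (inferInstance : Group N) with mul_comm := hNc.is_comm.comm }
    have hN : Nat.card N = p ^ m := by
      rw [← hcard, ← Nat.card_eq_fintype_card]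
      refine Nat.card_congr (Equiv.ofBijective (fun n : N => n • a) ⟨fun u v huv => ?_, fun ω => MulAction.exists_smul_eq N a ω⟩)
      have : v⁻¹ * u ∈ MulAction.stabilizer N a := by
        rw [MulAction.mem_stabilizer_iff, mul_smul, inv_smul_eq_iff]; exact huv
      rw [hNreg, Subgroup.mem_bot, inv_mul_eq_one] at this
      exact this.symm
    let φ : N →* N := MonoidHom.mk' (fun n => ⟨h * n * h⁻¹, (inferInstance : N.Normal).conj_mem n n.2 h⟩)
      fun x y => Subtype.ext (by simp only [Subgroup.coe_mul]; group)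
    have hAi : ∀ (i : ℕ) (x : N), ((φ^[i] x : N) : G) = h ^ i * x * (h ^ i)⁻¹ := by
      intro i
      induction i with
      | zero => intro x; simp
      | succ i ih =>
        intro x
        rw [Function.iterate_succ_apply']
        show h * ((φ^[i] x : N) : G) * h⁻¹ = _
        rw [ih, pow_succ']; group
    have hgk : ∀ k : ℕ, g ^ k = ((∏ i ∈ Finset.range k, φ^[i] n₀ : N) : G) * h ^ k := by
      intro k
      induction k with
      | zero => simp
      | succ k ih =>
        rw [pow_succ, ih, Finset.prod_range_succ, Subgroup.coe_mul, hAi,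
          show g = (n₀ : G) * h by rw [hh]; group, pow_succ]
        group
    have hA : ∀ x, φ^[p ^ r] x = x := by
      intro x
      apply Subtype.ext
      have e := hgk (p ^ r)
      rw [← hg, pow_orderOf_eq_one, hg] at e
      rw [hAi]
      have hmem : h ^ p ^ r ∈ N := by
        rw [eq_inv_of_mul_eq_one_right e.symm]; exact N.inv_mem (SetLike.coe_mem _)
      rw [show h ^ p ^ r * (x : G) = x * h ^ p ^ r from congrArg Subtype.val (mul_comm (⟨_, hmem⟩ : N) x),
        mul_inv_cancel_right]
    obtain ⟨hsum, hAP⟩ := prod_iterate_eq_one p (fun x : N => Subtype.ext (by simpa using hNp _ x.2)) m hN φ r (r - 1) hA hlt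
    have hh1 : h ^ p ^ (r - 1) = 1 := by
      refine eq_of_smul_eq_smul (α := Ω) fun ω => ?_
      obtain ⟨u, rfl⟩ := MulAction.exists_smul_eq N a ω
      have hu := hAi (p ^ (r - 1)) u
      rw [hAP] at hu
      have hu' : (u : G) = h ^ p ^ (r - 1) * u * (h ^ p ^ (r - 1))⁻¹ := hu
      have hstab : h ^ p ^ (r - 1) • a = a :=
        MulAction.mem_stabilizer_iff.1 (pow_mem (MulAction.mem_stabilizer_iff.2 hha) _)
      rw [one_smul, show u • a = (u : G) • a from rfl, smul_smul]
      conv_rhs => rw [hu', ← smul_smul, MulAction.mem_stabilizer_iff.1 (inv_mem (MulAction.mem_stabilizer_iff.2 hstab))]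
    have hg1 : g ^ p ^ (r - 1) = 1 := by
      rw [hgk, hsum, hh1]; simp
    have := Nat.le_of_dvd (Nat.pow_pos hp.pos) (hg ▸ orderOf_dvd_of_pow_eq_one hg1)
    have := Nat.pow_lt_pow_right hp.one_lt (show r - 1 < r by omega)
    omega
  refine ⟨hmain, fun hrm => ⟨?_, fun h2 => ?_⟩⟩ <;> subst hrm
  · by_contra h
    push Not at h
    have key : ∀ j, j + 3 < 2 ^ (j + 2) := by
      intro j; induction j with
      | zero => norm_num
      | succ j ih => rw [pow_succ]; omega
    obtain ⟨j, rfl⟩ : ∃ j, r = j + 3 := ⟨r - 3, by omega⟩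
    have := key j
    have : 2 ^ (j + 2) ≤ p ^ (j + 2) := Nat.pow_le_pow_left hp.two_le _
    simp only [show j + 3 - 1 = j + 2 by omega] at hmain
    omega
  · by_contra h
    push Not at h
    have key : ∀ j, j + 2 < 3 ^ (j + 1) := by
      intro j; induction j with
      | zero => norm_num
      | succ j ih => rw [pow_succ]; omega
    obtain ⟨j, rfl⟩ : ∃ j, r = j + 2 := ⟨r - 2, by omega⟩
    have := key j
    have : 3 ^ (j + 1) ≤ p ^ (j + 1) := Nat.pow_le_pow_left h2 _
    simp only [show j + 2 - 1 = j + 1 by omega] at hmain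
    omega

end Cfsg.Agent.S3508
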