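import Cfsg.Statements.S3511

set_option autoImplicit false
open Cfsg

namespace Cfsg.Agent.S3511

/-- Let a finite group G act faithfully on a set Ω. If every element of G of square-free order has a regular cycle (an orbit of the cyclic group it generates with trivial stabilizer), then every element of G has a regular cycle. -/
theorem result {G : Type*} [Group G] [Finite G] {Ω : Type*} [MulAction G Ω] [FaithfulSMul G Ω]
    (h : ∀ g : G, Squarefree (orderOf g) → ∃ ω : Ω, MulAction.stabilizer (Subgroup.zpowers g) ω = ⊥) (g : G) :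
    ∃ ω : Ω, MulAction.stabilizer (Subgroup.zpowers g) ω = ⊥ := by
  classical
  set n := orderOf g with hn
  set d := ∏ r ∈ n.primeFactors, r with hd
  have hnpos : 0 < n := orderOf_pos g
  have hdn : d ∣ n := Nat.prod_primeFactors_dvd n
  have hord : orderOf (g ^ (n / d)) = d := by
    rw [orderOf_pow, Nat.gcd_eq_right (Nat.div_dvd_of_dvd hdn), Nat.div_div_self hdn hnpos.ne']
  have hsq : Squarefree d := by
    refine Finset.squarefree_prod_of_pairwise_isCoprime (fun r hr r' hr' hne => ?_)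
      fun r hr => (Nat.prime_of_mem_primeFactors hr).squarefree
    show IsRelPrime r r'
    rw [← Nat.coprime_iff_isRelPrime]
    exact (Nat.coprime_primes (Nat.prime_of_mem_primeFactors hr) (Nat.prime_of_mem_primeFactors hr')).2 hne
  obtain ⟨ω, hω⟩ := h _ (hord.symm ▸ hsq)
  refine ⟨ω, (Subgroup.eq_bot_iff_forall _).2 fun x hx => ?_⟩
  by_contra hx1
  obtain ⟨a, ha⟩ := mem_powers_iff_mem_zpowers.2 x.2
  have ha' : g ^ a = (x : G) := ha
  obtain ⟨r, hr, hrd⟩ := Nat.exists_prime_and_dvd (mt orderOf_eq_one_iff.1 hx1)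
  obtain ⟨c, hc⟩ := hrd
  have hy : orderOf (x ^ c) = r := by
    rw [orderOf_pow, hc, Nat.gcd_eq_right (dvd_mul_left _ _), Nat.mul_div_cancel]
    rcases Nat.eq_zero_or_pos c with rfl | hcp
    · simp [(orderOf_pos x).ne'] at hc
    · exact hcp
  have hyG : orderOf (g ^ (a * c)) = r := by
    rw [pow_mul, ha', ← Subgroup.coe_pow, Subgroup.orderOf_coe, hy]
  have h1 : n ∣ a * c * r := by
    rw [hn, orderOf_dvd_iff_pow_eq_one, pow_mul]
    nth_rewrite 1 [← hyG]
    exact pow_orderOf_eq_one _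
  have hrn : r ∣ n := hyG ▸ orderOf_pow_dvd (a * c)
  have hrd' : r ∣ d := Finset.dvd_prod_of_mem _ (Nat.mem_primeFactors.2 ⟨hr, hrn, hnpos.ne'⟩)
  have h2 : n / d ∣ a * c := by
    refine (Nat.div_dvd_div_left hdn hrd').trans ?_
    rw [Nat.div_dvd_iff_dvd_mul hrn hr.pos, mul_comm r]
    exact h1
  obtain ⟨e, he⟩ := h2
  have hmem : g ^ (a * c) ∈ Subgroup.zpowers (g ^ (n / d)) := ⟨(e : ℤ), by rw [he, pow_mul]; exact zpow_natCast _ _⟩
  have hfix : (⟨g ^ (a * c), hmem⟩ : Subgroup.zpowers (g ^ (n / d))) ∈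
      MulAction.stabilizer (Subgroup.zpowers (g ^ (n / d))) ω := by
    have hxc := (MulAction.stabilizer (Subgroup.zpowers g) ω).pow_mem hx c
    rw [MulAction.mem_stabilizer_iff] at hxc ⊢
    rw [Subgroup.smul_def] at hxc ⊢
    rw [Subgroup.coe_pow, ← ha', ← pow_mul] at hxc
    exact hxc
  rw [hω, Subgroup.mem_bot] at hfix
  have h3 : g ^ (a * c) = 1 := congrArg Subtype.val hfix
  rw [h3, orderOf_one] at hyG
  exact hr.one_lt.ne hyG

end Cfsg.Agent.S3511
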