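import Cfsg.Statements.S3514

set_option autoImplicit false
open Cfsg
open scoped Pointwise

namespace Cfsg.Agent.S3514

/-- Let p be a prime, V a finite vector space over the field with p elements, and H a group of linear transformations of V all of whose orbits on V have size coprime to p. (i) Every normal subgroup K of H has all its orbits on V of size coprime to p. (ii) If N is a group of linear transformations of V of order coprime to p that is normalized by H, then the group generated by N and H has all its orbits on V of size coprime to p. -/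
theorem result (p : ℕ) [Fact p.Prime] {V : Type*} [AddCommGroup V] [Module (ZMod p) V] [Finite V]
    (H : Subgroup (V ≃ₗ[ZMod p] V)) (hH : ∀ v : V, ¬ p ∣ Nat.card {u : V | ∃ h ∈ H, h v = u}) :
    (∀ K : Subgroup (V ≃ₗ[ZMod p] V), K ≤ H → H ≤ Subgroup.normalizer (K : Set (V ≃ₗ[ZMod p] V)) →
        ∀ v : V, ¬ p ∣ Nat.card {u : V | ∃ k ∈ K, k v = u}) ∧
    (∀ N : Subgroup (V ≃ₗ[ZMod p] V), ¬ p ∣ Nat.card N → H ≤ Subgroup.normalizer (N : Set (V ≃ₗ[ZMod p] V)) →
        ∀ v : V, ¬ p ∣ Nat.card {u : V | ∃ x ∈ N ⊔ H, x v = u}) := by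
  classical
  haveI : Finite (V ≃ₗ[ZMod p] V) := Finite.of_injective _ DFunLike.coe_injective
  have horb : ∀ (X : Subgroup (V ≃ₗ[ZMod p] V)) (v : V), Nat.card {u : V | ∃ h ∈ X, h v = u} =
      (MulAction.stabilizer (V ≃ₗ[ZMod p] V) v).relIndex X := by
    intro X v
    rw [Subgroup.relIndex]
    have hset : {u : V | ∃ h ∈ X, h v = u} = MulAction.orbit X v := by
      ext u
      constructor
      · rintro ⟨h, hh, rfl⟩; exact ⟨⟨h, hh⟩, rfl⟩
      · rintro ⟨⟨h, hh⟩, rfl⟩; exact ⟨h, hh, rfl⟩
    have hst : (MulAction.stabilizer (V ≃ₗ[ZMod p] V) v).subgroupOf X = MulAction.stabilizer X v := by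
      ext x; rfl
    rw [hset, hst, MulAction.index_stabilizer]
    rfl
  refine ⟨fun K hK hKn v hd => hH v ?_, fun N hN hHN v hd => hH v ?_⟩
  · rw [horb] at hd ⊢
    refine hd.trans ?_
    set S := MulAction.stabilizer (V ≃ₗ[ZMod p] V) v
    haveI : (K.subgroupOf H).Normal := by
      rwa [Subgroup.normal_subgroupOf_iff_le_normalizer hK]
    -- compare the two ways down to `S ⊓ K` inside `H`
    have h1 : (S ⊓ K).relIndex K * K.relIndex H = (S ⊓ K).relIndex H :=
      Subgroup.relIndex_mul_relIndex _ _ _ inf_le_right hK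
    have h2 : (S ⊓ K).relIndex (S ⊓ H) * (S ⊓ H).relIndex H = (S ⊓ K).relIndex H :=
      Subgroup.relIndex_mul_relIndex _ _ _ (inf_le_inf_left _ hK) inf_le_right
    rw [Subgroup.inf_relIndex_right] at h1 h2
    have h3 : (S ⊓ K).relIndex (S ⊓ H) ∣ K.relIndex H := by
      have e : (S ⊓ K).relIndex (S ⊓ H) = K.relIndex (S ⊓ H) := by
        rw [← Subgroup.inf_relIndex_right K (S ⊓ H)]
        congr 1
        rw [inf_comm K, inf_assoc, inf_eq_right.2 hK]
      rw [e, ← Subgroup.relIndex_subgroupOf (H := K) (inf_le_right : S ⊓ H ≤ H)]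
      exact Subgroup.relIndex_dvd_index_of_normal _ _
    obtain ⟨c, hc⟩ := h3
    have hne : (S ⊓ K).relIndex (S ⊓ H) ≠ 0 :=
      Subgroup.index_ne_zero_of_finite
    refine ⟨c, ?_⟩
    refine mul_left_cancel₀ hne ?_
    rw [h2, ← h1, hc]
    ring
  · rw [horb] at hd ⊢
    set S := MulAction.stabilizer (V ≃ₗ[ZMod p] V) v
    have hle : (S ⊓ H).relIndex (N ⊔ H) = (S ⊓ H).relIndex H * H.relIndex (N ⊔ H) :=
      (Subgroup.relIndex_mul_relIndex _ _ _ inf_le_right le_sup_right).symm
    rw [Subgroup.inf_relIndex_right] at hle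
    have h1 : p ∣ S.relIndex H * H.relIndex (N ⊔ H) :=
      hle ▸ hd.trans (Subgroup.relIndex_dvd_of_le_left _ inf_le_left)
    have h2 : H.relIndex (N ⊔ H) ∣ Nat.card N := by
      rw [← Subgroup.inf_relIndex_right]
      have key : (H ⊓ (N ⊔ H)) = H := inf_eq_left.2 le_sup_right
      rw [key]
      have hcoe : ((N ⊔ H : Subgroup (V ≃ₗ[ZMod p] V)) : Set (V ≃ₗ[ZMod p] V)) = (N : Set (V ≃ₗ[ZMod p] V)) * (H : Set (V ≃ₗ[ZMod p] V)) :=
        Subgroup.coe_mul_of_right_le_normalizer_left N H hHN
      have hrel : H.relIndex (N ⊔ H) = H.relIndex N := by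
        simp only [Subgroup.relIndex, Subgroup.index]
        let f : N ⧸ H.subgroupOf N → ↥(N ⊔ H) ⧸ H.subgroupOf (N ⊔ H) :=
          Quotient.map' (Subgroup.inclusion le_sup_left) (fun a b hab => by
            rw [QuotientGroup.leftRel_apply] at hab ⊢
            simpa [Subgroup.mem_subgroupOf] using hab)
        refine (Nat.card_eq_of_bijective f ⟨?_, ?_⟩).symm
        · intro a b
          induction a using QuotientGroup.induction_on
          induction b using QuotientGroup.induction_on
          intro hab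
          exact QuotientGroup.eq.2 (by
            simpa [f, Subgroup.mem_subgroupOf] using QuotientGroup.eq.1 hab)
        · intro x
          induction x using QuotientGroup.induction_on with
          | _ x =>
            have hx : (x : V ≃ₗ[ZMod p] V) ∈ ((N ⊔ H : Subgroup (V ≃ₗ[ZMod p] V)) : Set (V ≃ₗ[ZMod p] V)) := x.2
            rw [hcoe] at hx
            obtain ⟨a, ha, b, hb, hab⟩ := hx
            refine ⟨QuotientGroup.mk ⟨a, ha⟩, QuotientGroup.eq.2 ?_⟩
            rw [Subgroup.mem_subgroupOf]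
            show a⁻¹ * (x : V ≃ₗ[ZMod p] V) ∈ H
            rw [← hab]
            simpa using hb
      rw [hrel]
      exact Subgroup.relIndex_dvd_card _ _
    rcases (Fact.out : p.Prime).dvd_mul.1 h1 with h | h
    · exact h
    · exact absurd (h.trans h2) hN

end Cfsg.Agent.S3514
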