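import Cfsg.Statements.S3515

set_option autoImplicit false
open Cfsg

namespace Cfsg.Agent.S3515

theorem four_points : ∀ a b c : Fin 2 → ZMod 2, a ≠ 0 → b ≠ 0 → c ≠ 0 → a ≠ b → c ≠ a → c ≠ b →
    c = a + b := by decide +kernel

/-- Every primitive affine permutation group of degree p² is 3-closed. Let p be a prime and G a group of permutations of the plane V = F_p² consisting of affine maps x ↦ Ax + b, containing all translations, and acting primitively on V. Then any permutation σ of V that agrees on every triple of points with some element of G (σ preserves every G-orbit on ordered triples) already lies in G. -/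
theorem result (p : ℕ) [Fact p.Prime] (G : Subgroup (Equiv.Perm (Fin 2 → ZMod p)))
    (haff : (G : Set (Equiv.Perm (Fin 2 → ZMod p))) ⊆ {τ : Equiv.Perm (Fin 2 → ZMod p) | ∃ (A : (Fin 2 → ZMod p) ≃ₗ[ZMod p] (Fin 2 → ZMod p)) (b : Fin 2 → ZMod p), ∀ x, τ x = A x + b})
    (htrans : ∀ b : Fin 2 → ZMod p, ∃ g ∈ G, ∀ x, g x = x + b) (hprim : MulAction.IsPreprimitive G (Fin 2 → ZMod p))
    (σ : Equiv.Perm (Fin 2 → ZMod p)) (hσ : (∀ t : Fin 3 → (Fin 2 → ZMod p), ∃ g ∈ G, ∀ i, σ (t i) = g (t i))) : σ ∈ G := by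
  classical
  obtain ⟨g₀, hg₀, hg₀0⟩ := hσ fun _ => 0
  have h00 : σ 0 = g₀ 0 := hg₀0 0
  set τ := g₀⁻¹ * σ with hτdef
  have hτ0 : τ 0 = 0 := by rw [hτdef, Equiv.Perm.mul_apply, h00]; simp
  -- `τ` agrees on every pair of vectors with a linear map from `G`
  have key : ∀ x y, ∃ (A : (Fin 2 → ZMod p) ≃ₗ[ZMod p] (Fin 2 → ZMod p)), A x = τ x ∧ A y = τ y ∧
      ∃ g ∈ G, ∀ z, g z = A z := by
    intro x y
    obtain ⟨g, hg, hgt⟩ := hσ ![0, x, y]
    have hg' := G.mul_mem (G.inv_mem hg₀) hg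
    obtain ⟨A, b, hAb⟩ := haff hg'
    have h0 : (g₀⁻¹ * g) 0 = τ 0 := by
      have := hgt 0; simp at this; rw [hτdef, Equiv.Perm.mul_apply, Equiv.Perm.mul_apply, this]
    have hb : b = 0 := by rw [hτ0, hAb 0, map_zero, zero_add] at h0; exact h0
    refine ⟨A, ?_, ?_, g₀⁻¹ * g, hg', fun z => by rw [hAb z, hb, add_zero]⟩
    · have := hgt 1; simp at this
      rw [hτdef, Equiv.Perm.mul_apply, this, ← Equiv.Perm.mul_apply, hAb x, hb, add_zero]
    · have := hgt 2; simp at this
      rw [hτdef, Equiv.Perm.mul_apply, this, ← Equiv.Perm.mul_apply, hAb y, hb, add_zero]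
  have hsmul : ∀ (c : ZMod p) x, τ (c • x) = c • τ x := by
    intro c x
    obtain ⟨A, h1, h2, -⟩ := key x (c • x)
    rw [← h2, map_smul, h1]
  have hadd : ∀ x y, τ (x + y) = τ x + τ y := by
    intro x y
    by_cases hp2 : p = 2
    · subst hp2
      by_cases hxy : x = y
      · subst hxy
        rw [ZModModule.add_self, hτ0, ZModModule.add_self]
      by_cases hx : x = 0
      · simp [hx, hτ0]
      by_cases hy : y = 0
      · simp [hy, hτ0]
      -- the four vectors of the plane are permuted with zero fixed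
      have hall : ∀ a b c : Fin 2 → ZMod 2, a ≠ 0 → b ≠ 0 → c ≠ 0 → a ≠ b → c ≠ a → c ≠ b →
          c = a + b := four_points
      have hne : ∀ z, z ≠ 0 → τ z ≠ 0 := fun z hz h => hz (τ.injective (h.trans hτ0.symm))
      have hsum : x + y ≠ 0 := fun h => hxy (by
        rw [← sub_eq_zero, ZModModule.sub_eq_add]; exact h)
      exact hall _ _ _ (hne x hx) (hne y hy) (hne _ hsum) (τ.injective.ne hxy)
        (τ.injective.ne (by simpa using hy)) (τ.injective.ne (by simpa using hx))
    · -- the midpoint of two points is preserved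
      have h2 : (2 : ZMod p) ≠ 0 := by
        intro h
        have : p ∣ 2 := (ZMod.natCast_eq_zero_iff 2 p).1 (by exact_mod_cast h)
        exact hp2 ((Nat.prime_dvd_prime_iff_eq Fact.out Nat.prime_two).1 this)
      obtain ⟨g, hg, hgt⟩ := hσ ![x, y, (2 : ZMod p)⁻¹ • (x + y)]
      obtain ⟨A, b, hAb⟩ := haff (G.mul_mem (G.inv_mem hg₀) hg)
      have e : ∀ i, τ (![x, y, (2 : ZMod p)⁻¹ • (x + y)] i) =
          A (![x, y, (2 : ZMod p)⁻¹ • (x + y)] i) + b := fun i => by
        rw [← hAb, hτdef, Equiv.Perm.mul_apply, Equiv.Perm.mul_apply, hgt i]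
      have e0 : τ x = A x + b := e 0
      have e1 : τ y = A y + b := e 1
      have e2 : (2 : ZMod p)⁻¹ • τ (x + y) = (2 : ZMod p)⁻¹ • (A x + A y) + b := by
        rw [← hsmul, ← map_add, ← map_smul]; exact e 2
      have h3 := congrArg (fun z => (2 : ZMod p) • z) e2
      simp only [smul_add, smul_inv_smul₀ h2] at h3
      rw [h3, e0, e1, two_smul]
      abel
  obtain ⟨A, hA1, hA2, g, hg, hgA⟩ := key (Pi.single 0 1) (Pi.single 1 1)
  have hτg : τ = g := by
    ext z : 1
    have hz : z = z 0 • (Pi.single 0 1 : Fin 2 → ZMod p) + z 1 • Pi.single 1 1 := by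
      ext i; fin_cases i <;> simp
    rw [hgA, hz, hadd, hsmul, hsmul, ← hA1, ← hA2, map_add, map_smul, map_smul]
  have := G.mul_mem hg₀ hg
  rw [← hτg, hτdef, mul_inv_cancel_left] at this
  exact this

end Cfsg.Agent.S3515
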