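import Cfsg.Statements.S3516
import Mathlib

set_option autoImplicit false
open Cfsg

namespace Cfsg.Agent.S3516

/-- A linear automorphism of prescribed determinant fixing two given vectors. -/
theorem exists_fixing {K : Type*} [Field K] {d : ℕ} (hd : 3 ≤ d) (u v : Fin d → K) (c : K) (hc : c ≠ 0) :
    ∃ B : (Fin d → K) ≃ₗ[K] (Fin d → K), B u = u ∧ B v = v ∧
      LinearMap.det (B : (Fin d → K) →ₗ[K] (Fin d → K)) = c := by
  classical
  set W := Submodule.span K ({u, v} : Set (Fin d → K)) with hW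
  have hWfr : Module.finrank K W ≤ 2 := by
    have h := finrank_span_finset_le_card (R := K) ({u, v} : Finset (Fin d → K))
    have h2 : ({u, v} : Finset (Fin d → K)).card ≤ 2 := Finset.card_le_two
    simp only [Finset.coe_insert, Finset.coe_singleton] at h
    exact h.trans h2
  have hlt : W < ⊤ := by
    refine lt_top_iff_ne_top.2 fun h => ?_
    rw [h, finrank_top, Module.finrank_fintype_fun_eq_card, Fintype.card_fin] at hWfr
    omega
  obtain ⟨φ, hφ0, hφ⟩ := Submodule.exists_le_ker_of_lt_top W hlt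
  obtain ⟨w, hw⟩ : ∃ w, φ w = 1 := by
    obtain ⟨x, hx⟩ : ∃ x, φ x ≠ 0 := by
      by_contra h
      push Not at h
      exact hφ0 (LinearMap.ext h)
    exact ⟨(φ x)⁻¹ • x, by simp [hx]⟩
  set T : (Fin d → K) →ₗ[K] (Fin d → K) := LinearMap.transvection φ ((c - 1) • w) with hT
  have hdet : LinearMap.det T = c := by
    rw [hT, LinearMap.transvection.det]; simp [hw]
  have hfix : ∀ x ∈ W, T x = x := fun x hx => by
    rw [hT, LinearMap.transvection.apply, LinearMap.mem_ker.1 (hφ hx), zero_smul, add_zero]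
  have hu : IsUnit (LinearMap.det T) := hdet.symm ▸ hc.isUnit
  refine ⟨LinearMap.equivOfIsUnitDet hu, ?_, ?_, ?_⟩
  · rw [LinearMap.equivOfIsUnitDet_apply]; exact hfix u (Submodule.subset_span (by simp))
  · rw [LinearMap.equivOfIsUnitDet_apply]; exact hfix v (Submodule.subset_span (by simp))
  · rw [LinearMap.coe_equivOfIsUnitDet]; exact hdet

/-- Let p be an odd prime, d ≥ 3, and G a group of affine permutations x ↦ Ax + b of V = F_p^d containing all translations and all maps x ↦ Ax with A of determinant 1. Then the 3-closure of G is the full affine group: a permutation σ of V agrees on every triple of points with some element of G if and only if σ is an affine map. -/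
theorem result (p : ℕ) [Fact p.Prime] (hp : p ≠ 2) (d : ℕ) (hd : 3 ≤ d) (G : Subgroup (Equiv.Perm (Fin d → ZMod p)))
    (haff : (G : Set (Equiv.Perm (Fin d → ZMod p))) ⊆ {τ : Equiv.Perm (Fin d → ZMod p) | ∃ (A : (Fin d → ZMod p) ≃ₗ[ZMod p] (Fin d → ZMod p)) (b : Fin d → ZMod p), ∀ x, τ x = A x + b})
    (htrans : ∀ b : Fin d → ZMod p, ∃ g ∈ G, ∀ x, g x = x + b)
    (hsl : ∀ A : (Fin d → ZMod p) ≃ₗ[ZMod p] (Fin d → ZMod p), LinearMap.det (A : (Fin d → ZMod p) →ₗ[ZMod p] (Fin d → ZMod p)) = 1 → ∃ g ∈ G, ∀ x, g x = A x)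
    (σ : Equiv.Perm (Fin d → ZMod p)) :
    (∀ t : Fin 3 → (Fin d → ZMod p), ∃ g ∈ G, ∀ i, σ (t i) = g (t i)) ↔ σ ∈ {τ : Equiv.Perm (Fin d → ZMod p) | ∃ (A : (Fin d → ZMod p) ≃ₗ[ZMod p] (Fin d → ZMod p)) (b : Fin d → ZMod p), ∀ x, τ x = A x + b} := by
  have h2 : (2 : ZMod p) ≠ 0 := by
    intro h
    have h' : ((2 : ℕ) : ZMod p) = 0 := by simpa using h
    rw [ZMod.natCast_eq_zero_iff] at h'
    exact hp ((Nat.prime_dvd_prime_iff_eq Fact.out Nat.prime_two).1 h')
  constructor
  · intro h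
    have hmid : ∀ x y, σ ((2 : ZMod p)⁻¹ • (x + y)) = (2 : ZMod p)⁻¹ • (σ x + σ y) := by
      intro x y
      obtain ⟨g, hg, hgi⟩ := h ![x, y, (2 : ZMod p)⁻¹ • (x + y)]
      obtain ⟨A, b, hA⟩ := haff hg
      have hh : (2 : ZMod p)⁻¹ • b + (2 : ZMod p)⁻¹ • b = b := by
        rw [← add_smul, ← two_mul, mul_inv_cancel₀ h2, one_smul]
      have e0 := hgi 0
      have e1 := hgi 1
      have e2 := hgi 2
      simp only [Matrix.cons_val_zero, Matrix.cons_val_one, Matrix.cons_val_two, Matrix.head_cons, Matrix.tail_cons] at e0 e1 e2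
      rw [e0, e1, e2, hA, hA, hA, map_smul, map_add, smul_add, smul_add, smul_add, smul_add]
      conv_lhs => rw [← hh]
      abel
    let f : (Fin d → ZMod p) → (Fin d → ZMod p) := fun x => σ x - σ 0
    have hf2 : ∀ x y, f ((2 : ZMod p)⁻¹ • (x + y)) = (2 : ZMod p)⁻¹ • (f x + f y) := by
      intro x y
      have hh : (2 : ZMod p)⁻¹ • σ 0 + (2 : ZMod p)⁻¹ • σ 0 = σ 0 := by
        rw [← add_smul, ← two_mul, mul_inv_cancel₀ h2, one_smul]
      simp only [f]
      rw [hmid]
      simp only [smul_add, smul_sub]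
      conv_lhs => arg 2; rw [← hh]
      abel
    have hadd : ∀ x y, f (x + y) = f x + f y := by
      intro x y
      have h1 := hf2 (x + y) 0
      have h0 : f 0 = 0 := sub_self _
      rw [add_zero, h0, add_zero, hf2 x y] at h1
      exact ((smul_right_injective _ (inv_ne_zero h2)) h1).symm
    have hinj : Function.Injective f := fun x y hxy => σ.injective (sub_left_injective hxy)
    let A := LinearEquiv.ofBijective ((AddMonoidHom.mk' f hadd).toZModLinearMap p)
      ⟨hinj, Finite.injective_iff_surjective.1 hinj⟩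
    exact ⟨A, σ 0, fun x => (sub_add_cancel (σ x) (σ 0)).symm⟩
  · rintro ⟨A, b, hσ⟩ t
    have hdetA : LinearMap.det (A : (Fin d → ZMod p) →ₗ[ZMod p] (Fin d → ZMod p)) ≠ 0 := A.isUnit_det'.ne_zero
    obtain ⟨B, hB1, hB2, hB⟩ := exists_fixing hd (t 1 - t 0) (t 2 - t 0) _ (inv_ne_zero hdetA)
    obtain ⟨g, hg, hgx⟩ := hsl (B.trans A) (by
      rw [LinearEquiv.coe_trans, LinearMap.det_comp, hB, mul_inv_cancel₀ hdetA])
    obtain ⟨τ, hτ, hτx⟩ := htrans (A (t 0) + b - A (B (t 0)))
    refine ⟨τ * g, G.mul_mem hτ hg, fun i => ?_⟩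
    rw [Equiv.Perm.mul_apply, hτx, hgx, hσ, LinearEquiv.trans_apply]
    have hBi : B (t i - t 0) = t i - t 0 := by
      fin_cases i
      · simp
      · exact hB1
      · exact hB2
    rw [map_sub, sub_eq_iff_eq_add] at hBi
    rw [hBi, map_add, map_sub]
    abel

end Cfsg.Agent.S3516
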