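import Cfsg.Statements.S3517
import Cfsg.Agent.Recognition.AffineTriples

set_option autoImplicit false
open Cfsg Cfsg.Agent.Recognition.AffineTriples

namespace Cfsg.Agent.S3517

/-- For d ≥ 3, the 3-closure of the affine group AGL_d(2) acting on F_2^d is the full symmetric group: every permutation of F_2^d agrees on every ordered triple of points with some affine map (AGL_d(2) is 3-transitive). -/
theorem result (d : ℕ) (hd : 3 ≤ d) (σ : Equiv.Perm (Fin d → ZMod 2)) (t : Fin 3 → (Fin d → ZMod 2)) :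
    ∃ (A : (Fin d → ZMod 2) ≃ₗ[ZMod 2] (Fin d → ZMod 2)) (b : Fin d → ZMod 2), ∀ i, σ (t i) = A (t i) + b := by
  obtain ⟨A, hA⟩ : ∃ A : (Fin d → ZMod 2) ≃ₗ[ZMod 2] (Fin d → ZMod 2),
      ∀ i, A (t i - t 0) = σ (t i) - σ (t 0) := by
    have hne : ∀ {a b : Fin d → ZMod 2}, a ≠ b → σ a - σ b ≠ 0 := fun h h' =>
      h (σ.injective (sub_eq_zero.1 h'))
    by_cases h1 : t 1 = t 0
    · by_cases h2 : t 2 = t 0
      · exact ⟨LinearEquiv.refl _ _, fun i => by fin_cases i <;> simp [h1, h2]⟩
      · obtain ⟨A, hA⟩ := exists_equiv ![t 2 - t 0] ![σ (t 2) - σ (t 0)]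
          (indep_one _ (sub_ne_zero.2 h2)) (indep_one _ (hne h2))
        have hA0 : A (t 2 - t 0) = σ (t 2) - σ (t 0) := hA 0
        refine ⟨A, fun i => ?_⟩
        fin_cases i <;> simp [h1]
        simpa using hA0
    · by_cases h2 : t 2 = t 0 ∨ t 2 = t 1
      · obtain ⟨A, hA⟩ := exists_equiv ![t 1 - t 0] ![σ (t 1) - σ (t 0)]
          (indep_one _ (sub_ne_zero.2 h1)) (indep_one _ (hne h1))
        have hA0 : A (t 1 - t 0) = σ (t 1) - σ (t 0) := hA 0
        refine ⟨A, fun i => ?_⟩
        fin_cases i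
        · simp
        · simpa using hA0
        · rcases h2 with h2 | h2
          · simp [h2]
          · simpa [h2] using hA0
      · push Not at h2
        obtain ⟨A, hA⟩ := exists_equiv ![t 1 - t 0, t 2 - t 0]
          ![σ (t 1) - σ (t 0), σ (t 2) - σ (t 0)]
          (indep_two _ _ (sub_ne_zero.2 h1) (sub_ne_zero.2 h2.1)
            fun h => h2.2 (sub_left_inj.1 h).symm)
          (indep_two _ _ (hne h1) (hne h2.1)
            fun h => h2.2 (σ.injective (sub_left_inj.1 h).symm))
        have hA0 : A (t 1 - t 0) = σ (t 1) - σ (t 0) := hA 0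
        have hA1 : A (t 2 - t 0) = σ (t 2) - σ (t 0) := hA 1
        refine ⟨A, fun i => ?_⟩
        fin_cases i
        · simp
        · simpa using hA0
        · simpa using hA1
  refine ⟨A, σ (t 0) - A (t 0), fun i => ?_⟩
  have := hA i
  rw [map_sub] at this
  rw [sub_eq_sub_iff_add_eq_add] at this
  linear_combination (norm := module) -this

end Cfsg.Agent.S3517
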