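import Cfsg.Statements.S3518
import Mathlib

set_option autoImplicit false
open Cfsg

namespace Cfsg.Agent.S3518

open Polynomial in
/-- A permutation of `ZMod p` whose difference quotients are `k`-th roots of unity, `2k < p`, is affine. -/
theorem affine_of_pow {p : ℕ} [Fact p.Prime] (σ : Equiv.Perm (ZMod p)) (k : ℕ) (hk : 1 ≤ k) (hkp : 2 * k < p)
    (h : ∀ x y, (σ x - σ y) ^ k = (x - y) ^ k) : ∃ a b : ZMod p, ∀ x, σ x = a * x + b := by
  classical
  have hP : ∀ i ≤ k, ∃ P : (ZMod p)[X], P.natDegree ≤ k ∧ ∀ x, P.eval x = σ x ^ i := by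
    intro i hi
    let w : ZMod p → ZMod p := fun c => (Lagrange.basis Finset.univ id c).coeff (k - i)
    let c0 : ZMod p := ((-1) ^ k * (-1) ^ i * (k.choose (k - i) : ZMod p))
    have hc0 : c0 ≠ 0 := by
      have hch : ((k.choose (k - i) : ℕ) : ZMod p) ≠ 0 := by
        rw [Ne, ZMod.natCast_eq_zero_iff]
        intro hd
        have h1 : p ∣ k.factorial := hd.trans ⟨(k - i).factorial * (k - (k - i)).factorial, by
          rw [← mul_assoc]; exact (Nat.choose_mul_factorial_mul_factorial (Nat.sub_le k i)).symm⟩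
        have := ((Fact.out : p.Prime).dvd_factorial).1 h1
        omega
      exact mul_ne_zero (mul_ne_zero (pow_ne_zero _ (by simp)) (pow_ne_zero _ (by simp))) hch
    refine ⟨C c0⁻¹ * ∑ c : ZMod p, C (w c) * (X - C (σ.symm c)) ^ k, ?_, fun x => ?_⟩
    · refine (natDegree_C_mul_le _ _).trans (natDegree_sum_le_of_forall_le _ _ fun c _ => ?_)
      refine (natDegree_C_mul_le _ _).trans ?_
      rw [natDegree_pow, natDegree_X_sub_C, mul_one]
    · set Q : (ZMod p)[X] := (C (-1) ^ k) * (X + C (-σ x)) ^ k with hQ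
      have hdeg : Q.degree < (Finset.univ : Finset (ZMod p)).card := by
        rw [Finset.card_univ, ZMod.card]
        refine degree_le_natDegree.trans_lt ?_
        have : Q.natDegree ≤ k := by
          rw [hQ, ← C_pow]
          refine (natDegree_C_mul_le _ _).trans ?_
          rw [natDegree_pow, natDegree_X_add_C, mul_one]
        exact_mod_cast (show Q.natDegree < p by omega)
      have hev : ∀ c, Q.eval c = (x - σ.symm c) ^ k := by
        intro c
        have := h x (σ.symm c)
        rw [Equiv.apply_symm_apply] at this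
        rw [← this, hQ, eval_mul, eval_pow, eval_C, eval_pow, eval_add, eval_X, eval_C, ← mul_pow]
        ring
      have hint := Lagrange.eq_interpolate (v := id) (Set.injOn_id _) hdeg
      have hco := congrArg (fun q : (ZMod p)[X] => q.coeff (k - i)) hint
      simp only [Lagrange.interpolate_apply, id, finsetSum_coeff, coeff_C_mul, hev] at hco
      have hl : Q.coeff (k - i) = c0 * σ x ^ i := by
        rw [hQ, ← C_pow, coeff_C_mul, coeff_X_add_C_pow, show k - (k - i) = i by omega, neg_pow (σ x)]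
        ring
      rw [eval_mul, eval_C, eval_finset_sum, inv_mul_eq_iff_eq_mul₀ hc0, ← hl, hco]
      refine Finset.sum_congr rfl fun c _ => ?_
      simp only [eval_mul, eval_C, eval_pow, eval_sub, eval_X, w]
      ring
  obtain ⟨F, hFk, hF⟩ := hP 1 hk
  have hn : ∀ i ≤ k, i * F.natDegree ≤ k := by
    intro i
    induction i with
    | zero => simp
    | succ i ih =>
      intro hi
      have h1 := ih (by omega)
      obtain ⟨P, hPk, hPe⟩ := hP (i + 1) hi
      have e : F ^ (i + 1) = P := by
        refine eq_of_natDegree_lt_card_of_eval_eq' _ _ Finset.univ (fun x _ => ?_) ?_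
        · rw [eval_pow, hF, pow_one, hPe]
        · rw [Finset.card_univ, ZMod.card, natDegree_pow, Nat.add_mul, one_mul]
          simp only [max_lt_iff]
          omega
      rw [← natDegree_pow, e]
      exact hPk
  have hF1 : F.natDegree ≤ 1 := by
    have h1 := hn k le_rfl
    exact Nat.le_of_mul_le_mul_left (by rw [mul_one]; exact h1) (by omega)
  refine ⟨F.coeff 1, F.coeff 0, fun x => ?_⟩
  have h1 := hF x
  rw [eq_X_add_C_of_natDegree_le_one hF1] at h1
  simpa using h1.symm

/-- Closures of subgroups of the one-dimensional affine group. Let p be a prime and G a group of permutations of F_p lying in the affine group AGL₁(p) = {x ↦ ax + b, a ≠ 0} and containing all translations. (1) If G is a proper subgroup of AGL₁(p), then G is 2-closed: a permutation of F_p agreeing on every ordered pair of points with some element of G lies in G. (2) Every permutation of F_p agrees on every ordered pair with some element of AGL₁(p) (the 2-closure of AGL₁(p) is the symmetric group). (3) AGL₁(p) is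 3-closed: a permutation agreeing on every ordered triple with some affine map is affine. -/
theorem result (p : ℕ) [Fact p.Prime] (G : Subgroup (Equiv.Perm (ZMod p))) (hG : G ≤ Cfsg.affineGroup (ZMod p))
    (htrans : ∀ b : ZMod p, ∃ g ∈ G, ∀ x, g x = x + b) :
    (G ≠ Cfsg.affineGroup (ZMod p) → ∀ σ : Equiv.Perm (ZMod p), (∀ t : Fin 2 → ZMod p, ∃ g ∈ G, ∀ i, σ (t i) = g (t i)) → σ ∈ G) ∧
    (∀ σ : Equiv.Perm (ZMod p), (∀ t : Fin 2 → ZMod p, ∃ g ∈ Cfsg.affineGroup (ZMod p), ∀ i, σ (t i) = g (t i))) ∧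
    (∀ σ : Equiv.Perm (ZMod p), (∀ t : Fin 3 → ZMod p, ∃ g ∈ Cfsg.affineGroup (ZMod p), ∀ i, σ (t i) = g (t i)) → σ ∈ Cfsg.affineGroup (ZMod p)) := by
  have mkAff : ∀ (a : (ZMod p)ˣ) (b : ZMod p), ∃ g ∈ Cfsg.affineGroup (ZMod p), ∀ x, g x = (a : ZMod p) * x + b :=
    fun a b => ⟨(Units.mulLeft a).trans (Equiv.addRight b), ⟨a, b, fun _ => rfl⟩, fun _ => rfl⟩
  refine ⟨fun hne σ hσ => ?_, fun σ t => ?_, fun σ hσ => ?_⟩
  · let M : Subgroup (ZMod p)ˣ :=
      { carrier := {a | ∃ g ∈ G, ∃ b : ZMod p, ∀ x, g x = (a : ZMod p) * x + b}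
        one_mem' := ⟨1, G.one_mem, 0, fun x => by simp⟩
        mul_mem' := by
          rintro a c ⟨g, hg, b, hb⟩ ⟨g', hg', d, hd⟩
          exact ⟨g * g', G.mul_mem hg hg', (a : ZMod p) * d + b, fun x => by
            rw [Equiv.Perm.mul_apply, hd, hb, Units.val_mul]; ring⟩
        inv_mem' := by
          rintro a ⟨g, hg, b, hb⟩
          refine ⟨g⁻¹, G.inv_mem hg, -((a⁻¹ : (ZMod p)ˣ) : ZMod p) * b, fun x => ?_⟩
          apply g.injective
          rw [Equiv.Perm.inv_def, Equiv.apply_symm_apply, hb, mul_add, ← mul_assoc, Units.mul_inv, one_mul,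
            neg_mul, mul_neg, ← mul_assoc, Units.mul_inv, one_mul, neg_add_cancel_right] }
    have hM : M ≠ ⊤ := by
      intro hM
      refine hne (le_antisymm hG ?_)
      rintro g ⟨a, b, hg⟩
      obtain ⟨g', hg', c, hc⟩ := (hM ▸ Subgroup.mem_top a : a ∈ M)
      obtain ⟨τ, hτ, hτx⟩ := htrans (b - c)
      rw [show g = τ * g' from Equiv.ext fun x => by rw [Equiv.Perm.mul_apply, hτx, hc, hg]; ring]
      exact G.mul_mem hτ hg'
    have hk2 : 2 * Nat.card M ≤ p - 1 := by
      have h1 := Subgroup.card_mul_index M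
      have h2 : 2 ≤ M.index := by
        have := M.index_ne_zero_of_finite
        have := mt Subgroup.index_eq_one.1 hM
        omega
      rw [Nat.card_units, Nat.card_zmod] at h1
      calc 2 * Nat.card M = Nat.card M * 2 := mul_comm _ _
        _ ≤ Nat.card M * M.index := Nat.mul_le_mul_left _ h2
        _ = p - 1 := h1
    obtain ⟨a, b, hab⟩ := affine_of_pow σ (Nat.card M) Nat.card_pos
      (by have := (Fact.out : p.Prime).two_le; omega) fun x y => by
        obtain ⟨g, hg, hgi⟩ := hσ ![x, y]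
        obtain ⟨u, v, hg'⟩ := hG hg
        have hu : u ∈ M := ⟨g, hg, v, hg'⟩
        have h0 := hgi 0
        have h1 := hgi 1
        simp only [Matrix.cons_val_zero, Matrix.cons_val_one] at h0 h1
        have hpow : (u : ZMod p) ^ Nat.card M = 1 := by
          have h2 : u ^ Nat.card M = 1 := congrArg Subtype.val (pow_card_eq_one' (x := (⟨u, hu⟩ : M)))
          rw [← Units.val_pow_eq_pow_val, h2, Units.val_one]
        rw [h0, h1, hg', hg', add_sub_add_right_eq_sub, ← mul_sub, mul_pow, hpow, one_mul]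
    obtain ⟨g, hg, hgi⟩ := hσ ![0, 1]
    obtain ⟨u, v, hg'⟩ := hG hg
    have h0 := hgi 0
    have h1 := hgi 1
    simp only [Matrix.cons_val_zero, Matrix.cons_val_one, hab, hg', mul_zero, zero_add, mul_one] at h0 h1
    rw [show σ = g from Equiv.ext fun x => by rw [hab, hg', h0, add_right_cancel (h1.trans (by rw [h0]))]]
    exact hg
  · by_cases h : t 0 = t 1
    · obtain ⟨g, hg, hgx⟩ := mkAff 1 (σ (t 0) - t 0)
      refine ⟨g, hg, fun i => ?_⟩
      fin_cases i
      · simp [hgx]
      · simp [hgx, ← h]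
    · have hd : t 1 - t 0 ≠ 0 := sub_ne_zero.2 (Ne.symm h)
      have hn : σ (t 1) - σ (t 0) ≠ 0 := sub_ne_zero.2 (fun e => h (σ.injective e).symm)
      obtain ⟨g, hg, hgx⟩ := mkAff (Units.mk0 _ (div_ne_zero hn hd))
        (σ (t 0) - (σ (t 1) - σ (t 0)) / (t 1 - t 0) * t 0)
      refine ⟨g, hg, Fin.forall_fin_two.2 ⟨?_, ?_⟩⟩ <;> rw [hgx, Units.val_mk0]
      · ring
      · field_simp
        ring
  · obtain ⟨g, hg, hgi⟩ := hσ ![0, 1, 0]
    obtain ⟨a, b, hga⟩ := hg
    refine ⟨a, b, fun x => ?_⟩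
    obtain ⟨g', ⟨c, d, hgc⟩, hg'i⟩ := hσ ![0, 1, x]
    have e0 := (hgi 0).symm.trans (hg'i 0)
    have e1 := (hgi 1).symm.trans (hg'i 1)
    simp only [Matrix.cons_val_zero, Matrix.cons_val_one, hga, hgc, mul_zero, zero_add, mul_one] at e0 e1
    have e2 := hg'i 2
    rw [show (![0, 1, x] : Fin 3 → ZMod p) 2 = x from rfl, hgc] at e2
    rw [e0] at e1 ⊢
    rw [e2, add_right_cancel e1]

end Cfsg.Agent.S3518
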