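import Cfsg.Statements.S3520
-- import your own Cfsg.Agent.* helpers here
import Cfsg.Agent.Recognition.SocleFactors

set_option autoImplicit false
open Cfsg

namespace Cfsg.Agent.S3520

/-- Let a finite group G act faithfully and primitively on a finite set Ω with at least two points, suppose G is not almost simple (no non-abelian simple normal subgroup with trivial centralizer), and suppose the derangements of G form exactly two conjugacy classes. Then either Ω has 3 points and G has order 3; or G has a non-trivial abelian normal subgroup N acting regularly, every non-identity element of G fixes at most one point (so, when n > 3, G is a Frobenius group with kernel N), the number n of points is odd and a point stabilizer has order (n − 1)/2; or G is 2-transitive with a non-trivial abelian regular normal subgroup and some non-identity element fixes at least two points (a non-Frobenius 2-transitive affine group). -/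
theorem result {G : Type*} [Group G] [Finite G] {Ω : Type*} [Fintype Ω] [MulAction G Ω] [FaithfulSMul G Ω] (hΩ : 2 ≤ Fintype.card Ω) (hprim : MulAction.IsPreprimitive G Ω) (hnas : ¬ ∃ T : Subgroup G, T.Normal ∧ IsSimpleGroup T ∧ ¬ IsMulCommutative T ∧ Subgroup.centralizer (T : Set G) = ⊥)
    (hκ : Nat.card {c : ConjClasses G // ∃ g : G, ConjClasses.mk g = c ∧ ∀ ω : Ω, g • ω ≠ ω} = 2) (α : Ω) :
    (Fintype.card Ω = 3 ∧ Nat.card G = 3) ∨
    ((∃ N : Subgroup G, N.Normal ∧ N ≠ ⊥ ∧ IsMulCommutative N ∧ ∀ ω : Ω, MulAction.stabilizer N ω = ⊥) ∧ (∀ g : G, g ≠ 1 → Nat.card (MulAction.fixedBy Ω g) ≤ 1) ∧ ¬ 2 ∣ Fintype.card Ω ∧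
        2 * Nat.card (MulAction.stabilizer G α) = Fintype.card Ω - 1) ∨
    ((∃ N : Subgroup G, N.Normal ∧ N ≠ ⊥ ∧ IsMulCommutative N ∧ ∀ ω : Ω, MulAction.stabilizer N ω = ⊥) ∧ MulAction.IsMultiplyPretransitive G Ω 2 ∧ ∃ g : G, g ≠ 1 ∧ 2 ≤ Nat.card (MulAction.fixedBy Ω g)) := by
  classical
  haveI := hprim
  haveI : Nontrivial Ω := Fintype.one_lt_card_iff_nontrivial.1 (by omega)
  have htr : ∀ M : Subgroup G, M.Normal → M ≠ ⊥ → MulAction.IsPretransitive M Ω := fun M hM hM0 =>
    MulAction.IsQuasiPreprimitive.isPretransitive_of_normal fun h =>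
      hM0 ((Subgroup.eq_bot_iff_forall M).2 fun m hm => eq_of_smul_eq_smul (α := Ω) fun w => by
        rw [one_smul]; exact (h ▸ Set.mem_univ w : w ∈ MulAction.fixedPoints M Ω) ⟨m, hm⟩)
  -- among three derangements two are conjugate
  have key : ∀ x y z : G, Recognition.SocleFactors.IsDer Ω x → Recognition.SocleFactors.IsDer Ω y →
      Recognition.SocleFactors.IsDer Ω z → IsConj x y ∨ IsConj x z ∨ IsConj y z := by
    intro x y z hx hy hz
    by_contra hne
    push Not at hne
    haveI : Finite {c : ConjClasses G // ∃ g : G, ConjClasses.mk g = c ∧ ∀ ω : Ω, g • ω ≠ ω} := inferInstance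
    let f : Fin 3 → {c : ConjClasses G // ∃ g : G, ConjClasses.mk g = c ∧ ∀ ω : Ω, g • ω ≠ ω} :=
      ![⟨_, x, rfl, hx⟩, ⟨_, y, rfl, hy⟩, ⟨_, z, rfl, hz⟩]
    have hf : Function.Injective f := by
      intro i j e
      have e' := congrArg Subtype.val e
      fin_cases i <;> fin_cases j <;> simp [f, ConjClasses.mk_eq_mk_iff_isConj, -isConj_iff] at e' ⊢ <;>
        first
        | exact hne.1 e' | exact hne.1 e'.symm | exact hne.2.1 e' | exact hne.2.1 e'.symm
        | exact hne.2.2 e' | exact hne.2.2 e'.symm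
    have := Nat.card_le_card_of_injective f hf
    rw [hκ, Nat.card_fin] at this
    omega
  have horder : ∀ {x y : G}, IsConj x y → orderOf x = orderOf y := fun {x y} e => by
    obtain ⟨c, rfl⟩ := isConj_iff.1 e
    exact (orderOf_injective (MulAut.conj c).toMonoidHom (MulAut.conj c).injective x).symm
  have hthree : ∀ M : Subgroup G, ¬ Group.IsSolvable M →
      (∀ n ∈ M, n ≠ 1 → Recognition.SocleFactors.IsDer Ω n) → False := by
    intro M hM hd
    obtain ⟨x, y, z, hx, hy, hz, hxy, hxz, hyz⟩ := Recognition.SocleFactors.three_orders hM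
    have h1 : ∀ {w : M}, (orderOf w).Prime → Recognition.SocleFactors.IsDer Ω (w : G) := fun {w} hw =>
      hd w w.2 fun e => hw.ne_one (by rw [← Subgroup.orderOf_coe, e, orderOf_one])
    rcases key x y z (h1 hx) (h1 hy) (h1 hz) with e | e | e
    · exact hxy (by simpa [Subgroup.orderOf_coe] using horder e)
    · exact hxz (by simpa [Subgroup.orderOf_coe] using horder e)
    · exact hyz (by simpa [Subgroup.orderOf_coe] using horder e)
  obtain ⟨N, hN, hN0, hNt, h | h | ⟨hreg, hns⟩ | ⟨hs, T, T', hT, hT', hne⟩⟩ :=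
    Recognition.SocleFactors.cases htr
  swap
  · exact absurd h hnas
  rotate_left
  · exact (hthree N hns hreg).elim
  · have hTs : ∀ {U}, Recognition.SocleFactors.IsFactor N U → ¬ Group.IsSolvable U := fun hU =>
      Recognition.SocleFactors.not_solvable_of_simple (hs.isSimple hU) (hs.not_comm hU)
    rcases hs.derangements hNt hT with h | ⟨t, ht, ht1, htd⟩
    · exact (hthree T (hTs hT) h).elim
    · obtain ⟨x, y, -, hx, hy, -, hxy, -, -⟩ := Recognition.SocleFactors.three_orders (hTs hT')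
      have h1 : ∀ {w : T'}, (orderOf w).Prime → (w : G) ≠ 1 := fun {w} hw e =>
        hw.ne_one (by rw [← Subgroup.orderOf_coe, e, orderOf_one])
      have hd0 : Recognition.SocleFactors.IsDer Ω t := by
        simpa using htd T' hT' hne.symm 1 T'.one_mem
      rcases key t (t * x) (t * y) hd0 (htd T' hT' hne.symm x x.2) (htd T' hT' hne.symm y y.2)
        with e | e | e
      · exact (Recognition.SocleFactors.not_isConj_factor hs hT hT' hne ht ht ht1 x.2 (h1 hx) e).elim
      · exact (Recognition.SocleFactors.not_isConj_factor hs hT hT' hne ht ht ht1 y.2 (h1 hy) e).elim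
      · obtain ⟨g, hg⟩ := isConj_iff.1 e
        exact absurd (by simpa [Subgroup.orderOf_coe] using
          hs.orders_of_conj hT hT' hne ht ht1 x.2 (h1 hx) y.2 hg) hxy
  -- a regular elementary abelian normal subgroup
  obtain ⟨r, hr, ⟨hNc, -⟩, hst⟩ := h
  haveI := hN
  haveI := hNt
  have hfree : ∀ n ∈ N, n ≠ 1 → ∀ ω : Ω, n • ω ≠ ω := by
    intro n hn hn1 ω hω
    have hmem : (⟨n, hn⟩ : N) ∈ MulAction.stabilizer N ω := hω
    rw [hst ω, Subgroup.mem_bot] at hmem
    exact hn1 (congrArg Subtype.val hmem)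
  have haff : ∃ N : Subgroup G, N.Normal ∧ N ≠ ⊥ ∧ IsMulCommutative N ∧ ∀ ω : Ω, MulAction.stabilizer N ω = ⊥ :=
    ⟨N, hN, hN0, hNc, hst⟩
  have hcommN : ∀ u ∈ N, ∀ v ∈ N, u * v = v * u := fun u hu v hv =>
    congrArg Subtype.val (hNc.is_comm.comm (⟨u, hu⟩ : N) ⟨v, hv⟩)
  -- the labelling of the points by `N`
  let ε : N → Ω := fun n => (n : G) • α
  have hε : Function.Bijective ε := by
    refine ⟨fun u v e => ?_, fun w => ?_⟩
    · by_contra huv
      refine hfree ((v : G)⁻¹ * u) (N.mul_mem (N.inv_mem v.2) u.2) ?_ α ?_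
      · exact fun e => huv (Subtype.ext (inv_mul_eq_one.1 e).symm)
      · rw [mul_smul, inv_smul_eq_iff]
        exact e
    · obtain ⟨n, hn⟩ := MulAction.exists_smul_eq N α w
      exact ⟨n, hn⟩
  set S := MulAction.stabilizer G α
  have hsplit : ∀ g : G, ∃ n ∈ N, ∃ h ∈ S, g = n * h := by
    intro g
    obtain ⟨n, hn⟩ := hε.2 (g • α)
    refine ⟨n, n.2, (n : G)⁻¹ * g, ?_, (mul_inv_cancel_left _ _).symm⟩
    show ((n : G)⁻¹ * g) • α = α
    rw [mul_smul, inv_smul_eq_iff]
    exact hn.symm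
  have hεS : ∀ h ∈ S, ∀ n : G, h • n • α = (h * n * h⁻¹) • α := fun h hh n => by
    rw [mul_smul, mul_smul, inv_smul_eq_iff.2 (show α = h • α from (hh : h • α = α).symm)]
  by_cases hfix : ∀ g : G, g ≠ 1 → Nat.card (MulAction.fixedBy Ω g) ≤ 1
  · -- derangements are the nonidentity elements of `N`; the stabilizer is semiregular on them
    have hcen : ∀ h ∈ S, h ≠ 1 → ∀ n ∈ N, h * n * h⁻¹ = n → n = 1 := by
      intro h hh hh1 n hn hhn
      by_contra hn1
      have h2 := hfix h hh1
      rw [Finite.card_le_one_iff_subsingleton] at h2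
      have hfn : h • n • α = n • α := by rw [hεS h hh, hhn]
      exact hfree n hn hn1 α (congrArg Subtype.val (h2.elim
        (⟨n • α, hfn⟩ : MulAction.fixedBy Ω h) ⟨α, hh⟩))
    have hder : ∀ g : G, (∀ ω : Ω, g • ω ≠ ω) → g ∈ N := by
      intro g hg
      obtain ⟨n, hn, h, hh, rfl⟩ := hsplit g
      by_contra hgN
      have hh1 : h ≠ 1 := fun e => hgN (by rw [e, mul_one]; exact hn)
      let c : N → N := fun m => ⟨(m : G)⁻¹ * n * (h * m * h⁻¹),
        N.mul_mem (N.mul_mem (N.inv_mem m.2) hn) (hN.conj_mem m m.2 h)⟩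
      have hc : Function.Injective c := by
        intro u v e
        have e1 : (u : G)⁻¹ * n * (h * u * h⁻¹) = (v : G)⁻¹ * n * (h * v * h⁻¹) := congrArg Subtype.val e
        rw [hcommN _ (N.inv_mem u.2) _ hn, hcommN _ (N.inv_mem v.2) _ hn] at e1
        replace e1 : (u : G)⁻¹ * (h * u * h⁻¹) = (v : G)⁻¹ * (h * v * h⁻¹) :=
          mul_left_cancel (a := n) (by simpa only [mul_assoc] using e1)
        have e2 : h * ((u : G) * (v : G)⁻¹) * h⁻¹ = (u : G) * (v : G)⁻¹ := by
          have e3 : h * (u : G) * h⁻¹ = (u : G) * ((v : G)⁻¹ * (h * v * h⁻¹)) := by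
            rw [← e1, mul_inv_cancel_left]
          calc h * ((u : G) * (v : G)⁻¹) * h⁻¹ = (h * u * h⁻¹) * (h * v * h⁻¹)⁻¹ := by group
            _ = _ := by rw [e3]; group
        exact Subtype.ext (mul_inv_eq_one.1 (hcen h hh hh1 _ (N.mul_mem u.2 (N.inv_mem v.2)) e2))
      obtain ⟨m, hm⟩ := (Finite.injective_iff_surjective.1 hc) 1
      have hm' : (m : G)⁻¹ * n * (h * m * h⁻¹) = 1 := congrArg Subtype.val hm
      refine hg ((m : G) • α) ?_
      rw [mul_smul, hεS h hh, ← mul_smul,
        show n * (h * (m : G) * h⁻¹) = m from by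
          rw [mul_assoc, inv_mul_eq_one] at hm'
          exact hm'.symm]
    let β := {n : N // n ≠ 1}
    letI : MulAction S β :=
      { smul := fun h n => ⟨⟨(h : G) * ((n : N) : G) * (h : G)⁻¹, hN.conj_mem _ (n : N).2 _⟩,
          fun e => n.2 (Subtype.ext (by simpa using congrArg Subtype.val e))⟩
        one_smul := fun n => Subtype.ext (Subtype.ext (by
          show ((1 : S) : G) * ((n : N) : G) * ((1 : S) : G)⁻¹ = ((n : N) : G)
          simp))
        mul_smul := fun u v n => Subtype.ext (Subtype.ext (by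
          show ((u * v : S) : G) * ((n : N) : G) * ((u * v : S) : G)⁻¹ =
            (u : G) * ((v : G) * ((n : N) : G) * (v : G)⁻¹) * (u : G)⁻¹
          rw [Subgroup.coe_mul]
          group)) }
    have hstab : ∀ n : β, MulAction.stabilizer S n = ⊥ := by
      intro n
      rw [eq_bot_iff]
      intro h hh
      rw [Subgroup.mem_bot]
      by_contra h1
      exact n.2 (Subtype.ext (hcen h h.2 (fun e => h1 (Subtype.ext e)) _ (n : N).2
        (congrArg (fun z : β => ((z : N) : G)) (MulAction.mem_stabilizer_iff.1 hh))))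
    have hprod := Nat.card_congr (MulAction.selfEquivOrbitsQuotientProd hstab)
    rw [Nat.card_prod] at hprod
    have hβ : Nat.card β + 1 = Fintype.card Ω := by
      have := Fintype.ofFinite N
      have h0 : 0 < Fintype.card N := Fintype.card_pos
      rw [← Nat.card_eq_fintype_card (α := Ω), ← Nat.card_congr (Equiv.ofBijective ε hε),
        Nat.card_eq_fintype_card, Nat.card_eq_fintype_card, Fintype.card_subtype_compl,
        Fintype.card_subtype_eq]
      omega
    -- the orbits are the two classes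
    have horb : Nat.card (Quotient (MulAction.orbitRel S β)) = 2 := by
      refine Eq.trans (Nat.card_congr ?_) hκ
      refine Equiv.ofBijective (Quotient.lift (fun n : β =>
        (⟨ConjClasses.mk ((n : N) : G), _, rfl,
          hfree _ (n : N).2 fun e => n.2 (Subtype.ext e)⟩ :
          {c : ConjClasses G // ∃ g : G, ConjClasses.mk g = c ∧ ∀ ω : Ω, g • ω ≠ ω})) ?_) ⟨?_, ?_⟩
      · rintro u v ⟨h, rfl⟩
        exact Subtype.ext (ConjClasses.mk_eq_mk_iff_isConj.2
          (isConj_iff.2 ⟨(h : G), rfl⟩).symm)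
      · rintro ⟨u⟩ ⟨v⟩ e
        obtain ⟨g, hg⟩ := isConj_iff.1 (ConjClasses.mk_eq_mk_iff_isConj.1 (congrArg Subtype.val e))
        obtain ⟨n, hn, h, hh, rfl⟩ := hsplit g
        have hconj : h * ((u : N) : G) * h⁻¹ = ((v : N) : G) := by
          rw [← hg, show n * h * ((u : N) : G) * (n * h)⁻¹ = n * (h * (u : N) * h⁻¹) * n⁻¹ by group,
            hcommN n hn _ (hN.conj_mem _ (u : N).2 h), mul_inv_cancel_right]
        exact Quotient.sound' (Setoid.symm' (MulAction.orbitRel S β) ⟨⟨h, hh⟩, Subtype.ext (Subtype.ext hconj)⟩)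
      · rintro ⟨c, g, rfl, hg⟩
        exact ⟨Quotient.mk'' ⟨⟨g, hder g hg⟩, fun e => hg α (by
          rw [show g = 1 from congrArg Subtype.val e, one_smul])⟩, rfl⟩
    rw [horb] at hprod
    refine Or.inr (Or.inl ⟨haff, hfix, ?_, by omega⟩)
    rintro ⟨k, hk⟩
    omega
  · -- some element fixes two points
    push Not at hfix
    obtain ⟨g, hg1, hg2⟩ := hfix
    refine Or.inr (Or.inr ⟨haff, ?_, g, hg1, hg2⟩)
    haveI := hprim.toIsPretransitive
    obtain ⟨⟨x, hx⟩, ⟨y, hy⟩, hxy⟩ :=
      (Finite.one_lt_card_iff_nontrivial.1 hg2).exists_pair_ne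
    obtain ⟨c, hc⟩ := MulAction.exists_smul_eq G x α
    set h := c * g * c⁻¹ with hh
    have hhS : h • α = α := by rw [hh, ← hc, mul_smul, mul_smul, inv_smul_smul, hx]
    have hh1 : h ≠ 1 := fun e => hg1 (by rwa [hh, mul_inv_eq_one, mul_eq_left] at e)
    obtain ⟨m, hm⟩ := hε.2 (c • y)
    have hm' : (m : G) • α = c • y := hm
    have hm1 : (m : G) ≠ 1 := fun e => hxy (Subtype.ext (smul_left_cancel c (by
      rw [hc, ← hm', e, one_smul])))
    have hcentm : h * m * h⁻¹ = m := by
      have h1 : h • (m : G) • α = (m : G) • α := by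
        rw [hm', hh, mul_smul, mul_smul, inv_smul_smul, hy]
      rw [hεS h hhS] at h1
      exact congrArg Subtype.val (hε.1 (a₁ := ⟨h * m * h⁻¹, hN.conj_mem _ m.2 h⟩) (a₂ := m) h1)
    -- a derangement outside `N`
    have hhN : h ∉ N := fun e => hfree h e hh1 α hhS
    obtain ⟨n, hn, hnd⟩ : ∃ n ∈ N, ∀ ω : Ω, (n * h) • ω ≠ ω := by
      let c' : N → N := fun u => ⟨(u : G) * (h * u * h⁻¹)⁻¹,
        N.mul_mem u.2 (N.inv_mem (hN.conj_mem u u.2 h))⟩
      have hns : ¬ Function.Surjective c' := by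
        intro hsur
        refine hm1 (congrArg Subtype.val ((Finite.injective_iff_surjective.2 hsur)
          (a₁ := m) (a₂ := 1) (Subtype.ext ?_)))
        show (m : G) * (h * m * h⁻¹)⁻¹ = ((1 : N) : G) * (h * ((1 : N) : G) * h⁻¹)⁻¹
        rw [hcentm]
        simp
      obtain ⟨n, hn⟩ := not_forall.1 hns
      refine ⟨n, n.2, fun ω hω => hn ?_⟩
      obtain ⟨u, rfl⟩ := hε.2 ω
      change (n * h) • (u : G) • α = (u : G) • α at hω
      rw [mul_smul, hεS h hhS, ← mul_smul] at hω
      have h2 : (n : G) * (h * u * h⁻¹) = u :=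
        congrArg Subtype.val (hε.1 (a₁ := n * ⟨h * u * h⁻¹, hN.conj_mem _ u.2 h⟩) (a₂ := u) hω)
      exact ⟨u, Subtype.ext (mul_inv_eq_iff_eq_mul.2 h2.symm)⟩
    have houter : n * h ∉ N := fun e => hhN ((N.mul_mem_cancel_left hn).1 e)
    rw [MulAction.is_two_pretransitive_iff]
    intro u v u' v' huv huv'
    have trans : ∀ w w' : Ω, w ≠ α → w' ≠ α → ∃ s : G, s • α = α ∧ s • w = w' := by
      intro w w' hw hw'
      obtain ⟨⟨p₁, hp₁⟩, rfl⟩ := hε.2 w
      obtain ⟨⟨p₂, hp₂⟩, rfl⟩ := hε.2 w'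
      have hp11 : p₁ ≠ 1 := fun e => hw (by show p₁ • α = α; rw [e, one_smul])
      have hp21 : p₂ ≠ 1 := fun e => hw' (by show p₂ • α = α; rw [e, one_smul])
      rcases key p₁ p₂ (n * h) (hfree p₁ hp₁ hp11) (hfree p₂ hp₂ hp21) hnd with e | e | e
      · obtain ⟨d, hd⟩ := isConj_iff.1 e
        obtain ⟨k, hk, s, hs, rfl⟩ := hsplit d
        refine ⟨s, hs, ?_⟩
        show s • p₁ • α = p₂ • α
        rw [hεS s hs, ← hd, show k * s * p₁ * (k * s)⁻¹ = k * (s * p₁ * s⁻¹) * k⁻¹ by group,
          hcommN k hk _ (hN.conj_mem _ hp₁ s), mul_inv_cancel_right]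
      · obtain ⟨d, hd⟩ := isConj_iff.1 e
        exact absurd (hd ▸ hN.conj_mem p₁ hp₁ d) houter
      · obtain ⟨d, hd⟩ := isConj_iff.1 e
        exact absurd (hd ▸ hN.conj_mem p₂ hp₂ d) houter
    obtain ⟨c₁, hc₁⟩ := MulAction.exists_smul_eq G u α
    obtain ⟨c₂, hc₂⟩ := MulAction.exists_smul_eq G u' α
    obtain ⟨s, hs, hsv⟩ := trans (c₁ • v) (c₂ • v')
      (fun e => huv (smul_left_cancel c₁ (hc₁.trans e.symm)))
      (fun e => huv' (smul_left_cancel c₂ (hc₂.trans e.symm)))
    exact ⟨c₂⁻¹ * s * c₁, by rw [mul_smul, mul_smul, hc₁, hs, inv_smul_eq_iff, hc₂],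
      by rw [mul_smul, mul_smul, hsv, inv_smul_smul]⟩

end Cfsg.Agent.S3520
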