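import Cfsg.Statements.S3521
import Cfsg.Agent.Lib.Perm.ExtremelyPrim.Simple

set_option autoImplicit false
open Cfsg

namespace Cfsg.Agent.S3521

/-- Let a finite group G that is not solvable act faithfully and primitively on a finite set with p ^ d points (p prime), with a non-trivial abelian normal subgroup acting regularly (affine type) and with non-trivial point stabilizers each acting primitively on every one of its orbits (an insoluble extremely primitive group of affine type). Then p = 2; and if moreover G is not 2-transitive, then a point stabilizer is almost simple (it has a non-abelian simple normal subgroup with trivial centralizer). -/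
theorem result {G : Type*} [Group G] [Finite G] {Ω : Type*} [Fintype Ω] [MulAction G Ω] [FaithfulSMul G Ω] (p d : ℕ) (hp : p.Prime) (hcard : Fintype.card Ω = p ^ d) (hsol : ¬ Group.IsSolvable G)
    (N : Subgroup G) [N.Normal] (hN : N ≠ ⊥) (hNc : IsMulCommutative N) (hNreg : ∀ ω : Ω, MulAction.stabilizer N ω = ⊥)
    (hprim : MulAction.IsPreprimitive G Ω) (hH : ∀ α : Ω, MulAction.stabilizer G α ≠ ⊥) (hep : ∀ (α : Ω) (ω : Ω), MulAction.IsPreprimitive (MulAction.stabilizer G α) (MulAction.orbit (MulAction.stabilizer G α) ω)) (α : Ω) :
    p = 2 ∧ (¬ MulAction.IsMultiplyPretransitive G Ω 2 → ∃ T : Subgroup (MulAction.stabilizer G α), T.Normal ∧ IsSimpleGroup T ∧ ¬ IsMulCommutative T ∧ Subgroup.centralizer (T : Set (MulAction.stabilizer G α)) = ⊥) := by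
  haveI := hprim
  letI : CommGroup N := { (inferInstance : Group N) with mul_comm := fun a b => hNc.is_comm.comm a b }
  letI : MulDistribMulAction (MulAction.stabilizer G α) N :=
    MulDistribMulAction.compHom N
      ((MulAut.conjNormal (H := N)).comp (MulAction.stabilizer G α).subtype)
  -- a normal subgroup other than `⊥` is transitive
  have htrans : ∀ K : Subgroup G, K.Normal → K ≠ ⊥ → MulAction.IsPretransitive K Ω := by
    intro K hK hne
    haveI := hK
    refine MulAction.IsQuasiPreprimitive.isPretransitive_of_normal fun h => hne ?_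
    refine (Subgroup.eq_bot_iff_forall _).2 fun k hk => eq_of_smul_eq_smul (α := Ω) fun x => ?_
    have hx : x ∈ MulAction.fixedPoints K Ω := h ▸ Set.mem_univ x
    rw [one_smul]
    exact hx ⟨k, hk⟩
  haveI hNt := htrans N inferInstance hN
  have hinj : ∀ a b : N, (a : G) • α = (b : G) • α → a = b := by
    intro a b h
    have h1 : b⁻¹ * a ∈ MulAction.stabilizer N α := by
      rw [MulAction.mem_stabilizer_iff, mul_smul, inv_smul_eq_iff]
      exact h
    rw [hNreg, Subgroup.mem_bot, inv_mul_eq_one] at h1
    exact h1.symm
  have hdec : ∀ g : G, ∃ n : N, ∃ h : MulAction.stabilizer G α, g = (n : G) * h := by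
    intro g
    obtain ⟨n, hn⟩ := MulAction.exists_smul_eq N α (g • α)
    refine ⟨n, ⟨(n : G)⁻¹ * g, ?_⟩, ?_⟩
    · rw [MulAction.mem_stabilizer_iff, mul_smul, inv_smul_eq_iff]
      exact hn.symm
    · simp
  have hact : ∀ (h : MulAction.stabilizer G α) (n : N),
      ((h • n : N) : G) = (h : G) * n * (h : G)⁻¹ := fun h n => rfl
  have hsmul : ∀ (h : MulAction.stabilizer G α) (n : N),
      (h : G) • (n : G) • α = ((h • n : N) : G) • α := by
    intro h n
    rw [hact, mul_smul, mul_smul, show (h : G)⁻¹ • α = α from
      inv_smul_eq_iff.2 (MulAction.mem_stabilizer_iff.1 h.2).symm]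
  have hNn : Nontrivial N := N.nontrivial_iff_ne_bot.2 hN
  have hirr : ∀ W : Subgroup N, (∀ h : MulAction.stabilizer G α, ∀ w ∈ W, h • w ∈ W) →
      W = ⊥ ∨ W = ⊤ := by
    intro W hW
    refine or_iff_not_imp_left.2 fun hne => ?_
    have hKn : (W.map N.subtype).Normal := by
      constructor
      rintro _ ⟨w, hw, rfl⟩ g
      obtain ⟨n, h, rfl⟩ := hdec g
      refine ⟨h • w, hW h w hw, ?_⟩
      have hc : (n : G) * ((h • w : N) : G) = ((h • w : N) : G) * n :=
        congrArg Subtype.val (hNc.is_comm.comm n (h • w))
      show ((h • w : N) : G) = _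
      calc ((h • w : N) : G) = (n : G) * ((h • w : N) : G) * (n : G)⁻¹ := by
            rw [hc, mul_inv_cancel_right]
        _ = _ := by rw [hact]; simp [mul_assoc]
    have hKne : W.map N.subtype ≠ ⊥ := fun h =>
      hne ((Subgroup.map_eq_bot_iff_of_injective _ N.subtype_injective).1 h)
    haveI := htrans _ hKn hKne
    refine (Subgroup.eq_top_iff' W).2 fun n => ?_
    obtain ⟨⟨_, w, hw, rfl⟩, hk⟩ :=
      MulAction.exists_smul_eq (W.map N.subtype) α ((n : G) • α)
    exact hinj w n hk ▸ hw
  have hS : Cfsg.Agent.Perm.ExtremelyPrim.Setting (MulAction.stabilizer G α) N p := by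
    have hfaith : ∀ h : MulAction.stabilizer G α, (∀ n : N, h • n = n) → h = 1 := by
      intro h hh
      refine Subtype.ext (eq_of_smul_eq_smul (α := Ω) fun x => ?_)
      obtain ⟨n, rfl⟩ := MulAction.exists_smul_eq N α x
      rw [OneMemClass.coe_one, one_smul]
      show (h : G) • (n : G) • α = (n : G) • α
      rw [hsmul, hh]
    refine ⟨exists_ne 1, hp, ?_, hfaith, hirr, ?_, ?_⟩
    · let W : Subgroup N :=
        { carrier := {v | v ^ p = 1}
          one_mem' := one_pow p
          mul_mem' := fun {a b} ha hb => by
            show (a * b) ^ p = 1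
            rw [mul_pow, ha, hb, one_mul]
          inv_mem' := fun {a} ha => by
            show a⁻¹ ^ p = 1
            rw [inv_pow, ha, inv_one] }
      have hW := hirr W fun h w hw => by
        show (h • w) ^ p = 1
        rw [← smul_pow', hw, smul_one]
      refine fun v => ?_
      rcases hW with h | h
      · exfalso
        haveI := Fact.mk hp
        have hcN : Nat.card N = p ^ d := by
          rw [← hcard, ← Nat.card_eq_fintype_card]
          exact Nat.card_congr (Equiv.ofBijective (fun n : N => (n : G) • α)
            ⟨hinj, fun x => MulAction.exists_smul_eq N α x⟩)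
        have hd : d ≠ 0 := by
          rintro rfl
          rw [pow_zero] at hcN
          exact absurd (Finite.one_lt_card (α := N)) (by omega)
        obtain ⟨x, hx⟩ := exists_prime_orderOf_dvd_card' (G := N) p (hcN ▸ dvd_pow_self p hd)
        have hxW : x ∈ W := by
          show x ^ p = 1
          rw [← hx]
          exact pow_orderOf_eq_one x
        rw [h, Subgroup.mem_bot] at hxW
        rw [hxW, orderOf_one] at hx
        exact hp.ne_one hx.symm
      · exact (h ▸ Subgroup.mem_top v : v ∈ W)
    · intro v hv
      haveI := hep α ((v : G) • α)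
      set ω : MulAction.orbit (MulAction.stabilizer G α) ((v : G) • α) :=
        ⟨(v : G) • α, MulAction.mem_orbit_self _⟩ with hω
      have hst : MulAction.stabilizer (MulAction.stabilizer G α) v =
          MulAction.stabilizer (MulAction.stabilizer G α) ω := by
        ext h
        rw [MulAction.mem_stabilizer_iff, MulAction.mem_stabilizer_iff]
        refine ⟨fun e => Subtype.ext ?_, fun e => hinj _ _ ?_⟩
        · show (h : G) • (v : G) • α = (v : G) • α
          rw [hsmul, e]
        · rw [← hsmul]
          exact congrArg Subtype.val e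
      haveI : Nontrivial (MulAction.orbit (MulAction.stabilizer G α) ((v : G) • α)) := by
        by_contra hno
        rw [not_nontrivial_iff_subsingleton] at hno
        have hfix : v ∈ Cfsg.Agent.Perm.ExtremelyPrim.fixSub (V := N)
            (⊤ : Subgroup (MulAction.stabilizer G α)) := by
          intro h _
          apply hinj
          rw [← hsmul]
          exact congrArg Subtype.val
            (Subsingleton.elim (⟨_, MulAction.mem_orbit _ h⟩ :
              MulAction.orbit (MulAction.stabilizer G α) ((v : G) • α)) ω)
        rcases hirr (Cfsg.Agent.Perm.ExtremelyPrim.fixSub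
            (⊤ : Subgroup (MulAction.stabilizer G α)))
            (fun h w hw => Cfsg.Agent.Perm.ExtremelyPrim.smul_mem_fixSub
              (by rw [Subgroup.normalizer_eq_top]; trivial) hw) with h0 | h0
        · exact hv (Subgroup.mem_bot.1 (h0 ▸ hfix))
        · refine hH α ((Subgroup.eq_bot_iff_forall _).2 fun g hg => ?_)
          exact congrArg Subtype.val (hfaith ⟨g, hg⟩ fun w =>
            (h0 ▸ Subgroup.mem_top w : w ∈ Cfsg.Agent.Perm.ExtremelyPrim.fixSub
              (⊤ : Subgroup (MulAction.stabilizer G α))) _ (Subgroup.mem_top _))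
      rw [hst]
      exact MulAction.IsPreprimitive.isCoatom_stabilizer_of_isPreprimitive _ ω
    · intro hHs
      apply hsol
      haveI := hHs
      haveI : Group.IsSolvable (G ⧸ N) := solvable_of_surjective
        (f := (QuotientGroup.mk' N).comp (MulAction.stabilizer G α).subtype) (fun q => by
          obtain ⟨g, rfl⟩ := QuotientGroup.mk_surjective q
          obtain ⟨n, h, rfl⟩ := hdec g
          exact ⟨h, by simp⟩)
      haveI : Group.IsSolvable N := Group.isSolvable_of_comm fun a b => hNc.is_comm.comm a b
      exact solvable_of_ker_le_range N.subtype (QuotientGroup.mk' N)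
        (by rw [QuotientGroup.ker_mk', Subgroup.range_subtype])
  exact ⟨hS.eq_two, fun _ => hS.almost_simple⟩

end Cfsg.Agent.S3521
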