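import Cfsg.Statements.S3532
import Cfsg.Agent.Recognition.PSL2Spectrum

set_option autoImplicit false
open Cfsg

namespace Cfsg.Agent.S3532

theorem range_prod {A B : Type*} [Group A] [Group B] :
    Set.range (orderOf : A × B → ℕ) =
      {m | ∃ a ∈ Set.range (orderOf : A → ℕ), ∃ b ∈ Set.range (orderOf : B → ℕ), m = Nat.lcm a b} := by
  ext m
  constructor
  · rintro ⟨⟨x, y⟩, rfl⟩
    exact ⟨_, ⟨x, rfl⟩, _, ⟨y, rfl⟩, Prod.orderOf_mk⟩
  · rintro ⟨_, ⟨x, rfl⟩, _, ⟨y, rfl⟩, rfl⟩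
    exact ⟨(x, y), Prod.orderOf_mk⟩

/-- Let q ≥ 4 be a prime power and L = PSL(2,q). There is a finite solvable group with the same set of element orders as L × L (so L × L is not determined by its spectrum). -/
theorem result {F : Type*} [Field F] [Fintype F] (hF : 4 ≤ Fintype.card F) :
    ∃ (H : Type) (_ : Group H) (_ : Finite H), Group.IsSolvable H ∧
      Set.range (orderOf : H → ℕ) = Set.range (orderOf : Matrix.ProjectiveSpecialLinearGroup (Fin 2) F × Matrix.ProjectiveSpecialLinearGroup (Fin 2) F → ℕ) := by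
  classical
  obtain ⟨p, hp⟩ := CharP.exists F
  obtain ⟨n, hpp, hn⟩ := FiniteField.card F p
  haveI := Fact.mk hpp
  have hn0 : 0 < (n : ℕ) := n.pos
  set a := Recognition.PSL2Spectrum.half p (p ^ (n : ℕ) - 1)
  set b := Recognition.PSL2Spectrum.half p (p ^ (n : ℕ) + 1)
  obtain ⟨ha0, hb0⟩ := Recognition.PSL2Spectrum.half_pos hn hn0
  have hspec := Recognition.PSL2Spectrum.range_orderOf_psl hn hn0 (hn ▸ hF)
  haveI := Fintype.ofFinite (GaloisField p n)
  haveI := Fintype.ofFinite (GaloisField p (2 * n))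
  obtain ⟨A, _, _, hAs, hA⟩ := Recognition.PSL2Spectrum.exists_frobenius (GaloisField p n) (p := p) a (by
    rw [← Nat.card_eq_fintype_card, GaloisField.card p n hn0.ne']
    obtain h | h := em (p = 2)
    · simp [a, Recognition.PSL2Spectrum.half, h]
    · simp only [a, Recognition.PSL2Spectrum.half, if_neg h]
      exact Nat.div_dvd_of_dvd (Recognition.PSL2Spectrum.hm_sub hn hn0 h)) ha0
  obtain ⟨B, _, _, hBs, hB⟩ := Recognition.PSL2Spectrum.exists_frobenius (GaloisField p (2 * n)) (p := p) b (by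
    rw [← Nat.card_eq_fintype_card, GaloisField.card p (2 * n) (by omega)]
    have e : p ^ (2 * (n : ℕ)) - 1 = (p ^ (n : ℕ) + 1) * (p ^ (n : ℕ) - 1) := by
      have := Nat.sq_sub_sq (p ^ (n : ℕ)) 1
      rw [one_pow, ← pow_mul, mul_comm (n : ℕ) 2] at this
      exact this
    rw [e]
    refine Dvd.dvd.mul_right ?_ _
    obtain h | h := em (p = 2)
    · simp [b, Recognition.PSL2Spectrum.half, h]
    · simp only [b, Recognition.PSL2Spectrum.half, if_neg h]
      exact Nat.div_dvd_of_dvd (Recognition.PSL2Spectrum.hm_add hn hn0 h)) hb0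
  refine ⟨A × B, inferInstance, inferInstance, inferInstance, ?_⟩
  rw [range_prod, range_prod, hA, hB, hspec]
  ext m
  constructor
  · rintro ⟨x, hx, y, hy, rfl⟩
    refine ⟨x, ?_, y, ?_, rfl⟩
    · rcases hx with h | h
      · exact Or.inl h
      · exact Or.inr (Or.inl h)
    · rcases hy with h | h
      · exact Or.inl h
      · exact Or.inr (Or.inr h)
  · rintro ⟨x, hx, y, hy, rfl⟩
    rcases hx with hx | hx | hx <;> rcases hy with hy | hy | hy
    · exact ⟨x, Or.inl hx, y, Or.inl hy, rfl⟩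
    · exact ⟨y, Or.inr hy, x, Or.inl hx, Nat.lcm_comm _ _⟩
    · exact ⟨x, Or.inl hx, y, Or.inr hy, rfl⟩
    · exact ⟨x, Or.inr hx, y, Or.inl hy, rfl⟩
    · exact ⟨Nat.lcm x y, Or.inr (Nat.lcm_dvd hx hy), 1, Or.inl (one_dvd _), (Nat.lcm_one_right _).symm⟩
    · exact ⟨x, Or.inr hx, y, Or.inr hy, rfl⟩
    · exact ⟨y, Or.inl hy, x, Or.inr hx, Nat.lcm_comm _ _⟩
    · exact ⟨y, Or.inr hy, x, Or.inr hx, Nat.lcm_comm _ _⟩
    · exact ⟨1, Or.inl (one_dvd _), Nat.lcm x y, Or.inr (Nat.lcm_dvd hx hy), (Nat.lcm_one_left _).symm⟩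

end Cfsg.Agent.S3532
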