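import Cfsg.Statements.S3548
import Cfsg.Agent.Recognition.Derangements

set_option autoImplicit false
open Cfsg MulAction

namespace Cfsg.Agent.S3548

/-- Let G act faithfully and transitively on a finite set with n ≥ 2 points and let D be the subgroup generated by the derangements. Then the index of D in G divides n − 1, and if it equals n − 1 then n is a prime power. -/
theorem result {G Ω : Type*} [Group G] [Finite G] [MulAction G Ω] [FaithfulSMul G Ω] [Finite Ω]
    (htrans : MulAction.IsPretransitive G Ω) (hΩ : 2 ≤ Nat.card Ω) :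
    (Subgroup.closure {g : G | ∀ ω : Ω, g • ω ≠ ω}).index ∣ Nat.card Ω - 1 ∧
    ((Subgroup.closure {g : G | ∀ ω : Ω, g • ω ≠ ω}).index = Nat.card Ω - 1 → IsPrimePow (Nat.card Ω)) := by
  classical
  haveI : Nonempty Ω := (Nat.card_pos_iff.1 (by omega)).1
  haveI := Fintype.ofFinite Ω
  obtain ⟨h1, h2⟩ := Recognition.Derangements.main (G := G) (Ω := Ω)
  set D := Recognition.Derangements.derGroup G Ω
  haveI hDt : IsPretransitive D Ω :=
    (pretransitive_iff_subsingleton_quotient _ Ω).2 (Nat.card_eq_one_iff_unique.1 h1).1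
  haveI hDn : D.Normal := by
    constructor
    intro x hx g
    induction hx using Subgroup.closure_induction with
    | mem y hy =>
      refine Subgroup.subset_closure fun ω hω => hy (g⁻¹ • ω) ?_
      rw [eq_inv_smul_iff, ← mul_smul, ← mul_smul]
      exact hω
    | one => simp
    | mul y z _ _ ihy ihz =>
      rw [show g * (y * z) * g⁻¹ = g * y * g⁻¹ * (g * z * g⁻¹) by group]
      exact D.mul_mem ihy ihz
    | inv y _ ihy =>
      rw [show g * y⁻¹ * g⁻¹ = (g * y * g⁻¹)⁻¹ by group]
      exact D.inv_mem ihy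
  obtain ⟨a⟩ := ‹Nonempty Ω›
  set A := stabilizer G a with hA
  have hidx : D.index = D.relIndex A := by
    rw [← Subgroup.relIndex_sup_right, show A ⊔ D = ⊤ from ?_, Subgroup.relIndex_top_right]
    rw [eq_top_iff]
    intro g _
    obtain ⟨x, hx⟩ := exists_smul_eq D a (g • a)
    rw [show g = (x : G) * ((x : G)⁻¹ * g) by group]
    refine Subgroup.mul_mem _ (Subgroup.mem_sup_right x.2) (Subgroup.mem_sup_left ?_)
    show ((x : G)⁻¹ * g) • a = a
    rw [mul_smul, inv_smul_eq_iff]
    exact hx.symm
  have horb : ∀ b, b ≠ a → D.index ∣ Nat.card (orbit A b) := by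
    intro b hb
    have hle : stabilizer A b ≤ D.subgroupOf A := by
      intro g hg
      by_contra hgD
      obtain ⟨e, he⟩ := Nat.card_eq_one_iff_exists.1 (h2 (g : G) hgD)
      exact hb (congrArg Subtype.val ((he ⟨b, hg⟩).trans (he ⟨a, g.2⟩).symm))
    have h := Subgroup.index_dvd_of_le hle
    rw [index_stabilizer, Nat.card_coe_set_eq] at *
    rw [hidx]
    exact h
  have hsum : Nat.card Ω = ∑ o : orbitRel.Quotient A Ω, Nat.card o.orbit := by
    rw [Nat.card_congr (selfEquivSigmaOrbits' A Ω), Nat.card_sigma]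
  set o₀ : orbitRel.Quotient A Ω := Quotient.mk'' a with ho₀
  have ho1 : Nat.card o₀.orbit = 1 := by
    have : o₀.orbit = {a} := by
      rw [ho₀, orbitRel.Quotient.orbit_mk]
      ext x
      constructor
      · rintro ⟨g, rfl⟩; exact g.2
      · rintro rfl; exact mem_orbit_self _
    rw [this, Nat.card_coe_set_eq, Set.ncard_singleton]
  have hdvd : ∀ o : orbitRel.Quotient A Ω, o ≠ o₀ → D.index ∣ Nat.card o.orbit := by
    intro o ho
    obtain ⟨b, rfl⟩ := Quotient.mk''_surjective o
    rw [orbitRel.Quotient.orbit_mk]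
    exact horb b fun h => ho (h ▸ rfl)
  rw [← Finset.sum_erase_add _ _ (Finset.mem_univ o₀), ho1] at hsum
  have hn1 : Nat.card Ω - 1 = ∑ o ∈ Finset.univ.erase o₀, Nat.card o.orbit := by omega
  refine ⟨hn1 ▸ Finset.dvd_sum fun o ho => hdvd o (Finset.mem_erase.1 ho).1, fun heq => ?_⟩
  change D.index = _ at heq
  -- the stabilizer in `D` is trivial
  have hbig : ∀ b, b ≠ a → Nat.card (orbit A b) = Nat.card Ω - 1 := by
    intro b hb
    refine le_antisymm ?_ ?_
    · have hsub : orbit A b ⊆ {a}ᶜ := by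
        rintro x ⟨g, rfl⟩ (hx : (g : G) • b = a)
        exact hb (smul_left_cancel (g : G) (hx.trans g.2.symm))
      have := Set.ncard_le_ncard hsub (Set.toFinite _)
      rw [Set.ncard_compl, Set.ncard_singleton, ← Nat.card_coe_set_eq] at this
      exact this
    · rw [← heq]
      refine Nat.le_of_dvd ?_ (horb b hb)
      haveI : Nonempty (orbit A b) := ⟨⟨b, mem_orbit_self b⟩⟩
      exact Nat.card_pos
  have hDa : ∀ x ∈ D, x • a = a → x = 1 := by
    intro x hx hxa
    refine FaithfulSMul.eq_of_smul_eq_smul (α := Ω) fun b => ?_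
    rw [one_smul]
    by_cases hb : b = a
    · rw [hb, hxa]
    · have hle : stabilizer A b ≤ D.subgroupOf A := by
        intro g hg
        by_contra hgD
        obtain ⟨e, he⟩ := Nat.card_eq_one_iff_exists.1 (h2 (g : G) hgD)
        exact hb (congrArg Subtype.val ((he ⟨b, hg⟩).trans (he ⟨a, g.2⟩).symm))
      have hrel := Subgroup.relIndex_mul_index hle
      rw [index_stabilizer, ← Nat.card_coe_set_eq, hbig b hb, ← heq, hidx] at hrel
      have hpos : (D.subgroupOf A).index ≠ 0 := Subgroup.index_ne_zero_of_finite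
      have hone : (stabilizer A b).relIndex (D.subgroupOf A) = 1 := by
        have : (stabilizer A b).relIndex (D.subgroupOf A) * (D.subgroupOf A).index =
            1 * (D.subgroupOf A).index := by rw [one_mul]; exact hrel
        exact mul_right_cancel₀ hpos this
      exact Subgroup.relIndex_eq_one.1 hone (show (⟨x, hxa⟩ : A) ∈ D.subgroupOf A from hx)
  have hbij : Function.Bijective (fun x : D => (x : G) • a) := by
    refine ⟨fun x y hxy => ?_, fun b => exists_smul_eq D a b⟩
    have := hDa ((y : G)⁻¹ * x) (D.mul_mem (D.inv_mem y.2) x.2)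
      (by rw [mul_smul, inv_smul_eq_iff]; exact hxy)
    exact Subtype.ext (inv_mul_eq_one.1 this).symm
  have hcard : Nat.card D = Nat.card Ω := Nat.card_congr (Equiv.ofBijective _ hbij)
  have hconj : ∀ x y : D, x ≠ 1 → y ≠ 1 → orderOf (x : G) = orderOf (y : G) := by
    intro x y hx hy
    have hxa : (x : G) • a ≠ a := fun h => hx (Subtype.ext (hDa x x.2 h))
    have hya : (y : G) • a ≠ a := fun h => hy (Subtype.ext (hDa y y.2 h))
    have hmem : (y : G) • a ∈ orbit A ((x : G) • a) := by
      by_contra hnot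
      have hsub : orbit A ((x : G) • a) ⊆ ({a, (y : G) • a} : Set Ω)ᶜ := by
        rintro z ⟨g, rfl⟩ hz
        rcases hz with hz | hz
        · exact hxa (smul_left_cancel (g : G) ((show (g : G) • (x : G) • a = a from hz).trans g.2.symm))
        · exact hnot (hz ▸ mem_orbit _ g)
      have := Set.ncard_le_ncard hsub (Set.toFinite _)
      rw [Set.ncard_compl, Set.ncard_pair hya.symm, ← Nat.card_coe_set_eq, hbig _ hxa] at this
      omega
    obtain ⟨g, hg⟩ := hmem
    have hzmem : (g : G) * x * (g : G)⁻¹ ∈ D := hDn.conj_mem _ x.2 _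
    have hz : (⟨_, hzmem⟩ : D) = y := by
      apply hbij.1
      show ((g : G) * x * (g : G)⁻¹) • a = (y : G) • a
      rw [mul_smul, mul_smul, show (g : G)⁻¹ • a = a from inv_smul_eq_iff.2 g.2.symm]
      exact hg
    rw [← congrArg Subtype.val hz]
    exact ((MulAut.conj (g : G)).orderOf_eq (x : G)).symm
  obtain ⟨p, hp, hpdvd⟩ := Nat.exists_prime_and_dvd (show Nat.card D ≠ 1 by omega)
  haveI := Fact.mk hp
  obtain ⟨z, hz⟩ := exists_prime_orderOf_dvd_card' p hpdvd
  have hz1 : z ≠ 1 := fun h => hp.one_lt.ne (by rw [← hz, h, orderOf_one])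
  have hP : IsPGroup p D := fun w => by
    by_cases hw : w = 1
    · exact ⟨0, by rw [hw, one_pow]⟩
    · refine ⟨1, ?_⟩
      rw [pow_one]
      apply Subtype.ext
      rw [Subgroup.coe_pow, ← hz, ← Subgroup.orderOf_coe, hconj z w hz1 hw, pow_orderOf_eq_one]
      rfl
  obtain ⟨k, hk⟩ := (IsPGroup.iff_card).1 hP
  rw [← hcard, hk]
  refine (hp.prime.isPrimePow).pow ?_
  rintro rfl
  rw [pow_zero] at hk
  omega

end Cfsg.Agent.S3548
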