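import Cfsg.Statements.S3549
import Cfsg.Agent.Recognition.Derangements

set_option autoImplicit false
open Cfsg
open scoped Pointwise

namespace Cfsg.Agent.S3549

open MulAction Cfsg.Agent.Recognition.Derangements

/-- The index of the derangement subgroup of a transitive group of degree at least two is less than
the degree. -/
theorem index_lt {G Ω : Type*} [Group G] [MulAction G Ω] [Finite G] [Finite Ω] [IsPretransitive G Ω]
    (h2 : 2 ≤ Nat.card Ω) : (derGroup G Ω).index + 1 ≤ Nat.card Ω := by
  haveI : Nonempty Ω := (Nat.card_pos_iff.1 (by omega)).1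
  haveI : Nontrivial Ω := Finite.one_lt_card_iff_nontrivial.1 (by omega)
  have h := rank_eq (G := G) (Ω := Ω)
  have htr := (main (G := G) (Ω := Ω)).1
  rw [Nat.card_eq_one_iff_unique] at htr
  haveI : IsPretransitive (derGroup G Ω) Ω := (pretransitive_iff_subsingleton_quotient (derGroup G Ω) Ω).2 htr.1
  obtain ⟨a, b, hab⟩ := exists_pair_ne Ω
  have hD : Nat.card (orbitRel.Quotient (derGroup G Ω) (Ω × Ω)) ≤ Nat.card Ω := by
    refine Nat.card_le_card_of_surjective (fun ω => Quotient.mk'' (a, ω)) fun q => ?_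
    induction q using Quotient.inductionOn' with
    | h z =>
      obtain ⟨d, hd⟩ := exists_smul_eq (derGroup G Ω) z.1 a
      exact ⟨d • z.2, Quotient.sound' ⟨d, Prod.ext hd rfl⟩⟩
  have hG : 2 ≤ Nat.card (orbitRel.Quotient G (Ω × Ω)) := by
    haveI : Nontrivial (orbitRel.Quotient G (Ω × Ω)) := by
      refine ⟨Quotient.mk'' (a, a), Quotient.mk'' (a, b), fun e => hab ?_⟩
      obtain ⟨g, hg⟩ := Quotient.eq''.1 e
      have h1 : g • a = a := congrArg Prod.fst hg
      have h3 : g • b = a := congrArg Prod.snd hg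
      exact (MulAction.injective g (h3.trans h1.symm)).symm
    exact Finite.one_lt_card
  have : (derGroup G Ω).index ≤ (Nat.card (orbitRel.Quotient G (Ω × Ω)) - 1) * (derGroup G Ω).index :=
    Nat.le_mul_of_pos_left _ (by omega)
  omega

/-- Let G act faithfully, transitively but imprimitively on a finite set with n points, and let D be the subgroup generated by the derangements. Then the index of D in G is at most √n − 1. -/
theorem result {G Ω : Type*} [Group G] [Finite G] [MulAction G Ω] [FaithfulSMul G Ω] [Finite Ω]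
    (htrans : MulAction.IsPretransitive G Ω) (himp : ¬ MulAction.IsPreprimitive G Ω) :
    ((Subgroup.closure {g : G | ∀ ω : Ω, g • ω ≠ ω}).index : ℝ) ≤ Real.sqrt (Nat.card Ω) - 1 := by
  classical
  haveI := htrans
  obtain ⟨B, hB, hBt⟩ : ∃ B : Set Ω, IsBlock G B ∧ ¬ IsTrivialBlock B := by
    by_contra h
    push Not at h
    exact himp { isTrivialBlock_of_isBlock := fun {B} hB => h B hB }
  simp only [IsTrivialBlock, not_or] at hBt
  have hBne : B.Nonempty := by
    rw [Set.nonempty_iff_ne_empty]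
    intro h
    exact hBt.1 (h ▸ Set.subsingleton_empty)
  haveI : Nonempty Ω := hBne.to_subtype.map Subtype.val
  have hc2 : 2 ≤ B.ncard := by
    by_contra h
    exact hBt.1 (Set.ncard_le_one_iff_subsingleton.1 (by omega))
  have hmul := hB.ncard_block_mul_ncard_orbit_eq hBne
  set S := orbit G B with hS
  have hb2 : 2 ≤ Nat.card S := by
    rw [Nat.card_coe_set_eq]
    by_contra h
    have h1 : B.ncard ≤ Nat.card Ω := Set.ncard_le_card B
    have h3 : S.ncard = 1 := by
      have : 0 < S.ncard := (Set.ncard_pos (Set.toFinite _)).2 ⟨B, mem_orbit_self B⟩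
      omega
    rw [h3, mul_one, ← Set.ncard_univ] at hmul
    exact hBt.2 (Set.eq_of_subset_of_ncard_le (Set.subset_univ B) hmul.ge)
  set D := derGroup G Ω with hD
  haveI : Nonempty S := ⟨⟨B, mem_orbit_self B⟩⟩
  have hblock : ∀ (g : G) (ω : Ω), g • ω = ω → ∀ T : S, ω ∈ (T : Set Ω) → g • T = T := by
    rintro g ω hg ⟨_, k, rfl⟩ hω
    apply Subtype.ext
    show g • k • B = k • B
    refine (IsBlock.translate k hB).smul_eq_of_mem hω ?_
    rw [hg]; exact hω
  have hcover : ∀ ω : Ω, ∃ T : S, ω ∈ (T : Set Ω) := by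
    intro ω
    obtain ⟨β, hβ⟩ := hBne
    obtain ⟨k, hk⟩ := exists_smul_eq G β ω
    exact ⟨⟨k • B, k, rfl⟩, hk ▸ Set.smul_mem_smul_set hβ⟩
  have hle : derGroup G S ≤ D := by
    refine Subgroup.closure_mono fun g hg ω hω => ?_
    obtain ⟨T, hT⟩ := hcover ω
    exact hg T (hblock g ω hω T hT)
  have hb : D.index + 1 ≤ Nat.card S := by
    have h1 := index_lt (G := G) (Ω := S) hb2
    have h2 : D.index ≤ (derGroup G S).index :=
      Nat.le_of_dvd (Nat.pos_of_ne_zero Subgroup.index_ne_zero_of_finite) (Subgroup.index_dvd_of_le hle)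
    omega
  -- the action of the block stabilizer on the block
  set H := stabilizer G B with hH
  let act : MulAction H B :=
    { smul := fun h x => ⟨(h : G) • (x : Ω), by
        have := Set.smul_mem_smul_set (a := (h : G)) x.2
        rwa [mem_stabilizer_iff.1 h.2] at this⟩
      one_smul := fun x => Subtype.ext (one_smul G (x : Ω))
      mul_smul := fun g h x => Subtype.ext (mul_smul (g : G) (h : G) (x : Ω)) }
  letI := act
  haveI : IsPretransitive H B := by
    refine ⟨fun x y => ?_⟩
    obtain ⟨g, hg⟩ := exists_smul_eq G (x : Ω) (y : Ω)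
    exact ⟨⟨g, mem_stabilizer_iff.2 (hB.smul_eq_of_mem x.2 (hg ▸ y.2))⟩, Subtype.ext hg⟩
  haveI : Finite B := Set.finite_coe_iff.2 (Set.toFinite B)
  have hc := index_lt (G := H) (Ω := B) (by rw [Nat.card_coe_set_eq]; exact hc2)
  have hleB : derGroup H B ≤ D.subgroupOf H := by
    refine (Subgroup.closure_le _).2 fun h hh => ?_
    show (h : G) ∈ D
    by_contra hhD
    have hS1 := (main (G := G) (Ω := S)).2 (h : G) (fun h' => hhD (hle h'))
    rw [Nat.card_eq_one_iff_unique] at hS1
    haveI := hS1.1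
    have hΩ1 := one_le_fixed (Ω := Ω) hhD
    obtain ⟨⟨ω, hω⟩⟩ := (Nat.card_pos_iff.1 hΩ1).1
    obtain ⟨T, hT⟩ := hcover ω
    have hTB : T = (⟨B, mem_orbit_self B⟩ : S) :=
      congrArg Subtype.val (Subsingleton.elim (⟨T, hblock _ ω hω T hT⟩ : fixedBy S (h : G))
        ⟨⟨B, mem_orbit_self B⟩, Subtype.ext (mem_stabilizer_iff.1 h.2)⟩)
    rw [hTB] at hT
    exact hh ⟨ω, hT⟩ (Subtype.ext hω)
  have htrD := (main (G := G) (Ω := Ω)).1
  rw [Nat.card_eq_one_iff_unique] at htrD
  haveI : IsPretransitive D Ω := (pretransitive_iff_subsingleton_quotient D Ω).2 htrD.1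
  have horb : Nat.card (orbit D B) = Nat.card S := by
    have : orbit D B = S := by
      refine Set.Subset.antisymm (fun T ⟨d, hd⟩ => ⟨(d : G), hd⟩) ?_
      rintro _ ⟨k, rfl⟩
      obtain ⟨β, hβ⟩ := hBne
      obtain ⟨d, hd⟩ := exists_smul_eq D β (k • β)
      refine ⟨d, ?_⟩
      show (d : G) • B = k • B
      have hd' : (k⁻¹ * (d : G)) • β = β := by rw [mul_smul, inv_smul_eq_iff]; exact hd
      have h' := hB.smul_eq_of_mem hβ (show (k⁻¹ * (d : G)) • β ∈ B by rw [hd']; exact hβ)
      rwa [mul_smul, inv_smul_eq_iff] at h'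
    rw [this]
  have hcard : D.index * Nat.card (D.subgroupOf H) = Nat.card H := by
    have h1 := Subgroup.card_mul_index D
    have h2 := Subgroup.card_mul_index H
    have h3 := Subgroup.card_mul_index (stabilizer D B)
    have e : Nat.card (stabilizer D B) = Nat.card (D.subgroupOf H) :=
      Nat.card_congr
        { toFun := fun g => ⟨⟨g.1.1, g.2⟩, g.1.2⟩
          invFun := fun g => ⟨⟨g.1.1, g.2⟩, g.1.2⟩
          left_inv := fun _ => rfl
          right_inv := fun _ => rfl }
    rw [index_stabilizer, ← Nat.card_coe_set_eq, horb, e] at h3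
    rw [hH, index_stabilizer, ← hS, ← Nat.card_coe_set_eq] at h2
    apply Nat.eq_of_mul_eq_mul_right (show 0 < Nat.card S by omega)
    rw [mul_assoc, h3, h2, mul_comm D.index]
    exact h1
  have hc' : D.index + 1 ≤ B.ncard := by
    have h1 : D.index = (D.subgroupOf H).index := by
      have h2 := Subgroup.card_mul_index (D.subgroupOf H)
      rw [← hcard, mul_comm] at h2
      exact (Nat.eq_of_mul_eq_mul_right Nat.card_pos h2).symm
    have h3 : (D.subgroupOf H).index ≤ (derGroup H B).index :=
      Nat.le_of_dvd (Nat.pos_of_ne_zero Subgroup.index_ne_zero_of_finite) (Subgroup.index_dvd_of_le hleB)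
    rw [Nat.card_coe_set_eq] at hc
    omega
  rw [Nat.card_coe_set_eq] at hb
  have hsq : (D.index + 1) * (D.index + 1) ≤ Nat.card Ω := hmul ▸ Nat.mul_le_mul hc' hb
  rw [le_sub_iff_add_le]
  apply Real.le_sqrt_of_sq_le
  rw [pow_two]
  exact_mod_cast hsq

end Cfsg.Agent.S3549
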