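import Cfsg.Statements.S3554

set_option autoImplicit false
open Cfsg MulAction

namespace Cfsg.Agent.S3554

/-- Let G act faithfully and transitively on a finite set and suppose G has a non-trivial cyclic normal subgroup. Then some element of G of prime order fixes no point. -/
theorem result {G Ω : Type*} [Group G] [Finite G] [MulAction G Ω] [FaithfulSMul G Ω] [Finite Ω]
    (htrans : MulAction.IsPretransitive G Ω) (C : Subgroup G) (hC : C.Normal) (hC1 : C ≠ ⊥) (hcyc : IsCyclic ↥C) :
    ∃ g : G, (orderOf g).Prime ∧ ∀ ω : Ω, g • ω ≠ ω := by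
  haveI : Nontrivial C := (Subgroup.nontrivial_iff_ne_bot C).2 hC1
  obtain ⟨c, hc⟩ := hcyc.exists_generator
  set p := (Nat.card C).minFac with hp
  have hpp : p.Prime := Nat.minFac_prime (Finite.one_lt_card).ne'
  have hco : orderOf c = Nat.card C := orderOf_eq_card_of_forall_mem_zpowers hc
  set z := (c : G) ^ (Nat.card C / p) with hz
  have hzo : orderOf z = p := by
    rw [hz, ← Subgroup.coe_pow, Subgroup.orderOf_coe, ← hco]
    refine orderOf_pow_orderOf_div (orderOf_pos c).ne' ?_
    rw [hco]; exact Nat.minFac_dvd _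
  refine ⟨z, hzo ▸ hpp, fun ω hω => ?_⟩
  have hconj : ∀ g : G, ∃ k : ℤ, g * z * g⁻¹ = z ^ k := by
    intro g
    obtain ⟨k, hk⟩ := hc ⟨g * c * g⁻¹, hC.conj_mem c c.2 g⟩
    refine ⟨k, ?_⟩
    have hk' : (c : G) ^ k = g * c * g⁻¹ := congrArg Subtype.val hk
    rw [hz, ← conj_pow, ← hk', ← zpow_natCast, ← zpow_natCast, ← zpow_mul, ← zpow_mul, mul_comm]
  have hall : ∀ x : Ω, z • x = x := by
    intro x
    obtain ⟨g, rfl⟩ := exists_smul_eq G ω x
    obtain ⟨k, hk⟩ := hconj g⁻¹
    rw [inv_inv] at hk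
    have h1 : (z ^ k) • ω = ω := by
      show z ^ k ∈ stabilizer G ω
      exact zpow_mem (show z ∈ stabilizer G ω from hω) k
    calc z • g • ω = g • ((g⁻¹ * z * g) • ω) := by
          rw [mul_smul, mul_smul, smul_inv_smul]
      _ = g • ω := by rw [hk, h1]
  have hz1 : z = 1 := FaithfulSMul.eq_of_smul_eq_smul (α := Ω) fun x => by rw [one_smul, hall]
  rw [hz1, orderOf_one] at hzo
  exact hpp.one_lt.ne hzo

end Cfsg.Agent.S3554
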