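import Cfsg.Statements.S3555
-- import your own Cfsg.Agent.* helpers here

set_option autoImplicit false
open Cfsg
open MulAction Finset
open scoped Pointwise

namespace Cfsg.Agent.S3555

/-- The counting argument: if all derangements square to `1` then every other element fixes one point or all. -/
theorem fixed_cases {G Ω : Type*} [Group G] [Fintype G] [MulAction G Ω] [Fintype Ω] [DecidableEq Ω]
    (htrans : IsPretransitive G Ω) [Nonempty Ω]
    (hinv : ∀ g : G, (∀ ω : Ω, g • ω ≠ ω) → g * g = 1) (g : G) (hg : ∃ ω : Ω, g • ω = ω) :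
    #{ω : Ω | g • ω = ω} = 1 ∨ #{ω : Ω | g • ω = ω} = Fintype.card Ω := by
  classical
  set π : G → ℕ := fun g => #{ω : Ω | g • ω = ω} with hπ
  set π2 : G → ℕ := fun g => #{ω : Ω | g • g • ω = ω} with hπ2
  set n := Fintype.card Ω with hn
  -- Burnside
  have h1 : ∑ g : G, π g = Fintype.card G := by
    have := MulAction.sum_card_fixedBy_eq_card_orbits_mul_card_group G Ω
    have hq : Fintype.card (Quotient (orbitRel G Ω)) = 1 := by
      rw [Fintype.card_eq_one_iff_nonempty_unique]
      have : Subsingleton (Quotient (orbitRel G Ω)) := (pretransitive_iff_subsingleton_quotient G Ω).mp htrans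
      exact ⟨uniqueOfSubsingleton (Quotient.mk _ (Classical.arbitrary Ω))⟩
    rw [hq, one_mul] at this
    rw [← this]
    refine Finset.sum_congr rfl fun g _ => ?_
    rw [Fintype.card_subtype]
    rfl
  -- squares
  have h2 : ∑ g : G, π2 g ≤ ∑ g : G, π g ^ 2 := by
    have e1 : ∑ g : G, π2 g = ∑ x : Ω × Ω, #{g : G | g • x.1 = x.2 ∧ g • x.2 = x.1} := by
      simp only [hπ2, card_eq_sum_ones, sum_filter, Fintype.sum_prod_type]
      rw [sum_comm]
      refine sum_congr rfl fun a _ => ?_
      rw [sum_comm]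
      refine sum_congr rfl fun g _ => ?_
      rw [sum_eq_single (g • a)]
      · simp
      · intro b _ hb
        rw [if_neg fun h => hb h.1.symm]
      · exact fun h => absurd (mem_univ _) h
    have e2 : ∑ g : G, π g ^ 2 = ∑ x : Ω × Ω, #{g : G | g • x.1 = x.1 ∧ g • x.2 = x.2} := by
      simp only [hπ, sq, card_eq_sum_ones, sum_filter, Fintype.sum_prod_type, sum_mul_sum]
      rw [sum_comm]
      refine sum_congr rfl fun a _ => ?_
      rw [sum_comm]
      refine sum_congr rfl fun b _ => sum_congr rfl fun g _ => ?_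
      by_cases ha : g • a = a <;> simp [ha]
    rw [e1, e2]
    refine sum_le_sum fun x _ => ?_
    rcases ({g : G | g • x.1 = x.2 ∧ g • x.2 = x.1} : Finset G).eq_empty_or_nonempty with h | ⟨g₀, hg₀⟩
    · rw [h, card_empty]
      exact Nat.zero_le _
    · refine card_le_card_of_injOn (fun g => g₀⁻¹ * g) (fun g hg => ?_) (fun a _ b _ h => mul_left_cancel h)
      simp only [coe_filter, mem_univ, true_and, Set.mem_setOf_eq, mem_filter] at hg hg₀ ⊢
      rw [mul_smul, mul_smul, hg.1, hg.2, inv_smul_eq_iff, inv_smul_eq_iff]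
      exact ⟨hg₀.1.symm, hg₀.2.symm⟩
  -- the pointwise estimate
  have h3 : ∀ g : G, π g ^ 2 + n ≤ π2 g + n * π g ∧
      (0 < π g → π g ^ 2 + n = π2 g + n * π g → π g = 1 ∨ π g = n) := by
    intro g
    have hle : π g ≤ π2 g := card_le_card fun ω hω => by
      simp only [mem_filter, mem_univ, true_and] at hω ⊢
      rw [hω, hω]
    have hn' : π g ≤ n := card_le_univ _
    rcases Nat.eq_zero_or_pos (π g) with h0 | h0
    · have hd : g * g = 1 := hinv g fun ω hω => by
        have : ω ∈ ({ω : Ω | g • ω = ω} : Finset Ω) := by simp [hω]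
        rw [card_eq_zero.mp h0] at this
        simp at this
      have h4 : π2 g = n := by
        rw [hπ2]
        simp only [← mul_smul, hd, one_smul, filter_true, card_univ, hn]
      rw [h0, h4]
      omega
    · obtain ⟨k, hk⟩ := Nat.exists_eq_add_of_le h0
      obtain ⟨l, hl⟩ := Nat.exists_eq_add_of_le hn'
      refine ⟨?_, fun _ he => ?_⟩
      · rw [hl, hk]
        nlinarith [Nat.zero_le (k * l)]
      · rw [hl, hk] at he
        rcases Nat.eq_zero_or_pos k with hk0 | hk0
        · exact Or.inl (by omega)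
        · refine Or.inr ?_
          rcases Nat.eq_zero_or_pos l with hl0 | hl0
          · omega
          · nlinarith [Nat.mul_pos hk0 hl0]
  have h4 : ∑ g : G, (π g ^ 2 + n) ≤ ∑ g : G, (π2 g + n * π g) := sum_le_sum fun g _ => (h3 g).1
  have h5 : ∑ g : G, (π g ^ 2 + n) = ∑ g : G, (π2 g + n * π g) := by
    refine le_antisymm h4 ?_
    rw [sum_add_distrib, sum_add_distrib, ← mul_sum, h1, sum_const, card_univ, smul_eq_mul, mul_comm n]
    omega
  refine (h3 g).2 ?_ ((sum_eq_sum_iff_of_le fun g _ => (h3 g).1).mp h5 g (mem_univ g))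
  obtain ⟨ω, hω⟩ := hg
  exact card_pos.mpr ⟨ω, by simp [hω]⟩

/-- Let G act faithfully and transitively on a finite set and suppose every element of G fixing no point is an involution. Then either G is an elementary abelian 2-group, or G is a Frobenius group whose Frobenius kernel is an elementary abelian 2-group: G has a Frobenius complement H, and the elements lying in no conjugate of H, together with the identity, pairwise commute and square to the identity. -/
theorem result {G Ω : Type*} [Group G] [Finite G] [MulAction G Ω] [FaithfulSMul G Ω] [Finite Ω]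
    (htrans : MulAction.IsPretransitive G Ω) (hinv : ∀ g : G, (∀ ω : Ω, g • ω ≠ ω) → orderOf g = 2) :
    (IsMulCommutative G ∧ ∀ g : G, g ^ 2 = 1) ∨
    (∃ H : Subgroup G, Cfsg.IsFrobeniusComplement H ∧
      (∀ x ∈ Cfsg.frobeniusKernel H, x ^ 2 = 1) ∧
      ∀ x ∈ Cfsg.frobeniusKernel H, ∀ y ∈ Cfsg.frobeniusKernel H, x * y = y * x) := by
  classical
  have : Fintype G := Fintype.ofFinite G
  have : Fintype Ω := Fintype.ofFinite Ω
  have hsq : ∀ g : G, (∀ ω : Ω, g • ω ≠ ω) → g * g = 1 := fun g hg => by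
    rw [← sq, ← hinv g hg, pow_orderOf_eq_one]
  rcases isEmpty_or_nonempty Ω with hΩ | ⟨⟨a⟩⟩
  · exfalso
    have h := hinv 1 isEmptyElim
    simp at h
  have : Nonempty Ω := ⟨a⟩
  by_cases hH : stabilizer G a = ⊥
  · have hall : ∀ g : G, g * g = 1 := fun g => by
      rcases eq_or_ne g 1 with rfl | hg1
      · exact one_mul 1
      refine hsq g fun ω hω => hg1 ?_
      obtain ⟨h, rfl⟩ := exists_smul_eq G a ω
      have : h⁻¹ * g * h ∈ stabilizer G a := by
        rw [mem_stabilizer_iff, mul_smul, mul_smul, hω, inv_smul_smul]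
      rw [hH, Subgroup.mem_bot] at this
      calc g = h * (h⁻¹ * g * h) * h⁻¹ := by group
        _ = 1 := by rw [this]; group
    refine Or.inl ⟨⟨⟨fun x y => ?_⟩⟩, fun g => by rw [sq, hall]⟩
    have hi : ∀ z : G, z⁻¹ = z := fun z => inv_eq_of_mul_eq_one_right (hall z)
    rw [← hi (x * y), mul_inv_rev, hi, hi]
  -- the Frobenius case
  refine Or.inr ⟨stabilizer G a, ?_⟩
  have hfrob : ∀ g : G, g ≠ 1 → ∀ x y : Ω, g • x = x → g • y = y → x = y := by
    intro g hg1 x y hx hy
    rcases fixed_cases htrans hsq g ⟨x, hx⟩ with h | h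
    · exact Finset.card_le_one.mp h.le x (by simp [hx]) y (by simp [hy])
    · refine absurd (eq_of_smul_eq_smul fun ω : Ω => ?_) hg1
      have hω : ω ∈ ({ω : Ω | g • ω = ω} : Finset Ω) := by
        rw [(Finset.card_eq_iff_eq_univ _).mp h]
        exact Finset.mem_univ ω
      simpa using hω
  have hmem : ∀ g x : G, x ∈ MulAut.conj g • stabilizer G a ↔ x • g • a = g • a := by
    intro g x
    rw [Subgroup.mem_pointwise_smul_iff_inv_smul_mem, MulAut.smul_def, MulAut.conj_inv_apply,
      mem_stabilizer_iff, mul_smul, mul_smul, inv_smul_eq_iff]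
  have hK : ∀ x, x ∈ Cfsg.frobeniusKernel (stabilizer G a) → x = 1 ∨ ∀ ω : Ω, x • ω ≠ ω := by
    rintro x (h | h)
    · exact Or.inl h
    · refine Or.inr fun ω hω => ?_
      obtain ⟨g, rfl⟩ := exists_smul_eq G a ω
      exact h g ((hmem g x).mpr hω)
  have hKsq : ∀ x ∈ Cfsg.frobeniusKernel (stabilizer G a), x ^ 2 = 1 := fun x hx => by
    rw [sq]
    rcases hK x hx with rfl | h
    · exact one_mul 1
    · exact hsq x h
  refine ⟨⟨hH, fun htop => ?_, fun g hg => ?_⟩, hKsq, fun x hx y hy => ?_⟩
  · obtain ⟨g, hg⟩ : ∃ g : G, g ≠ 1 := by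
      obtain ⟨g, -, hg⟩ := (stabilizer G a).bot_or_exists_ne_one.resolve_left hH
      exact ⟨g, hg⟩
    refine hg (eq_of_smul_eq_smul fun ω : Ω => ?_)
    obtain ⟨h, rfl⟩ := exists_smul_eq G a ω
    have e1 : h ∈ stabilizer G a := htop ▸ Subgroup.mem_top h
    have e2 : g ∈ stabilizer G a := htop ▸ Subgroup.mem_top g
    rw [mem_stabilizer_iff] at e1 e2
    rw [e1, one_smul, e2]
  · rw [Subgroup.eq_bot_iff_forall]
    rintro x ⟨hx1, hx2⟩
    by_contra hne
    exact hg (hfrob x hne (g • a) a ((hmem g x).mp hx2) hx1)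
  · rcases hK x hx with rfl | hdx
    · simp
    rcases hK y hy with rfl | hdy
    · simp
    have hxx := hsq x hdx
    have hyy := hsq y hdy
    rcases eq_or_ne (x * y) 1 with he | he
    · rw [mul_eq_one_iff_eq_inv.mp he, inv_mul_cancel, mul_inv_cancel]
    have hd : ∀ ω : Ω, (x * y) • ω ≠ ω := by
      intro ω hω
      refine hdy ω (hfrob (x * y) he (y • ω) ω ?_ hω)
      have h' : y • ω = x • ω := by
        rw [mul_smul] at hω
        calc y • ω = x • x • y • ω := by rw [← mul_smul x x, hxx, one_smul]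
          _ = x • ω := by rw [hω]
      rw [mul_smul, ← mul_smul y y, hyy, one_smul, h']
    calc x * y = x * (x * y * (x * y)) * y := by rw [hsq _ hd, mul_one]
      _ = (x * x) * (y * x) * (y * y) := by group
      _ = y * x := by rw [hxx, hyy, one_mul, mul_one]

end Cfsg.Agent.S3555
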