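import Cfsg.Statements.S3556
-- import your own Cfsg.Agent.* helpers here
import Cfsg.Agent.Recognition.SocleFactors

set_option autoImplicit false
open Cfsg

namespace Cfsg.Agent.S3556

/-- Let G act faithfully and primitively on a finite set with at least two points, and suppose that for some fixed prime p every element of G fixing no point has order a power of p. Then G is of affine type (it has a regular normal subgroup that is an elementary abelian r-group for some prime r) or almost simple (it has a non-abelian simple normal subgroup with trivial centralizer). -/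
theorem result {G Ω : Type*} [Group G] [Finite G] [MulAction G Ω] [FaithfulSMul G Ω] [Finite Ω]
    (hprim : MulAction.IsPreprimitive G Ω) (hΩ : 2 ≤ Nat.card Ω) (p : ℕ) (hp : p.Prime)
    (hder : ∀ g : G, (∀ ω : Ω, g • ω ≠ ω) → ∃ k : ℕ, orderOf g = p ^ k) :
    (∃ (N : Subgroup G) (r : ℕ), r.Prime ∧ N.Normal ∧ Cfsg.IsElementaryAbelian r N ∧
      MulAction.IsPretransitive N Ω ∧ ∀ a : Ω, MulAction.stabilizer N a = ⊥) ∨
    (∃ T : Subgroup G, T.Normal ∧ IsSimpleGroup ↥T ∧ ¬ IsMulCommutative ↥T ∧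
      Subgroup.centralizer (T : Set G) = ⊥) := by
  haveI := hprim
  haveI : Nontrivial Ω := Finite.one_lt_card_iff_nontrivial.1 (by omega)
  have htr : ∀ M : Subgroup G, M.Normal → M ≠ ⊥ → MulAction.IsPretransitive M Ω := fun M hM hM0 =>
    MulAction.IsQuasiPreprimitive.isPretransitive_of_normal fun h =>
      hM0 ((Subgroup.eq_bot_iff_forall M).2 fun m hm => eq_of_smul_eq_smul (α := Ω) fun w => by
        rw [one_smul]; exact (h ▸ Set.mem_univ w : w ∈ MulAction.fixedPoints M Ω) ⟨m, hm⟩)
  have hbad : ∀ (g : G) (q : ℕ), q.Prime → q ≠ p → q ∣ orderOf g →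
      Recognition.SocleFactors.IsDer Ω g → False := by
    intro g q hq hne hd hg
    obtain ⟨k, hk⟩ := hder g hg
    exact hne ((Nat.prime_dvd_prime_iff_eq hq hp).1 (hq.dvd_of_dvd_pow (hk ▸ hd)))
  have hpick : ∀ M : Subgroup G, ¬ Group.IsSolvable M →
      ∃ x ∈ M, x ≠ 1 ∧ (orderOf x).Prime ∧ orderOf x ≠ p := by
    intro M hM
    obtain ⟨x, y, -, hx, hy, -, hxy, -, -⟩ := Recognition.SocleFactors.three_orders hM
    have key : ∀ z : M, (orderOf z).Prime → orderOf z ≠ p →
        ∃ x ∈ M, x ≠ 1 ∧ (orderOf x).Prime ∧ orderOf x ≠ p := fun z hz hzp =>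
      ⟨z, z.2, fun e => hz.ne_one (by rw [← Subgroup.orderOf_coe, e, orderOf_one]),
        by rwa [Subgroup.orderOf_coe], by rwa [Subgroup.orderOf_coe]⟩
    by_cases hxp : orderOf x = p
    · exact key y hy fun e => hxy (hxp.trans e.symm)
    · exact key x hx hxp
  obtain ⟨N, hN, -, hNt, h | h | ⟨hreg, hns⟩ | ⟨hs, T, T', hT, hT', hne⟩⟩ :=
    Recognition.SocleFactors.cases htr
  · obtain ⟨r, hr, he, hst⟩ := h
    exact Or.inl ⟨N, r, hr, hN, he, hNt, hst⟩
  · exact Or.inr h
  · obtain ⟨x, hx, hx1, hxq, hxp⟩ := hpick N hns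
    exact (hbad x _ hxq hxp dvd_rfl (hreg x hx hx1)).elim
  · have hTs : ∀ {U}, Recognition.SocleFactors.IsFactor N U → ¬ Group.IsSolvable U := fun hU =>
      Recognition.SocleFactors.not_solvable_of_simple (hs.isSimple hU) (hs.not_comm hU)
    rcases hs.derangements hNt hT with h | ⟨t, ht, -, htd⟩
    · obtain ⟨x, hx, hx1, hxq, hxp⟩ := hpick T (hTs hT)
      exact (hbad x _ hxq hxp dvd_rfl (h x hx hx1)).elim
    · obtain ⟨x, hx, hx1, hxq, hxp⟩ := hpick T' (hTs hT')
      refine (hbad (t * x) _ hxq hxp ?_ (htd T' hT' hne.symm x hx)).elim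
      have hc : Commute t x := Recognition.SocleFactors.comm_factor hT hT' hne ht hx
      have h1 : t ^ orderOf (t * x) * x ^ orderOf (t * x) = 1 := by
        rw [← hc.mul_pow, pow_orderOf_eq_one]
      refine orderOf_dvd_of_pow_eq_one (Recognition.SocleFactors.disjoint_factor hT hT' hne ?_
        (T'.pow_mem hx _))
      rw [eq_inv_of_mul_eq_one_right h1]
      exact T.inv_mem (T.pow_mem ht _)

end Cfsg.Agent.S3556
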