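import Cfsg.Statements.S3557
import Mathlib.GroupTheory.Sylow
import Mathlib.GroupTheory.IndexNormal
import Cfsg.Agent.Lib.Cores.Nilpotent

set_option autoImplicit false
open Cfsg
open MulAction Subgroup

namespace Cfsg.Agent.S3557

/-- Let G act faithfully and transitively on a finite set with 2p² points, p a prime, and suppose G is 2-closed: every permutation of the set which, on each ordered pair of points, agrees with some element of G, is itself induced by an element of G. Then some element of G of prime order fixes no point. -/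
theorem result {G Ω : Type*} [Group G] [Finite G] [MulAction G Ω] [FaithfulSMul G Ω] [Finite Ω]
    (htrans : MulAction.IsPretransitive G Ω) (p : ℕ) (hp : p.Prime) (hcard : Nat.card Ω = 2 * p ^ 2)
    (hcl : ∀ σ : Equiv.Perm Ω, (∀ a b : Ω, ∃ g : G, σ a = g • a ∧ σ b = g • b) → ∃ g : G, ∀ a : Ω, σ a = g • a) :
    ∃ g : G, (orderOf g).Prime ∧ ∀ ω : Ω, g • ω ≠ ω := by
  classical
  have : Fact p.Prime := ⟨hp⟩
  have hΩ : Nonempty Ω := (Nat.card_pos_iff.mp (by rw [hcard]; exact Nat.mul_pos two_pos (pow_pos hp.pos 2))).1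
  obtain ⟨P⟩ : Nonempty (Sylow p G) := inferInstance
  set Q : Subgroup G := P.toSubgroup with hQ
  have hQp : IsPGroup p Q := P.isPGroup'
  have hfix : ∀ (g : G), (∀ ω : Ω, g • ω = ω) → g = 1 := fun g hg =>
    eq_of_smul_eq_smul fun ω : Ω => by rw [hg, one_smul]
  -- every orbit has at least `p ^ 2` points
  have horb : ∀ ω : Ω, p ^ 2 ≤ Nat.card (orbit Q ω) := by
    intro ω
    have hidx : (stabilizer G ω).index = 2 * p ^ 2 := by
      rw [index_stabilizer, ← Nat.card_coe_set_eq, orbit_eq_univ, Nat.card_univ, hcard]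
    have hG := (stabilizer G ω).card_mul_index
    rw [hidx] at hG
    set v := (Nat.card (stabilizer G ω)).factorization p
    have hdvd : p ^ (2 + v) ∣ Nat.card Q := P.pow_dvd_card_of_pow_dvd_card (by
      rw [← hG, pow_add, mul_comm]
      exact mul_dvd_mul (Nat.ordProj_dvd _ p) (dvd_mul_left _ _))
    obtain ⟨i, hi⟩ := IsPGroup.iff_card.mp (hQp.to_subgroup (stabilizer Q ω))
    have hiv : i ≤ v := by
      rw [← hp.pow_dvd_iff_le_factorization Nat.card_pos.ne', ← hi]
      refine card_dvd_of_injective (MonoidHom.mk' (fun z : stabilizer Q ω =>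
        (⟨((z : Q) : G), z.2⟩ : stabilizer G ω)) fun _ _ => rfl) fun a b hab => ?_
      exact Subtype.ext (Subtype.ext (congrArg (fun z : stabilizer G ω => (z : G)) hab))
    have hc := (stabilizer Q ω).card_mul_index
    rw [index_stabilizer, ← Nat.card_coe_set_eq, hi] at hc
    rw [← hc] at hdvd
    have : Nonempty (orbit Q ω) := ⟨⟨ω, mem_orbit_self ω⟩⟩
    have hle := Nat.le_of_dvd (Nat.mul_pos (pow_pos hp.pos i) (Nat.card_pos (α := orbit Q ω))
      ) hdvd
    refine Nat.le_of_mul_le_mul_left (le_trans ?_ hle) (pow_pos hp.pos i)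
    rw [← pow_add]
    exact Nat.pow_le_pow_right hp.pos (by omega)
  -- a central element of order `p`
  obtain ⟨ω₀⟩ := hΩ
  have : Nonempty Ω := ⟨ω₀⟩
  have hQbot : Nontrivial Q := by
    rw [nontrivial_iff_ne_bot]
    intro h
    have h' := horb ω₀
    have : Subsingleton (orbit Q ω₀) := ⟨fun x y => by
      obtain ⟨x, m, rfl⟩ := x
      obtain ⟨y, n, rfl⟩ := y
      have hm : (m : G) = 1 := mem_bot.mp (h ▸ m.2)
      have hn : (n : G) = 1 := mem_bot.mp (h ▸ n.2)
      exact Subtype.ext (show (m : G) • ω₀ = (n : G) • ω₀ by rw [hm, hn])⟩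
    have : Nat.card (orbit Q ω₀) ≤ 1 := Finite.card_le_one_iff_subsingleton.mpr this
    have := Nat.le_self_pow (show 2 ≠ 0 by decide) p
    have := hp.two_le
    omega
  obtain ⟨⟨z, hzc⟩, hzord⟩ := exists_prime_orderOf_dvd_card' p (G := center Q) (by
    have := hQp.center_nontrivial
    obtain ⟨k, hk⟩ := IsPGroup.iff_card.mp (hQp.to_subgroup (center Q))
    rcases Nat.eq_zero_or_pos k with rfl | hk0
    · rw [pow_zero] at hk
      exact absurd hk Finite.one_lt_card.ne'
    · rw [hk]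
      exact dvd_pow_self p hk0.ne')
  have hzo : orderOf (z : G) = p := by
    rw [orderOf_coe, ← hzord, ← Subgroup.orderOf_coe (⟨z, hzc⟩ : center Q)]
  by_cases hall : ∀ ω : Ω, (z : G) • ω ≠ ω
  · exact ⟨z, hzo ▸ hp, hall⟩
  push Not at hall
  obtain ⟨y, hy⟩ := hall
  have hzfix : ∀ w : Ω, (z : G) • w = w → ∀ w' ∈ orbit Q w, (z : G) • w' = w' := by
    rintro w hw _ ⟨s, rfl⟩
    show (z : G) • (s : G) • w = (s : G) • w
    have hc : (s : G) * z = (z : G) * s := congrArg Subtype.val (mem_center_iff.mp hzc s)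
    rw [← mul_smul, ← hc, mul_smul, hw]
  obtain ⟨x, hx⟩ : ∃ x : Ω, (z : G) • x ≠ x := by
    by_contra h
    push Not at h
    rw [hfix _ h, orderOf_one] at hzo
    exact hp.ne_one hzo.symm
  have hxy : x ∉ orbit Q y := fun h => hx (hzfix y hy x h)
  -- the two orbits cover `Ω`
  set Δ := orbit Q y with hΔ
  set Γ := orbit Q x with hΓ
  have hdisj : Disjoint Γ Δ := by
    refine Set.disjoint_left.mpr fun w hw hw' => hxy ?_
    rw [hΔ, ← orbit_eq_iff.mpr hw', orbit_eq_iff.mpr hw]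
    exact mem_orbit_self x
  have hsum : Γ.ncard + Δ.ncard ≤ 2 * p ^ 2 := by
    rw [← Set.ncard_union_eq hdisj, ← hcard, ← Set.ncard_univ]
    exact Set.ncard_le_ncard (Set.subset_univ _)
  have hΓcard : Γ.ncard = p ^ 2 := by
    have h1 : p ^ 2 ≤ Γ.ncard := (horb x).trans (Nat.card_coe_set_eq Γ).le
    have h2 : p ^ 2 ≤ Δ.ncard := (horb y).trans (Nat.card_coe_set_eq Δ).le
    omega
  have hcover : ∀ w : Ω, w ∈ Γ ∨ w ∈ Δ := by
    have hu : Γ ∪ Δ = Set.univ := by
      refine Set.eq_of_subset_of_ncard_le (Set.subset_univ _) ?_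
      have h2 : p ^ 2 ≤ Δ.ncard := (horb y).trans (Nat.card_coe_set_eq Δ).le
      rw [Set.ncard_univ, hcard, Set.ncard_union_eq hdisj]
      omega
    exact fun w => (Set.ext_iff.mp hu w).mpr trivial
  -- the kernel on `Δ` and the subgroup `X`
  let K : Subgroup Q :=
    { carrier := {s | ∀ w ∈ Δ, (s : G) • w = w}
      one_mem' := fun w _ => by rw [OneMemClass.coe_one, one_smul]
      mul_mem' := fun {s t} hs ht w hw => by rw [Subgroup.coe_mul, mul_smul, ht w hw, hs w hw]
      inv_mem' := fun {s} hs w hw => by rw [InvMemClass.coe_inv, inv_smul_eq_iff, hs w hw] }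
  have hKn : K.Normal := ⟨fun k hk s w hw => by
    have hw' : s⁻¹ • w ∈ Δ := mem_orbit_of_mem_orbit _ hw
    have := hk _ hw'
    show ((s : G) * (k : G) * (s : G)⁻¹) • w = w
    rw [mul_smul, mul_smul]
    exact smul_eq_iff_eq_inv_smul _ |>.mpr this⟩
  have hzK : z ∈ K := fun w hw => hzfix y hy w hw
  set X := stabilizer Q x ⊔ K with hX
  have hSi : (stabilizer Q x).index = p ^ 2 := by rw [index_stabilizer, hΓcard]
  have hlt : stabilizer Q x < X := lt_of_le_of_ne le_sup_left fun h =>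
    hx (show z ∈ stabilizer Q x from h.symm ▸ mem_sup_right hzK)
  have hXi : X.index ∣ p := by
    have h1 := relIndex_mul_index hlt.le
    rw [hSi] at h1
    have h0 : (stabilizer Q x).relIndex X ≠ 1 := fun h => hlt.not_ge (relIndex_eq_one.mp h)
    obtain ⟨j, hj, hjd⟩ := (Nat.dvd_prime_pow hp).mp (Dvd.intro_left _ h1)
    rw [hjd]
    have hj2 : j ≠ 2 := fun h => h0 (by
      rw [hjd, h] at h1
      exact (Nat.mul_eq_right (pow_ne_zero 2 hp.ne_zero)).mp h1)
    calc p ^ j ∣ p ^ 1 := pow_dvd_pow p (by omega)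
      _ = p := pow_one p
  have hXn : X.Normal := by
    rcases (Nat.dvd_prime hp).mp hXi with h | h
    · rw [index_eq_one.mp h]
      infer_instance
    · refine normal_of_index_eq_minFac_card ?_
      obtain ⟨k, hk⟩ := IsPGroup.iff_card.mp hQp
      have hk0 : k ≠ 0 := by
        rintro rfl
        rw [pow_zero] at hk
        exact absurd hk Finite.one_lt_card.ne'
      rw [h, hk, Nat.pow_minFac hk0, hp.minFac_eq]
  -- an element of `X` inducing a central element of order `p` on `Δ`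
  have hne : X.map (QuotientGroup.mk' K) ≠ ⊥ := by
    intro h
    rw [Subgroup.map_eq_bot_iff, QuotientGroup.ker_mk'] at h
    have hKy : K ≤ stabilizer Q y := fun s hs => hs y (mem_orbit_self y)
    have h2 := Nat.le_of_dvd hp.pos (((index_dvd_of_le hKy).trans (index_dvd_of_le h)).trans hXi)
    have h3 : p ^ 2 ≤ (stabilizer Q y).index := (horb y).trans (by rw [index_stabilizer, Nat.card_coe_set_eq])
    have h4 : p ^ 2 = p * p := sq p
    have h5 := Nat.mul_le_mul_right p hp.two_le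
    have h6 := hp.pos
    omega
  have : Group.IsNilpotent (Q ⧸ K) := (hQp.to_quotient K).isNilpotent
  have : (X.map (QuotientGroup.mk' K)).Normal := hXn.map _ (QuotientGroup.mk'_surjective K)
  set W := X.map (QuotientGroup.mk' K) ⊓ center (Q ⧸ K)
  obtain ⟨⟨w, hwX, hwc⟩, hwo⟩ := exists_prime_orderOf_dvd_card' p (G := W) (by
    obtain ⟨k, hk⟩ := IsPGroup.iff_card.mp ((hQp.to_quotient K).to_subgroup W)
    rcases Nat.eq_zero_or_pos k with rfl | hk0
    · rw [pow_zero] at hk
      exact absurd (card_eq_one.mp hk) (Cores.inf_center_ne_bot hne)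
    · rw [hk]
      exact dvd_pow_self p hk0.ne')
  rw [← Subgroup.orderOf_coe] at hwo
  dsimp only at hwo
  obtain ⟨g₀, hg₀, rfl⟩ := hwX
  have hg₀Δ : ∀ v ∈ Δ, (g₀ : G) • v ≠ v := by
    intro v hv hfx
    have hK0 : g₀ ∈ K := by
      intro u hu
      obtain ⟨s, rfl⟩ : u ∈ orbit Q v := by rw [orbit_eq_iff.mpr hv]; exact hu
      have hc : s⁻¹ * g₀ * s * g₀⁻¹ ∈ K := by
        rw [← QuotientGroup.eq_one_iff]
        show QuotientGroup.mk' K (s⁻¹ * g₀ * s * g₀⁻¹) = 1
        rw [map_mul, map_mul, map_mul, map_inv, map_inv, mul_assoc (QuotientGroup.mk' K s)⁻¹,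
          ← mem_center_iff.mp hwc, ← mul_assoc, inv_mul_cancel, one_mul, mul_inv_cancel]
      have h1 := hc v hv
      simp only [Subgroup.coe_mul, InvMemClass.coe_inv, mul_smul] at h1
      rw [inv_smul_eq_iff.mpr hfx.symm] at h1
      show (g₀ : G) • (s : G) • v = (s : G) • v
      exact inv_smul_eq_iff.mp h1
    rw [show QuotientGroup.mk' K g₀ = 1 from (QuotientGroup.eq_one_iff _).mpr hK0, orderOf_one] at hwo
    exact hp.ne_one hwo.symm
  have hg₀p : g₀ ^ p ∈ K := by
    rw [← QuotientGroup.eq_one_iff]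
    show QuotientGroup.mk' K (g₀ ^ p) = 1
    rw [map_pow, ← hwo, pow_orderOf_eq_one]
  -- the permutation
  have hgΔ : ∀ u : Ω, (g₀ : G) • u ∈ Δ ↔ u ∈ Δ := fun u =>
    ⟨fun h => by
      have h' : g₀⁻¹ • ((g₀ : G) • u) ∈ Δ := mem_orbit_of_mem_orbit (g₀⁻¹ : Q) h
      rwa [show g₀⁻¹ • ((g₀ : G) • u) = u from inv_smul_smul g₀ u] at h',
      fun h => mem_orbit_of_mem_orbit g₀ h⟩
  let σ : Equiv.Perm Ω := (MulAction.toPerm (z : G)) *
    Equiv.Perm.ofSubtype ((MulAction.toPerm (g₀ : G) : Equiv.Perm Ω).subtypePerm (p := fun u => u ∈ Δ) hgΔ)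
  have hσΔ : ∀ u ∈ Δ, σ u = (g₀ : G) • u := fun u hu => by
    simp only [σ, Equiv.Perm.mul_apply, Equiv.Perm.ofSubtype_apply_of_mem _ hu]
    exact hzfix y hy _ ((hgΔ u).mpr hu)
  have hσΓ : ∀ u ∈ Γ, σ u = (z : G) • u := fun u hu => by
    simp only [σ, Equiv.Perm.mul_apply,
      Equiv.Perm.ofSubtype_apply_of_not_mem _ (Set.disjoint_left.mp hdisj hu)]
    rfl
  have hmix : ∀ u ∈ Γ, ∀ v ∈ Δ, ∃ g : G, σ u = g • u ∧ σ v = g • v := by
    intro u hu v hv
    obtain ⟨s, rfl⟩ := hu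
    obtain ⟨h, hh, k, hk, hhk⟩ := Subgroup.mem_sup_of_normal_right.mp
      (hXn.conj_mem g₀ hg₀ s⁻¹)
    have hg : g₀ = (s * h * s⁻¹) * (s * k * s⁻¹) := by
      simp only [inv_inv] at hhk
      calc g₀ = s * (s⁻¹ * g₀ * s) * s⁻¹ := by group
        _ = s * (h * k) * s⁻¹ := by rw [hhk]
        _ = _ := by group
    refine ⟨(z : G) * ((s * h * s⁻¹ : Q) : G), ?_, ?_⟩
    · rw [hσΓ _ ⟨s, rfl⟩, mul_smul]
      congr 1
      show (s : G) • x = ((s : G) * (h : G) * (s : G)⁻¹) • (s : G) • x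
      rw [mul_smul, mul_smul, inv_smul_smul, show (h : G) • x = x from hh]
    · rw [hσΔ v hv, mul_smul]
      have e : (g₀ : G) • v = ((s * h * s⁻¹ : Q) : G) • v := by
        rw [hg, Subgroup.coe_mul, mul_smul]
        congr 1
        exact (hKn.conj_mem k hk s) v hv
      rw [← e, hzfix y hy _ ((hgΔ v).mpr hv)]
  obtain ⟨g, hg⟩ := hcl σ fun a b => by
    rcases hcover a with ha | ha <;> rcases hcover b with hb | hb
    · exact ⟨z, hσΓ a ha, hσΓ b hb⟩
    · exact hmix a ha b hb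
    · obtain ⟨g, h1, h2⟩ := hmix b hb a ha
      exact ⟨g, h2, h1⟩
    · exact ⟨g₀, hσΔ a ha, hσΔ b hb⟩
  have hgΓ : ∀ j : ℕ, ∀ u ∈ Γ, g ^ j • u = (z : G) ^ j • u := by
    intro j
    induction j with
    | zero => intro u _; simp
    | succ j ih =>
      intro u hu
      rw [pow_succ, pow_succ, mul_smul, mul_smul, ← hg, hσΓ u hu,
        ih _ (show (z : G) • u ∈ Γ from mem_orbit_of_mem_orbit z hu)]
  have hgΔ' : ∀ j : ℕ, ∀ u ∈ Δ, g ^ j • u = (g₀ : G) ^ j • u := by
    intro j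
    induction j with
    | zero => intro u _; simp
    | succ j ih =>
      intro u hu
      rw [pow_succ, pow_succ, mul_smul, mul_smul, ← hg, hσΔ u hu, ih _ ((hgΔ u).mpr hu)]
  have hfpf : ∀ u : Ω, g • u ≠ u := by
    intro u
    rw [← hg]
    rcases hcover u with hu | hu
    · rw [hσΓ u hu]
      intro h
      have : x ∈ orbit Q u := orbit_eq_iff.mpr hu ▸ mem_orbit_self x
      exact hx (hzfix u h x this)
    · rw [hσΔ u hu]
      exact hg₀Δ u hu
  refine ⟨g, ?_, hfpf⟩
  have hgp : g ^ p = 1 := hfix _ fun u => by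
    rcases hcover u with hu | hu
    · rw [hgΓ p u hu, ← hzo, pow_orderOf_eq_one, one_smul]
    · rw [hgΔ' p u hu, ← Subgroup.coe_pow]
      exact hg₀p u hu
  rw [orderOf_eq_prime hgp (fun h => hfpf x (by rw [h, one_smul]))]
  exact hp

end Cfsg.Agent.S3557
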