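import Cfsg.Statements.S3560

set_option autoImplicit false
open Cfsg MulAction

namespace Cfsg.Agent.S3560

/-- Number of differing coordinates. -/
def dist' {ι : Type*} [Fintype ι] {m : ℕ} (u v : ι → Fin m) : ℕ :=
  (Finset.univ.filter fun i => u i ≠ v i).card

/-- The product action group: permute coordinates and act in each coordinate. -/
def prodAct (ι : Type*) (m : ℕ) : Subgroup (Equiv.Perm (ι → Fin m)) where
  carrier := {σ | ∃ (π : Equiv.Perm ι) (f : ι → Equiv.Perm (Fin m)), ∀ v i, σ v i = f i (v (π i))}
  one_mem' := ⟨1, fun _ => 1, fun v i => rfl⟩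
  mul_mem' := by
    rintro σ τ ⟨π, f, hσ⟩ ⟨ρ, g, hτ⟩
    refine ⟨ρ * π, fun i => f i * g (π i), fun v i => ?_⟩
    rw [Equiv.Perm.mul_apply, hσ, hτ]
    rfl
  inv_mem' := by
    rintro σ ⟨π, f, hσ⟩
    refine ⟨π⁻¹, fun i => (f (π⁻¹ i))⁻¹, fun v i => ?_⟩
    have h := congrFun (Equiv.apply_symm_apply σ v) (π⁻¹ i)
    rw [hσ, show π (π⁻¹ i) = i from Equiv.apply_symm_apply π i] at h
    rw [← h]
    simp

theorem dist_map {ι : Type*} [Fintype ι] {m : ℕ} (σ : Equiv.Perm (ι → Fin m)) (hσ : σ ∈ prodAct ι m)
    (u v : ι → Fin m) : dist' (σ u) (σ v) = dist' u v := by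
  obtain ⟨π, f, h⟩ := hσ
  refine Finset.card_equiv π fun i => ?_
  simp only [Finset.mem_filter, Finset.mem_univ, true_and, h]
  exact (f i).injective.ne_iff

theorem isPreprimitive_prodAct {ι : Type*} [Fintype ι] [Nonempty ι] {m : ℕ} (hm : 3 ≤ m) :
    IsPreprimitive (prodAct ι m) (ι → Fin m) := by
  classical
  -- coordinatewise and coordinate permutations
  have cw : ∀ f : ι → Equiv.Perm (Fin m), ∃ g : prodAct ι m, ∀ v : ι → Fin m, g • v = fun i => f i (v i) := fun f =>
    ⟨⟨Equiv.piCongrRight f, ⟨1, f, fun v i => rfl⟩⟩, fun v => rfl⟩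
  have cp : ∀ π : Equiv.Perm ι, ∃ g : prodAct ι m, ∀ v : ι → Fin m, g • v = fun i => v (π i) := fun π =>
    ⟨⟨Equiv.arrowCongr π.symm (Equiv.refl _), ⟨π, fun _ => 1, fun v i => by simp⟩⟩, fun v => by
      funext i
      show (Equiv.arrowCongr π.symm (Equiv.refl _) v) i = _
      simp⟩
  haveI : IsPretransitive (prodAct ι m) (ι → Fin m) := ⟨fun u v => by
    obtain ⟨g, hg⟩ := cw fun i => Equiv.swap (u i) (v i)
    exact ⟨g, by rw [hg]; funext i; simp⟩⟩
  haveI : NeZero m := ⟨by omega⟩
  refine IsPreprimitive.of_isTrivialBlock_base (0 : ι → Fin m) fun {B} h0 hB => ?_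
  by_cases hne : ∃ v ∈ B, v ≠ 0
  · right
    have mapIn : ∀ g : prodAct ι m, ∀ x ∈ B, g • x ∈ B → ∀ y ∈ B, g • y ∈ B := by
      intro g x hx hgx y hy
      have heq := hB.smul_eq_of_mem hx hgx
      rw [← heq]
      exact Set.smul_mem_smul_set hy
    obtain ⟨v, hv, hv0⟩ := hne
    obtain ⟨i, hi⟩ : ∃ i, v i ≠ 0 := by
      by_contra hno
      push Not at hno
      exact hv0 (funext hno)
    obtain ⟨c, hc1, hc2⟩ : ∃ c : Fin m, c ≠ 0 ∧ c ≠ v i := by
      by_contra hno
      push Not at hno
      have hsub : (Finset.univ : Finset (Fin m)) ⊆ {0, v i} := fun c _ => by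
        by_cases h : c = 0
        · simp [h]
        · simp [hno c h]
      have := (Finset.card_le_card hsub).trans Finset.card_le_two
      simp at this
      omega
    -- change one coordinate of `v`
    obtain ⟨g, hg⟩ := cw fun j => if j = i then Equiv.swap (v i) c else 1
    have hg0 : g • (0 : ι → Fin m) = 0 := by
      rw [hg]; funext j
      by_cases h : j = i
      · subst h; simp only [if_pos, Pi.zero_apply]; exact Equiv.swap_apply_of_ne_of_ne (Ne.symm hi) hc1.symm
      · simp [h]
    have hv' : (fun j => if j = i then c else v j) ∈ B := by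
      have := mapIn g 0 h0 (by rw [hg0]; exact h0) v hv
      rw [hg] at this
      convert this using 1
      funext j
      by_cases h : j = i
      · subst h; simp
      · simp [h]
    -- every point differing in one coordinate from a point of `B` is in `B`
    have step : ∀ x ∈ B, ∀ (k : ι) (d : Fin m), Function.update x k d ∈ B := by
      intro x hx k d
      by_cases hd : d = x k
      · rw [hd, Function.update_eq_self]; exact hx
      · obtain ⟨e, he⟩ : ∃ e : Equiv.Perm (Fin m), e (v i) = x k ∧ e c = d := by
          refine ⟨(Equiv.swap (v i) (x k)).trans (Equiv.swap (Equiv.swap (v i) (x k) c) d), ?_, ?_⟩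
          · simp only [Equiv.trans_apply, Equiv.swap_apply_left]
            refine Equiv.swap_apply_of_ne_of_ne (fun h => hc2 ?_) (Ne.symm hd)
            rw [eq_comm, Equiv.swap_apply_eq_iff, Equiv.swap_apply_right] at h
            exact h
          · simp
        obtain ⟨a, ha⟩ := cp (Equiv.swap k i)
        obtain ⟨b, hb⟩ := cw fun j => if j = k then e else Equiv.swap (v (Equiv.swap k i j)) (x j)
        have hx' : (b * a) • v = x := by
          rw [mul_smul, ha, hb]; funext j
          by_cases h : j = k
          · subst h; simp [he.1]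
          · simp [h]
        have hu : (b * a) • (fun j => if j = i then c else v j) = Function.update x k d := by
          rw [mul_smul, ha, hb]; funext j
          by_cases h : j = k
          · subst h; simp [he.2]
          · have hne' : Equiv.swap k i j ≠ i := by
              rw [Ne, Equiv.swap_apply_eq_iff, Equiv.swap_apply_right]
              exact h
            simp [h, hne', Function.update_of_ne h]
        rw [← hu]
        exact mapIn (b * a) v hv (by rw [hx']; exact hx) _ hv'
    refine Set.eq_univ_of_forall fun y => ?_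
    have : ∀ s : Finset ι, (fun j => if j ∈ s then y j else 0) ∈ B := by
      intro s
      induction s using Finset.induction_on with
      | empty => simp only [Finset.notMem_empty, if_false]; exact h0
      | insert k s hk ih =>
        convert step _ ih k (y k) using 1
        funext j
        by_cases h : j = k
        · subst h; simp
        · simp [h, Function.update_of_ne h]
    simpa using this Finset.univ
  · left
    push Not at hne
    exact fun x hx y hy => (hne x hx).trans (hne y hy).symm

/-- Let K be a finite group isomorphic to a direct product of r ≥ 2 groups all of the same order m ≥ 3. Then K is not a B-group. -/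
theorem result {K : Type*} [Group K] [Finite K] {ι : Type*} [Fintype ι] (F : ι → Type*) [∀ i, Group (F i)]
    (hr : 2 ≤ Fintype.card ι) (m : ℕ) (hm : 3 ≤ m) (hcard : ∀ i, Nat.card (F i) = m) (e : K ≃* (∀ i, F i)) :
    ∃ (n : ℕ) (G R : Subgroup (Equiv.Perm (Fin n))), R ≤ G ∧ Nonempty (↥R ≃* K) ∧
      MulAction.IsPretransitive ↥R (Fin n) ∧ (∀ a : Fin n, MulAction.stabilizer ↥R a = ⊥) ∧
      MulAction.IsPreprimitive ↥G (Fin n) ∧ ¬ MulAction.IsMultiplyPretransitive ↥G (Fin n) 2 := by
  classical
  haveI : Nonempty ι := Fintype.card_pos_iff.1 (by omega)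
  haveI : ∀ i, Finite (F i) := fun i => Nat.finite_of_card_ne_zero (by rw [hcard]; omega)
  let ε : ∀ i, F i ≃ Fin m := fun i => (Finite.equivFin (F i)).trans (finCongr (hcard i))
  let toP : (∀ i, F i) →* Equiv.Perm (ι → Fin m) :=
    { toFun := fun x => Equiv.piCongrRight fun i => (ε i).symm.trans ((Equiv.mulLeft (x i)).trans (ε i))
      map_one' := by ext v i; simp
      map_mul' := fun x y => by ext v i; simp [mul_assoc] }
  have hto : ∀ x v i, toP x v i = ε i (x i * (ε i).symm (v i)) := fun x v i => rfl
  have hinj : Function.Injective toP := fun x y h => funext fun i => by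
    have := congrFun (Equiv.ext_iff.1 h fun i => ε i 1) i
    simpa [hto] using this
  set q : (ι → Fin m) ≃ Fin (Fintype.card (ι → Fin m)) := Fintype.equivFin _
  let Q : Equiv.Perm (ι → Fin m) ≃* Equiv.Perm (Fin (Fintype.card (ι → Fin m))) := q.permCongrHom
  have hQ : ∀ σ a, Q σ a = q (σ (q.symm a)) := fun σ a => rfl
  let rHom : K →* Equiv.Perm (Fin (Fintype.card (ι → Fin m))) :=
    Q.toMonoidHom.comp (toP.comp e.toMonoidHom)
  have hrinj : Function.Injective rHom := Q.injective.comp (hinj.comp e.injective)
  refine ⟨_, (prodAct ι m).map Q.toMonoidHom, rHom.range, ?_, ⟨(MonoidHom.ofInjective hrinj).symm⟩,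
    ?_, ?_, ?_, ?_⟩
  · rintro _ ⟨k, rfl⟩
    exact ⟨toP (e k), ⟨1, fun i => (ε i).symm.trans ((Equiv.mulLeft (e k i)).trans (ε i)),
      fun v i => rfl⟩, rfl⟩
  · refine ⟨fun a b => ?_⟩
    refine ⟨⟨_, e.symm (fun i => (ε i).symm (q.symm b i) * ((ε i).symm (q.symm a i))⁻¹), rfl⟩, ?_⟩
    show Q (toP (e (e.symm _))) a = b
    rw [hQ, e.apply_symm_apply, ← q.eq_symm_apply]
    funext i
    simp [hto]
  · intro a
    refine (Subgroup.eq_bot_iff_forall _).2 ?_
    rintro ⟨_, k, rfl⟩ hk
    have h : q (toP (e k) (q.symm a)) = a := hk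
    rw [← q.eq_symm_apply] at h
    have hk1 : e k = 1 := funext fun i => by
      have := congrArg (ε i).symm (congrFun h i)
      simpa [hto] using this
    apply Subtype.ext
    show rHom k = 1
    rw [show k = 1 from e.injective (by rw [hk1, map_one]), map_one]
  · haveI := isPreprimitive_prodAct (ι := ι) hm
    let φ : prodAct ι m → (prodAct ι m).map Q.toMonoidHom := fun σ => ⟨Q σ.1, σ.1, σ.2, rfl⟩
    let f : (ι → Fin m) →ₑ[φ] Fin (Fintype.card (ι → Fin m)) :=
      { toFun := q
        map_smul' := fun σ v => by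
          show q (σ.1 v) = Q σ.1 (q v)
          rw [hQ, q.symm_apply_apply] }
    exact IsPreprimitive.of_surjective (f := f) q.surjective
  · intro h2
    obtain ⟨i, j, hij⟩ := Fintype.exists_pair_of_one_lt_card (α := ι) (by omega)
    haveI : NeZero m := ⟨by omega⟩
    set u : ι → Fin m := 0
    set v : ι → Fin m := Pi.single i ⟨1, by omega⟩
    set w : ι → Fin m := Pi.single i ⟨1, by omega⟩ + Pi.single j ⟨1, by omega⟩
    have h1 : (⟨1, by omega⟩ : Fin m) ≠ 0 := by
      intro h; have := congrArg Fin.val h; simp at this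
    have huv : dist' u v = 1 := by
      have : (Finset.univ.filter fun k => u k ≠ v k) = {i} := by
        ext k
        by_cases hk : k = i
        · subst hk; simp [u, v, h1.symm]
        · simp [u, v, hk]
      rw [dist', this, Finset.card_singleton]
    have huw : dist' u w = 2 := by
      have : (Finset.univ.filter fun k => u k ≠ w k) = {i, j} := by
        ext k
        by_cases hk : k = i
        · subst hk; simp [u, w, hij, h1.symm]
        · by_cases hk' : k = j
          · subst hk'; simp [u, w, hk, h1.symm]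
          · simp [u, w, hk, hk']
      rw [dist', this, Finset.card_pair hij]
    have n1 : u ≠ v := fun h => by rw [← h] at huv; simp [dist'] at huv
    have n2 : u ≠ w := fun h => by rw [← h] at huw; simp [dist'] at huw
    obtain ⟨⟨g, σ, hσ, rfl⟩, hga, hgb⟩ :=
      is_two_pretransitive_iff.1 h2 (q.injective.ne n1) (q.injective.ne n2)
    have e1 : σ u = u := q.injective (by
      have : Q σ (q u) = q u := hga
      rwa [hQ, q.symm_apply_apply] at this)
    have e2 : σ v = w := q.injective (by
      have : Q σ (q v) = q w := hgb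
      rwa [hQ, q.symm_apply_apply] at this)
    have := dist_map σ hσ u v
    rw [e1, e2, huv, huw] at this
    omega

end Cfsg.Agent.S3560
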