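import Cfsg.Statements.S3571
import Cfsg.Agent.Lib.Perm.AltDerangement

set_option autoImplicit false
open Cfsg

namespace Cfsg.Agent.S3571

/-- Let G be an almost simple group whose socle is an alternating group of degree m ≥ 5 (G has a normal subgroup T isomorphic to that alternating group with trivial centralizer), acting faithfully and primitively on a finite set Ω with at least two points, and let r be the largest prime divisor of the number of points. Then G contains an element of order r fixing no point. -/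
theorem result {G Ω : Type*} [Group G] [Finite G] [MulAction G Ω] [FaithfulSMul G Ω] [Finite Ω]
    (T : Subgroup G) (hT : T.Normal) (hTc : Subgroup.centralizer (T : Set G) = ⊥) (m : ℕ) (hm : 5 ≤ m)
    (eT : ↥T ≃* ↥(alternatingGroup (Fin m))) (hprim : MulAction.IsPreprimitive G Ω) (hΩ : 2 ≤ Nat.card Ω)
    (r : ℕ) (hr : r.Prime) (hrd : r ∣ Nat.card Ω) (hmax : ∀ s : ℕ, s.Prime → s ∣ Nat.card Ω → s ≤ r) :
    ∃ g : G, orderOf g = r ∧ ∀ ω : Ω, g • ω ≠ ω := by
  classical
  have hTne : MulAction.fixedPoints ↥T Ω ≠ Set.univ := by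
    intro h
    have hbot : T = ⊥ := by
      rw [eq_bot_iff]
      intro t ht
      rw [Subgroup.mem_bot]
      refine FaithfulSMul.eq_of_smul_eq_smul (α := Ω) fun ω => ?_
      have : ω ∈ MulAction.fixedPoints ↥T Ω := h ▸ Set.mem_univ ω
      rw [one_smul]
      exact this ⟨t, ht⟩
    subst hbot
    haveI : Subsingleton ↥(⊥ : Subgroup G) := inferInstance
    have h1 := Nat.card_congr eT.toEquiv
    rw [Subgroup.card_bot] at h1
    haveI : Nontrivial (Fin m) := Fin.nontrivial_iff_two_le.2 (by omega)
    have h2 := two_mul_nat_card_alternatingGroup (α := Fin m)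
    rw [← h1, Nat.card_perm, Nat.card_eq_fintype_card, Fintype.card_fin] at h2
    have := Nat.self_le_factorial m
    omega
  haveI htr : MulAction.IsPretransitive ↥T Ω :=
    MulAction.IsQuasiPreprimitive.isPretransitive_of_normal hTne
  haveI : Nonempty Ω := (Nat.card_pos_iff.1 (by omega)).1
  obtain ⟨ω⟩ := (inferInstance : Nonempty Ω)
  let S : Subgroup ↥(alternatingGroup (Fin m)) := (MulAction.stabilizer ↥T ω).map eT.toMonoidHom
  let H : Subgroup (Equiv.Perm (Fin m)) := S.map (alternatingGroup (Fin m)).subtype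
  haveI : Nontrivial (Fin m) := Fin.nontrivial_iff_two_le.2 (by omega)
  have hidx : H.index = 2 * Nat.card Ω := by
    rw [Subgroup.index_map_subtype, alternatingGroup.index_eq_two, mul_comm]
    congr 1
    rw [← MulAction.index_stabilizer_of_transitive ↥T ω]
    exact Subgroup.index_map_equiv _ eT
  obtain ⟨σ, hσ, hsign, hnot⟩ :=
    Perm.AltDerangement.exists_not_conj_mem hm hΩ hidx hr hrd hmax
  let s : ↥(alternatingGroup (Fin m)) := ⟨σ, Equiv.Perm.mem_alternatingGroup.2 hsign⟩
  refine ⟨(eT.symm s : G), ?_, fun ω' hfix => ?_⟩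
  · rw [Subgroup.orderOf_coe, MulEquiv.orderOf_eq, ← Subgroup.orderOf_coe]
    exact hσ
  · obtain ⟨u, hu⟩ := MulAction.exists_smul_eq ↥T ω ω'
    have hmem : u⁻¹ * eT.symm s * u ∈ MulAction.stabilizer ↥T ω := by
      rw [MulAction.mem_stabilizer_iff, mul_smul, mul_smul, hu,
        show eT.symm s • ω' = ω' from hfix, inv_smul_eq_iff, hu]
    refine hnot _ (Subgroup.mem_map_of_mem _ (Subgroup.mem_map_of_mem eT.toMonoidHom hmem)) ?_
    refine isConj_iff.2 ⟨((eT u⁻¹ : ↥(alternatingGroup (Fin m))) : Equiv.Perm (Fin m)), ?_⟩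
    simp [s]

end Cfsg.Agent.S3571
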