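import Cfsg.Statements.S3575
import Mathlib

set_option autoImplicit false
open Cfsg

namespace Cfsg.Agent.S3575

open Equiv

theorem cycleType_of_pow {α : Type*} [Fintype α] [DecidableEq α] {r : ℕ} (hr : r.Prime) (σ : Perm α)
    (hσ : σ ^ r = 1) :
    σ.cycleType = Multiset.replicate (σ.support.card / r) r ∧ r ∣ σ.support.card := by
  have hall : σ.cycleType = Multiset.replicate σ.cycleType.card r := by
    refine Multiset.eq_replicate.2 ⟨rfl, fun m hm => ?_⟩
    have h1 : m ∣ r := (Perm.dvd_of_mem_cycleType hm).trans (orderOf_dvd_of_pow_eq_one hσ)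
    rcases hr.eq_one_or_self_of_dvd m h1 with h | h
    · have := Perm.two_le_of_mem_cycleType hm
      omega
    · exact h
  have hsum : σ.support.card = σ.cycleType.card * r := by
    rw [← Perm.sum_cycleType]
    conv_lhs => rw [hall]
    rw [Multiset.sum_replicate, smul_eq_mul]
  refine ⟨?_, hsum ▸ dvd_mul_left r _⟩
  rw [hsum, Nat.mul_div_cancel _ hr.pos]
  exact hall

theorem exists_support {α : Type*} [Fintype α] [DecidableEq α] {r s : ℕ} (hr : r.Prime)
    (h : s * r ≤ Fintype.card α) : ∃ τ : Perm α, τ ^ r = 1 ∧ τ.support.card = s * r := by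
  obtain ⟨τ, hτ⟩ := (Perm.exists_with_cycleType_iff α (m := Multiset.replicate s r)).2
    ⟨by simpa using h, fun x hx => by rw [Multiset.eq_of_mem_replicate hx]; exact hr.two_le⟩
  refine ⟨τ, ?_, ?_⟩
  · refine orderOf_dvd_iff_pow_eq_one.1 ?_
    rw [← Perm.lcm_cycleType, hτ, Multiset.lcm_dvd]
    intro x hx
    rw [Multiset.eq_of_mem_replicate hx]
  · rw [← Perm.sum_cycleType, hτ, Multiset.sum_replicate, smul_eq_mul]

theorem exists_distrib {ι : Type*} [DecidableEq ι] (F : Finset ι) (q : ℕ) :
    ∀ j ≤ F.card * q, ∃ s : ι → ℕ, (∀ x, s x ≤ q) ∧ ∑ x ∈ F, s x = j := by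
  induction F using Finset.induction_on with
  | empty => exact fun j hj => ⟨fun _ => 0, fun _ => Nat.zero_le _, by simp at hj ⊢; omega⟩
  | insert y F hy ih =>
    intro j hj
    rw [Finset.card_insert_of_notMem hy, add_mul, one_mul] at hj
    obtain ⟨s, hs, hsum⟩ := ih (j - q) (by omega)
    refine ⟨Function.update s y (min q j), fun x => ?_, ?_⟩
    · by_cases h : x = y
      · subst h; simp
      · rw [Function.update_of_ne h]; exact hs x
    · rw [Finset.sum_insert hy, Function.update_self, Finset.sum_update_of_notMem hy, hsum]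
      omega

/-- Being able to fix a uniform partition. -/
def Fixes (a b : ℕ) (σ : Perm (Fin (a * b))) : Prop :=
  ∃ f : Fin (a * b) → Fin b, (∀ j : Fin b, Nat.card {x : Fin (a * b) // f x = j} = a) ∧
    ∃ π : Perm (Fin b), ∀ x : Fin (a * b), f (σ x) = π (f x)

/-- The admissible numbers of cycles. -/
def Adm (a b r c : ℕ) : Prop :=
  ∃ i, i * r ≤ b ∧ i * a ≤ c ∧ c ≤ i * a + (b - i * r) * (a / r)

theorem adm_of_fixes {a b r : ℕ} (ha : 0 < a) (hr : r.Prime) {σ : Perm (Fin (a * b))}
    (hσ : σ ^ r = 1) (h : Fixes a b σ) : Adm a b r (σ.support.card / r) := by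
  classical
  obtain ⟨f, hf, π, hπ⟩ := h
  have hf' : ∀ j, (Finset.univ.filter fun x => f x = j).card = a := fun j => by
    rw [← Fintype.card_subtype, ← Nat.card_eq_fintype_card, hf j]
  have hit : ∀ (n : ℕ) x, f ((σ ^ n) x) = (π ^ n) (f x) := by
    intro n
    induction n with
    | zero => simp
    | succ n ih => intro x; rw [pow_succ', pow_succ', Perm.mul_apply, Perm.mul_apply, hπ, ih]
  have hπr : π ^ r = 1 := by
    refine Equiv.ext fun j => ?_
    obtain ⟨x, hx⟩ := Finset.card_pos.1 ((hf' j).symm ▸ ha : 0 < _)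
    rw [Finset.mem_filter] at hx
    rw [← hx.2, ← hit, hσ]
    simp
  obtain ⟨-, i, hi⟩ := cycleType_of_pow hr π hπr
  set s : Fin b → ℕ := fun j => (σ.support.filter fun x => f x = j).card with hs
  have hfib : σ.support.card = ∑ j, s j :=
    Finset.card_eq_sum_card_fiberwise (fun x _ => Finset.mem_univ _)
  have hmoved : ∀ j ∈ π.support, s j = a := by
    intro j hj
    refine Eq.trans ?_ (hf' j)
    show (σ.support.filter fun x => f x = j).card = _
    congr 1
    ext x
    simp only [Finset.mem_filter, Perm.mem_support, Finset.mem_univ, true_and, and_iff_right_iff_imp]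
    intro hx hfx
    apply Perm.mem_support.1 hj
    rw [← hx, ← hπ, hfx]
  have hfixed : ∀ j ∈ π.supportᶜ, s j ≤ r * (a / r) := by
    intro j hj
    rw [Finset.mem_compl, Perm.notMem_support] at hj
    have hiff : ∀ x, f (σ x) = j ↔ f x = j := fun x => by
      rw [hπ]
      exact ⟨fun h => π.injective (h.trans hj.symm), fun h => by rw [h, hj]⟩
    let τ : Perm {x // f x = j} := σ.subtypePerm hiff
    have hτ : τ ^ r = 1 := by
      refine Equiv.ext fun x => Subtype.ext ?_
      simp [τ, Perm.subtypePerm_pow, hσ]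
    have hcard : τ.support.card = s j := by
      rw [hs, ← Finset.card_map (Function.Embedding.subtype _)]
      congr 1
      ext x
      simp only [Finset.mem_map, Function.Embedding.coe_subtype, Finset.mem_filter, Perm.mem_support]
      constructor
      · rintro ⟨⟨y, hy⟩, hne, rfl⟩
        exact ⟨fun he => hne (Subtype.ext he), hy⟩
      · rintro ⟨hne, hy⟩
        exact ⟨⟨x, hy⟩, fun he => hne (congrArg Subtype.val he), rfl⟩
    obtain ⟨t, ht⟩ := (cycleType_of_pow hr τ hτ).2
    have hle : τ.support.card ≤ a := (Finset.card_le_univ _).trans_eq (by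
      rw [← Nat.card_eq_fintype_card, hf j])
    rw [← hcard, ht]
    exact Nat.mul_le_mul_left r ((Nat.le_div_iff_mul_le hr.pos).2 (by
      rw [mul_comm]; exact ht ▸ hle))
  obtain ⟨c, hc⟩ := (cycleType_of_pow hr σ hσ).2
  have hsplit := Finset.sum_add_sum_compl π.support s
  rw [Finset.sum_congr rfl hmoved, Finset.sum_const, smul_eq_mul, hi, ← hfib, hc] at hsplit
  have hbound : ∑ j ∈ π.supportᶜ, s j ≤ (b - r * i) * (r * (a / r)) := by
    refine (Finset.sum_le_card_nsmul _ _ _ hfixed).trans_eq ?_
    rw [smul_eq_mul, Finset.card_compl, Fintype.card_fin, hi]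
  refine ⟨i, ?_, ?_, ?_⟩
  · rw [mul_comm, ← hi]
    exact (Finset.card_le_univ _).trans_eq (Fintype.card_fin b)
  · rw [hc, Nat.mul_div_cancel_left _ hr.pos]
    refine Nat.le_of_mul_le_mul_left ?_ hr.pos
    rw [← mul_assoc]
    omega
  · rw [hc, Nat.mul_div_cancel_left _ hr.pos]
    refine Nat.le_of_mul_le_mul_left ?_ hr.pos
    rw [mul_add, ← mul_assoc r i a, mul_comm i r, mul_left_comm r (b - r * i)]
    omega

theorem exists_model {a b r c : ℕ} (hr : r.Prime) (h : Adm a b r c) :
    ∃ σ : Perm (Fin b × Fin a), σ ^ r = 1 ∧ σ.support.card = c * r ∧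
      ∃ π : Perm (Fin b), ∀ p, (σ p).1 = π p.1 := by
  classical
  obtain ⟨i, hib, hlow, hup⟩ := h
  obtain ⟨π, hπ, hπc⟩ := exists_support (α := Fin b) hr (s := i) (by rwa [Fintype.card_fin])
  obtain ⟨s, hs, hsum⟩ := exists_distrib π.supportᶜ (a / r) (c - i * a) (by
    rw [Finset.card_compl, Fintype.card_fin, hπc]; omega)
  have ht : ∀ x, ∃ τ : Perm (Fin a), τ ^ r = 1 ∧ τ.support.card = s x * r := fun x =>
    exists_support hr (by
      rw [Fintype.card_fin]; exact (Nat.le_div_iff_mul_le hr.pos).1 (hs x))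
  choose τ hτ hτc using ht
  let T : Fin b → Perm (Fin a) := fun x => if π x = x then τ x else 1
  have hT : ∀ x, T (π x) = T x := by
    intro x
    by_cases hx : π x = x
    · rw [hx]
    · have : ¬ π (π x) = π x := fun hh => hx (π.injective hh)
      simp [T, hx, this]
  let σ : Perm (Fin b × Fin a) := (Equiv.prodCongrRight T).trans (π.prodCongr (Equiv.refl _))
  have hσp : ∀ p, σ p = (π p.1, T p.1 p.2) := fun p => rfl
  have hit : ∀ (n : ℕ) p, (σ ^ n) p = ((π ^ n) p.1, (T p.1 ^ n) p.2) := by
    intro n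
    induction n with
    | zero => simp
    | succ n ih =>
      intro p
      rw [pow_succ, Perm.mul_apply, ih, hσp]
      simp [hT, pow_succ]
  have hTr : ∀ x, T x ^ r = 1 := fun x => by
    simp only [T]
    split_ifs
    · exact hτ x
    · exact one_pow _
  refine ⟨σ, Equiv.ext fun p => by rw [hit, hπ, hTr]; rfl, ?_, π, fun p => rfl⟩
  rw [Finset.card_eq_sum_card_fiberwise (f := Prod.fst) (t := Finset.univ)
    (fun x _ => Finset.mem_univ _)]
  have hmv : ∀ x ∈ π.support, (σ.support.filter fun p => p.1 = x).card = a := by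
    intro x hx
    have : (σ.support.filter fun p => p.1 = x) = {x} ×ˢ (Finset.univ : Finset (Fin a)) := by
      ext ⟨u, v⟩
      simp only [Finset.mem_filter, Perm.mem_support, Finset.mem_product, Finset.mem_singleton,
        Finset.mem_univ, and_true, and_iff_right_iff_imp]
      intro hu he
      rw [hσp] at he
      apply Perm.mem_support.1 hx
      rw [← hu]
      exact congrArg Prod.fst he
    rw [this]
    simp
  have hfx : ∀ x ∈ π.supportᶜ, (σ.support.filter fun p => p.1 = x).card = s x * r := by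
    intro x hx
    rw [Finset.mem_compl, Perm.notMem_support] at hx
    have : (σ.support.filter fun p => p.1 = x) = {x} ×ˢ (τ x).support := by
      ext ⟨u, v⟩
      simp only [Finset.mem_filter, Perm.mem_support, Finset.mem_product, Finset.mem_singleton,
        hσp, ne_eq, Prod.mk.injEq]
      constructor
      · rintro ⟨hne, rfl⟩
        exact ⟨rfl, fun he => hne ⟨hx, by simp [T, hx, he]⟩⟩
      · rintro ⟨rfl, hne⟩
        exact ⟨fun he => hne (by simpa [T, hx] using he.2), rfl⟩
    rw [this, Finset.card_product, Finset.card_singleton, one_mul, hτc]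
  rw [← Finset.sum_add_sum_compl π.support, Finset.sum_congr rfl hmv, Finset.sum_congr rfl hfx,
    Finset.sum_const, smul_eq_mul, hπc, ← Finset.sum_mul, hsum, Nat.sub_mul]
  have h1 : i * a * r ≤ c * r := Nat.mul_le_mul_right r hlow
  have h2 : i * r * a = i * a * r := by ring
  omega

theorem fixes_of_adm {a b r : ℕ} (hr : r.Prime) {σ : Perm (Fin (a * b))} (hσ : σ ^ r = 1)
    (h : Adm a b r (σ.support.card / r)) : Fixes a b σ := by
  classical
  obtain ⟨σ₀, h₀, hc₀, π, hπ⟩ := exists_model hr h
  have hcard : Fintype.card (Fin (a * b)) = Fintype.card (Fin b × Fin a) := by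
    simp [mul_comm]
  let e := Fintype.equivOfCardEq hcard
  let ρ : Perm (Fin b × Fin a) := e.permCongr σ
  have hρr : ρ ^ r = 1 := by
    show (e.permCongrHom σ) ^ r = 1
    rw [← map_pow, hσ, map_one]
  have hρc : ρ.support.card = σ.support.card := by
    rw [← Finset.card_map e.toEmbedding (s := σ.support)]
    congr 1
    ext x
    simp [ρ, Perm.mem_support, Finset.mem_map, ← e.eq_symm_apply]
  obtain ⟨t, ht⟩ := (cycleType_of_pow hr σ hσ).2
  have hct : σ₀.cycleType = ρ.cycleType := by
    rw [(cycleType_of_pow hr σ₀ h₀).1, (cycleType_of_pow hr ρ hρr).1, hc₀, hρc,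
      Nat.mul_div_cancel _ hr.pos]
  obtain ⟨g, hg⟩ := isConj_iff.1 (Perm.isConj_iff_cycleType_eq.2 hct)
  refine ⟨fun x => (g⁻¹ (e x)).1, fun j => ?_, π, fun x => ?_⟩
  · refine (Nat.card_congr (β := {p : Fin b × Fin a // p.1 = j})
      ((e.trans g.symm).subtypeEquiv fun x => Iff.rfl)).trans ?_
    rw [Nat.card_eq_fintype_card, Fintype.card_subtype]
    rw [show (Finset.univ.filter fun p : Fin b × Fin a => p.1 = j) =
      {j} ×ˢ (Finset.univ : Finset (Fin a)) by ext ⟨u, v⟩; simp [eq_comm]]
    simp
  · have h2 : e (σ x) = ρ (e x) := by simp [ρ]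
    show (g⁻¹ (e (σ x))).1 = π (g⁻¹ (e x)).1
    rw [h2, ← hg, ← hπ]
    simp

theorem arith {a b r : ℕ} (ha : 2 ≤ a) (hr : 0 < r) (hab : r ≤ a * b) :
    (∀ c, 1 ≤ c → c * r ≤ a * b → Adm a b r c) ↔
      (r ≤ a ∧ (a % r = 0 ∨ (b % r = 0 ∧ a % r = 1) ∨
        (a % r ≠ 0 ∧ b % r ≠ 0 ∧ (b % r) * (a % r) < r ∧
          (b < r ∨ (b % r + r) * (a % r) ≤ (b % r) * a + r)))) := by
  have hA := Nat.div_add_mod a r
  have hB := Nat.div_add_mod b r
  have hl := Nat.mod_lt a hr
  have hk := Nat.mod_lt b hr
  unfold Adm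
  generalize a % r = l at *
  generalize b % r = k at *
  generalize a / r = q at *
  generalize b / r = B at *
  subst hA hB
  have key : ∀ i c, i * r ≤ r * B + k → c ≤ i * (r * q + l) + (r * B + k - i * r) * q →
      i ≤ B ∧ c ≤ i * l + (r * B + k) * q := by
    intro i c hi hc
    refine ⟨?_, ?_⟩
    · by_contra hh
      have : (B + 1) * r ≤ i * r := Nat.mul_le_mul_right r (by omega)
      rw [add_mul, one_mul, mul_comm] at this
      omega
    · obtain ⟨m, hm⟩ : ∃ m, r * B + k = i * r + m := ⟨_, (Nat.add_sub_cancel' hi).symm⟩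
      rw [hm, Nat.add_sub_cancel_left] at hc
      rw [hm]
      nlinarith
  constructor
  · intro h
    have hq : 1 ≤ q := by
      by_contra hq
      obtain rfl : q = 0 := by omega
      obtain ⟨i, -, h1, h2⟩ := h 1 le_rfl (by simpa using hab)
      simp only [mul_zero, zero_add, add_zero] at h1 h2 ha
      rcases Nat.eq_zero_or_pos i with rfl | hi
      · simp at h2
      · nlinarith
    have hkl : k * l < r := by
      by_contra hh
      push Not at hh
      obtain ⟨i, hi, -, h2⟩ := h (B * (r * q + l) + k * q + 1) (by omega) (by nlinarith)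
      obtain ⟨hiB, h3⟩ := key i _ hi h2
      nlinarith [Nat.mul_le_mul_right l hiB]
    refine ⟨by nlinarith, ?_⟩
    by_cases hl0 : l = 0
    · exact Or.inl hl0
    have hgap : 1 ≤ B → l ≤ k * q + 1 := by
      intro hB1
      by_contra hh
      push Not at hh
      obtain ⟨B', rfl⟩ := Nat.exists_eq_add_of_le' hB1
      obtain ⟨i, hi, h1, h2⟩ := h (B' * (r * q + l) + (k + r) * q + 1) (by omega) (by nlinarith)
      obtain ⟨hiB, h3⟩ := key i _ hi h2
      rcases Nat.lt_or_ge i (B' + 1) with hlt | hge
      · nlinarith [Nat.mul_le_mul_right l (Nat.lt_succ_iff.1 hlt)]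
      · nlinarith [Nat.mul_le_mul_right (r * q + l) hge]
    by_cases hk0 : k = 0
    · subst hk0
      refine Or.inr (Or.inl ⟨rfl, ?_⟩)
      rcases Nat.eq_zero_or_pos B with rfl | hB
      · simp at hab; omega
      · have := hgap hB; simp at this; omega
    refine Or.inr (Or.inr ⟨hl0, hk0, hkl, ?_⟩)
    rcases Nat.eq_zero_or_pos B with rfl | hB
    · left; simpa using hk
    · right
      nlinarith [Nat.mul_le_mul_left r (hgap hB)]
  · rintro ⟨hra, hcond⟩ c hc1 hc
    have hkl : k * l < r := by
      rcases hcond with rfl | ⟨rfl, -⟩ | ⟨-, -, h, -⟩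
      · simpa using hr
      · simpa using hr
      · exact h
    have hgap : 1 ≤ B → l ≤ k * q + 1 := by
      intro hB
      rcases hcond with rfl | ⟨rfl, rfl⟩ | ⟨-, -, -, h | h⟩
      · omega
      · omega
      · have := Nat.mul_le_mul_left r hB; omega
      · refine Nat.le_of_mul_le_mul_left ?_ hr
        nlinarith
    have hmax : c ≤ B * (r * q + l) + k * q := by
      refine Nat.lt_add_one_iff.1 (Nat.lt_of_mul_lt_mul_right (a := r) ?_)
      nlinarith
    rcases Nat.lt_or_ge c (B * (r * q + l)) with hlt | hge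
    · set A := r * q + l with hAdef
      have hA : 0 < A := by omega
      set i := c / A with hidef
      have h1 : i * A ≤ c := Nat.div_mul_le_self c A
      have h2 : c < (i + 1) * A := Nat.lt_mul_of_div_lt (Nat.lt_succ_self _) hA
      have hiB : i + 1 ≤ B := (Nat.div_lt_iff_lt_mul hA).2 hlt
      obtain ⟨d, hd⟩ := Nat.exists_eq_add_of_le hiB
      have hbr : r * B + k = i * r + (r * (d + 1) + k) := by rw [hd]; ring
      refine ⟨i, by rw [hbr]; exact Nat.le_add_right _ _, h1, ?_⟩
      rw [hbr, Nat.add_sub_cancel_left]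
      have := hgap ((Nat.le_add_left 1 i).trans hiB)
      nlinarith
    · refine ⟨B, by rw [mul_comm]; omega, hge, ?_⟩
      rw [mul_comm B r, Nat.add_sub_cancel_left]
      exact hmax

/-- Let a, b ≥ 2 and consider the symmetric group of degree a·b acting on the partitions of an (a·b)-set into b parts of size a (encoded as maps onto a b-element set all of whose fibres have a elements; a permutation fixes such a partition when it permutes the fibres). Let r be a prime dividing the number (ab)!/((a!)^b·b!) of such partitions, and let ℓ and k be the remainders of a and b modulo r. Then every permutation of order r fixes some such partition if and only if r ≤ a and one of the following holds: ℓ = 0; or k = 0 and ℓ = 1; or ℓ and k are non-zero, k·ℓ < r, and either b < r or (k + r)·ℓ ≤ k·a + r. -/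
theorem result (a b : ℕ) (ha : 2 ≤ a) (hb : 2 ≤ b) (r : ℕ) (hr : r.Prime)
    (hrd : r ∣ (a * b).factorial / (a.factorial ^ b * b.factorial)) :
    (∀ σ : Equiv.Perm (Fin (a * b)), orderOf σ = r →
        ∃ f : Fin (a * b) → Fin b, (∀ j : Fin b, Nat.card {x : Fin (a * b) // f x = j} = a) ∧
          ∃ π : Equiv.Perm (Fin b), ∀ x : Fin (a * b), f (σ x) = π (f x)) ↔
      (r ≤ a ∧ (a % r = 0 ∨ (b % r = 0 ∧ a % r = 1) ∨
        (a % r ≠ 0 ∧ b % r ≠ 0 ∧ (b % r) * (a % r) < r ∧ (b < r ∨ (b % r + r) * (a % r) ≤ (b % r) * a + r)))) := by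
  classical
  haveI := Fact.mk hr
  have hle : r ≤ a * b := by
    have h1 : a.factorial ^ b * b.factorial ∣ (a * b).factorial := ⟨Nat.uniformBell b a, by
      rw [mul_comm a b, ← Nat.uniformBell_mul_eq b (by omega : a ≠ 0)]; ring⟩
    exact hr.dvd_factorial.1 (hrd.trans (Nat.div_dvd_of_dvd h1))
  rw [← arith ha hr.pos hle]
  constructor
  · intro h c hc1 hc
    obtain ⟨σ, hσ, hσc⟩ := exists_support (α := Fin (a * b)) hr (s := c) (by simpa using hc)
    have hne : σ ≠ 1 := by
      rintro rfl
      rw [Perm.support_one, Finset.card_empty, eq_comm, Nat.mul_eq_zero] at hσc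
      rcases hσc with h0 | h0
      · omega
      · exact hr.ne_zero h0
    have := adm_of_fixes (by omega) hr hσ (h σ (orderOf_eq_prime hσ hne))
    rwa [hσc, Nat.mul_div_cancel _ hr.pos] at this
  · intro h σ hσ
    have hpow : σ ^ r = 1 := by rw [← hσ]; exact pow_orderOf_eq_one σ
    obtain ⟨t, ht⟩ := (cycleType_of_pow hr σ hpow).2
    refine fixes_of_adm hr hpow ?_
    rw [ht, Nat.mul_div_cancel_left _ hr.pos]
    refine h t ?_ ?_
    · by_contra h0
      obtain rfl : t = 0 := by omega
      rw [mul_zero, Finset.card_eq_zero, Perm.support_eq_empty_iff] at ht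
      rw [ht, orderOf_one] at hσ
      exact hr.ne_one hσ.symm
    · rw [mul_comm, ← ht]
      exact (Finset.card_le_univ _).trans_eq (Fintype.card_fin _)

end Cfsg.Agent.S3575
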