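import Cfsg.Statements.S3590
import Cfsg.Agent.GenA.Spec.OrthSpectra

set_option autoImplicit false
open Cfsg

namespace Cfsg.Agent.S3590

/-- Let F be a finite field of characteristic 2. Then PSp(8,F) is not determined by its set of element orders, not even up to finitely many groups: for every bound there is a finite group of larger order with exactly the same set of element orders as PSp(8,F). -/
theorem result {F : Type*} [Field F] [Fintype F]
    [CharP F 2] (M : ℕ) :
    ∃ (H : Type) (_ : Group H) (_ : Fintype H), M < Fintype.card H ∧ Set.range (orderOf : H → ℕ) = Set.range (orderOf : Cfsg.PSp 4 F → ℕ) := by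
  classical
  have : Fact (Nat.Prime 2) := ⟨Nat.prime_two⟩
  obtain ⟨k, -, hk⟩ := FiniteField.card F 2
  let F₀ := GaloisField 2 k
  have : Fintype F₀ := Fintype.ofFinite _
  have hc : Fintype.card F₀ = Fintype.card F := by
    rw [hk, ← Nat.card_eq_fintype_card]
    exact GaloisField.card 2 k k.ne_zero
  obtain ⟨ζ, hζ⟩ := Cfsg.Agent.Classical.OrthTypes.exists_zeta (F := F)
  obtain ⟨ζ₀, hζ₀⟩ := Cfsg.Agent.Classical.OrthTypes.exists_zeta (F := F₀)
  rw [Cfsg.Agent.GenA.Spec.Eight.range_psp (Cfsg.Agent.Classical.QuadClass.aniso_one hζ), ← hc]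
  exact Cfsg.Agent.GenA.Spec.Eight.exists_large_eight (Cfsg.Agent.Classical.QuadClass.aniso_one hζ₀) M

end Cfsg.Agent.S3590
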