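import Cfsg.Statements.S3596
import Cfsg.Agent.Lib.M24Order.Count.Main
import Cfsg.Agent.Lib.M24Order.Local.Shape
import Cfsg.Agent.Lib.M24Order.Models

set_option autoImplicit false
open Cfsg

namespace Cfsg.Agent.S3596

/-- Let M be the Mathieu group M₂₄ (order 244823040). If a finite group G has the same order as M and the same set of values of the function 'number of elements of order n' (taken over the element orders n that occur), then G is isomorphic to M. -/
theorem result {G : Type*} [Group G] [Finite G]
    (hcard : Nat.card G = Nat.card ↥Cfsg.M24)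
    (hnse : {c : ℕ | 0 < c ∧ ∃ n : ℕ, c = Nat.card {g : G // orderOf g = n}} =
      {c : ℕ | 0 < c ∧ ∃ n : ℕ, c = Nat.card {g : ↥Cfsg.M24 // orderOf g = n}}) :
    Nonempty (G ≃* ↥Cfsg.M24) := by
  obtain ⟨F⟩ := M24Order.exists_facts hcard hnse
  haveI := F.simple
  obtain ⟨h⟩ := F.nonempty_shape
  exact M24Order.nonempty_equiv_of_shape h F.card

end Cfsg.Agent.S3596
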