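import Cfsg.Statements.S3598
import Cfsg.Agent.DegPSL.Zassenhaus
import Cfsg.Agent.S0742
import Cfsg.Agent.S0494
import Cfsg.Agent.Lib.CharTheory.DegreeThree.Quotient
import Cfsg.Agent.Lib.Classical.SmallIso

set_option autoImplicit false
set_option linter.style.haveILetI false
open Cfsg

namespace Cfsg.Agent.S3598

/-- Let p be a prime and F a field with p² elements. If a finite group G has, for every d, the same number of irreducible complex characters of degree d as PSL(2,F) (the same first column of the character table, with multiplicities), then G is isomorphic to PSL(2,F). -/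
theorem result {F : Type*} [Field F] [Fintype F] (p : ℕ) (hp : p.Prime)
    (hF : Fintype.card F = p ^ 2) {G : Type*} [Group G] [Finite G]
    (h : ∀ d : ℕ, Nat.card {χ : Cfsg.IrrCharacter G // (χ : G → ℂ) 1 = (d : ℂ)} =
      Nat.card {χ : Cfsg.IrrCharacter (Matrix.ProjectiveSpecialLinearGroup (Fin 2) F) // (χ : Matrix.ProjectiveSpecialLinearGroup (Fin 2) F → ℂ) 1 = (d : ℂ)}) :
    Nonempty (G ≃* Matrix.ProjectiveSpecialLinearGroup (Fin 2) F) := by
  classical
  haveI := Fact.mk hp
  haveI := Fintype.ofFinite (Cfsg.IrrCharacter G)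
  rcases eq_or_ne p 2 with rfl | hp2
  · -- `q = 4`: both groups are simple of order `60`
    have hL := DegPSL.commutator_psl (F := F) (by rw [hF]; norm_num)
      (fun ho => by rw [hF] at ho; exact absurd ho (by decide))
    have hcL := PSLOrderSpectrum.card_psl_two (F := F)
    rw [hF] at hcL
    norm_num [-Nat.card_eq_fintype_card] at hcL
    have hG : Nat.card G = 60 := (DegPSL.card_eq_of_count h).trans hcL
    haveI := CharTheory.DegreeThree.simple_of_perfect_sixty hG (DegPSL.perfect_of_count hL h)
    haveI := CharTheory.DegreeThree.simple_of_perfect_sixty hcL hL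
    obtain ⟨a⟩ := S0494.result hG
    obtain ⟨b⟩ := S0494.result hcL
    exact ⟨a.trans b.symm⟩
  obtain ⟨k, hk⟩ := hp.odd_of_ne_two hp2
  have hk1 : 1 ≤ k := by
    rcases k with _ | k
    · exact absurd hk hp.one_lt.ne'
    · exact Nat.le_add_left 1 k
  have hh : Fintype.card F + 1 = 2 * (2 * k * k + 2 * k + 1) := by rw [hF, hk]; ring
  have hkk : 1 ≤ k * k := Nat.mul_pos hk1 hk1
  have D := DegPSL.data_of_count (G := G) hh ⟨k * k + k, by ring⟩ (by rw [mul_assoc]; omega) h
  haveI := Fintype.ofFinite (Sylow p G)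
  obtain ⟨P⟩ : Nonempty (Sylow p G) := inferInstance
  obtain ⟨Q, hQ, -⟩ := D.exists_third hp hF P P
  have h2pt := D.two_point_card hp hF hQ.symm
  have hsyl := D.card_sylows hp hF
  rw [Nat.card_eq_fintype_card] at hsyl
  obtain ⟨r, f, K, iK, iKf, -, -, hKcard, hΩ, ⟨e⟩⟩ := S0742.result (D.isZassenhaus hp hF) hQ.symm
    (by rw [h2pt]; exact ⟨k * k + k, by rw [mul_assoc]; omega⟩)
    (by rw [h2pt, hsyl]; omega)
  have hq := D.hq
  exact ⟨e.trans (Classical.SmallIso.pslCongr (FiniteField.ringEquivOfCardEq
    (show Fintype.card K = Fintype.card F by omega)))⟩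

end Cfsg.Agent.S3598
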