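import Cfsg.Statements.S3599
import Cfsg.Agent.Recognition.MinimalFrobenius

set_option autoImplicit false
open Cfsg

namespace Cfsg.Agent.S3599

theorem orderOf_pi {ι : Type} [Fintype ι] [DecidableEq ι] {A : ι → Type} [∀ i, Group (A i)]
    [∀ i, Finite (A i)] (x : ∀ i, A i)
    (h : ∀ i j, i ≠ j → Nat.Coprime (orderOf (x i)) (orderOf (x j))) :
    orderOf x = ∏ i, orderOf (x i) := by
  refine Nat.dvd_antisymm (orderOf_dvd_of_pow_eq_one (funext fun i => ?_)) ?_
  · rw [Pi.pow_apply, Pi.one_apply, ← orderOf_dvd_iff_pow_eq_one]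
    exact Finset.dvd_prod_of_mem _ (Finset.mem_univ i)
  · refine Finset.prod_dvd_of_isRelPrime (fun i _ j _ hij => ?_) (fun i _ => ?_)
    · exact Nat.coprime_iff_isRelPrime.1 (h i j hij)
    · exact orderOf_map_dvd (Pi.evalMonoidHom A i) x

/-- A finite group is critical with respect to a set Ω of natural numbers when its set of element orders is Ω while no proper section H/N (H a subgroup, N normal in H, (H, N) ≠ (whole group, 1)) has Ω as its set of element orders. Let s ≥ 1 and let p(j,0), p(j,1) (j < s) be 2s pairwise distinct primes, and let Ω be the set of all products c(0)·…·c(s−1) with each c(j) ∈ {1, p(j,0), p(j,1)}. Then there are 2^s pairwise non-isomorphic finite groups critical with respect to Ω. -/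
theorem result (s : ℕ) (hs : 1 ≤ s) (p : Fin s → Fin 2 → ℕ)
    (hp : ∀ j i, (p j i).Prime) (hinj : ∀ j i j' i', p j i = p j' i' → j = j' ∧ i = i') :
    ∃ (G : Fin (2 ^ s) → Type) (_ : ∀ a, Group (G a)) (_ : ∀ a, Fintype (G a)),
      (∀ a b, a ≠ b → ¬ Nonempty (G a ≃* G b)) ∧
      ∀ a, Set.range (orderOf : (G a) → ℕ) = {m : ℕ | ∃ c : Fin s → ℕ, (∀ j, c j = 1 ∨ c j = p j 0 ∨ c j = p j 1) ∧ m = ∏ j, c j} ∧
      ∀ (H : Subgroup (G a)) (N : Subgroup ↥H) [N.Normal], (H ≠ ⊤ ∨ N ≠ ⊥) → Set.range (orderOf : (↥H ⧸ N) → ℕ) ≠ {m : ℕ | ∃ c : Fin s → ℕ, (∀ j, c j = 1 ∨ c j = p j 0 ∨ c j = p j 1) ∧ m = ∏ j, c j} := by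
  classical
  have hne2 : ∀ i : Fin 2, i ≠ 1 - i := by decide
  choose A instG instF d hd0 hcard hdvd hrange htop hnorm using fun (j : Fin s) (i : Fin 2) =>
    Recognition.MinimalFrobenius.exists_minimal (p j i) (p j (1 - i)) (hp _ _) (hp _ _)
      (fun h => hne2 i (hinj _ _ _ _ h).2)
  let e : Fin (2 ^ s) ≃ (Fin s → Fin 2) := finFunctionFinEquiv.symm
  have hcop : ∀ j k i i', (j, i) ≠ (k, i') → Nat.Coprime (p j i) (p k i') := by
    intro j k i i' h
    refine (Nat.coprime_primes (hp _ _) (hp _ _)).2 fun he => h ?_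
    obtain ⟨h1, h2⟩ := hinj _ _ _ _ he
    rw [h1, h2]
  have hcoef : ∀ j i m, (m ∈ Set.range (orderOf : A j i → ℕ) ↔ m = 1 ∨ m = p j 0 ∨ m = p j 1) := by
    intro j i m
    rw [hrange]
    fin_cases i
    · simp
    · simp [or_comm (a := m = p j 1)]
  have hcop' : ∀ (ch : Fin s → Fin 2) (x : ∀ j, A j (ch j)) j k, j ≠ k →
      Nat.Coprime (orderOf (x j)) (orderOf (x k)) := by
    intro ch x j k hjk
    rcases (hcoef j _ _).1 ⟨x j, rfl⟩ with h | h | h <;>
      rcases (hcoef k _ _).1 ⟨x k, rfl⟩ with h' | h' | h' <;> rw [h, h']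
    all_goals first
      | exact Nat.coprime_one_left _
      | exact Nat.coprime_one_right _
      | exact hcop _ _ _ _ (by simp [hjk])
  let G : Fin (2 ^ s) → Type := fun a => ∀ j, A j (e a j)
  have hG : ∀ a, Nat.card (G a) = ∏ j, (p j (e a j) ^ d j (e a j) * p j (1 - e a j)) := by
    intro a
    rw [Nat.card_pi]
    exact Finset.prod_congr rfl fun j _ => hcard _ _
  have hrest : ∀ a j i, Nat.Coprime (p j i)
      (∏ k ∈ Finset.univ.erase j, (p k (e a k) ^ d k (e a k) * p k (1 - e a k))) := by
    intro a j i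
    refine Nat.Coprime.prod_right fun k hk => ?_
    have hk' : j ≠ k := Ne.symm (Finset.ne_of_mem_erase hk)
    exact Nat.Coprime.mul_right (Nat.Coprime.pow_right _ (hcop _ _ _ _ (by simp [hk'])))
      (hcop _ _ _ _ (by simp [hk']))
  have hsplit : ∀ a j, Nat.card (G a) = p j (e a j) ^ d j (e a j) * p j (1 - e a j) *
      ∏ k ∈ Finset.univ.erase j, (p k (e a k) ^ d k (e a k) * p k (1 - e a k)) := by
    intro a j
    rw [hG]
    exact (Finset.mul_prod_erase Finset.univ (fun k => p k (e a k) ^ d k (e a k) * p k (1 - e a k)) (Finset.mem_univ j)).symm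
  refine ⟨G, fun a => inferInstance, fun a => Fintype.ofFinite _, ?_, fun a => ⟨?_, ?_⟩⟩
  · rintro a b hab ⟨f⟩
    obtain ⟨j, hj⟩ : ∃ j, e a j ≠ e b j := Function.ne_iff.1 (e.injective.ne hab)
    have hb : e b j = 1 - e a j := by revert hj; generalize e a j = u; generalize e b j = v; revert u v; decide
    have ha : e a j = 1 - e b j := by revert hj; generalize e a j = u; generalize e b j = v; revert u v; decide
    have hc := Nat.card_congr f.toEquiv
    have key : ∀ a b, e b j = 1 - e a j → Nat.card (G a) = Nat.card (G b) → d j (e a j) = 1 := by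
      intro a b hb hc
      have h1 : p j (e a j) ^ d j (e a j) ∣ Nat.card (G b) :=
        hc ▸ hsplit a j ▸ (dvd_mul_right _ _).mul_right _
      rw [hsplit b j] at h1
      have h2 := (Nat.Coprime.pow_left (d j (e a j)) (hrest b j (e a j))).dvd_of_dvd_mul_right h1
      have h3 : e a j = 1 - e b j := by rw [hb]; generalize e a j = u; revert u; decide
      rw [← h3] at h2
      have h4 := (Nat.Coprime.pow _ (d j (e b j)) (hcop j j (e a j) (e b j) (by
        intro h; exact hne2 _ ((Prod.ext_iff.1 h).2.trans hb)))).dvd_of_dvd_mul_left h2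
      have h5 : d j (e a j) ≤ 1 := (Nat.pow_dvd_pow_iff_le_right (hp j (e a j)).one_lt).1 (by rwa [pow_one])
      exact le_antisymm h5 (hd0 _ _)
    have da := key a b hb hc
    have db := key b a ha hc.symm
    have h1 := hdvd j (e a j)
    have h2 := hdvd j (e b j)
    rw [da, pow_one, ← hb] at h1
    rw [db, pow_one, ← ha] at h2
    have l1 := Nat.le_of_dvd (by have := (hp j (e a j)).two_le; omega) h1
    have l2 := Nat.le_of_dvd (by have := (hp j (e b j)).two_le; omega) h2
    have := (hp j (e a j)).two_le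
    have := (hp j (e b j)).two_le
    omega
  · refine Set.Subset.antisymm ?_ ?_
    · rintro _ ⟨x, rfl⟩
      exact ⟨fun j => orderOf (x j), fun j => (hcoef j _ _).1 ⟨x j, rfl⟩, orderOf_pi x (hcop' _ x)⟩
    · rintro _ ⟨c, hc, rfl⟩
      choose x hx using fun j => (hcoef j (e a j) (c j)).2 (hc j)
      exact ⟨x, by rw [orderOf_pi x (hcop' _ x)]; exact Finset.prod_congr rfl fun j _ => hx j⟩
  · intro H N _ hHN heq
    have helt : ∀ j i, ∃ h : H ⧸ N, orderOf h = p j i := by
      intro j i
      have : p j i ∈ Set.range (orderOf : H ⧸ N → ℕ) := by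
        rw [heq]
        refine ⟨Function.update 1 j (p j i), fun k => ?_, ?_⟩
        · rcases eq_or_ne k j with rfl | hk
          · rw [Function.update_self]
            fin_cases i <;> simp
          · simp [Function.update_of_ne hk]
        · rw [Finset.prod_update_of_mem (Finset.mem_univ j)]
          simp
      exact this
    -- elements of prime order sit in one factor
    have hsingle : ∀ (y : G a) j i, orderOf y = p j i → ∀ k, k ≠ j → y k = 1 := by
      intro y j i hy k hk
      rw [← orderOf_eq_one_iff]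
      have h1 : orderOf (y k) ∣ p j i := hy ▸ orderOf_map_dvd (Pi.evalMonoidHom (fun j => A j (e a j)) k) y
      rcases (hcoef k _ _).1 ⟨y k, rfl⟩ with h | h | h
      · exact h
      all_goals
        rw [h, Nat.prime_dvd_prime_iff_eq (hp _ _) (hp _ _)] at h1
        exact absurd (hinj _ _ _ _ h1).1 hk
    have hH : H = ⊤ := by
      have hHj : ∀ j, ∀ g : A j (e a j), MonoidHom.mulSingle (fun j => A j (e a j)) j g ∈ H := by
        intro j
        have hmem : ∀ i, ∃ g ∈ H.comap (MonoidHom.mulSingle (fun j => A j (e a j)) j), orderOf g = p j i := by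
          intro i
          obtain ⟨h, hh⟩ := helt j i
          obtain ⟨h', rfl⟩ := QuotientGroup.mk_surjective h
          have hd' : p j i ∣ orderOf h' := hh ▸ orderOf_map_dvd (QuotientGroup.mk' N) h'
          set y := ((h' ^ (orderOf h' / p j i) : H) : G a) with hy
          have hyo : orderOf y = p j i := by
            rw [hy, Subgroup.orderOf_coe, orderOf_pow_orderOf_div (orderOf_pos h').ne' hd']
          have hys : MonoidHom.mulSingle (fun j => A j (e a j)) j (y j) = y := by
            funext k
            rcases eq_or_ne k j with rfl | hk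
            · simp
            · simp [hsingle y j i hyo k hk, hk]
          refine ⟨y j, ?_, ?_⟩
          · rw [Subgroup.mem_comap, hys]
            exact SetLike.coe_mem _
          · rw [← orderOf_injective (MonoidHom.mulSingle (fun j => A j (e a j)) j) (Pi.mulSingle_injective (M := fun j => A j (e a j)) j), ← hyo]
            exact congrArg orderOf hys
        intro g
        have := htop j (e a j) _ (hmem (e a j)) (hmem (1 - e a j))
        exact Subgroup.mem_comap.1 (this ▸ Subgroup.mem_top g)
      refine (Subgroup.eq_top_iff' H).2 fun x => ?_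
      exact Subgroup.pi_mem_of_mulSingle_mem x fun j => hHj j (x j)
    subst hH
    have hN : N ≠ ⊥ := hHN.resolve_left (fun h => h rfl)
    haveI : Fact (Nat.minFac (Nat.card N)).Prime :=
      ⟨Nat.minFac_prime (fun h => hN (Subgroup.card_eq_one.1 h))⟩
    obtain ⟨y, hy⟩ := exists_prime_orderOf_dvd_card' (G := N) (Nat.minFac (Nat.card N)) (Nat.minFac_dvd _)
    set z : G a := ((y : (⊤ : Subgroup (G a))) : G a) with hz
    have hzo : orderOf z = Nat.minFac (Nat.card N) := by rw [hz, Subgroup.orderOf_coe, Subgroup.orderOf_coe, hy]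
    have hz1 : z ≠ 1 := fun h => (Fact.out : (Nat.minFac (Nat.card N)).Prime).ne_one (by rw [← hzo, h, orderOf_one])
    obtain ⟨j, hj⟩ : ∃ j, z j ≠ 1 := Function.ne_iff.1 hz1
    obtain ⟨i, hi⟩ : ∃ i, orderOf z = p j i := by
      have h1 : orderOf (z j) ∣ orderOf z := orderOf_map_dvd (Pi.evalMonoidHom (fun j => A j (e a j)) j) z
      rcases (Nat.dvd_prime (hzo ▸ (Fact.out : (Nat.minFac (Nat.card N)).Prime))).1 h1 with h | h
      · exact absurd (orderOf_eq_one_iff.1 h) hj
      · rcases (hcoef j _ _).1 ⟨z j, rfl⟩ with h' | h' | h'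
        · exact absurd (orderOf_eq_one_iff.1 h') hj
        · exact ⟨0, h ▸ h'⟩
        · exact ⟨1, h ▸ h'⟩
    let ι : A j (e a j) →* (⊤ : Subgroup (G a)) :=
      (MonoidHom.mulSingle (fun j => A j (e a j)) j).codRestrict ⊤ (fun _ => trivial)
    have hι : Function.Injective ι := fun u v h =>
      Pi.mulSingle_injective (M := fun j => A j (e a j)) j (congrArg Subtype.val h)
    have hM : N.comap ι ≠ ⊥ := by
      intro h
      have hmem : z j ∈ N.comap ι := by
        rw [Subgroup.mem_comap]
        have : ι (z j) = (y : (⊤ : Subgroup (G a))) := by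
          refine Subtype.ext (funext fun k => ?_)
          change MonoidHom.mulSingle (fun j => A j (e a j)) j (z j) k = z k
          rcases eq_or_ne k j with rfl | hk
          · simp
          · simp [hsingle z j i hi k hk, hk]
        rw [this]
        exact y.2
      rw [h, Subgroup.mem_bot] at hmem
      exact hj hmem
    have hdN : p j (e a j) ^ d j (e a j) ∣ Nat.card N := by
      refine (hnorm j (e a j) _ inferInstance hM).trans ?_
      rw [← Subgroup.card_map_of_injective hι]
      exact Subgroup.card_dvd_of_le (Subgroup.map_comap_le _ _)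
    obtain ⟨h, hh⟩ := helt j (e a j)
    have hdq : p j (e a j) ∣ Nat.card ((⊤ : Subgroup (G a)) ⧸ N) := hh ▸ orderOf_dvd_natCard h
    have hmul : p j (e a j) ^ (d j (e a j) + 1) ∣ Nat.card (G a) := by
      have := Nat.mul_dvd_mul hdq hdN
      rw [← Subgroup.card_eq_card_quotient_mul_card_subgroup, Subgroup.card_top, ← pow_succ'] at this
      exact this
    rw [hsplit a j, pow_succ, mul_assoc, Nat.mul_dvd_mul_iff_left (pow_pos (hp _ _).pos _)] at hmul
    have := ((hp j (e a j)).dvd_mul.1 hmul).elim id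
      (fun h' => absurd ((hrest a j (e a j)).eq_one_of_dvd h') (hp _ _).ne_one)
    rw [Nat.prime_dvd_prime_iff_eq (hp _ _) (hp _ _)] at this
    exact hne2 _ (hinj _ _ _ _ this).2

end Cfsg.Agent.S3599
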