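import Cfsg.Statements.S3600
import Cfsg.Agent.Lib.FiveOrders.Affine
import Cfsg.Agent.S3488
import Cfsg.Agent.Lib.Classical.GL2

set_option autoImplicit false
set_option linter.all false
open Cfsg

namespace Cfsg.Agent.S3600

open Cfsg.Agent.Recognition Cfsg.Agent.Recognition.Extension Cfsg.Agent.Recognition.SL2Orders

theorem not_range_A5 : Set.range (orderOf : FiveOrders.A5.A → ℕ) ≠ ({1, 2, 3, 4, 5} : Set ℕ) := by
  intro e
  obtain ⟨g, hg⟩ := (Set.ext_iff.1 e 4).2 (by simp)
  have h := FiveOrders.Affine.pow_four_A g (hg ▸ pow_orderOf_eq_one g)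
  have := Nat.le_of_dvd two_pos (hg ▸ orderOf_dvd_of_pow_eq_one h)
  omega

theorem ord5_of_range {G : Type*} [Group G] [Finite G]
    (h : Set.range (orderOf : G → ℕ) = ({1, 2, 3, 4, 5} : Set ℕ)) : FiveOrders.Ord5 G := by
  intro g
  have : orderOf g ∈ ({1, 2, 3, 4, 5} : Set ℕ) := h ▸ ⟨g, rfl⟩
  simp only [Set.mem_insert_iff, Set.mem_singleton_iff] at this
  omega

theorem setOf_eq : ({1, 2, 3, 4, 5} : Set ℕ) = {k : ℕ | 1 ≤ k ∧ k ≤ 5} := by
  ext k
  simp only [Set.mem_insert_iff, Set.mem_singleton_iff, Set.mem_setOf_eq]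
  omega

/-- From the structure theorem: the projection onto `A₅`, or `A₆`. -/
theorem exists_proj {G : Type*} [Group G] [Finite G]
    (h : Set.range (orderOf : G → ℕ) = ({1, 2, 3, 4, 5} : Set ℕ)) :
    Nonempty (G ≃* alternatingGroup (Fin 6)) ∨
      ∃ π : G →* FiveOrders.A5.A, Function.Surjective π ∧ (∀ x ∈ π.ker, x * x = 1) ∧ π.ker ≠ ⊥ := by
  have h5 := ord5_of_range h
  have hd : ∀ k ∈ ({1, 2, 3, 4, 5} : Set ℕ), k ∣ Nat.card G := fun k hk => by
    obtain ⟨g, hg⟩ := h.superset hk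
    exact hg ▸ orderOf_dvd_natCard g
  have hns : ¬ Group.IsSolvable G := fun hs =>
    h5.not_all_dvd (hd 2 (by simp)) (hd 3 (by simp)) (hd 5 (by simp))
  rcases FiveOrders.Ord5.concl _ G rfl h5 hns with ⟨N, hN, hel, he⟩ | hB
  swap
  · exact Or.inl hB
  obtain ⟨e⟩ := he
  haveI := hN
  have hker : (e.toMonoidHom.comp (QuotientGroup.mk' N)).ker = N := by
    ext x
    rw [MonoidHom.mem_ker, ← QuotientGroup.eq_one_iff]
    exact e.map_eq_one_iff
  refine Or.inr ⟨e.toMonoidHom.comp (QuotientGroup.mk' N), e.surjective.comp (QuotientGroup.mk'_surjective N), fun x hx => ?_, fun hbot => ?_⟩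
  · rw [hker] at hx
    rw [← pow_two]; exact hel.2 x hx
  · rw [hker] at hbot
    subst hbot
    exact not_range_A5 ((range_orderOf_congr (QuotientGroup.quotientBot.symm.trans e)).symm.trans h)

/-- A finite group is critical with respect to a set Ω of natural numbers when its set of element orders is Ω while no proper section has Ω as its set of element orders. A finite group critical with respect to {1, 2, 3, 4, 5} (the set of element orders of the alternating group of degree 6) is isomorphic either to the alternating group of degree 6 or to the affine group F² ⋊ SL(2,F) over the field F with four elements (realised as the matrices of SL(3,F) with last row (0, 0, 1)). -/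
theorem result {G : Type*} [Group G] [Finite G]
    (hcrit : Set.range (orderOf : G → ℕ) = ({1, 2, 3, 4, 5} : Set ℕ) ∧
      ∀ (H : Subgroup G) (N : Subgroup ↥H) [N.Normal], (H ≠ ⊤ ∨ N ≠ ⊥) → Set.range (orderOf : (↥H ⧸ N) → ℕ) ≠ ({1, 2, 3, 4, 5} : Set ℕ)) :
    Nonempty (G ≃* alternatingGroup (Fin 6)) ∨
      ∃ (F : Type) (_ : Field F) (_ : Fintype F), Fintype.card F = 4 ∧
        Nonempty (G ≃* ↥(Subgroup.closure {M : Matrix.SpecialLinearGroup (Fin 3) F |
          (M : Matrix (Fin 3) (Fin 3) F) 2 0 = 0 ∧ (M : Matrix (Fin 3) (Fin 3) F) 2 1 = 0 ∧ (M : Matrix (Fin 3) (Fin 3) F) 2 2 = 1})) := by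
  classical
  obtain ⟨hrange, hsec⟩ := hcrit
  rcases exists_proj hrange with hB | ⟨π, hπ, hsq, hne⟩
  · exact Or.inl hB
  right
  obtain ⟨F, hFf, hFF, hF⟩ : ∃ (F : Type) (_ : Field F) (_ : Fintype F), Fintype.card F = 4 := by
    haveI : Fact (Nat.Prime 2) := ⟨Nat.prime_two⟩
    haveI : Fintype (GaloisField 2 2) := Fintype.ofFinite _
    exact ⟨GaloisField 2 2, inferInstance, inferInstance, by
      rw [← Nat.card_eq_fintype_card, GaloisField.card 2 2 two_ne_zero]; rfl⟩
  refine ⟨F, hFf, hFF, hF, ?_⟩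
  haveI := Fact.mk Nat.prime_two
  haveI : CharP F 2 := charP_of_card_eq_prime_pow (f := 2) (by rw [hF]; rfl)
  have he : Subgroup.closure {M : Matrix.SpecialLinearGroup (Fin 3) F |
      (M : Matrix (Fin 3) (Fin 3) F) 2 0 = 0 ∧ (M : Matrix (Fin 3) (Fin 3) F) 2 1 = 0 ∧
        (M : Matrix (Fin 3) (Fin 3) F) 2 2 = 1} = (S3488.affineHom (F := F)).range := by
    refine le_antisymm ((Subgroup.closure_le _).2 ?_) ?_
    · rintro M ⟨h0, h1, h2⟩
      have hd := M.2
      rw [Matrix.det_fin_three, h0, h1, h2] at hd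
      refine ⟨⟨Multiplicative.ofAdd ![M.1 0 2, M.1 1 2],
        ⟨!![M.1 0 0, M.1 0 1; M.1 1 0, M.1 1 1], by rw [Matrix.det_fin_two_of]; linear_combination hd⟩⟩, ?_⟩
      apply Subtype.ext
      show !![M.1 0 0, M.1 0 1, M.1 0 2; M.1 1 0, M.1 1 1, M.1 1 2; 0, 0, 1] = M.1
      ext i j
      fin_cases i <;> fin_cases j <;> simp [h0, h1, h2]
    · rintro _ ⟨x, rfl⟩
      exact Subgroup.subset_closure ⟨rfl, rfl, rfl⟩
  rw [he]
  set T := Multiplicative (Fin 2 → F) ⋊[natAut] Matrix.SpecialLinearGroup (Fin 2) F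
  have hT : Set.range (orderOf : T → ℕ) = ({1, 2, 3, 4, 5} : Set ℕ) := by
    rw [NaturalExtension.range_orderOf_single hF]; simp
  have hcT : Nat.card T = 960 := by
    rw [SemidirectProduct.card, Classical.GL2.natCard_SL_two, Nat.card_eq_fintype_card, Fintype.card_multiplicative,
      Fintype.card_fun, Fintype.card_fin, hF]
    norm_num
  rcases exists_proj hT with hB | ⟨π', hπ', hsq', hne'⟩
  · obtain ⟨e⟩ := hB
    rw [Nat.card_congr e.toEquiv, FiveOrders.card_B] at hcT
    norm_num at hcT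
  have hk' : Nat.card π'.ker ≤ 16 := by
    have h := Subgroup.card_mul_index π'.ker
    rw [Subgroup.index_ker, MonoidHom.range_eq_top.2 hπ', Subgroup.card_top, FiveOrders.A5.card_A, hcT] at h
    omega
  have hmin : ∀ M : Subgroup G, M.Normal → M ≤ π.ker → M ≠ ⊥ → M = π.ker := by
    intro M hMn hle hM1
    by_contra hne2
    haveI := hMn
    set N' : Subgroup ↥(⊤ : Subgroup G) := M.subgroupOf ⊤
    haveI : N'.Normal := Subgroup.normal_subgroupOf
    have hN'1 : N' ≠ ⊥ := fun e => hM1 (by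
      rw [← Subgroup.map_subgroupOf_eq_of_le (le_top : M ≤ ⊤)]
      show N'.map _ = ⊥
      rw [e, Subgroup.map_bot])
    refine hsec ⊤ N' (Or.inr hN'1) ?_
    let ρ : (↥(⊤ : Subgroup G) ⧸ N') →* FiveOrders.A5.A :=
      QuotientGroup.lift N' (π.comp (Subgroup.subtype ⊤)) fun x hx => MonoidHom.mem_ker.1 (hle hx)
    refine FiveOrders.Affine.full_spectrum (((ord5_of_range hrange).sub ⊤).quot N') ρ ?_ ?_ ?_
    · intro q
      obtain ⟨g, hg⟩ := hπ q
      exact ⟨QuotientGroup.mk ⟨g, Subgroup.mem_top g⟩, hg⟩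
    · rintro ⟨x, hx⟩
      induction x using QuotientGroup.induction_on with
      | _ x =>
        refine ⟨1, Subtype.ext ?_⟩
        show (QuotientGroup.mk x : ↥(⊤ : Subgroup G) ⧸ N') ^ (2 ^ 1) = 1
        rw [pow_one, pow_two, ← QuotientGroup.mk_mul,
          show x * x = 1 from Subtype.ext (hsq x (MonoidHom.mem_ker.2 hx)), QuotientGroup.mk_one]
    · intro hbot
      apply hne2
      refine le_antisymm hle fun g hg => ?_
      have h0 := (Subgroup.eq_bot_iff_forall _).1 hbot (QuotientGroup.mk (⟨g, Subgroup.mem_top g⟩ : (⊤ : Subgroup G)))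
        (MonoidHom.mem_ker.2 hg)
      exact Subgroup.mem_subgroupOf.1 ((QuotientGroup.eq_one_iff _).1 h0)
  obtain ⟨e⟩ := FiveOrders.Affine.iso_minimal (ord5_of_range hrange) (ord5_of_range hT) π π' hπ hπ' hsq hsq' hne hne'
    (Or.inl hmin) (Or.inr hk')
  exact ⟨e.trans (MonoidHom.ofInjective S3488.affineHom_injective)⟩

end Cfsg.Agent.S3600
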