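import Cfsg.Statements.S3611
import Cfsg.Agent.Lib.Perm.HalfNormalizer.Orbits
-- import your own Cfsg.Agent.* helpers here

set_option autoImplicit false
open Cfsg

namespace Cfsg.Agent.S3611

/-- Let G be an insoluble group acting faithfully and transitively on a finite set of prime size p, and suppose the normalizer of a Sylow p-subgroup of G has order p(p-1)/2. If p ≡ 3 (mod 4), then G is triply transitive, or for any two distinct points the stabilizer of both has exactly four orbits on the set (the two fixed points and exactly two orbits on the remaining p - 2 points). -/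
theorem result {G Ω : Type*} [Group G] [Finite G] [MulAction G Ω] [FaithfulSMul G Ω] [Finite Ω]
    (p : ℕ) (hp : p.Prime) (hΩ : Nat.card Ω = p) (htrans : MulAction.IsPretransitive G Ω)
    (hins : ¬ Group.IsSolvable G) (P : Sylow p G)
    (hN : 2 * Nat.card ↥(Subgroup.normalizer ((P : Subgroup G) : Set G)) = p * (p - 1))
    (hp3 : p % 4 = 3) :
    MulAction.IsMultiplyPretransitive G Ω 3 ∨
    ∀ α β : Ω, α ≠ β →
      Nat.card (MulAction.orbitRel.Quotient ↥(MulAction.stabilizer G α ⊓ MulAction.stabilizer G β) Ω) = 4 := by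
  classical
  haveI := Fact.mk hp
  haveI := Fintype.ofFinite Ω
  obtain ⟨C⟩ := Agent.Perm.HalfNormalizer.exists_coord hp hΩ htrans hins P hN
  by_cases h3 : MulAction.IsMultiplyPretransitive G Ω 3
  · exact Or.inl h3
  refine Or.inr fun α β hαβ => ?_
  let K := MulAction.stabilizer G α ⊓ MulAction.stabilizer G β
  have hone : (∃ c₁, (c₁ ≠ α ∧ c₁ ≠ β) ∧ ∀ x, x ≠ α → x ≠ β → ∃ g ∈ K, g • c₁ = x) → False := by
    rintro ⟨c₁, hc₁, hall⟩
    refine h3 ⟨fun d d' => ?_⟩
    have hne : ∀ (d : Fin 3 ↪ Ω) i j, i ≠ j → d i ≠ d j := fun d i j hij hh => hij (d.injective hh)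
    have mv : ∀ d : Fin 3 ↪ Ω, ∃ g : G, g • α = d 0 ∧ g • β = d 1 ∧ g • c₁ = d 2 := by
      intro d
      obtain ⟨g, g0, g1⟩ := C.two α β (d 0) (d 1) hαβ (hne d 0 1 (by decide))
      obtain ⟨k, hk, hkc⟩ := hall (g⁻¹ • d 2)
        (fun h => hne d 2 0 (by decide) (by rw [← g0, ← h, smul_inv_smul]))
        (fun h => hne d 2 1 (by decide) (by rw [← g1, ← h, smul_inv_smul]))
      exact ⟨g * k, by rw [mul_smul, MulAction.mem_stabilizer_iff.1 hk.1, g0],
        by rw [mul_smul, MulAction.mem_stabilizer_iff.1 hk.2, g1],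
        by rw [mul_smul, hkc, smul_inv_smul]⟩
    obtain ⟨g, g0, g1, g2⟩ := mv d
    obtain ⟨g', g0', g1', g2'⟩ := mv d'
    refine ⟨g' * g⁻¹, Function.Embedding.ext fun i => ?_⟩
    show (g' * g⁻¹) • d i = d' i
    fin_cases i
    · show (g' * g⁻¹) • d 0 = d' 0
      rw [mul_smul, ← g0, inv_smul_smul, g0']
    · show (g' * g⁻¹) • d 1 = d' 1
      rw [mul_smul, ← g1, inv_smul_smul, g1']
    · show (g' * g⁻¹) • d 2 = d' 2
      rw [mul_smul, ← g2, inv_smul_smul, g2']
  obtain ⟨c₁, hc₁⟩ : ∃ c, c ≠ α ∧ c ≠ β := by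
    by_contra hh
    push Not at hh
    have hp3 : 3 ≤ p := by have := hp.two_le; have := C.odd; omega
    have h' : (Finset.univ : Finset Ω) ⊆ {α, β} := fun c _ => by
      by_cases hca : c = α
      · simp [hca]
      · simp [hh c hca]
    have := (Finset.card_le_card h').trans Finset.card_le_two
    rw [Finset.card_univ, ← Nat.card_eq_fintype_card, hΩ] at this
    omega
  obtain ⟨c₂, hc₂, hn⟩ : ∃ c, (c ≠ α ∧ c ≠ β) ∧ ∀ g ∈ K, g • c₁ ≠ c := by
    by_contra hh
    push Not at hh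
    exact hone ⟨c₁, hc₁, fun x hxa hxb => hh x ⟨hxa, hxb⟩⟩
  let f : Fin 4 → MulAction.orbitRel.Quotient K Ω := fun i => Quotient.mk'' (![α, β, c₁, c₂] i)
  have hrel : ∀ x y : Ω, (Quotient.mk'' x : MulAction.orbitRel.Quotient K Ω) = Quotient.mk'' y ↔
      ∃ g ∈ K, g • y = x := by
    intro x y
    rw [Quotient.eq'']
    exact ⟨fun ⟨g, hg⟩ => ⟨g, g.2, hg⟩, fun ⟨g, hg, h⟩ => ⟨⟨g, hg⟩, h⟩⟩
  have hfa : ∀ g ∈ K, g • α = α := fun g hg => hg.1
  have hfb : ∀ g ∈ K, g • β = β := fun g hg => hg.2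
  have hbij : Function.Bijective f := by
    constructor
    · intro i j hij
      obtain ⟨g, hg, hgx⟩ := (hrel _ _).1 hij
      have ha := hfa g hg
      have hb := hfb g hg
      have inj := MulAction.injective g (α := G) (β := Ω)
      fin_cases i <;> fin_cases j <;> first
        | rfl
        | exact absurd (ha.symm.trans hgx) hαβ
        | exact absurd (hgx.symm.trans ha) hαβ.symm
        | exact absurd (inj (hgx.trans ha.symm)) hc₁.1
        | exact absurd (inj (hgx.trans hb.symm)) hc₁.2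
        | exact absurd (inj (hgx.trans ha.symm)) hc₂.1
        | exact absurd (inj (hgx.trans hb.symm)) hc₂.2
        | exact absurd (inj (hgx.trans hb.symm)) hαβ
        | exact absurd (inj (hgx.trans ha.symm)) hαβ.symm
        | exact absurd (ha.symm.trans hgx) hc₁.1.symm
        | exact absurd (ha.symm.trans hgx) hc₂.1.symm
        | exact absurd (hb.symm.trans hgx) hc₁.2.symm
        | exact absurd (hb.symm.trans hgx) hc₂.2.symm
        | exact absurd hgx (hn g hg)
        | exact absurd (inv_smul_eq_iff.2 hgx.symm) (hn g⁻¹ (K.inv_mem hg))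
    · rintro ⟨x⟩
      by_cases hxa : x = α
      · exact ⟨0, by rw [hxa]; rfl⟩
      by_cases hxb : x = β
      · exact ⟨1, by rw [hxb]; rfl⟩
      rcases C.at_most_two hαβ c₁ c₂ x hc₁ hc₂ ⟨hxa, hxb⟩ with
        ⟨g, ga, gb, gc⟩ | ⟨g, ga, gb, gc⟩ | ⟨g, ga, gb, gc⟩
      · exact absurd gc (hn g ⟨ga, gb⟩)
      · exact ⟨2, ((hrel _ _).2 ⟨g, ⟨ga, gb⟩, gc⟩).symm⟩
      · exact ⟨3, ((hrel _ _).2 ⟨g, ⟨ga, gb⟩, gc⟩).symm⟩
  exact (Nat.card_eq_of_bijective f hbij).symm.trans (Nat.card_fin 4)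

end Cfsg.Agent.S3611
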