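import Cfsg.Statements.S3614
import Cfsg.Agent.Lib.Perm.PrimeTwins.Five
import Cfsg.Agent.Lib.Perm.PrimeTwins.Image
import Cfsg.Agent.Lib.Perm.PrimeTwins.Miller

set_option autoImplicit false
open Cfsg

namespace Cfsg.Agent.S3614

/-- Let G be an insoluble group acting faithfully and transitively on a finite set of prime size p, and suppose the normalizer of a Sylow p-subgroup of G has order p(p-1)/2. If p = q + 2 = 2r + 3 > 9 or p = q + 2 = 3r + 4 > 13 with q and r prime, then G is isomorphic to the alternating group of degree p. -/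
theorem result {G Ω : Type*} [Group G] [Finite G] [MulAction G Ω] [FaithfulSMul G Ω] [Finite Ω]
    (p : ℕ) (hp : p.Prime) (hΩ : Nat.card Ω = p) (htrans : MulAction.IsPretransitive G Ω)
    (hins : ¬ Group.IsSolvable G) (P : Sylow p G)
    (hN : 2 * Nat.card ↥(Subgroup.normalizer ((P : Subgroup G) : Set G)) = p * (p - 1))
    (q r : ℕ) (hq : q.Prime) (hr : r.Prime)
    (hcases : (p = q + 2 ∧ p = 2 * r + 3 ∧ 9 < p) ∨ (p = q + 2 ∧ p = 3 * r + 4 ∧ 13 < p)) :
    Nonempty (G ≃* alternatingGroup (Fin p)) := by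
  classical
  haveI := Fact.mk hp
  haveI := Fintype.ofFinite Ω
  obtain ⟨H, e, P', he, hHt, hHins, hHN⟩ := Agent.Perm.PrimeTwins.exists_image htrans hins P hN
  haveI := hHt
  have hαc : Fintype.card Ω = p := by rw [← Nat.card_eq_fintype_card, hΩ]
  have hr2 := hr.two_le
  have hr4 : r ≠ 4 := fun h => absurd (h ▸ hr) (by norm_num)
  have h5 := Agent.Perm.PrimeTwins.five_transitive hΩ hHins P' hHN hq
    (by rcases hcases with ⟨h1, h2, h3⟩ | ⟨h1, h2, h3⟩ <;> omega)
    (by rcases hcases with ⟨h1, -, -⟩ | ⟨h1, -, -⟩ <;> exact h1)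
  have hle : alternatingGroup Ω ≤ H := by
    rcases hcases with ⟨h1, h2, h3⟩ | ⟨h1, h2, h3⟩
    · exact Agent.Perm.PrimeTwins.alternating_le_two h5 hr (by omega) (by omega)
    · exact Agent.Perm.PrimeTwins.alternating_le_three h5 hr (by omega) (by omega)
  have hne := Agent.Perm.PrimeTwins.ne_top hΩ
    (by rcases hcases with ⟨-, -, h3⟩ | ⟨-, -, h3⟩ <;> omega) P' hHN
  have hH : H = alternatingGroup Ω := by
    refine le_antisymm (fun σ hσ => ?_) hle
    by_contra hodd
    refine hne ((Subgroup.eq_top_iff' H).2 fun τ => ?_)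
    rw [Equiv.Perm.mem_alternatingGroup] at hodd
    have hs : Equiv.Perm.sign σ = -1 := (Int.units_eq_one_or _).resolve_left hodd
    rcases Int.units_eq_one_or (Equiv.Perm.sign τ) with hτ | hτ
    · exact hle (Equiv.Perm.mem_alternatingGroup.2 hτ)
    · have hmem : τ * σ ∈ H :=
        hle (Equiv.Perm.mem_alternatingGroup.2 (by rw [map_mul, hτ, hs]; rfl))
      simpa using H.mul_mem hmem (H.inv_mem hσ)
  exact ⟨e.trans ((MulEquiv.subgroupCongr hH).trans
    (Fintype.equivFinOfCardEq hαc).altCongrHom)⟩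

end Cfsg.Agent.S3614
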