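import Cfsg.Statements.S3619


set_option autoImplicit false
open Cfsg
open scoped Pointwise

namespace Cfsg.Agent.S3619

/-- Let G act faithfully on a finite set in such a way that every non-trivial normal subgroup of G is transitive (G is quasiprimitive). Let Γ be a subset with more than one point and not the whole set, such that the pointwise stabilizer of the complement of Γ acts transitively on Γ (a Jordan set). If that pointwise stabilizer acts primitively on Γ, then G is k-fold transitive where k is one more than the number of points outside Γ (the Jordan set is a trivial one). -/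
theorem result {G Ω : Type*} [Group G] [Finite G] [MulAction G Ω] [FaithfulSMul G Ω] [Finite Ω]
    (hqp : ∀ N : Subgroup G, N.Normal → N ≠ ⊥ → MulAction.IsPretransitive ↥N Ω)
    (Γ : Set Ω) (hΓ1 : 1 < Γ.ncard) (hΓ2 : Γ.ncard < Nat.card Ω)
    (hJ : MulAction.IsPretransitive ↥(fixingSubgroup G Γᶜ) ↥(SubMulAction.ofFixingSubgroup G Γᶜ))
    (hJp : MulAction.IsPreprimitive ↥(fixingSubgroup G Γᶜ) ↥(SubMulAction.ofFixingSubgroup G Γᶜ)) :
    MulAction.IsMultiplyPretransitive G Ω (Nat.card Ω - Γ.ncard + 1) := by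
  classical
  set J := fixingSubgroup G Γᶜ with hJdef
  obtain ⟨u, hu, v, hv, huv⟩ := (Set.one_lt_ncard (Set.toFinite _)).1 hΓ1
  have hmove : ∀ x ∈ Γ, ∀ y ∈ Γ, ∃ j : J, (j : G) • x = y := fun x hx y hy => by
    obtain ⟨j, hj⟩ := hJ.exists_smul_eq ⟨x, not_not.2 hx⟩ ⟨y, not_not.2 hy⟩
    exact ⟨j, congrArg Subtype.val hj⟩
  have hfix : ∀ (j : J) (z : Ω), z ∉ Γ → (j : G) • z = z := fun j z hz => (mem_fixingSubgroup_iff G).1 j.2 z hz
  have hJne : J ≠ ⊥ := by
    intro e
    obtain ⟨j, hj⟩ := hmove u hu v hv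
    rw [(Subgroup.eq_bot_iff_forall _).1 e j j.2, one_smul] at hj
    exact huv hj
  have htop : (⊤ : Subgroup G) ≠ ⊥ := fun e => hJne (eq_bot_iff.2 (le_trans le_top e.le))
  haveI : MulAction.IsPretransitive G Ω := ⟨fun a b => by
    obtain ⟨g, hg⟩ := (hqp ⊤ inferInstance htop).exists_smul_eq a b
    exact ⟨g, hg⟩⟩
  have hprim : MulAction.IsPreprimitive G Ω := by
    refine MulAction.IsPreprimitive.of_isTrivialBlock_base u fun {B} huB hB => ?_
    by_contra hnt
    rw [MulAction.IsTrivialBlock, not_or, Set.not_subsingleton_iff] at hnt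
    obtain ⟨hB2, hBu⟩ := hnt
    have hblocks : ∀ g : G, (∃ x ∈ Γ, x ∈ g • B) → Γ ⊆ g • B := by
      rintro g ⟨x, hx, hxB⟩
      let f : ↥(SubMulAction.ofFixingSubgroup G Γᶜ) →ₑ[J.subtype] Ω := ⟨Subtype.val, fun _ _ => rfl⟩
      have hblk : MulAction.IsBlock ↥J (f ⁻¹' (g • B)) := (hB.translate g).preimage f
      rcases hJp.isTrivialBlock_of_isBlock hblk with hs | hs
      · exfalso
        obtain ⟨p₀, hp₀, q₀, hq₀, hpq₀⟩ := hB2
        obtain ⟨p, hp, q, hq, hpq⟩ : ∃ p ∈ g • B, ∃ q ∈ g • B, p ≠ q :=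
          ⟨_, Set.smul_mem_smul_set hp₀, _, Set.smul_mem_smul_set hq₀, fun e => hpq₀ (smul_left_cancel g e)⟩
        obtain ⟨z, hzB, hzx⟩ : ∃ z ∈ g • B, z ≠ x := by
          by_cases h : p = x
          · exact ⟨q, hq, fun e => hpq (h.trans e.symm)⟩
          · exact ⟨p, hp, h⟩
        have hzΓ : z ∉ Γ := fun hz =>
          hzx (congrArg Subtype.val (hs (x := ⟨z, not_not.2 hz⟩) hzB (y := ⟨x, not_not.2 hx⟩) hxB))
        obtain ⟨y, hy, hyx⟩ : ∃ y ∈ Γ, y ≠ x := by
          by_cases h : u = x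
          · exact ⟨v, hv, fun e => huv (h.trans e.symm)⟩
          · exact ⟨u, hu, h⟩
        obtain ⟨j, hj⟩ := hmove x hx y hy
        have hjB : (j : G) • (g • B) = g • B := (hB.translate g).smul_eq_of_mem (a := z) hzB (by rw [hfix j z hzΓ]; exact hzB)
        have hyB : y ∈ g • B := hjB ▸ hj ▸ Set.smul_mem_smul_set hxB
        exact hyx (congrArg Subtype.val (hs (x := ⟨y, not_not.2 hy⟩) hyB (y := ⟨x, not_not.2 hx⟩) hxB))
      · intro y hy
        exact (Set.eq_univ_iff_forall.1 hs ⟨y, not_not.2 hy⟩ : _)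
    let K : Subgroup G :=
      { carrier := {k | ∀ g : G, k • (g • B) = g • B}
        one_mem' := fun g => one_smul _ _
        mul_mem' := fun {a b} ha hb g => by rw [mul_smul, hb g, ha g]
        inv_mem' := fun {a} ha g => inv_smul_eq_iff.2 (ha g).symm }
    haveI : K.Normal := ⟨fun k hk c g => by
      have := hk (c⁻¹ * g)
      rw [mul_smul, mul_smul, ← mul_smul c⁻¹ g, this, ← mul_smul, mul_inv_cancel_left]⟩
    have hJK : J ≤ K := by
      intro j hj g
      by_cases hmeet : ∃ x ∈ Γ, x ∈ g • B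
      · obtain ⟨x, hx, hxB⟩ := hmeet
        refine (hB.translate g).smul_eq_of_mem (a := x) hxB (hblocks g ⟨x, hx, hxB⟩ ?_)
        by_contra hn
        have e := hfix ⟨j, hj⟩ _ hn
        exact hn (by rwa [smul_left_cancel j (e : j • (j • x) = j • x)])
      · push_neg at hmeet
        obtain ⟨w, hw⟩ : ∃ w, w ∈ g • B := ⟨g • u, Set.smul_mem_smul_set huB⟩
        exact (hB.translate g).smul_eq_of_mem (a := w) hw
          (by rw [hfix ⟨j, hj⟩ w (fun h => hmeet w h hw)]; exact hw)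
    have hK := hqp K inferInstance (fun e => hJne (eq_bot_iff.2 (e ▸ hJK)))
    refine hBu (Set.eq_univ_iff_forall.2 fun w => ?_)
    obtain ⟨⟨k, hk⟩, hkw⟩ := hK.exists_smul_eq u w
    have h' := hk 1
    rw [one_smul] at h'
    exact h' ▸ (hkw ▸ Set.smul_mem_smul_set huB : w ∈ k • B)
  have hn : Γᶜ.ncard = Nat.card Ω - Γ.ncard := Set.ncard_compl Γ
  have h := (hprim.isMultiplyPreprimitive (s := Γᶜ) (n := Γᶜ.ncard - 1) (by omega) (by omega) hJp).isMultiplyPretransitive
  rwa [show Γᶜ.ncard - 1 + 2 = Nat.card Ω - Γ.ncard + 1 by omega] at h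

end Cfsg.Agent.S3619
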