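import Cfsg.Statements.S3620
import Cfsg.Agent.Lib.Perm.JordanSetSmall

set_option autoImplicit false
open Cfsg

namespace Cfsg.Agent.S3620

/-- Let G act faithfully on a finite set in such a way that every non-trivial normal subgroup of G is transitive (G is quasiprimitive). Let Γ be a subset with more than one point and fewer than half of the points, such that the pointwise stabilizer of the complement of Γ acts transitively on Γ. Then G induces every even permutation of the set (G is the alternating or the symmetric group). -/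
theorem result {G Ω : Type*} [Group G] [Finite G] [MulAction G Ω] [FaithfulSMul G Ω] [Fintype Ω] [DecidableEq Ω]
    (hqp : ∀ N : Subgroup G, N.Normal → N ≠ ⊥ → MulAction.IsPretransitive ↥N Ω)
    (Γ : Set Ω) (hΓ1 : 1 < Γ.ncard) (hΓ2 : 2 * Γ.ncard < Fintype.card Ω)
    (hJ : MulAction.IsPretransitive ↥(fixingSubgroup G Γᶜ) ↥(SubMulAction.ofFixingSubgroup G Γᶜ)) :
    ∀ σ : Equiv.Perm Ω, Equiv.Perm.sign σ = 1 → ∃ x : G, (MulAction.toPerm x : Equiv.Perm Ω) = σ := by
  classical
  let φ := MulAction.toPermHom G Ω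
  have hφ : ∀ (x : G) (a : Ω), φ x a = x • a := fun x a => rfl
  have hqp' : ∀ N : Subgroup φ.range, N.Normal → N ≠ ⊥ → MulAction.IsPretransitive N Ω := by
    intro N hN hne
    have hne' : N.comap φ.rangeRestrict ≠ ⊥ := fun h => hne (by
      rw [← Subgroup.map_comap_eq_self_of_surjective φ.rangeRestrict_surjective N, h,
        Subgroup.map_bot])
    haveI := hqp _ (hN.comap φ.rangeRestrict) hne'
    refine ⟨fun a b => ?_⟩
    obtain ⟨⟨k, hk⟩, hka⟩ := MulAction.exists_smul_eq (N.comap φ.rangeRestrict) a b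
    exact ⟨⟨φ.rangeRestrict k, hk⟩, hka⟩
  have htr : ∀ x ∈ Γ, ∀ y ∈ Γ, ∃ g : φ.range, (∀ z ∉ Γ, g • z = z) ∧ g • x = y := by
    intro x hx y hy
    haveI := hJ
    obtain ⟨⟨k, hk⟩, hkxy⟩ := MulAction.exists_smul_eq ↥(fixingSubgroup G Γᶜ)
      (⟨x, fun h => h hx⟩ : ↥(SubMulAction.ofFixingSubgroup G Γᶜ))
      (⟨y, fun h => h hy⟩ : ↥(SubMulAction.ofFixingSubgroup G Γᶜ))
    refine ⟨⟨φ k, k, rfl⟩, fun z hz => (mem_fixingSubgroup_iff G).1 hk z hz, ?_⟩
    exact congrArg Subtype.val hkxy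
  have hA := Cfsg.Agent.Perm.JordanSet.le_of_quasiprimitive _ hqp' Γ rfl hΓ1 hΓ2 htr
  intro σ hσ
  obtain ⟨x, hx⟩ := hA (Equiv.Perm.mem_alternatingGroup.2 hσ)
  exact ⟨x, hx⟩

end Cfsg.Agent.S3620
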