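import Cfsg.Statements.S3626
import Cfsg.Agent.ReeSpec.Aff
import Cfsg.Agent.S3444
import Cfsg.Agent.Lib.Ree.Orders
-- import your own Cfsg.Agent.* helpers here

set_option autoImplicit false
open Cfsg

namespace Cfsg.Agent.S3626

open scoped MatrixGroups

/-- divisors of element orders are element orders -/
theorem mem_range_of_dvd {G : Type*} [Group G] [Finite G] {g : G} {d : ℕ} (h : d ∣ orderOf g) :
    d ∈ Set.range (orderOf : G → ℕ) :=
  ⟨g ^ (orderOf g / d), orderOf_pow_orderOf_div (orderOf_pos g).ne' h⟩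

/-- in a conjugate of a cyclic subgroup two orders combine -/
theorem exists_lcm {G : Type*} [Group G] [Finite G] (T : Subgroup G) [IsCyclic T] {a b k l : G}
    (ha : k⁻¹ * a * k ∈ T) (hb : l⁻¹ * b * l ∈ T) :
    ∃ c : G, orderOf c = Nat.lcm (orderOf a) (orderOf b) := by
  obtain ⟨⟨t, ht⟩, hgen⟩ := IsCyclic.exists_generator (α := T)
  have ho : orderOf t = Nat.card T := by
    rw [← orderOf_eq_card_of_forall_mem_zpowers hgen, Subgroup.orderOf_mk]
  have hdvd : ∀ {a k : G}, k⁻¹ * a * k ∈ T → orderOf a ∣ orderOf t := by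
    intro a k h
    have e : orderOf (k⁻¹ * a * k) = orderOf a := by
      rw [← orderOf_injective (MulAut.conj k⁻¹).toMonoidHom (MulAut.conj k⁻¹).injective a]
      simp
    rw [ho, ← e]
    exact Subgroup.orderOf_dvd_natCard _ h
  exact mem_range_of_dvd (Nat.lcm_dvd (hdvd ha) (hdvd hb))

open Cfsg.Lie Cfsg.Agent.Ree Cfsg.Agent.Chevalley.Twist.G2 in
/-- the element orders of a small Ree group against those of the affine group -/
theorem ree_facts {K : Type*} [Field K] [Fintype K] {m : ℕ} (hm : 1 ≤ m)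
    (hK : Fintype.card K = 3 ^ (2 * m + 1)) :
    ∃ S : Set ℕ, (∀ N : ℕ, ∃ (A : Type) (_ : Group A) (_ : Fintype A), N < Fintype.card A ∧
        Set.range (orderOf : A → ℕ) = S) ∧ 1 ∈ S ∧
      S ⊆ Set.range (orderOf : ↥(twistedG2 K (3 ^ m)) → ℕ) ∧
      ∀ a b c : ↥(twistedG2 K (3 ^ m)), orderOf a ∈ S ∨ orderOf b ∈ S ∨ orderOf c ∈ S ∨
        (∃ d : ↥(twistedG2 K (3 ^ m)), orderOf d = Nat.lcm (orderOf a) (orderOf b)) ∨
        (∃ d : ↥(twistedG2 K (3 ^ m)), orderOf d = Nat.lcm (orderOf a) (orderOf c)) ∨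
        (∃ d : ↥(twistedG2 K (3 ^ m)), orderOf d = Nat.lcm (orderOf b) (orderOf c)) := by
  haveI := charThree hK
  haveI : Fact (Nat.Prime 3) := ⟨Nat.prime_three⟩
  obtain ⟨X⟩ := exists_setup hK
  obtain ⟨Φ, hΦ⟩ := exists_embed X
  classical
  obtain ⟨h8, h3, h27⟩ := ReeSpec2515.arith (2 * m + 1) (by omega) ⟨m, rfl⟩ hK
  refine ⟨Set.range (orderOf : ReeSpec2515.aff K → ℕ), fun N => ?_, ⟨1, orderOf_one⟩, ?_, ?_⟩
  · let P : Subgroup (ReeSpec2515.aff K) :=
      { carrier := {σ | ∃ b, ∀ v, (σ : Equiv.Perm (Matrix (Fin 2) (Fin 2) K)) v = v + b}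
        one_mem' := ⟨0, fun v => by simp⟩
        mul_mem' := by
          rintro σ τ ⟨b, hb⟩ ⟨c, hc⟩
          exact ⟨c + b, fun v => by rw [Subgroup.coe_mul, Equiv.Perm.mul_apply, hc, hb, add_assoc]⟩
        inv_mem' := by
          rintro σ ⟨b, hb⟩
          refine ⟨-b, fun v => ?_⟩
          rw [Subgroup.coe_inv, Equiv.Perm.inv_def, Equiv.symm_apply_eq, hb, neg_add_cancel_right] }
    haveI : P.Normal := ⟨fun x hx g => by
      obtain ⟨b, hb⟩ := hx
      obtain ⟨e, Y, c, he, hg⟩ := g.2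
      refine ⟨ReeSpec2515.op e (Y : Matrix (Fin 2) (Fin 2) K) b, fun v => ?_⟩
      have h := Equiv.apply_symm_apply (g : Equiv.Perm (Matrix (Fin 2) (Fin 2) K)) v
      rw [hg] at h
      rw [Subgroup.coe_mul, Subgroup.coe_mul, Subgroup.coe_inv, Equiv.Perm.mul_apply,
        Equiv.Perm.mul_apply, hb, hg, map_add, Equiv.Perm.inv_def]
      conv_rhs => rw [← h]
      abel⟩
    have hP : P ≠ ⊥ := fun hbot => by
      obtain ⟨σ, hσ, hσv⟩ := ReeSpec2515.exists_mem (1 : K) (one_mul 1) 1 1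
      have hm : (⟨σ, hσ⟩ : ReeSpec2515.aff K) ∈ P := ⟨1, fun v => by simp [hσv, ReeSpec2515.op_one]⟩
      rw [hbot, Subgroup.mem_bot] at hm
      have h := congrArg (fun g : ReeSpec2515.aff K => (g : Equiv.Perm (Matrix (Fin 2) (Fin 2) K)) 0) hm
      simp [hσv] at h
    haveI : IsMulCommutative P := ⟨⟨fun a b => by
      obtain ⟨x, hx⟩ := a.2
      obtain ⟨y, hy⟩ := b.2
      refine Subtype.ext (Subtype.ext (Equiv.ext fun v => ?_))
      simp only [Subgroup.coe_mul, Equiv.Perm.mul_apply, hx, hy]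
      abel⟩⟩
    exact S3444.result P hP (Group.isSolvable_of_comm fun a b => mul_comm' a b) N
  · rintro _ ⟨σ, rfl⟩
    rw [← Subgroup.orderOf_coe]
    rcases ReeSpec2515.orderOf_dvd hK (hK ▸ h8) (hK ▸ h3) σ.2 with h | h | h | h
    · exact mem_range_of_dvd (h.trans (dvd_of_eq ((orderOf_negMap X (0, 1, 0)).2 one_ne_zero).symm))
    · exact mem_range_of_dvd (h.trans (dvd_of_eq ((orderOf_uu X (one_zero_ne X)).2 one_ne_zero).symm))
    · obtain ⟨y, hy⟩ := IsCyclic.exists_generator (α := Kˣ)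
      refine mem_range_of_dvd (g := torusHom X y) (h.trans (dvd_of_eq ?_))
      rw [orderOf_injective _ (torusHom_injective X), orderOf_eq_card_of_forall_mem_zpowers hy,
        Nat.card_units, Nat.card_eq_fintype_card, hK]
    · refine mem_range_of_dvd (g := t2gen X hΦ) (h.trans (dvd_of_eq ?_))
      have := orderOf_t2gen X hΦ
      rw [hK] at this
      omega
  · have hsort : ∀ g : ↥(twistedG2 K (3 ^ m)),
        orderOf g ∈ Set.range (orderOf : ReeSpec2515.aff K → ℕ) ∨ g ∈ sixSet K m := by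
      intro g
      obtain ⟨s₁, h₁, e₁⟩ := ReeSpec2515.exists_order_six (F := K)
      obtain ⟨s₂, h₂, e₂⟩ := ReeSpec2515.exists_order_nine (F := K)
      obtain ⟨s₃, h₃, e₃⟩ := ReeSpec2515.exists_order_pred rfl (hK ▸ h8 : Fintype.card K % 8 = 3)
      obtain ⟨s₄, h₄, e₄⟩ := ReeSpec2515.exists_order_half rfl (hK ▸ h8 : Fintype.card K % 8 = 3)
      have key : ∀ {s : Equiv.Perm (Matrix (Fin 2) (Fin 2) K)} (hs : s ∈ ReeSpec2515.aff K) {d : ℕ},
          d ∣ orderOf s → d ∈ Set.range (orderOf : ReeSpec2515.aff K → ℕ) := fun hs d hd =>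
        mem_range_of_dvd (g := (⟨_, hs⟩ : ReeSpec2515.aff K)) (by rwa [Subgroup.orderOf_mk])
      rcases sort_all X hΦ hm g with h | h | h | h | h | h | h | h
      · exact Or.inl (key h₁ (by rw [h, e₁]; norm_num))
      · exact Or.inl (key h₁ (by rw [h, e₁]; norm_num))
      · exact Or.inl (key h₁ (by rw [h, e₁]; norm_num))
      · exact Or.inl (key h₁ (by rw [h, e₁]))
      · exact Or.inl (key h₂ (by rw [h, e₂]))
      · exact Or.inl (key h₃ (e₃ ▸ (regH_order X hΦ h).1))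
      · exact Or.inl (key h₄ (e₄ ▸ (regT_order X hΦ h).1))
      · exact Or.inr h
    obtain ⟨Ta, Tb, ha, hb, -, -, -, -, hset⟩ := exists_tori X hΦ hm
    haveI := six_cyclic X hΦ hm ha
    haveI := six_cyclic X hΦ hm hb
    intro a b c
    rcases hsort a with h | h1
    · exact Or.inl h
    rcases hsort b with h | h2
    · exact Or.inr (Or.inl h)
    rcases hsort c with h | h3
    · exact Or.inr (Or.inr (Or.inl h))
    rw [hset] at h1 h2 h3
    right; right; right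
    rcases h1 with ⟨k, hk, -⟩ | ⟨k, hk, -⟩ <;> rcases h2 with ⟨l, hl, -⟩ | ⟨l, hl, -⟩
    · exact Or.inl (exists_lcm Ta hk hl)
    · rcases h3 with ⟨o, ho, -⟩ | ⟨o, ho, -⟩
      · exact Or.inr (Or.inl (exists_lcm Ta hk ho))
      · exact Or.inr (Or.inr (exists_lcm Tb hl ho))
    · rcases h3 with ⟨o, ho, -⟩ | ⟨o, ho, -⟩
      · exact Or.inr (Or.inr (exists_lcm Ta hl ho))
      · exact Or.inr (Or.inl (exists_lcm Tb hk ho))
    · exact Or.inl (exists_lcm Tb hk hl)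

/-- Let R be the small Ree group over the field with q = 3^(2m+1) ≥ 27 elements. Then there are finite groups of arbitrarily large order with exactly the same set of element orders as R × R × R. -/
theorem result {K : Type*} [Field K] [Fintype K] {m : ℕ} (hm : 1 ≤ m) (hK : Fintype.card K = 3 ^ (2 * m + 1)) (N : ℕ) :
    ∃ (H : Type) (_ : Group H) (_ : Fintype H), N < Fintype.card H ∧
      Set.range (orderOf : H → ℕ) = Set.range (orderOf : ↥(Cfsg.Lie.twistedG2 K (3 ^ m)) × ↥(Cfsg.Lie.twistedG2 K (3 ^ m)) × ↥(Cfsg.Lie.twistedG2 K (3 ^ m)) → ℕ) := by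
  obtain ⟨S, hbig, h1, hSR, htri⟩ := ree_facts hm hK
  obtain ⟨A, iA, fA, hN, hA⟩ := hbig N
  haveI : Finite ↥(Cfsg.Lie.twistedG2 K (3 ^ m)) := Finite.of_injective _ Subtype.val_injective
  refine Cfsg.Agent.Recognition.Extension.exists_large_spectrum N
    (G := ↥(Cfsg.Lie.twistedG2 K (3 ^ m)) × ↥(Cfsg.Lie.twistedG2 K (3 ^ m)) × A) ?_ ?_
  · rw [Nat.card_prod, Nat.card_prod, Nat.card_eq_fintype_card (α := A)]
    exact hN.trans_le ((Nat.le_mul_of_pos_left _ Nat.card_pos).trans (Nat.le_mul_of_pos_left _ Nat.card_pos))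
  have hA' : ∀ d ∈ S, ∃ x : A, orderOf x = d := fun d hd => by
    rw [← hA] at hd
    exact hd
  refine Set.Subset.antisymm ?_ ?_
  · rintro _ ⟨⟨a, b, x⟩, rfl⟩
    obtain ⟨c, hc⟩ := hSR (hA ▸ ⟨x, rfl⟩ : orderOf x ∈ S)
    exact ⟨⟨a, b, c⟩, by simp only [Prod.orderOf, hc]⟩
  · rintro _ ⟨⟨a, b, c⟩, rfl⟩
    rcases htri a b c with h | h | h | ⟨d, hd⟩ | ⟨d, hd⟩ | ⟨d, hd⟩
    · obtain ⟨x, hx⟩ := hA' _ h
      exact ⟨⟨b, c, x⟩, by simp only [Prod.orderOf, hx]; ac_rfl⟩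
    · obtain ⟨x, hx⟩ := hA' _ h
      exact ⟨⟨a, c, x⟩, by simp only [Prod.orderOf, hx]; ac_rfl⟩
    · obtain ⟨x, hx⟩ := hA' _ h
      exact ⟨⟨a, b, x⟩, by simp only [Prod.orderOf, hx]⟩
    · exact ⟨⟨d, c, 1⟩, by simp only [Prod.orderOf, hd, orderOf_one, Nat.lcm_one_right]; ac_rfl⟩
    · exact ⟨⟨d, b, 1⟩, by simp only [Prod.orderOf, hd, orderOf_one, Nat.lcm_one_right]; ac_rfl⟩
    · exact ⟨⟨d, a, 1⟩, by simp only [Prod.orderOf, hd, orderOf_one, Nat.lcm_one_right]; ac_rfl⟩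

end Cfsg.Agent.S3626
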