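import Cfsg.Statements.S3627
import Cfsg.Agent.Lib.J1.Spectrum
import Cfsg.Agent.Recognition.Extension

set_option autoImplicit false
open Cfsg

namespace Cfsg.Agent.S3627

open Cfsg.Agent.Recognition.Extension

/-- An element of order nineteen in `GL(3, 7)`. -/
def frobGen : GL (Fin 3) (ZMod 7) :=
  ⟨!![0, 0, 1; 1, 0, 0; 0, 1, 2], !![0, 0, 1; 1, 0, 0; 0, 1, 2] ^ 18, by decide +kernel, by decide +kernel⟩

theorem frobGen_fixed : ∀ v : Fin 3 → ZMod 7, frobGen.1.mulVec v = v → v = 0 := by decide +kernel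

theorem frobGen_pow : frobGen ^ 19 = 1 := by decide +kernel

theorem frobGen_ne : frobGen ≠ 1 := by decide +kernel

theorem one_ne_zero_mod_seven : (1 : ZMod 7) ≠ 0 := by decide

theorem orderOf_frobGen : orderOf frobGen = 19 := by
  haveI := Fact.mk (show Nat.Prime 19 by norm_num)
  exact orderOf_eq_prime frobGen_pow frobGen_ne

/-- The complement. -/
abbrev C19 : Subgroup (GL (Fin 3) (ZMod 7)) := Subgroup.zpowers frobGen

/-- The action. -/
noncomputable def natural : C19 →* MulAut (Multiplicative (Fin 3 → ZMod 7)) :=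
  glAut.comp C19.subtype

theorem orderOf_C19 (g : C19) (h : g ≠ 1) : orderOf g = 19 := by
  have hd : orderOf g ∣ 19 := by
    have := orderOf_dvd_natCard g
    rwa [Nat.card_zpowers, orderOf_frobGen] at this
  exact ((Nat.dvd_prime (by norm_num)).1 hd).resolve_left fun h1 => h (orderOf_eq_one_iff.1 h1)

theorem fpf_natural (g : C19) (h : g ≠ 1) : Fpf natural g := by
  set x : C19 := ⟨frobGen, Subgroup.mem_zpowers _⟩
  have hx : Fpf natural x := fpf_glAut C19.subtype x fun v hv => frobGen_fixed v hv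
  haveI := Fact.mk (show Nat.Prime 19 by norm_num)
  have hcard : Nat.card C19 = 19 := by rw [Nat.card_zpowers, orderOf_frobGen]
  have hm : x ∈ Subgroup.zpowers g := mem_zpowers_of_prime_card hcard h
  obtain ⟨j, hj⟩ := mem_powers_iff_mem_zpowers.2 hm
  exact Fpf.of_pow (n := j) (by rw [show g ^ j = x from hj]; exact hx)

/-- The large factor. -/
abbrev K (N : ℕ) := (Fin (N + 1) → Multiplicative (Fin 3 → ZMod 7)) ⋊[copies natural (N + 1)] C19

theorem orderOf_K (N : ℕ) (y : K N) : orderOf y = 1 ∨ orderOf y = 7 ∨ orderOf y = 19 := by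
  by_cases h : y.right = 1
  · have hd := orderOf_dvd_mul 7 (pow_eq_one_copies pow_char_eq_one (N + 1)) y
    rw [h, orderOf_one, one_mul] at hd
    rcases (Nat.dvd_prime (by norm_num)).1 hd with h' | h'
    · exact Or.inl h'
    · exact Or.inr (Or.inl h')
  · right; right
    rw [orderOf_of_fpf y ((fpf_natural _ h).copies (N + 1))]
    exact orderOf_C19 _ h

theorem exists_orderOf_K (N k : ℕ) (hk : k = 1 ∨ k = 7 ∨ k = 19) : ∃ y : K N, orderOf y = k := by
  rcases hk with rfl | rfl | rfl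
  · exact ⟨1, orderOf_one⟩
  · haveI := Fact.mk (show Nat.Prime 7 by norm_num)
    refine ⟨SemidirectProduct.inl fun _ => Multiplicative.ofAdd fun _ => (1 : ZMod 7), ?_⟩
    rw [orderOf_injective _ SemidirectProduct.inl_injective]
    refine orderOf_eq_prime (pow_eq_one_copies pow_char_eq_one (N + 1) _) fun h => ?_
    exact one_ne_zero_mod_seven (congrFun (congrArg Multiplicative.toAdd (congrFun h 0)) 0)
  · refine ⟨SemidirectProduct.inr ⟨frobGen, Subgroup.mem_zpowers _⟩, ?_⟩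
    rw [orderOf_inr, ← Subgroup.orderOf_coe]
    exact orderOf_frobGen

/-- The possible orders. -/
def orders : List ℕ := [1, 2, 3, 5, 6, 7, 10, 11, 15, 19]

/-- Every least common multiple of four orders, with four witnesses. -/
def table : List (ℕ × ℕ × ℕ × ℕ × ℕ) := [
  (1, 1, 1, 1, 1),
  (2, 1, 1, 2, 1),
  (3, 1, 1, 3, 1),
  (5, 1, 1, 5, 1),
  (6, 1, 1, 6, 1),
  (7, 1, 1, 1, 7),
  (10, 1, 1, 10, 1),
  (11, 1, 1, 11, 1),
  (14, 1, 1, 2, 7),
  (15, 1, 1, 15, 1),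
  (19, 1, 1, 1, 19),
  (21, 1, 1, 3, 7),
  (22, 1, 2, 11, 1),
  (30, 1, 2, 15, 1),
  (33, 1, 3, 11, 1),
  (35, 1, 1, 5, 7),
  (38, 1, 1, 2, 19),
  (42, 1, 1, 6, 7),
  (55, 1, 5, 11, 1),
  (57, 1, 1, 3, 19),
  (66, 1, 6, 11, 1),
  (70, 1, 1, 10, 7),
  (77, 1, 1, 11, 7),
  (95, 1, 1, 5, 19),
  (105, 1, 1, 15, 7),
  (110, 1, 10, 11, 1),
  (114, 1, 1, 6, 19),
  (133, 1, 1, 7, 19),
  (154, 1, 2, 11, 7),
  (165, 1, 11, 15, 1),
  (190, 1, 1, 10, 19),
  (209, 1, 1, 11, 19),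
  (210, 1, 2, 15, 7),
  (231, 1, 3, 11, 7),
  (266, 1, 2, 7, 19),
  (285, 1, 1, 15, 19),
  (330, 2, 11, 15, 1),
  (385, 1, 5, 11, 7),
  (399, 1, 3, 7, 19),
  (418, 1, 2, 11, 19),
  (462, 1, 6, 11, 7),
  (570, 1, 2, 15, 19),
  (627, 1, 3, 11, 19),
  (665, 1, 5, 7, 19),
  (770, 1, 10, 11, 7),
  (798, 1, 6, 7, 19),
  (1045, 1, 5, 11, 19),
  (1155, 1, 11, 15, 7),
  (1254, 1, 6, 11, 19),
  (1330, 1, 7, 10, 19),
  (1463, 1, 7, 11, 19),
  (1995, 1, 7, 15, 19),
  (2090, 1, 10, 11, 19),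
  (2310, 2, 11, 15, 7),
  (2926, 2, 7, 11, 19),
  (3135, 1, 11, 15, 19),
  (3990, 2, 7, 15, 19),
  (4389, 3, 7, 11, 19),
  (6270, 2, 11, 15, 19),
  (7315, 5, 7, 11, 19),
  (8778, 6, 7, 11, 19),
  (14630, 7, 10, 11, 19),
  (21945, 7, 11, 15, 19)]

/-- The table entries are sound. -/
def tableOk : Bool :=
  table.all fun t => Nat.lcm t.2.1 (Nat.lcm t.2.2.1 (Nat.lcm t.2.2.2.1 t.2.2.2.2)) == t.1 &&
    orders.elem t.2.1 && orders.elem t.2.2.1 && orders.elem t.2.2.2.1 && [1, 7, 19].elem t.2.2.2.2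

theorem tableOk_eq : tableOk = true := by decide +kernel

/-- The table is complete. -/
def completeOk : Bool :=
  orders.all fun a => orders.all fun b => orders.all fun c => orders.all fun d =>
    table.any fun t => t.1 == Nat.lcm a (Nat.lcm b (Nat.lcm c d))

theorem completeOk_eq : completeOk = true := by decide +kernel

theorem range_prod (N : ℕ) :
    Set.range (orderOf : Cfsg.Spor.J1 × Cfsg.Spor.J1 × Cfsg.Spor.J1 × K N → ℕ) =
      Set.range (orderOf : Cfsg.Spor.J1 × Cfsg.Spor.J1 × Cfsg.Spor.J1 × Cfsg.Spor.J1 → ℕ) := by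
  refine Set.Subset.antisymm ?_ ?_
  · rintro _ ⟨⟨a, b, c, k⟩, rfl⟩
    obtain ⟨j, hj⟩ : ∃ j : Cfsg.Spor.J1, orderOf j = orderOf k := by
      rcases orderOf_K N k with h | h | h
      · exact ⟨1, orderOf_one.trans h.symm⟩
      · obtain ⟨j, hj⟩ := Lib.J1.Spectrum.exists_orderOf 7 (by simp)
        exact ⟨j, hj.trans h.symm⟩
      · obtain ⟨j, hj⟩ := Lib.J1.Spectrum.exists_orderOf 19 (by simp)
        exact ⟨j, hj.trans h.symm⟩
    exact ⟨⟨a, b, c, j⟩, by simp only [Prod.orderOf, hj]⟩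
  · rintro _ ⟨⟨a, b, c, d⟩, rfl⟩
    have hmem : ∀ g : Cfsg.Spor.J1, orderOf g ∈ orders := fun g => by
      have := Lib.J1.Spectrum.orderOf_mem g
      simpa [orders] using this
    have h := completeOk_eq
    simp only [completeOk, List.all_eq_true, List.any_eq_true, beq_iff_eq] at h
    obtain ⟨t, ht, hl⟩ := h _ (hmem a) _ (hmem b) _ (hmem c) _ (hmem d)
    have h' := tableOk_eq
    simp only [tableOk, List.all_eq_true, Bool.and_eq_true, beq_iff_eq, List.elem_iff] at h'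
    obtain ⟨⟨⟨⟨h0, h1⟩, h2⟩, h3⟩, h4⟩ := h' t ht
    obtain ⟨x, hx⟩ := Lib.J1.Spectrum.exists_orderOf t.2.1 (by simpa [orders] using h1)
    obtain ⟨y, hy⟩ := Lib.J1.Spectrum.exists_orderOf t.2.2.1 (by simpa [orders] using h2)
    obtain ⟨z, hz⟩ := Lib.J1.Spectrum.exists_orderOf t.2.2.2.1 (by simpa [orders] using h3)
    obtain ⟨k, hk⟩ := exists_orderOf_K N t.2.2.2.2 (by simpa using h4)
    exact ⟨⟨x, y, z, k⟩, by simp only [Prod.orderOf, hx, hy, hz, hk, h0, hl]⟩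

/-- Let J be the first Janko group. Then there are finite groups of arbitrarily large order with exactly the same set of element orders as J × J × J × J. -/
theorem result (N : ℕ) : ∃ (H : Type) (_ : Group H) (_ : Fintype H), N < Fintype.card H ∧
      Set.range (orderOf : H → ℕ) = Set.range (orderOf : ↥Cfsg.Spor.J1 × ↥Cfsg.Spor.J1 × ↥Cfsg.Spor.J1 × ↥Cfsg.Spor.J1 → ℕ) := by
  haveI : Fact (Nat.Prime 7) := ⟨by norm_num⟩
  refine exists_large_spectrum N (G := Cfsg.Spor.J1 × Cfsg.Spor.J1 × Cfsg.Spor.J1 × K N) ?_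
    (range_prod N)
  have hK : N < Nat.card (K N) := (Nat.lt_succ_self N).trans (lt_card_copies _ _)
  rw [Nat.card_prod, Nat.card_prod, Nat.card_prod]
  refine hK.trans_le ?_
  calc Nat.card (K N) ≤ Nat.card Cfsg.Spor.J1 * Nat.card (K N) :=
        Nat.le_mul_of_pos_left _ Nat.card_pos
    _ ≤ Nat.card Cfsg.Spor.J1 * (Nat.card Cfsg.Spor.J1 * Nat.card (K N)) :=
        Nat.le_mul_of_pos_left _ Nat.card_pos
    _ ≤ _ := Nat.le_mul_of_pos_left _ Nat.card_pos

end Cfsg.Agent.S3627
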