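import Cfsg.Statements.S3639
import Cfsg.Agent.Recognition.SuzukiModule

set_option autoImplicit false
open Cfsg Cfsg.Agent.Recognition.Extension Cfsg.Agent.Recognition.SuzukiModule

namespace Cfsg.Agent.S3639

/-- Let S be the Suzuki group over the field with q = 2^(2m+1) ≥ 8 elements. Then there are finite groups of arbitrarily large order with the same prime graph as S. -/
theorem result {F : Type*} [Field F] [Fintype F] {m : ℕ} (hm : 1 ≤ m) (hF : Fintype.card F = 2 ^ (2 * m + 1)) (N : ℕ) :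
    ∃ (H : Type) (_ : Group H) (_ : Fintype H), N < Fintype.card H ∧ ((∀ r : ℕ, r.Prime → (r ∣ Nat.card ↥(Cfsg.Lie.Sz F (2 ^ (m + 1))) ↔ r ∣ Nat.card H)) ∧
      (∀ r s : ℕ, r.Prime → s.Prime → r ≠ s → ((∃ x : ↥(Cfsg.Lie.Sz F (2 ^ (m + 1))), orderOf x = r * s) ↔ (∃ y : H, orderOf y = r * s)))) := by
  classical
  haveI := Fact.mk Nat.prime_two
  haveI : CharP F 2 := charP_of_card_eq_prime_pow hF
  set S := Cfsg.Lie.Sz F (2 ^ (m + 1)) with hS
  have : Finite (GL (Fin 4) F) := inferInstance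
  -- the form matrix itself is an involution of the group
  let J : GL (Fin 4) F := ⟨formMat F, formMat F, formMat_mul_self, formMat_mul_self⟩
  have hJ : J ∈ S := by
    refine Subgroup.subset_closure ⟨?_, ?_⟩
    · intro u v
      simp [J, formMat, Cfsg.Lie.altForm4, Matrix.mulVec, dotProduct, Fin.sum_univ_succ]
      ring
    · have a0 : Cfsg.Lie.pairOf 0 = (0, 1) := rfl
      have a1 : Cfsg.Lie.pairOf 1 = (0, 2) := rfl
      have a2 : Cfsg.Lie.pairOf 2 = (1, 3) := rfl
      have a3 : Cfsg.Lie.pairOf 3 = (2, 3) := rfl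
      ext p r
      fin_cases p <;> fin_cases r <;>
        simp [J, formMat, Cfsg.Lie.star4, a0, a1, a2, a3, CharTwo.neg_eq]
  have hJ2 : orderOf (⟨J, hJ⟩ : S) = 2 := by
    refine orderOf_eq_prime ?_ ?_
    · apply Subtype.ext
      apply Units.ext
      show (formMat F) ^ 2 = 1
      rw [pow_two, formMat_mul_self]
    · intro h
      have h' := congrArg (fun x : S => (x : GL (Fin 4) F).1 0 0) h
      simp [J, formMat] at h'
  have h2S : 2 ∣ Nat.card S := hJ2.symm.dvd.trans (orderOf_dvd_natCard _)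
  let φ : S →* MulAut (Multiplicative (Fin 4 → F)) := glAut.comp S.subtype
  have hfpf : ∀ g : S, (orderOf g).Prime → orderOf g ≠ 2 → Fpf (copies φ N) g := by
    intro g hp h2
    refine (fpf_glAut S.subtype g fun v hv => ?_).copies N
    by_contra hne
    have h4 : g ^ 4 = 1 := Subtype.ext (pow_four_eq_one g.2 v hne hv)
    have h4' : orderOf g ∣ 2 ^ 2 := orderOf_dvd_iff_pow_eq_one.2 h4
    exact h2 ((Nat.prime_dvd_prime_iff_eq hp Nat.prime_two).1 (hp.dvd_of_dvd_pow h4'))
  obtain ⟨H, i1, i2, hN', h⟩ := exists_large_sameGraph N (lt_card_copies φ N)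
    (sameGraph_semidirect Nat.prime_two (pow_eq_one_copies (pow_char_eq_one (p := 2)) N) h2S hfpf)
  refine ⟨H, i1, i2, hN', ?_⟩
  exact h

end Cfsg.Agent.S3639
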