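import Cfsg.Statements.S3643
-- import your own Cfsg.Agent.* helpers here
import Cfsg.Agent.Lib.M12Order.Edges
import Cfsg.Agent.Lib.M12Order.Graph.Structure

set_option autoImplicit false
open Cfsg

namespace Cfsg.Agent.S3643

/-- Let G be a finite group of the same order as the Mathieu group M₁₂ whose character degree graph equals that of M₁₂ (same primes dividing some irreducible complex character degree, same pairs of distinct primes whose product divides some degree). Then G is isomorphic to M₁₂ or to the direct product of the alternating group of degree 4 with M₁₁. -/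
theorem result {G : Type*} [Group G] [Finite G] (hcard : Nat.card G = Nat.card ↥Cfsg.Spor.M12) (hΔ : Cfsg.degreePrimes G = Cfsg.degreePrimes ↥Cfsg.Spor.M12 ∧ Cfsg.degreeGraph G = Cfsg.degreeGraph ↥Cfsg.Spor.M12) :
    Nonempty (G ≃* ↥Cfsg.Spor.M12) ∨ Nonempty (G ≃* alternatingGroup (Fin 4) × ↥Cfsg.Spor.M11) := by
  classical
  have hM := M12Order.Mathieu.isM12_M12
  haveI := hM.1
  have hcard' : Nat.card G = 95040 := hcard.trans hM.2
  obtain ⟨F⟩ := M12Order.exists_frame (G := ↥Cfsg.Spor.M12) hM.2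
  obtain ⟨⟨χ₅, h₅⟩, χ₃, h₃⟩ := M12Order.exists_deg_edges hM.2 F
  have hv : 11 ∈ Cfsg.degreePrimes ↥Cfsg.Spor.M12 :=
    ⟨by norm_num, _, ⟨χ₅, rfl⟩, (dvd_mul_right 11 5).trans h₅⟩
  have e₅ : (Cfsg.degreeGraph ↥Cfsg.Spor.M12).Adj 5 11 :=
    ⟨by norm_num, by norm_num, by norm_num, _, ⟨χ₅, rfl⟩, (mul_comm 5 11).symm ▸ h₅⟩
  have e₃ : (Cfsg.degreeGraph ↥Cfsg.Spor.M12).Adj 3 11 :=
    ⟨by norm_num, by norm_num, by norm_num, _, ⟨χ₃, rfl⟩, (mul_comm 3 11).symm ▸ h₃⟩
  rw [← hΔ.1] at hv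
  rw [← hΔ.2] at e₅ e₃
  rcases M12Order.Graph.main hcard' hv e₅.2.2.2 e₃.2.2.2 with h | h
  · exact Or.inl (M12Order.Mathieu.equiv h hM)
  · exact Or.inr h

end Cfsg.Agent.S3643
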