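import Cfsg.Statements.S3648
import Cfsg.Agent.NsePGL.Counts
import Cfsg.Agent.NsePGL.Line

set_option autoImplicit false
open Cfsg

namespace Cfsg.Agent.S3648

/-- For a finite group X let nse(X) be the set of values of the function 'number of elements of order k' over the element orders k that occur. Let F be a finite field of odd order q > 3 and P = PGL(2, F) = GL(2, F) modulo its centre. If G is a finite group with the same order as P and nse(G) = nse(P), then G is isomorphic to P. -/
theorem result {F : Type*} [Field F] [Fintype F] (hodd : Odd (Fintype.card F)) (h3 : 3 < Fintype.card F)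
    {G : Type*} [Group G] [Finite G] (hcard : Nat.card G = Nat.card (GL (Fin 2) F ⧸ Subgroup.center (GL (Fin 2) F)))
    (hnse : {c : ℕ | 0 < c ∧ ∃ n : ℕ, c = Nat.card {g : G // orderOf g = n}} = {c : ℕ | 0 < c ∧ ∃ n : ℕ, c = Nat.card {g : (GL (Fin 2) F ⧸ Subgroup.center (GL (Fin 2) F)) // orderOf g = n}}) :
    Nonempty (G ≃* (GL (Fin 2) F ⧸ Subgroup.center (GL (Fin 2) F))) := by
  classical
  obtain ⟨p, hpc⟩ := CharP.exists F
  obtain ⟨n, hpr, hn⟩ := FiniteField.card F p
  haveI : Fact p.Prime := ⟨hpr⟩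
  have hp2 : p ≠ 2 := by
    rintro rfl
    exact Nat.not_even_iff_odd.2 hodd (hn ▸ (even_two.pow_of_ne_zero n.pos.ne'))
  haveI : Finite (GL (Fin 2) F ⧸ Subgroup.center (GL (Fin 2) F)) := inferInstance
  have hcardG : Nat.card G = Fintype.card F * (Fintype.card F ^ 2 - 1) := by
    have h1 := (Subgroup.center (GL (Fin 2) F)).index_mul_card
    rw [Subgroup.index_eq_card, NsePGL.Counts.card_center, Matrix.card_GL_field, ← hcard,
      Fin.prod_univ_two, Fin.val_zero, Fin.val_one, pow_zero, pow_one] at h1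
    obtain ⟨j, hj⟩ : ∃ j, Fintype.card F = j + 1 := ⟨Fintype.card F - 1, by omega⟩
    rw [hj] at h1 ⊢
    have e1 : (j + 1) ^ 2 - (j + 1) = (j + 1) * j := by
      rw [show (j + 1) ^ 2 = (j + 1) * j + (j + 1) by ring, Nat.add_sub_cancel]
    rw [e1, Nat.add_sub_cancel] at h1
    refine Nat.eq_of_mul_eq_mul_right (show 0 < j by omega) (h1.trans ?_)
    ring
  have hset : ∀ c : ℕ, 0 < c → ((∃ m, c = NsePGL.Basic.cnt G m) ↔
      ∃ m, c = NsePGL.Basic.cnt (GL (Fin 2) F ⧸ Subgroup.center (GL (Fin 2) F)) m) := fun c hc => by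
    have := Set.ext_iff.1 hnse c
    simp only [Set.mem_ofPred_eq, hc, true_and] at this
    exact this
  have H : NsePGL.Group.Hyp G p (Fintype.card F) :=
    { odd := hp2
      pow := ⟨n, n.pos, hn⟩
      big := h3
      card := hcardG
      cases := fun m hm => by
        obtain ⟨m', e⟩ := (hset _ hm).1 ⟨m, rfl⟩
        rw [e]
        exact NsePGL.Counts.cnt_cases (p := p) hp2 m'
      sq := by
        obtain ⟨m, e⟩ := (hset (Fintype.card F ^ 2) (by positivity)).2
          ⟨2, (NsePGL.Counts.cnt_two (p := p) hp2).symm⟩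
        exact ⟨m, e.symm⟩ }
  obtain ⟨K, iK, iK', hK, ⟨e⟩⟩ := NsePGL.Line.recognise H
  let r : K ≃+* F := FiniteField.ringEquivOfCardEq hK
  let f : Matrix.ProjGenLinGroup (Fin 2) K ≃* Matrix.ProjGenLinGroup (Fin 2) F :=
    MonoidHom.toMulEquiv (Matrix.ProjGenLinGroup.map r.toRingHom)
      (Matrix.ProjGenLinGroup.map r.symm.toRingHom)
      (by rw [← Matrix.ProjGenLinGroup.map_comp, RingEquiv.symm_toRingHom_comp_toRingHom,
        Matrix.ProjGenLinGroup.map_id])
      (by rw [← Matrix.ProjGenLinGroup.map_comp, RingEquiv.toRingHom_comp_symm_toRingHom,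
        Matrix.ProjGenLinGroup.map_id])
  exact ⟨e.trans f⟩

end Cfsg.Agent.S3648
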