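import Cfsg.Statements.S3660
import Cfsg.Agent.Recognition.SL2Orders

set_option autoImplicit false
open Cfsg Cfsg.Agent.Recognition.Extension Cfsg.Agent.Recognition.SL2Orders
open scoped MatrixGroups

namespace Cfsg.Agent.S3660

/-- For a finite field of characteristic 2 with at least 4 elements, there are arbitrarily large finite groups with the same prime graph as the projective special linear group of degree 2. -/
theorem result {F : Type*} [Field F] [Fintype F] [CharP F 2] (hF : 4 ≤ Fintype.card F) (N : ℕ) :
    ∃ (H : Type) (_ : Group H) (_ : Finite H), N < Nat.card H ∧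
      ((∀ p : ℕ, p.Prime → (p ∣ Nat.card (Matrix.ProjectiveSpecialLinearGroup (Fin 2) F) ↔ p ∣ Nat.card H)) ∧
      (∀ p q : ℕ, p.Prime → q.Prime → p ≠ q → ((∃ g : (Matrix.ProjectiveSpecialLinearGroup (Fin 2) F), orderOf g = p * q) ↔ (∃ g : H, orderOf g = p * q)))) := by
  classical
  have : Finite SL(2, F) := Subtype.finite
  have h2 : 2 ∣ Nat.card SL(2, F) := by
    have h := orderOf_companion Nat.prime_two (0 : F) (by simp [lucU])
    exact h.symm.dvd.trans (orderOf_dvd_natCard (companion (0 : F)))
  have hgr : SameGraph SL(2, F) ((Fin N → Multiplicative (Fin 2 → F)) ⋊[copies natAut N] SL(2, F)) :=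
    sameGraph_semidirect Nat.prime_two (pow_eq_one_copies (pow_char_eq_one (p := 2)) N) h2
      fun g hp h => (fpf_natAut_of_prime g hp h).copies N
  have hN := lt_card_copies (natAut (F := F)) N
  have hP : SameGraph (Matrix.ProjectiveSpecialLinearGroup (Fin 2) F)
      ((Fin N → Multiplicative (Fin 2 → F)) ⋊[copies natAut N] SL(2, F)) :=
    (SameGraph.of_mulEquiv (equivPSL (F := F)).symm).trans hgr
  obtain ⟨H, i1, i2, hN', h⟩ := exists_large_sameGraph N hN hP
  have hN'' : N < Nat.card H := by rw [Nat.card_eq_fintype_card]; exact hN'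
  refine ⟨H, i1, Finite.of_fintype H, hN'', ?_⟩
  exact h

end Cfsg.Agent.S3660
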