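import Cfsg.Statements.S3662
import Cfsg.Agent.Recognition.G2Four.Rep
import Cfsg.Agent.Recognition.Extension
import Cfsg.Agent.Lib.Chevalley.FieldAut
import Cfsg.Agent.Lib.Chevalley.Types.OrderG2

set_option autoImplicit false
open Cfsg

namespace Cfsg.Agent.S3662

open Matrix Cfsg.Lie Cfsg.Agent.Recognition Cfsg.Agent.Recognition.Extension Cfsg.Agent.Recognition.G2Four

/-- An element of order seven. -/
def w7 : List (Fin chevG2.nroots × Q) :=
  [(⟨6, by decide⟩, .v), (⟨4, by decide⟩, .w), (⟨5, by decide⟩, .w), (⟨7, by decide⟩, .v)]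

/-- An element of order thirteen. -/
def w13 : List (Fin chevG2.nroots × Q) :=
  [(⟨4, by decide⟩, .e), (⟨7, by decide⟩, .w), (⟨5, by decide⟩, .e), (⟨6, by decide⟩, .v)]

/-- An element of order six. -/
def w6 : List (Fin chevG2.nroots × Q) :=
  [(⟨5, by decide⟩, .v), (⟨6, by decide⟩, .w), (⟨4, by decide⟩, .w)]

/-- An element of order ten. -/
def w10 : List (Fin chevG2.nroots × Q) :=
  [(⟨5, by decide⟩, .e), (⟨6, by decide⟩, .w), (⟨7, by decide⟩, .e)]

theorem check6 : wordMat w6 ^ 6 = 1 ∧ ∀ m < 6, 0 < m → wordMat w6 ^ m ≠ 1 := by decide +kernel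

theorem check10 : wordMat w10 ^ 10 = 1 ∧ ∀ m < 10, 0 < m → wordMat w10 ^ m ≠ 1 := by decide +kernel

theorem check7 : (∑ i ∈ Finset.range 7, wordMat w7 ^ i) = 0 ∧ wordMat w7 ^ 7 = 1 ∧ wordMat w7 ≠ 1 := by
  decide +kernel

theorem check13 : (∑ i ∈ Finset.range 13, wordMat w13 ^ i) = 0 ∧ wordMat w13 ^ 13 = 1 ∧ wordMat w13 ≠ 1 := by
  decide +kernel

theorem natProj_pow_eq_one (w : List (Fin chevG2.nroots × Q)) (m : ℕ) :
    word w ^ m = 1 ↔ wordMat w ^ m = 1 := by
  rw [← natProj_word, ← Units.val_pow_eq_pow_val, ← map_pow, Units.val_eq_one]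
  exact (map_eq_one_iff natProj natProj_injective).symm

theorem order_word (w : List (Fin chevG2.nroots × Q)) (n : ℕ) (hn : 0 < n)
    (h : wordMat w ^ n = 1 ∧ ∀ m < n, 0 < m → wordMat w ^ m ≠ 1) : orderOf (word w) = n :=
  (orderOf_eq_iff hn).2 ⟨(natProj_pow_eq_one w n).2 h.1,
    fun m hm h0 e => h.2 m hm h0 ((natProj_pow_eq_one w m).1 e)⟩

theorem order_word_prime (w : List (Fin chevG2.nroots × Q)) (p : ℕ) [Fact p.Prime]
    (h : wordMat w ^ p = 1) (h1 : wordMat w ≠ 1) : orderOf (word w) = p :=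
  orderOf_eq_prime ((natProj_pow_eq_one w p).2 h) fun e => h1 (by
    simpa using (natProj_pow_eq_one w 1).1 (by rw [pow_one]; exact e))

/-- The module. -/
abbrev V := Multiplicative (Fin 6 → Q)

/-- The natural action. -/
def act : G2pairs →* MulAut V := glAut.comp natProj

theorem fpf_word (w : List (Fin chevG2.nroots × Q)) (p : ℕ) (hp : ((p : ℕ) : Q) = 1)
    (h : (∑ i ∈ Finset.range p, wordMat w ^ i) = 0) : Fpf act (word w) := by
  refine fpf_glAut natProj (word w) fun v hv => ?_
  rw [natProj_word] at hv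
  have hi : ∀ i : ℕ, (wordMat w ^ i) *ᵥ v = v := by
    intro i
    induction i with
    | zero => simp
    | succ i ih => rw [pow_succ, ← Matrix.mulVec_mulVec, hv, ih]
  have := congrArg (· *ᵥ v) h
  simp only [Matrix.sum_mulVec, hi, Finset.sum_const, Finset.card_range, Matrix.zero_mulVec] at this
  funext i
  have := congrFun this i
  rw [Pi.smul_apply, nsmul_eq_mul, hp, one_mul] at this
  exact this

theorem natCard_pairs : Nat.card G2pairs = 2 ^ 12 * 3 ^ 3 * 5 ^ 2 * 7 * 13 := by
  rw [Nat.card_congr pairsEquiv.toEquiv]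
  have h := Cfsg.Agent.Chevalley.Types.OrderG2.card_group Q
  simp only [Q.card_eq, Fin.prod_univ_two, Cfsg.Agent.Chevalley.Types.OrderG2.ed] at h
  norm_num at h
  norm_num
  exact h

theorem fpf_all (p : ℕ) [hp : Fact p.Prime] (hf : (Nat.card G2pairs).factorization p = 1) (g : G2pairs)
    (hgo : orderOf g = p) (hg : Fpf act g) (x : G2pairs) (hx : orderOf x = p) : Fpf act x := by
  have hpx : Nat.card (Subgroup.zpowers x) = p ^ (Nat.card G2pairs).factorization p := by
    rw [hf, pow_one, Nat.card_zpowers, hx]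
  have hpg : Nat.card (Subgroup.zpowers g) = p ^ (Nat.card G2pairs).factorization p := by
    rw [hf, pow_one, Nat.card_zpowers, hgo]
  obtain ⟨h, hh⟩ := MulAction.exists_smul_eq G2pairs (Sylow.ofCard _ hpx) (Sylow.ofCard _ hpg)
  have hgm : g ∈ ((h • Sylow.ofCard _ hpx : Sylow p G2pairs) : Subgroup G2pairs) := by
    rw [hh, Sylow.coe_ofCard]; exact Subgroup.mem_zpowers g
  rw [Sylow.coe_subgroup_smul] at hgm
  obtain ⟨u, hu, hug⟩ := hgm
  have hug' : h * u * h⁻¹ = g := hug
  obtain ⟨j, hj⟩ := mem_powers_iff_mem_zpowers.2 (hu : u ∈ Subgroup.zpowers x)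
  intro k hk
  have hpow : ∀ i : ℕ, act (x ^ i) k = k := by
    intro i
    induction i with
    | zero => simp
    | succ i ih => rw [pow_succ, map_mul, MulAut.mul_apply, hk, ih]
  have h1 : act g (act h k) = act h k := by
    rw [← hug', ← MulAut.mul_apply, ← map_mul, show h * u * h⁻¹ * h = h * u by group, map_mul, MulAut.mul_apply,
      show u = x ^ j from hj.symm, hpow]
  have h2 := hg _ h1
  rw [← map_one (act h)] at h2
  exact (act h).injective h2

/-- The prime graph of a finite group has the prime divisors of its order as vertices, two distinct primes p, q being joined when the group has an element of order pq; two groups have the same prime graph when they have the same prime divisors and the same joined pairs. Let F be the field with 4 elements and L the Chevalley group of type G₂ over F. There are finite groups of arbitrarily large order with the same prime graph as L. -/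
theorem result {F : Type*} [Field F] [Fintype F] (hF : Fintype.card F = 4) (N : ℕ) :
    ∃ (H : Type) (_ : Group H) (_ : Finite H), N < Nat.card H ∧
      ((∀ p : ℕ, p.Prime → (p ∣ Nat.card ↥(Cfsg.Lie.chevG2.group F) ↔ p ∣ Nat.card H)) ∧
      (∀ p q : ℕ, p.Prime → q.Prime → p ≠ q → ((∃ g : ↥(Cfsg.Lie.chevG2.group F), orderOf g = p * q) ↔ (∃ g : H, orderOf g = p * q)))) := by
  obtain ⟨e⟩ : Nonempty (↥(chevG2.group F) ≃* G2pairs) := by
    have f : F ≃+* Q := FiniteField.ringEquivOfCardEq (by rw [hF, Q.card_eq])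
    refine ⟨MulEquiv.trans ?_ pairsEquiv.symm⟩
    exact
      { toFun := fun g => ⟨Cfsg.Agent.Chevalley.FieldAut.mapGL chevG2 f.toRingHom g,
          Cfsg.Agent.Chevalley.FieldAut.map_mem_group f.toRingHom g.2⟩
        invFun := fun g => ⟨Cfsg.Agent.Chevalley.FieldAut.mapGL chevG2 f.symm.toRingHom g,
          Cfsg.Agent.Chevalley.FieldAut.map_mem_group f.symm.toRingHom g.2⟩
        left_inv := fun g => Subtype.ext (Units.ext (Matrix.ext fun a b => f.symm_apply_apply _))
        right_inv := fun g => Subtype.ext (Units.ext (Matrix.ext fun a b => f.apply_symm_apply _))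
        map_mul' := fun g h => Subtype.ext
          (map_mul (Cfsg.Agent.Chevalley.FieldAut.mapGL chevG2 f.toRingHom) (g : GL chevG2.Idx F) h) }
  haveI : Finite G2pairs := Subtype.finite
  have hexp : ∀ k : Fin (N + 1) → V, k ^ 2 = 1 := pow_eq_one_copies pow_char_eq_one (N + 1)
  set G := (Fin (N + 1) → V) ⋊[Extension.copies act (N + 1)] G2pairs
  have hNG : N < Nat.card G := (Nat.lt_succ_self N).trans (lt_card_copies act _)
  have hfac : (Nat.card G2pairs).factorization 7 = 1 ∧ (Nat.card G2pairs).factorization 13 = 1 := by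
    haveI : Fact (Nat.Prime 7) := ⟨by norm_num⟩
    haveI : Fact (Nat.Prime 13) := ⟨by norm_num⟩
    constructor
    · rw [natCard_pairs, Nat.factorization_def _ (by norm_num),
        show 2 ^ 12 * 3 ^ 3 * 5 ^ 2 * 7 * 13 = 7 * 35942400 by norm_num,
        padicValNat.mul (by norm_num) (by norm_num), padicValNat.self (by norm_num),
        padicValNat.eq_zero_of_not_dvd (by norm_num)]
    · rw [natCard_pairs, Nat.factorization_def _ (by norm_num),
        show 2 ^ 12 * 3 ^ 3 * 5 ^ 2 * 7 * 13 = 13 * 19353600 by norm_num,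
        padicValNat.mul (by norm_num) (by norm_num), padicValNat.self (by norm_num),
        padicValNat.eq_zero_of_not_dvd (by norm_num)]
  have hfpf : ∀ x : G2pairs, orderOf x = 7 ∨ orderOf x = 13 → Fpf act x := by
    rintro x (hx | hx)
    · haveI : Fact (Nat.Prime 7) := ⟨by norm_num⟩
      exact fpf_all 7 hfac.1 _ (order_word_prime w7 7 check7.2.1 check7.2.2)
        (fpf_word w7 7 (by decide) check7.1) x hx
    · haveI : Fact (Nat.Prime 13) := ⟨by norm_num⟩
      exact fpf_all 13 hfac.2 _ (order_word_prime w13 13 check13.2.1 check13.2.2)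
        (fpf_word w13 13 (by decide) check13.1) x hx
  have hsame : SameGraph G2pairs G := by
    refine ⟨fun r hr => ?_, fun r s hr hs hrs => ⟨fun ⟨x, hx⟩ => ⟨_, (orderOf_inr x).trans hx⟩, ?_⟩⟩
    · rw [SemidirectProduct.card]
      refine ⟨fun h => h.mul_left _, fun h => ?_⟩
      rcases hr.dvd_mul.1 h with h' | h'
      · obtain ⟨n, hn⟩ := (IsPGroup.iff_card (p := 2)).1 (fun k => ⟨1, by rw [pow_one]; exact hexp k⟩ :
          IsPGroup 2 (Fin (N + 1) → V))
        rw [hn] at h'
        rw [(Nat.prime_dvd_prime_iff_eq hr Nat.prime_two).1 (hr.dvd_of_dvd_pow h'), natCard_pairs]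
        norm_num
      · exact h'
    · rintro ⟨x, hx⟩
      obtain ⟨c, hc⟩ := orderOf_right_dvd x
      have hd := orderOf_dvd_mul 2 hexp x
      rw [hc] at hd
      rcases (Nat.dvd_prime Nat.prime_two).1 (Nat.dvd_of_mul_dvd_mul_left (orderOf_pos _) hd) with rfl | rfl
      · exact ⟨x.right, by rw [← hx, hc, mul_one]⟩
      · rw [hx] at hc
        obtain ⟨t, ht, htm, htr⟩ : ∃ t, t.Prime ∧ orderOf x.right = t ∧ r * s = t * 2 ∧ t ≠ 2 := by
          rcases (Nat.Prime.dvd_mul Nat.prime_two).1 (⟨orderOf x.right, by rw [hc, mul_comm]⟩ : 2 ∣ r * s) with h | h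
          · obtain rfl := (Nat.prime_dvd_prime_iff_eq Nat.prime_two hr).1 h
            exact ⟨s, hs, by linarith, by ring, fun e => hrs e.symm⟩
          · obtain rfl := (Nat.prime_dvd_prime_iff_eq Nat.prime_two hs).1 h
            exact ⟨r, hr, by linarith, by ring, hrs⟩
        have htd : t ∣ 2 ^ 12 * 3 ^ 3 * 5 ^ 2 * 7 * 13 := by
          rw [← natCard_pairs, ← htm]; exact orderOf_dvd_natCard x.right
        rw [ht.dvd_mul, ht.dvd_mul, ht.dvd_mul, ht.dvd_mul] at htd
        have hcases : t = 3 ∨ t = 5 ∨ t = 7 ∨ t = 13 := by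
          rcases htd with (((h | h) | h) | h) | h
          · exact absurd ((Nat.prime_dvd_prime_iff_eq ht Nat.prime_two).1 (ht.dvd_of_dvd_pow h)) htr.2
          · exact Or.inl ((Nat.prime_dvd_prime_iff_eq ht Nat.prime_three).1 (ht.dvd_of_dvd_pow h))
          · exact Or.inr (Or.inl ((Nat.prime_dvd_prime_iff_eq ht (by norm_num)).1 (ht.dvd_of_dvd_pow h)))
          · exact Or.inr (Or.inr (Or.inl ((Nat.prime_dvd_prime_iff_eq ht (by norm_num)).1 h)))
          · exact Or.inr (Or.inr (Or.inr ((Nat.prime_dvd_prime_iff_eq ht (by norm_num)).1 h)))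
        rcases hcases with rfl | rfl | hbig
        · exact ⟨word w6, by rw [order_word w6 6 (by norm_num) check6, htr.1]⟩
        · exact ⟨word w10, by rw [order_word w10 10 (by norm_num) check10, htr.1]⟩
        · exfalso
          have h' := orderOf_of_fpf x ((hfpf _ (htm ▸ hbig)).copies (N + 1))
          rw [hx, htm, htr.1] at h'
          have := ht.two_le
          omega
  obtain ⟨H, i1, i2, hN, hS⟩ := exists_large_sameGraph N hNG ((SameGraph.of_mulEquiv e).trans hsame)
  exact ⟨H, i1, inferInstance, by rwa [Nat.card_eq_fintype_card], hS⟩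

end Cfsg.Agent.S3662
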