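import Cfsg.Statements.S3663
import Cfsg.Agent.Recognition.U34.Rep
import Cfsg.Agent.Recognition.Extension

set_option autoImplicit false
set_option maxRecDepth 100000
open Cfsg

namespace Cfsg.Agent.S3663

open Matrix Cfsg.Agent.Recognition Cfsg.Agent.Recognition.Extension Cfsg.Agent.Classical.Unitary

/-- The three standard vectors, coded. -/
def basisCodes : List U34.V3 := [(1, 0, 0), (0, 1, 0), (0, 0, 1)]

/-- The order of a coded matrix, as checks on the standard vectors. -/
def orderOk (A : U34.M3) (n : ℕ) : Bool :=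
  basisCodes.all (fun v => decide ((U34.app A)^[n] v = v)) &&
  (List.range n).all fun m => decide (m = 0) || !basisCodes.all fun v => decide ((U34.app A)^[m] v = v)

theorem order_checks : orderOk U34.g13 13 = true ∧ orderOk U34.g10 10 = true ∧ orderOk U34.g15 15 = true := by
  decide +kernel

theorem small_basis : ∀ v ∈ basisCodes, U34.small v = true := by decide

theorem exists_order {F : Type*} [Field F] [Fintype F] (hF : Fintype.card F = 4 ^ 2) (C : U34.Coding F)
    (g : Cfsg.SU 3 F 4) (A : U34.M3) (hA : U34.unitary A = true) (hg : mat g = U34.matF C A)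
    (n : ℕ) (hn : 0 < n) (h : orderOk A n = true) : orderOf g = n := by
  have hs : ∀ v, U34.small v = true → U34.small (U34.app A v) = true := fun v _ => U34.small_app A v
  have hsm : ∀ (m : ℕ) (v : U34.V3), U34.small v = true →
      U34.small ((U34.app A)^[m] v) = true ∧ mat (g ^ m) *ᵥ U34.vec C v = U34.vec C ((U34.app A)^[m] v) := by
    intro m
    induction m with
    | zero => intro v hv; exact ⟨hv, by rw [pow_zero, mat_one, Matrix.one_mulVec]; rfl⟩
    | succ m ih =>
      intro v hv
      obtain ⟨h1, h2⟩ := ih v hv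
      rw [Function.iterate_succ_apply']
      refine ⟨hs _ h1, ?_⟩
      simp only [U34.unitary, Bool.and_eq_true] at hA
      rw [pow_succ', mul_mulVec, h2, hg, U34.vec_app C A ⟨hA.1.1.1.1, hA.1.1.1.2, hA.1.1.2⟩ _ h1]
  simp only [orderOk, Bool.and_eq_true, List.all_eq_true, decide_eq_true_eq, List.mem_range, Bool.or_eq_true,
    Bool.not_eq_true', List.all_eq_false] at h
  refine (orderOf_eq_iff hn).2 ⟨?_, fun m hm h0 he => ?_⟩
  · refine SU_ext fun x => ?_
    have hx : x = x 0 • U34.vec C (1, 0, 0) + x 1 • U34.vec C (0, 1, 0) + x 2 • U34.vec C (0, 0, 1) := by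
      funext i; fin_cases i <;> simp [U34.vec, C.zero, C.one]
    have e : ∀ v ∈ basisCodes, mat (g ^ n) *ᵥ U34.vec C v = U34.vec C v := fun v hv => by
      rw [(hsm n v (small_basis v hv)).2, h.1 v hv]
    rw [mat_one, Matrix.one_mulVec, hx]
    simp only [Matrix.mulVec_add, Matrix.mulVec_smul, e _ (by simp [basisCodes] : ((1, 0, 0) : U34.V3) ∈ basisCodes),
      e _ (by simp [basisCodes] : ((0, 1, 0) : U34.V3) ∈ basisCodes), e _ (by simp [basisCodes] : ((0, 0, 1) : U34.V3) ∈ basisCodes)]
  · rcases h.2 m hm with h' | ⟨v, hv, hne⟩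
    · omega
    · refine hne ?_
      obtain ⟨h1, h2⟩ := hsm m v (small_basis v hv)
      rw [he, mat_one, Matrix.one_mulVec] at h2
      obtain ⟨a1, a2, a3⟩ := (U34.small_iff _).1 (small_basis v hv)
      obtain ⟨b1, b2, b3⟩ := (U34.small_iff _).1 h1
      exact Prod.ext (C.inj _ _ b1 a1 (congrFun h2 0).symm)
        (Prod.ext (C.inj _ _ b2 a2 (congrFun h2 1).symm) (C.inj _ _ b3 a3 (congrFun h2 2).symm))

/-- The prime graph of a finite group has the prime divisors of its order as vertices, two distinct primes p, q being joined when the group has an element of order pq; two groups have the same prime graph when they have the same prime divisors and the same joined pairs. Let F be the field with 16 elements and L = PSU(3,4) realised over F. There are finite groups of arbitrarily large order with the same prime graph as L. -/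
theorem result {F : Type*} [Field F] [Fintype F] (hF : Fintype.card F = 16) (N : ℕ) :
    ∃ (H : Type) (_ : Group H) (_ : Finite H), N < Nat.card H ∧
      ((∀ p : ℕ, p.Prime → (p ∣ Nat.card (Cfsg.PSU 3 F 4) ↔ p ∣ Nat.card H)) ∧
      (∀ p q : ℕ, p.Prime → q.Prime → p ≠ q → ((∃ g : (Cfsg.PSU 3 F 4), orderOf g = p * q) ↔ (∃ g : H, orderOf g = p * q)))) := by
  classical
  have hF' : Fintype.card F = 4 ^ 2 := by rw [hF]; norm_num
  obtain ⟨C⟩ := U34.exists_coding hF
  obtain ⟨ρ, g, hg, hfix⟩ := U34.exists_rep hF' C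
  have hgo : orderOf g = 13 := exists_order hF' C g _ U34.unitary_all.2.2.1 hg 13 (by norm_num) order_checks.1
  obtain ⟨g10, hg10, -⟩ := U34.exists_elem hF' C _ U34.unitary_all.2.2.2.1
  obtain ⟨g15, hg15, -⟩ := U34.exists_elem hF' C _ U34.unitary_all.2.2.2.2
  have ho10 := exists_order hF' C g10 _ U34.unitary_all.2.2.2.1 hg10 10 (by norm_num) order_checks.2.1
  have ho15 := exists_order hF' C g15 _ U34.unitary_all.2.2.2.2 hg15 15 (by norm_num) order_checks.2.2
  have hZ : Subgroup.center (Cfsg.SU 3 F 4) = ⊥ :=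
    Subgroup.eq_bot_of_card_eq _ (by rw [natCard_center hF' (by norm_num)]; norm_num)
  have hcard : Nat.card (Cfsg.SU 3 F 4) = 62400 := by
    have h := natCard_SU_mul hF' (n := 3) (by norm_num)
    rw [Cfsg.Agent.Classical.Unitary.natCard_GU hF'] at h
    simp only [Finset.prod_range_succ, Finset.prod_range_zero] at h
    norm_num [Nat.even_iff] at h
    rw [Nat.card_eq_fintype_card]
    omega
  -- all elements of order thirteen act without fixed vectors
  have hfpf : ∀ x : Cfsg.SU 3 F 4, orderOf x = 13 → Fpf (glAut.comp ρ) x := by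
    intro x hx
    refine fpf_glAut ρ x fun v hv => ?_
    haveI := Fact.mk (show Nat.Prime 13 by norm_num)
    have hfac : (Nat.card (Cfsg.SU 3 F 4)).factorization 13 = 1 := by
      rw [hcard, Nat.factorization_def _ (by norm_num), show 62400 = 13 * 4800 from rfl,
        padicValNat.mul (by norm_num) (by norm_num), padicValNat.self (by norm_num),
        padicValNat.eq_zero_of_not_dvd (by norm_num)]
    have hpx : Nat.card (Subgroup.zpowers x) = 13 ^ (Nat.card (Cfsg.SU 3 F 4)).factorization 13 := by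
      rw [hfac, pow_one, Nat.card_zpowers, hx]
    have hpg : Nat.card (Subgroup.zpowers g) = 13 ^ (Nat.card (Cfsg.SU 3 F 4)).factorization 13 := by
      rw [hfac, pow_one, Nat.card_zpowers, hgo]
    obtain ⟨h, hh⟩ := MulAction.exists_smul_eq (Cfsg.SU 3 F 4) (Sylow.ofCard _ hpx) (Sylow.ofCard _ hpg)
    have hgm : g ∈ ((h • Sylow.ofCard _ hpx : Sylow 13 (Cfsg.SU 3 F 4)) : Subgroup (Cfsg.SU 3 F 4)) := by
      rw [hh, Sylow.coe_ofCard]; exact Subgroup.mem_zpowers g
    rw [Sylow.coe_subgroup_smul] at hgm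
    obtain ⟨w, hw, hwg⟩ := hgm
    have hwg' : h * w * h⁻¹ = g := hwg
    have hw' : w ∈ Subgroup.zpowers x := hw
    obtain ⟨j, hj⟩ := mem_powers_iff_mem_zpowers.2 hw'
    have hpow : ∀ k : ℕ, (ρ (x ^ k) : Matrix (Fin 12) (Fin 12) (ZMod 5)) *ᵥ v = v := by
      intro k
      induction k with
      | zero => simp
      | succ k ih => rw [pow_succ, map_mul, Units.val_mul, ← Matrix.mulVec_mulVec, hv, ih]
    have h1 : (ρ g : Matrix (Fin 12) (Fin 12) (ZMod 5)) *ᵥ ((ρ h : Matrix (Fin 12) (Fin 12) (ZMod 5)) *ᵥ v) =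
        (ρ h : Matrix (Fin 12) (Fin 12) (ZMod 5)) *ᵥ v := by
      rw [← hwg', Matrix.mulVec_mulVec, ← Units.val_mul, ← map_mul,
        show h * w * h⁻¹ * h = h * w by group, map_mul, Units.val_mul, ← Matrix.mulVec_mulVec,
        show w = x ^ j from hj.symm, hpow]
    have h2 := congrArg ((↑(ρ h)⁻¹ : Matrix (Fin 12) (Fin 12) (ZMod 5)) *ᵥ ·) (hfix _ h1)
    simpa [Matrix.mulVec_mulVec] using h2
  -- the extension
  let act := Extension.copies (glAut.comp ρ) (N + 1)
  haveI : Fact (1 < 5) := ⟨by norm_num⟩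
  haveI : Nontrivial (Multiplicative (Fin 12 → ZMod 5)) :=
    ⟨⟨Multiplicative.ofAdd fun _ => 1, 1, fun h => one_ne_zero (congrFun (congrArg Multiplicative.toAdd h) (0 : Fin 12))⟩⟩
  set G := (Fin (N + 1) → Multiplicative (Fin 12 → ZMod 5)) ⋊[act] Cfsg.SU 3 F 4
  haveI : Finite G := Finite.of_equiv _ SemidirectProduct.equivProd.symm
  have hexp : ∀ k : Fin (N + 1) → Multiplicative (Fin 12 → ZMod 5), k ^ 5 = 1 :=
    pow_eq_one_copies pow_char_eq_one (N + 1)
  have hNG : N < Nat.card G := (Nat.lt_succ_self N).trans (lt_card_copies (glAut.comp ρ) _)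
  let e : Cfsg.SU 3 F 4 ≃* Cfsg.PSU 3 F 4 :=
    ((QuotientGroup.quotientMulEquivOfEq hZ).trans QuotientGroup.quotientBot).symm
  have hsame : SameGraph (Cfsg.SU 3 F 4) G := by
    refine ⟨fun r hr => ?_, fun r s hr hs hrs => ⟨fun ⟨x, hx⟩ => ⟨_, (orderOf_inr x).trans hx⟩, ?_⟩⟩
    · rw [SemidirectProduct.card]
      refine ⟨fun h => h.mul_left _, fun h => ?_⟩
      rcases hr.dvd_mul.1 h with h' | h'
      · haveI := Fact.mk (show Nat.Prime 5 by norm_num)
        obtain ⟨n, hn⟩ := (IsPGroup.iff_card).1 (fun k => ⟨1, by rw [pow_one]; exact hexp k⟩ :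
          IsPGroup 5 (Fin (N + 1) → Multiplicative (Fin 12 → ZMod 5)))
        rw [hn] at h'
        rw [(Nat.prime_dvd_prime_iff_eq hr (by norm_num)).1 (hr.dvd_of_dvd_pow h'), hcard]
        norm_num
      · exact h'
    · rintro ⟨x, hx⟩
      obtain ⟨c, hc⟩ := orderOf_right_dvd x
      have hd := orderOf_dvd_mul 5 hexp x
      rw [hc] at hd
      have hpos : 0 < orderOf x.right := orderOf_pos _
      rcases (Nat.dvd_prime (by norm_num)).1 (Nat.dvd_of_mul_dvd_mul_left hpos hd) with rfl | rfl
      · exact ⟨x.right, by rw [← hx, hc, mul_one]⟩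
      · rw [hx] at hc
        set m := orderOf x.right
        obtain ⟨t, ht, htm⟩ : ∃ t, t.Prime ∧ t = m ∧ r * s = t * 5 := by
          have h5 : 5 ∣ r * s := ⟨m, by rw [hc, mul_comm]⟩
          rcases (Nat.Prime.dvd_mul (by norm_num)).1 h5 with h | h
          · have := (Nat.prime_dvd_prime_iff_eq (by norm_num) hr).1 h
            refine ⟨s, hs, ?_, ?_⟩ <;> subst this <;> linarith [mul_comm 5 s]
          · have := (Nat.prime_dvd_prime_iff_eq (by norm_num) hs).1 h
            refine ⟨r, hr, ?_, ?_⟩ <;> subst this <;> linarith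
        have htd : t ∣ 62400 := htm.1 ▸ hcard ▸ orderOf_dvd_natCard x.right
        have hcases : t = 2 ∨ t = 3 ∨ t = 5 ∨ t = 13 := by
          rw [show 62400 = 2 ^ 6 * 3 * 5 ^ 2 * 13 from rfl, ht.dvd_mul, ht.dvd_mul, ht.dvd_mul] at htd
          rcases htd with ((h | h) | h) | h
          · exact Or.inl ((Nat.prime_dvd_prime_iff_eq ht Nat.prime_two).1 (ht.dvd_of_dvd_pow h))
          · exact Or.inr (Or.inl ((Nat.prime_dvd_prime_iff_eq ht Nat.prime_three).1 h))
          · exact Or.inr (Or.inr (Or.inl ((Nat.prime_dvd_prime_iff_eq ht (by norm_num)).1 (ht.dvd_of_dvd_pow h))))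
          · exact Or.inr (Or.inr (Or.inr ((Nat.prime_dvd_prime_iff_eq ht (by norm_num)).1 h)))
        rcases hcases with rfl | rfl | rfl | rfl
        · exact ⟨g10, by rw [ho10, htm.2]⟩
        · exact ⟨g15, by rw [ho15, htm.2]⟩
        · exfalso
          rcases (Nat.Prime.dvd_mul (by norm_num)).1 (Dvd.intro _ htm.2.symm : 5 ∣ r * s) with h | h
          · have := (Nat.prime_dvd_prime_iff_eq (by norm_num) hr).1 h
            subst this; apply hrs; linarith [htm.2]
          · have := (Nat.prime_dvd_prime_iff_eq (by norm_num) hs).1 h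
            subst this; apply hrs; linarith [htm.2]
        · exfalso
          have h' := orderOf_of_fpf x ((hfpf _ htm.1.symm).copies (N + 1))
          rw [hx] at h'
          omega
  obtain ⟨H, i1, i2, hN, hS⟩ := exists_large_sameGraph N hNG ((SameGraph.of_mulEquiv e.symm).trans hsame)
  exact ⟨H, i1, inferInstance, by rwa [Nat.card_eq_fintype_card], hS⟩

end Cfsg.Agent.S3663
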