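import Cfsg.Statements.S3664
import Cfsg.Agent.Recognition.SympSix
import Cfsg.Agent.Recognition.SzEight.Graph

set_option autoImplicit false
open Cfsg

namespace Cfsg.Agent.S3664

/-- The prime graph of a finite group has the prime divisors of its order as vertices, two distinct primes p, q being joined when the group has an element of order pq; two groups have the same prime graph when they have the same prime divisors and the same joined pairs. Let F be the field with 3 elements and L = PSp(6,F). There are finite groups of arbitrarily large order with the same prime graph as L (a prime graph shared by the orthogonal groups Ω₇(3) and PΩ⁺₈(3)). -/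
theorem result {F : Type*} [Field F] [Fintype F] (hF : Fintype.card F = 3) (N : ℕ) :
    ∃ (H : Type) (_ : Group H) (_ : Finite H), N < Nat.card H ∧
      ((∀ p : ℕ, p.Prime → (p ∣ Nat.card (Cfsg.PSp 3 F) ↔ p ∣ Nat.card H)) ∧
      (∀ p q : ℕ, p.Prime → q.Prime → p ≠ q → ((∃ g : (Cfsg.PSp 3 F), orderOf g = p * q) ↔ (∃ g : H, orderOf g = p * q)))) := by
  classical
  haveI : Fact (Nat.Prime 3) := ⟨Nat.prime_three⟩
  have f : F ≃+* ZMod 3 := FiniteField.ringEquivOfCardEq (by rw [hF, ZMod.card])
  obtain ⟨e⟩ : Nonempty (Cfsg.PSp 3 F ≃* Recognition.SympSix.P6) := by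
    let E : Matrix.symplecticGroup (Fin 3) F ≃* Matrix.symplecticGroup (Fin 3) (ZMod 3) :=
      { toFun := fun A => ⟨A.1.map f, by
          have h := SymplecticGroup.mem_iff.1 A.2
          have hJ : (Matrix.J (Fin 3) F).map f = Matrix.J (Fin 3) (ZMod 3) := by
            ext (i | i) (j | j) <;> simp [Matrix.J, Matrix.map_apply, Matrix.one_apply, apply_ite f]
          rw [SymplecticGroup.mem_iff, ← hJ, ← Matrix.transpose_map, ← Matrix.map_mul, ← Matrix.map_mul, h]⟩
        invFun := fun A => ⟨A.1.map f.symm, by
          have h := SymplecticGroup.mem_iff.1 A.2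
          have hJ : (Matrix.J (Fin 3) (ZMod 3)).map f.symm = Matrix.J (Fin 3) F := by
            ext (i | i) (j | j) <;> simp [Matrix.J, Matrix.map_apply, Matrix.one_apply, apply_ite f.symm]
          rw [SymplecticGroup.mem_iff, ← hJ, ← Matrix.transpose_map, ← Matrix.map_mul, ← Matrix.map_mul, h]⟩
        left_inv := fun A => Subtype.ext (Matrix.ext fun i j => f.symm_apply_apply _)
        right_inv := fun A => Subtype.ext (Matrix.ext fun i j => f.apply_symm_apply _)
        map_mul' := fun A B => Subtype.ext (by
          show (A.1 * B.1).map f = A.1.map f * B.1.map f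
          rw [Matrix.map_mul]) }
    refine ⟨QuotientGroup.congr _ _ E ?_⟩
    ext y
    simp only [Subgroup.mem_map, Subgroup.mem_center_iff, MonoidHom.coe_coe]
    refine ⟨?_, fun h => ⟨E.symm y, fun g => E.injective (by simpa using h (E g)), by simp⟩⟩
    rintro ⟨x, hx, rfl⟩ g
    simpa using congrArg E (hx (E.symm g))
  obtain ⟨H, i1, i2, hN, hp, hedge⟩ := Recognition.SzEight.exists_large N
  refine ⟨H, i1, i2, hN, fun p pp => ?_, fun p q pp qq hpq => ?_⟩
  · rw [Nat.card_congr e.toEquiv, Recognition.SympSix.prime_iff p pp, hp p pp]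
  · rw [hedge p q pp qq hpq]
    refine Iff.trans ?_ (Recognition.SympSix.edge_iff p q pp qq hpq)
    exact ⟨fun ⟨g, hg⟩ => ⟨e g, (e.orderOf_eq g).trans hg⟩, fun ⟨g, hg⟩ => ⟨e.symm g, (e.symm.orderOf_eq g).trans hg⟩⟩

end Cfsg.Agent.S3664
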