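import Cfsg.Statements.S3668
import Cfsg.Agent.Lib.SmallSimple.DegreeGraph6000.Main

set_option autoImplicit false
open Cfsg

namespace Cfsg.Agent.S3668

/-- The character degree graph of a finite group has as vertices the primes dividing some irreducible complex character degree, two distinct primes being joined when their product divides some irreducible character degree; two groups have the same character degree graph when they have the same vertices and the same joined pairs. Let S be a finite non-abelian simple group of order less than 6000. If a finite group G has the same order as S and the same character degree graph as S, then G is isomorphic to S. -/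
theorem result {S : Type*} [Group S] [Finite S] [IsSimpleGroup S] (hS : ¬ IsMulCommutative S)
    (hlt : Nat.card S < 6000) {G : Type*} [Group G] [Finite G] (hcard : Nat.card G = Nat.card S) (hΓ : Cfsg.degreePrimes G = Cfsg.degreePrimes S ∧ Cfsg.degreeGraph G = Cfsg.degreeGraph S) :
    Nonempty (G ≃* S) := by
  have hord := Cfsg.Agent.SmallSimple.DegreeGraph6000.mem_ord hS hlt
  haveI := Cfsg.Agent.SmallSimple.DegreeGraph6000.isSimple_of_graph hord hcard hΓ.1 hΓ.2
  exact Cfsg.Agent.SmallSimple.DegreeGraph6000.unique hord hcard

end Cfsg.Agent.S3668
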