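import Cfsg.Statements.S3669
import Cfsg.Agent.Recognition.OrderSixty
import Cfsg.Agent.Lib.CharTheory.Ito
import Cfsg.Agent.BlocksChars.SL2DegreeGraph
import Cfsg.Agent.S0494
import Cfsg.Agent.S0252

set_option autoImplicit false
open Cfsg

namespace Cfsg.Agent.S3669

/-- The character degree graph of a finite group has as vertices the primes dividing some irreducible complex character degree, two distinct primes being joined when their product divides some irreducible character degree; two groups have the same character degree graph when they have the same vertices and the same joined pairs. A finite group of order 60 with the same character degree graph as the alternating group A₅ (whose character degrees are 1, 3, 4, 5, so the graph has vertices 2, 3, 5 and no edges) is isomorphic to A₅. -/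
theorem result {G : Type*} [Group G] [Finite G] (hcard : Nat.card G = 60)
    (hΓ : Cfsg.degreePrimes G = Cfsg.degreePrimes (alternatingGroup (Fin 5)) ∧ Cfsg.degreeGraph G = Cfsg.degreeGraph (alternatingGroup (Fin 5))) : Nonempty (G ≃* alternatingGroup (Fin 5)) := by
  classical
  rcases Recognition.OrderSixty.simple_or_exists_abelian hcard with hs | ⟨A, hA, hAc, h5⟩
  · exact S0494.result hcard
  · exfalso
    have hF : Nat.card (GaloisField 2 2) = 4 := by rw [GaloisField.card 2 2 two_ne_zero]; norm_num
    haveI : Fintype (GaloisField 2 2) := Fintype.ofFinite _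
    rw [Nat.card_eq_fintype_card] at hF
    obtain ⟨e⟩ := S0252.result hF
    have hD := BlocksChars.SL2DegreeGraph.degSet_of_iso (F := GaloisField 2 2) (S := alternatingGroup (Fin 5))
      (by omega) (fun h => absurd h (by rw [hF]; decide)) (Or.inl ⟨e.symm⟩)
    have h5mem : 5 ∈ Cfsg.degreePrimes (alternatingGroup (Fin 5)) := by
      rw [BlocksChars.SL2DegreeGraph.degreePrimes_eq hD, hF]
      exact ⟨by norm_num, by norm_num⟩
    rw [← hΓ.1] at h5mem
    obtain ⟨-, d, ⟨χ, hχ⟩, h5d⟩ := h5mem
    obtain ⟨d', hd', hdvd⟩ := CharTheory.Ito.degree_dvd_index_abelian A hAc χ.2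
    have : Cfsg.charDegree (χ : G → ℂ) = d' := by
      rw [Cfsg.charDegree, hd', Complex.natCast_re, Nat.floor_natCast]
    rw [this] at hχ
    exact h5 (h5d.trans (hχ ▸ hdvd))

end Cfsg.Agent.S3669
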