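import Cfsg.Statements.S3678
import Cfsg.Agent.Recognition.SL2Orders

set_option autoImplicit false
open Cfsg Cfsg.Agent.Recognition.Extension Cfsg.Agent.Recognition.SL2Orders
open scoped MatrixGroups

namespace Cfsg.Agent.S3678

theorem orders_seven {F : Type*} [Field F] [Fintype F] (hF : Fintype.card F = 7)
    (x : Matrix.ProjectiveSpecialLinearGroup (Fin 2) F) :
    orderOf x ∣ 2 ∨ orderOf x ∣ 3 ∨ orderOf x ∣ 4 ∨ orderOf x ∣ 7 := by
  haveI : CharP F 7 := by
    haveI := Fact.mk (show Nat.Prime 7 by norm_num)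
    exact charP_of_card_eq_prime hF
  have h7 : (7 : F) = 0 := by exact_mod_cast CharP.cast_eq_zero F 7
  obtain ⟨g, rfl⟩ := QuotientGroup.mk_surjective x
  have key : ∀ k, 0 < k → lucU (g.1 0 0 + g.1 1 1) k = 0 →
      orderOf (QuotientGroup.mk g : Matrix.ProjectiveSpecialLinearGroup (Fin 2) F) ∣ k := by
    intro k hk h
    rw [orderOf_dvd_iff_pow_eq_one, ← QuotientGroup.mk_pow, QuotientGroup.eq_one_iff]
    exact pow_mem_center g hk h
  set t := g.1 0 0 + g.1 1 1 with ht
  have hroot : t ^ 7 = t := by rw [← hF]; exact FiniteField.pow_card t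
  have hf : t * (t ^ 2 - 1) * (t ^ 2 - 2) * (t ^ 2 - 4) = 0 := by
    linear_combination hroot + (-t ^ 5 + 2 * t ^ 3 - t) * h7
  simp only [mul_eq_zero] at hf
  rcases hf with ((h | h) | h) | h
  · exact Or.inl (key 2 (by norm_num) (by simp [lucU, h]))
  · exact Or.inr (Or.inl (key 3 (by norm_num) (by simp only [lucU]; linear_combination h)))
  · exact Or.inr (Or.inr (Or.inl (key 4 (by norm_num) (by simp only [lucU]; linear_combination t * h))))
  · refine Or.inr (Or.inr (Or.inr (key 7 (by norm_num) ?_)))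
    simp only [lucU]
    linear_combination (t ^ 4 - t ^ 2 + 2) * h + h7

theorem pow_eight {K : Type*} [Field K] [Fintype K] [CharP K 2] (hK : Fintype.card K = 8)
    (g : SL(2, K)) :
    orderOf g ∣ 2 ∨ orderOf g ∣ 3 ∨ orderOf g ∣ 7 ∨ orderOf g ∣ 9 := by
  have h2 : (2 : K) = 0 := CharTwo.two_eq_zero
  have key : ∀ k, 0 < k → lucU (g.1 0 0 + g.1 1 1) k = 0 → orderOf g ∣ k :=
    fun k hk h => orderOf_dvd_iff_pow_eq_one.2 (pow_eq_one g hk h)
  set t := g.1 0 0 + g.1 1 1 with ht
  have hroot : t ^ 8 = t := by rw [← hK]; exact FiniteField.pow_card t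
  have hf : t * (t + 1) * (t ^ 3 + t + 1) * (t ^ 3 + t ^ 2 + 1) = 0 := by
    linear_combination hroot + (t ^ 7 + t ^ 6 + 2 * t ^ 5 + 2 * t ^ 4 + t ^ 3 + t ^ 2 + t) * h2
  simp only [mul_eq_zero] at hf
  rcases hf with ((h | h) | h) | h
  · exact Or.inl (key 2 (by norm_num) (by simp [lucU, h]))
  · exact Or.inr (Or.inl (key 3 (by norm_num) (by simp only [lucU]; linear_combination (t - 1) * h)))
  · refine Or.inr (Or.inr (Or.inr (key 9 (by norm_num) ?_)))
    simp only [lucU]
    linear_combination (t + 1) ^ 2 * (t ^ 3 + t + 1) * h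
      + (-2 * t - 8 * t ^ 2 - 3 * t ^ 3 + 4 * t ^ 4 - 3 * t ^ 5 - 5 * t ^ 6 - t ^ 7) * h2
  · refine Or.inr (Or.inr (Or.inl (key 7 (by norm_num) ?_)))
    simp only [lucU]
    linear_combination (t ^ 3 + t ^ 2 + 1) * h + (-1 + 2 * t ^ 2 - t ^ 3 - 3 * t ^ 4 - t ^ 5) * h2

theorem isolated {G : Type*} [Group G] (g : G) (p q : ℕ) (hp : p.Prime) (hq : q.Prime)
    (hpq : p ≠ q)
    (h : orderOf g ∣ 2 ∨ orderOf g ∣ 3 ∨ orderOf g ∣ 4 ∨ orderOf g ∣ 7 ∨ orderOf g ∣ 9) :
    orderOf g ≠ p * q := by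
  intro he
  have hd : ∀ r a : ℕ, r.Prime → orderOf g ∣ r ^ a → False := by
    intro r a hr h'
    have h1 := (Nat.prime_dvd_prime_iff_eq hp hr).1
      (hp.dvd_of_dvd_pow (((dvd_mul_right p q).trans he.symm.dvd).trans h'))
    have h2 := (Nat.prime_dvd_prime_iff_eq hq hr).1
      (hq.dvd_of_dvd_pow (((dvd_mul_left q p).trans he.symm.dvd).trans h'))
    exact hpq (h1.trans h2.symm)
  rcases h with h | h | h | h | h
  · exact hd 2 1 Nat.prime_two (by simpa using h)
  · exact hd 3 1 Nat.prime_three (by simpa using h)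
  · exact hd 2 2 Nat.prime_two (by simpa using h)
  · exact hd 7 1 (by norm_num) (by simpa using h)
  · exact hd 3 2 Nat.prime_three (by simpa using h)

theorem primes_eq {G : Type*} [Group G] [Finite G]
    (h : ∀ g : G, orderOf g ∣ 2 ∨ orderOf g ∣ 3 ∨ orderOf g ∣ 4 ∨ orderOf g ∣ 7 ∨ orderOf g ∣ 9)
    (hw : ∀ p ∈ ({2, 3, 7} : Set ℕ), ∃ g : G, orderOf g = p) (p : ℕ) (hp : p.Prime) :
    p ∣ Nat.card G ↔ p ∈ ({2, 3, 7} : Set ℕ) := by
  constructor
  · intro hd
    haveI := Fact.mk hp
    obtain ⟨g, hg⟩ := exists_prime_orderOf_dvd_card' p hd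
    have := h g
    rw [hg] at this
    have hle : p ≤ 9 := by
      rcases this with h | h | h | h | h <;> exact (Nat.le_of_dvd (by norm_num) h).trans (by norm_num)
    interval_cases p <;> simp_all <;> norm_num at *
  · intro hm
    obtain ⟨g, hg⟩ := hw p hm
    exact hg ▸ orderOf_dvd_natCard g

theorem exists_root_seven {K : Type*} [Field K] [Fintype K] [CharP K 2] (hK : Fintype.card K = 8) :
    ∃ t : K, lucU t 7 = 0 := by
  classical
  by_contra hno
  push Not at hno
  have h2 : (2 : K) = 0 := CharTwo.two_eq_zero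
  -- all elements are then roots of a polynomial of degree five
  have hsub : (Finset.univ : Finset K) ⊆
      (Polynomial.roots (Polynomial.X * (Polynomial.X + 1) *
        (Polynomial.X ^ 3 + Polynomial.X + 1) : Polynomial K)).toFinset := by
    intro t _
    have hroot : t ^ 8 = t := by rw [← hK]; exact FiniteField.pow_card t
    have hf : t * (t + 1) * (t ^ 3 + t + 1) * (t ^ 3 + t ^ 2 + 1) = 0 := by
      linear_combination hroot +
        (t ^ 7 + t ^ 6 + 2 * t ^ 5 + 2 * t ^ 4 + t ^ 3 + t ^ 2 + t) * h2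
    have hne : t ^ 3 + t ^ 2 + 1 ≠ 0 := by
      intro h
      refine hno t ?_
      simp only [lucU]
      linear_combination (t ^ 3 + t ^ 2 + 1) * h + (-1 + 2 * t ^ 2 - t ^ 3 - 3 * t ^ 4 - t ^ 5) * h2
    rw [Multiset.mem_toFinset, Polynomial.mem_roots']
    refine ⟨?_, ?_⟩
    · intro h0
      have hm : (Polynomial.X * (Polynomial.X + 1) * (Polynomial.X ^ 3 + Polynomial.X + 1) :
          Polynomial K).Monic := by monicity!
      exact hm.ne_zero h0
    · simpa [Polynomial.IsRoot, hne] using hf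
  have hc := (Finset.card_le_card hsub).trans ((Multiset.toFinset_card_le _).trans
    (Polynomial.card_roots' _))
  rw [Finset.card_univ, hK] at hc
  have hdeg : (Polynomial.X * (Polynomial.X + 1) *
      (Polynomial.X ^ 3 + Polynomial.X + 1) : Polynomial K).natDegree ≤ 5 := by
    compute_degree
  omega

/-- There are arbitrarily large finite groups with the same prime graph as the projective special linear group of degree 2 over the field with 7 elements. -/
theorem result {F : Type*} [Field F] [Fintype F] (hF : Fintype.card F = 7) (N : ℕ) :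
    ∃ (H : Type) (_ : Group H) (_ : Finite H), N < Nat.card H ∧
      ((∀ p : ℕ, p.Prime → (p ∣ Nat.card (Matrix.ProjectiveSpecialLinearGroup (Fin 2) F) ↔ p ∣ Nat.card H)) ∧
      (∀ p q : ℕ, p.Prime → q.Prime → p ≠ q → ((∃ g : (Matrix.ProjectiveSpecialLinearGroup (Fin 2) F), orderOf g = p * q) ↔ (∃ g : H, orderOf g = p * q)))) := by
  classical
  let K := GaloisField 2 3
  haveI : Fintype K := Fintype.ofFinite K
  have hK : Fintype.card K = 8 := by
    rw [← Nat.card_eq_fintype_card, GaloisField.card 2 3 (by norm_num)]; rfl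
  have : Finite SL(2, F) := Subtype.finite
  have : Finite SL(2, K) := Subtype.finite
  haveI : CharP F 7 := by
    haveI := Fact.mk (show Nat.Prime 7 by norm_num)
    exact charP_of_card_eq_prime hF
  have h7 : (7 : F) = 0 := by exact_mod_cast CharP.cast_eq_zero F 7
  have h2K : (2 : K) = 0 := CharTwo.two_eq_zero
  have hF' : ∀ g : Matrix.ProjectiveSpecialLinearGroup (Fin 2) F, orderOf g ∣ 2 ∨ orderOf g ∣ 3 ∨
      orderOf g ∣ 4 ∨ orderOf g ∣ 7 ∨ orderOf g ∣ 9 := by
    intro g
    rcases orders_seven hF g with h | h | h | h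
    · exact Or.inl h
    · exact Or.inr (Or.inl h)
    · exact Or.inr (Or.inr (Or.inl h))
    · exact Or.inr (Or.inr (Or.inr (Or.inl h)))
  have hK' : ∀ g : SL(2, K), orderOf g ∣ 2 ∨ orderOf g ∣ 3 ∨
      orderOf g ∣ 4 ∨ orderOf g ∣ 7 ∨ orderOf g ∣ 9 := by
    intro g
    rcases pow_eight hK g with h | h | h | h
    · exact Or.inl h
    · exact Or.inr (Or.inl h)
    · exact Or.inr (Or.inr (Or.inr (Or.inl h)))
    · exact Or.inr (Or.inr (Or.inr (Or.inr h)))
  have hwF : ∀ p ∈ ({2, 3, 7} : Set ℕ),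
      ∃ g : Matrix.ProjectiveSpecialLinearGroup (Fin 2) F, orderOf g = p := by
    rintro p (rfl | rfl | rfl)
    · exact ⟨_, orderOf_mk_companion Nat.prime_two (0 : F) (by simp [lucU])⟩
    · exact ⟨_, orderOf_mk_companion Nat.prime_three (1 : F) (by simp [lucU])⟩
    · refine ⟨_, orderOf_mk_companion (by norm_num) (2 : F) ?_⟩
      simp only [lucU]
      linear_combination h7
  have hwK : ∀ p ∈ ({2, 3, 7} : Set ℕ), ∃ g : SL(2, K), orderOf g = p := by
    rintro p (rfl | rfl | rfl)
    · exact ⟨_, orderOf_companion Nat.prime_two (0 : K) (by simp [lucU])⟩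
    · exact ⟨_, orderOf_companion Nat.prime_three (1 : K) (by simp [lucU])⟩
    · obtain ⟨t, ht⟩ := exists_root_seven hK
      exact ⟨_, orderOf_companion (by norm_num) t ht⟩
  have hiso : SameGraph (Matrix.ProjectiveSpecialLinearGroup (Fin 2) F) SL(2, K) :=
    sameGraph_of_isolated {2, 3, 7} (primes_eq hF' hwF) (primes_eq hK' hwK)
      (fun g p q hp hq hpq => isolated g p q hp hq hpq (hF' g))
      (fun g p q hp hq hpq => isolated g p q hp hq hpq (hK' g))
  have h2 : 2 ∣ Nat.card SL(2, K) := (primes_eq hK' hwK 2 Nat.prime_two).2 (by simp)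
  have hgr : SameGraph SL(2, K) ((Fin N → Multiplicative (Fin 2 → K)) ⋊[copies natAut N] SL(2, K)) :=
    sameGraph_semidirect Nat.prime_two (pow_eq_one_copies (pow_char_eq_one (p := 2)) N) h2
      fun g hp h => (fpf_natAut_of_prime g hp h).copies N
  obtain ⟨H, i1, i2, hN', h⟩ :=
    exists_large_sameGraph N (lt_card_copies (natAut (F := K)) N) (hiso.trans hgr)
  have hN'' : N < Nat.card H := by rw [Nat.card_eq_fintype_card]; exact hN'
  refine ⟨H, i1, Finite.of_fintype H, hN'', ?_⟩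
  exact h

end Cfsg.Agent.S3678
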