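import Cfsg.Statements.S3680
import Cfsg.Agent.Lib.Perm.CharSimple

set_option autoImplicit false
open Cfsg MulAction

namespace Cfsg.Agent.S3680

variable {G Ω : Type*} [Group G] [MulAction G Ω]

theorem eq_one_of_comm [FaithfulSMul G Ω] (M : Subgroup G) (ht : IsPretransitive M Ω) {c : G}
    (hc : ∀ m ∈ M, m * c = c * m) {a : Ω} (ha : c • a = a) : c = 1 := by
  refine FaithfulSMul.eq_of_smul_eq_smul (α := Ω) fun x => ?_
  obtain ⟨m, rfl⟩ := exists_smul_eq M a x
  rw [one_smul]
  show c • ((m : G) • a) = (m : G) • a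
  rw [← mul_smul, ← hc m m.2, mul_smul, ha]

theorem le_of_commute [FaithfulSMul G Ω] (M A B : Subgroup G) (ht : IsPretransitive M Ω) (hAt : IsPretransitive A Ω) (a : Ω)
    (hA : ∀ m ∈ M, ∀ x ∈ A, m * x = x * m) (hB : ∀ m ∈ M, ∀ x ∈ B, m * x = x * m) : B ≤ A := by
  intro b hb
  obtain ⟨x, hx⟩ := exists_smul_eq A a (b • a)
  have h1 : b⁻¹ * (x : G) = 1 := by
    refine eq_one_of_comm M ht (fun m hm => ?_) (a := a) ?_
    · have h2 : m * b⁻¹ = b⁻¹ * m := (Commute.inv_right (hB m hm b hb)).eq
      rw [← mul_assoc, h2, mul_assoc, hA m hm x x.2, mul_assoc]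
    · rw [mul_smul, show (x : G) • a = b • a from hx, inv_smul_smul]
  rw [inv_mul_eq_one.1 h1]
  exact x.2

/-- The socle of a finite primitive permutation group. Let a finite group G act faithfully and primitively on a set Ω, and let N be the subgroup generated by the minimal normal subgroups of G. Then either N is an elementary abelian p-group acting regularly, or a direct product of isomorphic non-abelian simple groups. -/
theorem result {G Ω : Type*} [Group G] [Finite G] [MulAction G Ω] [FaithfulSMul G Ω] [Finite Ω]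
    (hprim : MulAction.IsPreprimitive G Ω) (N : Subgroup G)
    (hN : N = sSup {V : Subgroup G | V.Normal ∧ V ≠ ⊥ ∧ ∀ M : Subgroup G, M.Normal → M ≤ V → M = ⊥ ∨ M = V}) :
    (∃ p : ℕ, p.Prime ∧ IsMulCommutative N ∧ (∀ x : N, x ^ p = 1) ∧
      MulAction.IsPretransitive N Ω ∧ ∀ ω : Ω, MulAction.stabilizer N ω = ⊥) ∨
    (∃ (T : Type) (_ : Group T) (m : ℕ), 1 ≤ m ∧ IsSimpleGroup T ∧ ¬ IsMulCommutative T ∧ Nonempty (N ≃* (Fin m → T))) := by
  classical
  set S := {V : Subgroup G | V.Normal ∧ V ≠ ⊥ ∧ ∀ M : Subgroup G, M.Normal → M ≤ V → M = ⊥ ∨ M = V}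
    with hS
  rcases subsingleton_or_nontrivial Ω with hΩ | hΩ
  · haveI : Subsingleton G := ⟨fun g h => FaithfulSMul.eq_of_smul_eq_smul (α := Ω) fun x => Subsingleton.elim _ _⟩
    exact Or.inl ⟨2, Nat.prime_two, ⟨⟨fun a b => Subsingleton.elim _ _⟩⟩, fun x => Subsingleton.elim _ _,
      ⟨fun x y => ⟨1, Subsingleton.elim _ _⟩⟩, fun ω => Subsingleton.elim _ _⟩
  have hqp : IsQuasiPreprimitive G Ω := inferInstance
  have htrans : ∀ V ∈ S, IsPretransitive V Ω := by
    rintro V ⟨hVn, hV1, -⟩
    haveI := hVn
    refine hqp.isPretransitive_of_normal fun hfix => hV1 ((Subgroup.eq_bot_iff_forall _).2 fun g hg => ?_)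
    refine FaithfulSMul.eq_of_smul_eq_smul (α := Ω) fun x => ?_
    rw [one_smul]
    exact (hfix ▸ Set.mem_univ x : x ∈ fixedPoints V Ω) ⟨g, hg⟩
  haveI : Nontrivial G := by
    obtain ⟨a, b, hab⟩ := exists_pair_ne Ω
    haveI := hprim.toIsPretransitive
    obtain ⟨g, hg⟩ := exists_smul_eq G a b
    exact ⟨g, 1, fun h => hab (by rw [← hg, h, one_smul])⟩
  obtain ⟨M, hM⟩ : ∃ M, M ∈ S := by
    obtain ⟨V, hV1, hV2, hV3⟩ := Cfsg.Agent.Perm.CharSimple.exists_isMinNormal (X := G)
    exact ⟨V, hV1, hV2, hV3⟩
  obtain ⟨a⟩ : Nonempty Ω := inferInstance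
  haveI := hM.1
  have hMt := htrans M hM
  have hcomm : ∀ A ∈ S, ∀ B ∈ S, A ≠ B → ∀ x ∈ A, ∀ y ∈ B, x * y = y * x := by
    intro A hA B hB hne x hx y hy
    refine Subgroup.commute_of_normal_of_disjoint A B hA.1 hB.1 ?_ x y hx hy
    rw [disjoint_iff]
    haveI := hA.1
    haveI := hB.1
    rcases hA.2.2 (A ⊓ B) inferInstance inf_le_left with h | h
    · exact h
    · rcases hB.2.2 (A ⊓ B) inferInstance inf_le_right with h' | h'
      · exact h'
      · exact absurd (h.symm.trans h') hne
  obtain ⟨T, iT, k, hTs, hk, ⟨e⟩⟩ :=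
    Cfsg.Agent.Perm.CharSimple.exists_simple_power M hM.2.1 hM.2.2
  by_cases hab : IsMulCommutative M
  · left
    have huniq : ∀ A ∈ S, A = M := by
      intro A hA
      by_contra hne
      have hle : A ≤ M := le_of_commute M M A hMt hMt a
        (fun m hm x hx => congrArg Subtype.val (mul_comm' (⟨m, hm⟩ : M) ⟨x, hx⟩))
        (fun m hm x hx => hcomm M hM A hA (Ne.symm hne) m hm x hx)
      rcases hM.2.2 A hA.1 hle with h | h
      · exact hA.2.1 h
      · exact hne h
    have hNM : N = M := by
      rw [hN]
      refine le_antisymm (sSup_le fun A hA => (huniq A hA).le) (le_sSup hM)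
    subst hNM
    haveI := hab
    haveI : Nonempty (Fin k) := ⟨⟨0, hk⟩⟩
    letI : CommGroup T :=
      { (inferInstance : Group T) with
        mul_comm := fun x y => by
          have h := congrArg e (mul_comm' (e.symm fun _ => x) (e.symm fun _ => y))
          rw [map_mul, map_mul, e.apply_symm_apply, e.apply_symm_apply] at h
          exact congrFun h ⟨0, hk⟩ }
    haveI : Finite T := Finite.of_injective (fun t => e.symm fun _ => t) fun x y h =>
      congrFun (e.symm.injective h) ⟨0, hk⟩
    haveI := hTs
    refine ⟨Nat.card T, IsSimpleGroup.prime_card, hab, fun x => ?_, hMt, fun ω => ?_⟩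
    · apply e.injective
      rw [map_pow, map_one]
      funext i
      exact pow_card_eq_one'
    · refine (Subgroup.eq_bot_iff_forall _).2 fun n hn => Subtype.ext ?_
      exact eq_one_of_comm N hMt (fun m hm => congrArg Subtype.val (mul_comm' (⟨m, hm⟩ : N) n)) hn
  · right
    have hTc : ¬ IsMulCommutative T := fun h => hab ⟨⟨fun x y => e.injective (by
      rw [map_mul, map_mul]; funext i; exact mul_comm' _ _)⟩⟩
    by_cases hone : ∀ A ∈ S, A = M
    · have hNM : N = M := by
        rw [hN]
        exact le_antisymm (sSup_le fun A hA => (hone A hA).le) (le_sSup hM)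
      subst hNM
      exact ⟨T, iT, k, hk, hTs, hTc, ⟨e⟩⟩
    · push Not at hone
      obtain ⟨A, hA, hne⟩ := hone
      haveI := hA.1
      have hAt := htrans A hA
      have hMA : ∀ m ∈ M, ∀ x ∈ A, m * x = x * m := hcomm M hM A hA (Ne.symm hne)
      have htwo : ∀ B ∈ S, B = M ∨ B = A := by
        intro B hB
        by_contra hno
        simp only [not_or] at hno
        have hle : B ≤ A := le_of_commute M A B hMt hAt a hMA (hcomm M hM B hB (Ne.symm hno.1))
        rcases hA.2.2 B hB.1 hle with h | h
        · exact hB.2.1 h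
        · exact hno.2 h
      have hNMA : N = M ⊔ A := by
        rw [hN]
        refine le_antisymm (sSup_le fun B hB => ?_) (sup_le (le_sSup hM) (le_sSup hA))
        rcases htwo B hB with rfl | rfl
        · exact le_sup_left
        · exact le_sup_right
      have hex : ∀ m : M, ∃ x : A, (x : G) • a = (m : G)⁻¹ • a := fun m => exists_smul_eq A a _
      choose f hf using hex
      have hinjA : ∀ x y : A, (x : G) • a = (y : G) • a → x = y := by
        intro x y h
        have h1 : (y : G)⁻¹ * x = 1 := by
          refine eq_one_of_comm M hMt (fun m hm => hMA m hm _ (A.mul_mem (A.inv_mem y.2) x.2)) (a := a) ?_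
          rw [mul_smul, h, inv_smul_smul]
        exact Subtype.ext (inv_mul_eq_one.1 h1).symm
      have hinjM : ∀ x y : M, (x : G) • a = (y : G) • a → x = y := by
        intro x y h
        have h1 : (y : G)⁻¹ * x = 1 := by
          refine eq_one_of_comm A hAt
            (fun m hm => (hMA _ (M.mul_mem (M.inv_mem y.2) x.2) m hm).symm) (a := a) ?_
          rw [mul_smul, h, inv_smul_smul]
        exact Subtype.ext (inv_mul_eq_one.1 h1).symm
      let φ : M →* A := MonoidHom.mk' f fun m m' => hinjA _ _ (by
        rw [hf]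
        show _ = ((f m : G) * f m') • a
        rw [mul_smul, hf, ← mul_smul (f m : G), ← hMA _ (M.inv_mem m'.2) _ (f m).2, mul_smul, hf,
          ← mul_smul, ← mul_inv_rev, Subgroup.coe_mul])
      have hφ : Function.Bijective φ := by
        refine ⟨fun m m' h => ?_, fun x => ?_⟩
        · have h' : (m : G)⁻¹ • a = (m' : G)⁻¹ • a := by
            rw [← hf, ← hf, show f m = f m' from h]
          exact inv_injective (hinjM m⁻¹ m'⁻¹ (by simpa using h'))
        · obtain ⟨m, hm⟩ := exists_smul_eq M a ((x : G) • a)
          refine ⟨m⁻¹, hinjA _ _ ?_⟩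
          show (f m⁻¹ : G) • a = _
          rw [hf]
          rw [InvMemClass.coe_inv, inv_inv]; exact hm
      let mulMA : M × A →* (M ⊔ A : Subgroup G) :=
        { toFun := fun z => ⟨z.1.1 * z.2.1, Subgroup.mul_mem_sup z.1.2 z.2.2⟩
          map_one' := Subtype.ext (by simp)
          map_mul' := fun z w => Subtype.ext (by
            show z.1.1 * w.1.1 * (z.2.1 * w.2.1) = z.1.1 * z.2.1 * (w.1.1 * w.2.1)
            rw [mul_assoc, ← mul_assoc w.1.1, hMA _ w.1.2 _ z.2.2]
            group) }
      have hbij : Function.Bijective mulMA := by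
        constructor
        · refine (injective_iff_map_eq_one _).2 fun z hz => ?_
          have h : z.1.1 * z.2.1 = 1 := congrArg Subtype.val hz
          have hd : M ⊓ A = ⊥ := by
            rcases hM.2.2 (M ⊓ A) inferInstance inf_le_left with h' | h'
            · exact h'
            · rcases hA.2.2 (M ⊓ A) inferInstance inf_le_right with h'' | h''
              · exact h''
              · exact absurd (h'.symm.trans h'').symm hne
          have h1 : z.1.1 ∈ M ⊓ A := ⟨z.1.2, by rw [eq_inv_of_mul_eq_one_left h]; exact A.inv_mem z.2.2⟩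
          rw [hd, Subgroup.mem_bot] at h1
          rw [h1, one_mul] at h
          exact Prod.ext (Subtype.ext h1) (Subtype.ext h)
        · rintro ⟨x, hx⟩
          rw [← SetLike.mem_coe, Subgroup.normal_mul] at hx
          obtain ⟨m, hm, y, hy, rfl⟩ := hx
          exact ⟨⟨⟨m, hm⟩, ⟨y, hy⟩⟩, rfl⟩
      let pair : (Fin k → T) × (Fin k → T) ≃* (Fin (k + k) → T) :=
        { toFun := fun z => Fin.append z.1 z.2
          invFun := fun g => (fun i => g (Fin.castAdd k i), fun i => g (Fin.natAdd k i))
          left_inv := fun z => by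
            refine Prod.ext (funext fun i => ?_) (funext fun i => ?_)
            · exact Fin.append_left _ _ i
            · exact Fin.append_right _ _ i
          right_inv := fun g => by
            funext i
            induction i using Fin.addCases with
            | left i => exact Fin.append_left _ _ i
            | right i => exact Fin.append_right _ _ i
          map_mul' := fun z w => by
            funext i
            induction i using Fin.addCases with
            | left i => simp only [Pi.mul_apply, Prod.fst_mul, Prod.snd_mul, Fin.append_left]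
            | right i => simp only [Pi.mul_apply, Prod.fst_mul, Prod.snd_mul, Fin.append_right] }
      subst hNMA
      exact ⟨T, iT, k + k, by omega, hTs, hTc,
        ⟨(MulEquiv.ofBijective mulMA hbij).symm.trans
          ((MulEquiv.prodCongr e ((MulEquiv.ofBijective φ hφ).symm.trans e)).trans pair)⟩⟩

end Cfsg.Agent.S3680
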