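import Cfsg.Statements.S3681


set_option autoImplicit false
open Cfsg

namespace Cfsg.Agent.S3681

/-- Bochert's bound for primitive groups. Let a finite group G act faithfully and primitively on a finite set Ω with n elements, and suppose the image of G in the symmetric group of Ω does not contain the alternating group of Ω. Then |G| · ⌊(n + 1)/2⌋! ≤ n!, that is, the index of G in the symmetric group is at least ⌊(n + 1)/2⌋!. -/
theorem result {G Ω : Type*} [Group G] [Finite G] [MulAction G Ω] [FaithfulSMul G Ω] [Fintype Ω] [DecidableEq Ω]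
    (hprim : MulAction.IsPreprimitive G Ω) (hA : ¬ alternatingGroup Ω ≤ (MulAction.toPermHom G Ω).range) :
    Nat.card G * Nat.factorial ((Fintype.card Ω + 1) / 2) ≤ Nat.factorial (Fintype.card Ω) := by
  classical
  -- the permutations of the group
  set K := (MulAction.toPermHom G Ω).range with hKdef
  have hinj : Function.Injective (MulAction.toPermHom G Ω) := fun a b h =>
    FaithfulSMul.eq_of_smul_eq_smul (α := Ω) fun x => congrFun (congrArg DFunLike.coe h) x
  have hcard : Nat.card G = Nat.card K := Nat.card_congr (MonoidHom.ofInjective hinj).toEquiv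
  haveI hprimK : MulAction.IsPreprimitive K Ω := by
    let f : Ω →ₑ[(MulAction.toPermHom G Ω).rangeRestrict] Ω := ⟨id, fun _ _ => rfl⟩
    exact MulAction.IsPreprimitive.of_surjective (f := f) Function.surjective_id
  -- no three-cycle
  have h3 : ∀ g : Equiv.Perm Ω, g ∈ K → ¬ g.IsThreeCycle := fun g hg h =>
    hA (Equiv.Perm.alternatingGroup_le_of_isPreprimitive_of_isThreeCycle_mem hprimK h hg)
  -- the good sets: trivial intersection with the symmetric group on the set
  let Good : Finset Ω → Prop := fun Γ => ∀ g ∈ K, g.support ⊆ Γ → g = 1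
  have hne : (Finset.univ.filter Good).Nonempty :=
    ⟨∅, Finset.mem_filter.2 ⟨Finset.mem_univ _, fun g _ hg => Equiv.Perm.support_eq_empty_iff.1 (Finset.subset_empty.1 hg)⟩⟩
  obtain ⟨Γ, hΓ, hmax⟩ := Finset.exists_max_image _ Finset.card hne
  have hΓg : Good Γ := (Finset.mem_filter.1 hΓ).2
  have hcompl : Good Γᶜ := by
    intro h hh hsupp
    by_contra hne1
    obtain ⟨a, ha⟩ : h.support.Nonempty :=
      Finset.nonempty_iff_ne_empty.2 fun e => hne1 (Equiv.Perm.support_eq_empty_iff.1 e)
    have haΓ : a ∉ Γ := Finset.mem_compl.1 (hsupp ha)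
    obtain ⟨g, hg, hgs, hg1⟩ : ∃ g ∈ K, g.support ⊆ insert a Γ ∧ g ≠ 1 := by
      by_contra hcon
      push_neg at hcon
      have := hmax (insert a Γ) (Finset.mem_filter.2 ⟨Finset.mem_univ _, hcon⟩)
      rw [Finset.card_insert_of_notMem haΓ] at this
      omega
    have hga : g a ≠ a := by
      intro e
      refine hg1 (hΓg g hg fun x hx => ?_)
      rcases Finset.mem_insert.1 (hgs hx) with rfl | hx'
      · exact absurd e (Equiv.Perm.mem_support.1 hx)
      · exact hx'
    have hha : h a ≠ a := Equiv.Perm.mem_support.1 ha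
    -- points moved by both
    have honly : ∀ x, g x ≠ x → h x ≠ x → x = a := by
      intro x hgx hhx
      rcases Finset.mem_insert.1 (hgs (Equiv.Perm.mem_support.2 hgx)) with rfl | hx'
      · rfl
      · exact absurd hx' (Finset.mem_compl.1 (hsupp (Equiv.Perm.mem_support.2 hhx)))
    have hgfix : ∀ x, x ≠ a → h x ≠ x → g x = x := fun x hx hhx => by
      by_contra e; exact hx (honly x e hhx)
    have hhfix : ∀ x, x ≠ a → g x ≠ x → h x = x := fun x hx hgx => by
      by_contra e; exact hx (honly x hgx e)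
    have hhh : h (h a) ≠ h a := fun e => hha (h.injective e)
    have hgg : g (g a) ≠ g a := fun e => hga (g.injective e)
    have hgha : g (h a) = h a := hgfix _ hha hhh
    have hhga : h (g a) = g a := hhfix _ hga hgg
    have hghne : g a ≠ h a := fun e => by rw [e] at hgg; exact hgg hgha
    refine h3 (g * h * g⁻¹ * h⁻¹) (K.mul_mem (K.mul_mem (K.mul_mem hg hh) (K.inv_mem hg)) (K.inv_mem hh)) ?_
    have hab : a ≠ g a := hga.symm
    have hmove : ∀ (f : Equiv.Perm Ω) (x : Ω), f x ≠ x → f (f⁻¹ x) ≠ f⁻¹ x := fun f x hx e => by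
      apply hx
      have := congrArg f e
      simpa using this
    have key : g * h * g⁻¹ * h⁻¹ = Equiv.swap a (h a) * Equiv.swap a (g a) := by
      ext x
      simp only [Equiv.Perm.mul_apply]
      rcases eq_or_ne x a with rfl | hxa
      · have hne' : h⁻¹ x ≠ x := fun e => hha (by conv_lhs => rw [← e]; simp)
        have : g⁻¹ (h⁻¹ x) = h⁻¹ x :=
          Equiv.Perm.inv_eq_iff_eq.2 (hgfix _ hne' (hmove h x hha)).symm
        rw [this, show h (h⁻¹ x) = x from h.apply_symm_apply x, Equiv.swap_apply_left,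
          Equiv.swap_apply_of_ne_of_ne hga hghne]
      rcases eq_or_ne x (h a) with rfl | hxb
      · have hne' : g⁻¹ a ≠ a := fun e => hga (by conv_lhs => rw [← e]; simp)
        rw [show h⁻¹ (h a) = a from h.symm_apply_apply a, hhfix _ hne' (hmove g a hga),
          show g (g⁻¹ a) = a from g.apply_symm_apply a, Equiv.swap_apply_of_ne_of_ne hxa hghne.symm,
          Equiv.swap_apply_right]
      rcases eq_or_ne x (g a) with rfl | hxd
      · rw [show h⁻¹ (g a) = g a from Equiv.Perm.inv_eq_iff_eq.2 hhga.symm,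
          show g⁻¹ (g a) = a from g.symm_apply_apply a, hgha, Equiv.swap_apply_right, Equiv.swap_apply_left]
      rw [Equiv.swap_apply_of_ne_of_ne hxa hxd, Equiv.swap_apply_of_ne_of_ne hxa hxb]
      by_cases hhx : h x = x
      · rw [show h⁻¹ x = x from Equiv.Perm.inv_eq_iff_eq.2 hhx.symm]
        by_cases hgx : g x = x
        · rw [show g⁻¹ x = x from Equiv.Perm.inv_eq_iff_eq.2 hgx.symm, hhx, hgx]
        · have hne' : g⁻¹ x ≠ a := fun e => hxd (by rw [← e]; simp)
          rw [hhfix _ hne' (hmove g x hgx)]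
          simp
      · have hne' : h⁻¹ x ≠ a := fun e => hxb (by rw [← e]; simp)
        rw [show g⁻¹ (h⁻¹ x) = h⁻¹ x from Equiv.Perm.inv_eq_iff_eq.2 (hgfix _ hne' (hmove h x hhx)).symm,
          show h (h⁻¹ x) = x from h.apply_symm_apply x]
        exact hgfix x hxa hhx
    rw [key]
    exact Equiv.Perm.isThreeCycle_swap_mul_swap_same hha.symm hga.symm hghne.symm
  have hle : (Fintype.card Ω + 1) / 2 ≤ Γ.card := by
    have := hmax Γᶜ (Finset.mem_filter.2 ⟨Finset.mem_univ _, hcompl⟩)
    rw [Finset.card_compl] at this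
    omega
  -- the pairs (element, permutation of the good set) inject into all permutations
  have hmul : Nat.card K * Nat.card (Equiv.Perm Γ) ≤ Nat.card (Equiv.Perm Ω) := by
    rw [← Nat.card_prod]
    refine Nat.card_le_card_of_injective
      (fun p : K × Equiv.Perm Γ => (p.1 : Equiv.Perm Ω) * Equiv.Perm.ofSubtype p.2) ?_
    rintro ⟨k, s⟩ ⟨k', s'⟩ e
    have e' : ((k'⁻¹ * k : K) : Equiv.Perm Ω) = Equiv.Perm.ofSubtype (s' * s⁻¹) := by
      simp only [Subgroup.coe_mul, Subgroup.coe_inv, map_mul, map_inv] at e ⊢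
      rw [eq_mul_inv_iff_mul_eq, mul_assoc, e, inv_mul_cancel_left]
    have h1 : ((k'⁻¹ * k : K) : Equiv.Perm Ω) = 1 := hΓg _ (k'⁻¹ * k).2 fun x hx => by
      rw [e', Equiv.Perm.mem_support] at hx
      by_contra hxΓ
      exact hx (Equiv.Perm.ofSubtype_apply_of_not_mem _ hxΓ)
    rw [h1] at e'
    have hk : k' = k := inv_mul_eq_one.1 (Subtype.ext h1)
    have hs : s' * s⁻¹ = 1 := Equiv.Perm.ofSubtype_injective (e'.symm.trans (map_one _).symm)
    exact Prod.ext hk.symm (mul_inv_eq_one.1 hs).symm
  rw [Nat.card_eq_fintype_card (α := Equiv.Perm Ω), Fintype.card_perm,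
    Nat.card_eq_fintype_card (α := Equiv.Perm Γ), Fintype.card_perm, Fintype.card_coe] at hmul
  rw [hcard]
  exact (Nat.mul_le_mul_left _ (Nat.factorial_le hle)).trans hmul

end Cfsg.Agent.S3681
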