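import Cfsg.Statements.S3682
import Cfsg.Agent.Lib.Perm.ThompsonWielandtPerm

set_option autoImplicit false
open Cfsg
open Subgroup Cfsg.Agent.Components Cfsg.Agent.ThompsonWielandt

namespace Cfsg.Agent.S3682

/-- Wielandt's bound toward the Sims conjecture. Let a finite group G act faithfully and primitively on a set Ω, let a and b be points, and suppose the orbit of b under the stabilizer of a has length d ≥ 2. Then there are a prime p and a normal p-subgroup P of the stabilizer of a, all of whose elements fix b, such that the index of P in the stabilizer of a divides d! · ((d - 1)!)^d. -/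
theorem result {G Ω : Type*} [Group G] [Finite G] [MulAction G Ω] [FaithfulSMul G Ω] [Finite Ω]
    (hprim : MulAction.IsPreprimitive G Ω) (a b : Ω) (d : ℕ) (hd : Nat.card (MulAction.orbit (MulAction.stabilizer G a) b) = d) (h2 : 2 ≤ d) :
    ∃ p : ℕ, p.Prime ∧ ∃ P : Subgroup (MulAction.stabilizer G a), P.Normal ∧ IsPGroup p P ∧ (∀ g : P, ((g : MulAction.stabilizer G a) : G) • b = b) ∧
      P.index ∣ Nat.factorial d * (Nat.factorial (d - 1)) ^ d := by
  obtain ⟨hM, hcore, ⟨g, hg⟩, hne, hidx⟩ := stabilizer_setup hprim a b hd h2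
  rcases bound_or_pGroup hM hcore hg hne hidx with h | ⟨p, hp, -, -, hAp⟩
  · refine ⟨2, Nat.prime_two, ⊥, inferInstance, IsPGroup.of_bot, fun x => ?_, by rwa [index_bot]⟩
    rw [mem_bot.mp x.2, OneMemClass.coe_one, one_smul]
  · refine ⟨p, hp, (cr (MulAction.stabilizer G a) (cr (MulAction.stabilizer G b)
      (MulAction.stabilizer G a ⊓ MulAction.stabilizer G b))).subgroupOf _,
      normal_subgroupOf_of_le_normalizer (le_normalizer_cr _ _), hAp.comap_subtype, fun x => ?_, ?_⟩
    · exact cr_le_left _ _ (cr_le _ _ (mem_subgroupOf.mp x.2))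
    · exact relIndex_cr_cr_dvd (by rw [hg]; exact (card_map_of_injective (MulAut.conj g).injective).symm) hidx

end Cfsg.Agent.S3682
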