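import Cfsg.Statements.S3686
import Cfsg.Agent.S3685
import Cfsg.Agent.Lib.Perm.CubicInsoluble.Small
import Cfsg.Agent.Lib.Perm.CubicInsoluble.Dihedral12
import Cfsg.Agent.Lib.Perm.CubicInsoluble.PSLMax
import Cfsg.Agent.Lib.Perm.CubicInsoluble.FourMain
import Cfsg.Agent.Lib.Perm.CubicInsoluble.TwoMain

set_option autoImplicit false
open Cfsg

namespace Cfsg.Agent.S3686

/-- Let G be a finite insoluble group acting faithfully and primitively on a set Ω so that the stabilizer of a point a has an orbit of length 3. Then G is isomorphic to one of: the alternating or the symmetric group of degree 5, PGL(2, 7), PSL(2, 11), PSL(2, 13), PSL(2, p) for a prime p ≡ ±1 (mod 16), PSL(3, 3), or a group containing a normal subgroup of index 2 isomorphic to PSL(3, 3) with trivial centralizer. -/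
theorem result {G Ω : Type*} [Group G] [Finite G] [MulAction G Ω] [FaithfulSMul G Ω] [Finite Ω]
    (hsol : ¬ Group.IsSolvable G) (hprim : MulAction.IsPreprimitive G Ω) (a b : Ω) (h3 : Nat.card (MulAction.orbit (MulAction.stabilizer G a) b) = 3) :
    Nonempty (G ≃* alternatingGroup (Fin 5)) ∨ Nonempty (G ≃* Equiv.Perm (Fin 5)) ∨
      Nonempty (G ≃* GL (Fin 2) (ZMod 7) ⧸ Subgroup.center (GL (Fin 2) (ZMod 7))) ∨
      Nonempty (G ≃* Matrix.ProjectiveSpecialLinearGroup (Fin 2) (ZMod 11)) ∨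
      Nonempty (G ≃* Matrix.ProjectiveSpecialLinearGroup (Fin 2) (ZMod 13)) ∨
      (∃ p : ℕ, p.Prime ∧ (p % 16 = 1 ∨ p % 16 = 15) ∧ Nonempty (G ≃* Matrix.ProjectiveSpecialLinearGroup (Fin 2) (ZMod p))) ∨
      Nonempty (G ≃* Matrix.ProjectiveSpecialLinearGroup (Fin 3) (ZMod 3)) ∨
      (∃ N : Subgroup G, N.Normal ∧ N.index = 2 ∧ Subgroup.centralizer (N : Set G) = ⊥ ∧
        Nonempty (N ≃* Matrix.ProjectiveSpecialLinearGroup (Fin 3) (ZMod 3))) := by
  obtain ⟨hmax, hcore, g, hg, hcard⟩ := Perm.CubicInsoluble.Basic.facts hprim a b h3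
  set H := MulAction.stabilizer G a
  rcases S3685.result hprim a b h3 with ⟨⟨e⟩⟩ | ⟨⟨e⟩⟩ | ⟨⟨e⟩⟩ | ⟨⟨e⟩⟩ | ⟨⟨e⟩⟩
  · exact (Perm.CubicInsolubleSmall.false_of_order_three hsol hmax (by
      rw [Nat.card_congr e.toEquiv, Nat.card_eq_fintype_card, Fintype.card_multiplicative, ZMod.card])).elim
  · exact Or.inl (Perm.CubicInsolubleSmall.alternating_of_sym_three hsol hmax hcore e)
  · rcases Perm.CubicInsolubleDihedral.cases_of_dihedral hsol hmax hcore e with h | h | h | h
    · exact Or.inr (Or.inl h)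
    · exact Or.inr (Or.inr (Or.inl h))
    · exact Or.inr (Or.inr (Or.inr (Or.inl h)))
    · exact Or.inr (Or.inr (Or.inr (Or.inr (Or.inl h))))
  · have h24 : Nat.card H = 24 := by
      rw [Nat.card_congr e.toEquiv, Nat.card_eq_fintype_card, Fintype.card_perm, Fintype.card_fin]; rfl
    have D : Perm.CubicInsoluble.FourSym.Data H := ⟨hmax, hcore, ⟨e⟩, g, hg, by omega⟩
    rcases Perm.CubicInsoluble.FourMain.result D with ⟨F, i1, i2, hodd, -, ⟨f⟩⟩ | h
    · have h16 := Perm.CubicInsoluble.FourSym.sixteen D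
      rw [Nat.card_congr f.toEquiv] at h16
      obtain ⟨hp, hmod⟩ := Perm.CubicInsolublePSLMax.prime_of_maximal_sym_four hodd h16
        (M := H.map f.toMonoidHom) ((OrderIso.isCoatom_iff f.mapSubgroup H).2 hmax)
        ((H.equivMapOfInjective f.toMonoidHom f.injective).symm.trans e)
      exact Or.inr (Or.inr (Or.inr (Or.inr (Or.inr (Or.inl ⟨_, hp, hmod,
        Perm.CubicInsoluble.Basic.psl_zmod hp rfl f⟩)))))
    · exact Or.inr (Or.inr (Or.inr (Or.inr (Or.inr (Or.inr (Or.inl h))))))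
  · have h48 : Nat.card H = 48 := Perm.CubicInsoluble.TwoTransfer.card_H e
    obtain ⟨N, h⟩ := Perm.CubicInsoluble.TwoMain.result (H := H) ⟨hmax, hcore, ⟨e⟩, g, hg, by omega⟩
    exact Or.inr (Or.inr (Or.inr (Or.inr (Or.inr (Or.inr (Or.inr ⟨N, h⟩))))))

end Cfsg.Agent.S3686
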