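import Cfsg.Statements.S3693
import Cfsg.Agent.Lib.Perm.ThompsonWielandtPerm

set_option autoImplicit false
open Cfsg
open Subgroup Cfsg.Agent.Components Cfsg.Agent.ThompsonWielandt

namespace Cfsg.Agent.S3693

/-- Let a finite group G act faithfully and primitively on a set Ω, let a and b be points such that the orbit Δ of b under the stabilizer H of a has length d ≥ 2, and consider the permutation group induced on Δ by the elements of H fixing b. If that induced group has trivial Fitting subgroup (no non-trivial nilpotent normal subgroup), then the two-point stabilizer of a and b has trivial Fitting subgroup and the order of H divides d! · ((d - 1)!)^d. -/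
theorem result {G Ω : Type*} [Group G] [Finite G] [MulAction G Ω] [FaithfulSMul G Ω] [Finite Ω]
    (hprim : MulAction.IsPreprimitive G Ω) (a b : Ω) (d : ℕ) (hd : Nat.card (MulAction.orbit (MulAction.stabilizer G a) b) = d) (h2 : 2 ≤ d)
    (hF : Cfsg.fittingSubgroup ↥(((MulAction.stabilizer G b).subgroupOf (MulAction.stabilizer G a)).map (MulAction.toPermHom (MulAction.stabilizer G a) (MulAction.orbit (MulAction.stabilizer G a) b))) = ⊥) :
    Cfsg.fittingSubgroup ↥(MulAction.stabilizer G a ⊓ MulAction.stabilizer G b) = ⊥ ∧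
      Nat.card (MulAction.stabilizer G a) ∣ Nat.factorial d * (Nat.factorial (d - 1)) ^ d := by
  obtain ⟨hM, hcore, ⟨g, hg⟩, hne, hidx⟩ := stabilizer_setup hprim a b hd h2
  set M := MulAction.stabilizer G a with hMdef
  set N := MulAction.stabilizer G b with hNdef
  set K := cr M (M ⊓ N) with hK
  have hKH : K ≤ M ⊓ N := cr_le _ _
  have hKn : M ≤ normalizer (K : Set G) := le_normalizer_cr _ _
  -- nilpotent normal subgroups of the two-point stabiliser lie in the kernel on the orbit
  have hY : ∀ X : Subgroup G, X ≤ M ⊓ N → M ⊓ N ≤ normalizer (X : Set G) → Group.IsNilpotent X → X ≤ K := by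
    intro X hX hn hnil x hx
    set f := MulAction.toPermHom M (MulAction.orbit M b)
    set S := N.subgroupOf M with hS
    set X' : Subgroup M := X.subgroupOf M with hX'
    have hXS : X' ≤ S := fun y hy => (hX hy).2
    have hXn : (X'.subgroupOf S).Normal := normal_subgroupOf_of_le_normalizer fun y hy =>
      mem_normalizer_iff.mpr fun z => mem_normalizer_iff.mp (hn ⟨y.2, hy⟩) (z : G)
    have hnil' : Group.IsNilpotent (X'.subgroupOf S) :=
      Group.nilpotent_of_mulEquiv ((subgroupOfEquivOfLe hXS).trans (subgroupOfEquivOfLe (hX.trans inf_le_left))).symm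
    set φ : S →* S.map f := f.subgroupMap S
    have hφn : ((X'.subgroupOf S).map φ).Normal := hXn.map φ (f.subgroupMap_surjective S)
    have hφnil : Group.IsNilpotent ((X'.subgroupOf S).map φ) :=
      Group.nilpotent_of_surjective (φ.subgroupMap (X'.subgroupOf S)) (φ.subgroupMap_surjective _)
    have hbot : (X'.subgroupOf S).map φ ≤ ⊥ := hF ▸ Fitting.le_fitting hφnil
    have hfx : f ⟨x, (hX hx).1⟩ = 1 := congrArg Subtype.val
      (mem_bot.mp (hbot ⟨⟨⟨x, (hX hx).1⟩, (hX hx).2⟩, hx, rfl⟩))
    refine mem_cr.mpr ⟨(hX hx).1, fun m hm => ⟨M.mul_mem (M.mul_mem hm (hX hx).1) (M.inv_mem hm), ?_⟩⟩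
    have h' : x • (m⁻¹ • b) = m⁻¹ • b := congrArg Subtype.val
      (Equiv.Perm.congr_fun hfx ⟨m⁻¹ • b, ⟨⟨m⁻¹, M.inv_mem hm⟩, rfl⟩⟩)
    show (m * x * m⁻¹) • b = b
    rw [mul_smul, mul_smul, h', smul_inv_smul]
  have hprimM := prim_of_isCoatom hM hcore
  have hprimN : Prim N := hg ▸ prim_of_isCoatom (isCoatom_conj hM g) (normalCore_conj hcore g)
  -- the cores of the two-point stabiliser are trivial
  have hcore0 : ∀ p : ℕ, p.Prime → MaximalPair.core p (M ⊓ N) = ⊥ := by
    intro p hp
    have : Fact p.Prime := ⟨hp⟩
    set P := MaximalPair.core p (M ⊓ N) with hP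
    have hPp : IsPGroup p P := MaximalPair.core_isPGroup p _
    have hPH : P ≤ M ⊓ N := map_subtype_le _
    have hPK : P ≤ K := hY P hPH (MaximalPair.le_normalizer_core p _) hPp.isNilpotent
    have e : P = MaximalPair.core p K := by
      refine le_antisymm (le_core hPK (normal_subgroupOf_of_le_normalizer
          (hKH.trans (MaximalPair.le_normalizer_core p _))).isSubnormal hPp)
        (le_core ((map_subtype_le _).trans hKH) ?_ (MaximalPair.core_isPGroup p K))
      exact isSubnormal_subgroupOf (map_subtype_le _) hKH (inf_le_left.trans hKn)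
        (MaximalPair.le_normalizer_core p K)
    have hPM : M ≤ normalizer (P : Set G) := by
      have key : ∀ m ∈ M, ∀ y ∈ P, m * y * m⁻¹ ∈ P := by
        intro m hm y hy
        rw [e] at hy
        obtain ⟨⟨z, hzK⟩, hz, rfl⟩ := hy
        let c : K ≃* K :=
          { toFun := fun k => ⟨m * k * m⁻¹, conj_mem hKn hm k.2⟩
            invFun := fun k => ⟨m⁻¹ * k * m, conj_mem' hKn hm k.2⟩
            left_inv := fun k => Subtype.ext (by group)
            right_inv := fun k => Subtype.ext (by group)
            map_mul' := fun k l => Subtype.ext (by simp only [Subgroup.coe_mul]; group) }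
        have hc := Cores.map_pCore_eq c p
        rw [e]
        exact ⟨c ⟨z, hzK⟩, hc ▸ mem_map_of_mem _ hz, rfl⟩
      intro m hm
      exact mem_normalizer_iff.mpr fun y => ⟨key m hm y, fun h => by
        simpa [mul_assoc] using key m⁻¹ (M.inv_mem hm) _ h⟩
    by_contra hne0
    -- the conjugate of `P` at `b`
    set R := P.map (MulAut.conj g).toMonoidHom with hR
    have hRN : R ≤ N := hg ▸ Subgroup.map_mono (hPH.trans inf_le_left)
    have hRp : IsPGroup p R := hPp.map _
    have hNR : N ≤ normalizer (R : Set G) := by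
      rw [hg]
      exact (Subgroup.map_mono hPM).trans (le_normalizer_map _)
    have hR0 : R ≠ ⊥ := fun h => hne0 ((map_eq_bot_iff_of_injective P (MulAut.conj g).injective).mp h)
    have hnR : normalizer (R : Set G) ≤ N := hprimN R hR0 hRN hNR
    have hnP : normalizer (P : Set G) ≤ M := hprimM P hne0 (hPH.trans inf_le_left) hPM
    have hR0' : R ⊓ M ≤ P := by
      refine le_core (le_inf inf_le_right (inf_le_left.trans hRN))
        (normal_subgroupOf_of_le_normalizer fun z hz => ?_).isSubnormal (hRp.to_le inf_le_left)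
      exact inf_normalizer_le_normalizer_inf ⟨hNR hz.2, le_normalizer hz.1⟩
    have hPR : P ≤ normalizer (R : Set G) := (hPH.trans inf_le_right).trans hNR
    have hW : IsPGroup p ↥(P ⊔ R) := hPp.to_sup_of_normal_right' hRp hPR
    have := hW.isNilpotent
    have htop : P.subgroupOf (P ⊔ R) = ⊤ := by
      refine normalizerCondition_iff_only_full_group_self_normalizing.mp
        Group.normalizerCondition_of_isNilpotent _ (le_antisymm ?_ le_normalizer)
      intro w hw
      have hwN : (w : G) ∈ normalizer (P : Set G) := by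
        refine mem_normalizer_iff.mpr fun y => ?_
        constructor
        · intro hy
          exact (mem_normalizer_iff.mp hw ⟨y, mem_sup_left hy⟩).mp hy
        · intro hy
          have hy' : y ∈ P ⊔ R := by
            have := (P ⊔ R).mul_mem ((P ⊔ R).mul_mem ((P ⊔ R).inv_mem w.2) (mem_sup_left hy : _ ∈ P ⊔ R)) w.2
            simpa [mul_assoc] using this
          exact (mem_normalizer_iff.mp hw ⟨y, hy'⟩).mpr hy
      have hw' : (w : G) ∈ P ⊔ R := w.2
      rw [← SetLike.mem_coe, coe_mul_of_left_le_normalizer_right P R hPR] at hw'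
      obtain ⟨u, hu, r, hr, hur⟩ := hw'
      simp only at hur
      have hrM : r ∈ M := by
        have := M.mul_mem (M.inv_mem (hPH.trans inf_le_left hu)) (hnP hwN)
        rwa [← hur, inv_mul_cancel_left] at this
      show (w : G) ∈ P
      rw [← hur]
      exact P.mul_mem hu (hR0' ⟨hr, hrM⟩)
    have he : R = P := eq_of_le_of_card_ge (le_sup_right.trans (subgroupOf_eq_top.mp htop))
      (card_map_of_injective (MulAut.conj g).injective).ge
    rw [he] at hNR hnR
    exact hne (le_antisymm (hPM.trans hnR) (hNR.trans hnP))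
  have hFit : Cfsg.fittingSubgroup ↥(M ⊓ N) = ⊥ := by
    rw [Fitting.fitting_eq_coreJoin, eq_bot_iff]
    exact iSup_le fun r =>
      le_of_eq ((map_eq_bot_iff_of_injective _ (M ⊓ N).subtype_injective).mp (hcore0 r r.2))
  refine ⟨hFit, ?_⟩
  rcases bound_or_pGroup hM hcore hg hne hidx with h | ⟨p, hp, -, hA0, hAp⟩
  · exact h
  · exfalso
    refine hA0 (le_bot_iff.mp ?_)
    rw [← hcore0 p hp]
    exact le_core ((cr_le _ _).trans (cr_le _ _))
      (normal_subgroupOf_of_le_normalizer (inf_le_left.trans (le_normalizer_cr _ _))).isSubnormal hAp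

end Cfsg.Agent.S3693
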