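import Cfsg.Statements.S3687
import Cfsg.Agent.S3693
import Cfsg.Agent.Lib.Perm.AltSubconstituentIso

set_option autoImplicit false
open Cfsg
open Subgroup Cfsg.Agent.Components Cfsg.Agent.ThompsonWielandt

namespace Cfsg.Agent.S3687

/-- Let a finite group G act faithfully and primitively on a set Ω, let a and b be points such that the orbit Δ of b under the stabilizer H of a has d ≥ 6 elements, and suppose that the permutation group induced by H on Δ contains the alternating group of Δ (the image of H in the symmetric group of Δ has index at most 2) while H does not act faithfully on Δ. Then either H induces exactly the alternating group of Δ and H is isomorphic to the direct product of the alternating groups of degrees d and d - 1; or H induces the full symmetric group of Δ and H is isomorphic to one of: the direct product of the symmetric groups of degrees d and d - 1, the direct product of the symmetric group of degree d with the alternating group of degree d - 1, or the subgroup of the direct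 product of the symmetric groups of degrees d and d - 1 consisting of the pairs of permutations with equal signs. -/
theorem result {G Ω : Type*} [Group G] [Finite G] [MulAction G Ω] [FaithfulSMul G Ω] [Finite Ω]
    (hprim : MulAction.IsPreprimitive G Ω) (a b : Ω) (d : ℕ) (hd : Nat.card (MulAction.orbit (MulAction.stabilizer G a) b) = d) (h6 : 6 ≤ d)
    (halt : (MulAction.toPermHom (MulAction.stabilizer G a) (MulAction.orbit (MulAction.stabilizer G a) b)).range.index ≤ 2)
    (hunf : ¬ Function.Injective (MulAction.toPermHom (MulAction.stabilizer G a) (MulAction.orbit (MulAction.stabilizer G a) b))) :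
    ((MulAction.toPermHom (MulAction.stabilizer G a) (MulAction.orbit (MulAction.stabilizer G a) b)).range.index = 2 ∧
      Nonempty (MulAction.stabilizer G a ≃* alternatingGroup (Fin d) × alternatingGroup (Fin (d - 1)))) ∨
    ((MulAction.toPermHom (MulAction.stabilizer G a) (MulAction.orbit (MulAction.stabilizer G a) b)).range = ⊤ ∧
      (Nonempty (MulAction.stabilizer G a ≃* Equiv.Perm (Fin d) × Equiv.Perm (Fin (d - 1))) ∨
       Nonempty (MulAction.stabilizer G a ≃* Equiv.Perm (Fin d) × alternatingGroup (Fin (d - 1))) ∨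
       Nonempty (MulAction.stabilizer G a ≃* ((Equiv.Perm.sign.comp (MonoidHom.fst (Equiv.Perm (Fin d)) (Equiv.Perm (Fin (d - 1))))) *
         (Equiv.Perm.sign.comp (MonoidHom.snd (Equiv.Perm (Fin d)) (Equiv.Perm (Fin (d - 1)))))).ker))) := by
  obtain ⟨hM, hcore, ⟨g, hg⟩, hne, hidx⟩ := stabilizer_setup hprim a b hd (by omega)
  set M := MulAction.stabilizer G a with hMdef
  set N := MulAction.stabilizer G b with hNdef
  set f := MulAction.toPermHom M (MulAction.orbit M b) with hfdef
  set K := cr M (M ⊓ N) with hK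
  have hfker : f.ker = K.subgroupOf M := by
    ext x
    rw [MonoidHom.mem_ker, mem_subgroupOf, mem_cr]
    constructor
    · refine fun hx => ⟨x.2, fun m hm => ⟨M.mul_mem (M.mul_mem hm x.2) (M.inv_mem hm), ?_⟩⟩
      have h' : (x : G) • (m⁻¹ • b) = m⁻¹ • b := congrArg Subtype.val
        (Equiv.Perm.congr_fun hx ⟨m⁻¹ • b, ⟨⟨m⁻¹, M.inv_mem hm⟩, rfl⟩⟩)
      show (m * x * m⁻¹) • b = b
      rw [mul_smul, mul_smul, h', smul_inv_smul]
    · rintro ⟨-, hx⟩
      refine Equiv.ext ?_
      rintro ⟨_, m, rfl⟩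
      refine Subtype.ext ?_
      show (x : G) • ((m : G) • b) = (m : G) • b
      have h' : ((m : G)⁻¹ * x * (m : G)⁻¹⁻¹) • b = b := (hx _ (M.inv_mem m.2)).2
      rw [inv_inv, mul_smul, mul_smul, inv_smul_eq_iff] at h'
      exact h'
  have horb : Nat.card (Equiv.Perm (MulAction.orbit M b)) = d.factorial := by rw [Nat.card_perm, hd]
  have hprod : K.relIndex M * f.range.index = d.factorial := by
    rw [← horb, relIndex, ← hfker, index_ker, card_mul_index]
  have hbig : d.factorial ≤ 2 * K.relIndex M := by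
    rw [← hprod, mul_comm 2]
    exact Nat.mul_le_mul_left _ halt
  -- the induced two-point stabiliser has trivial Fitting subgroup
  have hF : Cfsg.fittingSubgroup ↥((N.subgroupOf M).map f) = ⊥ := by
    obtain ⟨ι, hker, hbigι⟩ := AltSub.loc_of_big hidx (by omega) hbig
    set S := N.subgroupOf M
    let φ : S →* S.map f := f.subgroupMap S
    let j : S →* ↥(M ⊓ N) := MonoidHom.mk' (fun s => ⟨(s : M), (s : M).2, s.2⟩) fun _ _ => rfl
    have hle : φ.ker ≤ (ι.comp j).ker := by
      intro s hs
      have h1 : (s : M) ∈ f.ker := congrArg Subtype.val hs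
      rw [hfker] at h1
      show j s ∈ ι.ker
      rw [hker]
      exact h1
    let ι' : ↥(S.map f) →* Equiv.Perm (Fin (d - 1)) :=
      φ.liftOfSurjective (f.subgroupMap_surjective S) ⟨ι.comp j, hle⟩
    have hlift : ∀ s, ι' (φ s) = ι (j s) := fun s => MonoidHom.liftOfRightInverse_comp_apply φ _ _ _ s
    have hrange : ι.range ≤ ι'.range := by
      rintro _ ⟨h, rfl⟩
      exact ⟨φ ⟨⟨h, h.2.1⟩, h.2.2⟩, hlift _⟩
    have hbig' : (d - 1).factorial ≤ 2 * Nat.card ι'.range :=
      hbigι.trans (Nat.mul_le_mul_left 2 (card_le_of_le hrange))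
    rcases AltImage.map_normal (by omega) hbig' (Cfsg.fittingSubgroup ↥(S.map f)) with h | h
    · refine le_bot_iff.mp (h.trans fun z hz => ?_)
      obtain ⟨s, rfl⟩ := f.subgroupMap_surjective S z
      have h1 : j s ∈ ι.ker := (hlift s).symm.trans hz
      rw [hker] at h1
      have h2 : (s : M) ∈ f.ker := by rw [hfker]; exact h1
      exact mem_bot.mpr (Subtype.ext h2)
    · exfalso
      have : Group.IsNilpotent (Cfsg.fittingSubgroup ↥(S.map f)) := Fitting.isNilpotent_of_le le_rfl
      have hn : Group.IsNilpotent ((Cfsg.fittingSubgroup ↥(S.map f)).map ι') :=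
        Group.nilpotent_of_surjective (ι'.subgroupMap _) (ι'.subgroupMap_surjective _)
      have hsolv : Group.IsSolvable (alternatingGroup (Fin (d - 1))) :=
        Group.isSolvable_of_isSolvable_injective (f := Subgroup.inclusion h) (Subgroup.inclusion_injective h)
      have := AltImage.simple_alt (n := d - 1) (by omega)
      have hc : IsMulCommutative (alternatingGroup (Fin (d - 1))) :=
        ⟨⟨fun x y => IsSimpleGroup.comm_iff_isSolvable.mpr hsolv x y⟩⟩
      exact AltImage.alt_not_comm (n := d - 1) (by omega) (commutator_self_eq_bot_iff.mpr hc)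
  obtain ⟨hFH, -⟩ := Cfsg.Agent.S3693.result hprim a b d hd (by omega) hF
  have hnil : ∀ X : Subgroup G, X ≤ M ⊓ N → M ⊓ N ≤ normalizer (X : Set G) → Group.IsNilpotent X → X = ⊥ := by
    intro X hX hn hXnil
    have := normal_subgroupOf_of_le_normalizer hn
    have hle : X.subgroupOf (M ⊓ N) ≤ ⊥ :=
      hFH ▸ Fitting.le_fitting (Group.nilpotent_of_mulEquiv (subgroupOfEquivOfLe hX).symm)
    rw [← map_subgroupOf_eq_of_le hX, le_bot_iff.mp hle, Subgroup.map_bot]
  have hAB : cr M (cr N (N ⊓ M)) = ⊥ ∨ cr N (cr M (M ⊓ N)) = ⊥ := by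
    by_contra h
    push Not at h
    obtain ⟨p, hp, -, -, hAp, -⟩ := pair_conj hM hcore hg hne h.1 (le_normalizer_cr _ _)
      ((cr_le _ _).trans (le_of_eq (by rw [inf_comm]))) h.2 (le_normalizer_cr _ _) (cr_le _ _)
    have : Fact p.Prime := ⟨hp⟩
    exact h.1 (hnil _ (((cr_le _ _).trans (cr_le _ _)).trans (le_of_eq (by rw [inf_comm])))
      (inf_le_left.trans (le_normalizer_cr _ _)) hAp.isNilpotent)
  have hK0 : K ≠ ⊥ := fun h => hunf ((MonoidHom.ker_eq_bot_iff f).mp (by rw [hfker, h, bot_subgroupOf]))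
  have hNcoatom : IsCoatom N := hg ▸ isCoatom_conj hM g
  have hnb : ∀ X : Subgroup G, X ≠ ⊥ → X ≤ M ⊓ N → M ≤ normalizer (X : Set G) → ¬ N ≤ normalizer (X : Set G) := by
    intro X h0 hX h1 h2
    exact hne (le_antisymm (h1.trans (prim_of_isCoatom hNcoatom (hg ▸ normalCore_conj hcore g) X h0
      (hX.trans inf_le_right) h2)) (h2.trans (prim_of_isCoatom hM hcore X h0 (hX.trans inf_le_left) h1)))
  have hidx' : (N ⊓ M).relIndex N = d := by
    have hcard : Nat.card M = Nat.card N := by
      rw [hg]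
      exact (card_map_of_injective (MulAut.conj g).injective).symm
    have h1 := relIndex_mul_relIndex (⊥ : Subgroup G) (M ⊓ N) N bot_le inf_le_right
    have h2' := relIndex_mul_relIndex (⊥ : Subgroup G) (M ⊓ N) M bot_le inf_le_left
    rw [relIndex_bot_left, relIndex_bot_left, ← hcard] at h1
    rw [relIndex_bot_left, relIndex_bot_left, hidx] at h2'
    rw [inf_comm]
    exact Nat.eq_of_mul_eq_mul_left Nat.card_pos (h1.trans h2'.symm)
  obtain ⟨π₁, π₂, hker₁, hinj, hA1, hA2, hpar⟩ :=
    AltSub.structure_theorem hidx hidx' h6 hbig hg hnil hAB hK0 hnb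
  set R := (π₁.prod π₂).range with hR
  let e : M ≃* R := MonoidHom.ofInjective hinj
  have hbig1 : d.factorial ≤ 2 * Nat.card π₁.range := by rw [← index_ker, hker₁]; exact hbig
  have hcard1 : f.range.index * Nat.card π₁.range = d.factorial := by
    rw [← index_ker, hker₁, mul_comm]
    exact hprod
  have halt2 : ∀ y ∈ alternatingGroup (Fin (d - 1)), ((1 : Equiv.Perm (Fin d)), y) ∈ R :=
    fun y hy => hA2 ⟨mem_bot.mpr rfl, hy⟩
  have halt1 : ∀ x ∈ alternatingGroup (Fin d), (x, (1 : Equiv.Perm (Fin (d - 1)))) ∈ R :=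
    fun x hx => hA1 ⟨hx, mem_bot.mpr rfl⟩
  have hfacd : 0 < d.factorial := Nat.factorial_pos _
  rcases AltImage.range_cases (by omega) hbig1 with hr | hr
  · refine Or.inl ⟨?_, ?_⟩
    · have h2' := AltImage.two_mul_card_alt (n := d) (by omega)
      rw [hr, ← h2'] at hcard1
      exact Nat.eq_of_mul_eq_mul_right Nat.card_pos hcard1
    have hr2 := hpar hr
    have hReq : R = (alternatingGroup (Fin d)).prod (alternatingGroup (Fin (d - 1))) := by
      refine le_antisymm ?_ ?_
      · rintro _ ⟨m, rfl⟩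
        exact ⟨hr ▸ ⟨m, rfl⟩, hr2 ▸ ⟨m, rfl⟩⟩
      · rintro ⟨x, y⟩ ⟨hx, hy⟩
        simpa using R.mul_mem (halt1 x hx) (halt2 y hy)
    exact ⟨(e.trans (MulEquiv.subgroupCongr hReq)).trans (Subgroup.prodEquiv _ _)⟩
  · refine Or.inr ⟨?_, ?_⟩
    · rw [← index_eq_one]
      rw [hr, card_top, Nat.card_perm, Nat.card_fin] at hcard1
      exact Nat.eq_of_mul_eq_mul_right hfacd (hcard1.trans (one_mul _).symm)
    have hmk : ∀ x : Equiv.Perm (Fin d), ∃ y, (x, y) ∈ R := fun x => by
      obtain ⟨m, rfl⟩ := (hr ▸ mem_top x : x ∈ π₁.range)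
      exact ⟨π₂ m, m, rfl⟩
    by_cases hall : ∀ z ∈ R, Equiv.Perm.sign z.2 = 1
    · refine Or.inr (Or.inl ?_)
      have hReq : R = (⊤ : Subgroup (Equiv.Perm (Fin d))).prod (alternatingGroup (Fin (d - 1))) := by
        refine le_antisymm (fun z hz => ⟨mem_top _, Equiv.Perm.mem_alternatingGroup.mpr (hall z hz)⟩) ?_
        rintro ⟨x, y⟩ ⟨-, hy⟩
        obtain ⟨y', hy'⟩ := hmk x
        have := R.mul_mem hy' (halt2 (y'⁻¹ * y) (mul_mem (inv_mem (Equiv.Perm.mem_alternatingGroup.mpr (hall _ hy'))) hy))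
        simpa using this
      exact ⟨(e.trans (MulEquiv.subgroupCongr hReq)).trans
        ((Subgroup.prodEquiv _ _).trans (MulEquiv.prodCongr Subgroup.topEquiv (MulEquiv.refl _)))⟩
    push Not at hall
    obtain ⟨⟨x₀, y₀⟩, hxy, hodd⟩ := hall
    have hy₀ : Equiv.Perm.sign y₀ = -1 := Int.units_ne_iff_eq_neg.mp hodd
    by_cases hsgn : ∀ z ∈ R, Equiv.Perm.sign z.1 = Equiv.Perm.sign z.2
    · refine Or.inr (Or.inr ?_)
      refine ⟨e.trans (MulEquiv.subgroupCongr ?_)⟩
      refine le_antisymm (fun z hz => ?_) (fun z hz => ?_)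
      · rw [MonoidHom.mem_ker]
        show Equiv.Perm.sign z.1 * Equiv.Perm.sign z.2 = 1
        rw [hsgn z hz, Int.units_mul_self]
      · obtain ⟨x, y⟩ := z
        have hz' : Equiv.Perm.sign x * Equiv.Perm.sign y = 1 := MonoidHom.mem_ker.mp hz
        obtain ⟨y', hy'⟩ := hmk x
        have heq : Equiv.Perm.sign x = Equiv.Perm.sign y' := hsgn _ hy'
        have hyy : y'⁻¹ * y ∈ alternatingGroup (Fin (d - 1)) := by
          rw [Equiv.Perm.mem_alternatingGroup, map_mul, Equiv.Perm.sign_inv, ← heq]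
          exact hz'
        simpa using R.mul_mem hy' (halt2 _ hyy)
    · refine Or.inl ?_
      push Not at hsgn
      obtain ⟨⟨x₁, y₁⟩, hxy₁, hne₁⟩ := hsgn
      -- an element `(even, odd)`
      obtain ⟨x₂, y₂, h₂, hx₂, hy₂⟩ : ∃ x y, (x, y) ∈ R ∧ Equiv.Perm.sign x = 1 ∧ Equiv.Perm.sign y = -1 := by
        rcases Int.units_eq_one_or (Equiv.Perm.sign x₁) with h1 | h1
        · exact ⟨x₁, y₁, hxy₁, h1, Int.units_ne_iff_eq_neg.mp fun h => hne₁ (h1.trans h.symm)⟩
        · rcases Int.units_eq_one_or (Equiv.Perm.sign y₁) with h2' | h2'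
          · rcases Int.units_eq_one_or (Equiv.Perm.sign x₀) with h3 | h3
            · exact ⟨x₀, y₀, hxy, h3, hy₀⟩
            · refine ⟨x₀ * x₁, y₀ * y₁, R.mul_mem hxy hxy₁, ?_, ?_⟩
              · rw [map_mul, h3, h1]; rfl
              · rw [map_mul, hy₀, h2', mul_one]
          · exact absurd (h1.trans h2'.symm) hne₁
      have hy1 : ((1 : Equiv.Perm (Fin d)), y₂) ∈ R := by
        have := R.mul_mem (halt1 x₂⁻¹ (inv_mem (Equiv.Perm.mem_alternatingGroup.mpr hx₂))) h₂
        simpa using this
      have hall2 : ∀ y, ((1 : Equiv.Perm (Fin d)), y) ∈ R := by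
        intro y
        rcases Int.units_eq_one_or (Equiv.Perm.sign y) with h | h
        · exact halt2 y (Equiv.Perm.mem_alternatingGroup.mpr h)
        · have hyy : y₂⁻¹ * y ∈ alternatingGroup (Fin (d - 1)) := by
            rw [Equiv.Perm.mem_alternatingGroup, map_mul, Equiv.Perm.sign_inv, hy₂, h]
            rfl
          simpa using R.mul_mem hy1 (halt2 _ hyy)
      have hReq : R = ⊤ := by
        refine eq_top_iff.mpr fun z _ => ?_
        obtain ⟨x, y⟩ := z
        obtain ⟨y', hy'⟩ := hmk x
        simpa using R.mul_mem hy' (hall2 (y'⁻¹ * y))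
      exact ⟨(e.trans (MulEquiv.subgroupCongr hReq)).trans Subgroup.topEquiv⟩

end Cfsg.Agent.S3687
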