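import Cfsg.Statements.S3696
import Mathlib

set_option autoImplicit false
open Cfsg

namespace Cfsg.Agent.S3696

/-- The product inequality between arithmetic and geometric mean. -/
theorem prod_mul_pow_le (s : Multiset ℕ) : s.prod * Multiset.card s ^ Multiset.card s ≤ s.sum ^ Multiset.card s := by
  classical
  induction s using Quotient.inductionOn with
  | h l =>
    simp only [Multiset.quot_mk_to_coe, Multiset.prod_coe, Multiset.coe_card, Multiset.sum_coe]
    rcases Nat.eq_zero_or_pos l.length with h0 | h0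
    · rw [List.length_eq_zero_iff.1 h0]; simp
    have hk : (0 : ℝ) < l.length := by exact_mod_cast h0
    have h := Real.geom_mean_le_arith_mean_weighted Finset.univ (fun _ : Fin l.length => (l.length : ℝ)⁻¹)
      (fun i => (l[i] : ℝ)) (fun i _ => by positivity) (by simp [hk.ne']) (fun i _ => by positivity)
    rw [Real.finsetProd_rpow _ _ (fun i _ => by positivity), ← Finset.mul_sum] at h
    have hp : (∏ i : Fin l.length, (l[i] : ℝ)) = ((l.prod : ℕ) : ℝ) := by
      rw [← Fin.prod_univ_getElem l]; push_cast; rfl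
    have hs : (∑ i : Fin l.length, (l[i] : ℝ)) = ((l.sum : ℕ) : ℝ) := by
      rw [← Fin.sum_univ_getElem l]; push_cast; rfl
    rw [hp, hs] at h
    have h2 := pow_le_pow_left₀ (by positivity) h l.length
    rw [Real.rpow_inv_natCast_pow (by positivity) h0.ne', mul_pow, inv_pow] at h2
    rw [inv_mul_eq_div, le_div_iff₀ (by positivity)] at h2
    exact_mod_cast h2

/-- Splitting powers of `p` into exactly `k` smaller powers. -/
theorem exists_split (p : ℕ) (hp : 2 ≤ p) (k : ℕ) : ∀ (d : ℕ) (s : Multiset ℕ), Multiset.card s + d = k →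
    (∀ e ∈ s, 1 ≤ e) → k ≤ s.sum →
    ∃ t : Multiset ℕ, Multiset.card t = k ∧ t.sum = s.sum ∧ (t.map (p ^ ·)).sum ≤ (s.map (p ^ ·)).sum := by
  intro d
  induction d with
  | zero => intro s h _ _; exact ⟨s, by omega, rfl, le_rfl⟩
  | succ d ih =>
    intro s hcard hpos hk
    obtain ⟨e, he, he2⟩ : ∃ e ∈ s, 2 ≤ e := by
      by_contra h
      push Not at h
      have := Multiset.sum_le_card_nsmul s 1 (fun x hx => by have := h x hx; omega)
      simp at this
      omega
    obtain ⟨t, rfl⟩ := Multiset.exists_cons_of_mem he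
    obtain ⟨u, h1, h2, h3⟩ := ih (1 ::ₘ (e - 1) ::ₘ t) (by simp at hcard ⊢; omega)
      (by
        simp only [Multiset.mem_cons]
        rintro x (rfl | rfl | hx)
        · exact le_rfl
        · omega
        · exact hpos x (Multiset.mem_cons_of_mem hx))
      (by simp at hk ⊢; omega)
    refine ⟨u, h1, by simp at h2 ⊢; omega, h3.trans ?_⟩
    simp only [Multiset.map_cons, Multiset.sum_cons, pow_one]
    have : p + p ^ (e - 1) ≤ p ^ e := by
      have hb : p ≤ p ^ (e - 1) := Nat.le_self_pow (by omega) p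
      calc p + p ^ (e - 1) ≤ 2 * p ^ (e - 1) := by omega
        _ ≤ p * p ^ (e - 1) := Nat.mul_le_mul_right _ hp
        _ = p ^ e := by rw [← pow_succ']; congr 1; omega
    omega

/-- A `p`-group has trivial subgroups only as those meeting its socle trivially. -/
theorem eq_bot_of_socle {G : Type*} [Group G] [Finite G] {p : ℕ} [Fact p.Prime] (hG : IsPGroup p G)
    (S : Subgroup G) (h : ∀ x ∈ S, x ^ p = 1 → x = 1) : S = ⊥ := by
  by_contra hS
  haveI : Nontrivial S := S.nontrivial_iff_ne_bot.2 hS
  obtain ⟨n, hn0, hn⟩ := (hG.to_subgroup S).nontrivial_iff_card.1 inferInstance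
  obtain ⟨⟨x, hxS⟩, hx⟩ := exists_prime_orderOf_dvd_card' (G := S) p (hn ▸ dvd_pow_self p hn0.ne')
  rw [Subgroup.orderOf_mk] at hx
  have := h x hxS (hx ▸ pow_orderOf_eq_one x)
  exact (Fact.out : p.Prime).ne_one (by rw [← hx, this, orderOf_one])

/-- A choice of few orbits separating a subgroup. -/
theorem exists_points {A Ω : Type*} [CommGroup A] [Finite A] [MulAction A Ω] [FaithfulSMul A Ω]
    [DecidableEq Ω] {p : ℕ} [Fact p.Prime] (hA : IsPGroup p A) :
    ∀ (j : ℕ) (B : Subgroup A), Nat.card B ≤ p ^ j →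
      ∃ T : Finset Ω, T.card ≤ j ∧ (∀ b ∈ B, (∀ t ∈ T, b • t = t) → b = 1) ∧
        (∀ t ∈ T, ∃ b ∈ B, b • t ≠ t) ∧
        ∀ s ∈ T, ∀ t ∈ T, s ∈ MulAction.orbit A t → s = t := by
  intro j
  induction j with
  | zero =>
    intro B hB
    refine ⟨∅, le_rfl, fun b hb _ => ?_, by simp, by simp⟩
    rw [pow_zero] at hB
    have h := Subgroup.eq_bot_of_card_le B hB
    rw [h] at hb
    exact hb
  | succ j ih =>
    intro B hB
    by_cases hB1 : ∀ b ∈ B, b = 1
    · exact ⟨∅, Nat.zero_le _, fun b hb _ => hB1 b hb, by simp, by simp⟩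
    push Not at hB1
    obtain ⟨b₀, hb₀, hb₀1⟩ := hB1
    obtain ⟨ω, hω⟩ : ∃ ω : Ω, b₀ • ω ≠ ω := by
      by_contra h
      push Not at h
      exact hb₀1 (eq_of_smul_eq_smul fun ω : Ω => by rw [h, one_smul])
    set B' := B ⊓ MulAction.stabilizer A ω with hB'
    have hcard : Nat.card B' ≤ p ^ j := by
      obtain ⟨u, hu⟩ := IsPGroup.iff_card.1 (hA.to_subgroup B)
      obtain ⟨v, hv⟩ := IsPGroup.iff_card.1 (hA.to_subgroup B')
      have hp := (Fact.out : p.Prime).two_le
      have hlt : v < u := by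
        by_contra hle
        push Not at hle
        have h := Subgroup.eq_of_le_of_card_ge (inf_le_left : B' ≤ B) (by
          rw [hu, hv]; exact Nat.pow_le_pow_right (by omega) hle)
        exact hω (MulAction.mem_stabilizer_iff.1 ((SetLike.ext_iff.1 h b₀).2 hb₀).2)
      rw [hv]
      rw [hu] at hB
      have := (Nat.pow_le_pow_iff_right (Fact.out : p.Prime).one_lt).1 hB
      exact Nat.pow_le_pow_right (by omega) (by omega)
    obtain ⟨T, hT1, hT2, hT3, hT4⟩ := ih B' hcard
    have hnew : ∀ t ∈ T, t ∉ MulAction.orbit A ω := by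
      rintro t ht ⟨a, rfl⟩
      obtain ⟨b, hb, hbt⟩ := hT3 _ ht
      exact hbt (show b • a • ω = a • ω by rw [smul_comm, MulAction.mem_stabilizer_iff.1 hb.2])
    refine ⟨insert ω T, (Finset.card_insert_le _ _).trans (by omega), fun b hb hfix => ?_, ?_, ?_⟩
    · refine hT2 b ⟨hb, MulAction.mem_stabilizer_iff.2 (hfix ω (Finset.mem_insert_self _ _))⟩
        fun t ht => hfix t (Finset.mem_insert_of_mem ht)
    · intro t ht
      rcases Finset.mem_insert.1 ht with rfl | ht
      · exact ⟨b₀, hb₀, hω⟩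
      · obtain ⟨b, hb, hbt⟩ := hT3 t ht
        exact ⟨b, hb.1, hbt⟩
    · intro s hs t ht hst
      rcases Finset.mem_insert.1 hs with rfl | hs' <;> rcases Finset.mem_insert.1 ht with rfl | ht'
      · rfl
      · exact absurd (MulAction.mem_orbit_symm.1 hst) (hnew t ht')
      · exact absurd hst (hnew s hs')
      · exact hT4 s hs' t ht' hst

/-- The bound for a faithful action of an abelian `p`-group of rank `k`. -/
theorem card_bound {A Ω : Type*} [CommGroup A] [Finite A] [MulAction A Ω] [FaithfulSMul A Ω]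
    [Fintype Ω] [DecidableEq Ω] {p : ℕ} [Fact p.Prime] (hA : IsPGroup p A) (k : ℕ)
    (hk : Nat.card {x : A // x ^ p = 1} = p ^ k) :
    Nat.card A * k ^ k ≤ Fintype.card Ω ^ k := by
  classical
  haveI := Fintype.ofFinite A
  have hp := (Fact.out : p.Prime)
  let E : Subgroup A := (powMonoidHom p : A →* A).ker
  have hE : Nat.card E = p ^ k := by
    rw [← hk]; exact Nat.card_congr (Equiv.subtypeEquivRight fun x => Iff.rfl)
  obtain ⟨T, hT1, hT2, hT3, hT4⟩ := exists_points (Ω := Ω) hA k E hE.le
  have hne : ∀ t ∈ T, ∃ e, 1 ≤ e ∧ Nat.card (MulAction.orbit A t) = p ^ e := by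
    intro t ht
    obtain ⟨e, he⟩ := hA.card_orbit t
    refine ⟨e, Nat.one_le_iff_ne_zero.2 fun h0 => ?_, he⟩
    rw [h0, pow_zero, Nat.card_eq_one_iff_unique] at he
    haveI := he.1
    obtain ⟨b, -, hb⟩ := hT3 t ht
    exact hb (congrArg Subtype.val (Subsingleton.elim (⟨b • t, b, rfl⟩ : MulAction.orbit A t) ⟨t, MulAction.mem_orbit_self t⟩))
  choose! e he1 he using hne
  -- the orbits separate the points of `A`
  have hinj : Nat.card A ≤ ∏ t ∈ T, p ^ e t := by
    rw [← Finset.prod_coe_sort]
    simp_rw [← he _ (Subtype.coe_prop _)]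
    rw [← Nat.card_pi]
    refine Nat.card_le_card_of_injective
      (fun (a : A) (t : T) => (⟨a • (t : Ω), a, rfl⟩ : MulAction.orbit A (t : Ω))) ?_
    intro a b hab
    let S : Subgroup A := ⨅ t ∈ T, MulAction.stabilizer A t
    have hS : S = ⊥ := eq_bot_of_socle hA S fun x hx hxp => hT2 x hxp fun t ht => by
      simp only [S, Subgroup.mem_iInf] at hx
      exact hx t ht
    have : b⁻¹ * a ∈ S := by
      simp only [S, Subgroup.mem_iInf]
      intro t ht
      rw [MulAction.mem_stabilizer_iff, mul_smul, inv_smul_eq_iff]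
      exact congrArg Subtype.val (congrFun hab ⟨t, ht⟩)
    rw [hS, Subgroup.mem_bot, inv_mul_eq_one] at this
    exact this.symm
  have hsum : ∑ t ∈ T, p ^ e t ≤ Fintype.card Ω := by
    calc ∑ t ∈ T, p ^ e t = ∑ t ∈ T, (MulAction.orbit A t).toFinset.card :=
          Finset.sum_congr rfl fun t ht => by rw [← he t ht, Nat.card_eq_card_toFinset]
      _ = (T.biUnion fun t => (MulAction.orbit A t).toFinset).card := by
          rw [Finset.card_biUnion]
          intro s hs t ht hst
          rw [Function.onFun, Finset.disjoint_left]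
          intro u hu hu'
          rw [Set.mem_toFinset] at hu hu'
          refine hst (hT4 s hs t ht ?_)
          rw [← MulAction.orbit_eq_iff.2 hu', MulAction.orbit_eq_iff.2 hu]
          exact MulAction.mem_orbit_self s
      _ ≤ Fintype.card Ω := Finset.card_le_univ _
  have hrank : k ≤ ∑ t ∈ T, e t := by
    have h1 : p ^ k ≤ Nat.card A := hE ▸ Subgroup.card_le_card_group E
    have h2 := h1.trans hinj
    rw [Finset.prod_pow_eq_pow_sum] at h2
    exact (Nat.pow_le_pow_iff_right hp.one_lt).1 h2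
  obtain ⟨t, ht1, ht2, ht3⟩ := exists_split p hp.two_le k (k - T.card) (T.1.map e)
    (by rw [Multiset.card_map, Finset.card_val]; omega)
    (by
      intro x hx
      obtain ⟨u, hu, rfl⟩ := Multiset.mem_map.1 hx
      exact he1 u hu)
    hrank
  have hprod : (t.map (p ^ ·)).prod = ∏ u ∈ T, p ^ e u := by
    rw [Finset.prod_pow_eq_pow_sum]
    have : ∀ s : Multiset ℕ, (s.map (p ^ ·)).prod = p ^ s.sum := fun s => by
      induction s using Multiset.induction with
      | empty => simp
      | cons a s ih => simp [ih, pow_add]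
    rw [this, ht2]; rfl
  have h := prod_mul_pow_le (t.map (p ^ ·))
  rw [Multiset.card_map, ht1, hprod] at h
  calc Nat.card A * k ^ k ≤ (∏ u ∈ T, p ^ e u) * k ^ k := Nat.mul_le_mul_right _ hinj
    _ ≤ _ := h
    _ ≤ Fintype.card Ω ^ k := by
        refine Nat.pow_le_pow_left (ht3.trans ?_) k
        rw [Multiset.map_map]; exact hsum

/-- Let p be a prime, Ω a finite set with n ≥ p elements, and A an abelian p-subgroup of the symmetric group on Ω whose elements of order dividing p number p^k (so k is the rank of A). Then |A| · k^k ≤ n^k, that is, |A| ≤ (n/k)^k. -/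
theorem result {Ω : Type*} [Fintype Ω] [DecidableEq Ω]
    (p : ℕ) (hp : p.Prime) (hn : p ≤ Fintype.card Ω) (A : Subgroup (Equiv.Perm Ω)) (hA : IsPGroup p A) (hab : IsMulCommutative A)
    (k : ℕ) (hk : Nat.card {x : A // x ^ p = 1} = p ^ k) :
    Nat.card A * k ^ k ≤ Fintype.card Ω ^ k := by
  haveI := Fact.mk hp
  letI : CommGroup A := { (inferInstance : Group A) with mul_comm := hab.is_comm.comm }
  exact card_bound hA k hk

end Cfsg.Agent.S3696
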