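import Cfsg.Statements.S3701
import Cfsg.Agent.Recognition.Triangle
import Cfsg.Agent.Recognition.ThreeCubeFour
import Cfsg.Agent.Recognition.ClassConstants
import Cfsg.Agent.OddChar.Induce
import Cfsg.Agent.OddChar.Lattice

set_option linter.style.haveILetI false
open Cfsg

namespace Cfsg.Agent.S3701

open scoped ComplexConjugate
open Cfsg.Agent.Characters Cfsg.Agent.OddChar
open Cfsg.Agent.Recognition Cfsg.Agent.Recognition.ThreeCubeFour

/-- Three linear characters of the translations, up to sign. -/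
def cs : Fin 3 → A := ![(0, 1, 1), (1, 0, 1), (1, 1, 0)]

/-- The pairing. -/
def dot (c a : A) : ZMod 3 := c.1 * a.1 + c.2.1 * a.2.1 + c.2.2 * a.2.2

/-- The number of signs with a given pairing. -/
def orbitCnt (i : Fin 3) (a : A) (z : ZMod 3) : ℤ :=
  ((Finset.univ : Finset (Fin 4)).filter fun k => dot (cs i) (sgn k a) = z).card

/-- The orbit sum of a character. -/
def th (i : Fin 3) (a : A) : ℤ := orbitCnt i a 0 - orbitCnt i a 1

/-- Ways to write `a` as a sum from the orbits of `u` and `v`. -/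
def ways (u v a : A) : ℤ :=
  ((Finset.univ : Finset A).filter fun b => (∃ k, sgn k u = b) ∧ ∃ k, sgn k v = a - b).card

/-- The weighted count. -/
def wsum (u v : A) (i : Fin 3) (z : ZMod 3) : ℤ :=
  ∑ a ∈ (Finset.univ : Finset A).filter (fun a => dot (cs i) a = z), ways u v a

/-- The weighted count for inner products. -/
def dsum (i j l : Fin 3) (z : ZMod 3) : ℤ :=
  ∑ a ∈ (Finset.univ : Finset A).filter (fun a => dot (cs l) (-a) = z), (th i a - th j a)

theorem orbitCnt_symm : ∀ i a, orbitCnt i a 1 = orbitCnt i a 2 := by decide +kernel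

theorem dsum_symm : ∀ i l, dsum i 0 l 1 = dsum i 0 l 2 := by decide +kernel

theorem dsum_val : ∀ i j : Fin 3, i ≠ 0 → j ≠ 0 →
    (dsum i 0 j 0 - dsum i 0 j 1) - (dsum i 0 0 0 - dsum i 0 0 1) =
      if i = j then 54 else 27 := by decide +kernel

/-- `x₁`, `x₃` and `x₁ x₂`. -/
def pts : Fin 3 → A := ![(1, 0, 0), (0, 0, 1), (1, 1, 0)]

theorem wsum_symm : ∀ i j l : Fin 3, wsum (pts i) (pts j) l 1 = wsum (pts i) (pts j) l 2 := by
  decide +kernel

theorem th_pts : th 0 (pts 0) = 4 ∧ th 1 (pts 0) = -2 ∧ th 2 (pts 0) = -2 ∧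
    th 0 (pts 1) = -2 ∧ th 1 (pts 1) = -2 ∧ th 2 (pts 1) = 4 ∧
    th 0 (pts 2) = -2 ∧ th 1 (pts 2) = -2 ∧ th 2 (pts 2) = 1 := by decide +kernel

theorem wsum_val :
    (wsum (pts 1) (pts 0) 0 0 - wsum (pts 1) (pts 0) 0 1) -
      (wsum (pts 1) (pts 0) 1 0 - wsum (pts 1) (pts 0) 1 1) = -3 ∧
    (wsum (pts 2) (pts 0) 0 0 - wsum (pts 2) (pts 0) 0 1) -
      (wsum (pts 2) (pts 0) 1 0 - wsum (pts 2) (pts 0) 1 1) = -6 ∧
    (wsum (pts 1) (pts 2) 2 0 - wsum (pts 1) (pts 2) 2 1) -
      (wsum (pts 1) (pts 2) 0 0 - wsum (pts 1) (pts 2) 0 1) = 0 := by decide +kernel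

theorem pts_orbit : ∀ i j : Fin 3, i ≠ j → ∀ k, sgn k (pts i) ≠ pts j := by decide +kernel

theorem pts_ne_zero : ∀ i : Fin 3, pts i ≠ 0 := by decide +kernel

theorem card_stab : ∀ i : Fin 3, Fintype.card {k : Fin 4 // sgn k (pts i) = pts i} = ![2, 2, 1] i := by
  decide +kernel

theorem exists_sgn_zero : ∀ k (a : A), a ≠ 0 → sgn k a ≠ 0 := by decide +kernel

theorem th_zero : ∀ i, th i 0 - th 0 0 = 0 := by decide +kernel

theorem univ_three : (Finset.univ : Finset (ZMod 3)) = {0, 1, 2} ∧ (0 : ZMod 3) ∉ ({1, 2} : Finset (ZMod 3)) ∧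
    (1 : ZMod 3) ∉ ({2} : Finset (ZMod 3)) := by decide +kernel

theorem three_nsmul : ∀ a : A, a + a + a = 0 := by decide +kernel

theorem result {G : Type*} [Group G] [Finite G] (H : Subgroup G)
    (hH : Nonempty (↥H ≃* ↥(Subgroup.closure ({Equiv.swap (0 : Fin 9) 1 * Equiv.swap 1 2, Equiv.swap (3 : Fin 9) 4 * Equiv.swap 4 5, Equiv.swap (6 : Fin 9) 7 * Equiv.swap 7 8,
        Equiv.swap (0 : Fin 9) 1 * Equiv.swap 3 4, Equiv.swap (0 : Fin 9) 1 * Equiv.swap 6 7} : Set (Equiv.Perm (Fin 9))))))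
    (T : Subgroup G) (hTH : T ≤ H) (hT : Nat.card T = 27) (hN : Subgroup.normalizer (T : Set G) = H)
    (hC : ∀ t ∈ T, t ≠ 1 → Subgroup.centralizer ({t} : Set G) ≤ H) : H = ⊤ := by
  classical
  haveI := Fintype.ofFinite G
  haveI : Fact (Nat.Prime 3) := ⟨Nat.prime_three⟩
  obtain ⟨e⟩ := hH
  let ψ : ↥(Subgroup.closure gens) →* G := H.subtype.comp e.symm.toMonoidHom
  have hψ : Function.Injective ψ := H.subtype_injective.comp e.symm.injective
  have hψH : ∀ p, ψ p ∈ H := fun p => (e.symm p).2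
  let J : A → G := fun a => ψ ⟨pj a, pj_mem a⟩
  let Nn : Fin 4 → G := fun k => ψ ⟨pn k, pn_mem k⟩
  have hJadd : ∀ a b, J (a + b) = J a * J b := fun a b => by
    simp only [J, ← map_mul]; exact congrArg ψ (Subtype.ext (pj_add a b))
  have hJ0 : J 0 = 1 := by
    show ψ _ = _; rw [← map_one ψ]; exact congrArg ψ (Subtype.ext pj_zero)
  have hJneg : ∀ a, J (-a) = (J a)⁻¹ := fun a =>
    eq_inv_of_mul_eq_one_left (by rw [← hJadd, neg_add_cancel, hJ0])
  have hNN : ∀ k, Nn k * Nn k = 1 := fun k => by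
    simp only [Nn, ← map_mul]; rw [← map_one ψ]; exact congrArg ψ (Subtype.ext (pn_mul_self k))
  have hNJ : ∀ k a, Nn k * J a = J (sgn k a) * Nn k := fun k a => by
    simp only [Nn, J, ← map_mul]; exact congrArg ψ (Subtype.ext (pn_pj k a))
  have hNi : ∀ k, (Nn k)⁻¹ = Nn k := fun k => inv_eq_of_mul_eq_one_right (hNN k)
  have hJH : ∀ a, J a ∈ H := fun a => hψH _
  have hNH : ∀ k, Nn k ∈ H := fun k => hψH _
  have hsurj : ∀ h ∈ H, ∃ a k, h = J a * Nn k := by
    intro h hh
    obtain ⟨a, k, hak⟩ := exists_pair (e ⟨h, hh⟩).2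
    refine ⟨a, k, ?_⟩
    simp only [J, Nn, ← map_mul]
    show h = H.subtype (e.symm _)
    rw [show (⟨pj a, pj_mem a⟩ : ↥(Subgroup.closure gens)) * ⟨pn k, pn_mem k⟩ = e ⟨h, hh⟩ from
      Subtype.ext hak.symm, MulEquiv.symm_apply_apply]
    rfl
  have hinj : ∀ a b k l, J a * Nn k = J b * Nn l → a = b ∧ k = l := by
    intro a b k l h
    simp only [J, Nn, ← map_mul] at h
    exact pair_inj (congrArg Subtype.val (hψ h) :)
  let E : A × Fin 4 ≃ H := Equiv.ofBijective (fun p => ⟨J p.1 * Nn p.2, H.mul_mem (hJH _) (hNH _)⟩)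
    ⟨fun p q h => Prod.ext (hinj _ _ _ _ (congrArg Subtype.val h)).1 (hinj _ _ _ _ (congrArg Subtype.val h)).2,
      fun h => by
        obtain ⟨a, k, hak⟩ := hsurj h h.2
        exact ⟨(a, k), Subtype.ext hak.symm⟩⟩
  have hHcard : Nat.card H = 108 := by
    rw [← Nat.card_congr E, Nat.card_eq_fintype_card]; rfl
  -- `T` is the group of translations
  have hTp : IsPGroup 3 T := IsPGroup.of_card (n := 3) (by rw [hT]; norm_num)
  have hmemT : ∀ h ∈ H, IsPGroup 3 (Subgroup.zpowers h) → h ∈ T := by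
    intro h hh hp
    have hle : Subgroup.zpowers h ≤ Subgroup.normalizer (T : Set G) := by
      rw [hN]; exact Subgroup.zpowers_le.2 hh
    have hQ : IsPGroup 3 ↥(T ⊔ Subgroup.zpowers h) := hTp.to_sup_of_normal_left' hp hle
    obtain ⟨n, hn⟩ := hQ.exists_card_eq
    have hdvd := Subgroup.card_dvd_of_le (sup_le hTH (Subgroup.zpowers_le.2 hh))
    rw [hn, hHcard] at hdvd
    have h27 : (3 : ℕ) ^ n ∣ 27 :=
      (Nat.Coprime.pow_left n (by norm_num : Nat.Coprime 3 4)).dvd_of_dvd_mul_right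
        (by rwa [show 27 * 4 = 108 from rfl])
    have heq : T = T ⊔ Subgroup.zpowers h :=
      Subgroup.eq_of_le_of_card_ge le_sup_left (by rw [hn, hT]; exact Nat.le_of_dvd (by norm_num) h27)
    rw [heq]
    exact Subgroup.mem_sup_right (Subgroup.mem_zpowers h)
  have hJ3 : ∀ a, J a ^ 3 = 1 := fun a => by
    rw [pow_succ, pow_two, ← hJadd, ← hJadd, three_nsmul, hJ0]
  have hJT : ∀ a, J a ∈ T := fun a => hmemT _ (hJH a) (by
    rcases (Nat.dvd_prime Nat.prime_three).1 (orderOf_dvd_of_pow_eq_one (hJ3 a)) with h | h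
    · exact IsPGroup.of_card (n := 0) (by rw [Nat.card_zpowers, h, pow_zero])
    · exact IsPGroup.of_card (n := 1) (by rw [Nat.card_zpowers, h, pow_one]))
  let eT : A ≃ T := Equiv.ofBijective (fun a => ⟨J a, hJT a⟩)
    ((Nat.bijective_iff_injective_and_card _).2 ⟨fun a b h =>
      (hinj a b 0 0 (by rw [show J a = J b from (congrArg Subtype.val h :)])).1,
      by rw [hT, Nat.card_eq_fintype_card]; rfl⟩)
  have heT : ∀ a, ((eT a : T) : G) = J a := fun a => rfl
  have hsymm : ∀ t : T, J (eT.symm t) = t := fun t => by rw [← heT, Equiv.apply_symm_apply]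
  have hJinj : Function.Injective J := fun a b h => eT.injective (Subtype.ext h)
  have hJne : ∀ a, a ≠ 0 → J a ≠ 1 := fun a ha h => ha (hJinj (h.trans hJ0.symm))
  have hJord : ∀ a, a ≠ 0 → orderOf (J a) = 3 := fun a ha => orderOf_eq_prime (hJ3 a) (hJne a ha)
  -- `T` is a Sylow subgroup
  have hmax : ∀ {Q : Subgroup G}, IsPGroup 3 Q → T ≤ Q → Q = T := by
    intro Q hQ hTQ
    by_contra hne
    haveI := hQ.isNilpotent
    have hlt : T.subgroupOf Q < ⊤ := lt_top_iff_ne_top.2 fun h =>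
      hne (le_antisymm (Subgroup.subgroupOf_eq_top.1 h) hTQ)
    have h2 := normalizerCondition_of_isNilpotent (T.subgroupOf Q) hlt
    obtain ⟨q, hq, hqT⟩ := SetLike.exists_of_lt h2
    apply hqT
    rw [Subgroup.mem_subgroupOf]
    refine hmemT _ ?_ (hQ.to_le (Subgroup.zpowers_le.2 q.2))
    rw [← hN, Subgroup.mem_normalizer_iff]
    intro m
    constructor
    · intro hm
      have := (Subgroup.mem_normalizer_iff.1 hq ⟨m, hTQ hm⟩).1 hm
      exact this
    · intro hm
      have hmQ : m ∈ Q := by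
        have := Q.mul_mem (Q.mul_mem (Q.inv_mem q.2) (hTQ hm)) q.2
        simpa [mul_assoc] using this
      exact (Subgroup.mem_normalizer_iff.1 hq ⟨m, hmQ⟩).2 hm
  let P : Sylow 3 G := ⟨T, hTp, hmax⟩
  have hinto : ∀ Q : Subgroup G, IsPGroup 3 Q → ∃ k : G, ∀ g ∈ Q, k * g * k⁻¹ ∈ T := by
    intro Q hQ
    obtain ⟨P', hP'⟩ := hQ.exists_le_sylow
    obtain ⟨k, hk⟩ := MulAction.exists_smul_eq G P' P
    refine ⟨k, fun g hg => ?_⟩
    show k * g * k⁻¹ ∈ (P : Subgroup G)
    rw [← hk, Sylow.coe_subgroup_smul, Subgroup.mem_smul_pointwise_iff_exists]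
    exact ⟨g, hP' hg, rfl⟩
  have hTcomm : ∀ s ∈ T, ∀ t ∈ T, s * t = t * s := fun s hs t ht => by
    obtain ⟨a, ha⟩ := eT.surjective ⟨s, hs⟩
    obtain ⟨b, hb⟩ := eT.surjective ⟨t, ht⟩
    rw [show s = J a from (congrArg Subtype.val ha).symm, show t = J b from (congrArg Subtype.val hb).symm,
      ← hJadd, ← hJadd, add_comm]
  have hP : ∀ Q : Subgroup G, IsPGroup 3 Q → ∀ g ∈ Q, ∀ h ∈ Q, g * h = h * g := by
    intro Q hQ g hg h hh
    obtain ⟨k, hk⟩ := hinto Q hQ
    have he : k * (g * h) * k⁻¹ = k * (h * g) * k⁻¹ := by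
      calc k * (g * h) * k⁻¹ = k * g * k⁻¹ * (k * h * k⁻¹) := by group
        _ = k * (h * g) * k⁻¹ := by rw [hTcomm _ (hk g hg) _ (hk h hh)]; group
    exact mul_left_cancel (mul_right_cancel he)
  have hconj3 : ∀ g k : G, IsPGroup 3 (Subgroup.zpowers g) → IsPGroup 3 (Subgroup.zpowers (k * g * k⁻¹)) :=
    fun g k h => by
      obtain ⟨n, hn⟩ := h.exists_card_eq
      refine IsPGroup.of_card (n := n) ?_
      rw [Nat.card_zpowers] at hn ⊢
      rw [← hn]
      simpa using orderOf_injective (MulAut.conj k).toMonoidHom (MulAut.conj k).injective g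
  have hpow3 : ∀ g : G, g ^ 3 = 1 → IsPGroup 3 (Subgroup.zpowers g) := fun g hg => by
    rcases (Nat.dvd_prime Nat.prime_three).1 (orderOf_dvd_of_pow_eq_one hg) with h | h
    · exact IsPGroup.of_card (n := 0) (by rw [Nat.card_zpowers, h, pow_zero])
    · exact IsPGroup.of_card (n := 1) (by rw [Nat.card_zpowers, h, pow_one])
  have hcyc : ∀ g : G, g ^ 3 = 1 → ∀ t ∈ T, t ≠ 1 → g * t = t * g → g ∈ T := fun g hg t ht ht1 hc =>
    hmemT g (hC t ht ht1 (Subgroup.mem_centralizer_singleton_iff.2 hc)) (hpow3 g hg)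
  have hc : ∀ z w m : G, orderOf z = 3 → w ^ 3 = 1 → w * z = z * w → m * z = z * m →
      (orderOf m).Coprime 3 → m * (w * m * w⁻¹) = w * m * w⁻¹ * m → m * w = w * m := by
    intro z w m hz hw hwz hmz hm hmw
    obtain ⟨k, hk⟩ := hinto _ (IsPGroup.of_card (G := Subgroup.zpowers z) (n := 1)
      (by rw [Nat.card_zpowers, hz, pow_one]))
    have hzT := hk z (Subgroup.mem_zpowers z)
    have hz1 : k * z * k⁻¹ ≠ 1 := fun h => by
      rw [conj_eq_one_iff] at h; rw [h, orderOf_one] at hz; norm_num at hz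
    have hwT : k * w * k⁻¹ ∈ T := by
      refine hcyc _ (by rw [conj_pow, hw]; group) _ hzT hz1 ?_
      calc k * w * k⁻¹ * (k * z * k⁻¹) = k * (w * z) * k⁻¹ := by group
        _ = k * z * k⁻¹ * (k * w * k⁻¹) := by rw [hwz]; group
    have hmN : k * m * k⁻¹ ∈ Subgroup.normalizer (T : Set G) := by
      rw [hN]
      refine hC _ hzT hz1 (Subgroup.mem_centralizer_singleton_iff.2 ?_)
      calc k * m * k⁻¹ * (k * z * k⁻¹) = k * (m * z) * k⁻¹ := by group
        _ = k * z * k⁻¹ * (k * m * k⁻¹) := by rw [hmz]; group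
    set d := w * m * w⁻¹ * m⁻¹ with hd
    have hdT : k * d * k⁻¹ ∈ T := by
      have h := T.mul_mem hwT ((Subgroup.mem_normalizer_iff.1 hmN _).1 (T.inv_mem hwT))
      rwa [show k * w * k⁻¹ * (k * m * k⁻¹ * (k * w * k⁻¹)⁻¹ * (k * m * k⁻¹)⁻¹) = k * d * k⁻¹ by
        rw [hd]; group] at h
    have hd3 : d ^ 3 = 1 := by
      obtain ⟨a, ha⟩ := eT.surjective ⟨_, hdT⟩
      have h3 : (k * d * k⁻¹) ^ 3 = 1 := by
        rw [show k * d * k⁻¹ = J a from (congrArg Subtype.val ha).symm, hJ3]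
      rwa [conj_pow, conj_eq_one_iff] at h3
    have hdo : d ^ orderOf m = 1 := by
      have hcm : Commute (w * m * w⁻¹) m⁻¹ := (Commute.inv_right (show Commute (w * m * w⁻¹) m from hmw.symm))
      rw [hd, hcm.mul_pow, conj_pow, pow_orderOf_eq_one, inv_pow, pow_orderOf_eq_one]
      group
    have h1 := (pow_gcd_eq_one).2 ⟨hd3, hdo⟩
    rw [show Nat.gcd 3 (orderOf m) = 1 from hm.symm, pow_one, hd, mul_inv_eq_one] at h1
    calc m * w = w * m * w⁻¹ * w := by rw [h1]
      _ = w * m := by group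
  -- fusion
  have hfus : ∀ a b, a ≠ 0 → ∀ g : G, g * J a * g⁻¹ = J b → g ∈ H := by
    intro a b ha g hg
    have hb : J b ≠ 1 := by rw [← hg]; exact fun h => hJne a ha (conj_eq_one_iff.1 h)
    have hmaps : ∀ t ∈ T, g * t * g⁻¹ ∈ T := by
      intro t ht
      obtain ⟨c, hc'⟩ := eT.surjective ⟨t, ht⟩
      have htJ : t = J c := (congrArg Subtype.val hc').symm
      refine hcyc _ (by rw [conj_pow, htJ, hJ3]; group) _ (hJT b) hb ?_
      rw [← hg]
      calc g * t * g⁻¹ * (g * J a * g⁻¹) = g * (t * J a) * g⁻¹ := by group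
        _ = g * J a * g⁻¹ * (g * t * g⁻¹) := by rw [hTcomm t ht _ (hJT a)]; group
    rw [← hN, Subgroup.mem_normalizer_iff]
    intro t
    refine ⟨hmaps t, fun ht => ?_⟩
    let f : T → T := fun s => ⟨g * s * g⁻¹, hmaps s s.2⟩
    have hf : Function.Injective f := fun s s' h =>
      Subtype.ext (mul_left_cancel (mul_right_cancel (congrArg Subtype.val h :)))
    obtain ⟨s, hs⟩ := (Finite.injective_iff_surjective.1 hf) ⟨_, ht⟩
    rw [← mul_left_cancel (mul_right_cancel (congrArg Subtype.val hs :))]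
    exact s.2
  have hact : ∀ a k c, (J c * Nn k) * J a * (J c * Nn k)⁻¹ = J (sgn k a) := by
    intro a k c
    calc (J c * Nn k) * J a * (J c * Nn k)⁻¹ = J c * (Nn k * J a) * (Nn k)⁻¹ * (J c)⁻¹ := by group
      _ = J c * J (sgn k a) * (J c)⁻¹ := by rw [hNJ]; group
      _ = J (sgn k a) := by rw [hTcomm _ (hJT c) _ (hJT _), mul_inv_cancel_right]
  have hconj : ∀ a b, a ≠ 0 → (IsConj (J a) (J b) ↔ ∃ k, sgn k a = b) := by
    intro a b ha
    constructor
    · intro h
      obtain ⟨g, hg⟩ := isConj_iff.1 h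
      obtain ⟨c, k, rfl⟩ := hsurj g (hfus a b ha g hg)
      exact ⟨k, hJinj ((hact a k c).symm.trans hg)⟩
    · rintro ⟨k, rfl⟩
      exact isConj_iff.2 ⟨_, hact a k 0⟩
  have hcent : ∀ i, Nat.card (Subgroup.centralizer ({J (pts i)} : Set G)) = 27 * ![2, 2, 1] i := by
    intro i
    rw [← card_stab i]
    let F : A × {k : Fin 4 // sgn k (pts i) = pts i} → Subgroup.centralizer ({J (pts i)} : Set G) := fun p =>
      ⟨J p.1 * Nn p.2.1, Subgroup.mem_centralizer_singleton_iff.2 (by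
        have h := hact (pts i) p.2.1 p.1
        rw [p.2.2] at h
        exact mul_inv_eq_iff_eq_mul.1 h)⟩
    have hF : Function.Bijective F := by
      refine ⟨fun p q h => ?_, fun g => ?_⟩
      · obtain ⟨h1, h2⟩ := hinj _ _ _ _ (congrArg Subtype.val h)
        exact Prod.ext h1 (Subtype.ext h2)
      · obtain ⟨c, k, hck⟩ := hsurj g (hC _ (hJT _) (hJne _ (pts_ne_zero i)) g.2)
        refine ⟨(c, ⟨k, hJinj ?_⟩), Subtype.ext hck.symm⟩
        rw [← hact (pts i) k c, ← hck, Subgroup.mem_centralizer_singleton_iff.1 g.2, mul_inv_cancel_right]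
    rw [← Nat.card_eq_of_bijective F hF, Nat.card_prod, Nat.card_eq_fintype_card, Nat.card_eq_fintype_card]
    rfl
  have hcount : ∀ i j, i ≠ j → ∀ a, a ≠ 0 →
      (ClassConstants.count (J (pts i)) (J (pts j)) (J a) : ℤ) = ways (pts i) (pts j) a := by
    intro i j hij a ha
    have hu := pts_ne_zero i
    have hv := pts_ne_zero j
    let p : A → Prop := fun b => (∃ k, sgn k (pts i) = b) ∧ ∃ k, sgn k (pts j) = a - b
    let F : {b : A // p b} → {g : G // IsConj (J (pts i)) g ∧ IsConj (J (pts j)) (g⁻¹ * J a)} := fun b =>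
      ⟨J b.1, (hconj _ _ hu).2 b.2.1, by
        rw [← hJneg, ← hJadd, neg_add_eq_sub]; exact (hconj _ _ hv).2 b.2.2⟩
    have hF : Function.Bijective F := by
      refine ⟨fun b c h => Subtype.ext (hJinj (congrArg Subtype.val h :)), fun ⟨g, hg, hg'⟩ => ?_⟩
      have h3 : ∀ u w : G, IsConj u w → u ^ 3 = 1 → w ^ 3 = 1 := fun u w h h' => by
        obtain ⟨k, rfl⟩ := isConj_iff.1 h
        rw [conj_pow, h']; group
      have hgo : orderOf g = 3 := by
        obtain ⟨k, rfl⟩ := isConj_iff.1 hg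
        rw [← hJord _ hu]
        simpa using orderOf_injective (MulAut.conj k).toMonoidHom (MulAut.conj k).injective (J (pts i))
      have hne : ¬ IsConj g (g⁻¹ * J a) := fun h => by
        obtain ⟨k, hk⟩ := (hconj _ _ hu).1 ((hg.trans h).trans hg'.symm)
        exact pts_orbit i j hij k hk
      have hcm := Triangle.commute_of_triangle hgo (h3 _ _ hg' (hJ3 _))
        (by rw [mul_inv_cancel_left]; exact hJ3 a) hP hc hne
      rw [mul_inv_cancel_left] at hcm
      have hgT : g ∈ T := by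
        refine hcyc g (h3 _ _ hg (hJ3 _)) _ (hJT a) (hJne a ha) ?_
        calc g * J a = g * (g⁻¹ * J a * g) := by rw [← hcm]
          _ = J a * g := by group
      obtain ⟨b, hb⟩ := eT.surjective ⟨g, hgT⟩
      have hgb : g = J b := (congrArg Subtype.val hb).symm
      subst hgb
      refine ⟨⟨b, (hconj _ _ hu).1 hg, (hconj _ _ hv).1 ?_⟩, rfl⟩
      rwa [← hJneg, ← hJadd, neg_add_eq_sub] at hg'
    rw [ways, ← Fintype.card_subtype, ← Nat.card_eq_fintype_card,
      show Nat.card {b : A // (∃ k, sgn k (pts i) = b) ∧ ∃ k, sgn k (pts j) = a - b} = _ from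
        Nat.card_eq_of_bijective F hF]
    rfl
  -- characters of `T`
  obtain ⟨ζ, hζ⟩ : ∃ ζ : ℂ, IsPrimitiveRoot ζ 3 := ⟨_, Complex.isPrimitiveRoot_exp 3 (by norm_num)⟩
  have hζu : (hζ.isUnit (by norm_num)).unit ^ 3 = 1 := by
    refine Units.ext ?_
    rw [Units.val_pow_eq_pow_val, IsUnit.unit_spec, hζ.pow_eq_one, Units.val_one]
  let ee : AddChar (ZMod 3) ℂˣ := AddChar.zmodChar 3 hζu
  have hee : ∀ z : ZMod 3, (ee z : ℂ) = ζ ^ z.val := fun z => by
    rw [AddChar.zmodChar_apply, Units.val_pow_eq_pow_val, IsUnit.unit_spec]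
  have hee0 : (ee 0 : ℂ) = 1 := by rw [AddChar.map_zero_eq_one]; rfl
  have hee12 : (ee 1 : ℂ) + (ee 2 : ℂ) = -1 := by
    have h := hζ.geom_sum_eq_zero (by norm_num)
    simp only [Finset.sum_range_succ, Finset.sum_range_zero, zero_add, pow_zero] at h
    rw [hee, hee, show (1 : ZMod 3).val = 1 from rfl, show (2 : ZMod 3).val = 2 from rfl]
    linear_combination h
  have hsum_ee : ∀ {ι : Type} [Fintype ι] (w : ι → ℤ) (f : ι → ZMod 3),
      ∑ i ∈ Finset.univ.filter (fun i => f i = 1), w i = ∑ i ∈ Finset.univ.filter (fun i => f i = 2), w i →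
      ∑ i, (w i : ℂ) * (ee (f i) : ℂ) =
        ((∑ i ∈ Finset.univ.filter (fun i => f i = 0), w i -
          ∑ i ∈ Finset.univ.filter (fun i => f i = 1), w i : ℤ) : ℂ) := by
    intro ι _ w f h12
    have hz : ∀ z, ∑ i ∈ Finset.univ.filter (fun i => f i = z), (w i : ℂ) * (ee (f i) : ℂ) =
        ((∑ i ∈ Finset.univ.filter (fun i => f i = z), w i : ℤ) : ℂ) * (ee z : ℂ) := fun z => by
      push_cast
      rw [Finset.sum_mul]
      exact Finset.sum_congr rfl fun i hi => by rw [(Finset.mem_filter.1 hi).2]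
    rw [← Finset.sum_fiberwise Finset.univ f, Finset.sum_congr rfl fun z _ => hz z,
      univ_three.1, Finset.sum_insert univ_three.2.1, Finset.sum_insert univ_three.2.2, Finset.sum_singleton, ← h12, hee0]
    push_cast
    linear_combination (∑ i ∈ Finset.univ.filter (fun i => f i = 1), (w i : ℂ)) * hee12
  have hee_conj : ∀ z : ZMod 3, conj (ee z : ℂ) = (ee (-z) : ℂ) := fun z => by
    rw [AddChar.map_neg_eq_inv, Units.val_inv_eq_inv_val, Complex.inv_eq_conj]
    rw [hee, norm_pow, hζ.norm'_eq_one (by norm_num), one_pow]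
  let lam : Fin 3 → (T →* ℂˣ) := fun i =>
    { toFun := fun t => ee (dot (cs i) (eT.symm t))
      map_one' := by
        rw [show eT.symm 1 = 0 from hJinj (by rw [hsymm, hJ0]; rfl), show dot (cs i) 0 = 0 by simp [dot],
          AddChar.map_zero_eq_one]
      map_mul' := fun s t => by
        rw [show eT.symm (s * t) = eT.symm s + eT.symm t from
            hJinj (by rw [hJadd, hsymm, hsymm, hsymm]; rfl), ← AddChar.map_add_eq_mul]
        exact congrArg ee (by simp only [dot, Prod.fst_add, Prod.snd_add]; ring) }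
  have hlam : ∀ i a, (lam i (eT a) : ℂ) = (ee (dot (cs i) a) : ℂ) := fun i a => by
    show (ee (dot (cs i) (eT.symm (eT a))) : ℂ) = _
    rw [Equiv.symm_apply_apply]
  let f : Fin 3 → Fin 3 → T → ℂ := fun i j => fun t => (lam i t : ℂ) - (lam j t : ℂ)
  let D : Fin 3 → G → ℂ := fun i => Cfsg.indFun T (f i 0)
  haveI : Fintype T := Fintype.ofFinite T
  haveI : Fintype (Subgroup.normalizer (T : Set G)) := Fintype.ofFinite _
  have hD : ∀ i a, D i (J a) = ((th i a - th 0 a : ℤ) : ℂ) := by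
    intro i a
    have horb : ∀ i a, ∑ k : Fin 4, (ee (dot (cs i) (sgn k a)) : ℂ) = (th i a : ℂ) := by
      intro i a
      have h := hsum_ee (fun _ : Fin 4 => (1 : ℤ)) (fun k => dot (cs i) (sgn k a))
        (by simpa [orbitCnt] using orbitCnt_symm i a)
      simpa [th, orbitCnt] using h
    rcases eq_or_ne a 0 with rfl | ha
    · rw [hJ0]
      show Cfsg.indFun T (f i 0) 1 = _
      rw [indFun_one, show f i 0 1 = 0 by simp [f], mul_zero, show th i 0 - th 0 0 = 0 from
        th_zero i, Int.cast_zero]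
    rw [show J a = ((eT a : T) : G) from rfl]
    show Cfsg.indFun T (f i 0) (eT a : T) = _
    rw [Induce.indFun_apply_of_ti T (f i 0) (eT a) fun x hx _ => ?_]
    · let EN : A × Fin 4 ≃ Subgroup.normalizer (T : Set G) :=
        E.trans (MulEquiv.subgroupCongr hN.symm).toEquiv
      rw [← EN.sum_comp, Fintype.sum_prod_type]
      have hterm : ∀ c k, f i 0 (Induce.conjHom T (EN (c, k)) (EN (c, k)).2 (eT a)) =
          (ee (dot (cs i) (sgn k a)) : ℂ) - (ee (dot (cs 0) (sgn k a)) : ℂ) := by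
        intro c k
        have : Induce.conjHom T (EN (c, k)) (EN (c, k)).2 (eT a) = eT (sgn k a) := Subtype.ext (by
          show (J c * Nn k)⁻¹ * J a * (J c * Nn k) = J (sgn k a)
          calc (J c * Nn k)⁻¹ * J a * (J c * Nn k) = (Nn k)⁻¹ * ((J c)⁻¹ * (J a * J c)) * Nn k := by group
            _ = Nn k * J a * Nn k := by
              rw [hTcomm _ (hJT a) _ (hJT c), inv_mul_cancel_left, hNi]
            _ = J (sgn k a) := by rw [hNJ, mul_assoc, hNN, mul_one])
        simp only [f, this, hlam]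
      simp only [hterm, Finset.sum_sub_distrib, horb, Finset.sum_const, Finset.card_univ, nsmul_eq_mul]
      rw [hT, show Fintype.card A = 27 from rfl]
      push_cast
      ring
    · obtain ⟨b, hb⟩ := eT.surjective ⟨_, hx⟩
      rw [hN]
      refine (inv_inv x) ▸ H.inv_mem (hfus a b ha x⁻¹ ?_)
      rw [inv_inv]
      exact (congrArg Subtype.val hb).symm
  have hgenf : ∀ i j, Cfsg.IsGeneralizedCharacter T (f i j) := fun i j =>
    isGen_sub (isGen_of_isCharacter (isCharacter_linear (lam i))) (isGen_of_isCharacter (isCharacter_linear (lam j)))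
  have hDcl : ∀ i, Cfsg.IsClassFunction G (D i) := fun i => indFun_isClassFunction _ _
  have hinner : ∀ i j, i ≠ 0 → j ≠ 0 →
      Cfsg.classInner (D i) (D j) = if i = j then (2 : ℂ) else 1 := by
    intro i j hi hj
    have hl : ∀ l, ∑ a : A, ((th i a - th 0 a : ℤ) : ℂ) * (ee (dot (cs l) (-a)) : ℂ) =
        ((dsum i 0 l 0 - dsum i 0 l 1 : ℤ) : ℂ) := fun l =>
      hsum_ee (fun a => th i a - th 0 a) (fun a => dot (cs l) (-a)) (dsum_symm i l)
    show Cfsg.classInner (D i) (Cfsg.indFun T (f j 0)) = _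
    rw [frobenius_reciprocity' T _ (hDcl i), classInner_def, hT, ← eT.sum_comp]
    have hterm : ∀ a, D i ((eT a : T) : G) * conj (f j 0 (eT a)) =
        ((th i a - th 0 a : ℤ) : ℂ) * (ee (dot (cs j) (-a)) : ℂ) -
        ((th i a - th 0 a : ℤ) : ℂ) * (ee (dot (cs 0) (-a)) : ℂ) := by
      intro a
      rw [heT, hD]
      simp only [f, hlam, map_sub, hee_conj, mul_sub]
      congr 4 <;> simp [dot] <;> ring
    rw [Finset.sum_congr rfl fun a _ => hterm a, Finset.sum_sub_distrib, hl, hl, ← Int.cast_sub,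
      dsum_val i j hi hj]
    split_ifs <;> norm_num
  obtain ⟨ε, μ, hε, hμ, hμd⟩ := Lattice.exists_differences (0 : Fin 3) D
    (by
      show Cfsg.indFun T (f 0 0) = 0
      rw [show f 0 0 = 0 from funext fun t => sub_self _, indFun_zero])
    (fun i _ => isGen_indFun T (hgenf i 0))
    (fun i _ => by
      show Cfsg.indFun T (f i 0) 1 = 0
      rw [indFun_one]; simp [f])
    (fun i hi => by rw [hinner i i hi hi, if_pos rfl])
    (fun i j hi hj hij => by rw [hinner i j hi hj, if_neg hij])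
  have hεε : (ε : ℂ) * ε = 1 := by rcases hε with h | h <;> rw [h] <;> norm_num
  haveI := Fintype.ofFinite (Cfsg.IrrCharacter G)
  obtain ⟨X, hX0, hX⟩ := irr_one_pos (μ 0).2
  have hX' : ∀ i, (μ i : G → ℂ) 1 = (X : ℂ) := by
    intro i
    have h := congrFun (hμd i) 1
    rw [← hJ0, hD] at h
    rw [show th i 0 - th 0 0 = 0 from th_zero i, Int.cast_zero,
      hJ0, Pi.smul_apply, Pi.sub_apply, smul_eq_mul, hX] at h
    linear_combination (ε : ℂ) * (-h) + (-(μ i : G → ℂ) 1 + (X : ℂ)) * hεε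
  let m : A → ℂ := fun a => (μ 0 : G → ℂ) (J a) - (ε : ℂ) * (th 0 a : ℂ)
  have hμval : ∀ i a, (μ i : G → ℂ) (J a) = (ε : ℂ) * (th i a : ℂ) + m a := by
    intro i a
    have h := congrFun (hμd i) (J a)
    rw [hD, Pi.smul_apply, Pi.sub_apply, smul_eq_mul] at h
    push_cast at h
    simp only [m]
    linear_combination (-(ε : ℂ)) * h + (-(μ i : G → ℂ) (J a) + (μ 0 : G → ℂ) (J a)) * hεε
  -- the equations
  set g : ℂ := (Nat.card G : ℂ) with hg
  have hg0 : g ≠ 0 := natCard_ne_zero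
  have key : ∀ u v i j, u ≠ v →
      g * (ε : ℂ) * (((μ i : G → ℂ) (J (pts u)) * (μ i : G → ℂ) (J (pts v))) -
        ((μ j : G → ℂ) (J (pts u)) * (μ j : G → ℂ) (J (pts v)))) * 27 =
      (27 * (![2, 2, 1] : Fin 3 → ℕ) u : ℂ) * (27 * (![2, 2, 1] : Fin 3 → ℕ) v : ℂ) * (X : ℂ) *
        (((wsum (pts u) (pts v) i 0 - wsum (pts u) (pts v) i 1) -
          (wsum (pts u) (pts v) j 0 - wsum (pts u) (pts v) j 1) : ℤ) : ℂ) := by
    intro u v i j huv
    have hf : Cfsg.indFun T (f i j) = (ε : ℂ) • ((μ i : G → ℂ) - (μ j : G → ℂ)) := by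
      have h : Cfsg.indFun T (f i j) = D i - D j := by
        show _ = Cfsg.indFun T (f i 0) - Cfsg.indFun T (f j 0)
        rw [← indFun_sub]
        congr 1
        funext t
        simp only [f, Pi.sub_apply]; ring
      rw [h, hμd i, hμd j, ← smul_sub, sub_sub_sub_cancel_right]
    have h1 := ClassConstants.sum_count_mul_indFun T (f i j) (J (pts u)) (J (pts v))
    simp only [hf, Pi.smul_apply, Pi.sub_apply, smul_eq_mul, mul_sub, Finset.sum_sub_distrib,
      mul_left_comm _ (ε : ℂ), ← Finset.mul_sum, ClassConstants.sum_count_mul_char, hX', hT] at h1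
    have h2 : ∑ w : T, (ClassConstants.count (J (pts u)) (J (pts v)) w : ℂ) * f i j w =
        (((wsum (pts u) (pts v) i 0 - wsum (pts u) (pts v) i 1) -
          (wsum (pts u) (pts v) j 0 - wsum (pts u) (pts v) j 1) : ℤ) : ℂ) := by
      rw [← eT.sum_comp]
      have hterm : ∀ a, (ClassConstants.count (J (pts u)) (J (pts v)) ((eT a : T) : G) : ℂ) * f i j (eT a) =
          (ways (pts u) (pts v) a : ℂ) * (ee (dot (cs i) a) : ℂ) -
          (ways (pts u) (pts v) a : ℂ) * (ee (dot (cs j) a) : ℂ) := by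
        intro a
        simp only [f, hlam, heT, ← mul_sub]
        rcases eq_or_ne a 0 with rfl | ha
        · simp [dot]
        · rw [← hcount u v huv a ha]; push_cast; rfl
      rw [Finset.sum_congr rfl fun a _ => hterm a, Finset.sum_sub_distrib,
        hsum_ee _ _ (wsum_symm u v i), hsum_ee _ _ (wsum_symm u v j)]
      simp only [wsum]
      rw [← Int.cast_sub]
    rw [h2] at h1
    have hsz : ∀ u, (BlocksChars.ClassAlg.classSize (J (pts u)) : ℂ) *
        (27 * (![2, 2, 1] : Fin 3 → ℕ) u : ℂ) = g := fun u => by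
      have h := BlocksChars.ClassAlg.classSize_mul_card_centralizer (J (pts u))
      rw [hcent] at h
      rw [hg, ← h]; push_cast; rfl
    have hXc : (X : ℂ) ≠ 0 := by exact_mod_cast hX0.ne'
    have hu' := hsz u
    have hv' := hsz v
    set Ku := (BlocksChars.ClassAlg.classSize (J (pts u)) : ℂ)
    set Kv := (BlocksChars.ClassAlg.classSize (J (pts v)) : ℂ)
    field_simp at h1
    refine mul_left_cancel₀ hg0 ?_
    rw [← hg] at h1
    linear_combination (27 * ((![2, 2, 1] : Fin 3 → ℕ) u : ℂ)) * (27 * ((![2, 2, 1] : Fin 3 → ℕ) v : ℂ)) * h1 -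
      27 * (ε : ℂ) * (((μ i : G → ℂ) (J (pts u)) * (μ i : G → ℂ) (J (pts v))) -
        ((μ j : G → ℂ) (J (pts u)) * (μ j : G → ℂ) (J (pts v)))) *
        ((Ku * (27 * ((![2, 2, 1] : Fin 3 → ℕ) u : ℂ))) * hv' + g * hu')
  obtain ⟨t00, t10, t20, t01, t11, t21, t02, t12, t22⟩ := th_pts
  obtain ⟨w1, w2, w3⟩ := wsum_val
  have e1 := key 1 0 0 1 (by decide)
  have e2 := key 2 0 0 1 (by decide)
  have e3 := key 1 2 2 0 (by decide)
  simp only [w1, w2, w3, hμval, t00, t10, t20, t01, t11, t21, t02, t12, t22, Matrix.cons_val_zero,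
    Matrix.cons_val_one, Matrix.cons_val] at e1 e2 e3
  push_cast at e1 e2 e3
  set m0 := m (pts 0)
  set m1 := m (pts 1)
  set m2 := m (pts 2)
  have hd : g * (m1 - m2) = 0 := by
    linear_combination (1 / 162 : ℂ) * e1 - (1 / 162 : ℂ) * e2 - g * (m1 - m2) * hεε
  have hs : g * (m1 + 2 * m2) = 0 := by
    linear_combination (1 / 81 : ℂ) * e3 - g * (m1 + 2 * m2) * hεε
  have hm : g * m1 = 0 := by linear_combination (2 / 3 : ℂ) * hd + (1 / 3 : ℂ) * hs
  have hmain : g = 27 * (ε : ℂ) * (X : ℂ) := by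
    linear_combination (-(ε : ℂ) / 324) * e1 + (ε : ℂ) * (1/2 : ℂ) * hm * ((ε : ℂ) * ε) +
      (-g * ((ε : ℂ) * ε) - g) * hεε
  have hgX : (Nat.card G : ℤ) = 27 * ε * (X : ℤ) := by
    have hmain' : (Nat.card G : ℂ) = ((27 * ε * (X : ℤ) : ℤ) : ℂ) := by push_cast; exact hmain
    exact_mod_cast hmain'
  have hεp : ε = 1 := by
    rcases hε with h | h
    · exact h
    · exfalso
      rw [h] at hgX
      have : 0 < Nat.card G := Nat.card_pos
      omega
  have hsq : 3 * X ^ 2 ≤ Nat.card G := by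
    choose deg hdeg0 hdeg using fun χ : Cfsg.IrrCharacter G => irr_one_pos χ.2
    have h := sum_degree_sq (G := G)
    simp only [hdeg] at h
    have h' : ∑ χ : Cfsg.IrrCharacter G, deg χ ^ 2 = Nat.card G := by exact_mod_cast h
    have hd : ∀ i, deg (μ i) = X := fun i => by exact_mod_cast (hdeg (μ i)).symm.trans (hX' i)
    rw [← h']
    refine le_trans (le_of_eq ?_) (Finset.sum_le_sum_of_subset (Finset.subset_univ (Finset.univ.image μ)))
    rw [Finset.sum_image (fun a _ b _ h => hμ h)]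
    simp [hd]
  have hle : Nat.card G ≤ 243 := by
    rw [hεp] at hgX
    have : X ≤ 9 := by nlinarith
    omega
  obtain ⟨r, hr⟩ : 108 ∣ Nat.card G := hHcard ▸ Subgroup.card_subgroup_dvd_card H
  rcases (by omega : r = 0 ∨ r = 1 ∨ r = 2) with rfl | rfl | rfl
  · exact absurd hr (by have : 0 < Nat.card G := Nat.card_pos; omega)
  · exact Subgroup.eq_top_of_card_eq H (by rw [hr, hHcard])
  · haveI : H.Normal := Subgroup.normal_of_index_eq_two (by
      have h := H.card_mul_index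
      rw [hr, hHcard] at h; omega)
    refine eq_top_iff.2 fun x _ => ?_
    have hmaps : ∀ t ∈ T, ∀ y : G, y * t * y⁻¹ ∈ T := fun t ht y =>
      hmemT _ (Subgroup.Normal.conj_mem inferInstance t (hTH ht) y)
        (hconj3 t y (hTp.to_le (Subgroup.zpowers_le.2 ht)))
    rw [← hN, Subgroup.mem_normalizer_iff]
    refine fun t => ⟨fun ht => hmaps t ht x, fun ht => ?_⟩
    have h2 := hmaps _ ht x⁻¹
    rwa [show x⁻¹ * (x * t * x⁻¹) * x⁻¹⁻¹ = t by group] at h2

end Cfsg.Agent.S3701
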