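import Cfsg.Statements.S3703

set_option autoImplicit false
open Cfsg
open scoped Pointwise

namespace Cfsg.Agent.S3703

universe u

theorem inl_inr_pow {K : Type*} [Group K] {A : Type u} [CommGroup A] (φ : K →* MulAut A) (a : A) (y : K) (n : ℕ) :
    ((SemidirectProduct.inl a * SemidirectProduct.inr y : A ⋊[φ] K) ^ n).left =
      ∏ i ∈ Finset.range n, φ (y ^ i) a ∧
    ((SemidirectProduct.inl a * SemidirectProduct.inr y : A ⋊[φ] K) ^ n).right = y ^ n := by
  induction n with
  | zero => simp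
  | succ n ih =>
    rw [pow_succ, Finset.prod_range_succ]
    simp [ih.1, ih.2, pow_succ]

/-- A coprime group with a fixed-point-free cyclic complement all of whose norms vanish acts trivially. -/
theorem trivial_abelian {K : Type*} [Group K] (R : Subgroup K) [Finite R] (y : K) (s : ℕ) (hs : 2 ≤ s)
    (hnorm : ∀ x ∈ R, y * x * y⁻¹ ∈ R) (hfpf : ∀ i, 0 < i → i < s → ∀ x ∈ R, x * y ^ i = y ^ i * x → x = 1)
    {A : Type u} [CommGroup A] [Finite A] (hcop : (Nat.card A).Coprime (Nat.card R)) (φ : K →* MulAut A)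
    (h : ∀ a : A, (SemidirectProduct.inl a * SemidirectProduct.inr y : A ⋊[φ] K) ^ s = 1) :
    ∀ x ∈ R, φ x = 1 := by
  classical
  haveI := Fintype.ofFinite R
  have hN : ∀ a : A, ∏ i ∈ Finset.range (s - 1), φ (y ^ (i + 1)) a = a⁻¹ := by
    intro a
    have h' := (inl_inr_pow φ a y s).1
    rw [h a, SemidirectProduct.one_left] at h'
    obtain ⟨t, rfl⟩ : ∃ t, s = t + 1 := ⟨s - 1, by omega⟩
    rw [Finset.prod_range_succ', pow_zero, map_one, MulAut.one_apply] at h'
    rw [Nat.add_sub_cancel]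
    exact eq_inv_of_mul_eq_one_left h'.symm
  have hpow : ∀ (i : ℕ), ∀ x ∈ R, y ^ i * x * (y ^ i)⁻¹ ∈ R := by
    intro i
    induction i with
    | zero => simp
    | succ i ih =>
      intro x hx
      have := hnorm _ (ih x hx)
      rw [pow_succ']
      simpa [mul_assoc] using this
  have hσ : ∀ i, 0 < i → i < s → ∀ v : A,
      ∏ x : R, φ ((x : K) * y ^ i * (x : K)⁻¹) v = ∏ x : R, φ (x : K) (φ (y ^ i) v) := by
    intro i hi0 his v
    let σ : R → R := fun x => ⟨(x : K) * (y ^ i * (x : K)⁻¹ * (y ^ i)⁻¹), R.mul_mem x.2 (hpow i _ (R.inv_mem x.2))⟩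
    have hinj : Function.Injective σ := by
      intro a b hab
      have e : (a : K) * y ^ i * (a : K)⁻¹ = (b : K) * y ^ i * (b : K)⁻¹ := by
        have := congrArg (fun z : R => (z : K) * y ^ i) hab
        simpa [σ, mul_assoc] using this
      have hc : ((b⁻¹ * a : R) : K) = 1 := by
        refine hfpf i hi0 his _ (b⁻¹ * a).2 ?_
        rw [Subgroup.coe_mul, Subgroup.coe_inv]
        calc (b : K)⁻¹ * a * y ^ i = (b : K)⁻¹ * ((a : K) * y ^ i * (a : K)⁻¹) * a := by group
          _ = y ^ i * ((b : K)⁻¹ * a) := by rw [e]; group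
      exact (inv_mul_eq_one.1 (Subtype.ext hc)).symm
    refine Fintype.prod_bijective σ ⟨hinj, hinj.surjective_of_finite (Equiv.refl R)⟩ _ _ fun x => ?_
    rw [← MulAut.mul_apply, ← map_mul]
    congr 1
    simp [σ, mul_assoc]
  have hS : ∀ v : A, ∏ x : R, φ (x : K) v = v ^ Nat.card R := by
    intro v
    have e1 : ∏ i ∈ Finset.range (s - 1), ∏ x : R, φ ((x : K) * y ^ (i + 1) * (x : K)⁻¹) v =
        (v ^ Nat.card R)⁻¹ := by
      rw [Finset.prod_comm]
      have : ∀ x : R, ∏ i ∈ Finset.range (s - 1), φ ((x : K) * y ^ (i + 1) * (x : K)⁻¹) v = v⁻¹ := by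
        intro x
        simp only [map_mul, MulAut.mul_apply, ← map_prod (φ (x : K)), hN, map_inv, MulAut.apply_inv_self]
      rw [Finset.prod_congr rfl fun x _ => this x, Finset.prod_const, Finset.card_univ,
        ← Nat.card_eq_fintype_card, inv_pow]
    rw [Finset.prod_congr rfl fun i hi => hσ (i + 1) i.succ_pos (by have := Finset.mem_range.1 hi; omega) v,
      Finset.prod_comm] at e1
    simp only [← map_prod, hN, map_inv, Finset.prod_inv_distrib] at e1
    exact inv_injective e1
  intro x hx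
  refine MulEquiv.ext fun v => ?_
  have hfix : φ x (v ^ Nat.card R) = v ^ Nat.card R := by
    rw [← hS, map_prod]
    exact Fintype.prod_bijective (fun z : R => (⟨x, hx⟩ : R) * z) (Group.mulLeft_bijective _) _ _
      fun z => by simp
  rw [map_pow] at hfix
  exact (powCoprime hcop).injective hfix

theorem map_inl_inr_pow {K : Type*} [Group K] {A B : Type*} [Group A] [Group B] (φ : K →* MulAut A)
    (ψ : K →* MulAut B) (f : A →* B) (hf : ∀ k a, f (φ k a) = ψ k (f a)) (a : A) (y : K) (n : ℕ) :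
    SemidirectProduct.map f (MonoidHom.id K) (fun k => MonoidHom.ext (hf k))
        ((SemidirectProduct.inl a * SemidirectProduct.inr y : A ⋊[φ] K) ^ n) =
      (SemidirectProduct.inl (f a) * SemidirectProduct.inr y : B ⋊[ψ] K) ^ n := by
  rw [map_pow, map_mul, SemidirectProduct.map_inl, SemidirectProduct.map_inr]
  rfl

theorem trivial_action {K : Type*} [Group K] (R : Subgroup K) [Finite R] (y : K) (s : ℕ) (hs : 2 ≤ s)
    (hnorm : ∀ x ∈ R, y * x * y⁻¹ ∈ R) (hfpf : ∀ i, 0 < i → i < s → ∀ x ∈ R, x * y ^ i = y ^ i * x → x = 1)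
    (p : ℕ) [Fact p.Prime] (hp : ¬ p ∣ Nat.card R) (n : ℕ) :
    ∀ (P : Type u) [Group P] [Finite P], Nat.card P ≤ n → IsPGroup p P → ∀ φ : K →* MulAut P,
      (∀ a : P, (SemidirectProduct.inl a * SemidirectProduct.inr y : P ⋊[φ] K) ^ s = 1) →
      ∀ x ∈ R, φ x = 1 := by
  induction n with
  | zero => intro P _ _ h; exact absurd h (Nat.not_le.2 Nat.card_pos)
  | succ n ih =>
    intro P _ _ hle hP φ h x hx
    rcases subsingleton_or_nontrivial P with hsub | hnt
    · exact MulEquiv.ext fun a => Subsingleton.elim _ _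
    set Z := Subgroup.center P
    haveI : Nontrivial Z := hP.center_nontrivial
    letI : CommGroup Z :=
      { (inferInstance : Group Z) with mul_comm := fun a b => Subtype.ext ((Subgroup.mem_center_iff.1 b.2 a)) }
    have hmapZ : ∀ (k : K) (z : P), z ∈ Z → φ k z ∈ Z := fun k z hz => by
      rw [Subgroup.mem_center_iff] at hz ⊢
      intro g
      have := congrArg (φ k) (hz ((φ k).symm g))
      simpa using this
    let φZ : K →* MulAut Z :=
      { toFun := fun k =>
          { toFun := fun z => ⟨φ k z, hmapZ k z z.2⟩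
            invFun := fun z => ⟨φ k⁻¹ z, hmapZ _ z z.2⟩
            left_inv := fun z => Subtype.ext (by simp)
            right_inv := fun z => Subtype.ext (by simp)
            map_mul' := fun a b => Subtype.ext (by simp) }
        map_one' := by ext; simp
        map_mul' := fun a b => by ext; simp }
    have hcop : (Nat.card Z).Coprime (Nat.card R) := by
      obtain ⟨k, hk⟩ := (IsPGroup.iff_card).1 (hP.to_subgroup Z)
      rw [hk]
      exact Nat.Coprime.pow_left _ ((Nat.Prime.coprime_iff_not_dvd Fact.out).2 hp)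
    have hZ : φZ x = 1 := by
      refine trivial_abelian R y s hs hnorm hfpf hcop φZ (fun z => ?_) x hx
      refine (SemidirectProduct.ext_iff).2 ⟨?_, ?_⟩
      · have e := congrArg SemidirectProduct.left (map_inl_inr_pow φZ φ Z.subtype (fun _ _ => rfl) z y s)
        rw [SemidirectProduct.map_left, show Z.subtype z = (z : P) from rfl, h] at e
        exact Subtype.ext e
      · have e := congrArg SemidirectProduct.right (map_inl_inr_pow φZ φ Z.subtype (fun _ _ => rfl) z y s)
        rw [SemidirectProduct.map_right, show Z.subtype z = (z : P) from rfl, h] at e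
        exact e
    -- the quotient
    let φQ : K →* MulAut (P ⧸ Z) :=
      { toFun := fun k => QuotientGroup.congr Z Z (φ k) (le_antisymm
          (Subgroup.map_le_iff_le_comap.2 fun z hz => hmapZ k z hz)
          (fun z hz => ⟨φ k⁻¹ z, hmapZ _ z hz, by simp⟩))
        map_one' := by
          refine MulEquiv.ext fun q => ?_
          induction q using QuotientGroup.induction_on with | _ a => simp
        map_mul' := fun a b => by
          refine MulEquiv.ext fun q => ?_
          induction q using QuotientGroup.induction_on with | _ c => simp }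
    have hQ : φQ x = 1 := by
      refine ih (P ⧸ Z) ?_ (hP.to_quotient Z) φQ (fun q => ?_) x hx
      · have h1 := Subgroup.card_eq_card_quotient_mul_card_subgroup Z
        have h2 : 2 ≤ Nat.card Z := Finite.one_lt_card
        have h3 : 2 * Nat.card (P ⧸ Z) ≤ Nat.card P := by rw [h1, mul_comm]; exact Nat.mul_le_mul_left _ h2
        have h4 : 0 < Nat.card (P ⧸ Z) := Nat.card_pos
        omega
      · induction q using QuotientGroup.induction_on with
        | _ a =>
          have e := map_inl_inr_pow φ φQ (QuotientGroup.mk' Z) (fun _ _ => rfl) a y s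
          rw [h, map_one] at e
          exact e.symm
    refine MulEquiv.ext fun a => ?_
    have hc : φ x a * a⁻¹ ∈ Z := by
      have e := congrArg (fun f : MulAut (P ⧸ Z) => f (a : P ⧸ Z)) hQ
      simp only [MulAut.one_apply] at e
      have e' : ((φ x a : P) : P ⧸ Z) = (a : P) := e
      rw [← QuotientGroup.eq_one_iff, QuotientGroup.mk_mul, QuotientGroup.mk_inv, e', mul_inv_cancel]
    set c := φ x a * a⁻¹ with hc'
    have hfixc : φ x c = c := congrArg (fun f : MulAut Z => ((f ⟨c, hc⟩ : Z) : P)) hZ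
    have hpow : ∀ k : ℕ, φ (x ^ k) a = c ^ k * a := by
      intro k
      induction k with
      | zero => simp
      | succ k ihk =>
        rw [pow_succ' x, map_mul, MulAut.mul_apply, ihk, map_mul, map_pow, hfixc,
          show φ x a = c * a by rw [hc']; group, ← mul_assoc, ← pow_succ]
    have h1 : c ^ orderOf (⟨x, hx⟩ : R) = 1 := by
      have e := hpow (orderOf (⟨x, hx⟩ : R))
      rw [show x ^ orderOf (⟨x, hx⟩ : R) = 1 from congrArg Subtype.val (pow_orderOf_eq_one (⟨x, hx⟩ : R)),
        map_one, MulAut.one_apply] at e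
      exact mul_eq_right.1 e.symm
    have h2 : orderOf c = 1 := by
      obtain ⟨k, hk⟩ := (IsPGroup.iff_orderOf).1 hP c
      have hd : orderOf c ∣ Nat.card R := (orderOf_dvd_of_pow_eq_one h1).trans (orderOf_dvd_natCard _)
      rw [hk] at hd ⊢
      rcases Nat.eq_zero_or_pos k with rfl | hk0
      · rfl
      · exact absurd ((dvd_pow_self p hk0.ne').trans hd) hp
    rw [orderOf_eq_one_iff] at h2
    rw [MulAut.one_apply, ← mul_inv_eq_one, ← hc', h2]

/-- If every lift of an element has the order of the element, the kernel acts trivially. -/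
theorem centralizes {G : Type u} [Group G] [Finite G] (N : Subgroup G) [N.Normal]
    (Rb : Subgroup (G ⧸ N)) (r : ℕ) [Fact r.Prime] (hRb : IsPGroup r Rb) (hrN : ¬ r ∣ Nat.card N)
    (hn : ∃ n : G ⧸ N, n ∈ Subgroup.normalizer (Rb : Set (G ⧸ N)))
    (good : G ⧸ N → Prop) (s : ℕ) (hs : 2 ≤ s)
    (hgood : ∃ n, good n ∧ n ∈ Subgroup.normalizer (Rb : Set (G ⧸ N)))
    (hgood' : ∀ n, good n → ∀ f ∈ Rb, good (f * n))
    (hfpf : ∀ n, good n → ∀ i, 0 < i → i < s → ∀ z ∈ Rb, z * n ^ i = n ^ i * z → z = 1)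
    (hall : ∀ g : G, good (g : G ⧸ N) → g ^ s = 1) :
    Rb ≤ (Subgroup.centralizer (N : Set G)).map (QuotientGroup.mk' N) := by
  classical
  set π := QuotientGroup.mk' N
  set E := Rb.comap π with hE
  have hNE : N ≤ E := fun z hz => by
    rw [hE, Subgroup.mem_comap, show π z = 1 from (QuotientGroup.eq_one_iff z).2 hz]; exact Rb.one_mem
  obtain ⟨R₀⟩ := (inferInstance : Nonempty (Sylow r E))
  set R : Subgroup G := (R₀ : Subgroup E).map E.subtype with hR
  have hRE : R ≤ E := Subgroup.map_subtype_le _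
  have hRp : IsPGroup r R := R₀.isPGroup'.map _
  have hπR : R.map π = Rb := by
    let f : E →* Rb := (π.comp E.subtype).codRestrict Rb fun e => e.2
    have hf : Function.Surjective f := by
      rintro ⟨q, hq⟩
      obtain ⟨g, rfl⟩ := QuotientGroup.mk'_surjective N q
      exact ⟨⟨g, hq⟩, rfl⟩
    have htop : ((R₀.mapSurjective hf : Sylow r Rb) : Subgroup Rb) = ⊤ :=
      ((R₀.mapSurjective hf).is_maximal' (Q := ⊤) (hRb.to_subgroup ⊤) le_top).symm
    apply le_antisymm
    · rintro q ⟨g, hg, rfl⟩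
      exact hRE hg
    · intro q hq
      have : (⟨q, hq⟩ : Rb) ∈ ((R₀.mapSurjective hf : Sylow r Rb) : Subgroup Rb) := htop ▸ Subgroup.mem_top _
      rw [Sylow.coe_mapSurjective] at this
      obtain ⟨e, he, heq⟩ := this
      exact ⟨e, ⟨e, he, rfl⟩, congrArg Subtype.val heq⟩
  have hdisj : ∀ z ∈ R, z ∈ N → z = 1 := by
    intro z hz hzN
    obtain ⟨k, hk⟩ := (IsPGroup.iff_orderOf).1 hRp ⟨z, hz⟩
    rw [Subgroup.orderOf_mk] at hk
    have hd : orderOf z ∣ Nat.card N := (Subgroup.orderOf_mk z hzN) ▸ orderOf_dvd_natCard (⟨z, hzN⟩ : N)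
    rcases Nat.eq_zero_or_pos k with rfl | hk0
    · exact orderOf_eq_one_iff.1 hk
    · exact absurd ((hk ▸ dvd_pow_self r hk0.ne').trans hd) hrN
  suffices hcent : R ≤ Subgroup.centralizer (N : Set G) by
    rw [← hπR]; exact Subgroup.map_mono hcent
  -- the centraliser in N
  set C := N ⊓ Subgroup.centralizer (R : Set G) with hC
  suffices hCN : ∀ p : ℕ, p.Prime → p ^ (Nat.card N).factorization p ∣ Nat.card C by
    have hdvd : Nat.card N ∣ Nat.card C := by
      rw [← Nat.factorization_le_iff_dvd Nat.card_pos.ne' Nat.card_pos.ne']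
      intro p
      by_cases hp : p.Prime
      · exact (hp.pow_dvd_iff_le_factorization Nat.card_pos.ne').1 (hCN p hp)
      · simp [Nat.factorization_eq_zero_of_not_prime _ hp]
    have hCeq : C = N := Subgroup.eq_of_le_of_card_ge inf_le_left (Nat.le_of_dvd Nat.card_pos hdvd)
    intro z hz
    rw [Subgroup.mem_centralizer_iff]
    intro w hw
    exact ((Subgroup.mem_centralizer_iff.1 ((hCeq ▸ hw : w ∈ C).2)) z hz).symm
  intro p hp
  haveI := Fact.mk hp
  by_cases hpr : p = r
  · subst hpr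
    rw [Nat.factorization_eq_zero_of_not_dvd hrN, pow_zero]
    exact one_dvd _
  -- an invariant Sylow subgroup
  letI : MulAction R (Sylow p N) := MulAction.compHom _ ((MulAut.conjNormal (H := N)).comp R.subtype)
  have hnp : ¬ r ∣ Nat.card (Sylow p N) := fun h => hrN
    (h.trans (Sylow.card_dvd_index (default : Sylow p N) |>.trans (Subgroup.index_dvd_card _)))
  obtain ⟨P₀, hP₀⟩ := hRp.nonempty_fixed_point_of_prime_not_dvd_card (Sylow p N) hnp
  set P : Subgroup G := (P₀ : Subgroup N).map N.subtype with hP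
  have hPN : P ≤ N := Subgroup.map_subtype_le _
  have hPp : IsPGroup p P := P₀.isPGroup'.map _
  have hRM : R ≤ Subgroup.normalizer (P : Set G) := by
    intro z hz
    rw [Subgroup.mem_normalizer_iff]
    have key : ∀ z ∈ R, ∀ u ∈ P, z * u * z⁻¹ ∈ P := by
      rintro z hz u ⟨v, hv, rfl⟩
      have hfix : ((MulAut.conjNormal (H := N) z) • P₀ : Sylow p N) = P₀ := hP₀ ⟨z, hz⟩
      have hm : MulAut.conjNormal (H := N) z v ∈ (((MulAut.conjNormal (H := N) z) • P₀ : Sylow p N) : Subgroup N) :=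
        ⟨v, hv, rfl⟩
      rw [hfix] at hm
      exact ⟨_, hm, MulAut.conjNormal_apply z v⟩
    intro u
    refine ⟨key z hz u, fun hu => ?_⟩
    have := key z⁻¹ (R.inv_mem hz) _ hu
    simpa [mul_assoc] using this
  set M := Subgroup.normalizer (P : Set G) with hMdef
  have hMN : M ⊔ N = ⊤ := Sylow.normalizer_sup_eq_top P₀
  -- a lift normalising both
  obtain ⟨n, hngood, hnn⟩ := hgood
  obtain ⟨g₀, rfl⟩ := QuotientGroup.mk'_surjective N n
  obtain ⟨m, hm, w, hw, hmw⟩ := Subgroup.mem_sup_of_normal_right.1 (hMN ▸ Subgroup.mem_top g₀ : g₀ ∈ M ⊔ N)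
  have hπm : π m = π g₀ := by
    rw [← hmw, map_mul, show π w = 1 from (QuotientGroup.eq_one_iff w).2 hw, mul_one]
  let EM : Subgroup M := E.subgroupOf M
  have hmnorm : (⟨m, hm⟩ : M) ∈ Subgroup.normalizer (EM : Set M) := by
    rw [Subgroup.mem_normalizer_iff]
    intro e
    show π (e : G) ∈ Rb ↔ π ((m : G) * e * (m : G)⁻¹) ∈ Rb
    rw [map_mul, map_mul, map_inv, hπm]
    exact Subgroup.mem_normalizer_iff.1 hnn _
  -- the Frattini argument in the normaliser
  have hREM : R ≤ E ⊓ M := le_inf hRE hRM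
  have hSyl : ∀ Q : Subgroup G, Q ≤ E → IsPGroup r Q → R ≤ Q → Q = R := by
    intro Q hQ hQp hle
    have h1 := R₀.is_maximal' (Q := Q.subgroupOf E) (hQp.comap_subtype)
      (fun e he => hle ⟨e, he, rfl⟩)
    refine le_antisymm (fun q hq => ?_) hle
    exact ⟨⟨q, hQ hq⟩, h1 ▸ (show (⟨q, hQ hq⟩ : E) ∈ Q.subgroupOf E from hq), rfl⟩
  let RM : Sylow r ↥(E ⊓ M) :=
    { toSubgroup := R.subgroupOf (E ⊓ M)
      isPGroup' := hRp.comap_subtype
      is_maximal' := fun {Q} hQ hle => by
        have h1 := hSyl (Q.map (E ⊓ M).subtype) ((Subgroup.map_subtype_le _).trans inf_le_left) (hQ.map _)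
          (fun z hz => ⟨⟨z, hREM hz⟩, hle hz, rfl⟩)
        refine le_antisymm (fun q hq => ?_) hle
        show (q : G) ∈ R
        rw [← h1]; exact ⟨q, hq, rfl⟩ }
  have hconjE : ∀ e ∈ E ⊓ M, m * e * m⁻¹ ∈ E ⊓ M := fun e he =>
    ⟨(Subgroup.mem_normalizer_iff.1 hmnorm ⟨e, he.2⟩).1 he.1, M.mul_mem (M.mul_mem hm he.2) (M.inv_mem hm)⟩
  let R' : Sylow r ↥(E ⊓ M) :=
    Sylow.ofCard (p := r) (((R.map (MulAut.conj m).toMonoidHom)).subgroupOf (E ⊓ M)) (by
      have hle : R.map (MulAut.conj m).toMonoidHom ≤ E ⊓ M := by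
        rintro _ ⟨z, hz, rfl⟩; exact hconjE z (hREM hz)
      rw [Nat.card_congr (Subgroup.subgroupOfEquivOfLe hle).toEquiv,
        Nat.card_congr (R.equivMapOfInjective _ (MulAut.conj m).injective).symm.toEquiv,
        ← Nat.card_congr (Subgroup.subgroupOfEquivOfLe hREM).toEquiv]
      exact RM.card_eq_multiplicity)
  obtain ⟨e, he⟩ := MulAction.exists_smul_eq ↥(E ⊓ M) R' RM
  set y : G := (e : G) * m with hy
  have hyM : y ∈ M := M.mul_mem e.2.2 hm
  have hyR : ∀ z ∈ R, y * z * y⁻¹ ∈ R := by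
    intro z hz
    have hz' : (⟨m * z * m⁻¹, hconjE z (hREM hz)⟩ : ↥(E ⊓ M)) ∈ (R' : Subgroup ↥(E ⊓ M)) :=
      (⟨z, hz, rfl⟩ : m * z * m⁻¹ ∈ R.map (MulAut.conj m).toMonoidHom)
    have hm' : e * ⟨m * z * m⁻¹, hconjE z (hREM hz)⟩ * e⁻¹ ∈ ((e • R' : Sylow r ↥(E ⊓ M)) : Subgroup ↥(E ⊓ M)) := by
      rw [Sylow.coe_subgroup_smul]
      exact ⟨_, hz', rfl⟩
    rw [he] at hm'
    have h' : (e : G) * (m * z * m⁻¹) * (e : G)⁻¹ ∈ R := hm'
    simpa [hy, mul_assoc] using h'
  have hygood : good (π y) := by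
    rw [hy, map_mul, hπm]; exact hgood' _ hngood _ e.2.1
  -- the action
  set K := M ⊓ Subgroup.normalizer (R : Set G) with hK
  have hyK : y ∈ K := by
    refine ⟨hyM, Subgroup.mem_normalizer_iff.2 fun z => ⟨hyR z, fun hz => ?_⟩⟩
    have hback : ∀ i : ℕ, ∀ z ∈ R, y ^ i * z * (y ^ i)⁻¹ ∈ R := by
      intro i
      induction i with
      | zero => simp
      | succ i ih => intro z hz; have := hyR _ (ih z hz); rw [pow_succ']; simpa [mul_assoc] using this
    obtain ⟨t, ht⟩ := Nat.exists_eq_succ_of_ne_zero (orderOf_pos y).ne'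
    have hyinv : y⁻¹ = y ^ t := inv_eq_of_mul_eq_one_right (by rw [← pow_succ', ← Nat.succ_eq_add_one, ← ht, pow_orderOf_eq_one])
    have := hback t _ hz
    rw [← hyinv, inv_inv] at this
    simpa [mul_assoc] using this
  have hRK : R ≤ K := le_inf hRM Subgroup.le_normalizer
  have hPK : ∀ (k : K) (u : G), u ∈ P → (k : G) * u * (k : G)⁻¹ ∈ P := fun k u hu =>
    (Subgroup.mem_normalizer_iff.1 k.2.1 u).1 hu
  let φ : K →* MulAut P :=
    { toFun := fun k =>
        { toFun := fun u => ⟨(k : G) * u * (k : G)⁻¹, hPK k u u.2⟩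
          invFun := fun u => ⟨((k⁻¹ : K) : G) * u * ((k⁻¹ : K) : G)⁻¹, hPK k⁻¹ u u.2⟩
          left_inv := fun u => Subtype.ext (by simp [mul_assoc])
          right_inv := fun u => Subtype.ext (by simp [mul_assoc])
          map_mul' := fun a b => Subtype.ext (by simp [mul_assoc]) }
      map_one' := by ext; simp
      map_mul' := fun a b => by ext; simp [mul_assoc] }
  have hpR : ¬ p ∣ Nat.card (R.subgroupOf K) := by
    rw [Nat.card_congr (Subgroup.subgroupOfEquivOfLe hRK).toEquiv]
    obtain ⟨k, hk⟩ := (IsPGroup.iff_card).1 hRp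
    rw [hk]
    exact fun h => hpr ((Nat.prime_dvd_prime_iff_eq hp Fact.out).1 (hp.dvd_of_dvd_pow h))
  let ι : P ⋊[φ] K →* G :=
    SemidirectProduct.lift P.subtype K.subtype fun k => by
      ext u
      simp [φ]
  have hpow_y : y ^ s = 1 := hall y hygood
  have htriv := trivial_action (R.subgroupOf K) ⟨y, hyK⟩ s hs (fun z hz => hyR z hz)
    (fun i hi0 his z hz he' => by
      have hz1 : π (z : G) = 1 := by
        refine hfpf _ hygood i hi0 his _ (hπR ▸ ⟨z, hz, rfl⟩) ?_
        have h' := congrArg (fun k : K => π (k : G)) he'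
        simpa using h'
      exact Subtype.ext (hdisj _ hz ((QuotientGroup.eq_one_iff _).1 hz1)))
    p hpR (Nat.card P) P le_rfl hPp φ (fun u => by
      set X : P ⋊[φ] K := SemidirectProduct.inl u * SemidirectProduct.inr ⟨y, hyK⟩ with hX
      have hu : ι X ^ s = 1 := by
        refine hall _ ?_
        have : ((ι X : G) : G ⧸ N) = π y := by
          simp only [hX, ι, map_mul, SemidirectProduct.lift_inl, SemidirectProduct.lift_inr]
          show π ((u : G) * y) = π y
          rw [map_mul, show π (u : G) = 1 from (QuotientGroup.eq_one_iff _).2 (hPN u.2), one_mul]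
        rw [this]; exact hygood
      have hr : (X ^ s).right = 1 := by
        rw [← SemidirectProduct.rightHom_eq_right, map_pow]
        simp only [hX, SemidirectProduct.rightHom_eq_right, SemidirectProduct.mul_right, SemidirectProduct.right_inl,
          SemidirectProduct.right_inr, one_mul]
        exact Subtype.ext (by rw [SubmonoidClass.coe_pow]; exact hpow_y)
      rw [← map_pow] at hu
      refine SemidirectProduct.ext_iff.2 ⟨Subtype.ext ?_, hr⟩
      rw [show (X ^ s) = SemidirectProduct.inl (X ^ s).left from by ext <;> simp [hr],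
        SemidirectProduct.lift_inl] at hu
      exact hu)
  have hPC : P ≤ C := by
    intro u hu
    refine ⟨hPN hu, Subgroup.mem_centralizer_iff.2 fun z hz => ?_⟩
    have h' := congrArg (fun f : MulAut P => ((f ⟨u, hu⟩ : P) : G)) (htriv ⟨z, hRK hz⟩ hz)
    have h'' : z * u * z⁻¹ = u := h'
    calc z * u = z * u * z⁻¹ * z := by group
      _ = u * z := by rw [h'']
  have hcardP : Nat.card P = p ^ (Nat.card N).factorization p := by
    rw [hP, ← Nat.card_congr ((P₀ : Subgroup N).equivMapOfInjective N.subtype N.subtype_injective).toEquiv]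
    exact P₀.card_eq_multiplicity
  exact hcardP ▸ Subgroup.card_dvd_of_le hPC

/-- Let `G/N` be a Frobenius group with cyclic complement and kernel of order coprime to `N`, not induced by the centraliser of `N`. Then some element has order `p` times the order of the complement, for a prime `p` dividing the order of `N`. -/
theorem result {G : Type*} [Group G] [Finite G] (N : Subgroup G) [N.Normal]
    (Fb Hb : Subgroup (G ⧸ N)) [Fb.Normal] (hHb : Cfsg.IsFrobeniusComplement Hb) (hker : Cfsg.frobeniusKernel Hb = (Fb : Set (G ⧸ N)))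
    (hcyc : IsCyclic Hb) (hcop : (Nat.card Fb).Coprime (Nat.card N))
    (hnot : ¬ Fb ≤ (Subgroup.centralizer (N : Set G)).map (QuotientGroup.mk' N)) :
    ∃ p : ℕ, p.Prime ∧ p ∣ Nat.card N ∧ ∃ g : G, orderOf g = p * Nat.card Hb := by
  classical
  obtain ⟨⟨h, hh⟩, hgen⟩ := IsCyclic.exists_generator (α := Hb)
  set s := Nat.card Hb with hs
  have hso : orderOf h = s := by
    rw [← Subgroup.orderOf_mk h hh, orderOf_eq_card_of_forall_mem_zpowers hgen]
  have hs2 : 2 ≤ s := by
    haveI : Nontrivial Hb := (Subgroup.nontrivial_iff_ne_bot Hb).2 hHb.1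
    exact Finite.one_lt_card
  -- the kernel meets the complement trivially, and powers of the generator act without fixed points
  have hFH : ∀ z ∈ Fb, z ∈ Hb → z = 1 := by
    intro z hz hzH
    have hz' : z ∈ Cfsg.frobeniusKernel Hb := hker ▸ hz
    rcases hz' with h1 | h1
    · exact h1
    · exact absurd (show z ∈ MulAut.conj (1 : G ⧸ N) • Hb by rw [map_one, one_smul]; exact hzH) (h1 1)
  have hfp : ∀ i, 0 < i → i < s → ∀ z ∈ Fb, z * h ^ i = h ^ i * z → z = 1 := by
    intro i hi0 his z hz he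
    by_contra hz1
    have hzH : z ∉ Hb := fun e => hz1 (hFH z hz e)
    have hmem : h ^ i ∈ Hb ⊓ (MulAut.conj z • Hb) := by
      refine ⟨Hb.pow_mem hh i, ⟨h ^ i, Hb.pow_mem hh i, ?_⟩⟩
      show z * h ^ i * z⁻¹ = h ^ i
      rw [he]; group
    rw [hHb.2.2 z hzH, Subgroup.mem_bot] at hmem
    exact pow_ne_one_of_lt_orderOf hi0.ne' (hso ▸ his) hmem
  have hconj : ∀ f ∈ Fb, ∃ k ∈ Fb, k * h * k⁻¹ = f * h := by
    let σ : Fb → Fb := fun k => ⟨(k : G ⧸ N) * (h * (k : G ⧸ N)⁻¹ * h⁻¹),
      Fb.mul_mem k.2 ((inferInstance : Fb.Normal).conj_mem _ (Fb.inv_mem k.2) h)⟩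
    have hinj : Function.Injective σ := by
      intro a b hab
      have e : (a : G ⧸ N) * h * (a : G ⧸ N)⁻¹ = (b : G ⧸ N) * h * (b : G ⧸ N)⁻¹ := by
        have := congrArg (fun z : Fb => (z : G ⧸ N) * h) hab
        simpa [σ, mul_assoc] using this
      have hc : ((b⁻¹ * a : Fb) : G ⧸ N) = 1 := by
        refine hfp 1 one_pos (by omega) _ (b⁻¹ * a).2 ?_
        rw [Subgroup.coe_mul, Subgroup.coe_inv, pow_one]
        calc (b : G ⧸ N)⁻¹ * a * h = (b : G ⧸ N)⁻¹ * ((a : G ⧸ N) * h * (a : G ⧸ N)⁻¹) * a := by group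
          _ = h * ((b : G ⧸ N)⁻¹ * a) := by rw [e]; group
      exact (inv_mul_eq_one.1 (Subtype.ext hc)).symm
    intro f hf
    obtain ⟨k, hk⟩ := hinj.surjective_of_finite (Equiv.refl Fb) ⟨f, hf⟩
    refine ⟨k, k.2, ?_⟩
    have := congrArg (fun z : Fb => (z : G ⧸ N) * h) hk
    simpa [σ, mul_assoc] using this
  -- either some lift has larger order, or all lifts have the order of the complement
  by_cases hall : ∀ g : G, (g : G ⧸ N) * h⁻¹ ∈ Fb → g ^ s = 1
  swap
  · push_neg at hall
    obtain ⟨g, hg, hgs⟩ := hall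
    obtain ⟨k, -, hk⟩ := hconj _ hg
    rw [inv_mul_cancel_right] at hk
    have hgo : orderOf (g : G ⧸ N) = s := by
      rw [← hso, ← hk, ← MulAut.conj_apply, MulEquiv.orderOf_eq]
    have hmem : g ^ s ∈ N := by
      rw [← QuotientGroup.eq_one_iff, QuotientGroup.mk_pow, ← hgo, pow_orderOf_eq_one]
    have hne : orderOf (g ^ s) ≠ 1 := fun e => hgs (orderOf_eq_one_iff.1 e)
    obtain ⟨q, hq, hqd⟩ := Nat.exists_prime_and_dvd hne
    have hsd : s ∣ orderOf g := hgo ▸ orderOf_map_dvd (QuotientGroup.mk' N) g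
    have hgk : orderOf (g ^ s) = orderOf g / s := by
      rw [orderOf_pow_of_dvd (by omega) hsd]
    refine ⟨q, hq, hqd.trans ((Subgroup.orderOf_mk _ hmem) ▸ orderOf_dvd_natCard (⟨g ^ s, hmem⟩ : N)), ?_⟩
    have hd : q * s ∣ orderOf g := by
      rw [hgk] at hqd
      exact (Nat.mul_dvd_mul_right hqd s).trans (by rw [Nat.div_mul_cancel hsd])
    exact ⟨g ^ (orderOf g / (q * s)), orderOf_pow_orderOf_div (orderOf_pos g).ne' hd⟩
  exfalso
  refine hnot ?_
  set B := (Subgroup.centralizer (N : Set G)).map (QuotientGroup.mk' N) with hB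
  have hdvd : Nat.card Fb ∣ Nat.card (B ⊓ Fb : Subgroup (G ⧸ N)) := by
    rw [← Nat.factorization_le_iff_dvd Nat.card_pos.ne' Nat.card_pos.ne']
    intro r
    by_cases hr : r.Prime
    swap
    · simp [Nat.factorization_eq_zero_of_not_prime _ hr]
    rw [← hr.pow_dvd_iff_le_factorization Nat.card_pos.ne']
    haveI := Fact.mk hr
    by_cases hrF : r ∣ Nat.card Fb
    swap
    · rw [Nat.factorization_eq_zero_of_not_dvd hrF, pow_zero]; exact one_dvd _
    obtain ⟨R₁⟩ := (inferInstance : Nonempty (Sylow r Fb))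
    set Rb := (R₁ : Subgroup Fb).map Fb.subtype with hRb
    have hRF : Rb ≤ Fb := Subgroup.map_subtype_le _
    have hle : Rb ≤ B := by
      obtain ⟨n, hn, f, hf, hnf⟩ := Subgroup.mem_sup_of_normal_right.1
        ((Sylow.normalizer_sup_eq_top R₁) ▸ Subgroup.mem_top h : h ∈ Subgroup.normalizer (Rb : Set (G ⧸ N)) ⊔ Fb)
      have hng : n * h⁻¹ ∈ Fb := by
        rw [← hnf, mul_inv_rev, ← mul_assoc]
        exact (inferInstance : Fb.Normal).conj_mem _ (Fb.inv_mem hf) n
      refine centralizes N Rb r (R₁.isPGroup'.map _)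
        (fun hd => hr.ne_one (Nat.eq_one_of_dvd_coprimes hcop hrF hd))
        ⟨n, hn⟩ (fun q => q * h⁻¹ ∈ Fb) s hs2 ⟨n, hng, hn⟩
        (fun q hq f' hf' => by rw [mul_assoc]; exact Fb.mul_mem (hRF hf') hq) ?_ hall
      intro q hq i hi0 his z hz he
      obtain ⟨k, hk, hkq⟩ := hconj _ hq
      rw [inv_mul_cancel_right] at hkq
      have hpow : q ^ i = k * h ^ i * k⁻¹ := by rw [← hkq, conj_pow]
      have hz' : k⁻¹ * z * k ∈ Fb := Fb.mul_mem (Fb.mul_mem (Fb.inv_mem hk) (hRF hz)) hk
      have h1 := hfp i hi0 his _ hz' (by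
        rw [hpow] at he
        calc k⁻¹ * z * k * h ^ i = k⁻¹ * (z * (k * h ^ i * k⁻¹)) * k := by group
          _ = h ^ i * (k⁻¹ * z * k) := by rw [he]; group)
      calc z = k * (k⁻¹ * z * k) * k⁻¹ := by group
        _ = 1 := by rw [h1]; group
    have hcardR : Nat.card Rb = r ^ (Nat.card Fb).factorization r := by
      rw [hRb, ← Nat.card_congr ((R₁ : Subgroup Fb).equivMapOfInjective Fb.subtype Fb.subtype_injective).toEquiv]
      exact R₁.card_eq_multiplicity
    exact hcardR ▸ Subgroup.card_dvd_of_le (le_inf hle hRF)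
  have heq : B ⊓ Fb = Fb := Subgroup.eq_of_le_of_card_ge inf_le_right (Nat.le_of_dvd Nat.card_pos hdvd)
  exact heq ▸ inf_le_left

end Cfsg.Agent.S3703
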