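import Cfsg.Statements.S3706
import Cfsg.Agent.S3705
import Cfsg.Agent.Lib.ONanElation.DesignBuild
import Cfsg.Agent.Lib.ONanElation.DesignKernel

set_option autoImplicit false
open Cfsg

namespace Cfsg.Agent.S3706

/-- Let G be a finite group acting faithfully and 2-transitively on a finite set Ω of size n, and let H be a subgroup of index n in G which is not transitive on Ω and fixes no point of Ω. Suppose H acts unfaithfully on one of its orbits: some non-identity element of H fixes every point of that orbit. Then there are an integer m ≥ 2 and a finite field F with #Ω = (#F^(m+1) − 1)/(#F − 1), and G has a normal subgroup isomorphic to PSL_{m+1}(F) whose centralizer in G is trivial (so that G lies between PSL_{m+1}(F) and its automorphism group). -/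
theorem result {G Ω : Type*} [Group G] [Finite G] [MulAction G Ω] [FaithfulSMul G Ω] [Finite Ω] (h2 : MulAction.IsMultiplyPretransitive G Ω 2) (H : Subgroup G) (hidx : H.index = Nat.card Ω) (hnt : ¬ MulAction.IsPretransitive H Ω) (hfix : ∀ a : Ω, ∃ h : H, h • a ≠ a) (hunf : ∃ a : Ω, ∃ h : H, h ≠ 1 ∧ ∀ b ∈ MulAction.orbit H a, h • b = b) : ∃ (m : ℕ) (F : Type) (_ : Field F) (_ : Fintype F), 2 ≤ m ∧ Nat.card Ω = (Fintype.card F ^ (m + 1) - 1) / (Fintype.card F - 1) ∧ ∃ N : Subgroup G, N.Normal ∧ Nonempty (N ≃* Matrix.ProjectiveSpecialLinearGroup (Fin (m + 1)) F) ∧ Subgroup.centralizer (N : Set G) = ⊥ := by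
  obtain ⟨a, h, hh1, hfixorb⟩ := hunf
  obtain ⟨D, hD⟩ := Cfsg.Agent.ONanElation.exists_design h2 H hidx hnt hfix a
  have hstab : ∀ g : G, g ∈ H ↔ g • ((1 : G) : G ⧸ H) = ((1 : G) : G ⧸ H) := by
    intro g
    rw [MulAction.Quotient.smul_mk, smul_eq_mul, mul_one, QuotientGroup.eq, mul_one, inv_mem_iff]
  have hne : D.Ker ((1 : G) : G ⧸ H) ≠ ⊥ := by
    intro hb
    have hm : (h : G) ∈ D.Ker ((1 : G) : G ⧸ H) := D.mem_Ker.2 fun b hb' => hfixorb b ((hD b).1 hb')
    rw [hb, Subgroup.mem_bot] at hm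
    exact hh1 (Subtype.ext hm)
  obtain ⟨J, hJle, hJ1, hJsol, hJn⟩ := Cfsg.Agent.ONanElation.exists_solvable_normal D hne
  have hJH : J ≤ H := fun j hj => (hstab j).2 (D.ker_smul (hJle hj))
  refine Cfsg.Agent.S3705.result h2 H hidx hnt hfix (J.subgroupOf H) ?_ ?_ ?_ ⟨a, ?_⟩
  · exact ⟨fun n hn g => hJn g ((hstab g).1 g.2) n hn⟩
  · intro hb
    rw [Subgroup.subgroupOf_eq_bot, disjoint_iff, inf_eq_left.2 hJH] at hb
    exact hJ1 hb
  · exact Group.isSolvable_of_isSolvable_injective
      (f := (Subgroup.subgroupOfEquivOfLe hJH).toMonoidHom) (MulEquiv.injective _)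
  · intro x hx
    exact D.mem_Ker.1 (hJle hx) a ((hD a).2 (MulAction.mem_orbit_self a))

end Cfsg.Agent.S3706
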