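import Cfsg.Statements.S3707
import Cfsg.Agent.Recognition.MarggraffThree

set_option autoImplicit false
open Cfsg

namespace Cfsg.Agent.S3707

/-- Let G be a finite primitive permutation group on Ω of degree n and Γ ⊂ Ω a subset with 1 < #Γ ≤ n/2 such that the pointwise stabilizer of Ω ∖ Γ is transitive on Γ. Then G is 3-transitive on Ω. -/
theorem result {G Ω : Type*} [Group G] [Finite G] [MulAction G Ω] [FaithfulSMul G Ω] [Finite Ω] (hprim : MulAction.IsPreprimitive G Ω) (Γ : Set Ω) (h1 : 1 < Γ.ncard) (h2 : 2 * Γ.ncard ≤ Nat.card Ω) (htr : ∀ x ∈ Γ, ∀ y ∈ Γ, ∃ g : G, (∀ z ∉ Γ, g • z = z) ∧ g • x = y) : MulAction.IsMultiplyPretransitive G Ω 3 := by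
  classical
  refine Recognition.MarggraffThree.three_transitive h1 h2 htr ?_
  have hn : Γᶜ.ncard = Nat.card Ω - Γ.ncard := Set.ncard_compl Γ
  have h2t : MulAction.IsMultiplyPretransitive G Ω 2 := by
    refine hprim.is_two_pretransitive (s := Γᶜ) (n := Γᶜ.ncard - 1) (by omega) (by omega) ?_
    refine ⟨fun x y => ?_⟩
    obtain ⟨g, hg, hgxy⟩ := htr x.1 (not_not.1 x.2) y.1 (not_not.1 y.2)
    exact ⟨⟨g, (mem_fixingSubgroup_iff G).2 fun z hz => hg z hz⟩, Subtype.ext hgxy⟩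
  intro a b c d hab hcd
  exact (MulAction.is_two_pretransitive_iff).1 h2t hab hcd

end Cfsg.Agent.S3707
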