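import Cfsg.Statements.S3713
import Cfsg.Agent.Lib.SlimSp.Main

set_option autoImplicit false
open Cfsg

namespace Cfsg.Agent.S3713

/-- A presentation of the symplectic group as the universal completion of an amalgam of small subgroups. Let F be a field with more than two elements, n ≥ 2, and Sp the group of 2n × 2n matrices over F preserving the standard alternating form, acting on column vectors; write e_k, f_k for the standard basis vectors of the two halves (a hyperbolic basis). For each k let S_k be the subgroup of Sp fixing e_l and f_l for all l ≠ k (a copy of SL(2, F) on the plane of e_k, f_k), and for each i with i + 1 < n let M_i be the subgroup fixing every e_l and fixing f_l for all l other than i, i+1 (an abelian group isomorphic to the additive group of F³). Then Sp is the universal completion of the amalgam formed by the S_k, the M_i and the subgroups generated by two of them: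 for every group H and homomorphisms σ_k : S_k → H, μ_i : M_i → H such that for each pair of these subgroups some homomorphism on the subgroup they generate restricts to the given ones, there is exactly one homomorphism Sp → H restricting to every σ_k and μ_i. -/
theorem result
    (F : Type*) [Field F] (hF : ∃ a : F, a ≠ 0 ∧ a ≠ 1) (n : ℕ) (hn : 2 ≤ n)
    (S M : Fin n → Subgroup ↥(Matrix.symplecticGroup (Fin n) F))
    (hS : ∀ j : Fin n, S j = Subgroup.closure {A : ↥(Matrix.symplecticGroup (Fin n) F) | ∀ k : Fin n, k ≠ j →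
      ((A : ↥(Matrix.symplecticGroup (Fin n) F)) : Matrix (Fin n ⊕ Fin n) (Fin n ⊕ Fin n) F).mulVec (Pi.single (Sum.inl k) (1 : F)) = (Pi.single (Sum.inl k) (1 : F)) ∧ ((A : ↥(Matrix.symplecticGroup (Fin n) F)) : Matrix (Fin n ⊕ Fin n) (Fin n ⊕ Fin n) F).mulVec (Pi.single (Sum.inr k) (1 : F)) = (Pi.single (Sum.inr k) (1 : F))})
    (hM : ∀ i : Fin n, (i : ℕ) + 1 < n → M i = Subgroup.closure {A : ↥(Matrix.symplecticGroup (Fin n) F) |
      (∀ k : Fin n, ((A : ↥(Matrix.symplecticGroup (Fin n) F)) : Matrix (Fin n ⊕ Fin n) (Fin n ⊕ Fin n) F).mulVec (Pi.single (Sum.inl k) (1 : F)) = (Pi.single (Sum.inl k) (1 : F))) ∧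
        ∀ k : Fin n, (k : ℕ) ≠ i → (k : ℕ) ≠ (i : ℕ) + 1 → ((A : ↥(Matrix.symplecticGroup (Fin n) F)) : Matrix (Fin n ⊕ Fin n) (Fin n ⊕ Fin n) F).mulVec (Pi.single (Sum.inr k) (1 : F)) = (Pi.single (Sum.inr k) (1 : F))})
    {H : Type*} [Group H] (σ : ∀ j : Fin n, ↥(S j) →* H) (μ : ∀ i : Fin n, ↥(M i) →* H)
    (hSS : ∀ j l : Fin n, j ≠ l → ∃ Ψ : ↥(S j ⊔ S l) →* H,
      (∀ (g : ↥(Matrix.symplecticGroup (Fin n) F)) (hg : g ∈ S j), Ψ ⟨g, Subgroup.mem_sup_left hg⟩ = σ j ⟨g, hg⟩) ∧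
        (∀ (g : ↥(Matrix.symplecticGroup (Fin n) F)) (hg : g ∈ S l), Ψ ⟨g, Subgroup.mem_sup_right hg⟩ = σ l ⟨g, hg⟩))
    (hMM : ∀ i i' : Fin n, i ≠ i' → (i : ℕ) + 1 < n → (i' : ℕ) + 1 < n → ∃ Ψ : ↥(M i ⊔ M i') →* H,
      (∀ (g : ↥(Matrix.symplecticGroup (Fin n) F)) (hg : g ∈ M i), Ψ ⟨g, Subgroup.mem_sup_left hg⟩ = μ i ⟨g, hg⟩) ∧
        (∀ (g : ↥(Matrix.symplecticGroup (Fin n) F)) (hg : g ∈ M i'), Ψ ⟨g, Subgroup.mem_sup_right hg⟩ = μ i' ⟨g, hg⟩))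
    (hMS : ∀ i j : Fin n, (i : ℕ) + 1 < n → ∃ Ψ : ↥(M i ⊔ S j) →* H,
      (∀ (g : ↥(Matrix.symplecticGroup (Fin n) F)) (hg : g ∈ M i), Ψ ⟨g, Subgroup.mem_sup_left hg⟩ = μ i ⟨g, hg⟩) ∧
        (∀ (g : ↥(Matrix.symplecticGroup (Fin n) F)) (hg : g ∈ S j), Ψ ⟨g, Subgroup.mem_sup_right hg⟩ = σ j ⟨g, hg⟩)) :
    ∃! Φ : ↥(Matrix.symplecticGroup (Fin n) F) →* H,
      (∀ (j : Fin n) (g : ↥(Matrix.symplecticGroup (Fin n) F)) (hg : g ∈ S j), Φ g = σ j ⟨g, hg⟩) ∧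
        (∀ (i : Fin n), (i : ℕ) + 1 < n → ∀ (g : ↥(Matrix.symplecticGroup (Fin n) F)) (hg : g ∈ M i), Φ g = μ i ⟨g, hg⟩) := by
  classical
  have graph : ∀ {X : Subgroup ↥(Matrix.symplecticGroup (Fin n) F)} (f : ↥X →* H),
      SlimSp.Inj (MonoidHom.snd H ↥(Matrix.symplecticGroup (Fin n) F)) (f.prod X.subtype).range := by
    rintro X f _ ⟨g, rfl⟩ e
    have hg : g = 1 := Subtype.ext e
    rw [hg, map_one]
  have pair : ∀ {A B : Subgroup ↥(Matrix.symplecticGroup (Fin n) F)} (f : ↥A →* H) (g : ↥B →* H),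
      (∃ Ψ : ↥(A ⊔ B) →* H, (∀ x (hx : x ∈ A), Ψ ⟨x, Subgroup.mem_sup_left hx⟩ = f ⟨x, hx⟩) ∧
        ∀ x (hx : x ∈ B), Ψ ⟨x, Subgroup.mem_sup_right hx⟩ = g ⟨x, hx⟩) →
      SlimSp.Inj (MonoidHom.snd H ↥(Matrix.symplecticGroup (Fin n) F))
        ((f.prod A.subtype).range ⊔ (g.prod B.subtype).range) := by
    rintro A B f g ⟨Ψ, h1, h2⟩
    refine (graph Ψ).mono (sup_le ?_ ?_) <;> rintro _ ⟨⟨x, hx⟩, rfl⟩
    · exact ⟨⟨x, Subgroup.mem_sup_left hx⟩, Prod.ext (h1 x hx) rfl⟩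
    · exact ⟨⟨x, Subgroup.mem_sup_right hx⟩, Prod.ext (h2 x hx) rfl⟩
  have mapG : ∀ {X : Subgroup ↥(Matrix.symplecticGroup (Fin n) F)} (f : ↥X →* H),
      (f.prod X.subtype).range.map (MonoidHom.snd H ↥(Matrix.symplecticGroup (Fin n) F)) = X := fun {X} f => by
    rw [MonoidHom.map_range, MonoidHom.snd_comp_prod, Subgroup.range_subtype]
  obtain ⟨SS, hSSd⟩ : ∃ SS, SS = fun j => ((σ j).prod (S j).subtype).range := ⟨_, rfl⟩
  obtain ⟨MM, hMMd⟩ : ∃ MM, MM = fun i => ((μ i).prod (M i).subtype).range := ⟨_, rfl⟩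
  have hA : SlimSp.Amalgam (MonoidHom.snd H ↥(Matrix.symplecticGroup (Fin n) F)) SS MM := by
    refine ⟨fun j => ?_, fun i p hp => ?_, fun j l => ?_, fun i i' hi hi' => ?_, fun i j hi => ?_⟩
    · rw [hSSd, mapG, hS]
      exact le_antisymm ((Subgroup.closure_le _).2 fun A hA k hk => hA k hk)
        fun A hA => Subgroup.subset_closure fun k hk => hA k hk
    · rw [hMMd, mapG, hM i (hp ▸ p.2)]
      refine le_antisymm ((Subgroup.closure_le _).2 fun A hA => ⟨hA.1, fun k h1 h2 => hA.2 k ?_ ?_⟩)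
        fun A hA => Subgroup.subset_closure ⟨hA.1, fun k h1 h2 => hA.2 k ?_ ?_⟩
      · exact Fin.val_ne_of_ne h1
      · exact fun e => h2 (Fin.ext (by omega))
      · exact fun e => h1 (congrArg Fin.val e)
      · exact fun e => h2 (by rw [e, hp])
    · simp only [hSSd]
      by_cases h : j = l
      · subst h; rw [sup_idem]; exact graph _
      · exact pair _ _ (hSS j l h)
    · simp only [hMMd]
      by_cases h : i = i'
      · subst h; rw [sup_idem]; exact graph _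
      · exact pair _ _ (hMM i i' h hi hi')
    · simp only [hSSd, hMMd]
      exact pair _ _ (hMS i j hi)
  obtain ⟨G, hG⟩ : ∃ G, G = SlimSp.Gam SS MM 0 := ⟨_, rfl⟩
  have hb : Function.Bijective
      ((MonoidHom.snd H ↥(Matrix.symplecticGroup (Fin n) F)).comp G.subtype) :=
    hG ▸ SlimSp.bijective_gen hA hF (by omega)
  obtain ⟨ψ, hψ⟩ : ∃ ψ : ↥(Matrix.symplecticGroup (Fin n) F) →* ↥G,
      ∀ x : ↥G, ψ (x : H × _).2 = x :=
    ⟨(MulEquiv.ofBijective _ hb).symm.toMonoidHom, fun x => (MulEquiv.ofBijective _ hb).symm_apply_apply x⟩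
  have hσ : ∀ j g (hg : g ∈ S j), ((σ j ⟨g, hg⟩, g) : H × _) ∈ G := fun j g hg =>
    hG ▸ SlimSp.SS_le_Gam (Nat.zero_le _) (by rw [hSSd]; exact ⟨⟨g, hg⟩, rfl⟩)
  have hμ : ∀ i : Fin n, (i : ℕ) + 1 < n → ∀ g (hg : g ∈ M i), ((μ i ⟨g, hg⟩, g) : H × _) ∈ G :=
    fun i hi g hg => hG ▸ SlimSp.MM_le_Gam (Nat.zero_le _) hi (by rw [hMMd]; exact ⟨⟨g, hg⟩, rfl⟩)
  refine ⟨((MonoidHom.fst H _).comp G.subtype).comp ψ, ⟨fun j g hg => ?_, fun i hi g hg => ?_⟩, ?_⟩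
  · have e : ψ g = ⟨_, hσ j g hg⟩ := hψ ⟨_, hσ j g hg⟩
    show (ψ g).1.1 = _
    rw [e]
  · have e : ψ g = ⟨_, hμ i hi g hg⟩ := hψ ⟨_, hμ i hi g hg⟩
    show (ψ g).1.1 = _
    rw [e]
  intro Φ' hΦ'
  ext A
  have hle : G ≤ (Φ'.prod (MonoidHom.id _)).range := by
    rw [hG, SlimSp.Gam, Subgroup.closure_le]
    rintro x (⟨j, -, hx⟩ | ⟨i, -, hi, hx⟩)
    · rw [hSSd] at hx
      obtain ⟨⟨g, hg⟩, rfl⟩ := hx
      exact ⟨g, Prod.ext (hΦ'.1 j g hg) rfl⟩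
    · rw [hMMd] at hx
      obtain ⟨⟨g, hg⟩, rfl⟩ := hx
      exact ⟨g, Prod.ext (hΦ'.2 i hi g hg) rfl⟩
  obtain ⟨x, hx⟩ := hb.2 A
  obtain ⟨g, hg⟩ := hle x.2
  have hgA : g = A := by
    rw [← hx]; exact congrArg Prod.snd hg
  show Φ' A = (ψ A).1.1
  rw [show ψ A = x from hx ▸ hψ x, ← hgA]
  exact congrArg Prod.fst hg

end Cfsg.Agent.S3713
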