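import Cfsg.Statements.S3716
import Cfsg.Agent.Lib.SelfNine.OctMain
import Cfsg.Agent.Lib.SelfNine.OctSetup

set_option autoImplicit false
set_option linter.style.haveILetI false
open Cfsg

namespace Cfsg.Agent.S3716

/-- Let G be a finite group with an elementary abelian Sylow 3-subgroup M of order 9 which is self-centralizing (C_G(M) = M), let N = N_G(M), and suppose C_G(g) ≤ N for every nonidentity g ∈ M. If the Sylow 2-subgroups of N are dihedral of order 8, then G is not simple. -/
theorem result {G : Type*} [Group G] [Finite G] (M : Sylow 3 G) (hM9 : Nat.card ↥(M : Subgroup G) = 9)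
    (hMel : ∀ m ∈ (M : Subgroup G), m ^ 3 = 1)
    (hCM : Subgroup.centralizer ((M : Subgroup G) : Set G) = (M : Subgroup G))
    (N : Subgroup G) (hN : N = Subgroup.normalizer ((M : Subgroup G) : Set G))
    (hCg : ∀ g ∈ (M : Subgroup G), g ≠ 1 → Subgroup.centralizer ({g} : Set G) ≤ N)
    (hS : ∀ S : Sylow 2 ↥N, Nonempty (↥(S : Subgroup ↥N) ≃* DihedralGroup 4)) :
    ¬ IsSimpleGroup G := by
  intro hsimp
  subst hN
  haveI : Fact (Nat.Prime 2) := ⟨Nat.prime_two⟩
  have hti : Cfsg.Agent.SelfNine.NineTI M :=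
    ⟨hM9, hMel, fun a ha b hb => by
      have ha' : a ∈ Subgroup.centralizer ((M : Subgroup G) : Set G) := hCM.ge ha
      exact (Subgroup.mem_centralizer_iff.1 ha' b hb).symm, hCg⟩
  set K : Sylow 2 ↥(Subgroup.normalizer ((M : Subgroup G) : Set G)) := default
  obtain ⟨ψ⟩ := hS K
  have hK : Nat.card (K : Subgroup ↥(Subgroup.normalizer ((M : Subgroup G) : Set G))) = 8 := by
    rw [Nat.card_congr ψ.toEquiv, DihedralGroup.nat_card]
  have h72 := hti.card_normalizer hCM K hK
  obtain ⟨e1, e2, r, c, D⟩ := Cfsg.Agent.SelfNine.exists_octData hti hCM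
    ((Subgroup.subtype _).comp ((Subgroup.subtype _).comp ψ.symm.toMonoidHom))
    (Subtype.val_injective.comp (Subtype.val_injective.comp ψ.symm.injective))
    (fun d => Subtype.property
      (((ψ.symm d : ↥(K : Subgroup ↥(Subgroup.normalizer ((M : Subgroup G) : Set G)))) :
        ↥(Subgroup.normalizer ((M : Subgroup G) : Set G))))) h72
  have hM1 : (M : Subgroup G) ≠ ⊥ := fun e => by rw [e, Subgroup.card_bot] at hM9; norm_num at hM9
  rcases D.main h72 with h | ⟨hord, lam, hlr, -, -⟩
  · have htop : Subgroup.normalizer ((M : Subgroup G) : Set G) = ⊤ :=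
      Subgroup.eq_top_of_card_eq _ (h72.trans h.symm)
    rcases (Subgroup.normalizer_eq_top_iff.1 htop).eq_bot_or_eq_top with e | e
    · exact hM1 e
    · rw [e, Subgroup.card_top, h] at hM9
      norm_num at hM9
  · rcases lam.normal_ker.eq_bot_or_eq_top with e | e
    · have hinj := (MonoidHom.ker_eq_bot_iff lam).1 e
      have hall : ∀ g : G, g * e1 = e1 * g := fun g => hinj (by rw [map_mul, map_mul, mul_comm])
      have hle : ∀ g : G, g ∈ Subgroup.normalizer ((M : Subgroup G) : Set G) := fun g =>
        hCg e1 D.m1 (D.e1_eq ▸ D.coord_ne_one (by decide))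
          (Subgroup.mem_centralizer_singleton_iff.2 (hall g))
      have htop : Subgroup.normalizer ((M : Subgroup G) : Set G) = ⊤ := eq_top_iff.2 fun g _ => hle g
      rw [htop, Subgroup.card_top] at h72
      omega
    · have : r ∈ lam.ker := e ▸ Subgroup.mem_top r
      rw [MonoidHom.mem_ker] at this
      rw [this] at hlr
      norm_num at hlr

end Cfsg.Agent.S3716
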