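import Cfsg.Statements.S3730
import Cfsg.Agent.NormEq.Simple
import Cfsg.Agent.NormEq.Socle
import Cfsg.Agent.NormEq.Outer

set_option autoImplicit false
set_option linter.style.haveILetI false
open Cfsg

namespace Cfsg.Agent.S3730

theorem nrm_range {G H : Type*} [Group G] [Group H] (f : G →* H) (hf : Function.Injective f)
    (h : NormEq.Nrm G) : NormEq.Nrm f.range := by
  intro X hX hev Y hY hY1
  obtain ⟨e, rfl⟩ : ∃ e, e = MonoidHom.ofInjective hf := ⟨_, rfl⟩
  have hX' : IsCyclic ↥(X.map (MonoidHom.ofInjective hf).symm.toMonoidHom) :=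
    (X.equivMapOfInjective _ (MonoidHom.ofInjective hf).symm.injective).isCyclic.1 hX
  have := h _ hX' (by rwa [Subgroup.card_map_of_injective (MonoidHom.ofInjective hf).symm.injective])
    _ (Subgroup.map_mono hY)
    (by rwa [Ne, Subgroup.map_eq_bot_iff_of_injective _ (MonoidHom.ofInjective hf).symm.injective])
  rw [← Subgroup.map_equiv_normalizer_eq, ← Subgroup.map_equiv_normalizer_eq] at this
  exact Subgroup.map_injective (MonoidHom.ofInjective hf).symm.injective this

/-- Let G be a nontrivial finite group with no nontrivial solvable normal subgroup, such that for every cyclic subgroup X of even order and every nontrivial subgroup Y of X one has N_G(X) = N_G(Y) (every nontrivial subgroup of a cyclic subgroup of even order has the same normalizer as the whole cyclic subgroup). Then G is isomorphic to PSL(2, q) or to PGL(2, q) for some prime power q > 3. -/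
theorem result
    {G : Type*} [Group G] [Finite G] [Nontrivial G]
    (hss : ∀ N : Subgroup G, N.Normal → Group.IsSolvable ↥N → N = ⊥)
    (hii : ∀ X : Subgroup G, IsCyclic ↥X → Even (Nat.card ↥X) → ∀ Y : Subgroup G, Y ≤ X → Y ≠ ⊥ →
      Subgroup.normalizer (X : Set G) = Subgroup.normalizer (Y : Set G)) :
    ∃ (F : Type) (_ : Field F) (_ : Fintype F), 3 < Fintype.card F ∧
      (Nonempty (G ≃* Matrix.ProjectiveSpecialLinearGroup (Fin 2) F) ∨
        Nonempty (G ≃* Matrix.ProjGenLinGroup (Fin 2) F)) := by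
  obtain ⟨N, hN, hsimp, hna, hC⟩ := NormEq.exists_socle hss hii
  haveI := hN
  haveI := hsimp
  obtain ⟨F, iF, iF', h3, h4, ⟨e⟩⟩ :=
    NormEq.simple_case (NormEq.Nrm.subgroup (show NormEq.Nrm G from hii) N) hna
  letI := iF; letI := iF'
  obtain ⟨φ, hφ⟩ : ∃ φ : G →* MulAut (Matrix.ProjectiveSpecialLinearGroup (Fin 2) F),
      φ = (MulAut.congr e).toMonoidHom.comp MulAut.conjNormal := ⟨_, rfl⟩
  have hinj : Function.Injective φ := by
    rw [injective_iff_map_eq_one]
    intro g hg
    rw [hφ, MonoidHom.comp_apply] at hg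
    have h1 : MulAut.conjNormal (H := N) g = 1 := (MulAut.congr e).map_eq_one_iff.1 hg
    rw [← Subgroup.mem_bot, ← hC, Subgroup.mem_centralizer_iff]
    intro n hn
    have h2 := congrArg Subtype.val (DFunLike.congr_fun h1 ⟨n, hn⟩)
    simp only [MulAut.conjNormal_apply, MulAut.one_apply] at h2
    exact (mul_inv_eq_iff_eq_mul.1 h2).symm
  have hI : ∀ s : Matrix.SpecialLinearGroup (Fin 2) F,
      AutPSL.Basic.gAut (Matrix.SpecialLinearGroup.toGL s) ∈ φ.range := by
    intro s
    refine ⟨(e.symm (QuotientGroup.mk s) : N), MulEquiv.ext fun x => ?_⟩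
    rw [hφ]
    have hx : MulAut.conjNormal ((e.symm (QuotientGroup.mk s) : N) : G) (e.symm x) =
        e.symm (QuotientGroup.mk s) * e.symm x * (e.symm (QuotientGroup.mk s))⁻¹ :=
      Subtype.ext (by simp)
    show e (MulAut.conjNormal ((e.symm (QuotientGroup.mk s) : N) : G) (e.symm x)) = _
    rw [hx, map_mul, map_mul, map_inv, e.apply_symm_apply, e.apply_symm_apply]
    induction x using QuotientGroup.induction_on with | H y => ?_
    rw [← QuotientGroup.mk_mul, ← QuotientGroup.mk_inv, ← QuotientGroup.mk_mul]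
    refine congrArg QuotientGroup.mk (Subtype.ext ?_)
    show ((s * y * s⁻¹ : Matrix.SpecialLinearGroup (Fin 2) F) : Matrix (Fin 2) (Fin 2) F) =
      (Matrix.SpecialLinearGroup.toGL s : Matrix (Fin 2) (Fin 2) F) * (y : Matrix (Fin 2) (Fin 2) F) *
        (((Matrix.SpecialLinearGroup.toGL s)⁻¹ : GL (Fin 2) F) : Matrix (Fin 2) (Fin 2) F)
    rw [← map_inv, Matrix.SpecialLinearGroup.coe_mul, Matrix.SpecialLinearGroup.coe_mul]
    rfl
  refine ⟨F, iF, iF', h3, ?_⟩
  rcases NormEq.Outer.classify (nrm_range φ hinj hii) hI h4 with ⟨f⟩ | ⟨f⟩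
  · exact Or.inl (f.map (MonoidHom.ofInjective hinj).trans)
  · exact Or.inr (f.map (MonoidHom.ofInjective hinj).trans)

end Cfsg.Agent.S3730
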