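import Cfsg.Statements.S3733
import Mathlib

set_option autoImplicit false
open Cfsg
open scoped commutatorElement

namespace Cfsg.Agent.S3733

/-- Let A and V be subgroups of a finite group with V abelian and nontrivial and A normalizing V. Suppose a nonempty finite family of proper subgroups of A partitions A: every non-identity element of A lies in exactly one member. If the number of members minus one is coprime to the order of V, then some member B of the family has a non-identity fixed point on V, that is V ∩ C(B) ≠ 1. -/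
theorem result {G : Type*} [Group G] [Finite G] (A V : Subgroup G) (hVab : IsMulCommutative V) (hV : V ≠ ⊥) (hAV : A ≤ Subgroup.normalizer (V : Set G)) (𝒜 : Finset (Subgroup G)) (hne : 𝒜.Nonempty) (hprop : ∀ B ∈ 𝒜, B < A) (hpart : ∀ a ∈ A, a ≠ 1 → ∃! B, B ∈ 𝒜 ∧ a ∈ B) (hk : (𝒜.card - 1).Coprime (Nat.card V)) : ∃ B ∈ 𝒜, V ⊓ Subgroup.centralizer (B : Set G) ≠ ⊥ := by
  classical
  let act : A → V → V := fun a v => ⟨(a : G) * v * (a : G)⁻¹, Subgroup.mem_normalizer_iff.mp (hAV a.2) v |>.mp v.2⟩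
  have := hVab
  let _ : CommGroup V := { (inferInstance : Group V) with mul_comm := fun a b => hVab.is_comm.comm a b }
  let _ := Fintype.ofFinite A
  by_contra hcon
  push_neg at hcon
  haveI : Nontrivial V := (Subgroup.nontrivial_iff_ne_bot V).mpr hV
  obtain ⟨⟨v, hvV⟩, hv1⟩ := exists_ne (1 : V)
  set w : V := ⟨v, hvV⟩
  let f : A → V := fun a => act a w
  have hfix : ∀ B : Subgroup G, B ≤ A → ∀ (s : Finset A),
      (∀ a, a ∈ s ↔ (a : G) ∈ B) → ∀ b ∈ B, (b : G) * (↑(∏ a ∈ s, f a) : G) * b⁻¹ = (↑(∏ a ∈ s, f a) : G) := by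
    intro B hBA s hs b hb
    let e : V →* V :=
      { toFun := act ⟨b, hBA hb⟩
        map_one' := by ext; simp [act]
        map_mul' := fun x y => by ext; simp [act] }
    have : e (∏ a ∈ s, f a) = ∏ a ∈ s, f a := by
      rw [map_prod]
      refine Finset.prod_equiv (Equiv.mulLeft (⟨b, hBA hb⟩ : A)) (fun a => ?_) (fun a _ => ?_)
      · simp [hs, B.mul_mem_cancel_left hb]
      · ext; simp [e, f, act]; group
    exact congrArg Subtype.val this
  have htriv : ∀ B ∈ 𝒜, ∏ a ∈ (Finset.univ.filter fun a : A => (a : G) ∈ B), f a = 1 := by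
    intro B hB
    have h := hfix B (hprop B hB).le (Finset.univ.filter fun a : A => (a : G) ∈ B) (fun a => by simp)
    have hmem : ((∏ a ∈ (Finset.univ.filter fun a : A => (a : G) ∈ B), f a : V) : G) ∈
        V ⊓ Subgroup.centralizer (B : Set G) :=
      ⟨Subtype.mem _, Subgroup.mem_centralizer_iff.mpr fun b hb => mul_inv_eq_iff_eq_mul.mp (h b hb)⟩
    rw [hcon B hB, Subgroup.mem_bot] at hmem
    exact Subtype.ext hmem
  obtain ⟨B₀, hB₀⟩ := hne
  have hall : ∏ a : A, f a = 1 := by
    have h := hfix A le_rfl Finset.univ (fun a => by simp)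
    have hmem : ((∏ a : A, f a : V) : G) ∈ V ⊓ Subgroup.centralizer (B₀ : Set G) :=
      ⟨Subtype.mem _, Subgroup.mem_centralizer_iff.mpr fun b hb => mul_inv_eq_iff_eq_mul.mp (h b ((hprop B₀ hB₀).le hb))⟩
    rw [hcon B₀ hB₀, Subgroup.mem_bot] at hmem
    exact Subtype.ext hmem
  -- double counting
  have key : ∏ B ∈ 𝒜, ∏ a ∈ (Finset.univ.filter fun a : A => (a : G) ∈ B), f a
      = f 1 ^ (𝒜.card) * ∏ a ∈ Finset.univ.erase (1 : A), f a := by
    simp_rw [Finset.prod_filter]
    rw [Finset.prod_comm, ← Finset.mul_prod_erase Finset.univ _ (Finset.mem_univ (1 : A))]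
    congr 1
    · simp [Subgroup.one_mem]
    · refine Finset.prod_congr rfl fun a ha => ?_
      obtain ⟨B, ⟨hB, haB⟩, huniq⟩ := hpart a a.2 (by simpa using (Finset.mem_erase.mp ha).1)
      rw [Finset.prod_eq_single B (fun B' hB' hne => if_neg fun h => hne (huniq B' ⟨hB', h⟩))
        (fun h => absurd hB h), if_pos haB]
  rw [Finset.prod_eq_one htriv] at key
  rw [← Finset.mul_prod_erase Finset.univ _ (Finset.mem_univ (1 : A))] at hall
  have hf1 : f 1 = w := by ext; simp [f, act, w]
  rw [hf1] at key hall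
  have hcard : 1 ≤ 𝒜.card := Finset.card_pos.mpr ⟨B₀, hB₀⟩
  have hw : w ^ (𝒜.card - 1) = 1 := by
    have h2 : w ^ (𝒜.card - 1) * (w * ∏ a ∈ Finset.univ.erase (1 : A), f a) = 1 := by
      rw [← mul_assoc, ← pow_succ, Nat.sub_add_cancel hcard, ← key]
    rwa [hall, mul_one] at h2
  refine hv1 (orderOf_eq_one_iff.mp (Nat.eq_one_of_dvd_coprimes hk ?_ (orderOf_dvd_natCard w)))
  exact orderOf_dvd_of_pow_eq_one hw

end Cfsg.Agent.S3733
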