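import Cfsg.Statements.S3735
import Mathlib

set_option autoImplicit false
open Cfsg
open scoped commutatorElement

namespace Cfsg.Agent.S3735
open scoped Pointwise

theorem key {G : Type*} [Group G] [Finite G] (H A V : Subgroup G) (hVab : IsMulCommutative V)
    (hHV : H ≤ Subgroup.normalizer (V : Set G)) (hAH : A ≤ H) (hAn : H ≤ Subgroup.normalizer (A : Set G))
    (hss : ∀ U : Subgroup G, U ≤ V → H ≤ Subgroup.normalizer (U : Set G) → ∃ W : Subgroup G, W ≤ V ∧ H ≤ Subgroup.normalizer (W : Set G) ∧ U ⊓ W = ⊥ ∧ U ⊔ W = V)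
    (U : Subgroup G) (hUV : U ≤ V) (hAU : A ≤ Subgroup.normalizer (U : Set G)) :
    ∃ W : Subgroup G, W ≤ V ∧ A ≤ Subgroup.normalizer (W : Set G) ∧ U ⊓ W = ⊥ ∧ U ⊔ W = V := by
  set S : Set (Subgroup G) := {T | T ≤ V ∧ T ≠ ⊥ ∧ A ≤ Subgroup.normalizer (T : Set G) ∧
    ∀ T' : Subgroup G, T' ≤ T → A ≤ Subgroup.normalizer (T' : Set G) → T' ≠ ⊥ → T' = T}
  have hmin : ∀ T : Subgroup G, T ≤ V → T ≠ ⊥ → A ≤ Subgroup.normalizer (T : Set G) → ∃ T' ∈ S, T' ≤ T := by
    intro T
    induction T using WellFoundedLT.induction with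
    | ind T ih =>
      intro hV h1 hA
      by_cases hT : ∀ T' : Subgroup G, T' ≤ T → A ≤ Subgroup.normalizer (T' : Set G) → T' ≠ ⊥ → T' = T
      · exact ⟨T, ⟨hV, h1, hA, hT⟩, le_rfl⟩
      · push Not at hT
        obtain ⟨T', h', hA', h1', hne⟩ := hT
        obtain ⟨T'', hS, h''⟩ := ih T' (lt_of_le_of_ne h' hne) (h'.trans hV) h1' hA'
        exact ⟨T'', hS, h''.trans h'⟩
  have hconj : ∀ h ∈ H, ∀ T ∈ S, T.map (MulAut.conj h).toMonoidHom ∈ S := by
    intro h hh T hT
    have hnA : ∀ T' : Subgroup G, A ≤ Subgroup.normalizer (T' : Set G) → ∀ g ∈ H,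
        A ≤ Subgroup.normalizer ((T'.map (MulAut.conj g).toMonoidHom : Subgroup G) : Set G) := by
      intro T' hT' g hg a ha
      have h' : g⁻¹ * a * g ∈ A := by
        have := (Subgroup.mem_normalizer_iff.mp (inv_mem (hAn hg)) a).mp ha
        simpa using this
      rw [Subgroup.mem_normalizer_iff_map_conj_eq]
      have h2 : T'.map (MulAut.conj (g⁻¹ * a * g)).toMonoidHom = T' := Subgroup.mem_normalizer_iff_map_conj_eq.mp (hT' h')
      conv_rhs => rw [← h2]
      rw [Subgroup.map_map, Subgroup.map_map]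
      congr 1
      ext x; simp [mul_assoc]
    have hback : ∀ T' : Subgroup G, ∀ g : G, (T'.map (MulAut.conj g).toMonoidHom).map (MulAut.conj g⁻¹).toMonoidHom = T' := by
      intro T' g
      rw [Subgroup.map_map]
      convert Subgroup.map_id T'
      ext x; simp [mul_assoc]
    refine ⟨?_, ?_, hnA T hT.2.2.1 h hh, ?_⟩
    · refine (Subgroup.map_mono hT.1).trans ?_
      exact (Subgroup.mem_normalizer_iff_map_conj_eq.mp (hHV hh)).le
    · intro h0
      apply hT.2.1
      have := hback T h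
      rwa [h0, Subgroup.map_bot, eq_comm] at this
    · intro T' hT' hA' h1'
      have h3 : T'.map (MulAut.conj h⁻¹).toMonoidHom ≤ T := by
        have := Subgroup.map_mono (f := (MulAut.conj h⁻¹).toMonoidHom) hT'
        rwa [hback] at this
      have h4 : (T'.map (MulAut.conj h⁻¹).toMonoidHom).map (MulAut.conj h).toMonoidHom = T' := by
        have := hback T' h⁻¹
        rwa [inv_inv] at this
      have h5 := hT.2.2.2 _ h3 (hnA T' hA' _ (inv_mem hh)) (fun h0 => h1' (by rw [← h4, h0, Subgroup.map_bot]))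
      rw [← h4, h5]
  set Soc := sSup S
  have hSocV : Soc ≤ V := sSup_le fun T hT => hT.1
  have hSocH : H ≤ Subgroup.normalizer (Soc : Set G) := by
    refine Subgroup.le_normalizer_iff.mpr ?_
    intro h hh x hx
    have : Soc.map (MulAut.conj h).toMonoidHom ≤ Soc := by
      show (sSup S).map (MulAut.conj h).toMonoidHom ≤ sSup S
      conv_lhs => rw [sSup_eq_iSup, Subgroup.map_iSup]
      refine iSup_le fun T => ?_
      rw [Subgroup.map_iSup]
      exact iSup_le fun hT => le_sSup (hconj h hh T hT)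
    exact this ⟨x, hx, rfl⟩
  obtain ⟨C, hCV, hCH, hSC, hSCV⟩ := hss Soc hSocV hSocH
  have hC : C = ⊥ := by
    by_contra h
    obtain ⟨T, hT, hTC⟩ := hmin C hCV h (hAH.trans hCH)
    exact hT.2.1 (le_bot_iff.mp (hSC ▸ le_inf (le_sSup hT) hTC))
  rw [hC, sup_bot_eq] at hSCV
  obtain ⟨W, ⟨hWV, hWA, hUW⟩, hmax⟩ := (Set.toFinite {W : Subgroup G | W ≤ V ∧ A ≤ Subgroup.normalizer (W : Set G) ∧ U ⊓ W = ⊥}).exists_maximal
    ⟨⊥, bot_le, fun a _ => by rw [Subgroup.mem_normalizer_iff]; intro y; simp, inf_bot_eq U⟩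
  refine ⟨W, hWV, hWA, hUW, le_antisymm (sup_le hUV hWV) ?_⟩
  rw [← hSCV]
  refine sSup_le fun T hT => ?_
  by_contra hnot
  have hAT : ∀ X Y : Subgroup G, A ≤ Subgroup.normalizer (X : Set G) → A ≤ Subgroup.normalizer (Y : Set G) →
      A ≤ Subgroup.normalizer ((X ⊔ Y : Subgroup G) : Set G) ∧ A ≤ Subgroup.normalizer ((X ⊓ Y : Subgroup G) : Set G) := by
    intro X Y hX hY
    constructor <;> intro a ha <;> rw [Subgroup.mem_normalizer_iff_map_conj_eq]
    · rw [Subgroup.map_sup, Subgroup.mem_normalizer_iff_map_conj_eq.mp (hX ha), Subgroup.mem_normalizer_iff_map_conj_eq.mp (hY ha)]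
    · rw [Subgroup.map_inf _ _ _ (MulEquiv.injective _), Subgroup.mem_normalizer_iff_map_conj_eq.mp (hX ha), Subgroup.mem_normalizer_iff_map_conj_eq.mp (hY ha)]
  have hcap : T ⊓ (U ⊔ W) = ⊥ := by
    by_contra h
    exact hnot ((hT.2.2.2 _ inf_le_left (hAT _ _ hT.2.2.1 (hAT U W hAU hWA).1).2 h).ge.trans inf_le_right)
  have h1 : U ⊓ (W ⊔ T) = ⊥ := by
    rw [eq_bot_iff]
    rintro u ⟨hu, hu'⟩
    have hTW : W ≤ Subgroup.normalizer (T : Set G) := by
      intro w hw
      rw [Subgroup.mem_normalizer_iff]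
      intro y
      have hc : ∀ a ∈ V, ∀ b ∈ V, a * b = b * a := fun a ha b hb =>
        congrArg Subtype.val (hVab.is_comm.comm ⟨a, ha⟩ ⟨b, hb⟩)
      constructor
      · intro hy; rwa [hc w (hWV hw) y (hT.1 hy), mul_inv_cancel_right]
      · intro hy
        have hy' : w⁻¹ * (w * y * w⁻¹) * w = w * y * w⁻¹ := by
          rw [mul_assoc, hc _ (hT.1 hy) w (hWV hw), inv_mul_cancel_left]
        have : y = w * y * w⁻¹ := by rw [← hy']; group
        rwa [this]
    have hmem : u ∈ ((W ⊔ T : Subgroup G) : Set G) := hu'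
    rw [Subgroup.coe_mul_of_left_le_normalizer_right W T hTW] at hmem
    obtain ⟨w, hw, t, ht, rfl⟩ := hmem
    have ht' : t ∈ T ⊓ (U ⊔ W) := ⟨ht, by
      have := mul_mem (inv_mem (Subgroup.mem_sup_right (S := U) hw)) (Subgroup.mem_sup_left (T := W) hu)
      simpa using this⟩
    rw [hcap, Subgroup.mem_bot] at ht'
    subst ht'
    simp only [mul_one] at hu ⊢
    exact hUW.le ⟨hu, hw⟩
  have h2 := hmax ⟨sup_le hWV hT.1, (hAT W T hWA hT.2.2.1).1, h1⟩ le_sup_left
  exact hnot ((le_sup_right.trans h2).trans le_sup_right)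


/-- Clifford's Theorem for actions on finite abelian groups, first part. Let H and V be subgroups of a finite group with V abelian and H normalizing V, and let A be a normal subgroup of H. If every H-invariant subgroup of V has an H-invariant complement in V, then every A-invariant subgroup of V has an A-invariant complement in V. -/
theorem result {G : Type*} [Group G] [Finite G] (H A V : Subgroup G) (hVab : IsMulCommutative V) (hHV : H ≤ Subgroup.normalizer (V : Set G)) (hAH : A ≤ H) (hAn : H ≤ Subgroup.normalizer (A : Set G)) (hss : ∀ U : Subgroup G, U ≤ V → H ≤ Subgroup.normalizer (U : Set G) → ∃ W : Subgroup G, W ≤ V ∧ H ≤ Subgroup.normalizer (W : Set G) ∧ U ⊓ W = ⊥ ∧ U ⊔ W = V) (U : Subgroup G) (hUV : U ≤ V) (hAU : A ≤ Subgroup.normalizer (U : Set G)) : ∃ W : Subgroup G, W ≤ V ∧ A ≤ Subgroup.normalizer (W : Set G) ∧ U ⊓ W = ⊥ ∧ U ⊔ W = V := by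
  exact key H A V hVab hHV hAH hAn hss U hUV hAU

end Cfsg.Agent.S3735
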