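import Cfsg.Statements.S3737
import Mathlib
import Cfsg.Agent.GenA.MinimalAction
import Cfsg.Agent.GenA.BaerTrick

set_option autoImplicit false
open Cfsg
open scoped commutatorElement

namespace Cfsg.Agent.S3737

/-- Thompson's strengthening of the P × Q lemma for odd primes. Let p be an odd prime and let P, Q and G be subgroups of a finite group with P a p-group, Q of order prime to p and normalized by P, and G a p-group normalized by both P and Q. If every element of G centralized by P is centralized by Q, then Q centralizes G. -/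
theorem result {X : Type*} [Group X] [Finite X] {p : ℕ} [Fact p.Prime] (hp : p ≠ 2) (P Q G : Subgroup X) (hP : IsPGroup p P) (hQ : (Nat.card Q).Coprime p) (hPQ : P ≤ Subgroup.normalizer (Q : Set X)) (hG : IsPGroup p G) (hPG : P ≤ Subgroup.normalizer (G : Set X)) (hQG : Q ≤ Subgroup.normalizer (G : Set X)) (hC : G ⊓ Subgroup.centralizer (P : Set X) ≤ Subgroup.centralizer (Q : Set X)) : Q ≤ Subgroup.centralizer (G : Set X) := by
  have hp3 : 2 < p := lt_of_le_of_ne (Fact.out : p.Prime).two_le (Ne.symm hp)
  induction hn : Nat.card G using Nat.strongRecOn generalizing G with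
  | ind n ih =>
    by_contra hnt
    rw [← Cfsg.Agent.Coprime.commutator_eq_bot_iff_le_centralizer'] at hnt
    have hmin : ∀ U : Subgroup X, U < G → P ⊔ Q ≤ Subgroup.normalizer (U : Set X) → ⁅U, Q⁆ = ⊥ := by
      intro U hU hUB
      rw [Cfsg.Agent.Coprime.commutator_eq_bot_iff_le_centralizer']
      refine ih (Nat.card U) (hn ▸ lt_of_not_ge fun h => hU.ne (Subgroup.eq_of_le_of_card_ge hU.le h)) U (hG.to_le hU.le)
        (le_sup_left.trans hUB) (le_sup_right.trans hUB) ((inf_le_inf_right _ hU.le).trans hC) rfl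
    obtain ⟨-, hsp, -, hexp⟩ := Cfsg.Agent.GenA.MinimalAction.reduction (P ⊔ Q) Q G hG (sup_le hPG hQG) le_sup_right
      (sup_le hPQ Subgroup.le_normalizer) hQ hnt hmin
    have hcen : ∀ a b : ↥G, ⁅a, b⁆ ∈ Subgroup.center ↥G := by
      intro a b
      rcases hsp with h | h
      · rw [commutatorElement_eq_one_iff_mul_comm.mpr (h.1.is_comm.comm a b)]
        exact one_mem _
      · rw [← h.2.2, commutator_def]
        exact Subgroup.commutator_mem_commutator (Subgroup.mem_top a) (Subgroup.mem_top b)
    have hh : ∀ a b : ↥G, ⁅a, b⁆ ^ (2 * ((p + 1) / 2)) = ⁅a, b⁆ := by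
      intro a b
      obtain ⟨m, hm⟩ := (Fact.out : p.Prime).odd_of_ne_two hp
      have e : 2 * ((p + 1) / 2) = p + 1 := by omega
      have h1 : ⁅a, b⁆ ^ p = 1 := Subtype.ext (hexp hp _ (⁅a, b⁆).2)
      rw [e, pow_succ, h1, one_mul]
    let conjG : ↥(Subgroup.normalizer (G : Set X)) →* MulAut ↥G :=
      MonoidHom.mk' (fun g =>
        { toFun := fun y => ⟨(g : X) * y * (g : X)⁻¹, (Subgroup.mem_normalizer_iff.mp g.2 y).mp y.2⟩
          invFun := fun y => ⟨(g : X)⁻¹ * y * g, by simpa using (Subgroup.mem_normalizer_iff.mp (inv_mem g.2) y).mp y.2⟩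
          left_inv := fun y => Subtype.ext (by simp [mul_assoc])
          right_inv := fun y => Subtype.ext (by simp [mul_assoc])
          map_mul' := fun a b => Subtype.ext (by simp [mul_assoc]) }) fun g g' => by
        ext y
        simp [mul_assoc]
    obtain ⟨g, hg, a, ha⟩ := Cfsg.Agent.GenA.BaerTrick.exists_fixed hcen hG hh hP hQ
      (conjG.comp (Subgroup.inclusion hQG)) (conjG.comp (Subgroup.inclusion hPG))
      (fun b =>
        { toFun := fun a => ⟨(b : X) * a * (b : X)⁻¹, (Subgroup.mem_normalizer_iff.mp (hPQ b.2) a).mp a.2⟩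
          invFun := fun a => ⟨(b : X)⁻¹ * a * b, by simpa using (Subgroup.mem_normalizer_iff.mp (inv_mem (hPQ b.2)) a).mp a.2⟩
          left_inv := fun a => Subtype.ext (by simp [mul_assoc])
          right_inv := fun a => Subtype.ext (by simp [mul_assoc]) })
      (fun b a g => Subtype.ext (by simp [conjG, mul_assoc])) (by
        by_contra hcon
        push Not at hcon
        refine hnt (Cfsg.Agent.Coprime.commutator_eq_bot_iff_le_centralizer'.mpr fun q hq => Subgroup.mem_centralizer_iff.mpr fun y hy => ?_)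
        have := congrArg Subtype.val (hcon ⟨q, hq⟩ ⟨y, hy⟩)
        exact (mul_inv_eq_iff_eq_mul.mp this).symm)
    have hgP : (g : X) ∈ G ⊓ Subgroup.centralizer (P : Set X) :=
      Subgroup.mem_inf.mpr ⟨g.2, Subgroup.mem_centralizer_iff.mpr fun b hb =>
        mul_inv_eq_iff_eq_mul.mp (congrArg Subtype.val (hg ⟨b, hb⟩) :)⟩
    refine ha (Subtype.ext ?_)
    show (a : X) * g * (a : X)⁻¹ = g
    rw [Subgroup.mem_centralizer_iff.mp (hC hgP) a a.2, mul_inv_cancel_right]

end Cfsg.Agent.S3737
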