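import Cfsg.Statements.S3738
import Mathlib
import Cfsg.Agent.GenA.FourRank
import Cfsg.Agent.Lib.Coprime.PGroup

set_option autoImplicit false
open Cfsg
open scoped commutatorElement

namespace Cfsg.Agent.S3738

/-- Let d be a non-identity 3-element of a finite group and P a 2-subgroup normalized by d on which ⟨d⟩ acts faithfully (no non-identity power of d centralizes P) and without non-identity fixed points (C_P(d) = 1). If every abelian subgroup of P has 2-rank at most 2, then d has order 3. -/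
theorem result {X : Type*} [Group X] [Finite X] (d : X) (n : ℕ) (hn : 1 ≤ n) (hd : orderOf d = 3 ^ n) (P : Subgroup X) (hP : IsPGroup 2 P) (hdP : d ∈ Subgroup.normalizer (P : Set X)) (hfaith : Subgroup.zpowers d ⊓ Subgroup.centralizer (P : Set X) = ⊥) (hfpf : P ⊓ Subgroup.centralizer {d} = ⊥) (hrank : ∀ V : Subgroup X, V ≤ P → IsMulCommutative V → Cfsg.PRankLE 2 2 V) : orderOf d = 3 := by
  classical
  by_contra hne
  have hn2 : 2 ≤ n := by
    rcases Nat.lt_or_ge n 2 with h | h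
    · interval_cases n; simp at hd; omega
    · exact h
  obtain ⟨m, rfl⟩ : ∃ m, n = m + 1 := ⟨n - 1, by omega⟩
  set B := Subgroup.zpowers d
  set b := d ^ (3 ^ m) with hb
  have hb3 : orderOf b = 3 := by
    rw [hb, orderOf_pow' _ (by positivity), hd, Nat.gcd_eq_right (pow_dvd_pow 3 (Nat.le_succ m)), pow_succ, Nat.mul_div_cancel_left _ (by positivity)]
  set A := Subgroup.zpowers b
  have hbB : b ∈ B := pow_mem (Subgroup.mem_zpowers d) _
  have hAB : A ≤ B := Subgroup.zpowers_le.mpr hbB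
  have hAn : B ≤ Subgroup.normalizer (A : Set X) := by
    refine le_trans ?_ (Subgroup.centralizer_le_normalizer _)
    rw [Subgroup.le_centralizer_iff]
    refine hAB.trans ?_
    exact Subgroup.le_centralizer B
  have hA2 : (Nat.card A).Coprime 2 := by rw [Nat.card_zpowers, hb3]; norm_num
  have hBP : B ≤ Subgroup.normalizer (P : Set X) := Subgroup.zpowers_le.mpr hdP
  have hnt : ⁅P, A⁆ ≠ ⊥ := by
    intro h
    have h1 : b ∈ B ⊓ Subgroup.centralizer (P : Set X) :=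
      ⟨hbB, Cfsg.Agent.Coprime.commutator_eq_bot_iff_le_centralizer'.mp h (Subgroup.mem_zpowers b)⟩
    rw [hfaith, Subgroup.mem_bot] at h1
    rw [h1, orderOf_one] at hb3; omega
  obtain ⟨Q, ⟨hQP, hBQ, hQnt⟩, hmin⟩ := (Set.toFinite {Q : Subgroup X | Q ≤ P ∧ B ≤ Subgroup.normalizer (Q : Set X) ∧ ⁅Q, A⁆ ≠ ⊥}).exists_minimal
    ⟨P, le_rfl, hBP, hnt⟩
  have hQ : IsPGroup 2 Q := hP.to_le hQP
  obtain ⟨Z, hZQ, hZne, hBZ, hZ2, hZc, hsq, hfix⟩ := Cfsg.Agent.GenA.FourRank.core B A Q hQ hBQ hAB hAn hA2 hQnt fun U hU hUB => by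
    by_contra h; exact hU.not_ge (hmin ⟨hU.le.trans hQP, hUB, h⟩ hU.le)
  have hrk : ∀ V : Subgroup X, V ≤ P → IsMulCommutative V → (∀ v ∈ V, v ^ 2 = 1) → Nat.card V ≤ 4 := by
    intro V hV hc h2
    have := hrank V hV hc (⊤ : Subgroup V) ⟨⟨fun x y => Subtype.ext (hc.is_comm.comm (x : V) y)⟩⟩ (fun a _ => Subtype.ext (h2 a a.2))
    rw [Subgroup.card_top] at this; simpa using this
  have hZab : IsMulCommutative Z := ⟨⟨fun x y => Subtype.ext (hZc y y.2 x (hZQ x.2))⟩⟩
  have hZ4 : Nat.card Z ≤ 4 := hrk Z (hZQ.trans hQP) hZab hZ2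
  have hfree : ∀ e ∈ B, e ≠ 1 → b ∈ Subgroup.zpowers e := by
    intro e he he1
    obtain ⟨k, rfl⟩ : ∃ k : ℕ, d ^ k = e := by
      have := mem_powers_iff_mem_zpowers.mpr he
      exact this
    have hk : ¬ 3 ^ (m + 1) ∣ k := fun h => he1 (orderOf_dvd_iff_pow_eq_one.mp (hd ▸ h))
    obtain ⟨i, r, hr, rfl⟩ := Nat.exists_eq_pow_mul_and_not_dvd (by rintro rfl; simp at hk : k ≠ 0) 3 (by norm_num)
    have hi : i ≤ m := by
      by_contra hc
      exact hk (Dvd.dvd.mul_right (pow_dvd_pow 3 (by omega)) r)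
    have h1 : (d ^ (3 ^ i * r)) ^ (3 ^ (m - i)) = b ^ r := by
      rw [← pow_mul, hb, ← pow_mul, mul_right_comm, ← pow_add, Nat.add_sub_cancel' hi]
    have hbr : b ∈ Subgroup.zpowers (b ^ r) := by
      rw [Subgroup.mem_zpowers_iff]
      have h3 : r % 3 = 1 ∨ r % 3 = 2 := by omega
      rcases h3 with h3 | h3
      · refine ⟨1, ?_⟩
        rw [zpow_one, ← pow_mod_orderOf, hb3, h3, pow_one]
      · refine ⟨2, ?_⟩
        rw [← pow_mod_orderOf, hb3, h3, zpow_ofNat, ← pow_mul, ← pow_mod_orderOf, hb3]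
        simp
    exact Subgroup.zpowers_le.mpr (h1 ▸ pow_mem (Subgroup.mem_zpowers _) _) hbr
  have hBcard : Nat.card B = 3 ^ (m + 1) := by rw [Nat.card_zpowers, hd]
  have hdvd := Cfsg.Agent.GenA.FourRank.card_dvd_of_free B {x : X | x ∈ Q ∧ x ∉ Z}
    (fun e he x hx => ⟨(Subgroup.mem_normalizer_iff.mp (hBQ he) x).mp hx.1, fun h => hx.2 ((Subgroup.mem_normalizer_iff.mp (hBZ he) x).mpr h)⟩)
    (fun e he he1 x hx h => hx.2 (hfix ⟨hx.1, by
      show x ∈ Subgroup.centralizer (A : Set X)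
      rw [Subgroup.mem_centralizer_iff]
      intro a ha
      have h2 : Subgroup.zpowers b ≤ Subgroup.centralizer {x} := by
        rw [Subgroup.zpowers_le]
        exact Subgroup.zpowers_le.mpr (Subgroup.mem_centralizer_singleton_iff.mpr h) (hfree e he he1)
      exact Subgroup.mem_centralizer_singleton_iff.mp (h2 ha)⟩))
  have h9 : 9 ∣ Nat.card ↥{x : X | x ∈ Q ∧ x ∉ Z} := (Nat.dvd_trans (by rw [hBcard]; exact pow_dvd_pow 3 hn2) hdvd : 3 ^ 2 ∣ _)
  obtain ⟨x, hxQ, hxZ, hx2⟩ := Cfsg.Agent.GenA.FourRank.involution_of_nine hQ hZQ hZne hZ2 hZc hsq hZ4 h9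
  obtain ⟨hVc, hV2⟩ := Cfsg.Agent.GenA.FourRank.elementary_sup (A := Z) ⟨hZab, hZ2⟩ (Cfsg.Agent.GenA.FourRank.elementary_zpowers hx2)
    (fun z hz y hy => (hZc z hz y (Subgroup.zpowers_le.mpr hxQ hy)).symm)
  have hV4 := hrk (Z ⊔ Subgroup.zpowers x) (sup_le (hZQ.trans hQP) (Subgroup.zpowers_le.mpr (hQP hxQ))) hVc hV2
  have hlt : Z < Z ⊔ Subgroup.zpowers x := lt_of_le_of_ne le_sup_left fun h => hxZ (h ▸ Subgroup.mem_sup_right (Subgroup.mem_zpowers x))
  have hltc : Nat.card Z < Nat.card ↥(Z ⊔ Subgroup.zpowers x) := by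
    refine lt_of_le_of_ne (Subgroup.card_le_of_le hlt.le) fun h => hlt.ne (Subgroup.eq_of_le_of_card_ge hlt.le h.ge)
  obtain ⟨z, hz⟩ := IsPGroup.iff_card.mp (hQ.to_le hZQ)
  have hdvd2 : Nat.card Z ∣ Nat.card ↥(Z ⊔ Subgroup.zpowers x) := Subgroup.card_dvd_of_le le_sup_left
  have hz1 : z ≤ 1 := by
    by_contra hc
    have : 4 ≤ Nat.card Z := hz ▸ le_trans (by norm_num) (Nat.pow_le_pow_right (show 1 ≤ 2 by norm_num) (by omega : 2 ≤ z))
    omega
  have hZfix : ∀ u ∈ Z, u = 1 := by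
    intro u hu
    by_contra hu1
    have hu' : d * u * d⁻¹ ∈ Z := (Subgroup.mem_normalizer_iff.mp (hBZ (Subgroup.mem_zpowers d)) u).mp hu
    have huu : d * u * d⁻¹ = u := by
      have hu'1 : d * u * d⁻¹ ≠ 1 := fun h => hu1 (by
        have : u = d⁻¹ * (d * u * d⁻¹) * d := by group
        rw [this, h]; group)
      haveI : Fintype Z := Fintype.ofFinite Z
      by_contra hne'
      have h3 : Fintype.card Z ≥ 3 := by
        have hs : ({(1 : Z), ⟨u, hu⟩, ⟨_, hu'⟩} : Finset Z).card = 3 := by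
          rw [Finset.card_insert_of_notMem, Finset.card_pair] <;> simp [Subtype.ext_iff, Ne.symm hu1, Ne.symm hu'1, Ne.symm hne']
        rw [← hs]; exact Finset.card_le_univ _
      rw [← Nat.card_eq_fintype_card, hz] at h3
      interval_cases z <;> simp at h3
    have hmem : u ∈ P ⊓ Subgroup.centralizer {d} := ⟨hQP (hZQ hu), Subgroup.mem_centralizer_singleton_iff.mpr (by
      calc u * d = (d * u * d⁻¹) * d := by rw [huu]
        _ = d * u := by group)⟩
    rw [hfpf] at hmem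
    exact hu1 (Subgroup.mem_bot.mp hmem)
  have hz0 : z = 0 := by
    have : Z = ⊥ := (Subgroup.eq_bot_iff_forall Z).mpr hZfix
    rw [this, Subgroup.card_bot] at hz
    rcases z with _ | z
    · rfl
    · have := Nat.one_lt_two_pow (show z + 1 ≠ 0 by omega); omega
  subst hz0
  -- Q is elementary abelian of order at least 64
  have hall : ∀ y ∈ Q, y ^ 2 = 1 := fun y hy => hZfix _ (hsq y hy)
  have hQc : IsMulCommutative Q := ⟨⟨fun a c => by
    have h : ∀ y : Q, y⁻¹ = y := fun y => inv_eq_of_mul_eq_one_right (Subtype.ext (by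
      have := hall y y.2; rwa [sq] at this))
    calc a * c = (a * c)⁻¹ := (h _).symm
      _ = c⁻¹ * a⁻¹ := mul_inv_rev a c
      _ = c * a := by rw [h a, h c]⟩⟩
  have := hrk Q hQP hQc hall
  have hb' := Cfsg.Agent.GenA.FourRank.nine_dvd hZQ hQ hZne h9
  rw [hz, pow_zero] at hb'
  omega

end Cfsg.Agent.S3738
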