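import Cfsg.Statements.S3739
import Mathlib
import Cfsg.Agent.GenA.FourRank
import Cfsg.Agent.Lib.Coprime.PGroup
import Cfsg.Agent.Lib.Cores.Basic
import Cfsg.Agent.Lib.Cores.Nilpotent

set_option autoImplicit false
open Cfsg
open scoped commutatorElement

namespace Cfsg.Agent.S3739
section
open Cfsg.Agent.GenA.FourRank
variable {G : Type*} [Group G] [Finite G]

theorem conj_comm {a w : G} : a * w = w * a ↔ a * w * a⁻¹ = w := by
  constructor
  · intro h; rw [h, mul_inv_cancel_right]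
  · intro h; calc a * w = (a * w * a⁻¹) * a := by group
      _ = w * a := by rw [h]

theorem main (hchar : Subgroup.centralizer (Cfsg.pCore 2 G : Set G) ≤ Cfsg.pCore 2 G) (g : G) (hg : orderOf g = 6)
    (d : G) (hd : IsPGroup 3 ↥(Subgroup.zpowers d)) (W : Subgroup G) (hWc : IsMulCommutative W) (hW2 : ∀ w ∈ W, w ^ 2 = 1)
    (hW1 : W ≠ ⊥) (hdW : d ∈ Subgroup.normalizer (W : Set G)) (hfpf : W ⊓ Subgroup.centralizer {d} = ⊥)
    (h4 : ∀ E : Subgroup G, IsMulCommutative E → (∀ e ∈ E, e ^ 2 = 1) → Nat.card E ≤ 4) : False := by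
  classical
  haveI : Fact (Nat.Prime 2) := ⟨Nat.prime_two⟩
  haveI : Fact (Nat.Prime 3) := ⟨by norm_num⟩
  have hfix : ∀ u ∈ W, d * u = u * d → u = 1 := fun u hu h =>
    Subgroup.mem_bot.mp (hfpf ▸ (⟨hu, Subgroup.mem_centralizer_singleton_iff.mpr h.symm⟩ : u ∈ W ⊓ Subgroup.centralizer {d}))
  have hcj : ∀ (U : Subgroup G), d ∈ Subgroup.normalizer (U : Set G) → ∀ u ∈ U, d * u * d⁻¹ ∈ U :=
    fun U hU u hu => (Subgroup.mem_normalizer_iff.mp hU u).mp hu
  have htwo : ∀ U : Subgroup G, U ≤ W → d ∈ Subgroup.normalizer (U : Set G) → Nat.card U ≤ 2 → U = ⊥ := by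
    intro U hUW hdU hc
    rw [Subgroup.eq_bot_iff_forall]
    intro u hu
    by_contra hu1
    have hu' : d * u * d⁻¹ ≠ 1 := fun h => hu1 (by
      have : u = d⁻¹ * (d * u * d⁻¹) * d := by group
      rw [this, h]; group)
    refine hu1 (hfix u (hUW hu) (conj_comm.mpr ?_))
    by_contra hne
    haveI : Fintype U := Fintype.ofFinite U
    have hs : ({(1 : U), ⟨u, hu⟩, ⟨_, hcj U hdU u hu⟩} : Finset U).card = 3 := by
      rw [Finset.card_insert_of_notMem, Finset.card_pair] <;> simp [Subtype.ext_iff, Ne.symm hu1, Ne.symm hu', Ne.symm hne]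
    have := Finset.card_le_univ ({(1 : U), ⟨u, hu⟩, ⟨_, hcj U hdU u hu⟩} : Finset U)
    rw [hs, ← Nat.card_eq_fintype_card] at this
    omega
  have hW : IsPGroup 2 W := fun w => ⟨1, Subtype.ext (by simpa using hW2 w w.2)⟩
  have hW4 : Nat.card W = 4 := by
    obtain ⟨j, hj⟩ := IsPGroup.iff_card.mp hW
    have h1 := h4 W hWc hW2
    have h2 : 2 < Nat.card W := by
      by_contra h; exact hW1 (htwo W le_rfl hdW (by omega))
    rcases j with _ | _ | _ | j
    · simp [hj] at h2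
    · simp [hj] at h2
    · simpa using hj
    · have : 2 ^ 3 ≤ Nat.card W := hj ▸ Nat.pow_le_pow_right (by norm_num) (by omega)
      omega
  -- abelian subgroups containing W
  have hgrow : ∀ x : G, x ^ 2 = 1 → (∀ w ∈ W, w * x = x * w) → x ∈ W := by
    intro x hx hcx
    obtain ⟨hc, h2⟩ := elementary_sup (A := W) ⟨hWc, hW2⟩ (elementary_zpowers hx) (fun w hw y hy => by
      obtain ⟨i, rfl⟩ := Subgroup.mem_zpowers_iff.mp hy
      exact ((show Commute w x from hcx w hw).zpow_right i).eq)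
    have := Subgroup.eq_of_le_of_card_ge (le_sup_left : W ≤ W ⊔ Subgroup.zpowers x) (hW4.symm ▸ h4 _ hc h2)
    exact this.symm ▸ Subgroup.mem_sup_right (Subgroup.mem_zpowers x)
  set Q := Cfsg.pCore 2 G
  have hQ : IsPGroup 2 Q := Cfsg.Agent.Cores.pCore_isPGroup 2
  have hQn : ∀ x : G, x ∈ Subgroup.normalizer (Q : Set G) := fun x => by
    rw [Subgroup.normalizer_eq_top]; trivial
  set S := W ⊔ Q
  have hS : IsPGroup 2 S := hW.to_sup_of_normal_right' hQ fun x _ => hQn x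
  have hdS : d ∈ Subgroup.normalizer (S : Set G) := by
    rw [Subgroup.mem_normalizer_iff_map_conj_eq, Subgroup.map_sup, Subgroup.mem_normalizer_iff_map_conj_eq.mp hdW,
      Subgroup.mem_normalizer_iff_map_conj_eq.mp (hQn d)]
  let K : Subgroup G :=
    { carrier := {x | x ∈ S ∧ (∀ y ∈ S, x * y = y * x) ∧ x ^ 2 = 1}
      one_mem' := ⟨one_mem S, fun y _ => by simp, one_pow 2⟩
      mul_mem' := fun {a b} ha hb => ⟨mul_mem ha.1 hb.1, fun y hy =>
        ((show Commute a y from ha.2.1 y hy).mul_left (hb.2.1 y hy)).eq, by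
        rw [(show Commute a b from ha.2.1 b hb.1).mul_pow, ha.2.2, hb.2.2, one_mul]⟩
      inv_mem' := fun {a} ha => ⟨inv_mem ha.1, fun y hy => ((show Commute a y from ha.2.1 y hy).inv_left).eq, by
        rw [inv_pow, ha.2.2, inv_one]⟩ }
  have hKW : K ≤ W := fun x hx => hgrow x hx.2.2 fun w hw => (hx.2.1 w (Subgroup.mem_sup_left hw)).symm
  have hdK : d ∈ Subgroup.normalizer (K : Set G) := by
    have key : ∀ a ∈ Subgroup.normalizer (S : Set G), ∀ x ∈ K, a * x * a⁻¹ ∈ K := by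
      intro a ha x hx
      refine ⟨(Subgroup.mem_normalizer_iff.mp ha x).mp hx.1, fun y hy => ?_, by rw [conj_pow, hx.2.2, mul_one, mul_inv_cancel]⟩
      have hy' : a⁻¹ * y * a ∈ S := by simpa using (Subgroup.mem_normalizer_iff.mp (inv_mem ha) y).mp hy
      calc a * x * a⁻¹ * y = a * (x * (a⁻¹ * y * a)) * a⁻¹ := by group
        _ = a * ((a⁻¹ * y * a) * x) * a⁻¹ := by rw [hx.2.1 _ hy']
        _ = y * (a * x * a⁻¹) := by group
    rw [Subgroup.mem_normalizer_iff]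
    intro x
    refine ⟨key d hdS x, fun hx => ?_⟩
    have := key d⁻¹ (inv_mem hdS) _ hx
    simpa [mul_assoc] using this
  have hKeq : K = W := by
    by_contra hne
    have hK2 : Nat.card K ≤ 2 := by
      obtain ⟨j, hj⟩ := IsPGroup.iff_card.mp (hW.to_le hKW)
      have hlt : Nat.card K < 4 := hW4 ▸ lt_of_not_ge fun h => hne (Subgroup.eq_of_le_of_card_ge hKW h)
      rcases j with _ | _ | j
      · simp [hj]
      · simp [hj]
      · have : 2 ^ 2 ≤ Nat.card K := hj ▸ Nat.pow_le_pow_right (by norm_num) (by omega)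
        omega
    have hK1 := htwo K hKW hdK hK2
    have hS1 : Nontrivial S := (Subgroup.nontrivial_iff_ne_bot S).mpr fun h => hW1 (le_bot_iff.mp (h ▸ le_sup_left))
    have hcne : Nontrivial (Subgroup.center ↥S) := hS.center_nontrivial
    obtain ⟨k, hk⟩ := IsPGroup.iff_card.mp (hS.to_subgroup (Subgroup.center ↥S))
    have h2 : 2 ∣ Nat.card (Subgroup.center ↥S) := by
      rcases k with _ | k
      · rw [pow_zero] at hk
        have := Finite.one_lt_card (α := ↥(Subgroup.center ↥S))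
        omega
      · rw [hk]; exact dvd_pow_self 2 (Nat.succ_ne_zero k)
    obtain ⟨z, hz⟩ := exists_prime_orderOf_dvd_card' 2 h2
    have hzK : ((z : S) : G) ∈ K := ⟨(z : S).2, fun y hy => congrArg Subtype.val (Subgroup.mem_center_iff.mp z.2 ⟨y, hy⟩).symm, by
      have := pow_orderOf_eq_one z; rw [hz] at this; simpa using congrArg (fun v : Subgroup.center ↥S => ((v : S) : G)) this⟩
    rw [hK1, Subgroup.mem_bot] at hzK
    have : z = 1 := Subtype.ext (Subtype.ext hzK)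
    rw [this, orderOf_one] at hz
    omega
  have hWS : ∀ w ∈ W, ∀ y ∈ S, w * y = y * w := fun w hw => (hKeq.symm ▸ hw : w ∈ K).2.1
  have hWQ : W ≤ Q := fun w hw => hchar (Subgroup.mem_centralizer_iff.mpr fun y hy => (hWS w hw y (Subgroup.mem_sup_right hy)).symm)
  have hinvW : ∀ x ∈ Q, x ^ 2 = 1 → x ∈ W := fun x hx h2 => hgrow x h2 fun w hw => hWS w hw x (Subgroup.mem_sup_right hx)
  haveI hWn : W.Normal := ⟨fun w hw a => hinvW _ (Subgroup.Normal.conj_mem inferInstance w (hWQ hw) a) (by rw [conj_pow, hW2 w hw, mul_one, mul_inv_cancel])⟩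
  set L := Subgroup.centralizer (W : Set G)
  haveI : L.Normal := inferInstance
  set t := g ^ 3
  set c := g ^ 2
  have ht : orderOf t = 2 := by rw [orderOf_pow' _ (by norm_num), hg]; rfl
  have hc : orderOf c = 3 := by rw [orderOf_pow' _ (by norm_num), hg]; rfl
  have htc : Commute t c := Commute.pow_pow_self g 3 2
  have ht2 : t ^ 2 = 1 := ht ▸ pow_orderOf_eq_one t
  have hc3 : c ^ 3 = 1 := hc ▸ pow_orderOf_eq_one c
  have hWcomm : ∀ a ∈ W, ∀ b ∈ W, a * b = b * a := fun a ha b hb => congrArg Subtype.val (hWc.is_comm.comm ⟨a, ha⟩ ⟨b, hb⟩)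
  obtain ⟨w0, hw0, hw01, hcw0⟩ : ∃ w0 ∈ W, w0 ≠ 1 ∧ c * w0 = w0 * c := by
    by_cases htW : ∀ w ∈ W, w * t = t * w
    · refine ⟨t, hgrow t ht2 htW, fun h => ?_, htc.eq.symm⟩
      rw [h, orderOf_one] at ht; omega
    push Not at htW
    obtain ⟨w, hw, hwt⟩ := htW
    set F := W ⊓ Subgroup.centralizer {t}
    have hFlt : F ≠ W := fun h => hwt (Subgroup.mem_centralizer_singleton_iff.mp (h.symm ▸ hw : w ∈ F).2)
    have hti : t⁻¹ = t := inv_eq_of_mul_eq_one_right (by rw [← sq, ht2])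
    have hw' : t * w * t⁻¹ ∈ W := hWn.conj_mem w hw t
    set w0 := w * (t * w * t⁻¹)
    have hw0F : w0 ∈ F := by
      refine ⟨mul_mem hw hw', Subgroup.mem_centralizer_singleton_iff.mpr (conj_comm.mpr ?_).symm⟩
      have e : t * w0 * t⁻¹ = (t * w * t⁻¹) * (t * (t * w * t⁻¹) * t⁻¹) := by simp only [w0]; group
      have e2 : t * (t * w * t⁻¹) * t⁻¹ = w := by
        calc t * (t * w * t⁻¹) * t⁻¹ = t ^ 2 * w * (t ^ 2)⁻¹ := by rw [sq]; group
          _ = w := by rw [ht2]; group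
      rw [e, e2]; exact hWcomm _ hw' _ hw
    have hw01 : w0 ≠ 1 := fun h => hwt (conj_comm.mpr (by
      have : t * w * t⁻¹ = w⁻¹ := eq_inv_of_mul_eq_one_right h
      rw [this]; exact inv_eq_of_mul_eq_one_right (by rw [← sq, hW2 w hw]))).symm
    have hcF : c * w0 * c⁻¹ ∈ F := ⟨hWn.conj_mem w0 hw0F.1 c, Subgroup.mem_centralizer_singleton_iff.mpr (by
      have h1 : Commute w0 t := Subgroup.mem_centralizer_singleton_iff.mp hw0F.2
      exact ((htc.symm.mul_left h1).mul_left (htc.inv_right.symm)).eq)⟩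
    refine ⟨w0, hw0F.1, hw01, conj_comm.mpr ?_⟩
    by_contra hne
    apply hFlt
    refine Subgroup.eq_of_le_of_card_ge inf_le_left ?_
    rw [hW4]
    haveI : Fintype F := Fintype.ofFinite F
    have hu' : c * w0 * c⁻¹ ≠ 1 := fun h => hw01 (by
      have : w0 = c⁻¹ * (c * w0 * c⁻¹) * c := by group
      rw [this, h]; group)
    have hs : ({(1 : F), ⟨w0, hw0F⟩, ⟨_, hcF⟩} : Finset F).card = 3 := by
      rw [Finset.card_insert_of_notMem, Finset.card_pair] <;> simp [Subtype.ext_iff, Ne.symm hw01, Ne.symm hu', Ne.symm hne]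
    have h3 := Finset.card_le_univ ({(1 : F), ⟨w0, hw0F⟩, ⟨_, hcF⟩} : Finset F)
    rw [hs, ← Nat.card_eq_fintype_card] at h3
    obtain ⟨j, hj⟩ := IsPGroup.iff_card.mp (hW.to_le (inf_le_left : F ≤ W))
    have h3' : 3 ≤ Nat.card ↥F := h3
    change Nat.card ↥F = _ at hj
    rcases j with _ | _ | j
    · rw [pow_zero] at hj; omega
    · rw [show (2 : ℕ) ^ (0 + 1) = 2 from rfl] at hj; omega
    · rw [hj]; exact le_trans (by norm_num) (Nat.pow_le_pow_right (show 1 ≤ 2 by norm_num) (show 2 ≤ j + 2 by omega))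
  have hcL : c ∈ L := by
    rw [Subgroup.mem_centralizer_iff]
    intro v hv
    set v' := v⁻¹ * (c * v * c⁻¹)
    have hv' : v' ∈ W := mul_mem (inv_mem hv) (hWn.conj_mem v hv c)
    have hU : v' ∈ Subgroup.zpowers w0 ∨ v' ∉ Subgroup.zpowers w0 := em _
    have hcard0 : Nat.card (Subgroup.zpowers w0) = 2 := by
      rw [Nat.card_zpowers]; exact orderOf_eq_prime (hW2 w0 hw0) hw01
    set Z0 := (Subgroup.zpowers w0).subgroupOf W
    have hidx : Z0.index = 2 := by
      have h := Subgroup.card_mul_index Z0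
      rw [Nat.card_congr (Subgroup.subgroupOfEquivOfLe (Subgroup.zpowers_le.mpr hw0)).toEquiv, hcard0, hW4] at h
      omega
    have hin : v' ∈ Subgroup.zpowers w0 := by
      have key : (⟨v, hv⟩ : W)⁻¹ * ⟨c * v * c⁻¹, hWn.conj_mem v hv c⟩ ∈ Z0 := by
        rw [Subgroup.mul_mem_iff_of_index_two hidx, inv_mem_iff]
        show v ∈ Subgroup.zpowers w0 ↔ c * v * c⁻¹ ∈ Subgroup.zpowers w0
        have hfixz : ∀ y ∈ Subgroup.zpowers w0, c * y * c⁻¹ = y := by
          intro y hy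
          obtain ⟨i, rfl⟩ := Subgroup.mem_zpowers_iff.mp hy
          exact conj_comm.mp ((show Commute c w0 from hcw0).zpow_right i).eq
        constructor
        · intro h; rw [hfixz v h]; exact h
        · intro h
          have e := hfixz _ h
          have : c * v * c⁻¹ = v := by
            have h2 : c⁻¹ * (c * (c * v * c⁻¹) * c⁻¹) * c = c⁻¹ * (c * v * c⁻¹) * c := by rw [e]
            simpa [mul_assoc] using h2
          rwa [this] at h
      exact key
    have hcv' : c * v' * c⁻¹ = v' := by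
      obtain ⟨i, hi⟩ := Subgroup.mem_zpowers_iff.mp hin
      rw [← hi]; exact conj_comm.mp ((show Commute c w0 from hcw0).zpow_right i).eq
    have h1 : c * v * c⁻¹ = v * v' := by simp [v']
    have e2 : c * (v * v') * c⁻¹ = v * v' * v' := by
      calc c * (v * v') * c⁻¹ = (c * v * c⁻¹) * (c * v' * c⁻¹) := by group
        _ = v * v' * v' := by rw [h1, hcv']
    have e3 : c * (v * v' * v') * c⁻¹ = v * v' * v' * v' := by
      calc c * (v * v' * v') * c⁻¹ = (c * v * c⁻¹) * (c * v' * c⁻¹) * (c * v' * c⁻¹) := by group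
        _ = v * v' * v' * v' := by rw [h1, hcv']
    have h2 : c ^ 3 * v * (c ^ 3)⁻¹ = v * v' ^ 3 := by
      calc c ^ 3 * v * (c ^ 3)⁻¹ = c * (c * (c * v * c⁻¹) * c⁻¹) * c⁻¹ := by
            rw [show c ^ 3 = c * c * c by rw [pow_succ, sq]]; group
        _ = v * v' ^ 3 := by rw [h1, e2, e3, pow_succ, sq]; group
    rw [hc3, one_mul, inv_one, mul_one] at h2
    have hv3 : v' ^ 3 = 1 := mul_eq_left.mp h2.symm
    rw [pow_succ, hW2 v' hv', one_mul] at hv3
    rw [hv3, mul_one] at h1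
    exact (conj_comm.mpr h1).symm
  obtain ⟨T, hT⟩ := hd.exists_le_sylow
  have hcP : IsPGroup 3 (Subgroup.zpowers c) := IsPGroup.of_card (n := 1) (by rw [Nat.card_zpowers, hc, pow_one])
  obtain ⟨T', hT'⟩ := hcP.exists_le_sylow
  obtain ⟨a, ha⟩ := MulAction.exists_smul_eq G T' T
  have hac : a * c * a⁻¹ ∈ (T : Subgroup G) := by
    rw [← ha, Sylow.coe_subgroup_smul]
    exact ⟨c, hT' (Subgroup.mem_zpowers c), rfl⟩
  set N := L.subgroupOf (T : Subgroup G)
  have hN : N ≠ ⊥ := by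
    intro h
    have h1 : (⟨_, hac⟩ : (T : Subgroup G)) ∈ N := Subgroup.Normal.conj_mem inferInstance c hcL a
    rw [h, Subgroup.mem_bot] at h1
    have h2 : a * c * a⁻¹ = 1 := congrArg Subtype.val h1
    have : c = 1 := by
      have h3 : c = a⁻¹ * (a * c * a⁻¹) * a := by group
      rw [h3, h2]; group
    rw [this, orderOf_one] at hc; omega
  haveI : Group.IsNilpotent (T : Subgroup G) := T.isPGroup'.isNilpotent
  have hNc := Cfsg.Agent.Cores.inf_center_ne_bot hN
  have h3 : 3 ∣ Nat.card ↥(N ⊓ Subgroup.center (T : Subgroup G)) := by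
    obtain ⟨k, hk⟩ := IsPGroup.iff_card.mp (T.isPGroup'.to_subgroup (N ⊓ Subgroup.center (T : Subgroup G)))
    rcases k with _ | k
    · exact absurd (Subgroup.card_eq_one.mp (by simpa using hk)) hNc
    · rw [hk]; exact dvd_pow_self 3 (Nat.succ_ne_zero k)
  obtain ⟨e', he'⟩ := exists_prime_orderOf_dvd_card' 3 h3
  set e : G := ((e' : (T : Subgroup G)) : G)
  have he : orderOf e = 3 := by
    rw [← he']; exact (Subgroup.orderOf_coe _).trans (Subgroup.orderOf_coe _)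
  have heL : e ∈ L := e'.2.1
  have hde : d * e = e * d := congrArg Subtype.val (Subgroup.mem_center_iff.mp e'.2.2 ⟨d, hT (Subgroup.mem_zpowers d)⟩)
  set A := Subgroup.zpowers e
  set B := A ⊔ Subgroup.zpowers d
  have hAn : B ≤ Subgroup.normalizer (A : Set G) := by
    refine sup_le Subgroup.le_normalizer (Subgroup.zpowers_le.mpr ?_)
    rw [Subgroup.mem_normalizer_iff_map_conj_eq, MonoidHom.map_zpowers]
    congr 1
    exact conj_comm.mp hde
  have hA2 : (Nat.card A).Coprime 2 := by rw [Nat.card_zpowers, he]; norm_num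
  have hnt : ⁅Q, A⁆ ≠ ⊥ := by
    intro h
    have h1 : e ∈ Q := hchar (Cfsg.Agent.Coprime.commutator_eq_bot_iff_le_centralizer'.mp h (Subgroup.mem_zpowers e))
    have h2 : Nat.card A ∣ Nat.card Q := Subgroup.card_dvd_of_le (Subgroup.zpowers_le.mpr h1)
    obtain ⟨k, hk⟩ := IsPGroup.iff_card.mp hQ
    rw [Nat.card_zpowers, he, hk] at h2
    exact absurd ((Nat.prime_three.dvd_of_dvd_pow) h2) (by norm_num)
  obtain ⟨R, ⟨hRQ, hBR, hRnt⟩, hmin⟩ := (Set.toFinite {U : Subgroup G | U ≤ Q ∧ B ≤ Subgroup.normalizer (U : Set G) ∧ ⁅U, A⁆ ≠ ⊥}).exists_minimal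
    ⟨Q, le_rfl, fun x _ => hQn x, hnt⟩
  have hR : IsPGroup 2 R := hQ.to_le hRQ
  obtain ⟨Z, hZR, hZne, hBZ, hZ2, hZc, hsq, hfixR⟩ := core B A R hR hBR le_sup_left hAn hA2 hRnt fun U hU hUB => by
    by_contra h; exact hU.not_ge (hmin ⟨hU.le.trans hRQ, hUB, h⟩ hU.le)
  have hdZ : d ∈ Subgroup.normalizer (Z : Set G) := hBZ (Subgroup.mem_sup_right (Subgroup.mem_zpowers d))
  have hdR : d ∈ Subgroup.normalizer (R : Set G) := hBR (Subgroup.mem_sup_right (Subgroup.mem_zpowers d))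
  have hZW : Z ≤ W := fun z hz => hinvW z (hRQ (hZR hz)) (hZ2 z hz)
  have hRZ : ∀ x ∈ R, x ^ 2 = 1 → x ∈ Z := fun x hx h2 => hfixR ⟨hx, Subgroup.mem_centralizer_iff.mpr fun y hy => by
    obtain ⟨i, rfl⟩ := Subgroup.mem_zpowers_iff.mp hy
    exact ((show Commute e x from (Subgroup.mem_centralizer_iff.mp heL x (hinvW x (hRQ hx) h2)).symm).zpow_left i).eq⟩
  set S' : Set G := {x | x ∈ R ∧ x ∉ Z}
  let P : ∀ w : G, Set G := fun w => {x | x ∈ R ∧ x ∉ Z ∧ x ^ 2 = w}
  have hsqZ : ∀ x ∈ S', x ^ 2 ∈ Z ∧ x ^ 2 ≠ 1 := fun x hx => ⟨hsq x hx.1, fun h => hx.2 (hRZ x hx.1 h)⟩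
  have hfib : ∀ w ∈ Z, 3 ∣ Nat.card ↥(P w) := by
    intro w hw
    have h := card_dvd_of_free A (P w) (fun b hb x hx => ⟨(Subgroup.mem_normalizer_iff.mp (hBR (Subgroup.mem_sup_left hb)) x).mp hx.1,
      fun h => hx.2.1 ((Subgroup.mem_normalizer_iff.mp (hBZ (Subgroup.mem_sup_left hb)) x).mpr h), by
        rw [conj_pow, hx.2.2]
        have : b ∈ L := Subgroup.zpowers_le.mpr heL hb
        rw [← Subgroup.mem_centralizer_iff.mp this w (hZW hw)]; group⟩)
      (fun b hb hb1 x hx h => hx.2.1 (hfixR ⟨hx.1, by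
        have hgen : Subgroup.zpowers b = A := Subgroup.eq_of_le_of_card_ge (Subgroup.zpowers_le.mpr hb) (by
          rw [Nat.card_zpowers, Nat.card_zpowers, he]
          have h1 : orderOf b ∣ 3 := he ▸ Nat.card_zpowers e ▸ A.orderOf_dvd_natCard hb
          rcases (Nat.dvd_prime Nat.prime_three).mp h1 with h2 | h2
          · exact absurd (orderOf_eq_one_iff.mp h2) hb1
          · omega)
        show x ∈ Subgroup.centralizer (A : Set G)
        rw [← hgen, Subgroup.mem_centralizer_iff]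
        intro y hy
        obtain ⟨i, rfl⟩ := Subgroup.mem_zpowers_iff.mp hy
        exact ((show Commute b x from h).zpow_left i).eq⟩))
    rwa [Nat.card_zpowers, he] at h
  -- d permutes the three fibres
  have hdP : ∀ w : G, Nat.card ↥(P (d * w * d⁻¹)) = Nat.card ↥(P w) := by
    intro w
    refine (Nat.card_congr ?_).symm
    refine Equiv.subtypeEquiv (MulAut.conj d).toEquiv fun x => ?_
    show x ∈ R ∧ x ∉ Z ∧ x ^ 2 = w ↔ d * x * d⁻¹ ∈ R ∧ d * x * d⁻¹ ∉ Z ∧ (d * x * d⁻¹) ^ 2 = d * w * d⁻¹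
    rw [← Subgroup.mem_normalizer_iff.mp hdR x, ← Subgroup.mem_normalizer_iff.mp hdZ x, conj_pow, mul_left_inj, mul_right_inj]
  obtain ⟨x0, hx0⟩ : ∃ x, x ∈ S' := by
    by_contra h; push Not at h
    exact hZne (le_antisymm hZR fun x hx => by by_contra hx'; exact h x ⟨hx, hx'⟩)
  obtain ⟨z1, hz1, hz1ne⟩ : ∃ z1, z1 ∈ Z ∧ z1 ≠ 1 := ⟨_, hsqZ x0 hx0⟩
  set z2 := d * z1 * d⁻¹
  set z3 := d * z2 * d⁻¹
  have hz2 : z2 ∈ Z := hcj Z hdZ z1 hz1
  have hne12 : z2 ≠ z1 := fun h => hz1ne (hfix z1 (hZW hz1) (conj_comm.mpr h))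
  have hne23 : z3 ≠ z2 := fun h => hne12 (mul_left_cancel (mul_right_cancel h))
  have hz2ne : z2 ≠ 1 := fun h => hz1ne (by
    have h3 : z1 = d⁻¹ * z2 * d := by simp [z2, mul_assoc]
    rw [h3, h]; group)
  have hz3ne : z3 ≠ 1 := fun h => hz2ne (by
    have h3 : z2 = d⁻¹ * z3 * d := by simp [z3, mul_assoc]
    rw [h3, h]; group)
  have hW13 : ∀ u ∈ W, u = 1 ∨ u = z1 ∨ u = z2 ∨ u = z1 * z2 := by
    intro u hu
    by_contra h; push Not at h
    obtain ⟨a1, a2, a3, a4⟩ := h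
    have hh1 : z1 * z2 ≠ 1 := fun h => hne12 (by
      have : z2 = z1⁻¹ := eq_inv_of_mul_eq_one_right h
      rw [this]; exact inv_eq_of_mul_eq_one_right (by rw [← sq, hZ2 z1 hz1]))
    have hh2 : z1 * z2 ≠ z1 := fun h => hz2ne (mul_eq_left.mp h)
    have hh3 : z1 * z2 ≠ z2 := fun h => hz1ne (mul_eq_right.mp h)
    haveI : Fintype W := Fintype.ofFinite W
    have h5 : ({(1 : W), ⟨z1, hZW hz1⟩, ⟨z2, hZW hz2⟩, ⟨z1 * z2, mul_mem (hZW hz1) (hZW hz2)⟩, ⟨u, hu⟩} : Finset W).card = 5 := by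
      rw [Finset.card_insert_of_notMem, Finset.card_insert_of_notMem, Finset.card_insert_of_notMem, Finset.card_pair] <;>
        simp [Subtype.ext_iff, Ne.symm hz1ne, Ne.symm hz2ne, Ne.symm hne12, Ne.symm hh1, Ne.symm hh2, Ne.symm hh3, Ne.symm a1, Ne.symm a2, Ne.symm a3, Ne.symm a4]
    have := Finset.card_le_univ ({(1 : W), ⟨z1, hZW hz1⟩, ⟨z2, hZW hz2⟩, ⟨z1 * z2, mul_mem (hZW hz1) (hZW hz2)⟩, ⟨u, hu⟩} : Finset W)
    rw [h5, ← Nat.card_eq_fintype_card, hW4] at this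
    omega
  have hz3 : z3 ∈ Z := hcj Z hdZ z2 hz2
  have hz12 : z3 = z1 * z2 := by
    rcases hW13 z3 (hZW hz3) with h | h | h | h
    · exact absurd h hz3ne
    · exfalso
      -- d² fixes z1, and d has odd order
      have h2 : d ^ 2 * z1 = z1 * d ^ 2 := by
        rw [conj_comm]
        calc d ^ 2 * z1 * (d ^ 2)⁻¹ = z3 := by simp only [z3, z2]; rw [sq]; group
          _ = z1 := h
      obtain ⟨k, hk⟩ := IsPGroup.iff_card.mp hd
      rw [Nat.card_zpowers] at hk
      obtain ⟨j, hj⟩ : ∃ j, orderOf d = 2 * j + 1 := (hk ▸ (show Odd 3 by decide).pow : Odd (orderOf d))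
      have h3 : d = (d ^ 2) ^ (j + 1) := by
        rw [← pow_mul, show 2 * (j + 1) = orderOf d + 1 by omega, pow_succ, pow_orderOf_eq_one, one_mul]
      exact hne12 (conj_comm.mp (by rw [h3]; exact ((show Commute (d ^ 2) z1 from h2).pow_left (j + 1)).eq))
    · exact absurd h hne23
    · exact h
  have hsum : Nat.card ↥S' = 3 * Nat.card ↥(P z1) := by
    have hu : S' = P z1 ∪ (P z2 ∪ P z3) := by
      ext x; constructor
      · intro hx
        obtain ⟨h1, h2⟩ := hsqZ x hx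
        rcases hW13 _ (hZW h1) with h | h | h | h
        · exact absurd h h2
        · exact Or.inl ⟨hx.1, hx.2, h⟩
        · exact Or.inr (Or.inl ⟨hx.1, hx.2, h⟩)
        · exact Or.inr (Or.inr ⟨hx.1, hx.2, h.trans hz12.symm⟩)
      · rintro (h | h | h) <;> exact ⟨h.1, h.2.1⟩
    have d23 : Disjoint (P z2) (P z3) := Set.disjoint_left.mpr fun x hx hx' => hne23 (hx'.2.2.symm.trans hx.2.2)
    have d1 : Disjoint (P z1) (P z2 ∪ P z3) := Set.disjoint_left.mpr fun x hx hx' => by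
      rcases hx' with hx' | hx'
      · exact hne12 (hx'.2.2.symm.trans hx.2.2)
      · have h13 : z3 = z1 := hx'.2.2.symm.trans hx.2.2
        rw [hz12] at h13; exact hz2ne (mul_eq_left.mp h13)
    have c2 : Nat.card ↥(P z2) = Nat.card ↥(P z1) := hdP z1
    have c3 : Nat.card ↥(P z3) = Nat.card ↥(P z1) := (hdP z2).trans c2
    rw [Nat.card_coe_set_eq, hu, Set.ncard_union_eq d1, Set.ncard_union_eq d23, ← Nat.card_coe_set_eq,
      ← Nat.card_coe_set_eq, ← Nat.card_coe_set_eq, c2, c3]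
    omega
  have h9 : 9 ∣ Nat.card ↥{x : G | x ∈ R ∧ x ∉ Z} := by
    show 9 ∣ Nat.card ↥S'
    rw [hsum]; exact Nat.mul_dvd_mul_left 3 (hfib z1 hz1)
  obtain ⟨x, hxR, hxZ, hx2⟩ := involution_of_nine hR hZR hZne hZ2 hZc hsq (hW4 ▸ Subgroup.card_le_of_le hZW) h9
  exact hxZ (hRZ x hxR hx2)

end


/-- Let G be a finite group with C_G(O₂(G)) ≤ O₂(G) containing an element of order 6, and let d be a non-identity 3-element of G normalizing a nontrivial elementary abelian 2-subgroup W with C_W(d) = 1. Then G has an elementary abelian subgroup of order 8. -/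
theorem result {G : Type*} [Group G] [Finite G] (hchar : Subgroup.centralizer (Cfsg.pCore 2 G : Set G) ≤ Cfsg.pCore 2 G) (hsix : ∃ g : G, orderOf g = 6) (d : G) (hd1 : d ≠ 1) (hd : IsPGroup 3 ↥(Subgroup.zpowers d)) (W : Subgroup G) (hW : Cfsg.IsElementaryAbelian 2 W) (hW1 : W ≠ ⊥) (hdW : d ∈ Subgroup.normalizer (W : Set G)) (hfpf : W ⊓ Subgroup.centralizer {d} = ⊥) : ∃ E : Subgroup G, Cfsg.IsElementaryAbelian 2 E ∧ Nat.card E = 8 := by
  by_contra hno
  push Not at hno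
  obtain ⟨g, hg⟩ := hsix
  refine main hchar g hg d hd W hW.1 hW.2 hW1 hdW hfpf fun E hE h2 => ?_
  by_contra hlt
  have hE2 : IsPGroup 2 E := fun w => ⟨1, Subtype.ext (by simpa using h2 w w.2)⟩
  obtain ⟨j, hj⟩ := IsPGroup.iff_card.mp hE2
  have hj3 : 3 ≤ j := by
    by_contra h
    have : Nat.card E ≤ 2 ^ 2 := hj ▸ Nat.pow_le_pow_right (by norm_num) (by omega)
    omega
  haveI : Fact (Nat.Prime 2) := ⟨Nat.prime_two⟩
  obtain ⟨F', hF'⟩ := Sylow.exists_subgroup_card_pow_prime_of_le_card (n := 3) Nat.prime_two hE2 (hj ▸ Nat.pow_le_pow_right (by norm_num) hj3)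
  obtain ⟨F, hFE, hFc⟩ : ∃ F : Subgroup G, F ≤ E ∧ Nat.card F = 8 := ⟨F'.map E.subtype, Subgroup.map_subtype_le _, by
    rw [Subgroup.card_map_of_injective E.subtype_injective, hF']; rfl⟩
  refine hno F ⟨⟨⟨fun a b => Subtype.ext (congrArg Subtype.val (hE.is_comm.comm ⟨a, hFE a.2⟩ ⟨b, hFE b.2⟩) :)⟩⟩, fun a ha => h2 a (hFE ha)⟩ hFc

end Cfsg.Agent.S3739
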