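import Cfsg.Statements.S3740
import Mathlib
import Cfsg.Agent.Techniques.SL2.Main
import Cfsg.Agent.Lib.Classical.SL2Rep
import Cfsg.Agent.Lib.Classical.SylowSL2
import Cfsg.Agent.Lib.Coprime.Sylow
import Cfsg.Agent.Lib.PGroups.UniqueSubgroup

set_option autoImplicit false
open Cfsg
open scoped commutatorElement

namespace Cfsg.Agent.S3740
section
open Cfsg.Agent.Techniques.SL2.Basic
open scoped MatrixGroups
variable {F : Type} [Field F] [Fintype F] {p : ℕ} [hpf : Fact p.Prime] [CharP F p]

abbrev II (F : Type) [Field F] : SL(2, F) →* SL(2, F) := MonoidHom.id _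

theorem II_inj : Function.Injective (II F) := Function.injective_id

/-- Elements of order prime to `p` commuting with a unipotent are scalar. -/
theorem cen_of_commute (hp : p ≠ 2) {a y : SL(2, F)} (ha : a ^ p = 1) (ha1 : a ≠ 1) (hya : Commute y a)
    (hy : (orderOf y).Coprime p) : Cen (II F) y := by
  have hta : (mat (II F) a).trace = 2 := trace_of_pow (ι := II F) p (k := 1) (by rw [pow_one]; exact ha)
  have hna : ¬ Cen (II F) a := fun h => ha1 (by
    have h2 := Cen.sq_eq_one II_inj h
    have h3 : orderOf a ∣ 2 := orderOf_dvd_of_pow_eq_one (by rw [sq]; exact h2)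
    exact orderOf_eq_one_iff.mp (Nat.eq_one_of_dvd_coprimes ((Nat.coprime_primes Nat.prime_two hpf.out).mpr (Ne.symm hp)) h3 (orderOf_dvd_of_pow_eq_one ha)))
  obtain ⟨u, v, he⟩ := (exists_comb II_inj hna).1 hya
  have hd := det_mat (II F) y
  have hdA := det_mat (II F) a
  rw [Matrix.det_fin_two] at hd hdA
  rw [Matrix.trace_fin_two] at hta
  have h00 := congrFun (congrFun he 0) 0
  have h01 := congrFun (congrFun he 0) 1
  have h10 := congrFun (congrFun he 1) 0
  have h11 := congrFun (congrFun he 1) 1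
  simp only [Matrix.add_apply, Matrix.smul_apply, Matrix.one_apply_eq, smul_eq_mul, mul_one,
    Matrix.one_apply_ne (show (0 : Fin 2) ≠ 1 by decide), Matrix.one_apply_ne (show (1 : Fin 2) ≠ 0 by decide), mul_zero, zero_add] at h00 h01 h10 h11
  rw [h00, h01, h10, h11] at hd
  have hsq : (u + v) * (u + v) = 1 := by linear_combination hd - v ^ 2 * hdA - u * v * hta
  have htr : (mat (II F) y).trace = 2 ∨ (mat (II F) y).trace = -2 := by
    rw [Matrix.trace_fin_two, h00, h11]
    rcases mul_self_eq_one_iff.mp hsq with h | h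
    · left; linear_combination 2 * h + v * hta
    · right; linear_combination 2 * h + v * hta
  have hc := Cen.sq_eq_one II_inj (cen_pow_of_trace p II_inj hp htr)
  refine cen_of_sq p II_inj hp ?_
  rw [← sq, ← orderOf_dvd_iff_pow_eq_one]
  have hd2 : orderOf y ∣ p * 2 := orderOf_dvd_of_pow_eq_one (by rw [pow_mul, sq]; exact hc)
  exact hy.dvd_of_dvd_mul_left hd2

/-- In a semisimple cyclic subgroup the trace determines an element up to inversion. -/
theorem eq_or_inv (hp : p ≠ 2) {x y : SL(2, F)} (hx : ¬ Cen (II F) x) (hxo : (orderOf x).Coprime p)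
    (hc : Commute y x) (ht : (mat (II F) y).trace = (mat (II F) x).trace) : y = x ∨ y = x⁻¹ := by
  obtain ⟨u, v, he⟩ := (exists_comb II_inj hx).1 hc
  have hd := det_mat (II F) y
  have hdA := det_mat (II F) x
  rw [Matrix.det_fin_two] at hd hdA
  set t := (mat (II F) x).trace with htdef
  have h00 := congrFun (congrFun he 0) 0
  have h01 := congrFun (congrFun he 0) 1
  have h10 := congrFun (congrFun he 1) 0
  have h11 := congrFun (congrFun he 1) 1
  simp only [Matrix.add_apply, Matrix.smul_apply, Matrix.one_apply_eq, smul_eq_mul, mul_one,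
    Matrix.one_apply_ne (show (0 : Fin 2) ≠ 1 by decide), Matrix.one_apply_ne (show (1 : Fin 2) ≠ 0 by decide), mul_zero, zero_add] at h00 h01 h10 h11
  have htx : mat (II F) x 0 0 + mat (II F) x 1 1 = t := by rw [htdef, Matrix.trace_fin_two]
  have hty : 2 * u = (1 - v) * t := by
    rw [Matrix.trace_fin_two, h00, h11] at ht
    linear_combination ht - v * htx
  rw [h00, h01, h10, h11] at hd
  have hkey : (1 - v * v) * ((t - 2) * (t + 2)) = 0 := by
    linear_combination 4 * hd - 4 * v ^ 2 * hdA - 4 * u * v * htx - (2 * u + (1 - v) * t + 2 * v * t) * hty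
  rcases mul_eq_zero.mp hkey with h | h
  · rcases mul_self_eq_one_iff.mp (show v * v = 1 by linear_combination -h) with rfl | rfl
    · left
      apply mat_injective (II F) II_inj
      have hu : u = 0 := by
        have h2 : (2 : F) * u = 0 := by linear_combination hty
        exact (mul_eq_zero.mp h2).resolve_left (two_ne_zero' p hp)
      rw [he, hu, zero_smul, zero_add, one_smul]
    · right
      apply mat_injective (II F) II_inj
      have hu : u = t := by
        have h2 : (2 : F) * (u - t) = 0 := by linear_combination hty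
        exact sub_eq_zero.mp ((mul_eq_zero.mp h2).resolve_left (two_ne_zero' p hp))
      rw [he, hu, mat_inv, ← htdef, neg_smul, one_smul, sub_eq_add_neg]
  · exfalso
    apply hx
    have htr : (mat (II F) x).trace = 2 ∨ (mat (II F) x).trace = -2 := by
      rcases mul_eq_zero.mp h with h | h
      · left; rw [← htdef]; linear_combination h
      · right; rw [← htdef]; linear_combination h
    have hc' := Cen.sq_eq_one II_inj (cen_pow_of_trace p II_inj hp htr)
    refine cen_of_sq p II_inj hp ?_
    rw [← sq, ← orderOf_dvd_iff_pow_eq_one]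
    exact hxo.dvd_of_dvd_mul_left (orderOf_dvd_of_pow_eq_one (by rw [pow_mul, sq]; exact hc') : orderOf x ∣ p * 2)

theorem main (hp : p ≠ 2) (a : SL(2, F)) (ha : IsPGroup p ↥(Subgroup.zpowers a)) (R : Subgroup SL(2, F))
    (hR : (Nat.card R).Coprime p) (haR : a ∈ Subgroup.normalizer (R : Set SL(2, F))) (hnt : ⁅R, Subgroup.zpowers a⁆ ≠ ⊥) :
    p = 3 ∧ Nonempty (↥R ≃* QuaternionGroup 2) ∧ Nonempty (↥(R ⊔ Subgroup.zpowers a) ≃* SL(2, ZMod 3)) := by
  classical
  have hP : p.Prime := hpf.out
  obtain ⟨k, hk⟩ := IsPGroup.iff_card.mp ha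
  rw [Nat.card_zpowers] at hk
  have hta : (mat (II F) a).trace = 2 := trace_of_pow (ι := II F) p (k := k) (hk ▸ pow_orderOf_eq_one a)
  have hap : a ^ p = 1 := pow_eq_one_of_trace p II_inj hta
  have ha1 : a ≠ 1 := fun h => hnt (by rw [h, Subgroup.zpowers_one_eq_bot, Subgroup.commutator_bot_right])
  have hao : orderOf a = p := orderOf_eq_prime hap ha1
  set A := Subgroup.zpowers a
  have hAc : Nat.card A = p := by rw [Nat.card_zpowers, hao]
  set H := R ⊔ A with hH
  have hAN : A ≤ Subgroup.normalizer (R : Set SL(2, F)) := Subgroup.zpowers_le.mpr haR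
  have hRH : R ≤ H := le_sup_left
  have hAH : A ≤ H := le_sup_right
  haveI hRn : (R.subgroupOf H).Normal := Subgroup.normal_subgroupOf_iff_le_normalizer hRH |>.mpr (sup_le Subgroup.le_normalizer hAN)
  have hcap : R ⊓ A = ⊥ := by
    rw [← Subgroup.card_eq_one]
    exact Nat.eq_one_of_dvd_coprimes hR (Subgroup.card_dvd_of_le inf_le_left) (hAc ▸ Subgroup.card_dvd_of_le inf_le_right)
  have hHcard : Nat.card H = Nat.card R * p := by
    have h1 : Nat.card H = Nat.card R * R.relIndex H := by
      have := Subgroup.card_mul_index (R.subgroupOf H)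
      rw [Nat.card_congr (Subgroup.subgroupOfEquivOfLe hRH).toEquiv] at this
      exact this.symm
    rw [h1]; congr 1
    show (R.subgroupOf H).index = p
    rw [← hAc]
    have h2 : (R.subgroupOf H).relIndex (A.subgroupOf H) = (R.subgroupOf H).index := by
      rw [← Subgroup.relIndex_sup_right (K := R.subgroupOf H) (H := A.subgroupOf H), ← Subgroup.subgroupOf_sup hAH hRH,
        sup_comm, ← hH, Subgroup.subgroupOf_self, Subgroup.relIndex_top_right]
    rw [← h2, Subgroup.relIndex_subgroupOf hAH, ← Subgroup.inf_relIndex_right, hcap, Subgroup.relIndex_bot_left]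
  have hsyl : 1 < Nat.card (Sylow p H) := by
    by_contra hle
    haveI : Subsingleton (Sylow p H) := Finite.card_le_one_iff_subsingleton.mp (not_lt.mp hle)
    have hA' : IsPGroup p (A.subgroupOf H) := ha.of_equiv (Subgroup.subgroupOfEquivOfLe hAH).symm
    obtain ⟨P, hP'⟩ := hA'.exists_le_sylow
    have hPA : (P : Subgroup H) = A.subgroupOf H := by
      refine (Subgroup.eq_of_le_of_card_ge hP' ?_).symm
      rw [Nat.card_congr (Subgroup.subgroupOfEquivOfLe hAH).toEquiv, hAc, Sylow.card_eq_multiplicity, hHcard,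
        Nat.factorization_mul Nat.card_pos.ne' hP.ne_zero]
      rw [Finsupp.add_apply, Nat.factorization_eq_zero_of_not_dvd (fun h => hP.ne_one (Nat.eq_one_of_dvd_coprimes hR h dvd_rfl)), hP.factorization_self, zero_add, pow_one]
    haveI : (A.subgroupOf H).Normal := hPA ▸ P.normal_of_subsingleton
    apply hnt
    rw [eq_bot_iff, ← hcap, Subgroup.commutator_le]
    intro r hr b hb
    refine ⟨?_, ?_⟩
    · rw [commutatorElement_def, mul_assoc, mul_assoc]
      exact mul_mem hr (by
        have := (Subgroup.mem_normalizer_iff.mp (hAN hb) r⁻¹).mp (inv_mem hr)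
        rwa [mul_assoc] at this)
    · rw [commutatorElement_def]
      exact mul_mem (show r * b * r⁻¹ ∈ A from ‹(A.subgroupOf H).Normal›.conj_mem ⟨b, hAH hb⟩ hb ⟨r, hRH hr⟩) (A.inv_mem hb)
  obtain ⟨K, hKH, ⟨e⟩⟩ := Cfsg.Agent.Techniques.SL2.Main.exists_le_equiv p hp H hsyl
  haveI : Fact (1 < p) := ⟨hP.one_lt⟩
  have hKcard : Nat.card K = p * ((p - 1) * (p + 1)) := by
    rw [Nat.card_congr e.toEquiv, Cfsg.Agent.Classical.GL2.natCard_SL_two, ZMod.card]
  have hp3 : p = 3 := by
    by_contra hp3
    have hp5 : 4 ≤ Fintype.card (ZMod p) := by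
      rw [ZMod.card]; have := hP.two_le; omega
    have hperf := Cfsg.Agent.Classical.SL2Rep.commutator_two_eq_top (F := ZMod p) hp5
    let χ : SL(2, ZMod p) →* H ⧸ R.subgroupOf H :=
      (QuotientGroup.mk' (R.subgroupOf H)).comp ((Subgroup.inclusion hKH).comp e.symm.toMonoidHom)
    have hq : Nat.card (H ⧸ R.subgroupOf H) = p := by
      have := Subgroup.card_eq_card_quotient_mul_card_subgroup (R.subgroupOf H)
      rw [Nat.card_congr (Subgroup.subgroupOfEquivOfLe hRH).toEquiv, hHcard, mul_comm] at this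
      exact (Nat.eq_of_mul_eq_mul_right Nat.card_pos this).symm
    haveI : IsCyclic (H ⧸ R.subgroupOf H) := isCyclic_of_prime_card hq
    have hker : χ.ker = ⊤ := by
      rw [eq_top_iff, ← hperf, commutator_def, Subgroup.commutator_le]
      intro u _ v _
      rw [MonoidHom.mem_ker, map_commutatorElement, commutatorElement_eq_one_iff_mul_comm]
      exact mul_comm' _ _
    have hKR : K ≤ R := by
      intro k hk
      have : χ (e ⟨k, hk⟩) = 1 := by rw [← MonoidHom.mem_ker, hker]; trivial
      simp only [χ, MonoidHom.comp_apply, MulEquiv.coe_toMonoidHom, e.symm_apply_apply, QuotientGroup.mk'_apply,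
        QuotientGroup.eq_one_iff] at this
      exact this
    have h1 : p ∣ Nat.card R := (hKcard ▸ dvd_mul_right p _).trans (Subgroup.card_dvd_of_le hKR)
    exact hP.ne_one (Nat.eq_one_of_dvd_coprimes hR h1 dvd_rfl)
  subst hp3
  have hK24 : Nat.card K = 24 := hKcard
  have h8 : 8 ∣ Nat.card R := by
    have h1 : 24 ∣ Nat.card R * 3 := hK24 ▸ hHcard ▸ Subgroup.card_dvd_of_le hKH
    omega
  have hord : ∀ x ∈ R, (orderOf x).Coprime 3 := fun x hx => hR.coprime_dvd_left (R.orderOf_dvd_natCard hx)
  have key : ∀ x ∈ R, a * x * a⁻¹ ∈ Subgroup.zpowers x → Cen (II F) x := by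
    intro x hx hax
    by_contra hxc
    have hc : Commute (a * x * a⁻¹) x := by
      obtain ⟨i, hi⟩ := Subgroup.mem_zpowers_iff.mp hax
      rw [← hi]; exact (Commute.refl x).zpow_left i
    have h2 : (a * a) * x * (a * a)⁻¹ = x := by
      rcases eq_or_inv hp hxc (hord x hx) hc (trace_conj (ι := II F) a x) with h | h
      · calc (a * a) * x * (a * a)⁻¹ = a * (a * x * a⁻¹) * a⁻¹ := by group
          _ = a * x * a⁻¹ := congrArg (fun t => a * t * a⁻¹) h
          _ = x := h
      · calc (a * a) * x * (a * a)⁻¹ = a * (a * x * a⁻¹) * a⁻¹ := by group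
          _ = a * x⁻¹ * a⁻¹ := congrArg (fun t => a * t * a⁻¹) h
          _ = (a * x * a⁻¹)⁻¹ := by group
          _ = x := by rw [h, inv_inv]
    have h3 : Commute (a * a) x := by
      show a * a * x = x * (a * a)
      calc a * a * x = (a * a * x * (a * a)⁻¹) * (a * a) := by group
        _ = x * (a * a) := by rw [h2]
    have h4 : (a * a) * (a * a) = a := by
      rw [show (a * a) * (a * a) = a ^ 3 * a by rw [pow_succ, sq]; group, hap, one_mul]
    exact hxc (cen_of_commute hp hap ha1 (h4 ▸ h3.mul_left h3).symm (hord x hx))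
  have hRodd : ∀ r : ℕ, r.Prime → r ∣ Nat.card R → r = 2 := by
    intro r hr hrd
    by_contra hr2
    haveI : Fact r.Prime := ⟨hr⟩
    obtain ⟨P, hPA⟩ := Cfsg.Agent.Coprime.exists_invariant_sylow r hAN (hAc ▸ hR.symm) (Or.inl inferInstance)
    have hr3 : r ≠ 3 := fun h => by
      subst h; exact absurd (Nat.eq_one_of_dvd_coprimes hR hrd dvd_rfl) (by norm_num)
    obtain ⟨T, hT⟩ := (P.2.map R.subtype).exists_le_sylow
    haveI : IsCyclic (T : Subgroup SL(2, F)) := Cfsg.Agent.Classical.SylowSL2.isCyclic_sylow (F := F) 3 r hr2 hr3 T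
    haveI := Subgroup.isCyclic_of_le hT
    obtain ⟨⟨x, hx⟩, hgen⟩ := IsCyclic.exists_generator (α := ↥((P : Subgroup R).map R.subtype))
    have hxR : x ∈ R := Subgroup.map_subtype_le _ hx
    have hxc : Cen (II F) x := by
      refine key x hxR ?_
      obtain ⟨i, hi⟩ := Subgroup.mem_zpowers_iff.mp (hgen ⟨a * x * a⁻¹, (Subgroup.mem_normalizer_iff.mp (hPA (Subgroup.mem_zpowers a)) x).mp hx⟩)
      exact Subgroup.mem_zpowers_iff.mpr ⟨i, congrArg Subtype.val hi⟩
    have hcard : Nat.card ↥((P : Subgroup R).map R.subtype) = orderOf x := by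
      rw [← orderOf_eq_card_of_forall_mem_zpowers hgen, Subgroup.orderOf_mk]
    have h2 : r ∣ orderOf x := by
      rw [← hcard, Subgroup.card_map_of_injective R.subtype_injective, Sylow.card_eq_multiplicity]
      exact dvd_pow_self r (Nat.pos_iff_ne_zero.mp (hr.factorization_pos_of_dvd Nat.card_pos.ne' hrd))
    have h3 := h2.trans (orderOf_dvd_of_pow_eq_one (n := 2) (by rw [sq]; exact Cen.sq_eq_one II_inj hxc))
    exact hr2 ((Nat.prime_dvd_prime_iff_eq hr Nat.prime_two).mp h3)
  haveI : Fact (Nat.Prime 2) := ⟨Nat.prime_two⟩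
  have hR2 : IsPGroup 2 R := IsPGroup.of_card (n := (Nat.card R).primeFactorsList.length)
    (Nat.eq_prime_pow_of_unique_prime_dvd Nat.card_pos.ne' fun {d} hd hdd => hRodd d hd hdd)
  have hsqc : ∀ x : SL(2, F), x * x = 1 → Cen (II F) x := fun x h => cen_of_sq 3 II_inj hp h
  have huniq : ∀ U V : Subgroup R, Nat.card U = 2 → Nat.card V = 2 → U = V := by
    have hgen : ∀ U : Subgroup R, Nat.card U = 2 → ∃ u : R, Subgroup.zpowers u = U ∧ orderOf u = 2 := by
      intro U hU
      obtain ⟨⟨u, hu⟩, hu2⟩ := exists_prime_orderOf_dvd_card' 2 (by rw [hU] : 2 ∣ Nat.card U)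
      rw [Subgroup.orderOf_mk] at hu2
      exact ⟨u, Subgroup.eq_of_le_of_card_ge (Subgroup.zpowers_le.mpr hu) (by rw [hU, Nat.card_zpowers, hu2]), hu2⟩
    intro U V hU hV
    obtain ⟨u, rfl, hu⟩ := hgen U hU
    obtain ⟨v, rfl, hv⟩ := hgen V hV
    have h1 : ∀ w : R, orderOf w = 2 → Cen (II F) (w : SL(2, F)) ∧ (w : SL(2, F)) ≠ 1 := by
      intro w hw
      refine ⟨hsqc _ ?_, fun h => ?_⟩
      · have := pow_orderOf_eq_one w; rw [hw, sq] at this; exact congrArg Subtype.val this
      · rw [show w = 1 from Subtype.ext h, orderOf_one] at hw; omega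
    rcases Cen.eq_or_eq II_inj (h1 u hu).1 (h1 v hv).1 (h1 v hv).2 with h | h
    · exact absurd h (h1 u hu).2
    · rw [show u = v from Subtype.ext h]
  have hbig : ∀ x : R, Cen (II F) (x : SL(2, F)) → orderOf x ≤ 2 := by
    intro x hx
    refine Nat.le_of_dvd (by norm_num) (orderOf_dvd_of_pow_eq_one ?_)
    exact Subtype.ext (by rw [sq]; exact Cen.sq_eq_one II_inj hx)
  have hconj : ∀ x : R, a * (x : SL(2, F)) * a⁻¹ ∈ R := fun x => (Subgroup.mem_normalizer_iff.mp haR x).mp x.2
  have hquat : ∃ _e : R ≃* QuaternionGroup 2, True := by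
    rcases Cfsg.Agent.PGroups.UniqueSubgroup.isCyclic_or_quaternion hR2 huniq with hc | ⟨-, n, ⟨f⟩⟩
    · exfalso
      obtain ⟨x, hx⟩ := hc.exists_generator
      obtain ⟨i, hi⟩ := Subgroup.mem_zpowers_iff.mp (hx ⟨_, hconj x⟩)
      have h1 := hbig x (key x x.2 (Subgroup.mem_zpowers_iff.mpr ⟨i, congrArg Subtype.val hi⟩))
      rw [orderOf_eq_card_of_forall_mem_zpowers hx] at h1
      have := Nat.le_of_dvd Nat.card_pos h8
      omega
    · have hcard : Nat.card R = 4 * 2 ^ n := by
        rw [Nat.card_congr f.toEquiv, Nat.card_eq_fintype_card, QuaternionGroup.card]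
      rcases Nat.lt_trichotomy n 1 with hn | hn | hn
      · exfalso
        rw [Nat.lt_one_iff.mp hn, pow_zero, mul_one] at hcard
        have := Nat.le_of_dvd Nat.card_pos h8
        omega
      · subst hn; exact ⟨f, trivial⟩
      · exfalso
        set x := f.symm (QuaternionGroup.a 1) with hxdef
        have hox : orderOf x = 2 * 2 ^ n := by rw [hxdef, MulEquiv.orderOf_eq, QuaternionGroup.orderOf_a_one]
        have h2n : 4 ≤ 2 ^ n := le_trans (by norm_num) (Nat.pow_le_pow_right (show 1 ≤ 2 by norm_num) hn)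
        set y : R := ⟨_, hconj x⟩
        have hoy : orderOf y = 2 * 2 ^ n := by
          rw [← hox, ← Subgroup.orderOf_coe x, ← Subgroup.orderOf_coe y]
          exact MulEquiv.orderOf_eq (MulAut.conj a) (x : SL(2, F))
        haveI : NeZero (2 ^ n) := ⟨by positivity⟩
        have hymem : y ∈ Subgroup.zpowers x := by
          cases hfy : f y with
          | a i =>
            rw [Subgroup.mem_zpowers_iff]
            refine ⟨(i.val : ℤ), f.injective ?_⟩
            rw [zpow_natCast, map_pow, hxdef, f.apply_symm_apply, QuaternionGroup.a_one_pow, hfy, ZMod.natCast_zmod_val]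
          | xa i =>
            exfalso
            have := MulEquiv.orderOf_eq f y
            rw [hfy, QuaternionGroup.orderOf_xa, hoy] at this
            omega
        obtain ⟨i, hi⟩ := Subgroup.mem_zpowers_iff.mp hymem
        have h1 := hbig x (key x x.2 (Subgroup.mem_zpowers_iff.mpr ⟨i, congrArg Subtype.val hi⟩))
        omega
  obtain ⟨f, -⟩ := hquat
  have hR8 : Nat.card R = 8 := by rw [Nat.card_congr f.toEquiv, Nat.card_eq_fintype_card, QuaternionGroup.card]
  have hKeq : K = H := Subgroup.eq_of_le_of_card_ge hKH (by rw [hHcard, hK24, hR8])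
  exact ⟨rfl, ⟨f⟩, ⟨(MulEquiv.subgroupCongr hKeq.symm).trans e⟩⟩

end


/-- Let F be a finite field of odd characteristic p and let a be a p-element of SL₂(F) normalizing a subgroup R of order prime to p with [R, a] ≠ 1. Then p = 3, R is a quaternion group of order 8, and R⟨a⟩ is isomorphic to SL₂(3). -/
theorem result (F : Type) [Field F] [Fintype F] {p : ℕ} [Fact p.Prime] [CharP F p] (hp : p ≠ 2) (a : Matrix.SpecialLinearGroup (Fin 2) F) (ha : IsPGroup p ↥(Subgroup.zpowers a)) (R : Subgroup (Matrix.SpecialLinearGroup (Fin 2) F)) (hR : (Nat.card R).Coprime p) (haR : a ∈ Subgroup.normalizer (R : Set (Matrix.SpecialLinearGroup (Fin 2) F))) (hnt : ⁅R, Subgroup.zpowers a⁆ ≠ ⊥) : p = 3 ∧ Nonempty (↥R ≃* QuaternionGroup 2) ∧ Nonempty (↥(R ⊔ Subgroup.zpowers a) ≃* Matrix.SpecialLinearGroup (Fin 2) (ZMod 3)) := by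
  exact main hp a ha R hR haR hnt

end Cfsg.Agent.S3740
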