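import Cfsg.Statements.S3741
import Mathlib
import Cfsg.Agent.Lib.PGroups.Basic

set_option autoImplicit false
open Cfsg Cfsg.Agent.PGroups.Basic
open scoped commutatorElement

namespace Cfsg.Agent.S3741

/-- Let A and B be subgroups of a finite p-group with [A, B] ≤ A ∩ B and [A, B] of order at most p. Then |A : C_A(B)| = |B : C_B(A)|. -/
theorem result {G : Type*} [Group G] [Finite G] {p : ℕ} [Fact p.Prime] (hG : IsPGroup p G) (A B : Subgroup G) (hAB : ⁅A, B⁆ ≤ A ⊓ B) (hcard : Nat.card ↥⁅A, B⁆ ≤ p) : (A ⊓ Subgroup.centralizer (B : Set G)).relIndex A = (B ⊓ Subgroup.centralizer (A : Set G)).relIndex B := by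
  classical
  set Z := ⁅A, B⁆
  have hnA : A ≤ Subgroup.normalizer (Z : Set G) := Subgroup.normalizer_commutator_ge_left A B
  have hnB : B ≤ Subgroup.normalizer (Z : Set G) := Subgroup.normalizer_commutator_ge_right A B
  have hcent : ∀ g ∈ Subgroup.normalizer (Z : Set G), ∀ z ∈ Z, g * z * g⁻¹ = z := by
    intro g hg z hz
    have hp : p.Prime := Fact.out
    -- the cyclic p-group generated by `g` acts on the group `Z` of order at most `p`
    let P := Subgroup.zpowers g
    have hP : ∀ x : P, (x : G) ∈ Subgroup.normalizer (Z : Set G) := fun x =>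
      (Subgroup.zpowers_le.mpr hg) x.2
    let act : MulAction P Z :=
      { smul := fun x z => ⟨x * z * (x : G)⁻¹, (Subgroup.mem_normalizer_iff.mp (hP x) _).mp z.2⟩
        one_smul := fun z => Subtype.ext (by show (1 : G) * z * 1⁻¹ = z; group)
        mul_smul := fun x y z => Subtype.ext (by
          show ((x : G) * y) * z * ((x : G) * y)⁻¹ = x * (y * z * (y : G)⁻¹) * (x : G)⁻¹; group) }
    have h1 : (1 : Z) ∈ MulAction.fixedPoints P Z := fun x => Subtype.ext (by
      show (x : G) * (1 : G) * (x : G)⁻¹ = 1; group)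
    have hall : ∀ z : Z, z ∈ MulAction.fixedPoints P Z := by
      by_contra hne
      push_neg at hne
      obtain ⟨z0, hz0⟩ := hne
      have hmod := (hG.to_subgroup P).card_modEq_card_fixedPoints (α := Z)
      have hlt : Nat.card (MulAction.fixedPoints P Z) < Nat.card Z := by
        refine lt_of_le_of_ne (Nat.card_le_card_of_injective _ Subtype.val_injective) fun e => hz0 ?_
        have := (Set.toFinite (MulAction.fixedPoints P Z))
        have h2 : MulAction.fixedPoints P Z = Set.univ :=
          Set.eq_univ_of_univ_subset (by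
            intro x _
            by_contra hx
            have : Nat.card (MulAction.fixedPoints P Z) < Nat.card Z :=
              Finite.card_subtype_lt (p := fun y => y ∈ MulAction.fixedPoints P Z) hx
            omega)
        rw [h2]; trivial
      haveI : Nonempty (MulAction.fixedPoints P Z) := ⟨⟨1, h1⟩⟩
      have hpos : 0 < Nat.card (MulAction.fixedPoints P Z) := Nat.card_pos
      rcases (hG.to_subgroup Z).card_eq_or_dvd with h | h
      · omega
      · have heq : Nat.card Z = p := le_antisymm hcard (Nat.le_of_dvd Nat.card_pos h)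
        rw [heq] at hmod hlt
        have h0 : Nat.card (MulAction.fixedPoints P Z) % p = 0 := by
          rw [← hmod, Nat.mod_self]
        rw [Nat.mod_eq_of_lt hlt] at h0
        omega
    exact congrArg Subtype.val (hall ⟨z, hz⟩ ⟨g, Subgroup.mem_zpowers g⟩)
  have half : ∀ A B : Subgroup G, Z = ⁅A, B⁆ → A ≤ Subgroup.normalizer (Z : Set G) → B ≤ Subgroup.normalizer (Z : Set G) →
      ⁅A, B⁆ ≤ A ⊓ B → (A ⊓ Subgroup.centralizer (B : Set G)).relIndex A ≤ (B ⊓ Subgroup.centralizer (A : Set G)).relIndex B := by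
    intro A B hZ hA hB hle
    have hmem : ∀ a ∈ A, ∀ b ∈ B, ⁅a, b⁆ ∈ Z := fun a ha b hb => hZ ▸ Subgroup.commutator_mem_commutator ha hb
    set D := (B ⊓ Subgroup.centralizer (A : Set G)).subgroupOf B with hD
    have hDn : D.Normal := ⟨fun d hd b => by
      have hd' : (d : G) ∈ Subgroup.centralizer (A : Set G) := (Subgroup.mem_subgroupOf.mp hd).2
      refine Subgroup.mem_subgroupOf.mpr ⟨(b * d * b⁻¹).2, Subgroup.mem_centralizer_iff.mpr fun a ha => ?_⟩
      have hbn : (b : G)⁻¹ * a * b ∈ A := by
        have h1 : ⁅(b : G)⁻¹, a⁆ ∈ A := by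
          have := hle (Subgroup.commutator_mem_commutator ha (inv_mem b.2))
          rw [← commutatorElement_inv]; exact inv_mem this.1
        have := mul_mem h1 ha
        rw [commutatorElement_def] at this
        simpa [mul_assoc] using this
      have := Subgroup.mem_centralizer_iff.mp hd' _ hbn
      simp only [Subgroup.coe_mul, Subgroup.coe_inv]
      calc a * ((b : G) * d * (b : G)⁻¹) = b * ((b : G)⁻¹ * a * b * d) * (b : G)⁻¹ := by group
        _ = b * (d * ((b : G)⁻¹ * a * b)) * (b : G)⁻¹ := by rw [this]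
        _ = b * d * (b : G)⁻¹ * a := by group⟩
    let φ : A → (↥B ⧸ D →* Z) := fun a => QuotientGroup.lift D
      { toFun := fun b => ⟨⁅(a : G), b⁆, hmem a a.2 b b.2⟩
        map_one' := Subtype.ext (commutatorElement_one_right _)
        map_mul' := fun x y => Subtype.ext (by
          show ⁅(a : G), (x : G) * y⁆ = ⁅(a : G), (x : G)⁆ * ⁅(a : G), (y : G)⁆
          have := hcent x (hB x.2) _ (hmem a a.2 y y.2)
          simp only [commutatorElement_def] at this ⊢
          calc (a : G) * (x * y) * (a : G)⁻¹ * ((x : G) * y)⁻¹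
              = a * x * (a : G)⁻¹ * (x : G)⁻¹ * (x * (a * y * (a : G)⁻¹ * (y : G)⁻¹) * (x : G)⁻¹) := by group
            _ = a * x * (a : G)⁻¹ * (x : G)⁻¹ * (a * y * (a : G)⁻¹ * (y : G)⁻¹) := by rw [this]) }
      (fun d hd => Subtype.ext (by
        show ⁅(a : G), (d : G)⁆ = 1
        exact commutatorElement_eq_one_iff_mul_comm.mpr (Subgroup.mem_centralizer_iff.mp (Subgroup.mem_subgroupOf.mp hd).2 a a.2)))
    set C := (A ⊓ Subgroup.centralizer (B : Set G)).subgroupOf A
    have hφ : ∀ a a' : A, φ a = φ a' → a⁻¹ * a' ∈ C := by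
      intro a a' h
      refine Subgroup.mem_subgroupOf.mpr ⟨(a⁻¹ * a').2, Subgroup.mem_centralizer_iff.mpr fun b hb => ?_⟩
      have h1 : ⁅(a : G), b⁆ = ⁅(a' : G), b⁆ := congrArg (Subtype.val (p := fun x => x ∈ Z)) (DFunLike.congr_fun h ((⟨b, hb⟩ : B) : ↥B ⧸ D))
      simp only [commutatorElement_def] at h1
      have h2 : (a : G) * b * (a : G)⁻¹ = a' * b * (a' : G)⁻¹ := mul_right_cancel h1
      simp only [Subgroup.coe_mul, Subgroup.coe_inv]
      calc b * ((a : G)⁻¹ * a') = (a : G)⁻¹ * ((a : G) * b * (a : G)⁻¹) * a' := by group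
        _ = (a : G)⁻¹ * a' * b := by rw [h2]; group
    haveI : Finite (↥B ⧸ D →* Z) := Finite.of_injective _ DFunLike.coe_injective
    calc C.index = Nat.card (↥A ⧸ C) := Subgroup.index_eq_card C
      _ ≤ Nat.card (↥B ⧸ D →* Z) := Nat.card_le_card_of_injective (fun q => φ q.out) (fun q q' h => by
          rw [← Quotient.out_eq q, ← Quotient.out_eq q']
          exact QuotientGroup.eq.mpr (hφ _ _ h))
      _ ≤ Nat.card (↥B ⧸ D) := card_hom_le ((hG.to_subgroup B).to_quotient D) hcard
      _ = D.index := (Subgroup.index_eq_card D).symm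
  exact le_antisymm (half A B rfl hnA hnB hAB)
    (half B A (Subgroup.commutator_comm A B) hnB hnA (by rw [Subgroup.commutator_comm, inf_comm]; exact hAB))

end Cfsg.Agent.S3741
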