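import Cfsg.Statements.S3743
import Mathlib
import Cfsg.Agent.Lib.Components.Fitting
import Cfsg.Agent.Lib.Cores.Basic

set_option autoImplicit false
open Cfsg
open scoped commutatorElement

namespace Cfsg.Agent.S3743

/-- In a finite group G, every subnormal nilpotent subgroup lies in the Fitting subgroup F(G), and, for a set of primes π, every subnormal subgroup all of whose prime divisors lie in π lies in O_π(G). -/
theorem result {G : Type*} [Group G] [Finite G] (A : Subgroup G) (hA : A.IsSubnormal) : (Group.IsNilpotent A → A ≤ Cfsg.fittingSubgroup G) ∧ ∀ π : Set ℕ, (∀ p : ℕ, p.Prime → p ∣ Nat.card A → p ∈ π) → A ≤ Cfsg.piCore π G := by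
  refine ⟨fun h => Cfsg.Agent.Components.Fitting.le_fitting_of_isSubnormal hA h, ?_⟩
  intro π hπ
  have key : ∀ H : Subgroup G, H.IsSubnormal → (Cfsg.piCore π ↥H).map H.subtype ≤ Cfsg.piCore π G := by
    intro H hH
    induction hH with
    | top => exact Cfsg.Agent.Cores.map_piCore_subtype_le π (⊤ : Subgroup G)
    | step H H' hle hH' hn ih =>
      refine le_trans ?_ ih
      have := hn
      have h3 := Subgroup.map_mono (f := H'.subtype) (Cfsg.Agent.Cores.map_piCore_subtype_le π (H.subgroupOf H'))
      rw [← Cfsg.Agent.Cores.map_piCore_eq (Subgroup.subgroupOfEquivOfLe hle) π, Subgroup.map_map]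
      rw [Subgroup.map_map] at h3
      exact h3
  intro a ha
  refine key A hA ⟨⟨a, ha⟩, Cfsg.Agent.Cores.le_piCore (N := (⊤ : Subgroup A)) ?_ trivial, rfl⟩
  intro p hp hd
  rw [Subgroup.card_top] at hd
  exact hπ p hp hd

end Cfsg.Agent.S3743
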