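import Cfsg.Statements.S3744
import Mathlib
import Cfsg.Agent.GenA.PComplement

set_option autoImplicit false
open Cfsg
open scoped commutatorElement Pointwise

namespace Cfsg.Agent.S3744

/-- A finite p-soluble group has a p-complement, all its p-complements are conjugate, and every subgroup of order prime to p lies in one of them. Here a p-complement is a subgroup of order prime to p whose index is a power of p. -/
theorem result {G : Type*} [Group G] [Finite G] {p : ℕ} [Fact p.Prime] (hG : Cfsg.IsPSolvable p G) : (∃ H : Subgroup G, (Nat.card H).Coprime p ∧ ∃ n : ℕ, H.index = p ^ n) ∧ (∀ H₁ H₂ : Subgroup G, (Nat.card H₁).Coprime p → (∃ n : ℕ, H₁.index = p ^ n) → (Nat.card H₂).Coprime p → (∃ n : ℕ, H₂.index = p ^ n) → ∃ g : G, H₂ = H₁.map (MulAut.conj g).toMonoidHom) ∧ (∀ U : Subgroup G, (Nat.card U).Coprime p → ∃ H : Subgroup G, (Nat.card H).Coprime p ∧ (∃ n : ℕ, H.index = p ^ n) ∧ ∃ g : G, U.map (MulAut.conj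 g).toMonoidHom ≤ H) := by
  have hp : p.Prime := Fact.out
  obtain ⟨K, hK, hdom⟩ := Cfsg.Agent.GenA.PComplement.exists_pComplement_dominating hp G hG
  have hKc : (Nat.card K).Coprime p := (hp.coprime_iff_not_dvd.mpr fun hd => hK.1 p hp hd rfl).symm
  have hKi : ∃ n : ℕ, K.index = p ^ n := ⟨_, Nat.eq_prime_pow_of_unique_prime_dvd Subgroup.index_ne_zero_of_finite
    (fun {q} hq hd => by by_contra hne; exact hK.2 q hq hne hd)⟩
  refine ⟨⟨K, hKc, hKi⟩, ?_, fun U hU => ?_⟩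
  · intro H₁ H₂ h₁ ⟨n₁, e₁⟩ h₂ ⟨n₂, e₂⟩
    have hc : ∀ (H : Subgroup G) (n : ℕ), (Nat.card H).Coprime p → H.index = p ^ n → ∃ g : G, MulAut.conj g • K = H := by
      intro H n h e
      have hH : Cfsg.IsPiHall {q : ℕ | q ≠ p} H := ⟨fun q hq hd e' => hp.coprime_iff_not_dvd.mp h.symm (e' ▸ hd),
        fun q hq hne hd => hne ((Nat.prime_dvd_prime_iff_eq hq hp).mp (hq.dvd_of_dvd_pow (e ▸ hd)))⟩
      obtain ⟨g, hg⟩ := hdom H hH.1
      exact ⟨g, (Cfsg.Agent.Hall.isPiHall_eq_of_le hH (Cfsg.Agent.Hall.isPi_conj_smul hK.1 g) hg : _ = _).symm⟩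
    obtain ⟨a, ha⟩ := hc H₁ n₁ h₁ e₁
    obtain ⟨b, hb⟩ := hc H₂ n₂ h₂ e₂
    refine ⟨b * a⁻¹, ?_⟩
    show H₂ = MulAut.conj (b * a⁻¹) • H₁
    rw [← ha, ← hb, Cfsg.Agent.Coprime.conj_smul_mul, Cfsg.Agent.Coprime.conj_inv_smul_smul]
  · obtain ⟨g, hg⟩ := hdom U (fun q hq hd e => hp.coprime_iff_not_dvd.mp hU.symm (e ▸ hd))
    refine ⟨K, hKc, hKi, g⁻¹, ?_⟩
    show MulAut.conj g⁻¹ • U ≤ K
    have := (Subgroup.pointwise_smul_le_pointwise_smul_iff (a := MulAut.conj g⁻¹)).mpr hg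
    rwa [Cfsg.Agent.Coprime.conj_inv_smul_smul] at this

end Cfsg.Agent.S3744
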