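import Cfsg.Statements.S3746
import Mathlib
import Cfsg.Agent.Lib.Components.Basic

set_option autoImplicit false
open Cfsg
open scoped commutatorElement

namespace Cfsg.Agent.S3746

/-- Let Z ≤ Z(G) be a central subgroup of a finite group G and E a subgroup of G containing Z whose image E/Z is a component of G/Z (subnormal and quasisimple). Then the derived subgroup [E, E] is a component of G. -/
theorem result {G : Type*} [Group G] [Finite G] (Z : Subgroup G) (hZ : Z ≤ Subgroup.center G) [Z.Normal] (E : Subgroup G) (hZE : Z ≤ E) (hE : Cfsg.IsComponent (E.map (QuotientGroup.mk' Z))) : Cfsg.IsComponent ⁅E, E⁆ := by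
  classical
  set q := QuotientGroup.mk' Z
  set Eb := E.map q with hEb
  set D := ⁅E, E⁆ with hDdef
  have hcomap : Eb.comap q = E := by rw [hEb, Subgroup.comap_map_eq, QuotientGroup.ker_mk', sup_eq_left]; exact hZE
  have hEsn : E.IsSubnormal := by rw [← hcomap]; exact hE.1.comap q
  have hDE : D ≤ E := Subgroup.commutator_le_self E
  have hDsn : D.IsSubnormal :=
    Subgroup.IsSubnormal.trans hDE (Subgroup.normal_subgroupOf_of_le_normalizer
      (Subgroup.normalizer_commutator_ge_left _ _)).isSubnormal hEsn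
  have hperfb : ⁅Eb, Eb⁆ = Eb := Cfsg.Agent.Components.Basic.component_commutator_self hE
  have hDq : D.map q = Eb := by rw [hDdef, Subgroup.map_commutator, hperfb]
  have hmod : ∀ N : Subgroup G, N.map q = Eb → ∀ x ∈ E, ∃ n ∈ N, ∃ z ∈ Z, x = n * z := by
    intro N hN x hx
    obtain ⟨n, hn, hne⟩ := (hN.symm ▸ Subgroup.mem_map_of_mem q hx : q x ∈ N.map q)
    exact ⟨n, hn, n⁻¹ * x, QuotientGroup.eq.mp hne, by group⟩
  -- commutators only depend on cosets of `Z`
  have hker : ∀ N : Subgroup G, N.map q = Eb → D ≤ ⁅N, N⁆ := by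
    intro N hN
    refine Subgroup.commutator_le.mpr fun x hx y hy => ?_
    obtain ⟨n, hn, z, hz, rfl⟩ := hmod N hN x hx
    obtain ⟨m, hm, w, hw, rfl⟩ := hmod N hN y hy
    rw [Cfsg.Agent.Components.Basic.commutatorElement_mul_center_left n _ (hZ hz),
      Cfsg.Agent.Components.Basic.commutatorElement_mul_center_right n m (hZ hw)]
    exact Subgroup.commutator_mem_commutator hn hm
  have hperf : ⁅D, D⁆ = D := le_antisymm (Subgroup.commutator_le_self D) (hker D hDq)
  have hne : Nontrivial ↥D := (Subgroup.nontrivial_iff_ne_bot D).mpr fun h => by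
    rw [h, Subgroup.map_bot] at hDq
    exact Cfsg.Agent.Components.Basic.component_ne_bot hE hDq.symm
  refine ⟨hDsn, Cfsg.Agent.Components.Basic.isQuasisimple_of_normal (Subgroup.isPerfect_iff.mpr hperf) hne fun N hN => ?_⟩
  set Ng := N.map D.subtype with hNg
  have hNgD : Ng ≤ D := Subgroup.map_subtype_le N
  have hNq : Ng.map q ≤ Eb := hDq ▸ Subgroup.map_mono hNgD
  have hnorm : ((Ng.map q).subgroupOf Eb).Normal := by
    refine Subgroup.normal_subgroupOf_of_le_normalizer ?_
    rw [← hDq]
    refine le_trans (Subgroup.map_mono ?_) (Subgroup.le_normalizer_map q)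
    intro d hd
    refine Subgroup.mem_normalizer_fintype ?_
    rintro _ ⟨v, hv, rfl⟩
    exact ⟨_, hN.conj_mem v hv ⟨d, hd⟩, rfl⟩
  rcases Cfsg.Agent.Components.Basic.quasisimple_eq_top_or_le_center_of_normal hE.2 ((Ng.map q).subgroupOf Eb) with h | h
  · left
    have heq : Ng.map q = Eb := le_antisymm hNq (Subgroup.subgroupOf_eq_top.mp h)
    have h2 : D ≤ Ng := (hker Ng heq).trans (Subgroup.commutator_le_self Ng)
    exact eq_top_iff.mpr fun x _ => by
      obtain ⟨v, hv, hvx⟩ := h2 x.2
      exact (Subtype.ext hvx : v = x) ▸ hv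
  · right
    have h1 : ⁅Ng, D⁆ ≤ Z := by
      refine Subgroup.commutator_le.mpr fun n hn d hd => ?_
      rw [← QuotientGroup.eq_one_iff]
      show q ⁅n, d⁆ = 1
      rw [map_commutatorElement, commutatorElement_eq_one_iff_commute]
      have hnc := h (show (⟨q n, hNq (Subgroup.mem_map_of_mem q hn)⟩ : ↥Eb) ∈ (Ng.map q).subgroupOf Eb from Subgroup.mem_map_of_mem q hn)
      exact (congrArg Subtype.val (Subgroup.mem_center_iff.mp hnc ⟨q d, hDq ▸ Subgroup.mem_map_of_mem q hd⟩)).symm
    have h2 : ⁅D, Ng⁆ = ⊥ := by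
      refine Cfsg.Agent.Components.Basic.commutator_eq_bot_of_perfect hperf ?_
      rw [Subgroup.commutator_eq_bot_iff_le_centralizer, Subgroup.commutator_comm D Ng]
      exact h1.trans (hZ.trans (Subgroup.center_le_centralizer _))
    intro x hx
    refine Subgroup.mem_center_iff.mpr fun d => Subtype.ext ?_
    exact Subgroup.mem_centralizer_iff.mp ((Subgroup.commutator_eq_bot_iff_le_centralizer.mp
      ((Subgroup.commutator_comm Ng D).trans h2)) (Subgroup.mem_map_of_mem _ hx)) _ d.2

end Cfsg.Agent.S3746
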