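import Cfsg.Statements.S3747
import Mathlib
import Cfsg.Agent.Lib.Components.Fitting
import Cfsg.Agent.Lib.Components.Layer

set_option autoImplicit false
open Cfsg
open scoped commutatorElement

namespace Cfsg.Agent.S3747
open Cfsg.Agent.Components.Basic in
/-- an element of a join of components with trivial centres centralising them all is trivial -/
theorem eq_one_of_centralizes {G : Type*} [Group G] [Finite G] (s : Finset (Subgroup G))
    (hs : ∀ L ∈ s, Cfsg.IsComponent L ∧ L ⊓ Subgroup.centralizer (L : Set G) = ⊥) {x : G}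
    (hx : x ∈ ⨆ L ∈ s, L) (hc : ∀ L ∈ s, x ∈ Subgroup.centralizer (L : Set G)) : x = 1 := by
  classical
  induction s using Finset.induction_on generalizing x with
  | empty =>
    simp only [Finset.notMem_empty, not_false_eq_true, iSup_neg, iSup_bot, Subgroup.mem_bot] at hx
    exact hx
  | @insert L s hLs ih =>
    rw [Finset.iSup_insert] at hx
    set R := ⨆ K ∈ s, K with hR
    have hR : R ≤ Subgroup.centralizer (L : Set G) := by
      refine iSup₂_le fun K hK => Subgroup.commutator_eq_bot_iff_le_centralizer.mp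
        (component_commutator_eq_bot_of_ne (hs K (Finset.mem_insert_of_mem hK)).1 (hs L (Finset.mem_insert_self _ _)).1 ?_)
      intro h
      exact hLs (h ▸ hK)
    rw [sup_comm, ← SetLike.mem_coe,
      Subgroup.coe_mul_of_left_le_normalizer_right R L (hR.trans (Subgroup.centralizer_le_normalizer _))] at hx
    obtain ⟨r, hr, l, hl, rfl⟩ := hx
    have hl' : l ∈ L ⊓ Subgroup.centralizer (L : Set G) := by
      have := (Subgroup.centralizer (L : Set G)).mul_mem
        ((Subgroup.centralizer (L : Set G)).inv_mem (hR hr)) (hc L (Finset.mem_insert_self _ _))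
      exact ⟨hl, by simpa using this⟩
    rw [(hs L (Finset.mem_insert_self _ _)).2, Subgroup.mem_bot] at hl'
    subst hl'
    simp only [mul_one] at hc ⊢
    exact ih (fun K hK => hs K (Finset.mem_insert_of_mem hK)) hr fun K hK => hc K (Finset.mem_insert_of_mem hK)

theorem inf_centralizer_eq_bot_of_center {G : Type*} [Group G] {K : Subgroup G} (h : Subgroup.center ↥K = ⊥) :
    K ⊓ Subgroup.centralizer (K : Set G) = ⊥ := by
  rw [← Cfsg.Agent.Components.Layer.map_center_subtype, h, Subgroup.map_bot]

theorem center_eq_bot_of_fitting {G : Type*} [Group G] [Finite G] (hF : Cfsg.fittingSubgroup G = ⊥) {K : Subgroup G}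
    (hK : Cfsg.IsComponent K) : Subgroup.center ↥K = ⊥ := by
  have hsn : ((Subgroup.center ↥K).map K.subtype).IsSubnormal :=
    ((inferInstance : (Subgroup.center ↥K).Normal).isSubnormal).trans' hK.1
  have := Cfsg.Agent.Components.Fitting.le_fitting_of_isSubnormal hsn
    (by haveI := Cfsg.Agent.Components.Fitting.isNilpotent_of_isMulCommutative ↥(Subgroup.center ↥K); exact Group.nilpotent_of_mulEquiv (Subgroup.equivMapOfInjective (Subgroup.center ↥K) _ K.subtype_injective))
  rw [hF, le_bot_iff, Subgroup.map_eq_bot_iff_of_injective _ K.subtype_injective] at this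
  exact this

open Cfsg.Agent.Components.Basic in
theorem minimal_normalClosure {G : Type*} [Group G] [Finite G] {K : Subgroup G} (hK : Cfsg.IsComponent K)
    (hZ : Subgroup.center ↥K = ⊥) :
    Subgroup.normalClosure (K : Set G) ≠ ⊥ ∧ ∀ N : Subgroup G, N.Normal → N ≤ Subgroup.normalClosure (K : Set G) →
      N = ⊥ ∨ N = Subgroup.normalClosure (K : Set G) := by
  classical
  refine ⟨fun h => component_ne_bot hK (le_bot_iff.mp (h ▸ Subgroup.le_normalClosure)), fun N hN hle => ?_⟩
  haveI := hN
  by_cases hKN : K ≤ N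
  · exact Or.inr (le_antisymm hle (Subgroup.normalClosure_le_normal hKN))
  refine Or.inl (eq_bot_iff.mpr fun x hx => ?_)
  haveI := Fintype.ofFinite G
  set s : Finset (Subgroup G) := Finset.univ.image fun g : G => K.map (MulAut.conj g).toMonoidHom
  have hmem : ∀ g : G, K.map (MulAut.conj g).toMonoidHom ∈ s := fun g => Finset.mem_image_of_mem _ (Finset.mem_univ g)
  rw [Subgroup.mem_bot]
  refine eq_one_of_centralizes s ?_ ?_ ?_
  · intro L hL
    obtain ⟨g, -, rfl⟩ := Finset.mem_image.mp hL
    refine ⟨component_conj hK g, eq_bot_iff.mpr ?_⟩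
    rintro _ ⟨⟨k, hk, rfl⟩, hc⟩
    have hkK : k ∈ K ⊓ Subgroup.centralizer (K : Set G) := ⟨hk, Subgroup.mem_centralizer_iff.mpr fun y hy => by
      apply (MulAut.conj g).injective
      rw [map_mul, map_mul]
      exact Subgroup.mem_centralizer_iff.mp hc _ ⟨y, hy, rfl⟩⟩
    rw [inf_centralizer_eq_bot_of_center hZ, Subgroup.mem_bot] at hkK
    simp [hkK]
  · have hsup : Subgroup.normalClosure (K : Set G) ≤ ⨆ L ∈ s, L := by
      refine (Subgroup.closure_le _).mpr fun y hy => ?_
      obtain ⟨k, hk, hc⟩ := Group.mem_conjugatesOfSet_iff.mp hy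
      obtain ⟨g, rfl⟩ := isConj_iff.mp hc
      exact le_iSup₂_of_le (f := fun L (_ : L ∈ s) => L) _ (hmem g) le_rfl ⟨k, hk, rfl⟩
    exact hsup (hle hx)
  · intro L hL
    obtain ⟨g, -, rfl⟩ := Finset.mem_image.mp hL
    rcases component_le_or_commutator_eq_bot (component_conj hK g) hN.isSubnormal with h | h
    · refine absurd (fun k hk => ?_) hKN
      have := hN.conj_mem _ (h ⟨k, hk, rfl⟩) g⁻¹
      simpa [MulAut.conj, mul_assoc] using this
    · rw [Subgroup.commutator_comm] at h
      exact Subgroup.commutator_eq_bot_iff_le_centralizer.mp h hx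


/-- Let G be a finite group. (a) If K is a component of G with trivial centre, then the normal closure of K in G is a minimal normal subgroup of G. (b) If the Fitting subgroup of G is trivial, then the layer E(G) is generated by the minimal normal subgroups of G. -/
theorem result {G : Type*} [Group G] [Finite G] : (∀ K : Subgroup G, Cfsg.IsComponent K → Subgroup.center ↥K = ⊥ → (Subgroup.normalClosure (K : Set G) ≠ ⊥ ∧ ∀ N : Subgroup G, N.Normal → N ≤ Subgroup.normalClosure (K : Set G) → N = ⊥ ∨ N = Subgroup.normalClosure (K : Set G))) ∧ (Cfsg.fittingSubgroup G = ⊥ → sSup {N : Subgroup G | N ≠ ⊥ ∧ N.Normal ∧ ∀ N' : Subgroup G, N'.Normal → N' ≤ N → N' = ⊥ ∨ N' = N} = Cfsg.layer G) := by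
  refine ⟨fun K hK hZ => minimal_normalClosure hK hZ, fun hF => le_antisymm (sSup_le ?_) ?_⟩
  · rintro N ⟨hne, hN, hmin⟩
    haveI := hN
    rcases hmin (N ⊓ Cfsg.layer G) inferInstance inf_le_left with h | h
    · have hc : ⁅N, Cfsg.layer G⁆ = ⊥ := le_bot_iff.mp ((le_inf (Subgroup.commutator_le_left _ _) (Subgroup.commutator_le_right _ _)).trans h.le)
      have hgen : Cfsg.generalizedFittingSubgroup G = Cfsg.layer G := by
        show Cfsg.layer G ⊔ Cfsg.fittingSubgroup G = _
        rw [hF, sup_bot_eq]
      have h1 := Cfsg.Agent.Components.Fitting.centralizer_genFitting_le (G := G)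
      rw [hgen] at h1
      exact (Subgroup.commutator_eq_bot_iff_le_centralizer.mp hc).trans h1
    · exact h ▸ inf_le_right
  · refine Cfsg.Agent.Components.Basic.layer_le fun K hK => le_trans Subgroup.le_normalClosure (le_sSup ?_)
    exact ⟨(minimal_normalClosure hK (center_eq_bot_of_fitting hF hK)).1, inferInstance,
      (minimal_normalClosure hK (center_eq_bot_of_fitting hF hK)).2⟩

end Cfsg.Agent.S3747
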