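import Cfsg.Statements.S3749
import Mathlib
import Cfsg.Agent.Lib.Cores.Basic
import Cfsg.Agent.Lib.Cores.Subnormal
import Cfsg.Agent.Lib.Coprime.Sylow
import Cfsg.Agent.Lib.PLocal.CyclicExtension

set_option autoImplicit false
open Cfsg
open scoped commutatorElement Pointwise

namespace Cfsg.Agent.S3749

/-- Call a proper subgroup M of G primitive when M = N_G(N) for every non-trivial normal subgroup N of M. Let M be a primitive subgroup of the finite group G, p a prime with O_p(M) ≠ 1, and N a normal subgroup of G with M ∩ N = 1. Then p does not divide the order of N; for every prime q there is exactly one Sylow q-subgroup of N normalized by M; and if the order of N has at least two prime divisors then M is not a maximal subgroup of G. -/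
theorem result {G : Type*} [Group G] [Finite G] (M : Subgroup G) (hM : M ≠ ⊤) (hprim : ∀ N : Subgroup G, N ≤ M → M ≤ Subgroup.normalizer (N : Set G) → N ≠ ⊥ → Subgroup.normalizer (N : Set G) = M) {p : ℕ} [Fact p.Prime] (hOp : Cfsg.pCore p ↥M ≠ ⊥) (N : Subgroup G) [N.Normal] (hMN : M ⊓ N = ⊥) : ¬ p ∣ Nat.card N ∧ (∀ q : ℕ, [Fact q.Prime] → ∃! Q : Sylow q ↥N, M ≤ Subgroup.normalizer ((Q : Subgroup ↥N).map N.subtype : Set G)) ∧ ((∃ q r : ℕ, q.Prime ∧ r.Prime ∧ q ≠ r ∧ q ∣ Nat.card N ∧ r ∣ Nat.card N) → ¬ IsCoatom M) := by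
  classical
  have hp : p.Prime := Fact.out
  set P := (Cfsg.pCore p ↥M).map M.subtype with hPdef
  have hPM : P ≤ M := Subgroup.map_subtype_le _
  have hMP : M ≤ Subgroup.normalizer (P : Set G) := by
    haveI : (Cfsg.pCore p ↥M).Normal := Cfsg.Agent.Cores.pCore_normal p
    intro m hm
    rw [Subgroup.mem_normalizer_iff_map_conj_eq, hPdef, Subgroup.map_map]
    have := (Subgroup.characteristic_iff_map_eq.mp (inferInstance : (Cfsg.pCore p ↥M).Characteristic)) (MulAut.conj (⟨m, hm⟩ : M))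
    conv_rhs => rw [← this, Subgroup.map_map]
    rfl
  have hP1 : P ≠ ⊥ := fun h => hOp ((Subgroup.map_eq_bot_iff_of_injective _ M.subtype_injective).mp h)
  have hNP := hprim P hPM hMP hP1
  have hPp : IsPGroup p P := (Cfsg.Agent.Cores.pCore_isPGroup p).map _
  have hC : N ⊓ Subgroup.centralizer (P : Set G) = ⊥ := by
    refine le_bot_iff.mp (le_trans (le_inf ?_ inf_le_left) hMN.le)
    exact inf_le_right.trans ((Subgroup.centralizer_le_normalizer _).trans hNP.le)
  have hPN : P ≤ Subgroup.normalizer (N : Set G) := by rw [Subgroup.normalizer_eq_top]; exact le_top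
  have hndvd : ¬ p ∣ Nat.card N := by
    intro hdvd
    set H := P ⊔ N with hH
    obtain ⟨S, hS⟩ := ((hPp.of_equiv (Subgroup.subgroupOfEquivOfLe (le_sup_left : P ≤ H)).symm)).exists_le_sylow
    obtain ⟨S', hS'⟩ : ∃ S' : Sylow p (N.subgroupOf H), (S' : Subgroup (N.subgroupOf H)) = (S : Subgroup H).subgroupOf (N.subgroupOf H) :=
      ⟨IsPGroup.toSylow S.isPGroup'.comap_subtype (Cfsg.Agent.Cores.sylow_subgroupOf_isSubnormal S (Subgroup.Normal.isSubnormal inferInstance)), rfl⟩
    set T := (S : Subgroup H) ⊓ N.subgroupOf H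
    have hT : T ≠ ⊥ := by
      intro hbot
      have h1 : (S' : Subgroup (N.subgroupOf H)) = ⊥ := by
        rw [hS', Subgroup.subgroupOf_eq_bot, disjoint_iff]; exact hbot
      apply S'.not_dvd_index
      rw [h1, Subgroup.index_bot, Nat.card_congr (Subgroup.subgroupOfEquivOfLe (le_sup_right : N ≤ H)).toEquiv]
      exact hdvd
    haveI : Group.IsNilpotent (S : Subgroup H) := S.isPGroup'.isNilpotent
    haveI : (T.subgroupOf (S : Subgroup H)).Normal := by
      rw [Subgroup.inf_subgroupOf_left]; infer_instance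
    have hT' : T.subgroupOf (S : Subgroup H) ≠ ⊥ := fun h => hT (by
      rw [Subgroup.subgroupOf_eq_bot] at h
      exact h.eq_bot_of_le inf_le_left)
    obtain ⟨⟨⟨x, hxS⟩, hxT, hxc⟩, hx1⟩ := Subgroup.ne_bot_iff_exists_ne_one.mp (Cfsg.Agent.Solvable.Basics.inf_center_ne_bot hT')
    apply hx1
    have hmem : (x : G) ∈ N ⊓ Subgroup.centralizer (P : Set G) :=
      ⟨hxT.2, Subgroup.mem_centralizer_iff.mpr fun y hy =>
        congrArg Subtype.val (congrArg Subtype.val (Subgroup.mem_center_iff.mp hxc ⟨⟨y, Subgroup.mem_sup_left hy⟩, hS hy⟩))⟩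
    rw [hC, Subgroup.mem_bot] at hmem
    exact Subtype.ext (Subtype.ext (Subtype.ext hmem))
  have hcop : (Nat.card P).Coprime (Nat.card N) := by
    obtain ⟨k, hk⟩ := hPp.exists_card_eq
    rw [hk]; exact (hp.coprime_iff_not_dvd.mpr hndvd).pow_left k
  have hex : ∀ q : ℕ, [Fact q.Prime] → ∃! Q : Sylow q ↥N, M ≤ Subgroup.normalizer ((Q : Subgroup ↥N).map N.subtype : Set G) := by
    intro q _
    haveI : Group.IsNilpotent P := hPp.isNilpotent
    obtain ⟨Q, hQ⟩ := Cfsg.Agent.Coprime.exists_invariant_sylow q hPN hcop (Or.inl inferInstance)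
    have huniq : ∀ R : Sylow q ↥N, P ≤ Subgroup.normalizer ((R : Subgroup ↥N).map N.subtype : Set G) → R = Q := by
      intro R hR
      obtain ⟨c, hc, hcR⟩ := Cfsg.Agent.Coprime.exists_centralizer_conj_sylow hPN hcop (Or.inl inferInstance) Q R hQ hR
      have hc1 : (c : G) ∈ (⊥ : Subgroup G) := hC ▸ ⟨c.2, hc⟩
      rw [← hcR, show c = 1 from Subtype.ext (Subgroup.mem_bot.mp hc1), map_one, one_smul]
    refine ⟨Q, ?_, fun R hR => huniq R (hPM.trans hR)⟩
    intro m hm
    set Qg := (Q : Subgroup ↥N).map N.subtype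
    let e : N ≃* N := MulAut.conjNormal m
    have heq : (e • Q : Sylow q ↥N) = Q := by
      refine huniq _ fun a ha => ?_
      rw [Subgroup.mem_normalizer_iff_map_conj_eq]
      have h1 : ((e • Q : Sylow q ↥N) : Subgroup ↥N).map N.subtype = Qg.map (MulAut.conj m).toMonoidHom := by
        rw [Sylow.pointwise_smul_def, Subgroup.map_map]
        show ((Q : Subgroup N).map e.toMonoidHom).map N.subtype = _
        rw [Subgroup.map_map]; rfl
      rw [h1, Subgroup.map_map]
      have hb : m⁻¹ * a * m ∈ P := by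
        have := (Subgroup.mem_normalizer_iff.mp (inv_mem (hMP hm)) a).mp ha
        simpa using this
      conv_rhs => rw [← Subgroup.mem_normalizer_iff_map_conj_eq.mp (hQ hb), Subgroup.map_map]
      congr 1
      ext x
      show a * (m * x * m⁻¹) * a⁻¹ = m * (m⁻¹ * a * m * x * (m⁻¹ * a * m)⁻¹) * m⁻¹
      group
    rw [Subgroup.mem_normalizer_iff_map_conj_eq]
    conv_rhs => rw [show Qg = ((e • Q : Sylow q ↥N) : Subgroup ↥N).map N.subtype by rw [heq]]
    rw [Sylow.pointwise_smul_def]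
    show Qg.map (MulAut.conj m).toMonoidHom = ((Q : Subgroup N).map e.toMonoidHom).map N.subtype
    rw [Subgroup.map_map, Subgroup.map_map]; rfl
  refine ⟨hndvd, hex, ?_⟩
  rintro ⟨q, r, hq, hr, hqr, hqN, hrN⟩ hmax
  haveI : Fact q.Prime := ⟨hq⟩
  obtain ⟨Q, hQ, -⟩ := hex q
  set Qg := (Q : Subgroup ↥N).map N.subtype
  have hQne : ¬ Qg ≤ M := by
    intro hle
    have : Qg = ⊥ := le_bot_iff.mp (le_trans (le_inf hle (Subgroup.map_subtype_le _)) hMN.le)
    rw [Subgroup.map_eq_bot_iff_of_injective _ N.subtype_injective] at this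
    exact Q.not_dvd_index (by rw [this, Subgroup.index_bot]; exact hqN)
  have htop : M ⊔ Qg = ⊤ := hmax.2 _ (lt_of_le_of_ne le_sup_left fun h => hQne (h ▸ le_sup_right))
  have hNle : N ≤ Qg := by
    intro n hn
    have hn' : n ∈ M ⊔ Qg := htop ▸ Subgroup.mem_top n
    rw [← SetLike.mem_coe, Subgroup.coe_mul_of_left_le_normalizer_right M Qg hQ] at hn'
    obtain ⟨a, ha, b, hb, rfl⟩ := hn'
    have ha' : a ∈ M ⊓ N := ⟨ha, by simpa using N.mul_mem hn (N.inv_mem (Subgroup.map_subtype_le _ hb))⟩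
    rw [hMN, Subgroup.mem_bot] at ha'
    subst ha'
    simpa using hb
  obtain ⟨k, hk⟩ := (Q.isPGroup'.map N.subtype).exists_card_eq
  have := hrN.trans (hk ▸ Subgroup.card_dvd_of_le hNle)
  exact hqr.symm ((Nat.prime_dvd_prime_iff_eq hr hq).mp (hr.dvd_of_dvd_pow this))

end Cfsg.Agent.S3749
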