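import Cfsg.Statements.S3750
import Mathlib
import Cfsg.Agent.Lib.Components.Fitting

set_option autoImplicit false
open Cfsg
open scoped commutatorElement

namespace Cfsg.Agent.S3750

/-- Call a proper subgroup M of G primitive when M = N_G(N) for every non-trivial normal subgroup N of M. Let M be a primitive subgroup of the finite group G and N a normal subgroup of G with M ∩ F*(N) ≠ 1. Then F(G) = 1 and F*(N) = F*(G) = E(G); in particular every minimal normal subgroup of G is contained in N. -/
theorem result {G : Type*} [Group G] [Finite G] (M : Subgroup G) (hM : M ≠ ⊤) (hprim : ∀ N : Subgroup G, N ≤ M → M ≤ Subgroup.normalizer (N : Set G) → N ≠ ⊥ → Subgroup.normalizer (N : Set G) = M) (N : Subgroup G) [N.Normal] (hMF : M ⊓ (Cfsg.generalizedFittingSubgroup ↥N).map N.subtype ≠ ⊥) : Cfsg.fittingSubgroup G = ⊥ ∧ (Cfsg.generalizedFittingSubgroup ↥N).map N.subtype = Cfsg.generalizedFittingSubgroup G ∧ Cfsg.generalizedFittingSubgroup G = Cfsg.layer G ∧ ∀ K : Subgroup G, K.Normal → K ≠ ⊥ → (∀ K' : Subgroup G, K'.Normal → K' ≤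 K → K' = ⊥ ∨ K' = K) → K ≤ N := by
  classical
  set X := (Cfsg.generalizedFittingSubgroup ↥N).map N.subtype with hXdef
  have hX : Cfsg.generalizedFittingSubgroup G ⊓ N = X := Cfsg.Agent.Components.Fitting.genFitting_inf_eq_map N
  haveI hXn : X.Normal := hX ▸ inferInstance
  set C := Subgroup.centralizer (X : Set G) with hC
  haveI : C.Normal := inferInstance
  have hA := hprim (M ⊓ X) inf_le_left (by
    intro m hm
    rw [Subgroup.mem_normalizer_iff]
    intro x
    constructor
    · rintro ⟨h1, h2⟩; exact ⟨M.mul_mem (M.mul_mem hm h1) (M.inv_mem hm), hXn.conj_mem x h2 m⟩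
    · rintro ⟨h1, h2⟩
      refine ⟨?_, ?_⟩
      · have := M.mul_mem (M.mul_mem (M.inv_mem hm) h1) hm
        rwa [show m⁻¹ * (m * x * m⁻¹) * m = x by group] at this
      · have := hXn.conj_mem _ h2 m⁻¹
        rwa [show m⁻¹ * (m * x * m⁻¹) * m⁻¹⁻¹ = x by group] at this) hMF
  have hCbot : C = ⊥ := by
    by_contra hne
    have hCM : C ≤ M := hA ▸ (Subgroup.centralizer_le (s := ((M ⊓ X : Subgroup G) : Set G)) (fun x hx => hx.2)).trans
      (Subgroup.centralizer_le_normalizer _)
    have htop : Subgroup.normalizer (C : Set G) = ⊤ := Subgroup.normalizer_eq_top (H := C)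
    exact hM ((hprim C hCM (by rw [htop]; exact le_top) hne).symm.trans htop)
  have hF : Cfsg.fittingSubgroup G = ⊥ := by
    set F := Cfsg.fittingSubgroup G
    set Z := (Subgroup.center F).map F.subtype
    have hZ : Z ≤ C := by
      have hXeq := Cfsg.Agent.Components.Fitting.isSubnormal_le_genFitting_eq (S := X) (hX ▸ inf_le_left) hXn.isSubnormal
      rintro _ ⟨z, hz, rfl⟩
      have h1 : X ≤ Subgroup.centralizer ({(z : G)} : Set G) := by
        rw [← hXeq]
        refine sup_le ?_ ?_
        · refine le_trans ((Cfsg.Agent.Components.Fitting.map_layer_subtype_le hXn.isSubnormal).trans inf_le_left) fun x hx => ?_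
          exact Subgroup.mem_centralizer_singleton_iff.mpr
            (Subgroup.mem_centralizer_iff.mp (Cfsg.Agent.Components.Fitting.layer_le_centralizer_fitting hx) z z.2).symm
        · intro x hx
          exact Subgroup.mem_centralizer_singleton_iff.mpr (congrArg Subtype.val (Subgroup.mem_center_iff.mp hz ⟨x, hx.1⟩))
      exact Subgroup.mem_centralizer_iff.mpr fun x hx => (Subgroup.mem_centralizer_singleton_iff.mp (h1 hx))
    rw [hCbot, le_bot_iff, Subgroup.map_eq_bot_iff_of_injective _ F.subtype_injective] at hZ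
    by_contra hne
    haveI : Nontrivial F := (Subgroup.nontrivial_iff_ne_bot F).mpr hne
    exact Group.IsNilpotent.center_ne_bot (G := F) hZ
  have hEX : Cfsg.layer G ≤ X := Cfsg.Agent.Components.Basic.layer_le fun L hL => by
    rcases Cfsg.Agent.Components.Basic.component_le_or_commutator_eq_bot hL hXn.isSubnormal with h | h
    · exact h
    · rw [Subgroup.commutator_eq_bot_iff_le_centralizer] at h
      exact absurd (le_bot_iff.mp (hCbot ▸ h)) (Cfsg.Agent.Components.Basic.component_ne_bot hL)
  have hgen : Cfsg.generalizedFittingSubgroup G = Cfsg.layer G := by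
    rw [Cfsg.generalizedFittingSubgroup, hF, sup_bot_eq]
  refine ⟨hF, ?_, hgen, fun K hK hK1 hmin => ?_⟩
  · refine le_antisymm (hX ▸ inf_le_left) ?_
    rw [hgen]; exact hEX
  · haveI := hK
    rcases hmin (K ⊓ N) inferInstance inf_le_left with h | h
    · exfalso
      have hd : ⁅K, X⁆ = ⊥ := le_bot_iff.mp (h ▸ le_inf (Subgroup.commutator_le_left _ _)
        ((Subgroup.commutator_le_right _ _).trans (Subgroup.map_subtype_le _)))
      rw [Subgroup.commutator_eq_bot_iff_le_centralizer] at hd
      exact hK1 (le_bot_iff.mp (hCbot ▸ hd))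
    · exact inf_eq_left.mp h

end Cfsg.Agent.S3750
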