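import Cfsg.Statements.S3751
import Mathlib
import Cfsg.Agent.Lib.PLocal.Cores
import Cfsg.Agent.GenA.MinimalAction
import Cfsg.Agent.Lib.Transfer.Frobenius

set_option autoImplicit false
open Cfsg
open scoped commutatorElement

namespace Cfsg.Agent.S3751
open Cfsg.Agent.PLocal.Cores

section
variable {G : Type*} [Group G] [Finite G] (p : ℕ) [Fact p.Prime]

/-- Maximal `p`-local subgroup. -/
def MaxLoc (M : Subgroup G) : Prop :=
  (∃ T : Subgroup G, IsPGroup p T ∧ T ≠ ⊥ ∧ M = Subgroup.normalizer (T : Set G)) ∧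
  (∀ L : Subgroup G, (∃ T : Subgroup G, IsPGroup p T ∧ T ≠ ⊥ ∧ L = Subgroup.normalizer (T : Set G)) → M ≤ L → L = M)

variable {p}

theorem exists_maxLoc {T : Subgroup G} (hT : IsPGroup p T) (hT1 : T ≠ ⊥) :
    ∃ L : Subgroup G, MaxLoc p L ∧ Subgroup.normalizer (T : Set G) ≤ L := by
  obtain ⟨L, hle, hL, hmax⟩ := (Set.toFinite {L : Subgroup G | ∃ T : Subgroup G, IsPGroup p T ∧ T ≠ ⊥ ∧ L = Subgroup.normalizer (T : Set G)}).exists_le_maximal
    (a := Subgroup.normalizer (T : Set G)) ⟨T, hT, hT1, rfl⟩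
  exact ⟨L, ⟨hL, fun L' hL' h => le_antisymm (hmax hL' h) h⟩, hle⟩

theorem maxLoc_conj {M : Subgroup G} (hM : MaxLoc p M) (g : G) : MaxLoc p (M.map (MulAut.conj g).toMonoidHom) := by
  have hloc : ∀ (L : Subgroup G) (g : G), (∃ T : Subgroup G, IsPGroup p T ∧ T ≠ ⊥ ∧ L = Subgroup.normalizer (T : Set G)) →
      ∃ T : Subgroup G, IsPGroup p T ∧ T ≠ ⊥ ∧ L.map (MulAut.conj g).toMonoidHom = Subgroup.normalizer (T : Set G) := by
    rintro L g ⟨T, hT, hT1, rfl⟩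
    refine ⟨T.map (MulAut.conj g).toMonoidHom, hT.map _, ?_, ?_⟩
    · rwa [Ne, Subgroup.map_eq_bot_iff_of_injective _ (MulAut.conj g).injective]
    · exact Subgroup.map_equiv_normalizer_eq T (MulAut.conj g)
  refine ⟨hloc M g hM.1, fun L hL hle => ?_⟩
  have h := hM.2 (L.map (MulAut.conj g⁻¹).toMonoidHom) (hloc L g⁻¹ hL) (by
    intro x hx
    exact ⟨g * x * g⁻¹, hle ⟨x, hx, rfl⟩, by simp [mul_assoc]⟩)
  rw [← h, Subgroup.map_map]
  ext x
  constructor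
  · intro hx; exact ⟨x, hx, by simp [mul_assoc]⟩
  · rintro ⟨y, hy, rfl⟩; simpa [mul_assoc] using hy

theorem normalizer_le_of_normal (hloc : Cfsg.IsOfLocalCharacteristic p G) {M : Subgroup G} (hM : MaxLoc p M)
    {A : Subgroup G} (hA1 : A ≠ ⊥) (hAM : A ≤ M) (hMA : M ≤ Subgroup.normalizer (A : Set G)) :
    Subgroup.normalizer (A : Set G) = M := by
  obtain ⟨T, hT, hT1, rfl⟩ := hM.1
  set M := Subgroup.normalizer (T : Set G) with hMdef
  have hc := hloc.2 T hT hT1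
  set B := (Cfsg.pCore p ↥A).map A.subtype with hB
  have hB1 : B ≠ ⊥ := by
    intro h
    have hbot : A.subgroupOf M ⊓ Cfsg.pCore p ↥M = ⊥ := by
      rw [eq_bot_iff]
      rintro x ⟨hxA, hxQ⟩
      haveI : ((Cfsg.pCore p ↥M).map M.subtype).subgroupOf A |>.Normal := by
        constructor
        rintro a ⟨y, hy, hya⟩ n
        refine ⟨⟨n, hAM n.2⟩ * y * ⟨n, hAM n.2⟩⁻¹, ?_, ?_⟩
        · exact Subgroup.Normal.conj_mem inferInstance y hy _
        · simp only [Subgroup.coe_subtype, Subgroup.coe_mul, Subgroup.coe_inv] at hya ⊢; rw [hya]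
      have hle := le_pCore (p := p) (N := ((Cfsg.pCore p ↥M).map M.subtype).subgroupOf A)
        ((isPGroup_pCore.map _).comap_subtype)
      have : (x : G) ∈ B := ⟨⟨x, hxA⟩, hle (show _ ∈ ((Cfsg.pCore p ↥M).map M.subtype).subgroupOf A from ⟨x, hxQ, rfl⟩), rfl⟩
      rw [h, Subgroup.mem_bot] at this
      exact Subgroup.mem_bot.mpr (Subtype.ext this)
    have hAn : (A.subgroupOf M).Normal := Subgroup.normal_subgroupOf_of_le_normalizer hMA
    haveI := hAn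
    have hcomm : A.subgroupOf M ≤ Subgroup.centralizer (Cfsg.pCore p ↥M : Set ↥M) := by
      intro a ha
      rw [Subgroup.mem_centralizer_iff]
      intro q hq
      exact (Subgroup.commute_of_normal_of_disjoint _ _ inferInstance inferInstance (disjoint_iff.mpr hbot) a q ha hq).eq.symm
    have h2 : A.subgroupOf M = ⊥ := by
      rw [← inf_eq_left.mpr (hcomm.trans hc), hbot]
    exact hA1 (eq_bot_iff.mpr fun a ha => by
      have h3 : (⟨a, hAM ha⟩ : M) ∈ A.subgroupOf M := ha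
      rw [h2, Subgroup.mem_bot] at h3
      exact Subgroup.mem_bot.mpr (congrArg Subtype.val h3))
  have hle : Subgroup.normalizer (A : Set G) ≤ Subgroup.normalizer (B : Set G) :=
    fun g hg => Cfsg.Agent.GenA.MinimalAction.normalizer_map_of_characteristic _ hg
  have heq := hM.2 _ ⟨B, (isPGroup_pCore.map _), hB1, rfl⟩ (hMA.trans hle)
  exact le_antisymm (hle.trans heq.le) hMA

/-- The `p`-core lies in a maximal `p`-subgroup. -/
theorem pCore_le_of_max {M T : Subgroup G} (hTM : T ≤ M) (hT : IsPGroup p T)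
    (hmax : ∀ U : Subgroup G, T < U → U ≤ M → ¬ IsPGroup p U) : (Cfsg.pCore p ↥M).map M.subtype ≤ T := by
  set Q := (Cfsg.pCore p ↥M).map M.subtype
  by_contra hn
  have hQM : Q ≤ M := Subgroup.map_subtype_le _
  have hnorm : T ≤ Subgroup.normalizer (Q : Set G) := fun t ht =>
    Cfsg.Agent.GenA.MinimalAction.normalizer_map_of_characteristic _ (Subgroup.le_normalizer (hTM ht))
  refine hmax (T ⊔ Q) (lt_of_le_of_ne le_sup_left fun e => hn (e ▸ le_sup_right)) (sup_le hTM hQM) ?_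
  exact hT.to_sup_of_normal_right' (isPGroup_pCore.map _) hnorm

end

/-- Two distinct subgroups M₁, M₂ of G form a primitive pair when, for {i, j} = {1, 2}, every non-trivial normal subgroup A of M_i contained in M₁ ∩ M₂ satisfies N_{M_j}(A) = M₁ ∩ M₂; the pair has characteristic p when moreover C_{M_i}(O_p(M_i)) ≤ O_p(M_i) for both i and O_p(M₁)O_p(M₂) ≤ M₁ ∩ M₂. Let G be a finite group, p a prime dividing its order, with O_p(G) = 1 and every p-local subgroup of characteristic p. Then either G has a primitive pair of characteristic p, or every maximal p-local subgroup M of G is strongly p-embedded in G: M is a proper subgroup, p divides its order, and for every g ∉ M the order of M ∩ gMg⁻¹ is prime to p. -/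
theorem result {G : Type*} [Group G] [Finite G] {p : ℕ} [Fact p.Prime] (hloc : Cfsg.IsOfLocalCharacteristic p G) (hOp : Cfsg.pCore p G = ⊥) : (∃ M₁ M₂ : Subgroup G, M₁ ≠ M₂ ∧ (∀ A : Subgroup G, A ≠ ⊥ → A ≤ M₁ ⊓ M₂ → (M₁ ≤ Subgroup.normalizer (A : Set G) → M₂ ⊓ Subgroup.normalizer (A : Set G) = M₁ ⊓ M₂) ∧ (M₂ ≤ Subgroup.normalizer (A : Set G) → M₁ ⊓ Subgroup.normalizer (A : Set G) = M₁ ⊓ M₂)) ∧ Subgroup.centralizer (Cfsg.pCore p ↥M₁ : Set ↥M₁) ≤ Cfsg.pCore p ↥M₁ ∧ Subgroup.centralizer (Cfsg.pCore p ↥M₂ : Set ↥M₂) ≤ Cfsg.pCore p ↥M₂ ∧ (Cfsg.pCore p ↥M₁).map M₁.subtype ⊔ (Cfsg.pCore p ↥M₂).map M₂.subtype ≤ M₁ ⊓ M₂) ∨ (∀ M : Subgroup G, (∃ T : Subgroup G, IsPGroup p T ∧ T ≠ ⊥ ∧ M = Subgroup.normalizer (T : Set G)) → (∀ L : Subgroup G, (∃ T : Subgroup G, IsPGroup p T ∧ T ≠ ⊥ ∧ L = Subgroup.normalizer (T : Set G)) → M ≤ L → L = M) → M ≠ ⊤ ∧ p ∣ Nat.card M ∧ ∀ g : G, g ∉ M → ¬ p ∣ Nat.card ↥(M ⊓ M.map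 (MulAut.conj g).toMonoidHom)) := by
  classical
  by_cases hse : ∀ M : Subgroup G, (∃ T : Subgroup G, IsPGroup p T ∧ T ≠ ⊥ ∧ M = Subgroup.normalizer (T : Set G)) →
      (∀ L : Subgroup G, (∃ T : Subgroup G, IsPGroup p T ∧ T ≠ ⊥ ∧ L = Subgroup.normalizer (T : Set G)) → M ≤ L → L = M) →
      M ≠ ⊤ ∧ p ∣ Nat.card M ∧ ∀ g : G, g ∉ M → ¬ p ∣ Nat.card ↥(M ⊓ M.map (MulAut.conj g).toMonoidHom)
  · exact Or.inr hse
  left
  push Not at hse
  obtain ⟨M, hM1, hM2, hMse⟩ := hse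
  have hM : MaxLoc p M := ⟨hM1, hM2⟩
  obtain ⟨T0, hT0, hT01, hMT0⟩ := id hM1
  have hne : M ≠ ⊤ := fun h => hT01 (by
    haveI : T0.Normal := Subgroup.normalizer_eq_top_iff.mp (hMT0 ▸ h)
    exact eq_bot_iff.mpr ((le_pCore hT0).trans hOp.le))
  have hpM : p ∣ Nat.card M := by
    obtain ⟨k, hk⟩ := hT0.exists_card_eq
    have hk0 : k ≠ 0 := fun h => hT01 (Subgroup.card_eq_one.mp (by rw [hk, h, pow_zero]))
    exact (dvd_pow_self p hk0).trans (hk ▸ Subgroup.card_dvd_of_le (hMT0 ▸ Subgroup.le_normalizer))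
  obtain ⟨g, hg, hdvd⟩ := hMse hne hpM
  set M' := M.map (MulAut.conj g).toMonoidHom with hM'
  have hM'ne : M ≠ M' := by
    intro h
    apply hg
    have hN := normalizer_le_of_normal hloc hM (A := M) (fun h0 => hT01 (eq_bot_iff.mpr (h0 ▸ hMT0 ▸ Subgroup.le_normalizer))) le_rfl Subgroup.le_normalizer
    rw [← hN]
    exact Cfsg.Agent.Coprime.conj_smul_eq_self_iff.mp ((Cfsg.Agent.Coprime.conj_smul_eq_map g M).trans h.symm)
  obtain ⟨⟨y, hy0⟩, hy⟩ := exists_prime_orderOf_dvd_card' p hdvd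
  have hy' : orderOf y = p := by rw [← hy, Subgroup.orderOf_mk]
  let S : Set (Subgroup G) := {T | IsPGroup p T ∧ T ≠ ⊥ ∧ ∃ M₁ M₂ : Subgroup G, MaxLoc p M₁ ∧ MaxLoc p M₂ ∧ M₁ ≠ M₂ ∧ T ≤ M₁ ⊓ M₂}
  have hS : S.Nonempty := ⟨Subgroup.zpowers y, IsPGroup.of_card (n := 1) (by rw [Nat.card_zpowers, hy', pow_one]),
    fun h => (Fact.out : p.Prime).ne_one (by rw [← hy', orderOf_eq_one_iff, ← Subgroup.zpowers_eq_bot]; exact h),
    M, M', hM, maxLoc_conj hM g, hM'ne, Subgroup.zpowers_le.mpr hy0⟩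
  obtain ⟨T, ⟨hT, hT1, M₁, M₂, hM₁, hM₂, h12, hTle⟩, hTmax⟩ := Set.exists_max_image S (fun T => Nat.card T) (Set.toFinite _) hS
  -- `T` cannot grow inside both members of a pair
  have grow : ∀ (L₁ L₂ U : Subgroup G), MaxLoc p L₁ → MaxLoc p L₂ → L₁ ≠ L₂ → IsPGroup p U → T < U → ¬ U ≤ L₁ ⊓ L₂ := by
    intro L₁ L₂ U h1 h2 h3 hU hTU hle
    have hU1 : U ≠ ⊥ := fun h => hT1 (eq_bot_iff.mpr (h ▸ hTU.le))
    have := hTmax U ⟨hU, hU1, L₁, L₂, h1, h2, h3, hle⟩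
    exact hTU.ne (Subgroup.eq_of_le_of_card_ge hTU.le this)
  have inN : ∀ L U : Subgroup G, T < U → U ≤ L → IsPGroup p U →
      ∃ U' : Subgroup G, T < U' ∧ U' ≤ L ⊓ Subgroup.normalizer (T : Set G) ∧ IsPGroup p U' :=
    fun L U hTU hUL hU => ⟨U ⊓ Subgroup.normalizer (T : Set G), Cfsg.Agent.Transfer.Frobenius.lt_inf_normalizer hU hTU,
      inf_le_inf_right _ hUL, hU.to_le inf_le_left⟩
  -- a pair in which `T` is maximal in both members
  obtain ⟨L₁, L₂, hL₁, hL₂, hL12, hTL, hmax1, hmax2⟩ : ∃ L₁ L₂ : Subgroup G, MaxLoc p L₁ ∧ MaxLoc p L₂ ∧ L₁ ≠ L₂ ∧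
      T ≤ L₁ ⊓ L₂ ∧ (∀ U, T < U → U ≤ L₁ → ¬ IsPGroup p U) ∧ (∀ U, T < U → U ≤ L₂ → ¬ IsPGroup p U) := by
    have one : ∀ A B : Subgroup G, MaxLoc p A → MaxLoc p B → A ≠ B → T ≤ A ⊓ B →
        (∀ U, T < U → U ≤ A → ¬ IsPGroup p U) → ∀ U, T < U → U ≤ B → IsPGroup p U →
        ∃ w : G, w ∈ Subgroup.normalizer (T : Set G) ∧ A.map (MulAut.conj w).toMonoidHom ≠ A := by
      intro A B hA hB hAB hTAB hmaxA U hTU hUB hU
      obtain ⟨U', hTU', hU'le, hU'⟩ := inN B U hTU hUB hU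
      have : ¬ U' ≤ A := fun h => hmaxA U' hTU' h hU'
      obtain ⟨w, hw, hwA⟩ := SetLike.not_le_iff_exists.mp this
      refine ⟨w, (hU'le hw).2, fun e => hwA ?_⟩
      have hA1 : A ≠ ⊥ := fun h => hT1 (eq_bot_iff.mpr (h ▸ hTAB.trans inf_le_left))
      rw [← normalizer_le_of_normal hloc hA hA1 le_rfl Subgroup.le_normalizer]
      exact Cfsg.Agent.Coprime.conj_smul_eq_self_iff.mp ((Cfsg.Agent.Coprime.conj_smul_eq_map w A).trans e)
    have two : ∀ A : Subgroup G, MaxLoc p A → T ≤ A → (∀ U, T < U → U ≤ A → ¬ IsPGroup p U) →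
        ∀ w ∈ Subgroup.normalizer (T : Set G), A.map (MulAut.conj w).toMonoidHom ≠ A →
        ∃ L₁ L₂ : Subgroup G, MaxLoc p L₁ ∧ MaxLoc p L₂ ∧ L₁ ≠ L₂ ∧ T ≤ L₁ ⊓ L₂ ∧
          (∀ U, T < U → U ≤ L₁ → ¬ IsPGroup p U) ∧ (∀ U, T < U → U ≤ L₂ → ¬ IsPGroup p U) := by
      intro A hA hTA hmaxA w hw hne
      have hTw : T.map (MulAut.conj w).toMonoidHom = T :=
        (Cfsg.Agent.Coprime.conj_smul_eq_map w T).symm.trans (Cfsg.Agent.Coprime.conj_smul_eq_self_iff.mpr hw)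
      refine ⟨A, A.map (MulAut.conj w).toMonoidHom, hA, maxLoc_conj hA w, hne.symm,
        le_inf hTA (hTw ▸ Subgroup.map_mono hTA), hmaxA, fun U hTU hU hUp => ?_⟩
      obtain ⟨U0, hU0⟩ : ∃ U0 : Subgroup G, U0 = U.comap (MulAut.conj w).toMonoidHom := ⟨_, rfl⟩
      have hmap : U0.map (MulAut.conj w).toMonoidHom = U := by
        rw [hU0]; exact Subgroup.map_comap_eq_self_of_surjective (MulAut.conj w).surjective U
      refine hmaxA U0 ?_ ?_ ?_
      · refine lt_of_le_of_ne ?_ fun e => ?_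
        · rw [← Subgroup.map_le_map_iff_of_injective (f := (MulAut.conj w).toMonoidHom) (MulAut.conj w).injective, hmap, hTw]
          exact hTU.le
        · rw [← e, hTw] at hmap
          exact hTU.ne hmap
      · rw [← Subgroup.map_le_map_iff_of_injective (f := (MulAut.conj w).toMonoidHom) (MulAut.conj w).injective, hmap]
        exact hU
      · rw [hU0]; exact hUp.comap_of_injective _ (MulAut.conj w).injective
    by_cases h1 : ∀ U, T < U → U ≤ M₁ → ¬ IsPGroup p U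
    · by_cases h2 : ∀ U, T < U → U ≤ M₂ → ¬ IsPGroup p U
      · exact ⟨M₁, M₂, hM₁, hM₂, h12, hTle, h1, h2⟩
      push Not at h2
      obtain ⟨U, hTU, hU, hUp⟩ := h2
      obtain ⟨w, hw, hwne⟩ := one M₁ M₂ hM₁ hM₂ h12 hTle h1 U hTU hU hUp
      exact two M₁ hM₁ (hTle.trans inf_le_left) h1 w hw hwne
    · by_cases h2 : ∀ U, T < U → U ≤ M₂ → ¬ IsPGroup p U
      · push Not at h1
        obtain ⟨U, hTU, hU, hUp⟩ := h1
        obtain ⟨w, hw, hwne⟩ := one M₂ M₁ hM₂ hM₁ h12.symm (hTle.trans (le_of_eq (inf_comm _ _))) h2 U hTU hU hUp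
        exact two M₂ hM₂ (hTle.trans inf_le_right) h2 w hw hwne
      exfalso
      push Not at h1 h2
      obtain ⟨U1, a1, b1, c1⟩ := h1
      obtain ⟨U2, a2, b2, c2⟩ := h2
      obtain ⟨V1, d1, e1, f1⟩ := inN M₁ U1 a1 b1 c1
      obtain ⟨V2, d2, e2, f2⟩ := inN M₂ U2 a2 b2 c2
      obtain ⟨L, hL, hNL⟩ := exists_maxLoc hT hT1
      by_cases hLM : L = M₁
      · exact grow M₁ M₂ V2 hM₁ hM₂ h12 f2 d2 (le_inf (hLM ▸ (e2.trans inf_le_right).trans hNL) (e2.trans inf_le_left))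
      · exact grow L M₁ V1 hL hM₁ hLM f1 d1 (le_inf ((e1.trans inf_le_right).trans hNL) (e1.trans inf_le_left))
  refine ⟨L₁, L₂, hL12, fun A hA hAle => ⟨fun h => ?_, fun h => ?_⟩, ?_, ?_, ?_⟩
  · rw [normalizer_le_of_normal hloc hL₁ hA (hAle.trans inf_le_left) h, inf_comm]
  · rw [normalizer_le_of_normal hloc hL₂ hA (hAle.trans inf_le_right) h]
  · obtain ⟨U, hU, hU1, rfl⟩ := hL₁.1; exact hloc.2 U hU hU1
  · obtain ⟨U, hU, hU1, rfl⟩ := hL₂.1; exact hloc.2 U hU hU1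
  · exact (sup_le (pCore_le_of_max (hTL.trans inf_le_left) hT hmax1) (pCore_le_of_max (hTL.trans inf_le_right) hT hmax2)).trans hTL

end Cfsg.Agent.S3751
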