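import Cfsg.Statements.S3753
import Cfsg.Agent.Lib.CharP.PrimitivePairKInf

set_option autoImplicit false
open Cfsg

namespace Cfsg.Agent.S3753

open Subgroup

/-- The K-infinity subgroup of a subgroup of `M` does not depend on the group containing it. -/
theorem kInf_subgroupOf.{w} {G : Type w} [Group G] {M T : Subgroup G} (hT : T ≤ M) :
    (inducedFunctor kInfLower (T.subgroupOf M)).map M.subtype = inducedFunctor kInfLower T := by
  show ((kInfLower ↥(T.subgroupOf M)).map (T.subgroupOf M).subtype).map M.subtype = (kInfLower ↥T).map T.subtype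
  rw [← (Techniques.KSeq.map_equiv (Subgroup.subgroupOfEquivOfLe hT)).1, Subgroup.map_map, Subgroup.map_map]
  rfl

/-- The image of a normal subgroup of `M` is normalized by `M`. -/
theorem le_normalizer_map {G : Type*} [Group G] (M : Subgroup G) {N : Subgroup M} (hN : N.Normal) :
    M ≤ normalizer ((N.map M.subtype : Subgroup G) : Set G) := by
  intro g hg
  rw [mem_normalizer_iff]
  intro x
  constructor
  · rintro ⟨y, hy, rfl⟩
    exact ⟨⟨g, hg⟩ * y * ⟨g, hg⟩⁻¹, hN.conj_mem y hy _, rfl⟩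
  · rintro ⟨y, hy, hye⟩
    refine ⟨⟨g, hg⟩⁻¹ * y * ⟨g, hg⟩, by simpa using hN.conj_mem y hy (⟨g, hg⟩ : M)⁻¹, ?_⟩
    show g⁻¹ * (y : G) * g = x
    rw [show (y : G) = g * x * g⁻¹ from hye]; group

/-- Two distinct subgroups M₁, M₂ of G form a primitive pair when, for {i, j} = {1, 2}, every non-trivial normal subgroup A of M_i contained in M₁ ∩ M₂ satisfies N_{M_j}(A) = M₁ ∩ M₂; the pair has characteristic p when moreover C_{M_i}(O_p(M_i)) ≤ O_p(M_i) for both i and O_p(M₁)O_p(M₂) ≤ M₁ ∩ M₂. If the finite group G has a primitive pair (M₁, M₂) of characteristic p for some prime p, then M₁ or M₂ has non-abelian Sylow 2-subgroups. In particular no group of odd order has a primitive pair of characteristic p. -/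
theorem result {G : Type*} [Group G] [Finite G] {p : ℕ} [Fact p.Prime] (M₁ M₂ : Subgroup G) (hne : M₁ ≠ M₂) (hP : ∀ A : Subgroup G, A ≠ ⊥ → A ≤ M₁ ⊓ M₂ → (M₁ ≤ Subgroup.normalizer (A : Set G) → M₂ ⊓ Subgroup.normalizer (A : Set G) = M₁ ⊓ M₂) ∧ (M₂ ≤ Subgroup.normalizer (A : Set G) → M₁ ⊓ Subgroup.normalizer (A : Set G) = M₁ ⊓ M₂)) (hc₁ : Subgroup.centralizer (Cfsg.pCore p ↥M₁ : Set ↥M₁) ≤ Cfsg.pCore p ↥M₁) (hc₂ : Subgroup.centralizer (Cfsg.pCore p ↥M₂ : Set ↥M₂) ≤ Cfsg.pCore p ↥M₂) (hO : (Cfsg.pCore p ↥M₁).map M₁.subtype ⊔ (Cfsg.pCore p ↥M₂).map M₂.subtype ≤ M₁ ⊓ M₂) : (∃ S : Sylow 2 ↥M₁, ¬ IsMulCommutative (S : Subgroup ↥M₁)) ∨ (∃ S : Sylow 2 ↥M₂, ¬ IsMulCommutative (S : Subgroup ↥M₂)) := by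
  classical
  by_contra hcon
  rw [not_or, not_exists, not_exists] at hcon
  have hab₁ : PLocal.Quadratic.AbelianTwo M₁ := fun S => not_not.1 (hcon.1 S)
  have hab₂ : PLocal.Quadratic.AbelianTwo M₂ := fun S => not_not.1 (hcon.2 S)
  set O₁ := (Cfsg.pCore p ↥M₁).map M₁.subtype
  set O₂ := (Cfsg.pCore p ↥M₂).map M₂.subtype
  have hO₁ : O₁ ≤ M₁ ⊓ M₂ := le_sup_left.trans hO
  have hO₂ : O₂ ≤ M₁ ⊓ M₂ := le_sup_right.trans hO
  have hn₁ : M₁ ≤ normalizer (O₁ : Set G) := le_normalizer_map M₁ PLocal.Cores.pCore_normal'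
  have hn₂ : M₂ ≤ normalizer (O₂ : Set G) := le_normalizer_map M₂ PLocal.Cores.pCore_normal'
  have hp₁ : IsPGroup p O₁ := PLocal.Cores.isPGroup_pCore.map _
  have hp₂ : IsPGroup p O₂ := PLocal.Cores.isPGroup_pCore.map _
  -- no subgroup of the intersection other than the trivial one is normalized by both
  have hfinal : ∀ A : Subgroup G, A ≠ ⊥ → A ≤ M₁ ⊓ M₂ → M₁ ≤ normalizer (A : Set G) →
      M₂ ≤ normalizer (A : Set G) → False := fun A hA hAle h1 h2 => by
    have e1 := (hP A hA hAle).1 h1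
    have e2 := (hP A hA hAle).2 h2
    rw [inf_eq_left.2 h2] at e1
    rw [inf_eq_left.2 h1] at e2
    exact hne (e2.trans e1.symm)
  have hbot : ∀ (M : Subgroup G), centralizer (Cfsg.pCore p ↥M : Set ↥M) ≤ Cfsg.pCore p ↥M →
      Cfsg.pCore p ↥M = ⊥ → M = ⊥ := fun M hc e => by
    rw [e] at hc
    rw [eq_bot_iff]
    intro x hx
    have := hc (show (⟨x, hx⟩ : M) ∈ centralizer ((⊥ : Subgroup M) : Set M) by
      rw [mem_centralizer_iff]; intro y hy; rw [SetLike.mem_coe, mem_bot] at hy; simp [hy])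
    rw [mem_bot] at this ⊢
    exact congrArg Subtype.val this
  by_cases hO0 : O₁ = ⊥ ∧ O₂ = ⊥
  · exact hne ((hbot M₁ hc₁ ((map_eq_bot_iff_of_injective _ M₁.subtype_injective).1 hO0.1)).trans
      (hbot M₂ hc₂ ((map_eq_bot_iff_of_injective _ M₂.subtype_injective).1 hO0.2)).symm)
  rcases eq_or_ne p 2 with rfl | hp2
  · -- the two cores are normal abelian Sylow subgroups
    have key : ∀ (M : Subgroup G), PLocal.Quadratic.AbelianTwo M →
        centralizer (Cfsg.pCore 2 ↥M : Set ↥M) ≤ Cfsg.pCore 2 ↥M →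
        ∀ X : Subgroup G, X ≤ M → IsPGroup 2 X → X ≤ (Cfsg.pCore 2 ↥M).map M.subtype := by
      intro M hab hc X hX hXp
      obtain ⟨S, hS⟩ := (hXp.comap_of_injective M.subtype M.subtype_injective).exists_le_sylow
      have hSO : (S : Subgroup M) ≤ Cfsg.pCore 2 ↥M := fun x hx => hc (mem_centralizer_iff.2 fun y hy =>
        congrArg Subtype.val ((hab S).is_comm.comm ⟨y, PLocal.Cores.pCore_le_sylow S hy⟩ ⟨x, hx⟩))
      exact fun x hx => ⟨⟨x, hX hx⟩, hSO (hS hx), rfl⟩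
    have e : O₁ = O₂ := le_antisymm (key M₂ hab₂ hc₂ O₁ (hO₁.trans inf_le_right) hp₁)
      (key M₁ hab₁ hc₁ O₂ (hO₂.trans inf_le_left) hp₂)
    exact hfinal O₁ (fun h => hO0 ⟨h, e ▸ h⟩) hO₁ hn₁ (e ▸ hn₂)
  · -- the common K-infinity subgroup
    have hne0 : IsPGroup p ↥(O₁ ⊔ O₂ : Subgroup G) := by
      refine hp₁.to_sup_of_normal_left' hp₂ ?_
      exact (hO₂.trans inf_le_left).trans hn₁
    obtain ⟨P, hPle⟩ := (hne0.comap_of_injective (M₁ ⊓ M₂).subtype (M₁ ⊓ M₂).subtype_injective).exists_le_sylow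
    set T := (P : Subgroup ↥(M₁ ⊓ M₂)).map (M₁ ⊓ M₂).subtype
    have hTle : T ≤ M₁ ⊓ M₂ := map_subtype_le _
    have hTp : IsPGroup p T := P.isPGroup'.map _
    have hOT : O₁ ⊔ O₂ ≤ T := fun x hx => ⟨⟨x, hO hx⟩, hPle hx, rfl⟩
    have key : ∀ (M : Subgroup G), PLocal.Quadratic.AbelianTwo M →
        centralizer (Cfsg.pCore p ↥M : Set ↥M) ≤ Cfsg.pCore p ↥M → T ≤ M →
        (Cfsg.pCore p ↥M).map M.subtype ≤ T →
        M ≤ normalizer (inducedFunctor kInfLower T : Set G) := by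
      intro M hab hc hTM hcore
      obtain ⟨hn, -⟩ := CharP.PrimitivePairKInf.kInf_intermediate hp2 hab hc
        (T := T.subgroupOf M) (hTp.comap_of_injective M.subtype M.subtype_injective)
        (fun x hx => hcore ⟨x, hx, rfl⟩)
      rw [← kInf_subgroupOf hTM]
      exact le_normalizer_map M hn
    have hT : Nontrivial T := (Subgroup.nontrivial_iff_ne_bot T).2 fun h => hO0
      ⟨le_bot_iff.1 (h ▸ le_sup_left.trans hOT), le_bot_iff.1 (h ▸ le_sup_right.trans hOT)⟩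
    have hK : inducedFunctor kInfLower T ≠ ⊥ := fun h => by
      rw [inducedFunctor, map_eq_bot_iff_of_injective _ T.subtype_injective] at h
      exact Techniques.KSeq.isCharPFunctor_kInfLower.1 T hTp hT h
    exact hfinal _ hK ((map_subtype_le _).trans hTle)
      (key M₁ hab₁ hc₁ (hTle.trans inf_le_left) (le_sup_left.trans hOT))
      (key M₂ hab₂ hc₂ (hTle.trans inf_le_right) (le_sup_right.trans hOT))

end Cfsg.Agent.S3753
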