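import Cfsg.Statements.S3758
import Cfsg.Agent.Lib.ZN.Reduction

set_option autoImplicit false
open Cfsg

namespace Cfsg.Agent.S3758

/-- Let G be a finite group of even order in which every 2-local subgroup is solvable and C_G(Ω₁(Z(S))) ≤ N_G(S) for every Sylow 2-subgroup S, and suppose O_{2'}(G) = 1 = O₂(G). Fix a Sylow 2-subgroup S, put Z = Ω₁(Z(S)), H = O²(G) (generated by the elements of odd order) and R = S ∩ H. Then one of the following holds: H has a strongly embedded subgroup; R is dihedral (of order at least 4) or semidihedral; Z ∩ R has order 2 and is weakly closed in R with respect to H; or Z has order 4 and is exactly the subgroup generated by the involutions of R. -/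
theorem result {G : Type*} [Group G] [Finite G] (heven : Even (Nat.card G)) (hN : ∀ L : Subgroup G, Cfsg.IsTwoLocal L → Group.IsSolvable L) (hZ : ∀ S : Sylow 2 G, Subgroup.centralizer (Cfsg.omegaOne 2 ((S : Subgroup G) ⊓ Subgroup.centralizer ((S : Subgroup G) : Set G)) : Set G) ≤ Subgroup.normalizer ((S : Subgroup G) : Set G)) (hO' : Cfsg.pPrimeCore 2 G = ⊥) (hO : Cfsg.pCore 2 G = ⊥) (S : Sylow 2 G) : (∃ M : Subgroup ↥(Cfsg.pResidual 2 G), Cfsg.IsStronglyEmbedded M) ∨ ((∃ n : ℕ, 2 ≤ n ∧ Nonempty (↥((S : Subgroup G) ⊓ Cfsg.pResidual 2 G) ≃* DihedralGroup n)) ∨ Cfsg.IsQuasiDihedral ↥((S : Subgroup G) ⊓ Cfsg.pResidual 2 G)) ∨ (Nat.card ↥(Cfsg.omegaOne 2 ((S : Subgroup G) ⊓ Subgroup.centralizer ((S : Subgroup G) : Set G)) ⊓ Cfsg.pResidual 2 G) = 2 ∧ ∀ h ∈ Cfsg.pResidual 2 G, ∀ z ∈ Cfsg.omegaOne 2 ((S : Subgroup G) ⊓ Subgroup.centralizer ((S : Subgroup G) : Set G)) ⊓ Cfsg.pResidual 2 G, h * z * h⁻¹ ∈ (S : Subgroup G) →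 h * z * h⁻¹ ∈ Cfsg.omegaOne 2 ((S : Subgroup G) ⊓ Subgroup.centralizer ((S : Subgroup G) : Set G))) ∨ (Nat.card ↥(Cfsg.omegaOne 2 ((S : Subgroup G) ⊓ Subgroup.centralizer ((S : Subgroup G) : Set G))) = 4 ∧ Cfsg.omegaOne 2 ((S : Subgroup G) ⊓ Cfsg.pResidual 2 G) = Cfsg.omegaOne 2 ((S : Subgroup G) ⊓ Subgroup.centralizer ((S : Subgroup G) : Set G))) := by
  classical
  haveI : Fact (Nat.Prime 2) := ⟨Nat.prime_two⟩
  rcases S3759.result heven (ZN.Reduction.solvable_centralizer hN) hZ hO' hO S with h | h | h | hchar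
  · exact Or.inl h
  · exact Or.inr (Or.inr (Or.inl h))
  · exact Or.inr (Or.inr (Or.inr h))
  set H := Cfsg.pResidual 2 G with hH
  set Z := Cfsg.omegaOne 2 ((S : Subgroup G) ⊓ Subgroup.centralizer ((S : Subgroup G) : Set G)) with hZd
  have hHn : H.Normal := Transfer.NormalPComplement.pResidual_normal
  have htop : H ⊔ (S : Subgroup G) = ⊤ := Transfer.NormalPComplement.pResidual_sup_sylow S
  have hmemZ := fun {x : G} => GenA.ZC.mem_omega_center (S : Subgroup G) (x := x)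
  set Y := H ⊔ Z with hY
  haveI hYn : Y.Normal := by
    refine ⟨fun n hn g => ?_⟩
    have hle : Y.map (MulAut.conj g).toMonoidHom ≤ Y := by
      rw [hY, Subgroup.map_sup]
      refine sup_le ?_ ?_
      · rintro _ ⟨x, hx, rfl⟩
        exact Subgroup.mem_sup_left (hHn.conj_mem x hx g)
      · rintro _ ⟨x, hx, rfl⟩
        obtain ⟨h, hh, s, hs, rfl⟩ :=
          Subgroup.mem_sup_of_normal_left.mp (htop.ge (Subgroup.mem_top g))
        show h * s * x * (h * s)⁻¹ ∈ H ⊔ Z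
        have e : h * s * x * (h * s)⁻¹ = h * (x * h⁻¹ * x⁻¹) * x := by
          rw [show h * s * x * (h * s)⁻¹ = h * (s * x) * s⁻¹ * h⁻¹ by group, (hmemZ.mp hx).2.1 s hs]
          group
        rw [e]
        exact Subgroup.mul_mem_sup (mul_mem hh (hHn.conj_mem _ (inv_mem hh) x)) hx
    exact hle ⟨n, hn, rfl⟩
  have hHY : H ≤ Y := le_sup_left
  have hZY : Z ≤ Y := le_sup_right
  have hZS : Z ≤ (S : Subgroup G) := fun x hx => (hmemZ.mp hx).1
  -- `H` meets `S`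
  have hSH : (S : Subgroup G) ⊓ H ≠ ⊥ := by
    intro h
    have hidx : ¬ 2 ∣ ((S : Subgroup G).subgroupOf H).index := fun hd =>
      S.not_dvd_index (hd.trans (Cores.relIndex_dvd_index_right_normal (S : Subgroup G) H))
    rw [show (S : Subgroup G).subgroupOf H = ⊥ by
      rw [← Subgroup.inf_subgroupOf_right, h, Subgroup.bot_subgroupOf], Subgroup.index_bot] at hidx
    have hH1 : H = ⊥ := le_bot_iff.mp
      (hO' ▸ PLocal.Cores.le_pPrimeCore (Nat.prime_two.coprime_iff_not_dvd.mpr hidx).symm)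
    rw [hH1, bot_sup_eq] at htop
    have hG : IsPGroup 2 (⊤ : Subgroup G) := htop ▸ S.2
    have h1 : (⊤ : Subgroup G) ≤ Cfsg.pCore 2 G :=
      le_sSup (α := Subgroup G) (s := {N : Subgroup G | N.Normal ∧ IsPGroup 2 N}) ⟨inferInstance, hG⟩
    rw [hO, le_bot_iff] at h1
    have h2 : Nat.card G = 1 := by rw [← Subgroup.card_top (G := G), h1, Subgroup.card_bot]
    rw [h2] at heven
    exact Nat.not_even_one heven
  -- the Sylow subgroup of `Y`
  have hQp : IsPGroup 2 ((S : Subgroup G).subgroupOf Y) := S.2.comap_subtype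
  have hQidx : ¬ 2 ∣ ((S : Subgroup G).subgroupOf Y).index := fun hd =>
    S.not_dvd_index (hd.trans (Cores.relIndex_dvd_index_right_normal (S : Subgroup G) Y))
  let Q : Sylow 2 Y := hQp.toSylow hQidx
  have hmemQ : ∀ x : Y, x ∈ (Q : Subgroup Y) ↔ (x : G) ∈ (S : Subgroup G) := fun x => Iff.rfl
  -- centres of Sylow subgroups of `G` lie in `Y`
  have hΩ : ∀ (P : Sylow 2 G) (x : G), x ∈ (P : Subgroup G) →
      (∀ q ∈ (P : Subgroup G), q * x = x * q) → x * x = 1 → x ∈ Y := by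
    intro P x hx hc hxx
    obtain ⟨a, ha⟩ := MulAction.exists_smul_eq G S P
    have hPm : ∀ y : G, y ∈ (P : Subgroup G) ↔ a⁻¹ * y * a ∈ (S : Subgroup G) := by
      intro y
      rw [← ha, Sylow.coe_subgroup_smul, Subgroup.mem_pointwise_smul_iff_inv_smul_mem, ← map_inv,
        MulAut.smul_def, MulAut.conj_apply, inv_inv]
    have hmem : a⁻¹ * x * a ∈ Z := by
      refine hmemZ.mpr ⟨(hPm x).1 hx, fun q hq => ?_, ?_⟩
      · have := hc (a * q * a⁻¹) ((hPm _).2 (by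
          rwa [show a⁻¹ * (a * q * a⁻¹) * a = q by group]))
        calc q * (a⁻¹ * x * a) = a⁻¹ * (a * q * a⁻¹ * x) * a := by group
          _ = a⁻¹ * (x * (a * q * a⁻¹)) * a := by rw [this]
          _ = a⁻¹ * x * a * q := by group
      · rw [show a⁻¹ * x * a * (a⁻¹ * x * a) = a⁻¹ * (x * x) * a by group, hxx]
        group
    have := hYn.conj_mem _ (hZY hmem) a
    rwa [show a * (a⁻¹ * x * a) * a⁻¹ = x by group] at this
  have hzn : JComp.ZN ↥Y := by
    refine ⟨hchar, ZN.Reduction.solvable_local hN Y, fun P c hc => ?_⟩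
    obtain ⟨P', hP'⟩ := (P.2.map Y.subtype).exists_le_sylow
    have hback : ∀ y : Y, (y : G) ∈ (P' : Subgroup G) → y ∈ (P : Subgroup Y) := fun y hy =>
      (P.3 (P'.2.comap_subtype (K := Y)) (fun u hu => hP' ⟨u, hu, rfl⟩)).le hy
    have hcN : (c : G) ∈ Subgroup.normalizer ((P' : Subgroup G) : Set G) := by
      refine hZ P' (Subgroup.mem_centralizer_iff.mpr fun x hx => ?_)
      obtain ⟨h1, h2, h3⟩ := (GenA.ZC.mem_omega_center _).mp hx
      have hxY := hΩ P' x h1 h2 h3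
      have hxP : (⟨x, hxY⟩ : Y) ∈ Cfsg.omegaCenterOf (P : Subgroup Y) :=
        JComp.mem_omegaCenterOf.mpr ⟨hback _ h1,
          fun q hq => Subtype.ext (h2 q (hP' ⟨q, hq, rfl⟩)), Subtype.ext h3⟩
      exact congrArg Subtype.val (Subgroup.mem_centralizer_iff.mp hc _ hxP)
    refine GenA.ZC.mem_normalizer_of_forall fun q hq => hback _ ?_
    exact (Subgroup.mem_normalizer_iff.mp hcN q).1 (hP' ⟨q, hq, rfl⟩)
  have hOY : Cfsg.pCore 2 ↥Y = ⊥ := by
    have := Cores.map_pCore_subtype_le 2 Y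
    rw [hO, le_bot_iff] at this
    exact (Subgroup.map_eq_bot_iff_of_injective _ Y.subtype_injective).mp this
  let N : Subgroup Y := H.subgroupOf Y
  haveI : N.Normal := hHn.subgroupOf Y
  let eN : ↥N ≃* ↥H := Subgroup.subgroupOfEquivOfLe hHY
  have hidx : ∀ K : Subgroup ↥N, K.index ≠ 2 := fun K hK =>
    GenA.ZC.pResidual_no_index_two (K.map eN.toMonoidHom)
      ((Subgroup.index_map_equiv K eN).trans hK)
  have hgen : N ⊔ Cfsg.omegaCenterOf (Q : Subgroup Y) = ⊤ := by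
    refine top_le_iff.mp fun y _ => ?_
    obtain ⟨h, hh, s, hs, he⟩ := Subgroup.mem_sup_of_normal_left.mp y.2
    have hs' : (⟨s, hZY hs⟩ : Y) ∈ Cfsg.omegaCenterOf (Q : Subgroup Y) :=
      JComp.mem_omegaCenterOf.mpr ⟨(hmemQ _).mpr (hZS hs),
        fun q hq => Subtype.ext ((hmemZ.mp hs).2.1 q ((hmemQ q).mp hq)),
        Subtype.ext (hmemZ.mp hs).2.2⟩
    have he' : (⟨h, hHY hh⟩ : Y) * ⟨s, hZY hs⟩ = y := Subtype.ext he
    exact he' ▸ Subgroup.mul_mem_sup (show (⟨h, hHY hh⟩ : Y) ∈ N from hh) hs'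
  have hinf : ((Q : Subgroup Y) ⊓ N).map Y.subtype = (S : Subgroup G) ⊓ H := by
    ext x
    constructor
    · rintro ⟨y, ⟨h1, h2⟩, rfl⟩
      exact ⟨(hmemQ y).mp h1, h2⟩
    · rintro ⟨h1, h2⟩
      exact ⟨⟨x, hHY h2⟩, ⟨(hmemQ _).mpr h1, h2⟩, rfl⟩
  have hQN : (Q : Subgroup Y) ⊓ N ≠ ⊥ := fun hb => hSH (by rw [← hinf, hb, Subgroup.map_bot])
  let e : ↥((S : Subgroup G) ⊓ H) ≃* ↥((Q : Subgroup Y) ⊓ N) :=
    ((((Q : Subgroup Y) ⊓ N).equivMapOfInjective Y.subtype Y.subtype_injective).trans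
      (MulEquiv.subgroupCongr hinf)).symm
  rcases ZN.Main.structure_theorem hzn hOY N hidx Q hgen hQN with
    ⟨M, hM⟩ | ⟨n, hn, ⟨f⟩⟩ | ⟨n, hn, hc, x, y, hx, hy, hxy⟩
  · exact Or.inl ⟨_, ZN.Reduction.stronglyEmbedded_equiv eN hM⟩
  · exact Or.inr (Or.inl (Or.inl ⟨n, hn, ⟨e.trans f⟩⟩))
  · refine Or.inr (Or.inl (Or.inr ⟨n, hn, (Nat.card_congr e.toEquiv).trans hc, e.symm x, e.symm y, ?_, ?_, ?_⟩))
    · rw [MulEquiv.orderOf_eq, hx]
    · rw [MulEquiv.orderOf_eq, hy]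
    · rw [← map_inv, ← map_mul, ← map_mul, hxy, map_pow]

end Cfsg.Agent.S3758
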