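import Cfsg.Statements.S3760
import Mathlib

set_option autoImplicit false
open Cfsg
open scoped commutatorElement

namespace Cfsg.Agent.S3760

/-- Let the group G act transitively on a set X, let x ∈ X with stabilizer H = G_x, and let K ≤ H. Then N_G(K) acts transitively on the set of fixed points of K if and only if every G-conjugate of K contained in H is already an H-conjugate of K. -/
theorem result {G : Type*} [Group G] {X : Type*} [MulAction G X] (htrans : ∀ a b : X, ∃ g : G, g • a = b) (x : X) (K : Subgroup G) (hK : K ≤ MulAction.stabilizer G x) : (∀ a b : X, (∀ k ∈ K, k • a = a) → (∀ k ∈ K, k • b = b) → ∃ g ∈ Subgroup.normalizer (K : Set G), g • a = b) ↔ ∀ g : G, K.map (MulAut.conj g).toMonoidHom ≤ MulAction.stabilizer G x → ∃ h ∈ MulAction.stabilizer G x, K.map (MulAut.conj g).toMonoidHom = K.map (MulAut.conj h).toMonoidHom := by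
  have hconj : ∀ (g : G) (k : G), k ∈ K.map (MulAut.conj g).toMonoidHom ↔ g⁻¹ * k * g ∈ K := by
    intro g k
    constructor
    · rintro ⟨y, hy, rfl⟩
      simpa [mul_assoc] using hy
    · intro h
      exact ⟨g⁻¹ * k * g, h, by simp [mul_assoc]⟩
  constructor
  · intro h g hg
    have hfix : ∀ k ∈ K, k • (g⁻¹ • x) = g⁻¹ • x := by
      intro k hk
      have := hg ((hconj g (g * k * g⁻¹)).mpr (by simpa [mul_assoc] using hk))
      rw [MulAction.mem_stabilizer_iff, mul_smul, mul_smul, smul_eq_iff_eq_inv_smul] at this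
      exact this
    obtain ⟨n, hn, hnx⟩ := h x (g⁻¹ • x) (fun k hk => hK hk) hfix
    refine ⟨g * n, ?_, ?_⟩
    · rw [MulAction.mem_stabilizer_iff, mul_smul, hnx, smul_inv_smul]
    · ext k
      rw [hconj, hconj, show (g * n)⁻¹ * k * (g * n) = n⁻¹ * (g⁻¹ * k * g) * n by group]
      simpa [mul_assoc] using (Subgroup.mem_normalizer_iff.mp (inv_mem hn) (g⁻¹ * k * g))
  · intro h a b ha hb
    suffices main : ∀ b : X, (∀ k ∈ K, k • b = b) → ∃ g ∈ Subgroup.normalizer (K : Set G), g • x = b by
      obtain ⟨n, hn, rfl⟩ := main a ha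
      obtain ⟨m, hm, rfl⟩ := main b hb
      exact ⟨m * n⁻¹, mul_mem hm (inv_mem hn), by rw [mul_smul, inv_smul_smul]⟩
    intro b hb
    obtain ⟨g, rfl⟩ := htrans x b
    obtain ⟨s, hs, he⟩ := h g⁻¹ (fun k hk => by
      rw [hconj, inv_inv] at hk
      have := hb _ hk
      rw [mul_smul, mul_smul, inv_smul_smul, smul_left_cancel_iff] at this
      exact this)
    refine ⟨g * s, ?_, by rw [mul_smul, hs]⟩
    rw [Subgroup.mem_normalizer_iff]
    intro k
    have := SetLike.ext_iff.mp he (s * k * s⁻¹)
    rw [hconj, hconj] at this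
    simpa [mul_assoc] using this.symm

end Cfsg.Agent.S3760
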