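import Cfsg.Statements.S3762
import Mathlib
import Cfsg.Agent.GenA.SymplecticType
import Cfsg.Agent.S3761
import Cfsg.Agent.Lib.Cores.Nilpotent
import Cfsg.Agent.Lib.PLocal.CyclicExtension

set_option autoImplicit false
open Cfsg
open scoped commutatorElement

namespace Cfsg.Agent.S3762
section
open Cfsg.Agent.GenA.SymplecticType Subgroup
variable {G : Type*} [Group G]

theorem char_of (S : Subgroup G) (h : ∀ φ : G ≃* G, ∀ x ∈ S, φ x ∈ S) : S.Characteristic :=
  characteristic_iff_map_le.mpr fun φ => by rintro _ ⟨x, hx, rfl⟩; exact h φ x hx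

theorem char_mem {A : Subgroup G} (hA : A.Characteristic) (φ : G ≃* G) {x : G} (hx : x ∈ A) : φ x ∈ A :=
  characteristic_iff_map_le.mp hA φ ⟨x, hx, rfl⟩

theorem char_centralizer {A : Subgroup G} (hA : A.Characteristic) :
    (centralizer (A : Set G)).Characteristic :=
  char_of _ fun φ x hx => mem_centralizer_iff.mpr fun y hy => by
    obtain ⟨y, rfl⟩ := φ.surjective y
    have hy' : y ∈ A := by simpa using char_mem hA φ.symm hy
    rw [← map_mul, ← map_mul, mem_centralizer_iff.mp hx y hy']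

theorem mem_zpowers_of_cyclic [Finite G] {p : ℕ} [hp : Fact p.Prime] {A : Subgroup G} (hA : IsCyclic A)
    {z t : G} (hz : z ∈ A) (ht : t ∈ A) (hord : orderOf z = p) (htp : t ^ p = 1) : t ∈ zpowers z := by
  classical
  haveI := Fintype.ofFinite ↥A
  have hzA : orderOf (⟨z, hz⟩ : A) = p := by rw [← hord, ← orderOf_submonoid]
  have hsub : (zpowers (⟨z, hz⟩ : A) : Set A).toFinset ⊆ Finset.univ.filter fun a : A => a ^ p = 1 := by
    intro a ha
    simp only [Set.mem_toFinset, SetLike.mem_coe] at ha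
    simp only [Finset.mem_filter, Finset.mem_univ, true_and]
    obtain ⟨i, rfl⟩ := mem_zpowers_iff.mp ha
    rw [← zpow_natCast, zpow_comm, zpow_natCast, ← hzA, pow_orderOf_eq_one, one_zpow]
  have heq := Finset.eq_of_subset_of_card_le hsub ((IsCyclic.card_pow_eq_one_le hp.out.pos).trans (by
    rw [Set.toFinset_card, ← Nat.card_eq_fintype_card]
    exact (Nat.card_zpowers _).trans hzA |>.ge))
  have : (⟨t, ht⟩ : A) ∈ (zpowers (⟨z, hz⟩ : A) : Set A).toFinset := by
    rw [heq]; simp only [Finset.mem_filter, Finset.mem_univ, true_and]; exact Subtype.ext htp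
  simp only [Set.mem_toFinset, SetLike.mem_coe] at this
  obtain ⟨i, hi⟩ := mem_zpowers_iff.mp this
  exact mem_zpowers_iff.mpr ⟨i, by simpa using congrArg Subtype.val hi⟩

/-- A normal subgroup not inside `U` contains an element of order `p` central modulo `U`. -/
theorem exists_central_mod [Finite G] {p : ℕ} [Fact p.Prime] (hG : IsPGroup p G) (U T : Subgroup G)
    [U.Normal] [T.Normal] (hne : ¬ T ≤ U) :
    ∃ t ∈ T, t ∉ U ∧ t ^ p ∈ U ∧ ∀ g : G, ⁅g, t⁆ ∈ U := by
  classical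
  haveI := hG.isNilpotent
  haveI : (T.map (QuotientGroup.mk' U)).Normal := Normal.map ‹_› _ (QuotientGroup.mk'_surjective U)
  obtain ⟨q, hq, hq1⟩ := SetLike.not_le_iff_exists.mp (fun h : T.map (QuotientGroup.mk' U) ⊓ center (G ⧸ U) ≤ ⊥ =>
    Cfsg.Agent.Cores.inf_center_ne_bot (N := T.map (QuotientGroup.mk' U))
      (fun e => hne fun x hx => by
        have : QuotientGroup.mk' U x ∈ T.map (QuotientGroup.mk' U) := mem_map_of_mem _ hx
        rw [e, mem_bot] at this
        exact (QuotientGroup.eq_one_iff x).mp this) (le_bot_iff.mp h))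
  obtain ⟨⟨t, ht, rfl⟩, hc⟩ := hq
  have htU : t ∉ U := fun h => hq1 (mem_bot.mpr ((QuotientGroup.eq_one_iff t).mpr h))
  have hcen : ∀ g : G, ⁅g, t⁆ ∈ U := fun g => by
    rw [← QuotientGroup.eq_one_iff]
    show QuotientGroup.mk' U ⁅g, t⁆ = 1
    rw [map_commutatorElement, commutatorElement_eq_one_iff_mul_comm]
    exact mem_center_iff.mp hc _
  obtain ⟨k, hk⟩ := hG t
  have hex : ∃ j, t ^ p ^ j ∈ U := ⟨k, by rw [hk]; exact one_mem U⟩
  have h0 : Nat.find hex ≠ 0 := fun h => htU (by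
    have := Nat.find_spec hex; rwa [h, pow_zero, pow_one] at this)
  refine ⟨t ^ p ^ (Nat.find hex - 1), pow_mem ht _, Nat.find_min hex (by omega), ?_, fun g => ?_⟩
  · rw [← pow_mul, ← pow_succ, Nat.sub_add_cancel (by omega)]; exact Nat.find_spec hex
  · rw [← QuotientGroup.eq_one_iff]
    show QuotientGroup.mk' U ⁅g, t ^ _⁆ = 1
    rw [map_commutatorElement, map_pow, commutatorElement_eq_one_iff_mul_comm]
    exact mem_center_iff.mp (pow_mem hc _) _

theorem transport {G' : Type*} [Group G'] (e : G ≃* G')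
    (h : (∃ m : ℕ, Nonempty (G ≃* DihedralGroup m)) ∨ (∃ m : ℕ, Nonempty (G ≃* QuaternionGroup m)) ∨ Cfsg.IsQuasiDihedral G) :
    (∃ m : ℕ, Nonempty (G' ≃* DihedralGroup m)) ∨ (∃ m : ℕ, Nonempty (G' ≃* QuaternionGroup m)) ∨ Cfsg.IsQuasiDihedral G' := by
  rcases h with ⟨m, ⟨f⟩⟩ | ⟨m, ⟨f⟩⟩ | ⟨n, hn, hc, x, y, hx, hy, hxy⟩
  · exact Or.inl ⟨m, ⟨e.symm.trans f⟩⟩
  · exact Or.inr (Or.inl ⟨m, ⟨e.symm.trans f⟩⟩)
  · refine Or.inr (Or.inr ⟨n, hn, (Nat.card_congr e.toEquiv).symm.trans hc, e x, e y,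
      (MulEquiv.orderOf_eq e x).trans hx, (MulEquiv.orderOf_eq e y).trans hy, ?_⟩)
    rw [← map_mul, ← map_inv, ← map_mul, hxy, map_pow]

end

/-- Let G be a finite p-group of symplectic type: every characteristic abelian subgroup of G is cyclic. Then G = E ∗ R is a central product of subgroups E and R (they commute elementwise and generate G) where E is extraspecial or trivial, and R is cyclic, or p = 2 and R is dihedral, semidihedral or generalized quaternion of order at least 16. -/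
theorem result {G : Type*} [Group G] [Finite G] {p : ℕ} [Fact p.Prime] (hG : IsPGroup p G) (hsymp : ∀ A : Subgroup G, A.Characteristic → IsMulCommutative A → IsCyclic A) : ∃ E R : Subgroup G, (∀ e ∈ E, ∀ r ∈ R, e * r = r * e) ∧ E ⊔ R = ⊤ ∧ (E = ⊥ ∨ Cfsg.IsExtraspecial p ↥E) ∧ (IsCyclic R ∨ (p = 2 ∧ 16 ≤ Nat.card R ∧ ((∃ m : ℕ, Nonempty (↥R ≃* DihedralGroup m)) ∨ (∃ m : ℕ, Nonempty (↥R ≃* QuaternionGroup m)) ∨ Cfsg.IsQuasiDihedral ↥R))) := by
  classical
  open Cfsg.Agent.GenA.SymplecticType Subgroup in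
  by_cases hab : IsMulCommutative G
  · exact ⟨⊥, ⊤, fun e he r _ => by rw [mem_bot.mp he, one_mul, mul_one], bot_sup_eq _, Or.inl rfl,
      Or.inl (hsymp ⊤ inferInstance ⟨⟨fun a b => Subtype.ext (hab.is_comm.comm (a : G) b)⟩⟩)⟩
  open Cfsg.Agent.GenA.SymplecticType Subgroup in
  have hp : p.Prime := Fact.out
  haveI := hG.isNilpotent
  obtain ⟨U, hUP⟩ := (Set.toFinite {A : Subgroup G | A.Characteristic ∧ IsMulCommutative A}).exists_maximal
    ⟨⊥, Subgroup.botCharacteristic, ⟨⟨fun a b => Subtype.ext (by simp [Subgroup.mem_bot.mp a.2, Subgroup.mem_bot.mp b.2])⟩⟩⟩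
  obtain ⟨hUch, hUab⟩ := hUP.1
  haveI := hUch
  have hUmax : ∀ A : Subgroup G, A.Characteristic → IsMulCommutative A → U ≤ A → A = U := fun A h1 h2 h3 =>
    le_antisymm (hUP.2 ⟨h1, h2⟩ h3) h3
  have hUcomm : ∀ a ∈ U, ∀ b ∈ U, a * b = b * a := fun a ha b hb =>
    congrArg Subtype.val (hUab.is_comm.comm (⟨a, ha⟩ : U) ⟨b, hb⟩)
  have hUcyc := hsymp U hUch hUab
  obtain ⟨u, hu⟩ : ∃ u : G, U = Subgroup.zpowers u := by
    obtain ⟨⟨u, huU⟩, hu⟩ := hUcyc.exists_generator
    refine ⟨u, le_antisymm (fun x hx => ?_) (Subgroup.zpowers_le.mpr huU)⟩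
    obtain ⟨i, hi⟩ := Subgroup.mem_zpowers_iff.mp (hu ⟨x, hx⟩)
    exact Subgroup.mem_zpowers_iff.mpr ⟨i, congrArg Subtype.val hi⟩
  have huU : u ∈ U := hu ▸ Subgroup.mem_zpowers u
  -- the centre lies in `U`
  have hZU : Subgroup.center G ≤ U := by
    have := hUmax (U ⊔ Subgroup.center G) inferInstance ⟨⟨fun a b => Subtype.ext ?_⟩⟩ le_sup_left
    · exact le_sup_right.trans this.le
    · obtain ⟨a1, ha1, a2, ha2, ha⟩ := Subgroup.mem_sup_of_normal_left.mp a.2
      obtain ⟨b1, hb1, b2, hb2, hb⟩ := Subgroup.mem_sup_of_normal_left.mp b.2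
      show (a : G) * b = b * a
      rw [← ha, ← hb]
      have ca := Subgroup.mem_center_iff.mp ha2
      have cb := Subgroup.mem_center_iff.mp hb2
      calc a1 * a2 * (b1 * b2) = a1 * (a2 * b1) * b2 := by group
        _ = a1 * b1 * (a2 * b2) := by rw [← ca]; group
        _ = b1 * a1 * (b2 * a2) := by rw [hUcomm a1 ha1 b1 hb1, cb]
        _ = b1 * (a1 * b2) * a2 := by group
        _ = _ := by rw [cb]; group
  haveI : Nontrivial G := by
    by_contra h
    rw [not_nontrivial_iff_subsingleton] at h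
    exact hab ⟨⟨fun a b => Subsingleton.elim _ _⟩⟩
  obtain ⟨n, hn⟩ := (hG.to_subgroup U).exists_card_eq
  have huo : orderOf u = p ^ n := by rw [← hn, hu, Nat.card_zpowers]
  have hn0 : n ≠ 0 := by
    intro h
    have := hG.center_nontrivial
    rw [Subgroup.nontrivial_iff_ne_bot] at this
    apply this
    rw [eq_bot_iff]
    exact hZU.trans (Subgroup.eq_bot_of_card_eq U (by rw [hn, h, pow_zero])).le
  set z := u ^ p ^ (n - 1) with hz
  have hord : orderOf z = p := by
    rw [hz, orderOf_pow' _ (pow_ne_zero _ hp.ne_zero), huo, Nat.gcd_eq_right (pow_dvd_pow p (by omega)),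
      Nat.pow_div (by omega) hp.pos, show n - (n - 1) = 1 by omega, pow_one]
  have hzU : z ∈ U := pow_mem huU _
  have hzp : z ^ p = 1 := by rw [← hord, pow_orderOf_eq_one]
  have hUp : ∀ x ∈ U, x ^ p = 1 → x ∈ Subgroup.zpowers z := fun x hx hxp => mem_zpowers_of_cyclic hUcyc hzU hx hord hxp
  have hzc : z ∈ Subgroup.center G := by
    haveI : (Subgroup.zpowers z).Normal := ⟨fun y hy g => by
      obtain ⟨i, rfl⟩ := Subgroup.mem_zpowers_iff.mp hy
      refine hUp _ ((inferInstance : U.Normal).conj_mem _ (zpow_mem hzU i) g) ?_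
      rw [conj_pow, ← zpow_natCast, zpow_comm, zpow_natCast, hzp, one_zpow, mul_one, mul_inv_cancel]⟩
    exact Cfsg.Agent.PLocal.CyclicExtension.le_center_of_card_eq hG (by rw [Nat.card_zpowers, hord]) (Subgroup.mem_zpowers z)
  -- the subgroup `C`
  set H := Subgroup.centralizer (U : Set G) with hH
  haveI hHch : H.Characteristic := char_centralizer hUch
  have hUH : U ≤ H := fun x hx => Subgroup.mem_centralizer_iff.mpr fun y hy => hUcomm y hy x hx
  have hHc : ∀ h ∈ H, ∀ v ∈ U, Commute h v := fun h hh v hv => (Subgroup.mem_centralizer_iff.mp hh v hv).symm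
  let C : Subgroup G :=
    { carrier := {h | h ∈ H ∧ h ^ p ∈ U ∧ ∀ x ∈ H, ⁅x, h⁆ ∈ U}
      one_mem' := ⟨one_mem H, by rw [one_pow]; exact one_mem U, fun x _ => by
        rw [commutatorElement_one_right]; exact one_mem U⟩
      mul_mem' := fun {a b} ha hb => by
        refine ⟨mul_mem ha.1 hb.1, ?_, fun x hx => ?_⟩
        · have hc : ⁅b, a⁆ ∈ U := ha.2.2 b hb.1
          have hconj : b * a * b⁻¹ = ⁅b, a⁆ * a := by rw [commutatorElement_def]; group
          rw [Cfsg.Agent.OddLocal.Coprime.mul_pow_of_central_commutator hconj (hHc a ha.1 _ hc).symm (hHc b hb.1 _ hc).symm]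
          exact mul_mem (pow_mem hc _) (mul_mem ha.2.1 hb.2.1)
        · rw [comm_mul_right, (hHc a ha.1 _ (hb.2.2 x hx)).eq, mul_inv_cancel_right]
          exact mul_mem (ha.2.2 x hx) (hb.2.2 x hx)
      inv_mem' := fun {a} ha => by
        refine ⟨inv_mem ha.1, by rw [inv_pow]; exact inv_mem ha.2.1, fun x hx => ?_⟩
        have hc := inv_mem (ha.2.2 x hx)
        rw [show ⁅x, a⁻¹⁆ = a⁻¹ * ⁅x, a⁆⁻¹ * a by simp only [commutatorElement_def]; group,
          ← (hHc a⁻¹ (inv_mem ha.1) _ hc).symm.eq, inv_mul_cancel_right]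
        exact hc }
  have hCmem : ∀ h, h ∈ C ↔ h ∈ H ∧ h ^ p ∈ U ∧ ∀ x ∈ H, ⁅x, h⁆ ∈ U := fun h => Iff.rfl
  have hCch : C.Characteristic := char_of C fun φ x hx => by
    obtain ⟨h1, h2, h3⟩ := (hCmem x).mp hx
    refine (hCmem _).mpr ⟨char_mem hHch φ h1, by rw [← map_pow]; exact char_mem hUch φ h2, fun y hy => ?_⟩
    obtain ⟨y, rfl⟩ := φ.surjective y
    rw [← map_commutatorElement]
    exact char_mem hUch φ (h3 y (by simpa using char_mem hHch φ.symm hy))
  haveI := hCch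
  have hCH : C ≤ H := fun x hx => hx.1
  have hUC : U ≤ C := fun x hx => (hCmem x).mpr ⟨hUH hx, pow_mem hx p, fun y hy => by
    rw [commutatorElement_eq_one_iff_commute.mpr (hHc y hy x hx)]; exact one_mem U⟩
  have hpth : ∀ h ∈ H, ∀ v ∈ U, ∀ d : G, h * d * h⁻¹ = v * d → d ∈ H → h * d ^ p * h⁻¹ = d ^ p → v ∈ Subgroup.zpowers z := by
    intro h _ v hv d hd hdH hdp
    refine hUp v hv ?_
    rw [← conj_pow, hd, (hHc d hdH v hv).symm.mul_pow] at hdp
    exact mul_eq_right.mp hdp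
  have hcommC : ∀ h ∈ H, ∀ d ∈ C, ⁅h, d⁆ ∈ Subgroup.zpowers z := by
    intro h hh d hd
    refine hpth h hh _ (hd.2.2 h hh) d (by rw [commutatorElement_def]; group) hd.1 ?_
    rw [(hHc h hh _ hd.2.1).eq, mul_inv_cancel_right]
  have PC : Pairing p z U C := by
    refine ⟨hUC, hzU, fun a ha b hb => hcommC a ha.1 b hb, fun v hv a ha => (hHc a ha.1 v hv).eq, ?_,
      fun a ha => ha.2.1⟩
    intro a ha hc
    have key := hUmax (C ⊓ Subgroup.centralizer (C : Set G)) (by haveI := char_centralizer hCch; infer_instance)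
      ⟨⟨fun a b => Subtype.ext ((Subgroup.mem_centralizer_iff.mp b.2.2 a a.2.1))⟩⟩
      (fun x hx => ⟨hUC hx, Subgroup.mem_centralizer_iff.mpr fun y hy => (hHc y hy.1 x hx).eq⟩)
    exact key.le ⟨ha, Subgroup.mem_centralizer_iff.mpr fun y hy => (hc y hy).symm⟩
  have hCC : Subgroup.centralizer (C : Set G) ≤ U := by
    by_contra hne
    haveI := char_centralizer hCch
    obtain ⟨t, ht, htU, htp, htc⟩ := exists_central_mod hG U (Subgroup.centralizer (C : Set G)) hne
    have htH : t ∈ H := Subgroup.mem_centralizer_iff.mpr fun y hy => Subgroup.mem_centralizer_iff.mp ht y (hUC hy)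
    exact htU (PC.center t ((hCmem t).mpr ⟨htH, htp, fun x _ => htc x⟩)
      fun b hb => (Subgroup.mem_centralizer_iff.mp ht b hb).symm)
  have hHC : ∀ h ∈ H, h ∈ C := by
    intro h hh
    obtain ⟨d, hd, hd'⟩ := Pairing.dual hord hzc PC h (hcommC h hh) (hHc h hh)
    have h1 : h * d ∈ U := hCC (Subgroup.mem_centralizer_iff.mpr fun y hy => (hd' y hy).eq.symm)
    have := mul_mem (hUC h1) (inv_mem hd)
    rwa [mul_inv_cancel_right] at this
  -- `G` acts trivially on `C / U`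
  have htau : ∀ c ∈ C, ∀ g : G, ⁅g, c⁆ ∈ U := by
    let C₁ : Subgroup G := C ⊓ (Subgroup.center (G ⧸ U)).comap (QuotientGroup.mk' U)
    have hC1 : ∀ c, c ∈ C₁ ↔ c ∈ C ∧ ∀ g : G, ⁅g, c⁆ ∈ U := fun c => by
      simp only [C₁, Subgroup.mem_inf, Subgroup.mem_comap, Subgroup.mem_center_iff]
      refine and_congr_right fun _ => ⟨fun h g => ?_, fun h q => ?_⟩
      · rw [← QuotientGroup.eq_one_iff]
        show QuotientGroup.mk' U ⁅g, c⁆ = 1
        rw [map_commutatorElement, commutatorElement_eq_one_iff_mul_comm]; exact h _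
      · obtain ⟨g, rfl⟩ := QuotientGroup.mk'_surjective U q
        rw [← commutatorElement_eq_one_iff_mul_comm, ← map_commutatorElement]
        exact (QuotientGroup.eq_one_iff _).mpr (h g)
    have hC1ch : C₁.Characteristic := char_of C₁ fun φ x hx => by
      obtain ⟨h1, h2⟩ := (hC1 x).mp hx
      refine (hC1 _).mpr ⟨char_mem hCch φ h1, fun g => ?_⟩
      obtain ⟨g, rfl⟩ := φ.surjective g
      rw [← map_commutatorElement]
      exact char_mem hUch φ (h2 g)
    haveI := hC1ch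
    haveI := char_centralizer hC1ch
    have hUC1 : U ≤ C₁ := fun x hx => (hC1 x).mpr ⟨hUC hx, fun g => by
      rw [commutatorElement_def]
      exact mul_mem ((inferInstance : U.Normal).conj_mem x hx g) (inv_mem hx)⟩
    have hcen : ∀ a ∈ C₁, (∀ b ∈ C₁, a * b = b * a) → a ∈ U := fun a ha hc =>
      (hUmax (C₁ ⊓ Subgroup.centralizer (C₁ : Set G)) inferInstance
        ⟨⟨fun a b => Subtype.ext ((Subgroup.mem_centralizer_iff.mp b.2.2 a a.2.1))⟩⟩
        (fun x hx => ⟨hUC1 hx, Subgroup.mem_centralizer_iff.mpr fun y hy => (hHc y (((hC1 y).mp hy).1).1 x hx).eq⟩)).le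
        ⟨ha, Subgroup.mem_centralizer_iff.mpr fun y hy => (hc y hy).symm⟩
    have hC2 : C ⊓ Subgroup.centralizer (C₁ : Set G) ≤ U := by
      by_contra hne
      obtain ⟨t, ht, htU, htp, htc⟩ := exists_central_mod hG U (C ⊓ Subgroup.centralizer (C₁ : Set G)) hne
      exact htU (hcen t ((hC1 t).mpr ⟨ht.1, htc⟩) fun b hb => (Subgroup.mem_centralizer_iff.mp ht.2 b hb).symm)
    have P1 : Pairing p z U C₁ := ⟨hUC1, hzU, fun a ha b hb => PC.comm a ha.1 b hb.1,
      fun v hv a ha => PC.U_cent v hv a ha.1, hcen, fun a ha => PC.pow a ha.1⟩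
    intro c hc
    obtain ⟨d, hd, hd'⟩ := Pairing.dual hord hzc P1 c (fun d hd => PC.comm c hc d hd.1) (fun v hv => hHc c hc.1 v hv)
    have h1 : c * d ∈ U := hC2 ⟨mul_mem hc hd.1, Subgroup.mem_centralizer_iff.mpr fun y hy => (hd' y hy).eq.symm⟩
    have h2 := mul_mem (hUC1 h1) (inv_mem hd)
    rw [mul_inv_cancel_right] at h2
    exact ((hC1 c).mp h2).2
  rcases eq_or_ne n 1 with hn1 | hn1
  · -- `G` is extraspecial
    have hUz : U = Subgroup.zpowers z := by rw [hu, hz, hn1]; simp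
    have hall : ∀ g : G, g ∈ C := fun g => hHC g (Subgroup.mem_centralizer_iff.mpr fun y hy => by
      obtain ⟨i, rfl⟩ := Subgroup.mem_zpowers_iff.mp (hUz ▸ hy : y ∈ Subgroup.zpowers z)
      exact (Subgroup.mem_center_iff.mp (zpow_mem hzc i) g).symm)
    refine ⟨⊤, ⊥, fun e _ r hr => by rw [Subgroup.mem_bot.mp hr, one_mul, mul_one], sup_bot_eq _, Or.inr ?_,
      Or.inl inferInstance⟩
    have hcen : Subgroup.center G = Subgroup.zpowers z := le_antisymm (hUz ▸ hZU) (Subgroup.zpowers_le.mpr hzc)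
    have hX : Cfsg.IsExtraspecial p G := isExtraspecial hG hord hcen (fun a b => PC.comm a (hall a) b (hall b))
      (fun a => hUz ▸ (hall a).2.1) (by
        by_contra h
        push Not at h
        exact hab ⟨⟨fun a b => commutatorElement_eq_one_iff_mul_comm.mp (h a b)⟩⟩)
    refine isExtraspecial (z := (⟨z, Subgroup.mem_top z⟩ : (⊤ : Subgroup G))) (hG.to_subgroup ⊤) ?_ ?_ ?_ ?_ ?_
    · rw [← hord, ← orderOf_submonoid]
    · ext x
      rw [Subgroup.mem_center_iff, Subgroup.mem_zpowers_iff]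
      constructor
      · intro h
        have hx : (x : G) ∈ Subgroup.center G := Subgroup.mem_center_iff.mpr fun g => congrArg Subtype.val (h ⟨g, Subgroup.mem_top g⟩)
        obtain ⟨i, hi⟩ := Subgroup.mem_zpowers_iff.mp (hcen ▸ hx)
        exact ⟨i, Subtype.ext (by simpa using hi)⟩
      · rintro ⟨i, rfl⟩ g
        exact Subtype.ext (by simpa using Subgroup.mem_center_iff.mp (zpow_mem hzc i) (g : G))
    · intro a b
      obtain ⟨i, hi⟩ := Subgroup.mem_zpowers_iff.mp (PC.comm _ (hall (a : G)) _ (hall (b : G)))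
      exact Subgroup.mem_zpowers_iff.mpr ⟨i, Subtype.ext (by simpa [commutatorElement_def] using hi)⟩
    · intro a
      obtain ⟨i, hi⟩ := Subgroup.mem_zpowers_iff.mp (hUz ▸ (hall (a : G)).2.1)
      exact Subgroup.mem_zpowers_iff.mpr ⟨i, Subtype.ext (by simpa using hi)⟩
    · by_contra h
      push Not at h
      exact hab ⟨⟨fun a b => congrArg Subtype.val (commutatorElement_eq_one_iff_mul_comm.mp
        (h ⟨a, Subgroup.mem_top a⟩ ⟨b, Subgroup.mem_top b⟩))⟩⟩
  have hn2 : 2 ≤ n := by omega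
  have hzpow : ∀ x ∈ Subgroup.zpowers z, ∃ v ∈ U, x = v ^ p := by
    intro x hx
    obtain ⟨i, rfl⟩ := Subgroup.mem_zpowers_iff.mp hx
    refine ⟨(u ^ p ^ (n - 2)) ^ i, zpow_mem (pow_mem huU _) i, ?_⟩
    have e : (u ^ p ^ (n - 2)) ^ p = z := by rw [hz, ← pow_mul, ← pow_succ]; congr 2; omega
    rw [← zpow_natCast, zpow_comm, zpow_natCast, e]
  -- every coset of `U` in `C` has an element of order dividing `p`
  have hmulp : ∀ a ∈ C, ∀ b ∈ C, ∃ v ∈ U, (a * b) ^ p = v ^ p * (a ^ p * b ^ p) := by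
    intro a ha b hb
    have hc := PC.comm b hb a ha
    have hconj : b * a * b⁻¹ = ⁅b, a⁆ * a := by rw [commutatorElement_def]; group
    have hcU : ⁅b, a⁆ ∈ U := ha.2.2 b hb.1
    obtain ⟨v, hv, hv'⟩ := hzpow _ (pow_mem hc (p.choose 2))
    exact ⟨v, hv, by rw [Cfsg.Agent.OddLocal.Coprime.mul_pow_of_central_commutator hconj (hHc a ha.1 _ hcU).symm (hHc b hb.1 _ hcU).symm, hv']⟩
  let W : Subgroup G :=
    { carrier := {c | c ∈ C ∧ ∃ v ∈ U, c ^ p = v ^ p}
      one_mem' := ⟨one_mem C, 1, one_mem U, rfl⟩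
      mul_mem' := fun {a b} ha hb => by
        obtain ⟨hac, v, hv, hva⟩ := ha
        obtain ⟨hbc, w, hw, hwb⟩ := hb
        obtain ⟨v', hv', he⟩ := hmulp a hac b hbc
        refine ⟨mul_mem hac hbc, v' * (v * w), mul_mem hv' (mul_mem hv hw), ?_⟩
        rw [he, hva, hwb, (show Commute v' (v * w) from hUcomm v' hv' _ (mul_mem hv hw)).mul_pow,
          (show Commute v w from hUcomm v hv w hw).mul_pow]
      inv_mem' := fun {a} ha => by
        obtain ⟨hac, v, hv, hva⟩ := ha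
        exact ⟨inv_mem hac, v⁻¹, inv_mem hv, by rw [inv_pow, inv_pow, hva]⟩ }
  have hWmem : ∀ c, c ∈ W ↔ c ∈ C ∧ ∃ v ∈ U, c ^ p = v ^ p := fun c => Iff.rfl
  have hWch : W.Characteristic := char_of W fun φ x hx => by
    obtain ⟨h1, v, hv, h2⟩ := (hWmem x).mp hx
    exact (hWmem _).mpr ⟨char_mem hCch φ h1, φ v, char_mem hUch φ hv, by rw [← map_pow, ← map_pow, h2]⟩
  haveI := hWch
  haveI := char_centralizer hWch
  have hUW : U ≤ W := fun x hx => (hWmem x).mpr ⟨hUC hx, x, hx, rfl⟩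
  have hcov : ∀ c ∈ C, c ∈ W := by
    have hcenW : ∀ a ∈ W, (∀ b ∈ W, a * b = b * a) → a ∈ U := fun a ha hc =>
      (hUmax (W ⊓ Subgroup.centralizer (W : Set G)) inferInstance
        ⟨⟨fun a b => Subtype.ext ((Subgroup.mem_centralizer_iff.mp b.2.2 a a.2.1))⟩⟩
        (fun x hx => ⟨hUW hx, Subgroup.mem_centralizer_iff.mpr fun y hy => (hHc y hy.1.1 x hx).eq⟩)).le
        ⟨ha, Subgroup.mem_centralizer_iff.mpr fun y hy => (hc y hy).symm⟩
    have PW : Pairing p z U W := ⟨hUW, hzU, fun a ha b hb => PC.comm a ha.1 b hb.1,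
      fun v hv a ha => PC.U_cent v hv a ha.1, hcenW, fun a ha => PC.pow a ha.1⟩
    have hsplit : ∀ c ∈ C, ∃ d ∈ W, c * d ∈ C ⊓ Subgroup.centralizer (W : Set G) := fun c hc => by
      obtain ⟨d, hd, hd'⟩ := Pairing.dual hord hzc PW c (fun d hd => PC.comm c hc d hd.1) (fun v hv => hHc c hc.1 v hv)
      exact ⟨d, hd, mul_mem hc hd.1, Subgroup.mem_centralizer_iff.mpr fun y hy => (hd' y hy).eq.symm⟩
    have hS : ∀ s ∈ C ⊓ Subgroup.centralizer (W : Set G), s ∈ U := by
      intro s hs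
      have hSW : ∀ x ∈ C ⊓ Subgroup.centralizer (W : Set G), x ∈ W → x ∈ U := fun x hx hxW =>
        hcenW x hxW fun b hb => (Subgroup.mem_centralizer_iff.mp hx.2 b hb).symm
      have hgen : ∀ x ∈ C, x ∉ W → ∃ i : ℤ, x ^ p = u ^ i ∧ ¬ (p : ℤ) ∣ i := by
        intro x hx hxW
        obtain ⟨i, hi⟩ := Subgroup.mem_zpowers_iff.mp (hu ▸ hx.2.1)
        refine ⟨i, hi.symm, fun ⟨j, hj⟩ => hxW ((hWmem x).mpr ⟨hx, u ^ j, zpow_mem huU j, ?_⟩)⟩
        rw [← hi, hj, ← zpow_natCast, ← zpow_mul, mul_comm]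
      refine PC.center s hs.1 fun y hy => ?_
      obtain ⟨d, hd, hyd⟩ := hsplit y hy
      have hsd : Commute s d := (Subgroup.mem_centralizer_iff.mp hs.2 d hd).symm
      suffices hsuff : ∀ a ∈ C ⊓ Subgroup.centralizer (W : Set G), ∀ b ∈ C ⊓ Subgroup.centralizer (W : Set G), Commute a b by
        have := (hsuff s hs _ hyd).mul_right hsd.inv_right
        rw [mul_inv_cancel_right] at this
        exact this.eq
      intro a ha b hb
      by_cases haW : a ∈ W
      · exact ((hHc b hb.1.1 a (hSW a ha haW)).symm)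
      by_cases hbW : b ∈ W
      · exact hHc a ha.1.1 b (hSW b hb hbW)
      obtain ⟨i, hi, hpi⟩ := hgen a ha.1 haW
      obtain ⟨j, hj, -⟩ := hgen b hb.1 hbW
      obtain ⟨r, w, hrw⟩ := (Nat.prime_iff_prime_int.1 hp).coprime_iff_not_dvd.2 hpi
      have hak : a ^ (-j * w) ∈ C ⊓ Subgroup.centralizer (W : Set G) := zpow_mem ha _
      have habW : a ^ (-j * w) * b ∈ W := by
        obtain ⟨v, hv, he⟩ := hmulp _ hak.1 b hb.1
        refine (hWmem _).mpr ⟨mul_mem hak.1 hb.1, v * u ^ (j * r), mul_mem hv (zpow_mem huU _), ?_⟩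
        rw [he, (show Commute v (u ^ (j * r)) from hUcomm v hv _ (zpow_mem huU _)).mul_pow]
        congr 1
        rw [show (a ^ (-j * w)) ^ p = (a ^ p) ^ (-j * w) by rw [← zpow_natCast, zpow_comm, zpow_natCast],
          hi, hj, ← zpow_mul, ← zpow_add, ← zpow_natCast, ← zpow_mul]
        congr 1
        linear_combination (-j) * hrw
      have hU' := hSW _ (mul_mem hak hb) habW
      have h1 : Commute a (a ^ (-j * w) * b) := hHc a ha.1.1 _ hU'
      have := ((Commute.refl a).zpow_right (-j * w)).inv_right.mul_right h1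
      rwa [inv_mul_cancel_left] at this
    intro c hc
    obtain ⟨d, hd, hcd⟩ := hsplit c hc
    have := mul_mem (hUW (hS _ hcd)) (inv_mem hd)
    rwa [mul_inv_cancel_right] at this
  have hlift : ∀ d ∈ C, ∃ e ∈ C, ∃ v ∈ U, e ^ p = 1 ∧ d = e * v := by
    intro d hd
    obtain ⟨-, v, hv, he⟩ := (hWmem d).mp (hcov d hd)
    refine ⟨d * v⁻¹, mul_mem hd (inv_mem (hUC hv)), v, hv, ?_, by rw [inv_mul_cancel_right]⟩
    rw [(hHc d hd.1 v⁻¹ (inv_mem hv)).mul_pow, he, inv_pow, mul_inv_cancel]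
  obtain ⟨E₀, hE₀C, hE₀cov, hE₀int, hE₀z, hE₀p⟩ := Pairing.exists_complement hord hzc PC hlift
  obtain ⟨E, hEC, hEcov, hEint, hEz, hEp⟩ : ∃ E : Subgroup G, E ≤ C ∧ (∀ d ∈ C, ∃ e ∈ E, ∃ v ∈ U, d = e * v) ∧
      (∀ x ∈ E, x ∈ U → x ∈ Subgroup.zpowers z) ∧
      ((E = ⊥ ∧ C ≤ U) ∨ (¬ C ≤ U ∧ z ∈ E)) ∧ (p ≠ 2 → ∀ x ∈ E, x ^ p = 1) := by
    by_cases h : C ≤ U
    · exact ⟨⊥, bot_le, fun d hd => ⟨1, one_mem _, d, h hd, (one_mul d).symm⟩,
        fun x hx _ => by rw [Subgroup.mem_bot.mp hx]; exact one_mem _, Or.inl ⟨rfl, h⟩,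
        fun _ x hx => by rw [Subgroup.mem_bot.mp hx, one_pow]⟩
    · exact ⟨E₀, hE₀C, hE₀cov, hE₀int, Or.inr ⟨h, hE₀z h⟩, hE₀p⟩
  have hEcenter : ∀ e ∈ E, (∀ b ∈ E, e * b = b * e) → e ∈ Subgroup.zpowers z := fun e he hc =>
    hEint e he (PC.center e (hEC he) fun y hy => by
      obtain ⟨b, hb, v, hv, rfl⟩ := hEcov y hy
      exact ((show Commute e b from hc b hb).mul_right (hHc e (hEC he).1 v hv)).eq)
  have hEpow : ∀ e ∈ E, e ^ p ∈ Subgroup.zpowers z := fun e he =>
    hEint _ (pow_mem he p) (hEC he).2.1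
  have hEX : E = ⊥ ∨ Cfsg.IsExtraspecial p ↥E := by
    rcases hEz with ⟨h, -⟩ | ⟨hCU, hzE⟩
    · exact Or.inl h
    refine Or.inr (isExtraspecial (z := (⟨z, hzE⟩ : E)) (hG.to_subgroup E) ?_ ?_ ?_ ?_ ?_)
    · rw [← hord, ← orderOf_submonoid]
    · ext x
      rw [Subgroup.mem_center_iff, Subgroup.mem_zpowers_iff]
      constructor
      · intro h
        obtain ⟨i, hi⟩ := Subgroup.mem_zpowers_iff.mp (hEcenter x x.2 fun b hb => (congrArg Subtype.val (h ⟨b, hb⟩)).symm)
        exact ⟨i, Subtype.ext (by simpa using hi)⟩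
      · rintro ⟨i, rfl⟩ g
        exact Subtype.ext (by simpa using Subgroup.mem_center_iff.mp (zpow_mem hzc i) (g : G))
    · intro a b
      obtain ⟨i, hi⟩ := Subgroup.mem_zpowers_iff.mp (PC.comm _ (hEC a.2) _ (hEC b.2))
      exact Subgroup.mem_zpowers_iff.mpr ⟨i, Subtype.ext (by simpa [commutatorElement_def] using hi)⟩
    · intro a
      obtain ⟨i, hi⟩ := Subgroup.mem_zpowers_iff.mp (hEpow a a.2)
      exact Subgroup.mem_zpowers_iff.mpr ⟨i, Subtype.ext (by simpa using hi)⟩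
    · by_contra h
      push Not at h
      refine hCU fun c hc => ?_
      obtain ⟨e, he, v, hv, rfl⟩ := hEcov c hc
      exact mul_mem (Subgroup.zpowers_le.mpr hzU (hEcenter e he fun b hb => congrArg Subtype.val
        (commutatorElement_eq_one_iff_mul_comm.mp (h ⟨e, he⟩ ⟨b, hb⟩)))) hv
  set R := Subgroup.centralizer (E : Set G) with hR
  have hRc : ∀ e ∈ E, ∀ r ∈ R, e * r = r * e := fun e he r hr => Subgroup.mem_centralizer_iff.mp hr e he
  have hUR : U ≤ R := fun x hx => Subgroup.mem_centralizer_iff.mpr fun e he => (hHc e (hEC he).1 x hx).eq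
  -- `G = E R`
  have hdecomp : ∀ g : G, ∃ e ∈ E, ∃ r ∈ R, g = r * e := by
    intro g
    rcases hEz with ⟨h, -⟩ | ⟨hCU, hzE⟩
    · exact ⟨1, one_mem E, g, Subgroup.mem_centralizer_iff.mpr fun e he => by
        rw [Subgroup.mem_bot.mp (h ▸ he : e ∈ (⊥ : Subgroup G)), one_mul, mul_one], (mul_one g).symm⟩
    have PE : Pairing p z (Subgroup.zpowers z) E := ⟨Subgroup.zpowers_le.mpr hzE, Subgroup.mem_zpowers z,
      fun a ha b hb => PC.comm a (hEC ha) b (hEC hb),
      fun v hv a _ => Subgroup.mem_center_iff.mp (Subgroup.zpowers_le.mpr hzc hv) a, hEcenter, hEpow⟩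
    obtain ⟨d, hd, hd'⟩ := Pairing.dual hord hzc PE g (fun e he => by
      refine hUp _ (htau e (hEC he) g) ?_
      have h1 : g * e * g⁻¹ = ⁅g, e⁆ * e := by rw [commutatorElement_def]; group
      have h2 : g * e ^ p * g⁻¹ = e ^ p := by
        rw [Subgroup.mem_center_iff.mp (Subgroup.zpowers_le.mpr hzc (hEpow e he)) g, mul_inv_cancel_right]
      rw [← conj_pow, h1, (hHc e (hEC he).1 _ (htau e (hEC he) g)).symm.mul_pow] at h2
      exact mul_eq_right.mp h2) (fun v hv => Subgroup.mem_center_iff.mp (Subgroup.zpowers_le.mpr hzc hv) g)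
    exact ⟨d⁻¹, inv_mem hd, g * d, Subgroup.mem_centralizer_iff.mpr fun y hy => (hd' y hy).eq.symm, (mul_inv_cancel_right g d).symm⟩
  have hsup : E ⊔ R = ⊤ := eq_top_iff.mpr fun g _ => by
    obtain ⟨e, he, r, hr, rfl⟩ := hdecomp g
    exact mul_mem (Subgroup.mem_sup_right hr) (Subgroup.mem_sup_left he)
  have hRself : ∀ r ∈ R, r ∈ H → r ∈ U := by
    intro r hr hrH
    refine PC.center r (hHC r hrH) fun y hy => ?_
    obtain ⟨e, he, v, hv, rfl⟩ := hEcov y hy
    exact ((show Commute r e from (hRc e he r hr).symm).mul_right (hHc r hrH v hv)).eq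
  by_cases hRab : IsMulCommutative R
  · refine ⟨E, R, hRc, hsup, hEX, Or.inl ?_⟩
    have hRU : R = U := le_antisymm (fun r hr => hRself r hr (Subgroup.mem_centralizer_iff.mpr fun y hy =>
      congrArg Subtype.val (hRab.is_comm.comm (⟨y, hUR hy⟩ : R) ⟨r, hr⟩))) hUR
    rw [hRU]; exact hUcyc
  by_cases hsmall : p = 2 ∧ n = 2
  · obtain ⟨rfl, rfl⟩ := hsmall
    -- `G` is extraspecial
    have hu2 : u ^ 2 = z := by rw [hz]; norm_num
    have hUelts : ∀ x ∈ U, x ^ 2 ∈ Subgroup.zpowers z ∧ (x ∈ Subgroup.zpowers z ∨ Subgroup.zpowers x = U) := by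
      intro x hx
      obtain ⟨i, rfl⟩ := Subgroup.mem_zpowers_iff.mp (hu ▸ hx : x ∈ Subgroup.zpowers u)
      refine ⟨Subgroup.mem_zpowers_iff.mpr ⟨i, by rw [← hu2, ← zpow_natCast u, ← zpow_natCast (u ^ i), zpow_comm]⟩, ?_⟩
      rcases Int.even_or_odd i with ⟨k, hk⟩ | ⟨k, hk⟩
      · exact Or.inl (Subgroup.mem_zpowers_iff.mpr ⟨k, by rw [← hu2, hk, ← zpow_natCast u, ← zpow_mul]; ring_nf⟩)
      · right
        rw [hu]
        refine le_antisymm (Subgroup.zpowers_le.mpr (zpow_mem (Subgroup.mem_zpowers u) i)) (Subgroup.zpowers_le.mpr ?_)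
        refine Subgroup.mem_zpowers_iff.mpr ⟨i, ?_⟩
        rw [← zpow_mul, show i * i = 1 + ((4 : ℕ) : ℤ) * (k * k + k) by rw [hk]; push_cast; ring, zpow_add, zpow_one,
          zpow_mul, zpow_natCast, show u ^ 4 = 1 by rw [show (4:ℕ) = orderOf u by rw [huo]; norm_num, pow_orderOf_eq_one],
          one_zpow, mul_one]
    have hgenU : ∀ x ∈ U, Subgroup.zpowers x = U → ∀ g : G, Commute g x → ∀ y ∈ U, Commute g y := by
      intro x _ hxU g hg y hy
      obtain ⟨i, rfl⟩ := Subgroup.mem_zpowers_iff.mp (hxU.symm ▸ hy : y ∈ Subgroup.zpowers x)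
      exact hg.zpow_right i
    have hRsq : ∀ r ∈ R, r ^ 2 ∈ Subgroup.zpowers z := by
      intro r hr
      by_cases hrU : r ∈ U
      · exact (hUelts r hrU).1
      have hconjU := (inferInstance : U.Normal).conj_mem u huU r
      obtain ⟨i, hi⟩ := Subgroup.mem_zpowers_iff.mp (hu ▸ hconjU : r * u * r⁻¹ ∈ Subgroup.zpowers u)
      have hodd : Odd i := by
        rcases Int.even_or_odd i with ⟨k, hk⟩ | h
        · exfalso
          have h1 : (r * u * r⁻¹) ^ 2 = 1 := by
            rw [← hi, hk, ← zpow_natCast, ← zpow_mul, show (k + k) * ((2 : ℕ) : ℤ) = ((4 : ℕ) : ℤ) * k by push_cast; ring,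
              zpow_mul, zpow_natCast, show u ^ 4 = 1 by rw [show (4:ℕ) = orderOf u by rw [huo]; norm_num, pow_orderOf_eq_one], one_zpow]
          rw [conj_pow, hu2] at h1
          have : z = 1 := by rw [conj_eq_one_iff] at h1; exact h1
          rw [this, orderOf_one] at hord; omega
        · exact h
      have hr2 : Commute (r ^ 2) u := by
        obtain ⟨k, hk⟩ := hodd
        have h4 : ∀ m : ℤ, u ^ (((4 : ℕ) : ℤ) * m) = 1 := fun m => by
          rw [zpow_mul, zpow_natCast, show u ^ 4 = 1 by rw [show (4:ℕ) = orderOf u by rw [huo]; norm_num, pow_orderOf_eq_one], one_zpow]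
        have h1 : r ^ 2 * u * (r ^ 2)⁻¹ = u := by
          calc r ^ 2 * u * (r ^ 2)⁻¹ = r * (r * u * r⁻¹) * r⁻¹ := by rw [pow_two]; group
            _ = u ^ (i * i) := by rw [← hi, ← conj_zpow, ← hi, ← zpow_mul]
            _ = u := by
              rw [show i * i = ((4 : ℕ) : ℤ) * (k * k + k) + 1 by rw [hk]; push_cast; ring, zpow_add, h4, one_mul, zpow_one]
        exact mul_inv_eq_iff_eq_mul.mp h1
      have hr2H : r ^ 2 ∈ H := Subgroup.mem_centralizer_iff.mpr fun y hy =>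
        (hgenU u huU hu.symm _ hr2 y hy).eq.symm
      have hr2U := hRself _ (pow_mem hr 2) hr2H
      rcases (hUelts _ hr2U).2 with h | h
      · exact h
      · exact absurd (hRself r hr (Subgroup.mem_centralizer_iff.mpr fun y hy =>
          (hgenU _ hr2U h r ((Commute.refl r).pow_right 2) y hy).eq.symm)) hrU
    have hsq : ∀ g : G, g ^ 2 ∈ Subgroup.zpowers z := by
      intro g
      obtain ⟨e, he, r, hr, rfl⟩ := hdecomp g
      rw [(show Commute r e from (hRc e he r hr).symm).mul_pow]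
      exact mul_mem (hRsq r hr) (hEpow e he)
    have hsqc : ∀ g : G, g ^ 2 ∈ Subgroup.center G := fun g => Subgroup.zpowers_le.mpr hzc (hsq g)
    have hcen : Subgroup.center G = Subgroup.zpowers z := by
      refine le_antisymm (fun x hx => ?_) (Subgroup.zpowers_le.mpr hzc)
      rcases (hUelts x (hZU hx)).2 with h | h
      · exact h
      exfalso
      have hUc : ∀ g : G, ∀ y ∈ U, Commute g y := fun g =>
        hgenU x (hZU hx) h g (Subgroup.mem_center_iff.mp hx g)
      apply hRab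
      refine ⟨⟨fun a b => Subtype.ext ?_⟩⟩
      have ha : (a : G) ∈ U := hRself a a.2 (Subgroup.mem_centralizer_iff.mpr fun y hy => (hUc a y hy).eq.symm)
      exact ((hUc b a ha).eq).symm
    have hcc : ∀ a b : G, ⁅a, b⁆ ∈ Subgroup.zpowers z := by
      intro a b
      have e : ⁅a, b⁆ = (a * b) ^ 2 * ((a ^ 2)⁻¹ * (b ^ 2)⁻¹) := by
        have h1 := Subgroup.mem_center_iff.mp (inv_mem (hsqc a)) b⁻¹
        calc ⁅a, b⁆ = a * b * a * ((a ^ 2)⁻¹ * b⁻¹) := by rw [commutatorElement_def, pow_two]; group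
          _ = a * b * a * (b⁻¹ * (a ^ 2)⁻¹) := by rw [h1]
          _ = a * b * (a * b) * ((b ^ 2)⁻¹ * (a ^ 2)⁻¹) := by rw [pow_two b]; group
          _ = _ := by rw [← pow_two, Subgroup.mem_center_iff.mp (inv_mem (hsqc a)) (b ^ 2)⁻¹]
      rw [e]
      exact mul_mem (hsq _) (mul_mem (inv_mem (hsq _)) (inv_mem (hsq _)))
    refine ⟨⊤, ⊥, fun e _ r hr => by rw [Subgroup.mem_bot.mp hr, one_mul, mul_one], sup_bot_eq _, Or.inr ?_,
      Or.inl inferInstance⟩
    refine isExtraspecial (z := (⟨z, Subgroup.mem_top z⟩ : (⊤ : Subgroup G))) (hG.to_subgroup ⊤) ?_ ?_ ?_ ?_ ?_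
    · rw [← hord, ← orderOf_submonoid]
    · ext x
      rw [Subgroup.mem_center_iff, Subgroup.mem_zpowers_iff]
      constructor
      · intro h
        have hx : (x : G) ∈ Subgroup.center G := Subgroup.mem_center_iff.mpr fun g => congrArg Subtype.val (h ⟨g, Subgroup.mem_top g⟩)
        obtain ⟨i, hi⟩ := Subgroup.mem_zpowers_iff.mp (hcen ▸ hx)
        exact ⟨i, Subtype.ext (by simpa using hi)⟩
      · rintro ⟨i, rfl⟩ g
        exact Subtype.ext (by simpa using Subgroup.mem_center_iff.mp (zpow_mem hzc i) (g : G))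
    · intro a b
      obtain ⟨i, hi⟩ := Subgroup.mem_zpowers_iff.mp (hcc (a : G) b)
      exact Subgroup.mem_zpowers_iff.mpr ⟨i, Subtype.ext (by simpa [commutatorElement_def] using hi)⟩
    · intro a
      obtain ⟨i, hi⟩ := Subgroup.mem_zpowers_iff.mp (hsq (a : G))
      exact Subgroup.mem_zpowers_iff.mpr ⟨i, Subtype.ext (by simpa using hi)⟩
    · by_contra h
      push Not at h
      exact hab ⟨⟨fun a b => congrArg Subtype.val (commutatorElement_eq_one_iff_mul_comm.mp
        (h ⟨a, Subgroup.mem_top a⟩ ⟨b, Subgroup.mem_top b⟩))⟩⟩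
  -- apply the classification of groups with a self-centralising cyclic normal subgroup
  haveI : (U.subgroupOf R).Normal := (inferInstance : U.Normal).subgroupOf R
  have hUR' : Subgroup.centralizer ((U.subgroupOf R : Subgroup R) : Set R) = U.subgroupOf R := by
    refine le_antisymm (fun r hr => ?_) (fun r hr => Subgroup.mem_centralizer_iff.mpr fun y hy => Subtype.ext (hUcomm _ hy _ hr))
    exact hRself r r.2 (Subgroup.mem_centralizer_iff.mpr fun y hy =>
      congrArg Subtype.val (Subgroup.mem_centralizer_iff.mp hr ⟨y, hUR hy⟩ hy))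
  have hcardU : Nat.card (U.subgroupOf R) = p ^ n := by
    rw [← hn]; exact Nat.card_congr (Subgroup.subgroupOfEquivOfLe hUR).toEquiv
  have hcycR : IsCyclic (U.subgroupOf R) := isCyclic_of_surjective _ (Subgroup.subgroupOfEquivOfLe hUR).symm.surjective
  rcases Cfsg.Agent.S3761.result (hG.to_subgroup R) hRab (U.subgroupOf R) hcycR n hcardU hUR' with ⟨hp2, hcardR, htype⟩ | ⟨hrel, hel, hcardΩ, -⟩
  · refine ⟨E, R, hRc, hsup, hEX, Or.inr ⟨hp2, ?_, htype⟩⟩
    rw [hcardR]
    have : 3 ≤ n := by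
      by_contra h
      exact hsmall ⟨hp2, by omega⟩
    calc 16 = 2 ^ 4 := by norm_num
      _ ≤ 2 ^ (n + 1) := Nat.pow_le_pow_right (by norm_num) (by omega)
  exfalso
  set PU := Cfsg.powerClosure p 1 (U.subgroupOf R)
  set MR := Subgroup.centralizer (PU : Set R) with hMR
  have hupR : (⟨u, hUR huU⟩ : R) ^ p ∈ PU := Subgroup.subset_closure ⟨⟨u, hUR huU⟩, huU, by rw [pow_one]⟩
  obtain ⟨t, htR, htU, htp, htM⟩ : ∃ t : G, t ∈ R ∧ t ∉ U ∧ t ^ p = 1 ∧ Commute t (u ^ p) := by
    by_contra hno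
    push Not at hno
    have hle : Cfsg.omegaOne p MR ≤ (Subgroup.zpowers z).subgroupOf R := by
      refine (Subgroup.closure_le _).mpr fun x hx => ?_
      obtain ⟨hxM, hxp⟩ := hx
      have hxp' : (x : G) ^ p = 1 := by simpa using congrArg Subtype.val hxp
      refine hUp _ ?_ hxp'
      by_contra hxU
      exact hno x x.2 hxU hxp' (congrArg Subtype.val (Subgroup.mem_centralizer_iff.mp hxM _ hupR)).symm
    have h1 := Subgroup.card_le_of_le hle
    rw [hcardΩ] at h1
    have h2 : Nat.card ((Subgroup.zpowers z).subgroupOf R) = p := by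
      rw [Nat.card_congr (Subgroup.subgroupOfEquivOfLe ((Subgroup.zpowers_le.mpr hzU).trans hUR)).toEquiv, Nat.card_zpowers, hord]
    rw [h2, pow_two] at h1
    have := hp.two_le
    nlinarith
  have htu : ⁅t, u⁆ ∈ Subgroup.zpowers z := by
    have hcU : ⁅t, u⁆ ∈ U := by
      rw [commutatorElement_def]; exact mul_mem ((inferInstance : U.Normal).conj_mem u huU t) (inv_mem huU)
    refine hUp _ hcU ?_
    have h1 : t * u * t⁻¹ = ⁅t, u⁆ * u := by rw [commutatorElement_def]; group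
    have h2 : t * u ^ p * t⁻¹ = u ^ p := by rw [htM.eq, mul_inv_cancel_right]
    rw [← conj_pow, h1, (show Commute ⁅t, u⁆ u from hUcomm _ hcU u huU).mul_pow] at h2
    exact mul_eq_right.mp h2
  have htMR : (⟨t, htR⟩ : R) ∈ MR := by
    refine Subgroup.mem_centralizer_iff.mpr fun y hy => ?_
    have : PU ≤ Subgroup.centralizer ({(⟨t, htR⟩ : R)} : Set R) := by
      refine (Subgroup.closure_le _).mpr ?_
      rintro _ ⟨x, hx, rfl⟩
      refine Subgroup.mem_centralizer_singleton_iff.mpr (Subtype.ext ?_)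
      obtain ⟨i, hi⟩ := Subgroup.mem_zpowers_iff.mp (hu ▸ hx : (x : G) ∈ Subgroup.zpowers u)
      have hc : Commute t ((x : G) ^ p) := by
        rw [← hi, ← zpow_natCast, zpow_comm, zpow_natCast]; exact htM.zpow_right i
      simpa using hc.eq.symm
    exact Subgroup.mem_centralizer_singleton_iff.mp (this hy)
  -- the subgroup generated by elements of small order in `M`
  set M := Subgroup.centralizer ({u ^ p} : Set G) with hM
  have hMU : ∀ g ∈ M, ∀ y ∈ U, Commute g (y ^ p) := by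
    intro g hg y hy
    obtain ⟨i, rfl⟩ := Subgroup.mem_zpowers_iff.mp (hu ▸ hy : y ∈ Subgroup.zpowers u)
    rw [← zpow_natCast, zpow_comm, zpow_natCast]
    exact (show Commute g (u ^ p) from Subgroup.mem_centralizer_singleton_iff.mp hg).zpow_right i
  have hMch : ∀ φ : G ≃* G, ∀ x ∈ M, φ x ∈ M := fun φ x hx => by
    refine Subgroup.mem_centralizer_singleton_iff.mpr ?_
    have h1 := (hMU x hx (φ.symm u) (char_mem hUch φ.symm huU)).map φ.toMonoidHom
    simpa using h1.eq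
  have hform : ∀ x ∈ M, ∃ e ∈ E, ∃ i j : ℤ, x = e * (u ^ i * t ^ j) := by
    intro x hx
    obtain ⟨e, he, r, hr, rfl⟩ := hdecomp x
    have hrM : Commute r (u ^ p) := by
      have h1 : Commute e (u ^ p) := hHc e (hEC he).1 _ (pow_mem huU p)
      have h2 : Commute (r * e) (u ^ p) := Subgroup.mem_centralizer_singleton_iff.mp hx
      have := h2.mul_left h1.inv_left
      rwa [mul_inv_cancel_right] at this
    have hrMR : (⟨r, hr⟩ : R) ∈ MR := by
      refine Subgroup.mem_centralizer_iff.mpr fun y hy => ?_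
      have : PU ≤ Subgroup.centralizer ({(⟨r, hr⟩ : R)} : Set R) := by
        refine (Subgroup.closure_le _).mpr ?_
        rintro _ ⟨x, hx, rfl⟩
        refine Subgroup.mem_centralizer_singleton_iff.mpr (Subtype.ext ?_)
        obtain ⟨i, hi⟩ := Subgroup.mem_zpowers_iff.mp (hu ▸ hx : (x : G) ∈ Subgroup.zpowers u)
        have hc : Commute r ((x : G) ^ p) := by
          rw [← hi, ← zpow_natCast, zpow_comm, zpow_natCast]; exact hrM.zpow_right i
        simpa using hc.eq.symm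
      exact Subgroup.mem_centralizer_singleton_iff.mp (this hy)
    set UM := (U.subgroupOf R).subgroupOf MR with hUM
    have hcard : Nat.card (MR ⧸ UM) = p := hrel
    have hne : QuotientGroup.mk' UM ⟨⟨t, htR⟩, htMR⟩ ≠ 1 := fun h => htU
      ((QuotientGroup.eq_one_iff (N := UM) (⟨⟨t, htR⟩, htMR⟩ : MR)).mp h)
    have hmem := mem_zpowers_of_prime_card (p := p) hcard hne (g' := QuotientGroup.mk' UM ⟨⟨r, hr⟩, hrMR⟩)
    obtain ⟨j, hj⟩ := Subgroup.mem_zpowers_iff.mp hmem
    rw [← map_zpow, QuotientGroup.mk'_eq_mk'] at hj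
    obtain ⟨v, hv, hv'⟩ := hj
    have hvU : (((v : MR) : R) : G) ∈ U := hv
    have hreq : r = t ^ j * (((v : MR) : R) : G) := by
      have := congrArg (fun m : MR => ((m : R) : G)) hv'
      simpa using this.symm
    have hv2 : t ^ j * (((v : MR) : R) : G) * (t ^ j)⁻¹ ∈ U := (inferInstance : U.Normal).conj_mem _ hvU _
    obtain ⟨i, hi⟩ := Subgroup.mem_zpowers_iff.mp (hu ▸ hv2 : t ^ j * (((v : MR) : R) : G) * (t ^ j)⁻¹ ∈ Subgroup.zpowers u)
    refine ⟨e, he, i, j, ?_⟩
    rw [hi, inv_mul_cancel_right, ← hreq, hRc e he r hr]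
  have hsmall' : ∀ x ∈ M, x ^ p ^ (n - 1) = 1 → Commute x t := by
    intro x hxM hxp
    obtain ⟨e, he, i, j, rfl⟩ := hform x hxM
    have hzt : ∀ m : ℤ, z ^ m ∈ Subgroup.center G := fun m => zpow_mem hzc m
    obtain ⟨a, ha⟩ := Subgroup.mem_zpowers_iff.mp htu
    have hconj : t ^ j * u ^ i * (t ^ j)⁻¹ = (z ^ a) ^ (j * i) * u ^ i := by
      have h1 := comm_zpow_right (zpow_mem (hzt a) j) (comm_zpow_left (hzt a) ha.symm j) i
      rw [← zpow_mul] at h1
      rw [← h1, commutatorElement_def]; group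
    have hw := Cfsg.Agent.OddLocal.Coprime.mul_pow_of_central_commutator hconj
      ((Subgroup.mem_center_iff.mp (zpow_mem (hzt a) _) _).symm) ((Subgroup.mem_center_iff.mp (zpow_mem (hzt a) _) _).symm) p
    have ew : Commute e (u ^ i * t ^ j) := (hHc e (hEC he).1 _ (zpow_mem huU i)).mul_right ((show Commute e t from hRc e he t htR).zpow_right j)
    have htj : (t ^ j) ^ p = 1 := by rw [← zpow_natCast, zpow_comm, zpow_natCast, htp, one_zpow]
    rw [show n - 1 = (n - 2) + 1 by omega, pow_succ', pow_mul, ew.mul_pow, hw, htj, mul_one] at hxp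
    set c := ((z ^ a) ^ (j * i)) ^ p.choose 2 with hc
    have hcz : ∀ g : G, Commute c g := fun g => (Subgroup.mem_center_iff.mp (pow_mem (zpow_mem (hzt a) _) _) g).symm
    have hkill : (e ^ p * c) ^ p ^ (n - 2) = 1 := by
      rcases Nat.lt_or_ge n 3 with h3 | h3
      · have hp2 : p ≠ 2 := fun h => hsmall ⟨h, by omega⟩
        obtain ⟨m, hm⟩ : p ∣ p.choose 2 := hp.dvd_choose_self two_ne_zero (lt_of_le_of_ne hp.two_le (Ne.symm hp2))
        have hc1 : c = 1 := by
          rw [hc, hm, pow_mul, show ((z ^ a) ^ (j * i)) ^ p = 1 by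
            rw [← zpow_mul, ← zpow_natCast, zpow_comm, zpow_natCast, hzp, one_zpow], one_pow]
        rw [hEp hp2 e he, hc1, one_mul, one_pow]
      · have hmem : e ^ p * c ∈ Subgroup.zpowers z := mul_mem (hEpow e he)
          (pow_mem (zpow_mem (zpow_mem (Subgroup.mem_zpowers z) a) _) _)
        obtain ⟨m, hm⟩ := Subgroup.mem_zpowers_iff.mp hmem
        rw [← hm, show p ^ (n - 2) = p * p ^ (n - 3) by rw [← pow_succ']; congr 1; omega, pow_mul,
          show (z ^ m) ^ p = 1 by rw [← zpow_natCast, zpow_comm, zpow_natCast, hzp, one_zpow], one_pow]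
    rw [show e ^ p * (c * (u ^ i) ^ p) = (e ^ p * c) * (u ^ i) ^ p by group,
      (show Commute (e ^ p * c) ((u ^ i) ^ p) from ((hHc e (hEC he).1 _ (pow_mem (zpow_mem huU i) p)).pow_left p).mul_left (hcz _)).mul_pow,
      hkill, one_mul, ← pow_mul, ← zpow_natCast, ← zpow_mul, ← orderOf_dvd_iff_zpow_eq_one, huo] at hxp
    have hpi : (p : ℤ) ∣ i := by
      rw [show p * p ^ (n - 2) = p ^ (n - 1) by rw [← pow_succ']; congr 1; omega,
        show p ^ n = p * p ^ (n - 1) by rw [← pow_succ']; congr 1; omega] at hxp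
      push_cast at hxp
      exact Int.dvd_of_mul_dvd_mul_right (pow_ne_zero _ (by exact_mod_cast hp.ne_zero)) hxp
    obtain ⟨i', rfl⟩ := hpi
    refine (show Commute e t from hRc e he t htR).mul_left (Commute.mul_left ?_ ((Commute.refl t).zpow_left j))
    rw [zpow_mul, zpow_natCast]
    exact htM.symm.zpow_left i'
  set Lset : Set G := {x | x ∈ M ∧ x ^ p ^ (n - 1) = 1}
  set L := Subgroup.closure Lset with hL
  have hLch : L.Characteristic := char_of L fun φ x hx => by
    have : L ≤ L.comap φ.toMonoidHom := (Subgroup.closure_le _).mpr fun y hy =>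
      Subgroup.subset_closure ⟨hMch φ y hy.1, by show (φ y) ^ _ = 1; rw [← map_pow, hy.2, map_one]⟩
    exact this hx
  haveI := hLch
  haveI := char_centralizer hLch
  have htL : t ∈ L := Subgroup.subset_closure ⟨Subgroup.mem_centralizer_singleton_iff.mpr htM.eq,
    by rw [show n - 1 = (n - 2) + 1 by omega, pow_succ', pow_mul, htp, one_pow]⟩
  have hzL : z ∈ L := Subgroup.subset_closure ⟨Subgroup.mem_centralizer_singleton_iff.mpr ((Subgroup.mem_center_iff.mp hzc (u ^ p)).symm),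
    by rw [show n - 1 = (n - 2) + 1 by omega, pow_succ', pow_mul, hzp, one_pow]⟩
  have htcen : ∀ x ∈ L, Commute x t := by
    have : L ≤ Subgroup.centralizer ({t} : Set G) := (Subgroup.closure_le _).mpr fun x hx =>
      Subgroup.mem_centralizer_singleton_iff.mpr (hsmall' x hx.1 hx.2).eq
    exact fun x hx => Subgroup.mem_centralizer_singleton_iff.mp (this hx)
  have hcycA := hsymp (L ⊓ Subgroup.centralizer (L : Set G)) inferInstance
    ⟨⟨fun a b => Subtype.ext (Subgroup.mem_centralizer_iff.mp b.2.2 a a.2.1)⟩⟩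
  exact htU (Subgroup.zpowers_le.mpr hzU (mem_zpowers_of_cyclic hcycA
    ⟨hzL, Subgroup.mem_centralizer_iff.mpr fun y _ => Subgroup.mem_center_iff.mp hzc y⟩
    ⟨htL, Subgroup.mem_centralizer_iff.mpr fun y hy => (htcen y hy).eq⟩ hord htp))

end Cfsg.Agent.S3762
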