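import Cfsg.Statements.S3763
import Mathlib
import Cfsg.Agent.GenA.ExtraspecialTwo

set_option autoImplicit false
open Cfsg
open scoped commutatorElement

namespace Cfsg.Agent.S3763

/-- Let E be an extraspecial 2-group of order 2^(2n+1). Then the largest elementary abelian subgroups of E have order 2^n or 2^(n+1); and two extraspecial 2-groups of the same order whose largest elementary abelian subgroups have the same order are isomorphic. -/
theorem result {E : Type*} [Group E] [Finite E] (hE : Cfsg.IsExtraspecial 2 E) (n : ℕ) (hn : Nat.card E = 2 ^ (2 * n + 1)) : ((Cfsg.PRankLE 2 n E ∧ ¬ Cfsg.PRankLE 2 (n - 1) E) ∨ (Cfsg.PRankLE 2 (n + 1) E ∧ ¬ Cfsg.PRankLE 2 n E)) ∧ ∀ (E' : Type*) [Group E'] [Finite E'], Cfsg.IsExtraspecial 2 E' → Nat.card E' = Nat.card E → (∀ k : ℕ, Cfsg.PRankLE 2 k E ↔ Cfsg.PRankLE 2 k E') → Nonempty (E ≃* E') := by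
  classical
  obtain ⟨h1, h2, h3⟩ := Cfsg.Agent.GenA.ExtraspecialTwo.rank_cases hE hn
  refine ⟨?_, fun E' _ _ hE' hc hk => Cfsg.Agent.GenA.ExtraspecialTwo.iso hE hE' hn hc (hk n)⟩
  rcases Nat.eq_zero_or_pos n with rfl | hn0
  · exfalso
    obtain ⟨⟨-, -, hcomm⟩, hcard⟩ := hE
    have htop : Subgroup.center E = ⊤ := Subgroup.eq_top_of_card_eq _ (by rw [hcard, hn]; rfl)
    have hab : commutator E = ⊥ := by
      rw [commutator_def, Subgroup.commutator_eq_bot_iff_le_centralizer]
      intro x _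
      exact Subgroup.mem_centralizer_iff.mpr fun y _ => Subgroup.mem_center_iff.mp (htop ▸ Subgroup.mem_top x) y
    rw [← hcomm, hab, Subgroup.card_bot] at hcard
    omega
  by_cases h : Cfsg.PRankLE 2 n E
  · exact Or.inl ⟨h, h3 hn0⟩
  · exact Or.inr ⟨h2, h⟩

end Cfsg.Agent.S3763
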