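import Cfsg.Statements.S3766
import Mathlib
import Cfsg.Agent.Lib.Cores.Fitting

set_option autoImplicit false
open Cfsg
open scoped commutatorElement

namespace Cfsg.Agent.S3766
section
variable {G : Type*} [Group G] [Finite G]

def IsCF (U V : Subgroup G) : Prop :=
  U.Normal ∧ V.Normal ∧ V < U ∧ ∀ W : Subgroup G, W.Normal → V ≤ W → W ≤ U → W = V ∨ W = U

theorem centralizes {F : Subgroup G} [F.Normal] (hF : Group.IsNilpotent ↥F) {U V : Subgroup G} (h : IsCF U V)
    {g : G} (hg : g ∈ F) {u : G} (hu : u ∈ U) : u * g * u⁻¹ * g⁻¹ ∈ V := by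
  obtain ⟨hU, hV, hlt, hcf⟩ := h
  haveI := hU; haveI := hV
  have hmem : ⁅u, g⁆ ∈ ⁅U, F⁆ ⊔ V := Subgroup.mem_sup_left (Subgroup.commutator_mem_commutator hu hg)
  rcases hcf (⁅U, F⁆ ⊔ V) inferInstance le_sup_right (sup_le ((Subgroup.commutator_le_left U F)) hlt.le) with h | h
  · rw [h, commutatorElement_def] at hmem; exact hmem
  · exfalso
    set q := QuotientGroup.mk' V
    have hVb : V.map q = ⊥ := (Subgroup.map_eq_bot_iff _).mpr (QuotientGroup.ker_mk' V).ge
    have h1 : U.map q = ⁅U.map q, F.map q⁆ := by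
      conv_lhs => rw [← h, Subgroup.map_sup, hVb, sup_bot_eq, Subgroup.map_commutator]
    haveI : (F.map q).Normal := Subgroup.Normal.map inferInstance q (QuotientGroup.mk'_surjective V)
    haveI : (U.map q).Normal := Subgroup.Normal.map inferInstance q (QuotientGroup.mk'_surjective V)
    have h2 : ∀ n, U.map q ≤ (F.map q).lowerCentralSeries n := by
      intro n
      induction n with
      | zero => rw [Subgroup.lowerCentralSeries_zero, h1]; exact Subgroup.commutator_le_right _ _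
      | succ n ih => rw [Subgroup.lowerCentralSeries_succ]; rw [h1]; exact Subgroup.commutator_mono ih le_rfl
    obtain ⟨n, hn⟩ := Subgroup.nilpotent_iff_lowerCentralSeries.mp hF
    have h3 : (F.map q).lowerCentralSeries n = ⊥ := by
      rw [← Subgroup.map_lowerCentralSeries, ← Subgroup.top_subtype_lowerCentralSeries, hn, Subgroup.map_bot, Subgroup.map_bot]
    have h4 := le_bot_iff.mp ((h2 n).trans h3.le)
    rw [Subgroup.map_eq_bot_iff, QuotientGroup.ker_mk'] at h4
    exact hlt.not_ge h4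

open Classical in
theorem mem_fitting (hG : Group.IsSolvable G) (N : Subgroup G) [N.Normal] (g : G) (hgN : g ∈ N)
    (hg : ∀ U V : Subgroup G, IsCF U V → U ≤ (Cfsg.fittingSubgroup ↥N).map N.subtype → ∀ u ∈ U, u * g * u⁻¹ * g⁻¹ ∈ V) :
    g ∈ (Cfsg.fittingSubgroup ↥N).map N.subtype := by
  set F := (Cfsg.fittingSubgroup ↥N).map N.subtype
  haveI hFn : F.Normal := inferInstance
  have hFnil : Group.IsNilpotent ↥F :=
    Cfsg.Agent.Cores.isNilpotent_map _ _ Cfsg.Agent.Cores.fittingSubgroup_isNilpotent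
  let K : Subgroup G :=
    { carrier := {x | x ∈ N ∧ ∀ U V : Subgroup G, IsCF U V → U ≤ F → ∀ u ∈ U, ⁅u, x⁆ ∈ V}
      one_mem' := ⟨one_mem N, fun U V _ _ u _ => by simp⟩
      mul_mem' := fun {x y} hx hy => ⟨mul_mem hx.1 hy.1, fun U V h hUF u hu => by
        have e : ⁅u, x * y⁆ = ⁅u, x⁆ * (x * ⁅u, y⁆ * x⁻¹) := by rw [commutatorElement_def, commutatorElement_def, commutatorElement_def]; group
        rw [e]; exact mul_mem (hx.2 U V h hUF u hu) (h.2.1.conj_mem _ (hy.2 U V h hUF u hu) x)⟩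
      inv_mem' := fun {x} hx => ⟨inv_mem hx.1, fun U V h hUF u hu => by
        have e : ⁅u, x⁻¹⁆ = x⁻¹ * ⁅u, x⁆⁻¹ * x⁻¹⁻¹ := by rw [commutatorElement_def, commutatorElement_def]; group
        rw [e]; exact h.2.1.conj_mem _ (inv_mem (hx.2 U V h hUF u hu)) x⁻¹⟩ }
  haveI hKn : K.Normal := ⟨fun x hx z => ⟨Subgroup.Normal.conj_mem inferInstance x hx.1 z, fun U V h hUF u hu => by
    have e : ⁅u, z * x * z⁻¹⁆ = z * ⁅z⁻¹ * u * z⁻¹⁻¹, x⁆ * z⁻¹ := by rw [commutatorElement_def, commutatorElement_def]; group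
    rw [e]; exact h.2.1.conj_mem _ (hx.2 U V h hUF _ (h.1.conj_mem u hu z⁻¹)) z⟩⟩
  have hgK : g ∈ K := ⟨hgN, fun U V h hUF u hu => by rw [commutatorElement_def]; exact hg U V h hUF u hu⟩
  have hFK : F ≤ K := fun x hx => ⟨Subgroup.map_subtype_le _ hx, fun U V h _ u hu => by
    rw [commutatorElement_def]; exact centralizes hFnil h hx hu⟩
  by_contra hgF
  set q := QuotientGroup.mk' F
  haveI : (K.map q).Normal := Subgroup.Normal.map inferInstance q (QuotientGroup.mk'_surjective F)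
  haveI : Group.IsSolvable G := hG
  haveI : Group.IsSolvable (G ⧸ F) := solvable_of_surjective (QuotientGroup.mk'_surjective F)
  have hex : ∃ i, K.map q ⊓ derivedSeries (G ⧸ F) i = ⊥ := by
    obtain ⟨n, hn⟩ := (Group.isSolvable_def (G ⧸ F)).mp inferInstance
    exact ⟨n, by rw [hn, inf_bot_eq]⟩
  have hspec := Nat.find_spec hex
  rcases Nat.eq_zero_or_pos (Nat.find hex) with h0 | h0
  · rw [h0, derivedSeries_zero, inf_top_eq] at hspec
    rw [Subgroup.map_eq_bot_iff, QuotientGroup.ker_mk'] at hspec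
    exact hgF (hspec hgK)
  set i := Nat.find hex - 1
  have hi : Nat.find hex = i + 1 := by omega
  set D := K.map q ⊓ derivedSeries (G ⧸ F) i
  have hD : D ≠ ⊥ := Nat.find_min hex (by omega)
  have hDD : ⁅D, D⁆ = ⊥ := by
    rw [eq_bot_iff, ← hspec, hi, derivedSeries_succ]
    exact le_inf ((Subgroup.commutator_mono inf_le_left inf_le_left).trans (Subgroup.commutator_le_left _ _))
      (Subgroup.commutator_mono inf_le_right inf_le_right)
  haveI : D.Normal := inferInstance
  set M := D.comap q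
  haveI : M.Normal := inferInstance
  have hMK : M ≤ K := by
    refine (Subgroup.comap_mono inf_le_left).trans ?_
    rw [Subgroup.comap_map_eq, QuotientGroup.ker_mk', sup_le_iff]
    exact ⟨le_rfl, hFK⟩
  have hMM : ⁅M, M⁆ ≤ F := by
    have h1 : (⁅M, M⁆).map q ≤ ⊥ := by
      rw [Subgroup.map_commutator, ← hDD]
      exact Subgroup.commutator_mono (Subgroup.map_comap_le _ _) (Subgroup.map_comap_le _ _)
    rw [le_bot_iff, Subgroup.map_eq_bot_iff, QuotientGroup.ker_mk'] at h1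
    exact h1
  have key : ∀ U : Subgroup G, U.Normal → U ≤ F → ∀ n, M.lowerCentralSeries n ≤ U → ∃ m, M.lowerCentralSeries m = ⊥ := by
    intro U
    induction U using WellFoundedLT.induction with
    | ind U ih =>
      intro hU hUF n hn
      by_cases hU0 : U = ⊥
      · exact ⟨n, le_bot_iff.mp (hU0 ▸ hn)⟩
      obtain ⟨V, ⟨hV, hVU⟩, hmax⟩ := (Set.toFinite {V : Subgroup G | V.Normal ∧ V < U}).exists_maximal ⟨⊥, inferInstance, bot_lt_iff_ne_bot.mpr hU0⟩
      have hcf : IsCF U V := ⟨hU, hV, hVU, fun W hW h1 h2 => by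
        rcases eq_or_lt_of_le h2 with h | h
        · exact Or.inr h
        · exact Or.inl (le_antisymm (hmax ⟨hW, h⟩ h1) h1)⟩
      refine ih V hVU hV (hVU.le.trans hUF) (n + 1) ?_
      rw [Subgroup.lowerCentralSeries_succ, Subgroup.commutator_le]
      intro a ha b hb
      exact (hMK hb).2 U V hcf hUF a (hn ha)
  obtain ⟨m, hm⟩ := key F hFn le_rfl 1 (by rw [Subgroup.lowerCentralSeries_succ, Subgroup.lowerCentralSeries_zero]; exact hMM)
  have hMnil : Group.IsNilpotent ↥M := Subgroup.isNilpotent_of_lowerCentralSeries_eq_bot hm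
  have hMN : M ≤ N := hMK.trans fun x hx => hx.1
  haveI : (M.subgroupOf N).Normal := inferInstance
  have hMF : M ≤ F := fun x hx => ⟨⟨x, hMN hx⟩, Cfsg.Agent.Cores.le_fittingSubgroup (Cfsg.Agent.Cores.isNilpotent_subgroupOf hMnil N) hx, rfl⟩
  apply hD
  rw [← Subgroup.map_comap_eq_self_of_surjective (QuotientGroup.mk'_surjective F) D, Subgroup.map_eq_bot_iff, QuotientGroup.ker_mk']
  exact hMF

end


/-- Let G be a finite solvable group and N a normal subgroup of G. Call a pair V < U of normal subgroups of G a chief factor of G when no normal subgroup of G lies strictly between them; an element g centralizes the chief factor U/V when u g u⁻¹ g⁻¹ ∈ V for all u ∈ U. Then an element of G lies in the Fitting subgroup F(N) if and only if it lies in N and centralizes every chief factor of G; and also if and only if it lies in N and centralizes every chief factor U/V of G with U ≤ F(N). -/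
theorem result {G : Type*} [Group G] [Finite G] (hG : Group.IsSolvable G) (N : Subgroup G) [N.Normal] (g : G) : (g ∈ (Cfsg.fittingSubgroup ↥N).map N.subtype ↔ g ∈ N ∧ ∀ U V : Subgroup G, (U.Normal ∧ V.Normal ∧ V < U ∧ ∀ W : Subgroup G, W.Normal → V ≤ W → W ≤ U → W = V ∨ W = U) → ∀ u ∈ U, u * g * u⁻¹ * g⁻¹ ∈ V) ∧ (g ∈ (Cfsg.fittingSubgroup ↥N).map N.subtype ↔ g ∈ N ∧ ∀ U V : Subgroup G, (U.Normal ∧ V.Normal ∧ V < U ∧ ∀ W : Subgroup G, W.Normal → V ≤ W → W ≤ U → W = V ∨ W = U) → U ≤ (Cfsg.fittingSubgroup ↥N).map N.subtype → ∀ u ∈ U, u * g * u⁻¹ * g⁻¹ ∈ V) := by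
  have hN : ∀ g, g ∈ (Cfsg.fittingSubgroup ↥N).map N.subtype → g ∈ N ∧ ∀ U V : Subgroup G, (U.Normal ∧ V.Normal ∧ V < U ∧ ∀ W : Subgroup G, W.Normal → V ≤ W → W ≤ U → W = V ∨ W = U) → ∀ u ∈ U, u * g * u⁻¹ * g⁻¹ ∈ V :=
    fun g hg => ⟨Subgroup.map_subtype_le _ hg, fun U V h u hu =>
      centralizes (F := (Cfsg.fittingSubgroup ↥N).map N.subtype) (Cfsg.Agent.Cores.isNilpotent_map _ _ Cfsg.Agent.Cores.fittingSubgroup_isNilpotent) h hg hu⟩
  refine ⟨⟨hN g, fun h => mem_fitting hG N g h.1 fun U V hc _ => h.2 U V hc⟩,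
    ⟨fun hg => ⟨(hN g hg).1, fun U V hc _ => (hN g hg).2 U V hc⟩, fun h => mem_fitting hG N g h.1 h.2⟩⟩

end Cfsg.Agent.S3766
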