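import Cfsg.Statements.S3767
import Mathlib
import Cfsg.Agent.GenA.SymplecticType
import Cfsg.Agent.GenA.SymplecticAction
import Cfsg.Agent.Solvable.Basics

set_option autoImplicit false
open Cfsg
open scoped commutatorElement

namespace Cfsg.Agent.S3767
open Cfsg.Agent.GenA

/-- With the module structure given. -/
theorem core00 {V : Type*} [AddCommGroup V] [Finite V] {p : ℕ} [hp : Fact p.Prime] [Module (ZMod p) V]
    {n : ℕ} (hcard : Nat.card V = p ^ (2 * n)) {h : ℕ} (h0 : 0 < h) (hcop : h.Coprime p) (ψ : V →+ V)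
    (hψ : ∀ v, ψ^[h] v = v) (hsemi : ∀ (i : ℕ) (v : V), ¬ h ∣ i → ψ^[i] v = v → v = 0)
    (c : V → V → ZMod p) (hadd : ∀ u u' v, c (u + u') v = c u v + c u' v)
    (hadd' : ∀ u v v', c u (v + v') = c u v + c u v') (halt : ∀ v, c v v = 0)
    (hl : ∀ v, (∀ w, c v w = 0) → v = 0) (hr : ∀ w, (∀ v, c v w = 0) → w = 0)
    (hinv : ∀ v w, c (ψ v) (ψ w) = c v w) : h ∣ p ^ n + 1 ∨ h ∣ p ^ n - 1 := by
  haveI : Module.Finite (ZMod p) V := Module.Finite.of_finite
  let bl : V → (V →+ ZMod p) := fun u =>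
    { toFun := fun v => c u v
      map_zero' := by have := hadd' u 0 0; simpa using this
      map_add' := hadd' u }
  let br : V → (V →+ ZMod p) := fun v =>
    { toFun := fun u => c u v
      map_zero' := by have := hadd 0 0 v; simpa using this
      map_add' := fun u w => hadd u w v }
  let B : LinearMap.BilinForm (ZMod p) V :=
    LinearMap.mk₂ (ZMod p) c hadd (fun r u v => ZMod.map_smul (br v) r u) hadd' (fun r u v => ZMod.map_smul (bl u) r v)
  let T : Module.End (ZMod p) V := AddMonoidHom.toZModLinearMap p ψ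
  have hTk : ∀ (k : ℕ) (v : V), (T ^ k) v = ψ^[k] v := fun k v => by rw [Module.End.coe_pow]; rfl
  have h2 := Module.natCard_eq_pow_finrank (K := ZMod p) (V := V)
  rw [hcard, Nat.card_zmod] at h2
  exact SymplecticAction.dvd_pow_pm_one B T h0 hcop (LinearMap.ext fun v => by rw [hTk, hψ]; rfl)
    (fun i v hi hv => hsemi i v hi (by rw [← hTk]; exact hv)) halt ⟨hl, hr⟩ hinv
    (Nat.pow_right_injective hp.out.two_le h2).symm

/-- The additive form. -/
theorem core0 {V : Type*} [AddCommGroup V] [Finite V] {p : ℕ} [hp : Fact p.Prime] (hexp : ∀ v : V, p • v = 0)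
    {n : ℕ} (hcard : Nat.card V = p ^ (2 * n)) {h : ℕ} (h0 : 0 < h) (hcop : h.Coprime p) (ψ : V →+ V)
    (hψ : ∀ v, ψ^[h] v = v) (hsemi : ∀ (i : ℕ) (v : V), ¬ h ∣ i → ψ^[i] v = v → v = 0)
    (c : V → V → ZMod p) (hadd : ∀ u u' v, c (u + u') v = c u v + c u' v)
    (hadd' : ∀ u v v', c u (v + v') = c u v + c u v') (halt : ∀ v, c v v = 0)
    (hl : ∀ v, (∀ w, c v w = 0) → v = 0) (hr : ∀ w, (∀ v, c v w = 0) → w = 0)
    (hinv : ∀ v w, c (ψ v) (ψ w) = c v w) : h ∣ p ^ n + 1 ∨ h ∣ p ^ n - 1 :=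
  @core00 V _ _ p _ (AddCommGroup.zmodModule hexp) n hcard h h0 hcop ψ hψ hsemi c hadd hadd' halt hl hr hinv

/-- The multiplicative form of `SymplecticAction.dvd_pow_pm_one`. -/
theorem core {A : Type*} [CommGroup A] [Finite A] {p : ℕ} [hp : Fact p.Prime] (hexp : ∀ a : A, a ^ p = 1)
    {n : ℕ} (hcard : Nat.card A = p ^ (2 * n)) {h : ℕ} (h0 : 0 < h) (hcop : h.Coprime p) (ψ : Monoid.End A)
    (hψ : ψ ^ h = 1) (hsemi : ∀ (i : ℕ) (a : A), ¬ h ∣ i → (ψ ^ i) a = a → a = 1)
    (c : A →* (A →* Multiplicative (ZMod p))) (halt : ∀ a, c a a = 1)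
    (hl : ∀ a, (∀ b, c a b = 1) → a = 1) (hr : ∀ b, (∀ a, c a b = 1) → b = 1)
    (hinv : ∀ a b, c (ψ a) (ψ b) = c a b) : h ∣ p ^ n + 1 ∨ h ∣ p ^ n - 1 := by
  have hit : ∀ (k : ℕ) (v : Additive A),
      (MonoidHom.toAdditive ψ : Additive A →+ Additive A)^[k] v = Additive.ofMul ((ψ ^ k) v.toMul) := by
    intro k v
    rw [Monoid.End.coe_pow]
    induction k generalizing v with
    | zero => rfl
    | succ k ih => rw [Function.iterate_succ_apply, Function.iterate_succ_apply, ih]; rfl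
  refine core0 (V := Additive A) (fun v => Additive.toMul.injective (hexp v.toMul))
    (by rw [Nat.card_congr Additive.toMul, hcard]) h0 hcop (MonoidHom.toAdditive ψ)
    (fun v => by rw [hit, hψ]; rfl)
    (fun i v hi hv => Additive.toMul.injective (hsemi i _ hi (by rw [hit] at hv; exact congrArg Additive.toMul hv)))
    (fun u v => Multiplicative.toAdd (c u.toMul v.toMul))
    (fun u u' v => by simp) (fun u v v' => by simp) (fun v => congrArg Multiplicative.toAdd (halt v.toMul))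
    (fun v hv => Additive.toMul.injective (hl _ fun b => Multiplicative.toAdd.injective (hv (Additive.ofMul b))))
    (fun v hv => Additive.toMul.injective (hr _ fun b => Multiplicative.toAdd.injective (hv (Additive.ofMul b))))
    (fun u v => congrArg Multiplicative.toAdd (hinv u.toMul v.toMul))

/-- Let P be an extraspecial p-group of order p^(2n+1) and H a cyclic group of order h prime to p acting on P (inside a common finite group: H normalizes P) so that C_P(x) = Z(P) for every non-identity x ∈ H. Then h divides p^n + 1 or h divides p^n − 1. -/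
theorem result {G : Type*} [Group G] [Finite G] {p : ℕ} [Fact p.Prime] (P H : Subgroup G) (hP : Cfsg.IsExtraspecial p ↥P) (n : ℕ) (hn : Nat.card P = p ^ (2 * n + 1)) (hH : IsCyclic H) (hcop : (Nat.card H).Coprime p) (hHP : H ≤ Subgroup.normalizer (P : Set G)) (hfix : ∀ x ∈ H, x ≠ 1 → P ⊓ Subgroup.centralizer {x} = (Subgroup.center ↥P).map P.subtype) : Nat.card H ∣ p ^ n + 1 ∨ Nat.card H ∣ p ^ n - 1 := by
  classical
  obtain ⟨x, hx⟩ := hH.exists_generator
  set h := Nat.card H with hh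
  by_cases h1 : h = 1
  · left; rw [h1]; exact one_dvd _
  have hp : p.Prime := Fact.out
  have hordx : orderOf x = h := orderOf_eq_card_of_forall_mem_zpowers hx
  have hxh : (x : G) ^ h = 1 := by
    rw [← hordx, ← Subgroup.orderOf_coe]; exact pow_orderOf_eq_one _
  have hxne : ∀ i : ℕ, ¬ h ∣ i → (x : G) ^ i ≠ 1 := by
    intro i hi e
    exact hi (hordx ▸ Subgroup.orderOf_coe x ▸ orderOf_dvd_of_pow_eq_one e)
  obtain ⟨⟨hPp, hfr, hcomm⟩, hZ⟩ := id hP
  set Z := Subgroup.center ↥P with hZdef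
  have hcen : ∀ i : ℕ, ¬ h ∣ i → ∀ a : ↥P, (a ∈ Z ↔ (x : G) ^ i * a * ((x : G) ^ i)⁻¹ = a) := by
    intro i hi a
    have he := hfix ((x : G) ^ i) (H.pow_mem x.2 i) (hxne i hi)
    rw [mul_inv_eq_iff_eq_mul]
    constructor
    · intro ha
      have : (a : G) ∈ P ⊓ Subgroup.centralizer {(x : G) ^ i} := by rw [he]; exact ⟨a, ha, rfl⟩
      exact (Subgroup.mem_centralizer_singleton_iff.mp this.2).symm
    · intro e
      have : (a : G) ∈ P ⊓ Subgroup.centralizer {(x : G) ^ i} :=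
        ⟨a.2, Subgroup.mem_centralizer_singleton_iff.mpr e.symm⟩
      rw [he] at this
      obtain ⟨b, hb, hba⟩ := this
      rwa [← Subtype.ext hba]
  have hh1 : ¬ h ∣ 1 := fun e => h1 (Nat.dvd_one.mp e)
  have hconj : ∀ a : ↥P, (x : G) * a * (x : G)⁻¹ ∈ P := fun a => (Subgroup.mem_normalizer_iff.mp (hHP x.2) a).mp a.2
  let φ : ↥P →* ↥P :=
    { toFun := fun a => ⟨(x : G) * a * (x : G)⁻¹, hconj a⟩
      map_one' := by ext; simp
      map_mul' := fun a b => by ext; simp }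
  have hφZ : ∀ a ∈ Z, φ a = a := fun a ha => by
    have := (hcen 1 hh1 a).mp ha
    rw [pow_one] at this
    exact Subtype.ext this
  -- the quotient by the centre
  have hmem : ∀ a b : ↥P, ⁅a, b⁆ ∈ Z := fun a b =>
    hcomm ▸ Subgroup.commutator_mem_commutator (Subgroup.mem_top a) (Subgroup.mem_top b)
  letI : CommGroup (↥P ⧸ Z) :=
    { (inferInstance : Group (↥P ⧸ Z)) with
      mul_comm := fun u v => by
        obtain ⟨a, rfl⟩ := QuotientGroup.mk_surjective u
        obtain ⟨b, rfl⟩ := QuotientGroup.mk_surjective v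
        rw [← QuotientGroup.mk_mul, ← QuotientGroup.mk_mul, QuotientGroup.eq]
        have := hmem b⁻¹ a⁻¹
        rwa [commutatorElement_def, inv_inv, inv_inv, show b⁻¹ * a⁻¹ * b * a = (a * b)⁻¹ * (b * a) by group] at this }
  have hexp : ∀ u : ↥P ⧸ Z, u ^ p = 1 := by
    intro u
    obtain ⟨a, rfl⟩ := QuotientGroup.mk_surjective u
    rw [← QuotientGroup.mk_pow, QuotientGroup.eq_one_iff, ← hfr]
    exact Cfsg.Agent.Solvable.Basics.pow_mem_frattini hPp a
  haveI : IsCyclic Z := isCyclic_of_prime_card hZ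
  let ez : Z ≃* Multiplicative (ZMod p) := mulEquivOfCyclicCardEq (by rw [hZ, Nat.card_congr Multiplicative.toAdd, Nat.card_zmod])
  let L : Z →* Multiplicative (ZMod p) := ez.toMonoidHom
  have hcentral : ∀ c ∈ Z, ∀ g : ↥P, g * c = c * g := fun c hc g => Subgroup.mem_center_iff.mp hc g
  let cr : ↥P → (↥P →* Multiplicative (ZMod p)) := fun a =>
    { toFun := fun b => L ⟨⁅a, b⁆, hmem a b⟩
      map_one' := by
        rw [← map_one L]; congr 1; exact Subtype.ext (commutatorElement_one_right a)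
      map_mul' := fun b c => by
        rw [← map_mul]; congr 1
        refine Subtype.ext ?_
        show ⁅a, b * c⁆ = ⁅a, b⁆ * ⁅a, c⁆
        rw [SymplecticType.comm_mul_right, hcentral _ (hmem a c) b, mul_inv_cancel_right] }
  have hker : ∀ a, Z ≤ (cr a).ker := fun a c hc => by
    show L ⟨⁅a, c⁆, hmem a c⟩ = 1
    rw [← map_one L]; congr 1
    exact Subtype.ext (commutatorElement_eq_one_iff_commute.mpr (hcentral c hc a))
  let cl : ↥P →* ((↥P ⧸ Z) →* Multiplicative (ZMod p)) :=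
    { toFun := fun a => QuotientGroup.lift Z (cr a) (hker a)
      map_one' := by
        refine MonoidHom.ext fun u => ?_
        obtain ⟨b, rfl⟩ := QuotientGroup.mk_surjective u
        show L ⟨⁅(1 : ↥P), b⁆, hmem 1 b⟩ = 1
        rw [← map_one L]; congr 1; exact Subtype.ext (commutatorElement_one_left b)
      map_mul' := fun a a' => by
        refine MonoidHom.ext fun u => ?_
        obtain ⟨b, rfl⟩ := QuotientGroup.mk_surjective u
        show L ⟨⁅a * a', b⁆, _⟩ = L ⟨⁅a, b⁆, _⟩ * L ⟨⁅a', b⁆, _⟩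
        rw [← map_mul]; congr 1
        refine Subtype.ext ?_
        show ⁅a * a', b⁆ = ⁅a, b⁆ * ⁅a', b⁆
        rw [SymplecticType.comm_mul_left, hcentral _ (hmem a' b) a, mul_inv_cancel_right, hcentral _ (hmem a b) ⁅a', b⁆] }
  have hkerl : Z ≤ cl.ker := fun c hc => by
    refine MonoidHom.ext fun u => ?_
    obtain ⟨b, rfl⟩ := QuotientGroup.mk_surjective u
    show L ⟨⁅c, b⁆, hmem c b⟩ = 1
    rw [← map_one L]; congr 1
    exact Subtype.ext (commutatorElement_eq_one_iff_commute.mpr (hcentral c hc b).symm)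
  let cq : (↥P ⧸ Z) →* ((↥P ⧸ Z) →* Multiplicative (ZMod p)) := QuotientGroup.lift Z cl hkerl
  have hB : ∀ a b : ↥P, cq (a : ↥P ⧸ Z) (b : ↥P ⧸ Z) = L ⟨⁅a, b⁆, hmem a b⟩ := fun a b => rfl
  have hL : ∀ (a b : ↥P), L ⟨⁅a, b⁆, hmem a b⟩ = 1 ↔ ⁅a, b⁆ = 1 := by
    intro a b
    constructor
    · intro e
      exact congrArg Subtype.val (ez.injective (e.trans (map_one ez).symm))
    · intro e
      rw [← map_one L]; congr 1; exact Subtype.ext e
  have hZφ : Z ≤ Z.comap φ := fun c hc => by rw [Subgroup.mem_comap, hφZ c hc]; exact hc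
  let ψ : Monoid.End (↥P ⧸ Z) := QuotientGroup.map Z Z φ hZφ
  have hTk : ∀ (k : ℕ) (a : ↥P), ∃ hm : (x : G) ^ k * a * ((x : G) ^ k)⁻¹ ∈ P,
      (ψ ^ k) (a : ↥P ⧸ Z) = ((⟨_, hm⟩ : ↥P) : ↥P ⧸ Z) := by
    intro k
    induction k with
    | zero =>
      intro a
      exact ⟨by simp, congrArg (fun c : ↥P => (c : ↥P ⧸ Z)) (Subtype.ext (by simp))⟩
    | succ k ih =>
      intro a
      obtain ⟨hm, he⟩ := ih (φ a)
      have e : (x : G) ^ (k + 1) * a * ((x : G) ^ (k + 1))⁻¹ = (x : G) ^ k * (φ a : G) * ((x : G) ^ k)⁻¹ := by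
        show _ = (x : G) ^ k * ((x : G) * a * (x : G)⁻¹) * ((x : G) ^ k)⁻¹
        rw [pow_succ]; group
      refine ⟨e ▸ hm, ?_⟩
      rw [pow_succ]
      show (ψ ^ k) (φ a : ↥P ⧸ Z) = _
      refine he.trans (congrArg (fun c : ↥P => (c : ↥P ⧸ Z)) ?_)
      exact Subtype.ext e.symm
  have hcardV : Nat.card (↥P ⧸ Z) = p ^ (2 * n) := by
    have h2 := Z.card_mul_index
    rw [hZ, hn, pow_succ'] at h2
    exact Nat.eq_of_mul_eq_mul_left hp.pos h2
  refine core hexp hcardV Nat.card_pos hcop ψ ?_ ?_ cq ?_ ?_ ?_ ?_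
  · refine MonoidHom.ext fun u => ?_
    obtain ⟨a, rfl⟩ := QuotientGroup.mk_surjective u
    obtain ⟨hm, he⟩ := hTk h a
    refine he.trans ?_
    show _ = (a : ↥P ⧸ Z)
    congr 1
    exact Subtype.ext (by simp [hxh])
  · intro i u hi hv
    obtain ⟨a, rfl⟩ := QuotientGroup.mk_surjective u
    obtain ⟨hm, he⟩ := hTk i a
    rw [he] at hv
    have hz : (⟨_, hm⟩ : ↥P)⁻¹ * a ∈ Z := QuotientGroup.eq.mp hv
    set c : ↥P := (⟨_, hm⟩ : ↥P)⁻¹ * a with hc
    set f := (x : G) ^ i with hf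
    have hfc : f * (c : G) * f⁻¹ = c := (hcen i hi c).mp hz
    have hca : (c : G) = f * (a : G)⁻¹ * f⁻¹ * a := by
      rw [hc, Subgroup.coe_mul, Subgroup.coe_inv]
      show (f * (a : G) * f⁻¹)⁻¹ * a = _
      group
    have hk : ∀ k : ℕ, f ^ k * a * (f ^ k)⁻¹ = a * ((c : G)⁻¹) ^ k := by
      intro k
      induction k with
      | zero => simp
      | succ k ih =>
        have hcomm' : (a : G) * (c : G)⁻¹ = (c : G)⁻¹ * a := congrArg Subtype.val (hcentral _ (Z.inv_mem hz) a)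
        have e1 : f * (a : G) * f⁻¹ = (a : G) * (c : G)⁻¹ := by
          rw [hca]; group
        calc f ^ (k + 1) * a * (f ^ (k + 1))⁻¹ = f * (f ^ k * a * (f ^ k)⁻¹) * f⁻¹ := by rw [pow_succ']; group
          _ = f * (a * ((c : G)⁻¹) ^ k) * f⁻¹ := by rw [ih]
          _ = (f * a * f⁻¹) * (f * (c : G) * f⁻¹)⁻¹ ^ k := by rw [show (f * (c : G) * f⁻¹)⁻¹ = f * (c : G)⁻¹ * f⁻¹ by group, conj_pow]; group
          _ = a * ((c : G)⁻¹) ^ (k + 1) := by rw [e1, hfc, pow_succ' _ k, mul_assoc]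
    have hfh : f ^ h = 1 := by rw [hf, ← pow_mul, mul_comm, pow_mul, hxh, one_pow]
    have hc1 : ((c : G)⁻¹) ^ h = 1 := by
      have := hk h
      rw [hfh, one_mul, inv_one, mul_one, left_eq_mul] at this
      exact this
    have hcp : ((c : G)⁻¹) ^ p = 1 := by
      have := congrArg (fun q : Z => ((q : ↥P) : G)) (pow_card_eq_one' (G := ↥Z) (x := ⟨c, hz⟩))
      simp only [hZ, SubgroupClass.coe_pow, Subgroup.coe_one] at this
      rw [inv_pow, this, inv_one]
    have hc0 : (c : G)⁻¹ = 1 := by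
      have : ((c : G)⁻¹) ^ Nat.gcd h p = 1 := pow_gcd_eq_one.mpr ⟨hc1, hcp⟩
      rwa [hcop.gcd_eq_one, pow_one] at this
    have haZ : a ∈ Z := (hcen i hi a).mpr (by have := hk 1; rwa [pow_one, pow_one, hc0, mul_one] at this)
    exact (QuotientGroup.eq_one_iff a).mpr haZ
  · intro u
    obtain ⟨a, rfl⟩ := QuotientGroup.mk_surjective u
    rw [hB, hL]
    exact commutatorElement_eq_one_iff_commute.mpr (Commute.refl a)
  · intro u hu
    obtain ⟨a, rfl⟩ := QuotientGroup.mk_surjective u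
    exact (QuotientGroup.eq_one_iff a).mpr (Subgroup.mem_center_iff.mpr fun b =>
        (commutatorElement_eq_one_iff_commute.mp ((hL a b).mp ((hB a b) ▸ hu _))).symm.eq)
  · intro u hu
    obtain ⟨a, rfl⟩ := QuotientGroup.mk_surjective u
    exact (QuotientGroup.eq_one_iff a).mpr (Subgroup.mem_center_iff.mpr fun b =>
        (commutatorElement_eq_one_iff_commute.mp ((hL b a).mp ((hB b a) ▸ hu _))).eq)
  · intro u v
    obtain ⟨a, rfl⟩ := QuotientGroup.mk_surjective u
    obtain ⟨b, rfl⟩ := QuotientGroup.mk_surjective v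
    show cq (φ a : ↥P ⧸ Z) (φ b : ↥P ⧸ Z) = _
    rw [hB, hB]
    congr 2
    rw [← map_commutatorElement]
    exact hφZ _ (hmem a b)

end Cfsg.Agent.S3767
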