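import Cfsg.Statements.S3768
import Mathlib
import Cfsg.Agent.Lib.Characters.Frobenius
import Cfsg.Agent.Lib.Frobenius.Basic

set_option autoImplicit false
open Cfsg
open scoped commutatorElement Pointwise

namespace Cfsg.Agent.S3768

/-- Let G be a finite Frobenius group with Frobenius complement R and Frobenius kernel K (the identity together with the elements in no conjugate of R), and let N be a normal subgroup of G not containing K. Then G/N is a Frobenius group with Frobenius complement RN/N whose Frobenius kernel is the image of K. -/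
theorem result {G : Type*} [Group G] [Finite G] (R : Subgroup G) (hR : Cfsg.IsFrobeniusComplement R) (N : Subgroup G) [N.Normal] (hKN : ¬ Cfsg.frobeniusKernel R ⊆ N) : Cfsg.IsFrobeniusComplement (R.map (QuotientGroup.mk' N)) ∧ Cfsg.frobeniusKernel (R.map (QuotientGroup.mk' N)) = QuotientGroup.mk' N '' Cfsg.frobeniusKernel R := by
  classical
  obtain ⟨K, hKset, hKn, hcompl⟩ := Cfsg.Agent.Characters.frobenius_kernel_theorem hR
  haveI := hKn
  have hbot : ∀ x, x ∈ K → x ∈ R → x = 1 := fun x h1 h2 =>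
    Subgroup.mem_bot.mp (hcompl.disjoint.le_bot ⟨h1, h2⟩)
  have hfix : ∀ r ∈ R, r ≠ 1 → ∀ k ∈ K, k * r = r * k → k = 1 := by
    intro r hr hr1 k hk hkr
    refine hbot k hk (by_contra fun hkR => hr1 ?_)
    refine Subgroup.mem_bot.mp (hR.2.2 k hkR ▸ (?_ : r ∈ R ⊓ MulAut.conj k • R))
    refine ⟨hr, ?_⟩
    show r ∈ MulAut.conj k • R
    rw [Subgroup.mem_pointwise_smul_iff_inv_smul_mem, ← map_inv, MulAut.smul_def, MulAut.conj_apply]
    rw [show k⁻¹ * r * k⁻¹⁻¹ = r by rw [inv_inv, mul_assoc, ← hkr, inv_mul_cancel_left]]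
    exact hr
  -- the commutator map with a nontrivial element of R is a bijection on every normal subgroup inside K
  have hsurj : ∀ (M : Subgroup G), M ≤ K → M.Normal → ∀ r ∈ R, r ≠ 1 → ∀ m ∈ M, ∃ n ∈ M, n * (r * n⁻¹ * r⁻¹) = m := by
    intro M hMK hM r hr hr1 m hm
    let f : M → M := fun a => ⟨(a : G) * (r * (a : G)⁻¹ * r⁻¹), mul_mem a.2 (hM.conj_mem _ (inv_mem a.2) r)⟩
    have hf : Function.Injective f := by
      intro a b hab
      have e : (a : G) * (r * (a : G)⁻¹ * r⁻¹) = (b : G) * (r * (b : G)⁻¹ * r⁻¹) := congrArg Subtype.val hab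
      have h5 : ((b : G)⁻¹ * a) * r = r * ((b : G)⁻¹ * a) := by
        calc ((b : G)⁻¹ * a) * r = (b : G)⁻¹ * ((a : G) * (r * (a : G)⁻¹ * r⁻¹)) * r * a := by group
          _ = (b : G)⁻¹ * ((b : G) * (r * (b : G)⁻¹ * r⁻¹)) * r * a := by rw [e]
          _ = _ := by group
      have := hfix r hr hr1 _ (hMK (mul_mem (inv_mem b.2) a.2)) h5
      rw [inv_mul_eq_one] at this
      exact Subtype.ext this.symm
    obtain ⟨n, hn⟩ := (Finite.injective_iff_surjective.mp hf) ⟨m, hm⟩
    exact ⟨n, n.2, congrArg Subtype.val hn⟩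
  have hKN' : ¬ K ≤ N := fun h => hKN fun x hx => h (by
    rw [← SetLike.mem_coe, hKset]; exact hx)
  have hNK : N ≤ K := by
    intro x hxN
    by_contra hxK
    have hxset : x ∉ Cfsg.frobeniusKernel R := by rw [← hKset]; exact hxK
    simp only [Cfsg.frobeniusKernel, Set.mem_ofPred_eq, not_or, not_forall, not_not] at hxset
    obtain ⟨hx1, g, hg⟩ := hxset
    rw [Subgroup.mem_pointwise_smul_iff_inv_smul_mem, ← map_inv, MulAut.smul_def, MulAut.conj_apply, inv_inv] at hg
    set r := g⁻¹ * x * g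
    have hr1 : r ≠ 1 := fun h => hx1 (by
      have : x = g * r * g⁻¹ := by simp only [r]; group
      rw [this, h]; group)
    have hrN : r ∈ N := by simpa using Subgroup.Normal.conj_mem inferInstance x hxN g⁻¹
    refine hKN' fun k hk => ?_
    obtain ⟨n, -, rfl⟩ := hsurj K le_rfl hKn r hg hr1 k hk
    rw [← mul_assoc n]
    exact mul_mem (by simpa [mul_assoc] using Subgroup.Normal.conj_mem inferInstance r hrN n) (inv_mem hrN)
  set q := QuotientGroup.mk' N
  haveI : (K.map q).Normal := hKn.map q (QuotientGroup.mk'_surjective N)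
  have hmem : ∀ a ∈ R, ∀ b ∈ K, q a = q b → a = 1 := by
    intro a ha b hb e
    refine hbot a ?_ ha
    have h : a⁻¹ * b ∈ N := QuotientGroup.eq.mp e
    have h2 := mul_mem hb (inv_mem (hNK h))
    rwa [mul_inv_rev, inv_inv, mul_inv_cancel_left] at h2
  rw [← hKset, ← Subgroup.coe_map]
  refine Cfsg.Agent.Frobenius.Basic.isFrobeniusComplement_of_fixedPointFree (K.map q) (R.map q) ?_ ?_ ?_ ?_ ?_
  · rw [Subgroup.eq_bot_iff_forall]
    rintro _ ⟨⟨b, hb, rfl⟩, ⟨a, ha, e⟩⟩
    rw [← e, hmem a ha b hb e, map_one]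
  · rw [← Subgroup.map_sup, hcompl.sup_eq_top, Subgroup.map_top_of_surjective _ (QuotientGroup.mk'_surjective N)]
  · rw [Ne, Subgroup.map_eq_bot_iff, QuotientGroup.ker_mk']; exact hKN'
  · intro h
    apply hR.1
    rw [Subgroup.eq_bot_iff_forall]
    intro a ha
    exact hmem a ha 1 (one_mem K) (by rw [map_one]; exact (Subgroup.eq_bot_iff_forall _).mp h _ ⟨a, ha, rfl⟩)
  · rintro _ ⟨r, hr, rfl⟩ hr1 _ ⟨k, hk, rfl⟩ hcomm
    have hr1' : r ≠ 1 := fun h => hr1 (by rw [h, map_one])
    rw [← map_mul, ← map_mul] at hcomm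
    have hc : k * (r * k⁻¹ * r⁻¹) ∈ N := by
      have h : (r * k)⁻¹ * (k * r) ∈ N := QuotientGroup.eq.mp hcomm.symm
      have h2 := Subgroup.Normal.conj_mem (inferInstance : N.Normal) _ h (r * k)
      rw [show r * k * ((r * k)⁻¹ * (k * r)) * (r * k)⁻¹ = k * (r * k⁻¹ * r⁻¹) by group] at h2
      exact h2
    obtain ⟨n, hn, e⟩ := hsurj N hNK inferInstance r hr hr1' _ hc
    have h5 : (k⁻¹ * n) * r = r * (k⁻¹ * n) := by
      calc (k⁻¹ * n) * r = k⁻¹ * (n * (r * n⁻¹ * r⁻¹)) * r * n := by group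
        _ = k⁻¹ * (k * (r * k⁻¹ * r⁻¹)) * r * n := by rw [e]
        _ = _ := by group
    have h6 := hfix r hr hr1' _ (mul_mem (inv_mem hk) (hNK hn)) h5
    rw [inv_mul_eq_one] at h6
    show q k = 1
    rw [h6]
    exact (QuotientGroup.eq_one_iff n).mpr hn

end Cfsg.Agent.S3768
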