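import Cfsg.Statements.S3769
import Mathlib
import Cfsg.Agent.GenA.FixedPointFreeModule
import Cfsg.Agent.Lib.Coprime.Sylow

set_option autoImplicit false
open Cfsg
open scoped commutatorElement

namespace Cfsg.Agent.S3769
open Cfsg.Agent.Coprime

/-- Let G and V be subgroups of a finite group with G solvable of odd order normalizing V, V an elementary abelian ℓ-group for a prime ℓ not dividing the order of G, and suppose G has a normal Hall subgroup K with a complement R of prime order. If C_V(R) = 1, then [R, K] centralizes V. -/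
theorem result {X : Type*} [Group X] [Finite X] (G : Subgroup X) (hsolv : Group.IsSolvable G) (hodd : Odd (Nat.card G)) (V : Subgroup X) {ℓ : ℕ} (hℓ : ℓ.Prime) (hV : Cfsg.IsElementaryAbelian ℓ V) (hℓG : ¬ ℓ ∣ Nat.card G) (hGV : G ≤ Subgroup.normalizer (V : Set X)) (K R : Subgroup X) (hKG : K ≤ G) (hKn : G ≤ Subgroup.normalizer (K : Set X)) (hHall : (Nat.card K).Coprime (K.relIndex G)) (hRG : R ≤ G) (hR : (Nat.card R).Prime) (hKR : K ⊓ R = ⊥) (hKRG : K ⊔ R = G) (hCV : V ⊓ Subgroup.centralizer (R : Set X) = ⊥) : ⁅R, K⁆ ≤ Subgroup.centralizer (V : Set X) := by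
  classical
  set r := Nat.card R with hr
  have hKn' : R ≤ Subgroup.normalizer (K : Set X) := hRG.trans hKn
  have hcard : Nat.card K * r = Nat.card G := by
    have hd : Subgroup.IsComplement' (K.subgroupOf G) (R.subgroupOf G) := by
      haveI : (K.subgroupOf G).Normal := Subgroup.normal_subgroupOf_of_le_normalizer hKn
      refine Subgroup.isComplement'_of_disjoint_and_mul_eq_univ ?_ ?_
      · rw [disjoint_iff, Subgroup.subgroupOf, Subgroup.subgroupOf, ← Subgroup.comap_inf, hKR,
          MonoidHom.comap_bot, Subgroup.ker_subtype]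
      · rw [← Subgroup.normal_mul, ← Subgroup.subgroupOf_sup hKG hRG, hKRG, Subgroup.subgroupOf_self]; rfl
    rw [← Nat.card_congr (Subgroup.subgroupOfEquivOfLe hKG).toEquiv, hr, ← Nat.card_congr (Subgroup.subgroupOfEquivOfLe hRG).toEquiv]
    exact hd.card_mul_card
  have hcop : (Nat.card R).Coprime (Nat.card K) := by
    have h2 : Nat.card K * K.relIndex G = Nat.card G := by
      rw [← Subgroup.relIndex_bot_left K, ← Subgroup.relIndex_bot_left G]
      exact Subgroup.relIndex_mul_relIndex _ _ _ bot_le hKG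
    show r.Coprime _
    rw [← Nat.eq_of_mul_eq_mul_left Nat.card_pos (h2.trans hcard.symm)]
    exact hHall.symm
  set C := Subgroup.centralizer (V : Set X) with hC
  have hnC : ∀ x ∈ G, x ∈ Subgroup.normalizer (C : Set X) := fun x hx => Cfsg.Agent.GenA.MinimalAction.normalizer_centralizer (hGV hx)
  let Y : Subgroup X :=
    { carrier := {k | k ∈ K ∧ ∀ x ∈ R, ⁅x, k⁆ ∈ C}
      one_mem' := ⟨one_mem _, fun x _ => by rw [commutatorElement_one_right]; exact one_mem _⟩
      mul_mem' := fun {a b} ha hb => ⟨mul_mem ha.1 hb.1, fun x hx => by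
        rw [show ⁅x, a * b⁆ = ⁅x, a⁆ * (a * ⁅x, b⁆ * a⁻¹) by simp only [commutatorElement_def]; group]
        exact mul_mem (ha.2 x hx) ((Subgroup.mem_normalizer_iff.mp (hnC a (hKG ha.1)) _).mp (hb.2 x hx))⟩
      inv_mem' := fun {a} ha => ⟨inv_mem ha.1, fun x hx => by
        rw [show ⁅x, a⁻¹⁆ = a⁻¹ * (⁅x, a⁆)⁻¹ * a by simp only [commutatorElement_def]; group]
        simpa using (Subgroup.mem_normalizer_iff.mp (hnC a⁻¹ (hKG (inv_mem ha.1))) _).mp (inv_mem (ha.2 x hx))⟩ }
  suffices hY : K ≤ Y by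
    rw [Subgroup.commutator_le]
    exact fun x hx k hk => (hY hk).2 x hx
  haveI : IsCyclic R := by haveI := Fact.mk hR; exact isCyclic_of_prime_card rfl
  have hsolvR : Group.IsSolvable R := by haveI : IsMulCommutative R := IsCyclic.commutative; exact isSolvable_of_isMulCommutative R
  have hdvd : ∀ q : ℕ, q.Prime → ∀ n : ℕ, q ^ n ∣ Nat.card K → q ^ n ∣ Nat.card Y := by
    intro q hq n hn
    by_cases hn0 : n = 0
    · rw [hn0, pow_zero]; exact one_dvd _
    haveI := Fact.mk hq
    obtain ⟨P, hP⟩ := exists_invariant_sylow q hKn' hcop (Or.inl hsolvR)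
    set Q := (P : Subgroup K).map K.subtype with hQ
    have hqK : q ∣ Nat.card K := (dvd_pow_self q hn0).trans hn
    have hqG : q ∣ Nat.card G := hqK.trans (Subgroup.card_dvd_of_le hKG)
    have hrG : r ∣ Nat.card G := Subgroup.card_dvd_of_le hRG
    have hQG : Q ≤ G := (Subgroup.map_subtype_le _).trans hKG
    have h := Cfsg.Agent.GenA.FixedPointFreeModule.commutator_le_centralizer hℓ hq hR
      (fun e => hℓG (e ▸ hqG)) (fun e => hℓG (e ▸ hrG))
      (fun e => by
        have := Nat.eq_one_of_dvd_coprimes hcop (e ▸ dvd_rfl) hqK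
        exact hq.ne_one this)
      R Q V rfl (P.2.map _) hP hV (hRG.trans hGV) (hQG.trans hGV) hCV
      (fun h2 _ => absurd (h2 ▸ hqG) fun hd => by have := Nat.odd_iff.mp hodd; omega)
    have hQY : Q ≤ Y := fun k hk => ⟨Subgroup.map_subtype_le _ hk, fun x hx => by
      rw [← commutatorElement_inv]
      exact inv_mem (h (Subgroup.commutator_mem_commutator hk hx))⟩
    refine dvd_trans ?_ (Subgroup.card_dvd_of_le hQY)
    rw [hQ, Subgroup.card_subtype, P.card_eq_multiplicity]
    exact Nat.pow_dvd_pow q ((Nat.Prime.pow_dvd_iff_le_factorization hq Nat.card_pos.ne').mp hn)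
  have hd : Nat.card K ∣ Nat.card Y :=
    (Nat.dvd_iff_prime_pow_dvd_dvd _ _).mpr fun q n hq hn => hdvd q hq n hn
  have hYK : Y ≤ K := fun x hx => hx.1
  exact (Subgroup.eq_of_le_of_card_ge hYK (Nat.le_of_dvd Nat.card_pos hd)).ge

end Cfsg.Agent.S3769
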