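import Cfsg.Statements.S3770
import Mathlib
import Cfsg.Agent.OddLocal.FrobeniusFormula
import Cfsg.Agent.Lib.Characters.Frobenius

set_option autoImplicit false
open Cfsg
open scoped commutatorElement

namespace Cfsg.Agent.S3770
open Cfsg.Agent.OddLocal.FrobeniusFormula Cfsg.Agent.Coprime Cfsg.Agent.Coprime.FrobeniusPGroup
open scoped Pointwise

/-- The kernel of a group with a fixed point free complement centralises `V` up to its derived group. -/
theorem core {X : Type*} [Group X] [Finite X] {K E V : Subgroup X} {ℓ : ℕ} (hℓ : ℓ.Prime)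
    (hV : Cfsg.IsElementaryAbelian ℓ V) (hE : E ≠ ⊥) (hEK : E ≤ Subgroup.normalizer (K : Set X))
    (hfpf : ∀ a ∈ E, a ≠ 1 → ∀ u ∈ K, a * u = u * a → u = 1) (hKV : K ≤ Subgroup.normalizer (V : Set X))
    (hEV : E ≤ Subgroup.normalizer (V : Set X)) (hcop : (Nat.card V).Coprime (Nat.card K * Nat.card E))
    (hCV : Nat.card ↥(V ⊓ Subgroup.centralizer (E : Set X)) ≤ ℓ) :
    ⁅K, K⁆ ≤ Subgroup.centralizer (V : Set X) := by
  haveI := hV.1
  set W := ⁅V, K⁆ with hW
  have hWV : W ≤ V := commutator_le_of_le_normalizer hKV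
  have hcopK : (Nat.card K).Coprime (Nat.card V) := (hcop.coprime_dvd_right (dvd_mul_right _ _)).symm
  have hWel : Cfsg.IsElementaryAbelian ℓ W :=
    ⟨⟨⟨fun a b => Subtype.ext (congrArg Subtype.val (hV.1.is_comm.comm (⟨a, hWV a.2⟩ : V) ⟨b, hWV b.2⟩) :)⟩⟩,
      fun a ha => hV.2 a (hWV ha)⟩
  have hH : Hyp W K E := ⟨hEK, hfpf, fun k hk => mem_normalizer_commutator (hKV hk) (Subgroup.le_normalizer hk),
    fun k hk => mem_normalizer_commutator (hEV hk) (hEK hk), by haveI := hWel.1; exact isSolvable_of_isMulCommutative W,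
    hcop.coprime_dvd_left (Subgroup.card_dvd_of_le hWV)⟩
  have hCW : W ⊓ Subgroup.centralizer (K : Set X) = ⊥ := by
    rw [eq_bot_iff]
    intro x hx
    have := inf_centralizer_inf_commutator hKV hcopK
    rw [← this]
    exact ⟨⟨hWV hx.1, hx.2⟩, hx.1⟩
  have h1 := commutator_le_centralizer hℓ hH hWel hCW hE
    ((Subgroup.card_le_of_le (inf_le_inf_right _ hWV)).trans hCV)
  have h2 := commutator_sup_inf_centralizer hKV hcopK (Or.inr (isSolvable_of_isMulCommutative V))
  rw [← hW] at h2
  intro c hc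
  rw [Subgroup.mem_centralizer_iff]
  intro v hv
  have : V ≤ Subgroup.centralizer ({c} : Set X) := by
    rw [← h2]
    refine sup_le ?_ ?_
    · intro w hw
      exact Subgroup.mem_centralizer_singleton_iff.mpr (Subgroup.mem_centralizer_iff.mp (h1 hc) w hw)
    · intro w hw
      exact Subgroup.mem_centralizer_singleton_iff.mpr
        (Subgroup.mem_centralizer_iff.mp hw.2 c (commutator_le_of_le_normalizer Subgroup.le_normalizer hc)).symm
  exact Subgroup.mem_centralizer_singleton_iff.mp (this hv)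

/-- Let G and V be subgroups of a finite group with G a Frobenius group with complement R of prime order and kernel K, G normalizing V, and V an elementary abelian ℓ-group for a prime ℓ not dividing the order of G. If C_V(R) has order ℓ, then the derived subgroup of K centralizes V. -/
theorem result {X : Type*} [Group X] [Finite X] (G : Subgroup X) (V : Subgroup X) {ℓ : ℕ} (hℓ : ℓ.Prime) (hV : Cfsg.IsElementaryAbelian ℓ V) (hℓG : ¬ ℓ ∣ Nat.card G) (hGV : G ≤ Subgroup.normalizer (V : Set X)) (R : Subgroup ↥G) (hR : Cfsg.IsFrobeniusComplement R) (hRp : (Nat.card R).Prime) (hCV : Nat.card ↥(V ⊓ Subgroup.centralizer ((R.map G.subtype : Subgroup X) : Set X)) = ℓ) : ⁅Subgroup.closure (Subtype.val '' Cfsg.frobeniusKernel R), Subgroup.closure (Subtype.val '' Cfsg.frobeniusKernel R)⁆ ≤ Subgroup.centralizer (V : Set X) := by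
  obtain ⟨N, hN, hNn, hNR⟩ := Cfsg.Agent.Characters.frobenius_kernel_theorem hR
  haveI := hNn
  set K := Subgroup.closure (Subtype.val '' Cfsg.frobeniusKernel R) with hK
  have hKN : K = N.map G.subtype := by
    rw [hK, ← hN, ← Subgroup.coe_subtype, ← MonoidHom.map_closure, Subgroup.closure_eq]
  have hKG : K ≤ G := hKN ▸ Subgroup.map_subtype_le _
  have hEG : R.map G.subtype ≤ G := Subgroup.map_subtype_le _
  refine core hℓ hV (fun h => hR.1 ((Subgroup.map_eq_bot_iff_of_injective _ G.subtype_injective).mp h)) ?_ ?_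
    (hKG.trans hGV) (hEG.trans hGV) ?_ hCV.le
  · rw [hKN]
    refine hEG.trans ?_
    intro g hg
    exact Subgroup.le_normalizer_map G.subtype ⟨⟨g, hg⟩, by rw [Subgroup.normalizer_eq_top]; trivial, rfl⟩
  · rintro _ ⟨a, ha, rfl⟩ ha1 _ hu hcomm
    rw [hKN] at hu
    obtain ⟨u, hu, rfl⟩ := hu
    by_contra hu1
    have huR : u ∉ R := by
      intro h
      have : u ∈ N ⊓ R := ⟨hu, h⟩
      rw [hNR.disjoint.eq_bot, Subgroup.mem_bot] at this
      exact hu1 (by rw [this]; rfl)
    have h2 := hR.2.2 u huR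
    have hmem : a ∈ R ⊓ (MulAut.conj u • R) := by
      refine ⟨ha, Subgroup.mem_pointwise_smul_iff_inv_smul_mem.mpr ?_⟩
      have e : a * u = u * a := Subtype.ext hcomm
      rw [← map_inv, MulAut.smul_def, MulAut.conj_apply, inv_inv, mul_assoc, e, inv_mul_cancel_left]
      exact ha
    rw [h2, Subgroup.mem_bot] at hmem
    exact ha1 (by rw [hmem]; rfl)
  · haveI := hV.1
    haveI : Fact ℓ.Prime := ⟨hℓ⟩
    obtain ⟨k, hk⟩ := (Cfsg.Agent.Components.Hyperplane.isPGroup hV).exists_card_eq
    rw [hk]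
    refine Nat.Coprime.pow_left k (hℓ.coprime_iff_not_dvd.mpr fun hd => hℓG ?_)
    rcases hℓ.dvd_mul.mp hd with h | h
    · exact h.trans (Subgroup.card_dvd_of_le hKG)
    · exact h.trans (Subgroup.card_dvd_of_le hEG)

end Cfsg.Agent.S3770
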