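import Cfsg.Statements.S3771
import Mathlib
import Cfsg.Agent.Lib.PGroups.Basic
import Cfsg.Agent.Lib.PGroups.Normal

set_option autoImplicit false
open Cfsg Cfsg.Agent.PGroups.Basic Cfsg.Agent.PGroups.Normal
open scoped commutatorElement

namespace Cfsg.Agent.S3771

/-- Let p be a prime and R a finite p-group of p-rank at most 2 (no elementary abelian subgroup of order p³) in which every element has order dividing p. Then R has order at most p³. -/
theorem result {R : Type*} [Group R] [Finite R] {p : ℕ} [Fact p.Prime] (hR : IsPGroup p R) (hrank : Cfsg.PRankLE p 2 R) (hexp : ∀ x : R, x ^ p = 1) : Nat.card R ≤ p ^ 3 := by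
  haveI := hR.isNilpotent
  obtain ⟨A, hAn, hAc, hAC⟩ := Cfsg.Agent.OddLocal.Puig.exists_selfCentralizing (G := R) inferInstance
  haveI := hAn
  have hA2 : Nat.card A ≤ p ^ 2 := hrank A hAc fun a _ => hexp a
  have hp : p.Prime := Fact.out
  obtain ⟨n, hn⟩ := IsPGroup.iff_card.mp (hR.to_subgroup A)
  have hn2 : n ≤ 2 := by rw [hn] at hA2; exact (Nat.pow_le_pow_iff_right hp.one_lt).mp hA2
  obtain ⟨N, hN⟩ := IsPGroup.iff_card.mp hR
  by_contra hlt
  push_neg at hlt
  rw [hN] at hlt
  have hN4 : 4 ≤ N := (Nat.pow_lt_pow_iff_right hp.one_lt).mp hlt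
  -- R acts on A by conjugation with kernel A
  let φ : R →* MulAut A := (MulAut.conjNormal : R →* MulAut A)
  have hker : φ.ker = A := by
    ext x
    rw [MonoidHom.mem_ker]
    constructor
    · intro h
      rw [← hAC, Subgroup.mem_centralizer_iff]
      intro a ha
      have h1 : x * a * x⁻¹ = a := by
        simpa [φ] using congrArg Subtype.val (DFunLike.congr_fun h (⟨a, ha⟩ : A))
      exact (mul_inv_eq_iff_eq_mul.mp h1).symm
    · intro h
      refine MulEquiv.ext fun a => Subtype.ext ?_
      show x * (a : R) * x⁻¹ = a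
      rw [congrArg Subtype.val (hAc.is_comm.comm ⟨x, h⟩ a) |> fun e => (show x * (a : R) = a * x from e), mul_inv_cancel_right]
  -- a generating set of size n gives |R/A| ≤ |A|^n
  obtain ⟨S, hS, htop⟩ := exists_generators (hR.to_subgroup A) n hn.le
  have hidx : A.index ≤ Nat.card A ^ n := by
    rw [show A.index = φ.ker.index by rw [hker], Subgroup.index_ker]
    calc Nat.card φ.range ≤ Nat.card (S → A) := by
          refine Nat.card_le_card_of_injective (fun f => fun s : S => (f : MulAut A) (s : A)) ?_
          intro f g h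
          apply Subtype.ext
          apply MulEquiv.toMonoidHom_injective
          exact MonoidHom.eq_of_eqOn_dense htop fun x hx => congrFun h ⟨x, hx⟩
      _ = Nat.card A ^ S.card := by rw [Nat.card_fun]; simp
      _ ≤ Nat.card A ^ n := Nat.pow_le_pow_right Nat.card_pos hS
  have hcard := A.card_mul_index
  obtain ⟨e, he⟩ : ∃ e, A.index = p ^ e := hR.index A
  rw [hn, he, hN, ← pow_add] at hcard
  have hNe := Nat.pow_right_injective hp.two_le hcard
  rw [he, hn, ← pow_mul] at hidx
  have hle : e ≤ n * n := (Nat.pow_le_pow_iff_right hp.one_lt).mp hidx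
  -- n = 2; improve the bound using that `R/A` is a p-subgroup of Aut A
  have hn2' : n = 2 := by interval_cases n <;> omega
  subst hn2'
  obtain ⟨B, hBn, hBA, hB⟩ := exists_normal_le_card hR A 1 (by rw [hn]; exact Nat.pow_le_pow_right hp.pos (by omega))
  rw [pow_one] at hB
  haveI := hBn
  have hBz : B ≤ Subgroup.center R := by
    intro b hb
    rw [Subgroup.mem_center_iff]
    intro g
    have key : ⁅B, (⊤ : Subgroup R)⁆ = ⊥ := by
      by_contra hne
      have heq : ⁅B, (⊤ : Subgroup R)⁆ = B := by
        refine Subgroup.eq_of_le_of_card_ge (Subgroup.commutator_le_left _ _) ?_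
        rw [hB]
        exact Nat.le_of_dvd Nat.card_pos (((hR.to_subgroup _).card_eq_or_dvd).resolve_left
          fun h => hne (Subgroup.eq_bot_of_card_eq _ h))
      have hb := le_of_le_commutator_sup B ⊥ (by rw [sup_bot_eq, heq])
      rw [le_bot_iff] at hb
      rw [hb, Subgroup.card_bot] at hB
      exact hp.one_lt.ne hB
    exact (Subgroup.mem_center_iff.mp (Subgroup.commutator_top_right_eq_bot_iff_le_center.mp key hb) g)
  obtain ⟨a, haA, haB⟩ := SetLike.exists_of_lt (lt_of_le_of_ne hBA fun h => by
    rw [h, hn] at hB; exact absurd (Nat.pow_right_injective hp.two_le (hB.trans (pow_one p).symm)) (by omega))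
  have hAgen : A = B ⊔ Subgroup.zpowers a := by
    refine le_antisymm ?_ (sup_le hBA (Subgroup.zpowers_le.mpr haA))
    set K := B ⊔ Subgroup.zpowers a
    have hKA : K ≤ A := sup_le hBA (Subgroup.zpowers_le.mpr haA)
    refine (Subgroup.eq_of_le_of_card_ge hKA ?_).ge
    have hlt : B < K := lt_of_le_of_ne le_sup_left fun h => haB (h ▸ Subgroup.mem_sup_right (Subgroup.mem_zpowers a))
    obtain ⟨k, hk⟩ := IsPGroup.iff_card.mp (hR.to_subgroup K)
    have : p < Nat.card K := hB ▸ lt_of_le_of_ne (Subgroup.card_le_of_le hlt.le) fun h => hlt.ne (Subgroup.eq_of_le_of_card_ge hlt.le h.ge)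
    rw [hn, hk]
    rw [hk] at this
    nth_rewrite 1 [← pow_one p] at this
    exact Nat.pow_le_pow_right hp.pos ((Nat.pow_lt_pow_iff_right hp.one_lt).mp this)
  have hbound : A.index ≤ p := by
    rw [← hker, Subgroup.index_ker]
    -- an element of the range is determined by the image of `a` modulo ... and fixes B
    let g : φ.range → {y : A // ((a : R))⁻¹ * (y : R) ∈ B} := fun f => ⟨(f : MulAut A) ⟨a, haA⟩, by
      obtain ⟨_, x, rfl⟩ := f
      show a⁻¹ * (x * a * x⁻¹) ∈ B
      have h1 : ⁅A, (⊤ : Subgroup R)⁆ ≤ B := by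
        set C := ⁅A, (⊤ : Subgroup R)⁆ ⊔ B
        have hCA : C ≤ A := sup_le (Subgroup.commutator_le_left _ _) hBA
        refine le_sup_left.trans (?_ : C ≤ B)
        by_contra hCB
        have hlt : B < C := lt_of_le_of_ne le_sup_right fun h => hCB h.ge
        obtain ⟨k, hk⟩ := IsPGroup.iff_card.mp (hR.to_subgroup C)
        have : p < Nat.card C := hB ▸ lt_of_le_of_ne (Subgroup.card_le_of_le hlt.le) fun h => hlt.ne (Subgroup.eq_of_le_of_card_ge hlt.le h.ge)
        rw [hk] at this
        nth_rewrite 1 [← pow_one p] at this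
        have hCeq : C = A := Subgroup.eq_of_le_of_card_ge hCA (by
          rw [hn, hk]; exact Nat.pow_le_pow_right hp.pos ((Nat.pow_lt_pow_iff_right hp.one_lt).mp this))
        exact haB (le_of_le_commutator_sup A B hCeq.ge haA)
      have h2 := h1 (Subgroup.commutator_mem_commutator (inv_mem haA) (Subgroup.mem_top x))
      simpa [commutatorElement_def, mul_assoc] using h2⟩
    have hg : Function.Injective g := by
      intro f f' h
      apply Subtype.ext
      refine MulEquiv.ext fun y => ?_
      have hy : (y : R) ∈ B ⊔ Subgroup.zpowers a := hAgen ▸ y.2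
      obtain ⟨b, hb, _, ⟨k, rfl⟩, he⟩ := Subgroup.mem_sup_of_normal_left.mp hy
      have hy' : y = ⟨b, hBA hb⟩ * (⟨a, haA⟩ : A) ^ k := Subtype.ext (by simpa using he.symm)
      have hfix : ∀ f : φ.range, (f : MulAut A) ⟨b, hBA hb⟩ = ⟨b, hBA hb⟩ := by
        rintro ⟨_, x, rfl⟩
        refine Subtype.ext ?_
        show x * b * x⁻¹ = b
        rw [Subgroup.mem_center_iff.mp (hBz hb) x, mul_inv_cancel_right]
      rw [hy', map_mul, map_mul, map_zpow, map_zpow, hfix, hfix]
      exact congrArg (fun z => (⟨b, hBA hb⟩ : A) * z ^ k) (congrArg Subtype.val h)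
    refine (Nat.card_le_card_of_injective g hg).trans (hB ▸ ?_)
    exact Nat.card_le_card_of_injective (fun y => (⟨a⁻¹ * (y.1 : R), y.2⟩ : B))
      (fun y y' h => Subtype.ext (Subtype.ext (mul_left_cancel (congrArg Subtype.val h))))
  rw [he] at hbound
  nth_rewrite 2 [← pow_one p] at hbound
  have : e ≤ 1 := (Nat.pow_le_pow_iff_right hp.one_lt).mp hbound
  omega

end Cfsg.Agent.S3771
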