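import Cfsg.Statements.S3772
import Mathlib
import Cfsg.Agent.GenA.SquareCount
import Cfsg.Agent.Solvable.Basics

set_option autoImplicit false
open Cfsg
open scoped commutatorElement

namespace Cfsg.Agent.S3772

/-- Let G be a finite 2-group whose Frattini subgroup Φ(G) has order 2, with |G : Φ(G)| = 2^d, and let j be the number of elements x of G with x² = 1. Then j = 2^d, or j = 2^d + 2^(d−r) or j = 2^d − 2^(d−r) for some positive integer r with 2r ≤ d. Moreover if d = 2r and j is 2^d + 2^r or 2^d − 2^r, then G is extraspecial. -/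
theorem result {G : Type*} [Group G] [Finite G] (hG : IsPGroup 2 G) (hΦ : Nat.card (frattini G) = 2) (d : ℕ) (hd : (frattini G).index = 2 ^ d) : (Nat.card {x : G // x ^ 2 = 1} = 2 ^ d ∨ ∃ r : ℕ, 1 ≤ r ∧ 2 * r ≤ d ∧ (Nat.card {x : G // x ^ 2 = 1} = 2 ^ d + 2 ^ (d - r) ∨ Nat.card {x : G // x ^ 2 = 1} + 2 ^ (d - r) = 2 ^ d)) ∧ (∀ r : ℕ, d = 2 * r → (Nat.card {x : G // x ^ 2 = 1} = 2 ^ d + 2 ^ r ∨ Nat.card {x : G // x ^ 2 = 1} + 2 ^ r = 2 ^ d) → Cfsg.IsExtraspecial 2 G) := by
  classical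
  haveI : Fact (Nat.Prime 2) := ⟨Nat.prime_two⟩
  haveI : Fintype G := Fintype.ofFinite G
  set Φ := frattini G with hΦdef
  have hcard : Nat.card G = 2 ^ (d + 1) := by rw [← Subgroup.card_mul_index Φ, hΦ, hd, pow_succ']
  haveI : IsCyclic ↥Φ := isCyclic_of_prime_card hΦ
  obtain ⟨z, hz, hz1⟩ := Φ.bot_or_exists_ne_one.resolve_left (fun h => by rw [h, Subgroup.card_bot] at hΦ; omega)
  have hel : ∀ y ∈ Φ, y = 1 ∨ y = z := by
    intro y hy
    by_contra hcon
    rw [not_or] at hcon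
    have h3 : ({⟨1, Φ.one_mem⟩, ⟨y, hy⟩, ⟨z, hz⟩} : Finset ↥Φ).card ≤ 2 := by
      rw [← hΦ, Nat.card_eq_fintype_card]; exact Finset.card_le_univ _
    rw [Finset.card_eq_three.mpr ⟨⟨1, Φ.one_mem⟩, ⟨y, hy⟩, ⟨z, hz⟩, fun h => hcon.1 (congrArg Subtype.val h).symm,
      fun h => hz1 (congrArg Subtype.val h).symm, fun h => hcon.2 (congrArg Subtype.val h), rfl⟩] at h3
    omega
  have hzc : z ∈ Subgroup.center G := Subgroup.mem_center_iff.mpr fun g => by
    have h1 : g * z * g⁻¹ ∈ Φ := Subgroup.Normal.conj_mem inferInstance z hz g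
    rcases hel _ h1 with h | h
    · exact absurd (conj_eq_one_iff.mp h) hz1
    · exact mul_inv_eq_iff_eq_mul.mp h
  have hΦc : Φ ≤ Subgroup.center G := fun y hy => by
    rcases hel y hy with rfl | rfl
    · exact one_mem _
    · exact hzc
  have hsq : ∀ g : G, g * g ∈ Φ := fun g => by rw [← sq]; exact Cfsg.Agent.Solvable.Basics.pow_mem_frattini hG g
  have hcm' : commutator G ≤ Φ := Cfsg.Agent.GenA.SquareCount.commutator_le_frattini hG
  have hcm : ∀ g h : G, ⁅g, h⁆ ∈ Φ := fun g h => hcm' (Subgroup.commutator_mem_commutator (Subgroup.mem_top g) (Subgroup.mem_top h))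
  have hz2 : z * z = 1 := by
    rcases hel _ (Φ.mul_mem hz hz) with h | h
    · exact h
    · exact absurd (mul_eq_left.mp h) hz1
  have hy2 : ∀ y ∈ Φ, y * y = 1 := fun y hy => by
    rcases hel y hy with rfl | rfl
    · simp
    · exact hz2
  let ψ : ↥Φ →* ℤˣ := MonoidHom.mk' (fun y => if (y : G) = 1 then 1 else -1) fun a b => by
    rcases hel a a.2 with ha | ha <;> rcases hel b b.2 with hb | hb <;> simp [ha, hb, hz1, hz2]
  have hψ : ∀ y : ↥Φ, ψ y = 1 ↔ (y : G) = 1 := fun y => by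
    show (if (y : G) = 1 then (1 : ℤˣ) else -1) = 1 ↔ _
    by_cases h : (y : G) = 1 <;> simp [h]
  obtain ⟨R, hR, hT⟩ := Cfsg.Agent.GenA.SquareCount.gauss hΦc hy2 hsq hcm ψ
  have hRc : R = Subgroup.center G := by
    ext h
    rw [hR, Subgroup.mem_center_iff]
    refine forall_congr' fun g => ?_
    rw [hψ]
    exact commutatorElement_eq_one_iff_mul_comm
  subst hRc
  set j := Nat.card {x : G // x ^ 2 = 1} with hj
  have hjle : j ≤ 2 ^ (d + 1) := hcard ▸ Finite.card_subtype_le _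
  set T := ∑ g : G, ((ψ ⟨g * g, hsq g⟩ : ℤˣ) : ℤ) with hTdef
  have hT2 : T = 2 * (j : ℤ) - (2 : ℤ) ^ (d + 1) := by
    have h1 : ∀ g : G, ((ψ ⟨g * g, hsq g⟩ : ℤˣ) : ℤ) = 2 * (if g ^ 2 = 1 then 1 else 0) - 1 := by
      intro g
      show (((if g * g = 1 then (1 : ℤˣ) else -1) : ℤˣ) : ℤ) = _
      rw [sq]
      by_cases h : g * g = 1 <;> simp [h]
    rw [hTdef, Finset.sum_congr rfl fun g _ => h1 g, Finset.sum_sub_distrib, ← Finset.mul_sum, Finset.sum_boole,
      Finset.sum_const, Finset.card_univ, ← Nat.card_eq_fintype_card, hcard, hj, Nat.card_eq_fintype_card, Fintype.card_subtype]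
    push_cast
    simp
  obtain ⟨c, hc⟩ := IsPGroup.iff_card.mp (hG.to_subgroup (Subgroup.center G))
  have hc1 : 1 ≤ c := by
    by_contra h
    have h2 := Subgroup.card_le_of_le hΦc
    rw [hΦ, hc, show c = 0 by omega, pow_zero] at h2
    omega
  have hnotel : ¬ ∀ h : G, h * h = 1 := by
    intro hall
    refine hz1 (Subgroup.mem_bot.mp ((Cfsg.Agent.GenA.SquareCount.frattini_le (⊥ : Subgroup G) (fun g => Subgroup.mem_bot.mpr (hall g)) fun g h => Subgroup.mem_bot.mpr ?_) hz))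
    have e : ⁅g, h⁆ = g * g * ((g⁻¹ * h) * (g⁻¹ * h)) * (h * h)⁻¹ := by rw [commutatorElement_def]; group
    rw [e]; simp only [hall, inv_one, mul_one]
  -- the nonzero case
  have key : T ≠ 0 → c ≤ d ∧ ∃ m : ℕ, 2 * m = d + 1 + c ∧ T.natAbs = 2 ^ m := by
    intro hne
    rcases hT with ⟨h1, h2⟩ | h1
    · have hcd : c ≤ d + 1 := (Nat.pow_dvd_pow_iff_le_right (by norm_num : 1 < 2)).mp (hc ▸ hcard ▸ Subgroup.card_subgroup_dvd_card _)
      have hcd' : c ≠ d + 1 := by
        intro he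
        apply hnotel
        intro h
        have hh : h ∈ Subgroup.center G := by
          rw [Subgroup.eq_top_of_card_eq (Subgroup.center G) (by rw [hc, hcard, he])]; trivial
        exact (hψ ⟨h * h, hsq h⟩).mp (h2 h hh)
      refine ⟨by omega, ?_⟩
      rw [hcard, hc] at h1
      push_cast at h1
      rw [← pow_add] at h1
      have h3 : T.natAbs ^ 2 = 2 ^ (d + 1 + c) := by
        have := congrArg Int.natAbs h1
        rw [Int.natAbs_pow, Int.natAbs_pow] at this
        simpa using this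
      obtain ⟨m, -, hm⟩ := (Nat.dvd_prime_pow Nat.prime_two).mp (h3 ▸ dvd_pow_self T.natAbs two_ne_zero)
      rw [hm, ← pow_mul] at h3
      exact ⟨m, by have := Nat.pow_right_injective (le_refl 2) h3; omega, hm⟩
    · exact absurd (sq_eq_zero_iff.mp h1) hne
  refine ⟨?_, ?_⟩
  · rcases eq_or_ne T 0 with h0 | hne
    · left
      rw [hT2, pow_succ'] at h0
      have : (j : ℤ) = ((2 ^ d : ℕ) : ℤ) := by push_cast; linarith
      exact_mod_cast this
    · right
      obtain ⟨hcd, m, hm, hTm⟩ := key hne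
      refine ⟨d + 1 - m, by omega, by omega, ?_⟩
      rw [show d - (d + 1 - m) = m - 1 by omega]
      have hm1 : (2 : ℕ) ^ m = 2 * 2 ^ (m - 1) := by rw [← pow_succ']; congr 1; omega
      have hd1 : (2 : ℕ) ^ (d + 1) = 2 * 2 ^ d := pow_succ' 2 d
      have hT3 : T = 2 * (j : ℤ) - ((2 ^ (d + 1) : ℕ) : ℤ) := by rw [hT2]; push_cast; rfl
      omega
  · intro r hdr hor
    have hd1 : (2 : ℕ) ^ (d + 1) = 2 * 2 ^ d := pow_succ' 2 d
    have hr1 : (2 : ℕ) ^ (r + 1) = 2 * 2 ^ r := pow_succ' 2 r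
    have hpos : 0 < (2 : ℕ) ^ r := pow_pos (by norm_num) r
    have hT3 : T = 2 * (j : ℤ) - ((2 ^ (d + 1) : ℕ) : ℤ) := by rw [hT2]; push_cast; rfl
    have habs : T.natAbs = 2 ^ (r + 1) := by omega
    obtain ⟨hcd, m, hm, hTm⟩ := key (fun h => by rw [h, Int.natAbs_zero] at habs; omega)
    rw [habs] at hTm
    have hmr := Nat.pow_right_injective (le_refl 2) hTm
    have hc' : c = 1 := by omega
    have hZ : Φ = Subgroup.center G := Subgroup.eq_of_le_of_card_ge hΦc (by rw [hc, hc', hΦ, pow_one])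
    refine ⟨⟨hG, hZ, le_antisymm (hcm'.trans hΦc) ?_⟩, by rw [hc, hc', pow_one]⟩
    rw [← hZ]
    intro y hy
    rcases hel y hy with rfl | rfl
    · exact one_mem _
    by_contra hzc'
    have hab : Subgroup.center G = ⊤ := by
      rw [eq_top_iff]
      intro g _
      refine Subgroup.mem_center_iff.mpr fun h => ?_
      rw [← commutatorElement_eq_one_iff_mul_comm]
      rcases hel _ (hcm h g) with e | e
      · exact e
      · exact absurd (e ▸ Subgroup.commutator_mem_commutator (Subgroup.mem_top h) (Subgroup.mem_top g)) hzc'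
    rw [hab, Subgroup.card_top, hcard] at hc
    have := Nat.pow_right_injective (le_refl 2) hc
    omega

end Cfsg.Agent.S3772
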