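import Cfsg.Statements.S3773
import Mathlib
import Cfsg.Agent.GenA.SquareCount
import Cfsg.Agent.Lib.Cores.Basic
import Cfsg.Agent.Solvable.Basics

set_option autoImplicit false
open Cfsg
open scoped commutatorElement

namespace Cfsg.Agent.S3773
open Cfsg.Agent.GenA.SquareCount in
theorem center_le_of_eq {G : Type*} [Group G] [Finite G] (hG : IsPGroup 2 G) (N : Subgroup G) (hNc : N ≤ Subgroup.center G)
    (hN : ∀ g : G, g * g = 1 ↔ g ∈ N) (hsq : ∀ g : G, g * g ∈ N) (hcm : ∀ g h : G, ⁅g, h⁆ ∈ N)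
    (heq : Nat.card G = Nat.card N ^ 3) : Subgroup.center G ≤ N := by
  classical
  intro g hg
  by_contra hgN
  set a := g * g with ha
  have ha1 : a ≠ 1 := fun h => hgN ((hN g).mp h)
  have haN : a ∈ N := hsq g
  set A := Subgroup.zpowers a with hA
  have hAN : A ≤ N := Subgroup.zpowers_le.mpr haN
  haveI : A.Normal := ⟨fun x hx y => by
    rw [Subgroup.mem_center_iff.mp (hNc (hAN hx)) y, mul_inv_cancel_right]; exact hx⟩
  have hAc : Nat.card A = 2 := by
    rw [hA, Nat.card_zpowers]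
    haveI : Fact (Nat.Prime 2) := ⟨Nat.prime_two⟩
    exact orderOf_eq_prime (by rw [sq]; exact (hN a).mpr haN) ha1
  set π := QuotientGroup.mk' A
  have hsurj := QuotientGroup.mk'_surjective A
  set W := (N ⊔ Subgroup.zpowers g).map π
  set Y := N.map π
  have hmem : ∀ u : G ⧸ A, u * u = 1 ↔ u ∈ W := by
    intro u
    obtain ⟨u, rfl⟩ := hsurj u
    constructor
    · intro h
      rw [← map_mul] at h
      obtain ⟨i, hi⟩ := (QuotientGroup.eq_one_iff _).mp h
      rcases Int.even_or_odd i with ⟨l, rfl⟩ | ⟨l, rfl⟩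
      · refine Subgroup.mem_map_of_mem π (Subgroup.mem_sup_left ((hN u).mp ?_))
        rw [← hi]
        show a ^ (l + l) = 1
        rw [← two_mul, zpow_mul, zpow_two, (hN a).mpr haN, one_zpow]
      · have hu : u * u = a := by
          rw [← hi]
          show a ^ (2 * l + 1) = a
          rw [zpow_add, zpow_mul, zpow_two, (hN a).mpr haN, one_zpow, one_mul, zpow_one]
        have hgu : u * g ∈ N := by
          refine (hN _).mp ?_
          calc u * g * (u * g) = u * (g * u) * g := by group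
            _ = u * (u * g) * g := by rw [← Subgroup.mem_center_iff.mp hg u]
            _ = (u * u) * (g * g) := by group
            _ = 1 := by rw [hu, ← ha]; exact (hN a).mpr haN
        rw [show π u = π ((u * g) * g⁻¹) by rw [mul_inv_cancel_right]]
        exact Subgroup.mem_map_of_mem π (Subgroup.mul_mem_sup hgu (Subgroup.inv_mem _ (Subgroup.mem_zpowers g)))
    · rintro ⟨w, hw, hwu⟩
      rw [← hwu, ← map_mul]
      refine (QuotientGroup.eq_one_iff _).mpr ?_
      haveI : N.Normal := ⟨fun x hx y => by rw [Subgroup.mem_center_iff.mp (hNc hx) y, mul_inv_cancel_right]; exact hx⟩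
      obtain ⟨n, hn, c, hc, rfl⟩ := Subgroup.mem_sup_of_normal_left.mp hw
      obtain ⟨i, rfl⟩ := hc
      show n * g ^ i * (n * g ^ i) ∈ A
      have e : n * g ^ i * (n * g ^ i) = (n * n) * (g * g) ^ i := by
        have hcn : Commute n (g ^ i) := (Subgroup.mem_center_iff.mp (hNc hn) (g ^ i)).symm
        rw [(Commute.refl g).mul_zpow i]
        calc n * g ^ i * (n * g ^ i) = n * (g ^ i * n) * g ^ i := by group
          _ = n * (n * g ^ i) * g ^ i := by rw [hcn.eq]
          _ = _ := by group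
      rw [e, (hN n).mpr hn, one_mul]
      exact Subgroup.zpow_mem_zpowers a i
  have hmapc : (Subgroup.center G).map π ≤ Subgroup.center (G ⧸ A) := by
    rintro _ ⟨c, hc, rfl⟩
    refine Subgroup.mem_center_iff.mpr fun u => ?_
    obtain ⟨u, rfl⟩ := hsurj u
    rw [← map_mul, ← map_mul, Subgroup.mem_center_iff.mp hc u]
  have h1 := card_le (hG.to_quotient A) Y W
    ((Subgroup.map_mono hNc).trans hmapc)
    (by rintro _ ⟨y, hy, rfl⟩; rw [← map_mul, (hN y).mpr hy, map_one])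
    (fun u => by obtain ⟨u, rfl⟩ := hsurj u; exact ⟨_, hsq u, map_mul π u u⟩)
    (fun u v => by obtain ⟨u, rfl⟩ := hsurj u; obtain ⟨v, rfl⟩ := hsurj v; exact ⟨_, hcm u v, map_commutatorElement π u v⟩)
    ((Subgroup.map_mono (sup_le hNc (Subgroup.zpowers_le.mpr hg))).trans hmapc) hmem
  have hNdiv : Nat.card Y * 2 = Nat.card N := by
    show Nat.card ↥(N.map π) * 2 = _
    rw [← Subgroup.relIndex_bot_left (N.map π), ← Subgroup.relIndex_comap, MonoidHom.comap_bot, QuotientGroup.ker_mk',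
      ← hAc, mul_comm, ← Subgroup.relIndex_bot_left A, ← Subgroup.relIndex_bot_left N]
    exact Subgroup.relIndex_mul_relIndex ⊥ A N bot_le hAN
  have hW : Nat.card W ≤ 2 * Nat.card Y := by
    have hle : W ≤ Y ⊔ Subgroup.zpowers (π g) := by
      show (N ⊔ Subgroup.zpowers g).map π ≤ _
      rw [Subgroup.map_sup, MonoidHom.map_zpowers]
    refine (Subgroup.card_le_of_le hle).trans ?_
    have hg2 : Nat.card (Subgroup.zpowers (π g)) ≤ 2 := by
      rw [Nat.card_zpowers]
      refine orderOf_le_of_pow_eq_one (by norm_num) ?_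
      rw [sq, ← map_mul]
      exact (QuotientGroup.eq_one_iff _).mpr (Subgroup.mem_zpowers a)
    haveI : Y.Normal := Subgroup.Normal.map ⟨fun x hx y => by
      rw [Subgroup.mem_center_iff.mp (hNc hx) y, mul_inv_cancel_right]; exact hx⟩ π hsurj
    refine (Nat.le_of_dvd (Nat.mul_pos Nat.card_pos Nat.card_pos) (Cfsg.Agent.Cores.card_sup_dvd_mul (Subgroup.zpowers (π g)) Y |> fun h => by rwa [sup_comm] at h)).trans ?_
    exact Nat.mul_le_mul_right _ hg2
  have hGq : Nat.card G = 2 * Nat.card (G ⧸ A) := by rw [← hAc, ← Subgroup.index_eq_card, Subgroup.card_mul_index]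
  have h3 : Nat.card (G ⧸ A) ≤ 2 * Nat.card Y * Nat.card Y ^ 2 := h1.trans (Nat.mul_le_mul_right _ hW)
  have hYpos : 0 < Nat.card Y := Nat.card_pos
  rw [heq, ← hNdiv] at hGq
  nlinarith [hGq, h3, Nat.pow_pos (n := 3) hYpos]


/-- Let G be a finite 2-group of nilpotency class at most 2 and exponent dividing 4 in which the elements x with x² = 1 form a subgroup N. Then |G| ≤ |N|³, and |G| < |N|³ unless G is special. -/
theorem result {G : Type*} [Group G] [Finite G] (hG : IsPGroup 2 G) (hcl : (⊤ : Subgroup G).lowerCentralSeries 2 = ⊥) (hexp : ∀ x : G, x ^ 4 = 1) (hN : ∀ x y : G, x ^ 2 = 1 → y ^ 2 = 1 → (x * y) ^ 2 = 1) : Nat.card G ≤ Nat.card {x : G // x ^ 2 = 1} ^ 3 ∧ (¬ Cfsg.IsSpecial 2 G → Nat.card G < Nat.card {x : G // x ^ 2 = 1} ^ 3) := by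
  classical
  haveI : Fact (Nat.Prime 2) := ⟨Nat.prime_two⟩
  have hc2 : ⁅commutator G, (⊤ : Subgroup G)⁆ = ⊥ := hcl
  have hcomm : ∀ g h : G, ⁅g, h⁆ ∈ Subgroup.center G := fun g h =>
    Subgroup.commutator_top_right_eq_bot_iff_le_center.mp hc2 (Subgroup.commutator_mem_commutator (Subgroup.mem_top g) (Subgroup.mem_top h))
  let N : Subgroup G :=
    { carrier := {x | x * x = 1}
      one_mem' := mul_one 1
      mul_mem' := fun {a b} ha hb => by
        show a * b * (a * b) = 1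
        rw [← sq]; exact hN a b (by rw [sq]; exact ha) (by rw [sq]; exact hb)
      inv_mem' := fun {a} ha => by show a⁻¹ * a⁻¹ = 1; rw [← mul_inv_rev, show a * a = 1 from ha, inv_one] }
  have hNcard : Nat.card {x : G // x ^ 2 = 1} = Nat.card N :=
    Nat.card_congr (Equiv.subtypeEquivRight fun x => by rw [sq]; exact Iff.rfl)
  rw [hNcard]
  have hsqN : ∀ g : G, g * g ∈ N := fun g => by
    show g * g * (g * g) = 1
    rw [← mul_assoc, show g * g * g * g = g ^ 4 by simp [pow_succ]]; exact hexp g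
  have hcmN : ∀ g h : G, ⁅g, h⁆ ∈ N := fun g h => by
    rw [show ⁅g, h⁆ = g * g * ((g⁻¹ * h) * (g⁻¹ * h)) * (h * h)⁻¹ by rw [commutatorElement_def]; group]
    exact N.mul_mem (N.mul_mem (hsqN g) (hsqN _)) (N.inv_mem (hsqN h))
  have hsqZ : ∀ g : G, g * g ∈ Subgroup.center G := fun g => Subgroup.mem_center_iff.mpr fun h => by
    rw [← commutatorElement_eq_one_iff_mul_comm, ← commutatorElement_inv, inv_eq_one,
      commutatorElement_mul_left_eq_conj_mul, Subgroup.mem_center_iff.mp (hcomm g h) g, mul_inv_cancel_right]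
    exact hcmN g h
  set Z0 := N ⊓ Subgroup.center G with hZ0
  -- a complement of `N` over `Z0`
  obtain ⟨H, ⟨hH0, hHN⟩, hHmax⟩ := Set.Finite.exists_maximal
    (Set.toFinite {H : Subgroup G | Z0 ≤ H ∧ H ⊓ N ≤ Z0}) ⟨Z0, le_rfl, inf_le_left⟩
  have hHn : H.Normal := ⟨fun x hx y => by
    rw [show y * x * y⁻¹ = ⁅y, x⁆ * x by rw [commutatorElement_def]; group]
    exact H.mul_mem (hH0 ⟨hcmN y x, hcomm y x⟩) hx⟩
  haveI := hHn
  have hHtop : H ⊔ N = ⊤ := by
    by_contra hne
    obtain ⟨g, hg⟩ : ∃ g, g ∉ H ⊔ N := by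
      by_contra hall
      push Not at hall
      exact hne (eq_top_iff.mpr fun g _ => hall g)
    have hgH : g * g ∈ H := hH0 ⟨hsqN g, hsqZ g⟩
    refine hg (Subgroup.mem_sup_left ((hHmax ⟨hH0.trans le_sup_left, ?_⟩ le_sup_left)
      (Subgroup.mem_sup_right (Subgroup.mem_zpowers g))))
    rintro x ⟨hx1, hx2⟩
    obtain ⟨h, hh, c, hc, rfl⟩ := Subgroup.mem_sup_of_normal_left.mp hx1
    obtain ⟨i, rfl⟩ := hc
    rcases Int.even_or_odd i with ⟨l, rfl⟩ | ⟨l, rfl⟩
    · refine hHN ⟨H.mul_mem hh ?_, hx2⟩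
      show g ^ (l + l) ∈ H
      rw [← two_mul, zpow_mul, zpow_two]; exact H.zpow_mem hgH l
    · exfalso
      refine hg ?_
      have e : g = (h * (g * g) ^ l)⁻¹ * (h * g ^ (2 * l + 1)) := by
        rw [← zpow_two, ← zpow_mul, zpow_add, zpow_one]; group
      rw [e]
      exact Subgroup.mul_mem_sup (H.inv_mem (H.mul_mem hh (H.zpow_mem hgH l))) hx2
  have hHeq : H ⊓ N = Z0 := le_antisymm hHN (le_inf hH0 inf_le_left)
  have hHcard : Nat.card H ≤ Nat.card Z0 ^ 3 := by
    have h := Cfsg.Agent.GenA.SquareCount.card_le (hG.to_subgroup H) (Z0.subgroupOf H) (Z0.subgroupOf H)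
      (fun x hx => Subgroup.mem_center_iff.mpr fun y => Subtype.ext (Subgroup.mem_center_iff.mp (hx : (x : G) ∈ Z0).2 y))
      (fun y hy => Subtype.ext (hy : (y : G) ∈ Z0).1)
      (fun g => show ((g : G) * (g : G)) ∈ Z0 from ⟨hsqN g, hsqZ g⟩)
      (fun g h => show ((⁅g, h⁆ : ↥H) : G) ∈ Z0 from ⟨hcmN (g : G) h, hcomm (g : G) h⟩)
      (fun x hx => Subgroup.mem_center_iff.mpr fun y => Subtype.ext (Subgroup.mem_center_iff.mp (hx : (x : G) ∈ Z0).2 y))
      (fun g => ⟨fun h => hHN ⟨g.2, (congrArg Subtype.val h : (g : G) * g = 1)⟩, fun h => Subtype.ext (h : (g : G) ∈ Z0).1⟩)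
    rw [Nat.card_congr (Subgroup.subgroupOfEquivOfLe hH0).toEquiv] at h
    exact h.trans (le_of_eq (by ring))
  have hGc : Nat.card G * Nat.card Z0 = Nat.card H * Nat.card N := by
    rw [← hHeq, ← Subgroup.card_top (G := G), ← hHtop, sup_comm, inf_comm]
    rw [Cfsg.Agent.Cores.card_sup_mul_card_inf N H]
    ring
  have hZN : Nat.card Z0 ≤ Nat.card N := Subgroup.card_le_of_le inf_le_left
  have hpos : 0 < Nat.card Z0 := Nat.card_pos
  have hbound : Nat.card G ≤ Nat.card Z0 ^ 2 * Nat.card N := by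
    refine Nat.le_of_mul_le_mul_right ?_ hpos
    rw [hGc]
    exact (Nat.mul_le_mul_right _ hHcard).trans (le_of_eq (by ring))
  have hle : Nat.card G ≤ Nat.card N ^ 3 :=
    hbound.trans ((Nat.mul_le_mul_right _ (Nat.pow_le_pow_left hZN 2)).trans (le_of_eq (by ring)))
  refine ⟨hle, fun hns => lt_of_le_of_ne hle fun heq => hns ?_⟩
  have hNc : N ≤ Subgroup.center G := by
    have h2 : Nat.card N ≤ Nat.card Z0 := by
      by_contra hlt
      rw [not_le] at hlt
      have := Nat.mul_lt_mul_of_pos_right (Nat.pow_lt_pow_left hlt two_ne_zero) (Nat.card_pos (α := ↥N))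
      have e : Nat.card N ^ 2 * Nat.card N = Nat.card N ^ 3 := by ring
      omega
    exact (Subgroup.eq_of_le_of_card_ge (inf_le_left : Z0 ≤ N) h2).ge.trans inf_le_right
  have hmemN : ∀ g : G, g * g = 1 ↔ g ∈ N := fun g => Iff.rfl
  haveI : N.Normal := ⟨fun x hx y => by rw [Subgroup.mem_center_iff.mp (hNc hx) y, mul_inv_cancel_right]; exact hx⟩
  have hΦN : frattini G ≤ N := Cfsg.Agent.GenA.SquareCount.frattini_le N hsqN hcmN
  have hNΦ : N ≤ frattini G := by
    by_contra hn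
    have h := Cfsg.Agent.GenA.SquareCount.card_le hG (frattini G) N (hΦN.trans hNc) (fun y hy => hΦN hy)
      (fun g => by rw [← sq]; exact Cfsg.Agent.Solvable.Basics.pow_mem_frattini hG g)
      (fun g h => Cfsg.Agent.GenA.SquareCount.commutator_le_frattini hG (Subgroup.commutator_mem_commutator (Subgroup.mem_top g) (Subgroup.mem_top h)))
      hNc hmemN
    have hlt : Nat.card (frattini G) < Nat.card N :=
      lt_of_le_of_ne (Subgroup.card_le_of_le hΦN) fun e => hn (Subgroup.eq_of_le_of_card_ge hΦN e.ge).ge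
    have h1 := Nat.mul_lt_mul_of_pos_left (Nat.pow_lt_pow_left hlt two_ne_zero) (Nat.card_pos (α := ↥N))
    have e : Nat.card N * Nat.card N ^ 2 = Nat.card N ^ 3 := by ring
    omega
  have hΦ : frattini G = N := le_antisymm hΦN hNΦ
  have hZ : Subgroup.center G = N := le_antisymm (center_le_of_eq hG N hNc hmemN hsqN hcmN heq) hNc
  refine ⟨hG, hΦ.trans hZ.symm, le_antisymm (fun x hx => ?_) ?_⟩
  · exact (Cfsg.Agent.GenA.SquareCount.commutator_le_frattini hG).trans (hΦN.trans hNc) hx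
  rw [hZ]
  -- a character of `N` killing the commutator subgroup
  by_contra hn
  obtain ⟨y, hy, hyC⟩ := SetLike.not_le_iff_exists.mp hn
  haveI : IsMulCommutative ↥N := ⟨⟨fun u v => Subtype.ext (Subgroup.mem_center_iff.mp (hNc v.2) u)⟩⟩
  set C := (commutator G).subgroupOf N
  haveI : C.Normal := inferInstance
  have hmc : ∀ a b : ↥N ⧸ C, a * b = b * a := fun a b => by
    obtain ⟨a, rfl⟩ := QuotientGroup.mk'_surjective C a
    obtain ⟨b, rfl⟩ := QuotientGroup.mk'_surjective C b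
    rw [← map_mul, ← map_mul, IsMulCommutative.is_comm.comm a b]
  letI : CommGroup (↥N ⧸ C) := { (inferInstance : Group (↥N ⧸ C)) with mul_comm := hmc }
  obtain ⟨ψ1, hψ1⟩ := Cfsg.Agent.GenA.SquareCount.exists_char (Y := ↥N ⧸ C) (fun u => by
      obtain ⟨u, rfl⟩ := QuotientGroup.mk'_surjective C u
      rw [← map_mul, show u * u = 1 from Subtype.ext ((hmemN u).mpr u.2), map_one])
    (y := ((⟨y, hy⟩ : ↥N) : ↥N ⧸ C)) (fun h => hyC ((QuotientGroup.eq_one_iff (⟨y, hy⟩ : ↥N)).mp h :))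
  set ψ : ↥N →* ℤˣ := ψ1.comp (QuotientGroup.mk' C) with hψ
  have hψC : ∀ g h : G, ψ ⟨⁅g, h⁆, hcmN g h⟩ = 1 := fun g h => by
    show ψ1 (((⟨⁅g, h⁆, hcmN g h⟩ : ↥N)) : ↥N ⧸ C) = 1
    rw [(QuotientGroup.eq_one_iff _).mpr (show (⟨⁅g, h⁆, hcmN g h⟩ : ↥N) ∈ C from Subgroup.commutator_mem_commutator (Subgroup.mem_top g) (Subgroup.mem_top h)), map_one]
  let φ : G →* ℤˣ :=
    { toFun := fun g => ψ ⟨g * g, hsqN g⟩
      map_one' := (congrArg ψ (Subtype.ext (mul_one 1))).trans (map_one ψ)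
      map_mul' := fun g h => by
        have h1 := hψC g⁻¹ h⁻¹
        rw [← mul_one (ψ ⟨g * g, hsqN g⟩ * ψ ⟨h * h, hsqN h⟩), ← hψC h g, ← map_mul, ← map_mul]
        refine congrArg ψ (Subtype.ext ?_)
        show g * h * (g * h) = g * g * (h * h) * ⁅h, g⁆
        calc g * h * (g * h) = g * (⁅h, g⁆ * g * h) * h := by rw [commutatorElement_def]; group
          _ = g * g * h * h * ⁅h, g⁆ := by
              have hc := Subgroup.mem_center_iff.mp (hcomm h g)
              rw [show g * (⁅h, g⁆ * g * h) * h = (g * ⁅h, g⁆) * (g * h * h) by group, hc g, mul_assoc,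
                ← hc (g * (g * h * h))]
              group
          _ = _ := by group }
  set G0 := φ.ker
  set Y0 := (ψ.ker.map N.subtype).subgroupOf G0
  have hkey : ∀ u : ↥G0, (u : G) * u ∈ ψ.ker.map N.subtype := fun u => ⟨⟨_, hsqN u⟩, u.2, rfl⟩
  have h := Cfsg.Agent.GenA.SquareCount.card_le (hG.to_subgroup G0) Y0 (N.subgroupOf G0)
    (fun x hx => by
      obtain ⟨v, -, hv⟩ := (hx : (x : G) ∈ ψ.ker.map N.subtype)
      exact Subgroup.mem_center_iff.mpr fun z => Subtype.ext (Subgroup.mem_center_iff.mp (hNc ((congrArg (· ∈ N) hv).mp v.2)) z))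
    (fun x hx => by
      obtain ⟨v, -, hv⟩ := (hx : (x : G) ∈ ψ.ker.map N.subtype)
      exact Subtype.ext ((hmemN x).mpr ((congrArg (· ∈ N) hv).mp v.2)))
    hkey (fun g h => ⟨⟨⁅(g : G), (h : G)⁆, hcmN g h⟩, hψC g h, rfl⟩)
    (fun x hx => Subgroup.mem_center_iff.mpr fun z => Subtype.ext (Subgroup.mem_center_iff.mp (hNc hx) z))
    (fun g => ⟨fun e => (congrArg Subtype.val e : (g : G) * g = 1), fun e => Subtype.ext e⟩)
  have hG0 : Nat.card G ≤ Nat.card G0 * 2 := by
    have h1 : φ.ker.index ≤ 2 := by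
      rw [Subgroup.index_ker]
      exact (Subgroup.card_le_card_group φ.range).trans (by simp)
    rw [← Subgroup.card_mul_index G0]
    exact Nat.mul_le_mul_left _ h1
  have hY0 : Nat.card Y0 * 2 ≤ Nat.card N := by
    have h1 : Nat.card Y0 ≤ Nat.card ψ.ker := by
      rw [← Subgroup.card_subtype N ψ.ker]
      exact Nat.card_le_card_of_injective (fun x : ↥Y0 => (⟨((x : ↥G0) : G), x.2⟩ : ↥(ψ.ker.map N.subtype))) (fun a b e => Subtype.ext (Subtype.ext (congrArg Subtype.val e :)))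
    have h2 : 2 ≤ ψ.ker.index := by
      by_contra hlt
      have h3 : ψ.ker.index = 1 := by
        have := Subgroup.index_ne_zero_of_finite (H := ψ.ker)
        omega
      have h4 : ψ1 ((⟨y, hy⟩ : ↥N) : ↥N ⧸ C) = 1 := (Subgroup.index_eq_one.mp h3).ge (Subgroup.mem_top (⟨y, hy⟩ : ↥N))
      rw [hψ1] at h4
      exact absurd h4 (by decide)
    calc Nat.card Y0 * 2 ≤ Nat.card ψ.ker * ψ.ker.index := Nat.mul_le_mul h1 h2
      _ = Nat.card N := Subgroup.card_mul_index _
  have hW0 : Nat.card (N.subgroupOf G0) ≤ Nat.card N :=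
    Nat.card_le_card_of_injective (fun x : ↥(N.subgroupOf G0) => (⟨((x : ↥G0) : G), x.2⟩ : ↥N)) (fun a b e => Subtype.ext (Subtype.ext (congrArg Subtype.val e :)))
  have hA : Nat.card G * 2 ≤ Nat.card N * (Nat.card Y0 * 2) ^ 2 := by
    calc Nat.card G * 2 ≤ Nat.card G0 * 2 * 2 := Nat.mul_le_mul_right _ hG0
      _ ≤ Nat.card (N.subgroupOf G0) * Nat.card Y0 ^ 2 * 2 * 2 := Nat.mul_le_mul_right _ (Nat.mul_le_mul_right _ h)
      _ ≤ Nat.card N * Nat.card Y0 ^ 2 * 2 * 2 := Nat.mul_le_mul_right _ (Nat.mul_le_mul_right _ (Nat.mul_le_mul_right _ hW0))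
      _ = _ := by ring
  have hB : Nat.card N * (Nat.card Y0 * 2) ^ 2 ≤ Nat.card N ^ 3 :=
    (Nat.mul_le_mul_left _ (Nat.pow_le_pow_left hY0 2)).trans (le_of_eq (by ring))
  have : 0 < Nat.card G := Nat.card_pos
  omega

end Cfsg.Agent.S3773
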