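import Cfsg.Statements.S3774

set_option autoImplicit false
open Cfsg

namespace Cfsg.Agent.S3774

/-- Let G be a nontrivial finite 2-group whose automorphism group permutes the involutions of G transitively. Then every involution of G is central, so that the involutions together with 1 form the subgroup Ω₁(Z(G)), and if this subgroup has order q then |G| is a power of q. -/
theorem result {G : Type*} [Group G] [Finite G] [Nontrivial G] (hG : IsPGroup 2 G) (htrans : ∀ x y : G, x ≠ 1 → x ^ 2 = 1 → y ≠ 1 → y ^ 2 = 1 → ∃ a : MulAut G, a x = y) : (∀ x : G, x ^ 2 = 1 → x ∈ Subgroup.center G) ∧ ∃ m : ℕ, Nat.card G = Nat.card {z : G // z ^ 2 = 1} ^ m := by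
  classical
  set q := Nat.card {z : G // z ^ 2 = 1}
  have hcen : ∀ x : G, x ^ 2 = 1 → x ∈ Subgroup.center G := by
    intro x hx
    by_cases hx1 : x = 1
    · simp [hx1]
    have := hG.center_nontrivial
    obtain ⟨c, hc⟩ := exists_prime_orderOf_dvd_card' (G := Subgroup.center G) 2
      ((hG.to_subgroup _).card_eq_or_dvd.resolve_left (Finite.one_lt_card).ne')
    have hc2 : (c : G) ^ 2 = 1 := by rw [← Subgroup.orderOf_coe] at hc; rw [← hc]; exact pow_orderOf_eq_one _
    have hc1 : (c : G) ≠ 1 := fun h => by rw [← Subgroup.orderOf_coe, h, orderOf_one] at hc; omega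
    obtain ⟨a, ha⟩ := htrans c x hc1 hc2 hx1 hx
    rw [← ha, Subgroup.mem_center_iff]
    intro g
    have := congrArg a (Subgroup.mem_center_iff.mp c.2 (a.symm g))
    simpa using this
  refine ⟨hcen, ?_⟩
  let Ω : Subgroup G :=
    { carrier := {z | z ^ 2 = 1}
      mul_mem' := fun {a b} ha hb => by
        show (a * b) ^ 2 = 1
        rw [(show Commute a b from (Subgroup.mem_center_iff.mp (hcen a ha) b).symm).mul_pow, ha, hb, one_mul]
      one_mem' := one_pow 2
      inv_mem' := fun {a} ha => by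
        show a⁻¹ ^ 2 = 1
        rw [inv_pow, ha, inv_one] }
  have hqΩ : Nat.card Ω = q := rfl
  obtain ⟨n, hn⟩ := IsPGroup.iff_card.mp (hG.to_subgroup Ω)
  obtain ⟨N, hN⟩ := IsPGroup.iff_card.mp hG
  -- the involution map
  let f : {x : G // x ≠ 1} → {z : G // z ≠ 1 ∧ z ^ 2 = 1} := fun x =>
    ⟨x.1 ^ (orderOf x.1 / 2), by
      obtain ⟨k, hk⟩ := IsPGroup.iff_orderOf.mp hG x.1
      have hk0 : k ≠ 0 := fun h => x.2 (orderOf_eq_one_iff.mp (by simpa [h] using hk))
      obtain ⟨k, rfl⟩ := Nat.exists_eq_succ_of_ne_zero hk0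
      rw [hk, pow_succ, Nat.mul_div_cancel _ two_pos]
      refine ⟨pow_ne_one_of_lt_orderOf (by positivity) ?_, ?_⟩
      · rw [hk, pow_succ]; have : 0 < 2 ^ k := Nat.two_pow_pos k; omega
      · rw [← pow_mul, ← pow_succ, ← Nat.succ_eq_add_one, ← hk, pow_orderOf_eq_one]⟩
  have hfib : ∀ s t, Nat.card {x // f x = s} = Nat.card {x // f x = t} := by
    intro s t
    obtain ⟨a, ha⟩ := htrans s.1 t.1 s.2.1 s.2.2 t.2.1 t.2.2
    refine Nat.card_congr
      (Equiv.subtypeEquiv (a.toEquiv.subtypeEquiv (fun x => (map_ne_one_iff a a.injective).symm)) ?_)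
    intro x
    simp only [Subtype.ext_iff, f]
    rw [show orderOf ((a.toEquiv.subtypeEquiv _ x).1) = orderOf x.1 from a.orderOf_eq x.1,
      show ((a.toEquiv.subtypeEquiv _ x).1) = a x.1 from rfl, ← map_pow, ← ha]
    exact a.injective.eq_iff.symm
  have hdvd : (q - 1) ∣ (Nat.card G - 1) := by
    have h1 : Nat.card {z : G // z ≠ 1 ∧ z ^ 2 = 1} = q - 1 := by
      have : Nat.card {z : G // z ≠ 1 ∧ z ^ 2 = 1} = Nat.card {z : Ω // z ≠ 1} := by
        refine Nat.card_congr ⟨fun z => ⟨⟨z.1, z.2.2⟩, fun h => z.2.1 (congrArg Subtype.val h)⟩,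
          fun z => ⟨z.1.1, fun h => z.2 (Subtype.ext h), z.1.2⟩, fun z => rfl, fun z => rfl⟩
      rw [this, ← hqΩ]
      let _ := Fintype.ofFinite Ω
      rw [Nat.card_eq_fintype_card, Fintype.card_subtype_compl, Fintype.card_subtype_eq, Nat.card_eq_fintype_card]
    have h2 : Nat.card {x : G // x ≠ 1} = Nat.card G - 1 := by
      let _ := Fintype.ofFinite G
      rw [Nat.card_eq_fintype_card, Fintype.card_subtype_compl, Fintype.card_subtype_eq, Nat.card_eq_fintype_card]
    rw [← h1, ← h2, ← Nat.card_congr (Equiv.sigmaFiberEquiv f)]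
    let _ := Fintype.ofFinite {z : G // z ≠ 1 ∧ z ^ 2 = 1}
    rw [Nat.card_sigma]
    rcases isEmpty_or_nonempty {z : G // z ≠ 1 ∧ z ^ 2 = 1} with h | h
    · simp
    obtain ⟨s⟩ := h
    rw [Finset.sum_congr rfl (fun t _ => hfib t s), Finset.sum_const, Finset.card_univ,
      Nat.card_eq_fintype_card, smul_eq_mul]
    exact Dvd.intro _ rfl
  rw [← hqΩ, hn, hN] at hdvd
  have hg := Nat.gcd_eq_left hdvd
  rw [Nat.pow_sub_one_gcd_pow_sub_one] at hg
  have hgn : Nat.gcd n N = n := by
    have := congrArg (· + 1) hg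
    simp only [Nat.sub_add_cancel (Nat.one_le_two_pow)] at this
    exact Nat.pow_right_injective le_rfl this
  obtain ⟨m, hm⟩ := Nat.gcd_eq_left_iff_dvd.mp hgn
  exact ⟨m, by rw [← hqΩ, hn, hN, hm, pow_mul]⟩

end Cfsg.Agent.S3774
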