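import Cfsg.Statements.S3775
import Mathlib

set_option autoImplicit false
open Cfsg
open scoped commutatorElement

namespace Cfsg.Agent.S3775
variable {A : Type*} [CommGroup A] {p : ℕ}

/-- invariance under a set of endomorphisms -/
def Inv (S : Set (A →* A)) (B : Subgroup A) : Prop := ∀ f ∈ S, ∀ b ∈ B, f b ∈ B

theorem omega_of_irreducible (S : Set (A →* A))
    (hirr : ∀ B : Subgroup A, Inv S B → (∀ b ∈ B, b ^ p = 1) → B = ⊥ ∨ ∀ a : A, a ^ p = 1 → a ∈ B) :
    ∀ e : ℕ, ∀ B : Subgroup A, Inv S B → (∀ b ∈ B, b ^ p ^ e = 1) → ∃ i : ℕ, ∀ a : A, a ∈ B ↔ a ^ p ^ i = 1 := by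
  intro e
  induction e with
  | zero =>
    intro B _ hB
    refine ⟨0, fun a => ⟨hB a, fun ha => ?_⟩⟩
    rw [pow_zero, pow_one] at ha
    rw [ha]; exact one_mem _
  | succ e ih =>
    intro B hinv hB
    obtain ⟨i, hi⟩ := ih (B.map (powMonoidHom p)) (by
      rintro f hf _ ⟨b, hb, rfl⟩
      exact ⟨f b, hinv f hf b hb, (map_pow f b p).symm⟩) (by
      rintro _ ⟨b, hb, rfl⟩
      show (b ^ p) ^ p ^ e = 1
      rw [← pow_mul, ← pow_succ']
      exact hB b hb)
    rcases hirr (B ⊓ (powMonoidHom p : A →* A).ker) (fun f hf b hb => ⟨hinv f hf b hb.1, by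
        show (f b) ^ p = 1
        rw [← map_pow, show b ^ p = 1 from hb.2, map_one]⟩) (fun b hb => hb.2) with h | h
    · refine ⟨0, fun a => ⟨fun ha => ?_, fun ha => ?_⟩⟩
      · -- an element of `B` has a power of order dividing `p` in `B`
        rw [pow_zero, pow_one]
        have hkey : ∀ k, ∀ b ∈ B, b ^ p ^ k = 1 → b = 1 := by
          intro k
          induction k with
          | zero => intro b _ hb; rwa [pow_zero, pow_one] at hb
          | succ k ihk =>
            intro b hb hbk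
            have h1 : b ^ p = 1 := ihk _ (B.pow_mem hb p) (by rw [← pow_mul, ← pow_succ']; exact hbk)
            exact Subgroup.mem_bot.mp (h ▸ (⟨hb, h1⟩ : b ∈ B ⊓ (powMonoidHom p : A →* A).ker))
        exact hkey (e + 1) a ha (hB a ha)
      · rw [pow_zero, pow_one] at ha
        rw [ha]; exact one_mem _
    · refine ⟨i + 1, fun a => ⟨fun ha => ?_, fun ha => ?_⟩⟩
      · rw [pow_succ', pow_mul]
        exact (hi (a ^ p)).mp ⟨a, ha, rfl⟩
      · obtain ⟨b, hb, hbe⟩ := (hi (a ^ p)).mpr (by rw [← pow_mul, ← pow_succ']; exact ha)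
        have hbe' : b ^ p = a ^ p := hbe
        have h1 : (a * b⁻¹) ^ p = 1 := by rw [mul_pow, inv_pow, hbe', mul_inv_cancel]
        have := B.mul_mem (h _ h1).1 hb
        rwa [inv_mul_cancel_right] at this

/-- a finite abelian group of exponent dividing `p ^ e` lifts into another one when roots lift -/
theorem exists_section [Finite A] {Q : Type*} [CommGroup Q] [Finite Q] [Fact p.Prime] (hQ : IsPGroup p Q)
    (π : A →* Q) (hπ : Function.Surjective π) (e : ℕ) (hA : ∀ a : A, a ^ p ^ e = 1)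
    (hroot : ∀ (q : Q) (k : ℕ), k ≤ e → q ^ p ^ k = 1 → ∃ r : Q, r ^ p ^ (e - k) = q) :
    ∃ s : Q →* A, π.comp s = MonoidHom.id Q := by
  classical
  obtain ⟨ι, hι, n, hn, ⟨φ⟩⟩ := AddCommGroup.equiv_directSum_zmod_of_finite' (Additive Q)
  let g : ι → Q := fun i => Additive.toMul (φ.symm (DirectSum.of _ i 1))
  have hlift : ∀ i, ∃ a : A, π a = g i ∧ a ^ n i = 1 := by
    intro i
    have hgn : g i ^ n i = 1 := by
      show Additive.toMul (φ.symm (DirectSum.of _ i 1)) ^ n i = 1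
      rw [← toMul_nsmul, ← map_nsmul, ← map_nsmul, nsmul_one, ZMod.natCast_self, map_zero, map_zero, toMul_zero]
    have hnp : ∃ k, n i = p ^ k := by
      obtain ⟨j, hj⟩ := hQ (g i)
      have h0 : (p ^ j) • (DirectSum.of (fun i => ZMod (n i)) i 1) = 0 := by
        have h1 : φ (Additive.ofMul (g i ^ p ^ j)) = (p ^ j) • DirectSum.of (fun i => ZMod (n i)) i 1 := by
          rw [ofMul_pow, map_nsmul]
          show p ^ j • φ (φ.symm _) = _
          rw [AddEquiv.apply_symm_apply]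
        rw [← h1, hj, ofMul_one, map_zero]
      rw [← map_nsmul, nsmul_one] at h0
      have h2 := DirectSum.of_injective i (h0.trans (map_zero _).symm)
      obtain ⟨k, -, hk⟩ := (Nat.dvd_prime_pow Fact.out).mp ((ZMod.natCast_eq_zero_iff _ _).mp h2)
      exact ⟨k, hk⟩
    obtain ⟨k, hk⟩ := hnp
    rcases le_or_gt k e with hke | hke
    · obtain ⟨r, hr⟩ := hroot (g i) k hke (by rw [← hk]; exact hgn)
      obtain ⟨b, hb⟩ := hπ r
      refine ⟨b ^ p ^ (e - k), by rw [map_pow, hb, hr], ?_⟩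
      rw [hk, ← pow_mul, ← pow_add, Nat.sub_add_cancel hke]
      exact hA b
    · obtain ⟨b, hb⟩ := hπ (g i)
      refine ⟨b, hb, ?_⟩
      rw [hk, show k = e + (k - e) by omega, pow_add, pow_mul, hA, one_pow]
  choose a ha han using hlift
  let F : (DirectSum ι fun i => ZMod (n i)) →+ Additive A := DirectSum.toAddMonoid fun i =>
    ZMod.lift (n i) ⟨zmultiplesHom _ (Additive.ofMul (a i)), by
      show ((n i : ℤ)) • Additive.ofMul (a i) = 0
      rw [natCast_zsmul, ← ofMul_pow, han, ofMul_one]⟩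
  refine ⟨MonoidHom.mk' (fun q => Additive.toMul (F (φ (Additive.ofMul q)))) (fun x y => by simp [ofMul_mul, map_add]), MonoidHom.ext fun q => ?_⟩
  have hcomp : ((MonoidHom.toAdditive π).comp F) = φ.symm.toAddMonoidHom := by
    refine DirectSum.addHom_ext fun i z => ?_
    obtain ⟨z, rfl⟩ := ZMod.intCast_surjective z
    have h1 : DirectSum.of (fun i => ZMod (n i)) i (z : ZMod (n i)) = z • DirectSum.of (fun i => ZMod (n i)) i 1 := by
      rw [← map_zsmul, zsmul_one]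
    rw [h1, map_zsmul, map_zsmul]
    congr 1
    show Additive.ofMul (π (Additive.toMul (F (DirectSum.of _ i 1)))) = φ.symm (DirectSum.of _ i 1)
    rw [DirectSum.toAddMonoid_of, show (1 : ZMod (n i)) = ((1 : ℤ) : ZMod (n i)) by simp, ZMod.lift_coe]
    show Additive.ofMul (π (Additive.toMul ((1 : ℤ) • Additive.ofMul (a i)))) = _
    rw [one_zsmul, toMul_ofMul, ha]
    simp [g]
  have := DFunLike.congr_fun hcomp (φ (Additive.ofMul q))
  simpa using congrArg Additive.toMul this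

variable [Finite A]

/-- averaging: an invariant subgroup with a retraction has an invariant complement -/
theorem exists_invariant_complement [Fact p.Prime] (hA : IsPGroup p A) (X : Subgroup (MulAut A))
    (hX : (Nat.card X).Coprime p) (C : Subgroup A) (hC : ∀ x ∈ X, ∀ c ∈ C, x c ∈ C) (f : A →* A)
    (hfC : ∀ a, f a ∈ C) (hfid : ∀ c ∈ C, f c = c) :
    ∃ B : Subgroup A, (∀ x ∈ X, ∀ b ∈ B, x b ∈ B) ∧ B ⊓ C = ⊥ ∧ B ⊔ C = ⊤ := by
  classical
  haveI : Fintype ↥X := Fintype.ofFinite _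
  obtain ⟨k, hk⟩ := IsPGroup.iff_card.mp hA
  have hco : (Nat.card X).Coprime (Nat.card A) := by rw [hk]; exact hX.pow_right k
  let g : A →* A := ∏ x : ↥X, ((x : MulAut A).toMonoidHom.comp (f.comp ((x : MulAut A)⁻¹).toMonoidHom))
  have hgC : ∀ a, g a ∈ C := fun a => by
    show (∏ x : ↥X, ((x : MulAut A).toMonoidHom.comp (f.comp ((x : MulAut A)⁻¹).toMonoidHom))) a ∈ C
    rw [MonoidHom.finsetProd_apply]
    exact C.prod_mem fun x _ => hC x x.2 _ (hfC _)
  have hgc : ∀ c ∈ C, g c = c ^ Nat.card X := fun c hc => by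
    show (∏ x : ↥X, ((x : MulAut A).toMonoidHom.comp (f.comp ((x : MulAut A)⁻¹).toMonoidHom))) c = _
    rw [MonoidHom.finsetProd_apply]
    have hx : ∀ x : ↥X, ((x : MulAut A).toMonoidHom.comp (f.comp ((x : MulAut A)⁻¹).toMonoidHom)) c = c := fun x => by
      show (x : MulAut A) (f ((x : MulAut A)⁻¹ c)) = c
      rw [hfid _ (hC _ (X.inv_mem x.2) c hc), MulAut.apply_inv_self]
    rw [Finset.prod_congr rfl fun x _ => hx x, Finset.prod_const, Finset.card_univ, Nat.card_eq_fintype_card]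
  have heq : ∀ (y : ↥X) (a : A), g ((y : MulAut A) a) = (y : MulAut A) (g a) := fun y a => by
    show (∏ x : ↥X, ((x : MulAut A).toMonoidHom.comp (f.comp ((x : MulAut A)⁻¹).toMonoidHom))) _ =
      (y : MulAut A) ((∏ x : ↥X, ((x : MulAut A).toMonoidHom.comp (f.comp ((x : MulAut A)⁻¹).toMonoidHom))) a)
    rw [MonoidHom.finsetProd_apply, MonoidHom.finsetProd_apply, map_prod, ← Equiv.prod_comp (Equiv.mulLeft y)]
    refine Finset.prod_congr rfl fun x _ => ?_
    show ((y * x : ↥X) : MulAut A) (f (((y * x : ↥X) : MulAut A)⁻¹ ((y : MulAut A) a))) = (y : MulAut A) ((x : MulAut A) (f ((x : MulAut A)⁻¹ a)))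
    simp only [Subgroup.coe_mul, MulAut.mul_apply, mul_inv_rev, MulAut.inv_apply_self]
  refine ⟨g.ker, fun x hx b hb => ?_, ?_, ?_⟩
  · rw [MonoidHom.mem_ker] at hb ⊢
    rw [heq ⟨x, hx⟩ b, hb, map_one]
  · refine eq_bot_iff.mpr fun c hc => Subgroup.mem_bot.mpr ?_
    have h := hgc c hc.2
    rw [hc.1] at h
    have h1 : orderOf c ∣ Nat.card X := orderOf_dvd_of_pow_eq_one h.symm
    exact orderOf_eq_one_iff.mp (Nat.eq_one_of_dvd_coprimes hco h1 (orderOf_dvd_natCard c))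
  · refine eq_top_iff.mpr fun a _ => ?_
    obtain ⟨m, hm⟩ := exists_pow_eq_self_of_coprime (x := g a) (n := Nat.card X) (hco.coprime_dvd_right (orderOf_dvd_natCard _))
    have h1 : a * ((g a) ^ m)⁻¹ ∈ g.ker := by
      rw [MonoidHom.mem_ker, map_mul, map_inv, map_pow, hgc _ (hgC a), hm, mul_inv_cancel]
    have := Subgroup.mul_mem_sup h1 (C.pow_mem (hgC a) m)
    rwa [inv_mul_cancel_right] at this

/-- indecomposable implies irreducible socle -/
theorem irreducible_of_indecomposable [Fact p.Prime] (hA : IsPGroup p A) (X : Subgroup (MulAut A))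
    (hX : (Nat.card X).Coprime p)
    (hind : ∀ B C : Subgroup A, (∀ x ∈ X, ∀ b ∈ B, x b ∈ B) → (∀ x ∈ X, ∀ c ∈ C, x c ∈ C) → B ⊓ C = ⊥ → B ⊔ C = ⊤ →
      B = ⊥ ∨ C = ⊥)
    (B : Subgroup A) (hB : ∀ x ∈ X, ∀ b ∈ B, x b ∈ B) (hBp : ∀ b ∈ B, b ^ p = 1) (hB0 : B ≠ ⊥) :
    ∀ a : A, a ^ p = 1 → a ∈ B := by
  classical
  have hpp : p.Prime := Fact.out
  -- exponent
  have hex : ∃ e : ℕ, ∀ a : A, a ^ p ^ e = 1 := by
    obtain ⟨k, hk⟩ := IsPGroup.iff_card.mp hA
    exact ⟨k, fun a => by rw [← hk]; exact pow_card_eq_one'⟩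
  set e := Nat.find hex with he_def
  have he : ∀ a : A, a ^ p ^ e = 1 := Nat.find_spec hex
  have he1 : e ≠ 0 := fun h0 => hB0 (eq_bot_iff.mpr fun b hb => Subgroup.mem_bot.mpr (by simpa [h0] using he b))
  set T := (powMonoidHom (p ^ (e - 1)) : A →* A).range with hT
  have hT0 : T ≠ ⊥ := by
    intro h
    refine Nat.find_min hex (m := e - 1) (by omega) fun a => ?_
    exact Subgroup.mem_bot.mp (h ▸ ⟨a, rfl⟩ : a ^ p ^ (e - 1) ∈ (⊥ : Subgroup A))
  have hTinv : ∀ x ∈ X, ∀ t ∈ T, x t ∈ T := by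
    rintro x _ _ ⟨a, rfl⟩
    exact ⟨x a, (map_pow x a _).symm⟩
  -- a minimal invariant subgroup of `T`
  obtain ⟨W, ⟨hW0, hWT, hW⟩, hWmin⟩ := Set.Finite.exists_minimal
    (Set.toFinite {W : Subgroup A | W ≠ ⊥ ∧ W ≤ T ∧ ∀ x ∈ X, ∀ w ∈ W, x w ∈ W}) ⟨T, hT0, le_rfl, hTinv⟩
  obtain ⟨C, ⟨hC, hCW⟩, hCmax⟩ := Set.Finite.exists_maximal
    (Set.toFinite {C : Subgroup A | (∀ x ∈ X, ∀ c ∈ C, x c ∈ C) ∧ C ⊓ W = ⊥}) ⟨⊥, by simp, bot_inf_eq _⟩
  -- the endomorphisms induced on `A ⧸ C`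
  let S : Set (A ⧸ C →* A ⧸ C) := Set.range fun x : ↥X => QuotientGroup.map C C (x : MulAut A).toMonoidHom (fun c hc => hC x x.2 c hc)
  set π := QuotientGroup.mk' C with hπdef
  have hsurj : Function.Surjective π := QuotientGroup.mk'_surjective C
  have hirr : ∀ D : Subgroup (A ⧸ C), Inv S D → (∀ d ∈ D, d ^ p = 1) → D = ⊥ ∨ ∀ q : A ⧸ C, q ^ p = 1 → q ∈ D := by
    intro D hD hDp
    by_cases hD0 : D = ⊥
    · exact Or.inl hD0
    have hcomap : ∀ (E : Subgroup (A ⧸ C)), Inv S E → E ≠ ⊥ → W.map π ≤ E := by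
      intro E hE hE0
      have hEc : ∀ x ∈ X, ∀ c ∈ E.comap π, x c ∈ E.comap π := fun x hx c hc =>
        hE _ ⟨⟨x, hx⟩, rfl⟩ _ hc
      have hne : E.comap π ⊓ W ≠ ⊥ := fun h => hE0 (by
        have hle := hCmax ⟨hEc, h⟩ (QuotientGroup.le_comap_mk' C E)
        refine eq_bot_iff.mpr fun q hq => Subgroup.mem_bot.mpr ?_
        obtain ⟨a, rfl⟩ := hsurj q
        exact (QuotientGroup.eq_one_iff a).mpr (hle hq))
      have := hWmin ⟨hne, inf_le_right.trans hWT, fun x hx w hw => ⟨hEc x hx w hw.1, hW x hx w hw.2⟩⟩ inf_le_right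
      exact Subgroup.map_le_iff_le_comap.mpr (this.trans inf_le_left)
    refine Or.inr ?_
    -- Maschke inside the elements of order dividing `p`
    let Ω : Subgroup (A ⧸ C) := (powMonoidHom p : A ⧸ C →* A ⧸ C).ker
    have hDΩ : D ≤ Ω := hDp
    have hWD : W.map π ≤ D := hcomap D hD hD0
    have hWπ : ∀ s ∈ S, ∀ w ∈ W.map π, s w ∈ W.map π := by
      rintro _ ⟨x, rfl⟩ _ ⟨w, hw, rfl⟩
      exact ⟨(x : MulAut A) w, hW x x.2 w hw, rfl⟩
    let XQ : ↥X →* MulAut (A ⧸ C) :=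
      { toFun := fun x => QuotientGroup.congr C C (x : MulAut A) (by
          refine le_antisymm ?_ fun c hc => ⟨(x : MulAut A)⁻¹ c, hC _ (X.inv_mem x.2) c hc, MulAut.apply_inv_self A _ c⟩
          rintro _ ⟨c, hc, rfl⟩
          exact hC x x.2 c hc)
        map_one' := MulEquiv.ext fun q => by obtain ⟨a, rfl⟩ := hsurj q; rfl
        map_mul' := fun x y => MulEquiv.ext fun q => by obtain ⟨a, rfl⟩ := hsurj q; rfl }
    let res : ↥X →* MulAut ↥Ω :=
      { toFun := fun x =>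
          { toFun := fun q => ⟨XQ x q, by
              show (XQ x q) ^ p = 1
              rw [← map_pow, show (q : A ⧸ C) ^ p = 1 from q.2, map_one]⟩
            invFun := fun q => ⟨XQ x⁻¹ q, by
              show (XQ x⁻¹ q) ^ p = 1
              rw [← map_pow, show (q : A ⧸ C) ^ p = 1 from q.2, map_one]⟩
            left_inv := fun q => Subtype.ext (by
              show XQ x⁻¹ (XQ x q) = q
              rw [← MulAut.mul_apply, ← map_mul, inv_mul_cancel, map_one]; rfl)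
            right_inv := fun q => Subtype.ext (by
              show XQ x (XQ x⁻¹ q) = q
              rw [← MulAut.mul_apply, ← map_mul, mul_inv_cancel, map_one]; rfl)
            map_mul' := fun a b => Subtype.ext (map_mul (XQ x) _ _) }
        map_one' := MulEquiv.ext fun q => Subtype.ext (by show XQ 1 q = q; rw [map_one]; rfl)
        map_mul' := fun x y => MulEquiv.ext fun q => Subtype.ext (by show XQ (x * y) q = XQ x (XQ y q); rw [map_mul]; rfl) }
    have hΩp : IsPGroup p ↥Ω := fun q => ⟨1, Subtype.ext (by rw [pow_one]; exact q.2)⟩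
    -- a retraction onto `W.map π` inside the elementary group `Ω`
    let πD := QuotientGroup.mk' ((W.map π).subgroupOf Ω)
    obtain ⟨s, hs⟩ := exists_section (hΩp.to_quotient ((W.map π).subgroupOf Ω)) πD (QuotientGroup.mk'_surjective _) 1
      (fun a => Subtype.ext (by rw [pow_one]; exact a.2)) (fun q k hk hq => by
        rcases Nat.le_one_iff_eq_zero_or_eq_one.mp hk with rfl | rfl
        · refine ⟨1, ?_⟩
          rw [pow_zero, pow_one] at hq
          rw [hq, one_pow]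
        · exact ⟨q, by simp⟩)
    let f : ↥Ω →* ↥Ω := MonoidHom.id ↥Ω / s.comp πD
    have hfC : ∀ a, f a ∈ (W.map π).subgroupOf Ω := fun a => by
      show a / s (πD a) ∈ _
      rw [← QuotientGroup.eq_one_iff]
      show πD (a / s (πD a)) = 1
      rw [map_div, show πD (s (πD a)) = πD a from DFunLike.congr_fun hs (πD a), div_self']
    have hfid : ∀ c ∈ (W.map π).subgroupOf Ω, f c = c := fun c hc => by
      show c / s (πD c) = c
      rw [show πD c = 1 from (QuotientGroup.eq_one_iff c).mpr hc, map_one, div_one]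
    obtain ⟨K, hK, hK1, hK2⟩ := exists_invariant_complement hΩp res.range
      (hX.coprime_dvd_left (Subgroup.card_range_dvd res)) ((W.map π).subgroupOf Ω)
      (by rintro _ ⟨x, rfl⟩ c hc; exact hWπ _ ⟨x, rfl⟩ _ hc) f hfC hfid
    have hK0 : K = ⊥ := by
      by_contra hne
      have hKinv : Inv S (K.map Ω.subtype) := by
        rintro _ ⟨x, rfl⟩ _ ⟨k, hk, rfl⟩
        exact ⟨res x k, hK _ ⟨x, rfl⟩ k hk, rfl⟩
      have hWK := hcomap _ hKinv fun h => hne ((Subgroup.map_eq_bot_iff_of_injective _ Ω.subtype_injective).mp h)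
      obtain ⟨w, hw, hw1⟩ := W.bot_or_exists_ne_one.resolve_left hW0
      obtain ⟨k, hk, hke⟩ := hWK ⟨w, hw, rfl⟩
      have h1 : k ∈ K ⊓ (W.map π).subgroupOf Ω := ⟨hk, ⟨w, hw, hke.symm⟩⟩
      rw [hK1, Subgroup.mem_bot] at h1
      rw [h1, map_one] at hke
      refine hw1 (Subgroup.mem_bot.mp (hCW ▸ ?_ : w ∈ (⊥ : Subgroup A)))
      exact ⟨(QuotientGroup.eq_one_iff w).mp hke.symm, hw⟩
    intro q hq
    rw [hK0, bot_sup_eq] at hK2
    exact hWD (Subgroup.mem_subgroupOf.mp (hK2 ▸ Subgroup.mem_top (⟨q, hq⟩ : ↥Ω)))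
  -- the quotient is homocyclic
  have hroot : ∀ (q : A ⧸ C) (k : ℕ), k ≤ e → q ^ p ^ k = 1 → ∃ r : A ⧸ C, r ^ p ^ (e - k) = q := by
    intro q k hk hq
    rcases Nat.eq_zero_or_pos k with rfl | hk0
    · refine ⟨1, ?_⟩
      rw [pow_zero, pow_one] at hq
      rw [hq, one_pow]
    set R := (powMonoidHom (p ^ (e - k)) : A ⧸ C →* A ⧸ C).range
    obtain ⟨i, hi⟩ := omega_of_irreducible S hirr e R (by
      rintro f _ _ ⟨a, rfl⟩
      exact ⟨f a, (map_pow f a _).symm⟩) (by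
      intro b _
      obtain ⟨a, rfl⟩ := hsurj b
      rw [← map_pow, he, map_one])
    obtain ⟨w, hw, hw1⟩ := W.bot_or_exists_ne_one.resolve_left hW0
    obtain ⟨b, hb⟩ := hWT hw
    have hki : k ≤ i := by
      by_contra hlt
      have h1 := (hi (π (b ^ p ^ (e - k)))).mp ⟨π b, (map_pow π b _).symm⟩
      have h2 : π w = 1 := by
        rw [← hb]
        show π (b ^ p ^ (e - 1)) = 1
        have : p ^ (e - 1) = p ^ (e - k) * p ^ i * p ^ (k - 1 - i) := by rw [← pow_add, ← pow_add]; congr 1; omega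
        rw [this, pow_mul, pow_mul, map_pow, map_pow, h1, one_pow]
      exact hw1 (Subgroup.mem_bot.mp (hCW ▸ (⟨(QuotientGroup.eq_one_iff w).mp h2, hw⟩ : w ∈ C ⊓ W)))
    obtain ⟨r, hr⟩ := (hi q).mpr (by
      rw [show i = k + (i - k) by omega, pow_add, pow_mul, hq, one_pow])
    exact ⟨r, hr⟩
  obtain ⟨s, hs⟩ := exists_section (hA.to_quotient C) π hsurj e he hroot
  obtain ⟨B', hB', hB1, hB2⟩ := exists_invariant_complement hA X hX C hC (MonoidHom.id A / s.comp π)
    (fun a => by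
      show a / s (π a) ∈ C
      rw [← QuotientGroup.eq_one_iff]
      show π (a / s (π a)) = 1
      rw [map_div, show π (s (π a)) = π a from DFunLike.congr_fun hs (π a), div_self'])
    (fun c hc => by
      show c / s (π c) = c
      rw [show π c = 1 from (QuotientGroup.eq_one_iff c).mpr hc, map_one, div_one])
  rcases hind B' C hB' hC hB1 hB2 with h | h
  · exfalso
    rw [h, bot_sup_eq] at hB2
    exact hW0 (by rw [hB2, top_inf_eq] at hCW; exact hCW)
  · -- `C = ⊥`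
    subst h
    intro a ha
    rcases hirr (B.map π) (by
        rintro _ ⟨x, rfl⟩ _ ⟨b, hb, rfl⟩
        exact ⟨(x : MulAut A) b, hB x x.2 b hb, rfl⟩) (by
        rintro _ ⟨b, hb, rfl⟩
        rw [← map_pow, hBp b hb, map_one]) with h1 | h1
    · exfalso
      refine hB0 (eq_bot_iff.mpr fun b hb => ?_)
      exact (QuotientGroup.eq_one_iff b).mp (Subgroup.mem_bot.mp (h1 ▸ Subgroup.mem_map_of_mem π hb))
    · obtain ⟨b, hb, hbe⟩ := h1 (π a) (by rw [← map_pow, ha, map_one])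
      have h2 := Subgroup.mem_bot.mp (QuotientGroup.eq.mp hbe)
      rw [← inv_mul_eq_one.mp h2]
      exact hb


/-- Let A be a finite abelian p-group and X a group of automorphisms of A of order prime to p. Call a subgroup of A invariant when every element of X maps it onto itself. Then the following are equivalent: (i) A is not the direct product of two nontrivial invariant subgroups; (ii) every invariant subgroup of A is one of the subgroups Ω_i(A) = {a : a^(p^i) = 1}; (iii) the subgroup Ω₁(A) of elements of order dividing p has no invariant subgroups other than 1 and itself. -/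
theorem result {A : Type*} [CommGroup A] [Finite A] {p : ℕ} [Fact p.Prime] (hA : IsPGroup p A) (X : Subgroup (MulAut A)) (hX : (Nat.card X).Coprime p) : ((¬ ∃ B C : Subgroup A, B ≠ ⊥ ∧ C ≠ ⊥ ∧ (∀ x ∈ X, B.map x.toMonoidHom = B) ∧ (∀ x ∈ X, C.map x.toMonoidHom = C) ∧ B ⊓ C = ⊥ ∧ B ⊔ C = ⊤) ↔ (∀ B : Subgroup A, (∀ x ∈ X, B.map x.toMonoidHom = B) → ∃ i : ℕ, ∀ a : A, a ∈ B ↔ a ^ p ^ i = 1)) ∧ ((∀ B : Subgroup A, (∀ x ∈ X, B.map x.toMonoidHom = B) → ∃ i : ℕ, ∀ a : A, a ∈ B ↔ a ^ p ^ i = 1) ↔ (∀ B : Subgroup A, (∀ x ∈ X, B.map x.toMonoidHom = B) → (∀ b ∈ B, b ^ p = 1) → B = ⊥ ∨ ∀ a : A, a ∈ B ↔ a ^ p = 1)) := by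
  classical
  have hiff : ∀ B : Subgroup A, (∀ x ∈ X, B.map x.toMonoidHom = B) ↔ ∀ x ∈ X, ∀ b ∈ B, x b ∈ B := fun B =>
    ⟨fun h x hx b hb => h x hx ▸ ⟨b, hb, rfl⟩, fun h x hx => Subgroup.eq_of_le_of_card_ge
      (by rintro _ ⟨b, hb, rfl⟩; exact h x hx b hb) (le_of_eq (Subgroup.card_map_of_injective x.injective).symm)⟩
  let S : Set (A →* A) := (fun x : MulAut A => x.toMonoidHom) '' X
  have hInv : ∀ B : Subgroup A, (∀ x ∈ X, ∀ b ∈ B, x b ∈ B) → Inv S B := fun B h => by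
    rintro _ ⟨x, hx, rfl⟩ b hb; exact h x hx b hb
  have hInv' : ∀ B : Subgroup A, Inv S B → ∀ x ∈ X, ∀ b ∈ B, x b ∈ B := fun B h x hx b hb => h _ ⟨x, hx, rfl⟩ b hb
  have h32 : (∀ B : Subgroup A, (∀ x ∈ X, B.map x.toMonoidHom = B) → (∀ b ∈ B, b ^ p = 1) → B = ⊥ ∨ ∀ a : A, a ∈ B ↔ a ^ p = 1) →
      ∀ B : Subgroup A, (∀ x ∈ X, B.map x.toMonoidHom = B) → ∃ i : ℕ, ∀ a : A, a ∈ B ↔ a ^ p ^ i = 1 := by
    intro h B hB
    obtain ⟨k, hk⟩ := IsPGroup.iff_card.mp hA
    refine omega_of_irreducible S (fun D hD hDp => ?_) k B (hInv B ((hiff B).mp hB)) fun b _ => by rw [← hk]; exact pow_card_eq_one'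
    exact (h D ((hiff D).mpr (hInv' D hD)) hDp).imp id fun h' a ha => (h' a).mpr ha
  have h23 : (∀ B : Subgroup A, (∀ x ∈ X, B.map x.toMonoidHom = B) → ∃ i : ℕ, ∀ a : A, a ∈ B ↔ a ^ p ^ i = 1) →
      ∀ B : Subgroup A, (∀ x ∈ X, B.map x.toMonoidHom = B) → (∀ b ∈ B, b ^ p = 1) → B = ⊥ ∨ ∀ a : A, a ∈ B ↔ a ^ p = 1 := by
    intro h B hB hBp
    obtain ⟨i, hi⟩ := h B hB
    rcases Nat.eq_zero_or_pos i with rfl | hi0
    · refine Or.inl (eq_bot_iff.mpr fun b hb => Subgroup.mem_bot.mpr ?_)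
      simpa using (hi b).mp hb
    · refine Or.inr fun a => ⟨hBp a, fun ha => (hi a).mpr ?_⟩
      rw [show i = 1 + (i - 1) by omega, pow_add, pow_one, pow_mul, ha, one_pow]
  refine ⟨⟨fun h => h32 ?_, fun h => ?_⟩, h23, h32⟩
  · intro B hB hBp
    refine or_iff_not_imp_left.mpr fun hB0 a => ⟨hBp a, ?_⟩
    refine irreducible_of_indecomposable hA X hX ?_ B ((hiff B).mp hB) hBp hB0 a
    intro B' C hB' hC h1 h2
    by_contra hcon
    rw [not_or] at hcon
    exact h ⟨B', C, hcon.1, hcon.2, (hiff B').mpr hB', (hiff C).mpr hC, h1, h2⟩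
  · rintro ⟨B, C, hB0, hC0, hB, hC, h1, h2⟩
    have hnp : Nontrivial A := by
      obtain ⟨b, -, hb⟩ := B.bot_or_exists_ne_one.resolve_left hB0
      exact nontrivial_of_ne b 1 hb
    obtain ⟨i, hi⟩ := h B hB
    obtain ⟨j, hj⟩ := h C hC
    obtain ⟨k, hk0, hk⟩ := hA.nontrivial_iff_card.mp hnp
    obtain ⟨z, hz⟩ := exists_prime_orderOf_dvd_card' (G := A) p (hk ▸ dvd_pow_self p (by omega))
    have hmem : ∀ (D : Subgroup A) (l : ℕ), D ≠ ⊥ → (∀ a, a ∈ D ↔ a ^ p ^ l = 1) → z ∈ D := by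
      intro D l hD hl
      refine (hl z).mpr ?_
      rcases Nat.eq_zero_or_pos l with rfl | hl0
      · exact absurd (eq_bot_iff.mpr fun d hd => Subgroup.mem_bot.mpr (by simpa using (hl d).mp hd)) hD
      · rw [show l = 1 + (l - 1) by omega, pow_add, pow_one, pow_mul,
          orderOf_dvd_iff_pow_eq_one.mp hz.dvd, one_pow]
    have hz1 : z ∈ B ⊓ C := ⟨hmem B i hB0 hi, hmem C j hC0 hj⟩
    rw [h1, Subgroup.mem_bot] at hz1
    rw [hz1, orderOf_one] at hz
    exact (Fact.out : p.Prime).ne_one hz.symm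

end Cfsg.Agent.S3775
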