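import Cfsg.Statements.S3778
import Mathlib

set_option autoImplicit false
open Cfsg
open scoped commutatorElement

namespace Cfsg.Agent.S3778

/-- If G is a finite p-group in which every conjugacy class has at most p^b elements (every element has centralizer of index at most p^b), then G is abelian when b = 0, and when b ≥ 1 its nilpotency class c satisfies (c − 1)(p − 1) < bp, that is c < bp/(p − 1) + 1, and hence c ≤ 2b. -/
theorem result {G : Type*} [Group G] [Finite G] {p : ℕ} [Fact p.Prime] (hG : IsPGroup p G) (b : ℕ) (hb : ∀ x : G, (Subgroup.centralizer ({x} : Set G)).index ≤ p ^ b) : ∃ c : ℕ, (⊤ : Subgroup G).lowerCentralSeries c = ⊥ ∧ (b ≠ 0 → (c - 1) * (p - 1) < b * p ∧ c ≤ 2 * b) ∧ (b = 0 → c ≤ 1) := by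
  classical
  have hp : p.Prime := Fact.out
  haveI : Group.IsNilpotent G := hG.isNilpotent
  obtain ⟨n0, hn0⟩ := Subgroup.nilpotent_iff_lowerCentralSeries.mp (inferInstance : Group.IsNilpotent G)
  have hex : ∃ k, (⊤ : Subgroup G).lowerCentralSeries k = ⊥ := ⟨n0, hn0⟩
  refine ⟨Nat.find hex, Nat.find_spec hex, ?_, ?_⟩
  swap
  · intro hb0
    refine Nat.find_le ?_
    rw [Subgroup.lowerCentralSeries_succ, Subgroup.lowerCentralSeries_zero, Subgroup.commutator_eq_bot_iff_le_centralizer]
    intro x _
    rw [Subgroup.mem_centralizer_iff]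
    intro y _
    have h := hb x
    rw [hb0, pow_zero] at h
    have h1 : (Subgroup.centralizer ({x} : Set G)).index = 1 :=
      le_antisymm h (Nat.pos_of_ne_zero Subgroup.index_ne_zero_of_finite)
    exact Subgroup.mem_centralizer_singleton_iff.mp (Subgroup.index_eq_one.mp h1 ▸ Subgroup.mem_top y)
  intro hb0
  set c := Nat.find hex with hc
  suffices hmain : (c - 1) * (p - 1) < b * p by
    refine ⟨hmain, ?_⟩
    by_contra hlt
    have h2 : 2 * b * (p - 1) ≤ (c - 1) * (p - 1) := Nat.mul_le_mul_right _ (by omega)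
    have h3 : b * p ≤ 2 * b * (p - 1) := by
      rw [mul_comm 2 b, mul_assoc]
      exact Nat.mul_le_mul_left _ (by have := hp.two_le; omega)
    omega
  set L := fun i => (⊤ : Subgroup G).lowerCentralSeries i with hL
  have hLn : ∀ i, (L i).Normal := fun i => inferInstance
  have hLsucc : ∀ i, L (i + 1) = ⁅L i, (⊤ : Subgroup G)⁆ := fun i => Subgroup.lowerCentralSeries_succ _ _
  have hLanti : ∀ i, L (i + 1) ≤ L i := fun i => by rw [hLsucc]; haveI := hLn i; exact Subgroup.commutator_le_left _ _
  have hne : ∀ i, i < c → L i ≠ ⊥ := fun i hi => Nat.find_min hex hi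
  have hproper : ∀ i, i + 1 < c → L (i + 2) ≠ L (i + 1) := by
    intro i hi he
    refine hne (i + 1) hi ?_
    have : ∀ j, L (i + 1) ≤ L j := by
      intro j
      induction j with
      | zero => show _ ≤ (⊤ : Subgroup G).lowerCentralSeries 0; rw [Subgroup.lowerCentralSeries_zero]; exact le_top
      | succ j ih => rw [← he, hLsucc (i + 1), hLsucc j]; exact Subgroup.commutator_mono ih le_rfl
    exact eq_bot_iff.mpr ((this c).trans (Nat.find_spec hex).le)
  -- the two-step centralisers
  let C : ℕ → Subgroup G := fun i =>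
    { carrier := {g | ∀ a ∈ L i, ⁅a, g⁆ ∈ L (i + 2)}
      one_mem' := fun a _ => by rw [commutatorElement_one_right]; exact one_mem _
      mul_mem' := fun {g h} hg hh a ha => by
        rw [show ⁅a, g * h⁆ = ⁅a, g⁆ * (g * ⁅a, h⁆ * g⁻¹) by simp only [commutatorElement_def]; group]
        exact mul_mem (hg a ha) ((hLn (i + 2)).conj_mem _ (hh a ha) g)
      inv_mem' := fun {g} hg a ha => by
        rw [show ⁅a, g⁻¹⁆ = g⁻¹ * (⁅a, g⁆)⁻¹ * g⁻¹⁻¹ by simp only [commutatorElement_def]; group]
        exact (hLn (i + 2)).conj_mem _ (inv_mem (hg a ha)) _ }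
  have hC : ∀ i, i + 1 < c → p * Nat.card (C i) ≤ Nat.card G := by
    intro i hi
    have hne' : C i ≠ ⊤ := fun h => hproper i hi (le_antisymm (hLanti (i + 1)) (by
      rw [hLsucc i, Subgroup.commutator_le]
      intro a ha g _
      exact (h ▸ Subgroup.mem_top g : g ∈ C i) a ha))
    obtain ⟨k, hk⟩ := hG.index (C i)
    rw [← (C i).card_mul_index, hk, mul_comm]
    refine Nat.mul_le_mul_left _ (Nat.le_self_pow (fun h0 => hne' (Subgroup.index_eq_one.mp (by rw [hk, h0, pow_zero]))) p)
  -- the weight of an element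
  let w : G → ℕ := fun g => ((Finset.range (c - 1)).filter (fun i => g ∉ C i)).card
  have hw : ∀ g, w g ≤ b := by
    intro g
    set Z := Subgroup.centralizer ({g} : Set G)
    let S : ℕ → Subgroup G := fun i => L i ⊔ Z
    have hkey : ∀ k, k ≤ c → p ^ ((Finset.range k).filter (fun i => g ∉ C i ∧ i + 1 < c)).card ≤ (S k).index := by
      intro k
      induction k with
      | zero => intro _; simpa using Nat.one_le_iff_ne_zero.mpr Subgroup.index_ne_zero_of_finite
      | succ k ih =>
        intro hk
        have hle : S (k + 1) ≤ S k := sup_le_sup_right (hLanti k) _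
        have hih := ih (by omega)
        have hmul := Subgroup.relIndex_mul_index hle
        obtain ⟨j, hj⟩ : ∃ j, (S (k + 1)).relIndex (S k) = p ^ j := by
          obtain ⟨i, hi⟩ := hG.index (S (k + 1))
          obtain ⟨j, -, hj⟩ := (Nat.dvd_prime_pow hp).mp (hi ▸ Dvd.intro _ hmul : (S (k + 1)).relIndex (S k) ∣ p ^ i)
          exact ⟨j, hj⟩
        rw [Finset.range_add_one, Finset.filter_insert]
        split_ifs with hcond
        · rw [Finset.card_insert_of_notMem (by simp), pow_succ, ← hmul, mul_comm]
          refine Nat.mul_le_mul ?_ hih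
          rw [hj]
          refine Nat.le_self_pow (fun h0 => hcond.1 ?_) p
          intro a ha
          have hsub : S k ≤ S (k + 1) := Subgroup.relIndex_eq_one.mp (by rw [hj, h0, pow_zero])
          have ha' := hsub (Subgroup.mem_sup_left ha)
          haveI := hLn (k + 1)
          obtain ⟨m, hm, z, hz, rfl⟩ := Subgroup.mem_sup_of_normal_left.mp ha'
          have hzg : ⁅z, g⁆ = 1 := commutatorElement_eq_one_iff_mul_comm.mpr (Subgroup.mem_centralizer_singleton_iff.mp hz)
          rw [show ⁅m * z, g⁆ = m * ⁅z, g⁆ * m⁻¹ * ⁅m, g⁆ by simp only [commutatorElement_def]; group, hzg, mul_one,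
            mul_inv_cancel, one_mul, hLsucc (k + 1)]
          exact Subgroup.commutator_mem_commutator hm (Subgroup.mem_top g)
        · rw [← hmul]
          exact hih.trans (Nat.le_mul_of_pos_left _ (by rw [hj]; exact pow_pos hp.pos j))
    have h1 := hkey c le_rfl
    have h2 : (S c).index ≤ p ^ b := by
      have : S c = Z := by
        show L c ⊔ Z = Z
        rw [show L c = ⊥ from Nat.find_spec hex, bot_sup_eq]
      rw [this]; exact hb g
    refine (Nat.pow_le_pow_iff_right hp.one_lt).mp (le_trans ?_ (h1.trans h2))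
    refine Nat.pow_le_pow_right hp.pos (Finset.card_le_card ?_)
    intro i hi
    simp only [Finset.mem_filter, Finset.mem_range] at hi ⊢
    exact ⟨by omega, hi.2, by omega⟩
  haveI := Fintype.ofFinite G
  -- double counting
  have hsum : (c - 1) * ((p - 1) * Nat.card G) ≤ p * ∑ g : G, w g := by
    have hswap : ∑ g : G, w g = ∑ i ∈ Finset.range (c - 1), (Finset.univ.filter (fun g : G => g ∉ C i)).card := by
      simp only [w, Finset.card_filter]
      exact Finset.sum_comm
    rw [hswap, Finset.mul_sum, ← smul_eq_mul (c - 1), ← Finset.card_range (c - 1), ← Finset.sum_const]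
    rw [Finset.card_range]
    refine Finset.sum_le_sum fun i hi => ?_
    rw [Finset.mem_range] at hi
    have h1 := hC i (by omega)
    have h2 : (Finset.univ.filter (fun g : G => g ∈ C i)).card + (Finset.univ.filter (fun g : G => g ∉ C i)).card = Nat.card G := by
      rw [Finset.card_filter_add_card_filter_not, Finset.card_univ, Nat.card_eq_fintype_card]
    have h3 : (Finset.univ.filter (fun g : G => g ∈ C i)).card = Nat.card (C i) := by
      rw [Nat.card_eq_fintype_card, Fintype.card_subtype]
    obtain ⟨q, rfl⟩ := Nat.exists_eq_add_of_le hp.one_le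
    rw [h3] at h2
    simp only [Nat.add_sub_cancel_left]
    nlinarith
  have hone : w 1 = 0 := Finset.card_eq_zero.mpr (Finset.filter_eq_empty_iff.mpr fun i _ h => h (one_mem _))
  have hlt : ∑ g : G, w g < ∑ _g : G, b :=
    Finset.sum_lt_sum (fun g _ => hw g) ⟨1, Finset.mem_univ _, by rw [hone]; exact Nat.pos_of_ne_zero hb0⟩
  rw [Finset.sum_const, Finset.card_univ, ← Nat.card_eq_fintype_card, smul_eq_mul] at hlt
  by_contra hge
  rw [not_lt] at hge
  have h4 : p * ∑ g : G, w g < p * (Nat.card G * b) := Nat.mul_lt_mul_of_pos_left hlt hp.pos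
  have h5 : b * p * Nat.card G ≤ (c - 1) * (p - 1) * Nat.card G := Nat.mul_le_mul_right _ hge
  nlinarith

end Cfsg.Agent.S3778
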